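import Cfsg.Statements.S0393
import Cfsg.Agent.Lib.Golay.LeechBasis

set_option autoImplicit false
open Cfsg

namespace Cfsg.Agent.S0393

open Cfsg.Agent.Lib.Golay.LeechBasis Cfsg.Agent.Lib.Helper93.Golay

theorem sqNorm_add (x y : GolayPt → ℤ) : sqNorm (x + y) = sqNorm x + sqNorm y + 2 * dotInt x y := by
  unfold sqNorm dotInt
  simp only [Pi.add_apply]
  rw [Finset.mul_sum, ← Finset.sum_add_distrib, ← Finset.sum_add_distrib]
  apply Finset.sum_congr rfl
  intros; ring

theorem eight_dvd_dot {x y : GolayPt → ℤ} (hx : x ∈ leechLattice) (hy : y ∈ leechLattice) :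
    (8 : ℤ) ∣ dotInt x y := by
  have h1 := Cfsg.Agent.S0392.result x hx
  have h2 := Cfsg.Agent.S0392.result y hy
  have h3 := Cfsg.Agent.S0392.result (x + y) (add_mem hx hy)
  rw [sqNorm_add] at h3
  omega

theorem expand {x : GolayPt → ℤ} (hx : x ∈ leechLattice) :
    x = ∑ j : Fin 24, (dotInt x (avec j) / 8) • bvec j := by
  funext q
  have key : ∀ j, dotInt x (avec j) = 8 * (dotInt x (avec j) / 8) := fun j =>
    (Int.mul_ediv_cancel' (eight_dvd_dot hx (avec_mem j))).symm
  apply mul_left_cancel₀ (show (8 : ℤ) ≠ 0 by norm_num)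
  simp only [Finset.sum_apply, Pi.smul_apply, smul_eq_mul, Finset.mul_sum]
  calc 8 * x q = ∑ p, x p * (if p = q then 8 else 0) := by
        simp [Finset.sum_ite_eq', mul_comm]
    _ = ∑ p, x p * ∑ j, avec j p * bvec j q := by simp_rw [sum_avec_bvec]
    _ = ∑ j, dotInt x (avec j) * bvec j q := by
        unfold dotInt
        simp_rw [Finset.mul_sum, Finset.sum_mul]
        rw [Finset.sum_comm]
        apply Finset.sum_congr rfl; intro j _
        apply Finset.sum_congr rfl; intro p _
        ring
    _ = ∑ j, 8 * (dotInt x (avec j) / 8 * bvec j q) := by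
        apply Finset.sum_congr rfl; intro j _
        rw [← mul_assoc, ← key j]

/-- the basis matrix, indexed by `Fin 24` -/
def M'' : Matrix (Fin 24) (Fin 24) ℤ := fun i j => bvec i (ptOf j)

/-- the matrix of `T` -/
def N : Matrix GolayPt GolayPt ℤ := fun q p => bvec (ptIdx p) q

theorem N_eq : N = (M''.submatrix ptIdx ptIdx).transpose := by
  ext q p
  simp [N, M'', Matrix.submatrix, Matrix.transpose, ptOf_ptIdx]

set_option maxRecDepth 100000 in
theorem M''_tri : M''.BlockTriangular OrderDual.toDual := by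
  intro i j hij
  have : ∀ i j : Fin 24, i < j → bvec i (ptOf j) = 0 := by decide +kernel
  exact this i j (by simpa using hij)

set_option maxRecDepth 100000 in
theorem M''_diag : ∏ i : Fin 24, M'' i i = 2 ^ 36 := by
  have : ∏ i : Fin 24, bvec i (ptOf i) = 2 ^ 36 := by decide +kernel
  exact this

theorem det_N : N.det = 2 ^ 36 := by
  rw [N_eq, Matrix.det_transpose]
  have := Matrix.det_submatrix_equiv_self ptEquiv M''
  simp only [ptEquiv, Equiv.coe_fn_mk] at this
  rw [this, Matrix.det_of_lowerTriangular M'' M''_tri, M''_diag]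

/-- the linear map `c ↦ ∑ p, c p • bvec (ptIdx p)` -/
noncomputable def T : (GolayPt → ℤ) →ₗ[ℤ] (GolayPt → ℤ) := Matrix.toLin' N

theorem T_apply (c : GolayPt → ℤ) : T c = ∑ p, c p • bvec (ptIdx p) := by
  funext q
  simp [T, Matrix.toLin'_apply, Matrix.mulVec, dotProduct, N, Finset.sum_apply, mul_comm]

theorem T_injective : Function.Injective T := by
  rw [← LinearMap.ker_eq_bot, LinearMap.ker_eq_bot']
  intro c hc
  have h0 : N.det ≠ 0 := by rw [det_N]; norm_num
  exact Matrix.eq_zero_of_mulVec_eq_zero h0 (by simpa [T, Matrix.toLin'_apply] using hc)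

theorem range_T : LinearMap.range T = AddSubgroup.toIntSubmodule leechLattice := by
  ext x
  simp only [LinearMap.mem_range]
  constructor
  · rintro ⟨c, rfl⟩
    rw [T_apply]
    show _ ∈ leechLattice
    exact sum_mem fun p _ => zsmul_mem (bvec_mem _) _
  · intro hx
    have hx' : x ∈ leechLattice := hx
    refine ⟨fun p => dotInt x (avec (ptIdx p)) / 8, ?_⟩
    rw [T_apply]
    conv_rhs => rw [expand hx']
    exact Equiv.sum_comp ptEquiv (fun j => (dotInt x (avec j) / 8) • bvec j)

theorem result : Cfsg.leechLattice.index = 2 ^ 36 := by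
  let e0 : (GolayPt → ℤ) ≃ₗ[ℤ] LinearMap.range T := LinearEquiv.ofInjective T T_injective
  let e : (GolayPt → ℤ) ≃ₗ[ℤ] AddSubgroup.toIntSubmodule leechLattice :=
    e0.trans (LinearEquiv.ofEq _ _ range_T)
  have h := Submodule.natAbs_det_equiv (AddSubgroup.toIntSubmodule leechLattice) e
  have hT : (AddSubgroup.toIntSubmodule leechLattice).subtype ∘ₗ
      AddMonoidHom.toIntLinearMap (e : (GolayPt → ℤ) →+ AddSubgroup.toIntSubmodule leechLattice) = T := by
    ext c : 1
    rfl
  rw [hT] at h
  have hdet : LinearMap.det T = 2 ^ 36 := by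
    rw [T, LinearMap.det_toLin', det_N]
  rw [hdet] at h
  have h2 : leechLattice.index = Nat.card ((GolayPt → ℤ) ⧸ AddSubgroup.toIntSubmodule leechLattice) := rfl
  rw [h2, ← h]
  norm_num

end Cfsg.Agent.S0393
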