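import Cfsg.Statements.S1571
import Cfsg.Agent.Lib.Conway.Basic
import Cfsg.Agent.Lib.Golay.Octads
import Cfsg.Agent.S0364

set_option autoImplicit false
open scoped Pointwise
open Cfsg

namespace Cfsg.Agent.S1571

open Cfsg.Agent.Lib.Conway Cfsg.Agent.Lib.Helper93.Leech Cfsg.Agent.Lib.Helper93.Golay

/-- the property of stabilising the standard cross -/
def Stab (g : Co0) : Prop :=
  ∀ v : leechLattice, (v : Vec) ∈ stdCross → ((g • v : leechLattice) : Vec) ∈ stdCross

theorem fr_mem_stdCross (i : GolayPt) : ((fr i : leechLattice) : Vec) ∈ stdCross :=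
  ⟨i, 8, Or.inl rfl, rfl⟩

theorem cls_mem_CS {x : Vec} (hx : x ∈ leechLattice) (k : ℤ) : cls x k ∈ CS := by
  rw [mem_leechLattice_iff, mem_leechSet_iff] at hx
  obtain ⟨m, -, -, h⟩ := hx
  exact h k

/-- twice the indicator of a code word is in the lattice -/
theorem two_ind_mem {b : Finset GolayPt} (hb : b ∈ CS) :
    (fun p => if p ∈ b then (2 : ℤ) else 0) ∈ leechLattice := by
  rw [mem_leechLattice_iff, mem_leechSet_iff']
  refine ⟨0, fun i => ?_, ?_, ?_⟩
  · split <;> norm_num
  · rw [Finset.sum_ite_mem, Finset.univ_inter, Finset.sum_const]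
    obtain ⟨r, hr⟩ := four_dvd_card_of_mem_supports hb
    rw [hr]
    simp only [nsmul_eq_mul, Nat.cast_mul, Nat.cast_ofNat]
    omega
  · have : cls (fun p => if p ∈ b then (2 : ℤ) else 0) (0 + 2) = b := by
      ext i
      rw [mem_cls]
      by_cases hi : i ∈ b <;> simp [hi]
    rw [this]
    exact hb

/-- the vector `(-3, 1^23)` -/
def v0 : Vec := fun p => if p = none then -3 else 1

set_option maxRecDepth 100000 in
theorem v0_cond : Cfsg.Agent.Lib.Golay.LeechBasis.LeechCond v0 1 := by decide +kernel

theorem v0_mem : v0 ∈ leechLattice := Cfsg.Agent.Lib.Golay.LeechBasis.mem_of_leechCond v0_cond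

theorem v0_mod (p : GolayPt) : v0 p % 4 = 1 := by
  unfold v0
  split <;> norm_num

theorem fr_injective : Function.Injective fr := by
  intro i j h
  have := congrArg (fun v : leechLattice => (v : Vec) i) h
  simp only [fr_coe, Pi.single_eq_same, Pi.single_apply] at this
  by_contra hij
  rw [if_neg hij] at this
  omega

section
variable (g : Co0) (H : Stab g)
include H

theorem exists_img (i : GolayPt) : ∃ (j : GolayPt) (s : ℤ), (s = 8 ∨ s = -8) ∧
    ((g • fr i : leechLattice) : Vec) = Pi.single j s := H (fr i) (fr_mem_stdCross i)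

/-- the underlying map on points -/
noncomputable def tau (i : GolayPt) : GolayPt := (exists_img g H i).choose
/-- the signs -/
noncomputable def sg (i : GolayPt) : ℤ := (exists_img g H i).choose_spec.choose

theorem sg_spec (i : GolayPt) : sg g H i = 8 ∨ sg g H i = -8 :=
  (exists_img g H i).choose_spec.choose_spec.1

theorem img_spec (i : GolayPt) : ((g • fr i : leechLattice) : Vec) = Pi.single (tau g H i) (sg g H i) :=
  (exists_img g H i).choose_spec.choose_spec.2

theorem co0_injective : Function.Injective (fun v : leechLattice => g • v) :=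
  MulAction.injective g

theorem tau_injective : Function.Injective (tau g H) := by
  intro i j hij
  by_contra hne
  have hi := img_spec g H i
  have hj := img_spec g H j
  rw [hij] at hi
  rcases sg_spec g H i with si | si <;> rcases sg_spec g H j with sj | sj
  · have : g • fr i = g • fr j := Subtype.ext (by rw [hi, hj, si, sj])
    exact hne (fr_injective (co0_injective g H this))
  · have : g • fr i = g • (-fr j) := by
      rw [co0_neg]
      apply Subtype.ext
      rw [hi, AddSubgroup.coe_neg, hj, si, sj, ← Pi.single_neg]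
      norm_num
    have h2 := co0_injective g H this
    have := congrArg (fun v : leechLattice => (v : Vec) i) h2
    simp only [fr_coe, AddSubgroup.coe_neg, Pi.neg_apply, Pi.single_eq_same, Pi.single_apply,
      if_neg hne] at this
    omega
  · have : g • fr i = g • (-fr j) := by
      rw [co0_neg]
      apply Subtype.ext
      rw [hi, AddSubgroup.coe_neg, hj, si, sj, ← Pi.single_neg]
    have h2 := co0_injective g H this
    have := congrArg (fun v : leechLattice => (v : Vec) i) h2
    simp only [fr_coe, AddSubgroup.coe_neg, Pi.neg_apply, Pi.single_eq_same, Pi.single_apply,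
      if_neg hne] at this
    omega
  · have : g • fr i = g • fr j := Subtype.ext (by rw [hi, hj, si, sj])
    exact hne (fr_injective (co0_injective g H this))

/-- the underlying permutation -/
noncomputable def sig : Equiv.Perm GolayPt :=
  Equiv.ofBijective (tau g H) (Finite.injective_iff_bijective.mp (tau_injective g H))

theorem sig_apply (i : GolayPt) : sig g H i = tau g H i := rfl

/-- the sign set -/
noncomputable def cset : Finset GolayPt :=
  Finset.univ.filter (fun j => sg g H ((sig g H).symm j) = -8)

theorem act_coord (v : leechLattice) (k : GolayPt) :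
    8 * ((g • v : leechLattice) : Vec) (sig g H k) = (v : Vec) k * sg g H k := by
  have h8 : (8 : ℤ) • (g • v) = ∑ i, (v : Vec) i • (g • fr i) := by
    rw [← co0_zsmul, eight_smul_eq v, co0_sum]
    apply Finset.sum_congr rfl
    intro i _
    rw [co0_zsmul]
  have := congrArg (fun w : leechLattice => (w : Vec) (sig g H k)) h8
  simp only [AddSubgroup.coe_zsmul, Pi.smul_apply, smul_eq_mul, AddSubgroup.val_finsetSum,
    Finset.sum_apply] at this
  rw [this, Finset.sum_eq_single k]
  · rw [img_spec g H k, sig_apply, Pi.single_eq_same]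
  · intro i _ hik
    rw [img_spec g H i, sig_apply, Pi.single_apply, if_neg, mul_zero]
    intro e
    exact hik (tau_injective g H e).symm
  · intro h; exact absurd (Finset.mem_univ k) h

theorem act_eq (v : leechLattice) :
    ((g • v : leechLattice) : Vec) = signedPerm (sig g H) (cset g H) v := by
  funext j
  rw [signedPerm_apply]
  have h := act_coord g H v ((sig g H).symm j)
  rw [Equiv.apply_symm_apply] at h
  by_cases hj : j ∈ cset g H
  · rw [if_pos hj]
    rw [cset, Finset.mem_filter] at hj
    rw [hj.2] at h
    omega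
  · rw [if_neg hj]
    rw [cset, Finset.mem_filter] at hj
    have : sg g H ((sig g H).symm j) = 8 := by
      rcases sg_spec g H ((sig g H).symm j) with h' | h'
      · exact h'
      · exact absurd ⟨Finset.mem_univ _, h'⟩ hj
    rw [this] at h
    omega

theorem sig_mem : sig g H ∈ M24 := by
  show sig g H ∈ MulAction.stabilizer (Equiv.Perm GolayPt) CS
  rw [MulAction.mem_stabilizer_set' (Set.toFinite _)]
  intro b hb
  set vb : leechLattice := ⟨_, two_ind_mem hb⟩ with hvb
  have hy := cls_mem_CS (g • vb).2 2
  have : cls ((g • vb : leechLattice) : Vec) 2 = sig g H • b := by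
    ext j
    rw [mem_cls, act_eq g H vb, signedPerm_apply, Finset.mem_smul_finset]
    have hmem : (∃ y ∈ b, sig g H • y = j) ↔ (sig g H).symm j ∈ b := by
      constructor
      · rintro ⟨y, hy, rfl⟩
        simpa [Equiv.Perm.smul_def] using hy
      · intro h
        exact ⟨(sig g H).symm j, h, by simp [Equiv.Perm.smul_def]⟩
    rw [hmem]
    simp only [hvb]
    by_cases h1 : (sig g H).symm j ∈ b <;> by_cases h2 : j ∈ cset g H <;> simp [h1, h2]
  rw [this] at hy
  exact hy

theorem cset_mem : cset g H ∈ CS := by
  set vv : leechLattice := ⟨v0, v0_mem⟩ with hvv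
  have hy := cls_mem_CS (g • vv).2 3
  have : cls ((g • vv : leechLattice) : Vec) 3 = cset g H := by
    ext j
    rw [mem_cls, act_eq g H vv, signedPerm_apply]
    have := v0_mod ((sig g H).symm j)
    simp only [hvv]
    by_cases h2 : j ∈ cset g H
    · simp only [h2, if_true, iff_true]
      omega
    · simp only [h2, if_false, iff_false]
      omega
  rw [this] at hy
  exact hy

end

theorem part1 (g : Co0) (H : Stab g) :
    ∃ f ∈ golayMonomialMaps, ∀ v : leechLattice, ((g • v : leechLattice) : Vec) = f (v : Vec) :=
  ⟨signedPerm (sig g H) (cset g H), ⟨sig g H, sig_mem g H, cset g H, cset_mem g H, rfl⟩,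
    act_eq g H⟩

theorem signedPerm_single (σ : Equiv.Perm GolayPt) (c : Finset GolayPt) (i : GolayPt) (s : ℤ) :
    signedPerm σ c (Pi.single i s) = Pi.single (σ i) (if σ i ∈ c then -s else s) := by
  funext j
  rw [signedPerm_apply]
  by_cases hj : j = σ i
  · subst hj
    simp
  · have : σ.symm j ≠ i := fun e => hj (by rw [← e]; simp)
    simp [hj, this]

theorem mono_stab (σ : Equiv.Perm GolayPt) (c : Finset GolayPt) (hσ : σ ∈ M24) (hc : c ∈ CS) :
    Stab (mono σ c hσ hc) := by
  rintro v ⟨i, s, hs, hv⟩
  rw [mono_smul, hv, signedPerm_single]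
  refine ⟨σ i, _, ?_, rfl⟩
  rcases hs with rfl | rfl <;> split <;> simp

/-- the parametrisation of the stabiliser by `M24 × CS` -/
noncomputable def param (p : M24 × CS) : {g : Co0 // Stab g} :=
  ⟨mono p.1.1 p.2.1 p.1.2 p.2.2, mono_stab _ _ _ _⟩

theorem param_injective : Function.Injective param := by
  rintro ⟨⟨σ, hσ⟩, ⟨c, hc⟩⟩ ⟨⟨σ', hσ'⟩, ⟨c', hc'⟩⟩ h
  have h1 : mono σ c hσ hc = mono σ' c' hσ' hc' := congrArg Subtype.val h
  have key : ∀ i, Pi.single (σ i) (if σ i ∈ c then (-8 : ℤ) else 8)
      = (Pi.single (σ' i) (if σ' i ∈ c' then (-8 : ℤ) else 8) : Vec) := by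
    intro i
    have := congrArg (fun g : Co0 => ((g • fr i : leechLattice) : Vec)) h1
    simp only [mono_smul, fr_coe, signedPerm_single] at this
    exact this
  have hσσ : σ = σ' := by
    apply Equiv.ext
    intro i
    have := congrFun (key i) (σ i)
    rw [Pi.single_eq_same, Pi.single_apply] at this
    by_contra hne
    rw [if_neg hne] at this
    split at this <;> omega
  subst hσσ
  have hcc : c = c' := by
    ext j
    have := congrFun (key (σ.symm j)) j
    simp only [Equiv.apply_symm_apply, Pi.single_eq_same] at this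
    by_cases h1 : j ∈ c <;> by_cases h2 : j ∈ c' <;> simp [h1, h2] at this ⊢
  subst hcc
  rfl

theorem param_surjective : Function.Surjective param := by
  rintro ⟨g, H⟩
  refine ⟨⟨⟨sig g H, sig_mem g H⟩, ⟨cset g H, cset_mem g H⟩⟩, ?_⟩
  apply Subtype.ext
  apply co0_ext
  intro v
  apply Subtype.ext
  show ((mono (sig g H) (cset g H) (sig_mem g H) (cset_mem g H) • v : leechLattice) : Vec) = _
  rw [mono_smul, act_eq g H v]

theorem card_CS : Nat.card CS = 4096 := by
  have : Nat.card CS = Nat.card (golayCode : Set (GolayPt → ZMod 2)) :=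
    Nat.card_image_of_injective support₂_injective _
  rw [this]
  exact Cfsg.Agent.Lib.Golay.natCard_golayCode

/-- The stabiliser of the standard cross in the automorphism group of the lattice is the monomial group of the code: each of its elements acts as a signed permutation with permutation part in the code's group and sign set a codeword, and it has order 4096 · 244823040. -/
theorem result : (∀ g : ↥Cfsg.Co0, (∀ v : ↥Cfsg.leechLattice, (v : Cfsg.GolayPt → ℤ) ∈ Cfsg.stdCross → ((g • v : ↥Cfsg.leechLattice) : Cfsg.GolayPt → ℤ) ∈ Cfsg.stdCross) → ∃ f ∈ Cfsg.golayMonomialMaps, ∀ v : ↥Cfsg.leechLattice, ((g • v : ↥Cfsg.leechLattice) : Cfsg.GolayPt → ℤ) = f (v : Cfsg.GolayPt → ℤ)) ∧ Nat.card {g : ↥Cfsg.Co0 // (∀ v : ↥Cfsg.leechLattice, (v : Cfsg.GolayPt → ℤ) ∈ Cfsg.stdCross → ((g • v : ↥Cfsg.leechLattice) : Cfsg.GolayPt → ℤ) ∈ Cfsg.stdCross)} = 4096 * 244823040 := by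
  refine ⟨part1, ?_⟩
  have e := Nat.card_congr (Equiv.ofBijective param ⟨param_injective, param_surjective⟩)
  rw [Nat.card_prod, card_CS, Cfsg.Agent.S0364.result] at e
  show Nat.card {g : Co0 // Stab g} = _
  rw [← e]

end Cfsg.Agent.S1571
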