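import Cfsg.Statements.S0378
import Cfsg.Agent.Lib.Helper7.M24Trans

set_option autoImplicit false
open Cfsg

namespace Cfsg.Agent.S0378

open Cfsg.Agent.Lib.Helper7

/-- A two-point stabiliser in the group of the length-24 code has order 443520 = 2^7·3^2·5·7·11. -/
theorem result (p q : Cfsg.GolayPt) (hpq : p ≠ q) : Nat.card ↥(MulAction.stabilizer Cfsg.M24 p ⊓ MulAction.stabilizer Cfsg.M24 q) = 443520 := by
  obtain ⟨σ, hσ, h1, h2⟩ := exists_M24_map_zero_one p q hpq
  rw [card_stabilizer_subgroup₂, ← h1, ← h2]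
  have := card_inf_stabilizer_smul₂ M24 hσ (pt 0) (pt 1)
  rw [Equiv.Perm.smul_def, Equiv.Perm.smul_def] at this
  rw [this]
  exact card_fixK_2

end Cfsg.Agent.S0378
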