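import Cfsg.Statements.S0379
import Cfsg.Agent.Lib.Helper7.M24Four
import Cfsg.Agent.Lib.Helper7.TwoOrbit
import Cfsg.Agent.S0378

set_option autoImplicit false
open Cfsg

namespace Cfsg.Agent.S0379

open Cfsg.Agent.Lib.Helper7

/-- the 22 points other than `p` and `q`, with the action of the two-point stabiliser -/
def omega (p q : GolayPt) :
    SubMulAction ↥(MulAction.stabilizer Cfsg.M24 p ⊓ MulAction.stabilizer Cfsg.M24 q) GolayPt where
  carrier := {x | x ≠ p ∧ x ≠ q}
  smul_mem' := by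
    rintro g x ⟨hx1, hx2⟩
    have hp : g.1 ∈ MulAction.stabilizer Cfsg.M24 p := g.2.1
    have hq : g.1 ∈ MulAction.stabilizer Cfsg.M24 q := g.2.2
    rw [MulAction.mem_stabilizer_iff] at hp hq
    constructor
    · intro h
      apply hx1
      have h1 : g.1.1 x = g.1.1 p := h.trans hp.symm
      exact g.1.1.injective h1
    · intro h
      apply hx2
      have h1 : g.1.1 x = g.1.1 q := h.trans hq.symm
      exact g.1.1.injective h1

theorem mem_omega (p q x : GolayPt) : x ∈ omega p q ↔ x ≠ p ∧ x ≠ q := Iff.rfl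

/-- A two-point stabiliser in the group of the length-24 code is simple. -/
theorem result (p q : Cfsg.GolayPt) (hpq : p ≠ q) : IsSimpleGroup ↥(MulAction.stabilizer Cfsg.M24 p ⊓ MulAction.stabilizer Cfsg.M24 q) := by
  classical
  let _ : Fintype ↥(omega p q) := Fintype.ofFinite _
  have hfaith : FaithfulSMul ↥(MulAction.stabilizer Cfsg.M24 p ⊓ MulAction.stabilizer Cfsg.M24 q)
      ↥(omega p q) := by
    refine ⟨fun {g h} hgh => ?_⟩
    apply Subtype.ext
    apply Subtype.ext
    apply Equiv.ext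
    intro x
    have hgp : g.1 ∈ MulAction.stabilizer Cfsg.M24 p := g.2.1
    have hgq : g.1 ∈ MulAction.stabilizer Cfsg.M24 q := g.2.2
    have hhp : h.1 ∈ MulAction.stabilizer Cfsg.M24 p := h.2.1
    have hhq : h.1 ∈ MulAction.stabilizer Cfsg.M24 q := h.2.2
    rw [MulAction.mem_stabilizer_iff] at hgp hgq hhp hhq
    by_cases hx : x = p
    · subst hx
      have hg' : (g.1.1) x = x := hgp
      have hh' : (h.1.1) x = x := hhp
      rw [hg', hh']
    by_cases hx' : x = q
    · subst hx'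
      have hg' : (g.1.1) x = x := hgq
      have hh' : (h.1.1) x = x := hhq
      rw [hg', hh']
    · have := hgh ⟨x, ⟨hx, hx'⟩⟩
      exact congrArg Subtype.val this
  have h2trans : MulAction.IsMultiplyPretransitive
      ↥(MulAction.stabilizer Cfsg.M24 p ⊓ MulAction.stabilizer Cfsg.M24 q) ↥(omega p q) 2 := by
    rw [MulAction.is_two_pretransitive_iff]
    intro a b c d hab hcd
    have ha := a.2
    have hb := b.2
    have hc := c.2
    have hd := d.2
    rw [mem_omega] at ha hb hc hd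
    have hab' : a.1 ≠ b.1 := fun h => hab (Subtype.ext h)
    have hcd' : c.1 ≠ d.1 := fun h => hcd (Subtype.ext h)
    obtain ⟨σ, hσ, s1, s2, s3, s4⟩ := m24_four_trans' p q a.1 b.1 p q c.1 d.1
      ⟨hpq, Ne.symm ha.1, Ne.symm hb.1, Ne.symm ha.2, Ne.symm hb.2, hab'⟩
      ⟨hpq, Ne.symm hc.1, Ne.symm hd.1, Ne.symm hc.2, Ne.symm hd.2, hcd'⟩
    have hmem : (⟨σ, hσ⟩ : ↥Cfsg.M24) ∈
        MulAction.stabilizer Cfsg.M24 p ⊓ MulAction.stabilizer Cfsg.M24 q := by
      constructor
      · show (⟨σ, hσ⟩ : ↥Cfsg.M24) ∈ MulAction.stabilizer Cfsg.M24 p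
        rw [MulAction.mem_stabilizer_iff]
        exact s1
      · show (⟨σ, hσ⟩ : ↥Cfsg.M24) ∈ MulAction.stabilizer Cfsg.M24 q
        rw [MulAction.mem_stabilizer_iff]
        exact s2
    refine ⟨⟨⟨σ, hσ⟩, hmem⟩, Subtype.ext s3, Subtype.ext s4⟩
  have hprim : MulAction.IsPreprimitive
      ↥(MulAction.stabilizer Cfsg.M24 p ⊓ MulAction.stabilizer Cfsg.M24 q) ↥(omega p q) :=
    MulAction.isPreprimitive_of_is_two_pretransitive h2trans
  have hΩ : Fintype.card ↥(omega p q) = 2 * 11 := by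
    rw [← Nat.card_eq_fintype_card]
    have h1 : Nat.card ↥(omega p q) = Nat.card {x : GolayPt // x ≠ p ∧ x ≠ q} := rfl
    rw [h1, Nat.card_eq_fintype_card, Fintype.card_subtype]
    have h2 : (Finset.univ.filter (fun x : GolayPt => x ≠ p ∧ x ≠ q)) =
        (Finset.univ : Finset GolayPt) \ {p, q} := by
      ext x
      simp
    rw [h2, Finset.card_sdiff_of_subset (Finset.subset_univ _), Finset.card_pair hpq]
    have : Fintype.card GolayPt = 24 := by
      simp [GolayPt]
    rw [Finset.card_univ, this]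
  have hcard : Nat.card ↥(MulAction.stabilizer Cfsg.M24 p ⊓ MulAction.stabilizer Cfsg.M24 q)
      = 11 * 40320 := Cfsg.Agent.S0378.result p q hpq
  refine isSimpleGroup_of_two_orbits (Ω := ↥(omega p q)) 11 5 40320 (by norm_num) (by norm_num)
    hΩ hcard (by norm_num) (by norm_num) ?_
  intro k hk1 hk2 hk3
  have hk : k ≤ 20 := Nat.le_of_dvd (by norm_num) hk1
  interval_cases k <;> simp_all
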