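import Cfsg.Statements.S0138
import Cfsg.Agent.Lib.Helper3.Eigen

set_option autoImplicit false
open Cfsg

namespace Cfsg.Agent.S0138

open scoped ComplexConjugate

/-- A character value has absolute value equal to the degree exactly when the group element acts by a scalar. -/
theorem result {G : Type*} [Group G] [Finite G] {V : Type*} [AddCommGroup V] [Module ℂ V] [FiniteDimensional ℂ V] (ρ : Representation ℂ G V) (g : G) : ‖ρ.character g‖ = (Module.finrank ℂ V : ℝ) ↔ ∃ ω : ℂ, ρ g = ω • (LinearMap.id : V →ₗ[ℂ] V) := by
  classical
  obtain ⟨b, μ, h1, h2⟩ := Cfsg.Agent.Lib.Helper3.exists_eigenbasis_rep ρ g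
  have hnorm : ∀ i, ‖μ i‖ = 1 := fun i =>
    Complex.norm_eq_one_of_pow_eq_one (h2 i) (orderOf_pos g).ne'
  constructor
  · intro h
    rw [Cfsg.Agent.Lib.Helper3.character_eq_sum_eigen ρ g b μ h1] at h
    by_cases hn : Module.finrank ℂ V = 0
    · refine ⟨0, ?_⟩
      apply b.ext
      intro i
      exact (Fin.elim0 (hn ▸ i))
    · set s := ∑ i, μ i with hs
      have hspos : (0 : ℝ) < ‖s‖ := by
        rw [h]
        exact_mod_cast Nat.pos_of_ne_zero hn
      have hs0 : s ≠ 0 := norm_pos_iff.mp hspos
      set u : ℂ := s / (‖s‖ : ℂ) with hu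
      have hun : ‖u‖ = 1 := by
        rw [hu, norm_div, Complex.norm_real, norm_norm, div_self hspos.ne']
      have hu0 : u ≠ 0 := by
        intro h0
        rw [h0, norm_zero] at hun
        exact zero_ne_one hun
      have hsum : ∑ i, μ i * conj u = (Fintype.card (Fin (Module.finrank ℂ V)) : ℂ) := by
        rw [← Finset.sum_mul, ← hs]
        have : s * conj u = (‖s‖ : ℂ) := by
          rw [hu, map_div₀, Complex.conj_ofReal, mul_div_assoc', Complex.mul_conj,
            Complex.normSq_eq_norm_sq]
          push_cast
          field_simp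
        rw [this, h]
        simp
      have hone := Cfsg.Agent.Lib.Helper3.eq_one_of_norm_one_of_sum_eq_card
        (fun i => μ i * conj u) (fun i => by
          rw [norm_mul, hnorm i, one_mul, Complex.norm_conj, hun]) hsum
      refine ⟨u, ?_⟩
      apply b.ext
      intro i
      have hi : μ i = u := by
        have := hone i
        have hcu : conj u = u⁻¹ := (Complex.inv_eq_conj hun).symm
        rw [hcu] at this
        field_simp at this
        exact this
      rw [h1 i, hi]
      simp
  · rintro ⟨ω, hω⟩
    by_cases hn : Module.finrank ℂ V = 0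
    · have : ρ.character g = 0 := by
        rw [Cfsg.Agent.Lib.Helper3.character_eq_sum_eigen ρ g b μ h1]
        apply Finset.sum_eq_zero
        intro i _
        exact (Fin.elim0 (hn ▸ i))
      rw [this, hn]
      simp
    · have hpos : 0 < Module.finrank ℂ V := Nat.pos_of_ne_zero hn
      have hω1 : μ ⟨0, hpos⟩ = ω := by
        have := h1 ⟨0, hpos⟩
        rw [hω] at this
        simp only [LinearMap.smul_apply, LinearMap.id_coe, id_eq] at this
        have h3 : (ω - μ ⟨0, hpos⟩) • b ⟨0, hpos⟩ = 0 := by
          rw [sub_smul, this, sub_self]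
        rcases smul_eq_zero.mp h3 with h4 | h4
        · exact (sub_eq_zero.mp h4).symm
        · exact absurd h4 (b.ne_zero _)
      have : ρ.character g = ω * (Module.finrank ℂ V : ℂ) := by
        rw [Representation.character, hω, map_smul, LinearMap.trace_id]
        simp
      rw [this, norm_mul, ← hω1, hnorm]
      simp

end Cfsg.Agent.S0138
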