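import Cfsg.Statements.S0368
import Cfsg.Agent.Lib.Helper7.DodecadOrbit

set_option autoImplicit false
open Cfsg
open scoped Pointwise

namespace Cfsg.Agent.S0368

open Cfsg.Agent.Lib.Helper7

/-- The permutation group preserving the length-24 code is transitive on dodecads. -/
theorem result (d d' : Finset Cfsg.GolayPt) (hd : d ∈ Cfsg.dodecads) (hd' : d' ∈ Cfsg.dodecads) : ∃ g : Cfsg.M24, g • d = d' := by
  obtain ⟨σ, hσ, h1⟩ := dodecad_orbit d hd
  obtain ⟨τ, hτ, h2⟩ := dodecad_orbit d' hd'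
  refine ⟨⟨τ * σ⁻¹, M24.mul_mem (genSub_le hτ) (M24.inv_mem (genSub_le hσ))⟩, ?_⟩
  rw [Subgroup.smul_def]
  show (τ * σ⁻¹) • d = d'
  rw [← h1, mul_smul, inv_smul_smul, h2]

end Cfsg.Agent.S0368
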