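import Cfsg.Statements.S0395
import Cfsg.Agent.Lib.Golay.LeechCount

set_option autoImplicit false
open Cfsg

namespace Cfsg.Agent.S0395

open Cfsg.Agent.Lib.Golay.LeechCount

set_option maxRecDepth 100000 in
theorem total_eq : total (gen (VK K8 0)) (gen (VK K8 1)) (gen (VK K8 2)) (gen (VK K8 3)) 48 = 16773120 := by
  decide +kernel

/-- Exactly 16773120 lattice vectors have sum of squares 48. -/
theorem result : {x : Cfsg.GolayPt → ℤ | x ∈ Cfsg.leechLattice ∧ Cfsg.sqNorm x = 48}.ncard = 16773120 := by
  have h := ncard_norm_eq 48 (by norm_num)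
  rw [total_eq] at h
  exact_mod_cast h

end Cfsg.Agent.S0395
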