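import Cfsg.Statements.S1569
import Cfsg.Agent.Lib.Golay.LeechGram

set_option autoImplicit false
open scoped Pointwise
open Cfsg

namespace Cfsg.Agent.S1569

open Cfsg.Agent.Lib.Golay.LeechGram Cfsg.Agent.Lib.Golay.Cross48

/-- The cross through a lattice vector of customary norm 8 has exactly 48 members. -/
theorem result (x : Cfsg.GolayPt → ℤ) (hx : x ∈ Cfsg.leechLattice) (hxn : Cfsg.sqNorm x = 64) : (Cfsg.cross x).ncard = 48 := by
  obtain ⟨c, rfl⟩ := exists_Tf hx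
  have hc8 : Qf Bm c = 8 := by
    rw [sqNorm_Tf] at hxn
    omega
  rw [← card_cross hyp c hc8, ← Set.ncard_image_of_injective _ Tf_injective]
  congr 1
  ext y
  simp only [cross, Set.mem_image, Set.mem_ofPred_eq]
  constructor
  · rintro ⟨hy, hn, hz⟩
    obtain ⟨d, rfl⟩ := exists_Tf hy
    refine ⟨d, ⟨?_, (cong_iff c d).mp hz⟩, rfl⟩
    rw [hxn, sqNorm_Tf] at hn
    omega
  · rintro ⟨d, ⟨hd, hcd⟩, rfl⟩
    refine ⟨Tf_mem d, ?_, (cong_iff c d).mpr hcd⟩
    rw [hxn, sqNorm_Tf, hd]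
    rfl

end Cfsg.Agent.S1569
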