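import Cfsg.Statements.S5592
import Cfsg.Agent.Lib.Helper93.Leech

set_option autoImplicit false
open Cfsg

namespace Cfsg.Agent.S5592

/-- In the Leech lattice (integer coordinates, sum of squares equal to 8 times the customary norm, so the shortest non-zero vectors have sum of squares 32): if two distinct vectors of sum of squares at most 64 are congruent modulo twice the lattice, then either they are negatives of each other, or both have sum of squares 64 and they are orthogonal. -/
theorem result (x y : Cfsg.GolayPt → ℤ) (hx : x ∈ Cfsg.leechLattice) (hy : y ∈ Cfsg.leechLattice) (hxy : x ≠ y) (hxn : Cfsg.sqNorm x ≤ 64) (hyn : Cfsg.sqNorm y ≤ 64) (hc : (∃ z ∈ Cfsg.leechLattice, x - y = 2 • z)) :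
    x = -y ∨ (Cfsg.sqNorm x = 64 ∧ Cfsg.sqNorm y = 64 ∧ Cfsg.dotInt x y = 0) := by
  obtain ⟨z, hz, hxyz⟩ := hc
  have hsub : Cfsg.sqNorm (x - y) = Cfsg.sqNorm x + Cfsg.sqNorm y - 2 * Cfsg.dotInt x y := by
    simp only [Cfsg.sqNorm, Cfsg.dotInt, Pi.sub_apply]
    rw [← Finset.sum_add_distrib, Finset.mul_sum, ← Finset.sum_sub_distrib]
    refine Finset.sum_congr rfl fun i _ => ?_
    ring
  have hadd : Cfsg.sqNorm (x + y) = Cfsg.sqNorm x + Cfsg.sqNorm y + 2 * Cfsg.dotInt x y := by
    simp only [Cfsg.sqNorm, Cfsg.dotInt, Pi.add_apply]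
    rw [← Finset.sum_add_distrib, Finset.mul_sum, ← Finset.sum_add_distrib]
    refine Finset.sum_congr rfl fun i _ => ?_
    ring
  have hsmul : ∀ v : Cfsg.GolayPt → ℤ, Cfsg.sqNorm (2 • v) = 4 * Cfsg.sqNorm v := by
    intro v
    simp only [Cfsg.sqNorm, Pi.smul_apply, smul_eq_mul]
    rw [Finset.mul_sum]
    refine Finset.sum_congr rfl fun i _ => ?_
    ring
  by_cases hneg : x = -y
  · exact Or.inl hneg
  · right
    have hz0 : z ≠ 0 := by
      rintro rfl
      rw [smul_zero, sub_eq_zero] at hxyz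
      exact hxy hxyz
    have hz' : z + y ∈ Cfsg.leechLattice := Cfsg.leechLattice.add_mem hz hy
    have hxy' : x + y = 2 • (z + y) := by
      have : x = y + 2 • z := by rw [← hxyz]; abel
      rw [this, smul_add, two_smul, two_smul]
      abel
    have hz'0 : z + y ≠ 0 := by
      intro h
      rw [h, smul_zero] at hxy'
      exact hneg (eq_neg_of_add_eq_zero_left hxy')
    have h1 := Cfsg.Agent.Lib.Helper93.Leech.sqNorm_ge_of_mem_leechLattice hz hz0
    have h2 := Cfsg.Agent.Lib.Helper93.Leech.sqNorm_ge_of_mem_leechLattice hz' hz'0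
    have e1 : Cfsg.sqNorm (x - y) = 4 * Cfsg.sqNorm z := by rw [hxyz, hsmul]
    have e2 : Cfsg.sqNorm (x + y) = 4 * Cfsg.sqNorm (z + y) := by rw [hxy', hsmul]
    rw [hsub] at e1
    rw [hadd] at e2
    refine ⟨by linarith, by linarith, by linarith⟩

end Cfsg.Agent.S5592
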