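import Cfsg.Statements.S0279
import Cfsg.Agent.Lib.Helper39.Laws2

set_option autoImplicit false
set_option linter.unusedSectionVars false
set_option linter.unusedSimpArgs false
open Cfsg

namespace Cfsg.Agent.S0279

open Cfsg.Agent.Lib.Helper39.Laws Matrix Function

variable {F : Type*} [Field F]

theorem diag_mem_SU {n q : ℕ} {i k : Fin n} (hik : i ≠ k) (a : F) (ha : a ≠ 0)
    (hnorm : a * a ^ q = 1) :
    Matrix.SpecialLinearGroup.diag2n hik a ha ∈ Cfsg.SU n F q := by
  rw [mem_SU_iff]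
  intro u v
  unfold Cfsg.hermForm
  apply Finset.sum_congr rfl
  intro t _
  have hcoe : ((Matrix.SpecialLinearGroup.diag2n hik a ha : Matrix.SpecialLinearGroup (Fin n) F) :
      Matrix (Fin n) (Fin n) F) = diagonal (fun k' ↦ if k' = i then a else if k' = k then a⁻¹ else 1) :=
    Matrix.SpecialLinearGroup.diag2n_coe hik a ha
  rw [hcoe, Matrix.mulVec_diagonal, Matrix.mulVec_diagonal, mul_pow]
  have hd : ∀ t : Fin n, (if t = i then a else if t = k then a⁻¹ else 1) *
      (if t = i then a else if t = k then a⁻¹ else 1) ^ q = 1 := by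
    intro t
    split_ifs
    · exact hnorm
    · rw [inv_pow, ← mul_inv, hnorm, inv_one]
    · simp
  calc _ = ((if t = i then a else if t = k then a⁻¹ else 1) *
      (if t = i then a else if t = k then a⁻¹ else 1) ^ q) * (u t * v t ^ q) := by ring
    _ = u t * v t ^ q := by rw [hd, one_mul]

/-- a matrix commuting with enough elements of SU is scalar. -/
theorem scalar_of_commute {n q : ℕ} (hn : 3 ≤ n) (a : F) (ha : a ≠ 0) (ha1 : a ≠ 1)
    (hnorm : a * a ^ q = 1) (A : Matrix.SpecialLinearGroup (Fin n) F)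
    (hA : ∀ B ∈ Cfsg.SU n F q, B * A = A * B) :
    ∀ i j, (A : Matrix (Fin n) (Fin n) F) i j = if i = j then (A : Matrix (Fin n) (Fin n) F) ⟨0, by omega⟩ ⟨0, by omega⟩ else 0 := by
  have third : ∀ i j : Fin n, ∃ k : Fin n, k ≠ i ∧ k ≠ j := by
    intro i j
    by_contra hcon
    push Not at hcon
    have h0 := hcon ⟨0, by omega⟩
    have h1 := hcon ⟨1, by omega⟩
    have h2 := hcon ⟨2, by omega⟩
    simp only [ne_eq, Fin.ext_iff] at h0 h1 h2
    omega
  -- off-diagonal entries vanish
  have hoff : ∀ i j : Fin n, i ≠ j → (A : Matrix (Fin n) (Fin n) F) i j = 0 := by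
    intro i j hij
    obtain ⟨k, hki, hkj⟩ := third i j
    have h1 := hA _ (diag_mem_SU (q := q) hki.symm a ha hnorm)
    have h2 := congrArg (fun M : Matrix.SpecialLinearGroup (Fin n) F =>
      (M : Matrix (Fin n) (Fin n) F) i j) h1
    simp only [Matrix.SpecialLinearGroup.coe_mul, Matrix.SpecialLinearGroup.diag2n_coe,
      Matrix.diagonal_mul, Matrix.mul_diagonal] at h2
    simp only [if_true, hij.symm, hkj.symm, if_false, mul_one] at h2
    have h3 : (a - 1) * (A : Matrix (Fin n) (Fin n) F) i j = 0 := by linear_combination h2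
    rcases mul_eq_zero.mp h3 with h | h
    · exact absurd (sub_eq_zero.mp h) ha1
    · exact h
  -- diagonal entries agree
  have hdiag : ∀ i j : Fin n, i ≠ j → (A : Matrix (Fin n) (Fin n) F) i i =
      (A : Matrix (Fin n) (Fin n) F) j j := by
    intro i j hij
    obtain ⟨k, hki, hkj⟩ := third i j
    let τ : Equiv.Perm (Fin n) := Equiv.swap i j * Equiv.swap j k
    have hτ : τ ∈ alternatingGroup (Fin n) := by
      rw [Equiv.Perm.mem_alternatingGroup, map_mul, Equiv.Perm.sign_swap hij,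
        Equiv.Perm.sign_swap hkj.symm]
      decide
    have hτi : τ i = j := by
      show Equiv.swap i j (Equiv.swap j k i) = j
      rw [Equiv.swap_apply_of_ne_of_ne hij hki.symm, Equiv.swap_apply_left]
    have h1 := hA _ (permSL_mem_SU n q ⟨τ, hτ⟩)
    have h2 := congrArg (fun M : Matrix.SpecialLinearGroup (Fin n) F =>
      ((M : Matrix (Fin n) (Fin n) F) *ᵥ (Pi.single i 1)) j) h1
    simp only [Matrix.SpecialLinearGroup.coe_mul, ← Matrix.mulVec_mulVec, permSL_mulVec] at h2
    have hinv : (⟨τ, hτ⟩ : alternatingGroup (Fin n)).1⁻¹ j = i := by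
      rw [Equiv.Perm.inv_eq_iff_eq]
      exact hτi.symm
    simp only [Function.comp_apply, hinv, Matrix.mulVec_single, MulOpposite.op_one, one_smul,
      Matrix.col_apply] at h2
    -- h2 : A i i = (A *ᵥ (single i 1 ∘ τ⁻¹)) j
    have h3 : ((A : Matrix (Fin n) (Fin n) F) *ᵥ ((Pi.single i (1 : F) : Fin n → F) ∘
        ⇑((⟨τ, hτ⟩ : alternatingGroup (Fin n)).1⁻¹))) j = (A : Matrix (Fin n) (Fin n) F) j j := by
      rw [Matrix.mulVec, dotProduct, Finset.sum_eq_single j]
      · have hinv' : (Equiv.symm τ) j = i := hinv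
        simp [hinv']
      · intro b _ hb
        rw [hoff j b hb.symm, zero_mul]
      · intro h; exact absurd (Finset.mem_univ _) h
    rw [h3] at h2
    exact h2
  intro i j
  by_cases hij : i = j
  · rw [if_pos hij, ← hij]
    by_cases hi0 : i = ⟨0, by omega⟩
    · rw [hi0]
    · exact hdiag i _ hi0
  · rw [if_neg hij]
    exact hoff i j hij


theorem smul_one_mem_SU {n q : ℕ} (l : F) (hl : l * l ^ q = 1)
    (A : Matrix.SpecialLinearGroup (Fin n) F)
    (hA : (A : Matrix (Fin n) (Fin n) F) = l • (1 : Matrix (Fin n) (Fin n) F)) :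
    A ∈ Cfsg.SU n F q := by
  rw [mem_SU_iff]
  intro u v
  rw [hA]
  rw [Matrix.smul_mulVec, Matrix.smul_mulVec, Matrix.one_mulVec, Matrix.one_mulVec]
  unfold Cfsg.hermForm
  apply Finset.sum_congr rfl
  intro t _
  simp only [Pi.smul_apply, smul_eq_mul, mul_pow]
  calc _ = (l * l ^ q) * (u t * v t ^ q) := by ring
    _ = _ := by rw [hl, one_mul]

/-- The centre of SU_n(q), n at least 3, has order gcd(n, q+1). -/
theorem result {F : Type*} [Field F] [Fintype F] {q : ℕ} (hF : Fintype.card F = q ^ 2) (n : ℕ) (hn : 3 ≤ n) : Nat.card (Subgroup.center (Cfsg.SU n F q)) = Nat.gcd n (q + 1) := by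
  classical
  obtain ⟨σ, hσ, hσσ, -, ⟨x, hx⟩, -⟩ := herm_field_facts hF
  have hq2 : 2 ≤ q := by
    have h1 : 1 < Fintype.card F := Fintype.one_lt_card
    rw [hF] at h1
    by_contra hcon
    have : q ≤ 1 := by omega
    have : q ^ 2 ≤ 1 ^ 2 := Nat.pow_le_pow_left this 2
    omega
  have hx0 : x ≠ 0 := by
    rintro rfl
    exact hx (map_zero σ)
  have hσx0 : σ x ≠ 0 := by
    intro h
    apply hx0
    rw [← hσσ x, h, map_zero]
  set a : F := x / σ x with ha_def
  have ha0 : a ≠ 0 := div_ne_zero hx0 hσx0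
  have ha1 : a ≠ 1 := by
    intro h
    rw [ha_def, div_eq_one_iff_eq hσx0] at h
    exact hx h.symm
  have hanorm : a * a ^ q = 1 := by
    rw [← hσ, ha_def, map_div₀, hσσ]
    field_simp
  set d := Nat.gcd n (q + 1) with hd
  have hdn : d ∣ n := Nat.gcd_dvd_left _ _
  have hdq : d ∣ q + 1 := Nat.gcd_dvd_right _ _
  set K : Subgroup Fˣ := (powMonoidHom d : Fˣ →* Fˣ).ker with hK
  have hKcard : Nat.card K = d := by
    rw [hK, IsCyclic.card_powMonoidHom_ker, Nat.card_eq_fintype_card, Fintype.card_units, hF]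
    apply Nat.gcd_eq_right
    have : q ^ 2 - 1 = (q + 1) * (q - 1) := by
      obtain ⟨t, rfl⟩ : ∃ t, q = t + 1 := ⟨q - 1, by omega⟩
      simp only [Nat.add_sub_cancel]
      ring_nf
      omega
    rw [this]
    exact Dvd.dvd.mul_right hdq _
  have hKpow : ∀ l : K, ((l : Fˣ) : F) ^ n = 1 ∧ ((l : Fˣ) : F) * ((l : Fˣ) : F) ^ q = 1 := by
    intro l
    have h1 : (l : Fˣ) ^ d = 1 := l.2
    have h2 : ((l : Fˣ) : F) ^ d = 1 := by
      rw [← Units.val_pow_eq_pow_val, h1, Units.val_one]
    obtain ⟨c, hc⟩ := hdn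
    obtain ⟨c', hc'⟩ := hdq
    refine ⟨by rw [hc, pow_mul, h2, one_pow], ?_⟩
    rw [← pow_succ', hc', pow_mul, h2, one_pow]
  have hdet : ∀ l : K, (((l : Fˣ) : F) • (1 : Matrix (Fin n) (Fin n) F)).det = 1 := by
    intro l
    rw [Matrix.det_smul, Matrix.det_one, mul_one, Fintype.card_fin, (hKpow l).1]
  let ψ : K → Subgroup.center (Cfsg.SU n F q) := fun l =>
    ⟨⟨⟨((l : Fˣ) : F) • (1 : Matrix (Fin n) (Fin n) F), hdet l⟩,
      smul_one_mem_SU _ (hKpow l).2 _ rfl⟩, by
      rw [Subgroup.mem_center_iff]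
      intro g
      apply Subtype.ext
      apply Subtype.ext
      show (g.1 : Matrix (Fin n) (Fin n) F) * (((l : Fˣ) : F) • (1 : Matrix (Fin n) (Fin n) F)) =
        (((l : Fˣ) : F) • (1 : Matrix (Fin n) (Fin n) F)) * (g.1 : Matrix (Fin n) (Fin n) F)
      rw [Matrix.mul_smul, Matrix.smul_mul, Matrix.mul_one, Matrix.one_mul]⟩
  have hψcoe : ∀ l : K, (((ψ l : Subgroup.center (Cfsg.SU n F q)) : Cfsg.SU n F q) :
      Matrix.SpecialLinearGroup (Fin n) F).1 = ((l : Fˣ) : F) • (1 : Matrix (Fin n) (Fin n) F) :=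
    fun l => rfl
  have hψinj : Injective ψ := by
    intro l m hlm
    have h1 := congrArg (fun z : Subgroup.center (Cfsg.SU n F q) =>
      ((z : Cfsg.SU n F q) : Matrix.SpecialLinearGroup (Fin n) F).1 ⟨0, by omega⟩ ⟨0, by omega⟩) hlm
    simp only [hψcoe, Matrix.smul_apply, Matrix.one_apply_eq, smul_eq_mul, mul_one] at h1
    exact Subtype.ext (Units.ext h1)
  have hψsurj : Surjective ψ := by
    intro z
    set A : Matrix.SpecialLinearGroup (Fin n) F := ((z : Cfsg.SU n F q) :
      Matrix.SpecialLinearGroup (Fin n) F) with hAdef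
    have hAmem : A ∈ Cfsg.SU n F q := (z : Cfsg.SU n F q).2
    have hcomm : ∀ B ∈ Cfsg.SU n F q, B * A = A * B := by
      intro B hB
      have := Subgroup.mem_center_iff.mp z.2 ⟨B, hB⟩
      exact congrArg Subtype.val this
    have hsc := scalar_of_commute hn a ha0 ha1 hanorm A hcomm
    set l : F := (A : Matrix (Fin n) (Fin n) F) ⟨0, by omega⟩ ⟨0, by omega⟩ with hl
    have hAeq : (A : Matrix (Fin n) (Fin n) F) = l • (1 : Matrix (Fin n) (Fin n) F) := by
      ext i j
      rw [hsc i j, Matrix.smul_apply, Matrix.one_apply, smul_eq_mul]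
      split_ifs <;> simp
    have hln : l ^ n = 1 := by
      have := A.2
      rw [hAeq, Matrix.det_smul, Matrix.det_one, mul_one, Fintype.card_fin] at this
      exact this
    have hlq : l * l ^ q = 1 := by
      rw [mem_SU_iff] at hAmem
      have := hAmem (Pi.single ⟨0, by omega⟩ 1) (Pi.single ⟨0, by omega⟩ 1)
      rw [hAeq, Matrix.smul_mulVec, Matrix.one_mulVec] at this
      unfold Cfsg.hermForm at this
      rw [Finset.sum_eq_single ⟨0, by omega⟩, Finset.sum_eq_single ⟨0, by omega⟩] at this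
      · simpa using this
      · intro b _ hb
        simp [Pi.single_apply, hb]
      · intro h; exact absurd (Finset.mem_univ _) h
      · intro b _ hb
        have hq0 : q ≠ 0 := by omega
        simp [Pi.single_apply, hb, hq0]
      · intro h; exact absurd (Finset.mem_univ _) h
    have hl0 : l ≠ 0 := by
      rintro h0
      rw [h0, zero_pow (by omega)] at hln
      exact zero_ne_one hln
    have hld : l ^ d = 1 := by
      have hq1 : l ^ (q + 1) = 1 := by rw [pow_succ']; exact hlq
      exact pow_gcd_eq_one.mpr ⟨hln, hq1⟩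
    refine ⟨⟨Units.mk0 l hl0, ?_⟩, ?_⟩
    · rw [hK, MonoidHom.mem_ker, powMonoidHom_apply]
      apply Units.ext
      rw [Units.val_pow_eq_pow_val, Units.val_mk0, hld, Units.val_one]
    · apply Subtype.ext
      apply Subtype.ext
      apply Subtype.ext
      rw [hψcoe]
      exact hAeq.symm
  rw [← hKcard]
  exact (Nat.card_congr (Equiv.ofBijective ψ ⟨hψinj, hψsurj⟩)).symm

end Cfsg.Agent.S0279
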