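import Cfsg.Statements.S0242
import Mathlib

set_option autoImplicit false
open Cfsg

namespace Cfsg.Agent.S0242

open Matrix

/-- `SL n F` is in bijection with the kernel of `det` on `GL n F`. -/
noncomputable def slEquivKer {F : Type*} [Field F] (n : ℕ) :
    Matrix.SpecialLinearGroup (Fin n) F ≃
      (Matrix.GeneralLinearGroup.det : GL (Fin n) F →* Fˣ).ker where
  toFun A := ⟨Matrix.SpecialLinearGroup.toGL A, by
    rw [MonoidHom.mem_ker]
    ext
    simp [Matrix.SpecialLinearGroup.toGL]⟩
  invFun g := ⟨g.1.1, by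
    have := g.2
    rw [MonoidHom.mem_ker] at this
    have := congrArg Units.val this
    simpa using this⟩
  left_inv A := by
    ext
    rfl
  right_inv g := by
    ext
    rfl

theorem card_mul {F : Type*} [Field F] [Fintype F] (n : ℕ) (hn : 1 ≤ n) :
    (Fintype.card F - 1) * Nat.card (Matrix.SpecialLinearGroup (Fin n) F) =
      Nat.card (GL (Fin n) F) := by
  classical
  haveI : Nonempty (Fin n) := ⟨⟨0, hn⟩⟩
  let f := (Matrix.GeneralLinearGroup.det : GL (Fin n) F →* Fˣ)
  have h1 : f.ker.index * Nat.card f.ker = Nat.card (GL (Fin n) F) := Subgroup.index_mul_card _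
  rw [Subgroup.index_ker] at h1
  have hsurj : Function.Surjective f := Matrix.GeneralLinearGroup.det_surjective
  have h2 : Nat.card f.range = Fintype.card F - 1 := by
    rw [MonoidHom.range_eq_top.2 hsurj]
    rw [Nat.card_congr (Subgroup.topEquiv (G := Fˣ)).toEquiv, Nat.card_eq_fintype_card,
      Fintype.card_units]
  rw [h2, ← Nat.card_congr (slEquivKer n)] at h1
  exact h1

/-- Order of the special linear group: (q - 1) |SL_n(q)| = prod_{i<n} (q^n - q^i) = |GL_n(q)|, for n at least 1. -/
theorem result {F : Type*} [Field F] [Fintype F] {q : ℕ} (hF : Fintype.card F = q) (n : ℕ) (hn : 1 ≤ n) : (q - 1) * Nat.card (Matrix.SpecialLinearGroup (Fin n) F) = ∏ i : Fin n, (q ^ n - q ^ (i : ℕ)) := by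
  subst hF
  rw [card_mul n hn, Matrix.card_GL_field]

end Cfsg.Agent.S0242
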