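import Cfsg.Statements.S0281
import Cfsg.Agent.Lib.Helper39.Laws2

set_option autoImplicit false
open Cfsg

namespace Cfsg.Agent.S0281

open Cfsg.Agent.Lib.Helper39.Laws Matrix Function

/-- a ring isomorphism induces an isomorphism of special linear groups. -/
noncomputable def slCongr {n : Type*} [Fintype n] [DecidableEq n] {R S : Type*} [CommRing R] [CommRing S]
    (e : R ≃+* S) : SpecialLinearGroup n R ≃* SpecialLinearGroup n S where
  toFun := SpecialLinearGroup.map e.toRingHom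
  invFun := SpecialLinearGroup.map e.symm.toRingHom
  left_inv A := by
    apply Matrix.SpecialLinearGroup.ext
    intro i j
    simp
  right_inv A := by
    apply Matrix.SpecialLinearGroup.ext
    intro i j
    simp
  map_mul' A B := map_mul _ A B

theorem fixed_of_bf {F : Type*} [Field F] (σ : F →+* F) (M : Matrix (Fin 2) (Fin 2) F)
    (hdet : M.det = 1)
    (h : ∀ a b : Fin 2 → F, (M *ᵥ a) 0 * σ ((M *ᵥ b) 1) - (M *ᵥ a) 1 * σ ((M *ᵥ b) 0) =
      a 0 * σ (b 1) - a 1 * σ (b 0)) : ∀ i j, σ (M i j) = M i j := by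
  rw [Matrix.det_fin_two] at hdet
  have h00 := h ![1, 0] ![1, 0]
  have h10 := h ![0, 1] ![1, 0]
  have h01 := h ![1, 0] ![0, 1]
  have h11 := h ![0, 1] ![0, 1]
  simp [Matrix.mulVec, dotProduct, Fin.sum_univ_two] at h00 h10 h01 h11
  intro i j
  fin_cases i <;> fin_cases j <;> simp
  · linear_combination M 0 1 * h00 - M 0 0 * h10 - σ (M 0 0) * hdet
  · linear_combination M 0 1 * h01 - M 0 0 * h11 - σ (M 0 1) * hdet
  · linear_combination M 1 1 * h00 - M 1 0 * h10 - σ (M 1 0) * hdet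
  · linear_combination M 1 1 * h01 - M 1 0 * h11 - σ (M 1 1) * hdet


theorem card_fixed_le {F : Type*} [Field F] [Fintype F] {q : ℕ} (hq2 : 2 ≤ q) (σ : F →+* F)
    (hσ : ∀ x, σ x = x ^ q) : Nat.card (σ.eqLocusField (RingHom.id F)) ≤ q := by
  classical
  set S : Finset F := Finset.univ.filter (fun x => σ x = x) with hS
  have hne : (Polynomial.X ^ q - Polynomial.X : Polynomial F) ≠ 0 :=
    FiniteField.X_pow_card_sub_X_ne_zero F (by omega)
  have h1 := Polynomial.card_le_degree_of_subset_roots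
    (p := (Polynomial.X ^ q - Polynomial.X : Polynomial F)) (Z := S) (by
      intro x hx
      rw [Finset.mem_val, hS, Finset.mem_filter] at hx
      rw [Polynomial.mem_roots hne]
      simp [← hσ, hx.2])
  rw [FiniteField.X_pow_card_sub_X_natDegree_eq F (by omega)] at h1
  have : Nat.card (σ.eqLocusField (RingHom.id F)) = S.card := by
    rw [Nat.card_eq_fintype_card]
    exact Fintype.card_of_subtype S (fun x => by
      rw [hS, Finset.mem_filter]
      simp [RingHom.mem_eqLocusField])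
  omega

/-- SU_2(q) is isomorphic to SL_2(q). -/
theorem result {F K : Type*} [Field F] [Fintype F] [Field K] [Fintype K] {q : ℕ} (hF : Fintype.card F = q ^ 2) (hK : Fintype.card K = q) : Nonempty (Cfsg.SU 2 F q ≃* Matrix.SpecialLinearGroup (Fin 2) K) := by
  classical
  obtain ⟨σ, hσ, hσσ, ⟨β, hβ⟩, ⟨x, hx⟩, hcard⟩ := herm_field_facts hF
  have hq2 : 2 ≤ q := by
    have h1 : 1 < Fintype.card K := Fintype.one_lt_card
    omega
  set F₀ : Subfield F := σ.eqLocusField (RingHom.id F) with hF₀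
  have hcard2 : Nat.card F₀ = q := le_antisymm (card_fixed_le hq2 σ hσ) hcard
  let _ : Fintype F₀ := Fintype.ofFinite _
  have e : K ≃+* F₀ := FiniteField.ringEquivOfCardEq (by
    rw [hK, ← hcard2, Nat.card_eq_fintype_card])
  let gM : Matrix (Fin 2) (Fin 2) F := !![1, x; β, β * σ x]
  have hβ0 : β ≠ 0 := by
    rintro rfl
    simp at hβ
  have hκ : σ x - x ≠ 0 := sub_ne_zero.mpr hx
  have hdet : gM.det ≠ 0 := by
    rw [Matrix.det_fin_two_of]
    have : (1 : F) * (β * σ x) - x * β = β * (σ x - x) := by ring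
    rw [this]
    exact mul_ne_zero hβ0 hκ
  let g : (Matrix (Fin 2) (Fin 2) F)ˣ := Matrix.GeneralLinearGroup.mkOfDetNeZero gM hdet
  have hgcoe : (g : Matrix (Fin 2) (Fin 2) F) = gM := rfl
  have hginv : gM * ((g⁻¹ : (Matrix (Fin 2) (Fin 2) F)ˣ) : Matrix (Fin 2) (Fin 2) F) = 1 := by
    rw [← hgcoe, ← Units.val_mul, mul_inv_cancel, Units.val_one]
  have hginv' : ((g⁻¹ : (Matrix (Fin 2) (Fin 2) F)ˣ) : Matrix (Fin 2) (Fin 2) F) * gM = 1 := by
    rw [← hgcoe, ← Units.val_mul, inv_mul_cancel, Units.val_one]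
  let φ₀ : SpecialLinearGroup (Fin 2) F₀ →* SpecialLinearGroup (Fin 2) F :=
    (conjSL g).comp (SpecialLinearGroup.map F₀.subtype)
  have hφ₀inj : Injective φ₀ := by
    refine (conjSL_injective g).comp ?_
    intro A B hAB
    apply Matrix.SpecialLinearGroup.ext
    intro i j
    have := congrArg (fun M : SpecialLinearGroup (Fin 2) F => M i j) hAB
    simp only [Matrix.SpecialLinearGroup.map_apply_coe, RingHom.mapMatrix_apply,
      Matrix.map_apply] at this
    exact Subtype.ext this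
  have hφ₀mem : ∀ M₀, φ₀ M₀ ∈ Cfsg.SU 2 F q := by
    intro M₀
    rw [mem_SU_iff]
    intro u v
    set M : SpecialLinearGroup (Fin 2) F := SpecialLinearGroup.map F₀.subtype M₀ with hMdef
    have hM : ∀ i j, σ ((M : Matrix (Fin 2) (Fin 2) F) i j) = (M : Matrix (Fin 2) (Fin 2) F) i j := by
      intro i j
      have h1 : (M : Matrix (Fin 2) (Fin 2) F) i j = ((M₀ i j : F₀) : F) := by
        simp [hMdef]
      rw [h1]
      exact (M₀ i j).2
    have hcoe : (φ₀ M₀ : Matrix (Fin 2) (Fin 2) F) = gM * (M : Matrix (Fin 2) (Fin 2) F) *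
        ((g⁻¹ : (Matrix (Fin 2) (Fin 2) F)ˣ) : Matrix (Fin 2) (Fin 2) F) := rfl
    have key : ∀ y : Fin 2 → F, (φ₀ M₀ : Matrix (Fin 2) (Fin 2) F) *ᵥ y =
        gM *ᵥ ((M : Matrix (Fin 2) (Fin 2) F) *ᵥ
          (((g⁻¹ : (Matrix (Fin 2) (Fin 2) F)ˣ) : Matrix (Fin 2) (Fin 2) F) *ᵥ y)) := by
      intro y
      rw [hcoe, Matrix.mulVec_mulVec, Matrix.mulVec_mulVec]
    have key2 : ∀ y : Fin 2 → F, y =
        gM *ᵥ (((g⁻¹ : (Matrix (Fin 2) (Fin 2) F)ˣ) : Matrix (Fin 2) (Fin 2) F) *ᵥ y) := by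
      intro y
      rw [Matrix.mulVec_mulVec, hginv, Matrix.one_mulVec]
    rw [key, key, herm_g σ hσ hσσ β x hβ gM rfl, bform_inv σ _ hM M.2,
      ← herm_g σ hσ hσσ β x hβ gM rfl, ← key2, ← key2]
  let φ : SpecialLinearGroup (Fin 2) F₀ →* Cfsg.SU 2 F q :=
    φ₀.codRestrict (Cfsg.SU 2 F q) hφ₀mem
  have hφinj : Injective φ := by
    intro A B hAB
    apply hφ₀inj
    exact congrArg Subtype.val hAB
  have hφsurj : Surjective φ := by
    rintro ⟨A, hA⟩
    rw [mem_SU_iff] at hA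
    -- M = g⁻¹ A g
    set M : Matrix (Fin 2) (Fin 2) F :=
      ((g⁻¹ : (Matrix (Fin 2) (Fin 2) F)ˣ) : Matrix (Fin 2) (Fin 2) F) *
        (A : Matrix (Fin 2) (Fin 2) F) * gM with hMdef
    have hMdet : M.det = 1 := by
      rw [hMdef, Matrix.det_mul, Matrix.det_mul, mul_right_comm, ← Matrix.det_mul, hginv']
      simp [A.2]
    have hgM : gM * M = (A : Matrix (Fin 2) (Fin 2) F) * gM := by
      rw [hMdef, ← Matrix.mul_assoc, ← Matrix.mul_assoc, hginv, Matrix.one_mul]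
    have hbf : ∀ a b : Fin 2 → F, (M *ᵥ a) 0 * σ ((M *ᵥ b) 1) - (M *ᵥ a) 1 * σ ((M *ᵥ b) 0) =
        a 0 * σ (b 1) - a 1 * σ (b 0) := by
      intro a b
      apply mul_left_cancel₀ hκ
      rw [← herm_g σ hσ hσσ β x hβ gM rfl, ← herm_g σ hσ hσσ β x hβ gM rfl,
        Matrix.mulVec_mulVec, Matrix.mulVec_mulVec, hgM, ← Matrix.mulVec_mulVec,
        ← Matrix.mulVec_mulVec, hA]
    have hfix := fixed_of_bf σ M hMdet hbf
    let M₀m : Matrix (Fin 2) (Fin 2) F₀ := fun i j => ⟨M i j, hfix i j⟩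
    have hM₀map : M₀m.map F₀.subtype = M := by
      ext i j
      rfl
    have hM₀det : M₀m.det = 1 := by
      apply F₀.subtype_injective
      rw [RingHom.map_det, map_one]
      rw [RingHom.mapMatrix_apply, hM₀map, hMdet]
    refine ⟨⟨M₀m, hM₀det⟩, ?_⟩
    apply Subtype.ext
    apply Subtype.ext
    show gM * (M₀m.map F₀.subtype) * ((g⁻¹ : (Matrix (Fin 2) (Fin 2) F)ˣ) :
      Matrix (Fin 2) (Fin 2) F) = (A : Matrix (Fin 2) (Fin 2) F)
    rw [hM₀map, hgM, Matrix.mul_assoc, hginv, Matrix.mul_one]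
  exact ⟨((slCongr e).trans (MulEquiv.ofBijective φ ⟨hφinj, hφsurj⟩)).symm⟩

end Cfsg.Agent.S0281
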