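import Cfsg.Statements.S0280
import Cfsg.Agent.S0278
import Cfsg.Agent.S0279
import Cfsg.Agent.S0281
import Cfsg.Agent.S0243

set_option autoImplicit false
open Cfsg

namespace Cfsg.Agent.S0280

lemma card_center_congr {G H : Type*} [Group G] [Group H] (e : G ≃* H) :
    Nat.card (Subgroup.center G) = Nat.card (Subgroup.center H) := by
  apply Nat.card_congr
  refine Equiv.subtypeEquiv e.toEquiv ?_
  intro z
  simp only [Subgroup.mem_center_iff]
  constructor
  · intro h g
    have := h (e.symm g)
    have h2 := congrArg e this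
    simpa using h2
  · intro h g
    have := h (e g)
    apply e.injective
    simpa using this

lemma card_center_SU_two {F : Type*} [Field F] [Fintype F] {q : ℕ}
    (hF : Fintype.card F = q ^ 2) :
    Nat.card (Subgroup.center (Cfsg.SU 2 F q)) = Nat.gcd 2 (q + 1) := by
  have hq := Cfsg.Agent.Lib.Helper5.two_le_of_card hF
  obtain ⟨p, j, hp, _, rfl⟩ := Cfsg.Agent.Lib.Helper5.exists_prime_pow hF
  have := Fact.mk hp
  have hj : j ≠ 0 := by
    rintro rfl
    simp at hq
  let K := GaloisField p j
  let _ : Fintype K := Fintype.ofFinite K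
  have hK : Fintype.card K = p ^ j := by
    rw [← Nat.card_eq_fintype_card]
    exact GaloisField.card p j hj
  obtain ⟨e⟩ := Cfsg.Agent.S0281.result hF hK
  rw [card_center_congr e, Cfsg.Agent.S0243.card_center 2 (by norm_num), hK]
  have : p ^ j + 1 = (p ^ j - 1) + 2 := by omega
  rw [this, Nat.gcd_add_self_right]

/-- Order of PSU_n(q): gcd(n, q+1) (q+1) |PSU_n(q)| = q^(n(n-1)/2) * prod_{i=1}^{n} (q^i - (-1)^i), n at least 2. -/
theorem result {F : Type*} [Field F] [Fintype F] {q : ℕ} (hF : Fintype.card F = q ^ 2) (n : ℕ) (hn : 2 ≤ n) : Nat.gcd n (q + 1) * ((q + 1) * Nat.card (Cfsg.PSU n F q)) = q ^ (n * (n - 1) / 2) * ∏ i ∈ Finset.range n, (if Even i then q ^ (i + 1) + 1 else q ^ (i + 1) - 1) := by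
  have hc : Nat.card (Subgroup.center (Cfsg.SU n F q)) = Nat.gcd n (q + 1) := by
    rcases Nat.lt_or_ge n 3 with h | h
    · have : n = 2 := by omega
      subst this
      exact card_center_SU_two hF
    · exact Cfsg.Agent.S0279.result hF n h
  rw [← Cfsg.Agent.S0278.result hF n (by omega)]
  have h1 := Subgroup.card_eq_card_quotient_mul_card_subgroup (Subgroup.center (Cfsg.SU n F q))
  rw [h1, hc]
  ring

end Cfsg.Agent.S0280
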