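import Cfsg.Statements.S1573
import Cfsg.Agent.Lib.Helper26.LeechDot3

set_option autoImplicit false
open scoped Pointwise
open Cfsg

namespace Cfsg.Agent.S1573

open Cfsg.Agent.Lib.Helper26.LeechDot Cfsg.Agent.Lib.Golay.LeechCount Cfsg.Agent.Lib.Conway

theorem hsum31 (d : ℤ) (hd : d % 8 = 0) : ∀ m : ℤ, m = 0 ∨ m = 1 → ∀ (c : Finset GolayPt),
    ∀ x ∈ box K5 m c, dotInt (zv (-3) 1) x = d → (∑ i, x i) % 8 = (4 * m) % 8 := by
  intro m hm c x hx hdot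
  rw [dot_zv] at hdot
  have := (mem_box.1 hx none).2
  split_ifs at this <;> rcases hm with rfl | rfl <;> omega

theorem Zc31 : Zc (-3) 1 = 130 := by decide

theorem tot16 : totalD (gz (-3) 0) (gz (-3) 1) (gz (-3) 2) (gz (-3) 3) (gz 1 0) (gz 1 1) (gz 1 2) (gz 1 3)
    (400 * 32 + ((-16 : ℤ) + Zc (-3) 1).toNat) = 4600 := by decide +kernel

theorem tot8 : totalD (gz (-3) 0) (gz (-3) 1) (gz (-3) 2) (gz (-3) 3) (gz 1 0) (gz 1 1) (gz 1 2) (gz 1 3)
    (400 * 32 + ((-8 : ℤ) + Zc (-3) 1).toNat) = 47104 := by decide +kernel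

theorem tot0 : totalD (gz (-3) 0) (gz (-3) 1) (gz (-3) 2) (gz (-3) 3) (gz 1 0) (gz 1 1) (gz 1 2) (gz 1 3)
    (400 * 32 + ((0 : ℤ) + Zc (-3) 1).toNat) = 93150 := by decide +kernel

theorem LC_norm : sqNorm (LC : Vec) = 32 := by
  show sqNorm vC = 32
  unfold sqNorm
  decide +kernel

theorem census (d : ℤ) (hd : d % 8 = 0) (hd0 : -130 ≤ d) (hd1 : d < 270) :
    {w : GolayPt → ℤ | w ∈ leechLattice ∧ sqNorm w = 32 ∧ dotInt (LC : Vec) w = d}.ncard =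
      totalD (gz (-3) 0) (gz (-3) 1) (gz (-3) 2) (gz (-3) 3) (gz 1 0) (gz 1 1) (gz 1 2) (gz 1 3)
        (400 * 32 + (d + Zc (-3) 1).toNat) := by
  have h := ncard_SD_eq (-3) 1 (by rw [Zc31]; norm_num) 32 (by norm_num) d
    (by rw [Zc31]; omega) (by rw [Zc31]; omega) (hsum31 d hd)
  exact h

/-- Census of minimal vectors by inner product with a fixed minimal vector: 4600 have customary inner product −2, 47104 have −1, and 93150 are orthogonal. -/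
theorem result (v : Cfsg.GolayPt → ℤ) (hv : v ∈ Cfsg.leechLattice) (hvn : Cfsg.sqNorm v = 32) : {w : Cfsg.GolayPt → ℤ | w ∈ Cfsg.leechLattice ∧ Cfsg.sqNorm w = 32 ∧ Cfsg.dotInt v w = -16}.ncard = 4600 ∧ {w : Cfsg.GolayPt → ℤ | w ∈ Cfsg.leechLattice ∧ Cfsg.sqNorm w = 32 ∧ Cfsg.dotInt v w = -8}.ncard = 47104 ∧ {w : Cfsg.GolayPt → ℤ | w ∈ Cfsg.leechLattice ∧ Cfsg.sqNorm w = 32 ∧ Cfsg.dotInt v w = 0}.ncard = 93150 := by
  obtain ⟨g, hg⟩ := trans4 LC ⟨v, hv⟩ LC_norm hvn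
  have key : ∀ d : ℤ, {w : GolayPt → ℤ | w ∈ leechLattice ∧ sqNorm w = 32 ∧ dotInt v w = d}.ncard =
      {w : GolayPt → ℤ | w ∈ leechLattice ∧ sqNorm w = 32 ∧ dotInt (LC : Vec) w = d}.ncard := by
    intro d
    have := ncard_dot_congr g LC 32 d
    rw [hg] at this
    exact this
  refine ⟨?_, ?_, ?_⟩
  · rw [key, census (-16) (by norm_num) (by norm_num) (by norm_num), tot16]
  · rw [key, census (-8) (by norm_num) (by norm_num) (by norm_num), tot8]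
  · rw [key, census 0 (by norm_num) (by norm_num) (by norm_num), tot0]

end Cfsg.Agent.S1573
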