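import Cfsg.Statements.S0779
import Cfsg.Agent.Lib.Helper13.Herm

set_option autoImplicit false
open Cfsg

namespace Cfsg.Agent.S0779

/-- Unitary transvections: let |F| = q², h the standard Hermitian form Σ x_i y_i^q and v ≠ 0 with h(v, v) = 0. The linear map x ↦ x + c h(x, v) v is an isometry of h if and only if c = 0 or c^(q−1) = −1. -/
theorem result {F : Type*} [Field F] [Fintype F] {q : ℕ} (hF : Fintype.card F = q ^ 2) (n : ℕ) (v : Fin n → F) (hv : v ≠ 0) (hv0 : Cfsg.hermForm n F q v v = 0) (c : F) : (∀ x y : Fin n → F, Cfsg.hermForm n F q ((Cfsg.unitaryTransvection n q v c).mulVec x) ((Cfsg.unitaryTransvection n q v c).mulVec y) = Cfsg.hermForm n F q x y) ↔ (c = 0 ∨ c ^ (q - 1) = -1) := by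
  have hq2 : 2 ≤ q := Cfsg.Agent.Lib.Helper13.two_le_q hF
  have hcq : c + c ^ q = c * (1 + c ^ (q - 1)) := by
    have : c ^ q = c * c ^ (q - 1) := by
      rw [← pow_succ']
      congr 1
      omega
    rw [this]; ring
  have key := Cfsg.Agent.Lib.Helper13.hermForm_unitaryTransvection hF n v hv0 c
  constructor
  · intro h
    obtain ⟨i, hi⟩ : ∃ i, v i ≠ 0 := by
      by_contra hcon
      push Not at hcon
      exact hv (funext hcon)
    have h1 := h (Pi.single i 1) (Pi.single i 1)
    rw [key] at h1
    have h2 : Cfsg.hermForm n F q (Pi.single i 1) v = v i ^ q := by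
      simp [Cfsg.hermForm, Pi.single_apply]
    have h3 : Cfsg.hermForm n F q v (Pi.single i 1) = v i := by
      simp only [Cfsg.hermForm, Pi.single_apply]
      rw [Finset.sum_eq_single i]
      · simp
      · intro j _ hj
        have hq0 : q ≠ 0 := by omega
        simp [hj, hq0]
      · simp
    rw [h2, h3] at h1
    have h4 : (c + c ^ q) * (v i ^ q * v i) = 0 := by
      have := h1
      exact add_eq_left.mp this
    have h5 : v i ^ q * v i ≠ 0 := mul_ne_zero (pow_ne_zero _ hi) hi
    have h6 : c + c ^ q = 0 := by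
      rcases mul_eq_zero.mp h4 with h | h
      · exact h
      · exact absurd h h5
    rw [hcq] at h6
    rcases mul_eq_zero.mp h6 with h | h
    · left; exact h
    · right
      exact (neg_eq_of_add_eq_zero_right h).symm ▸ rfl
  · intro h x y
    rw [key]
    have : c + c ^ q = 0 := by
      rw [hcq]
      rcases h with h | h
      · rw [h, zero_mul]
      · rw [h]; ring
    rw [this, zero_mul, add_zero]

end Cfsg.Agent.S0779
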