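import Cfsg.Statements.S0780
import Mathlib
import Cfsg.Agent.Lib.Helper13.UnitaryGen5

set_option autoImplicit false
open Cfsg

namespace Cfsg.Agent.S0780

open Matrix Cfsg.Agent.Lib.Helper99 Cfsg.Agent.Lib.Helper13

theorem mem_SU_iff'' {F : Type*} [Field F] {n q : ℕ} (A : Matrix.SpecialLinearGroup (Fin n) F) :
    A ∈ Cfsg.SU n F q ↔ ∀ u v : Fin n → F,
      Cfsg.hermForm n F q ((A : Matrix (Fin n) (Fin n) F) *ᵥ u)
        ((A : Matrix (Fin n) (Fin n) F) *ᵥ v) = Cfsg.hermForm n F q u v := Iff.rfl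

theorem unitaryTransvection_eq_utv' {F : Type*} [Field F] [Fintype F] {n q : ℕ} (v : Fin n → F)
    (hv : Cfsg.hermForm n F q v v = 0) (c : F) :
    ((utv q v c : GL (Fin n) F) : Matrix (Fin n) (Fin n) F) = Cfsg.unitaryTransvection n q v c := by
  rw [Matrix.ext_iff_mulVec]
  intro x
  rw [utv_mulVec v hv, Cfsg.Agent.Lib.Helper13.unitaryTransvection_mulVec]

/-- Generation of SU_n(q), n ≥ 3, (n, q) ≠ (3, 2), by unitary transvections: the subgroup generated by the elements whose matrix is x ↦ x + c h(x, v) v with v isotropic is all of SU_n(q). -/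
theorem result {F : Type*} [Field F] [Fintype F] {q : ℕ} (hF : Fintype.card F = q ^ 2) (n : ℕ) (hn : 3 ≤ n) (h32 : ¬ (n = 3 ∧ q = 2)) : Subgroup.closure {A : ↥(Cfsg.SU n F q) | ∃ (v : Fin n → F) (c : F), Cfsg.hermForm n F q v v = 0 ∧ ((A : Matrix.SpecialLinearGroup (Fin n) F) : Matrix (Fin n) (Fin n) F) = Cfsg.unitaryTransvection n q v c} = ⊤ := by
  have hclaim := suGL_le_utvGroup hF n hn h32
  set S : Set ↥(Cfsg.SU n F q) := {A : ↥(Cfsg.SU n F q) | ∃ (v : Fin n → F) (c : F),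
    Cfsg.hermForm n F q v v = 0 ∧
    ((A : Matrix.SpecialLinearGroup (Fin n) F) : Matrix (Fin n) (Fin n) F)
      = Cfsg.unitaryTransvection n q v c} with hS
  let ψ : ↥(Cfsg.SU n F q) →* GL (Fin n) F :=
    (Matrix.SpecialLinearGroup.toGL).comp (Cfsg.SU n F q).subtype
  have hψval : ∀ A : ↥(Cfsg.SU n F q), ((ψ A : GL (Fin n) F) : Matrix (Fin n) (Fin n) F)
      = ((A : Matrix.SpecialLinearGroup (Fin n) F) : Matrix (Fin n) (Fin n) F) := fun A => rfl
  have hψinj : Function.Injective ψ := by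
    intro A B hAB
    apply Subtype.ext
    apply Matrix.SpecialLinearGroup.toGL_injective
    exact hAB
  have hψmem : ∀ A : ↥(Cfsg.SU n F q), ψ A ∈ suGL (F := F) n q := by
    intro A
    have hGU : ψ A ∈ Cfsg.GU n F q := by
      rw [Cfsg.Agent.Lib.Helper13.mem_GU_iff]
      intro u v
      rw [hψval]
      exact (mem_SU_iff'' (A : Matrix.SpecialLinearGroup (Fin n) F)).1 A.2 u v
    have hSL : ψ A ∈ Cfsg.Geo.specialLinear (Fin n) F := by
      rw [mem_specialLinear_iff, hψval]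
      exact (A : Matrix.SpecialLinearGroup (Fin n) F).2
    exact ⟨hGU, hSL⟩
  have hle : utvGroup n q F ≤ (Subgroup.closure S).map ψ := by
    unfold utvGroup
    rw [Subgroup.closure_le]
    rintro g ⟨u, c, hu, hc, rfl⟩
    have hmem := utv_mem_suGL hF u hu c hc
    have hdet : ((utv q u c : GL (Fin n) F) : Matrix (Fin n) (Fin n) F).det = 1 :=
      (mem_specialLinear_iff _).1 hmem.2
    let As : Matrix.SpecialLinearGroup (Fin n) F :=
      ⟨((utv q u c : GL (Fin n) F) : Matrix (Fin n) (Fin n) F), hdet⟩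
    have hAs : As ∈ Cfsg.SU n F q := by
      rw [mem_SU_iff'']
      exact (Cfsg.Agent.Lib.Helper13.mem_GU_iff n q _).1 hmem.1
    refine ⟨⟨As, hAs⟩, Subgroup.subset_closure ⟨u, c, hu, ?_⟩, ?_⟩
    · exact unitaryTransvection_eq_utv' u hu c
    · apply Units.ext
      rfl
  rw [eq_top_iff]
  intro A _
  have h1 : ψ A ∈ (Subgroup.closure S).map ψ := hle (hclaim (hψmem A))
  obtain ⟨B, hB, hBA⟩ := h1
  rw [← hψinj hBA]
  exact hB

end Cfsg.Agent.S0780
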