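import Cfsg.Statements.S0093
import Cfsg.Agent.Lib.Helper47.Frattini
import Cfsg.Agent.Lib.Helper32.PGroupCenter
import Mathlib.GroupTheory.Perm.Cycle.Type

set_option autoImplicit false
open Cfsg

namespace Cfsg.Agent.S0093

open scoped commutatorElement

/-- The candidate critical subgroup attached to a normal subgroup `M`:
`C_P(M) ∩ preimage of Ω₁(Z(P/M))`. -/
def crit {P : Type*} [Group P] (p : ℕ) (M : Subgroup P) [hM : M.Normal] : Subgroup P where
  carrier := {x | x ∈ Subgroup.centralizer (M : Set P) ∧ x ^ p ∈ M ∧ ∀ g : P, ⁅x, g⁆ ∈ M}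
  one_mem' := by
    refine ⟨Subgroup.one_mem _, ?_, ?_⟩
    · rw [one_pow]; exact M.one_mem
    · intro g
      rw [commutatorElement_one_left]; exact M.one_mem
  mul_mem' := by
    rintro x y ⟨hx1, hx2, hx3⟩ ⟨hy1, hy2, hy3⟩
    refine ⟨Subgroup.mul_mem _ hx1 hy1, ?_, ?_⟩
    · rw [← QuotientGroup.eq_one_iff, QuotientGroup.mk_pow, QuotientGroup.mk_mul]
      have hc : Commute (x : P ⧸ M) (y : P ⧸ M) := by
        unfold Commute SemiconjBy
        rw [← QuotientGroup.mk_mul, ← QuotientGroup.mk_mul, QuotientGroup.eq]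
        have : (x * y)⁻¹ * (y * x) = ⁅y⁻¹, x⁻¹⁆ := by
          rw [commutatorElement_def]; group
        rw [this]
        have h2 : ⁅y⁻¹, x⁻¹⁆ = y⁻¹ * (x⁻¹ * ⁅y, x⁆ * x) * y := by
          rw [commutatorElement_def, commutatorElement_def]; group
        rw [h2]
        have h3 : x⁻¹ * ⁅y, x⁆ * x ∈ M := by
          have := hM.conj_mem _ (hy3 x) x⁻¹
          simpa using this
        have := hM.conj_mem _ h3 y⁻¹
        simpa using this
      rw [hc.mul_pow, ← QuotientGroup.mk_pow, ← QuotientGroup.mk_pow,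
        (QuotientGroup.eq_one_iff _).mpr hx2, (QuotientGroup.eq_one_iff _).mpr hy2, one_mul]
    · intro g
      have : ⁅x * y, g⁆ = x * ⁅y, g⁆ * x⁻¹ * ⁅x, g⁆ := by
        rw [commutatorElement_def, commutatorElement_def, commutatorElement_def]; group
      rw [this]
      exact M.mul_mem (hM.conj_mem _ (hy3 g) x) (hx3 g)
  inv_mem' := by
    rintro x ⟨hx1, hx2, hx3⟩
    refine ⟨Subgroup.inv_mem _ hx1, ?_, ?_⟩
    · rw [inv_pow]; exact M.inv_mem hx2
    · intro g
      have : ⁅x⁻¹, g⁆ = x⁻¹ * (⁅x, g⁆)⁻¹ * (x⁻¹)⁻¹ := by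
        rw [commutatorElement_def, commutatorElement_def]; group
      rw [this]
      exact hM.conj_mem _ (M.inv_mem (hx3 g)) x⁻¹

theorem mem_crit_iff {P : Type*} [Group P] (p : ℕ) (M : Subgroup P) [M.Normal] (x : P) :
    x ∈ crit p M ↔ x ∈ Subgroup.centralizer (M : Set P) ∧ x ^ p ∈ M ∧ ∀ g : P, ⁅x, g⁆ ∈ M :=
  Iff.rfl

theorem crit_characteristic {P : Type*} [Group P] (p : ℕ) (M : Subgroup P) [hM : M.Characteristic] :
    (crit p M).Characteristic := by
  rw [Subgroup.characteristic_iff_le_comap]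
  intro ϕ x hx
  rw [mem_crit_iff] at hx
  obtain ⟨hx1, hx2, hx3⟩ := hx
  have hMϕ : ∀ (ψ : P ≃* P) (m : P), m ∈ M → ψ m ∈ M := by
    intro ψ m hm
    exact Subgroup.characteristic_iff_le_comap.mp hM ψ hm
  rw [Subgroup.mem_comap, mem_crit_iff]
  refine ⟨?_, ?_, ?_⟩
  · rw [Subgroup.mem_centralizer_iff]
    intro m hm
    have hm' : ϕ.symm m ∈ M := hMϕ ϕ.symm m hm
    have h1 := (Subgroup.mem_centralizer_iff.mp hx1) _ hm'
    have h2 := congrArg ϕ h1
    simpa using h2
  · have : (ϕ.toMonoidHom x) ^ p = ϕ (x ^ p) := by simp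
    rw [this]
    exact hMϕ ϕ _ hx2
  · intro g
    have : ⁅ϕ.toMonoidHom x, g⁆ = ϕ ⁅x, ϕ.symm g⁆ := by
      rw [commutatorElement_def, commutatorElement_def]; simp
    rw [this]
    exact hMϕ ϕ _ (hx3 _)

/-- Every finite p-group has a critical subgroup: a characteristic subgroup H whose Frattini subgroup and whose commutator with the whole group lie in the centre of H, and whose centralizer is contained in H. -/
theorem result {P : Type*} [Group P] [Finite P] {p : ℕ} [Fact p.Prime] (hP : IsPGroup p P) : ∃ H : Subgroup P, H.Characteristic ∧ (frattini H).map H.subtype ≤ Subgroup.centralizer (H : Set P) ∧ ⁅H, (⊤ : Subgroup P)⁆ ≤ H ⊓ Subgroup.centralizer (H : Set P) ∧ Subgroup.centralizer (H : Set P) ≤ H := by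
  have hp : p.Prime := Fact.out
  -- maximal characteristic abelian subgroup
  let S : Set (Subgroup P) := {M | M.Characteristic ∧ ∀ x ∈ M, ∀ y ∈ M, x * y = y * x}
  have hSne : S.Nonempty := ⟨⊥, Subgroup.botCharacteristic, by
    intro x hx y hy
    rw [Subgroup.mem_bot] at hx hy
    rw [hx, hy]⟩
  obtain ⟨M, hMmax⟩ := (Set.toFinite S).exists_maximal hSne
  have hMS : M ∈ S := hMmax.prop
  haveI hMchar : M.Characteristic := hMS.1
  have hMcomm := hMS.2
  set H := crit p M with hH
  haveI hHchar : H.Characteristic := crit_characteristic p M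
  -- M ≤ H
  have hMH : M ≤ H := by
    intro m hm
    rw [hH, mem_crit_iff]
    refine ⟨?_, M.pow_mem hm p, ?_⟩
    · rw [Subgroup.mem_centralizer_iff]
      intro y hy
      exact hMcomm y hy m hm
    · intro g
      rw [commutatorElement_def]
      have : m * g * m⁻¹ * g⁻¹ = m * (g * m⁻¹ * g⁻¹) := by group
      rw [this]
      exact M.mul_mem hm (Subgroup.Normal.conj_mem inferInstance _ (M.inv_mem hm) g)
  have hHC : H ≤ Subgroup.centralizer (M : Set P) := by
    intro x hx
    exact ((mem_crit_iff p M x).mp hx).1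
  have hMCH : M ≤ Subgroup.centralizer (H : Set P) := by
    rw [Subgroup.le_centralizer_iff]; exact hHC
  -- Z(H) = M
  have hZM : H ⊓ Subgroup.centralizer (H : Set P) ≤ M := by
    have hZS : H ⊓ Subgroup.centralizer (H : Set P) ∈ S := by
      refine ⟨inferInstance, ?_⟩
      intro x hx y hy
      exact ((Subgroup.mem_centralizer_iff.mp (Subgroup.mem_inf.mp hy).2) x
        (Subgroup.mem_inf.mp hx).1)
    exact hMmax.le_of_ge hZS (le_inf hMH hMCH)
  refine ⟨H, hHchar, ?_, ?_, ?_⟩
  · -- Frattini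
    have h1 : frattini H ≤ M.subgroupOf H := by
      apply Cfsg.Agent.Lib.Helper47.frattini_le_of_elementary_abelian_quotient p
      · intro x y
        rw [Subgroup.mem_subgroupOf]
        have := ((mem_crit_iff p M x).mp x.2).2.2 y
        rw [commutatorElement_def] at this ⊢
        simpa using this
      · intro x
        rw [Subgroup.mem_subgroupOf]
        have := ((mem_crit_iff p M x).mp x.2).2.1
        simpa using this
    intro z hz
    obtain ⟨w, hw, rfl⟩ := hz
    exact hMCH (Subgroup.mem_subgroupOf.mp (h1 hw))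
  · rw [Subgroup.commutator_le]
    intro x hx g _
    have hm : ⁅x, g⁆ ∈ M := ((mem_crit_iff p M x).mp hx).2.2 g
    exact Subgroup.mem_inf.mpr ⟨hMH hm, hMCH hm⟩
  · -- C(H) ≤ H
    by_contra hcon
    obtain ⟨x₀, hx₀Q, hx₀H⟩ := SetLike.not_le_iff_exists.mp hcon
    set Q := Subgroup.centralizer (H : Set P) with hQ
    have : Q.Normal := inferInstance
    let π := QuotientGroup.mk' M
    have hπs : Function.Surjective π := QuotientGroup.mk'_surjective M
    have hNn : (Q.map π).Normal := Subgroup.Normal.map inferInstance π hπs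
    have hNne : Q.map π ≠ ⊥ := by
      intro hbot
      have : π x₀ ∈ Q.map π := Subgroup.mem_map_of_mem π hx₀Q
      rw [hbot, Subgroup.mem_bot] at this
      have : x₀ ∈ M := (QuotientGroup.eq_one_iff x₀).mp this
      exact hx₀H (hMH this)
    have hPq : IsPGroup p (P ⧸ M) := hP.to_quotient M
    obtain ⟨b, hbN, hbZ, hb1⟩ :=
      Cfsg.Agent.Lib.Helper32.exists_ne_one_mem_normal_inf_center hPq (Q.map π) hNne
    -- the subgroup K = N ⊓ center is a nontrivial p-group; Cauchy
    set K := Q.map π ⊓ Subgroup.center (P ⧸ M) with hK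
    have hKp : IsPGroup p K := hPq.to_subgroup K
    have : Nontrivial K := by
      rw [Subgroup.nontrivial_iff_ne_bot]
      intro hbot
      have : b ∈ K := Subgroup.mem_inf.mpr ⟨hbN, hbZ⟩
      rw [hbot, Subgroup.mem_bot] at this
      exact hb1 this
    have hdvd : p ∣ Nat.card K := by
      obtain ⟨n, hn0, hn⟩ := hKp.nontrivial_iff_card.mp inferInstance
      exact hn.symm ▸ dvd_pow_self _ (ne_of_gt hn0)
    obtain ⟨z, hz⟩ := exists_prime_orderOf_dvd_card' p hdvd
    have hzK : (z : P ⧸ M) ∈ K := z.2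
    obtain ⟨hzN, hzZ⟩ := Subgroup.mem_inf.mp hzK
    obtain ⟨x, hxQ, hxz⟩ := hzN
    have hzp : (z : P ⧸ M) ^ p = 1 := by
      have : z ^ p = 1 := by rw [← hz]; exact pow_orderOf_eq_one z
      have := congrArg Subtype.val this
      simpa using this
    have hz1 : (z : P ⧸ M) ≠ 1 := by
      intro h
      have : z = 1 := Subtype.ext h
      rw [this, orderOf_one] at hz
      exact hp.one_lt.ne hz
    -- x ∈ H
    have hxH : x ∈ H := by
      rw [hH, mem_crit_iff]
      refine ⟨Subgroup.centralizer_le hMH hxQ, ?_, ?_⟩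
      · rw [← QuotientGroup.eq_one_iff]
        have : ((x ^ p : P) : P ⧸ M) = (π x) ^ p := rfl
        rw [this, hxz, hzp]
      · intro g
        rw [← QuotientGroup.eq_one_iff]
        have h1 : ((⁅x, g⁆ : P) : P ⧸ M) = ⁅π x, π g⁆ := by
          rw [commutatorElement_def, commutatorElement_def]; rfl
        rw [h1, hxz, commutatorElement_eq_one_iff_commute]
        exact ((Subgroup.mem_center_iff.mp hzZ) (π g)).symm
    have hxM : x ∈ M := hZM (Subgroup.mem_inf.mpr ⟨hxH, hxQ⟩)
    apply hz1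
    rw [← hxz]
    exact (QuotientGroup.eq_one_iff x).mpr hxM

end Cfsg.Agent.S0093
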