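import Cfsg.Statements.S0120
import Cfsg.Agent.Lib.Helper24.Omega1

set_option autoImplicit false
open Cfsg

namespace Cfsg.Agent.S0120

open SemidirectProduct

/-- For odd p, a p'-automorphism of a p-group acting trivially on the elements of order dividing p is trivial. -/
theorem result {G : Type*} [Group G] [Finite G] {p : ℕ} [Fact p.Prime] (hp : p ≠ 2) (hG : IsPGroup p G) (a : MulAut G) (ha : Nat.Coprime (orderOf a) p) (h : ∀ x : G, x ^ p = 1 → a x = x) : a = 1 := by
  classical
  have hfinA : Finite (MulAut G) := Finite.of_injective (fun α : MulAut G => (α : G → G))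
    (fun α β h => by ext x; exact congrFun h x)
  -- the acting cyclic group and the holomorph-like semidirect product
  let K : Subgroup (MulAut G) := Subgroup.zpowers a
  let φ : K →* MulAut G := K.subtype
  have hfinX : Finite (G ⋊[φ] K) := Finite.of_equiv _ (SemidirectProduct.equivProd (φ := φ)).symm
  let D : Subgroup (G ⋊[φ] K) := (inl : G →* G ⋊[φ] K).range
  let A : Subgroup (G ⋊[φ] K) := (inr : K →* G ⋊[φ] K).range
  have hcardA : Nat.card A = orderOf a := by
    have h1 : Nat.card A = Nat.card K :=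
      (Nat.card_congr (MonoidHom.ofInjective (inr_injective (φ := φ))).toEquiv).symm
    rw [h1, Nat.card_zpowers]
  have hDp : IsPGroup p D :=
    hG.of_surjective (inl : G →* G ⋊[φ] K).rangeRestrict (MonoidHom.rangeRestrict_surjective _)
  have hDn : D.Normal := by
    have : D = (rightHom : G ⋊[φ] K →* K).ker := range_inl_eq_ker_rightHom
    rw [this]; infer_instance
  have hfixK : ∀ k : K, ∀ x : G, x ^ p = 1 → (k : MulAut G) x = x := by
    rintro ⟨k, hk⟩ x hx
    obtain ⟨n, rfl⟩ := Subgroup.mem_zpowers_iff.mp hk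
    have hax : a x = x := h x hx
    have : ∀ m : ℕ, (a ^ m) x = x := by
      intro m
      induction m with
      | zero => simp
      | succ m ih => rw [pow_succ, MulAut.mul_apply, hax, ih]
    have hinv : ∀ b : MulAut G, b x = x → b⁻¹ x = x := by
      intro b hb
      have : b⁻¹ (b x) = x := by rw [← MulAut.mul_apply, inv_mul_cancel]; rfl
      rw [hb] at this; exact this
    show (a ^ n) x = x
    rcases Int.eq_nat_or_neg n with ⟨m, rfl | rfl⟩
    · rw [zpow_natCast]; exact this m
    · rw [zpow_neg, zpow_natCast]; exact hinv _ (this m)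
  have key := Cfsg.Agent.Lib.Helper24.omega1_centralizer hp A D (by rw [hcardA]; exact ha) hDp
    (by rw [Subgroup.normalizer_eq_top]; exact le_top) (by
      rintro _ ⟨g, rfl⟩ hord _ ⟨k, rfl⟩
      rw [Subgroup.mem_centralizer_iff]
      intro y hy
      rw [Set.mem_singleton_iff] at hy
      subst hy
      have hgp : g ^ p = 1 := by
        have : (inl g : G ⋊[φ] K) ^ p = 1 := by rw [← hord]; exact pow_orderOf_eq_one _
        rw [← map_pow] at this
        exact inl_injective (by rw [this, map_one])
      have hk := hfixK k g hgp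
      have h1 : (inl (φ k g) : G ⋊[φ] K) = inr k * inl g * inr k⁻¹ := inl_aut k g
      have h2 : φ k g = g := hk
      rw [h2] at h1
      have h3 := congrArg (· * (inr k : G ⋊[φ] K)) h1
      simp only [map_inv, inv_mul_cancel_right] at h3
      exact h3)
  -- conclude
  ext x
  have hmem : (inr ⟨a, Subgroup.mem_zpowers a⟩ : G ⋊[φ] K) ∈ Subgroup.centralizer (D : Set (G ⋊[φ] K)) :=
    key ⟨_, rfl⟩
  rw [Subgroup.mem_centralizer_iff] at hmem
  have h1 := hmem (inl x) ⟨x, rfl⟩
  have h2 : (inl (φ ⟨a, Subgroup.mem_zpowers a⟩ x) : G ⋊[φ] K) =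
      inr ⟨a, Subgroup.mem_zpowers a⟩ * inl x * inr (⟨a, Subgroup.mem_zpowers a⟩ : K)⁻¹ := inl_aut _ x
  have h3 : (inl (φ ⟨a, Subgroup.mem_zpowers a⟩ x) : G ⋊[φ] K) = inl x := by
    rw [h2, ← h1, mul_assoc, ← map_mul, mul_inv_cancel, map_one, mul_one]
  have h4 := inl_injective h3
  exact h4

end Cfsg.Agent.S0120
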