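import Mathlib
import Cfsg.Statements.S0121

set_option autoImplicit false
open Cfsg

namespace Cfsg.Agent.S0121

theorem result {G : Type*} [Group G] [Finite G] {p : ℕ} [Fact p.Prime] (hG : IsPGroup p G) (H : Subgroup G) (hH : H.Characteristic) (h1 : (frattini H).map H.subtype ≤ Subgroup.centralizer (H : Set G)) (h2 : ⁅H, (⊤ : Subgroup G)⁆ ≤ H ⊓ Subgroup.centralizer (H : Set G)) (h3 : Subgroup.centralizer (H : Set G) ≤ H) (a : MulAut G) (ha : Nat.Coprime (orderOf a) p) (h : ∀ x ∈ H, a x = x) : a = 1 := by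
  have hHn : H.Normal := inferInstance
  -- k := g⁻¹ * a g centralizes H
  have hk : ∀ g : G, g⁻¹ * a g ∈ H := by
    intro g
    apply h3
    rw [Subgroup.mem_centralizer_iff]
    intro x hx
    have hc : g * x * g⁻¹ ∈ H := hHn.conj_mem x hx g
    have e1 : a (g * x * g⁻¹) = g * x * g⁻¹ := h _ hc
    have e2 : a (g * x * g⁻¹) = a g * x * (a g)⁻¹ := by
      rw [map_mul, map_mul, map_inv, h x hx]
    have e3 : g * x * g⁻¹ = a g * x * (a g)⁻¹ := e1.symm.trans e2
    -- x * (g⁻¹ * a g) = g⁻¹ * a g * x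
    calc x * (g⁻¹ * a g) = g⁻¹ * (g * x * g⁻¹) * a g := by group
      _ = g⁻¹ * (a g * x * (a g)⁻¹) * a g := by rw [e3]
      _ = g⁻¹ * a g * x := by group
  -- iterate
  have hiter : ∀ (g : G) (n : ℕ), (a ^ n) g = g * (g⁻¹ * a g) ^ n := by
    intro g n
    induction n with
    | zero => simp
    | succ n ih =>
      rw [pow_succ', MulAut.mul_apply, ih, map_mul, map_pow, h _ (hk g), pow_succ', ← mul_assoc,
        mul_inv_cancel_left]
  ext g
  rw [MulAut.one_apply]
  have h4 := hiter g (orderOf a)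
  rw [pow_orderOf_eq_one, MulAut.one_apply] at h4
  have h5 : (g⁻¹ * a g) ^ orderOf a = 1 := by
    have := h4.symm
    rwa [mul_eq_left] at this
  obtain ⟨j, hj⟩ := hG (g⁻¹ * a g)
  have h6 : orderOf (g⁻¹ * a g) ∣ Nat.gcd (orderOf a) (p ^ j) :=
    Nat.dvd_gcd (orderOf_dvd_of_pow_eq_one h5) (orderOf_dvd_of_pow_eq_one hj)
  rw [Nat.Coprime.gcd_eq_one (Nat.Coprime.pow_right j ha), Nat.dvd_one, orderOf_eq_one_iff] at h6
  calc a g = g * (g⁻¹ * a g) := by group
    _ = g := by rw [h6, mul_one]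

end Cfsg.Agent.S0121
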