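import Cfsg.Statements.S4207

set_option autoImplicit false
open Cfsg

namespace Cfsg.Agent.S4207

theorem card_dvd_of_free {G X : Type*} [Group G] [MulAction G X]
    (h : ∀ b : X, MulAction.stabilizer G b = ⊥) : Nat.card G ∣ Nat.card X := by
  rw [Nat.card_congr (MulAction.selfEquivOrbitsQuotientProd h), Nat.card_prod]
  exact dvd_mul_left _ _

theorem exists_gens_aux {Q : Type*} [Group Q] [Finite Q] {p r : ℕ} (hp : p.Prime)
    (hQ : Nat.card Q = p ^ r) (k : ℕ) :
    ∃ x : Fin k → Q, Subgroup.closure (Set.range x) = ⊤ ∨ p ^ k ≤ Nat.card (Subgroup.closure (Set.range x)) := by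
  induction k with
  | zero =>
    refine ⟨fun i => i.elim0, Or.inr ?_⟩
    simp only [pow_zero]
    exact Nat.card_pos
  | succ k ih =>
    obtain ⟨x, hx⟩ := ih
    by_cases htop : Subgroup.closure (Set.range x) = ⊤
    · refine ⟨Fin.cons 1 x, Or.inl ?_⟩
      rw [eq_top_iff, ← htop]
      apply Subgroup.closure_mono
      rw [Fin.range_cons]
      exact Set.subset_insert _ _
    · have hx' := hx.resolve_left htop
      obtain ⟨y, hy⟩ : ∃ y : Q, y ∉ Subgroup.closure (Set.range x) := by
        by_contra hcon
        push Not at hcon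
        exact htop (eq_top_iff.mpr fun z _ => hcon z)
      refine ⟨Fin.cons y x, Or.inr ?_⟩
      set K := Subgroup.closure (Set.range x) with hK
      set K₂ := Subgroup.closure (Set.range (Fin.cons y x : Fin (k + 1) → Q)) with hK₂
      have hle : K ≤ K₂ := by
        apply Subgroup.closure_mono
        rw [Fin.range_cons]
        exact Set.subset_insert _ _
      have hy2 : y ∈ K₂ := by
        apply Subgroup.subset_closure
        rw [Fin.range_cons]
        exact Set.mem_insert _ _
      have hlt : K < K₂ := lt_of_le_of_ne hle (fun h => hy (h ▸ hy2))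
      have hdvd : Nat.card K ∣ Nat.card K₂ := Subgroup.card_dvd_of_le hle
      have hcardlt : Nat.card K < Nat.card K₂ := by
        by_contra hcon
        push Not at hcon
        exact hlt.ne (Subgroup.eq_of_le_of_card_ge hle hcon)
      obtain ⟨a, _, ha⟩ := (Nat.dvd_prime_pow hp).mp (hQ ▸ Subgroup.card_subgroup_dvd_card K)
      obtain ⟨b, _, hb⟩ := (Nat.dvd_prime_pow hp).mp (hQ ▸ Subgroup.card_subgroup_dvd_card K₂)
      rw [ha, hb] at hcardlt
      rw [ha] at hx'
      rw [hb]
      have hab : a < b := (Nat.pow_lt_pow_iff_right hp.one_lt).mp hcardlt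
      have hka : k ≤ a := (Nat.pow_le_pow_iff_right hp.one_lt).mp hx'
      exact Nat.pow_le_pow_right hp.pos (by omega)

theorem exists_gens {Q : Type*} [Group Q] [Finite Q] {p r : ℕ} (hp : p.Prime)
    (hQ : Nat.card Q = p ^ r) : ∃ x : Fin r → Q, Subgroup.closure (Set.range x) = ⊤ := by
  obtain ⟨x, hx⟩ := exists_gens_aux hp hQ r
  refine ⟨x, ?_⟩
  rcases hx with h | h
  · exact h
  · apply Subgroup.eq_top_of_le_card
    rw [hQ]; exact h


theorem card_frattini {P : Type*} [Group P] [Finite P] {p n r : ℕ} (hp : p.Prime)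
    (hP : Nat.card P = p ^ n) (hr : (frattini P).index = p ^ r) :
    r ≤ n ∧ Nat.card (frattini P) = p ^ (n - r) := by
  have h1 := Subgroup.card_mul_index (frattini P)
  rw [hP, hr] at h1
  have hrn : r ≤ n := by
    have : p ^ r ∣ p ^ n := ⟨_, by rw [← h1, mul_comm]⟩
    exact (Nat.pow_dvd_pow_iff_le_right hp.one_lt).mp this
  refine ⟨hrn, ?_⟩
  have h2 : p ^ n = p ^ (n - r) * p ^ r := by
    rw [← pow_add]; congr 1; omega
  rw [h2] at h1
  exact Nat.eq_of_mul_eq_mul_right (pow_pos hp.pos r) h1

/-- the set of tuples congruent to `x` modulo the Frattini subgroup -/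
def T {P : Type*} [Group P] {r : ℕ} (x : Fin r → P) : Type _ :=
  {y : Fin r → P // ∀ i, y i * (x i)⁻¹ ∈ frattini P}

/-- tuples congruent to `x` correspond to tuples of elements of the Frattini subgroup -/
def Tequiv {P : Type*} [Group P] {r : ℕ} (x : Fin r → P) : T x ≃ (Fin r → frattini P) where
  toFun y := fun i => ⟨y.1 i * (x i)⁻¹, y.2 i⟩
  invFun φ := ⟨fun i => (φ i : P) * x i, fun i => by simp⟩
  left_inv y := by
    apply Subtype.ext
    funext i
    simp
  right_inv φ := by
    funext i
    apply Subtype.ext
    simp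

theorem card_T {P : Type*} [Group P] [Finite P] {r : ℕ} (x : Fin r → P) :
    Nat.card (T x) = Nat.card (frattini P) ^ r := by
  rw [Nat.card_congr (Tequiv x), Nat.card_fun, Nat.card_fin]

/-- the action of a group of automorphisms trivial on the Frattini quotient on such tuples -/
@[instance_reducible] def actT {P : Type*} [Group P] {r : ℕ} (x : Fin r → P) (A : Subgroup (MulAut P))
    (hA : ∀ α ∈ A, ∀ x : P, α x * x⁻¹ ∈ frattini P) : MulAction A (T x) where
  smul a y := ⟨fun i => (a : MulAut P) (y.1 i), fun i => by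
    have h1 := hA a a.2 (y.1 i)
    have h2 := y.2 i
    have : (a : MulAut P) (y.1 i) * (x i)⁻¹ = ((a : MulAut P) (y.1 i) * (y.1 i)⁻¹) * (y.1 i * (x i)⁻¹) := by
      group
    rw [this]; exact mul_mem h1 h2⟩
  one_smul y := by
    apply Subtype.ext
    funext i
    rfl
  mul_smul a b y := by
    apply Subtype.ext
    funext i
    rfl

theorem actT_apply {P : Type*} [Group P] {r : ℕ} (x : Fin r → P) (A : Subgroup (MulAut P))
    (hA : ∀ α ∈ A, ∀ x : P, α x * x⁻¹ ∈ frattini P) (a : A) (y : T x) (i : Fin r) :
    (letI := actT x A hA; (a • y).1 i) = (a : MulAut P) (y.1 i) := rfl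

/-- Let `P` be a group of order `p^n` whose Frattini subgroup has index `p^r`. Then any group of automorphisms of `P` each of which induces the identity on the Frattini quotient has order dividing `p^(r(n-r))`; in particular it is a `p`-group. -/
theorem result {P : Type*} [Group P] [Finite P] {p n r : ℕ} [Fact p.Prime] (hP : Nat.card P = p ^ n) (hr : (frattini P).index = p ^ r) (A : Subgroup (MulAut P)) (hA : ∀ α ∈ A, ∀ x : P, α x * x⁻¹ ∈ frattini P) : Nat.card A ∣ p ^ (r * (n - r)) := by
  have hp : p.Prime := Fact.out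
  have hQ : Nat.card (P ⧸ frattini P) = p ^ r := hr
  obtain ⟨xq, hxq⟩ := exists_gens hp hQ
  choose x hx using fun i => QuotientGroup.mk_surjective (xq i)
  have hgen : ∀ y : Fin r → P, (∀ i, y i * (x i)⁻¹ ∈ frattini P) → Subgroup.closure (Set.range y) = ⊤ := by
    intro y hy
    apply frattini_nongenerating
    have hmap : (Subgroup.closure (Set.range y)).map (QuotientGroup.mk' (frattini P)) = ⊤ := by
      rw [MonoidHom.map_closure, ← Set.range_comp]
      have : (QuotientGroup.mk' (frattini P)) ∘ y = xq := by
        funext i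
        simp only [Function.comp_apply, QuotientGroup.mk'_apply]
        rw [← hx i, QuotientGroup.eq]
        have hn : (frattini P).Normal := inferInstance
        have := (frattini P).inv_mem (hn.mem_comm (hy i))
        simpa using this
      rw [this, hxq]
    have := Subgroup.comap_map_eq (QuotientGroup.mk' (frattini P)) (Subgroup.closure (Set.range y))
    rw [hmap, Subgroup.comap_top, QuotientGroup.ker_mk'] at this
    exact this.symm
  let _ := actT x A hA
  have hfree : ∀ y : T x, MulAction.stabilizer A y = ⊥ := by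
    intro y
    rw [eq_bot_iff]
    intro a ha
    rw [MulAction.mem_stabilizer_iff] at ha
    rw [Subgroup.mem_bot]
    have h1 : ((a : MulAut P) : P ≃* P).toMonoidHom = (MonoidHom.id P) := by
      apply MonoidHom.eq_of_eqOn_dense (hgen y.1 y.2)
      rintro _ ⟨i, rfl⟩
      have := congrArg (fun z : T x => z.1 i) ha
      exact this
    apply Subtype.ext
    apply MulEquiv.ext
    intro z
    have := congrArg (fun f : P →* P => f z) h1
    exact this
  have hdvd := card_dvd_of_free hfree
  rw [card_T, (card_frattini hp hP hr).2, ← pow_mul, mul_comm] at hdvd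
  exact hdvd

end Cfsg.Agent.S4207
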