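import Cfsg.Statements.S1453
import Cfsg.Agent.Lib.Helper97.PRank
import Cfsg.Agent.Lib.Helper63.PGroup

set_option autoImplicit false
set_option linter.style.haveILetI false
open Cfsg

namespace Cfsg.Agent.S1453

open scoped commutatorElement

section lemmas
variable {R : Type*} [Group R]

/-- the join of two elementwise commuting elementary abelian subgroups is elementary abelian -/
theorem sup_elemAb {p : ℕ} (E F : Subgroup R) (hEc : ∀ a ∈ E, ∀ b ∈ E, a * b = b * a)
    (hEe : ∀ a ∈ E, a ^ p = 1) (hFc : ∀ a ∈ F, ∀ b ∈ F, a * b = b * a) (hFe : ∀ a ∈ F, a ^ p = 1)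
    (hEF : ∀ a ∈ E, ∀ b ∈ F, a * b = b * a) :
    (∀ a ∈ E ⊔ F, ∀ b ∈ E ⊔ F, a * b = b * a) ∧ ∀ a ∈ E ⊔ F, a ^ p = 1 := by
  have hcl : E ⊔ F = Subgroup.closure ((E : Set R) ∪ (F : Set R)) := by
    rw [Subgroup.closure_union, Subgroup.closure_eq, Subgroup.closure_eq]
  have hgen : ∀ x ∈ (E : Set R) ∪ F, ∀ y ∈ (E : Set R) ∪ F, Commute x y := by
    rintro x (hx | hx) y (hy | hy)
    · exact hEc x hx y hy
    · exact hEF x hx y hy
    · exact (hEF y hy x hx).symm
    · exact hFc x hx y hy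
  have h1 : ∀ a ∈ E ⊔ F, ∀ y ∈ (E : Set R) ∪ F, Commute a y := by
    intro a ha y hy
    rw [hcl] at ha
    induction ha using Subgroup.closure_induction with
    | mem x hx => exact hgen x hx y hy
    | one => exact Commute.one_left y
    | mul x z _ _ ihx ihz => exact ihx.mul_left ihz
    | inv x _ ihx => exact ihx.inv_left
  have h2 : ∀ a ∈ E ⊔ F, ∀ b ∈ E ⊔ F, Commute a b := by
    intro a ha b hb
    rw [hcl] at hb
    induction hb using Subgroup.closure_induction with
    | mem y hy => exact h1 a ha y hy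
    | one => exact Commute.one_right a
    | mul x z _ _ ihx ihz => exact ihx.mul_right ihz
    | inv x _ ihx => exact ihx.inv_right
  refine ⟨fun a ha b hb => (h2 a ha b hb).eq, ?_⟩
  intro a ha
  have ha' := ha
  rw [hcl] at ha'
  induction ha' using Subgroup.closure_induction with
  | mem x hx =>
    rcases hx with hx | hx
    · exact hEe x hx
    · exact hFe x hx
  | one => exact one_pow p
  | mul x z hx hz ihx ihz =>
    have hx' : x ∈ E ⊔ F := hcl ▸ hx
    have hz' : z ∈ E ⊔ F := hcl ▸ hz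
    rw [(h2 x hx' z hz').mul_pow, ihx hx', ihz hz', one_mul]
  | inv x hx ihx =>
    have hx' : x ∈ E ⊔ F := hcl ▸ hx
    rw [inv_pow, ihx hx', inv_one]

/-- if all commutators `⁅n, e⁆` (`n ∈ N`) lie in a central subgroup `Z`, then
`|N| ≤ |C_N(e)| * |Z|`. -/
theorem card_le_of_central_comm [Finite R] (N : Subgroup R) (e : R) (Z : Subgroup R)
    (hZ : ∀ n ∈ N, ⁅n, e⁆ ∈ Z) (hZc : Z ≤ Subgroup.center R) :
    Nat.card N ≤ Nat.card (N ⊓ Subgroup.centralizer {e} : Subgroup R) * Nat.card Z := by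
  classical
  let f : N →* R :=
    { toFun := fun n => ⁅(n : R), e⁆
      map_one' := by simp
      map_mul' := by
        intro a b
        have hb : ⁅(b : R), e⁆ ∈ Subgroup.center R := hZc (hZ b b.2)
        have h1 : (a : R) * ⁅(b : R), e⁆ = ⁅(b : R), e⁆ * (a : R) :=
          Subgroup.mem_center_iff.mp hb a
        show ⁅((a * b : N) : R), e⁆ = ⁅(a : R), e⁆ * ⁅(b : R), e⁆
        rw [Subgroup.coe_mul]
        calc ⁅(a : R) * (b : R), e⁆ = ((a : R) * ⁅(b : R), e⁆) * e * (a : R)⁻¹ * e⁻¹ := by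
              simp only [commutatorElement_def]; group
          _ = (⁅(b : R), e⁆ * (a : R)) * e * (a : R)⁻¹ * e⁻¹ := by rw [h1]
          _ = ⁅(b : R), e⁆ * ⁅(a : R), e⁆ := by
              simp only [commutatorElement_def]; group
          _ = ⁅(a : R), e⁆ * ⁅(b : R), e⁆ :=
              (Subgroup.mem_center_iff.mp hb _).symm }
  have hf : ∀ n : N, f n = ⁅(n : R), e⁆ := fun n => rfl
  have hrange : f.range ≤ Z := by
    rintro x ⟨n, rfl⟩
    exact hZ n n.2
  have hker : (f.ker).map N.subtype ≤ N ⊓ Subgroup.centralizer {e} := by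
    rintro x ⟨n, hn, rfl⟩
    refine ⟨n.2, ?_⟩
    show (n : R) ∈ Subgroup.centralizer {e}
    rw [Subgroup.mem_centralizer_singleton_iff]
    have h1 : ⁅(n : R), e⁆ = 1 := hn
    rw [commutatorElement_eq_one_iff_mul_comm] at h1
    exact h1
  have h1 : Nat.card (f.ker) * Nat.card f.range = Nat.card N := by
    rw [← Subgroup.index_ker]
    exact Subgroup.card_mul_index _
  have h2 : Nat.card (f.ker) ≤ Nat.card (N ⊓ Subgroup.centralizer {e} : Subgroup R) := by
    rw [← Subgroup.card_map_of_injective (K := f.ker) N.subtype_injective]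
    exact Subgroup.card_le_of_le hker
  have h3 : Nat.card f.range ≤ Nat.card Z := Subgroup.card_le_of_le hrange
  rw [← h1]
  exact Nat.mul_le_mul h2 h3

/-- if `c = ⁅y, x⁆` commutes with `y` and `y ^ p = 1` then `c ^ p = 1` -/
theorem comm_pow_eq_one {p : ℕ} (x y : R) (hc : Commute ⁅y, x⁆ y) (hy : y ^ p = 1) :
    ⁅y, x⁆ ^ p = 1 := by
  have h := Cfsg.Agent.Lib.Helper68.pow_mul_class2 x y hc p
  rw [hy, one_mul, mul_one] at h
  -- x = c^p * x
  have : ⁅y, x⁆ ^ p * x = 1 * x := by rw [one_mul]; exact h.symm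
  exact mul_right_cancel this

/-- a proper subgroup of a subgroup of order `p²` in a `p`-group has order `1` or `p` -/
theorem sub_card_sq [Finite R] {p : ℕ} [Fact p.Prime] (hR : IsPGroup p R) (A B : Subgroup R)
    (hAB : A ≤ B) (hne : A ≠ B) (hB : Nat.card B = p ^ 2) :
    Nat.card A = 1 ∨ Nat.card A = p := by
  have hpp : p.Prime := Fact.out
  obtain ⟨j, hj⟩ := (hR.to_subgroup A).exists_card_eq
  have hj1 : j ≤ 1 := by
    by_contra hcon
    push Not at hcon
    apply hne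
    apply Subgroup.eq_of_le_of_card_ge hAB
    rw [hB, hj]
    exact Nat.pow_le_pow_right hpp.pos hcon
  interval_cases j
  · left; simpa using hj
  · right; simpa using hj

/-- the elements of order dividing `p` in the centre form a subgroup -/
def omegaCenter (p : ℕ) (R : Type*) [Group R] : Subgroup R where
  carrier := {x | x ∈ Subgroup.center R ∧ x ^ p = 1}
  mul_mem' := by
    rintro a b ⟨ha, ha'⟩ ⟨hb, hb'⟩
    refine ⟨mul_mem ha hb, ?_⟩
    have hab : Commute a b := (Subgroup.mem_center_iff.mp hb a)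
    rw [hab.mul_pow, ha', hb', one_mul]
  one_mem' := ⟨one_mem _, one_pow _⟩
  inv_mem' := by
    rintro a ⟨ha, ha'⟩
    exact ⟨inv_mem ha, by rw [inv_pow, ha', inv_one]⟩

theorem z2_comm_mem_center {x : R} (hx : x ∈ Subgroup.upperCentralSeries R 2) (g : R) :
    ⁅x, g⁆ ∈ Subgroup.center R := by
  have h := (Subgroup.mem_upperCentralSeries_succ_iff (n := 1)).mp hx g
  rwa [Subgroup.upperCentralSeries_one] at h

/-- for odd `p`, the elements of order dividing `p` in the second centre form a subgroup -/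
theorem exists_omegaZ2 {p : ℕ} (hpp : p.Prime) (hp : p ≠ 2) :
    ∃ Ws : Subgroup R, (Ws : Set R) = {x | x ∈ Subgroup.upperCentralSeries R 2 ∧ x ^ p = 1} := by
  refine ⟨{ carrier := {x | x ∈ Subgroup.upperCentralSeries R 2 ∧ x ^ p = 1}
            mul_mem' := ?_
            one_mem' := ⟨one_mem _, one_pow _⟩
            inv_mem' := ?_ }, rfl⟩
  · rintro a b ⟨ha, ha'⟩ ⟨hb, hb'⟩
    refine ⟨mul_mem ha hb, ?_⟩
    have hc : ⁅b, a⁆ ∈ Subgroup.center R := z2_comm_mem_center hb a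
    have hca : Commute ⁅b, a⁆ a := (Subgroup.mem_center_iff.mp hc a).symm
    have hcb : Commute ⁅b, a⁆ b := (Subgroup.mem_center_iff.mp hc b).symm
    rw [Cfsg.Agent.Lib.Helper68.mul_pow_class2 a b hca hcb p, ha', hb', one_mul, one_mul]
    have hcp : ⁅b, a⁆ ^ p = 1 := comm_pow_eq_one a b hcb hb'
    obtain ⟨t, ht⟩ : ∃ t, p = 2 * t + 1 := by
      rcases hpp.eq_two_or_odd with h | h
      · exact absurd h hp
      · exact ⟨p / 2, by omega⟩
    have hsum : (∑ i ∈ Finset.range p, i) = p * t := by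
      have h1 := Finset.sum_range_id_mul_two p
      have h2 : p - 1 = 2 * t := by omega
      rw [h2] at h1
      have h3 : (∑ i ∈ Finset.range p, i) * 2 = (p * t) * 2 := by rw [h1]; ring
      exact Nat.eq_of_mul_eq_mul_right (by norm_num) h3
    rw [hsum, pow_mul, hcp, one_pow]
  · rintro a ⟨ha, ha'⟩
    exact ⟨inv_mem ha, by rw [inv_pow, ha', inv_one]⟩

theorem core [Finite R] (p : ℕ) [Fact p.Prime] (hp : p ≠ 2) (hR : IsPGroup p R)
    (hr : ¬ Cfsg.PRankLE p 2 R) (E : Subgroup R) (hEc : ∀ a ∈ E, ∀ b ∈ E, a * b = b * a)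
    (hEe : ∀ a ∈ E, a ^ p = 1) (hE2 : Nat.card E = p ^ 2)
    (hEmax : ∀ B : Subgroup R, (∀ a ∈ B, ∀ b ∈ B, a * b = b * a) → (∀ a ∈ B, a ^ p = 1) →
      E ≤ B → B = E)
    (Zs Ws : Subgroup R) (hZs : ∀ x, x ∈ Zs ↔ x ∈ Subgroup.center R ∧ x ^ p = 1)
    (hWs : ∀ x, x ∈ Ws ↔ x ∈ Subgroup.upperCentralSeries R 2 ∧ x ^ p = 1) :
    ¬ E ≤ Subgroup.centralizer (Ws : Set R) ∧ Nat.card Zs = p ∧
      ((∀ a ∈ Ws, ∀ b ∈ Ws, a * b = b * a) ∧ Nat.card Ws = p ^ 2) ∧
      (Subgroup.centralizer (Ws : Set R)).index = p := by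
  classical
  have hpp : p.Prime := Fact.out
  have hp1 : 1 < p := hpp.one_lt
  obtain ⟨M, hMn, hMc, hMe, hMcard⟩ :=
    Cfsg.Agent.Lib.Helper97.PRank.exists_normal_elemAb_card_cube hp hR hr
  haveI := hMn
  have hMcomm : ∀ a ∈ M, ∀ b ∈ M, a * b = b * a := fun a ha b hb =>
    congrArg Subtype.val (hMc.is_comm.comm ⟨a, ha⟩ ⟨b, hb⟩)
  have hZcen : Zs ≤ Subgroup.center R := fun x hx => ((hZs x).mp hx).1
  have hZe : ∀ a ∈ Zs, a ^ p = 1 := fun x hx => ((hZs x).mp hx).2
  have hcomm_cen : ∀ z ∈ Subgroup.center R, ∀ g : R, g * z = z * g :=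
    fun z hz g => Subgroup.mem_center_iff.mp hz g
  -- Step 1 : Zs ≤ E
  have hZE : Zs ≤ E := by
    obtain ⟨h1, h2⟩ := sup_elemAb (p := p) E Zs hEc hEe
      (fun a ha b _ => (hcomm_cen a (hZcen ha) b).symm) hZe
      (fun a _ b hb => hcomm_cen b (hZcen hb) a)
    have := hEmax (E ⊔ Zs) h1 h2 le_sup_left
    rw [← this]; exact le_sup_right
  have hM1 : M ≠ ⊥ := by
    intro h
    rw [h, Subgroup.card_bot] at hMcard
    have : 1 < p ^ 3 := Nat.one_lt_pow (by norm_num) hp1
    omega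
  obtain ⟨z₀, hz₀M, hz₀Z, hz₀1⟩ :=
    Cfsg.Agent.Lib.Helper32.exists_ne_one_mem_normal_inf_center hR M hM1
  have hz₀Zs : z₀ ∈ Zs := (hZs z₀).mpr ⟨hz₀Z, hMe z₀ hz₀M⟩
  have hZ1 : Zs ≠ ⊥ := by
    intro h; rw [h] at hz₀Zs; exact hz₀1 (Subgroup.mem_bot.mp hz₀Zs)
  have hp23 : p ^ 2 < p ^ 3 := Nat.pow_lt_pow_right hp1 (by norm_num)
  have hZneE : Zs ≠ E := by
    intro h
    have hEcen : E ≤ Subgroup.center R := h ▸ hZcen
    obtain ⟨h1, h2⟩ := sup_elemAb (p := p) E M hEc hEe hMcomm hMe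
      (fun a ha b _ => (hcomm_cen a (hEcen ha) b).symm)
    have h3 := hEmax (E ⊔ M) h1 h2 le_sup_left
    have h4 : M ≤ E := by rw [← h3]; exact le_sup_right
    have h5 := Subgroup.card_le_of_le h4
    rw [hMcard, hE2] at h5
    omega
  have hZcard : Nat.card Zs = p := by
    rcases sub_card_sq hR Zs E hZE hZneE hE2 with h | h
    · exact absurd (Subgroup.eq_bot_of_card_eq Zs h) hZ1
    · exact h
  -- Step 2 : a normal subgroup W₀ of order p² inside M, contained in Z₂
  obtain ⟨W₀, hW₀n, hW₀M, hW₀card⟩ :=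
    Cfsg.Agent.S0100.exists_normal_le_card hR 3 M hMn hMcard 2 (by norm_num)
  haveI := hW₀n
  have hW₀Z2 : W₀ ≤ Subgroup.upperCentralSeries R 2 := by
    obtain ⟨K, hK⟩ : ∃ K : Subgroup R, K = ⁅W₀, (⊤ : Subgroup R)⁆ := ⟨_, rfl⟩
    haveI hKn : K.Normal := by rw [hK]; infer_instance
    have hKW : K ≤ W₀ := by rw [hK]; exact Subgroup.commutator_le_left W₀ ⊤
    have hKne : K ≠ W₀ := by
      intro h
      have hlcs : ∀ n, W₀ ≤ Subgroup.lowerCentralSeries (⊤ : Subgroup R) n := by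
        intro n
        induction n with
        | zero => rw [Subgroup.lowerCentralSeries_zero]; exact le_top
        | succ n ih =>
          rw [Subgroup.lowerCentralSeries_succ]
          calc W₀ = K := h.symm
            _ = ⁅W₀, (⊤ : Subgroup R)⁆ := hK
            _ ≤ ⁅Subgroup.lowerCentralSeries (⊤ : Subgroup R) n, (⊤ : Subgroup R)⁆ :=
                Subgroup.commutator_mono ih le_rfl
      haveI : Group.IsNilpotent R := hR.isNilpotent
      obtain ⟨n, hn⟩ := Subgroup.nilpotent_iff_lowerCentralSeries.mp (inferInstance : Group.IsNilpotent R)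
      have h1 : W₀ = ⊥ := by
        rw [eq_bot_iff, ← hn]; exact hlcs n
      rw [h1, Subgroup.card_bot] at hW₀card
      have : 1 < p ^ 2 := Nat.one_lt_pow (by norm_num) hp1
      omega
    have hKcen : K ≤ Subgroup.center R := by
      rcases sub_card_sq hR K W₀ hKW hKne hW₀card with h | h
      · rw [Subgroup.eq_bot_of_card_eq K h]; exact bot_le
      · exact Cfsg.Agent.Lib.Helper63.normal_card_prime_le_center hR K h
    intro w hw
    rw [show (2 : ℕ) = 1 + 1 from rfl, Subgroup.mem_upperCentralSeries_succ_iff]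
    intro g
    rw [Subgroup.upperCentralSeries_one]
    apply hKcen
    rw [hK]
    exact Subgroup.commutator_mem_commutator hw (Subgroup.mem_top g)
  have hW₀Ws : W₀ ≤ Ws := fun w hw => (hWs w).mpr ⟨hW₀Z2 hw, hMe w (hW₀M hw)⟩
  -- Step 4 : an element e of E outside Zs; everything of order p commuting with it is in E
  have hL6 : ∀ e' ∈ E, e' ∉ Zs → ∀ x : R, x ^ p = 1 → x * e' = e' * x → x ∈ E := by
    intro e' he'E he'Z x hxp hxe
    have hgen : Zs ⊔ Subgroup.zpowers e' = E := by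
      by_contra hne
      have hle : Zs ⊔ Subgroup.zpowers e' ≤ E := sup_le hZE (Subgroup.zpowers_le.mpr he'E)
      have h1 : Nat.card (Zs ⊔ Subgroup.zpowers e' : Subgroup R) = p := by
        rcases sub_card_sq hR _ E hle hne hE2 with h | h
        · have h2 := Subgroup.card_le_of_le (le_sup_left : Zs ≤ Zs ⊔ Subgroup.zpowers e')
          rw [h, hZcard] at h2
          omega
        · exact h
      have h2 : Zs = Zs ⊔ Subgroup.zpowers e' :=
        Subgroup.eq_of_le_of_card_ge le_sup_left (by rw [h1, hZcard])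
      apply he'Z
      rw [h2]
      exact (le_sup_right : Subgroup.zpowers e' ≤ Zs ⊔ Subgroup.zpowers e')
        (Subgroup.mem_zpowers e')
    have hEx : E ≤ Subgroup.centralizer ({x} : Set R) := by
      rw [← hgen]
      apply sup_le
      · intro z hz
        rw [Subgroup.mem_centralizer_singleton_iff]
        exact (hcomm_cen z (hZcen hz) x).symm
      · rw [Subgroup.zpowers_le, Subgroup.mem_centralizer_singleton_iff]
        exact hxe.symm
    have hEx' : ∀ a ∈ E, a * x = x * a := fun a ha =>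
      Subgroup.mem_centralizer_singleton_iff.mp (hEx ha)
    have hxx : ∀ a ∈ Subgroup.zpowers x, ∀ b ∈ Subgroup.zpowers x, a * b = b * a := by
      rintro a ⟨i, rfl⟩ b ⟨j, rfl⟩
      exact ((Commute.refl x).zpow_zpow i j).eq
    have hxe' : ∀ a ∈ Subgroup.zpowers x, a ^ p = 1 := by
      rintro a ⟨i, rfl⟩
      show (x ^ i) ^ p = 1
      rw [← zpow_natCast, ← zpow_mul, mul_comm, zpow_mul, zpow_natCast, hxp, one_zpow]
    have hEzx : ∀ a ∈ E, ∀ b ∈ Subgroup.zpowers x, a * b = b * a := by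
      rintro a ha b ⟨i, rfl⟩
      have : Commute a x := hEx' a ha
      exact (this.zpow_right i).eq
    obtain ⟨h1, h2⟩ := sup_elemAb (p := p) E (Subgroup.zpowers x) hEc hEe hxx hxe' hEzx
    have h3 := hEmax (E ⊔ Subgroup.zpowers x) h1 h2 le_sup_left
    rw [← h3]
    exact (le_sup_right : Subgroup.zpowers x ≤ E ⊔ Subgroup.zpowers x) (Subgroup.mem_zpowers x)
  -- Step 5 : E ∩ Z₂ ≤ Zs
  have hA : ∀ e' ∈ E, e' ∈ Subgroup.upperCentralSeries R 2 → e' ∈ Zs := by
    intro e' he'E he'Z2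
    by_contra he'Z
    have hZ : ∀ m ∈ M, ⁅m, e'⁆ ∈ Zs := by
      intro m _
      have h1 : ⁅e', m⁆ ∈ Subgroup.center R := z2_comm_mem_center he'Z2 m
      have h2 : ⁅e', m⁆ ^ p = 1 :=
        comm_pow_eq_one m e' (hcomm_cen _ h1 e').symm (hEe e' he'E)
      have h3 : ⁅e', m⁆ ∈ Zs := (hZs _).mpr ⟨h1, h2⟩
      have h4 : ⁅m, e'⁆ = ⁅e', m⁆⁻¹ := (commutatorElement_inv e' m).symm
      rw [h4]
      exact inv_mem h3
    have h1 := card_le_of_central_comm M e' Zs hZ hZcen
    rw [hMcard, hZcard] at h1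
    have hle : M ⊓ Subgroup.centralizer ({e'} : Set R) ≤ E := by
      rintro x ⟨hxM, hxC⟩
      exact hL6 e' he'E he'Z x (hMe x hxM) (Subgroup.mem_centralizer_singleton_iff.mp hxC)
    have h2 : p ^ 2 ≤ Nat.card (M ⊓ Subgroup.centralizer ({e'} : Set R) : Subgroup R) := by
      have : p ^ 2 * p ≤ Nat.card (M ⊓ Subgroup.centralizer ({e'} : Set R) : Subgroup R) * p := by
        calc p ^ 2 * p = p ^ 3 := by ring
          _ ≤ _ := h1
      exact Nat.le_of_mul_le_mul_right this hpp.pos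
    have h3 : M ⊓ Subgroup.centralizer ({e'} : Set R) = E :=
      Subgroup.eq_of_le_of_card_ge hle (by rw [hE2]; exact h2)
    have h4 : E ≤ M := by rw [← h3]; exact inf_le_left
    have h5 := hEmax M hMcomm hMe h4
    rw [h5, hE2] at hMcard
    omega
  -- an element of E outside Zs
  obtain ⟨e, heE, heZ⟩ : ∃ e ∈ E, e ∉ Zs := by
    by_contra hcon
    push Not at hcon
    exact hZneE (le_antisymm hZE hcon)
  -- Step 6 : Ws has order p²
  have hWcard_le : Nat.card Ws ≤ p ^ 2 := by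
    have hZ : ∀ n ∈ Ws, ⁅n, e⁆ ∈ Zs := by
      intro n hn
      obtain ⟨hn2, hnp⟩ := (hWs n).mp hn
      have h1 : ⁅n, e⁆ ∈ Subgroup.center R := z2_comm_mem_center hn2 e
      have h2 : ⁅n, e⁆ ^ p = 1 := comm_pow_eq_one e n (hcomm_cen _ h1 n).symm hnp
      exact (hZs _).mpr ⟨h1, h2⟩
    have h1 := card_le_of_central_comm Ws e Zs hZ hZcen
    have hle : Ws ⊓ Subgroup.centralizer ({e} : Set R) ≤ Zs := by
      rintro x ⟨hxW, hxC⟩
      obtain ⟨hx2, hxp⟩ := (hWs x).mp hxW
      have hxE : x ∈ E :=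
        hL6 e heE heZ x hxp (Subgroup.mem_centralizer_singleton_iff.mp hxC)
      exact hA x hxE hx2
    have h2 := Subgroup.card_le_of_le hle
    rw [hZcard] at h1 h2
    calc Nat.card Ws ≤ _ := h1
      _ ≤ p * p := Nat.mul_le_mul_right p h2
      _ = p ^ 2 := by ring
  have hW₀eq : W₀ = Ws := Subgroup.eq_of_le_of_card_ge hW₀Ws (by rw [hW₀card]; exact hWcard_le)
  have hWcard : Nat.card Ws = p ^ 2 := by rw [← hW₀eq]; exact hW₀card
  have hWM : Ws ≤ M := hW₀eq ▸ hW₀M
  haveI hWn : Ws.Normal := hW₀eq ▸ hW₀n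
  have hWcomm : ∀ a ∈ Ws, ∀ b ∈ Ws, a * b = b * a := fun a ha b hb =>
    hMcomm a (hWM ha) b (hWM hb)
  have hWe : ∀ a ∈ Ws, a ^ p = 1 := fun a ha => hMe a (hWM ha)
  -- Step 7
  have hpa : ¬ E ≤ Subgroup.centralizer (Ws : Set R) := by
    intro hle
    obtain ⟨h1, h2⟩ := sup_elemAb (p := p) E Ws hEc hEe hWcomm hWe
      (fun a ha b hb => ((Subgroup.mem_centralizer_iff.mp (hle ha)) b hb).symm)
    have h3 := hEmax (E ⊔ Ws) h1 h2 le_sup_left
    have h4 : Ws ≤ E := by rw [← h3]; exact le_sup_right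
    have h5 : Ws = E := Subgroup.eq_of_le_of_card_ge h4 (by rw [hE2, hWcard])
    apply heZ
    apply hA e heE
    have : e ∈ Ws := h5 ▸ heE
    exact ((hWs e).mp this).1
  refine ⟨hpa, hZcard, ⟨hWcomm, hWcard⟩, ?_⟩
  have hidx := Cfsg.Agent.Lib.Helper97.PRank.index_centralizer_le hR Ws hWe hWcard
  obtain ⟨j, hj⟩ := hR.index (Subgroup.centralizer (Ws : Set R))
  have hj0 : j ≠ 0 := by
    rintro rfl
    rw [pow_zero, Subgroup.index_eq_one] at hj
    apply hpa
    rw [hj]
    exact le_top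
  have hj1 : j ≤ 1 := by
    by_contra hcon
    push Not at hcon
    have h1 : p ^ 2 ≤ p ^ j := Nat.pow_le_pow_right hpp.pos hcon
    rw [hj] at hidx
    have : p < p ^ 2 := by nlinarith
    omega
  have : j = 1 := by omega
  rw [hj, this, pow_one]

end lemmas

/-- Let p be an odd prime and R a finite p-group with an elementary abelian subgroup of order p ^ 3 and an elementary abelian subgroup E of order p ^ 2 contained in no larger elementary abelian subgroup. Let Z₂ be the second centre of R, W the subgroup generated by the elements of Z₂ of order dividing p, and T = C_R(W). Then E is not contained in T; the elements of order dividing p of the centre of R generate a group of order p; W is elementary abelian of order p ^ 2; and T is characteristic in R of index p. -/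
theorem result {R : Type*} [Group R] [Finite R] (p : ℕ) [Fact p.Prime] (hp : p ≠ 2) (hR : IsPGroup p R) (hr : ¬ Cfsg.PRankLE p 2 R)
    (E : Subgroup R) (hE : Cfsg.IsElementaryAbelian p E) (hE2 : Nat.card E = p ^ 2)
    (hEmax : ∀ B : Subgroup R, Cfsg.IsElementaryAbelian p B → E ≤ B → B = E) :
    ¬ E ≤ Subgroup.centralizer ((Subgroup.closure {x : R | x ∈ Subgroup.upperCentralSeries R 2 ∧ x ^ p = 1} : Subgroup R) : Set R) ∧
      Nat.card ↥(Subgroup.closure {x : R | x ∈ Subgroup.center R ∧ x ^ p = 1}) = p ∧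
      (Cfsg.IsElementaryAbelian p (Subgroup.closure {x : R | x ∈ Subgroup.upperCentralSeries R 2 ∧ x ^ p = 1}) ∧
        Nat.card ↥(Subgroup.closure {x : R | x ∈ Subgroup.upperCentralSeries R 2 ∧ x ^ p = 1}) = p ^ 2) ∧
      (Subgroup.centralizer ((Subgroup.closure {x : R | x ∈ Subgroup.upperCentralSeries R 2 ∧ x ^ p = 1} : Subgroup R) : Set R)).Characteristic ∧
      (Subgroup.centralizer ((Subgroup.closure {x : R | x ∈ Subgroup.upperCentralSeries R 2 ∧ x ^ p = 1} : Subgroup R) : Set R)).index = p := by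
  classical
  have hpp : p.Prime := Fact.out
  obtain ⟨Ws, hWs⟩ := exists_omegaZ2 (R := R) hpp hp
  have hclW : Subgroup.closure {x : R | x ∈ Subgroup.upperCentralSeries R 2 ∧ x ^ p = 1} = Ws := by
    rw [← hWs, Subgroup.closure_eq]
  have hclZ : Subgroup.closure {x : R | x ∈ Subgroup.center R ∧ x ^ p = 1} = omegaCenter p R :=
    Subgroup.closure_eq (omegaCenter p R)
  rw [hclW, hclZ]
  have hWs' : ∀ x, x ∈ Ws ↔ x ∈ Subgroup.upperCentralSeries R 2 ∧ x ^ p = 1 := by
    intro x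
    rw [← SetLike.mem_coe, hWs]
    rfl
  obtain ⟨hEc', hEe⟩ := hE
  have hEc : ∀ a ∈ E, ∀ b ∈ E, a * b = b * a := fun a ha b hb =>
    congrArg Subtype.val (hEc'.is_comm.comm ⟨a, ha⟩ ⟨b, hb⟩)
  have hEmax' : ∀ B : Subgroup R, (∀ a ∈ B, ∀ b ∈ B, a * b = b * a) → (∀ a ∈ B, a ^ p = 1) →
      E ≤ B → B = E := by
    intro B hBc hBe hEB
    refine hEmax B ⟨⟨⟨?_⟩⟩, hBe⟩ hEB
    rintro ⟨a, ha⟩ ⟨b, hb⟩
    exact Subtype.ext (hBc a ha b hb)
  obtain ⟨h1, h2, ⟨h3, h4⟩, h5⟩ := core p hp hR hr E hEc hEe hE2 hEmax' (omegaCenter p R) Ws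
    (fun x => Iff.rfl) hWs'
  refine ⟨h1, h2, ⟨⟨⟨⟨?_⟩⟩, fun a ha => ((hWs' a).mp ha).2⟩, h4⟩, ?_, h5⟩
  · rintro ⟨a, ha⟩ ⟨b, hb⟩
    exact Subtype.ext (h3 a ha b hb)
  · rw [Subgroup.characteristic_iff_map_le]
    intro φ
    rintro _ ⟨x, hx, rfl⟩
    rw [SetLike.mem_coe, Subgroup.mem_centralizer_iff] at hx
    rw [Subgroup.mem_centralizer_iff]
    intro w hw
    have hw' : φ.symm w ∈ Ws := by
      rw [hWs']
      obtain ⟨hw2, hwp⟩ := (hWs' w).mp hw
      constructor
      · have hchar : (Subgroup.upperCentralSeries R 2).Characteristic := inferInstance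
        have h8 := (Subgroup.characteristic_iff_comap_eq.mp hchar) φ.symm
        have h9 : w ∈ (Subgroup.upperCentralSeries R 2).comap φ.symm.toMonoidHom := by
          rw [h8]; exact hw2
        exact h9
      · rw [← map_pow, hwp, map_one]
    have h6 := hx (φ.symm w) hw'
    have h7 := congrArg φ h6
    simpa using h7

end Cfsg.Agent.S1453
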