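import Cfsg.Statements.S1449
import Cfsg.Agent.Lib.Helper32.Rank2Aut

set_option autoImplicit false
set_option linter.style.haveILetI false
open Cfsg

namespace Cfsg.Agent.S1449

/-- Let G be a finite group, p an odd prime, R a p-subgroup with no elementary abelian subgroup of order p ^ 3, and A a solvable subgroup of odd order normalizing R with A ∩ C_G(R) = 1. Then the derived subgroup [A, A] is a p-group. -/
theorem result {G : Type*} [Group G] [Finite G] (p : ℕ) [Fact p.Prime] (hp : p ≠ 2) (R A : Subgroup G) (hR : IsPGroup p R) (hr : Cfsg.PRankLE p 2 R)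
    (hA : (A ≤ Subgroup.normalizer (R : Set G))) (hAs : Group.IsSolvable A) (hAodd : Odd (Nat.card A)) (hfaith : A ⊓ Subgroup.centralizer (R : Set G) = ⊥) :
    IsPGroup p ↥⁅A, A⁆ := by
  haveI := hAs
  let θ : ↥A →* MulAut ↥R := R.normalizerMonoidHom.comp (Subgroup.inclusion hA)
  have hθ : Function.Injective θ := by
    rw [injective_iff_map_eq_one]
    intro a ha
    have h1 : Subgroup.inclusion hA a ∈ R.normalizerMonoidHom.ker := ha
    rw [Subgroup.normalizerMonoidHom_ker, Subgroup.mem_subgroupOf] at h1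
    have h2 : (a : G) ∈ A ⊓ Subgroup.centralizer (R : Set G) := ⟨a.2, h1⟩
    rw [hfaith, Subgroup.mem_bot] at h2
    exact Subtype.ext h2
  have hcard : Nat.card θ.range = Nat.card A :=
    (Nat.card_congr (MonoidHom.ofInjective hθ).toEquiv).symm
  haveI : Group.IsSolvable θ.range :=
    Group.isSolvable_of_surjective (f := θ.rangeRestrict) θ.rangeRestrict_surjective
  have hmain := Cfsg.Agent.Lib.Helper32.Rank2.isPGroup_commutator_mulAut p hp hR hr θ.range
    (by rw [hcard]; exact hAodd)
  intro g
  have hg : (g : G) ∈ (commutator ↥A).map A.subtype := by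
    rw [Subgroup.map_subtype_commutator]; exact g.2
  obtain ⟨g', hg', hgg'⟩ := hg
  have hθg : θ g' ∈ ⁅θ.range, θ.range⁆ := by
    rw [MonoidHom.range_eq_map, ← Subgroup.map_commutator, ← commutator_def]
    exact Subgroup.mem_map_of_mem _ hg'
  obtain ⟨k, hk⟩ := hmain _ hθg
  refine ⟨k, ?_⟩
  rw [← map_pow] at hk
  have h1 : g' ^ (p ^ k) = 1 := hθ (by rw [hk, map_one])
  apply Subtype.ext
  rw [Subgroup.coe_pow, Subgroup.coe_one, ← hgg']
  have := congrArg (fun x : ↥A => (x : G)) h1
  simpa using this

end Cfsg.Agent.S1449
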