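import Cfsg.Statements.S0002
import Mathlib

set_option autoImplicit false
open Cfsg
open scoped Pointwise

namespace Cfsg.Agent.S0002

/-- class of a transversal in the quotient by `diff` -/
def mkQ {G : Type*} [Group G] (A : Subgroup G) [IsMulCommutative A] [A.FiniteIndex]
    (T : A.LeftTransversal) : A.QuotientDiff := Quotient.mk'' T

open MulAction in
theorem stabilizer_mk_eq {G : Type*} [Group G] [Finite G] (A : Subgroup G) [A.Normal]
    [IsMulCommutative A] (hA : (Nat.card A).Coprime A.index)
    (H : Subgroup G) (hH : Subgroup.IsComplement' A H) :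
    stabilizer G (mkQ A ⟨(H : Set G), hH.symm⟩) = H := by
  set α : A.QuotientDiff := mkQ A ⟨(H : Set G), hH.symm⟩ with hα
  have hc : Subgroup.IsComplement' A (stabilizer G α) :=
    Subgroup.isComplement'_stabilizer_of_coprime hA
  have hle : H ≤ stabilizer G α := by
    intro h hh
    rw [mem_stabilizer_iff]
    change Quotient.mk'' _ = Quotient.mk'' _
    congr 1
    apply Subtype.ext
    change MulOpposite.op h⁻¹ • (H : Set G) = H
    ext x
    rw [Set.mem_smul_set_iff_inv_smul_mem]
    simp only [MulOpposite.smul_eq_mul_unop, MulOpposite.unop_inv, MulOpposite.unop_op, inv_inv,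
      SetLike.mem_coe]
    exact H.mul_mem_cancel_right hh
  symm
  apply Subgroup.eq_of_le_of_card_ge hle
  have h1 := hc.card_mul_card
  have h2 := hH.card_mul_card
  have hpos : 0 < Nat.card A := Nat.card_pos
  have : Nat.card A * Nat.card (stabilizer G α) = Nat.card A * Nat.card H := by rw [h1, h2]
  exact (Nat.eq_of_mul_eq_mul_left hpos this).le

/-- Schur's Theorem, conjugacy part, for an abelian normal subgroup of coprime order and index: any two complements are conjugate by an element of the normal subgroup. -/
theorem result {G : Type*} [Group G] [Finite G] (A : Subgroup G) [A.Normal] [IsMulCommutative A]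
    (hA : (Nat.card A).Coprime A.index)
    (H K : Subgroup G) (hH : Subgroup.IsComplement' A H) (hK : Subgroup.IsComplement' A K) :
    ∃ a ∈ A, MulAut.conj a • H = K := by
  obtain ⟨a, ha⟩ := Subgroup.exists_smul_eq hA
    (mkQ A ⟨(H : Set G), hH.symm⟩) (mkQ A ⟨(K : Set G), hK.symm⟩)
  refine ⟨a, a.2, ?_⟩
  have h1 := stabilizer_mk_eq A hA H hH
  have h2 := stabilizer_mk_eq A hA K hK
  rw [← ha] at h2
  change MulAction.stabilizer G ((a : G) • mkQ A ⟨(H : Set G), hH.symm⟩) = K at h2
  rw [MulAction.stabilizer_smul_eq_stabilizer_map_conj, h1] at h2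
  rw [← h2]
  rfl

end Cfsg.Agent.S0002
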