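import Cfsg.Statements.S1960
import Cfsg.Agent.Lib.Helper33.Transfer

set_option autoImplicit false
open Cfsg
open Cfsg.Agent.Lib.Helper33
open scoped commutatorElement

namespace Cfsg.Agent.S1960

variable {G : Type*} [Group G]

theorem card_closure_rc (g : G) (A : Set G) :
    Nat.card (Subgroup.closure (rc g A)) = Nat.card (Subgroup.closure A) := by
  rw [closure_rc, card_cj]

theorem cj_iSup₂ (c : G) (𝓦 : Set (Subgroup G → Subgroup G)) (f : (Subgroup G → Subgroup G) → Subgroup G) :
    cj c (⨆ W ∈ 𝓦, f W) = ⨆ W ∈ 𝓦, cj c (f W) := by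
  unfold cj
  rw [Subgroup.map_iSup]
  congr 1
  funext W
  rw [Subgroup.map_iSup]

/-- Family control of transfer with respect to a prescribed Sylow subgroup `T1` of `H`. -/
theorem fct_transport [Finite G] {p : ℕ} [Fact p.Prime] {𝓦 : Set (Subgroup G → Subgroup G)}
    (h𝓦 : ∀ W ∈ 𝓦, Cfsg.IsConjugacyFunctor p W) {H : Subgroup G}
    (hctl : Cfsg.FamilyControlsTransferIn p 𝓦 H) {T1 : Subgroup G} (h1 : T1 ≤ H)
    (h1p : IsPGroup p T1) (h1i : ¬ p ∣ T1.relIndex H) :
    T1 ⊓ ⁅H, H⁆ = ⨆ W ∈ 𝓦, T1 ⊓ ⁅H ⊓ Subgroup.normalizer ((W T1 : Subgroup G) : Set G),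
      H ⊓ Subgroup.normalizer ((W T1 : Subgroup G) : Set G)⁆ := by
  obtain ⟨T0, h0, h0p, h0i, hc0⟩ := hctl
  obtain ⟨c, hcH, hc⟩ := sylow_sub_eq h0 h0p h0i h1 h1p h1i
  have hH : cj c H = H := cj_eq_self_of_mem hcH
  have := congrArg (cj c) hc0
  rw [cj_inf, cj_commutator, hH, hc, cj_iSup₂] at this
  rw [this]
  refine iSup_congr fun W => iSup_congr fun hW => ?_
  rw [cj_inf, cj_commutator, cj_inf, hH, hc, ← normalizer_cj, ← functor_cj (h𝓦 W hW) h0p, hc]

theorem main [Finite G] {p : ℕ} [Fact p.Prime] (S : Sylow p G)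
    (𝓦 : Set (Subgroup G → Subgroup G)) (h𝓦 : ∀ W ∈ 𝓦, Cfsg.IsConjugacyFunctor p W)
    (hloc : ∀ T : Subgroup G, T ≤ (S : Subgroup G) → T ≠ ⊥ → FN p (S : Subgroup G) T →
      Cfsg.FamilyControlsTransferIn p 𝓦 (Subgroup.normalizer ((T : Subgroup G) : Set G)))
    (F0 : Subgroup G)
    (hF0 : ∀ W ∈ 𝓦, (S : Subgroup G) ⊓ ⁅Subgroup.normalizer ((W (S : Subgroup G) : Subgroup G) : Set G),
      Subgroup.normalizer ((W (S : Subgroup G) : Subgroup G) : Set G)⁆ ≤ F0)
    (m : ℕ) :
    ∀ (A : Set G) (g : G), A ⊆ (S : Subgroup G) → rc g A ⊆ (S : Subgroup G) →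
      Nat.card (S : Subgroup G) - Nat.card (Subgroup.closure A) = m →
      GoodT F0 A g := by
  induction m using Nat.strong_induction_on with
  | _ m ihm =>
    have inner : ∀ n : ℕ, ∀ T : Subgroup G, T ≤ (S : Subgroup G) → T ≠ ⊥ → FN p (S : Subgroup G) T →
        Nat.card (S : Subgroup G) -
          Nat.card ((S : Subgroup G) ⊓ Subgroup.normalizer (T : Set G) : Subgroup G) = n →
        Nat.card (S : Subgroup G) -
          Nat.card ((S : Subgroup G) ⊓ Subgroup.normalizer (T : Set G) : Subgroup G) ≤ m →
        ((S : Subgroup G) ⊓ Subgroup.normalizer (T : Set G)) ⊓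
          ⁅Subgroup.normalizer (T : Set G), Subgroup.normalizer (T : Set G)⁆ ≤ F0 := by
      intro n
      induction n using Nat.strong_induction_on with
      | _ n ihn =>
        intro T hTS hTne hTfn hn hnm
        set R := (S : Subgroup G) ⊓ Subgroup.normalizer (T : Set G) with hRdef
        have hRp : IsPGroup p R := S.isPGroup'.to_le inf_le_left
        have hTR : T ≤ R := le_inf hTS Subgroup.le_normalizer
        have hRne : R ≠ ⊥ := by
          intro h
          apply hTne
          rw [eq_bot_iff, ← h]; exact hTR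
        rw [fct_transport h𝓦 (hloc T hTS hTne hTfn) (T1 := R) inf_le_right hRp hTfn]
        refine iSup₂_le ?_
        intro W hW
        have hWf := h𝓦 W hW
        have hstep : R ⊓ ⁅Subgroup.normalizer (T : Set G) ⊓ Subgroup.normalizer ((W R : Subgroup G) : Set G),
            Subgroup.normalizer (T : Set G) ⊓ Subgroup.normalizer ((W R : Subgroup G) : Set G)⁆ ≤
            R ⊓ ⁅Subgroup.normalizer ((W R : Subgroup G) : Set G),
              Subgroup.normalizer ((W R : Subgroup G) : Set G)⁆ :=
          inf_le_inf_left _ (Subgroup.commutator_mono inf_le_right inf_le_right)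
        refine le_trans hstep ?_
        by_cases hRS : R = (S : Subgroup G)
        · rw [hRS]
          exact hF0 W hW
        · have hRlt : R < (S : Subgroup G) := lt_of_le_of_ne inf_le_left hRS
          have hVR : W R ≤ R := functor_le hWf hRp
          have hVS : W R ≤ (S : Subgroup G) := le_trans hVR inf_le_left
          have hVne : W R ≠ ⊥ := (hWf R hRp).2.1 hRne
          have hgrow := normalizer_growth S.isPGroup' hRlt
          have hNV : (S : Subgroup G) ⊓ Subgroup.normalizer (R : Set G) ≤
              (S : Subgroup G) ⊓ Subgroup.normalizer ((W R : Subgroup G) : Set G) :=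
            inf_le_inf_left _ (normalizer_le_normalizer_functor hWf hRp)
          have hRQ : R < (S : Subgroup G) ⊓ Subgroup.normalizer ((W R : Subgroup G) : Set G) :=
            lt_of_lt_of_le hgrow hNV
          set Q := (S : Subgroup G) ⊓ Subgroup.normalizer ((W R : Subgroup G) : Set G) with hQdef
          obtain ⟨k, hkV, hkFN, hkQ⟩ := exists_fn_conj S (W R) hVS
          have hQcard : Nat.card R < Nat.card Q :=
            Set.Finite.card_lt_card (Set.toFinite _) hRQ
          have hQS : Nat.card Q ≤ Nat.card (S : Subgroup G) := Subgroup.card_le_of_le inf_le_left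
          have gQ : GoodT F0 (Q : Set G) k⁻¹ := by
            refine ihm (Nat.card (S : Subgroup G) - Nat.card Q) (by omega) (Q : Set G) k⁻¹
              (fun a ha => ha.1) ?_ (by rw [Subgroup.closure_eq])
            rw [rc_coe, inv_inv]
            exact hkQ
          have hQR'' : cj k Q ≤ (S : Subgroup G) ⊓
              Subgroup.normalizer ((cj k (W R) : Subgroup G) : Set G) := by
            refine le_inf hkQ ?_
            rw [normalizer_cj]
            exact cj_mono inf_le_right
          have hcard'' : Nat.card Q ≤ Nat.card ((S : Subgroup G) ⊓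
              Subgroup.normalizer ((cj k (W R) : Subgroup G) : Set G) : Subgroup G) := by
            rw [← card_cj k Q]
            exact Subgroup.card_le_of_le hQR''
          have hin := ihn _ (by omega) (cj k (W R)) hkV (by rw [Ne, cj_eq_bot_iff]; exact hVne)
            hkFN rfl (by omega)
          intro u hu
          have hu1 : u ∈ R := hu.1
          have hu2 : u ∈ ⁅Subgroup.normalizer ((W R : Subgroup G) : Set G),
              Subgroup.normalizer ((W R : Subgroup G) : Set G)⁆ := hu.2
          have hku : k * u * k⁻¹ ∈ F0 := by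
            apply hin
            refine Subgroup.mem_inf.mpr ⟨hQR'' (conj_mem_cj (hRQ.le hu1)), ?_⟩
            rw [normalizer_cj, ← cj_commutator]
            exact conj_mem_cj hu2
          have hgu := gQ u (hRQ.le hu1)
          rw [inv_inv] at hgu
          have e : u = (k * u * k⁻¹) * (u⁻¹ * (k * u * k⁻¹))⁻¹ := by group
          rw [e]
          exact F0.mul_mem hku (F0.inv_mem hgu)
    intro A g hA hAg hm
    have hreach := reach_of_fullyNormalized S
      {U : Subgroup G | U ≤ (S : Subgroup G) ∧ FN p (S : Subgroup G) U}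
      (fun U hU => hU.1) (by
        intro T hT
        obtain ⟨c, h1, h2, -⟩ := exists_fn_conj S T hT
        exact ⟨cj c T, ⟨h1, h2⟩, ⟨c, rfl⟩, h2⟩) A g hA hAg
    have hall : ∀ (A : Set G) (g : G),
        Reach {U : Subgroup G | U ≤ (S : Subgroup G) ∧ FN p (S : Subgroup G) U} A g →
        A ⊆ (S : Subgroup G) →
        Nat.card (S : Subgroup G) - Nat.card (Subgroup.closure A) = m →
        GoodT F0 A g := by
      intro A g hr
      induction hr with
      | nil A => intros; exact GoodT.one F0 A
      | cons A T x g hT hx hAT _ ih =>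
        intro hAS hcard
        have hxA : rc x A ⊆ T := rc_subset_of_mem_normalizer hx hAT
        have step : GoodT F0 A x := by
          intro a ha
          by_cases hTne : T = ⊥
          · have : a = 1 := by
              have := hAT ha
              rw [hTne] at this
              simpa using this
            subst this
            simp
          · have hTR : T ≤ (S : Subgroup G) ⊓ Subgroup.normalizer (T : Set G) :=
              le_inf hT.1 Subgroup.le_normalizer
            have hcl : Nat.card (Subgroup.closure A) ≤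
                Nat.card ((S : Subgroup G) ⊓ Subgroup.normalizer (T : Set G) : Subgroup G) :=
              Subgroup.card_le_of_le (le_trans ((Subgroup.closure_le _).mpr hAT) hTR)
            exact inner _ T hT.1 hTne hT.2 rfl (by omega)
              (comm_mem_inf_commutator hT.1 (hAT ha) hx)
        exact step.trans (ih (fun a ha => hT.1 (hxA ha)) (by rw [card_closure_rc]; exact hcard))
    exact hall A g hreach hA hm

/-- Let p be a prime, G a finite group with Sylow p-subgroup S, and 𝓦 a set of conjugacy functors for p on G. Suppose that 𝓦 controls transfer in N_G(T) for every nonidentity subgroup T of S for which N_S(T) is a Sylow p-subgroup of N_G(T): for a Sylow p-subgroup T' of N_G(T), the intersection of T' with the derived subgroup of N_G(T) is generated by its intersections with the derived subgroups of the normalizers in N_G(T) of the W(T'), W ∈ 𝓦. Then 𝓦 controls transfer in G: S ∩ G' is generated by the subgroups S ∩ (N_G(W(S)))', W ∈ 𝓦. -/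
theorem result {G : Type*} [Group G] [Finite G] {p : ℕ} [Fact p.Prime] (S : Sylow p G) (𝓦 : Set (Subgroup G → Subgroup G)) (h𝓦 : ∀ W ∈ 𝓦, Cfsg.IsConjugacyFunctor p W) (hloc : ∀ T : Subgroup G, T ≤ (S : Subgroup G) → T ≠ ⊥ → ¬ p ∣ ((S : Subgroup G) ⊓ Subgroup.normalizer ((T : Subgroup G) : Set G)).relIndex (Subgroup.normalizer ((T : Subgroup G) : Set G)) → Cfsg.FamilyControlsTransferIn p 𝓦 (Subgroup.normalizer ((T : Subgroup G) : Set G))) : Cfsg.FamilyControlsTransferIn p 𝓦 ⊤ := by
  refine ⟨S, le_top, S.isPGroup', ?_, ?_⟩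
  · rw [Subgroup.relIndex_top_right]
    exact S.not_dvd_index
  · apply le_antisymm
    · have hfoc : (S : Subgroup G) ⊓ ⁅(⊤ : Subgroup G), ⊤⁆ = (S : Subgroup G).focalSubgroup := by
        rw [inf_comm]
        exact Subgroup.commutator_inf_eq_focalSubgroup S
      rw [hfoc, Subgroup.focalSubgroup_def, Subgroup.closure_le]
      rintro g ⟨hgS, x, hxS, u, rfl⟩
      have hux : u * x⁻¹ * u⁻¹ ∈ (S : Subgroup G) := by
        have e : u * x⁻¹ * u⁻¹ = x⁻¹ * ⁅x, u⁆ := by rw [commutatorElement_def]; group
        rw [e]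
        exact Subgroup.mul_mem _ (Subgroup.inv_mem _ hxS) hgS
      have hA : ({x⁻¹} : Set G) ⊆ (S : Subgroup G) := by
        intro a ha
        rw [Set.mem_singleton_iff] at ha
        subst ha
        exact Subgroup.inv_mem _ hxS
      have hAg : rc u⁻¹ ({x⁻¹} : Set G) ⊆ (S : Subgroup G) := by
        rintro _ ⟨a, ha, rfl⟩
        rw [Set.mem_singleton_iff] at ha
        subst ha
        show u⁻¹⁻¹ * x⁻¹ * u⁻¹ ∈ (S : Subgroup G)
        rw [inv_inv]
        exact hux
      have hgood := main S 𝓦 h𝓦 hloc
        (⨆ W ∈ 𝓦, (S : Subgroup G) ⊓ ⁅⊤ ⊓ Subgroup.normalizer ((W (S : Subgroup G) : Subgroup G) : Set G),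
          ⊤ ⊓ Subgroup.normalizer ((W (S : Subgroup G) : Subgroup G) : Set G)⁆) (by
          intro W hW
          have := le_iSup₂ (f := fun (W : Subgroup G → Subgroup G) (_ : W ∈ 𝓦) =>
            (S : Subgroup G) ⊓ ⁅⊤ ⊓ Subgroup.normalizer ((W (S : Subgroup G) : Subgroup G) : Set G),
              ⊤ ⊓ Subgroup.normalizer ((W (S : Subgroup G) : Subgroup G) : Set G)⁆) W hW
          rw [top_inf_eq] at this
          exact this) _ _ u⁻¹ hA hAg rfl
      have := hgood x⁻¹ rfl
      have e : ⁅x, u⁆ = x⁻¹⁻¹ * (u⁻¹⁻¹ * x⁻¹ * u⁻¹) := by rw [commutatorElement_def]; group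
      rw [SetLike.mem_coe, e]
      exact this
    · refine iSup₂_le ?_
      intro W _
      exact inf_le_inf_left _ (Subgroup.commutator_mono le_top le_top)

end Cfsg.Agent.S1960
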