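import Cfsg.Statements.S0071
import Cfsg.Agent.Lib.Helper2.Frobenius

set_option autoImplicit false
open Cfsg

namespace Cfsg.Agent.S0071

open Cfsg.Agent.Lib.Helper2 Cfsg.Agent.Lib.Helper33

theorem frobCond_of_sylow {G : Type*} [Group G] [Finite G] {p : ℕ} [Fact p.Prime] (P : Sylow p G)
    (h : ∀ Q : Subgroup G, Q ≤ (P : Subgroup G) → ∀ g ∈ Subgroup.normalizer (Q : Set G), Nat.Coprime (orderOf g) p → g ∈ Subgroup.centralizer (Q : Set G)) :
    FrobCond p G := by
  intro Q hQ g hg hgo
  obtain ⟨P', hP'⟩ := hQ.exists_le_sylow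
  obtain ⟨c, hc⟩ := sylow_exists_cj P' P
  have hQP : cj c Q ≤ (P : Subgroup G) := by rw [← hc]; exact cj_mono hP'
  have hg' : c * g * c⁻¹ ∈ Subgroup.normalizer ((cj c Q : Subgroup G) : Set G) := by
    rw [normalizer_cj]
    exact conj_mem_cj hg
  have hgo' : Nat.Coprime (orderOf (c * g * c⁻¹)) p := by
    rw [orderOf_conj_eq]; exact hgo
  have h1 := h (cj c Q) hQP _ hg' hgo'
  rw [centralizer_cj] at h1
  exact conj_mem_cj_iff.mp h1

/-- The Frobenius normal p-complement Theorem states that a Sylow p-subgroup has a normal complement exactly when, for each of its subgroups Q, every element of the normalizer of Q of order prime to p centralizes Q. -/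
theorem result {G : Type*} [Group G] [Finite G] {p : ℕ} [Fact p.Prime] (P : Sylow p G) : (∃ N : Subgroup G, N.Normal ∧ N.IsComplement' (P : Subgroup G)) ↔ ∀ Q : Subgroup G, Q ≤ (P : Subgroup G) → ∀ g ∈ Subgroup.normalizer (Q : Set G), Nat.Coprime (orderOf g) p → g ∈ Subgroup.centralizer (Q : Set G) := by
  constructor
  · rintro ⟨N, hN, hc⟩ Q hQP g hg hgo
    have hdisj : N ⊓ (P : Subgroup G) = ⊥ := disjoint_iff.mp hc.disjoint
    have hidxN : N.index = Nat.card (P : Subgroup G) := hc.symm.index_eq_card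
    have hQG : IsPGroup p (G ⧸ N) := by
      obtain ⟨k, hk⟩ := P.2.exists_card_eq
      apply IsPGroup.of_card (n := k)
      rw [← hk]; exact hidxN
    have hgN : g ∈ N := mem_of_coprime_of_isPGroup_quotient N hQG hgo
    rw [Subgroup.mem_centralizer_iff]
    intro x hx
    have hxQ : x ∈ Q := hx
    have h1 : g * x * g⁻¹ * x⁻¹ ∈ N ⊓ (P : Subgroup G) := by
      refine Subgroup.mem_inf.mpr ⟨?_, ?_⟩
      · have : g * x * g⁻¹ * x⁻¹ = g * (x * g⁻¹ * x⁻¹) := by group
        rw [this]
        exact N.mul_mem hgN (hN.conj_mem _ (N.inv_mem hgN) x)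
      · have h2 : g * x * g⁻¹ ∈ Q := ((Subgroup.mem_normalizer_iff.mp hg) x).mp hxQ
        exact hQP (Q.mul_mem h2 (Q.inv_mem hxQ))
    rw [hdisj, Subgroup.mem_bot] at h1
    have h3 : g * x * g⁻¹ = x := mul_inv_eq_one.mp h1
    calc x * g = (g * x * g⁻¹) * g := by rw [h3]
      _ = g * x := by group
  · intro h
    rw [exists_normal_complement_iff_not_dvd_card_pResidual]
    exact not_dvd_card_pResidual_of_frobCond _ G rfl (frobCond_of_sylow P h)

end Cfsg.Agent.S0071
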