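import Cfsg.Statements.S0072
import Cfsg.Agent.S0071
import Cfsg.Agent.Lib.Helper2.PComplement

set_option autoImplicit false
open Cfsg

namespace Cfsg.Agent.S0072

open Cfsg.Agent.Lib.Helper2 Cfsg.Agent.Lib.Helper33

theorem hasNormalPComplement_iff_frobCond {G : Type*} [Group G] [Finite G] (p : ℕ) [Fact p.Prime] :
    Cfsg.HasNormalPComplement p G ↔ FrobCond p G := by
  let P : Sylow p G := default
  rw [hasNormalPComplement_iff P, Cfsg.Agent.S0071.result P]
  constructor
  · intro h
    exact Cfsg.Agent.S0071.frobCond_of_sylow P h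
  · intro h Q hQ g hg hgo
    exact h Q (P.2.to_le hQ) g hg hgo

/-- A finite group has a normal p-complement if and only if every p-local subgroup (normalizer of a nontrivial p-subgroup) has one. -/
theorem result {G : Type*} [Group G] [Finite G] (p : ℕ) [Fact p.Prime] : Cfsg.HasNormalPComplement p G ↔ ∀ Q : Subgroup G, IsPGroup p Q → Q ≠ ⊥ → Cfsg.HasNormalPComplement p (Subgroup.normalizer (Q : Set G)) := by
  constructor
  · intro h Q _ _
    rw [hasNormalPComplement_iff_frobCond] at h ⊢
    exact frobCond_subgroup h _
  · intro h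
    rw [hasNormalPComplement_iff_frobCond]
    intro Q hQ g hg hgo
    by_cases hQbot : Q = ⊥
    · rw [hQbot, Subgroup.mem_centralizer_iff]
      intro x hx
      have : x = 1 := hx
      rw [this, one_mul, mul_one]
    · have hF := (hasNormalPComplement_iff_frobCond p).mp (h Q hQ hQbot)
      have hQ' : IsPGroup p (Q.subgroupOf (Subgroup.normalizer (Q : Set G))) := hQ.comap_subtype
      have hg' : (⟨g, hg⟩ : Subgroup.normalizer (Q : Set G)) ∈
          Subgroup.normalizer ((Q.subgroupOf (Subgroup.normalizer (Q : Set G)) : Subgroup _) : Set _) := by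
        rw [Subgroup.mem_normalizer_iff]
        intro x
        rw [Subgroup.mem_subgroupOf, Subgroup.mem_subgroupOf]
        exact (Subgroup.mem_normalizer_iff.mp hg) x
      have hgo' : Nat.Coprime (orderOf (⟨g, hg⟩ : Subgroup.normalizer (Q : Set G))) p := by
        rw [← Subgroup.orderOf_coe]; exact hgo
      have hc := hF _ hQ' _ hg' hgo'
      rw [Subgroup.mem_centralizer_iff] at hc ⊢
      intro x hx
      have hxQ : x ∈ Q := hx
      have := hc ⟨x, Subgroup.le_normalizer hxQ⟩ (Subgroup.mem_subgroupOf.mpr hxQ)
      exact congrArg Subtype.val this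

end Cfsg.Agent.S0072
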