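import Cfsg.Statements.S1450
import Cfsg.Agent.Lib.Helper32.Rank2Solv
import Cfsg.Agent.Lib.Helper54.PConstr1
import Cfsg.Agent.Lib.Helper19.PNil
import Cfsg.Agent.Lib.Helper51.NPC

set_option autoImplicit false
set_option linter.style.haveILetI false
open Cfsg

namespace Cfsg.Agent.S1450

open Cfsg.Agent.Lib.Helper32.Rank2 Cfsg.Agent.Lib.Helper32 Cfsg.Agent.Lib
open scoped commutatorElement

/-- Let G be a solvable group of odd order, p a prime dividing its order with G having no elementary abelian subgroup of order p ^ 3. Then every prime dividing the index of O_{p'}(G) is at most p; if p = 3 or p is the smallest prime divisor of #G then G has a normal p-complement; the derived subgroup G' has a normal p-complement; every subgroup of G' of order coprime to p lies in O_{p'}(G'); and G/O_{p',p}(G) is abelian of order coprime to p. -/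
theorem result {G : Type*} [Group G] [Finite G] [Group.IsSolvable G] (hodd : Odd (Nat.card G)) (p : ℕ) [Fact p.Prime] (hpG : p ∣ Nat.card G) (hr : Cfsg.PRankLE p 2 G) :
    (∀ q : ℕ, q.Prime → q ∣ (Cfsg.pPrimeCore p G).index → q ≤ p) ∧
      ((p = 3 ∨ ∀ q : ℕ, q.Prime → q ∣ Nat.card G → p ≤ q) → Cfsg.HasNormalPComplement p G) ∧
      Cfsg.HasNormalPComplement p ↥(commutator G) ∧
      (∀ L : Subgroup ↥(commutator G), (Nat.card L).Coprime p → L ≤ Cfsg.pPrimeCore p ↥(commutator G)) ∧
      commutator G ≤ Cfsg.pPrimePCore p G ∧ ((Cfsg.pPrimePCore p G).index).Coprime p := by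
  have hp : p.Prime := Fact.out
  have hne2 : ∀ q : ℕ, q ∣ Nat.card G → q ≠ 2 := by
    rintro q hq rfl
    exact (Nat.not_even_iff_odd.2 hodd) (even_iff_two_dvd.2 hq)
  have hp2 : p ≠ 2 := hne2 p hpG
  obtain ⟨Q, iQ, fQ, Ψ, hQcomm, hQexp, hQcard, hΨ⟩ := exists_action_quotient p hp2 hr
  have hNcop : (Nat.card (pPrimeCore p G)).Coprime p := Helper55.pPrimeCore_card_coprime p
  have hidxG : (pPrimeCore p G).index ∣ Nat.card G := Subgroup.index_dvd_card _
  -- (1)
  have h1 : ∀ q : ℕ, q.Prime → q ∣ (pPrimeCore p G).index → q ≤ p := by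
    intro q hq hqd
    by_cases hqp : q = p
    · exact hqp.le
    haveI : Fact q.Prime := ⟨hq⟩
    have hq2 : q ≠ 2 := hne2 q (hqd.trans hidxG)
    rw [Subgroup.index_eq_card] at hqd
    obtain ⟨x, hx⟩ := exists_prime_orderOf_dvd_card' q hqd
    have hΨx : Ψ x ≠ 1 := by
      intro h
      obtain ⟨k, hk⟩ := hΨ x h
      have : q ∣ p ^ k := hx ▸ orderOf_dvd_of_pow_eq_one hk
      exact hqp ((Nat.prime_dvd_prime_iff_eq hq hp).1 (hq.dvd_of_dvd_pow this))
    have hord : orderOf (Ψ x) = q := by
      have : (Ψ x) ^ q = 1 := by rw [← map_pow, ← hx, pow_orderOf_eq_one, map_one]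
      exact orderOf_eq_prime this hΨx
    exact GL2.prime_le_of_orderOf_mulAut p hp2 hQcomm hQexp hQcard (Ψ x) hq hq2 hord
  -- (5)
  have h5 : commutator G ≤ pPrimePCore p G := by
    apply Helper54.le_pPrimePCore_of_forall_pow_mem p (commutator G)
    intro m hm
    haveI : Group.IsSolvable (G ⧸ pPrimeCore p G) :=
      Group.isSolvable_of_surjective (f := QuotientGroup.mk' (pPrimeCore p G))
        (QuotientGroup.mk'_surjective _)
    haveI : Group.IsSolvable Ψ.range :=
      Group.isSolvable_of_surjective (f := Ψ.rangeRestrict) Ψ.rangeRestrict_surjective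
    have hYodd : Odd (Nat.card Ψ.range) := by
      apply Odd.of_dvd_nat hodd
      refine (Subgroup.card_range_dvd Ψ).trans ?_
      rw [← Subgroup.index_eq_card]
      exact hidxG
    have hexp := exp_p_commutator_mulAut' p hQcomm hQexp hQcard Ψ.range hYodd
    have hm1 : QuotientGroup.mk' (pPrimeCore p G) m ∈ commutator (G ⧸ pPrimeCore p G) := by
      rw [commutator_def] at hm ⊢
      have h := Subgroup.mem_map_of_mem (QuotientGroup.mk' (pPrimeCore p G)) hm
      rw [Subgroup.map_commutator] at h
      exact Subgroup.commutator_mono le_top le_top h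
    have hm2 : Ψ (QuotientGroup.mk' (pPrimeCore p G) m) ∈ ⁅Ψ.range, Ψ.range⁆ := by
      rw [commutator_def] at hm1
      have h := Subgroup.mem_map_of_mem Ψ hm1
      rw [Subgroup.map_commutator, ← MonoidHom.range_eq_map] at h
      exact h
    have h3 := hexp _ hm2
    rw [← map_pow] at h3
    obtain ⟨k, hk⟩ := hΨ _ h3
    refine ⟨1 + k, ?_⟩
    rw [← map_pow, ← map_pow, QuotientGroup.mk'_apply, QuotientGroup.eq_one_iff] at hk
    rw [pow_add, pow_mul, pow_one]
    exact hk
  haveI hKn : (pPrimePCore p G).Normal := Helper54.pPrimePCore_normal' p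
  -- (6)
  have h6 : ((pPrimePCore p G).index).Coprime p := by
    rw [Nat.coprime_comm, Nat.Prime.coprime_iff_not_dvd hp]
    intro hdvd
    rw [Subgroup.index_eq_card] at hdvd
    obtain ⟨x, hx⟩ := exists_prime_orderOf_dvd_card' p hdvd
    obtain ⟨g, rfl⟩ := QuotientGroup.mk_surjective x
    have hcomm : ∀ a b : G ⧸ pPrimePCore p G, a * b = b * a := by
      intro a b
      induction a using QuotientGroup.induction_on with
      | H x =>
      induction b using QuotientGroup.induction_on with
      | H y =>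
      rw [← QuotientGroup.mk_mul, ← QuotientGroup.mk_mul, QuotientGroup.eq]
      have : (x * y)⁻¹ * (y * x) = ⁅y⁻¹, x⁻¹⁆ := by rw [commutatorElement_def]; group
      rw [this]
      exact h5 (Subgroup.commutator_mem_commutator (Subgroup.mem_top _) (Subgroup.mem_top _))
    haveI hzn : (Subgroup.zpowers (g : G ⧸ pPrimePCore p G)).Normal := by
      constructor
      intro n hn a
      have : a * n * a⁻¹ = n := by rw [hcomm a n, mul_inv_cancel_right]
      rw [this]; exact hn
    let L := (Subgroup.zpowers (g : G ⧸ pPrimePCore p G)).comap (QuotientGroup.mk' (pPrimePCore p G))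
    haveI : L.Normal := Subgroup.Normal.comap hzn _
    have hL : L ≤ pPrimePCore p G := by
      apply Helper54.le_pPrimePCore_of_forall_pow_mem p L
      intro m hm
      have hm' : (m : G ⧸ pPrimePCore p G) ∈ Subgroup.zpowers (g : G ⧸ pPrimePCore p G) := hm
      have hmp : (m : G ⧸ pPrimePCore p G) ^ p = 1 := by
        obtain ⟨i, hi⟩ := hm'
        have hgp : (g : G ⧸ pPrimePCore p G) ^ p = 1 := by
          have := pow_orderOf_eq_one (g : G ⧸ pPrimePCore p G)
          rwa [hx] at this
        rw [← hi]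
        show ((g : G ⧸ pPrimePCore p G) ^ i) ^ p = 1
        rw [← zpow_natCast, ← zpow_mul, mul_comm, zpow_mul, zpow_natCast, hgp, one_zpow]
      rw [← QuotientGroup.mk_pow, QuotientGroup.eq_one_iff] at hmp
      obtain ⟨j, hj⟩ := Helper54.exists_pow_mem_pPrimeCore p hmp
      exact ⟨1 + j, by rw [pow_add, pow_mul, pow_one]; exact hj⟩
    have hgK : g ∈ pPrimePCore p G := hL (Subgroup.mem_comap.2 (Subgroup.mem_zpowers _))
    have : (g : G ⧸ pPrimePCore p G) = 1 := (QuotientGroup.eq_one_iff g).2 hgK
    rw [this, orderOf_one] at hx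
    exact hp.one_lt.ne hx
  -- (3)
  have hNK : pPrimeCore p G ≤ pPrimePCore p G := Helper54.pPrimeCore_le_pPrimePCore p
  have hK : HasNormalPComplement p ↥(pPrimePCore p G) := by
    obtain ⟨k, hk⟩ := Helper32.card_pPrimePCore (G := G) p
    apply Helper19.hnpc_of_normal_hall ((pPrimeCore p G).subgroupOf (pPrimePCore p G)) (k := k)
    · rw [Nat.card_congr (Subgroup.subgroupOfEquivOfLe hNK).toEquiv]; exact hNcop
    · show (pPrimeCore p G).relIndex (pPrimePCore p G) = p ^ k
      have := Helper55.card_mul_relIndex_eq hNK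
      rw [hk] at this
      exact Nat.eq_of_mul_eq_mul_left Nat.card_pos this
  have h3 : HasNormalPComplement p ↥(commutator G) := Helper51.hnpc_of_le h5 hK
  -- (4)
  have h4 : ∀ L : Subgroup ↥(commutator G), (Nat.card L).Coprime p →
      L ≤ pPrimeCore p ↥(commutator G) := by
    intro L hL
    obtain ⟨M, hMn, hMc, k, hMk⟩ := Helper19.normal_hall_of_hnpc h3
    haveI := hMn
    have hLM : L ≤ M := by
      rw [← Subgroup.relIndex_eq_one]
      have d1 : M.relIndex L ∣ M.index := Subgroup.relIndex_dvd_index_of_normal M L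
      have d2 : M.relIndex L ∣ Nat.card L := Subgroup.relIndex_dvd_card M L
      rw [hMk] at d1
      have : (M.relIndex L).Coprime (M.relIndex L) :=
        Nat.Coprime.coprime_dvd_left d2 (Nat.Coprime.coprime_dvd_right d1 (hL.pow_right k))
      exact (Nat.coprime_self _).1 this
    exact hLM.trans (Helper55.le_pPrimeCore p M hMc)
  -- (2)
  have h2 : (p = 3 ∨ ∀ q : ℕ, q.Prime → q ∣ Nat.card G → p ≤ q) → HasNormalPComplement p G := by
    intro h
    have hall : ∀ {q : ℕ}, q.Prime → q ∣ (pPrimeCore p G).index → q = p := by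
      intro q hq hqd
      have hle := h1 q hq hqd
      have hqG : q ∣ Nat.card G := hqd.trans hidxG
      rcases h with h | h
      · have hq2 : q ≠ 2 := hne2 q hqG
        have := hq.two_le
        omega
      · exact le_antisymm hle (h q hq hqG)
    have hidx : (pPrimeCore p G).index = p ^ ((pPrimeCore p G).index.primeFactorsList.length) :=
      Nat.eq_prime_pow_of_unique_prime_dvd Subgroup.index_ne_zero_of_finite hall
    exact Helper19.hnpc_of_normal_hall (pPrimeCore p G) hNcop hidx
  exact ⟨h1, h2, h3, h4, h5, h6⟩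

end Cfsg.Agent.S1450
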