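import Cfsg.Statements.S1396
import Cfsg.Agent.Lib.Helper32.TransHyp

set_option autoImplicit false
open Cfsg

namespace Cfsg.Agent.S1396

open Subgroup Cfsg.Agent.Lib.Helper32 Cfsg.Agent.Lib.Helper33

/-- Let G be a minimal simple group of odd order, p a prime dividing the order of G and A an abelian p-subgroup. Suppose either (1) A consists exactly of the elements x of C_G(A) with x^p = 1, and every proper subgroup of G has p-length at most one, or (2) A is normal and self-centralizing in some Sylow p-subgroup of G and has rank at least 2. Then A satisfies the transitivity hypothesis. -/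
theorem result {G : Type*} [Group G] [Finite G] (hG : Cfsg.IsMinSimpleOddOrder G)
    (p : ℕ) [Fact p.Prime] (hp : p ∣ Nat.card G) (A : Subgroup G) (hAp : IsPGroup p A) (hAc : IsMulCommutative A)
    (h : (∀ x ∈ Subgroup.centralizer (A : Set G), x ^ p = 1 ↔ x ∈ A) ∧ (∀ H : Subgroup G, H ≠ ⊤ → Cfsg.PLengthLE p 1 H) ∨
      ∃ P : Sylow p G, Cfsg.IsSCN (P : Subgroup G) A ∧ ¬ Cfsg.PRankLE p 1 A) :
    Cfsg.TransitivityHypothesis A := by
  have hpp : p.Prime := Fact.out
  have hp2 : p ≠ 2 := by
    rintro rfl
    exact (Nat.not_even_iff_odd.mpr hG.1) (even_iff_two_dvd.mpr hp)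
  -- A ≠ ⊥
  have hA0 : A ≠ ⊥ := by
    rintro rfl
    rcases h with ⟨h1, -⟩ | ⟨P, -, hr⟩
    · obtain ⟨x, hx⟩ := exists_prime_orderOf_dvd_card' p hp
      have hxC : x ∈ centralizer ((⊥ : Subgroup G) : Set G) := by
        rw [mem_centralizer_iff]
        intro y hy
        have : y = 1 := hy
        rw [this, one_mul, mul_one]
      have := (h1 x hxC).mp (by rw [← hx, pow_orderOf_eq_one])
      rw [mem_bot] at this
      rw [this, orderOf_one] at hx
      exact hpp.one_lt.ne hx
    · apply hr
      intro E _ _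
      have : Nat.card E ≤ Nat.card (⊥ : Subgroup G) := by
        have h2 := Subgroup.card_le_card_group E
        exact h2
      rw [Subgroup.card_bot] at this
      exact this.trans (by
        have := hpp.one_lt
        rw [pow_one]; omega)
  -- A ≠ ⊤
  have hA1 : A ≠ ⊤ := by
    rintro rfl
    apply hG.2.2.1
    refine ⟨⟨fun a b => ?_⟩⟩
    have := hAc.is_comm.comm (⟨a, mem_top a⟩ : (⊤ : Subgroup G)) ⟨b, mem_top b⟩
    exact congrArg Subtype.val this
  -- every element of order p of C_G(A) lies in A
  have hΩ : ∀ x ∈ centralizer (A : Set G), orderOf x = p → x ∈ A := by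
    intro x hxC hxo
    rcases h with ⟨h1, -⟩ | ⟨P, ⟨hAP, hPN, hPC⟩, -⟩
    · exact (h1 x hxC).mp (by rw [← hxo, pow_orderOf_eq_one])
    · have hPidx : ¬ p ∣ (P : Subgroup G).relIndex (normalizer (A : Set G)) := by
        intro hd
        apply P.not_dvd_index
        rw [← Subgroup.relIndex_mul_index hPN]
        exact hd.mul_right _
      have hxN : zpowers x ≤ normalizer (A : Set G) := by
        rw [zpowers_le]
        exact (centralizer_le_normalizer _) hxC
      have hxp : IsPGroup p (zpowers x) := by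
        apply IsPGroup.of_card (n := 1)
        rw [Nat.card_zpowers, hxo, pow_one]
      obtain ⟨c, hcN, hc⟩ := sylow_sub hPN P.isPGroup' hPidx hxN hxp
      have hcx : c * x * c⁻¹ ∈ (P : Subgroup G) := hc (conj_mem_cj (mem_zpowers x))
      have hcxC : c * x * c⁻¹ ∈ centralizer (A : Set G) := by
        rw [mem_centralizer_iff]
        intro a ha
        have ha' : c⁻¹ * a * c ∈ A := by
          have := (mem_normalizer_iff.mp (inv_mem hcN) a).mp ha
          simpa using this
        have h2 := (mem_centralizer_iff.mp hxC) _ ha'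
        calc a * (c * x * c⁻¹) = c * ((c⁻¹ * a * c) * x) * c⁻¹ := by group
          _ = c * (x * (c⁻¹ * a * c)) * c⁻¹ := by rw [h2]
          _ = c * x * c⁻¹ * a := by group
      have hcxA : c * x * c⁻¹ ∈ A := by
        rw [← hPC]; exact ⟨hcx, hcxC⟩
      have := (mem_normalizer_iff.mp (inv_mem hcN) (c * x * c⁻¹)).mp hcxA
      have e : c⁻¹ * (c * x * c⁻¹) * c⁻¹⁻¹ = x := by group
      rwa [e] at this
  refine ⟨hA0, hA1, ?_⟩
  intro X hX hAX
  exact sSup_invSubgroups_eq_of_solvable hp2 X A (hG.2.2.2 X hX) hAX hAp hA0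
    (fun x _ hxC hxo => hΩ x hxC hxo)

end Cfsg.Agent.S1396
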