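import Cfsg.Statements.S0551
import Mathlib
import Cfsg.Agent.Lib.Helper10.MinNormal
import Cfsg.Agent.Lib.Helper10.Nilpotent
import Cfsg.Agent.Lib.Helper10.Card
import Cfsg.Agent.Lib.Helper10.Frattini

set_option autoImplicit false
open Pointwise
open Cfsg

namespace Cfsg.Agent.S0551

open Cfsg.Agent.Lib.Helper10

theorem mem_sylow_smul_iff' {G : Type*} [Group G] {p : ℕ} {g x : G} {S : Sylow p G} :
    x ∈ ((g • S : Sylow p G) : Subgroup G) ↔ g⁻¹ * x * g ∈ (S : Subgroup G) := by
  rw [Sylow.coe_subgroup_smul, Subgroup.mem_pointwise_smul_iff_inv_smul_mem]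
  simp [MulAut.smul_def, mul_assoc]

theorem mem_conj_smul_iff {G : Type*} [Group G] {g x : G} {S : Subgroup G} :
    x ∈ MulAut.conj g • S ↔ g⁻¹ * x * g ∈ S := by
  rw [Subgroup.mem_pointwise_smul_iff_inv_smul_mem]
  simp [MulAut.smul_def, mul_assoc]

/-- Sylow conjugacy inside a subgroup `M` of `G`. -/
theorem conj_of_sylow_in {G : Type*} [Group G] [Finite G] (M A B : Subgroup G) (r : ℕ)
    [Fact r.Prime] (hA : A ≤ M) (hB : B ≤ M) (hAr : IsPGroup r A) (hBr : IsPGroup r B)
    (hAi : ¬ r ∣ A.relIndex M) (hBi : ¬ r ∣ B.relIndex M) :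
    ∃ m ∈ M, MulAut.conj m • A = B := by
  have hA' : IsPGroup r (A.subgroupOf M) := hAr.comap_subtype
  have hB' : IsPGroup r (B.subgroupOf M) := hBr.comap_subtype
  have hAi' : ¬ r ∣ (A.subgroupOf M).index := hAi
  have hBi' : ¬ r ∣ (B.subgroupOf M).index := hBi
  clear hAi hBi
  obtain ⟨m, hm⟩ := MulAction.exists_smul_eq M (hA'.toSylow hAi') (hB'.toSylow hBi')
  refine ⟨m, m.2, ?_⟩
  ext x
  rw [mem_conj_smul_iff]
  constructor
  · intro hx
    have hxM : x ∈ M := by
      have h1 := hA hx
      have : x = (m : G) * ((m : G)⁻¹ * x * m) * (m : G)⁻¹ := by group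
      rw [this]
      exact M.mul_mem (M.mul_mem m.2 h1) (M.inv_mem m.2)
    have h2 : (⟨x, hxM⟩ : M) ∈ ((m • hA'.toSylow hAi' : Sylow r M) : Subgroup M) := by
      rw [mem_sylow_smul_iff', IsPGroup.toSylow_coe, Subgroup.mem_subgroupOf]
      simpa using hx
    rw [hm, IsPGroup.toSylow_coe, Subgroup.mem_subgroupOf] at h2
    exact h2
  · intro hx
    have hxM : x ∈ M := hB hx
    have h2 : (⟨x, hxM⟩ : M) ∈ ((hB'.toSylow hBi' : Sylow r M) : Subgroup M) := by
      rw [IsPGroup.toSylow_coe, Subgroup.mem_subgroupOf]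
      exact hx
    rw [← hm, mem_sylow_smul_iff', IsPGroup.toSylow_coe, Subgroup.mem_subgroupOf] at h2
    simpa using h2

theorem conj_mem_normalizer {G : Type*} [Group G] [Finite G] (A B : Subgroup G) (m u : G)
    (hAB : MulAut.conj m • A = B) (hu : u ∈ Subgroup.normalizer (A : Set G)) :
    m * u * m⁻¹ ∈ Subgroup.normalizer (B : Set G) := by
  subst hAB
  apply Subgroup.mem_normalizer_fintype
  intro b hb
  rw [SetLike.mem_coe, mem_conj_smul_iff] at hb ⊢
  have h1 : u * (m⁻¹ * b * m) * u⁻¹ ∈ A := (Subgroup.mem_normalizer_iff.mp hu _).mp hb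
  have : m⁻¹ * (m * u * m⁻¹ * b * (m * u * m⁻¹)⁻¹) * m = u * (m⁻¹ * b * m) * u⁻¹ := by group
  rw [this]; exact h1

/-- a core-free maximal subgroup complements an abelian minimal normal subgroup -/
theorem compl_of_corefree_coatom {G : Type*} [Group G] [Finite G] (N U : Subgroup G)
    [hNn : N.Normal] (hNc : IsMulCommutative N) (hNne : N ≠ ⊥)
    (hmin : ∀ L : Subgroup G, L.Normal → L ≤ N → L = ⊥ ∨ L = N)
    (hU : IsCoatom U) (hUc : U.normalCore = ⊥) : U ⊔ N = ⊤ ∧ N ⊓ U = ⊥ := by
  have hNU : ¬ N ≤ U := by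
    intro hle
    have := Subgroup.normal_le_normalCore.mpr hle
    rw [hUc] at this
    exact hNne (le_bot_iff.mp this)
  have hsup : U ⊔ N = ⊤ := sup_eq_top_of_coatom_not_le hU hNU
  refine ⟨hsup, ?_⟩
  have hinfn : (N ⊓ U).Normal := inf_normal_of_abelian_normal_sup_eq_top N U hNc hsup
  rcases hmin (N ⊓ U) hinfn inf_le_left with h0 | h0
  · exact h0
  · exfalso
    apply hNU
    rw [← h0]; exact inf_le_right

theorem centralizer_le_of_corefree {G : Type*} [Group G] [Finite G] (N U : Subgroup G)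
    [hNn : N.Normal] (hNc : IsMulCommutative N) (hsup : U ⊔ N = ⊤) (hUc : U.normalCore = ⊥) :
    Subgroup.centralizer (N : Set G) ≤ N := by
  have hcomm := isMulCommutative_iff_of_setLike.mp hNc
  set C := Subgroup.centralizer (N : Set G) with hC
  have hCn : C.Normal := inferInstance
  have hNC : N ≤ C := by
    intro n hn
    rw [hC, Subgroup.mem_centralizer_iff]
    intro a ha
    exact hcomm a ha n hn
  have hCU : (C ⊓ U).Normal := by
    have : Subgroup.normalizer ((C ⊓ U : Subgroup G) : Set G) = ⊤ := by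
      rw [eq_top_iff, ← hsup]
      apply sup_le
      · intro h hh
        apply Subgroup.mem_normalizer_fintype
        intro n hn
        exact ⟨hCn.conj_mem n hn.1 h, U.mul_mem (U.mul_mem hh hn.2) (U.inv_mem hh)⟩
      · intro a ha
        apply Subgroup.mem_normalizer_fintype
        intro n hn
        have h1 : a * n = n * a := (Subgroup.mem_centralizer_iff.mp hn.1 a ha)
        have : a * n * a⁻¹ = n := by rw [h1]; group
        rw [this]; exact hn
    exact Subgroup.normalizer_eq_top_iff.mp this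
  have hCUb : C ⊓ U = ⊥ := by
    have := Subgroup.normal_le_normalCore.mpr (inf_le_right : C ⊓ U ≤ U)
    rw [hUc] at this
    exact le_bot_iff.mp this
  intro c hc
  have hcG : c ∈ U ⊔ N := by rw [hsup]; exact Subgroup.mem_top c
  rw [← SetLike.mem_coe, Subgroup.mul_normal] at hcG
  obtain ⟨u, hu, n, hn, rfl⟩ := hcG
  have huC : u ∈ C := by
    have : u = u * n * n⁻¹ := by group
    rw [this]
    exact C.mul_mem hc (C.inv_mem (hNC hn))
  have : u ∈ C ⊓ U := ⟨huC, hu⟩
  rw [hCUb, Subgroup.mem_bot] at this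
  subst this
  simpa using hn

/-- Dedekind-style count: `|M| = |N| |M ∩ U|` for `N ≤ M ⊴ G` with `U` a complement of `N`. -/
theorem card_eq_of_compl {G : Type*} [Group G] [Finite G] (N U M : Subgroup G)
    [hNn : N.Normal] [hMn : M.Normal] (hsup : U ⊔ N = ⊤) (hinf : N ⊓ U = ⊥) (hNM : N ≤ M) :
    Nat.card M = Nat.card N * Nat.card ↥(M ⊓ U) := by
  have h1 : Nat.card ↥(U ⊔ N) * Nat.card ↥(U ⊓ N) = Nat.card U * Nat.card N :=
    card_sup_mul_card_inf (by rw [Subgroup.normalizer_eq_top_iff.mpr hNn]; exact le_top)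
  have h2 : Nat.card ↥(U ⊔ M) * Nat.card ↥(U ⊓ M) = Nat.card U * Nat.card M :=
    card_sup_mul_card_inf (by rw [Subgroup.normalizer_eq_top_iff.mpr hMn]; exact le_top)
  have h3 : U ⊔ M = ⊤ := by
    rw [eq_top_iff, ← hsup]; exact sup_le_sup_left hNM U
  rw [hsup, inf_comm, hinf, Subgroup.card_bot, mul_one] at h1
  rw [h3, h1, inf_comm] at h2
  have hU : 0 < Nat.card U := Nat.card_pos
  have : Nat.card U * (Nat.card N * Nat.card ↥(M ⊓ U)) = Nat.card U * Nat.card M := by
    rw [← h2]; ring
  exact (Nat.eq_of_mul_eq_mul_left hU this).symm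

/-- In a finite solvable group all core-free maximal subgroups are conjugate. -/
theorem result {G : Type*} [Group G] [Finite G] [Group.IsSolvable G] (U V : Subgroup G) (hU : IsCoatom U) (hV : IsCoatom V) (hUc : U.normalCore = ⊥) (hVc : V.normalCore = ⊥) : ∃ g : G, MulAut.conj g • U = V := by
  haveI : Nontrivial G := by
    by_contra hnt
    rw [not_nontrivial_iff_subsingleton] at hnt
    exact hU.1 (Subsingleton.elim _ _)
  obtain ⟨p, N, hp, hNn, hNne, hNp, hNc, hpdvd, hNmin⟩ :=
    exists_min_normal_pgroup_of_solvable (G := G)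
  haveI := hNn
  haveI : Fact p.Prime := ⟨hp⟩
  obtain ⟨hsupU, hinfU⟩ := compl_of_corefree_coatom N U hNc hNne hNmin hU hUc
  obtain ⟨hsupV, hinfV⟩ := compl_of_corefree_coatom N V hNc hNne hNmin hV hVc
  have hCN := centralizer_le_of_corefree N U hNc hsupU hUc
  by_cases hNtop : N = ⊤
  · rw [hNtop, top_inf_eq] at hinfU hinfV
    refine ⟨1, ?_⟩
    rw [hinfU, hinfV]; simp
  · -- the quotient
    let π := QuotientGroup.mk' N
    have hπ : Function.Surjective π := QuotientGroup.mk'_surjective N
    have hcardQ : Nat.card (G ⧸ N) = N.index := (Subgroup.index_eq_card N).symm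
    haveI : Nontrivial (G ⧸ N) := by
      rw [← Finite.one_lt_card_iff_nontrivial, hcardQ]
      have h0 : N.index ≠ 0 := Subgroup.index_ne_zero_of_finite
      have h1 : N.index ≠ 1 := fun h1 => hNtop (Subgroup.index_eq_one.mp h1)
      omega
    obtain ⟨r, Mb, hr, hMbn, hMbne, hMbr, -, -⟩ := exists_normal_pgroup_of_solvable (G := G ⧸ N)
    haveI : Fact r.Prime := ⟨hr⟩
    set M : Subgroup G := Mb.comap π with hM
    haveI hMn : M.Normal := hMbn.comap π
    have hNM : N ≤ M := by
      have : π.ker ≤ M := Subgroup.ker_le_comap π Mb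
      rwa [QuotientGroup.ker_mk'] at this
    have hMmap : M.map π = Mb := Subgroup.map_comap_eq_self_of_surjective hπ Mb
    -- card M = card N * card Mb
    have hcardM : Nat.card M = Nat.card N * Nat.card Mb := by
      have h1 : M.index = Mb.index := Subgroup.index_comap_of_surjective Mb hπ
      have h2 := Subgroup.card_mul_index M
      have h3 := Subgroup.card_mul_index Mb
      have h4 := Subgroup.card_mul_index N
      rw [h1] at h2
      rw [hcardQ] at h3
      have hpos : 0 < Mb.index := Nat.pos_of_ne_zero Subgroup.index_ne_zero_of_finite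
      have : Mb.index * Nat.card M = Mb.index * (Nat.card N * Nat.card Mb) := by
        calc Mb.index * Nat.card M = Nat.card G := by rw [← h2]; ring
          _ = Nat.card N * N.index := h4.symm
          _ = Nat.card N * (Nat.card Mb * Mb.index) := by rw [h3]
          _ = _ := by ring
      exact Nat.eq_of_mul_eq_mul_left hpos this
    obtain ⟨k, hk⟩ := IsPGroup.iff_card.mp hMbr
    have hk0 : k ≠ 0 := by
      rintro rfl
      rw [pow_zero] at hk
      exact hMbne (Subgroup.card_eq_one.mp hk)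
    have hcU := card_eq_of_compl N U M hsupU hinfU hNM
    have hcV := card_eq_of_compl N V M hsupV hinfV hNM
    have hAcard : Nat.card ↥(M ⊓ U) = r ^ k := by
      have hpos : 0 < Nat.card N := Nat.card_pos
      have : Nat.card N * Nat.card ↥(M ⊓ U) = Nat.card N * r ^ k := by
        rw [← hcU, hcardM, hk]
      exact Nat.eq_of_mul_eq_mul_left hpos this
    have hBcard : Nat.card ↥(M ⊓ V) = r ^ k := by
      have hpos : 0 < Nat.card N := Nat.card_pos
      have : Nat.card N * Nat.card ↥(M ⊓ V) = Nat.card N * r ^ k := by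
        rw [← hcV, hcardM, hk]
      exact Nat.eq_of_mul_eq_mul_left hpos this
    obtain ⟨a, ha⟩ := IsPGroup.iff_card.mp hNp
    -- r ≠ p
    have hrp : r ≠ p := by
      rintro rfl
      have hMp : IsPGroup r M := by
        apply IsPGroup.of_card (n := a + k)
        rw [hcardM, ha, hk, pow_add]
      have hMnil : Group.IsNilpotent M := hMp.isNilpotent
      have h1 := normal_nilpotent_le_centralizer_of_minimal_normal M N hMnil hNne hNmin
      have h2 : M ≤ N := h1.trans hCN
      have h3 : M = N := le_antisymm h2 hNM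
      rw [h3, ha, hk] at hcardM
      have : r ^ a * r ^ k = r ^ a * 1 := by rw [← hcardM, mul_one]
      have := Nat.eq_of_mul_eq_mul_left (pow_pos hr.pos a) this
      have h4 : 1 < r ^ k := Nat.one_lt_pow hk0 hr.one_lt
      omega
    -- relative indices
    have hrel : ∀ W : Subgroup G, Nat.card ↥(M ⊓ W) = r ^ k → ¬ r ∣ (M ⊓ W).relIndex M := by
      intro W hW hdvd
      have h1 : (M ⊓ W).relIndex M * Nat.card ↥(M ⊓ W) = Nat.card M := by
        have := Subgroup.card_mul_index ((M ⊓ W).subgroupOf M)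
        rw [Nat.card_congr (Subgroup.subgroupOfEquivOfLe (inf_le_left : M ⊓ W ≤ M)).toEquiv] at this
        rw [← this, mul_comm]; rfl
      rw [hW, hcardM, hk, ha] at h1
      have h2 : (M ⊓ W).relIndex M = p ^ a := by
        have : r ^ k * (M ⊓ W).relIndex M = r ^ k * p ^ a := by
          rw [mul_comm, h1, mul_comm]
        exact Nat.eq_of_mul_eq_mul_left (pow_pos hr.pos k) this
      rw [h2] at hdvd
      have := (Nat.prime_dvd_prime_iff_eq hr hp).mp (hr.dvd_of_dvd_pow hdvd)
      exact hrp this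
    obtain ⟨m, -, hm⟩ := conj_of_sylow_in M (M ⊓ U) (M ⊓ V) r inf_le_left inf_le_left
      (IsPGroup.of_card hAcard) (IsPGroup.of_card hBcard) (hrel U hAcard) (hrel V hBcard)
    -- normalizers
    have hnorm : ∀ W : Subgroup G, IsCoatom W → W.normalCore = ⊥ → Nat.card ↥(M ⊓ W) = r ^ k →
        Subgroup.normalizer ((M ⊓ W : Subgroup G) : Set G) = W := by
      intro W hW hWc hWcard
      have hle : W ≤ Subgroup.normalizer ((M ⊓ W : Subgroup G) : Set G) := by
        intro w hw
        apply Subgroup.mem_normalizer_fintype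
        intro n hn
        exact ⟨hMn.conj_mem n hn.1 w, W.mul_mem (W.mul_mem hw hn.2) (W.inv_mem hw)⟩
      rcases hW.le_iff.mp hle with h1 | h1
      · exfalso
        have hnorm : (M ⊓ W).Normal := Subgroup.normalizer_eq_top_iff.mp h1
        have := Subgroup.normal_le_normalCore.mpr (inf_le_right : M ⊓ W ≤ W)
        rw [hWc] at this
        have h2 : M ⊓ W = ⊥ := le_bot_iff.mp this
        rw [h2, Subgroup.card_bot] at hWcard
        have h4 : 1 < r ^ k := Nat.one_lt_pow hk0 hr.one_lt
        omega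
      · exact h1
    have hNU := hnorm U hU hUc hAcard
    have hNV := hnorm V hV hVc hBcard
    have hm' : MulAut.conj m⁻¹ • (M ⊓ V) = M ⊓ U := by
      rw [← hm, ← mul_smul, ← map_mul, inv_mul_cancel, map_one, one_smul]
    refine ⟨m, ?_⟩
    ext x
    rw [mem_conj_smul_iff]
    constructor
    · intro hx
      rw [← hNU] at hx
      have := conj_mem_normalizer _ _ m _ hm hx
      rw [hNV] at this
      have e : m * (m⁻¹ * x * m) * m⁻¹ = x := by group
      rwa [e] at this
    · intro hx
      rw [← hNV] at hx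
      have := conj_mem_normalizer _ _ m⁻¹ _ hm' hx
      rw [hNU, inv_inv] at this
      exact this

end Cfsg.Agent.S0551
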