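import Cfsg.Statements.S0031
import Mathlib

set_option autoImplicit false
open Cfsg
open scoped Pointwise

namespace Cfsg.Agent.S0031

/-- A fixed-point-free automorphism of a finite group maps some Sylow p-subgroup to itself. -/
theorem result {G : Type*} [Group G] [Finite G] (φ : G ≃* G)
    (hφ : MonoidHom.FixedPointFree (φ : G →* G)) (p : ℕ) [Fact p.Prime] :
    ∃ P : Sylow p G, (P : Subgroup G).map (φ : G →* G) = P := by
  have inj : Function.Injective (fun g : G => (φ g)⁻¹ * g) := by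
    intro a b hab
    simp only at hab
    have h1 : φ (b * a⁻¹) = b * a⁻¹ := by
      rw [map_mul, map_inv]
      have : φ b * ((φ a)⁻¹ * a) * a⁻¹ = φ b * ((φ b)⁻¹ * b) * a⁻¹ := by rw [hab]
      simpa [mul_assoc] using this
    have h2 := hφ (b * a⁻¹) h1
    exact (mul_inv_eq_one.mp h2).symm
  have surj := Finite.surjective_of_injective inj
  obtain ⟨P⟩ : Nonempty (Sylow p G) := inferInstance
  let φ' : MulAut G := φ
  obtain ⟨g, hg⟩ := MulAction.exists_smul_eq G P (φ' • P)
  have hg' : MulAut.conj g • (P : Subgroup G) = (P : Subgroup G).map (φ : G →* G) := by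
    have h := congrArg (fun Q : Sylow p G => (Q : Subgroup G)) hg
    change MulAut.conj g • (P : Subgroup G) = φ' • (P : Subgroup G) at h
    rw [h]
    ext y
    simp only [Subgroup.mem_map, Subgroup.mem_pointwise_smul_iff_inv_smul_mem, MulAut.smul_def]
    constructor
    · intro hy
      exact ⟨_, hy, by simp [φ']⟩
    · rintro ⟨z, hz, rfl⟩
      simpa [φ'] using hz
  obtain ⟨x, hx⟩ := surj g
  simp only at hx
  refine ⟨x • P, ?_⟩
  rw [Sylow.coe_subgroup_smul]
  ext y
  simp only [Subgroup.mem_map, Subgroup.mem_pointwise_smul_iff_inv_smul_mem, MulAut.smul_def,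
    MulAut.conj_inv_apply]
  constructor
  · rintro ⟨z, hz, rfl⟩
    have h1 : φ (x⁻¹ * z * x) ∈ (P : Subgroup G).map (φ : G →* G) := ⟨_, hz, rfl⟩
    rw [← hg', Subgroup.mem_pointwise_smul_iff_inv_smul_mem] at h1
    simp only [MulAut.smul_def, MulAut.conj_inv_apply] at h1
    have h2 : x⁻¹ * (φ : G →* G) z * x = g⁻¹ * φ (x⁻¹ * z * x) * g := by
      rw [← hx]; simp [mul_assoc]
    rw [h2]; exact h1
  · intro hy
    have h1 : g * (x⁻¹ * y * x) * g⁻¹ ∈ MulAut.conj g • (P : Subgroup G) := by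
      rw [Subgroup.mem_pointwise_smul_iff_inv_smul_mem]
      simp only [MulAut.smul_def, MulAut.conj_inv_apply]
      simpa [mul_assoc] using hy
    rw [hg'] at h1
    obtain ⟨w, hw, hw'⟩ := h1
    refine ⟨x * w * x⁻¹, ?_, ?_⟩
    · have e : x⁻¹ * (x * w * x⁻¹) * x = w := by group
      rw [e]; exact hw
    have : (φ : G →* G) (x * w * x⁻¹) = φ x * (g * (x⁻¹ * y * x) * g⁻¹) * (φ x)⁻¹ := by
      rw [← hw']; simp
    rw [this, ← hx]; simp [mul_assoc]

end Cfsg.Agent.S0031
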