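import Cfsg.Statements.S0132
import Cfsg.Agent.S0072
import Cfsg.Agent.Lib.Helper22.Fitting

set_option autoImplicit false
open Cfsg

namespace Cfsg.Agent.S0132

open Cfsg.Agent.Lib.Helper2
open scoped commutatorElement

/-- In a finite nilpotent group a `p'`-element centralizes every normal `p`-subgroup. -/
theorem cent_of_nilpotent {G : Type*} [Group G] [Finite G] (hn : Group.IsNilpotent G) {p : ℕ}
    [Fact p.Prime] (Q : Subgroup G) [Q.Normal] (hQ : IsPGroup p Q) (g : G)
    (hg : (orderOf g).Coprime p) : g ∈ Subgroup.centralizer (Q : Set G) := by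
  set C := Subgroup.centralizer (Q : Set G) with hC
  have hidx : ∀ r : ℕ, r.Prime → r ∣ C.index → r = p := by
    intro r hr hdvd
    by_contra hne
    haveI := Fact.mk hr
    let S : Sylow r G := default
    have hSn : (S : Subgroup G).Normal := inferInstance
    have hdisj : Disjoint (S : Subgroup G) Q :=
      IsPGroup.disjoint_of_ne r p hne _ _ S.isPGroup' hQ
    have hle : (S : Subgroup G) ≤ C := by
      intro s hs
      rw [hC, Subgroup.mem_centralizer_iff]
      intro x hx
      exact ((Subgroup.commute_of_normal_of_disjoint _ _ hSn inferInstance hdisj s x hs hx).eq).symm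
    exact S.not_dvd_index (dvd_trans hdvd (Subgroup.index_dvd_of_le hle))
  have hpow : C.index = p ^ C.index.primeFactorsList.length :=
    Nat.eq_prime_pow_of_unique_prime_dvd (Subgroup.index_ne_zero_of_finite) (fun hd hdv => hidx _ hd hdv)
  have h1 : orderOf (QuotientGroup.mk' C g) ∣ orderOf g := orderOf_map_dvd _ g
  have h2 : orderOf (QuotientGroup.mk' C g) ∣ C.index := by
    rw [Subgroup.index_eq_card]; exact orderOf_dvd_natCard _
  have h3 : orderOf (QuotientGroup.mk' C g) = 1 := by
    have hc : (orderOf g).Coprime (p ^ C.index.primeFactorsList.length) := hg.pow_right _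
    rw [hpow] at h2
    exact (Nat.Coprime.coprime_dvd_left h1 hc).eq_one_of_dvd h2
  have h4 : QuotientGroup.mk' C g = 1 := orderOf_eq_one_iff.mp h3
  exact (QuotientGroup.eq_one_iff g).mp h4

theorem exists_pair {G : Type*} [Group G] [Finite G] {p : ℕ} [Fact p.Prime]
    (h1 : ¬ Cfsg.HasNormalPComplement p G)
    (h2 : ∀ H : Subgroup G, H ≠ ⊤ → Cfsg.HasNormalPComplement p H) :
    ∃ (Q : Subgroup G) (g : G), IsPGroup p Q ∧ g ∈ Subgroup.normalizer (Q : Set G) ∧
      (orderOf g).Coprime p ∧ g ∉ Subgroup.centralizer (Q : Set G) ∧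
      Q ⊔ Subgroup.zpowers g = ⊤ := by
  rw [Cfsg.Agent.S0072.hasNormalPComplement_iff_frobCond] at h1
  unfold FrobCond at h1
  push Not at h1
  obtain ⟨Q, hQ, g, hgN, hgc, hgC⟩ := h1
  refine ⟨Q, g, hQ, hgN, hgc, hgC, ?_⟩
  by_contra hK
  have hF := (Cfsg.Agent.S0072.hasNormalPComplement_iff_frobCond p).mp (h2 _ hK)
  have hgK : g ∈ Q ⊔ Subgroup.zpowers g :=
    (le_sup_right : Subgroup.zpowers g ≤ _) (Subgroup.mem_zpowers g)
  have hQK : Q ≤ Q ⊔ Subgroup.zpowers g := le_sup_left
  have hnorm : (⟨g, hgK⟩ : ↥(Q ⊔ Subgroup.zpowers g)) ∈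
      Subgroup.normalizer ((Q.subgroupOf (Q ⊔ Subgroup.zpowers g) : Subgroup _) : Set _) := by
    rw [Subgroup.mem_normalizer_iff]
    intro x
    simp only [Subgroup.mem_subgroupOf, Subgroup.coe_mul, Subgroup.coe_inv]
    exact (Subgroup.mem_normalizer_iff.mp hgN) x
  have hord : (orderOf (⟨g, hgK⟩ : ↥(Q ⊔ Subgroup.zpowers g))).Coprime p := by
    rw [Subgroup.orderOf_mk]; exact hgc
  have hcent := hF (Q.subgroupOf _) hQ.comap_subtype ⟨g, hgK⟩ hnorm hord
  apply hgC
  rw [Subgroup.mem_centralizer_iff]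
  intro x hx
  have := (Subgroup.mem_centralizer_iff.mp hcent) ⟨x, hQK hx⟩
    (by rw [SetLike.mem_coe, Subgroup.mem_subgroupOf]; exact hx)
  exact congrArg Subtype.val this

/-- A minimal non-p-nilpotent finite group is a minimal non-nilpotent group with a normal Sylow p-subgroup. -/
theorem result {G : Type*} [Group G] [Finite G] {p : ℕ} [Fact p.Prime] (h1 : ¬ Cfsg.HasNormalPComplement p G) (h2 : ∀ H : Subgroup G, H ≠ ⊤ → Cfsg.HasNormalPComplement p H) : (∀ H : Subgroup G, H ≠ ⊤ → Group.IsNilpotent H) ∧ ¬ Group.IsNilpotent G ∧ ∀ P : Sylow p G, (P : Subgroup G).Normal := by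
  obtain ⟨Q, g, hQ, hgN, hgc, hgC, htop⟩ := exists_pair h1 h2
  have hQn : Q.Normal := by
    have : Subgroup.normalizer (Q : Set G) = ⊤ := by
      apply top_unique
      rw [← htop]
      exact sup_le Subgroup.le_normalizer ((Subgroup.zpowers_le).mpr hgN)
    exact Subgroup.normalizer_eq_top_iff.mp this
  -- the quotient is generated by the image of g
  have hquot : Subgroup.zpowers (QuotientGroup.mk' Q g) = ⊤ := by
    rw [← MonoidHom.map_zpowers, ← Subgroup.map_top_of_surjective (QuotientGroup.mk' Q)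
      (QuotientGroup.mk'_surjective Q), ← htop, Subgroup.map_sup, QuotientGroup.map_mk'_self,
      bot_sup_eq]
  have hidx : ¬ p ∣ Q.index := by
    rw [Subgroup.index_eq_card, ← Subgroup.card_top (G := G ⧸ Q), ← hquot, Nat.card_zpowers]
    intro hdvd
    have h3 : p ∣ orderOf g := dvd_trans hdvd (orderOf_map_dvd _ g)
    have := Nat.eq_one_of_dvd_coprimes hgc h3 (dvd_refl p)
    exact (Fact.out : p.Prime).one_lt.ne' this
  have hcomm : ∀ x y : G, ⁅x, y⁆ ∈ Q := by
    intro x y
    rw [← QuotientGroup.eq_one_iff (N := Q), ← QuotientGroup.mk'_apply, map_commutatorElement]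
    have hx : QuotientGroup.mk' Q x ∈ Subgroup.zpowers (QuotientGroup.mk' Q g) := by
      rw [hquot]; trivial
    have hy : QuotientGroup.mk' Q y ∈ Subgroup.zpowers (QuotientGroup.mk' Q g) := by
      rw [hquot]; trivial
    obtain ⟨a, ha⟩ := Subgroup.mem_zpowers_iff.mp hx
    obtain ⟨b, hb⟩ := Subgroup.mem_zpowers_iff.mp hy
    rw [← ha, ← hb, commutatorElement_eq_one_iff_commute]
    exact (Commute.refl _).zpow_zpow a b
  let QS : Sylow p G := hQ.toSylow hidx
  have hQS : (QS : Subgroup G) = Q := rfl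
  have hQSn : (QS : Subgroup G).Normal := hQn
  haveI := Sylow.unique_of_normal QS hQSn
  refine ⟨?_, fun hn => hgC (cent_of_nilpotent hn Q hQ g hgc), fun P => ?_⟩
  · intro H hH
    obtain ⟨PH, N, hNn, hcompl⟩ := h2 H hH
    -- PH = Q ∩ H
    have hPHle : ∀ x : H, x ∈ PH → (x : G) ∈ Q := by
      intro x hx
      have hp : IsPGroup p ((PH : Subgroup H).map H.subtype) := PH.isPGroup'.map _
      obtain ⟨S, hS⟩ := hp.exists_le_sylow
      have : S = QS := Subsingleton.elim _ _
      rw [this] at hS
      exact hS (Subgroup.mem_map_of_mem _ hx)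
    have hPHeq : (PH : Subgroup H) = Q.subgroupOf H := by
      apply le_antisymm
      · intro x hx
        exact hPHle x hx
      · haveI : (Q.subgroupOf H).Normal := hQn.subgroupOf H
        exact IsPGroup.le_sylow_of_normal hQ.comap_subtype PH
    have hPHn : (PH : Subgroup H).Normal := by
      rw [hPHeq]; exact hQn.subgroupOf H
    have hdisj : Disjoint N (PH : Subgroup H) := hcompl.disjoint
    have hNcomm : ∀ a b : N, a * b = b * a := by
      intro a b
      have hc : ⁅(a : H), (b : H)⁆ ∈ N ⊓ (PH : Subgroup H) := by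
        refine ⟨Subgroup.commutator_mem_commutator a.2 b.2 |> fun h => ?_, ?_⟩
        · exact N.mul_mem (N.mul_mem (N.mul_mem a.2 b.2) (N.inv_mem a.2)) (N.inv_mem b.2)
        · rw [hPHeq]
          show ((⁅(a : H), (b : H)⁆ : H) : G) ∈ Q
          have := hcomm (a : H) (b : H)
          simpa [commutatorElement_def] using this
      rw [hdisj.eq_bot, Subgroup.mem_bot, commutatorElement_eq_one_iff_mul_comm] at hc
      exact Subtype.ext hc
    have hNnil : Group.IsNilpotent N := by
      letI : CommGroup N := { (inferInstance : Group N) with mul_comm := hNcomm }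
      exact CommGroup.isNilpotent
    have hPHnil : Group.IsNilpotent (PH : Subgroup H) := PH.isPGroup'.isNilpotent
    have hF : Cfsg.fittingSubgroup H = ⊤ := by
      apply top_unique
      rw [← hcompl.sup_eq_top]
      exact sup_le (Cfsg.Agent.Lib.Helper22.le_fittingSubgroup hNn hNnil)
        (Cfsg.Agent.Lib.Helper22.le_fittingSubgroup hPHn hPHnil)
    have hFn : Group.IsNilpotent (Cfsg.fittingSubgroup H) :=
      Cfsg.Agent.Lib.Helper22.fittingSubgroup_isNilpotent
    rw [hF] at hFn
    exact (Group.isNilpotent_congr Subgroup.topEquiv).mp hFn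
  · have : P = QS := Subsingleton.elim _ _
    rw [this]; exact hQSn

end Cfsg.Agent.S0132
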