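import Cfsg.Statements.S0519
import Mathlib
import Cfsg.Agent.Lib.Helper53.NormalAbelian
import Cfsg.Agent.Lib.Helper29.CyclicMax
import Cfsg.Agent.Lib.Helper73.CyclicMax

set_option autoImplicit false
open Cfsg

namespace Cfsg.Agent.S0519

open Cfsg



/-- Above a proper normal subgroup of a finite `p`-group there is a normal subgroup of relative index `p`. -/
theorem exists_normal_above {P : Type*} [Group P] [Finite P] {p : ℕ} [hp : Fact p.Prime]
    (hP : IsPGroup p P) (A : Subgroup P) [hA : A.Normal] (hAt : A ≠ ⊤) :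
    ∃ B : Subgroup P, B.Normal ∧ A ≤ B ∧ A.relIndex B = p := by
  haveI : Nontrivial (P ⧸ A) := by
    rw [← Finite.one_lt_card_iff_nontrivial, ← Subgroup.index_eq_card]
    have h1 : A.index ≠ 1 := fun h => hAt (Subgroup.index_eq_one.mp h)
    have h0 : A.index ≠ 0 := Subgroup.index_ne_zero_of_finite
    omega
  have hQ : IsPGroup p (P ⧸ A) := hP.to_quotient A
  haveI := hQ.center_nontrivial
  have hZ : IsPGroup p (Subgroup.center (P ⧸ A)) := hQ.to_subgroup _
  obtain ⟨k, hk⟩ := IsPGroup.iff_card.mp hZ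
  have hk0 : k ≠ 0 := by
    rintro rfl
    rw [pow_zero] at hk
    have := Finite.one_lt_card (α := Subgroup.center (P ⧸ A))
    omega
  have hdvd : p ∣ Nat.card (Subgroup.center (P ⧸ A)) := by
    rw [hk]; exact dvd_pow_self p hk0
  obtain ⟨z, hz⟩ := exists_prime_orderOf_dvd_card' (G := Subgroup.center (P ⧸ A)) p hdvd
  let Z : Subgroup (P ⧸ A) := Subgroup.zpowers (z : P ⧸ A)
  have hZn : Z.Normal := by
    refine ⟨fun x hx g => ?_⟩
    obtain ⟨j, rfl⟩ := Subgroup.mem_zpowers_iff.mp hx
    have hc : g * (z : P ⧸ A) ^ j * g⁻¹ = (z : P ⧸ A) ^ j := by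
      have h1 : ((z : P ⧸ A) ^ j) ∈ Subgroup.center (P ⧸ A) := Subgroup.zpow_mem _ z.2 j
      rw [Subgroup.mem_center_iff] at h1
      rw [h1 g]; group
    rw [hc]
    exact Subgroup.zpow_mem _ (Subgroup.mem_zpowers _) j
  have hZcard : Nat.card Z = p := by
    rw [Nat.card_zpowers, Subgroup.orderOf_coe, hz]
  refine ⟨Z.comap (QuotientGroup.mk' A), hZn.comap _, ?_, ?_⟩
  · intro x hx
    rw [Subgroup.mem_comap]
    have : (QuotientGroup.mk' A) x = 1 := (QuotientGroup.eq_one_iff x).mpr hx
    rw [this]; exact one_mem _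
  · have h1 : (⊥ : Subgroup (P ⧸ A)).comap (QuotientGroup.mk' A) = A := by
      ext x
      simp
    have h2 : A.relIndex (Z.comap (QuotientGroup.mk' A)) =
        ((⊥ : Subgroup (P ⧸ A)).comap (QuotientGroup.mk' A)).relIndex (Z.comap (QuotientGroup.mk' A)) :=
      congrArg (fun X : Subgroup P => X.relIndex (Z.comap (QuotientGroup.mk' A))) h1.symm
    rw [h2, Subgroup.relIndex_comap, Subgroup.map_comap_eq_self_of_surjective (QuotientGroup.mk'_surjective A),
      Subgroup.relIndex_bot_left, hZcard]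



section cyc
variable {P : Type*} [Group P] [Finite P] (a : P) [hn : (Subgroup.zpowers a).Normal]

omit [Finite P] in
theorem conj_pow_exp {g : P} {r : ℕ} (h : g * a * g⁻¹ = a ^ r) (j : ℕ) :
    g * a ^ j * g⁻¹ = a ^ (r * j) := by
  rw [← conj_pow, h, ← pow_mul]

omit [Finite P] in
theorem conj_zpow_exp {g : P} {r : ℕ} (h : g * a * g⁻¹ = a ^ r) (j : ℤ) :
    g * a ^ j * g⁻¹ = (a ^ j) ^ r := by
  rw [← conj_zpow, h, ← zpow_natCast, ← zpow_natCast, ← zpow_mul, ← zpow_mul, mul_comm]

include hn in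
theorem exists_exp (m : ℕ) (hm : 1 ≤ m) (ho : orderOf a = 2 ^ m) (g : P) :
    ∃ r : ℕ, g * a * g⁻¹ = a ^ r ∧ r % 2 = 1 := by
  have hmem : g * a * g⁻¹ ∈ Subgroup.zpowers a := hn.conj_mem a (Subgroup.mem_zpowers a) g
  obtain ⟨k, hk⟩ := Subgroup.mem_zpowers_iff.mp hmem
  have hpos : (0 : ℤ) < orderOf a := by
    have := orderOf_pos a
    exact_mod_cast this
  have hk' : a ^ (k % (orderOf a : ℤ)) = g * a * g⁻¹ := by rw [zpow_mod_orderOf, hk]
  have hnn : 0 ≤ k % (orderOf a : ℤ) := Int.emod_nonneg k hpos.ne'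
  refine ⟨(k % (orderOf a : ℤ)).toNat, ?_, ?_⟩
  · rw [← hk', ← zpow_natCast, Int.toNat_of_nonneg hnn]
  · set r := (k % (orderOf a : ℤ)).toNat with hr
    have hgr : g * a * g⁻¹ = a ^ r := by
      rw [← hk', ← zpow_natCast, Int.toNat_of_nonneg hnn]
    by_contra hodd
    have heven : r % 2 = 0 := by omega
    obtain ⟨s, hs⟩ : ∃ s, r = 2 * s := ⟨r / 2, by omega⟩
    -- (a^r)^(2^(m-1)) = 1
    have h1 : (g * a * g⁻¹) ^ (2 ^ (m - 1)) = 1 := by
      rw [hgr, hs, ← pow_mul]
      have : 2 * s * 2 ^ (m - 1) = 2 ^ m * s := by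
        obtain ⟨t, rfl⟩ : ∃ t, m = t + 1 := ⟨m - 1, by omega⟩
        simp only [Nat.add_sub_cancel]
        ring
      rw [this, pow_mul, ← ho, pow_orderOf_eq_one, one_pow]
    have h2 : a ^ (2 ^ (m - 1)) = 1 := by
      have : g * a ^ (2 ^ (m - 1)) * g⁻¹ = 1 := by rw [← conj_pow]; exact h1
      have h3 : a ^ (2 ^ (m - 1)) = g⁻¹ * (g * a ^ (2 ^ (m - 1)) * g⁻¹) * g := by group
      rw [h3, this]; group
    have h4 : orderOf a ∣ 2 ^ (m - 1) := orderOf_dvd_of_pow_eq_one h2
    rw [ho] at h4
    have h5 : 2 ^ m ≤ 2 ^ (m - 1) := Nat.le_of_dvd (by positivity) h4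
    have h6 : 2 ^ (m - 1) < 2 ^ m := Nat.pow_lt_pow_right (by norm_num) (by omega)
    omega

omit [Finite P] in
theorem exp_mod_four (m : ℕ) (hm : 2 ≤ m) (ho : orderOf a = 2 ^ m) {r s : ℕ} (h : a ^ r = a ^ s) :
    r % 4 = s % 4 := by
  have h1 : r ≡ s [MOD orderOf a] := pow_eq_pow_iff_modEq.mp h
  rw [ho] at h1
  have h4 : 4 ∣ 2 ^ m := by
    obtain ⟨t, rfl⟩ : ∃ t, m = t + 2 := ⟨m - 2, by omega⟩
    exact ⟨2 ^ t, by ring⟩
  exact h1.of_dvd h4

/-- `g` acts on `a` by an exponent `≡ 1 mod 4` -/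
def Good (g : P) : Prop := ∃ r : ℕ, g * a * g⁻¹ = a ^ r ∧ r % 4 = 1
/-- `g` acts on `a` by an exponent `≡ 3 mod 4` -/
def Bad (g : P) : Prop := ∃ r : ℕ, g * a * g⁻¹ = a ^ r ∧ r % 4 = 3

include hn in
theorem good_or_bad (m : ℕ) (hm : 1 ≤ m) (ho : orderOf a = 2 ^ m) (g : P) : Good a g ∨ Bad a g := by
  obtain ⟨r, hr, hodd⟩ := exists_exp a m hm ho g
  have : r % 4 = 1 ∨ r % 4 = 3 := by omega
  rcases this with h | h
  · exact Or.inl ⟨r, hr, h⟩
  · exact Or.inr ⟨r, hr, h⟩

omit [Finite P] in
theorem mul_exp {g h : P} {r s : ℕ} (hg : g * a * g⁻¹ = a ^ r) (hh : h * a * h⁻¹ = a ^ s) :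
    (g * h) * a * (g * h)⁻¹ = a ^ (r * s) := by
  have : (g * h) * a * (g * h)⁻¹ = g * (h * a * h⁻¹) * g⁻¹ := by group
  rw [this, hh, conj_pow_exp a hg]

omit [Finite P] in
theorem bad_mul_bad {g h : P} (hg : Bad a g) (hh : Bad a h) : Good a (g * h) := by
  obtain ⟨r, hr, hr4⟩ := hg
  obtain ⟨s, hs, hs4⟩ := hh
  refine ⟨r * s, mul_exp a hr hs, ?_⟩
  rw [Nat.mul_mod, hr4, hs4]

include hn in
theorem good_sq (m : ℕ) (hm : 1 ≤ m) (ho : orderOf a = 2 ^ m) (w : P) : Good a (w * w) := by
  obtain ⟨r, hr, hodd⟩ := exists_exp a m hm ho w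
  refine ⟨r * r, mul_exp a hr hr, ?_⟩
  have : r % 4 = 1 ∨ r % 4 = 3 := by omega
  rcases this with h | h <;> rw [Nat.mul_mod, h]

omit [Finite P] in
theorem not_good_and_bad (m : ℕ) (hm : 2 ≤ m) (ho : orderOf a = 2 ^ m) (g : P) (h1 : Good a g) (h2 : Bad a g) :
    False := by
  obtain ⟨r, hr, hr4⟩ := h1
  obtain ⟨s, hs, hs4⟩ := h2
  have := exp_mod_four a m hm ho (hr.symm.trans hs)
  omega

omit [Finite P] in
theorem mem_centralizer_of_commute {x : P} (hx : x * a = a * x) :
    x ∈ Subgroup.centralizer (Subgroup.zpowers a : Set P) := by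
  rw [Subgroup.mem_centralizer_iff]
  rintro y ⟨k, rfl⟩
  have hc : Commute x a := hx
  exact (hc.zpow_right k).eq.symm

include hn in
/-- `P / A` is abelian. -/
theorem comm_mem (m : ℕ) (hm : 1 ≤ m) (ho : orderOf a = 2 ^ m)
    (hC : Subgroup.centralizer (Subgroup.zpowers a : Set P) = Subgroup.zpowers a) (g h : P) :
    g * h * g⁻¹ * h⁻¹ ∈ Subgroup.zpowers a := by
  obtain ⟨r, hr, -⟩ := exists_exp a m hm ho g
  obtain ⟨s, hs, -⟩ := exists_exp a m hm ho h
  have h1 := mul_exp a hr hs
  have h2 := mul_exp a hs hr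
  rw [mul_comm s r] at h2
  set x := (h * g)⁻¹ * (g * h) with hx
  have hxa : x * a * x⁻¹ = a := by
    have : x * a * x⁻¹ = (h * g)⁻¹ * ((g * h) * a * (g * h)⁻¹) * (h * g) := by rw [hx]; group
    rw [this, h1, ← h2]; group
  have hxc : x * a = a * x := by
    calc x * a = x * a * x⁻¹ * x := by group
      _ = a * x := by rw [hxa]
  have hxA : x ∈ Subgroup.zpowers a := by
    rw [← hC]; exact mem_centralizer_of_commute a hxc
  have : g * h * g⁻¹ * h⁻¹ = (h * g) * x * (h * g)⁻¹ := by rw [hx]; group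
  rw [this]
  exact hn.conj_mem x hxA _


omit [Finite P] hn in
theorem exists_nat_pow_of_mem [Finite P] {x : P} (hx : x ∈ Subgroup.zpowers a) : ∃ s : ℕ, a ^ s = x := by
  have hfin : IsOfFinOrder a := isOfFinOrder_of_finite a
  have := hfin.mem_powers_iff_mem_zpowers.mpr hx
  exact (Submonoid.mem_powers_iff _ _).mp this

omit [Finite P] hn in
theorem normal_closure_of_conj_mem (S : Set P)
    (h : ∀ s ∈ S, ∀ p : P, p * s * p⁻¹ ∈ Subgroup.closure S) : (Subgroup.closure S).Normal := by
  refine ⟨fun x hx p => ?_⟩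
  induction hx using Subgroup.closure_induction with
  | mem x hx => exact h x hx p
  | one => simp
  | mul x y _ _ hx hy =>
    have : p * (x * y) * p⁻¹ = (p * x * p⁻¹) * (p * y * p⁻¹) := by group
    rw [this]; exact Subgroup.mul_mem _ hx hy
  | inv x _ hx =>
    have : p * x⁻¹ * p⁻¹ = (p * x * p⁻¹)⁻¹ := by group
    rw [this]; exact Subgroup.inv_mem _ hx

/-- In a finite cyclic group there is at most one involution. -/
theorem invol_unique_of_cyclic {C : Type*} [Group C] [Finite C] [IsCyclic C] (x y : C)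
    (hx : x * x = 1) (hy : y * y = 1) (hx1 : x ≠ 1) (hy1 : y ≠ 1) : x = y := by
  obtain ⟨g, hg⟩ := IsCyclic.exists_generator (α := C)
  have h2 : 2 ∣ orderOf g := by
    have hxo : orderOf x = 2 := orderOf_eq_prime (by rw [pow_two]; exact hx) hx1
    have : orderOf x ∣ orderOf g := by
      rw [orderOf_eq_card_of_forall_mem_zpowers hg]
      exact orderOf_dvd_natCard x
    rwa [hxo] at this
  obtain ⟨m', hm'⟩ := h2
  rw [Cfsg.Agent.Lib.Helper73.eq_pow_half_of_sq_eq_one hm' (hg x) hx hx1,
    Cfsg.Agent.Lib.Helper73.eq_pow_half_of_sq_eq_one hm' (hg y) hy hy1]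

include hn in
theorem four_group_of_good (m : ℕ) (hm : 2 ≤ m) (ho : orderOf a = 2 ^ m)
    (hC : Subgroup.centralizer (Subgroup.zpowers a : Set P) = Subgroup.zpowers a)
    (h : P) (hh : h ∉ Subgroup.zpowers a) (hh2 : h * h ∈ Subgroup.zpowers a) (hg : Good a h) :
    ∃ W : Subgroup P, W.Normal ∧ IsMulCommutative W ∧ ¬ IsCyclic W := by
  obtain ⟨r, hr, hr4⟩ := hg
  obtain ⟨k, hk⟩ : ∃ k, r = 4 * k + 1 := ⟨r / 4, by omega⟩
  set c := a ^ (4 * k) with hcdef
  have hca : h * a * h⁻¹ = c * a := by rw [hr, hk, pow_succ]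
  have hcA : c ∈ Subgroup.zpowers a := Subgroup.pow_mem _ (Subgroup.mem_zpowers a) _
  have hcomm_ca : Commute c a := (Commute.refl a).pow_left _
  have hc1 : c ≠ 1 := by
    intro h1
    rw [h1, one_mul] at hca
    have hcm : h * a = a * h := by
      calc h * a = h * a * h⁻¹ * h := by group
        _ = a * h := by rw [hca]
    apply hh
    rw [← hC]; exact mem_centralizer_of_commute a hcm
  have hcc : h * c * h⁻¹ = c⁻¹ := by
    obtain ⟨j, hj⟩ := Subgroup.mem_zpowers_iff.mp hh2
    have h2a : (h * h) * a * (h * h)⁻¹ = a := by rw [← hj]; group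
    have h3 : (h * h) * a * (h * h)⁻¹ = (h * c * h⁻¹) * (c * a) := by
      calc (h * h) * a * (h * h)⁻¹ = h * (h * a * h⁻¹) * h⁻¹ := by group
        _ = h * (c * a) * h⁻¹ := by rw [hca]
        _ = (h * c * h⁻¹) * (h * a * h⁻¹) := by group
        _ = (h * c * h⁻¹) * (c * a) := by rw [hca]
    have e : (h * c * h⁻¹) * (c * a) = a := h3.symm.trans h2a
    have : h * c * h⁻¹ * c = 1 := by
      calc h * c * h⁻¹ * c = (h * c * h⁻¹) * (c * a) * a⁻¹ := by group
        _ = 1 := by rw [e]; group
    exact eq_inv_of_mul_eq_one_left this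
  have hcr : h * c * h⁻¹ = c ^ r := by
    rw [hcdef, conj_pow_exp a hr, mul_comm, pow_mul]
  have hc2 : c * c = 1 := by
    have h1 : c ^ (r + 1) = 1 := by rw [pow_succ, ← hcr, hcc]; group
    have h2 : (c * c) ^ (2 * k + 1) = 1 := by
      rw [← pow_two, ← pow_mul]
      have : 2 * (2 * k + 1) = r + 1 := by omega
      rw [this]; exact h1
    have hcpow2 : c ^ (2 ^ m) = 1 := by
      rw [hcdef, ← pow_mul, mul_comm, pow_mul, ← ho, pow_orderOf_eq_one, one_pow]
    have h3 : (c * c) ^ (2 ^ m) = 1 := by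
      rw [(Commute.refl c).mul_pow, hcpow2, one_mul]
    have hd1 : orderOf (c * c) ∣ 2 * k + 1 := orderOf_dvd_of_pow_eq_one h2
    have hd2 : orderOf (c * c) ∣ 2 ^ m := orderOf_dvd_of_pow_eq_one h3
    have hcop : Nat.Coprime (2 * k + 1) (2 ^ m) := by
      apply Nat.Coprime.pow_right
      rw [Nat.coprime_two_right]
      exact ⟨k, rfl⟩
    have : orderOf (c * c) = 1 := Nat.eq_one_of_dvd_coprimes hcop hd1 hd2
    exact orderOf_eq_one_iff.mp this
  have hcinv : c⁻¹ = c := inv_eq_of_mul_eq_one_left hc2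
  -- unique involution of A
  have hm2 : orderOf a = 2 * 2 ^ (m - 1) := by
    rw [ho]
    obtain ⟨t, rfl⟩ : ∃ t, m = t + 1 := ⟨m - 1, by omega⟩
    simp only [Nat.add_sub_cancel]; ring
  have huniq : ∀ x ∈ Subgroup.zpowers a, x * x = 1 → x = 1 ∨ x = c := by
    intro x hx hxx
    by_cases hx1 : x = 1
    · exact Or.inl hx1
    · right
      rw [Cfsg.Agent.Lib.Helper73.eq_pow_half_of_sq_eq_one hm2 hx hxx hx1,
        Cfsg.Agent.Lib.Helper73.eq_pow_half_of_sq_eq_one hm2 hcA hc2 hc1]
  -- c is central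
  have hcent : ∀ p : P, p * c * p⁻¹ = c := by
    intro p
    have h1 : p * c * p⁻¹ ∈ Subgroup.zpowers a := hn.conj_mem c hcA p
    have h2 : (p * c * p⁻¹) * (p * c * p⁻¹) = 1 := by
      calc (p * c * p⁻¹) * (p * c * p⁻¹) = p * (c * c) * p⁻¹ := by group
        _ = 1 := by rw [hc2]; group
    rcases huniq _ h1 h2 with h3 | h3
    · exfalso
      apply hc1
      calc c = p⁻¹ * (p * c * p⁻¹) * p := by group
        _ = 1 := by rw [h3]; group
    · exact h3
  have hcentc : ∀ p : P, p * c = c * p := by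
    intro p
    calc p * c = p * c * p⁻¹ * p := by group
      _ = c * p := by rw [hcent p]
  -- powers of c
  have hcpow : ∀ j : ℕ, c ^ j = 1 ∨ c ^ j = c := by
    intro j
    induction j with
    | zero => left; simp
    | succ j ih =>
      rcases ih with h1 | h1
      · right; rw [pow_succ, h1, one_mul]
      · left; rw [pow_succ, h1, hc2]
  -- action of an element of hA on powers of a
  have hact : ∀ (y : P), y * a * y⁻¹ = c * a → ∀ j : ℕ, y * a ^ j * y⁻¹ = c ^ j * a ^ j := by
    intro y hy j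
    rw [← conj_pow, hy, hcomm_ca.mul_pow]
  -- find an involution outside A
  obtain ⟨s, hs⟩ := exists_nat_pow_of_mem a hh2
  have hseven : c ^ s = 1 := by
    have h1 : h * (h * h) * h⁻¹ = h * h := by group
    rw [← hs, hact h hca s] at h1
    calc c ^ s = c ^ s * a ^ s * (a ^ s)⁻¹ := by group
      _ = 1 := by rw [h1]; group
  have hs2 : s % 2 = 0 := by
    have hco : orderOf c = 2 := orderOf_eq_prime (by rw [pow_two]; exact hc2) hc1
    have := orderOf_dvd_of_pow_eq_one hseven
    rw [hco] at this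
    omega
  obtain ⟨t, ht⟩ : ∃ t, s = 2 * t := ⟨s / 2, by omega⟩
  set f := a ^ t with hfdef
  have hff : f * f = h * h := by rw [← hs, ht, hfdef, ← pow_add]; congr 1; omega
  have hfA : f ∈ Subgroup.zpowers a := Subgroup.pow_mem _ (Subgroup.mem_zpowers a) _
  have hfc : Commute f c := ((Commute.refl a).pow_left t).pow_right (4 * k)
  have hxx : (h * f⁻¹) * (h * f⁻¹) = (c ^ t)⁻¹ := by
    have h1 : h * f * h⁻¹ = c ^ t * f := hact h hca t
    have h2 : h * f⁻¹ * h⁻¹ = (c ^ t * f)⁻¹ := by rw [← h1]; group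
    have hct : Commute f (c ^ t) := hfc.pow_right t
    calc (h * f⁻¹) * (h * f⁻¹) = (h * f⁻¹ * h⁻¹) * (h * h) * f⁻¹ := by group
      _ = (c ^ t * f)⁻¹ * (f * f) * f⁻¹ := by rw [h2, hff]
      _ = f⁻¹ * ((c ^ t)⁻¹ * f) := by group
      _ = f⁻¹ * (f * (c ^ t)⁻¹) := by rw [(hct.inv_right).eq]
      _ = (c ^ t)⁻¹ := by group
  obtain ⟨y, hyA, hyy, hya⟩ : ∃ y : P, y ∉ Subgroup.zpowers a ∧ y * y = 1 ∧ y * a * y⁻¹ = c * a := by
    rcases hcpow t with h1 | h1
    · refine ⟨h * f⁻¹, ?_, ?_, ?_⟩
      · intro hmem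
        apply hh
        have := Subgroup.mul_mem _ hmem hfA
        simpa using this
      · rw [hxx, h1, inv_one]
      · have : h * f⁻¹ * a * (h * f⁻¹)⁻¹ = h * (f⁻¹ * a * f) * h⁻¹ := by group
        rw [this]
        have hfa : f⁻¹ * a * f = a := by
          have : Commute f a := (Commute.refl a).pow_left t
          calc f⁻¹ * a * f = f⁻¹ * (a * f) := by group
            _ = f⁻¹ * (f * a) := by rw [this.eq]
            _ = a := by group
        rw [hfa, hca]
    · -- x*x = c; multiply by d = a^(2k)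
      set d := a ^ (2 * k) with hddef
      have hdA : d ∈ Subgroup.zpowers a := Subgroup.pow_mem _ (Subgroup.mem_zpowers a) _
      have hdd : d * d = c := by rw [hddef, hcdef, ← pow_add]; congr 1; omega
      have hhd : h * d * h⁻¹ = d := by
        rw [hddef, hact h hca (2 * k), pow_mul, pow_two, hc2, one_pow, one_mul]
      have hfd : Commute f d := ((Commute.refl a).pow_left t).pow_right (2 * k)
      have hda : Commute d a := (Commute.refl a).pow_left (2 * k)
      refine ⟨h * f⁻¹ * d, ?_, ?_, ?_⟩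
      · intro hmem
        apply hh
        have h1 := Subgroup.mul_mem _ (Subgroup.mul_mem _ hmem (Subgroup.inv_mem _ hdA)) hfA
        have : h * f⁻¹ * d * d⁻¹ * f = h := by group
        rwa [this] at h1
      · have hhd' : h * d = d * h := by
          calc h * d = h * d * h⁻¹ * h := by group
            _ = d * h := by rw [hhd]
        have hfd' : f⁻¹ * d = d * f⁻¹ := by
          calc f⁻¹ * d = f⁻¹ * (d * f) * f⁻¹ := by group
            _ = f⁻¹ * (f * d) * f⁻¹ := by rw [hfd.eq]
            _ = d * f⁻¹ := by group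
        calc (h * f⁻¹ * d) * (h * f⁻¹ * d) = h * f⁻¹ * (d * h) * f⁻¹ * d := by group
          _ = h * f⁻¹ * (h * d) * f⁻¹ * d := by rw [hhd']
          _ = h * f⁻¹ * h * (d * f⁻¹) * d := by group
          _ = h * f⁻¹ * h * (f⁻¹ * d) * d := by rw [hfd']
          _ = (h * f⁻¹) * (h * f⁻¹) * (d * d) := by group
          _ = 1 := by rw [hxx, h1, hdd, hcinv, hc2]
      · have hfa : f⁻¹ * a * f = a := by
          have : Commute f a := (Commute.refl a).pow_left t
          calc f⁻¹ * a * f = f⁻¹ * (a * f) := by group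
            _ = f⁻¹ * (f * a) := by rw [this.eq]
            _ = a := by group
        have hda' : d * a * d⁻¹ = a := by
          calc d * a * d⁻¹ = a * d * d⁻¹ := by rw [hda.eq]
            _ = a := by group
        calc h * f⁻¹ * d * a * (h * f⁻¹ * d)⁻¹ = h * (f⁻¹ * (d * a * d⁻¹) * f) * h⁻¹ := by group
          _ = c * a := by rw [hda', hfa, hca]
  -- the four-group
  have hyc : y ≠ c := fun e => hyA (e ▸ hcA)
  have hy1 : y ≠ 1 := fun e => hyA (e ▸ one_mem _)
  refine ⟨Subgroup.closure {y, c}, ?_, ?_, ?_⟩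
  · apply normal_closure_of_conj_mem
    intro x hx p
    rcases hx with rfl | hx
    · -- conjugate of y
      set u := p * x * p⁻¹ * x⁻¹ with hu
      have huA : u ∈ Subgroup.zpowers a := comm_mem a m (by omega) ho hC p x
      have hconj : p * x * p⁻¹ = u * x := by rw [hu]; group
      have hinv : (u * x) * (u * x) = 1 := by
        rw [← hconj]
        calc (p * x * p⁻¹) * (p * x * p⁻¹) = p * (x * x) * p⁻¹ := by group
          _ = 1 := by rw [hyy]; group
      obtain ⟨j, hj⟩ := exists_nat_pow_of_mem a huA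
      have hxu : x * u * x⁻¹ = c ^ j * u := by rw [← hj]; exact hact x hya j
      have hxinv : x⁻¹ = x := inv_eq_of_mul_eq_one_left hyy
      have huu : u * (c ^ j * u) = 1 := by
        rw [← hxu, hxinv]
        calc u * (x * u * x) = (u * x) * (u * x) := by group
          _ = 1 := hinv
      have hcu : Commute (c ^ j) u := by
        rw [← hj]; exact ((Commute.refl a).pow_left (4 * k)).pow_left j |>.pow_right j
      rcases hcpow j with h1 | h1
      · rw [h1, one_mul] at huu
        rcases huniq u huA huu with h2 | h2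
        · rw [hconj, h2, one_mul]
          exact Subgroup.subset_closure (by simp)
        · rw [hconj, h2]
          exact Subgroup.mul_mem _ (Subgroup.subset_closure (by simp)) (Subgroup.subset_closure (by simp))
      · exfalso
        rw [h1] at huu hcu
        -- u*u = c, so u^4 = 1, and j odd
        have hu2 : u * u = c := by
          have : u * (c * u) = c * (u * u) := by rw [← mul_assoc, ← hcu.eq, mul_assoc]
          rw [this] at huu
          calc u * u = c⁻¹ * (c * (u * u)) := by group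
            _ = c := by rw [huu, mul_one, hcinv]
        have hu4 : a ^ (4 * j) = 1 := by
          have : a ^ (4 * j) = (u * u) * (u * u) := by
            rw [← hj, ← pow_add, ← pow_add]; congr 1; omega
          rw [this, hu2, hc2]
        have hjodd : j % 2 = 1 := by
          by_contra hne
          have hje : j % 2 = 0 := by omega
          obtain ⟨i, hi⟩ : ∃ i, j = 2 * i := ⟨j / 2, by omega⟩
          have : c ^ j = 1 := by rw [hi, pow_mul, pow_two, hc2, one_pow]
          rw [h1] at this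
          exact hc1 this
        have hdvd : 2 ^ m ∣ 4 * j := by rw [← ho]; exact orderOf_dvd_of_pow_eq_one hu4
        have hcop : Nat.Coprime (2 ^ m) j := by
          apply Nat.Coprime.pow_left
          rw [Nat.coprime_two_left]
          exact Nat.odd_iff.mpr hjodd
        have h4 : 2 ^ m ∣ 4 := hcop.dvd_of_dvd_mul_right hdvd
        have ha4 : a ^ 4 = 1 := by
          rw [← ho] at h4
          exact orderOf_dvd_iff_pow_eq_one.mp h4
        apply hc1
        rw [hcdef, pow_mul, ha4, one_pow]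
    · rw [Set.mem_singleton_iff] at hx
      rw [hx, hcent p]
      exact Subgroup.subset_closure (by simp)
  · apply Subgroup.isMulCommutative_closure
    intro x hx z hz
    rcases hx with rfl | hx <;> rcases hz with rfl | hz
    · rfl
    · rw [Set.mem_singleton_iff] at hz; rw [hz]; exact hcentc x
    · rw [Set.mem_singleton_iff] at hx; rw [hx]; exact (hcentc z).symm
    · rw [Set.mem_singleton_iff] at hx hz; rw [hx, hz]
  · intro hcyc
    have hyW : y ∈ Subgroup.closure ({y, c} : Set P) := Subgroup.subset_closure (by simp)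
    have hcW : c ∈ Subgroup.closure ({y, c} : Set P) := Subgroup.subset_closure (by simp)
    have := invol_unique_of_cyclic (⟨y, hyW⟩ : Subgroup.closure ({y, c} : Set P)) ⟨c, hcW⟩
      (Subtype.ext hyy) (Subtype.ext hc2) (fun e => hy1 (congrArg Subtype.val e))
      (fun e => hc1 (congrArg Subtype.val e))
    exact hyc (congrArg Subtype.val this)

end cyc

section idx
variable {P : Type*} [Group P] [Finite P] (a : P) [hn : (Subgroup.zpowers a).Normal]

include hn in
theorem index_four (m : ℕ) (hm : 2 ≤ m) (ho : orderOf a = 2 ^ m)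
    (hidx : (Subgroup.zpowers a).index = 2) (g : P) (hb : Bad a g) :
    (commutator P).index = 4 ∧ commutator P ≠ ⊥ := by
  obtain ⟨r, hr, hr4⟩ := hb
  obtain ⟨k, hk⟩ : ∃ k, r = 4 * k + 3 := ⟨r / 4, by omega⟩
  obtain ⟨t, rfl⟩ : ∃ t, m = t + 1 := ⟨m - 1, by omega⟩
  have ht : 1 ≤ t := by omega
  have hNn : (Subgroup.zpowers (a ^ 2)).Normal := by
    refine ⟨fun x hx p => ?_⟩
    obtain ⟨j, rfl⟩ := Subgroup.mem_zpowers_iff.mp hx
    obtain ⟨rp, hrp, -⟩ := exists_exp a (t + 1) (by omega) ho p
    have : p * (a ^ 2) ^ j * p⁻¹ = ((a ^ 2) ^ rp) ^ j := by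
      rw [← conj_zpow, ← conj_pow, hrp, ← pow_mul, ← pow_mul, mul_comm]
    rw [this]
    exact Subgroup.zpow_mem _ (Subgroup.pow_mem _ (Subgroup.mem_zpowers _) _) _
  have ho2 : orderOf (a ^ 2) = 2 ^ t := by
    rw [orderOf_pow' a (by norm_num), ho]
    have : Nat.gcd (2 ^ (t + 1)) 2 = 2 := Nat.gcd_eq_right (dvd_pow_self 2 (by omega))
    rw [this, pow_succ]; simp
  have hcardP : Nat.card P = 2 ^ (t + 1) * 2 := by
    rw [← Subgroup.card_mul_index (Subgroup.zpowers a), Nat.card_zpowers, ho, hidx]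
  have hNidx : (Subgroup.zpowers (a ^ 2)).index = 4 := by
    have h1 := Subgroup.card_mul_index (Subgroup.zpowers (a ^ 2))
    rw [Nat.card_zpowers, ho2, hcardP] at h1
    have h2 : 2 ^ t * (Subgroup.zpowers (a ^ 2)).index = 2 ^ t * 4 := by rw [h1]; ring
    exact Nat.eq_of_mul_eq_mul_left (by positivity) h2
  have hQcomm : IsMulCommutative (P ⧸ Subgroup.zpowers (a ^ 2)) := by
    haveI : Fact (Nat.Prime 2) := ⟨Nat.prime_two⟩
    apply IsPGroup.isMulCommutative_of_card_eq_prime_sq (p := 2)
    rw [← Subgroup.index_eq_card, hNidx]; norm_num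
  have hle : commutator P ≤ Subgroup.zpowers (a ^ 2) :=
    Subgroup.Normal.quotient_commutative_iff_commutator_le.mp hQcomm
  -- the commutator element
  set c := g * a * g⁻¹ * a⁻¹ with hc
  have hcmem : c ∈ commutator P := by
    rw [commutator_def]
    have := Subgroup.commutator_mem_commutator (Subgroup.mem_top g) (Subgroup.mem_top a)
    rwa [commutatorElement_def] at this
  have hcpow : c = (a ^ 2) ^ (2 * k + 1) := by
    rw [hc, hr, hk, ← pow_mul]
    have : 4 * k + 3 = 2 * (2 * k + 1) + 1 := by ring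
    rw [this, pow_succ]; group
  have hco : orderOf c = 2 ^ t := by
    rw [hcpow, orderOf_pow' _ (by omega), ho2]
    have : Nat.gcd (2 ^ t) (2 * k + 1) = 1 := by
      apply Nat.Coprime.pow_left
      rw [Nat.coprime_two_left]
      exact ⟨k, rfl⟩
    rw [this, Nat.div_one]
  have heq : Subgroup.zpowers c = Subgroup.zpowers (a ^ 2) := by
    apply Subgroup.eq_of_le_of_card_ge
    · rw [Subgroup.zpowers_le, hcpow]
      exact Subgroup.pow_mem _ (Subgroup.mem_zpowers _) _
    · rw [Nat.card_zpowers, Nat.card_zpowers, hco, ho2]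
  have hge : Subgroup.zpowers (a ^ 2) ≤ commutator P := by
    rw [← heq, Subgroup.zpowers_le]; exact hcmem
  have hcomm : commutator P = Subgroup.zpowers (a ^ 2) := le_antisymm hle hge
  refine ⟨by rw [hcomm, hNidx], ?_⟩
  intro hbot
  rw [hbot] at hcmem
  have : c = 1 := Subgroup.mem_bot.mp hcmem
  rw [this, orderOf_one] at hco
  have : 2 ≤ 2 ^ t := by
    calc 2 = 2 ^ 1 := by norm_num
      _ ≤ 2 ^ t := Nat.pow_le_pow_right (by norm_num) ht
  omega

end idx


/-- Let P be a finite p-group in which every abelian normal subgroup is cyclic, but which has a non-cyclic abelian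
subgroup. Then p = 2 and P is generalized quaternion, dihedral of order at least 16, or quasi-dihedral. -/
theorem result {P : Type*} [Group P] [Finite P] (p : ℕ) [Fact p.Prime]
    (hP : IsPGroup p P) (hn : ∀ A : Subgroup P, A.Normal → IsMulCommutative A → IsCyclic A)
    (hm : ∃ B : Subgroup P, IsMulCommutative B ∧ ¬ IsCyclic B) :
    p = 2 ∧ ((∃ n : ℕ, Nonempty (P ≃* QuaternionGroup n)) ∨ (∃ n : ℕ, 8 ≤ n ∧ Nonempty (P ≃* DihedralGroup n)) ∨
      Cfsg.IsQuasiDihedral P) := by
  have hp : p.Prime := Fact.out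
  obtain ⟨A, -, hAn, hAc, hAmax⟩ := Cfsg.Agent.Lib.Helper53.exists_max_normal_abelian (⊥ : Subgroup P)
    inferInstance (by
      intro x hx y hy
      rw [Subgroup.mem_bot] at hx hy
      rw [hx, hy])
  haveI := hAn
  have hAC := Cfsg.Agent.Lib.Helper53.centralizer_eq_of_max_normal_abelian hP A hAc hAmax
  have hAcomm : IsMulCommutative A := ⟨⟨fun x y => Subtype.ext (hAc x x.2 y y.2)⟩⟩
  have hAcyc : IsCyclic A := hn A hAn hAcomm
  obtain ⟨B, hBc, hBnc⟩ := hm
  have hAtop : A ≠ ⊤ := by
    intro h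
    have : IsCyclic P := by
      rw [h] at hAcyc
      exact (Subgroup.topEquiv (G := P)).isCyclic.mp hAcyc
    exact hBnc inferInstance
  obtain ⟨a, rfl⟩ := (Subgroup.isCyclic_iff_exists_zpowers_eq_top A).mp hAcyc
  -- order of a
  have hApg : IsPGroup p (Subgroup.zpowers a) := hP.to_subgroup _
  obtain ⟨m, hm⟩ := IsPGroup.iff_card.mp hApg
  rw [Nat.card_zpowers] at hm
  -- a normal subgroup just above A
  obtain ⟨B₁, hB₁n, hAB₁, hrel⟩ := exists_normal_above hP (Subgroup.zpowers a) hAtop
  have hB₁nc : ¬ IsCyclic B₁ := by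
    intro hcyc
    have hcomm : ∀ x ∈ B₁, ∀ y ∈ B₁, x * y = y * x := by
      intro x hx y hy
      have := (IsCyclic.commGroup (α := B₁)).mul_comm ⟨x, hx⟩ ⟨y, hy⟩
      exact congrArg Subtype.val this
    have := hAmax B₁ hB₁n hcomm hAB₁
    rw [this, Subgroup.relIndex_self] at hrel
    exact hp.one_lt.ne hrel
  have hp2 : p = 2 := by
    by_contra hp2
    have hR : IsPGroup p B₁ := hP.to_subgroup _
    have hC : IsCyclic ((Subgroup.zpowers a).subgroupOf B₁) :=
      (Subgroup.subgroupOfEquivOfLe hAB₁).isCyclic.mpr inferInstance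
    obtain ⟨W₀, hW₀, hW₀c⟩ := Cfsg.Agent.Lib.Helper29.exists_omega_card_sq hp2 hR hB₁nc
      ((Subgroup.zpowers a).subgroupOf B₁) hC hrel
    set W := W₀.map B₁.subtype with hW
    have hmemW : ∀ x : P, x ∈ W ↔ x ∈ B₁ ∧ x ^ p = 1 := by
      intro x
      constructor
      · rintro ⟨w, hw, rfl⟩
        refine ⟨w.2, ?_⟩
        have := (hW₀ w).mp hw
        have := congrArg Subtype.val this
        simpa using this
      · rintro ⟨hx, hxp⟩
        refine ⟨⟨x, hx⟩, (hW₀ _).mpr (Subtype.ext ?_), rfl⟩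
        simpa using hxp
    have hWn : W.Normal := by
      refine ⟨fun x hx g => ?_⟩
      rw [hmemW] at hx ⊢
      refine ⟨hB₁n.conj_mem x hx.1 g, ?_⟩
      rw [conj_pow, hx.2]; group
    have hWcard : Nat.card W = p ^ 2 := by
      rw [← hW₀c]
      exact Nat.card_congr (Subgroup.equivMapOfInjective W₀ B₁.subtype B₁.subtype_injective).symm.toEquiv
    have hWcomm : IsMulCommutative W := IsPGroup.isMulCommutative_of_card_eq_prime_sq hWcard
    have hWcyc : IsCyclic W := hn W hWn hWcomm
    obtain ⟨w, hw⟩ := hWcyc.exists_generator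
    have hwo : orderOf w = p ^ 2 := by rw [orderOf_eq_card_of_forall_mem_zpowers hw, hWcard]
    have hwp : w ^ p = 1 := by
      apply Subtype.ext
      have := ((hmemW w).mp w.2).2
      simpa using this
    have := orderOf_dvd_of_pow_eq_one hwp
    rw [hwo] at this
    have := Nat.le_of_dvd hp.pos this
    have : p < p ^ 2 := by nlinarith [hp.two_le]
    omega
  subst hp2
  refine ⟨rfl, ?_⟩
  -- m ≥ 2
  have hm2 : 2 ≤ m := by
    by_contra hlt
    apply hAtop
    rw [← hAC, Subgroup.centralizer_eq_top_iff_subset]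
    -- everything commutes with a
    have ha2 : a ^ 2 = 1 := by
      have : orderOf a ∣ 2 := by
        rw [hm]
        have : m ≤ 1 := by omega
        calc 2 ^ m ∣ 2 ^ 1 := pow_dvd_pow 2 this
          _ = 2 := by norm_num
      exact orderOf_dvd_iff_pow_eq_one.mp this
    intro x hx
    obtain ⟨j, rfl⟩ := Subgroup.mem_zpowers_iff.mp hx
    rw [SetLike.mem_coe, Subgroup.mem_center_iff]
    intro g
    have hga : g * a * g⁻¹ = a := by
      by_cases hm0 : m = 0
      · rw [hm0, pow_zero, orderOf_eq_one_iff] at hm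
        rw [hm]; group
      · obtain ⟨r, hr, hodd⟩ := exists_exp a m (by omega) hm g
        obtain ⟨s, hs⟩ : ∃ s, r = 2 * s + 1 := ⟨r / 2, by omega⟩
        rw [hr, hs, pow_succ, pow_mul, ha2, one_pow, one_mul]
    have hc : Commute g a := by
      show g * a = a * g
      calc g * a = g * a * g⁻¹ * g := by group
        _ = a * g := by rw [hga]
    exact (hc.zpow_right j).eq
  -- index two
  have hidx2 : (Subgroup.zpowers a).index = 2 := by
    by_contra hne
    have key : ∃ h : P, h ∉ Subgroup.zpowers a ∧ h * h ∈ Subgroup.zpowers a ∧ Good a h := by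
      by_cases hex : ∃ x : P, x * x ∉ Subgroup.zpowers a
      · obtain ⟨x, hx⟩ := hex
        obtain ⟨N, hN⟩ := IsPGroup.iff_card.mp hP
        have hfin : ∃ j : ℕ, (x * x) ^ (2 ^ j) ∈ Subgroup.zpowers a := by
          refine ⟨N, ?_⟩
          rw [← hN, pow_card_eq_one']
          exact one_mem _
        classical
        have hj0 : Nat.find hfin ≠ 0 := by
          intro h0
          have := Nat.find_spec hfin
          rw [h0, pow_zero, pow_one] at this
          exact hx this
        obtain ⟨i, hi⟩ : ∃ i, Nat.find hfin = i + 1 := ⟨Nat.find hfin - 1, by omega⟩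
        refine ⟨(x * x) ^ (2 ^ i), ?_, ?_, ?_⟩
        · exact Nat.find_min hfin (by omega)
        · have := Nat.find_spec hfin
          rw [hi, pow_succ, pow_mul, pow_two] at this
          exact this
        · have : (x * x) ^ (2 ^ i) = x ^ (2 ^ i) * x ^ (2 ^ i) := by
            rw [← pow_two, ← pow_mul, mul_comm, pow_mul, pow_two]
          rw [this]
          exact good_sq a m (by omega) hm _
      · push Not at hex
        obtain ⟨g, hg⟩ : ∃ g : P, g ∉ Subgroup.zpowers a := by
          by_contra hno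
          push Not at hno
          exact hAtop (Subgroup.eq_top_iff' _ |>.mpr hno)
        rcases good_or_bad a m (by omega) hm g with hgood | hbad
        · exact ⟨g, hg, hex g, hgood⟩
        · by_cases hall : ∀ g' : P, g' ∈ Subgroup.zpowers a ∨ g' * g ∈ Subgroup.zpowers a
          · exfalso
            apply hne
            rw [Subgroup.index_eq_two_iff]
            refine ⟨g, fun b => ?_⟩
            rcases hall b with h1 | h1
            · refine Or.inr ⟨h1, fun h2 => hg ?_⟩
              have := Subgroup.mul_mem _ (Subgroup.inv_mem _ h1) h2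
              simpa using this
            · by_cases h2 : b ∈ Subgroup.zpowers a
              · exfalso
                apply hg
                have := Subgroup.mul_mem _ (Subgroup.inv_mem _ h2) h1
                simpa using this
              · exact Or.inl ⟨h1, h2⟩
          · push Not at hall
            obtain ⟨g', hg'1, hg'2⟩ := hall
            rcases good_or_bad a m (by omega) hm g' with h1 | h1
            · exact ⟨g', hg'1, hex g', h1⟩
            · exact ⟨g' * g, hg'2, hex _, bad_mul_bad a h1 hbad⟩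
    obtain ⟨h, hh, hh2, hgood⟩ := key
    obtain ⟨W, hWn, hWc, hWnc⟩ := four_group_of_good a m hm2 hm hAC h hh hh2 hgood
    exact hWnc (hn W hWn hWc)
  -- pick g outside A; it is bad
  obtain ⟨g, hg⟩ : ∃ g : P, g ∉ Subgroup.zpowers a := by
    by_contra hno
    push Not at hno
    exact hAtop (Subgroup.eq_top_iff' _ |>.mpr hno)
  have hbad : Bad a g := by
    rcases good_or_bad a m (by omega) hm g with hgood | hbad
    · exfalso
      obtain ⟨W, hWn, hWc, hWnc⟩ := four_group_of_good a m hm2 hm hAC g hg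
        (Subgroup.mul_self_mem_of_index_two hidx2 g) hgood
      exact hWnc (hn W hWn hWc)
    · exact hbad
  obtain ⟨hidx4, hna⟩ := index_four a m hm2 hm hidx2 g hbad
  rcases Cfsg.Agent.Lib.Helper73.taussky hP hidx4 hna with ⟨k, ⟨e⟩⟩ | ⟨k, hcard, x, y, hx, hy, hxy⟩ | ⟨k, ⟨e⟩⟩
  · right; left
    by_cases hk : k = 0
    · exfalso
      subst hk
      have hcard8 : Nat.card P = 8 := by
        rw [Nat.card_congr e.toEquiv, DihedralGroup.nat_card]; norm_num
      -- B has order 4 hence index 2 hence normal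
      haveI : Fact (Nat.Prime 2) := ⟨Nat.prime_two⟩
      have hBp : IsPGroup 2 B := hP.to_subgroup B
      obtain ⟨i, hi⟩ := IsPGroup.iff_card.mp hBp
      have hdvd : Nat.card B ∣ 8 := hcard8 ▸ Subgroup.card_subgroup_dvd_card B
      rw [hi] at hdvd
      have hi3 : i ≤ 3 := by
        by_contra hlt
        have : (2 : ℕ) ^ 4 ∣ 2 ^ i := pow_dvd_pow 2 (by omega)
        have := this.trans hdvd
        norm_num at this
      have hi2 : i = 2 := by
        interval_cases i
        · exfalso
          apply hBnc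
          rw [pow_zero] at hi
          haveI : Subsingleton B := (Nat.card_eq_one_iff_unique.mp hi).1
          infer_instance
        · exfalso
          apply hBnc
          rw [pow_one] at hi
          exact isCyclic_of_prime_card hi
        · rfl
        · exfalso
          -- B = ⊤, P abelian, contradiction with hna
          have hBtop : B = ⊤ := Subgroup.eq_top_of_card_eq B (by rw [hi, hcard8]; norm_num)
          apply hna
          rw [commutator_eq_bot_iff_center_eq_top, Subgroup.eq_top_iff']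
          intro x
          rw [Subgroup.mem_center_iff]
          intro y
          have hx : x ∈ B := hBtop ▸ Subgroup.mem_top x
          have hy : y ∈ B := hBtop ▸ Subgroup.mem_top y
          have := hBc.is_comm.comm ⟨y, hy⟩ ⟨x, hx⟩
          exact congrArg Subtype.val this
      have hBidx : B.index = 2 := by
        have := Subgroup.card_mul_index B
        rw [hi, hi2, hcard8] at this
        omega
      have hBn : B.Normal := Subgroup.normal_of_index_eq_two hBidx
      exact hBnc (hn B hBn hBc)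
    · refine ⟨2 ^ (k + 2), ?_, ⟨e⟩⟩
      have : 2 ^ 3 ≤ 2 ^ (k + 2) := Nat.pow_le_pow_right (by norm_num) (by omega)
      simpa using this
  · right; right
    refine ⟨k + 3, by omega, ?_, x, y, ?_, hy, ?_⟩
    · rw [hcard]
    · rw [hx]
    · rw [hxy]; rfl
  · left
    exact ⟨2 ^ (k + 1), ⟨e⟩⟩

end Cfsg.Agent.S0519
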