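import Cfsg.Statements.S1399
import Cfsg.Agent.S1398
import Cfsg.Agent.Lib.Helper64.BG9

set_option autoImplicit false
open Cfsg

namespace Cfsg.Agent.S1399

/-- BG Theorem 9.1(a) (statement S1398) in the form used by `Lib/Helper64/BG9`. -/
theorem crit91 {G : Type*} [Group G] [Finite G] (hG : Cfsg.IsMinSimpleOddOrder G) :
    Cfsg.Agent.Lib.Helper64.BG9.Crit91 G := by
  intro M hM p _ B hBM hBe hBnc h
  exact Cfsg.Agent.S1398.result hG M hM p B hBM hBe hBnc (Or.inl h)

/-- Let G be a minimal simple group of odd order, L a subgroup contained in exactly one maximal subgroup of G, and K a subgroup of C_G(L) having, for some prime p, an elementary abelian subgroup of order p ^ 2. Then K is contained in exactly one maximal subgroup of G. -/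
theorem result {G : Type*} [Group G] [Finite G] (hG : Cfsg.IsMinSimpleOddOrder G)
    (L K : Subgroup G) (hL : Cfsg.InUniqueMaximal L) (hK : K ≤ Subgroup.centralizer (L : Set G)) (hKr : ¬ Cfsg.RankLE 1 K) :
    Cfsg.InUniqueMaximal K :=
  Cfsg.Agent.Lib.Helper64.BG9.bg92 hG (crit91 hG) L K hL hK hKr

end Cfsg.Agent.S1399
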