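import Cfsg.Statements.S1395
import Cfsg.Agent.Lib.Helper23.TransOver

set_option autoImplicit false
open Cfsg

namespace Cfsg.Agent.S1395

/-- Let G be a minimal simple group of odd order, A a subgroup satisfying the transitivity hypothesis with K = O_{π(A)'}(C_G(A)), q a prime not dividing the order of A, and P a proper subgroup all of whose prime divisors divide the order of A, containing A as a subnormal subgroup, such that any two maximal A-invariant q-subgroups are conjugate under K. Then (a) K ∩ C_G(P) = O_{π(A)'}(C_G(P)); (b) any two maximal P-invariant q-subgroups are conjugate under O_{π(A)'}(C_G(P)); (c) every maximal P-invariant q-subgroup is a maximal A-invariant q-subgroup; (d) for every maximal P-invariant q-subgroup Q, P ∩ N_G(P)' ≤ N_G(Q)' and N_G(P) is generated by O_{π(A)'}(C_G(P)) and N_G(P) ∩ N_G(Q). -/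
theorem result {G : Type*} [Group G] [Finite G] (hG : Cfsg.IsMinSimpleOddOrder G)
    (A : Subgroup G) (hA : Cfsg.TransitivityHypothesis A) (q : ℕ) (hq : q.Prime) (hqA : ¬ q ∣ Nat.card A)
    (P : Subgroup G) (hP : P ≠ ⊤) (hPπ : (∀ r : ℕ, r.Prime → r ∣ Nat.card P → r ∣ Nat.card A)) (hAP : A ≤ P) (hsn : (A.subgroupOf P).IsSubnormal)
    (htr : ∀ Q₁ ∈ Cfsg.maxInvSubgroups ⊤ A {q}, ∀ Q₂ ∈ Cfsg.maxInvSubgroups ⊤ A {q}, ∃ k ∈ Cfsg.piCoreOf (Cfsg.primesNotDvd (Nat.card A)) (Subgroup.centralizer (A : Set G)), Q₂ = Q₁.map (MulAut.conj k).toMonoidHom) :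
    Cfsg.piCoreOf (Cfsg.primesNotDvd (Nat.card A)) (Subgroup.centralizer (A : Set G)) ⊓ Subgroup.centralizer (P : Set G) = Cfsg.piCoreOf (Cfsg.primesNotDvd (Nat.card A)) (Subgroup.centralizer (P : Set G)) ∧
      (∀ Q₁ ∈ Cfsg.maxInvSubgroups ⊤ P {q}, ∀ Q₂ ∈ Cfsg.maxInvSubgroups ⊤ P {q}, ∃ k ∈ Cfsg.piCoreOf (Cfsg.primesNotDvd (Nat.card A)) (Subgroup.centralizer (P : Set G)), Q₂ = Q₁.map (MulAut.conj k).toMonoidHom) ∧
      Cfsg.maxInvSubgroups ⊤ P {q} ⊆ Cfsg.maxInvSubgroups ⊤ A {q} ∧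
      ∀ Q ∈ Cfsg.maxInvSubgroups ⊤ P {q},
        P ⊓ ⁅Subgroup.normalizer (P : Set G), Subgroup.normalizer (P : Set G)⁆ ≤ ⁅Subgroup.normalizer (Q : Set G), Subgroup.normalizer (Q : Set G)⁆ ∧
        Subgroup.normalizer (P : Set G) = Cfsg.piCoreOf (Cfsg.primesNotDvd (Nat.card A)) (Subgroup.centralizer (P : Set G)) ⊔ (Subgroup.normalizer (P : Set G) ⊓ Subgroup.normalizer (Q : Set G)) := by
  have hOA : Cfsg.Agent.Lib.Helper23.OverTrans A A q := ⟨htr, fun _ h => h⟩
  have hOP := Cfsg.Agent.Lib.Helper23.OverTrans.of_isSubnormal hG hA hq hqA hP hPπ hAP hsn hOA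
  refine ⟨Cfsg.Agent.Lib.Helper23.piCoreOf_centralizer_inf_eq hG hA hAP, hOP.1, hOP.2, ?_⟩
  intro Q hQ
  have hKPN : Cfsg.piCoreOf (Cfsg.primesNotDvd (Nat.card A)) (Subgroup.centralizer (P : Set G)) ≤
      Subgroup.normalizer (P : Set G) :=
    (Cfsg.Agent.Lib.Helper32.piCoreOf_le _ _).trans (Subgroup.centralizer_le_normalizer _)
  have heq := Cfsg.Agent.Lib.Helper23.normalizer_eq_sup_of_trans (Q := Q) hKPN
    (fun g hg => hOP.1 Q hQ _
      (Cfsg.Agent.Lib.Helper23.cj_mem_maxInv_of_mem_normalizer hg hQ))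
  refine ⟨?_, heq⟩
  have hNK : Subgroup.normalizer (P : Set G) ≤ Subgroup.normalizer
      ((Cfsg.piCoreOf (Cfsg.primesNotDvd (Nat.card A)) (Subgroup.centralizer (P : Set G)) :
        Subgroup G) : Set G) :=
    (Cfsg.Agent.Lib.Helper23.le_normalizer_centralizer' le_rfl).trans
      (Cfsg.Agent.Lib.Helper23.normalizer_le_normalizer_piCoreOf _ _)
  have hcop := Cfsg.Agent.Lib.Helper23.coprime_of_dvd_of_isPi hPπ
    (Cfsg.Agent.Lib.Helper32.isPi_piCoreOf (Cfsg.primesNotDvd (Nat.card A))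
      (Subgroup.centralizer (P : Set G)))
  have h1 := Cfsg.Agent.Lib.Helper23.inf_commutator_le_of_eq_sup
    (P := P) (N := Subgroup.normalizer (P : Set G))
    (N₁ := Subgroup.normalizer (P : Set G) ⊓ Subgroup.normalizer (Q : Set G))
    (le_inf Subgroup.le_normalizer hQ.1.2.2) inf_le_left hNK heq hcop
  exact h1.trans (Subgroup.commutator_mono inf_le_right inf_le_right)

end Cfsg.Agent.S1395
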