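import Cfsg.Statements.S2839
import Cfsg.Agent.Lib.Helper47.WC2

set_option autoImplicit false
open Cfsg
open Cfsg.Agent.Lib.Helper47

namespace Cfsg.Agent.S2839

/-- Let Q be a nontrivial p-subgroup of the finite group H that is a weakly closed subgroup, K a subgroup containing Q and N a normal subgroup of H. Then Q is a weakly closed subgroup of K; every H-conjugate of Q contained in K is a K-conjugate of Q; N_K(Q) contains a Sylow p-subgroup of K; N = N_N(Q)·O^p(N); and QN/N is a weakly closed subgroup of H/N. -/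
theorem result {H : Type*} [Group H] [Finite H] {p : ℕ} [Fact p.Prime] (Q : Subgroup H) (hQp : IsPGroup p ↥Q) (hQ1 : Q ≠ ⊥) (hwc : Cfsg.IsWeaklyClosedSubgroup p Q) (K : Subgroup H) (hQK : Q ≤ K) (N' : Subgroup H) [N'.Normal] : Cfsg.IsWeaklyClosedSubgroup p (Q.subgroupOf K) ∧ (∀ g : H, ((Q : Subgroup H).map (MulAut.conj (g : H)).toMonoidHom) ≤ K → ∃ k ∈ K, ((Q : Subgroup H).map (MulAut.conj (g : H)).toMonoidHom) = ((Q : Subgroup H).map (MulAut.conj (k : H)).toMonoidHom)) ∧ Cfsg.IsParabolic p ((Subgroup.normalizer ((Q : Subgroup H) : Set H)).subgroupOf K) ∧ (N' ⊓ Subgroup.normalizer ((Q : Subgroup H) : Set H)) ⊔ (Cfsg.pResidual p ↥N').map N'.subtype = N' ∧ Cfsg.IsWeaklyClosedSubgroup p (Q.map (QuotientGroup.mk' N')) := by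
  classical
  obtain ⟨T, hwcT⟩ := hwc
  -- Sylow subgroup of K containing Q
  obtain ⟨S, hQS⟩ := exists_sylow_in_ge hQp hQK
  set TK : Subgroup H := (S : Subgroup ↥K).map K.subtype with hTK
  have hTKp : IsPGroup p ↥TK := isPGroup_sylow_map_subtype S
  have hTKK : TK ≤ K := by
    rw [hTK]; exact Subgroup.map_subtype_le _
  have hTKN : TK ≤ Subgroup.normalizer (Q : Set H) :=
    Subgroup.le_normalizer.trans (wc_normalizer_le hwcT hTKp hQS)
  have hSmem : ∀ x : ↥K, (x : H) ∈ TK → x ∈ (S : Subgroup ↥K) := by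
    intro x hx
    obtain ⟨y, hy, hyx⟩ := hx
    have : y = x := Subtype.ext hyx
    rwa [← this]
  refine ⟨?_, ?_, ?_, ?_, ?_⟩
  · -- (1)
    refine ⟨S, ?_, ?_⟩
    · intro x hx
      exact hSmem x (hQS (Subgroup.mem_subgroupOf.mp hx))
    · intro k hk
      rw [subgroupOf_map_conj] at hk ⊢
      have h1 : Q.map (MulAut.conj (k : H)).toMonoidHom ≤ K := by
        intro y hy
        rw [mem_map_conj] at hy
        have h1 : y = (k : H) * ((k : H)⁻¹ * y * (k : H)) * (k : H)⁻¹ := by group
        rw [h1]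
        exact K.mul_mem (K.mul_mem k.2 (hQK hy)) (K.inv_mem k.2)
      have h2 : Q.map (MulAut.conj (k : H)).toMonoidHom ≤ TK :=
        le_map_subtype_of_subgroupOf_le h1 hk
      rw [wc_unique_in_pgroup hwcT hTKp hQS h2]
  · -- (2)
    intro g hg
    obtain ⟨x, hxK, hx⟩ := exists_conj_le_sylow_in K S (isPGroup_map_conj hQp g) hg
    rw [map_conj_map_conj] at hx
    have h1 := wc_unique_in_pgroup hwcT hTKp hQS hx
    refine ⟨x⁻¹, K.inv_mem hxK, ?_⟩
    rw [← map_conj_map_conj] at h1
    have h2 := congrArg (fun S => S.map (MulAut.conj x⁻¹).toMonoidHom) h1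
    simp only [map_conj_inv_map_conj] at h2
    exact h2
  · -- (3)
    refine ⟨S, ?_⟩
    intro x hx
    rw [Subgroup.mem_subgroupOf]
    exact hTKN ⟨x, hx, rfl⟩
  · -- (4)
    apply le_antisymm
    · apply sup_le inf_le_left
      exact Subgroup.map_subtype_le _
    · intro n hn
      set Y : Subgroup H := Q ⊔ N' with hY
      have hQY : Q ≤ Y := le_sup_left
      have hNY : N' ≤ Y := le_sup_right
      obtain ⟨SY, hQSY⟩ := exists_sylow_in_ge hQp hQY
      have hTYp : IsPGroup p ↥((SY : Subgroup ↥Y).map Y.subtype) := isPGroup_sylow_map_subtype SY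
      have hTYN : (SY : Subgroup ↥Y).map Y.subtype ≤ Subgroup.normalizer (Q : Set H) :=
        Subgroup.le_normalizer.trans (wc_normalizer_le hwcT hTYp hQSY)
      have hsup := pResidual_sup_sylow SY
      have := pResidual_normal p ↥Y
      have hmem : (⟨n, hNY hn⟩ : ↥Y) ∈ pResidual p ↥Y ⊔ (SY : Subgroup ↥Y) := by
        rw [hsup]; exact Subgroup.mem_top _
      have hmem' : (⟨n, hNY hn⟩ : ↥Y) ∈ ((pResidual p ↥Y ⊔ (SY : Subgroup ↥Y) : Subgroup ↥Y) : Set ↥Y) :=
        hmem
      rw [Subgroup.normal_mul] at hmem'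
      obtain ⟨r, hr, t, ht, hrt⟩ := hmem'
      -- r lies in O^p(N')
      have hres : pResidual p ↥Y ≤ ((pResidual p ↥N').map N'.subtype).comap Y.subtype := by
        unfold pResidual
        rw [Subgroup.closure_le]
        intro g hg
        have hg' : Nat.Coprime (orderOf (g : H)) p := by
          rw [Subgroup.orderOf_coe]; exact hg
        have hgN : (g : H) ∈ N' := mem_of_mem_sup_of_coprime Q N' hQp g.2 hg'
        refine ⟨⟨(g : H), hgN⟩, Subgroup.subset_closure ?_, rfl⟩
        show Nat.Coprime (orderOf (⟨(g : H), hgN⟩ : ↥N')) p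
        rw [← Subgroup.orderOf_coe]
        exact hg'
      have hr' : (r : H) ∈ (pResidual p ↥N').map N'.subtype := hres hr
      have hrN : (r : H) ∈ N' := Subgroup.map_subtype_le _ hr'
      have ht' : (t : H) ∈ Subgroup.normalizer (Q : Set H) := hTYN ⟨t, ht, rfl⟩
      have hnrt : n = (r : H) * (t : H) := by
        have := congrArg (fun y : ↥Y => (y : H)) hrt
        simpa using this.symm
      have htN : (t : H) ∈ N' := by
        have : (t : H) = (r : H)⁻¹ * n := by rw [hnrt]; group
        rw [this]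
        exact N'.mul_mem (N'.inv_mem hrN) hn
      rw [hnrt]
      rw [sup_comm]
      exact Subgroup.mul_mem_sup hr' ⟨htN, ht'⟩
  · -- (5)
    have hsurj : Function.Surjective (QuotientGroup.mk' N') := QuotientGroup.mk'_surjective _
    have hTN : (T : Subgroup H) ≤ Subgroup.normalizer (Q : Set H) :=
      Subgroup.le_normalizer.trans (wc_normalizer_le hwcT T.isPGroup' hwcT.1)
    refine ⟨T.mapSurjective hsurj, ?_, ?_⟩
    · rw [Sylow.coe_mapSurjective]
      exact Subgroup.map_mono hwcT.1
    · intro gbar hgbar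
      obtain ⟨g, rfl⟩ := hsurj gbar
      rw [Sylow.coe_mapSurjective] at hgbar
      rw [← map_hom_map_conj] at hgbar ⊢
      -- Q^g ≤ T N'
      set X : Subgroup H := (T : Subgroup H) ⊔ N' with hX
      have hQgX : Q.map (MulAut.conj g).toMonoidHom ≤ X := by
        have h1 := Subgroup.comap_mono (f := QuotientGroup.mk' N') hgbar
        rw [Subgroup.comap_map_eq, Subgroup.comap_map_eq, QuotientGroup.ker_mk'] at h1
        exact le_sup_left.trans h1
      have hTX : (T : Subgroup H) ≤ X := le_sup_left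
      obtain ⟨x, hxX, hx⟩ := exists_conj_le_sylow_in X (T.subtype hTX) (isPGroup_map_conj hQp g) hQgX
      have hmapT : ((T.subtype hTX : Sylow p ↥X) : Subgroup ↥X).map X.subtype = (T : Subgroup H) := by
        rw [Sylow.coe_subtype]
        exact Subgroup.map_subgroupOf_eq_of_le hTX
      rw [hmapT, map_conj_map_conj] at hx
      have h1 := hwcT.2 _ hx
      rw [← map_conj_map_conj] at h1
      have h2 : Q.map (MulAut.conj g).toMonoidHom = Q.map (MulAut.conj x⁻¹).toMonoidHom := by
        have h2 := congrArg (fun S => S.map (MulAut.conj x⁻¹).toMonoidHom) h1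
        simp only [map_conj_inv_map_conj] at h2
        exact h2
      rw [h2]
      -- x⁻¹ = t * n
      have hxinv : x⁻¹ ∈ ((T : Subgroup H) ⊔ N' : Subgroup H) := X.inv_mem hxX
      have hxinv' : x⁻¹ ∈ (((T : Subgroup H) ⊔ N' : Subgroup H) : Set H) := hxinv
      rw [Subgroup.mul_normal] at hxinv'
      obtain ⟨t, ht, n, hn, htn⟩ := hxinv'
      have h4 : (QuotientGroup.mk' N') x⁻¹ = (QuotientGroup.mk' N') t := by
        have : (QuotientGroup.mk' N') n = 1 := by
          rw [QuotientGroup.mk'_apply, QuotientGroup.eq_one_iff]; exact hn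
        rw [← htn]
        show (QuotientGroup.mk' N') (t * n) = _
        rw [map_mul, this, mul_one]
      rw [map_hom_map_conj, h4, ← map_hom_map_conj, map_conj_eq_iff_mem_normalizer.mpr (hTN ht)]

end Cfsg.Agent.S2839
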