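-- Statement S1402 (BG Lemma 9.5).  Assembled by helper32 from the team's BG 9.5 libraries:
-- helper64 (exists_E, bg95_of_hub, sig_le, same_prime, centralizer_le_of_uniq), helper50 (linking),
-- helper56 (hub_unique_of, U'), helper23 (no_hub), helper47 (inv_pSubgroup_le),
-- helper32 (Lemma Z, hub_sig, K ≤ H, final assembly `bg95_of_E`).
import Cfsg.Statements.S1402
import Cfsg.Agent.Lib.Helper32.BG95Main
import Cfsg.Agent.Lib.Helper64.BG95E

set_option autoImplicit false
open Cfsg

namespace Cfsg.Agent.S1402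

/-- Let G be a minimal simple group of odd order, p a prime, P a Sylow p-subgroup of G and A a normal subgroup of P with C_P(A) = A containing an elementary abelian subgroup of order p ^ 3. Then A lies in exactly one maximal subgroup of G. -/
theorem result {G : Type*} [Group G] [Finite G] (hG : Cfsg.IsMinSimpleOddOrder G)
    (p : ℕ) [Fact p.Prime] (P : Sylow p G) (A : Subgroup G) (hA : Cfsg.IsSCN (P : Subgroup G) A) (hA3 : ¬ Cfsg.PRankLE p 2 ↥A) :
    Cfsg.InUniqueMaximal A := by
  apply Cfsg.Agent.Lib.Helper32.BG95.bg95_of_E hG P hA hA3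
  intro H hH _ t ht _ hHt
  haveI := Fact.mk ht
  obtain ⟨E, h1, h2, h3, h4, h5, h6⟩ := Cfsg.Agent.Lib.Helper64.exists_E hG hH hHt
  exact ⟨E, h1.trans (Cfsg.Agent.Lib.Helper23.pCoreOf_le t _), h2, h3, h4, h5,
    fun U hU hnc => (h6 U hU hnc).2⟩

end Cfsg.Agent.S1402
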