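import Cfsg.Statements.S1451
import Cfsg.Agent.Lib.Helper32.SylowTowerB
import Cfsg.Agent.Lib.Helper32.SylowTowerC
import Cfsg.Agent.Lib.Helper22.FStar

set_option autoImplicit false
set_option linter.style.haveILetI false
open Cfsg

namespace Cfsg.Agent.S1451

open Cfsg.Agent.Lib.Helper32 Cfsg.Agent.Lib.Helper32.FitDer

/-- Let G be a solvable group of odd order such that G, or its Fitting subgroup, has no elementary abelian subgroup of order q ^ 3 for any prime q. Then G' is nilpotent; for every Sylow subgroup S of G, every characteristic subgroup T of S with T ≤ [S, S] is normal in G; and for every prime p, G has a characteristic subgroup that is a Hall subgroup for the set of primes greater than p. -/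
theorem result {G : Type*} [Group G] [Finite G] [Group.IsSolvable G] (hodd : Odd (Nat.card G)) (hr : Cfsg.RankLE 2 G ∨ Cfsg.RankLE 2 (Cfsg.fittingSubgroup G)) :
    Group.IsNilpotent ↥(commutator G) ∧
      (∀ (q : ℕ) [Fact q.Prime] (S : Sylow q G) (T : Subgroup ↥(S : Subgroup G)), T.Characteristic → T.map (S : Subgroup G).subtype ≤ ⁅(S : Subgroup G), (S : Subgroup G)⁆ →
        (T.map (S : Subgroup G).subtype).Normal) ∧
      ∀ p : ℕ, ∃ N : Subgroup G, N.Characteristic ∧ Cfsg.IsPiHall {q | q.Prime ∧ p < q} N := by
  have hR : ∀ r : ℕ, r.Prime → PRankLE r 2 ↥(pCore r G) := by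
    intro r hrp
    haveI : Fact r.Prime := ⟨hrp⟩
    rcases hr with h | h
    · exact Rank2.pRankLE_of_injective (pCore r G).subtype (Subgroup.subtype_injective _) (h r hrp)
    · exact Rank2.pRankLE_of_injective
        (Subgroup.inclusion (Cfsg.Agent.Lib.Helper54.pCore_le_fittingSubgroup r))
        (Subgroup.inclusion_injective _) (h r hrp)
  have hDF : commutator G ≤ fittingSubgroup G :=
    le_fitting_of_forall_pow_mem_centralizer (commutator G)
      (fun q hq => exists_pow_mem_centralizer_pCore hodd hR q hq)
  have hcentr : ∀ r q : ℕ, r.Prime → q.Prime → r < q → ∀ (x : G) (k : ℕ), x ^ (q ^ k) = 1 →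
      x ∈ Subgroup.centralizer (pCore r G : Set G) :=
    fun r q hrp hq hrq x k hx => mem_centralizer_pCore_of_lt hodd hrp hq hrq (hR r hrp) hx
  refine ⟨?_, ?_, ?_⟩
  · exact Cfsg.Agent.Lib.Helper22.isNilpotent_of_injective' (Subgroup.inclusion hDF)
      (Subgroup.inclusion_injective _) Cfsg.Agent.Lib.Helper22.fittingSubgroup_isNilpotent
  · intro q _ S T hT hle
    haveI := hT
    exact normal_of_le_commutator_sylow hDF q S _ hle
      (Cfsg.Agent.Lib.Helper24.normalizer_le_normalizer_map_of_characteristic (S : Subgroup G) T)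
  · intro p
    exact exists_characteristic_hall hDF hcentr p

end Cfsg.Agent.S1451
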