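import Cfsg.Statements.S1459
import Cfsg.Agent.Lib.Helper24.AbelianQuot
import Cfsg.Agent.Lib.Helper24.InvCompl
import Cfsg.Agent.Lib.Helper24.Omega1
import Cfsg.Agent.Lib.Helper55.Cores
import Cfsg.Agent.Lib.Helper55.SolvCore

set_option autoImplicit false
open Cfsg

namespace Cfsg.Agent.S1459

open Subgroup
open scoped commutatorElement

/-- a perfect subgroup of a solvable group is trivial -/
theorem eq_bot_of_le_commutator_self {G : Type*} [Group G] [hs : Group.IsSolvable G] (S : Subgroup G)
    (h : S ≤ ⁅S, S⁆) : S = ⊥ := by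
  obtain ⟨n, hn⟩ := hs.solvable
  have key : ∀ k, S ≤ derivedSeries G k := by
    intro k
    induction k with
    | zero => exact le_top
    | succ k ih => exact h.trans (commutator_mono ih ih)
  rw [eq_bot_iff, ← hn]
  exact key n

theorem commutatorElement_central_mul {G : Type*} [Group G] (a a' b b' : G) (ha : a ∈ center G)
    (ha' : a' ∈ center G) : ⁅a * b, a' * b'⁆ = ⁅b, b'⁆ := by
  have h1 : ∀ g, a * g = g * a := fun g => ((mem_center_iff.mp ha) g).symm
  have h2 : ∀ g, a' * g = g * a' := fun g => ((mem_center_iff.mp ha') g).symm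
  have c1 : ∀ g : G, ⁅a, g⁆ = 1 := fun g => (show Commute a g from h1 g).commutator_eq
  have c2 : ∀ g : G, ⁅g, a'⁆ = 1 := fun g => (show Commute g a' from (h2 g).symm).commutator_eq
  rw [commutatorElement_mul_left_eq_conj_mul, c1, mul_one, h1, mul_inv_cancel_right,
    commutatorElement_mul_right_eq_mul_conj, c2, one_mul, h2, mul_inv_cancel_right]

open Cfsg.Agent.Lib.Helper24 in
theorem part_a1 {G : Type*} [Group G] [Finite G] [Group.IsSolvable G] (H K : Subgroup G)
    [hHn : H.Normal] (hcop : (Nat.card H).Coprime H.index) (hc : IsComplement' H K)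
    (hHG : H ≤ commutator G) : H = ⁅H, K⁆ := by
  have hsup : H ⊔ K = ⊤ := hc.sup_eq_top
  have hKcard : H.index = Nat.card K := hc.symm.index_eq_card
  have hKH : K ≤ normalizer (H : Set G) := by
    rw [normalizer_eq_top_iff.mpr hHn]; exact le_top
  -- Step 1
  have step1 : H ≤ ⁅H, (⊤ : Subgroup G)⁆ := by
    set N₂ := ⁅H, (⊤ : Subgroup G)⁆ with hN₂
    set π := QuotientGroup.mk' N₂ with hπ
    have hsurj : Function.Surjective π := QuotientGroup.mk'_surjective _
    set A₂ := H.map π with hA₂def
    set B₂ := K.map π with hB₂def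
    have hA₂ : A₂ ≤ center (G ⧸ N₂) := by
      rw [← commutator_top_right_eq_bot_iff_le_center, ← Subgroup.map_top_of_surjective π hsurj,
        ← map_commutator, ← hN₂]
      exact QuotientGroup.map_mk'_self N₂
    have hsup₂ : A₂ ⊔ B₂ = ⊤ := by
      rw [← Subgroup.map_sup, hsup, Subgroup.map_top_of_surjective π hsurj]
    have hcomm : commutator (G ⧸ N₂) ≤ B₂ := by
      rw [commutator_def, commutator_le]
      intro g₁ _ g₂ _
      have hg₁ : g₁ ∈ A₂ ⊔ B₂ := by rw [hsup₂]; trivial
      have hg₂ : g₂ ∈ A₂ ⊔ B₂ := by rw [hsup₂]; trivial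
      have hAB : A₂ ≤ normalizer (B₂ : Set (G ⧸ N₂)) :=
        hA₂.trans ((center_le_centralizer _).trans (centralizer_le_normalizer _))
      obtain ⟨a, ha, b, hb, rfl⟩ := exists_mul_of_mem_sup_of_le_normalizer A₂ B₂ hAB g₁ hg₁
      obtain ⟨a', ha', b', hb', rfl⟩ := exists_mul_of_mem_sup_of_le_normalizer A₂ B₂ hAB g₂ hg₂
      rw [commutatorElement_central_mul a a' b b' (hA₂ ha) (hA₂ ha'), commutatorElement_def]
      exact B₂.mul_mem (B₂.mul_mem (B₂.mul_mem hb hb') (B₂.inv_mem hb)) (B₂.inv_mem hb')
    have hAcomm : A₂ ≤ commutator (G ⧸ N₂) := by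
      have h1 : H.map π ≤ (commutator G).map π := map_mono hHG
      rw [commutator_def, map_commutator, map_top_of_surjective π hsurj] at h1
      rw [commutator_def]
      exact h1
    have hdisj : A₂ ⊓ B₂ = ⊥ := by
      apply (Subgroup.disjoint_of_coprime_natCard _).eq_bot
      have h1 : Nat.card A₂ ∣ Nat.card H := card_map_dvd _ π
      have h2 : Nat.card B₂ ∣ Nat.card K := card_map_dvd _ π
      rw [hKcard] at hcop
      exact Nat.Coprime.coprime_dvd_left h1 (Nat.Coprime.coprime_dvd_right h2 hcop)
    have hA₂bot : A₂ = ⊥ := by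
      rw [eq_bot_iff, ← hdisj]
      exact le_inf le_rfl (hAcomm.trans hcomm)
    rw [hA₂def, Subgroup.map_eq_bot_iff, QuotientGroup.ker_mk'] at hA₂bot
    exact hA₂bot
  -- Step 2
  set N := ⁅H, K⁆ with hN
  have hNH : N ≤ H := commutator_le_left H K
  have hNn : N.Normal := by
    rw [← normalizer_eq_top_iff, eq_top_iff, ← hsup]
    exact sup_le (normalizer_commutator_ge_left H K) (normalizer_commutator_ge_right H K)
  have hHH : (⁅H, H⁆ : Subgroup G).Normal := inferInstance
  have step2 : H ≤ ⁅H, H⁆ ⊔ N := by
    refine step1.trans ?_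
    rw [commutator_le]
    intro h hh g _
    have hg : g ∈ K ⊔ H := by rw [sup_comm, hsup]; trivial
    obtain ⟨k, hk, h', hh', rfl⟩ := exists_mul_of_mem_sup_of_le_normalizer K H hKH g hg
    rw [commutatorElement_mul_right_eq_mul_conj]
    have h1 : ⁅h, k⁆ ∈ N := commutator_mem_commutator hh hk
    have h2 : k * ⁅h, h'⁆ * k⁻¹ ∈ ⁅H, H⁆ :=
      hHH.conj_mem _ (commutator_mem_commutator hh hh') k
    have e : ⁅h, k⁆ * k * ⁅h, h'⁆ * k⁻¹ = ⁅h, k⁆ * (k * ⁅h, h'⁆ * k⁻¹) := by group
    rw [e]
    exact (⁅H, H⁆ ⊔ N).mul_mem (le_sup_right (a := ⁅H, H⁆) h1) (le_sup_left (b := N) h2)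
  set π := QuotientGroup.mk' N with hπ
  have hperf : H.map π ≤ ⁅H.map π, H.map π⁆ := by
    have h1 := map_mono (f := π) step2
    rw [Subgroup.map_sup, map_commutator, QuotientGroup.map_mk'_self, sup_bot_eq] at h1
    exact h1
  have hbot := eq_bot_of_le_commutator_self _ hperf
  rw [Subgroup.map_eq_bot_iff, QuotientGroup.ker_mk'] at hbot
  exact le_antisymm hbot hNH

open Cfsg.Agent.Lib.Helper24 Cfsg.Agent.Lib.Helper55 in
theorem part_b1 {G : Type*} [Group G] [Finite G] (hnil : Group.IsNilpotent ↥(commutator G))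
    {p : ℕ} (hp : p.Prime) (hidx : (commutator G).index = p) :
    (Nat.card ↥(commutator G)).Coprime p := by
  haveI : Fact p.Prime := ⟨hp⟩
  set D := commutator G with hD
  haveI hOn : (Cfsg.pPrimeCore p G).Normal := pPrimeCore_normal' p
  set O := Cfsg.pPrimeCore p G with hO
  set π := QuotientGroup.mk' O with hπ
  have hsurj : Function.Surjective π := QuotientGroup.mk'_surjective _
  have hDbar : D.map π = commutator (G ⧸ O) := by
    rw [hD, commutator_def, commutator_def, map_commutator, map_top_of_surjective π hsurj]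
  haveI : (D.map π).Normal := by rw [hDbar]; infer_instance
  haveI : Group.IsNilpotent ↥(D.map π) :=
    nilpotent_of_surjective (π.subgroupMap D) (π.subgroupMap_surjective D)
  have hDp : IsPGroup p ↥(D.map π) :=
    isPGroup_of_normal_nilpotent p (pPrimeCore_quotient_eq_bot p) (D.map π)
  have hidx' : (D.map π).index ∣ p := hidx ▸ index_map_dvd D hsurj
  have hGp : IsPGroup p (G ⧸ O) := by
    obtain ⟨k, hk⟩ := (IsPGroup.iff_card).mp hDp
    have hcard : Nat.card (G ⧸ O) = Nat.card ↥(D.map π) * (D.map π).index :=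
      (card_mul_index _).symm
    rcases (Nat.dvd_prime hp).mp hidx' with h1 | h1
    · exact IsPGroup.of_card (n := k) (by rw [hcard, h1, mul_one, hk])
    · exact IsPGroup.of_card (n := k + 1) (by rw [hcard, h1, hk, pow_succ])
  have hab : commutator (G ⧸ O) = ⊥ := by
    obtain ⟨x, hx⟩ : ∃ x : G ⧸ O, closure {x} ⊔ commutator (G ⧸ O) = ⊤ := by
      rw [← hDbar]
      by_cases htop : D.map π = ⊤
      · exact ⟨1, by rw [htop, sup_top_eq]⟩
      · obtain ⟨x, hx⟩ : ∃ x, x ∉ D.map π := by
          by_contra h
          push Not at h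
          exact htop (eq_top_iff.mpr fun y _ => h y)
        refine ⟨x, ?_⟩
        set M := closure {x} ⊔ D.map π with hM
        have hle : D.map π ≤ M := le_sup_right
        have hMi : M.index ∣ (D.map π).index := index_dvd_of_le hle
        rcases (Nat.dvd_prime hp).mp (hMi.trans hidx') with h1 | h1
        · exact index_eq_one.mp h1
        · exfalso
          have h2 : (D.map π).index = p := by
            rcases (Nat.dvd_prime hp).mp hidx' with h | h
            · exact absurd (index_eq_one.mp h) htop
            · exact h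
          have h3 := card_mul_index M
          have h4 := card_mul_index (D.map π)
          rw [h1] at h3
          rw [h2, ← h3] at h4
          have h5 : Nat.card ↥(D.map π) = Nat.card ↥M := Nat.eq_of_mul_eq_mul_right hp.pos h4
          have h6 : D.map π = M := eq_of_le_of_card_ge hle (le_of_eq h5.symm)
          apply hx
          rw [h6]
          exact le_sup_left (b := D.map π) (subset_closure (Set.mem_singleton x))
    have h1 : closure {x} ⊔ frattini (G ⧸ O) = ⊤ := by
      rw [eq_top_iff, ← hx]
      exact sup_le_sup_left (commutator_le_frattini_of_isPGroup hGp) _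
    have h2 : closure {x} = ⊤ := frattini_nongenerating h1
    rw [← zpowers_eq_closure] at h2
    rw [eq_bot_iff, commutator_def, commutator_le]
    intro a _ b _
    rw [mem_bot, commutatorElement_eq_one_iff_mul_comm]
    have ha : a ∈ zpowers x := by rw [h2]; trivial
    have hb : b ∈ zpowers x := by rw [h2]; trivial
    exact congrArg Subtype.val (mul_comm' (⟨a, ha⟩ : zpowers x) ⟨b, hb⟩)
  rw [← hDbar, Subgroup.map_eq_bot_iff, QuotientGroup.ker_mk'] at hab
  exact Nat.Coprime.coprime_dvd_left (Subgroup.card_dvd_of_le hab) (pPrimeCore_card_coprime p)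

/-- Let G be a finite solvable group. (a) If H is a normal subgroup of order coprime to its index, K is a complement to H, and H ≤ G', then H = [H, K] and H ∩ C_G(K) ≤ [H, H]. (b) If G' is nilpotent and has prime index in G, then the order of G' is coprime to its index and G' = [G, K] (the subgroup generated by commutators of elements of G with elements of K) for every complement K of G'. -/
theorem result {G : Type*} [Group G] [Finite G] [Group.IsSolvable G] :
    (∀ (H K : Subgroup G), H.Normal → (Nat.card H).Coprime H.index → Subgroup.IsComplement' H K → H ≤ commutator G →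
        H = ⁅H, K⁆ ∧ H ⊓ Subgroup.centralizer (K : Set G) ≤ ⁅H, H⁆) ∧
      (Group.IsNilpotent ↥(commutator G) → (commutator G).index.Prime →
        (Nat.card ↥(commutator G)).Coprime (commutator G).index ∧
        ∀ K : Subgroup G, Subgroup.IsComplement' (commutator G) K → commutator G = ⁅(⊤ : Subgroup G), K⁆) := by
  constructor
  · intro H K hHn hcop hc hHG
    haveI := hHn
    have h1 := part_a1 H K hcop hc hHG
    refine ⟨h1, ?_⟩
    have hKH : K ≤ normalizer (H : Set G) := by
      rw [normalizer_eq_top_iff.mpr hHn]; exact le_top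
    have hcop' : (Nat.card K).Coprime (Nat.card H) := by
      rw [← hc.symm.index_eq_card]
      exact hcop.symm
    have h2 := Cfsg.Agent.Lib.Helper24.comm_inf_cent_le_of_abelian_quotient_normal H K ⁅H, H⁆
      hKH hcop' le_rfl
    rw [← h1] at h2
    refine le_trans ?_ h2
    exact inf_le_inf_right _ le_sup_left
  · intro hnil hprime
    have hcop := part_b1 hnil hprime rfl
    refine ⟨hcop, ?_⟩
    intro K hc
    apply le_antisymm
    · have h1 := part_a1 (commutator G) K hcop hc le_rfl
      rw [h1]
      exact commutator_mono le_top le_rfl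
    · rw [commutator_def]
      exact commutator_mono le_rfl le_top

end Cfsg.Agent.S1459
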