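import Cfsg.Statements.S1443
import Cfsg.Agent.Lib.Helper24.Omega1

set_option autoImplicit false
open Cfsg

namespace Cfsg.Agent.S1443

open Cfsg.Agent.Lib.Helper24 in
/-- Let G be a finite group, p an odd prime, H a p-subgroup, E an elementary abelian subgroup of H, and A a subgroup of order coprime to p normalizing H. If A centralizes every element of order p in H ∩ C_G(E), then A centralizes H. -/
theorem result {G : Type*} [Group G] [Finite G] (p : ℕ) [Fact p.Prime] (hp : p ≠ 2) (H E A : Subgroup G) (hH : IsPGroup p H) (hE : E ≤ H) (hEe : Cfsg.IsElementaryAbelian p E)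
    (hA : (A ≤ Subgroup.normalizer (H : Set G))) (hcop : (Nat.card A).Coprime p)
    (hfix : ∀ x ∈ (H ⊓ Subgroup.centralizer (E : Set G)), orderOf x = p → A ≤ Subgroup.centralizer ({x} : Set G)) :
    A ≤ Subgroup.centralizer (H : Set G) := by
  obtain ⟨hEc, hEp⟩ := hEe
  -- E is abelian, so E ≤ C(E)
  have hEE : E ≤ Subgroup.centralizer (E : Set G) := by
    intro e he
    rw [Subgroup.mem_centralizer_iff]
    intro f hf
    have := hEc.is_comm.comm (⟨f, hf⟩ : E) ⟨e, he⟩
    exact congrArg Subtype.val this
  have hED : E ≤ H ⊓ Subgroup.centralizer (E : Set G) := le_inf hE hEE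
  -- A centralises E
  have hAE : A ≤ Subgroup.centralizer (E : Set G) := by
    intro a ha
    rw [Subgroup.mem_centralizer_iff]
    intro e he
    by_cases h1 : e = 1
    · rw [h1]; simp
    · have hord : orderOf e = p := orderOf_eq_prime (hEp e he) h1
      have h2 := hfix e (hED he) hord ha
      rw [Subgroup.mem_centralizer_iff] at h2
      exact h2 e (Set.mem_singleton e)
  have hEA : E ≤ Subgroup.centralizer (A : Set G) := Subgroup.le_centralizer_iff.mp hAE
  -- A normalises C(E)
  have hAC : A ≤ Subgroup.normalizer ((Subgroup.centralizer (E : Set G) : Subgroup G) : Set G) := by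
    have key : ∀ a ∈ A, ∀ x ∈ Subgroup.centralizer (E : Set G),
        a * x * a⁻¹ ∈ Subgroup.centralizer (E : Set G) := by
      intro a ha x hx
      rw [Subgroup.mem_centralizer_iff] at hx ⊢
      intro e he
      have h1 : e * a = a * e := (Subgroup.mem_centralizer_iff.mp (hAE ha)) e he
      have h2 : e * x = x * e := hx e he
      have h3 : e * a⁻¹ = a⁻¹ * e := by
        have : Commute e a := h1
        exact this.inv_right.eq
      calc e * (a * x * a⁻¹) = (e * a) * x * a⁻¹ := by group
        _ = a * (e * x) * a⁻¹ := by rw [h1]; group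
        _ = a * x * (e * a⁻¹) := by rw [h2]; group
        _ = a * x * a⁻¹ * e := by rw [h3]; group
    intro a ha
    rw [Subgroup.mem_normalizer_iff]
    intro x
    constructor
    · exact key a ha x
    · intro hx
      have := key a⁻¹ (A.inv_mem ha) _ hx
      simpa [mul_assoc] using this
  have hAD : A ≤ Subgroup.normalizer ((H ⊓ Subgroup.centralizer (E : Set G) : Subgroup G) : Set G) := by
    intro a ha
    rw [Subgroup.mem_normalizer_iff]
    intro x
    rw [Subgroup.mem_inf, Subgroup.mem_inf,
      ← Subgroup.mem_normalizer_iff.mp (hA ha) x, ← Subgroup.mem_normalizer_iff.mp (hAC ha) x]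
  have hD : IsPGroup p (H ⊓ Subgroup.centralizer (E : Set G) : Subgroup G) := hH.to_le inf_le_left
  have hADc : A ≤ Subgroup.centralizer ((H ⊓ Subgroup.centralizer (E : Set G) : Subgroup G) : Set G) :=
    omega1_centralizer hp A _ hcop hD hAD hfix
  exact thompson_PxQ E A H (hH.to_le hE) hcop hH hEA (le_trans hE Subgroup.le_normalizer) hA
    (Subgroup.le_centralizer_iff.mp hADc)

end Cfsg.Agent.S1443
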