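import Cfsg.Statements.S0046
import Mathlib

set_option autoImplicit false
open Cfsg
open Pointwise

namespace Cfsg.Agent.S0046

variable {G : Type*} [Group G]

theorem mem_conj_smul (g x : G) (S : Subgroup G) :
    x ∈ MulAut.conj g • S ↔ g⁻¹ * x * g ∈ S := by
  rw [Subgroup.mem_pointwise_smul_iff_inv_smul_mem]
  simp [MulAut.smul_def]

theorem isCoatom_conj (g : G) (M : Subgroup G) (hM : IsCoatom M) : IsCoatom (MulAut.conj g • M) := by
  refine ⟨fun h => hM.1 ?_, fun K hK => ?_⟩
  · rw [eq_top_iff] at h ⊢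
    intro x _
    have : g * x * g⁻¹ ∈ MulAut.conj g • M := h (Subgroup.mem_top _)
    rw [mem_conj_smul] at this
    simpa [mul_assoc] using this
  · have h1 : M < MulAut.conj g⁻¹ • K := by
      constructor
      · intro x hx
        rw [mem_conj_smul]
        apply hK.le
        rw [mem_conj_smul]
        simpa [mul_assoc] using hx
      · intro hle
        apply hK.2
        intro x hx
        rw [mem_conj_smul]
        have : g⁻¹ * x * g ∈ MulAut.conj g⁻¹ • K := by
          rw [mem_conj_smul]; simpa [mul_assoc] using hx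
        exact hle this
    have h2 := hM.2 _ h1
    rw [eq_top_iff] at h2 ⊢
    intro x _
    have : g⁻¹ * x * g ∈ MulAut.conj g⁻¹ • K := h2 (Subgroup.mem_top _)
    rw [mem_conj_smul] at this
    simpa [mul_assoc] using this

/-- Claim A : distinct maximal subgroups intersect trivially -/
theorem claimA [Finite G] (h : ∀ M : Subgroup G, IsCoatom M → Group.IsNilpotent M)
    (hs : ∀ N : Subgroup G, N.Normal → N = ⊥ ∨ N = ⊤) :
    ∀ M₁ M₂ : Subgroup G, IsCoatom M₁ → IsCoatom M₂ → M₁ ≠ M₂ → M₁ ⊓ M₂ = ⊥ := by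
  by_contra hcon
  push Not at hcon
  -- choose a pair with maximal intersection
  let S : Set (Subgroup G × Subgroup G) := {P | IsCoatom P.1 ∧ IsCoatom P.2 ∧ P.1 ≠ P.2 ∧ P.1 ⊓ P.2 ≠ ⊥}
  have hSne : S.Nonempty := by
    obtain ⟨M₁, M₂, h1, h2, h3, h4⟩ := hcon
    exact ⟨(M₁, M₂), h1, h2, h3, h4⟩
  obtain ⟨⟨M₁, M₂⟩, hP, hmax⟩ := Set.Finite.exists_maximalFor
    (fun P : Subgroup G × Subgroup G => Nat.card ↥(P.1 ⊓ P.2)) S (Set.toFinite S) hSne
  obtain ⟨hM₁, hM₂, hne, hD⟩ := hP
  set D : Subgroup G := M₁ ⊓ M₂ with hDdef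
  -- normalizer of D is proper
  have hDn : ¬ D.Normal := by
    intro hn
    rcases hs D hn with h0 | h1
    · exact hD h0
    · apply hM₁.1
      rw [eq_top_iff, ← h1]
      exact inf_le_left
  have hNtop : Subgroup.normalizer (D : Set G) ≠ ⊤ := fun h => hDn (Subgroup.normalizer_eq_top_iff.mp h)
  obtain ⟨M, hM, hNM⟩ := (eq_top_or_exists_le_coatom (Subgroup.normalizer (D : Set G))).resolve_left hNtop
  -- general fact: for a coatom M' containing D properly as D < M', M = M'
  have key : ∀ M' : Subgroup G, IsCoatom M' → D ≤ M' → D ≠ M' →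
      (∀ M'' : Subgroup G, IsCoatom M'' → M'' ≠ M' → D ≤ M' ⊓ M'' → Nat.card ↥(M' ⊓ M'') ≤ Nat.card D) → M = M' := by
    intro M' hM' hDM' hDneM' hmax'
    by_contra hMM'
    haveI : Group.IsNilpotent M' := h M' hM'
    have hnc : NormalizerCondition M' := Group.normalizerCondition_of_isNilpotent
    have hlt : D.subgroupOf M' < ⊤ := by
      rw [lt_top_iff_ne_top]
      intro htop
      rw [Subgroup.subgroupOf_eq_top] at htop
      exact hDneM' (le_antisymm hDM' htop)
    have h2 := hnc _ hlt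
    obtain ⟨x, hxN, hxD⟩ := SetLike.exists_of_lt h2
    -- x ∈ M', x normalizes D, x ∉ D
    have hxD' : (x : G) ∉ D := fun hx => hxD (by rw [Subgroup.mem_subgroupOf]; exact hx)
    have hxN' : (x : G) ∈ Subgroup.normalizer (D : Set G) := by
      rw [Subgroup.mem_normalizer_iff] at hxN ⊢
      intro d
      constructor
      · intro hd
        have := (hxN ⟨d, hDM' hd⟩).mp (by rw [Subgroup.mem_subgroupOf]; exact hd)
        rw [Subgroup.mem_subgroupOf] at this
        simpa using this
      · intro hd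
        have hdM' : d ∈ M' := by
          have h3 := M'.mul_mem (M'.mul_mem (M'.inv_mem x.2) (hDM' hd)) x.2
          simpa [mul_assoc] using h3
        have := (hxN ⟨d, hdM'⟩).mpr (by rw [Subgroup.mem_subgroupOf]; simpa using hd)
        rw [Subgroup.mem_subgroupOf] at this
        exact this
    have hxM : (x : G) ∈ M := hNM hxN'
    -- D < M' ⊓ M
    have hDle : D ≤ M' ⊓ M := le_inf hDM' (le_trans Subgroup.le_normalizer hNM)
    have hcard := hmax' M hM hMM' hDle
    have hlt2 : D < M' ⊓ M := by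
      refine lt_of_le_of_ne hDle fun heq => hxD' ?_
      rw [heq]
      exact ⟨x.2, hxM⟩
    have hge : Nat.card ↥(M' ⊓ M) ≤ Nat.card D := hcard
    exact hlt2.ne (Subgroup.eq_of_le_of_card_ge hlt2.le hge)
  have hmax1 : ∀ M'' : Subgroup G, IsCoatom M'' → M'' ≠ M₁ → D ≤ M₁ ⊓ M'' → Nat.card ↥(M₁ ⊓ M'') ≤ Nat.card D := by
    intro M'' hM'' hne' hDle
    have hmem : (M₁, M'') ∈ S := by
      refine ⟨hM₁, hM'', fun h => hne' h.symm, ?_⟩
      intro hbot
      apply hD
      have : D ≤ ⊥ := by rw [← hbot]; exact hDle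
      exact le_bot_iff.mp this
    by_contra hlt
    push Not at hlt
    have := hmax hmem hlt.le
    exact absurd this (not_le.mpr hlt)
  have hmax2 : ∀ M'' : Subgroup G, IsCoatom M'' → M'' ≠ M₂ → D ≤ M₂ ⊓ M'' → Nat.card ↥(M₂ ⊓ M'') ≤ Nat.card D := by
    intro M'' hM'' hne' hDle
    have hmem : (M₂, M'') ∈ S := by
      refine ⟨hM₂, hM'', fun h => hne' h.symm, ?_⟩
      intro hbot
      apply hD
      have : D ≤ ⊥ := by rw [← hbot]; exact hDle
      exact le_bot_iff.mp this
    by_contra hlt
    push Not at hlt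
    have := hmax hmem hlt.le
    exact absurd this (not_le.mpr hlt)
  have hDne1 : D ≠ M₁ := by
    intro heq
    apply hne
    have hle : M₁ ≤ M₂ := by rw [← heq]; exact inf_le_right
    exact ((hM₁.le_iff_eq hM₂.1).mp hle).symm
  have hDne2 : D ≠ M₂ := by
    intro heq
    apply hne
    have hle : M₂ ≤ M₁ := by rw [← heq]; exact inf_le_left
    exact (hM₂.le_iff_eq hM₁.1).mp hle
  have e1 := key M₁ hM₁ inf_le_left hDne1 hmax1
  have e2 := key M₂ hM₂ inf_le_right hDne2 hmax2
  exact hne (e1.symm.trans e2)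


theorem burnside_coset [Fintype G] (M : Subgroup G) :
    ∑ x : G, Nat.card (MulAction.fixedBy (G ⧸ M) x) = Nat.card G := by
  classical
  have : Fintype (G ⧸ M) := Fintype.ofFinite _
  have : Fintype (MulAction.orbitRel.Quotient G (G ⧸ M)) := Fintype.ofFinite _
  have hB := MulAction.sum_card_fixedBy_eq_card_orbits_mul_card_group G (G ⧸ M)
  have hΩ : Fintype.card (MulAction.orbitRel.Quotient G (G ⧸ M)) = 1 := by
    rw [Fintype.card_eq_one_iff]
    refine ⟨Quotient.mk'' ((1 : G) : G ⧸ M), fun y => ?_⟩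
    induction y using Quotient.inductionOn' with
    | h y =>
      apply Quotient.sound'
      exact MulAction.exists_smul_eq G _ _
  rw [hΩ, one_mul] at hB
  rw [Nat.card_eq_fintype_card, ← hB]
  apply Finset.sum_congr rfl
  intro x _
  rw [Nat.card_eq_fintype_card]

theorem mem_fixedBy_iff (M : Subgroup G) (x g : G) :
    (QuotientGroup.mk g : G ⧸ M) ∈ MulAction.fixedBy (G ⧸ M) x ↔ x ∈ MulAut.conj g • M := by
  rw [MulAction.mem_fixedBy, mem_conj_smul]
  change ((x * g : G) : G ⧸ M) = (g : G ⧸ M) ↔ _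
  rw [QuotientGroup.eq]
  have e : (x * g)⁻¹ * g = (g⁻¹ * x * g)⁻¹ := by group
  rw [e, inv_mem_iff]

theorem no_simple [Finite G] (h : ∀ M : Subgroup G, IsCoatom M → Group.IsNilpotent M)
    (hs : ∀ N : Subgroup G, N.Normal → N = ⊥ ∨ N = ⊤) (hns : ¬ Group.IsSolvable G) : False := by
  classical
  have hA := claimA h hs
  have F1 : ∀ x : G, Subgroup.zpowers x ≠ ⊤ := by
    intro x hx
    apply hns
    apply Group.isSolvable_of_comm
    intro a b
    have ha : a ∈ Subgroup.zpowers x := by rw [hx]; trivial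
    have hb : b ∈ Subgroup.zpowers x := by rw [hx]; trivial
    obtain ⟨i, rfl⟩ := Subgroup.mem_zpowers_iff.mp ha
    obtain ⟨j, rfl⟩ := Subgroup.mem_zpowers_iff.mp hb
    rw [← zpow_add, ← zpow_add, add_comm]
  have F2 : ∀ x : G, ∃ M : Subgroup G, IsCoatom M ∧ x ∈ M := by
    intro x
    obtain ⟨M, hM, hle⟩ := (eq_top_or_exists_le_coatom (Subgroup.zpowers x)).resolve_left (F1 x)
    exact ⟨M, hM, hle (Subgroup.mem_zpowers x)⟩
  have F3 : ∀ M : Subgroup G, IsCoatom M → M ≠ ⊥ := by
    intro M hM hbot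
    subst hbot
    apply hns
    have : ∀ x : G, x = 1 := by
      intro x
      by_contra hx
      have hlt : (⊥ : Subgroup G) < Subgroup.zpowers x := by
        rw [bot_lt_iff_ne_bot]
        intro h0
        apply hx
        have : x ∈ Subgroup.zpowers x := Subgroup.mem_zpowers x
        rw [h0, Subgroup.mem_bot] at this
        exact this
      exact F1 x (hM.2 _ hlt)
    haveI : Subsingleton G := ⟨fun a b => by rw [this a, this b]⟩
    infer_instance
  have F4 : ∀ M : Subgroup G, IsCoatom M → Subgroup.normalizer (M : Set G) = M := by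
    intro M hM
    have hnn : ¬ M.Normal := fun hn => (hs M hn).elim (F3 M hM) hM.1
    have hne : Subgroup.normalizer (M : Set G) ≠ ⊤ := fun h => hnn (Subgroup.normalizer_eq_top_iff.mp h)
    exact (hM.le_iff_eq hne).mp Subgroup.le_normalizer
  -- two coatoms sharing a nonidentity element are equal
  have F5 : ∀ M₁ M₂ : Subgroup G, IsCoatom M₁ → IsCoatom M₂ → ∀ x : G, x ≠ 1 → x ∈ M₁ → x ∈ M₂ → M₁ = M₂ := by
    intro M₁ M₂ h1 h2 x hx hx1 hx2
    by_contra hne
    have := hA M₁ M₂ h1 h2 hne
    have hmem : x ∈ M₁ ⊓ M₂ := ⟨hx1, hx2⟩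
    rw [this, Subgroup.mem_bot] at hmem
    exact hx hmem
  have F7 : ∀ M : Subgroup G, IsCoatom M → ∀ x : G, x ≠ 1 → ∀ g k : G,
      x ∈ MulAut.conj g • M → x ∈ MulAut.conj k • M → (QuotientGroup.mk g : G ⧸ M) = QuotientGroup.mk k := by
    intro M hM x hx g k hg hk
    have heq := F5 _ _ (isCoatom_conj g M hM) (isCoatom_conj k M hM) x hx hg hk
    rw [QuotientGroup.eq]
    have hn : g⁻¹ * k ∈ Subgroup.normalizer (M : Set G) := by
      rw [Subgroup.mem_normalizer_iff]
      intro y
      have h1 : y ∈ M ↔ k * y * k⁻¹ ∈ MulAut.conj k • M := by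
        rw [mem_conj_smul]
        have e : k⁻¹ * (k * y * k⁻¹) * k = y := by group
        rw [e]
      rw [h1, ← heq, mem_conj_smul]
      have e : g⁻¹ * (k * y * k⁻¹) * g = g⁻¹ * k * y * (g⁻¹ * k)⁻¹ := by group
      rw [e]
    rw [F4 M hM] at hn
    exact hn
  have F8 : ∀ M M' : Subgroup G, IsCoatom M → IsCoatom M' → (∀ g : G, MulAut.conj g • M ≠ M') →
      ∀ x : G, x ≠ 1 → ∀ g k : G, x ∈ MulAut.conj g • M → x ∈ MulAut.conj k • M' → False := by
    intro M M' hM hM' hnc x hx g k hg hk
    have heq := F5 _ _ (isCoatom_conj g M hM) (isCoatom_conj k M' hM') x hx hg hk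
    apply hnc (k⁻¹ * g)
    ext y
    rw [mem_conj_smul]
    have h1 : y ∈ M' ↔ k * y * k⁻¹ ∈ MulAut.conj k • M' := by
      rw [mem_conj_smul]
      have e : k⁻¹ * (k * y * k⁻¹) * k = y := by group
      rw [e]
    rw [h1, ← heq, mem_conj_smul]
    have e : g⁻¹ * (k * y * k⁻¹) * g = (k⁻¹ * g)⁻¹ * y * (k⁻¹ * g) := by group
    rw [e]
  -- pick a coatom
  obtain ⟨M, hM, -⟩ := F2 1
  have : Fintype G := Fintype.ofFinite G
  set n := Nat.card G with hn
  have hidx : ∀ M : Subgroup G, IsCoatom M → 2 * M.index ≤ n := by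
    intro M hM
    have h1 : Nat.card M * M.index = n := Subgroup.card_mul_index M
    have h2 : 1 < Nat.card M := by
      rw [Subgroup.one_lt_card_iff_ne_bot]; exact F3 M hM
    have h3 : 0 < M.index := Nat.pos_of_ne_zero Subgroup.index_ne_zero_of_finite
    nlinarith
  have hidx2 : ∀ M : Subgroup G, IsCoatom M → 2 ≤ M.index := by
    intro M hM
    have h0 : M.index ≠ 0 := Subgroup.index_ne_zero_of_finite
    have h1 : M.index ≠ 1 := fun h => hM.1 (Subgroup.index_eq_one.1 h)
    omega
  have hf1 : ∀ M : Subgroup G, Nat.card (MulAction.fixedBy (G ⧸ M) (1 : G)) = M.index := by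
    intro M
    rw [Subgroup.index]
    apply Nat.card_congr
    exact (Equiv.subtypeUnivEquiv (fun y => by simp))
  have hsplit : ∀ f : G → ℕ, ∑ x : G, f x = f 1 + ∑ x ∈ Finset.univ.erase (1 : G), f x := by
    intro f
    exact (Finset.add_sum_erase _ f (Finset.mem_univ _)).symm
  have hcarderase : (Finset.univ.erase (1 : G)).card = n - 1 := by
    rw [Finset.card_erase_of_mem (Finset.mem_univ _), Finset.card_univ, hn, Nat.card_eq_fintype_card]
  -- there is a coatom not conjugate to M
  have hex : ∃ M' : Subgroup G, IsCoatom M' ∧ ∀ g : G, MulAut.conj g • M ≠ M' := by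
    by_contra hcon
    push Not at hcon
    have hge : ∀ x ∈ Finset.univ.erase (1 : G), 1 ≤ Nat.card (MulAction.fixedBy (G ⧸ M) x) := by
      intro x hx
      have hx1 : x ≠ 1 := Finset.ne_of_mem_erase hx
      obtain ⟨M', hM', hxM'⟩ := F2 x
      obtain ⟨g, hg⟩ := hcon M' hM'
      have : (QuotientGroup.mk g : G ⧸ M) ∈ MulAction.fixedBy (G ⧸ M) x := by
        rw [mem_fixedBy_iff, hg]; exact hxM'
      rw [Nat.one_le_iff_ne_zero, Nat.card_ne_zero]
      exact ⟨⟨⟨_, this⟩⟩, inferInstance⟩
    have hB := burnside_coset M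
    rw [hsplit, hf1] at hB
    have h2 : (Finset.univ.erase (1 : G)).card ≤
        ∑ x ∈ Finset.univ.erase (1 : G), Nat.card (MulAction.fixedBy (G ⧸ M) x) := by
      rw [Finset.card_eq_sum_ones]
      exact Finset.sum_le_sum hge
    rw [hcarderase] at h2
    have := hidx2 M hM
    have hnpos : 0 < n := Nat.card_pos
    omega
  obtain ⟨M', hM', hnc⟩ := hex
  have hle : ∀ x ∈ Finset.univ.erase (1 : G),
      Nat.card (MulAction.fixedBy (G ⧸ M) x) + Nat.card (MulAction.fixedBy (G ⧸ M') x) ≤ 1 := by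
    intro x hx
    have hx1 : x ≠ 1 := Finset.ne_of_mem_erase hx
    have hsub : Subsingleton (MulAction.fixedBy (G ⧸ M) x ⊕ MulAction.fixedBy (G ⧸ M') x) := by
      refine ⟨fun a b => ?_⟩
      rcases a with ⟨a, ha⟩ | ⟨a, ha⟩ <;> rcases b with ⟨b, hb⟩ | ⟨b, hb⟩
      · obtain ⟨g, rfl⟩ := QuotientGroup.mk_surjective a
        obtain ⟨k, rfl⟩ := QuotientGroup.mk_surjective b
        rw [mem_fixedBy_iff] at ha hb
        have := F7 M hM x hx1 g k ha hb
        simp [this]
      · exfalso
        obtain ⟨g, rfl⟩ := QuotientGroup.mk_surjective a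
        obtain ⟨k, rfl⟩ := QuotientGroup.mk_surjective b
        rw [mem_fixedBy_iff] at ha hb
        exact F8 M M' hM hM' hnc x hx1 g k ha hb
      · exfalso
        obtain ⟨g, rfl⟩ := QuotientGroup.mk_surjective a
        obtain ⟨k, rfl⟩ := QuotientGroup.mk_surjective b
        rw [mem_fixedBy_iff] at ha hb
        exact F8 M M' hM hM' hnc x hx1 k g hb ha
      · obtain ⟨g, rfl⟩ := QuotientGroup.mk_surjective a
        obtain ⟨k, rfl⟩ := QuotientGroup.mk_surjective b
        rw [mem_fixedBy_iff] at ha hb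
        have := F7 M' hM' x hx1 g k ha hb
        simp [this]
    have : Nat.card (MulAction.fixedBy (G ⧸ M) x ⊕ MulAction.fixedBy (G ⧸ M') x) ≤ 1 :=
      Finite.card_le_one_iff_subsingleton.mpr hsub
    rwa [Nat.card_sum] at this
  have hB := burnside_coset M
  have hB' := burnside_coset M'
  rw [hsplit, hf1] at hB hB'
  have hsum : ∑ x ∈ Finset.univ.erase (1 : G),
      (Nat.card (MulAction.fixedBy (G ⧸ M) x) + Nat.card (MulAction.fixedBy (G ⧸ M') x)) ≤ n - 1 := by
    rw [← hcarderase, Finset.card_eq_sum_ones]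
    exact Finset.sum_le_sum hle
  rw [Finset.sum_add_distrib] at hsum
  have h1 := hidx M hM
  have h2 := hidx M' hM'
  have hnpos : 0 < n := Nat.card_pos
  omega


universe u

theorem aux : ∀ n : ℕ, ∀ (G : Type u) [Group G] [Finite G], Nat.card G = n →
    (∀ M : Subgroup G, IsCoatom M → Group.IsNilpotent M) → Group.IsSolvable G := by
  intro n
  induction n using Nat.strong_induction_on with
  | _ n ih =>
    intro G _ _ hn h
    by_cases hex : ∃ N : Subgroup G, N.Normal ∧ N ≠ ⊥ ∧ N ≠ ⊤
    · obtain ⟨N, hNn, hNbot, hNtop⟩ := hex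
      obtain ⟨M, hM, hNM⟩ := (eq_top_or_exists_le_coatom N).resolve_left hNtop
      haveI : Group.IsNilpotent M := h M hM
      haveI hNs : Group.IsSolvable N :=
        Group.isSolvable_of_isSolvable_injective (f := Subgroup.inclusion hNM) (Subgroup.inclusion_injective _)
      have hlt : Nat.card (G ⧸ N) < n := by
        rw [← hn]
        have hcard : Nat.card G = Nat.card (G ⧸ N) * Nat.card N :=
          Subgroup.card_eq_card_quotient_mul_card_subgroup _
        have h1 : 1 < Nat.card N := by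
          rw [Subgroup.one_lt_card_iff_ne_bot]; exact hNbot
        have h2 : 0 < Nat.card (G ⧸ N) := Nat.card_pos
        rw [hcard]
        nlinarith
      have hsurj : Function.Surjective (QuotientGroup.mk' N) := QuotientGroup.mk'_surjective N
      have hquot : ∀ M' : Subgroup (G ⧸ N), IsCoatom M' → Group.IsNilpotent M' := by
        intro M' hM'
        have hco := Subgroup.isCoatom_comap_of_surjective hsurj hM'
        haveI : Group.IsNilpotent (M'.comap (QuotientGroup.mk' N)) := h _ hco
        have hmap : (M'.comap (QuotientGroup.mk' N)).map (QuotientGroup.mk' N) = M' :=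
          Subgroup.map_comap_eq_self_of_surjective hsurj M'
        have : Group.IsNilpotent ((M'.comap (QuotientGroup.mk' N)).map (QuotientGroup.mk' N)) :=
          Group.nilpotent_of_surjective ((QuotientGroup.mk' N).subgroupMap (M'.comap (QuotientGroup.mk' N)))
            ((QuotientGroup.mk' N).subgroupMap_surjective _)
        rwa [hmap] at this
      haveI hq : Group.IsSolvable (G ⧸ N) := ih _ hlt (G ⧸ N) rfl hquot
      apply Group.isSolvable_of_ker_le_range N.subtype (QuotientGroup.mk' N)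
      rw [QuotientGroup.ker_mk', Subgroup.range_subtype]
    · push Not at hex
      by_contra hns
      refine no_simple h (fun N hN => ?_) hns
      by_cases h0 : N = ⊥
      · exact Or.inl h0
      · exact Or.inr (hex N hN h0)

/-- Schmidt's Theorem on minimal non-nilpotent groups: a finite group in which every maximal subgroup is nilpotent is solvable. -/
theorem result {G : Type*} [Group G] [Finite G]
    (h : ∀ M : Subgroup G, IsCoatom M → Group.IsNilpotent M) : Group.IsSolvable G := by
  exact aux _ G rfl h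

end Cfsg.Agent.S0046
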