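import Cfsg.Statements.S0666
import Mathlib
import Cfsg.Agent.Lib.Helper96.FrobeniusAction

set_option autoImplicit false
open Cfsg

namespace Cfsg.Agent.S0666

open Cfsg.Agent.Lib.Helper96
open scoped IsMulCommutative

/-- conjugation action of a subgroup of the normalizer of `V` on `V` -/
def conjAut {G : Type*} [Group G] (V F : Subgroup G)
    (hFV : F ≤ Subgroup.normalizer (V : Set G)) : F →* MulAut V where
  toFun f :=
    { toFun := fun v => ⟨(f : G) * v * (f : G)⁻¹,
        (Subgroup.mem_normalizer_iff.mp (hFV f.2) v).mp v.2⟩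
      invFun := fun v => ⟨(f : G)⁻¹ * v * (f : G), by
        have := (Subgroup.mem_normalizer_iff.mp (hFV (F.inv_mem f.2)) v).mp v.2
        simpa using this⟩
      left_inv := fun v => by
        apply Subtype.ext
        simp [mul_assoc]
      right_inv := fun v => by
        apply Subtype.ext
        simp [mul_assoc]
      map_mul' := fun v w => by
        apply Subtype.ext
        simp [mul_assoc] }
  map_one' := by
    ext v
    simp
  map_mul' := fun f g => by
    ext v
    simp [mul_assoc]

theorem conjAut_apply {G : Type*} [Group G] (V F : Subgroup G)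
    (hFV : F ≤ Subgroup.normalizer (V : Set G)) (f : F) (v : V) :
    ((conjAut V F hFV f v : V) : G) = (f : G) * v * (f : G)⁻¹ := rfl

/-- A Frobenius group acting on a nontrivial abelian group of order prime to that of its kernel, with the kernel acting without nontrivial fixed points, has a complement with a nontrivial fixed point. -/
theorem result {G : Type*} [Group G] [Finite G] (V F : Subgroup G) (hVab : IsMulCommutative V) (hV1 : V ≠ ⊥) (hFV : F ≤ Subgroup.normalizer (V : Set G)) (H : Subgroup ↥F) (hH : Cfsg.IsFrobeniusComplement H) (hcop : (Nat.card V).Coprime (Nat.card (Cfsg.frobeniusKernel H))) (hCK : V ⊓ Subgroup.centralizer (Subtype.val '' Cfsg.frobeniusKernel H : Set G) = ⊥) : V ⊓ Subgroup.centralizer ((H.map F.subtype : Subgroup G) : Set G) ≠ ⊥ := by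
  classical
  have := hVab
  have := Fintype.ofFinite F
  obtain ⟨N, hN, _, _⟩ := frobenius_kernel_subgroup H hH
  have hNcard : Nat.card N = Nat.card (Cfsg.frobeniusKernel H) := by
    rw [← hN]; rfl
  have hfix : ∀ v : V, (∀ n ∈ N, conjAut V F hFV n v = v) → v = 1 := by
    intro v hv
    have hmem : (v : G) ∈ V ⊓ Subgroup.centralizer (Subtype.val '' Cfsg.frobeniusKernel H : Set G) := by
      refine Subgroup.mem_inf.mpr ⟨v.2, ?_⟩
      rw [Subgroup.mem_centralizer_iff]
      rintro _ ⟨n, hn, rfl⟩
      have hnN : n ∈ N := by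
        have : n ∈ (N : Set F) := by rw [hN]; exact hn
        exact this
      have h1 := congrArg Subtype.val (hv n hnN)
      rw [conjAut_apply] at h1
      calc (n : G) * v = (n : G) * v * (n : G)⁻¹ * n := by group
        _ = v * n := by rw [h1]
    rw [hCK, Subgroup.mem_bot] at hmem
    exact Subtype.ext hmem
  have hA : ∃ v : V, v ≠ 1 := (Subgroup.ne_bot_iff_exists_ne_one).mp hV1
  obtain ⟨a, ha1, ha⟩ := exists_fixed_of_frobenius (conjAut V F hFV) H N hH hN
    (by rw [hNcard]; exact hcop) hfix hA
  intro hbot
  apply ha1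
  have hmem : (a : G) ∈ V ⊓ Subgroup.centralizer ((H.map F.subtype : Subgroup G) : Set G) := by
    refine Subgroup.mem_inf.mpr ⟨a.2, ?_⟩
    rw [Subgroup.mem_centralizer_iff]
    rintro _ ⟨h, hh, rfl⟩
    have h1 := congrArg Subtype.val (ha h hh)
    rw [conjAut_apply] at h1
    change (h : G) * a = a * h
    calc (h : G) * a = (h : G) * a * (h : G)⁻¹ * h := by group
      _ = a * h := by rw [h1]
  rw [hbot, Subgroup.mem_bot] at hmem
  exact Subtype.ext hmem

end Cfsg.Agent.S0666
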