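import Cfsg.Statements.S3383

set_option autoImplicit false
open Cfsg

namespace Cfsg.Agent.S3383

open scoped Pointwise

section
variable {L : Type*} [Group L]

theorem mem_conj_smul (H : Subgroup L) (g x : L) :
    x ∈ MulAut.conj g • H ↔ g⁻¹ * x * g ∈ H := by
  rw [Subgroup.mem_pointwise_smul_iff_inv_smul_mem]
  simp [MulAut.smul_def]

theorem mem_K_iff (H K : Subgroup L) (hK : (K : Set L) = Cfsg.frobeniusKernel H) (x : L) :
    x ∈ K ↔ (x = 1 ∨ ∀ g : L, g⁻¹ * x * g ∉ H) := by
  have : x ∈ (K : Set L) ↔ x ∈ Cfsg.frobeniusKernel H := by rw [hK]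
  rw [SetLike.mem_coe] at this
  rw [this]
  unfold Cfsg.frobeniusKernel
  simp only [Set.mem_ofPred_eq, mem_conj_smul]

theorem K_normal (H K : Subgroup L) (hK : (K : Set L) = Cfsg.frobeniusKernel H) : K.Normal := by
  constructor
  intro x hx y
  rw [mem_K_iff H K hK] at hx ⊢
  rcases hx with rfl | hx
  · left; simp
  · right
    intro g hg
    apply hx (y⁻¹ * g)
    have : (y⁻¹ * g)⁻¹ * x * (y⁻¹ * g) = g⁻¹ * (y * x * y⁻¹) * g := by group
    rw [this]; exact hg

theorem centralizer_trivial (H : Subgroup L) (hH : Cfsg.IsFrobeniusComplement H)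
    (K : Subgroup L) (hK : (K : Set L) = Cfsg.frobeniusKernel H)
    (k h : L) (hk : k ∈ K) (hh : h ∈ H) (hh1 : h ≠ 1) (hcomm : k * h = h * k) : k = 1 := by
  have hkH : k ∈ H := by
    by_contra hkH
    have h3 := hH.2.2 k hkH
    have : h ∈ H ⊓ MulAut.conj k • H := by
      refine Subgroup.mem_inf.mpr ⟨hh, ?_⟩
      rw [mem_conj_smul]
      have : k⁻¹ * h * k = h := by
        rw [mul_assoc, ← hcomm, ← mul_assoc, inv_mul_cancel, one_mul]
      rw [this]; exact hh
    rw [h3, Subgroup.mem_bot] at this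
    exact hh1 this
  rw [mem_K_iff H K hK] at hk
  rcases hk with hk | hk
  · exact hk
  · exfalso
    apply hk 1
    simpa using hkH


variable [Finite L]

theorem not_dvd_card_K (H : Subgroup L) (hH : Cfsg.IsFrobeniusComplement H)
    (K : Subgroup L) (hK : (K : Set L) = Cfsg.frobeniusKernel H)
    (p : ℕ) [hp : Fact p.Prime] (h : L) (hh : h ∈ H) (hord : orderOf h = p) : ¬ p ∣ Nat.card K := by
  have := K_normal H K hK
  have hh1 : h ≠ 1 := by
    intro h1
    rw [h1, orderOf_one] at hord
    exact hp.out.one_lt.ne hord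
  let P := Subgroup.zpowers h
  have hP : IsPGroup p P := by
    apply IsPGroup.of_card (n := 1)
    rw [Nat.card_zpowers, hord, pow_one]
  letI : MulAction P K := MulAction.compHom K ((MulAut.conjNormal (H := K)).comp P.subtype)
  have hsmul : ∀ (x : P) (k : K), ((x • k : K) : L) = (x : L) * k * (x : L)⁻¹ := by
    intro x k
    rfl
  have hfix : Nat.card (MulAction.fixedPoints P K) = 1 := by
    rw [Nat.card_eq_one_iff_unique]
    refine ⟨⟨?_⟩, ⟨⟨1, ?_⟩⟩⟩
    · rintro ⟨a, ha⟩ ⟨b, hb⟩
      have key : ∀ c : K, c ∈ MulAction.fixedPoints P K → c = 1 := by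
        intro c hc
        have h1 := hc ⟨h, Subgroup.mem_zpowers h⟩
        have h2 : h * (c : L) * h⁻¹ = c := by
          have := congrArg Subtype.val h1
          rwa [hsmul] at this
        have h3 : (c : L) * h = h * c := by
          nth_rewrite 1 [← h2]
          group
        have := centralizer_trivial H hH K hK c h c.2 hh hh1 h3
        exact Subtype.ext this
      apply Subtype.ext
      show a = b
      rw [key a ha, key b hb]
    · intro x
      apply Subtype.ext
      rw [hsmul]
      simp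
  have hmod := hP.card_modEq_card_fixedPoints K
  rw [hfix] at hmod
  intro hdvd
  have : Nat.card K % p = 0 := Nat.mod_eq_zero_of_dvd hdvd
  have h1 : 1 % p = 1 := Nat.mod_eq_of_lt hp.out.one_lt
  unfold Nat.ModEq at hmod
  omega


end

theorem result {L : Type*} [Group L] [Finite L]
    (H : Subgroup L) (hH : Cfsg.IsFrobeniusComplement H)
    (K : Subgroup L) (hK : (K : Set L) = Cfsg.frobeniusKernel H) :
    K.Characteristic ∧ ∀ N : Subgroup L, N.Normal → K ≤ N ∨ N ≤ K := by
  have hKn := K_normal H K hK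
  constructor
  · rw [Subgroup.characteristic_iff_map_le]
    intro φ y hy
    obtain ⟨x, hx, rfl⟩ := hy
    rw [mem_K_iff H K hK]
    by_contra hcon
    push Not at hcon
    obtain ⟨hy1, g, hg⟩ := hcon
    set h0 := g⁻¹ * φ.toMonoidHom x * g with hh0
    have hx1 : x ≠ 1 := by
      intro h; apply hy1; rw [h, map_one]
    have hord : orderOf h0 = orderOf x := by
      have h1 : orderOf h0 = orderOf (φ.toMonoidHom x) := by
        have : h0 = MulAut.conj g⁻¹ (φ.toMonoidHom x) := by
          rw [hh0, MulAut.conj_apply, inv_inv]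
        rw [this]
        exact orderOf_injective (MulAut.conj g⁻¹).toMonoidHom (MulAut.conj g⁻¹).injective _
      rw [h1]
      exact orderOf_injective φ.toMonoidHom φ.injective x
    have hne1 : orderOf x ≠ 1 := by
      intro h; exact hx1 (orderOf_eq_one_iff.mp h)
    obtain ⟨p, hp, hpdvd⟩ := Nat.exists_prime_and_dvd hne1
    have : Fact p.Prime := ⟨hp⟩
    have hxK : orderOf x ∣ Nat.card K := by
      have := orderOf_dvd_natCard (⟨x, hx⟩ : K)
      rwa [Subgroup.orderOf_mk] at this
    have hpos : 0 < orderOf h0 := orderOf_pos h0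
    have hh : h0 ^ (orderOf h0 / p) ∈ H := H.pow_mem hg _
    have hordp : orderOf (h0 ^ (orderOf h0 / p)) = p := by
      rw [← hord] at hpdvd
      exact orderOf_pow_orderOf_div hpos.ne' hpdvd
    exact not_dvd_card_K H hH K hK p _ hh hordp (hpdvd.trans hxK)
  · intro N hN
    by_cases hNK : N ≤ K
    · right; exact hNK
    left
    obtain ⟨n, hnN, hnK⟩ := SetLike.not_le_iff_exists.mp hNK
    rw [mem_K_iff H K hK] at hnK
    push Not at hnK
    obtain ⟨hn1, g, hg⟩ := hnK
    set h := g⁻¹ * n * g with hh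
    have hhN : h ∈ N := by
      have := hN.conj_mem n hnN g⁻¹
      rwa [inv_inv] at this
    have hh1 : h ≠ 1 := by
      intro h1
      apply hn1
      have : n = g * h * g⁻¹ := by rw [hh]; group
      rw [this, h1]; group
    -- the commutator map
    let f : K → K := fun k => ⟨(k : L) * h * (k : L)⁻¹ * h⁻¹, by
      have h1 : h * (k : L)⁻¹ * h⁻¹ ∈ K := hKn.conj_mem _ (K.inv_mem k.2) h
      have : (k : L) * h * (k : L)⁻¹ * h⁻¹ = k * (h * (k : L)⁻¹ * h⁻¹) := by group
      rw [this]
      exact K.mul_mem k.2 h1⟩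
    have hf : Function.Injective f := by
      intro a b hab
      have h1 : (a : L) * h * (a : L)⁻¹ * h⁻¹ = b * h * (b : L)⁻¹ * h⁻¹ := congrArg Subtype.val hab
      have h2 : (a : L) * h * (a : L)⁻¹ = b * h * (b : L)⁻¹ := mul_right_cancel h1
      have h3 : ((b : L)⁻¹ * a) * h = h * ((b : L)⁻¹ * a) := by
        have : (b : L)⁻¹ * (a * h * (a : L)⁻¹) * a = (b : L)⁻¹ * (b * h * (b : L)⁻¹) * a := by rw [h2]
        calc ((b : L)⁻¹ * a) * h = (b : L)⁻¹ * (a * h * (a : L)⁻¹) * a := by group
          _ = (b : L)⁻¹ * (b * h * (b : L)⁻¹) * a := this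
          _ = h * ((b : L)⁻¹ * a) := by group
      have h4 := centralizer_trivial H hH K hK _ h (K.mul_mem (K.inv_mem b.2) a.2) hg hh1 h3
      apply Subtype.ext
      have : (a : L) = b * ((b : L)⁻¹ * a) := by group
      rw [this, h4, mul_one]
    have hsurj : Function.Surjective f := Finite.surjective_of_injective hf
    intro k hk
    obtain ⟨k', hk'⟩ := hsurj ⟨k, hk⟩
    have : (k' : L) * h * (k' : L)⁻¹ * h⁻¹ = k := congrArg Subtype.val hk'
    rw [← this]
    exact N.mul_mem (hN.conj_mem h hhN k') (N.inv_mem hhN)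

end Cfsg.Agent.S3383
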