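-- Statement S1894 (row 1894).
import Cfsg.Statements.S1894
import Cfsg.Agent.Lib.Helper32.PGroupCenter

set_option autoImplicit false
open Cfsg

namespace Cfsg.Agent.S1894

/-- Let P be a finite p-group, A a normal subgroup of P and B an abelian subgroup of A that is normal in P. Then some subgroup C of A containing B is normal in P and is self-centralizing and normal in A (C ∈ SCN(A)). -/
theorem result {P : Type*} [Group P] [Finite P] {p : ℕ} [Fact p.Prime] (hP : IsPGroup p P)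
    (A : Subgroup P) [A.Normal] (B : Subgroup P) [B.Normal] (hBA : B ≤ A) (hB : IsMulCommutative B) :
    ∃ C : Subgroup P, C.Normal ∧ B ≤ C ∧ Cfsg.IsSCN A C := by
  let pr : Subgroup P → Prop := fun C => C.Normal ∧ B ≤ C ∧ C ≤ A ∧ IsMulCommutative C
  have hBpr : pr B := ⟨inferInstance, le_refl B, hBA, hB⟩
  obtain ⟨C, hBC, hCmax⟩ := Finite.exists_le_maximal (p := pr) hBpr
  obtain ⟨⟨hCn, hBC', hCA, hCc⟩, hmax⟩ := hCmax
  have := hCn
  refine ⟨C, hCn, hBC, hCA, ?_, ?_⟩
  · rw [Subgroup.normalizer_eq_top]; exact le_top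
  -- main part
  have hCcomm : ∀ c₁ ∈ C, ∀ c₂ ∈ C, c₁ * c₂ = c₂ * c₁ := by
    intro c₁ h₁ c₂ h₂
    have := hCc.is_comm.comm ⟨c₁, h₁⟩ ⟨c₂, h₂⟩
    exact congrArg Subtype.val this
  set D : Subgroup P := A ⊓ Subgroup.centralizer (C : Set P) with hD
  have hCD : C ≤ D := by
    intro c hc
    refine ⟨hCA hc, ?_⟩
    show c ∈ Subgroup.centralizer (C : Set P)
    rw [Subgroup.mem_centralizer_iff]
    intro h hh
    exact hCcomm h hh c hc
  by_contra hne
  have hlt : C < D := lt_of_le_of_ne hCD (fun h => hne h.symm)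
  have hDn : D.Normal := by rw [hD]; infer_instance
  -- quotient
  let π := QuotientGroup.mk' C
  set Dbar : Subgroup (P ⧸ C) := D.map π with hDbar
  have : Dbar.Normal := Subgroup.Normal.map hDn π (QuotientGroup.mk'_surjective C)
  have hDbar_ne : Dbar ≠ ⊥ := by
    intro h
    have : D ≤ C := by
      have h1 : D.map π ≤ ⊥ := le_of_eq h
      rw [Subgroup.map_le_iff_le_comap] at h1
      have h2 : (⊥ : Subgroup (P ⧸ C)).comap π = C := QuotientGroup.ker_mk' C
      rwa [h2] at h1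
    exact not_le_of_gt hlt this
  have hQ : IsPGroup p (P ⧸ C) := hP.to_quotient C
  obtain ⟨xbar, hxD, hxZ, hx1⟩ :=
    Cfsg.Agent.Lib.Helper32.exists_ne_one_mem_normal_inf_center hQ Dbar hDbar_ne
  obtain ⟨x, hxDm, rfl⟩ := hxD
  have hxC : x ∉ C := by
    intro h
    apply hx1
    exact (QuotientGroup.eq_one_iff x).mpr h
  -- the bigger subgroup
  set C' : Subgroup P := (Subgroup.zpowers (π x)).comap π with hC'
  have hzn : (Subgroup.zpowers (π x)).Normal := by
    constructor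
    intro n hn g
    have hnZ : n ∈ Subgroup.center (P ⧸ C) := by
      obtain ⟨k, rfl⟩ := hn
      exact Subgroup.zpow_mem _ hxZ k
    have : g * n * g⁻¹ = n := by
      rw [Subgroup.mem_center_iff] at hnZ
      rw [hnZ g, mul_inv_cancel_right]
    rw [this]; exact hn
  have hC'n : C'.Normal := hzn.comap π
  have hCC' : C ≤ C' := by
    intro c hc
    rw [hC', Subgroup.mem_comap]
    have : π c = 1 := (QuotientGroup.eq_one_iff c).mpr hc
    rw [this]; exact Subgroup.one_mem _
  have hxC' : x ∈ C' := by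
    rw [hC', Subgroup.mem_comap]; exact Subgroup.mem_zpowers _
  have hdecomp : ∀ y ∈ C', ∃ k : ℤ, ∃ c ∈ C, y = x ^ k * c := by
    intro y hy
    rw [hC', Subgroup.mem_comap] at hy
    obtain ⟨k, hk⟩ := hy
    refine ⟨k, (x ^ k)⁻¹ * y, ?_, by group⟩
    have : π (x ^ k) = π y := by rw [map_zpow]; exact hk
    exact QuotientGroup.eq.mp this
  have hxcent : ∀ c ∈ C, Commute x c := by
    intro c hc
    have : x ∈ Subgroup.centralizer (C : Set P) := hxDm.2
    rw [Subgroup.mem_centralizer_iff] at this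
    exact (this c hc).symm
  have hC'D : C' ≤ D := by
    intro y hy
    obtain ⟨k, c, hc, rfl⟩ := hdecomp y hy
    exact D.mul_mem (D.zpow_mem hxDm k) (hCD hc)
  have hC'c : IsMulCommutative C' := by
    refine ⟨⟨fun a b => Subtype.ext ?_⟩⟩
    obtain ⟨k₁, c₁, hc₁, h₁⟩ := hdecomp a.1 a.2
    obtain ⟨k₂, c₂, hc₂, h₂⟩ := hdecomp b.1 b.2
    show a.1 * b.1 = b.1 * a.1
    rw [h₁, h₂]
    have e1 : Commute (x ^ k₁) (x ^ k₂) := (Commute.refl x).zpow_zpow k₁ k₂
    have e2 : Commute (x ^ k₁) c₂ := (hxcent c₂ hc₂).zpow_left k₁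
    have e3 : Commute c₁ (x ^ k₂) := ((hxcent c₁ hc₁).zpow_left k₂).symm
    have e4 : Commute c₁ c₂ := hCcomm c₁ hc₁ c₂ hc₂
    exact ((e1.mul_right e2).mul_left (e3.mul_right e4)).eq
  have hpr' : pr C' := ⟨hC'n, hBC.trans hCC', hC'D.trans inf_le_left, hC'c⟩
  have := hmax hpr' hCC'
  exact hxC (this hxC')

end Cfsg.Agent.S1894
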