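import Cfsg.Statements.S0016
import Cfsg.Agent.S1894
import Mathlib

set_option autoImplicit false
open Cfsg

namespace Cfsg.Agent.S0016

universe u

/-- All elements of order dividing `p` lie in one cyclic subgroup. -/
def UniqP (p : ℕ) (G : Type*) [Group G] : Prop :=
  ∀ x y : G, x ≠ 1 → x ^ p = 1 → y ^ p = 1 → y ∈ Subgroup.zpowers x

theorem uniqP_of_huniq {G : Type*} [Group G] (p : ℕ) [hp : Fact p.Prime]
    (huniq : ∀ H K : Subgroup G, Nat.card H = p → Nat.card K = p → H = K) : UniqP p G := by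
  intro x y hx hxp hyp
  by_cases hy : y = 1
  · rw [hy]; exact one_mem _
  · have h1 : Nat.card (Subgroup.zpowers x) = p := by
      rw [Nat.card_zpowers]; exact orderOf_eq_prime hxp hx
    have h2 : Nat.card (Subgroup.zpowers y) = p := by
      rw [Nat.card_zpowers]; exact orderOf_eq_prime hyp hy
    rw [huniq _ _ h1 h2]; exact Subgroup.mem_zpowers y

theorem UniqP.subgroup {G : Type*} [Group G] {p : ℕ} (h : UniqP p G) (H : Subgroup G) :
    UniqP p H := by
  intro x y hx hxp hyp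
  have h1 : (x : G) ≠ 1 := fun h' => hx (Subtype.ext h')
  have h2 : (x : G) ^ p = 1 := by
    have := congrArg Subtype.val hxp; simpa using this
  have h3 : (y : G) ^ p = 1 := by
    have := congrArg Subtype.val hyp; simpa using this
  obtain ⟨k, hk⟩ := h (x : G) (y : G) h1 h2 h3
  exact ⟨k, Subtype.ext (by simpa using hk)⟩

theorem gen_or_pth {G : Type*} [Group G] {p : ℕ} [hp : Fact p.Prime] (a : G) (k : ℕ)
    (ha : orderOf a = p ^ k) (x : G) (hx : x ∈ Subgroup.zpowers a) :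
    a ∈ Subgroup.zpowers x ∨ ∃ y ∈ Subgroup.zpowers a, x = y ^ p := by
  have hfin : IsOfFinOrder a := orderOf_pos_iff.1 (by rw [ha]; exact pow_pos hp.out.pos k)
  rw [← hfin.mem_powers_iff_mem_zpowers] at hx
  obtain ⟨m, rfl⟩ := hx
  by_cases hpm : p ∣ m
  · obtain ⟨m', rfl⟩ := hpm
    right
    exact ⟨a ^ m', Subgroup.pow_mem _ (Subgroup.mem_zpowers a) m', by rw [← pow_mul, mul_comm]⟩
  · left
    have hc : m.Coprime (orderOf a) := by
      rw [ha]; exact Nat.Coprime.pow_right k ((Nat.Prime.coprime_iff_not_dvd hp.out).2 hpm).symm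
    obtain ⟨t, ht⟩ := exists_pow_eq_self_of_coprime hc
    exact ⟨(t : ℤ), by show (a ^ m) ^ (t : ℤ) = a; rw [zpow_natCast]; exact ht⟩

theorem exists_order_p {G : Type*} [Group G] [Finite G] {p : ℕ} [hp : Fact p.Prime]
    (hG : IsPGroup p G) (H : Subgroup G) (hH : H ≠ ⊥) : ∃ z ∈ H, z ≠ 1 ∧ z ^ p = 1 := by
  have hHp : IsPGroup p H := hG.to_subgroup H
  have hnt : Nontrivial H := (Subgroup.nontrivial_iff_ne_bot H).2 hH
  obtain ⟨n, hn0, hn⟩ := hHp.nontrivial_iff_card.1 hnt
  have hdvd : p ∣ Nat.card H := by rw [hn]; exact dvd_pow_self p hn0.ne'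
  obtain ⟨z, hz⟩ := exists_prime_orderOf_dvd_card' p hdvd
  refine ⟨z, z.2, ?_, ?_⟩
  · intro h
    have : z = 1 := Subtype.ext h
    rw [this, orderOf_one] at hz
    exact hp.out.one_lt.ne hz
  · have := pow_orderOf_eq_one z
    rw [hz] at this
    have := congrArg Subtype.val this
    simpa using this


theorem isCyclic_of_comm {G : Type*} [Group G] [Finite G] {p : ℕ} [hp : Fact p.Prime]
    (hcomm : ∀ x y : G, x * y = y * x) (hG : IsPGroup p G) (hU : UniqP p G) : IsCyclic G := by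
  classical
  obtain ⟨x, hx⟩ := Finite.exists_max (fun x : G => orderOf x)
  obtain ⟨k, hk⟩ := (IsPGroup.iff_orderOf.1 hG) x
  rw [isCyclic_iff_exists_zpowers_eq_top]
  refine ⟨x, ?_⟩
  rw [eq_top_iff]
  intro y₀ _
  by_contra hy₀
  have hex : ∃ n, ∃ y, y ∉ Subgroup.zpowers x ∧ orderOf y = n := ⟨_, y₀, hy₀, rfl⟩
  obtain ⟨y, hy, hyn⟩ := Nat.find_spec hex
  have hmin : ∀ y', y' ∉ Subgroup.zpowers x → orderOf y ≤ orderOf y' := fun y' hy' =>
    hyn ▸ Nat.find_min' hex ⟨y', hy', rfl⟩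
  have hy1 : y ≠ 1 := fun h => hy (h ▸ one_mem _)
  obtain ⟨j, hj⟩ := (IsPGroup.iff_orderOf.1 hG) y
  have hj0 : j ≠ 0 := by
    intro h; rw [h, pow_zero, orderOf_eq_one_iff] at hj; exact hy1 hj
  have hpdvd : p ∣ orderOf y := by rw [hj]; exact dvd_pow_self p hj0
  have hord : orderOf (y ^ p) = orderOf y / p := orderOf_pow_of_dvd hp.out.ne_zero hpdvd
  have hypos : 0 < orderOf y := orderOf_pos y
  have hlt : orderOf (y ^ p) < orderOf y := by
    rw [hord]; exact Nat.div_lt_self hypos hp.out.one_lt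
  have hyp : y ^ p ∈ Subgroup.zpowers x := by
    by_contra h
    exact absurd (hmin _ h) (not_le.2 hlt)
  have hx1 : x ≠ 1 := by
    intro h
    have := hx y
    rw [h, orderOf_one] at this
    have : orderOf y = 1 := le_antisymm this hypos
    exact hy1 (orderOf_eq_one_iff.1 this)
  rcases gen_or_pth x k hk (y ^ p) hyp with h | ⟨w, hw, hyw⟩
  · have h1 : orderOf x ∣ orderOf (y ^ p) := orderOf_dvd_of_mem_zpowers h
    have h2 : orderOf x ≤ orderOf (y ^ p) := Nat.le_of_dvd (orderOf_pos _) h1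
    have h3 := hx y
    omega
  · set u := y * w⁻¹ with hu
    have hup : u ^ p = 1 := by
      rw [hu, (show Commute y w⁻¹ from hcomm y w⁻¹).mul_pow, hyw, inv_pow, mul_inv_cancel]
    have hux : u ∉ Subgroup.zpowers x := by
      intro h
      apply hy
      have : y = u * w := by rw [hu]; group
      rw [this]; exact mul_mem h hw
    obtain ⟨z, hz, hz1, hzp⟩ := exists_order_p hG (Subgroup.zpowers x)
      (by rw [Ne, Subgroup.zpowers_eq_bot]; exact hx1)
    have := hU z u hz1 hzp hup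
    exact hux (Subgroup.zpowers_le.2 hz this)

section quat
variable {G : Type*} [Group G]

/-- powers indexed by `ZMod` -/
def zp (m : ℕ) (α : G) (i : ZMod m) : G := α ^ i.val

theorem zp_add (m : ℕ) [NeZero m] (α : G) (hα : orderOf α = m) (i j : ZMod m) :
    zp m α (i + j) = zp m α i * zp m α j := by
  unfold zp
  rw [← pow_add, pow_eq_pow_iff_modEq, hα, ZMod.val_add]
  exact Nat.mod_modEq _ _

theorem zp_zero (m : ℕ) [NeZero m] (α : G) : zp m α 0 = 1 := by
  unfold zp; rw [ZMod.val_zero, pow_zero]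

theorem zp_sub (m : ℕ) [NeZero m] (α : G) (hα : orderOf α = m) (i j : ZMod m) :
    zp m α (j - i) = (zp m α i)⁻¹ * zp m α j := by
  have := zp_add m α hα i (j - i)
  rw [add_sub_cancel] at this
  rw [this, inv_mul_cancel_left]

theorem zp_comm (m : ℕ) (α : G) (i j : ZMod m) :
    zp m α i * zp m α j = zp m α j * zp m α i := by
  unfold zp; rw [← pow_add, ← pow_add, add_comm]

theorem zp_natCast (m : ℕ) [NeZero m] (α : G) (hα : orderOf α = m) (t : ℕ) :
    zp m α (t : ZMod m) = α ^ t := by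
  unfold zp
  rw [pow_eq_pow_iff_modEq, hα, ZMod.val_natCast]
  exact Nat.mod_modEq _ _

theorem zp_injective (m : ℕ) [NeZero m] (α : G) (hα : orderOf α = m) :
    Function.Injective (zp m α) := by
  intro i j h
  unfold zp at h
  rw [pow_eq_pow_iff_modEq, hα] at h
  apply ZMod.val_injective
  have h1 := ZMod.val_lt i
  have h2 := ZMod.val_lt j
  have := Nat.ModEq.eq_of_lt_of_lt h h1 h2
  exact this

theorem zp_mem (m : ℕ) (α : G) (i : ZMod m) : zp m α i ∈ Subgroup.zpowers α :=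
  Subgroup.pow_mem _ (Subgroup.mem_zpowers α) _

open QuaternionGroup in
theorem quat_recognition (n : ℕ) [NeZero n] (α g : G)
    (hα : orderOf α = 2 * n) (hg2 : g * g = α ^ n)
    (hinv : ∀ x ∈ Subgroup.zpowers α, x * g = g * x⁻¹)
    (hg : g ∉ Subgroup.zpowers α)
    (hgen : ∀ x : G, x ∈ Subgroup.zpowers α ∨ g⁻¹ * x ∈ Subgroup.zpowers α) :
    Nonempty (G ≃* QuaternionGroup n) := by
  have hne : NeZero (2 * n) := ⟨by have := NeZero.ne n; omega⟩
  let e : ZMod (2 * n) → G := zp (2 * n) α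
  let f : QuaternionGroup n → G := fun q =>
    match q with
    | a i => e i
    | xa i => g * e i
  have hfa : ∀ i, f (a i) = e i := fun _ => rfl
  have hfxa : ∀ i, f (xa i) = g * e i := fun _ => rfl
  have hmul : ∀ q r, f (q * r) = f q * f r := by
    intro q r
    cases q with
    | a i =>
      cases r with
      | a j => rw [a_mul_a, hfa, hfa, hfa]; exact zp_add _ α hα i j
      | xa j =>
        rw [a_mul_xa, hfa, hfxa, hfxa]
        show g * zp (2 * n) α (j - i) = zp (2 * n) α i * (g * zp (2 * n) α j)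
        rw [zp_sub _ α hα, ← mul_assoc (zp (2 * n) α i), hinv _ (zp_mem _ α i)]
        group
    | xa i =>
      cases r with
      | a j =>
        rw [xa_mul_a, hfa, hfxa, hfxa]
        show g * zp (2 * n) α (i + j) = g * zp (2 * n) α i * zp (2 * n) α j
        rw [zp_add _ α hα, mul_assoc]
      | xa j =>
        rw [xa_mul_xa, hfa, hfxa, hfxa]
        show zp (2 * n) α ((n : ZMod (2 * n)) + j - i) = g * zp (2 * n) α i * (g * zp (2 * n) α j)
        have h1 : g * zp (2 * n) α i * (g * zp (2 * n) α j)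
            = g * (zp (2 * n) α i * g) * zp (2 * n) α j := by group
        rw [h1, hinv _ (zp_mem _ α i), ← mul_assoc, hg2, zp_sub _ α hα, zp_add _ α hα,
          zp_natCast _ α hα]
        have := zp_comm (2 * n) α i ((n : ℕ) : ZMod (2 * n))
        rw [zp_natCast _ α hα] at this
        have hc : (zp (2 * n) α i)⁻¹ * α ^ n = α ^ n * (zp (2 * n) α i)⁻¹ := by
          rw [inv_mul_eq_iff_eq_mul, ← mul_assoc, this, mul_inv_cancel_right]
        rw [← mul_assoc, hc, mul_assoc]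
  let F : QuaternionGroup n →* G := MonoidHom.mk' f hmul
  have hinj : Function.Injective F := by
    intro q r h
    change f q = f r at h
    cases q with
    | a i =>
      cases r with
      | a j => rw [hfa, hfa] at h; rw [zp_injective _ α hα h]
      | xa j =>
        exfalso; rw [hfa, hfxa] at h
        apply hg
        have : g = e i * (e j)⁻¹ := by rw [h]; group
        rw [this]; exact mul_mem (zp_mem _ α i) (inv_mem (zp_mem _ α j))
    | xa i =>
      cases r with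
      | a j =>
        exfalso; rw [hfa, hfxa] at h
        apply hg
        have : g = e j * (e i)⁻¹ := by rw [← h]; group
        rw [this]; exact mul_mem (zp_mem _ α j) (inv_mem (zp_mem _ α i))
      | xa j =>
        rw [hfxa, hfxa] at h
        rw [zp_injective _ α hα (mul_left_cancel h)]
  have hfin : IsOfFinOrder α := orderOf_pos_iff.1 (by rw [hα]; exact Nat.pos_of_ne_zero hne.ne)
  have hsurj' : ∀ x ∈ Subgroup.zpowers α, ∃ i, e i = x := by
    intro x hx
    rw [← hfin.mem_powers_iff_mem_zpowers] at hx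
    obtain ⟨t, rfl⟩ := hx
    exact ⟨(t : ZMod (2 * n)), zp_natCast _ α hα t⟩
  have hsurj : Function.Surjective F := by
    intro x
    rcases hgen x with h | h
    · obtain ⟨i, hi⟩ := hsurj' x h
      exact ⟨a i, hi⟩
    · obtain ⟨i, hi⟩ := hsurj' _ h
      refine ⟨xa i, ?_⟩
      change g * e i = x
      rw [hi, mul_inv_cancel_left]
  exact ⟨(MulEquiv.ofBijective F ⟨hinj, hsurj⟩).symm⟩

end quat

section setup
variable {G : Type*} [Group G]

theorem zpowers_comm (a x y : G) (hx : x ∈ Subgroup.zpowers a) (hy : y ∈ Subgroup.zpowers a) :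
    x * y = y * x := by
  obtain ⟨i, rfl⟩ := hx; obtain ⟨j, rfl⟩ := hy
  exact (Commute.zpow_zpow_self a i j).eq

theorem comm_zpowers_of_comm (a g x : G) (h : g * a = a * g) (hx : x ∈ Subgroup.zpowers a) :
    x * g = g * x := by
  obtain ⟨i, rfl⟩ := hx
  exact ((show Commute a g from h.symm).zpow_left i).eq

theorem exists_g [Finite G] {p : ℕ} [hp : Fact p.Prime] (hG : IsPGroup p G) (A : Subgroup G)
    (hA : A ≠ ⊤) : ∃ g, g ∉ A ∧ g ^ p ∈ A := by
  classical
  have hex0 : ∃ y₀, y₀ ∉ A := by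
    by_contra h
    apply hA
    rw [eq_top_iff]
    intro y _
    by_contra hy
    exact h ⟨y, hy⟩
  obtain ⟨y₀, hy₀⟩ := hex0
  have hex : ∃ n, ∃ y, y ∉ A ∧ orderOf y = n := ⟨_, y₀, hy₀, rfl⟩
  obtain ⟨y, hy, hyn⟩ := Nat.find_spec hex
  have hmin : ∀ y', y' ∉ A → orderOf y ≤ orderOf y' := fun y' hy' =>
    hyn ▸ Nat.find_min' hex ⟨y', hy', rfl⟩
  have hy1 : y ≠ 1 := fun h => hy (h ▸ one_mem _)
  obtain ⟨j, hj⟩ := (IsPGroup.iff_orderOf.1 hG) y
  have hj0 : j ≠ 0 := by
    intro h; rw [h, pow_zero, orderOf_eq_one_iff] at hj; exact hy1 hj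
  have hpdvd : p ∣ orderOf y := by rw [hj]; exact dvd_pow_self p hj0
  have hord : orderOf (y ^ p) = orderOf y / p := orderOf_pow_of_dvd hp.out.ne_zero hpdvd
  have hypos : 0 < orderOf y := orderOf_pos y
  have hlt : orderOf (y ^ p) < orderOf y := by
    rw [hord]; exact Nat.div_lt_self hypos hp.out.one_lt
  refine ⟨y, hy, ?_⟩
  by_contra h
  exact absurd (hmin _ h) (not_le.2 hlt)

theorem setup [Finite G] {p : ℕ} [hp : Fact p.Prime] (hG : IsPGroup p G) (hU : UniqP p G) :
    ∃ (a : G) (k : ℕ), orderOf a = p ^ k ∧ (Subgroup.zpowers a).Normal ∧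
      ∀ x : G, x * a = a * x → x ∈ Subgroup.zpowers a := by
  obtain ⟨C, hCn, -, -, -, hCC⟩ := Cfsg.Agent.S1894.result hG (⊤ : Subgroup G) (⊥ : Subgroup G)
    bot_le inferInstance
  rw [top_inf_eq] at hCC
  have hCcomm : ∀ x y : C, x * y = y * x := by
    intro x y
    have hx : (x : G) ∈ Subgroup.centralizer (C : Set G) := by rw [hCC]; exact x.2
    rw [Subgroup.mem_centralizer_iff] at hx
    exact Subtype.ext (hx y y.2).symm
  have hcyc : IsCyclic C := isCyclic_of_comm hCcomm (hG.to_subgroup C) (hU.subgroup C)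
  obtain ⟨c, hc⟩ := hcyc.exists_generator
  have hCz : Subgroup.zpowers (c : G) = C := by
    apply le_antisymm
    · exact Subgroup.zpowers_le.2 c.2
    · intro x hx
      obtain ⟨i, hi⟩ := hc ⟨x, hx⟩
      refine ⟨i, ?_⟩
      have := congrArg Subtype.val hi
      simpa using this
  obtain ⟨k, hk⟩ := (IsPGroup.iff_orderOf.1 hG) (c : G)
  refine ⟨c, k, hk, by rw [hCz]; exact hCn, ?_⟩
  intro x hx
  rw [hCz, ← hCC, Subgroup.mem_centralizer_iff]
  intro y hy
  rw [← hCz] at hy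
  exact comm_zpowers_of_comm (c : G) x y hx hy

end setup

theorem pow_mul_class2 {G : Type*} [Group G] (g x c : G) (hc : x * g = g * x * c)
    (hcg : c * g = g * c) (hcx : c * x = x * c) (n : ℕ) :
    (g * x) ^ n = g ^ n * x ^ n * c ^ (n.choose 2) := by
  have hcx' : ∀ m : ℕ, c ^ m * x = x * c ^ m := fun m =>
    ((show Commute c x from hcx).pow_left m).eq
  have hcg' : ∀ m : ℕ, c ^ m * g = g * c ^ m := fun m =>
    ((show Commute c g from hcg).pow_left m).eq
  have h1 : ∀ m : ℕ, x ^ m * g = g * x ^ m * c ^ m := by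
    intro m
    induction m with
    | zero => simp
    | succ m ih =>
      calc x ^ (m + 1) * g = x ^ m * (x * g) := by rw [pow_succ, mul_assoc]
        _ = (x ^ m * g) * x * c := by rw [hc]; simp only [mul_assoc]
        _ = g * x ^ m * (c ^ m * x) * c := by rw [ih]; simp only [mul_assoc]
        _ = g * x ^ m * (x * c ^ m) * c := by rw [hcx']
        _ = g * x ^ (m + 1) * c ^ (m + 1) := by rw [pow_succ, pow_succ]; simp only [mul_assoc]
  induction n with
  | zero => simp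
  | succ n ih =>
    have hch : (n + 1).choose 2 = n + n.choose 2 := by
      rw [Nat.choose_succ_succ' n 1, Nat.choose_one_right]
    calc (g * x) ^ (n + 1) = g ^ n * x ^ n * c ^ (n.choose 2) * (g * x) := by rw [pow_succ, ih]
      _ = g ^ n * x ^ n * (c ^ (n.choose 2) * g) * x := by simp only [mul_assoc]
      _ = g ^ n * (x ^ n * g) * c ^ (n.choose 2) * x := by rw [hcg']; simp only [mul_assoc]
      _ = g ^ n * (g * x ^ n * c ^ n) * c ^ (n.choose 2) * x := by rw [h1]
      _ = g ^ (n + 1) * x ^ n * (c ^ (n + n.choose 2) * x) := by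
        rw [pow_succ, pow_add]; simp only [mul_assoc]
      _ = g ^ (n + 1) * x ^ (n + 1) * c ^ ((n + 1).choose 2) := by
        rw [hcx', hch, pow_succ x]; simp only [mul_assoc]

theorem odd_case {p : ℕ} [hp : Fact p.Prime] (hp2 : p ≠ 2) :
    ∀ (n : ℕ) (G : Type u) [Group G] [Finite G], Nat.card G = n → IsPGroup p G → UniqP p G →
      IsCyclic G := by
  intro n
  induction n using Nat.strong_induction_on with
  | _ n ih =>
    intro G _ _ hn hG hU
    by_cases hcomm : ∀ x y : G, x * y = y * x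
    · exact isCyclic_of_comm hcomm hG hU
    exfalso
    obtain ⟨a, k, hak, hAn, hAc⟩ := setup hG hU
    have hAtop : Subgroup.zpowers a ≠ ⊤ := by
      intro h
      apply hcomm
      intro x y
      exact zpowers_comm a x y (h ▸ Subgroup.mem_top x) (h ▸ Subgroup.mem_top y)
    obtain ⟨g, hgA, hgp⟩ := exists_g hG (Subgroup.zpowers a) hAtop
    have hga : g * a ≠ a * g := fun h => hgA (hAc g h)
    -- the subgroup K = ⟨a^p⟩ is normal
    have hKn : (Subgroup.zpowers (a ^ p)).Normal := by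
      constructor
      intro y hy x
      obtain ⟨i, rfl⟩ := hy
      have hxa : x * a * x⁻¹ ∈ Subgroup.zpowers a := hAn.conj_mem a (Subgroup.mem_zpowers a) x
      obtain ⟨j, hj⟩ := hxa
      refine ⟨j * i, ?_⟩
      have h1 : x * (a ^ p) ^ i * x⁻¹ = ((x * a * x⁻¹) ^ p) ^ i := by
        rw [conj_pow, conj_zpow]
      rw [h1, ← hj]
      show (a ^ p) ^ (j * i) = ((a ^ j) ^ p) ^ i
      rw [← zpow_natCast a p, ← zpow_natCast (a ^ j) p, ← zpow_mul, ← zpow_mul, ← zpow_mul]
      congr 1; ring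
    -- H = ⟨g⟩ K is a proper subgroup
    set H : Subgroup G := Subgroup.zpowers g ⊔ Subgroup.zpowers (a ^ p) with hH
    have haH : a ∉ H := by
      intro haH
      rw [hH, Subgroup.mem_sup_of_normal_right] at haH
      obtain ⟨y, hy, z, hz, hyz⟩ := haH
      -- y = a * z⁻¹ ∈ A
      have hzA : z ∈ Subgroup.zpowers a :=
        Subgroup.zpowers_le.2 (Subgroup.pow_mem _ (Subgroup.mem_zpowers a) p) hz
      have hyA : y ∈ Subgroup.zpowers a := by
        have : y = a * z⁻¹ := by rw [← hyz]; group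
        rw [this]; exact mul_mem (Subgroup.mem_zpowers a) (inv_mem hzA)
      rcases gen_or_pth a k hak y hyA with h | ⟨w, hw, hyw⟩
      · -- a ∈ ⟨y⟩ ≤ ⟨g⟩
        have : a ∈ Subgroup.zpowers g := Subgroup.zpowers_le.2 hy h
        exact hga (zpowers_comm g g a (Subgroup.mem_zpowers g) this)
      · -- a = w^p * z is a p-th power in A: impossible
        have hzp : ∃ v ∈ Subgroup.zpowers a, z = v ^ p := by
          obtain ⟨i, rfl⟩ := hz
          refine ⟨a ^ i, Subgroup.zpow_mem _ (Subgroup.mem_zpowers a) i, ?_⟩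
          show (a ^ p) ^ i = (a ^ i) ^ p
          rw [← zpow_natCast, ← zpow_natCast, ← zpow_mul, ← zpow_mul, mul_comm]
        obtain ⟨v, hv, hzv⟩ := hzp
        have hwv : a = (w * v) ^ p := by
          rw [(show Commute w v from zpowers_comm a w v hw hv).mul_pow, ← hyw, ← hzv, hyz]
        have hwvA : w * v ∈ Subgroup.zpowers a := mul_mem hw hv
        have hfin : IsOfFinOrder a := orderOf_pos_iff.1 (by rw [hak]; exact pow_pos hp.out.pos k)
        rw [← hfin.mem_powers_iff_mem_zpowers] at hwvA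
        obtain ⟨m, hm⟩ := hwvA
        rw [← hm, ← pow_mul] at hwv
        -- a^(m*p) = a  → m * p ≡ 1 mod p^k
        have h1 : a ^ (m * p) = a ^ 1 := by rw [pow_one]; exact hwv.symm
        rw [pow_eq_pow_iff_modEq, hak] at h1
        have hk0 : k ≠ 0 := by
          intro h0
          rw [h0, pow_zero, orderOf_eq_one_iff] at hak
          rw [hak] at hga
          simp at hga
        have hpk : p ∣ p ^ k := dvd_pow_self p hk0
        have h2 : m * p ≡ 1 [MOD p] := h1.of_dvd hpk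
        have h3 : m * p ≡ 0 [MOD p] := (Nat.modEq_zero_iff_dvd).2 (dvd_mul_left p m)
        have h4 : (1 : ℕ) ≡ 0 [MOD p] := h2.symm.trans h3
        rw [Nat.modEq_zero_iff_dvd] at h4
        exact hp.out.one_lt.ne' (Nat.dvd_one.1 h4)
    have hHlt : Nat.card H < n := by
      rw [← hn]
      refine lt_of_le_of_ne (Subgroup.card_le_card_group H) ?_
      intro h
      exact haH ((Subgroup.eq_top_of_card_eq H h) ▸ Subgroup.mem_top a)
    have hcycH : IsCyclic H := ih _ hHlt H rfl (hG.to_subgroup H) (hU.subgroup H)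
    obtain ⟨h, hh⟩ := hcycH.exists_generator
    have hmemH : ∀ y ∈ H, y ∈ Subgroup.zpowers (h : G) := by
      intro y hy
      obtain ⟨i, hi⟩ := hh ⟨y, hy⟩
      refine ⟨i, ?_⟩
      have := congrArg Subtype.val hi
      simpa using this
    have hgH : g ∈ H := (le_sup_left : Subgroup.zpowers g ≤ H) (Subgroup.mem_zpowers g)
    have hapH : a ^ p ∈ H :=
      (le_sup_right : Subgroup.zpowers (a ^ p) ≤ H) (Subgroup.mem_zpowers (a ^ p))
    have hgap : (a ^ p) * g = g * (a ^ p) :=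
      zpowers_comm (h : G) _ _ (hmemH _ hapH) (hmemH _ hgH)
    have hxp : ∀ x ∈ Subgroup.zpowers a, x ^ p * g = g * x ^ p := by
      intro x hx
      obtain ⟨i, rfl⟩ := hx
      have : (a ^ i) ^ p = (a ^ p) ^ i := by
        rw [← zpow_natCast, ← zpow_natCast, ← zpow_mul, ← zpow_mul, mul_comm]
      rw [this]
      exact ((show Commute (a ^ p) g from hgap).zpow_left i).eq
    -- a central element of order p
    have hnt : Nontrivial G := ⟨⟨g, 1, fun h => hgA (h ▸ one_mem _)⟩⟩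
    have hcnt : Subgroup.center G ≠ ⊥ :=
      (Subgroup.nontrivial_iff_ne_bot _).1 hG.center_nontrivial
    obtain ⟨z, hzc, hz1, hzp⟩ := exists_order_p hG (Subgroup.center G) hcnt
    have hzA : z ∈ Subgroup.zpowers a := hAc z (Subgroup.mem_center_iff.1 hzc a).symm
    have hconjpow : ∀ (x : G) (m : ℕ), (g⁻¹ * x * g) ^ m = g⁻¹ * x ^ m * g := by
      intro x m
      have := conj_pow (a := g⁻¹) (b := x) (i := m)
      rwa [inv_inv] at this
    have hpow : ∀ x ∈ Subgroup.zpowers a, (g * x) ^ p = g ^ p * x ^ p := by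
      intro x hx
      set c := x⁻¹ * (g⁻¹ * x * g) with hc
      have hxg : g⁻¹ * x * g ∈ Subgroup.zpowers a := by
        have := hAn.conj_mem x hx g⁻¹
        rwa [inv_inv] at this
      have hcp : c ^ p = 1 := by
        rw [hc, (show Commute x⁻¹ (g⁻¹ * x * g) from
          zpowers_comm a _ _ (inv_mem hx) hxg).mul_pow, hconjpow, mul_assoc g⁻¹, hxp x hx]
        group
      have hcz : c ∈ Subgroup.center G :=
        Subgroup.zpowers_le.2 hzc (hU z c hz1 hzp hcp)
      rw [Subgroup.mem_center_iff] at hcz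
      have h1 := pow_mul_class2 g x c (by rw [hc]; group) (hcz g).symm (hcz x).symm p
      have hdvd : p ∣ p.choose 2 := by
        apply Nat.Prime.dvd_choose_self hp.out (by norm_num)
        have := hp.out.two_le
        omega
      obtain ⟨m, hm⟩ := hdvd
      rw [h1, hm, pow_mul, hcp, one_pow, mul_one]
    rcases gen_or_pth a k hak (g ^ p) hgp with h' | ⟨y, hy, hgy⟩
    · have : a ∈ Subgroup.zpowers g :=
        Subgroup.zpowers_le.2 (Subgroup.pow_mem _ (Subgroup.mem_zpowers g) p) h'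
      exact hga (zpowers_comm g g a (Subgroup.mem_zpowers g) this)
    · have h1 := hpow y⁻¹ (inv_mem hy)
      rw [hgy, inv_pow, mul_inv_cancel] at h1
      have hu1 : g * y⁻¹ ≠ 1 := by
        intro h
        apply hgA
        have : g = y := by rw [mul_inv_eq_one] at h; exact h
        rw [this]; exact hy
      have := Subgroup.zpowers_le.2 hzA (hU z (g * y⁻¹) hz1 hzp h1)
      apply hgA
      have h2 : g = g * y⁻¹ * y := by group
      rw [h2]; exact mul_mem this hy

section two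
variable {G : Type*} [Group G]

theorem exists_min_pred [Finite G] {p : ℕ} [hp : Fact p.Prime] (hG : IsPGroup p G)
    (P : G → Prop) (h1 : P 1) (hne : ∃ y, ¬ P y) : ∃ y, ¬ P y ∧ P (y ^ p) := by
  classical
  obtain ⟨y₀, hy₀⟩ := hne
  have hex : ∃ n, ∃ y, ¬ P y ∧ orderOf y = n := ⟨_, y₀, hy₀, rfl⟩
  obtain ⟨y, hy, hyn⟩ := Nat.find_spec hex
  have hmin : ∀ y', ¬ P y' → orderOf y ≤ orderOf y' := fun y' hy' =>
    hyn ▸ Nat.find_min' hex ⟨y', hy', rfl⟩
  have hy1 : y ≠ 1 := fun h => hy (h ▸ h1)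
  obtain ⟨j, hj⟩ := (IsPGroup.iff_orderOf.1 hG) y
  have hj0 : j ≠ 0 := by
    intro h; rw [h, pow_zero, orderOf_eq_one_iff] at hj; exact hy1 hj
  have hpdvd : p ∣ orderOf y := by rw [hj]; exact dvd_pow_self p hj0
  have hord : orderOf (y ^ p) = orderOf y / p := orderOf_pow_of_dvd hp.out.ne_zero hpdvd
  have hypos : 0 < orderOf y := orderOf_pos y
  have hlt : orderOf (y ^ p) < orderOf y := by
    rw [hord]; exact Nat.div_lt_self hypos hp.out.one_lt
  refine ⟨y, hy, ?_⟩
  by_contra h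
  exact absurd (hmin _ h) (not_le.2 hlt)

theorem not_pth_power {p : ℕ} [hp : Fact p.Prime] (a : G) (k : ℕ) (hak : orderOf a = p ^ k)
    (ha1 : a ≠ 1) (w : G) (hw : w ∈ Subgroup.zpowers a) : a ≠ w ^ p := by
  intro hwv
  have hfin : IsOfFinOrder a := orderOf_pos_iff.1 (by rw [hak]; exact pow_pos hp.out.pos k)
  rw [← hfin.mem_powers_iff_mem_zpowers] at hw
  obtain ⟨m, hm⟩ := hw
  rw [← hm] at hwv
  change a = (a ^ m) ^ p at hwv
  rw [← pow_mul] at hwv
  have h1 : a ^ (m * p) = a ^ 1 := by rw [pow_one]; exact hwv.symm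
  rw [pow_eq_pow_iff_modEq, hak] at h1
  have hk0 : k ≠ 0 := by
    intro h0
    rw [h0, pow_zero, orderOf_eq_one_iff] at hak
    exact ha1 hak
  have hpk : p ∣ p ^ k := dvd_pow_self p hk0
  have h2 : m * p ≡ 1 [MOD p] := h1.of_dvd hpk
  have h3 : m * p ≡ 0 [MOD p] := (Nat.modEq_zero_iff_dvd).2 (dvd_mul_left p m)
  have h4 : (1 : ℕ) ≡ 0 [MOD p] := h2.symm.trans h3
  rw [Nat.modEq_zero_iff_dvd] at h4
  exact hp.out.one_lt.ne' (Nat.dvd_one.1 h4)

theorem eq_of_sq_eq_one (hU : UniqP 2 G) (z : G) (hz1 : z ≠ 1) (hz2 : z ^ 2 = 1) (u : G)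
    (hu1 : u ≠ 1) (hu2 : u ^ 2 = 1) : u = z := by
  obtain ⟨i, hi⟩ := hU z u hz1 hz2 hu2
  change z ^ i = u at hi
  have hz : orderOf z = 2 := orderOf_eq_prime hz2 hz1
  rw [← zpow_mod_orderOf, hz] at hi
  have : i % ((2 : ℕ) : ℤ) = 0 ∨ i % ((2 : ℕ) : ℤ) = 1 := by push_cast; omega
  rcases this with h | h
  · rw [h, zpow_zero] at hi; exact absurd hi.symm hu1
  · rw [h, zpow_one] at hi; exact hi.symm

/-- The key inversion lemma. -/
theorem key_inv [Finite G] (hU : UniqP 2 G) (a : G) (k : ℕ)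
    (hak : orderOf a = 2 ^ k) (hAn : (Subgroup.zpowers a).Normal)
    (hAc : ∀ x : G, x * a = a * x → x ∈ Subgroup.zpowers a)
    (z : G) (hzA : z ∈ Subgroup.zpowers a) (hz1 : z ≠ 1) (hz2 : z ^ 2 = 1)
    (g : G) (hgA : g ∉ Subgroup.zpowers a) (hg2 : g ^ 2 ∈ Subgroup.zpowers a) :
    (∀ x ∈ Subgroup.zpowers a, x * g = g * x⁻¹) ∧ g * g = z := by
  have hp2 : Fact (Nat.Prime 2) := ⟨Nat.prime_two⟩
  have hga : g * a ≠ a * g := fun h => hgA (hAc g h)
  have ha1 : a ≠ 1 := by
    intro h; rw [h] at hga; simp at hga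
  have hσA : ∀ x ∈ Subgroup.zpowers a, g⁻¹ * x * g ∈ Subgroup.zpowers a := by
    intro x hx
    have := hAn.conj_mem x hx g⁻¹
    rwa [inv_inv] at this
  have hσσ : ∀ x ∈ Subgroup.zpowers a, g⁻¹ * (g⁻¹ * x * g) * g = x := by
    intro x hx
    have hgg : g * g ∈ Subgroup.zpowers a := by rw [← pow_two]; exact hg2
    have h1 : g⁻¹ * (g⁻¹ * x * g) * g = (g * g)⁻¹ * x * (g * g) := by group
    rw [h1, mul_assoc, zpowers_comm a x (g * g) hx hgg, ← mul_assoc, inv_mul_cancel, one_mul]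
  have hσzpow : ∀ (x : G) (i : ℤ), g⁻¹ * x ^ i * g = (g⁻¹ * x * g) ^ i := by
    intro x i
    have := conj_zpow (a := g⁻¹) (b := x) (i := i)
    rw [inv_inv] at this
    exact this.symm
  -- (1)
  have h1 : ∀ x ∈ Subgroup.zpowers a, g ^ 2 * ((g⁻¹ * x * g) * x) ≠ 1 := by
    intro x hx h
    have h2 : (g * x) ^ 2 = 1 := by
      rw [← h, pow_two, pow_two]; group
    have h3 : g * x ≠ 1 := by
      intro h'
      apply hgA
      have : g = x⁻¹ := eq_inv_of_mul_eq_one_left h'
      rw [this]; exact inv_mem hx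
    have := Subgroup.zpowers_le.2 hzA (hU z (g * x) hz1 hz2 h2)
    apply hgA
    have h4 : g = g * x * x⁻¹ := by group
    rw [h4]; exact mul_mem this (inv_mem hx)
  -- C
  set C : Subgroup G := Subgroup.zpowers a ⊓ Subgroup.centralizer {g} with hC
  have hCmem : ∀ x, x ∈ C ↔ x ∈ Subgroup.zpowers a ∧ g⁻¹ * x * g = x := by
    intro x
    rw [hC, Subgroup.mem_inf, Subgroup.mem_centralizer_singleton_iff]
    constructor
    · rintro ⟨h, h'⟩
      refine ⟨h, ?_⟩
      rw [mul_assoc, h', inv_mul_cancel_left]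
    · rintro ⟨h, h'⟩
      refine ⟨h, ?_⟩
      calc x * g = g * (g⁻¹ * x * g) := by group
        _ = g * x := by rw [h']
  obtain ⟨n₀, hn₀⟩ := (Subgroup.le_zpowers_iff a C).1 inf_le_left
  set c := a ^ n₀ with hcdef
  obtain ⟨j, hcj⟩ : ∃ j, orderOf c = 2 ^ j := by
    have : orderOf c ∣ 2 ^ k := by rw [← hak]; exact orderOf_pow_dvd n₀
    obtain ⟨j, -, hj⟩ := (Nat.dvd_prime_pow Nat.prime_two).1 this
    exact ⟨j, hj⟩
  -- ν x ∈ C
  have hνC : ∀ x ∈ Subgroup.zpowers a, (g⁻¹ * x * g) * x ∈ C := by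
    intro x hx
    rw [hCmem]
    refine ⟨mul_mem (hσA x hx) hx, ?_⟩
    have : g⁻¹ * (g⁻¹ * x * g * x) * g = (g⁻¹ * (g⁻¹ * x * g) * g) * (g⁻¹ * x * g) := by group
    rw [this, hσσ x hx]
    exact zpowers_comm a _ _ hx (hσA x hx)
  have hg2C : g ^ 2 ∈ C := by
    rw [hCmem]
    exact ⟨hg2, by group⟩
  -- Claim 1
  have hcl1 : ∀ x ∈ Subgroup.zpowers a, ∃ y ∈ C, (g⁻¹ * x * g) * x = y ^ 2 := by
    intro x hx
    have hν := hνC x hx
    rw [hn₀] at hν
    rcases gen_or_pth c j hcj _ hν with h | ⟨y, hy, hyν⟩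
    · exfalso
      have h2 : g ^ 2 ∈ Subgroup.zpowers (g⁻¹ * x * g * x) := by
        have := hg2C
        rw [hn₀] at this
        exact Subgroup.zpowers_le.2 h this
      obtain ⟨i, hi⟩ := h2
      change (g⁻¹ * x * g * x) ^ i = g ^ 2 at hi
      apply h1 (x ^ (-i)) (Subgroup.zpow_mem _ hx _)
      rw [hσzpow, ← (show Commute (g⁻¹ * x * g) x from
        zpowers_comm a _ _ (hσA x hx) hx).mul_zpow, zpow_neg, hi, mul_inv_cancel]
    · exact ⟨y, by rw [hn₀]; exact hy, hyν⟩
  -- Claim 2: σ a = a⁻¹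
  have hcl2 : g⁻¹ * a * g = a⁻¹ := by
    obtain ⟨y, hyC, hy⟩ := hcl1 a (Subgroup.mem_zpowers a)
    obtain ⟨hyA, hyσ⟩ := (hCmem y).1 hyC
    set a' := a * y⁻¹ with ha'
    have ha'A : a' ∈ Subgroup.zpowers a := mul_mem (Subgroup.mem_zpowers a) (inv_mem hyA)
    have ha'σ : g⁻¹ * a' * g = a'⁻¹ := by
      have e1 : g⁻¹ * a' * g = (g⁻¹ * a * g) * (g⁻¹ * y * g)⁻¹ := by rw [ha']; group
      rw [e1, hyσ, eq_comm, inv_eq_iff_eq_inv, eq_comm]
      -- a' = ((g⁻¹ a g) y⁻¹)⁻¹
      rw [mul_inv_rev, inv_inv]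
      -- y * (g⁻¹ a g)⁻¹ = a'
      have e2 : (g⁻¹ * a * g) = y ^ 2 * a⁻¹ := by rw [← hy]; group
      rw [e2, ha', mul_inv_rev, inv_inv, pow_two]
      have := zpowers_comm a a y (Subgroup.mem_zpowers a) hyA
      calc y * (a * (y * y)⁻¹) = y * (a * (y⁻¹ * y⁻¹)) := by rw [mul_inv_rev]
        _ = (y * a) * y⁻¹ * y⁻¹ := by simp only [mul_assoc]
        _ = (a * y) * y⁻¹ * y⁻¹ := by rw [this]
        _ = a * y⁻¹ := by group
    rcases gen_or_pth a k hak a' ha'A with h | ⟨w, hw, ha'w⟩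
    · obtain ⟨i, hi⟩ := h
      change a' ^ i = a at hi
      rw [← hi, hσzpow, ha'σ, inv_zpow]
    · exfalso
      rcases gen_or_pth a k hak y hyA with h | ⟨v, hv, hyv⟩
      · obtain ⟨i, hi⟩ := h
        change y ^ i = a at hi
        apply hga
        have : g⁻¹ * a * g = a := by rw [← hi, hσzpow, hyσ]
        calc g * a = g * (g⁻¹ * a * g) := by rw [this]
          _ = a * g := by group
      · apply not_pth_power a k hak ha1 (w * v) (mul_mem hw hv)
        rw [(show Commute w v from zpowers_comm a w v hw hv).mul_pow, ← ha'w, ← hyv, ha']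
        group
  -- Claim 3
  have hcl3 : ∀ x ∈ Subgroup.zpowers a, g⁻¹ * x * g = x⁻¹ := by
    intro x hx
    obtain ⟨i, hi⟩ := hx
    change a ^ i = x at hi
    rw [← hi, hσzpow, hcl2, inv_zpow]
  refine ⟨?_, ?_⟩
  · intro x hx
    calc x * g = g * (g⁻¹ * x * g) := by group
      _ = g * x⁻¹ := by rw [hcl3 x hx]
  · have h3 := hcl3 (g ^ 2) hg2
    have h4 : g⁻¹ * g ^ 2 * g = g ^ 2 := by group
    rw [h4] at h3
    have h5 : (g ^ 2) ^ 2 = 1 := by
      rw [pow_two (g ^ 2)]
      nth_rewrite 1 [h3]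
      rw [inv_mul_cancel]
    have h6 : g ^ 2 ≠ 1 := by
      intro h
      apply hgA
      have hg1 : g ≠ 1 := fun h' => hgA (h' ▸ one_mem _)
      exact Subgroup.zpowers_le.2 hzA (hU z g hz1 hz2 h)
    rw [← pow_two]
    exact eq_of_sq_eq_one hU z hz1 hz2 _ h6 h5

end two

theorem two_case {G : Type*} [Group G] [Finite G] (hG : IsPGroup 2 G) (hU : UniqP 2 G) :
    IsCyclic G ∨ ∃ n : ℕ, Nonempty (G ≃* QuaternionGroup (2 ^ n)) := by
  have hp2 : Fact (Nat.Prime 2) := ⟨Nat.prime_two⟩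
  by_cases hcomm : ∀ x y : G, x * y = y * x
  · exact Or.inl (isCyclic_of_comm hcomm hG hU)
  right
  obtain ⟨a, k, hak, hAn, hAc⟩ := setup hG hU
  have hAtop : Subgroup.zpowers a ≠ ⊤ := by
    intro h
    apply hcomm
    intro x y
    exact zpowers_comm a x y (h ▸ Subgroup.mem_top x) (h ▸ Subgroup.mem_top y)
  -- a non-central
  have hanc : ∃ x, x * a ≠ a * x := by
    by_contra h
    apply hAtop
    rw [eq_top_iff]
    intro x _
    apply hAc
    by_contra h'
    exact h ⟨x, h'⟩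
  have ha1 : a ≠ 1 := by
    obtain ⟨x, hx⟩ := hanc
    intro h; rw [h] at hx; simp at hx
  -- central involution
  have hnt : Nontrivial G := ⟨⟨a, 1, ha1⟩⟩
  have hcnt : Subgroup.center G ≠ ⊥ :=
    (Subgroup.nontrivial_iff_ne_bot _).1 hG.center_nontrivial
  obtain ⟨z, hzc, hz1, hz2⟩ := exists_order_p hG (Subgroup.center G) hcnt
  have hzA : z ∈ Subgroup.zpowers a := hAc z (Subgroup.mem_center_iff.1 hzc a).symm
  have key := key_inv hU a k hak hAn hAc z hzA hz1 hz2
  -- Claim 5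
  have hcl5 : ∀ h : G, h ^ 2 ∈ Subgroup.zpowers a := by
    by_contra hne
    have hne' : ∃ y : G, ¬ (y ^ 2 ∈ Subgroup.zpowers a) := by
      by_contra h'
      apply hne
      intro h
      by_contra h''
      exact h' ⟨h, h''⟩
    obtain ⟨y, hy2, hy4⟩ := exists_min_pred hG (fun y => y ^ 2 ∈ Subgroup.zpowers a)
      (by simp) hne'
    have hy2' : y ^ 2 ∉ Subgroup.zpowers a := hy2
    have hy4' : (y ^ 2) ^ 2 ∈ Subgroup.zpowers a := hy4
    obtain ⟨hinv, hgg⟩ := key (y ^ 2) hy2' hy4'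
    -- an element w of A with w^2 = z
    rcases gen_or_pth a k hak z hzA with h | ⟨w, hw, hzw⟩
    · obtain ⟨x, hx⟩ := hanc
      apply hx
      obtain ⟨i, hi⟩ := h
      change z ^ i = a at hi
      rw [← hi]
      exact (Subgroup.mem_center_iff.1 (Subgroup.zpow_mem _ hzc i) x)
    · -- τ w = y⁻¹ w y
      have hτA : y⁻¹ * w * y ∈ Subgroup.zpowers a := by
        have := hAn.conj_mem w hw y⁻¹
        rwa [inv_inv] at this
      have hτ2 : (y⁻¹ * w * y) ^ 2 = w ^ 2 := by
        have := conj_pow (a := y⁻¹) (b := w) (i := 2)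
        rw [inv_inv] at this
        rw [this, ← hzw]
        have hz' := Subgroup.mem_center_iff.1 hzc y
        calc y⁻¹ * z * y = y⁻¹ * (z * y) := by rw [mul_assoc]
          _ = y⁻¹ * (y * z) := by rw [hz' ]
          _ = z := by group
      -- (τ w * w⁻¹)^2 = 1
      have hu2 : (y⁻¹ * w * y * w⁻¹) ^ 2 = 1 := by
        rw [(show Commute (y⁻¹ * w * y) w⁻¹ from
          zpowers_comm a _ _ hτA (inv_mem hw)).mul_pow, hτ2, inv_pow, mul_inv_cancel]
      -- conj by y^2 inverts w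
      have hinvw : w * y ^ 2 = y ^ 2 * w⁻¹ := hinv w hw
      have hττ : y⁻¹ * (y⁻¹ * w * y) * y = w⁻¹ := by
        calc y⁻¹ * (y⁻¹ * w * y) * y = (y ^ 2)⁻¹ * (w * y ^ 2) := by
              rw [pow_two]; group
          _ = w⁻¹ := by rw [hinvw]; group
      have hw2 : w ^ 2 ≠ 1 := by rw [← hzw]; exact hz1
      by_cases hu1 : y⁻¹ * w * y * w⁻¹ = 1
      · have h1 : y⁻¹ * w * y = w := by rw [mul_inv_eq_one] at hu1; exact hu1
        rw [h1, h1] at hττ
        apply hw2
        rw [pow_two]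
        nth_rewrite 1 [hττ]
        rw [inv_mul_cancel]
      · have h1 := eq_of_sq_eq_one hU z hz1 hz2 _ hu1 hu2
        have h2 : y⁻¹ * w * y = z * w := by rw [← h1]; group
        rw [h2] at hττ
        have h3 : y⁻¹ * (z * w) * y = z * (y⁻¹ * w * y) := by
          have hz' := Subgroup.mem_center_iff.1 hzc y⁻¹
          calc y⁻¹ * (z * w) * y = (y⁻¹ * z) * w * y := by simp only [mul_assoc]
            _ = (z * y⁻¹) * w * y := by rw [hz']
            _ = z * (y⁻¹ * w * y) := by simp only [mul_assoc]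
        rw [h3, h2, ← mul_assoc, ← pow_two, hz2, one_mul] at hττ
        apply hw2
        rw [pow_two]
        nth_rewrite 1 [hττ]
        rw [inv_mul_cancel]
  -- Claim 6
  obtain ⟨g₀, hg₀⟩ : ∃ g₀, g₀ ∉ Subgroup.zpowers a := by
    by_contra h
    apply hAtop
    rw [eq_top_iff]
    intro x _
    by_contra h'
    exact h ⟨x, h'⟩
  obtain ⟨hinv₀, hgg₀⟩ := key g₀ hg₀ (hcl5 g₀)
  have hgen : ∀ x : G, x ∈ Subgroup.zpowers a ∨ g₀⁻¹ * x ∈ Subgroup.zpowers a := by
    intro x
    by_cases hx : x ∈ Subgroup.zpowers a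
    · exact Or.inl hx
    right
    obtain ⟨hinvx, -⟩ := key x hx (hcl5 x)
    apply hAc
    have e1 : a * x = x * a⁻¹ := hinvx a (Subgroup.mem_zpowers a)
    have e2 : a * g₀ = g₀ * a⁻¹ := hinv₀ a (Subgroup.mem_zpowers a)
    have e3 : a⁻¹ * x = x * a := by
      have := hinvx a⁻¹ (inv_mem (Subgroup.mem_zpowers a)); rwa [inv_inv] at this
    have e2' : a⁻¹ * g₀ = g₀ * a := by
      have := hinv₀ a⁻¹ (inv_mem (Subgroup.mem_zpowers a)); rwa [inv_inv] at this
    have e4 : g₀⁻¹ * a⁻¹ = a * g₀⁻¹ := by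
      calc g₀⁻¹ * a⁻¹ = g₀⁻¹ * (a⁻¹ * g₀) * g₀⁻¹ := by group
        _ = g₀⁻¹ * (g₀ * a) * g₀⁻¹ := by rw [e2']
        _ = a * g₀⁻¹ := by group
    calc g₀⁻¹ * x * a = g₀⁻¹ * (x * a) := by rw [mul_assoc]
      _ = g₀⁻¹ * (a⁻¹ * x) := by rw [e3]
      _ = (g₀⁻¹ * a⁻¹) * x := by rw [mul_assoc]
      _ = a * g₀⁻¹ * x := by rw [e4]
      _ = a * (g₀⁻¹ * x) := by rw [mul_assoc]
  -- k ≥ 1
  have hk0 : k ≠ 0 := by
    intro h0
    rw [h0, pow_zero, orderOf_eq_one_iff] at hak
    exact ha1 hak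
  obtain ⟨m, rfl⟩ : ∃ m, k = m + 1 := ⟨k - 1, by omega⟩
  have hord : orderOf a = 2 * 2 ^ m := by rw [hak, pow_succ, mul_comm]
  have haz : a ^ (2 ^ m) = z := by
    apply eq_of_sq_eq_one hU z hz1 hz2
    · apply pow_ne_one_of_lt_orderOf (by positivity)
      rw [hord]
      have : 0 < 2 ^ m := by positivity
      omega
    · rw [← pow_mul, ← pow_succ, ← hak, pow_orderOf_eq_one]
  have : NeZero (2 ^ m) := ⟨by positivity⟩
  exact ⟨m, quat_recognition (2 ^ m) a g₀ hord (by rw [hgg₀, haz]) hinv₀ hg₀ hgen⟩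

/-- A finite p-group in which only one subgroup has order p is either cyclic or (with p = 2) isomorphic to a generalized quaternion group. -/
theorem result {G : Type*} [Group G] [Finite G] (p : ℕ) [Fact p.Prime]
    (hG : IsPGroup p G) (huniq : ∀ H K : Subgroup G, Nat.card H = p → Nat.card K = p → H = K) :
    IsCyclic G ∨ (p = 2 ∧ ∃ n : ℕ, Nonempty (G ≃* QuaternionGroup (2 ^ n))) := by
  have hU : UniqP p G := uniqP_of_huniq p huniq
  by_cases hp2 : p = 2
  · subst hp2
    rcases two_case hG hU with h | h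
    · exact Or.inl h
    · exact Or.inr ⟨rfl, h⟩
  · exact Or.inl (odd_case hp2 _ G rfl hG hU)

end Cfsg.Agent.S0016
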