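import Cfsg.Statements.S0040
import Cfsg.Agent.S0016
import Cfsg.Agent.Lib.Helper48.CoprimeGen
import Cfsg.Agent.Lib.Helper86.Ess

set_option autoImplicit false
open Cfsg

namespace Cfsg.Agent.S0040

open Cfsg.Agent.Lib.Helper86 Cfsg.Agent.Lib.Helper48

/-- fixed point congruence for a map of order dividing `p` -/
theorem card_modEq_card_fixed {α : Type*} [Finite α] {p : ℕ} [hp : Fact p.Prime] (f : α → α)
    (hf : ∀ x, f^[p] x = x) : Nat.card α ≡ Nat.card {x : α // f x = x} [MOD p] := by
  classical
  have := Fintype.ofFinite α
  let F : Function.End α := f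
  have hpow : ∀ n : ℕ, ∀ x, (F ^ n) x = f^[n] x := by
    intro n
    induction n with
    | zero => intro x; rfl
    | succ n ih =>
      intro x
      rw [pow_succ, Function.iterate_succ_apply]
      show (F ^ n) (F x) = _
      rw [ih]
  have h1 : F ^ p ^ 1 = 1 := by
    rw [pow_one]
    funext x
    rw [hpow, hf]; rfl
  have h2 := Equiv.Perm.card_fixedPoints_modEq (f := F) h1
  rw [Nat.card_eq_fintype_card]
  have h3 : Fintype.card (Function.fixedPoints F) = Nat.card {x : α // f x = x} := by
    rw [← Nat.card_eq_fintype_card]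
    rfl
  rw [h3] at h2
  exact h2

/-- an element of order `p` acting without fixed points on a normal subgroup `K`: `p ∤ |K|` -/
theorem not_dvd_card_of_fpf {G : Type*} [Group G] [Finite G] (K : Subgroup G) [K.Normal] {p : ℕ}
    [hp : Fact p.Prime] (a : G) (ha : a ^ p = 1) (hfix : K ⊓ Subgroup.centralizer {a} = ⊥) :
    ¬ p ∣ Nat.card K := by
  let f : K → K := fun x => ⟨a * x * a⁻¹, (inferInstance : K.Normal).conj_mem (x : G) x.2 a⟩
  have hiter : ∀ n : ℕ, ∀ x : K, ((f^[n] x : K) : G) = a ^ n * x * (a ^ n)⁻¹ := by
    intro n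
    induction n with
    | zero => intro x; simp
    | succ n ih =>
      intro x
      rw [Function.iterate_succ_apply', ]
      show a * ((f^[n] x : K) : G) * a⁻¹ = _
      rw [ih, pow_succ']; group
  have hf : ∀ x, f^[p] x = x := by
    intro x
    apply Subtype.ext
    rw [hiter, ha]; group
  have h1 := card_modEq_card_fixed f hf
  have h2 : Nat.card {x : K // f x = x} = 1 := by
    rw [Nat.card_eq_one_iff_unique]
    refine ⟨⟨?_⟩, ⟨⟨1, ?_⟩⟩⟩
    · rintro ⟨x, hx⟩ ⟨y, hy⟩
      have key : ∀ w : K, f w = w → w = 1 := by
        intro w hw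
        have hwG : a * (w : G) * a⁻¹ = w := congrArg Subtype.val hw
        have : (w : G) ∈ K ⊓ Subgroup.centralizer {a} := by
          rw [Subgroup.mem_inf]
          refine ⟨w.2, ?_⟩
          rw [Subgroup.mem_centralizer_iff]
          intro y hy
          rw [Set.mem_singleton_iff] at hy
          rw [hy]
          calc a * (w : G) = (a * (w : G) * a⁻¹) * a := by group
            _ = (w : G) * a := by rw [hwG]
        rw [hfix, Subgroup.mem_bot] at this
        exact Subtype.ext this
      apply Subtype.ext
      show x = y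
      rw [key x hx, key y hy]
    · apply Subtype.ext
      show a * ((1 : K) : G) * a⁻¹ = ((1 : K) : G)
      simp
  rw [h2] at h1
  intro hdvd
  have h3 : Nat.card K ≡ 0 [MOD p] := Nat.modEq_zero_iff_dvd.mpr hdvd
  have h4 : 1 ≡ 0 [MOD p] := h1.symm.trans h3
  have h5 : p ∣ 1 := by
    have := (Nat.modEq_iff_dvd' (by norm_num : 0 ≤ 1)).mp h4.symm
    simpa using this
  exact hp.out.one_lt.ne' (Nat.dvd_one.mp h5)

/-- Sylow subgroups of Frobenius complements: if H complements a nontrivial normal subgroup K and every nonidentity element of H has trivial centraliser in K, then each Sylow subgroup of H is cyclic or isomorphic to a generalized quaternion group. -/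
theorem result {G : Type*} [Group G] [Finite G] (K H : Subgroup G) [K.Normal]
    (hc : Subgroup.IsComplement' K H) (hK : K ≠ ⊥) (hfpf : ∀ h ∈ H, h ≠ 1 → K ⊓ Subgroup.centralizer {h} = ⊥)
    (p : ℕ) [Fact p.Prime] (P : Sylow p H) :
    IsCyclic P ∨ ∃ n : ℕ, Nonempty (P ≃* QuaternionGroup (2 ^ n)) := by
  have hp : p.Prime := Fact.out
  have hPp : IsPGroup p (P : Subgroup H) := P.isPGroup'
  have huniq : ∀ H₁ K₁ : Subgroup (P : Subgroup H), Nat.card H₁ = p → Nat.card K₁ = p → H₁ = K₁ := by
    intro H₁ K₁ h1 hk1
    by_contra hne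
    -- generators
    have hgen : ∀ L : Subgroup (P : Subgroup H), Nat.card L = p →
        ∃ x : (P : Subgroup H), x ≠ 1 ∧ x ^ p = 1 ∧ Subgroup.zpowers x = L := by
      intro L hL
      have hLnt : Nontrivial L := by
        rw [← Finite.one_lt_card_iff_nontrivial, hL]; exact hp.one_lt
      obtain ⟨x, hx⟩ := exists_ne (1 : L)
      refine ⟨x, fun h => hx (Subtype.ext h), ?_, ?_⟩
      · have : x ^ Nat.card L = 1 := pow_card_eq_one'
        rw [hL] at this
        exact congrArg Subtype.val this
      · apply eq_of_le_of_prime_card hp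
        · rw [Subgroup.zpowers_le]; exact x.2
        · intro hbot
          have := Subgroup.mem_zpowers (x : (P : Subgroup H))
          rw [hbot, Subgroup.mem_bot] at this
          exact hx (Subtype.ext this)
        · exact hL
    obtain ⟨x, hx1, hxp, hxH⟩ := hgen H₁ h1
    obtain ⟨y, hy1, hyp, hyK⟩ := hgen K₁ hk1
    -- a central element of order p
    have hPnt : Nontrivial (P : Subgroup H) := ⟨⟨x, 1, hx1⟩⟩
    have hZnt : Nontrivial (Subgroup.center (P : Subgroup H)) := hPp.center_nontrivial
    have hZp : IsPGroup p (Subgroup.center (P : Subgroup H)) := hPp.to_subgroup _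
    obtain ⟨k, hk0, hk⟩ := hZp.nontrivial_iff_card.mp hZnt
    obtain ⟨z, hz⟩ := exists_prime_orderOf_dvd_card' p
      (show p ∣ Nat.card (Subgroup.center (P : Subgroup H)) by rw [hk]; exact dvd_pow_self p hk0.ne')
    have hzp : (z : (P : Subgroup H)) ^ p = 1 := by
      have : z ^ orderOf z = 1 := pow_orderOf_eq_one z
      rw [hz] at this
      exact congrArg Subtype.val this
    have hz1 : (z : (P : Subgroup H)) ≠ 1 := by
      intro h
      have : z = 1 := Subtype.ext h
      rw [this, orderOf_one] at hz
      exact hp.one_lt.ne hz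
    have hzcard : Nat.card (Subgroup.zpowers (z : (P : Subgroup H))) = p := by
      rw [Nat.card_zpowers]; exact orderOf_eq_prime hzp hz1
    -- choose b outside ⟨z⟩
    have hexb : ∃ b : (P : Subgroup H), b ^ p = 1 ∧ b ∉ Subgroup.zpowers (z : (P : Subgroup H)) := by
      by_cases hzH : Subgroup.zpowers (z : (P : Subgroup H)) = H₁
      · refine ⟨y, hyp, ?_⟩
        intro hy
        apply hne
        rw [← hzH, ← hyK]
        symm
        apply eq_of_le_of_prime_card hp
        · rw [Subgroup.zpowers_le]; exact hy
        · intro hbot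
          have := Subgroup.mem_zpowers y
          rw [hbot, Subgroup.mem_bot] at this
          exact hy1 this
        · exact hzcard
      · refine ⟨x, hxp, ?_⟩
        intro hx
        apply hzH
        rw [← hxH]
        symm
        apply eq_of_le_of_prime_card hp
        · rw [Subgroup.zpowers_le]; exact hx
        · intro hbot
          have := Subgroup.mem_zpowers x
          rw [hbot, Subgroup.mem_bot] at this
          exact hx1 this
        · exact hzcard
    obtain ⟨b, hbp, hbz⟩ := hexb
    -- pass to G
    set a' : G := (((z : (P : Subgroup H)) : H) : G) with ha'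
    set b' : G := (((b : (P : Subgroup H)) : H) : G) with hb'
    have ha'p : a' ^ p = 1 := by
      have := congrArg (fun w : (P : Subgroup H) => ((w : H) : G)) hzp
      simpa using this
    have hb'p : b' ^ p = 1 := by
      have := congrArg (fun w : (P : Subgroup H) => ((w : H) : G)) hbp
      simpa using this
    have hcomm : a' * b' = b' * a' := by
      have h := Subgroup.mem_center_iff.mp z.2 b
      have := congrArg (fun w : (P : Subgroup H) => ((w : H) : G)) h
      simpa using this.symm
    have ha'1 : a' ≠ 1 := by
      intro h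
      apply hz1
      apply Subtype.ext; apply Subtype.ext
      exact h
    have ha'H : a' ∈ H := ((z : (P : Subgroup H)) : H).2
    have hb'H : b' ∈ H := ((b : (P : Subgroup H)) : H).2
    have hb'z : b' ∉ Subgroup.zpowers a' := by
      intro hmem
      obtain ⟨n, hn⟩ := Subgroup.mem_zpowers_iff.mp hmem
      apply hbz
      rw [Subgroup.mem_zpowers_iff]
      refine ⟨n, ?_⟩
      apply Subtype.ext; apply Subtype.ext
      rw [← hb', ← hn, ha']
      simp
    have hb'1 : b' ≠ 1 := fun h => hb'z (h ▸ one_mem _)
    have hKp : ¬ p ∣ Nat.card K := not_dvd_card_of_fpf K a' ha'p (hfpf a' ha'H ha'1)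
    have hgenle := coprime_gen K a' b' ha'p hb'p hcomm hKp
    apply hK
    rw [eq_bot_iff]
    refine hgenle.trans ?_
    unfold genSub
    apply iSup₂_le
    intro c hc
    have hcH : c ∈ H := by
      rcases hc with rfl | ⟨n, rfl⟩
      · exact hb'H
      · exact mul_mem ha'H (pow_mem hb'H n)
    have hc1 : c ≠ 1 := by
      rcases hc with rfl | ⟨n, rfl⟩
      · exact hb'1
      · intro h
        apply hb'z
        have haz : a' ∈ Subgroup.zpowers b' := by
          have : a' = (b' ^ n)⁻¹ := eq_inv_of_mul_eq_one_left h
          rw [this]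
          exact inv_mem (Subgroup.pow_mem _ (Subgroup.mem_zpowers b') n)
        have heq : Subgroup.zpowers a' = Subgroup.zpowers b' := by
          apply eq_of_le_of_prime_card hp
          · rw [Subgroup.zpowers_le]; exact haz
          · intro hbot
            have := Subgroup.mem_zpowers a'
            rw [hbot, Subgroup.mem_bot] at this
            exact ha'1 this
          · rw [Nat.card_zpowers]; exact orderOf_eq_prime hb'p hb'1
        rw [heq]; exact Subgroup.mem_zpowers b'
    rw [hfpf c hcH hc1]
  rcases Cfsg.Agent.S0016.result p hPp huniq with h | ⟨-, h⟩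
  · exact Or.inl h
  · exact Or.inr h

end Cfsg.Agent.S0040
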