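import Cfsg.Statements.S0041
import Cfsg.Agent.Lib.Helper34.FpfCyclic

set_option autoImplicit false
set_option linter.style.haveILetI false
set_option warn.classDefReducibility false
open Cfsg

namespace Cfsg.Agent.S0041

open Cfsg.Agent.Lib.Helper34
open scoped IsMulCommutative

/-- The conjugation action of a subgroup `A ≤ N_G(V)` on `V`. -/
def conjAction {G : Type*} [Group G] (A V : Subgroup G)
    (h : A ≤ Subgroup.normalizer (V : Set G)) : MulDistribMulAction ↥A ↥V where
  smul a v := ⟨a * v * (a : G)⁻¹, (Subgroup.mem_normalizer_iff.mp (h a.2) v).mp v.2⟩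
  one_smul v := by
    apply Subtype.ext
    show ((1 : ↥A) : G) * v * ((1 : ↥A) : G)⁻¹ = v
    simp
  mul_smul a b v := by
    apply Subtype.ext
    show ((a * b : ↥A) : G) * v * ((a * b : ↥A) : G)⁻¹ = a * (b * v * (b : G)⁻¹) * (a : G)⁻¹
    simp [mul_assoc]
  smul_mul a v w := by
    apply Subtype.ext
    show (a : G) * ((v * w : ↥V) : G) * (a : G)⁻¹ = (a * v * (a : G)⁻¹) * (a * w * (a : G)⁻¹)
    simp [mul_assoc]
  smul_one a := by
    apply Subtype.ext
    show (a : G) * ((1 : ↥V) : G) * (a : G)⁻¹ = 1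
    simp

/-- A group acting on a nontrivial abelian group so that no nonidentity element has a nonidentity fixed point is cyclic, provided it is abelian or its order is a product of two (possibly equal) primes. -/
theorem result {G : Type*} [Group G] [Finite G] (A V : Subgroup G) [IsMulCommutative V]
    (hV : V ≠ ⊥) (hAV : A ≤ Subgroup.normalizer (V : Set G)) (hfpf : ∀ a ∈ A, a ≠ 1 → V ⊓ Subgroup.centralizer {a} = ⊥)
    (hA : IsMulCommutative A ∨ ∃ p q : ℕ, p.Prime ∧ q.Prime ∧ Nat.card A = p * q) : IsCyclic A := by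
  letI := conjAction A V hAV
  have hf : Fpf ↥A ↥V := by
    intro a ha v hv
    have h1 : (a : G) * v * (a : G)⁻¹ = v := congrArg Subtype.val hv
    have hmem : (v : G) ∈ V ⊓ Subgroup.centralizer {(a : G)} := by
      refine Subgroup.mem_inf.mpr ⟨v.2, ?_⟩
      rw [Subgroup.mem_centralizer_iff]
      intro x hx
      rw [Set.mem_singleton_iff] at hx
      rw [hx]
      have := congrArg (fun z => z * (a : G)) h1
      simpa [mul_assoc] using this
    have ha' : (a : G) ≠ 1 := fun h => ha (Subtype.ext h)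
    rw [hfpf a a.2 ha'] at hmem
    exact Subtype.ext (Subgroup.mem_bot.mp hmem)
  have hnt : ∃ v : ↥V, v ≠ 1 := by
    obtain ⟨x, hx, hx1⟩ := V.bot_or_exists_ne_one.resolve_left hV
    exact ⟨⟨x, hx⟩, fun h => hx1 (congrArg Subtype.val h)⟩
  rcases hA with hc | ⟨p, q, hp, hq, hcard⟩
  · exact isCyclic_of_comm hf hnt
  · haveI : Fintype ↥A := Fintype.ofFinite _
    exact isCyclic_of_card_eq_mul hf hnt hp hq hcard

end Cfsg.Agent.S0041
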