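import Cfsg.Statements.S0042
import Cfsg.Agent.S0035
import Cfsg.Agent.S0033

set_option autoImplicit false
open Cfsg
open Pointwise

namespace Cfsg.Agent.S0042


universe u

theorem reduction
    (thompson : ∀ {K : Type u} [Group K] [Finite K] (φ : K ≃* K),
      MonoidHom.FixedPointFree (φ : K →* K) → ∀ p : ℕ, p.Prime → orderOf φ = p → Group.IsNilpotent K)
    {G : Type u} [Group G] [Finite G] (H : Subgroup G) (hH : Cfsg.IsFrobeniusComplement H) :
    ∃ N : Subgroup G, (N : Set G) = Cfsg.frobeniusKernel H ∧ N.Normal ∧ Group.IsNilpotent N := by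
  obtain ⟨N, hNk, hNn, hNc⟩ := Cfsg.Agent.S0035.result H hH
  refine ⟨N, hNk, hNn, ?_⟩
  obtain ⟨hHbot, hHtop, hfrob⟩ := hH
  -- a prime order element of H
  have hHcard : Nat.card H ≠ 1 := by
    intro h1
    exact hHbot (Subgroup.card_eq_one.mp h1)
  obtain ⟨p, hp, hpd⟩ := Nat.exists_prime_and_dvd hHcard
  haveI : Fact p.Prime := ⟨hp⟩
  obtain ⟨h, hh⟩ := exists_prime_orderOf_dvd_card' (G := H) p hpd
  have hh1 : (h : G) ≠ 1 := by
    intro h1
    have : h = 1 := Subtype.ext h1
    rw [this, orderOf_one] at hh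
    exact hp.one_lt.ne hh
  have hhp : (h : G) ^ p = 1 := by
    have : h ^ p = 1 := by rw [← hh]; exact pow_orderOf_eq_one h
    have := congrArg Subtype.val this
    simpa using this
  let φ : N ≃* N := MulAut.conjNormal (h : G)
  have hφapply : ∀ n : N, ((φ n : N) : G) = (h : G) * n * (h : G)⁻¹ := fun n => rfl
  have hdisj : N ⊓ H = ⊥ := hNc.disjoint.eq_bot
  have hfpf : MonoidHom.FixedPointFree (φ : N →* N) := by
    intro n hn
    have hn' : (h : G) * n * (h : G)⁻¹ = n := by
      have := congrArg Subtype.val hn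
      exact this
    have hcomm : (n : G) * h * (n : G)⁻¹ = h := by
      calc (n : G) * h * (n : G)⁻¹ = ((h : G) * n * (h : G)⁻¹) * h * (n : G)⁻¹ := by rw [hn']
        _ = h := by group
    by_cases hnH : (n : G) ∈ H
    · have : (n : G) ∈ N ⊓ H := ⟨n.2, hnH⟩
      rw [hdisj] at this
      exact Subtype.ext (Subgroup.mem_bot.mp this)
    · exfalso
      have h2 : (h : G) ∈ H ⊓ (MulAut.conj (n : G) • H) := by
        refine ⟨h.2, ?_⟩
        show (h : G) ∈ MulAut.conj (n : G) • H
        rw [Subgroup.mem_pointwise_smul_iff_inv_smul_mem]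
        show (MulAut.conj (n : G))⁻¹ (h : G) ∈ H
        rw [← map_inv, MulAut.conj_apply]
        have hc2 : (n : G) * h = h * n := by
          calc (n : G) * h = ((n : G) * h * (n : G)⁻¹) * n := by group
            _ = h * n := by rw [hcomm]
        have : (n : G)⁻¹ * h * ((n : G)⁻¹)⁻¹ = h := by
          rw [inv_inv, mul_assoc, ← hc2, inv_mul_cancel_left]
        rw [this]; exact h.2
      rw [hfrob _ hnH] at h2
      exact hh1 (Subgroup.mem_bot.mp h2)
  -- N nontrivial
  have hNne : ∃ n : N, n ≠ 1 := by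
    by_contra hno
    push Not at hno
    have hNbot : N = ⊥ := by
      rw [Subgroup.eq_bot_iff_forall]
      intro x hx
      have := hno ⟨x, hx⟩
      exact congrArg Subtype.val this
    have := hNc.sup_eq_top
    rw [hNbot, bot_sup_eq] at this
    exact hHtop this
  have hφp : φ ^ p = 1 := by
    show (MulAut.conjNormal (h : G) : MulAut N) ^ p = 1
    rw [← map_pow, hhp, map_one]
  have hφ1 : φ ≠ 1 := by
    intro h1
    obtain ⟨n, hn⟩ := hNne
    apply hn
    apply hfpf
    show φ n = n
    rw [h1]; rfl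
  have hord : orderOf φ = p := orderOf_eq_prime hφp hφ1
  exact thompson φ hfpf p hp hord


/-- In a finite Frobenius group, the Frobenius kernel is (the carrier of) a normal subgroup which is nilpotent. -/
theorem result {G : Type*} [Group G] [Finite G] (H : Subgroup G) (hH : Cfsg.IsFrobeniusComplement H) :
    ∃ N : Subgroup G, (N : Set G) = Cfsg.frobeniusKernel H ∧ N.Normal ∧ Group.IsNilpotent N := by
  exact reduction (fun φ hφ p hp hord => Cfsg.Agent.S0033.result φ hφ p hp hord) H hH

end Cfsg.Agent.S0042
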