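import Cfsg.Statements.S1460
import Cfsg.Agent.Lib.Helper24.Glauberman
import Mathlib.GroupTheory.Abelianization.Defs

set_option autoImplicit false
open Cfsg

namespace Cfsg.Agent.S1460

open Subgroup Cfsg.Agent.Lib.Helper24 Cfsg.Agent.Lib.Helper33
open scoped Pointwise commutatorElement

/-- Part (3): the conjugation statement. -/
theorem part3 {G : Type*} [Group G] [Finite G] [Group.IsSolvable G] (K U H : Subgroup G) [K.Normal]
    (hKU : K ⊔ U = ⊤) (hH : H ≤ U) (hcop : (Nat.card H).Coprime (Nat.card K))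
    (g : G) (hg : cj g H ≤ U) :
    ∃ u ∈ U, ∃ c ∈ K ⊓ centralizer (H : Set G), g = u * c := by
  have hgmem : g ∈ ((U ⊔ K : Subgroup G) : Set G) := by rw [sup_comm, hKU]; trivial
  rw [mul_normal] at hgmem
  obtain ⟨u₀, hu₀, k, hk, rfl⟩ := hgmem
  -- H₂ = cj k H ≤ U
  have hH₂U : cj k H ≤ U := by
    have h1 : cj u₀⁻¹ (cj (u₀ * k) H) ≤ cj u₀⁻¹ U := cj_mono hg
    rwa [cj_mul, cj_inv_cj, cj_eq_self_of_mem (U.inv_mem hu₀)] at h1
  set N := K ⊓ U with hN
  have hNK : N ≤ K := inf_le_left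
  have hNU : N ≤ U := inf_le_right
  have hHN : H ≤ normalizer (N : Set G) := by
    intro h hh
    rw [← cj_eq_self_iff, hN, cj_inf, cj_eq_self_of_mem (hH hh)]
    have : cj h K = K := cj_eq_self_iff.mpr (by rw [normalizer_eq_top]; trivial)
    rw [this]
  have hcopN : (Nat.card H).Coprime (Nat.card N) :=
    Nat.Coprime.coprime_dvd_right (card_dvd_of_le hNK) hcop
  have hH₂le : cj k H ≤ H ⊔ N := by
    intro x hx
    have hxU : x ∈ U := hH₂U hx
    rw [mem_cj'] at hx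
    obtain ⟨h, hh, rfl⟩ := hx
    have h1 : h⁻¹ * k * h * k⁻¹ ∈ K := by
      have : h⁻¹ * k * h⁻¹⁻¹ ∈ K := Normal.conj_mem inferInstance k hk h⁻¹
      rw [inv_inv] at this
      exact K.mul_mem this (K.inv_mem hk)
    have h2 : h⁻¹ * k * h * k⁻¹ ∈ U := by
      have e : h⁻¹ * k * h * k⁻¹ = h⁻¹ * (k * h * k⁻¹) := by group
      rw [e]; exact U.mul_mem (U.inv_mem (hH hh)) hxU
    have e : k * h * k⁻¹ = h * (h⁻¹ * k * h * k⁻¹) := by group
    rw [e]
    exact mul_mem (mem_sup_left hh) (mem_sup_right ⟨h1, h2⟩)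
  have hsolvN : Group.IsSolvable N ∨ Group.IsSolvable H := Or.inl inferInstance
  obtain ⟨n, hn, hnH⟩ := rel_sz_conj N H (cj k H) hHN hcopN hsolvN hH₂le (card_cj k H)
  have hHK0 : H ⊓ K = ⊥ := (disjoint_of_coprime_natCard hcop).eq_bot
  have hHK : H ≤ normalizer (K : Set G) := by rw [normalizer_eq_top]; exact le_top
  have hc : n⁻¹ * k ∈ centralizer (H : Set G) := by
    apply mem_centralizer_of_cj_eq H K hHK hHK0 _ (K.mul_mem (K.inv_mem (hNK hn)) hk)
    rw [cj_mul, ← hnH, cj_inv_cj]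
  refine ⟨u₀ * n, U.mul_mem hu₀ (hNU hn), n⁻¹ * k,
    ⟨K.mul_mem (K.inv_mem (hNK hn)) hk, hc⟩, by group⟩

/-- Part (1): `H ∩ G' ≤ U'`. -/
theorem part1 {G : Type*} [Group G] [Finite G] (K U H : Subgroup G) [K.Normal]
    (hKU : K ⊔ U = ⊤) (hH : H ≤ U) (hcop : (Nat.card H).Coprime (Nat.card K))
    (x : G) (hxH : x ∈ H) (hxG : x ∈ commutator G) : x ∈ ⁅U, U⁆ := by
  -- G' ≤ U' K
  have hle : commutator G ≤ ⁅U, U⁆ ⊔ K := by
    rw [commutator_def, commutator_le]
    intro g₁ _ g₂ _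
    have hg₁ : g₁ ∈ ((U ⊔ K : Subgroup G) : Set G) := by rw [sup_comm, hKU]; trivial
    have hg₂ : g₂ ∈ ((U ⊔ K : Subgroup G) : Set G) := by rw [sup_comm, hKU]; trivial
    rw [mul_normal] at hg₁ hg₂
    obtain ⟨u₁, hu₁, k₁, hk₁, rfl⟩ := hg₁
    obtain ⟨u₂, hu₂, k₂, hk₂, rfl⟩ := hg₂
    have h1 : ⁅u₁, u₂⁆⁻¹ * ⁅u₁ * k₁, u₂ * k₂⁆ ∈ K := by
      rw [← QuotientGroup.eq_one_iff (N := K)]
      have e1 : ((k₁ : G) : G ⧸ K) = 1 := (QuotientGroup.eq_one_iff _).mpr hk₁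
      have e2 : ((k₂ : G) : G ⧸ K) = 1 := (QuotientGroup.eq_one_iff _).mpr hk₂
      simp only [commutatorElement_def, QuotientGroup.mk_mul, QuotientGroup.mk_inv, e1, e2,
        mul_one, inv_one, mul_inv_rev, inv_inv]
      group
    have e : ⁅u₁ * k₁, u₂ * k₂⁆ = ⁅u₁, u₂⁆ * (⁅u₁, u₂⁆⁻¹ * ⁅u₁ * k₁, u₂ * k₂⁆) := by group
    change ⁅u₁ * k₁, u₂ * k₂⁆ ∈ _
    rw [e]
    exact mul_mem (mem_sup_left (commutator_mem_commutator hu₁ hu₂)) (mem_sup_right h1)
  have hx : x ∈ ((⁅U, U⁆ ⊔ K : Subgroup G) : Set G) := hle hxG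
  rw [mul_normal] at hx
  obtain ⟨u, hu, k, hk, hxuk⟩ := hx
  simp only at hxuk
  have hUU : ⁅U, U⁆ ≤ U := commutator_le_of_le_normalizer U U le_normalizer
  have huU : u ∈ U := hUU hu
  have hxU : x ∈ U := hH hxH
  have hkU : k ∈ U := by
    have e : k = u⁻¹ * x := by rw [← hxuk]; group
    rw [e]; exact U.mul_mem (U.inv_mem huU) hxU
  -- work in the abelianization of U
  let φ : U →* Abelianization U := Abelianization.of
  have hφu : φ ⟨u, huU⟩ = 1 := by
    have : (⟨u, huU⟩ : U) ∈ commutator U := by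
      have h1 : u ∈ (commutator U).map U.subtype := by rw [map_subtype_commutator]; exact hu
      obtain ⟨u', hu', hu'u⟩ := h1
      have : u' = ⟨u, huU⟩ := Subtype.ext hu'u
      rw [← this]; exact hu'
    rw [← Abelianization.ker_of] at this
    exact this
  have hφx : φ ⟨x, hxU⟩ = φ ⟨k, hkU⟩ := by
    have e : (⟨x, hxU⟩ : U) = ⟨u, huU⟩ * ⟨k, hkU⟩ := Subtype.ext hxuk.symm
    rw [e, map_mul, hφu, one_mul]
  have h1 : φ ⟨x, hxU⟩ ^ Nat.card H = 1 := by
    rw [← map_pow]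
    have : (⟨x, hxU⟩ : U) ^ Nat.card H = 1 := by
      apply Subtype.ext
      have h2 : (⟨x, hxH⟩ : H) ^ Nat.card H = 1 := pow_card_eq_one'
      have h3 : ((⟨x, hxH⟩ : H) ^ Nat.card H : H).1 = (1 : H).1 := by rw [h2]
      exact h3
    rw [this, map_one]
  have h2 : φ ⟨x, hxU⟩ ^ Nat.card K = 1 := by
    rw [hφx, ← map_pow]
    have : (⟨k, hkU⟩ : U) ^ Nat.card K = 1 := by
      apply Subtype.ext
      have h2 : (⟨k, hk⟩ : K) ^ Nat.card K = 1 := pow_card_eq_one'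
      have h3 : ((⟨k, hk⟩ : K) ^ Nat.card K : K).1 = (1 : K).1 := by rw [h2]
      exact h3
    rw [this, map_one]
  have h3 : orderOf (φ ⟨x, hxU⟩) ∣ Nat.gcd (Nat.card H) (Nat.card K) :=
    Nat.dvd_gcd (orderOf_dvd_of_pow_eq_one h1) (orderOf_dvd_of_pow_eq_one h2)
  rw [hcop, Nat.dvd_one, orderOf_eq_one_iff] at h3
  have h4 : (⟨x, hxU⟩ : U) ∈ commutator U := by
    rw [← Abelianization.ker_of]; exact h3
  have h5 : x ∈ (commutator U).map U.subtype := ⟨⟨x, hxU⟩, h4, rfl⟩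
  rwa [map_subtype_commutator] at h5

/-- Let G be a finite solvable group, K a normal subgroup and U a subgroup with G = KU, and H ≤ U a subgroup whose order is coprime to that of K. Then H ∩ G' = H ∩ U'; N_G(H) is generated by K ∩ C_G(H) and U ∩ N_G(H); and if gHg⁻¹ ≤ U for some g ∈ G then g = u c with u ∈ U and c ∈ K ∩ C_G(H). -/
theorem result {G : Type*} [Group G] [Finite G] [Group.IsSolvable G] (K U H : Subgroup G) [K.Normal] (hKU : K ⊔ U = ⊤) (hH : H ≤ U) (hcop : (Nat.card H).Coprime (Nat.card K)) :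
    H ⊓ commutator G = H ⊓ ⁅U, U⁆ ∧
      Subgroup.normalizer (H : Set G) = (K ⊓ Subgroup.centralizer (H : Set G)) ⊔ (U ⊓ Subgroup.normalizer (H : Set G)) ∧
      ∀ g : G, H.map (MulAut.conj g).toMonoidHom ≤ U → ∃ u ∈ U, ∃ c ∈ K ⊓ Subgroup.centralizer (H : Set G), g = u * c := by
  refine ⟨?_, ?_, ?_⟩
  · apply le_antisymm
    · intro x hx
      exact ⟨hx.1, part1 K U H hKU hH hcop x hx.1 hx.2⟩
    · apply inf_le_inf_left
      rw [commutator_def]
      exact commutator_mono le_top le_top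
  · apply le_antisymm
    · intro g hg
      have hgH : cj g H ≤ U := by rw [cj_eq_self_iff.mpr hg]; exact hH
      obtain ⟨u, hu, c, hc, rfl⟩ := part3 K U H hKU hH hcop g hgH
      have hcN : c ∈ normalizer (H : Set G) := centralizer_le_normalizer (H : Set G) hc.2
      have huN : u ∈ normalizer (H : Set G) := by
        have e : u = (u * c) * c⁻¹ := by group
        rw [e]; exact mul_mem hg (inv_mem hcN)
      -- u * c = (u c u⁻¹) * u
      have hc' : u * c * u⁻¹ ∈ K ⊓ centralizer (H : Set G) := by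
        refine ⟨Normal.conj_mem inferInstance c hc.1 u, ?_⟩
        have h1 : cj u (centralizer (H : Set G)) = centralizer ((cj u H : Subgroup G) : Set G) :=
          (centralizer_cj u H).symm
        rw [cj_eq_self_iff.mpr huN] at h1
        have : u * c * u⁻¹ ∈ cj u (centralizer (H : Set G)) := conj_mem_cj hc.2
        rwa [h1] at this
      have e : u * c = (u * c * u⁻¹) * u := by group
      rw [e]
      exact mul_mem (mem_sup_left hc') (mem_sup_right ⟨hu, huN⟩)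
    · exact sup_le (le_trans inf_le_right (centralizer_le_normalizer (H : Set G))) inf_le_right
  · intro g hg
    exact part3 K U H hKU hH hcop g hg

end Cfsg.Agent.S1460
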