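import Cfsg.Statements.S1461
import Cfsg.Agent.S1460
import Cfsg.Agent.Lib.Helper24.PLenOne

set_option autoImplicit false
set_option linter.style.haveILetI false
open Cfsg

namespace Cfsg.Agent.S1461

open Cfsg.Agent.Lib.Helper24 Cfsg.Agent.Lib.Helper33 in
/-- Let G be a finite solvable group, p a prime with G = O_{p',p,p'}(G), and S a Sylow p-subgroup. Then: if S ≤ G' then S ≤ [N_G(S), N_G(S)]; if Y ⊆ S and xYx⁻¹ ⊆ S then x = g c for some g ∈ N_G(S) and c centralizing Y; and for every p-subgroup Q there is x ∈ C_G(Q ∩ S) with xQx⁻¹ ≤ S. -/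
theorem result {G : Type*} [Group G] [Finite G] [Group.IsSolvable G] (p : ℕ) [Fact p.Prime] (hpl : Cfsg.PLengthLE p 1 G) (S : Sylow p G) :
    ((S : Subgroup G) ≤ commutator G → (S : Subgroup G) ≤ ⁅Subgroup.normalizer ((S : Subgroup G) : Set G), Subgroup.normalizer ((S : Subgroup G) : Set G)⁆) ∧
      (∀ (Y : Set G) (x : G), Y ⊆ (S : Subgroup G) → (fun y => x * y * x⁻¹) '' Y ⊆ (S : Subgroup G) →
        ∃ g ∈ Subgroup.normalizer ((S : Subgroup G) : Set G), ∃ c ∈ Subgroup.centralizer Y, g * c = x) ∧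
      ∀ Q : Subgroup G, IsPGroup p Q → ∃ x ∈ Subgroup.centralizer ((Q ⊓ (S : Subgroup G) : Subgroup G) : Set G), Q.map (MulAut.conj x).toMonoidHom ≤ (S : Subgroup G) := by
  obtain ⟨hMn, hKU⟩ := plen_one_struct hpl S
  set K := pPrimeCore p G with hK
  haveI hKn : K.Normal := Cfsg.Agent.Lib.Helper55.pPrimeCore_normal' p
  have hKc : (Nat.card K).Coprime p := Cfsg.Agent.Lib.Helper55.pPrimeCore_card_coprime p
  set U := Subgroup.normalizer ((S : Subgroup G) : Set G) with hU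
  have hSU : (S : Subgroup G) ≤ U := Subgroup.le_normalizer
  have hcopS : ∀ H : Subgroup G, H ≤ (S : Subgroup G) → (Nat.card H).Coprime (Nat.card K) := by
    intro H hH
    have hHp : IsPGroup p H := S.2.to_le hH
    obtain ⟨k, hk⟩ := IsPGroup.iff_card.mp hHp
    rw [hk]
    exact (Nat.Coprime.pow_right k hKc).symm
  refine ⟨?_, ?_, ?_⟩
  · intro hS x hx
    exact Cfsg.Agent.S1460.part1 K U S hKU hSU (hcopS S le_rfl) x hx (hS hx)
  · intro Y x hY hxY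
    have hHS : Subgroup.closure Y ≤ (S : Subgroup G) := (Subgroup.closure_le _).mpr hY
    have hg : cj x (Subgroup.closure Y) ≤ U := by
      rw [cj, MonoidHom.map_closure]
      refine le_trans ((Subgroup.closure_le _).mpr ?_) hSU
      rintro z ⟨y, hy, rfl⟩
      exact hxY ⟨y, hy, rfl⟩
    obtain ⟨u, hu, c, hc, hxe⟩ := Cfsg.Agent.S1460.part3 K U (Subgroup.closure Y) hKU
      (hHS.trans hSU) (hcopS _ hHS) x hg
    refine ⟨u, hu, c, ?_, hxe.symm⟩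
    have := hc.2
    rwa [Subgroup.centralizer_closure] at this
  · intro Q hQ
    obtain ⟨P, hQP⟩ := hQ.exists_le_sylow
    obtain ⟨g, hg⟩ := sylow_exists_cj S P
    have hgmem : g ∈ ((K ⊔ U : Subgroup G) : Set G) := by rw [hKU]; trivial
    rw [Subgroup.normal_mul] at hgmem
    obtain ⟨k, hk, u, hu, rfl⟩ := hgmem
    have hcu : cj u (S : Subgroup G) = (S : Subgroup G) := cj_eq_self_iff.mpr hu
    rw [cj_mul, hcu] at hg
    have hQk : cj k⁻¹ Q ≤ (S : Subgroup G) := by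
      rw [← le_cj_iff, hg]; exact hQP
    refine ⟨k⁻¹, ?_, hQk⟩
    have hSK : (S : Subgroup G) ⊓ K = ⊥ := (Subgroup.disjoint_of_coprime_natCard (hcopS S le_rfl)).eq_bot
    rw [Subgroup.mem_centralizer_iff]
    intro r hr
    have hr' : r ∈ Q ⊓ (S : Subgroup G) := hr
    have h1 : k⁻¹ * r * k⁻¹⁻¹ ∈ (S : Subgroup G) := hQk (conj_mem_cj hr'.1)
    have h2 : k⁻¹ * r * k⁻¹⁻¹ * r⁻¹ ∈ (S : Subgroup G) := mul_mem h1 (inv_mem hr'.2)
    have h3 : k⁻¹ * r * k⁻¹⁻¹ * r⁻¹ ∈ K := by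
      have : r * k⁻¹⁻¹ * r⁻¹ ∈ K := hKn.conj_mem _ (K.inv_mem (K.inv_mem hk)) r
      have e : k⁻¹ * r * k⁻¹⁻¹ * r⁻¹ = k⁻¹ * (r * k⁻¹⁻¹ * r⁻¹) := by group
      rw [e]; exact K.mul_mem (K.inv_mem hk) this
    have h4 : k⁻¹ * r * k⁻¹⁻¹ * r⁻¹ ∈ (S : Subgroup G) ⊓ K := ⟨h2, h3⟩
    rw [hSK, Subgroup.mem_bot] at h4
    have e : r * k⁻¹ = (k⁻¹ * r * k⁻¹⁻¹ * r⁻¹)⁻¹ * (k⁻¹ * r) := by group
    rw [e, h4]; simp

end Cfsg.Agent.S1461
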