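import Mathlib
import Cfsg.Statements.S4093

set_option autoImplicit false
open Cfsg
open scoped BigOperators

namespace Cfsg.Agent.S4093

theorem orderOf_conj' {G : Type*} [Group G] (c g : G) : orderOf (c * g * c⁻¹) = orderOf g := by
  have : c * g * c⁻¹ = MulAut.conj c g := by simp
  rw [this]; exact MulEquiv.orderOf_eq _ _

theorem exists_conj_mem_sylow {G : Type*} [Group G] [Finite G] (p : ℕ) [Fact p.Prime] (P : Sylow p G)
    (x : G) (hx : ∃ a : ℕ, orderOf x = p ^ a) : ∃ a : G, a⁻¹ * x * a ∈ (P : Subgroup G) := by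
  obtain ⟨k, hk⟩ := hx
  have hQ : IsPGroup p (Subgroup.zpowers x) := by
    rw [IsPGroup.iff_card]
    exact ⟨k, by rw [Nat.card_zpowers, hk]⟩
  have hidx : ¬ p ∣ Nat.card (G ⧸ (P : Subgroup G)) := P.not_dvd_index
  obtain ⟨ω, hω⟩ := hQ.nonempty_fixed_point_of_prime_not_dvd_card (G ⧸ (P : Subgroup G)) hidx
  obtain ⟨a, rfl⟩ := QuotientGroup.mk_surjective ω
  have hza : (⟨x, Subgroup.mem_zpowers x⟩ : Subgroup.zpowers x) • (a : G ⧸ (P : Subgroup G)) = a :=
    hω _
  have hza' : ((x * a : G) : G ⧸ (P : Subgroup G)) = (a : G ⧸ (P : Subgroup G)) := hza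
  refine ⟨a, ?_⟩
  have := QuotientGroup.eq.1 hza'
  have h2 : (a⁻¹ * x * a)⁻¹ ∈ (P : Subgroup G) := by
    have e : (a⁻¹ * x * a)⁻¹ = (x * a)⁻¹ * a := by group
    rw [e]; exact this
  exact (Subgroup.inv_mem_iff _).1 h2

/-- conjugation action of the subgroup `N` on `G` -/
@[reducible] def conjAct {G : Type*} [Group G] (N : Subgroup G) : MulAction N G :=
  MulAction.compHom G ((MulAut.conj : G →* MulAut G).comp N.subtype)

theorem conjAct_smul {G : Type*} [Group G] (N : Subgroup G) (m : N) (g : G) :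
    (letI := conjAct N; m • g) = (m : G) * g * (m : G)⁻¹ := rfl

theorem card_orbit {G : Type*} [Group G] [Finite G] (N : Subgroup G) (x : G) :
    (letI := conjAct N; Nat.card (MulAction.orbit N x)) =
      Nat.card N / Nat.card ↥(N ⊓ Subgroup.centralizer ({x} : Set G)) := by
  letI := conjAct N
  classical
  haveI : Fintype N := Fintype.ofFinite _
  haveI : Fintype (MulAction.orbit N x) := Fintype.ofFinite _
  haveI : Fintype (MulAction.stabilizer N x) := Fintype.ofFinite _
  have h := MulAction.card_orbit_mul_card_stabilizer_eq_card_group N x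
  have hst : Nat.card (MulAction.stabilizer N x) = Nat.card ↥(N ⊓ Subgroup.centralizer ({x} : Set G)) := by
    apply Nat.card_congr
    refine
      { toFun := fun m => ⟨(m.1 : G), ⟨m.1.2, ?_⟩⟩
        invFun := fun g => ⟨⟨g.1, g.2.1⟩, ?_⟩
        left_inv := fun m => rfl
        right_inv := fun g => rfl }
    · have hm : (m.1 : G) * x * (m.1 : G)⁻¹ = x := m.2
      change (m.1 : G) ∈ Subgroup.centralizer ({x} : Set G)
      rw [Subgroup.mem_centralizer_iff]
      intro y hy
      rw [Set.mem_singleton_iff] at hy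
      rw [hy]
      calc x * (m.1 : G) = ((m.1 : G) * x * (m.1 : G)⁻¹) * (m.1 : G) := by rw [hm]
        _ = (m.1 : G) * x := by group
    · have hg : (g : G) ∈ Subgroup.centralizer ({x} : Set G) := g.2.2
      rw [Subgroup.mem_centralizer_iff] at hg
      have := hg x rfl
      change (g.1 : G) * x * (g.1 : G)⁻¹ = x
      rw [← this]; group
  rw [← hst]
  simp only [Nat.card_eq_fintype_card]
  rw [← h]
  exact (Nat.mul_div_cancel _ Fintype.card_pos).symm

/-- Let G be a finite group with a normal subgroup N complementing a Sylow p-subgroup P (a normal p-complement). Then the number of elements of G of p-power order equals the sum over x ∈ P of the index of C_N(x) in N. -/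
theorem result {G : Type*} [Group G] [Finite G] (p : ℕ) [Fact p.Prime]
    (P : Sylow p G) (N : Subgroup G) [N.Normal] (hNP : N.IsComplement' (P : Subgroup G)) :
    Nat.card {g : G // ∃ k : ℕ, orderOf g = p ^ k} =
      ∑ᶠ x : (P : Subgroup G), Nat.card N / Nat.card ↥(N ⊓ Subgroup.centralizer ({(x : G)} : Set G)) := by
  classical
  letI := conjAct N
  haveI : Fintype ↥(P : Subgroup G) := Fintype.ofFinite _
  rw [finsum_eq_sum_of_fintype]
  have hdisj : ∀ z : G, z ∈ N → z ∈ (P : Subgroup G) → z = 1 := by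
    intro z h1 h2
    have := hNP.disjoint
    rw [Subgroup.disjoint_def] at this
    exact this h1 h2
  have hdecomp : ∀ g : G, ∃ n ∈ N, ∃ x ∈ (P : Subgroup G), n * x = g := by
    intro g
    obtain ⟨⟨n, x⟩, h, _⟩ := (Subgroup.isComplement_iff_existsUnique.1 hNP) g
    exact ⟨n.1, n.2, x.1, x.2, h⟩
  let F : (Σ x : ↥(P : Subgroup G), MulAction.orbit N (x : G)) → {g : G // ∃ k : ℕ, orderOf g = p ^ k} :=
    fun z => ⟨z.2.1, by
      obtain ⟨m, hm⟩ := z.2.2
      have hm' : (m : G) * (z.1 : G) * (m : G)⁻¹ = z.2.1 := hm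
      obtain ⟨k, hk⟩ := (IsPGroup.iff_orderOf).1 P.isPGroup' z.1
      refine ⟨k, ?_⟩
      rw [← hm', orderOf_conj', ← hk, Subgroup.orderOf_coe]⟩
  have hFbij : Function.Bijective F := by
    constructor
    · rintro ⟨x, g, hg⟩ ⟨x', g', hg'⟩ h
      have hgg' : g = g' := congrArg Subtype.val h
      subst hgg'
      obtain ⟨m, hm⟩ := hg
      obtain ⟨m', hm'⟩ := hg'
      have h1 : (m : G) * (x : G) * (m : G)⁻¹ = g := hm
      have h2 : (m' : G) * (x' : G) * (m' : G)⁻¹ = g := hm'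
      have hxx' : (x : G) * (x' : G)⁻¹ ∈ N := by
        -- x = m⁻¹ g m, x' = m'⁻¹ g m' ; both in the coset N g
        have e1 : (x : G) = (m : G)⁻¹ * g * (m : G) := by rw [← h1]; group
        have e2 : (x' : G) = (m' : G)⁻¹ * g * (m' : G) := by rw [← h2]; group
        have hc1 : g * (m : G) * g⁻¹ ∈ N := ‹N.Normal›.conj_mem _ m.2 g
        have hc2 : g * (m' : G)⁻¹ * g⁻¹ ∈ N := ‹N.Normal›.conj_mem _ (N.inv_mem m'.2) g
        have : (x : G) * (x' : G)⁻¹ = (m : G)⁻¹ * (g * (m : G) * g⁻¹) * (g * (m' : G)⁻¹ * g⁻¹) * (m' : G) := by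
          rw [e1, e2]; group
        rw [this]
        exact N.mul_mem (N.mul_mem (N.mul_mem (N.inv_mem m.2) hc1) hc2) m'.2
      have hxx'P : (x : G) * (x' : G)⁻¹ ∈ (P : Subgroup G) :=
        (P : Subgroup G).mul_mem x.2 ((P : Subgroup G).inv_mem x'.2)
      have := hdisj _ hxx' hxx'P
      have hxeq : x = x' := by
        apply Subtype.ext
        exact mul_inv_eq_one.1 this
      subst hxeq
      rfl
    · rintro ⟨g, hg⟩
      obtain ⟨a, ha⟩ := exists_conj_mem_sylow p P g hg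
      obtain ⟨n₁, hn₁, x₁, hx₁, rfl⟩ := hdecomp a
      -- x' = n₁⁻¹ g n₁ ∈ P
      have hx' : n₁⁻¹ * g * n₁ ∈ (P : Subgroup G) := by
        have : n₁⁻¹ * g * n₁ = x₁ * ((n₁ * x₁)⁻¹ * g * (n₁ * x₁)) * x₁⁻¹ := by group
        rw [this]
        exact (P : Subgroup G).mul_mem ((P : Subgroup G).mul_mem hx₁ ha) ((P : Subgroup G).inv_mem hx₁)
      refine ⟨⟨⟨n₁⁻¹ * g * n₁, hx'⟩, ⟨g, ⟨⟨n₁, hn₁⟩, ?_⟩⟩⟩, rfl⟩
      change n₁ * (n₁⁻¹ * g * n₁) * n₁⁻¹ = g
      group
  rw [← Nat.card_congr (Equiv.ofBijective F hFbij), Nat.card_sigma]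
  apply Finset.sum_congr rfl
  intro x _
  exact card_orbit N (x : G)

end Cfsg.Agent.S4093
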