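import Mathlib
import Cfsg.Statements.S4106

set_option autoImplicit false
open Cfsg

universe u

namespace Cfsg.Agent.S4106

/-- the `π`-part of `n` for a finset of primes -/
def piPart (π : Finset ℕ) (n : ℕ) : ℕ := ∏ q ∈ π, q ^ n.factorization q

theorem piPart_mono (π : Finset ℕ) {d n : ℕ} (hdn : d ∣ n) (hn : n ≠ 0) :
    piPart π d ≤ piPart π n := by
  have hd : d ≠ 0 := by
    rintro rfl; exact hn (zero_dvd_iff.1 hdn)
  unfold piPart
  apply Finset.prod_le_prod
  · intro i _; exact Nat.zero_le _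
  · intro q _
    rcases Nat.eq_zero_or_pos q with rfl | hq
    · have h1 : d.factorization 0 = 0 := by simp
      have h2 : n.factorization 0 = 0 := by simp
      rw [h1, h2]
    · exact Nat.pow_le_pow_right hq ((Nat.factorization_le_iff_dvd hd hn).2 hdn q)

theorem piPart_insert (π : Finset ℕ) (p n : ℕ) (hp : p ∉ π) :
    piPart (insert p π) n = p ^ n.factorization p * piPart π n := by
  unfold piPart
  rw [Finset.prod_insert hp]

theorem piPart_dvd (π : Finset ℕ) (hπ : ∀ q ∈ π, q.Prime) (n m : ℕ) (hn : n ≠ 0) (hm : m ∣ n)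
    (hm' : ∀ q ∈ π, ¬ q ∣ n / m) : piPart π n ∣ m := by
  have hm0 : m ≠ 0 := by rintro rfl; exact hn (zero_dvd_iff.1 hm)
  have hq0 : n / m ≠ 0 := by
    intro h
    have := Nat.div_mul_cancel hm
    rw [h, zero_mul] at this
    exact hn this.symm
  have hP0 : piPart π n ≠ 0 := by
    unfold piPart
    apply Finset.prod_ne_zero_iff.2
    intro q hq
    exact pow_ne_zero _ (hπ q hq).ne_zero
  rw [← Nat.factorization_le_iff_dvd hP0 hm0]
  intro r
  unfold piPart
  rw [Nat.factorization_prod (fun q hq => pow_ne_zero _ (hπ q hq).ne_zero)]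
  rw [Finsupp.finsetSum_apply]
  have : ∀ q ∈ π, ((q ^ n.factorization q).factorization) r = if q = r then n.factorization q else 0 := by
    intro q hq
    rw [(hπ q hq).factorization_pow, Finsupp.single_apply]
  rw [Finset.sum_congr rfl this, Finset.sum_ite_eq']
  split_ifs with hr
  · have h1 : n = m * (n / m) := (Nat.mul_div_cancel' hm).symm
    have h2 : n.factorization r = m.factorization r + (n / m).factorization r := by
      conv_lhs => rw [h1]
      rw [Nat.factorization_mul hm0 hq0]; rfl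
    rw [h2, Nat.factorization_eq_zero_of_not_dvd (hm' r hr), add_zero]
  · exact Nat.zero_le _

/-- Decomposition of an element of finite order into its `p`-part and `p'`-part. -/
theorem decomp {G : Type*} [Group G] [Finite G] (g : G) (p : ℕ) (hp : p.Prime) :
    ∃ x y : G, x * y = g ∧ Commute x y ∧ (∃ a : ℕ, x ^ (p ^ a) = 1) ∧
      ∀ q : ℕ, q.Prime → q ∣ orderOf y → q ∣ orderOf g ∧ q ≠ p := by
  have hn0 : orderOf g ≠ 0 := (orderOf_pos g).ne'
  obtain ⟨a, r, hpr, hn⟩ := Nat.exists_eq_pow_mul_and_not_dvd hn0 p hp.ne_one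
  have hcop : Nat.Coprime (p ^ a) r := Nat.Coprime.pow_left a ((Nat.Prime.coprime_iff_not_dvd hp).2 hpr)
  have hbez := Nat.gcd_eq_gcd_ab (p ^ a) r
  rw [hcop.gcd_eq_one] at hbez
  set A := Nat.gcdA (p ^ a) r
  set B := Nat.gcdB (p ^ a) r
  refine ⟨g ^ ((r : ℤ) * B), g ^ (((p ^ a : ℕ) : ℤ) * A), ?_, ?_, ⟨a, ?_⟩, ?_⟩
  · rw [← zpow_add]
    have : (r : ℤ) * B + ((p ^ a : ℕ) : ℤ) * A = 1 := by
      rw [add_comm]; exact_mod_cast hbez.symm
    rw [this, zpow_one]
  · exact (Commute.refl g).zpow_zpow _ _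
  · rw [← zpow_natCast, ← zpow_mul]
    have : (r : ℤ) * B * ((p ^ a : ℕ) : ℤ) = ((orderOf g : ℕ) : ℤ) * B := by
      rw [hn]; push_cast; ring
    rw [this, zpow_mul, zpow_natCast, pow_orderOf_eq_one, one_zpow]
  · intro q hq hqy
    have hyr : (g ^ (((p ^ a : ℕ) : ℤ) * A)) ^ r = 1 := by
      rw [← zpow_natCast, ← zpow_mul]
      have : ((p ^ a : ℕ) : ℤ) * A * (r : ℤ) = ((orderOf g : ℕ) : ℤ) * A := by
        rw [hn]; push_cast; ring
      rw [this, zpow_mul, zpow_natCast, pow_orderOf_eq_one, one_zpow]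
    have hqr : q ∣ r := hqy.trans (orderOf_dvd_of_pow_eq_one hyr)
    refine ⟨hqr.trans (by rw [hn]; exact dvd_mul_left _ _), ?_⟩
    rintro rfl
    exact hpr hqr


def IsPiClass {G : Type*} [Group G] (π : Set ℕ) (C : ConjClasses G) : Prop :=
  ∀ q : ℕ, q.Prime → (∃ g : G, ConjClasses.mk g = C ∧ q ∣ orderOf g) → q ∈ π

theorem orderOf_conj' {G : Type*} [Group G] (c g : G) : orderOf (c * g * c⁻¹) = orderOf g := by
  have : c * g * c⁻¹ = MulAut.conj c g := by simp
  rw [this]; exact MulEquiv.orderOf_eq _ _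

theorem isPiClass_mk_iff {G : Type*} [Group G] (π : Set ℕ) (g : G) :
    IsPiClass π (ConjClasses.mk g) ↔ ∀ q : ℕ, q.Prime → q ∣ orderOf g → q ∈ π := by
  constructor
  · intro h q hq hqg
    exact h q hq ⟨g, rfl, hqg⟩
  · intro h q hq ⟨g', hg', hqg'⟩
    rw [ConjClasses.mk_eq_mk_iff_isConj, isConj_iff] at hg'
    obtain ⟨c, hc⟩ := hg'
    apply h q hq
    rw [← hc, orderOf_conj']
    exact hqg'

theorem exists_conj_mem_sylow {G : Type*} [Group G] [Finite G] (p : ℕ) [Fact p.Prime] (P : Sylow p G)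
    (x : G) (hx : ∃ a : ℕ, x ^ (p ^ a) = 1) : ∃ a : G, a⁻¹ * x * a ∈ (P : Subgroup G) := by
  obtain ⟨k, hk⟩ := hx
  have hQ : IsPGroup p (Subgroup.zpowers x) := by
    rw [IsPGroup.iff_card]
    have h1 : orderOf x ∣ p ^ k := orderOf_dvd_of_pow_eq_one hk
    obtain ⟨j, _, hj⟩ := (Nat.dvd_prime_pow Fact.out).1 h1
    exact ⟨j, by rw [Nat.card_zpowers, hj]⟩
  have hidx : ¬ p ∣ Nat.card (G ⧸ (P : Subgroup G)) := P.not_dvd_index
  obtain ⟨ω, hω⟩ := hQ.nonempty_fixed_point_of_prime_not_dvd_card (G ⧸ (P : Subgroup G)) hidx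
  obtain ⟨a, rfl⟩ := QuotientGroup.mk_surjective ω
  have hza : (⟨x, Subgroup.mem_zpowers x⟩ : Subgroup.zpowers x) • (a : G ⧸ (P : Subgroup G)) = a :=
    hω _
  have hza' : ((x * a : G) : G ⧸ (P : Subgroup G)) = (a : G ⧸ (P : Subgroup G)) := hza
  refine ⟨a, ?_⟩
  have := QuotientGroup.eq.1 hza'
  have h2 : (a⁻¹ * x * a)⁻¹ ∈ (P : Subgroup G) := by
    have e : (a⁻¹ * x * a)⁻¹ = (x * a)⁻¹ * a := by group
    rw [e]; exact this
  exact (Subgroup.inv_mem_iff _).1 h2

theorem card_piClasses_le (π : Finset ℕ) (hπ : ∀ q ∈ π, q.Prime) :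
    ∀ (G : Type u) [Group G] [Finite G],
      Nat.card {C : ConjClasses G // IsPiClass (π : Set ℕ) C} ≤ piPart π (Nat.card G) := by
  classical
  induction π using Finset.induction_on with
  | empty =>
    intro G _ _
    have h1 : piPart ∅ (Nat.card G) = 1 := by simp [piPart]
    rw [h1, Finite.card_le_one_iff_subsingleton]
    have key : ∀ C : {C : ConjClasses G // IsPiClass ((∅ : Finset ℕ) : Set ℕ) C}, C.1 = ConjClasses.mk 1 := by
      rintro ⟨C, hC⟩
      obtain ⟨g, rfl⟩ := ConjClasses.exists_rep C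
      rw [isPiClass_mk_iff] at hC
      have : orderOf g = 1 := by
        by_contra h
        obtain ⟨q, hq, hqg⟩ := Nat.exists_prime_and_dvd h
        have := hC q hq hqg
        simp at this
      rw [orderOf_eq_one_iff] at this
      change ConjClasses.mk g = ConjClasses.mk 1
      rw [this]
    constructor
    intro a b
    exact Subtype.ext ((key a).trans (key b).symm)
  | insert p π' hp ih =>
    intro G _ _
    have hpp : p.Prime := hπ p (Finset.mem_insert_self _ _)
    haveI : Fact p.Prime := ⟨hpp⟩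
    have hπ' : ∀ q ∈ π', q.Prime := fun q hq => hπ q (Finset.mem_insert_of_mem hq)
    have ih' := ih hπ'
    let P : Sylow p G := default
    let T : ↥(P : Subgroup G) → Type u := fun x =>
      {D : ConjClasses ↥(Subgroup.centralizer ({(x : G)} : Set G)) // IsPiClass (π' : Set ℕ) D}
    have hFmem : ∀ (x : ↥(P : Subgroup G)) (D : T x),
        IsPiClass ((insert p π' : Finset ℕ) : Set ℕ)
          (ConjClasses.mk ((x : G) * ((Quotient.out D.1 : ↥(Subgroup.centralizer ({(x : G)} : Set G))) : G))) := by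
      intro x D
      rw [isPiClass_mk_iff]
      intro q hq hqxy
      set y : ↥(Subgroup.centralizer ({(x : G)} : Set G)) := Quotient.out D.1 with hy
      have hcomm : Commute (x : G) (y : G) := by
        have := y.2
        rw [Subgroup.mem_centralizer_iff] at this
        exact this (x : G) rfl
      have h1 : orderOf ((x : G) * (y : G)) ∣ Nat.lcm (orderOf (x : G)) (orderOf (y : G)) :=
        hcomm.orderOf_mul_dvd_lcm
      have h2 : q ∣ orderOf (x : G) * orderOf (y : G) :=
        (hqxy.trans h1).trans (Nat.lcm_dvd_mul _ _)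
      rcases (Nat.Prime.dvd_mul hq).1 h2 with h3 | h3
      · obtain ⟨k, hk⟩ := (IsPGroup.iff_orderOf).1 P.isPGroup' x
        rw [Subgroup.orderOf_coe, hk] at h3
        have : q = p := (Nat.prime_dvd_prime_iff_eq hq hpp).1 (hq.dvd_of_dvd_pow h3)
        rw [this]; simp
      · have hD : IsPiClass (π' : Set ℕ) (ConjClasses.mk y) := by
          have : ConjClasses.mk y = D.1 := Quotient.out_eq D.1
          rw [this]; exact D.2
        rw [isPiClass_mk_iff] at hD
        have := hD q hq (by rw [← Subgroup.orderOf_coe]; exact h3)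
        simp only [Finset.coe_insert, Set.mem_insert_iff, Finset.mem_coe]
        right; exact this
    let F : (Σ x : ↥(P : Subgroup G), T x) → {C : ConjClasses G // IsPiClass ((insert p π' : Finset ℕ) : Set ℕ) C} :=
      fun z => ⟨_, hFmem z.1 z.2⟩
    have hsurj : Function.Surjective F := by
      rintro ⟨C, hC⟩
      obtain ⟨g, rfl⟩ := ConjClasses.exists_rep C
      obtain ⟨x, y, hxy, hcomm, hxp, hyq⟩ := decomp g p hpp
      obtain ⟨a, ha⟩ := exists_conj_mem_sylow p P x hxp
      set x' : ↥(P : Subgroup G) := ⟨a⁻¹ * x * a, ha⟩ with hx'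
      have hy'mem : a⁻¹ * y * a ∈ Subgroup.centralizer ({(x' : G)} : Set G) := by
        rw [Subgroup.mem_centralizer_iff]
        intro h hh
        rw [Set.mem_singleton_iff] at hh
        subst hh
        change a⁻¹ * x * a * (a⁻¹ * y * a) = a⁻¹ * y * a * (a⁻¹ * x * a)
        have : x * y = y * x := hcomm.eq
        calc a⁻¹ * x * a * (a⁻¹ * y * a) = a⁻¹ * (x * y) * a := by group
          _ = a⁻¹ * (y * x) * a := by rw [this]
          _ = a⁻¹ * y * a * (a⁻¹ * x * a) := by group
      set y' : ↥(Subgroup.centralizer ({(x' : G)} : Set G)) := ⟨a⁻¹ * y * a, hy'mem⟩ with hy'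
      have hDpi : IsPiClass (π' : Set ℕ) (ConjClasses.mk y') := by
        rw [isPiClass_mk_iff]
        intro q hq hqy'
        have h1 : orderOf y' = orderOf y := by
          rw [← Subgroup.orderOf_coe]
          change orderOf (a⁻¹ * y * a) = orderOf y
          have := orderOf_conj' a⁻¹ y
          rwa [inv_inv] at this
        rw [h1] at hqy'
        obtain ⟨h2, h3⟩ := hyq q hq hqy'
        rw [isPiClass_mk_iff] at hC
        have := hC q hq h2
        simp only [Finset.coe_insert, Set.mem_insert_iff, Finset.mem_coe] at this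
        rcases this with h | h
        · exact absurd h h3
        · exact h
      refine ⟨⟨x', ⟨ConjClasses.mk y', hDpi⟩⟩, ?_⟩
      apply Subtype.ext
      change ConjClasses.mk ((x' : G) * ((Quotient.out (ConjClasses.mk y') : ↥(Subgroup.centralizer ({(x' : G)} : Set G))) : G)) = ConjClasses.mk g
      set w : ↥(Subgroup.centralizer ({(x' : G)} : Set G)) := Quotient.out (ConjClasses.mk y') with hw
      have hwy : ConjClasses.mk w = ConjClasses.mk y' := Quotient.out_eq (ConjClasses.mk y')
      rw [ConjClasses.mk_eq_mk_iff_isConj, isConj_iff] at hwy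
      obtain ⟨c, hc⟩ := hwy
      have hc' : (c : G) * (w : G) * (c : G)⁻¹ = a⁻¹ * y * a := by
        have := congrArg Subtype.val hc
        simpa using this
      have hcx : (c : G) * (x' : G) = (x' : G) * (c : G) := by
        have := c.2
        rw [Subgroup.mem_centralizer_iff] at this
        exact (this (x' : G) rfl).symm
      rw [ConjClasses.mk_eq_mk_iff_isConj, isConj_iff]
      refine ⟨a * (c : G), ?_⟩
      have hx'v : (x' : G) = a⁻¹ * x * a := rfl
      calc a * (c : G) * ((x' : G) * (w : G)) * (a * (c : G))⁻¹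
          = a * (((c : G) * (x' : G)) * (w : G) * (c : G)⁻¹) * a⁻¹ := by group
        _ = a * (((x' : G) * (c : G)) * (w : G) * (c : G)⁻¹) * a⁻¹ := by rw [hcx]
        _ = a * ((x' : G) * ((c : G) * (w : G) * (c : G)⁻¹)) * a⁻¹ := by group
        _ = a * ((a⁻¹ * x * a) * (a⁻¹ * y * a)) * a⁻¹ := by rw [hc', hx'v]
        _ = x * y := by group
        _ = g := hxy
    haveI : Fintype ↥(P : Subgroup G) := Fintype.ofFinite _
    have hle1 := Nat.card_le_card_of_surjective F hsurj
    have hsig : Nat.card (Σ x : ↥(P : Subgroup G), T x) = ∑ x : ↥(P : Subgroup G), Nat.card (T x) :=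
      Nat.card_sigma
    have hGn : Nat.card G ≠ 0 := Nat.card_pos.ne'
    have hT : ∀ x : ↥(P : Subgroup G), Nat.card (T x) ≤ piPart π' (Nat.card G) := by
      intro x
      refine (ih' ↥(Subgroup.centralizer ({(x : G)} : Set G))).trans ?_
      exact piPart_mono π' (Subgroup.card_subgroup_dvd_card _) hGn
    calc Nat.card {C : ConjClasses G // IsPiClass ((insert p π' : Finset ℕ) : Set ℕ) C}
        ≤ Nat.card (Σ x : ↥(P : Subgroup G), T x) := hle1
      _ = ∑ x : ↥(P : Subgroup G), Nat.card (T x) := hsig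
      _ ≤ ∑ _x : ↥(P : Subgroup G), piPart π' (Nat.card G) := Finset.sum_le_sum (fun x _ => hT x)
      _ = Nat.card (P : Subgroup G) * piPart π' (Nat.card G) := by
        rw [Finset.sum_const, Finset.card_univ, smul_eq_mul, ← Nat.card_eq_fintype_card]
      _ = piPart (insert p π') (Nat.card G) := by
        rw [piPart_insert _ _ _ hp, P.card_eq_multiplicity]


/-- Let G be a finite group, π a set of primes and m the π-part of the order of G. Then the number of conjugacy classes of G consisting of π-elements (elements whose order is divisible only by primes in π) is at most m. -/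
theorem result {G : Type*} [Group G] [Finite G]
    (π : Set ℕ) (hπ : ∀ q ∈ π, q.Prime)
    (m : ℕ) (hm : m ∣ Nat.card G) (hmπ : ∀ q : ℕ, q.Prime → q ∣ m → q ∈ π)
    (hm' : ∀ q ∈ π, ¬ q ∣ Nat.card G / m) :
    Nat.card {C : ConjClasses G // ∀ q : ℕ, q.Prime → (∃ g : G, ConjClasses.mk g = C ∧ q ∣ orderOf g) → q ∈ π} ≤ m := by
  classical
  have hGn : Nat.card G ≠ 0 := Nat.card_pos.ne'
  have hm0 : m ≠ 0 := by rintro rfl; exact hGn (zero_dvd_iff.1 hm)
  let πf : Finset ℕ := (Nat.card G).primeFactors.filter (fun q => q ∈ π)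
  have hπf : ∀ q ∈ πf, q.Prime := fun q hq => Nat.prime_of_mem_primeFactors (Finset.mem_filter.1 hq).1
  have h1 := card_piClasses_le πf hπf G
  have h2 : piPart πf (Nat.card G) ∣ m :=
    piPart_dvd πf hπf (Nat.card G) m hGn hm (fun q hq => hm' q (Finset.mem_filter.1 hq).2)
  have h3 : piPart πf (Nat.card G) ≤ m := Nat.le_of_dvd (Nat.pos_of_ne_zero hm0) h2
  refine le_trans ?_ (h1.trans h3)
  let f : {C : ConjClasses G // ∀ q : ℕ, q.Prime → (∃ g : G, ConjClasses.mk g = C ∧ q ∣ orderOf g) → q ∈ π} →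
      {C : ConjClasses G // IsPiClass (πf : Set ℕ) C} := fun C => ⟨C.1, by
    intro q hq hex
    have hqπ := C.2 q hq hex
    obtain ⟨g, _, hqg⟩ := hex
    have hqG : q ∣ Nat.card G := hqg.trans (orderOf_dvd_natCard g)
    simp only [Finset.mem_coe]
    exact Finset.mem_filter.2 ⟨Nat.mem_primeFactors.2 ⟨hq, hqG, hGn⟩, hqπ⟩⟩
  have hf : Function.Injective f := by
    intro a b hab
    apply Subtype.ext
    have : (f a).1 = (f b).1 := congrArg Subtype.val hab
    exact this
  exact Nat.card_le_card_of_injective f hf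

end Cfsg.Agent.S4106
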