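import Cfsg.Statements.S4419
import Cfsg.Agent.Lib.Helper68.PNilp
import Cfsg.Agent.Lib.Helper54.PConstr1
import Cfsg.Agent.Lib.Helper35.TwoGroupAut

set_option autoImplicit false
set_option linter.style.haveILetI false
open Cfsg

namespace Cfsg.Agent.S4419

/-- A cyclic group all of whose elements satisfy `x ^ p = 1` has order dividing `p`. -/
theorem card_dvd_of_isCyclic_of_pow {C : Type*} [Group C] [IsCyclic C] (p : ℕ)
    (h : ∀ x : C, x ^ p = 1) : Nat.card C ∣ p := by
  rw [← IsCyclic.exponent_eq_card]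
  exact Monoid.exponent_dvd_of_forall_pow_eq_one h

/-- The Frattini quotient of a metacyclic `p`-group has order dividing `p ^ 2`. -/
theorem frattini_index_dvd_of_isMetacyclic {Q : Type*} [Group Q] [Finite Q] {p : ℕ}
    [hp : Fact p.Prime] (hQ : IsPGroup p Q) (hm : Cfsg.IsMetacyclic Q) :
    (frattini Q).index ∣ p ^ 2 := by
  obtain ⟨N, hNn, hNc, hQc⟩ := hm
  have hpowV : ∀ v : Q ⧸ frattini Q, v ^ p = 1 := by
    intro v
    obtain ⟨x, rfl⟩ := QuotientGroup.mk'_surjective (frattini Q) v
    rw [← map_pow]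
    exact (QuotientGroup.eq_one_iff _).2 (Cfsg.Agent.Lib.Helper2.pow_mem_frattini hQ x)
  obtain ⟨A, hA⟩ : ∃ A, A = N.map (QuotientGroup.mk' (frattini Q)) := ⟨_, rfl⟩
  have hAn : A.Normal := hA ▸ hNn.map _ (QuotientGroup.mk'_surjective _)
  have hAc : IsCyclic A := by
    subst hA
    haveI : IsCyclic N := hNc
    exact isCyclic_of_surjective ((QuotientGroup.mk' (frattini Q)).subgroupMap N)
      ((QuotientGroup.mk' (frattini Q)).subgroupMap_surjective N)
  have hAcard : Nat.card A ∣ p := by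
    haveI := hAc
    apply card_dvd_of_isCyclic_of_pow
    intro x
    apply Subtype.ext
    rw [Subgroup.coe_pow, hpowV, Subgroup.coe_one]
  have hVAc : IsCyclic ((Q ⧸ frattini Q) ⧸ A) := by
    obtain ⟨f, hfdef⟩ : ∃ f : Q →* (Q ⧸ frattini Q) ⧸ A,
        f = (QuotientGroup.mk' A).comp (QuotientGroup.mk' (frattini Q)) := ⟨_, rfl⟩
    have hf : Function.Surjective f := by
      rw [hfdef]
      exact (QuotientGroup.mk'_surjective A).comp (QuotientGroup.mk'_surjective _)
    have hNker : N ≤ f.ker := by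
      intro n hn
      rw [MonoidHom.mem_ker, hfdef, MonoidHom.comp_apply]
      have : QuotientGroup.mk' (frattini Q) n ∈ A := by
        rw [hA]; exact Subgroup.mem_map_of_mem _ hn
      exact (QuotientGroup.eq_one_iff _).2 this
    haveI := hQc
    refine isCyclic_of_surjective (QuotientGroup.lift N f hNker) ?_
    intro y
    obtain ⟨x, rfl⟩ := hf y
    exact ⟨QuotientGroup.mk' N x, QuotientGroup.lift_mk' _ _ _⟩
  have hVAcard : Nat.card ((Q ⧸ frattini Q) ⧸ A) ∣ p := by
    haveI := hVAc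
    apply card_dvd_of_isCyclic_of_pow
    intro y
    obtain ⟨v, rfl⟩ := QuotientGroup.mk'_surjective A y
    rw [← map_pow, hpowV, map_one]
  have h1 := Subgroup.card_eq_card_quotient_mul_card_subgroup A
  rw [Subgroup.index_eq_card, h1, pow_two]
  exact Nat.mul_dvd_mul hVAcard hAcard

/-- A group admitting an injective homomorphism into a metacyclic group is metacyclic. -/
theorem isMetacyclic_of_injective {H : Type*} {S : Type*} [Group H] [Group S] (f : H →* S)
    (hf : Function.Injective f) (hS : Cfsg.IsMetacyclic S) : Cfsg.IsMetacyclic H := by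
  obtain ⟨N, hNn, hNc, hQc⟩ := hS
  refine ⟨N.comap f, hNn.comap f, ?_, ?_⟩
  · haveI := hNc
    apply isCyclic_of_injective (f.subgroupComap N)
    intro a b hab
    apply Subtype.ext
    apply hf
    exact congrArg Subtype.val hab
  · haveI := hQc
    haveI : (N.comap f).Normal := hNn.comap f
    apply isCyclic_of_injective (QuotientGroup.map (N.comap f) N f le_rfl)
    rw [injective_iff_map_eq_one]
    intro y hy
    obtain ⟨x, rfl⟩ := QuotientGroup.mk'_surjective _ y
    rw [QuotientGroup.mk'_apply, QuotientGroup.map_mk, QuotientGroup.eq_one_iff] at hy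
    exact (QuotientGroup.eq_one_iff x).2 hy

/-- The conjugation action of the normalizer of `Q` on `Q`. -/
def normConj {G : Type*} [Group G] (Q : Subgroup G) :
    Subgroup.normalizer (Q : Set G) →* MulAut Q where
  toFun n :=
    { toFun := fun x => ⟨(n : G) * x * (n : G)⁻¹, (Subgroup.mem_normalizer_iff.1 n.2 x).1 x.2⟩
      invFun := fun x => ⟨(n : G)⁻¹ * x * (n : G), by
        have h := (Subgroup.mem_normalizer_iff.1 (Subgroup.inv_mem _ n.2) x).1 x.2
        rwa [inv_inv] at h⟩
      left_inv := fun x => by apply Subtype.ext; simp [mul_assoc]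
      right_inv := fun x => by apply Subtype.ext; simp [mul_assoc]
      map_mul' := fun x y => by apply Subtype.ext; simp [mul_assoc] }
  map_one' := by
    apply MulEquiv.ext
    intro x
    apply Subtype.ext
    simp
  map_mul' := fun a b => by
    apply MulEquiv.ext
    intro x
    apply Subtype.ext
    simp [mul_assoc]

theorem normConj_apply {G : Type*} [Group G] (Q : Subgroup G)
    (n : Subgroup.normalizer (Q : Set G)) (x : Q) :
    ((normConj Q n x : Q) : G) = (n : G) * x * (n : G)⁻¹ := rfl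

/-- An automorphism of `r`-power order of a `p`-group whose Frattini quotient has order dividing
`p ^ 2` is trivial when `r` is a prime not dividing `p (p ^ 2 - 1)`. -/
theorem mulAut_eq_one_of_small_frattini {Q : Type*} [Group Q] [Finite Q] {p : ℕ}
    [hp : Fact p.Prime] (hQ : IsPGroup p Q) (hΦ : (frattini Q).index ∣ p ^ 2) (α : MulAut Q)
    (r j : ℕ) (hr : r.Prime) (hrp : r ≠ p) (hr2 : ¬ r ∣ p ^ 2 - 1) (hα : α ^ (r ^ j) = 1) :
    α = 1 := by
  classical
  haveI : Fact r.Prime := ⟨hr⟩
  have hchar : ∀ β : MulAut Q, (frattini Q).map β.toMonoidHom = frattini Q :=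
    fun β => Subgroup.characteristic_iff_map_eq.mp inferInstance β
  obtain ⟨σ, hσdef⟩ : ∃ σ : MulAut (Q ⧸ frattini Q),
      σ = QuotientGroup.congr (frattini Q) (frattini Q) α (hchar α) := ⟨_, rfl⟩
  have hσ : ∀ x : Q, σ (QuotientGroup.mk' (frattini Q) x) = QuotientGroup.mk' (frattini Q) (α x) := by
    intro x
    rw [hσdef]
    exact QuotientGroup.congr_mk _ _ _ _ x
  have hσpow : ∀ (k : ℕ) (x : Q), (σ ^ k) (QuotientGroup.mk' (frattini Q) x) =
      QuotientGroup.mk' (frattini Q) ((α ^ k) x) := by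
    intro k
    induction k with
    | zero => intro x; simp
    | succ k ih =>
      intro x
      rw [pow_succ, MulAut.mul_apply, pow_succ, MulAut.mul_apply, hσ, ih]
  have hσ1 : σ ^ (r ^ j) = 1 := by
    apply MulEquiv.ext
    intro y
    obtain ⟨x, rfl⟩ := QuotientGroup.mk'_surjective (frattini Q) y
    rw [hσpow, hα]
    simp
  -- the group generated by `σ` is an `r`-group
  have hR : IsPGroup r (Subgroup.zpowers σ) := by
    rintro ⟨τ, hτ⟩
    refine ⟨j, ?_⟩
    obtain ⟨k, rfl⟩ := Subgroup.mem_zpowers_iff.1 hτ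
    apply Subtype.ext
    rw [Subgroup.coe_pow, Subgroup.coe_one]
    show (σ ^ k) ^ (r ^ j) = 1
    rw [← zpow_natCast, ← zpow_mul, mul_comm, zpow_mul, zpow_natCast, hσ1, one_zpow]
  -- the subgroup of fixed points
  obtain ⟨C, hC⟩ : ∃ C : Subgroup (Q ⧸ frattini Q), ∀ v, v ∈ C ↔ σ v = v := by
    refine ⟨{ carrier := {v | σ v = v}
              mul_mem' := ?_
              one_mem' := ?_
              inv_mem' := ?_ }, fun v => Iff.rfl⟩
    · intro a b ha hb
      simp only [Set.mem_ofPred_eq] at ha hb ⊢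
      rw [map_mul, ha, hb]
    · simp
    · intro a ha
      simp only [Set.mem_ofPred_eq] at ha ⊢
      rw [map_inv, ha]
  have hfix : MulAction.fixedPoints (Subgroup.zpowers σ) (Q ⧸ frattini Q) = (C : Set _) := by
    ext v
    rw [MulAction.mem_fixedPoints, SetLike.mem_coe, hC]
    constructor
    · intro h
      exact h ⟨σ, Subgroup.mem_zpowers σ⟩
    · rintro h ⟨τ, hτ⟩
      have hle : Subgroup.zpowers σ ≤ MulAction.stabilizer (MulAut (Q ⧸ frattini Q)) v := by
        rw [Subgroup.zpowers_le]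
        exact h
      exact hle hτ
  have hmod := hR.card_modEq_card_fixedPoints (Q ⧸ frattini Q)
  rw [hfix] at hmod
  -- cardinalities
  have hVcard : Nat.card (Q ⧸ frattini Q) ∣ p ^ 2 := by
    rw [← Subgroup.index_eq_card]; exact hΦ
  obtain ⟨a, ha2, ha⟩ := (Nat.dvd_prime_pow hp.out).1 hVcard
  have hCdvd : Nat.card C ∣ p ^ a := ha ▸ Subgroup.card_subgroup_dvd_card C
  obtain ⟨b, hba, hb⟩ := (Nat.dvd_prime_pow hp.out).1 hCdvd
  have hmod' : p ^ b ≡ p ^ a [MOD r] := by
    have : Nat.card (C : Set (Q ⧸ frattini Q)) = Nat.card C := rfl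
    rw [this, ha, hb] at hmod
    exact hmod.symm
  have hle : p ^ b ≤ p ^ a := Nat.pow_le_pow_right hp.out.pos hba
  have hdvd : r ∣ p ^ a - p ^ b := (Nat.modEq_iff_dvd' hle).1 hmod'
  have hp1 : 1 ≤ p := hp.out.pos
  have hsq : p ^ 2 - 1 = (p - 1) * (p + 1) := by
    obtain ⟨k, rfl⟩ : ∃ k, p = k + 1 := ⟨p - 1, by omega⟩
    have : (k + 1) ^ 2 = (k + 1 - 1) * (k + 1 + 1) + 1 := by
      rw [Nat.add_sub_cancel]; ring
    rw [this, Nat.add_sub_cancel]
  have hrp' : ¬ r ∣ p := by
    intro h
    exact hrp ((Nat.prime_dvd_prime_iff_eq hr hp.out).1 h)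
  have hr1 : ¬ r ∣ p - 1 := by
    intro h
    apply hr2
    rw [hsq]
    exact Dvd.dvd.mul_right h _
  have hab : a = b := by
    interval_cases a <;> interval_cases b
    · rfl
    · exfalso
      rw [pow_one, pow_zero] at hdvd
      exact hr1 hdvd
    · rfl
    · exfalso
      rw [pow_zero] at hdvd
      exact hr2 hdvd
    · exfalso
      have : p ^ 2 - p ^ 1 = p * (p - 1) := by
        rw [pow_one, pow_two, Nat.mul_sub_one]
      rw [this] at hdvd
      rcases (Nat.Prime.dvd_mul hr).1 hdvd with h | h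
      · exact hrp' h
      · exact hr1 h
    · rfl
  have hCtop : C = ⊤ := by
    apply (Subgroup.card_eq_iff_eq_top C).1
    rw [hb, ha, hab]
  have hαtriv : α ∈ Cfsg.Agent.Lib.Helper35.trivModFrattini Q := by
    intro x
    have h1 : σ (QuotientGroup.mk' (frattini Q) x) = QuotientGroup.mk' (frattini Q) x := by
      rw [← hC, hCtop]; exact Subgroup.mem_top _
    rw [hσ] at h1
    rw [← QuotientGroup.eq_one_iff, ← QuotientGroup.mk'_apply, map_mul, map_inv, h1,
      mul_inv_cancel]
  obtain ⟨n, hn⟩ := (IsPGroup.iff_card.mp hQ)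
  have hidx : (frattini Q).index ∣ p ^ n := by rw [← hn]; exact Subgroup.index_dvd_card _
  obtain ⟨r', -, hr'⟩ := (Nat.dvd_prime_pow hp.out).mp hidx
  have hA : ∀ β ∈ Subgroup.zpowers α, ∀ x : Q, β x * x⁻¹ ∈ frattini Q := by
    intro β hβ
    exact (Subgroup.zpowers_le.mpr hαtriv) hβ
  have hdvd2 := Cfsg.Agent.S4207.result hn hr' (Subgroup.zpowers α) hA
  rw [Nat.card_zpowers] at hdvd2
  have h1 : orderOf α ∣ r ^ j := orderOf_dvd_of_pow_eq_one hα
  have hcop : Nat.Coprime (r ^ j) (p ^ (r' * (n - r'))) :=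
    Nat.Coprime.pow _ _ ((Nat.coprime_primes hr hp.out).2 hrp)
  have h2 : orderOf α ∣ Nat.gcd (r ^ j) (p ^ (r' * (n - r'))) := Nat.dvd_gcd h1 hdvd2
  rw [hcop.gcd_eq_one, Nat.dvd_one, orderOf_eq_one_iff] at h2
  exact h2

/-- Let p be a prime and G a finite group whose Sylow p-subgroups are metacyclic (a cyclic normal subgroup with cyclic quotient). Then G has a normal p-complement if and only if the order of G/O_{p′,p}(G) is coprime to p² − 1. -/
theorem result {G : Type*} [Group G] [Finite G] (p : ℕ) [Fact p.Prime] (S : Sylow p G) (hS : Cfsg.IsMetacyclic ↥(S : Subgroup G)) : Cfsg.HasNormalPComplement p G ↔ Nat.Coprime (Nat.card (G ⧸ Cfsg.pPrimePCore p G)) (p ^ 2 - 1) := by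
  have hp : p.Prime := Fact.out
  haveI hKn : (Cfsg.pPrimeCore p G).Normal := Cfsg.Agent.Lib.Helper55.pPrimeCore_normal' p
  haveI hLn : (Cfsg.pPrimePCore p G).Normal := Cfsg.Agent.Lib.Helper54.pPrimePCore_normal' p
  constructor
  · rintro ⟨P, N, hNn, hcompl⟩
    have hNcard : Nat.card N = (P : Subgroup G).index := (hcompl.index_eq_card).symm
    have hNcop : (Nat.card N).Coprime p := by
      rw [hNcard]
      exact ((Nat.Prime.coprime_iff_not_dvd hp).2 P.not_dvd_index).symm
    have hNK : N ≤ Cfsg.pPrimeCore p G := Cfsg.Agent.Lib.Helper55.le_pPrimeCore p N hNcop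
    have hNidx : N.index = Nat.card (P : Subgroup G) := hcompl.symm.index_eq_card
    obtain ⟨k, hk⟩ := IsPGroup.iff_card.mp P.2
    have htop : Cfsg.pPrimePCore p G = ⊤ := by
      rw [eq_top_iff]
      apply Cfsg.Agent.Lib.Helper54.le_pPrimePCore_of_forall_pow_mem p ⊤
      intro m _
      refine ⟨k, hNK ?_⟩
      rw [← QuotientGroup.eq_one_iff, ← QuotientGroup.mk'_apply, map_pow, ← hk, ← hNidx,
        Subgroup.index_eq_card]
      exact pow_card_eq_one'
    rw [← Subgroup.index_eq_card, htop, Subgroup.index_top]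
    exact Nat.coprime_one_left _
  · intro hcop
    apply Cfsg.Agent.Lib.Helper68.hasNormalPComplement_of_frobCond
    apply Cfsg.Agent.Lib.Helper68.frobCond_of_primePow
    intro Q hQ g hg r j hr hrp hgo
    by_cases hr2 : r ∣ p ^ 2 - 1
    · -- `g` lies in `O_{p'}(G)`
      have hrcop : Nat.Coprime (r ^ j) (Nat.card (G ⧸ Cfsg.pPrimePCore p G)) := by
        apply Nat.Coprime.pow_left
        rw [Nat.Prime.coprime_iff_not_dvd hr]
        intro h
        have := Nat.dvd_gcd h hr2
        rw [hcop.gcd_eq_one, Nat.dvd_one] at this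
        exact hr.one_lt.ne' this
      have hgL : g ∈ Cfsg.pPrimePCore p G := by
        rw [← QuotientGroup.eq_one_iff, ← QuotientGroup.mk'_apply, ← orderOf_eq_one_iff]
        have h1 : orderOf (QuotientGroup.mk' (Cfsg.pPrimePCore p G) g) ∣ r ^ j := by
          rw [← hgo]; exact orderOf_map_dvd _ g
        have h2 : orderOf (QuotientGroup.mk' (Cfsg.pPrimePCore p G) g) ∣
            Nat.card (G ⧸ Cfsg.pPrimePCore p G) := orderOf_dvd_natCard _
        have := Nat.dvd_gcd h1 h2
        rwa [hrcop.gcd_eq_one, Nat.dvd_one] at this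
      obtain ⟨i, hi⟩ := Cfsg.Agent.Lib.Helper54.exists_pow_mem_pPrimeCore p hgL
      have hgK : g ∈ Cfsg.pPrimeCore p G := by
        have hc : Nat.Coprime (p ^ i) (orderOf g) := by
          rw [hgo]
          exact Nat.Coprime.pow _ _ ((Nat.coprime_primes hp hr).2 (Ne.symm hrp))
        obtain ⟨m, hm⟩ := exists_pow_eq_self_of_coprime hc
        rw [← hm]
        exact Subgroup.pow_mem _ hi m
      have hdisj : Q ⊓ Cfsg.pPrimeCore p G = ⊥ := by
        apply Subgroup.inf_eq_bot_of_coprime
        obtain ⟨k, hk⟩ := IsPGroup.iff_card.mp hQ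
        rw [hk]
        exact Nat.Coprime.pow_left _ (Cfsg.Agent.Lib.Helper55.pPrimeCore_card_coprime p).symm
      rw [Subgroup.mem_centralizer_iff]
      intro x hx
      have hxQ : x ∈ Q := hx
      have h1 : g * x * g⁻¹ * x⁻¹ ∈ Q :=
        Subgroup.mul_mem _ ((Subgroup.mem_normalizer_iff.1 hg x).1 hxQ) (Subgroup.inv_mem _ hxQ)
      have h2 : g * x * g⁻¹ * x⁻¹ ∈ Cfsg.pPrimeCore p G := by
        have : g * x * g⁻¹ * x⁻¹ = g * (x * g⁻¹ * x⁻¹) := by group
        rw [this]
        exact Subgroup.mul_mem _ hgK (hKn.conj_mem _ (Subgroup.inv_mem _ hgK) x)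
      have h3 : g * x * g⁻¹ * x⁻¹ ∈ Q ⊓ Cfsg.pPrimeCore p G := ⟨h1, h2⟩
      rw [hdisj, Subgroup.mem_bot] at h3
      calc x * g = (g * x * g⁻¹ * x⁻¹)⁻¹ * (g * x) := by group
        _ = g * x := by rw [h3, inv_one, one_mul]
    · -- the automorphism induced by `g` is trivial
      haveI : Finite (Sylow p G) := inferInstance
      obtain ⟨P', hQP'⟩ := hQ.exists_le_sylow
      have hP'm : Cfsg.IsMetacyclic ↥(P' : Subgroup G) :=
        isMetacyclic_of_injective (Sylow.equiv P' S).toMonoidHom (Sylow.equiv P' S).injective hS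
      have hQm : Cfsg.IsMetacyclic ↥Q :=
        isMetacyclic_of_injective (Subgroup.inclusion hQP') (Subgroup.inclusion_injective hQP') hP'm
      have hΦ := frattini_index_dvd_of_isMetacyclic hQ hQm
      have hα : (normConj Q ⟨g, hg⟩) ^ (r ^ j) = 1 := by
        rw [← map_pow]
        have : (⟨g, hg⟩ : Subgroup.normalizer (Q : Set G)) ^ (r ^ j) = 1 := by
          apply Subtype.ext
          rw [Subgroup.coe_pow, Subgroup.coe_one, ← hgo]
          exact pow_orderOf_eq_one g
        rw [this, map_one]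
      have h1 := mulAut_eq_one_of_small_frattini hQ hΦ (normConj Q ⟨g, hg⟩) r j hr hrp hr2 hα
      rw [Subgroup.mem_centralizer_iff]
      intro x hx
      have h2 := normConj_apply Q ⟨g, hg⟩ ⟨x, hx⟩
      rw [h1] at h2
      have h3 : x = g * x * g⁻¹ := h2
      calc x * g = g * x * g⁻¹ * g := by rw [← h3]
        _ = g * x := by group

end Cfsg.Agent.S4419
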