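import Cfsg.Statements.S0128
import Cfsg.Agent.Lib.Helper97.PRank
import Cfsg.Agent.Lib.Helper63.PGroup
import Cfsg.Agent.Lib.Helper53.NormalAbelian
import Cfsg.Agent.Lib.Helper1.PFrattini
import Cfsg.Agent.Lib.Helper24.Omega1

set_option autoImplicit false
set_option linter.style.haveILetI false
open Cfsg

namespace Cfsg.Agent.S0128

open scoped commutatorElement

section comp
variable {G : Type*} [Group G] {h b d z c : G}

theorem b_dpow (hbd : b * d = d * z * b) (hzd : Commute z d) (n : ℕ) :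
    b * d ^ n = d ^ n * z ^ n * b := by
  induction n with
  | zero => simp
  | succ n ih =>
    calc b * d ^ (n + 1) = (b * d ^ n) * d := by rw [pow_succ, mul_assoc]
      _ = d ^ n * z ^ n * (b * d) := by rw [ih]; simp only [mul_assoc]
      _ = d ^ n * z ^ n * (d * z * b) := by rw [hbd]
      _ = d ^ n * (z ^ n * d) * z * b := by simp only [mul_assoc]
      _ = d ^ n * (d * z ^ n) * z * b := by rw [(hzd.pow_left n).eq]
      _ = d ^ (n + 1) * z ^ (n + 1) * b := by rw [pow_succ, pow_succ]; simp only [mul_assoc]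

theorem bpow_h (hbh : b * h = h * d * b) (hbd : b * d = d * z * b) (hzb : Commute z b)
    (hzd : Commute z d) (n : ℕ) :
    b ^ n * h = h * d ^ n * z ^ (n.choose 2) * b ^ n := by
  induction n with
  | zero => simp
  | succ n ih =>
    have hc2 : (n + 1).choose 2 = n + n.choose 2 := by
      rw [Nat.choose_succ_succ' n 1, Nat.choose_one_right]
    calc b ^ (n + 1) * h = b * (b ^ n * h) := by rw [pow_succ', mul_assoc]
      _ = b * (h * d ^ n * z ^ (n.choose 2) * b ^ n) := by rw [ih]
      _ = (b * h) * d ^ n * z ^ (n.choose 2) * b ^ n := by simp only [mul_assoc]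
      _ = h * d * (b * d ^ n) * z ^ (n.choose 2) * b ^ n := by rw [hbh]; simp only [mul_assoc]
      _ = h * d * (d ^ n * z ^ n * b) * z ^ (n.choose 2) * b ^ n := by rw [b_dpow hbd hzd]
      _ = h * (d * d ^ n) * z ^ n * (b * z ^ (n.choose 2)) * b ^ n := by simp only [mul_assoc]
      _ = h * (d * d ^ n) * z ^ n * (z ^ (n.choose 2) * b) * b ^ n := by
          rw [(hzb.pow_left (n.choose 2)).eq]
      _ = h * d ^ (n + 1) * z ^ ((n + 1).choose 2) * b ^ (n + 1) := by
          rw [hc2, pow_add z, pow_succ' d, pow_succ' b]; simp only [mul_assoc]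

theorem dpow_h (hdh : d * h = c * h * d) (hcd : Commute c d) (s : ℕ) :
    d ^ s * h = c ^ s * h * d ^ s := by
  induction s with
  | zero => simp
  | succ s ih =>
    calc d ^ (s + 1) * h = d * (d ^ s * h) := by rw [pow_succ', mul_assoc]
      _ = d * (c ^ s * h * d ^ s) := by rw [ih]
      _ = (d * c ^ s) * h * d ^ s := by simp only [mul_assoc]
      _ = (c ^ s * d) * h * d ^ s := by rw [(hcd.pow_left s).eq]
      _ = c ^ s * (d * h) * d ^ s := by simp only [mul_assoc]
      _ = c ^ s * (c * h * d) * d ^ s := by rw [hdh]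
      _ = c ^ (s + 1) * h * d ^ (s + 1) := by rw [pow_succ c, pow_succ' d]; simp only [mul_assoc]

theorem hb_pow (hbh : b * h = h * d * b) (hbd : b * d = d * z * b) (hzb : Commute z b)
    (hzh : Commute z h) (hzd : Commute z d) (hdh : d * h = c * h * d) (hch : Commute c h)
    (hcd : Commute c d) (hzc : Commute z c) (n : ℕ) :
    (h * b) ^ n =
      h ^ n * d ^ (n.choose 2) * c ^ (n.choose 3) * z ^ (n.choose 3) * b ^ n := by
  induction n with
  | zero => simp
  | succ n ih =>
    obtain ⟨s, hs⟩ : ∃ s, s = n.choose 2 := ⟨_, rfl⟩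
    obtain ⟨e, he⟩ : ∃ e, e = n.choose 3 := ⟨_, rfl⟩
    have hc2 : (n + 1).choose 2 = n + s := by
      rw [hs, Nat.choose_succ_succ' n 1, Nat.choose_one_right]
    have hc3 : (n + 1).choose 3 = s + e := by
      rw [hs, he, Nat.choose_succ_succ' n 2]
    rw [← hs, ← he] at ih
    rw [hc2, hc3]
    have h1 : Commute (z ^ e) (h * d ^ n) := (hzh.pow_left e).mul_right ((hzd.pow_left e).pow_right n)
    have h2 : Commute (c ^ e) (h * d ^ n) := (hch.pow_left e).mul_right ((hcd.pow_left e).pow_right n)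
    have h3 : Commute (c ^ s) h := hch.pow_left s
    have h4 : Commute (c ^ s) (d ^ s) := (hcd.pow_left s).pow_right s
    have h5 : Commute (c ^ s) (d ^ n) := (hcd.pow_left s).pow_right n
    have h6 : Commute (z ^ s) (c ^ e) := (hzc.pow_left s).pow_right e
    have h7 : Commute (z ^ e) (c ^ s) := (hzc.pow_left e).pow_right s
    calc (h * b) ^ (n + 1) = (h * b) ^ n * (h * b) := pow_succ _ _
      _ = h ^ n * d ^ s * c ^ e * z ^ e * b ^ n * (h * b) := by rw [ih]
      _ = h ^ n * d ^ s * c ^ e * z ^ e * (b ^ n * h) * b := by simp only [mul_assoc]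
      _ = h ^ n * d ^ s * c ^ e * z ^ e * (h * d ^ n * z ^ s * b ^ n) * b := by
          rw [bpow_h hbh hbd hzb hzd, ← hs]
      _ = h ^ n * d ^ s * (c ^ e * (z ^ e * (h * d ^ n))) * z ^ s * b ^ n * b := by
          simp only [mul_assoc]
      _ = h ^ n * d ^ s * (c ^ e * ((h * d ^ n) * z ^ e)) * z ^ s * b ^ n * b := by rw [h1.eq]
      _ = h ^ n * d ^ s * ((c ^ e * (h * d ^ n)) * z ^ e) * z ^ s * b ^ n * b := by
          simp only [mul_assoc]
      _ = h ^ n * d ^ s * (((h * d ^ n) * c ^ e) * z ^ e) * z ^ s * b ^ n * b := by rw [h2.eq]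
      _ = h ^ n * (d ^ s * h) * d ^ n * c ^ e * z ^ e * z ^ s * b ^ n * b := by
          simp only [mul_assoc]
      _ = h ^ n * (c ^ s * h * d ^ s) * d ^ n * c ^ e * z ^ e * z ^ s * b ^ n * b := by
          rw [dpow_h hdh hcd]
      _ = h ^ n * ((c ^ s * h) * d ^ s) * d ^ n * c ^ e * z ^ e * z ^ s * b ^ n * b := by
          simp only [mul_assoc]
      _ = h ^ n * ((h * c ^ s) * d ^ s) * d ^ n * c ^ e * z ^ e * z ^ s * b ^ n * b := by
          rw [h3.eq]
      _ = h ^ n * h * (c ^ s * d ^ s) * d ^ n * c ^ e * z ^ e * z ^ s * b ^ n * b := by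
          simp only [mul_assoc]
      _ = h ^ n * h * (d ^ s * c ^ s) * d ^ n * c ^ e * z ^ e * z ^ s * b ^ n * b := by
          rw [h4.eq]
      _ = h ^ n * h * d ^ s * (c ^ s * d ^ n) * c ^ e * z ^ e * z ^ s * b ^ n * b := by
          simp only [mul_assoc]
      _ = h ^ n * h * d ^ s * (d ^ n * c ^ s) * c ^ e * z ^ e * z ^ s * b ^ n * b := by
          rw [h5.eq]
      _ = h ^ (n + 1) * d ^ (n + s) * c ^ (s + e) * z ^ (s + e) * b ^ (n + 1) := by
          rw [pow_succ h, pow_succ b, add_comm n s, pow_add d, pow_add c, pow_add z,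
            (Commute.pow_pow (Commute.refl z) s e).eq]
          simp only [mul_assoc]

theorem hb_pow_prime {p : ℕ} (hp : p.Prime) (hp3 : 3 < p) (hbh : b * h = h * d * b)
    (hbd : b * d = d * z * b) (hzb : Commute z b)
    (hzh : Commute z h) (hzd : Commute z d) (hdh : d * h = c * h * d) (hch : Commute c h)
    (hcd : Commute c d) (hzc : Commute z c) (hh : h ^ p = 1) (hb : b ^ p = 1) (hd : d ^ p = 1)
    (hc : c ^ p = 1) (hz : z ^ p = 1) : (h * b) ^ p = 1 := by
  rw [hb_pow hbh hbd hzb hzh hzd hdh hch hcd hzc]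
  obtain ⟨k2, hk2⟩ : p ∣ p.choose 2 := hp.dvd_choose_self (by norm_num) (by omega)
  obtain ⟨k3, hk3⟩ : p ∣ p.choose 3 := hp.dvd_choose_self (by norm_num) (by omega)
  rw [hk2, hk3, pow_mul, pow_mul, pow_mul, hh, hb, hd, hc, hz]
  simp

end comp

section struct

universe u

/-- a group of exponent `p` all of whose abelian subgroups have order at most `p²` has order at
most `p³` -/
theorem card_le_cube {N : Type*} [Group N] [Finite N] {p : ℕ} [hpf : Fact p.Prime]
    (hN : IsPGroup p N) (hexp : ∀ x : N, x ^ p = 1)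
    (hrk : ∀ E : Subgroup N, (∀ x ∈ E, ∀ y ∈ E, x * y = y * x) → Nat.card E ≤ p ^ 2) :
    Nat.card N ≤ p ^ 3 := by
  classical
  have hpp : p.Prime := hpf.out
  obtain ⟨A, -, hAn, hAc, hAmax⟩ := Cfsg.Agent.Lib.Helper53.exists_max_normal_abelian
    (⊥ : Subgroup N) inferInstance (by
      intro x hx y hy
      rw [Subgroup.mem_bot] at hx hy
      rw [hx, hy])
  haveI := hAn
  have hC := Cfsg.Agent.Lib.Helper53.centralizer_eq_of_max_normal_abelian hN A hAc hAmax
  have hA2 := hrk A hAc
  obtain ⟨j, hj⟩ := (hN.to_subgroup A).exists_card_eq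
  have hj2 : j ≤ 2 := by
    rw [hj] at hA2
    exact (Nat.pow_le_pow_iff_right hpp.one_lt).mp hA2
  have hcard : Nat.card A * A.index = Nat.card N := Subgroup.card_mul_index A
  by_cases hj' : j = 2
  · rw [hj'] at hj
    have hidx := Cfsg.Agent.Lib.Helper97.PRank.index_centralizer_le hN A (fun a _ => hexp a) hj
    rw [hC] at hidx
    rw [← hcard, hj]
    calc p ^ 2 * A.index ≤ p ^ 2 * p := Nat.mul_le_mul_left _ hidx
      _ = p ^ 3 := by ring
  · have hj1 : j ≤ 1 := by omega
    have hAcen : A ≤ Subgroup.center N := by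
      interval_cases j
      · rw [pow_zero] at hj
        rw [Subgroup.eq_bot_of_card_eq A hj]; exact bot_le
      · rw [pow_one] at hj
        exact Cfsg.Agent.Lib.Helper63.normal_card_prime_le_center hN A hj
    have hAtop : A = ⊤ := by
      rw [← hC, eq_top_iff]
      intro g _
      rw [Subgroup.mem_centralizer_iff]
      intro a ha
      exact (Subgroup.mem_center_iff.mp (hAcen ha) g).symm
    have h1 : Nat.card N = Nat.card A := by rw [hAtop, Subgroup.card_top]
    rw [h1, hj]
    exact Nat.pow_le_pow_right hpp.pos (by omega)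

/-- in a finite `p`-group a nontrivial normal subgroup `K` strictly contains `⁅K, ⊤⁆` -/
theorem comm_top_ne {G : Type*} [Group G] [Finite G] {p : ℕ} [Fact p.Prime] (hG : IsPGroup p G)
    (K : Subgroup G) (hK : K ≠ ⊥) : ⁅K, (⊤ : Subgroup G)⁆ ≠ K := by
  intro h
  have hlcs : ∀ n, K ≤ Subgroup.lowerCentralSeries (⊤ : Subgroup G) n := by
    intro n
    induction n with
    | zero => rw [Subgroup.lowerCentralSeries_zero]; exact le_top
    | succ n ih =>
      rw [Subgroup.lowerCentralSeries_succ]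
      calc K = ⁅K, (⊤ : Subgroup G)⁆ := h.symm
        _ ≤ ⁅Subgroup.lowerCentralSeries (⊤ : Subgroup G) n, (⊤ : Subgroup G)⁆ :=
            Subgroup.commutator_mono ih le_rfl
  haveI : Group.IsNilpotent G := hG.isNilpotent
  obtain ⟨n, hn⟩ := Subgroup.nilpotent_iff_lowerCentralSeries.mp (inferInstance : Group.IsNilpotent G)
  apply hK
  rw [eq_bot_iff, ← hn]; exact hlcs n

theorem normal_card_le_prime_le_center {G : Type*} [Group G] [Finite G] {p : ℕ} [hpf : Fact p.Prime]
    (hG : IsPGroup p G) (T : Subgroup G) [T.Normal] (hT : Nat.card T ≤ p) :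
    T ≤ Subgroup.center G := by
  have hpp : p.Prime := hpf.out
  obtain ⟨i, hi⟩ := (hG.to_subgroup T).exists_card_eq
  have hi1 : i ≤ 1 := by
    rw [hi] at hT
    by_contra hcon
    push Not at hcon
    have h1 : p ^ 2 ≤ p ^ i := Nat.pow_le_pow_right hpp.pos hcon
    have h2 : p < p ^ 2 := by nlinarith [hpp.one_lt]
    omega
  interval_cases i
  · rw [pow_zero] at hi
    rw [Subgroup.eq_bot_of_card_eq T hi]; exact bot_le
  · rw [pow_one] at hi
    exact Cfsg.Agent.Lib.Helper63.normal_card_prime_le_center hG T hi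

theorem key (p : ℕ) [hpf : Fact p.Prime] (hp : 3 < p) : ∀ n : ℕ, ∀ (G : Type u) [Group G] [Finite G],
    Nat.card G = n → IsPGroup p G →
    (∀ E : Subgroup G, (∀ x ∈ E, ∀ y ∈ E, x * y = y * x) → (∀ x ∈ E, x ^ p = 1) →
      Nat.card E ≤ p ^ 2) →
    ∀ a b : G, a ^ p = 1 → b ^ p = 1 → (a * b) ^ p = 1 := by
  intro n
  induction n using Nat.strong_induction_on with
  | _ n ih =>
  intro G _ _ hn hG hrk a b ha hb
  classical
  have hpp : p.Prime := hpf.out
  -- proper subgroups
  have hsub : ∀ K : Subgroup G, K ≠ ⊤ → ∀ x y : G, x ∈ K → y ∈ K → x ^ p = 1 → y ^ p = 1 →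
      (x * y) ^ p = 1 := by
    intro K hK x y hx hy hxp hyp
    have hlt : Nat.card K < n := by
      rw [← hn]
      apply lt_of_le_of_ne (Subgroup.card_le_card_group K)
      intro h
      exact hK (Subgroup.eq_top_of_card_eq K h)
    have hrkK : ∀ E : Subgroup K, (∀ x ∈ E, ∀ y ∈ E, x * y = y * x) → (∀ x ∈ E, x ^ p = 1) →
        Nat.card E ≤ p ^ 2 := by
      intro E hEc hEe
      have h1 := hrk (E.map K.subtype) (by
        rintro _ ⟨x, hx, rfl⟩ _ ⟨y, hy, rfl⟩
        exact congrArg Subtype.val (hEc x hx y hy)) (by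
        rintro _ ⟨x, hx, rfl⟩
        exact congrArg Subtype.val (hEe x hx))
      rwa [Subgroup.card_map_of_injective K.subtype_injective] at h1
    have h2 := ih (Nat.card K) hlt K rfl (hG.to_subgroup K) hrkK ⟨x, hx⟩ ⟨y, hy⟩
      (Subtype.ext hxp) (Subtype.ext hyp)
    exact congrArg Subtype.val h2
  by_cases hK : Subgroup.closure {a, b} = ⊤
  swap
  · exact hsub _ hK a b (Subgroup.subset_closure (by simp)) (Subgroup.subset_closure (by simp))
      ha hb
  by_cases hab : Commute a b
  · rw [hab.mul_pow, ha, hb, one_mul]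
  have haT : Subgroup.zpowers a ≠ ⊤ := by
    intro h
    apply hab
    have : b ∈ Subgroup.zpowers a := h ▸ Subgroup.mem_top b
    obtain ⟨k, rfl⟩ := this
    exact (Commute.refl a).zpow_right k
  obtain ⟨M, hMco, haM⟩ := (eq_top_or_exists_le_coatom (Subgroup.zpowers a)).resolve_left haT
  haveI hMn : M.Normal := Cfsg.Agent.Lib.Helper1.coatom_normal_of_isPGroup hG M hMco
  have haM' : a ∈ M := haM (Subgroup.mem_zpowers a)
  have hMne : M ≠ ⊤ := hMco.1
  obtain ⟨N, hN⟩ : ∃ N : Subgroup G, ∀ x, x ∈ N ↔ x ∈ M ∧ x ^ p = 1 := by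
    refine ⟨{ carrier := {x | x ∈ M ∧ x ^ p = 1}
              mul_mem' := ?_
              one_mem' := ⟨one_mem _, one_pow _⟩
              inv_mem' := ?_ }, fun x => Iff.rfl⟩
    · rintro x y ⟨hx, hxp⟩ ⟨hy, hyp⟩
      exact ⟨mul_mem hx hy, hsub M hMne x y hx hy hxp hyp⟩
    · rintro x ⟨hx, hxp⟩
      exact ⟨inv_mem hx, by rw [inv_pow, hxp, inv_one]⟩
  haveI hNn : N.Normal := by
    constructor
    intro x hx g
    rw [hN] at hx ⊢
    exact ⟨hMn.conj_mem x hx.1 g, by rw [conj_pow, hx.2]; simp⟩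
  have haN : a ∈ N := (hN a).mpr ⟨haM', ha⟩
  have hNe : ∀ x ∈ N, x ^ p = 1 := fun x hx => ((hN x).mp hx).2
  have hNcard : Nat.card N ≤ p ^ 3 := by
    apply card_le_cube (hG.to_subgroup N) (fun x => Subtype.ext (hNe x x.2))
    intro E hE
    have h1 := hrk (E.map N.subtype) (by
      rintro _ ⟨x, hx, rfl⟩ _ ⟨y, hy, rfl⟩
      exact congrArg Subtype.val (hE x hx y hy)) (by
      rintro _ ⟨x, _, rfl⟩
      exact hNe x x.2)
    rwa [Subgroup.card_map_of_injective N.subtype_injective] at h1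
  have hsup : N ⊔ Subgroup.zpowers b = ⊤ := by
    rw [eq_top_iff, ← hK, Subgroup.closure_le]
    intro x hx
    rcases hx with hx | hx
    · rw [hx]; exact (le_sup_left : N ≤ N ⊔ Subgroup.zpowers b) haN
    · rw [Set.mem_singleton_iff] at hx
      rw [hx]
      exact (le_sup_right : Subgroup.zpowers b ≤ N ⊔ Subgroup.zpowers b) (Subgroup.mem_zpowers b)
  have hDN : ∀ x y : G, ⁅x, y⁆ ∈ N := by
    have hrep : ∀ x : G, ∃ k : ℤ, QuotientGroup.mk' N x = (QuotientGroup.mk' N b) ^ k := by
      intro x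
      have hx : x ∈ ((N ⊔ Subgroup.zpowers b : Subgroup G) : Set G) := by
        rw [hsup]; trivial
      rw [Subgroup.normal_mul] at hx
      obtain ⟨y, hy, w, hw, rfl⟩ := Set.mem_mul.mp hx
      obtain ⟨k, rfl⟩ := hw
      refine ⟨k, ?_⟩
      rw [map_mul, map_zpow]
      have : QuotientGroup.mk' N y = 1 := (QuotientGroup.eq_one_iff y).mpr hy
      rw [this, one_mul]
    intro x y
    obtain ⟨i, hi⟩ := hrep x
    obtain ⟨j, hj⟩ := hrep y
    rw [← QuotientGroup.eq_one_iff, ← QuotientGroup.mk'_apply, map_commutatorElement, hi, hj,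
      commutatorElement_eq_one_iff_commute]
    exact (Commute.refl _).zpow_zpow i j
  obtain ⟨D, hD⟩ : ∃ D : Subgroup G, D = ⁅(⊤ : Subgroup G), (⊤ : Subgroup G)⁆ := ⟨_, rfl⟩
  haveI hDn : D.Normal := by rw [hD]; infer_instance
  have hDleN : D ≤ N := by
    rw [hD, Subgroup.commutator_le]
    intro x _ y _
    exact hDN x y
  have hDneN : D ≠ N := by
    intro h
    have h1 : commutator G ≤ frattini G :=
      Cfsg.Agent.Lib.Helper24.commutator_le_frattini_of_isPGroup hG
    have h2 : Subgroup.zpowers b ⊔ frattini G = ⊤ := by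
      rw [eq_top_iff, ← hsup, sup_comm]
      apply sup_le_sup_left
      rw [← h, hD]
      exact h1
    have h3 := frattini_nongenerating h2
    apply hab
    have : a ∈ Subgroup.zpowers b := h3 ▸ Subgroup.mem_top a
    obtain ⟨k, rfl⟩ := this
    exact (Commute.refl b).zpow_left k
  have hDcard : Nat.card D ≤ p ^ 2 := by
    obtain ⟨j, hj⟩ := (hG.to_subgroup D).exists_card_eq
    rw [hj]
    apply Nat.pow_le_pow_right hpp.pos
    by_contra hcon
    push Not at hcon
    apply hDneN
    apply Subgroup.eq_of_le_of_card_ge hDleN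
    rw [hj]
    exact hNcard.trans (Nat.pow_le_pow_right hpp.pos hcon)
  obtain ⟨T, hT⟩ : ∃ T : Subgroup G, T = ⁅D, (⊤ : Subgroup G)⁆ := ⟨_, rfl⟩
  haveI hTn : T.Normal := by rw [hT]; infer_instance
  have hTD : T ≤ D := by rw [hT]; exact Subgroup.commutator_le_left D ⊤
  have hTcen : T ≤ Subgroup.center G := by
    by_cases hD1 : D = ⊥
    · have : T = ⊥ := by rw [eq_bot_iff, ← hD1]; exact hTD
      rw [this]; exact bot_le
    · have hne : T ≠ D := by rw [hT]; exact comm_top_ne hG D hD1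
      apply normal_card_le_prime_le_center hG T
      obtain ⟨i, hi⟩ := (hG.to_subgroup T).exists_card_eq
      rw [hi]
      have : i ≤ 1 := by
        by_contra hcon
        push Not at hcon
        apply hne
        apply Subgroup.eq_of_le_of_card_ge hTD
        rw [hi]
        exact hDcard.trans (Nat.pow_le_pow_right hpp.pos hcon)
      calc p ^ i ≤ p ^ 1 := Nat.pow_le_pow_right hpp.pos this
        _ = p := pow_one p
  -- the elements
  obtain ⟨d, hd⟩ : ∃ d : G, d = ⁅a⁻¹, b⁆ := ⟨_, rfl⟩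
  have hdD : d ∈ D := by
    rw [hd, hD]; exact Subgroup.commutator_mem_commutator (Subgroup.mem_top _) (Subgroup.mem_top _)
  obtain ⟨z, hz⟩ : ∃ z : G, z = ⁅d⁻¹, b⁆ := ⟨_, rfl⟩
  have hzT : z ∈ T := by
    rw [hz, hT]; exact Subgroup.commutator_mem_commutator (inv_mem hdD) (Subgroup.mem_top _)
  obtain ⟨c, hc⟩ : ∃ c : G, c = ⁅d, a⁆ := ⟨_, rfl⟩
  have hcT : c ∈ T := by
    rw [hc, hT]; exact Subgroup.commutator_mem_commutator hdD (Subgroup.mem_top _)
  have hzcen : ∀ g : G, Commute z g := fun g => (Subgroup.mem_center_iff.mp (hTcen hzT) g).symm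
  have hccen : ∀ g : G, Commute c g := fun g => (Subgroup.mem_center_iff.mp (hTcen hcT) g).symm
  have hbh : b * a = a * d * b := by rw [hd, commutatorElement_def]; group
  have hbd : b * d = d * z * b := by rw [hz, commutatorElement_def]; group
  have hdh : d * a = c * a * d := by rw [hc, commutatorElement_def]; group
  exact hb_pow_prime hpp hp hbh hbd (hzcen b) (hzcen a) (hzcen d) hdh (hccen a) (hccen d)
    (hzcen c) ha hb (hNe d (hDleN hdD)) (hNe c (hDleN (hTD hcT))) (hNe z (hDleN (hTD hzT)))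

end struct

/-- For p > 3, in a p-group of p-rank at most 2 the elements of order dividing p generate a subgroup of exponent dividing p. -/
theorem result {R : Type*} [Group R] [Finite R] {p : ℕ} [Fact p.Prime] (hp : 3 < p) (hR : IsPGroup p R) (hrk : ∀ E : Subgroup R, Cfsg.IsElementaryAbelian p E → Nat.card E ≤ p ^ 2) (g : R) (hg : g ∈ Subgroup.closure {x : R | x ^ p = 1}) : g ^ p = 1 := by
  have hrk' : ∀ E : Subgroup R, (∀ x ∈ E, ∀ y ∈ E, x * y = y * x) → (∀ x ∈ E, x ^ p = 1) →
      Nat.card E ≤ p ^ 2 := by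
    intro E hEc hEe
    refine hrk E ⟨⟨⟨?_⟩⟩, hEe⟩
    rintro ⟨x, hx⟩ ⟨y, hy⟩
    exact Subtype.ext (hEc x hx y hy)
  have hkey := key p hp (Nat.card R) R rfl hR hrk'
  induction hg using Subgroup.closure_induction with
  | mem x hx => exact hx
  | one => exact one_pow p
  | mul x y _ _ ihx ihy => exact hkey x y ihx ihy
  | inv x _ ihx => rw [inv_pow, ihx, inv_one]

end Cfsg.Agent.S0128
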