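import Cfsg.Statements.S0637
import Cfsg.Agent.S0128

set_option autoImplicit false
set_option linter.style.haveILetI false
open Cfsg

namespace Cfsg.Agent.S0637

open scoped commutatorElement

section powhom
variable {X : Type*} [Group X]

/-- if `x ^ p` is central and `⁅x, ⁅y, x⁆⁆` is central then `⁅y, x⁆ ^ p = 1` (`p` odd) -/
theorem comm_pow_of_central {p : ℕ} (hpp : p.Prime) (hp2 : p ≠ 2) (x y : X)
    (hx : x ^ p ∈ Subgroup.center X) (hc : ⁅x, ⁅y, x⁆⁆ ∈ Subgroup.center X) :
    ⁅y, x⁆ ^ p = 1 := by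
  obtain ⟨c', hc'⟩ : ∃ c' : X, c' = ⁅y, x⁆ := ⟨_, rfl⟩
  obtain ⟨e, he⟩ : ∃ e : X, e = ⁅x, c'⁆ := ⟨_, rfl⟩
  rw [← hc'] at hc ⊢
  rw [← he] at hc
  have hecomm : ∀ g : X, Commute e g := fun g => (Subgroup.mem_center_iff.mp hc g).symm
  have hxcomm : ∀ g : X, Commute (x ^ p) g := fun g => (Subgroup.mem_center_iff.mp hx g).symm
  have h1 := Cfsg.Agent.Lib.Helper68.pow_mul_class2 c' x (he ▸ hecomm x) p
  rw [← he] at h1
  have hep : e ^ p = 1 := by
    have h2 : e ^ p * (c' * x ^ p) = 1 * (c' * x ^ p) := by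
      rw [one_mul, ← mul_assoc, ← h1]
      exact (hxcomm c').eq
    exact mul_right_cancel h2
  have h3 := Cfsg.Agent.Lib.Helper68.mul_pow_class2 c' x (he ▸ hecomm c') (he ▸ hecomm x) p
  rw [← he] at h3
  obtain ⟨t, ht⟩ : ∃ t, p = 2 * t + 1 := by
    rcases hpp.eq_two_or_odd with h | h
    · exact absurd h hp2
    · exact ⟨p / 2, by omega⟩
  have hsum : (∑ i ∈ Finset.range p, i) = p * t := by
    have h1 := Finset.sum_range_id_mul_two p
    have h2 : p - 1 = 2 * t := by omega
    rw [h2] at h1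
    have h3 : (∑ i ∈ Finset.range p, i) * 2 = (p * t) * 2 := by rw [h1]; ring
    exact Nat.eq_of_mul_eq_mul_right (by norm_num) h3
  rw [hsum, pow_mul, hep, one_pow, mul_one] at h3
  have h4 : c' * x = y * x * y⁻¹ := by rw [hc', commutatorElement_def]; group
  have h5 : (y * x * y⁻¹) ^ p = x ^ p := by
    rw [conj_pow]
    have := (hxcomm y).eq
    rw [← this]; group
  rw [h4, h5] at h3
  -- x^p = c'^p * x^p
  have h6 : c' ^ p * x ^ p = 1 * x ^ p := by rw [one_mul]; exact h3.symm
  exact mul_right_cancel h6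

/-- a `p`-group of order at most `p⁴` has class at most 3 -/
theorem class_three {p : ℕ} [hpf : Fact p.Prime] [Finite X] (hX : IsPGroup p X)
    (hcard : Nat.card X ≤ p ^ 4) :
    ⁅⁅(⊤ : Subgroup X), (⊤ : Subgroup X)⁆, (⊤ : Subgroup X)⁆ ≤ Subgroup.center X := by
  classical
  have hpp : p.Prime := hpf.out
  obtain ⟨D, hD⟩ : ∃ D : Subgroup X, D = ⁅(⊤ : Subgroup X), (⊤ : Subgroup X)⁆ := ⟨_, rfl⟩
  haveI hDn : D.Normal := by rw [hD]; infer_instance
  rw [← hD]
  by_cases hD1 : D = ⊥
  · rw [hD1, Subgroup.commutator_bot_left]; exact bot_le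
  have hDcard : Nat.card D ≤ p ^ 2 := by
    obtain ⟨k, hk⟩ := hX.index D
    have hk2 : 2 ≤ k := by
      by_contra hcon
      push Not at hcon
      have hcardQ : Nat.card (X ⧸ D) = p ^ k := by rw [← hk]; rfl
      have hcyc : IsCyclic (X ⧸ D) := by
        interval_cases k
        · rw [pow_zero] at hcardQ
          haveI : Subsingleton (X ⧸ D) := (Nat.card_eq_one_iff_unique.mp hcardQ).1
          infer_instance
        · rw [pow_one] at hcardQ
          exact isCyclic_of_prime_card hcardQ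
      obtain ⟨g, hg⟩ := hcyc.exists_generator
      obtain ⟨g₀, rfl⟩ := QuotientGroup.mk_surjective g
      have hsup : D ⊔ Subgroup.zpowers g₀ = ⊤ := by
        rw [eq_top_iff]
        intro x _
        obtain ⟨i, hi⟩ := hg (x : X ⧸ D)
        have h1 : ((g₀ ^ i : X) : X ⧸ D) = (x : X ⧸ D) := by
          rw [← hi]; rfl
        have h2 : (g₀ ^ i)⁻¹ * x ∈ D := QuotientGroup.eq.mp h1
        have hx : x = ((g₀ ^ i) * ((g₀ ^ i)⁻¹ * x) * (g₀ ^ i)⁻¹) * g₀ ^ i := by group
        rw [hx]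
        exact mul_mem ((le_sup_left : D ≤ D ⊔ Subgroup.zpowers g₀) (hDn.conj_mem _ h2 _))
          ((le_sup_right : Subgroup.zpowers g₀ ≤ D ⊔ Subgroup.zpowers g₀)
            (Subgroup.zpow_mem_zpowers g₀ i))
      have h1 : commutator X ≤ frattini X :=
        Cfsg.Agent.Lib.Helper24.commutator_le_frattini_of_isPGroup hX
      have h2 : Subgroup.zpowers g₀ ⊔ frattini X = ⊤ := by
        rw [eq_top_iff, ← hsup, sup_comm]
        apply sup_le_sup_left
        rw [hD]
        exact h1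
      have h3 := frattini_nongenerating h2
      apply hD1
      rw [hD, eq_bot_iff, Subgroup.commutator_le]
      intro x _ y _
      have hx : x ∈ Subgroup.zpowers g₀ := h3 ▸ Subgroup.mem_top x
      have hy : y ∈ Subgroup.zpowers g₀ := h3 ▸ Subgroup.mem_top y
      obtain ⟨i, rfl⟩ := hx
      obtain ⟨j, rfl⟩ := hy
      rw [Subgroup.mem_bot, commutatorElement_eq_one_iff_commute]
      exact (Commute.refl g₀).zpow_zpow i j
    obtain ⟨j, hj⟩ := (hX.to_subgroup D).exists_card_eq
    have h1 : Nat.card D * D.index = Nat.card X := Subgroup.card_mul_index D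
    rw [hj, hk, ← pow_add] at h1
    rw [← h1] at hcard
    have h2 : j + k ≤ 4 := (Nat.pow_le_pow_iff_right hpp.one_lt).mp hcard
    rw [hj]
    exact Nat.pow_le_pow_right hpp.pos (by omega)
  obtain ⟨T, hT⟩ : ∃ T : Subgroup X, T = ⁅D, (⊤ : Subgroup X)⁆ := ⟨_, rfl⟩
  haveI hTn : T.Normal := by rw [hT]; infer_instance
  have hTD : T ≤ D := by rw [hT]; exact Subgroup.commutator_le_left D ⊤
  rw [← hT]
  have hne : T ≠ D := by rw [hT]; exact Cfsg.Agent.S0128.comm_top_ne hX D hD1
  apply Cfsg.Agent.S0128.normal_card_le_prime_le_center hX T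
  obtain ⟨i, hi⟩ := (hX.to_subgroup T).exists_card_eq
  rw [hi]
  have : i ≤ 1 := by
    by_contra hcon
    push Not at hcon
    apply hne
    apply Subgroup.eq_of_le_of_card_ge hTD
    rw [hi]
    exact hDcard.trans (Nat.pow_le_pow_right hpp.pos hcon)
  calc p ^ i ≤ p ^ 1 := Nat.pow_le_pow_right hpp.pos this
    _ = p := pow_one p

/-- in a `p`-group of order at most `p⁴` (`p ≥ 5`) in which all `p`-th powers are central, the
`p`-th power map is multiplicative -/
theorem pow_hom {p : ℕ} [hpf : Fact p.Prime] [Finite X] (hp : 3 < p) (hX : IsPGroup p X)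
    (hcard : Nat.card X ≤ p ^ 4) (hpow : ∀ x : X, x ^ p ∈ Subgroup.center X) (h b : X) :
    (h * b) ^ p = h ^ p * b ^ p := by
  have hpp : p.Prime := hpf.out
  have hcl := class_three hX hcard
  have h3 : ∀ x y w : X, ⁅⁅x, y⁆, w⁆ ∈ Subgroup.center X := by
    intro x y w
    apply hcl
    exact Subgroup.commutator_mem_commutator
      (Subgroup.commutator_mem_commutator (Subgroup.mem_top x) (Subgroup.mem_top y))
      (Subgroup.mem_top w)
  have h3' : ∀ x y w : X, ⁅w, ⁅x, y⁆⁆ ∈ Subgroup.center X := by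
    intro x y w
    have := inv_mem (h3 x y w)
    rwa [commutatorElement_inv] at this
  have hcp : ∀ x y : X, ⁅y, x⁆ ^ p = 1 := fun x y =>
    comm_pow_of_central hpp (by omega) x y (hpow x) (h3' y x x)
  obtain ⟨d, hd⟩ : ∃ d : X, d = ⁅h⁻¹, b⁆ := ⟨_, rfl⟩
  obtain ⟨z, hz⟩ : ∃ z : X, z = ⁅d⁻¹, b⁆ := ⟨_, rfl⟩
  obtain ⟨c, hc⟩ : ∃ c : X, c = ⁅d, h⁆ := ⟨_, rfl⟩
  have hzcen : ∀ g : X, Commute z g := by
    intro g
    have h4 : z ∈ Subgroup.center X := by
      rw [hz, hd]
      have h5 := h3 b h⁻¹ b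
      have h6 : ⁅h⁻¹, b⁆⁻¹ = ⁅b, h⁻¹⁆ := commutatorElement_inv h⁻¹ b
      rw [h6]; exact h5
    exact (Subgroup.mem_center_iff.mp h4 g).symm
  have hccen : ∀ g : X, Commute c g := by
    intro g
    have h4 : c ∈ Subgroup.center X := by
      rw [hc, hd]; exact h3 h⁻¹ b h
    exact (Subgroup.mem_center_iff.mp h4 g).symm
  have hbh : b * h = h * d * b := by rw [hd, commutatorElement_def]; group
  have hbd : b * d = d * z * b := by rw [hz, commutatorElement_def]; group
  have hdh : d * h = c * h * d := by rw [hc, commutatorElement_def]; group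
  have hdp : d ^ p = 1 := by rw [hd]; exact hcp b h⁻¹
  have hzp : z ^ p = 1 := by rw [hz]; exact hcp b d⁻¹
  have hcpp : c ^ p = 1 := by rw [hc]; exact hcp h d
  rw [Cfsg.Agent.S0128.hb_pow hbh hbd (hzcen b) (hzcen h) (hzcen d) hdh (hccen h) (hccen d)
    (hzcen c) p]
  obtain ⟨k2, hk2⟩ : p ∣ p.choose 2 := hpp.dvd_choose_self (by norm_num) (by omega)
  obtain ⟨k3, hk3⟩ : p ∣ p.choose 3 := hpp.dvd_choose_self (by norm_num) (by omega)
  rw [hk2, hk3, pow_mul, pow_mul, pow_mul, hdp, hcpp, hzp]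
  simp

end powhom

section main

universe u

/-- the order of `Ω₁` is invariant under isomorphism -/
theorem card_omega_congr {A B : Type*} [Group A] [Group B] (p : ℕ) (e : A ≃* B) :
    Nat.card (Cfsg.omegaOne p (⊤ : Subgroup A)) = Nat.card (Cfsg.omegaOne p (⊤ : Subgroup B)) := by
  have h : (Cfsg.omegaOne p (⊤ : Subgroup A)).map e.toMonoidHom =
      Cfsg.omegaOne p (⊤ : Subgroup B) := by
    unfold Cfsg.omegaOne
    rw [MonoidHom.map_closure]
    congr 1
    ext y
    constructor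
    · rintro ⟨x, ⟨_, hx⟩, rfl⟩
      refine ⟨Subgroup.mem_top _, ?_⟩
      show (e x) ^ p = 1
      rw [← map_pow, hx, map_one]
    · rintro ⟨_, hy⟩
      refine ⟨e.symm y, ⟨Subgroup.mem_top _, ?_⟩, ?_⟩
      · rw [← map_pow, hy, map_one]
      · show e (e.symm y) = y
        exact e.apply_symm_apply y
  rw [← h]
  exact (Subgroup.card_map_of_injective e.injective).symm

theorem key_prime {R : Type*} [Group R] [Finite R] {p : ℕ} [hpf : Fact p.Prime] (hp : 3 < p)
    (hR : IsPGroup p R) (hO : Nat.card (Cfsg.omegaOne p (⊤ : Subgroup R)) ≤ p ^ 2)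
    (T : Subgroup R) [T.Normal] (hT : Nat.card T = p) :
    Nat.card (Cfsg.omegaOne p (⊤ : Subgroup (R ⧸ T))) ≤ p ^ 2 := by
  classical
  by_contra hcon
  push Not at hcon
  have hpp : p.Prime := hpf.out
  have hQ : IsPGroup p (R ⧸ T) := hR.to_quotient T
  have hex : ∃ Nb : Subgroup (R ⧸ T), (∀ x ∈ Nb, x ^ p = 1) ∧ Nat.card Nb = p ^ 3 := by
    by_cases hrk : ∀ E : Subgroup (R ⧸ T), (∀ x ∈ E, ∀ y ∈ E, x * y = y * x) →
        (∀ x ∈ E, x ^ p = 1) → Nat.card E ≤ p ^ 2
    · have hexp : ∀ g ∈ Cfsg.omegaOne p (⊤ : Subgroup (R ⧸ T)), g ^ p = 1 := by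
        intro g hg
        have hkey := Cfsg.Agent.S0128.key p hp (Nat.card (R ⧸ T)) (R ⧸ T) rfl hQ hrk
        unfold Cfsg.omegaOne at hg
        induction hg using Subgroup.closure_induction with
        | mem x hx => exact hx.2
        | one => exact one_pow p
        | mul x y _ _ ihx ihy => exact hkey x y ihx ihy
        | inv x _ ihx => rw [inv_pow, ihx, inv_one]
      have hge : p ^ 3 ≤ Nat.card (Cfsg.omegaOne p (⊤ : Subgroup (R ⧸ T))) := by
        obtain ⟨j, hj⟩ := (hQ.to_subgroup (Cfsg.omegaOne p (⊤ : Subgroup (R ⧸ T)))).exists_card_eq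
        rw [hj] at hcon ⊢
        have : 2 < j := (Nat.pow_lt_pow_iff_right hpp.one_lt).mp hcon
        exact Nat.pow_le_pow_right hpp.pos this
      obtain ⟨Nb, hNle, hNcard⟩ := Sylow.exists_subgroup_le_card_pow_prime_of_le_card hpp hQ hge
      exact ⟨Nb, fun x hx => hexp x (hNle hx), hNcard⟩
    · push Not at hrk
      obtain ⟨E, hEc, hEe, hEcard⟩ := hrk
      have hge : p ^ 3 ≤ Nat.card E := by
        obtain ⟨j, hj⟩ := (hQ.to_subgroup E).exists_card_eq
        rw [hj] at hEcard ⊢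
        have : 2 < j := (Nat.pow_lt_pow_iff_right hpp.one_lt).mp hEcard
        exact Nat.pow_le_pow_right hpp.pos this
      obtain ⟨Nb, hNle, hNcard⟩ := Sylow.exists_subgroup_le_card_pow_prime_of_le_card hpp hQ hge
      exact ⟨Nb, fun x hx => hEe x (hNle hx), hNcard⟩
  obtain ⟨Nb, hNe, hNcard⟩ := hex
  obtain ⟨G, hG⟩ : ∃ G : Subgroup R, G = Nb.comap (QuotientGroup.mk' T) := ⟨_, rfl⟩
  have hGcard : Nat.card G = p ^ 4 := by
    have h1 : G.index = Nb.index := by
      rw [hG]; exact Subgroup.index_comap_of_surjective Nb (QuotientGroup.mk'_surjective T)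
    have h2 : Nat.card G * G.index = Nat.card R := Subgroup.card_mul_index G
    have h3 : Nat.card Nb * Nb.index = Nat.card (R ⧸ T) := Subgroup.card_mul_index Nb
    have h4 : Nat.card R = Nat.card (R ⧸ T) * Nat.card T :=
      Subgroup.card_eq_card_quotient_mul_card_subgroup T
    rw [h1, h4, ← h3, hT, hNcard] at h2
    have h5 : Nb.index ≠ 0 := Subgroup.index_ne_zero_of_finite
    have h6 : Nat.card G * Nb.index = (p ^ 4) * Nb.index := by rw [h2]; ring
    exact Nat.eq_of_mul_eq_mul_right (Nat.pos_of_ne_zero h5) h6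
  have hTcen : T ≤ Subgroup.center R := Cfsg.Agent.Lib.Helper63.normal_card_prime_le_center hR T hT
  have hpowT : ∀ x ∈ G, x ^ p ∈ T := by
    intro x hx
    rw [hG, Subgroup.mem_comap] at hx
    have h1 := hNe _ hx
    rw [← map_pow] at h1
    exact (QuotientGroup.eq_one_iff _).mp h1
  have hpowG : ∀ x : G, x ^ p ∈ Subgroup.center G := by
    intro x
    rw [Subgroup.mem_center_iff]
    intro g
    apply Subtype.ext
    have h1 := Subgroup.mem_center_iff.mp (hTcen (hpowT x x.2)) (g : R)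
    simpa using h1
  have hmul : ∀ x y : G, (x * y) ^ p = x ^ p * y ^ p :=
    fun x y => pow_hom hp (hR.to_subgroup G) (le_of_eq hGcard) hpowG x y
  let f : G →* R :=
    { toFun := fun x => (x : R) ^ p
      map_one' := by simp
      map_mul' := by
        intro x y
        have := congrArg Subtype.val (hmul x y)
        simpa using this }
  have hrange : f.range ≤ T := by
    rintro _ ⟨x, rfl⟩
    exact hpowT x x.2
  have h1 : Nat.card (f.ker) * Nat.card f.range = Nat.card G := by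
    rw [← Subgroup.index_ker]
    exact Subgroup.card_mul_index _
  have h2 : Nat.card f.range ≤ p := by
    rw [← hT]; exact Subgroup.card_le_of_le hrange
  have h3 : p ^ 3 ≤ Nat.card (f.ker) := by
    have h4 : p ^ 3 * p ≤ Nat.card (f.ker) * p := by
      calc p ^ 3 * p = p ^ 4 := by ring
        _ = Nat.card (f.ker) * Nat.card f.range := by rw [h1, hGcard]
        _ ≤ Nat.card (f.ker) * p := Nat.mul_le_mul_left _ h2
    exact Nat.le_of_mul_le_mul_right h4 hpp.pos
  have hker : (f.ker).map G.subtype ≤ Cfsg.omegaOne p (⊤ : Subgroup R) := by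
    rintro _ ⟨x, hx, rfl⟩
    apply Subgroup.subset_closure
    exact ⟨Subgroup.mem_top _, hx⟩
  have h5 := Subgroup.card_le_of_le hker
  rw [Subgroup.card_map_of_injective G.subtype_injective] at h5
  have h6 : p ^ 2 < p ^ 3 := Nat.pow_lt_pow_right hpp.one_lt (by norm_num)
  omega

theorem main (p : ℕ) [hpf : Fact p.Prime] (hp : 3 < p) : ∀ n : ℕ, ∀ (R : Type u) [Group R] [Finite R],
    Nat.card R = n → IsPGroup p R → Nat.card (Cfsg.omegaOne p (⊤ : Subgroup R)) ≤ p ^ 2 →
    ∀ (T : Subgroup R) [T.Normal],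
      Nat.card (Cfsg.omegaOne p (⊤ : Subgroup (R ⧸ T))) ≤ p ^ 2 := by
  intro n
  induction n using Nat.strong_induction_on with
  | _ n ih =>
  intro R _ _ hn hR hO T _
  have hpp : p.Prime := hpf.out
  by_cases hT1 : T = ⊥
  · subst hT1
    rw [card_omega_congr p (QuotientGroup.quotientBot (G := R))]
    exact hO
  · obtain ⟨m, hm⟩ := (hR.to_subgroup T).exists_card_eq
    have hm1 : 1 ≤ m := by
      by_contra hcon
      have : m = 0 := by omega
      rw [this, pow_zero] at hm
      exact hT1 (Subgroup.eq_bot_of_card_eq T hm)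
    obtain ⟨T₀, hT₀n, hT₀T, hT₀card⟩ :=
      Cfsg.Agent.S0100.exists_normal_le_card hR m T inferInstance hm 1 hm1
    haveI := hT₀n
    rw [pow_one] at hT₀card
    have h1 := key_prime hp hR hO T₀ hT₀card
    have hlt : Nat.card (R ⧸ T₀) < n := by
      rw [← hn, Subgroup.card_eq_card_quotient_mul_card_subgroup T₀, hT₀card]
      have h0 : 0 < Nat.card (R ⧸ T₀) := Nat.card_pos
      have := hpp.one_lt
      nlinarith
    have h2 := ih _ hlt (R ⧸ T₀) rfl (hR.to_quotient T₀) h1 (T.map (QuotientGroup.mk' T₀))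
    rw [card_omega_congr p (QuotientGroup.quotientQuotientEquivQuotient T₀ T hT₀T)] at h2
    exact h2

end main

/-- For p greater than 3, the bound p² on the order of the subgroup generated by the elements of order dividing p passes from a p-group to all its quotients. -/
theorem result {R : Type*} [Group R] [Finite R] {p : ℕ} [Fact p.Prime] (hp : 3 < p) (hR : IsPGroup p R) (hO : Nat.card ↥(Cfsg.omegaOne p (⊤ : Subgroup R)) ≤ p ^ 2) (T : Subgroup R) [T.Normal] : Nat.card ↥(Cfsg.omegaOne p (⊤ : Subgroup (R ⧸ T))) ≤ p ^ 2 :=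
  main p hp (Nat.card R) R rfl hR hO T

end Cfsg.Agent.S0637
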