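import Cfsg.Statements.S0639
import Cfsg.Agent.S0637
import Cfsg.Agent.Lib.Helper53.Huppert

set_option autoImplicit false
set_option linter.style.haveILetI false
open Cfsg

namespace Cfsg.Agent.S0639

/-- Huppert's criterion: for p greater than 3, a p-group whose elements of order dividing p generate a subgroup of order at most p² is metacyclic. -/
theorem result {R : Type*} [Group R] [Finite R] {p : ℕ} [Fact p.Prime] (hp : 3 < p) (hR : IsPGroup p R) (hO : Nat.card ↥(Cfsg.omegaOne p (⊤ : Subgroup R)) ≤ p ^ 2) : Cfsg.IsMetacyclic R := by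
  have hpp : p.Prime := Fact.out
  have hp2 : p ≠ 2 := by omega
  haveI : (Cfsg.Agent.Lib.Helper53.mhoOne p R).Normal := Subgroup.normal_of_characteristic _
  have h1 := Cfsg.Agent.S0637.result hp hR hO (Cfsg.Agent.Lib.Helper53.mhoOne p R)
  have htop : Cfsg.omegaOne p (⊤ : Subgroup (R ⧸ Cfsg.Agent.Lib.Helper53.mhoOne p R)) = ⊤ := by
    rw [eq_top_iff]
    intro q _
    apply Subgroup.subset_closure
    refine ⟨Subgroup.mem_top q, ?_⟩
    obtain ⟨x, rfl⟩ := QuotientGroup.mk'_surjective _ q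
    rw [← map_pow]
    exact (Cfsg.Agent.Lib.Helper53.mk'_eq_one_iff _ _).2 (Cfsg.Agent.Lib.Helper53.pow_mem_mhoOne p x)
  rw [htop, Subgroup.card_top, ← Subgroup.index_eq_card] at h1
  have hdvd : (Cfsg.Agent.Lib.Helper53.mhoOne p R).index ∣ p ^ 2 := by
    obtain ⟨n, hn⟩ := IsPGroup.iff_card.1 hR
    have h2 : (Cfsg.Agent.Lib.Helper53.mhoOne p R).index ∣ p ^ n := hn ▸ Subgroup.index_dvd_card _
    obtain ⟨i, -, hi⟩ := (Nat.dvd_prime_pow hpp).1 h2
    rw [hi] at h1 ⊢
    have hi2 : i ≤ 2 := (Nat.pow_le_pow_iff_right hpp.one_lt).1 h1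
    exact pow_dvd_pow p hi2
  exact Cfsg.Agent.Lib.Helper53.isMetacyclic_of_mho_index hp2 hR hdvd

end Cfsg.Agent.S0639
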