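import Cfsg.Statements.S3771
import Mathlib

set_option autoImplicit false
open Cfsg

namespace Cfsg.Agent.S3771

open scoped commutatorElement

variable {R : Type*} [Group R]

/-- the commutator map `y ↦ ⁅x, y⁆` as a hom into a central subgroup `N` -/
noncomputable def commHom (x : R) (N : Subgroup R) (hN : N ≤ Subgroup.center R)
    (hx : ∀ y : R, ⁅x, y⁆ ∈ N) : R →* N where
  toFun y := ⟨⁅x, y⁆, hx y⟩
  map_one' := Subtype.ext (by simp)
  map_mul' y y' := Subtype.ext (by
    have h := (Subgroup.mem_center_iff.mp (hN (hx y'))) y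
    simp only [Subgroup.coe_mul]
    rw [commutatorElement_def, commutatorElement_def, commutatorElement_def] at *
    calc x * (y * y') * x⁻¹ * (y * y')⁻¹
        = x * y * x⁻¹ * y⁻¹ * (y * (x * y' * x⁻¹ * y'⁻¹)) * y⁻¹ := by group
      _ = x * y * x⁻¹ * y⁻¹ * ((x * y' * x⁻¹ * y'⁻¹) * y) * y⁻¹ := by rw [h]
      _ = x * y * x⁻¹ * y⁻¹ * (x * y' * x⁻¹ * y'⁻¹) := by group)

theorem commHom_ker (x : R) (N : Subgroup R) (hN : N ≤ Subgroup.center R)
    (hx : ∀ y : R, ⁅x, y⁆ ∈ N) : (commHom x N hN hx).ker = Subgroup.centralizer {x} := by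
  ext y
  rw [MonoidHom.mem_ker, Subgroup.mem_centralizer_singleton_iff]
  constructor
  · intro h
    have h' : ⁅x, y⁆ = 1 := congrArg Subtype.val h
    exact (commutatorElement_eq_one_iff_mul_comm.mp h').symm
  · intro h
    apply Subtype.ext
    exact commutatorElement_eq_one_iff_mul_comm.mpr h.symm

theorem main [Finite R] {p : ℕ} [Fact p.Prime] (hR : IsPGroup p R) (hrank : Cfsg.PRankLE p 2 R) (hexp : ∀ x : R, x ^ p = 1) : Nat.card R ≤ p ^ 3 := by
  classical
  have hp : p.Prime := Fact.out
  obtain ⟨n, hn⟩ := (IsPGroup.iff_card (p := p)).mp hR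
  by_cases hn3 : n ≤ 3
  · rw [hn]; exact Nat.pow_le_pow_right hp.pos hn3
  push Not at hn3
  -- R is nontrivial
  haveI : Nontrivial R := by
    rw [← Finite.one_lt_card_iff_nontrivial, hn]
    exact Nat.one_lt_pow (by omega) hp.one_lt
  -- a central element of order p
  haveI := hR.center_nontrivial
  obtain ⟨⟨z, hzc⟩, hz1⟩ := exists_ne (1 : Subgroup.center R)
  have hz1' : z ≠ 1 := fun h => hz1 (Subtype.ext h)
  set N : Subgroup R := Subgroup.zpowers z with hNdef
  have hNc : N ≤ Subgroup.center R := by
    rw [hNdef, Subgroup.zpowers_le]; exact hzc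
  have hNcard : Nat.card N = p := by
    rw [hNdef, Nat.card_zpowers, orderOf_eq_prime (hexp z) hz1']
  haveI hNn : N.Normal := by
    constructor
    intro a ha g
    have := (Subgroup.mem_center_iff.mp (hNc ha)) g
    rw [this, mul_inv_cancel_right]
    exact ha
  -- the quotient is a nontrivial p-group
  have hQ : IsPGroup p (R ⧸ N) := hR.to_quotient N
  haveI : Nontrivial (R ⧸ N) := by
    rw [← Finite.one_lt_card_iff_nontrivial]
    have h1 := Subgroup.card_mul_index N
    rw [hNcard, hn, Subgroup.index_eq_card] at h1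
    by_contra hcon
    push Not at hcon
    have h2 : Nat.card (R ⧸ N) = 1 := by
      have : 0 < Nat.card (R ⧸ N) := Nat.card_pos
      omega
    rw [h2, mul_one] at h1
    have : p ^ 1 < p ^ n := Nat.pow_lt_pow_right hp.one_lt (by omega)
    rw [pow_one] at this
    omega
  haveI := hQ.center_nontrivial
  obtain ⟨⟨w, hwc⟩, hw1⟩ := exists_ne (1 : Subgroup.center (R ⧸ N))
  have hw1' : w ≠ 1 := fun h => hw1 (Subtype.ext h)
  obtain ⟨x, rfl⟩ := QuotientGroup.mk_surjective w
  have hxN : x ∉ N := fun h => hw1' ((QuotientGroup.eq_one_iff x).mpr h)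
  have hx : ∀ y : R, ⁅x, y⁆ ∈ N := by
    intro y
    rw [← QuotientGroup.eq_one_iff]
    have h1 : ((⁅x, y⁆ : R) : R ⧸ N) = ⁅(x : R ⧸ N), (y : R ⧸ N)⁆ :=
      map_commutatorElement (QuotientGroup.mk' N) x y
    rw [h1, commutatorElement_eq_one_iff_mul_comm]
    exact ((Subgroup.mem_center_iff.mp hwc) (y : R ⧸ N)).symm
  -- E = ⟨z, x⟩
  set E : Subgroup R := Subgroup.closure {z, x} with hEdef
  have hzx : z * x = x * z := ((Subgroup.mem_center_iff.mp hzc) x).symm
  have hEcomm : IsMulCommutative E := by
    apply Subgroup.isMulCommutative_closure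
    intro a ha b hb
    simp only [Set.mem_insert_iff, Set.mem_singleton_iff] at ha hb
    rcases ha with rfl | rfl <;> rcases hb with rfl | rfl
    · rfl
    · exact hzx
    · exact hzx.symm
    · rfl
  have hEle : Nat.card E ≤ p ^ 2 := hrank E hEcomm (fun a _ => hexp a)
  have hNE : N ≤ E := by
    rw [hNdef, Subgroup.zpowers_le]
    exact Subgroup.subset_closure (by simp)
  have hxE : x ∈ E := Subgroup.subset_closure (by simp)
  have hEge : p ^ 2 ≤ Nat.card E := by
    obtain ⟨k, hk⟩ := (IsPGroup.iff_card (p := p)).mp (hR.to_subgroup E)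
    have h1 : Nat.card N ≤ Nat.card E := Subgroup.card_le_of_le hNE
    have h2 : Nat.card N ≠ Nat.card E := by
      intro h
      have := Subgroup.eq_of_le_of_card_ge hNE h.ge
      rw [this] at hxN
      exact hxN hxE
    rw [hNcard, hk] at h1 h2
    have hk2 : 2 ≤ k := by
      by_contra hcon
      push Not at hcon
      interval_cases k
      · rw [pow_zero] at h1; have := hp.one_lt; omega
      · rw [pow_one] at h2; exact h2 rfl
    rw [hk]
    exact Nat.pow_le_pow_right hp.pos hk2
  -- centralizer of x is inside E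
  have hC : Subgroup.centralizer {x} ≤ E := by
    intro y hy
    rw [Subgroup.mem_centralizer_singleton_iff] at hy
    set F : Subgroup R := Subgroup.closure {z, x, y} with hFdef
    have hzy : z * y = y * z := ((Subgroup.mem_center_iff.mp hzc) y).symm
    have hFcomm : IsMulCommutative F := by
      apply Subgroup.isMulCommutative_closure
      intro a ha b hb
      simp only [Set.mem_insert_iff, Set.mem_singleton_iff] at ha hb
      rcases ha with rfl | rfl | rfl <;> rcases hb with rfl | rfl | rfl
      · rfl
      · exact hzx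
      · exact hzy
      · exact hzx.symm
      · rfl
      · exact hy.symm
      · exact hzy.symm
      · exact hy
      · rfl
    have hFle : Nat.card F ≤ p ^ 2 := hrank F hFcomm (fun a _ => hexp a)
    have hEF : E ≤ F := by
      apply Subgroup.closure_mono
      intro a ha
      simp only [Set.mem_insert_iff, Set.mem_singleton_iff] at ha ⊢
      rcases ha with rfl | rfl
      · left; rfl
      · right; left; rfl
    have hEF' : E = F := Subgroup.eq_of_le_of_card_ge hEF (hFle.trans hEge)
    rw [hEF']
    exact Subgroup.subset_closure (by simp)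
  -- conclude by the commutator hom
  let φ := commHom x N hNc hx
  have h1 := Subgroup.card_mul_index φ.ker
  rw [Subgroup.index_ker, commHom_ker] at h1
  have h2 : Nat.card (Subgroup.centralizer {x}) ≤ p ^ 2 := (Subgroup.card_le_of_le hC).trans hEle
  have h3 : Nat.card φ.range ≤ p := by
    rw [← hNcard]
    exact Finite.card_subtype_le _
  calc Nat.card R = Nat.card (Subgroup.centralizer {x}) * Nat.card φ.range := h1.symm
    _ ≤ p ^ 2 * p := Nat.mul_le_mul h2 h3
    _ = p ^ 3 := by ring

/-- Let p be a prime and R a finite p-group of p-rank at most 2 (no elementary abelian subgroup of order p³) in which every element has order dividing p. Then R has order at most p³. -/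
theorem result {R : Type*} [Group R] [Finite R] {p : ℕ} [Fact p.Prime] (hR : IsPGroup p R) (hrank : Cfsg.PRankLE p 2 R) (hexp : ∀ x : R, x ^ p = 1) : Nat.card R ≤ p ^ 3 :=
  main hR hrank hexp

end Cfsg.Agent.S3771
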