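import Cfsg.Statements.S0640
import Cfsg.Agent.S0093
import Cfsg.Agent.S0128

set_option autoImplicit false
set_option linter.style.haveILetI false
open Cfsg

namespace Cfsg.Agent.S0640

open scoped commutatorElement

section aut
variable {R : Type*} [Group R]

theorem pow_apply_fixed (α : MulAut R) (w : R) (hw : α w = w) (k : ℕ) : (α ^ k) w = w := by
  induction k with
  | zero => simp
  | succ k ih => rw [pow_succ, MulAut.mul_apply, hw, ih]

/-- if `α x = x * w` with `w` fixed then `α ^ k x = x * w ^ k` -/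
theorem pow_apply_stab (α : MulAut R) (x w : R) (hx : α x = x * w) (hw : α w = w) (k : ℕ) :
    (α ^ k) x = x * w ^ k := by
  induction k with
  | zero => simp
  | succ k ih =>
    rw [pow_succ, MulAut.mul_apply, hx, map_mul, ih, pow_apply_fixed α w hw, pow_succ, mul_assoc]

/-- **L1** -/
theorem fixed_of_stab [Finite R] {p q : ℕ} [Fact p.Prime] (hR : IsPGroup p R) (hq : q.Prime)
    (hqp : q ≠ p) (α : MulAut R) (hα : α ^ q = 1) (x : R) (hw : α (x⁻¹ * α x) = x⁻¹ * α x) :
    α x = x := by
  obtain ⟨w, hwdef⟩ : ∃ w : R, w = x⁻¹ * α x := ⟨_, rfl⟩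
  rw [← hwdef] at hw
  have hx : α x = x * w := by rw [hwdef]; group
  have h1 := pow_apply_stab α x w hx hw q
  rw [hα, MulAut.one_apply] at h1
  have hwq : w ^ q = 1 := by
    have : x * w ^ q = x * 1 := by rw [mul_one]; exact h1.symm
    exact mul_left_cancel this
  obtain ⟨k, hk⟩ := hR w
  have hcop : Nat.Coprime q (p ^ k) := by
    apply Nat.Coprime.pow_right
    exact (Nat.coprime_primes hq (Fact.out : p.Prime)).mpr hqp
  have hw1 : w = 1 := by
    have h2 : orderOf w ∣ q := orderOf_dvd_of_pow_eq_one hwq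
    have h3 : orderOf w ∣ p ^ k := orderOf_dvd_of_pow_eq_one hk
    have h4 : orderOf w ∣ 1 := by
      have := Nat.dvd_gcd h2 h3
      rwa [hcop] at this
    exact orderOf_eq_one_iff.mp (Nat.dvd_one.mp h4)
  rw [hx, hw1, mul_one]

/-- **L4**: an automorphism of order `q ≠ p` fixing the elements of order dividing `p` of a
subgroup on which the `p`-th power map is multiplicative fixes the subgroup pointwise -/
theorem fix_of_fix_omega [Finite R] {p q : ℕ} [hpf : Fact p.Prime] (hR : IsPGroup p R) (hq : q.Prime)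
    (hqp : q ≠ p) (α : MulAut R) (hα : α ^ q = 1) : ∀ n : ℕ, ∀ X : Subgroup R, Nat.card X = n →
    (∀ x ∈ X, α x ∈ X) → (∀ x ∈ X, ∀ y ∈ X, (x * y) ^ p = x ^ p * y ^ p) →
    (∀ x ∈ X, x ^ p = 1 → α x = x) → ∀ x ∈ X, α x = x := by
  intro n
  induction n using Nat.strong_induction_on with
  | _ n ih =>
  intro X hn hinv hmul hfix
  have hpp : p.Prime := hpf.out
  by_cases hX1 : X = ⊥
  · intro x hx
    rw [hX1, Subgroup.mem_bot] at hx
    rw [hx, map_one]
  -- the subgroup of p-th powers
  obtain ⟨Y, hY⟩ : ∃ Y : Subgroup R, ∀ y, y ∈ Y ↔ ∃ x ∈ X, y = x ^ p := by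
    refine ⟨{ carrier := {y | ∃ x ∈ X, y = x ^ p}
              mul_mem' := ?_
              one_mem' := ⟨1, one_mem X, by simp⟩
              inv_mem' := ?_ }, fun y => Iff.rfl⟩
    · rintro a b ⟨x, hx, rfl⟩ ⟨y, hy, rfl⟩
      exact ⟨x * y, mul_mem hx hy, (hmul x hx y hy).symm⟩
    · rintro a ⟨x, hx, rfl⟩
      exact ⟨x⁻¹, inv_mem hx, by rw [inv_pow]⟩
  have hYX : Y ≤ X := by
    intro y hy
    obtain ⟨x, hx, rfl⟩ := (hY y).mp hy
    exact pow_mem hx p
  -- an element of order p in X not in... : Y is proper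
  have hYne : Y ≠ X := by
    intro hYeq
    -- the p-th power map X → X is surjective hence injective, but has nontrivial kernel
    obtain ⟨x, hxX, hx1⟩ : ∃ x ∈ X, x ≠ 1 := by
      by_contra hcon
      push Not at hcon
      apply hX1
      rw [eq_bot_iff]
      intro x hx
      rw [Subgroup.mem_bot]; exact hcon x hx
    let f : X →* X :=
      { toFun := fun x => ⟨(x : R) ^ p, pow_mem x.2 p⟩
        map_one' := by ext; simp
        map_mul' := by
          intro a b
          ext
          simpa using hmul a a.2 b b.2 }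
    have hsurj : Function.Surjective f := by
      rintro ⟨y, hy⟩
      rw [← hYeq] at hy
      obtain ⟨x, hx, rfl⟩ := (hY y).mp hy
      exact ⟨⟨x, hx⟩, rfl⟩
    have hinj : Function.Injective f := Finite.injective_iff_surjective.mpr hsurj
    obtain ⟨k, hk⟩ := (hR.to_subgroup X).exists_card_eq
    have hk0 : k ≠ 0 := by
      rintro rfl
      rw [pow_zero] at hk
      exact hX1 (Subgroup.eq_bot_of_card_eq X hk)
    obtain ⟨k', rfl⟩ := Nat.exists_eq_succ_of_ne_zero hk0
    -- x^(p^(k'+1)) = 1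
    have hxp : (⟨x, hxX⟩ : X) ^ (p ^ (k' + 1)) = 1 := by
      rw [← hk]; exact pow_card_eq_one'
    -- f^[k'+1] x = 1 but f injective
    have hiter : ∀ j : ℕ, ∀ z : X, f^[j] z = z ^ (p ^ j) := by
      intro j
      induction j with
      | zero => intro z; simp
      | succ j ihj =>
        intro z
        rw [Function.iterate_succ_apply', ihj, pow_succ, pow_mul]
        rfl
    have h1 : f^[k' + 1] ⟨x, hxX⟩ = f^[k' + 1] 1 := by
      rw [hiter, hiter, hxp, one_pow]
    have h2 := (hinj.iterate (k' + 1)) h1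
    apply hx1
    exact congrArg Subtype.val h2
  have hcardY : Nat.card Y < n := by
    rw [← hn]
    apply lt_of_le_of_ne (Subgroup.card_le_of_le hYX)
    intro h
    exact hYne (Subgroup.eq_of_le_of_card_ge hYX (le_of_eq h.symm))
  have hYfix : ∀ y ∈ Y, α y = y := by
    apply ih _ hcardY Y rfl
    · intro y hy
      obtain ⟨x, hx, rfl⟩ := (hY y).mp hy
      rw [hY]
      exact ⟨α x, hinv x hx, by rw [map_pow]⟩
    · intro a ha b hb
      exact hmul a (hYX ha) b (hYX hb)
    · intro y hy hyp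
      exact hfix y (hYX hy) hyp
  intro x hx
  apply fixed_of_stab hR hq hqp α hα x
  apply hfix
  · exact mul_mem (inv_mem hx) (hinv x hx)
  · rw [hmul _ (inv_mem hx) _ (hinv x hx), inv_pow, ← map_pow,
      hYfix (x ^ p) ((hY _).mpr ⟨x, hx, rfl⟩), inv_mul_cancel]

theorem pow_apply_mem (α : MulAut R) (X : Subgroup R) (hinv : ∀ x ∈ X, α x ∈ X) (k : ℕ) :
    ∀ x ∈ X, (α ^ k) x ∈ X := by
  induction k with
  | zero => intro x hx; simpa using hx
  | succ k ih =>
    intro x hx
    rw [pow_succ, MulAut.mul_apply]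
    exact ih _ (hinv x hx)

/-- orbit counting for an automorphism of prime order `q` on an invariant subgroup -/
theorem card_modEq_fixed [Finite R] {q : ℕ} [hqf : Fact q.Prime] (α : MulAut R) (hα : α ^ q = 1)
    (X : Subgroup R) (hinv : ∀ x ∈ X, α x ∈ X) (F : Subgroup R)
    (hF : ∀ x, x ∈ F ↔ x ∈ X ∧ α x = x) : Nat.card X ≡ Nat.card F [MOD q] := by
  classical
  have hq : q.Prime := hqf.out
  obtain ⟨A, hA⟩ : ∃ A : Subgroup (MulAut R), A = Subgroup.zpowers α := ⟨_, rfl⟩
  have hfin : IsOfFinOrder α := isOfFinOrder_iff_pow_eq_one.mpr ⟨q, hq.pos, hα⟩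
  have hApow : ∀ β ∈ A, ∃ k : ℕ, α ^ k = β := by
    intro β hβ
    rw [hA, ← hfin.mem_powers_iff_mem_zpowers] at hβ
    exact hβ
  have hAp : IsPGroup q A := by
    rintro ⟨β, hβ⟩
    obtain ⟨k, rfl⟩ := hApow β hβ
    refine ⟨1, ?_⟩
    apply Subtype.ext
    rw [pow_one]
    show (α ^ k) ^ q = 1
    rw [← pow_mul, mul_comm, pow_mul, hα, one_pow]
  have hAinv : ∀ β ∈ A, ∀ x ∈ X, β x ∈ X := by
    intro β hβ x hx
    obtain ⟨k, rfl⟩ := hApow β hβ
    exact pow_apply_mem α X hinv k x hx
  letI act : MulAction A X :=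
    { smul := fun β x => ⟨(β : MulAut R) (x : R), hAinv β β.2 x x.2⟩
      one_smul := by
        intro x
        apply Subtype.ext
        show ((1 : A) : MulAut R) (x : R) = x
        simp
      mul_smul := by
        intro β γ x
        apply Subtype.ext
        show ((β * γ : A) : MulAut R) (x : R) = (β : MulAut R) ((γ : MulAut R) (x : R))
        simp [MulAut.mul_apply] }
  have hsmul : ∀ (β : A) (x : X), ((β • x : X) : R) = (β : MulAut R) (x : R) := fun β x => rfl
  have h1 := hAp.card_modEq_card_fixedPoints X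
  have h2 : Nat.card (MulAction.fixedPoints A X) = Nat.card F := by
    apply Nat.card_congr
    refine ⟨fun x => ⟨((x : X) : R), ?_⟩, fun y => ⟨⟨(y : R), ((hF _).mp y.2).1⟩, ?_⟩, ?_, ?_⟩
    · rw [hF]
      refine ⟨(x : X).2, ?_⟩
      have h3 := x.2 ⟨α, hA ▸ Subgroup.mem_zpowers α⟩
      have h4 := congrArg Subtype.val h3
      rw [hsmul] at h4
      exact h4
    · intro β
      apply Subtype.ext
      rw [hsmul]
      obtain ⟨k, hk⟩ := hApow β β.2
      rw [← hk]
      exact pow_apply_fixed α _ ((hF _).mp y.2).2 k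
    · intro x; rfl
    · intro y; rfl
  rw [h2] at h1
  exact h1

end aut

/-- For odd p, a prime q ≠ p dividing the order of the automorphism group of a p-group of rank at most 2 divides p² - 1 and is less than p. -/
theorem result {R : Type*} [Group R] [Finite R] {p : ℕ} [Fact p.Prime] (hp : p ≠ 2) (hR : IsPGroup p R) (hrk : Cfsg.PRankLE p 2 R) (q : ℕ) (hq : q.Prime) (hqp : q ≠ p) (hdvd : q ∣ Nat.card (MulAut R)) : q ∣ p ^ 2 - 1 ∧ q < p := by
  classical
  have hpp : p.Prime := Fact.out
  haveI : Fact q.Prime := ⟨hq⟩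
  have hp3 : 3 ≤ p := by
    have := hpp.two_le
    omega
  obtain ⟨α, hαord⟩ := exists_prime_orderOf_dvd_card' q hdvd
  have hα : α ^ q = 1 := by rw [← hαord]; exact pow_orderOf_eq_one α
  have hα1 : α ≠ 1 := by
    intro h
    rw [h, orderOf_one] at hαord
    exact hq.one_lt.ne hαord
  have hcop : Nat.Coprime q p := (Nat.coprime_primes hq hpp).mpr hqp
  have hrk' : ∀ E : Subgroup R, (∀ x ∈ E, ∀ y ∈ E, x * y = y * x) → (∀ x ∈ E, x ^ p = 1) →
      Nat.card E ≤ p ^ 2 := by
    intro E hEc hEe
    refine hrk E ⟨⟨?_⟩⟩ hEe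
    rintro ⟨x, hx⟩ ⟨y, hy⟩
    exact Subtype.ext (hEc x hx y hy)
  have hsuff : q ∣ p ^ 2 - 1 := by
    obtain ⟨H, hHchar, hHfr, hHcomm, hHcent⟩ := Cfsg.Agent.S0093.result hR
    haveI := hHchar
    haveI hHn : H.Normal := Subgroup.normal_of_characteristic H
    have hHinv : ∀ x ∈ H, α x ∈ H := by
      intro x hx
      have h1 := Subgroup.characteristic_iff_comap_eq.mp hHchar α
      have h2 : x ∈ H.comap α.toMonoidHom := by rw [h1]; exact hx
      exact h2
    -- multiplicativity of p-th powers on H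
    have hmulH : ∀ x ∈ H, ∀ y ∈ H, (x * y) ^ p = x ^ p * y ^ p := by
      intro x hx y hy
      have hc : ⁅y, x⁆ ∈ Subgroup.centralizer (H : Set R) :=
        (hHcomm (Subgroup.commutator_mem_commutator hy (Subgroup.mem_top x))).2
      have hca : Commute ⁅y, x⁆ x := (Subgroup.mem_centralizer_iff.mp hc x hx).symm
      have hcb : Commute ⁅y, x⁆ y := (Subgroup.mem_centralizer_iff.mp hc y hy).symm
      have hyp : y ^ p ∈ Subgroup.centralizer (H : Set R) := by
        apply hHfr
        refine ⟨(⟨y, hy⟩ : H) ^ p, ?_, rfl⟩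
        exact Cfsg.Agent.Lib.Helper24.pow_mem_frattini_of_isPGroup (hR.to_subgroup H) ⟨y, hy⟩
      have h1 := Cfsg.Agent.Lib.Helper68.pow_mul_class2 x y hcb p
      have h2 : y ^ p * x = x * y ^ p := (Subgroup.mem_centralizer_iff.mp hyp x hx).symm
      have hcp : ⁅y, x⁆ ^ p = 1 := by
        have h3 : ⁅y, x⁆ ^ p * (x * y ^ p) = 1 * (x * y ^ p) := by
          rw [one_mul, ← mul_assoc, ← h1, h2]
        exact mul_right_cancel h3
      rw [Cfsg.Agent.Lib.Helper68.mul_pow_class2 x y hca hcb p]
      obtain ⟨t, ht⟩ : ∃ t, p = 2 * t + 1 := by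
        rcases hpp.eq_two_or_odd with h | h
        · exact absurd h hp
        · exact ⟨p / 2, by omega⟩
      have hsum : (∑ i ∈ Finset.range p, i) = p * t := by
        have h1 := Finset.sum_range_id_mul_two p
        have h2 : p - 1 = 2 * t := by omega
        rw [h2] at h1
        have h3 : (∑ i ∈ Finset.range p, i) * 2 = (p * t) * 2 := by rw [h1]; ring
        exact Nat.eq_of_mul_eq_mul_right (by norm_num) h3
      rw [hsum, pow_mul, hcp, one_pow, mul_one]
    -- (i) α moves some element of H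
    have hi : ∃ h ∈ H, α h ≠ h := by
      by_contra hcon
      push Not at hcon
      apply hα1
      ext x
      rw [MulAut.one_apply]
      apply fixed_of_stab hR hq hqp α hα x
      apply hcon
      apply hHcent
      rw [Subgroup.mem_centralizer_iff]
      intro h hh
      have h1 : α (x * h * x⁻¹) = x * h * x⁻¹ := hcon _ (hHn.conj_mem h hh x)
      rw [map_mul, map_mul, hcon h hh, map_inv] at h1
      -- α x * h * (α x)⁻¹ = x * h * x⁻¹
      calc h * (x⁻¹ * α x) = x⁻¹ * (x * h * x⁻¹) * α x := by group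
        _ = x⁻¹ * (α x * h * (α x)⁻¹) * α x := by rw [h1]
        _ = x⁻¹ * α x * h := by group
    -- the subgroup W of elements of order dividing p in H
    obtain ⟨W, hW⟩ : ∃ W : Subgroup R, ∀ x, x ∈ W ↔ x ∈ H ∧ x ^ p = 1 := by
      refine ⟨{ carrier := {x | x ∈ H ∧ x ^ p = 1}
                mul_mem' := ?_
                one_mem' := ⟨one_mem _, one_pow _⟩
                inv_mem' := ?_ }, fun x => Iff.rfl⟩
      · rintro a b ⟨ha, ha'⟩ ⟨hb, hb'⟩
        exact ⟨mul_mem ha hb, by rw [hmulH a ha b hb, ha', hb', one_mul]⟩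
      · rintro a ⟨ha, ha'⟩
        exact ⟨inv_mem ha, by rw [inv_pow, ha', inv_one]⟩
    have hWinv : ∀ x ∈ W, α x ∈ W := by
      intro x hx
      rw [hW] at hx ⊢
      exact ⟨hHinv x hx.1, by rw [← map_pow, hx.2, map_one]⟩
    have hWe : ∀ x ∈ W, x ^ p = 1 := fun x hx => ((hW x).mp hx).2
    -- (ii) α moves some element of W
    have hii : ∃ w ∈ W, α w ≠ w := by
      by_contra hcon
      push Not at hcon
      obtain ⟨h, hh, hne⟩ := hi
      apply hne
      exact fix_of_fix_omega hR hq hqp α hα _ H rfl hHinv hmulH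
        (fun x hx hxp => hcon x ((hW x).mpr ⟨hx, hxp⟩)) h hh
    -- (iii) card W ≤ p^3
    have hWcard : Nat.card W ≤ p ^ 3 := by
      apply Cfsg.Agent.S0128.card_le_cube (hR.to_subgroup W) (fun x => Subtype.ext (hWe x x.2))
      intro E hE
      have h1 := hrk' (E.map W.subtype) (by
        rintro _ ⟨x, hx, rfl⟩ _ ⟨y, hy, rfl⟩
        exact congrArg Subtype.val (hE x hx y hy)) (by
        rintro _ ⟨x, _, rfl⟩
        exact hWe x x.2)
      rwa [Subgroup.card_map_of_injective W.subtype_injective] at h1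
    obtain ⟨a, ha⟩ := (hR.to_subgroup W).exists_card_eq
    have ha3 : a ≤ 3 := by
      rw [ha] at hWcard
      exact (Nat.pow_le_pow_iff_right hpp.one_lt).mp hWcard
    -- fixed points
    obtain ⟨F, hF⟩ : ∃ F : Subgroup R, ∀ x, x ∈ F ↔ x ∈ W ∧ α x = x := by
      refine ⟨{ carrier := {x | x ∈ W ∧ α x = x}
                mul_mem' := ?_
                one_mem' := ⟨one_mem _, map_one α⟩
                inv_mem' := ?_ }, fun x => Iff.rfl⟩
      · rintro a b ⟨ha, ha'⟩ ⟨hb, hb'⟩
        exact ⟨mul_mem ha hb, by rw [map_mul, ha', hb']⟩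
      · rintro a ⟨ha, ha'⟩
        exact ⟨inv_mem ha, by rw [map_inv, ha']⟩
    have hFW : F ≤ W := fun x hx => ((hF x).mp hx).1
    have hFne : F ≠ W := by
      intro h
      obtain ⟨w, hw, hne⟩ := hii
      rw [← h] at hw
      exact hne ((hF w).mp hw).2
    obtain ⟨b, hb⟩ := (hR.to_subgroup F).exists_card_eq
    have hba : b < a := by
      by_contra hcon
      push Not at hcon
      apply hFne
      apply Subgroup.eq_of_le_of_card_ge hFW
      rw [ha, hb]
      exact Nat.pow_le_pow_right hpp.pos hcon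
    have hmod := card_modEq_fixed α hα W hWinv F hF
    rw [ha, hb] at hmod
    have hle : p ^ b ≤ p ^ a := Nat.pow_le_pow_right hpp.pos hba.le
    have hd1 : q ∣ p ^ a - p ^ b := (Nat.modEq_iff_dvd' hle).mp hmod.symm
    have hfac : p ^ a - p ^ b = p ^ b * (p ^ (a - b) - 1) := by
      rw [Nat.mul_sub, mul_one, ← pow_add]
      congr 2
      omega
    rw [hfac] at hd1
    have hd2 : q ∣ p ^ (a - b) - 1 :=
      (Nat.Coprime.pow_right b hcop).dvd_of_dvd_mul_left hd1
    have hp1 : p - 1 ∣ p ^ 2 - 1 := by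
      have : p ^ 2 - 1 = (p - 1) * (p + 1) := by
        have h1 : 1 ≤ p := hpp.pos
        zify [h1, Nat.one_le_pow 2 p hpp.pos]
        ring
      rw [this]; exact dvd_mul_right _ _
    have hcases : a - b = 1 ∨ a - b = 2 ∨ a - b = 3 := by omega
    rcases hcases with h | h | h
    · rw [h, pow_one] at hd2
      exact hd2.trans hp1
    · rw [h] at hd2
      exact hd2
    · -- a = 3, b = 0 : use the centre of W
      have ha3' : a = 3 := by omega
      have hb0 : b = 0 := by omega
      rw [hb0, pow_zero] at hb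
      have hF1 : F = ⊥ := Subgroup.eq_bot_of_card_eq F hb
      obtain ⟨Z, hZ⟩ : ∃ Z : Subgroup R, ∀ z, z ∈ Z ↔ z ∈ W ∧ ∀ w ∈ W, w * z = z * w := by
        refine ⟨{ carrier := {z | z ∈ W ∧ ∀ w ∈ W, w * z = z * w}
                  mul_mem' := ?_
                  one_mem' := ⟨one_mem _, by intro w _; simp⟩
                  inv_mem' := ?_ }, fun x => Iff.rfl⟩
        · rintro a b ⟨ha, ha'⟩ ⟨hb, hb'⟩
          refine ⟨mul_mem ha hb, ?_⟩
          intro w hw
          rw [← mul_assoc, ha' w hw, mul_assoc, hb' w hw, mul_assoc]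
        · rintro a ⟨ha, ha'⟩
          refine ⟨inv_mem ha, ?_⟩
          intro w hw
          have := ha' w hw
          calc w * a⁻¹ = a⁻¹ * (a * w) * a⁻¹ := by group
            _ = a⁻¹ * (w * a) * a⁻¹ := by rw [this]
            _ = a⁻¹ * w := by group
      have hZW : Z ≤ W := fun z hz => ((hZ z).mp hz).1
      have hZinv : ∀ z ∈ Z, α z ∈ Z := by
        intro z hz
        obtain ⟨hzW, hzc⟩ := (hZ z).mp hz
        rw [hZ]
        refine ⟨hWinv z hzW, ?_⟩
        intro w hw
        obtain ⟨w', hw'⟩ : ∃ w' : R, w' = (α ^ (q - 1)) w := ⟨_, rfl⟩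
        have hw'W : w' ∈ W := by rw [hw']; exact pow_apply_mem α W hWinv (q - 1) w hw
        have hαw' : α w' = w := by
          rw [hw', ← MulAut.mul_apply, ← pow_succ', Nat.sub_add_cancel hq.pos, hα,
            MulAut.one_apply]
        rw [← hαw', ← map_mul, ← map_mul, hzc w' hw'W]
      have hZ1 : Z ≠ ⊥ := by
        have hW1 : (⊤ : Subgroup W) ≠ ⊥ := by
          intro h
          have h1 : Nat.card (⊤ : Subgroup W) = 1 := by rw [h, Subgroup.card_bot]
          rw [Subgroup.card_top, ha, ha3'] at h1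
          have : 1 < p ^ 3 := Nat.one_lt_pow (by norm_num) hpp.one_lt
          omega
        obtain ⟨x, -, hxc, hx1⟩ := Cfsg.Agent.Lib.Helper32.exists_ne_one_mem_normal_inf_center
          (hR.to_subgroup W) (⊤ : Subgroup W) hW1
        intro h
        have hxZ : (x : R) ∈ Z := by
          rw [hZ]
          refine ⟨x.2, ?_⟩
          intro w hw
          have := Subgroup.mem_center_iff.mp hxc ⟨w, hw⟩
          exact congrArg Subtype.val this
        rw [h, Subgroup.mem_bot] at hxZ
        apply hx1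
        exact Subtype.ext hxZ
      obtain ⟨c, hc⟩ := (hR.to_subgroup Z).exists_card_eq
      have hc0 : c ≠ 0 := by
        rintro rfl
        rw [pow_zero] at hc
        exact hZ1 (Subgroup.eq_bot_of_card_eq Z hc)
      have hc2 : c ≤ 2 := by
        have h1 := hrk' Z (by
          intro x hx y hy
          exact (((hZ y).mp hy).2 x ((hZ x).mp hx).1)) (fun x hx => hWe x (hZW hx))
        rw [hc] at h1
        exact (Nat.pow_le_pow_iff_right hpp.one_lt).mp h1
      have hmodZ := card_modEq_fixed α hα Z hZinv (⊥ : Subgroup R) (by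
        intro x
        rw [Subgroup.mem_bot]
        constructor
        · rintro rfl
          exact ⟨one_mem _, map_one α⟩
        · rintro ⟨hxZ, hxf⟩
          have : x ∈ F := (hF x).mpr ⟨hZW hxZ, hxf⟩
          rw [hF1, Subgroup.mem_bot] at this
          exact this)
      rw [hc, Subgroup.card_bot] at hmodZ
      have hd3 : q ∣ p ^ c - 1 :=
        (Nat.modEq_iff_dvd' (Nat.one_le_pow c p hpp.pos)).mp hmodZ.symm
      have hcc : c = 1 ∨ c = 2 := by omega
      rcases hcc with h | h
      · rw [h, pow_one] at hd3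
        exact hd3.trans hp1
      · rw [h] at hd3
        exact hd3
  refine ⟨hsuff, ?_⟩
  -- q < p
  have h1 : p ^ 2 - 1 = (p - 1) * (p + 1) := by
    have h1 : 1 ≤ p := hpp.pos
    zify [h1, Nat.one_le_pow 2 p hpp.pos]
    ring
  rw [h1] at hsuff
  rcases (Nat.Prime.dvd_mul hq).mp hsuff with h | h
  · have := Nat.le_of_dvd (by omega) h
    omega
  · have hle := Nat.le_of_dvd (by omega) h
    have hne : q ≠ p + 1 := by
      intro heq
      rcases hpp.eq_two_or_odd with h2 | h2
      · exact hp h2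
      · have heven : 2 ∣ q := by rw [heq]; omega
        have := (Nat.prime_dvd_prime_iff_eq Nat.prime_two hq).mp heven
        omega
    omega

end Cfsg.Agent.S0640
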