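import Cfsg.Statements.S1448
import Cfsg.Agent.Lib.Helper53.XCd
import Cfsg.Agent.S0640

set_option autoImplicit false
open Cfsg

namespace Cfsg.Agent.S1448

open scoped commutatorElement

/-- Let G be a finite group, p an odd prime, R a nontrivial p-subgroup with no elementary abelian subgroup of order p ^ 3, and A a subgroup of odd order coprime to p normalizing R with [R, A] = R. Then 3 < p, and either R is abelian or R is generated by two elementwise-commuting subgroups R₁, R₂ with R₁ non-abelian of order p ^ 3 and exponent p, R₂ cyclic, and the elements of R₂ of order dividing p generating exactly [R₁, R₁]. -/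
theorem result {G : Type*} [Group G] [Finite G] (p : ℕ) [Fact p.Prime] (hp : p ≠ 2) (R A : Subgroup G) (hR : IsPGroup p R) (hR1 : R ≠ ⊥) (hr : Cfsg.PRankLE p 2 R)
    (hA : (A ≤ Subgroup.normalizer (R : Set G))) (hcop : (Nat.card A).Coprime p) (hAodd : Odd (Nat.card A)) (hRA : ⁅R, A⁆ = R) :
    3 < p ∧ (IsMulCommutative R ∨ ∃ R₁ R₂ : Subgroup G, R₁ ⊔ R₂ = R ∧ (∀ a ∈ R₁, ∀ b ∈ R₂, a * b = b * a) ∧
        ¬ IsMulCommutative R₁ ∧ Nat.card R₁ = p ^ 3 ∧ Monoid.exponent R₁ = p ∧ IsCyclic R₂ ∧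
        Subgroup.closure {x : G | x ∈ R₂ ∧ x ^ p = 1} = ⁅R₁, R₁⁆) := by
  have hpp : p.Prime := Fact.out
  -- the action of `A` on `R`
  obtain ⟨θ, hθ⟩ : ∃ θ : ↥A →* MulAut ↥R,
      θ = R.normalizerMonoidHom.comp (Subgroup.inclusion hA) := ⟨_, rfl⟩
  have hθapp : ∀ (a : A) (b : R), ((θ a b : R) : G) = (a : G) * b * (a : G)⁻¹ := by
    intro a b
    rw [hθ]
    rfl
  have hcop𝒜 : (Nat.card θ.range).Coprime p :=
    Nat.Coprime.coprime_dvd_left (Subgroup.card_range_dvd θ) hcop
  have hodd𝒜 : Odd (Nat.card θ.range) := Odd.of_dvd_nat hAodd (Subgroup.card_range_dvd θ)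
  have hgen : Subgroup.closure {x : ↥R | ∃ α ∈ θ.range, ∃ y : ↥R, x = α y * y⁻¹} = ⊤ := by
    apply Subgroup.map_injective R.subtype_injective
    rw [MonoidHom.map_closure, ← MonoidHom.range_eq_map, Subgroup.range_subtype]
    apply le_antisymm
    · rw [Subgroup.closure_le]
      rintro _ ⟨x, _, rfl⟩
      exact x.2
    · conv_lhs => rw [← hRA]
      rw [Subgroup.commutator_le]
      intro b hb a ha
      have h1 : ⁅a, b⁆ ∈ (R.subtype '' {x : ↥R | ∃ α ∈ θ.range, ∃ y : ↥R, x = α y * y⁻¹}) := by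
        refine ⟨θ ⟨a, ha⟩ ⟨b, hb⟩ * (⟨b, hb⟩ : R)⁻¹, ⟨θ ⟨a, ha⟩, ⟨_, rfl⟩, ⟨b, hb⟩, rfl⟩, ?_⟩
        rw [Subgroup.subtype_apply, Subgroup.coe_mul, hθapp, Subgroup.coe_inv, commutatorElement_def]
      have h2 : ⁅b, a⁆ = ⁅a, b⁆⁻¹ := (commutatorElement_inv a b).symm
      rw [h2]
      exact Subgroup.inv_mem _ (Subgroup.subset_closure h1)
  -- `p > 3`
  have hp3 : 3 < p := by
    by_contra hle
    have hp3' : p = 3 := by
      have h2 := hpp.two_le
      have : p ≤ 3 := by omega
      interval_cases p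
      · exact absurd rfl hp
      · rfl
    -- every prime divisor of `|𝒜|` would be `2`
    have hcard1 : Nat.card θ.range = 1 := by
      by_contra hne
      obtain ⟨q, hq, hqd⟩ := Nat.exists_prime_and_dvd hne
      have hqp : q ≠ p := by
        intro h
        rw [h] at hqd
        have := Nat.Coprime.eq_one_of_dvd hcop𝒜.symm hqd
        exact hpp.one_lt.ne' this
      have hdvd : q ∣ Nat.card (MulAut ↥R) := hqd.trans (Subgroup.card_subgroup_dvd_card _)
      obtain ⟨h1, h2⟩ := Cfsg.Agent.S0640.result hp hR hr q hq hqp hdvd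
      rw [hp3'] at h2
      have hq2 : q = 2 := by
        have := hq.two_le
        omega
      rw [hq2] at hqd
      exact (Nat.not_even_iff_odd.2 hodd𝒜) (even_iff_two_dvd.2 hqd)
    have hbot : θ.range = ⊥ := Subgroup.card_eq_one.1 hcard1
    have hRbot : (⊤ : Subgroup ↥R) = ⊥ := by
      rw [← hgen, Subgroup.closure_eq_bot_iff]
      rintro _ ⟨α, hα, y, rfl⟩
      rw [hbot, Subgroup.mem_bot] at hα
      rw [hα]
      simp
    apply hR1
    rw [eq_bot_iff]
    intro x hx
    have : (⟨x, hx⟩ : R) ∈ (⊤ : Subgroup ↥R) := Subgroup.mem_top _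
    rw [hRbot, Subgroup.mem_bot] at this
    rw [Subgroup.mem_bot]
    exact congrArg Subtype.val this
  refine ⟨hp3, ?_⟩
  rcases Cfsg.Agent.Lib.Helper53.xc_rank_two_action hp3 hR hr θ.range hcop𝒜 hodd𝒜 hgen with
    hcomm | ⟨Ω, hΩ, hΩc, ⟨x, hx, y, hy, hxy⟩, hsup, hcyc, hmem⟩
  · left
    exact ⟨⟨fun a b => hcomm a b⟩⟩
  · right
    refine ⟨Ω.map R.subtype, (Subgroup.centralizer (Ω : Set ↥R)).map R.subtype, ?_, ?_, ?_, ?_, ?_,
      ?_, ?_⟩
    · rw [← Subgroup.map_sup, hsup, ← MonoidHom.range_eq_map, Subgroup.range_subtype]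
    · rintro _ ⟨a, ha, rfl⟩ _ ⟨b, hb, rfl⟩
      rw [SetLike.mem_coe, Subgroup.mem_centralizer_iff] at hb
      have := hb a ha
      exact congrArg Subtype.val this
    · intro hc
      apply hxy
      have hx' : (x : G) ∈ Ω.map R.subtype := ⟨x, hx, rfl⟩
      have hy' : (y : G) ∈ Ω.map R.subtype := ⟨y, hy, rfl⟩
      have := hc.is_comm.comm ⟨(x : G), hx'⟩ ⟨(y : G), hy'⟩
      have h2 : (x : G) * (y : G) = (y : G) * (x : G) := congrArg Subtype.val this
      exact Subtype.ext h2
    · rw [Subgroup.card_map_of_injective R.subtype_injective, hΩc]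
    · have hdvd : Monoid.exponent ↥(Ω.map R.subtype) ∣ p := by
        apply Monoid.exponent_dvd_of_forall_pow_eq_one
        intro g
        obtain ⟨a, ha, hag⟩ := g.2
        apply Subtype.ext
        rw [Subgroup.coe_pow, Subgroup.coe_one, ← hag, Subgroup.subtype_apply, ← Subgroup.coe_pow,
          (hΩ a).1 ha, Subgroup.coe_one]
      rcases (Nat.dvd_prime hpp).1 hdvd with h1 | h1
      · exfalso
        rw [Monoid.exp_eq_one_iff] at h1
        apply hxy
        have hx' : (x : G) ∈ Ω.map R.subtype := ⟨x, hx, rfl⟩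
        have hy' : (y : G) ∈ Ω.map R.subtype := ⟨y, hy, rfl⟩
        have e1 := h1.elim (⟨(x : G), hx'⟩ : ↥(Ω.map R.subtype)) 1
        have e2 := h1.elim (⟨(y : G), hy'⟩ : ↥(Ω.map R.subtype)) 1
        have e1' : (x : G) = 1 := congrArg Subtype.val e1
        have e2' : (y : G) = 1 := congrArg Subtype.val e2
        apply Subtype.ext
        rw [Subgroup.coe_mul, Subgroup.coe_mul, e1', e2']
      · exact h1
    · have := hcyc
      exact isCyclic_of_surjective
        ((Subgroup.centralizer (Ω : Set ↥R)).equivMapOfInjective R.subtype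
          R.subtype_injective).toMonoidHom
        ((Subgroup.centralizer (Ω : Set ↥R)).equivMapOfInjective R.subtype
          R.subtype_injective).surjective
    · rw [← Subgroup.map_commutator]
      have hset : {x : G | x ∈ (Subgroup.centralizer (Ω : Set ↥R)).map R.subtype ∧ x ^ p = 1} =
          ((⁅Ω, Ω⁆.map R.subtype : Subgroup G) : Set G) := by
        ext g
        constructor
        · rintro ⟨⟨c, hc, rfl⟩, hcp⟩
          refine ⟨c, ?_, rfl⟩
          rw [SetLike.mem_coe, ← hmem]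
          refine ⟨hc, ?_⟩
          apply Subtype.ext
          rw [Subgroup.coe_pow, Subgroup.coe_one]
          exact hcp
        · rintro ⟨c, hc, rfl⟩
          rw [SetLike.mem_coe, ← hmem] at hc
          refine ⟨⟨c, hc.1, rfl⟩, ?_⟩
          rw [Subgroup.subtype_apply, ← Subgroup.coe_pow, hc.2, Subgroup.coe_one]
      rw [hset, Subgroup.closure_eq]

end Cfsg.Agent.S1448
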