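import Cfsg.Statements.S1422
import Cfsg.Agent.S1403
import Cfsg.Agent.S1404
import Cfsg.Agent.S1417
import Cfsg.Agent.S1423
import Cfsg.Agent.Lib.Helper64.BG1213

set_option autoImplicit false
open Cfsg

namespace Cfsg.Agent.S1422

/-- Let G be a minimal simple group of odd order, p a prime and P a non-abelian p-subgroup of G. Then P lies in exactly one maximal subgroup of G. -/
theorem result {G : Type*} [Group G] [Finite G] (hG : Cfsg.IsMinSimpleOddOrder G) (p : ℕ) [Fact p.Prime] (P : Subgroup G) (hP : IsPGroup p P) (hPna : ¬ IsMulCommutative P) :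
    Cfsg.InUniqueMaximal P := by
  refine Cfsg.Agent.Lib.Helper64.nonabelian_uniq hG
    (fun K h1 h2 h3 => Cfsg.Agent.S1403.result hG K h1 h2 h3)
    (fun M hM q _ hq X hXp hX1 hXM => (Cfsg.Agent.S1404.result hG M hM q hq X hXp hX1 hXM).1)
    (fun M hM q _ hq A hA Q => ((Cfsg.Agent.S1417.result hG M hM q hq A hA).2.1 Q).1)
    (fun M hM q _ hq X hXM hX hXc =>
      (Cfsg.Agent.S1423.result hG M hM q hq X hXM hX (Classical.arbitrary _) (Or.inr hXc)).1)
    p P hP hPna

end Cfsg.Agent.S1422
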