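import Cfsg.Statements.S1427
import Cfsg.Agent.S1350
import Cfsg.Agent.S1403
import Cfsg.Agent.S1414
import Cfsg.Agent.S1417
import Cfsg.Agent.S1418
import Cfsg.Agent.Lib.Helper63.BG13a

set_option autoImplicit false
open Cfsg

namespace Cfsg.Agent.S1427

/-- Let G be a minimal simple group of odd order, M a maximal subgroup, E a complement to M_σ in M, and S a nontrivial cyclic Sylow subgroup of E (for some prime). Then M_σ ∩ C_G(x) = M_σ ∩ C_G(S) for every non-identity x ∈ S. -/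
theorem result {G : Type*} [Group G] [Finite G] (hG : Cfsg.IsMinSimpleOddOrder G)
    (M : Subgroup G) (hM : IsCoatom M) (E : Subgroup G) (hE : Cfsg.IsComplIn E (Cfsg.sigmaCore M) M) (p : ℕ) [Fact p.Prime] (S : Sylow p E) (hS1 : (S : Subgroup E) ≠ ⊥) (hSc : IsCyclic (S : Subgroup E)) :
    ∀ x ∈ (S : Subgroup E).map E.subtype, x ≠ 1 →
        Cfsg.sigmaCore M ⊓ Subgroup.centralizer ({x} : Set G) = Cfsg.sigmaCore M ⊓ Subgroup.centralizer (((S : Subgroup E).map E.subtype : Subgroup G) : Set G) := by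
  have hU : Cfsg.Agent.Lib.Helper63.BG10.UniqStmt G :=
    fun K hK h1 h2 => Cfsg.Agent.S1403.result hG K hK h1 h2
  have hHall : Cfsg.Agent.Lib.Helper63.BG13.HallStmt G :=
    fun M hM => (Cfsg.Agent.S1350.result hG M hM).1
  have h14 : Cfsg.Agent.Lib.Helper63.BG13.NpcStmt G :=
    fun H hH q hq hqH hqβ => ((Cfsg.Agent.S1414.result hG H hH).2.2.2.2 q hq hqH hqβ).2.1
  have h17 : Cfsg.Agent.Lib.Helper63.BG13.NilStmt G :=
    fun M hM p _ hp A hAM hAe hAc =>
      (Cfsg.Agent.S1417.result hG M hM p hp A ⟨hAM, hAe, hAc⟩).1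
  have h18 : Cfsg.Agent.Lib.Helper63.BG13.NormStmt G :=
    fun M hM E hE p _ hp A hAE hAe hAc =>
      ⟨(Cfsg.Agent.S1418.result hG M hM E hE p hp A ⟨hAE, hAe, hAc⟩).1.1,
        (Cfsg.Agent.S1418.result hG M hM E hE p hp A ⟨hAE, hAe, hAc⟩).2.1.2.2⟩
  exact Cfsg.Agent.Lib.Helper63.BG13.bg13_3a hG hU hHall h14 h17 h18 hM hE S hS1 hSc

end Cfsg.Agent.S1427
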