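import Cfsg.Statements.S0660

set_option autoImplicit false
open Cfsg

namespace Cfsg.Agent.S0660

open scoped IsMulCommutative

/-- conjugation by a normalizing element as an endomorphism of the subgroup -/
def conjHom {G : Type*} [Group G] (V : Subgroup G) (a : G)
    (ha : a ∈ Subgroup.normalizer (V : Set G)) : ↥V →* ↥V where
  toFun v := ⟨a * v * a⁻¹, (Subgroup.mem_normalizer_iff.mp ha v).mp v.2⟩
  map_one' := by ext; simp
  map_mul' x y := by ext; simp

theorem conjHom_coe {G : Type*} [Group G] (V : Subgroup G) (a : G)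
    (ha : a ∈ Subgroup.normalizer (V : Set G)) (v : V) :
    ((conjHom V a ha v : V) : G) = a * v * a⁻¹ := rfl

/-- the abstract averaging argument in a commutative group -/
theorem maschke {M : Type*} [CommGroup M] [Finite M] {A : Type*} [Group A] [Fintype A]
    (φ : A → (M →* M)) (hφ1 : ∀ v, φ 1 v = v) (hφmul : ∀ a b v, φ (a * b) v = φ a (φ b v))
    (hcop : (Fintype.card A).Coprime (Nat.card M))
    (U W : Subgroup M) (hU : ∀ a, ∀ u ∈ U, φ a u ∈ U) (hUW : U ⊓ W = ⊥) (hUW' : U ⊔ W = ⊤) :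
    ∃ W' : Subgroup M, (∀ a, ∀ w ∈ W', φ a w ∈ W') ∧ U ⊓ W' = ⊥ ∧ U ⊔ W' = ⊤ := by
  classical
  -- projection onto U along W
  have hex : ∀ v : M, ∃ u ∈ U, ∃ w ∈ W, u * w = v := by
    intro v
    have : v ∈ U ⊔ W := by rw [hUW']; trivial
    exact Subgroup.mem_sup.mp this
  have huniq : ∀ u ∈ U, ∀ w ∈ W, ∀ u' ∈ U, ∀ w' ∈ W, u * w = u' * w' → u = u' := by
    intro u hu w hw u' hu' w' hw' h
    have h1 : u'⁻¹ * u = w' * w⁻¹ := by
      rw [inv_mul_eq_iff_eq_mul, ← mul_assoc, ← h, mul_assoc, mul_inv_cancel, mul_one]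
    have h2 : u'⁻¹ * u ∈ U ⊓ W :=
      Subgroup.mem_inf.mpr ⟨mul_mem (inv_mem hu') hu, h1 ▸ mul_mem hw' (inv_mem hw)⟩
    rw [hUW, Subgroup.mem_bot] at h2
    exact (inv_mul_eq_one.mp h2).symm
  let pr : M → M := fun v => (hex v).choose
  have hpr_mem : ∀ v, pr v ∈ U := fun v => (hex v).choose_spec.1
  have hpr_spec : ∀ v, ∃ w ∈ W, pr v * w = v := fun v => (hex v).choose_spec.2
  have hpr_eq : ∀ v, ∀ u ∈ U, ∀ w ∈ W, u * w = v → pr v = u := by
    intro v u hu w hw h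
    obtain ⟨w', hw', h'⟩ := hpr_spec v
    exact huniq _ (hpr_mem v) _ hw' _ hu _ hw (h'.trans h.symm)
  let π : M →* M :=
    { toFun := pr
      map_one' := hpr_eq 1 1 (one_mem _) 1 (one_mem _) (one_mul 1)
      map_mul' := by
        intro x y
        obtain ⟨wx, hwx, hx⟩ := hpr_spec x
        obtain ⟨wy, hwy, hy⟩ := hpr_spec y
        apply hpr_eq (x * y) (pr x * pr y) (mul_mem (hpr_mem x) (hpr_mem y)) (wx * wy)
          (mul_mem hwx hwy)
        calc pr x * pr y * (wx * wy) = (pr x * wx) * (pr y * wy) := mul_mul_mul_comm _ _ _ _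
          _ = x * y := by rw [hx, hy] }
  have hπU : ∀ u ∈ U, π u = u := fun u hu => hpr_eq u u hu 1 (one_mem _) (mul_one u)
  have hπmem : ∀ v, π v ∈ U := hpr_mem
  have hinv : ∀ a v, φ a⁻¹ (φ a v) = v := by
    intro a v
    rw [← hφmul, inv_mul_cancel, hφ1]
  let θ : M →* M := ∏ a : A, (φ a⁻¹).comp (π.comp (φ a))
  have hθ : ∀ v, θ v = ∏ a : A, φ a⁻¹ (π (φ a v)) := by
    intro v
    simp only [θ, MonoidHom.finsetProd_apply, MonoidHom.comp_apply]
  have hθmem : ∀ v, θ v ∈ U := by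
    intro v
    rw [hθ]
    exact Subgroup.prod_mem _ (fun a _ => hU _ _ (hπmem _))
  have hθU : ∀ u ∈ U, θ u = u ^ Fintype.card A := by
    intro u hu
    rw [hθ]
    have : ∀ a : A, φ a⁻¹ (π (φ a u)) = u := by
      intro a
      rw [hπU _ (hU a u hu), hinv]
    simp only [this, Finset.prod_const, Finset.card_univ]
  have hθeq : ∀ b v, θ (φ b v) = φ b (θ v) := by
    intro b v
    rw [hθ, hθ, map_prod]
    apply Fintype.prod_equiv (Equiv.mulRight b)
    intro a
    simp only [Equiv.coe_mulRight]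
    have : b * (a * b)⁻¹ = a⁻¹ := by group
    rw [← hφmul a b, ← hφmul b (a * b)⁻¹, this]
  have hpow_inj : ∀ u ∈ U, u ^ Fintype.card A = 1 → u = 1 := by
    intro u hu h
    have h1 : orderOf u ∣ Fintype.card A := orderOf_dvd_of_pow_eq_one h
    have h2 : orderOf u ∣ Nat.card M := orderOf_dvd_natCard u
    have h3 : orderOf u = 1 := Nat.eq_one_of_dvd_coprimes hcop h1 h2
    exact orderOf_eq_one_iff.mp h3
  refine ⟨θ.ker, ?_, ?_, ?_⟩
  · intro a w hw
    rw [MonoidHom.mem_ker] at hw ⊢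
    rw [hθeq, hw, map_one]
  · rw [eq_bot_iff]
    intro u huk
    obtain ⟨hu, hk⟩ := Subgroup.mem_inf.mp huk
    rw [MonoidHom.mem_ker, hθU u hu] at hk
    rw [Subgroup.mem_bot]
    exact hpow_inj u hu hk
  · rw [eq_top_iff]
    intro v _
    -- find u in U with u^n = θ v
    have hcopU : (Nat.card U).Coprime (Fintype.card A) :=
      Nat.Coprime.coprime_dvd_left (Subgroup.card_subgroup_dvd_card U) hcop.symm
    obtain ⟨u, hu⟩ := hcopU.pow_left_bijective.2 (⟨θ v, hθmem v⟩ : U)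
    have hu' : (u : M) ^ Fintype.card A = θ v := by
      have := congrArg Subtype.val hu
      simpa using this
    have hk : v * (u : M)⁻¹ ∈ θ.ker := by
      rw [MonoidHom.mem_ker, map_mul, map_inv, hθU _ u.2, hu', mul_inv_cancel]
    have : v = (u : M) * (v * (u : M)⁻¹) := by
      rw [mul_comm v, mul_inv_cancel_left]
    rw [this]
    exact Subgroup.mul_mem_sup u.2 hk

theorem result {G : Type*} [Group G] [Finite G] (V A U : Subgroup G) (hVab : IsMulCommutative V) (hAV : A ≤ Subgroup.normalizer (V : Set G)) (hcop : (Nat.card A).Coprime (Nat.card V)) (hUV : U ≤ V) (hAU : A ≤ Subgroup.normalizer (U : Set G)) (W : Subgroup G) (hWV : W ≤ V) (hUW : U ⊓ W = ⊥) (hUWV : U ⊔ W = V) : ∃ W' : Subgroup G, W' ≤ V ∧ A ≤ Subgroup.normalizer (W' : Set G) ∧ U ⊓ W' = ⊥ ∧ U ⊔ W' = V := by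
  classical
  haveI : IsMulCommutative V := hVab
  haveI : Fintype A := Fintype.ofFinite A
  let φ : A → (↥V →* ↥V) := fun a => conjHom V a (hAV a.2)
  have hφ1 : ∀ v, φ 1 v = v := by
    intro v; ext; simp [φ, conjHom_coe]
  have hφmul : ∀ a b v, φ (a * b) v = φ a (φ b v) := by
    intro a b v; ext; simp [φ, conjHom_coe, mul_assoc]
  have hcop' : (Fintype.card A).Coprime (Nat.card V) := by
    rw [← Nat.card_eq_fintype_card]; exact hcop
  have hU' : ∀ a, ∀ u ∈ U.subgroupOf V, φ a u ∈ U.subgroupOf V := by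
    intro a u hu
    rw [Subgroup.mem_subgroupOf] at hu ⊢
    rw [conjHom_coe]
    exact (Subgroup.mem_normalizer_iff.mp (hAU a.2) _).mp hu
  have hinf : U.subgroupOf V ⊓ W.subgroupOf V = ⊥ := by
    rw [eq_bot_iff]
    intro v hv
    obtain ⟨h1, h2⟩ := Subgroup.mem_inf.mp hv
    rw [Subgroup.mem_subgroupOf] at h1 h2
    have : (v : G) ∈ U ⊓ W := Subgroup.mem_inf.mpr ⟨h1, h2⟩
    rw [hUW, Subgroup.mem_bot] at this
    rw [Subgroup.mem_bot]
    exact Subtype.ext this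
  have hsup : U.subgroupOf V ⊔ W.subgroupOf V = ⊤ := by
    rw [eq_top_iff]
    intro v _
    have hv : (v : G) ∈ U ⊔ W := by rw [hUWV]; exact v.2
    have hcomm : ∀ x ∈ V, ∀ y ∈ V, x * y = y * x := fun x hx y hy =>
      (Subgroup.le_centralizer_iff_isMulCommutative.mpr hVab hy x hx)
    -- U ⊔ W elements are products since everything commutes in V
    have key : ∀ g ∈ U ⊔ W, ∃ u ∈ U, ∃ w ∈ W, g = u * w := by
      intro g hg
      rw [Subgroup.sup_eq_closure] at hg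
      induction hg using Subgroup.closure_induction with
      | mem x hx =>
        rcases hx with hx | hx
        · exact ⟨x, hx, 1, one_mem _, (mul_one x).symm⟩
        · exact ⟨1, one_mem _, x, hx, (one_mul x).symm⟩
      | one => exact ⟨1, one_mem _, 1, one_mem _, (mul_one 1).symm⟩
      | mul x y _ _ ihx ihy =>
        obtain ⟨u₁, hu₁, w₁, hw₁, rfl⟩ := ihx
        obtain ⟨u₂, hu₂, w₂, hw₂, rfl⟩ := ihy
        refine ⟨u₁ * u₂, mul_mem hu₁ hu₂, w₁ * w₂, mul_mem hw₁ hw₂, ?_⟩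
        have := hcomm w₁ (hWV hw₁) u₂ (hUV hu₂)
        calc u₁ * w₁ * (u₂ * w₂) = u₁ * (w₁ * u₂) * w₂ := by group
          _ = u₁ * (u₂ * w₁) * w₂ := by rw [this]
          _ = u₁ * u₂ * (w₁ * w₂) := by group
      | inv x _ ihx =>
        obtain ⟨u₁, hu₁, w₁, hw₁, rfl⟩ := ihx
        refine ⟨u₁⁻¹, inv_mem hu₁, w₁⁻¹, inv_mem hw₁, ?_⟩
        have := hcomm w₁⁻¹ (hWV (inv_mem hw₁)) u₁⁻¹ (hUV (inv_mem hu₁))
        rw [mul_inv_rev, this]
    obtain ⟨u, hu, w, hw, huw⟩ := key v hv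
    have : v = (⟨u, hUV hu⟩ : V) * (⟨w, hWV hw⟩ : V) := by
      ext; simpa using huw
    rw [this]
    exact Subgroup.mul_mem_sup (Subgroup.mem_subgroupOf.mpr hu) (Subgroup.mem_subgroupOf.mpr hw)
  obtain ⟨K, hK1, hK2, hK3⟩ := maschke φ hφ1 hφmul hcop' (U.subgroupOf V) (W.subgroupOf V)
    hU' hinf hsup
  refine ⟨K.map V.subtype, ?_, ?_, ?_, ?_⟩
  · exact Subgroup.map_subtype_le K
  · intro a ha
    have hconj : ∀ b ∈ A, ∀ x ∈ K.map V.subtype, b * x * b⁻¹ ∈ K.map V.subtype := by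
      rintro b hb _ ⟨k, hk, rfl⟩
      exact ⟨φ ⟨b, hb⟩ k, hK1 ⟨b, hb⟩ k hk, rfl⟩
    rw [Subgroup.mem_normalizer_iff]
    intro x
    constructor
    · exact hconj a ha x
    · intro hx
      have := hconj a⁻¹ (inv_mem ha) _ hx
      have h2 : a⁻¹ * (a * x * a⁻¹) * a⁻¹⁻¹ = x := by group
      rwa [h2] at this
  · rw [eq_bot_iff]
    rintro x ⟨hxU, ⟨k, hk, rfl⟩⟩
    have : k ∈ U.subgroupOf V ⊓ K := ⟨Subgroup.mem_subgroupOf.mpr hxU, hk⟩
    rw [hK2, Subgroup.mem_bot] at this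
    rw [this]; simp
  · have h1 := congrArg (Subgroup.map V.subtype) hK3
    rw [Subgroup.map_sup, Subgroup.map_subgroupOf_eq_of_le hUV, ← MonoidHom.range_eq_map,
      Subgroup.range_subtype] at h1
    exact h1

end Cfsg.Agent.S0660
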