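import Cfsg.Statements.S4381
import Cfsg.Agent.Lib.Helper24.SylowInv
import Cfsg.Agent.Lib.Helper2.PGroup
import Cfsg.Agent.S0660

set_option autoImplicit false
open Cfsg

namespace Cfsg.Agent.S4381

open scoped Pointwise
open scoped commutatorElement

section basics

variable {A G : Type*} [Group A] [Group G] [MulDistribMulAction A G]

/-- `L` is `A`-invariant. -/
def Inv (A : Type*) {G : Type*} [Group A] [Group G] [MulDistribMulAction A G] (L : Subgroup G) : Prop :=
  ∀ a : A, ∀ x ∈ L, a • x ∈ L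

/-- `M` is a maximal `A`-invariant subgroup. -/
def MaxInv (A : Type*) {G : Type*} [Group A] [Group G] [MulDistribMulAction A G] (M : Subgroup G) : Prop :=
  M ≠ ⊤ ∧ (∀ a : A, ∀ x ∈ M, a • x ∈ M) ∧
    ∀ L : Subgroup G, M < L → (∀ a : A, ∀ x ∈ L, a • x ∈ L) → L = ⊤

/-- the automorphism induced by `a` -/
def actHom (a : A) : G →* G := (MulDistribMulAction.toMulAut A G a).toMonoidHom

@[simp] theorem actHom_apply (a : A) (x : G) : actHom a x = a • x := rfl

theorem inv_iff_map_le (L : Subgroup G) : Inv A L ↔ ∀ a : A, L.map (actHom a) ≤ L := by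
  constructor
  · rintro h a _ ⟨x, hx, rfl⟩
    exact h a x hx
  · intro h a x hx
    exact h a ⟨x, hx, rfl⟩

theorem inv_sup {H K : Subgroup G} (hH : Inv A H) (hK : Inv A K) : Inv A (H ⊔ K) := by
  rw [inv_iff_map_le] at *
  intro a
  rw [Subgroup.map_sup]
  exact sup_le_sup (hH a) (hK a)

theorem inv_frattini : Inv A (frattini G) := by
  intro a x hx
  have h := (Subgroup.characteristic_iff_map_eq.1 (frattini_characteristic (G := G)))
    (MulDistribMulAction.toMulAut A G a)
  rw [← h]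
  exact ⟨x, hx, rfl⟩

end basics

section easy

variable {A G : Type*} [Group A] [Group G] [Finite G] [MulDistribMulAction A G]

/-- A maximal invariant subgroup contains the Frattini subgroup. -/
theorem frattini_le_of_maxInv {M : Subgroup G} (hM : MaxInv A M) : frattini G ≤ M := by
  obtain ⟨hM1, hM2, hM3⟩ := hM
  by_contra hle
  have hlt : M < M ⊔ frattini G := by
    refine lt_of_le_of_ne le_sup_left ?_
    intro h
    apply hle
    rw [h]
    exact le_sup_right
  have := hM3 _ hlt (inv_sup hM2 inv_frattini)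
  exact hM1 (frattini_nongenerating this)

theorem maxInv_iff_of_irred
    (hirr : ∀ L : Subgroup G, frattini G < L → (∀ a : A, ∀ x ∈ L, a • x ∈ L) → L = ⊤)
    (M : Subgroup G) : MaxInv A M ↔ (M = frattini G ∧ M ≠ ⊤) := by
  constructor
  · intro hM
    have hle := frattini_le_of_maxInv hM
    refine ⟨?_, hM.1⟩
    by_contra hne
    have hlt : frattini G < M := lt_of_le_of_ne hle (fun h => hne h.symm)
    exact hM.1 (hirr M hlt hM.2.1)
  · rintro ⟨rfl, hne⟩
    exact ⟨hne, inv_frattini, hirr⟩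

end easy

section compl

theorem exists_compl_addSubgroup (p : ℕ) [Fact p.Prime] {V : Type*} [AddCommGroup V]
    [Module (ZMod p) V] (U : AddSubgroup V) : ∃ W : AddSubgroup V, U ⊓ W = ⊥ ∧ U ⊔ W = ⊤ := by
  obtain ⟨T, hT⟩ := exists_isCompl (AddSubgroup.toZModSubmodule p U)
  have h1 := (AddSubgroup.toZModSubmodule p (M := V)).symm.isCompl hT
  rw [OrderIso.symm_apply_apply] at h1
  exact ⟨(AddSubgroup.toZModSubmodule p).symm T, h1.inf_eq_bot, h1.sup_eq_top⟩

/-- Subgroups of an elementary abelian `p`-group have complements. -/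
theorem exists_compl_of_pow_eq_one {M : Type*} [CommGroup M] (p : ℕ) [Fact p.Prime]
    (h : ∀ x : M, x ^ p = 1) (U : Subgroup M) : ∃ W : Subgroup M, U ⊓ W = ⊥ ∧ U ⊔ W = ⊤ := by
  obtain ⟨W, hW1, hW2⟩ := @exists_compl_addSubgroup p _ (Additive M) _
    (AddCommGroup.zmodModule (n := p) (fun x => congrArg Additive.ofMul (h (Additive.toMul x))))
    (Subgroup.toAddSubgroup U)
  refine ⟨Subgroup.toAddSubgroup.symm W, ?_, ?_⟩
  · apply Subgroup.toAddSubgroup.injective
    rw [map_inf, OrderIso.apply_symm_apply, hW1, map_bot]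
  · apply Subgroup.toAddSubgroup.injective
    rw [map_sup, OrderIso.apply_symm_apply, hW2, map_top]

end compl

section hard

variable {A G : Type*} [Group A] [Group G] [Finite G] [MulDistribMulAction A G]

theorem exists_maxInv_ge (H : Subgroup G) (hH : Inv A H) (hH1 : H ≠ ⊤) :
    ∃ M : Subgroup G, MaxInv A M ∧ H ≤ M := by
  classical
  obtain ⟨M, ⟨hM1, hM2, hM3⟩, hMmax⟩ := Set.exists_max_image
    {K : Subgroup G | Inv A K ∧ K ≠ ⊤ ∧ H ≤ K} (fun K => Nat.card K) (Set.toFinite _)
    ⟨H, hH, hH1, le_rfl⟩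
  refine ⟨M, ⟨hM2, hM1, ?_⟩, hM3⟩
  intro L hL hLinv
  by_contra hne
  have h1 := hMmax L ⟨hLinv, hne, hM3.trans hL.le⟩
  exact hL.ne (Subgroup.eq_of_le_of_card_ge hL.le h1)

theorem exists_inv_sylow [Finite A] (hcop : (Nat.card A).Coprime (Nat.card G))
    (hsol : Group.IsSolvable A ∨ Group.IsSolvable G) (p : ℕ) [Fact p.Prime] :
    ∃ Q : Subgroup G, Inv A Q ∧ Nat.card Q = p ^ (Nat.card G).factorization p := by
  obtain ⟨φ, hφ⟩ : ∃ φ : A →* MulAut G, φ = MulDistribMulAction.toMulAut A G := ⟨_, rfl⟩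
  have : Finite (G ⋊[φ] A) := Finite.of_equiv _ SemidirectProduct.equivProd.symm
  obtain ⟨K, hK⟩ : ∃ K : Subgroup (G ⋊[φ] A), K = (SemidirectProduct.inl : G →* G ⋊[φ] A).range :=
    ⟨_, rfl⟩
  obtain ⟨A', hA'⟩ : ∃ A' : Subgroup (G ⋊[φ] A),
    A' = (SemidirectProduct.inr : A →* G ⋊[φ] A).range := ⟨_, rfl⟩
  have hKn : K.Normal := by
    rw [hK, SemidirectProduct.range_inl_eq_ker_rightHom]; infer_instance
  have hAK : A' ≤ Subgroup.normalizer (K : Set (G ⋊[φ] A)) := by
    rw [Subgroup.normalizer_eq_top]; exact le_top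
  have hcK : Nat.card K = Nat.card G := by
    rw [hK]
    exact (Nat.card_congr (MonoidHom.ofInjective SemidirectProduct.inl_injective).toEquiv).symm
  have hcA : Nat.card A' = Nat.card A := by
    rw [hA']
    exact (Nat.card_congr (MonoidHom.ofInjective SemidirectProduct.inr_injective).toEquiv).symm
  have hcop' : (Nat.card A').Coprime (Nat.card K) := by rw [hcK, hcA]; exact hcop
  have hsol' : Group.IsSolvable A' ∨ Group.IsSolvable K := by
    rcases hsol with h | h
    · left
      rw [hA']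
      exact Group.isSolvable_of_surjective
        (f := (SemidirectProduct.inr : A →* G ⋊[φ] A).rangeRestrict)
        (MonoidHom.rangeRestrict_surjective _)
    · right
      rw [hK]
      exact Group.isSolvable_of_surjective
        (f := (SemidirectProduct.inl : G →* G ⋊[φ] A).rangeRestrict)
        (MonoidHom.rangeRestrict_surjective _)
  obtain ⟨P, hP⟩ := Cfsg.Agent.Lib.Helper24.exists_invariant_sylow (p := p) A' K hAK hcop' hsol'
  obtain ⟨P', hP'⟩ : ∃ P' : Subgroup (G ⋊[φ] A), P' = (P : Subgroup K).map K.subtype := ⟨_, rfl⟩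
  rw [← hP'] at hP
  have hP'K : P' ≤ K := hP' ▸ Subgroup.map_subtype_le _
  refine ⟨P'.comap SemidirectProduct.inl, ?_, ?_⟩
  · intro a x hx
    rw [Subgroup.mem_comap] at hx ⊢
    have ha : (SemidirectProduct.inr a : G ⋊[φ] A) ∈ A' := hA' ▸ ⟨a, rfl⟩
    have h1 := (Subgroup.mem_normalizer_iff.1 (hP ha) _).1 hx
    have h2 : (SemidirectProduct.inl (a • x) : G ⋊[φ] A) =
        SemidirectProduct.inr a * SemidirectProduct.inl x * (SemidirectProduct.inr a)⁻¹ := by
      rw [← map_inv, ← SemidirectProduct.inl_aut, hφ]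
      rfl
    rw [h2]; exact h1
  · have h1 : (P'.comap SemidirectProduct.inl).map (SemidirectProduct.inl : G →* G ⋊[φ] A) = P' := by
      rw [Subgroup.map_comap_eq, ← hK]
      exact inf_eq_right.2 hP'K
    have h2 : Nat.card ((P'.comap SemidirectProduct.inl).map
        (SemidirectProduct.inl : G →* G ⋊[φ] A)) = Nat.card (P'.comap SemidirectProduct.inl) :=
      Subgroup.card_map_of_injective SemidirectProduct.inl_injective
    rw [← h2, h1, hP', Subgroup.card_map_of_injective K.subtype_injective,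
      Sylow.card_eq_multiplicity, hcK]

theorem isPGroup_of_card_eq [Finite A] (hcop : (Nat.card A).Coprime (Nat.card G))
    (hsol : Group.IsSolvable A ∨ Group.IsSolvable G)
    (hconj : ∀ M N : Subgroup G, MaxInv A M → MaxInv A N → Nat.card M = Nat.card N) :
    ∃ p : ℕ, p.Prime ∧ IsPGroup p G := by
  by_cases htriv : (⊥ : Subgroup G) = ⊤
  · refine ⟨2, Nat.prime_two, IsPGroup.of_card (n := 0) ?_⟩
    rw [pow_zero, ← Subgroup.card_top (G := G), ← htriv, Subgroup.card_bot]
  by_contra hno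
  push Not at hno
  have hbot : Inv A (⊥ : Subgroup G) := by
    intro a x hx
    rw [Subgroup.mem_bot] at hx ⊢
    rw [hx, smul_one]
  obtain ⟨M₀, hM₀, -⟩ := exists_maxInv_ge (A := A) ⊥ hbot htriv
  have hdvd : Nat.card G ∣ Nat.card M₀ := by
    rw [← Nat.factorization_prime_le_iff_dvd Nat.card_pos.ne' Nat.card_pos.ne']
    intro p hp
    have : Fact p.Prime := ⟨hp⟩
    obtain ⟨Q, hQ, hQc⟩ := exists_inv_sylow (A := A) hcop hsol p
    have hQ1 : Q ≠ ⊤ := by
      intro h
      apply hno p hp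
      rw [h, Subgroup.card_top] at hQc
      exact IsPGroup.of_card hQc
    obtain ⟨M, hM, hQM⟩ := exists_maxInv_ge Q hQ hQ1
    have hc := hconj M M₀ hM hM₀
    have h1 : Nat.card Q ∣ Nat.card M₀ := hc ▸ Subgroup.card_dvd_of_le hQM
    rw [hQc] at h1
    exact (hp.pow_dvd_iff_le_factorization Nat.card_pos.ne').1 h1
  have heq : Nat.card M₀ = Nat.card G :=
    Nat.dvd_antisymm (Subgroup.card_subgroup_dvd_card M₀) hdvd
  exact hM₀.1 ((Subgroup.card_eq_iff_eq_top M₀).1 heq)

end hard

section irred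

/-- Maschke for elementary abelian groups with coprime action. -/
theorem exists_inv_compl {Q : Type*} [CommGroup Q] [Finite Q] {A : Type*} [Group A] [Finite A]
    (p : ℕ) [Fact p.Prime] (hexp : ∀ x : Q, x ^ p = 1) (φ : A → (Q →* Q))
    (hφ1 : ∀ v, φ 1 v = v) (hφmul : ∀ a b v, φ (a * b) v = φ a (φ b v))
    (hcop : (Nat.card A).Coprime (Nat.card Q)) (U : Subgroup Q)
    (hU : ∀ a, ∀ u ∈ U, φ a u ∈ U) :
    ∃ W' : Subgroup Q, (∀ a, ∀ w ∈ W', φ a w ∈ W') ∧ U ⊓ W' = ⊥ ∧ U ⊔ W' = ⊤ := by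
  have := Fintype.ofFinite A
  obtain ⟨W, hW1, hW2⟩ := exists_compl_of_pow_eq_one p hexp U
  exact Cfsg.Agent.S0660.maschke φ hφ1 hφmul (by rw [← Nat.card_eq_fintype_card]; exact hcop)
    U W hU hW1 hW2

variable {A G : Type*} [Group A] [Group G] [Finite G] [MulDistribMulAction A G]

theorem irred_of_conj [Finite A] (hcop : (Nat.card A).Coprime (Nat.card G)) {p : ℕ}
    (hp : p.Prime) (hG : IsPGroup p G)
    (hconj : ∀ M N : Subgroup G, MaxInv A M → MaxInv A N → ∃ c : G, N = MulAut.conj c • M)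
    (L : Subgroup G) (hL : frattini G < L) (hLinv : Inv A L) : L = ⊤ := by
  classical
  have : Fact p.Prime := ⟨hp⟩
  by_contra hL1
  obtain ⟨M, hM, hLM⟩ := exists_maxInv_ge L hLinv hL1
  have hΦM := frattini_le_of_maxInv hM
  have hcomle : commutator G ≤ frattini G := Cfsg.Agent.Lib.Helper2.commutator_le_frattini hG
  have hMn : M.Normal := by
    refine ⟨fun x hx g => ?_⟩
    have h1 : g * x * g⁻¹ = ⁅g, x⁆ * x := by
      rw [commutatorElement_def]; group
    rw [h1]
    exact M.mul_mem (hΦM (hcomle (Subgroup.commutator_mem_commutator (Subgroup.mem_top g)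
      (Subgroup.mem_top x)))) hx
  have huniq : ∀ N : Subgroup G, MaxInv A N → N = M := by
    intro N hN
    obtain ⟨c, hc⟩ := hconj M N hM hN
    rw [hc]
    exact Subgroup.Normal.conj_smul_eq_self c M
  have hΦn : (frattini G).Normal := inferInstance
  have hcomm : ∀ a b : G ⧸ frattini G, a * b = b * a := by
    have h := Subgroup.Normal.quotient_commutative_iff_commutator_le.2 hcomle
    exact fun a b => h.is_comm.comm a b
  let instQ : CommGroup (G ⧸ frattini G) :=
    { (inferInstance : Group (G ⧸ frattini G)) with mul_comm := hcomm }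
  have hexp : ∀ x : G ⧸ frattini G, x ^ p = 1 := by
    intro x
    obtain ⟨g, rfl⟩ := QuotientGroup.mk'_surjective (frattini G) x
    rw [← map_pow]
    exact (QuotientGroup.eq_one_iff _).2 (Cfsg.Agent.Lib.Helper2.pow_mem_frattini hG g)
  obtain ⟨φ, hφ⟩ : ∃ φ : A → ((G ⧸ frattini G) →* (G ⧸ frattini G)),
      ∀ a g, φ a (QuotientGroup.mk' (frattini G) g) = QuotientGroup.mk' (frattini G) (a • g) :=
    ⟨fun a => QuotientGroup.map (frattini G) (frattini G) (actHom a)
      (fun x hx => inv_frattini a x hx), fun a g => rfl⟩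
  have hφ1 : ∀ v, φ 1 v = v := by
    intro v
    obtain ⟨g, rfl⟩ := QuotientGroup.mk'_surjective (frattini G) v
    rw [hφ, one_smul]
  have hφmul : ∀ a b v, φ (a * b) v = φ a (φ b v) := by
    intro a b v
    obtain ⟨g, rfl⟩ := QuotientGroup.mk'_surjective (frattini G) v
    rw [hφ, hφ, hφ, mul_smul]
  have hcop' : (Nat.card A).Coprime (Nat.card (G ⧸ frattini G)) :=
    Nat.Coprime.coprime_dvd_right (Subgroup.card_quotient_dvd_card _) hcop
  have hU : ∀ a, ∀ u ∈ M.map (QuotientGroup.mk' (frattini G)),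
      φ a u ∈ M.map (QuotientGroup.mk' (frattini G)) := by
    rintro a _ ⟨g, hg, rfl⟩
    rw [hφ]
    exact ⟨a • g, hM.2.1 a g hg, rfl⟩
  obtain ⟨W', hW'inv, hW'1, hW'2⟩ := exists_inv_compl p hexp φ hφ1 hφmul hcop'
    (M.map (QuotientGroup.mk' (frattini G))) hU
  -- pull back
  have hWinv : Inv A (W'.comap (QuotientGroup.mk' (frattini G))) := by
    intro a x hx
    rw [Subgroup.mem_comap] at hx ⊢
    rw [← hφ]
    exact hW'inv a _ hx
  have hπs : Function.Surjective (QuotientGroup.mk' (frattini G)) :=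
    QuotientGroup.mk'_surjective _
  have hWne : W'.comap (QuotientGroup.mk' (frattini G)) ≠ ⊤ := by
    intro h
    have h1 : W' = ⊤ := by
      rw [← Subgroup.map_comap_eq_self_of_surjective hπs W', h,
        Subgroup.map_top_of_surjective _ hπs]
    rw [h1, inf_top_eq, Subgroup.map_eq_bot_iff, QuotientGroup.ker_mk'] at hW'1
    exact hL.ne' (le_antisymm (hLM.trans hW'1) hL.le)
  obtain ⟨N, hN, hWN⟩ := exists_maxInv_ge _ hWinv hWne
  rw [huniq N hN] at hWN
  have h2 : W' ≤ M.map (QuotientGroup.mk' (frattini G)) := by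
    rw [← Subgroup.map_comap_eq_self_of_surjective hπs W']
    exact Subgroup.map_mono hWN
  rw [sup_eq_left.2 h2] at hW'2
  have h3 := Subgroup.comap_map_eq (QuotientGroup.mk' (frattini G)) M
  rw [hW'2, Subgroup.comap_top, QuotientGroup.ker_mk', sup_eq_left.2 hΦM] at h3
  exact hM.1 h3.symm

end irred

/-- Let the finite group A act by automorphisms on the finite group G with the orders of A and G coprime, and assume that A or G is solvable. Call a proper A-invariant subgroup of G maximal A-invariant when no A-invariant subgroup lies strictly between it and G. Then all maximal A-invariant subgroups of G are conjugate under elements of the fixed-point subgroup C_G(A) if and only if G is a p-group for some prime p and A leaves invariant no subgroup strictly between the Frattini subgroup of G and G. In that case, if G is nontrivial, the Frattini subgroup is the only maximal A-invariant subgroup (a trivial G has none). -/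
theorem result {A G : Type*} [Group A] [Finite A]
    [Group G] [Finite G] [MulDistribMulAction A G] (hcop : (Nat.card A).Coprime (Nat.card G)) (hsol : Group.IsSolvable A ∨ Group.IsSolvable G) :
    ((∀ M N : Subgroup G, (M ≠ ⊤ ∧ (∀ a : A, ∀ x ∈ M, a • x ∈ M) ∧ ∀ L : Subgroup G, M < L → (∀ a : A, ∀ x ∈ L, a • x ∈ L) → L = ⊤) → (N ≠ ⊤ ∧ (∀ a : A, ∀ x ∈ N, a • x ∈ N) ∧ ∀ L : Subgroup G, N < L → (∀ a : A, ∀ x ∈ L, a • x ∈ L) → L = ⊤) →
        ∃ c : G, (∀ a : A, a • c = c) ∧ N = MulAut.conj c • M) ↔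
      ((∃ p : ℕ, p.Prime ∧ IsPGroup p G) ∧ ∀ L : Subgroup G, frattini G < L → (∀ a : A, ∀ x ∈ L, a • x ∈ L) → L = ⊤)) ∧
    (((∃ p : ℕ, p.Prime ∧ IsPGroup p G) ∧ ∀ L : Subgroup G, frattini G < L → (∀ a : A, ∀ x ∈ L, a • x ∈ L) → L = ⊤) →
      ∀ M : Subgroup G, (M ≠ ⊤ ∧ (∀ a : A, ∀ x ∈ M, a • x ∈ M) ∧ ∀ L : Subgroup G, M < L → (∀ a : A, ∀ x ∈ L, a • x ∈ L) → L = ⊤) ↔ (M = frattini G ∧ M ≠ ⊤)) := by
  refine ⟨⟨fun h => ?_, fun h M N hM hN => ?_⟩, fun h M => maxInv_iff_of_irred h.2 M⟩
  · have hcard : ∀ M N : Subgroup G, MaxInv A M → MaxInv A N → Nat.card M = Nat.card N := by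
      intro M N hM hN
      obtain ⟨c, -, hc⟩ := h M N hM hN
      rw [hc]
      exact Nat.card_congr (Subgroup.equivSMul (MulAut.conj c) M).toEquiv
    obtain ⟨p, hp, hG⟩ := isPGroup_of_card_eq hcop hsol hcard
    refine ⟨⟨p, hp, hG⟩, fun L hL hLinv => ?_⟩
    refine irred_of_conj hcop hp hG (fun M N hM hN => ?_) L hL hLinv
    obtain ⟨c, -, hc⟩ := h M N hM hN
    exact ⟨c, hc⟩
  · have h1 := (maxInv_iff_of_irred h.2 M).1 hM
    have h2 := (maxInv_iff_of_irred h.2 N).1 hN
    refine ⟨1, fun a => smul_one a, ?_⟩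
    rw [h2.1, h1.1, map_one, one_smul]

end Cfsg.Agent.S4381
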