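import Cfsg.Statements.S0051
import Cfsg.Agent.Lib.Helper1.Gaschutz2

set_option autoImplicit false
open Cfsg

namespace Cfsg.Agent.S0051

open scoped IsMulCommutative
open Cfsg.Agent.Lib.Helper1

/-- Gaschütz's Theorem, existence: an abelian normal subgroup K that is complemented inside a subgroup U ≥ K whose index is coprime to the order of K is complemented in the whole group. -/
theorem result {G : Type*} [Group G] [Finite G] (K U : Subgroup G) [K.Normal] [IsMulCommutative K]
    (hKU : K ≤ U) (hcop : (Nat.card K).Coprime U.index)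
    (A : Subgroup G) (hAU : A ≤ U) (hAK : A ⊓ K = ⊥) (hKA : K ⊔ A = U) :
    ∃ H : Subgroup G, Subgroup.IsComplement' K H := by
  classical
  -- decomposition of elements of `U`
  have hUdec : ∀ u ∈ U, ∃ k : K, ∃ a ∈ A, u = k * a := by
    intro u hu
    rw [← hKA, ← SetLike.mem_coe, Subgroup.normal_mul] at hu
    obtain ⟨k, hk, a, ha, rfl⟩ := hu
    exact ⟨⟨k, hk⟩, a, ha, rfl⟩
  -- uniqueness
  have huniq : ∀ (t : G) (k k' : K) (a a' : G), a ∈ A → a' ∈ A →
      (k : G) * t * a = k' * t * a' → k = k' := by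
    intro t k k' a a' ha ha' h
    have h1 : t⁻¹ * ((k' : G)⁻¹ * k) * t = a' * a⁻¹ := by
      have this : t⁻¹ * (k' : G)⁻¹ * (k * t * a) * a⁻¹ = t⁻¹ * (k' : G)⁻¹ * (k' * t * a') * a⁻¹ := by
        rw [h]
      rw [show t⁻¹ * ((k' : G)⁻¹ * k) * t = t⁻¹ * (k' : G)⁻¹ * (k * t * a) * a⁻¹ by group, this]
      group
    have h2 : a' * a⁻¹ ∈ A ⊓ K := by
      refine ⟨A.mul_mem ha' (A.inv_mem ha), ?_⟩
      rw [← h1]
      have := (inferInstance : K.Normal).conj_mem' _ (K.mul_mem (K.inv_mem k'.2) k.2) t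
      exact this
    rw [hAK, Subgroup.mem_bot] at h2
    rw [h2] at h1
    have h3 : (k' : G)⁻¹ * k = 1 := by
      have := congrArg (fun z => t * z * t⁻¹) h1
      simpa [mul_assoc] using this
    apply Subtype.ext
    rw [inv_mul_eq_one] at h3
    exact h3.symm
  -- the representative
  set rep : G → G := fun g => (QuotientGroup.mk g : G ⧸ U).out with hrep
  have hrepU : ∀ g, (rep g)⁻¹ * g ∈ U := by
    intro g
    rw [← QuotientGroup.eq, hrep]
    simp
  have hrep_eq : ∀ g u, u ∈ U → rep (g * u) = rep g := by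
    intro g u hu
    simp only [hrep]
    congr 1
    rw [QuotientGroup.eq]
    simpa using U.inv_mem hu
  have hrep_eqK : ∀ (k : K) g, rep (k * g) = rep g := by
    intro k g
    have : (k : G) * g = g * (g⁻¹ * k * g) := by group
    rw [this]
    apply hrep_eq
    exact hKU ((inferInstance : K.Normal).conj_mem' _ k.2 g)
  have hex : ∀ g, ∃ k : K, ∃ a ∈ A, g = k * rep g * a := by
    intro g
    obtain ⟨k, a, ha, h⟩ := hUdec _ (hrepU g)
    refine ⟨MulAut.conjNormal (rep g) k, a, ha, ?_⟩
    rw [MulAut.conjNormal_apply]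
    have h2 : g = rep g * ((rep g)⁻¹ * g) := by group
    rw [h] at h2
    conv_lhs => rw [h2]
    group
  set f : G → K := fun g => Classical.choose (hex g) with hf
  have hfspec : ∀ g, ∃ a ∈ A, g = f g * rep g * a := fun g => Classical.choose_spec (hex g)
  have hfuniq : ∀ g (k : K) (a : G), a ∈ A → g = k * rep g * a → f g = k := by
    intro g k a ha h
    obtain ⟨a', ha', h'⟩ := hfspec g
    exact huniq (rep g) _ _ a' a ha' ha (h'.symm.trans h)
  have hfK : ∀ (k : K) (g : G), f (k * g) = k * f g := by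
    intro k g
    obtain ⟨a, ha, h⟩ := hfspec g
    apply hfuniq _ _ a ha
    rw [hrep_eqK]
    conv_lhs => rw [h]
    rw [Subgroup.coe_mul]
    group
  have hfA : ∀ g a, a ∈ A → f (g * a) = f g := by
    intro g a ha
    obtain ⟨a', ha', h⟩ := hfspec g
    apply hfuniq _ _ (a' * a) (A.mul_mem ha' ha)
    rw [hrep_eq _ _ (hAU ha)]
    conv_lhs => rw [h]
    group
  have hfK' : ∀ (g : G) (k : K), f (g * k) = MulAut.conjNormal g k * f g := by
    intro g k
    rw [← hfK]
    congr 1
    rw [MulAut.conjNormal_apply]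
    group
  apply exists_complement_of_section K U hcop f hfK
  intro x g u hu
  obtain ⟨k, a, ha, rfl⟩ := hUdec u hu
  have e1 : f (g * (k * a)) = MulAut.conjNormal g k * f g := by
    rw [← mul_assoc, hfA _ _ ha, hfK']
  have e2 : f (x⁻¹ * (g * (k * a))) = MulAut.conjNormal (x⁻¹ * g) k * f (x⁻¹ * g) := by
    rw [← mul_assoc, ← mul_assoc, hfA _ _ ha, hfK']
  rw [e1, e2, map_mul, ← MulAut.mul_apply, ← map_mul MulAut.conjNormal, mul_inv_cancel_left,
    mul_inv, mul_mul_mul_comm, inv_mul_cancel, one_mul]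

end Cfsg.Agent.S0051
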