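import Cfsg.Statements.S1352
import Cfsg.Agent.S1350
import Cfsg.Agent.S1430
import Cfsg.Agent.Lib.Helper19.BG14B
import Cfsg.Agent.Lib.Helper10.BGLemR
import Cfsg.Agent.Lib.Helper24.BG121

set_option autoImplicit false
open Cfsg

namespace Cfsg.Agent.S1352

/-- Let G be a minimal simple group of odd order, M a maximal subgroup and K a cyclic Hall κ(M)-subgroup of M. Then there is a subgroup U of M, normalized by K, with U ∩ K M_σ = 1 and M = U K M_σ; moreover U M_σ is normal in M for any such U. -/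
theorem result {G : Type*} [Group G] [Finite G] (hG : Cfsg.IsMinSimpleOddOrder G)
    (M : Subgroup G) (hM : IsCoatom M) (K : Subgroup G)
    (hKc : IsCyclic K) (hK : Cfsg.IsPiHallOf (Cfsg.kappa M) K M) :
    (∃ U : Subgroup G, Cfsg.IsSigmaDecomposition M K U) ∧
      ∀ U : Subgroup G, Cfsg.IsSigmaDecomposition M K U → M ≤ Subgroup.normalizer ((U ⊔ Cfsg.sigmaCore M : Subgroup G) : Set G) := by
  have h50 := Cfsg.Agent.S1350.result hG M hM
  have hS : Cfsg.IsPiHallOf (Cfsg.sigma M) (Cfsg.sigmaCore M) M := h50.1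
  have hSn : M ≤ Subgroup.normalizer ((Cfsg.sigmaCore M : Subgroup G) : Set G) :=
    Cfsg.Agent.Lib.Helper24.BG.le_normalizer_sigmaCore M
  have hdisj : ∀ p, p ∈ Cfsg.kappa M → p ∉ Cfsg.sigma M := fun p hp => hp.2.2.1
  by_cases hK1 : K = ⊥
  · subst hK1
    obtain ⟨E, hE⟩ := Cfsg.Agent.Lib.Helper10.BG13.exists_isComplIn_sigmaCore hS
    constructor
    · refine ⟨E, ⟨hKc, hK, ?_, bot_le⟩⟩
      rw [bot_sup_eq]; exact hE
    · intro U hU
      have hc := hU.compl
      rw [bot_sup_eq] at hc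
      have hUS : U ⊔ Cfsg.sigmaCore M = M := by
        refine le_antisymm (sup_le hc.1 hc.2.1) ?_
        intro m hm
        obtain ⟨a, ha, b, hb, rfl⟩ := hc.2.2.2 m hm
        exact mul_mem ((le_sup_left : U ≤ U ⊔ Cfsg.sigmaCore M) ha)
          ((le_sup_right : Cfsg.sigmaCore M ≤ U ⊔ Cfsg.sigmaCore M) hb)
      rw [hUS]; exact Subgroup.le_normalizer
  · obtain ⟨_, ⟨U₀, _, hU₀H, hKU₀, _⟩, _⟩ := Cfsg.Agent.S1430.result hG M hM K hK hK1
    have hd := Cfsg.Agent.Lib.Helper19.BG14.decomp_exists hK hS hSn hU₀H hKU₀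
    constructor
    · exact ⟨U₀, ⟨hKc, hK, hd.1, hKU₀⟩⟩
    · intro U hU
      rw [Cfsg.Agent.Lib.Helper19.BG14.decomp_unique hdisj hK hS hSn hU₀H hd.2 hU.compl]
      exact hd.2

end Cfsg.Agent.S1352
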