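-- Statement S1369 (row 1369): BG 14.7(f),(g).
-- First half = helper56's pair count (`Lib/Helper56/BG147d.s1369_first`), second half and assembly =
-- `Lib/Helper70/BG1369.s1369_of`.
import Cfsg.Statements.S1369
import Cfsg.Agent.Lib.Helper70.BG1369
import Cfsg.Agent.Lib.Helper56.BG147d
import Cfsg.Agent.S1350
import Cfsg.Agent.S1351
import Cfsg.Agent.S1352
import Cfsg.Agent.S1366
import Cfsg.Agent.S1367
import Cfsg.Agent.S1377
import Cfsg.Agent.S1378
import Cfsg.Agent.S1430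
import Cfsg.Agent.S1431
import Cfsg.Agent.S1433
import Cfsg.Agent.S1434

set_option autoImplicit false
open Cfsg

namespace Cfsg.Agent.S1369

/-- Let G be a minimal simple group of odd order, M a maximal subgroup with standard factorisation M = K U M_σ, K ≠ 1, K* = M_σ ∩ C_G(K), and M* a maximal subgroup with K = M*_σ ∩ C_G(K*) and K* a Hall κ(M*)-subgroup of M*. Then either U ≠ 1 or every K*-invariant complement of K* M*_σ in M* is nontrivial; and every maximal subgroup H of G with κ(H) nonempty is conjugate to M or to M*. -/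
theorem result {G : Type*} [Group G] [Finite G] (hG : Cfsg.IsMinSimpleOddOrder G)
    (M : Subgroup G) (hM : IsCoatom M) (K U : Subgroup G) (hKU : Cfsg.IsSigmaDecomposition M K U) (hK1 : K ≠ ⊥) (Mstar : Subgroup G) (hMstar : IsCoatom Mstar)
    (hKst : K = Cfsg.sigmaCore Mstar ⊓ Subgroup.centralizer ((Cfsg.sigmaCore M ⊓ Subgroup.centralizer (K : Set G)) : Set G))
    (hKstH : Cfsg.IsPiHallOf (Cfsg.kappa Mstar) (Cfsg.sigmaCore M ⊓ Subgroup.centralizer (K : Set G)) Mstar) :
    (U ≠ ⊥ ∨ ∀ Ustar : Subgroup G, Cfsg.IsSigmaDecomposition Mstar (Cfsg.sigmaCore M ⊓ Subgroup.centralizer (K : Set G)) Ustar → Ustar ≠ ⊥) ∧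
      ∀ H : Subgroup G, IsCoatom H → (Cfsg.kappa H).Nonempty →
        ∃ g : G, H = M.map (MulAut.conj g).toMonoidHom ∨ H = Mstar.map (MulAut.conj g).toMonoidHom := by
  have ha : Cfsg.Agent.Lib.Helper70.BG1369.St1369a G :=
    fun M hM K U hKU hK1 Mstar hMstar hKst hKstH =>
      Cfsg.Agent.Lib.Helper56.BG147.s1369_first hG
        (fun M hM => (Cfsg.Agent.S1350.result hG M hM).1)
        (fun M hM K hK hK1 => Cfsg.Agent.S1430.result hG M hM K hK hK1)
        (fun M hM K hK hK1 => Cfsg.Agent.S1431.result hG M hM K hK hK1)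
        (fun M N hM hN h => (Cfsg.Agent.S1378.result hG).2 M N hM hN h)
        (fun M hM => Cfsg.Agent.S1377.result hG M hM)
        (fun M N hM hN x y hx hy hx1 hy1 hxy =>
          Cfsg.Agent.S1433.result hG M N hM hN x y hx hy hx1 hy1 hxy)
        M hM K U hKU hK1 Mstar hMstar hKst hKstH
  have h66 : Cfsg.Agent.Lib.Helper70.BG1369.St1366 G :=
    fun M hM K U hKU hK1 => Cfsg.Agent.S1366.result hG M hM K U hKU hK1
  have h67 : Cfsg.Agent.Lib.Helper70.BG1369.St1367 G :=
    fun M hM K U hKU hK1 Mstar hMstar hKst hKstH =>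
      Cfsg.Agent.S1367.result hG M hM K U hKU hK1 Mstar hMstar hKst hKstH
  have h34 : Cfsg.Agent.Lib.Helper70.BG1369.St1434 G := by
    intro M hM K U hKU hK1 Mstar hMstar hKst hKstH
    obtain ⟨_, _, h3, _, _, h6⟩ := Cfsg.Agent.S1434.result hG M hM K U hKU hK1 Mstar hMstar hKst hKstH
    exact ⟨fun x hx hx1 y hy hy1 => (h3 x hx hx1 y hy hy1).2.2, h6⟩
  have hDec : Cfsg.Agent.Lib.Helper70.BG1369.StDec G := by
    intro H hH
    obtain ⟨⟨K, hK⟩, hcyc⟩ := Cfsg.Agent.S1351.result hG H hH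
    obtain ⟨⟨U, hU⟩, _⟩ := Cfsg.Agent.S1352.result hG H hH K (hcyc K hK) hK
    exact ⟨K, U, hU⟩
  exact Cfsg.Agent.Lib.Helper70.BG1369.s1369_of ha h66 h67 h34 hDec M hM K U hKU hK1 Mstar hMstar
    hKst hKstH

end Cfsg.Agent.S1369
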