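import Cfsg.Statements.S1373
import Cfsg.Agent.S1350
import Cfsg.Agent.S1351
import Cfsg.Agent.S1354
import Cfsg.Agent.S1366
import Cfsg.Agent.S1369
import Cfsg.Agent.S1430
import Cfsg.Agent.Lib.Helper19.BG14B
import Cfsg.Agent.Lib.Helper24.BG121
import Cfsg.Agent.Lib.Helper9.BG147P

set_option autoImplicit false
open Cfsg

namespace Cfsg.Agent.S1373

/-- Let G be a minimal simple group of odd order and M a maximal subgroup with standard factorisation M = K U M_σ, K ≠ 1 and U = 1. Then M_σ ∩ C_G(K) has prime order. -/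
theorem result {G : Type*} [Group G] [Finite G] (hG : Cfsg.IsMinSimpleOddOrder G)
    (M : Subgroup G) (hM : IsCoatom M) (K U : Subgroup G) (hKU : Cfsg.IsSigmaDecomposition M K U) (hK1 : K ≠ ⊥) (hU : U = ⊥) :
    (Nat.card ↥(Cfsg.sigmaCore M ⊓ Subgroup.centralizer (K : Set G))).Prime := by
  -- the partner `M*` (BG 14.7 / S1366)
  obtain ⟨Ms, ⟨hMs, hKst, hKsH⟩, -⟩ := Cfsg.Agent.S1366.result hG M hM K U hKU hK1
  -- `K* ≠ 1`
  have hKs1 : Cfsg.sigmaCore M ⊓ Subgroup.centralizer (K : Set G) ≠ ⊥ :=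
    (Cfsg.Agent.S1354.result hG M hM K hKU.cyclic hKU.hall).1
  -- not both of type `P1` (S1369, first half)
  have h69 := (Cfsg.Agent.S1369.result hG M hM K U hKU hK1 Ms hMs hKst hKsH).1
  -- BG 14.2 for `(M*, K*)`
  obtain ⟨hsp, ⟨U0, hU0ab, hU0H, hKU0, hreg⟩, -⟩ :=
    Cfsg.Agent.S1430.result hG Ms hMs _ hKsH hKs1
  -- `K*` is cyclic
  have hcyc : IsCyclic ↥(Cfsg.sigmaCore M ⊓ Subgroup.centralizer (K : Set G)) :=
    (Cfsg.Agent.S1351.result hG Ms hMs).2 _ hKsH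
  -- `(M*, K*, U0)` is a sigma-decomposition
  have hS : Cfsg.IsPiHallOf (Cfsg.sigma Ms) (Cfsg.sigmaCore Ms) Ms :=
    (Cfsg.Agent.S1350.result hG Ms hMs).1
  have hSn : Ms ≤ Subgroup.normalizer ((Cfsg.sigmaCore Ms : Subgroup G) : Set G) :=
    Cfsg.Agent.Lib.Helper24.BG.le_normalizer_sigmaCore Ms
  have hd := Cfsg.Agent.Lib.Helper19.BG14.decomp_exists hKsH hS hSn hU0H hKU0
  have hdec : Cfsg.IsSigmaDecomposition Ms
      (Cfsg.sigmaCore M ⊓ Subgroup.centralizer (K : Set G)) U0 :=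
    ⟨hcyc, hKsH, hd.1, hKU0⟩
  have hU01 : U0 ≠ ⊥ := by
    rcases h69 with h | h
    · exact absurd hU h
    · exact h U0 hdec
  exact Cfsg.Agent.Lib.Helper9.BG147P.card_prime_of_U_ne_bot hG hMs hKsH hKs1 hsp hU0ab hU0H
    hKU0 hreg hU01

end Cfsg.Agent.S1373
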