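import Cfsg.Statements.S4566
import Mathlib.Analysis.Complex.Polynomial.Basic

set_option autoImplicit false
open Cfsg
open scoped ComplexConjugate

namespace Cfsg.Agent.S4566

theorem central_scalar {G : Type*} [Group G] {n : ℕ} (ρ : Representation ℂ G (Fin n → ℂ))
    (hρ : ρ.IsIrreducible) (z : G) (hz : z ∈ Subgroup.center G) :
    ∃ c : ℂ, ∀ g : G, ρ.character (g * z) = c * ρ.character g := by
  haveI := hρ
  have hz' : z ∈ Submonoid.center G := hz
  obtain ⟨c, hc⟩ :=
    (Representation.IsIrreducible.algebraMap_intertwiningMap_bijective_of_isAlgClosed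
      (ρ := ρ)).2 (Representation.IntertwiningMap.centralMul ρ z hz')
  refine ⟨c, fun g => ?_⟩
  have h1 : ρ z = c • (LinearMap.id : (Fin n → ℂ) →ₗ[ℂ] (Fin n → ℂ)) := by
    have h2 := congrArg Representation.IntertwiningMap.toLinearMap hc
    simp only [Representation.IntertwiningMap.algebraMap_apply,
      Representation.IntertwiningMap.toLinearMap_smul] at h2
    rw [show (Representation.IntertwiningMap.centralMul ρ z hz').toLinearMap = ρ z from rfl] at h2
    rw [← h2]
    rfl
  unfold Representation.character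
  rw [map_mul, h1]
  have h5 : ρ g * c • (LinearMap.id : (Fin n → ℂ) →ₗ[ℂ] (Fin n → ℂ)) = c • ρ g := by
    ext v i
    simp
  rw [h5, map_smul, smul_eq_mul]

theorem result {G : Type*} [Group G] [Fintype G] (N : Subgroup G) [Fintype N] (hN : N ≤ Subgroup.center G) (ψ : Cfsg.IrrCharacter ↥N) (hfaith : ∀ n : ↥N, (ψ : ↥N → ℂ) n = (ψ : ↥N → ℂ) 1 → n = 1) (χ : Cfsg.IrrCharacter G) (hover : Cfsg.classInner (fun n : ↥N => (χ : G → ℂ) n) (ψ : ↥N → ℂ) ≠ 0) (g x : G) (hcomm : x⁻¹ * g⁻¹ * x * g ∈ N) (hne : x⁻¹ * g⁻¹ * x * g ≠ 1) : (χ : G → ℂ) g = 0 := by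
  classical
  obtain ⟨χf, n, ρ, hρ, hχ⟩ := χ
  obtain ⟨ψf, m, σ, hσ, hψ⟩ := ψ
  simp only at hfaith hover ⊢
  subst hχ
  subst hψ
  by_contra hg0
  set z : G := x⁻¹ * g⁻¹ * x * g with hz
  have hzinv : z⁻¹ ∈ N := inv_mem hcomm
  obtain ⟨c, hc⟩ := central_scalar ρ hρ z⁻¹ (hN hzinv)
  -- c = 1
  have hc1 : c = 1 := by
    have h1 := hc g
    have h2 : g * z⁻¹ = x⁻¹ * g * x⁻¹⁻¹ := by rw [hz]; group
    rw [h2, Representation.char_conj] at h1
    have h3 : (1 - c) * ρ.character g = 0 := by rw [sub_mul, one_mul, ← h1, sub_self]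
    rcases mul_eq_zero.1 h3 with h | h
    · exact (sub_eq_zero.1 h).symm
    · exact absurd h hg0
  -- N is central in itself
  have hNc : ∀ w : N, w ∈ Subgroup.center N := by
    intro w
    rw [Subgroup.mem_center_iff]
    intro v
    apply Subtype.ext
    have := hN w.2
    rw [Subgroup.mem_center_iff] at this
    exact this v
  obtain ⟨d, hd⟩ := central_scalar σ hσ ⟨z⁻¹, hzinv⟩ (hNc _)
  -- reindex the sum
  have hS : (∑ w : N, ρ.character (w : G) * conj (σ.character w)) ≠ 0 := by
    intro h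
    apply hover
    unfold classInner
    rw [h, mul_zero]
  have hS2 : (∑ w : N, ρ.character (w : G) * conj (σ.character w)) =
      c * conj d * ∑ w : N, ρ.character (w : G) * conj (σ.character w) := by
    conv_lhs => rw [← Equiv.sum_comp (Equiv.mulRight (⟨z⁻¹, hzinv⟩ : N))]
    rw [Finset.mul_sum]
    apply Finset.sum_congr rfl
    intro w _
    simp only [Equiv.coe_mulRight, Subgroup.coe_mul]
    rw [hc, hd, map_mul]
    ring
  have hcd : c * conj d = 1 := by
    have h3 : (1 - c * conj d) * ∑ w : N, ρ.character (w : G) * conj (σ.character w) = 0 := by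
      rw [sub_mul, one_mul, ← hS2, sub_self]
    rcases mul_eq_zero.1 h3 with h | h
    · exact (sub_eq_zero.1 h).symm
    · exact absurd h hS
  rw [hc1, one_mul] at hcd
  have hd1 : d = 1 := by
    have := congrArg conj hcd
    simpa using this
  have h4 := hd 1
  rw [one_mul, hd1, one_mul] at h4
  have h5 := hfaith _ h4
  have h6 : z⁻¹ = 1 := congrArg Subtype.val h5
  exact hne (inv_eq_one.1 h6)

end Cfsg.Agent.S4566
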