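import Cfsg.Statements.S0952
import Cfsg.Agent.Lib.Helper16.WBO
import Cfsg.Agent.Lib.Helper3.CharBasic

set_option autoImplicit false
open scoped ComplexConjugate
open Cfsg

namespace Cfsg.Agent.S0952

open Cfsg.Agent.Lib.Helper16 Cfsg.Agent.Lib.Helper77 Cfsg.Agent.Lib.Helper81

open Classical in
/-- Finset form: characters in different blocks are orthogonal on the `p`-regular elements. -/
theorem orth_regular {G : Type*} [Group G] [Fintype G] [Fintype (Cfsg.IrrCharacter G)]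
    (p : ℕ) [Fact p.Prime] (M : Ideal Cfsg.AlgInt) (hM : Cfsg.IsPModular p M)
    (χ ψ : Cfsg.IrrCharacter G) (h : ¬ Cfsg.SameBlock M (χ : G → ℂ) (ψ : G → ℂ)) :
    ∑ x ∈ Finset.univ.filter (fun x : G => ¬ p ∣ orderOf x),
      (χ : G → ℂ) x * conj ((ψ : G → ℂ) x) = 0 := by
  have hMp : M.IsPrime := isPrime_of_isPModular hM
  set R := Finset.univ.filter (fun x : G => ¬ p ∣ orderOf x) with hR
  set Bf := Finset.univ.filter (fun φ : Cfsg.IrrCharacter G => φ ∈ Cfsg.blockOf M (ψ : G → ℂ))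
    with hBf
  have hχB : ∀ φ ∈ Bf, (χ : G → ℂ) ≠ (φ : G → ℂ) := by
    intro φ hφ heq
    rw [hBf, Finset.mem_filter] at hφ
    apply h
    have h1 : Cfsg.SameBlock M (ψ : G → ℂ) (φ : G → ℂ) := hφ.2
    rw [heq]
    exact sameBlock_symm h1
  set c : Cfsg.IrrCharacter G → ℂ := fun φ => ∑ x ∈ R, (χ : G → ℂ) x * conj ((φ : G → ℂ) x)
    with hc
  have hG : (Nat.card G : ℂ) ≠ 0 := Nat.cast_ne_zero.mpr Nat.card_pos.ne'
  -- step 1
  have step1 : ∀ y ∈ R, ∑ φ ∈ Bf, (φ : G → ℂ) y * c φ = 0 := by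
    intro y hy
    rw [hR, Finset.mem_filter] at hy
    have hy' := hy.2
    have e1 : ∑ φ ∈ Bf, (φ : G → ℂ) y * c φ =
        ∑ x ∈ R, (χ : G → ℂ) x * ∑ φ ∈ Bf, (φ : G → ℂ) y * conj ((φ : G → ℂ) x) := by
      simp_rw [hc, Finset.mul_sum]
      rw [Finset.sum_comm]
      refine Finset.sum_congr rfl fun x _ => Finset.sum_congr rfl fun φ _ => ?_
      ring
    have e2 : ∑ x ∈ R, (χ : G → ℂ) x * ∑ φ ∈ Bf, (φ : G → ℂ) y * conj ((φ : G → ℂ) x) =
        ∑ x : G, (χ : G → ℂ) x * ∑ φ ∈ Bf, (φ : G → ℂ) y * conj ((φ : G → ℂ) x) := by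
      rw [hR, Finset.sum_filter]
      refine Finset.sum_congr rfl fun x _ => ?_
      by_cases hx : p ∣ orderOf x
      · rw [if_neg (not_not.mpr hx), weak_block_orthogonality_finset hM ψ hy' hx, mul_zero]
      · rw [if_pos hx]
    have e3 : ∑ x : G, (χ : G → ℂ) x * ∑ φ ∈ Bf, (φ : G → ℂ) y * conj ((φ : G → ℂ) x) =
        ∑ φ ∈ Bf, (φ : G → ℂ) y * ((Nat.card G : ℂ) *
          Cfsg.classInner (χ : G → ℂ) (φ : G → ℂ)) := by
      simp_rw [Finset.mul_sum]
      rw [Finset.sum_comm]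
      refine Finset.sum_congr rfl fun φ _ => ?_
      unfold Cfsg.classInner
      rw [← mul_assoc (Nat.card G : ℂ), mul_inv_cancel₀ hG, one_mul, Finset.mul_sum]
      refine Finset.sum_congr rfl fun x _ => ?_
      ring
    rw [e1, e2, e3]
    refine Finset.sum_eq_zero fun φ hφ => ?_
    rw [Cfsg.Agent.Lib.Helper3.classInner_irr χ.2 φ.2, if_neg (hχB φ hφ), mul_zero, mul_zero]
  -- step 2
  have step2 : ∑ φ ∈ Bf, c φ * conj (c φ) = 0 := by
    have e1 : ∑ φ ∈ Bf, c φ * conj (c φ) =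
        ∑ y ∈ R, conj ((χ : G → ℂ) y) * ∑ φ ∈ Bf, (φ : G → ℂ) y * c φ := by
      have : ∀ φ : Cfsg.IrrCharacter G, conj (c φ) =
          ∑ y ∈ R, conj ((χ : G → ℂ) y) * (φ : G → ℂ) y := by
        intro φ
        simp only [hc, map_sum, map_mul, Complex.conj_conj]
      simp_rw [this, Finset.mul_sum]
      rw [Finset.sum_comm]
      refine Finset.sum_congr rfl fun x _ => Finset.sum_congr rfl fun φ _ => ?_
      ring
    rw [e1]
    refine Finset.sum_eq_zero fun y hy => ?_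
    rw [step1 y hy, mul_zero]
  -- step 3
  have step3 : ∑ φ ∈ Bf, Complex.normSq (c φ) = 0 := by
    have : ((∑ φ ∈ Bf, Complex.normSq (c φ) : ℝ) : ℂ) = 0 := by
      rw [Complex.ofReal_sum]
      simp_rw [← Complex.mul_conj]
      exact step2
    exact_mod_cast this
  have hψ : ψ ∈ Bf := by
    rw [hBf, Finset.mem_filter]
    exact ⟨Finset.mem_univ _, sameBlock_refl hMp _⟩
  have := (Finset.sum_eq_zero_iff_of_nonneg (fun φ _ => Complex.normSq_nonneg (c φ))).mp step3 ψ hψ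
  exact Complex.normSq_eq_zero.mp this

/-- Let χ and ψ be irreducible characters of the finite group G lying in different blocks relative to a maximal ideal M of the algebraic integers containing the prime p. Then the sum of χ x * conj (ψ x) over the elements x of order prime to p is zero. -/
theorem result {G : Type*} [Group G] [Finite G] (p : ℕ) [Fact p.Prime] (M : Ideal Cfsg.AlgInt) (hM : Cfsg.IsPModular p M) (χ ψ : Cfsg.IrrCharacter G) (h : ¬ Cfsg.SameBlock M (χ : G → ℂ) (ψ : G → ℂ)) : ∑ᶠ x ∈ {x : G | ¬ p ∣ orderOf x}, (χ : G → ℂ) x * conj ((ψ : G → ℂ) x) = 0 := by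
  classical
  have := Fintype.ofFinite G
  have := Fintype.ofFinite (Cfsg.IrrCharacter G)
  rw [← orth_regular p M hM χ ψ h]
  apply finsum_mem_eq_sum_of_inter_support_eq
  congr 1
  ext x
  simp

end Cfsg.Agent.S0952
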