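import Cfsg.Statements.S0912
import Cfsg.Agent.Lib.Helper77.Nilpotent
import Cfsg.Agent.Lib.Helper77.DefectClass
import Cfsg.Agent.Lib.Helper84.PCore

set_option autoImplicit false
open Cfsg

namespace Cfsg.Agent.S0912

/-- Let B be a block of the finite group G relative to a maximal ideal M of the algebraic integers containing the prime p. Every defect group of B contains the largest normal p-subgroup O_p(G). -/
theorem result {G : Type*} [Group G] [Finite G] (p : ℕ) [Fact p.Prime] (M : Ideal Cfsg.AlgInt) (hM : Cfsg.IsPModular p M) (B : Set (Cfsg.IrrCharacter G)) (hB : Cfsg.IsPBlock M B) (D : Subgroup G) (hD : Cfsg.IsDefectGroup p M B D) : Cfsg.pCore p G ≤ D := by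
  classical
  have := Fintype.ofFinite G
  have hMp : M.IsPrime := Cfsg.Agent.Lib.Helper81.isPrime_of_isPModular hM
  obtain ⟨χ₀, rfl⟩ := hB
  obtain ⟨g, hg, P, rfl⟩ := hD
  have hN : (Cfsg.pCore p G).Normal := Cfsg.Agent.Lib.Helper84.pCore_normal p G
  have hNp : IsPGroup p (Cfsg.pCore p G) := Cfsg.Agent.Lib.Helper84.pCore_isPGroup p G
  have hgc : g ∈ Subgroup.centralizer ((Cfsg.pCore p G : Subgroup G) : Set G) := by
    by_contra hcon
    exact hg.2.2 χ₀ (Cfsg.Agent.Lib.Helper77.self_mem_blockOf hMp χ₀)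
      (Cfsg.Agent.Lib.Helper77.memLocalIdeal_centralChar_of_not_mem_centralizer hM
        (Cfsg.pCore p G) hNp hcon χ₀.2)
  have hle : Cfsg.pCore p G ≤ Subgroup.centralizer ({g} : Set G) := by
    intro n hn
    rw [Subgroup.mem_centralizer_singleton_iff]
    exact ((Subgroup.mem_centralizer_iff.mp hgc) n hn)
  have hsub : ((Cfsg.pCore p G).subgroupOf (Subgroup.centralizer ({g} : Set G))) ≤
      (P : Subgroup (Subgroup.centralizer ({g} : Set G))) := by
    refine Cfsg.Agent.Lib.Helper84.normal_pGroup_le_sylow ?_ ?_ P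
    · exact Subgroup.Normal.subgroupOf hN _
    · exact hNp.to_le (fun x hx => hx) |>.comap_subtype
  intro n hn
  exact ⟨⟨n, hle hn⟩, hsub (show (⟨n, hle hn⟩ : Subgroup.centralizer ({g} : Set G)) ∈
    (Cfsg.pCore p G).subgroupOf _ from hn), rfl⟩

end Cfsg.Agent.S0912
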