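import Cfsg.Statements.S0932
import Mathlib.Algebra.BigOperators.Field

set_option autoImplicit false
open Cfsg

namespace Cfsg.Agent.S0932

open scoped Classical in
theorem ext_eq {G : Type*} [Group G] (H : Subgroup G) [Fintype H] (ξ : H → ℂ) (y : G) :
    Cfsg.extendByZero H ξ y = ∑ h : H, if (h : G) = y then ξ h else 0 := by
  unfold Cfsg.extendByZero
  by_cases hy : y ∈ H
  · have : y = ((⟨y, hy⟩ : H) : G) := rfl
    rw [this, Subtype.val_injective.extend_apply]
    rw [Finset.sum_eq_single (⟨y, hy⟩ : H)]
    · simp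
    · intro b _ hb
      rw [if_neg]
      intro h
      apply hb
      exact Subtype.ext h
    · intro h
      exact absurd (Finset.mem_univ _) h
  · rw [Function.extend_apply']
    · symm
      apply Finset.sum_eq_zero
      intro h _
      rw [if_neg]
      intro hh
      apply hy
      rw [← hh]
      exact h.2
    · rintro ⟨a, ha⟩
      apply hy
      rw [← ha]
      exact a.2

open scoped Classical in
theorem card_fiber {G : Type*} [Group G] [Fintype G] (g y : G) :
    ((Finset.univ.filter (fun x : G => y = x⁻¹ * g * x)).card : ℂ) =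
      if IsConj g y then (Nat.card (Subgroup.centralizer ({g} : Set G)) : ℂ) else 0 := by
  split_ifs with hc
  · rw [isConj_iff] at hc
    obtain ⟨c, hc⟩ := hc
    subst hc
    congr 1
    rw [Nat.card_eq_fintype_card, ← Fintype.card_subtype]
    apply Fintype.card_congr
    refine ⟨fun x => ⟨x.1 * c, ?_⟩, fun k => ⟨k.1 * c⁻¹, ?_⟩, ?_, ?_⟩
    · rw [Subgroup.mem_centralizer_singleton_iff]
      obtain ⟨x, hx⟩ := x
      show x * c * g = g * (x * c)
      have : g = x * (c * g * c⁻¹) * x⁻¹ := by rw [hx]; group
      calc x * c * g = (x * (c * g * c⁻¹) * x⁻¹) * (x * c) := by group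
        _ = g * (x * c) := by rw [← this]
    · have hk := k.2
      rw [Subgroup.mem_centralizer_singleton_iff] at hk
      calc c * g * c⁻¹ = c * (k.1⁻¹ * (k.1 * g)) * c⁻¹ := by group
        _ = c * (k.1⁻¹ * (g * k.1)) * c⁻¹ := by rw [hk]
        _ = (k.1 * c⁻¹)⁻¹ * g * (k.1 * c⁻¹) := by group
    · intro x
      apply Subtype.ext
      simp
    · intro k
      apply Subtype.ext
      simp
  · norm_cast
    rw [Finset.card_eq_zero, Finset.filter_eq_empty_iff]
    intro x _ hx
    apply hc
    rw [isConj_iff]
    exact ⟨x⁻¹, by rw [hx]; group⟩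

/-- Let H be a subgroup of the finite group G and ξ a character of H. For every g ∈ G, the sum of ξ h / ξ 1 over the elements h ∈ H that are conjugate in G to g equals the central character at g of the character of G induced from ξ (class size times value divided by degree). -/
theorem result {G : Type*} [Group G] [Fintype G] (H : Subgroup G) (ξ : H → ℂ) (hξ : Cfsg.IsCharacter H ξ) (g : G) : Cfsg.inducedCentralChar H ξ g = Cfsg.centralChar (Cfsg.indFun H ξ) g := by
  classical
  have hsum : ∀ g : G, ∑ x : G, Cfsg.extendByZero H ξ (x⁻¹ * g * x) =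
      (Nat.card (Subgroup.centralizer ({g} : Set G)) : ℂ) *
        ∑ h : H, if IsConj g (h : G) then ξ h else 0 := by
    intro g
    simp_rw [ext_eq]
    rw [Finset.sum_comm, Finset.mul_sum]
    apply Finset.sum_congr rfl
    intro h _
    rw [← Finset.sum_filter, Finset.sum_const, nsmul_eq_mul, card_fiber]
    split_ifs <;> simp
  have hS : Cfsg.inducedCentralChar H ξ g = (∑ h : H, if IsConj g (h : G) then ξ h else 0) / ξ 1 := by
    unfold Cfsg.inducedCentralChar
    rw [finsum_mem_eq_finite_toFinset_sum _ (Set.toFinite _), ← Finset.sum_div, ← Finset.sum_filter]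
    congr 1
    apply Finset.sum_congr
    · ext h; simp
    · intros; rfl
  rw [hS]
  unfold Cfsg.centralChar Cfsg.indFun
  rw [hsum g, hsum 1]
  have h1 : ∀ h : H, IsConj (1 : G) (h : G) ↔ h = 1 := by
    intro h
    rw [isConj_iff]
    constructor
    · rintro ⟨c, hc⟩
      apply Subtype.ext
      rw [← hc]; simp
    · rintro rfl
      exact ⟨1, by simp⟩
  simp_rw [h1]
  rw [Finset.sum_ite_eq' Finset.univ (1 : H) ξ]
  simp only [Finset.mem_univ, if_true]
  have hcard1 : (Nat.card (Subgroup.centralizer ({1} : Set G)) : ℂ) = (Nat.card G : ℂ) := by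
    congr 1
    have : Subgroup.centralizer ({1} : Set G) = ⊤ := by
      ext x; simp [Subgroup.mem_centralizer_singleton_iff]
    rw [this]
    simp
  rw [hcard1]
  have hidx : ((Subgroup.centralizer ({g} : Set G)).index : ℂ) * (Nat.card (Subgroup.centralizer ({g} : Set G)) : ℂ) = (Nat.card G : ℂ) := by
    rw [mul_comm]
    norm_cast
    exact Subgroup.card_mul_index _
  have hG : (Nat.card G : ℂ) ≠ 0 := by
    norm_cast
    exact Nat.card_pos.ne'
  have hH : (Nat.card H : ℂ) ≠ 0 := by
    norm_cast
    exact Nat.card_pos.ne'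
  by_cases hξ1 : ξ 1 = 0
  · simp [hξ1]
  · set S := ∑ h : H, if IsConj g (h : G) then ξ h else 0
    have hC : (Nat.card (Subgroup.centralizer ({g} : Set G)) : ℂ) ≠ 0 := by
      norm_cast
      exact Nat.card_pos.ne'
    have hI : ((Subgroup.centralizer ({g} : Set G)).index : ℂ) ≠ 0 := by
      intro h0
      rw [h0, zero_mul] at hidx
      exact hG hidx.symm
    rw [← hidx]
    field_simp

end Cfsg.Agent.S0932
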