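import Cfsg.Statements.S0933
import Cfsg.Agent.S0932
import Cfsg.Agent.Lib.Helper77.Fourier
import Cfsg.Agent.Lib.Helper3.CharBasic

set_option autoImplicit false
open Cfsg

namespace Cfsg.Agent.S0933

open Cfsg.Agent.Lib.Helper77 Cfsg.Agent.Lib.Helper81

open scoped Classical in
/-- The induced central character is the `omega` of the indicator of the `G`-class. -/
theorem icc_eq_omega {G : Type*} [Group G] (H : Subgroup G) [Fintype H] (ξ : H → ℂ) (g : G) :
    Cfsg.inducedCentralChar H ξ g =
      omega ξ (fun h : H => if IsConj g (h : G) then (1 : ℂ) else 0) := by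
  unfold Cfsg.inducedCentralChar omega
  rw [finsum_mem_eq_finite_toFinset_sum _ (Set.toFinite _), ← Finset.sum_div]
  congr 1
  rw [Finset.sum_congr (s₂ := Finset.univ.filter (fun h : H => IsConj g (h : G))) (by ext h; simp)
    (fun _ _ => rfl), Finset.sum_filter]
  apply Finset.sum_congr rfl
  intro h _
  split_ifs <;> simp_all

/-- Let H be a subgroup of the finite group G and ξ an irreducible character of H such that the induced function ξ^G is an irreducible character of G. Then, relative to any maximal ideal M of the algebraic integers containing the prime p, the block of ξ induces the block of ξ^G. -/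
theorem result {G : Type*} [Group G] [Fintype G] (p : ℕ) [Fact p.Prime] (M : Ideal Cfsg.AlgInt) (hM : Cfsg.IsPModular p M) (H : Subgroup G) (ξ : Cfsg.IrrCharacter H) (hind : Cfsg.IsIrrCharacter G (Cfsg.indFun H (ξ : H → ℂ))) : Cfsg.IsInducedBlock M H (Cfsg.blockOf M (ξ : H → ℂ)) (Cfsg.blockOf M (Cfsg.indFun H (ξ : H → ℂ))) := by
  classical
  have hMp : M.IsPrime := isPrime_of_isPModular hM
  have : Fintype H := Fintype.ofFinite H
  refine ⟨⟨ξ, rfl⟩, ⟨⟨_, hind⟩, rfl⟩, ?_⟩
  intro ξ' hξ' χ hχ g
  have h1 : SameBlock M (ξ : H → ℂ) (ξ' : H → ℂ) := hξ'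
  have h2 : SameBlock M (Cfsg.indFun H (ξ : H → ℂ)) (χ : G → ℂ) := hχ
  have h3 : Cfsg.inducedCentralChar H (ξ : H → ℂ) g =
      Cfsg.centralChar (Cfsg.indFun H (ξ : H → ℂ)) g :=
    Cfsg.Agent.S0932.result H (ξ : H → ℂ) (Cfsg.Agent.Lib.Helper3.IsIrrCharacter.isCharacter ξ.2) g
  have h4 : MemLocalIdeal M (Cfsg.inducedCentralChar H (ξ' : H → ℂ) g -
      Cfsg.inducedCentralChar H (ξ : H → ℂ) g) := by
    rw [icc_eq_omega, icc_eq_omega]
    apply memLocalIdeal_omega_sub hMp (isClassFunction_of_isCharacter ξ'.2)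
      (isClassFunction_of_isCharacter ξ.2) (sameBlock_symm h1)
    · intro h k
      have : IsConj g ((k * h * k⁻¹ : H) : G) ↔ IsConj g (h : G) := by
        have hc : IsConj (h : G) ((k * h * k⁻¹ : H) : G) := by
          rw [isConj_iff]
          exact ⟨(k : G), by simp⟩
        exact ⟨fun hh => hh.trans hc.symm, fun hh => hh.trans hc⟩
      beta_reduce
      by_cases hc : IsConj g (h : G)
      · rw [if_pos hc, if_pos (this.2 hc)]
      · rw [if_neg hc, if_neg (fun hh => hc (this.1 hh))]
    · intro h
      split_ifs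
      · exact memLocalRing_one hMp
      · exact memLocalRing_zero hMp
  have h5 := memLocalIdeal_add hMp h4 (h2 g)
  rw [h3] at h5
  convert h5 using 1
  ring

end Cfsg.Agent.S0933
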