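import Cfsg.Statements.S0917
import Cfsg.Agent.S0933
import Cfsg.Agent.Lib.Helper77.MinMax

set_option autoImplicit false
open Cfsg

namespace Cfsg.Agent.S0917

open Cfsg.Agent.Lib.Helper77 Cfsg.Agent.Lib.Helper81
open scoped Pointwise

open scoped Classical in
theorem indicator_isClassFunction {G : Type*} [Group G] (H : Subgroup G) (g₀ : G) :
    IsClassFunction H (fun h : H => if IsConj g₀ (h : G) then (1 : ℂ) else 0) := by
  intro h k
  have hiff : IsConj g₀ ((k * h * k⁻¹ : H) : G) ↔ IsConj g₀ (h : G) := by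
    have hc : IsConj (h : G) ((k * h * k⁻¹ : H) : G) := by
      rw [isConj_iff]
      exact ⟨(k : G), by simp⟩
    exact ⟨fun hh => hh.trans hc.symm, fun hh => hh.trans hc⟩
  beta_reduce
  by_cases hc : IsConj g₀ (h : G)
  · rw [if_pos hc, if_pos (hiff.2 hc)]
  · rw [if_neg hc, if_neg (fun hh => hc (hiff.1 hh))]

/-- Let H be a subgroup of the finite group G, p a prime and M a maximal ideal of the algebraic integers containing p. If the block b of H induces the block B of G relative to M, then every defect group of b (a subgroup of H, viewed in G) is contained in some defect group of B. -/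
theorem result {G : Type*} [Group G] [Finite G] (p : ℕ) [Fact p.Prime] (M : Ideal Cfsg.AlgInt) (hM : Cfsg.IsPModular p M) (H : Subgroup G) (b : Set (Cfsg.IrrCharacter H)) (hb : Cfsg.IsPBlock M b) (B : Set (Cfsg.IrrCharacter G)) (hB : Cfsg.IsPBlock M B) (hind : Cfsg.IsInducedBlock M H b B) (D : Subgroup H) (hD : Cfsg.IsDefectGroup p M b D) : ∃ E : Subgroup G, Cfsg.IsDefectGroup p M B E ∧ D.map H.subtype ≤ E := by
  have := Fintype.ofFinite G
  have : Fintype H := Fintype.ofFinite H
  have hMp : M.IsPrime := isPrime_of_isPModular hM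
  obtain ⟨χ₀, rfl⟩ := hB
  obtain ⟨ξ₀, rfl⟩ := hb
  have hχ₀ := self_mem_blockOf hMp χ₀
  have hξ₀ := self_mem_blockOf hMp ξ₀
  obtain ⟨g₀, hg₀⟩ := exists_isDefectClass hM χ₀
  have h1 : ¬ MemLocalIdeal M (inducedCentralChar H (ξ₀ : H → ℂ) g₀) := by
    intro h
    have h2 := hind.2.2 ξ₀ hξ₀ χ₀ hχ₀ g₀
    have h3 := memLocalIdeal_sub hMp h h2
    rw [sub_sub_cancel] at h3
    exact hg₀.2.2 χ₀ hχ₀ h3
  rw [Cfsg.Agent.S0933.icc_eq_omega,
    omega_eq_sum_conjClasses (isClassFunction_of_isCharacter ξ₀.2)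
      (indicator_isClassFunction H g₀)] at h1
  obtain ⟨c, hc1, hc2⟩ : ∃ c : ConjClasses H, IsConj g₀ ((Quotient.out c : H) : G) ∧
      ¬ MemLocalIdeal M (centralChar (ξ₀ : H → ℂ) (Quotient.out c)) := by
    by_contra hcon
    push Not at hcon
    apply h1
    refine memLocalIdeal_sum hMp _ _ fun c _ => ?_
    by_cases hc : IsConj g₀ ((Quotient.out c : H) : G)
    · rw [if_pos hc, one_mul]; exact hcon c hc
    · rw [if_neg hc, zero_mul]; exact memLocalIdeal_zero hMp
  set l : H := Quotient.out c with hl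
  obtain ⟨y, hy, P, rfl⟩ := hD
  obtain Q : Sylow p (Subgroup.centralizer ({l} : Set H)) := default
  have hdef := defLE_of_blockCoeff hM ξ₀ l hc2 Q y hy.2.1
  obtain ⟨x, hx⟩ := hdef ((P : Subgroup (Subgroup.centralizer ({y} : Set H))).map
      (Subgroup.centralizer ({y} : Set H)).subtype) (P.isPGroup'.map _)
      (Subgroup.map_subtype_le _)
  -- the image of Q in G is a p-subgroup of the centralizer of l in G
  set QG : Subgroup G := ((Q : Subgroup (Subgroup.centralizer ({l} : Set H))).map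
      (Subgroup.centralizer ({l} : Set H)).subtype).map H.subtype with hQG
  have hQGp : IsPGroup p QG := (Q.isPGroup'.map _).map _
  have hQGc : QG ≤ Subgroup.centralizer ({(l : G)} : Set G) := by
    rintro _ ⟨w, ⟨v, hv, rfl⟩, rfl⟩
    rw [Subgroup.mem_centralizer_singleton_iff]
    have := v.2
    rw [Subgroup.mem_centralizer_singleton_iff] at this
    have h2 := congrArg (Subtype.val : H → G) this
    simpa using h2
  obtain ⟨R, hR⟩ := (hQGp.comap_subtype
    (K := Subgroup.centralizer ({(l : G)} : Set G))).exists_le_sylow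
  have hlG : IsDefectClass M (blockOf M (χ₀ : G → ℂ)) (l : G) := by
    obtain ⟨k, hk⟩ := isConj_iff.mp hc1
    rw [← hk]
    exact isDefectClass_conj hg₀ k
  set E' : Subgroup G := (R : Subgroup (Subgroup.centralizer ({(l : G)} : Set G))).map
      (Subgroup.centralizer ({(l : G)} : Set G)).subtype with hE'
  have hE'd : IsDefectGroup p M (blockOf M (χ₀ : G → ℂ)) E' := ⟨(l : G), hlG, R, rfl⟩
  have hQE : QG ≤ E' := by
    intro z hz
    refine ⟨⟨z, hQGc hz⟩, hR ?_, rfl⟩
    rw [Subgroup.mem_comap]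
    exact hz
  refine ⟨MulAut.conj (x : G)⁻¹ • E', isDefectGroup_conj hE'd _, ?_⟩
  rintro _ ⟨w, hw, rfl⟩
  rw [Subgroup.mem_pointwise_smul_iff_inv_smul_mem]
  apply hQE
  have h3 : MulAut.conj x • w ∈ MulAut.conj x •
      ((P : Subgroup (Subgroup.centralizer ({y} : Set H))).map
      (Subgroup.centralizer ({y} : Set H)).subtype) :=
    Subgroup.smul_mem_pointwise_smul _ _ _ hw
  have h4 := hx h3
  refine ⟨MulAut.conj x • w, h4, ?_⟩
  simp [MulAut.smul_def]

end Cfsg.Agent.S0917
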