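import Cfsg.Statements.S0908
import Cfsg.Agent.Lib.Helper16.AvgTrace
import Cfsg.Agent.Lib.Helper16.WBO
import Cfsg.Agent.Lib.Helper16.Degree
import Cfsg.Agent.Lib.Helper77.DefectGroup
import Cfsg.Agent.Lib.Helper80.IrrApi
import Cfsg.Agent.Lib.Helper3.CharBasic

set_option autoImplicit false
open Cfsg

namespace Cfsg.Agent.S0908

open Cfsg.Agent.Lib.Helper16 Cfsg.Agent.Lib.Helper77 Cfsg.Agent.Lib.Helper80 Cfsg.Agent.Lib.Helper81

/-- Let B be a block of the finite group G relative to a maximal ideal M of the algebraic integers containing the prime p, and let D be a defect group of B. Then the order of D is p ^ d, where d is the exponent of p in the order of G minus the least exponent of p in the degrees of the members of B. -/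
theorem result {G : Type*} [Group G] [Finite G] (p : ℕ) [Fact p.Prime] (M : Ideal Cfsg.AlgInt) (hM : Cfsg.IsPModular p M) (B : Set (Cfsg.IrrCharacter G)) (hB : Cfsg.IsPBlock M B) (D : Subgroup G) (hD : Cfsg.IsDefectGroup p M B D) : Nat.card D = p ^ Cfsg.blockDefect p B := by
  classical
  have := Fintype.ofFinite G
  have := Fintype.ofFinite (Cfsg.IrrCharacter G)
  have hMp : M.IsPrime := isPrime_of_isPModular hM
  have hp : p.Prime := Fact.out
  obtain ⟨χ₀, rfl⟩ := hB
  obtain ⟨y, hy, hDle, hDcard⟩ := isDefectGroup_iff.mp hD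
  set B := Cfsg.blockOf M (χ₀ : G → ℂ) with hBdef
  set C := Subgroup.centralizer ({y} : Set G) with hC
  set a := (Nat.card G).factorization p with ha
  set δ := (Nat.card C).factorization p with hδ
  set img := (fun χ : Cfsg.IrrCharacter G =>
    (Cfsg.charDegree (χ : G → ℂ)).factorization p) '' B with himg
  set h := sInf img with hh
  rw [hDcard]
  congr 1
  show δ = a - h
  have hne : img.Nonempty := ⟨_, χ₀, self_mem_blockOf hMp χ₀, rfl⟩
  obtain ⟨χ, hχB, hχh⟩ := Nat.sInf_mem hne
  have hle : ∀ ψ ∈ B, h ≤ (Cfsg.charDegree (ψ : G → ℂ)).factorization p :=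
    fun ψ hψ => Nat.sInf_le ⟨ψ, hψ, rfl⟩
  have hGC : Nat.card G = Nat.card C * C.index := (Subgroup.card_mul_index C).symm
  have hC0 : Nat.card C ≠ 0 := Nat.card_pos.ne'
  have hi0 : C.index ≠ 0 := Subgroup.index_ne_zero_of_finite
  have haδ : a = δ + (C.index).factorization p := by
    rw [ha, hGC, Nat.factorization_mul hC0 hi0]
    rfl
  -- Part 1
  have h1 : (C.index).factorization p ≤ h := by
    by_contra hlt
    push Not at hlt
    apply hy.2.2 χ hχB
    obtain ⟨i', hi'⟩ : p ^ (h + 1) ∣ C.index :=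
      (Nat.Prime.pow_dvd_iff_le_factorization hp hi0).mpr hlt
    obtain ⟨d, hd0, hd1, hd2, hd3⟩ := irr_degree_spec χ
    have hdh : d.factorization p = h := by
      rw [← hd2]; exact hχh
    have hdc : d = p ^ h * (d / p ^ h) := by
      rw [← hdh]
      exact (Nat.mul_div_cancel' (Nat.ordProj_dvd d p)).symm
    have hc : ¬ p ∣ d / p ^ h := by
      rw [← hdh]
      exact Nat.not_dvd_ordCompl hp hd0.ne'
    set c := d / p ^ h with hcdef
    have hc0 : (c : ℂ) ≠ 0 := by
      intro h0
      apply hc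
      have : c = 0 := by exact_mod_cast h0
      rw [this]
      exact dvd_zero _
    have hp0 : (p : ℂ) ≠ 0 := Nat.cast_ne_zero.mpr hp.ne_zero
    have hval : Cfsg.centralChar (χ : G → ℂ) y =
        (p : ℂ) * ((i' : ℂ) * (χ : G → ℂ) y * (c : ℂ)⁻¹) := by
      unfold Cfsg.centralChar
      rw [hd1, hdc, ← hC, hi']
      push_cast
      field_simp
      ring
    rw [hval]
    refine memLocalIdeal_mul_right hMp ((memLocalIdeal_natCast_iff hM p).mpr dvd_rfl) ?_
    refine memLocalRing_mul hMp (memLocalRing_mul hMp (memLocalRing_natCast hMp _) ?_)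
      (memLocalRing_inv_natCast hM hc)
    exact memLocalRing_algInt hMp ⟨_, irr_isIntegral χ y⟩
  -- Part 2
  have h2 : δ + h ≤ a := by
    by_contra hlt
    push Not at hlt
    apply hy.2.1
    have : Fintype D := Fintype.ofFinite D
    have hyreg : ¬ p ∣ orderOf y := by
      intro hdiv
      apply hy.2.1
      rw [blockCoeff_eq_zero_of_singular hM χ₀ hdiv]
      exact memLocalIdeal_zero hMp
    have hcommD : ∀ u ∈ D, u * y = y * u := by
      intro u hu
      have := hDle hu
      rw [Subgroup.mem_centralizer_iff] at this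
      exact (this y rfl).symm
    have hDp : IsPGroup p D := IsPGroup.of_card hDcard
    have hsumD : ∑ u : D, Cfsg.blockCoeff B ((u : G) * y) = Cfsg.blockCoeff B y := by
      rw [Finset.sum_eq_single (1 : D)]
      · simp
      · intro u _ hu
        apply blockCoeff_eq_zero_of_singular hM χ₀
        obtain ⟨k, hk⟩ := hDp u
        have hk' : orderOf (u : G) ∣ p ^ k := by
          apply orderOf_dvd_of_pow_eq_one
          have := congrArg (Subtype.val) hk
          simpa using this
        obtain ⟨j, hj, hju⟩ := (Nat.dvd_prime_pow hp).mp hk'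
        have hj0 : j ≠ 0 := by
          intro h0
          rw [h0, pow_zero, orderOf_eq_one_iff] at hju
          exact hu (Subtype.ext hju)
        have hcop : (orderOf (u : G)).Coprime (orderOf y) := by
          rw [hju]
          exact Nat.Coprime.pow_left j ((Nat.Prime.coprime_iff_not_dvd hp).mpr hyreg)
        have hcm : Commute (u : G) y := hcommD u u.2
        rw [hcm.orderOf_mul_eq_mul_orderOf_of_coprime hcop, hju]
        exact dvd_mul_of_dvd_left (dvd_pow_self p hj0) _
      · intro h0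
        exact absurd (Finset.mem_univ _) h0
    rw [← hsumD]
    simp only [blockCoeff_eq_sum]
    rw [← Finset.mul_sum, Finset.sum_comm, Finset.mul_sum]
    refine memLocalIdeal_sum hMp _ _ fun ψ hψ => ?_
    have hψB : ψ ∈ B := (Finset.mem_filter.mp hψ).2
    -- the averaged trace
    set T : ℂ := (Nat.card D : ℂ)⁻¹ * ∑ u : D, (ψ : G → ℂ) ((u : G) * y) with hT
    have hTint : IsIntegral ℤ T :=
      isIntegral_avg_char (Cfsg.Agent.Lib.Helper3.IsIrrCharacter.isCharacter ψ.2) D y hcommD
        (isOfFinOrder_of_finite y)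
    have hTc : IsIntegral ℤ ((starRingEnd ℂ) T) := map_isIntegral_int (starRingEnd ℂ) hTint
    have hD0 : (Nat.card D : ℂ) ≠ 0 := Nat.cast_ne_zero.mpr Nat.card_pos.ne'
    have hsum : ∑ u : D, (ψ : G → ℂ) 1 * (starRingEnd ℂ) ((ψ : G → ℂ) ((u : G) * y)) =
        (ψ : G → ℂ) 1 * ((Nat.card D : ℂ) * (starRingEnd ℂ) T) := by
      rw [← Finset.mul_sum, hT, map_mul, map_sum, map_inv₀, map_natCast]
      congr 1
      field_simp
    rw [hsum]
    obtain ⟨d, hd0, hd1, hd2, hd3⟩ := irr_degree_spec ψ
    have hdh : h ≤ d.factorization p := by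
      rw [← hd2]; exact hle ψ hψB
    obtain ⟨c, hc⟩ : p ^ h ∣ d := (Nat.Prime.pow_dvd_iff_le_factorization hp hd0.ne').mpr hdh
    -- |G| = p^a * m
    set m := Nat.card G / p ^ a with hm
    have hGm : Nat.card G = p ^ a * m := (Nat.mul_div_cancel' (Nat.ordProj_dvd _ p)).symm
    have hmp : ¬ p ∣ m := Nat.not_dvd_ordCompl hp Nat.card_pos.ne'
    have hm0 : (m : ℂ) ≠ 0 := by
      intro h0
      apply hmp
      have : m = 0 := by exact_mod_cast h0
      rw [this]
      exact dvd_zero _
    have hp0 : (p : ℂ) ≠ 0 := Nat.cast_ne_zero.mpr hp.ne_zero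
    obtain ⟨e, he⟩ : ∃ e, δ + h = a + (e + 1) := ⟨δ + h - a - 1, by omega⟩
    have hval : (Nat.card G : ℂ)⁻¹ * ((ψ : G → ℂ) 1 * ((Nat.card D : ℂ) * (starRingEnd ℂ) T)) =
        (p : ℂ) * (((p ^ e * c : ℕ) : ℂ) * (m : ℂ)⁻¹ * (starRingEnd ℂ) T) := by
      have e1 : (d : ℂ) * (Nat.card D : ℂ) = (Nat.card G : ℂ) * ((p : ℂ) * ((p ^ e * c : ℕ) : ℂ))
          * (m : ℂ)⁻¹ := by
        rw [hDcard, hGm, hc]
        push_cast
        have : (p : ℂ) ^ h * (p : ℂ) ^ δ = (p : ℂ) ^ a * ((p : ℂ) * (p : ℂ) ^ e) := by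
          rw [← pow_add, ← pow_succ', ← pow_add, add_comm h δ, he]
        field_simp
        linear_combination (c : ℂ) * this
      rw [hd1]
      have hG0 : (Nat.card G : ℂ) ≠ 0 := Nat.cast_ne_zero.mpr Nat.card_pos.ne'
      calc (Nat.card G : ℂ)⁻¹ * ((d : ℂ) * ((Nat.card D : ℂ) * (starRingEnd ℂ) T))
          = (Nat.card G : ℂ)⁻¹ * ((d : ℂ) * (Nat.card D : ℂ)) * (starRingEnd ℂ) T := by ring
        _ = _ := by
          rw [e1]
          field_simp
    rw [hval]
    refine memLocalIdeal_mul_right hMp ((memLocalIdeal_natCast_iff hM p).mpr dvd_rfl) ?_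
    refine memLocalRing_mul hMp (memLocalRing_mul hMp (memLocalRing_natCast hMp _)
      (memLocalRing_inv_natCast hM hmp)) ?_
    exact memLocalRing_algInt hMp ⟨_, hTc⟩
  omega

end Cfsg.Agent.S0908
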