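import Cfsg.Statements.S0958
import Cfsg.Agent.Lib.Helper77.InducedBlock2
import Cfsg.Agent.Lib.Helper84.PCore
import Cfsg.Agent.S0917
import Cfsg.Agent.S0912

set_option autoImplicit false
open Cfsg

namespace Cfsg.Agent.S0958

/-- Let P be a p-subgroup of the finite group G and H a subgroup with P ⊔ C_G(P) ≤ H ≤ N_G(P); fix a maximal ideal M of the algebraic integers containing p. Then a block B of G is induced by some block of H if and only if some conjugate of P is contained in a defect group of B. -/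
theorem result {G : Type*} [Group G] [Finite G] (p : ℕ) [Fact p.Prime] (M : Ideal Cfsg.AlgInt) (hM : Cfsg.IsPModular p M) (P H : Subgroup G) (hP : IsPGroup p P) (hPH : P ⊔ Subgroup.centralizer (P : Set G) ≤ H) (hHN : H ≤ Subgroup.normalizer (P : Set G)) (B : Set (Cfsg.IrrCharacter G)) (hB : Cfsg.IsPBlock M B) : (∃ b : Set (Cfsg.IrrCharacter H), Cfsg.IsInducedBlock M H b B) ↔ ∃ D : Subgroup G, Cfsg.IsDefectGroup p M B D ∧ ∃ x : G, P.map (MulAut.conj x).toMonoidHom ≤ D := by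
  classical
  have := Fintype.ofFinite G
  have := Fintype.ofFinite H
  have hMp : M.IsPrime := Cfsg.Agent.Lib.Helper81.isPrime_of_isPModular hM
  have hPle : P ≤ H := le_sup_left.trans hPH
  have hCle : Subgroup.centralizer (P : Set G) ≤ H := le_sup_right.trans hPH
  constructor
  · rintro ⟨b, hind⟩
    obtain ⟨ξ₀, rfl⟩ := hind.1
    obtain ⟨Db, hDb⟩ := Cfsg.Agent.Lib.Helper77.exists_isDefectGroup hM ξ₀
    have h1 : Cfsg.pCore p H ≤ Db := Cfsg.Agent.S0912.result p M hM _ hind.1 Db hDb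
    have h2 : P.subgroupOf H ≤ Cfsg.pCore p H :=
      Cfsg.Agent.Lib.Helper84.le_pCore (Subgroup.normal_subgroupOf_of_le_normalizer hHN)
        hP.comap_subtype
    obtain ⟨E, hE, hDE⟩ := Cfsg.Agent.S0917.result p M hM H _ hind.1 B hB hind Db hDb
    refine ⟨E, hE, 1, ?_⟩
    rintro y ⟨y', hy', rfl⟩
    apply hDE
    refine ⟨⟨y', hPle hy'⟩, h1 (h2 (show (⟨y', hPle hy'⟩ : H) ∈ P.subgroupOf H from hy')), ?_⟩
    simp
  · rintro ⟨D, hD, x, hx⟩
    obtain ⟨χ₀, rfl⟩ := hB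
    obtain ⟨g, hg, Q, rfl⟩ := hD
    have hg' := Cfsg.Agent.Lib.Helper77.isDefectClass_conj hg x⁻¹
    have hgP : x⁻¹ * g * x⁻¹⁻¹ ∈ Subgroup.centralizer (P : Set G) := by
      rw [Subgroup.mem_centralizer_iff]
      intro y hy
      have h1 : x * y * x⁻¹ ∈ P.map (MulAut.conj x).toMonoidHom := ⟨y, hy, rfl⟩
      obtain ⟨z, -, hz⟩ := hx h1
      have h2 : x * y * x⁻¹ ∈ Subgroup.centralizer ({g} : Set G) := by
        rw [← hz]; exact z.2
      rw [Subgroup.mem_centralizer_singleton_iff] at h2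
      calc y * (x⁻¹ * g * x⁻¹⁻¹) = x⁻¹ * ((x * y * x⁻¹) * g) * x := by group
        _ = x⁻¹ * (g * (x * y * x⁻¹)) * x := by rw [h2]
        _ = x⁻¹ * g * x⁻¹⁻¹ * y := by group
    obtain ⟨ξ, hξ⟩ := Cfsg.Agent.Lib.Helper77.exists_isInducedBlock_of_blockCoeff hM P H hP
      hPle hCle hHN χ₀ hgP hg'.2.1
    exact ⟨_, hξ⟩

end Cfsg.Agent.S0958
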