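import Cfsg.Statements.S0922
import Cfsg.Agent.Lib.Helper77.SecondMainCore
import Cfsg.Agent.Lib.Helper77.InducedOmega

set_option autoImplicit false
open Cfsg

namespace Cfsg.Agent.S0922

open Cfsg.Agent.Lib.Helper77 Cfsg.Agent.Lib.Helper77.IdemTrace Cfsg.Agent.Lib.Helper81
  Cfsg.Agent.Lib.Helper80 in
open Classical in
/-- Finset form of the second main theorem in idempotent form, with `h * k` inside. -/
theorem second_main_finset {G : Type*} [Group G] [Fintype G] [Fintype (Cfsg.IrrCharacter G)]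
    (p : ℕ) [Fact p.Prime] (M : Ideal Cfsg.AlgInt) (hM : Cfsg.IsPModular p M) (H : Subgroup G)
    [Fintype H] (b : Set (Cfsg.IrrCharacter H)) (B : Set (Cfsg.IrrCharacter G))
    (hind : Cfsg.IsInducedBlock M H b B) (h : H)
    (hC : ∀ z : G, Cfsg.IsPPart p (h : G) z → Subgroup.centralizer ({z} : Set G) ≤ H)
    (χ : Cfsg.IrrCharacter G) (hχ : χ ∉ B) :
    ∑ k : H, Cfsg.blockCoeff b k * (χ : G → ℂ) ((h : G) * (k : G)) = 0 := by
  have hMp : M.IsPrime := isPrime_of_isPModular hM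
  have hp : p.Prime := Fact.out
  obtain ⟨⟨ξ₀, rfl⟩, ⟨χ₁, rfl⟩, hcong⟩ := hind
  have hind : Cfsg.IsInducedBlock M H (Cfsg.blockOf M (ξ₀ : H → ℂ))
      (Cfsg.blockOf M (χ₁ : G → ℂ)) := ⟨⟨ξ₀, rfl⟩, ⟨χ₁, rfl⟩, hcong⟩
  have hχ₁ : χ₁ ∈ Cfsg.blockOf M (χ₁ : G → ℂ) := sameBlock_refl hMp _
  have hχ₁' : χ₁ ∉ Cfsg.blockOf M (χ : G → ℂ) := by
    intro hmem
    apply hχ
    exact sameBlock_symm hmem
  obtain ⟨K, r, N, hcard, hpr, hrN, hN1⟩ := exists_ppart_exponent G p hp
  have hω : ∀ ξ ∈ Cfsg.blockOf M (ξ₀ : H → ℂ), Cfsg.MemLocalIdeal M (omega (ξ : H → ℂ)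
      (fun k : H => Cfsg.blockCoeff (Cfsg.blockOf M (χ : G → ℂ)) (k : G))) := by
    intro ξ hξ
    have h1 := memLocalIdeal_omega_restrict_sub hMp H hind hξ hχ₁ (ZS.blockCoeff hM χ)
    rw [omega_blockCoeff, if_neg hχ₁', sub_zero] at h1
    exact h1
  -- the sums vanish for every `g`
  have hT : ∀ g : G, ∑ k : H, Cfsg.blockCoeff (Cfsg.blockOf M (ξ₀ : H → ℂ)) k *
      ∑ χ' ∈ Finset.univ.filter (fun χ' : Cfsg.IrrCharacter G =>
        χ' ∈ Cfsg.blockOf M (χ : G → ℂ)),
        (χ' : G → ℂ) (((h : G)⁻¹)⁻¹ * (k : G)) * (starRingEnd ℂ) ((χ' : G → ℂ) g) = 0 := by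
    intro g
    have hh' : (h : G)⁻¹ ∈ H := H.inv_mem h.2
    by_cases hex : ∃ a₀ : G, ((h : G)⁻¹) ^ N * a₀ * g ^ N = a₀
    · obtain ⟨a₀, ha₀⟩ := hex
      have hg₁ : (a₀ * g * a₀⁻¹) ^ N = (((h : G)⁻¹) ^ N)⁻¹ := by
        rw [conj_pow]
        have e1 : a₀ * g ^ N * a₀⁻¹ =
            (((h : G)⁻¹) ^ N)⁻¹ * (((h : G)⁻¹) ^ N * a₀ * g ^ N) * a₀⁻¹ := by group
        rw [e1, ha₀]
        group
      have key := second_main_core hM H ξ₀ χ hω hh' (a₀ * g * a₀⁻¹) hcard hrN (by
        intro a ha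
        rw [hg₁] at ha
        apply hC (h ^ N) (isPPart_pow hp hcard hpr hrN hN1 (h : G))
        rw [Subgroup.mem_centralizer_singleton_iff]
        have e2 : a * (h : G) ^ N =
            (h : G) ^ N * (((h : G)⁻¹) ^ N * a * (((h : G)⁻¹) ^ N)⁻¹) := by
          rw [inv_pow]; group
        rw [e2, ha])
      rw [← key]
      refine Finset.sum_congr rfl fun k _ => ?_
      congr 1
      refine Finset.sum_congr rfl fun χ' _ => ?_
      rw [isClassFunction_of_isCharacter χ'.2 g a₀]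
    · push Not at hex
      exact second_main_core hM H ξ₀ χ hω hh' g hcard hrN (fun a ha => absurd ha (hex a))
  -- linear independence
  have hlin := Cfsg.Agent.Lib.Helper3.irrCharacter_linearIndependent (G := G)
  rw [Fintype.linearIndependent_iff] at hlin
  set c : Cfsg.IrrCharacter G → ℂ := fun χ' =>
    if χ' ∈ Cfsg.blockOf M (χ : G → ℂ) then
      ∑ k : H, Cfsg.blockCoeff (Cfsg.blockOf M (ξ₀ : H → ℂ)) k *
        (χ' : G → ℂ) ((h : G) * (k : G)) else 0 with hc
  have hsum : ∑ χ' : Cfsg.IrrCharacter G, (starRingEnd ℂ) (c χ') • (χ' : G → ℂ) = 0 := by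
    funext g
    rw [Finset.sum_apply, Pi.zero_apply]
    have h1 := hT g
    have h1' : ∑ χ' : Cfsg.IrrCharacter G, c χ' * (starRingEnd ℂ) ((χ' : G → ℂ) g) = 0 := by
      rw [← h1]
      have e1 : ∀ χ' : Cfsg.IrrCharacter G, c χ' * (starRingEnd ℂ) ((χ' : G → ℂ) g) =
          if χ' ∈ Cfsg.blockOf M (χ : G → ℂ) then
            ∑ k : H, Cfsg.blockCoeff (Cfsg.blockOf M (ξ₀ : H → ℂ)) k *
              ((χ' : G → ℂ) (((h : G)⁻¹)⁻¹ * (k : G)) * (starRingEnd ℂ) ((χ' : G → ℂ) g))
          else 0 := by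
        intro χ'
        rw [hc]
        by_cases hmem : χ' ∈ Cfsg.blockOf M (χ : G → ℂ)
        · simp only [if_pos hmem, inv_inv]
          rw [Finset.sum_mul]
          refine Finset.sum_congr rfl fun k _ => ?_
          ring
        · simp only [if_neg hmem, zero_mul]
      rw [Finset.sum_congr rfl fun χ' _ => e1 χ', ← Finset.sum_filter, Finset.sum_comm]
      refine Finset.sum_congr rfl fun k _ => ?_
      rw [Finset.mul_sum]
    have h2 := congrArg (starRingEnd ℂ) h1'
    rw [map_sum, map_zero] at h2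
    rw [← h2]
    refine Finset.sum_congr rfl fun χ' _ => ?_
    rw [Pi.smul_apply, smul_eq_mul, map_mul, Complex.conj_conj]
  have h3 := hlin _ hsum χ
  have hχself : χ ∈ Cfsg.blockOf M (χ : G → ℂ) := sameBlock_refl hMp _
  rw [hc] at h3
  simp only [if_pos hχself] at h3
  have h4 := congrArg (starRingEnd ℂ) h3
  rw [Complex.conj_conj, map_zero] at h4
  exact h4

/-- Let H be a subgroup of the finite group G and let the block b of H induce the block B of G (relative to a maximal ideal M of the algebraic integers containing the prime p). Let h ∈ H be such that the centralizer in G of the p-part of h lies in H, and let χ be an irreducible character of G not in B. Then the sum over k ∈ H of (the idempotent coefficient of b at k) times χ (k * h) vanishes; that is, χ annihilates f_b h where f_b is the sum of the central idempotents of the members of b. -/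
theorem result {G : Type*} [Group G] [Finite G] (p : ℕ) [Fact p.Prime] (M : Ideal Cfsg.AlgInt) (hM : Cfsg.IsPModular p M) (H : Subgroup G) (b : Set (Cfsg.IrrCharacter H)) (B : Set (Cfsg.IrrCharacter G)) (hind : Cfsg.IsInducedBlock M H b B) (h : H) (hC : ∀ z : G, Cfsg.IsPPart p (h : G) z → Subgroup.centralizer ({z} : Set G) ≤ H) (χ : Cfsg.IrrCharacter G) (hχ : χ ∉ B) : ∑ᶠ k : H, Cfsg.blockCoeff b k * (χ : G → ℂ) ((k : G) * (h : G)) = 0 := by
  classical
  have := Fintype.ofFinite G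
  have := Fintype.ofFinite (Cfsg.IrrCharacter G)
  have := Fintype.ofFinite H
  rw [finsum_eq_sum_of_fintype]
  rw [← second_main_finset p M hM H b B hind h hC χ hχ]
  refine Finset.sum_congr rfl fun k _ => ?_
  congr 1
  have := Cfsg.Agent.Lib.Helper77.isClassFunction_of_isCharacter χ.2 ((k : G) * (h : G)) (h : G)
  rw [← this]
  simp [mul_assoc]

end Cfsg.Agent.S0922
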