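import Cfsg.Statements.S0923
import Cfsg.Agent.S0922
import Cfsg.Agent.Lib.Helper77.BlockPartCoeff
import Cfsg.Agent.Lib.Helper77.Deficiency

set_option autoImplicit false
open Cfsg

namespace Cfsg.Agent.S0923

/-- Brauer's Second Main Theorem, in terms of ordinary characters. Let x be a p-element of the finite group G with centralizer C, let χ lie in the block B of G and let b be a block of C that does not induce B (relative to a maximal ideal M of the algebraic integers containing p). Form the class function ϑ(c) = χ(x c) on C and its b-part (the sum over ψ ∈ b of the inner product of ϑ with ψ, times ψ). Then the b-part of ϑ vanishes at every p-regular element of C. (Equivalently, the generalized decomposition numbers of χ with respect to b are zero.) -/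
theorem result {G : Type*} [Group G] [Finite G] (p : ℕ) [Fact p.Prime] (M : Ideal Cfsg.AlgInt) (hM : Cfsg.IsPModular p M) (x : G) (hx : ∃ k : ℕ, orderOf x = p ^ k) (B : Set (Cfsg.IrrCharacter G)) (hB : Cfsg.IsPBlock M B) (χ : Cfsg.IrrCharacter G) (hχ : χ ∈ B) (b : Set (Cfsg.IrrCharacter (Subgroup.centralizer ({x} : Set G)))) (hb : Cfsg.IsPBlock M b) (hnot : ¬ Cfsg.IsInducedBlock M (Subgroup.centralizer ({x} : Set G)) b B) (y : Subgroup.centralizer ({x} : Set G)) (hy : ¬ p ∣ orderOf y) : Cfsg.blockPart b (fun c : Subgroup.centralizer ({x} : Set G) => (χ : G → ℂ) (x * (c : G))) y = 0 := by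
  classical
  have := Fintype.ofFinite G
  have := Fintype.ofFinite (Cfsg.IrrCharacter G)
  have := Fintype.ofFinite (Subgroup.centralizer ({x} : Set G))
  have := Fintype.ofFinite (Cfsg.IrrCharacter (Subgroup.centralizer ({x} : Set G)))
  have hMp : M.IsPrime := Cfsg.Agent.Lib.Helper81.isPrime_of_isPModular hM
  have hp : p.Prime := Fact.out
  obtain ⟨ξ₀, rfl⟩ := hb
  obtain ⟨χ₀, hind⟩ := Cfsg.Agent.Lib.Helper77.exists_isInducedBlock_centralizer hM hx ξ₀
  have hχ' : χ ∉ Cfsg.blockOf M (χ₀ : G → ℂ) := by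
    intro hmem
    apply hnot
    obtain ⟨χ₁, rfl⟩ := hB
    have h1 : Cfsg.blockOf M (χ₀ : G → ℂ) = Cfsg.blockOf M (χ₁ : G → ℂ) := by
      rw [← Cfsg.Agent.Lib.Helper77.blockOf_eq_of_mem hMp hmem,
        Cfsg.Agent.Lib.Helper77.blockOf_eq_of_mem hMp hχ]
    rw [← h1]
    exact hind
  have hcomm : ∀ t : Subgroup.centralizer ({x} : Set G), (t : G) * x = x * (t : G) := fun t =>
    Subgroup.mem_centralizer_singleton_iff.mp t.2
  have hχcl := Cfsg.Agent.Lib.Helper77.isClassFunction_of_isCharacter χ.2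
  have hϑ : Cfsg.IsClassFunction (Subgroup.centralizer ({x} : Set G))
      (fun c : Subgroup.centralizer ({x} : Set G) => (χ : G → ℂ) (x * (c : G))) := by
    intro c t
    show (χ : G → ℂ) (x * ((t * c * t⁻¹ : Subgroup.centralizer ({x} : Set G)) : G)) =
      (χ : G → ℂ) (x * (c : G))
    push_cast
    have e1 : x * ((t : G) * (c : G) * (t : G)⁻¹) = (t : G) * (x * (c : G)) * (t : G)⁻¹ := by
      rw [← mul_assoc, ← mul_assoc, ← hcomm t]
      group
    rw [e1, hχcl]
  rw [Cfsg.Agent.Lib.Helper77.blockPart_eq_sum_blockCoeff _ hϑ]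
  have hxC : x ∈ Subgroup.centralizer ({x} : Set G) :=
    Subgroup.mem_centralizer_singleton_iff.mpr rfl
  obtain ⟨K, r, N, hcard, hpr, hrN, hN1⟩ := Cfsg.Agent.Lib.Helper77.exists_ppart_exponent G p hp
  have hxy : Cfsg.IsPPart p (((⟨x, hxC⟩ * y : Subgroup.centralizer ({x} : Set G)) : G)) x := by
    refine ⟨(y : G), rfl, (hcomm y).symm, hx, ?_⟩
    rw [Subgroup.orderOf_coe]
    exact hy
  have hC' : ∀ z : G, Cfsg.IsPPart p
      (((⟨x, hxC⟩ * y : Subgroup.centralizer ({x} : Set G)) : G)) z →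
      Subgroup.centralizer ({z} : Set G) ≤ Subgroup.centralizer ({x} : Set G) := by
    intro z hz
    have h1 := Cfsg.Agent.Lib.Helper77.pow_eq_of_isPPart hp hcard hpr hrN hN1 hz
    have h2 := Cfsg.Agent.Lib.Helper77.pow_eq_of_isPPart hp hcard hpr hrN hN1 hxy
    rw [← h1, h2]
  have key := Cfsg.Agent.S0922.second_main_finset p M hM (Subgroup.centralizer ({x} : Set G)) _ _
    hind (⟨x, hxC⟩ * y) hC' χ hχ'
  rw [← key]
  refine Finset.sum_congr rfl fun k _ => ?_
  congr 1
  show (χ : G → ℂ) (x * ((k * y : Subgroup.centralizer ({x} : Set G)) : G)) =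
    (χ : G → ℂ) (((⟨x, hxC⟩ * y : Subgroup.centralizer ({x} : Set G)) : G) * (k : G))
  push_cast
  have e2 : x * ((k : G) * (y : G)) = (k : G) * (x * (y : G) * (k : G)) * (k : G)⁻¹ := by
    rw [← mul_assoc, ← hcomm k]
    group
  rw [e2, hχcl]

end Cfsg.Agent.S0923
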