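import Cfsg.Statements.S4511
import Cfsg.Agent.Lib.Helper75.SectionCount

set_option autoImplicit false
open Cfsg

namespace Cfsg.Agent.S4511

/-- Brauer's count of the irreducible characters in a block by subsections. Let M be a maximal ideal of the algebraic integers containing the prime p, B a p-block of the finite group G, and X a set of representatives of the conjugacy classes of p-elements of G (elements of p-power order, the identity included: every p-element is conjugate to exactly one member of X). Then the number of irreducible characters in B is the sum, over x ∈ X and over the blocks b of C_G(x) that induce B, of the p-regular rank of b (the number of irreducible Brauer characters of b, here the dimension of the span of the restrictions of the members of b to the p-regular elements of C_G(x)). -/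
theorem result {G : Type*} [Group G] [Finite G] (p : ℕ) (M : Ideal Cfsg.AlgInt) (hM : Cfsg.IsPModular p M)
    (B : Set (Cfsg.IrrCharacter G)) (hB : Cfsg.IsPBlock M B) (X : Finset G)
    (hX : ∀ x ∈ X, ∃ k : ℕ, orderOf x = p ^ k)
    (hXrep : ∀ g : G, (∃ k : ℕ, orderOf g = p ^ k) → ∃! x, x ∈ X ∧ IsConj g x) :
    Nat.card B = ∑ x ∈ X, ∑ᶠ b ∈ {b : Set (Cfsg.IrrCharacter ↥(Subgroup.centralizer ({x} : Set G))) | Cfsg.IsInducedBlock M (Subgroup.centralizer ({x} : Set G)) b B},
      Cfsg.blockRank p b := by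
  classical
  have hp : p.Prime := hM.1
  have : Fact p.Prime := ⟨hp⟩
  have : Fintype G := Fintype.ofFinite G
  have : Fintype (Cfsg.IrrCharacter G) := Fintype.ofFinite _
  have hG : (Nat.card G : ℂ) ≠ 0 := Nat.cast_ne_zero.mpr Nat.card_pos.ne'
  set F : G → ℂ := fun g => ∑ χ ∈ Finset.univ.filter (fun χ : Cfsg.IrrCharacter G => χ ∈ B),
    (χ : G → ℂ) g * (starRingEnd ℂ) ((χ : G → ℂ) g) with hFdef
  have hF : Cfsg.IsClassFunction G F := by
    intro g h
    show ∑ χ ∈ Finset.univ.filter (fun χ : Cfsg.IrrCharacter G => χ ∈ B),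
      (χ : G → ℂ) (h * g * h⁻¹) * (starRingEnd ℂ) ((χ : G → ℂ) (h * g * h⁻¹)) =
      ∑ χ ∈ Finset.univ.filter (fun χ : Cfsg.IrrCharacter G => χ ∈ B),
      (χ : G → ℂ) g * (starRingEnd ℂ) ((χ : G → ℂ) g)
    refine Finset.sum_congr rfl fun χ _ => ?_
    rw [Cfsg.Agent.Lib.Helper3.IsCharacter.isClassFunction
      (Cfsg.Agent.Lib.Helper3.IsIrrCharacter.isCharacter χ.2) g h]
  -- (1)
  have h1 : ∑ g : G, F g = (Nat.card G : ℂ) * (Nat.card B : ℂ) := by
    rw [hFdef, Finset.sum_comm]
    have h1a : ∀ χ ∈ Finset.univ.filter (fun χ : Cfsg.IrrCharacter G => χ ∈ B),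
        ∑ g : G, (χ : G → ℂ) g * (starRingEnd ℂ) ((χ : G → ℂ) g) = (Nat.card G : ℂ) := by
      intro χ _
      have h2 := Cfsg.Agent.Lib.Helper3.classInner_irr χ.2 χ.2
      unfold Cfsg.classInner at h2
      rw [if_pos rfl] at h2
      rw [← mul_one (Nat.card G : ℂ), ← h2, ← mul_assoc, mul_inv_cancel₀ hG, one_mul]
    rw [Finset.sum_congr rfl h1a, Finset.sum_const, nsmul_eq_mul, mul_comm]
    congr 2
    rw [Nat.card_eq_fintype_card, Fintype.card_subtype]
  -- (2)
  have h2 := Cfsg.Agent.Lib.Helper75.sum_eq_sum_sections hp X hX hXrep F hF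
  -- (3)
  have h3 : ∀ x ∈ X, ((Subgroup.centralizer ({x} : Set G)).index : ℂ) *
      ∑ᶠ c : Subgroup.centralizer ({x} : Set G),
        Cfsg.pRegularPart p (fun c : Subgroup.centralizer ({x} : Set G) => F (x * (c : G))) c =
      (Nat.card G : ℂ) * ((∑ᶠ b ∈ {b : Set (Cfsg.IrrCharacter ↥(Subgroup.centralizer ({x} : Set G))) |
        Cfsg.IsInducedBlock M (Subgroup.centralizer ({x} : Set G)) b B}, Cfsg.blockRank p b : ℕ) : ℂ) := by
    intro x hx
    have : Fintype (Subgroup.centralizer ({x} : Set G)) := Fintype.ofFinite _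
    have : Fintype (Cfsg.IrrCharacter (Subgroup.centralizer ({x} : Set G))) := Fintype.ofFinite _
    rw [finsum_eq_sum_of_fintype]
    have h4 := Cfsg.Agent.Lib.Helper75.sum_pRegularPart_section hM (hX x hx) hB
    rw [hFdef]
    rw [h4, ← mul_assoc]
    congr 1
    have h5 := (Subgroup.centralizer ({x} : Set G)).card_mul_index
    rw [mul_comm]
    exact_mod_cast h5
  rw [Finset.sum_congr rfl h3, ← Finset.mul_sum] at h2
  rw [h1] at h2
  have h6 := mul_left_cancel₀ hG h2
  exact_mod_cast h6

end Cfsg.Agent.S4511
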