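import Cfsg.Statements.S0938
import Cfsg.Agent.Lib.Helper16.WBO
import Cfsg.Agent.Lib.Helper16.Degree
import Cfsg.Agent.Lib.Helper80.Kernel

set_option autoImplicit false
open Cfsg

namespace Cfsg.Agent.S0938

open Cfsg.Agent.Lib.Helper16 Cfsg.Agent.Lib.Helper77 Cfsg.Agent.Lib.Helper80 Cfsg.Agent.Lib.Helper81
open scoped ComplexConjugate

open Classical in
/-- The central character of `ψ` at the averaging idempotent of a normal subgroup `N`. -/
theorem omega_avg {G : Type*} [Group G] [Fintype G] (N : Subgroup G) [N.Normal]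
    (ψ : Cfsg.IrrCharacter G) :
    ((∀ n ∈ N, (ψ : G → ℂ) n = (ψ : G → ℂ) 1) →
      omega (ψ : G → ℂ) (fun g => if g ∈ N then (Nat.card N : ℂ)⁻¹ else 0) = 1) ∧
    ((∃ n ∈ N, (ψ : G → ℂ) n ≠ (ψ : G → ℂ) 1) →
      omega (ψ : G → ℂ) (fun g => if g ∈ N then (Nat.card N : ℂ)⁻¹ else 0) = 0) := by
  have hN : (Nat.card N : ℂ) ≠ 0 := Nat.cast_ne_zero.mpr Nat.card_pos.ne'
  have h1 := irr_one_ne_zero ψ
  have hsum : ∑ g : G, (if g ∈ N then (Nat.card N : ℂ)⁻¹ else 0) * (ψ : G → ℂ) g =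
      (Nat.card N : ℂ)⁻¹ * ∑ g : G, (if g ∈ N then (ψ : G → ℂ) (1 * g) else 0) := by
    rw [Finset.mul_sum]
    refine Finset.sum_congr rfl fun g _ => ?_
    split_ifs
    · rw [one_mul]
    · simp
  obtain ⟨hA, hB⟩ := irr_sum_normal ψ N 1
  constructor
  · intro h
    unfold omega
    rw [hsum, hA h]
    field_simp
  · intro h
    unfold omega
    rw [hsum, hB h, mul_zero, zero_div]

/-- Let B be a block of the finite group G relative to a maximal ideal M of the algebraic integers containing the prime p, and let χ ∈ B. Then the kernel of B (the set of g with ψ g = ψ 1 for all ψ ∈ B) is a normal subgroup of order prime to p contained in the kernel of χ, and it contains every normal subgroup of order prime to p on which χ takes the value χ(1); that is, it is O_p' of the kernel of χ. -/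
theorem result {G : Type*} [Group G] [Finite G] (p : ℕ) [Fact p.Prime] (M : Ideal Cfsg.AlgInt) (hM : Cfsg.IsPModular p M) (B : Set (Cfsg.IrrCharacter G)) (hB : Cfsg.IsPBlock M B) (χ : Cfsg.IrrCharacter G) (hχ : χ ∈ B) : ∃ K : Subgroup G, K.Normal ∧ (K : Set G) = Cfsg.blockKer B ∧ ¬ p ∣ Nat.card K ∧ (∀ g ∈ K, (χ : G → ℂ) g = (χ : G → ℂ) 1) ∧ ∀ N : Subgroup G, N.Normal → ¬ p ∣ Nat.card N → (∀ g ∈ N, (χ : G → ℂ) g = (χ : G → ℂ) 1) → N ≤ K := by
  classical
  have := Fintype.ofFinite G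
  have := Fintype.ofFinite (Cfsg.IrrCharacter G)
  have hMp : M.IsPrime := isPrime_of_isPModular hM
  have hp : p.Prime := Fact.out
  obtain ⟨χ₀, rfl⟩ := hB
  -- kernels of the members
  choose Kf hKn hKmem _ using fun ψ : Cfsg.IrrCharacter G => irr_exists_ker ψ
  set K : Subgroup G := ⨅ ψ ∈ Cfsg.blockOf M (χ₀ : G → ℂ), Kf ψ with hK
  have hKmem' : ∀ g : G, g ∈ K ↔ ∀ ψ ∈ Cfsg.blockOf M (χ₀ : G → ℂ),
      (ψ : G → ℂ) g = (ψ : G → ℂ) 1 := by
    intro g
    rw [hK]
    simp only [Subgroup.mem_iInf]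
    exact forall₂_congr fun ψ _ => hKmem ψ g
  have hKnormal : K.Normal := by
    refine ⟨fun n hn g => ?_⟩
    rw [hKmem'] at hn ⊢
    intro ψ hψ
    rw [isClassFunction_of_isCharacter ψ.2 n g]
    exact hn ψ hψ
  refine ⟨K, hKnormal, ?_, ?_, ?_, ?_⟩
  · ext g
    exact hKmem' g
  · -- no p-singular elements in K
    intro hdiv
    have : Fintype K := Fintype.ofFinite K
    rw [Nat.card_eq_fintype_card] at hdiv
    obtain ⟨g, hg⟩ := exists_prime_orderOf_dvd_card (G := K) p hdiv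
    have hgK : ∀ ψ ∈ Cfsg.blockOf M (χ₀ : G → ℂ), (ψ : G → ℂ) (g : G) = (ψ : G → ℂ) 1 :=
      (hKmem' (g : G)).mp g.2
    have hord : p ∣ orderOf (g : G) := by
      rw [Subgroup.orderOf_coe, hg]
    have h0 := blockCoeff_eq_zero_of_singular hM χ₀ hord
    rw [blockCoeff_eq_sum] at h0
    have hG : (Nat.card G : ℂ)⁻¹ ≠ 0 := inv_ne_zero (Nat.cast_ne_zero.mpr Nat.card_pos.ne')
    have h1 := (mul_eq_zero.mp h0).resolve_left hG
    -- the sum is a positive real
    have h2 : ∀ ψ ∈ Finset.univ.filter (fun ψ : Cfsg.IrrCharacter G =>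
        ψ ∈ Cfsg.blockOf M (χ₀ : G → ℂ)),
        (ψ : G → ℂ) 1 * conj ((ψ : G → ℂ) (g : G)) =
          ((Cfsg.charDegree (ψ : G → ℂ) ^ 2 : ℕ) : ℂ) := by
      intro ψ hψ
      rw [Finset.mem_filter] at hψ
      rw [hgK ψ hψ.2]
      obtain ⟨d, _, hd1, hd2, _⟩ := irr_degree_spec ψ
      rw [hd1, hd2]
      simp [sq]
    rw [Finset.sum_congr rfl h2, ← Nat.cast_sum, Nat.cast_eq_zero] at h1
    have h3 := (Finset.sum_eq_zero_iff.mp h1) χ₀ (by
      rw [Finset.mem_filter]
      exact ⟨Finset.mem_univ _, sameBlock_refl hMp _⟩)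
    have h4 := irr_charDegree_pos χ₀
    have : Cfsg.charDegree (χ₀ : G → ℂ) ^ 2 ≠ 0 := pow_ne_zero 2 h4.ne'
    exact this h3
  · intro g hg
    exact (hKmem' g).mp hg χ hχ
  · intro N hNn hNp hNχ
    have := hNn
    intro n hn
    rw [hKmem']
    intro ψ hψ
    by_contra hne
    -- the averaging idempotent of N
    set a : G → ℂ := fun g => if g ∈ N then (Nat.card N : ℂ)⁻¹ else 0 with ha
    have hacl : Cfsg.IsClassFunction G a := by
      intro g h
      have hiff : h * g * h⁻¹ ∈ N ↔ g ∈ N := by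
        constructor
        · intro hh
          have := hNn.conj_mem _ hh h⁻¹
          simpa [mul_assoc] using this
        · intro hh
          exact hNn.conj_mem _ hh h
      simp only [ha, hiff]
    have haS : ∀ g, Cfsg.MemLocalRing M (a g) := by
      intro g
      simp only [ha]
      split_ifs
      · exact memLocalRing_inv_natCast hM hNp
      · exact memLocalRing_zero hMp
    have hsame : Cfsg.SameBlock M (χ : G → ℂ) (ψ : G → ℂ) := by
      have h1 : Cfsg.SameBlock M (χ₀ : G → ℂ) (χ : G → ℂ) := hχ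
      have h2 : Cfsg.SameBlock M (χ₀ : G → ℂ) (ψ : G → ℂ) := hψ
      exact sameBlock_trans hMp (sameBlock_symm h1) h2
    have hsub := memLocalIdeal_omega_sub hMp (isClassFunction_of_isCharacter χ.2)
      (isClassFunction_of_isCharacter ψ.2) hsame hacl haS
    rw [(omega_avg N χ).1 hNχ, (omega_avg N ψ).2 ⟨n, hn, hne⟩, sub_zero] at hsub
    exact not_memLocalIdeal_one hMp hsub

end Cfsg.Agent.S0938
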