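import Cfsg.Statements.S0929
import Cfsg.Agent.Lib.Helper16.NormalDefect
import Cfsg.Agent.S0918
import Cfsg.Agent.S0920
import Cfsg.Agent.Lib.Helper77.DefectConj

set_option autoImplicit false
open Cfsg

namespace Cfsg.Agent.S0929

open Cfsg.Agent.Lib.Helper16 Cfsg.Agent.Lib.Helper77 Cfsg.Agent.Lib.Helper80 Cfsg.Agent.Lib.Helper81

/-- Let B be a block of the finite group G with defect group P (relative to a maximal ideal M of the algebraic integers containing p), and let g be an element at which the central character of some member of B is not in the local ideal at M. Then some conjugate x of g centralizes P and has its p-part in the centre of P. -/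
theorem result {G : Type*} [Group G] [Finite G] (p : ℕ) [Fact p.Prime] (M : Ideal Cfsg.AlgInt) (hM : Cfsg.IsPModular p M) (B : Set (Cfsg.IrrCharacter G)) (hB : Cfsg.IsPBlock M B) (P : Subgroup G) (hP : Cfsg.IsDefectGroup p M B P) (g : G) (hg : ∃ χ ∈ B, ¬ Cfsg.MemLocalIdeal M (Cfsg.centralChar (χ : G → ℂ) g)) : ∃ x : G, IsConj g x ∧ x ∈ Subgroup.centralizer (P : Set G) ∧ ∀ z : G, Cfsg.IsPPart p x z → z ∈ P ∧ ∀ w ∈ P, z * w = w * z := by
  classical
  have := Fintype.ofFinite G
  have hMp : M.IsPrime := isPrime_of_isPModular hM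
  have hp : p.Prime := Fact.out
  have hPp : IsPGroup p P := isPGroup_of_isDefectGroup hP
  obtain ⟨b, ⟨hb, hbD, hbind⟩, -⟩ := (Cfsg.Agent.S0920.result p M hM P hPp).2 B hB hP
  have hcong := (Cfsg.Agent.S0918.result p M hM P (Subgroup.normalizer (P : Set G)) hPp
    Subgroup.le_normalizer (Subgroup.centralizer_le_normalizer _) le_rfl b hb B hB).mp hbind
  have : (P.subgroupOf (Subgroup.normalizer (P : Set G))).Normal :=
    Subgroup.normal_in_normalizer
  obtain ⟨ξ, hξb, hξker, hξdeg⟩ := exists_ker_height_zero p M hM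
    (P.subgroupOf (Subgroup.normalizer (P : Set G))) b hb hbD
  obtain ⟨χ, hχB, hχg⟩ := hg
  have h1 := hcong ξ hξb χ hχB g
  have h2 : Cfsg.brauerCentralChar P (Subgroup.normalizer (P : Set G))
      (ξ : Subgroup.normalizer (P : Set G) → ℂ) g ≠ 0 := by
    intro h0
    apply hχg
    rw [h0, zero_sub] at h1
    have := memLocalIdeal_neg h1
    rwa [neg_neg] at this
  obtain ⟨k, hkmem, hkne⟩ : ∃ k : Subgroup.normalizer (P : Set G),
      (IsConj g (k : G) ∧ (k : G) ∈ Subgroup.centralizer (P : Set G)) ∧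
        (ξ : Subgroup.normalizer (P : Set G) → ℂ) k ≠ 0 := by
    by_contra hcon
    push Not at hcon
    apply h2
    unfold Cfsg.brauerCentralChar
    apply finsum_mem_eq_zero_of_forall_eq_zero
    intro k hk
    rw [hcon k hk, zero_div]
  refine ⟨(k : G), hkmem.1, hkmem.2, ?_⟩
  intro z hz
  have hzpow := mem_zpowers_of_isPPart hz
  have hzN : z ∈ Subgroup.normalizer (P : Set G) := (Subgroup.zpowers_le.mpr k.2) hzpow
  have hzC : z ∈ Subgroup.centralizer (P : Set G) := (Subgroup.zpowers_le.mpr hkmem.2) hzpow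
  constructor
  · have hz' : Cfsg.IsPPart p k (⟨z, hzN⟩ : Subgroup.normalizer (P : Set G)) := by
      obtain ⟨y, hzy, hcomm, ⟨j, hj⟩, hy⟩ := hz
      have hyN : y ∈ Subgroup.normalizer (P : Set G) := by
        have : y = z⁻¹ * (k : G) := by rw [← hzy]; group
        rw [this]
        exact mul_mem (inv_mem hzN) k.2
      refine ⟨⟨y, hyN⟩, Subtype.ext hzy, ?_, ⟨j, ?_⟩, ?_⟩
      · exact Subtype.ext hcomm.eq
      · rw [← hj]
        exact Subgroup.orderOf_mk z hzN
      · rw [Subgroup.orderOf_mk y hyN]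
        exact hy
    have := ppart_mem_of_ne_zero p (P.subgroupOf (Subgroup.normalizer (P : Set G))) ξ hξker hξdeg
      k hkne ⟨z, hzN⟩ hz'
    exact Subgroup.mem_subgroupOf.mp this
  · intro w hw
    exact (Subgroup.mem_centralizer_iff.mp hzC w hw).symm

end Cfsg.Agent.S0929
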