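import Cfsg.Statements.S0174
import Cfsg.Agent.Lib.Helper75.Clifford

set_option autoImplicit false
open Cfsg

namespace Cfsg.Agent.S0174

open Cfsg.Agent.Lib.Helper75 Cfsg.Agent.Lib.Helper3 in
/-- The Clifford Theorem for characters: if θ is an irreducible character of a finite group G, N is a normal subgroup and χ is an irreducible character of N occurring in the restriction of θ, then θ restricted to N equals e times the sum of the distinct G-conjugates of χ, where e is the inner product of the restriction with χ. -/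
theorem result {G : Type*} [Group G] [Fintype G] (N : Subgroup G) [Fintype N] (hN : N.Normal) (θ : G → ℂ) (hθ : Cfsg.IsIrrCharacter G θ) (χ : N → ℂ) (hχ : Cfsg.IsIrrCharacter N χ) (hconst : Cfsg.classInner (fun n : N => θ n) χ ≠ 0) : (fun n : N => θ n) = Cfsg.classInner (fun n : N => θ n) χ • ∑ᶠ ψ ∈ {ψ : N → ℂ | ∃ g : G, ψ = fun n : N => χ ⟨g * n * g⁻¹, hN.conj_mem n n.2 g⟩}, ψ := by
  classical
  haveI := hN
  haveI : Finite (IrrCharacter N) := irrCharacter_finite
  haveI := Fintype.ofFinite (IrrCharacter N)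
  set e := Cfsg.classInner (fun n : N => θ n) χ with he
  set S : Set (N → ℂ) := {ψ : N → ℂ | ∃ g : G, ψ = fun n : N => χ ⟨g * n * g⁻¹, hN.conj_mem n n.2 g⟩} with hS
  have hθcf : IsClassFunction G θ := IsCharacter.isClassFunction (IsIrrCharacter.isCharacter hθ)
  have hθN : IsClassFunction N (fun n : N => θ n) := by
    intro g h
    exact hθcf (g : G) (h : G)
  -- membership in S means conjugate
  have hSmem : ∀ ψ : N → ℂ, ψ ∈ S ↔ ∃ g : G, ψ = conjFun N g χ := fun ψ => Iff.rfl
  -- coefficients
  have hcoef : ∀ ψ : IrrCharacter N, classInner (fun n : N => θ n) (ψ : N → ℂ) =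
      if (ψ : N → ℂ) ∈ S then e else 0 := by
    intro ψ
    split_ifs with h
    · obtain ⟨g, hg⟩ := (hSmem _).1 h
      rw [hg, ← conjFun_restrict N g hθcf, classInner_conjFun]
    · by_contra hne
      exact h ((hSmem _).2 (clifford_conj N hθ hχ ψ.2 hconst hne))
  have hexp := classFunction_eq_sum hθN
  rw [hexp]
  -- the finset of conjugates
  set T : Finset (N → ℂ) :=
    (Finset.univ.filter (fun ψ : IrrCharacter N => (ψ : N → ℂ) ∈ S)).image Subtype.val with hT
  have hTS : S = (T : Set (N → ℂ)) := by
    ext ψ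
    simp only [hT, Finset.coe_image, Finset.coe_filter, Finset.mem_univ, true_and, Set.mem_image,
      Set.mem_setOf_eq]
    constructor
    · intro h
      obtain ⟨g, hg⟩ := (hSmem _).1 h
      refine ⟨⟨ψ, ?_⟩, h, rfl⟩
      rw [hg]
      exact conjFun_isIrrCharacter N g hχ
    · rintro ⟨ψ', h, rfl⟩
      exact h
  rw [hTS, finsum_mem_coe_finset, hT, Finset.sum_image (fun x _ y _ h => Subtype.ext h),
    Finset.smul_sum, Finset.sum_filter]
  apply Finset.sum_congr rfl
  intro ψ _
  rw [hcoef ψ]
  split_ifs with h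
  · rfl
  · rw [zero_smul]

end Cfsg.Agent.S0174
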