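import Cfsg.Statements.S3742
import Mathlib

set_option autoImplicit false
open Cfsg

namespace Cfsg.Agent.S3742

open QuaternionGroup

abbrev Q := QuaternionGroup 2

/-- the map determined by the images `u`, `v` of the generators `a 1`, `xa 0` -/
def F (u v : Q) : Q → Q
  | a i => u ^ i.val
  | xa i => v * u ^ i.val

def valid (u v : Q) : Prop := u * u = a 2 ∧ v * v = a 2 ∧ v ≠ u ∧ v ≠ u * a 2

instance (u v : Q) : Decidable (valid u v) := by unfold valid; infer_instance

theorem F_mul : ∀ u v : Q, valid u v → ∀ g h : Q, F u v (g * h) = F u v g * F u v h := by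
  decide +kernel

theorem F_inj : ∀ u v : Q, valid u v → ∀ g h : Q, F u v g = F u v h → g = h := by
  decide +kernel

theorem F_one : ∀ u v : Q, valid u v → F u v 1 = 1 := by decide +kernel

theorem F_a1 : ∀ u v : Q, F u v (a 1) = u := by decide +kernel

theorem F_xa0 : ∀ u v : Q, F u v (xa 0) = v := by decide +kernel

/-- composition law on pairs -/
def comp (p q : Q × Q) : Q × Q := (F p.1 p.2 q.1, F p.1 p.2 q.2)

def neg (b : Bool) (x : Q) : Q := if b then x * a 2 else x

def qi : Q := a 1
def qj : Q := xa 0
def qk : Q := xa 3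

def hasAxis (u v : Q) (b : Bool × Bool) (e : Q) : Bool :=
  decide (F u v qi = e) || decide (neg b.1 (F u v qj) = e) || decide (neg b.2 (F u v qk) = e)

/-- the action on the four "diagonals" -/
def permOf (u v : Q) (b : Bool × Bool) : Bool × Bool :=
  (xor (hasAxis u v b qi) (hasAxis u v b qj), xor (hasAxis u v b qi) (hasAxis u v b qk))

theorem permOf_comp : ∀ u v u' v' : Q, valid u v → valid u' v' → ∀ b,
    permOf (comp (u,v) (u',v')).1 (comp (u,v) (u',v')).2 b = permOf u v (permOf u' v' b) := by
  decide +kernel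

theorem permOf_faithful : ∀ u v : Q, valid u v → (∀ b, permOf u v b = b) → u = a 1 ∧ v = xa 0 := by
  decide +kernel

theorem permOf_id : ∀ b, permOf (a 1) (xa 0) b = b := by decide +kernel

theorem card_valid : Fintype.card {p : Q × Q // valid p.1 p.2} = 24 := by decide +kernel

theorem map_a2 (f : MulAut Q) : f (a 2) = a 2 := by
  have h1 : f (a 2) * f (a 2) = 1 := by
    rw [← map_mul]
    have : (a 2 : Q) * a 2 = 1 := by decide +kernel
    rw [this, map_one]
  have h2 : f (a 2) ≠ 1 := by
    intro h
    have := f.injective (h.trans (map_one f).symm)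
    revert this
    decide +kernel
  have key : ∀ g : Q, g * g = 1 → g ≠ 1 → g = a 2 := by decide +kernel
  exact key _ h1 h2

theorem valid_pair (f : MulAut Q) : valid (f (a 1)) (f (xa 0)) := by
  refine ⟨?_, ?_, ?_, ?_⟩
  · rw [← map_mul]
    have : (a 1 : Q) * a 1 = a 2 := by decide +kernel
    rw [this, map_a2]
  · rw [← map_mul]
    have : (xa 0 : Q) * xa 0 = a 2 := by decide +kernel
    rw [this, map_a2]
  · intro h
    have := f.injective h
    revert this
    decide +kernel
  · intro h
    rw [← map_a2 f, ← map_mul] at h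
    have := f.injective h
    revert this
    decide +kernel

theorem F_eq (f : MulAut Q) (g : Q) : f g = F (f (a 1)) (f (xa 0)) g := by
  cases g with
  | a i =>
    show f (a i) = (f (a 1)) ^ i.val
    rw [← map_pow, a_one_pow, ZMod.natCast_zmod_val]
  | xa i =>
    show f (xa i) = f (xa 0) * (f (a 1)) ^ i.val
    rw [← map_pow, ← map_mul, a_one_pow, ZMod.natCast_zmod_val, xa_mul_a, zero_add]

/-- the action of an automorphism -/
def P (f : MulAut Q) (b : Bool × Bool) : Bool × Bool := permOf (f (a 1)) (f (xa 0)) b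

theorem P_mul (f g : MulAut Q) (b : Bool × Bool) : P (f * g) b = P f (P g b) := by
  unfold P
  rw [← permOf_comp _ _ _ _ (valid_pair f) (valid_pair g)]
  simp only [comp, MulAut.mul_apply, ← F_eq]

theorem P_one (b : Bool × Bool) : P 1 b = b := by
  unfold P
  simp only [MulAut.one_apply]
  exact permOf_id b

def φfun (f : MulAut Q) : Equiv.Perm (Bool × Bool) where
  toFun := P f
  invFun := P f⁻¹
  left_inv b := by rw [← P_mul, inv_mul_cancel, P_one]
  right_inv b := by rw [← P_mul, mul_inv_cancel, P_one]

def φ : MulAut Q →* Equiv.Perm (Bool × Bool) where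
  toFun := φfun
  map_one' := by
    ext b : 1
    exact P_one b
  map_mul' f g := by
    ext b : 1
    exact P_mul f g b

theorem φ_injective : Function.Injective φ := by
  rw [injective_iff_map_eq_one]
  intro f hf
  have h1 : ∀ b, P f b = b := by
    intro b
    have := congrArg (fun σ : Equiv.Perm (Bool × Bool) => σ b) hf
    exact this
  obtain ⟨h2, h3⟩ := permOf_faithful _ _ (valid_pair f) h1
  ext g
  rw [F_eq f g, h2, h3, F_eq 1 g]
  rfl

/-- the automorphism with prescribed images of generators -/
noncomputable def autOf (p : {p : Q × Q // valid p.1 p.2}) : MulAut Q :=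
  MulEquiv.ofBijective
    (⟨⟨F p.1.1 p.1.2, F_one _ _ p.2⟩, F_mul _ _ p.2⟩ : Q →* Q)
    ((Finite.injective_iff_bijective).mp (fun g h hgh => F_inj _ _ p.2 g h hgh))

theorem autOf_injective : Function.Injective autOf := by
  intro p q h
  have h1 : autOf p (a 1) = autOf q (a 1) := by rw [h]
  have h2 : autOf p (xa 0) = autOf q (xa 0) := by rw [h]
  have e1 : ∀ r : {p : Q × Q // valid p.1 p.2}, autOf r (a 1) = r.1.1 := fun r => F_a1 r.1.1 r.1.2
  have e2 : ∀ r : {p : Q × Q // valid p.1 p.2}, autOf r (xa 0) = r.1.2 := fun r => F_xa0 r.1.1 r.1.2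
  rw [e1, e1] at h1
  rw [e2, e2] at h2
  exact Subtype.ext (Prod.ext h1 h2)

instance : Finite (MulAut Q) :=
  Finite.of_injective (fun f : MulAut Q => (f : Q → Q)) DFunLike.coe_injective

theorem card_le : Nat.card (Equiv.Perm (Bool × Bool)) ≤ Nat.card (MulAut Q) := by
  have h1 : Nat.card (Equiv.Perm (Bool × Bool)) = 24 := by
    rw [Nat.card_eq_fintype_card, Fintype.card_perm]
    rfl
  have h2 : Nat.card {p : Q × Q // valid p.1 p.2} = 24 := by
    rw [Nat.card_eq_fintype_card, card_valid]
  rw [h1, ← h2]
  exact Nat.card_le_card_of_injective autOf autOf_injective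

/-- The automorphism group of the quaternion group of order 8 is isomorphic to the symmetric group of degree 4. -/
theorem result : Nonempty (MulAut (QuaternionGroup 2) ≃* Equiv.Perm (Fin 4)) := by
  have hb : Function.Bijective φ := φ_injective.bijective_of_nat_card_le card_le
  have e1 : MulAut Q ≃* Equiv.Perm (Bool × Bool) := MulEquiv.ofBijective φ hb
  have hc : Fintype.card (Bool × Bool) = 4 := rfl
  have e2 : Equiv.Perm (Bool × Bool) ≃* Equiv.Perm (Fin 4) :=
    (Fintype.equivFinOfCardEq hc).permCongrHom
  exact ⟨e1.trans e2⟩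

end Cfsg.Agent.S3742
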