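import Cfsg.Statements.S0306
import Cfsg.Agent.Lib.Helper44.GOMinusTwo

set_option autoImplicit false
open Cfsg

namespace Cfsg.Agent.S0306

/-- GO^-_2(q) is dihedral of order 2(q+1). -/
theorem result {F : Type*} [Field F] [Fintype F] {q : ℕ} (hF : Fintype.card F = q) (a b : F) (hab : ∀ z₁ z₂ : F, z₁ ^ 2 + a * z₁ * z₂ + b * z₂ ^ 2 = 0 → z₁ = 0 ∧ z₂ = 0) : Nonempty (Cfsg.isometryGroup F (Cfsg.quadFormMinus 0 F a b) ≃* DihedralGroup (q + 1)) := by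
  classical
  obtain ⟨p, hpF⟩ := CharP.exists F
  obtain ⟨n, hp, hn⟩ := FiniteField.card F p
  haveI : Fact p.Prime := ⟨hp⟩
  let K := GaloisField p (2 * (n : ℕ))
  letI : Fintype K := Fintype.ofFinite K
  have hK : Fintype.card K = q ^ 2 := by
    rw [← Nat.card_eq_fintype_card, GaloisField.card p (2 * (n : ℕ)) (by
      have := n.pos
      omega), ← hF, hn, ← pow_mul, mul_comm]
  obtain ⟨j⟩ := Cfsg.Agent.Lib.Helper44.exists_ringHom_of_card_sq hF hK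
  letI : Algebra F K := j.toAlgebra
  obtain ⟨ψ, hψ⟩ := Cfsg.Agent.Lib.Helper44.exists_binary_coords hF hK a b hab
  let e : (Fin 0 ⊕ Fin 0) ⊕ Fin 2 ≃ Fin 2 := Equiv.emptySum (Fin 0 ⊕ Fin 0) (Fin 2)
  let Θ : K ≃ₗ[F] ((Fin 0 ⊕ Fin 0) ⊕ Fin 2 → F) :=
    ψ.symm.trans (LinearEquiv.funCongrLeft F F e)
  have hΘ : ∀ v : K, Cfsg.quadFormMinus 0 F a b (Θ v) = Algebra.norm F v := by
    intro v
    have h1 := hψ (ψ.symm v)
    rw [LinearEquiv.apply_symm_apply] at h1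
    rw [h1]
    simp [Cfsg.quadFormMinus, Θ, e, LinearEquiv.funCongrLeft_apply, LinearMap.funLeft_apply]
  obtain ⟨φ, -⟩ := Cfsg.Agent.Lib.Helper44.exists_mulEquiv_isometryGroup
    (Cfsg.quadFormMinus 0 F a b) (fun y : K => Algebra.norm F y) Θ hΘ
  obtain ⟨d⟩ := Cfsg.Agent.Lib.Helper44.normIsometry_equiv_dihedral (F := F) (K := K) hF hK
  exact ⟨φ.symm.trans d⟩

end Cfsg.Agent.S0306
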