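import Cfsg.Statements.S0750
import Cfsg.Agent.Lib.Helper8.WittQuad

set_option autoImplicit false
open Cfsg

namespace Cfsg.Agent.S0750

/-- Witt's Lemma for quadratic forms over a finite field, in any characteristic: if Q is a quadratic form on a finite-dimensional space V whose polar bilinear form is non-degenerate, then every linear equivalence between subspaces X, Y of V that preserves Q extends to a Q-preserving linear automorphism of V. (In odd characteristic this is the symmetric-bilinear case; in characteristic two it is the statement for non-degenerate quadratic forms.) -/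
theorem result {F V : Type*} [Field F] [Finite F] [AddCommGroup V] [Module F V] [FiniteDimensional F V] (Q : QuadraticForm F V) (hQ : (QuadraticMap.polarBilin Q).Nondegenerate) (X Y : Submodule F V) (φ : X ≃ₗ[F] Y) (hφ : ∀ x : X, Q (φ x : V) = Q (x : V)) : ∃ g : V ≃ₗ[F] V, (∀ v : V, Q (g v) = Q v) ∧ ∀ x : X, g (x : V) = (φ x : V) := by
  classical
  let b := Module.finBasis F X
  have hx : LinearIndependent F (fun i => ((b i : X) : V)) :=
    b.linearIndependent.map' X.subtype (Submodule.ker_subtype X)
  have hy : LinearIndependent F (fun i => ((φ (b i) : Y) : V)) :=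
    (b.map φ).linearIndependent.map' Y.subtype (Submodule.ker_subtype Y)
  have hpol : ∀ u v : X, QuadraticMap.polar Q (φ u : V) (φ v : V)
      = QuadraticMap.polar Q (u : V) (v : V) := by
    intro u v
    have h1 := hφ (u + v)
    simp only [QuadraticMap.polar]
    rw [map_add] at h1
    simp only [Submodule.coe_add] at h1
    rw [h1, hφ u, hφ v]
  obtain ⟨g, hg1, hg2⟩ := Cfsg.Agent.Lib.Helper8.witt_family_quad Q hQ _ _ _ hx hy
    (fun i => hφ (b i)) (fun i j => hpol (b i) (b j))
  refine ⟨g, hg1, ?_⟩
  have heq : (g : V →ₗ[F] V).comp X.subtype = Y.subtype.comp (φ : X →ₗ[F] Y) := by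
    apply b.ext
    intro i
    simp only [LinearMap.comp_apply, Submodule.subtype_apply, LinearEquiv.coe_coe]
    exact hg2 i
  intro x
  have := congrArg (fun L : X →ₗ[F] V => L x) heq
  simpa using this

end Cfsg.Agent.S0750
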