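import Cfsg.Statements.S0790
import Cfsg.Agent.Lib.Helper37.PlusType

set_option autoImplicit false
open Cfsg

namespace Cfsg.Agent.S0790

open Cfsg.Agent.Lib.Helper37

/-- −1 ∈ Ω⁺_2m(q) iff q^m ≡ 1 (mod 4), for q odd and m ≥ 1 (so that in the other case SO⁺_2m(q) = 2 × Ω⁺_2m(q)). -/
theorem result {F : Type*} [Field F] [Fintype F] {q : ℕ} (hF : Fintype.card F = q) (hodd : Odd q) (m : ℕ) (hm : 1 ≤ m) : (∃ g : ↥(Cfsg.isometryGroup F (Cfsg.quadFormPlus m F)), g ∈ Cfsg.Omega F (Cfsg.quadFormPlus m F) ∧ ((g : Matrix.GeneralLinearGroup (Fin m ⊕ Fin m) F) : Matrix (Fin m ⊕ Fin m) (Fin m ⊕ Fin m) F) = -1) ↔ q ^ m % 4 = 1 := by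
  subst hF
  have h2 : (2 : F) ≠ 0 := two_ne_zero_of_odd_card hodd
  have hdetv : (gramP m F).det = (-1) ^ m := gramP_det m F
  have hdet : (gramP m F).det ≠ 0 := by
    rw [hdetv]; exact pow_ne_zero _ (by simp)
  constructor
  · intro h
    by_contra hne
    have hnsq : ¬ IsSquare (gramP m F).det := by
      rw [hdetv, isSquare_neg_one_pow_iff hodd m]; exact hne
    exact (even_dim_main_nonsquare h2 (Cfsg.quadFormPlus m F) (gramP m F) (gramP_isSymm m F)
      (gramP_self m F) (2 * m - 1) (plus_odd m hm) (plus_card m hm) hnsq).1 h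
  · intro h
    have hsq : IsSquare (gramP m F).det := by
      rw [hdetv, isSquare_neg_one_pow_iff hodd m]; exact h
    exact (even_dim_main_square h2 (Cfsg.quadFormPlus m F) (gramP m F) (gramP_isSymm m F)
      (gramP_self m F) (2 * m - 1) (plus_odd m hm) (plus_card m hm) hdet hsq).1

end Cfsg.Agent.S0790
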