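import Cfsg.Statements.S0293
import Cfsg.Agent.Lib.Helper37.POmegaCard
import Cfsg.Agent.Lib.Helper43.OrthCardForms
import Cfsg.Agent.S0790

set_option autoImplicit false
open Cfsg

namespace Cfsg.Agent.S0293

open Cfsg.Agent.Lib.Helper37 Cfsg.Agent.Lib.Helper8 Cfsg.Agent.Lib.Helper43

theorem plus_hypFam (m : ℕ) (F : Type*) [Field F] :
    HypFam (plusForm m F) m (fun i => Pi.single (Sum.inl i) 1)
      (fun i => Pi.single (Sum.inr i) 1) :=
  let h := plus_family m F
  ⟨h.qe, h.qf, h.ee, h.ff, h.ef⟩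

/-- gcd(4, q^m - 1) |PΩ^+_{2m}(q)| = q^(m(m-1)) (q^m - 1) prod_{i=1}^{m-1} (q^(2i) - 1), m at least 4 (type D_m). -/
theorem result {F : Type*} [Field F] [Fintype F] {q : ℕ} (hF : Fintype.card F = q) (m : ℕ) (hm : 4 ≤ m) : Nat.gcd 4 (q ^ m - 1) * Nat.card (Cfsg.POmega F (Cfsg.quadFormPlus m F)) = q ^ (m * (m - 1)) * (q ^ m - 1) * ∏ i ∈ Finset.range (m - 1), (q ^ (2 * (i + 1)) - 1) := by
  obtain ⟨k, rfl⟩ : ∃ k, m = k + 1 := ⟨m - 1, by omega⟩
  have hO := card_isometryGroup_plus (F := F) k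
  rw [hF, mul_assoc, mul_assoc] at hO
  have hcrit := Cfsg.Agent.S0790.result (F := F) hF
  simp only [Nat.add_sub_cancel]
  rw [plusForm_coe] at hO ⊢
  obtain ⟨hA, hB, hC⟩ := card_pomega_generic (plusForm (k + 1) F) (plusForm_nondegenerate _ _)
    (plus_hypFam (k + 1) F) (by omega) (by simp; omega) _ hO
  by_cases h2 : (2 : F) = 0
  · have hev : Even q := by rw [← hF]; exact two_eq_zero_iff_even_card.mp h2
    have hq : (q ^ (k + 1) - 1) % 2 = 1 := by
      have h1 : Even (q ^ (k + 1)) := hev.pow_of_ne_zero (by omega)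
      have h3 : 0 < q ^ (k + 1) := by
        apply Nat.pow_pos
        rw [← hF]; exact Fintype.card_pos
      rw [Nat.even_iff] at h1
      omega
    rw [gcd_four_of_odd _ hq, one_mul, hA h2, mul_assoc]
  · have hodd : Odd q := by
      rw [← Nat.not_even_iff_odd, ← hF]
      exact fun h => h2 (two_eq_zero_iff_even_card.mpr h)
    have hcrit' := hcrit hodd (k + 1) (by omega)
    rw [plusForm_coe] at hcrit'
    have hq : q ^ (k + 1) % 4 = 1 ∨ q ^ (k + 1) % 4 = 3 := by
      have h1 : Odd (q ^ (k + 1)) := hodd.pow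
      rw [Nat.odd_iff] at h1
      omega
    rcases hq with hq | hq
    · rw [gcd_four_of_mod_one _ hq, hB h2 (hcrit'.mpr hq), mul_assoc]
    · rw [gcd_four_of_mod_three _ hq, hC h2 (fun h => by have := hcrit'.mp h; omega), mul_assoc]

end Cfsg.Agent.S0293
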