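import Cfsg.Statements.S0791
import Cfsg.Agent.Lib.Helper37.MinusType

set_option autoImplicit false
open Cfsg

namespace Cfsg.Agent.S0791

open Cfsg.Agent.Lib.Helper37

/-- −1 ∈ Ω⁻_2m(q) iff q^m ≡ −1 (mod 4), for q odd and m ≥ 1; for the minus-type form quadFormMinus (m−1) with anisotropic binary part. -/
theorem result {F : Type*} [Field F] [Fintype F] {q : ℕ} (hF : Fintype.card F = q) (hodd : Odd q) (m : ℕ) (hm : 1 ≤ m) (a b : F) (hab : ∀ z₁ z₂ : F, z₁ ^ 2 + a * z₁ * z₂ + b * z₂ ^ 2 = 0 → z₁ = 0 ∧ z₂ = 0) : (∃ g : ↥(Cfsg.isometryGroup F (Cfsg.quadFormMinus (m - 1) F a b)), g ∈ Cfsg.Omega F (Cfsg.quadFormMinus (m - 1) F a b) ∧ ((g : Matrix.GeneralLinearGroup ((Fin (m - 1) ⊕ Fin (m - 1)) ⊕ Fin 2) F) : Matrix ((Fin (m - 1) ⊕ Fin (m - 1)) ⊕ Fin 2) ((Fin (m - 1) ⊕ Fin (m - 1)) ⊕ Fin 2) F) = -1) ↔ q ^ m % 4 = 3 := by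
  subst hF
  have h2 : (2 : F) ≠ 0 := two_ne_zero_of_odd_card hodd
  have hiff := isSquare_gramM_det_iff hodd m hm a b hab
  constructor
  · intro h
    by_contra hne
    have hnsq : ¬ IsSquare (gramM (m - 1) F a b).det := by
      rw [hiff]; exact hne
    exact (even_dim_main_nonsquare h2 (Cfsg.quadFormMinus (m - 1) F a b) (gramM (m - 1) F a b)
      (gramM_isSymm (m - 1) F a b) (gramM_self (m - 1) F a b) (2 * m - 1) (plus_odd m hm)
      (minus_card m hm) hnsq).1 h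
  · intro h
    have hsq : IsSquare (gramM (m - 1) F a b).det := hiff.mpr h
    have hdet : (gramM (m - 1) F a b).det ≠ 0 := by
      rw [gramM_det]
      apply mul_ne_zero (pow_ne_zero _ (by simp))
      intro h0
      exact disc_nonsquare h2 a b hab (by rw [h0]; exact ⟨0, by simp⟩)
    exact (even_dim_main_square h2 (Cfsg.quadFormMinus (m - 1) F a b) (gramM (m - 1) F a b)
      (gramM_isSymm (m - 1) F a b) (gramM_self (m - 1) F a b) (2 * m - 1) (plus_odd m hm)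
      (minus_card m hm) hdet hsq).1

end Cfsg.Agent.S0791
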