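import Cfsg.Statements.S0294
import Cfsg.Agent.Lib.Helper37.POmegaCard
import Cfsg.Agent.Lib.Helper43.OrthCardMinus
import Cfsg.Agent.S0791

set_option autoImplicit false
open Cfsg

namespace Cfsg.Agent.S0294

open Cfsg.Agent.Lib.Helper37 Cfsg.Agent.Lib.Helper8 Cfsg.Agent.Lib.Helper43

theorem minus_hypFam (m : ℕ) (F : Type*) [Field F] (a b : F) :
    HypFam (minusForm m F a b) m (fun i => Pi.single (Sum.inl (Sum.inl i)) 1)
      (fun i => Pi.single (Sum.inl (Sum.inr i)) 1) :=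
  let h := minus_family m F a b
  ⟨h.qe, h.qf, h.ee, h.ff, h.ef⟩

/-- gcd(4, q^m + 1) |PΩ^-_{2m}(q)| = q^(m(m-1)) (q^m + 1) prod_{i=1}^{m-1} (q^(2i) - 1), m at least 4 (type ²D_m). -/
theorem result {F : Type*} [Field F] [Fintype F] {q : ℕ} (hF : Fintype.card F = q) (m : ℕ) (hm : 4 ≤ m) (a b : F) (hab : ∀ z₁ z₂ : F, z₁ ^ 2 + a * z₁ * z₂ + b * z₂ ^ 2 = 0 → z₁ = 0 ∧ z₂ = 0) : Nat.gcd 4 (q ^ m + 1) * Nat.card (Cfsg.POmega F (Cfsg.quadFormMinus (m - 1) F a b)) = q ^ (m * (m - 1)) * (q ^ m + 1) * ∏ i ∈ Finset.range (m - 1), (q ^ (2 * (i + 1)) - 1) := by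
  have hm1 : m - 1 + 1 = m := by omega
  have hO := card_isometryGroup_minus (m - 1) F a b hab
  rw [hF, hm1, mul_assoc, mul_assoc] at hO
  have hcrit := Cfsg.Agent.S0791.result (F := F) hF
  rw [minusForm_coe] at hO ⊢
  have hnd : (QuadraticMap.polarBilin (minusForm (m - 1) F a b)).Nondegenerate :=
    (minus_family (m - 1) F a b).nondegenerate (minusForm_zero_nondegenerate F a b hab)
  obtain ⟨hA, hB, hC⟩ := card_pomega_generic (minusForm (m - 1) F a b) hnd
    (minus_hypFam (m - 1) F a b) (by omega) (by simp; omega) _ hO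
  by_cases h2 : (2 : F) = 0
  · have hev : Even q := by rw [← hF]; exact two_eq_zero_iff_even_card.mp h2
    have hq : (q ^ m + 1) % 2 = 1 := by
      have h1 : Even (q ^ m) := hev.pow_of_ne_zero (by omega)
      rw [Nat.even_iff] at h1
      omega
    rw [gcd_four_of_odd _ hq, one_mul, hA h2, mul_assoc]
  · have hodd : Odd q := by
      rw [← Nat.not_even_iff_odd, ← hF]
      exact fun h => h2 (two_eq_zero_iff_even_card.mpr h)
    have hcrit' := hcrit hodd m (by omega) a b hab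
    rw [minusForm_coe] at hcrit'
    have hq : q ^ m % 4 = 1 ∨ q ^ m % 4 = 3 := by
      have h1 : Odd (q ^ m) := hodd.pow
      rw [Nat.odd_iff] at h1
      omega
    rcases hq with hq | hq
    · rw [gcd_four_of_mod_one' _ hq, hC h2 (fun h => by have := hcrit'.mp h; omega), mul_assoc]
    · rw [gcd_four_of_mod_three' _ hq, hB h2 (hcrit'.mpr hq), mul_assoc]

end Cfsg.Agent.S0294
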