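import Cfsg.Statements.S1467

set_option autoImplicit false
open Cfsg

namespace Cfsg.Agent.S1467

variable {G : Type*} [Group G]

theorem puigStep_antitone {X Y : Subgroup G} (h : X ≤ Y) : Cfsg.puigStep Y ≤ Cfsg.puigStep X := by
  unfold Cfsg.puigStep
  apply sSup_le_sSup
  intro A hA
  exact ⟨hA.1, h.trans hA.2⟩

theorem puigStep_bot : Cfsg.puigStep (⊥ : Subgroup G) = ⊤ := by
  rw [eq_top_iff]
  intro g _
  have : Subgroup.zpowers g ≤ Cfsg.puigStep (⊥ : Subgroup G) := by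
    unfold Cfsg.puigStep
    apply le_sSup
    exact ⟨inferInstance, bot_le⟩
  exact this (Subgroup.mem_zpowers g)

theorem puigSeq_succ (n : ℕ) : Cfsg.puigSeq G (n + 1) = Cfsg.puigStep (Cfsg.puigSeq G n) := rfl

theorem even_le_odd (n : ℕ) : Cfsg.puigSeq G (2 * n) ≤ Cfsg.puigSeq G (2 * n + 1) ∧
    Cfsg.puigSeq G (2 * n + 2) ≤ Cfsg.puigSeq G (2 * n + 1) := by
  induction n with
  | zero =>
    refine ⟨bot_le, ?_⟩
    show Cfsg.puigSeq G (0 + 1 + 1) ≤ Cfsg.puigSeq G (0 + 1)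
    rw [puigSeq_succ (0 + 1), puigSeq_succ 0]
    apply puigStep_antitone
    exact bot_le
  | succ n ih =>
    have h1 : Cfsg.puigSeq G (2 * (n + 1)) ≤ Cfsg.puigSeq G (2 * (n + 1) + 1) := by
      have e1 : 2 * (n + 1) = (2 * n + 1) + 1 := by ring
      have e2 : 2 * (n + 1) + 1 = (2 * n + 2) + 1 := by ring
      rw [e2, e1, puigSeq_succ (2 * n + 2), puigSeq_succ (2 * n + 1)]
      exact puigStep_antitone ih.2
    refine ⟨h1, ?_⟩
    have e1 : 2 * (n + 1) + 2 = (2 * (n + 1) + 1) + 1 := by ring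
    rw [e1, puigSeq_succ (2 * (n + 1) + 1), puigSeq_succ (2 * (n + 1))]
    exact puigStep_antitone h1

theorem even_step (n : ℕ) : Cfsg.puigSeq G (2 * n) ≤ Cfsg.puigSeq G (2 * n + 2) := by
  induction n with
  | zero => exact bot_le
  | succ n ih =>
    have e1 : 2 * (n + 1) = (2 * n + 1) + 1 := by ring
    have e2 : 2 * (n + 1) + 2 = (2 * n + 2 + 1) + 1 := by ring
    rw [e2, e1, puigSeq_succ (2 * n + 2 + 1), puigSeq_succ (2 * n + 1)]
    apply puigStep_antitone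
    rw [puigSeq_succ (2 * n + 2), puigSeq_succ (2 * n)]
    exact puigStep_antitone ih

theorem odd_step (m : ℕ) : Cfsg.puigSeq G (2 * m + 3) ≤ Cfsg.puigSeq G (2 * m + 1) := by
  have e : 2 * m + 3 = (2 * m + 2) + 1 := by ring
  rw [e, puigSeq_succ (2 * m + 2), puigSeq_succ (2 * m)]
  exact puigStep_antitone (even_step m)

theorem even_mono : Monotone (fun n : ℕ => Cfsg.puigSeq G (2 * n)) :=
  monotone_nat_of_le_succ (fun n => even_step n)

theorem odd_anti : Antitone (fun n : ℕ => Cfsg.puigSeq G (2 * n + 1)) :=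
  antitone_nat_of_succ_le (fun n => odd_step n)

theorem even_le_odd' (n m : ℕ) : Cfsg.puigSeq G (2 * n) ≤ Cfsg.puigSeq G (2 * m + 1) := by
  rcases le_total n m with h | h
  · exact (even_mono h).trans (even_le_odd m).1
  · exact (even_le_odd n).1.trans (odd_anti h)

/-- Let G be a finite group with Puig series L_n(G). Then L_0 = 1, L_1 = G; L_{2n} ≤ L_{2n+2} ≤ L_{2m+3} ≤ L_{2m+1} for all n, m; there is k with L_{2n}(G) = L_*(G) and L_{2n+1}(G) = L(G) for all n ≥ k; L_*(G) ≤ L(G); and applying one Puig step to L_*(G) gives L(G) and to L(G) gives L_*(G). -/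
theorem result {G : Type*} [Group G] [Finite G] :
    Cfsg.puigSeq G 0 = ⊥ ∧ Cfsg.puigSeq G 1 = ⊤ ∧
      (∀ n m : ℕ, Cfsg.puigSeq G (2 * n) ≤ Cfsg.puigSeq G (2 * n + 2) ∧ Cfsg.puigSeq G (2 * n) ≤ Cfsg.puigSeq G (2 * m + 1) ∧
        Cfsg.puigSeq G (2 * m + 3) ≤ Cfsg.puigSeq G (2 * m + 1)) ∧
      (∃ k : ℕ, ∀ n : ℕ, k ≤ n → Cfsg.puigSeq G (2 * n) = Cfsg.puigLower G ∧ Cfsg.puigSeq G (2 * n + 1) = Cfsg.puigSubgroup G) ∧
      Cfsg.puigLower G ≤ Cfsg.puigSubgroup G ∧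
      Cfsg.puigStep (Cfsg.puigLower G) = Cfsg.puigSubgroup G ∧ Cfsg.puigStep (Cfsg.puigSubgroup G) = Cfsg.puigLower G := by
  have h0 : Cfsg.puigSeq G 0 = ⊥ := rfl
  have h1 : Cfsg.puigSeq G 1 = ⊤ := by
    show Cfsg.puigStep (Cfsg.puigSeq G 0) = ⊤
    rw [h0]; exact puigStep_bot
  -- stabilisation
  obtain ⟨k₁, hk₁⟩ := WellFoundedGT.monotone_chain_condition
    (⟨fun n : ℕ => Cfsg.puigSeq G (2 * n), even_mono⟩ : ℕ →o Subgroup G)
  obtain ⟨k₂, hk₂⟩ := WellFoundedGT.monotone_chain_condition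
    (⟨fun n : ℕ => OrderDual.toDual (Cfsg.puigSeq G (2 * n + 1)),
      fun a b hab => odd_anti hab⟩ : ℕ →o (Subgroup G)ᵒᵈ)
  simp only [OrderHom.coe_mk] at hk₁ hk₂
  have hk₂' : ∀ m, k₂ ≤ m → Cfsg.puigSeq G (2 * k₂ + 1) = Cfsg.puigSeq G (2 * m + 1) := by
    intro m hm
    exact OrderDual.toDual.injective (hk₂ m hm)
  set k := max k₁ k₂ with hk
  have hE : ∀ n, k ≤ n → Cfsg.puigSeq G (2 * n) = Cfsg.puigLower G := by
    intro n hn
    have hn1 : k₁ ≤ n := (le_max_left _ _).trans hn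
    apply le_antisymm
    · exact le_iSup (fun n : ℕ => Cfsg.puigSeq G (2 * n)) n
    · apply iSup_le
      intro i
      rcases le_total i n with h | h
      · exact even_mono h
      · have : Cfsg.puigSeq G (2 * i) = Cfsg.puigSeq G (2 * n) := by
          rw [← hk₁ i (hn1.trans h), ← hk₁ n hn1]
        exact this.le
  have hO : ∀ n, k ≤ n → Cfsg.puigSeq G (2 * n + 1) = Cfsg.puigSubgroup G := by
    intro n hn
    have hn2 : k₂ ≤ n := (le_max_right _ _).trans hn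
    apply le_antisymm
    · apply le_iInf
      intro i
      rcases le_total i n with h | h
      · exact odd_anti h
      · have : Cfsg.puigSeq G (2 * i + 1) = Cfsg.puigSeq G (2 * n + 1) := by
          rw [← hk₂' i (hn2.trans h), ← hk₂' n hn2]
        exact this.ge
    · exact iInf_le (fun n : ℕ => Cfsg.puigSeq G (2 * n + 1)) n
  refine ⟨h0, h1, ?_, ⟨k, fun n hn => ⟨hE n hn, hO n hn⟩⟩, ?_, ?_, ?_⟩
  · intro n m
    exact ⟨even_step n, even_le_odd' n m, odd_step m⟩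
  · rw [← hE k le_rfl, ← hO k le_rfl]
    exact (even_le_odd k).1
  · rw [← hE k le_rfl, ← hO k le_rfl]
    rfl
  · rw [← hE (k + 1) (Nat.le_succ k), ← hO k le_rfl]
    rfl

end Cfsg.Agent.S1467
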