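import Cfsg.Statements.S1466
import Cfsg.Agent.S1467

set_option autoImplicit false
open Cfsg

namespace Cfsg.Agent.S1466

open Cfsg.Agent.S1467

/-- A nontrivial normal subgroup of a finite `p`-group meets the centre nontrivially. -/
theorem exists_mem_center_of_normal {P : Type*} [Group P] [Finite P] (p : ℕ) [Fact p.Prime]
    (hP : IsPGroup p P) (N : Subgroup P) [N.Normal] (hN : N ≠ ⊥) :
    ∃ x ∈ N, x ∈ Subgroup.center P ∧ x ≠ 1 := by
  have hPc : IsPGroup p (ConjAct P) := hP.of_equiv ConjAct.toConjAct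
  have hNp : IsPGroup p N := hP.to_subgroup N
  have hnt : Nontrivial N := (Subgroup.nontrivial_iff_ne_bot N).mpr hN
  have dvd : p ∣ Nat.card N := by
    obtain ⟨n, hn0, hn⟩ := hNp.nontrivial_iff_card.mp hnt
    exact hn.symm ▸ dvd_pow_self _ (ne_of_gt hn0)
  have h1 : (1 : N) ∈ MulAction.fixedPoints (ConjAct P) N := by
    intro g
    exact smul_one g
  obtain ⟨b, hb, hb1⟩ := hPc.exists_fixed_point_of_prime_dvd_card_of_fixed_point N dvd h1
  refine ⟨b, b.2, ?_, ?_⟩
  · rw [Subgroup.mem_center_iff]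
    intro g
    have := hb (ConjAct.toConjAct g)
    have h2 : ((ConjAct.toConjAct g • b : N) : P) = (b : P) := by rw [this]
    rw [ConjAct.Subgroup.val_conj_smul, ConjAct.toConjAct_smul] at h2
    calc g * (b : P) = (g * b * g⁻¹) * g := by group
      _ = b * g := by rw [h2]
  · intro h
    apply hb1
    exact (Subtype.ext h).symm

/-- In a finite `p`-group, a normal subgroup containing every normal abelian subgroup contains its
own centralizer. -/
theorem centralizer_le_of_contains_normal_abelian {R : Type*} [Group R] [Finite R] (p : ℕ)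
    [Fact p.Prime] (hR : IsPGroup p R) (L : Subgroup R) [hL : L.Normal]
    (hmax : ∀ A : Subgroup R, A.Normal → IsMulCommutative A → A ≤ L) :
    Subgroup.centralizer (L : Set R) ≤ L := by
  by_contra hnot
  set C : Subgroup R := Subgroup.centralizer (L : Set R) with hC
  have hCn : C.Normal := Subgroup.normal_centralizer
  set Z : Subgroup R := C ⊓ L with hZ
  have hZn : Z.Normal := Subgroup.normal_inf_normal C L
  -- quotient
  have hQ : IsPGroup p (R ⧸ Z) := hR.to_quotient Z
  set N : Subgroup (R ⧸ Z) := C.map (QuotientGroup.mk' Z) with hNdef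
  have hNn : N.Normal := Subgroup.Normal.map hCn _ (QuotientGroup.mk'_surjective Z)
  have hNne : N ≠ ⊥ := by
    intro hbot
    apply hnot
    intro c hc
    have : QuotientGroup.mk' Z c ∈ N := Subgroup.mem_map_of_mem _ hc
    rw [hbot, Subgroup.mem_bot] at this
    have hcZ : c ∈ Z := by
      rw [← QuotientGroup.eq_one_iff]
      exact this
    exact hcZ.2
  obtain ⟨y, hyN, hyc, hy1⟩ := exists_mem_center_of_normal p hQ N hNne
  obtain ⟨x, hxC, rfl⟩ := Subgroup.mem_map.mp hyN
  have hxZ : x ∉ Z := by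
    intro h
    apply hy1
    exact (QuotientGroup.eq_one_iff x).mpr h
  have hcomm : ∀ r : R, r * x * r⁻¹ * x⁻¹ ∈ Z := by
    intro r
    rw [← QuotientGroup.eq_one_iff]
    have := Subgroup.mem_center_iff.mp hyc (QuotientGroup.mk' Z r)
    have e : ((r * x * r⁻¹ * x⁻¹ : R) : R ⧸ Z) =
        (QuotientGroup.mk' Z r) * (QuotientGroup.mk' Z x) * (QuotientGroup.mk' Z r)⁻¹ *
          (QuotientGroup.mk' Z x)⁻¹ := by
      simp
    rw [e, this]
    group
  -- the abelian normal subgroup generated by Z and x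
  set A : Subgroup R := Subgroup.closure ((Z : Set R) ∪ {x}) with hA
  have hAcomm : IsMulCommutative A := by
    apply Subgroup.isMulCommutative_closure
    have hCL : ∀ c ∈ C, ∀ l ∈ L, c * l = l * c := by
      intro c hc l hl
      exact ((Subgroup.mem_centralizer_iff.mp hc) l hl).symm
    intro a ha b hb
    rcases ha with ha | ha <;> rcases hb with hb | hb
    · exact hCL a ha.1 b hb.2
    · rw [Set.mem_singleton_iff] at hb; subst hb
      exact (hCL b hxC a ha.2).symm
    · rw [Set.mem_singleton_iff] at ha; subst ha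
      exact hCL a hxC b hb.2
    · rw [Set.mem_singleton_iff] at ha hb; subst ha; subst hb; rfl
  have hAn : A.Normal := by
    constructor
    intro a ha r
    induction ha using Subgroup.closure_induction with
    | mem g hg =>
      rcases hg with hg | hg
      · exact Subgroup.subset_closure (Or.inl (hZn.conj_mem g hg r))
      · rw [Set.mem_singleton_iff] at hg; subst hg
        have h1 : r * g * r⁻¹ * g⁻¹ ∈ A := Subgroup.subset_closure (Or.inl (hcomm r))
        have h2 : g ∈ A := Subgroup.subset_closure (Or.inr rfl)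
        have := A.mul_mem h1 h2
        simpa using this
    | one => simp
    | mul a b _ _ iha ihb =>
      have : r * (a * b) * r⁻¹ = (r * a * r⁻¹) * (r * b * r⁻¹) := by group
      rw [this]; exact A.mul_mem iha ihb
    | inv a _ iha =>
      have : r * a⁻¹ * r⁻¹ = (r * a * r⁻¹)⁻¹ := by group
      rw [this]; exact A.inv_mem iha
  have hAL : A ≤ L := hmax A hAn hAcomm
  have hxA : x ∈ A := Subgroup.subset_closure (Or.inr rfl)
  exact hxZ ⟨hxC, hAL hxA⟩

theorem puigStep_normal {G : Type*} [Group G] (X : Subgroup G) [hX : X.Normal] :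
    (Cfsg.puigStep X).Normal := by
  constructor
  intro a ha r
  have hle : Cfsg.puigStep X ≤ (Cfsg.puigStep X).comap (MulAut.conj r).toMonoidHom := by
    unfold Cfsg.puigStep
    apply sSup_le
    intro A hA
    intro a ha
    rw [Subgroup.mem_comap]
    have hmem : A.map (MulAut.conj r).toMonoidHom ∈
        {A : Subgroup G | IsMulCommutative A ∧ X ≤ Subgroup.normalizer (A : Set G)} := by
      refine ⟨?_, ?_⟩
      · haveI := hA.1
        exact Subgroup.map_isMulCommutative A _
      · intro x hx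
        rw [Subgroup.mem_normalizer_iff]
        intro h
        have hx' : r⁻¹ * x * r ∈ X := by
          have := hX.conj_mem x hx r⁻¹
          simpa using this
        have hxn := Subgroup.mem_normalizer_iff.mp (hA.2 hx')
        simp only [Subgroup.mem_map, MulEquiv.coe_toMonoidHom, MulAut.conj_apply]
        constructor
        · rintro ⟨b, hb, rfl⟩
          refine ⟨(r⁻¹ * x * r) * b * (r⁻¹ * x * r)⁻¹, (hxn b).mp hb, ?_⟩
          group
        · rintro ⟨b, hb, hbe⟩
          refine ⟨(r⁻¹ * x * r)⁻¹ * b * (r⁻¹ * x * r), ?_, ?_⟩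
          · have := (hxn ((r⁻¹ * x * r)⁻¹ * b * (r⁻¹ * x * r))).mpr (by
              have e : r⁻¹ * x * r * ((r⁻¹ * x * r)⁻¹ * b * (r⁻¹ * x * r)) * (r⁻¹ * x * r)⁻¹ = b := by
                group
              rw [e]; exact hb)
            exact this
          · have e : r * ((r⁻¹ * x * r)⁻¹ * b * (r⁻¹ * x * r)) * r⁻¹ = x⁻¹ * (r * b * r⁻¹) * x := by
              group
            rw [e, hbe]; group
    exact le_sSup hmem (Subgroup.mem_map_of_mem _ ha)
  have := hle ha
  simpa using this

theorem puigSeq_normal {G : Type*} [Group G] (n : ℕ) : (Cfsg.puigSeq G n).Normal := by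
  induction n with
  | zero => exact Subgroup.normal_bot
  | succ n ih =>
    haveI := ih
    exact puigStep_normal _

theorem normal_abelian_le_puigStep {G : Type*} [Group G] (X A : Subgroup G) (hA : A.Normal)
    (hAc : IsMulCommutative A) : A ≤ Cfsg.puigStep X := by
  unfold Cfsg.puigStep
  apply le_sSup
  refine ⟨hAc, ?_⟩
  rw [Subgroup.normalizer_eq_top]
  exact le_top

/-- Let p be a prime and R a nontrivial finite p-group. Then for every i > 0, Z(R) ≤ C_R(L_i(R)) ≤ L_i(R); likewise Z(R) ≤ C_R(L_*(R)) ≤ L_*(R) and Z(R) ≤ C_R(L(R)) ≤ L(R); and L(R) ≠ 1, L_*(R) ≠ 1. -/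
theorem result {R : Type*} [Group R] [Finite R] (p : ℕ) [Fact p.Prime] (hR : IsPGroup p R) [Nontrivial R] :
    (∀ i : ℕ, 0 < i → Subgroup.center R ≤ Subgroup.centralizer ((Cfsg.puigSeq R i : Subgroup R) : Set R) ∧
        Subgroup.centralizer ((Cfsg.puigSeq R i : Subgroup R) : Set R) ≤ Cfsg.puigSeq R i) ∧
      (Subgroup.center R ≤ Subgroup.centralizer ((Cfsg.puigLower R : Subgroup R) : Set R) ∧ Subgroup.centralizer ((Cfsg.puigLower R : Subgroup R) : Set R) ≤ Cfsg.puigLower R) ∧
      (Subgroup.center R ≤ Subgroup.centralizer ((Cfsg.puigSubgroup R : Subgroup R) : Set R) ∧ Subgroup.centralizer ((Cfsg.puigSubgroup R : Subgroup R) : Set R) ≤ Cfsg.puigSubgroup R) ∧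
      Cfsg.puigSubgroup R ≠ ⊥ ∧ Cfsg.puigLower R ≠ ⊥ := by
  have main : ∀ i : ℕ, 0 < i →
      Subgroup.center R ≤ Subgroup.centralizer ((Cfsg.puigSeq R i : Subgroup R) : Set R) ∧
        Subgroup.centralizer ((Cfsg.puigSeq R i : Subgroup R) : Set R) ≤ Cfsg.puigSeq R i := by
    intro i hi
    refine ⟨Subgroup.center_le_centralizer _, ?_⟩
    obtain ⟨j, rfl⟩ : ∃ j, i = j + 1 := ⟨i - 1, by omega⟩
    haveI := puigSeq_normal (G := R) (j + 1)
    apply centralizer_le_of_contains_normal_abelian p hR
    intro A hA hAc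
    exact normal_abelian_le_puigStep _ A hA hAc
  obtain ⟨_, _, _, ⟨k, hk⟩, _, _, _⟩ := Cfsg.Agent.S1467.result (G := R)
  have hlow : Cfsg.puigSeq R (2 * (k + 1)) = Cfsg.puigLower R := (hk (k + 1) (Nat.le_succ k)).1
  have hup : Cfsg.puigSeq R (2 * (k + 1) + 1) = Cfsg.puigSubgroup R := (hk (k + 1) (Nat.le_succ k)).2
  have mlow := main (2 * (k + 1)) (by omega)
  have mup := main (2 * (k + 1) + 1) (by omega)
  rw [hlow] at mlow
  rw [hup] at mup
  have hZ : Subgroup.center R ≠ ⊥ := (hR.bot_lt_center).ne'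
  refine ⟨main, mlow, mup, ?_, ?_⟩
  · intro h
    apply hZ
    rw [eq_bot_iff, ← h]
    exact mup.1.trans mup.2
  · intro h
    apply hZ
    rw [eq_bot_iff, ← h]
    exact mlow.1.trans mlow.2

end Cfsg.Agent.S1466
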