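import Cfsg.Statements.S1465
import Cfsg.Agent.Lib.Helper35.PStabMain
import Cfsg.Agent.Lib.Helper53.SolvPSolv
import Cfsg.Agent.Lib.Helper54.PConstr4

set_option autoImplicit false
open Cfsg

namespace Cfsg.Agent.S1465

open Cfsg.Agent.Lib.Helper35 Cfsg.Agent.Lib.Helper35.PStab Cfsg.Agent.Lib.Helper22
open scoped commutatorElement

/-- Let p be an odd prime, G a solvable group of odd order, P a normal p-subgroup of G, and X the subgroup generated by a family of abelian p-subgroups of G each normalized by P. Then the image of X in G/C_G(P) lies in O_p(G/C_G(P)); and if O_{p'}(G) = 1 and O_p(G) ∩ C_G(P) ≤ P then X ≤ O_p(G). -/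
theorem result {G : Type*} [Group G] [Finite G] [Group.IsSolvable G] (hodd : Odd (Nat.card G)) (p : ℕ) [Fact p.Prime] (hp : p ≠ 2) (P : Subgroup G) [P.Normal] (hP : IsPGroup p P)
    (S : Set (Subgroup G)) (hS : ∀ B ∈ S, IsMulCommutative B ∧ IsPGroup p B ∧ P ≤ Subgroup.normalizer (B : Set G)) :
    (sSup S).map (QuotientGroup.mk' (Subgroup.centralizer (P : Set G))) ≤ Cfsg.pCore p (G ⧸ Subgroup.centralizer (P : Set G)) ∧
      (Cfsg.pPrimeCore p G = ⊥ → Cfsg.pCore p G ⊓ Subgroup.centralizer (P : Set G) ≤ P → sSup S ≤ Cfsg.pCore p G) := by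
  have hGsolv : Group.IsSolvable G := inferInstance
  have hGps : IsPSolvable p G := Cfsg.Agent.Lib.Helper53.isPSolvable_of_isSolvable p hGsolv
  have hNoSL : NoSL p G := noSL_of_odd hodd
  set C := Subgroup.centralizer (P : Set G) with hC
  have part1 : (sSup S).map (QuotientGroup.mk' C) ≤ Cfsg.pCore p (G ⧸ C) := by
    rw [Subgroup.map_le_iff_le_comap]
    apply sSup_le
    intro B hB b hb
    obtain ⟨hBc, hBp, hBn⟩ := hS B hB
    rw [Subgroup.mem_comap]
    apply mem_pCore_quotient hp hGps hNoSL P hP b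
    intro v hv
    have hvn := hBn hv
    have h1 : ⁅b, v⁆ ∈ B := by
      rw [commutatorElement_def, mul_assoc, mul_assoc]
      apply B.mul_mem hb
      rw [← mul_assoc]
      exact (Subgroup.mem_normalizer_iff.mp hvn b⁻¹).mp (B.inv_mem hb)
    have := hBc.is_comm.comm ⟨b, hb⟩ ⟨⁅b, v⁆, h1⟩
    have h2 : b * ⁅b, v⁆ = ⁅b, v⁆ * b := congrArg Subtype.val this
    rw [commutatorElement_def b ⁅b, v⁆, h2]
    group
  refine ⟨part1, ?_⟩
  intro hO hOC
  -- `C` is a `p`-group
  have hCsolv : Group.IsSolvable C := inferInstance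
  have hCps : IsPSolvable p C := Cfsg.Agent.Lib.Helper53.isPSolvable_of_isSolvable p hCsolv
  have hOC' : pPrimeCore p C = ⊥ := by
    have h1 := Cfsg.Agent.Lib.Helper54.map_pPrimeCore_le_of_normal p C
    rw [hO] at h1
    rw [eq_bot_iff]
    intro x hx
    have : (C.subtype x) ∈ (⊥ : Subgroup G) := h1 ⟨x, hx, rfl⟩
    rw [Subgroup.mem_bot] at this ⊢
    exact Subtype.ext this
  have hHH := Cfsg.Agent.Lib.Helper76.centralizer_pCore_le_of_isPSolvable hCps hOC'
  have hpC : (pCore p C).map C.subtype ≤ P := by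
    intro x hx
    apply hOC
    refine ⟨Cfsg.Agent.Lib.Helper54.map_pCore_le_of_normal p C hx, ?_⟩
    obtain ⟨y, -, rfl⟩ := hx
    exact y.2
  have hCtop : Subgroup.centralizer (pCore p C : Set C) = ⊤ := by
    rw [eq_top_iff]
    intro x _
    rw [Subgroup.mem_centralizer_iff]
    intro y hy
    have hyP : (y : G) ∈ P := hpC ⟨y, hy, rfl⟩
    have := (Subgroup.mem_centralizer_iff.mp x.2) (y : G) hyP
    exact Subtype.ext this
  have hCp : IsPGroup p C := by
    have h1 : (⊤ : Subgroup C) ≤ pCore p C := hCtop ▸ hHH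
    have h2 : IsPGroup p (pCore p C) := pCore_isPGroup' p C
    intro x
    obtain ⟨k, hk⟩ := h2 ⟨x, h1 (Subgroup.mem_top x)⟩
    exact ⟨k, congrArg Subtype.val hk⟩
  -- the preimage `K` of `O_p(G/C)` is a normal `p`-subgroup
  set K := (pCore p (G ⧸ C)).comap (QuotientGroup.mk' C) with hK
  have hKn : K.Normal := Subgroup.Normal.comap (pCore_normal' p _) _
  have hKp : IsPGroup p K := by
    rintro ⟨x, hx⟩
    have h2 : IsPGroup p (pCore p (G ⧸ C)) := pCore_isPGroup' p _
    obtain ⟨k, hk⟩ := h2 ⟨QuotientGroup.mk' C x, hx⟩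
    have hk' : (QuotientGroup.mk' C x) ^ p ^ k = 1 := congrArg Subtype.val hk
    rw [← map_pow] at hk'
    have hxC : x ^ p ^ k ∈ C := (QuotientGroup.eq_one_iff _).mp hk'
    obtain ⟨j, hj⟩ := hCp ⟨x ^ p ^ k, hxC⟩
    have hj' : (x ^ p ^ k) ^ p ^ j = 1 := congrArg Subtype.val hj
    refine ⟨k + j, Subtype.ext ?_⟩
    show x ^ p ^ (k + j) = 1
    rw [pow_add, pow_mul, hj']
  have hSK : sSup S ≤ K := by
    rw [hK, ← Subgroup.map_le_iff_le_comap]
    exact part1
  exact hSK.trans (le_pCore' hKn hKp)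

end Cfsg.Agent.S1465
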