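import Cfsg.Statements.S0649

set_option autoImplicit false
open Cfsg

namespace Cfsg.Agent.S0649

theorem result {S : Type*} [Group S] [Finite S] {p : ℕ} [Fact p.Prime] (hS : IsPGroup p S) (B : Subgroup S) [B.Normal] (hB2 : p = 2 → IsMulCommutative B) (A : Subgroup S) (hA : IsMulCommutative A) (hBA : ⁅B, B⁆ ≤ A) (hnot : ¬ B ≤ Subgroup.normalizer (A : Set S)) : ∃ b ∈ B, b ∈ Subgroup.normalizer ((Subgroup.normalizer (A : Set S)) : Set S) ∧ b ∉ Subgroup.normalizer (A : Set S) := by
  set N := Subgroup.normalizer (A : Set S) with hN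
  set K := N ⊔ B with hK
  have hNK : N ≤ K := le_sup_left
  have hKp : IsPGroup p K := hS.to_subgroup K
  haveI : Group.IsNilpotent K := hKp.isNilpotent
  have hnc : NormalizerCondition K := Group.normalizerCondition_of_isNilpotent
  have hlt : N.subgroupOf K < ⊤ := by
    rw [lt_top_iff_ne_top, Ne, Subgroup.subgroupOf_eq_top]
    intro h
    exact hnot (le_sup_right.trans h)
  have h2 := hnc _ hlt
  rw [← Subgroup.subgroupOf_normalizer_eq hNK] at h2
  obtain ⟨x, hx1, hx2⟩ := SetLike.exists_of_lt h2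
  rw [Subgroup.mem_subgroupOf] at hx1 hx2
  obtain ⟨n, hn, b, hb, hnb⟩ := Subgroup.mem_sup_of_normal_right.mp x.2
  refine ⟨b, hb, ?_, ?_⟩
  · have : b = n⁻¹ * (x : S) := by rw [← hnb]; group
    rw [this]
    exact mul_mem (inv_mem (Subgroup.le_normalizer hn)) hx1
  · intro hbN
    apply hx2
    rw [← hnb]
    exact mul_mem hn hbN

end Cfsg.Agent.S0649
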