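import Cfsg.Statements.S1027
import Cfsg.Agent.Lib.Helper18.ChevOrdMain

set_option autoImplicit false
open Cfsg

namespace Cfsg.Agent.S1027

open Cfsg.Agent.Lib.Helper18 Cfsg.Agent.Lib.Helper36 in
/-- For the subgroup `U` generated by the root elements `x_r(t)` of the positive roots `r`: `|U| = q^N` over a field with `q` elements, where `N` is the number of positive roots (half the number of roots). -/
theorem result {F : Type*} [Field F] [Fintype F] (D : Cfsg.Lie.ChevalleyDatum) (hD : D ∈ [Cfsg.Lie.chevG2, Cfsg.Lie.chevB2, Cfsg.Lie.chevD4, Cfsg.Lie.chevF4, Cfsg.Lie.chevE6, Cfsg.Lie.chevE7, Cfsg.Lie.chevE8]) :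
    Nat.card (D.posUnipotent F) = Fintype.card F ^ (D.nroots / 2) := by
  classical
  let S : Finset ℕ := D.posRoots.toFinset
  have hS : ∀ r, r ∈ S ↔ D.IsPosRoot r := fun r => by
    rw [List.mem_toFinset]; exact mem_posRoots D r
  let ext : (S → F) → ℕ → F := fun f r => if h : r ∈ S then f ⟨r, h⟩ else 0
  let Φ : (S → F) → D.posUnipotent F := fun f =>
    ⟨wordGL D hD F (D.posRoots.map fun r => (r, ext f r)), pos_word_mem D hD F _⟩
  have hinj : Function.Injective Φ := by
    intro f f' h
    have h1 : wordGL D hD F (D.posRoots.map fun r => (r, ext f r)) =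
        wordGL D hD F (D.posRoots.map fun r => (r, ext f' r)) := congrArg Subtype.val h
    have h2 : D.wordMat F (D.posRoots.map fun r => (r, ext f r)) =
        D.wordMat F (D.posRoots.map fun r => (r, ext f' r)) := by
      rw [← wordGL_coe D hD, ← wordGL_coe D hD, h1]
    funext ⟨r, hr⟩
    have := pos_unique D hD F _ _ h2 r ((hS r).1 hr)
    simpa [ext, hr] using this
  have hsurj : Function.Surjective Φ := by
    rintro ⟨g, hg⟩
    obtain ⟨t, ht0, ht⟩ := pos_exists D hD F g hg
    refine ⟨fun p => t p.1, ?_⟩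
    apply Subtype.ext
    apply Units.ext
    show ((wordGL D hD F (D.posRoots.map fun r => (r, ext (fun p => t p.1) r)) : GL D.Idx F) :
      Matrix D.Idx D.Idx F) = (g : Matrix D.Idx D.Idx F)
    rw [wordGL_coe, ht]
    congr 2
    funext r
    by_cases hr : r ∈ S
    · simp [ext, hr]
    · simp only [ext, hr, dite_false]
      rw [ht0 r (fun h => hr ((hS r).2 h))]
  have hcard : Nat.card (D.posUnipotent F) = Nat.card (S → F) :=
    (Nat.card_congr (Equiv.ofBijective Φ ⟨hinj, hsurj⟩)).symm
  rw [hcard, Nat.card_eq_fintype_card, Fintype.card_fun, Fintype.card_coe]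
  congr 1
  show D.posRoots.toFinset.card = D.nroots / 2
  rw [List.toFinset_card_of_nodup, posRoots_length D hD]
  unfold Cfsg.Lie.ChevalleyDatum.posRoots
  exact List.Nodup.filter _ List.nodup_range

end Cfsg.Agent.S1027
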