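import Cfsg.Statements.S5079
import Cfsg.Agent.Lib.Helper84.FusionAut

set_option autoImplicit false
open Cfsg

namespace Cfsg.Agent.S5079

/-- Kept for compatibility with `Lib/Helper87/Lemma26.lean`, which cites it by this name. -/
theorem map_subgroupOf_eq_iff' {Ω : Type*} [Group Ω] {R Q P : Subgroup Ω} (ψ : R →* Ω) :
    (Q.subgroupOf R).map ψ = P ↔
      (∀ y : R, (y : Ω) ∈ Q → ψ y ∈ P) ∧ ∀ q ∈ P, ∃ y : R, (y : Ω) ∈ Q ∧ ψ y = q := by
  constructor
  · intro h
    refine ⟨fun y hy => ?_, fun q hq => ?_⟩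
    · rw [← h]
      exact ⟨y, Subgroup.mem_subgroupOf.mpr hy, rfl⟩
    · rw [← h] at hq
      obtain ⟨y, hy, rfl⟩ := hq
      exact ⟨y, Subgroup.mem_subgroupOf.mp hy, rfl⟩
  · rintro ⟨h1, h2⟩
    apply le_antisymm
    · rintro _ ⟨y, hy, rfl⟩
      exact h1 y (Subgroup.mem_subgroupOf.mp hy)
    · intro q hq
      obtain ⟨y, hy, rfl⟩ := h2 q hq
      exact ⟨y, Subgroup.mem_subgroupOf.mpr hy, rfl⟩

/-- In any fusion system over a finite p-group S: if P is fully automized and receptive and Q is conjugate to P in the system, then there is a map of the system with source N_S(Q) and values in N_S(P) carrying Q onto P. -/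
theorem result {Ω : Type*} [Group Ω] {S : Subgroup Ω} [Finite S] (p : ℕ) [Fact p.Prime] (hS : IsPGroup p S) (F : Cfsg.FusionSystem S) (P Q : Subgroup Ω) (h₁ : F.IsFullyAutomized p P) (h₂ : F.IsReceptive P) (hQ : F.IsConj Q P) : ∃ φ ∈ F.Hom (Cfsg.FusionSystem.normalizerIn S Q), (∀ x, φ x ∈ Cfsg.FusionSystem.normalizerIn S P) ∧ (Q.subgroupOf (Cfsg.FusionSystem.normalizerIn S Q)).map φ = P :=
  Cfsg.Agent.Lib.Helper84.exists_hom_normalizer hS F h₁ h₂ hQ

end Cfsg.Agent.S5079
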