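import Cfsg.Statements.S0740

set_option autoImplicit false
open Cfsg

namespace Cfsg.Agent.S0740

open MulAction

theorem inv_fixed {G Ω : Type*} [Group G] [MulAction G Ω] [Fintype Ω]
    (h3 : ∀ g : G, ∀ a b c : Ω, a ≠ b → b ≠ c → a ≠ c → g • a = a → g • b = b → g • c = c → g = 1)
    (s : G) (hs : orderOf s = 2) :
    (Odd (Fintype.card Ω) → Nat.card (MulAction.fixedBy Ω s) = 1) ∧
    (Even (Fintype.card Ω) → Nat.card (MulAction.fixedBy Ω s) = 0 ∨
      Nat.card (MulAction.fixedBy Ω s) = 2) := by
  classical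
  have : Fact (Nat.Prime 2) := ⟨Nat.prime_two⟩
  have hle : Nat.card (MulAction.fixedBy Ω s) ≤ 2 := by
    by_contra hcon
    push Not at hcon
    rw [Nat.card_eq_fintype_card, Fintype.two_lt_card_iff] at hcon
    obtain ⟨⟨a, ha⟩, ⟨b, hb⟩, ⟨c, hc⟩, hab, hac, hbc⟩ := hcon
    have h1 : s = 1 := h3 s a b c (fun h => hab (Subtype.ext h)) (fun h => hbc (Subtype.ext h))
      (fun h => hac (Subtype.ext h)) ha hb hc
    rw [h1, orderOf_one] at hs
    omega
  have hpg : IsPGroup 2 (Subgroup.zpowers s) := by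
    apply IsPGroup.of_card (n := 1)
    rw [Nat.card_zpowers, hs, pow_one]
  have hfix : MulAction.fixedPoints (Subgroup.zpowers s) Ω = MulAction.fixedBy Ω s := by
    ext x
    constructor
    · intro hx
      exact hx ⟨s, Subgroup.mem_zpowers s⟩
    · intro hx g
      have h1 : s ∈ MulAction.stabilizer G x := hx
      have h2 : Subgroup.zpowers s ≤ MulAction.stabilizer G x := (Subgroup.zpowers_le).mpr h1
      exact h2 g.2
  have hmod := hpg.card_modEq_card_fixedPoints Ω
  rw [hfix, Nat.card_eq_fintype_card] at hmod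
  unfold Nat.ModEq at hmod
  constructor
  · intro hodd
    rw [Nat.odd_iff] at hodd
    omega
  · intro heven
    rw [Nat.even_iff] at heven
    omega

/-- In a finite Zassenhaus group any two points `a ≠ b` are swapped by an involution; every such involution has exactly one fixed point when the degree is odd and 0 or 2 fixed points when the degree is even; and if the two-point stabiliser has even order, some such involution has exactly 2 fixed points. -/
theorem result {G Ω : Type*} [Group G] [Finite G] [MulAction G Ω] [Fintype Ω] (hZ : Cfsg.IsZassenhausGroup G Ω) {a b : Ω} (hab : a ≠ b) : (∃ s : G, orderOf s = 2 ∧ s • a = b ∧ s • b = a) ∧ (∀ s : G, orderOf s = 2 → s • a = b → s • b = a → (Odd (Fintype.card Ω) → Nat.card (MulAction.fixedBy Ω s) = 1) ∧ (Even (Fintype.card Ω) → Nat.card (MulAction.fixedBy Ω s) = 0 ∨ Nat.card (MulAction.fixedBy Ω s) = 2)) ∧ (Even (Fintype.card Ω) → Even (Nat.card ↥(MulAction.stabilizer G a ⊓ MulAction.stabilizer G b)) → ∃ s : G, orderOf s = 2 ∧ s • a = b ∧ s • b =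 a ∧ Nat.card (MulAction.fixedBy Ω s) = 2) := by
  classical
  obtain ⟨hfaith, h2t, h3, _, _⟩ := hZ
  have : Fact (Nat.Prime 2) := ⟨Nat.prime_two⟩
  rw [is_two_pretransitive_iff] at h2t
  -- conjugating an involution that moves a point
  have hconj : ∀ u : G, orderOf u = 2 → ∀ c : Ω, u • c ≠ c →
      ∃ x : G, orderOf (x * u * x⁻¹) = 2 ∧ (x * u * x⁻¹) • a = b ∧ (x * u * x⁻¹) • b = a := by
    intro u hu c hc
    have huu : u * u = 1 := by
      rw [← sq, ← hu]; exact pow_orderOf_eq_one u
    obtain ⟨x, hxc, hxd⟩ := h2t (a := c) (b := u • c) (c := a) (d := b) (Ne.symm hc) hab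
    have hxa : x⁻¹ • a = c := by rw [inv_smul_eq_iff, hxc]
    have hxb : x⁻¹ • b = u • c := by rw [inv_smul_eq_iff, hxd]
    refine ⟨x, ?_, ?_, ?_⟩
    · apply orderOf_eq_prime
      · rw [sq]
        calc x * u * x⁻¹ * (x * u * x⁻¹) = x * (u * u) * x⁻¹ := by group
          _ = 1 := by rw [huu]; group
      · intro h1
        have : u = 1 := by
          calc u = x⁻¹ * (x * u * x⁻¹) * x := by group
            _ = x⁻¹ * 1 * x := by rw [h1]
            _ = 1 := by group
        rw [this, orderOf_one] at hu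
        omega
    · rw [mul_smul, mul_smul, hxa, hxd]
    · rw [mul_smul, mul_smul, hxb, ← mul_smul u u, huu, one_smul, hxc]
  have hmoves : ∀ u : G, u ≠ 1 → ∃ c : Ω, u • c ≠ c := by
    intro u hu1
    by_contra hcon
    push Not at hcon
    apply hu1
    apply hfaith.eq_of_smul_eq_smul
    intro c
    rw [hcon c, one_smul]
  refine ⟨?_, ?_, ?_⟩
  · -- existence
    obtain ⟨g, hga, hgb⟩ := h2t hab (Ne.symm hab)
    have heven : 2 ∣ Nat.card G := by
      have h1 : 2 ∣ orderOf g := by
        by_contra hodd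
        have hodd' : orderOf g % 2 = 1 := by omega
        have hgg : ∀ k : ℕ, g ^ (2 * k) • a = a := by
          intro k
          induction k with
          | zero => simp
          | succ k ih =>
            rw [show 2 * (k + 1) = 2 * k + 2 by ring, pow_add, mul_smul, sq, mul_smul, hga, hgb, ih]
        have h2 : g ^ (orderOf g) • a = b := by
          have : orderOf g = 2 * (orderOf g / 2) + 1 := by omega
          rw [this, pow_succ', mul_smul, hgg, hga]
        rw [pow_orderOf_eq_one, one_smul] at h2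
        exact hab h2
      exact h1.trans (orderOf_dvd_natCard g)
    obtain ⟨u, hu⟩ := exists_prime_orderOf_dvd_card' (G := G) 2 heven
    have hu1 : u ≠ 1 := by
      intro h; rw [h, orderOf_one] at hu; omega
    obtain ⟨c, hc⟩ := hmoves u hu1
    obtain ⟨x, hx⟩ := hconj u hu c hc
    exact ⟨_, hx⟩
  · intro s hs _ _
    exact inv_fixed h3 s hs
  · intro hΩ hH
    obtain ⟨u', hu'⟩ := exists_prime_orderOf_dvd_card'
      (G := ↥(MulAction.stabilizer G a ⊓ MulAction.stabilizer G b)) 2 hH.two_dvd
    obtain ⟨u, hu⟩ : ∃ u : G, u = (u' : G) := ⟨_, rfl⟩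
    have huo : orderOf u = 2 := by rw [hu, Subgroup.orderOf_coe, hu']
    have hu1 : u ≠ 1 := by
      intro h; rw [h, orderOf_one] at huo; omega
    have hua : u • a = a := by
      have := u'.2.1
      rw [hu]; exact this
    obtain ⟨c, hc⟩ := hmoves u hu1
    obtain ⟨x, hx1, hx2, hx3⟩ := hconj u huo c hc
    refine ⟨_, hx1, hx2, hx3, ?_⟩
    rcases (inv_fixed h3 _ hx1).2 hΩ with h0 | h2
    · exfalso
      have hmem : x • a ∈ MulAction.fixedBy Ω (x * u * x⁻¹) := by
        rw [MulAction.mem_fixedBy, mul_smul, mul_smul, inv_smul_smul, hua]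
      have : Nonempty (MulAction.fixedBy Ω (x * u * x⁻¹)) := ⟨⟨_, hmem⟩⟩
      have hpos : 0 < Nat.card (MulAction.fixedBy Ω (x * u * x⁻¹)) := Nat.card_pos
      omega
    · exact h2

end Cfsg.Agent.S0740
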