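import Cfsg.Statements.S0878

set_option autoImplicit false
open Cfsg

namespace Cfsg.Agent.S0878

open MulAction

variable {G Ω : Type*} [Group G] [MulAction G Ω]

/-- orbit-stabilizer for the point stabilizer acting on the remaining points -/
theorem card_two_point_stab_mul [Fintype G] [Fintype Ω] [DecidableEq Ω] [DecidableEq G]
    (h2t : ∀ {a b c d : Ω} (_ : a ≠ b) (_ : c ≠ d), ∃ g : G, g • a = c ∧ g • b = d)
    (a c : Ω) (hca : c ≠ a) :
    (Finset.univ.filter (fun x : G => x • a = a ∧ x • c = c)).card * (Fintype.card Ω - 1) =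
      (Finset.univ.filter (fun x : G => x • a = a)).card := by
  let S : Subgroup G := stabilizer G a
  have h1 : Nat.card (stabilizer S c) * (stabilizer S c).index = Nat.card S :=
    Subgroup.card_mul_index _
  have h2 : (stabilizer S c).index = (orbit S c).ncard := index_stabilizer S c
  have h3 : orbit S c = ((Finset.univ.filter (fun d : Ω => d ≠ a) : Finset Ω) : Set Ω) := by
    ext d
    simp only [Finset.coe_filter, Finset.mem_univ, true_and, Set.mem_ofPred_eq]
    constructor
    · rintro ⟨s, rfl⟩ hsa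
      apply hca
      have : (s : G) • c = a := hsa
      have hs : (s : G) • a = a := s.2
      have := congrArg (fun z => (s : G)⁻¹ • z) (this.trans hs.symm)
      simpa using this
    · intro hda
      obtain ⟨g, hga, hgc⟩ := h2t (Ne.symm hca) (Ne.symm hda)
      exact ⟨⟨g, hga⟩, hgc⟩
  have h4 : (orbit S c).ncard = Fintype.card Ω - 1 := by
    rw [h3, Set.ncard_coe_finset, Finset.filter_ne', Finset.card_erase_of_mem (Finset.mem_univ a),
      Finset.card_univ]
  have h5 : Nat.card S = (Finset.univ.filter (fun x : G => x • a = a)).card := by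
    rw [← Fintype.card_subtype, ← Nat.card_eq_fintype_card]
    exact Nat.card_congr (Equiv.subtypeEquivRight (fun x => mem_stabilizer_iff))
  have h6 : Nat.card (stabilizer S c) =
      (Finset.univ.filter (fun x : G => x • a = a ∧ x • c = c)).card := by
    rw [← Fintype.card_subtype, ← Nat.card_eq_fintype_card]
    refine Nat.card_congr
      { toFun := fun x => ⟨x.1.1, x.1.2, x.2⟩
        invFun := fun x => ⟨⟨x.1, x.2.1⟩, x.2.2⟩
        left_inv := fun x => rfl
        right_inv := fun x => rfl }
  rw [← h6, ← h5, ← h4, ← h2, h1]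

theorem card_kernel_le [Fintype G] [Fintype Ω] [DecidableEq Ω] [DecidableEq G]
    (h2t : ∀ {a b c d : Ω} (_ : a ≠ b) (_ : c ≠ d), ∃ g : G, g • a = c ∧ g • b = d)
    (h3 : ∀ g : G, ∀ a b c : Ω, a ≠ b → b ≠ c → a ≠ c → g • a = a → g • b = b → g • c = c → g = 1)
    (a : Ω) (hn : 2 ≤ Fintype.card Ω) :
    (Finset.univ.filter (fun x : G => x • a = a ∧ (x = 1 ∨ ∀ c, x • c = c → c = a))).card ≤
      Fintype.card Ω - 1 := by
  set n := Fintype.card Ω with hn'
  set Sf : Finset G := Finset.univ.filter (fun x : G => x • a = a) with hSf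
  set Kf : Finset G :=
    Finset.univ.filter (fun x : G => x • a = a ∧ (x = 1 ∨ ∀ c, x • c = c → c = a)) with hKf
  set Ω' : Finset Ω := Finset.univ.filter (fun d : Ω => d ≠ a) with hΩ'
  have hΩ'card : Ω'.card = n - 1 := by
    rw [hΩ', Finset.filter_ne', Finset.card_erase_of_mem (Finset.mem_univ a), Finset.card_univ]
  let r : G → Ω → Prop := fun x c => x • c = c
  have hdc := Finset.sum_card_bipartiteAbove_eq_sum_card_bipartiteBelow (s := Sf) (t := Ω') r
  have hbelow : ∀ c ∈ Ω', (Sf.bipartiteBelow r c).card * (n - 1) = Sf.card := by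
    intro c hc
    have hca : c ≠ a := (Finset.mem_filter.mp hc).2
    have := card_two_point_stab_mul h2t a c hca
    rw [← this]
    congr 2
    ext x
    simp [Finset.bipartiteBelow, hSf, r]
  have hsum : (∑ x ∈ Sf, (Ω'.bipartiteAbove r x).card) * (n - 1) = Sf.card * (n - 1) := by
    rw [hdc, Finset.sum_mul, Finset.sum_congr rfl hbelow, Finset.sum_const, hΩ'card, smul_eq_mul,
      mul_comm]
  have hpos : 0 < n - 1 := by omega
  have hsum' : ∑ x ∈ Sf, (Ω'.bipartiteAbove r x).card = Sf.card :=
    Nat.eq_of_mul_eq_mul_right hpos hsum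
  have hKS : Kf ⊆ Sf := by
    intro x hx
    rw [hKf, Finset.mem_filter] at hx
    rw [hSf, Finset.mem_filter]
    exact ⟨hx.1, hx.2.1⟩
  have hsplit : ∑ x ∈ Sf, (Ω'.bipartiteAbove r x).card =
      ∑ x ∈ Kf, (Ω'.bipartiteAbove r x).card + ∑ x ∈ Sf \ Kf, (Ω'.bipartiteAbove r x).card := by
    rw [add_comm, Finset.sum_sdiff hKS]
  have h1K : (1 : G) ∈ Kf := by
    rw [hKf, Finset.mem_filter]
    exact ⟨Finset.mem_univ _, one_smul _ _, Or.inl rfl⟩
  have hK : ∑ x ∈ Kf, (Ω'.bipartiteAbove r x).card = n - 1 := by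
    rw [Finset.sum_eq_single_of_mem 1 h1K]
    · rw [← hΩ'card]
      congr 1
      ext c
      simp [Finset.bipartiteAbove, r]
    · intro x hx hx1
      rw [hKf, Finset.mem_filter] at hx
      rw [Finset.card_eq_zero, Finset.bipartiteAbove, Finset.filter_eq_empty_iff]
      intro c hc hxc
      have hca : c ≠ a := (Finset.mem_filter.mp hc).2
      rcases hx.2.2 with h | h
      · exact hx1 h
      · exact hca (h c hxc)
  have hbad : ∑ x ∈ Sf \ Kf, (Ω'.bipartiteAbove r x).card ≤ (Sf \ Kf).card * 1 := by
    apply Finset.sum_le_card_nsmul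
    intro x hx
    rw [Finset.mem_sdiff] at hx
    have hxa : x • a = a := (Finset.mem_filter.mp hx.1).2
    have hx1 : x ≠ 1 := by
      intro h
      apply hx.2
      rw [h]; exact h1K
    rw [Finset.card_le_one]
    intro c hc d hd
    rw [Finset.bipartiteAbove, Finset.mem_filter] at hc hd
    by_contra hcd
    have hca : c ≠ a := (Finset.mem_filter.mp hc.1).2
    have hda : d ≠ a := (Finset.mem_filter.mp hd.1).2
    exact hx1 (h3 x a c d (Ne.symm hca) hcd (Ne.symm hda) hxa hc.2 hd.2)
  have hcard : (Sf \ Kf).card = Sf.card - Kf.card := Finset.card_sdiff_of_subset hKS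
  have hle : Kf.card ≤ Sf.card := Finset.card_le_card hKS
  omega

/-- at least three points -/
theorem three_le_card [Fintype Ω] (hZ : Cfsg.IsZassenhausGroup G Ω) : 3 ≤ Fintype.card Ω := by
  classical
  obtain ⟨hfaith, -, -, ⟨g0, hg0, a0, b0, hab0, hga0, hgb0⟩, -⟩ := hZ
  have : ∃ c : Ω, g0 • c ≠ c := by
    by_contra hcon
    push Not at hcon
    apply hg0
    apply hfaith.eq_of_smul_eq_smul
    intro c
    rw [hcon c, one_smul]
  obtain ⟨c, hc⟩ := this
  have hca : c ≠ a0 := fun h => hc (h ▸ hga0)
  have hcb : c ≠ b0 := fun h => hc (h ▸ hgb0)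
  have h3 : ({a0, b0, c} : Finset Ω).card = 3 := by
    rw [Finset.card_insert_of_notMem, Finset.card_insert_of_notMem, Finset.card_singleton]
    · simpa using Ne.symm hcb
    · simp only [Finset.mem_insert, Finset.mem_singleton, not_or]
      exact ⟨hab0, Ne.symm hca⟩
  rw [← h3, ← Finset.card_univ]
  exact Finset.card_le_card (Finset.subset_univ _)

theorem result {G Ω : Type*} [Group G] [Finite G] [MulAction G Ω] [Fintype Ω] (hZ : Cfsg.IsZassenhausGroup G Ω) (a : Ω) (H : Subgroup G) (hHa : H ≤ MulAction.stabilizer G a) (hHcard : Nat.card H + 1 = Fintype.card Ω) (hHfix : ∀ u ∈ H, u ≠ 1 → ∀ c : Ω, u • c = c → c = a) : (∀ g : G, g ∉ MulAction.stabilizer G a → ∀ u ∈ H, g * u * g⁻¹ ∈ H → u = 1) ∧ Subgroup.normalizer (H : Set G) = MulAction.stabilizer G a := by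
  classical
  have := Fintype.ofFinite G
  have hn3 := three_le_card hZ
  obtain ⟨hfaith, h2t, h3, -, -⟩ := hZ
  rw [MulAction.is_two_pretransitive_iff] at h2t
  have part1 : ∀ g : G, g ∉ MulAction.stabilizer G a → ∀ u ∈ H, g * u * g⁻¹ ∈ H → u = 1 := by
    intro g hg u hu hgu
    by_contra hu1
    have hne : g * u * g⁻¹ ≠ 1 := by
      intro h; apply hu1
      have : u = g⁻¹ * (g * u * g⁻¹) * g := by group
      rw [this, h]; group
    have hfix : (g * u * g⁻¹) • (g • a) = g • a := by
      have hua : u • a = a := hHa hu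
      rw [mul_smul, mul_smul, inv_smul_smul, hua]
    exact hg (hHfix _ hgu hne (g • a) hfix)
  refine ⟨part1, ?_⟩
  -- kernel set is contained in H
  have hKH : ∀ x : G, x • a = a → (x = 1 ∨ ∀ c, x • c = c → c = a) → x ∈ H := by
    set Kf : Finset G :=
      Finset.univ.filter (fun x : G => x • a = a ∧ (x = 1 ∨ ∀ c, x • c = c → c = a)) with hKf
    set Hf : Finset G := Finset.univ.filter (fun x : G => x ∈ H) with hHf
    have hHfcard : Hf.card = Nat.card H := by
      rw [hHf, ← Fintype.card_subtype, ← Nat.card_eq_fintype_card]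
    have hKle : Kf.card ≤ Fintype.card Ω - 1 := card_kernel_le h2t h3 a (by omega)
    have hHK : Hf ⊆ Kf := by
      intro x hx
      rw [hHf, Finset.mem_filter] at hx
      rw [hKf, Finset.mem_filter]
      refine ⟨Finset.mem_univ _, hHa hx.2, ?_⟩
      by_cases hx1 : x = 1
      · exact Or.inl hx1
      · exact Or.inr (hHfix x hx.2 hx1)
    have heq : Hf = Kf := Finset.eq_of_subset_of_card_le hHK (by omega)
    intro x hxa hx
    have : x ∈ Kf := by
      rw [hKf, Finset.mem_filter]
      exact ⟨Finset.mem_univ _, hxa, hx⟩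
    rw [← heq, hHf, Finset.mem_filter] at this
    exact this.2
  have hconj : ∀ g : G, g • a = a → ∀ u ∈ H, g * u * g⁻¹ ∈ H := by
    intro g hga u hu
    have hginv : g⁻¹ • a = a := by
      have := congrArg (fun z => g⁻¹ • z) hga
      simpa using this.symm
    apply hKH
    · have hua : u • a = a := hHa hu
      rw [mul_smul, mul_smul, hginv, hua, hga]
    · by_cases hu1 : u = 1
      · left; rw [hu1]; group
      · right
        intro c hc
        have : u • (g⁻¹ • c) = g⁻¹ • c := by
          have := congrArg (fun z => g⁻¹ • z) hc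
          simp only [mul_smul, inv_smul_smul] at this
          exact this
        have := hHfix u hu hu1 _ this
        have h' := congrArg (fun z => g • z) this
        simp only [smul_inv_smul] at h'
        rw [h', hga]
  ext g
  rw [Subgroup.mem_normalizer_iff, MulAction.mem_stabilizer_iff]
  constructor
  · intro hg
    by_contra hga
    have hall : ∀ u ∈ H, u = 1 := fun u hu => part1 g hga u hu ((hg u).mp hu)
    have hbot : H = ⊥ := by
      rw [Subgroup.eq_bot_iff_forall]; exact hall
    rw [hbot, Subgroup.card_bot] at hHcard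
    omega
  · intro hga u
    constructor
    · exact hconj g hga u
    · intro hu
      have hginv : g⁻¹ • a = a := by
        have := congrArg (fun z => g⁻¹ • z) hga
        simpa using this.symm
      have := hconj g⁻¹ hginv _ hu
      have e : g⁻¹ * (g * u * g⁻¹) * g⁻¹⁻¹ = u := by group
      rwa [e] at this

end Cfsg.Agent.S0878
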