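import Cfsg.Statements.S0879

set_option autoImplicit false
open Cfsg

namespace Cfsg.Agent.S0879

open MulAction

variable {G Ω : Type*} [Group G] [MulAction G Ω]

theorem inv_smul_of_smul {g : G} {c d : Ω} (h : g • c = d) : g⁻¹ • d = c := by
  rw [← h, inv_smul_smul]

/-- elements preserving `{a,b}` normalize the two point stabilizer -/
theorem conj_mem_of_preserve {a b : Ω} {g : G}
    (hg : (g • a = a ∧ g • b = b) ∨ (g • a = b ∧ g • b = a)) {x : G}
    (hx : x ∈ (stabilizer G a ⊓ stabilizer G b : Subgroup G)) :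
    g * x * g⁻¹ ∈ (stabilizer G a ⊓ stabilizer G b : Subgroup G) := by
  rw [Subgroup.mem_inf, mem_stabilizer_iff, mem_stabilizer_iff] at hx ⊢
  rcases hg with ⟨h1, h2⟩ | ⟨h1, h2⟩
  · refine ⟨?_, ?_⟩
    · rw [mul_smul, mul_smul, inv_smul_of_smul h1, hx.1, h1]
    · rw [mul_smul, mul_smul, inv_smul_of_smul h2, hx.2, h2]
  · refine ⟨?_, ?_⟩
    · rw [mul_smul, mul_smul, inv_smul_of_smul h2, hx.2, h2]
    · rw [mul_smul, mul_smul, inv_smul_of_smul h1, hx.1, h1]

theorem preserve_inv {a b : Ω} {g : G}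
    (hg : (g • a = a ∧ g • b = b) ∨ (g • a = b ∧ g • b = a)) :
    (g⁻¹ • a = a ∧ g⁻¹ • b = b) ∨ (g⁻¹ • a = b ∧ g⁻¹ • b = a) := by
  rcases hg with ⟨h1, h2⟩ | ⟨h1, h2⟩
  · exact Or.inl ⟨inv_smul_of_smul h1, inv_smul_of_smul h2⟩
  · exact Or.inr ⟨inv_smul_of_smul h2, inv_smul_of_smul h1⟩

theorem mem_normalizer_of_preserve {a b : Ω} {g : G}
    (hg : (g • a = a ∧ g • b = b) ∨ (g • a = b ∧ g • b = a)) :
    g ∈ Subgroup.normalizer ((stabilizer G a ⊓ stabilizer G b : Subgroup G) : Set G) := by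
  rw [Subgroup.mem_normalizer_iff]
  intro x
  constructor
  · exact conj_mem_of_preserve hg
  · intro hx
    have := conj_mem_of_preserve (preserve_inv hg) hx
    have e : g⁻¹ * (g * x * g⁻¹) * g⁻¹⁻¹ = x := by group
    rwa [e] at this

/-- if a nonidentity element of `E` is conjugated into `E` by `g` then `g` preserves `{a,b}` -/
theorem preserve_of_conj_mem
    (h3 : ∀ g : G, ∀ a b c : Ω, a ≠ b → b ≠ c → a ≠ c → g • a = a → g • b = b → g • c = c → g = 1)
    {a b : Ω} (hab : a ≠ b) {g x : G} (hx1 : x ≠ 1)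
    (hx : x ∈ (stabilizer G a ⊓ stabilizer G b : Subgroup G))
    (hgx : g * x * g⁻¹ ∈ (stabilizer G a ⊓ stabilizer G b : Subgroup G)) :
    (g • a = a ∧ g • b = b) ∨ (g • a = b ∧ g • b = a) := by
  rw [Subgroup.mem_inf, mem_stabilizer_iff, mem_stabilizer_iff] at hx hgx
  have hne : g * x * g⁻¹ ≠ 1 := by
    intro h; apply hx1
    have : x = g⁻¹ * (g * x * g⁻¹) * g := by group
    rw [this, h]; group
  have hfa : (g * x * g⁻¹) • (g • a) = g • a := by
    rw [mul_smul, mul_smul, inv_smul_smul, hx.1]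
  have hfb : (g * x * g⁻¹) • (g • b) = g • b := by
    rw [mul_smul, mul_smul, inv_smul_smul, hx.2]
  have hgab : g • a ≠ g • b := fun h => hab (smul_left_cancel g h)
  have hA : g • a = a ∨ g • a = b := by
    by_contra hcon
    push Not at hcon
    exact hne (h3 _ a b (g • a) hab (Ne.symm hcon.2) (Ne.symm hcon.1) hgx.1 hgx.2 hfa)
  have hB : g • b = a ∨ g • b = b := by
    by_contra hcon
    push Not at hcon
    exact hne (h3 _ a b (g • b) hab (Ne.symm hcon.2) (Ne.symm hcon.1) hgx.1 hgx.2 hfb)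
  rcases hA with hA | hA <;> rcases hB with hB | hB
  · exact absurd (hA.trans hB.symm) hgab
  · exact Or.inl ⟨hA, hB⟩
  · exact Or.inr ⟨hA, hB⟩
  · exact absurd (hA.trans hB.symm) hgab

theorem result {G Ω : Type*} [Group G] [Finite G] [MulAction G Ω] [Fintype Ω] (hZ : Cfsg.IsZassenhausGroup G Ω) {a b : Ω} (hab : a ≠ b) : (∀ g : G, g ∉ Subgroup.normalizer ((MulAction.stabilizer G a ⊓ MulAction.stabilizer G b : Subgroup G) : Set G) → ∀ x ∈ (MulAction.stabilizer G a ⊓ MulAction.stabilizer G b : Subgroup G), g * x * g⁻¹ ∈ (MulAction.stabilizer G a ⊓ MulAction.stabilizer G b : Subgroup G) → x = 1) ∧ ((MulAction.stabilizer G a ⊓ MulAction.stabilizer G b : Subgroup G).subgroupOf (Subgroup.normalizer ((MulAction.stabilizer G a ⊓ MulAction.stabilizer G b : Subgroup G) : Set G))).index = 2 := by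
  classical
  obtain ⟨hfaith, h2t, h3, ⟨g0, hg0, a0, b0, hab0, hga0, hgb0⟩, -⟩ := hZ
  rw [MulAction.is_two_pretransitive_iff] at h2t
  refine ⟨?_, ?_⟩
  · intro g hg x hx hgx
    by_contra hx1
    exact hg (mem_normalizer_of_preserve (preserve_of_conj_mem h3 hab hx1 hx hgx))
  · -- a nonidentity element of E
    obtain ⟨t, hta, htb⟩ := h2t hab0 hab
    have hx0 : t * g0 * t⁻¹ ∈ (stabilizer G a ⊓ stabilizer G b : Subgroup G) := by
      rw [Subgroup.mem_inf, mem_stabilizer_iff, mem_stabilizer_iff]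
      refine ⟨?_, ?_⟩
      · rw [mul_smul, mul_smul, inv_smul_of_smul hta, hga0, hta]
      · rw [mul_smul, mul_smul, inv_smul_of_smul htb, hgb0, htb]
    have hx01 : t * g0 * t⁻¹ ≠ 1 := by
      intro h; apply hg0
      have : g0 = t⁻¹ * (t * g0 * t⁻¹) * t := by group
      rw [this, h]; group
    -- the swap
    obtain ⟨s, hsa, hsb⟩ := h2t hab (Ne.symm hab)
    have hsN : s ∈ Subgroup.normalizer ((stabilizer G a ⊓ stabilizer G b : Subgroup G) : Set G) :=
      mem_normalizer_of_preserve (Or.inr ⟨hsa, hsb⟩)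
    rw [Subgroup.index_eq_two_iff]
    refine ⟨⟨s, hsN⟩, ?_⟩
    rintro ⟨g, hgN⟩
    have hg : (g • a = a ∧ g • b = b) ∨ (g • a = b ∧ g • b = a) := by
      apply preserve_of_conj_mem h3 hab hx01 hx0
      exact (Subgroup.mem_normalizer_iff.mp hgN _).mp hx0
    simp only [Subgroup.mem_subgroupOf, Subgroup.coe_mul, Subgroup.mem_inf, mem_stabilizer_iff,
      mul_smul, hsa, hsb]
    rcases hg with ⟨h1, h2⟩ | ⟨h1, h2⟩
    · right
      refine ⟨⟨h1, h2⟩, ?_⟩
      rintro ⟨h, -⟩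
      exact hab (h2.symm.trans h).symm
    · left
      refine ⟨⟨h2, h1⟩, ?_⟩
      rintro ⟨h, -⟩
      exact hab (h1.symm.trans h).symm

end Cfsg.Agent.S0879
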