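import Cfsg.Statements.S0880
import Cfsg.Agent.Lib.Helper97.Zass

set_option autoImplicit false
open Cfsg

namespace Cfsg.Agent.S0880

open Cfsg.Agent.Lib.Helper97.Zass MulAction

/-- the number of fixed point free elements: `2 d₀ + (n-1)(n-2) = |G|` and `|G| = e (n-1) n` -/
theorem count {G Ω : Type*} [Group G] [Fintype G] [MulAction G Ω] [Fintype Ω] [DecidableEq G]
    [DecidableEq Ω] (hy : Hyp G Ω) {a b : Ω} (hab : a ≠ b) (m : ℕ)
    (hm : Fintype.card Ω = m + 3) :
    Fintype.card G = 2 * (Finset.univ.filter (fun g : G => ∀ c : Ω, g • c ≠ c)).card +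
      (m + 2) * (m + 1) ∧
    Fintype.card G =
      (Finset.univ.filter (fun x : G => x • a = a ∧ x • b = b)).card * (m + 2) * (m + 3) := by
  have hpt : MulAction.IsPretransitive G Ω := by
    refine ⟨fun c d => ?_⟩
    by_cases hcd : c = d
    · exact ⟨1, by rw [one_smul, hcd]⟩
    · obtain ⟨c', hc'⟩ := exists_ne hy c
      obtain ⟨d', hd'⟩ := exists_ne hy d
      obtain ⟨g', hg'c, -⟩ := hy.h2 (Ne.symm hc') (Ne.symm hd')
      exact ⟨g', hg'c⟩
  -- orbit stabiliser for points
  have hOS1 : ∀ c : Ω, (Finset.univ.filter (fun x : G => x • c = c)).card * (m + 3) =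
      Fintype.card G := by
    intro c
    have h1 := Subgroup.card_mul_index (MulAction.stabilizer G c)
    rw [MulAction.index_stabilizer_of_transitive, Nat.card_eq_fintype_card (α := Ω), hm,
      Nat.card_eq_fintype_card (α := G)] at h1
    rw [← h1]
    congr 1
    rw [← Fintype.card_subtype, ← Nat.card_eq_fintype_card]
    apply Nat.card_congr
    apply Equiv.subtypeEquivRight
    intro x
    rw [mem_stabilizer_iff]
  have hOS2 : ∀ c d : Ω, c ≠ d →
      (Finset.univ.filter (fun x : G => x • c = c ∧ x • d = d)).card * (m + 2) * (m + 3) =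
      Fintype.card G := by
    intro c d hcd
    have h1 := Cfsg.Agent.S0878.card_two_point_stab_mul (G := G) hy.h2 c d (Ne.symm hcd)
    rw [hm] at h1
    have h2 : m + 3 - 1 = m + 2 := by omega
    rw [h2] at h1
    rw [h1]
    exact hOS1 c
  refine ⟨?_, (hOS2 a b hab).symm⟩
  obtain ⟨φ, hφ⟩ : ∃ φ : G → ℕ, φ = fun g => (Finset.univ.filter (fun c : Ω => g • c = c)).card :=
    ⟨_, rfl⟩
  -- first count
  have hI : ∑ g : G, φ g = Fintype.card G := by
    have hdc := Finset.sum_card_bipartiteAbove_eq_sum_card_bipartiteBelow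
      (s := (Finset.univ : Finset G)) (t := (Finset.univ : Finset Ω))
      (r := fun (g : G) (c : Ω) => g • c = c)
    have hl : ∀ g ∈ (Finset.univ : Finset G), ((Finset.univ : Finset Ω).bipartiteAbove
        (fun (g : G) (c : Ω) => g • c = c) g).card = φ g := by
      intro g _; rw [hφ]; rfl
    have hr : ∀ c ∈ (Finset.univ : Finset Ω), ((Finset.univ : Finset G).bipartiteBelow
        (fun (g : G) (c : Ω) => g • c = c) c).card =
        (Finset.univ.filter (fun x : G => x • a = a)).card := by
      intro c _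
      have h1 := hOS1 c
      have h2 := hOS1 a
      have h3 : ((Finset.univ : Finset G).bipartiteBelow
        (fun (g : G) (c : Ω) => g • c = c) c) = Finset.univ.filter (fun x : G => x • c = c) := rfl
      rw [h3]
      exact Nat.eq_of_mul_eq_mul_right (by omega : 0 < m + 3) (h1.trans h2.symm)
    rw [Finset.sum_congr rfl hl, Finset.sum_congr rfl hr, Finset.sum_const, Finset.card_univ, hm,
      smul_eq_mul, mul_comm, hOS1 a] at hdc
    exact hdc
  -- second count
  have hII : ∑ g : G, (φ g * φ g - φ g) = Fintype.card G := by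
    have hdc := Finset.sum_card_bipartiteAbove_eq_sum_card_bipartiteBelow
      (s := (Finset.univ : Finset G)) (t := (Finset.univ : Finset Ω).offDiag)
      (r := fun (g : G) (p : Ω × Ω) => g • p.1 = p.1 ∧ g • p.2 = p.2)
    have hl : ∀ g ∈ (Finset.univ : Finset G), ((Finset.univ : Finset Ω).offDiag.bipartiteAbove
        (fun (g : G) (p : Ω × Ω) => g • p.1 = p.1 ∧ g • p.2 = p.2) g).card =
        φ g * φ g - φ g := by
      intro g _
      rw [hφ]
      show _ = (Finset.univ.filter (fun c : Ω => g • c = c)).card *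
        (Finset.univ.filter (fun c : Ω => g • c = c)).card -
        (Finset.univ.filter (fun c : Ω => g • c = c)).card
      rw [← Finset.offDiag_card]
      congr 1
      ext p
      simp only [Finset.mem_bipartiteAbove, Finset.mem_offDiag, Finset.mem_univ, true_and,
        Finset.mem_filter]
      tauto
    have hr : ∀ p ∈ (Finset.univ : Finset Ω).offDiag, ((Finset.univ : Finset G).bipartiteBelow
        (fun (g : G) (p : Ω × Ω) => g • p.1 = p.1 ∧ g • p.2 = p.2) p).card =
        (Finset.univ.filter (fun x : G => x • a = a ∧ x • b = b)).card := by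
      intro p hp
      rw [Finset.mem_offDiag] at hp
      have h1 := hOS2 p.1 p.2 hp.2.2
      have h2 := hOS2 a b hab
      have h3 : ((Finset.univ : Finset G).bipartiteBelow
        (fun (g : G) (p : Ω × Ω) => g • p.1 = p.1 ∧ g • p.2 = p.2) p) =
        Finset.univ.filter (fun x : G => x • p.1 = p.1 ∧ x • p.2 = p.2) := rfl
      rw [h3]
      have h4 := Nat.eq_of_mul_eq_mul_right (by omega : 0 < m + 3) (h1.trans h2.symm)
      exact Nat.eq_of_mul_eq_mul_right (by omega : 0 < m + 2) h4
    rw [Finset.sum_congr rfl hl, Finset.sum_congr rfl hr, Finset.sum_const, Finset.offDiag_card,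
      Finset.card_univ, hm, smul_eq_mul] at hdc
    rw [hdc, ← hOS2 a b hab]
    have h5 : (m + 3) * (m + 3) - (m + 3) = (m + 2) * (m + 3) := by
      have : (m + 3) * (m + 3) = (m + 2) * (m + 3) + (m + 3) := by ring
      omega
    rw [h5]; ring
  -- pointwise identity
  have hφ1 : φ 1 = m + 3 := by
    have h0 : (Finset.univ.filter (fun c : Ω => (1 : G) • c = c)) = Finset.univ := by
      ext c; simp
    rw [hφ]
    show (Finset.univ.filter (fun c : Ω => (1 : G) • c = c)).card = m + 3
    rw [h0, Finset.card_univ, hm]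
  have hpw : ∀ g : G, (φ g * φ g - φ g) + 2 = 2 * φ g +
      ((if g = 1 then (m + 2) * (m + 1) else 0) + (if φ g = 0 then 2 else 0)) := by
    intro g
    by_cases hg : g = 1
    · rw [hg, hφ1, if_pos rfl, if_neg (by omega)]
      have : (m + 3) * (m + 3) = 2 * (m + 3) + (m + 2) * (m + 1) + (m + 3) - 2 := by
        have h0 : (m + 3) * (m + 3) + 2 = 2 * (m + 3) + (m + 2) * (m + 1) + (m + 3) := by ring
        omega
      have h0 : (m + 3) * (m + 3) + 2 = 2 * (m + 3) + (m + 2) * (m + 1) + (m + 3) := by ring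
      omega
    · rw [if_neg hg]
      have hle : φ g ≤ 2 := by
        rw [hφ]
        by_contra hlt
        push Not at hlt
        rw [Finset.two_lt_card_iff] at hlt
        obtain ⟨x, y, z, hx, hy', hz, hxy, hxz, hyz⟩ := hlt
        rw [Finset.mem_filter] at hx hy' hz
        exact hg (hy.h3 g x y z hxy hyz hxz hx.2 hy'.2 hz.2)
      obtain ⟨k, hk⟩ : ∃ k, k = φ g := ⟨_, rfl⟩
      rw [← hk]
      rw [← hk] at hle
      interval_cases k <;> simp
  have hsum := Finset.sum_congr (rfl : (Finset.univ : Finset G) = Finset.univ)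
    (fun g _ => hpw g)
  rw [Finset.sum_add_distrib, Finset.sum_add_distrib, Finset.sum_add_distrib, ← Finset.mul_sum,
    hI, hII, Finset.sum_ite_eq' Finset.univ (1 : G), if_pos (Finset.mem_univ _), Finset.sum_const,
    Finset.card_univ, smul_eq_mul, Finset.sum_ite, Finset.sum_const, Finset.sum_const, smul_zero,
    add_zero, smul_eq_mul] at hsum
  have hD : (Finset.univ.filter (fun g : G => ∀ c : Ω, g • c ≠ c)) =
      (Finset.univ.filter (fun g : G => φ g = 0)) := by
    ext g
    rw [Finset.mem_filter, Finset.mem_filter, hφ]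
    simp only [Finset.mem_univ, true_and, Finset.card_eq_zero, Finset.filter_eq_empty_iff]
    exact ⟨fun h c _ => h c, fun h c => h trivial⟩
  rw [hD]
  omega

/-- Let G be a finite simple Zassenhaus group on Ω with n points whose two-point stabilizer E has odd order less than n - 2. Then there are two elements of G, each fixing no point of Ω, that are not conjugate. -/
theorem result {G Ω : Type*} [Group G] [Finite G] [MulAction G Ω] [Fintype Ω] (hZ : Cfsg.IsZassenhausGroup G Ω) {a b : Ω} (hab : a ≠ b) [IsSimpleGroup G] (hodd : Odd (Nat.card ↥(MulAction.stabilizer G a ⊓ MulAction.stabilizer G b : Subgroup G))) (hlt : Nat.card ↥(MulAction.stabilizer G a ⊓ MulAction.stabilizer G b : Subgroup G) < Fintype.card Ω - 2) : ∃ x y : G, (∀ c : Ω, x • c ≠ c) ∧ (∀ c : Ω, y • c ≠ c) ∧ ¬ IsConj x y := by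
  classical
  have := Fintype.ofFinite G
  have hy := hyp_of_zass hZ
  have hn3 := Cfsg.Agent.S0878.three_le_card hZ
  obtain ⟨m, hm⟩ : ∃ m, Fintype.card Ω = m + 3 := ⟨Fintype.card Ω - 3, by omega⟩
  obtain ⟨h1, h2⟩ := count hy hab m hm
  have he : Nat.card ↥(MulAction.stabilizer G a ⊓ MulAction.stabilizer G b) =
      (Finset.univ.filter (fun x : G => x • a = a ∧ x • b = b)).card := by
    rw [← Fintype.card_subtype, ← Nat.card_eq_fintype_card]
    apply Nat.card_congr
    apply Equiv.subtypeEquivRight
    intro x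
    rw [Subgroup.mem_inf, mem_stabilizer_iff, mem_stabilizer_iff]
  obtain ⟨e, hedef⟩ : ∃ e, e = Nat.card ↥(MulAction.stabilizer G a ⊓ MulAction.stabilizer G b) :=
    ⟨_, rfl⟩
  rw [← hedef] at hodd he
  rw [← he] at h2
  -- e ≥ 3
  have he3 : 3 ≤ e := by
    have hne1 : e ≠ 1 := by
      intro h
      rw [hedef] at h
      have hbot := Subgroup.eq_bot_of_card_eq _ h
      obtain ⟨g, hg1, c, d, hcd, hgc, hgd⟩ := hy.h4
      obtain ⟨x, hxc, hxd⟩ := hy.h2 hcd hab
      have hmem : x * g * x⁻¹ ∈ MulAction.stabilizer G a ⊓ MulAction.stabilizer G b := by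
        rw [Subgroup.mem_inf, mem_stabilizer_iff, mem_stabilizer_iff]
        constructor
        · rw [mul_smul, mul_smul, ← hxc, inv_smul_smul, hgc]
        · rw [mul_smul, mul_smul, ← hxd, inv_smul_smul, hgd]
      rw [hbot, Subgroup.mem_bot] at hmem
      apply hg1
      calc g = x⁻¹ * (x * g * x⁻¹) * x := by group
        _ = 1 := by rw [hmem]; group
    have hpos : 0 < e := by rw [hedef]; exact Nat.card_pos
    obtain ⟨k, hk⟩ := hodd
    omega
  obtain ⟨D, hDdef⟩ : ∃ D : Finset G, D = Finset.univ.filter (fun g : G => ∀ c : Ω, g • c ≠ c) :=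
    ⟨_, rfl⟩
  rw [← hDdef] at h1
  have hmemD : ∀ g : G, g ∈ D ↔ ∀ c : Ω, g • c ≠ c := by
    intro g; rw [hDdef, Finset.mem_filter]; simp only [Finset.mem_univ, true_and]
  have hGlow : 3 * ((m + 2) * (m + 3)) ≤ Fintype.card G := by
    rw [h2]
    calc 3 * ((m + 2) * (m + 3)) ≤ e * ((m + 2) * (m + 3)) := Nat.mul_le_mul_right _ he3
      _ = e * (m + 2) * (m + 3) := by ring
  have hDpos : 0 < D.card := by
    by_contra h0
    have h00 : D.card = 0 := by omega
    rw [h00] at h1
    have : (m + 2) * (m + 3) = (m + 2) * (m + 1) + 2 * (m + 2) := by ring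
    omega
  obtain ⟨x, hx⟩ := Finset.card_pos.mp hDpos
  by_contra hcon
  push Not at hcon
  have hxfpf := (hmemD x).mp hx
  -- D is the conjugacy class of x
  have horb : ∀ g : G, g ∈ MulAction.orbit (ConjAct G) x ↔ g ∈ D := by
    intro g
    rw [ConjAct.mem_orbit_conjAct, hmemD]
    constructor
    · intro hconj
      rw [isConj_iff] at hconj
      obtain ⟨c, hc⟩ := hconj
      intro d hd
      apply hxfpf (c • d)
      have h3 : x = c * g * c⁻¹ := by rw [hc]
      rw [h3, mul_smul, mul_smul, inv_smul_smul, hd]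
    · intro hg
      exact hcon g x hg hxfpf
  have hcardorb : Fintype.card (MulAction.orbit (ConjAct G) x) = D.card := by
    apply Fintype.card_of_subtype
    intro g
    exact (horb g).symm
  have hos := MulAction.card_orbit_mul_card_stabilizer_eq_card_group (ConjAct G) x
  rw [hcardorb] at hos
  have hGc : Fintype.card (ConjAct G) = Fintype.card G := rfl
  rw [hGc] at hos
  obtain ⟨k, hkdef⟩ : ∃ k, k = Fintype.card (MulAction.stabilizer (ConjAct G) x) := ⟨_, rfl⟩
  rw [← hkdef] at hos
  -- k > 2 and k < 3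
  have hk2 : 2 < k := by
    by_contra hle
    push Not at hle
    have : D.card * k ≤ D.card * 2 := Nat.mul_le_mul_left _ hle
    have h5 : 0 < (m + 2) * (m + 1) := Nat.mul_pos (by omega) (by omega)
    omega
  have hk3 : D.card * 3 ≤ D.card * k := Nat.mul_le_mul_left _ hk2
  have h6 : (m + 2) * (m + 3) = (m + 2) * (m + 1) + 2 * (m + 2) := by ring
  omega

end Cfsg.Agent.S0880
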