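import Cfsg.Statements.S1517
import Cfsg.Agent.Lib.Helper25.Coherence

set_option autoImplicit false
open Cfsg
open Cfsg.Agent.Lib.Helper25
open scoped ComplexConjugate

namespace Cfsg.Agent.S1517

theorem char_one_ne_zero {L : Type*} [Group L] {χ : L → ℂ} (h : IsCharacter L χ) (hne : χ ≠ 0) :
    χ 1 ≠ 0 := by
  obtain ⟨n, ρ, rfl⟩ := h
  intro h0
  rw [Representation.char_one] at h0
  have hn : n = 0 := by simpa using h0
  subst hn
  apply hne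
  funext g
  have : ρ g = 0 := Subsingleton.elim _ _
  simp [Representation.character, this]

theorem int_sq_lemma {ι : Type*} (E F : Finset ι) (k l : ι → ℤ) (n m : ℤ)
    (hk : ∑ α ∈ E, k α = n) (hl : ∑ β ∈ F, l β = -m)
    (hle : ∑ α ∈ E, (k α) ^ 2 + ∑ β ∈ F, (l β) ^ 2 ≤ n + m) :
    ∑ α ∈ E, (k α) ^ 2 = n ∧ ∑ β ∈ F, (l β) ^ 2 = m := by
  have h1 : ∑ α ∈ E, k α ≤ ∑ α ∈ E, (k α) ^ 2 :=
    Finset.sum_le_sum (fun α _ => Int.le_self_sq (k α))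
  have h2 : ∑ β ∈ F, (-(l β)) ≤ ∑ β ∈ F, (l β) ^ 2 :=
    Finset.sum_le_sum (fun β _ => by
      have := Int.le_self_sq (-(l β))
      rwa [neg_sq] at this)
  rw [Finset.sum_neg_distrib, hl] at h2
  rw [hk] at h1
  constructor <;> linarith

/-- The arithmetic heart: integer coordinates with prescribed sums and a Bessel bound. -/
theorem sq_sum_lemma {ι : Type*} (E F : Finset ι) (x y : ι → ℂ) (n m : ℕ)
    (hx : ∀ α ∈ E, ∃ k : ℤ, x α = k) (hy : ∀ β ∈ F, ∃ k : ℤ, y β = k)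
    (sx : ∑ α ∈ E, x α = n) (sy : ∑ β ∈ F, y β = -(m : ℂ))
    (w : ℂ) (hw : 0 ≤ w.re)
    (hweq : w = (n : ℂ) + m - ∑ α ∈ E, x α * conj (x α) - ∑ β ∈ F, y β * conj (y β)) :
    ∑ α ∈ E, x α * conj (x α) = n ∧ w = 0 := by
  choose! k hk using hx
  choose! l hl using hy
  have e1 : ∑ α ∈ E, x α * conj (x α) = ((∑ α ∈ E, (k α) ^ 2 : ℤ) : ℂ) := by
    push_cast
    apply Finset.sum_congr rfl
    intro α hα
    rw [hk α hα, map_intCast]
    ring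
  have e2 : ∑ β ∈ F, y β * conj (y β) = ((∑ β ∈ F, (l β) ^ 2 : ℤ) : ℂ) := by
    push_cast
    apply Finset.sum_congr rfl
    intro β hβ
    rw [hl β hβ, map_intCast]
    ring
  have s1 : ∑ α ∈ E, k α = (n : ℤ) := by
    have : ((∑ α ∈ E, k α : ℤ) : ℂ) = ((n : ℤ) : ℂ) := by
      push_cast
      rw [← sx]
      exact Finset.sum_congr rfl (fun α hα => (hk α hα).symm)
    exact_mod_cast this
  have s2 : ∑ β ∈ F, l β = -(m : ℤ) := by
    have : ((∑ β ∈ F, l β : ℤ) : ℂ) = ((-(m : ℤ) : ℤ) : ℂ) := by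
      push_cast
      rw [← sy]
      exact Finset.sum_congr rfl (fun β hβ => (hl β hβ).symm)
    exact_mod_cast this
  have hw2 : w = (((n : ℤ) + m - ∑ α ∈ E, (k α) ^ 2 - ∑ β ∈ F, (l β) ^ 2 : ℤ) : ℂ) := by
    rw [hweq, e1, e2]
    push_cast
    ring
  have hle : ∑ α ∈ E, (k α) ^ 2 + ∑ β ∈ F, (l β) ^ 2 ≤ (n : ℤ) + m := by
    rw [hw2, Complex.intCast_re] at hw
    have : (0 : ℤ) ≤ (n : ℤ) + m - ∑ α ∈ E, (k α) ^ 2 - ∑ β ∈ F, (l β) ^ 2 := by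
      exact_mod_cast hw
    linarith
  obtain ⟨r1, r2⟩ := int_sq_lemma E F k l n m s1 s2 hle
  constructor
  · rw [e1, r1]
    simp
  · rw [hw2, r1, r2]
    simp

section

variable {L : Type*} [Group L] [Fintype L] {G : Type*} [Group G] [Fintype G]
  {S : Set (L → ℂ)} {τ : (L → ℂ) → (G → ℂ)} {R : (L → ℂ) → Finset (G → ℂ)}

theorem norm_pos (hS : IsCoherenceSystem S τ R) {χ : L → ℂ} (hχ : χ ∈ S) :
    ∃ n : ℕ, 0 < n ∧ classInner χ χ = n := by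
  obtain ⟨n, hn⟩ := classInner_char_nat (hS.isCharacter χ hχ) (hS.isCharacter χ hχ)
  refine ⟨n, ?_, hn⟩
  rcases Nat.eq_zero_or_pos n with h0 | h0
  · exfalso
    rw [h0] at hn
    have h1 : χ = 0 := classInner_self_eq_zero (by simpa using hn)
    apply hS.conj_ne χ hχ
    rw [h1]
    funext x
    simp [conjFun]
  · exact h0

theorem ne_zero_of_mem (hS : IsCoherenceSystem S τ R) {χ : L → ℂ} (hχ : χ ∈ S) : χ ≠ 0 := by
  intro h1
  apply hS.conj_ne χ hχ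
  rw [h1]
  funext x
  simp [conjFun]

omit [Fintype L] in
theorem sub_mem (hdeg : ∀ φ ∈ S, ∀ ψ ∈ S, φ 1 = ψ 1) {χ φ : L → ℂ} (hχ : χ ∈ S) (hφ : φ ∈ S) :
    χ - φ ∈ zspanOn S ({1}ᶜ : Set L) := by
  rw [mem_zspanOn_one]
  exact ⟨zspan_sub (subset_zspan hχ) (subset_zspan hφ),
    by rw [Pi.sub_apply, hdeg χ hχ φ hφ, sub_self]⟩

/-- Inner products of the images of differences. -/
theorem inner_tau (hS : IsCoherenceSystem S τ R) (hdeg : ∀ φ ∈ S, ∀ ψ ∈ S, φ 1 = ψ 1)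
    {a b c e : L → ℂ} (ha : a ∈ S) (hb : b ∈ S) (hc : c ∈ S) (he : e ∈ S) :
    classInner (τ (a - b)) (τ (c - e)) =
      classInner a c - classInner a e - classInner b c + classInner b e := by
  rw [hS.isometry.2.2.1 _ (sub_mem hdeg ha hb) _ (sub_mem hdeg hc he), classInner_sub_left,
    classInner_sub_right, classInner_sub_right]
  ring

theorem R_orth (hS : IsCoherenceSystem S τ R) {χ φ : L → ℂ} (hχ : χ ∈ S) (hφ : φ ∈ S)
    (h1 : φ ≠ χ) (h2 : φ ≠ conjFun χ) : ∀ α ∈ R φ, ∀ β ∈ R χ, classInner α β = 0 :=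
  hS.disjoint χ hχ φ hφ (hS.orthogonal φ hφ χ hχ h1)
    (hS.orthogonal φ hφ (conjFun χ) (hS.conj_mem χ hχ) h2)

omit [Group L] [Fintype L] in
theorem conj_ne_of_ne {χ φ : L → ℂ} (h : φ ≠ conjFun χ) : χ ≠ conjFun φ := by
  intro h1
  apply h
  rw [h1, conjFun_conjFun]

theorem inner_rho_left [DecidableEq (G → ℂ)] {E : Finset (G → ℂ)}
    (hE : ∀ α ∈ E, ∀ β ∈ E, classInner α β = if α = β then 1 else 0) {α : G → ℂ} (hα : α ∈ E) :
    classInner (∑ β ∈ E, β) α = 1 := by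
  rw [classInner_sum_left, Finset.sum_eq_single_of_mem α hα, hE α hα α hα, if_pos rfl]
  intro β hβ hne
  rw [hE β hβ α hα, if_neg hne]

theorem inner_rho_right [DecidableEq (G → ℂ)] {E : Finset (G → ℂ)}
    (hE : ∀ α ∈ E, ∀ β ∈ E, classInner α β = if α = β then 1 else 0) {α : G → ℂ} (hα : α ∈ E) :
    classInner α (∑ β ∈ E, β) = 1 := by
  rw [← classInner_conj_symm, inner_rho_left hE hα, map_one]

/-- The structure of `τ (χ₁ - χ)` for `χ` different from `χ₁` and its conjugate. -/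
theorem key7 (hS : IsCoherenceSystem S τ R) (hdeg : ∀ φ ∈ S, ∀ ψ ∈ S, φ 1 = ψ 1)
    {χ₁ χ : L → ℂ} (hχ₁ : χ₁ ∈ S) (hχ : χ ∈ S) (h1 : χ ≠ χ₁) (h2 : χ ≠ conjFun χ₁) :
    (∑ α ∈ R χ₁, classInner (τ (χ₁ - χ)) α * conj (classInner (τ (χ₁ - χ)) α)
      = classInner χ₁ χ₁) ∧
    (∑ α ∈ R χ₁, classInner (τ (χ₁ - χ)) α = classInner χ₁ χ₁) ∧
    (∀ α ∈ R χ₁, ∃ k : ℤ, classInner (τ (χ₁ - χ)) α = k) ∧
    τ (χ₁ - χ) = proj (R χ₁) (τ (χ₁ - χ)) + proj (R χ) (τ (χ₁ - χ)) := by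
  classical
  obtain ⟨n₁, _, hn₁⟩ := norm_pos hS hχ₁
  obtain ⟨nχ, _, hnχ⟩ := norm_pos hS hχ
  have hc₁ : conjFun χ₁ ∈ S := hS.conj_mem χ₁ hχ₁
  have hc : conjFun χ ∈ S := hS.conj_mem χ hχ
  have hvirt : IsGeneralizedCharacter G (τ (χ₁ - χ)) :=
    hS.isometry.2.2.2 _ (sub_mem hdeg hχ₁ hχ)
  have hE := hS.orthonormal χ₁ hχ₁
  have hF := hS.orthonormal χ hχ
  have hEF : ∀ α ∈ R χ₁, ∀ β ∈ R χ, classInner α β = 0 :=
    R_orth hS hχ hχ₁ (Ne.symm h1) (conj_ne_of_ne h2)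
  have sx : ∑ α ∈ R χ₁, classInner (τ (χ₁ - χ)) α = n₁ := by
    rw [← classInner_sum_right, ← hS.sum_eq χ₁ hχ₁, inner_tau hS hdeg hχ₁ hχ hχ₁ hc₁, hn₁,
      hS.orthogonal χ₁ hχ₁ _ hc₁ (hS.conj_ne χ₁ hχ₁).symm, hS.orthogonal χ hχ χ₁ hχ₁ h1,
      hS.orthogonal χ hχ _ hc₁ h2]
    ring
  have sy : ∑ β ∈ R χ, classInner (τ (χ₁ - χ)) β = -(nχ : ℂ) := by
    rw [← classInner_sum_right, ← hS.sum_eq χ hχ, inner_tau hS hdeg hχ₁ hχ hχ hc, hnχ,
      hS.orthogonal χ₁ hχ₁ χ hχ (Ne.symm h1), hS.orthogonal χ₁ hχ₁ _ hc (conj_ne_of_ne h2),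
      hS.orthogonal χ hχ _ hc (hS.conj_ne χ hχ).symm]
    ring
  have hvv : classInner (τ (χ₁ - χ)) (τ (χ₁ - χ)) = (n₁ : ℂ) + nχ := by
    rw [inner_tau hS hdeg hχ₁ hχ hχ₁ hχ, hn₁, hnχ, hS.orthogonal χ₁ hχ₁ χ hχ (Ne.symm h1),
      hS.orthogonal χ hχ χ₁ hχ₁ h1]
    ring
  have hb := bessel_two (R χ₁) (R χ) hE hF hEF (τ (χ₁ - χ))
  rw [hvv] at hb
  have hx : ∀ α ∈ R χ₁, ∃ k : ℤ, classInner (τ (χ₁ - χ)) α = k :=
    fun α hα => classInner_genChar_int hvirt (hS.virtual χ₁ hχ₁ α hα)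
  have hy : ∀ β ∈ R χ, ∃ k : ℤ, classInner (τ (χ₁ - χ)) β = k :=
    fun β hβ => classInner_genChar_int hvirt (hS.virtual χ hχ β hβ)
  obtain ⟨r1, r2⟩ := sq_sum_lemma (R χ₁) (R χ) (fun α => classInner (τ (χ₁ - χ)) α)
    (fun β => classInner (τ (χ₁ - χ)) β) n₁ nχ hx hy sx sy _ (classInner_self_re_nonneg _) hb
  refine ⟨by rw [hn₁]; exact r1, by rw [hn₁]; exact sx, hx, ?_⟩
  have h0 := classInner_self_eq_zero r2
  have h3 : τ (χ₁ - χ) - proj (R χ₁) (τ (χ₁ - χ)) = proj (R χ) (τ (χ₁ - χ)) :=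
    sub_eq_zero.mp h0
  rw [← h3]
  abel

/-- Existence of a vector playing the role of an image of `χ₁`. -/
theorem exists_a1 (hS : IsCoherenceSystem S τ R) (hdeg : ∀ φ ∈ S, ∀ ψ ∈ S, φ 1 = ψ 1)
    {χ₁ : L → ℂ} (hχ₁ : χ₁ ∈ S) :
    ∃ a₁ : G → ℂ, IsGeneralizedCharacter G a₁ ∧ classInner a₁ a₁ = classInner χ₁ χ₁ ∧
      ∀ χ ∈ S, classInner (τ (χ₁ - χ)) a₁ = classInner (χ₁ - χ) χ₁ := by
  classical
  obtain ⟨n₁, hn₁pos, hn₁⟩ := norm_pos hS hχ₁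
  have hc₁ : conjFun χ₁ ∈ S := hS.conj_mem χ₁ hχ₁
  have hE := hS.orthonormal χ₁ hχ₁
  have hτ0 : τ 0 = 0 := isometryOn_map_zero hS.isometry zspanOn_zero
  have hcc : classInner (conjFun χ₁) χ₁ = 0 := hS.orthogonal _ hc₁ χ₁ hχ₁ (hS.conj_ne χ₁ hχ₁)
  by_cases hex : ∃ φ₀ ∈ S, φ₀ ≠ χ₁ ∧ φ₀ ≠ conjFun χ₁
  · -- the generic case
    obtain ⟨φ₀, hφ₀, hφ1, hφ2⟩ := hex
    obtain ⟨k1, k2, k3, k4⟩ := key7 hS hdeg hχ₁ hφ₀ hφ1 hφ2
    have claim : ∀ χ ∈ S, χ ≠ χ₁ → χ ≠ conjFun χ₁ →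
        proj (R χ₁) (τ (χ₁ - χ)) = proj (R χ₁) (τ (χ₁ - φ₀)) := by
      intro χ hχ h1 h2
      by_cases e1 : χ = φ₀
      · rw [e1]
      by_cases e2 : χ = conjFun φ₀
      · have hd : χ₁ - χ = (χ₁ - φ₀) + (φ₀ - conjFun φ₀) := by rw [e2]; abel
        rw [hd, hS.isometry.1 _ (sub_mem hdeg hχ₁ hφ₀) _ (sub_mem hdeg hφ₀ (hS.conj_mem φ₀ hφ₀)),
          proj_add, hS.sum_eq φ₀ hφ₀]
        have : proj (R χ₁) (∑ β ∈ R φ₀, β) = 0 := by
          apply proj_eq_zero_of_orth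
          intro α hα
          rw [classInner_sum_left]
          apply Finset.sum_eq_zero
          intro β hβ
          exact R_orth hS hχ₁ hφ₀ hφ1 hφ2 β hβ α hα
        rw [this, add_zero]
      · obtain ⟨c1, c2, c3, c4⟩ := key7 hS hdeg hχ₁ hχ h1 h2
        have hχφ : ∀ α ∈ R χ, ∀ β ∈ R φ₀, classInner α β = 0 := R_orth hS hφ₀ hχ e1 e2
        have h1φ : ∀ α ∈ R χ₁, ∀ β ∈ R φ₀, classInner α β = 0 :=
          R_orth hS hφ₀ hχ₁ (Ne.symm hφ1) (conj_ne_of_ne hφ2)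
        have hχ1 : ∀ α ∈ R χ, ∀ β ∈ R χ₁, classInner α β = 0 := R_orth hS hχ₁ hχ h1 h2
        have hD : classInner (τ (χ₁ - χ)) (τ (χ₁ - φ₀)) = n₁ := by
          rw [inner_tau hS hdeg hχ₁ hχ hχ₁ hφ₀, hn₁, hS.orthogonal χ₁ hχ₁ φ₀ hφ₀ (Ne.symm hφ1),
            hS.orthogonal χ hχ χ₁ hχ₁ h1, hS.orthogonal χ hχ φ₀ hφ₀ e1]
          ring
        have hpq : classInner (proj (R χ₁) (τ (χ₁ - χ))) (proj (R χ₁) (τ (χ₁ - φ₀))) = n₁ := by
          have h3 : classInner (τ (χ₁ - χ)) (τ (χ₁ - φ₀)) =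
              classInner (proj (R χ₁) (τ (χ₁ - χ)) + proj (R χ) (τ (χ₁ - χ)))
                (proj (R χ₁) (τ (χ₁ - φ₀)) + proj (R φ₀) (τ (χ₁ - φ₀))) := by
            rw [← c4, ← k4]
          rw [hD, classInner_add_left, classInner_add_right, classInner_add_right] at h3
          have z1 : classInner (proj (R χ₁) (τ (χ₁ - χ))) (proj (R φ₀) (τ (χ₁ - φ₀))) = 0 :=
            classInner_comb_orth _ _ _ _ h1φ
          have z2 : classInner (proj (R χ) (τ (χ₁ - χ))) (proj (R χ₁) (τ (χ₁ - φ₀))) = 0 :=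
            classInner_comb_orth _ _ _ _ hχ1
          have z3 : classInner (proj (R χ) (τ (χ₁ - χ))) (proj (R φ₀) (τ (χ₁ - φ₀))) = 0 :=
            classInner_comb_orth _ _ _ _ hχφ
          rw [z1, z2, z3] at h3
          rw [h3]
          ring
        have hqp : classInner (proj (R χ₁) (τ (χ₁ - φ₀))) (proj (R χ₁) (τ (χ₁ - χ))) = n₁ := by
          rw [← classInner_conj_symm, hpq, Complex.conj_natCast]
        have hpp : classInner (proj (R χ₁) (τ (χ₁ - χ))) (proj (R χ₁) (τ (χ₁ - χ))) = n₁ := by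
          rw [classInner_proj_proj _ hE, c1, hn₁]
        have hqq : classInner (proj (R χ₁) (τ (χ₁ - φ₀))) (proj (R χ₁) (τ (χ₁ - φ₀))) = n₁ := by
          rw [classInner_proj_proj _ hE, k1, hn₁]
        have hzero : classInner (proj (R χ₁) (τ (χ₁ - χ)) - proj (R χ₁) (τ (χ₁ - φ₀)))
            (proj (R χ₁) (τ (χ₁ - χ)) - proj (R χ₁) (τ (χ₁ - φ₀))) = 0 := by
          rw [classInner_sub_left, classInner_sub_right, classInner_sub_right, hpp, hpq, hqp, hqq]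
          ring
        exact sub_eq_zero.mp (classInner_self_eq_zero hzero)
    refine ⟨proj (R χ₁) (τ (χ₁ - φ₀)), ?_, ?_, ?_⟩
    · unfold proj
      apply genChar_sum
      intro α hα
      obtain ⟨k, hk⟩ := k3 α hα
      rw [hk]
      exact genChar_intCast_smul (hS.virtual χ₁ hχ₁ α hα) k
    · rw [classInner_proj_proj _ hE, k1]
    · intro χ hχ
      by_cases h1 : χ = χ₁
      · rw [h1, sub_self, hτ0, classInner_zero_left, classInner_zero_left]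
      by_cases h2 : χ = conjFun χ₁
      · rw [h2, hS.sum_eq χ₁ hχ₁, classInner_self_proj, classInner_sub_left, hcc, sub_zero]
        have : ∑ α ∈ R χ₁, conj (classInner (τ (χ₁ - φ₀)) α) * classInner (∑ β ∈ R χ₁, β) α =
            ∑ α ∈ R χ₁, conj (classInner (τ (χ₁ - φ₀)) α) := by
          apply Finset.sum_congr rfl
          intro α hα
          rw [inner_rho_left hE hα, mul_one]
        rw [this, ← map_sum, k2, hn₁, Complex.conj_natCast]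
      · rw [← claim χ hχ h1 h2, classInner_self_proj]
        obtain ⟨c1, _, _, _⟩ := key7 hS hdeg hχ₁ hχ h1 h2
        rw [classInner_sub_left, hS.orthogonal χ hχ χ₁ hχ₁ h1, sub_zero, ← c1]
        apply Finset.sum_congr rfl
        intro α _
        ring
  · -- `S` consists of `χ₁` and its conjugate only
    have hS2 : ∀ χ ∈ S, χ = χ₁ ∨ χ = conjFun χ₁ := by
      intro χ hχ
      by_contra hne
      push Not at hne
      exact hex ⟨χ, hχ, hne.1, hne.2⟩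
    have hcard : ((R χ₁).card : ℂ) = 2 * n₁ := by
      have h1 : classInner (∑ β ∈ R χ₁, β) (∑ β ∈ R χ₁, β) = ((R χ₁).card : ℂ) := by
        rw [classInner_sum_right]
        have : ∑ α ∈ R χ₁, classInner (∑ β ∈ R χ₁, β) α = ∑ α ∈ R χ₁, (1 : ℂ) :=
          Finset.sum_congr rfl (fun α hα => inner_rho_left hE hα)
        rw [this]
        simp
      rw [← h1, ← hS.sum_eq χ₁ hχ₁, inner_tau hS hdeg hχ₁ hc₁ hχ₁ hc₁, classInner_conjFun',
        hn₁, hcc, hS.orthogonal χ₁ hχ₁ _ hc₁ (hS.conj_ne χ₁ hχ₁).symm]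
      ring
    have hcard' : n₁ ≤ (R χ₁).card := by
      have : (R χ₁).card = 2 * n₁ := by exact_mod_cast hcard
      omega
    obtain ⟨A, hA, hAcard⟩ := Finset.exists_subset_card_eq hcard'
    have hEA : ∀ α ∈ A, ∀ β ∈ A, classInner α β = if α = β then 1 else 0 :=
      fun α hα β hβ => hE α (hA hα) β (hA hβ)
    refine ⟨∑ α ∈ A, α, ?_, ?_, ?_⟩
    · exact genChar_sum _ _ (fun α hα => hS.virtual χ₁ hχ₁ α (hA hα))
    · rw [classInner_sum_right]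
      have : ∑ α ∈ A, classInner (∑ β ∈ A, β) α = ∑ α ∈ A, (1 : ℂ) :=
        Finset.sum_congr rfl (fun α hα => inner_rho_left hEA hα)
      rw [this, hn₁]
      simp [hAcard]
    · intro χ hχ
      rcases hS2 χ hχ with h1 | h2
      · rw [h1, sub_self, hτ0, classInner_zero_left, classInner_zero_left]
      · rw [h2, hS.sum_eq χ₁ hχ₁, classInner_sum_right, classInner_sub_left, hcc, sub_zero]
        have : ∑ α ∈ A, classInner (∑ β ∈ R χ₁, β) α = ∑ α ∈ A, (1 : ℂ) :=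
          Finset.sum_congr rfl (fun α hα => inner_rho_left hE (hA hα))
        rw [this, hn₁]
        simp [hAcard]

end

/-- Let (S, τ, R) be a coherence system from L to G such that φ 1 = ψ 1 for all φ, ψ ∈ S. Then (S, L minus 1, τ) is coherent. -/
theorem result {L : Type*} [Group L] [Fintype L] {G : Type*} [Group G] [Fintype G] (S : Set (L → ℂ)) (τ : (L → ℂ) → (G → ℂ)) (R : (L → ℂ) → Finset (G → ℂ)) (hS : Cfsg.IsCoherenceSystem S τ R) (hdeg : ∀ φ ∈ S, ∀ ψ ∈ S, φ 1 = ψ 1) : Cfsg.IsCoherent S {1}ᶜ τ := by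
  obtain ⟨χ₁, hχ₁⟩ := hS.nonempty
  refine ⟨⟨χ₁ - conjFun χ₁, sub_mem hdeg hχ₁ (hS.conj_mem χ₁ hχ₁), ?_⟩, ?_⟩
  · exact sub_ne_zero.mpr (hS.conj_ne χ₁ hχ₁).symm
  · obtain ⟨a₁, ha, hn, h2⟩ := exists_a1 hS hdeg hχ₁
    have hd : χ₁ 1 ≠ 0 := char_one_ne_zero (hS.isCharacter χ₁ hχ₁) (ne_zero_of_mem hS hχ₁)
    refine exists_extension_of_vector hd (fun χ hχ => hdeg χ hχ χ₁ hχ₁) hχ₁ hS.isometry a₁ ha hn
      ?_ h2
    intro χ hχ
    rw [← classInner_conj_symm, h2 χ hχ, classInner_conj_symm]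

end Cfsg.Agent.S1517
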