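import Cfsg.Statements.S1492
import Cfsg.Agent.Lib.Helper3.CharOps
import Cfsg.Agent.Lib.Helper3.Decomp
import Cfsg.Agent.Lib.Helper3.Induced
import Cfsg.Agent.Lib.Helper25.Ind
import Cfsg.Agent.Lib.Helper25.CharBound
import Cfsg.Agent.Lib.Helper25.CharUtil
import Cfsg.Agent.Lib.Helper79.Basic
import Cfsg.Agent.Lib.Helper80.Schur

set_option autoImplicit false
open Cfsg
open Cfsg.Agent.Lib.Helper3 Cfsg.Agent.Lib.Helper25
open scoped ComplexConjugate

namespace Cfsg.Agent.S1492

/-- The value at `1` of an induced function. -/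
theorem indFun_one {G : Type*} [Group G] [Fintype G] (N : Subgroup G) (ϑ : N → ℂ) :
    indFun N ϑ 1 = (N.index : ℂ) * ϑ 1 := by
  rw [Cfsg.Agent.Lib.Helper25.indFun_apply]
  have h1 : ∀ x : G, extendByZero N ϑ (x⁻¹ * 1 * x) = ϑ 1 := by
    intro x
    have e : x⁻¹ * 1 * x = ((1 : N) : G) := by simp
    rw [e, Cfsg.Agent.Lib.Helper25.extendByZero_coe]
  simp only [h1, Finset.sum_const, Finset.card_univ, nsmul_eq_mul]
  have hN : (Nat.card N : ℂ) ≠ 0 := card_ne_zero_complex
  have hidx : (Fintype.card G : ℂ) = (N.index : ℂ) * (Nat.card N : ℂ) := by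
    rw [← Nat.card_eq_fintype_card, ← Subgroup.index_mul_card N]
    push_cast; ring
  rw [hidx]
  field_simp

/-- The degree of an irreducible constituent is at most the degree of the character. -/
theorem degree_le_of_constituent {G : Type*} [Group G] [Fintype G] {χ ψ : G → ℂ}
    (hχ : IsCharacter G χ) (hψ : IsIrrCharacter G ψ) (hne : classInner χ ψ ≠ 0)
    (a b : ℕ) (ha : χ 1 = (a : ℂ)) (hb : ψ 1 = (b : ℂ)) : b ≤ a := by
  classical
  have : Fintype (IrrCharacter G) := Fintype.ofFinite _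
  obtain ⟨m, hm, hsum⟩ := IsCharacter.exists_mult hχ
  have hdeg : ∀ φ : IrrCharacter G, ∃ n : ℕ, (φ : G → ℂ) 1 = (n : ℂ) := fun φ => by
    obtain ⟨n, -, hn⟩ := irr_degree φ.2
    exact ⟨n, hn⟩
  choose d hd using hdeg
  have h1 : χ 1 = ((∑ φ : IrrCharacter G, m φ * d φ : ℕ) : ℂ) := by
    conv_lhs => rw [hsum]
    simp only [Finset.sum_apply, Pi.smul_apply, smul_eq_mul, hd]
    push_cast
    rfl
  rw [ha] at h1
  have h2 : a = ∑ φ : IrrCharacter G, m φ * d φ := by exact_mod_cast h1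
  have hmψ : m ⟨ψ, hψ⟩ ≠ 0 := by
    intro h0
    apply hne
    have := hm ⟨ψ, hψ⟩
    simp only at this
    rw [this, h0]; simp
  have hdψ : d ⟨ψ, hψ⟩ = b := by
    have := hd ⟨ψ, hψ⟩
    simp only at this
    rw [hb] at this
    exact_mod_cast this.symm
  have h3 : m ⟨ψ, hψ⟩ * d ⟨ψ, hψ⟩ ≤ ∑ φ : IrrCharacter G, m φ * d φ :=
    Finset.single_le_sum (f := fun φ => m φ * d φ) (fun _ _ => Nat.zero_le _)
      (Finset.mem_univ (⟨ψ, hψ⟩ : IrrCharacter G))
  rw [← h2, hdψ] at h3
  calc b = 1 * b := (one_mul b).symm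
    _ ≤ m ⟨ψ, hψ⟩ * b := Nat.mul_le_mul_right b (Nat.pos_of_ne_zero hmψ)
    _ ≤ a := h3

/-- If a character takes its degree at `b`, so does every irreducible constituent. -/
theorem constituent_eq_degree {G : Type*} [Group G] [Fintype G] {χ ζ : G → ℂ}
    (hχ : IsCharacter G χ) (hζ : IsIrrCharacter G ζ) (hne : classInner χ ζ ≠ 0)
    (b : G) (hb : χ b = χ 1) : ζ b = ζ 1 := by
  classical
  have : Fintype (IrrCharacter G) := Fintype.ofFinite _
  obtain ⟨m, hm, hsum⟩ := IsCharacter.exists_mult hχ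
  have hval : ∀ g : G, χ g = ∑ φ : IrrCharacter G, (m φ : ℂ) * (φ : G → ℂ) g := by
    intro g
    conv_lhs => rw [hsum]
    simp only [Finset.sum_apply, Pi.smul_apply, smul_eq_mul]
  have hre : ∀ g : G, (χ g).re = ∑ φ : IrrCharacter G, (m φ : ℝ) * ((φ : G → ℂ) g).re := by
    intro g
    rw [hval g, Complex.re_sum]
    apply Finset.sum_congr rfl
    intro φ _
    simp
  have hle : ∀ φ ∈ (Finset.univ : Finset (IrrCharacter G)),
      (m φ : ℝ) * ((φ : G → ℂ) b).re ≤ (m φ : ℝ) * ((φ : G → ℂ) 1).re := by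
    intro φ _
    apply mul_le_mul_of_nonneg_left _ (Nat.cast_nonneg _)
    exact (char_re_le (IsIrrCharacter.isCharacter φ.2) b).1
  have heq : ∑ φ : IrrCharacter G, (m φ : ℝ) * ((φ : G → ℂ) b).re =
      ∑ φ : IrrCharacter G, (m φ : ℝ) * ((φ : G → ℂ) 1).re := by
    rw [← hre, ← hre, hb]
  have hall := (Finset.sum_eq_sum_iff_of_le hle).mp heq ⟨ζ, hζ⟩ (Finset.mem_univ _)
  simp only at hall
  have hmζ : (m ⟨ζ, hζ⟩ : ℝ) ≠ 0 := by
    intro h0
    apply hne
    have := hm ⟨ζ, hζ⟩
    simp only at this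
    rw [this]
    have : m ⟨ζ, hζ⟩ = 0 := by exact_mod_cast h0
    rw [this]; simp
  have hre' : (ζ b).re = (ζ 1).re := mul_left_cancel₀ hmζ hall
  exact (char_re_le (IsIrrCharacter.isCharacter hζ) b).2 hre'

/-- Let ψ be an irreducible character of the finite group G and B ≤ D ≤ C subgroups with B normal in C, every commutator of an element of D with an element of C lying in B (so D/B is central in C/B), and ψ constant equal to ψ 1 on B. Then ψ(1) ^ 2 * |C| * |D| ≤ |G| ^ 2. -/
theorem result {G : Type*} [Group G] [Finite G] (ψ : G → ℂ) (hψ : Cfsg.IsIrrCharacter G ψ) (B C D : Subgroup G) (hBD : B ≤ D) (hDC : D ≤ C) (hBn : ∀ c ∈ C, ∀ b ∈ B, c * b * c⁻¹ ∈ B) (hcent : ∀ d ∈ D, ∀ c ∈ C, d * c * d⁻¹ * c⁻¹ ∈ B) (hker : ∀ b ∈ B, ψ b = ψ 1) : ‖ψ 1‖ ^ 2 * (Nat.card C : ℝ) * (Nat.card D : ℝ) ≤ (Nat.card G : ℝ) ^ 2 := by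
  classical
  have : Fintype G := Fintype.ofFinite G
  have : Fintype C := Fintype.ofFinite C
  have hψc : IsCharacter G ψ := IsIrrCharacter.isCharacter hψ
  obtain ⟨nψ, hnψpos, hnψ⟩ := irr_degree hψ
  -- restriction to C and a constituent
  have hψC : IsCharacter C (fun c : C => ψ c) := IsCharacter.restrict hψc C
  have hψC0 : (fun c : C => ψ c) ≠ 0 := by
    intro h
    have := congrFun h 1
    simp only [Subgroup.coe_one, Pi.zero_apply] at this
    rw [hnψ] at this
    have : nψ = 0 := by exact_mod_cast this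
    omega
  obtain ⟨ζ, hζ, hζne⟩ := exists_irr_classInner_ne_zero (IsCharacter.isClassFunction hψC) hψC0
  obtain ⟨k, hkpos, hk⟩ := irr_degree hζ
  -- (A) B acts trivially
  have hA : ∀ b : C, (b : G) ∈ B → ζ b = ζ 1 := by
    intro b hb
    apply constituent_eq_degree hψC hζ hζne b
    simp only [Subgroup.coe_one]
    exact hker b hb
  -- (D) degree bound
  have hD : nψ ≤ C.index * k := by
    have hind : IsCharacter G (indFun C ζ) := isCharacter_indFun C (IsIrrCharacter.isCharacter hζ)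
    have hne : classInner (indFun C ζ) ψ ≠ 0 := by
      rw [Cfsg.Agent.Lib.Helper25.frobenius_reciprocity C ζ ψ (IsCharacter.isClassFunction hψc)]
      intro h0
      apply hζne
      rw [← Cfsg.Agent.Lib.Helper25.classInner_conj_symm, h0, map_zero]
    apply degree_le_of_constituent hind hψ hne (C.index * k) nψ _ hnψ
    rw [indFun_one, hk]
    push_cast; rfl
  -- (B),(C) the centre bound
  have hC : (Nat.card D : ℝ) * (k : ℝ) ^ 2 ≤ (Nat.card C : ℝ) := by
    obtain ⟨k', σ, hσirr, hσχ⟩ := hζ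
    have := hσirr
    have hk' : (k' : ℂ) = k := by
      rw [← hk, ← hσχ, Representation.char_one]; simp
    have hkk : k' = k := by exact_mod_cast hk'
    subst hkk
    have hσB : ∀ b : C, (b : G) ∈ B → σ b = 1 := by
      intro b hb
      rw [Cfsg.Agent.Lib.Helper79.rep_apply_eq_one_iff σ b (isOfFinOrder_of_finite b)]
      have := hA b hb
      rw [← hσχ] at this
      rw [this, Representation.char_one]; simp
    -- elements of D act as scalars of norm one
    have hscal : ∀ d : C, (d : G) ∈ D → ‖σ.character d‖ = (k' : ℝ) := by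
      intro d hd
      have hcomm : ∀ c : C, σ d ∘ₗ σ c = σ c ∘ₗ σ d := by
        intro c
        have hmem : ((d * c * d⁻¹ * c⁻¹ : C) : G) ∈ B := by
          simp only [Subgroup.coe_mul, Subgroup.coe_inv]
          exact hcent d hd c c.2
        have h1 := hσB _ hmem
        have h2 : σ d * σ c = σ c * σ d := by
          have : σ (d * c * d⁻¹ * c⁻¹) * σ (c * d) = σ (d * c) := by
            rw [← map_mul]; congr 1; group
          rw [h1, one_mul] at this
          rw [← map_mul, ← map_mul, this]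
        exact h2
      obtain ⟨lam, hlam⟩ := Cfsg.Agent.Lib.Helper80.schur_scalar σ (σ d) hcomm
      have hchar : σ.character d = lam * (k' : ℂ) := by
        unfold Representation.character
        rw [hlam, map_smul, LinearMap.trace_id]
        simp
      have hpow : lam ^ orderOf d = 1 := by
        have h1 : (σ d) ^ orderOf d = 1 := by
          rw [← map_pow, pow_orderOf_eq_one, map_one]
        rw [hlam] at h1
        have h2 : (lam • (LinearMap.id : (Fin k' → ℂ) →ₗ[ℂ] (Fin k' → ℂ))) ^ orderOf d =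
            (lam ^ orderOf d) • LinearMap.id := by
          rw [smul_pow]
          congr 1
          exact one_pow _
        rw [h2] at h1
        have h3 := congrArg (LinearMap.trace ℂ (Fin k' → ℂ)) h1
        rw [map_smul, LinearMap.trace_id] at h3
        have h4 : LinearMap.trace ℂ (Fin k' → ℂ) 1 = (k' : ℂ) := by
          have : (1 : (Fin k' → ℂ) →ₗ[ℂ] (Fin k' → ℂ)) = LinearMap.id := rfl
          rw [this, LinearMap.trace_id]; simp
        rw [h4] at h3
        simp only [Module.finrank_fintype_fun_eq_card, Fintype.card_fin, smul_eq_mul] at h3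
        have hk0 : (k' : ℂ) ≠ 0 := by exact_mod_cast hkpos.ne'
        exact mul_right_cancel₀ hk0 (by rw [h3, one_mul])
      have hnorm : ‖lam‖ = 1 := Complex.norm_eq_one_of_pow_eq_one hpow (orderOf_pos d).ne'
      rw [hchar, norm_mul, hnorm, one_mul, Complex.norm_natCast]
    -- sum of squares
    have hirrσ : IsIrrCharacter C σ.character := ⟨k', σ, hσirr, rfl⟩
    have hnorm1 := classInner_irr hirrσ hirrσ
    rw [if_pos rfl, Cfsg.Agent.Lib.Helper25.classInner_def] at hnorm1
    have hsumC : ∑ c : C, ‖σ.character c‖ ^ 2 = (Nat.card C : ℝ) := by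
      have hCne : (Nat.card C : ℂ) ≠ 0 := card_ne_zero_complex
      have h1 : ∑ c : C, σ.character c * conj (σ.character c) = (Nat.card C : ℂ) := by
        field_simp at hnorm1
        exact hnorm1
      have h2 : ∀ c : C, σ.character c * conj (σ.character c) =
          ((‖σ.character c‖ ^ 2 : ℝ) : ℂ) := by
        intro c
        rw [Complex.mul_conj, Complex.normSq_eq_norm_sq]
      simp only [h2] at h1
      have h3 : ((∑ c : C, ‖σ.character c‖ ^ 2 : ℝ) : ℂ) = ((Nat.card C : ℝ) : ℂ) := by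
        rw [Complex.ofReal_sum, h1]
        simp
      exact_mod_cast h3
    rw [← hsumC]
    have hsub : ∑ c ∈ Finset.univ.filter (fun c : C => (c : G) ∈ D), ‖σ.character c‖ ^ 2 ≤
        ∑ c : C, ‖σ.character c‖ ^ 2 :=
      Finset.sum_le_sum_of_subset_of_nonneg (Finset.subset_univ _) (fun _ _ _ => sq_nonneg _)
    refine le_trans ?_ hsub
    have hconst : ∀ c ∈ Finset.univ.filter (fun c : C => (c : G) ∈ D),
        ‖σ.character c‖ ^ 2 = (k' : ℝ) ^ 2 := by
      intro c hc
      rw [hscal c (Finset.mem_filter.mp hc).2]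
    rw [Finset.sum_congr rfl hconst, Finset.sum_const, nsmul_eq_mul]
    have hcardD : (Finset.univ.filter (fun c : C => (c : G) ∈ D)).card = Nat.card D := by
      rw [← Fintype.card_subtype, ← Nat.card_eq_fintype_card]
      exact Nat.card_congr (Subgroup.subgroupOfEquivOfLe hDC).toEquiv
    rw [hcardD]
  -- conclude
  have hnorm : ‖ψ 1‖ = (nψ : ℝ) := by rw [hnψ, Complex.norm_natCast]
  rw [hnorm]
  have hidx : (C.index : ℝ) * (Nat.card C : ℝ) = (Nat.card G : ℝ) := by
    rw [← Subgroup.index_mul_card C]; push_cast; ring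
  have hD' : (nψ : ℝ) ≤ (C.index : ℝ) * (k : ℝ) := by exact_mod_cast hD
  have hCpos : (0 : ℝ) ≤ (Nat.card C : ℝ) := Nat.cast_nonneg _
  have hDpos : (0 : ℝ) ≤ (Nat.card D : ℝ) := Nat.cast_nonneg _
  have hnpos : (0 : ℝ) ≤ (nψ : ℝ) := Nat.cast_nonneg _
  have hsq : (nψ : ℝ) ^ 2 ≤ ((C.index : ℝ) * (k : ℝ)) ^ 2 := pow_le_pow_left₀ hnpos hD' 2
  calc (nψ : ℝ) ^ 2 * (Nat.card C : ℝ) * (Nat.card D : ℝ)
      ≤ ((C.index : ℝ) * (k : ℝ)) ^ 2 * (Nat.card C : ℝ) * (Nat.card D : ℝ) := by
        apply mul_le_mul_of_nonneg_right _ hDpos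
        exact mul_le_mul_of_nonneg_right hsq hCpos
    _ = (C.index : ℝ) ^ 2 * (Nat.card C : ℝ) * ((Nat.card D : ℝ) * (k : ℝ) ^ 2) := by ring
    _ ≤ (C.index : ℝ) ^ 2 * (Nat.card C : ℝ) * (Nat.card C : ℝ) := by
        apply mul_le_mul_of_nonneg_left hC
        positivity
    _ = ((C.index : ℝ) * (Nat.card C : ℝ)) ^ 2 := by ring
    _ = (Nat.card G : ℝ) ^ 2 := by rw [hidx]

end Cfsg.Agent.S1492
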