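import Cfsg.Statements.S1516
import Cfsg.Agent.Lib.Helper25.Coherence2
import Cfsg.Agent.S1517

set_option autoImplicit false
open Cfsg
open Cfsg.Agent.Lib.Helper25
open scoped ComplexConjugate

namespace Cfsg.Agent.S1516

section

variable {L : Type*} [Group L] [Fintype L] {G : Type*} [Group G] [Fintype G]
  {S : Set (L → ℂ)} {τ : (L → ℂ) → (G → ℂ)} {R : (L → ℂ) → Finset (G → ℂ)}

theorem conj_apply_one (hS : IsCoherenceSystem S τ R) {φ : L → ℂ} (hφ : φ ∈ S) :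
    conjFun φ 1 = φ 1 := by
  obtain ⟨m, hm⟩ := char_degree (hS.isCharacter φ hφ)
  rw [conjFun_apply, hm, Complex.conj_natCast]

theorem sub_conj_mem (hS : IsCoherenceSystem S τ R) {S₁ : Set (L → ℂ)} (hS₁ : S₁ ⊆ S)
    (hS₁c : ∀ φ ∈ S₁, conjFun φ ∈ S₁) {φ : L → ℂ} (hφ : φ ∈ S₁) :
    φ - conjFun φ ∈ zspanOn S₁ ({1}ᶜ : Set L) := by
  rw [mem_zspanOn_one]
  refine ⟨zspan_sub (subset_zspan hφ) (subset_zspan (hS₁c φ hφ)), ?_⟩
  rw [Pi.sub_apply, conj_apply_one hS (hS₁ hφ), sub_self]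

/-- In a coherent subset closed under conjugation, the image of `φ` lies in the span of `R φ`. -/
theorem tau1_eq_proj (hS : IsCoherenceSystem S τ R) {S₁ : Set (L → ℂ)} (hS₁ : S₁ ⊆ S)
    (hS₁c : ∀ φ ∈ S₁, conjFun φ ∈ S₁) {τ₁ : (L → ℂ) → (G → ℂ)}
    (hτ₁ : IsLinearIsometryOn (zspan S₁) τ₁)
    (hagree : ∀ α ∈ zspanOn S₁ ({1}ᶜ : Set L), τ₁ α = τ α) {φ : L → ℂ} (hφ : φ ∈ S₁) :
    τ₁ φ = proj (R φ) (τ₁ φ) := by
  classical
  have hφS := hS₁ hφ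
  have hφc := hS₁c φ hφ
  obtain ⟨nφ, _, hnφ⟩ := Cfsg.Agent.S1517.norm_pos hS hφS
  have hE := hS.orthonormal φ hφS
  have e1 : τ₁ φ - τ₁ (conjFun φ) = ∑ α ∈ R φ, α := by
    rw [← isometryOn_map_sub hτ₁ (fun f hf => zspan_neg hf) (subset_zspan hφ) (subset_zspan hφc),
      hagree _ (sub_conj_mem hS hS₁ hS₁c hφ), hS.sum_eq φ hφS]
  have hvirt : IsGeneralizedCharacter G (τ₁ φ) := hτ₁.2.2.2 φ (subset_zspan hφ)
  have sx : ∑ α ∈ R φ, classInner (τ₁ φ) α = nφ := by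
    rw [← classInner_sum_right, ← e1, classInner_sub_right,
      hτ₁.2.2.1 φ (subset_zspan hφ) φ (subset_zspan hφ),
      hτ₁.2.2.1 φ (subset_zspan hφ) _ (subset_zspan hφc), hnφ,
      hS.orthogonal φ hφS _ (hS₁ hφc) (hS.conj_ne φ hφS).symm, sub_zero]
  have hx : ∀ α ∈ R φ, ∃ k : ℤ, classInner (τ₁ φ) α = k :=
    fun α hα => classInner_genChar_int hvirt (hS.virtual φ hφS α hα)
  have hb := bessel_identity (R φ) hE (τ₁ φ)
  rw [hτ₁.2.2.1 φ (subset_zspan hφ) φ (subset_zspan hφ), hnφ] at hb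
  obtain ⟨_, r2⟩ := Cfsg.Agent.S1517.sq_sum_lemma (R φ) (∅ : Finset (G → ℂ))
    (fun α => classInner (τ₁ φ) α) (fun _ => 0) nφ 0 hx (by simp) sx (by simp) _
    (classInner_self_re_nonneg _) (by rw [hb]; simp)
  exact sub_eq_zero.mp (classInner_self_eq_zero r2)

/-- The analysis of `X = τ (χ - a χ₁) + a τ₁ χ₁`. -/
theorem X_props (hS : IsCoherenceSystem S τ R) (d n : (L → ℂ) → ℕ)
    (hd : ∀ φ ∈ S, φ 1 = (d φ : ℂ)) (hn : ∀ φ ∈ S, classInner φ φ = (n φ : ℂ))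
    (S₁ : Finset (L → ℂ)) (hS₁ : ↑S₁ ⊆ S) (hS₁c : ∀ φ ∈ S₁, conjFun φ ∈ S₁)
    {τ₁ : (L → ℂ) → (G → ℂ)} (hτ₁ : IsLinearIsometryOn (zspan (↑S₁ : Set (L → ℂ))) τ₁)
    (hagree : ∀ α ∈ zspanOn (↑S₁ : Set (L → ℂ)) ({1}ᶜ : Set L), τ₁ α = τ α)
    (χ : L → ℂ) (hχ : χ ∈ S) (hχ₁ : χ ∉ S₁) (hχ₂ : conjFun χ ∉ S₁)
    (χ₁ : L → ℂ) (hχ₁S : χ₁ ∈ S₁) (a : ℕ) (ha : d χ = d χ₁ * a)
    (hineq : (2 * d χ * d χ₁ : ℝ) < ∑ φ ∈ S₁, ((d φ : ℝ) ^ 2 / (n φ : ℝ))) :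
    classInner (τ (χ - (a : ℤ) • χ₁) + (a : ℤ) • τ₁ χ₁) (τ (χ - (a : ℤ) • χ₁) + (a : ℤ) • τ₁ χ₁)
      = n χ ∧
    (∀ φ ∈ S₁, classInner (τ₁ φ) (τ (χ - (a : ℤ) • χ₁) + (a : ℤ) • τ₁ χ₁) = 0) ∧
    classInner (τ (χ - (a : ℤ) • χ₁) + (a : ℤ) • τ₁ χ₁) (τ (χ - conjFun χ)) = n χ ∧
    (∀ φ ∈ S₁, classInner (τ₁ φ) (τ (χ - conjFun χ)) = 0) := by
  classical
  have hmemS : ∀ φ ∈ S₁, φ ∈ S := fun φ hφ => hS₁ (Finset.mem_coe.mpr hφ)
  have hχ₁' : χ₁ ∈ S := hmemS χ₁ hχ₁S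
  have hcχ : conjFun χ ∈ S := hS.conj_mem χ hχ
  have hneχ : ∀ φ ∈ S₁, φ ≠ χ := fun φ hφ h => hχ₁ (h ▸ hφ)
  have hneχ' : ∀ φ ∈ S₁, φ ≠ conjFun χ := fun φ hφ h => hχ₂ (h ▸ hφ)
  have hneχc : ∀ φ ∈ S₁, χ ≠ conjFun φ := by
    intro φ hφ h
    apply hχ₂
    rw [h, conjFun_conjFun]
    exact hφ
  -- orthogonality of χ, conj χ with S₁
  have o1 : ∀ φ ∈ S₁, classInner φ χ = 0 :=
    fun φ hφ => hS.orthogonal φ (hmemS φ hφ) χ hχ (hneχ φ hφ)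
  have o2 : ∀ φ ∈ S₁, classInner χ φ = 0 :=
    fun φ hφ => hS.orthogonal χ hχ φ (hmemS φ hφ) (hneχ φ hφ).symm
  have o3 : ∀ φ ∈ S₁, classInner φ (conjFun χ) = 0 :=
    fun φ hφ => hS.orthogonal φ (hmemS φ hφ) _ hcχ (hneχ' φ hφ)
  have o4 : classInner χ (conjFun χ) = 0 := hS.orthogonal χ hχ _ hcχ (hS.conj_ne χ hχ).symm
  -- positivity of degrees and norms
  have hdpos : ∀ φ ∈ S, (d φ : ℝ) ≠ 0 := by
    intro φ hφ h0
    have h1 : (d φ : ℂ) = 0 := by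
      have : d φ = 0 := by exact_mod_cast h0
      rw [this]; simp
    exact Cfsg.Agent.S1517.char_one_ne_zero (hS.isCharacter φ hφ)
      (Cfsg.Agent.S1517.ne_zero_of_mem hS hφ) ((hd φ hφ).trans h1)
  have hnpos : ∀ φ ∈ S, n φ ≠ 0 := by
    intro φ hφ h0
    obtain ⟨m, hm, hm2⟩ := Cfsg.Agent.S1517.norm_pos hS hφ
    rw [hn φ hφ, h0] at hm2
    have : (0 : ℕ) = m := by exact_mod_cast hm2
    omega
  -- memberships
  have hψ : χ - (a : ℤ) • χ₁ ∈ zspanOn S ({1}ᶜ : Set L) := by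
    rw [mem_zspanOn_one]
    refine ⟨zspan_sub (subset_zspan hχ) (zspan_zsmul (subset_zspan hχ₁') _), ?_⟩
    rw [Pi.sub_apply, Pi.smul_apply, hd χ hχ, hd χ₁ hχ₁', ha, zsmul_eq_mul]
    push_cast
    ring
  have hρ : χ - conjFun χ ∈ zspanOn S ({1}ᶜ : Set L) := by
    rw [mem_zspanOn_one]
    refine ⟨zspan_sub (subset_zspan hχ) (subset_zspan hcχ), ?_⟩
    rw [Pi.sub_apply, conj_apply_one hS hχ, sub_self]
  have hT₁ : χ₁ ∈ zspan (↑S₁ : Set (L → ℂ)) := subset_zspan (Finset.mem_coe.mpr hχ₁S)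
  have hTφ : ∀ φ ∈ S₁, φ ∈ zspan (↑S₁ : Set (L → ℂ)) :=
    fun φ hφ => subset_zspan (Finset.mem_coe.mpr hφ)
  -- inner products of the τ₁ φ
  have hTT : ∀ φ ∈ S₁, ∀ φ' ∈ S₁, classInner (τ₁ φ) (τ₁ φ') = if φ = φ' then (n φ : ℂ) else 0 := by
    intro φ hφ φ' hφ'
    rw [hτ₁.2.2.1 φ (hTφ φ hφ) φ' (hTφ φ' hφ')]
    split_ifs with h
    · rw [← h, hn φ (hmemS φ hφ)]
    · exact hS.orthogonal φ (hmemS φ hφ) φ' (hmemS φ' hφ') h
  -- R χ is orthogonal to all τ₁ φ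
  have hRT : ∀ φ ∈ S₁, ∀ α ∈ R χ, classInner α (τ₁ φ) = 0 := by
    intro φ hφ α hα
    rw [tau1_eq_proj hS hS₁ (fun φ hφ => Finset.mem_coe.mpr (hS₁c φ (Finset.mem_coe.mp hφ)))
      hτ₁ hagree (Finset.mem_coe.mpr hφ)]
    apply classInner_orth_proj
    intro β hβ
    exact Cfsg.Agent.S1517.R_orth hS (hmemS φ hφ) hχ (hneχ φ hφ).symm (hneχc φ hφ) α hα β hβ
  have hTR : ∀ φ ∈ S₁, ∀ α ∈ R χ, classInner (τ₁ φ) α = 0 := by
    intro φ hφ α hα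
    rw [← classInner_conj_symm, hRT φ hφ α hα, map_zero]
  have hTρ : ∀ φ ∈ S₁, classInner (τ₁ φ) (τ (χ - conjFun χ)) = 0 := by
    intro φ hφ
    rw [hS.sum_eq χ hχ, classInner_sum_right]
    exact Finset.sum_eq_zero (fun α hα => hTR φ hφ α hα)
  set X : G → ℂ := τ (χ - (a : ℤ) • χ₁) + (a : ℤ) • τ₁ χ₁ with hX
  have hXvirt : IsGeneralizedCharacter G X :=
    genChar_add (hS.isometry.2.2.2 _ hψ) (genChar_zsmul (hτ₁.2.2.2 _ hT₁) _)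
  obtain ⟨cz, hcz⟩ := classInner_genChar_int hXvirt (hτ₁.2.2.2 _ hT₁)
  -- (1) proportionality
  have prop : ∀ φ ∈ S₁, (d χ₁ : ℂ) * classInner X (τ₁ φ) = (d φ : ℂ) * cz := by
    intro φ hφ
    have hφS := hmemS φ hφ
    have he : ((d χ₁ : ℕ) : ℤ) • φ - ((d φ : ℕ) : ℤ) • χ₁ ∈
        zspanOn (↑S₁ : Set (L → ℂ)) ({1}ᶜ : Set L) := by
      rw [mem_zspanOn_one]
      refine ⟨zspan_sub (zspan_zsmul (hTφ φ hφ) _) (zspan_zsmul hT₁ _), ?_⟩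
      rw [Pi.sub_apply, Pi.smul_apply, Pi.smul_apply, hd φ hφS, hd χ₁ hχ₁', zsmul_eq_mul,
        zsmul_eq_mul]
      push_cast
      ring
    have heS : ((d χ₁ : ℕ) : ℤ) • φ - ((d φ : ℕ) : ℤ) • χ₁ ∈ zspanOn S ({1}ᶜ : Set L) :=
      zspanOn_mono hS₁ he
    have e1 : τ₁ (((d χ₁ : ℕ) : ℤ) • φ - ((d φ : ℕ) : ℤ) • χ₁) =
        ((d χ₁ : ℕ) : ℤ) • τ₁ φ - ((d φ : ℕ) : ℤ) • τ₁ χ₁ := by
      rw [isometryOn_map_sub hτ₁ (fun f hf => zspan_neg hf) (zspan_zsmul (hTφ φ hφ) _)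
        (zspan_zsmul hT₁ _), hτ₁.2.1 _ (hTφ φ hφ), hτ₁.2.1 _ hT₁]
    have e2 : classInner X (((d χ₁ : ℕ) : ℤ) • τ₁ φ - ((d φ : ℕ) : ℤ) • τ₁ χ₁) = 0 := by
      have e3 : classInner (τ (χ - (a : ℤ) • χ₁))
          (((d χ₁ : ℕ) : ℤ) • τ₁ φ - ((d φ : ℕ) : ℤ) • τ₁ χ₁) =
          classInner (χ - (a : ℤ) • χ₁) (((d χ₁ : ℕ) : ℤ) • φ - ((d φ : ℕ) : ℤ) • χ₁) := by
        rw [← e1, hagree _ he, hS.isometry.2.2.1 _ hψ _ heS]
      rw [hX, classInner_add_left, e3]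
      simp only [classInner_sub_left, classInner_sub_right, classInner_zsmul_left,
        classInner_zsmul_right, hTT χ₁ hχ₁S φ hφ, hTT χ₁ hχ₁S χ₁ hχ₁S, if_true, o2 φ hφ,
        o2 χ₁ hχ₁S, hn χ₁ hχ₁']
      split_ifs with h
      · rw [← h, hn χ₁ hχ₁']
        push_cast
        ring
      · rw [hS.orthogonal χ₁ hχ₁' φ hφS h]
        push_cast
        ring
    rw [classInner_sub_right, classInner_zsmul_right, classInner_zsmul_right, hcz] at e2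
    have := sub_eq_zero.mp e2
    push_cast at this
    exact this
  -- (2) the norm of X
  have hτψT : classInner (τ (χ - (a : ℤ) • χ₁)) (τ₁ χ₁) = (cz : ℂ) - a * n χ₁ := by
    have : classInner X (τ₁ χ₁) = classInner (τ (χ - (a : ℤ) • χ₁)) (τ₁ χ₁) + a * n χ₁ := by
      rw [hX, classInner_add_left, classInner_zsmul_left, hTT χ₁ hχ₁S χ₁ hχ₁S, if_pos rfl]
      push_cast
      ring
    rw [hcz] at this
    rw [this]
    ring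
  have hTτψ : classInner (τ₁ χ₁) (τ (χ - (a : ℤ) • χ₁)) = (cz : ℂ) - a * n χ₁ := by
    rw [← classInner_conj_symm, hτψT]
    simp
  have hψψ : classInner (τ (χ - (a : ℤ) • χ₁)) (τ (χ - (a : ℤ) • χ₁)) =
      (n χ : ℂ) + a * a * n χ₁ := by
    rw [hS.isometry.2.2.1 _ hψ _ hψ]
    simp only [classInner_sub_left, classInner_sub_right, classInner_zsmul_left,
      classInner_zsmul_right, o2 χ₁ hχ₁S, o1 χ₁ hχ₁S, hn χ hχ, hn χ₁ hχ₁']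
    push_cast
    ring
  have hXX : classInner X X = (n χ : ℂ) + 2 * a * cz := by
    rw [hX, classInner_add_left, classInner_add_right, classInner_add_right, hψψ,
      classInner_zsmul_right, classInner_zsmul_left, classInner_zsmul_left, classInner_zsmul_right,
      hτψT, hTτψ, hTT χ₁ hχ₁S χ₁ hχ₁S, if_pos rfl]
    push_cast
    ring
  -- (4) inner products with R χ
  have hXα : ∀ α ∈ R χ, classInner X α = classInner (τ (χ - (a : ℤ) • χ₁)) α := by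
    intro α hα
    rw [hX, classInner_add_left, classInner_zsmul_left, hTR χ₁ hχ₁S α hα, mul_zero, add_zero]
  have hXρ : classInner X (τ (χ - conjFun χ)) = n χ := by
    rw [hX, classInner_add_left, classInner_zsmul_left, hTρ χ₁ hχ₁S, mul_zero, add_zero,
      hS.isometry.2.2.1 _ hψ _ hρ]
    simp only [classInner_sub_left, classInner_sub_right, classInner_zsmul_left, hn χ hχ, o4,
      o1 χ₁ hχ₁S, o3 χ₁ hχ₁S]
    ring
  have sy : ∑ α ∈ R χ, classInner X α = n χ := by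
    rw [← classInner_sum_right, ← hS.sum_eq χ hχ, hXρ]
  have hy : ∀ α ∈ R χ, ∃ k : ℤ, classInner X α = k :=
    fun α hα => classInner_genChar_int hXvirt (hS.virtual χ hχ α hα)
  choose! k hk using hy
  have sk : ∑ α ∈ R χ, k α = (n χ : ℤ) := by
    have : ((∑ α ∈ R χ, k α : ℤ) : ℂ) = ((n χ : ℤ) : ℂ) := by
      push_cast
      rw [← sy]
      exact Finset.sum_congr rfl (fun α hα => (hk α hα).symm)
    exact_mod_cast this
  have sk2 : (n χ : ℤ) ≤ ∑ α ∈ R χ, (k α) ^ 2 := by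
    rw [← sk]
    exact Finset.sum_le_sum (fun α _ => Int.le_self_sq (k α))
  -- Bessel
  set V : G → ℂ := X - ∑ φ ∈ S₁, (classInner X (τ₁ φ) / n φ) • τ₁ φ with hV
  have hb1 := bessel_orthogonal S₁ τ₁ n (fun φ hφ => hnpos φ (hmemS φ hφ)) hTT X
  have hVα : ∀ α ∈ R χ, classInner V α = classInner X α := by
    intro α hα
    rw [hV, classInner_sub_left, classInner_sum_left]
    have : ∑ φ ∈ S₁, classInner ((classInner X (τ₁ φ) / n φ) • τ₁ φ) α = 0 := by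
      apply Finset.sum_eq_zero
      intro φ hφ
      rw [classInner_smul_left, hTR φ hφ α hα, mul_zero]
    rw [this, sub_zero]
  have hb2 := bessel_identity (R χ) (hS.orthonormal χ hχ) V
  rw [hb1, hXX] at hb2
  have hd₁ : (d χ₁ : ℝ) ≠ 0 := hdpos χ₁ hχ₁'
  have hd₁c : (d χ₁ : ℂ) ≠ 0 := by exact_mod_cast hd₁
  -- the real number behind the Bessel identity
  have hreal : classInner (V - proj (R χ) V) (V - proj (R χ) V) =
      (((n χ : ℝ) + 2 * a * cz - ∑ φ ∈ S₁, ((d φ : ℝ) / d χ₁ * cz) ^ 2 / n φ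
        - ∑ α ∈ R χ, ((k α : ℤ) : ℝ) ^ 2 : ℝ) : ℂ) := by
    rw [hb2]
    push_cast
    congr 1
    · congr 1
      apply Finset.sum_congr rfl
      intro φ hφ
      have h1 : classInner X (τ₁ φ) = (d φ : ℂ) / d χ₁ * cz := by
        have := prop φ hφ
        field_simp
        rw [← this]
        ring
      rw [h1]
      simp only [map_mul, map_div₀, Complex.conj_natCast, map_intCast]
      ring
    · apply Finset.sum_congr rfl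
      intro α hα
      rw [hVα α hα, hk α hα, map_intCast]
      ring
  have hnonneg := classInner_self_re_nonneg (V - proj (R χ) V)
  rw [hreal, Complex.ofReal_re] at hnonneg
  have hsum : ∑ φ ∈ S₁, ((d φ : ℝ) / d χ₁ * cz) ^ 2 / n φ =
      (cz : ℝ) ^ 2 * ((∑ φ ∈ S₁, (d φ : ℝ) ^ 2 / n φ) / (d χ₁ : ℝ) ^ 2) := by
    rw [Finset.sum_div, Finset.mul_sum]
    apply Finset.sum_congr rfl
    intro φ _
    field_simp
  rw [hsum] at hnonneg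
  have hk2 : ((n χ : ℤ) : ℝ) ≤ ∑ α ∈ R χ, ((k α : ℤ) : ℝ) ^ 2 := by
    have := sk2
    exact_mod_cast this
  -- c = 0
  have hc0 : cz = 0 := by
    by_contra hne
    have h1 : (2 * a : ℝ) < (∑ φ ∈ S₁, (d φ : ℝ) ^ 2 / n φ) / (d χ₁ : ℝ) ^ 2 := by
      rw [lt_div_iff₀ (by positivity)]
      have : (d χ : ℝ) = d χ₁ * a := by exact_mod_cast ha
      rw [this] at hineq
      nlinarith [hineq]
    have h2 : (cz : ℝ) ≤ (cz : ℝ) ^ 2 := by exact_mod_cast Int.le_self_sq cz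
    have h3 : (1 : ℝ) ≤ (cz : ℝ) ^ 2 := by
      have : (1 : ℤ) ≤ cz ^ 2 := by
        have := sq_pos_of_ne_zero hne
        omega
      exact_mod_cast this
    have h4 : (0 : ℝ) ≤ a := Nat.cast_nonneg a
    have h5 : (cz : ℝ) ^ 2 * (2 * a) < (cz : ℝ) ^ 2 *
        ((∑ φ ∈ S₁, (d φ : ℝ) ^ 2 / n φ) / (d χ₁ : ℝ) ^ 2) :=
      mul_lt_mul_of_pos_left h1 (by linarith)
    have h6 : 2 * (a : ℝ) * cz ≤ (cz : ℝ) ^ 2 * (2 * a) := by nlinarith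
    have h7 : ((n χ : ℤ) : ℝ) = (n χ : ℝ) := by push_cast; rfl
    linarith
  refine ⟨?_, ?_, hXρ, hTρ⟩
  · rw [hXX, hc0]
    simp
  · intro φ hφ
    rw [← classInner_conj_symm]
    have := prop φ hφ
    rw [hc0] at this
    have h0 : classInner X (τ₁ φ) = 0 := by
      rcases mul_eq_zero.mp (this.trans (by simp)) with h | h
      · exact absurd h hd₁c
      · exact h
    rw [h0, map_zero]

end

/-- Let (S, τ, R) be a coherence system from L to G with degrees φ 1 = d φ and squared norms ⟨φ, φ⟩ = n φ for φ ∈ S. Let S₁ ⊆ S be a finite subset closed under complex conjugation such that (S₁, L minus 1, τ) is coherent, let χ ∈ S with χ ∉ S₁ and conj χ ∉ S₁, and let χ₁ ∈ S₁ with d χ₁ dividing d χ and 2 d χ d χ₁ < Σ_{φ ∈ S₁} (d φ)² / n φ. Then S₁ together with χ and conj χ is coherent. -/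
theorem result {L : Type*} [Group L] [Fintype L] {G : Type*} [Group G] [Fintype G] (S : Set (L → ℂ)) (τ : (L → ℂ) → (G → ℂ)) (R : (L → ℂ) → Finset (G → ℂ)) (hS : Cfsg.IsCoherenceSystem S τ R) (d n : (L → ℂ) → ℕ) (hd : ∀ φ ∈ S, φ 1 = (d φ : ℂ)) (hn : ∀ φ ∈ S, Cfsg.classInner φ φ = (n φ : ℂ)) (S₁ : Finset (L → ℂ)) (hS₁ : ↑S₁ ⊆ S) (hS₁c : ∀ φ ∈ S₁, Cfsg.conjFun φ ∈ S₁) (hcoh : Cfsg.IsCoherent (↑S₁ : Set (L → ℂ)) {1}ᶜ τ) (χ : L → ℂ) (hχ : χ ∈ S) (hχ₁ : χ ∉ S₁) (hχ₂ : Cfsg.conjFun χ ∉ S₁) (χ₁ : L → ℂ) (hχ₁S : χ₁ ∈ S₁) (hdvd : d χ₁ ∣ d χ) (hineq : (2 * d χ * d χ₁ : ℝ) < ∑ φ ∈ S₁, ((d φ : ℝ) ^ 2 / (n φ : ℝ))) : Cfsg.IsCoherent (↑S₁ ∪ {χ, Cfsg.conjFun χ} : Set (L → ℂ)) {1}ᶜ τ := by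
  obtain ⟨⟨α₀, hα₀, hα₀ne⟩, τ₁, hτ₁, hagree⟩ := hcoh
  obtain ⟨a, ha⟩ := hdvd
  have hmemS : ∀ φ ∈ S₁, φ ∈ S := fun φ hφ => hS₁ (Finset.mem_coe.mpr hφ)
  have hχ₁' : χ₁ ∈ S := hmemS χ₁ hχ₁S
  have hcχ : conjFun χ ∈ S := hS.conj_mem χ hχ
  obtain ⟨p1, p2, p3, p4⟩ := X_props hS d n hd hn S₁ hS₁ hS₁c hτ₁ hagree χ hχ hχ₁ hχ₂ χ₁ hχ₁S a ha
    hineq
  have hnχ : (n χ : ℂ) ≠ 0 := by
    obtain ⟨m, hm, hm2⟩ := Cfsg.Agent.S1517.norm_pos hS hχ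
    rw [hn χ hχ] at hm2
    rw [hm2]
    exact_mod_cast hm.ne'
  have hψ : χ - (a : ℤ) • χ₁ ∈ zspanOn S ({1}ᶜ : Set L) := by
    rw [mem_zspanOn_one]
    refine ⟨zspan_sub (subset_zspan hχ) (zspan_zsmul (subset_zspan hχ₁') _), ?_⟩
    rw [Pi.sub_apply, Pi.smul_apply, hd χ hχ, hd χ₁ hχ₁', ha, zsmul_eq_mul]
    push_cast
    ring
  have hρ : χ - conjFun χ ∈ zspanOn S ({1}ᶜ : Set L) := by
    rw [mem_zspanOn_one]
    refine ⟨zspan_sub (subset_zspan hχ) (subset_zspan hcχ), ?_⟩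
    rw [Pi.sub_apply, conj_apply_one hS hχ, sub_self]
  have hT₁ : χ₁ ∈ zspan (↑S₁ : Set (L → ℂ)) := subset_zspan (Finset.mem_coe.mpr hχ₁S)
  have hρρ : classInner (τ (χ - conjFun χ)) (τ (χ - conjFun χ)) = 2 * (n χ : ℂ) := by
    rw [hS.isometry.2.2.1 _ hρ _ hρ, classInner_sub_left, classInner_sub_right,
      classInner_sub_right, classInner_conjFun', hn χ hχ,
      hS.orthogonal χ hχ _ hcχ (hS.conj_ne χ hχ).symm, hS.orthogonal _ hcχ χ hχ (hS.conj_ne χ hχ)]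
    ring
  have hρX : classInner (τ (χ - conjFun χ)) (τ (χ - (a : ℤ) • χ₁) + (a : ℤ) • τ₁ χ₁) = n χ := by
    rw [← classInner_conj_symm, p3, Complex.conj_natCast]
  refine ⟨⟨α₀, zspanOn_mono Set.subset_union_left hα₀, hα₀ne⟩, ?_⟩
  refine exists_extension_pair (S₁ := (↑S₁ : Set (L → ℂ))) (S := S) hS₁ hS.isometry hτ₁ hagree
    hχ hcχ (Finset.mem_coe.mpr hχ₁S) (a : ℤ) ?_ ?_ hnχ (hn χ hχ) ?_ ?_ ?_ ?_
    (X := τ (χ - (a : ℤ) • χ₁) + (a : ℤ) • τ₁ χ₁)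
    (X' := τ (χ - (a : ℤ) • χ₁) + (a : ℤ) • τ₁ χ₁ - τ (χ - conjFun χ)) ?_ ?_ p1 ?_ ?_ ?_ ?_ ?_ ?_
  · rw [hd χ hχ, hd χ₁ hχ₁', ha]
    push_cast
    ring
  · rw [conj_apply_one hS hχ, hd χ hχ, hd χ₁ hχ₁', ha]
    push_cast
    ring
  · rw [classInner_conjFun', hn χ hχ]
  · exact hS.orthogonal χ hχ _ hcχ (hS.conj_ne χ hχ).symm
  · intro φ hφ
    exact hS.orthogonal φ (hS₁ hφ) χ hχ (fun h => hχ₁ (h ▸ Finset.mem_coe.mp hφ))
  · intro φ hφ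
    exact hS.orthogonal φ (hS₁ hφ) _ hcχ (fun h => hχ₂ (h ▸ Finset.mem_coe.mp hφ))
  · exact genChar_add (hS.isometry.2.2.2 _ hψ) (genChar_zsmul (hτ₁.2.2.2 _ hT₁) _)
  · exact genChar_sub (genChar_add (hS.isometry.2.2.2 _ hψ) (genChar_zsmul (hτ₁.2.2.2 _ hT₁) _))
      (hS.isometry.2.2.2 _ hρ)
  · rw [classInner_sub_left, classInner_sub_right, classInner_sub_right, p1, p3, hρX, hρρ]
    ring
  · rw [classInner_sub_right, p1, p3, sub_self]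
  · intro φ hφ
    exact p2 φ (Finset.mem_coe.mp hφ)
  · intro φ hφ
    rw [classInner_sub_right, p2 φ (Finset.mem_coe.mp hφ), p4 φ (Finset.mem_coe.mp hφ), sub_zero]
  · abel
  · have e : conjFun χ - (a : ℤ) • χ₁ = (χ - (a : ℤ) • χ₁) - (χ - conjFun χ) := by abel
    rw [e, isometryOn_map_sub hS.isometry (fun f hf => zspanOn_neg hf) hψ hρ]
    abel

end Cfsg.Agent.S1516
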