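import Cfsg.Statements.S1519
import Cfsg.Agent.Lib.Helper25.CohMax

set_option autoImplicit false
open Cfsg
open Cfsg.Agent.Lib.Helper25
open scoped ComplexConjugate

namespace Cfsg.Agent.S1519

section

variable {L : Type*} [Group L] [Fintype L]

/-- A nontrivial linear character of `K` trivial on `N < K` induces a member of the set. -/
theorem exists_linear_mem (K : Subgroup L) [hK : K.Normal] (hsolv : Group.IsSolvable K)
    (N : Subgroup L) [N.Normal] (hNK : N < K) :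
    ∃ χ ∈ inducedIrrAbove K N, χ 1 = (K.index : ℂ) := by
  have hne : N.subgroupOf K ≠ ⊤ := by
    intro h
    rw [Subgroup.subgroupOf_eq_top] at h
    exact hNK.not_ge h
  obtain ⟨lam, hlam, hker⟩ := exists_linear_nontrivial hsolv (N.subgroupOf K) hne
  refine ⟨indFun K (fun k : K => ((lam k : ℂˣ) : ℂ)),
    ⟨_, Cfsg.Agent.Lib.Helper79.isIrrCharacter_of_monoidHom lam, ?_, ?_, rfl⟩, ?_⟩
  · intro h
    apply hlam
    ext k
    have := congrFun h k
    simpa using this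
  · intro a ha
    show ((lam a : ℂˣ) : ℂ) = ((lam 1 : ℂˣ) : ℂ)
    rw [hker a ha, map_one]
  · rw [indIrr_apply_one, map_one, Units.val_one, mul_one]

end

/-- Let K be a solvable normal subgroup of the finite group L and (S, τ, R) a coherence system from L to G where S is the set of functions induced from non-principal irreducible characters of K; write S(A) for those induced from characters whose kernel contains A. Let A, B, C, D be normal subgroups of L with A < K, B < K, B ≤ D ≤ C ≤ K and every commutator of D with C in B. If S(A) is coherent and 4 * [L:C]^2 * [C:D] < ([K:A] − 1)^2, then S(B) is coherent. -/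
theorem result {L : Type*} [Group L] [Fintype L] {G : Type*} [Group G] [Fintype G] (K : Subgroup L) [hK : K.Normal] (hsolv : Group.IsSolvable K) (τ : (L → ℂ) → (G → ℂ)) (R : (L → ℂ) → Finset (G → ℂ)) (hS : Cfsg.IsCoherenceSystem (Cfsg.inducedIrrAbove K ⊥) τ R) (A B C D : Subgroup L) [A.Normal] [B.Normal] [C.Normal] [D.Normal] (hAK : A < K) (hBK : B < K) (hBD : B ≤ D) (hDC : D ≤ C) (hCK : C ≤ K) (hcent : ∀ x ∈ D, ∀ y ∈ C, x * y * x⁻¹ * y⁻¹ ∈ B) (hA : Cfsg.IsCoherent (Cfsg.inducedIrrAbove K A) {1}ᶜ τ) (hlt : 4 * C.index ^ 2 * D.relIndex C < (A.relIndex K - 1) ^ 2) : Cfsg.IsCoherent (Cfsg.inducedIrrAbove K B) {1}ᶜ τ := by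
  classical
  have : Fintype (IrrCharacter K) := Fintype.ofFinite _
  have hSA : inducedIrrAbove K A ⊆ inducedIrrAbove K ⊥ := inducedIrrAbove_mono K bot_le
  have hSB : inducedIrrAbove K B ⊆ inducedIrrAbove K ⊥ := inducedIrrAbove_mono K bot_le
  -- degree and norm functions
  have hdex : ∀ φ ∈ inducedIrrAbove K ⊥, ∃ m : ℕ, φ 1 = (m : ℂ) :=
    fun φ hφ => char_degree (hS.isCharacter φ hφ)
  have hnex : ∀ φ ∈ inducedIrrAbove K ⊥, ∃ m : ℕ, classInner φ φ = (m : ℂ) := by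
    intro φ hφ
    obtain ⟨m, _, hm⟩ := Cfsg.Agent.S1517.norm_pos hS hφ
    exact ⟨m, hm⟩
  let d : (L → ℂ) → ℕ := fun φ => if h : ∃ m : ℕ, φ 1 = (m : ℂ) then h.choose else 0
  let n : (L → ℂ) → ℕ := fun φ => if h : ∃ m : ℕ, classInner φ φ = (m : ℂ) then h.choose else 0
  have hd : ∀ φ ∈ inducedIrrAbove K ⊥, φ 1 = (d φ : ℂ) := by
    intro φ hφ
    have h := hdex φ hφ
    simp only [d, dif_pos h]
    exact h.choose_spec
  have hn : ∀ φ ∈ inducedIrrAbove K ⊥, classInner φ φ = (n φ : ℂ) := by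
    intro φ hφ
    have h := hnex φ hφ
    simp only [n, dif_pos h]
    exact h.choose_spec
  obtain ⟨χB, hχB, -⟩ := exists_linear_mem K hsolv B hBK
  apply coherent_by_maximality hS (inducedIrrAbove_finite K ⊥) (inducedIrrAbove K A) hSA
    (fun φ hφ => inducedIrrAbove_conj K A hφ) hA (inducedIrrAbove K B) hSB
    (fun φ hφ => inducedIrrAbove_conj K B hφ) ⟨χB, hχB⟩
  intro S₁ h0 h1 h2 h3 χ hχT hχ hcχ
  obtain ⟨χ₁, hχ₁A, hχ₁deg⟩ := exists_linear_mem K hsolv A hAK
  have hχ₁S₁ : χ₁ ∈ S₁ := Finset.mem_coe.mp (h0 hχ₁A)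
  -- degrees
  have hkpos : 0 < K.index := Nat.pos_of_ne_zero Subgroup.index_ne_zero_of_finite
  have hdχ₁ : d χ₁ = K.index := by
    have := hd χ₁ (hSA hχ₁A)
    rw [hχ₁deg] at this
    exact_mod_cast this.symm
  obtain ⟨θ, hθ, hθne, hθker, hχθ⟩ := hχT
  obtain ⟨m, hmpos, hm⟩ := irr_degree hθ
  have hdχ : d χ = K.index * m := by
    have := hd χ (hSB ⟨θ, hθ, hθne, hθker, hχθ⟩)
    rw [congrFun hχθ 1, indIrr_apply_one, hm] at this
    exact_mod_cast this.symm
  have hbound := degree_sq_le K hθ B C D hBD hDC hCK hcent hθker m hm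
  -- arithmetic
  have hCidx : C.relIndex K * K.index = C.index := Subgroup.relIndex_mul_index hCK
  have hlt2 : (2 * K.index * m) ^ 2 < (A.relIndex K - 1) ^ 2 := by
    calc (2 * K.index * m) ^ 2 = 4 * K.index ^ 2 * m ^ 2 := by ring
      _ ≤ 4 * K.index ^ 2 * ((C.relIndex K) ^ 2 * D.relIndex C) :=
          Nat.mul_le_mul_left _ hbound
      _ = 4 * (C.relIndex K * K.index) ^ 2 * D.relIndex C := by ring
      _ = 4 * C.index ^ 2 * D.relIndex C := by rw [hCidx]
      _ < _ := hlt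
  have hlt3 : 2 * K.index * m < A.relIndex K - 1 := lt_of_pow_lt_pow_left₀ 2 (Nat.zero_le _) hlt2
  have hapos : 1 ≤ A.relIndex K := by omega
  -- the sum
  have hsum := sum_inducedIrrAbove K A d n (fun φ hφ => hd φ (hSA hφ)) (fun φ hφ => hn φ (hSA hφ))
  have hsub : (irrAbove K A).image (fun θ : IrrCharacter K => indFun K (θ : K → ℂ)) ⊆ S₁ := by
    intro φ hφ
    have : φ ∈ inducedIrrAbove K A := by
      rw [inducedIrrAbove_eq_image]
      exact Finset.mem_coe.mpr hφ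
    exact Finset.mem_coe.mp (h0 this)
  have hle : (K.index : ℝ) * ((A.relIndex K : ℝ) - 1) ≤ ∑ φ ∈ S₁, ((d φ : ℝ) ^ 2 / (n φ : ℝ)) := by
    rw [← hsum]
    apply Finset.sum_le_sum_of_subset_of_nonneg hsub
    intro φ _ _
    positivity
  have hineq : (2 * d χ * d χ₁ : ℝ) < ∑ φ ∈ S₁, ((d φ : ℝ) ^ 2 / (n φ : ℝ)) := by
    apply lt_of_lt_of_le _ hle
    rw [hdχ, hdχ₁]
    have h5 : ((2 * K.index * m : ℕ) : ℝ) < ((A.relIndex K - 1 : ℕ) : ℝ) := by exact_mod_cast hlt3
    rw [Nat.cast_sub hapos] at h5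
    push_cast at h5 ⊢
    have hk : (0 : ℝ) < K.index := by exact_mod_cast hkpos
    nlinarith
  have hdvd : d χ₁ ∣ d χ := by
    rw [hdχ₁, hdχ]
    exact Dvd.intro _ rfl
  exact Cfsg.Agent.S1516.result (inducedIrrAbove K ⊥) τ R hS d n hd hn S₁ h1 h2 h3 χ
    (hSB ⟨θ, hθ, hθne, hθker, hχθ⟩) hχ hcχ χ₁ hχ₁S₁ hdvd hineq

end Cfsg.Agent.S1519
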