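import Cfsg.Statements.S0850
import Mathlib

set_option autoImplicit false
open Cfsg

namespace Cfsg.Agent.S0850

/-- conjugation action of the normalizer on the subgroup -/
@[reducible] def conjAct {G : Type*} [Group G] (K : Subgroup G) :
    MulAction (Subgroup.normalizer (K : Set G)) K where
  smul n k := ⟨(n : G) * k * (n : G)⁻¹, (Subgroup.mem_normalizer_iff.mp n.2 k).mp k.2⟩
  one_smul k := by
    apply Subtype.ext
    show ((1 : Subgroup.normalizer (K : Set G)) : G) * k * ((1 : Subgroup.normalizer (K : Set G)) : G)⁻¹ = k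
    simp
  mul_smul m n k := by
    apply Subtype.ext
    show ((m * n : Subgroup.normalizer (K : Set G)) : G) * k * ((m * n : Subgroup.normalizer (K : Set G)) : G)⁻¹
      = (m : G) * ((n : G) * k * (n : G)⁻¹) * (m : G)⁻¹
    simp [mul_assoc]

theorem pelt_mem {G : Type*} [Group G] [Finite G] (K : Subgroup G)
    (hC : ∀ k ∈ K, k ≠ 1 → Subgroup.centralizer ({k} : Set G) ≤ K)
    (p : ℕ) [Fact p.Prime] (hpK : p ∣ Nat.card K) (y : G)
    (hy : y ∈ Subgroup.normalizer (K : Set G)) (a : ℕ) (hya : y ^ (p ^ a) = 1) : y ∈ K := by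
  let _ := conjAct K
  let y' : Subgroup.normalizer (K : Set G) := ⟨y, hy⟩
  let P : Subgroup (Subgroup.normalizer (K : Set G)) := Subgroup.zpowers y'
  have hP : IsPGroup p P := by
    intro g
    refine ⟨a, ?_⟩
    obtain ⟨g, hg⟩ := g
    obtain ⟨j, rfl⟩ := Subgroup.mem_zpowers_iff.mp hg
    apply Subtype.ext
    apply Subtype.ext
    simp only [Subgroup.coe_pow, Subgroup.coe_zpow, Subgroup.coe_one, y']
    rw [← zpow_natCast, ← zpow_mul, mul_comm, zpow_mul, zpow_natCast, hya, one_zpow]
  have h1 : (1 : K) ∈ MulAction.fixedPoints P K := by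
    intro g
    apply Subtype.ext
    show ((g : Subgroup.normalizer (K : Set G)) : G) * ((1 : K) : G) * ((g : Subgroup.normalizer (K : Set G)) : G)⁻¹ = ((1 : K) : G)
    simp
  obtain ⟨b, hb, hb1⟩ := hP.exists_fixed_point_of_prime_dvd_card_of_fixed_point K hpK h1
  have hyb : y * (b : G) * y⁻¹ = b := by
    have := hb ⟨y', Subgroup.mem_zpowers y'⟩
    exact congrArg Subtype.val this
  have hbne : (b : G) ≠ 1 := by
    intro h
    apply hb1
    apply Subtype.ext
    rw [h]; rfl
  apply hC b b.2 hbne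
  rw [Subgroup.mem_centralizer_iff]
  intro h hh
  rw [Set.mem_singleton_iff] at hh
  subst hh
  calc (b : G) * y = (y * b * y⁻¹) * y := by rw [hyb]
    _ = y * b := by group

theorem part1 {G : Type*} [Group G] [Finite G] (K : Subgroup G)
    (hC : ∀ k ∈ K, k ≠ 1 → Subgroup.centralizer ({k} : Set G) ≤ K)
    (x : G) (hx : x ∈ Subgroup.normalizer (K : Set G)) (hxK : x ∉ K) (g : G)
    (hg : g * x * g⁻¹ ∈ K) : False := by
  let N := Subgroup.normalizer (K : Set G)
  let x' : N := ⟨x, hx⟩
  let q : N ⧸ K.subgroupOf N := QuotientGroup.mk x'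
  -- powers of x in K
  have hpow : ∀ m : ℕ, x ^ m ∈ K ↔ orderOf q ∣ m := by
    intro m
    rw [orderOf_dvd_iff_pow_eq_one]
    show x ^ m ∈ K ↔ (QuotientGroup.mk x' : N ⧸ K.subgroupOf N) ^ m = 1
    rw [← QuotientGroup.mk_pow, QuotientGroup.eq_one_iff, Subgroup.mem_subgroupOf]
    simp [x']
  have hd1 : orderOf q ≠ 1 := by
    intro h
    apply hxK
    have := (hpow 1).mpr (by rw [h])
    simpa using this
  set p := Nat.minFac (orderOf q) with hp
  have hpprime : p.Prime := Nat.minFac_prime hd1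
  have : Fact p.Prime := ⟨hpprime⟩
  have hpd : p ∣ orderOf q := Nat.minFac_dvd _
  set n := orderOf x with hn
  have hn0 : n ≠ 0 := (orderOf_pos x).ne'
  obtain ⟨a, r, hpr, hnr⟩ := Nat.exists_eq_pow_mul_and_not_dvd hn0 p hpprime.ne_one
  set y := x ^ r with hy
  have hyN : y ∈ Subgroup.normalizer (K : Set G) := Subgroup.pow_mem _ hx r
  have hya : y ^ (p ^ a) = 1 := by
    rw [hy, ← pow_mul, mul_comm, ← hnr, hn, pow_orderOf_eq_one]
  have hyK : y ∉ K := by
    intro h
    apply hpr
    exact hpd.trans ((hpow r).mp h)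
  have hgy : g * y * g⁻¹ ∈ K := by
    have : g * y * g⁻¹ = (g * x * g⁻¹) ^ r := by
      rw [hy, conj_pow]
    rw [this]
    exact K.pow_mem hg r
  -- p divides the order of K
  have hpK : p ∣ Nat.card K := by
    have hy1 : y ≠ 1 := fun h => hyK (h ▸ K.one_mem)
    have ho : orderOf (g * y * g⁻¹) = orderOf y := by
      have : g * y * g⁻¹ = MulAut.conj g y := by simp
      rw [this, MulEquiv.orderOf_eq]
    have hdvd : orderOf y ∣ Nat.card K := by
      rw [← ho]
      have := orderOf_dvd_natCard (⟨g * y * g⁻¹, hgy⟩ : K)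
      rwa [Subgroup.orderOf_mk] at this
    have hyo : orderOf y ∣ p ^ a := orderOf_dvd_of_pow_eq_one hya
    obtain ⟨b, hb, hyb⟩ := (Nat.dvd_prime_pow hpprime).mp hyo
    have hb0 : b ≠ 0 := by
      intro h
      rw [h, pow_zero, orderOf_eq_one_iff] at hyb
      exact hy1 hyb
    have : p ∣ orderOf y := by
      rw [hyb]; exact dvd_pow_self p hb0
    exact this.trans hdvd
  exact hyK (pelt_mem K hC p hpK y hyN a hya)

theorem part2 {G : Type*} [Group G] [Fintype G] (K N : Subgroup G)
    (hTI : ∀ g : G, g ∉ N → ∀ k ∈ K, g * k * g⁻¹ ∈ K → k = 1)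
    (hp1 : ∀ x ∈ N, x ∉ K → ∀ g : G, g * x * g⁻¹ ∉ K)
    (ϑ : N → ℂ) (hcl : IsClassFunction N ϑ) (hvan : ∀ x : N, (x : G) ∉ K → ϑ x = 0)
    (h1 : ϑ 1 = 0) (x : N) : indFun N ϑ x = ϑ x := by
  classical
  have hextin : ∀ (z : G) (hz : z ∈ N), extendByZero N ϑ z = ϑ ⟨z, hz⟩ := by
    intro z hz
    rw [extendByZero]
    exact Subtype.val_injective.extend_apply ϑ 0 ⟨z, hz⟩
  have hextout : ∀ (z : G), z ∉ N → extendByZero N ϑ z = 0 := by
    intro z hz
    rw [extendByZero, Function.extend_apply']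
    · rfl
    · rintro ⟨a, ha⟩
      exact hz (ha ▸ a.2)
  have hterm : ∀ g : G, extendByZero N ϑ (g⁻¹ * (x : G) * g) = if g ∈ N then ϑ x else 0 := by
    intro g
    by_cases hxK : (x : G) ∈ K
    · by_cases hx1 : (x : G) = 1
      · have hx1' : x = 1 := Subtype.ext hx1
        have : g⁻¹ * (x : G) * g = 1 := by rw [hx1]; group
        rw [this, hextin 1 N.one_mem]
        have : (⟨1, N.one_mem⟩ : N) = 1 := rfl
        rw [this, hx1', h1]
        simp
      · split_ifs with hgN
        · have hmem : g⁻¹ * (x : G) * g ∈ N := N.mul_mem (N.mul_mem (N.inv_mem hgN) x.2) hgN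
          rw [hextin _ hmem]
          have := hcl x (⟨g, hgN⟩⁻¹ : N)
          rw [← this]
          congr 1
          apply Subtype.ext
          simp
        · by_cases hmem : g⁻¹ * (x : G) * g ∈ N
          · rw [hextin _ hmem]
            apply hvan
            intro hK
            apply hx1
            apply hTI g⁻¹ (fun h => hgN (by simpa using N.inv_mem h)) x hxK
            simpa using hK
          · exact hextout _ hmem
    · rw [hvan x hxK]
      simp only [ite_self]
      by_cases hmem : g⁻¹ * (x : G) * g ∈ N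
      · rw [hextin _ hmem]
        apply hvan
        have := hp1 x x.2 hxK g⁻¹
        simpa using this
      · exact hextout _ hmem
  show (Nat.card N : ℂ)⁻¹ * ∑ g : G, extendByZero N ϑ (g⁻¹ * (x : G) * g) = ϑ x
  simp_rw [hterm]
  rw [Finset.sum_ite, Finset.sum_const, Finset.sum_const_zero, add_zero, nsmul_eq_mul]
  have hcard : (Finset.filter (fun g => g ∈ N) Finset.univ).card = Nat.card N := by
    rw [Nat.card_eq_fintype_card, Fintype.card_subtype]
  rw [hcard, ← mul_assoc, inv_mul_cancel₀, one_mul]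
  exact_mod_cast (Nat.card_pos (α := N)).ne'

/-- Let K be a subgroup of the finite group G that meets each conjugate by an element outside its normalizer N trivially, is properly contained in N, and contains the centralizer of each of its non-identity elements (a T.I. subgroup with Frobenius normalizer). Then no element of N outside K is conjugate in G to an element of K, and for every class function ϑ of N that vanishes on N away from K and at the identity, the function induced from ϑ to G agrees with ϑ on all of N. -/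
theorem result {G : Type*} [Group G] [Fintype G] (K : Subgroup G) (hTI : ∀ g : G, g ∉ Subgroup.normalizer (K : Set G) → ∀ k ∈ K, g * k * g⁻¹ ∈ K → k = 1) (hlt : K < Subgroup.normalizer (K : Set G)) (hC : ∀ k ∈ K, k ≠ 1 → Subgroup.centralizer ({k} : Set G) ≤ K) : (∀ x ∈ Subgroup.normalizer (K : Set G), x ∉ K → ∀ g : G, g * x * g⁻¹ ∉ K) ∧ ∀ (ϑ : Subgroup.normalizer (K : Set G) → ℂ), Cfsg.IsClassFunction (Subgroup.normalizer (K : Set G)) ϑ → (∀ x : Subgroup.normalizer (K : Set G), (x : G) ∉ K → ϑ x = 0) → ϑ 1 = 0 → ∀ x : Subgroup.normalizer (K : Set G), Cfsg.indFun (Subgroup.normalizer (K : Set G)) ϑ x = ϑ x := by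
  have hp1 : ∀ x ∈ Subgroup.normalizer (K : Set G), x ∉ K → ∀ g : G, g * x * g⁻¹ ∉ K :=
    fun x hx hxK g hg => part1 K hC x hx hxK g hg
  refine ⟨hp1, ?_⟩
  intro ϑ hcl hvan h1 x
  exact part2 K (Subgroup.normalizer (K : Set G)) hTI hp1 ϑ hcl hvan h1 x

end Cfsg.Agent.S0850
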