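import Cfsg.Statements.S1529
import Cfsg.Agent.Lib.Helper25.NormTwo

set_option autoImplicit false
open Cfsg

namespace Cfsg.Agent.S1529

open Cfsg.Agent.Lib.Helper25
open scoped ComplexConjugate

/-- Integers with `∑ f² = 1`: exactly one entry is `±1`, the rest vanish. -/
theorem int_sum_sq_eq_one {ι : Type*} [Fintype ι] [DecidableEq ι] (f : ι → ℤ)
    (h : ∑ i, f i ^ 2 = 1) :
    ∃ i, (f i = 1 ∨ f i = -1) ∧ ∀ k, k ≠ i → f k = 0 := by
  have hex : ∃ i, f i ≠ 0 := by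
    by_contra hcon
    have h0 : ∀ i, f i = 0 := fun i => by
      by_contra hi
      exact hcon ⟨i, hi⟩
    have : ∑ i, f i ^ 2 = 0 := Finset.sum_eq_zero (fun i _ => by rw [h0 i]; rfl)
    rw [this] at h
    exact zero_ne_one h
  obtain ⟨i, hi⟩ := hex
  have hsplit := Finset.add_sum_erase Finset.univ (fun k => f k ^ 2) (Finset.mem_univ i)
  rw [h] at hsplit
  have h1 : 1 ≤ f i ^ 2 := by
    have : f i ≤ -1 ∨ 1 ≤ f i := by omega
    rcases this with h' | h' <;> nlinarith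
  have h2 : 0 ≤ ∑ k ∈ Finset.univ.erase i, f k ^ 2 := Finset.sum_nonneg (fun k _ => sq_nonneg _)
  have h3 : f i ^ 2 = 1 := by linarith
  have h4 : ∑ k ∈ Finset.univ.erase i, f k ^ 2 = 0 := by linarith
  refine ⟨i, ?_, ?_⟩
  · have : (f i - 1) * (f i + 1) = 0 := by nlinarith
    rcases mul_eq_zero.mp this with h' | h'
    · left; omega
    · right; omega
  · intro k hk
    have := (Finset.sum_eq_zero_iff_of_nonneg (fun k _ => sq_nonneg (f k))).mp h4 k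
      (Finset.mem_erase.mpr ⟨hk, Finset.mem_univ k⟩)
    exact pow_eq_zero_iff (two_ne_zero) |>.mp this

/-- A generalized character of norm `1` is `± μ` for an irreducible character `μ`. -/
theorem genChar_norm_one {G : Type*} [Group G] [Fintype G] {Y : G → ℂ}
    (hY : IsGeneralizedCharacter G Y) (h1 : classInner Y Y = 1) :
    ∃ (ε : ℂ) (μ : G → ℂ), (ε = 1 ∨ ε = -1) ∧ IsIrrCharacter G μ ∧ Y = ε • μ := by
  classical
  have : Fintype (IrrCharacter G) := Fintype.ofFinite _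
  have hcf := IsGeneralizedCharacter.isClassFunction hY
  have hexp := Cfsg.Agent.Lib.Helper3.classFunction_eq_sum hcf
  have key : ∀ μ : IrrCharacter G, ∃ m : ℤ, classInner Y (μ : G → ℂ) = (m : ℂ) := fun μ =>
    classInner_genChar_int hY
      (IsCharacter.isGeneralizedCharacter (Cfsg.Agent.Lib.Helper3.IsIrrCharacter.isCharacter μ.2))
  choose m hm using key
  have hexp' : Y = ∑ μ : IrrCharacter G, ((m μ : ℤ) : ℂ) • (μ : G → ℂ) := by
    rw [hexp]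
    exact Finset.sum_congr rfl (fun μ _ => by rw [hm μ])
  have hpars : ∑ μ : IrrCharacter G, m μ ^ 2 = 1 := by
    have e : classInner Y Y = ∑ μ : IrrCharacter G, (((m μ) ^ 2 : ℤ) : ℂ) := by
      conv_lhs => rw [hexp']
      rw [classInner_sum_left]
      apply Finset.sum_congr rfl
      intro μ _
      rw [classInner_smul_left, ← hexp', ← classInner_conj_symm, hm μ]
      simp [sq]
    rw [h1] at e
    have : ((∑ μ : IrrCharacter G, m μ ^ 2 : ℤ) : ℂ) = ((1 : ℤ) : ℂ) := by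
      push_cast
      push_cast at e
      exact e.symm
    exact_mod_cast this
  obtain ⟨i, hi, hrest⟩ := int_sum_sq_eq_one m hpars
  have hY2 : Y = ((m i : ℤ) : ℂ) • (i : G → ℂ) := by
    rw [hexp']
    rw [← Finset.add_sum_erase Finset.univ _ (Finset.mem_univ i)]
    rw [Finset.sum_eq_zero, add_zero]
    intro k hk
    have hk2 : k ≠ i := (Finset.mem_erase.mp hk).1
    rw [hrest k hk2]
    simp
  refine ⟨((m i : ℤ) : ℂ), i, ?_, i.2, hY2⟩
  rcases hi with hi | hi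
  · left; rw [hi]; simp
  · right; rw [hi]; simp


/-- Let N be a subgroup of the finite group G, S a set of irreducible characters of N with at least two members, and τ₁ a linear isometry on the integer combinations of S with virtual-character values such that τ₁ α vanishes at 1 whenever α ∈ ℤ[S] does. Then there is ε ∈ {1, −1} such that ε • τ₁ χ is an irreducible character of G for every χ ∈ S, and distinct members of S give distinct characters. -/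
theorem result {G : Type*} [Group G] [Fintype G] (N : Subgroup G) [Fintype N] (S : Set (N → ℂ)) (hirr : ∀ χ ∈ S, Cfsg.IsIrrCharacter N χ) (htwo : ∃ χ ∈ S, ∃ ψ ∈ S, χ ≠ ψ) (τ₁ : (N → ℂ) → (G → ℂ)) (hτ₁ : Cfsg.IsLinearIsometryOn (Cfsg.zspan S) τ₁) (h0 : ∀ α ∈ Cfsg.zspan S, α 1 = 0 → τ₁ α 1 = 0) : ∃ ε : ℂ, (ε = 1 ∨ ε = -1) ∧ (∀ χ ∈ S, Cfsg.IsIrrCharacter G (ε • τ₁ χ)) ∧ (∀ χ ∈ S, ∀ ψ ∈ S, τ₁ χ = τ₁ ψ → χ = ψ) := by
  classical
  obtain ⟨hadd, hsmul, hinner, hgen⟩ := hτ₁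
  have hmem : ∀ χ ∈ S, χ ∈ Cfsg.zspan S := fun χ hχ => Submodule.subset_span hχ
  have hmemsmul : ∀ χ ∈ S, ∀ n : ℤ, n • χ ∈ Cfsg.zspan S := fun χ hχ n =>
    Submodule.smul_mem _ n (Submodule.subset_span hχ)
  -- each `τ₁ χ` is a signed irreducible character
  have hsigned : ∀ χ ∈ S, ∃ (ε : ℂ) (μ : G → ℂ), (ε = 1 ∨ ε = -1) ∧ IsIrrCharacter G μ ∧
      τ₁ χ = ε • μ := by
    intro χ hχ
    apply genChar_norm_one (hgen χ (hmem χ hχ))
    rw [hinner χ (hmem χ hχ) χ (hmem χ hχ), Cfsg.Agent.Lib.Helper3.classInner_irr (hirr χ hχ) (hirr χ hχ),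
      if_pos rfl]
  -- injectivity
  have hinj : ∀ χ ∈ S, ∀ ψ ∈ S, τ₁ χ = τ₁ ψ → χ = ψ := by
    intro χ hχ ψ hψ h
    by_contra hne
    have e1 := hinner χ (hmem χ hχ) ψ (hmem ψ hψ)
    rw [Cfsg.Agent.Lib.Helper3.classInner_irr (hirr χ hχ) (hirr ψ hψ), if_neg hne, h,
      hinner ψ (hmem ψ hψ) ψ (hmem ψ hψ),
      Cfsg.Agent.Lib.Helper3.classInner_irr (hirr ψ hψ) (hirr ψ hψ), if_pos rfl] at e1
    exact one_ne_zero e1
  -- signs agree
  have hsign : ∀ χ ∈ S, ∀ ψ ∈ S, ∀ (ε₁ ε₂ : ℂ) (μ₁ μ₂ : G → ℂ), (ε₁ = 1 ∨ ε₁ = -1) →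
      (ε₂ = 1 ∨ ε₂ = -1) → IsIrrCharacter G μ₁ → IsIrrCharacter G μ₂ → τ₁ χ = ε₁ • μ₁ →
      τ₁ ψ = ε₂ • μ₂ → ε₁ = ε₂ := by
    intro χ hχ ψ hψ ε₁ ε₂ μ₁ μ₂ hε₁ hε₂ hμ₁ hμ₂ e₁ e₂
    obtain ⟨a, ha, ea⟩ := irr_degree (hirr χ hχ)
    obtain ⟨b, hb, eb⟩ := irr_degree (hirr ψ hψ)
    obtain ⟨c, hc, ec⟩ := irr_degree hμ₁
    obtain ⟨d, hd, ed⟩ := irr_degree hμ₂
    have hα : (b : ℤ) • χ + (-(a : ℤ)) • ψ ∈ Cfsg.zspan S :=
      Submodule.add_mem _ (hmemsmul χ hχ _) (hmemsmul ψ hψ _)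
    have hα1 : ((b : ℤ) • χ + (-(a : ℤ)) • ψ) 1 = 0 := by
      show (b : ℤ) • χ 1 + (-(a : ℤ)) • ψ 1 = 0
      rw [ea, eb, zsmul_eq_mul, zsmul_eq_mul]
      push_cast
      ring
    have h1 := h0 _ hα hα1
    rw [hadd _ (hmemsmul χ hχ _) _ (hmemsmul ψ hψ _), hsmul χ (hmem χ hχ), hsmul ψ (hmem ψ hψ),
      e₁, e₂] at h1
    have h1' : (b : ℤ) • (ε₁ * μ₁ 1) + (-(a : ℤ)) • (ε₂ * μ₂ 1) = 0 := h1
    rw [ec, ed, zsmul_eq_mul, zsmul_eq_mul] at h1'
    push_cast at h1'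
    clear h1
    have h1 := h1'
    have hpos1 : (0 : ℝ) < (b : ℝ) * c := by positivity
    have hpos2 : (0 : ℝ) < (a : ℝ) * d := by positivity
    rcases hε₁ with rfl | rfl <;> rcases hε₂ with rfl | rfl
    · rfl
    · exfalso
      have h2 : ((b : ℝ) * c + a * d : ℝ) = 0 := by
        have : (((b : ℝ) * c + a * d : ℝ) : ℂ) = 0 := by
          push_cast
          linear_combination h1
        exact_mod_cast this
      linarith
    · exfalso
      have h2 : ((b : ℝ) * c + a * d : ℝ) = 0 := by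
        have : (((b : ℝ) * c + a * d : ℝ) : ℂ) = 0 := by
          push_cast
          linear_combination -h1
        exact_mod_cast this
      linarith
    · rfl
  obtain ⟨χ₀, hχ₀, -⟩ := htwo
  obtain ⟨ε₀, μ₀, hε₀, hμ₀, e₀⟩ := hsigned χ₀ hχ₀
  refine ⟨ε₀, hε₀, ?_, hinj⟩
  intro χ hχ
  obtain ⟨ε, μ, hε, hμ, e⟩ := hsigned χ hχ
  have := hsign χ₀ hχ₀ χ hχ ε₀ ε μ₀ μ hε₀ hε hμ₀ hμ e₀ e
  rw [e, ← this, smul_smul]
  have h1 : ε₀ * ε₀ = 1 := by
    rcases hε₀ with rfl | rfl <;> norm_num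
  rw [h1, one_smul]
  exact hμ

end Cfsg.Agent.S1529
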