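import Cfsg.Statements.S0147
import Cfsg.Agent.Lib.Helper25.Ind

set_option autoImplicit false
open Cfsg
open Cfsg.Agent.Lib.Helper25

namespace Cfsg.Agent.S0147

theorem ext_subgroupOf {G : Type*} [Group G] (H K : Subgroup G) (θ : H → ℂ) (y : K) :
    extendByZero (H.subgroupOf K) (fun x => θ ⟨(x : K), Subgroup.mem_subgroupOf.mp x.2⟩) y =
      extendByZero H θ (y : G) := by
  by_cases hy : (y : G) ∈ H
  · have hy' : y ∈ H.subgroupOf K := Subgroup.mem_subgroupOf.mpr hy
    rw [extendByZero_of_mem _ _ hy', extendByZero_of_mem _ _ hy]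
  · have hy' : y ∉ H.subgroupOf K := fun h => hy (Subgroup.mem_subgroupOf.mp h)
    rw [extendByZero_of_not_mem _ _ hy', extendByZero_of_not_mem _ _ hy]

theorem ext_ind {G : Type*} [Group G] (H K : Subgroup G) [Fintype K] (hHK : H ≤ K) (θ : H → ℂ)
    (z : G) :
    extendByZero K (indFun (H.subgroupOf K)
      (fun x => θ ⟨(x : K), Subgroup.mem_subgroupOf.mp x.2⟩)) z =
      (Nat.card H : ℂ)⁻¹ * ∑ k : K, extendByZero H θ ((k : G)⁻¹ * z * k) := by
  have hcard : Nat.card (H.subgroupOf K) = Nat.card H :=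
    Nat.card_congr (Subgroup.subgroupOfEquivOfLe hHK).toEquiv
  by_cases hz : z ∈ K
  · rw [extendByZero_of_mem _ _ hz, indFun_apply, hcard]
    congr 1
    refine Finset.sum_congr rfl fun k _ => ?_
    rw [ext_subgroupOf]
    rfl
  · rw [extendByZero_of_not_mem _ _ hz]
    symm
    rw [mul_eq_zero]
    right
    refine Finset.sum_eq_zero fun k _ => ?_
    apply extendByZero_of_not_mem
    intro hmem
    apply hz
    have h1 : (k : G)⁻¹ * z * k ∈ K := hHK hmem
    have h2 : z = (k : G) * ((k : G)⁻¹ * z * k) * (k : G)⁻¹ := by group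
    rw [h2]
    exact K.mul_mem (K.mul_mem k.2 h1) (K.inv_mem k.2)

/-- Transitivity of induction: inducing from H to K and then from K to G is the same as inducing from H to G. -/
theorem result {G : Type*} [Group G] [Fintype G] (H K : Subgroup G) [Fintype K] (hHK : H ≤ K) (θ : H → ℂ) : Cfsg.indFun K (Cfsg.indFun (H.subgroupOf K) (fun x => θ ⟨(x : K), Subgroup.mem_subgroupOf.mp x.2⟩)) = Cfsg.indFun H θ := by
  funext g
  rw [indFun_apply, indFun_apply]
  simp only [ext_ind H K hHK θ]
  rw [← Finset.mul_sum, Finset.sum_comm]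
  have h1 : ∀ k : K, ∑ x : G, extendByZero H θ ((k : G)⁻¹ * (x⁻¹ * g * x) * k) =
      ∑ y : G, extendByZero H θ (y⁻¹ * g * y) := by
    intro k
    apply Fintype.sum_equiv (Equiv.mulRight (k : G))
    intro x
    simp only [Equiv.coe_mulRight, mul_inv_rev, mul_assoc]
  simp only [h1, Finset.sum_const, Finset.card_univ, nsmul_eq_mul]
  have hK : (Nat.card K : ℂ) ≠ 0 := card_ne_zero_complex
  rw [← Nat.card_eq_fintype_card]
  field_simp
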