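import Cfsg.Statements.S0873
import Cfsg.Agent.Lib.Helper15.LinearChar

set_option autoImplicit false
open Cfsg

namespace Cfsg.Agent.S0873

open Cfsg.Agent.Lib.Helper15

variable {G : Type*} [Group G]

/-- The fibre of `lam` through `c`. -/
def fibre (C : Subgroup G) (lam : C → ℂ) (c : C) : Set C := {c' | lam c' = lam c}

/-- Conjugation action of `P` on a fibre of an invariant function. -/
@[instance_reducible] def fibreAction (C P : Subgroup G) [hC : C.Normal] (lam : C → ℂ)
    (hinv : ∀ (g : G) (c : C), lam ⟨g * c * g⁻¹, hC.conj_mem (c : G) c.2 g⟩ = lam c) (c : C) :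
    MulAction P (fibre C lam c) where
  smul t x := ⟨⟨(t : G) * x.1 * (t : G)⁻¹, hC.conj_mem _ x.1.2 _⟩, by
    show lam _ = lam c
    rw [hinv]; exact x.2⟩
  one_smul x := by
    apply Subtype.ext; apply Subtype.ext
    show ((1 : P) : G) * x.1 * ((1 : P) : G)⁻¹ = x.1
    simp
  mul_smul s t x := by
    apply Subtype.ext; apply Subtype.ext
    show ((s * t : P) : G) * x.1 * ((s * t : P) : G)⁻¹ = (s : G) * ((t : G) * x.1 * (t : G)⁻¹) * (s : G)⁻¹
    simp [mul_assoc]

theorem result {G : Type*} [Group G] [Finite G] (p : ℕ) [Fact p.Prime] (C P : Subgroup G) [hC : C.Normal] (hP : IsPGroup p P) (hcop : Nat.Coprime (Nat.card C) p) (hCP : C ⊔ P = ⊤) (lam : C → ℂ) (hlam : Cfsg.IsCharacter C lam ∧ lam 1 = 1) (hinv : ∀ (g : G) (c : C), lam ⟨g * c * g⁻¹, hC.conj_mem (c : G) c.2 g⟩ = lam c) (hker : ∀ c : C, (c : G) ∈ Subgroup.centralizer (P : Set G) → lam c = 1) : lam = fun _ => 1 := by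
  funext c
  let _ := fibreAction C P lam hinv c
  let K : Subgroup C := (linCharUnitsHom hlam).ker
  have hKmem : ∀ k : C, k ∈ K ↔ lam k = 1 := by
    intro k
    rw [MonoidHom.mem_ker, Units.ext_iff]
    rfl
  -- the fibre is in bijection with the kernel
  have e : K ≃ fibre C lam c :=
    { toFun := fun k => ⟨c * k.1, by
        show lam (c * k.1) = lam c
        rw [linChar_mul hlam, (hKmem k.1).1 k.2, mul_one]⟩
      invFun := fun x => ⟨c⁻¹ * x.1, by
        rw [hKmem, linChar_mul hlam, linChar_inv hlam, show lam x.1 = lam c from x.2,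
          inv_mul_cancel₀ (linChar_ne_zero hlam c)]⟩
      left_inv := fun k => by apply Subtype.ext; simp
      right_inv := fun x => by apply Subtype.ext; simp }
  have hcard : Nat.card (fibre C lam c) = Nat.card K := (Nat.card_congr e).symm
  have hdvd : Nat.card K ∣ Nat.card C := Subgroup.card_subgroup_dvd_card K
  have hnd : ¬ p ∣ Nat.card (fibre C lam c) := by
    rw [hcard]
    intro hp
    have h1 : p ∣ Nat.gcd (Nat.card C) p := Nat.dvd_gcd (hp.trans hdvd) dvd_rfl
    rw [hcop] at h1
    exact (Fact.out : p.Prime).one_lt.ne' (Nat.dvd_one.mp h1)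
  obtain ⟨x, hx⟩ := hP.nonempty_fixed_point_of_prime_not_dvd_card (fibre C lam c) hnd
  have hxc : ((x.1 : C) : G) ∈ Subgroup.centralizer (P : Set G) := by
    intro t ht
    have := congrArg (fun w : fibre C lam c => ((w.1 : C) : G)) (hx ⟨t, ht⟩)
    have h' : t * ((x.1 : C) : G) * t⁻¹ = ((x.1 : C) : G) := this
    calc t * ((x.1 : C) : G) = t * ((x.1 : C) : G) * t⁻¹ * t := by group
      _ = ((x.1 : C) : G) * t := by rw [h']
  have := hker x.1 hxc
  rw [← show lam x.1 = lam c from x.2]
  exact this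

end Cfsg.Agent.S0873
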