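import Cfsg.Statements.S0870
import Cfsg.Agent.Lib.Helper15.PermChar

set_option autoImplicit false
open Cfsg

namespace Cfsg.Agent.S0870

open Cfsg.Agent.Lib.Helper15 MulAction

theorem result {G : Type*} [Group G] [Fintype G] (H K : Subgroup G) : ∃ a : Subgroup G → ℕ, (∀ U, a U ≠ 0 → U ≤ H) ∧ Cfsg.indFun H (fun _ => 1) * Cfsg.indFun K (fun _ => 1) = ∑ U : Subgroup G, (a U : ℂ) • Cfsg.indFun U (fun _ => 1) := by
  classical
  let X := (G ⧸ H) × (G ⧸ K)
  have : Fintype (orbitRel.Quotient G X) := Fintype.ofFinite _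
  let r : orbitRel.Quotient G X → X := fun ω => (ω.out.1.out)⁻¹ • ω.out
  have hr : ∀ ω, (Quotient.mk'' (r ω) : orbitRel.Quotient G X) = ω := by
    intro ω
    have h1 : (Quotient.mk'' (r ω) : orbitRel.Quotient G X) = Quotient.mk'' ω.out := by
      rw [Quotient.eq'', orbitRel_apply]
      exact ⟨_, rfl⟩
    rw [h1]
    exact Quotient.out_eq' ω
  have hr1 : ∀ ω, (r ω).1 = ((1 : G) : G ⧸ H) := by
    intro ω
    show (ω.out.1.out)⁻¹ • ω.out.1 = _
    conv_lhs => rw [← QuotientGroup.out_eq' ω.out.1]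
    rw [MulAction.Quotient.smul_mk]
    simp
  let S : orbitRel.Quotient G X → Subgroup G := fun ω => stabilizer G (r ω)
  have hS : ∀ ω, S ω ≤ H := by
    intro ω s hs
    have h1 : s • r ω = r ω := hs
    have h2 : s • (r ω).1 = (r ω).1 := congrArg Prod.fst h1
    rw [hr1, MulAction.Quotient.smul_mk, QuotientGroup.eq] at h2
    simpa using h2
  refine ⟨fun U => (Finset.univ.filter (fun ω => S ω = U)).card, ?_, ?_⟩
  · intro U hU
    obtain ⟨ω, hω⟩ := Finset.card_ne_zero.mp hU
    rw [Finset.mem_filter] at hω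
    rw [← hω.2]
    exact hS ω
  · funext g
    rw [Pi.mul_apply, indFun_one_eq_card_fixed, indFun_one_eq_card_fixed, Finset.sum_apply]
    have hprod : Nat.card {x : X // g • x = x} =
        Nat.card {q : G ⧸ H // g • q = q} * Nat.card {q : G ⧸ K // g • q = q} := by
      rw [← Nat.card_prod]
      apply Nat.card_congr
      exact
        { toFun := fun x => (⟨x.1.1, congrArg Prod.fst x.2⟩, ⟨x.1.2, congrArg Prod.snd x.2⟩)
          invFun := fun y => ⟨(y.1.1, y.2.1), Prod.ext y.1.2 y.2.2⟩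
          left_inv := fun x => rfl
          right_inv := fun y => rfl }
    rw [← Nat.cast_mul, ← hprod, card_fixed_eq_sum g r hr, Nat.cast_sum]
    simp only [Pi.smul_apply, smul_eq_mul]
    have hfib := Finset.sum_fiberwise (Finset.univ : Finset (orbitRel.Quotient G X)) S
      (fun ω => indFun (S ω) (fun _ => (1 : ℂ)) g)
    have hL : ∀ ω, ((Nat.card {q : G ⧸ stabilizer G (r ω) // g • q = q} : ℕ) : ℂ) =
        indFun (S ω) (fun _ => (1 : ℂ)) g := fun ω => (indFun_one_eq_card_fixed (S ω) g).symm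
    rw [Finset.sum_congr rfl (fun ω _ => hL ω), ← hfib]
    refine Finset.sum_congr rfl (fun U _ => ?_)
    rw [Finset.sum_congr rfl (fun ω hω => by rw [(Finset.mem_filter.mp hω).2]),
      Finset.sum_const, nsmul_eq_mul]

end Cfsg.Agent.S0870
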