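import Cfsg.Statements.S0872
import Cfsg.Agent.S0870
import Cfsg.Agent.Lib.Helper15.QuasiElem

set_option autoImplicit false
open Cfsg

namespace Cfsg.Agent.S0872

open Cfsg.Agent.Lib.Helper15 Subgroup

variable {G : Type*} [Group G]

/-- `p`-quasi-elementary, in the form of the statement -/
def QE (p : ℕ) (H : Subgroup G) : Prop :=
  ∃ C : Subgroup G, C ≤ H ∧ H ≤ Subgroup.normalizer (C : Set G) ∧ IsCyclic C ∧
    Nat.Coprime (Nat.card C) p ∧ ∃ k : ℕ, C.relIndex H = p ^ k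

theorem QE.of_le [Finite G] {p : ℕ} (hp : p.Prime) {H U : Subgroup G} (hH : QE p H) (hUH : U ≤ H) :
    QE p U := by
  obtain ⟨C, hCH, hHN, hcyc, hcop, k, hk⟩ := hH
  refine ⟨C ⊓ U, inf_le_right, ?_, ?_, ?_, ?_⟩
  · intro u hu
    apply inf_normalizer_le_normalizer_inf
    exact ⟨hHN (hUH hu), le_normalizer hu⟩
  · exact isCyclic_of_injective (Subgroup.inclusion (inf_le_left : C ⊓ U ≤ C))
      (Subgroup.inclusion_injective _)
  · exact Nat.Coprime.coprime_dvd_left (card_dvd_of_le inf_le_left) hcop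
  · rw [inf_relIndex_right]
    have hnorm : (C.subgroupOf H).Normal := (normal_subgroupOf_iff_le_normalizer hCH).mpr hHN
    have h1 : (C.subgroupOf H).relIndex (U.subgroupOf H) ∣ (C.subgroupOf H).index :=
      relIndex_dvd_index_of_normal _ _
    rw [relIndex_subgroupOf hUH] at h1
    have h1' : C.relIndex U ∣ p ^ k := by rw [← hk]; exact h1
    obtain ⟨j, -, hj⟩ := (Nat.dvd_prime_pow hp).mp h1'
    exact ⟨j, hj⟩

/-- the additive group of integer combinations of permutation characters of QE subgroups -/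
noncomputable def R [Fintype G] (p : ℕ) : AddSubgroup (G → ℂ) where
  carrier := {f | ∃ a : Subgroup G → ℤ, (∀ H, a H ≠ 0 → QE p H) ∧
    f = ∑ H : Subgroup G, (a H : ℂ) • Cfsg.indFun H (fun _ => 1)}
  zero_mem' := ⟨0, fun H h => absurd rfl h, by simp⟩
  add_mem' := by
    rintro f g ⟨a, ha, rfl⟩ ⟨b, hb, rfl⟩
    refine ⟨a + b, fun H h => ?_, ?_⟩
    · by_cases h0 : a H = 0
      · apply hb
        intro hb0
        apply h
        simp [h0, hb0]
      · exact ha H h0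
    · rw [← Finset.sum_add_distrib]
      refine Finset.sum_congr rfl (fun H _ => ?_)
      simp [add_smul]
  neg_mem' := by
    rintro f ⟨a, ha, rfl⟩
    refine ⟨-a, fun H h => ha H (by simpa using h), ?_⟩
    rw [← Finset.sum_neg_distrib]
    refine Finset.sum_congr rfl (fun H _ => ?_)
    simp

theorem mem_R_iff [Fintype G] (p : ℕ) (f : G → ℂ) : f ∈ R p ↔
    ∃ a : Subgroup G → ℤ, (∀ H, a H ≠ 0 → QE p H) ∧
      f = ∑ H : Subgroup G, (a H : ℂ) • Cfsg.indFun H (fun _ => 1) := Iff.rfl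

theorem indFun_mem_R [Fintype G] (p : ℕ) {H : Subgroup G} (hH : QE p H) :
    Cfsg.indFun H (fun _ => (1 : ℂ)) ∈ R p := by
  classical
  refine ⟨Pi.single H 1, fun K h => ?_, ?_⟩
  · by_cases hKH : K = H
    · rw [hKH]; exact hH
    · exact absurd (Pi.single_eq_of_ne hKH _) h
  · rw [Finset.sum_eq_single H]
    · simp
    · intro K _ hKH
      simp [Pi.single_eq_of_ne hKH]
    · intro h; exact absurd (Finset.mem_univ H) h

theorem intCast_smul_mem_R [Fintype G] (p : ℕ) (n : ℤ) {f : G → ℂ} (hf : f ∈ R p) :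
    (n : ℂ) • f ∈ R p := by
  rw [Int.cast_smul_eq_zsmul]
  exact (R p).zsmul_mem hf n

theorem indFun_mul_mem_R [Fintype G] {p : ℕ} (hp : p.Prime) {H : Subgroup G} (hH : QE p H)
    (K : Subgroup G) :
    Cfsg.indFun H (fun _ => (1 : ℂ)) * Cfsg.indFun K (fun _ => (1 : ℂ)) ∈ R p := by
  obtain ⟨a, ha, hprod⟩ := Cfsg.Agent.S0870.result H K
  rw [hprod]
  apply (R p).sum_mem
  intro U _
  by_cases h0 : a U = 0
  · simp [h0, (R p).zero_mem]
  · have : ((a U : ℕ) : ℂ) = (((a U : ℕ) : ℤ) : ℂ) := by simp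
    rw [this]
    exact intCast_smul_mem_R p _ (indFun_mem_R p (hH.of_le hp (ha U h0)))

theorem mul_mem_R [Fintype G] {p : ℕ} (hp : p.Prime) {f g : G → ℂ} (hf : f ∈ R p) (hg : g ∈ R p) :
    f * g ∈ R p := by
  obtain ⟨a, ha, rfl⟩ := hf
  obtain ⟨b, hb, rfl⟩ := hg
  rw [Finset.sum_mul_sum]
  apply (R p).sum_mem
  intro H _
  apply (R p).sum_mem
  intro K _
  rw [smul_mul_smul_comm]
  by_cases h0 : a H = 0
  · simp [h0, (R p).zero_mem]
  · have : (a H : ℂ) * (b K : ℂ) = ((a H * b K : ℤ) : ℂ) := by simp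
    rw [this]
    exact intCast_smul_mem_R p _ (indFun_mul_mem_R hp (ha H h0) K)

theorem prod_expand [Fintype G] {p : ℕ} (hp : p.Prime) {ι : Type*} (s : Finset ι) (n : ι → ℤ)
    (f : ι → G → ℂ) (hf : ∀ i ∈ s, f i ∈ R p) :
    ∃ r ∈ R p, ∏ i ∈ s, ((n i : ℂ) • (1 : G → ℂ) - f i) =
      ((∏ i ∈ s, n i : ℤ) : ℂ) • (1 : G → ℂ) + r := by
  classical
  induction s using Finset.induction_on with
  | empty => exact ⟨0, (R p).zero_mem, by simp⟩
  | insert i s hi ih =>
    obtain ⟨r, hr, hrs⟩ := ih (fun j hj => hf j (Finset.mem_insert_of_mem hj))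
    have hfi : f i ∈ R p := hf i (Finset.mem_insert_self i s)
    refine ⟨(n i : ℂ) • r - ((∏ j ∈ s, n j : ℤ) : ℂ) • f i - f i * r, ?_, ?_⟩
    · exact (R p).sub_mem ((R p).sub_mem (intCast_smul_mem_R p _ hr) (intCast_smul_mem_R p _ hfi))
        (mul_mem_R hp hfi hr)
    · rw [Finset.prod_insert hi, Finset.prod_insert hi, hrs]
      funext g
      simp only [Pi.mul_apply, Pi.sub_apply, Pi.add_apply, Pi.smul_apply, Pi.one_apply,
        smul_eq_mul]
      push_cast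
      ring

theorem result {G : Type*} [Group G] [Fintype G] (p : ℕ) (hp : p.Prime) : ∃ (m : ℤ) (a : Subgroup G → ℤ), ¬ (p : ℤ) ∣ m ∧ (∀ H, a H ≠ 0 → (∃ C : Subgroup G, C ≤ H ∧ H ≤ Subgroup.normalizer (C : Set G) ∧ IsCyclic C ∧ Nat.Coprime (Nat.card C) p ∧ ∃ k : ℕ, C.relIndex H = p ^ k)) ∧ (fun _ : G => (m : ℂ)) = ∑ H : Subgroup G, (a H : ℂ) • Cfsg.indFun H (fun _ => 1) := by
  classical
  have : Fact p.Prime := ⟨hp⟩
  have key : ∀ x : G, ∃ H : Subgroup G, QE p H ∧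
      ¬ p ∣ Nat.card {q : G ⧸ H // x • q = q} := by
    intro x
    obtain ⟨H, C, h1, h2, h3, h4, h5, h6⟩ := exists_quasi_elementary x p
    exact ⟨H, ⟨C, h1, h2, h3, h4, h5⟩, h6⟩
  choose Hx hQE hnd using key
  let n : G → ℤ := fun x => (Nat.card {q : G ⧸ Hx x // x • q = q} : ℤ)
  let f : G → G → ℂ := fun x => Cfsg.indFun (Hx x) (fun _ => (1 : ℂ))
  obtain ⟨r, hr, hprod⟩ := prod_expand hp (Finset.univ : Finset G) n f
    (fun x _ => indFun_mem_R p (hQE x))
  have hzero : ∏ x ∈ (Finset.univ : Finset G), ((n x : ℂ) • (1 : G → ℂ) - f x) = 0 := by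
    funext y
    rw [Finset.prod_apply]
    apply Finset.prod_eq_zero (Finset.mem_univ y)
    simp only [Pi.sub_apply, Pi.smul_apply, Pi.one_apply, smul_eq_mul, mul_one, f, n]
    rw [indFun_one_eq_card_fixed]
    simp
  rw [hzero] at hprod
  set m : ℤ := ∏ x ∈ (Finset.univ : Finset G), n x with hm
  have hmR : (m : ℂ) • (1 : G → ℂ) ∈ R p := by
    have : (m : ℂ) • (1 : G → ℂ) = -r := by
      rw [eq_neg_iff_add_eq_zero]; exact hprod.symm
    rw [this]
    exact (R p).neg_mem hr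
  obtain ⟨a, ha, hfa⟩ := hmR
  refine ⟨m, a, ?_, ha, ?_⟩
  · intro hdvd
    rw [hm, Prime.dvd_finsetProd_iff (Nat.prime_iff_prime_int.mp hp)] at hdvd
    obtain ⟨x, -, hx⟩ := hdvd
    exact hnd x (Int.natCast_dvd_natCast.mp hx)
  · rw [← hfa]
    funext g
    simp

end Cfsg.Agent.S0872
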