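import Cfsg.Statements.S0193
import Cfsg.Agent.Lib.Helper3.Induced
import Cfsg.Agent.Lib.Helper79.Basic

set_option autoImplicit false
open Cfsg

namespace Cfsg.Agent.S0193

open Cfsg.Agent.Lib.Helper3
open scoped ComplexConjugate

section
variable {G : Type*} [Group G] (H : Subgroup G) [hN : H.Normal]

/-- The conjugate of a function on a normal subgroup. -/
def conjFun (θ : H → ℂ) (g : G) : H → ℂ := fun h => θ ⟨g * h * g⁻¹, hN.conj_mem h h.2 g⟩

theorem conjFun_apply (θ : H → ℂ) (g : G) (h : H) :
    conjFun H θ g h = θ ⟨g * h * g⁻¹, hN.conj_mem h h.2 g⟩ := rfl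

theorem conjFun_eq_comp (θ : H → ℂ) (g : G) :
    conjFun H θ g = fun h => θ ((MulAut.conjNormal g : MulAut H) h) := by
  funext h
  rw [conjFun_apply]
  congr 1

theorem conjFun_one (θ : H → ℂ) : conjFun H θ 1 = θ := by
  funext h
  rw [conjFun_apply]
  congr 1
  apply Subtype.ext
  simp

theorem conjFun_mul (θ : H → ℂ) (a b : G) :
    conjFun H θ (a * b) = conjFun H (conjFun H θ a) b := by
  funext h
  rw [conjFun_apply, conjFun_apply, conjFun_apply]
  congr 1
  apply Subtype.ext
  simp [mul_assoc]

theorem conjFun_inj (θ θ' : H → ℂ) (g : G) (h : conjFun H θ g = conjFun H θ' g) : θ = θ' := by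
  have := congrArg (fun φ => conjFun H φ g⁻¹) h
  simp only [← conjFun_mul, mul_inv_cancel, conjFun_one] at this
  exact this

theorem isIrrCharacter_conjFun {θ : H → ℂ} (hθ : Cfsg.IsIrrCharacter H θ) (g : G) :
    Cfsg.IsIrrCharacter H (conjFun H θ g) := by
  rw [conjFun_eq_comp]
  exact Cfsg.Agent.Lib.Helper79.isIrrCharacter_comp_surjective hθ
    (MulAut.conjNormal g : MulAut H).toMonoidHom (MulAut.conjNormal g : MulAut H).surjective

theorem indFun_eq [Fintype G] [DecidablePred (· ∈ H)] (θ : H → ℂ) (g : G) :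
    Cfsg.indFun H θ g = if hg : g ∈ H then
      (Nat.card H : ℂ)⁻¹ * ∑ x : G, conjFun H θ x ⟨g, hg⟩ else 0 := by
  unfold Cfsg.indFun
  split_ifs with hg
  · congr 1
    have h1 : ∀ x : G, Cfsg.extendByZero H θ (x⁻¹ * g * x) = conjFun H θ x⁻¹ ⟨g, hg⟩ := by
      intro x
      have hmem : x⁻¹ * g * x ∈ H := by
        have := hN.conj_mem g hg x⁻¹
        rwa [inv_inv] at this
      rw [extendByZero_apply_mem H hmem, conjFun_apply]
      congr 1
      apply Subtype.ext
      simp
    rw [Finset.sum_congr rfl (fun x _ => h1 x)]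
    exact Fintype.sum_equiv (Equiv.inv G) _ _ (fun x => rfl)
  · have h1 : ∀ x : G, Cfsg.extendByZero H θ (x⁻¹ * g * x) = 0 := by
      intro x
      apply extendByZero_apply_not_mem
      intro hmem
      apply hg
      have := hN.conj_mem _ hmem x
      simpa [mul_assoc] using this
    rw [Finset.sum_congr rfl (fun x _ => h1 x), Finset.sum_const_zero, mul_zero]

/-- Number of `y` with the same conjugate character as `x`. -/
theorem card_same [Finite G] (θ : H → ℂ) (x : G) :
    Nat.card {y : G // conjFun H θ x = conjFun H θ y} = Nat.card {t : G // conjFun H θ t = θ} := by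
  apply Nat.card_congr
  refine
    { toFun := fun y => ⟨y.1 * x⁻¹, ?_⟩
      invFun := fun t => ⟨t.1 * x, ?_⟩
      left_inv := ?_
      right_inv := ?_ }
  · have h := y.2
    apply conjFun_inj H _ _ x
    rw [← conjFun_mul, inv_mul_cancel_right]
    exact h.symm
  · rw [conjFun_mul, t.2]
  · intro y; apply Subtype.ext; simp
  · intro t; apply Subtype.ext; simp

end

/-- Let H be a normal subgroup of a finite group G and θ an irreducible character of H. Then |H| times the inner product of the induced function of θ with itself equals the number of g in G with θ(g h g⁻¹) = θ(h) for all h in H; in particular the induced character is irreducible when only elements of H stabilise θ. -/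
theorem result {G : Type*} [Group G] [Fintype G] (H : Subgroup G) [hN : H.Normal] (θ : H → ℂ) (hθ : Cfsg.IsIrrCharacter H θ) : (Nat.card H : ℂ) * Cfsg.classInner (Cfsg.indFun H θ) (Cfsg.indFun H θ) = (Nat.card {g : G // ∀ h : H, θ ⟨g * h * g⁻¹, hN.conj_mem h h.2 g⟩ = θ h} : ℂ) := by
  classical
  set cH : ℂ := (Nat.card H : ℂ) with hcH
  set cG : ℂ := (Nat.card G : ℂ) with hcG
  have hcH0 : cH ≠ 0 := by
    rw [hcH]; exact_mod_cast (Nat.card_pos (α := H)).ne'
  have hcG0 : cG ≠ 0 := by
    rw [hcG]; exact_mod_cast (Nat.card_pos (α := G)).ne'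
  have hconjcH : conj cH = cH := by rw [hcH]; exact Complex.conj_natCast _
  let a : G → H → ℂ := fun x => conjFun H θ x
  let F : H → ℂ := fun h => ∑ x : G, a x h
  -- Step 2: sum over G reduces to sum over H
  have hstep2 : ∑ g : G, Cfsg.indFun H θ g * conj (Cfsg.indFun H θ g) =
      ∑ h : H, (cH⁻¹ * F h) * conj (cH⁻¹ * F h) := by
    have h1 : ∀ g : G, Cfsg.indFun H θ g * conj (Cfsg.indFun H θ g) =
        if hg : g ∈ H then (cH⁻¹ * F ⟨g, hg⟩) * conj (cH⁻¹ * F ⟨g, hg⟩) else 0 := by
      intro g
      rw [indFun_eq H θ g]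
      split_ifs with hg
      · rfl
      · simp
    rw [Finset.sum_congr rfl (fun g _ => h1 g)]
    rw [Finset.sum_dite, Finset.sum_const_zero, add_zero]
    symm
    refine Fintype.sum_equiv (Equiv.subtypeEquivRight (fun g => by simp)) _ _ ?_
    intro h
    rfl
  -- Step 3
  have hstep3 : ∑ h : H, F h * conj (F h) =
      cH * ∑ x : G, ∑ y : G, (if a x = a y then (1 : ℂ) else 0) := by
    have h1 : ∀ h : H, F h * conj (F h) = ∑ x : G, ∑ y : G, a x h * conj (a y h) := by
      intro h
      simp only [F]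
      rw [map_sum, Finset.sum_mul_sum]
    rw [Finset.sum_congr rfl (fun h _ => h1 h)]
    rw [Finset.sum_comm]
    rw [Finset.mul_sum]
    apply Finset.sum_congr rfl
    intro x _
    rw [Finset.sum_comm, Finset.mul_sum]
    apply Finset.sum_congr rfl
    intro y _
    have h2 := classInner_irr (isIrrCharacter_conjFun H hθ x) (isIrrCharacter_conjFun H hθ y)
    unfold Cfsg.classInner at h2
    have h3 : ∑ g : H, conjFun H θ x g * conj (conjFun H θ y g) =
        cH * (if conjFun H θ x = conjFun H θ y then 1 else 0) := by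
      rw [← h2, ← mul_assoc, mul_inv_cancel₀ hcH0, one_mul]
    exact h3
  -- Step 4
  have hstep4 : ∑ x : G, ∑ y : G, (if a x = a y then (1 : ℂ) else 0) =
      cG * (Nat.card {t : G // conjFun H θ t = θ} : ℂ) := by
    have h1 : ∀ x : G, ∑ y : G, (if a x = a y then (1 : ℂ) else 0) =
        (Nat.card {t : G // conjFun H θ t = θ} : ℂ) := by
      intro x
      rw [Finset.sum_boole, ← card_same H θ x, Nat.card_eq_fintype_card, Fintype.card_subtype]
    rw [Finset.sum_congr rfl (fun x _ => h1 x), Finset.sum_const, Finset.card_univ, nsmul_eq_mul,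
      hcG, Nat.card_eq_fintype_card (α := G)]
  -- the stabiliser
  have hT : Nat.card {g : G // ∀ h : H, θ ⟨g * h * g⁻¹, hN.conj_mem h h.2 g⟩ = θ h} =
      Nat.card {t : G // conjFun H θ t = θ} := by
    apply Nat.card_congr
    apply Equiv.subtypeEquivRight
    intro g
    rw [funext_iff]
    rfl
  rw [hT]
  unfold Cfsg.classInner
  rw [hstep2]
  have h5 : ∀ h : H, (cH⁻¹ * F h) * conj (cH⁻¹ * F h) = cH⁻¹ * cH⁻¹ * (F h * conj (F h)) := by
    intro h
    rw [map_mul, map_inv₀, hconjcH]
    ring
  rw [Finset.sum_congr rfl (fun h _ => h5 h), ← Finset.mul_sum, hstep3, hstep4]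
  rw [← hcG]
  field_simp

end Cfsg.Agent.S0193
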