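import Cfsg.Statements.S1509
import Cfsg.Agent.Lib.Helper25.CharUtil

set_option autoImplicit false
open Cfsg

namespace Cfsg.Agent.S1509

open Cfsg.Agent.Lib.Helper25
open scoped ComplexConjugate

theorem sign_ne_zero {ε : ℂ} (h : ε = 1 ∨ ε = -1) : ε ≠ 0 := by
  rcases h with h | h <;> rw [h] <;> norm_num

theorem sign_conj {ε : ℂ} (h : ε = 1 ∨ ε = -1) : conj ε = ε := by
  rcases h with h | h <;> rw [h] <;> simp

theorem sign_sq {ε : ℂ} (h : ε = 1 ∨ ε = -1) : ε * ε = 1 := by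
  rcases h with h | h <;> rw [h] <;> norm_num

theorem expand_mix {X : Type*} [Group X] [Fintype X] (A B C D : X → ℂ) (u v : ℝ) :
    classInner (A - B) ((u : ℂ) • C - (v : ℂ) • D) =
      u * classInner A C - v * classInner A D - u * classInner B C + v * classInner B D := by
  rw [classInner_sub_left, classInner_sub_right, classInner_sub_right, classInner_smul_right,
    classInner_smul_right, classInner_smul_right, classInner_smul_right,
    Complex.conj_ofReal, Complex.conj_ofReal]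
  ring

/-- `ε₁ n₁ = ε₂ n₂` with signs and positive naturals forces equal signs and equal naturals. -/
theorem sign_nat_eq {ε₁ ε₂ : ℂ} (h₁ : ε₁ = 1 ∨ ε₁ = -1) (h₂ : ε₂ = 1 ∨ ε₂ = -1) {n₁ n₂ : ℕ}
    (hn₁ : 0 < n₁) (hn₂ : 0 < n₂) (h : ε₁ * (n₁ : ℂ) = ε₂ * (n₂ : ℂ)) : ε₁ = ε₂ ∧ n₁ = n₂ := by
  rcases h₁ with rfl | rfl <;> rcases h₂ with rfl | rfl
  · refine ⟨rfl, ?_⟩
    have : (n₁ : ℂ) = (n₂ : ℂ) := by simpa using h
    exact_mod_cast this
  · exfalso
    have : ((n₁ + n₂ : ℕ) : ℂ) = 0 := by push_cast; linear_combination h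
    have : n₁ + n₂ = 0 := by exact_mod_cast this
    omega
  · exfalso
    have : ((n₁ + n₂ : ℕ) : ℂ) = 0 := by push_cast; linear_combination -h
    have : n₁ + n₂ = 0 := by exact_mod_cast this
    omega
  · refine ⟨rfl, ?_⟩
    have : (n₁ : ℂ) = (n₂ : ℂ) := by
      have := h
      simp only [neg_mul, one_mul, neg_inj] at this
      exact this
    exact_mod_cast this

/-- Let α, β, γ, δ be functions on a finite group X each of which is an irreducible character or the negative of one, and u, v nonzero real numbers. Suppose ⟨α, β⟩ = ⟨γ, δ⟩ = 0, ⟨α − β, uγ − vδ⟩ = 0, α 1 = β 1 and u γ 1 = v δ 1. Then also ⟨α, γ⟩ = ⟨α, δ⟩ = ⟨β, γ⟩ = ⟨β, δ⟩ = 0. -/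
theorem result {X : Type*} [Group X] [Fintype X] (α β γ δ : X → ℂ) (hα : Cfsg.IsIrrCharacter X α ∨ Cfsg.IsIrrCharacter X (-α)) (hβ : Cfsg.IsIrrCharacter X β ∨ Cfsg.IsIrrCharacter X (-β)) (hγ : Cfsg.IsIrrCharacter X γ ∨ Cfsg.IsIrrCharacter X (-γ)) (hδ : Cfsg.IsIrrCharacter X δ ∨ Cfsg.IsIrrCharacter X (-δ)) (u v : ℝ) (hu : u ≠ 0) (hv : v ≠ 0) (hab : Cfsg.classInner α β = 0) (hcd : Cfsg.classInner γ δ = 0) (hmix : Cfsg.classInner (α - β) ((u : ℂ) • γ - (v : ℂ) • δ) = 0) (h1 : α 1 = β 1) (h2 : (u : ℂ) * γ 1 = (v : ℂ) * δ 1) : Cfsg.classInner α γ = 0 ∧ Cfsg.classInner α δ = 0 ∧ Cfsg.classInner β γ = 0 ∧ Cfsg.classInner β δ = 0 := by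
  obtain ⟨εa, α₀, hεa, hα₀, rfl⟩ := signed_irr hα
  obtain ⟨εb, β₀, hεb, hβ₀, rfl⟩ := signed_irr hβ
  obtain ⟨εc, γ₀, hεc, hγ₀, rfl⟩ := signed_irr hγ
  obtain ⟨εd, δ₀, hεd, hδ₀, rfl⟩ := signed_irr hδ
  obtain ⟨na, hna, ea⟩ := irr_degree hα₀
  obtain ⟨nb, hnb, eb⟩ := irr_degree hβ₀
  obtain ⟨nc, hnc, ec⟩ := irr_degree hγ₀
  obtain ⟨nd, hnd, ed⟩ := irr_degree hδ₀
  have hu' : (u : ℂ) ≠ 0 := by exact_mod_cast hu
  have hv' : (v : ℂ) ≠ 0 := by exact_mod_cast hv
  have ha0 := sign_ne_zero hεa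
  have hb0 := sign_ne_zero hεb
  have hc0 := sign_ne_zero hεc
  have hd0 := sign_ne_zero hεd
  -- α₀ ≠ β₀, γ₀ ≠ δ₀
  have hne_ab : α₀ ≠ β₀ := by
    intro h
    rw [classInner_signed_irr hα₀ hβ₀, if_pos h, mul_one, sign_conj hεb] at hab
    exact (mul_ne_zero ha0 hb0) hab
  have hne_cd : γ₀ ≠ δ₀ := by
    intro h
    rw [classInner_signed_irr hγ₀ hδ₀, if_pos h, mul_one, sign_conj hεd] at hcd
    exact (mul_ne_zero hc0 hd0) hcd
  -- degrees
  simp only [Pi.smul_apply, smul_eq_mul] at h1 h2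
  rw [ea, eb] at h1
  rw [ec, ed] at h2
  obtain ⟨hsab, hnab⟩ := sign_nat_eq hεa hεb hna hnb h1
  -- expand hmix
  have eAC : classInner (εa • α₀) (εc • γ₀) = εa * εc * (if α₀ = γ₀ then 1 else 0) := by
    rw [classInner_signed_irr hα₀ hγ₀, sign_conj hεc]
  have eAD : classInner (εa • α₀) (εd • δ₀) = εa * εd * (if α₀ = δ₀ then 1 else 0) := by
    rw [classInner_signed_irr hα₀ hδ₀, sign_conj hεd]
  have eBC : classInner (εb • β₀) (εc • γ₀) = εb * εc * (if β₀ = γ₀ then 1 else 0) := by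
    rw [classInner_signed_irr hβ₀ hγ₀, sign_conj hεc]
  have eBD : classInner (εb • β₀) (εd • δ₀) = εb * εd * (if β₀ = δ₀ then 1 else 0) := by
    rw [classInner_signed_irr hβ₀ hδ₀, sign_conj hεd]
  rw [expand_mix, eAC, eAD, eBC, eBD] at hmix
  rw [eAC, eAD, eBC, eBD]
  subst hsab
  by_cases hA : α₀ = γ₀ <;> by_cases hB : α₀ = δ₀ <;> by_cases hC : β₀ = γ₀ <;>
    by_cases hD : β₀ = δ₀
  all_goals first
    | (exfalso; exact hne_cd (hA.symm.trans hB))
    | (exfalso; exact hne_cd (hC.symm.trans hD))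
    | (exfalso; exact hne_ab (hA.trans hC.symm))
    | (exfalso; exact hne_ab (hB.trans hD.symm))
    | skip
  · -- hA, hD : degrees na = nc, nb = nd
    exfalso
    subst hA; subst hD
    have e1 : (nc : ℂ) = na := by rw [← ea, ← ec]
    have e2 : (nd : ℂ) = nb := by rw [← eb, ← ed]
    have e3 : (nb : ℂ) = na := by exact_mod_cast hnab.symm
    rw [e1, e2, e3] at h2
    simp only [if_true, if_neg hB, if_neg hC, mul_one, mul_zero, sub_zero] at hmix
    have hna' : (na : ℂ) ≠ 0 := by exact_mod_cast hna.ne'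
    have k1 : (u : ℂ) * εc = v * εd := by
      apply mul_right_cancel₀ hna'
      linear_combination h2
    have k2 : εa * ((u : ℂ) * εc + v * εd) = 0 := by linear_combination hmix
    rcases mul_eq_zero.mp k2 with k | k
    · exact ha0 k
    · have : (2 : ℂ) * ((u : ℂ) * εc) = 0 := by linear_combination k + k1
      have := mul_eq_zero.mp this
      rcases this with h | h
      · norm_num at h
      · exact (mul_ne_zero hu' hc0) h
  · exfalso
    simp only [if_pos hA, if_neg hB, if_neg hC, if_neg hD, mul_one, mul_zero, sub_zero,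
      add_zero] at hmix
    exact (mul_ne_zero hu' (mul_ne_zero ha0 hc0)) hmix
  · -- hB, hC
    exfalso
    subst hB; subst hC
    have e1 : (nd : ℂ) = na := by rw [← ea, ← ed]
    have e2 : (nc : ℂ) = nb := by rw [← eb, ← ec]
    have e3 : (nb : ℂ) = na := by exact_mod_cast hnab.symm
    rw [e1, e2, e3] at h2
    simp only [if_true, if_neg hA, if_neg hD, mul_one, mul_zero, zero_sub, add_zero] at hmix
    have hna' : (na : ℂ) ≠ 0 := by exact_mod_cast hna.ne'
    have k1 : (u : ℂ) * εc = v * εd := by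
      apply mul_right_cancel₀ hna'
      linear_combination h2
    have k2 : εa * ((u : ℂ) * εc + v * εd) = 0 := by linear_combination -hmix
    rcases mul_eq_zero.mp k2 with k | k
    · exact ha0 k
    · have : (2 : ℂ) * ((u : ℂ) * εc) = 0 := by linear_combination k + k1
      have := mul_eq_zero.mp this
      rcases this with h | h
      · norm_num at h
      · exact (mul_ne_zero hu' hc0) h
  · exfalso
    simp only [if_neg hA, if_pos hB, if_neg hC, if_neg hD, mul_one, mul_zero, zero_sub,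
      add_zero, sub_zero, neg_eq_zero] at hmix
    exact (mul_ne_zero hv' (mul_ne_zero ha0 hd0)) hmix
  · exfalso
    simp only [if_neg hA, if_neg hB, if_pos hC, if_neg hD, mul_one, mul_zero, zero_sub,
      add_zero, sub_zero, neg_eq_zero] at hmix
    exact (mul_ne_zero hu' (mul_ne_zero ha0 hc0)) hmix
  · exfalso
    simp only [if_neg hA, if_neg hB, if_neg hC, if_pos hD, mul_one, mul_zero, zero_sub,
      add_zero, sub_zero, zero_add] at hmix
    exact (mul_ne_zero hv' (mul_ne_zero ha0 hd0)) hmix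
  · simp [if_neg hA, if_neg hB, if_neg hC, if_neg hD]

end Cfsg.Agent.S1509
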