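import Cfsg.Statements.S1514
import Cfsg.Agent.Lib.Helper25.NormTwo
import Cfsg.Agent.S1509

set_option autoImplicit false
open Cfsg

namespace Cfsg.Agent.S1514

open Cfsg.Agent.Lib.Helper25
open scoped ComplexConjugate

theorem classInner_conjFun {X : Type*} [Group X] [Fintype X] (f g : X → ℂ) :
    classInner (conjFun f) (conjFun g) = conj (classInner f g) := by
  simp only [classInner_def, conjFun, map_mul, map_inv₀, Complex.conj_natCast, map_sum]

theorem conjFun_conjFun {X : Type*} (f : X → ℂ) : conjFun (conjFun f) = f := by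
  funext x
  simp [conjFun]

/-- Let S be a nonempty set of irreducible characters of the finite group L, closed under complex conjugation and containing no real-valued member, and τ a linear isometry on the integer combinations of S vanishing at 1, with values virtual characters of G vanishing at 1. Then there is a choice R making (S, τ, R) a coherence system. -/
theorem result {L : Type*} [Group L] [Fintype L] {G : Type*} [Group G] [Fintype G] (S : Set (L → ℂ)) (hS : S.Nonempty) (hirr : ∀ χ ∈ S, Cfsg.IsIrrCharacter L χ) (hconj : ∀ χ ∈ S, Cfsg.conjFun χ ∈ S ∧ Cfsg.conjFun χ ≠ χ) (τ : (L → ℂ) → (G → ℂ)) (hτ : Cfsg.IsLinearIsometryOn (Cfsg.zspanOn S {1}ᶜ) τ) (hτ1 : ∀ α ∈ Cfsg.zspanOn S {1}ᶜ, τ α 1 = 0) : ∃ R : (L → ℂ) → Finset (G → ℂ), Cfsg.IsCoherenceSystem S τ R := by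
  classical
  have hiso := hτ.2.2.1
  have hgen := hτ.2.2.2
  -- the differences χ - conj χ
  have hDmem : ∀ χ ∈ S, χ - conjFun χ ∈ zspanOn S {1}ᶜ := by
    intro χ hχ
    refine ⟨Submodule.sub_mem _ (Submodule.subset_span hχ) (Submodule.subset_span (hconj χ hχ).1), ?_⟩
    intro x hx
    have hx1 : x = 1 := by simpa using hx
    subst hx1
    obtain ⟨n, _, hn⟩ := irr_degree (hirr χ hχ)
    simp [conjFun, hn]
  have horth : ∀ χ ∈ S, ∀ φ ∈ S, χ ≠ φ → classInner χ φ = 0 := by
    intro χ hχ φ hφ hne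
    rw [Cfsg.Agent.Lib.Helper3.classInner_irr (hirr χ hχ) (hirr φ hφ), if_neg hne]
  have hnorm1 : ∀ χ ∈ S, classInner χ χ = 1 := by
    intro χ hχ
    rw [Cfsg.Agent.Lib.Helper3.classInner_irr (hirr χ hχ) (hirr χ hχ), if_pos rfl]
  have hDD : ∀ φ ∈ S, ∀ χ ∈ S, classInner (φ - conjFun φ) (χ - conjFun χ) =
      classInner φ χ - classInner φ (conjFun χ) - conj (classInner φ (conjFun χ)) +
        conj (classInner φ χ) := by
    intro φ _ χ _
    rw [classInner_sub_left, classInner_sub_right, classInner_sub_right, classInner_conjFun]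
    have : classInner (conjFun φ) χ = conj (classInner φ (conjFun χ)) := by
      rw [← classInner_conjFun, conjFun_conjFun]
    rw [this]
    ring
  have ex : ∀ χ ∈ S, ∃ a b : G → ℂ, IsIrrCharacter G a ∧ IsIrrCharacter G b ∧ a ≠ b ∧
      τ (χ - conjFun χ) = a - b := by
    intro χ hχ
    apply genChar_norm_two (hgen _ (hDmem χ hχ))
    · rw [hiso _ (hDmem χ hχ) _ (hDmem χ hχ), hDD χ hχ χ hχ, hnorm1 χ hχ,
        horth χ hχ _ (hconj χ hχ).1 (hconj χ hχ).2.symm]
      simp
      norm_num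
    · exact hτ1 _ (hDmem χ hχ)
  choose! a b hab using ex
  have hab0 : ∀ χ ∈ S, classInner (a χ) (b χ) = 0 := by
    intro χ hχ
    obtain ⟨h1, h2, h3, _⟩ := hab χ hχ
    rw [Cfsg.Agent.Lib.Helper3.classInner_irr h1 h2, if_neg h3]
  have haa : ∀ χ ∈ S, classInner (a χ) (a χ) = 1 := by
    intro χ hχ
    obtain ⟨h1, _, _, _⟩ := hab χ hχ
    rw [Cfsg.Agent.Lib.Helper3.classInner_irr h1 h1, if_pos rfl]
  have hbb : ∀ χ ∈ S, classInner (b χ) (b χ) = 1 := by
    intro χ hχ
    obtain ⟨_, h2, _, _⟩ := hab χ hχ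
    rw [Cfsg.Agent.Lib.Helper3.classInner_irr h2 h2, if_pos rfl]
  have hba0 : ∀ χ ∈ S, classInner (b χ) (a χ) = 0 := by
    intro χ hχ
    rw [← classInner_conj_symm, hab0 χ hχ, map_zero]
  have hne : ∀ χ ∈ S, a χ ≠ -b χ := by
    intro χ hχ h
    have h1 := haa χ hχ
    rw [h] at h1
    rw [classInner_neg_left, classInner_neg_right, neg_neg, hbb χ hχ] at h1
    have h2 := hab0 χ hχ
    rw [h, classInner_neg_left, hbb χ hχ] at h2
    norm_num at h2
  refine ⟨fun χ => {a χ, -b χ}, ?_⟩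
  refine
    { nonempty := hS
      isCharacter := fun χ hχ => Cfsg.Agent.Lib.Helper3.IsIrrCharacter.isCharacter (hirr χ hχ)
      conj_mem := fun χ hχ => (hconj χ hχ).1
      conj_ne := fun χ hχ => (hconj χ hχ).2
      isometry := hτ
      map_one := hτ1
      orthogonal := horth
      orthonormal := ?_
      virtual := ?_
      sum_eq := ?_
      disjoint := ?_ }
  · intro χ hχ α hα β hβ
    simp only [Finset.mem_insert, Finset.mem_singleton] at hα hβ
    rcases hα with rfl | rfl <;> rcases hβ with rfl | rfl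
    · rw [haa χ hχ, if_pos rfl]
    · rw [classInner_neg_right, hab0 χ hχ, neg_zero, if_neg (hne χ hχ)]
    · rw [classInner_neg_left, hba0 χ hχ, neg_zero, if_neg (hne χ hχ).symm]
    · rw [classInner_neg_left, classInner_neg_right, neg_neg, hbb χ hχ, if_pos rfl]
  · intro χ hχ α hα
    obtain ⟨h1, h2, _, _⟩ := hab χ hχ
    simp only [Finset.mem_insert, Finset.mem_singleton] at hα
    rcases hα with rfl | rfl
    · exact IsCharacter.isGeneralizedCharacter (Cfsg.Agent.Lib.Helper3.IsIrrCharacter.isCharacter h1)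
    · exact IsCharacter.neg_isGeneralizedCharacter (Cfsg.Agent.Lib.Helper3.IsIrrCharacter.isCharacter h2)
  · intro χ hχ
    obtain ⟨_, _, _, h4⟩ := hab χ hχ
    rw [Finset.sum_pair (hne χ hχ), h4, sub_eq_add_neg]
  · intro χ hχ φ hφ h1 h2 α hα β hβ
    obtain ⟨ha1, hb1, _, e1⟩ := hab φ hφ
    obtain ⟨ha2, hb2, _, e2⟩ := hab χ hχ
    have hmix : classInner (a φ - b φ) (((1 : ℝ) : ℂ) • a χ - ((1 : ℝ) : ℂ) • b χ) = 0 := by
      rw [Complex.ofReal_one, one_smul, one_smul, ← e1, ← e2,
        hiso _ (hDmem φ hφ) _ (hDmem χ hχ), hDD φ hφ χ hχ, h1, h2]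
      simp
    have hd1 : a φ 1 = b φ 1 := by
      have := hτ1 _ (hDmem φ hφ)
      rw [e1] at this
      simpa [sub_eq_zero] using this
    have hd2 : ((1 : ℝ) : ℂ) * a χ 1 = ((1 : ℝ) : ℂ) * b χ 1 := by
      have := hτ1 _ (hDmem χ hχ)
      rw [e2] at this
      have : a χ 1 = b χ 1 := by simpa [sub_eq_zero] using this
      rw [this]
    obtain ⟨r1, r2, r3, r4⟩ := Cfsg.Agent.S1509.result (a φ) (b φ) (a χ) (b χ) (Or.inl ha1) (Or.inl hb1)
      (Or.inl ha2) (Or.inl hb2) 1 1 one_ne_zero one_ne_zero (hab0 φ hφ) (hab0 χ hχ) hmix hd1 hd2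
    simp only [Finset.mem_insert, Finset.mem_singleton] at hα hβ
    rcases hα with rfl | rfl <;> rcases hβ with rfl | rfl
    · exact r1
    · rw [classInner_neg_right, r2, neg_zero]
    · rw [classInner_neg_left, r3, neg_zero]
    · rw [classInner_neg_left, classInner_neg_right, r4]; simp

end Cfsg.Agent.S1514
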