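import Cfsg.Statements.S0157
import Cfsg.Agent.Lib.Helper3.PermChar

set_option autoImplicit false
open Cfsg

namespace Cfsg.Agent.S0157

open scoped ComplexConjugate
open Cfsg.Agent.Lib.Helper3

theorem cast_mul_pred (p : ℕ) : ((p * (p - 1) : ℕ) : ℂ) = (p : ℂ) * ((p : ℂ) - 1) := by
  rcases Nat.eq_zero_or_pos p with h | h
  · subst h
    simp
  · rw [Nat.cast_mul, Nat.cast_sub h, Nat.cast_one]

/-- For a transitive action of a finite group on a finite set with at least two points: the action is 2-transitive if and only if the function sending g to (number of fixed points of g) − 1 is an irreducible character. -/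
theorem result {G : Type*} [Group G] [Finite G] (X : Type*) [MulAction G X] [Finite X] [MulAction.IsPretransitive G X] (hX : 2 ≤ Nat.card X) : Cfsg.IsIrrCharacter G (fun g => (Nat.card (MulAction.fixedBy X g) : ℂ) - 1) ↔ MulAction.IsMultiplyPretransitive G X 2 := by
  classical
  have := Fintype.ofFinite G
  have := Fintype.ofFinite X
  have hcard : (Nat.card G : ℂ) ≠ 0 := by exact_mod_cast Nat.card_pos.ne'
  let π : G → ℕ := fun g => Fintype.card (MulAction.fixedBy X g)
  have hθ : (fun g => (Nat.card (MulAction.fixedBy X g) : ℂ) - 1) = fun g => (π g : ℂ) - 1 := by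
    funext g
    rw [Nat.card_eq_fintype_card]
  rw [hθ]
  have hXne : Nonempty X := by
    rw [← Finite.card_pos_iff]
    omega
  -- Burnside on X
  have := Fintype.ofFinite (Quotient (MulAction.orbitRel G X))
  have hB1 : ∑ g : G, π g = Nat.card G := by
    have h1 := MulAction.sum_card_fixedBy_eq_card_orbits_mul_card_group G X
    have h2 : Fintype.card (Quotient (MulAction.orbitRel G X)) = 1 := by
      have hs : Subsingleton (MulAction.orbitRel.Quotient G X) :=
        (MulAction.pretransitive_iff_subsingleton_quotient G X).mp inferInstance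
      have hn : Nonempty (MulAction.orbitRel.Quotient G X) := ⟨Quotient.mk'' hXne.some⟩
      exact Fintype.card_eq_one_iff.mpr ⟨hn.some, fun y => Subsingleton.elim _ _⟩
    rw [h2, one_mul, Fintype.card_eq_nat_card] at h1
    exact h1
  -- Burnside on embeddings
  have := Fintype.ofFinite (Quotient (MulAction.orbitRel G (Fin 2 ↪ X)))
  have hB2 : ∑ g : G, π g * (π g - 1) =
      Fintype.card (Quotient (MulAction.orbitRel G (Fin 2 ↪ X))) * Nat.card G := by
    have h1 := MulAction.sum_card_fixedBy_eq_card_orbits_mul_card_group G (Fin 2 ↪ X)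
    rw [Fintype.card_eq_nat_card (α := G)] at h1
    rw [← h1]
    apply Finset.sum_congr rfl
    intro g _
    rw [← card_fixedBy_embedding_two g]
  set r := Fintype.card (Quotient (MulAction.orbitRel G (Fin 2 ↪ X))) with hr
  -- norm of θ
  have hnorm : classInner (fun g => (π g : ℂ) - 1) (fun g => (π g : ℂ) - 1) = (r : ℂ) := by
    unfold classInner
    have h1 : ∀ g : G, ((π g : ℂ) - 1) * conj ((π g : ℂ) - 1) =
        ((π g * (π g - 1) : ℕ) : ℂ) - (π g : ℂ) + 1 := by
      intro g
      rw [map_sub, Complex.conj_natCast, map_one, cast_mul_pred]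
      ring
    rw [Finset.sum_congr rfl (fun g _ => h1 g), Finset.sum_add_distrib, Finset.sum_sub_distrib,
      ← Nat.cast_sum, ← Nat.cast_sum, hB1, hB2]
    simp only [Finset.sum_const, Finset.card_univ, nsmul_eq_mul, mul_one]
    rw [← Nat.card_eq_fintype_card]
    push_cast
    field_simp
    ring
  -- θ is a character
  have hperm : ∀ g, (Representation.ofMulAction ℂ G X).character g = (π g : ℂ) := fun g =>
    ofMulAction_character g
  have hπchar : IsCharacter G (fun g => (π g : ℂ)) := by
    have : (fun g => (π g : ℂ)) = (Representation.ofMulAction ℂ G X).character := by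
      funext g
      exact (hperm g).symm
    rw [this]
    exact isCharacter_character _
  have hθchar : IsCharacter G (fun g => (π g : ℂ) - 1) := by
    have := Fintype.ofFinite (IrrCharacter G)
    obtain ⟨m, hm, hsum⟩ := IsCharacter.exists_mult hπchar
    let χ₀ : IrrCharacter G := ⟨fun _ => 1, isIrrCharacter_one⟩
    have hm0 : m χ₀ = 1 := by
      have h1 := hm χ₀
      have h2 : classInner (fun g => (π g : ℂ)) (χ₀ : G → ℂ) = 1 := by
        unfold classInner
        simp only [χ₀, map_one, mul_one]
        rw [← Nat.cast_sum, hB1]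
        field_simp
      rw [h2] at h1
      exact_mod_cast h1.symm
    have heq : (fun g => (π g : ℂ) - 1) =
        ∑ ψ : IrrCharacter G, ((if ψ = χ₀ then 0 else m ψ : ℕ) : ℂ) • (ψ : G → ℂ) := by
      have h3 : (fun g => (π g : ℂ) - 1) = (fun g => (π g : ℂ)) - (χ₀ : G → ℂ) := by
        funext g
        rfl
      rw [h3, hsum, eq_comm, ← sub_eq_zero, ← sub_add, ← Finset.sum_sub_distrib]
      rw [Finset.sum_eq_single χ₀]
      · rw [if_pos rfl, hm0]
        simp
      · intro ψ _ hψ
        rw [if_neg hψ, sub_self]
      · intro h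
        exact absurd (Finset.mem_univ _) h
    rw [heq]
    apply IsCharacter.sum
    intro ψ _
    exact IsCharacter.nsmul (IsIrrCharacter.isCharacter ψ.2) _
  have hEne : Nonempty (Fin 2 ↪ X) := by
    have : Fintype.card (Fin 2) ≤ Fintype.card X := by
      rw [Fintype.card_fin, ← Nat.card_eq_fintype_card]
      exact hX
    exact Function.Embedding.nonempty_of_card_le this
  constructor
  · intro hirr
    have h1 := classInner_irr hirr hirr
    rw [if_pos rfl, hnorm] at h1
    have hr1 : r = 1 := by exact_mod_cast h1
    have hsub : Subsingleton (MulAction.orbitRel.Quotient G (Fin 2 ↪ X)) := by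
      have : Fintype.card (Quotient (MulAction.orbitRel G (Fin 2 ↪ X))) ≤ 1 := by
        rw [← hr, hr1]
      exact Fintype.card_le_one_iff_subsingleton.mp this
    exact (MulAction.pretransitive_iff_subsingleton_quotient G (Fin 2 ↪ X)).mpr hsub
  · intro h2
    have hsub : Subsingleton (MulAction.orbitRel.Quotient G (Fin 2 ↪ X)) :=
      (MulAction.pretransitive_iff_subsingleton_quotient G (Fin 2 ↪ X)).mp h2
    have hn : Nonempty (MulAction.orbitRel.Quotient G (Fin 2 ↪ X)) := ⟨Quotient.mk'' hEne.some⟩
    have hr1 : r = 1 := by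
      rw [hr]
      exact Fintype.card_eq_one_iff.mpr ⟨hn.some, fun y => Subsingleton.elim _ _⟩
    apply isIrrCharacter_of_classInner_self_eq_one hθchar
    rw [hnorm, hr1]
    simp

end Cfsg.Agent.S0157
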