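import Cfsg.Statements.S0339
import Cfsg.Agent.Lib.Helper97.Zass

set_option autoImplicit false
open Cfsg

namespace Cfsg.Agent.S0339

open Cfsg.Agent.Lib.Helper97.Zass

/-- A non-trivial normal subgroup of a Zassenhaus group is itself a Zassenhaus group on the same set. -/
theorem result {G Ω : Type*} [Group G] [MulAction G Ω] [Finite Ω]
    (hZ : Cfsg.IsZassenhausGroup G Ω) (N : Subgroup G) [N.Normal] (hN : N ≠ ⊥) :
    Cfsg.IsZassenhausGroup N Ω := by
  have hy := hyp_of_zass hZ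
  have hfin := finite_of_hyp hy
  obtain ⟨hK, hN2⟩ := core hy N hN
  obtain ⟨m, hmN, hm1, a, b, hab, hma, hmb⟩ := exists_two_fixed hy N hN
  refine ⟨?_, ?_, ?_, ?_, ?_⟩
  · refine ⟨fun {x y} h => ?_⟩
    apply Subtype.ext
    have hf := hZ.1
    exact hf.eq_of_smul_eq_smul h
  · rw [MulAction.is_two_pretransitive_iff]
    intro a b c d hab hcd
    obtain ⟨x, hx, h1, h2⟩ := hN2 hab hcd
    exact ⟨⟨x, hx⟩, h1, h2⟩
  · intro g a b c hab hbc hac ha hb hc
    apply Subtype.ext
    exact hy.h3 g a b c hab hbc hac ha hb hc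
  · refine ⟨⟨m, hmN⟩, ?_, a, b, hab, hma, hmb⟩
    intro h; exact hm1 (congrArg Subtype.val h)
  · intro M hMn hMt
    by_contra hcon
    push Not at hcon
    apply no_regular hy N hN (M.map N.subtype)
    · intro x hx
      rw [Subgroup.mem_map] at hx
      obtain ⟨s, -, rfl⟩ := hx
      exact s.2
    · intro y hyN x hx
      rw [Subgroup.mem_map] at hx ⊢
      obtain ⟨s, hs, rfl⟩ := hx
      exact ⟨⟨y, hyN⟩ * s * ⟨y, hyN⟩⁻¹, hMn.conj_mem s hs _, rfl⟩
    · intro a b
      obtain ⟨x, hx⟩ := hMt.exists_smul_eq a b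
      exact ⟨((x : N) : G), Subgroup.mem_map.mpr ⟨x.1, x.2, rfl⟩, hx⟩
    · intro x hx a hxa
      rw [Subgroup.mem_map] at hx
      obtain ⟨s, hs, rfl⟩ := hx
      have h1 : (⟨s, hs⟩ : M) ∈ MulAction.stabilizer M a := hxa
      rw [hcon a, Subgroup.mem_bot] at h1
      have h2 : s = 1 := congrArg Subtype.val h1
      exact congrArg Subtype.val h2

end Cfsg.Agent.S0339
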