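import Cfsg.Statements.S0741
import Cfsg.Agent.Lib.Helper97.Zass

set_option autoImplicit false
open Cfsg

namespace Cfsg.Agent.S0741

open Cfsg.Agent.Lib.Helper97.Zass MulAction

/-- counting the involutions with two fixed points that swap a given pair of points -/
theorem count {G Ω : Type*} [Group G] [Fintype G] [MulAction G Ω] [Fintype Ω] [DecidableEq G]
    [DecidableEq Ω] (hy : Hyp G Ω) {a b : Ω} (hab : a ≠ b)
    (τ : G) (hτ1 : τ ≠ 1) (hττ : τ * τ = 1) (hτa : τ • a = a) (hτb : τ • b = b) :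
    Fintype.card Ω - 2 ≤ 2 * (Finset.univ.filter (fun x : G => x • a = a ∧ x • b = b)).card := by
  obtain ⟨I₂, hI₂⟩ : ∃ I₂ : Finset G, I₂ = Finset.univ.filter (fun u : G =>
    u ≠ 1 ∧ u * u = 1 ∧ ∃ c d : Ω, c ≠ d ∧ u • c = c ∧ u • d = d) := ⟨_, rfl⟩
  have hmemI : ∀ u : G, u ∈ I₂ ↔
      (u ≠ 1 ∧ u * u = 1 ∧ ∃ c d : Ω, c ≠ d ∧ u • c = c ∧ u • d = d) := by
    intro u; rw [hI₂, Finset.mem_filter]; simp only [Finset.mem_univ, true_and]
  have hconjI : ∀ u ∈ I₂, ∀ g : G, g * u * g⁻¹ ∈ I₂ := by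
    intro u hu g
    rw [hmemI] at hu ⊢
    obtain ⟨hu1, huu, c, d, hcd, huc, hud⟩ := hu
    refine ⟨?_, ?_, g • c, g • d, ?_, ?_, ?_⟩
    · intro h
      apply hu1
      calc u = g⁻¹ * (g * u * g⁻¹) * g := by group
        _ = 1 := by rw [h]; group
    · calc g * u * g⁻¹ * (g * u * g⁻¹) = g * (u * u) * g⁻¹ := by group
        _ = 1 := by rw [huu]; group
    · intro h; exact hcd (smul_left_cancel g h)
    · rw [mul_smul, mul_smul, inv_smul_smul, huc]
    · rw [mul_smul, mul_smul, inv_smul_smul, hud]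
  -- fixed points
  have hfix : ∀ u ∈ I₂, (Finset.univ.filter (fun c : Ω => u • c = c)).card = 2 := by
    intro u hu
    rw [hmemI] at hu
    obtain ⟨hu1, huu, c, d, hcd, huc, hud⟩ := hu
    apply le_antisymm
    · by_contra hlt
      push Not at hlt
      rw [Finset.two_lt_card_iff] at hlt
      obtain ⟨x, y, z, hx, hy', hz, hxy, hxz, hyz⟩ := hlt
      rw [Finset.mem_filter] at hx hy' hz
      exact hu1 (hy.h3 u x y z hxy hyz hxz hx.2 hy'.2 hz.2)
    · have hsub : ({c, d} : Finset Ω) ⊆ Finset.univ.filter (fun c : Ω => u • c = c) := by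
        intro x hx
        rw [Finset.mem_insert, Finset.mem_singleton] at hx
        rw [Finset.mem_filter]
        rcases hx with rfl | rfl
        · exact ⟨Finset.mem_univ _, huc⟩
        · exact ⟨Finset.mem_univ _, hud⟩
      have h2 : ({c, d} : Finset Ω).card = 2 := Finset.card_pair hcd
      rw [← h2]
      exact Finset.card_le_card hsub
  have hmoved : ∀ u ∈ I₂,
      (Finset.univ.filter (fun c : Ω => ¬ u • c = c)).card = Fintype.card Ω - 2 := by
    intro u hu
    have h1 := Finset.card_filter_add_card_filter_not (s := (Finset.univ : Finset Ω))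
      (fun c : Ω => u • c = c)
    rw [hfix u hu, Finset.card_univ] at h1
    omega
  -- for every pair an involution fixing both
  have hex : ∀ p : Ω × Ω, p.1 ≠ p.2 → ∃ u ∈ I₂, u • p.1 = p.1 ∧ u • p.2 = p.2 := by
    intro p hp
    obtain ⟨g, hga, hgb⟩ := hy.h2 hab hp
    refine ⟨g * τ * g⁻¹, ?_, ?_, ?_⟩
    · apply hconjI
      rw [hmemI]
      exact ⟨hτ1, hττ, a, b, hab, hτa, hτb⟩
    · rw [mul_smul, mul_smul, ← hga, inv_smul_smul, hτa]
    · rw [mul_smul, mul_smul, ← hgb, inv_smul_smul, hτb]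
  -- lower bound for the number of involutions
  have hA : Fintype.card Ω * Fintype.card Ω - Fintype.card Ω ≤ 2 * I₂.card := by
    choose! φ hφ using hex
    have h1 := Finset.card_le_mul_card_image (f := φ) ((Finset.univ : Finset Ω).offDiag) 2 ?_
    · rw [Finset.offDiag_card, Finset.card_univ] at h1
      refine h1.trans (Nat.mul_le_mul_left 2 (Finset.card_le_card ?_))
      intro u hu
      rw [Finset.mem_image] at hu
      obtain ⟨p, hp, rfl⟩ := hu
      rw [Finset.mem_offDiag] at hp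
      exact (hφ p hp.2.2).1
    · intro u hu
      rw [Finset.mem_image] at hu
      obtain ⟨p, hp, rfl⟩ := hu
      rw [Finset.mem_offDiag] at hp
      have huI := (hφ p hp.2.2).1
      have hsub : (Finset.univ : Finset Ω).offDiag.filter (fun q => φ q = φ p) ⊆
          (Finset.univ.filter (fun c : Ω => φ p • c = c)).offDiag := by
        intro q hq
        rw [Finset.mem_filter, Finset.mem_offDiag] at hq
        rw [Finset.mem_offDiag, Finset.mem_filter, Finset.mem_filter]
        obtain ⟨⟨-, -, hq12⟩, hqp⟩ := hq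
        have h2 := (hφ q hq12).2
        rw [hqp] at h2
        exact ⟨⟨Finset.mem_univ _, h2.1⟩, ⟨Finset.mem_univ _, h2.2⟩, hq12⟩
      have h3 := Finset.card_le_card hsub
      rw [Finset.offDiag_card, hfix _ huI] at h3
      exact h3
  -- the double count
  have hdc := Finset.sum_card_bipartiteAbove_eq_sum_card_bipartiteBelow (s := I₂)
    (t := (Finset.univ : Finset Ω).offDiag)
    (r := fun (u : G) (p : Ω × Ω) => u • p.1 = p.2 ∧ u • p.2 = p.1)
  have hleft : ∀ u ∈ I₂, ((Finset.univ : Finset Ω).offDiag.bipartiteAbove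
      (fun (u : G) (p : Ω × Ω) => u • p.1 = p.2 ∧ u • p.2 = p.1) u).card =
      Fintype.card Ω - 2 := by
    intro u hu
    rw [← hmoved u hu]
    have huu : u * u = 1 := ((hmemI u).mp hu).2.1
    symm
    refine Finset.card_nbij' (fun c => (c, u • c)) (fun p => p.1) ?_ ?_ ?_ ?_
    · intro c hc
      simp only [Finset.coe_filter, Finset.mem_univ, true_and, Set.mem_ofPred_eq] at hc
      simp only [Finset.coe_bipartiteAbove, Finset.mem_offDiag, Finset.mem_univ, true_and,
        Set.mem_ofPred_eq]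
      refine ⟨fun h => hc h.symm, ?_⟩
      rw [← mul_smul, huu, one_smul]
    · intro p hp
      simp only [Finset.coe_bipartiteAbove, Finset.mem_offDiag, Finset.mem_univ, true_and,
        Set.mem_ofPred_eq] at hp
      simp only [Finset.coe_filter, Finset.mem_univ, true_and, Set.mem_ofPred_eq]
      intro h
      exact hp.1 (h.symm.trans hp.2.1)
    · intro c _; rfl
    · intro p hp
      simp only [Finset.coe_bipartiteAbove, Finset.mem_offDiag, Finset.mem_univ, true_and,
        Set.mem_ofPred_eq] at hp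
      exact Prod.ext rfl hp.2.1
  have hright : ∀ p ∈ (Finset.univ : Finset Ω).offDiag, (I₂.bipartiteBelow
      (fun (u : G) (p : Ω × Ω) => u • p.1 = p.2 ∧ u • p.2 = p.1) p).card =
      (I₂.filter (fun u => u • a = b ∧ u • b = a)).card := by
    intro p hp
    rw [Finset.mem_offDiag] at hp
    obtain ⟨g, hga, hgb⟩ := hy.h2 hab hp.2.2
    refine Finset.card_nbij' (fun u => g⁻¹ * u * g) (fun u => g * u * g⁻¹) ?_ ?_ ?_ ?_
    · intro u hu
      simp only [Finset.coe_bipartiteBelow, Set.mem_ofPred_eq] at hu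
      simp only [Finset.coe_filter, Set.mem_ofPred_eq]
      obtain ⟨huI, hu1, hu2⟩ := hu
      refine ⟨?_, ?_, ?_⟩
      · have h0 := hconjI u huI g⁻¹
        rw [inv_inv] at h0; exact h0
      · rw [mul_smul, mul_smul, hga, hu1, ← hgb, inv_smul_smul]
      · rw [mul_smul, mul_smul, hgb, hu2, ← hga, inv_smul_smul]
    · intro u hu
      simp only [Finset.coe_filter, Set.mem_ofPred_eq] at hu
      simp only [Finset.coe_bipartiteBelow, Set.mem_ofPred_eq]
      obtain ⟨huI, hu1, hu2⟩ := hu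
      refine ⟨hconjI u huI g, ?_, ?_⟩
      · rw [mul_smul, mul_smul, ← hga, inv_smul_smul, hu1, hgb]
      · rw [mul_smul, mul_smul, ← hgb, inv_smul_smul, hu2, hga]
    · intro u _; group
    · intro u _; group
  rw [Finset.sum_congr rfl hleft, Finset.sum_congr rfl hright, Finset.sum_const, Finset.sum_const,
    smul_eq_mul, smul_eq_mul, Finset.offDiag_card, Finset.card_univ] at hdc
  -- s ≤ |H|
  have hs : (I₂.filter (fun u => u • a = b ∧ u • b = a)).card ≤
      (Finset.univ.filter (fun x : G => x • a = a ∧ x • b = b)).card := by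
    by_cases hemp : (I₂.filter (fun u => u • a = b ∧ u • b = a)) = ∅
    · rw [hemp, Finset.card_empty]; exact Nat.zero_le _
    obtain ⟨u₀, hu₀⟩ := Finset.nonempty_iff_ne_empty.mpr hemp
    rw [Finset.mem_filter] at hu₀
    apply Finset.card_le_card_of_injOn (fun u => u₀⁻¹ * u)
    · intro u hu
      simp only [Finset.coe_filter, Set.mem_ofPred_eq] at hu
      simp only [Finset.coe_filter, Finset.mem_univ, true_and, Set.mem_ofPred_eq]
      constructor
      · rw [mul_smul, hu.2.1, ← hu₀.2.1, inv_smul_smul]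
      · rw [mul_smul, hu.2.2, ← hu₀.2.2, inv_smul_smul]
    · intro u _ v _ huv
      exact mul_left_cancel huv
  have hN3 : 3 ≤ Fintype.card Ω := by
    obtain ⟨x, y, z, hxy, hyz, hxz⟩ := hy.three
    have h3 : ({x, y, z} : Finset Ω).card = 3 := Finset.card_eq_three.mpr ⟨x, y, z, hxy, hxz, hyz, rfl⟩
    rw [← h3, ← Finset.card_univ]
    exact Finset.card_le_card (Finset.subset_univ _)
  obtain ⟨A, hAdef⟩ : ∃ A, A = I₂.card := ⟨_, rfl⟩
  obtain ⟨s, hsdef⟩ : ∃ s, s = (I₂.filter (fun u => u • a = b ∧ u • b = a)).card := ⟨_, rfl⟩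
  obtain ⟨N, hNdef⟩ : ∃ N, N = Fintype.card Ω := ⟨_, rfl⟩
  obtain ⟨D, hDdef⟩ : ∃ D, D = N * N - N := ⟨_, rfl⟩
  rw [← hAdef, ← hsdef, ← hNdef, ← hDdef] at hdc
  rw [← hAdef, ← hNdef, ← hDdef] at hA
  rw [← hsdef] at hs
  rw [← hNdef] at hN3 ⊢
  have hDpos : 0 < D := by
    have : N * N ≥ 3 * N := Nat.mul_le_mul_right N hN3
    omega
  have h1 : D * (N - 2) ≤ D * (2 * s) := by
    calc D * (N - 2) ≤ (2 * A) * (N - 2) := Nat.mul_le_mul_right _ hA
      _ = 2 * (A * (N - 2)) := by ring
      _ = 2 * (D * s) := by rw [hdc]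
      _ = D * (2 * s) := by ring
  have h2 : N - 2 ≤ 2 * s := Nat.le_of_mul_le_mul_left h1 hDpos
  omega

/-- If the two-point stabilisers of a finite Zassenhaus group of degree `n + 1` have even order `d`, then `2d ≥ n - 1`. -/
theorem result {G Ω : Type*} [Group G] [Finite G] [MulAction G Ω] [Fintype Ω] (hZ : Cfsg.IsZassenhausGroup G Ω) {a b : Ω} (hab : a ≠ b) (heven : Even (Nat.card ↥(MulAction.stabilizer G a ⊓ MulAction.stabilizer G b))) : Fintype.card Ω - 2 ≤ 2 * Nat.card ↥(MulAction.stabilizer G a ⊓ MulAction.stabilizer G b) := by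
  classical
  have := Fintype.ofFinite G
  have hy := hyp_of_zass hZ
  obtain ⟨τ', hτ'⟩ := exists_prime_orderOf_dvd_card'
    (G := ↥(MulAction.stabilizer G a ⊓ MulAction.stabilizer G b)) 2 heven.two_dvd
  have hτo : orderOf (τ' : G) = 2 := by rw [Subgroup.orderOf_coe, hτ']
  have hτ1 : (τ' : G) ≠ 1 := by
    intro h; rw [h, orderOf_one] at hτo; omega
  have hττ : (τ' : G) * (τ' : G) = 1 := by
    rw [← sq, ← hτo]; exact pow_orderOf_eq_one _
  have hmem := τ'.2
  rw [Subgroup.mem_inf, mem_stabilizer_iff, mem_stabilizer_iff] at hmem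
  have h1 := count hy hab (τ' : G) hτ1 hττ hmem.1 hmem.2
  have h2 : Nat.card ↥(MulAction.stabilizer G a ⊓ MulAction.stabilizer G b) =
      (Finset.univ.filter (fun x : G => x • a = a ∧ x • b = b)).card := by
    rw [← Fintype.card_subtype, ← Nat.card_eq_fintype_card]
    apply Nat.card_congr
    apply Equiv.subtypeEquivRight
    intro x
    rw [Subgroup.mem_inf, mem_stabilizer_iff, mem_stabilizer_iff]
  rw [h2]
  exact h1

end Cfsg.Agent.S0741
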