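import Cfsg.Statements.S0738
import Cfsg.Agent.Lib.Helper97.Zass2

set_option autoImplicit false
open Cfsg

namespace Cfsg.Agent.S0738

open Cfsg.Agent.Lib.Helper97.Zass MulAction

/-- Let a finite Zassenhaus group of degree `n + 1` have two-point stabilisers of order `d` with `2d ≥ n - 1`. Then a normal subgroup of a point stabiliser acting regularly on the remaining points is elementary abelian, and the degree is a prime power plus one. -/
theorem result {G Ω : Type*} [Group G] [Finite G] [MulAction G Ω] [Fintype Ω] (hZ : Cfsg.IsZassenhausGroup G Ω) {a b : Ω} (hab : a ≠ b) (hd : Fintype.card Ω - 2 ≤ 2 * Nat.card ↥(MulAction.stabilizer G a ⊓ MulAction.stabilizer G b)) (F : Subgroup G) (hFle : F ≤ MulAction.stabilizer G a) (hFn : (F.subgroupOf (MulAction.stabilizer G a)).Normal) (hreg : ∀ y z : Ω, y ≠ a → z ≠ a → ∃! u : F, (u : G) • y = z) : IsMulCommutative F ∧ ∃ p f : ℕ, p.Prime ∧ (∀ u ∈ F, u ^ p = 1) ∧ Fintype.card Ω = p ^ f + 1 := by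
  classical
  have hy := hyp_of_zass hZ
  have hn3 := Cfsg.Agent.S0878.three_le_card hZ
  -- regularity consequences
  have hfixF : ∀ u ∈ F, ∀ c : Ω, c ≠ a → u • c = c → u = 1 := by
    intro u hu c hc huc
    obtain ⟨u', -, huniq⟩ := hreg c c hc hc
    have h1 := huniq ⟨u, hu⟩ huc
    have h2 := huniq 1 (one_smul _ c)
    have h3 : (⟨u, hu⟩ : F) = 1 := h1.trans h2.symm
    exact congrArg Subtype.val h3
  -- cardinality of F
  have hcardF : Nat.card F = Fintype.card Ω - 1 := by
    have hba : b ≠ a := Ne.symm hab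
    have hmap : ∀ u : F, (u : G) • b ≠ a := by
      intro u h
      have hua : (u : G) • a = a := hFle u.2
      exact hba (smul_left_cancel (u : G) (h.trans hua.symm))
    have hbij : Function.Bijective (fun u : F => (⟨(u : G) • b, hmap u⟩ : {y : Ω // y ≠ a})) := by
      constructor
      · intro u v huv
        have h1 : (u : G) • b = (v : G) • b := congrArg Subtype.val huv
        obtain ⟨w, -, huniq⟩ := hreg b ((v : G) • b) hba (hmap v)
        exact (huniq u h1).trans (huniq v rfl).symm
      · rintro ⟨y, hy'⟩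
        obtain ⟨u, hu, -⟩ := hreg b y hba hy'
        exact ⟨u, Subtype.ext hu⟩
    rw [Nat.card_congr (Equiv.ofBijective _ hbij), Nat.card_eq_fintype_card,
      Fintype.card_subtype_compl, Fintype.card_subtype_eq]
  -- F is the Frobenius kernel, hence nilpotent
  obtain ⟨N, hN, hNn, hNnil⟩ := Cfsg.Agent.S0042.result _ (frob_compl hy a b (Ne.symm hab))
  have hmemN : ∀ s : MulAction.stabilizer G a, s ∈ N ↔
      (s = 1 ∨ ∀ c, (s : G) • c = c → c = a) := by
    intro s
    have h1 : s ∈ N ↔ s ∈ Cfsg.frobeniusKernel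
        (MulAction.stabilizer (MulAction.stabilizer G a) b) := by
      rw [← hN]; rfl
    rw [h1]
    exact kernel_mem hy a b (Ne.symm hab) s
  have hFN : ∀ u : F, (⟨(u : G), hFle u.2⟩ : MulAction.stabilizer G a) ∈ N := by
    intro u
    rw [hmemN]
    by_cases hu1 : (u : G) = 1
    · left; exact Subtype.ext hu1
    · right
      intro c hc
      by_contra hca
      exact hu1 (hfixF u u.2 c hca hc)
  have hnilF : Group.IsNilpotent F := by
    let f : F →* N :=
      { toFun := fun u => ⟨⟨(u : G), hFle u.2⟩, hFN u⟩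
        map_one' := rfl
        map_mul' := fun u v => rfl }
    have hinj : Function.Injective f := by
      intro u v huv
      have h1 : (u : G) = v := congrArg (fun z : N => ((z : MulAction.stabilizer G a) : G)) huv
      exact Subtype.ext h1
    have := hNnil
    apply Subgroup.isNilpotent_of_ker_le_center f
    rw [(MonoidHom.ker_eq_bot_iff f).mpr hinj]
    exact bot_le
  -- the hypotheses of the orbit lemma
  obtain ⟨H, hHdef⟩ : ∃ H : Subgroup G, H = MulAction.stabilizer G a ⊓ MulAction.stabilizer G b :=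
    ⟨_, rfl⟩
  have hmemH : ∀ h : G, h ∈ H ↔ h • a = a ∧ h • b = b := by
    intro h
    rw [hHdef, Subgroup.mem_inf, mem_stabilizer_iff, mem_stabilizer_iff]
  have hHF : ∀ h ∈ H, ∀ u ∈ F, h * u * h⁻¹ ∈ F := by
    intro h hh u hu
    have hha : h ∈ MulAction.stabilizer G a := ((hmemH h).mp hh).1
    have h1 := hFn.conj_mem ⟨u, hFle hu⟩ (Subgroup.mem_subgroupOf.mpr hu) ⟨h, hha⟩
    exact Subgroup.mem_subgroupOf.mp h1
  have hsemi : ∀ h ∈ H, ∀ u ∈ F, u ≠ 1 → h * u * h⁻¹ = u → h = 1 := by
    intro h hh u hu hu1 hconj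
    obtain ⟨hha, hhb⟩ := (hmemH h).mp hh
    have hcomm : h * u = u * h := by
      calc h * u = (h * u * h⁻¹) * h := by group
        _ = u * h := by rw [hconj]
    have hua : u • a = a := hFle hu
    have hub_a : u • b ≠ a := by
      intro h1
      exact hab.symm (smul_left_cancel u (h1.trans hua.symm))
    have hub_b : u • b ≠ b := by
      intro h1
      exact hu1 (hfixF u hu b (Ne.symm hab) h1)
    have h3 : h • (u • b) = u • b := by
      rw [← mul_smul, hcomm, mul_smul, hhb]
    exact hy.h3 h a b (u • b) hab (Ne.symm hub_b) (Ne.symm hub_a) hha hhb h3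
  have hcard : Nat.card F ≤ 2 * Nat.card H + 1 := by
    rw [hcardF, hHdef]
    omega
  have hFbot : F ≠ ⊥ := by
    intro h
    rw [h, Subgroup.card_bot] at hcardF
    omega
  obtain ⟨hcomm, p, hp, hpow⟩ := elemAb_of_two_orbits F H hsemi hHF hcard hnilF hFbot
  refine ⟨⟨⟨fun u v => Subtype.ext (hcomm u u.2 v v.2)⟩⟩, ?_⟩
  have : Fact p.Prime := ⟨hp⟩
  have hpg : IsPGroup p F := by
    intro u
    refine ⟨1, ?_⟩
    rw [pow_one]
    exact Subtype.ext (hpow u u.2)
  obtain ⟨f, hf⟩ := IsPGroup.iff_card.mp hpg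
  refine ⟨p, f, hp, hpow, ?_⟩
  rw [hcardF] at hf
  omega

end Cfsg.Agent.S0738
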