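import Cfsg.Statements.S0885
import Cfsg.Agent.Lib.Helper3.ZassFeit5

set_option autoImplicit false
open Cfsg

namespace Cfsg.Agent.S0885

/-- Let G be a finite Zassenhaus group on Ω with h + 1 points whose two-point stabilizer E has odd order e, and let H be the subgroup of the stabilizer of a consisting of the identity and the elements fixing no point other than a (given here as a subgroup of the stabilizer of order one less than the number of points whose non-identity elements fix only a; it is the Frobenius kernel of the stabilizer). Then either h - 1 ≤ 2 * e, or H is a non-abelian 2-group whose commutator subgroup has index at most 4 * e ^ 2 + 1 in H. -/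
theorem result {G Ω : Type*} [Group G] [Finite G] [MulAction G Ω] [Fintype Ω] (hZ : Cfsg.IsZassenhausGroup G Ω) {a b : Ω} (hab : a ≠ b) (h e : ℕ) (hh : Fintype.card Ω = h + 1) (he : Nat.card ↥(MulAction.stabilizer G a ⊓ MulAction.stabilizer G b : Subgroup G) = e) (hodd : Odd e) (H : Subgroup G) (hHa : H ≤ MulAction.stabilizer G a) (hHcard : Nat.card H + 1 = Fintype.card Ω) (hHfix : ∀ u ∈ H, u ≠ 1 → ∀ c : Ω, u • c = c → c = a) : h - 1 ≤ 2 * e ∨ (IsPGroup 2 H ∧ (∃ u v : H, u * v ≠ v * u) ∧ (commutator H).index ≤ 4 * e ^ 2 + 1) := by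
  classical
  by_cases hle : h - 1 ≤ 2 * e
  · exact Or.inl hle
  right
  have k : Cfsg.Agent.Lib.Helper3.ZassFeit.Ker G a H := ⟨hHa, hHcard, hHfix⟩
  have he' : Nat.card (Cfsg.Agent.Lib.Helper3.ZassOdd.twoStab G a b) = e := he
  have hodd' : Odd (Nat.card (Cfsg.Agent.Lib.Helper3.ZassOdd.twoStab G a b)) := by
    rw [he']
    exact hodd
  obtain ⟨⟨m, hm⟩, hna, hidx⟩ := Cfsg.Agent.Lib.Helper3.ZassFeit.general_case hZ hab hodd' k
    (by rw [he']; omega)
  rw [he'] at hidx
  have : Fact (Nat.Prime 2) := ⟨Nat.prime_two⟩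
  refine ⟨IsPGroup.of_card hm, ?_, ?_⟩
  · by_contra hcon
    push Not at hcon
    apply hna
    intro x hx y hy
    exact congrArg Subtype.val (hcon ⟨x, hx⟩ ⟨y, hy⟩)
  · have hcomm : (⁅H, H⁆ : Subgroup G).subgroupOf H = commutator H := by
      rw [commutator_def]
      have h1 : (⁅(⊤ : Subgroup H), (⊤ : Subgroup H)⁆).map H.subtype = ⁅H, H⁆ := by
        rw [Subgroup.map_commutator, ← MonoidHom.range_eq_map, Subgroup.range_subtype]
      rw [← h1]
      exact Subgroup.comap_map_eq_self_of_injective (Subgroup.subtype_injective H) _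
    rw [← hcomm]
    exact hidx

end Cfsg.Agent.S0885
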