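import Cfsg.Statements.S0346
import Cfsg.Agent.S0885
import Cfsg.Agent.S0738
import Cfsg.Agent.S0741
import Cfsg.Agent.Lib.Helper97.Zass

set_option autoImplicit false
set_option linter.style.haveILetI false
open Cfsg

namespace Cfsg.Agent.S0346

open Cfsg.Agent.Lib.Helper97.Zass

/-- The Frobenius kernel of a point stabiliser of a Zassenhaus group, with the properties needed
by the statements on Zassenhaus groups. -/
theorem exists_kernel_data {G Ω : Type*} [Group G] [Finite G] [MulAction G Ω] [Fintype Ω]
    (hZ : Cfsg.IsZassenhausGroup G Ω) {a b : Ω} (hab : a ≠ b) :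
    ∃ K : Subgroup G, K ≤ MulAction.stabilizer G a ∧
      (K.subgroupOf (MulAction.stabilizer G a)).Normal ∧
      (∀ u ∈ K, u ≠ 1 → ∀ c : Ω, u • c = c → c = a) ∧
      (∀ y z : Ω, y ≠ a → z ≠ a → ∃! u : K, (u : G) • y = z) ∧
      Nat.card K + 1 = Fintype.card Ω := by
  classical
  have hy := hyp_of_zass hZ
  obtain ⟨K, hKmem, hKtrans⟩ := exists_kernel hy a
  have hKle : K ≤ MulAction.stabilizer G a := by
    intro x hx
    exact MulAction.mem_stabilizer_iff.mpr ((hKmem x).mp hx).1
  have hfix : ∀ u ∈ K, u ≠ 1 → ∀ c : Ω, u • c = c → c = a := by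
    intro u hu hu1 c hc
    rcases ((hKmem u).mp hu).2 with h | h
    · exact absurd h hu1
    · exact h c hc
  have hreg : ∀ y z : Ω, y ≠ a → z ≠ a → ∃! u : K, (u : G) • y = z := by
    intro y z hya hza
    obtain ⟨k, hk, hkyz⟩ := hKtrans y z hya hza
    refine ⟨⟨k, hk⟩, hkyz, ?_⟩
    rintro ⟨k', hk'⟩ hk'yz
    apply Subtype.ext
    show k' = k
    by_contra hne
    have hmem : k⁻¹ * k' ∈ K := K.mul_mem (K.inv_mem hk) hk'
    have hne1 : k⁻¹ * k' ≠ 1 := by
      intro h
      apply hne
      have := congrArg (fun t => k * t) h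
      simpa using this
    have hfixy : (k⁻¹ * k') • y = y := by
      have h1 : k' • y = z := hk'yz
      rw [mul_smul, h1, ← hkyz, inv_smul_smul]
    exact hya (hfix _ hmem hne1 y hfixy)
  have hnorm : (K.subgroupOf (MulAction.stabilizer G a)).Normal := by
    refine ⟨fun n hn g => ?_⟩
    rw [Subgroup.mem_subgroupOf] at hn ⊢
    have hga : (g : G) • a = a := MulAction.mem_stabilizer_iff.mp g.2
    have hga' : (g : G)⁻¹ • a = a := by rw [inv_smul_eq_iff, hga]
    obtain ⟨hna, hn2⟩ := (hKmem _).mp hn
    rw [hKmem]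
    refine ⟨?_, ?_⟩
    · show ((g : G) * (n : G) * (g : G)⁻¹) • a = a
      rw [mul_smul, mul_smul, hga', hna, hga]
    · rcases hn2 with h | h
      · left
        show (g : G) * (n : G) * (g : G)⁻¹ = 1
        rw [h]; group
      · right
        intro c hc
        have hc' : ((g : G) * (n : G) * (g : G)⁻¹) • c = c := hc
        have h1 : (n : G) • ((g : G)⁻¹ • c) = (g : G)⁻¹ • c := by
          rw [mul_smul, mul_smul] at hc'
          have := congrArg (fun t => (g : G)⁻¹ • t) hc'
          simpa using this
        have h2 := h _ h1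
        rw [inv_smul_eq_iff, hga] at h2
        exact h2
  refine ⟨K, hKle, hnorm, hfix, hreg, ?_⟩
  -- cardinality
  have hba : b ≠ a := Ne.symm hab
  have hbij : Function.Bijective
      (fun k : K => (⟨(k : G) • b, by
        intro h
        have hka : (k : G) • a = a := MulAction.mem_stabilizer_iff.mp (hKle k.2)
        rw [← hka] at h
        exact hba (MulAction.injective (k : G) h)⟩ : {c : Ω // c ≠ a})) := by
    constructor
    · intro k k' hkk'
      have h1 : (k : G) • b = (k' : G) • b := congrArg Subtype.val hkk'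
      obtain ⟨u, _, huniq⟩ := hreg b ((k : G) • b) hba (by
        intro h
        have hka : (k : G) • a = a := MulAction.mem_stabilizer_iff.mp (hKle k.2)
        rw [← hka] at h
        exact hba (MulAction.injective (k : G) h))
      rw [huniq k rfl, huniq k' h1.symm]
    · rintro ⟨c, hc⟩
      obtain ⟨u, hu, _⟩ := hreg b c hba hc
      exact ⟨u, Subtype.ext hu⟩
  have h1 : Nat.card K = Nat.card {c : Ω // c ≠ a} := Nat.card_congr (Equiv.ofBijective _ hbij)
  have h2 : Nat.card {c : Ω // c ≠ a} = Fintype.card Ω - 1 := by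
    rw [Nat.card_eq_fintype_card, Fintype.card_subtype_compl, Fintype.card_subtype_eq]
  have h3 : 0 < Fintype.card Ω := Fintype.card_pos_iff.mpr ⟨a⟩
  omega

/-- The number of points of a finite simple Zassenhaus group is `p^k + 1` for some prime power `p^k` (the regular normal
subgroup of a point stabiliser is a `p`-group). -/
theorem result {G Ω : Type*} [Group G] [Finite G] [MulAction G Ω] [Fintype Ω]
    (hZ : Cfsg.IsZassenhausGroup G Ω) [IsSimpleGroup G] :
    IsPrimePow (Fintype.card Ω - 1) := by
  classical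
  have hy := hyp_of_zass hZ
  obtain ⟨a, b, c, hab, hbc, hac⟩ := hy.three
  have hcard3 : 3 ≤ Fintype.card Ω := by
    have : ({a, b, c} : Finset Ω).card ≤ Fintype.card Ω := Finset.card_le_univ _
    rw [Finset.card_insert_of_notMem (by simp [hab, hac]),
      Finset.card_insert_of_notMem (by simp [hbc]), Finset.card_singleton] at this
    omega
  obtain ⟨K, hKle, hKn, hfix, hreg, hKcard⟩ := exists_kernel_data hZ hab
  -- the case of a large two-point stabiliser
  have key : Fintype.card Ω - 2 ≤
      2 * Nat.card ↥(MulAction.stabilizer G a ⊓ MulAction.stabilizer G b) →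
      IsPrimePow (Fintype.card Ω - 1) := by
    intro hd
    obtain ⟨_, p, f, hp, _, hcard⟩ := Cfsg.Agent.S0738.result hZ hab hd K hKle hKn hreg
    rw [hcard, Nat.add_sub_cancel]
    have hf : f ≠ 0 := by
      intro h
      rw [h, pow_zero] at hcard
      omega
    exact hp.isPrimePow.pow hf
  rcases Nat.even_or_odd (Nat.card ↥(MulAction.stabilizer G a ⊓ MulAction.stabilizer G b)) with
    heven | hodd
  · exact key (Cfsg.Agent.S0741.result hZ hab heven)
  · have hh : Fintype.card Ω = (Fintype.card Ω - 1) + 1 := by omega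
    rcases Cfsg.Agent.S0885.result hZ hab (Fintype.card Ω - 1) _ hh rfl hodd K hKle hKcard hfix with
      h | ⟨h2, _, _⟩
    · apply key
      omega
    · obtain ⟨m, hm⟩ := h2.exists_card_eq
      have hm0 : m ≠ 0 := by
        intro h
        rw [h, pow_zero] at hm
        omega
      have : Fintype.card Ω - 1 = 2 ^ m := by omega
      rw [this]
      exact Nat.prime_two.isPrimePow.pow hm0

end Cfsg.Agent.S0346
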