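import Cfsg.Statements.S0684
import Mathlib

set_option autoImplicit false
set_option linter.unusedVariables false
set_option linter.style.haveILetI false
set_option linter.deprecated false
open Cfsg

namespace Cfsg.Agent.S0684

section
variable {p : ℕ} [Fact p.Prime] {V : Type*} [AddCommGroup V] [Module (ZMod p) V]
  (H : Subgroup (V ≃ₗ[ZMod p] V))

/-- Invariance of a submodule under a subgroup. -/
def Inv (A : Subgroup H) (W : Submodule (ZMod p) V) : Prop :=
  ∀ a ∈ A, ∀ v ∈ W, ((a : H) : V ≃ₗ[ZMod p] V) v ∈ W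

variable {H}

theorem exists_minimal [Finite V] (A : Subgroup H) :
    ∀ (n : ℕ) (W0 : Submodule (ZMod p) V), Module.finrank (ZMod p) W0 = n → Inv H A W0 → W0 ≠ ⊥ →
    ∃ W : Submodule (ZMod p) V, W ≤ W0 ∧ W ≠ ⊥ ∧ Inv H A W ∧
      ∀ W' : Submodule (ZMod p) V, W' ≤ W → Inv H A W' → W' = ⊥ ∨ W' = W := by
  intro n
  induction n using Nat.strong_induction_on with
  | _ n ih =>
    intro W0 hn hinv hne
    by_cases hmin : ∀ W' : Submodule (ZMod p) V, W' ≤ W0 → Inv H A W' → W' = ⊥ ∨ W' = W0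
    · exact ⟨W0, le_refl _, hne, hinv, hmin⟩
    · push Not at hmin
      obtain ⟨W', hle, hinv', hne', hne0⟩ := hmin
      have hlt : W' < W0 := lt_of_le_of_ne hle hne0
      have hfr : Module.finrank (ZMod p) W' < n := by
        rw [← hn]
        exact Submodule.finrank_lt_finrank_of_lt hlt
      obtain ⟨W, h1, h2, h3, h4⟩ := ih _ hfr W' rfl hinv' hne'
      exact ⟨W, h1.trans hle, h2, h3, h4⟩

/-- The restriction homomorphism. -/
def rho (A : Subgroup H) (W : Submodule (ZMod p) V) (hW : Inv H A W) :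
    A →* Module.End (ZMod p) W where
  toFun a := (((a : H) : V ≃ₗ[ZMod p] V) : V →ₗ[ZMod p] V).restrict
    (fun v hv => hW a a.2 v hv)
  map_one' := by
    ext w
    simp
  map_mul' a b := by
    ext w
    simp

theorem rho_apply (A : Subgroup H) (W : Submodule (ZMod p) V) (hW : Inv H A W) (a : A) (w : W) :
    ((rho A W hW a) w : V) = ((a : H) : V ≃ₗ[ZMod p] V) (w : V) := rfl

theorem eq_of_apply_eq
    (hreg : ∀ v w : V, v ≠ 0 → w ≠ 0 → ∃! h : H, (h : V ≃ₗ[ZMod p] V) v = w)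
    (h1 h2 : H) (v : V) (hv : v ≠ 0)
    (h : (h1 : V ≃ₗ[ZMod p] V) v = (h2 : V ≃ₗ[ZMod p] V) v) : h1 = h2 := by
  have hne : (h2 : V ≃ₗ[ZMod p] V) v ≠ 0 := by
    intro h0
    apply hv
    have := (h2 : V ≃ₗ[ZMod p] V).injective (h0.trans (map_zero _).symm)
    exact this
  obtain ⟨h0, _, huniq⟩ := hreg v ((h2 : V ≃ₗ[ZMod p] V) v) hv hne
  rw [huniq h1 h, huniq h2 rfl]

theorem cyclic_of_minimal [Finite V]
    (hreg : ∀ v w : V, v ≠ 0 → w ≠ 0 → ∃! h : H, (h : V ≃ₗ[ZMod p] V) v = w)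
    (A : Subgroup H) (hAc : IsMulCommutative A) (W : Submodule (ZMod p) V) (hW : Inv H A W)
    (hne : W ≠ ⊥)
    (hmin : ∀ W' : Submodule (ZMod p) V, W' ≤ W → Inv H A W' → W' = ⊥ ∨ W' = W) :
    IsCyclic A := by
  classical
  have hfinE : Finite (V ≃ₗ[ZMod p] V) :=
    Finite.of_injective (fun e => (e : V → V)) DFunLike.coe_injective
  set ρ := rho A W hW with hρ
  set S : Set (Module.End (ZMod p) W) := Set.range ρ with hS
  have hcomm : ∀ x ∈ S, ∀ y ∈ S, x * y = y * x := by
    rintro _ ⟨a, rfl⟩ _ ⟨b, rfl⟩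
    rw [← map_mul, ← map_mul, hAc.is_comm.comm a b]
  letI : CommRing (Algebra.adjoin (ZMod p) S) := Algebra.adjoinCommRingOfComm (ZMod p) hcomm
  have hRc : ∀ (x : Algebra.adjoin (ZMod p) S) (a : A),
      (x : Module.End (ZMod p) W) * ρ a = ρ a * (x : Module.End (ZMod p) W) := by
    intro x a
    have := mul_comm x ⟨ρ a, Algebra.subset_adjoin ⟨a, rfl⟩⟩
    exact congrArg Subtype.val this
  obtain ⟨w0, hw0W, hw0⟩ := (Submodule.ne_bot_iff W).mp hne
  have hnzd : NoZeroDivisors (Algebra.adjoin (ZMod p) S) := by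
    constructor
    intro x y hxy
    by_contra hcon
    push Not at hcon
    obtain ⟨hx, hy⟩ := hcon
    have hxr : ∀ w : W, ∃ w' : W, (x : Module.End (ZMod p) W) w' = w := by
      set W' := (LinearMap.range (x : Module.End (ZMod p) W)).map W.subtype with hW'
      have hW'le : W' ≤ W := Submodule.map_subtype_le W _
      have hW'inv : Inv H A W' := by
        intro a ha v hv
        obtain ⟨u, ⟨u', rfl⟩, rfl⟩ := hv
        refine ⟨(x : Module.End (ZMod p) W) (ρ ⟨a, ha⟩ u'), ⟨_, rfl⟩, ?_⟩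
        have := congrArg (fun f : Module.End (ZMod p) W => (f u' : V)) (hRc x ⟨a, ha⟩)
        simpa [Module.End.mul_apply, hρ, rho_apply] using this
      rcases hmin W' hW'le hW'inv with h | h
      · exfalso
        apply hx
        apply Subtype.ext
        apply LinearMap.ext
        intro u
        have hmem : ((x : Module.End (ZMod p) W) u : V) ∈ W' :=
          ⟨(x : Module.End (ZMod p) W) u, ⟨u, rfl⟩, rfl⟩
        rw [h, Submodule.mem_bot] at hmem
        apply Subtype.ext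
        simpa using hmem
      · intro w
        have hmem : (w : V) ∈ W' := by rw [h]; exact w.2
        obtain ⟨u, ⟨u', rfl⟩, hu⟩ := hmem
        exact ⟨u', Subtype.ext hu⟩
    apply hy
    apply Subtype.ext
    apply LinearMap.ext
    intro w
    obtain ⟨w', rfl⟩ := hxr w
    have h1 : y * x = 0 := by rw [mul_comm]; exact hxy
    have := congrArg (fun f : Algebra.adjoin (ZMod p) S => (f : Module.End (ZMod p) W) w') h1
    simpa using this
  have hnt : Nontrivial (Algebra.adjoin (ZMod p) S) := by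
    refine ⟨⟨0, 1, fun h => ?_⟩⟩
    have := congrArg (fun f : Algebra.adjoin (ZMod p) S =>
      ((f : Module.End (ZMod p) W) ⟨w0, hw0W⟩ : V)) h
    simp at this
    exact hw0 this.symm
  have hdom : IsDomain (Algebra.adjoin (ZMod p) S) := NoZeroDivisors.to_isDomain _
  let f : A →* (Algebra.adjoin (ZMod p) S) :=
    { toFun := fun a => ⟨ρ a, Algebra.subset_adjoin ⟨a, rfl⟩⟩
      map_one' := Subtype.ext (map_one ρ)
      map_mul' := fun a b => Subtype.ext (map_mul ρ a b) }
  have hinj : Function.Injective f := by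
    intro a b hab
    have h1 : ρ a = ρ b := congrArg Subtype.val hab
    have h2 := congrArg (fun g : Module.End (ZMod p) W => (g ⟨w0, hw0W⟩ : V)) h1
    simp only [hρ, rho_apply] at h2
    exact Subtype.ext (eq_of_apply_eq hreg _ _ w0 hw0 h2)
  exact isCyclic_of_injective_ringHom f hinj

theorem card_dvd [Finite V]
    (hreg : ∀ v w : V, v ≠ 0 → w ≠ 0 → ∃! h : H, (h : V ≃ₗ[ZMod p] V) v = w)
    (A : Subgroup H) (W : Submodule (ZMod p) V) (hW : Inv H A W) :
    Nat.card A ∣ p ^ Module.finrank (ZMod p) W - 1 := by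
  classical
  have hfinE : Finite (V ≃ₗ[ZMod p] V) :=
    Finite.of_injective (fun e => (e : V → V)) DFunLike.coe_injective
  have hinjρ : ∀ (a : A) (w : W), rho A W hW a w = 0 → w = 0 := by
    intro a w h
    have h1 : ((a : H) : V ≃ₗ[ZMod p] V) (w : V) = 0 := by
      rw [← rho_apply A W hW a w, h]; rfl
    apply Subtype.ext
    exact ((a : H) : V ≃ₗ[ZMod p] V).injective (h1.trans (map_zero _).symm)
  letI act : MulAction A {w : W // w ≠ 0} :=
    { smul := fun a w => ⟨rho A W hW a w.1, fun h => w.2 (hinjρ a w.1 h)⟩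
      one_smul := by
        intro w
        apply Subtype.ext
        change rho A W hW 1 w.1 = w.1
        rw [map_one]; rfl
      mul_smul := by
        intro a b w
        apply Subtype.ext
        change rho A W hW (a * b) w.1 = rho A W hW a (rho A W hW b w.1)
        rw [map_mul]; rfl }
  have hstab : ∀ w : {w : W // w ≠ 0}, MulAction.stabilizer A w = ⊥ := by
    intro w
    rw [Subgroup.eq_bot_iff_forall]
    intro a ha
    rw [MulAction.mem_stabilizer_iff] at ha
    have h1 : (rho A W hW a w.1 : V) = (w.1 : V) := by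
      have := congrArg (fun u : {w : W // w ≠ 0} => ((u.1 : W) : V)) ha
      exact this
    rw [rho_apply] at h1
    have hwne : ((w.1 : W) : V) ≠ 0 := fun h => w.2 (Subtype.ext h)
    have h2 : (a : H) = 1 := eq_of_apply_eq hreg _ _ _ hwne (by simpa using h1)
    exact Subtype.ext h2
  have := Fintype.ofFinite A
  have := Fintype.ofFinite W
  have hclass := MulAction.card_eq_sum_card_group_div_card_stabilizer A {w : W // w ≠ 0}
  have hterm : ∀ ω : Quotient (MulAction.orbitRel A {w : W // w ≠ 0}),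
      Fintype.card A / Fintype.card (MulAction.stabilizer A ω.out) = Fintype.card A := by
    intro ω
    have : Fintype.card (MulAction.stabilizer A ω.out) = 1 := by
      rw [Fintype.card_eq_one_iff]
      refine ⟨1, fun y => ?_⟩
      have hy : (y : A) ∈ (⊥ : Subgroup A) := by
        rw [← hstab ω.out]; exact y.2
      exact Subtype.ext (Subgroup.mem_bot.mp hy)
    rw [this, Nat.div_one]
  rw [Finset.sum_congr rfl (fun ω _ => hterm ω), Finset.sum_const, smul_eq_mul] at hclass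
  have hX : Fintype.card {w : W // w ≠ 0} = p ^ Module.finrank (ZMod p) W - 1 := by
    rw [Fintype.card_subtype_compl, Fintype.card_subtype_eq,
      Module.card_eq_pow_finrank (K := ZMod p) (V := W), ZMod.card]
  rw [Nat.card_eq_fintype_card, ← hX, hclass]
  exact Dvd.intro_left _ rfl

end

theorem result {p : ℕ} [Fact p.Prime] {V : Type*} [AddCommGroup V] [Module (ZMod p) V] [Finite V] (H : Subgroup (V ≃ₗ[ZMod p] V)) (hreg : ∀ v w : V, v ≠ 0 → w ≠ 0 → ∃! h : H, (h : V ≃ₗ[ZMod p] V) v = w) (hI : ∀ A : Subgroup H, A.Normal → IsCyclic A → ∃ W : Submodule (ZMod p) V, W ≠ ⊥ ∧ W ≠ ⊤ ∧ ∀ a ∈ A, ∀ v ∈ W, ((a : H) : V ≃ₗ[ZMod p] V) v ∈ W) (A : Subgroup H) (hAn : A.Normal) (hAc : IsMulCommutative A) (hAmax : ∀ B : Subgroup H, B.Normal → IsMulCommutative B → A ≤ B → B = A) : IsCyclic A ∧ ∃ W : Submodule (ZMod p) V, W ≠ ⊥ ∧ W ≠ ⊤ ∧ (∀ a ∈ A, ∀ v ∈ W, ((a : H) : V ≃ₗ[ZMod p] V) v ∈ W) ∧ (∀ W' : Submodule (ZMod p) V, W' ≤ W → (∀ a ∈ A, ∀ v ∈ W', ((a : H) : V ≃ₗ[ZMod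 p] V) v ∈ W') → W' = ⊥ ∨ W' = W) ∧ Nat.card A ∣ p ^ Module.finrank (ZMod p) W - 1 := by
  -- V is nontrivial
  obtain ⟨Wb, hWb1, hWb2, _⟩ := hI ⊥ inferInstance inferInstance
  have htop : (⊤ : Submodule (ZMod p) V) ≠ ⊥ := by
    intro h
    apply hWb1
    rw [eq_bot_iff, ← h]
    exact le_top
  have hinvtop : Inv H A ⊤ := fun a _ v _ => Submodule.mem_top
  obtain ⟨W1, _, hW1ne, hW1inv, hW1min⟩ := exists_minimal A _ ⊤ rfl hinvtop htop
  have hcyc : IsCyclic A := cyclic_of_minimal hreg A hAc W1 hW1inv hW1ne hW1min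
  obtain ⟨W0, hW0ne, hW0top, hW0inv⟩ := hI A hAn hcyc
  obtain ⟨W, hWle, hWne, hWinv, hWmin⟩ := exists_minimal A _ W0 rfl hW0inv hW0ne
  refine ⟨hcyc, W, hWne, ?_, hWinv, hWmin, card_dvd hreg A W hWinv⟩
  intro h
  apply hW0top
  rw [eq_top_iff, ← h]
  exact hWle

end Cfsg.Agent.S0684
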