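import Cfsg.Statements.S0685
import Cfsg.Agent.S0684

set_option autoImplicit false
open Cfsg

namespace Cfsg.Agent.S0685

section
variable {p : ℕ} [Fact p.Prime] {V : Type*} [AddCommGroup V] [Module (ZMod p) V] [Finite V]

/-- the order of a linear group regular on the non-zero vectors -/
theorem card_of_regular (H : Subgroup (V ≃ₗ[ZMod p] V))
    (hreg : ∀ v w : V, v ≠ 0 → w ≠ 0 → ∃! h : H, (h : V ≃ₗ[ZMod p] V) v = w) (v₀ : V)
    (hv₀ : v₀ ≠ 0) : Nat.card H + 1 = p ^ Module.finrank (ZMod p) V := by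
  have h1 : Nat.card V = p ^ Module.finrank (ZMod p) V := by
    rw [Module.natCard_eq_pow_finrank (K := ZMod p) (V := V), Nat.card_zmod]
  rw [← h1]
  let φ : H → {v : V // v ≠ 0} := fun h => ⟨(h : V ≃ₗ[ZMod p] V) v₀, by
    intro h0
    apply hv₀
    have := (h : V ≃ₗ[ZMod p] V).injective (h0.trans (map_zero _).symm)
    exact this⟩
  have hbij : Function.Bijective φ := by
    constructor
    · intro h h' hh
      have h2 : (h : V ≃ₗ[ZMod p] V) v₀ = (h' : V ≃ₗ[ZMod p] V) v₀ := congrArg Subtype.val hh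
      obtain ⟨k, _, hk⟩ := hreg v₀ ((h' : V ≃ₗ[ZMod p] V) v₀) hv₀ (φ h').2
      rw [hk h h2, hk h' rfl]
    · rintro ⟨w, hw⟩
      obtain ⟨k, hk, _⟩ := hreg v₀ w hv₀ hw
      exact ⟨k, Subtype.ext hk⟩
  rw [Nat.card_congr (Equiv.ofBijective φ hbij)]
  have h2 : Nat.card {v : V // v ≠ 0} + 1 = Nat.card V := by
    have := Fintype.ofFinite V
    classical
    rw [Nat.card_eq_fintype_card, Nat.card_eq_fintype_card, Fintype.card_subtype_compl,
      Fintype.card_subtype_eq]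
    have : 0 < Fintype.card V := Fintype.card_pos
    omega
  exact h2

/-- a proper non-zero minimal invariant subspace of a normal subgroup has at most half the
dimension -/
theorem two_mul_finrank_le (H : Subgroup (V ≃ₗ[ZMod p] V))
    (hreg : ∀ v w : V, v ≠ 0 → w ≠ 0 → ∃! h : H, (h : V ≃ₗ[ZMod p] V) v = w)
    (A : Subgroup H) (hAn : A.Normal) (W : Submodule (ZMod p) V) (hW0 : W ≠ ⊥) (hW1 : W ≠ ⊤)
    (hinv : ∀ a ∈ A, ∀ v ∈ W, ((a : H) : V ≃ₗ[ZMod p] V) v ∈ W)
    (hmin : ∀ W' : Submodule (ZMod p) V, W' ≤ W →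
      (∀ a ∈ A, ∀ v ∈ W', ((a : H) : V ≃ₗ[ZMod p] V) v ∈ W') → W' = ⊥ ∨ W' = W) :
    2 * Module.finrank (ZMod p) W ≤ Module.finrank (ZMod p) V := by
  obtain ⟨w, hwW, hw0⟩ := Submodule.exists_mem_ne_zero_of_ne_bot hW0
  have hv : ∃ v : V, v ∉ W := by
    by_contra hcon
    simp only [not_exists, not_not] at hcon
    exact hW1 ((Submodule.eq_top_iff').2 hcon)
  obtain ⟨v, hvW⟩ := hv
  have hv0 : v ≠ 0 := by
    intro h
    rw [h] at hvW
    exact hvW W.zero_mem
  obtain ⟨g, hg, _⟩ := hreg w v hw0 hv0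
  let W' : Submodule (ZMod p) V := W.map ((g : V ≃ₗ[ZMod p] V) : V →ₗ[ZMod p] V)
  have hfin : Module.finrank (ZMod p) W' = Module.finrank (ZMod p) W :=
    LinearEquiv.finrank_map_eq (g : V ≃ₗ[ZMod p] V) W
  have hinv' : ∀ a ∈ A, ∀ u ∈ W', ((a : H) : V ≃ₗ[ZMod p] V) u ∈ W' := by
    intro a ha u hu
    obtain ⟨u₀, hu₀, rfl⟩ := Submodule.mem_map.1 hu
    have hconj : g⁻¹ * a * g ∈ A := by
      have := hAn.conj_mem a ha g⁻¹
      rwa [inv_inv] at this
    refine Submodule.mem_map.2 ⟨((g⁻¹ * a * g : H) : V ≃ₗ[ZMod p] V) u₀, hinv _ hconj u₀ hu₀, ?_⟩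
    show (g : V ≃ₗ[ZMod p] V) (((g⁻¹ * a * g : H) : V ≃ₗ[ZMod p] V) u₀) =
      (a : V ≃ₗ[ZMod p] V) ((g : V ≃ₗ[ZMod p] V) u₀)
    have h1 : ((g * (g⁻¹ * a * g) : H) : V ≃ₗ[ZMod p] V) u₀ = ((a * g : H) : V ≃ₗ[ZMod p] V) u₀ := by
      have : g * (g⁻¹ * a * g) = a * g := by group
      rw [this]
    exact h1
  have hinf : ∀ a ∈ A, ∀ u ∈ W ⊓ W', ((a : H) : V ≃ₗ[ZMod p] V) u ∈ W ⊓ W' := by
    intro a ha u hu
    exact ⟨hinv a ha u hu.1, hinv' a ha u hu.2⟩
  rcases hmin (W ⊓ W') inf_le_left hinf with h | h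
  · have h1 := Submodule.finrank_sup_add_finrank_inf_eq W W'
    rw [h, finrank_bot, add_zero, hfin] at h1
    have h2 : Module.finrank (ZMod p) (W ⊔ W' : Submodule (ZMod p) V) ≤
        Module.finrank (ZMod p) V := Submodule.finrank_le _
    omega
  · exfalso
    have hle : W ≤ W' := by
      rw [← h]
      exact inf_le_right
    have heq : W = W' := Submodule.eq_of_le_of_finrank_eq hle hfin.symm
    apply hvW
    rw [heq]
    exact Submodule.mem_map.2 ⟨w, hwW, hg⟩

theorem arith (P a i h : ℕ) (hP : 2 ≤ P) (ha : a ≤ P - 1) (hi : i ≤ a) (hh : h = i * a)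
    (hd : P * P ≤ h + 1) : False := by
  obtain ⟨Q, rfl⟩ : ∃ Q, P = Q + 1 := ⟨P - 1, by omega⟩
  have ha' : a ≤ Q := by omega
  have h1 : i * a ≤ Q * Q := Nat.mul_le_mul (le_trans hi ha') ha'
  nlinarith

end

/-- In a linear group over the prime field that is regular on non-zero vectors and has no irreducible cyclic normal subgroup, a maximal normal abelian subgroup is properly contained in its centraliser, which is non-abelian. -/
theorem result {p : ℕ} [Fact p.Prime] {V : Type*} [AddCommGroup V] [Module (ZMod p) V] [Finite V] (H : Subgroup (V ≃ₗ[ZMod p] V)) (hreg : ∀ v w : V, v ≠ 0 → w ≠ 0 → ∃! h : H, (h : V ≃ₗ[ZMod p] V) v = w) (hI : ∀ A : Subgroup H, A.Normal → IsCyclic A → ∃ W : Submodule (ZMod p) V, W ≠ ⊥ ∧ W ≠ ⊤ ∧ ∀ a ∈ A, ∀ v ∈ W, ((a : H) : V ≃ₗ[ZMod p] V) v ∈ W) (A : Subgroup H) (hAn : A.Normal) (hAc : IsMulCommutative A) (hAmax : ∀ B : Subgroup H, B.Normal → IsMulCommutative B → A ≤ B → B = A) : A < Subgroup.centralizer (A : Set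 H) ∧ ¬ IsMulCommutative (Subgroup.centralizer (A : Set H)) := by
  have hp : p.Prime := Fact.out
  have hfinGL : Finite (V ≃ₗ[ZMod p] V) :=
    Finite.of_injective (fun f => (f : V → V)) DFunLike.coe_injective
  have hAle : A ≤ Subgroup.centralizer (A : Set H) := by
    intro x hx
    rw [Subgroup.mem_centralizer_iff]
    intro y hy
    have h1 := hAc.is_comm.comm (⟨y, hy⟩ : A) ⟨x, hx⟩
    exact congrArg Subtype.val h1
  have hlt : A < Subgroup.centralizer (A : Set H) := by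
    rw [lt_iff_le_and_ne]
    refine ⟨hAle, ?_⟩
    intro heq
    obtain ⟨hcyc, W, hW0, hW1, hinv, hmin, hdvd⟩ :=
      Cfsg.Agent.S0684.result H hreg hI A hAn hAc hAmax
    obtain ⟨w, hwW, hw0⟩ := Submodule.exists_mem_ne_zero_of_ne_bot hW0
    have hcardH := card_of_regular H hreg w hw0
    have h2k := two_mul_finrank_le H hreg A hAn W hW0 hW1 hinv hmin
    have hk1 : 1 ≤ Module.finrank (ZMod p) W := by
      rw [Nat.one_le_iff_ne_zero, Ne, Submodule.finrank_eq_zero]
      exact hW0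
    -- the index of `A` divides the number of automorphisms
    have key := Subgroup.card_dvd_of_injective _
      (QuotientGroup.kerLift_injective A.normalizerMonoidHom)
    rw [Subgroup.normalizerMonoidHom_ker, ← Subgroup.index, ← Subgroup.relIndex,
      Subgroup.normalizer_eq_top, Subgroup.relIndex_top_right, ← heq,
      IsCyclic.card_mulAut] at key
    have hapos : 0 < Nat.card A := Nat.card_pos
    have hidx_le : A.index ≤ Nat.card A :=
      le_trans (Nat.le_of_dvd (Nat.totient_pos.2 hapos) key) (Nat.totient_le _)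
    have hmul := Subgroup.index_mul_card A
    have hP2 : 2 ≤ p ^ Module.finrank (ZMod p) W := by
      calc 2 ≤ p := hp.two_le
        _ = p ^ 1 := (pow_one p).symm
        _ ≤ p ^ Module.finrank (ZMod p) W := Nat.pow_le_pow_right hp.pos hk1
    have ha_le : Nat.card A ≤ p ^ Module.finrank (ZMod p) W - 1 :=
      Nat.le_of_dvd (by omega) hdvd
    have hpow : p ^ Module.finrank (ZMod p) W * p ^ Module.finrank (ZMod p) W ≤
        p ^ Module.finrank (ZMod p) V := by
      rw [← pow_add, ← two_mul]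
      exact Nat.pow_le_pow_right hp.pos h2k
    rw [← hcardH] at hpow
    exact arith _ _ _ _ hP2 ha_le hidx_le hmul.symm hpow
  refine ⟨hlt, ?_⟩
  intro hcomm
  have h1 := hAmax (Subgroup.centralizer (A : Set H)) inferInstance hcomm hAle
  exact absurd h1 (ne_of_gt hlt)

end Cfsg.Agent.S0685
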