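import Cfsg.Statements.S0068
import Mathlib.GroupTheory.Perm.Cycle.Type

set_option autoImplicit false
open Cfsg

namespace Cfsg.Agent.S0068

theorem inverts {G : Type*} [Group G] [Finite G] (K : Subgroup G) [K.Normal]
    (t : G) (ht2 : t * t = 1) (hfpf : K ⊓ Subgroup.centralizer {t} = ⊥) :
    ∀ k ∈ K, t * k * t⁻¹ = k⁻¹ := by
  have htinv : t⁻¹ = t := inv_eq_of_mul_eq_one_left ht2
  let f : K → K := fun k => ⟨(k : G)⁻¹ * (t * k * t⁻¹),
    K.mul_mem (K.inv_mem k.2) (Subgroup.Normal.conj_mem inferInstance _ k.2 t)⟩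
  have hinj : Function.Injective f := by
    intro k l hkl
    have h1 : (k : G)⁻¹ * (t * k * t⁻¹) = (l : G)⁻¹ * (t * l * t⁻¹) := congrArg Subtype.val hkl
    have h2 : (l : G) * (k : G)⁻¹ ∈ K ⊓ Subgroup.centralizer {t} := by
      refine Subgroup.mem_inf.mpr ⟨K.mul_mem l.2 (K.inv_mem k.2), ?_⟩
      rw [Subgroup.mem_centralizer_singleton_iff]
      have h3 : (k : G)⁻¹ * t * k = (l : G)⁻¹ * t * l := by
        have := congrArg (· * t) h1
        simpa [mul_assoc] using this
      calc (l : G) * (k : G)⁻¹ * t = l * ((k : G)⁻¹ * t * k) * (k : G)⁻¹ := by group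
        _ = l * ((l : G)⁻¹ * t * l) * (k : G)⁻¹ := by rw [h3]
        _ = t * (l * (k : G)⁻¹) := by group
    rw [hfpf, Subgroup.mem_bot] at h2
    apply Subtype.ext
    have := mul_inv_eq_one.mp h2
    exact this.symm
  have hsurj : Function.Surjective f := Finite.surjective_of_injective hinj
  intro k hk
  obtain ⟨x, hx⟩ := hsurj ⟨k, hk⟩
  have hx' : (x : G)⁻¹ * (t * x * t⁻¹) = k := congrArg Subtype.val hx
  rw [← hx']
  rw [htinv]
  have e1 : t * ((x : G)⁻¹ * (t * x * t)) * t = (t * (x : G)⁻¹ * t) * x * (t * t) := by group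
  have e2 : ((x : G)⁻¹ * (t * x * t))⁻¹ = t⁻¹ * (x : G)⁻¹ * t⁻¹ * x := by group
  rw [e1, e2, ht2, htinv, mul_one]

/-- Frobenius complements of even order: if H complements a nontrivial normal subgroup K, each nonidentity element of H has trivial centraliser in K, and H has even order, then H contains a unique involution s, K is abelian, and s inverts every element of K. -/
theorem result {G : Type*} [Group G] [Finite G] (K H : Subgroup G) [K.Normal]
    (hc : Subgroup.IsComplement' K H) (hK : K ≠ ⊥) (hfpf : ∀ h ∈ H, h ≠ 1 → K ⊓ Subgroup.centralizer {h} = ⊥)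
    (heven : 2 ∣ Nat.card H) :
    (∃ s ∈ H, orderOf s = 2 ∧ (∀ t ∈ H, orderOf t = 2 → t = s) ∧ ∀ k ∈ K, s * k * s⁻¹ = k⁻¹) ∧ IsMulCommutative K := by
  haveI : Fact (Nat.Prime 2) := ⟨Nat.prime_two⟩
  obtain ⟨⟨s, hsH⟩, hs⟩ := exists_prime_orderOf_dvd_card' (G := H) 2 heven
  have hs2 : orderOf s = 2 := by
    rw [← hs, ← Subgroup.orderOf_coe]
  have key : ∀ t ∈ H, orderOf t = 2 → ∀ k ∈ K, t * k * t⁻¹ = k⁻¹ := by
    intro t htH ht2
    have ht1 : t ≠ 1 := by
      intro h; rw [h, orderOf_one] at ht2; omega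
    have htt : t * t = 1 := by
      have := pow_orderOf_eq_one t
      rw [ht2, pow_two] at this
      exact this
    exact inverts K t htt (hfpf t htH ht1)
  have hsinv := key s hsH hs2
  refine ⟨⟨s, hsH, hs2, ?_, hsinv⟩, ?_⟩
  · intro t htH ht2
    have htinv := key t htH ht2
    by_contra hne
    have hst : s⁻¹ * t ≠ 1 := by
      intro h
      apply hne
      have := inv_mul_eq_one.mp h
      exact this.symm
    have hbot := hfpf (s⁻¹ * t) (H.mul_mem (H.inv_mem hsH) htH) hst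
    apply hK
    rw [eq_bot_iff]
    intro k hk
    rw [← hbot]
    refine Subgroup.mem_inf.mpr ⟨hk, ?_⟩
    rw [Subgroup.mem_centralizer_singleton_iff]
    have h1 := hsinv k hk
    have h2 := htinv k hk
    have h3 : s * k * s⁻¹ = t * k * t⁻¹ := by rw [h1, h2]
    calc k * (s⁻¹ * t) = s⁻¹ * (s * k * s⁻¹) * t := by group
      _ = s⁻¹ * (t * k * t⁻¹) * t := by rw [h3]
      _ = s⁻¹ * t * k := by group
  · refine ⟨⟨fun a b => ?_⟩⟩
    apply Subtype.ext
    rw [Subgroup.coe_mul, Subgroup.coe_mul]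
    have ha := hsinv a a.2
    have hb := hsinv b b.2
    have hab := hsinv (a * b) (K.mul_mem a.2 b.2)
    have e : s * ((a : G) * b) * s⁻¹ = (s * a * s⁻¹) * (s * b * s⁻¹) := by group
    rw [e, ha, hb] at hab
    have : ((a : G)⁻¹ * (b : G)⁻¹)⁻¹ = (((a : G) * b)⁻¹)⁻¹ := by rw [hab]
    simpa using this.symm

end Cfsg.Agent.S0068
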