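import Cfsg.Statements.S1241
import Cfsg.Agent.Lib.Helper21.TransferPow

set_option autoImplicit false
open Cfsg
open scoped IsMulCommutative

namespace Cfsg.Agent.S1241

/-- Let G be a finite group, p a prime, H a subgroup of index prime to p, K a subgroup of H normal in H with H/K commutative, and g ∈ H ∖ K an element of p-power order such that for all integers m and all a ∈ G with a g^m a⁻¹ ∈ H one has a g^m a⁻¹ ∈ g^m K. Then g ∉ G'. -/
theorem result {G : Type*} [Group G] [Finite G] {p : ℕ} [Fact p.Prime] (H K : Subgroup G) (hHK : K ≤ H) (hKn : (K.subgroupOf H).Normal) (hab : ∀ x ∈ H, ∀ y ∈ H, x * y * x⁻¹ * y⁻¹ ∈ K) (hidx : Nat.Coprime p H.index) (g : G) (hgH : g ∈ H) (hgK : g ∉ K) (hgp : ∃ k : ℕ, orderOf g = p ^ k) (hctrl : ∀ (m : ℤ) (a : G), a * g ^ m * a⁻¹ ∈ H → (a * g ^ m * a⁻¹) * (g ^ m)⁻¹ ∈ K) : g ∉ commutator G := by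
  intro hgc
  have hcomm : IsMulCommutative (↥H ⧸ K.subgroupOf H) := by
    refine ⟨⟨fun a b => ?_⟩⟩
    obtain ⟨x, rfl⟩ := QuotientGroup.mk'_surjective _ a
    obtain ⟨y, rfl⟩ := QuotientGroup.mk'_surjective _ b
    rw [← map_mul, ← map_mul, QuotientGroup.mk'_apply, QuotientGroup.mk'_apply, QuotientGroup.eq,
      Subgroup.mem_subgroupOf]
    have := hab (y : G)⁻¹ (H.inv_mem y.2) (x : G)⁻¹ (H.inv_mem x.2)
    simp only [inv_inv] at this
    simpa [mul_assoc] using this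
  let ϕ : ↥H →* ↥H ⧸ K.subgroupOf H := QuotientGroup.mk' (K.subgroupOf H)
  have key : ∀ (k : ℕ) (g₀ : G) (hk : g₀⁻¹ * g ^ k * g₀ ∈ H),
      ϕ ⟨g₀⁻¹ * g ^ k * g₀, hk⟩ = ϕ ⟨g, hgH⟩ ^ k := by
    intro k g₀ hk
    have h1 := hctrl (k : ℤ) g₀⁻¹ (by simpa using hk)
    simp only [inv_inv, zpow_natCast] at h1
    have hgk : g ^ k ∈ H := H.pow_mem hgH k
    have h2 : ϕ ⟨g₀⁻¹ * g ^ k * g₀, hk⟩ * (ϕ ⟨g ^ k, hgk⟩)⁻¹ = 1 := by
      rw [← map_inv, ← map_mul, QuotientGroup.mk'_apply, QuotientGroup.eq_one_iff,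
        Subgroup.mem_subgroupOf]
      simpa using h1
    rw [mul_inv_eq_one] at h2
    rw [h2, ← map_pow]
    rfl
  have htr := Cfsg.Agent.Lib.Helper21.transfer_eq_pow_of_key ϕ g hgH key
  have hker : MonoidHom.transfer ϕ g = 1 :=
    MonoidHom.mem_ker.1 (Abelianization.commutator_subset_ker (MonoidHom.transfer ϕ) hgc)
  rw [hker] at htr
  -- order of ϕ g divides index and a power of p
  obtain ⟨k, hk⟩ := hgp
  have hd1 : orderOf (ϕ ⟨g, hgH⟩) ∣ H.index := orderOf_dvd_of_pow_eq_one htr.symm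
  have hd2 : orderOf (ϕ ⟨g, hgH⟩) ∣ p ^ k := by
    apply orderOf_dvd_of_pow_eq_one
    rw [← map_pow]
    have : (⟨g, hgH⟩ : H) ^ p ^ k = 1 := by
      apply Subtype.ext
      simp only [SubmonoidClass.coe_pow, Subgroup.coe_one]
      rw [← hk]; exact pow_orderOf_eq_one g
    rw [this, map_one]
  have hcop : Nat.Coprime (p ^ k) H.index := Nat.Coprime.pow_left k hidx
  have h1 : orderOf (ϕ ⟨g, hgH⟩) = 1 := Nat.eq_one_of_dvd_coprimes hcop hd2 hd1
  rw [orderOf_eq_one_iff, QuotientGroup.mk'_apply, QuotientGroup.eq_one_iff,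
    Subgroup.mem_subgroupOf] at h1
  exact hgK h1

end Cfsg.Agent.S1241
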