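import Cfsg.Statements.S1229
import Cfsg.Agent.Lib.Helper21.ElemInvCent4

set_option autoImplicit false
open Cfsg

namespace Cfsg.Agent.S1229

open Cfsg.Agent.Lib.Helper21 Subgroup in
/-- Let G be a finite group with a Sylow 2-subgroup T that is neither cyclic nor normal, such that the centralizer of every involution is an elementary abelian 2-group; put H = N_G(T) and X = G/H. Then G is triply transitive on X, an element fixing three distinct points of X is the identity, and T acts regularly on X minus the point H. -/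
theorem result {G : Type*} [Group G] [Finite G] (T : Sylow 2 G) (hnc : ¬ IsCyclic (T : Subgroup G)) (hnn : ¬ (T : Subgroup G).Normal) (hC : ∀ t : G, orderOf t = 2 → IsMulCommutative (Subgroup.centralizer ({t} : Set G)) ∧ ∀ c ∈ Subgroup.centralizer ({t} : Set G), c ^ 2 = 1) : (∀ x₁ x₂ x₃ y₁ y₂ y₃ : G ⧸ Subgroup.normalizer ((T : Subgroup G) : Set G), x₁ ≠ x₂ → x₁ ≠ x₃ → x₂ ≠ x₃ → y₁ ≠ y₂ → y₁ ≠ y₃ → y₂ ≠ y₃ → ∃ g : G, g • x₁ = y₁ ∧ g • x₂ = y₂ ∧ g • x₃ = y₃) ∧ (∀ g : G, ∀ x₁ x₂ x₃ : G ⧸ Subgroup.normalizer ((T : Subgroup G) : Set G), x₁ ≠ x₂ → x₁ ≠ x₃ → x₂ ≠ x₃ → g • x₁ = x₁ → g • x₂ = x₂ → g • x₃ = x₃ → g = 1) ∧ (∀ x y : G ⧸ Subgroup.normalizer ((T : Subgroup G) : Set G), x ≠ QuotientGroup.mk 1 → y ≠ QuotientGroup.mk 1 → ∃! t : G, t ∈ T ∧ t • x = y) := by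
  have hse := normalizer_stronglyEmbedded T hC hnc hnn
  obtain ⟨u, hu, huH⟩ := se_exists_invol_not_mem hse
  have hu1 : (QuotientGroup.mk u : G ⧸ eicH T) ≠ QuotientGroup.mk 1 := fun h =>
    huH (mk_eq_mk_one_iff.1 h)
  have htrans : ∀ x : G ⧸ eicH T, x ≠ QuotientGroup.mk 1 →
      ∃ s ∈ (T : Subgroup G), s • (QuotientGroup.mk u : G ⧸ eicH T) = x := by
    intro x hx
    induction x using QuotientGroup.induction_on with
    | H a => exact eic_T_transitive T hnc hnn hC hu huH hx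
  have hTfix : ∀ s ∈ (T : Subgroup G),
      s • (QuotientGroup.mk 1 : G ⧸ eicH T) = QuotientGroup.mk 1 := by
    intro s hs
    rw [smul_mk_eq_iff, inv_one, one_mul, mul_one]
    exact le_normalizer hs
  have hnf : ∀ x₁ x₂ x₃ : G ⧸ eicH T, x₁ ≠ x₂ → x₁ ≠ x₃ → x₂ ≠ x₃ →
      ∃ g : G, g • x₁ = QuotientGroup.mk 1 ∧ g • x₂ = QuotientGroup.mk u ∧
        ∃ t ∈ (T : Subgroup G), orderOf t = 2 ∧
          g • x₃ = t • (QuotientGroup.mk u : G ⧸ eicH T) := by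
    intro x₁ x₂ x₃ h12 h13 h23
    obtain ⟨k, rfl⟩ := QuotientGroup.mk_surjective x₁
    have h1 : k⁻¹ • (QuotientGroup.mk k : G ⧸ eicH T) = QuotientGroup.mk 1 := by
      rw [MulAction.Quotient.smul_mk, smul_eq_mul, inv_mul_cancel]
    have h2 : k⁻¹ • x₂ ≠ QuotientGroup.mk 1 := by
      rw [← h1]
      intro h
      exact h12 ((MulAction.injective k⁻¹) h).symm
    obtain ⟨s, hs, hs2⟩ := htrans _ h2
    have hg1 : (s⁻¹ * k⁻¹) • (QuotientGroup.mk k : G ⧸ eicH T) = QuotientGroup.mk 1 := by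
      rw [mul_smul, h1]
      exact hTfix _ (inv_mem hs)
    have hg2 : (s⁻¹ * k⁻¹) • x₂ = QuotientGroup.mk u := by
      rw [mul_smul, ← hs2, inv_smul_smul]
    have h3 : (s⁻¹ * k⁻¹) • x₃ ≠ QuotientGroup.mk 1 := by
      rw [← hg1]
      intro h
      exact h13 ((MulAction.injective _) h).symm
    obtain ⟨t, ht, ht3⟩ := htrans _ h3
    have ht1 : t ≠ 1 := by
      intro h
      rw [h, one_smul, ← hg2] at ht3
      exact h23 ((MulAction.injective _) ht3)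
    exact ⟨s⁻¹ * k⁻¹, hg1, hg2, t, ht, eic_orderOf_T T hnc hC ht ht1, ht3.symm⟩
  refine ⟨?_, ?_, ?_⟩
  · intro x₁ x₂ x₃ y₁ y₂ y₃ hx12 hx13 hx23 hy12 hy13 hy23
    obtain ⟨g, hg1, hg2, t, htT, ht2, hg3⟩ := hnf x₁ x₂ x₃ hx12 hx13 hx23
    obtain ⟨g', hg'1, hg'2, t', ht'T, ht'2, hg'3⟩ := hnf y₁ y₂ y₃ hy12 hy13 hy23
    obtain ⟨d, hd, hdt⟩ := eic_D_transitive T hnc hnn hC hu huH ht2 htT ht'2 ht'T
    obtain ⟨hd1, hdu⟩ := (eic_mem_D_iff T).1 hd
    refine ⟨g'⁻¹ * d * g, ?_, ?_, ?_⟩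
    · rw [mul_smul, mul_smul, hg1, hd1, ← hg'1, inv_smul_smul]
    · rw [mul_smul, mul_smul, hg2, hdu, ← hg'2, inv_smul_smul]
    · rw [mul_smul, mul_smul, hg3, ← mul_smul d t]
      have e : d * t = t' * d := by rw [← hdt]; group
      rw [e, mul_smul, hdu, ← hg'3, inv_smul_smul]
  · intro g x₁ x₂ x₃ h12 h13 h23 h1 h2 h3
    exact eic_three_fixed T hnc hnn hC h12 h13 h23 h1 h2 h3
  · intro x y hx hy
    obtain ⟨s, hs, hsx⟩ := htrans x hx
    obtain ⟨s', hs', hsy⟩ := htrans y hy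
    refine ⟨s' * s⁻¹, ⟨mul_mem hs' (inv_mem hs), ?_⟩, ?_⟩
    · rw [← hsx, mul_smul, inv_smul_smul, hsy]
    · rintro t ⟨htT, htx⟩
      have hfix : ((s' * s⁻¹)⁻¹ * t) • x = x := by
        rw [mul_smul, htx, ← hsy, ← hsx, mul_inv_rev, inv_inv, mul_smul, inv_smul_smul]
      have h1 := eic_T_free T hnc hnn hC
        (mul_mem (inv_mem (mul_mem hs' (inv_mem hs))) htT) hx hfix
      exact (inv_mul_eq_one.1 h1).symm

end Cfsg.Agent.S1229
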