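import Cfsg.Statements.S1230
import Cfsg.Agent.Lib.Helper21.ElemInvCent6
import Cfsg.Agent.S1229

set_option autoImplicit false
open Cfsg

namespace Cfsg.Agent.S1230

open Cfsg.Agent.Lib.Helper21 Subgroup in
/-- Let G be a finite group with a Sylow 2-subgroup T that is neither cyclic nor normal, such that the centralizer of every involution is an elementary abelian 2-group. Then G ≅ PSL(2,F) for a finite field F with |F| = |T|. -/
theorem result {G : Type*} [Group G] [Finite G] (T : Sylow 2 G) (hnc : ¬ IsCyclic (T : Subgroup G)) (hnn : ¬ (T : Subgroup G).Normal) (hC : ∀ t : G, orderOf t = 2 → IsMulCommutative (Subgroup.centralizer ({t} : Set G)) ∧ ∀ c ∈ Subgroup.centralizer ({t} : Set G), c ^ 2 = 1) : ∃ (F : Type) (_ : Field F) (_ : Fintype F), Fintype.card F = Nat.card T ∧ Nonempty (G ≃* Matrix.ProjectiveSpecialLinearGroup (Fin 2) F) := by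
  have hse := normalizer_stronglyEmbedded T hC hnc hnn
  obtain ⟨u, hu, huH⟩ := se_exists_invol_not_mem hse
  obtain ⟨F, hF, hFt, hdec, hcard, ι, hadd, hD, htr⟩ := eic_exists_field T hnc hnn hC hu huH
  refine ⟨F, hF, hFt, hcard, ?_⟩
  have h2 := coord_two_eq_zero T hnc hC ι hadd
  have hu1 : (QuotientGroup.mk u : G ⧸ eicH T) ≠ QuotientGroup.mk 1 := fun h =>
    huH (mk_eq_mk_one_iff.1 h)
  -- faithfulness
  have hfaith : ∀ g : G, (∀ x : G ⧸ eicH T, g • x = x) → g = 1 := by
    intro g hg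
    obtain ⟨s, hs, hsT, -⟩ := exists_central_invol T (eic_T_ne_bot T hnc)
    have hs1 : s ≠ 1 := by
      intro h
      rw [h, orderOf_one] at hs
      norm_num at hs
    have h13 : (QuotientGroup.mk 1 : G ⧸ eicH T) ≠ s • (QuotientGroup.mk u : G ⧸ eicH T) := by
      intro h
      apply hu1
      have := congrArg (fun x => s⁻¹ • x) h
      simp only [inv_smul_smul] at this
      rw [← this]
      exact eic_T_fix T (inv_mem hsT)
    have h23 : (QuotientGroup.mk u : G ⧸ eicH T) ≠ s • (QuotientGroup.mk u : G ⧸ eicH T) :=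
      fun h => hs1 (eic_T_free T hnc hnn hC hsT hu1 h.symm)
    exact eic_three_fixed T hnc hnn hC hu1.symm h13 h23 (hg _) (hg _) (hg _)
  obtain ⟨e1⟩ := sl2_recognize h2 (coordEquiv T hnc hnn hC hu huH ι)
    (coord_exists_rep T hnc hnn hC hu huH ι hadd hD htr) hfaith
    (Cfsg.Agent.S1229.result T hnc hnn hC).1
  obtain ⟨e2⟩ := sl_equiv_psl (K := F) h2
  exact ⟨e1.trans e2⟩

end Cfsg.Agent.S1230
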