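import Cfsg.Statements.S1163
import Cfsg.Agent.Lib.Helper60.SzLieBridge
import Cfsg.Agent.Lib.Helper6.SzSylow

set_option autoImplicit false
open Cfsg

namespace Cfsg.Agent.S1163


open Cfsg.Agent.Lib.Helper6.Sz Cfsg.Agent.Lib.Helper60.SzLie

/-- transfer along the orbit map `X ⧸ stabilizer a → Ω`. -/
theorem key_aux {X Ω : Type*} [Group X] [MulAction X Ω] (a : Ω) (U : Subgroup X)
    (h2t : ∀ {p q p' q' : Ω}, p ≠ q → p' ≠ q' → ∃ g : X, g • p = p' ∧ g • q = q')
    (hUreg : ∀ p q : Ω, p ≠ a → q ≠ a → ∃! u : U, (u : X) • p = q)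
    (N : Subgroup X) (hN : N = MulAction.stabilizer X a) :
    N.index = Nat.card Ω ∧ MulAction.IsMultiplyPretransitive X (X ⧸ N) 2 ∧
      ∀ x y : X ⧸ N, x ≠ QuotientGroup.mk 1 → y ≠ QuotientGroup.mk 1 →
        ∃! s : U, (s : X) • x = y := by
  subst hN
  have htr : MulAction.IsPretransitive X Ω := by
    constructor
    intro p q
    by_cases hpq : p = q
    · exact ⟨1, by rw [one_smul, hpq]⟩
    · obtain ⟨g, hg, _⟩ := h2t hpq (Ne.symm hpq)
      exact ⟨g, hg⟩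
  have finj := MulAction.injective_ofQuotientStabilizer X a
  have fsmul : ∀ (g : X) (x : X ⧸ MulAction.stabilizer X a),
      MulAction.ofQuotientStabilizer X a (g • x) = g • MulAction.ofQuotientStabilizer X a x :=
    MulAction.ofQuotientStabilizer_smul X a
  have f1 : MulAction.ofQuotientStabilizer X a (QuotientGroup.mk 1) = a := by
    rw [MulAction.ofQuotientStabilizer_mk, one_smul]
  refine ⟨MulAction.index_stabilizer_of_transitive X a, ?_, ?_⟩
  · rw [MulAction.is_two_pretransitive_iff]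
    intro x y x' y' hxy hxy'
    obtain ⟨g, h1, h2⟩ := h2t (fun h => hxy (finj h)) (fun h => hxy' (finj h))
    exact ⟨g, finj (by rw [fsmul, h1]), finj (by rw [fsmul, h2])⟩
  · intro x y hx hy
    have hx' : MulAction.ofQuotientStabilizer X a x ≠ a := fun h => hx (finj (h.trans f1.symm))
    have hy' : MulAction.ofQuotientStabilizer X a y ≠ a := fun h => hy (finj (h.trans f1.symm))
    obtain ⟨u, hu, huniq⟩ := hUreg _ _ hx' hy'
    have hu' : (u : X) • MulAction.ofQuotientStabilizer X a x =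
        MulAction.ofQuotientStabilizer X a y := hu
    refine ⟨u, finj (by rw [fsmul, hu']), fun u' hu'' => huniq u' ?_⟩
    have hu3 : (u' : X) • x = y := hu''
    show (u' : X) • MulAction.ofQuotientStabilizer X a x = MulAction.ofQuotientStabilizer X a y
    rw [← fsmul, hu3]

/-- A group acting 2-transitively with a subgroup `U` of 2-power order and odd index that fixes
`a`, is normalized by the stabilizer of `a` and acts regularly on the other points. -/
theorem abstract_main {X Ω : Type*} [Group X] [MulAction X Ω] (a : Ω) (U : Subgroup X) (k : ℕ)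
    (h2t : ∀ {p q p' q' : Ω}, p ≠ q → p' ≠ q' → ∃ g : X, g • p = p' ∧ g • q = q')
    (hUfix : ∀ u ∈ U, u • a = a)
    (hUreg : ∀ p q : Ω, p ≠ a → q ≠ a → ∃! u : U, (u : X) • p = q)
    (hUnorm : ∀ b : X, b • a = a → ∀ u ∈ U, b * u * b⁻¹ ∈ U)
    (hpq : ∃ p q : Ω, p ≠ a ∧ q ≠ a ∧ p ≠ q)
    (hcardU : Nat.card U = 2 ^ k) (hidx : ¬ 2 ∣ U.index) :
    ∃ S : Sylow 2 X,
      Nat.card (Subgroup.normalizer ((S : Subgroup X) : Set X)) * Nat.card Ω = Nat.card X ∧
      (Subgroup.normalizer ((S : Subgroup X) : Set X)).index = Nat.card Ω ∧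
      MulAction.IsMultiplyPretransitive X (X ⧸ Subgroup.normalizer ((S : Subgroup X) : Set X)) 2 ∧
      ∀ x y : X ⧸ Subgroup.normalizer ((S : Subgroup X) : Set X),
        x ≠ (QuotientGroup.mk 1) → y ≠ (QuotientGroup.mk 1) →
        ∃! s : ↥(S : Subgroup X), (s : X) • x = y := by
  haveI : Fact (Nat.Prime 2) := ⟨Nat.prime_two⟩
  have hN : Subgroup.normalizer (U : Set X) = MulAction.stabilizer X a := by
    ext g
    rw [MulAction.mem_stabilizer_iff]
    constructor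
    · intro hg
      by_contra hne
      have hUb : ∀ u ∈ U, u • (g • a) = g • a := by
        intro u hu
        have h1 : g⁻¹ * u * g ∈ U := (Subgroup.mem_normalizer_iff''.mp hg u).mp hu
        have h2 := hUfix _ h1
        calc u • (g • a) = g • ((g⁻¹ * u * g) • a) := by
              rw [← mul_smul, ← mul_smul]
              congr 1
              group
          _ = g • a := by rw [h2]
      obtain ⟨p, q, hp, hq, hpq'⟩ := hpq
      have hex : ∃ c : Ω, c ≠ a ∧ c ≠ g • a := by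
        by_cases hpg : p = g • a
        · exact ⟨q, hq, fun h => hpq' (hpg.trans h.symm)⟩
        · exact ⟨p, hp, hpg⟩
      obtain ⟨c, hc, hcg⟩ := hex
      obtain ⟨u, hu, _⟩ := hUreg (g • a) c hne hc
      have hu' : (u : X) • (g • a) = c := hu
      rw [hUb u u.2] at hu'
      exact hcg hu'.symm
    · intro hg
      rw [Subgroup.mem_normalizer_iff]
      intro h
      constructor
      · exact hUnorm g hg h
      · intro hh
        have hg' : g⁻¹ • a = a := by rw [inv_smul_eq_iff, hg]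
        have := hUnorm g⁻¹ hg' _ hh
        have e : g⁻¹ * (g * h * g⁻¹) * g⁻¹⁻¹ = h := by group
        rwa [e] at this
  obtain ⟨h1, h2, h3⟩ := key_aux a U h2t hUreg (Subgroup.normalizer (U : Set X)) hN
  refine ⟨(IsPGroup.of_card hcardU).toSylow hidx, ?_, h1, h2, h3⟩
  show Nat.card (Subgroup.normalizer (U : Set X)) * Nat.card Ω = Nat.card X
  rw [← h1]
  exact Subgroup.card_mul_index _

/-- The conclusion for any group isomorphic to the ovoid stabilizer. -/
theorem concrete {F : Type*} [Field F] [CharP F 2] [Finite F] (s : F →+* F)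
    (hs : ∀ x, s (s x) = x ^ 2) (hnt : ∃ y : F, s y ≠ y ^ 2) {k : ℕ} (hk : Nat.card F = 2 ^ k)
    {L : Type*} [Group L] (φ : L ≃* ↥(G s)) :
    ∃ S : Sylow 2 L,
      Nat.card (Subgroup.normalizer ((S : Subgroup L) : Set L)) * Nat.card ↥(Ov s) = Nat.card L ∧
      (Subgroup.normalizer ((S : Subgroup L) : Set L)).index = Nat.card ↥(Ov s) ∧
      MulAction.IsMultiplyPretransitive L (L ⧸ Subgroup.normalizer ((S : Subgroup L) : Set L)) 2 ∧
      ∀ x y : L ⧸ Subgroup.normalizer ((S : Subgroup L) : Set L),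
        x ≠ (QuotientGroup.mk 1) → y ≠ (QuotientGroup.mk 1) →
        ∃! s : ↥(S : Subgroup L), (s : L) • x = y := by
  classical
  letI : MulAction L ↥(Ov s) := MulAction.compHom _ φ.toMonoidHom
  have hsm : ∀ (l : L) (p : ↥(Ov s)), l • p = φ l • p := fun _ _ => rfl
  let U : Subgroup L := (Qs s hs).comap φ.toMonoidHom
  have hUmem : ∀ u : L, u ∈ U ↔ ∃ a b, φ u = Tg s hs a b := fun u => Iff.rfl
  have h2t : ∀ {p q p' q' : ↥(Ov s)}, p ≠ q → p' ≠ q' → ∃ g : L, g • p = p' ∧ g • q = q' := by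
    intro p q p' q' hpq hpq'
    obtain ⟨g, h1, h2⟩ := (MulAction.is_two_pretransitive_iff.mp (is_two_trans s hs)) hpq hpq'
    refine ⟨φ.symm g, ?_, ?_⟩
    · rw [hsm, φ.apply_symm_apply]; exact h1
    · rw [hsm, φ.apply_symm_apply]; exact h2
  have hUfix : ∀ u ∈ U, u • oinf s = oinf s := by
    intro u hu
    obtain ⟨a, b, hab⟩ := (hUmem u).mp hu
    rw [hsm, hab, Tg_smul_oinf]
  have hfix_opt : ∀ c d x y : F, Tg s hs c d • opt s x y = opt s x y → Tg s hs c d = 1 := by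
    intro c d x y h
    rw [Tg_smul_opt] at h
    obtain ⟨h1, h2⟩ := opt_inj s h
    have hc : c = 0 := by linear_combination h1
    subst hc
    have h0 : s 0 = 0 := map_zero s
    have hd : d = 0 := by linear_combination h2 - x * h0
    subst hd
    exact Tg_zero s hs
  have hUreg : ∀ p q : ↥(Ov s), p ≠ oinf s → q ≠ oinf s → ∃! u : U, (u : L) • p = q := by
    intro p q hp hq
    obtain ⟨x, y, rfl⟩ := (Ov_cases s p).resolve_left hp
    obtain ⟨x', y', rfl⟩ := (Ov_cases s q).resolve_left hq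
    have hg0 : Tg s hs x' y' * (Tg s hs x y)⁻¹ ∈ Qs s hs :=
      (Qs s hs).mul_mem ⟨_, _, rfl⟩ ((Qs s hs).inv_mem ⟨_, _, rfl⟩)
    have hact : (Tg s hs x' y' * (Tg s hs x y)⁻¹) • opt s x y = opt s x' y' := by
      rw [mul_smul, inv_smul_eq_iff.mpr (Tg_smul_opt00 s hs x y).symm, Tg_smul_opt00]
    have hmem0 : φ.symm (Tg s hs x' y' * (Tg s hs x y)⁻¹) ∈ U := by
      show φ (φ.symm _) ∈ Qs s hs
      rw [φ.apply_symm_apply]
      exact hg0
    refine ⟨⟨φ.symm (Tg s hs x' y' * (Tg s hs x y)⁻¹), hmem0⟩, ?_, ?_⟩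
    · show (φ.symm (Tg s hs x' y' * (Tg s hs x y)⁻¹) : L) • opt s x y = opt s x' y'
      rw [hsm, φ.apply_symm_apply]
      exact hact
    · intro u' hu'
      have h1 : φ (u' : L) • opt s x y = opt s x' y' := hu'
      have hmem : (Tg s hs x' y' * (Tg s hs x y)⁻¹)⁻¹ * φ (u' : L) ∈ Qs s hs :=
        (Qs s hs).mul_mem ((Qs s hs).inv_mem hg0) ((hUmem u').mp u'.2)
      obtain ⟨c', d', hc'⟩ := hmem
      have hfix : Tg s hs c' d' • opt s x y = opt s x y := by
        rw [← hc', mul_smul, h1, inv_smul_eq_iff, hact]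
      rw [hfix_opt c' d' x y hfix] at hc'
      apply Subtype.ext
      apply φ.injective
      show φ (u' : L) = φ (φ.symm (Tg s hs x' y' * (Tg s hs x y)⁻¹))
      rw [φ.apply_symm_apply]
      exact (inv_mul_eq_one.mp hc').symm
  have hUnorm : ∀ b : L, b • oinf s = oinf s → ∀ u ∈ U, b * u * b⁻¹ ∈ U := by
    intro b hb u hu
    obtain ⟨c, d, hcd⟩ := (hUmem u).mp hu
    have hb' : φ b ∈ Bs s := hb
    obtain ⟨a', b', t, hbt⟩ := exists_Tg_Dg s hs hnt ⟨φ b, hb'⟩
    have hbt' : φ b = Tg s hs a' b' * Dg s hs t := hbt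
    show φ (b * u * b⁻¹) ∈ Qs s hs
    rw [map_mul, map_mul, map_inv, hcd, hbt']
    have e : Dg s hs t * Tg s hs c d * (Dg s hs t)⁻¹ =
        Tg s hs (s t * c) ((t : F) ^ 2 * s t * d) := by
      rw [Dg_mul_Tg, mul_assoc, mul_inv_cancel, mul_one]
    have e2 : (Tg s hs a' b' * Dg s hs t) * Tg s hs c d * (Tg s hs a' b' * Dg s hs t)⁻¹ =
        Tg s hs a' b' * (Dg s hs t * Tg s hs c d * (Dg s hs t)⁻¹) * (Tg s hs a' b')⁻¹ := by
      group
    rw [e2, e]
    exact (Qs s hs).mul_mem ((Qs s hs).mul_mem ⟨_, _, rfl⟩ ⟨_, _, rfl⟩)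
      ((Qs s hs).inv_mem ⟨_, _, rfl⟩)
  have hpq : ∃ p q : ↥(Ov s), p ≠ oinf s ∧ q ≠ oinf s ∧ p ≠ q :=
    ⟨opt s 0 0, opt s 1 0, opt_ne_oinf s 0 0, opt_ne_oinf s 1 0,
      fun h => zero_ne_one (opt_inj s h).1⟩
  have hcardU : Nat.card U = 2 ^ (2 * k) := by
    have e : U ≃ Qs s hs :=
      { toFun := fun u => ⟨φ u, u.2⟩
        invFun := fun g => ⟨φ.symm g, by
          show φ (φ.symm g) ∈ Qs s hs
          rw [φ.apply_symm_apply]
          exact g.2⟩
        left_inv := fun u => Subtype.ext (φ.symm_apply_apply u)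
        right_inv := fun g => Subtype.ext (φ.apply_symm_apply g) }
    rw [Nat.card_congr e, card_Qs, hk, ← pow_mul, mul_comm]
  have hidx : ¬ 2 ∣ U.index := by
    have : U.index = (Qs s hs).index :=
      Subgroup.index_comap_of_surjective (Qs s hs) (f := φ.toMonoidHom) φ.surjective
    rw [this]
    exact not_two_dvd_index_Qs s hs hnt hk
  exact abstract_main (oinf s) U (2 * k) h2t hUfix hUreg hUnorm hpq hcardU hidx

/-- For the Suzuki group Sz(q), q = 2^(2m+1) ≥ 8, realised as the elements g of Sp₄(F) with g* = g^θ (θ the 2^(m+1)-th power map, so that θ² is squaring): `|Sz(q)| = q² (q - 1) (q² + 1)`, and there is a Sylow 2-subgroup `S` whose normaliser `H` has order `q²(q-1)` and index `q² + 1`, the action of `Sz(q)` on the cosets of `H` is doubly transitive, and `S` acts regularly on the cosets other than `H` itself. -/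
theorem result {F : Type*} [Field F] [Fintype F] {m : ℕ} (hm : 1 ≤ m) (hF : Fintype.card F = 2 ^ (2 * m + 1)) :
    Nat.card ↥(Cfsg.Lie.Sz F (2 ^ (m + 1))) = (2 ^ (2 * m + 1)) ^ 2 * (2 ^ (2 * m + 1) - 1) * ((2 ^ (2 * m + 1)) ^ 2 + 1) ∧
    ∃ S : Sylow 2 ↥(Cfsg.Lie.Sz F (2 ^ (m + 1))),
      Nat.card (Subgroup.normalizer ((S : Subgroup ↥(Cfsg.Lie.Sz F (2 ^ (m + 1)))) : Set ↥(Cfsg.Lie.Sz F (2 ^ (m + 1))))) = (2 ^ (2 * m + 1)) ^ 2 * (2 ^ (2 * m + 1) - 1) ∧
      (Subgroup.normalizer ((S : Subgroup ↥(Cfsg.Lie.Sz F (2 ^ (m + 1)))) : Set ↥(Cfsg.Lie.Sz F (2 ^ (m + 1))))).index = (2 ^ (2 * m + 1)) ^ 2 + 1 ∧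
      MulAction.IsMultiplyPretransitive ↥(Cfsg.Lie.Sz F (2 ^ (m + 1))) (↥(Cfsg.Lie.Sz F (2 ^ (m + 1))) ⧸ Subgroup.normalizer ((S : Subgroup ↥(Cfsg.Lie.Sz F (2 ^ (m + 1)))) : Set ↥(Cfsg.Lie.Sz F (2 ^ (m + 1))))) 2 ∧
      ∀ x y : ↥(Cfsg.Lie.Sz F (2 ^ (m + 1))) ⧸ Subgroup.normalizer ((S : Subgroup ↥(Cfsg.Lie.Sz F (2 ^ (m + 1)))) : Set ↥(Cfsg.Lie.Sz F (2 ^ (m + 1)))),
        x ≠ (QuotientGroup.mk 1) → y ≠ (QuotientGroup.mk 1) → ∃! s : ↥(S : Subgroup ↥(Cfsg.Lie.Sz F (2 ^ (m + 1)))), (s : ↥(Cfsg.Lie.Sz F (2 ^ (m + 1)))) • x = y := by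
  haveI := charP_two hF
  have hs := sig_sig hF
  have hnt := sig_nt hm hF
  have hk : Nat.card F = 2 ^ (2 * m + 1) := by rw [Nat.card_eq_fintype_card, hF]
  have hcardL : Nat.card ↥(Cfsg.Lie.Sz F (2 ^ (m + 1))) =
      ((2 ^ (2 * m + 1)) ^ 2 + 1) * ((2 ^ (2 * m + 1)) ^ 2 * (2 ^ (2 * m + 1) - 1)) := by
    rw [Nat.card_congr (szEquiv hm hF).toEquiv, card_G (sig F m) hs hnt, hk]
  have hcardΩ : Nat.card ↥(Ov (sig F m)) = (2 ^ (2 * m + 1)) ^ 2 + 1 := by
    rw [Nat.card_coe_set_eq, ncard_Ov, hk]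
  refine ⟨by rw [hcardL]; ring, ?_⟩
  obtain ⟨S, h1, h2, h3, h4⟩ := concrete (sig F m) hs hnt hk (szEquiv hm hF)
  refine ⟨S, ?_, ?_, h3, h4⟩
  · rw [hcardΩ, hcardL] at h1
    exact Nat.eq_of_mul_eq_mul_right (by positivity) (h1.trans (mul_comm _ _))
  · rw [h2, hcardΩ]

end Cfsg.Agent.S1163
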