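import Cfsg.Statements.S3179
import Cfsg.Agent.S0243
import Cfsg.Agent.S0280
import Cfsg.Agent.S1163

set_option autoImplicit false
open Cfsg

namespace Cfsg.Agent.S3179

theorem card_GL52 : Nat.card (GL (Fin 5) (ZMod 2)) = 9999360 := by
  rw [Matrix.card_GL_field]
  simp [ZMod.card, Fin.prod_univ_five]

theorem two_pow_dvd_le {k : ℕ} (h : 2 ^ k ∣ 9999360) : k ≤ 10 := by
  by_contra hk
  have h1 : 2 ^ 11 ∣ 2 ^ k := pow_dvd_pow 2 (by omega)
  have h2 := dvd_trans h1 h
  norm_num at h2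

theorem card_section_dvd {H : Subgroup (GL (Fin 5) (ZMod 2))} (K : Subgroup ↥H) [K.Normal] :
    Nat.card (↥H ⧸ K) ∣ 9999360 := by
  rw [← card_GL52]
  exact dvd_trans (Subgroup.card_quotient_dvd_card K) (Subgroup.card_subgroup_dvd_card H)

theorem card_PSL2 {F : Type} [Field F] [Fintype F] {n : ℕ} (hn : 1 ≤ n)
    (hF : Fintype.card F = 2 ^ n) :
    Nat.card (Matrix.ProjectiveSpecialLinearGroup (Fin 2) F) =
      2 ^ n * ((2 ^ n - 1) * (2 ^ n + 1)) := by
  have h := Cfsg.Agent.S0243.result hF 2 le_rfl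
  rw [Fin.prod_univ_two] at h
  obtain ⟨r, hr⟩ : ∃ r, 2 ^ n = r + 1 :=
    ⟨2 ^ n - 1, by have := Nat.one_le_two_pow (n := n); omega⟩
  have hodd : Nat.gcd 2 r = 1 := by
    have h2 : 2 ∣ 2 ^ n := dvd_pow_self 2 (by omega)
    rw [hr] at h2
    have : Odd r := by rw [Nat.odd_iff]; omega
    exact Nat.coprime_two_left.mpr this
  rw [hr] at h ⊢
  simp only [Nat.add_sub_cancel, Fin.val_zero, Fin.val_one, pow_zero, pow_one] at h ⊢
  rw [hodd, one_mul] at h
  have h1 : (r + 1) ^ 2 - 1 = r * (r + 2) := by apply Nat.sub_eq_of_eq_add; ring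
  have h2 : (r + 1) ^ 2 - (r + 1) = r * (r + 1) := by apply Nat.sub_eq_of_eq_add; ring
  rw [h1, h2] at h
  have hr0 : 0 < r := by
    have : 2 ^ 1 ≤ 2 ^ n := Nat.pow_le_pow_right (by norm_num) hn
    omega
  have h3 : r * Nat.card (Matrix.ProjectiveSpecialLinearGroup (Fin 2) F) =
      r * ((r + 1) * (r * (r + 2))) := by rw [h]; ring
  exact Nat.eq_of_mul_eq_mul_left hr0 h3

/-! ### An element of order 9 in `PSL(2, 8)` -/

theorem mat2_ext {F : Type} [Field F] {a b c d a' b' c' d' : F} (h1 : a = a') (h2 : b = b')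
    (h3 : c = c') (h4 : d = d') : !![a, b; c, d] = !![a', b'; c', d'] := by
  subst h1 h2 h3 h4; rfl

theorem exists_order9 {F : Type} [Field F] [Fintype F] (hF : Fintype.card F = 8) :
    ∃ x : Matrix.ProjectiveSpecialLinearGroup (Fin 2) F, orderOf x = 9 := by
  classical
  have h2 : (2 : F) = 0 := by
    have h8 : ((Fintype.card F : ℕ) : F) = 0 := Nat.cast_card_eq_zero F
    rw [hF] at h8
    have h23 : (2 : F) ^ 3 = 0 := by
      push_cast at h8
      linear_combination h8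
    exact (pow_eq_zero_iff (by norm_num)).mp h23
  obtain ⟨t, ht0, ht1⟩ : ∃ t : F, t ≠ 0 ∧ t ≠ 1 := by
    by_contra hcon
    push Not at hcon
    have hle : Fintype.card F ≤ 2 := by
      calc Fintype.card F = (Finset.univ : Finset F).card := Finset.card_univ.symm
        _ ≤ ({0, 1} : Finset F).card := Finset.card_le_card (fun t _ => by
            by_cases h : t = 0
            · simp [h]
            · simp [hcon t h])
        _ ≤ 2 := Finset.card_le_two
    omega
  have ht7 : t ^ 7 = 1 := by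
    have := FiniteField.pow_card_sub_one_eq_one t ht0
    rwa [hF] at this
  obtain ⟨s, hs1, hs3⟩ : ∃ s : F, s ≠ 1 ∧ s ^ 3 = s + 1 := by
    have hfac : (t - 1) * ((t ^ 3 + t + 1) * (t ^ 3 + t ^ 2 + 1)) = 0 := by
      linear_combination ht7 + (t ^ 4 - t ^ 3) * h2
    rcases mul_eq_zero.1 hfac with h | h
    · exact absurd (sub_eq_zero.1 h) ht1
    rcases mul_eq_zero.1 h with h | h
    · exact ⟨t, ht1, by linear_combination h - (t + 1) * h2⟩
    · refine ⟨t + 1, fun h' => ht0 (by linear_combination h'), ?_⟩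
      linear_combination h + (t ^ 2 + t - 1) * h2
  have hu : s ^ 2 + 1 ≠ 0 := by
    intro hu
    have : (s - 1) ^ 2 = 0 := by linear_combination hu - s * h2
    exact hs1 (sub_eq_zero.1 (pow_eq_zero_iff (by norm_num) |>.mp this))
  let M : Matrix (Fin 2) (Fin 2) F := !![0, 1; 1, s]
  have hdet : M.det = 1 := by
    rw [Matrix.det_fin_two_of]; linear_combination (-1) * h2
  have hM3 : M ^ 3 = !![s, s ^ 2 + 1; s ^ 2 + 1, s + 1] := by
    rw [pow_three']
    simp only [M, Matrix.mul_fin_two]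
    exact mat2_ext (by ring) (by ring) (by ring) (by linear_combination ((1)) * hs3 + (s) * h2)
  have hM9 : M ^ 9 = 1 := by
    rw [show (9 : ℕ) = 3 * 3 from rfl, pow_mul, hM3, pow_three', Matrix.one_fin_two]
    simp only [Matrix.mul_fin_two]
    exact mat2_ext
      (by linear_combination ((10) + s + (3) * s * s) * hs3 + ((5) + (7) * s + (3) * s * s) * h2)
      (by linear_combination ((4) + (7) * s + s * s * s) * hs3 + ((3) + (7) * s + (7) * s * s) * h2)
      (by linear_combination ((4) + (7) * s + s * s * s) * hs3 + ((3) + (7) * s + (7) * s * s) * h2)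
      (by linear_combination ((10) + (2) * s + (3) * s * s) * hs3 + ((6) + (9) * s + (6) * s * s) * h2)
  let g : Matrix.SpecialLinearGroup (Fin 2) F := ⟨M, hdet⟩
  have hg9 : g ^ 9 = 1 := by
    apply Subtype.ext
    rw [Matrix.SpecialLinearGroup.coe_pow]
    exact hM9
  have hg3 : g ^ 3 ∉ Subgroup.center (Matrix.SpecialLinearGroup (Fin 2) F) := by
    intro hmem
    obtain ⟨r, -, hr⟩ := Matrix.SpecialLinearGroup.mem_center_iff.mp hmem
    rw [Matrix.SpecialLinearGroup.coe_pow] at hr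
    have h01 := congrFun (congrFun hr 0) 1
    change _ = (M ^ 3) 0 1 at h01
    rw [hM3] at h01
    simp at h01
    exact hu h01.symm
  have : Fact (Nat.Prime 3) := ⟨by norm_num⟩
  refine ⟨(QuotientGroup.mk g : Matrix.ProjectiveSpecialLinearGroup (Fin 2) F), ?_⟩
  have := orderOf_eq_prime_pow (p := 3) (n := 1)
    (x := (QuotientGroup.mk g : Matrix.ProjectiveSpecialLinearGroup (Fin 2) F)) ?_ ?_
  · simpa using this
  · rw [← QuotientGroup.mk_pow, QuotientGroup.eq_one_iff]
    simpa using hg3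
  · rw [← QuotientGroup.mk_pow, QuotientGroup.eq_one_iff]
    have : g ^ 3 ^ (1 + 1) = 1 := by simpa using hg9
    rw [this]; exact Subgroup.one_mem _

/-! ### `GL(5, 2)` has no element of order 9 -/

abbrev G52 := GL (Fin 5) (ZMod 2)

def mA : Matrix (Fin 5) (Fin 5) (ZMod 2) :=
  !![0,1,0,0,0; 1,1,0,0,0; 0,0,1,0,0; 0,0,0,1,0; 0,0,0,0,1]
def mB : Matrix (Fin 5) (Fin 5) (ZMod 2) :=
  !![1,0,0,0,0; 0,1,0,0,0; 0,0,0,1,0; 0,0,1,1,0; 0,0,0,0,1]

theorem mA3 : mA * (mA * mA) = 1 := by decide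
theorem mA3' : (mA * mA) * mA = 1 := by decide
theorem mB3 : mB * (mB * mB) = 1 := by decide
theorem mB3' : (mB * mB) * mB = 1 := by decide

def gA : G52 := ⟨mA, mA * mA, mA3, mA3'⟩
def gB : G52 := ⟨mB, mB * mB, mB3, mB3'⟩

theorem gA_pow : gA ^ 3 = 1 :=
  Units.ext (by rw [Units.val_pow_eq_pow_val, pow_three]; exact mA3)
theorem gB_pow : gB ^ 3 = 1 :=
  Units.ext (by rw [Units.val_pow_eq_pow_val, pow_three]; exact mB3)
theorem hAB : Commute gA gB := Units.ext (by show mA * mB = mB * mA; decide)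
theorem gA_ne_one : gA ≠ 1 := fun h =>
  absurd (congrArg Units.val h) (by show ¬ mA = 1; decide)
theorem gB_ne_one : gB ≠ 1 := fun h =>
  absurd (congrArg Units.val h) (by show ¬ mB = 1; decide)
theorem gB_ne_gA : gB ≠ gA := fun h =>
  absurd (congrArg Units.val h) (by show ¬ mB = mA; decide)
theorem gB_ne_gA2 : gB ≠ gA ^ 2 := fun h =>
  absurd (congrArg Units.val h) (by
    rw [Units.val_pow_eq_pow_val, pow_two]; show ¬ mB = mA * mA; decide)
theorem gA_ne_gB2 : gA ≠ gB ^ 2 := fun h =>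
  absurd (congrArg Units.val h) (by
    rw [Units.val_pow_eq_pow_val, pow_two]; show ¬ mA = mB * mB; decide)

abbrev P9 : Subgroup G52 := Subgroup.closure {gA, gB}

theorem comm_gens {x : G52} (hx : x ∈ P9) : Commute x gA ∧ Commute x gB := by
  induction hx using Subgroup.closure_induction with
  | mem x hx =>
    simp only [Set.mem_insert_iff, Set.mem_singleton_iff] at hx
    rcases hx with rfl | rfl
    · exact ⟨Commute.refl _, hAB⟩
    · exact ⟨hAB.symm, Commute.refl _⟩
  | one => exact ⟨Commute.one_left _, Commute.one_left _⟩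
  | mul x y _ _ ihx ihy => exact ⟨ihx.1.mul_left ihy.1, ihx.2.mul_left ihy.2⟩
  | inv x _ ih => exact ⟨ih.1.inv_left, ih.2.inv_left⟩

theorem comm_P9 {x y : G52} (hx : x ∈ P9) (hy : y ∈ P9) : Commute x y := by
  induction hy using Subgroup.closure_induction with
  | mem y hy =>
    simp only [Set.mem_insert_iff, Set.mem_singleton_iff] at hy
    rcases hy with rfl | rfl
    · exact (comm_gens hx).1
    · exact (comm_gens hx).2
  | one => exact Commute.one_right _
  | mul y z _ _ ihy ihz => exact ihy.mul_right ihz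
  | inv y _ ih => exact ih.inv_right

theorem cube_P9 {x : G52} (hx : x ∈ P9) : x ^ 3 = 1 := by
  induction hx using Subgroup.closure_induction with
  | mem x hx =>
    simp only [Set.mem_insert_iff, Set.mem_singleton_iff] at hx
    rcases hx with rfl | rfl
    · exact gA_pow
    · exact gB_pow
  | one => exact one_pow _
  | mul x y hx hy ihx ihy => rw [(comm_P9 hx hy).mul_pow, ihx, ihy, one_mul]
  | inv x _ ih => rw [inv_pow, ih, inv_one]

theorem isPGroup_P9 : IsPGroup 3 P9 := fun ⟨x, hx⟩ =>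
  ⟨1, Subtype.ext (by simpa using cube_P9 hx)⟩

theorem card_sylow3_dvd (Q : Sylow 3 G52) : Nat.card Q ∣ 9 := by
  have : Fact (Nat.Prime 3) := ⟨by norm_num⟩
  obtain ⟨k, hk⟩ := IsPGroup.iff_card.mp Q.isPGroup'
  have hdvd : 3 ^ k ∣ 9999360 := by
    rw [← hk, ← card_GL52]; exact Subgroup.card_subgroup_dvd_card _
  have hk2 : k ≤ 2 := by
    by_contra hcon
    have h1 : 3 ^ 3 ∣ 3 ^ k := pow_dvd_pow 3 (by omega)
    have h2 := dvd_trans h1 hdvd
    norm_num at h2
  rw [hk]
  exact pow_dvd_pow 3 hk2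

theorem mem_zpowers_cube {G : Type*} [Group G] {g y : G} (hg : orderOf g = 9)
    (hy : y ∈ Subgroup.zpowers g) (hy3 : y ^ 3 = 1) :
    y = 1 ∨ y = g ^ 3 ∨ y = (g ^ 3) ^ 2 := by
  obtain ⟨k, rfl⟩ := Subgroup.mem_zpowers_iff.mp hy
  have h1 : (g ^ k) ^ (3 : ℕ) = 1 := hy3
  rw [← zpow_natCast, ← zpow_mul] at h1
  have h2 : ((orderOf g : ℕ) : ℤ) ∣ k * ((3 : ℕ) : ℤ) := orderOf_dvd_iff_zpow_eq_one.mpr h1
  rw [hg] at h2
  push_cast at h2
  have h3 : (3 : ℤ) ∣ k := by omega
  obtain ⟨j, rfl⟩ := h3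
  have hg9 : g ^ (9 : ℕ) = 1 := by rw [← hg]; exact pow_orderOf_eq_one g
  have hh3 : (g ^ 3) ^ 3 = 1 := by rw [← pow_mul]; exact hg9
  have e1 : g ^ (3 * j) = (g ^ 3) ^ j := by rw [zpow_mul, zpow_ofNat]
  have e2 : (g ^ 3) ^ j = (g ^ 3) ^ (j % 3) := by
    conv_lhs => rw [← Int.emod_add_mul_ediv j 3]
    rw [zpow_add, zpow_mul, zpow_ofNat, hh3, one_zpow, mul_one]
  rw [e1, e2]
  have hj : j % 3 = 0 ∨ j % 3 = 1 ∨ j % 3 = 2 := by omega
  rcases hj with hj | hj | hj <;> rw [hj]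
  · left; exact zpow_zero _
  · right; left; exact zpow_one _
  · right; right; exact zpow_ofNat _ 2

theorem no_order9 (g : G52) : orderOf g ≠ 9 := by
  intro hg
  have : Fact (Nat.Prime 3) := ⟨by norm_num⟩
  have hcz : Nat.card (Subgroup.zpowers g) = 9 := by rw [Nat.card_zpowers, hg]
  have hpz : IsPGroup 3 (Subgroup.zpowers g) :=
    IsPGroup.of_card (n := 2) (by rw [hcz]; norm_num)
  obtain ⟨Q', hQ'⟩ := hpz.exists_le_sylow
  obtain ⟨Q, hQ⟩ := isPGroup_P9.exists_le_sylow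
  have hQ'eq : Subgroup.zpowers g = (Q' : Subgroup G52) := by
    apply Subgroup.eq_of_le_of_card_ge hQ'
    rw [hcz]; exact Nat.le_of_dvd (by norm_num) (card_sylow3_dvd Q')
  obtain ⟨c, hc⟩ := MulAction.exists_smul_eq G52 Q' Q
  let φ : G52 ≃* G52 := (MulAut.conj c)⁻¹
  have hconj : ∀ x ∈ P9, φ x ∈ Subgroup.zpowers g := by
    intro x hx
    have h1 : x ∈ (Q : Subgroup G52) := hQ hx
    rw [← hc, Sylow.coe_subgroup_smul, Subgroup.mem_pointwise_smul_iff_inv_smul_mem] at h1
    rw [hQ'eq]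
    exact h1
  have hA := hconj gA (Subgroup.subset_closure (by simp))
  have hB := hconj gB (Subgroup.subset_closure (by simp))
  have hA3 : (φ gA) ^ 3 = 1 := by rw [← map_pow, gA_pow, map_one]
  have hB3 : (φ gB) ^ 3 = 1 := by rw [← map_pow, gB_pow, map_one]
  have hA1 : φ gA ≠ 1 := fun h => gA_ne_one ((MulEquiv.map_eq_one_iff φ).mp h)
  have hB1 : φ gB ≠ 1 := fun h => gB_ne_one ((MulEquiv.map_eq_one_iff φ).mp h)
  rcases mem_zpowers_cube hg hA hA3 with h | h | h
  · exact hA1 h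
  · rcases mem_zpowers_cube hg hB hB3 with h' | h' | h'
    · exact hB1 h'
    · exact gB_ne_gA (φ.injective (by rw [h', h]))
    · exact gB_ne_gA2 (φ.injective (by rw [map_pow, h', h]))
  · rcases mem_zpowers_cube hg hB hB3 with h' | h' | h'
    · exact hB1 h'
    · exact gA_ne_gB2 (φ.injective (by rw [map_pow, h', h]))
    · exact gB_ne_gA (φ.injective (by rw [h', h]))

theorem no_order9_section {H : Subgroup G52} {K : Subgroup ↥H} [K.Normal] (x : ↥H ⧸ K) :
    orderOf x ≠ 9 := by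
  intro hx
  obtain ⟨g, rfl⟩ := QuotientGroup.mk_surjective x
  have h1 : orderOf (QuotientGroup.mk' K g) ∣ orderOf g := orderOf_map_dvd _ g
  rw [QuotientGroup.mk'_apply, hx] at h1
  obtain ⟨k, hk⟩ := h1
  have hpos : 0 < orderOf g := orderOf_pos g
  have hk0 : k ≠ 0 := by rintro rfl; omega
  have h2 : orderOf (g ^ k) = 9 := by
    rw [orderOf_pow_of_dvd hk0 ⟨9, by rw [hk, mul_comm]⟩, hk]
    exact Nat.mul_div_cancel _ (Nat.pos_of_ne_zero hk0)
  have h3 : orderOf ((g ^ k : ↥H) : G52) = 9 := by rw [Subgroup.orderOf_coe]; exact h2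
  exact no_order9 _ h3

/-- Let X be a section of the general linear group GL(5, 2), that is, a quotient of a subgroup of it. If X is isomorphic to PSL(2, 2^n) for some n ≥ 2, to a Suzuki group over the field with 2^(2m+1) elements for some m ≥ 1, or to PSU(3, 2^n) for some n ≥ 2, then X is isomorphic to PSL(2, 4). -/
theorem result {H : Subgroup (GL (Fin 5) (ZMod 2))}
    {K : Subgroup ↥H} [K.Normal]
    (hX : (∃ (n : ℕ) (F : Type) (_ : Field F) (_ : Fintype F), 2 ≤ n ∧ Fintype.card F = 2 ^ n ∧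
        Nonempty (↥H ⧸ K ≃* Matrix.ProjectiveSpecialLinearGroup (Fin 2) F)) ∨
      (∃ (m : ℕ) (F : Type) (_ : Field F) (_ : Fintype F), 1 ≤ m ∧ Fintype.card F = 2 ^ (2 * m + 1) ∧
        Nonempty (↥H ⧸ K ≃* ↥(Cfsg.Lie.Sz F (2 ^ (m + 1))))) ∨
      (∃ (n : ℕ) (F : Type) (_ : Field F) (_ : Fintype F), 2 ≤ n ∧ Fintype.card F = 4 ^ n ∧
        Nonempty (↥H ⧸ K ≃* Cfsg.PSU 3 F (2 ^ n)))) :
    ∃ (F : Type) (_ : Field F) (_ : Fintype F), Fintype.card F = 4 ∧
      Nonempty (↥H ⧸ K ≃* Matrix.ProjectiveSpecialLinearGroup (Fin 2) F) := by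
  rcases hX with hPSL | hSz | hPSU
  · obtain ⟨n, F, _, _, hn, hF, ⟨e⟩⟩ := hPSL
    have hc := card_PSL2 (by omega) hF
    have hdiv := card_section_dvd K
    rw [Nat.card_congr e.toEquiv, hc] at hdiv
    have hn10 : n ≤ 10 := two_pow_dvd_le (dvd_trans (dvd_mul_right _ _) hdiv)
    interval_cases n
    · exact ⟨F, inferInstance, inferInstance, by simpa using hF, ⟨e⟩⟩
    · exfalso
      obtain ⟨x, hx⟩ := exists_order9 (F := F) (by simpa using hF)
      exact no_order9_section (e.symm x) (by rw [MulEquiv.orderOf_eq]; exact hx)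
    all_goals (exfalso; norm_num at hdiv)
  · exfalso
    obtain ⟨m, F, _, _, hm, hF, ⟨e⟩⟩ := hSz
    have hc := (Cfsg.Agent.S1163.result hm hF).1
    have hdiv := card_section_dvd K
    rw [Nat.card_congr e.toEquiv, hc] at hdiv
    have hm2 : 2 * (2 * m + 1) ≤ 10 := by
      apply two_pow_dvd_le
      rw [pow_mul']
      exact dvd_trans (dvd_mul_of_dvd_left (dvd_mul_right _ _) _) hdiv
    have hm3 : m ≤ 2 := by omega
    interval_cases m <;> norm_num at hdiv
  · exfalso
    obtain ⟨n, F, _, _, hn, hF, ⟨e⟩⟩ := hPSU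
    have hF' : Fintype.card F = (2 ^ n) ^ 2 := by
      rw [hF, ← pow_mul, mul_comm, pow_mul]; norm_num
    have hc := Cfsg.Agent.S0280.result hF' 3 (by norm_num)
    have hdiv := card_section_dvd K
    rw [Nat.card_congr e.toEquiv] at hdiv
    have h8 : (2 ^ n) ^ 3 ∣ Nat.card (Cfsg.PSU 3 F (2 ^ n)) := by
      have hcop : Nat.Coprime ((2 ^ n) ^ 3) (Nat.gcd 3 (2 ^ n + 1) * (2 ^ n + 1)) := by
        rw [← pow_mul]
        apply Nat.Coprime.pow_left
        rw [Nat.coprime_two_left]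
        have ho : Odd (2 ^ n + 1) := Even.add_one ((Nat.even_pow).mpr ⟨even_two, by omega⟩)
        exact Odd.mul (Odd.of_dvd_nat (by decide : Odd 3) (Nat.gcd_dvd_left _ _)) ho
      apply hcop.dvd_of_dvd_mul_left
      rw [mul_assoc, hc]
      exact dvd_mul_right _ _
    have hn3 : n * 3 ≤ 10 := by
      apply two_pow_dvd_le
      rw [pow_mul]
      exact dvd_trans h8 hdiv
    have hn3' : n ≤ 3 := by omega
    interval_cases n
    · simp [Finset.prod_range_succ, Nat.even_add_one] at hc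
      norm_num at hdiv
      have hN : Nat.card (Cfsg.PSU 3 F 4) = 62400 := by omega
      rw [hN] at hdiv
      norm_num at hdiv
    · simp [Finset.prod_range_succ, Nat.even_add_one] at hc
      norm_num at hdiv
      have hN : Nat.card (Cfsg.PSU 3 F 8) = 5515776 := by omega
      rw [hN] at hdiv
      norm_num at hdiv

end Cfsg.Agent.S3179
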