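import Cfsg.Statements.S3377

set_option autoImplicit false
open Cfsg
set_option linter.unusedSectionVars false

namespace Cfsg.Agent.S3377

section
variable {G : Type*} [Group G] (x y : G) (hx : x ^ 3 = 1) (hy : y ^ 5 = 1) (hxy : (x * y) ^ 2 = 1)
include hx hy hxy

theorem B1 : x * x = x⁻¹ := by
  have : x * x * x = 1 := by rw [← hx, pow_succ, pow_succ, pow_one]
  exact eq_inv_of_mul_eq_one_left this

omit hx hy in
theorem B2 : x * y = y⁻¹ * x⁻¹ := by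
  have : x * y * (x * y) = 1 := by rw [← hxy, pow_two]
  have h2 : x * y = (x * y)⁻¹ := eq_inv_of_mul_eq_one_left this
  rw [h2]; group

omit hx hy in
theorem B3 : y * x = x⁻¹ * y⁻¹ := by
  have h := B2 x y hxy
  calc y * x = x⁻¹ * (x * y) * x := by group
    _ = x⁻¹ * (y⁻¹ * x⁻¹) * x := by rw [h]
    _ = x⁻¹ * y⁻¹ := by group

omit hx hxy in
theorem Yinv : y⁻¹ = y ^ 4 := by
  have : y ^ 4 * y = 1 := (pow_succ y 4).symm.trans hy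
  exact (eq_inv_of_mul_eq_one_left this).symm

omit hy hxy in
theorem Xinv : x⁻¹ = x ^ 2 := by
  have : x ^ 2 * x = 1 := (pow_succ x 2).symm.trans hx
  exact (eq_inv_of_mul_eq_one_left this).symm

-- x-table
theorem X4 : x⁻¹ * y * x = y⁻¹ * (x⁻¹ * y ^ 3) := by
  calc x⁻¹ * y * x = x⁻¹ * (y * x) := by group
    _ = x⁻¹ * (x⁻¹ * y⁻¹) := by rw [B3 x y hxy]
    _ = (x * x)⁻¹ * y⁻¹ := by group
    _ = (x⁻¹)⁻¹ * y⁻¹ := by rw [B1 x y hx hy hxy]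
    _ = (x * y) * y⁻¹ * y⁻¹ := by group
    _ = (y⁻¹ * x⁻¹) * y⁻¹ * y⁻¹ := by rw [B2 x y hxy]
    _ = y⁻¹ * (x⁻¹ * y ^ 3) * (y ^ 5)⁻¹ := by group
    _ = y⁻¹ * (x⁻¹ * y ^ 3) := by rw [hy]; group

theorem X7 : x⁻¹ * y ^ 3 * x * x = y * (x⁻¹ * y) := by
  have h4 := X4 x y hx hy hxy
  -- x⁻¹ y³ = y (x⁻¹ y x)
  have h : x⁻¹ * y ^ 3 = y * (x⁻¹ * y * x) := by rw [h4]; group
  calc x⁻¹ * y ^ 3 * x * x = (x⁻¹ * y ^ 3) * (x * x) := by group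
    _ = y * (x⁻¹ * y * x) * x⁻¹ := by rw [h, B1 x y hx hy hxy]
    _ = y * (x⁻¹ * y) := by group

theorem Y6 : x⁻¹ * y ^ 3 * y = y * x := by
  calc x⁻¹ * y ^ 3 * y = x⁻¹ * y⁻¹ * y ^ 5 := by group
    _ = x⁻¹ * y⁻¹ := by rw [hy, mul_one]
    _ = y * x := (B3 x y hxy).symm

theorem Y7 : x⁻¹ * y ^ 3 * x * y = x⁻¹ * y ^ 2 * x⁻¹ := by
  calc x⁻¹ * y ^ 3 * x * y = x⁻¹ * y ^ 3 * (x * y) := by group
    _ = x⁻¹ * y ^ 3 * (y⁻¹ * x⁻¹) := by rw [B2 x y hxy]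
    _ = x⁻¹ * y ^ 2 * x⁻¹ := by group

theorem Y8 : x⁻¹ * y ^ 2 * x * y = y⁻¹ * (x⁻¹ * y ^ 3 * x) := by
  have h7 := X7 x y hx hy hxy
  -- w7 = y * w4 * x⁻¹
  have h : x⁻¹ * y ^ 3 * x = y * (x⁻¹ * y) * x⁻¹ := by
    calc x⁻¹ * y ^ 3 * x = (x⁻¹ * y ^ 3 * x * x) * x⁻¹ := by group
      _ = y * (x⁻¹ * y) * x⁻¹ := by rw [h7]
  calc x⁻¹ * y ^ 2 * x * y = x⁻¹ * y ^ 2 * (x * y) := by group
    _ = x⁻¹ * y ^ 2 * (y⁻¹ * x⁻¹) := by rw [B2 x y hxy]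
    _ = y⁻¹ * (y * (x⁻¹ * y) * x⁻¹) := by group
    _ = y⁻¹ * (x⁻¹ * y ^ 3 * x) := by rw [h]

/-- `w8 * y^4 = y⁻¹ * w11` -/
theorem chain : x⁻¹ * y ^ 2 * x * y ^ 4 = y⁻¹ * (x⁻¹ * y ^ 2 * x⁻¹ * y ^ 2) := by
  calc x⁻¹ * y ^ 2 * x * y ^ 4 = (x⁻¹ * y ^ 2 * x * y) * y ^ 3 := by group
    _ = y⁻¹ * (x⁻¹ * y ^ 3 * x) * y ^ 3 := by rw [Y8 x y hx hy hxy]
    _ = y⁻¹ * (x⁻¹ * y ^ 3 * x * y) * y ^ 2 := by group
    _ = y⁻¹ * (x⁻¹ * y ^ 2 * x⁻¹) * y ^ 2 := by rw [Y7 x y hx hy hxy]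
    _ = y⁻¹ * (x⁻¹ * y ^ 2 * x⁻¹ * y ^ 2) := by group

theorem Y11 : x⁻¹ * y ^ 2 * x⁻¹ * y ^ 2 * y = y * (x⁻¹ * y ^ 2 * x) := by
  have hc := chain x y hx hy hxy
  have h : x⁻¹ * y ^ 2 * x⁻¹ * y ^ 2 = y * (x⁻¹ * y ^ 2 * x * y ^ 4) := by rw [hc]; group
  calc x⁻¹ * y ^ 2 * x⁻¹ * y ^ 2 * y = y * (x⁻¹ * y ^ 2 * x * y ^ 4) * y := by rw [h]
    _ = y * (x⁻¹ * y ^ 2 * x) * y ^ 5 := by group
    _ = y * (x⁻¹ * y ^ 2 * x) := by rw [hy, mul_one]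

theorem X10 : x⁻¹ * y ^ 2 * x⁻¹ * y * x = y⁻¹ * (x⁻¹ * y ^ 2 * x⁻¹ * y ^ 2) := by
  have hc := chain x y hx hy hxy
  calc x⁻¹ * y ^ 2 * x⁻¹ * y * x = x⁻¹ * y ^ 2 * x⁻¹ * (y * x) := by group
    _ = x⁻¹ * y ^ 2 * x⁻¹ * (x⁻¹ * y⁻¹) := by rw [B3 x y hxy]
    _ = x⁻¹ * y ^ 2 * (x * x)⁻¹ * y⁻¹ := by group
    _ = x⁻¹ * y ^ 2 * (x⁻¹)⁻¹ * y⁻¹ := by rw [B1 x y hx hy hxy]
    _ = x⁻¹ * y ^ 2 * x * y ^ 4 * (y ^ 5)⁻¹ := by group
    _ = x⁻¹ * y ^ 2 * x * y ^ 4 := by rw [hy]; group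
    _ = y⁻¹ * (x⁻¹ * y ^ 2 * x⁻¹ * y ^ 2) := hc

theorem X12 : x⁻¹ * y ^ 2 * x⁻¹ * y ^ 2 * x * x = y * (x⁻¹ * y ^ 2 * x⁻¹ * y) := by
  have h10 := X10 x y hx hy hxy
  have h : x⁻¹ * y ^ 2 * x⁻¹ * y ^ 2 = y * (x⁻¹ * y ^ 2 * x⁻¹ * y * x) := by rw [h10]; group
  calc x⁻¹ * y ^ 2 * x⁻¹ * y ^ 2 * x * x = (x⁻¹ * y ^ 2 * x⁻¹ * y ^ 2) * (x * x) := by group
    _ = y * (x⁻¹ * y ^ 2 * x⁻¹ * y * x) * x⁻¹ := by rw [h, B1 x y hx hy hxy]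
    _ = y * (x⁻¹ * y ^ 2 * x⁻¹ * y) := by group

theorem Y12 : x⁻¹ * y ^ 2 * x⁻¹ * y ^ 2 * x * y = y⁻¹ * (x⁻¹ * y ^ 2 * x⁻¹ * y ^ 2 * x) := by
  have h10 := X10 x y hx hy hxy
  calc x⁻¹ * y ^ 2 * x⁻¹ * y ^ 2 * x * y = x⁻¹ * y ^ 2 * x⁻¹ * y ^ 2 * (x * y) := by group
    _ = x⁻¹ * y ^ 2 * x⁻¹ * y ^ 2 * (y⁻¹ * x⁻¹) := by rw [B2 x y hxy]
    _ = x⁻¹ * y ^ 2 * x⁻¹ * y * (x * x)⁻¹ * x := by group
    _ = x⁻¹ * y ^ 2 * x⁻¹ * y * (x⁻¹)⁻¹ * x := by rw [B1 x y hx hy hxy]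
    _ = (x⁻¹ * y ^ 2 * x⁻¹ * y * x) * x := by group
    _ = y⁻¹ * (x⁻¹ * y ^ 2 * x⁻¹ * y ^ 2) * x := by rw [h10]
    _ = y⁻¹ * (x⁻¹ * y ^ 2 * x⁻¹ * y ^ 2 * x) := by group


end

section
variable {G : Type*} [Group G] (x y : G)

/-- coset representatives for `⟨y⟩` -/
def w : Fin 12 → G
  | ⟨0, _⟩ => 1
  | ⟨1, _⟩ => x
  | ⟨2, _⟩ => x⁻¹
  | ⟨3, _⟩ => x⁻¹ * y
  | ⟨4, _⟩ => x⁻¹ * y ^ 2
  | ⟨5, _⟩ => x⁻¹ * y ^ 3
  | ⟨6, _⟩ => x⁻¹ * y ^ 3 * x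
  | ⟨7, _⟩ => x⁻¹ * y ^ 2 * x
  | ⟨8, _⟩ => x⁻¹ * y ^ 2 * x⁻¹
  | ⟨9, _⟩ => x⁻¹ * y ^ 2 * x⁻¹ * y
  | ⟨10, _⟩ => x⁻¹ * y ^ 2 * x⁻¹ * y ^ 2
  | ⟨11, _⟩ => x⁻¹ * y ^ 2 * x⁻¹ * y ^ 2 * x

variable (hx : x ^ 3 = 1) (hy : y ^ 5 = 1) (hxy : (x * y) ^ 2 = 1)
include hx hy hxy

theorem step_x (i : Fin 12) : ∃ (e : ℤ) (j : Fin 12), w x y i * x = y ^ e * w x y j := by
  fin_cases i
  · exact ⟨0, 1, by show 1 * x = y ^ (0 : ℤ) * x; group⟩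
  · exact ⟨0, 2, by show x * x = y ^ (0 : ℤ) * x⁻¹; rw [B1 x y hx hy hxy]; group⟩
  · exact ⟨0, 0, by show x⁻¹ * x = y ^ (0 : ℤ) * 1; group⟩
  · exact ⟨-1, 5, by
      show x⁻¹ * y * x = y ^ (-1 : ℤ) * (x⁻¹ * y ^ 3)
      rw [X4 x y hx hy hxy]; group⟩
  · exact ⟨0, 7, by show x⁻¹ * y ^ 2 * x = y ^ (0 : ℤ) * (x⁻¹ * y ^ 2 * x); group⟩
  · exact ⟨0, 6, by show x⁻¹ * y ^ 3 * x = y ^ (0 : ℤ) * (x⁻¹ * y ^ 3 * x); group⟩
  · exact ⟨1, 3, by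
      show x⁻¹ * y ^ 3 * x * x = y ^ (1 : ℤ) * (x⁻¹ * y)
      rw [X7 x y hx hy hxy]; group⟩
  · exact ⟨0, 8, by
      show x⁻¹ * y ^ 2 * x * x = y ^ (0 : ℤ) * (x⁻¹ * y ^ 2 * x⁻¹)
      rw [mul_assoc (x⁻¹ * y ^ 2), B1 x y hx hy hxy]; group⟩
  · exact ⟨0, 4, by show x⁻¹ * y ^ 2 * x⁻¹ * x = y ^ (0 : ℤ) * (x⁻¹ * y ^ 2); group⟩
  · exact ⟨-1, 10, by
      show x⁻¹ * y ^ 2 * x⁻¹ * y * x = y ^ (-1 : ℤ) * (x⁻¹ * y ^ 2 * x⁻¹ * y ^ 2)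
      rw [X10 x y hx hy hxy]; group⟩
  · exact ⟨0, 11, by
      show x⁻¹ * y ^ 2 * x⁻¹ * y ^ 2 * x = y ^ (0 : ℤ) * (x⁻¹ * y ^ 2 * x⁻¹ * y ^ 2 * x); group⟩
  · exact ⟨1, 9, by
      show x⁻¹ * y ^ 2 * x⁻¹ * y ^ 2 * x * x = y ^ (1 : ℤ) * (x⁻¹ * y ^ 2 * x⁻¹ * y)
      rw [X12 x y hx hy hxy]; group⟩

theorem step_y (i : Fin 12) : ∃ (e : ℤ) (j : Fin 12), w x y i * y = y ^ e * w x y j := by
  fin_cases i
  · exact ⟨1, 0, by show 1 * y = y ^ (1 : ℤ) * 1; group⟩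
  · exact ⟨-1, 2, by
      show x * y = y ^ (-1 : ℤ) * x⁻¹
      rw [B2 x y hxy]; group⟩
  · exact ⟨0, 3, by show x⁻¹ * y = y ^ (0 : ℤ) * (x⁻¹ * y); group⟩
  · exact ⟨0, 4, by show x⁻¹ * y * y = y ^ (0 : ℤ) * (x⁻¹ * y ^ 2); simp [pow_succ, mul_assoc]⟩
  · exact ⟨0, 5, by show x⁻¹ * y ^ 2 * y = y ^ (0 : ℤ) * (x⁻¹ * y ^ 3); group⟩
  · exact ⟨1, 1, by
      show x⁻¹ * y ^ 3 * y = y ^ (1 : ℤ) * x
      rw [Y6 x y hx hy hxy]; group⟩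
  · exact ⟨0, 8, by
      show x⁻¹ * y ^ 3 * x * y = y ^ (0 : ℤ) * (x⁻¹ * y ^ 2 * x⁻¹)
      rw [Y7 x y hx hy hxy]; group⟩
  · exact ⟨-1, 6, by
      show x⁻¹ * y ^ 2 * x * y = y ^ (-1 : ℤ) * (x⁻¹ * y ^ 3 * x)
      rw [Y8 x y hx hy hxy]; group⟩
  · exact ⟨0, 9, by show x⁻¹ * y ^ 2 * x⁻¹ * y = y ^ (0 : ℤ) * (x⁻¹ * y ^ 2 * x⁻¹ * y); group⟩
  · exact ⟨0, 10, by
      show x⁻¹ * y ^ 2 * x⁻¹ * y * y = y ^ (0 : ℤ) * (x⁻¹ * y ^ 2 * x⁻¹ * y ^ 2)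
      simp [pow_succ, mul_assoc]⟩
  · exact ⟨1, 7, by
      show x⁻¹ * y ^ 2 * x⁻¹ * y ^ 2 * y = y ^ (1 : ℤ) * (x⁻¹ * y ^ 2 * x)
      rw [Y11 x y hx hy hxy]; group⟩
  · exact ⟨-1, 11, by
      show x⁻¹ * y ^ 2 * x⁻¹ * y ^ 2 * x * y = y ^ (-1 : ℤ) * (x⁻¹ * y ^ 2 * x⁻¹ * y ^ 2 * x)
      rw [Y12 x y hx hy hxy]; group⟩


theorem mul_x {g : G} (h : ∃ (k : ℤ) (i : Fin 12), g = y ^ k * w x y i) :
    ∃ (k : ℤ) (i : Fin 12), g * x = y ^ k * w x y i := by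
  obtain ⟨k, i, rfl⟩ := h
  obtain ⟨e, j, hj⟩ := step_x x y hx hy hxy i
  exact ⟨k + e, j, by rw [mul_assoc, hj, ← mul_assoc, zpow_add]⟩

theorem mul_y {g : G} (h : ∃ (k : ℤ) (i : Fin 12), g = y ^ k * w x y i) :
    ∃ (k : ℤ) (i : Fin 12), g * y = y ^ k * w x y i := by
  obtain ⟨k, i, rfl⟩ := h
  obtain ⟨e, j, hj⟩ := step_y x y hx hy hxy i
  exact ⟨k + e, j, by rw [mul_assoc, hj, ← mul_assoc, zpow_add]⟩

theorem cover (g : G) (hg : g ∈ Subgroup.closure {x, y}) :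
    ∃ (k : ℤ) (i : Fin 12), g = y ^ k * w x y i := by
  induction hg using Subgroup.closure_induction_right with
  | one => exact ⟨0, 0, by show (1 : G) = y ^ (0 : ℤ) * 1; group⟩
  | mul_right g hg s hs ih =>
    rcases hs with rfl | rfl
    · exact mul_x s y hx hy hxy ih
    · exact mul_y x s hx hy hxy ih
  | mul_inv_cancel g hg s hs ih =>
    rcases hs with rfl | rfl
    · have h1 := mul_x s y hx hy hxy (mul_x s y hx hy hxy ih)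
      have : g * s⁻¹ = g * s * s := by rw [mul_assoc, B1 s y hx hy hxy]
      rw [this]; exact h1
    · have h1 := mul_y x s hx hy hxy (mul_y x s hx hy hxy (mul_y x s hx hy hxy (mul_y x s hx hy hxy ih)))
      have : g * s⁻¹ = g * s * s * s * s := by
        rw [Yinv s hy]; simp [pow_succ, mul_assoc]
      rw [this]; exact h1

theorem card_le (htop : Subgroup.closure {x, y} = ⊤) : Finite G ∧ Nat.card G ≤ 60 := by
  let f : Fin 5 × Fin 12 → G := fun p => y ^ (p.1 : ℕ) * w x y p.2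
  have hf : Function.Surjective f := by
    intro g
    obtain ⟨k, i, rfl⟩ := cover x y hx hy hxy g (by rw [htop]; trivial)
    have h5 : y ^ k = y ^ (k % ((5 : ℕ) : ℤ)) := zpow_eq_zpow_emod' k hy
    have hnn : 0 ≤ k % ((5 : ℕ) : ℤ) := Int.emod_nonneg _ (by norm_num)
    have hlt : k % ((5 : ℕ) : ℤ) < 5 := Int.emod_lt_of_pos _ (by norm_num)
    refine ⟨(⟨(k % ((5 : ℕ) : ℤ)).toNat, by omega⟩, i), ?_⟩
    show y ^ ((k % ((5 : ℕ) : ℤ)).toNat) * w x y i = y ^ k * w x y i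
    rw [h5, ← zpow_natCast, Int.toNat_of_nonneg hnn]
  have hfin : Finite G := Finite.of_surjective f hf
  refine ⟨hfin, ?_⟩
  have := Nat.card_le_card_of_surjective f hf
  simpa using this

end

def pa : Equiv.Perm (Fin 5) := Equiv.swap 0 3 * Equiv.swap 3 1
def pb : Equiv.Perm (Fin 5) := finRotate 5

theorem pa_mem : pa ∈ alternatingGroup (Fin 5) := by
  rw [Equiv.Perm.mem_alternatingGroup]; decide
theorem pb_mem : pb ∈ alternatingGroup (Fin 5) := by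
  rw [Equiv.Perm.mem_alternatingGroup]; decide

def a : alternatingGroup (Fin 5) := ⟨pa, pa_mem⟩
def b : alternatingGroup (Fin 5) := ⟨pb, pb_mem⟩

theorem a3 : a ^ 3 = 1 := by
  apply Subtype.ext; show pa ^ 3 = 1; decide
theorem b5 : b ^ 5 = 1 := by
  apply Subtype.ext; show pb ^ 5 = 1; decide
theorem ab2 : (a * b) ^ 2 = 1 := by
  apply Subtype.ext; show (pa * pb) ^ 2 = 1; decide
theorem a_ne : a ≠ 1 := by
  intro h; have := congrArg Subtype.val h; revert this; show pa ≠ 1; decide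
theorem b_ne : b ≠ 1 := by
  intro h; have := congrArg Subtype.val h; revert this; show pb ≠ 1; decide
theorem ab_ne : a * b ≠ 1 := by
  intro h; have := congrArg Subtype.val h; revert this; show pa * pb ≠ 1; decide


theorem result :
    Nonempty (PresentedGroup ({FreeGroup.of (0 : Fin 2) ^ 3, FreeGroup.of (1 : Fin 2) ^ 5,
        (FreeGroup.of (0 : Fin 2) * FreeGroup.of 1) ^ 2} : Set (FreeGroup (Fin 2))) ≃* alternatingGroup (Fin 5)) := by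
  set rels : Set (FreeGroup (Fin 2)) := {FreeGroup.of (0 : Fin 2) ^ 3, FreeGroup.of (1 : Fin 2) ^ 5,
        (FreeGroup.of (0 : Fin 2) * FreeGroup.of 1) ^ 2} with hrels
  let X : PresentedGroup rels := PresentedGroup.of 0
  let Y : PresentedGroup rels := PresentedGroup.of 1
  have hX : X ^ 3 = 1 := by
    have h : PresentedGroup.mk rels (FreeGroup.of (0 : Fin 2) ^ 3) = 1 :=
      PresentedGroup.one_of_mem (by simp [hrels])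
    rwa [map_pow] at h
  have hY : Y ^ 5 = 1 := by
    have h : PresentedGroup.mk rels (FreeGroup.of (1 : Fin 2) ^ 5) = 1 :=
      PresentedGroup.one_of_mem (by simp [hrels])
    rwa [map_pow] at h
  have hXY : (X * Y) ^ 2 = 1 := by
    have h : PresentedGroup.mk rels ((FreeGroup.of (0 : Fin 2) * FreeGroup.of 1) ^ 2) = 1 :=
      PresentedGroup.one_of_mem (by simp [hrels])
    rwa [map_pow, map_mul] at h
  have htop : Subgroup.closure {X, Y} = ⊤ := by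
    rw [← PresentedGroup.closure_range_of rels]
    congr 1
    ext z
    simp only [Set.mem_insert_iff, Set.mem_singleton_iff, Set.mem_range]
    constructor
    · rintro (rfl | rfl)
      · exact ⟨0, rfl⟩
      · exact ⟨1, rfl⟩
    · rintro ⟨i, rfl⟩
      fin_cases i
      · left; rfl
      · right; rfl
  obtain ⟨hfin, hcard⟩ := card_le X Y hX hY hXY htop
  -- the homomorphism to A5
  let f : Fin 2 → alternatingGroup (Fin 5) := ![a, b]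
  have hf : ∀ r ∈ rels, FreeGroup.lift f r = 1 := by
    intro r hr
    rcases hr with rfl | rfl | rfl
    · rw [map_pow, FreeGroup.lift_apply_of]; exact a3
    · rw [map_pow, FreeGroup.lift_apply_of]; exact b5
    · rw [map_pow, map_mul, FreeGroup.lift_apply_of, FreeGroup.lift_apply_of]; exact ab2
  let φ : PresentedGroup rels →* alternatingGroup (Fin 5) := PresentedGroup.toGroup hf
  have hφX : φ X = a := PresentedGroup.toGroup.of hf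
  have hφY : φ Y = b := PresentedGroup.toGroup.of hf
  -- surjectivity
  have ha_mem : a ∈ φ.range := ⟨X, hφX⟩
  have hb_mem : b ∈ φ.range := ⟨Y, hφY⟩
  have hab_mem : a * b ∈ φ.range := φ.range.mul_mem ha_mem hb_mem
  have ho3 : orderOf a = 3 := orderOf_eq_prime a3 a_ne
  have hp5 : Fact (Nat.Prime 5) := ⟨by norm_num⟩
  have ho5 : orderOf b = 5 := orderOf_eq_prime b5 b_ne
  have ho2 : orderOf (a * b) = 2 := orderOf_eq_prime ab2 ab_ne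
  have h3 : 3 ∣ Nat.card φ.range := by
    have := Subgroup.orderOf_dvd_natCard _ ha_mem; rwa [ho3] at this
  have h5 : 5 ∣ Nat.card φ.range := by
    have := Subgroup.orderOf_dvd_natCard _ hb_mem; rwa [ho5] at this
  have h2 : 2 ∣ Nat.card φ.range := by
    have := Subgroup.orderOf_dvd_natCard _ hab_mem; rwa [ho2] at this
  have hA5 : Nat.card (alternatingGroup (Fin 5)) = 60 := by
    rw [nat_card_alternatingGroup]; simp [Nat.factorial]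
  have h30 : 30 ∣ Nat.card φ.range := by
    have h6 : 6 ∣ Nat.card φ.range := Nat.Coprime.mul_dvd_of_dvd_of_dvd (by norm_num) h2 h3
    exact Nat.Coprime.mul_dvd_of_dvd_of_dvd (by norm_num) h6 h5
  have hdvd : Nat.card φ.range ∣ 60 := by
    rw [← hA5]; exact Subgroup.card_subgroup_dvd_card _
  have hidx : φ.range.index = 1 ∨ φ.range.index = 2 := by
    have hmul := Subgroup.card_mul_index φ.range
    rw [hA5] at hmul
    obtain ⟨c, hc⟩ := h30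
    rw [hc] at hmul
    have : c * φ.range.index = 2 := by nlinarith
    have hc0 : c ≠ 0 := by rintro rfl; simp at this
    have hle : φ.range.index ≤ 2 := by
      rcases Nat.eq_zero_or_pos φ.range.index with h0 | h0
      · omega
      · nlinarith [Nat.pos_of_ne_zero hc0]
    have hne : φ.range.index ≠ 0 := by rintro h0; rw [h0] at this; omega
    omega
  have hrange : φ.range = ⊤ := by
    rcases hidx with h1 | h2'
    · exact Subgroup.index_eq_one.mp h1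
    · have hn : φ.range.Normal := Subgroup.normal_of_index_eq_two h2'
      rcases hn.eq_bot_or_eq_top with hbot | htop'
      · exfalso
        rw [hbot, Subgroup.mem_bot] at ha_mem
        exact a_ne ha_mem
      · exact htop'
  have hsurj : Function.Surjective φ := MonoidHom.range_eq_top.mp hrange
  have hbij : Function.Bijective φ := by
    apply hsurj.bijective_of_nat_card_le
    rw [hA5]; exact hcard
  exact ⟨MulEquiv.ofBijective φ hbij⟩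

end Cfsg.Agent.S3377
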