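import Cfsg.Statements.S3378
import Cfsg.Agent.S3377
import Cfsg.Agent.Lib.Helper48.SL25Pres
import Cfsg.Agent.Lib.Helper48.Order120

set_option autoImplicit false
open Cfsg

namespace Cfsg.Agent.S3378

open Cfsg.Agent.Lib.Helper48

/-- the quaternion group of order eight has a unique involution -/
theorem quaternion_involution : ∀ g : QuaternionGroup 2, g * g = 1 → g = 1 ∨ g = QuaternionGroup.a 2 := by
  decide

/-- In a group whose Sylow `2`-subgroups are quaternion of order eight, two commuting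
involutions are equal. -/
theorem involution_unique {G : Type*} [Group G] [Finite G]
    (hQ : ∀ P : Sylow 2 G, Nonempty ((P : Subgroup G) ≃* QuaternionGroup 2)) (s t : G)
    (hs : s * s = 1) (ht : t * t = 1) (hs1 : s ≠ 1) (ht1 : t ≠ 1) (hst : s * t = t * s) :
    s = t := by
  have hp : ∀ u : G, u * u = 1 → IsPGroup 2 (Subgroup.zpowers u) := by
    intro u hu
    rintro ⟨g, hg⟩
    obtain ⟨k, rfl⟩ := Subgroup.mem_zpowers_iff.mp hg
    refine ⟨1, Subtype.ext ?_⟩
    show (u ^ k) ^ 2 ^ 1 = 1
    rw [pow_one, ← zpow_natCast, ← zpow_mul, mul_comm, zpow_mul, zpow_natCast, pow_two, hu, one_zpow]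
  have hle : Subgroup.zpowers s ≤ Subgroup.normalizer (Subgroup.zpowers t : Set G) := by
    rw [Subgroup.zpowers_le]
    apply Subgroup.centralizer_le_normalizer
    rw [Subgroup.mem_centralizer_iff]
    intro g hg
    obtain ⟨k, rfl⟩ := Subgroup.mem_zpowers_iff.mp (by simpa using hg)
    exact ((Commute.zpow_left (show Commute t s from hst.symm) k)).eq
  have hK : IsPGroup 2 (Subgroup.zpowers s ⊔ Subgroup.zpowers t : Subgroup G) :=
    IsPGroup.to_sup_of_normal_right' (hp s hs) (hp t ht) hle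
  obtain ⟨Q, hQle⟩ := hK.exists_le_sylow
  have hsQ : s ∈ (Q : Subgroup G) := hQle (le_sup_left (a := Subgroup.zpowers s) (Subgroup.mem_zpowers s))
  have htQ : t ∈ (Q : Subgroup G) := hQle (le_sup_right (b := Subgroup.zpowers t) (Subgroup.mem_zpowers t))
  obtain ⟨e⟩ := hQ Q
  have key : ∀ u : G, ∀ hu : u ∈ (Q : Subgroup G), u * u = 1 → u ≠ 1 →
      e ⟨u, hu⟩ = QuaternionGroup.a 2 := by
    intro u hu huu hu1
    have h1 : e ⟨u, hu⟩ * e ⟨u, hu⟩ = 1 := by
      rw [← map_mul]
      have : (⟨u, hu⟩ : (Q : Subgroup G)) * ⟨u, hu⟩ = 1 := Subtype.ext huu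
      rw [this, map_one]
    rcases quaternion_involution _ h1 with h | h
    · exfalso
      apply hu1
      have := e.injective (h.trans (map_one e).symm)
      exact congrArg Subtype.val this
    · exact h
  have := e.injective ((key s hsQ hs hs1).trans (key t htQ ht ht1).symm)
  exact congrArg Subtype.val this

/-! ### Facts about `A₅` -/

/-- the generators `a`, `b` of `S3377` generate `A₅` -/
theorem closure_ab : Subgroup.closure {S3377.a, S3377.b} = (⊤ : Subgroup (alternatingGroup (Fin 5))) := by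
  set H : Subgroup (alternatingGroup (Fin 5)) := Subgroup.closure {S3377.a, S3377.b} with hH
  have ha_mem : S3377.a ∈ H := Subgroup.subset_closure (by simp)
  have hb_mem : S3377.b ∈ H := Subgroup.subset_closure (by simp)
  have hab_mem : S3377.a * S3377.b ∈ H := H.mul_mem ha_mem hb_mem
  have ho3 : orderOf S3377.a = 3 := orderOf_eq_prime S3377.a3 S3377.a_ne
  have hp5 : Fact (Nat.Prime 5) := ⟨by norm_num⟩
  have ho5 : orderOf S3377.b = 5 := orderOf_eq_prime S3377.b5 S3377.b_ne
  have ho2 : orderOf (S3377.a * S3377.b) = 2 := orderOf_eq_prime S3377.ab2 S3377.ab_ne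
  have h3 : 3 ∣ Nat.card H := by
    have := Subgroup.orderOf_dvd_natCard _ ha_mem; rwa [ho3] at this
  have h5 : 5 ∣ Nat.card H := by
    have := Subgroup.orderOf_dvd_natCard _ hb_mem; rwa [ho5] at this
  have h2 : 2 ∣ Nat.card H := by
    have := Subgroup.orderOf_dvd_natCard _ hab_mem; rwa [ho2] at this
  have hA5 : Nat.card (alternatingGroup (Fin 5)) = 60 := by
    rw [nat_card_alternatingGroup]; simp [Nat.factorial]
  have h30 : 30 ∣ Nat.card H := by
    have h6 : 6 ∣ Nat.card H := Nat.Coprime.mul_dvd_of_dvd_of_dvd (by norm_num) h2 h3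
    exact Nat.Coprime.mul_dvd_of_dvd_of_dvd (by norm_num) h6 h5
  have hidx : H.index = 1 ∨ H.index = 2 := by
    have hmul := Subgroup.card_mul_index H
    rw [hA5] at hmul
    obtain ⟨c, hc⟩ := h30
    rw [hc] at hmul
    have h2' : c * H.index = 2 := by nlinarith
    have hc0 : c ≠ 0 := by rintro rfl; simp at h2'
    have hle : H.index ≤ 2 := by
      rcases Nat.eq_zero_or_pos H.index with h0 | h0
      · omega
      · nlinarith [Nat.pos_of_ne_zero hc0]
    have hne : H.index ≠ 0 := by rintro h0; rw [h0] at h2'; omega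
    omega
  rcases hidx with h1 | h2'
  · exact Subgroup.index_eq_one.mp h1
  · have hn : H.Normal := Subgroup.normal_of_index_eq_two h2'
    rcases hn.eq_bot_or_eq_top with hbot | htop'
    · exfalso
      rw [hbot, Subgroup.mem_bot] at ha_mem
      exact S3377.a_ne ha_mem
    · exact htop'

/-- a double transposition -/
def ps : Equiv.Perm (Fin 5) := Equiv.swap 0 1 * Equiv.swap 2 3
/-- another double transposition -/
def pt : Equiv.Perm (Fin 5) := Equiv.swap 0 2 * Equiv.swap 1 3

theorem ps_mem : ps ∈ alternatingGroup (Fin 5) := by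
  rw [Equiv.Perm.mem_alternatingGroup]; decide
theorem pt_mem : pt ∈ alternatingGroup (Fin 5) := by
  rw [Equiv.Perm.mem_alternatingGroup]; decide

/-- an involution of `A₅` -/
def s0 : alternatingGroup (Fin 5) := ⟨ps, ps_mem⟩
/-- a second involution of `A₅`, commuting with the first -/
def t0 : alternatingGroup (Fin 5) := ⟨pt, pt_mem⟩

theorem s0_sq : s0 * s0 = 1 := by
  apply Subtype.ext; show ps * ps = 1; decide
theorem t0_sq : t0 * t0 = 1 := by
  apply Subtype.ext; show pt * pt = 1; decide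
theorem s0_t0 : s0 * t0 = t0 * s0 := by
  apply Subtype.ext; show ps * pt = pt * ps; decide
theorem s0_ne : s0 ≠ 1 := by
  intro h; have := congrArg Subtype.val h; revert this; show ps ≠ 1; decide
theorem t0_ne : t0 ≠ 1 := by
  intro h; have := congrArg Subtype.val h; revert this; show pt ≠ 1; decide
theorem s0_ne_t0 : s0 ≠ t0 := by
  intro h; have := congrArg Subtype.val h; revert this; show ps ≠ pt; decide

/-- A group containing a copy of `A₅` has two distinct commuting involutions. -/
theorem false_of_A5 {G : Type*} [Group G] [Finite G]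
    (hQ : ∀ P : Sylow 2 G, Nonempty ((P : Subgroup G) ≃* QuaternionGroup 2))
    (f : alternatingGroup (Fin 5) →* G) (hf : Function.Injective f) : False := by
  have h1 : f s0 * f s0 = 1 := by rw [← map_mul, s0_sq, map_one]
  have h2 : f t0 * f t0 = 1 := by rw [← map_mul, t0_sq, map_one]
  have h3 : f s0 ≠ 1 := fun h => s0_ne (hf (h.trans (map_one f).symm))
  have h4 : f t0 ≠ 1 := fun h => t0_ne (hf (h.trans (map_one f).symm))
  have h5 : f s0 * f t0 = f t0 * f s0 := by rw [← map_mul, ← map_mul, s0_t0]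
  exact s0_ne_t0 (hf (involution_unique hQ _ _ h1 h2 h3 h4 h5))

/-- structure: a normal subgroup of order two with simple quotient of order sixty -/
theorem exists_center {G : Type*} [Group G] [Finite G] (hcard : Nat.card G = 120)
    (hns : ¬ Group.IsSolvable G)
    (hQ : ∀ P : Sylow 2 G, Nonempty ((P : Subgroup G) ≃* QuaternionGroup 2)) :
    ∃ (M : Subgroup G) (_ : M.Normal), Nat.card M = 2 ∧ IsSimpleGroup (G ⧸ M) ∧
      Nat.card (G ⧸ M) = 60 := by
  have : Nontrivial G := (Finite.one_lt_card_iff_nontrivial).mp (by rw [hcard]; norm_num)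
  have hs : ¬ IsSimpleGroup G := fun h => O120.not_simple_of_card_120 hcard
  obtain ⟨M, hMn, hMb, hMt⟩ := O120.exists_normal_of_not_simple hs
  obtain ⟨h1, h2, h3, h4, h5⟩ := O120.card_lt_of_normal M hMb hMt
  rw [hcard] at h1 h2 h3
  by_cases hMs : Group.IsSolvable M
  · have hqs : ¬ Group.IsSolvable (G ⧸ M) := fun h => hns (O120.solvable_of_normal M hMs h)
    have h60 : 60 ≤ Nat.card (G ⧸ M) := by
      by_contra hlt
      push Not at hlt
      exact hqs (O120.solvable_of_card_lt_sixty _ (G ⧸ M) rfl hlt)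
    have hq : Nat.card (G ⧸ M) = 60 ∧ Nat.card M = 2 := by
      have h6 : Nat.card (G ⧸ M) * 2 ≤ Nat.card (G ⧸ M) * Nat.card M :=
        Nat.mul_le_mul_left _ h4
      have h7 : Nat.card (G ⧸ M) = 60 := by omega
      rw [h7] at h3
      exact ⟨h7, by omega⟩
    exact ⟨M, hMn, hq.2, O120.simple_of_card_sixty hq.1 hqs, hq.1⟩
  · exfalso
    have h60 : 60 ≤ Nat.card M := by
      by_contra hlt
      push Not at hlt
      exact hMs (O120.solvable_of_card_lt_sixty _ M rfl hlt)
    have hM60 : Nat.card M = 60 := by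
      have h6 : 2 * Nat.card M ≤ Nat.card (G ⧸ M) * Nat.card M :=
        Nat.mul_le_mul_right _ h5
      omega
    have := O120.simple_of_card_sixty hM60 hMs
    obtain ⟨e⟩ := Cfsg.Agent.Lib.Helper5.mulEquiv_alternatingGroup_five_of_card_eq_sixty hM60
    exact false_of_A5 hQ (M.subtype.comp e.symm.toMonoidHom)
      (M.subtype_injective.comp e.symm.injective)

/-- Recognition of `SL(2,5)`. -/
theorem recognition {G : Type*} [Group G] [Finite G] (hcard : Nat.card G = 120)
    (hns : ¬ Group.IsSolvable G)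
    (hQ : ∀ P : Sylow 2 G, Nonempty ((P : Subgroup G) ≃* QuaternionGroup 2)) :
    Nonempty (G ≃* Matrix.SpecialLinearGroup (Fin 2) (ZMod 5)) := by
  obtain ⟨M, hMn, hM2, hsimp, hq60⟩ := exists_center hcard hns hQ
  obtain ⟨z, hzM, hz1, hzu⟩ : ∃ z ∈ M, z ≠ 1 ∧ ∀ m ∈ M, m ≠ 1 → m = z := by
    obtain ⟨⟨z, hz⟩, hz1, hzu⟩ := (Nat.card_eq_two_iff' (1 : M)).mp hM2
    refine ⟨z, hz, fun h => hz1 (Subtype.ext h), fun m hm hm1 => ?_⟩
    exact congrArg Subtype.val (hzu ⟨m, hm⟩ (fun h => hm1 (congrArg Subtype.val h)))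
  have hM_cases : ∀ m ∈ M, m = 1 ∨ m = z := fun m hm => by
    by_cases h : m = 1
    · exact Or.inl h
    · exact Or.inr (hzu m hm h)
  have hzz : z * z = 1 := by
    rcases hM_cases _ (M.mul_mem hzM hzM) with h | h
    · exact h
    · exfalso; exact hz1 (mul_eq_right.mp h)
  have hzc : ∀ g : G, g * z = z * g := by
    intro g
    have hmem : g * z * g⁻¹ ∈ M := hMn.conj_mem z hzM g
    rcases hM_cases _ hmem with h | h
    · exfalso
      apply hz1
      have := congrArg (fun w => g⁻¹ * w * g) h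
      simpa [mul_assoc] using this
    · calc g * z = g * z * g⁻¹ * g := by group
        _ = z * g := by rw [h]
  have hMsq : ∀ m ∈ M, m * m = 1 := by
    intro m hm
    rcases hM_cases m hm with rfl | rfl
    · simp
    · exact hzz
  obtain ⟨e⟩ := Cfsg.Agent.Lib.Helper5.mulEquiv_alternatingGroup_five_of_card_eq_sixty hq60
  -- generators of the quotient
  set xb : G ⧸ M := e.symm S3377.a with hxb
  set yb : G ⧸ M := e.symm S3377.b with hyb
  have hxb3 : xb ^ 3 = 1 := by rw [hxb, ← map_pow, S3377.a3, map_one]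
  have hyb5 : yb ^ 5 = 1 := by rw [hyb, ← map_pow, S3377.b5, map_one]
  have hxyb2 : (xb * yb) ^ 2 = 1 := by rw [hxb, hyb, ← map_mul, ← map_pow, S3377.ab2, map_one]
  have hxyb_ne : xb * yb ≠ 1 := by
    rw [hxb, hyb, ← map_mul]
    intro h
    exact S3377.ab_ne (e.symm.injective (h.trans (map_one _).symm))
  have hgenb : Subgroup.closure {xb, yb} = ⊤ := by
    have := congrArg (Subgroup.map e.symm.toMonoidHom) closure_ab
    rw [MonoidHom.map_closure, Subgroup.map_top_of_surjective _ e.symm.surjective] at this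
    rw [← this]
    congr 1
    ext w
    simp [Set.image_insert_eq, hxb, hyb]
  obtain ⟨x0, hx0⟩ := QuotientGroup.mk_surjective xb
  obtain ⟨y0, hy0⟩ := QuotientGroup.mk_surjective yb
  -- corrected lifts
  set x : G := x0 ^ 4 with hx
  set y : G := y0 ^ 6 with hy
  have hmkx : (QuotientGroup.mk x : G ⧸ M) = xb := by
    rw [hx, QuotientGroup.mk_pow, hx0]
    calc xb ^ 4 = xb ^ 3 * xb := pow_succ xb 3
      _ = xb := by rw [hxb3, one_mul]
  have hmky : (QuotientGroup.mk y : G ⧸ M) = yb := by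
    rw [hy, QuotientGroup.mk_pow, hy0]
    calc yb ^ 6 = yb ^ 5 * yb := pow_succ yb 5
      _ = yb := by rw [hyb5, one_mul]
  have hx3 : x ^ 3 = 1 := by
    have hmem : x0 ^ 3 ∈ M := by
      rw [← QuotientGroup.eq_one_iff, QuotientGroup.mk_pow, hx0, hxb3]
    have h6 : x0 ^ 6 = 1 := by
      have := hMsq _ hmem
      rw [← pow_add] at this
      exact this
    calc x ^ 3 = (x0 ^ 6) ^ 2 := by rw [hx, ← pow_mul, ← pow_mul]
      _ = 1 := by rw [h6, one_pow]
  have hy5 : y ^ 5 = 1 := by
    have hmem : y0 ^ 5 ∈ M := by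
      rw [← QuotientGroup.eq_one_iff, QuotientGroup.mk_pow, hy0, hyb5]
    have h10 : y0 ^ 10 = 1 := by
      have := hMsq _ hmem
      rw [← pow_add] at this
      exact this
    calc y ^ 5 = (y0 ^ 10) ^ 3 := by rw [hy, ← pow_mul, ← pow_mul]
      _ = 1 := by rw [h10, one_pow]
  -- the square of `x * y`
  have hwM : (x * y) ^ 2 ∈ M := by
    rw [← QuotientGroup.eq_one_iff, QuotientGroup.mk_pow, QuotientGroup.mk_mul, hmkx, hmky, hxyb2]
  have hxy : (x * y) ^ 2 = z := by
    rcases hM_cases _ hwM with h | h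
    · exfalso
      have ht : (x * y) * (x * y) = 1 := by rw [← pow_two]; exact h
      have ht1 : x * y ≠ 1 := by
        intro h1
        apply hxyb_ne
        rw [← hmkx, ← hmky, ← QuotientGroup.mk_mul, h1, QuotientGroup.mk_one]
      have := involution_unique hQ (x * y) z ht hzz ht1 hz1 (hzc (x * y))
      apply hxyb_ne
      rw [← hmkx, ← hmky, ← QuotientGroup.mk_mul, this]
      exact (QuotientGroup.eq_one_iff z).mpr hzM
    · exact h
  have hgen : Subgroup.closure {x, y} = ⊤ := by
    set H : Subgroup G := Subgroup.closure {x, y} with hH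
    have hxH : x ∈ H := Subgroup.subset_closure (by simp)
    have hyH : y ∈ H := Subgroup.subset_closure (by simp)
    have hzH : z ∈ H := by
      rw [← hxy]; exact H.pow_mem (H.mul_mem hxH hyH) 2
    have hMH : M ≤ H := by
      intro m hm
      rcases hM_cases m hm with rfl | rfl
      · exact H.one_mem
      · exact hzH
    have hmap : Subgroup.map (QuotientGroup.mk' M) H = ⊤ := by
      rw [hH, MonoidHom.map_closure, ← hgenb]
      congr 1
      ext w
      simp [Set.image_insert_eq, hmkx, hmky]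
    rw [eq_top_iff]
    intro g _
    have hg : (QuotientGroup.mk' M) g ∈ Subgroup.map (QuotientGroup.mk' M) H := by
      rw [hmap]; exact Subgroup.mem_top _
    obtain ⟨h, hhH, hhg⟩ := Subgroup.mem_map.mp hg
    have hmem : h⁻¹ * g ∈ M := QuotientGroup.eq.mp hhg
    have : g = h * (h⁻¹ * g) := by group
    rw [this]
    exact H.mul_mem hhH (hMH hmem)
  exact SL25.equiv_of_triple hcard x y z hx3 hy5 (by rw [pow_two]; exact hzz) (hzc x).symm
    (hzc y).symm hxy hgen

/-- Every non-solvable group of order 120 whose Sylow 2-subgroups are quaternion of order 8 is isomorphic to SL(2,5), and SL(2,5) has the presentation ⟨x, y, z | x³ = y⁵ = z² = 1, z⁻¹xz = x, z⁻¹yz = y, (xy)² = z⟩. -/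
theorem result :
    (∀ (G : Type*) [Group G] [Finite G], Nat.card G = 120 → ¬ Group.IsSolvable G →
      (∀ P : Sylow 2 G, Nonempty ((P : Subgroup G) ≃* QuaternionGroup 2)) →
      Nonempty (G ≃* Matrix.SpecialLinearGroup (Fin 2) (ZMod 5))) ∧
    Nonempty (PresentedGroup ({FreeGroup.of (0 : Fin 3) ^ 3, FreeGroup.of (1 : Fin 3) ^ 5, FreeGroup.of (2 : Fin 3) ^ 2,
        (FreeGroup.of (2 : Fin 3))⁻¹ * FreeGroup.of 0 * FreeGroup.of 2 * (FreeGroup.of (0 : Fin 3))⁻¹,
        (FreeGroup.of (2 : Fin 3))⁻¹ * FreeGroup.of 1 * FreeGroup.of 2 * (FreeGroup.of (1 : Fin 3))⁻¹,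
        (FreeGroup.of (0 : Fin 3) * FreeGroup.of 1) ^ 2 * (FreeGroup.of (2 : Fin 3))⁻¹} : Set (FreeGroup (Fin 3)))
      ≃* Matrix.SpecialLinearGroup (Fin 2) (ZMod 5)) := by
  refine ⟨fun G _ _ hcard hns hQ => recognition hcard hns hQ, ?_⟩
  exact SL25.presEquiv

end Cfsg.Agent.S3378
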