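import Cfsg.Statements.S0686
import Cfsg.Agent.Lib.Helper12.ZTop
import Cfsg.Agent.Lib.Helper12.NearQ8

set_option autoImplicit false
open Cfsg
open Cfsg.Agent.Lib.Helper12

namespace Cfsg.Agent.S0686

/-- In a linear group over the prime field that is regular on non-zero vectors and has no irreducible cyclic normal subgroup, let `A` be a maximal normal abelian subgroup and `N` a normal subgroup centralising `A` that is minimal among non-abelian normal subgroups centralising `A`. Then `N` is quaternion of order 8 or isomorphic to `SL(2,5)`. -/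
theorem result {p : ℕ} [Fact p.Prime] {V : Type*} [AddCommGroup V] [Module (ZMod p) V] [Finite V] (H : Subgroup (V ≃ₗ[ZMod p] V)) (hreg : ∀ v w : V, v ≠ 0 → w ≠ 0 → ∃! h : H, (h : V ≃ₗ[ZMod p] V) v = w) (hI : ∀ A : Subgroup H, A.Normal → IsCyclic A → ∃ W : Submodule (ZMod p) V, W ≠ ⊥ ∧ W ≠ ⊤ ∧ ∀ a ∈ A, ∀ v ∈ W, ((a : H) : V ≃ₗ[ZMod p] V) v ∈ W) (A : Subgroup H) (hAn : A.Normal) (hAc : IsMulCommutative A) (hAmax : ∀ B : Subgroup H, B.Normal → IsMulCommutative B → A ≤ B → B = A) (N : Subgroup H) (hNn : N.Normal) (hNle : N ≤ Subgroup.centralizer (A : Set H)) (hNna : ¬ IsMulCommutative N) (hNmin : ∀ M : Subgroup H, M.Normal → M ≤ N → ¬ IsMulCommutative M → M = N) : Nonempty (N ≃* QuaternionGroup 2) ∨ Nonempty (N ≃* Matrix.SpecialLinearGroup (Fin 2) (ZMod 5)) := by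
  classical
  have hfinGL : Finite (V ≃ₗ[ZMod p] V) :=
    Finite.of_injective (fun f => (f : V → V)) DFunLike.coe_injective
  by_cases hsolv : Group.IsSolvable N
  · left
    exact NearQ8.quat_of_solvable H hreg A hAn hAc hAmax N hNn hNle hNna hNmin
  right
  have hN'n : (⁅N, N⁆ : Subgroup H).Normal := Subgroup.commutator_normal N N
  have hN'le : (⁅N, N⁆ : Subgroup H) ≤ N := Subgroup.commutator_le_right N N
  have hmap : (commutator N).map N.subtype = ⁅N, N⁆ := Subgroup.map_subtype_commutator N
  by_cases hN'c : IsMulCommutative (⁅N, N⁆ : Subgroup H)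
  · exfalso
    apply hsolv
    have hcc : ∀ a b : commutator N, a * b = b * a := by
      intro a b
      have ha : ((a : N) : H) ∈ (⁅N, N⁆ : Subgroup H) := by
        rw [← hmap]; exact ⟨a.1, a.2, rfl⟩
      have hb : ((b : N) : H) ∈ (⁅N, N⁆ : Subgroup H) := by
        rw [← hmap]; exact ⟨b.1, b.2, rfl⟩
      have := hN'c.is_comm.comm ⟨_, ha⟩ ⟨_, hb⟩
      apply Subtype.ext
      apply Subtype.ext
      have h2 := congrArg Subtype.val this
      exact h2
    have h1 : Group.IsSolvable (commutator N) := Group.isSolvable_of_comm hcc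
    exact Group.isSolvable_of_ker_le_range (commutator N).subtype (Abelianization.of (G := N))
      (by rw [Abelianization.ker_of, Subgroup.range_subtype])
  · have hN'eq : (⁅N, N⁆ : Subgroup H) = N := hNmin _ hN'n hN'le hN'c
    have hperf : commutator N = ⊤ := by
      apply Subgroup.map_injective N.subtype_injective
      rw [hmap, ← MonoidHom.range_eq_map, Subgroup.range_subtype]
      exact hN'eq
    have hntN : Nontrivial N := by
      by_contra hK
      rw [not_nontrivial_iff_subsingleton] at hK
      exact hNna ⟨⟨fun a b => Subsingleton.elim _ _⟩⟩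
    let toAut : (V ≃ₗ[ZMod p] V) →* MulAut (Multiplicative V) :=
      { toFun := fun f => AddEquiv.toMultiplicative f.toAddEquiv
        map_one' := by ext x; rfl
        map_mul' := fun f g => by ext x; rfl }
    let φ : N →* MulAut (Multiplicative V) := toAut.comp (H.subtype.comp N.subtype)
    have hφ : ∀ g : N, g ≠ 1 → ∀ n : Multiplicative V, φ g n = n → n = 1 := by
      intro g hg n hn
      by_contra hn1
      have hv : Multiplicative.toAdd n ≠ 0 := fun e => hn1 (by
        rw [← ofAdd_toAdd n, e]; rfl)
      have hgv : ((g : H) : V ≃ₗ[ZMod p] V) (Multiplicative.toAdd n) = Multiplicative.toAdd n :=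
        congrArg Multiplicative.toAdd hn
      obtain ⟨h₀, -, huniq⟩ := hreg _ _ hv hv
      have e1 := huniq (g : H) hgv
      have e2 := huniq 1 rfl
      apply hg
      apply Subtype.ext
      rw [e1, ← e2]; rfl
    have hntV : Nontrivial (Multiplicative V) := by
      by_contra hK
      rw [not_nontrivial_iff_subsingleton] at hK
      obtain ⟨g, hg⟩ := exists_ne (1 : N)
      apply hg
      apply Subtype.ext
      apply Subtype.ext
      ext v
      have : Multiplicative.ofAdd (((g : H) : V ≃ₗ[ZMod p] V) v) = Multiplicative.ofAdd v :=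
        Subsingleton.elim _ _
      exact this
    have hF : ZF.IsFpf N := ⟨Multiplicative V, inferInstance, inferInstance, φ, hntV, hφ⟩
    exact ZT.zassenhaus hF hperf

end Cfsg.Agent.S0686
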