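import Mathlib
import Cfsg.Statements.S0728

set_option autoImplicit false
open Cfsg

namespace Cfsg.Agent.S0728

open Equiv MulAction

section

variable {α : Type*} [Fintype α] [DecidableEq α]

/-- sharpness of the action on triples, pointwise form -/
def Sharp3 (G : Subgroup (Perm α)) : Prop :=
  ∀ g ∈ G, ∀ c d e : α, c ≠ d → c ≠ e → d ≠ e → g c = c → g d = d → g e = e → g = 1

/-- 3-transitivity, pointwise form -/
def Trans3 (G : Subgroup (Perm α)) : Prop :=
  ∀ c d e c' d' e' : α, c ≠ d → c ≠ e → d ≠ e → c' ≠ d' → c' ≠ e' → d' ≠ e' →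
    ∃ g ∈ G, g c = c' ∧ g d = d' ∧ g e = e'

/-- the fixed points of a permutation -/
def fixF (g : Perm α) : Finset α := Finset.univ.filter (fun x => g x = x)

theorem mem_fixF {g : Perm α} {x : α} : x ∈ fixF g ↔ g x = x := by
  simp [fixF]

theorem card_fixF_le {G : Subgroup (Perm α)} (hs : Sharp3 G) {g : Perm α} (hg : g ∈ G)
    (h1 : g ≠ 1) : (fixF g).card ≤ 2 := by
  by_contra hlt
  obtain ⟨c, d, e, hc, hd, he, hcd, hce, hde⟩ :=
    Finset.two_lt_card_iff.1 (by omega : 2 < (fixF g).card)
  rw [mem_fixF] at hc hd he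
  exact h1 (hs g hg c d e hcd hce hde hc hd he)

theorem card_mod3 (g : Perm α) (hg : g ^ 3 = 1) :
    Fintype.card α ≡ (fixF g).card [MOD 3] := by
  have : Fact (Nat.Prime 3) := ⟨Nat.prime_three⟩
  have hP : IsPGroup 3 (Subgroup.zpowers g) := by
    rintro ⟨x, hx⟩
    obtain ⟨j, rfl⟩ := Subgroup.mem_zpowers_iff.1 hx
    refine ⟨1, ?_⟩
    apply Subtype.ext
    show (g ^ j) ^ (3 ^ 1) = 1
    rw [pow_one, ← zpow_natCast, ← zpow_mul, mul_comm, zpow_mul, zpow_natCast, hg, one_zpow]
  have h := hP.card_modEq_card_fixedPoints α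
  rw [Nat.card_eq_fintype_card] at h
  have h2 : Nat.card (fixedPoints (Subgroup.zpowers g) α) = (fixF g).card := by
    unfold fixF
    rw [← Fintype.card_subtype, ← Nat.card_eq_fintype_card]
    apply Nat.card_congr
    apply Equiv.subtypeEquivRight
    intro x
    constructor
    · intro hx
      exact hx ⟨g, Subgroup.mem_zpowers g⟩
    · rintro hx ⟨y, hy⟩
      obtain ⟨j, rfl⟩ := Subgroup.mem_zpowers_iff.1 hy
      show (g ^ j) x = x
      exact Perm.zpow_apply_eq_self_of_apply_eq_self hx j
  rw [h2] at h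
  exact h

open Classical in
/-- the elements of order 3 -/
noncomputable def T (G : Subgroup (Perm α)) : Finset (Perm α) :=
  Finset.univ.filter (fun g => g ∈ G ∧ g ≠ 1 ∧ g ^ 3 = 1)

theorem mem_T {G : Subgroup (Perm α)} {g : Perm α} : g ∈ T G ↔ g ∈ G ∧ g ≠ 1 ∧ g ^ 3 = 1 := by
  simp [T]

/-- if some element of order 3 has two fixed points, all of them do -/
theorem card_fixF_eq_two {G : Subgroup (Perm α)} (hs : Sharp3 G) {x : Perm α} (hx : x ∈ T G)
    (hx2 : (fixF x).card = 2) {g : Perm α} (hg : g ∈ T G) : (fixF g).card = 2 := by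
  rw [mem_T] at hx hg
  have h1 := card_mod3 x hx.2.2
  have h2 := card_mod3 g hg.2.2
  have h3 := card_fixF_le hs hg.1 hg.2.1
  rw [hx2] at h1
  have h4 : (fixF g).card ≡ 2 [MOD 3] := h2.symm.trans h1
  unfold Nat.ModEq at h4
  omega

/-- the elements of order 3 fixing two given points -/
noncomputable def Tcd (G : Subgroup (Perm α)) (c d : α) : Finset (Perm α) :=
  (T G).filter (fun g => g c = c ∧ g d = d)

theorem Tcd_card_eq {G : Subgroup (Perm α)} {a b c d : α} {k : Perm α} (hk : k ∈ G)
    (hka : k a = c) (hkb : k b = d) : (Tcd G a b).card = (Tcd G c d).card := by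
  apply Finset.card_equiv (MulAut.conj k).toEquiv
  intro g
  simp only [Tcd, Finset.mem_filter, mem_T, MulEquiv.toEquiv_eq_coe, EquivLike.coe_coe,
    MulAut.conj_apply]
  constructor
  · rintro ⟨⟨hg, hg1, hg3⟩, hga, hgb⟩
    refine ⟨⟨G.mul_mem (G.mul_mem hk hg) (G.inv_mem hk), ?_, ?_⟩, ?_, ?_⟩
    · intro h
      apply hg1
      have : g = k⁻¹ * (k * g * k⁻¹) * k := by group
      rw [this, h]; group
    · rw [conj_pow, hg3]; group
    · rw [← hka]; simp [hga]
    · rw [← hkb]; simp [hgb]
  · rintro ⟨⟨hg, hg1, hg3⟩, hga, hgb⟩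
    refine ⟨⟨?_, ?_, ?_⟩, ?_, ?_⟩
    · have : g = k⁻¹ * (k * g * k⁻¹) * k := by group
      rw [this]
      exact G.mul_mem (G.mul_mem (G.inv_mem hk) hg) hk
    · rintro rfl
      apply hg1; group
    · rw [conj_pow] at hg3
      have : g ^ 3 = k⁻¹ * (k * g ^ 3 * k⁻¹) * k := by group
      rw [this, hg3]; group
    · rw [← hka] at hga
      simpa using hga
    · rw [← hkb] at hgb
      simpa using hgb

/-- double counting of pairs (element of order 3, ordered pair of fixed points) -/
theorem sum_Tcd {G : Subgroup (Perm α)} (h2 : ∀ g ∈ T G, (fixF g).card = 2) :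
    ∑ p ∈ (Finset.univ : Finset α).offDiag, (Tcd G p.1 p.2).card = 2 * (T G).card := by
  classical
  have h := Finset.sum_card_bipartiteAbove_eq_sum_card_bipartiteBelow
    (s := (Finset.univ : Finset α).offDiag) (t := T G)
    (r := fun (p : α × α) (g : Perm α) => g p.1 = p.1 ∧ g p.2 = p.2)
  have hl : ∀ p ∈ (Finset.univ : Finset α).offDiag,
      ((T G).bipartiteAbove (fun (p : α × α) (g : Perm α) => g p.1 = p.1 ∧ g p.2 = p.2) p).card =
      (Tcd G p.1 p.2).card := by
    intro p _
    rfl
  have hr : ∀ g ∈ T G, (((Finset.univ : Finset α).offDiag).bipartiteBelow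
      (fun (p : α × α) (g : Perm α) => g p.1 = p.1 ∧ g p.2 = p.2) g).card = 2 := by
    intro g hg
    have : ((Finset.univ : Finset α).offDiag).bipartiteBelow
      (fun (p : α × α) (g : Perm α) => g p.1 = p.1 ∧ g p.2 = p.2) g = (fixF g).offDiag := by
      ext p
      simp only [Finset.bipartiteBelow, Finset.mem_filter, Finset.mem_offDiag, Finset.mem_univ,
        true_and, mem_fixF]
      tauto
    rw [this, Finset.offDiag_card, h2 g hg]
  rw [Finset.sum_congr rfl hl, Finset.sum_congr rfl hr, Finset.sum_const, smul_eq_mul,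
    mul_comm] at h
  exact h


/-- the embedding attached to three distinct points -/
def emb3 (c d e : α) (hcd : c ≠ d) (hce : c ≠ e) (hde : d ≠ e) : Fin 3 ↪ α :=
  ⟨![c, d, e], by
    intro i j h
    fin_cases i <;> fin_cases j <;> simp_all⟩

theorem card_T {G : Subgroup (Perm α)} (hs : Sharp3 G) (ht : Trans3 G)
    (h2 : ∀ g ∈ T G, (fixF g).card = 2) :
    (T G).card * (Fintype.card α - 2) = Fintype.card (Fin 3 ↪ α) := by
  classical
  have hmove : ∀ g ∈ T G, (Finset.univ.filter (fun c : α => g c ≠ c)).card = Fintype.card α - 2 := by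
    intro g hg
    have : Finset.univ.filter (fun c : α => g c ≠ c) = Finset.univ \ fixF g := by
      ext c; simp [mem_fixF]
    rw [this, Finset.card_sdiff_of_subset (Finset.subset_univ _), h2 g hg, Finset.card_univ]
  have hY : ((T G).sigma (fun g => Finset.univ.filter (fun c : α => g c ≠ c))).card =
      (T G).card * (Fintype.card α - 2) := by
    rw [Finset.card_sigma, Finset.sum_congr rfl hmove, Finset.sum_const, smul_eq_mul]
  rw [← hY, ← Finset.card_univ]
  have hdist : ∀ y : (Σ _ : Perm α, α),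
      y ∈ (T G).sigma (fun g => Finset.univ.filter (fun c : α => g c ≠ c)) →
      y.2 ≠ y.1 y.2 ∧ y.2 ≠ y.1 (y.1 y.2) ∧ y.1 y.2 ≠ y.1 (y.1 y.2) := by
    rintro ⟨g, c⟩ hy
    simp only [Finset.mem_sigma, Finset.mem_filter, Finset.mem_univ, true_and, mem_T] at hy
    obtain ⟨⟨hg, hg1, hg3⟩, hgc⟩ := hy
    refine ⟨fun h => hgc h.symm, ?_, ?_⟩
    · intro h
      apply hgc
      have h3 := congrArg (fun σ : Perm α => σ c) hg3
      simp only [pow_succ, pow_zero, one_mul, Perm.coe_mul, Function.comp_apply,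
        Perm.coe_one, id_eq] at h3
      rw [← h] at h3
      exact h3
    · intro h
      exact hgc (g.injective h).symm
  apply Finset.card_bij (fun y hy => emb3 y.2 (y.1 y.2) (y.1 (y.1 y.2)) (hdist y hy).1
    (hdist y hy).2.1 (hdist y hy).2.2)
  · intro y hy
    exact Finset.mem_univ _
  · rintro ⟨g, c⟩ hy ⟨g', c'⟩ hy' heq
    have e0 : c = c' := congrArg (fun f : Fin 3 ↪ α => f 0) heq
    have e1 : g c = g' c' := congrArg (fun f : Fin 3 ↪ α => f 1) heq
    have e2 : g (g c) = g' (g' c') := congrArg (fun f : Fin 3 ↪ α => f 2) heq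
    have hd := hdist _ hy
    simp only at hd
    simp only [Finset.mem_sigma, Finset.mem_filter, Finset.mem_univ, true_and, mem_T] at hy hy'
    obtain ⟨⟨hg, hg1, hg3⟩, hgc⟩ := hy
    obtain ⟨⟨hg', hg1', hg3'⟩, hgc'⟩ := hy'
    subst e0
    have h3 : ∀ z, g (g (g z)) = z := by
      intro z
      have h3 := congrArg (fun σ : Perm α => σ z) hg3
      simpa [pow_succ] using h3
    have h3' : ∀ z, g' (g' (g' z)) = z := by
      intro z
      have h3 := congrArg (fun σ : Perm α => σ z) hg3'
      simpa [pow_succ] using h3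
    have hk : g'⁻¹ * g = 1 := by
      apply hs _ (G.mul_mem (G.inv_mem hg') hg) c (g c) (g (g c)) hd.1 hd.2.1 hd.2.2
      · simp only [Perm.coe_mul, Function.comp_apply]
        rw [e1]; simp
      · simp only [Perm.coe_mul, Function.comp_apply]
        rw [e2, ← e1]; simp
      · simp only [Perm.coe_mul, Function.comp_apply]
        rw [h3 c, Perm.inv_eq_iff_eq, e2, h3']
    have : g = g' := by
      rw [inv_mul_eq_one] at hk
      exact hk.symm
    subst this
    rfl
  · intro x _
    have h01 : x 0 ≠ x 1 := fun h => by simpa using x.injective h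
    have h02 : x 0 ≠ x 2 := fun h => by simpa using x.injective h
    have h12 : x 1 ≠ x 2 := fun h => by simpa using x.injective h
    obtain ⟨g, hg, hg0, hg1, hg2⟩ := ht (x 0) (x 1) (x 2) (x 1) (x 2) (x 0) h01 h02 h12 h12
      h01.symm h02.symm
    have hg3 : g ^ 3 = 1 := by
      apply hs _ (G.pow_mem hg 3) (x 0) (x 1) (x 2) h01 h02 h12
      · simp [pow_succ, hg0, hg1, hg2]
      · simp [pow_succ, hg0, hg1, hg2]
      · simp [pow_succ, hg0, hg1, hg2]
    have hgne : g ≠ 1 := by
      rintro rfl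
      exact h01 (by simpa using hg0)
    refine ⟨⟨g, x 0⟩, ?_, ?_⟩
    · simp only [Finset.mem_sigma, Finset.mem_filter, Finset.mem_univ, true_and, mem_T]
      exact ⟨⟨hg, hgne, hg3⟩, by rw [hg0]; exact h01.symm⟩
    · ext i
      fin_cases i
      · rfl
      · exact hg0
      · show g (g (x 0)) = x 2
        rw [hg0, hg1]


theorem mem_T_of_mem {G : Subgroup (Perm α)} {a b : α} (A : Subgroup G)
    (hA : A ≤ stabilizer G a ⊓ stabilizer G b) (hA3 : Nat.card A = 3) {g : G} (hg : g ∈ A)
    (hg1 : g ≠ 1) : (g : Perm α) ∈ Tcd G a b := by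
  have hfin : Finite A := Nat.finite_of_card_ne_zero (by rw [hA3]; norm_num)
  have h3 : (⟨g, hg⟩ : A) ^ 3 = 1 := by
    rw [← hA3]; exact pow_card_eq_one'
  have h3' : (g : Perm α) ^ 3 = 1 := by
    have := congrArg (fun t : A => ((t : G) : Perm α)) h3
    simpa using this
  have hab := hA hg
  rw [Subgroup.mem_inf, mem_stabilizer_iff, mem_stabilizer_iff] at hab
  simp only [Tcd, Finset.mem_filter, mem_T]
  refine ⟨⟨g.2, ?_, h3'⟩, hab.1, hab.2⟩
  intro h
  exact hg1 (Subtype.ext h)

theorem sub_eq {G : Subgroup (Perm α)} {a b : α} (hm : (Tcd G a b).card = 2) (A : Subgroup G)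
    (hA : A ≤ stabilizer G a ⊓ stabilizer G b) (hA3 : Nat.card A = 3) (g : G) :
    g ∈ A ↔ (g = 1 ∨ (g : Perm α) ∈ Tcd G a b) := by
  classical
  constructor
  · intro hg
    by_cases hg1 : g = 1
    · exact Or.inl hg1
    · exact Or.inr (mem_T_of_mem A hA hA3 hg hg1)
  · rintro (rfl | hg)
    · exact A.one_mem
    · have hfin : Finite A := Nat.finite_of_card_ne_zero (by rw [hA3]; norm_num)
      let _ : Fintype A := Fintype.ofFinite A
      let f : A → Perm α := fun x => ((x : G) : Perm α)
      have hf : Function.Injective f := fun x y hxy => Subtype.ext (Subtype.ext hxy)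
      have hc : (Finset.univ.image f).card = 3 := by
        rw [Finset.card_image_of_injective _ hf, Finset.card_univ, ← Nat.card_eq_fintype_card, hA3]
      have h1 : (1 : Perm α) ∈ Finset.univ.image f :=
        Finset.mem_image.2 ⟨1, Finset.mem_univ _, rfl⟩
      have hc2 : ((Finset.univ.image f).erase 1).card = 2 := by
        rw [Finset.card_erase_of_mem h1, hc]
      have hsub : (Finset.univ.image f).erase 1 ⊆ Tcd G a b := by
        intro σ hσ
        rw [Finset.mem_erase, Finset.mem_image] at hσ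
        obtain ⟨hσ1, x, _, rfl⟩ := hσ
        exact mem_T_of_mem A hA hA3 x.2 (fun h => hσ1 (by rw [show f x = ((x : G) : Perm α) from rfl, h]; rfl))
      have heq := Finset.eq_of_subset_of_card_le hsub (by rw [hm, hc2])
      rw [← heq, Finset.mem_erase, Finset.mem_image] at hg
      obtain ⟨_, x, _, hx⟩ := hg
      have : (x : G) = g := Subtype.ext hx
      rw [← this]
      exact x.2

end

/-- In a sharply triply transitive group of even degree at least 6 (degree `q + 1`, `q` odd), a two-point stabiliser has at most one subgroup of order 3. -/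
theorem result {α : Type*} [Fintype α] [DecidableEq α] (heven : Even (Fintype.card α)) (h6 : 6 ≤ Fintype.card α) (G : Subgroup (Equiv.Perm α)) (h3 : MulAction.IsMultiplyPretransitive G α 3) (hsharp : ∀ x : Fin 3 ↪ α, MulAction.stabilizer G x = ⊥) {a b : α} (hab : a ≠ b) (A B : Subgroup G) (hA : A ≤ MulAction.stabilizer G a ⊓ MulAction.stabilizer G b) (hB : B ≤ MulAction.stabilizer G a ⊓ MulAction.stabilizer G b) (hA3 : Nat.card A = 3) (hB3 : Nat.card B = 3) : A = B := by
  classical
  have hs : Sharp3 G := by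
    intro g hg c d e hcd hce hde hc hd he
    have : (⟨g, hg⟩ : G) ∈ stabilizer G (emb3 c d e hcd hce hde) := by
      rw [mem_stabilizer_iff]
      ext i
      fin_cases i
      · exact hc
      · exact hd
      · exact he
    rw [hsharp, Subgroup.mem_bot] at this
    exact congrArg Subtype.val this
  have ht : Trans3 G := by
    intro c d e c' d' e' hcd hce hde hcd' hce' hde'
    obtain ⟨k, hk⟩ := h3.exists_smul_eq (emb3 c d e hcd hce hde) (emb3 c' d' e' hcd' hce' hde')
    refine ⟨k, k.2, ?_, ?_, ?_⟩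
    · exact congrArg (fun f : Fin 3 ↪ α => f 0) hk
    · exact congrArg (fun f : Fin 3 ↪ α => f 1) hk
    · exact congrArg (fun f : Fin 3 ↪ α => f 2) hk
  -- an element of order 3 in A
  have hAne : A ≠ ⊥ := by
    rintro rfl
    rw [Subgroup.card_bot] at hA3
    omega
  obtain ⟨x0, hx0⟩ := (Subgroup.ne_bot_iff_exists_ne_one).1 hAne
  have hx0' : (x0 : G) ≠ 1 := fun h => hx0 (Subtype.ext h)
  have hxT := mem_T_of_mem A hA hA3 x0.2 hx0'
  simp only [Tcd, Finset.mem_filter] at hxT
  obtain ⟨hxT, hxa, hxb⟩ := hxT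
  have hx2 : (fixF ((x0 : G) : Perm α)).card = 2 := by
    apply le_antisymm (card_fixF_le hs (mem_T.1 hxT).1 (mem_T.1 hxT).2.1)
    have hsub : ({a, b} : Finset α) ⊆ fixF ((x0 : G) : Perm α) := by
      intro z hz
      rw [Finset.mem_insert, Finset.mem_singleton] at hz
      rw [mem_fixF]
      rcases hz with rfl | rfl
      · exact hxa
      · exact hxb
    have := Finset.card_le_card hsub
    rwa [Finset.card_pair hab] at this
  have h2all : ∀ g ∈ T G, (fixF g).card = 2 := fun g hg => card_fixF_eq_two hs hxT hx2 hg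
  have hsum := sum_Tcd h2all
  have h2t : IsMultiplyPretransitive G α 2 :=
    isMultiplyPretransitive_of_le (n := 3) (by norm_num) (by rw [Nat.card_eq_fintype_card]; omega)
  have hconst : ∀ p ∈ (Finset.univ : Finset α).offDiag, (Tcd G p.1 p.2).card = (Tcd G a b).card := by
    intro p hp
    rw [Finset.mem_offDiag] at hp
    obtain ⟨k, hka, hkb⟩ := (is_two_pretransitive_iff.1 h2t) hab hp.2.2
    exact (Tcd_card_eq k.2 hka hkb).symm
  rw [Finset.sum_congr rfl hconst, Finset.sum_const, smul_eq_mul, Finset.offDiag_card,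
    Finset.card_univ] at hsum
  have hT := card_T hs ht h2all
  rw [Fintype.card_embedding_eq, Fintype.card_fin] at hT
  have hdf : (Fintype.card α).descFactorial 3 =
      Fintype.card α * (Fintype.card α - 1) * (Fintype.card α - 2) := by
    simp [Nat.descFactorial]
    ring
  rw [hdf] at hT
  have hT' : (T G).card = Fintype.card α * (Fintype.card α - 1) :=
    Nat.eq_of_mul_eq_mul_right (by omega : 0 < Fintype.card α - 2) hT
  have hnn : Fintype.card α * Fintype.card α - Fintype.card α =
      Fintype.card α * (Fintype.card α - 1) := by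
    rw [Nat.mul_sub_one]
  rw [hnn, hT', mul_comm 2] at hsum
  have hpos : 0 < Fintype.card α * (Fintype.card α - 1) :=
    Nat.mul_pos (by omega) (by omega)
  have hm : (Tcd G a b).card = 2 := Nat.eq_of_mul_eq_mul_left hpos hsum
  ext g
  rw [sub_eq hm A hA hA3, sub_eq hm B hB hB3]

end Cfsg.Agent.S0728
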