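import Mathlib
import Cfsg.Statements.S0727
import Cfsg.Agent.S0728
import Cfsg.Agent.S1230
import Cfsg.Agent.Lib.Helper12.Sharp2
import Cfsg.Agent.Lib.Helper5.PGL2Sharp

set_option autoImplicit false
set_option linter.unusedSectionVars false
open Cfsg

namespace Cfsg.Agent.S0727

open Equiv MulAction
open Cfsg.Agent.S0728 (Sharp3 Trans3 emb3)
open Cfsg.Agent.Lib.Helper12.Sharp2

section

variable {α : Type*} [Fintype α] [DecidableEq α]

noncomputable instance instFintypeOfStab (G : Subgroup (Perm α)) (x : α) :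
    Fintype (SubMulAction.ofStabilizer G x) := Fintype.ofFinite _

theorem sharp3_of {G : Subgroup (Perm α)}
    (hsharp : ∀ x : Fin 3 ↪ α, MulAction.stabilizer G x = ⊥) : Sharp3 G := by
  intro g hg c d e hcd hce hde hc hd he
  have : (⟨g, hg⟩ : G) ∈ stabilizer G (emb3 c d e hcd hce hde) := by
    rw [mem_stabilizer_iff]
    ext i
    fin_cases i
    · exact hc
    · exact hd
    · exact he
  rw [hsharp, Subgroup.mem_bot] at this
  exact congrArg Subtype.val this

theorem trans3_of {G : Subgroup (Perm α)} (h3 : MulAction.IsMultiplyPretransitive G α 3) :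
    Trans3 G := by
  intro c d e c' d' e' hcd hce hde hcd' hce' hde'
  obtain ⟨k, hk⟩ := h3.exists_smul_eq (emb3 c d e hcd hce hde) (emb3 c' d' e' hcd' hce' hde')
  refine ⟨k, k.2, ?_, ?_, ?_⟩
  · exact congrArg (fun f : Fin 3 ↪ α => f 0) hk
  · exact congrArg (fun f : Fin 3 ↪ α => f 1) hk
  · exact congrArg (fun f : Fin 3 ↪ α => f 2) hk

theorem card_G {G : Subgroup (Perm α)} (h3 : MulAction.IsMultiplyPretransitive G α 3)
    (hsharp : ∀ x : Fin 3 ↪ α, MulAction.stabilizer G x = ⊥) (hα : 3 ≤ Fintype.card α) :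
    Nat.card G = Fintype.card α * (Fintype.card α - 1) * (Fintype.card α - 2) := by
  obtain ⟨x⟩ : Nonempty (Fin 3 ↪ α) := by
    rw [Function.Embedding.nonempty_iff_card_le]
    simpa using hα
  have h : (stabilizer G x).index = Nat.card (Fin 3 ↪ α) :=
    @MulAction.index_stabilizer_of_transitive G _ _ _ x h3
  rw [hsharp, Subgroup.index_bot] at h
  rw [h, Nat.card_eq_fintype_card, Fintype.card_embedding_eq, Fintype.card_fin]
  simp [Nat.descFactorial]
  have : Fintype.card α - 2 = Fintype.card α - 1 - 1 := by omega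
  rw [this]
  ring

theorem exists_third (h3 : 3 ≤ Fintype.card α) (x y : α) : ∃ w, w ≠ x ∧ w ≠ y := by
  by_contra h
  simp only [not_exists, not_and, not_not] at h
  have hsub : (Finset.univ : Finset α) ⊆ {x, y} := by
    intro w _
    rw [Finset.mem_insert, Finset.mem_singleton]
    by_cases hw : w = x
    · exact Or.inl hw
    · exact Or.inr (h w hw)
  have := Finset.card_le_card hsub
  rw [Finset.card_univ] at this
  have h2 : ({x, y} : Finset α).card ≤ 2 := Finset.card_le_two
  omega

/-- an involution of a sharply 3-transitive group of odd degree fixes exactly one point -/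
theorem invol_fix {G : Subgroup (Perm α)} (hs : Sharp3 G) (hodd : Odd (Fintype.card α))
    {t : Perm α} (ht : t ∈ G) (ht2 : t ^ 2 = 1) (ht1 : t ≠ 1) :
    ∃ x, t x = x ∧ ∀ y, t y = y → y = x := by
  have h1 := Cfsg.Agent.S0728.card_fixF_le hs ht ht1
  have h2 : 2 ∣ t.support.card := Equiv.Perm.two_dvd_card_support ht2
  have h3 : Cfsg.Agent.S0728.fixF t = t.supportᶜ := by
    ext y
    rw [Cfsg.Agent.S0728.mem_fixF, Finset.mem_compl, Equiv.Perm.notMem_support]
  have h4 : (Cfsg.Agent.S0728.fixF t).card = Fintype.card α - t.support.card := by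
    rw [h3, Finset.card_compl]
  have h5 : t.support.card ≤ Fintype.card α := Finset.card_le_univ _
  have h6 : (Cfsg.Agent.S0728.fixF t).card = 1 := by
    obtain ⟨k, hk⟩ := hodd
    obtain ⟨j, hj⟩ := h2
    omega
  obtain ⟨x, hx⟩ := Finset.card_eq_one.mp h6
  refine ⟨x, ?_, ?_⟩
  · rw [← Cfsg.Agent.S0728.mem_fixF, hx]
    exact Finset.mem_singleton_self x
  · intro y hy
    rw [← Cfsg.Agent.S0728.mem_fixF, hx, Finset.mem_singleton] at hy
    exact hy

/-- elements commuting with an involution fix only its fixed point -/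
theorem cent_fix {G : Subgroup (Perm α)} (hs : Sharp3 G) {t c : Perm α} {x : α}
    (htx : t x = x) (huniq : ∀ y, t y = y → y = x) (hc : c ∈ G) (hct : c * t = t * c)
    (hc1 : c ≠ 1) : c x = x ∧ ∀ y, c y = y → y = x := by
  have hcomm : ∀ y, c (t y) = t (c y) := fun y => by
    have := congrArg (fun f : Perm α => f y) hct
    simpa using this
  have hcx : c x = x := by
    apply huniq
    rw [← hcomm, htx]
  refine ⟨hcx, ?_⟩
  intro y hy
  by_contra hyx
  have h1 : t y ≠ y := fun h => hyx (huniq y h)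
  have h2 : t y ≠ x := by
    intro h
    apply hyx
    apply t.injective
    rw [h, htx]
  have h3 : c (t y) = t y := by rw [hcomm, hy]
  exact hc1 (hs c hc x y (t y) (fun h => hyx h.symm) (fun h => h2 h.symm) (fun h => h1 h.symm)
    hcx hy h3)

theorem pretrans_of {G : Subgroup (Perm α)} (ht : Trans3 G) (h3 : 3 ≤ Fintype.card α) :
    IsPretransitive G α := by
  refine ⟨fun y z => ?_⟩
  obtain ⟨w, hw1, hw2⟩ := exists_third h3 y y
  obtain ⟨v, hv1, hv2⟩ := exists_third h3 y w
  obtain ⟨w', hw1', hw2'⟩ := exists_third h3 z z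
  obtain ⟨v', hv1', hv2'⟩ := exists_third h3 z w'
  obtain ⟨g, hg, h1, _, _⟩ := ht y w v z w' v' hw1.symm hv1.symm hv2.symm hw1'.symm hv1'.symm
    hv2'.symm
  exact ⟨⟨g, hg⟩, h1⟩

theorem stab_sharp2 {G : Subgroup (Perm α)} (hs : Sharp3 G) (ht : Trans3 G)
    (hcard : Nat.card G = Fintype.card α * (Fintype.card α - 1) * (Fintype.card α - 2))
    (h3 : 3 ≤ Fintype.card α) (x : α) :
    IsSharp2 (stabilizer G x) (SubMulAction.ofStabilizer G x) := by
  have hβ : Fintype.card (SubMulAction.ofStabilizer G x) = Fintype.card α - 1 := by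
    have := SubMulAction.nat_card_ofStabilizer_add_one_eq (G := G) x
    rw [Nat.card_eq_fintype_card, Nat.card_eq_fintype_card] at this
    omega
  have hpre := pretrans_of ht h3
  refine ⟨⟨?_⟩, ?_, ?_, ?_⟩
  · rintro ⟨y, hy⟩ ⟨z, hz⟩
    rw [SubMulAction.mem_ofStabilizer_iff] at hy hz
    obtain ⟨w, hw1, hw2⟩ := exists_third h3 x y
    obtain ⟨w', hw1', hw2'⟩ := exists_third h3 x z
    obtain ⟨g, hg, h1, h2, _⟩ := ht x y w x z w' hy.symm hw1.symm hw2.symm hz.symm hw1'.symm
      hw2'.symm
    refine ⟨⟨⟨g, hg⟩, ?_⟩, ?_⟩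
    · rw [mem_stabilizer_iff]
      exact h1
    · apply Subtype.ext
      exact h2
  · rintro ⟨⟨g, hg⟩, hgx⟩ ⟨a, ha⟩ ⟨b, hb⟩ hab h1 h2
    rw [SubMulAction.mem_ofStabilizer_iff] at ha hb
    rw [mem_stabilizer_iff] at hgx
    have h1' : g a = a := congrArg Subtype.val h1
    have h2' : g b = b := congrArg Subtype.val h2
    have hab' : a ≠ b := fun h => hab (Subtype.ext h)
    have := hs g hg x a b ha.symm hb.symm hab' hgx h1' h2'
    apply Subtype.ext
    apply Subtype.ext
    exact this
  · rw [hβ]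
    have h1 := MulAction.index_stabilizer_of_transitive G x
    have h2 := Subgroup.index_mul_card (stabilizer G x)
    rw [h1, hcard, Nat.card_eq_fintype_card, mul_assoc] at h2
    have h4 : Fintype.card α - 1 - 1 = Fintype.card α - 2 := by omega
    rw [h4]
    exact Nat.eq_of_mul_eq_mul_left (by omega) h2
  · rw [hβ]
    omega

/-- The case `f ≥ 2`: recognition through elementary abelian involution centralisers. -/
theorem main_large {f : ℕ} (hf : 2 ≤ f) (hα : Fintype.card α = 2 ^ f + 1)
    (G : Subgroup (Perm α)) (h3 : MulAction.IsMultiplyPretransitive G α 3)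
    (hsharp : ∀ x : Fin 3 ↪ α, MulAction.stabilizer G x = ⊥) :
    ∃ (F : Type) (_ : Field F) (_ : Fintype F), Fintype.card F = 2 ^ f ∧
      Nonempty (G ≃* Matrix.ProjectiveSpecialLinearGroup (Fin 2) F) := by
  classical
  have hs := sharp3_of hsharp
  have ht := trans3_of h3
  have hpow : 4 ≤ 2 ^ f := by
    calc 4 = 2 ^ 2 := by norm_num
      _ ≤ 2 ^ f := Nat.pow_le_pow_right (by norm_num) hf
  have h3α : 3 ≤ Fintype.card α := by omega
  have hcard := card_G h3 hsharp h3α
  have hodd : Odd (Fintype.card α) := by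
    rw [hα]
    exact ⟨2 ^ (f - 1), by
      have : 2 ^ f = 2 * 2 ^ (f - 1) := by
        rw [← pow_succ']
        congr 1
        omega
      omega⟩
  have hfin : Finite G := inferInstance
  -- the kernels
  have hsh := fun x : α => stab_sharp2 hs ht hcard h3α x
  have hβ : ∀ x : α, Fintype.card (SubMulAction.ofStabilizer G x) = 2 ^ f := by
    intro x
    have := SubMulAction.nat_card_ofStabilizer_add_one_eq (G := G) (α := α) x
    rw [Nat.card_eq_fintype_card, Nat.card_eq_fintype_card] at this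
    omega
  have hexp : ∀ x, ∀ y ∈ kernel (hsh x), y ^ 2 = 1 := by
    intro x
    obtain ⟨p, j, hp, hj, hpj, he⟩ := kernel_exp (hsh x)
    rw [hβ x] at hpj
    have hp2 : p = 2 := by
      have h1 : p ∣ 2 ^ f := by
        rw [hpj]
        exact dvd_pow_self p (by omega)
      exact (Nat.prime_dvd_prime_iff_eq hp Nat.prime_two).mp (hp.dvd_of_dvd_pow h1)
    rw [hp2] at he
    exact he
  -- centralisers of involutions
  have hcent : ∀ t : G, orderOf t = 2 → ∃ x : α, ∀ c ∈ Subgroup.centralizer ({t} : Set G),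
      ∃ hcx : c ∈ stabilizer G x, (⟨c, hcx⟩ : stabilizer G x) ∈ kernel (hsh x) := by
    intro t hto
    have ht2 : (t : Perm α) ^ 2 = 1 := by
      have := pow_orderOf_eq_one t
      rw [hto] at this
      exact congrArg Subtype.val this
    have ht1 : (t : Perm α) ≠ 1 := by
      intro h
      have : t = 1 := Subtype.ext h
      rw [this, orderOf_one] at hto
      omega
    obtain ⟨x, htx, huniq⟩ := invol_fix hs hodd t.2 ht2 ht1
    refine ⟨x, ?_⟩
    intro c hc
    by_cases hc1 : c = 1
    · subst hc1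
      exact ⟨Subgroup.one_mem _, Subgroup.one_mem _⟩
    · have hc1' : (c : Perm α) ≠ 1 := fun h => hc1 (Subtype.ext h)
      have hct : (c : Perm α) * (t : Perm α) = (t : Perm α) * (c : Perm α) := by
        rw [Subgroup.mem_centralizer_iff] at hc
        have := hc t rfl
        exact (congrArg Subtype.val this).symm
      obtain ⟨hcx, hcu⟩ := cent_fix hs htx huniq c.2 hct hc1'
      have hcx' : c ∈ stabilizer G x := by
        rw [mem_stabilizer_iff]
        exact hcx
      refine ⟨hcx', ?_⟩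
      rw [mem_kernel_iff]
      right
      rintro ⟨y, hy⟩ hfix
      rw [SubMulAction.mem_ofStabilizer_iff] at hy
      apply hy
      apply hcu
      exact congrArg Subtype.val hfix
  have hC : ∀ t : G, orderOf t = 2 →
      IsMulCommutative (Subgroup.centralizer ({t} : Set G)) ∧
        ∀ c ∈ Subgroup.centralizer ({t} : Set G), c ^ 2 = 1 := by
    intro t hto
    obtain ⟨x, hx⟩ := hcent t hto
    constructor
    · refine ⟨⟨fun a b => ?_⟩⟩
      obtain ⟨ha1, ha2⟩ := hx a.1 a.2
      obtain ⟨hb1, hb2⟩ := hx b.1 b.2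
      have := kernel_comm (hsh x) ha2 hb2
      apply Subtype.ext
      have h2 := congrArg (fun z : stabilizer G x => (z : G)) this
      exact h2
    · intro c hc
      obtain ⟨hc1, hc2⟩ := hx c hc
      have := hexp x _ hc2
      have h2 := congrArg (fun z : stabilizer G x => (z : G)) this
      exact h2
  -- a Sylow 2-subgroup
  obtain ⟨x⟩ : Nonempty α := Fintype.card_pos_iff.mp (by omega)
  let K' : Subgroup G := (kernel (hsh x)).map (stabilizer G x).subtype
  have hK'card : Nat.card K' = 2 ^ f := by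
    rw [Subgroup.card_map_of_injective (Subgroup.subtype_injective _), kernel_card, hβ]
  have hK'exp : ∀ k ∈ K', k ^ 2 = 1 := by
    rintro _ ⟨k, hk, rfl⟩
    have := hexp x k hk
    rw [← map_pow, this, map_one]
  have hK'p : IsPGroup 2 K' := by
    intro g
    refine ⟨1, ?_⟩
    apply Subtype.ext
    rw [pow_one]
    exact hK'exp g g.2
  have hK'idx : ¬ 2 ∣ K'.index := by
    have h1 := Subgroup.index_mul_card K'
    rw [hK'card, hcard, hα] at h1
    have h2 : 2 ^ f + 1 - 1 = 2 ^ f := by omega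
    have h4 : 2 ^ f + 1 - 2 = 2 ^ f - 1 := by omega
    rw [h2, h4] at h1
    have h5 : K'.index = (2 ^ f + 1) * (2 ^ f - 1) := by
      have : K'.index * 2 ^ f = (2 ^ f + 1) * (2 ^ f - 1) * 2 ^ f := by rw [h1]; ring
      exact Nat.eq_of_mul_eq_mul_right (by positivity) this
    rw [h5]
    intro hdvd
    have hev : Even (2 ^ f) := (Nat.even_pow' (by omega)).mpr even_two
    have ho1 : Odd (2 ^ f + 1) := hev.add_one
    have ho2 : Odd (2 ^ f - 1) := Nat.Even.sub_odd (by omega) hev odd_one
    have := (ho1.mul ho2)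
    rw [← Nat.not_even_iff_odd] at this
    exact this (even_iff_two_dvd.mpr hdvd)
  let T : Sylow 2 G := hK'p.toSylow hK'idx
  have hT : (T : Subgroup G) = K' := IsPGroup.toSylow_coe hK'p hK'idx
  have hnc : ¬ IsCyclic (T : Subgroup G) := by
    rw [hT]
    intro hcyc
    obtain ⟨g, hg⟩ := hcyc.exists_generator
    have h1 : orderOf g = Nat.card K' := orderOf_eq_card_of_forall_mem_zpowers hg
    have h2 : g ^ 2 = 1 := Subtype.ext (hK'exp g g.2)
    have h3 : orderOf g ≤ 2 := orderOf_le_of_pow_eq_one (by norm_num) h2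
    omega
  have hnn : ¬ (T : Subgroup G).Normal := by
    rw [hT]
    intro hn
    have hne : K' ≠ ⊥ := by
      intro h
      rw [h, Subgroup.card_bot] at hK'card
      omega
    obtain ⟨k0, hk0⟩ := (Subgroup.ne_bot_iff_exists_ne_one).mp hne
    obtain ⟨k, hk, hk1⟩ : ∃ k : G, k ∈ K' ∧ k ≠ 1 :=
      ⟨k0.1, k0.2, fun h => hk0 (Subtype.ext h)⟩
    obtain ⟨y, hy, _⟩ := exists_third h3α x x
    have hpre := pretrans_of ht h3α
    obtain ⟨g, hg⟩ := MulAction.exists_smul_eq G y x
    have hmem := hn.conj_mem k hk g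
    obtain ⟨k2, hk2, hk2e⟩ := hmem
    have hfix : (g * k * g⁻¹) • x = x := by
      rw [← hk2e]
      exact k2.2
    have hky : k • y = y := by
      have h1 : g⁻¹ • x = y := by rw [← hg, inv_smul_smul]
      rw [mul_smul, mul_smul, h1] at hfix
      have h2 := congrArg (fun z => g⁻¹ • z) hfix
      simp only [inv_smul_smul] at h2
      rw [h2, h1]
    obtain ⟨k1, hk1m, hk1e⟩ := hk
    have hk1m' : k1 ∈ kernel (hsh x) := hk1m
    rw [mem_kernel_iff] at hk1m'
    rcases hk1m' with h | h
    · apply hk1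
      rw [← hk1e, h, map_one]
    · apply h ⟨y, hy⟩
      apply Subtype.ext
      have : ((k1 : G) : Perm α) y = y := by
        have h5 : (stabilizer G x).subtype k1 = k := hk1e
        rw [← h5] at hky
        exact hky
      exact this
  obtain ⟨F, hF1, hF2, hFc, ⟨e⟩⟩ := Cfsg.Agent.S1230.result T hnc hnn hC
  refine ⟨F, hF1, hF2, ?_, ⟨e⟩⟩
  rw [hFc, hT, hK'card]

end

section

open Matrix Projectivization
open scoped LinearAlgebra.Projectivization MatrixGroups
open Cfsg.Agent.Lib.Helper5

theorem psl_equiv_pgl {F : Type} [Field F] [Fintype F] {f : ℕ} (hf : 1 ≤ f) (hF : Fintype.card F = 2 ^ f) :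
    Nonempty (Matrix.ProjectiveSpecialLinearGroup (Fin 2) F ≃* Matrix.ProjGenLinGroup (Fin 2) F) := by
  classical
  refine ⟨MulEquiv.ofBijective Matrix.ProjectiveSpecialLinearGroup.toPGL
    ⟨Matrix.ProjectiveSpecialLinearGroup.toPGL_injective,
      Matrix.ProjectiveSpecialLinearGroup.toPGL_surj_of_roots ?_⟩⟩
  intro r
  have hcop : (Nat.card Fˣ).Coprime 2 := by
    rw [Nat.card_eq_fintype_card, Fintype.card_units, hF]
    have hev : Even (2 ^ f) := (Nat.even_pow' (by omega)).mpr even_two
    have ho2 : Odd (2 ^ f - 1) := Nat.Even.sub_odd (Nat.one_le_two_pow) hev odd_one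
    exact Nat.Coprime.symm (Nat.coprime_two_left.mpr ho2)
  refine ⟨(powCoprime hcop).symm r, ?_⟩
  rw [Fintype.card_fin]
  exact (powCoprime hcop).apply_symm_apply r

theorem pgl2_two_equiv {β : Type*} [Fintype β] (hβ : Fintype.card β = 3) :
    Nonempty (Equiv.Perm β ≃* Matrix.ProjGenLinGroup (Fin 2) (ZMod 2)) := by
  classical
  let X := ℙ (ZMod 2) (Fin 2 → ZMod 2)
  have hXfin : Finite X := inferInstance
  let _ : Fintype X := Fintype.ofFinite X
  have hXcard : Fintype.card X = 3 := by
    have := Projectivization.card_of_finrank_two (k := ZMod 2) (V := Fin 2 → ZMod 2) (by simp)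
    rw [Nat.card_eq_fintype_card, Nat.card_eq_fintype_card, ZMod.card] at this
    exact this
  have h01 : (P0 : X) ≠ P1 := by
    rw [P0, P1, Ne, mk_eq_mk_iff_cross]
    simp [Cfsg.Agent.Lib.Helper5.cross]
  have h02 : (P0 : X) ≠ P2 := by
    rw [P0, P2, Ne, mk_eq_mk_iff_cross]
    simp [Cfsg.Agent.Lib.Helper5.cross]
  have h12 : (P1 : X) ≠ P2 := by
    rw [P1, P2, Ne, mk_eq_mk_iff_cross]
    simp [Cfsg.Agent.Lib.Helper5.cross]
  have hall : ∀ x : X, x = P0 ∨ x = P1 ∨ x = P2 := by
    have hc : ({P0, P1, P2} : Finset X).card = 3 := by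
      rw [Finset.card_insert_of_notMem, Finset.card_pair h12]
      simp [h01, h02]
    have : ({P0, P1, P2} : Finset X) = Finset.univ := by
      apply Finset.eq_univ_of_card
      rw [hc, hXcard]
    intro x
    have hx : x ∈ ({P0, P1, P2} : Finset X) := by rw [this]; exact Finset.mem_univ x
    simpa using hx
  let φ : PGL(Fin 2, ZMod 2) →* Perm X := MulAction.toPermHom _ X
  have hφ : ∀ g x, φ g x = g • x := fun g x => rfl
  have hinj : Function.Injective φ := by
    rw [injective_iff_map_eq_one]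
    intro g hg
    apply eq_one_of_fix_std
    · rw [← hφ, hg]; rfl
    · rw [← hφ, hg]; rfl
    · rw [← hφ, hg]; rfl
  have hsurj : Function.Surjective φ := by
    intro σ
    have h3 := PGL2_three_pretransitive (F := ZMod 2)
    let e0 : Fin 3 ↪ X := ⟨![P0, P1, P2], by
      intro i j h
      fin_cases i <;> fin_cases j <;> simp_all⟩
    let e1 : Fin 3 ↪ X := e0.trans σ.toEmbedding
    obtain ⟨g, hg⟩ := h3.exists_smul_eq e0 e1
    refine ⟨g, ?_⟩
    ext x
    rw [hφ]
    have hg0 : g • (P0 : X) = σ P0 := congrArg (fun f : Fin 3 ↪ X => f 0) hg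
    have hg1 : g • (P1 : X) = σ P1 := congrArg (fun f : Fin 3 ↪ X => f 1) hg
    have hg2 : g • (P2 : X) = σ P2 := congrArg (fun f : Fin 3 ↪ X => f 2) hg
    rcases hall x with rfl | rfl | rfl
    · exact hg0
    · exact hg1
    · exact hg2
  have e : β ≃ X := Fintype.equivOfCardEq (by rw [hβ, hXcard])
  exact ⟨(Equiv.permCongrHom e).trans (MulEquiv.ofBijective φ ⟨hinj, hsurj⟩).symm⟩

end

/-- A sharply triply transitive permutation group of degree `2^f + 1` is isomorphic to the projective general linear group of degree 2 over the field with `2^f` elements. -/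
theorem result {α : Type*} [Fintype α] [DecidableEq α] {f : ℕ} (hf : 1 ≤ f) (hα : Fintype.card α = 2 ^ f + 1) (G : Subgroup (Equiv.Perm α)) (h3 : MulAction.IsMultiplyPretransitive G α 3) (hsharp : ∀ x : Fin 3 ↪ α, MulAction.stabilizer G x = ⊥) : ∃ (F : Type) (_ : Field F) (_ : Fintype F), Fintype.card F = 2 ^ f ∧ Nonempty (G ≃* Matrix.ProjGenLinGroup (Fin 2) F) := by
  by_cases hf2 : 2 ≤ f
  · obtain ⟨F, hF1, hF2, hFc, ⟨e⟩⟩ := main_large hf2 hα G h3 hsharp
    obtain ⟨e2⟩ := psl_equiv_pgl hf hFc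
    exact ⟨F, hF1, hF2, hFc, ⟨e.trans e2⟩⟩
  · have hf1 : f = 1 := by omega
    subst hf1
    have hα3 : Fintype.card α = 3 := by rw [hα]; norm_num
    have hcard := card_G h3 hsharp (by omega)
    have hGtop : G = ⊤ := by
      apply Subgroup.eq_top_of_card_eq
      rw [hcard, hα3, Nat.card_eq_fintype_card, Fintype.card_perm, hα3]
      rfl
    obtain ⟨e2⟩ := pgl2_two_equiv hα3
    refine ⟨ZMod 2, inferInstance, inferInstance, by simp [ZMod.card], ⟨?_⟩⟩
    exact (MulEquiv.subgroupCongr hGtop).trans (Subgroup.topEquiv.trans e2)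

end Cfsg.Agent.S0727
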