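import Cfsg.Statements.S0729
import Cfsg.Agent.S0727
import Cfsg.Agent.S0728
import Cfsg.Agent.Lib.Helper78.Idx2
import Cfsg.Agent.Lib.Helper78.Sharp2Lin
import Cfsg.Agent.Lib.Helper78.RegIdx2

set_option autoImplicit false
set_option linter.style.haveILetI false
open Cfsg

namespace Cfsg.Agent.S0729

open Equiv MulAction
open Cfsg.Agent.Lib.Helper78.Idx2

/-- the two-point stabiliser of a sharply triply transitive group of even degree at least 6 has
a subgroup of index two -/
theorem hasIdx2_stab {α : Type*} [Fintype α] [DecidableEq α] (heven : Even (Fintype.card α))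
    (h6 : 6 ≤ Fintype.card α) (G : Subgroup (Equiv.Perm α))
    (h3 : MulAction.IsMultiplyPretransitive G α 3)
    (hsharp : ∀ x : Fin 3 ↪ α, MulAction.stabilizer G x = ⊥) {a b : α} (hab : a ≠ b) :
    HasIdx2 ↥(MulAction.stabilizer G a ⊓ MulAction.stabilizer G b) := by
  classical
  have hs := Cfsg.Agent.S0727.sharp3_of hsharp
  have ht := Cfsg.Agent.S0727.trans3_of h3
  have h3α : 3 ≤ Fintype.card α := by omega
  have hcard := Cfsg.Agent.S0727.card_G h3 hsharp h3α
  have hsh := Cfsg.Agent.S0727.stab_sharp2 hs ht hcard h3α a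
  have hβ : Fintype.card (SubMulAction.ofStabilizer G a) = Fintype.card α - 1 := by
    have := SubMulAction.nat_card_ofStabilizer_add_one_eq (G := G) a
    rw [Nat.card_eq_fintype_card, Nat.card_eq_fintype_card] at this
    omega
  let b₀ : SubMulAction.ofStabilizer G a :=
    ⟨b, by rw [SubMulAction.mem_ofStabilizer_iff]; exact hab.symm⟩
  obtain ⟨p, hp, V, iV, iM, iF, ρ, hinj, hcardV, ⟨v₀, hv₀⟩, hreg⟩ :=
    Cfsg.Agent.Lib.Helper78.Sharp2Lin.exists_regLin hsh b₀
  haveI := hp
  -- the identification of the two descriptions of the two-point stabiliser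
  let ι : ↥(stabilizer G a ⊓ stabilizer G b) →* stabilizer (stabilizer G a) b₀ :=
    { toFun := fun x => ⟨⟨x.1, x.2.1⟩, by
        rw [mem_stabilizer_iff]
        apply Subtype.ext
        exact mem_stabilizer_iff.1 x.2.2⟩
      map_one' := rfl
      map_mul' := fun x y => rfl }
  have hιinj : Function.Injective ι := by
    intro x y hxy
    apply Subtype.ext
    have h1 := congrArg (fun t : stabilizer (stabilizer G a) b₀ => ((t : stabilizer G a) : G)) hxy
    exact h1
  have hιsurj : Function.Surjective ι := by
    intro t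
    have h1 : (t : stabilizer G a) • b₀ = b₀ := t.2
    have h2 : ((t : stabilizer G a) : G) • b = b := congrArg Subtype.val h1
    refine ⟨⟨((t : stabilizer G a) : G), ⟨(t : stabilizer G a).2, mem_stabilizer_iff.2 h2⟩⟩, ?_⟩
    apply Subtype.ext
    apply Subtype.ext
    rfl
  let f : ↥(stabilizer G a ⊓ stabilizer G b) →* ρ.range := ρ.rangeRestrict.comp ι
  have hfsurj : Function.Surjective f :=
    ρ.rangeRestrict_surjective.comp hιsurj
  have hfinj : Function.Injective f := by
    intro x y hxy
    apply hιinj
    apply hinj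
    exact congrArg Subtype.val hxy
  let E : ↥(stabilizer G a ⊓ stabilizer G b) ≃* ρ.range := MulEquiv.ofBijective f ⟨hfinj, hfsurj⟩
  -- even order
  have hcardR := Cfsg.Agent.S0685.card_of_regular ρ.range hreg v₀ hv₀
  have hcardV2 : Nat.card V = p ^ Module.finrank (ZMod p) V := by
    rw [Module.natCard_eq_pow_finrank (K := ZMod p) (V := V), Nat.card_zmod]
  have he : Even (Nat.card ρ.range) := by
    have h1 : Nat.card ρ.range + 2 = Fintype.card α := by omega
    obtain ⟨c, hc⟩ := heven
    exact ⟨c - 1, by omega⟩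
  -- at most one subgroup of order three
  have h3' : ∀ A B : Subgroup ρ.range, Nat.card A = 3 → Nat.card B = 3 → A = B := by
    intro A B hA hB
    have hcA : Nat.card ((A.map E.symm.toMonoidHom).map
        (stabilizer G a ⊓ stabilizer G b).subtype) = 3 := by
      rw [Subgroup.card_map_of_injective (Subgroup.subtype_injective _),
        Subgroup.card_map_of_injective E.symm.injective, hA]
    have hcB : Nat.card ((B.map E.symm.toMonoidHom).map
        (stabilizer G a ⊓ stabilizer G b).subtype) = 3 := by
      rw [Subgroup.card_map_of_injective (Subgroup.subtype_injective _),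
        Subgroup.card_map_of_injective E.symm.injective, hB]
    have hAB := Cfsg.Agent.S0728.result heven h6 G h3 hsharp hab _ _
      (Subgroup.map_subtype_le _) (Subgroup.map_subtype_le _) hcA hcB
    have h1 := Subgroup.map_injective (Subgroup.subtype_injective _) hAB
    exact Subgroup.map_injective E.symm.injective h1
  exact of_surjective f hfsurj
    (Cfsg.Agent.Lib.Helper78.RegIdx2.hasIdx2 ρ.range hreg he h3')

/-- In a sharply triply transitive group of even degree at least 6, the two-point stabiliser `H = G_{a,b}` has a normal subgroup of index 2 that is normalised by the element `s` interchanging `a, b` and fixing a third point `c`. -/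
theorem result {α : Type*} [Fintype α] [DecidableEq α] (heven : Even (Fintype.card α)) (h6 : 6 ≤ Fintype.card α) (G : Subgroup (Equiv.Perm α)) (h3 : MulAction.IsMultiplyPretransitive G α 3) (hsharp : ∀ x : Fin 3 ↪ α, MulAction.stabilizer G x = ⊥) {a b c : α} (hab : a ≠ b) (hac : a ≠ c) (hbc : b ≠ c) (s : G) (hsa : s • a = b) (hsb : s • b = a) (hsc : s • c = c) : ∃ N : Subgroup G, N ≤ MulAction.stabilizer G a ⊓ MulAction.stabilizer G b ∧ (N.subgroupOf (MulAction.stabilizer G a ⊓ MulAction.stabilizer G b)).Normal ∧ N.relIndex (MulAction.stabilizer G a ⊓ MulAction.stabilizer G b) = 2 ∧ ∀ n ∈ N, s * n * s⁻¹ ∈ N := by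
  classical
  have hs := Cfsg.Agent.S0727.sharp3_of hsharp
  -- `s` is an involution
  have hss : s * s = 1 := by
    apply Subtype.ext
    apply hs (s * s : G).1 (s * s : G).2 a b c hab hac hbc
    · show (s * s) • a = a
      rw [mul_smul, hsa, hsb]
    · show (s * s) • b = b
      rw [mul_smul, hsb, hsa]
    · show (s * s) • c = c
      rw [mul_smul, hsc, hsc]
  have hsinv : s⁻¹ = s := inv_eq_of_mul_eq_one_left hss
  have hsia : s⁻¹ • a = b := by rw [hsinv, hsa]
  have hsib : s⁻¹ • b = a := by rw [hsinv, hsb]
  -- conjugation by `s` on the two-point stabiliser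
  let τ : ↥(stabilizer G a ⊓ stabilizer G b) →* ↥(stabilizer G a ⊓ stabilizer G b) :=
    { toFun := fun x => ⟨s * x.1 * s⁻¹, by
        have hxa : (x.1 : G) • a = a := mem_stabilizer_iff.1 x.2.1
        have hxb : (x.1 : G) • b = b := mem_stabilizer_iff.1 x.2.2
        refine Subgroup.mem_inf.2 ⟨?_, ?_⟩
        · rw [mem_stabilizer_iff, mul_smul, mul_smul, hsia, hxb, hsb]
        · rw [mem_stabilizer_iff, mul_smul, mul_smul, hsib, hxa, hsa]⟩
      map_one' := by
        apply Subtype.ext
        show s * 1 * s⁻¹ = 1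
        group
      map_mul' := fun x y => by
        apply Subtype.ext
        show s * (x.1 * y.1) * s⁻¹ = (s * x.1 * s⁻¹) * (s * y.1 * s⁻¹)
        group }
  have hτ : ∀ x, τ (τ x) = x := by
    intro x
    apply Subtype.ext
    show s * (s * x.1 * s⁻¹) * s⁻¹ = x.1
    rw [hsinv]
    calc s * (s * x.1 * s) * s = (s * s) * x.1 * (s * s) := by group
      _ = x.1 := by rw [hss, one_mul, mul_one]
  obtain ⟨M, hM2, hMinv⟩ := exists_invariant τ hτ (hasIdx2_stab heven h6 G h3 hsharp hab)
  refine ⟨M.map (stabilizer G a ⊓ stabilizer G b).subtype, Subgroup.map_subtype_le M, ?_, ?_, ?_⟩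
  · show ((M.map (stabilizer G a ⊓ stabilizer G b).subtype).comap
      (stabilizer G a ⊓ stabilizer G b).subtype).Normal
    rw [Subgroup.comap_map_eq_self_of_injective (Subgroup.subtype_injective _)]
    exact Subgroup.normal_of_index_eq_two hM2
  · show ((M.map (stabilizer G a ⊓ stabilizer G b).subtype).comap
      (stabilizer G a ⊓ stabilizer G b).subtype).index = 2
    rw [Subgroup.comap_map_eq_self_of_injective (Subgroup.subtype_injective _)]
    exact hM2
  · rintro _ ⟨m, hm, rfl⟩
    exact ⟨τ m, hMinv m hm, rfl⟩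

end Cfsg.Agent.S0729
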