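import Cfsg.Statements.S0345
import Cfsg.Agent.Lib.Helper3.ZT17
import Cfsg.Agent.S0346
import Cfsg.Agent.S0729
import Cfsg.Agent.S0738
import Cfsg.Agent.S0741
import Cfsg.Agent.S0740

set_option autoImplicit false
open Cfsg

namespace Cfsg.Agent.S0345

/-- In a finite simple Zassenhaus group the stabiliser `H` of two points `a ≠ b` is cyclic, and some involution
interchanging `a` and `b` inverts every element of `H`. -/
theorem result {G Ω : Type*} [Group G] [Finite G] [MulAction G Ω] [Finite Ω]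
    (hZ : Cfsg.IsZassenhausGroup G Ω) [IsSimpleGroup G]
    {a b : Ω} (hab : a ≠ b) :
    IsCyclic ↥(MulAction.stabilizer G a ⊓ MulAction.stabilizer G b) ∧
      ∃ v : G, orderOf v = 2 ∧ v • a = b ∧ v • b = a ∧ ∀ h ∈ MulAction.stabilizer G a ⊓ MulAction.stabilizer G b, v * h * v⁻¹ = h⁻¹ := by
  classical
  have : Fintype Ω := Fintype.ofFinite Ω
  have hy := Cfsg.Agent.Lib.Helper97.Zass.hyp_of_zass hZ
  have hE : Nat.card (Cfsg.Agent.Lib.Helper3.ZassOdd.twoStab G a b) =
      Nat.card ↥(MulAction.stabilizer G a ⊓ MulAction.stabilizer G b) := rfl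
  by_cases heven : Even (Nat.card ↥(MulAction.stabilizer G a ⊓ MulAction.stabilizer G b))
  · have hge := Cfsg.Agent.S0741.result hZ hab heven
    obtain ⟨F, hFle, hFn, -, hreg, -⟩ := Cfsg.Agent.S0346.exists_kernel_data hZ hab
    obtain ⟨hFab, -⟩ := Cfsg.Agent.S0738.result hZ hab hge F hFle hFn hreg
    have hcomm : ∀ u ∈ F, ∀ v ∈ F, u * v = v * u := fun u hu v hv =>
      congrArg Subtype.val (hFab.is_comm.comm (⟨u, hu⟩ : F) ⟨v, hv⟩)
    have hepos : 0 < Nat.card ↥(MulAction.stabilizer G a ⊓ MulAction.stabilizer G b) :=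
      Nat.card_pos
    obtain ⟨r, hr⟩ := heven
    rcases Cfsg.Agent.Lib.Helper3.ZT.zassenhaus_abelian_full hZ hab hFle hFn hcomm hreg with
      ⟨h1e, h3, hsharp⟩ | ⟨-, hcyc, ⟨t, hto, hta, htb, hinv⟩, -⟩
    · exfalso
      have hevenΩ : Even (Fintype.card Ω) := ⟨r + 1, by omega⟩
      exact Cfsg.Agent.Lib.Helper3.ZT.sharp_case_false (by omega) (by omega) h3 hsharp
        (fun G' h3' hsharp' h6 a b c hab hac hbc s hsa hsb hsc =>
          Cfsg.Agent.S0729.result hevenΩ h6 G' h3' hsharp' hab hac hbc s hsa hsb hsc)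
    · exact ⟨hcyc, t, hto, hta, htb, hinv⟩
  · have hodd : Odd (Nat.card (Cfsg.Agent.Lib.Helper3.ZassOdd.twoStab G a b)) :=
      Nat.not_even_iff_odd.mp heven
    have hcomm := Cfsg.Agent.Lib.Helper3.ZassOdd.twoStab_comm hZ hab hodd
    have hZg := Cfsg.Agent.Lib.Helper3.ZassOdd.isZGroup_twoStab hy hab hodd
    obtain ⟨⟨t, hto, hta, htb⟩, -, -⟩ := Cfsg.Agent.S0740.result hZ hab
    have htt : t * t = 1 := by rw [← pow_two, ← hto, pow_orderOf_eq_one]
    have hinv := Cfsg.Agent.Lib.Helper3.ZassOdd.conj_eq_inv hZ hab hodd hta htb htt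
    refine ⟨?_, t, hto, hta, htb, hinv⟩
    have hnil : Group.IsNilpotent (Cfsg.Agent.Lib.Helper3.ZassOdd.twoStab G a b) := by
      let _ : CommGroup (Cfsg.Agent.Lib.Helper3.ZassOdd.twoStab G a b) :=
        { (inferInstance : Group (Cfsg.Agent.Lib.Helper3.ZassOdd.twoStab G a b)) with
          mul_comm := fun x y => Subtype.ext (hcomm x x.2 y y.2) }
      exact CommGroup.isNilpotent
    exact (inferInstance : IsCyclic (Cfsg.Agent.Lib.Helper3.ZassOdd.twoStab G a b))

end Cfsg.Agent.S0345
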