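import Cfsg.Statements.S1137


set_option autoImplicit false
open Cfsg

namespace Cfsg.Agent.S1137

universe u

section core
variable {𝕂 : Type*} [Group 𝕂] {G : Type u} [Group G]

/-- The inductive hypotheses: a finite `2`-group with a group `𝕂` of automorphisms transitive on the
involutions, whose centre has an element of order `4`. -/
structure Q (φ : 𝕂 →* MulAut G) : Prop where
  fin : Finite G
  pg : IsPGroup 2 G
  trans : ∀ s t : G, s ≠ 1 → s * s = 1 → t ≠ 1 → t * t = 1 → ∃ k : 𝕂, φ k s = t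
  z4 : ∃ z ∈ Subgroup.center G, z * z ≠ 1 ∧ z ^ 4 = 1

variable {φ : 𝕂 →* MulAut G}

theorem map_mem_center (σ : MulAut G) {z : G} (hz : z ∈ Subgroup.center G) :
    σ z ∈ Subgroup.center G := by
  rw [Subgroup.mem_center_iff] at hz ⊢
  intro g
  have := hz (σ⁻¹ g)
  have h2 := congrArg σ this
  simpa using h2

theorem stepA (h : Q φ) {t : G} (ht1 : t ≠ 1) (ht : t * t = 1) :
    ∃ a ∈ Subgroup.center G, a * a = t ∧ a ^ 4 = 1 := by
  obtain ⟨z, hz, hz2, hz4⟩ := h.z4
  have hzz : (z * z) * (z * z) = 1 := by rw [← hz4]; simp [pow_succ, mul_assoc]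
  obtain ⟨k, hk⟩ := h.trans (z * z) t hz2 hzz ht1 ht
  refine ⟨φ k z, map_mem_center _ hz, ?_, ?_⟩
  · rw [← map_mul]; exact hk
  · rw [← map_pow, hz4, map_one]

theorem inv_central (h : Q φ) {t : G} (ht : t * t = 1) : t ∈ Subgroup.center G := by
  by_cases ht1 : t = 1
  · rw [ht1]; exact Subgroup.one_mem _
  · obtain ⟨a, ha, hat, -⟩ := stepA h ht1 ht
    rw [← hat]; exact Subgroup.mul_mem _ ha ha

theorem stepB (h : Q φ) {y : G} (hy : y ^ 4 = 1) : y ∈ Subgroup.center G := by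
  by_cases hy2 : y * y = 1
  · exact inv_central h hy2
  · have htt : (y * y) * (y * y) = 1 := by rw [← hy]; simp [pow_succ, mul_assoc]
    obtain ⟨a, ha, hat, -⟩ := stepA h hy2 htt
    have hac : ∀ g, g * a = a * g := Subgroup.mem_center_iff.mp ha
    have hw : (y * a⁻¹) * (y * a⁻¹) = 1 := by
      have h1 : (y * a⁻¹) * (y * a⁻¹) = (y * y) * (a * a)⁻¹ := by
        have := hac y
        have h3 : a⁻¹ * y = y * a⁻¹ := by
          rw [inv_mul_eq_iff_eq_mul, ← mul_assoc, ← this, mul_assoc, mul_inv_cancel, mul_one]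
        calc (y * a⁻¹) * (y * a⁻¹) = y * (a⁻¹ * y) * a⁻¹ := by group
          _ = y * (y * a⁻¹) * a⁻¹ := by rw [h3]
          _ = (y * y) * (a * a)⁻¹ := by group
      rw [h1, hat, mul_inv_cancel]
    have hwc := inv_central h hw
    have : y = (y * a⁻¹) * a := by group
    rw [this]
    exact Subgroup.mul_mem _ hwc ha

/-- the commutator `u⁻¹ g⁻¹ u g` -/
def cm (u g : G) : G := u⁻¹ * g⁻¹ * u * g

theorem stepC (h : Q φ) {u : G} (hu : u ^ 8 = 1) (g : G) : cm u g * cm u g = 1 := by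
  have hu2 : u * u ∈ Subgroup.center G := by
    apply stepB h
    rw [← hu, ← pow_two, ← pow_mul]
  have hu2c : ∀ g, g * (u * u) = (u * u) * g := Subgroup.mem_center_iff.mp hu2
  set c := cm u g with hc
  -- (u c)^2 = u^2
  have h1 : (u * c) * (u * c) = u * u := by
    have : u * c = g⁻¹ * u * g := by rw [hc, cm]; group
    rw [this]
    calc g⁻¹ * u * g * (g⁻¹ * u * g) = g⁻¹ * ((u * u) * g) := by group
      _ = g⁻¹ * (g * (u * u)) := by rw [hu2c g]
      _ = u * u := by group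
  have h2 : u⁻¹ * c * u = c⁻¹ := by
    have h3 : c * u * c = u := by
      have : u * (c * u * c) = u * u := by rw [← h1]; group
      exact mul_left_cancel this
    calc u⁻¹ * c * u = u⁻¹ * (c * u * c) * c⁻¹ := by group
      _ = c⁻¹ := by rw [h3]; group
  by_contra hcc
  obtain ⟨r, hr⟩ := (IsPGroup.iff_orderOf.mp h.pg) c
  have hr2 : 2 ≤ r := by
    by_contra hlt
    have hr1 : r ≤ 1 := by omega
    have hdvd : orderOf c ∣ 2 := by
      rw [hr]
      calc 2 ^ r ∣ 2 ^ 1 := pow_dvd_pow 2 hr1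
        _ = 2 := by norm_num
    have := orderOf_dvd_iff_pow_eq_one.mp hdvd
    exact hcc (by rw [← pow_two]; exact this)
  set e := c ^ (2 ^ (r - 2)) with he
  have he4 : e ^ 4 = 1 := by
    rw [he, ← pow_mul]
    have : 2 ^ (r - 2) * 4 = 2 ^ r := by
      obtain ⟨s, rfl⟩ : ∃ s, r = s + 2 := ⟨r - 2, by omega⟩
      simp only [Nat.add_sub_cancel]; ring
    rw [this, ← hr]; exact pow_orderOf_eq_one c
  have he2 : e * e ≠ 1 := by
    intro hee
    have h4 : c ^ (2 ^ (r - 1)) = 1 := by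
      have : 2 ^ (r - 1) = 2 ^ (r - 2) * 2 := by
        obtain ⟨s, rfl⟩ : ∃ s, r = s + 2 := ⟨r - 2, by omega⟩
        simp only [Nat.add_sub_cancel, pow_succ]
        rw [show s + 2 - 1 = s + 1 by omega, pow_succ]
      rw [this, pow_mul, ← he, pow_two]; exact hee
    have h5 := orderOf_dvd_of_pow_eq_one h4
    rw [hr] at h5
    have h6 := Nat.le_of_dvd (by positivity) h5
    have h7 : 2 ^ (r - 1) < 2 ^ r := Nat.pow_lt_pow_right (by norm_num) (by omega)
    omega
  have hec := Subgroup.mem_center_iff.mp (stepB h he4)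
  have h8 : u⁻¹ * e * u = e⁻¹ := by
    rw [he, ← inv_pow, ← h2]
    have := conj_pow (a := u⁻¹) (b := c) (i := 2 ^ (r - 2))
    rw [inv_inv] at this
    exact this.symm
  have h9 : u⁻¹ * e * u = e := by
    have := hec u
    calc u⁻¹ * e * u = u⁻¹ * (e * u) := by group
      _ = u⁻¹ * (u * e) := by rw [this]
      _ = e := by group
  apply he2
  have : e = e⁻¹ := h9.symm.trans h8
  calc e * e = e * e⁻¹ := by rw [← this]
    _ = 1 := mul_inv_cancel e

/-- `Ω₁(G)`, the involutions together with `1`, as a (central) subgroup. -/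
def Om (h : Q φ) : Subgroup G where
  carrier := {x | x * x = 1}
  one_mem' := by simp
  mul_mem' := by
    intro a b ha hb
    have hbc := Subgroup.mem_center_iff.mp (inv_central h hb)
    show (a * b) * (a * b) = 1
    calc (a * b) * (a * b) = a * (b * a) * b := by group
      _ = a * (a * b) * b := by rw [(hbc a).symm]
      _ = (a * a) * (b * b) := by group
      _ = 1 := by rw [ha, hb, one_mul]
  inv_mem' := by
    intro a ha
    show a⁻¹ * a⁻¹ = 1
    rw [← mul_inv_rev, ha, inv_one]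

theorem mem_Om (h : Q φ) {x : G} : x ∈ Om h ↔ x * x = 1 := Iff.rfl

theorem Om_le_center (h : Q φ) : Om h ≤ Subgroup.center G := fun _ hx => inv_central h hx

instance Om_normal (h : Q φ) : (Om h).Normal := by
  constructor
  intro x hx g
  have hc := Subgroup.mem_center_iff.mp (Om_le_center h hx)
  have : g * x * g⁻¹ = x := by rw [hc g]; group
  rw [this]; exact hx

theorem map_Om (h : Q φ) (σ : MulAut G) : (Om h).map σ.toMonoidHom = Om h := by
  ext x
  constructor
  · rintro ⟨y, hy, rfl⟩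
    show σ y * σ y = 1
    rw [← map_mul, (mem_Om h).mp hy, map_one]
  · intro hx
    refine ⟨σ⁻¹ x, ?_, by simp⟩
    show σ⁻¹ x * σ⁻¹ x = 1
    rw [← map_mul, (mem_Om h).mp hx, map_one]

/-- the induced action on `G ⧸ Ω₁(G)` -/
def phiBar (h : Q φ) : 𝕂 →* MulAut (G ⧸ Om h) where
  toFun := fun k => QuotientGroup.congr (Om h) (Om h) (φ k) (map_Om h (φ k))
  map_one' := by
    ext x
    induction x using QuotientGroup.induction_on
    simp
  map_mul' := by
    intro a b
    ext x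
    induction x using QuotientGroup.induction_on
    simp
    rfl

theorem phiBar_mk (h : Q φ) (k : 𝕂) (x : G) :
    phiBar h k (QuotientGroup.mk x) = QuotientGroup.mk (φ k x) := rfl

theorem pow4_of_sq {y : G} (hy : (y * y) * (y * y) = 1) : y ^ 4 = 1 := by
  rw [← hy]; simp [pow_succ, mul_assoc]

theorem Q_quot (h : Q φ) (hna : ∃ x : G, x ∉ Subgroup.center G) : Q (phiBar h) := by
  have := h.fin
  refine ⟨inferInstance, h.pg.to_quotient (Om h), ?_, ?_⟩
  · intro s t hs1 hs ht1 ht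
    induction s using QuotientGroup.induction_on with | H y => ?_
    induction t using QuotientGroup.induction_on with | H y' => ?_
    rw [Ne, QuotientGroup.eq_one_iff, mem_Om] at hs1 ht1
    rw [← QuotientGroup.mk_mul, QuotientGroup.eq_one_iff, mem_Om] at hs ht
    have hyc' := Subgroup.mem_center_iff.mp (stepB h (pow4_of_sq ht))
    obtain ⟨k, hk⟩ := h.trans (y * y) (y' * y') hs1 hs ht1 ht
    refine ⟨k, ?_⟩
    rw [phiBar_mk, QuotientGroup.eq, mem_Om]
    have h1 : ((φ k) y)⁻¹ * y' * (((φ k) y)⁻¹ * y') = ((φ k) (y * y))⁻¹ * (y' * y') := by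
      rw [map_mul]
      calc ((φ k) y)⁻¹ * y' * (((φ k) y)⁻¹ * y')
          = ((φ k) y)⁻¹ * (y' * ((φ k) y)⁻¹) * y' := by group
        _ = ((φ k) y)⁻¹ * (((φ k) y)⁻¹ * y') * y' := by rw [← hyc' ((φ k) y)⁻¹]
        _ = ((φ k) y * (φ k) y)⁻¹ * (y' * y') := by group
    rw [h1, hk, inv_mul_cancel]
  · obtain ⟨x, hx⟩ := hna
    obtain ⟨k, hk⟩ := (IsPGroup.iff_orderOf.mp h.pg) x
    have hk3 : 3 ≤ k := by
      by_contra hlt
      apply hx
      apply stepB h
      have hdvd : orderOf x ∣ 4 := by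
        rw [hk]
        calc 2 ^ k ∣ 2 ^ 2 := pow_dvd_pow 2 (by omega)
          _ = 4 := by norm_num
      exact orderOf_dvd_iff_pow_eq_one.mp hdvd
    obtain ⟨j, rfl⟩ : ∃ j, k = j + 3 := ⟨k - 3, by omega⟩
    set u := x ^ (2 ^ j) with hu
    have hu8 : u ^ 8 = 1 := by
      rw [hu, ← pow_mul]
      have : 2 ^ j * 8 = 2 ^ (j + 3) := by rw [pow_add]; norm_num
      rw [this, ← hk]; exact pow_orderOf_eq_one x
    have hu4 : u ^ 4 ≠ 1 := by
      intro h4
      rw [hu, ← pow_mul] at h4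
      have h5 := orderOf_dvd_of_pow_eq_one h4
      rw [hk] at h5
      have h6 := Nat.le_of_dvd (by positivity) h5
      have h7 : 2 ^ j * 4 < 2 ^ (j + 3) := by rw [pow_add]; norm_num
      omega
    refine ⟨QuotientGroup.mk u, ?_, ?_, ?_⟩
    · rw [Subgroup.mem_center_iff]
      intro g
      induction g using QuotientGroup.induction_on with | H g => ?_
      rw [← QuotientGroup.mk_mul, ← QuotientGroup.mk_mul, QuotientGroup.eq, mem_Om]
      have : (g * u)⁻¹ * (u * g) = cm u g := by rw [cm]; group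
      rw [this]
      exact stepC h hu8 g
    · rw [← QuotientGroup.mk_mul, Ne, QuotientGroup.eq_one_iff, mem_Om]
      intro h4
      exact hu4 (pow4_of_sq h4)
    · rw [← QuotientGroup.mk_pow, QuotientGroup.eq_one_iff, mem_Om, ← pow_two, ← pow_mul]
      exact hu8

theorem card_quot_lt (h : Q φ) : Nat.card (G ⧸ Om h) < Nat.card G := by
  have := h.fin
  obtain ⟨z, -, hz2, hz4⟩ := h.z4
  have hne : Om h ≠ ⊥ := by
    intro hbot
    have hmem : z * z ∈ Om h := by
      rw [mem_Om, ← hz4]; simp [pow_succ, mul_assoc]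
    rw [hbot, Subgroup.mem_bot] at hmem
    exact hz2 hmem
  have h1 := Subgroup.card_eq_card_quotient_mul_card_subgroup (Om h)
  have h2 : 1 < Nat.card (Om h) := (Om h).one_lt_card_iff_ne_bot.mpr hne
  have h3 : 0 < Nat.card (G ⧸ Om h) := Nat.card_pos
  rw [h1]
  nlinarith

theorem cm_mem_Om_of_quot_comm (h : Q φ)
    (hq : ∀ a b : G ⧸ Om h, a * b = b * a) (a b : G) : cm a b * cm a b = 1 := by
  have := hq (QuotientGroup.mk b) (QuotientGroup.mk a)
  rw [← QuotientGroup.mk_mul, ← QuotientGroup.mk_mul, QuotientGroup.eq, mem_Om] at this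
  have h2 : (b * a)⁻¹ * (a * b) = cm a b := by rw [cm]; group
  rw [h2] at this
  exact this

end core

section stepE
variable {𝕂 : Type*} [Group 𝕂] {G : Type u} [Group G] {φ : 𝕂 →* MulAut G}

theorem cswap {c : G} (hc : c ∈ Subgroup.center G) (x : G) : x * c = c * x :=
  Subgroup.mem_center_iff.mp hc x

theorem cm_eq_one_iff (a b : G) : cm a b = 1 ↔ a * b = b * a := by
  rw [cm]
  constructor
  · intro h1
    have : a * b = b * a * (a⁻¹ * b⁻¹ * a * b) := by group
    rw [this, h1, mul_one]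
  · intro h1
    calc a⁻¹ * b⁻¹ * a * b = a⁻¹ * b⁻¹ * (a * b) := by group
      _ = a⁻¹ * b⁻¹ * (b * a) := by rw [h1]
      _ = 1 := by group

theorem cm_self (a : G) : cm a a = 1 := by rw [cm]; group

theorem cm_map (σ : MulAut G) (a b : G) : σ (cm a b) = cm (σ a) (σ b) := by
  simp [cm]

theorem cm_right_central (a : G) {z : G} (hz : z ∈ Subgroup.center G) : cm a z = 1 := by
  rw [cm_eq_one_iff]; exact cswap hz a

theorem cm_left_central {z : G} (hz : z ∈ Subgroup.center G) (b : G) : cm z b = 1 := by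
  rw [cm_eq_one_iff]; exact (cswap hz b).symm

section withcm
variable (h : Q φ) (hcm : ∀ a b : G, cm a b * cm a b = 1)
include h hcm

theorem cm_central (a b : G) : cm a b ∈ Subgroup.center G := inv_central h (hcm a b)

theorem cm_mul_left (a a' b : G) : cm (a * a') b = cm a b * cm a' b := by
  have hc := cm_central h hcm a b
  have h1 : a⁻¹ * b⁻¹ * a = cm a b * b⁻¹ := by rw [cm]; group
  calc cm (a * a') b = a'⁻¹ * (a⁻¹ * b⁻¹ * a) * a' * b := by rw [cm]; group
    _ = a'⁻¹ * (cm a b * b⁻¹) * a' * b := by rw [h1]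
    _ = (a'⁻¹ * cm a b) * b⁻¹ * a' * b := by group
    _ = (cm a b * a'⁻¹) * b⁻¹ * a' * b := by rw [cswap hc a'⁻¹]
    _ = cm a b * cm a' b := by rw [cm, cm]; group

theorem cm_mul_right (a b b' : G) : cm a (b * b') = cm a b * cm a b' := by
  have hc := cm_central h hcm a b
  have h1 : b⁻¹ * a * b = a * cm a b := by rw [cm]; group
  calc cm a (b * b') = a⁻¹ * b'⁻¹ * (b⁻¹ * a * b) * b' := by rw [cm]; group
    _ = a⁻¹ * b'⁻¹ * (a * cm a b) * b' := by rw [h1]
    _ = a⁻¹ * b'⁻¹ * a * (cm a b * b') := by group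
    _ = a⁻¹ * b'⁻¹ * a * (b' * cm a b) := by rw [← cswap hc b']
    _ = (a⁻¹ * b'⁻¹ * a * b') * cm a b := by group
    _ = cm a b * cm a b' := by rw [← cswap hc]; rfl

theorem sq_central (a : G) : a * a ∈ Subgroup.center G := by
  rw [Subgroup.mem_center_iff]
  intro b
  have h1 : cm (a * a) b = 1 := by rw [cm_mul_left h hcm, hcm]
  exact ((cm_eq_one_iff _ _).mp h1).symm

theorem pow_central (a : G) {j : ℕ} (hj : 1 ≤ j) : a ^ (2 ^ j) ∈ Subgroup.center G := by
  obtain ⟨i, rfl⟩ : ∃ i, j = i + 1 := ⟨j - 1, by omega⟩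
  have : a ^ (2 ^ (i + 1)) = (a * a) ^ (2 ^ i) := by
    rw [← pow_two, ← pow_mul, pow_succ, mul_comm]
  rw [this]
  exact Subgroup.pow_mem _ (sq_central h hcm a) _

theorem mul_pow_two_pow (a b : G) : ∀ j : ℕ, 2 ≤ j → (a * b) ^ (2 ^ j) = a ^ (2 ^ j) * b ^ (2 ^ j) := by
  intro j hj
  induction j, hj using Nat.le_induction with
  | base =>
    have hs := sq_central h hcm a
    have ht := sq_central h hcm b
    have hd := cm_central h hcm b a
    have h2 : (a * b) * (a * b) = (a * a) * (b * b) * cm b a := by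
      have e1 : b * a = a * b * cm b a := by rw [cm]; group
      calc (a * b) * (a * b) = a * (b * a) * b := by group
        _ = a * (a * b * cm b a) * b := by rw [← e1]
        _ = a * a * b * (cm b a * b) := by group
        _ = a * a * b * (b * cm b a) := by rw [← cswap hd b]
        _ = (a * a) * (b * b) * cm b a := by group
    have c1 : Commute ((a * a) * (b * b)) (cm b a) := cswap hd _
    have c2 : Commute (a * a) (b * b) := cswap ht _
    calc (a * b) ^ 2 ^ 2 = ((a * b) * (a * b)) ^ 2 := by rw [← pow_two, ← pow_mul]; norm_num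
      _ = ((a * a) * (b * b) * cm b a) ^ 2 := by rw [h2]
      _ = ((a * a) * (b * b)) ^ 2 * (cm b a) ^ 2 := c1.mul_pow 2
      _ = (a * a) ^ 2 * (b * b) ^ 2 := by rw [c2.mul_pow, pow_two (cm b a), hcm, mul_one]
      _ = a ^ 2 ^ 2 * b ^ 2 ^ 2 := by rw [← pow_two, ← pow_two, ← pow_mul, ← pow_mul]; norm_num
  | succ j hj ih =>
    have c1 : Commute (a ^ 2 ^ j) (b ^ 2 ^ j) :=
      (cswap (pow_central h hcm a (by omega : 1 ≤ j)) _).symm
    calc (a * b) ^ 2 ^ (j + 1) = ((a * b) ^ 2 ^ j) ^ 2 := by rw [← pow_mul, pow_succ]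
      _ = (a ^ 2 ^ j * b ^ 2 ^ j) ^ 2 := by rw [ih]
      _ = (a ^ 2 ^ j) ^ 2 * (b ^ 2 ^ j) ^ 2 := c1.mul_pow 2
      _ = a ^ 2 ^ (j + 1) * b ^ 2 ^ (j + 1) := by rw [← pow_mul, ← pow_mul, ← pow_succ]

end withcm
end stepE

section final
variable {𝕂 : Type*} [Group 𝕂] {G : Type u} [Group G] {φ : 𝕂 →* MulAut G}

theorem exists_E (h : Q φ) {u : G} (hu4 : u ^ 4 ≠ 1) :
    ∃ E, 3 ≤ E ∧ (∀ a : G, a ^ (2 ^ E) = 1) ∧ ∃ a₁ : G, a₁ ^ (2 ^ (E - 1)) ≠ 1 := by
  classical
  have := h.fin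
  have hex : ∃ E, ∀ a : G, a ^ (2 ^ E) = 1 := by
    obtain ⟨n, hn⟩ := IsPGroup.iff_card.mp h.pg
    exact ⟨n, fun a => by rw [← hn]; exact pow_card_eq_one'⟩
  have hE3 : 3 ≤ Nat.find hex := by
    by_contra hlt
    have h2 : Nat.find hex ≤ 2 := by omega
    have h3 := Nat.find_spec hex u
    apply hu4
    have h4 := orderOf_dvd_of_pow_eq_one h3
    have h5 : 2 ^ Nat.find hex ∣ 4 := (show (2 : ℕ) ^ 2 = 4 by norm_num) ▸ pow_dvd_pow 2 h2
    exact orderOf_dvd_iff_pow_eq_one.mp (dvd_trans h4 h5)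
  refine ⟨Nat.find hex, hE3, Nat.find_spec hex, ?_⟩
  have := Nat.find_min hex (m := Nat.find hex - 1) (by omega)
  push Not at this
  exact this

theorem central_of_pow (h : Q φ) (hcm : ∀ a b : G, cm a b * cm a b = 1) {E : ℕ}
    (hE : ∀ a : G, a ^ (2 ^ E) = 1) {a₁ : G} (ha₁ : a₁ ^ (2 ^ (E - 1)) ≠ 1) (hE1 : 1 ≤ E) :
    ∀ j, 2 ≤ j → j ≤ E - 1 → ∀ a : G, a ^ (2 ^ j) = 1 → a ∈ Subgroup.center G := by
  intro j hj
  induction j, hj using Nat.le_induction with
  | base =>
    intro _ a ha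
    exact stepB h (by simpa using ha)
  | succ j hj ih =>
    intro hjE a ha
    have ih' := ih (by omega)
    have htt : a ^ (2 ^ j) * a ^ (2 ^ j) = 1 := by
      rw [← pow_two, ← pow_mul, ← pow_succ]; exact ha
    by_cases ht1 : a ^ (2 ^ j) = 1
    · exact ih' a ht1
    · have hωω : a₁ ^ (2 ^ (E - 1)) * a₁ ^ (2 ^ (E - 1)) = 1 := by
        rw [← pow_two, ← pow_mul, ← pow_succ, Nat.sub_add_cancel hE1]; exact hE a₁
      obtain ⟨k, hk⟩ := h.trans _ _ ha₁ hωω ht1 htt
      have hbj : ((φ k a₁) ^ (2 ^ (E - 1 - j))) ^ (2 ^ j) = a ^ (2 ^ j) := by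
        rw [← pow_mul, ← pow_add, Nat.sub_add_cancel (by omega : j ≤ E - 1), ← map_pow]
        exact hk
      have hbc : (φ k a₁) ^ (2 ^ (E - 1 - j)) ∈ Subgroup.center G :=
        pow_central h hcm _ (by omega)
      have hcomm : Commute a ((φ k a₁) ^ (2 ^ (E - 1 - j)))⁻¹ :=
        cswap (Subgroup.inv_mem _ hbc) a
      have h1 : (a * ((φ k a₁) ^ (2 ^ (E - 1 - j)))⁻¹) ^ (2 ^ j) = 1 := by
        rw [hcomm.mul_pow, inv_pow, hbj, mul_inv_cancel]
      have h2 := ih' _ h1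
      have : a = (a * ((φ k a₁) ^ (2 ^ (E - 1 - j)))⁻¹) * (φ k a₁) ^ (2 ^ (E - 1 - j)) := by group
      rw [this]
      exact Subgroup.mul_mem _ h2 hbc

theorem abelian_of_cm (hcomm : ∀ a b : 𝕂, a * b = b * a) (hsq : ∀ k : 𝕂, ∃ l : 𝕂, l * l = k)
    (h : Q φ) {u : G} (hu4 : u ^ 4 ≠ 1) (hcm : ∀ a b : G, cm a b * cm a b = 1) :
    ∀ a b : G, a * b = b * a := by
  obtain ⟨E, hE3, hE, a₁, ha₁⟩ := exists_E h hu4
  have hcen := central_of_pow h hcm hE ha₁ (by omega) (E - 1) (by omega) le_rfl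
  have θmul : ∀ a b : G, (a * b) ^ (2 ^ (E - 1)) = a ^ (2 ^ (E - 1)) * b ^ (2 ^ (E - 1)) :=
    fun a b => mul_pow_two_pow h hcm a b (E - 1) (by omega)
  have θsq : ∀ a : G, a ^ (2 ^ (E - 1)) * a ^ (2 ^ (E - 1)) = 1 := by
    intro a
    rw [← pow_two, ← pow_mul, ← pow_succ, Nat.sub_add_cancel (by omega)]; exact hE a
  have θmap : ∀ (k : 𝕂) (a : G), (φ k a) ^ (2 ^ (E - 1)) = φ k (a ^ (2 ^ (E - 1))) :=
    fun k a => (map_pow (φ k) a _).symm
  have hdiff : ∀ a b : G, a ^ (2 ^ (E - 1)) = b ^ (2 ^ (E - 1)) →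
      a⁻¹ * b ∈ Subgroup.center G := by
    intro a b hab
    apply hcen
    rw [θmul, inv_pow, hab, inv_mul_cancel]
  have cm_congr_right : ∀ a b b' : G, b ^ (2 ^ (E - 1)) = b' ^ (2 ^ (E - 1)) →
      cm a b = cm a b' := by
    intro a b b' hbb
    have hz := hdiff b b' hbb
    have : b' = b * (b⁻¹ * b') := by group
    rw [this, cm_mul_right h hcm, cm_right_central a hz, mul_one]
  have cm_congr_left : ∀ a a' b : G, a ^ (2 ^ (E - 1)) = a' ^ (2 ^ (E - 1)) →
      cm a b = cm a' b := by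
    intro a a' b haa
    have hz := hdiff a a' haa
    have : a' = a * (a⁻¹ * a') := by group
    rw [this, cm_mul_left h hcm, cm_left_central hz, mul_one]
  have core : ∀ a₀ : G, a₀ ^ (2 ^ (E - 1)) ≠ 1 → ∀ μ : 𝕂, cm a₀ (φ μ (φ μ a₀)) = 1 := by
    intro a₀ h0 μ
    by_cases hfix : φ μ (a₀ ^ (2 ^ (E - 1))) = a₀ ^ (2 ^ (E - 1))
    · have e1 : (φ μ a₀) ^ (2 ^ (E - 1)) = a₀ ^ (2 ^ (E - 1)) := by rw [θmap]; exact hfix
      have e2 : (φ μ (φ μ a₀)) ^ (2 ^ (E - 1)) = a₀ ^ (2 ^ (E - 1)) := by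
        rw [θmap, e1]; exact hfix
      rw [cm_congr_right a₀ _ a₀ e2, cm_self]
    · have hμω : φ μ (a₀ ^ (2 ^ (E - 1))) * φ μ (a₀ ^ (2 ^ (E - 1))) = 1 := by
        rw [← map_mul, θsq, map_one]
      have hw1 : a₀ ^ (2 ^ (E - 1)) * φ μ (a₀ ^ (2 ^ (E - 1))) ≠ 1 := by
        intro hw1
        apply hfix
        exact mul_left_cancel (hw1.trans (θsq a₀).symm)
      have hww : (a₀ ^ (2 ^ (E - 1)) * φ μ (a₀ ^ (2 ^ (E - 1)))) *
          (a₀ ^ (2 ^ (E - 1)) * φ μ (a₀ ^ (2 ^ (E - 1)))) = 1 :=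
        (Om h).mul_mem (θsq a₀) hμω
      obtain ⟨ρ, hρ⟩ := h.trans _ _ h0 (θsq a₀) hw1 hww
      have claim : ∀ x : G, x * x = 1 → φ ρ x = x * φ μ x := by
        intro x hx
        by_cases hx1 : x = 1
        · subst hx1; simp
        · obtain ⟨κ, hκ⟩ := h.trans _ x h0 (θsq a₀) hx1 hx
          rw [← hκ]
          have e1 : ∀ y : G, φ ρ (φ κ y) = φ κ (φ ρ y) := by
            intro y
            rw [← MulAut.mul_apply, ← MulAut.mul_apply, ← map_mul, ← map_mul, hcomm]
          have e2 : ∀ y : G, φ μ (φ κ y) = φ κ (φ μ y) := by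
            intro y
            rw [← MulAut.mul_apply, ← MulAut.mul_apply, ← map_mul, ← map_mul, hcomm]
          rw [e1, hρ, map_mul, e2]
      have hθa' : (a₀ * φ μ a₀) ^ (2 ^ (E - 1)) = (φ ρ a₀) ^ (2 ^ (E - 1)) := by
        rw [θmul, θmap, θmap, hρ]
      have X1 : cm (a₀ * φ μ a₀) (φ μ (a₀ * φ μ a₀)) =
          cm a₀ (φ μ a₀) * φ μ (cm a₀ (φ μ a₀)) := by
        have e3 : (φ μ (a₀ * φ μ a₀)) ^ (2 ^ (E - 1)) = (φ μ (φ ρ a₀)) ^ (2 ^ (E - 1)) := by
          rw [θmap, θmap, hθa']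
        rw [cm_congr_left _ (φ ρ a₀) _ hθa', cm_congr_right _ _ _ e3]
        have e4 : φ μ (φ ρ a₀) = φ ρ (φ μ a₀) := by
          rw [← MulAut.mul_apply, ← MulAut.mul_apply, ← map_mul, ← map_mul, hcomm]
        rw [e4, ← cm_map, claim _ (hcm _ _)]
      have X2 : cm (a₀ * φ μ a₀) (φ μ (a₀ * φ μ a₀)) =
          (cm a₀ (φ μ a₀) * cm a₀ (φ μ (φ μ a₀))) * (1 * φ μ (cm a₀ (φ μ a₀))) := by
        rw [map_mul (φ μ) a₀ (φ μ a₀), cm_mul_left h hcm, cm_mul_right h hcm,
          cm_mul_right h hcm, cm_self, cm_map]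
      have h3 : cm a₀ (φ μ a₀) * φ μ (cm a₀ (φ μ a₀)) =
          cm a₀ (φ μ a₀) * (cm a₀ (φ μ (φ μ a₀)) * φ μ (cm a₀ (φ μ a₀))) := by
        rw [← X1, X2]; group
      have h4 := mul_left_cancel h3
      have h5 : 1 * φ μ (cm a₀ (φ μ a₀)) = cm a₀ (φ μ (φ μ a₀)) * φ μ (cm a₀ (φ μ a₀)) := by
        rw [one_mul]; exact h4
      exact (mul_right_cancel h5).symm
  have hcentral : ∀ a₀ : G, a₀ ∈ Subgroup.center G := by
    intro a₀
    by_cases h0 : a₀ ^ (2 ^ (E - 1)) = 1
    · exact hcen a₀ h0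
    · rw [Subgroup.mem_center_iff]
      intro b
      have hc : cm a₀ b = 1 := by
        by_cases hb : b ^ (2 ^ (E - 1)) = 1
        · exact cm_right_central a₀ (hcen b hb)
        · obtain ⟨κ, hκ⟩ := h.trans _ _ h0 (θsq a₀) hb (θsq b)
          obtain ⟨μ, rfl⟩ := hsq κ
          have e : b ^ (2 ^ (E - 1)) = (φ μ (φ μ a₀)) ^ (2 ^ (E - 1)) := by
            rw [θmap, θmap, ← hκ, map_mul]; rfl
          rw [cm_congr_right a₀ b _ e]
          exact core a₀ h0 μ
      exact ((cm_eq_one_iff a₀ b).mp hc).symm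
  intro a b
  exact cswap (hcentral b) a

theorem main (hcomm : ∀ a b : 𝕂, a * b = b * a) (hsq : ∀ k : 𝕂, ∃ l : 𝕂, l * l = k) :
    ∀ (n : ℕ) (G : Type u) [Group G] (φ : 𝕂 →* MulAut G), Q φ → Nat.card G ≤ n →
      ∀ a b : G, a * b = b * a := by
  intro n
  induction n with
  | zero =>
    intro G _ φ h hn
    have := h.fin
    have : 0 < Nat.card G := Nat.card_pos
    omega
  | succ n ih =>
    intro G _ φ h hn a b
    by_contra hab
    have hna' : ∃ x : G, x ∉ Subgroup.center G := ⟨b, fun hb => hab (cswap hb a)⟩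
    have hQ := Q_quot h hna'
    have hlt := card_quot_lt h
    have hq := ih (G ⧸ Om h) (phiBar h) hQ (by omega)
    have hcm := cm_mem_Om_of_quot_comm h hq
    obtain ⟨u, hu4⟩ : ∃ u : G, u ^ 4 ≠ 1 := by
      by_contra hall
      push Not at hall
      obtain ⟨x, hx⟩ := hna'
      exact hx (stepB h (hall x))
    exact hab (abelian_of_cm hcomm hsq h hu4 hcm a b)

end final

/-- In a Suzuki 2-group `P` (a finite non-abelian 2-group with more than one involution admitting a cyclic group of automorphisms regular on its involutions) the involutions are exactly the non-identity central elements, and `Z(P)` is elementary abelian. -/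
theorem result {P : Type*} [Group P] (hP : Cfsg.IsSuzukiTwoGroup P) :
    (∀ x : P, (x ≠ 1 ∧ x * x = 1) ↔ (x ∈ Subgroup.center P ∧ x ≠ 1)) ∧
      ∀ z ∈ Subgroup.center P, z * z = 1 := by
  obtain ⟨hfin, hpg, ⟨x0, y0, hxy⟩, ⟨s0, t0, hst, hs1, hs, ht1, ht⟩, K, hKc, hK⟩ := hP
  have hnt : Nontrivial P := ⟨⟨x0 * y0, y0 * x0, hxy⟩⟩
  have hinvc : ∀ x : P, x ≠ 1 → x * x = 1 → x ∈ Subgroup.center P := by
    intro x hx1 hx
    have hcn : Nontrivial (Subgroup.center P) := hpg.center_nontrivial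
    obtain ⟨⟨z₀, hz₀⟩, hne⟩ := exists_ne (1 : Subgroup.center P)
    have hz₀1 : z₀ ≠ 1 := fun e => hne (Subtype.ext e)
    obtain ⟨m, hm⟩ := (IsPGroup.iff_orderOf.mp hpg) z₀
    have hm1 : 1 ≤ m := by
      by_contra hlt
      have : m = 0 := by omega
      rw [this, pow_zero, orderOf_eq_one_iff] at hm
      exact hz₀1 hm
    have hι2 : z₀ ^ (2 ^ (m - 1)) * z₀ ^ (2 ^ (m - 1)) = 1 := by
      rw [← pow_two, ← pow_mul, ← pow_succ, Nat.sub_add_cancel hm1, ← hm]
      exact pow_orderOf_eq_one z₀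
    have hι1 : z₀ ^ (2 ^ (m - 1)) ≠ 1 := by
      intro h1
      have h5 := orderOf_dvd_of_pow_eq_one h1
      rw [hm] at h5
      have h6 := Nat.le_of_dvd (by positivity) h5
      have h7 : 2 ^ (m - 1) < 2 ^ m := Nat.pow_lt_pow_right (by norm_num) (by omega)
      omega
    obtain ⟨k, hk, -⟩ := hK _ x hι1 hι2 hx1 hx
    rw [← hk]
    exact map_mem_center _ (Subgroup.pow_mem _ hz₀ _)
  have hZ : ∀ z ∈ Subgroup.center P, z * z = 1 := by
    intro z hz
    by_contra hzz
    obtain ⟨m, hm⟩ := (IsPGroup.iff_orderOf.mp hpg) z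
    have hm2 : 2 ≤ m := by
      by_contra hlt
      have hdvd : orderOf z ∣ 2 := by
        rw [hm]
        calc 2 ^ m ∣ 2 ^ 1 := pow_dvd_pow 2 (by omega)
          _ = 2 := by norm_num
      exact hzz (by rw [← pow_two]; exact orderOf_dvd_iff_pow_eq_one.mp hdvd)
    obtain ⟨j, rfl⟩ : ∃ j, m = j + 2 := ⟨m - 2, by omega⟩
    have hz4 : (z ^ (2 ^ j)) ^ 4 = 1 := by
      rw [← pow_mul]
      have : 2 ^ j * 4 = 2 ^ (j + 2) := by rw [pow_add]; norm_num
      rw [this, ← hm]; exact pow_orderOf_eq_one z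
    have hz2 : z ^ (2 ^ j) * z ^ (2 ^ j) ≠ 1 := by
      intro h1
      rw [← pow_two, ← pow_mul] at h1
      have h5 := orderOf_dvd_of_pow_eq_one h1
      rw [hm] at h5
      have h6 := Nat.le_of_dvd (by positivity) h5
      have h7 : 2 ^ j * 2 < 2 ^ (j + 2) := by rw [pow_add]; norm_num
      omega
    have hQ : Q (K.subtype) :=
      ⟨hfin, hpg, fun s t hs1 hs ht1 ht => (hK s t hs1 hs ht1 ht).exists,
        ⟨z ^ (2 ^ j), Subgroup.pow_mem _ hz _, hz2, hz4⟩⟩
    have hcomm : ∀ a b : K, a * b = b * a := by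
      letI := IsCyclic.commGroup (α := ↥K)
      exact fun a b => mul_comm a b
    have hsq : ∀ k : K, ∃ l : K, l * l = k := by
      have hmemOm : ∀ k : K, (k : MulAut P) s0 ∈ Om hQ := by
        intro k
        show (k : MulAut P) s0 * (k : MulAut P) s0 = 1
        rw [← map_mul, hs, map_one]
      let f : Option K → Om hQ := fun o =>
        match o with
        | none => 1
        | some k => ⟨(k : MulAut P) s0, hmemOm k⟩
      have hfinj : Function.Injective f := by
        intro a b hab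
        cases a with
        | none =>
          cases b with
          | none => rfl
          | some k =>
            exfalso
            have h1 : (k : MulAut P) s0 = 1 := (congrArg Subtype.val hab).symm
            exact hs1 ((MulEquiv.map_eq_one_iff (k : MulAut P)).mp h1)
        | some k =>
          cases b with
          | none =>
            exfalso
            have h1 : (k : MulAut P) s0 = 1 := congrArg Subtype.val hab
            exact hs1 ((MulEquiv.map_eq_one_iff (k : MulAut P)).mp h1)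
          | some k' =>
            have h1 : (k : MulAut P) s0 = (k' : MulAut P) s0 := congrArg Subtype.val hab
            have hk's : (k' : MulAut P) s0 ≠ 1 := fun e =>
              hs1 ((MulEquiv.map_eq_one_iff (k' : MulAut P)).mp e)
            have hu := (hK s0 ((k' : MulAut P) s0) hs1 hs hk's (hmemOm k')).unique h1 rfl
            rw [hu]
      have hfsurj : Function.Surjective f := by
        rintro ⟨x, hx⟩
        by_cases hx1 : x = 1
        · exact ⟨none, Subtype.ext hx1.symm⟩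
        · obtain ⟨k, hk, -⟩ := hK s0 x hs1 hs hx1 hx
          exact ⟨some k, Subtype.ext hk⟩
      have hcard : Nat.card K + 1 = Nat.card (Om hQ) := by
        rw [← Finite.card_option, Nat.card_congr (Equiv.ofBijective f ⟨hfinj, hfsurj⟩)]
      obtain ⟨n, hn⟩ := IsPGroup.iff_card.mp (hpg.to_subgroup (Om hQ))
      have hn1 : 1 ≤ n := by
        by_contra hlt
        have hn0 : n = 0 := by omega
        rw [hn0, pow_zero] at hn
        have : 0 < Nat.card K := Nat.card_pos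
        omega
      have h2dvd : 2 ∣ 2 ^ n := dvd_pow_self 2 (by omega)
      obtain ⟨r, hr⟩ : ∃ r, Nat.card K = 2 * r + 1 := by
        obtain ⟨c, hc⟩ := h2dvd
        refine ⟨c - 1, ?_⟩
        have : 0 < Nat.card K := Nat.card_pos
        omega
      intro k
      refine ⟨k ^ (r + 1), ?_⟩
      have h1 : k ^ (r + 1) * k ^ (r + 1) = k ^ (Nat.card K) * k := by
        rw [← pow_add, ← pow_succ, hr]; congr 1; ring
      rw [h1, pow_card_eq_one', one_mul]
    exact hxy (main hcomm hsq (Nat.card P) P K.subtype hQ le_rfl x0 y0)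
  exact ⟨fun x => ⟨fun ⟨hx1, hx⟩ => ⟨hinvc x hx1 hx, hx1⟩, fun ⟨hxc, hx1⟩ => ⟨hx1, hZ x hxc⟩⟩, hZ⟩

end Cfsg.Agent.S1137
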