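import Cfsg.Statements.S3773
import Cfsg.Agent.Lib.Helper1.PFrattini
import Cfsg.Agent.Lib.Helper47.Frattini
import Mathlib.FieldTheory.ChevalleyWarning
import Mathlib.LinearAlgebra.QuadraticForm.Basic

set_option autoImplicit false
set_option linter.unusedSectionVars false
set_option linter.style.haveILetI false
open Cfsg

namespace Cfsg.Agent.S3773

open MvPolynomial QuadraticMap Module
open scoped commutatorElement

section CWQ

variable {C W : Type*} [AddCommGroup C] [Module (ZMod 2) C] [AddCommGroup W] [Module (ZMod 2) W]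

lemma exists_poly (Q : QuadraticMap (ZMod 2) C (ZMod 2)) {ι : Type*} [DecidableEq ι] (b : ι → C)
    (s : Finset ι) :
    ∃ P : MvPolynomial ι (ZMod 2), P.totalDegree ≤ 2 ∧
      ∀ e : ι → ZMod 2, MvPolynomial.eval e P = Q (∑ i ∈ s, e i • b i) := by
  induction s using Finset.induction_on with
  | empty => exact ⟨0, by simp, fun e => by simp⟩
  | insert a s ha ih =>
    obtain ⟨P, hP, hPe⟩ := ih
    refine ⟨MvPolynomial.C (Q (b a)) * (X a * X a) + P +
      ∑ i ∈ s, MvPolynomial.C (polar Q (b a) (b i)) * (X a * X i), ?_, ?_⟩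
    · have h1 : ∀ (c : ZMod 2) (i j : ι),
          (MvPolynomial.C c * (X i * X j) : MvPolynomial ι (ZMod 2)).totalDegree ≤ 2 := by
        intro c i j
        refine (totalDegree_mul _ _).trans ?_
        rw [totalDegree_C, zero_add]
        refine (totalDegree_mul _ _).trans ?_
        rw [totalDegree_X, totalDegree_X]
      refine (totalDegree_add _ _).trans (max_le ((totalDegree_add _ _).trans (max_le (h1 _ _ _) hP)) ?_)
      exact totalDegree_finsetSum_le (fun i _ => h1 _ _ _)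
    · intro e
      rw [Finset.sum_insert ha, QuadraticMap.map_add Q, QuadraticMap.map_smul, ← hPe]
      simp only [map_add, map_mul, eval_C, eval_X, map_sum, smul_eq_mul]
      have : polar Q (e a • b a) (∑ i ∈ s, e i • b i) =
          ∑ i ∈ s, polar Q (b a) (b i) * (e a * e i) := by
        rw [← polarBilin_apply_apply, map_sum]
        refine Finset.sum_congr rfl (fun i _ => ?_)
        rw [polarBilin_apply_apply, polar_smul_left, polar_smul_right]
        simp only [smul_eq_mul]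
        ring
      rw [this]
      ring

/-- Chevalley–Warning for quadratic maps over `ZMod 2`. -/
theorem exists_zero [Finite C] [Finite W] (Q : QuadraticMap (ZMod 2) C W)
    (h : 2 * Module.finrank (ZMod 2) W < Module.finrank (ZMod 2) C) :
    ∃ v : C, v ≠ 0 ∧ Q v = 0 := by
  classical
  set c := Module.finrank (ZMod 2) C with hc
  set k := Module.finrank (ZMod 2) W with hk
  let bC : Module.Basis (Fin c) (ZMod 2) C := Module.finBasis (ZMod 2) C
  let bW : Module.Basis (Fin k) (ZMod 2) W := Module.finBasis (ZMod 2) W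
  have hpoly : ∀ j : Fin k, ∃ P : MvPolynomial (Fin c) (ZMod 2), P.totalDegree ≤ 2 ∧
      ∀ e : Fin c → ZMod 2, MvPolynomial.eval e P = bW.coord j (Q (∑ i, e i • bC i)) := by
    intro j
    obtain ⟨P, hP, hPe⟩ := exists_poly ((bW.coord j).compQuadraticMap Q) bC Finset.univ
    exact ⟨P, hP, fun e => by rw [hPe e]; rfl⟩
  choose P hPdeg hPe using hpoly
  have hlt : ∑ i, (P i).totalDegree < Fintype.card (Fin c) := by
    calc ∑ i, (P i).totalDegree ≤ ∑ _i : Fin k, 2 := Finset.sum_le_sum (fun i _ => hPdeg i)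
      _ = 2 * k := by simp [mul_comm]
      _ < Fintype.card (Fin c) := by simpa using h
  have hCW := char_dvd_card_solutions_of_fintype_sum_lt 2 hlt
  have h0 : ∀ i, MvPolynomial.eval (0 : Fin c → ZMod 2) (P i) = 0 := by
    intro i
    rw [hPe]
    simp
  have hCW' : 2 ∣ Nat.card { x : Fin c → ZMod 2 // ∀ i, MvPolynomial.eval x (P i) = 0 } := by
    rw [Nat.card_eq_fintype_card]
    convert hCW
  haveI : Nonempty { x : Fin c → ZMod 2 // ∀ i, MvPolynomial.eval x (P i) = 0 } := ⟨⟨0, h0⟩⟩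
  have hpos : 0 < Nat.card { x : Fin c → ZMod 2 // ∀ i, MvPolynomial.eval x (P i) = 0 } :=
    Nat.card_pos
  have hcard : 1 < Nat.card { x : Fin c → ZMod 2 // ∀ i, MvPolynomial.eval x (P i) = 0 } := by
    have := Nat.le_of_dvd hpos hCW'
    omega
  haveI : Nontrivial { x : Fin c → ZMod 2 // ∀ i, MvPolynomial.eval x (P i) = 0 } :=
    Finite.one_lt_card_iff_nontrivial.mp hcard
  obtain ⟨⟨e, he⟩, hne⟩ :=
    exists_ne (⟨0, h0⟩ : { x : Fin c → ZMod 2 // ∀ i, MvPolynomial.eval x (P i) = 0 })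
  refine ⟨∑ i, e i • bC i, ?_, ?_⟩
  · intro hv
    apply hne
    apply Subtype.ext
    show e = 0
    have : bC.equivFun.symm e = 0 := by rw [Module.Basis.equivFun_symm_apply]; exact hv
    exact bC.equivFun.symm.map_eq_zero_iff.mp this
  · apply bW.repr.injective
    rw [map_zero]
    ext j
    have := he j
    rw [hPe] at this
    simpa [Module.Basis.coord_apply] using this

end CWQ

section LA

variable {V W : Type*} [AddCommGroup V] [Module (ZMod 2) V] [Finite V]
  [AddCommGroup W] [Module (ZMod 2) W] [Finite W] (Q : QuadraticMap (ZMod 2) V W)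

/-- L1 -/
theorem finrank_le_of_aniso (C : Submodule (ZMod 2) V) (W' : Submodule (ZMod 2) W)
    (hW' : ∀ v ∈ C, Q v ∈ W') (hC : ∀ v ∈ C, Q v = 0 → v = 0) :
    finrank (ZMod 2) C ≤ 2 * finrank (ZMod 2) W' := by
  by_contra h
  push Not at h
  obtain ⟨g, hg⟩ := LinearMap.exists_leftInverse_of_injective W'.subtype (Submodule.ker_subtype W')
  obtain ⟨v, hv, hQ⟩ := exists_zero ((g.compQuadraticMap Q).comp C.subtype) h
  apply hv
  apply Subtype.ext
  apply hC v.1 v.2
  have h1 : g (Q v.1) = 0 := hQ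
  have h2 : Q v.1 = W'.subtype ⟨Q v.1, hW' v.1 v.2⟩ := rfl
  rw [h2] at h1
  have h3 : g (W'.subtype ⟨Q v.1, hW' v.1 v.2⟩) = ⟨Q v.1, hW' v.1 v.2⟩ :=
    LinearMap.congr_fun hg _
  rw [h3] at h1
  exact congrArg Subtype.val h1

/-- L2 -/
theorem span_range_eq_top (C : Submodule (ZMod 2) V) (hC : ∀ v ∈ C, Q v = 0 → v = 0)
    (heq : finrank (ZMod 2) C = 2 * finrank (ZMod 2) W) :
    Submodule.span (ZMod 2) (Set.range Q) = ⊤ := by
  by_contra hne
  have h1 := finrank_le_of_aniso Q C (Submodule.span (ZMod 2) (Set.range Q))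
    (fun v _ => Submodule.subset_span ⟨v, rfl⟩) hC
  have h2 := Submodule.finrank_lt hne
  omega

/-- L3 -/
theorem span_polar_eq_top (C : Submodule (ZMod 2) V) (hC : ∀ v ∈ C, Q v = 0 → v = 0)
    (heq : finrank (ZMod 2) C = 2 * finrank (ZMod 2) W) :
    Submodule.span (ZMod 2) {w | ∃ v v' : V, polar Q v v' = w} = ⊤ := by
  by_contra hne
  set W'' := Submodule.span (ZMod 2) {w | ∃ v v' : V, polar Q v v' = w} with hW''
  have hlt := Submodule.finrank_lt hne
  have hquot := Submodule.finrank_quotient_add_finrank W''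
  -- additive map C → W ⧸ W''
  let f0 : C →+ (W ⧸ W'') :=
    { toFun := fun v => W''.mkQ (Q v.1)
      map_zero' := by simp
      map_add' := by
        intro v w
        show W''.mkQ (Q (v.1 + w.1)) = _
        rw [QuadraticMap.map_add Q, map_add, map_add]
        have : W''.mkQ (polar Q v.1 w.1) = 0 := by
          rw [Submodule.mkQ_apply, Submodule.Quotient.mk_eq_zero]
          exact Submodule.subset_span ⟨v.1, w.1, rfl⟩
        rw [this, add_zero] }
  let f : C →ₗ[ZMod 2] (W ⧸ W'') := f0.toZModLinearMap 2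
  have hrk := LinearMap.finrank_range_add_finrank_ker f
  have hrange : finrank (ZMod 2) (LinearMap.range f) ≤ finrank (ZMod 2) (W ⧸ W'') :=
    Submodule.finrank_le _
  have h1 := finrank_le_of_aniso Q ((LinearMap.ker f).map C.subtype) W'' ?_ ?_
  · rw [Submodule.finrank_map_subtype_eq] at h1
    omega
  · rintro _ ⟨v, hv, rfl⟩
    have : W''.mkQ (Q v.1) = 0 := hv
    rwa [Submodule.mkQ_apply, Submodule.Quotient.mk_eq_zero] at this
  · rintro _ ⟨v, hv, rfl⟩ hQ
    exact hC v.1 v.2 hQ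

/-- L4 -/
theorem finrank_lt_of_radical (U : Submodule (ZMod 2) V) (hU : ∀ v, Q v = 0 ↔ v ∈ U)
    (v₀ : V) (hv₀ : v₀ ∉ U) (hrad : ∀ w, polar Q v₀ w = 0) :
    finrank (ZMod 2) V + 1 ≤ finrank (ZMod 2) U + 2 * finrank (ZMod 2) W := by
  have hQv₀ : Q v₀ ≠ 0 := fun h => hv₀ ((hU v₀).mp h)
  set L := Submodule.span (ZMod 2) {Q v₀} with hL
  have hLrank : finrank (ZMod 2) L = 1 := finrank_span_singleton hQv₀
  have hquot := Submodule.finrank_quotient_add_finrank L
  have hv₀0 : v₀ ≠ 0 := fun h => hv₀ (h ▸ U.zero_mem)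
  set U₁ := U ⊔ Submodule.span (ZMod 2) {v₀} with hU₁
  have hinf : U ⊓ Submodule.span (ZMod 2) {v₀} = ⊥ := by
    rw [eq_bot_iff]
    rintro x ⟨hxU, hxv⟩
    obtain ⟨a, rfl⟩ := Submodule.mem_span_singleton.mp hxv
    rcases (by decide : ∀ a : ZMod 2, a = 0 ∨ a = 1) a with rfl | rfl
    · simp
    · exfalso; apply hv₀; simpa using hxU
  have hU₁rank : finrank (ZMod 2) U₁ = finrank (ZMod 2) U + 1 := by
    have := Submodule.finrank_sup_add_finrank_inf_eq U (Submodule.span (ZMod 2) {v₀})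
    rw [hinf, finrank_bot, finrank_span_singleton hv₀0] at this
    omega
  obtain ⟨C₁, hC₁⟩ := Submodule.exists_isCompl U₁
  have hcompl := Submodule.finrank_add_eq_of_isCompl hC₁
  haveI : Finite (W ⧸ L) := Finite.of_surjective L.mkQ (Submodule.mkQ_surjective L)
  have h1 := finrank_le_of_aniso (L.mkQ.compQuadraticMap Q) C₁ ⊤ (fun _ _ => Submodule.mem_top) ?_
  · rw [finrank_top] at h1
    omega
  · intro v hv hQ
    have hQL : Q v ∈ L := by
      have : L.mkQ (Q v) = 0 := hQ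
      rwa [Submodule.mkQ_apply, Submodule.Quotient.mk_eq_zero] at this
    obtain ⟨a, ha⟩ := Submodule.mem_span_singleton.mp hQL
    have hvU₁ : v ∈ U₁ := by
      rcases (by decide : ∀ a : ZMod 2, a = 0 ∨ a = 1) a with rfl | rfl
      · have : Q v = 0 := by rw [← ha]; simp
        exact Submodule.mem_sup_left ((hU v).mp this)
      · have hQv : Q v = Q v₀ := by rw [← ha]; simp
        have : Q (v + v₀) = 0 := by
          rw [QuadraticMap.map_add Q, hQv, polar_comm, hrad v]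
          rw [add_zero, ← two_smul (ZMod 2)]
          have : (2 : ZMod 2) = 0 := by decide
          rw [this, zero_smul]
        have hmem := (hU _).mp this
        have : v = (v + v₀) - v₀ := by abel
        rw [this]
        exact U₁.sub_mem (Submodule.mem_sup_left hmem)
          (Submodule.mem_sup_right (Submodule.mem_span_singleton_self v₀))
    have : v ∈ U₁ ⊓ C₁ := ⟨hvU₁, hv⟩
    rw [hC₁.inf_eq_bot] at this
    exact this

end LA

section Grp

variable {G : Type*} [Group G]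
  (hcent : ∀ x y z : G, ⁅x, y⁆ * z = z * ⁅x, y⁆)
  (hexp : ∀ x : G, x ^ 4 = 1)
  (hN : ∀ x y : G, x ^ 2 = 1 → y ^ 2 = 1 → (x * y) ^ 2 = 1)

include hcent in
lemma sq_mul (x y : G) : (x * y) ^ 2 = x ^ 2 * y ^ 2 * ⁅y, x⁆ := by
  have hc : y * x = ⁅y, x⁆ * (x * y) := by rw [commutatorElement_def]; group
  have hcx := hcent y x x
  have hcxy := hcent y x (x ^ 2 * y ^ 2)
  generalize ⁅y, x⁆ = c at *
  calc (x * y) ^ 2 = x * (y * x) * y := by simp only [pow_two, mul_assoc]
    _ = x * (c * (x * y)) * y := by rw [hc]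
    _ = (x * c) * (x * y) * y := by group
    _ = (c * x) * (x * y) * y := by rw [hcx]
    _ = c * (x ^ 2 * y ^ 2) := by simp only [pow_two, mul_assoc]
    _ = x ^ 2 * y ^ 2 * c := hcxy

include hcent in
lemma comm_mul_left (x x' y : G) : ⁅x * x', y⁆ = ⁅x, y⁆ * ⁅x', y⁆ := by
  have h1 : ⁅x * x', y⁆ = x * ⁅x', y⁆ * x⁻¹ * ⁅x, y⁆ := by
    simp only [commutatorElement_def]; group
  have hcx := hcent x' y x
  have hcc := hcent x' y ⁅x, y⁆
  rw [h1]
  generalize ⁅x', y⁆ = c at *
  generalize ⁅x, y⁆ = d at *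
  calc x * c * x⁻¹ * d = (x * c) * x⁻¹ * d := by group
    _ = (c * x) * x⁻¹ * d := by rw [hcx]
    _ = c * d := by group
    _ = d * c := hcc

include hcent in
lemma comm_mul_right (x y y' : G) : ⁅x, y * y'⁆ = ⁅x, y⁆ * ⁅x, y'⁆ := by
  have h1 : ⁅x, y * y'⁆ = ⁅x, y⁆ * (y * ⁅x, y'⁆ * y⁻¹) := by
    simp only [commutatorElement_def]; group
  have hcy := hcent x y' y
  rw [h1]
  generalize ⁅x, y'⁆ = c at *
  generalize ⁅x, y⁆ = d at *
  calc d * (y * c * y⁻¹) = d * ((y * c) * y⁻¹) := by group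
    _ = d * ((c * y) * y⁻¹) := by rw [hcy]
    _ = d * c := by group

include hexp in
lemma sq_sq (x : G) : (x ^ 2) ^ 2 = 1 := by rw [← pow_mul]; exact hexp x

lemma inv_sq_one {x : G} (hx : x ^ 2 = 1) : x⁻¹ ^ 2 = 1 := by rw [inv_pow, hx, inv_one]

include hcent hexp hN in
lemma comm_sq (x y : G) : ⁅x, y⁆ ^ 2 = 1 := by
  have h1 := sq_mul hcent y x
  have h2 : ⁅x, y⁆ = (y ^ 2 * x ^ 2)⁻¹ * (y * x) ^ 2 := by rw [h1]; group
  rw [h2]
  exact hN _ _ (inv_sq_one (hN _ _ (sq_sq hexp y) (sq_sq hexp x))) (sq_sq hexp _)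

include hcent hexp hN in
lemma sq_central (x y : G) : x ^ 2 * y = y * x ^ 2 := by
  have h1 : ⁅x ^ 2, y⁆ = 1 := by
    rw [pow_two, comm_mul_left hcent, ← pow_two, comm_sq hcent hexp hN]
  have h2 : x ^ 2 * y = ⁅x ^ 2, y⁆ * (y * x ^ 2) := by
    rw [commutatorElement_def]; group
  rw [h2, h1, one_mul]

variable {V W : Type*} [AddCommGroup V] [Module (ZMod 2) V]
  [AddCommGroup W] [Module (ZMod 2) W]
  (π : G → V) (hπmul : ∀ x y, π (x * y) = π x + π y) (hπsurj : Function.Surjective π)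
  (hπker : ∀ x, π x = 0 ↔ (x ^ 2 = 1 ∧ ∀ y, x * y = y * x))
  (ρ : {x : G // x ^ 2 = 1} → W)
  (hρmul : ∀ (a b : {x : G // x ^ 2 = 1}) (hab : (a.1 * b.1) ^ 2 = 1), ρ ⟨a.1 * b.1, hab⟩ = ρ a + ρ b)
  (hρinj : Function.Injective ρ)

include hρmul in
lemma rho_one : ρ ⟨1, one_pow 2⟩ = 0 := by
  have := hρmul ⟨1, one_pow 2⟩ ⟨1, one_pow 2⟩ (by simp)
  simp only [mul_one] at this
  exact left_eq_add.mp this

include hπmul in
lemma pi_one : π 1 = 0 := by
  have := hπmul 1 1
  rw [mul_one] at this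
  exact left_eq_add.mp this

include hπmul in
lemma pi_inv (x : G) : π x⁻¹ = - π x := by
  have := hπmul x x⁻¹
  rw [mul_inv_cancel, pi_one π hπmul] at this
  exact (neg_eq_of_add_eq_zero_right this.symm).symm

include hcent hexp hN hπmul hπker in
/-- squares depend only on the image under `π`. -/
lemma sq_eq_of_pi_eq {x y : G} (h : π x = π y) : x ^ 2 = y ^ 2 := by
  have h1 : π (x⁻¹ * y) = 0 := by rw [hπmul, pi_inv π hπmul, h, neg_add_cancel]
  obtain ⟨hz2, hzc⟩ := (hπker _).mp h1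
  have h2 : y = x * (x⁻¹ * y) := by group
  rw [h2, sq_mul hcent]
  have h3 : ⁅x⁻¹ * y, x⁆ = 1 := by
    rw [commutatorElement_def, hzc x]; group
  rw [h3, hz2, mul_one, mul_one]

omit [Module (ZMod 2) W] in
lemma rho_congr {x y : G} (hx : x ^ 2 = 1) (hy : y ^ 2 = 1) (h : x = y) : ρ ⟨x, hx⟩ = ρ ⟨y, hy⟩ := by
  subst h; rfl

/-- the squaring map on `V`. -/
noncomputable def Qfun (v : V) : W := ρ ⟨(Function.surjInv hπsurj v) ^ 2, sq_sq hexp _⟩

include hcent hN hπmul hπker in
lemma Qfun_pi (x : G) : Qfun hexp π hπsurj ρ (π x) = ρ ⟨x ^ 2, sq_sq hexp x⟩ := by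
  unfold Qfun
  apply rho_congr
  exact sq_eq_of_pi_eq hcent hexp hN π hπmul hπker (Function.surjInv_eq hπsurj (π x))

include hcent hN hπmul hπker hρmul in
lemma Qfun_zero : Qfun hexp π hπsurj ρ 0 = 0 := by
  rw [← pi_one π hπmul, Qfun_pi hcent hexp hN π hπmul hπsurj hπker ρ 1,
    rho_congr ρ (sq_sq hexp 1) (one_pow 2) (one_pow 2)]
  exact rho_one ρ hρmul

include hcent hN hπmul hπker hρmul in
lemma polar_pi (x y : G) : polar (Qfun hexp π hπsurj ρ) (π x) (π y) =
    ρ ⟨⁅y, x⁆, comm_sq hcent hexp hN y x⟩ := by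
  unfold polar
  rw [← hπmul, Qfun_pi hcent hexp hN π hπmul hπsurj hπker ρ,
    Qfun_pi hcent hexp hN π hπmul hπsurj hπker ρ, Qfun_pi hcent hexp hN π hπmul hπsurj hπker ρ]
  have h1 : x ^ 2 * y ^ 2 * ⁅y, x⁆ = (x * y) ^ 2 := (sq_mul hcent x y).symm
  have hxy : (x ^ 2 * y ^ 2) ^ 2 = 1 := hN _ _ (sq_sq hexp x) (sq_sq hexp y)
  have hxyc : (x ^ 2 * y ^ 2 * ⁅y, x⁆) ^ 2 = 1 := hN _ _ hxy (comm_sq hcent hexp hN y x)
  rw [rho_congr ρ (sq_sq hexp (x * y)) hxyc h1.symm,
    hρmul ⟨x ^ 2 * y ^ 2, hxy⟩ ⟨⁅y, x⁆, comm_sq hcent hexp hN y x⟩ hxyc,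
    hρmul ⟨x ^ 2, sq_sq hexp x⟩ ⟨y ^ 2, sq_sq hexp y⟩ hxy]
  abel

include hcent hN hπmul hπker hρmul in
/-- the quadratic map -/
noncomputable def Qmap : QuadraticMap (ZMod 2) V W :=
  QuadraticMap.ofPolar (Qfun hexp π hπsurj ρ)
    (by
      intro a v
      rcases (by decide : ∀ a : ZMod 2, a = 0 ∨ a = 1) a with rfl | rfl
      · rw [zero_smul, mul_zero, zero_smul]
        exact Qfun_zero hcent hexp hN π hπmul hπsurj hπker ρ hρmul
      · rw [one_smul, mul_one, one_smul])
    (by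
      intro v v' w
      obtain ⟨x, rfl⟩ := hπsurj v
      obtain ⟨x', rfl⟩ := hπsurj v'
      obtain ⟨y, rfl⟩ := hπsurj w
      rw [← hπmul, polar_pi hcent hexp hN π hπmul hπsurj hπker ρ hρmul,
        polar_pi hcent hexp hN π hπmul hπsurj hπker ρ hρmul,
        polar_pi hcent hexp hN π hπmul hπsurj hπker ρ hρmul]
      have h1 : ⁅y, x * x'⁆ = ⁅y, x⁆ * ⁅y, x'⁆ := comm_mul_right hcent y x x'
      have h2 : (⁅y, x⁆ * ⁅y, x'⁆) ^ 2 = 1 :=
        hN _ _ (comm_sq hcent hexp hN y x) (comm_sq hcent hexp hN y x')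
      rw [rho_congr ρ (comm_sq hcent hexp hN y (x * x')) h2 h1]
      exact hρmul ⟨⁅y, x⁆, comm_sq hcent hexp hN y x⟩ ⟨⁅y, x'⁆, comm_sq hcent hexp hN y x'⟩ h2)
    (by
      intro a v w
      rcases (by decide : ∀ a : ZMod 2, a = 0 ∨ a = 1) a with rfl | rfl
      · rw [zero_smul, zero_smul]
        unfold polar
        rw [zero_add, Qfun_zero hcent hexp hN π hπmul hπsurj hπker ρ hρmul]
        abel
      · rw [one_smul, one_smul])

include hcent hN hπmul hπker hρmul in
lemma Qmap_pi (x : G) : Qmap hcent hexp hN π hπmul hπsurj hπker ρ hρmul (π x) =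
    ρ ⟨x ^ 2, sq_sq hexp x⟩ :=
  Qfun_pi hcent hexp hN π hπmul hπsurj hπker ρ x

include hcent hN hπmul hπker hρmul in
lemma Qmap_polar (x y : G) : polar (Qmap hcent hexp hN π hπmul hπsurj hπker ρ hρmul) (π x) (π y) =
    ρ ⟨⁅y, x⁆, comm_sq hcent hexp hN y x⟩ :=
  polar_pi hcent hexp hN π hπmul hπsurj hπker ρ hρmul x y

include hρmul hρinj in
lemma rho_eq_zero_iff {x : G} (hx : x ^ 2 = 1) : ρ ⟨x, hx⟩ = 0 ↔ x = 1 := by
  constructor
  · intro h
    rw [← rho_one ρ hρmul] at h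
    exact congrArg Subtype.val (hρinj h)
  · intro h
    rw [rho_congr ρ hx (one_pow 2) h]
    exact rho_one ρ hρmul

include hcent hN hπmul hπker hρmul hρinj in
lemma Qmap_eq_zero_iff (x : G) :
    Qmap hcent hexp hN π hπmul hπsurj hπker ρ hρmul (π x) = 0 ↔ x ^ 2 = 1 := by
  rw [Qmap_pi, rho_eq_zero_iff ρ hρmul hρinj]

/-- the submodule attached to a subgroup `H`: images under `ρ` of the involutions of `H`. -/
def subOf (H : Subgroup G) : Submodule (ZMod 2) W where
  carrier := {w | ∃ (x : G) (hx : x ^ 2 = 1), x ∈ H ∧ ρ ⟨x, hx⟩ = w}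
  add_mem' := by
    rintro _ _ ⟨x, hx, hxH, rfl⟩ ⟨y, hy, hyH, rfl⟩
    exact ⟨x * y, hN x y hx hy, H.mul_mem hxH hyH, hρmul ⟨x, hx⟩ ⟨y, hy⟩ _⟩
  zero_mem' := ⟨1, one_pow 2, H.one_mem, rho_one ρ hρmul⟩
  smul_mem' := by
    rintro a _ ⟨x, hx, hxH, rfl⟩
    rcases (by decide : ∀ a : ZMod 2, a = 0 ∨ a = 1) a with rfl | rfl
    · rw [zero_smul]; exact ⟨1, one_pow 2, H.one_mem, rho_one ρ hρmul⟩
    · rw [one_smul]; exact ⟨x, hx, hxH, rfl⟩

include hρinj in
lemma mem_of_rho_mem_subOf (H : Subgroup G) {x : G} (hx : x ^ 2 = 1)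
    (h : ρ ⟨x, hx⟩ ∈ subOf hN ρ hρmul H) : x ∈ H := by
  obtain ⟨y, hy, hyH, he⟩ := h
  have := congrArg Subtype.val (hρinj he)
  simp only at this
  rwa [← this]

include hcent hexp hN hπmul hπsurj hπker hρmul hρinj in
theorem aux [Finite G] [Finite V] [Finite W] (hρsurj : Function.Surjective ρ) :
    Nat.card G ≤ Nat.card W ^ 3 ∧
    (Nat.card G = Nat.card W ^ 3 →
      (∀ x : G, x ^ 2 = 1 → x ∈ Subgroup.closure {y : G | ∃ z, y = z ^ 2}) ∧
      (∀ x : G, x ^ 2 = 1 → x ∈ commutator G) ∧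
      (∀ x : G, (∀ y, x * y = y * x) → x ^ 2 = 1)) := by
  set Q := Qmap hcent hexp hN π hπmul hπsurj hπker ρ hρmul with hQ
  have hQz : ∀ x, Q (π x) = 0 ↔ x ^ 2 = 1 :=
    Qmap_eq_zero_iff hcent hexp hN π hπmul hπsurj hπker ρ hρmul hρinj
  let U : Submodule (ZMod 2) V :=
    { carrier := {v | Q v = 0}
      add_mem' := by
        intro v w hv hw
        obtain ⟨x, rfl⟩ := hπsurj v
        obtain ⟨y, rfl⟩ := hπsurj w
        show Q (π x + π y) = 0
        rw [← hπmul, hQz]
        exact hN x y ((hQz x).mp hv) ((hQz y).mp hw)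
      zero_mem' := QuadraticMap.map_zero Q
      smul_mem' := by
        intro a v hv
        show Q (a • v) = 0
        rw [QuadraticMap.map_smul, show Q v = 0 from hv, smul_zero] }
  have hU : ∀ v, Q v = 0 ↔ v ∈ U := fun v => Iff.rfl
  obtain ⟨C, hUC⟩ := Submodule.exists_isCompl U
  have hC : ∀ v ∈ C, Q v = 0 → v = 0 := by
    intro v hv hQv
    have : v ∈ U ⊓ C := ⟨hQv, hv⟩
    rw [hUC.inf_eq_bot] at this
    exact this
  have h1 : finrank (ZMod 2) C ≤ 2 * finrank (ZMod 2) W := by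
    have := finrank_le_of_aniso Q C ⊤ (fun _ _ => Submodule.mem_top) hC
    rwa [finrank_top] at this
  have hcardG : Nat.card G ≤ Nat.card C * Nat.card {x : G // x ^ 2 = 1} := by
    rw [← Nat.card_prod]
    refine Nat.card_le_card_of_surjective
      (fun p : C × {x : G // x ^ 2 = 1} => Function.surjInv hπsurj p.1.1 * p.2.1) ?_
    intro g
    have : π g ∈ U ⊔ C := by rw [hUC.sup_eq_top]; exact Submodule.mem_top
    obtain ⟨u, hu, c, hc, huc⟩ := Submodule.mem_sup.mp this
    have hx : ((Function.surjInv hπsurj c)⁻¹ * g) ^ 2 = 1 := by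
      rw [← hQz, hπmul, pi_inv π hπmul, Function.surjInv_eq hπsurj, ← huc]
      have : -c + (u + c) = u := by abel
      rw [this]
      exact hu
    exact ⟨(⟨c, hc⟩, ⟨(Function.surjInv hπsurj c)⁻¹ * g, hx⟩), by simp⟩
  have hcardN : Nat.card {x : G // x ^ 2 = 1} = Nat.card W :=
    Nat.card_congr (Equiv.ofBijective ρ ⟨hρinj, hρsurj⟩)
  have hcardC : Nat.card C = 2 ^ finrank (ZMod 2) C := by
    rw [Module.natCard_eq_pow_finrank (K := ZMod 2), Nat.card_zmod]
  have hcardW : Nat.card W = 2 ^ finrank (ZMod 2) W := by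
    rw [Module.natCard_eq_pow_finrank (K := ZMod 2), Nat.card_zmod]
  rw [hcardN, hcardC, hcardW] at hcardG
  rw [hcardW]
  have hpow3 : (2 ^ finrank (ZMod 2) W) ^ 3 = 2 ^ (2 * finrank (ZMod 2) W) * 2 ^ finrank (ZMod 2) W := by
    rw [← pow_mul, ← pow_add]; congr 1; ring
  constructor
  · rw [hpow3]
    exact hcardG.trans (Nat.mul_le_mul_right _ (Nat.pow_le_pow_right (by norm_num) h1))
  · intro heq
    have hceq : finrank (ZMod 2) C = 2 * finrank (ZMod 2) W := by
      refine le_antisymm h1 ?_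
      rw [heq, hpow3] at hcardG
      have := Nat.le_of_mul_le_mul_right hcardG (by positivity)
      exact (Nat.pow_le_pow_iff_right (by norm_num)).mp this
    refine ⟨?_, ?_, ?_⟩
    · intro x hx
      have htop := span_range_eq_top Q C hC hceq
      have hle : Submodule.span (ZMod 2) (Set.range Q) ≤
          subOf hN ρ hρmul (Subgroup.closure {y : G | ∃ z, y = z ^ 2}) := by
        rw [Submodule.span_le]
        rintro _ ⟨v, rfl⟩
        obtain ⟨z, rfl⟩ := hπsurj v
        exact ⟨z ^ 2, sq_sq hexp z, Subgroup.subset_closure ⟨z, rfl⟩,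
          (Qmap_pi hcent hexp hN π hπmul hπsurj hπker ρ hρmul z).symm⟩
      rw [htop] at hle
      exact mem_of_rho_mem_subOf hN ρ hρmul hρinj _ hx (hle Submodule.mem_top)
    · intro x hx
      have htop := span_polar_eq_top Q C hC hceq
      have hle : Submodule.span (ZMod 2) {w | ∃ v v' : V, polar Q v v' = w} ≤
          subOf hN ρ hρmul (commutator G) := by
        rw [Submodule.span_le]
        rintro _ ⟨v, v', rfl⟩
        obtain ⟨z, rfl⟩ := hπsurj v
        obtain ⟨z', rfl⟩ := hπsurj v'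
        exact ⟨⁅z', z⁆, comm_sq hcent hexp hN z' z,
          Subgroup.commutator_mem_commutator (Subgroup.mem_top _) (Subgroup.mem_top _),
          (Qmap_polar hcent hexp hN π hπmul hπsurj hπker ρ hρmul z z').symm⟩
      rw [htop] at hle
      exact mem_of_rho_mem_subOf hN ρ hρmul hρinj _ hx (hle Submodule.mem_top)
    · intro x hxc
      by_contra hx2
      have hv₀ : π x ∉ U := fun h => hx2 ((hQz x).mp h)
      have hrad : ∀ w, polar Q (π x) w = 0 := by
        intro w
        obtain ⟨y, rfl⟩ := hπsurj w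
        rw [Qmap_polar hcent hexp hN π hπmul hπsurj hπker ρ hρmul, rho_eq_zero_iff ρ hρmul hρinj]
        rw [commutatorElement_def, ← hxc y]
        group
      have := finrank_lt_of_radical Q U hU (π x) hv₀ hrad
      have hadd := Submodule.finrank_add_eq_of_isCompl hUC
      omega

end Grp

theorem result {G : Type*} [Group G] [Finite G] (hG : IsPGroup 2 G) (hcl : (⊤ : Subgroup G).lowerCentralSeries 2 = ⊥) (hexp : ∀ x : G, x ^ 4 = 1) (hN : ∀ x y : G, x ^ 2 = 1 → y ^ 2 = 1 → (x * y) ^ 2 = 1) : Nat.card G ≤ Nat.card {x : G // x ^ 2 = 1} ^ 3 ∧ (¬ Cfsg.IsSpecial 2 G → Nat.card G < Nat.card {x : G // x ^ 2 = 1} ^ 3) := by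
  have hcent : ∀ x y z : G, ⁅x, y⁆ * z = z * ⁅x, y⁆ := by
    intro x y z
    have hmem : ⁅⁅x, y⁆, z⁆ ∈ (⊤ : Subgroup G).lowerCentralSeries 2 := by
      rw [Subgroup.lowerCentralSeries_succ, Subgroup.lowerCentralSeries_succ,
        Subgroup.lowerCentralSeries_zero]
      exact Subgroup.commutator_mem_commutator (Subgroup.commutator_mem_commutator
        (Subgroup.mem_top _) (Subgroup.mem_top _)) (Subgroup.mem_top _)
    rw [hcl, Subgroup.mem_bot] at hmem
    exact commutatorElement_eq_one_iff_mul_comm.mp hmem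
  let N : Subgroup G :=
    { carrier := {x | x ^ 2 = 1}
      mul_mem' := fun hx hy => hN _ _ hx hy
      one_mem' := one_pow 2
      inv_mem' := fun hx => inv_sq_one hx }
  have hNmem : ∀ x : G, x ∈ N ↔ x ^ 2 = 1 := fun x => Iff.rfl
  let Z₁ : Subgroup G := Subgroup.center G ⊓ N
  have hZ₁mem : ∀ x : G, x ∈ Z₁ ↔ (x ^ 2 = 1 ∧ ∀ y, x * y = y * x) := by
    intro x
    constructor
    · rintro ⟨h1, h2⟩
      exact ⟨h2, fun y => (Subgroup.mem_center_iff.mp h1 y).symm⟩
    · rintro ⟨h1, h2⟩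
      exact ⟨Subgroup.mem_center_iff.mpr (fun y => (h2 y).symm), h1⟩
  haveI hZ₁n : Z₁.Normal := by
    constructor
    intro n hn g
    have h1 := ((hZ₁mem n).mp hn).2 g
    have : g * n * g⁻¹ = n := by rw [← h1]; group
    rwa [this]
  have hsqZ : ∀ x : G, x ^ 2 ∈ Z₁ := fun x =>
    (hZ₁mem _).mpr ⟨sq_sq hexp x, fun y => sq_central hcent hexp hN x y⟩
  have hcommZ : ∀ x y : G, ⁅x, y⁆ ∈ Z₁ := fun x y =>
    (hZ₁mem _).mpr ⟨comm_sq hcent hexp hN x y, fun z => hcent x y z⟩
  have hcommA : ∀ a b : G ⧸ Z₁, a * b = b * a := by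
    intro a b
    induction a using QuotientGroup.induction_on with
    | H x =>
      induction b using QuotientGroup.induction_on with
      | H y =>
        rw [← QuotientGroup.mk_mul, ← QuotientGroup.mk_mul, QuotientGroup.eq]
        have : (x * y)⁻¹ * (y * x) = ⁅y⁻¹, x⁻¹⁆ := by rw [commutatorElement_def]; group
        rw [this]
        exact hcommZ _ _
  letI instA : CommGroup (G ⧸ Z₁) := { (inferInstance : Group (G ⧸ Z₁)) with mul_comm := hcommA }
  letI modA : Module (ZMod 2) (Additive (G ⧸ Z₁)) := AddCommGroup.zmodModule (n := 2) (by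
    intro v
    show Additive.ofMul ((Additive.toMul v) ^ 2) = 0
    have : (Additive.toMul v) ^ 2 = 1 := by
      induction (Additive.toMul v) using QuotientGroup.induction_on with
      | H x =>
        rw [← QuotientGroup.mk_pow, QuotientGroup.eq_one_iff]
        exact hsqZ x
    rw [this]; rfl)
  have hcommN : ∀ a b : N, a * b = b * a := by
    intro a b
    apply Subtype.ext
    show a.1 * b.1 = b.1 * a.1
    have ha : a.1 ^ 2 = 1 := a.2
    have hb : b.1 ^ 2 = 1 := b.2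
    have hab : (a.1 * b.1) ^ 2 = 1 := hN _ _ ha hb
    have h1 : a.1 * b.1 = (a.1 * b.1)⁻¹ := by
      rw [eq_inv_iff_mul_eq_one, ← pow_two]; exact hab
    have h2 : a.1⁻¹ = a.1 := by rw [inv_eq_iff_mul_eq_one, ← pow_two]; exact ha
    have h3 : b.1⁻¹ = b.1 := by rw [inv_eq_iff_mul_eq_one, ← pow_two]; exact hb
    rw [h1, mul_inv_rev, h2, h3]
  letI instN : CommGroup N := { (inferInstance : Group N) with mul_comm := hcommN }
  letI modN : Module (ZMod 2) (Additive N) := AddCommGroup.zmodModule (n := 2) (by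
    intro v
    show Additive.ofMul ((Additive.toMul v) ^ 2) = 0
    have : (Additive.toMul v) ^ 2 = 1 := Subtype.ext (Additive.toMul v).2
    rw [this]; rfl)
  have key := aux (G := G) (V := Additive (G ⧸ Z₁)) (W := Additive N) hcent hexp hN
    (fun x => Additive.ofMul (QuotientGroup.mk x : G ⧸ Z₁)) (fun x y => rfl)
    (fun v => by
      obtain ⟨x, hx⟩ := QuotientGroup.mk_surjective (Additive.toMul v)
      exact ⟨x, by show Additive.ofMul (QuotientGroup.mk x : G ⧸ Z₁) = v; rw [hx]; rfl⟩)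
    (fun x => by
      show (QuotientGroup.mk x : G ⧸ Z₁) = 1 ↔ _
      rw [QuotientGroup.eq_one_iff]
      exact hZ₁mem x)
    (fun a => Additive.ofMul (⟨a.1, a.2⟩ : N)) (fun a b hab => rfl)
    (fun a b h => Subtype.ext (congrArg (fun t : Additive N => (Additive.toMul t).1) h))
    (fun w => ⟨⟨(Additive.toMul w).1, (Additive.toMul w).2⟩, rfl⟩)
  have hcardW : Nat.card (Additive N) = Nat.card {x : G // x ^ 2 = 1} :=
    Nat.card_congr (Additive.toMul.trans (Equiv.subtypeEquivRight (fun x => Iff.rfl)))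
  rw [hcardW] at key
  refine ⟨key.1, fun hns => lt_of_le_of_ne key.1 (fun heq => hns ?_)⟩
  obtain ⟨h1, h2, h3⟩ := key.2 heq
  have hsq_le_center : Subgroup.closure {y : G | ∃ z, y = z ^ 2} ≤ Subgroup.center G := by
    rw [Subgroup.closure_le]
    rintro _ ⟨z, rfl⟩
    exact Subgroup.mem_center_iff.mpr (fun g => (sq_central hcent hexp hN z g).symm)
  have hsq_le_frat : Subgroup.closure {y : G | ∃ z, y = z ^ 2} ≤ frattini G := by
    rw [Subgroup.closure_le]
    rintro _ ⟨z, rfl⟩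
    unfold frattini Order.radical
    simp only [SetLike.mem_coe, Subgroup.mem_iInf]
    exact fun M hM => Cfsg.Agent.Lib.Helper1.pow_mem_coatom_of_isPGroup hG M hM z
  have hcenter_sq : ∀ x ∈ Subgroup.center G, x ^ 2 = 1 := fun x hx =>
    h3 x (fun y => (Subgroup.mem_center_iff.mp hx y).symm)
  refine ⟨hG, ?_, ?_⟩
  · apply le_antisymm
    · intro x hx
      have hfN : frattini G ≤ N :=
        Cfsg.Agent.Lib.Helper47.frattini_le_of_elementary_abelian_quotient 2 N
          (fun x y => comm_sq hcent hexp hN x y) (fun x => sq_sq hexp x)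
      exact hsq_le_center (h1 x (hfN hx))
    · intro x hx
      exact hsq_le_frat (h1 x (hcenter_sq x hx))
  · apply le_antisymm
    · rw [commutator_def, Subgroup.commutator_le]
      intro x _ y _
      exact Subgroup.mem_center_iff.mpr (fun g => (hcent x y g).symm)
    · intro x hx
      exact h2 x (hcenter_sq x hx)

end Cfsg.Agent.S3773
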