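import Cfsg.Statements.S1140

set_option autoImplicit false
open Cfsg

namespace Cfsg.Agent.S1140

section
variable {F : Type*} [Field F] [Fintype F] [CharP F 2]

attribute [local instance] ZMod.algebra

theorem li : LinearIndependent F (fun σ : F ≃+* F => ((σ : F →+* F) : F → F)) := by
  have h := linearIndependent_monoidHom F F
  have hinj : Function.Injective (fun σ : F ≃+* F => ((σ : F →+* F) : F →* F)) := by
    intro σ τ h
    ext x
    have := DFunLike.congr_fun h x
    exact this
  exact h.comp _ hinj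

noncomputable instance autFintype : Fintype (F ≃+* F) := by
  classical
  exact Fintype.ofInjective (fun σ : F ≃+* F => (σ : F → F)) DFunLike.coe_injective

theorem card_aut : Nat.card (F ≃+* F) = Module.finrank (ZMod 2) F := by
  rw [← IsGalois.card_aut_eq_finrank (ZMod 2) F]
  apply Nat.card_congr
  refine ⟨fun σ => AlgEquiv.ofRingEquiv (f := σ) (fun x => ?_), fun σ => σ.toRingEquiv, ?_, ?_⟩
  · have : (σ : F →+* F).comp (algebraMap (ZMod 2) F) = algebraMap (ZMod 2) F :=
      Subsingleton.elim _ _
    exact DFunLike.congr_fun this x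
  · intro σ; ext x; rfl
  · intro σ; ext x; rfl

theorem card_addHom : Nat.card (F →+ F) = Nat.card F ^ Module.finrank (ZMod 2) F := by
  have e1 : (F →+ F) ≃ (F →ₗ[ZMod 2] F) := (AddMonoidHom.toZModLinearMapEquiv 2).toEquiv
  have e2 : (Fin (Module.finrank (ZMod 2) F) → F) ≃ (F →ₗ[ZMod 2] F) :=
    ((Module.finBasis (ZMod 2) F).constr (ZMod 2)).toEquiv
  rw [Nat.card_congr (e1.trans e2.symm), Nat.card_fun, Nat.card_fin]

/-- the combination map -/
noncomputable def comb : ((F ≃+* F) → F) →+ (F →+ F) where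
  toFun c := ∑ σ : F ≃+* F, (AddMonoidHom.mulLeft (c σ)).comp ((σ : F →+* F) : F →+ F)
  map_zero' := by
    ext x
    simp
  map_add' c c' := by
    ext x
    simp [add_mul, Finset.sum_add_distrib]

theorem comb_apply (c : (F ≃+* F) → F) (x : F) : comb c x = ∑ σ : F ≃+* F, c σ * σ x := by
  simp [comb]

theorem comb_injective : Function.Injective (comb (F := F)) := by
  rw [injective_iff_map_eq_zero]
  intro c hc
  have h := Fintype.linearIndependent_iff.mp (li (F := F)) c
  funext σ
  apply h
  funext x
  have := DFunLike.congr_fun hc x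
  rw [comb_apply] at this
  simpa [Finset.sum_apply] using this

theorem comb_bijective : Function.Bijective (comb (F := F)) := by
  have : Finite (F →+ F) := Finite.of_injective (fun f : F →+ F => (f : F → F)) DFunLike.coe_injective
  apply Function.Injective.bijective_of_nat_card_le comb_injective
  rw [card_addHom, Nat.card_fun, card_aut]

end

theorem result {F : Type*} [Field F] [Fintype F] [CharP F 2] :
    LinearIndependent F (fun σ : F ≃+* F => ((σ : F →+* F) : F → F)) ∧
      (∀ f : F →+ F, ∃ (s : Finset (F ≃+* F)) (c : (F ≃+* F) → F), ∀ x : F, f x = ∑ σ ∈ s, c σ * σ x) ∧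
      ∀ B : F →+ F →+ F, ∃ (s : Finset ((F ≃+* F) × (F ≃+* F))) (c : (F ≃+* F) × (F ≃+* F) → F),
        ∀ x y : F, B x y = ∑ p ∈ s, c p * (p.1 x * p.2 y) := by
  refine ⟨li, ?_, ?_⟩
  · intro f
    obtain ⟨c, hc⟩ := comb_bijective.2 f
    refine ⟨Finset.univ, c, fun x => ?_⟩
    rw [← hc, comb_apply]
  · intro B
    let e : ((F ≃+* F) → F) ≃+ (F →+ F) := AddEquiv.ofBijective comb comb_bijective
    -- coefficient functions
    let cτ : (F ≃+* F) → (F →+ F) := fun τ =>
      (Pi.evalAddMonoidHom (fun _ : F ≃+* F => F) τ).comp (e.symm.toAddMonoidHom.comp B)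
    let d : (F ≃+* F) → ((F ≃+* F) → F) := fun τ => e.symm (cτ τ)
    refine ⟨Finset.univ, fun p => d p.2 p.1, fun x y => ?_⟩
    have h1 : B x y = ∑ τ : F ≃+* F, (e.symm (B x)) τ * τ y := by
      have : e (e.symm (B x)) = B x := e.apply_symm_apply _
      conv_lhs => rw [← this]
      exact comb_apply _ _
    have h2 : ∀ τ : F ≃+* F, (e.symm (B x)) τ = ∑ σ : F ≃+* F, d τ σ * σ x := by
      intro τ
      have : e (d τ) = cτ τ := e.apply_symm_apply _
      have h3 : (e (d τ)) x = ∑ σ : F ≃+* F, d τ σ * σ x := comb_apply _ _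
      rw [this] at h3
      exact h3
    rw [h1, Fintype.sum_prod_type_right]
    apply Finset.sum_congr rfl
    intro τ _
    rw [h2 τ, Finset.sum_mul]
    apply Finset.sum_congr rfl
    intro σ _
    ring

end Cfsg.Agent.S1140
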