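-- Statement S1138 (Higman: Suzuki 2-groups have central squares and commutators).
-- Proof: Stage 1-3 in Lib/Helper86/SuzMain1..5 (helper86), field/group lemmas by helper59, helper9,
-- helper70, tail (order and exponent) by helper59.
import Cfsg.Statements.S1138
import Cfsg.Agent.Lib.Helper86.SuzMain5
import Cfsg.Agent.Lib.Helper59.SuzT4
import Cfsg.Agent.Lib.Helper59.SuzTail

set_option autoImplicit false
set_option linter.style.haveILetI false
open Cfsg

namespace Cfsg.Agent.S1138

open Cfsg.Agent.Lib.Helper86.Suz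

/-- Let `P` be a Suzuki 2-group with `|Z(P)| = q`. Then every square lies in `Z(P)` and `P/Z(P)` is abelian (so elementary abelian), `|P| = q²` or `|P| = q³`, and `P` has exponent 4. -/
theorem result {P : Type*} [Group P] (hP : Cfsg.IsSuzukiTwoGroup P) :
    (∀ x : P, x * x ∈ Subgroup.center P) ∧ (∀ x y : P, x⁻¹ * y⁻¹ * x * y ∈ Subgroup.center P) ∧
      (Nat.card P = Nat.card (Subgroup.center P) ^ 2 ∨ Nat.card P = Nat.card (Subgroup.center P) ^ 3) ∧
      Monoid.exponent P = 4 := by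
  have hP' := hP
  obtain ⟨hfin, hpg, hna, htwo, K, hKc, hK⟩ := hP
  have hctx : Ctx (K.subtype) := by
    refine ⟨hfin, hpg, hna, htwo, fun s t hs1 hs ht1 ht => (hK s t hs1 hs ht1 ht).exists, ?_⟩
    intro k s hs1 hs hk
    exact (hK s s hs1 hs hs1 hs).unique hk rfl
  have h4 : ∀ g : P, g ^ 4 = 1 := by
    intro g₀
    by_contra hg₀
    obtain ⟨D, X, hPack⟩ := stage1 hctx hKc hg₀
    obtain ⟨k₀, n, j, ν, hM⟩ := exists_model hctx hKc
    letI : Fintype (GaloisField 2 n) := Fintype.ofFinite _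
    exact final_contra hPack hM hctx hKc
  have hsq : ∀ x : P, x * x ∈ Subgroup.center P := hctx.sq_mem_center_of_exp4 hKc h4
  have hcm : ∀ x y : P, x⁻¹ * y⁻¹ * x * y ∈ Subgroup.center P :=
    hctx.cm_mem_center_of_exp4 hKc h4
  exact ⟨hsq, hcm, Cfsg.Agent.Lib.Helper59.SuzTail.tail hP' hsq hcm⟩

end Cfsg.Agent.S1138
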