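import Cfsg.Statements.S5106
import Cfsg.Agent.Lib.Helper87.NormalCriterion
import Cfsg.Agent.Lib.Helper87.Chain

set_option autoImplicit false
open Cfsg

namespace Cfsg.Agent.S5106

open Cfsg.Agent.Lib.Helper87 Cfsg.FusionSystem
open scoped commutatorElement

variable {Ω : Type*} [Group Ω] {S : Subgroup Ω}

/-- the chain `U ≥ U ∩ γ₀(R) ≥ U ∩ γ₁(R) ≥ ...` as subgroups of `U`. -/
def chain (U R : Subgroup Ω) : ℕ → Subgroup U
  | 0 => ⊤
  | (i + 1) => (R.lowerCentralSeries i).subgroupOf U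

theorem aut_lcs {R : Subgroup Ω} (α : MulAut R) (i : ℕ) (r : R) (hr : (r : Ω) ∈ R.lowerCentralSeries i) :
    ((α r : R) : Ω) ∈ R.lowerCentralSeries i := by
  rw [← Subgroup.top_subtype_lowerCentralSeries] at hr ⊢
  obtain ⟨r', hr', hrr⟩ := hr
  have e : r' = r := Subtype.ext hrr
  subst e
  refine ⟨α r', ?_, rfl⟩
  have h1 : ((⊤ : Subgroup R).lowerCentralSeries i).map α.toMonoidHom =
      (⊤ : Subgroup R).lowerCentralSeries i := by
    rw [Subgroup.map_lowerCentralSeries, Subgroup.map_top_of_surjective _ α.surjective]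
  rw [← h1]
  exact ⟨r', hr', rfl⟩

theorem forward (F : FusionSystem S) (R : Subgroup Ω) (hR : F.IsNormal R) :
    ∀ (P : Subgroup Ω) (hPR : P ≤ R) (φ : P →* Ω), φ ∈ F.Hom P →
      ∃ α ∈ F.autGroup R, ∀ x : P, ((α (Subgroup.inclusion hPR x) : R) : Ω) = φ x := by
  intro P hPR φ hφ
  obtain ⟨ψ, hψ, hψe, hψR⟩ := hR.2 P φ hφ
  rw [map_subgroupOf_eq_iff] at hψR
  have hle : R ≤ P ⊔ R := le_sup_right
  set ψ' := ψ.comp (Subgroup.inclusion hle) with hψ'
  have hψ'mem : ψ' ∈ F.Hom R := restrict_mem F hψ hle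
  have hr : ψ'.range = R := by
    apply le_antisymm
    · rintro _ ⟨x, rfl⟩
      exact hψR.1 _ x.2
    · intro q hq
      obtain ⟨y, hy, hyq⟩ := hψR.2 q hq
      exact ⟨⟨y, hy⟩, hyq⟩
  let α : MulAut R := isoOfHom ψ' (F.injective_of_mem hψ'mem) hr
  refine ⟨α, ?_, fun x => ?_⟩
  · rw [mem_autGroup_iff F hR.1]
    have : R.subtype.comp α.toMonoidHom = ψ' := by
      ext x; rfl
    rw [this]; exact hψ'mem
  · show ψ' (Subgroup.inclusion hPR x) = φ x
    rw [← hψe x]
    rfl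

theorem backward [Finite S] {p : ℕ} [Fact p.Prime] (hS : IsPGroup p S) (F : FusionSystem S)
    (hF : F.IsSaturated p) (R : Subgroup Ω) (hRS : R ≤ S)
    (H : ∀ (P : Subgroup Ω) (hPR : P ≤ R) (φ : P →* Ω), φ ∈ F.Hom P →
      ∃ α ∈ F.autGroup R, ∀ x : P, ((α (Subgroup.inclusion hPR x) : R) : Ω) = φ x) :
    F.IsNormal R := by
  have hfinR : Finite R := finite_of_le hRS
  have hRp : IsPGroup p R := hS.to_le hRS
  have hwc : F.WeaklyClosed R := by
    refine ⟨hRS, fun φ hφ => ?_⟩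
    obtain ⟨α, -, hα⟩ := H R le_rfl φ hφ
    apply le_antisymm
    · rintro _ ⟨x, rfl⟩
      rw [← hα x]
      exact (α _).2
    · intro q hq
      refine ⟨α.symm ⟨q, hq⟩, ?_⟩
      rw [← hα]
      have : Subgroup.inclusion (le_refl R) (α.symm ⟨q, hq⟩) = α.symm ⟨q, hq⟩ := Subtype.ext rfl
      rw [this, MulEquiv.apply_symm_apply]
  have hSN := weaklyClosed_le_normalizer F hwc
  apply isNormal_of_weaklyClosed_of_le_alperin hS F hF hwc
  rintro U ⟨hfa, hrec, hcen, hrad⟩
  have hUS : U ≤ S := hfa.1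
  apply le_of_normalizer_inf_le hS hUS hRS hSN
  rintro x ⟨hxR, hxN⟩
  have hxS : x ∈ S := hRS hxR
  -- nilpotency of R
  haveI : Group.IsNilpotent R := hRp.isNilpotent
  set c := Group.nilpotencyClass R with hc
  have hbot : R.lowerCentralSeries c = ⊥ := by
    rw [← Subgroup.top_subtype_lowerCentralSeries, hc, Subgroup.lowerCentralSeries_nilpotencyClass,
      Subgroup.map_bot]
  have hαA : conjAut U x hxN ∈ F.autGroup U :=
    autInducedBy_le_autGroup F hUS (conjAut_mem_autInducedBy hxS hxN)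
  have hInn : conjAut U x hxN ∈ Inn U := by
    apply stabilizer_le_inn hS F hUS hrad (c + 1) (chain U R) rfl ?_ ?_ hαA ?_
    · show (R.lowerCentralSeries c).subgroupOf U = ⊥
      rw [hbot]
      exact Subgroup.bot_subgroupOf _
    · -- invariance
      intro γ hγ i y hy
      cases i with
      | zero => exact Subgroup.mem_top _
      | succ i =>
        have hy' : (y : Ω) ∈ R.lowerCentralSeries i := Subgroup.mem_subgroupOf.mp hy
        have hyR : (y : Ω) ∈ R := Subgroup.lowerCentralSeries_le_self R i hy'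
        show γ y ∈ (R.lowerCentralSeries i).subgroupOf U
        rw [Subgroup.mem_subgroupOf]
        have hγ' := (mem_autGroup_iff F hUS γ).mp hγ
        have hle : U ⊓ R ≤ U := inf_le_left
        have hγV := restrict_mem F hγ' hle
        obtain ⟨α, -, hα⟩ := H (U ⊓ R) inf_le_right _ hγV
        have h1 := hα ⟨y, y.2, hyR⟩
        have h2 : ((γ y : U) : Ω) = ((α ⟨y, hyR⟩ : R) : Ω) := h1.symm
        rw [h2]
        exact aut_lcs α i ⟨y, hyR⟩ hy'
    · -- stabilization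
      intro i hi y hy
      cases i with
      | zero =>
        show y⁻¹ * conjAut U x hxN y ∈ (R.lowerCentralSeries 0).subgroupOf U
        rw [Subgroup.mem_subgroupOf, Subgroup.lowerCentralSeries_zero]
        show (y : Ω)⁻¹ * (x * y * x⁻¹) ∈ R
        have h1 : (y : Ω)⁻¹ * x * (y : Ω)⁻¹⁻¹ ∈ R :=
          (Subgroup.mem_normalizer_iff.mp (hSN (S.inv_mem (hUS y.2))) x).mp hxR
        have e : (y : Ω)⁻¹ * (x * y * x⁻¹) = ((y : Ω)⁻¹ * x * (y : Ω)⁻¹⁻¹) * x⁻¹ := by group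
        rw [e]
        exact R.mul_mem h1 (R.inv_mem hxR)
      | succ i =>
        have hy' : (y : Ω) ∈ R.lowerCentralSeries i := Subgroup.mem_subgroupOf.mp hy
        show y⁻¹ * conjAut U x hxN y ∈ (R.lowerCentralSeries (i + 1)).subgroupOf U
        rw [Subgroup.mem_subgroupOf, Subgroup.lowerCentralSeries_succ]
        show (y : Ω)⁻¹ * (x * y * x⁻¹) ∈ ⁅R.lowerCentralSeries i, R⁆
        have h1 : ⁅(y : Ω)⁻¹, x⁆ ∈ ⁅R.lowerCentralSeries i, R⁆ :=
          Subgroup.commutator_mem_commutator (Subgroup.inv_mem _ hy') hxR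
        have e : (y : Ω)⁻¹ * (x * y * x⁻¹) = ⁅(y : Ω)⁻¹, x⁆ := by
          rw [commutatorElement_def]; group
        rw [e]; exact h1
  obtain ⟨u, hu⟩ := hInn
  have hCU : centralizerIn S U ≤ U := hcen.2 U (isConj_refl F hUS)
  have hux : (u : Ω)⁻¹ * x ∈ centralizerIn S U := by
    refine ⟨S.mul_mem (S.inv_mem (hUS u.2)) hxS, ?_⟩
    show _ ∈ Subgroup.centralizer (U : Set Ω)
    rw [Subgroup.mem_centralizer_iff]
    intro y hy
    have h1 : ((MulAut.conj u ⟨y, hy⟩ : U) : Ω) = ((conjAut U x hxN ⟨y, hy⟩ : U) : Ω) := by rw [hu]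
    rw [conjAut_coe] at h1
    have h2 : (u : Ω) * y * (u : Ω)⁻¹ = x * y * x⁻¹ := h1
    calc y * ((u : Ω)⁻¹ * x) = (u : Ω)⁻¹ * ((u : Ω) * y * (u : Ω)⁻¹) * x := by group
      _ = (u : Ω)⁻¹ * (x * y * x⁻¹) * x := by rw [h2]
      _ = (u : Ω)⁻¹ * x * y := by group
  have := U.mul_mem u.2 (hCU hux)
  have e : (u : Ω) * ((u : Ω)⁻¹ * x) = x := by group
  rwa [e] at this

/-- In a saturated fusion system over a finite p-group S, a subgroup R ≤ S is normal in the system if and only if every map of the system whose source is a subgroup of R is the restriction of an element of Aut_F(R). -/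
theorem result {Ω : Type*} [Group Ω] {S : Subgroup Ω} [Finite S] (p : ℕ) [Fact p.Prime] (hS : IsPGroup p S) (F : Cfsg.FusionSystem S) (hF : F.IsSaturated p) (R : Subgroup Ω) (hRS : R ≤ S) : F.IsNormal R ↔ ∀ (P : Subgroup Ω) (hPR : P ≤ R) (φ : P →* Ω), φ ∈ F.Hom P → ∃ α ∈ F.autGroup R, ∀ x : P, ((α (Subgroup.inclusion hPR x) : R) : Ω) = φ x := by
  exact ⟨forward F R, backward hS F hF R hRS⟩

end Cfsg.Agent.S5106
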