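import Cfsg.Statements.S1324
import Cfsg.Agent.Lib.Helper48.CoprimeGen
import Cfsg.Agent.Lib.Helper48.Misc

set_option autoImplicit false
open Cfsg

namespace Cfsg.Agent.S1324

/-- In a finite commutative group of exponent `p`, a subgroup of index more than `p` misses two
independent directions. -/
theorem exists_indep {A : Type*} [Group A] [Finite A] {p : ℕ} [hp : Fact p.Prime]
    (hcomm : ∀ a b : A, a * b = b * a) (hexp : ∀ a : A, a ^ p = 1) (D : Subgroup A)
    (hD : p < D.index) : ∃ a b : A, b ∉ D ∧ ∀ n : ℕ, a * b ^ n ∉ D := by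
  classical
  let _ : CommGroup A := { ‹Group A› with mul_comm := hcomm }
  have hDtop : D ≠ ⊤ := by
    rintro rfl
    rw [Subgroup.index_top] at hD
    exact absurd hD (by have := hp.out.one_lt; omega)
  obtain ⟨b, hb⟩ : ∃ b : A, b ∉ D := by
    by_contra hcon
    push Not at hcon
    exact hDtop (eq_top_iff.mpr fun x _ => hcon x)
  have hb1 : b ≠ 1 := fun h => hb (h ▸ D.one_mem)
  have hbo : orderOf b = p := orderOf_eq_prime (hexp b) hb1
  have h1 : Nat.card (D ⊔ Subgroup.zpowers b : Subgroup A) ∣ Nat.card D * Nat.card (Subgroup.zpowers b) :=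
    Lib.Helper48.card_sup_dvd_mul' D (Subgroup.zpowers b)
  rw [Nat.card_zpowers, hbo] at h1
  have h2 : Nat.card D * D.index = Nat.card A := Subgroup.card_mul_index D
  have hDpos : 0 < Nat.card D := Nat.card_pos
  have h3 : Nat.card (D ⊔ Subgroup.zpowers b : Subgroup A) < Nat.card A := by
    have := Nat.le_of_dvd (Nat.mul_pos hDpos hp.out.pos) h1
    calc Nat.card (D ⊔ Subgroup.zpowers b : Subgroup A) ≤ Nat.card D * p := this
      _ < Nat.card D * D.index := Nat.mul_lt_mul_of_pos_left hD hDpos
      _ = Nat.card A := h2
  have h4 : (D ⊔ Subgroup.zpowers b : Subgroup A) ≠ ⊤ := by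
    intro h
    rw [h, Subgroup.card_top] at h3
    exact lt_irrefl _ h3
  obtain ⟨a, ha⟩ : ∃ a : A, a ∉ (D ⊔ Subgroup.zpowers b : Subgroup A) := by
    by_contra hcon
    push Not at hcon
    exact h4 (eq_top_iff.mpr fun x _ => hcon x)
  refine ⟨a, b, hb, fun n hn => ha ?_⟩
  have h5 : a = (a * b ^ n) * (b ^ n)⁻¹ := by group
  rw [h5]
  exact Subgroup.mul_mem _ (Subgroup.mem_sup_left hn)
    (Subgroup.inv_mem _ (Subgroup.mem_sup_right (Subgroup.pow_mem _ (Subgroup.mem_zpowers b) n)))

/-- Let A be a noncyclic elementary abelian p-subgroup of a finite group H normalizing a subgroup X of order prime to p. Then X is generated by the subgroups X ∩ C_H(B), B ranging over the subgroups of A of index at most p. -/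
theorem result {H : Type*} [Group H] [Finite H] (p : ℕ) [Fact p.Prime] (A X : Subgroup H) (hA : Cfsg.IsElementaryAbelian p A) (hA2 : p ^ 2 ≤ Nat.card ↥A) (hX : ¬ p ∣ Nat.card ↥X) (hAX : A ≤ Subgroup.normalizer (X : Set H)) : X = ⨆ B : {B : Subgroup H // B ≤ A ∧ B.relIndex A ≤ p}, X ⊓ Subgroup.centralizer ((B : Subgroup H) : Set H) := by
  classical
  have hp : p.Prime := Fact.out
  obtain ⟨hAc, hAexp⟩ := hA
  have hcomm : ∀ x y : A, x * y = y * x := fun x y => hAc.is_comm.comm x y
  have hcommH : ∀ x ∈ A, ∀ y ∈ A, x * y = y * x := by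
    intro x hx y hy
    exact congrArg Subtype.val (hcomm ⟨x, hx⟩ ⟨y, hy⟩)
  have hexp : ∀ x : A, x ^ p = 1 := fun x => Subtype.ext (by simpa using hAexp x x.2)
  set T : Subgroup H := ⨆ B : {B : Subgroup H // B ≤ A ∧ B.relIndex A ≤ p},
    X ⊓ Subgroup.centralizer ((B : Subgroup H) : Set H) with hT
  have key : ∀ k : ℕ, ∀ D : Subgroup H, D ≤ A → Nat.card A - Nat.card D = k →
      X ⊓ Subgroup.centralizer (D : Set H) ≤ T := by
    intro k
    induction k using Nat.strong_induction_on with
    | _ k ih =>
      intro D hDA hk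
      by_cases hle : D.relIndex A ≤ p
      · exact le_iSup (fun B : {B : Subgroup H // B ≤ A ∧ B.relIndex A ≤ p} =>
          X ⊓ Subgroup.centralizer ((B : Subgroup H) : Set H)) ⟨D, hDA, hle⟩
      · push Not at hle
        obtain ⟨a', b', hb'D, hab'D⟩ := exists_indep hcomm hexp (D.subgroupOf A) hle
        set a : H := (a' : H) with ha_def
        set b : H := (b' : H) with hb_def
        have haA : a ∈ A := a'.2
        have hbA : b ∈ A := b'.2
        have hbD : b ∉ D := fun h => hb'D (Subgroup.mem_subgroupOf.mpr h)
        have habD : ∀ n : ℕ, a * b ^ n ∉ D := by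
          intro n h
          apply hab'D n
          rw [Subgroup.mem_subgroupOf]
          simpa using h
        set Y : Subgroup H := X ⊓ Subgroup.centralizer (D : Set H) with hY
        have hYX : Y ≤ X := inf_le_left
        have hpY : ¬ p ∣ Nat.card Y := fun h => hX (h.trans (Subgroup.card_dvd_of_le hYX))
        -- A normalizes Y
        have hAY : A ≤ Subgroup.normalizer (Y : Set H) := by
          intro g hg
          have hgX := hAX hg
          rw [Subgroup.mem_normalizer_iff] at hgX ⊢
          intro y
          have hcD : ∀ y : H, y ∈ Subgroup.centralizer (D : Set H) →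
              ∀ g ∈ A, g * y * g⁻¹ ∈ Subgroup.centralizer (D : Set H) := by
            intro y hy g hg
            rw [Subgroup.mem_centralizer_iff] at hy ⊢
            intro d hd
            have h1 : d * g = g * d := hcommH d (hDA hd) g hg
            have h2 : d * g⁻¹ = g⁻¹ * d := hcommH d (hDA hd) g⁻¹ (A.inv_mem hg)
            calc d * (g * y * g⁻¹) = (d * g) * y * g⁻¹ := by group
              _ = g * (d * y) * g⁻¹ := by rw [h1]; group
              _ = g * (y * d) * g⁻¹ := by rw [hy d hd]
              _ = g * y * (d * g⁻¹) := by group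
              _ = g * y * g⁻¹ * d := by rw [h2]; group
          constructor
          · intro hy
            exact Subgroup.mem_inf.mpr ⟨(hgX y).mp (Subgroup.mem_inf.mp hy).1,
              hcD y (Subgroup.mem_inf.mp hy).2 g hg⟩
          · intro hy
            refine Subgroup.mem_inf.mpr ⟨(hgX y).mpr (Subgroup.mem_inf.mp hy).1, ?_⟩
            have := hcD _ (Subgroup.mem_inf.mp hy).2 g⁻¹ (A.inv_mem hg)
            simpa [mul_assoc] using this
        -- ambient subgroup
        set G₁ : Subgroup H := Subgroup.normalizer (Y : Set H) with hG₁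
        have hYG₁ : Y ≤ G₁ := Subgroup.le_normalizer
        have haG : a ∈ G₁ := hAY haA
        have hbG : b ∈ G₁ := hAY hbA
        have hYn : (Y.subgroupOf G₁).Normal := Subgroup.normal_in_normalizer
        have hcard : Nat.card (Y.subgroupOf G₁) = Nat.card Y :=
          Nat.card_congr (Subgroup.subgroupOfEquivOfLe hYG₁).toEquiv
        have hap' : (⟨a, haG⟩ : G₁) ^ p = 1 := Subtype.ext (by simpa using hAexp a haA)
        have hbp' : (⟨b, hbG⟩ : G₁) ^ p = 1 := Subtype.ext (by simpa using hAexp b hbA)
        have hab' : (⟨a, haG⟩ : G₁) * ⟨b, hbG⟩ = ⟨b, hbG⟩ * ⟨a, haG⟩ :=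
          Subtype.ext (by simpa using hcommH a haA b hbA)
        have h1 := Lib.Helper48.coprime_gen (Y.subgroupOf G₁) (⟨a, haG⟩ : G₁) ⟨b, hbG⟩
          hap' hbp' hab' (by rw [hcard]; exact hpY)
        have h2 : Y ≤ Lib.Helper48.genSub Y a b :=
          Lib.Helper48.genSub_transfer_subgroup G₁ Y a b haG hbG hYG₁ h1
        refine h2.trans ?_
        unfold Lib.Helper48.genSub
        apply iSup₂_le
        intro c hc
        have hcA : c ∈ A := by
          rcases hc with rfl | ⟨n, rfl⟩
          · exact hbA
          · exact A.mul_mem haA (A.pow_mem hbA n)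
        have hcD : c ∉ D := by
          rcases hc with rfl | ⟨n, rfl⟩
          · exact hbD
          · exact habD n
        set D' : Subgroup H := D ⊔ Subgroup.zpowers c with hD'
        have hD'A : D' ≤ A := sup_le hDA (by rw [Subgroup.zpowers_le]; exact hcA)
        have hDD' : D < D' := by
          refine lt_of_le_of_ne le_sup_left ?_
          intro h
          apply hcD
          rw [h]
          exact Subgroup.mem_sup_right (Subgroup.mem_zpowers c)
        have hcard1 : Nat.card D < Nat.card D' := by
          have := Fintype.ofFinite H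
          exact Set.ncard_lt_ncard (show (D : Set H) ⊂ (D' : Set H) from hDD') (Set.toFinite _)
        have hcard2 : Nat.card D' ≤ Nat.card A := Subgroup.card_le_of_le hD'A
        have hlt : Nat.card A - Nat.card D' < k := by omega
        refine le_trans ?_ (ih _ hlt D' hD'A rfl)
        intro y hy
        obtain ⟨hy1, hy2⟩ := Subgroup.mem_inf.mp hy
        obtain ⟨hyX, hyD⟩ := Subgroup.mem_inf.mp hy1
        refine Subgroup.mem_inf.mpr ⟨hyX, ?_⟩
        have h3 : D' ≤ Subgroup.centralizer {y} := by
          apply sup_le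
          · intro d hd
            rw [Subgroup.mem_centralizer_singleton_iff]
            rw [Subgroup.mem_centralizer_iff] at hyD
            exact hyD d hd
          · rw [Subgroup.zpowers_le, Subgroup.mem_centralizer_singleton_iff]
            rw [Subgroup.mem_centralizer_singleton_iff] at hy2
            exact hy2.symm
        rw [Subgroup.mem_centralizer_iff]
        intro d hd
        have := h3 hd
        rw [Subgroup.mem_centralizer_singleton_iff] at this
        exact this
  apply le_antisymm
  · have h0 := key _ ⊥ bot_le rfl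
    refine le_trans ?_ h0
    intro x hx
    refine Subgroup.mem_inf.mpr ⟨hx, ?_⟩
    rw [Subgroup.mem_centralizer_iff]
    intro d hd
    have : d = 1 := by simpa using hd
    rw [this, one_mul, mul_one]
  · apply iSup_le
    intro B
    exact inf_le_left

end Cfsg.Agent.S1324
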