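import Cfsg.Statements.S0941
import Cfsg.Agent.Lib.Helper16.NormalDefect
import Cfsg.Agent.Lib.Helper16.RegularDet

set_option autoImplicit false
open Cfsg

namespace Cfsg.Agent.S0941

open Cfsg.Agent.Lib.Helper16 Cfsg.Agent.Lib.Helper77 Cfsg.Agent.Lib.Helper80 Cfsg.Agent.Lib.Helper81
open scoped ComplexConjugate

/-- A `p`-regular element of a quotient has a `p`-regular lift. -/
theorem exists_regular_lift {G : Type*} [Group G] [Finite G] (p : ℕ) [Fact p.Prime]
    (N : Subgroup G) [N.Normal] (x : G ⧸ N) (hx : ¬ p ∣ orderOf x) :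
    ∃ g : G, (g : G ⧸ N) = x ∧ ¬ p ∣ orderOf g := by
  have hp : p.Prime := Fact.out
  obtain ⟨g₀, rfl⟩ := QuotientGroup.mk_surjective x
  obtain ⟨a, m, hm, hn⟩ := Nat.exists_eq_pow_mul_and_not_dvd (orderOf_pos g₀).ne' p hp.ne_one
  set n := orderOf (g₀ : G ⧸ N) with hndef
  have hcop : Nat.Coprime (p ^ a) n :=
    Nat.Coprime.pow_left a ((Nat.Prime.coprime_iff_not_dvd hp).mpr hx)
  -- Bezout
  have hb := Int.gcd_eq_gcd_ab (p ^ a : ℕ) n
  have hg : Int.gcd ((p ^ a : ℕ) : ℤ) (n : ℤ) = 1 := by
    rw [Int.gcd_natCast_natCast]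
    exact hcop
  rw [hg] at hb
  set s := Int.gcdA (p ^ a : ℕ) n with hs
  refine ⟨(g₀ ^ (p ^ a)) ^ s, ?_, ?_⟩
  · have h1 : (((g₀ ^ (p ^ a)) ^ s : G) : G ⧸ N) = ((g₀ : G ⧸ N) ^ (p ^ a)) ^ s := by
      simp
    rw [h1]
    have h2 : (g₀ : G ⧸ N) = (g₀ : G ⧸ N) ^ (((p ^ a : ℕ) : ℤ) * s +
        ((n : ℕ) : ℤ) * Int.gcdB (p ^ a : ℕ) n) := by
      rw [← hb]
      simp
    conv_rhs => rw [h2]
    rw [zpow_add, zpow_mul, zpow_mul, zpow_natCast, zpow_natCast, hndef, pow_orderOf_eq_one,
      one_zpow, mul_one]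
  · intro hdiv
    have h1 : orderOf ((g₀ ^ (p ^ a)) ^ s) ∣ m := by
      apply orderOf_dvd_of_pow_eq_one
      rw [← zpow_natCast, ← zpow_mul, mul_comm, zpow_mul, zpow_natCast, ← pow_mul, ← hn,
        pow_orderOf_eq_one, one_zpow]
    exact hm (dvd_trans hdiv h1)

/-- The centralizer index of a `p`-regular element centralizing the normal `p`-subgroup `P` is
the same in `G` and in `G ⧸ P`. -/
theorem index_centralizer_quotient {G : Type*} [Group G] [Finite G] (p : ℕ) [Fact p.Prime]
    (P : Subgroup G) [P.Normal] (hP : IsPGroup p P) (g : G) (hg : ¬ p ∣ orderOf g)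
    (hgP : ∀ u ∈ P, u * g = g * u) :
    (Subgroup.centralizer ({(g : G ⧸ P)} : Set (G ⧸ P))).index =
      (Subgroup.centralizer ({g} : Set G)).index := by
  have hp : p.Prime := Fact.out
  have hPle : P ≤ Subgroup.centralizer ({g} : Set G) := by
    intro u hu
    rw [Subgroup.mem_centralizer_iff]
    intro v hv
    rw [Set.mem_singleton_iff] at hv
    subst hv
    exact (hgP u hu).symm
  have hmap : (Subgroup.centralizer ({g} : Set G)).map (QuotientGroup.mk' P) =
      Subgroup.centralizer ({(g : G ⧸ P)} : Set (G ⧸ P)) := by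
    apply le_antisymm
    · rintro _ ⟨c, hc, rfl⟩
      rw [SetLike.mem_coe] at hc
      rw [Subgroup.mem_centralizer_iff] at hc ⊢
      intro v hv
      rw [Set.mem_singleton_iff] at hv
      subst hv
      have := congrArg (QuotientGroup.mk' P) (hc g rfl)
      simpa using this
    · intro c' hc'
      obtain ⟨c, rfl⟩ := QuotientGroup.mk_surjective c'
      refine ⟨c, ?_, rfl⟩
      rw [SetLike.mem_coe]
      rw [Subgroup.mem_centralizer_iff] at hc' ⊢
      intro v hv
      rw [Set.mem_singleton_iff] at hv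
      subst hv
      have h1 : ((v * c : G) : G ⧸ P) = ((c * v : G) : G ⧸ P) := by
        have := hc' (v : G ⧸ P) rfl
        simpa using this
      -- u := c⁻¹ v⁻¹ c v ∈ P
      have hu : c⁻¹ * v⁻¹ * c * v ∈ P := by
        have h2 := QuotientGroup.eq.mp h1
        have : (v * c)⁻¹ * (c * v) = c⁻¹ * v⁻¹ * c * v := by group
        rwa [this] at h2
      set u := c⁻¹ * v⁻¹ * c * v with hudef
      -- v⁻ⁿ c vⁿ = c uⁿ
      have hpow : ∀ n : ℕ, v⁻¹ ^ n * c * v ^ n = c * u ^ n := by
        intro n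
        induction n with
        | zero => simp
        | succ n ih =>
          have hcomm : u ^ n * v = v * u ^ n := hgP _ (pow_mem hu n)
          calc v⁻¹ ^ (n + 1) * c * v ^ (n + 1) = v⁻¹ * (v⁻¹ ^ n * c * v ^ n) * v := by
                rw [pow_succ', pow_succ]; group
            _ = v⁻¹ * (c * u ^ n) * v := by rw [ih]
            _ = v⁻¹ * c * (u ^ n * v) := by group
            _ = v⁻¹ * c * (v * u ^ n) := by rw [hcomm]
            _ = c * (c⁻¹ * v⁻¹ * c * v) * u ^ n := by group
            _ = c * u ^ (n + 1) := by rw [← hudef, pow_succ']; group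
      have h3 := hpow (orderOf v)
      rw [inv_pow, pow_orderOf_eq_one, inv_one, one_mul, mul_one] at h3
      have h4 : u ^ orderOf v = 1 := by
        have := mul_left_cancel (a := c) (b := 1) (c := u ^ orderOf v) (by rw [mul_one]; exact h3)
        exact this.symm
      -- u is a p-element
      obtain ⟨k, hk⟩ := hP ⟨u, hu⟩
      have hk' : u ^ (p ^ k) = 1 := by
        have := congrArg Subtype.val hk
        simpa using this
      have hcop : Nat.Coprime (orderOf v) (p ^ k) :=
        (Nat.Coprime.pow_left k ((Nat.Prime.coprime_iff_not_dvd hp).mpr hg)).symm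
      have hu1 : u = 1 := by
        have h5 : orderOf u ∣ orderOf v := orderOf_dvd_of_pow_eq_one h4
        have h6 : orderOf u ∣ p ^ k := orderOf_dvd_of_pow_eq_one hk'
        have := Nat.eq_one_of_dvd_coprimes hcop h5 h6
        exact orderOf_eq_one_iff.mp this
      have : c⁻¹ * v⁻¹ * c * v = 1 := hu1
      calc v * c = c * v * (c⁻¹ * v⁻¹ * c * v)⁻¹ := by group
        _ = c * v := by rw [this]; group
  rw [← hmap]
  apply Subgroup.index_map_eq _ (QuotientGroup.mk'_surjective P)
  rw [QuotientGroup.ker_mk']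
  exact hPle

/-- A block contains a character with the normal `p`-subgroup `P` in its kernel, as soon as the
block idempotent does not vanish at some `p`-regular element centralizing `P`. -/
theorem exists_ker_of_blockCoeff_ne_zero {H : Type*} [Group H] [Finite H] (p : ℕ) [Fact p.Prime]
    (M : Ideal AlgInt) (hM : IsPModular p M) (P : Subgroup H) [P.Normal] (hPp : IsPGroup p P)
    (ξ₀ : IrrCharacter H) (y : H) (hyreg : ¬ p ∣ orderOf y) (hcommP : ∀ u ∈ P, u * y = y * u)
    (hne : blockCoeff (blockOf M (ξ₀ : H → ℂ)) y ≠ 0) :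
    ∃ ξ ∈ blockOf M (ξ₀ : H → ℂ), ∀ u ∈ P, (ξ : H → ℂ) u = (ξ : H → ℂ) 1 := by
  classical
  have := Fintype.ofFinite H
  have := Fintype.ofFinite (IrrCharacter H)
  have hp : p.Prime := Fact.out
  by_contra hcon
  push Not at hcon
  apply hne
  have hsumP : ∑ u : H, (if u ∈ P then blockCoeff (blockOf M (ξ₀ : H → ℂ)) (y * u) else 0) =
      blockCoeff (blockOf M (ξ₀ : H → ℂ)) y := by
    rw [Finset.sum_eq_single (1 : H)]
    · simp
    · intro u _ hu
      split_ifs with huP
      · apply blockCoeff_eq_zero_of_singular hM ξ₀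
        obtain ⟨k, hk⟩ := hPp ⟨u, huP⟩
        have hk' : orderOf u ∣ p ^ k := by
          apply orderOf_dvd_of_pow_eq_one
          have := congrArg (Subtype.val) hk
          simpa using this
        obtain ⟨j, hj, hju⟩ := (Nat.dvd_prime_pow hp).mp hk'
        have hj0 : j ≠ 0 := by
          intro h0
          rw [h0, pow_zero, orderOf_eq_one_iff] at hju
          exact hu hju
        have hcop : (orderOf y).Coprime (orderOf u) := by
          rw [hju]
          exact (Nat.Coprime.pow_left j ((Nat.Prime.coprime_iff_not_dvd hp).mpr hyreg)).symm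
        have hcm : Commute y u := (hcommP u huP).symm
        rw [hcm.orderOf_mul_eq_mul_orderOf_of_coprime hcop, hju]
        exact dvd_mul_of_dvd_right (dvd_pow_self p hj0) _
      · rfl
    · intro h0
      exact absurd (Finset.mem_univ _) h0
  rw [← hsumP]
  have hexp : ∀ u : H, (if u ∈ P then blockCoeff (blockOf M (ξ₀ : H → ℂ)) (y * u) else 0) =
      (Nat.card H : ℂ)⁻¹ * ∑ ξ ∈ Finset.univ.filter
        (fun ξ : IrrCharacter H => ξ ∈ blockOf M (ξ₀ : H → ℂ)),
        (ξ : H → ℂ) 1 * conj (if u ∈ P then (ξ : H → ℂ) (y * u) else 0) := by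
    intro u
    split_ifs
    · rw [blockCoeff_eq_sum]
    · simp
  rw [Finset.sum_congr rfl fun u _ => hexp u, ← Finset.mul_sum, Finset.sum_comm]
  apply mul_eq_zero_of_right
  refine Finset.sum_eq_zero fun ξ hξ => ?_
  have hξb : ξ ∈ blockOf M (ξ₀ : H → ℂ) := (Finset.mem_filter.mp hξ).2
  rw [← Finset.mul_sum, ← map_sum]
  obtain ⟨u, hu, hune⟩ := hcon ξ hξb
  rw [(irr_sum_normal ξ P y).2 ⟨u, hu, hune⟩, map_zero, mul_zero]

/-- Let P be a normal p-subgroup of the finite group G such that the index of C_G(P) is a power of p, and fix a maximal ideal M of the algebraic integers containing p. Then (i) two irreducible characters of G ⧸ P lie in the same block if and only if their inflations to G do, and (ii) every block of G contains the inflation of some irreducible character of G ⧸ P; so inflation induces a bijection between the blocks of G ⧸ P and the blocks of G. -/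
theorem result {G : Type*} [Group G] [Finite G] (p : ℕ) [Fact p.Prime] (M : Ideal Cfsg.AlgInt) (hM : Cfsg.IsPModular p M) (P : Subgroup G) [P.Normal] (hP : IsPGroup p P) (hC : ∃ k : ℕ, (Subgroup.centralizer (P : Set G)).index = p ^ k) : (∀ χ ψ : Cfsg.IrrCharacter (G ⧸ P), Cfsg.SameBlock M (χ : G ⧸ P → ℂ) (ψ : G ⧸ P → ℂ) ↔ Cfsg.SameBlock M ((χ : G ⧸ P → ℂ) ∘ QuotientGroup.mk) ((ψ : G ⧸ P → ℂ) ∘ QuotientGroup.mk)) ∧ ∀ B : Set (Cfsg.IrrCharacter G), Cfsg.IsPBlock M B → ∃ χ : Cfsg.IrrCharacter (G ⧸ P), ∃ θ ∈ B, (θ : G → ℂ) = (χ : G ⧸ P → ℂ) ∘ QuotientGroup.mk := by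
  classical
  have := Fintype.ofFinite G
  have := Fintype.ofFinite (G ⧸ P)
  have hMp : M.IsPrime := isPrime_of_isPModular hM
  have hp : p.Prime := Fact.out
  obtain ⟨k, hk⟩ := hC
  have hCn : (Subgroup.centralizer (P : Set G)).Normal := inferInstance
  have hregC : ∀ g : G, ¬ p ∣ orderOf g → ∀ u ∈ P, u * g = g * u := by
    intro g hg u hu
    have hgC : g ∈ Subgroup.centralizer (P : Set G) :=
      mem_of_regular_of_index (Subgroup.centralizer (P : Set G)) hk hg
    rw [Subgroup.mem_centralizer_iff] at hgC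
    exact hgC u hu
  constructor
  · intro χ ψ
    constructor
    · intro h g
      obtain ⟨m, hm⟩ : (Subgroup.centralizer ({(g : G ⧸ P)} : Set (G ⧸ P))).index ∣
          (Subgroup.centralizer ({g} : Set G)).index := by
        have h1 : (Subgroup.centralizer ({g} : Set G)).map (QuotientGroup.mk' P) ≤
            Subgroup.centralizer ({(g : G ⧸ P)} : Set (G ⧸ P)) := by
          rintro _ ⟨c, hc, rfl⟩
          rw [SetLike.mem_coe] at hc
          rw [Subgroup.mem_centralizer_iff] at hc ⊢
          intro v hv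
          rw [Set.mem_singleton_iff] at hv
          subst hv
          have := congrArg (QuotientGroup.mk' P) (hc g rfl)
          simpa using this
        exact dvd_trans (Subgroup.index_dvd_of_le h1)
          (Subgroup.index_map_dvd _ (QuotientGroup.mk'_surjective P))
      have e : Cfsg.centralChar ((χ : G ⧸ P → ℂ) ∘ QuotientGroup.mk) g -
          Cfsg.centralChar ((ψ : G ⧸ P → ℂ) ∘ QuotientGroup.mk) g =
          (m : ℂ) * (Cfsg.centralChar (χ : G ⧸ P → ℂ) (g : G ⧸ P) -
            Cfsg.centralChar (ψ : G ⧸ P → ℂ) (g : G ⧸ P)) := by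
        unfold Cfsg.centralChar
        simp only [Function.comp_apply, QuotientGroup.mk_one]
        rw [hm]
        push_cast
        ring
      rw [e]
      exact memLocalIdeal_mul_left hMp (memLocalRing_natCast hMp m) (h (g : G ⧸ P))
    · intro h
      apply sameBlock_of_regular hM
      intro x hx
      obtain ⟨g, rfl, hg⟩ := exists_regular_lift p P x hx
      have hidx := index_centralizer_quotient p P hP g hg (hregC g hg)
      have h1 := h g
      have e : Cfsg.centralChar ((χ : G ⧸ P → ℂ) ∘ QuotientGroup.mk) g -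
          Cfsg.centralChar ((ψ : G ⧸ P → ℂ) ∘ QuotientGroup.mk) g =
          Cfsg.centralChar (χ : G ⧸ P → ℂ) (g : G ⧸ P) -
            Cfsg.centralChar (ψ : G ⧸ P → ℂ) (g : G ⧸ P) := by
        unfold Cfsg.centralChar
        simp only [Function.comp_apply, QuotientGroup.mk_one]
        rw [hidx]
      rw [← e]
      exact h1
  · intro B hB
    obtain ⟨ξ₀, rfl⟩ := hB
    obtain ⟨y, hy⟩ := exists_isDefectClass hM ξ₀
    have hyreg := isPRegular_of_isDefectClass p M hM ⟨ξ₀, rfl⟩ hy
    have hne : Cfsg.blockCoeff (Cfsg.blockOf M (ξ₀ : G → ℂ)) y ≠ 0 := by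
      intro h0
      apply hy.2.1
      rw [h0]
      exact memLocalIdeal_zero hMp
    obtain ⟨ξ, hξB, hξker⟩ := exists_ker_of_blockCoeff_ne_zero p M hM P hP ξ₀ y hyreg
      (hregC y hyreg) hne
    obtain ⟨ξ', hξ'irr, hξ'val⟩ := Cfsg.Agent.Lib.Helper79.isIrrCharacter_deflate ξ.2 P hξker
    refine ⟨⟨ξ', hξ'irr⟩, ξ, hξB, ?_⟩
    funext g
    exact (hξ'val g).symm

end Cfsg.Agent.S0941
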