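import Cfsg.Statements.S4718
import Cfsg.Agent.S4494
import Cfsg.Agent.S0133
import Cfsg.Agent.Lib.Helper1.Landau
import Cfsg.Agent.Lib.Helper77.DefectClass
-- import your own Cfsg.Agent.* helpers here

set_option autoImplicit false
universe u
open Cfsg

namespace Cfsg.Agent.S4718

/-- Let p be a prime and a a natural number. There is a bound N such that every finite group whose Sylow p-subgroups have order p^a and whose only p-block (relative to a maximal ideal of the algebraic integers containing p) is the principal block has order at most N. -/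
theorem result (p : ℕ) [Fact p.Prime] (a : ℕ) : ∃ N : ℕ, ∀ (G : Type u) [Group G] [Finite G] (M : Ideal Cfsg.AlgInt), Cfsg.IsPModular p M → (Nat.card G).factorization p = a → (∀ B : Set (Cfsg.IrrCharacter G), Cfsg.IsPBlock M B → B = Cfsg.principalBlock M G) → Nat.card G ≤ N := by
  obtain ⟨N, hN⟩ := Cfsg.Agent.Lib.Helper1.Landau.card_le_of_classes.{u} ((p ^ (2 * a) + 4) / 4)
  refine ⟨N, ?_⟩
  intro G _ _ M hM ha hB
  apply hN G
  classical
  have := Fintype.ofFinite G
  have hMp : M.IsPrime := hM.2.1.isPrime
  -- every irreducible character lies in the principal block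
  have huniv : Cfsg.principalBlock M G = Set.univ := by
    ext χ
    simp only [Set.mem_univ, iff_true]
    have h1 : χ ∈ Cfsg.blockOf M (χ : G → ℂ) := Cfsg.Agent.Lib.Helper77.self_mem_blockOf hMp χ
    have h2 := hB (Cfsg.blockOf M (χ : G → ℂ)) ⟨χ, rfl⟩
    rw [h2] at h1
    exact h1
  have hχ0 : Cfsg.IsPBlock M (Cfsg.principalBlock M G) := by
    have : Nonempty (Cfsg.IrrCharacter G) := by
      by_contra hne
      rw [not_nonempty_iff] at hne
      have h0 : Nat.card (Cfsg.IrrCharacter G) = 0 := Nat.card_eq_zero.mpr (Or.inl hne)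
      rw [Cfsg.Agent.S0133.result] at h0
      have : Nonempty (ConjClasses G) := ⟨ConjClasses.mk 1⟩
      have := Nat.card_pos (α := ConjClasses G)
      omega
    obtain ⟨χ⟩ := this
    have h2 := hB (Cfsg.blockOf M (χ : G → ℂ)) ⟨χ, rfl⟩
    rw [← h2]
    exact ⟨χ, rfl⟩
  have hBF := Cfsg.Agent.S4494.result p M hM (Cfsg.principalBlock M G) hχ0
  have hd : Cfsg.blockDefect p (Cfsg.principalBlock M G) ≤ a := by
    unfold Cfsg.blockDefect
    rw [ha]
    exact Nat.sub_le _ _
  have hpow : p ^ (2 * Cfsg.blockDefect p (Cfsg.principalBlock M G)) ≤ p ^ (2 * a) :=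
    Nat.pow_le_pow_right (Fact.out : p.Prime).pos (by omega)
  have hcard : Nat.card (Cfsg.principalBlock M G) = Nat.card (ConjClasses G) := by
    rw [huniv, Nat.card_congr (Equiv.Set.univ _)]
    exact Cfsg.Agent.S0133.result
  rw [hcard] at hBF
  omega

end Cfsg.Agent.S4718
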