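import Cfsg.Statements.S0781
import Mathlib
import Cfsg.Agent.Lib.Helper13.UnitaryTorus

set_option autoImplicit false
open Cfsg

namespace Cfsg.Agent.S0781

open Matrix Cfsg.Agent.Lib.Helper99 Cfsg.Agent.Lib.Helper13

theorem mem_SU_iff' {F : Type*} [Field F] {n q : ℕ} (A : Matrix.SpecialLinearGroup (Fin n) F) :
    A ∈ Cfsg.SU n F q ↔ ∀ u v : Fin n → F,
      Cfsg.hermForm n F q ((A : Matrix (Fin n) (Fin n) F) *ᵥ u)
        ((A : Matrix (Fin n) (Fin n) F) *ᵥ v) = Cfsg.hermForm n F q u v := Iff.rfl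

/-- from a commutator identity in `GL` to membership in the commutator set of `SU` -/
theorem mem_commutatorSet_of_GL {F : Type*} [Field F] [Fintype F] {n q : ℕ}
    (A : ↥(Cfsg.SU n F q)) (B C : GL (Fin n) F)
    (hB : B ∈ suGL (F := F) n q) (hC : C ∈ suGL (F := F) n q)
    (h : ((B * C * B⁻¹ * C⁻¹ : GL (Fin n) F) : Matrix (Fin n) (Fin n) F)
      = ((A : Matrix.SpecialLinearGroup (Fin n) F) : Matrix (Fin n) (Fin n) F)) :
    A ∈ commutatorSet ↥(Cfsg.SU n F q) := by
  have hBdet : (B : Matrix (Fin n) (Fin n) F).det = 1 := (mem_specialLinear_iff B).1 hB.2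
  have hCdet : (C : Matrix (Fin n) (Fin n) F).det = 1 := (mem_specialLinear_iff C).1 hC.2
  let Bs : Matrix.SpecialLinearGroup (Fin n) F := ⟨(B : Matrix (Fin n) (Fin n) F), hBdet⟩
  let Cs : Matrix.SpecialLinearGroup (Fin n) F := ⟨(C : Matrix (Fin n) (Fin n) F), hCdet⟩
  have hBs : Bs ∈ Cfsg.SU n F q := by
    rw [mem_SU_iff']
    exact (mem_GU_iff n q B).1 hB.1
  have hCs : Cs ∈ Cfsg.SU n F q := by
    rw [mem_SU_iff']
    exact (mem_GU_iff n q C).1 hC.1
  let B' : ↥(Cfsg.SU n F q) := ⟨Bs, hBs⟩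
  let C' : ↥(Cfsg.SU n F q) := ⟨Cs, hCs⟩
  have e : B * C = (B * C * B⁻¹ * C⁻¹) * C * B := by group
  have e' : (B : Matrix (Fin n) (Fin n) F) * (C : Matrix (Fin n) (Fin n) F) =
      ((A : Matrix.SpecialLinearGroup (Fin n) F) : Matrix (Fin n) (Fin n) F) *
        (C : Matrix (Fin n) (Fin n) F) * (B : Matrix (Fin n) (Fin n) F) := by
    have := congrArg (fun g : GL (Fin n) F => (g : Matrix (Fin n) (Fin n) F)) e
    simp only [Units.val_mul] at this h
    rw [this, h]
  have key : B' * C' = A * C' * B' := by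
    apply Subtype.ext
    apply Subtype.ext
    exact e'
  refine ⟨B', C', ?_⟩
  rw [commutatorElement_def, key]
  group

theorem unitaryTransvection_eq_utv {F : Type*} [Field F] [Fintype F] {n q : ℕ} (v : Fin n → F)
    (hv : Cfsg.hermForm n F q v v = 0) (c : F) :
    ((utv q v c : GL (Fin n) F) : Matrix (Fin n) (Fin n) F) = Cfsg.unitaryTransvection n q v c := by
  rw [Matrix.ext_iff_mulVec]
  intro x
  rw [utv_mulVec v hv, unitaryTransvection_mulVec]

/-- In SU_n(q) with n ≥ 4, or n = 3 and q > 2, every element whose matrix is a unitary transvection x ↦ x + c h(x, v) v (v isotropic) is a commutator ⁅B, C⁆ of two elements of SU_n(q). -/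
theorem result {F : Type*} [Field F] [Fintype F] {q : ℕ} (hF : Fintype.card F = q ^ 2) (n : ℕ) (hn : 4 ≤ n ∨ (n = 3 ∧ 3 ≤ q)) (A : ↥(Cfsg.SU n F q)) (v : Fin n → F) (c : F) (hv0 : Cfsg.hermForm n F q v v = 0) (hA : ((A : Matrix.SpecialLinearGroup (Fin n) F) : Matrix (Fin n) (Fin n) F) = Cfsg.unitaryTransvection n q v c) : A ∈ commutatorSet ↥(Cfsg.SU n F q) := by
  by_cases htriv : v = 0 ∨ c = 0
  · have h1 : ((A : Matrix.SpecialLinearGroup (Fin n) F) : Matrix (Fin n) (Fin n) F) = 1 := by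
      rw [hA]
      unfold Cfsg.unitaryTransvection
      rcases htriv with rfl | rfl
      · simp
      · simp
    have hA1 : A = 1 := by
      apply Subtype.ext
      apply Subtype.ext
      exact h1
    rw [hA1]
    exact ⟨1, 1, by simp⟩
  · push Not at htriv
    obtain ⟨hvne, hcne⟩ := htriv
    -- the parameter has trace zero
    have hc : c + c ^ q = 0 := by
      obtain ⟨x, hx⟩ : ∃ x, Cfsg.hermForm n F q x v ≠ 0 := by
        by_contra hcon
        push Not at hcon
        exact hvne (hermForm_nd_right hF hcon)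
      have h1 := (mem_SU_iff' (A : Matrix.SpecialLinearGroup (Fin n) F)).1 A.2 x x
      rw [hA, hermForm_unitaryTransvection hF n v hv0] at h1
      have h2 : (c + c ^ q) * (Cfsg.hermForm n F q x v * Cfsg.hermForm n F q v x) = 0 := by
        linear_combination h1
      have hx' : Cfsg.hermForm n F q v x ≠ 0 := fun h => hx (hermForm_eq_zero_comm hF h)
      rcases mul_eq_zero.1 h2 with h | h
      · exact h
      · exact absurd h (mul_ne_zero hx hx')
    have hmat := unitaryTransvection_eq_utv v hv0 c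
    rcases hn with hn | ⟨hn3, hq3⟩
    · obtain ⟨v', w', h1, h2, h3, h4, h5⟩ := exists_siegel_config hF hn v hvne hv0
      obtain ⟨τ, hτ0, hτ⟩ := exists_trace_zero hF
      obtain ⟨x₀, hx₀⟩ := exists_trace_eq' hF (1 : F) (one_pow q)
      obtain ⟨B, S, hB, hS, hBS⟩ := utv_comm_siegel hF v v' w' c τ x₀ hv0 h1 h2 h3 h4 h5 hc hτ0
        hτ hx₀
      apply mem_commutatorSet_of_GL A B S hB hS
      rw [hBS, hmat, hA]
    · obtain ⟨w, a, h1, h2, h3, h4, h5⟩ := exists_torus_config hF (by omega) v hvne hv0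
      obtain ⟨B, C, hB, hC, hBC⟩ := utv_comm_torus hF hq3 v w a hv0 h1 h2 h3 h4 h5 c hc
      apply mem_commutatorSet_of_GL A B C hB hC
      rw [hBC, hmat, hA]

end Cfsg.Agent.S0781
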