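import Cfsg.Statements.S1419
import Cfsg.Agent.S1403
import Cfsg.Agent.S1404
import Cfsg.Agent.S1408
import Cfsg.Agent.S1412
import Cfsg.Agent.S1414
import Cfsg.Agent.S1416
import Cfsg.Agent.S1417
import Cfsg.Agent.S1418
import Cfsg.Agent.Lib.Helper77.LemT
import Cfsg.Agent.Lib.Helper64.BG127g

set_option autoImplicit false
open Cfsg

namespace Cfsg.Agent.S1419

/-- Let G be a minimal simple group of odd order whose Sylow p-subgroups are nonabelian, M a maximal subgroup with p ∈ τ₂(M), E a complement to M_σ in M and A ≤ E elementary abelian of order p ^ 2. Then τ₂(M) = {p}; A₀ = A ∩ C_G(M_σ) has order p and F(M) is generated by M_σ and A₀ (a direct product); and every subgroup X ≠ A₀ of E of order p satisfies M_σ ∩ C_G(X) = 1 and C_G(X) ⊄ M. -/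
theorem result {G : Type*} [Group G] [Finite G] (hG : Cfsg.IsMinSimpleOddOrder G)
    (M : Subgroup G) (hM : IsCoatom M) (E : Subgroup G) (hE : Cfsg.IsComplIn E (Cfsg.sigmaCore M) M) (p : ℕ) [Fact p.Prime] (hp : p ∈ Cfsg.tau2 M) (hS : ∀ S : Sylow p G, ¬ IsMulCommutative (S : Subgroup G))
    (A : Subgroup G) (hA : (A ≤ E ∧ Cfsg.IsElementaryAbelian p A ∧ Nat.card A = p ^ 2)) :
    Cfsg.tau2 M = {p} ∧
      (Nat.card ↥(A ⊓ Subgroup.centralizer (Cfsg.sigmaCore M : Set G)) = p ∧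
        Cfsg.fittingOf M = Cfsg.sigmaCore M ⊔ (A ⊓ Subgroup.centralizer (Cfsg.sigmaCore M : Set G))) ∧
      ∀ X : Subgroup G, X ≤ E → Nat.card X = p → X ≠ A ⊓ Subgroup.centralizer (Cfsg.sigmaCore M : Set G) →
        Cfsg.sigmaCore M ⊓ Subgroup.centralizer (X : Set G) = ⊥ ∧ ¬ Subgroup.centralizer (X : Set G) ≤ M := by
  have H : Cfsg.Agent.Lib.Helper64.BG127.Hyp G :=
    { uniq := fun K h1 h2 h3 => Cfsg.Agent.S1403.result hG K h1 h2 h3
      fus := fun M hM q _ hq X hXp hX1 hXM => (Cfsg.Agent.S1404.result hG M hM q hq X hXp hX1 hXM).1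
      h08 := fun M hM q _ hq h2 h1 => Cfsg.Agent.S1408.result hG M hM q hq h2 h1
      h12 := fun q _ P hr => Cfsg.Agent.S1412.result hG q P hr
      h14 := fun M hM => (Cfsg.Agent.S1414.result hG M hM).2.2.2.1
      h16 := fun M hM q _ A hA => (Cfsg.Agent.S1416.result hG M hM q A hA).1
      h17 := fun M hM q _ hq A hA => Cfsg.Agent.S1417.result hG M hM q hq A hA
      h18 := fun M hM E hE q _ hq A hA => Cfsg.Agent.S1418.result hG M hM E hE q hq A hA
      hT := fun hAc hAe hcard hyA hy hzA hz1 hzy hX₁ hX₂ h1 h2 hn1 hn2 =>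
        Cfsg.Agent.Lib.Helper77.LemT.exists_pow_conj_eq hAc hAe hcard hyA hy hzA hz1 hzy
          hX₁ hX₂ h1 h2 hn1 hn2 }
  exact Cfsg.Agent.Lib.Helper64.BG127.bg127 hG H hM hE hp hS hA

end Cfsg.Agent.S1419
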