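import Cfsg.Statements.S3734
import Cfsg.Agent.Lib.Helper34.Schur
import Cfsg.Agent.Lib.Helper24.SylowInv
import Cfsg.Agent.Lib.Helper62.Subnormal

set_option autoImplicit false
set_option linter.style.haveILetI false
open Cfsg

namespace Cfsg.Agent.S3734

open Cfsg.Agent.Lib.Helper34
open scoped IsMulCommutative
open scoped commutatorElement

section aux

variable {X : Type*} [Group X]

/-- The subgroups `B ≤ A` with `A / B` cyclic. -/
def cocyc (A : Subgroup X) : Set (Subgroup X) :=
  {B : Subgroup X | B ≤ A ∧ ∃ a ∈ A, B ⊔ Subgroup.zpowers a = A}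

/-- The kernel of the action of `A` on `Q / M`, as a subgroup of `X`. -/
def secKer (A Q M : Subgroup X) (hM : A ≤ Subgroup.normalizer (M : Set X))
    (hQ : A ≤ Subgroup.normalizer (Q : Set X)) : Subgroup X where
  carrier := {b | b ∈ A ∧ ∀ x ∈ Q, b * x * b⁻¹ * x⁻¹ ∈ M}
  one_mem' := ⟨A.one_mem, fun x _ => by simp [M.one_mem]⟩
  mul_mem' := by
    rintro b c ⟨hb, hb'⟩ ⟨hc, hc'⟩
    refine ⟨A.mul_mem hb hc, fun x hx => ?_⟩
    have h1 : b * (c * x * c⁻¹ * x⁻¹) * b⁻¹ ∈ M := conj_mem_of_le_normalizer hM hb (hc' x hx)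
    have h2 := M.mul_mem h1 (hb' x hx)
    have e : b * c * x * (b * c)⁻¹ * x⁻¹ = b * (c * x * c⁻¹ * x⁻¹) * b⁻¹ * (b * x * b⁻¹ * x⁻¹) := by
      group
    rw [e]; exact h2
  inv_mem' := by
    rintro b ⟨hb, hb'⟩
    refine ⟨A.inv_mem hb, fun x hx => ?_⟩
    have hy : b⁻¹ * x * b ∈ Q := by
      have := conj_mem_of_le_normalizer hQ (A.inv_mem hb) hx
      simpa using this
    have h1 := M.inv_mem (hb' _ hy)
    have e : b⁻¹ * x * b⁻¹⁻¹ * x⁻¹ = (b * (b⁻¹ * x * b) * b⁻¹ * (b⁻¹ * x * b)⁻¹)⁻¹ := by group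
    rw [e]; exact h1

theorem mem_secKer {A Q M : Subgroup X} {hM : A ≤ Subgroup.normalizer (M : Set X)}
    {hQ : A ≤ Subgroup.normalizer (Q : Set X)} {b : X} :
    b ∈ secKer A Q M hM hQ ↔ b ∈ A ∧ ∀ x ∈ Q, b * x * b⁻¹ * x⁻¹ ∈ M := Iff.rfl

theorem le_normalizer_centralizer_of_comm (A B : Subgroup X) [IsMulCommutative A] (hB : B ≤ A) :
    A ≤ Subgroup.normalizer ((Subgroup.centralizer (B : Set X) : Subgroup X) : Set X) := by
  apply le_normalizer_of_forall_conj_mem
  intro c hc x hx
  rw [Subgroup.mem_centralizer_iff] at hx ⊢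
  intro b hb
  have hcb : c * b = b * c := by
    have := mul_comm' (⟨c, hc⟩ : ↥A) ⟨b, hB hb⟩
    exact congrArg Subtype.val this
  have hcb' : c⁻¹ * b = b * c⁻¹ := by
    have := congrArg (fun z => c⁻¹ * z * c⁻¹) hcb
    simp only [mul_assoc, inv_mul_cancel_left, mul_inv_cancel, mul_one] at this
    exact this.symm
  have := hx b hb
  calc b * (c * x * c⁻¹) = c * (b * x) * c⁻¹ := by
        rw [← mul_assoc, ← mul_assoc, ← hcb, mul_assoc c b x]
    _ = c * (x * b) * c⁻¹ := by rw [this]
    _ = c * x * c⁻¹ * b := by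
        rw [mul_assoc c x c⁻¹, mul_assoc (c) (x * c⁻¹) b, mul_assoc x c⁻¹ b, hcb']
        simp [mul_assoc]

theorem le_normalizer_inf {A U V : Subgroup X} (hU : A ≤ Subgroup.normalizer (U : Set X))
    (hV : A ≤ Subgroup.normalizer (V : Set X)) :
    A ≤ Subgroup.normalizer ((U ⊓ V : Subgroup X) : Set X) := by
  apply le_normalizer_of_forall_conj_mem
  intro c hc x hx
  exact ⟨conj_mem_of_le_normalizer hU hc hx.1, conj_mem_of_le_normalizer hV hc hx.2⟩

theorem le_normalizer_sup {A U V : Subgroup X} (hU : A ≤ Subgroup.normalizer (U : Set X))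
    (hV : A ≤ Subgroup.normalizer (V : Set X)) :
    A ≤ Subgroup.normalizer ((U ⊔ V : Subgroup X) : Set X) := by
  apply le_normalizer_of_forall_conj_mem
  intro c hc x hx
  have : U ⊔ V ≤ (U ⊔ V).comap (MulAut.conj c).toMonoidHom := by
    apply sup_le
    · intro u hu
      exact Subgroup.mem_sup_left (conj_mem_of_le_normalizer hU hc hu)
    · intro v hv
      exact Subgroup.mem_sup_right (conj_mem_of_le_normalizer hV hc hv)
  exact this hx

theorem le_normalizer_normalizer {A M : Subgroup X} (hM : A ≤ Subgroup.normalizer (M : Set X)) :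
    A ≤ Subgroup.normalizer ((Subgroup.normalizer (M : Set X) : Subgroup X) : Set X) :=
  hM.trans Subgroup.le_normalizer

/-- The key step: a nilpotent `A`-invariant subgroup of order prime to `|A|` is generated by the
centralizers of the subgroups `B` with `A / B` cyclic. -/
theorem nilpotent_step [Finite X] (A : Subgroup X) [IsMulCommutative A] (n : ℕ) :
    ∀ Q : Subgroup X, Nat.card Q ≤ n → Group.IsNilpotent ↥Q →
      A ≤ Subgroup.normalizer (Q : Set X) → (Nat.card A).Coprime (Nat.card Q) →
      Q ≤ ⨆ B ∈ cocyc A, Q ⊓ Subgroup.centralizer (B : Set X) := by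
  induction n with
  | zero =>
    intro Q hn
    have := Nat.card_pos (α := ↥Q)
    omega
  | succ n ih =>
    intro Q hn hnil hAQ hcop
    -- proper A-invariant subgroups
    let 𝓜 : Set (Subgroup X) := {U | U < Q ∧ A ≤ Subgroup.normalizer (U : Set X)}
    have hmono : ∀ U : Subgroup X, U ≤ Q →
        (⨆ B ∈ cocyc A, U ⊓ Subgroup.centralizer (B : Set X)) ≤
          ⨆ B ∈ cocyc A, Q ⊓ Subgroup.centralizer (B : Set X) := by
      intro U hU
      exact iSup₂_mono (fun B _ => inf_le_inf_right _ hU)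
    have hIH : ∀ U ∈ 𝓜, U ≤ ⨆ B ∈ cocyc A, Q ⊓ Subgroup.centralizer (B : Set X) := by
      intro U hU
      have hcard : Nat.card U < Nat.card Q := by
        by_contra hge
        push Not at hge
        exact hU.1.ne (Subgroup.eq_of_le_of_card_ge hU.1.le hge)
      have hnilU : Group.IsNilpotent ↥U := by
        haveI := hnil
        exact Group.nilpotent_of_mulEquiv (Subgroup.subgroupOfEquivOfLe hU.1.le)
      have := ih U (by omega) hnilU hU.2
        (Nat.Coprime.coprime_dvd_right (Subgroup.card_dvd_of_le hU.1.le) hcop)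
      exact this.trans (hmono U hU.1.le)
    by_cases hQbot : Q = ⊥
    · rw [hQbot]; exact bot_le
    have hne : 𝓜.Nonempty := ⟨⊥, bot_lt_iff_ne_bot.mpr hQbot, by
      intro c _; rw [Subgroup.mem_normalizer_iff]; intro x; simp⟩
    obtain ⟨M, hM𝓜, hMmax⟩ : ∃ M ∈ 𝓜, ∀ U ∈ 𝓜, M ≤ U → U = M := by
      obtain ⟨M, hM, hmax⟩ := (Set.toFinite 𝓜).exists_maximal hne
      exact ⟨M, hM, fun U hU hMU => le_antisymm (hmax hU hMU) hMU⟩
    by_cases hcase : ∃ U ∈ 𝓜, ¬ U ≤ M
    · obtain ⟨U, hU, hUM⟩ := hcase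
      have hsup : M ⊔ U = Q := by
        have hle : M ⊔ U ≤ Q := sup_le hM𝓜.1.le hU.1.le
        by_contra hneq
        have hmem : M ⊔ U ∈ 𝓜 := ⟨lt_of_le_of_ne hle hneq, le_normalizer_sup hM𝓜.2 hU.2⟩
        have := hMmax _ hmem le_sup_left
        exact hUM (this ▸ le_sup_right)
      calc Q = M ⊔ U := hsup.symm
        _ ≤ _ := sup_le (hIH M hM𝓜) (hIH U hU)
    · push Not at hcase
      have hAM := hM𝓜.2
      have hMQ := hM𝓜.1
      -- every A-invariant subgroup of Q is Q or inside M
      have huniq : ∀ U : Subgroup X, U ≤ Q → A ≤ Subgroup.normalizer (U : Set X) →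
          U = Q ∨ U ≤ M := by
        intro U hUQ hAU
        by_cases h : U = Q
        · exact Or.inl h
        · exact Or.inr (hcase U ⟨lt_of_le_of_ne hUQ h, hAU⟩)
      -- M is normal in Q
      have hQM : Q ≤ Subgroup.normalizer (M : Set X) := by
        rcases huniq (Q ⊓ Subgroup.normalizer (M : Set X)) inf_le_left
          (le_normalizer_inf hAQ (le_normalizer_normalizer hAM)) with h | h
        · rw [← h]; exact inf_le_right
        · exfalso
          haveI := hnil
          have hnc : NormalizerCondition ↥Q := Group.normalizerCondition_of_isNilpotent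
          have hlt : M.subgroupOf Q < ⊤ := by
            rw [lt_top_iff_ne_top, Ne, Subgroup.subgroupOf_eq_top]
            exact not_le_of_gt hMQ
          obtain ⟨x, hxN, hxM⟩ := SetLike.exists_of_lt (hnc _ hlt)
          rw [← Subgroup.subgroupOf_normalizer_eq hMQ.le, Subgroup.mem_subgroupOf] at hxN
          exact hxM (Subgroup.mem_subgroupOf.mpr (h ⟨x.2, hxN⟩))
      haveI hn : (M.subgroupOf Q).Normal :=
        (Subgroup.normal_subgroupOf_iff_le_normalizer hMQ.le).mpr hQM
      have hirr : ∀ U : Subgroup X, M ≤ U → U ≤ Q → A ≤ Subgroup.normalizer (U : Set X) →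
          U = M ∨ U = Q := by
        intro U hMU hUQ hAU
        rcases huniq U hUQ hAU with h | h
        · exact Or.inr h
        · exact Or.inl (le_antisymm h hMU)
      have hsolvQ : Group.IsSolvable ↥Q := by
        haveI := hnil
        infer_instance
      obtain ⟨a, haA, ha⟩ := exists_cyclic_supplement A Q M hAQ hAM hMQ hsolvQ hirr
      obtain ⟨B, hB⟩ : ∃ B : Subgroup X, B = secKer A Q M hAM hAQ := ⟨_, rfl⟩
      have hBA : B ≤ A := by rw [hB]; exact fun b hb => hb.1
      have hBprop : ∀ b ∈ B, ∀ x ∈ Q, b * x * b⁻¹ * x⁻¹ ∈ M := by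
        rw [hB]; exact fun b hb => hb.2
      have hBin : ∀ b ∈ A, (∀ x ∈ Q, b * x * b⁻¹ * x⁻¹ ∈ M) → b ∈ B := by
        rw [hB]; exact fun b hb h => ⟨hb, h⟩
      have hBmem : B ∈ cocyc A := by
        refine ⟨hBA, a, haA, le_antisymm (sup_le hBA ((Subgroup.zpowers_le).mpr haA)) ?_⟩
        intro g hg
        obtain ⟨k, hk⟩ := ha g hg
        have hb : g * a ^ k ∈ B := hBin _ (A.mul_mem hg (A.zpow_mem haA k)) hk
        have e : g = (g * a ^ k) * a ^ (-k) := by
          rw [mul_assoc, ← zpow_add, add_neg_cancel, zpow_zero, mul_one]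
        rw [e]
        exact Subgroup.mul_mem_sup hb (Subgroup.zpow_mem_zpowers a (-k))
      -- Q = M * C_Q(B)
      have hBM : B ≤ Subgroup.normalizer (M : Set X) := hBA.trans hAM
      have hcopB : (Nat.card B).Coprime (Nat.card M) :=
        Nat.Coprime.coprime_dvd_left (Subgroup.card_dvd_of_le hBA)
          (Nat.Coprime.coprime_dvd_right (Subgroup.card_dvd_of_le hMQ.le) hcop)
      have hBsolv : Group.IsSolvable ↥B := by
        haveI : IsMulCommutative ↥B := ⟨⟨fun x y => by
          apply Subtype.ext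
          have := mul_comm' (⟨(x : X), hBA x.2⟩ : ↥A) ⟨(y : X), hBA y.2⟩
          have h2 : (x : X) * (y : X) = (y : X) * (x : X) := congrArg Subtype.val this
          exact h2⟩⟩
        infer_instance
      have hAC : A ≤ Subgroup.normalizer
          ((Q ⊓ Subgroup.centralizer (B : Set X) : Subgroup X) : Set X) :=
        le_normalizer_inf hAQ (le_normalizer_centralizer_of_comm A B hBA)
      have hQle : Q ≤ M ⊔ (Q ⊓ Subgroup.centralizer (B : Set X)) := by
        intro x hx
        obtain ⟨m, hm, hc⟩ := Cfsg.Agent.Lib.Helper24.fixed_point_lemma M B hBM hcopB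
          (Or.inr hBsolv) x (fun b hb => hBprop b hb x hx)
        have e : x = m * (m⁻¹ * x) := by group
        rw [e]
        have hmx : m⁻¹ * x ∈ Q ⊓ Subgroup.centralizer (B : Set X) :=
          Subgroup.mem_inf.mpr ⟨Q.mul_mem (Q.inv_mem (hMQ.le hm)) hx, hc⟩
        exact Subgroup.mul_mem_sup hm hmx
      rcases huniq _ inf_le_left hAC with h | h
      · have key : Q ⊓ Subgroup.centralizer (B : Set X) ≤
            ⨆ B' ∈ cocyc A, Q ⊓ Subgroup.centralizer (B' : Set X) :=
          le_biSup (fun B' : Subgroup X => Q ⊓ Subgroup.centralizer (B' : Set X)) hBmem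
        exact h.symm.le.trans key
      · exfalso
        have : Q ≤ M := hQle.trans (sup_le le_rfl h)
        exact absurd hMQ (not_lt_of_ge this)

theorem le_normalizer_biSup {A : Subgroup X} {s : Set (Subgroup X)} (f : Subgroup X → Subgroup X)
    (h : ∀ B ∈ s, A ≤ Subgroup.normalizer ((f B : Subgroup X) : Set X)) :
    A ≤ Subgroup.normalizer ((⨆ B ∈ s, f B : Subgroup X) : Set X) := by
  apply le_normalizer_of_forall_conj_mem
  intro c hc x hx
  have : (⨆ B ∈ s, f B) ≤ (⨆ B ∈ s, f B).comap (MulAut.conj c).toMonoidHom := by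
    apply iSup₂_le
    intro B hB y hy
    rw [Subgroup.mem_comap]
    have h1 : c * y * c⁻¹ ∈ f B := conj_mem_of_le_normalizer (h B hB) hc hy
    exact (le_biSup f hB) h1
  exact this hx

theorem le_normalizer_commutator' {U S T : Subgroup X}
    (hS : U ≤ Subgroup.normalizer (S : Set X)) (hT : U ≤ Subgroup.normalizer (T : Set X)) :
    U ≤ Subgroup.normalizer ((⁅S, T⁆ : Subgroup X) : Set X) := by
  apply le_normalizer_of_forall_conj_mem
  intro c hc x hx
  have : ⁅S, T⁆ ≤ (⁅S, T⁆).comap (MulAut.conj c).toMonoidHom := by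
    rw [Subgroup.commutator_le]
    intro s hs t ht
    rw [Subgroup.mem_comap]
    have e : (MulAut.conj c).toMonoidHom ⁅s, t⁆ = ⁅c * s * c⁻¹, c * t * c⁻¹⁆ := by
      simp only [MulEquiv.coe_toMonoidHom, MulAut.conj_apply, commutatorElement_def]
      group
    rw [e]
    exact Subgroup.commutator_mem_commutator (conj_mem_of_le_normalizer hS hc hs)
      (conj_mem_of_le_normalizer hT hc ht)
  exact this hx

end aux

/-- Let A and G be subgroups of a finite group with A abelian, A normalizing G and the orders of A and G coprime. Then G is generated by the fixed-point subgroups C_G(B) of those subgroups B of A for which A/B is cyclic (that is, A = ⟨B, a⟩ for some a), and [G, A] is generated by the commutator subgroups [C_G(B), A] over the same subgroups B. -/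
theorem result {X : Type*} [Group X] [Finite X] (A G : Subgroup X) (hAab : IsMulCommutative A) (hAG : A ≤ Subgroup.normalizer (G : Set X)) (hcop : (Nat.card A).Coprime (Nat.card G)) : (⨆ B ∈ {B : Subgroup X | B ≤ A ∧ ∃ a ∈ A, B ⊔ Subgroup.zpowers a = A}, G ⊓ Subgroup.centralizer (B : Set X)) = G ∧ (⨆ B ∈ {B : Subgroup X | B ≤ A ∧ ∃ a ∈ A, B ⊔ Subgroup.zpowers a = A}, ⁅G ⊓ Subgroup.centralizer (B : Set X), A⁆) = ⁅G, A⁆ := by
  haveI : IsMulCommutative ↥A := hAab
  have hAsolv : Group.IsSolvable ↥A := inferInstance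
  have hAA : A ≤ Subgroup.normalizer (A : Set X) := Subgroup.le_normalizer
  -- invariance of G ⊓ C(B)
  have hinvB : ∀ B ∈ cocyc A,
      A ≤ Subgroup.normalizer ((G ⊓ Subgroup.centralizer (B : Set X) : Subgroup X) : Set X) :=
    fun B hB => le_normalizer_inf hAG (le_normalizer_centralizer_of_comm A B hB.1)
  have part1 : (⨆ B ∈ cocyc A, G ⊓ Subgroup.centralizer (B : Set X)) = G := by
    apply le_antisymm
    · exact iSup₂_le (fun B _ => inf_le_left)
    · have htop : (⨆ B ∈ cocyc A, G ⊓ Subgroup.centralizer (B : Set X)).subgroupOf G = ⊤ := by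
        apply Cfsg.Agent.Lib.Helper62.eq_top_of_forall_sylow_le
        intro p _
        obtain ⟨P, hP⟩ := Cfsg.Agent.Lib.Helper24.exists_invariant_sylow (p := p) A G hAG hcop
          (Or.inl hAsolv)
        refine ⟨P, ?_⟩
        obtain ⟨Q, hQ⟩ : ∃ Q : Subgroup X, Q = (P : Subgroup ↥G).map G.subtype := ⟨_, rfl⟩
        rw [← hQ] at hP
        have hQG : Q ≤ G := by rw [hQ]; exact Subgroup.map_subtype_le _
        have hQp : IsPGroup p ↥Q := by rw [hQ]; exact P.2.map _
        have hnil : Group.IsNilpotent ↥Q := hQp.isNilpotent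
        have hcopQ : (Nat.card A).Coprime (Nat.card Q) :=
          Nat.Coprime.coprime_dvd_right (Subgroup.card_dvd_of_le hQG) hcop
        have h1 := nilpotent_step A (Nat.card Q) Q le_rfl hnil hP hcopQ
        have h2 : (⨆ B ∈ cocyc A, Q ⊓ Subgroup.centralizer (B : Set X)) ≤
            ⨆ B ∈ cocyc A, G ⊓ Subgroup.centralizer (B : Set X) :=
          iSup₂_mono (fun B _ => inf_le_inf_right _ hQG)
        intro x hx
        rw [Subgroup.mem_subgroupOf]
        apply h2
        apply h1
        rw [hQ]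
        exact ⟨x, hx, rfl⟩
      exact Subgroup.subgroupOf_eq_top.mp htop
  refine ⟨part1, ?_⟩
  -- part 2
  apply le_antisymm
  · exact iSup₂_le (fun B _ => Subgroup.commutator_mono inf_le_left le_rfl)
  · obtain ⟨K, hK⟩ : ∃ K : Subgroup X,
        K = ⨆ B ∈ cocyc A, ⁅G ⊓ Subgroup.centralizer (B : Set X), A⁆ := ⟨_, rfl⟩
    show ⁅G, A⁆ ≤ ⨆ B ∈ cocyc A, ⁅G ⊓ Subgroup.centralizer (B : Set X), A⁆
    rw [← hK]
    obtain ⟨C, hC⟩ : ∃ C : Subgroup X, C = G ⊓ Subgroup.centralizer (A : Set X) := ⟨_, rfl⟩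
    have hKle : ∀ B ∈ cocyc A, ⁅G ⊓ Subgroup.centralizer (B : Set X), A⁆ ≤ K := by
      intro B hB
      rw [hK]
      exact le_biSup (fun B : Subgroup X => ⁅G ⊓ Subgroup.centralizer (B : Set X), A⁆) hB
    have hGB : ∀ B ∈ cocyc A, G ⊓ Subgroup.centralizer (B : Set X) ≤ K ⊔ C := by
      intro B hB
      have hcopB : (Nat.card A).Coprime
          (Nat.card (G ⊓ Subgroup.centralizer (B : Set X) : Subgroup X)) :=
        Nat.Coprime.coprime_dvd_right (Subgroup.card_dvd_of_le inf_le_left) hcop
      have h1 := Cfsg.Agent.Lib.Helper24.commutator_sup_centralizer_eq A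
        (G ⊓ Subgroup.centralizer (B : Set X)) (hinvB B hB) hcopB (Or.inl hAsolv)
      rw [← h1]
      apply sup_le_sup (hKle B hB)
      rw [hC]
      exact inf_le_inf_right _ inf_le_left
    have hG : G ≤ K ⊔ C := by
      rw [← part1]
      exact iSup₂_le hGB
    have hAK : A ≤ Subgroup.normalizer (K : Set X) := by
      rw [hK]
      apply le_normalizer_biSup (fun B : Subgroup X => ⁅G ⊓ Subgroup.centralizer (B : Set X), A⁆)
      intro B hB
      exact le_normalizer_commutator' (hinvB B hB) hAA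
    have hCK : C ≤ Subgroup.normalizer (K : Set X) := by
      rw [hK]
      apply le_normalizer_biSup (fun B : Subgroup X => ⁅G ⊓ Subgroup.centralizer (B : Set X), A⁆)
      intro B hB
      have hCG : C ≤ Subgroup.normalizer (G : Set X) := by
        rw [hC]; exact inf_le_left.trans Subgroup.le_normalizer
      have hCB : C ≤ Subgroup.normalizer
          ((Subgroup.centralizer (B : Set X) : Subgroup X) : Set X) := by
        rw [hC]
        refine inf_le_right.trans ((Subgroup.centralizer_le ?_).trans Subgroup.le_normalizer)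
        exact hB.1
      have hCA : C ≤ Subgroup.normalizer (A : Set X) := by
        rw [hC]
        intro c hc
        rw [Subgroup.mem_normalizer_iff]
        intro a
        have hcc := Subgroup.mem_centralizer_iff.mp hc.2
        constructor
        · intro ha
          have : c * a * c⁻¹ = a := by
            rw [← hcc a ha]; simp
          rw [this]; exact ha
        · intro ha
          have h2 := hcc _ ha
          -- (c a c⁻¹) * c = c * (c a c⁻¹)  gives a = c a c⁻¹
          have : a = c * a * c⁻¹ := by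
            have h3 : c * a = c * (c * a * c⁻¹) := by
              rw [← h2]; simp
            exact mul_left_cancel h3
          rw [this]; exact ha
      exact le_normalizer_commutator' (le_normalizer_inf hCG hCB) hCA
    rw [Subgroup.commutator_le]
    intro g hg a ha
    have hg' : g ∈ ((K ⊔ C : Subgroup X) : Set X) := hG hg
    rw [Subgroup.coe_mul_of_right_le_normalizer_left _ _ hCK] at hg'
    obtain ⟨k, hk, c, hc, rfl⟩ := hg'
    have hca : c * a = a * c := by
      rw [hC] at hc
      exact (Subgroup.mem_centralizer_iff.mp hc.2 a ha).symm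
    have e : ⁅k * c, a⁆ = k * (a * k⁻¹ * a⁻¹) := by
      rw [commutatorElement_def]
      have : (k * c) * a * (k * c)⁻¹ * a⁻¹ = k * (c * a) * c⁻¹ * k⁻¹ * a⁻¹ := by group
      rw [this, hca]
      group
    rw [e]
    exact K.mul_mem hk (conj_mem_of_le_normalizer hAK ha (K.inv_mem hk))

end Cfsg.Agent.S3734
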