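import Cfsg.Statements.S0601
import Mathlib
import Cfsg.Agent.Lib.Helper10.FixGen
import Cfsg.Agent.Lib.Helper10.OmegaZ
import Cfsg.Agent.Lib.Helper10.Thompson

set_option autoImplicit false
open Cfsg

namespace Cfsg.Agent.S0601

open Cfsg.Agent.Lib.Helper10

/-- When O_p(G) contains its centralizer, the normal closure of Ω₁(Z(S)) is elementary abelian and G has no nontrivial normal p-subgroup modulo its centralizer. -/
theorem result {G : Type*} [Group G] [Finite G] {p : ℕ} [Fact p.Prime] (hc : Subgroup.centralizer (Cfsg.pCore p G : Set G) ≤ Cfsg.pCore p G) : (⨆ S : Sylow p G, Cfsg.omegaOne p (((S : Subgroup G)) ⊓ Subgroup.centralizer ((S : Subgroup G) : Set G))).Normal ∧ Cfsg.IsElementaryAbelian p (⨆ S : Sylow p G, Cfsg.omegaOne p (((S : Subgroup G)) ⊓ Subgroup.centralizer ((S : Subgroup G) : Set G))) ∧ ∀ D : Subgroup G, D.Normal → Subgroup.centralizer ((⨆ S : Sylow p G, Cfsg.omegaOne p (((S : Subgroup G)) ⊓ Subgroup.centralizer ((S : Subgroup G) : Set G)) : Subgroup G) : Set G) ≤ D → (∃ k : ℕ, (Subgroup.centralizer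 ((⨆ S : Sylow p G, Cfsg.omegaOne p (((S : Subgroup G)) ⊓ Subgroup.centralizer ((S : Subgroup G) : Set G)) : Subgroup G) : Set G)).relIndex D = p ^ k) → D = Subgroup.centralizer ((⨆ S : Sylow p G, Cfsg.omegaOne p (((S : Subgroup G)) ⊓ Subgroup.centralizer ((S : Subgroup G) : Set G)) : Subgroup G) : Set G) := by
  have hWn : (⨆ S : Sylow p G, Cfsg.omegaOne p (((S : Subgroup G)) ⊓
      Subgroup.centralizer ((S : Subgroup G) : Set G))).Normal := iSup_omegaZ_normal
  have hfix := iSup_omegaZ_le_iSup_fix (G := G) (p := p)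
  set W := ⨆ S : Sylow p G, Cfsg.omegaOne p (((S : Subgroup G)) ⊓
      Subgroup.centralizer ((S : Subgroup G) : Set G)) with hW
  haveI := hWn
  refine ⟨hWn, ?_, ?_⟩
  · set Q := Cfsg.pCore p G with hQ
    haveI hQn : Q.Normal := Subgroup.sSup_normal _ (fun _ h => h.1)
    have hQp : IsPGroup p Q := Sylow.sSup_of_normal _ (fun _ h => h.2) (fun _ h => h.1)
    have hA : IsElementaryAbelian p
        (Cfsg.omegaOne p (Q ⊓ Subgroup.centralizer (Q : Set G))) := by
      unfold Cfsg.omegaOne
      apply elemAb_closure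
      · intro x hx y hy
        have hxC : x ∈ Subgroup.centralizer (Q : Set G) := (Subgroup.mem_inf.mp hx.1).2
        have hyQ : y ∈ Q := (Subgroup.mem_inf.mp hy.1).1
        exact (Subgroup.mem_centralizer_iff.mp hxC y hyQ).symm
      · intro x hx; exact hx.2
    apply elemAb_of_le hA
    apply iSup_le
    intro S
    apply omegaOne_mono
    have hQS : Q ≤ S := hQp.le_sylow_of_normal S
    have hCC : Subgroup.centralizer ((S : Subgroup G) : Set G) ≤
        Subgroup.centralizer (Q : Set G) := Subgroup.centralizer_le hQS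
    exact le_inf (inf_le_right.trans (hCC.trans hc)) (inf_le_right.trans hCC)
  · rintro D hDn hCD ⟨k, hk⟩
    apply le_antisymm _ hCD
    haveI := hDn
    let π := QuotientGroup.mk' (Subgroup.centralizer (W : Set G))
    have hπ : Function.Surjective π := QuotientGroup.mk'_surjective _
    haveI : (D.map π).Normal := Subgroup.Normal.map hDn π hπ
    have hcard : Nat.card (D.map π) = p ^ k := by
      rw [← hk, ← Subgroup.relIndex_ker, QuotientGroup.ker_mk']
    have hbot : D.map π = ⊥ :=
      normal_pgroup_quot_centralizer_eq_bot W hfix (D.map π) (IsPGroup.of_card hcard)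
    have := (Subgroup.map_eq_bot_iff D).mp hbot
    rwa [QuotientGroup.ker_mk'] at this

end Cfsg.Agent.S0601
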