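import Cfsg.Statements.S0606
import Cfsg.Agent.Lib.Helper10.Thompson
import Cfsg.Agent.Lib.Helper10.Card

set_option autoImplicit false
open Cfsg

namespace Cfsg.Agent.S0606

open Cfsg.Agent.Lib.Helper10

theorem elemAb_sup {G : Type*} [Group G] {p : ℕ} {A B : Subgroup G} (hA : IsElementaryAbelian p A)
    (hB : IsElementaryAbelian p B) (hAB : ∀ a ∈ A, ∀ b ∈ B, a * b = b * a) :
    IsElementaryAbelian p (A ⊔ B) := by
  have h : A ⊔ B = Subgroup.closure ((A : Set G) ∪ (B : Set G)) := by
    rw [Subgroup.closure_union, Subgroup.closure_eq, Subgroup.closure_eq]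
  rw [h]
  apply elemAb_closure
  · rintro a (ha | ha) b (hb | hb)
    · exact elemAb_comm hA a ha b hb
    · exact hAB a ha b hb
    · exact (hAB b hb a ha).symm
    · exact elemAb_comm hB a ha b hb
  · rintro a (ha | ha)
    · exact hA.2 a ha
    · exact hB.2 a ha

/-- Elementary abelian p-subgroups of maximal order are best offenders on any normal elementary abelian p-subgroup. -/
theorem result {G : Type*} [Group G] [Finite G] {p : ℕ} [Fact p.Prime] (V : Subgroup G) [V.Normal] (hV : Cfsg.IsElementaryAbelian p V) (A : Subgroup G) (hA : A ∈ Cfsg.maxElementaryAbelianSubgroups p G) : Cfsg.IsBestOffenderOn p V A := by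
  have hAc := elemAb_comm hA.1
  refine ⟨?_, ?_, ?_⟩
  · intro B hBA
    set CB := V ⊓ Subgroup.centralizer (B : Set G) with hCB
    have hcomm : ∀ b ∈ B, ∀ c ∈ CB, b * c = c * b := by
      intro b hb c hc
      exact Subgroup.mem_centralizer_iff.mp hc.2 b hb
    have hnorm : B ≤ Subgroup.normalizer (CB : Set G) := by
      intro b hb
      rw [Subgroup.mem_normalizer_iff]
      intro c
      constructor
      · intro hc
        have : b * c * b⁻¹ = c := by rw [hcomm b hb c hc]; group
        rw [this]; exact hc
      · intro hc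
        have h1 : b * (b * c * b⁻¹) = (b * c * b⁻¹) * b := hcomm b hb _ hc
        have : c = b * c * b⁻¹ := by
          have : b * c = b * c * b⁻¹ * b := by group
          have h2 : b * (b * c * b⁻¹) = b * c := by rw [h1]; group
          exact mul_left_cancel (a := b) h2.symm
        rw [this]; exact hc
    have hprod := card_sup_mul_card_inf hnorm
    have hEA : IsElementaryAbelian p (B ⊔ CB) :=
      elemAb_sup (elemAb_of_le hA.1 hBA) (elemAb_of_le hV inf_le_left) hcomm
    have h1 : Nat.card ↥(B ⊔ CB) ≤ Nat.card A := hA.2 _ hEA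
    have h2 : B ⊓ CB ≤ V ⊓ Subgroup.centralizer (A : Set G) := by
      intro x hx
      refine ⟨hx.2.1, ?_⟩
      show x ∈ Subgroup.centralizer (A : Set G)
      rw [Subgroup.mem_centralizer_iff]
      intro a ha
      exact hAc a ha x (hBA hx.1)
    have h3 : Nat.card ↥(B ⊓ CB) ≤ Nat.card ↥(V ⊓ Subgroup.centralizer (A : Set G)) :=
      Subgroup.card_le_of_le h2
    rw [← hprod]
    exact Nat.mul_le_mul h1 h3
  · have : ⁅A, A⁆ = ⊥ := by
      rw [Subgroup.commutator_eq_bot_iff_le_centralizer]
      intro a ha
      rw [Subgroup.mem_centralizer_iff]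
      intro b hb
      exact hAc b hb a ha
    rw [this]
    exact bot_le
  · intro a ha
    rw [hA.1.2 a ha]
    exact Subgroup.one_mem _

end Cfsg.Agent.S0606
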