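import Cfsg.Statements.S0608
import Mathlib
import Cfsg.Agent.S0604
import Cfsg.Agent.Lib.Helper10.OmegaZ
import Cfsg.Agent.Lib.Helper10.ThompsonIn
import Cfsg.Agent.Lib.Helper10.SylowIn

set_option autoImplicit false
open Cfsg

namespace Cfsg.Agent.S0608

open Pointwise
open Cfsg.Agent.Lib.Helper10

/-- With trivial p'-core, Thompson factorizability is equivalent to J(G) centralizing the subgroup generated by all Ω₁(Z(S)), S Sylow. -/
theorem result {G : Type*} [Group G] [Finite G] {p : ℕ} [Fact p.Prime] (hO : Cfsg.pPrimeCore p G = ⊥) : Cfsg.IsThompsonFactorizable p G ↔ Cfsg.thompsonSubgroup p G ≤ Subgroup.centralizer ((⨆ S : Sylow p G, Cfsg.omegaOne p (((S : Subgroup G)) ⊓ Subgroup.centralizer ((S : Subgroup G) : Set G)) : Subgroup G) : Set G) := by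
  have hWn : (⨆ S : Sylow p G, Cfsg.omegaOne p (((S : Subgroup G)) ⊓
      Subgroup.centralizer ((S : Subgroup G) : Set G))).Normal := iSup_omegaZ_normal
  have hle : ∀ S : Sylow p G, Cfsg.omegaOne p (((S : Subgroup G)) ⊓
      Subgroup.centralizer ((S : Subgroup G) : Set G)) ≤ ⨆ S : Sylow p G, Cfsg.omegaOne p
      (((S : Subgroup G)) ⊓ Subgroup.centralizer ((S : Subgroup G) : Set G)) := fun S =>
    le_iSup (fun S : Sylow p G => Cfsg.omegaOne p (((S : Subgroup G)) ⊓
      Subgroup.centralizer ((S : Subgroup G) : Set G))) S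
  set W := ⨆ S : Sylow p G, Cfsg.omegaOne p (((S : Subgroup G)) ⊓
      Subgroup.centralizer ((S : Subgroup G) : Set G)) with hW
  haveI := hWn
  constructor
  · intro hTF
    rw [Cfsg.Agent.S0604.result (G := G) (p := p)]
    apply iSup_le
    intro S
    rw [Subgroup.le_centralizer_iff]
    apply iSup_le
    intro T
    obtain ⟨g, rfl⟩ := MulAction.exists_smul_eq G S T
    intro x hx
    -- z = g⁻¹ x g lies in Ω₁(Z(S))
    have hz : g⁻¹ * x * g ∈ Cfsg.omegaOne p (((S : Subgroup G)) ⊓
        Subgroup.centralizer ((S : Subgroup G) : Set G)) := by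
      have h1 := map_conj_omegaZ_le g⁻¹ (g • S) ⟨x, hx, rfl⟩
      rw [inv_smul_smul] at h1
      simpa using h1
    obtain ⟨x₀, hx₀, c, hc, n, hn, hg⟩ := hTF S g⁻¹
    rw [hO, Subgroup.mem_bot] at hx₀
    subst hx₀
    rw [one_mul] at hg
    set z := g⁻¹ * x * g with hzdef
    have hzc : z * c = c * z := Subgroup.mem_centralizer_iff.mp hc z hz
    have hxz : x = n⁻¹ * z * n := by
      have h1 : x = g * z * g⁻¹ := by rw [hzdef]; group
      have h2 : g = n⁻¹ * c⁻¹ := by
        have : g = (g⁻¹)⁻¹ := (inv_inv g).symm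
        rw [this, hg]; group
      rw [h1, hg, h2]
      calc n⁻¹ * c⁻¹ * z * (c * n) = n⁻¹ * (c⁻¹ * (z * c)) * n := by group
        _ = n⁻¹ * (c⁻¹ * (c * z)) * n := by rw [hzc]
        _ = n⁻¹ * z * n := by group
    rw [Subgroup.mem_centralizer_iff]
    intro j hj
    have hj' : n * j * n⁻¹ ∈ Cfsg.thompsonSubgroupOf p (S : Subgroup G) :=
      (Subgroup.mem_normalizer_iff.mp hn j).mp hj
    have hjS : n * j * n⁻¹ ∈ (S : Subgroup G) := thompsonSubgroupOf_le_self p _ hj'
    have hzC : z ∈ Subgroup.centralizer ((S : Subgroup G) : Set G) :=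
      omegaZ_le_centralizer (S : Subgroup G) hz
    have h3 : (n * j * n⁻¹) * z = z * (n * j * n⁻¹) := Subgroup.mem_centralizer_iff.mp hzC _ hjS
    rw [hxz]
    calc j * (n⁻¹ * z * n) = n⁻¹ * ((n * j * n⁻¹) * z) * n := by group
      _ = n⁻¹ * (z * (n * j * n⁻¹)) * n := by rw [h3]
      _ = n⁻¹ * z * n * j := by group
  · intro hJ S g
    set C := Subgroup.centralizer (W : Set G) with hC
    haveI hCn : C.Normal := by rw [hC]; infer_instance
    have hJS : ∀ T : Sylow p G, Cfsg.thompsonSubgroupOf p (T : Subgroup G) ≤ C := by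
      intro T
      refine le_trans ?_ hJ
      rw [Cfsg.Agent.S0604.result (G := G) (p := p)]
      exact le_iSup (fun S : Sylow p G => Cfsg.thompsonSubgroupOf p (S : Subgroup G)) T
    obtain ⟨c, hcC, hconj⟩ := exists_conj_inf_sylow C S g
    have hR1 : Cfsg.thompsonSubgroupOf p (C ⊓ (S : Subgroup G)) =
        Cfsg.thompsonSubgroupOf p (S : Subgroup G) :=
      thompsonSubgroupOf_eq_of_le p (le_inf (hJS S) (thompsonSubgroupOf_le_self p _)) inf_le_right
    have hR2 : Cfsg.thompsonSubgroupOf p (C ⊓ ((g • S : Sylow p G) : Subgroup G)) =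
        Cfsg.thompsonSubgroupOf p ((g • S : Sylow p G) : Subgroup G) :=
      thompsonSubgroupOf_eq_of_le p (le_inf (hJS (g • S)) (thompsonSubgroupOf_le_self p _))
        inf_le_right
    have hE1 : MulAut.conj c • Cfsg.thompsonSubgroupOf p (C ⊓ (S : Subgroup G)) =
        Cfsg.thompsonSubgroupOf p (MulAut.conj c • (C ⊓ (S : Subgroup G))) :=
      map_thompsonSubgroupOf p _ (MulAut.conj c)
    have hE2 : MulAut.conj g • Cfsg.thompsonSubgroupOf p (S : Subgroup G) =
        Cfsg.thompsonSubgroupOf p (MulAut.conj g • (S : Subgroup G)) :=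
      map_thompsonSubgroupOf p _ (MulAut.conj g)
    have hkey : MulAut.conj c • Cfsg.thompsonSubgroupOf p (S : Subgroup G) =
        MulAut.conj g • Cfsg.thompsonSubgroupOf p (S : Subgroup G) := by
      rw [hE2, ← Sylow.coe_subgroup_smul, ← hR2, ← hconj, ← hE1, hR1]
    refine ⟨1, Subgroup.one_mem _, c, ?_, c⁻¹ * g, ?_, by group⟩
    · exact Subgroup.centralizer_le (hle S) hcC
    · apply Subgroup.mem_normalizer_fintype
      intro h hh
      have h1 : g * h * g⁻¹ ∈ MulAut.conj g • Cfsg.thompsonSubgroupOf p (S : Subgroup G) := by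
        rw [mem_conj_smul_iff']
        have : g⁻¹ * (g * h * g⁻¹) * g = h := by group
        rw [this]; exact hh
      rw [← hkey, mem_conj_smul_iff'] at h1
      have e : c⁻¹ * g * h * (c⁻¹ * g)⁻¹ = c⁻¹ * (g * h * g⁻¹) * c := by group
      rw [e]; exact h1

end Cfsg.Agent.S0608
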