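import Cfsg.Statements.S0618
import Mathlib
import Cfsg.Agent.S0601
import Cfsg.Agent.S0606
import Cfsg.Agent.S0608
import Cfsg.Agent.Lib.Helper10.Faithful
import Cfsg.Agent.Lib.Helper10.ThompsonSub
import Cfsg.Agent.Lib.Helper10.OmegaZ
import Cfsg.Agent.Lib.Helper35.PStabSection
import Cfsg.Agent.Lib.Helper76.PSolvable

set_option autoImplicit false
open Cfsg

namespace Cfsg.Agent.S0618

open scoped commutatorElement
open Cfsg.Agent.Lib.Helper10 Cfsg.Agent.Lib.Helper10.FFHyp

theorem thompsonSubgroup_normal {G : Type*} [Group G] (p : ℕ) :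
    (thompsonSubgroup p G).Normal := by
  refine ⟨fun n hn g => ?_⟩
  have h1 : (thompsonSubgroup p G).map (MulAut.conj g).toMonoidHom ≤ thompsonSubgroup p G := by
    rw [Subgroup.map_le_iff_le_comap]
    unfold thompsonSubgroup
    apply sSup_le
    intro A hA
    rw [← Subgroup.map_le_iff_le_comap]
    exact le_sSup (maxElemAb_map_equiv hA (MulAut.conj g))
  have h2 : (MulAut.conj g).toMonoidHom n ∈ thompsonSubgroup p G :=
    h1 (Subgroup.mem_map_of_mem _ hn)
  simpa using h2

theorem centralizer_closure_eq {G : Type*} [Group G] (S : Set G) :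
    Subgroup.centralizer ((Subgroup.closure S : Subgroup G) : Set G) = Subgroup.centralizer S := by
  apply le_antisymm
  · exact Subgroup.centralizer_le Subgroup.subset_closure
  · intro x hx
    rw [Subgroup.mem_centralizer_iff]
    intro h hh
    have h1 : Subgroup.closure S ≤ Subgroup.centralizer {x} := by
      rw [Subgroup.closure_le]
      intro s hs
      rw [SetLike.mem_coe, Subgroup.mem_centralizer_iff]
      intro y hy
      rw [Set.mem_singleton_iff] at hy
      subst hy
      exact ((Subgroup.mem_centralizer_iff.mp hx) s hs).symm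
    have h2 := Subgroup.mem_centralizer_iff.mp (h1 hh) x rfl
    exact h2.symm

theorem centralizer_iSup_set_eq {G : Type*} [Group G] {ι : Sort*} (K : ι → Subgroup G) :
    Subgroup.centralizer (⨆ i, ((K i : Subgroup G) : Set G)) =
      Subgroup.centralizer ((⨆ i, K i : Subgroup G) : Set G) := by
  rw [Subgroup.iSup_eq_closure, centralizer_closure_eq, Set.iSup_eq_iUnion]

/-- if every normal `D ≥ C` of `p`-power index over `C` equals `C`, then `O_p(G/C) = 1` -/
theorem pCore_quotient_eq_bot {G : Type*} [Group G] [Finite G] {p : ℕ} [Fact p.Prime]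
    (C : Subgroup G) [C.Normal]
    (hD : ∀ D : Subgroup G, D.Normal → C ≤ D → (∃ k : ℕ, C.relIndex D = p ^ k) → D = C) :
    pCore p (G ⧸ C) = ⊥ := by
  haveI : (pCore p (G ⧸ C)).Normal := Cfsg.Agent.Lib.Helper22.pCore_normal' p _
  have h1 := hD ((pCore p (G ⧸ C)).comap (QuotientGroup.mk' C)) (Subgroup.Normal.comap inferInstance _)
    (by
      intro x hx
      rw [Subgroup.mem_comap, QuotientGroup.mk'_apply, (QuotientGroup.eq_one_iff x).mpr hx]
      exact Subgroup.one_mem _)
    (Cfsg.Agent.Lib.Helper35.PStab.relIndex_comap_pCore C)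
  rw [eq_bot_iff]
  intro x hx
  obtain ⟨g, rfl⟩ := QuotientGroup.mk_surjective x
  have hg : g ∈ (pCore p (G ⧸ C)).comap (QuotientGroup.mk' C) := hx
  rw [h1] at hg
  rw [Subgroup.mem_bot]
  exact (QuotientGroup.eq_one_iff g).mpr hg

/-- A p-separable group with trivial p'-core in which the Thompson factorization fails has p = 2 or 3, and J(G) induces on the normal closure of Ω₁(Z(S)) a group containing a normal SL(2, p). -/
theorem result {G : Type*} [Group G] [Finite G] {p : ℕ} [Fact p.Prime] (hsep : Cfsg.IsPSolvable p G) (hO : Cfsg.pPrimeCore p G = ⊥) (hnf : ¬ Cfsg.IsThompsonFactorizable p G) : (p = 2 ∨ p = 3) ∧ ∃ E : Subgroup G, Subgroup.centralizer ((⨆ S : Sylow p G, Cfsg.omegaOne p ((S : Subgroup G) ⊓ Subgroup.centralizer ((S : Subgroup G) : Set G))) : Set G) ≤ E ∧ E ≤ Cfsg.thompsonSubgroup p G ⊔ Subgroup.centralizer ((⨆ S : Sylow p G, Cfsg.omegaOne p ((S : Subgroup G) ⊓ Subgroup.centralizer ((S : Subgroup G) : Set G))) : Set G) ∧ Cfsg.thompsonSubgroup p G ⊔ Subgroup.centralizer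 ((⨆ S : Sylow p G, Cfsg.omegaOne p ((S : Subgroup G) ⊓ Subgroup.centralizer ((S : Subgroup G) : Set G))) : Set G) ≤ Subgroup.normalizer (E : Set G) ∧ ∃ hn : ((Subgroup.centralizer ((⨆ S : Sylow p G, Cfsg.omegaOne p ((S : Subgroup G) ⊓ Subgroup.centralizer ((S : Subgroup G) : Set G))) : Set G)).subgroupOf E).Normal, Nonempty ((↥E ⧸ (Subgroup.centralizer ((⨆ S : Sylow p G, Cfsg.omegaOne p ((S : Subgroup G) ⊓ Subgroup.centralizer ((S : Subgroup G) : Set G))) : Set G)).subgroupOf E) ≃* Matrix.SpecialLinearGroup (Fin 2) (ZMod p)) := by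
  have hc := Cfsg.Agent.Lib.Helper76.centralizer_pCore_le_of_isPSolvable hsep hO
  obtain ⟨hWn, hWe, hWD⟩ := Cfsg.Agent.S0601.result (G := G) (p := p) hc
  have hJC := (not_congr (Cfsg.Agent.S0608.result (G := G) (p := p) hO)).mp hnf
  obtain ⟨W, hW⟩ : ∃ W : Subgroup G, W = ⨆ S : Sylow p G,
      omegaOne p ((S : Subgroup G) ⊓ Subgroup.centralizer ((S : Subgroup G) : Set G)) := ⟨_, rfl⟩
  rw [centralizer_iSup_set_eq]
  rw [← hW] at hWn hWe hWD hJC ⊢
  haveI := hWn
  haveI hJn : (thompsonSubgroup p G).Normal := thompsonSubgroup_normal p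
  have hOq : pCore p (G ⧸ Subgroup.centralizer (W : Set G)) = ⊥ := pCore_quotient_eq_bot _ hWD
  have hff := ffHyp_map_holπ W hWe hsep hOq (thompsonSubgroup p G)
  set H' : Subgroup (Hol W) := (thompsonSubgroup p G).map (holπ W) with hH'
  -- generated by best offenders
  have hBOA : ∀ A ∈ maxElementaryAbelianSubgroups p G,
      A.map (holπ W) ≤ H' ∧ IsBestOffenderOn p (holV W) (A.map (holπ W)) := by
    intro A hA
    exact ⟨Subgroup.map_mono (maxElemAb_le_thompson hA),
      isBestOffenderOn_map_holπ W (Cfsg.Agent.S0606.result W hWe A hA)⟩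
  have hS3 : H' = ⨆ A : {A : Subgroup (Hol W) // A ≤ H' ∧ IsBestOffenderOn p (holV W) A},
      (A : Subgroup (Hol W)) := by
    apply le_antisymm
    · rw [hH', Subgroup.map_le_iff_le_comap]
      unfold thompsonSubgroup
      apply sSup_le
      intro A hA
      rw [← Subgroup.map_le_iff_le_comap]
      exact le_iSup (fun A : {A : Subgroup (Hol W) // A ≤ H' ∧ IsBestOffenderOn p (holV W) A} =>
        (A : Subgroup (Hol W))) ⟨A.map (holπ W), hBOA A hA⟩
    · exact iSup_le (fun A => A.2.1)
  have hH1 : H' ≠ ⊥ := by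
    intro hbot
    apply hJC
    intro x hx
    rw [← holπ_eq_one_iff W, ← Subgroup.mem_bot, ← hbot]
    exact Subgroup.mem_map_of_mem _ hx
  -- a minimal best offender
  obtain ⟨A', hA'1⟩ : ∃ A' : {A : Subgroup (Hol W) // A ≤ H' ∧ IsBestOffenderOn p (holV W) A},
      (A' : Subgroup (Hol W)) ≠ ⊥ := by
    by_contra hcon
    push Not at hcon
    apply hH1
    rw [hS3, eq_bot_iff]
    exact iSup_le (fun A' => (hcon A').le)
  obtain ⟨B, hBA', hB⟩ := exists_isMinBO A'.2.2 hA'1
  have hBH : B ≤ H' := hBA'.trans A'.2.1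
  obtain ⟨hp23, hstr, -⟩ := hff.ff_structure hS3 hH1
    (fun E => ∃ A, A ≤ H' ∧ IsMinBO p (holV W) A ∧ E = ffE p H' A) (fun E => Iff.rfl)
  obtain ⟨hE'n, ⟨e⟩, -⟩ := hstr ⟨ffE p H' B, B, hBH, hB, rfl⟩
  simp only at hE'n e
  have hE'H : ffE p H' B ≤ H' := FFHyp.ffE_le hBH
  set E' : Subgroup (Hol W) := ffE p H' B with hE'
  refine ⟨hp23, E'.comap (holπ W), ?_, ?_, ?_, ?_⟩
  · intro x hx
    rw [Subgroup.mem_comap, (holπ_eq_one_iff W).mpr hx]
    exact Subgroup.one_mem _
  · intro x hx
    obtain ⟨j, hj, hjx⟩ := hE'H (Subgroup.mem_comap.mp hx)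
    have h1 : j⁻¹ * x ∈ Subgroup.centralizer (W : Set G) := by
      rw [← holπ_eq_one_iff W, map_mul, map_inv, hjx]; group
    have : x = j * (j⁻¹ * x) := by group
    rw [this]
    exact Subgroup.mul_mem _ (Subgroup.mem_sup_left hj) (Subgroup.mem_sup_right h1)
  · apply sup_le
    · intro j hj
      apply Subgroup.le_normalizer_comap (holπ W)
      rw [Subgroup.mem_comap]
      exact hE'n (Subgroup.mem_map_of_mem _ hj)
    · refine le_trans ?_ Subgroup.le_normalizer
      intro x hx
      rw [Subgroup.mem_comap, (holπ_eq_one_iff W).mpr hx]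
      exact Subgroup.one_mem _
  · refine ⟨inferInstance, ?_⟩
    let f : ↥(E'.comap (holπ W)) →* ↥E' :=
      ((holπ W).comp (E'.comap (holπ W)).subtype).codRestrict E' (fun x => x.2)
    have hf : Function.Surjective f := by
      rintro ⟨y, hy⟩
      obtain ⟨j, -, hjy⟩ := hE'H hy
      refine ⟨⟨j, ?_⟩, ?_⟩
      · rw [Subgroup.mem_comap, hjy]; exact hy
      · apply Subtype.ext
        exact hjy
    have hker : f.ker = (Subgroup.centralizer (W : Set G)).subgroupOf (E'.comap (holπ W)) := by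
      ext x
      rw [MonoidHom.mem_ker, Subgroup.mem_subgroupOf, ← holπ_eq_one_iff W]
      constructor
      · intro h
        exact congrArg Subtype.val h
      · intro h
        apply Subtype.ext
        exact h
    exact ⟨((QuotientGroup.quotientMulEquivOfEq hker.symm).trans
      (QuotientGroup.quotientKerEquivOfSurjective f hf)).trans e⟩
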