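import Cfsg.Statements.S0833
import Mathlib
set_option autoImplicit false
open TensorProduct Module

namespace Cfsg.Agent.S0833
variable {F U W : Type*} [Field F] [AddCommGroup U] [Module F U] [FiniteDimensional F U] [AddCommGroup W] [Module F W] [FiniteDimensional F W]

attribute [local ext] TensorProduct.ext in
theorem tmul_symm_of_alt (B₁ : LinearMap.BilinForm F U) (B₂ : LinearMap.BilinForm F W)
    (hA₁ : B₁.IsAlt) (hA₂ : B₂.IsAlt) : (B₁.tmul B₂).IsSymm := by
  rw [LinearMap.isSymm_iff_eq_flip]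
  ext x₁ x₂ y₁ y₂
  show B₂ x₂ y₂ • B₁ x₁ y₁ = B₂ y₂ x₂ • B₁ y₁ x₁
  rw [← hA₁.neg_eq y₁ x₁, ← hA₂.neg_eq y₂ x₂]
  simp

theorem tmul_nondegenerate (B₁ : LinearMap.BilinForm F U) (B₂ : LinearMap.BilinForm F W)
    (h₁ : B₁.Nondegenerate) (h₂ : B₂.Nondegenerate) : (B₁.tmul B₂).Nondegenerate := by
  classical
  let b := Module.finBasis F U
  let c := Module.finBasis F W
  refine (LinearMap.BilinForm.nondegenerate_iff_det_ne_zero (b.tensorProduct c)).mpr ?_
  have hM : LinearMap.BilinForm.toMatrix (b.tensorProduct c) (B₁.tmul B₂)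
      = Matrix.kroneckerMap (· * ·) (LinearMap.BilinForm.toMatrix b B₁) (LinearMap.BilinForm.toMatrix c B₂) := by
    ext ⟨i, j⟩ ⟨i', j'⟩
    simp [LinearMap.BilinForm.toMatrix_apply, Basis.tensorProduct_apply, mul_comm]
  rw [hM]
  have := Matrix.det_kronecker (LinearMap.BilinForm.toMatrix b B₁) (LinearMap.BilinForm.toMatrix c B₂)
  unfold Matrix.kronecker at this
  rw [this]
  exact mul_ne_zero (pow_ne_zero _ ((LinearMap.BilinForm.nondegenerate_iff_det_ne_zero b).mp h₁))
    (pow_ne_zero _ ((LinearMap.BilinForm.nondegenerate_iff_det_ne_zero c).mp h₂))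
end Cfsg.Agent.S0833

namespace Cfsg.Agent.S0833
variable {F V : Type*} [Field F] [AddCommGroup V] [Module F V] [FiniteDimensional F V]

theorem lagr_step (B : LinearMap.BilinForm F V) (hB : B.Nondegenerate) (hA : B.IsAlt) (k d : ℕ)
    (hV : finrank F V = 2 * k) (L : Submodule F V) (hti : ∀ x ∈ L, ∀ y ∈ L, B x y = 0)
    (hd : finrank F L = d) (hdk : d < k) :
    ∃ L' : Submodule F V, (∀ x ∈ L', ∀ y ∈ L', B x y = 0) ∧ finrank F L' = d + 1 := by
  have hLle : L ≤ B.orthogonal L := fun x hx y hy => hti y hy x hx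
  have hfr : finrank F (B.orthogonal L) = 2 * k - d := by
    rw [LinearMap.BilinForm.finrank_orthogonal hB L, hV, hd]
  have hlt : L < B.orthogonal L := by
    apply lt_of_le_of_ne hLle
    intro h
    have := congrArg (fun S : Submodule F V => finrank F S) h
    simp only [hfr, hd] at this
    omega
  obtain ⟨v, hv, hvL⟩ := SetLike.exists_of_lt hlt
  have hv0 : v ≠ 0 := fun h => hvL (h ▸ L.zero_mem)
  refine ⟨L ⊔ Submodule.span F {v}, ?_, ?_⟩
  · intro x hx y hy
    obtain ⟨a, ha, s, hs, rfl⟩ := Submodule.mem_sup.mp hx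
    obtain ⟨a', ha', s', hs', rfl⟩ := Submodule.mem_sup.mp hy
    obtain ⟨c, rfl⟩ := Submodule.mem_span_singleton.mp hs
    obtain ⟨c', rfl⟩ := Submodule.mem_span_singleton.mp hs'
    have h1 : B a v = 0 := hv a ha
    have h2 : B a' v = 0 := hv a' ha'
    have h3 : B v a' = 0 := by rw [← hA.neg_eq, h2, neg_zero]
    have h4 : B v v = 0 := hA v
    simp [hti a ha a' ha', h1, h3, h4]
  · have hdisj : Disjoint L (Submodule.span F {v}) :=
      (Submodule.disjoint_span_singleton' hv0).mpr hvL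
    have := Submodule.finrank_sup_add_finrank_inf_eq L (Submodule.span F {v})
    rw [hdisj.eq_bot, finrank_bot, add_zero, finrank_span_singleton hv0, hd] at this
    exact this

theorem exists_lagrangian (B : LinearMap.BilinForm F V) (hB : B.Nondegenerate) (hA : B.IsAlt) (k : ℕ)
    (hV : finrank F V = 2 * k) :
    ∃ L : Submodule F V, (∀ x ∈ L, ∀ y ∈ L, B x y = 0) ∧ finrank F L = k := by
  have : ∀ d, d ≤ k → ∃ L : Submodule F V, (∀ x ∈ L, ∀ y ∈ L, B x y = 0) ∧ finrank F L = d := by
    intro d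
    induction d with
    | zero =>
      intro _
      refine ⟨⊥, ?_, finrank_bot F V⟩
      intro x hx y _
      rw [(Submodule.mem_bot F).mp hx]; simp
    | succ d ih =>
      intro hd
      obtain ⟨L, hti, hL⟩ := ih (by omega)
      exact lagr_step B hB hA k d hV L hti hL (by omega)
  exact this k le_rfl
end Cfsg.Agent.S0833

namespace Cfsg.Agent.S0833
variable {F U W : Type*} [Field F] [AddCommGroup U] [Module F U] [FiniteDimensional F U] [AddCommGroup W] [Module F W] [FiniteDimensional F W]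

theorem exists_isotropic (B₁ : LinearMap.BilinForm F U) (B₂ : LinearMap.BilinForm F W)
    (L : Submodule F U) (hti : ∀ x ∈ L, ∀ y ∈ L, B₁ x y = 0) :
    ∃ X : Submodule F (TensorProduct F U W), finrank F X = finrank F L * finrank F W ∧
      ∀ x ∈ X, ∀ y ∈ X, (B₁.tmul B₂) x y = 0 := by
  refine ⟨LinearMap.range (LinearMap.rTensor W L.subtype), ?_, ?_⟩
  · rw [LinearMap.finrank_range_of_inj
      (Module.Flat.rTensor_preserves_injective_linearMap L.subtype L.injective_subtype),
      Module.finrank_tensorProduct]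
  · rintro _ ⟨x, rfl⟩ _ ⟨y, rfl⟩
    induction x using TensorProduct.induction_on with
    | zero => simp
    | tmul u w =>
      induction y using TensorProduct.induction_on with
      | zero => simp
      | tmul u' w' =>
        simp only [LinearMap.rTensor_tmul, Submodule.subtype_apply]
        show B₂ w w' • B₁ u u' = 0
        rw [hti u u.2 u' u'.2, smul_zero]
      | add y₁ y₂ h₁ h₂ => simp only [map_add, h₁, h₂, add_zero]
    | add x₁ x₂ h₁ h₂ => simp only [map_add, LinearMap.add_apply, h₁, h₂, add_zero]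

/-- If B₁, B₂ are non-degenerate alternating forms on U (dim 2k) and W (dim 2l), then B₁ ⊗ B₂ on U ⊗ W is symmetric, non-degenerate, and vanishes identically on some subspace of dimension 2kl (half of dim U ⊗ W). -/
theorem result {F U W : Type*} [Field F] [Fintype F] [AddCommGroup U] [Module F U] [FiniteDimensional F U] [AddCommGroup W] [Module F W] [FiniteDimensional F W] (B₁ : LinearMap.BilinForm F U) (B₂ : LinearMap.BilinForm F W) (h₁ : B₁.Nondegenerate) (h₂ : B₂.Nondegenerate) (hA₁ : B₁.IsAlt) (hA₂ : B₂.IsAlt) (k l : ℕ) (hU : Module.finrank F U = 2 * k) (hW : Module.finrank F W = 2 * l) : (B₁.tmul B₂).IsSymm ∧ (B₁.tmul B₂).Nondegenerate ∧ (∃ X : Submodule F (TensorProduct F U W), Module.finrank F X = 2 * k * l ∧ ∀ x ∈ X, ∀ y ∈ X, (B₁.tmul B₂) x y = 0) := by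
  refine ⟨tmul_symm_of_alt B₁ B₂ hA₁ hA₂, tmul_nondegenerate B₁ B₂ h₁ h₂, ?_⟩
  obtain ⟨L, hti, hL⟩ := exists_lagrangian B₁ h₁ hA₁ k hU
  obtain ⟨X, hX, hX0⟩ := exists_isotropic B₁ B₂ L hti
  refine ⟨X, ?_, hX0⟩
  rw [hX, hL, hW]; ring

end Cfsg.Agent.S0833
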