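import Cfsg.Statements.S3059

set_option autoImplicit false
open Cfsg
open scoped Pointwise

namespace Cfsg.Agent.S3059

variable {G : Type*} [Group G] [Finite G] (p : ℕ) [Fact p.Prime] (H : Subgroup G)

omit [Finite G] in
/-- In a strongly `p`-embedded subgroup, normalizers of nontrivial `p`-subgroups stay inside. -/
theorem normalizer_le
    (hse : ∀ g : G, g ∉ H → ¬ p ∣ Nat.card ↥(H ⊓ H.map (MulAut.conj g).toMonoidHom))
    (Q : Subgroup G) (hQH : Q ≤ H) (hQ : IsPGroup p Q) (hQ1 : Q ≠ ⊥) :
    Subgroup.normalizer (Q : Set G) ≤ H := by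
  intro g hg
  by_contra hgH
  apply hse g hgH
  have hle : Q ≤ H ⊓ H.map (MulAut.conj g).toMonoidHom := by
    refine le_inf hQH ?_
    intro q hq
    rw [Subgroup.mem_map]
    refine ⟨g⁻¹ * q * g, hQH ((Subgroup.mem_normalizer_iff''.1 hg q).1 hq), ?_⟩
    simp [MulAut.conj_apply, mul_assoc]
  have h1 : Nat.card Q ∣ Nat.card ↥(H ⊓ H.map (MulAut.conj g).toMonoidHom) :=
    Subgroup.card_dvd_of_le hle
  have h2 : p ∣ Nat.card Q := by
    rcases hQ.card_eq_or_dvd with h | h
    · exact absurd (Subgroup.card_eq_one.1 h) hQ1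
    · exact h
  exact h2.trans h1

/-- Centralizers of nontrivial `p`-elements of `H` lie in `H`. -/
theorem centralizer_le
    (hse : ∀ g : G, g ∉ H → ¬ p ∣ Nat.card ↥(H ⊓ H.map (MulAut.conj g).toMonoidHom))
    (x : G) (hxH : x ∈ H) (hx1 : x ≠ 1) (hx : IsPGroup p (Subgroup.zpowers x)) :
    Subgroup.centralizer ({x} : Set G) ≤ H := by
  have h1 : Subgroup.centralizer ({x} : Set G) ≤
      Subgroup.normalizer ((Subgroup.zpowers x : Subgroup G) : Set G) := by
    rw [← Subgroup.centralizer_closure, ← Subgroup.zpowers_eq_closure]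
    exact Subgroup.centralizer_le_normalizer _
  refine h1.trans (normalizer_le p H hse _ ?_ hx ?_)
  · rw [Subgroup.zpowers_le]; exact hxH
  · rw [Ne, Subgroup.zpowers_eq_bot]; exact hx1

/-- A strongly `p`-embedded subgroup contains a Sylow `p`-subgroup of the whole group. -/
theorem exists_sylow_le (hpH : p ∣ Nat.card H)
    (hse : ∀ g : G, g ∉ H → ¬ p ∣ Nat.card ↥(H ⊓ H.map (MulAut.conj g).toMonoidHom)) :
    ∃ S : Sylow p G, (S : Subgroup G) ≤ H := by
  obtain ⟨x, hx⟩ := exists_prime_orderOf_dvd_card' (G := H) p hpH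
  have hxG : orderOf (x : G) = p := by rw [Subgroup.orderOf_coe]; exact hx
  have hx1 : (x : G) ≠ 1 := by
    intro h
    rw [h, orderOf_one] at hxG
    exact (Fact.out : p.Prime).one_lt.ne hxG
  have hxp : IsPGroup p (Subgroup.zpowers (x : G)) := by
    apply IsPGroup.of_card (n := 1)
    rw [Nat.card_zpowers, hxG, pow_one]
  obtain ⟨S, hS⟩ := hxp.exists_le_sylow
  have hxS : (x : G) ∈ (S : Subgroup G) := hS (Subgroup.mem_zpowers _)
  have hnt : Nontrivial (S : Subgroup G) := ⟨⟨⟨x, hxS⟩, 1, fun h => hx1 (congrArg Subtype.val h)⟩⟩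
  have hcnt : Nontrivial (Subgroup.center (S : Subgroup G)) := S.2.center_nontrivial
  obtain ⟨z, hz⟩ := exists_ne (1 : Subgroup.center (S : Subgroup G))
  have hzG1 : ((z : (S : Subgroup G)) : G) ≠ 1 := by
    intro h
    apply hz
    ext
    exact h
  have hzc : ∀ s : (S : Subgroup G), s * (z : (S : Subgroup G)) = z * s := fun s =>
    (Subgroup.mem_center_iff.1 z.2 s)
  -- z centralizes x, so z ∈ H
  have hzH : ((z : (S : Subgroup G)) : G) ∈ H := by
    apply centralizer_le p H hse (x : G) x.2 hx1 hxp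
    rw [Subgroup.mem_centralizer_singleton_iff]
    have := hzc ⟨x, hxS⟩
    exact (congrArg Subtype.val this).symm
  have hzp : IsPGroup p (Subgroup.zpowers ((z : (S : Subgroup G)) : G)) := by
    apply S.2.to_le
    rw [Subgroup.zpowers_le]
    exact (z : (S : Subgroup G)).2
  refine ⟨S, fun s hs => ?_⟩
  apply centralizer_le p H hse _ hzH hzG1 hzp
  rw [Subgroup.mem_centralizer_singleton_iff]
  have := hzc ⟨s, hs⟩
  exact congrArg Subtype.val this

/-- The quotient of `N` by the subgroup generated by its `p'`-elements is a `p`-group; hence a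
Sylow `p`-subgroup together with the `p'`-elements generates `N`. -/
theorem sylow_sup_eq_top (N : Subgroup G) (P : Sylow p N) (K : Subgroup N) [K.Normal]
    (hK : ∀ n : N, (orderOf n).Coprime p → n ∈ K) : (P : Subgroup N) ⊔ K = ⊤ := by
  have hp : p.Prime := Fact.out
  have hquot : IsPGroup p (N ⧸ K) := by
    intro g
    obtain ⟨n, rfl⟩ := QuotientGroup.mk_surjective g
    have ho : orderOf n ≠ 0 := (orderOf_pos n).ne'
    obtain ⟨k, m, hm, hkm⟩ := Nat.exists_eq_pow_mul_and_not_dvd ho p hp.ne_one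
    refine ⟨k, ?_⟩
    rw [← QuotientGroup.mk_pow, QuotientGroup.eq_one_iff]
    apply hK
    rw [orderOf_pow, hkm]
    have hg : Nat.gcd (p ^ k * m) (p ^ k) = p ^ k := Nat.gcd_eq_right (Dvd.intro _ rfl)
    rw [hg, Nat.mul_div_cancel_left _ (pow_pos hp.pos k)]
    exact ((Nat.Prime.coprime_iff_not_dvd hp).2 hm).symm
  obtain ⟨k, hk⟩ := IsPGroup.iff_card.1 hquot
  have h1 : ((P : Subgroup N) ⊔ K).index ∣ p ^ k := by
    rw [← hk, ← Subgroup.index_eq_card]
    exact Subgroup.index_dvd_of_le le_sup_right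
  have h2 : ((P : Subgroup N) ⊔ K).index ∣ (P : Subgroup N).index :=
    Subgroup.index_dvd_of_le le_sup_left
  have h3 : ¬ p ∣ (P : Subgroup N).index := P.not_dvd_index
  rw [← Subgroup.index_eq_one]
  obtain ⟨j, _, hj⟩ := (Nat.dvd_prime_pow hp).1 h1
  rcases j with _ | j
  · simpa using hj
  · exfalso
    apply h3
    refine dvd_trans ?_ h2
    rw [hj, pow_succ]
    exact Dvd.intro_left _ rfl

/-- Let p be a prime and H a strongly p-embedded subgroup of the finite group G in the classical sense: H is proper, p divides the order of H, and H ∩ gHg⁻¹ has order prime to p for every g outside H. Then for every normal subgroup N of G of order divisible by p, G = H · O^p(N), where O^p(N) is the subgroup generated by the elements of N of order prime to p. -/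
theorem result {G : Type*} [Group G] [Finite G]
    (p : ℕ) [Fact p.Prime] (H : Subgroup G) (hH : H ≠ ⊤) (hpH : p ∣ Nat.card H)
    (hse : ∀ g : G, g ∉ H → ¬ p ∣ Nat.card ↥(H ⊓ H.map (MulAut.conj g).toMonoidHom))
    (N : Subgroup G) [N.Normal] (hN : p ∣ Nat.card N) :
    H ⊔ Subgroup.closure {g : G | g ∈ N ∧ (orderOf g).Coprime p} = ⊤ := by
  set K : Subgroup G := Subgroup.closure {g : G | g ∈ N ∧ (orderOf g).Coprime p} with hKdef
  obtain ⟨S, hSH⟩ := exists_sylow_le p H hpH hse
  -- a Sylow subgroup of `N` inside `H`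
  obtain ⟨P₀⟩ : Nonempty (Sylow p N) := inferInstance
  obtain ⟨S', hS'⟩ := (P₀.2.map N.subtype).exists_le_sylow
  obtain ⟨g, hg⟩ := MulAction.exists_smul_eq G S' S
  let P : Sylow p N := (MulAut.conjNormal g : MulAut N) • P₀
  have hPH : (P : Subgroup N).map N.subtype ≤ H := by
    intro y hy
    rw [Subgroup.mem_map] at hy
    obtain ⟨n, hn, rfl⟩ := hy
    have hn' : n ∈ (MulAut.conjNormal g : MulAut N) • (P₀ : Subgroup N) := hn
    rw [Subgroup.mem_smul_pointwise_iff_exists] at hn'
    obtain ⟨m, hm, rfl⟩ := hn'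
    apply hSH
    rw [← hg, Sylow.coe_subgroup_smul, Subgroup.mem_smul_pointwise_iff_exists]
    refine ⟨(m : G), hS' (Subgroup.mem_map_of_mem _ hm), ?_⟩
    simp [MulAut.conjNormal_apply]
  have hP1 : (P : Subgroup N).map N.subtype ≠ ⊥ := by
    intro h
    have h1 : (P : Subgroup N) = ⊥ := by
      rw [← Subgroup.map_eq_bot_iff_of_injective _ N.subtype_injective]
      exact h
    exact P.ne_bot_of_dvd_card hN h1
  have hfr := Sylow.normalizer_sup_eq_top P
  have hnorm : Subgroup.normalizer (((P : Subgroup N).map N.subtype : Subgroup G) : Set G) ≤ H :=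
    normalizer_le p H hse _ hPH (P.2.map N.subtype) hP1
  -- `N ≤ P ⊔ K`
  have hKN : K ≤ N := by
    rw [hKdef, Subgroup.closure_le]
    intro x hx
    exact hx.1
  have hKnorm : K.Normal := by
    rw [← Subgroup.normalizer_eq_top_iff, eq_top_iff, hKdef, Subgroup.le_normalizer_closure_iff]
    intro h _ g hg
    apply Subgroup.subset_closure
    refine ⟨(inferInstance : N.Normal).conj_mem g hg.1 h, ?_⟩
    have : h * g * h⁻¹ = MulAut.conj h g := by simp [MulAut.conj_apply]
    rw [this, MulEquiv.orderOf_eq]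
    exact hg.2
  have hK'norm : (K.subgroupOf N).Normal := inferInstance
  have hsup : (P : Subgroup N) ⊔ K.subgroupOf N = ⊤ := by
    apply sylow_sup_eq_top p N P (K.subgroupOf N)
    intro n hn
    rw [Subgroup.mem_subgroupOf]
    apply Subgroup.subset_closure
    refine ⟨n.2, ?_⟩
    rwa [Subgroup.orderOf_coe]
  have hNle : N ≤ (P : Subgroup N).map N.subtype ⊔ K := by
    have h1 : ((P : Subgroup N) ⊔ K.subgroupOf N).map N.subtype = N := by
      rw [hsup, ← MonoidHom.range_eq_map, Subgroup.range_subtype]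
    rw [Subgroup.map_sup, Subgroup.subgroupOf_map_subtype, inf_of_le_left hKN] at h1
    exact h1.ge
  rw [eq_top_iff, ← hfr]
  apply sup_le
  · exact hnorm.trans le_sup_left
  · exact hNle.trans (sup_le (hPH.trans le_sup_left) le_sup_right)

end Cfsg.Agent.S3059
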