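import Cfsg.Statements.S3056
import Cfsg.Agent.S3059

set_option autoImplicit false
open Cfsg
open scoped Pointwise

namespace Cfsg.Agent.S3056

variable {G : Type*} [Group G] (p : ℕ)

/-- Adjacency in the Sylow graph. -/
def Adj (P Q : Sylow p G) : Prop := P ≠ Q ∧ (P : Subgroup G) ⊓ (Q : Subgroup G) ≠ ⊥

/-- Connectivity in the Sylow graph. -/
def Conn (P Q : Sylow p G) : Prop := Relation.ReflTransGen (Adj p) P Q

variable {p}

theorem adj_symm {P Q : Sylow p G} (h : Adj p P Q) : Adj p Q P :=
  ⟨h.1.symm, by rw [inf_comm]; exact h.2⟩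

theorem conn_symm {P Q : Sylow p G} (h : Conn p P Q) : Conn p Q P := by
  induction h with
  | refl => exact Relation.ReflTransGen.refl
  | tail _ hbc ih => exact Relation.ReflTransGen.head (adj_symm hbc) ih

theorem conn_trans {P Q R : Sylow p G} (h : Conn p P Q) (h' : Conn p Q R) : Conn p P R :=
  Relation.ReflTransGen.trans h h'

theorem adj_smul {P Q : Sylow p G} (g : G) (h : Adj p P Q) : Adj p (g • P) (g • Q) := by
  refine ⟨fun h' => h.1 (MulAction.injective g h'), ?_⟩
  rw [Sylow.coe_subgroup_smul, Sylow.coe_subgroup_smul, ← Subgroup.smul_inf]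
  intro h'
  apply h.2
  rw [eq_bot_iff] at h' ⊢
  intro x hx
  have := h' (Subgroup.smul_mem_pointwise_smul x (MulAut.conj g) _ hx)
  rw [Subgroup.mem_bot] at this ⊢
  exact (MulAut.conj g).injective (by rw [map_one]; exact this)

theorem conn_smul {P Q : Sylow p G} (g : G) (h : Conn p P Q) : Conn p (g • P) (g • Q) := by
  induction h with
  | refl => exact Relation.ReflTransGen.refl
  | tail _ hbc ih => exact ih.tail (adj_smul g hbc)

theorem conn_of_inf_ne_bot {P Q : Sylow p G} (h : (P : Subgroup G) ⊓ (Q : Subgroup G) ≠ ⊥) :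
    Conn p P Q := by
  by_cases hPQ : P = Q
  · rw [hPQ]; exact Relation.ReflTransGen.refl
  · exact Relation.ReflTransGen.single ⟨hPQ, h⟩

theorem exists_chain_of_conn {S T : Sylow p G} (h : Conn p S T) :
    ∃ (n : ℕ) (c : Fin (n + 1) → Sylow p G), c 0 = S ∧ c (Fin.last n) = T ∧
      ∀ i : Fin n, Adj p (c i.castSucc) (c i.succ) := by
  induction h using Relation.ReflTransGen.head_induction_on with
  | refl => exact ⟨0, fun _ => T, rfl, rfl, fun i => i.elim0⟩
  | @head a b hab _ ih =>
    obtain ⟨n, c, h0, hl, hadj⟩ := ih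
    refine ⟨n + 1, Fin.cons (α := fun _ => Sylow p G) a c, ?_, ?_, ?_⟩
    · simp
    · rw [← Fin.succ_last, Fin.cons_succ]; exact hl
    · intro i
      refine Fin.cases ?_ (fun j => ?_) i
      · simp only [Fin.castSucc_zero, Fin.cons_zero, Fin.cons_succ]
        rw [h0]; exact hab
      · rw [← Fin.succ_castSucc, Fin.cons_succ, Fin.cons_succ]
        exact hadj j

theorem connected_iff : IsSylowChainConnected p G ↔ ∀ S T : Sylow p G, Conn p S T := by
  constructor
  · intro h S T
    obtain ⟨n, c, h0, hl, _, hadj⟩ := h S T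
    have key : ∀ i : Fin (n + 1), Conn p (c 0) (c i) := by
      intro i
      refine Fin.induction (motive := fun i => Conn p (c 0) (c i)) Relation.ReflTransGen.refl ?_ i
      intro j ih
      exact ih.tail (hadj j)
    rw [← h0, ← hl]
    exact key _
  · intro h S T
    by_cases hST : S = T
    · subst hST
      exact ⟨0, fun _ => S, rfl, rfl, fun _ => inf_le_left, fun i => i.elim0⟩
    by_cases hinf : (S : Subgroup G) ⊓ (T : Subgroup G) = ⊥
    · obtain ⟨n, c, h0, hl, hadj⟩ := exists_chain_of_conn (h S T)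
      refine ⟨n, c, h0, hl, fun i => ?_, hadj⟩
      rw [hinf]; exact bot_le
    · refine ⟨1, ![S, T], rfl, rfl, ?_, ?_⟩
      · intro i
        fin_cases i
        · exact inf_le_left
        · exact inf_le_right
      · intro i
        fin_cases i
        exact ⟨hST, hinf⟩


variable [Finite G] [Fact p.Prime]

/-- If a Sylow subgroup contains a nontrivial element of a strongly `p`-embedded subgroup `H`,
it lies in `H`. -/
theorem sylow_le_of_mem (H : Subgroup G)
    (hse : ∀ g : G, g ∉ H → ¬ p ∣ Nat.card ↥(H ⊓ H.map (MulAut.conj g).toMonoidHom))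
    (y : G) (hyH : y ∈ H) (hy1 : y ≠ 1) (T : Sylow p G) (hyT : y ∈ (T : Subgroup G)) :
    (T : Subgroup G) ≤ H := by
  have hyp : IsPGroup p (Subgroup.zpowers y) := T.2.to_le (Subgroup.zpowers_le.2 hyT)
  have hnt : Nontrivial (T : Subgroup G) :=
    ⟨⟨⟨y, hyT⟩, 1, fun h => hy1 (congrArg Subtype.val h)⟩⟩
  have hcnt : Nontrivial (Subgroup.center (T : Subgroup G)) := T.2.center_nontrivial
  obtain ⟨z, hz⟩ := exists_ne (1 : Subgroup.center (T : Subgroup G))
  have hzG1 : ((z : (T : Subgroup G)) : G) ≠ 1 := by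
    intro h
    apply hz
    ext
    exact h
  have hzc : ∀ s : (T : Subgroup G), s * (z : (T : Subgroup G)) = z * s := fun s =>
    (Subgroup.mem_center_iff.1 z.2 s)
  have hzH : ((z : (T : Subgroup G)) : G) ∈ H := by
    apply S3059.centralizer_le p H hse y hyH hy1 hyp
    rw [Subgroup.mem_centralizer_singleton_iff]
    have := hzc ⟨y, hyT⟩
    exact (congrArg Subtype.val this).symm
  have hzp : IsPGroup p (Subgroup.zpowers ((z : (T : Subgroup G)) : G)) := by
    apply T.2.to_le
    rw [Subgroup.zpowers_le]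
    exact (z : (T : Subgroup G)).2
  intro s hs
  apply S3059.centralizer_le p H hse _ hzH hzG1 hzp
  rw [Subgroup.mem_centralizer_singleton_iff]
  have := hzc ⟨s, hs⟩
  exact congrArg Subtype.val this

/-- Every `p`-element of a subgroup `H` containing the Sylow subgroup `S₀` lies in an
`H`-conjugate of `S₀`. -/
theorem exists_smul_mem (H : Subgroup G) (S₀ : Sylow p G) (hS₀ : (S₀ : Subgroup G) ≤ H)
    (u : G) (huH : u ∈ H) (hu : IsPGroup p (Subgroup.zpowers u)) :
    ∃ h ∈ H, u ∈ ((h • S₀ : Sylow p G) : Subgroup G) := by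
  have hu' : IsPGroup p (Subgroup.zpowers (⟨u, huH⟩ : H)) := by
    have : (Subgroup.zpowers (⟨u, huH⟩ : H)) = (Subgroup.zpowers u).subgroupOf H := by
      ext x
      simp only [Subgroup.mem_zpowers_iff, Subgroup.mem_subgroupOf]
      constructor
      · rintro ⟨k, rfl⟩; exact ⟨k, by simp⟩
      · rintro ⟨k, hk⟩; exact ⟨k, Subtype.ext (by simpa using hk)⟩
    rw [this]
    exact hu.comap_subtype
  obtain ⟨Q, hQ⟩ := hu'.exists_le_sylow
  obtain ⟨h, hh⟩ := MulAction.exists_smul_eq H (S₀.subtype hS₀) Q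
  refine ⟨h, h.2, ?_⟩
  have h1 : (⟨u, huH⟩ : H) ∈ (Q : Subgroup H) := hQ (Subgroup.mem_zpowers _)
  rw [← hh, Sylow.smul_subtype hS₀ h, Sylow.coe_subtype, Subgroup.mem_subgroupOf] at h1
  exact h1


/-- The stabilizer of the connected component of `S₀`. -/
def compStab (S₀ : Sylow p G) : Subgroup G where
  carrier := {g | Conn p S₀ (g • S₀)}
  one_mem' := by
    show Conn p S₀ ((1 : G) • S₀)
    rw [one_smul]; exact Relation.ReflTransGen.refl
  mul_mem' := by
    intro a b ha hb
    show Conn p S₀ ((a * b) • S₀)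
    rw [mul_smul]
    exact conn_trans ha (conn_smul a hb)
  inv_mem' := by
    intro a ha
    show Conn p S₀ (a⁻¹ • S₀)
    have := conn_smul a⁻¹ ha
    rw [inv_smul_smul] at this
    exact conn_symm this

omit [Finite G] [Fact p.Prime] in
theorem mem_compStab {S₀ : Sylow p G} {g : G} : g ∈ compStab S₀ ↔ Conn p S₀ (g • S₀) := Iff.rfl

theorem le_compStab (S₀ : Sylow p G) : (S₀ : Subgroup G) ≤ compStab S₀ := by
  intro s hs
  rw [mem_compStab]
  have : s • S₀ = S₀ := Sylow.smul_eq_iff_mem_normalizer.2 (Subgroup.le_normalizer hs)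
  rw [this]
  exact Relation.ReflTransGen.refl

/-- The component stabilizer is strongly `p`-embedded when the graph is disconnected. -/
theorem compStab_spec (S₀ T₀ : Sylow p G) (hST : ¬ Conn p S₀ T₀) :
    compStab S₀ ≠ ⊤ ∧ p ∣ Nat.card (compStab S₀) ∧
      ∀ g : G, g ∉ compStab S₀ →
        ¬ p ∣ Nat.card ↥(compStab S₀ ⊓ (compStab S₀).map (MulAut.conj g).toMonoidHom) := by
  have hp : p.Prime := Fact.out
  refine ⟨?_, ?_, ?_⟩
  · obtain ⟨g, hg⟩ := MulAction.exists_smul_eq G S₀ T₀
    intro htop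
    apply hST
    rw [← hg, ← mem_compStab, htop]
    exact Subgroup.mem_top g
  · by_contra hnd
    have h1 : ¬ p ∣ Nat.card (S₀ : Subgroup G) := fun h =>
      hnd (h.trans (Subgroup.card_dvd_of_le (le_compStab S₀)))
    have h2 : (S₀ : Subgroup G) = ⊥ := by
      rcases S₀.2.card_eq_or_dvd with h | h
      · exact Subgroup.card_eq_one.1 h
      · exact absurd h h1
    obtain ⟨g, hg⟩ := MulAction.exists_smul_eq G S₀ T₀
    apply hST
    have : T₀ = S₀ := by
      apply Sylow.ext
      rw [← hg, Sylow.coe_subgroup_smul, h2, Subgroup.smul_bot]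
    rw [this]
    exact Relation.ReflTransGen.refl
  · intro g hg hdiv
    obtain ⟨y, hy⟩ := exists_prime_orderOf_dvd_card'
      (G := ↥(compStab S₀ ⊓ (compStab S₀).map (MulAut.conj g).toMonoidHom)) p hdiv
    have hyG : orderOf (y : G) = p := by rw [Subgroup.orderOf_coe]; exact hy
    have hy1 : (y : G) ≠ 1 := by
      intro h
      rw [h, orderOf_one] at hyG
      exact hp.one_lt.ne hyG
    have hyp : IsPGroup p (Subgroup.zpowers (y : G)) := by
      apply IsPGroup.of_card (n := 1)
      rw [Nat.card_zpowers, hyG, pow_one]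
    obtain ⟨hyH, hyH'⟩ := Subgroup.mem_inf.1 y.2
    obtain ⟨y', hy'H, hy'⟩ := Subgroup.mem_map.1 hyH'
    have hy'eq : g * y' * g⁻¹ = (y : G) := by
      simpa [MulAut.conj_apply] using hy'
    have hy'p : IsPGroup p (Subgroup.zpowers y') := by
      apply IsPGroup.of_card (n := 1)
      rw [Nat.card_zpowers, pow_one, ← hyG, ← hy'eq]
      have : g * y' * g⁻¹ = MulAut.conj g y' := by simp [MulAut.conj_apply]
      rw [this, MulEquiv.orderOf_eq]
    obtain ⟨h₁, hh₁, hyh₁⟩ := exists_smul_mem (compStab S₀) S₀ (le_compStab S₀) (y : G) hyH hyp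
    obtain ⟨h₂, hh₂, hyh₂⟩ := exists_smul_mem (compStab S₀) S₀ (le_compStab S₀) y' hy'H hy'p
    have hy3 : (y : G) ∈ (((g * h₂) • S₀ : Sylow p G) : Subgroup G) := by
      rw [mul_smul, Sylow.coe_subgroup_smul, ← hy'eq]
      have := Subgroup.smul_mem_pointwise_smul y' (MulAut.conj g) _ hyh₂
      simpa [MulAut.smul_def, MulAut.conj_apply] using this
    have hinf : ((h₁ • S₀ : Sylow p G) : Subgroup G) ⊓ (((g * h₂) • S₀ : Sylow p G) : Subgroup G) ≠ ⊥ := by
      intro h
      apply hy1
      rw [← Subgroup.mem_bot, ← h]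
      exact Subgroup.mem_inf.2 ⟨hyh₁, hy3⟩
    have hc : Conn p S₀ ((g * h₂) • S₀) := conn_trans (mem_compStab.1 hh₁) (conn_of_inf_ne_bot hinf)
    apply hg
    have : g = (g * h₂) * h₂⁻¹ := by group
    rw [this]
    exact (compStab S₀).mul_mem (mem_compStab.2 hc) ((compStab S₀).inv_mem hh₂)

/-- Let G be a finite group and p a prime. Join two Sylow p-subgroups when they are distinct and meet nontrivially. This graph on the Sylow p-subgroups is disconnected (the Sylow p-subgroups are not chain-connected through nontrivial intersections) if and only if G has a strongly p-embedded subgroup in the classical sense: a proper subgroup H of order divisible by p such that H ∩ gHg⁻¹ has order prime to p for every g outside H. -/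
theorem result {G : Type*} [Group G] [Finite G]
    (p : ℕ) [Fact p.Prime] :
    ¬ Cfsg.IsSylowChainConnected p G ↔
      ∃ H : Subgroup G, H ≠ ⊤ ∧ p ∣ Nat.card H ∧
        ∀ g : G, g ∉ H → ¬ p ∣ Nat.card ↥(H ⊓ H.map (MulAut.conj g).toMonoidHom) := by
  rw [connected_iff]
  constructor
  · intro h
    obtain ⟨S₀, h⟩ := not_forall.1 h
    obtain ⟨T₀, hST⟩ := not_forall.1 h
    exact ⟨compStab S₀, compStab_spec S₀ T₀ hST⟩
  · rintro ⟨H, hH, hpH, hse⟩ hconn
    obtain ⟨S₀, hS₀⟩ := S3059.exists_sylow_le p H hpH hse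
    have hall : ∀ T : Sylow p G, (T : Subgroup G) ≤ H := by
      intro T
      have hc := hconn S₀ T
      induction hc with
      | refl => exact hS₀
      | tail _ hbc ih =>
        obtain ⟨y, hy1⟩ := (Subgroup.ne_bot_iff_exists_ne_one).1 hbc.2
        obtain ⟨hyb, hyc⟩ := Subgroup.mem_inf.1 y.2
        refine sylow_le_of_mem H hse y (ih hyb) ?_ _ hyc
        intro h
        apply hy1
        ext
        exact h
    obtain ⟨g, hg⟩ : ∃ g, g ∉ H := by
      by_contra h
      exact hH (eq_top_iff.2 fun x _ => not_not.1 (fun hx => h ⟨x, hx⟩))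
    apply hse g hg
    have h1 : ((g • S₀ : Sylow p G) : Subgroup G) ≤ H ⊓ H.map (MulAut.conj g).toMonoidHom := by
      refine le_inf (hall _) ?_
      rw [Sylow.coe_subgroup_smul]
      intro x hx
      obtain ⟨s, hs, rfl⟩ := (Subgroup.mem_smul_pointwise_iff_exists _ _ _).1 hx
      exact Subgroup.mem_map.2 ⟨s, hS₀ hs, rfl⟩
    have h2 : p ∣ Nat.card ((g • S₀ : Sylow p G) : Subgroup G) :=
      (g • S₀).dvd_card_of_dvd_card (hpH.trans (Subgroup.card_subgroup_dvd_card H))
    exact h2.trans (Subgroup.card_dvd_of_le h1)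

end Cfsg.Agent.S3056
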