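import Cfsg.Statements.S3058
import Cfsg.Agent.S3056
import Cfsg.Agent.Lib.Helper48.CoprimeGen

set_option autoImplicit false
open Cfsg
open scoped Pointwise

namespace Cfsg.Agent.S3058

variable {G : Type*} [Group G] [Finite G] {p : ℕ} [Fact p.Prime]

/-- A normal subgroup of order divisible by `p` meets every Sylow `p`-subgroup in an element
of order `p`. -/
theorem exists_mem_sylow_of_dvd_card (S₀ : Sylow p G) (N : Subgroup G) [hNn : N.Normal]
    (hN : p ∣ Nat.card N) : ∃ x ∈ N, x ∈ (S₀ : Subgroup G) ∧ orderOf x = p := by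
  obtain ⟨x₀, hx₀⟩ := exists_prime_orderOf_dvd_card' (G := N) p hN
  have hx₀G : orderOf (x₀ : G) = p := by rw [Subgroup.orderOf_coe]; exact hx₀
  have hx₀p : IsPGroup p (Subgroup.zpowers (x₀ : G)) := by
    apply IsPGroup.of_card (n := 1)
    rw [Nat.card_zpowers, hx₀G, pow_one]
  obtain ⟨S', hS'⟩ := hx₀p.exists_le_sylow
  obtain ⟨g, hg⟩ := MulAction.exists_smul_eq G S' S₀
  refine ⟨g * x₀ * g⁻¹, hNn.conj_mem _ x₀.2 g, ?_, ?_⟩
  · rw [← hg, Sylow.coe_subgroup_smul, Subgroup.mem_smul_pointwise_iff_exists]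
    exact ⟨x₀, hS' (Subgroup.mem_zpowers _), by simp [MulAut.smul_def, MulAut.conj_apply]⟩
  · have : g * x₀ * g⁻¹ = MulAut.conj g (x₀ : G) := by simp [MulAut.conj_apply]
    rw [this, MulEquiv.orderOf_eq, hx₀G]

/-- An element of a `p`-group whose order divides a number prime to `p` is trivial. -/
theorem eq_one_of_mem_sylow_of_mem (S₀ : Sylow p G) (D : Subgroup G) (hD : ¬ p ∣ Nat.card D)
    (c : G) (hcS : c ∈ (S₀ : Subgroup G)) (hcD : c ∈ D) : c = 1 := by
  have hp : p.Prime := Fact.out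
  obtain ⟨k, hk⟩ := S₀.2 ⟨c, hcS⟩
  have hk' : c ^ (p ^ k) = 1 := congrArg Subtype.val hk
  have h1 : orderOf c ∣ p ^ k := orderOf_dvd_of_pow_eq_one hk'
  have h2 : orderOf c ∣ Nat.card D := by
    have := orderOf_dvd_natCard (⟨c, hcD⟩ : D)
    rwa [Subgroup.orderOf_mk] at this
  have h3 : Nat.Coprime (p ^ k) (Nat.card D) :=
    Nat.Coprime.pow_left k ((Nat.Prime.coprime_iff_not_dvd hp).2 hD)
  have h4 : orderOf c ∣ 1 := by
    rw [← h3]
    exact Nat.dvd_gcd h1 h2
  exact orderOf_eq_one_iff.1 (Nat.dvd_one.1 h4)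

/-- In the classical strongly `p`-embedded situation, an element conjugating a nontrivial
`p`-element of `H` into `H` lies in `H`. -/
theorem mem_of_conj_mem (H : Subgroup G)
    (hse : ∀ g : G, g ∉ H → ¬ p ∣ Nat.card ↥(H ⊓ H.map (MulAut.conj g).toMonoidHom))
    (x : G) (hxH : x ∈ H) (hx : orderOf x = p) (m : G) (hm : m * x * m⁻¹ ∈ H) : m ∈ H := by
  by_contra hmH
  have hm' : m⁻¹ ∉ H := fun h => hmH (by simpa using H.inv_mem h)
  apply hse m⁻¹ hm'
  have hle : Subgroup.zpowers x ≤ H ⊓ H.map (MulAut.conj m⁻¹).toMonoidHom := by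
    rw [Subgroup.zpowers_le]
    refine Subgroup.mem_inf.2 ⟨hxH, Subgroup.mem_map.2 ⟨m * x * m⁻¹, hm, ?_⟩⟩
    simp [MulAut.conj_apply]; group
  have := Subgroup.card_dvd_of_le hle
  rwa [Nat.card_zpowers, hx] at this

/-- Let p be a prime and G a finite group whose Sylow p-subgroups are not chain-connected through nontrivial intersections (so G has a strongly p-embedded subgroup). If N and M are normal subgroups of G whose orders are both divisible by p, then the order of N ∩ M is divisible by p. Consequently, among the normal subgroups of G whose order is divisible by p there is a smallest one (the intersection of all of them). -/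
theorem result {G : Type*} [Group G] [Finite G]
    (p : ℕ) [Fact p.Prime] (hG : ¬ Cfsg.IsSylowChainConnected p G)
    (N M : Subgroup G) [N.Normal] [M.Normal] (hN : p ∣ Nat.card N) (hM : p ∣ Nat.card M) :
    p ∣ Nat.card ↥(N ⊓ M) := by
  have hp : p.Prime := Fact.out
  have hNn : N.Normal := inferInstance
  have hMn : M.Normal := inferInstance
  obtain ⟨H, hH, hpH, hse⟩ := (S3056.result p).1 hG
  by_contra hD
  obtain ⟨S₀, hS₀⟩ := S3059.exists_sylow_le p H hpH hse
  obtain ⟨x, hxN, hxS, hx⟩ := exists_mem_sylow_of_dvd_card S₀ N hN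
  obtain ⟨y, hyM, hyS, hy⟩ := exists_mem_sylow_of_dvd_card S₀ M hM
  have hx1 : x ≠ 1 := by
    intro h; rw [h, orderOf_one] at hx; exact hp.one_lt.ne hx
  have hy1 : y ≠ 1 := by
    intro h; rw [h, orderOf_one] at hy; exact hp.one_lt.ne hy
  have hxp : x ^ p = 1 := by rw [← hx]; exact pow_orderOf_eq_one x
  have hyp : y ^ p = 1 := by rw [← hy]; exact pow_orderOf_eq_one y
  -- x and y commute
  have hxy : x * y = y * x := by
    have hc : x * y * x⁻¹ * y⁻¹ = 1 := by
      apply eq_one_of_mem_sylow_of_mem S₀ (N ⊓ M) hD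
      · exact Subgroup.mul_mem _ (Subgroup.mul_mem _ (Subgroup.mul_mem _ hxS hyS)
          (Subgroup.inv_mem _ hxS)) (Subgroup.inv_mem _ hyS)
      · refine Subgroup.mem_inf.2 ⟨?_, ?_⟩
        · have h1 : y * x⁻¹ * y⁻¹ ∈ N := hNn.conj_mem _ (N.inv_mem hxN) y
          have : x * y * x⁻¹ * y⁻¹ = x * (y * x⁻¹ * y⁻¹) := by group
          rw [this]; exact N.mul_mem hxN h1
        · have h1 : x * y * x⁻¹ ∈ M := hMn.conj_mem _ hyM x
          exact M.mul_mem h1 (M.inv_mem hyM)
    calc x * y = (x * y * x⁻¹ * y⁻¹) * (y * x) := by group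
      _ = y * x := by rw [hc, one_mul]
  -- D ≤ H by coprime generation
  have hDH : N ⊓ M ≤ H := by
    refine (Lib.Helper48.coprime_gen (N ⊓ M) x y hxp hyp hxy hD).trans ?_
    unfold Lib.Helper48.genSub
    apply iSup₂_le
    intro c hc
    refine inf_le_right.trans ?_
    have hcS : c ∈ (S₀ : Subgroup G) := by
      rcases hc with rfl | ⟨n, rfl⟩
      · exact hyS
      · exact Subgroup.mul_mem _ hxS (Subgroup.pow_mem _ hyS n)
    have hc1 : c ≠ 1 := by
      rcases hc with rfl | ⟨n, rfl⟩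
      · exact hy1
      · intro h
        apply hx1
        apply eq_one_of_mem_sylow_of_mem S₀ (N ⊓ M) hD x hxS
        refine Subgroup.mem_inf.2 ⟨hxN, ?_⟩
        have : x = (y ^ n)⁻¹ := eq_inv_of_mul_eq_one_left h
        rw [this]
        exact M.inv_mem (M.pow_mem hyM n)
    have hcp : IsPGroup p (Subgroup.zpowers c) := S₀.2.to_le (Subgroup.zpowers_le.2 hcS)
    exact S3059.centralizer_le p H hse c (hS₀ hcS) hc1 hcp
  -- M ≤ H
  have hMH : M ≤ H := by
    intro m hm
    apply mem_of_conj_mem H hse x (hS₀ hxS) hx m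
    have hd : m * x * m⁻¹ * x⁻¹ ∈ N ⊓ M := by
      refine Subgroup.mem_inf.2 ⟨?_, ?_⟩
      · exact N.mul_mem (hNn.conj_mem _ hxN m) (N.inv_mem hxN)
      · have h1 : x * m⁻¹ * x⁻¹ ∈ M := hMn.conj_mem _ (M.inv_mem hm) x
        have : m * x * m⁻¹ * x⁻¹ = m * (x * m⁻¹ * x⁻¹) := by group
        rw [this]; exact M.mul_mem hm h1
    have : m * x * m⁻¹ = (m * x * m⁻¹ * x⁻¹) * x := by group
    rw [this]
    exact H.mul_mem (hDH hd) (hS₀ hxS)
  -- contradiction
  obtain ⟨g, hg⟩ : ∃ g, g ∉ H := by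
    by_contra h
    exact hH (eq_top_iff.2 fun x _ => not_not.1 (fun hx => h ⟨x, hx⟩))
  apply hse g hg
  have hle : M ≤ H ⊓ H.map (MulAut.conj g).toMonoidHom := by
    refine le_inf hMH ?_
    intro m hm
    refine Subgroup.mem_map.2 ⟨g⁻¹ * m * g, hMH ?_, ?_⟩
    · have := hMn.conj_mem m hm g⁻¹
      simpa using this
    · simp [MulAut.conj_apply]; group
  exact hM.trans (Subgroup.card_dvd_of_le hle)

end Cfsg.Agent.S3058
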