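import Cfsg.Statements.S0647

set_option autoImplicit false
open Cfsg

namespace Cfsg.Agent.S0647

theorem centralizer_le_of_max {S : Type*} [Group S] (A : Subgroup S) (hA : IsMulCommutative A)
    (hmax : ∀ B : Subgroup S, IsMulCommutative B → A ≤ B → B = A) :
    Subgroup.centralizer (A : Set S) ≤ A := by
  intro x hx
  have hcomm : ∀ y ∈ (A : Set S) ∪ {x}, ∀ z ∈ (A : Set S) ∪ {x}, y * z = z * y := by
    have hAc := Subgroup.le_centralizer_iff_isMulCommutative.mpr hA
    rintro y (hy | hy) z (hz | hz)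
    · exact (hAc hz y hy)
    · rw [Set.mem_singleton_iff] at hz; subst hz
      exact (hx y hy)
    · rw [Set.mem_singleton_iff] at hy; subst hy
      exact (hx z hz).symm
    · rw [Set.mem_singleton_iff] at hy hz; subst hy; subst hz; rfl
  have hB : IsMulCommutative (Subgroup.closure ((A : Set S) ∪ {x})) :=
    Subgroup.isMulCommutative_closure hcomm
  have hle : A ≤ Subgroup.closure ((A : Set S) ∪ {x}) := fun a ha =>
    Subgroup.subset_closure (Or.inl ha)
  have := hmax _ hB hle
  rw [← this]
  exact Subgroup.subset_closure (Or.inr rfl)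

theorem result {S : Type*} [Group S] [Finite S] (𝒜 : Set (Subgroup S)) (hne : 𝒜.Nonempty) (hab : ∀ A ∈ 𝒜, IsMulCommutative A) (hmax : ∀ A ∈ 𝒜, ∀ B : Subgroup S, IsMulCommutative B → A ≤ B → B = A) : sInf 𝒜 = sSup 𝒜 ⊓ Subgroup.centralizer ((sSup 𝒜 : Subgroup S) : Set S) ∧ sInf 𝒜 = Subgroup.centralizer ((sSup 𝒜 : Subgroup S) : Set S) := by
  have key : sInf 𝒜 = Subgroup.centralizer ((sSup 𝒜 : Subgroup S) : Set S) := by
    apply le_antisymm
    · rw [Subgroup.le_centralizer_iff]
      apply sSup_le
      intro A hA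
      rw [Subgroup.le_centralizer_iff]
      have hAc := Subgroup.le_centralizer_iff_isMulCommutative.mpr (hab A hA)
      exact (sInf_le hA).trans hAc
    · apply le_sInf
      intro A hA
      refine le_trans ?_ (centralizer_le_of_max A (hab A hA) (hmax A hA))
      exact Subgroup.centralizer_le (le_sSup hA)
  refine ⟨?_, key⟩
  rw [← key]
  obtain ⟨A, hA⟩ := hne
  exact (inf_eq_right.mpr ((sInf_le hA).trans (le_sSup hA))).symm

end Cfsg.Agent.S0647
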