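import Cfsg.Statements.S0651
import Cfsg.Agent.Lib.Helper11.ReplProp

set_option autoImplicit false
open Cfsg

namespace Cfsg.Agent.S0651

open Cfsg.Agent.Lib.Helper11

theorem mem_image_iff {S : Type*} [Group S] [Finite S] (D : Subgroup S) (X : Subgroup S) :
    X ∈ (Set.image (fun A : Subgroup ↥D => A.map D.subtype) (Cfsg.maxAbelianSubgroups ↥D)) ↔
      X ≤ D ∧ IsMulCommutative X ∧
        ∀ Y, Y ≤ D → IsMulCommutative Y → Nat.card Y ≤ Nat.card X := by
  constructor
  · rintro ⟨A', ⟨hA'c, hA'max⟩, rfl⟩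
    refine ⟨Subgroup.map_subtype_le A', ?_, ?_⟩
    · haveI := hA'c; infer_instance
    · intro Y hYD hYc
      haveI := hYc
      have h1 : IsMulCommutative (Y.subgroupOf D) := inferInstance
      have h2 := hA'max _ h1
      have h3 : Nat.card (Y.subgroupOf D) = Nat.card Y :=
        Nat.card_congr (Subgroup.subgroupOfEquivOfLe hYD).toEquiv
      have h4 : Nat.card (A'.map D.subtype) = Nat.card A' :=
        Subgroup.card_map_of_injective D.subtype_injective
      rw [h4, ← h3]; exact h2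
  · rintro ⟨hXD, hXc, hXmax⟩
    refine ⟨X.subgroupOf D, ⟨?_, ?_⟩, Subgroup.map_subgroupOf_eq_of_le hXD⟩
    · haveI := hXc; infer_instance
    · intro B' hB'c
      haveI := hB'c
      have h1 : IsMulCommutative (B'.map D.subtype) := inferInstance
      have h2 := hXmax _ (Subgroup.map_subtype_le B') h1
      have h3 : Nat.card (X.subgroupOf D) = Nat.card X :=
        Nat.card_congr (Subgroup.subgroupOfEquivOfLe hXD).toEquiv
      have h4 : Nat.card (B'.map D.subtype) = Nat.card B' :=
        Subgroup.card_map_of_injective D.subtype_injective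
      rw [h3, ← h4]; exact h2

theorem result {S : Type*} [Group S] [Finite S] {p : ℕ} [Fact p.Prime] (hS : IsPGroup p S) (hp : p ≠ 2) (D : Subgroup S) [D.Normal] : ∀ (B : Subgroup S) [B.Normal], ⁅⁅B, B⁆, B⁆ = ⊥ → (∃ U ∈ (Set.image (fun A : Subgroup ↥D => A.map D.subtype) (Cfsg.maxAbelianSubgroups ↥D)), ⁅B, B⁆ ≤ U ∧ ¬ B ≤ U) → ∃ A ∈ (Set.image (fun A : Subgroup ↥D => A.map D.subtype) (Cfsg.maxAbelianSubgroups ↥D)), ⁅B, B⁆ ≤ A ∧ ¬ B ≤ A ∧ B ≤ Subgroup.normalizer (A : Set S) := by
  intro B _ _ hex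
  have hB2 : p = 2 → IsMulCommutative B := fun h => absurd h hp
  exact replacement_general hS hp D (fun X => IsMulCommutative X) (fun _ h => h)
    (fun A B b hset _ => hset.rStar_comm hS (fun h => absurd h hp)) B _ (mem_image_iff D) hex

end Cfsg.Agent.S0651
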