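import Cfsg.Statements.S0653
import Cfsg.Agent.Lib.Helper11.ZJ
import Cfsg.Agent.S0647
import Cfsg.Agent.S0651

set_option autoImplicit false
open Cfsg

namespace Cfsg.Agent.S0653

open Cfsg.Agent.Lib.Helper11

theorem famQ_eq_image {G : Type*} [Group G] [Finite G] (P : Subgroup G) :
    famQ (fun X : Subgroup G => IsMulCommutative X) P =
      Set.image (fun A : Subgroup ↥P => A.map P.subtype) (Cfsg.maxAbelianSubgroups ↥P) := by
  ext X
  rw [Cfsg.Agent.S0651.mem_image_iff P X]
  rfl

theorem isMulCommutative_bot' {G : Type*} [Group G] : IsMulCommutative (⊥ : Subgroup G) := by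
  rw [← Subgroup.le_centralizer_iff_isMulCommutative]
  exact bot_le

/-- `Z(J(P))` (abelian version) is the intersection of the abelian subgroups of `P` of maximal order. -/
theorem centerThompsonAOf_eq_zQ {G : Type*} [Group G] [Finite G] (P : Subgroup G) :
    Cfsg.centerThompsonAOf P = zQ (fun X : Subgroup G => IsMulCommutative X) P := by
  have hne' : (famQ (fun X : Subgroup G => IsMulCommutative X) P).Nonempty :=
    famQ_nonempty isMulCommutative_bot' P
  have hne : (Cfsg.maxAbelianSubgroups ↥P).Nonempty := by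
    rw [famQ_eq_image] at hne'
    obtain ⟨_, A', hA', _⟩ := hne'
    exact ⟨A', hA'⟩
  have h647 := Cfsg.Agent.S0647.result (Cfsg.maxAbelianSubgroups ↥P) hne (fun A hA => hA.1)
    (fun A hA B hB hAB => (Subgroup.eq_of_le_of_card_ge hAB (hA.2 B hB)).symm)
  have h1 : Cfsg.centerThompsonAOf P = (sInf (Cfsg.maxAbelianSubgroups ↥P)).map P.subtype := by
    rw [h647.1]
    unfold Cfsg.centerThompsonAOf Cfsg.thompsonSubgroupAOf Cfsg.thompsonSubgroupA
    ext g
    rw [Subgroup.mem_inf, Subgroup.mem_map]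
    constructor
    · rintro ⟨⟨x, hx, rfl⟩, hg⟩
      refine ⟨x, Subgroup.mem_inf.mpr ⟨hx, ?_⟩, rfl⟩
      rw [Subgroup.mem_centralizer_iff]
      intro y hy
      rw [Subgroup.mem_centralizer_iff] at hg
      have := hg _ (Subgroup.mem_map_of_mem P.subtype hy)
      exact Subtype.ext this
    · rintro ⟨x, hx, rfl⟩
      obtain ⟨hx, hxc⟩ := Subgroup.mem_inf.mp hx
      refine ⟨Subgroup.mem_map_of_mem _ hx, ?_⟩
      rw [Subgroup.mem_centralizer_iff]
      rintro _ ⟨y, hy, rfl⟩
      rw [Subgroup.mem_centralizer_iff] at hxc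
      have := hxc y hy
      exact congrArg Subtype.val this
  rw [h1]
  ext g
  rw [mem_zQ, famQ_eq_image]
  constructor
  · rintro ⟨y, hy, rfl⟩ _ ⟨A', hA', rfl⟩
    exact Subgroup.mem_map_of_mem _ ((Subgroup.mem_sInf.mp hy) A' hA')
  · intro hg
    obtain ⟨A₀, hA₀⟩ := hne
    obtain ⟨y, -, rfl⟩ := hg _ ⟨A₀, hA₀, rfl⟩
    refine ⟨y, ?_, rfl⟩
    rw [SetLike.mem_coe, Subgroup.mem_sInf]
    intro A' hA'
    obtain ⟨y', hy', hyy'⟩ := hg _ ⟨A', hA', rfl⟩
    have : y' = y := Subtype.ext hyy'
    rwa [← this]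

/-- Glauberman's ZJ-Theorem: for odd p, if the largest normal p-subgroup of G contains its centralizer and G acts p-stably on every normal p-subgroup, then the centre of the abelian-version Thompson subgroup of a Sylow p-subgroup is a characteristic subgroup of G. -/
theorem result {G : Type*} [Group G] [Finite G] {p : ℕ} [Fact p.Prime] (hp : p ≠ 2) (hc : Subgroup.centralizer (Cfsg.pCore p G : Set G) ≤ Cfsg.pCore p G) (hst : ∀ (P : Subgroup G) [P.Normal], IsPGroup p P → Cfsg.IsPStableOn p P) (S : Sylow p G) : (Cfsg.centerThompsonAOf ((S : Subgroup G))).Characteristic := by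
  rw [centerThompsonAOf_eq_zQ]
  apply zQ_characteristic hp S _ _ hc
  refine ⟨isMulCommutative_bot', fun _ h => h, ?_, ?_, fun V _ hV => hst V hV⟩
  · intro φ X hX
    have := hX
    infer_instance
  · intro A B b hset _
    have := hset.rStar_comm S.isPGroup' (fun h => absurd h hp)
    infer_instance

end Cfsg.Agent.S0653
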