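import Cfsg.Statements.S0630
import Cfsg.Agent.Lib.Helper11.PConstrained
import Cfsg.Agent.Lib.Helper11.Stable

set_option autoImplicit false
open Cfsg

namespace Cfsg.Agent.S0630

open Cfsg.Agent.Lib.Helper11 Cfsg.Agent.Lib.Helper30

/-- `G` is `p`-constrained iff `O_p(G/O_{p'}(G))` contains its centralizer. -/
theorem isPConstrained_iff {G : Type*} [Group G] [Finite G] {p : ℕ} [Fact p.Prime] :
    IsPConstrained p G ↔
      Subgroup.centralizer (pCore p (G ⧸ pPrimeCore p G) : Set (G ⧸ pPrimeCore p G)) ≤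
        pCore p (G ⧸ pPrimeCore p G) := by
  constructor
  · intro h
    obtain ⟨P⟩ : Nonempty (Sylow p ↥(pPrimePCore p G)) := inferInstance
    rw [← map_centralizer_sylow_pPrimePCore P]
    have h1 := Subgroup.map_mono (f := QuotientGroup.mk' (pPrimeCore p G)) (h P)
    refine h1.trans ?_
    exact (Subgroup.map_comap_eq_self_of_surjective (QuotientGroup.mk'_surjective _) _).le
  · intro h Q x hx
    have h1 : (QuotientGroup.mk' (pPrimeCore p G)) x ∈
        Subgroup.centralizer (pCore p (G ⧸ pPrimeCore p G) : Set (G ⧸ pPrimeCore p G)) := by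
      rw [← map_centralizer_sylow_pPrimePCore Q]; exact Subgroup.mem_map_of_mem _ hx
    exact h h1

theorem centralizer_pCore_le_of_equiv {A B : Type*} [Group A] [Group B] (p : ℕ) (e : A ≃* B)
    (h : Subgroup.centralizer (pCore p A : Set A) ≤ pCore p A) :
    Subgroup.centralizer (pCore p B : Set B) ≤ pCore p B := by
  rw [← pCore_map_equiv' p e, ← map_centralizer_equiv]
  exact Subgroup.map_mono h

/-- p-constraint passes to and from the quotient by the largest normal subgroup of order prime to p. -/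
theorem result {G : Type*} [Group G] [Finite G] {p : ℕ} [Fact p.Prime] : Cfsg.IsPConstrained p G ↔ Cfsg.IsPConstrained p (G ⧸ Cfsg.pPrimeCore p G) := by
  rw [isPConstrained_iff, isPConstrained_iff (G := G ⧸ pPrimeCore p G)]
  have hO : pPrimeCore p (G ⧸ pPrimeCore p G) = ⊥ := pPrimeCore_quotient_eq_bot p
  have hbij : Function.Bijective (QuotientGroup.mk' (pPrimeCore p (G ⧸ pPrimeCore p G))) := by
    refine ⟨?_, QuotientGroup.mk'_surjective _⟩
    rw [← MonoidHom.ker_eq_bot_iff, QuotientGroup.ker_mk', hO]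
  let e : (G ⧸ pPrimeCore p G) ≃* (G ⧸ pPrimeCore p G) ⧸ pPrimeCore p (G ⧸ pPrimeCore p G) :=
    MulEquiv.ofBijective _ hbij
  exact ⟨centralizer_pCore_le_of_equiv p e, centralizer_pCore_le_of_equiv p e.symm⟩

end Cfsg.Agent.S0630
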