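import Cfsg.Statements.S0667
import Cfsg.Agent.Lib.Helper11.PStable
import Cfsg.Agent.Lib.Helper11.PStableOn
import Cfsg.Agent.Lib.Helper11.ZJMap
import Cfsg.Agent.Lib.Helper54.PConstr2
import Cfsg.Agent.S0653
import Cfsg.Agent.S0630

set_option autoImplicit false
open Cfsg

namespace Cfsg.Agent.S0667

open Cfsg.Agent.Lib.Helper11

/-- Glauberman's Theorem in the p-constrained, p-stable vocabulary: for odd p such a group is the product of its largest normal subgroup of order prime to p with the normalizer of Z(J(P)), and Z(J(P)) is normal when that p'-subgroup is trivial. -/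
theorem result {G : Type*} [Group G] [Finite G] {p : ℕ} [Fact p.Prime] (hp : p ≠ 2) (hc : Cfsg.IsPConstrained p G) (hs : Cfsg.IsPStable p G) (P : Sylow p G) : Cfsg.pPrimeCore p G ⊔ Subgroup.normalizer (Cfsg.centerThompsonAOf ((P : Subgroup G)) : Set G) = ⊤ ∧ (Cfsg.pPrimeCore p G = ⊥ → (Cfsg.centerThompsonAOf ((P : Subgroup G))).Normal) := by
  have hsurj : Function.Surjective (QuotientGroup.mk' (pPrimeCore p G)) :=
    QuotientGroup.mk'_surjective _
  have hOcop : (Nat.card (pPrimeCore p G)).Coprime p :=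
    Cfsg.Agent.Lib.Helper55.pPrimeCore_card_coprime p
  have hker : (Nat.card (QuotientGroup.mk' (pPrimeCore p G)).ker).Coprime p := by
    rw [QuotientGroup.ker_mk']; exact hOcop
  have h0 : pPrimeCore p (G ⧸ pPrimeCore p G) = ⊥ :=
    Cfsg.Agent.Lib.Helper30.pPrimeCore_quotient_eq_bot p
  have hs' : IsPStable p (G ⧸ pPrimeCore p G) := isPStable_map p _ hsurj hker hs
  have hc' := Cfsg.Agent.S0630.isPConstrained_iff.mp hc
  -- the ZJ-theorem in the quotient
  have hctx : ZJCtx p (P.mapSurjective hsurj)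
      (fun X : Subgroup (G ⧸ pPrimeCore p G) => IsMulCommutative X) := by
    refine ⟨Cfsg.Agent.S0653.isMulCommutative_bot', fun _ h => h, ?_, ?_,
      fun V _ hV => isPStableOn_of_isPStable h0 hs' V hV⟩
    · intro φ X hX
      have := hX
      infer_instance
    · intro A B b hset _
      have := hset.rStar_comm (P.mapSurjective hsurj).isPGroup' (fun h => absurd h hp)
      infer_instance
  have hchar := zQ_characteristic hp (P.mapSurjective hsurj) _ hctx hc'
  have hnorm' : (zQ (fun X : Subgroup (G ⧸ pPrimeCore p G) => IsMulCommutative X)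
      ((P : Subgroup G).map (QuotientGroup.mk' (pPrimeCore p G)))).Normal :=
    @Subgroup.normal_of_characteristic _ _ _ hchar
  -- identification of the image
  have hinj : ∀ x ∈ (P : Subgroup G), (QuotientGroup.mk' (pPrimeCore p G)) x = 1 → x = 1 := by
    intro x hx hx1
    have h1 : x ∈ (P : Subgroup G) ⊓ (QuotientGroup.mk' (pPrimeCore p G)).ker := ⟨hx, hx1⟩
    rw [inf_ker_eq_bot_of_isPGroup p _ hker P.isPGroup', Subgroup.mem_bot] at h1
    exact h1
  have hmap := zQ_map_of_injOn (QuotientGroup.mk' (pPrimeCore p G)) (P : Subgroup G) hinj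
    (fun X : Subgroup G => IsMulCommutative X)
    (fun X : Subgroup (G ⧸ pPrimeCore p G) => IsMulCommutative X)
    Cfsg.Agent.S0653.isMulCommutative_bot'
    (fun X _ hX => by
      have := hX
      infer_instance)
    (fun X hXP hX => by
      rw [← Subgroup.le_centralizer_iff_isMulCommutative] at hX ⊢
      intro x hx
      rw [Subgroup.mem_centralizer_iff]
      intro y hy
      have h1 := hX (Subgroup.mem_map_of_mem _ hx)
      rw [Subgroup.mem_centralizer_iff] at h1
      have h2 := h1 _ (Subgroup.mem_map_of_mem _ hy)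
      rw [← map_mul, ← map_mul] at h2
      have h3 : (QuotientGroup.mk' (pPrimeCore p G)) ((x * y)⁻¹ * (y * x)) = 1 := by
        rw [map_mul, map_inv, h2, inv_mul_cancel]
      have h4 := hinj _ ((P : Subgroup G).mul_mem ((P : Subgroup G).inv_mem
        ((P : Subgroup G).mul_mem (hXP hx) (hXP hy))) ((P : Subgroup G).mul_mem (hXP hy) (hXP hx))) h3
      exact (inv_mul_eq_one.mp h4).symm)
  rw [hmap] at hnorm'
  rw [Cfsg.Agent.S0653.centerThompsonAOf_eq_zQ]
  have hZp : IsPGroup p (zQ (fun X : Subgroup G => IsMulCommutative X) (P : Subgroup G)) :=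
    P.isPGroup'.to_le (zQ_le Cfsg.Agent.S0653.isMulCommutative_bot' _)
  -- Frattini argument
  have key : pPrimeCore p G ⊔ Subgroup.normalizer
      (zQ (fun X : Subgroup G => IsMulCommutative X) (P : Subgroup G) : Set G) = ⊤ := by
    rw [eq_top_iff]
    intro g _
    have hg : ∀ u ∈ zQ (fun X : Subgroup G => IsMulCommutative X) (P : Subgroup G),
        g * u * g⁻¹ ∈ pPrimeCore p G ⊔
          zQ (fun X : Subgroup G => IsMulCommutative X) (P : Subgroup G) := by
      intro u hu
      have h1 := hnorm'.conj_mem _ (Subgroup.mem_map_of_mem _ hu)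
        ((QuotientGroup.mk' (pPrimeCore p G)) g)
      rw [← map_inv, ← map_mul, ← map_mul] at h1
      obtain ⟨z, hz, hzu⟩ := h1
      have h2 : g * u * g⁻¹ * z⁻¹ ∈ pPrimeCore p G := by
        rw [← QuotientGroup.ker_mk' (pPrimeCore p G), MonoidHom.mem_ker, map_mul, map_inv, hzu,
          mul_inv_cancel]
      have h3 : g * u * g⁻¹ = (g * u * g⁻¹ * z⁻¹) * z := by group
      rw [h3]
      exact Subgroup.mul_mem_sup h2 hz
    obtain ⟨k, hk, hd⟩ := Cfsg.Agent.Lib.Helper54.exists_mem_normalizer_of_conj_le_sup p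
      (pPrimeCore p G) hOcop _ hZp g hg
    have h4 : g = k * (k⁻¹ * g) := by group
    rw [h4]
    exact Subgroup.mul_mem_sup hk hd
  refine ⟨key, ?_⟩
  intro hO
  rw [hO, bot_sup_eq] at key
  exact Subgroup.normalizer_eq_top_iff.mp key

end Cfsg.Agent.S0667
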