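import Cfsg.Statements.S0658
import Cfsg.Agent.S0667
import Cfsg.Agent.Lib.Helper91.Matsuyama

set_option autoImplicit false
open Cfsg

namespace Cfsg.Agent.S0658

open Cfsg.Agent.Lib.Helper11

theorem center_le_zQ {G : Type*} [Group G] [Finite G] (R : Subgroup G) {z : G} (hzR : z ∈ R)
    (hz : ∀ r ∈ R, r * z = z * r) : z ∈ zQ (fun X : Subgroup G => IsMulCommutative X) R := by
  rw [mem_zQ]
  intro A hA
  have hAc := Subgroup.le_centralizer_iff_isMulCommutative.mpr hA.2.1
  have hsup : IsMulCommutative (A ⊔ Subgroup.zpowers z : Subgroup G) := by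
    apply isMulCommutative_sup_of_commute A (Subgroup.zpowers z)
    · intro x hx y hy
      exact hAc hy x hx
    · intro x hx y hy
      obtain ⟨i, rfl⟩ := Subgroup.mem_zpowers_iff.mp hx
      obtain ⟨j, rfl⟩ := Subgroup.mem_zpowers_iff.mp hy
      rw [← zpow_add, ← zpow_add, add_comm]
    · intro a ha k hk
      obtain ⟨i, rfl⟩ := Subgroup.mem_zpowers_iff.mp hk
      exact (Commute.zpow_right (show Commute a z from hz a (hA.1 ha)) i).eq
  have hle : A ⊔ Subgroup.zpowers z ≤ R := sup_le hA.1 (Subgroup.zpowers_le.mpr hzR)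
  have hcard := hA.2.2 _ hle hsup
  have heq : A = A ⊔ Subgroup.zpowers z := Subgroup.eq_of_le_of_card_ge le_sup_left hcard
  rw [heq]
  exact (le_sup_right : Subgroup.zpowers z ≤ A ⊔ Subgroup.zpowers z) (Subgroup.mem_zpowers z)

theorem zQ_ne_bot {G : Type*} [Group G] [Finite G] {p : ℕ} [Fact p.Prime] {R : Subgroup G}
    (hR : IsPGroup p R) (hR1 : R ≠ ⊥) : zQ (fun X : Subgroup G => IsMulCommutative X) R ≠ ⊥ := by
  have : Nontrivial ↥R := (Subgroup.nontrivial_iff_ne_bot R).mpr hR1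
  have hnt : Nontrivial (Subgroup.center ↥R) := hR.center_nontrivial
  obtain ⟨z, hz⟩ := exists_ne (1 : Subgroup.center ↥R)
  intro hbot
  have h1 : ((z : ↥R) : G) ∈ zQ (fun X : Subgroup G => IsMulCommutative X) R := by
    apply center_le_zQ R (z : ↥R).2
    intro r hr
    have := Subgroup.mem_center_iff.mp z.2 ⟨r, hr⟩
    exact congrArg Subtype.val this
  rw [hbot, Subgroup.mem_bot] at h1
  apply hz
  apply Subtype.ext
  apply Subtype.ext
  exact h1

/-- Claim A: a `p`-local with the three properties normalizes `Z(J(T))` for its Sylow `p`-subgroups `T`. -/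
theorem normalizer_le_normalizer_zQ_sylow {G : Type*} [Group G] [Finite G] {p : ℕ} [Fact p.Prime]
    (hp : p ≠ 2) (N : Subgroup G) (h0 : pPrimeCore p ↥N = ⊥) (hc : IsPConstrained p ↥N)
    (hs : IsPStable p ↥N) (T' : Sylow p ↥N) :
    N ≤ Subgroup.normalizer (zQ (fun X : Subgroup G => IsMulCommutative X)
      ((T' : Subgroup ↥N).map N.subtype) : Set G) := by
  have hN := (Cfsg.Agent.S0667.result hp hc hs T').2 h0
  rw [Cfsg.Agent.S0653.centerThompsonAOf_eq_zQ] at hN
  have hmap := zQ_map_of_injOn N.subtype (T' : Subgroup ↥N)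
    (fun x _ hx => N.subtype_injective (by rw [hx]; rfl))
    (fun X : Subgroup ↥N => IsMulCommutative X) (fun X : Subgroup G => IsMulCommutative X)
    Cfsg.Agent.S0653.isMulCommutative_bot'
    (fun X _ hX => by
      have := hX
      infer_instance)
    (fun X _ hX => by
      rw [← Subgroup.le_centralizer_iff_isMulCommutative] at hX ⊢
      intro a ha
      rw [Subgroup.mem_centralizer_iff]
      intro b hb
      have h1 := hX (Subgroup.mem_map_of_mem N.subtype ha)
      rw [Subgroup.mem_centralizer_iff] at h1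
      have h2 := h1 _ (Subgroup.mem_map_of_mem N.subtype hb)
      exact Subtype.ext h2)
  rw [hmap]
  intro n hn
  apply mem_normalizer_of_conj_mem
  rintro _ ⟨w, hw, rfl⟩
  exact ⟨⟨n, hn⟩ * w * ⟨n, hn⟩⁻¹, hN.conj_mem w hw ⟨n, hn⟩, rfl⟩

/-- Sylow's theorem inside a subgroup `M` containing the Sylow subgroup `P`. -/
theorem exists_conj_mem_sylow {G : Type*} [Group G] [Finite G] {p : ℕ} [Fact p.Prime]
    (M : Subgroup G) (P : Sylow p G) (hPM : (P : Subgroup G) ≤ M) (U : Subgroup G) (hUM : U ≤ M)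
    (hU : IsPGroup p U) : ∃ m ∈ M, ∀ u ∈ U, m⁻¹ * u * m ∈ (P : Subgroup G) := by
  obtain ⟨S', hS'⟩ := (hU.comap_subtype : IsPGroup p (U.subgroupOf M)).exists_le_sylow
  obtain ⟨m, hm⟩ := MulAction.exists_smul_eq ↥M (P.subtype hPM) S'
  refine ⟨m, m.2, ?_⟩
  intro u hu
  have h1 : (⟨u, hUM hu⟩ : ↥M) ∈ (S' : Subgroup ↥M) := hS' (Subgroup.mem_subgroupOf.mpr hu)
  rw [← hm] at h1
  have h2 : (⟨u, hUM hu⟩ : ↥M) ∈
      ((P.subtype hPM : Sylow p ↥M) : Subgroup ↥M).map (MulAut.conj m).toMonoidHom := h1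
  obtain ⟨x, hx, hxu⟩ := h2
  rw [Sylow.coe_subtype, SetLike.mem_coe, Subgroup.mem_subgroupOf] at hx
  have h3 : (m : G) * (x : G) * (m : G)⁻¹ = u := congrArg Subtype.val hxu
  have h4 : (m : G)⁻¹ * u * (m : G) = (x : G) := by
    rw [← h3]; group
  rw [h4]; exact hx

/-- In a group of characteristic p type all of whose p-locals are p-stable (p odd), the normalizer of Z(J(P)) contains the normalizer of every nontrivial subgroup of the Sylow p-subgroup P. -/
theorem result {G : Type*} [Group G] [Finite G] {p : ℕ} [Fact p.Prime] (hp : p ≠ 2) (hloc : ∀ Q : Subgroup G, IsPGroup p Q → Q ≠ ⊥ → Cfsg.pPrimeCore p ↥(Subgroup.normalizer (Q : Set G)) = ⊥ ∧ Cfsg.IsPConstrained p ↥(Subgroup.normalizer (Q : Set G)) ∧ Cfsg.IsPStable p ↥(Subgroup.normalizer (Q : Set G))) (P : Sylow p G) (Q : Subgroup G) (hQP : Q ≤ (P : Subgroup G)) (hQ1 : Q ≠ ⊥) : Subgroup.normalizer (Q : Set G) ≤ Subgroup.normalizer (Cfsg.centerThompsonAOf ((P : Subgroup G)) : Set G) := by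
  classical
  rw [Cfsg.Agent.S0653.centerThompsonAOf_eq_zQ]
  have hmapQ : ∀ (φ : G ≃* G) (X : Subgroup G), IsMulCommutative X →
      IsMulCommutative (X.map φ.toMonoidHom) := by
    intro φ X hX
    have := hX
    infer_instance
  have hbotQ : IsMulCommutative (⊥ : Subgroup G) := Cfsg.Agent.S0653.isMulCommutative_bot'
  by_contra hcon
  obtain ⟨M, hM⟩ : ∃ M : Subgroup G, M = Subgroup.normalizer
      (zQ (fun X : Subgroup G => IsMulCommutative X) (P : Subgroup G) : Set G) := ⟨_, rfl⟩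
  rw [← hM] at hcon
  have hne : {Q : Subgroup G | Q ≤ (P : Subgroup G) ∧ Q ≠ ⊥ ∧
      ¬ Subgroup.normalizer (Q : Set G) ≤ M}.Nonempty := ⟨Q, hQP, hQ1, hcon⟩
  obtain ⟨Q₀, hQ₀, hmax⟩ := Set.exists_max_image _
    (fun Q : Subgroup G => Nat.card (Subgroup.normalizer (Q : Set G) ⊓ (P : Subgroup G) : Subgroup G))
    (Set.toFinite {Q : Subgroup G | Q ≤ (P : Subgroup G) ∧ Q ≠ ⊥ ∧
      ¬ Subgroup.normalizer (Q : Set G) ≤ M}) hne
  obtain ⟨hQ₀P, hQ₀1, hQ₀M⟩ := hQ₀
  obtain ⟨N, hN⟩ : ∃ N : Subgroup G, N = Subgroup.normalizer (Q₀ : Set G) := ⟨_, rfl⟩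
  obtain ⟨R, hR⟩ : ∃ R : Subgroup G, R = N ⊓ (P : Subgroup G) := ⟨_, rfl⟩
  have hRP : R ≤ (P : Subgroup G) := hR ▸ inf_le_right
  have hRN : R ≤ N := hR ▸ inf_le_left
  have hQ₀R : Q₀ ≤ R := by
    rw [hR, hN]; exact le_inf Subgroup.le_normalizer hQ₀P
  have hRp : IsPGroup p R := P.isPGroup'.to_le hRP
  have hR1 : R ≠ ⊥ := fun h => hQ₀1 (le_bot_iff.mp (h ▸ hQ₀R))
  have hbig : ∀ U : Subgroup G, U ≤ (P : Subgroup G) → U ≠ ⊥ →
      Nat.card R < Nat.card (Subgroup.normalizer (U : Set G) ⊓ (P : Subgroup G) : Subgroup G) →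
      Subgroup.normalizer (U : Set G) ≤ M := by
    intro U hUP hU1 hlt
    by_contra h
    have h1 := hmax U ⟨hUP, hU1, h⟩
    rw [← hN, ← hR] at h1
    exact absurd h1 (not_le.mpr hlt)
  have hPM : (P : Subgroup G) ≤ M := by
    rw [hM]
    exact Subgroup.le_normalizer.trans (normalizer_le_normalizer_zQ hmapQ _)
  -- a Sylow subgroup of `N` containing `R`
  obtain ⟨T', hT'⟩ := (hRp.comap_subtype : IsPGroup p (R.subgroupOf N)).exists_le_sylow
  obtain ⟨T, hT⟩ : ∃ T : Subgroup G, T = (T' : Subgroup ↥N).map N.subtype := ⟨_, rfl⟩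
  have hRT : R ≤ T := by
    intro r hr
    rw [hT]
    exact ⟨⟨r, hRN hr⟩, hT' (Subgroup.mem_subgroupOf.mpr hr), rfl⟩
  have hTN : T ≤ N := hT ▸ Subgroup.map_subtype_le _
  have hTp : IsPGroup p T := hT ▸ T'.isPGroup'.map _
  have hlocN := hloc Q₀ (P.isPGroup'.to_le hQ₀P) hQ₀1
  rw [← hN] at hlocN
  obtain ⟨h0, hcN, hsN⟩ := hlocN
  have hA := normalizer_le_normalizer_zQ_sylow hp N h0 hcN hsN T'
  rw [← hT] at hA
  rcases eq_or_lt_of_le hRT with hRT' | hRT'
  · -- `R = T` is a Sylow subgroup of `N`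
    rw [← hRT'] at hA
    by_cases hRP' : R = (P : Subgroup G)
    · apply hQ₀M
      rw [hRP'] at hA
      rw [hM, ← hN]; exact hA
    · have hRltP : R < (P : Subgroup G) := lt_of_le_of_ne hRP hRP'
      have hgrow := Cfsg.Agent.Lib.Helper91.lt_normalizer_inf_of_isPGroup P.isPGroup' hRltP
      have hQ'P : zQ (fun X : Subgroup G => IsMulCommutative X) R ≤ (P : Subgroup G) :=
        (zQ_le hbotQ R).trans hRP
      have hQ'1 := zQ_ne_bot hRp hR1
      have hle : Subgroup.normalizer (R : Set G) ⊓ (P : Subgroup G) ≤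
          Subgroup.normalizer (zQ (fun X : Subgroup G => IsMulCommutative X) R : Set G) ⊓
            (P : Subgroup G) :=
        inf_le_inf_right _ (normalizer_le_normalizer_zQ hmapQ R)
      have hcard := (card_lt_of_lt hgrow).trans_le (Subgroup.card_le_of_le hle)
      apply hQ₀M
      rw [← hN]
      exact hA.trans (hbig _ hQ'P hQ'1 hcard)
  · -- `R < T`
    have hgrow := Cfsg.Agent.Lib.Helper91.lt_normalizer_inf_of_isPGroup hTp hRT'
    have hRltP : R < (P : Subgroup G) := by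
      refine lt_of_le_of_ne hRP ?_
      intro hRP'
      have hPT : (P : Subgroup G) ≤ T := hRP' ▸ hRT
      have := P.is_maximal' hTp hPT
      exact hRT'.ne (hRP'.trans this.symm)
    have hgrowP := Cfsg.Agent.Lib.Helper91.lt_normalizer_inf_of_isPGroup P.isPGroup' hRltP
    have hNR : Subgroup.normalizer (R : Set G) ≤ M := hbig R hRP hR1 (card_lt_of_lt hgrowP)
    have hUM : Subgroup.normalizer (R : Set G) ⊓ T ≤ M := inf_le_left.trans hNR
    have hUp : IsPGroup p (Subgroup.normalizer (R : Set G) ⊓ T : Subgroup G) :=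
      hTp.to_le inf_le_right
    obtain ⟨m, hmM, hm⟩ := exists_conj_mem_sylow M P hPM _ hUM hUp
    have hQ₀U : Q₀ ≤ Subgroup.normalizer (R : Set G) ⊓ T := hQ₀R.trans hgrow.le
    -- the conjugate `Q₁ = m⁻¹ Q₀ m`
    have hQ₁P : Q₀.map (MulAut.conj m⁻¹).toMonoidHom ≤ (P : Subgroup G) := by
      rintro _ ⟨q, hq, rfl⟩
      have := hm q (hQ₀U hq)
      simpa [MulAut.conj_apply] using this
    have hQ₁1 : Q₀.map (MulAut.conj m⁻¹).toMonoidHom ≠ ⊥ := by
      intro h
      rw [Subgroup.map_eq_bot_iff_of_injective _ (MulAut.conj m⁻¹).injective] at h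
      exact hQ₀1 h
    have hconjN : ∀ n ∈ N, m⁻¹ * n * m ∈
        Subgroup.normalizer ((Q₀.map (MulAut.conj m⁻¹).toMonoidHom : Subgroup G) : Set G) := by
      intro n hn
      apply mem_normalizer_of_conj_mem
      rintro _ ⟨q, hq, rfl⟩
      rw [hN] at hn
      have h1 : n * q * n⁻¹ ∈ Q₀ := (Subgroup.mem_normalizer_iff.mp hn q).mp hq
      refine ⟨n * q * n⁻¹, h1, ?_⟩
      simp only [MulEquiv.coe_toMonoidHom, MulAut.conj_apply, inv_inv]
      group
    have hQ₁M : ¬ Subgroup.normalizer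
        ((Q₀.map (MulAut.conj m⁻¹).toMonoidHom : Subgroup G) : Set G) ≤ M := by
      intro h
      apply hQ₀M
      rw [← hN]
      intro n hn
      have h1 := h (hconjN n hn)
      have h2 := M.mul_mem (M.mul_mem hmM h1) (M.inv_mem hmM)
      have h3 : m * (m⁻¹ * n * m) * m⁻¹ = n := by group
      rwa [h3] at h2
    have hcard : Nat.card R < Nat.card (Subgroup.normalizer
        ((Q₀.map (MulAut.conj m⁻¹).toMonoidHom : Subgroup G) : Set G) ⊓ (P : Subgroup G) :
          Subgroup G) := by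
      have h1 : (Subgroup.normalizer (R : Set G) ⊓ T).map (MulAut.conj m⁻¹).toMonoidHom ≤
          Subgroup.normalizer ((Q₀.map (MulAut.conj m⁻¹).toMonoidHom : Subgroup G) : Set G) ⊓
            (P : Subgroup G) := by
        rintro _ ⟨u, hu, rfl⟩
        refine Subgroup.mem_inf.mpr ⟨?_, ?_⟩
        · have := hconjN u (hTN (Subgroup.mem_inf.mp hu).2)
          simpa [MulAut.conj_apply] using this
        · have := hm u hu
          simpa [MulAut.conj_apply] using this
      have h2 : Nat.card ((Subgroup.normalizer (R : Set G) ⊓ T).map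
          (MulAut.conj m⁻¹).toMonoidHom) = Nat.card (Subgroup.normalizer (R : Set G) ⊓ T : Subgroup G) :=
        card_map_equiv' (MulAut.conj m⁻¹) _
      calc Nat.card R < Nat.card (Subgroup.normalizer (R : Set G) ⊓ T : Subgroup G) :=
            card_lt_of_lt hgrow
        _ = _ := h2.symm
        _ ≤ _ := Subgroup.card_le_of_le h1
    have h1 := hmax _ ⟨hQ₁P, hQ₁1, hQ₁M⟩
    rw [← hN, ← hR] at h1
    exact absurd h1 (not_le.mpr hcard)

end Cfsg.Agent.S0658
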