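import Cfsg.Statements.S0659
import Cfsg.Agent.Lib.Helper11.PStabAbelian
import Cfsg.Agent.Lib.Helper11.ThompsonCrit
import Cfsg.Agent.Lib.Helper11.ZJMap
import Cfsg.Agent.S0653
import Cfsg.Agent.S0658

set_option autoImplicit false
open Cfsg

namespace Cfsg.Agent.S0659

open Cfsg.Agent.Lib.Helper11

universe u

/-- the functor `Q ↦ Z(J(Q))` (abelian version): the intersection of the abelian subgroups of
maximal order -/
def WA (Q : Type u) [Group Q] : Subgroup Q :=
  zQ (fun X : Subgroup Q => IsMulCommutative X) ⊤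

theorem isMulCommutative_of_map {G H : Type*} [Group G] [Group H] (ι : G →* H) (P X : Subgroup G)
    (hinj : ∀ x ∈ P, ι x = 1 → x = 1) (hXP : X ≤ P) (h : IsMulCommutative (X.map ι)) :
    IsMulCommutative X := by
  refine ⟨⟨fun a b => ?_⟩⟩
  have h1 := h.is_comm.comm ⟨ι a, Subgroup.mem_map_of_mem ι a.2⟩
    ⟨ι b, Subgroup.mem_map_of_mem ι b.2⟩
  have h2 : ι (a : G) * ι (b : G) = ι (b : G) * ι (a : G) := congrArg Subtype.val h1
  have h3 : ι (((a : G) * (b : G))⁻¹ * ((b : G) * (a : G))) = 1 := by
    rw [map_mul, map_inv, map_mul, map_mul, h2, inv_mul_cancel]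
  have h4 := hinj _ (P.mul_mem (P.inv_mem (P.mul_mem (hXP a.2) (hXP b.2)))
    (P.mul_mem (hXP b.2) (hXP a.2))) h3
  exact Subtype.ext (inv_mul_eq_one.mp h4)

theorem zQ_map_comm {G H : Type*} [Group G] [Group H] [Finite G] (ι : G →* H) (P : Subgroup G)
    (hinj : ∀ x ∈ P, ι x = 1 → x = 1) :
    zQ (fun X : Subgroup H => IsMulCommutative X) (P.map ι) =
      (zQ (fun X : Subgroup G => IsMulCommutative X) P).map ι := by
  apply zQ_map_of_injOn ι P hinj (fun X : Subgroup G => IsMulCommutative X)
    (fun X : Subgroup H => IsMulCommutative X) Cfsg.Agent.S0653.isMulCommutative_bot'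
  · intro X _ hX
    have := hX
    infer_instance
  · intro X hXP hX
    exact isMulCommutative_of_map ι P X hinj hXP hX

theorem inducedFunctor_WA {X : Type u} [Group X] [Finite X] (P : Subgroup X) :
    inducedFunctor WA P = centerThompsonAOf P := by
  rw [Cfsg.Agent.S0653.centerThompsonAOf_eq_zQ]
  unfold inducedFunctor WA
  have h := zQ_map_comm P.subtype (⊤ : Subgroup ↥P)
    (fun x _ hx => Subtype.ext hx)
  rw [← h, ← MonoidHom.range_eq_map, Subgroup.range_subtype]

theorem isCharPFunctor_WA (p : ℕ) [Fact p.Prime] : IsCharPFunctor.{u} p WA := by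
  refine ⟨?_, ?_⟩
  · intro Q _ _ hQ hnt
    unfold WA
    apply Cfsg.Agent.S0658.zQ_ne_bot (p := p) (hQ.to_subgroup ⊤)
    exact (Subgroup.nontrivial_iff_ne_bot _).mp inferInstance
  · intro Q R _ _ _ _ φ
    unfold WA
    have h := zQ_map_comm φ.toMonoidHom (⊤ : Subgroup Q)
      (fun x _ hx => φ.injective (by rw [map_one]; exact hx))
    rw [← h, Subgroup.map_top_of_surjective φ.toMonoidHom φ.surjective]

/-- Glauberman's normal p-complement Theorem with the abelian-version Thompson subgroup: for odd p, G has a normal p-complement whenever the normalizer of Z(J(P)) does. -/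
theorem result {G : Type*} [Group G] [Finite G] {p : ℕ} [Fact p.Prime] (hp : p ≠ 2) (P : Sylow p G) (hN : Cfsg.HasNormalPComplement p ↥(Subgroup.normalizer (Cfsg.centerThompsonAOf ((P : Subgroup G)) : Set G))) : Cfsg.HasNormalPComplement p G := by
  refine thompson_criterion p WA (isCharPFunctor_WA p) (fun _ _ => True) (fun _ _ _ _ => trivial)
    (fun _ _ _ _ _ => trivial) ?_ _ G trivial rfl P (by rw [inducedFunctor_WA]; exact hN)
  intro X _ _ _ hc hq T hT
  rw [inducedFunctor_WA]
  have h := Cfsg.Agent.S0653.result hp hc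
    (fun V _ hV => isPStableOn_of_coatom hp hq T hT V hV) T
  exact Subgroup.normal_of_characteristic _

end Cfsg.Agent.S0659
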