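import Cfsg.Statements.S0652
import Cfsg.Agent.Lib.Helper11.ReplProp
import Cfsg.Agent.Lib.Helper11.Stable

set_option autoImplicit false
open Cfsg

namespace Cfsg.Agent.S0652

open Cfsg.Agent.Lib.Helper11

theorem isElementaryAbelian_subgroupOf {S : Type*} [Group S] (p : ℕ) (D Y : Subgroup S)
    (hY : IsElementaryAbelian p Y) : IsElementaryAbelian p (Y.subgroupOf D) := by
  obtain ⟨hc, hp⟩ := hY
  refine ⟨?_, ?_⟩
  · haveI := hc; infer_instance
  · intro a ha
    rw [Subgroup.mem_subgroupOf] at ha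
    apply Subtype.ext
    have := hp _ ha
    simpa using this

theorem mem_image_iff {S : Type*} [Group S] [Finite S] (p : ℕ) (D : Subgroup S) (X : Subgroup S) :
    X ∈ (Set.image (fun A : Subgroup ↥D => A.map D.subtype)
        (Cfsg.maxElementaryAbelianSubgroups p ↥D)) ↔
      X ≤ D ∧ IsElementaryAbelian p X ∧
        ∀ Y, Y ≤ D → IsElementaryAbelian p Y → Nat.card Y ≤ Nat.card X := by
  constructor
  · rintro ⟨A', ⟨hA'c, hA'max⟩, rfl⟩
    refine ⟨Subgroup.map_subtype_le A', ?_, ?_⟩
    · exact (isElementaryAbelian_map_of_injective p _ D.subtype_injective A').mpr hA'c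
    · intro Y hYD hYc
      have h2 := hA'max _ (isElementaryAbelian_subgroupOf p D Y hYc)
      have h3 : Nat.card (Y.subgroupOf D) = Nat.card Y :=
        Nat.card_congr (Subgroup.subgroupOfEquivOfLe hYD).toEquiv
      have h4 : Nat.card (A'.map D.subtype) = Nat.card A' :=
        Subgroup.card_map_of_injective D.subtype_injective
      rw [h4, ← h3]; exact h2
  · rintro ⟨hXD, hXc, hXmax⟩
    refine ⟨X.subgroupOf D, ⟨?_, ?_⟩, Subgroup.map_subgroupOf_eq_of_le hXD⟩
    · exact isElementaryAbelian_subgroupOf p D X hXc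
    · intro B' hB'c
      have h1 := (isElementaryAbelian_map_of_injective p _ D.subtype_injective B').mpr hB'c
      have h2 := hXmax _ (Subgroup.map_subtype_le B') h1
      have h3 : Nat.card (X.subgroupOf D) = Nat.card X :=
        Nat.card_congr (Subgroup.subgroupOfEquivOfLe hXD).toEquiv
      have h4 : Nat.card (B'.map D.subtype) = Nat.card B' :=
        Subgroup.card_map_of_injective D.subtype_injective
      rw [h3, ← h4]; exact h2

theorem result {S : Type*} [Group S] [Finite S] {p : ℕ} [Fact p.Prime] (hS : IsPGroup p S) (hp : p ≠ 2) (D : Subgroup S) [D.Normal] : ∀ (B : Subgroup S) [B.Normal], ⁅⁅B, B⁆, B⁆ = ⊥ → (∃ U ∈ (Set.image (fun A : Subgroup ↥D => A.map D.subtype) (Cfsg.maxElementaryAbelianSubgroups p ↥D)), ⁅B, B⁆ ≤ U ∧ ¬ B ≤ U) → ∃ A ∈ (Set.image (fun A : Subgroup ↥D => A.map D.subtype) (Cfsg.maxElementaryAbelianSubgroups p ↥D)), ⁅B, B⁆ ≤ A ∧ ¬ B ≤ A ∧ B ≤ Subgroup.normalizer (A : Set S) := by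
  intro B _ _ hex
  have hodd : Odd p := (Fact.out : p.Prime).odd_of_ne_two hp
  exact replacement_general hS hp D (fun X => IsElementaryAbelian p X) (fun _ h => h.1)
    (fun A B b hset hA => ⟨hset.rStar_comm hS (fun h => absurd h hp),
      fun x hx => hset.rStar_pow hS (fun h => absurd h hp) p hodd hA.2 hx⟩)
    B _ (mem_image_iff p D) hex

end Cfsg.Agent.S0652
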