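import Cfsg.Statements.S0655

set_option autoImplicit false
open Cfsg

namespace Cfsg.Agent.S0655

theorem isElementaryAbelian_bot {S : Type*} [Group S] (p : ℕ) :
    Cfsg.IsElementaryAbelian p (⊥ : Subgroup S) := by
  refine ⟨?_, ?_⟩
  · exact Subgroup.le_centralizer_iff_isMulCommutative.mp (bot_le)
  · intro a ha
    rw [Subgroup.mem_bot] at ha
    subst ha
    simp

theorem exists_maxElementaryAbelian {S : Type*} [Group S] [Finite S] (p : ℕ) :
    (Cfsg.maxElementaryAbelianSubgroups p S).Nonempty := by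
  haveI : Nonempty {A : Subgroup S // Cfsg.IsElementaryAbelian p A} :=
    ⟨⟨⊥, isElementaryAbelian_bot p⟩⟩
  obtain ⟨A, hA⟩ := Finite.exists_max
    (fun A : {A : Subgroup S // Cfsg.IsElementaryAbelian p A} => Nat.card (A : Subgroup S))
  exact ⟨A.1, A.2, fun B hB => hA ⟨B, hB⟩⟩

theorem isElementaryAbelian_closure_insert {S : Type*} [Group S] (p : ℕ) (A : Subgroup S)
    (hA : Cfsg.IsElementaryAbelian p A) (x : S) (hx : x ∈ Subgroup.centralizer (A : Set S))
    (hxp : x ^ p = 1) :
    Cfsg.IsElementaryAbelian p (Subgroup.closure ((A : Set S) ∪ {x})) := by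
  have hcomm : ∀ y ∈ (A : Set S) ∪ {x}, ∀ z ∈ (A : Set S) ∪ {x}, y * z = z * y := by
    have hAc := Subgroup.le_centralizer_iff_isMulCommutative.mpr hA.1
    rintro y (hy | hy) z (hz | hz)
    · exact (hAc hz y hy)
    · rw [Set.mem_singleton_iff] at hz; subst hz
      exact (hx y hy)
    · rw [Set.mem_singleton_iff] at hy; subst hy
      exact (hx z hz).symm
    · rw [Set.mem_singleton_iff] at hy hz; subst hy; subst hz; rfl
  have hB : IsMulCommutative (Subgroup.closure ((A : Set S) ∪ {x})) :=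
    Subgroup.isMulCommutative_closure hcomm
  refine ⟨hB, ?_⟩
  have hBc := Subgroup.le_centralizer_iff_isMulCommutative.mpr hB
  intro a ha
  induction ha using Subgroup.closure_induction with
  | mem y hy =>
    rcases hy with hy | hy
    · exact hA.2 y hy
    · rw [Set.mem_singleton_iff] at hy; subst hy; exact hxp
  | one => simp
  | mul y z hy hz ihy ihz =>
    have hc : Commute y z := (hBc hy z hz).symm
    rw [hc.mul_pow, ihy, ihz, one_mul]
  | inv y hy ihy => rw [inv_pow, ihy, inv_one]

theorem mem_of_mem_centralizer {S : Type*} [Group S] [Finite S] (p : ℕ) (A : Subgroup S)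
    (hA : A ∈ Cfsg.maxElementaryAbelianSubgroups p S) (x : S)
    (hx : x ∈ Subgroup.centralizer (A : Set S)) (hxp : x ^ p = 1) : x ∈ A := by
  have hB := isElementaryAbelian_closure_insert p A hA.1 x hx hxp
  have hle : A ≤ Subgroup.closure ((A : Set S) ∪ {x}) := fun a ha =>
    Subgroup.subset_closure (Or.inl ha)
  have hcard := hA.2 _ hB
  have := Subgroup.eq_of_le_of_card_ge hle hcard
  rw [this]
  exact Subgroup.subset_closure (Or.inr rfl)

theorem sInf_le_omegaCenterThompson {S : Type*} [Group S] [Finite S] (p : ℕ) :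
    sInf (Cfsg.maxElementaryAbelianSubgroups p S) ≤ Cfsg.omegaCenterThompson p S := by
  intro y hy
  obtain ⟨A₀, hA₀⟩ := exists_maxElementaryAbelian (S := S) p
  have hyA : ∀ A ∈ Cfsg.maxElementaryAbelianSubgroups p S, y ∈ A := fun A hA =>
    (sInf_le hA) hy
  unfold Cfsg.omegaCenterThompson Cfsg.omegaOne
  apply Subgroup.subset_closure
  refine ⟨⟨?_, ?_⟩, ?_⟩
  · exact (le_sSup hA₀) (hyA A₀ hA₀)
  · have : sInf (Cfsg.maxElementaryAbelianSubgroups p S) ≤
        Subgroup.centralizer ((Cfsg.thompsonSubgroup p S : Subgroup S) : Set S) := by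
      rw [Subgroup.le_centralizer_iff]
      unfold Cfsg.thompsonSubgroup
      apply sSup_le
      intro A hA
      rw [Subgroup.le_centralizer_iff]
      have hAc := Subgroup.le_centralizer_iff_isMulCommutative.mpr hA.1.1
      exact (sInf_le hA).trans hAc
    exact this hy
  · exact hA₀.1.2 y (hyA A₀ hA₀)

theorem omegaOne_mono {G : Type*} [Group G] (p : ℕ) {H K : Subgroup G} (h : H ≤ K) :
    Cfsg.omegaOne p H ≤ Cfsg.omegaOne p K := by
  unfold Cfsg.omegaOne
  apply Subgroup.closure_mono
  rintro x ⟨hx, hxp⟩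
  exact ⟨h hx, hxp⟩

theorem omegaOne_centralizer_le_sInf {S : Type*} [Group S] [Finite S] (p : ℕ) :
    Cfsg.omegaOne p (Subgroup.centralizer (Cfsg.thompsonSubgroup p S : Set S)) ≤
      sInf (Cfsg.maxElementaryAbelianSubgroups p S) := by
  unfold Cfsg.omegaOne
  rw [Subgroup.closure_le]
  rintro x ⟨hx, hxp⟩
  rw [SetLike.mem_coe, Subgroup.mem_sInf]
  intro A hA
  apply mem_of_mem_centralizer p A hA x _ hxp
  exact Subgroup.centralizer_le (show (A : Set S) ⊆ (Cfsg.thompsonSubgroup p S : Set S) from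
    le_sSup hA) hx

theorem result {S : Type*} [Group S] [Finite S] {p : ℕ} [Fact p.Prime] (hS : IsPGroup p S) : sInf (Cfsg.maxElementaryAbelianSubgroups p S) = Cfsg.omegaCenterThompson p S ∧ Cfsg.omegaCenterThompson p S = Cfsg.omegaOne p (Subgroup.centralizer (Cfsg.thompsonSubgroup p S : Set S)) := by
  have h1 := sInf_le_omegaCenterThompson (S := S) p
  have h2 : Cfsg.omegaCenterThompson p S ≤
      Cfsg.omegaOne p (Subgroup.centralizer (Cfsg.thompsonSubgroup p S : Set S)) :=
    omegaOne_mono p inf_le_right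
  have h3 := omegaOne_centralizer_le_sInf (S := S) p
  exact ⟨le_antisymm h1 (h2.trans h3), le_antisymm h2 (h3.trans h1)⟩

end Cfsg.Agent.S0655
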