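import Cfsg.Statements.S0654
import Cfsg.Agent.Lib.Helper11.ZJ
import Cfsg.Agent.S0655
import Cfsg.Agent.S0652

set_option autoImplicit false
open Cfsg

namespace Cfsg.Agent.S0654

open Cfsg.Agent.Lib.Helper11

theorem famQ_eq_image {G : Type*} [Group G] [Finite G] (p : ℕ) (P : Subgroup G) :
    famQ (fun X : Subgroup G => IsElementaryAbelian p X) P =
      Set.image (fun A : Subgroup ↥P => A.map P.subtype)
        (Cfsg.maxElementaryAbelianSubgroups p ↥P) := by
  ext X
  rw [Cfsg.Agent.S0652.mem_image_iff p P X]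
  rfl

theorem isElementaryAbelian_bot' {G : Type*} [Group G] (p : ℕ) :
    IsElementaryAbelian p (⊥ : Subgroup G) := by
  refine ⟨?_, ?_⟩
  · rw [← Subgroup.le_centralizer_iff_isMulCommutative]
    exact bot_le
  · intro a ha
    rw [Subgroup.mem_bot] at ha
    rw [ha, one_pow]

/-- `Ω₁(Z(J_e(P)))` is the intersection of the elementary abelian subgroups of `P` of maximal order. -/
theorem omegaCenterThompson_map_eq_zQ {G : Type*} [Group G] [Finite G] {p : ℕ} [Fact p.Prime]
    (P : Subgroup G) (hP : IsPGroup p P) :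
    (Cfsg.omegaCenterThompson p ↥P).map P.subtype =
      zQ (fun X : Subgroup G => IsElementaryAbelian p X) P := by
  have hne' : (famQ (fun X : Subgroup G => IsElementaryAbelian p X) P).Nonempty :=
    famQ_nonempty (isElementaryAbelian_bot' p) P
  have hne : (Cfsg.maxElementaryAbelianSubgroups p ↥P).Nonempty := by
    rw [famQ_eq_image] at hne'
    obtain ⟨_, A', hA', _⟩ := hne'
    exact ⟨A', hA'⟩
  rw [← (Cfsg.Agent.S0655.result hP).1]
  ext g
  rw [mem_zQ, famQ_eq_image]
  constructor
  · rintro ⟨y, hy, rfl⟩ _ ⟨A', hA', rfl⟩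
    exact Subgroup.mem_map_of_mem _ ((Subgroup.mem_sInf.mp hy) A' hA')
  · intro hg
    obtain ⟨A₀, hA₀⟩ := hne
    obtain ⟨y, -, rfl⟩ := hg _ ⟨A₀, hA₀, rfl⟩
    refine ⟨y, ?_, rfl⟩
    rw [SetLike.mem_coe, Subgroup.mem_sInf]
    intro A' hA'
    obtain ⟨y', hy', hyy'⟩ := hg _ ⟨A', hA', rfl⟩
    have : y' = y := Subtype.ext hyy'
    rwa [← this]

/-- The ZJ-Theorem for the elementary-abelian Thompson subgroup: for an odd prime p, a finite group G with C_G(O_p(G)) ≤ O_p(G) acting p-stably on its normal p-subgroups, and a Sylow p-subgroup S of G, the subgroup generated by the elements of order dividing p in Z(J_e(S)) is characteristic in G. -/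
theorem result {G : Type*} [Group G] [Finite G] {p : ℕ} [Fact p.Prime] (hp : p ≠ 2) (hc : Subgroup.centralizer (Cfsg.pCore p G : Set G) ≤ Cfsg.pCore p G) (hst : ∀ (P : Subgroup G) [P.Normal], IsPGroup p P → Cfsg.IsPStableOn p P) (S : Sylow p G) : ((Cfsg.omegaCenterThompson p ↥(S : Subgroup G)).map (S : Subgroup G).subtype).Characteristic := by
  rw [omegaCenterThompson_map_eq_zQ _ S.isPGroup']
  apply zQ_characteristic hp S _ _ hc
  have hodd : Odd p := (Fact.out : p.Prime).odd_of_ne_two hp
  refine ⟨isElementaryAbelian_bot' p, fun _ h => h.1, ?_, ?_, fun V _ hV => hst V hV⟩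
  · intro φ X hX
    exact (isElementaryAbelian_map_of_injective p φ.toMonoidHom φ.injective X).mpr hX
  · intro A B b hset hA
    have hA' : IsElementaryAbelian p A :=
      (isElementaryAbelian_map_of_injective p _ (S : Subgroup G).subtype_injective A).mp hA
    apply (isElementaryAbelian_map_of_injective p _ (S : Subgroup G).subtype_injective _).mpr
    exact ⟨hset.rStar_comm S.isPGroup' (fun h => absurd h hp),
      fun x hx => hset.rStar_pow S.isPGroup' (fun h => absurd h hp) p hodd hA'.2 hx⟩

end Cfsg.Agent.S0654
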