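import Cfsg.Statements.S3079
import Cfsg.Agent.Lib.Helper11.ZJClosed
import Cfsg.Agent.S0653
import Cfsg.Agent.S0654

set_option autoImplicit false
open Cfsg

namespace Cfsg.Agent.S3079

open Cfsg.Agent.Lib.Helper11

/-- normalizer-form `p`-stability gives `p`-stability of the action on every normal `p`-subgroup -/
theorem isPStableOn_of_isNormalizerPStable {G : Type*} [Group G] [Finite G] {p : ℕ} [Fact p.Prime]
    (hst : IsNormalizerPStable p G) (V : Subgroup G) [hVn : V.Normal] (hV : IsPGroup p V) :
    IsPStableOn p V := by
  intro a hquad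
  have hN : ∀ g : G, g ∈ Subgroup.normalizer (V : Set G) := fun g => by
    rw [Subgroup.normalizer_eq_top_iff.mpr hVn]; trivial
  have h1 := hst V hV a (hN a) hquad
  let f : ↥(Subgroup.normalizer (V : Set G)) ⧸
      (Subgroup.centralizer (V : Set G)).subgroupOf (Subgroup.normalizer (V : Set G)) →*
      G ⧸ Subgroup.centralizer (V : Set G) :=
    QuotientGroup.map _ _ (Subgroup.normalizer (V : Set G)).subtype (le_refl _)
  have hf : Function.Surjective f := by
    intro x
    obtain ⟨g, rfl⟩ := QuotientGroup.mk_surjective x
    exact ⟨QuotientGroup.mk ⟨g, hN g⟩, rfl⟩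
  have h2 := Subgroup.mem_map_of_mem f h1
  have h3 : (pCore p (↥(Subgroup.normalizer (V : Set G)) ⧸
      (Subgroup.centralizer (V : Set G)).subgroupOf (Subgroup.normalizer (V : Set G)))).map f ≤
      pCore p (G ⧸ Subgroup.centralizer (V : Set G)) :=
    le_pCore (Subgroup.Normal.map inferInstance f hf) ((pCore_isPGroup p _).map f)
  exact h3 h2

theorem omegaOne_centerThompsonOf_eq_zQ {G : Type*} [Group G] [Finite G] {p : ℕ} [Fact p.Prime]
    (D : Subgroup G) (hD : IsPGroup p D) :
    omegaOne p (centerThompsonOf p D) = zQ (fun X : Subgroup G => IsElementaryAbelian p X) D := by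
  rw [← Cfsg.Agent.S0654.omegaCenterThompson_map_eq_zQ D hD]
  unfold omegaCenterThompson centerThompsonOf thompsonSubgroupOf
  rw [map_omegaOne_of_injective p _ D.subtype_injective,
    map_inf_centralizer_of_injective _ D.subtype_injective]

/-- Glauberman's ZJ-Theorem for strongly closed subgroups, p odd. Let G be a finite group that is p-stable in the normalizer form (for every p-subgroup U and g ∈ N_G(U) with [U, g, g] = 1, the image of g lies in O_p(N_G(U)/C_G(U))), with C_G(O_p(G)) ≤ O_p(G), let P be a Sylow p-subgroup and D a subgroup of P strongly closed in P with respect to G. Then Z(J(D)) is normal in G, where J(D) is generated by the abelian subgroups of D of largest order; and so is Ω₁(Z(J_e(D))), where J_e(D) is generated by the elementary abelian subgroups of D of largest order. -/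
theorem result {G : Type*} [Group G] [Finite G] {p : ℕ} [Fact p.Prime] (hp : p ≠ 2) (P : Sylow p G) (D : Subgroup G) (hD : Cfsg.IsStronglyClosed D (P : Subgroup G)) (hst : Cfsg.IsNormalizerPStable p G) (hc : Subgroup.centralizer ((Cfsg.pCore p G : Subgroup G) : Set G) ≤ Cfsg.pCore p G) : (Cfsg.centerThompsonAOf D).Normal ∧ (Cfsg.omegaOne p (Cfsg.centerThompsonOf p D)).Normal := by
  have hodd : Odd p := (Fact.out : p.Prime).odd_of_ne_two hp
  have hDp : IsPGroup p D := P.isPGroup'.to_le hD.1
  constructor
  · rw [Cfsg.Agent.S0653.centerThompsonAOf_eq_zQ]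
    apply zQ_normal_closed hp P _ _ D hD hc
    refine ⟨Cfsg.Agent.S0653.isMulCommutative_bot', fun _ h => h, ?_, ?_,
      fun V _ hV => isPStableOn_of_isNormalizerPStable hst V hV⟩
    · intro φ X hX
      have := hX
      infer_instance
    · intro A B b hset _
      have := hset.rStar_comm P.isPGroup' (fun h => absurd h hp)
      infer_instance
  · rw [omegaOne_centerThompsonOf_eq_zQ D hDp]
    apply zQ_normal_closed hp P _ _ D hD hc
    refine ⟨Cfsg.Agent.S0654.isElementaryAbelian_bot' p, fun _ h => h.1, ?_, ?_,
      fun V _ hV => isPStableOn_of_isNormalizerPStable hst V hV⟩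
    · intro φ X hX
      exact (isElementaryAbelian_map_of_injective p φ.toMonoidHom φ.injective X).mpr hX
    · intro A B b hset hA
      have hA' : IsElementaryAbelian p A :=
        (isElementaryAbelian_map_of_injective p _ (P : Subgroup G).subtype_injective A).mp hA
      apply (isElementaryAbelian_map_of_injective p _ (P : Subgroup G).subtype_injective _).mpr
      exact ⟨hset.rStar_comm P.isPGroup' (fun h => absurd h hp),
        fun x hx => hset.rStar_pow P.isPGroup' (fun h => absurd h hp) p hodd hA'.2 hx⟩

end Cfsg.Agent.S3079
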