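import Cfsg.Statements.S3082
import Cfsg.Agent.Lib.Helper11.ThompsonCritClosed
import Cfsg.Agent.Lib.Helper11.PStabAbelian
import Cfsg.Agent.S0659
import Cfsg.Agent.S3079

set_option autoImplicit false
open Cfsg

namespace Cfsg.Agent.S3082

open Cfsg.Agent.Lib.Helper11

universe u

/-- the functor `Q ↦ Ω₁(Z(J_e(Q)))`: the intersection of the elementary abelian subgroups of
maximal order -/
def WE (p : ℕ) (Q : Type u) [Group Q] : Subgroup Q :=
  zQ (fun X : Subgroup Q => IsElementaryAbelian p X) ⊤

theorem isElementaryAbelian_sup_zpowers {G : Type*} [Group G] {p : ℕ} {A : Subgroup G}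
    (hA : IsElementaryAbelian p A) {z : G} (hz : ∀ a ∈ A, a * z = z * a) (hzp : z ^ p = 1) :
    IsElementaryAbelian p (A ⊔ Subgroup.zpowers z) := by
  have hAc := Subgroup.le_centralizer_iff_isMulCommutative.mpr hA.1
  have hsup : IsMulCommutative (A ⊔ Subgroup.zpowers z : Subgroup G) := by
    apply isMulCommutative_sup_of_commute A (Subgroup.zpowers z)
    · intro x hx y hy
      exact hAc hy x hx
    · intro x hx y hy
      obtain ⟨i, rfl⟩ := Subgroup.mem_zpowers_iff.mp hx
      obtain ⟨j, rfl⟩ := Subgroup.mem_zpowers_iff.mp hy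
      rw [← zpow_add, ← zpow_add, add_comm]
    · intro a ha k hk
      obtain ⟨i, rfl⟩ := Subgroup.mem_zpowers_iff.mp hk
      exact (Commute.zpow_right (show Commute a z from hz a ha) i).eq
  refine ⟨hsup, ?_⟩
  intro x hx
  have hcomm : ∀ x y : G, x ∈ A ⊔ Subgroup.zpowers z → y ∈ A ⊔ Subgroup.zpowers z →
      x * y = y * x := by
    intro x y hx hy
    exact congrArg Subtype.val (hsup.is_comm.comm ⟨x, hx⟩ ⟨y, hy⟩)
  have hx' := hx
  rw [Subgroup.sup_eq_closure] at hx'
  refine Subgroup.closure_induction (p := fun x _ => x ^ p = 1) ?_ ?_ ?_ ?_ hx'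
  · rintro y (hy | hy)
    · exact hA.2 y hy
    · obtain ⟨i, rfl⟩ := Subgroup.mem_zpowers_iff.mp hy
      rw [← zpow_natCast, ← zpow_mul, mul_comm, zpow_mul, zpow_natCast, hzp, one_zpow]
  · exact one_pow p
  · intro a b ha hb hap hbp
    rw [← Subgroup.sup_eq_closure] at ha hb
    have hc : Commute a b := hcomm a b ha hb
    rw [hc.mul_pow, hap, hbp, one_mul]
  · intro a _ hap
    rw [inv_pow, hap, inv_one]

theorem center_le_zQ_ea {G : Type*} [Group G] [Finite G] (p : ℕ) (R : Subgroup G) {z : G}
    (hzR : z ∈ R) (hz : ∀ r ∈ R, r * z = z * r) (hzp : z ^ p = 1) :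
    z ∈ zQ (fun X : Subgroup G => IsElementaryAbelian p X) R := by
  rw [mem_zQ]
  intro A hA
  have hsup := isElementaryAbelian_sup_zpowers hA.2.1 (fun a ha => hz a (hA.1 ha)) hzp
  have hle : A ⊔ Subgroup.zpowers z ≤ R := sup_le hA.1 (Subgroup.zpowers_le.mpr hzR)
  have hcard := hA.2.2 _ hle hsup
  have heq : A = A ⊔ Subgroup.zpowers z := Subgroup.eq_of_le_of_card_ge le_sup_left hcard
  rw [heq]
  exact (le_sup_right : Subgroup.zpowers z ≤ A ⊔ Subgroup.zpowers z) (Subgroup.mem_zpowers z)

theorem zQ_ea_ne_bot {G : Type*} [Group G] [Finite G] {p : ℕ} [hp : Fact p.Prime] {R : Subgroup G}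
    (hR : IsPGroup p R) (hR1 : R ≠ ⊥) :
    zQ (fun X : Subgroup G => IsElementaryAbelian p X) R ≠ ⊥ := by
  have : Nontrivial ↥R := (Subgroup.nontrivial_iff_ne_bot R).mpr hR1
  have hnt : Nontrivial (Subgroup.center ↥R) := hR.center_nontrivial
  have hZp : IsPGroup p (Subgroup.center ↥R) := hR.to_subgroup _
  obtain ⟨k, hk⟩ := IsPGroup.iff_card.mp hZp
  have hk0 : k ≠ 0 := by
    intro h
    rw [h, pow_zero] at hk
    have := Finite.one_lt_card_iff_nontrivial.mpr hnt
    omega
  have hdvd : p ∣ Nat.card (Subgroup.center ↥R) := hk ▸ dvd_pow_self p hk0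
  obtain ⟨z, hz⟩ := exists_prime_orderOf_dvd_card' p hdvd
  intro hbot
  have hzp : ((z : ↥R) : G) ^ p = 1 := by
    have h1 : z ^ p = 1 := by rw [← hz]; exact pow_orderOf_eq_one z
    have h2 := congrArg (fun w : Subgroup.center ↥R => ((w : ↥R) : G)) h1
    simpa using h2
  have h1 : ((z : ↥R) : G) ∈ zQ (fun X : Subgroup G => IsElementaryAbelian p X) R := by
    apply center_le_zQ_ea p R (z : ↥R).2 ?_ hzp
    intro r hr
    have := Subgroup.mem_center_iff.mp z.2 ⟨r, hr⟩
    exact congrArg Subtype.val this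
  rw [hbot, Subgroup.mem_bot] at h1
  have hz1 : z = 1 := by
    apply Subtype.ext
    apply Subtype.ext
    exact h1
  rw [hz1, orderOf_one] at hz
  exact hp.out.one_lt.ne hz

theorem zQ_map_ea {G H : Type*} [Group G] [Group H] [Finite G] (p : ℕ) (ι : G →* H)
    (hι : Function.Injective ι) (P : Subgroup G) :
    zQ (fun X : Subgroup H => IsElementaryAbelian p X) (P.map ι) =
      (zQ (fun X : Subgroup G => IsElementaryAbelian p X) P).map ι := by
  apply zQ_map_of_injOn ι P (fun x _ hx => hι (by rw [map_one]; exact hx))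
    (fun X : Subgroup G => IsElementaryAbelian p X)
    (fun X : Subgroup H => IsElementaryAbelian p X) (Cfsg.Agent.S0654.isElementaryAbelian_bot' p)
  · intro X _ hX
    exact (isElementaryAbelian_map_of_injective p ι hι X).mpr hX
  · intro X _ hX
    exact (isElementaryAbelian_map_of_injective p ι hι X).mp hX

theorem inducedFunctor_WE {X : Type u} [Group X] [Finite X] {p : ℕ} [Fact p.Prime]
    (P : Subgroup X) (hP : IsPGroup p P) :
    inducedFunctor (WE p) P = omegaOne p (centerThompsonOf p P) := by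
  rw [Cfsg.Agent.S3079.omegaOne_centerThompsonOf_eq_zQ P hP]
  unfold inducedFunctor WE
  have h := zQ_map_ea p P.subtype P.subtype_injective (⊤ : Subgroup ↥P)
  rw [← h, ← MonoidHom.range_eq_map, Subgroup.range_subtype]

theorem isCharPFunctor_WE (p : ℕ) [Fact p.Prime] : IsCharPFunctor.{u} p (WE p) := by
  refine ⟨?_, ?_⟩
  · intro Q _ _ hQ hnt
    unfold WE
    apply zQ_ea_ne_bot (p := p) (hQ.to_subgroup ⊤)
    exact (Subgroup.nontrivial_iff_ne_bot _).mp inferInstance
  · intro Q R _ _ _ _ φ
    unfold WE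
    have h := zQ_map_ea p φ.toMonoidHom φ.injective (⊤ : Subgroup Q)
    rw [← h, Subgroup.map_top_of_surjective φ.toMonoidHom φ.surjective]

/-- The Glauberman–Thompson normal p-complement criterion for strongly closed subgroups, p odd. Let G be a finite group, P a Sylow p-subgroup and D a subgroup of P strongly closed in P with respect to G. If N_G(Z(J(D))) has a normal p-complement (J(D) generated by the abelian subgroups of D of largest order), or N_G(Ω₁(Z(J_e(D)))) has one (J_e(D) generated by the elementary abelian subgroups of largest order), then G has a normal p-complement. -/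
theorem result {G : Type*} [Group G] [Finite G] {p : ℕ} [Fact p.Prime] (hp : p ≠ 2) (P : Sylow p G) (D : Subgroup G) (hD : Cfsg.IsStronglyClosed D (P : Subgroup G)) (h : Cfsg.HasNormalPComplement p ↥(Subgroup.normalizer ((Cfsg.centerThompsonAOf D) : Set G)) ∨ Cfsg.HasNormalPComplement p ↥(Subgroup.normalizer ((Cfsg.omegaOne p (Cfsg.centerThompsonOf p D)) : Set G))) : Cfsg.HasNormalPComplement p G := by
  have hodd : Odd p := (Fact.out : p.Prime).odd_of_ne_two hp
  have hDp : IsPGroup p D := P.isPGroup'.to_le hD.1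
  rcases h with h | h
  · refine thompson_criterion_closed p Cfsg.Agent.S0659.WA (Cfsg.Agent.S0659.isCharPFunctor_WA p)
      ?_ _ G rfl P D hD (by rw [Cfsg.Agent.S0659.inducedFunctor_WA]; exact h)
    intro X _ _ hc hq T hT E hE
    rw [Cfsg.Agent.S0659.inducedFunctor_WA, Cfsg.Agent.S0653.centerThompsonAOf_eq_zQ]
    apply zQ_normal_closed hp T _ _ E hE hc
    refine ⟨Cfsg.Agent.S0653.isMulCommutative_bot', fun _ h => h, ?_, ?_,
      fun V _ hV => isPStableOn_of_coatom hp hq T hT V hV⟩
    · intro φ Y hY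
      have := hY
      infer_instance
    · intro A B b hset _
      have := hset.rStar_comm T.isPGroup' (fun h => absurd h hp)
      infer_instance
  · refine thompson_criterion_closed p (WE p) (isCharPFunctor_WE p)
      ?_ _ G rfl P D hD (by rw [inducedFunctor_WE D hDp]; exact h)
    intro X _ _ hc hq T hT E hE
    have hEp : IsPGroup p E := T.isPGroup'.to_le hE.1
    rw [inducedFunctor_WE E hEp, Cfsg.Agent.S3079.omegaOne_centerThompsonOf_eq_zQ E hEp]
    apply zQ_normal_closed hp T _ _ E hE hc
    refine ⟨Cfsg.Agent.S0654.isElementaryAbelian_bot' p, fun _ h => h.1, ?_, ?_,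
      fun V _ hV => isPStableOn_of_coatom hp hq T hT V hV⟩
    · intro φ Y hY
      exact (isElementaryAbelian_map_of_injective p φ.toMonoidHom φ.injective Y).mpr hY
    · intro A B b hset hA
      have hA' : IsElementaryAbelian p A :=
        (isElementaryAbelian_map_of_injective p _ (T : Subgroup X).subtype_injective A).mp hA
      apply (isElementaryAbelian_map_of_injective p _ (T : Subgroup X).subtype_injective _).mpr
      exact ⟨hset.rStar_comm T.isPGroup' (fun h => absurd h hp),
        fun x hx => hset.rStar_pow T.isPGroup' (fun h => absurd h hp) p hodd hA'.2 hx⟩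

end Cfsg.Agent.S3082
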