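import Cfsg.Statements.S0648

set_option autoImplicit false
open Cfsg
open scoped commutatorElement

namespace Cfsg.Agent.S0648

theorem key_sq {G : Type*} [Group G] (b x y u v e f : G)
    (hxy : x * y = y * x)
    (hu : x * b * x⁻¹ = b * u)
    (hv : y * b * y⁻¹ = b * v)
    (he : x * v * x⁻¹ = v * e)
    (hf : y * u * y⁻¹ = u * f)
    (hxt : x * (b * v * b⁻¹ * v⁻¹) * x⁻¹ = b * v * b⁻¹ * v⁻¹)
    (hyt : y * (b * u * b⁻¹ * u⁻¹) * y⁻¹ = b * u * b⁻¹ * u⁻¹)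
    (heu : Commute e u) (hev : Commute e v) (hfu : Commute f u) (hfv : Commute f v)
    (hcb : Commute (u * v * u⁻¹ * v⁻¹) b) (hce : Commute (u * v * u⁻¹ * v⁻¹) e)
    (hcu : Commute (u * v * u⁻¹ * v⁻¹) u) (hcv : Commute (u * v * u⁻¹ * v⁻¹) v) :
    (u * v * u⁻¹ * v⁻¹) * (u * v * u⁻¹ * v⁻¹) = 1 := by
  set c := u * v * u⁻¹ * v⁻¹ with hc
  have S1 : u * v * e = v * u * f := by
    have h1 : x * (y * b * y⁻¹) * x⁻¹ = b * (u * v * e) := by
      rw [hv]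
      calc x * (b * v) * x⁻¹ = (x * b * x⁻¹) * (x * v * x⁻¹) := by group
        _ = b * (u * v * e) := by rw [hu, he]; group
    have h2 : y * (x * b * x⁻¹) * y⁻¹ = b * (v * u * f) := by
      rw [hu]
      calc y * (b * u) * y⁻¹ = (y * b * y⁻¹) * (y * u * y⁻¹) := by group
        _ = b * (v * u * f) := by rw [hv, hf]; group
    have h3 : x * (y * b * y⁻¹) * x⁻¹ = y * (x * b * x⁻¹) * y⁻¹ := by
      calc x * (y * b * y⁻¹) * x⁻¹ = (x * y) * b * (x * y)⁻¹ := by group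
        _ = (y * x) * b * (y * x)⁻¹ := by rw [hxy]
        _ = y * (x * b * x⁻¹) * y⁻¹ := by group
    rw [h1, h2] at h3
    exact mul_left_cancel h3
  have S2 : c * e = f := by
    have h1 : c * e = (u * v * e) * u⁻¹ * v⁻¹ := by
      rw [hc]
      calc u * v * u⁻¹ * v⁻¹ * e = u * v * u⁻¹ * (v⁻¹ * e) := by group
        _ = u * v * u⁻¹ * (e * v⁻¹) := by rw [(hev.inv_right).eq]
        _ = u * v * (u⁻¹ * e) * v⁻¹ := by group
        _ = u * v * (e * u⁻¹) * v⁻¹ := by rw [(heu.inv_right).eq]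
        _ = (u * v * e) * u⁻¹ * v⁻¹ := by group
    rw [h1, S1]
    calc v * u * f * u⁻¹ * v⁻¹ = v * u * (f * u⁻¹) * v⁻¹ := by group
      _ = v * u * (u⁻¹ * f) * v⁻¹ := by rw [(hfu.inv_right).eq]
      _ = v * (f * v⁻¹) := by group
      _ = v * (v⁻¹ * f) := by rw [(hfv.inv_right).eq]
      _ = f := by group
  have S3 : v⁻¹ * u * v * u⁻¹ = b⁻¹ * e * b * e⁻¹ := by
    have h1 : x * (b * v * b⁻¹ * v⁻¹) * x⁻¹ =
        (x * b * x⁻¹) * (x * v * x⁻¹) * (x * b * x⁻¹)⁻¹ * (x * v * x⁻¹)⁻¹ := by group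
    rw [hxt, hu, he] at h1
    have h2 : (b * u) * (v * e) * (b * u)⁻¹ * (v * e)⁻¹ =
        b * (u * v * u⁻¹) * (e * b⁻¹ * e⁻¹) * v⁻¹ := by
      calc (b * u) * (v * e) * (b * u)⁻¹ * (v * e)⁻¹
          = b * u * v * (e * u⁻¹) * b⁻¹ * e⁻¹ * v⁻¹ := by group
        _ = b * u * v * (u⁻¹ * e) * b⁻¹ * e⁻¹ * v⁻¹ := by rw [(heu.inv_right).eq]
        _ = b * (u * v * u⁻¹) * (e * b⁻¹ * e⁻¹) * v⁻¹ := by group
    rw [h2] at h1
    calc v⁻¹ * u * v * u⁻¹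
        = v⁻¹ * b⁻¹ * (b * (u * v * u⁻¹) * (e * b⁻¹ * e⁻¹) * v⁻¹) * v * (e * b * e⁻¹) := by
          group
      _ = v⁻¹ * b⁻¹ * (b * v * b⁻¹ * v⁻¹) * v * (e * b * e⁻¹) := by rw [← h1]
      _ = b⁻¹ * e * b * e⁻¹ := by group
  have S4 : u⁻¹ * v * u * v⁻¹ = b⁻¹ * f * b * f⁻¹ := by
    have h1 : y * (b * u * b⁻¹ * u⁻¹) * y⁻¹ =
        (y * b * y⁻¹) * (y * u * y⁻¹) * (y * b * y⁻¹)⁻¹ * (y * u * y⁻¹)⁻¹ := by group
    rw [hyt, hv, hf] at h1
    have h2 : (b * v) * (u * f) * (b * v)⁻¹ * (u * f)⁻¹ =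
        b * (v * u * v⁻¹) * (f * b⁻¹ * f⁻¹) * u⁻¹ := by
      calc (b * v) * (u * f) * (b * v)⁻¹ * (u * f)⁻¹
          = b * v * u * (f * v⁻¹) * b⁻¹ * f⁻¹ * u⁻¹ := by group
        _ = b * v * u * (v⁻¹ * f) * b⁻¹ * f⁻¹ * u⁻¹ := by rw [(hfv.inv_right).eq]
        _ = b * (v * u * v⁻¹) * (f * b⁻¹ * f⁻¹) * u⁻¹ := by group
    rw [h2] at h1
    calc u⁻¹ * v * u * v⁻¹
        = u⁻¹ * b⁻¹ * (b * (v * u * v⁻¹) * (f * b⁻¹ * f⁻¹) * u⁻¹) * u * (f * b * f⁻¹) := by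
          group
      _ = u⁻¹ * b⁻¹ * (b * u * b⁻¹ * u⁻¹) * u * (f * b * f⁻¹) := by rw [← h1]
      _ = b⁻¹ * f * b * f⁻¹ := by group
  have S5 : v⁻¹ * u * v * u⁻¹ = c := by
    calc v⁻¹ * u * v * u⁻¹ = v⁻¹ * (c * v) := by rw [hc]; group
      _ = v⁻¹ * (v * c) := by rw [hcv.eq]
      _ = c := by group
  have S6 : u⁻¹ * v * u * v⁻¹ = c⁻¹ := by
    calc u⁻¹ * v * u * v⁻¹ = u⁻¹ * (c⁻¹ * u) := by rw [hc]; group
      _ = u⁻¹ * (u * c⁻¹) := by rw [(hcu.inv_left).eq]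
      _ = c⁻¹ := by group
  have S7 : b⁻¹ * f * b * f⁻¹ = b⁻¹ * e * b * e⁻¹ := by
    rw [← S2]
    calc b⁻¹ * (c * e) * b * (c * e)⁻¹ = (b⁻¹ * c) * (e * b * e⁻¹) * c⁻¹ := by group
      _ = (c * b⁻¹) * (e * b * e⁻¹) * c⁻¹ := by rw [(hcb.inv_right).eq]
      _ = c * ((b⁻¹ * e * b * e⁻¹) * c⁻¹) := by group
      _ = c * (c⁻¹ * (b⁻¹ * e * b * e⁻¹)) := by
          rw [(((hcb.inv_right.mul_right hce).mul_right hcb).mul_right hce.inv_right).inv_left.eq]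
      _ = b⁻¹ * e * b * e⁻¹ := by group
  have : c⁻¹ = c := by rw [← S6, S4, S7, ← S3, S5]
  calc c * c = c⁻¹ * c := by rw [this]
    _ = 1 := by group

theorem commute_of_fixed {G : Type*} [Group G] (a b d u : G)
    (hu : a * b * a⁻¹ = b * u) (had : Commute a d)
    (hat : Commute a (b * d * b⁻¹ * d⁻¹)) : Commute u d := by
  have h1 : a * (b * d * b⁻¹ * d⁻¹) * a⁻¹ =
      (a * b * a⁻¹) * (a * d * a⁻¹) * (a * b * a⁻¹)⁻¹ * (a * d * a⁻¹)⁻¹ := by group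
  have h2 : a * (b * d * b⁻¹ * d⁻¹) * a⁻¹ = b * d * b⁻¹ * d⁻¹ := by
    rw [hat.eq]; group
  have h3 : a * d * a⁻¹ = d := by rw [had.eq]; group
  rw [h2, hu, h3] at h1
  have h4 : u * d * u⁻¹ = d := by
    calc u * d * u⁻¹ = b⁻¹ * ((b * u) * d * (b * u)⁻¹ * d⁻¹) * d * b := by group
      _ = b⁻¹ * (b * d * b⁻¹ * d⁻¹) * d * b := by rw [← h1]
      _ = d := by group
  change u * d = d * u
  calc u * d = (u * d * u⁻¹) * u := by group
    _ = d * u := by rw [h4]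

theorem part_one {G : Type*} [Group G] (A B : Subgroup G)
    (hAB : A ≤ Subgroup.normalizer (B : Set G)) (hc : ⁅⁅B, B⁆, A⁆ = ⊥) :
    ⁅B, A⁆ ≤ B ∧ ⁅⁅B, A⁆, ⁅B, B⁆⁆ = ⊥ ∧
      ⁅⁅B, A⁆, ⁅B, A⁆⁆ ≤ B ⊓ Subgroup.centralizer (B : Set G) := by
  have hRB : ⁅B, A⁆ ≤ B := Subgroup.le_normalizer_iff_commutator_le_left.mp hAB
  have hTB : ⁅B, B⁆ ≤ B := Subgroup.commutator_le_self B
  have hRT : ⁅⁅B, A⁆, ⁅B, B⁆⁆ = ⊥ := by
    apply Subgroup.commutator_commutator_eq_bot_of_rotate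
    · rw [Subgroup.commutator_comm A, hc, Subgroup.commutator_bot_left]
    · have : ⁅⁅B, B⁆, B⁆ ≤ ⁅B, B⁆ := Subgroup.commutator_mono hTB le_rfl
      exact le_bot_iff.mp ((Subgroup.commutator_mono this le_rfl).trans hc.le)
  refine ⟨hRB, hRT, le_inf ((Subgroup.commutator_mono hRB hRB).trans hTB) ?_⟩
  rw [← Subgroup.commutator_eq_bot_iff_le_centralizer]
  have hTR : ⁅⁅B, B⁆, ⁅B, A⁆⁆ = ⊥ := by rw [Subgroup.commutator_comm]; exact hRT
  apply Subgroup.commutator_commutator_eq_bot_of_rotate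
  · exact le_bot_iff.mp ((Subgroup.commutator_mono
      (Subgroup.commutator_mono hRB le_rfl) le_rfl).trans hTR.le)
  · exact le_bot_iff.mp ((Subgroup.commutator_mono
      (Subgroup.commutator_mono le_rfl hRB) le_rfl).trans hTR.le)

theorem result {G : Type*} [Group G] [Finite G] (A B : Subgroup G) (hAB : A ≤ Subgroup.normalizer (B : Set G)) (hc : ⁅⁅B, B⁆, A⁆ = ⊥) : ⁅⁅B, A⁆, ⁅B, A⁆⁆ ≤ B ⊓ Subgroup.centralizer (B : Set G) ∧ (IsMulCommutative A → ∀ b ∈ B, ⁅⁅(Subgroup.closure {g : G | ∃ a ∈ A, g = b⁻¹ * a * b * a⁻¹}), A⁆, A⁆ = ⊥ → ∀ w ∈ ⁅(Subgroup.closure {g : G | ∃ a ∈ A, g = b⁻¹ * a * b * a⁻¹}), (Subgroup.closure {g : G | ∃ a ∈ A, g = b⁻¹ * a * b * a⁻¹})⁆, w ^ 2 = 1) := by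
  obtain ⟨hRB, hRT, h1⟩ := part_one A B hAB hc
  refine ⟨h1, ?_⟩
  intro hAcomm b hb hcub
  set gens : Set G := {g : G | ∃ a ∈ A, g = b⁻¹ * a * b * a⁻¹} with hgens
  set C : Subgroup G := Subgroup.closure gens with hC
  -- C ≤ R
  have hgR : gens ⊆ (⁅B, A⁆ : Subgroup G) := by
    rintro g ⟨a, ha, rfl⟩
    have := Subgroup.commutator_mem_commutator (inv_mem hb) ha
    rwa [commutatorElement_def, inv_inv] at this
  have hCR : C ≤ ⁅B, A⁆ := (Subgroup.closure_le _).mpr hgR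
  have hCB : C ≤ B := hCR.trans hRB
  -- commutators of C commute with B
  have hCC : ⁅C, C⁆ ≤ B ⊓ Subgroup.centralizer (B : Set G) :=
    (Subgroup.commutator_mono hCR hCR).trans h1
  set D : Subgroup G := ⁅C, A⁆ with hD
  have hDB : D ≤ B := (Subgroup.commutator_mono hCB le_rfl).trans hRB
  have hDA : ∀ d ∈ D, ∀ a ∈ A, Commute a d := by
    intro d hd a ha
    have := Subgroup.commutator_eq_bot_iff_le_centralizer.mp hcub hd a ha
    exact this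
  have hTA : ∀ t ∈ ⁅B, B⁆, ∀ a ∈ A, Commute a t := by
    intro t ht a ha
    have := Subgroup.commutator_eq_bot_iff_le_centralizer.mp hc ht a ha
    exact this
  -- generators commute with D
  have hgD : ∀ g ∈ gens, ∀ d ∈ D, Commute g d := by
    rintro g ⟨a, ha, rfl⟩ d hd
    apply commute_of_fixed a b d _ (by group) (hDA d hd a ha)
    apply hTA _ _ a ha
    have := Subgroup.commutator_mem_commutator hb (hDB hd)
    rwa [commutatorElement_def] at this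
  have hCD : ∀ g ∈ C, ∀ d ∈ D, Commute g d := by
    intro g hg d hd
    have : C ≤ Subgroup.centralizer (D : Set G) := by
      rw [hC, Subgroup.closure_le]
      intro g hg d hd
      exact (hgD g hg d hd).symm
    exact (this hg d hd).symm
  -- central commutators
  have hcent : ∀ w ∈ ⁅C, C⁆, ∀ g ∈ B, Commute w g := by
    intro w hw g hg
    exact ((hCC hw).2 g hg).symm
  -- squares of commutators of generators
  have hgen_sq : ∀ g₁ ∈ gens, ∀ g₂ ∈ gens, ⁅g₁, g₂⁆ * ⁅g₁, g₂⁆ = 1 := by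
    rintro _ ⟨x, hx, rfl⟩ _ ⟨y, hy, rfl⟩
    set u := b⁻¹ * x * b * x⁻¹ with hu
    set v := b⁻¹ * y * b * y⁻¹ with hv
    have huG : u ∈ gens := ⟨x, hx, rfl⟩
    have hvG : v ∈ gens := ⟨y, hy, rfl⟩
    have huC : u ∈ C := Subgroup.subset_closure huG
    have hvC : v ∈ C := Subgroup.subset_closure hvG
    have hxy : x * y = y * x := by
      have := Subgroup.le_centralizer_iff_isMulCommutative.mpr hAcomm hx y hy
      exact this.symm
    have heD : v⁻¹ * x * v * x⁻¹ ∈ D := by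
      have := Subgroup.commutator_mem_commutator (inv_mem hvC) hx
      rwa [commutatorElement_def, inv_inv] at this
    have hfD : u⁻¹ * y * u * y⁻¹ ∈ D := by
      have := Subgroup.commutator_mem_commutator (inv_mem huC) hy
      rwa [commutatorElement_def, inv_inv] at this
    have hcCC : u * v * u⁻¹ * v⁻¹ ∈ ⁅C, C⁆ := by
      have := Subgroup.commutator_mem_commutator huC hvC
      rwa [commutatorElement_def] at this
    rw [commutatorElement_def]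
    apply key_sq b x y u v (v⁻¹ * x * v * x⁻¹) (u⁻¹ * y * u * y⁻¹) hxy
    · rw [hu]; group
    · rw [hv]; group
    · group
    · group
    · have h := hTA (b * v * b⁻¹ * v⁻¹) (by
        have := Subgroup.commutator_mem_commutator hb (hCB hvC)
        rwa [commutatorElement_def] at this) x hx
      rw [h.eq]; group
    · have h := hTA (b * u * b⁻¹ * u⁻¹) (by
        have := Subgroup.commutator_mem_commutator hb (hCB huC)
        rwa [commutatorElement_def] at this) y hy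
      rw [h.eq]; group
    · exact (hCD u huC _ heD).symm
    · exact (hCD v hvC _ heD).symm
    · exact (hCD u huC _ hfD).symm
    · exact (hCD v hvC _ hfD).symm
    · exact hcent _ hcCC b hb
    · exact hcent _ hcCC _ (hDB heD)
    · exact hcent _ hcCC _ (hCB huC)
    · exact hcent _ hcCC _ (hCB hvC)
  -- the subgroup E of central elements of square one
  let E : Subgroup G :=
    { carrier := {g | g ∈ Subgroup.centralizer (C : Set G) ⊓ C ∧ g * g = 1}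
      one_mem' := ⟨one_mem _, by simp⟩
      mul_mem' := by
        rintro g h ⟨hg, hg2⟩ ⟨hh, hh2⟩
        refine ⟨mul_mem hg hh, ?_⟩
        have hcm : Commute g h := (hg.1 h hh.2).symm
        calc g * h * (g * h) = g * (h * g) * h := by group
          _ = g * (g * h) * h := by rw [hcm.eq]
          _ = (g * g) * (h * h) := by group
          _ = 1 := by rw [hg2, hh2, one_mul]
      inv_mem' := by
        rintro g ⟨hg, hg2⟩
        refine ⟨inv_mem hg, ?_⟩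
        calc g⁻¹ * g⁻¹ = (g * g)⁻¹ := by group
          _ = 1 := by rw [hg2, inv_one] }
  have hE_mem : ∀ g, g ∈ E ↔ (g ∈ Subgroup.centralizer (C : Set G) ⊓ C ∧ g * g = 1) :=
    fun g => Iff.rfl
  have hCCZ : ⁅C, C⁆ ≤ Subgroup.centralizer (C : Set G) ⊓ C := by
    intro w hw
    refine ⟨?_, Subgroup.commutator_le_self C hw⟩
    intro g hg
    exact (hcent w hw g (hCB hg)).symm
  have hEcomm : ∀ w ∈ E, ∀ g ∈ C, Commute w g := fun w hw g hg => (hw.1.1 g hg).symm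
  -- Step A
  have stepA : ∀ u ∈ gens, ∀ h ∈ C, ⁅h, u⁆ ∈ E := by
    intro u hu h hh
    have huC : u ∈ C := Subgroup.subset_closure hu
    induction hh using Subgroup.closure_induction with
    | mem g hg =>
      exact ⟨hCCZ (Subgroup.commutator_mem_commutator (Subgroup.subset_closure hg) huC),
        hgen_sq g hg u hu⟩
    | one => rw [commutatorElement_one_left]; exact one_mem E
    | mul h₁ h₂ hh₁ hh₂ ih₁ ih₂ =>
      have : ⁅h₁ * h₂, u⁆ = ⁅h₂, u⁆ * ⁅h₁, u⁆ := by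
        rw [commutatorElement_mul_left_eq_conj_mul]
        have hcm := hEcomm _ ih₂ h₁ hh₁
        calc h₁ * ⁅h₂, u⁆ * h₁⁻¹ * ⁅h₁, u⁆ = (h₁ * ⁅h₂, u⁆) * h₁⁻¹ * ⁅h₁, u⁆ := by group
          _ = (⁅h₂, u⁆ * h₁) * h₁⁻¹ * ⁅h₁, u⁆ := by rw [hcm.eq]
          _ = ⁅h₂, u⁆ * ⁅h₁, u⁆ := by group
      rw [this]
      exact mul_mem ih₂ ih₁
    | inv h₁ hh₁ ih₁ =>
      have : ⁅h₁⁻¹, u⁆ = ⁅h₁, u⁆⁻¹ := by
        rw [commutatorElement_inv_left, commutatorElement_inv]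
        have hcm := hEcomm _ (inv_mem ih₁) h₁ hh₁
        rw [commutatorElement_inv] at hcm
        calc h₁⁻¹ * ⁅u, h₁⁆ * h₁ = h₁⁻¹ * (⁅u, h₁⁆ * h₁) := by group
          _ = h₁⁻¹ * (h₁ * ⁅u, h₁⁆) := by rw [hcm.eq]
          _ = ⁅u, h₁⁆ := by group
      rw [this]
      exact inv_mem ih₁
  -- Step B
  have stepB : ∀ h ∈ C, ∀ k ∈ C, ⁅h, k⁆ ∈ E := by
    intro h hh k hk
    induction hk using Subgroup.closure_induction with
    | mem g hg => exact stepA g hg h hh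
    | one => rw [commutatorElement_one_right]; exact one_mem E
    | mul k₁ k₂ hk₁ hk₂ ih₁ ih₂ =>
      have : ⁅h, k₁ * k₂⁆ = ⁅h, k₁⁆ * ⁅h, k₂⁆ := by
        rw [commutatorElement_mul_right_eq_mul_conj]
        have hcm := hEcomm _ ih₂ k₁ hk₁
        calc ⁅h, k₁⁆ * k₁ * ⁅h, k₂⁆ * k₁⁻¹ = ⁅h, k₁⁆ * ((k₁ * ⁅h, k₂⁆) * k₁⁻¹) := by group
          _ = ⁅h, k₁⁆ * ((⁅h, k₂⁆ * k₁) * k₁⁻¹) := by rw [hcm.eq]
          _ = ⁅h, k₁⁆ * ⁅h, k₂⁆ := by group
      rw [this]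
      exact mul_mem ih₁ ih₂
    | inv k₁ hk₁ ih₁ =>
      have : ⁅h, k₁⁻¹⁆ = ⁅h, k₁⁆⁻¹ := by
        rw [commutatorElement_inv_right, commutatorElement_inv]
        have hcm := hEcomm _ (inv_mem ih₁) k₁ hk₁
        rw [commutatorElement_inv] at hcm
        calc k₁⁻¹ * ⁅k₁, h⁆ * k₁ = k₁⁻¹ * (⁅k₁, h⁆ * k₁) := by group
          _ = k₁⁻¹ * (k₁ * ⁅k₁, h⁆) := by rw [hcm.eq]
          _ = ⁅k₁, h⁆ := by group
      rw [this]
      exact inv_mem ih₁
  have hfinal : ⁅C, C⁆ ≤ E := Subgroup.commutator_le.mpr stepB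
  intro w hw
  have := (hfinal hw).2
  rw [pow_two]; exact this

end Cfsg.Agent.S0648
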