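import Cfsg.Statements.S1959
import Cfsg.Agent.Lib.Helper33.Chain

set_option autoImplicit false
open Cfsg
open Cfsg.Agent.Lib.Helper33

namespace Cfsg.Agent.S1959

variable {G : Type*} [Group G]

theorem card_closure_rc (g : G) (A : Set G) :
    Nat.card (Subgroup.closure (rc g A)) = Nat.card (Subgroup.closure A) := by
  rw [closure_rc, card_cj]

theorem main [Finite G] {p : ℕ} [Fact p.Prime] (S : Sylow p G)
    (𝓦 : Set (Subgroup G → Subgroup G)) (h𝓦 : ∀ W ∈ 𝓦, Cfsg.IsConjugacyFunctor p W)
    (hloc : ∀ T : Subgroup G, T ≤ (S : Subgroup G) → T ≠ ⊥ → FN p (S : Subgroup G) T →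
      Cfsg.FamilyControlsStrongFusionIn p 𝓦 (Subgroup.normalizer ((T : Subgroup G) : Set G)))
    (m : ℕ) :
    ∀ (A : Set G) (g : G), A ⊆ (S : Subgroup G) → rc g A ⊆ (S : Subgroup G) →
      Nat.card (S : Subgroup G) - Nat.card (Subgroup.closure A) = m →
      GoodF 𝓦 (S : Subgroup G) A g := by
  induction m using Nat.strong_induction_on with
  | _ m ihm =>
    have inner : ∀ n : ℕ, ∀ T : Subgroup G, T ≤ (S : Subgroup G) → T ≠ ⊥ → FN p (S : Subgroup G) T →
        Nat.card (S : Subgroup G) -
          Nat.card ((S : Subgroup G) ⊓ Subgroup.normalizer (T : Set G) : Subgroup G) = n →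
        ∀ (B : Set G) (x : G),
          B ⊆ ((S : Subgroup G) ⊓ Subgroup.normalizer (T : Set G) : Subgroup G) →
          x ∈ Subgroup.normalizer (T : Set G) →
          rc x B ⊆ ((S : Subgroup G) ⊓ Subgroup.normalizer (T : Set G) : Subgroup G) →
          Nat.card (S : Subgroup G) - Nat.card (Subgroup.closure B) = m →
          GoodF 𝓦 (S : Subgroup G) B x := by
      intro n
      induction n using Nat.strong_induction_on with
      | _ n ihn =>
        intro T hTS hTne hTfn hn B x hB hx hBx hm
        set R := (S : Subgroup G) ⊓ Subgroup.normalizer (T : Set G) with hRdef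
        have hRp : IsPGroup p R := S.isPGroup'.to_le inf_le_left
        have hTR : T ≤ R := le_inf hTS Subgroup.le_normalizer
        have hRne : R ≠ ⊥ := by
          intro h
          apply hTne
          rw [eq_bot_iff, ← h]; exact hTR
        obtain ⟨x', hchain, hx'⟩ := fcsf_transport h𝓦 (hloc T hTS hTne hTfn) (T1 := R)
          inf_le_right hRp hTfn B x hx hB hBx
        refine GoodF.of_eq ?_ hx'
        -- a single step of the local chain is globally good
        have hstep : ∀ (B : Set G) (y : G),
            (∃ W ∈ 𝓦, y ∈ Subgroup.normalizer (T : Set G) ⊓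
              Subgroup.normalizer ((W R : Subgroup G) : Set G)) →
            B ⊆ R → rc y B ⊆ R →
            Nat.card (S : Subgroup G) - Nat.card (Subgroup.closure B) = m →
            GoodF 𝓦 (S : Subgroup G) B y := by
          rintro B y ⟨W, hW, hyW⟩ hBR hBy hcard
          have hWf := h𝓦 W hW
          by_cases hRS : R = (S : Subgroup G)
          · refine ⟨y, Chain.single ⟨W, hW, Subgroup.mem_inf.mpr ⟨Subgroup.mem_top _, ?_⟩⟩ ?_,
              fun _ _ => rfl⟩
            · rw [← hRS]; exact hyW.2
            · rw [← hRS]; exact hBy
          · have hRlt : R < (S : Subgroup G) := lt_of_le_of_ne inf_le_left hRS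
            have hVR : W R ≤ R := functor_le hWf hRp
            have hVS : W R ≤ (S : Subgroup G) := le_trans hVR inf_le_left
            have hVne : W R ≠ ⊥ := (hWf R hRp).2.1 hRne
            have hgrow := normalizer_growth S.isPGroup' hRlt
            have hNV : (S : Subgroup G) ⊓ Subgroup.normalizer (R : Set G) ≤
                (S : Subgroup G) ⊓ Subgroup.normalizer ((W R : Subgroup G) : Set G) :=
              inf_le_inf_left _ (normalizer_le_normalizer_functor hWf hRp)
            have hRQ : R < (S : Subgroup G) ⊓ Subgroup.normalizer ((W R : Subgroup G) : Set G) :=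
              lt_of_lt_of_le hgrow hNV
            set Q := (S : Subgroup G) ⊓ Subgroup.normalizer ((W R : Subgroup G) : Set G) with hQdef
            obtain ⟨k, hkV, hkFN, hkQ⟩ := exists_fn_conj S (W R) hVS
            have hcardB : Nat.card (Subgroup.closure B) ≤ Nat.card R :=
              Subgroup.card_le_of_le ((Subgroup.closure_le _).mpr hBR)
            have hQcard : Nat.card R < Nat.card Q :=
              Set.Finite.card_lt_card (Set.toFinite _) hRQ
            have hQS : Nat.card Q ≤ Nat.card (S : Subgroup G) := Subgroup.card_le_of_le inf_le_left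
            have gQ : GoodF 𝓦 (S : Subgroup G) (Q : Set G) k⁻¹ := by
              refine ihm (Nat.card (S : Subgroup G) - Nat.card Q) (by omega) (Q : Set G) k⁻¹
                (fun a ha => ha.1) ?_ (by rw [Subgroup.closure_eq])
              rw [rc_coe, inv_inv]
              exact hkQ
            have g1 : GoodF 𝓦 (S : Subgroup G) B k⁻¹ := gQ.mono (hBR.trans hRQ.le)
            have g2 : GoodF 𝓦 (S : Subgroup G) (rc y B) k⁻¹ := gQ.mono (hBy.trans hRQ.le)
            have hQR'' : cj k Q ≤ (S : Subgroup G) ⊓
                Subgroup.normalizer ((cj k (W R) : Subgroup G) : Set G) := by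
              refine le_inf hkQ ?_
              rw [normalizer_cj]
              exact cj_mono inf_le_right
            have hcard'' : Nat.card Q ≤ Nat.card ((S : Subgroup G) ⊓
                Subgroup.normalizer ((cj k (W R) : Subgroup G) : Set G) : Subgroup G) := by
              rw [← card_cj k Q]
              exact Subgroup.card_le_of_le hQR''
            have hz : k * y * k⁻¹ ∈ Subgroup.normalizer ((cj k (W R) : Subgroup G) : Set G) := by
              rw [normalizer_cj]
              exact conj_mem_cj hyW.2
            have hsub : ∀ C : Set G, C ⊆ R → rc k⁻¹ C ⊆ ((S : Subgroup G) ⊓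
                Subgroup.normalizer ((cj k (W R) : Subgroup G) : Set G) : Subgroup G) := by
              intro C hC
              refine (rc_mono (hC.trans hRQ.le)).trans ?_
              rw [rc_coe, inv_inv]
              exact hQR''
            have hB' := hsub B hBR
            have hB'z : rc (k * y * k⁻¹) (rc k⁻¹ B) ⊆ ((S : Subgroup G) ⊓
                Subgroup.normalizer ((cj k (W R) : Subgroup G) : Set G) : Subgroup G) := by
              rw [← rc_mul, show k⁻¹ * (k * y * k⁻¹) = y * k⁻¹ by group, rc_mul]
              exact hsub _ hBy
            have g3 : GoodF 𝓦 (S : Subgroup G) (rc k⁻¹ B) (k * y * k⁻¹) := by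
              refine ihn _ (by omega) (cj k (W R)) hkV ?_ hkFN rfl _ _ hB' hz hB'z ?_
              · rw [Ne, cj_eq_bot_iff]; exact hVne
              · rw [card_closure_rc]; exact hcard
            have g4 := g1.trans g3
            have g5 := g2.symm (hBy.trans (fun a ha => ha.1))
            have g5' : GoodF 𝓦 (S : Subgroup G) (rc (k⁻¹ * (k * y * k⁻¹)) B) k := by
              refine g5.cast ?_ (inv_inv k)
              rw [← rc_mul]
              congr 1
              group
            exact (g4.trans g5').cast rfl (by group)
        have hall : ∀ (B : Set G) (x' : G),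
            Chain 𝓦 (Subgroup.normalizer (T : Set G)) R B x' → B ⊆ R →
            Nat.card (S : Subgroup G) - Nat.card (Subgroup.closure B) = m →
            GoodF 𝓦 (S : Subgroup G) B x' := by
          intro B x' hc
          induction hc with
          | nil B => intros; exact GoodF.one B
          | cons B y g hy hB' _ ih =>
            intro hBR hcard
            exact (hstep B y hy hBR hB' hcard).trans
              (ih hB' (by rw [card_closure_rc]; exact hcard))
        exact hall B x' hchain hB hm
    intro A g hA hAg hm
    have hreach := reach_of_fullyNormalized S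
      {U : Subgroup G | U ≤ (S : Subgroup G) ∧ FN p (S : Subgroup G) U}
      (fun U hU => hU.1) (by
        intro T hT
        obtain ⟨c, h1, h2, -⟩ := exists_fn_conj S T hT
        exact ⟨cj c T, ⟨h1, h2⟩, ⟨c, rfl⟩, h2⟩) A g hA hAg
    have hall : ∀ (A : Set G) (g : G),
        Reach {U : Subgroup G | U ≤ (S : Subgroup G) ∧ FN p (S : Subgroup G) U} A g →
        A ⊆ (S : Subgroup G) →
        Nat.card (S : Subgroup G) - Nat.card (Subgroup.closure A) = m →
        GoodF 𝓦 (S : Subgroup G) A g := by
      intro A g hr
      induction hr with
      | nil A => intros; exact GoodF.one A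
      | cons A T x g hT hx hAT _ ih =>
        intro hAS hcard
        have hxA : rc x A ⊆ T := rc_subset_of_mem_normalizer hx hAT
        have step : GoodF 𝓦 (S : Subgroup G) A x := by
          by_cases hTne : T = ⊥
          · refine ⟨1, Chain.nil A, ?_⟩
            intro a ha
            have : a = 1 := by
              have := hAT ha
              rw [hTne] at this
              simpa using this
            subst this
            simp
          · have hTR : T ≤ (S : Subgroup G) ⊓ Subgroup.normalizer (T : Set G) :=
              le_inf hT.1 Subgroup.le_normalizer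
            exact inner _ T hT.1 hTne hT.2 rfl A x (fun a ha => hTR (hAT ha)) hx
              (fun a ha => hTR (hxA ha)) hcard
        exact step.trans (ih (fun a ha => hT.1 (hxA ha)) (by rw [card_closure_rc]; exact hcard))
    exact hall A g hreach hA hm

/-- Let p be a prime, G a finite group with Sylow p-subgroup S, and 𝓦 a set of conjugacy functors for p on G. Suppose that 𝓦 controls strong fusion in N_G(T) for every nonidentity subgroup T of S for which N_S(T) is a Sylow p-subgroup of N_G(T). Then 𝓦 controls strong fusion in G. (A set of functors controls strong fusion in a subgroup H when, for a Sylow p-subgroup T' of H, every conjugation of a tuple of elements of T' into T' by an element of H is a composite of conjugations inside the normalizers N_H(W(T')), W ∈ 𝓦, all intermediate tuples staying in T'.) -/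
theorem result {G : Type*} [Group G] [Finite G] {p : ℕ} [Fact p.Prime] (S : Sylow p G) (𝓦 : Set (Subgroup G → Subgroup G)) (h𝓦 : ∀ W ∈ 𝓦, Cfsg.IsConjugacyFunctor p W) (hloc : ∀ T : Subgroup G, T ≤ (S : Subgroup G) → T ≠ ⊥ → ¬ p ∣ ((S : Subgroup G) ⊓ Subgroup.normalizer ((T : Subgroup G) : Set G)).relIndex (Subgroup.normalizer ((T : Subgroup G) : Set G)) → Cfsg.FamilyControlsStrongFusionIn p 𝓦 (Subgroup.normalizer ((T : Subgroup G) : Set G))) : Cfsg.FamilyControlsStrongFusionIn p 𝓦 ⊤ := by
  refine ⟨S, le_top, S.isPGroup', ?_, ?_⟩
  · rw [Subgroup.relIndex_top_right]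
    exact S.not_dvd_index
  · intro A h _ hA hAh
    have hAg : rc h⁻¹ A ⊆ (S : Subgroup G) := by
      rintro _ ⟨a, ha, rfl⟩
      have := hAh ⟨a, ha, rfl⟩
      simpa using this
    obtain ⟨g', hchain, hg'⟩ := main S 𝓦 h𝓦 hloc _ A h⁻¹ hA hAg rfl
    obtain ⟨n, c, h0, hstep, hsub, hlast⟩ := hchain.toFin hA
    refine ⟨n, c, h0, hstep, hsub, ?_⟩
    intro a ha
    rw [hlast]
    have := hg' a ha
    simpa using this

end Cfsg.Agent.S1959
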