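import Cfsg.Statements.S2157

set_option autoImplicit false
open Cfsg

namespace Cfsg.Agent.S2157

open Cfsg.Lie

/-- consistency check of one chain entry -/
def chkEntry (D : ChevalleyDatum) (r : ℕ) (prev : ℕ) : List (ℕ × ℤ) → Bool
  | [] => true
  | (u, _) :: rest =>
    (match D.chainRoot r prev 1 with
     | some k => k == u
     | none => false) && decide (prev < D.nroots) && chkEntry D r u rest

/-- consistency check of the chain table -/
def chk (D : ChevalleyDatum) : Bool :=
  (List.range D.nroots).all fun r =>
    (D.chain.getD r #[]).toList.all fun e => chkEntry D r e.1 e.2.toList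

theorem chkEntry_spec {F : Type*} [Field F] (D : ChevalleyDatum) (χ : ℕ → Fˣ)
    (hχ : D.IsRootCharacter χ) (r : ℕ) (hr : r < D.nroots) :
    ∀ (l : List (ℕ × ℤ)) (prev : ℕ) (c : Fˣ) (j : ℕ), chkEntry D r prev l = true →
      χ prev = χ r ^ j * c → ∀ q ∈ l.zipIdx j, χ q.1.1 = χ r ^ (q.2 + 1) * c := by
  intro l
  induction l with
  | nil => intro prev c j _ _ q hq; simp at hq
  | cons a rest ih =>
    intro prev c j hchk hprev q hq
    obtain ⟨u, M⟩ := a
    simp only [chkEntry, Bool.and_eq_true, decide_eq_true_eq] at hchk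
    obtain ⟨⟨h1, h2⟩, h3⟩ := hchk
    have hu : D.chainRoot r prev 1 = some u := by
      cases hcr : D.chainRoot r prev 1 with
      | none => rw [hcr] at h1; simp at h1
      | some k => rw [hcr] at h1; simp only [beq_iff_eq] at h1; rw [h1]
    have hχu : χ u = χ r ^ (j + 1) * c := by
      rw [hχ.2 r prev u hr h2 hu, hprev, pow_succ]
      exact mul_left_comm _ _ _ |>.trans (by rw [mul_assoc])
    rw [List.zipIdx_cons, List.mem_cons] at hq
    rcases hq with hq | hq
    · rw [hq]; exact hχu
    · exact ih u c (j + 1) h3 hχu q hq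

theorem chainCoeff_spec {F : Type*} [Field F] (D : ChevalleyDatum) (hchk : chk D = true) (χ : ℕ → Fˣ)
    (hχ : D.IsRootCharacter χ) (r : ℕ) (hr : r < D.nroots) (s u : ℕ) (km : ℕ × ℤ)
    (hkm : km ∈ D.chainCoeff r s u) : χ u = χ r ^ km.1 * χ s := by
  unfold ChevalleyDatum.chainCoeff at hkm
  rw [List.mem_flatMap] at hkm
  obtain ⟨e, he, hkm⟩ := hkm
  rw [List.mem_filter] at he
  obtain ⟨he, hes⟩ := he
  rw [List.mem_map] at hkm
  obtain ⟨q, hq, hqkm⟩ := hkm
  rw [List.mem_filter] at hq
  obtain ⟨hq, hqu⟩ := hq
  simp only [decide_eq_true_eq] at hes hqu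
  unfold chk at hchk
  rw [List.all_eq_true] at hchk
  have h1 := hchk r (List.mem_range.mpr hr)
  rw [List.all_eq_true] at h1
  have h2 := h1 e he
  have := chkEntry_spec D χ hχ r hr e.2.toList e.1 (χ e.1) 0 h2 (by simp) q hq
  rw [← hqkm, ← hqu, ← hes]
  exact this

theorem conj_of_chk {F : Type*} [Field F] (D : ChevalleyDatum) (hchk : chk D = true) (χ : ℕ → Fˣ)
    (hχ : D.IsRootCharacter χ) (r : ℕ) (hr : r < D.nroots) (t : F) :
    D.charDiag F χ * D.x F r t * D.charDiag F (fun s => (χ s)⁻¹) = D.x F r ((χ r : F) * t) := by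
  unfold ChevalleyDatum.x ChevalleyDatum.charDiag
  rw [dif_pos hr, dif_pos hr]
  ext row col
  rw [Matrix.mul_diagonal, Matrix.diagonal_mul]
  have hneg : χ (D.negIdx.getD r 0) = (χ r)⁻¹ := hχ.1 r hr
  rcases col with i | s
  · rcases row with i' | u
    · simp [ChevalleyDatum.xMat]
    · simp only [ChevalleyDatum.xMat, Matrix.of_apply, Sum.elim_inr, Sum.elim_inl, mul_one]
      by_cases hur : u = ⟨r, hr⟩
      · rw [if_pos hur, if_pos hur, hur]; ring
      · rw [if_neg hur, if_neg hur, mul_zero]
  · simp only [ChevalleyDatum.xMat, Matrix.of_apply, Sum.elim_inr]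
    by_cases hsr : s = ⟨r, hr⟩
    · rw [if_pos hsr, if_pos hsr]
      rcases row with i' | u
      · simp
      · simp only [Sum.elim_inr]
        by_cases hur : u = ⟨r, hr⟩
        · rw [if_pos hur, hur, hsr]; simp
        · rw [if_neg hur]; simp
    · rw [if_neg hsr, if_neg hsr]
      by_cases hsn : s.val = D.negIdx.getD r 0
      · rw [if_pos hsn, if_pos hsn]
        have hχs : ((χ s.val)⁻¹ : Fˣ) = χ r := by rw [hsn, hneg, inv_inv]
        rcases row with i' | u
        · simp only [Sum.elim_inl, one_mul, hχs]; ring
        · simp only [Sum.elim_inr]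
          by_cases hus : u = s
          · rw [if_pos hus, if_pos hus, hus]; simp
          · rw [if_neg hus, if_neg hus]
            by_cases hur : u = ⟨r, hr⟩
            · rw [if_pos hur, if_pos hur, hχs, hur]; ring
            · rw [if_neg hur, if_neg hur]; simp
      · rw [if_neg hsn, if_neg hsn]
        rcases row with i' | u
        · simp
        · simp only [Sum.elim_inr]
          rw [mul_add, add_mul]
          congr 1
          · by_cases hus : u = s
            · rw [if_pos hus, hus]; simp
            · rw [if_neg hus]; simp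
          · rw [← List.sum_map_mul_left, ← List.sum_map_mul_right]
            congr 1
            apply List.map_congr_left
            intro km hkm
            have := chainCoeff_spec D hchk χ hχ r hr s.val u.val km hkm
            rw [this]
            simp only [Units.val_mul, Units.val_pow_eq_pow_val, Units.val_inv_eq_inv_val]
            have hne : (χ s.val : F) ≠ 0 := Units.ne_zero _
            field_simp
            ring

set_option maxRecDepth 100000 in
theorem chkG2 : chk chevG2 = true := by decide +kernel
set_option maxRecDepth 100000 in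
theorem chkB2 : chk chevB2 = true := by decide +kernel
set_option maxRecDepth 100000 in
theorem chkD4 : chk chevD4 = true := by decide +kernel
set_option maxRecDepth 100000 in
theorem chkF4 : chk chevF4 = true := by decide +kernel
set_option maxRecDepth 100000 in
theorem chkE6 : chk chevE6 = true := by decide +kernel
set_option maxRecDepth 100000 in
theorem chkE7 : chk chevE7 = true := by decide +kernel
set_option maxRecDepth 100000 in
theorem chkE8 : chk chevE8 = true := by decide +kernel

theorem result {F : Type*} [Field F] (D : Cfsg.Lie.ChevalleyDatum) (hD : D ∈ [Cfsg.Lie.chevG2, Cfsg.Lie.chevB2, Cfsg.Lie.chevD4, Cfsg.Lie.chevF4, Cfsg.Lie.chevE6, Cfsg.Lie.chevE7, Cfsg.Lie.chevE8]) (χ : ℕ → Fˣ) (hχ : D.IsRootCharacter χ) (r : ℕ) (hr : r < D.nroots) (t : F) :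
    D.charDiag F χ * D.x F r t * D.charDiag F (fun s => (χ s)⁻¹) = D.x F r ((χ r : F) * t) := by
  have hchk : chk D = true := by
    simp only [List.mem_cons, List.not_mem_nil, or_false] at hD
    rcases hD with h | h | h | h | h | h | h <;> subst h
    · exact chkG2
    · exact chkB2
    · exact chkD4
    · exact chkF4
    · exact chkE6
    · exact chkE7
    · exact chkE8
  exact conj_of_chk D hchk χ hχ r hr t

end Cfsg.Agent.S2157
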