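import Cfsg.Statements.S1067
import Cfsg.Agent.Lib.Helper36.ChevTwOrdD4

set_option autoImplicit false
open Cfsg

namespace Cfsg.Agent.S1067

/-- `|³D₄(q)| = q¹² (q² - 1)(q⁶ - 1)(q⁸ + q⁴ + 1)`, the group being realised inside D₄ over the field with `q³` elements. -/
theorem result {K : Type*} [Field K] [Fintype K] {q : ℕ} (hq : IsPrimePow q) (hK : Fintype.card K = q ^ 3) :
    Nat.card ↥(Cfsg.Lie.twistedD4 K q) = q ^ 12 * (q ^ 2 - 1) * (q ^ 6 - 1) * (q ^ 8 + q ^ 4 + 1) := by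
  obtain ⟨φ, hφ, hfix, h3⟩ := Cfsg.Agent.Lib.Helper36.frob_facts hq 3 hK
  rw [Cfsg.Agent.Lib.Helper36.twistedD4_eq K q φ hφ hK, Cfsg.Agent.Lib.Helper36.card_twGroup_D4 K φ q hK hfix h3]
  have h1 : 1 ≤ q := le_of_lt hq.one_lt
  have hp : ∀ k, 1 ≤ q ^ k := fun k => Nat.one_le_pow _ _ h1
  simp only [Cfsg.Agent.Lib.Helper36.expsD4, List.map_cons, List.map_nil, List.sum_cons, List.sum_nil]
  zify [h1, hp 2, hp 3, hp 6]
  ring


end Cfsg.Agent.S1067
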