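import Mathlib
import Cfsg.Statements.S0695

set_option autoImplicit false
open Cfsg

namespace Cfsg.Agent.S0695

open MulAction SubMulAction
open scoped Pointwise

section

variable {G : Type*} [Group G] {X : Type*} [MulAction G X] (N : Subgroup G) [N.Normal]
  (hreg : ∀ x : X, MulAction.stabilizer N x = ⊥) (x0 : X)

/-- the point attached to an element of `N` -/
def pt (n : N) : X := (n : G) • x0

omit [N.Normal] in
include hreg in
theorem pt_inj {n m : N} (h : pt N x0 n = pt N x0 m) : n = m := by
  have h1 : m⁻¹ * n ∈ MulAction.stabilizer N x0 := by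
    rw [MulAction.mem_stabilizer_iff]
    show ((m⁻¹ * n : N) : G) • x0 = x0
    have h' : (n : G) • x0 = (m : G) • x0 := h
    rw [Subgroup.coe_mul, mul_smul, h', Subgroup.coe_inv, inv_smul_smul]
  rw [hreg x0, Subgroup.mem_bot] at h1
  exact (inv_mul_eq_one.1 h1).symm

/-- conjugation of an element of `N` by an element of `G` -/
def cj (k : G) (n : N) : N := ⟨k * n * k⁻¹, ‹N.Normal›.conj_mem n n.2 k⟩

theorem smul_pt (k : G) (hk : k • x0 = x0) (n : N) : k • pt N x0 n = pt N x0 (cj N k n) := by
  show k • ((n : G) • x0) = (k * n * k⁻¹) • x0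
  have hk' : k⁻¹ • x0 = x0 := by rw [inv_smul_eq_iff, hk]
  rw [mul_smul, mul_smul, hk']

theorem cj_inv (k : G) (n : N) : cj N k n⁻¹ = (cj N k n)⁻¹ := by
  apply Subtype.ext
  simp [cj, mul_assoc]

/-- the block `{n x0, n⁻¹ x0}` -/
def blk (n : N) : Set (ofStabilizer G x0) :=
  {y | (y : X) = pt N x0 n ∨ (y : X) = pt N x0 n⁻¹}

include hreg in
theorem blk_isBlock (n : N) : IsBlock (stabilizer G x0) (blk N x0 n) := by
  have hsm : ∀ k : stabilizer G x0, k • blk N x0 n = blk N x0 (cj N k n) := by
    intro k
    ext y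
    rw [Set.mem_smul_set_iff_inv_smul_mem]
    simp only [blk, Set.mem_ofPred_eq]
    have hk : (k : G) • x0 = x0 := k.2
    have h1 : ((k⁻¹ • y : ofStabilizer G x0) : X) = (k : G)⁻¹ • (y : X) := rfl
    rw [h1, inv_smul_eq_iff, inv_smul_eq_iff, smul_pt N x0 k hk, smul_pt N x0 k hk, cj_inv]
  rw [isBlock_iff_smul_eq_of_mem]
  intro k a ha hka
  rw [hsm k]
  have hk : (k : G) • x0 = x0 := k.2
  have hka' : (k : G) • (a : X) = pt N x0 n ∨ (k : G) • (a : X) = pt N x0 n⁻¹ := hka
  have key : cj N k n = n ∨ cj N k n = n⁻¹ := by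
    rcases ha with ha | ha
    · rw [ha, smul_pt N x0 k hk] at hka'
      rcases hka' with h | h
      · exact Or.inl (pt_inj N hreg x0 h)
      · exact Or.inr (pt_inj N hreg x0 h)
    · rw [ha, smul_pt N x0 k hk, cj_inv] at hka'
      rcases hka' with h | h
      · right
        have := pt_inj N hreg x0 h
        exact inv_eq_iff_eq_inv.1 this
      · left
        exact inv_injective (pt_inj N hreg x0 h)
  rcases key with h | h
  · rw [h]
  · rw [h]
    ext y
    simp only [blk, Set.mem_ofPred_eq, inv_inv]
    exact Or.comm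

end

/-- A regular normal subgroup of a doubly primitive group of finite degree at least 2 is an elementary abelian 2-group (and the degree is a power of 2), unless the degree is 3. -/
theorem result {G : Type*} [Group G] {X : Type*} [Fintype X] [MulAction G X] (hX : 2 ≤ Fintype.card X) (h2 : MulAction.IsMultiplyPreprimitive G X 2) (N : Subgroup G) [N.Normal] (htrans : MulAction.IsPretransitive N X) (hreg : ∀ x : X, MulAction.stabilizer N x = ⊥) : Fintype.card X = 3 ∨ (IsMulCommutative N ∧ (∀ n ∈ N, n ^ 2 = 1) ∧ ∃ m : ℕ, Fintype.card X = 2 ^ m) := by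
  classical
  have hne : Nonempty X := by
    rw [← Fintype.card_pos_iff]; omega
  obtain ⟨x0⟩ := hne
  have hGtr : IsPretransitive G X := by
    refine ⟨fun a b => ?_⟩
    obtain ⟨n, hn⟩ := htrans.exists_smul_eq a b
    exact ⟨(n : G), hn⟩
  have hprim : IsPreprimitive (stabilizer G x0) (ofStabilizer G x0) := by
    rw [← is_one_preprimitive_iff]
    exact (isMultiplyPreprimitive_succ_iff_ofStabilizer G X (n := 1) le_rfl (a := x0)).1 h2
  -- bijection N ≃ X
  have hbij : Function.Bijective (pt N x0) := by
    refine ⟨fun n m h => pt_inj N hreg x0 h, fun x => ?_⟩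
    obtain ⟨n, hn⟩ := htrans.exists_smul_eq x0 x
    exact ⟨n, hn⟩
  have hcardN : Nat.card N = Fintype.card X := by
    rw [← Nat.card_eq_fintype_card]
    exact Nat.card_congr (Equiv.ofBijective _ hbij)
  have hNfin : Finite N := Nat.finite_of_card_ne_zero (by rw [hcardN]; omega)
  -- the dichotomy
  have hsq : (∀ n : N, n ^ 2 = 1) ∨ Fintype.card X = 3 := by
    by_cases hall : ∀ n : N, n ^ 2 = 1
    · exact Or.inl hall
    · simp only [not_forall] at hall
      obtain ⟨n, hn⟩ := hall
      have hn1 : n ≠ 1 := by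
        rintro rfl; exact hn (one_pow 2)
      have hblock := blk_isBlock N hreg x0 n
      have hpn : pt N x0 n ≠ x0 := by
        intro h
        have h1 : pt N x0 n = pt N x0 1 := by
          rw [h]; show x0 = ((1 : N) : G) • x0
          rw [Subgroup.coe_one, one_smul]
        exact hn1 (pt_inj N hreg x0 h1)
      have hpn' : pt N x0 n⁻¹ ≠ x0 := by
        intro h
        have h1 : pt N x0 n⁻¹ = pt N x0 1 := by
          rw [h]; show x0 = ((1 : N) : G) • x0
          rw [Subgroup.coe_one, one_smul]
        exact hn1 (inv_eq_one.1 (pt_inj N hreg x0 h1))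
      rcases hprim.isTrivialBlock_of_isBlock hblock with hss | huniv
      · exfalso
        have h1 : (⟨pt N x0 n, hpn⟩ : ofStabilizer G x0) ∈ blk N x0 n := Or.inl rfl
        have h2 : (⟨pt N x0 n⁻¹, hpn'⟩ : ofStabilizer G x0) ∈ blk N x0 n := Or.inr rfl
        have h3 := hss h1 h2
        have h4 : pt N x0 n = pt N x0 n⁻¹ := congrArg Subtype.val h3
        have h5 : n = n⁻¹ := pt_inj N hreg x0 h4
        apply hn
        rw [pow_two]
        nth_rewrite 1 [h5]
        exact inv_mul_cancel n
      · right
        -- the complement of x0 has at most two points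
        have hle : Nat.card (ofStabilizer G x0) ≤ 2 := by
          have hsub : (Set.univ : Set (ofStabilizer G x0)) ⊆
              {⟨pt N x0 n, hpn⟩, ⟨pt N x0 n⁻¹, hpn'⟩} := by
            rw [← huniv]
            intro y hy
            rcases hy with hy | hy
            · exact Or.inl (Subtype.ext hy)
            · exact Or.inr (Subtype.ext hy)
          have h1 := Set.ncard_le_ncard hsub (Set.toFinite _)
          rw [Set.ncard_univ] at h1
          exact h1.trans (Set.ncard_insert_le _ _ |>.trans (by simp))
        have h3 := nat_card_ofStabilizer_add_one_eq G x0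
        rw [Nat.card_eq_fintype_card (α := X)] at h3
        -- card X ≤ 3 and ≥ 2; if it is 2, then n ^ 2 = 1
        have hle3 : Fintype.card X ≤ 3 := by omega
        rcases Nat.lt_or_ge (Fintype.card X) 3 with hlt | hge
        · exfalso
          have h2 : Fintype.card X = 2 := by omega
          apply hn
          rw [← hcardN] at h2
          rw [← h2]
          exact pow_card_eq_one'
        · omega
  rcases hsq with hsq | h3
  · right
    have hcomm : ∀ a b : N, a * b = b * a := by
      intro a b
      have ha : a⁻¹ = a := by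
        rw [inv_eq_iff_mul_eq_one, ← pow_two]; exact hsq a
      have hb : b⁻¹ = b := by
        rw [inv_eq_iff_mul_eq_one, ← pow_two]; exact hsq b
      have hab : (a * b)⁻¹ = a * b := by
        rw [inv_eq_iff_mul_eq_one, ← pow_two]; exact hsq (a * b)
      rw [← hab, mul_inv_rev, ha, hb]
    refine ⟨⟨⟨hcomm⟩⟩, fun n hn => ?_, ?_⟩
    · have := hsq ⟨n, hn⟩
      exact congrArg Subtype.val this
    · have hp : IsPGroup 2 N := by
        intro g
        exact ⟨1, by rw [pow_one]; exact hsq g⟩
      have : Fact (Nat.Prime 2) := ⟨Nat.prime_two⟩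
      obtain ⟨m, hm⟩ := (IsPGroup.iff_card (p := 2) (G := N)).1 hp
      exact ⟨m, by rw [← hcardN, hm]⟩
  · exact Or.inl h3

end Cfsg.Agent.S0695
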