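import Mathlib
import Cfsg.Agent.S0695
import Cfsg.Statements.S0696

set_option autoImplicit false
open Cfsg

namespace Cfsg.Agent.S0696

open MulAction SubMulAction
open scoped Pointwise
open Cfsg.Agent.S0695

/-- A triply primitive group of degree at least 3 having a regular normal subgroup has degree 3 or 4. -/
theorem result {G : Type*} [Group G] {X : Type*} [Fintype X] [MulAction G X] (hX : 3 ≤ Fintype.card X) (h3 : MulAction.IsMultiplyPreprimitive G X 3) (N : Subgroup G) [N.Normal] (htrans : MulAction.IsPretransitive N X) (hreg : ∀ x : X, MulAction.stabilizer N x = ⊥) : Fintype.card X = 3 ∨ Fintype.card X = 4 := by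
  classical
  have h2 : IsMultiplyPreprimitive G X 2 := by
    apply isMultiplyPreprimitive_of_le G X h3 (by norm_num)
    rw [ENat.card_eq_coe_fintype_card]
    exact_mod_cast hX
  rcases Cfsg.Agent.S0695.result (by omega) h2 N htrans hreg with h | ⟨_, hsq, _⟩
  · exact Or.inl h
  · have hne : Nonempty X := by
      rw [← Fintype.card_pos_iff]; omega
    obtain ⟨x0⟩ := hne
    have hbij : Function.Bijective (pt N x0) := by
      refine ⟨fun n m h => pt_inj N hreg x0 h, fun x => ?_⟩
      obtain ⟨n, hn⟩ := htrans.exists_smul_eq x0 x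
      exact ⟨n, hn⟩
    have hcardN : Nat.card N = Fintype.card X := by
      rw [← Nat.card_eq_fintype_card]
      exact Nat.card_congr (Equiv.ofBijective _ hbij)
    have hNfin : Finite N := Nat.finite_of_card_ne_zero (by rw [hcardN]; omega)
    have hsq' : ∀ n : N, n * n = 1 := by
      intro n
      have := hsq n n.2
      apply Subtype.ext
      rw [Subgroup.coe_mul, ← pow_two, this]; rfl
    have hpt1 : pt N x0 1 = x0 := by
      show ((1 : N) : G) • x0 = x0
      rw [Subgroup.coe_one, one_smul]
    -- pick n ≠ 1 and m ∉ {1, n}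
    have : Fintype N := Fintype.ofFinite N
    have hc3 : 2 < Fintype.card N := by
      rw [← Nat.card_eq_fintype_card, hcardN]; omega
    obtain ⟨n, m, hn1, hm1, hmn⟩ : ∃ n m : N, n ≠ 1 ∧ m ≠ 1 ∧ m ≠ n := by
      obtain ⟨a, b, c, hab, hac, hbc⟩ := Fintype.two_lt_card_iff.1 hc3
      by_cases ha : a = 1
      · exact ⟨b, c, fun h => hab (ha.trans h.symm), fun h => hac (ha.trans h.symm), fun h => hbc h.symm⟩
      · by_cases hb : b = 1
        · exact ⟨a, c, ha, fun h => hbc (hb.trans h.symm), fun h => hac h.symm⟩
        · exact ⟨a, b, ha, hb, fun h => hab h.symm⟩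
    have hcj_mul : ∀ (k : G) (a b : N), cj N k (a * b) = cj N k a * cj N k b := by
      intro k a b
      apply Subtype.ext
      simp [cj, mul_assoc]
    have hninv : n⁻¹ = n := by
      rw [inv_eq_iff_mul_eq_one]; exact hsq' n
    have hmn1 : m * n ≠ 1 := by
      intro h
      have : m = n⁻¹ := eq_inv_of_mul_eq_one_left h
      exact hmn (this.trans hninv)
    have hmnn : m * n ≠ n := by
      intro h
      exact hm1 (mul_eq_right.1 h)
    have hmnn' : m * n * n = m := by
      rw [mul_assoc, hsq' n, mul_one]
    set y0 := pt N x0 n with hy0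
    have hy0x0 : y0 ≠ x0 := by
      intro h
      rw [← hpt1] at h
      exact hn1 (pt_inj N hreg x0 h)
    let s : Set X := {x0, y0}
    have hs : s.encard + 1 = ((3 : ℕ) : ℕ∞) := by
      rw [Set.encard_pair (Ne.symm hy0x0)]; rfl
    have hprim : IsPreprimitive (fixingSubgroup G s) (ofFixingSubgroup G s) :=
      h3.isPreprimitive_ofFixingSubgroup hs
    have hkx0 : ∀ k : fixingSubgroup G s, (k : G) • x0 = x0 := fun k =>
      (mem_fixingSubgroup_iff G).1 k.2 x0 (by simp [s])
    have hky0 : ∀ k : fixingSubgroup G s, (k : G) • y0 = y0 := fun k =>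
      (mem_fixingSubgroup_iff G).1 k.2 y0 (by simp [s])
    have hcjn : ∀ k : fixingSubgroup G s, cj N (k : G) n = n := by
      intro k
      apply pt_inj N hreg x0
      rw [← smul_pt N x0 k (hkx0 k)]
      exact hky0 k
    let B : Set (ofFixingSubgroup G s) := {z | (z : X) = pt N x0 m ∨ (z : X) = pt N x0 (m * n)}
    have hsm : ∀ k : fixingSubgroup G s, k • B =
        ({z : ofFixingSubgroup G s | (z : X) = pt N x0 (cj N (k : G) m) ∨
          (z : X) = pt N x0 (cj N (k : G) m * n)}) := by
      intro k
      ext z
      rw [Set.mem_smul_set_iff_inv_smul_mem]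
      simp only [B, Set.mem_ofPred_eq]
      have h1 : ((k⁻¹ • z : ofFixingSubgroup G s) : X) = (k : G)⁻¹ • (z : X) := rfl
      rw [h1, inv_smul_eq_iff, inv_smul_eq_iff, smul_pt N x0 k (hkx0 k), smul_pt N x0 k (hkx0 k),
        hcj_mul, hcjn k]
    have hblock : IsBlock (fixingSubgroup G s) B := by
      rw [isBlock_iff_smul_eq_of_mem]
      intro k a ha hka
      rw [hsm k]
      have hka' : (k : G) • (a : X) = pt N x0 m ∨ (k : G) • (a : X) = pt N x0 (m * n) := hka
      have key : cj N (k : G) m = m ∨ cj N (k : G) m = m * n := by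
        rcases ha with ha | ha
        · rw [ha, smul_pt N x0 k (hkx0 k)] at hka'
          rcases hka' with h | h
          · exact Or.inl (pt_inj N hreg x0 h)
          · exact Or.inr (pt_inj N hreg x0 h)
        · rw [ha, smul_pt N x0 k (hkx0 k), hcj_mul, hcjn k] at hka'
          rcases hka' with h | h
          · right
            have h' := pt_inj N hreg x0 h
            calc cj N (k : G) m = cj N (k : G) m * n * n := by rw [mul_assoc, hsq' n, mul_one]
              _ = m * n := by rw [h']
          · left
            exact mul_right_cancel (pt_inj N hreg x0 h)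
      rcases key with h | h
      · rw [h]
      · rw [h, hmnn']
        ext z
        simp only [B, Set.mem_ofPred_eq]
        exact Or.comm
    have hm_mem : pt N x0 m ∈ ofFixingSubgroup G s := by
      rw [mem_ofFixingSubgroup_iff]
      simp only [s, Set.mem_insert_iff, Set.mem_singleton_iff, not_or]
      refine ⟨fun h => ?_, fun h => ?_⟩
      · exact hm1 (pt_inj N hreg x0 (h.trans hpt1.symm))
      · exact hmn (pt_inj N hreg x0 h)
    have hmn_mem : pt N x0 (m * n) ∈ ofFixingSubgroup G s := by
      rw [mem_ofFixingSubgroup_iff]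
      simp only [s, Set.mem_insert_iff, Set.mem_singleton_iff, not_or]
      refine ⟨fun h => ?_, fun h => ?_⟩
      · exact hmn1 (pt_inj N hreg x0 (h.trans hpt1.symm))
      · exact hmnn (pt_inj N hreg x0 h)
    rcases hprim.isTrivialBlock_of_isBlock hblock with hss | huniv
    · exfalso
      have h1 : (⟨pt N x0 m, hm_mem⟩ : ofFixingSubgroup G s) ∈ B := Or.inl rfl
      have h2 : (⟨pt N x0 (m * n), hmn_mem⟩ : ofFixingSubgroup G s) ∈ B := Or.inr rfl
      have h3 := hss h1 h2
      have h4 : pt N x0 m = pt N x0 (m * n) := congrArg Subtype.val h3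
      have h5 : m = m * n := pt_inj N hreg x0 h4
      exact hn1 (left_eq_mul.1 h5)
    · have hle : Nat.card (ofFixingSubgroup G s) ≤ 2 := by
        have hsub : (Set.univ : Set (ofFixingSubgroup G s)) ⊆
            {⟨pt N x0 m, hm_mem⟩, ⟨pt N x0 (m * n), hmn_mem⟩} := by
          rw [← huniv]
          intro z hz
          rcases hz with hz | hz
          · exact Or.inl (Subtype.ext hz)
          · exact Or.inr (Subtype.ext hz)
        have h1 := Set.ncard_le_ncard hsub (Set.toFinite _)
        rw [Set.ncard_univ] at h1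
        exact h1.trans (Set.ncard_insert_le _ _ |>.trans (by simp))
      have hcompl : Nat.card (ofFixingSubgroup G s) = sᶜ.ncard := by
        rw [← Nat.card_coe_set_eq]; rfl
      have hsum := Set.ncard_add_ncard_compl s
      have hs2 : s.ncard = 2 := Set.ncard_pair (Ne.symm hy0x0)
      rw [Nat.card_eq_fintype_card] at hsum
      omega

end Cfsg.Agent.S0696
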