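import Cfsg.Statements.S0670
import Mathlib.GroupTheory.Sylow
import Mathlib.GroupTheory.FiniteAbelian.Basic
import Mathlib.GroupTheory.PGroup

set_option autoImplicit false
open Cfsg

namespace Cfsg.Agent.S0670

/-- a `p`-group acting linearly in characteristic `p` fixes a nonzero vector of every nonzero
invariant subspace -/
theorem exists_fixed_vector {K : Type*} [Field K] {p : ℕ} [Fact p.Prime] [CharP K p]
    {P : Type*} [Group P] [Finite P] (hP : IsPGroup p P) {V : Type*} [AddCommGroup V] [Module K V]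
    (ρ : P →* (V →ₗ[K] V)) (W : Submodule K V) (hW : ∀ g, ∀ w ∈ W, ρ g w ∈ W) (hW0 : W ≠ ⊥) :
    ∃ w ∈ W, w ≠ 0 ∧ ∀ g, ρ g w = w := by
  classical
  obtain ⟨w₀, hw₀, hw₀0⟩ := Submodule.exists_mem_ne_zero_of_ne_bot hW0
  have hpV : ∀ v : V, p • v = 0 := by
    intro v
    rw [← Nat.cast_smul_eq_nsmul K, CharP.cast_eq_zero, zero_smul]
  have hSfin : Finite (Set.range (fun g : P => ρ g w₀)) := Set.finite_range _
  have hfg : AddGroup.FG (AddSubgroup.closure (Set.range (fun g : P => ρ g w₀))) :=
    AddGroup.closure_finite_fg _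
  have htors : IsAddTorsion (AddSubgroup.closure (Set.range (fun g : P => ρ g w₀))) := by
    intro m
    rw [isOfFinAddOrder_iff_nsmul_eq_zero]
    exact ⟨p, (Fact.out : p.Prime).pos, Subtype.ext (hpV m.1)⟩
  have hfin : Finite (AddSubgroup.closure (Set.range (fun g : P => ρ g w₀))) :=
    AddCommGroup.finite_of_fg_isAddTorsion _ htors
  have hMW : AddSubgroup.closure (Set.range (fun g : P => ρ g w₀)) ≤ W.toAddSubgroup := by
    rw [AddSubgroup.closure_le]
    rintro _ ⟨g, rfl⟩
    exact hW g w₀ hw₀
  have hMinv : ∀ g : P, ∀ m ∈ AddSubgroup.closure (Set.range (fun g : P => ρ g w₀)),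
      ρ g m ∈ AddSubgroup.closure (Set.range (fun g : P => ρ g w₀)) := by
    intro g m hm
    induction hm using AddSubgroup.closure_induction with
    | mem x hx =>
      obtain ⟨h, rfl⟩ := hx
      apply AddSubgroup.subset_closure
      exact ⟨g * h, by simp [map_mul]⟩
    | zero => rw [map_zero]; exact AddSubgroup.zero_mem _
    | add x y _ _ hx hy => rw [map_add]; exact AddSubgroup.add_mem _ hx hy
    | neg x _ hx => rw [map_neg]; exact AddSubgroup.neg_mem _ hx
  let _inst : MulAction P (AddSubgroup.closure (Set.range (fun g : P => ρ g w₀))) :=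
    { smul := fun g m => ⟨ρ g m.1, hMinv g m.1 m.2⟩
      one_smul := fun m => Subtype.ext (by
        show ρ 1 m.1 = m.1
        rw [map_one]; rfl)
      mul_smul := fun g h m => Subtype.ext (by
        show ρ (g * h) m.1 = ρ g (ρ h m.1)
        rw [map_mul]; rfl) }
  have hw₀M : w₀ ∈ AddSubgroup.closure (Set.range (fun g : P => ρ g w₀)) :=
    AddSubgroup.subset_closure ⟨1, by simp⟩
  have hdvd : p ∣ Nat.card (AddSubgroup.closure (Set.range (fun g : P => ρ g w₀))) := by
    have h1 : addOrderOf (⟨w₀, hw₀M⟩ :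
        AddSubgroup.closure (Set.range (fun g : P => ρ g w₀))) = p := by
      apply addOrderOf_eq_prime
      · exact Subtype.ext (hpV w₀)
      · intro h; exact hw₀0 (congrArg Subtype.val h)
    rw [← h1]; exact addOrderOf_dvd_natCard _
  have h0fix : (0 : AddSubgroup.closure (Set.range (fun g : P => ρ g w₀))) ∈
      MulAction.fixedPoints P (AddSubgroup.closure (Set.range (fun g : P => ρ g w₀))) := by
    intro g
    exact Subtype.ext (map_zero (ρ g))
  obtain ⟨b, hb, hb0⟩ := hP.exists_fixed_point_of_prime_dvd_card_of_fixed_point _ hdvd h0fix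
  refine ⟨b.1, hMW b.2, fun h => hb0 (Subtype.ext h.symm), fun g => ?_⟩
  exact congrArg Subtype.val (hb g)


/-- a Sylow `p`-subgroup is transitive on a transitive `G`-set of `p`-power size -/
theorem sylow_transitive {G : Type*} [Group G] [Finite G] {p f : ℕ} [Fact p.Prime] {Ω : Type*}
    [Fintype Ω] [MulAction G Ω] [MulAction.IsPretransitive G Ω] (hcard : Fintype.card Ω = p ^ f)
    (P : Sylow p G) (ω x : Ω) : ∃ g : (P : Subgroup G), g • ω = x := by
  classical
  have hp : p.Prime := Fact.out
  have h1 : Nat.card (MulAction.orbit (↥(P : Subgroup G)) ω) *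
      Nat.card (MulAction.stabilizer (↥(P : Subgroup G)) ω) = Nat.card (↥(P : Subgroup G)) := by
    rw [← Nat.card_prod]
    exact Nat.card_congr (MulAction.orbitProdStabilizerEquivGroup _ ω)
  have h2 : Nat.card (MulAction.orbit G ω) * Nat.card (MulAction.stabilizer G ω) = Nat.card G := by
    rw [← Nat.card_prod]
    exact Nat.card_congr (MulAction.orbitProdStabilizerEquivGroup _ ω)
  have horb : Nat.card (MulAction.orbit G ω) = p ^ f := by
    rw [MulAction.orbit_eq_univ, Nat.card_congr (Equiv.Set.univ Ω), Nat.card_eq_fintype_card, hcard]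
  rw [horb] at h2
  obtain ⟨a, ha⟩ := IsPGroup.iff_card.mp
    (P.isPGroup'.to_subgroup (MulAction.stabilizer (↥(P : Subgroup G)) ω))
  have hdvd : Nat.card (MulAction.stabilizer (↥(P : Subgroup G)) ω) ∣
      Nat.card (MulAction.stabilizer G ω) := by
    let φ : MulAction.stabilizer (↥(P : Subgroup G)) ω →* MulAction.stabilizer G ω :=
      { toFun := fun y => ⟨y.1.1, y.2⟩
        map_one' := rfl
        map_mul' := fun _ _ => rfl }
    apply Subgroup.card_dvd_of_injective φ
    intro y z hyz
    apply Subtype.ext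
    apply Subtype.ext
    exact congrArg (fun t : MulAction.stabilizer G ω => t.1) hyz
  have hG0 : Nat.card G ≠ 0 := Nat.card_pos.ne'
  have hdvd2 : p ^ (f + a) ∣ Nat.card G := by
    rw [← h2, pow_add, ← ha]
    exact Nat.mul_dvd_mul_left _ hdvd
  have hle : f + a ≤ (Nat.card G).factorization p :=
    (hp.pow_dvd_iff_le_factorization hG0).mp hdvd2
  rw [P.card_eq_multiplicity, ha] at h1
  have horbP : p ^ f ≤ Nat.card (MulAction.orbit (↥(P : Subgroup G)) ω) := by
    have h3 : p ^ (f + a) ≤ Nat.card (MulAction.orbit (↥(P : Subgroup G)) ω) * p ^ a := by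
      rw [h1]
      exact Nat.pow_le_pow_right hp.pos hle
    rw [pow_add] at h3
    exact Nat.le_of_mul_le_mul_right h3 (pow_pos hp.pos a)
  have huniv : MulAction.orbit (↥(P : Subgroup G)) ω = Set.univ := by
    rw [Set.eq_univ_iff_ncard, Nat.card_eq_fintype_card, hcard]
    apply le_antisymm
    · rw [← hcard, ← Nat.card_eq_fintype_card]
      exact Set.ncard_le_card _
    · rw [← Nat.card_coe_set_eq]
      exact horbP
  have hx : x ∈ MulAction.orbit (↥(P : Subgroup G)) ω := by rw [huniv]; exact Set.mem_univ x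
  exact hx

/-- In characteristic `p`, the permutation module of a transitive action of degree `p ^ f` has the line of constant functions as its only irreducible submodule: every non-zero subrepresentation contains it. -/
theorem result {G : Type*} [Group G] [Finite G] {K : Type*} [Field K] {p f : ℕ} [Fact p.Prime] [CharP K p] {Ω : Type*} [Fintype Ω] [MulAction G Ω] [MulAction.IsPretransitive G Ω] (hf : 1 ≤ f) (hcard : Fintype.card Ω = p ^ f) (W : Subrepresentation (Cfsg.permRep K G Ω)) (hW : W.toSubmodule ≠ ⊥) : (Cfsg.permConstants K G Ω).toSubmodule ≤ W.toSubmodule := by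
  classical
  have hp : p.Prime := Fact.out
  obtain ⟨P⟩ : Nonempty (Sylow p G) := inferInstance
  obtain ⟨w, hwW, hw0, hwfix⟩ := exists_fixed_vector (K := K) (p := p) P.isPGroup'
    ((Cfsg.permRep K G Ω).comp (P : Subgroup G).subtype) W.toSubmodule
    (fun g w hw => W.apply_mem_toSubmodule g.1 hw) hW
  have hne : Nonempty Ω := by
    rw [← Fintype.card_pos_iff, hcard]
    exact pow_pos hp.pos f
  obtain ⟨ω₀⟩ := hne
  have hconst : ∀ x, w x = w ω₀ := by
    intro x
    obtain ⟨g, hg⟩ := sylow_transitive hcard P x ω₀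
    have h1 := congrFun (hwfix g⁻¹) x
    have h2 : ((Cfsg.permRep K G Ω).comp (P : Subgroup G).subtype) g⁻¹ w x = w (g • x) := by
      show w (((g⁻¹ : (P : Subgroup G)) : G)⁻¹ • x) = w (g • x)
      simp
      rfl
    rw [h2, hg] at h1
    exact h1.symm
  have hc : w ω₀ ≠ 0 := by
    intro h
    apply hw0
    funext x
    rw [hconst x, h]; rfl
  have hone : (fun _ : Ω => (1 : K)) = (w ω₀)⁻¹ • w := by
    funext x
    show (1 : K) = (w ω₀)⁻¹ * w x
    rw [hconst x, inv_mul_cancel₀ hc]
  show Submodule.span K {fun _ => 1} ≤ W.toSubmodule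
  rw [Submodule.span_le, Set.singleton_subset_iff, hone]
  exact W.toSubmodule.smul_mem _ hwW

end Cfsg.Agent.S0670
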