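import Cfsg.Statements.S0671
import Cfsg.Agent.S0670

set_option autoImplicit false
open Cfsg

namespace Cfsg.Agent.S0671

section

variable {G : Type*} [Group G] {K : Type*} [Field K] {Ω : Type*} [Fintype Ω] [MulAction G Ω]

/-- the operator attached to a matrix -/
noncomputable def opOf (a : Ω → Ω → K) : (Ω → K) →ₗ[K] (Ω → K) where
  toFun f z := ∑ x, a x z * f x
  map_add' f₁ f₂ := by
    funext z
    simp only [Pi.add_apply, mul_add, Finset.sum_add_distrib]
  map_smul' c f := by
    funext z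
    simp only [Pi.smul_apply, smul_eq_mul, RingHom.id_apply, Finset.mul_sum]
    exact Finset.sum_congr rfl (fun x _ => by ring)

theorem opOf_apply (a : Ω → Ω → K) (f : Ω → K) (z : Ω) : opOf a f z = ∑ x, a x z * f x := rfl

theorem opOf_equivariant (a : Ω → Ω → K) (ha : ∀ (g : G) x z, a (g • x) (g • z) = a x z) (g : G)
    (f : Ω → K) : opOf a (Cfsg.permRep K G Ω g f) = Cfsg.permRep K G Ω g (opOf a f) := by
  funext z
  show ∑ x, a x z * f (g⁻¹ • x) = ∑ x, a x (g⁻¹ • z) * f x
  apply Fintype.sum_equiv (MulAction.toPerm g⁻¹)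
  intro x
  show a x z * f (g⁻¹ • x) = a (g⁻¹ • x) (g⁻¹ • z) * f (g⁻¹ • x)
  rw [ha]

end

theorem key {G : Type*} [Group G] [Finite G] {K : Type*} [Field K] {p f : ℕ} [Fact p.Prime] [CharP K p] {Ω : Type*} [Fintype Ω] [MulAction G Ω] [MulAction.IsPretransitive G Ω] (hf : 1 ≤ f) (hcard : Fintype.card Ω = p ^ f) (h : ∀ W W' : Subrepresentation (Cfsg.permRep K G Ω), (Cfsg.permConstants K G Ω).toSubmodule ≤ W.toSubmodule → W.toSubmodule < W'.toSubmodule → W'.toSubmodule ≤ (Cfsg.permSumZero K G Ω).toSubmodule → ∃ g : G, ∃ v ∈ W'.toSubmodule, Cfsg.permRep K G Ω g v - v ∉ W.toSubmodule)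
    (T : (Ω → K) →ₗ[K] (Ω → K))
    (hT : ∀ (g : G) (v : Ω → K), T (Cfsg.permRep K G Ω g v) = Cfsg.permRep K G Ω g (T v))
    (hT1 : T (fun _ => 1) = 0) :
    ∀ s ∈ (Cfsg.permSumZero K G Ω).toSubmodule, T s = 0 := by
  classical
  have hp : p.Prime := Fact.out
  have hne : Nonempty Ω := by
    rw [← Fintype.card_pos_iff, hcard]
    exact pow_pos hp.pos f
  have hcardK : (Fintype.card Ω : K) = 0 := by
    rw [hcard]
    push_cast
    rw [CharP.cast_eq_zero K p, zero_pow (by omega)]
  have hCmem : ∀ v ∈ (Cfsg.permConstants K G Ω).toSubmodule, ∃ c : K, v = fun _ => c := by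
    intro v hv
    have hv' : v ∈ Submodule.span K {fun _ : Ω => (1 : K)} := hv
    rw [Submodule.mem_span_singleton] at hv'
    obtain ⟨c, rfl⟩ := hv'
    exact ⟨c, funext fun x => by simp⟩
  have hCfix : ∀ v ∈ (Cfsg.permConstants K G Ω).toSubmodule, ∀ g : G,
      Cfsg.permRep K G Ω g v = v := by
    intro v hv g
    obtain ⟨c, rfl⟩ := hCmem v hv
    rfl
  have hCT : ∀ v ∈ (Cfsg.permConstants K G Ω).toSubmodule, T v = 0 := by
    intro v hv
    have hv' : v ∈ Submodule.span K {fun _ : Ω => (1 : K)} := hv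
    rw [Submodule.mem_span_singleton] at hv'
    obtain ⟨c, rfl⟩ := hv'
    rw [map_smul, hT1, smul_zero]
  have hCS : (Cfsg.permConstants K G Ω).toSubmodule ≤ (Cfsg.permSumZero K G Ω).toSubmodule := by
    intro v hv
    obtain ⟨c, rfl⟩ := hCmem v hv
    show ∑ _x : Ω, c = 0
    rw [Finset.sum_const, Finset.card_univ, nsmul_eq_mul, hcardK, zero_mul]
  -- the two subrepresentations
  let W : Subrepresentation (Cfsg.permRep K G Ω) :=
    { toSubmodule := LinearMap.ker T ⊓ (Cfsg.permSumZero K G Ω).toSubmodule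
      apply_mem_toSubmodule := fun g v hv => by
        rw [Submodule.mem_inf] at hv ⊢
        refine ⟨?_, (Cfsg.permSumZero K G Ω).apply_mem_toSubmodule g hv.2⟩
        rw [LinearMap.mem_ker, hT, LinearMap.mem_ker.mp hv.1, map_zero] }
  let W' : Subrepresentation (Cfsg.permRep K G Ω) :=
    { toSubmodule := (Cfsg.permConstants K G Ω).toSubmodule.comap T ⊓
        (Cfsg.permSumZero K G Ω).toSubmodule
      apply_mem_toSubmodule := fun g v hv => by
        rw [Submodule.mem_inf] at hv ⊢
        refine ⟨?_, (Cfsg.permSumZero K G Ω).apply_mem_toSubmodule g hv.2⟩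
        rw [Submodule.mem_comap, hT]
        exact (Cfsg.permConstants K G Ω).apply_mem_toSubmodule g hv.1 }
  have hCW : (Cfsg.permConstants K G Ω).toSubmodule ≤ W.toSubmodule := fun v hv =>
    Submodule.mem_inf.mpr ⟨LinearMap.mem_ker.mpr (hCT v hv), hCS hv⟩
  have hWW' : W.toSubmodule ≤ W'.toSubmodule := by
    intro v hv
    have hv' := Submodule.mem_inf.mp hv
    refine Submodule.mem_inf.mpr ⟨?_, hv'.2⟩
    rw [Submodule.mem_comap, LinearMap.mem_ker.mp hv'.1]
    exact Submodule.zero_mem _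
  have hW'S : W'.toSubmodule ≤ (Cfsg.permSumZero K G Ω).toSubmodule := fun v hv =>
    (Submodule.mem_inf.mp hv).2
  have hnlt : ¬ W.toSubmodule < W'.toSubmodule := by
    intro hlt
    obtain ⟨g, v, hv, hgv⟩ := h W W' hCW hlt hW'S
    apply hgv
    have hv' := Submodule.mem_inf.mp hv
    refine Submodule.mem_inf.mpr ⟨?_, Submodule.sub_mem _
      ((Cfsg.permSumZero K G Ω).apply_mem_toSubmodule g hv'.2) hv'.2⟩
    rw [LinearMap.mem_ker, map_sub, hT, hCfix _ (Submodule.mem_comap.mp hv'.1) g, sub_self]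
  have hW'W : W'.toSubmodule ≤ W.toSubmodule := by
    by_contra hcon
    exact hnlt (lt_of_le_not_ge hWW' hcon)
  -- the image of S
  let R : Subrepresentation (Cfsg.permRep K G Ω) :=
    { toSubmodule := (Cfsg.permSumZero K G Ω).toSubmodule.map T
      apply_mem_toSubmodule := fun g v hv => by
        obtain ⟨s, hs, rfl⟩ := hv
        exact ⟨Cfsg.permRep K G Ω g s, (Cfsg.permSumZero K G Ω).apply_mem_toSubmodule g hs,
          hT g s⟩ }
  have hR : R.toSubmodule = ⊥ := by
    by_contra hRne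
    have hCR := Cfsg.Agent.S0670.result (G := G) (K := K) hf hcard R hRne
    have h1 : (fun _ : Ω => (1 : K)) ∈ (Cfsg.permConstants K G Ω).toSubmodule :=
      Submodule.subset_span rfl
    obtain ⟨s, hs, hs1⟩ := hCR h1
    have hsW' : s ∈ W'.toSubmodule := by
      refine Submodule.mem_inf.mpr ⟨?_, hs⟩
      rw [Submodule.mem_comap, hs1]
      exact h1
    have := (Submodule.mem_inf.mp (hW'W hsW')).1
    rw [LinearMap.mem_ker, hs1] at this
    obtain ⟨ω⟩ := hne
    have h2 := congrFun this ω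
    exact one_ne_zero h2
  intro s hs
  have : T s ∈ R.toSubmodule := ⟨s, hs, rfl⟩
  rw [hR, Submodule.mem_bot] at this
  exact this


/-- If the heart of the permutation module in characteristic `p` of a transitive action of degree `p ^ f` has no trivial composition factor, the action is doubly transitive. The hypothesis is phrased without composition series: no invariant subspaces `W < W'` between the constants and the sum-zero functions with trivial action on the quotient. -/
theorem result {G : Type*} [Group G] [Finite G] {K : Type*} [Field K] {p f : ℕ} [Fact p.Prime] [CharP K p] {Ω : Type*} [Fintype Ω] [MulAction G Ω] [MulAction.IsPretransitive G Ω] (hf : 1 ≤ f) (hcard : Fintype.card Ω = p ^ f) (h : ∀ W W' : Subrepresentation (Cfsg.permRep K G Ω), (Cfsg.permConstants K G Ω).toSubmodule ≤ W.toSubmodule → W.toSubmodule < W'.toSubmodule → W'.toSubmodule ≤ (Cfsg.permSumZero K G Ω).toSubmodule → ∃ g : G, ∃ v ∈ W'.toSubmodule, Cfsg.permRep K G Ω g v - v ∉ W.toSubmodule) : MulAction.IsMultiplyPretransitive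 G Ω 2 := by
  classical
  -- point stabilizers are transitive on the remaining points
  have hstab : ∀ x₁ x₂ y : Ω, x₁ ≠ y → x₂ ≠ y → ∃ g : G, g • x₁ = x₂ ∧ g • y = y := by
    intro x₁ x₂ y h1 h2
    by_cases h12 : x₁ = x₂
    · exact ⟨1, by rw [one_smul, h12], one_smul _ _⟩
    let a : Ω → Ω → K := fun x z => if ∃ g : G, g • x₁ = x ∧ g • y = z then 1 else 0
    have ha : ∀ (g : G) x z, a (g • x) (g • z) = a x z := by
      intro g x z
      have : (∃ g' : G, g' • x₁ = g • x ∧ g' • y = g • z) ↔ (∃ g' : G, g' • x₁ = x ∧ g' • y = z) := by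
        constructor
        · rintro ⟨g', e1, e2⟩
          refine ⟨g⁻¹ * g', ?_, ?_⟩
          · rw [mul_smul, e1, inv_smul_smul]
          · rw [mul_smul, e2, inv_smul_smul]
        · rintro ⟨g', e1, e2⟩
          exact ⟨g * g', by rw [mul_smul, e1], by rw [mul_smul, e2]⟩
      show (if _ then (1 : K) else 0) = if _ then 1 else 0
      rw [if_congr this rfl rfl]
    -- row sums are constant
    have hrow : ∀ z : Ω, ∑ x, a x z = ∑ x, a x y := by
      intro z
      obtain ⟨g, rfl⟩ := MulAction.exists_smul_eq G y z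
      symm
      apply Fintype.sum_equiv (MulAction.toPerm g)
      intro x
      exact (ha g x y).symm
    let T : (Ω → K) →ₗ[K] (Ω → K) := opOf a - (∑ x, a x y) • LinearMap.id
    have hT : ∀ (g : G) (v : Ω → K), T (Cfsg.permRep K G Ω g v) = Cfsg.permRep K G Ω g (T v) := by
      intro g v
      show opOf a (Cfsg.permRep K G Ω g v) - (∑ x, a x y) • (Cfsg.permRep K G Ω g v) =
        Cfsg.permRep K G Ω g (opOf a v - (∑ x, a x y) • v)
      rw [opOf_equivariant a ha, map_sub, map_smul]
    have hT1 : T (fun _ => 1) = 0 := by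
      funext z
      show opOf a (fun _ => 1) z - (∑ x, a x y) • (1 : K) = 0
      rw [opOf_apply, smul_eq_mul, mul_one]
      simp only [mul_one]
      rw [hrow z, sub_self]
    have hkey := key hf hcard h T hT hT1
    have hs : (Pi.single x₁ (1 : K) - Pi.single x₂ (1 : K) : Ω → K) ∈
        (Cfsg.permSumZero K G Ω).toSubmodule := by
      show ∑ x, (Pi.single x₁ (1 : K) - Pi.single x₂ (1 : K) : Ω → K) x = 0
      simp [Finset.sum_sub_distrib, Pi.single_apply]
    have h3 := congrFun (hkey _ hs) y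
    have h4 : T (Pi.single x₁ (1 : K) - Pi.single x₂ (1 : K)) y = a x₁ y - a x₂ y := by
      show opOf a (Pi.single x₁ (1 : K) - Pi.single x₂ (1 : K)) y -
        (∑ x, a x y) • (Pi.single x₁ (1 : K) - Pi.single x₂ (1 : K) : Ω → K) y = _
      rw [opOf_apply]
      have e1 : (Pi.single x₁ (1 : K) - Pi.single x₂ (1 : K) : Ω → K) y = 0 := by
        simp [Ne.symm h1, Ne.symm h2]
      rw [e1, smul_zero, sub_zero]
      simp [Pi.single_apply, mul_sub, Finset.sum_sub_distrib]
    rw [h4] at h3
    have h5 : a x₁ y = 1 := by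
      show (if ∃ g : G, g • x₁ = x₁ ∧ g • y = y then (1 : K) else 0) = 1
      rw [if_pos ⟨1, one_smul _ _, one_smul _ _⟩]
    have h6 : a x₂ y = 1 := by
      rw [h5] at h3
      have : a x₂ y = 1 := by
        have h7 : (1 : K) - a x₂ y = 0 := h3
        exact (sub_eq_zero.mp h7).symm
      exact this
    by_contra hcon
    have : a x₂ y = 0 := by
      show (if ∃ g : G, g • x₁ = x₂ ∧ g • y = y then (1 : K) else 0) = 0
      rw [if_neg hcon]
    rw [this] at h6
    exact zero_ne_one h6
  rw [MulAction.is_two_pretransitive_iff]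
  intro a b c d hab hcd
  obtain ⟨g₀, hg₀⟩ := MulAction.exists_smul_eq G b d
  have h1 : g₀ • a ≠ d := by
    intro h2
    rw [← hg₀] at h2
    exact hab (smul_left_cancel g₀ h2)
  obtain ⟨g₁, hg₁, hg₁'⟩ := hstab (g₀ • a) c d h1 hcd
  exact ⟨g₁ * g₀, by rw [mul_smul, hg₁], by rw [mul_smul, hg₀, hg₁']⟩

end Cfsg.Agent.S0671
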