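import Cfsg.Statements.S0674
import Cfsg.Agent.Lib.Helper12.BurnsidePrime

set_option autoImplicit false
open Cfsg

namespace Cfsg.Agent.S0674

open Cfsg.Agent.Lib.Helper12.BurnsidePrime

section Perp

variable {G : Type*} [Group G] {K : Type*} [Field K] {α : Type*} [Fintype α] [DecidableEq α]
  [MulAction G α]

omit [DecidableEq α] in
theorem dot_perm (g : G) (v w : α → K) :
    (Cfsg.permRep K G α g v) ⬝ᵥ w = v ⬝ᵥ (Cfsg.permRep K G α g⁻¹ w) := by
  unfold dotProduct
  apply Fintype.sum_equiv (MulAction.toPerm g⁻¹)
  intro x
  show v (g⁻¹ • x) * w x = v (g⁻¹ • x) * w ((g⁻¹)⁻¹ • (g⁻¹ • x))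
  rw [inv_inv, smul_inv_smul]

/-- the orthogonal complement of a subrepresentation of the permutation module -/
noncomputable def perp (W : Subrepresentation (Cfsg.permRep K G α)) :
    Subrepresentation (Cfsg.permRep K G α) where
  toSubmodule := W.toSubmodule.dualAnnihilator.comap (dotProductEquiv K α).toLinearMap
  apply_mem_toSubmodule g v hv := by
    rw [Submodule.mem_comap, Submodule.mem_dualAnnihilator] at hv ⊢
    intro w hw
    have h1 := hv _ (W.apply_mem_toSubmodule g⁻¹ hw)
    show (Cfsg.permRep K G α g v) ⬝ᵥ w = 0
    rw [dot_perm]
    exact h1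

theorem finrank_perp (W : Subrepresentation (Cfsg.permRep K G α)) :
    Module.finrank K W.toSubmodule + Module.finrank K (perp W).toSubmodule = Fintype.card α := by
  have h1 : (perp W).toSubmodule =
      W.toSubmodule.dualAnnihilator.map (dotProductEquiv K α).symm.toLinearMap :=
    Submodule.comap_equiv_eq_map_symm (dotProductEquiv K α) _
  rw [h1, LinearEquiv.finrank_map_eq (dotProductEquiv K α).symm,
    Subspace.finrank_add_finrank_dualAnnihilator_eq]
  simp

end Perp

/-- Let `G` be a non-solvable transitive permutation group of prime degree `p` and `K` a field of characteristic `p`. Then the heart of the permutation module is irreducible: an invariant subspace containing the constants and contained in the sum-zero functions is one or the other. -/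
theorem result {α : Type*} [Fintype α] [DecidableEq α] {p : ℕ} [Fact p.Prime] (hα : Fintype.card α = p) (G : Subgroup (Equiv.Perm α)) [MulAction.IsPretransitive G α] (hG : ¬ Group.IsSolvable G) {K : Type*} [Field K] [CharP K p] (W : Subrepresentation (Cfsg.permRep K G α)) (h₁ : (Cfsg.permConstants K G α).toSubmodule ≤ W.toSubmodule) (h₂ : W.toSubmodule ≤ (Cfsg.permSumZero K G α).toSubmodule) : W = Cfsg.permConstants K G α ∨ W = Cfsg.permSumZero K G α := by
  have hp : p.Prime := Fact.out
  have hne : Nonempty α := by
    rw [← Fintype.card_pos_iff, hα]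
    exact hp.pos
  obtain ⟨x₀⟩ := hne
  have hfinV : Module.finrank K (α → K) = p := by simp [hα]
  -- dimension of the constants
  have hc1 : Module.finrank K (Cfsg.permConstants K G α).toSubmodule = 1 := by
    show Module.finrank K (Submodule.span K {(fun _ => (1 : K) : α → K)}) = 1
    apply finrank_span_singleton
    intro h
    have := congrFun h x₀
    simp at this
  -- the sum-zero functions are a proper subspace
  have hs1 : Module.finrank K (Cfsg.permSumZero K G α).toSubmodule < p := by
    rw [← hfinV]
    apply Submodule.finrank_lt
    intro htop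
    have h1 : (Pi.single x₀ (1 : K) : α → K) ∈ (Cfsg.permSumZero K G α).toSubmodule := by
      rw [htop]; trivial
    have h2 : ∑ x, (Pi.single x₀ (1 : K) : α → K) x = 0 := h1
    rw [Finset.sum_pi_single'] at h2
    simp at h2
  have hr1 : 1 ≤ Module.finrank K W.toSubmodule := by
    rw [← hc1]
    exact Submodule.finrank_mono h₁
  have hr2 : Module.finrank K W.toSubmodule ≤ Module.finrank K (Cfsg.permSumZero K G α).toSubmodule :=
    Submodule.finrank_mono h₂
  by_cases hA : Module.finrank K W.toSubmodule = 1
  · left
    apply Subrepresentation.toSubmodule_injective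
    exact (Submodule.eq_of_le_of_finrank_eq h₁ (by rw [hc1, hA])).symm
  by_cases hB : Module.finrank K W.toSubmodule = p - 1
  · right
    apply Subrepresentation.toSubmodule_injective
    apply Submodule.eq_of_le_of_finrank_le h₂
    omega
  exfalso
  apply hG
  by_cases hC : 2 * Module.finrank K W.toSubmodule ≤ p
  · exact solvable_of_subrep hα G W (by omega) hC
  · have h3 := finrank_perp W
    rw [hα] at h3
    exact solvable_of_subrep hα G (perp W) (by omega) (by omega)

end Cfsg.Agent.S0674
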