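import Cfsg.Statements.S0675
import Cfsg.Agent.S0671
import Cfsg.Agent.S0674

set_option autoImplicit false
open Cfsg

namespace Cfsg.Agent.S0675

open Cfsg.Agent.Lib.Helper12.BurnsidePrime

theorem affine_two : ∀ τ : Equiv.Perm (ZMod 2), ∃ a b : ZMod 2, ∀ j, τ j = a * j + b := by decide

theorem affine_three : ∀ τ : Equiv.Perm (ZMod 3), ∃ a b : ZMod 3, ∀ j, τ j = a * j + b := by decide

/-- permutation groups of degree 2 or 3 are solvable -/
theorem solvable_small {α : Type*} [Fintype α] [DecidableEq α] {p : ℕ} [Fact p.Prime]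
    (hα : Fintype.card α = p) (hp : p ≤ 3) (G : Subgroup (Equiv.Perm α)) : Group.IsSolvable G := by
  have hpp : p.Prime := Fact.out
  have h23 : p = 2 ∨ p = 3 := by
    have := hpp.two_le
    omega
  have e : α ≃ ZMod p := Fintype.equivOfCardEq (by rw [hα, ZMod.card])
  apply solvable_of_affine e G
  intro g _
  let τ : Equiv.Perm (ZMod p) := e.symm.trans (g.trans e)
  have hτ : ∀ j, τ j = e (g (e.symm j)) := fun j => rfl
  have haff : ∃ a b : ZMod p, ∀ j, τ j = a * j + b := by
    rcases h23 with rfl | rfl
    · exact affine_two τ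
    · exact affine_three τ
  obtain ⟨a, b, hab⟩ := haff
  refine ⟨a, b, fun x => ?_⟩
  have := hab (e x)
  rw [hτ, e.symm_apply_apply] at this
  exact this

/-- Burnside's Theorem on permutation groups of prime degree: a transitive permutation group of prime degree that is not solvable is doubly transitive. -/
theorem result {α : Type*} [Fintype α] [DecidableEq α] (hα : (Fintype.card α).Prime) (G : Subgroup (Equiv.Perm α)) [MulAction.IsPretransitive G α] : Group.IsSolvable G ∨ MulAction.IsMultiplyPretransitive G α 2 := by
  by_cases hsolv : Group.IsSolvable G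
  · exact Or.inl hsolv
  right
  set p := Fintype.card α with hp
  have hfact : Fact p.Prime := ⟨hα⟩
  have hp5 : 5 ≤ p := by
    by_contra hcon
    have h3 : p ≤ 3 := by
      have h4 : p ≠ 4 := by
        intro h4
        rw [h4] at hα
        exact absurd hα (by decide)
      omega
    exact hsolv (solvable_small (p := p) rfl h3 G)
  apply Cfsg.Agent.S0671.result (G := G) (K := ZMod p) (p := p) (f := 1) le_rfl (by rw [pow_one])
  intro W W' hcW hWW' hW's
  have hW : W = Cfsg.permConstants (ZMod p) G α ∨ W = Cfsg.permSumZero (ZMod p) G α :=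
    Cfsg.Agent.S0674.result (p := p) rfl G hsolv W hcW (le_trans hWW'.le hW's)
  have hW' : W' = Cfsg.permConstants (ZMod p) G α ∨ W' = Cfsg.permSumZero (ZMod p) G α :=
    Cfsg.Agent.S0674.result (p := p) rfl G hsolv W' (le_trans hcW hWW'.le) hW's
  have hWc : W = Cfsg.permConstants (ZMod p) G α := by
    rcases hW with h | h
    · exact h
    · exfalso
      rw [h] at hWW'
      exact absurd (le_antisymm hW's hWW'.le) (ne_of_gt hWW')
  have hW's' : W' = Cfsg.permSumZero (ZMod p) G α := by
    rcases hW' with h | h
    · exfalso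
      rw [h, hWc] at hWW'
      exact lt_irrefl _ hWW'
    · exact h
  subst hWc
  subst hW's'
  -- choose two points and an element moving one to the other
  have hcard2 : 1 < Fintype.card α := by omega
  obtain ⟨a, b, hab⟩ := Fintype.exists_pair_of_one_lt_card hcard2
  obtain ⟨g, hg⟩ := MulAction.exists_smul_eq G a b
  let v : α → ZMod p := Pi.single a 1 - Pi.single b 1
  refine ⟨g, v, ?_, ?_⟩
  · show ∑ x, v x = 0
    simp only [v, Pi.sub_apply, Finset.sum_sub_distrib, Finset.sum_pi_single', Finset.mem_univ,
      if_true, sub_self]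
  · intro hmem
    have hmem' : (Cfsg.permRep (ZMod p) G α g v - v) ∈
        Submodule.span (ZMod p) {(fun _ => (1 : ZMod p) : α → ZMod p)} := hmem
    rw [Submodule.mem_span_singleton] at hmem'
    obtain ⟨c, hc⟩ := hmem'
    -- a point outside `{a, b, g • b}`
    have hx : ∃ x : α, x ≠ a ∧ x ≠ b ∧ x ≠ g • b := by
      have hlt : ({a, b, g • b} : Finset α).card < (Finset.univ : Finset α).card := by
        rw [Finset.card_univ]
        have : ({a, b, g • b} : Finset α).card ≤ 3 := Finset.card_le_three
        omega
      obtain ⟨x, _, hx⟩ := Finset.exists_mem_notMem_of_card_lt_card hlt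
      simp only [Finset.mem_insert, Finset.mem_singleton, not_or] at hx
      exact ⟨x, hx.1, hx.2.1, hx.2.2⟩
    obtain ⟨x, hxa, hxb, hxgb⟩ := hx
    have hval : ∀ y : α, (Cfsg.permRep (ZMod p) G α g v - v) y =
        v (g⁻¹ • y) - v y := fun y => rfl
    have hc0 : c = 0 := by
      have h1 := congrFun hc x
      rw [hval] at h1
      have hgx_a : g⁻¹ • x ≠ a := by
        intro h
        apply hxb
        rw [← hg, ← h, smul_inv_smul]
      have hgx_b : g⁻¹ • x ≠ b := by
        intro h
        apply hxgb
        rw [← h, smul_inv_smul]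
      simp only [v, Pi.sub_apply, Pi.single_apply, if_neg hgx_a, if_neg hgx_b, if_neg hxa,
        if_neg hxb, sub_self, Pi.smul_apply, smul_eq_mul, mul_one] at h1
      exact h1
    have h2 := congrFun hc a
    rw [hval, hc0] at h2
    have hga_a : g⁻¹ • a ≠ a := by
      intro h
      apply hab
      have h' : a = g • a := inv_smul_eq_iff.1 h
      exact h'.trans hg
    have hva : v a = 1 := by
      simp [v, Pi.single_apply, hab]
    have hlhs : ((0 : ZMod p) • fun _ : α => (1 : ZMod p)) a = 0 := by simp
    rw [hlhs, hva] at h2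
    have h1ne : (1 : ZMod p) ≠ 0 := one_ne_zero
    have h2ne : (2 : ZMod p) ≠ 0 := by
      intro h
      have h' : ((2 : ℕ) : ZMod p) = 0 := by exact_mod_cast h
      rw [ZMod.natCast_eq_zero_iff] at h'
      have := Nat.le_of_dvd (by norm_num) h'
      omega
    by_cases hb : g⁻¹ • a = b
    · have hvb : v (g⁻¹ • a) = -1 := by
        rw [hb]
        simp [v, Pi.single_apply, Ne.symm hab]
      rw [hvb] at h2
      apply h2ne
      linear_combination h2
    · have hvb : v (g⁻¹ • a) = 0 := by
        simp [v, Pi.single_apply, hga_a, hb]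
      rw [hvb] at h2
      apply h1ne
      linear_combination h2

end Cfsg.Agent.S0675
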