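import Cfsg.Statements.S0672

set_option autoImplicit false
open Cfsg

namespace Cfsg.Agent.S0672

section Map

variable {G : Type*} [Group G] {K : Type*} [Field K] {Ω : Type*} [Fintype Ω] [DecidableEq Ω]
  [MulAction G Ω]

/-- the linear map attached to a weight function on pairs and points -/
noncomputable def wLin (w : Set.powersetCard Ω 2 → Ω → K) :
    (Cfsg.permSumZero K G Ω).toSubmodule →ₗ[K] (Set.powersetCard Ω 2 → K) where
  toFun v P := ∑ c, w P c * (v : Ω → K) c
  map_add' v₁ v₂ := by
    funext P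
    simp [mul_add, Finset.sum_add_distrib]
  map_smul' a v := by
    funext P
    simp [Finset.mul_sum, mul_left_comm]

/-- the intertwining map attached to an invariant weight function -/
noncomputable def wMap (w : Set.powersetCard Ω 2 → Ω → K)
    (hw : ∀ (g : G) (P : Set.powersetCard Ω 2) (c : Ω), w (g • P) (g • c) = w P c) :
    Representation.IntertwiningMap (Cfsg.permSumZero K G Ω).toRepresentation
      (Cfsg.permRep K G (Set.powersetCard Ω 2)) :=
  (wLin (G := G) w).intertwiningMap_of_isIntertwiningMap _ _ (by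
    intro g v
    funext P
    show ∑ c, w P c * (v : Ω → K) (g⁻¹ • c) = ∑ c, w (g⁻¹ • P) c * (v : Ω → K) c
    apply Fintype.sum_equiv (MulAction.toPerm g⁻¹)
    intro c
    show w P c * _ = w (g⁻¹ • P) (g⁻¹ • c) * _
    rw [hw]
    rfl)

theorem wMap_apply (w : Set.powersetCard Ω 2 → Ω → K)
    (hw : ∀ (g : G) (P : Set.powersetCard Ω 2) (c : Ω), w (g • P) (g • c) = w P c)
    (v : (Cfsg.permSumZero K G Ω).toSubmodule) (P : Set.powersetCard Ω 2) :
    wMap w hw v P = ∑ c, w P c * (v : Ω → K) c := rfl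

end Map

section Step1

variable {G : Type*} [Group G] {K : Type*} [Field K] {Ω : Type*} [Fintype Ω] [DecidableEq Ω]
  [MulAction G Ω]

omit [Fintype Ω] in
theorem mem_smul_pair_iff (g : G) (P : Set.powersetCard Ω 2) (c : Ω) :
    g • c ∈ ((g • P : Set.powersetCard Ω 2) : Finset Ω) ↔ c ∈ (P : Finset Ω) := by
  rw [Set.powersetCard.coe_smul, Finset.smul_mem_smul_finset_iff]

/-- the set-wise stabilizer of a pair is transitive on the complement, if there are no
nonzero maps from the heart to the permutation module on pairs -/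
theorem setwise_trans {p : ℕ} [Fact p.Prime] [CharP K p]
    (h2 : ∀ a b c d : Ω, a ≠ b → c ≠ d → ∃ g : G, g • a = c ∧ g • b = d)
    (h : ∀ f : Representation.IntertwiningMap (Cfsg.permSumZero K G Ω).toRepresentation
      (Cfsg.permRep K G (Set.powersetCard Ω 2)),
      (∀ v : (Cfsg.permSumZero K G Ω).toSubmodule,
        (v : Ω → K) ∈ (Cfsg.permConstants K G Ω).toSubmodule → f v = 0) → f = 0)
    (P₀ : Set.powersetCard Ω 2) (c₁ c₂ : Ω) (hc₁ : c₁ ∉ P₀) (hc₂ : c₂ ∉ P₀) :
    ∃ g : G, g • P₀ = P₀ ∧ g • c₁ = c₂ := by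
  classical
  by_contra hno
  have hc₁' : c₁ ∉ (P₀ : Finset Ω) := hc₁
  have hc₂' : c₂ ∉ (P₀ : Finset Ω) := hc₂
  -- the pairs are permuted transitively
  have hpairs : ∀ P : Set.powersetCard Ω 2, ∃ g : G, g • P₀ = P := by
    intro P
    obtain ⟨a, b, hab, hP₀⟩ := Finset.card_eq_two.1 P₀.2
    obtain ⟨c, d, hcd, hP⟩ := Finset.card_eq_two.1 P.2
    obtain ⟨g, hg1, hg2⟩ := h2 a b c d hab hcd
    refine ⟨g, ?_⟩
    apply Subtype.ext
    rw [Set.powersetCard.coe_smul, hP₀, hP]
    ext z
    simp only [Finset.mem_smul_finset, Finset.mem_insert, Finset.mem_singleton]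
    constructor
    · rintro ⟨y, hy | hy, rfl⟩
      · left; rw [hy, hg1]
      · right; rw [hy, hg2]
    · rintro (hz | hz)
      · exact ⟨a, Or.inl rfl, by rw [hz, ← hg1]⟩
      · exact ⟨b, Or.inr rfl, by rw [hz, ← hg2]⟩
  -- sums of constants
  have hconst : ∀ (w : Set.powersetCard Ω 2 → Ω → K)
      (hw : ∀ (g : G) (P : Set.powersetCard Ω 2) (c : Ω), w (g • P) (g • c) = w P c),
      (∀ P, ∑ c, w P c = 0) → ∀ v : (Cfsg.permSumZero K G Ω).toSubmodule,
      (v : Ω → K) ∈ (Cfsg.permConstants K G Ω).toSubmodule → wMap w hw v = 0 := by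
    intro w hw hsum v hv
    have hv' : (v : Ω → K) ∈ Submodule.span K {(fun _ => (1 : K) : Ω → K)} := hv
    rw [Submodule.mem_span_singleton] at hv'
    obtain ⟨a, ha⟩ := hv'
    funext P
    rw [wMap_apply]
    have : ∀ c, w P c * (v : Ω → K) c = a * w P c := by
      intro c
      rw [← ha]
      simp [mul_comm]
    rw [Finset.sum_congr rfl (fun c _ => this c), ← Finset.mul_sum, hsum, mul_zero]
    rfl
  by_cases h2K : (2 : K) = 0
  · -- characteristic two
    let w : Set.powersetCard Ω 2 → Ω → K := fun P c => if c ∈ (P : Finset Ω) then 1 else 0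
    have hw : ∀ (g : G) (P : Set.powersetCard Ω 2) (c : Ω), w (g • P) (g • c) = w P c := by
      intro g P c
      show (if g • c ∈ ((g • P : Set.powersetCard Ω 2) : Finset Ω) then (1 : K) else 0) =
        if c ∈ (P : Finset Ω) then 1 else 0
      simp only [mem_smul_pair_iff]
    have hsum : ∀ P, ∑ c, w P c = 0 := by
      intro P
      show ∑ c, (if c ∈ (P : Finset Ω) then (1 : K) else 0) = 0
      rw [Finset.sum_ite_mem, Finset.univ_inter, Finset.sum_const, P.2]
      simpa using h2K
    have hf := h (wMap w hw) (hconst w hw hsum)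
    obtain ⟨a, ha⟩ : ∃ a, a ∈ (P₀ : Finset Ω) := by
      apply Finset.card_pos.1
      rw [P₀.2]; norm_num
    have hac : a ≠ c₁ := by
      intro h'
      rw [h'] at ha
      exact hc₁ ha
    let v : (Cfsg.permSumZero K G Ω).toSubmodule := ⟨Pi.single a 1 - Pi.single c₁ 1, by
      show ∑ x, (Pi.single a (1 : K) - Pi.single c₁ 1 : Ω → K) x = 0
      simp only [Pi.sub_apply, Finset.sum_sub_distrib, Finset.sum_pi_single', Finset.mem_univ,
        if_true, sub_self]⟩
    have h1 : wMap w hw v P₀ = 0 := by rw [hf]; rfl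
    rw [wMap_apply] at h1
    have h3 : ∑ c, w P₀ c * (v : Ω → K) c = 1 := by
      show ∑ c, (if c ∈ (P₀ : Finset Ω) then (1 : K) else 0) *
        (Pi.single a (1 : K) - Pi.single c₁ 1 : Ω → K) c = 1
      simp only [Pi.sub_apply, mul_sub, Finset.sum_sub_distrib, Pi.single_apply, mul_ite, mul_one,
        mul_zero, Finset.sum_ite_eq', Finset.mem_univ, if_true]
      rw [if_neg hc₁', sub_zero, if_pos ha]
    rw [h3] at h1
    exact one_ne_zero h1
  · -- odd characteristic
    let T : Set.powersetCard Ω 2 → Ω → Prop := fun P c => ∃ g : G, g • P₀ = P ∧ g • c₁ = c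
    have hT : ∀ (g : G) P c, T (g • P) (g • c) ↔ T P c := by
      intro g P c
      constructor
      · rintro ⟨k, hk1, hk2⟩
        refine ⟨g⁻¹ * k, ?_, ?_⟩
        · rw [mul_smul, hk1, inv_smul_smul]
        · rw [mul_smul, hk2, inv_smul_smul]
      · rintro ⟨k, hk1, hk2⟩
        refine ⟨g * k, ?_, ?_⟩
        · rw [mul_smul, hk1]
        · rw [mul_smul, hk2]
    let k : Set.powersetCard Ω 2 → ℕ := fun P => (Finset.univ.filter (fun c => T P c)).card
    have hk : ∀ (g : G) P, k (g • P) = k P := by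
      intro g P
      symm
      apply Finset.card_equiv (MulAction.toPerm g)
      intro c
      simp only [Finset.mem_filter, Finset.mem_univ, true_and, MulAction.toPerm_apply]
      exact (hT g P c).symm
    have hk0 : ∀ P, k P = k P₀ := by
      intro P
      obtain ⟨g, rfl⟩ := hpairs P
      exact hk g P₀
    set γ : K := -(k P₀ : K) / 2 with hγ
    let w : Set.powersetCard Ω 2 → Ω → K := fun P c =>
      (if T P c then 1 else 0) + (if c ∈ (P : Finset Ω) then γ else 0)
    have hw : ∀ (g : G) (P : Set.powersetCard Ω 2) (c : Ω), w (g • P) (g • c) = w P c := by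
      intro g P c
      show (if T (g • P) (g • c) then (1 : K) else 0) +
          (if g • c ∈ ((g • P : Set.powersetCard Ω 2) : Finset Ω) then γ else 0) =
        (if T P c then 1 else 0) + (if c ∈ (P : Finset Ω) then γ else 0)
      simp only [mem_smul_pair_iff, hT]
    have hsum : ∀ P, ∑ c, w P c = 0 := by
      intro P
      show ∑ c, ((if T P c then (1 : K) else 0) + (if c ∈ (P : Finset Ω) then γ else 0)) = 0
      rw [Finset.sum_add_distrib, Finset.sum_boole]
      rw [Finset.sum_ite_mem, Finset.univ_inter, Finset.sum_const, P.2]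
      have h3 : ((Finset.univ.filter (fun c => T P c)).card : K) = (k P₀ : K) := by
        have := hk0 P
        show ((k P : ℕ) : K) = _
        rw [this]
      rw [h3, hγ]
      simp only [nsmul_eq_mul, Nat.cast_ofNat]
      field_simp
      ring
    have hf := h (wMap w hw) (hconst w hw hsum)
    have hc12 : c₁ ≠ c₂ := by
      intro h'
      apply hno
      exact ⟨1, one_smul _ _, by rw [one_smul, h']⟩
    let v : (Cfsg.permSumZero K G Ω).toSubmodule := ⟨Pi.single c₁ 1 - Pi.single c₂ 1, by
      show ∑ x, (Pi.single c₁ (1 : K) - Pi.single c₂ 1 : Ω → K) x = 0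
      simp only [Pi.sub_apply, Finset.sum_sub_distrib, Finset.sum_pi_single', Finset.mem_univ,
        if_true, sub_self]⟩
    have h1 : wMap w hw v P₀ = 0 := by rw [hf]; rfl
    rw [wMap_apply] at h1
    have hT1 : T P₀ c₁ := ⟨1, one_smul _ _, one_smul _ _⟩
    have hT2 : ¬ T P₀ c₂ := hno
    have h3 : ∑ c, w P₀ c * (v : Ω → K) c = 1 := by
      show ∑ c, ((if T P₀ c then (1 : K) else 0) + (if c ∈ (P₀ : Finset Ω) then γ else 0)) *
        (Pi.single c₁ (1 : K) - Pi.single c₂ 1 : Ω → K) c = 1
      simp only [Pi.sub_apply, mul_sub, Finset.sum_sub_distrib, Pi.single_apply, mul_ite, mul_one,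
        mul_zero, Finset.sum_ite_eq', Finset.mem_univ, if_true]
      rw [if_pos hT1, if_neg hT2, if_neg hc₁', if_neg hc₂']
      ring
    rw [h3] at h1
    exact one_ne_zero h1

end Step1

section Step2

variable {G : Type*} [Group G] [Finite G] {Ω : Type*} [DecidableEq Ω]
  [MulAction G Ω] [FaithfulSMul G Ω]

omit [DecidableEq Ω] in
/-- an involution interchanging two given points and fixing a third -/
theorem exists_swap (h2 : ∀ a b c d : Ω, a ≠ b → c ≠ d → ∃ g : G, g • a = c ∧ g • b = d)
    (heven : ∀ a : Ω, Even (Nat.card (MulAction.stabilizer G a))) (a b : Ω) (hab : a ≠ b) :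
    ∃ u : G, u • a = b ∧ u • b = a ∧ ∃ e : Ω, e ≠ a ∧ e ≠ b ∧ u • e = e := by
  have h2dvd : 2 ∣ Nat.card (MulAction.stabilizer G a) := even_iff_two_dvd.1 (heven a)
  obtain ⟨u', hu'⟩ := exists_prime_orderOf_dvd_card' 2 h2dvd
  set u : G := (u' : G) with hu
  have huord : orderOf u = 2 := by rw [hu, Subgroup.orderOf_coe, hu']
  have hua : u • a = a := u'.2
  have hu1 : u ≠ 1 := by
    intro h
    rw [h, orderOf_one] at huord
    omega
  have huu : u * u = 1 := by rw [← pow_two, ← huord, pow_orderOf_eq_one]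
  have hmove : ∃ c : Ω, u • c ≠ c := by
    by_contra hcon
    simp only [not_exists, not_not] at hcon
    apply hu1
    apply FaithfulSMul.eq_of_smul_eq_smul (α := Ω)
    intro c
    rw [hcon c, one_smul]
  obtain ⟨c, hc⟩ := hmove
  have hud : u • (u • c) = c := by rw [← mul_smul, huu, one_smul]
  obtain ⟨g, hg1, hg2⟩ := h2 c (u • c) a b (Ne.symm hc) hab
  have hgi1 : g⁻¹ • a = c := inv_smul_eq_iff.2 hg1.symm
  have hgi2 : g⁻¹ • b = u • c := inv_smul_eq_iff.2 hg2.symm
  refine ⟨g * u * g⁻¹, ?_, ?_, g • a, ?_, ?_, ?_⟩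
  · rw [mul_smul, mul_smul, hgi1, hg2]
  · rw [mul_smul, mul_smul, hgi2, hud, hg1]
  · intro h
    have h3 : a = c := MulAction.injective g (h.trans hg1.symm)
    apply hc
    rw [← h3]
    exact hua
  · intro h
    have h3 : a = u • c := MulAction.injective g (h.trans hg2.symm)
    apply hc
    have h4 : u • a = u • (u • c) := congrArg (fun z => u • z) h3
    rw [hua, hud] at h4
    rw [← h4]
    exact hua
  · rw [mul_smul, mul_smul, inv_smul_smul, hua]

/-- the two-point stabilizers are transitive on the remaining points -/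
theorem two_point_trans (h2 : ∀ a b c d : Ω, a ≠ b → c ≠ d → ∃ g : G, g • a = c ∧ g • b = d)
    (heven : ∀ a : Ω, Even (Nat.card (MulAction.stabilizer G a)))
    (hS : ∀ (P : Set.powersetCard Ω 2) (c d : Ω), c ∉ P → d ∉ P →
      ∃ g : G, g • P = P ∧ g • c = d)
    (a b : Ω) (hab : a ≠ b) (c d : Ω) (hca : c ≠ a) (hcb : c ≠ b) (hda : d ≠ a) (hdb : d ≠ b) :
    ∃ g : G, g • a = a ∧ g • b = b ∧ g • c = d := by
  obtain ⟨u, hu1, hu2, e, hea, heb, hue⟩ := exists_swap h2 heven a b hab
  let P : Set.powersetCard Ω 2 := ⟨{a, b}, Finset.card_pair hab⟩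
  have hmemP : ∀ z : Ω, z ∈ P ↔ z = a ∨ z = b := by
    intro z
    show z ∈ ({a, b} : Finset Ω) ↔ _
    simp
  have key : ∀ c : Ω, c ≠ a → c ≠ b → ∃ g : G, g • a = a ∧ g • b = b ∧ g • e = c := by
    intro c hca hcb
    have heP : e ∉ P := by
      rw [hmemP]
      simp only [not_or]
      exact ⟨hea, heb⟩
    have hcP : c ∉ P := by
      rw [hmemP]
      simp only [not_or]
      exact ⟨hca, hcb⟩
    obtain ⟨s, hs1, hs2⟩ := hS P e c heP hcP
    have hsa : s • a ∈ P := by
      have h1 : s • a ∈ ((s • P : Set.powersetCard Ω 2) : Finset Ω) := by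
        rw [mem_smul_pair_iff]
        exact (hmemP a).2 (Or.inl rfl)
      rw [hs1] at h1
      exact h1
    have hsb : s • b ∈ P := by
      have h1 : s • b ∈ ((s • P : Set.powersetCard Ω 2) : Finset Ω) := by
        rw [mem_smul_pair_iff]
        exact (hmemP b).2 (Or.inr rfl)
      rw [hs1] at h1
      exact h1
    rw [hmemP] at hsa hsb
    have hsab : s • a ≠ s • b := fun h => hab (MulAction.injective s h)
    rcases hsa with hsa | hsa
    · have hsb' : s • b = b := by
        rcases hsb with hsb | hsb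
        · exfalso
          apply hsab
          rw [hsa, hsb]
        · exact hsb
      exact ⟨s, hsa, hsb', hs2⟩
    · have hsb' : s • b = a := by
        rcases hsb with hsb | hsb
        · exact hsb
        · exfalso
          apply hsab
          rw [hsa, hsb]
      refine ⟨s * u, ?_, ?_, ?_⟩
      · rw [mul_smul, hu1, hsb']
      · rw [mul_smul, hu2, hsa]
      · rw [mul_smul, hue, hs2]
  obtain ⟨g₁, hg1a, hg1b, hg1e⟩ := key c hca hcb
  obtain ⟨g₂, hg2a, hg2b, hg2e⟩ := key d hda hdb
  refine ⟨g₂ * g₁⁻¹, ?_, ?_, ?_⟩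
  · rw [mul_smul, inv_smul_eq_iff.2 hg1a.symm, hg2a]
  · rw [mul_smul, inv_smul_eq_iff.2 hg1b.symm, hg2b]
  · rw [mul_smul, inv_smul_eq_iff.2 hg1e.symm, hg2e]

end Step2

/-- Let a finite group act faithfully and doubly transitively with point stabilisers of even order, and let `K` have characteristic `p` dividing the degree. If the heart of the permutation module admits no non-zero equivariant map to the permutation module on unordered pairs (phrased: every intertwining map from the sum-zero functions vanishing on the constants is zero), the action is triply transitive. -/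
theorem result {G : Type*} [Group G] [Finite G] {K : Type*} [Field K] {p : ℕ} [Fact p.Prime] [CharP K p] {Ω : Type*} [Fintype Ω] [DecidableEq Ω] [MulAction G Ω] [FaithfulSMul G Ω] (h2 : MulAction.IsMultiplyPretransitive G Ω 2) (hp : p ∣ Fintype.card Ω) (heven : ∀ a : Ω, Even (Nat.card (MulAction.stabilizer G a))) (h : ∀ f : Representation.IntertwiningMap (Cfsg.permSumZero K G Ω).toRepresentation (Cfsg.permRep K G (Set.powersetCard Ω 2)), (∀ v : (Cfsg.permSumZero K G Ω).toSubmodule, (v : Ω → K) ∈ (Cfsg.permConstants K G Ω).toSubmodule → f v = 0) → f = 0) : MulAction.IsMultiplyPretransitive G Ω 3 := by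
  have h2' : ∀ a b c d : Ω, a ≠ b → c ≠ d → ∃ g : G, g • a = c ∧ g • b = d := by
    intro a b c d hab hcd
    exact MulAction.is_two_pretransitive_iff.1 h2 hab hcd
  have hS := setwise_trans (K := K) (p := p) h2' h
  rw [MulAction.isMultiplyPretransitive_iff]
  intro x y
  have hx01 : x 0 ≠ x 1 := fun h => absurd (x.injective h) (by decide)
  have hx02 : x 0 ≠ x 2 := fun h => absurd (x.injective h) (by decide)
  have hx12 : x 1 ≠ x 2 := fun h => absurd (x.injective h) (by decide)
  have hy01 : y 0 ≠ y 1 := fun h => absurd (y.injective h) (by decide)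
  have hy02 : y 0 ≠ y 2 := fun h => absurd (y.injective h) (by decide)
  have hy12 : y 1 ≠ y 2 := fun h => absurd (y.injective h) (by decide)
  obtain ⟨g₁, hg10, hg11⟩ := h2' (x 0) (x 1) (y 0) (y 1) hx01 hy01
  have h1 : g₁ • x 2 ≠ y 0 := by
    rw [← hg10]
    exact fun h => hx02 (MulAction.injective g₁ h).symm
  have h2 : g₁ • x 2 ≠ y 1 := by
    rw [← hg11]
    exact fun h => hx12 (MulAction.injective g₁ h).symm
  obtain ⟨g₂, hg20, hg21, hg22⟩ := two_point_trans h2' heven hS (y 0) (y 1) hy01 (g₁ • x 2) (y 2)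
    h1 h2 (Ne.symm hy02) (Ne.symm hy12)
  refine ⟨g₂ * g₁, ?_⟩
  ext i
  rw [Function.Embedding.smul_apply, mul_smul]
  fin_cases i
  · show g₂ • g₁ • x 0 = y 0
    rw [hg10, hg20]
  · show g₂ • g₁ • x 1 = y 1
    rw [hg11, hg21]
  · show g₂ • g₁ • x 2 = y 2
    rw [hg22]

end Cfsg.Agent.S0672
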