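import Cfsg.Statements.S0676
import Cfsg.Agent.S0672
import Cfsg.Agent.Lib.Helper12.PrimeDegree2

set_option autoImplicit false
open Cfsg

namespace Cfsg.Agent.S0676

open Cfsg.Agent.Lib.Helper12.PrimeDegree
open Cfsg.Agent.Lib.Helper12.BurnsidePrime

section Key

variable {α : Type*} [Fintype α] [DecidableEq α] {p : ℕ} [Fact p.Prime]

theorem sum_zmod_eq_zero (hp2 : p ≠ 2) : ∑ j : ZMod p, j = 0 := by
  have hp : p.Prime := Fact.out
  have h1 : ∑ j : ZMod p, j = ∑ j : ZMod p, -j :=
    (Equiv.sum_comp (Equiv.neg (ZMod p)) (fun j => j)).symm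
  rw [Finset.sum_neg_distrib] at h1
  have h2 : (2 : ZMod p) * ∑ j : ZMod p, j = 0 := by linear_combination h1
  have h2ne : (2 : ZMod p) ≠ 0 := by
    intro h
    have h' : ((2 : ℕ) : ZMod p) = 0 := by exact_mod_cast h
    rw [ZMod.natCast_eq_zero_iff] at h'
    have := (Nat.prime_dvd_prime_iff_eq hp Nat.prime_two).1 h'
    exact hp2 this
  rcases mul_eq_zero.1 h2 with h | h
  · exact absurd h h2ne
  · exact h

/-- the heart of the permutation module has no nonzero equivariant map to the permutation
module on pairs -/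
theorem heart_map_eq_zero (hα : Fintype.card α = p) (hp2 : p ≠ 2)
    (G : Subgroup (Equiv.Perm α)) [MulAction.IsPretransitive G α] (hG : ¬ Group.IsSolvable G)
    (x t : G) (hx : orderOf x = p) (ht : orderOf t = 2)
    (hnorm : t * x * t⁻¹ ∈ Subgroup.zpowers x)
    (f : Representation.IntertwiningMap (Cfsg.permSumZero (ZMod p) G α).toRepresentation
      (@Cfsg.permRep (ZMod p) _ G _ (Set.powersetCard α 2)
        (Set.powersetCard.instMulActionElemFinset G)))
    (hf : ∀ v : (Cfsg.permSumZero (ZMod p) G α).toSubmodule,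
      (v : α → ZMod p) ∈ (Cfsg.permConstants (ZMod p) G α).toSubmodule → f v = 0) : f = 0 := by
  let _ : MulAction G (Set.powersetCard α 2) := Set.powersetCard.instMulActionElemFinset G
  have hp : p.Prime := Fact.out
  have hx' : orderOf (x : Equiv.Perm α) = p := by rw [Subgroup.orderOf_coe, hx]
  obtain ⟨e, he⟩ := exists_label hα (x : Equiv.Perm α) hx'
  have htt : t * t = 1 := by rw [← pow_two, ← ht, pow_orderOf_eq_one]
  have ht1 : t ≠ 1 := by
    intro h
    rw [h, orderOf_one] at ht
    omega
  have htinv : t⁻¹ = t := inv_eq_of_mul_eq_one_left htt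
  obtain ⟨c, hc⟩ := involution_label hp2 e (x : Equiv.Perm α) (t : Equiv.Perm α) he
    (fun h => ht1 (Subtype.ext h)) (by
      have := congrArg Subtype.val htt
      exact this) (by
      obtain ⟨k, hk⟩ := Subgroup.mem_zpowers_iff.1 hnorm
      rw [Subgroup.mem_zpowers_iff]
      refine ⟨k, ?_⟩
      have h3 := congrArg Subtype.val hk
      rw [Subgroup.coe_zpow] at h3
      exact h3)
  let M := Cfsg.permSumZero (ZMod p) G α
  let C := Cfsg.permConstants (ZMod p) G α
  have hmemM : ∀ v : α → ZMod p, v ∈ M.toSubmodule ↔ ∑ a, v a = 0 := fun v => Iff.rfl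
  have hmemC : ∀ v : α → ZMod p, v ∈ C.toSubmodule ↔ ∃ a : ZMod p, a • (fun _ => (1 : ZMod p)) = v :=
    fun v => Submodule.mem_span_singleton
  have hCM : C.toSubmodule ≤ M.toSubmodule := by
    intro v hv
    rw [hmemC] at hv
    obtain ⟨a, rfl⟩ := hv
    rw [hmemM]
    simp [hα]
  -- the kernel of `f` as a subrepresentation
  let W : Subrepresentation (Cfsg.permRep (ZMod p) G α) :=
    { toSubmodule := (LinearMap.ker f.toLinearMap).map M.toSubmodule.subtype
      apply_mem_toSubmodule := by
        intro g v hv
        rw [Submodule.mem_map] at hv ⊢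
        obtain ⟨v', hv', rfl⟩ := hv
        refine ⟨M.toRepresentation g v', ?_, rfl⟩
        rw [LinearMap.mem_ker] at hv' ⊢
        have h1 := Representation.IntertwiningMap.isIntertwining _ _ f g v'
        have h2 : f v' = 0 := hv'
        show f (M.toRepresentation g v') = 0
        rw [h1, h2, map_zero] }
  have hmemW : ∀ v : α → ZMod p, v ∈ W.toSubmodule ↔ ∃ hv : v ∈ M.toSubmodule, f ⟨v, hv⟩ = 0 := by
    intro v
    show v ∈ (LinearMap.ker f.toLinearMap).map M.toSubmodule.subtype ↔ _
    rw [Submodule.mem_map]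
    constructor
    · rintro ⟨v', hv', rfl⟩
      exact ⟨v'.2, hv'⟩
    · rintro ⟨hv, hfv⟩
      exact ⟨⟨v, hv⟩, hfv, rfl⟩
  have hCW : C.toSubmodule ≤ W.toSubmodule := by
    intro v hv
    rw [hmemW]
    exact ⟨hCM hv, hf ⟨v, hCM hv⟩ hv⟩
  have hWM : W.toSubmodule ≤ M.toSubmodule := by
    intro v hv
    rw [hmemW] at hv
    exact hv.1
  -- the linear function
  let v₀ : α → ZMod p := fun a => e a
  have hv₀M : v₀ ∈ M.toSubmodule := by
    rw [hmemM]
    show ∑ a, e a = 0
    rw [Equiv.sum_comp e (fun j => j)]
    exact sum_zmod_eq_zero hp2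
  have hone : (fun _ => (1 : ZMod p) : α → ZMod p) ∈ C.toSubmodule := by
    rw [hmemC]
    exact ⟨1, one_smul _ _⟩
  let one' : M.toSubmodule := ⟨fun _ => 1, hCM hone⟩
  have hfone : f one' = 0 := hf one' hone
  let v₀' : M.toSubmodule := ⟨v₀, hv₀M⟩
  let F : Set.powersetCard α 2 → ZMod p := f v₀'
  have hF : F = f v₀' := rfl
  -- invariance under `x`
  have hxF : ∀ P, F (x • P) = F P := by
    have h1 : M.toRepresentation x v₀' = v₀' - one' := by
      apply Subtype.ext
      funext a
      show e ((x⁻¹ : G) • a) = e a - 1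
      exact label_inv e (x : Equiv.Perm α) he a
    have h2 := Representation.IntertwiningMap.isIntertwining _ _ f x v₀'
    rw [h1, map_sub, hfone, sub_zero] at h2
    intro P
    have h3 : f v₀' (x • P) = f v₀' (x⁻¹ • (x • P)) := congrFun h2 (x • P)
    rw [inv_smul_smul] at h3
    exact h3
  have hxnF : ∀ (n : ℕ) P, F ((x ^ n) • P) = F P := by
    intro n
    induction n with
    | zero => intro P; rw [pow_zero, one_smul]
    | succ n ih =>
      intro P
      rw [pow_succ', mul_smul, hxF, ih]
  -- anti-invariance under `t`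
  have htF : ∀ P, F (t • P) = - F P := by
    have h1 : M.toRepresentation t v₀' = c • one' - v₀' := by
      apply Subtype.ext
      funext a
      show e ((t⁻¹ : G) • a) = c * 1 - e a
      rw [htinv, mul_one]
      exact hc a
    have h2 := Representation.IntertwiningMap.isIntertwining _ _ f t v₀'
    rw [h1, map_sub, map_smul, hfone, smul_zero, zero_sub] at h2
    intro P
    have h3 : (-(f v₀')) (t • P) = f v₀' (t⁻¹ • (t • P)) := congrFun h2 (t • P)
    rw [inv_smul_smul] at h3
    show f v₀' (t • P) = - f v₀' P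
    rw [← h3]
    simp
  -- `t` preserves each orbit of `x` on the pairs
  have hpairs : ∀ P : Set.powersetCard α 2, ∃ n : ℕ, (x ^ n) • P = t • P := by
    intro P
    obtain ⟨a, b, hab, hP⟩ := Finset.card_eq_two.1 P.2
    refine ⟨(c - e a - e b).val, ?_⟩
    have hpow : ∀ z : α, e ((x ^ (c - e a - e b).val : G) • z) = e z + (c - e a - e b) := by
      intro z
      have := label_pow e (x : Equiv.Perm α) he (c - e a - e b).val z
      rw [ZMod.natCast_zmod_val] at this
      exact this
    have h1 : (x ^ (c - e a - e b).val : G) • a = t • b := by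
      apply e.injective
      rw [hpow]
      show _ = e ((t : Equiv.Perm α) b)
      rw [hc]; ring
    have h2 : (x ^ (c - e a - e b).val : G) • b = t • a := by
      apply e.injective
      rw [hpow]
      show _ = e ((t : Equiv.Perm α) a)
      rw [hc]; ring
    apply Subtype.ext
    rw [Set.powersetCard.coe_smul, Set.powersetCard.coe_smul, hP, Finset.smul_finset_insert,
      Finset.smul_finset_singleton, Finset.smul_finset_insert, Finset.smul_finset_singleton, h1, h2,
      Finset.pair_comm]
  have h2ne : (2 : ZMod p) ≠ 0 := by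
    intro h
    have h' : ((2 : ℕ) : ZMod p) = 0 := by exact_mod_cast h
    rw [ZMod.natCast_eq_zero_iff] at h'
    have := (Nat.prime_dvd_prime_iff_eq hp Nat.prime_two).1 h'
    exact hp2 this
  have hF0 : F = 0 := by
    funext P
    obtain ⟨n, hn⟩ := hpairs P
    have h1 := hxnF n P
    rw [hn, htF] at h1
    have h2 : (2 : ZMod p) * F P = 0 := by linear_combination -h1
    rcases mul_eq_zero.1 h2 with h | h
    · exact absurd h h2ne
    · exact h
  have hv₀W : v₀ ∈ W.toSubmodule := by
    rw [hmemW]
    exact ⟨hv₀M, hF0⟩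
  have hv₀C : v₀ ∉ C.toSubmodule := by
    rw [hmemC]
    rintro ⟨a, ha⟩
    have h0 := congrFun ha (e.symm 0)
    have h1 := congrFun ha (e.symm 1)
    simp only [v₀, Pi.smul_apply, smul_eq_mul, mul_one, e.apply_symm_apply] at h0 h1
    rw [h0] at h1
    exact zero_ne_one h1
  have hW := Cfsg.Agent.S0674.result (p := p) hα G hG W hCW hWM
  have hWM' : W = M := by
    rcases hW with h | h
    · exfalso
      apply hv₀C
      have h' : W.toSubmodule = C.toSubmodule := congrArg Subrepresentation.toSubmodule h
      rw [← h']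
      exact hv₀W
    · exact h
  apply Representation.IntertwiningMap.ext
  apply LinearMap.ext
  intro v
  have hv : (v : α → ZMod p) ∈ W.toSubmodule := by
    have h' : W.toSubmodule = M.toSubmodule := congrArg Subrepresentation.toSubmodule hWM'
    rw [h']
    exact v.2
  rw [hmemW] at hv
  obtain ⟨_, hv2⟩ := hv
  exact hv2

end Key

/-- A non-solvable transitive permutation group of prime degree `p` whose Sylow `p`-normaliser has even order is triply transitive. -/
theorem result {α : Type*} [Fintype α] [DecidableEq α] {p : ℕ} [Fact p.Prime] (hα : Fintype.card α = p) (G : Subgroup (Equiv.Perm α)) [MulAction.IsPretransitive G α] (hG : ¬ Group.IsSolvable G) (P : Sylow p G) (heven : Even (Nat.card (Subgroup.normalizer ((P : Subgroup G) : Set G)))) : MulAction.IsMultiplyPretransitive G α 3 := by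
  have hp : p.Prime := Fact.out
  have hp5 : 5 ≤ p := by
    by_contra hcon
    have h3 : p ≤ 3 := by
      have h4 : p ≠ 4 := by
        intro h4
        rw [h4] at hp
        exact absurd hp (by decide)
      omega
    exact hG (Cfsg.Agent.S0675.solvable_small (p := p) hα h3 G)
  have h2t : MulAction.IsMultiplyPretransitive G α 2 := by
    rcases Cfsg.Agent.S0675.result (by rw [hα]; exact hp) G with h | h
    · exact absurd h hG
    · exact h
  obtain ⟨x, t, hx, ht, hnorm⟩ := exists_cycle_involution hα G P heven
  obtain ⟨a₀, ha₀⟩ := unique_fixed_hom hα (by omega) G.subtype G.subtype_injective x t hx ht hnorm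
  have hta₀ : t • a₀ = a₀ := (ha₀ a₀).2 rfl
  have hevenstab : ∀ a : α, Even (Nat.card (MulAction.stabilizer G a)) := by
    intro a
    have h1 : Nat.card (MulAction.stabilizer G a) = Nat.card (MulAction.stabilizer G a₀) := by
      have e1 := Subgroup.index_mul_card (MulAction.stabilizer G a)
      have e2 := Subgroup.index_mul_card (MulAction.stabilizer G a₀)
      rw [MulAction.index_stabilizer_of_transitive] at e1 e2
      have hpos : 0 < Nat.card α := by
        rw [Nat.card_eq_fintype_card, hα]
        exact hp.pos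
      exact Nat.eq_of_mul_eq_mul_left hpos (e1.trans e2.symm)
    rw [h1]
    have h2 : orderOf (⟨t, hta₀⟩ : MulAction.stabilizer G a₀) = 2 := by
      rw [← Subgroup.orderOf_coe]
      exact ht
    rw [even_iff_two_dvd, ← h2]
    exact orderOf_dvd_natCard _
  exact Cfsg.Agent.S0672.result (K := ZMod p) (p := p) h2t (by rw [hα]) hevenstab
    (fun f hf => heart_map_eq_zero hα (by omega) G hG x t hx ht hnorm f hf)

end Cfsg.Agent.S0676
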