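import Cfsg.Statements.S0680
import Mathlib

set_option autoImplicit false
set_option linter.unusedVariables false
open Cfsg

namespace Cfsg.Agent.S0680

open MulAction

section
variable {G Ω : Type*} [Group G] [MulAction G Ω]

def mk2 (a b : Ω) (h : a ≠ b) : Fin 2 ↪ Ω :=
  ⟨![a, b], by
    intro i j hij
    fin_cases i <;> fin_cases j <;> simp_all⟩

theorem mk2_zero (a b : Ω) (h : a ≠ b) : mk2 a b h 0 = a := rfl
theorem mk2_one (a b : Ω) (h : a ≠ b) : mk2 a b h 1 = b := rfl

theorem exists_map2 (h2 : IsMultiplyPretransitive G Ω 2) {a b c d : Ω} (hab : a ≠ b)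
    (hcd : c ≠ d) : ∃ g : G, g • a = c ∧ g • b = d := by
  obtain ⟨g, hg⟩ := h2.exists_smul_eq (mk2 a b hab) (mk2 c d hcd)
  refine ⟨g, ?_, ?_⟩
  · have := congrArg (fun f : Fin 2 ↪ Ω => f 0) hg
    simpa only [Function.Embedding.smul_apply, mk2_zero] using this
  · have := congrArg (fun f : Fin 2 ↪ Ω => f 1) hg
    simpa only [Function.Embedding.smul_apply, mk2_one] using this

theorem eq_one_of_fix2 (hsharp : ∀ x : Fin 2 ↪ Ω, MulAction.stabilizer G x = ⊥)
    {a b : Ω} (hab : a ≠ b) (g : G) (ha : g • a = a) (hb : g • b = b) : g = 1 := by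
  have : g ∈ MulAction.stabilizer G (mk2 a b hab) := by
    rw [MulAction.mem_stabilizer_iff]
    ext i
    fin_cases i
    · change g • (mk2 a b hab 0) = mk2 a b hab 0
      rw [mk2_zero, ha]
    · change g • (mk2 a b hab 1) = mk2 a b hab 1
      rw [mk2_one, hb]
  rw [hsharp] at this
  exact Subgroup.mem_bot.mp this

/-- A `q`-element with exactly one fixed point forces `|Ω| ≡ 1 mod q`. -/
theorem card_mod_of_fix [Finite Ω] {q : ℕ} [Fact q.Prime] (x : G)
    (hx : IsPGroup q (Subgroup.zpowers x)) (a : Ω) (hfix : x • a = a)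
    (huniq : ∀ b : Ω, x • b = b → b = a) : Nat.card Ω ≡ 1 [MOD q] := by
  have hfp : MulAction.fixedPoints (Subgroup.zpowers x) Ω = {a} := by
    ext ω
    simp only [MulAction.mem_fixedPoints, Set.mem_singleton_iff]
    constructor
    · intro h
      exact huniq ω (h ⟨x, Subgroup.mem_zpowers x⟩)
    · rintro rfl g
      obtain ⟨g, hg⟩ := g
      obtain ⟨k, rfl⟩ := Subgroup.mem_zpowers_iff.mp hg
      change (x ^ k) • ω = ω
      exact MulAction.mem_stabilizer_iff.mp
        (Subgroup.zpow_mem _ (MulAction.mem_stabilizer_iff.mpr hfix) k)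
  have hmod := hx.card_modEq_card_fixedPoints Ω
  rw [hfp] at hmod
  simpa using hmod

/-- Counting: the number of fixed-point-free elements is `n - 1`; stabilizers have order `n - 1`. -/
theorem counting [Fintype G] [Fintype Ω] [DecidableEq Ω] [DecidableEq G]
    (htr : IsMultiplyPretransitive G Ω 2)
    (hsharp : ∀ x : Fin 2 ↪ Ω, MulAction.stabilizer G x = ⊥) (h2 : 2 ≤ Fintype.card Ω) :
    Fintype.card G = Fintype.card Ω * (Fintype.card Ω - 1) ∧
    (∀ a : Ω, (Finset.univ.filter (fun g : G => g • a = a)).card = Fintype.card Ω - 1) ∧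
    (Finset.univ.filter (fun g : G => ∀ a : Ω, g • a ≠ a)).card = Fintype.card Ω - 1 := by
  set n := Fintype.card Ω with hn
  obtain ⟨o, o', hoo'⟩ : ∃ o o' : Ω, o ≠ o' := by
    have : 1 < Fintype.card Ω := by omega
    exact Fintype.exists_pair_of_one_lt_card this
  have S : ∀ (g : G) (a b : Ω), a ≠ b → g • a = a → g • b = b → g = 1 :=
    fun g a b hab ha hb => eq_one_of_fix2 hsharp hab g ha hb
  -- |G|
  have cardG : Fintype.card G = n * (n - 1) := by
    have hbij : Function.Bijective (fun g : G => g • mk2 o o' hoo') := by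
      constructor
      · intro g g' h
        change g • mk2 o o' hoo' = g' • mk2 o o' hoo' at h
        have h' : g'⁻¹ * g ∈ MulAction.stabilizer G (mk2 o o' hoo') := by
          rw [MulAction.mem_stabilizer_iff, mul_smul]
          change g'⁻¹ • (g • mk2 o o' hoo') = _
          rw [h, inv_smul_smul]
        rw [hsharp] at h'
        have := Subgroup.mem_bot.mp h'
        have := congrArg (g' * ·) this
        simpa using this
      · intro x
        exact htr.exists_smul_eq _ x
    rw [Fintype.card_of_bijective hbij, Fintype.card_embedding_eq, Fintype.card_fin]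
    simp [Nat.descFactorial, ← hn, mul_comm]
  have hpre : IsPretransitive G Ω := by
    constructor
    intro a b
    by_cases hab : a = b
    · exact ⟨1, by rw [one_smul, hab]⟩
    · obtain ⟨g, hg, _⟩ := exists_map2 htr hab (Ne.symm hab)
      exact ⟨g, hg⟩
  have cardStab : ∀ a : Ω, (Finset.univ.filter (fun g : G => g • a = a)).card = n - 1 := by
    intro a
    have h1 : Nat.card (MulAction.stabilizer G a) * (MulAction.stabilizer G a).index
        = Nat.card G := Subgroup.card_mul_index _
    rw [MulAction.index_stabilizer_of_transitive, Nat.card_eq_fintype_card (α := G),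
      Nat.card_eq_fintype_card (α := Ω), cardG, ← hn] at h1
    have h3 : Nat.card (MulAction.stabilizer G a)
        = (Finset.univ.filter (fun g : G => g • a = a)).card := by
      rw [Nat.card_eq_fintype_card, Fintype.card_subtype]
      congr 1
    rw [← h3]
    have hnpos : 0 < n := by omega
    have : Nat.card (MulAction.stabilizer G a) * n = (n - 1) * n := by rw [h1, mul_comm]
    exact Nat.eq_of_mul_eq_mul_right hnpos this
  refine ⟨cardG, cardStab, ?_⟩
  -- double counting
  set Fs := Finset.univ.filter (fun g : G => ∀ a : Ω, g • a ≠ a) with hFs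
  have hdc : ∑ g : G, (Finset.univ.filter (fun a : Ω => g • a = a)).card
      = ∑ a : Ω, (Finset.univ.filter (fun g : G => g • a = a)).card := by
    simp only [Finset.card_filter]
    exact Finset.sum_comm
  have hrhs : ∑ a : Ω, (Finset.univ.filter (fun g : G => g • a = a)).card = n * (n - 1) := by
    rw [Finset.sum_congr rfl (fun a _ => cardStab a), Finset.sum_const, Finset.card_univ,
      smul_eq_mul]
  have hone : (Finset.univ.filter (fun a : Ω => (1 : G) • a = a)).card = n := by
    simp [hn]
  have hother : ∀ g ∈ (Finset.univ : Finset G).erase 1,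
      (Finset.univ.filter (fun a : Ω => g • a = a)).card = if g ∉ Fs then 1 else 0 := by
    intro g hg
    have hg1 : g ≠ 1 := Finset.ne_of_mem_erase hg
    by_cases hgF : g ∈ Fs
    · rw [if_neg (not_not.mpr hgF), Finset.card_eq_zero, Finset.filter_eq_empty_iff]
      intro a _
      exact (Finset.mem_filter.mp hgF).2 a
    · rw [if_pos hgF]
      have : ∃ a : Ω, g • a = a := by
        by_contra hcon
        push Not at hcon
        exact hgF (Finset.mem_filter.mpr ⟨Finset.mem_univ _, hcon⟩)
      obtain ⟨a, ha⟩ := this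
      rw [Finset.card_eq_one]
      refine ⟨a, ?_⟩
      ext b
      simp only [Finset.mem_filter, Finset.mem_univ, true_and, Finset.mem_singleton]
      constructor
      · intro hb
        by_contra hab
        exact hg1 (S g b a hab hb ha)
      · rintro rfl
        exact ha
  have hFsub : Fs ⊆ (Finset.univ : Finset G).erase 1 := by
    intro g hg
    rw [Finset.mem_erase]
    refine ⟨?_, Finset.mem_univ _⟩
    rintro rfl
    exact (Finset.mem_filter.mp hg).2 o (one_smul _ _)
  have hsum : ∑ g : G, (Finset.univ.filter (fun a : Ω => g • a = a)).card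
      = n + ((n * (n - 1) - 1) - Fs.card) := by
    rw [← Finset.add_sum_erase _ _ (Finset.mem_univ (1 : G)), hone,
      Finset.sum_congr rfl hother]
    congr 1
    rw [← Finset.card_filter, Finset.filter_notMem_eq_sdiff, Finset.card_sdiff_of_subset hFsub,
      Finset.card_erase_of_mem (Finset.mem_univ _), Finset.card_univ, cardG]
  have hFle : Fs.card ≤ n * (n - 1) - 1 := by
    have := Finset.card_le_card hFsub
    rwa [Finset.card_erase_of_mem (Finset.mem_univ _), Finset.card_univ, cardG] at this
  rw [hdc, hrhs] at hsum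
  have hN : 1 ≤ n * (n - 1) := by
    have : 1 ≤ n - 1 := by omega
    nlinarith
  generalize n * (n - 1) = N at hsum hFle hN
  omega

theorem main [Finite G] [Fintype Ω]
    (htr : IsMultiplyPretransitive G Ω 2)
    (hsharp : ∀ x : Fin 2 ↪ Ω, MulAction.stabilizer G x = ⊥) (h2 : 2 ≤ Fintype.card Ω) :
    ∃ p j : ℕ, p.Prime ∧ 1 ≤ j ∧ Fintype.card Ω = p ^ j ∧
      ∀ (hp : Fact p.Prime) (P : Sylow p G),
      (P : Subgroup G).Normal ∧ IsMulCommutative (P : Subgroup G) ∧
      (∀ x ∈ (P : Subgroup G), x ^ p = 1) ∧ IsPretransitive (P : Subgroup G) Ω ∧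
      (∀ a : Ω, MulAction.stabilizer (P : Subgroup G) a = ⊥) ∧
      ∀ g : G, g ∈ (P : Subgroup G) ↔ g = 1 ∨ ∀ a : Ω, g • a ≠ a := by
  classical
  have := Fintype.ofFinite G
  obtain ⟨cardG, cardStab, cardF⟩ := counting htr hsharp h2
  set n := Fintype.card Ω with hn
  set Fs := Finset.univ.filter (fun g : G => ∀ a : Ω, g • a ≠ a) with hFs
  have S : ∀ (g : G) (a b : Ω), a ≠ b → g • a = a → g • b = b → g = 1 :=
    fun g a b hab ha hb => eq_one_of_fix2 hsharp hab g ha hb
  obtain ⟨o, o', hoo'⟩ : ∃ o o' : Ω, o ≠ o' := by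
    have : 1 < Fintype.card Ω := by omega
    exact Fintype.exists_pair_of_one_lt_card this
  have memF : ∀ g : G, g ∈ Fs ↔ ∀ a : Ω, g • a ≠ a := by
    intro g
    rw [hFs, Finset.mem_filter]
    simp
  have one_notF : (1 : G) ∉ Fs := by
    rw [memF]
    intro h
    exact h o (one_smul _ _)
  obtain ⟨k0, hk0⟩ : Fs.Nonempty := by
    rw [← Finset.card_pos, cardF]; omega
  -- conjugation by the stabilizer of `o` is transitive on `Fs`
  have conjF : ∀ (h k : G), k ∈ Fs → h * k * h⁻¹ ∈ Fs := by
    intro h k hk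
    rw [memF] at hk ⊢
    intro a ha
    apply hk (h⁻¹ • a)
    rw [mul_smul, mul_smul, smul_eq_iff_eq_inv_smul] at ha
    exact ha
  have conjT : ∀ k ∈ Fs, ∀ k' ∈ Fs, ∃ h : G, h • o = o ∧ h * k * h⁻¹ = k' := by
    intro k hk k' hk'
    set St := Finset.univ.filter (fun g : G => g • o = o) with hSt
    have himg : St.image (fun h => h * k * h⁻¹) = Fs := by
      apply Finset.eq_of_subset_of_card_le
      · intro x hx
        obtain ⟨h, hh, rfl⟩ := Finset.mem_image.mp hx
        exact conjF h k hk
      · rw [Finset.card_image_of_injOn, cardStab o, cardF]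
        intro h hh h' hh' heq
        have hho : h • o = o := (Finset.mem_filter.mp hh).2
        have hho' : h' • o = o := (Finset.mem_filter.mp hh').2
        have hu : h'⁻¹ * h * k = k * (h'⁻¹ * h) := by
          have := congrArg (fun x => h'⁻¹ * x * h) heq
          simp only [mul_assoc, inv_mul_cancel, mul_one, inv_mul_cancel_left] at this
          rw [mul_assoc]
          exact this
        have huo : (h'⁻¹ * h) • o = o := by
          rw [mul_smul, hho, inv_smul_eq_iff, hho']
        have huk : (h'⁻¹ * h) • (k • o) = k • o := by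
          rw [← mul_smul, hu, mul_smul, huo]
        have hko : k • o ≠ o := (memF k).mp hk o
        have := S _ _ _ hko huk huo
        have := congrArg (h' * ·) this
        simpa using this
    rw [← himg] at hk'
    obtain ⟨h, hh, rfl⟩ := Finset.mem_image.mp hk'
    exact ⟨h, (Finset.mem_filter.mp hh).2, rfl⟩
  have hord : ∀ k ∈ Fs, ∀ k' ∈ Fs, orderOf k' = orderOf k := by
    intro k hk k' hk'
    obtain ⟨h, _, rfl⟩ := conjT k hk k' hk'
    exact (MulAut.conj h).orderOf_eq k
  -- a prime order element of Fs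
  have hk0ne : k0 ≠ 1 := fun h => one_notF (h ▸ hk0)
  have hord0 : orderOf k0 ≠ 1 := by
    rw [Ne, orderOf_eq_one_iff]; exact hk0ne
  set p := (orderOf k0).minFac with hp
  have hpp : p.Prime := Nat.minFac_prime hord0
  have hpdvd : p ∣ orderOf k0 := Nat.minFac_dvd _
  set k1 := k0 ^ (orderOf k0 / p) with hk1
  have hk1ord : orderOf k1 = p := orderOf_pow_orderOf_div (orderOf_pos k0).ne' hpdvd
  have hk1ne : k1 ≠ 1 := by
    intro h
    rw [h, orderOf_one] at hk1ord
    exact hpp.one_lt.ne hk1ord
  have hk1F : k1 ∈ Fs := by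
    rw [memF]
    intro a ha
    have hcomm : k1 * k0 = k0 * k1 := by
      rw [hk1, ← pow_succ, ← pow_succ']
    have h1 : k1 • (k0 • a) = k0 • a := by
      rw [← mul_smul, hcomm, mul_smul, ha]
    have hk0a : k0 • a ≠ a := (memF k0).mp hk0 a
    exact hk1ne (S _ _ _ hk0a h1 ha)
  have hordp : ∀ k ∈ Fs, orderOf k = p := fun k hk => (hord k1 hk1F k hk).trans hk1ord
  -- a nonidentity q-element with a fixed point forces n ≡ 1 mod q
  have modq : ∀ (q : ℕ) [Fact q.Prime] (x : G), IsPGroup q (Subgroup.zpowers x) → x ≠ 1 →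
      x ∉ Fs → ¬ q ∣ n := by
    intro q _ x hxq hx1 hxF hqn
    have : ∃ a : Ω, x • a = a := by
      by_contra hcon
      push Not at hcon
      exact hxF ((memF x).mpr hcon)
    obtain ⟨a, ha⟩ := this
    have hmod := card_mod_of_fix x hxq a ha
      (fun b hb => by_contra fun hab => hx1 (S x b a hab hb ha))
    rw [Nat.card_eq_fintype_card] at hmod
    have h1 : n % q = 1 % q := hmod
    have h2 : n % q = 0 := Nat.mod_eq_zero_of_dvd hqn
    have h3 : 1 % q = 1 := Nat.mod_eq_of_lt (Fact.out : q.Prime).one_lt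
    omega
  have hq : ∀ q : ℕ, q.Prime → q ∣ n → q = p := by
    intro q hqp hqn
    have := Fact.mk hqp
    have hqG : q ∣ Nat.card G := by
      rw [Nat.card_eq_fintype_card, cardG]; exact Dvd.dvd.mul_right hqn _
    obtain ⟨x, hx⟩ := exists_prime_orderOf_dvd_card' q hqG
    by_cases hxF : x ∈ Fs
    · rw [← hordp x hxF, hx]
    · exfalso
      have hx1 : x ≠ 1 := by
        intro h
        rw [h, orderOf_one] at hx
        exact hqp.one_lt.ne hx
      refine modq q x (IsPGroup.of_card (n := 1) ?_) hx1 hxF hqn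
      rw [Nat.card_zpowers, hx, pow_one]
  have hnj : n = p ^ n.primeFactorsList.length :=
    Nat.eq_prime_pow_of_unique_prime_dvd (by omega) (fun {d} hd hdn => hq d hd hdn)
  set j := n.primeFactorsList.length with hj
  have hj1 : 1 ≤ j := by
    by_contra hcon
    have : j = 0 := by omega
    rw [this, pow_zero] at hnj
    omega
  have hpn : p ∣ n := by
    rw [hnj]; exact dvd_pow_self p (by omega)
  refine ⟨p, j, hpp, hj1, hnj, ?_⟩
  intro hpF P
  have cardP : Nat.card (P : Subgroup G) = n := by
    rw [P.card_eq_multiplicity, Nat.card_eq_fintype_card, cardG]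
    have h1 : n ≠ 0 := by omega
    have h2' : n - 1 ≠ 0 := by omega
    have hnd : ¬ p ∣ n - 1 := by
      intro hdvd
      have := Nat.dvd_sub hpn hdvd
      have h3 : n - (n - 1) = 1 := by omega
      rw [h3] at this
      exact hpp.one_lt.ne' (Nat.dvd_one.mp this)
    rw [Nat.factorization_mul h1 h2', Finsupp.add_apply,
      Nat.factorization_eq_zero_of_not_dvd hnd, add_zero]
    conv_rhs => rw [hnj]
    congr 1
    conv_lhs => rw [hnj]
    rw [hpp.factorization_pow, Finsupp.single_eq_same]
  have hPF : ∀ x ∈ (P : Subgroup G), x ≠ 1 → x ∈ Fs := by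
    intro x hx hx1
    by_contra hxF
    have hxp : IsPGroup p (Subgroup.zpowers x) :=
      P.2.to_le (by rwa [Subgroup.zpowers_le])
    exact modq p x hxp hx1 hxF hpn
  set Pf := (Finset.univ.filter (fun g : G => g ∈ (P : Subgroup G))).erase 1 with hPf
  have hPfF : Pf = Fs := by
    apply Finset.eq_of_subset_of_card_le
    · intro x hx
      rw [hPf, Finset.mem_erase, Finset.mem_filter] at hx
      exact hPF x hx.2.2 hx.1
    · rw [hPf, Finset.card_erase_of_mem, cardF]
      · have : (Finset.univ.filter (fun g : G => g ∈ (P : Subgroup G))).card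
            = Nat.card (P : Subgroup G) := by
          rw [Nat.card_eq_fintype_card, Fintype.card_subtype]
        rw [this, cardP]
      · rw [Finset.mem_filter]
        exact ⟨Finset.mem_univ _, Subgroup.one_mem _⟩
  have hmem : ∀ g : G, g ∈ (P : Subgroup G) ↔ g = 1 ∨ ∀ a : Ω, g • a ≠ a := by
    intro g
    constructor
    · intro hg
      by_cases hg1 : g = 1
      · exact Or.inl hg1
      · exact Or.inr ((memF g).mp (hPF g hg hg1))
    · rintro (rfl | hg)
      · exact Subgroup.one_mem _
      · have : g ∈ Pf := by rw [hPfF, memF]; exact hg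
        rw [hPf, Finset.mem_erase, Finset.mem_filter] at this
        exact this.2.2
  have hnormal : (P : Subgroup G).Normal := by
    constructor
    intro x hx g
    rw [hmem] at hx ⊢
    rcases hx with rfl | hx
    · left; simp
    · right
      exact (memF _).mp (conjF g x ((memF x).mpr hx))
  have hexp : ∀ x ∈ (P : Subgroup G), x ^ p = 1 := by
    intro x hx
    by_cases hx1 : x = 1
    · rw [hx1, one_pow]
    · rw [← hordp x (hPF x hx hx1)]
      exact pow_orderOf_eq_one x
  have hfree : ∀ x ∈ (P : Subgroup G), ∀ a : Ω, x • a = a → x = 1 := by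
    intro x hx a ha
    by_contra hx1
    exact (memF x).mp (hPF x hx hx1) a ha
  refine ⟨hnormal, ?_, hexp, ?_, ?_, hmem⟩
  · -- commutative
    have hPG : IsPGroup p (P : Subgroup G) := P.2
    have : Nontrivial (P : Subgroup G) := by
      rw [← Finite.one_lt_card_iff_nontrivial, cardP]; omega
    have hcn : Nontrivial (Subgroup.center (P : Subgroup G)) := hPG.center_nontrivial
    obtain ⟨z, hz⟩ := exists_ne (1 : Subgroup.center (P : Subgroup G))
    have hzc : ∀ w : (P : Subgroup G), w * (z : (P : Subgroup G)) = (z : (P : Subgroup G)) * w :=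
      fun w => (Subgroup.mem_center_iff.mp z.2 w)
    have hzne : ((z : (P : Subgroup G)) : G) ≠ 1 := by
      intro h
      apply hz
      ext
      exact h
    have hzF : ((z : (P : Subgroup G)) : G) ∈ Fs := hPF _ (z : (P : Subgroup G)).2 hzne
    refine ⟨⟨fun x y => ?_⟩⟩
    by_cases hx1 : (x : G) = 1
    · have : x = 1 := by ext; exact hx1
      rw [this, one_mul, mul_one]
    · obtain ⟨h, _, hh⟩ := conjT _ hzF _ (hPF _ x.2 hx1)
      have hy' : h⁻¹ * (y : G) * h ∈ (P : Subgroup G) := by
        have := hnormal.conj_mem _ y.2 h⁻¹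
        simpa using this
      have hcz := congrArg (Subtype.val) (hzc ⟨_, hy'⟩)
      simp only [Subgroup.coe_mul] at hcz
      ext
      simp only [Subgroup.coe_mul]
      rw [← hh]
      calc h * ((z : (P : Subgroup G)) : G) * h⁻¹ * (y : G)
          = h * (((z : (P : Subgroup G)) : G) * (h⁻¹ * (y : G) * h)) * h⁻¹ := by group
        _ = h * ((h⁻¹ * (y : G) * h) * ((z : (P : Subgroup G)) : G)) * h⁻¹ := by rw [hcz]
        _ = (y : G) * (h * ((z : (P : Subgroup G)) : G) * h⁻¹) := by group
  · -- transitive
    have hinj : Function.Injective (fun x : (P : Subgroup G) => (x : G) • o) := by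
      intro x x' hxx'
      have h1 : ((x' : G)⁻¹ * (x : G)) • o = o := by
        rw [mul_smul, inv_smul_eq_iff]; exact hxx'
      have h2 := hfree _ ((P : Subgroup G).mul_mem ((P : Subgroup G).inv_mem x'.2) x.2) o h1
      have := congrArg ((x' : G) * ·) h2
      ext
      simpa using this
    have hbij : Function.Bijective (fun x : (P : Subgroup G) => (x : G) • o) := by
      apply Function.Injective.bijective_of_nat_card_le hinj
      rw [cardP, Nat.card_eq_fintype_card]
    constructor
    intro a b
    obtain ⟨xa, hxa⟩ := hbij.2 a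
    obtain ⟨xb, hxb⟩ := hbij.2 b
    refine ⟨xb * xa⁻¹, ?_⟩
    change ((xb : G) * (xa : G)⁻¹) • a = b
    rw [mul_smul, inv_smul_eq_iff.mpr hxa.symm]
    exact hxb
  · intro a
    ext x
    rw [MulAction.mem_stabilizer_iff, Subgroup.mem_bot]
    constructor
    · intro hx
      ext
      exact hfree _ x.2 a hx
    · rintro rfl
      exact one_smul _ _

end

theorem result {α : Type*} [Fintype α] [DecidableEq α] (G : Subgroup (Equiv.Perm α)) [MulAction.IsMultiplyPretransitive G α 2] (hsharp : ∀ x : Fin 2 ↪ α, MulAction.stabilizer G x = ⊥) (h2 : 2 ≤ Fintype.card α) : ∃ p j : ℕ, p.Prime ∧ 1 ≤ j ∧ Fintype.card α = p ^ j ∧ ∀ (hp : Fact p.Prime) (P : Sylow p G), (P : Subgroup G).Normal ∧ IsMulCommutative (P : Subgroup G) ∧ (∀ x ∈ (P : Subgroup G), x ^ p = 1) ∧ MulAction.IsPretransitive (P : Subgroup G) α ∧ (∀ a : α, MulAction.stabilizer (P : Subgroup G) a = ⊥) ∧ ∀ g : G, g ∈ (P : Subgroup G) ↔ g = 1 ∨ ∀ a : α, g • a ≠ a := by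
  exact main (G := G) (Ω := α) inferInstance hsharp h2

end Cfsg.Agent.S0680
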