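import Cfsg.Statements.S2904
import Mathlib

set_option autoImplicit false
open Cfsg

namespace Cfsg.Agent.S2904
open Polynomial

/-- the value of the n-th cyclotomic polynomial at `a`, as a natural number -/
noncomputable def Phi (n a : ℕ) : ℕ := ((cyclotomic n ℤ).eval (a : ℤ)).natAbs

lemma Phi_cast (n a : ℕ) (ha : 1 < a) : ((Phi n a : ℕ) : ℤ) = (cyclotomic n ℤ).eval (a : ℤ) := by
  unfold Phi
  have : 0 < (cyclotomic n ℤ).eval (a : ℤ) := cyclotomic_pos' n (by exact_mod_cast ha)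
  rw [Int.natCast_natAbs, abs_of_pos this]

lemma Phi_pos (n a : ℕ) (ha : 1 < a) : 0 < Phi n a := by
  have : 0 < (cyclotomic n ℤ).eval (a : ℤ) := cyclotomic_pos' n (by exact_mod_cast ha)
  unfold Phi
  exact Int.natAbs_pos.mpr this.ne'

lemma one_le_pow' (a d : ℕ) (ha : 1 < a) : 1 ≤ a ^ d := Nat.one_le_pow _ _ (by omega)

/-- (P1) -/
lemma mul_Phi_dvd (n a d : ℕ) (ha : 1 < a) (hd : d ∈ n.properDivisors) :
    (a ^ d - 1) * Phi n a ∣ a ^ n - 1 := by
  have h := X_pow_sub_one_mul_cyclotomic_dvd_X_pow_sub_one_of_dvd ℤ hd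
  have h2 := eval_dvd (x := (a : ℤ)) h
  simp only [eval_mul, eval_sub, eval_pow, eval_X, eval_one] at h2
  rw [← Phi_cast n a ha] at h2
  have e1 : ((a : ℤ) ^ d - 1) = ((a ^ d - 1 : ℕ) : ℤ) := by
    rw [Nat.cast_sub (one_le_pow' a d ha)]; push_cast; ring
  have e2 : ((a : ℤ) ^ n - 1) = ((a ^ n - 1 : ℕ) : ℤ) := by
    rw [Nat.cast_sub (one_le_pow' a n ha)]; push_cast; ring
  rw [e1, e2, ← Nat.cast_mul, Int.natCast_dvd_natCast] at h2
  exact h2

lemma Phi_dvd (n a : ℕ) (ha : 1 < a) (hn : 1 < n) : Phi n a ∣ a ^ n - 1 := by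
  have := mul_Phi_dvd n a 1 ha (Nat.mem_properDivisors.mpr ⟨one_dvd _, hn⟩)
  exact (dvd_mul_left _ _).trans this

/-- (P2) -/
lemma Phi_gt (n a : ℕ) (ha : 1 < a) (hn : 1 < n) : (a - 1) ^ n.totient < Phi n a :=
  sub_one_pow_totient_lt_natAbs_cyclotomic_eval hn (by omega)

lemma Phi_two_le (n a : ℕ) (ha : 1 < a) (hn : 1 < n) : 2 ≤ Phi n a := by
  have := Phi_gt n a ha hn
  have h1 : 1 ≤ (a - 1) ^ n.totient := Nat.one_le_pow _ _ (by omega)
  omega

lemma pow_eq_one_iff_dvd (r a k : ℕ) (ha : 1 < a) : ((a : ZMod r)) ^ k = 1 ↔ r ∣ a ^ k - 1 := by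
  have h1 : a ^ k = (a ^ k - 1) + 1 := (Nat.sub_add_cancel (one_le_pow' a k ha)).symm
  have h2 : ((a : ZMod r)) ^ k = ((a ^ k - 1 : ℕ) : ZMod r) + 1 := by
    conv_lhs => rw [← Nat.cast_pow, h1]
    push_cast
    rfl
  rw [h2, ← ZMod.natCast_eq_zero_iff]
  constructor
  · intro h; simpa using h
  · intro h; rw [h, zero_add]

/-- analysis of an odd non-primitive prime divisor of `Phi n a` -/
lemma np_odd (n a r : ℕ) (ha : 1 < a) (hn : 1 < n) (hr : r.Prime) (hr2 : r ≠ 2)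
    (hrΦ : r ∣ Phi n a) (hm : orderOf (a : ZMod r) ≠ n) :
    r ∣ n ∧ ¬ r ^ 2 ∣ Phi n a ∧ (∀ q : ℕ, q.Prime → q ∣ n / orderOf (a : ZMod r) → q = r) ∧
      orderOf (a : ZMod r) ∣ r - 1 ∧ orderOf (a : ZMod r) ∣ n := by
  have : Fact r.Prime := ⟨hr⟩
  have hrodd : Odd r := hr.odd_of_ne_two hr2
  set m := orderOf (a : ZMod r) with hmdef
  have hran : r ∣ a ^ n - 1 := hrΦ.trans (Phi_dvd n a ha hn)
  have han : (a : ZMod r) ^ n = 1 := (pow_eq_one_iff_dvd r a n ha).mpr hran
  have hmn : m ∣ n := orderOf_dvd_of_pow_eq_one han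
  have ha0 : (a : ZMod r) ≠ 0 := by
    intro h0
    rw [h0, zero_pow (by omega)] at han
    exact zero_ne_one han
  have hmr : m ∣ r - 1 := orderOf_dvd_of_pow_eq_one (ZMod.pow_card_sub_one_eq_one ha0)
  have hmpos : 0 < m := Nat.pos_of_dvd_of_pos hmn (by omega)
  have hΦpos := Phi_pos n a ha
  -- key: for every prime q ∣ n / m, q = r and r^2 ∤ Φ
  have key : ∀ q : ℕ, q.Prime → q ∣ n / m → q = r ∧ ¬ r ^ 2 ∣ Phi n a := by
    intro q hq hqd
    obtain ⟨t, ht⟩ := hqd
    have hn_eq : n = m * (q * t) := by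
      rw [← ht]; exact (Nat.mul_div_cancel' hmn).symm
    have htpos : 0 < t := by
      rcases Nat.eq_zero_or_pos t with h0 | h0
      · subst h0; simp at hn_eq; omega
      · exact h0
    set d := m * t with hddef
    have hnd : n = d * q := by rw [hn_eq, hddef]; ring
    have hdprop : d ∈ n.properDivisors := by
      rw [Nat.mem_properDivisors]
      refine ⟨⟨q, hnd⟩, ?_⟩
      rw [hnd]
      have := hq.two_le
      have hdpos : 0 < d := Nat.mul_pos hmpos htpos
      nlinarith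
    have hdiv := mul_Phi_dvd n a d ha hdprop
    have hx1 : 1 < a ^ d := Nat.one_lt_pow (Nat.mul_pos hmpos htpos).ne' ha
    have hrx : r ∣ a ^ d - 1 := by
      rw [← pow_eq_one_iff_dvd r a d ha, hddef, pow_mul, pow_orderOf_eq_one, one_pow]
    have hrx' : ¬ r ∣ a ^ d := by
      intro h
      have h2 : r ∣ a ^ d - (a ^ d - 1) := Nat.dvd_sub h hrx
      have : a ^ d - (a ^ d - 1) = 1 := by omega
      rw [this] at h2
      exact hr.one_lt.ne' (Nat.dvd_one.mp h2)
    have hlte := padicValNat.pow_sub_pow (p := r) hrodd (x := a ^ d) (y := 1) hx1 hrx hrx' hq.ne_zero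
    rw [one_pow, ← pow_mul, ← hnd] at hlte
    have hne : a ^ n - 1 ≠ 0 := by
      have := Nat.one_lt_pow (by omega : n ≠ 0) ha
      omega
    have hx1ne : a ^ d - 1 ≠ 0 := by omega
    have hle : padicValNat r ((a ^ d - 1) * Phi n a) ≤ padicValNat r (a ^ n - 1) := by
      have h1 : r ^ padicValNat r ((a ^ d - 1) * Phi n a) ∣ (a ^ d - 1) * Phi n a := pow_padicValNat_dvd
      exact (padicValNat_dvd_iff_le hne).mp (h1.trans hdiv)
    rw [padicValNat.mul hx1ne hΦpos.ne', hlte] at hle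
    have hle2 : padicValNat r (Phi n a) ≤ padicValNat r q := by omega
    have h1le : 1 ≤ padicValNat r (Phi n a) := one_le_padicValNat_of_dvd hΦpos.ne' hrΦ
    have hqr : q = r := by
      by_contra hne'
      have : Fact q.Prime := ⟨hq⟩
      have := padicValNat_primes (p := r) (q := q) (fun h => hne' h.symm)
      omega
    refine ⟨hqr, ?_⟩
    intro h2
    have := (padicValNat_dvd_iff_le hΦpos.ne').mp h2
    rw [hqr, padicValNat_self] at hle2
    omega
  have hnm1 : n / m ≠ 1 := by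
    intro h1
    apply hm
    have := Nat.div_mul_cancel hmn
    rw [h1, one_mul] at this
    exact this
  obtain ⟨q, hq, hqd⟩ := Nat.exists_prime_and_dvd hnm1
  obtain ⟨hqr, hsq⟩ := key q hq hqd
  refine ⟨?_, hsq, fun q hq hqd => (key q hq hqd).1, hmr, hmn⟩
  rw [← hqr]
  exact hqd.trans (Nat.div_dvd_of_dvd hmn)

lemma odd_geom (p m : ℕ) (hp : Odd p) (hm : Odd m) : Odd (∑ i ∈ Finset.range m, p ^ i) := by
  rw [Finset.odd_sum_iff_odd_card_odd]
  have : (Finset.range m).filter (fun i => Odd (p ^ i)) = Finset.range m := by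
    apply Finset.filter_true_of_mem
    intro i _
    exact hp.pow
  rw [this, Finset.card_range]
  exact hm

lemma odd_of_two_dvd_Phi (n a : ℕ) (ha : 1 < a) (hn : 1 < n) (h2 : 2 ∣ Phi n a) : Odd a := by
  have h := h2.trans (Phi_dvd n a ha hn)
  by_contra hodd
  rw [Nat.not_odd_iff_even] at hodd
  have hev : Even (a ^ n) := (Nat.even_pow.mpr ⟨hodd, by omega⟩)
  have h1 := one_le_pow' a n ha
  obtain ⟨c, hc⟩ := h
  obtain ⟨e, he⟩ := hev
  omega

/-- if `2 ∣ Phi n a` then `n` is a power of two -/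
lemma np_two (n a : ℕ) (ha : 1 < a) (hn : 1 < n) (h2 : 2 ∣ Phi n a) : ∃ e : ℕ, n = 2 ^ e := by
  have haodd := odd_of_two_dvd_Phi n a ha hn h2
  refine ⟨_, Nat.eq_prime_pow_of_unique_prime_dvd (by omega) ?_⟩
  intro q hq hqn
  by_contra hq2
  have hqodd : Odd q := hq.odd_of_ne_two hq2
  obtain ⟨d, hd⟩ := hqn
  have hdpos : 0 < d := by
    rcases Nat.eq_zero_or_pos d with h0 | h0
    · subst h0; omega
    · exact h0
  have hdprop : d ∈ n.properDivisors := by
    rw [Nat.mem_properDivisors]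
    refine ⟨⟨q, by rw [hd]; ring⟩, ?_⟩
    rw [hd]
    have := hq.two_le
    nlinarith
  have hdiv := mul_Phi_dvd n a d ha hdprop
  have hx1 : 1 < a ^ d := Nat.one_lt_pow hdpos.ne' ha
  have hgeom := geom_sum_mul_of_one_le (x := a ^ d) hx1.le q
  rw [← pow_mul, mul_comm d q, ← hd] at hgeom
  rw [← hgeom, mul_comm] at hdiv
  have hΦS : Phi n a ∣ ∑ i ∈ Finset.range q, (a ^ d) ^ i :=
    Nat.dvd_of_mul_dvd_mul_right (by omega) hdiv
  have hSodd := odd_geom (a ^ d) q haodd.pow hqodd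
  have := h2.trans hΦS
  rw [← even_iff_two_dvd] at this
  exact (Nat.not_even_iff_odd.mpr hSodd) this

/-- for `n = 2^e` with `e ≥ 2` and `a` odd, `4 ∤ Phi n a` -/
lemma four_not_dvd (e a : ℕ) (ha : 1 < a) (he : 2 ≤ e) (haodd : Odd a) : ¬ 4 ∣ Phi (2 ^ e) a := by
  intro h4
  obtain ⟨f, rfl⟩ : ∃ f, e = f + 2 := ⟨e - 2, by omega⟩
  have hdprop : 2 ^ (f + 1) ∈ (2 ^ (f + 2)).properDivisors := by
    rw [Nat.mem_properDivisors]
    refine ⟨⟨2, by ring⟩, Nat.pow_lt_pow_right (by norm_num) (by omega)⟩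
  have hdiv := mul_Phi_dvd (2 ^ (f + 2)) a (2 ^ (f + 1)) ha hdprop
  set x := a ^ (2 ^ (f + 1)) with hx
  have hx1 : 1 < x := Nat.one_lt_pow (by positivity) ha
  have e1 : a ^ (2 ^ (f + 2)) - 1 = (x - 1) * (x + 1) := by
    have : a ^ (2 ^ (f + 2)) = x * x := by rw [hx, ← pow_add]; congr 1; ring
    rw [this]
    obtain ⟨y, hy⟩ : ∃ y, x = y + 1 := ⟨x - 1, by omega⟩
    rw [hy]
    have : (y + 1) * (y + 1) = (y + 1 - 1) * (y + 1 + 1) + 1 := by
      rw [Nat.add_sub_cancel]; ring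
    omega
  rw [e1] at hdiv
  have hΦ : Phi (2 ^ (f + 2)) a ∣ x + 1 := Nat.dvd_of_mul_dvd_mul_left (by omega) hdiv
  have h4x : 4 ∣ x + 1 := h4.trans hΦ
  -- x is an odd square, so x % 4 = 1
  have hxsq : x = (a ^ (2 ^ f)) * (a ^ (2 ^ f)) := by rw [hx, ← pow_add]; congr 1; ring
  have hyodd : Odd (a ^ (2 ^ f)) := haodd.pow
  obtain ⟨y, hy⟩ := hyodd
  rw [hy] at hxsq
  have : x % 4 = 1 := by
    rw [hxsq]
    ring_nf
    have : 1 + y * 4 + y ^ 2 * 4 = 1 + 4 * (y + y ^ 2) := by ring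
    rw [this]; omega
  omega

lemma Phi_expand_dvd (n' r a : ℕ) (hr : r.Prime) (hdiv : r ∣ n') :
    Phi n' (a ^ r) = Phi (n' * r) a := by
  unfold Phi
  rw [← cyclotomic_expand_eq_cyclotomic hr hdiv ℤ, expand_eval]
  push_cast
  rfl

lemma Phi_expand_not_dvd (n' r a : ℕ) (hr : r.Prime) (hdiv : ¬ r ∣ n') :
    Phi n' (a ^ r) = Phi (n' * r) a * Phi n' a := by
  unfold Phi
  rw [← Int.natAbs_mul, ← eval_mul, ← cyclotomic_expand_eq_cyclotomic_mul hr hdiv ℤ, expand_eval]
  push_cast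
  rfl

lemma Phi_one (a : ℕ) (ha : 1 < a) : Phi 1 a = a - 1 := by
  unfold Phi
  rw [cyclotomic_one, eval_sub, eval_X, eval_one]
  omega

lemma Phi_le (n a : ℕ) (ha : 1 < a) : Phi n a ≤ (a + 1) ^ n.totient := by
  have h1 := cyclotomic_eval_le_add_one_pow_totient (q := (a : ℝ)) (by exact_mod_cast ha) n
  have h2 := cyclotomic.eval_apply (a : ℤ) n (Int.castRingHom ℝ)
  simp only [eq_intCast, Int.cast_natCast] at h2
  rw [h2, ← Phi_cast n a ha] at h1
  have : ((Phi n a : ℕ) : ℝ) ≤ (((a + 1) ^ n.totient : ℕ) : ℝ) := by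
    push_cast
    simpa using h1
  exact_mod_cast this

lemma three_mul_lt (r : ℕ) (hr : 5 ≤ r) : 3 * r + 1 ≤ 2 ^ r := by
  induction r, hr using Nat.le_induction with
  | base => norm_num
  | succ r hr ih => rw [pow_succ]; omega

lemma seven_pow (k : ℕ) (hk : 2 ≤ k) : 3 ^ (k + 1) ≤ 7 ^ k := by
  obtain ⟨j, rfl⟩ : ∃ j, k = j + 2 := ⟨k - 2, by omega⟩
  have h1 : 3 ^ j ≤ 7 ^ j := Nat.pow_le_pow_left (by norm_num) j
  calc 3 ^ (j + 2 + 1) = 27 * 3 ^ j := by ring
    _ ≤ 49 * 7 ^ j := by omega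
    _ = 7 ^ (j + 2) := by ring

/-- final contradiction in the odd case -/
lemma final_B (n a r : ℕ) (ha : 1 < a) (hn : 1 < n) (hr : r.Prime) (hr2 : r ≠ 2) (hrn : r ∣ n)
    (hΦ : Phi n a = r) : a = 2 ∧ n = 6 := by
  have hr3 : 3 ≤ r := by
    have := hr.two_le
    omega
  have htot : r - 1 ≤ n.totient := by
    have h1 := Nat.totient_dvd_of_dvd hrn
    rw [Nat.totient_prime hr] at h1
    exact Nat.le_of_dvd (Nat.totient_pos.mpr (by omega)) h1
  have hgt := Phi_gt n a ha hn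
  rw [hΦ] at hgt
  have hr_le : r ≤ 2 ^ (r - 1) := by
    have := Nat.lt_two_pow_self (n := r - 1)
    omega
  by_cases ha3 : 3 ≤ a
  · exfalso
    have h1 : 2 ^ n.totient ≤ (a - 1) ^ n.totient := Nat.pow_le_pow_left (by omega) _
    have h2 : 2 ^ (r - 1) ≤ 2 ^ n.totient := Nat.pow_le_pow_right (by norm_num) htot
    omega
  · have ha2 : a = 2 := by omega
    subst ha2
    refine ⟨rfl, ?_⟩
    obtain ⟨n', hn'⟩ := hrn
    rw [mul_comm] at hn'
    have hn'pos : 0 < n' := by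
      rcases Nat.eq_zero_or_pos n' with h0 | h0
      · subst h0; omega
      · exact h0
    have h2r : r + 1 < 2 ^ r := by
      have : 2 ^ r = 2 * 2 ^ (r - 1) := by
        rw [← pow_succ']; congr 1; omega
      omega
    by_cases hdiv : r ∣ n'
    · exfalso
      have h1 := Phi_expand_dvd n' r 2 hr hdiv
      rw [← hn', hΦ] at h1
      have hn'1 : 1 < n' := by
        have := Nat.le_of_dvd hn'pos hdiv
        omega
      have h2 := Phi_gt n' (2 ^ r) (by omega) hn'1
      rw [h1] at h2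
      have h3 : 2 ^ r - 1 ≤ (2 ^ r - 1) ^ n'.totient :=
        Nat.le_self_pow (Nat.totient_pos.mpr hn'pos).ne' _
      omega
    · have h1 := Phi_expand_not_dvd n' r 2 hr hdiv
      rw [← hn', hΦ] at h1
      by_cases hn'1 : n' = 1
      · exfalso
        subst hn'1
        rw [Phi_one _ (by omega), Phi_one _ (by omega)] at h1
        omega
      · have hn'2 : 1 < n' := by omega
        have h2 := Phi_gt n' (2 ^ r) (by omega) hn'2
        rw [h1] at h2
        have h3 := Phi_le n' 2 (by omega)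
        have hkpos : 0 < n'.totient := Nat.totient_pos.mpr hn'pos
        have h4 : (2 ^ r - 1) ^ n'.totient < r * 3 ^ n'.totient :=
          lt_of_lt_of_le h2 (Nat.mul_le_mul_left _ h3)
        by_cases hr5 : 5 ≤ r
        · exfalso
          have h5 := three_mul_lt r hr5
          have h6 : (3 * r) ^ n'.totient ≤ (2 ^ r - 1) ^ n'.totient :=
            Nat.pow_le_pow_left (by omega) _
          rw [mul_pow] at h6
          have h7 : r ≤ r ^ n'.totient := Nat.le_self_pow hkpos.ne' _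
          have h8 : 3 ^ n'.totient * r ≤ 3 ^ n'.totient * r ^ n'.totient :=
            Nat.mul_le_mul_left _ h7
          have : r * 3 ^ n'.totient = 3 ^ n'.totient * r := mul_comm _ _
          omega
        · have hr3' : r = 3 := by
            have : r ≠ 4 := by
              intro h4'; rw [h4'] at hr; norm_num at hr
            omega
          subst hr3'
          norm_num at h4
          by_cases hk2 : 2 ≤ n'.totient
          · exfalso
            have := seven_pow _ hk2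
            rw [pow_succ] at this
            omega
          · have hk1 : n'.totient = 1 := by omega
            rcases Nat.totient_eq_one_iff.mp hk1 with h | h
            · omega
            · omega


lemma Phi_two (a : ℕ) : Phi 2 a = a + 1 := by
  unfold Phi
  rw [cyclotomic_two, eval_add, eval_X, eval_one]
  omega

lemma uniq_aux (n a r r' : ℕ) (ha : 1 < a) (hn : 1 < n) (hr : r.Prime) (hr2 : r ≠ 2)
    (hr' : r'.Prime) (hr'2 : r' ≠ 2) (hrΦ : r ∣ Phi n a) (hr'Φ : r' ∣ Phi n a)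
    (hm : orderOf (a : ZMod r) ≠ n) (hm' : orderOf (a : ZMod r') ≠ n) (hlt : r < r') : False := by
  obtain ⟨-, -, hq, hmr, hmn⟩ := np_odd n a r ha hn hr hr2 hrΦ hm
  obtain ⟨hr'n, -, -, -, -⟩ := np_odd n a r' ha hn hr' hr'2 hr'Φ hm'
  rw [← Nat.mul_div_cancel' hmn] at hr'n
  rcases (Nat.Prime.dvd_mul hr').mp hr'n with h | h
  · have h1 := Nat.le_of_dvd (by have := hr.two_le; omega) (h.trans hmr)
    omega
  · have := hq r' hr' h
    omega

/-- Zsigmondy's Theorem: for natural numbers a > 1 and n > 1 there is a prime dividing aⁿ − 1 that divides aᵏ − 1 for no natural number 0 < k < n, unless a = 2 and n = 6, or n = 2 and a + 1 is a power of two. -/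
theorem result (a n : ℕ) (ha : 1 < a) (hn : 1 < n) (h6 : ¬ (a = 2 ∧ n = 6)) (h2 : ¬ (n = 2 ∧ ∃ m : ℕ, a + 1 = 2 ^ m)) : ∃ r : ℕ, r.Prime ∧ r ∣ a ^ n - 1 ∧ ∀ k : ℕ, 0 < k → k < n → ¬ r ∣ a ^ k - 1 := by
  by_contra hno
  push Not at hno
  have hΦ2 := Phi_two_le n a ha hn
  have hΦpos := Phi_pos n a ha
  have hNP : ∀ r : ℕ, r.Prime → r ∣ Phi n a → orderOf (a : ZMod r) ≠ n := by
    intro r hr hrΦ
    obtain ⟨k, hk0, hkn, hrk⟩ := hno r hr (hrΦ.trans (Phi_dvd n a ha hn))
    have h1 := (pow_eq_one_iff_dvd r a k ha).mpr hrk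
    have h2' := orderOf_dvd_of_pow_eq_one h1
    have := Nat.le_of_dvd hk0 h2'
    omega
  by_cases h2Φ : 2 ∣ Phi n a
  · have haodd := odd_of_two_dvd_Phi n a ha hn h2Φ
    obtain ⟨e, he⟩ := np_two n a ha hn h2Φ
    have hall : ∀ {d : ℕ}, d.Prime → d ∣ Phi n a → d = 2 := by
      intro d hd hdΦ
      by_contra hd2
      obtain ⟨hdn, -⟩ := np_odd n a d ha hn hd hd2 hdΦ (hNP d hd hdΦ)
      rw [he] at hdn
      exact hd2 ((Nat.prime_dvd_prime_iff_eq hd Nat.prime_two).mp (hd.dvd_of_dvd_pow hdn))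
    have hpow := Nat.eq_prime_pow_of_unique_prime_dvd hΦpos.ne' hall
    have he1 : 1 ≤ e := by
      rcases Nat.eq_zero_or_pos e with h0 | h0
      · subst h0; simp at he; omega
      · exact h0
    by_cases he2 : e = 1
    · subst he2
      rw [pow_one] at he
      subst he
      rw [Phi_two] at hpow
      exact h2 ⟨rfl, _, hpow⟩
    · have he2' : 2 ≤ e := by omega
      subst he
      have h4 := four_not_dvd e a ha he2' haodd
      have hgt := Phi_gt (2 ^ e) a ha hn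
      have ha3 : 3 ≤ a := by
        obtain ⟨c, hc⟩ := haodd
        omega
      have h1 : a - 1 ≤ (a - 1) ^ (2 ^ e).totient :=
        Nat.le_self_pow (Nat.totient_pos.mpr (by positivity)).ne' _
      set s := (Phi (2 ^ e) a).primeFactorsList.length with hs
      have hs1 : s ≤ 1 := by
        by_contra hcon
        apply h4
        rw [hpow]
        exact pow_dvd_pow 2 (by omega : 2 ≤ s)
      have : 2 ^ s ≤ 2 ^ 1 := Nat.pow_le_pow_right (by norm_num) hs1
      omega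
  · obtain ⟨r, hr, hrΦ⟩ := Nat.exists_prime_and_dvd (by omega : Phi n a ≠ 1)
    have hr2 : r ≠ 2 := by
      intro h; rw [h] at hrΦ; exact h2Φ hrΦ
    obtain ⟨hrn, hsq, -, -, -⟩ := np_odd n a r ha hn hr hr2 hrΦ (hNP r hr hrΦ)
    have hall : ∀ {d : ℕ}, d.Prime → d ∣ Phi n a → d = r := by
      intro d hd hdΦ
      have hd2 : d ≠ 2 := by
        intro h; rw [h] at hdΦ; exact h2Φ hdΦ
      rcases lt_trichotomy d r with h | h | h
      · exact (uniq_aux n a d r ha hn hd hd2 hr hr2 hdΦ hrΦ (hNP d hd hdΦ) (hNP r hr hrΦ) h).elim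
      · exact h
      · exact (uniq_aux n a r d ha hn hr hr2 hd hd2 hrΦ hdΦ (hNP r hr hrΦ) (hNP d hd hdΦ) h).elim
    have hpow := Nat.eq_prime_pow_of_unique_prime_dvd hΦpos.ne' hall
    set s := (Phi n a).primeFactorsList.length with hs
    have hs1 : s ≤ 1 := by
      by_contra hcon
      apply hsq
      rw [hpow]
      exact pow_dvd_pow r (by omega : 2 ≤ s)
    have hs0 : s ≠ 0 := by
      intro h0
      rw [h0, pow_zero] at hpow
      omega
    have hs_eq : s = 1 := by omega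
    rw [hs_eq, pow_one] at hpow
    exact h6 (final_B n a r ha hn hr hr2 hrn hpow)

end Cfsg.Agent.S2904
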