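import Cfsg.Statements.S0688
import Cfsg.Agent.S0684
import Cfsg.Agent.S0685
import Cfsg.Agent.S0687
import Cfsg.Agent.S3742
import Cfsg.Agent.Lib.Helper12.NearQ8

set_option autoImplicit false
open Cfsg

namespace Cfsg.Agent.S0688

theorem arith2 (p n k : ℕ) (hp : p.Prime) (hk : 1 ≤ k) (hkn : 2 * k ≤ n)
    (hdvd : p ^ n - 1 ∣ 24 * (p ^ k - 1)) (h8 : 8 ∣ p ^ n - 1) :
    p ^ n = 9 ∨ p ^ n = 25 ∨ p ^ n = 49 ∨ p ^ n = 121 ∨ p ^ n = 529 := by
  have hp2 : 2 ≤ p := hp.two_le
  have hq2 : 2 ≤ p ^ k := by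
    calc 2 ≤ p := hp2
      _ = p ^ 1 := (pow_one p).symm
      _ ≤ p ^ k := Nat.pow_le_pow_right hp.pos hk
  have hpq : p ≤ p ^ k := by
    calc p = p ^ 1 := (pow_one p).symm
      _ ≤ p ^ k := Nat.pow_le_pow_right hp.pos hk
  have hQq : p ^ k * p ^ k ≤ p ^ n := by
    rw [← pow_add, ← two_mul]
    exact Nat.pow_le_pow_right hp.pos hkn
  have hle : p ^ n - 1 ≤ 24 * (p ^ k - 1) := Nat.le_of_dvd (by omega) hdvd
  have hq23 : p ^ k ≤ 23 := by
    by_contra hcon
    have h24 : 24 ≤ p ^ k := by omega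
    have : p ^ k * 24 ≤ p ^ k * p ^ k := Nat.mul_le_mul_left _ h24
    omega
  have hQ : p ^ n ≤ 529 := by omega
  have hp23 : p ≤ 23 := le_trans hpq hq23
  have hn9 : n ≤ 9 := by
    by_contra hcon
    have h10 : 10 ≤ n := by omega
    have h1 : 2 ^ 10 ≤ 2 ^ n := Nat.pow_le_pow_right (by norm_num) h10
    have h2 : 2 ^ n ≤ p ^ n := Nat.pow_le_pow_left hp2 n
    omega
  have hk4 : k ≤ 4 := by omega
  interval_cases p <;> first | (exfalso; revert hp; decide) | skip
  all_goals (interval_cases n <;> interval_cases k <;> omega)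

/-- Degrees of the soluble exceptional sharply doubly transitive groups: if a solvable linear group over the prime field is regular on the non-zero vectors of `V` and has no irreducible cyclic normal subgroup, then `V` has 25, 49, 121 or 529 elements. -/
theorem result {p : ℕ} [Fact p.Prime] {V : Type*} [AddCommGroup V] [Module (ZMod p) V] [Finite V] (H : Subgroup (V ≃ₗ[ZMod p] V)) (hreg : ∀ v w : V, v ≠ 0 → w ≠ 0 → ∃! h : H, (h : V ≃ₗ[ZMod p] V) v = w) (hI : ∀ A : Subgroup H, A.Normal → IsCyclic A → ∃ W : Submodule (ZMod p) V, W ≠ ⊥ ∧ W ≠ ⊤ ∧ ∀ a ∈ A, ∀ v ∈ W, ((a : H) : V ≃ₗ[ZMod p] V) v ∈ W) (hsolv : Group.IsSolvable H) : Nat.card V = 25 ∨ Nat.card V = 49 ∨ Nat.card V = 121 ∨ Nat.card V = 529 := by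
  classical
  have hp : p.Prime := Fact.out
  have hfinGL : Finite (V ≃ₗ[ZMod p] V) :=
    Finite.of_injective (fun f => (f : V → V)) DFunLike.coe_injective
  -- `V` is non-trivial
  have hbotc : IsCyclic (⊥ : Subgroup H) := inferInstance
  obtain ⟨W0, hW00, hW01, _⟩ := hI ⊥ inferInstance hbotc
  obtain ⟨v₀, _, hv₀⟩ := Submodule.exists_mem_ne_zero_of_ne_bot hW00
  -- a maximal normal abelian subgroup
  have hbotcomm : IsMulCommutative (⊥ : Subgroup H) :=
    ⟨⟨fun a b => Subsingleton.elim _ _⟩⟩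
  obtain ⟨A, _, hAmax'⟩ := Finite.exists_le_maximal
    (p := fun B : Subgroup H => B.Normal ∧ IsMulCommutative B) (a := ⊥)
    ⟨inferInstance, hbotcomm⟩
  have hAn : A.Normal := hAmax'.prop.1
  have hAc : IsMulCommutative A := hAmax'.prop.2
  have hAmax : ∀ B : Subgroup H, B.Normal → IsMulCommutative B → A ≤ B → B = A :=
    fun B hBn hBc hAB => le_antisymm (hAmax'.le_of_ge ⟨hBn, hBc⟩ hAB) hAB
  obtain ⟨hlt, hCna⟩ := Cfsg.Agent.S0685.result H hreg hI A hAn hAc hAmax
  -- a minimal non-abelian normal subgroup centralising `A`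
  obtain ⟨N, hNC, hNmin'⟩ := Finite.exists_le_minimal
    (p := fun M : Subgroup H => M.Normal ∧ M ≤ Subgroup.centralizer (A : Set H) ∧
      ¬ IsMulCommutative M) (a := Subgroup.centralizer (A : Set H))
    ⟨Subgroup.normal_centralizer, le_rfl, hCna⟩
  have hNn : N.Normal := hNmin'.prop.1
  have hNle : N ≤ Subgroup.centralizer (A : Set H) := hNmin'.prop.2.1
  have hNna : ¬ IsMulCommutative N := hNmin'.prop.2.2
  have hNmin : ∀ M : Subgroup H, M.Normal → M ≤ N → ¬ IsMulCommutative M → M = N :=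
    fun M hMn hMN hMna => le_antisymm hMN (hNmin'.le_of_le ⟨hMn, hMN.trans hNle, hMna⟩ hMN)
  obtain ⟨hirr, hCN⟩ :=
    Cfsg.Agent.S0687.result H hreg hI A hAn hAc hAmax N hNn hNle hNna hNmin
  obtain ⟨e⟩ := Cfsg.Agent.Lib.Helper12.NearQ8.quat_of_solvable H hreg A hAn hAc hAmax N hNn hNle
    hNna hNmin
  -- counting
  have hcardN : Nat.card N = 8 := by
    rw [Nat.card_congr e.toEquiv, Nat.card_eq_fintype_card, QuaternionGroup.card]
  have hautN : Nat.card (MulAut N) = 24 := by
    obtain ⟨f⟩ := Cfsg.Agent.S3742.result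
    rw [Nat.card_congr (MulAut.congr e).toEquiv, Nat.card_congr f.toEquiv,
      Nat.card_eq_fintype_card, Fintype.card_perm, Fintype.card_fin]
    rfl
  have key := Subgroup.card_dvd_of_injective _
    (QuotientGroup.kerLift_injective N.normalizerMonoidHom)
  rw [Subgroup.normalizerMonoidHom_ker, ← Subgroup.index, ← Subgroup.relIndex,
    Subgroup.normalizer_eq_top, Subgroup.relIndex_top_right, hCN, hautN] at key
  obtain ⟨hcyc, W, hW0, hW1, hinv, hmin, hdvd⟩ :=
    Cfsg.Agent.S0684.result H hreg hI A hAn hAc hAmax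
  have hcardH := Cfsg.Agent.S0685.card_of_regular H hreg v₀ hv₀
  have h2k := Cfsg.Agent.S0685.two_mul_finrank_le H hreg A hAn W hW0 hW1 hinv hmin
  have hk1 : 1 ≤ Module.finrank (ZMod p) W := by
    rw [Nat.one_le_iff_ne_zero, Ne, Submodule.finrank_eq_zero]
    exact hW0
  have hmul := Subgroup.index_mul_card A
  have hHeq : Nat.card H = p ^ Module.finrank (ZMod p) V - 1 := by omega
  have hd1 : p ^ Module.finrank (ZMod p) V - 1 ∣ 24 * (p ^ Module.finrank (ZMod p) W - 1) := by
    rw [← hHeq, ← hmul]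
    exact Nat.mul_dvd_mul key hdvd
  have h8 : 8 ∣ p ^ Module.finrank (ZMod p) V - 1 := by
    rw [← hHeq, ← hcardN]
    exact Subgroup.card_subgroup_dvd_card N
  have hcardV : Nat.card V = p ^ Module.finrank (ZMod p) V := by
    rw [Module.natCard_eq_pow_finrank (K := ZMod p) (V := V), Nat.card_zmod]
  rw [hcardV]
  rcases arith2 p _ _ hp hk1 h2k hd1 h8 with h9 | h
  · exfalso
    -- `p = 3`, `n = 2`
    have hp3 : p = 3 := by
      have h1 : p ∣ 3 ^ 2 := by
        have : p ∣ p ^ Module.finrank (ZMod p) V := dvd_pow_self p (by omega)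
        rw [h9] at this
        exact this
      have h2 := hp.dvd_of_dvd_pow h1
      exact (Nat.prime_dvd_prime_iff_eq hp Nat.prime_three).mp h2
    have h9' : 3 ^ Module.finrank (ZMod p) V = 9 :=
      (congrArg (fun q => q ^ Module.finrank (ZMod p) V) hp3.symm).trans h9
    have hn2 : Module.finrank (ZMod p) V = 2 := by
      have h3 : (3 : ℕ) ^ Module.finrank (ZMod p) V = 3 ^ 2 := h9'.trans (by norm_num)
      exact Nat.pow_right_injective (show 2 ≤ 3 by norm_num) h3
    have hH8 : Nat.card H = 8 := by rw [hHeq, h9]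
    -- an element of order 4
    set x : H := ((e.symm (QuaternionGroup.a 1) : N) : H) with hx
    have hox : orderOf x = 4 := by
      rw [hx, Subgroup.orderOf_coe, MulEquiv.orderOf_eq, QuaternionGroup.orderOf_a_one]
    have hXcard : Nat.card (Subgroup.zpowers x) = 4 := by rw [Nat.card_zpowers, hox]
    have hXidx : (Subgroup.zpowers x).index = 2 := by
      have := Subgroup.index_mul_card (Subgroup.zpowers x)
      rw [hXcard, hH8] at this
      omega
    have hXn : (Subgroup.zpowers x).Normal := Subgroup.normal_of_index_eq_two hXidx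
    obtain ⟨W', hW'0, hW'1, hW'inv⟩ := hI (Subgroup.zpowers x) hXn inferInstance
    have hd := Cfsg.Agent.S0684.card_dvd hreg (Subgroup.zpowers x) W' hW'inv
    have hk1' : 1 ≤ Module.finrank (ZMod p) W' := by
      rw [Nat.one_le_iff_ne_zero, Ne, Submodule.finrank_eq_zero]
      exact hW'0
    have hk2' : Module.finrank (ZMod p) W' < Module.finrank (ZMod p) V :=
      Submodule.finrank_lt hW'1
    have hk' : Module.finrank (ZMod p) W' = 1 := by omega
    rw [hXcard, hk', hp3] at hd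
    norm_num at hd
  · exact h

end Cfsg.Agent.S0688
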