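import Cfsg.Statements.S0689
import Cfsg.Agent.Lib.Helper12.ZTop
import Cfsg.Agent.Lib.Helper12.ZInsol
import Cfsg.Agent.Lib.Helper12.NearQ8
import Cfsg.Agent.Lib.Helper12.RegLin
import Cfsg.Agent.S0684
import Cfsg.Agent.S0685

set_option autoImplicit false
open Cfsg
open Cfsg.Agent.Lib.Helper12

namespace Cfsg.Agent.S0689

theorem arith3 (p n k : ℕ) (hp : p.Prime) (hk : 1 ≤ k) (hkn : 2 * k ≤ n)
    (hdvd : p ^ n - 1 ∣ 120 * (p ^ k - 1)) (h120 : 120 ∣ p ^ n - 1) :
    p ^ n = 121 ∨ p ^ n = 361 ∨ p ^ n = 841 ∨ p ^ n = 3481 := by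
  have hp2 : 2 ≤ p := hp.two_le
  have hq2 : 2 ≤ p ^ k := by
    calc 2 ≤ p := hp2
      _ = p ^ 1 := (pow_one p).symm
      _ ≤ p ^ k := Nat.pow_le_pow_right hp.pos hk
  have hpq : p ≤ p ^ k := by
    calc p = p ^ 1 := (pow_one p).symm
      _ ≤ p ^ k := Nat.pow_le_pow_right hp.pos hk
  have hQq : p ^ k * p ^ k ≤ p ^ n := by
    rw [← pow_add, ← two_mul]
    exact Nat.pow_le_pow_right hp.pos hkn
  have hle : p ^ n - 1 ≤ 120 * (p ^ k - 1) := Nat.le_of_dvd (by omega) hdvd
  have hq119 : p ^ k ≤ 119 := by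
    by_contra hcon
    have h120' : 120 ≤ p ^ k := by omega
    have : p ^ k * 120 ≤ p ^ k * p ^ k := Nat.mul_le_mul_left _ h120'
    omega
  have hQ : p ^ n ≤ 14161 := by omega
  have hp119 : p ≤ 119 := le_trans hpq hq119
  have hn13 : n ≤ 13 := by
    by_contra hcon
    have h14 : 14 ≤ n := by omega
    have h1 : 2 ^ 14 ≤ 2 ^ n := Nat.pow_le_pow_right (by norm_num) h14
    have h2 : 2 ^ n ≤ p ^ n := Nat.pow_le_pow_left hp2 n
    omega
  have hk6 : k ≤ 6 := by omega
  interval_cases p <;> first | (exfalso; revert hp; decide) | skip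
  all_goals (interval_cases n <;> interval_cases k <;> omega)

/-- a non-solvable finite group has a non-solvable perfect normal subgroup -/
theorem perfect_core {H : Type*} [Group H] [Finite H] (hsolv : ¬ Group.IsSolvable H) :
    ∃ P : Subgroup H, P.Normal ∧ commutator P = ⊤ ∧ ¬ Group.IsSolvable P := by
  classical
  have htop : ¬ Group.IsSolvable (⊤ : Subgroup H) := by
    intro h
    apply hsolv
    exact Group.isSolvable_of_isSolvable_injective
      (f := (Subgroup.topEquiv (G := H)).symm.toMonoidHom) (Subgroup.topEquiv.symm.injective)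
  obtain ⟨P, _, hPmin⟩ := Finite.exists_le_minimal
    (p := fun M : Subgroup H => M.Normal ∧ ¬ Group.IsSolvable M) (a := ⊤)
    ⟨inferInstance, htop⟩
  have hPn : P.Normal := hPmin.prop.1
  have hPns := hPmin.prop.2
  refine ⟨P, hPn, ?_, hPns⟩
  have hN'n : (⁅P, P⁆ : Subgroup H).Normal := Subgroup.commutator_normal P P
  have hN'le : (⁅P, P⁆ : Subgroup H) ≤ P := Subgroup.commutator_le_right P P
  have hmap : (commutator P).map P.subtype = ⁅P, P⁆ := Subgroup.map_subtype_commutator P
  by_cases hs : Group.IsSolvable (⁅P, P⁆ : Subgroup H)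
  · exfalso
    apply hPns
    have h1 : Group.IsSolvable (commutator P) := by
      let f : commutator P →* (⁅P, P⁆ : Subgroup H) :=
        (P.subtype.comp (commutator P).subtype).codRestrict _
          (fun x => by rw [← hmap]; exact ⟨x.1, x.2, rfl⟩)
      have hf : Function.Injective f := by
        intro a b hab
        have h2 : ((f a : (⁅P, P⁆ : Subgroup H)) : H) = ((f b : (⁅P, P⁆ : Subgroup H)) : H) :=
          congrArg Subtype.val hab
        exact Subtype.ext (Subtype.ext h2)
      exact Group.isSolvable_of_isSolvable_injective hf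
    exact Group.isSolvable_of_ker_le_range (commutator P).subtype (Abelianization.of (G := P))
      (by rw [Abelianization.ker_of, Subgroup.range_subtype])
  · have heq : (⁅P, P⁆ : Subgroup H) = P :=
      le_antisymm hN'le (hPmin.le_of_le ⟨hN'n, hs⟩ hN'le)
    apply Subgroup.map_injective P.subtype_injective
    rw [hmap, ← MonoidHom.range_eq_map, Subgroup.range_subtype]
    exact heq

section
universe u
variable {p : ℕ} [Fact p.Prime] {V : Type u} [AddCommGroup V] [Module (ZMod p) V] [Finite V]

/-- a linear group regular on the non-zero vectors acts fixed point freely -/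
theorem fpf_top [Nontrivial V] (H : Subgroup (V ≃ₗ[ZMod p] V))
    (hreg : ∀ v w : V, v ≠ 0 → w ≠ 0 → ∃! h : H, (h : V ≃ₗ[ZMod p] V) v = w) :
    ZF.IsFpf.{u, u} H := by
  let toAut : (V ≃ₗ[ZMod p] V) →* MulAut (Multiplicative V) :=
    { toFun := fun f => AddEquiv.toMultiplicative f.toAddEquiv
      map_one' := by ext x; rfl
      map_mul' := fun f g => by ext x; rfl }
  let φ : H →* MulAut (Multiplicative V) := toAut.comp H.subtype
  have hφ : ∀ g : H, g ≠ 1 → ∀ n : Multiplicative V, φ g n = n → n = 1 := by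
    intro g hg n hn
    by_contra hn1
    have hv : Multiplicative.toAdd n ≠ 0 := fun e => hn1 (by
      rw [← ofAdd_toAdd n, e]; rfl)
    have hgv : (g : V ≃ₗ[ZMod p] V) (Multiplicative.toAdd n) = Multiplicative.toAdd n :=
      congrArg Multiplicative.toAdd hn
    obtain ⟨h₀, -, huniq⟩ := hreg _ _ hv hv
    have e1 := huniq g hgv
    have e2 := huniq 1 rfl
    apply hg
    rw [e1, ← e2]
  have hntV : Nontrivial (Multiplicative V) := inferInstanceAs (Nontrivial V)
  exact ⟨Multiplicative V, inferInstance, inferInstance, φ, hntV, hφ⟩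

/-- the centraliser of the perfect core cannot have order 6 -/
theorem no_six (H : Subgroup (V ≃ₗ[ZMod p] V)) (hFH : ZF.IsFpf.{u, u} H) (P C : Subgroup H)
    (hC : C = Subgroup.centralizer (P : Set H)) (hcardZ : Nat.card (Subgroup.center P) = 2)
    (hcardP : Nat.card P = 120) (hCcard : Nat.card C = 6) : False := by
  have hfinH : Finite H := hFH.finite
  have : Fact (Nat.Prime 3) := ⟨Nat.prime_three⟩
  obtain ⟨x, hx⟩ := exists_prime_orderOf_dvd_card' (G := C) 3 (by rw [hCcard]; norm_num)
  obtain ⟨y, hy⟩ := exists_prime_orderOf_dvd_card' (G := P) 3 (by rw [hcardP]; norm_num)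
  have hxH : orderOf ((x : C) : H) = 3 := by rw [Subgroup.orderOf_coe]; exact hx
  have hyH : orderOf ((y : P) : H) = 3 := by rw [Subgroup.orderOf_coe]; exact hy
  obtain ⟨X, hX⟩ : ∃ X : Subgroup H, X = Subgroup.zpowers ((x : C) : H) := ⟨_, rfl⟩
  obtain ⟨Y, hY⟩ : ∃ Y : Subgroup H, Y = Subgroup.zpowers ((y : P) : H) := ⟨_, rfl⟩
  have hXcard : Nat.card X = 3 := by rw [hX, Nat.card_zpowers, hxH]
  have hYcard : Nat.card Y = 3 := by rw [hY, Nat.card_zpowers, hyH]
  have hXC : X ≤ C := by rw [hX]; exact Subgroup.zpowers_le.mpr x.2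
  have hYP : Y ≤ P := by rw [hY]; exact Subgroup.zpowers_le.mpr y.2
  have hcomm : ∀ (a : X) (b : Y), Commute (X.subtype a) (Y.subtype b) := by
    intro a b
    have ha : (a : H) ∈ Subgroup.centralizer (P : Set H) := by rw [← hC]; exact hXC a.2
    exact (Subgroup.mem_centralizer_iff.mp ha b (hYP b.2)).symm
  -- `x` is not in `P`
  have hxP : ((x : C) : H) ∉ P := by
    intro hxP
    have hcen : (⟨(x : H), hxP⟩ : P) ∈ Subgroup.center P := by
      rw [Subgroup.mem_center_iff]
      intro g
      have hx' : ((x : C) : H) ∈ Subgroup.centralizer (P : Set H) := by rw [← hC]; exact x.2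
      exact Subtype.ext (Subgroup.mem_centralizer_iff.mp hx' g g.2)
    have h1 : orderOf (⟨⟨(x : H), hxP⟩, hcen⟩ : Subgroup.center P) ∣ 2 := by
      rw [← hcardZ]; exact orderOf_dvd_natCard _
    have h2 : orderOf (⟨⟨(x : H), hxP⟩, hcen⟩ : Subgroup.center P) = 3 := by
      rw [← Subgroup.orderOf_coe, ← Subgroup.orderOf_coe]
      exact hxH
    rw [h2] at h1
    norm_num at h1
  let f : X × Y →* H := MonoidHom.noncommCoprod X.subtype Y.subtype hcomm
  have hfinj : Function.Injective f := by
    rw [MonoidHom.noncommCoprod_injective]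
    refine ⟨X.subtype_injective, Y.subtype_injective, ?_⟩
    rw [Subgroup.range_subtype, Subgroup.range_subtype, disjoint_iff]
    by_contra hne
    -- `X ⊓ Y` is a non-trivial subgroup of `X`, of order 3
    have h1 : Nat.card (X ⊓ Y : Subgroup H) ∣ 3 := by
      rw [← hXcard]; exact Subgroup.card_dvd_of_le inf_le_left
    have h2 : Nat.card (X ⊓ Y : Subgroup H) ≠ 1 := by
      intro h; exact hne (Subgroup.card_eq_one.mp h)
    have h3 : Nat.card (X ⊓ Y : Subgroup H) = 3 := by
      rcases (Nat.dvd_prime Nat.prime_three).mp h1 with h | h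
      · exact absurd h h2
      · exact h
    have h4 : (X ⊓ Y : Subgroup H) = X :=
      Subgroup.eq_of_le_of_card_ge inf_le_left (by rw [h3, hXcard])
    have h5 : X ≤ Y := by rw [← h4]; exact inf_le_right
    apply hxP
    apply hYP
    apply h5
    rw [hX]
    exact Subgroup.mem_zpowers _
  have hA : Nat.card f.range = 3 * 3 := by
    rw [← Nat.card_congr (MonoidHom.ofInjective hfinj).toEquiv, Nat.card_prod, hXcard, hYcard]
  have hcyc : IsCyclic f.range := hFH.cyclic_of_card f.range Nat.prime_three Nat.prime_three hA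
  have hcyc2 : IsCyclic (X × Y) := (MonoidHom.ofInjective hfinj).isCyclic.mpr hcyc
  rw [Group.isCyclic_prod_iff, hXcard, hYcard] at hcyc2
  have := hcyc2.2.2
  norm_num at this

end

/-- The insoluble sharply doubly transitive groups: a non-solvable linear group over the prime field that is regular on the non-zero vectors of `V` occurs only for `|V| = 11², 29², 59²`, and is `SL(2,5) × C_m` with `m = 1, 7, 29` respectively. -/
theorem result {p : ℕ} [Fact p.Prime] {V : Type*} [AddCommGroup V] [Module (ZMod p) V] [Finite V] (H : Subgroup (V ≃ₗ[ZMod p] V)) (hreg : ∀ v w : V, v ≠ 0 → w ≠ 0 → ∃! h : H, (h : V ≃ₗ[ZMod p] V) v = w) (hsolv : ¬ Group.IsSolvable H) : (Nat.card V = 121 ∧ Nonempty (H ≃* Matrix.SpecialLinearGroup (Fin 2) (ZMod 5))) ∨ (Nat.card V = 841 ∧ Nonempty (H ≃* Matrix.SpecialLinearGroup (Fin 2) (ZMod 5) × Multiplicative (ZMod 7))) ∨ (Nat.card V = 3481 ∧ Nonempty (H ≃* Matrix.SpecialLinearGroup (Fin 2) (ZMod 5) × Multiplicative (ZMod 29))) := by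
  classical
  have hp : p.Prime := Fact.out
  have hfinGL : Finite (V ≃ₗ[ZMod p] V) :=
    Finite.of_injective (fun f => (f : V → V)) DFunLike.coe_injective
  -- `V` is non-trivial
  have hntV : Nontrivial V := by
    by_contra hK
    rw [not_nontrivial_iff_subsingleton] at hK
    apply hsolv
    have hsub : Subsingleton H := by
      constructor
      intro a b
      apply Subtype.ext
      ext v
      exact Subsingleton.elim _ _
    exact Group.isSolvable_of_comm (fun a b => Subsingleton.elim _ _)
  obtain ⟨v₀, hv₀⟩ := exists_ne (0 : V)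
  have hFH : ZF.IsFpf H := fpf_top H hreg
  -- the perfect core
  obtain ⟨P, hPn, hperf, hPns⟩ := perfect_core hsolv
  have hntP : Nontrivial P := by
    by_contra hK
    rw [not_nontrivial_iff_subsingleton] at hK
    exact hPns (Group.isSolvable_of_comm (fun a b => Subsingleton.elim _ _))
  obtain ⟨e⟩ := ZT.zassenhaus (hFH.subgroup P) hperf
  obtain ⟨hcardP, hcardZ, hautP⟩ := ZI.facts e hperf
  have hPna : ¬ IsMulCommutative P := by
    intro hc
    exact hPns (Group.isSolvable_of_comm (fun a b => hc.is_comm.comm a b))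
  have htrans : ∀ v w : V, v ≠ 0 → w ≠ 0 → ∃ h : H, (h : V ≃ₗ[ZMod p] V) v = w :=
    fun v w hv hw => (hreg v w hv hw).exists
  have hirr := RegLin.normal_irreducible H htrans P hPna
  -- the centraliser of `P`
  obtain ⟨C, hC⟩ : ∃ C : Subgroup H, C = Subgroup.centralizer (P : Set H) := ⟨_, rfl⟩
  have hCn : C.Normal := by rw [hC]; exact Subgroup.normal_centralizer
  have hCc : IsMulCommutative C :=
    ⟨⟨fun a b => Subtype.ext (RegLin.centralizer_comm H P hirr a b (hC ▸ a.2) (hC ▸ b.2))⟩⟩
  have hfinAut : Finite (MulAut P) :=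
    Finite.of_injective (fun f => (f : P → P)) DFunLike.coe_injective
  have key := Subgroup.card_dvd_of_injective _
    (QuotientGroup.kerLift_injective P.normalizerMonoidHom)
  rw [Subgroup.normalizerMonoidHom_ker, ← Subgroup.index, ← Subgroup.relIndex,
    Subgroup.normalizer_eq_top, Subgroup.relIndex_top_right, ← hC] at key
  have h60 : 60 ∣ C.index := by
    have h1 : C.relIndex P ∣ C.index := Subgroup.relIndex_dvd_index_of_normal C P
    have h2 : C.subgroupOf P = Subgroup.center P := by
      ext x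
      rw [Subgroup.mem_subgroupOf, hC, Subgroup.mem_centralizer_iff, Subgroup.mem_center_iff]
      constructor
      · intro h g
        exact Subtype.ext (h g g.2)
      · intro h g hg
        exact congrArg Subtype.val (h ⟨g, hg⟩)
    have h3 := Subgroup.card_mul_index (Subgroup.center P)
    rw [hcardZ, hcardP] at h3
    have h4 : (Subgroup.center P).index = 60 := by omega
    rw [Subgroup.relIndex, h2, h4] at h1
    exact h1
  have h2C : 2 ∣ Nat.card C := by
    let f : Subgroup.center P →* C :=
      (P.subtype.comp (Subgroup.center P).subtype).codRestrict C (fun z => by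
        rw [hC, Subgroup.mem_centralizer_iff]
        intro g hg
        exact congrArg Subtype.val (Subgroup.mem_center_iff.mp z.2 ⟨g, hg⟩))
    have hf : Function.Injective f := by
      intro a b hab
      have h1 : ((f a : C) : H) = ((f b : C) : H) := congrArg Subtype.val hab
      exact Subtype.ext (Subtype.ext h1)
    have h1 := Subgroup.card_dvd_of_injective f hf
    rwa [hcardZ] at h1
  -- a minimal invariant subspace of `C`
  have hVtop : (⊤ : Submodule (ZMod p) V) ≠ ⊥ := by
    intro h
    have h1 : v₀ ∈ (⊤ : Submodule (ZMod p) V) := trivial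
    rw [h, Submodule.mem_bot] at h1
    exact hv₀ h1
  obtain ⟨W, _, hW0, hWinv, hWmin⟩ :=
    Cfsg.Agent.S0684.exists_minimal (H := H) C _ ⊤ rfl (fun _ _ _ _ => trivial) hVtop
  have hdvdC := Cfsg.Agent.S0684.card_dvd hreg C W hWinv
  have hW1 : W ≠ ⊤ := by
    intro hWtop
    have hirrC : ∀ W' : Submodule (ZMod p) V,
        (∀ n ∈ C, ∀ v ∈ W', ((n : H) : V ≃ₗ[ZMod p] V) v ∈ W') → W' = ⊥ ∨ W' = ⊤ := by
      intro W' hW'
      have h1 := hWmin W' (by rw [hWtop]; exact le_top) hW'
      rwa [hWtop] at h1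
    apply hPna
    refine ⟨⟨fun a b => ?_⟩⟩
    have hmem : ∀ a : P, (a : H) ∈ Subgroup.centralizer (C : Set H) := by
      intro a
      rw [Subgroup.mem_centralizer_iff]
      intro c hc
      have hc' : c ∈ Subgroup.centralizer (P : Set H) := by rw [← hC]; exact hc
      exact (Subgroup.mem_centralizer_iff.mp hc' a a.2).symm
    exact Subtype.ext (RegLin.centralizer_comm H C hirrC a b (hmem a) (hmem b))
  have h2k := Cfsg.Agent.S0685.two_mul_finrank_le H hreg C hCn W hW0 hW1 hWinv hWmin
  have hk1 : 1 ≤ Module.finrank (ZMod p) W := by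
    rw [Nat.one_le_iff_ne_zero, Ne, Submodule.finrank_eq_zero]
    exact hW0
  have hcardH := Cfsg.Agent.S0685.card_of_regular H hreg v₀ hv₀
  have hmul := Subgroup.index_mul_card C
  have hidx : C.index = 60 ∨ C.index = 120 := by
    have hpos : 0 < Nat.card (MulAut P) := Nat.card_pos
    have hle : C.index ≤ 120 := (Nat.le_of_dvd hpos key).trans hautP
    obtain ⟨t, ht⟩ := h60
    have hne : C.index ≠ 0 := Subgroup.index_ne_zero_of_finite
    omega
  have hHeq : Nat.card H = p ^ Module.finrank (ZMod p) V - 1 := by omega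
  have hd1 : p ^ Module.finrank (ZMod p) V - 1 ∣ 120 * (p ^ Module.finrank (ZMod p) W - 1) := by
    rw [← hHeq, ← hmul]
    apply Nat.mul_dvd_mul _ hdvdC
    rcases hidx with h | h <;> rw [h] <;> norm_num
  have h120 : 120 ∣ p ^ Module.finrank (ZMod p) V - 1 := by
    rw [← hHeq, ← hcardP]
    exact Subgroup.card_subgroup_dvd_card P
  have hcardV : Nat.card V = p ^ Module.finrank (ZMod p) V := by
    rw [Module.natCard_eq_pow_finrank (K := ZMod p) (V := V), Nat.card_zmod]
  -- the splitting
  have split : ∀ m : ℕ, m.Prime → Nat.Coprime 120 m → Nat.card C = 2 * m →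
      Nat.card H = 120 * m →
      Nonempty (H ≃* Matrix.SpecialLinearGroup (Fin 2) (ZMod 5) × Multiplicative (ZMod m)) := by
    intro m hm hcop hCm hHm
    have : Fact m.Prime := ⟨hm⟩
    obtain ⟨z, hz⟩ := exists_prime_orderOf_dvd_card' (G := C) m (by rw [hCm]; exact dvd_mul_left _ _)
    have hzH : orderOf ((z : C) : H) = m := by rw [Subgroup.orderOf_coe]; exact hz
    obtain ⟨Z, hZ⟩ : ∃ Z : Subgroup H, Z = Subgroup.zpowers ((z : C) : H) := ⟨_, rfl⟩
    have hZcard : Nat.card Z = m := by rw [hZ, Nat.card_zpowers, hzH]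
    have hZC : Z ≤ C := by rw [hZ]; exact Subgroup.zpowers_le.mpr z.2
    have hcomm : ∀ (a : P) (b : Z), Commute (P.subtype a) (Z.subtype b) := by
      intro a b
      have hb : (b : H) ∈ Subgroup.centralizer (P : Set H) := by rw [← hC]; exact hZC b.2
      exact Subgroup.mem_centralizer_iff.mp hb a a.2
    let f : P × Z →* H := MonoidHom.noncommCoprod P.subtype Z.subtype hcomm
    have hfinj : Function.Injective f := by
      rw [MonoidHom.noncommCoprod_injective]
      refine ⟨P.subtype_injective, Z.subtype_injective, ?_⟩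
      rw [Subgroup.range_subtype, Subgroup.range_subtype, disjoint_iff]
      apply Subgroup.inf_eq_bot_of_coprime
      rw [hcardP, hZcard]
      exact hcop
    have hfbij : Function.Bijective f := by
      rw [Nat.bijective_iff_injective_and_card]
      refine ⟨hfinj, ?_⟩
      rw [Nat.card_prod, hcardP, hZcard, hHm]
    have e1 : P × Z ≃* H := MulEquiv.ofBijective f hfbij
    have hcardM : Nat.card (Multiplicative (ZMod m)) = m := by
      rw [Nat.card_congr Multiplicative.toAdd, Nat.card_zmod]
    have e2 : Z ≃* Multiplicative (ZMod m) := mulEquivOfPrimeCardEq hZcard hcardM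
    exact ⟨e1.symm.trans (MulEquiv.prodCongr e e2)⟩
  rw [hcardV]
  rcases arith3 p _ _ hp hk1 h2k hd1 h120 with h | h | h | h
  · left
    refine ⟨h, ?_⟩
    have hH : Nat.card H = 120 := by rw [hHeq, h]
    have hPtop : P = ⊤ := Subgroup.eq_top_of_card_eq P (by rw [hcardP, hH])
    exact ⟨(Subgroup.topEquiv.symm.trans (MulEquiv.subgroupCongr hPtop.symm)).trans e⟩
  · exfalso
    have hH : Nat.card H = 360 := by rw [hHeq, h]
    have hCcard : Nat.card C = 6 := by
      rw [hH] at hmul
      obtain ⟨t, ht⟩ := h2C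
      rcases hidx with h' | h' <;> rw [h'] at hmul <;> omega
    exact no_six H hFH P C hC hcardZ hcardP hCcard
  · right; left
    refine ⟨h, ?_⟩
    have hH : Nat.card H = 840 := by rw [hHeq, h]
    have hCcard : Nat.card C = 14 := by
      rw [hH] at hmul
      obtain ⟨t, ht⟩ := h2C
      rcases hidx with h' | h' <;> rw [h'] at hmul <;> omega
    exact split 7 (by norm_num) (by norm_num) (by rw [hCcard]) (by rw [hH])
  · right; right
    refine ⟨h, ?_⟩
    have hH : Nat.card H = 3480 := by rw [hHeq, h]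
    have hCcard : Nat.card C = 58 := by
      rw [hH] at hmul
      obtain ⟨t, ht⟩ := h2C
      rcases hidx with h' | h' <;> rw [h'] at hmul <;> omega
    exact split 29 (by norm_num) (by norm_num) (by rw [hCcard]) (by rw [hH])

end Cfsg.Agent.S0689
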