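import Cfsg.Statements.S0261
import Cfsg.Agent.Lib.Helper41.SL2Eigen
import Cfsg.Agent.Lib.Helper41.SL2Conj
import Cfsg.Agent.Lib.Helper38.SLCard
import Cfsg.Agent.Lib.Helper20.QuatLift

set_option autoImplicit false
open Cfsg

namespace Cfsg.Agent.S0261

open Cfsg.Agent.Lib.Helper41

local notation "SL₂(" F ")" => Matrix.SpecialLinearGroup (Fin 2) F
local notation "PSL₂(" F ")" => Matrix.ProjectiveSpecialLinearGroup (Fin 2) F

section General

variable {F : Type*} [Field F]

/-- If `l ^ m = f ε` with `ε ^ 2 = 1` for an eigenvalue `l` with `l ^ 2 ≠ 1`, then `A ^ m` is the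
scalar matrix `ε`. -/
theorem sl2_pow_eq_scalar_of_eigen {K : Type*} [Field K] (f : F →+* K) {A : SL₂(F)} {l : K}
    (hl0 : l ≠ 0) (hl : l + l⁻¹ = f (tr2 A)) (hl2 : l ^ 2 ≠ 1) (m : ℕ) (ε : F)
    (hε : ε ^ 2 = 1) (h : l ^ m = f ε) :
    ((A ^ m : SL₂(F)) : Matrix (Fin 2) (Fin 2) F) = ε • 1 := by
  have hne : l - l⁻¹ ≠ 0 := by
    intro h
    apply hl2
    field_simp at h
    linear_combination h
  have hll : l * l⁻¹ = 1 := mul_inv_cancel₀ hl0
  cases m with
  | zero =>
    have : f ε = f 1 := by rw [← h]; simp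
    have := f.injective this
    rw [this]; simp
  | succ k =>
    rw [sl2_pow_succ]
    have key1 := lucasU_mul_sub l l⁻¹ hll (k + 1)
    have key0 := lucasU_mul_sub l l⁻¹ hll k
    rw [hl] at key1 key0
    have hfε : f ε ^ 2 = 1 := by rw [← map_pow, hε, map_one]
    have hinv : l⁻¹ ^ (k + 1) = f ε := by
      rw [inv_pow, h]
      apply inv_eq_of_mul_eq_one_left
      rw [← pow_two]; exact hfε
    have hU1 : lucasU (f (tr2 A)) (k + 1) = 0 := by
      rw [h, hinv, sub_self] at key1
      exact (mul_eq_zero.mp key1).resolve_right hne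
    have hlk : l ^ k = f ε * l⁻¹ := by
      rw [← h, pow_succ, mul_assoc, hll, mul_one]
    have hlk' : l⁻¹ ^ k = f ε * l := by
      rw [← hinv, pow_succ, mul_assoc, inv_mul_cancel₀ hl0, mul_one]
    have hU0 : lucasU (f (tr2 A)) k = - f ε := by
      rw [hlk, hlk'] at key0
      have : (l - l⁻¹) * (lucasU (f (tr2 A)) k + f ε) = 0 := by linear_combination key0
      have := (mul_eq_zero.mp this).resolve_left hne
      linear_combination this
    rw [lucasU_map] at hU1 hU0
    have hU1' : lucasU (tr2 A) (k + 1) = 0 := by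
      apply f.injective; rw [hU1, map_zero]
    have hU0' : lucasU (tr2 A) k = - ε := by
      apply f.injective; rw [hU0, map_neg]
    rw [hU1', hU0']
    simp

/-- `A ^ m = 1` iff `l ^ m = 1` for an eigenvalue `l` with `l ^ 2 ≠ 1`. -/
theorem sl2_pow_eq_one_iff_eigen {K : Type*} [Field K] (f : F →+* K) {A : SL₂(F)} {l : K}
    (hl0 : l ≠ 0) (hl : l + l⁻¹ = f (tr2 A)) (hl2 : l ^ 2 ≠ 1) (m : ℕ) :
    A ^ m = 1 ↔ l ^ m = 1 := by
  have hne : l - l⁻¹ ≠ 0 := by
    intro h
    apply hl2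
    field_simp at h
    linear_combination h
  have hll : l * l⁻¹ = 1 := mul_inv_cancel₀ hl0
  constructor
  · intro hA
    cases m with
    | zero => simp
    | succ k =>
      have hAc := not_mem_center_of_eigen f hl0 hl hl2
      have hmat : ((A ^ (k + 1) : SL₂(F)) : Matrix (Fin 2) (Fin 2) F) = 1 := by rw [hA]; rfl
      rw [sl2_pow_succ] at hmat
      have e01 := congrFun (congrFun hmat 0) 1
      have e10 := congrFun (congrFun hmat 1) 0
      have e00 := congrFun (congrFun hmat 0) 0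
      have e11 := congrFun (congrFun hmat 1) 1
      simp only [Matrix.sub_apply, Matrix.smul_apply, Matrix.one_apply, smul_eq_mul, Fin.isValue,
        zero_ne_one, one_ne_zero, if_false, if_true, mul_zero, sub_zero, mul_one]
        at e01 e10 e00 e11
      have hU1 : lucasU (tr2 A) (k + 1) = 0 := by
        by_contra hL
        apply hAc
        rw [sl2_mem_center_iff]
        refine ⟨(mul_eq_zero.mp e01).resolve_left hL, (mul_eq_zero.mp e10).resolve_left hL, ?_⟩
        have : lucasU (tr2 A) (k + 1) * (A 0 0 - A 1 1) = 0 := by linear_combination e00 - e11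
        have := (mul_eq_zero.mp this).resolve_left hL
        linear_combination this
      have hU0 : lucasU (tr2 A) k = -1 := by
        rw [hU1] at e00
        linear_combination -e00
      have key1 := lucasU_mul_sub l l⁻¹ hll (k + 1)
      have key0 := lucasU_mul_sub l l⁻¹ hll k
      rw [hl, lucasU_map, hU1, map_zero, zero_mul] at key1
      rw [hl, lucasU_map, hU0, map_neg, map_one] at key0
      -- key1 : 0 = l^(k+1) - l⁻¹^(k+1);  key0 : (l - l⁻¹) * -1 = l^k - l⁻¹^k
      obtain ⟨L, hL⟩ : ∃ L, L = l ^ (k + 1) := ⟨_, rfl⟩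
      rw [← hL] at key1
      have hLinv : l⁻¹ ^ (k + 1) = L := by linear_combination key1
      have hlk : l ^ k = L * l⁻¹ := by
        rw [hL, pow_succ, mul_assoc, hll, mul_one]
      have hlk' : l⁻¹ ^ k = L * l := by
        rw [← hLinv, pow_succ, mul_assoc, inv_mul_cancel₀ hl0, mul_one]
      rw [hlk, hlk'] at key0
      have : (l - l⁻¹) * (L - 1) = 0 := by linear_combination key0
      have := (mul_eq_zero.mp this).resolve_left hne
      rw [← hL]
      linear_combination this
  · intro h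
    have := sl2_pow_eq_scalar_of_eigen f hl0 hl hl2 m 1 (by ring) (by rw [h, map_one])
    apply Subtype.ext
    rw [this]; simp

theorem orderOf_eq_of_eigen {K : Type*} [Field K] (f : F →+* K) {A : SL₂(F)} {l : K}
    (hl0 : l ≠ 0) (hl : l + l⁻¹ = f (tr2 A)) (hl2 : l ^ 2 ≠ 1) : orderOf A = orderOf l := by
  rw [orderOf_eq_orderOf_iff]
  intro m
  exact sl2_pow_eq_one_iff_eigen f hl0 hl hl2 m

end General

/-- For a non-central trace and `q` odd, there is a trace-zero `β ∈ SL₂(F)` inverting `compSL2 t`,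
with `β² = -1`. -/
theorem exists_inverter {F : Type*} [Field F] [Fintype F] (hodd : Fintype.card F % 2 = 1) (t : F)
    (ht : t ^ 2 ≠ 4) :
    ∃ β : SL₂(F), β * compSL2 t * β⁻¹ = (compSL2 t)⁻¹ ∧
      ((β * β : SL₂(F)) : Matrix (Fin 2) (Fin 2) F) = (-1 : F) • 1 := by
  have h1 : (-1 : F) ≠ 0 := by simp
  obtain ⟨a, c, hac⟩ := normUniversal_of_odd hodd t ht (-1) h1
  refine ⟨mkSL2 a (c + t * a) c (-a) (by linear_combination -hac), ?_, ?_⟩
  · apply conj_eq_of_mul_eq
    apply sl2_ext <;>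
    simp only [sl2_mul_00, sl2_mul_01, sl2_mul_10, sl2_mul_11, sl2_inv_00, sl2_inv_01, sl2_inv_10,
      sl2_inv_11, mkSL2_00, mkSL2_01, mkSL2_10, mkSL2_11, compSL2] <;> ring
  · ext i j
    fin_cases i <;> fin_cases j <;>
    simp only [Fin.zero_eta, Fin.mk_one, Fin.isValue, sl2_mul_00, sl2_mul_01, sl2_mul_10, sl2_mul_11,
      mkSL2_00, mkSL2_01, mkSL2_10, mkSL2_11, Matrix.smul_apply, Matrix.one_apply, smul_eq_mul,
      zero_ne_one, one_ne_zero, if_false, if_true, mul_zero, mul_one] <;>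
    first | linear_combination hac | ring

theorem exists_orderOf_eq_of_dvd {G : Type*} [Group G] [Finite G] (A : G) (d : ℕ)
    (hd : d ∣ orderOf A) : ∃ x ∈ Subgroup.zpowers A, orderOf x = d := by
  have hpos : 0 < orderOf A := orderOf_pos A
  obtain ⟨e, he⟩ := hd
  have he0 : e ≠ 0 := by
    rintro rfl
    rw [mul_zero] at he; omega
  refine ⟨A ^ e, Subgroup.pow_mem _ (Subgroup.mem_zpowers A) _, ?_⟩
  rw [orderOf_pow_of_dvd he0 ⟨d, by rw [he]; ring⟩, he]
  exact Nat.mul_div_cancel _ (Nat.pos_of_ne_zero he0)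

section Torus

variable {F : Type*} [Field F] [Fintype F]

/-- A `(q+1)`-th root of unity in the algebraic closure has its trace `l + l⁻¹` in `F`. -/
theorem exists_trace_of_pow_card_add_one (l : AlgebraicClosure F)
    (hl : l ^ (Fintype.card F + 1) = 1) :
    ∃ t : F, l + l⁻¹ = algebraMap F (AlgebraicClosure F) t := by
  set q := Fintype.card F with hq
  have hlq : l ^ q = l⁻¹ := by
    rw [pow_succ] at hl
    exact eq_inv_of_mul_eq_one_left hl
  obtain ⟨p, hp⟩ := CharP.exists F
  have := hp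
  have : Fact p.Prime := ⟨CharP.char_is_prime F p⟩
  obtain ⟨k, -, hk⟩ := FiniteField.card F p
  have : CharP (AlgebraicClosure F) p :=
    charP_of_injective_algebraMap (algebraMap F (AlgebraicClosure F)).injective p
  have hfix : (l + l⁻¹) ^ q = l + l⁻¹ := by
    rw [hq, hk, add_pow_char_pow, ← hk, ← hq, inv_pow, hlq, inv_inv, add_comm]
  obtain ⟨t, ht⟩ := mem_range_of_pow_card_eq (F := F) (l + l⁻¹) hfix
  exact ⟨t, ht.symm⟩

/-- For every `d` dividing `q - 1` or `q + 1` there is a trace in `F` with an eigenvalue of order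
exactly `d`. -/
theorem exists_eigen_orderOf (d : ℕ)
    (hd : d ∣ Fintype.card F - 1 ∨ d ∣ Fintype.card F + 1) :
    ∃ (t : F) (l : AlgebraicClosure F), l ≠ 0 ∧ orderOf l = d ∧
      l + l⁻¹ = algebraMap F (AlgebraicClosure F) t := by
  classical
  set K := AlgebraicClosure F
  set q := Fintype.card F with hq
  rcases hd with hd | hd
  · obtain ⟨g, hg⟩ := IsCyclic.exists_generator (α := Fˣ)
    have hog : orderOf g = q - 1 := by
      rw [orderOf_eq_card_of_forall_mem_zpowers hg, Nat.card_eq_fintype_card, Fintype.card_units]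
    obtain ⟨x, -, hx⟩ := exists_orderOf_eq_of_dvd g d (by rw [hog]; exact hd)
    refine ⟨(x : F) + (x : F)⁻¹, algebraMap F K (x : F), ?_, ?_, ?_⟩
    · rw [Ne, map_eq_zero]; exact x.ne_zero
    · have h1 := orderOf_injective (algebraMap F K).toMonoidHom (algebraMap F K).injective (x : F)
      rw [← hx, ← orderOf_units, ← h1]
      rfl
    · rw [map_add, map_inv₀]
  · obtain ⟨t₀, l₀, hl₀, hord, -⟩ := exists_trace_orderOf_card_add_one (F := F)
    obtain ⟨e, he⟩ := hd
    have he0 : e ≠ 0 := by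
      rintro rfl
      rw [mul_zero] at he; omega
    have hordl : orderOf (l₀ ^ e) = d := by
      rw [orderOf_pow_of_dvd he0 ⟨d, by rw [hord, he]; ring⟩, hord, he]
      exact Nat.mul_div_cancel _ (Nat.pos_of_ne_zero he0)
    have hpow : (l₀ ^ e) ^ (q + 1) = 1 := by
      rw [← pow_mul, mul_comm, pow_mul, ← hord, pow_orderOf_eq_one, one_pow]
    obtain ⟨t, ht⟩ := exists_trace_of_pow_card_add_one (l₀ ^ e) hpow
    exact ⟨t, l₀ ^ e, pow_ne_zero _ hl₀, hordl, ht⟩

end Torus

/-- Arithmetic of the 2-part of `q (q² - 1)` for odd `q`. -/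
theorem two_part (q : ℕ) (hq : q % 2 = 1) (hq3 : 3 ≤ q) :
    ∃ k : ℕ, 1 ≤ k ∧ (2 ^ (k + 1) ∣ q - 1 ∨ 2 ^ (k + 1) ∣ q + 1) ∧
      (q * (q ^ 2 - 1)).factorization 2 = k + 2 := by
  obtain ⟨s, rfl⟩ : ∃ s, q = 2 * s + 1 := ⟨q / 2, by omega⟩
  have hs : 1 ≤ s := by omega
  have e1 : (2 * s + 1) ^ 2 - 1 = 2 ^ 2 * (s * (s + 1)) := by
    have : (2 * s + 1) ^ 2 = 2 ^ 2 * (s * (s + 1)) + 1 := by ring
    rw [this]; simp
  have hs0 : s ≠ 0 := by omega
  have hfac : ((2 * s + 1) * ((2 * s + 1) ^ 2 - 1)).factorization 2 =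
      s.factorization 2 + (s + 1).factorization 2 + 2 := by
    rw [e1, Nat.factorization_mul (by omega) (by positivity),
      Nat.factorization_mul (by positivity) (by positivity),
      Nat.factorization_mul hs0 (by omega), Nat.Prime.factorization_pow Nat.prime_two]
    have : (2 * s + 1).factorization 2 = 0 :=
      Nat.factorization_eq_zero_of_not_dvd (by omega)
    simp only [Finsupp.coe_add, Pi.add_apply, this, Finsupp.single_eq_same]
    ring
  rcases Nat.even_or_odd s with hev | hod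
  · have h0 : (s + 1).factorization 2 = 0 :=
      Nat.factorization_eq_zero_of_not_dvd (by obtain ⟨r, hr⟩ := hev; omega)
    refine ⟨s.factorization 2, ?_, Or.inl ?_, ?_⟩
    · have : 2 ∣ s := by obtain ⟨r, hr⟩ := hev; omega
      exact (Nat.Prime.dvd_iff_one_le_factorization Nat.prime_two hs0).mp this
    · have : 2 ^ s.factorization 2 ∣ s := Nat.ordProj_dvd s 2
      have e : 2 * s + 1 - 1 = 2 * s := by omega
      rw [e, pow_succ, mul_comm]
      exact Nat.mul_dvd_mul_left 2 this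
    · rw [hfac, h0]
  · have h0 : s.factorization 2 = 0 :=
      Nat.factorization_eq_zero_of_not_dvd (by obtain ⟨r, hr⟩ := hod; omega)
    refine ⟨(s + 1).factorization 2, ?_, Or.inr ?_, ?_⟩
    · have : 2 ∣ s + 1 := by obtain ⟨r, hr⟩ := hod; omega
      exact (Nat.Prime.dvd_iff_one_le_factorization Nat.prime_two (by omega)).mp this
    · have : 2 ^ (s + 1).factorization 2 ∣ s + 1 := Nat.ordProj_dvd (s + 1) 2
      have e : 2 * s + 1 + 1 = 2 * (s + 1) := by ring
      rw [e, pow_succ, mul_comm]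
      exact Nat.mul_dvd_mul_left 2 this
    · rw [hfac, h0]; ring

/-- For q odd, the Sylow 2-subgroups of SL_2(q) are generalised quaternion. -/
theorem result {F : Type*} [Field F] [Fintype F] (hF : Odd (Fintype.card F)) (P : Sylow 2 (Matrix.SpecialLinearGroup (Fin 2) F)) : ∃ k : ℕ, 1 ≤ k ∧ Nonempty ((P : Subgroup (Matrix.SpecialLinearGroup (Fin 2) F)) ≃* QuaternionGroup (2 ^ k)) := by
  classical
  set q := Fintype.card F with hq
  have hq1 : q % 2 = 1 := Nat.odd_iff.mp hF
  have hq2 : 2 ≤ q := Fintype.one_lt_card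
  have hq3 : 3 ≤ q := by omega
  obtain ⟨k, hk1, hkd, hkf⟩ := two_part q hq1 hq3
  have hcard := Cfsg.Agent.Lib.Helper38.card_SL2 (F := F)
  rw [← hq] at hcard
  refine ⟨k, hk1, ?_⟩
  have hn2 : 2 ≤ 2 ^ k := by
    calc 2 = 2 ^ 1 := rfl
      _ ≤ 2 ^ k := Nat.pow_le_pow_right (by norm_num) hk1
  obtain ⟨t, l, hl0, hord, hlt⟩ := exists_eigen_orderOf (F := F) (2 ^ (k + 1)) hkd
  have hord' : orderOf l = 2 * 2 ^ k := by rw [hord, pow_succ, mul_comm]
  have hl2 : l ^ 2 ≠ 1 := by
    intro h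
    have := orderOf_le_of_pow_eq_one (by norm_num) h
    omega
  have htr : l + l⁻¹ = algebraMap F (AlgebraicClosure F) (tr2 (compSL2 t)) := by
    rw [tr2_compSL2]; exact hlt
  have hoα : orderOf (compSL2 t) = 2 * 2 ^ k := by
    rw [orderOf_eq_of_eigen _ hl0 htr hl2, hord']
  have hln : l ^ (2 ^ k) = -1 := by
    have h1 : (l ^ (2 ^ k)) ^ 2 = 1 := by
      rw [← pow_mul, mul_comm, ← hord', pow_orderOf_eq_one]
    have h2 : l ^ (2 ^ k) ≠ 1 := by
      intro h
      have := orderOf_le_of_pow_eq_one (by omega) h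
      omega
    have : (l ^ (2 ^ k) - 1) * (l ^ (2 ^ k) + 1) = 0 := by linear_combination h1
    rcases mul_eq_zero.mp this with h | h
    · exact absurd (by linear_combination h) h2
    · linear_combination h
  have hαn : ((compSL2 t ^ (2 ^ k) : SL₂(F)) : Matrix (Fin 2) (Fin 2) F) = (-1 : F) • 1 :=
    sl2_pow_eq_scalar_of_eigen _ hl0 htr hl2 (2 ^ k) (-1) (by ring) (by rw [hln]; simp)
  have ht4 : t ^ 2 ≠ 4 := by
    intro h
    apply hl2
    have h4 : (algebraMap F (AlgebraicClosure F)) (t ^ 2) = 4 := by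
      rw [h]; exact map_ofNat _ 4
    rw [map_pow, ← hlt] at h4
    have hll : l * l⁻¹ = 1 := mul_inv_cancel₀ hl0
    have h2 : (l - l⁻¹) ^ 2 = 0 := by linear_combination h4 - 4 * hll
    have h3 : l - l⁻¹ = 0 := pow_eq_zero_iff (two_ne_zero) |>.mp h2
    field_simp at h3
    linear_combination h3
  obtain ⟨β, hβα, hββ⟩ := exists_inverter hq1 t ht4
  have hβ2 : β * β = compSL2 t ^ (2 ^ k) := by
    apply Subtype.ext
    rw [hββ, hαn]
  have hns : β ∉ Subgroup.zpowers (compSL2 t) := by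
    intro hmem
    obtain ⟨j, hj⟩ := Subgroup.mem_zpowers_iff.mp hmem
    have hcomm : β * compSL2 t = compSL2 t * β := by
      rw [← hj, ← zpow_add_one, ← zpow_one_add, add_comm]
    have h0 : (compSL2 t)⁻¹ = compSL2 t := by
      rw [← hβα, hcomm, mul_assoc, mul_inv_cancel, mul_one]
    have h1 : compSL2 t ^ 2 = 1 := by
      rw [pow_two]; nth_rewrite 1 [← h0]; exact inv_mul_cancel _
    have := orderOf_le_of_pow_eq_one (by norm_num) h1
    omega
  let φ := Cfsg.Agent.Lib.Helper20.quatLift β (compSL2 t) (2 ^ k)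
    (by rw [← hoα]; exact pow_orderOf_eq_one _) hβ2 hβα
  have hφ : Function.Injective φ :=
    Cfsg.Agent.Lib.Helper20.quatLift_injective β (compSL2 t) (2 ^ k) hoα hβ2 hβα hns
  have hcardrange : Nat.card φ.range = 2 ^ (Nat.card SL₂(F)).factorization 2 := by
    rw [Nat.card_congr (MonoidHom.ofInjective hφ).toEquiv.symm, Nat.card_eq_fintype_card,
      QuaternionGroup.card, hcard, hkf]
    ring
  let Q := Sylow.ofCard φ.range hcardrange
  have e1 : (P : Subgroup SL₂(F)) ≃* (Q : Subgroup SL₂(F)) := Sylow.equiv P Q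
  have e2 : QuaternionGroup (2 ^ k) ≃* φ.range := MonoidHom.ofInjective hφ
  exact ⟨e1.trans e2.symm⟩

end Cfsg.Agent.S0261
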