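import Cfsg.Statements.S0262
import Cfsg.Agent.Lib.Helper41.SL2Eigen
import Cfsg.Agent.Lib.Helper38.SLCard

set_option autoImplicit false
open Cfsg

namespace Cfsg.Agent.S0262

open Cfsg.Agent.Lib.Helper41

local notation "SL₂(" F ")" => Matrix.SpecialLinearGroup (Fin 2) F
local notation "PSL₂(" F ")" => Matrix.ProjectiveSpecialLinearGroup (Fin 2) F

/-- General criterion: if a finite group has an element whose order is the full `r`-part of the
group order, every Sylow `r`-subgroup is cyclic. -/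
theorem sylow_isCyclic_of_element {G : Type*} [Group G] [Finite G] (r : ℕ) [Fact r.Prime]
    (x : G) (hx : orderOf x = r ^ (Nat.card G).factorization r) (R : Sylow r G) :
    IsCyclic (R : Subgroup G) := by
  classical
  have hp : IsPGroup r (Subgroup.zpowers x) := by
    apply IsPGroup.of_card (n := (Nat.card G).factorization r)
    rw [Nat.card_zpowers, hx]
  obtain ⟨Q, hQ⟩ := hp.exists_le_sylow
  obtain ⟨g, hg⟩ := MulAction.exists_smul_eq G Q R
  have hxQ : x ∈ (Q : Subgroup G) := hQ (Subgroup.mem_zpowers x)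
  have hmem : g * x * g⁻¹ ∈ (R : Subgroup G) := by
    rw [← hg, Sylow.coe_subgroup_smul]
    rw [Subgroup.mem_pointwise_smul_iff_inv_smul_mem]
    simp only [MulAut.smul_def, MulAut.conj_inv_apply]
    have : g⁻¹ * (g * x * g⁻¹) * g = x := by group
    rw [this]; exact hxQ
  have hord : orderOf (⟨g * x * g⁻¹, hmem⟩ : (R : Subgroup G)) = Nat.card (R : Subgroup G) := by
    rw [Sylow.card_eq_multiplicity, ← hx]
    rw [← Subgroup.orderOf_coe]
    simp only
    have : g * x * g⁻¹ = MulAut.conj g x := by simp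
    rw [this, MulEquiv.orderOf_eq]
  exact isCyclic_of_orderOf_eq_card _ hord

variable {F : Type*} [Field F]

/-- An element of `SL₂(F)` whose order is divisible by any odd prime power dividing `m`, where `m`
is the order of an eigenvalue. -/
theorem dvd_orderOf_of_eigen {K : Type*} [Field K] (f : F →+* K) {A : SL₂(F)} {l : K}
    (hl0 : l ≠ 0) (hl : l + l⁻¹ = f (tr2 A)) (hl2 : l ^ 2 ≠ 1) (d : ℕ) (hd : Odd d)
    (hdl : d ∣ orderOf l) : d ∣ orderOf A := by
  have h1 : ((A : PSL₂(F))) ^ (orderOf A) = 1 := by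
    have : ((A : PSL₂(F))) ^ (orderOf A) = ((A ^ orderOf A : SL₂(F)) : PSL₂(F)) := rfl
    rw [this, pow_orderOf_eq_one]; rfl
  rw [psl2_pow_eq_one_iff_eigen f hl0 hl hl2] at h1
  have h2 : orderOf l ∣ 2 * orderOf A := orderOf_dvd_of_pow_eq_one h1
  have h3 : d ∣ 2 * orderOf A := hdl.trans h2
  exact (Nat.Coprime.dvd_of_dvd_mul_left (Nat.Coprime.symm (Nat.coprime_two_left.mpr hd)) h3)

theorem exists_orderOf_eq_of_dvd {G : Type*} [Group G] [Finite G] (A : G) (d : ℕ)
    (hd : d ∣ orderOf A) : ∃ x : G, orderOf x = d := by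
  have hpos : 0 < orderOf A := orderOf_pos A
  obtain ⟨e, he⟩ := hd
  have he0 : e ≠ 0 := by
    rintro rfl
    rw [mul_zero] at he; omega
  refine ⟨A ^ e, ?_⟩
  rw [orderOf_pow_of_dvd he0 ⟨d, by rw [he]; ring⟩, he]
  exact Nat.mul_div_cancel _ (Nat.pos_of_ne_zero he0)

/-- For an odd prime r different from the characteristic, the Sylow r-subgroups of SL_2(q) are cyclic. -/
theorem result {F : Type*} [Field F] [Fintype F] (p : ℕ) [Fact p.Prime] [CharP F p] (r : ℕ) [Fact r.Prime] (hr : r ≠ 2) (hrp : r ≠ p) (R : Sylow r (Matrix.SpecialLinearGroup (Fin 2) F)) : IsCyclic (R : Subgroup (Matrix.SpecialLinearGroup (Fin 2) F)) := by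
  classical
  have hrprime : r.Prime := Fact.out
  have hpprime : p.Prime := Fact.out
  set q := Fintype.card F with hq
  have hq2 : 2 ≤ q := Fintype.one_lt_card
  obtain ⟨n, hn⟩ := FiniteField.card F p
  have hcard := Cfsg.Agent.Lib.Helper38.card_SL2 (F := F)
  set k := (Nat.card (SL₂(F))).factorization r with hk
  suffices h : ∃ x : SL₂(F), orderOf x = r ^ k by
    obtain ⟨x, hx⟩ := h
    exact sylow_isCyclic_of_element r x hx R
  by_cases hk0 : k = 0
  · exact ⟨1, by rw [hk0]; simp⟩
  have hrodd : Odd r := hrprime.odd_of_ne_two hr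
  have hdodd : Odd (r ^ k) := hrodd.pow
  have hdvd : r ^ k ∣ q * (q ^ 2 - 1) := by
    rw [← hq] at hcard
    rw [← hcard]; exact Nat.ordProj_dvd _ _
  have hcop : Nat.Coprime (r ^ k) q := by
    apply Nat.Coprime.pow_left
    rw [hq, hn.2]
    apply Nat.Coprime.pow_right
    exact (Nat.coprime_primes hrprime hpprime).mpr hrp
  have hdvd2 : r ^ k ∣ (q - 1) * (q + 1) := by
    have := hcop.dvd_of_dvd_mul_left hdvd
    have e : q ^ 2 - 1 = (q - 1) * (q + 1) := by
      have : 1 ≤ q := by omega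
      zify [this, Nat.one_le_pow 2 q (by omega)]
      ring
    rwa [e] at this
  have hrk : r ∣ r ^ k := dvd_pow_self r hk0
  -- common finish
  have finish : ∀ {K : Type _} [Field K] (f : F →+* K) (l : K) (t : F), l ≠ 0 →
      l + l⁻¹ = f t → 3 ≤ orderOf l → r ^ k ∣ orderOf l → ∃ x : SL₂(F), orderOf x = r ^ k := by
    intro K _ f l t hl0 hlt h3 hdl
    have hl2 : l ^ 2 ≠ 1 := by
      intro h
      have := orderOf_le_of_pow_eq_one (by norm_num) h
      omega
    have := dvd_orderOf_of_eigen f (A := compSL2 t) hl0 (by rw [tr2_compSL2]; exact hlt) hl2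
      (r ^ k) hdodd hdl
    exact exists_orderOf_eq_of_dvd _ _ this
  by_cases hr1 : r ∣ q - 1
  · -- then r ∤ q + 1, so r ^ k ∣ q - 1
    have hr2 : ¬ r ∣ q + 1 := by
      intro h
      have : r ∣ (q + 1) - (q - 1) := Nat.dvd_sub h hr1
      have e : (q + 1) - (q - 1) = 2 := by omega
      rw [e] at this
      have := (Nat.prime_dvd_prime_iff_eq hrprime Nat.prime_two).mp this
      exact hr this
    have hc : Nat.Coprime (r ^ k) (q + 1) :=
      Nat.Coprime.pow_left _ ((Nat.Prime.coprime_iff_not_dvd hrprime).mpr hr2)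
    have hd1 : r ^ k ∣ q - 1 := hc.dvd_of_dvd_mul_right hdvd2
    obtain ⟨g, hg⟩ := IsCyclic.exists_generator (α := Fˣ)
    have hog : orderOf g = q - 1 := by
      rw [orderOf_eq_card_of_forall_mem_zpowers hg, Nat.card_eq_fintype_card, Fintype.card_units]
    have hog' : orderOf (g : F) = q - 1 := by rw [orderOf_units]; exact hog
    have h3 : 3 ≤ q - 1 := by
      have h1 := Nat.le_of_dvd (by omega) (hrk.trans hd1)
      have h2 := hrprime.two_le
      omega
    exact finish (RingHom.id F) (g : F) ((g : F) + (g : F)⁻¹) g.ne_zero rfl (by rw [hog']; exact h3)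
      (by rw [hog']; exact hd1)
  · have hc : Nat.Coprime (r ^ k) (q - 1) :=
      Nat.Coprime.pow_left _ ((Nat.Prime.coprime_iff_not_dvd hrprime).mpr hr1)
    have hd1 : r ^ k ∣ q + 1 := hc.dvd_of_dvd_mul_left hdvd2
    obtain ⟨t, l, hl0, hol, hlt⟩ := exists_trace_orderOf_card_add_one (F := F)
    exact finish (algebraMap F (AlgebraicClosure F)) l t hl0 hlt (by rw [hol]; omega)
      (by rw [hol]; exact hd1)

end Cfsg.Agent.S0262
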