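import Cfsg.Statements.S2430
import Cfsg.Agent.S0261
import Cfsg.Agent.S0262
import Cfsg.Agent.Lib.Helper41.SL2Count

set_option autoImplicit false
open Cfsg

namespace Cfsg.Agent.S2430

open Cfsg.Agent.Lib.Helper41

local notation "SL₂(" F ")" => Matrix.SpecialLinearGroup (Fin 2) F

section General

variable {F : Type*} [Field F]

theorem tr2_one : tr2 (1 : SL₂(F)) = 2 := by
  simp [tr2]; norm_num

theorem tr2_pow_add_two (A : SL₂(F)) (n : ℕ) :
    tr2 (A ^ (n + 2)) = tr2 A * tr2 (A ^ (n + 1)) - tr2 (A ^ n) := by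
  have hdet := sl2_det A
  have e1 : A ^ (n + 2) = A ^ n * (A * A) := by rw [pow_add, pow_two]
  have e2 : A ^ (n + 1) = A ^ n * A := pow_succ _ _
  rw [e1, e2]
  simp only [tr2, sl2_mul_00, sl2_mul_01, sl2_mul_10, sl2_mul_11]
  linear_combination (-(A ^ n) 0 0 - (A ^ n) 1 1) * hdet

/-- The eigenvalues of `A ^ n` are the `n`-th powers of the eigenvalues of `A`. -/
theorem tr2_pow_eigen {K : Type*} [Field K] (f : F →+* K) {A : SL₂(F)} {l : K}
    (hl0 : l ≠ 0) (hl : l + l⁻¹ = f (tr2 A)) (n : ℕ) :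
    l ^ n + (l ^ n)⁻¹ = f (tr2 (A ^ n)) := by
  have hll : l * l⁻¹ = 1 := mul_inv_cancel₀ hl0
  induction n using Nat.twoStepInduction with
  | zero =>
    simp only [pow_zero, inv_one, tr2_one]
    rw [map_ofNat]; norm_num
  | one => simpa using hl
  | more n ih1 ih2 =>
    rw [tr2_pow_add_two, map_sub, map_mul, ← ih1, ← ih2, ← hl]
    simp only [← inv_pow]
    have : l⁻¹ ^ (n + 2) = l⁻¹ ^ n * l⁻¹ ^ 2 := by ring
    linear_combination (-(l ^ n) - l⁻¹ ^ n) * hll

theorem centralizer_zpowers {G : Type*} [Group G] (x : G) :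
    Subgroup.centralizer ((Subgroup.zpowers x : Subgroup G) : Set G) =
      Subgroup.centralizer ({x} : Set G) := by
  ext g
  rw [Subgroup.mem_centralizer_iff, Subgroup.mem_centralizer_iff]
  constructor
  · intro h y hy
    rw [Set.mem_singleton_iff] at hy
    subst hy
    exact h _ (Subgroup.mem_zpowers _)
  · intro h y hy
    obtain ⟨k, rfl⟩ := Subgroup.mem_zpowers_iff.mp hy
    have hc : Commute x g := h x rfl
    exact (hc.zpow_left k).eq

end General

theorem arith1 (q : ℕ) (hq2 : 2 ≤ q) : q * (q - 1) + q * 2 = q * (q + 1) := by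
  obtain ⟨r, rfl⟩ : ∃ r, q = r + 2 := ⟨q - 2, by omega⟩
  have : r + 2 - 1 = r + 1 := by omega
  rw [this]; ring

theorem arith2 (q : ℕ) (hq2 : 2 ≤ q) : q * (q ^ 2 - 1) = (q - 1) * (q * (q + 1)) := by
  obtain ⟨r, rfl⟩ : ∃ r, q = r + 2 := ⟨q - 2, by omega⟩
  have h1 : r + 2 - 1 = r + 1 := by omega
  have h2 : (r + 2) ^ 2 - 1 = (r + 1) * (r + 3) := by
    have : (r + 2) ^ 2 = (r + 1) * (r + 3) + 1 := by ring
    rw [this]; simp
  rw [h1, h2]; ring

theorem arith3 (q : ℕ) (hq2 : 2 ≤ q) :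
    q * (q ^ 2 - 1) = (q + 1) * (q * (q - 1) + q * 0) := by
  obtain ⟨r, rfl⟩ : ∃ r, q = r + 2 := ⟨q - 2, by omega⟩
  have h1 : r + 2 - 1 = r + 1 := by omega
  have h2 : (r + 2) ^ 2 - 1 = (r + 1) * (r + 3) := by
    have : (r + 2) ^ 2 = (r + 1) * (r + 3) + 1 := by ring
    rw [this]; simp
  rw [h1, h2]; ring

section Count

variable {F : Type*} [Field F] [Fintype F]

/-- The conjugacy class in `SL₂` of a semisimple element is its trace fibre. -/
theorem class_eq (hodd : Fintype.card F % 2 = 1) {X : SL₂(F)} (hτ4 : tr2 X ^ 2 ≠ 4) :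
    {h : SL₂(F) | IsConj X h} = {Y : SL₂(F) | tr2 Y = tr2 X} := by
  have hX : X ∉ Subgroup.center (SL₂(F)) := not_mem_center_of_tr2_sq_ne_four hτ4
  have hN := normUniversal_of_odd hodd _ hτ4
  ext Y
  constructor
  · intro hh
    obtain ⟨W, hW⟩ := isConj_iff.mp hh
    show tr2 Y = tr2 X
    rw [← hW, tr2_conj]
  · intro htr
    have htr' : tr2 Y = tr2 X := htr
    have hYc : Y ∉ Subgroup.center (SL₂(F)) :=
      not_mem_center_of_tr2_sq_ne_four (by rw [htr']; exact hτ4)
    obtain ⟨W, hW⟩ := conj_of_tr2_eq hX hYc htr' hN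
    exact isConj_iff.mpr ⟨W, hW⟩

open Classical in
theorem index_eq (hodd : Fintype.card F % 2 = 1) {X : SL₂(F)} (hτ4 : tr2 X ^ 2 ≠ 4) :
    (Subgroup.centralizer ({X} : Set (SL₂(F)))).index =
      Fintype.card F * (Fintype.card F - 1) +
        Fintype.card F * (Finset.univ.filter (fun a : F => a * (tr2 X - a) = 1)).card := by
  rw [index_centralizer_eq_ncard, class_eq hodd hτ4, ← Nat.card_coe_set_eq]
  exact card_tr2_eq (tr2 X)

open Classical in
theorem roots_two (τ l : F) (hτ4 : τ ^ 2 ≠ 4) (hl : l * (τ - l) = 1) :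
    (Finset.univ.filter (fun a : F => a * (τ - a) = 1)).card = 2 := by
  have hne : l ≠ τ - l := by
    intro h
    apply hτ4
    have h1 : τ = 2 * l := by linear_combination -h
    have h3 : l * l = 1 := by rw [h1] at hl; linear_combination hl
    rw [h1]; linear_combination 4 * h3
  have : (Finset.univ.filter (fun a : F => a * (τ - a) = 1)) = {l, τ - l} := by
    ext a
    simp only [Finset.mem_filter, Finset.mem_univ, true_and, Finset.mem_insert,
      Finset.mem_singleton]
    constructor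
    · intro h
      have h1 : (a - l) * (a - (τ - l)) = 0 := by linear_combination hl - h
      rcases mul_eq_zero.mp h1 with h2 | h2
      · left; linear_combination h2
      · right; linear_combination h2
    · rintro (rfl | rfl)
      · exact hl
      · linear_combination hl
  rw [this, Finset.card_pair hne]

open Classical in
theorem roots_none (τ : F) (h : ∀ a : F, a * (τ - a) ≠ 1) :
    (Finset.univ.filter (fun a : F => a * (τ - a) = 1)).card = 0 := by
  rw [Finset.card_eq_zero, Finset.filter_eq_empty_iff]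
  intro a _
  exact h a

theorem card_centralizer_split (hodd : Fintype.card F % 2 = 1) {X : SL₂(F)}
    (hτ4 : tr2 X ^ 2 ≠ 4) (l : F) (hl : l * (tr2 X - l) = 1) :
    Nat.card (Subgroup.centralizer ({X} : Set (SL₂(F)))) = Fintype.card F - 1 := by
  classical
  have h1 := Subgroup.card_mul_index (Subgroup.centralizer ({X} : Set (SL₂(F))))
  rw [index_eq hodd hτ4, roots_two _ l hτ4 hl, Cfsg.Agent.Lib.Helper38.card_SL2] at h1
  set q := Fintype.card F with hq
  have hq2 : 2 ≤ q := Fintype.one_lt_card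
  rw [arith1 q hq2, arith2 q hq2] at h1
  exact Nat.eq_of_mul_eq_mul_right (by positivity) h1

theorem card_centralizer_nonsplit (hodd : Fintype.card F % 2 = 1) {X : SL₂(F)}
    (hτ4 : tr2 X ^ 2 ≠ 4) (h : ∀ a : F, a * (tr2 X - a) ≠ 1) :
    Nat.card (Subgroup.centralizer ({X} : Set (SL₂(F)))) = Fintype.card F + 1 := by
  classical
  have h1 := Subgroup.card_mul_index (Subgroup.centralizer ({X} : Set (SL₂(F))))
  rw [index_eq hodd hτ4, roots_none _ h, Cfsg.Agent.Lib.Helper38.card_SL2] at h1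
  set q := Fintype.card F with hq
  have hq2 : 2 ≤ q := Fintype.one_lt_card
  rw [arith3 q hq2] at h1
  have hpos : 0 < q * (q - 1) + q * 0 := by
    have : 0 < q - 1 := by omega
    positivity
  exact Nat.eq_of_mul_eq_mul_right hpos h1

end Count

section Torus

variable {F : Type*} [Field F] [Fintype F]

omit [Fintype F] in
theorem tr2_sq_ne_four_of_eigen {K : Type*} [Field K] (f : F →+* K) {x : SL₂(F)} {l : K}
    (hl0 : l ≠ 0) (hl : l + l⁻¹ = f (tr2 x)) (hl2 : l ^ 2 ≠ 1) : tr2 x ^ 2 ≠ 4 := by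
  intro h
  apply hl2
  have h4 : f (tr2 x ^ 2) = 4 := by
    rw [h]; exact map_ofNat _ 4
  rw [map_pow, ← hl] at h4
  have hll : l * l⁻¹ = 1 := mul_inv_cancel₀ hl0
  have h2 : (l - l⁻¹) ^ 2 = 0 := by linear_combination h4 - 4 * hll
  have h3 : l - l⁻¹ = 0 := pow_eq_zero_iff (two_ne_zero) |>.mp h2
  field_simp at h3
  linear_combination h3

theorem orderOf_conj' {G : Type*} [Group G] (W y : G) : orderOf (W * y * W⁻¹) = orderOf y := by
  have : W * y * W⁻¹ = MulAut.conj W y := by simp
  rw [this, MulEquiv.orderOf_eq]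

/-- The centraliser of a semisimple element is cyclic, once its order is known to be the order of
the relevant torus. -/
theorem isCyclic_centralizer (hodd : Fintype.card F % 2 = 1) {x : SL₂(F)}
    {l : AlgebraicClosure F} (hl0 : l ≠ 0)
    (hl : l + l⁻¹ = algebraMap F (AlgebraicClosure F) (tr2 x)) (hl2 : l ^ 2 ≠ 1) (N : ℕ)
    (hN : N ∣ Fintype.card F - 1 ∨ N ∣ Fintype.card F + 1) (hlN : l ^ N = 1)
    (hcard : Nat.card (Subgroup.centralizer ({x} : Set (SL₂(F)))) = N) :
    IsCyclic (Subgroup.centralizer ({x} : Set (SL₂(F)))) := by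
  classical
  have hN0 : N ≠ 0 := by
    rw [← hcard]; exact Nat.card_pos.ne'
  have hN1 : N ≠ 1 := by
    rintro rfl
    apply hl2
    rw [pow_one] at hlN
    rw [hlN]; ring
  have hN2 : N ≠ 2 := by
    rintro rfl
    exact hl2 hlN
  have hN3 : 3 ≤ N := by omega
  have : NeZero N := ⟨hN0⟩
  obtain ⟨t₀, l₀, hl₀0, hord, hl₀t⟩ := Cfsg.Agent.S0261.exists_eigen_orderOf (F := F) N hN
  have hl₀2 : l₀ ^ 2 ≠ 1 := by
    intro h
    have := orderOf_le_of_pow_eq_one (by norm_num) h
    omega
  have htr₀ : l₀ + l₀⁻¹ = algebraMap F (AlgebraicClosure F) (tr2 (compSL2 t₀)) := by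
    rw [tr2_compSL2]; exact hl₀t
  have hy : orderOf (compSL2 t₀) = N := by
    rw [Cfsg.Agent.S0261.orderOf_eq_of_eigen _ hl₀0 htr₀ hl₀2, hord]
  have hprim : IsPrimitiveRoot l₀ N := hord ▸ IsPrimitiveRoot.orderOf l₀
  obtain ⟨e, -, hle⟩ := hprim.eq_pow_of_pow_eq_one hlN
  have htr : tr2 (compSL2 t₀ ^ e) = tr2 x := by
    have h1 := tr2_pow_eigen _ hl₀0 htr₀ e
    rw [hle, hl] at h1
    exact ((algebraMap F (AlgebraicClosure F)).injective h1).symm
  have hτ4 : tr2 x ^ 2 ≠ 4 := tr2_sq_ne_four_of_eigen _ hl0 hl hl2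
  have hτ4' : tr2 (compSL2 t₀ ^ e) ^ 2 ≠ 4 := by rw [htr]; exact hτ4
  obtain ⟨W, hW⟩ := conj_of_tr2_eq (not_mem_center_of_tr2_sq_ne_four hτ4')
    (not_mem_center_of_tr2_sq_ne_four hτ4) htr.symm (normUniversal_of_odd hodd _ hτ4')
  set y' := W * compSL2 t₀ * W⁻¹ with hy'
  have hy'ord : orderOf y' = N := by rw [hy', orderOf_conj', hy]
  have hy'e : y' ^ e = x := by rw [hy', conj_pow, hW]
  have hle' : Subgroup.zpowers y' ≤ Subgroup.centralizer ({x} : Set (SL₂(F))) := by
    intro z hz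
    obtain ⟨k, rfl⟩ := Subgroup.mem_zpowers_iff.mp hz
    rw [Subgroup.mem_centralizer_iff]
    intro h hh
    rw [Set.mem_singleton_iff] at hh
    subst hh
    rw [← hy'e]
    exact ((Commute.refl y').pow_left e).zpow_right k |>.eq
  have heq : Subgroup.zpowers y' = Subgroup.centralizer ({x} : Set (SL₂(F))) := by
    apply Subgroup.eq_of_le_of_card_ge hle'
    rw [hcard, Nat.card_zpowers, hy'ord]
  rw [← heq]
  infer_instance

theorem mem_normalizer_zpowers {G : Type*} [Group G] (g x : G)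
    (h1 : g * x * g⁻¹ ∈ Subgroup.zpowers x) (h2 : g⁻¹ * x * g ∈ Subgroup.zpowers x) :
    g ∈ Subgroup.normalizer ((Subgroup.zpowers x : Subgroup G) : Set G) := by
  rw [Subgroup.mem_normalizer_iff]
  intro h
  constructor
  · intro hh
    obtain ⟨k, rfl⟩ := Subgroup.mem_zpowers_iff.mp hh
    have : g * x ^ k * g⁻¹ = (g * x * g⁻¹) ^ k := by rw [conj_zpow]
    rw [this]
    exact Subgroup.zpow_mem _ h1 k
  · intro hh
    obtain ⟨k, hk⟩ := Subgroup.mem_zpowers_iff.mp hh
    have : h = (g⁻¹ * x * g) ^ k := by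
      have e1 : (g⁻¹ * x * g) ^ k = g⁻¹ * x ^ k * g := by
        have := conj_zpow (a := g⁻¹) (b := x) (i := k)
        rw [inv_inv] at this
        exact this
      rw [e1, hk]; group
    rw [this]
    exact Subgroup.zpow_mem _ h2 k

end Torus

section Normalizer

variable {F : Type*} [Field F] [Fintype F]

theorem mem_centralizer_singleton_iff {G : Type*} [Group G] (g x : G) :
    g ∈ Subgroup.centralizer ({x} : Set G) ↔ g * x * g⁻¹ = x := by
  rw [Subgroup.mem_centralizer_iff]
  constructor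
  · intro h
    have := h x rfl
    rw [mul_inv_eq_iff_eq_mul, this]
  · intro h y hy
    rw [Set.mem_singleton_iff] at hy
    subst hy
    rw [mul_inv_eq_iff_eq_mul] at h
    exact h.symm

omit [Fintype F] in
theorem tr2_inv (x : SL₂(F)) : tr2 x⁻¹ = tr2 x := by
  simp only [tr2, sl2_inv_00, sl2_inv_11]; ring

/-- An element normalising `⟨x⟩` centralises or inverts `x`. -/
theorem conj_eq_or_eq_inv {x : SL₂(F)} {l : AlgebraicClosure F} (hl0 : l ≠ 0)
    (hl : l + l⁻¹ = algebraMap F (AlgebraicClosure F) (tr2 x)) (hl2 : l ^ 2 ≠ 1)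
    (g : SL₂(F)) (hg : g * x * g⁻¹ ∈ Subgroup.zpowers x) :
    g * x * g⁻¹ = x ∨ g * x * g⁻¹ = x⁻¹ := by
  rw [← mem_powers_iff_mem_zpowers, Submonoid.mem_powers_iff] at hg
  obtain ⟨j, hj⟩ := hg
  rw [← hj]
  have htr : tr2 (x ^ j) = tr2 x := by rw [hj, tr2_conj]
  have h1 := tr2_pow_eigen _ hl0 hl j
  rw [htr, ← hl] at h1
  have hll : l * l⁻¹ = 1 := mul_inv_cancel₀ hl0
  have hlj0 : l ^ j ≠ 0 := pow_ne_zero _ hl0
  have hljj : l ^ j * (l ^ j)⁻¹ = 1 := mul_inv_cancel₀ hlj0
  have h2 : (l ^ j - l) * (l ^ j - l⁻¹) = 0 := by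
    linear_combination l ^ j * h1 - hljj + hll
  rcases mul_eq_zero.mp h2 with h | h
  · left
    have hlj : l ^ j = l := by linear_combination h
    cases j with
    | zero =>
      exfalso; apply hl2
      rw [pow_zero] at hlj; rw [← hlj]; ring
    | succ i =>
      have : l ^ i = 1 := by
        rw [pow_succ] at hlj
        exact mul_right_cancel₀ hl0 (hlj.trans (one_mul l).symm)
      have hx := (Cfsg.Agent.S0261.sl2_pow_eq_one_iff_eigen _ hl0 hl hl2 i).mpr this
      rw [pow_succ, hx, one_mul]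
  · right
    have hlj : l ^ j = l⁻¹ := by linear_combination h
    have : l ^ (j + 1) = 1 := by rw [pow_succ, hlj, inv_mul_cancel₀ hl0]
    have hx := (Cfsg.Agent.S0261.sl2_pow_eq_one_iff_eigen _ hl0 hl hl2 (j + 1)).mpr this
    rw [pow_succ] at hx
    exact eq_inv_of_mul_eq_one_left hx

/-- The normaliser of the cyclic group generated by a semisimple element has twice the order of
its centraliser. -/
theorem card_normalizer (hodd : Fintype.card F % 2 = 1) {x : SL₂(F)}
    {l : AlgebraicClosure F} (hl0 : l ≠ 0)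
    (hl : l + l⁻¹ = algebraMap F (AlgebraicClosure F) (tr2 x)) (hl2 : l ^ 2 ≠ 1) :
    Nat.card (Subgroup.normalizer ((Subgroup.zpowers x : Subgroup (SL₂(F))) : Set (SL₂(F)))) =
      2 * Nat.card (Subgroup.centralizer ({x} : Set (SL₂(F)))) := by
  classical
  have hτ4 : tr2 x ^ 2 ≠ 4 := tr2_sq_ne_four_of_eigen _ hl0 hl hl2
  have hτ4' : tr2 x⁻¹ ^ 2 ≠ 4 := by rw [tr2_inv]; exact hτ4
  obtain ⟨β, hβ⟩ := conj_of_tr2_eq (not_mem_center_of_tr2_sq_ne_four hτ4)
    (not_mem_center_of_tr2_sq_ne_four hτ4') (tr2_inv x) (normUniversal_of_odd hodd _ hτ4)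
  have hβ' : β⁻¹ * x⁻¹ * β = x := by rw [← hβ]; group
  have hβ'' : β⁻¹ * x * β = x⁻¹ := by
    have : x = (β⁻¹ * x⁻¹ * β) := hβ'.symm
    calc β⁻¹ * x * β = (β⁻¹ * x⁻¹ * β)⁻¹ := by group
      _ = x⁻¹ := by rw [hβ']
  have hne : x ≠ x⁻¹ := by
    intro h
    apply hl2
    have : x ^ 2 = 1 := by
      rw [pow_two]; nth_rewrite 1 [h]; exact inv_mul_cancel x
    exact (Cfsg.Agent.S0261.sl2_pow_eq_one_iff_eigen _ hl0 hl hl2 2).mp this
  set C := Subgroup.centralizer ({x} : Set (SL₂(F))) with hC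
  have hset : ((Subgroup.normalizer ((Subgroup.zpowers x : Subgroup (SL₂(F))) : Set (SL₂(F))) :
      Subgroup (SL₂(F))) : Set (SL₂(F))) = (C : Set (SL₂(F))) ∪ (fun c => β * c) '' (C : Set (SL₂(F))) := by
    ext g
    simp only [SetLike.mem_coe, Set.mem_union, Set.mem_image]
    constructor
    · intro hg
      have hg1 : g * x * g⁻¹ ∈ Subgroup.zpowers x :=
        ((Subgroup.mem_normalizer_iff.mp hg) x).mp (Subgroup.mem_zpowers x)
      rcases conj_eq_or_eq_inv hl0 hl hl2 g hg1 with h | h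
      · left
        exact (mem_centralizer_singleton_iff g x).mpr h
      · right
        refine ⟨β⁻¹ * g, ?_, by group⟩
        rw [hC, mem_centralizer_singleton_iff]
        calc β⁻¹ * g * x * (β⁻¹ * g)⁻¹ = β⁻¹ * (g * x * g⁻¹) * β := by group
          _ = x := by rw [h, hβ']
    · rintro (hg | ⟨c, hc, rfl⟩)
      · have h := (mem_centralizer_singleton_iff g x).mp hg
        have h' : g⁻¹ * x * g = x := by
          nth_rewrite 1 [← h]; group
        apply mem_normalizer_zpowers
        · rw [h]; exact Subgroup.mem_zpowers x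
        · rw [h']; exact Subgroup.mem_zpowers x
      · have h := (mem_centralizer_singleton_iff c x).mp hc
        have h' : c⁻¹ * x⁻¹ * c = x⁻¹ := by
          nth_rewrite 1 [← h]; group
        apply mem_normalizer_zpowers
        · have : β * c * x * (β * c)⁻¹ = β * (c * x * c⁻¹) * β⁻¹ := by group
          rw [this, h, hβ]
          exact Subgroup.inv_mem _ (Subgroup.mem_zpowers x)
        · have : (β * c)⁻¹ * x * (β * c) = c⁻¹ * (β⁻¹ * x * β) * c := by group
          rw [this, hβ'', h']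
          exact Subgroup.inv_mem _ (Subgroup.mem_zpowers x)
  have hdisj : Disjoint (C : Set (SL₂(F))) ((fun c => β * c) '' (C : Set (SL₂(F)))) := by
    rw [Set.disjoint_left]
    rintro g hg ⟨c, hc, rfl⟩
    have h1 := (mem_centralizer_singleton_iff (β * c) x).mp hg
    have h2 := (mem_centralizer_singleton_iff c x).mp hc
    have : β * c * x * (β * c)⁻¹ = β * (c * x * c⁻¹) * β⁻¹ := by group
    rw [this, h2, hβ] at h1
    exact hne h1.symm
  have e1 : Nat.card (Subgroup.normalizer ((Subgroup.zpowers x : Subgroup (SL₂(F))) : Set (SL₂(F)))) =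
      (((Subgroup.normalizer ((Subgroup.zpowers x : Subgroup (SL₂(F))) : Set (SL₂(F))) :
      Subgroup (SL₂(F))) : Set (SL₂(F)))).ncard := Nat.card_coe_set_eq _
  have e2 : Nat.card C = (C : Set (SL₂(F))).ncard := Nat.card_coe_set_eq _
  rw [e1, e2, hset, Set.ncard_union_eq hdisj (Set.toFinite _) (Set.toFinite _),
    Set.ncard_image_of_injective _ (mul_right_injective β)]
  ring

end Normalizer

section Main

variable {F : Type*} [Field F] [Fintype F]

omit [Fintype F] in
/-- Elements of trace two are unipotent. -/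
theorem pow_char_eq_one_of_tr2 (p : ℕ) [Fact p.Prime] [CharP F p] (A : SL₂(F))
    (hA : tr2 A = 2) : A ^ p = 1 := by
  have hp : p.Prime := Fact.out
  obtain ⟨n, rfl⟩ : ∃ n, p = n + 1 := ⟨p - 1, by have := hp.pos; omega⟩
  apply Subtype.ext
  rw [sl2_pow_succ, hA, lucasU_two, lucasU_two]
  have h0 : ((n + 1 : ℕ) : F) = 0 := CharP.cast_eq_zero F (n + 1)
  have h1 : (n : F) = -1 := by
    push_cast at h0
    linear_combination h0
  rw [h0, h1]
  simp

theorem main_case (hodd : Fintype.card F % 2 = 1) (ℓ : ℕ) [Fact ℓ.Prime] (hℓ : ℓ ≠ 2)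
    (P : Sylow ℓ (SL₂(F))) (N : ℕ) (hNq : N = Fintype.card F - 1 ∨ N = Fintype.card F + 1)
    (hℓN : ℓ ∣ N) :
    Nat.card (Subgroup.centralizer ((P : Subgroup (SL₂(F))) : Set (SL₂(F)))) = N ∧
      IsCyclic (Subgroup.centralizer ((P : Subgroup (SL₂(F))) : Set (SL₂(F)))) ∧
      Nat.card (Subgroup.normalizer ((P : Subgroup (SL₂(F))) : Set (SL₂(F)))) = 2 * N := by
  classical
  have hℓprime : ℓ.Prime := Fact.out
  obtain ⟨p, hp⟩ := CharP.exists F
  have := hp
  have : Fact p.Prime := ⟨CharP.char_is_prime F p⟩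
  have hpprime : p.Prime := Fact.out
  obtain ⟨n, -, hn⟩ := FiniteField.card F p
  set q := Fintype.card F with hq
  have hq2 : 2 ≤ q := Fintype.one_lt_card
  have hpq : p ∣ q := by rw [hn]; exact dvd_pow_self p n.pos.ne'
  -- ℓ ≠ p
  have hℓp : ℓ ≠ p := by
    rintro rfl
    rcases hNq with rfl | rfl
    · have : ℓ ∣ q - (q - 1) := Nat.dvd_sub hpq hℓN
      have e : q - (q - 1) = 1 := by omega
      rw [e] at this
      exact hℓprime.one_lt.ne' (Nat.dvd_one.mp this)
    · have : ℓ ∣ (q + 1) - q := Nat.dvd_sub hℓN hpq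
      have e : (q + 1) - q = 1 := by omega
      rw [e] at this
      exact hℓprime.one_lt.ne' (Nat.dvd_one.mp this)
  -- the other torus order
  have hother : ∀ N' : ℕ, (N' = q - 1 ∨ N' = q + 1) → N' ≠ N → ¬ ℓ ∣ N' := by
    intro N' hN' hne hdvd
    have h2 : ℓ ∣ 2 := by
      rcases hNq with rfl | rfl <;> rcases hN' with rfl | rfl
      · exact absurd rfl hne
      · have : ℓ ∣ (q + 1) - (q - 1) := Nat.dvd_sub hdvd hℓN
        have e : (q + 1) - (q - 1) = 2 := by omega
        rwa [e] at this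
      · have : ℓ ∣ (q + 1) - (q - 1) := Nat.dvd_sub hℓN hdvd
        have e : (q + 1) - (q - 1) = 2 := by omega
        rwa [e] at this
      · exact absurd rfl hne
    exact hℓ ((Nat.prime_dvd_prime_iff_eq hℓprime Nat.prime_two).mp h2)
  have hcyc : IsCyclic (P : Subgroup (SL₂(F))) := Cfsg.Agent.S0262.result p ℓ hℓ hℓp P
  obtain ⟨⟨x, hxP⟩, hgen⟩ := IsCyclic.exists_generator (α := (P : Subgroup (SL₂(F))))
  have hP : (P : Subgroup (SL₂(F))) = Subgroup.zpowers x := by
    apply le_antisymm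
    · intro y hy
      obtain ⟨k, hk⟩ := Subgroup.mem_zpowers_iff.mp (hgen ⟨y, hy⟩)
      rw [Subgroup.mem_zpowers_iff]
      refine ⟨k, ?_⟩
      have := congrArg Subtype.val hk
      simpa using this
    · rw [Subgroup.zpowers_le]; exact hxP
  set k := (Nat.card (SL₂(F))).factorization ℓ with hk
  have hordx : orderOf x = ℓ ^ k := by
    rw [← Nat.card_zpowers, ← hP, Sylow.card_eq_multiplicity]
  have hcardSL := Cfsg.Agent.Lib.Helper38.card_SL2 (F := F)
  rw [← hq] at hcardSL
  have hfac : q ^ 2 - 1 = (q - 1) * (q + 1) := by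
    have hq1 : 1 ≤ q := by omega
    zify [hq1, Nat.one_le_pow 2 q (by omega)]
    ring
  have hk1 : 1 ≤ k := by
    have hdvd : ℓ ∣ Nat.card (SL₂(F)) := by
      rw [hcardSL, hfac]
      rcases hNq with rfl | rfl
      · exact (hℓN.mul_right _).mul_left _
      · exact (hℓN.mul_left _).mul_left _
    exact (Nat.Prime.dvd_iff_one_le_factorization hℓprime Nat.card_pos.ne').mp hdvd
  have hℓk : ℓ ∣ ℓ ^ k := dvd_pow_self ℓ (by omega)
  obtain ⟨l, hl0, hl, hlq⟩ := exists_eigen (tr2 x)
  have hll : l * l⁻¹ = 1 := mul_inv_cancel₀ hl0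
  have hl2 : l ^ 2 ≠ 1 := by
    intro h
    have hlinv : l⁻¹ = l := by
      have : l * l = 1 := by rw [← pow_two]; exact h
      exact inv_eq_of_mul_eq_one_right this
    have ht4 : tr2 x ^ 2 = 4 := by
      apply (algebraMap F (AlgebraicClosure F)).injective
      rw [map_pow, ← hl, hlinv, map_ofNat]
      linear_combination 4 * h
    have htr2 : tr2 (x ^ 2) = 2 := by
      have := tr2_pow_add_two x 0
      rw [zero_add, zero_add, pow_one, pow_zero, tr2_one] at this
      rw [this]; linear_combination ht4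
    have h1 : (x ^ 2) ^ p = 1 := pow_char_eq_one_of_tr2 p _ htr2
    rw [← pow_mul] at h1
    have h2 : ℓ ^ k ∣ 2 * p := by rw [← hordx]; exact orderOf_dvd_of_pow_eq_one h1
    have h3 : ℓ ∣ 2 * p := hℓk.trans h2
    rcases (Nat.Prime.dvd_mul hℓprime).mp h3 with h4 | h4
    · exact hℓ ((Nat.prime_dvd_prime_iff_eq hℓprime Nat.prime_two).mp h4)
    · exact hℓp ((Nat.prime_dvd_prime_iff_eq hℓprime hpprime).mp h4)
  have hordl : orderOf l = ℓ ^ k := by
    rw [← Cfsg.Agent.S0261.orderOf_eq_of_eigen _ hl0 hl hl2, hordx]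
  have hlN : l ^ N = 1 := by
    rcases hlq with h | h
    · rcases hNq with rfl | rfl
      · exact h
      · exfalso
        apply hother (q - 1) (Or.inl rfl) (by omega)
        exact hℓk.trans (hordl ▸ orderOf_dvd_of_pow_eq_one h)
    · rcases hNq with rfl | rfl
      · exfalso
        apply hother (q + 1) (Or.inr rfl) (by omega)
        exact hℓk.trans (hordl ▸ orderOf_dvd_of_pow_eq_one h)
      · exact h
  have hτ4 : tr2 x ^ 2 ≠ 4 := tr2_sq_ne_four_of_eigen _ hl0 hl hl2
  have hcardC : Nat.card (Subgroup.centralizer ({x} : Set (SL₂(F)))) = N := by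
    rcases hNq with rfl | rfl
    · -- split
      have hlq' : l ^ q = l := by
        have : l ^ (q - 1 + 1) = l := by rw [pow_succ, hlN, one_mul]
        rwa [Nat.sub_add_cancel (by omega)] at this
      obtain ⟨a, ha⟩ := mem_range_of_pow_card_eq (F := F) l hlq'
      apply card_centralizer_split hodd hτ4 a
      apply (algebraMap F (AlgebraicClosure F)).injective
      rw [map_mul, map_sub, ha, ← hl, map_one]
      linear_combination hll
    · -- nonsplit
      apply card_centralizer_nonsplit hodd hτ4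
      intro a ha
      apply hother (q - 1) (Or.inl rfl) (by omega)
      have ha' := congrArg (algebraMap F (AlgebraicClosure F)) ha
      rw [map_mul, map_sub, ← hl, map_one] at ha'
      set α := algebraMap F (AlgebraicClosure F) a with hα
      have hprod : (α - l) * (α - l⁻¹) = 0 := by linear_combination -ha' + hll
      have ha0 : a ≠ 0 := by
        rintro rfl
        rw [zero_mul] at ha
        exact zero_ne_one ha
      have hapow : a ^ (q - 1) = 1 := FiniteField.pow_card_sub_one_eq_one a ha0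
      have hαpow : α ^ (q - 1) = 1 := by rw [hα, ← map_pow, hapow, map_one]
      have hlpow : l ^ (q - 1) = 1 := by
        rcases mul_eq_zero.mp hprod with h | h
        · have : l = α := by linear_combination -h
          rw [this]; exact hαpow
        · have : l⁻¹ = α := by linear_combination -h
          have h2 : l = α⁻¹ := by rw [← this, inv_inv]
          rw [h2, inv_pow, hαpow, inv_one]
      exact hℓk.trans (hordl ▸ orderOf_dvd_of_pow_eq_one hlpow)
  have hCeq : Subgroup.centralizer ((P : Subgroup (SL₂(F))) : Set (SL₂(F))) =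
      Subgroup.centralizer ({x} : Set (SL₂(F))) := by
    rw [hP, centralizer_zpowers]
  refine ⟨by rw [hCeq, hcardC], ?_, ?_⟩
  · rw [hCeq]
    apply isCyclic_centralizer hodd hl0 hl hl2 N ?_ hlN hcardC
    rcases hNq with rfl | rfl
    · exact Or.inl dvd_rfl
    · exact Or.inr dvd_rfl
  · rw [hP, card_normalizer hodd hl0 hl hl2, hcardC]

end Main

/-- Let F be a finite field with q elements, q odd, ℓ an odd prime, and P a Sylow ℓ-subgroup of SL₂ over F. If ℓ divides q − 1, the centraliser of P is cyclic of order q − 1 (a split torus) and the normaliser of P has order 2(q − 1); if ℓ divides q + 1, the centraliser of P is cyclic of order q + 1 (a non-split torus) and the normaliser of P has order 2(q + 1). -/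
theorem result {F : Type*} [Field F] [Fintype F] (hodd : Odd (Fintype.card F)) (ℓ : ℕ) [Fact ℓ.Prime] (hℓ : ℓ ≠ 2)
    (P : Sylow ℓ (Matrix.SpecialLinearGroup (Fin 2) F)) :
    (ℓ ∣ Fintype.card F - 1 →
      Nat.card (Subgroup.centralizer ((P : Subgroup (Matrix.SpecialLinearGroup (Fin 2) F)) : Set (Matrix.SpecialLinearGroup (Fin 2) F))) = Fintype.card F - 1 ∧
      IsCyclic (Subgroup.centralizer ((P : Subgroup (Matrix.SpecialLinearGroup (Fin 2) F)) : Set (Matrix.SpecialLinearGroup (Fin 2) F))) ∧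
      Nat.card (Subgroup.normalizer ((P : Subgroup (Matrix.SpecialLinearGroup (Fin 2) F)) : Set (Matrix.SpecialLinearGroup (Fin 2) F))) = 2 * (Fintype.card F - 1)) ∧
    (ℓ ∣ Fintype.card F + 1 →
      Nat.card (Subgroup.centralizer ((P : Subgroup (Matrix.SpecialLinearGroup (Fin 2) F)) : Set (Matrix.SpecialLinearGroup (Fin 2) F))) = Fintype.card F + 1 ∧
      IsCyclic (Subgroup.centralizer ((P : Subgroup (Matrix.SpecialLinearGroup (Fin 2) F)) : Set (Matrix.SpecialLinearGroup (Fin 2) F))) ∧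
      Nat.card (Subgroup.normalizer ((P : Subgroup (Matrix.SpecialLinearGroup (Fin 2) F)) : Set (Matrix.SpecialLinearGroup (Fin 2) F))) = 2 * (Fintype.card F + 1)) := by
  have hodd' : Fintype.card F % 2 = 1 := Nat.odd_iff.mp hodd
  exact ⟨fun h => main_case hodd' ℓ hℓ P _ (Or.inl rfl) h,
    fun h => main_case hodd' ℓ hℓ P _ (Or.inr rfl) h⟩

end Cfsg.Agent.S2430
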