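import Cfsg.Statements.S2429
import Cfsg.Agent.S2430
import Cfsg.Agent.Lib.Helper41.Dicyclic

set_option autoImplicit false
open Cfsg

namespace Cfsg.Agent.S2429

open Cfsg.Agent.Lib.Helper41

local notation "SL₂(" F ")" => Matrix.SpecialLinearGroup (Fin 2) F

theorem cross_zero {K : Type*} [Field K] (u1 u2 u3 v1 v2 v3 w1 w2 w3 : K)
    (hw : ¬(w1 = 0 ∧ w2 = 0 ∧ w3 = 0))
    (hu12 : u1 * w2 = w1 * u2) (hu13 : w1 * u3 = u1 * w3) (hu23 : w2 * u3 = u2 * w3)
    (hv12 : v1 * w2 = w1 * v2) (hv13 : w1 * v3 = v1 * w3) (hv23 : w2 * v3 = v2 * w3) :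
    u1 * v2 = v1 * u2 ∧ v1 * u3 = u1 * v3 ∧ u2 * v3 = v2 * u3 := by
  by_cases h1 : w1 = 0
  · by_cases h2 : w2 = 0
    · have h3 : w3 ≠ 0 := fun h3 => hw ⟨h1, h2, h3⟩
      have a1 : u1 = u3 / w3 * w1 := by field_simp; linear_combination -hu13
      have a2 : u2 = u3 / w3 * w2 := by field_simp; linear_combination -hu23
      have b1 : v1 = v3 / w3 * w1 := by field_simp; linear_combination -hv13
      have b2 : v2 = v3 / w3 * w2 := by field_simp; linear_combination -hv23
      refine ⟨?_, ?_, ?_⟩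
      · rw [a1, a2, b1, b2]; ring
      · rw [a1, b1]; ring
      · rw [a2, b2]; ring
    · have a1 : u1 = u2 / w2 * w1 := by field_simp; linear_combination hu12
      have a3 : u3 = u2 / w2 * w3 := by field_simp; linear_combination hu23
      have b1 : v1 = v2 / w2 * w1 := by field_simp; linear_combination hv12
      have b3 : v3 = v2 / w2 * w3 := by field_simp; linear_combination hv23
      refine ⟨?_, ?_, ?_⟩
      · rw [a1, b1]; ring
      · rw [a1, a3, b1, b3]; ring
      · rw [a3, b3]; ring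
  · have a2 : u2 = u1 / w1 * w2 := by field_simp; linear_combination -hu12
    have a3 : u3 = u1 / w1 * w3 := by field_simp; linear_combination hu13
    have b2 : v2 = v1 / w1 * w2 := by field_simp; linear_combination -hv12
    have b3 : v3 = v1 / w1 * w3 := by field_simp; linear_combination hv13
    refine ⟨?_, ?_, ?_⟩
    · rw [a2, b2]; ring
    · rw [a3, b3]; ring
    · rw [a2, a3, b2, b3]; ring

section General

variable {F : Type*} [Field F]

/-- The centraliser of a non-central element of `SL₂` is commutative. -/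
theorem commute_of_commute_noncentral {t X Y : SL₂(F)} (ht : t ∉ Subgroup.center (SL₂(F)))
    (hX : X * t = t * X) (hY : Y * t = t * Y) : X * Y = Y * X := by
  rw [sl2_mem_center_iff] at ht
  have eX00 := congrArg (fun M : SL₂(F) => M 0 0) hX
  have eX01 := congrArg (fun M : SL₂(F) => M 0 1) hX
  have eX10 := congrArg (fun M : SL₂(F) => M 1 0) hX
  have eY00 := congrArg (fun M : SL₂(F) => M 0 0) hY
  have eY01 := congrArg (fun M : SL₂(F) => M 0 1) hY
  have eY10 := congrArg (fun M : SL₂(F) => M 1 0) hY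
  simp only [sl2_mul_00, sl2_mul_01, sl2_mul_10] at eX00 eX01 eX10 eY00 eY01 eY10
  have hw : ¬(t 0 1 = 0 ∧ t 1 0 = 0 ∧ t 0 0 - t 1 1 = 0) := by
    rintro ⟨h1, h2, h3⟩
    exact ht ⟨h1, h2, by linear_combination h3⟩
  obtain ⟨g1, g2, g3⟩ := cross_zero (X 0 1) (X 1 0) (X 0 0 - X 1 1) (Y 0 1) (Y 1 0) (Y 0 0 - Y 1 1)
    (t 0 1) (t 1 0) (t 0 0 - t 1 1) hw
    (by linear_combination eX00) (by linear_combination eX01) (by linear_combination -eX10)
    (by linear_combination eY00) (by linear_combination eY01) (by linear_combination -eY10)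
  apply sl2_ext <;> simp only [sl2_mul_00, sl2_mul_01, sl2_mul_10, sl2_mul_11]
  · linear_combination g1
  · linear_combination g2
  · linear_combination g3
  · linear_combination -g1

/-- The element `-1` of `SL₂`. -/
def negOne : SL₂(F) := mkSL2 (-1) 0 0 (-1) (by ring)

theorem negOne_coe : ((negOne : SL₂(F)) : Matrix (Fin 2) (Fin 2) F) = -1 := by
  ext i j
  fin_cases i <;> fin_cases j <;> simp [negOne, mkSL2]

theorem negOne_mem_center : (negOne : SL₂(F)) ∈ Subgroup.center (SL₂(F)) := by
  rw [sl2_mem_center_iff]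
  simp [negOne]

theorem negOne_ne_one (h2 : (2 : F) ≠ 0) : (negOne : SL₂(F)) ≠ 1 := by
  intro h
  have := congrArg (fun M : SL₂(F) => M 0 0) h
  simp only [negOne, mkSL2_00] at this
  apply h2
  have h1 : (1 : SL₂(F)) 0 0 = 1 := by simp
  rw [h1] at this
  linear_combination -this

/-- Involutions of `SL₂` in odd characteristic are central. -/
theorem eq_one_or_negOne_of_mul_self (h2 : (2 : F) ≠ 0) {A : SL₂(F)} (h : A * A = 1) :
    A = 1 ∨ A = negOne := by
  have hdet := sl2_det A
  have e00 := congrArg (fun M : SL₂(F) => M 0 0) h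
  have e01 := congrArg (fun M : SL₂(F) => M 0 1) h
  have e10 := congrArg (fun M : SL₂(F) => M 1 0) h
  have e11 := congrArg (fun M : SL₂(F) => M 1 1) h
  simp only [sl2_mul_00, sl2_mul_01, sl2_mul_10, sl2_mul_11] at e00 e01 e10 e11
  have o00 : (1 : SL₂(F)) 0 0 = 1 := by simp
  have o01 : (1 : SL₂(F)) 0 1 = 0 := by simp
  have o10 : (1 : SL₂(F)) 1 0 = 0 := by simp
  have o11 : (1 : SL₂(F)) 1 1 = 1 := by simp
  rw [o00] at e00; rw [o01] at e01; rw [o10] at e10; rw [o11] at e11
  -- trace squared is four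
  have htr : (A 0 0 + A 1 1) ^ 2 = 4 := by linear_combination e00 + e11 + 2 * hdet
  have htr0 : A 0 0 + A 1 1 ≠ 0 := by
    intro h0
    rw [h0] at htr
    have : (4 : F) = 2 * 2 := by norm_num
    rw [this] at htr
    have := mul_self_eq_zero.mp (by linear_combination -htr : (2 : F) * 2 = 0)
    exact h2 this
  have hb : A 0 1 = 0 := by
    have : (A 0 0 + A 1 1) * A 0 1 = 0 := by linear_combination e01
    exact (mul_eq_zero.mp this).resolve_left htr0
  have hc : A 1 0 = 0 := by
    have : (A 0 0 + A 1 1) * A 1 0 = 0 := by linear_combination e10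
    exact (mul_eq_zero.mp this).resolve_left htr0
  rw [hb] at e00 hdet
  have hsq : (A 0 0 - 1) * (A 0 0 + 1) = 0 := by linear_combination e00
  have had : A 0 0 = A 1 1 := by
    have : A 0 0 * (A 0 0 - A 1 1) = 0 := by linear_combination e00 - hdet
    have ha0 : A 0 0 ≠ 0 := by
      intro h0; rw [h0] at e00; simp at e00
    have := (mul_eq_zero.mp this).resolve_left ha0
    linear_combination this
  rcases mul_eq_zero.mp hsq with h1 | h1
  · left
    have ha : A 0 0 = 1 := by linear_combination h1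
    apply sl2_ext
    · rw [o00, ha]
    · rw [o01, hb]
    · rw [o10, hc]
    · rw [o11, ← had, ha]
  · right
    have ha : A 0 0 = -1 := by linear_combination h1
    apply sl2_ext <;> simp only [negOne, mkSL2_00, mkSL2_01, mkSL2_10, mkSL2_11]
    · exact ha
    · exact hb
    · exact hc
    · rw [← had, ha]

/-- An element inverting a non-central element has trace zero. -/
theorem tr2_eq_zero_of_inverts {y g : SL₂(F)} (hy : y ∉ Subgroup.center (SL₂(F)))
    (h : g * y * g⁻¹ = y⁻¹) : tr2 g = 0 := by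
  rw [sl2_mem_center_iff] at hy
  have h' : g * y = y⁻¹ * g := by rw [← h]; group
  have e00 := congrArg (fun M : SL₂(F) => M 0 0) h'
  have e01 := congrArg (fun M : SL₂(F) => M 0 1) h'
  have e10 := congrArg (fun M : SL₂(F) => M 1 0) h'
  have e11 := congrArg (fun M : SL₂(F) => M 1 1) h'
  simp only [sl2_mul_00, sl2_mul_01, sl2_mul_10, sl2_mul_11, sl2_inv_00, sl2_inv_01, sl2_inv_10,
    sl2_inv_11] at e00 e01 e10 e11
  by_contra htr
  apply hy
  have k1 : tr2 g * y 0 1 = 0 := by rw [tr2]; linear_combination e01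
  have k2 : tr2 g * y 1 0 = 0 := by rw [tr2]; linear_combination e10
  have k3 : tr2 g * (y 0 0 - y 1 1) = 0 := by rw [tr2]; linear_combination e00 - e11
  refine ⟨(mul_eq_zero.mp k1).resolve_left htr, (mul_eq_zero.mp k2).resolve_left htr, ?_⟩
  have := (mul_eq_zero.mp k3).resolve_left htr
  linear_combination this

theorem mul_self_of_tr2_eq_zero {g : SL₂(F)} (h : tr2 g = 0) :
    ((g * g : SL₂(F)) : Matrix (Fin 2) (Fin 2) F) = -1 := by
  rw [Matrix.SpecialLinearGroup.coe_mul, mat2_sq_eq _ g.det_coe, ← tr2_eq_trace, h, zero_smul,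
    zero_sub]

end General

section Torus

variable {F : Type*} [Field F] [Fintype F]

theorem two_ne_zero_of_odd (hodd : Fintype.card F % 2 = 1) : (2 : F) ≠ 0 := by
  intro h
  have h4 : (Fintype.card F : F) = 0 := Nat.cast_card_eq_zero F
  have : (Fintype.card F : F) = 1 := by
    have hq : Fintype.card F = 2 * (Fintype.card F / 2) + 1 := by omega
    rw [hq]; push_cast; rw [h]; ring
  rw [this] at h4
  exact one_ne_zero h4

omit [Fintype F] in
theorem eq_one_or_negOne_of_mem_center {A : SL₂(F)} (hA : A ∈ Subgroup.center (SL₂(F))) :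
    A = 1 ∨ A = negOne := by
  rcases sl2_center_cases hA with ⟨z00, z01, z10, z11⟩ | ⟨z00, z01, z10, z11⟩
  · left
    apply sl2_ext <;> simp [z00, z01, z10, z11]
  · right
    apply sl2_ext <;> simp [negOne, z00, z01, z10, z11]

/-- The normaliser of a maximal torus `⟨y⟩` of `SL₂(q)`, `q` odd: order, class number, and the
squares of the elements outside the torus. -/
theorem torus_normalizer (hodd : Fintype.card F % 2 = 1) {y : SL₂(F)}
    {l : AlgebraicClosure F} (hl0 : l ≠ 0)
    (hl : l + l⁻¹ = algebraMap F (AlgebraicClosure F) (tr2 y)) (hl2 : l ^ 2 ≠ 1)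
    (hC : Subgroup.centralizer ({y} : Set (SL₂(F))) = Subgroup.zpowers y) (m : ℕ)
    (hm : orderOf y = 2 * m) :
    Nat.card (Subgroup.normalizer ((Subgroup.zpowers y : Subgroup (SL₂(F))) : Set (SL₂(F)))) =
        2 * (2 * m) ∧
      Nat.card (ConjClasses (Subgroup.normalizer
        ((Subgroup.zpowers y : Subgroup (SL₂(F))) : Set (SL₂(F))))) = m + 3 ∧
      ∀ g : SL₂(F), g ∈ Subgroup.normalizer
        ((Subgroup.zpowers y : Subgroup (SL₂(F))) : Set (SL₂(F))) →
        g ∉ Subgroup.zpowers y → ((g * g : SL₂(F)) : Matrix (Fin 2) (Fin 2) F) = -1 := by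
  classical
  have h2 : (2 : F) ≠ 0 := two_ne_zero_of_odd hodd
  have hτ4 : tr2 y ^ 2 ≠ 4 := Cfsg.Agent.S2430.tr2_sq_ne_four_of_eigen _ hl0 hl hl2
  have hyc : y ∉ Subgroup.center (SL₂(F)) := not_mem_center_of_tr2_sq_ne_four hτ4
  set T := Subgroup.zpowers y with hT
  set N := Subgroup.normalizer ((T : Subgroup (SL₂(F))) : Set (SL₂(F))) with hN
  have hTN : T ≤ N := Subgroup.le_normalizer
  have hcardT : Nat.card T = 2 * m := by rw [hT, Nat.card_zpowers, hm]
  have hcardN : Nat.card N = 2 * (2 * m) := by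
    rw [hN, hT, Cfsg.Agent.S2430.card_normalizer hodd hl0 hl hl2, hC, Nat.card_zpowers, hm]
  -- elements of N outside T invert y
  have hinvert : ∀ g : SL₂(F), g ∈ N → g ∉ T → g * y * g⁻¹ = y⁻¹ := by
    intro g hg hgT
    have hg1 : g * y * g⁻¹ ∈ Subgroup.zpowers y :=
      ((Subgroup.mem_normalizer_iff.mp hg) y).mp (Subgroup.mem_zpowers y)
    rcases Cfsg.Agent.S2430.conj_eq_or_eq_inv hl0 hl hl2 g hg1 with h | h
    · exfalso
      apply hgT
      show g ∈ T
      rw [← hC]
      exact (Cfsg.Agent.S2430.mem_centralizer_singleton_iff g y).mpr h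
    · exact h
  refine ⟨hcardN, ?_, ?_⟩
  · -- class number
    have hzT : (negOne : SL₂(F)) ∈ T := by
      rw [← hC]
      exact Subgroup.center_le_centralizer _ negOne_mem_center
    have hzN : (negOne : SL₂(F)) ∈ N := hTN hzT
    have hm1 : 1 ≤ m := by
      have := orderOf_pos y
      omega
    apply card_conjClasses_dicyclic (G := N) (T.subgroupOf N) ⟨negOne, hzN⟩ m
    · -- index
      have h1 := Subgroup.card_mul_index (T.subgroupOf N)
      rw [Nat.card_congr (Subgroup.subgroupOfEquivOfLe hTN).toEquiv, hcardT, hcardN] at h1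
      have : 2 * m * (T.subgroupOf N).index = 2 * m * 2 := by rw [h1]; ring
      exact Nat.eq_of_mul_eq_mul_left (by omega) this
    · rw [Nat.card_congr (Subgroup.subgroupOfEquivOfLe hTN).toEquiv, hcardT]
    · rw [Subgroup.mem_subgroupOf]; exact hzT
    · intro h
      exact negOne_ne_one h2 (congrArg Subtype.val h)
    · intro g
      apply Subtype.ext
      exact (Subgroup.mem_center_iff.mp negOne_mem_center (g : SL₂(F)))
    · intro s hs t ht
      rw [Subgroup.mem_subgroupOf] at hs ht
      obtain ⟨a, ha⟩ := Subgroup.mem_zpowers_iff.mp hs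
      obtain ⟨b, hb⟩ := Subgroup.mem_zpowers_iff.mp ht
      apply Subtype.ext
      show (s : SL₂(F)) * (t : SL₂(F)) = (t : SL₂(F)) * (s : SL₂(F))
      rw [← ha, ← hb, ← zpow_add, ← zpow_add, add_comm]
    · intro t ht ht1 htz h hcomm
      rw [Subgroup.mem_subgroupOf] at ht ⊢
      have htc : (t : SL₂(F)) ∉ Subgroup.center (SL₂(F)) := by
        intro hc
        rcases eq_one_or_negOne_of_mem_center hc with h1 | h1
        · exact ht1 (Subtype.ext h1)
        · exact htz (Subtype.ext h1)
      have hcomm' : (h : SL₂(F)) * (t : SL₂(F)) = (t : SL₂(F)) * (h : SL₂(F)) :=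
        congrArg Subtype.val hcomm
      have hyt : y * (t : SL₂(F)) = (t : SL₂(F)) * y := by
        obtain ⟨b, hb⟩ := Subgroup.mem_zpowers_iff.mp ht
        rw [← hb]
        exact ((Commute.refl y).zpow_right b).eq
      have := commute_of_commute_noncentral htc hcomm' hyt
      rw [← hC, Subgroup.mem_centralizer_singleton_iff]
      exact this
    · intro g hg t ht
      rw [Subgroup.mem_subgroupOf] at hg ht
      have hinv := hinvert (g : SL₂(F)) g.2 hg
      obtain ⟨b, hb⟩ := Subgroup.mem_zpowers_iff.mp ht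
      apply Subtype.ext
      show (g : SL₂(F)) * (t : SL₂(F)) * (g : SL₂(F))⁻¹ = (t : SL₂(F))⁻¹
      rw [← hb, ← conj_zpow, hinv, inv_zpow]
    · intro t ht htt
      have htt' : (t : SL₂(F)) * (t : SL₂(F)) = 1 := congrArg Subtype.val htt
      rcases eq_one_or_negOne_of_mul_self h2 htt' with h1 | h1
      · left; exact Subtype.ext h1
      · right; exact Subtype.ext h1
  · intro g hg hgT
    have hinv := hinvert g hg hgT
    exact mul_self_of_tr2_eq_zero (tr2_eq_zero_of_inverts hyc hinv)

end Torus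

section Final

variable {F : Type*} [Field F] [Fintype F]

omit [Fintype F] in
/-- A root of the characteristic polynomial in `F` has an eigenvector in `F²`. -/
theorem exists_eigenvector_of_root (g : SL₂(F)) (a : F) (ha : a * (tr2 g - a) = 1) :
    ∃ v : Fin 2 → F, v ≠ 0 ∧ (g : Matrix (Fin 2) (Fin 2) F).mulVec v = a • v := by
  have hdet := sl2_det g
  rw [tr2] at ha
  by_cases h1 : g 0 1 = 0 ∧ a - g 0 0 = 0
  · by_cases h2 : a - g 1 1 = 0 ∧ g 1 0 = 0
    · refine ⟨![1, 0], ?_, ?_⟩
      · intro h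
        have := congrFun h 0
        simp at this
      · funext i
        fin_cases i
        · simp [Matrix.mulVec, dotProduct, Fin.sum_univ_two]
          linear_combination -h1.2
        · simp [Matrix.mulVec, dotProduct, Fin.sum_univ_two]
          exact h2.2
    · refine ⟨![a - g 1 1, g 1 0], ?_, ?_⟩
      · intro h
        apply h2
        have e0 := congrFun h 0
        have e1 := congrFun h 1
        simp at e0 e1
        exact ⟨e0, e1⟩
      · funext i
        fin_cases i
        · simp [Matrix.mulVec, dotProduct, Fin.sum_univ_two]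
          linear_combination ha - hdet
        · simp [Matrix.mulVec, dotProduct, Fin.sum_univ_two]
          ring
  · refine ⟨![g 0 1, a - g 0 0], ?_, ?_⟩
    · intro h
      apply h1
      have e0 := congrFun h 0
      have e1 := congrFun h 1
      simp at e0 e1
      exact ⟨e0, e1⟩
    · funext i
      fin_cases i
      · simp [Matrix.mulVec, dotProduct, Fin.sum_univ_two]
        ring
      · simp [Matrix.mulVec, dotProduct, Fin.sum_univ_two]
        linear_combination ha - hdet

/-- A trace whose eigenvalue is not in `F` is nonsplit. -/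
theorem nonsplit_of_not_pow {x : SL₂(F)} {l : AlgebraicClosure F} (hl0 : l ≠ 0)
    (hl : l + l⁻¹ = algebraMap F (AlgebraicClosure F) (tr2 x))
    (hnot : l ^ (Fintype.card F - 1) ≠ 1) : ∀ a : F, a * (tr2 x - a) ≠ 1 := by
  intro a ha
  apply hnot
  have hll : l * l⁻¹ = 1 := mul_inv_cancel₀ hl0
  have ha' := congrArg (algebraMap F (AlgebraicClosure F)) ha
  rw [map_mul, map_sub, ← hl, map_one] at ha'
  set α := algebraMap F (AlgebraicClosure F) a with hα
  have hprod : (α - l) * (α - l⁻¹) = 0 := by linear_combination -ha' + hll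
  have ha0 : a ≠ 0 := by
    rintro rfl
    rw [zero_mul] at ha
    exact zero_ne_one ha
  have hapow : a ^ (Fintype.card F - 1) = 1 := FiniteField.pow_card_sub_one_eq_one a ha0
  have hαpow : α ^ (Fintype.card F - 1) = 1 := by rw [hα, ← map_pow, hapow, map_one]
  rcases mul_eq_zero.mp hprod with h | h
  · have : l = α := by linear_combination -h
    rw [this]; exact hαpow
  · have : l⁻¹ = α := by linear_combination -h
    have h2 : l = α⁻¹ := by rw [← this, inv_inv]
    rw [h2, inv_pow, hαpow, inv_one]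

/-- Let F be a finite field with q elements, q odd. Then SL₂ over F contains a cyclic subgroup T′ of order q + 1 (a non-split torus) with the following properties: T′ is its own centraliser, and indeed the centraliser of each element of T′ other than 1 and −1 is exactly T′; every element of SL₂ having no eigenvector in F² is conjugate to an element of T′; the normaliser of T′ has order 2(q + 1) and exactly (q + 7)/2 conjugacy classes; and every element of that normaliser outside T′ has square −1. -/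
theorem result {F : Type*} [Field F] [Fintype F] (hodd : Odd (Fintype.card F)) :
    ∃ T' : Subgroup (Matrix.SpecialLinearGroup (Fin 2) F), IsCyclic T' ∧ Nat.card T' = Fintype.card F + 1 ∧
      Subgroup.centralizer ((T' : Set (Matrix.SpecialLinearGroup (Fin 2) F))) = T' ∧
      (∀ g : Matrix.SpecialLinearGroup (Fin 2) F, g ∈ T' → (g : Matrix (Fin 2) (Fin 2) F) ≠ 1 → (g : Matrix (Fin 2) (Fin 2) F) ≠ -1 → Subgroup.centralizer ({g} : Set (Matrix.SpecialLinearGroup (Fin 2) F)) = T') ∧
      (∀ g : Matrix.SpecialLinearGroup (Fin 2) F, (∀ (c : F) (v : Fin 2 → F), v ≠ 0 → (g : Matrix (Fin 2) (Fin 2) F).mulVec v ≠ c • v) → ∃ h : Matrix.SpecialLinearGroup (Fin 2) F, h * g * h⁻¹ ∈ T') ∧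
      Nat.card (Subgroup.normalizer (T' : Set (Matrix.SpecialLinearGroup (Fin 2) F))) = 2 * (Fintype.card F + 1) ∧
      Nat.card (ConjClasses (Subgroup.normalizer (T' : Set (Matrix.SpecialLinearGroup (Fin 2) F)))) = (Fintype.card F + 7) / 2 ∧
      ∀ g : Matrix.SpecialLinearGroup (Fin 2) F, g ∈ Subgroup.normalizer (T' : Set (Matrix.SpecialLinearGroup (Fin 2) F)) → g ∉ T' → ((g * g) : Matrix (Fin 2) (Fin 2) F) = -1 := by
  classical
  have hodd' : Fintype.card F % 2 = 1 := Nat.odd_iff.mp hodd
  set q := Fintype.card F with hq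
  have hq2 : 2 ≤ q := Fintype.one_lt_card
  have hq3 : 3 ≤ q := by omega
  obtain ⟨t₀, l₀, hl₀0, hord, hl₀t⟩ := exists_trace_orderOf_card_add_one (F := F)
  rw [← hq] at hord
  have hl₀2 : l₀ ^ 2 ≠ 1 := by
    intro h
    have := orderOf_le_of_pow_eq_one (by norm_num) h
    omega
  have htr₀ : l₀ + l₀⁻¹ = algebraMap F (AlgebraicClosure F) (tr2 (compSL2 t₀)) := by
    rw [tr2_compSL2]; exact hl₀t
  have hy : orderOf (compSL2 t₀) = q + 1 := by
    rw [Cfsg.Agent.S0261.orderOf_eq_of_eigen _ hl₀0 htr₀ hl₀2, hord]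
  have hτ4 : tr2 (compSL2 t₀) ^ 2 ≠ 4 :=
    Cfsg.Agent.S2430.tr2_sq_ne_four_of_eigen _ hl₀0 htr₀ hl₀2
  have hnot : l₀ ^ (q - 1) ≠ 1 := by
    intro h
    have h1 : q + 1 ∣ q - 1 := by rw [← hord]; exact orderOf_dvd_of_pow_eq_one h
    have := Nat.le_of_dvd (by omega) h1
    omega
  have hcardC : Nat.card (Subgroup.centralizer ({compSL2 t₀} : Set (SL₂(F)))) = q + 1 :=
    Cfsg.Agent.S2430.card_centralizer_nonsplit hodd' hτ4 (nonsplit_of_not_pow hl₀0 htr₀ hnot)
  have hC : Subgroup.centralizer ({compSL2 t₀} : Set (SL₂(F))) = Subgroup.zpowers (compSL2 t₀) := by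
    symm
    apply Subgroup.eq_of_le_of_card_ge
    · intro z hz
      obtain ⟨k, rfl⟩ := Subgroup.mem_zpowers_iff.mp hz
      rw [Subgroup.mem_centralizer_singleton_iff]
      exact ((Commute.refl (compSL2 t₀)).zpow_left k).eq
    · rw [hcardC, Nat.card_zpowers, hy]
  have hm : orderOf (compSL2 t₀) = 2 * ((q + 1) / 2) := by
    rw [hy]; omega
  obtain ⟨hN1, hN2, hN3⟩ := torus_normalizer hodd' hl₀0 htr₀ hl₀2 hC ((q + 1) / 2) hm
  have hyc : compSL2 t₀ ∉ Subgroup.center (SL₂(F)) := not_mem_center_of_tr2_sq_ne_four hτ4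
  refine ⟨Subgroup.zpowers (compSL2 t₀), inferInstance, ?_, ?_, ?_, ?_, ?_, ?_, hN3⟩
  · rw [Nat.card_zpowers, hy]
  · rw [Cfsg.Agent.S2430.centralizer_zpowers, hC]
  · intro g hg hg1 hgn1
    have hgc : g ∉ Subgroup.center (SL₂(F)) := by
      intro hc
      rcases eq_one_or_negOne_of_mem_center hc with h1 | h1
      · apply hg1; rw [h1]; rfl
      · apply hgn1; rw [h1]; exact negOne_coe
    have hyg : compSL2 t₀ * g = g * compSL2 t₀ := by
      obtain ⟨b, hb⟩ := Subgroup.mem_zpowers_iff.mp hg
      rw [← hb]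
      exact ((Commute.refl (compSL2 t₀)).zpow_right b).eq
    ext h
    rw [Subgroup.mem_centralizer_singleton_iff]
    constructor
    · intro hh
      have := commute_of_commute_noncentral hgc hh hyg
      rw [← hC, Subgroup.mem_centralizer_singleton_iff]
      exact this
    · intro hh
      obtain ⟨a, ha⟩ := Subgroup.mem_zpowers_iff.mp hh
      obtain ⟨b, hb⟩ := Subgroup.mem_zpowers_iff.mp hg
      rw [← ha, ← hb, ← zpow_add, ← zpow_add, add_comm]
  · intro g hg
    obtain ⟨l, hl0, hl, hlq⟩ := exists_eigen (tr2 g)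
    rw [← hq] at hlq
    have hnotg : l ^ (q - 1) ≠ 1 := by
      intro h
      have hlq' : l ^ q = l := by
        have : l ^ (q - 1 + 1) = l := by rw [pow_succ, h, one_mul]
        rwa [Nat.sub_add_cancel (by omega)] at this
      obtain ⟨a, ha⟩ := mem_range_of_pow_card_eq (F := F) l hlq'
      have hroot : a * (tr2 g - a) = 1 := by
        apply (algebraMap F (AlgebraicClosure F)).injective
        rw [map_mul, map_sub, ha, ← hl, map_one]
        linear_combination mul_inv_cancel₀ hl0
      obtain ⟨v, hv0, hv⟩ := exists_eigenvector_of_root g a hroot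
      exact hg a v hv0 hv
    have hlq1 : l ^ (q + 1) = 1 := hlq.resolve_left hnotg
    have hl2 : l ^ 2 ≠ 1 := by
      intro h
      apply hnotg
      obtain ⟨r, hr⟩ : ∃ r, q - 1 = 2 * r := ⟨(q - 1) / 2, by omega⟩
      rw [hr, pow_mul, h, one_pow]
    have : NeZero (q + 1) := ⟨by omega⟩
    have hprim : IsPrimitiveRoot l₀ (q + 1) := hord ▸ IsPrimitiveRoot.orderOf l₀
    obtain ⟨e, -, hle⟩ := hprim.eq_pow_of_pow_eq_one hlq1
    have htr : tr2 (compSL2 t₀ ^ e) = tr2 g := by
      have h1 := Cfsg.Agent.S2430.tr2_pow_eigen _ hl₀0 htr₀ e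
      rw [hle, hl] at h1
      exact ((algebraMap F (AlgebraicClosure F)).injective h1).symm
    have hτ4g : tr2 g ^ 2 ≠ 4 := Cfsg.Agent.S2430.tr2_sq_ne_four_of_eigen _ hl0 hl hl2
    have hτ4' : tr2 (compSL2 t₀ ^ e) ^ 2 ≠ 4 := by rw [htr]; exact hτ4g
    obtain ⟨W, hW⟩ := conj_of_tr2_eq (not_mem_center_of_tr2_sq_ne_four hτ4g)
      (not_mem_center_of_tr2_sq_ne_four hτ4') htr (normUniversal_of_odd hodd' _ hτ4g)
    refine ⟨W, ?_⟩
    rw [hW]
    exact Subgroup.pow_mem _ (Subgroup.mem_zpowers _) e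
  · rw [hN1]; omega
  · rw [hN2]; omega

end Final

end Cfsg.Agent.S2429
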