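import Cfsg.Statements.S5913
-- import your own Cfsg.Agent.* helpers here

set_option autoImplicit false
open Cfsg

namespace Cfsg.Agent.S5913

open scoped commutatorElement

/-- Let S be a non-abelian simple group and n a natural number. Every normal subgroup N of the direct power S^n (functions Fin n → S) is a subproduct: there is a set T of coordinates such that N consists exactly of the elements whose coordinates outside T are trivial. In particular the minimal normal subgroups of S^n are its n factors. -/
theorem result {S : Type*} [Group S] [IsSimpleGroup S] (hS : ¬ IsMulCommutative S) (n : ℕ)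
    (N : Subgroup (Fin n → S)) [N.Normal] :
    ∃ T : Finset (Fin n), ∀ x : Fin n → S, x ∈ N ↔ ∀ i, i ∉ T → x i = 1 := by
  classical
  have hnc : ∃ a b : S, a * b ≠ b * a := by
    by_contra h
    push Not at h
    exact hS ⟨⟨h⟩⟩
  have hcen : Subgroup.center S = ⊥ := by
    rcases (inferInstance : (Subgroup.center S).Normal).eq_bot_or_eq_top with h | h
    · exact h
    · exfalso
      obtain ⟨a, b, hab⟩ := hnc
      have ha : a ∈ Subgroup.center S := h ▸ Subgroup.mem_top a
      exact hab ((Subgroup.mem_center_iff.mp ha b).symm)
  have hfac : ∀ i : Fin n, (∃ y ∈ N, y i ≠ 1) → ∀ s : S, Pi.mulSingle i s ∈ N := by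
    rintro i ⟨y, hyN, hyi⟩ s
    have hnormal : (N.comap (MonoidHom.mulSingle (fun _ : Fin n => S) i)).Normal :=
      Subgroup.Normal.comap inferInstance _
    have hyc : y i ∉ Subgroup.center S := by
      rw [hcen, Subgroup.mem_bot]; exact hyi
    rw [Subgroup.mem_center_iff] at hyc
    push Not at hyc
    obtain ⟨t, ht⟩ := hyc
    have hcomm : ⁅y, (Pi.mulSingle i t : Fin n → S)⁆ ∈ N := by
      rw [commutatorElement_def]
      have h1 : Pi.mulSingle i t * y⁻¹ * (Pi.mulSingle i t)⁻¹ ∈ N :=
        ‹N.Normal›.conj_mem _ (N.inv_mem hyN) _
      have h2 := N.mul_mem hyN h1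
      convert h2 using 1
      group
    have heq : ⁅y, (Pi.mulSingle i t : Fin n → S)⁆ = Pi.mulSingle i ⁅y i, t⁆ := by
      funext j
      by_cases hj : j = i
      · subst hj
        simp [commutatorElement_def]
      · simp [commutatorElement_def, Pi.mulSingle_eq_of_ne hj]
    rw [heq] at hcomm
    have hne : ⁅y i, t⁆ ≠ 1 := by
      intro h
      rw [commutatorElement_eq_one_iff_mul_comm] at h
      exact ht h.symm
    have htop : N.comap (MonoidHom.mulSingle (fun _ : Fin n => S) i) = ⊤ := by
      rcases hnormal.eq_bot_or_eq_top with h | h
      · exfalso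
        have : ⁅y i, t⁆ ∈ N.comap (MonoidHom.mulSingle (fun _ : Fin n => S) i) := hcomm
        rw [h, Subgroup.mem_bot] at this
        exact hne this
      · exact h
    have : s ∈ N.comap (MonoidHom.mulSingle (fun _ : Fin n => S) i) := htop ▸ Subgroup.mem_top s
    exact this
  refine ⟨Finset.univ.filter (fun i => ∃ y ∈ N, y i ≠ 1), fun x => ⟨?_, ?_⟩⟩
  · intro hx i hi
    by_contra h
    exact hi (by simpa using ⟨x, hx, h⟩)
  · intro hx
    have hpart : ∀ U : Finset (Fin n), (fun i => if i ∈ U then x i else 1) ∈ N := by
      intro U
      induction U using Finset.induction_on with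
      | empty =>
        have : (fun i => if i ∈ (∅ : Finset (Fin n)) then x i else 1) = (1 : Fin n → S) := by
          funext i; simp
        rw [this]; exact N.one_mem
      | insert a U ha ih =>
        have hmem : Pi.mulSingle a (x a) ∈ N := by
          by_cases hT : ∃ y ∈ N, y a ≠ 1
          · exact hfac a hT (x a)
          · have : x a = 1 := hx a (by simpa using hT)
            rw [this, Pi.mulSingle_one]
            exact N.one_mem
        have := N.mul_mem ih hmem
        convert this using 1
        funext j
        by_cases hj : j = a
        · subst hj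
          simp [ha]
        · simp [hj, Pi.mulSingle_eq_of_ne hj]
    have := hpart Finset.univ
    simpa using this

end Cfsg.Agent.S5913
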