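import Cfsg.Statements.S5914
import Cfsg.Agent.S5913

set_option autoImplicit false
open Cfsg

namespace Cfsg.Agent.S5914


theorem exists_linearEquiv_apply_eq {K V : Type*} [Field K] [AddCommGroup V] [Module K V]
    (v w : V) (hv : v ≠ 0) (hw : w ≠ 0) : ∃ g : V ≃ₗ[K] V, g v = w := by
  let e1 := LinearEquiv.toSpanNonzeroSingleton K V v hv
  let e2 := LinearEquiv.toSpanNonzeroSingleton K V w hw
  obtain ⟨g, hg⟩ := Submodule.exists_linearEquiv_restrict_eq (e1.symm.trans e2)
  refine ⟨g, ?_⟩
  have h2 := hg ⟨v, Submodule.mem_span_singleton_self _⟩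
  rw [← h2]
  have h3 : e1.symm ⟨v, Submodule.mem_span_singleton_self _⟩ = 1 := by
    rw [LinearEquiv.symm_apply_eq]
    ext
    simp [e1]
  simp [h3, e2]

/-- A characteristic subgroup of an elementary abelian `p`-group is trivial or everything. -/
theorem char_of_elementary {G : Type*} [CommGroup G] (p : ℕ) [hp : Fact p.Prime]
    (hexp : ∀ x : G, x ^ p = 1) (H : Subgroup G) (hH : H.Characteristic) : H = ⊥ ∨ H = ⊤ := by
  by_contra hcon
  push Not at hcon
  obtain ⟨h0, h1⟩ := hcon
  obtain ⟨x, hxH, hx1⟩ : ∃ x ∈ H, x ≠ 1 := by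
    by_contra h
    push Not at h
    exact h0 ((Subgroup.eq_bot_iff_forall H).mpr h)
  obtain ⟨y, hyH⟩ : ∃ y, y ∉ H := by
    by_contra h
    push Not at h
    exact h1 ((Subgroup.eq_top_iff' H).mpr h)
  have hy1 : y ≠ 1 := fun h => hyH (h ▸ H.one_mem)
  let inst : Module (ZMod p) (Additive G) := AddCommGroup.zmodModule (n := p) (by
    intro v
    exact hexp (Additive.toMul v))
  have hv : Additive.ofMul x ≠ 0 := fun h => hx1 h
  have hw : Additive.ofMul y ≠ 0 := fun h => hy1 h
  obtain ⟨g, hgx⟩ := exists_linearEquiv_apply_eq (K := ZMod p) _ _ hv hw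
  let φ : G ≃* G := MulEquiv.toAdditive.symm g.toAddEquiv
  have hφx : φ x = y := hgx
  have := (Subgroup.characteristic_iff_map_le.mp hH φ) ⟨x, hxH, rfl⟩
  rw [MulEquiv.coe_toMonoidHom, hφx] at this
  exact hyH this

/-- Permuting coordinates as an automorphism of a power. -/
def permAut {S : Type*} [Group S] (n : ℕ) (σ : Equiv.Perm (Fin n)) :
    (Fin n → S) ≃* (Fin n → S) where
  toFun x := x ∘ σ
  invFun x := x ∘ σ.symm
  left_inv x := by
    funext i
    simp
  right_inv x := by
    funext i
    simp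
  map_mul' x y := rfl

theorem char_simple_of_iso_pow {G : Type*} [Group G] [Finite G] {S : Type*} [Group S]
    [IsSimpleGroup S] (n : ℕ) (e : G ≃* (Fin n → S)) (H : Subgroup G) (hH : H.Characteristic) :
    H = ⊥ ∨ H = ⊤ := by
  classical
  rcases Nat.eq_zero_or_pos n with hn | hn
  · subst hn
    left
    have : Subsingleton G := e.toEquiv.subsingleton
    exact Subsingleton.elim _ _
  have hinj : Function.Injective (fun s : S => e.symm (Pi.mulSingle (⟨0, hn⟩ : Fin n) s)) := by
    intro s t hst
    have := e.symm.injective hst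
    exact Pi.mulSingle_injective (⟨0, hn⟩ : Fin n) this
  have hSfin : Finite S := Finite.of_injective _ hinj
  by_cases hS : ∀ a b : S, a * b = b * a
  · -- commutative case
    have hGcomm : ∀ x y : G, x * y = y * x := by
      intro x y
      apply e.injective
      rw [map_mul, map_mul]
      funext i
      exact hS _ _
    let instS : CommGroup S := { (inferInstance : Group S) with mul_comm := hS }
    have hprime : (Nat.card S).Prime := @IsSimpleGroup.prime_card S instS _
    have : Fact (Nat.card S).Prime := ⟨hprime⟩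
    have hexp : ∀ x : G, x ^ (Nat.card S) = 1 := by
      intro x
      apply e.injective
      rw [map_pow, map_one]
      funext i
      exact pow_card_eq_one'
    let instG : CommGroup G := { (inferInstance : Group G) with mul_comm := hGcomm }
    exact @char_of_elementary G instG (Nat.card S) _ hexp H hH
  · -- non-commutative case
    have hS' : ¬ IsMulCommutative S := fun h => hS (fun a b => h.is_comm.comm a b)
    have hHn : H.Normal := Subgroup.normal_of_characteristic H
    have hH'n : (H.map e.toMonoidHom).Normal := hHn.map _ e.surjective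
    obtain ⟨T, hT⟩ := Cfsg.Agent.S5913.result hS' n (H.map e.toMonoidHom)
    -- invariance under automorphisms
    have hinv : ∀ φ : (Fin n → S) ≃* (Fin n → S), ∀ x ∈ H.map e.toMonoidHom,
        φ x ∈ H.map e.toMonoidHom := by
      rintro φ _ ⟨h, hh, rfl⟩
      refine ⟨e.symm (φ (e h)), ?_, by simp⟩
      have := (Subgroup.characteristic_iff_map_le.mp hH ((e.trans φ).trans e.symm)) ⟨h, hh, rfl⟩
      simpa using this
    by_cases hTe : T = ∅
    · left
      rw [eq_bot_iff]
      intro h hh
      have h1 : e h ∈ H.map e.toMonoidHom := ⟨h, hh, rfl⟩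
      rw [hT, hTe] at h1
      have h2 : e h = 1 := by
        funext i
        exact h1 i (by simp)
      rw [Subgroup.mem_bot]
      exact e.injective (h2.trans (map_one e).symm)
    by_cases hTu : T = Finset.univ
    · right
      rw [eq_top_iff]
      intro h _
      have h1 : e h ∈ H.map e.toMonoidHom := by
        rw [hT, hTu]
        intro i hi
        exact absurd (Finset.mem_univ i) hi
      obtain ⟨h', hh', heq⟩ := h1
      have : h' = h := e.injective heq
      exact this ▸ hh'
    exfalso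
    obtain ⟨i, hi⟩ := Finset.nonempty_iff_ne_empty.mpr hTe
    obtain ⟨j, hj⟩ : ∃ j, j ∉ T := by
      by_contra h
      push Not at h
      exact hTu (Finset.eq_univ_iff_forall.mpr h)
    obtain ⟨s, hs⟩ := exists_ne (1 : S)
    have h1 : (Pi.mulSingle i s : Fin n → S) ∈ H.map e.toMonoidHom := by
      rw [hT]
      intro k hk
      have : k ≠ i := fun h => hk (h ▸ hi)
      exact Pi.mulSingle_eq_of_ne (M := fun _ : Fin n => S) this s
    have h2 := hinv (permAut n (Equiv.swap i j)) _ h1
    rw [hT] at h2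
    have h3 := h2 j hj
    simp only [permAut, MulEquiv.coe_mk, Equiv.coe_fn_mk, Function.comp_apply,
      Equiv.swap_apply_right, Pi.mulSingle_eq_same] at h3
    exact hs h3



theorem extend_hom {G : Type*} [Group G] (N : Subgroup G) (k : ℕ) (ψ : (Fin k → N) →* G)
    (hψ : Function.Injective ψ) (hn : ψ.range.Normal) (φ : G ≃* G) (hN : N.Normal)
    (hdis : Disjoint (N.map φ.toMonoidHom) ψ.range) :
    ∃ ψ' : (Fin (k + 1) → N) →* G, Function.Injective ψ' ∧ ψ'.range.Normal := by
  have hN' : (N.map φ.toMonoidHom).Normal := hN.map _ φ.surjective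
  have hcomm : ∀ (n : N) (y : Fin k → N), Commute (φ (n : G)) (ψ y) := by
    intro n y
    exact Subgroup.commute_of_normal_of_disjoint _ _ hN' hn hdis _ _ ⟨n, n.2, rfl⟩ ⟨y, rfl⟩
  let f : (Fin (k + 1) → N) → G := fun x => ψ (fun i => x i.castSucc) * φ (x (Fin.last k) : G)
  have hmul : ∀ x y, f (x * y) = f x * f y := by
    intro x y
    have h1 : (fun i : Fin k => (x * y) i.castSucc) =
        (fun i : Fin k => x i.castSucc) * (fun i : Fin k => y i.castSucc) := rfl
    change ψ (fun i => (x * y) i.castSucc) * φ ((x * y) (Fin.last k) : G) = _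
    rw [h1, map_mul, Pi.mul_apply, Subgroup.coe_mul, map_mul]
    have := (hcomm (x (Fin.last k)) (fun i => y i.castSucc)).eq
    calc ψ (fun i => x i.castSucc) * ψ (fun i => y i.castSucc) *
          (φ (x (Fin.last k) : G) * φ (y (Fin.last k) : G))
        = ψ (fun i => x i.castSucc) * (ψ (fun i => y i.castSucc) * φ (x (Fin.last k) : G)) *
          φ (y (Fin.last k) : G) := by group
      _ = ψ (fun i => x i.castSucc) * (φ (x (Fin.last k) : G) * ψ (fun i => y i.castSucc)) *
          φ (y (Fin.last k) : G) := by rw [this]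
      _ = _ := by
        change _ = ψ (fun i => x i.castSucc) * φ (x (Fin.last k) : G) *
          (ψ (fun i => y i.castSucc) * φ (y (Fin.last k) : G))
        group
  refine ⟨MonoidHom.mk' f hmul, ?_, ?_⟩
  · rw [injective_iff_map_eq_one]
    intro x hx
    change ψ (fun i => x i.castSucc) * φ (x (Fin.last k) : G) = 1 at hx
    have h1 : φ (x (Fin.last k) : G) = (ψ (fun i => x i.castSucc))⁻¹ :=
      (eq_inv_of_mul_eq_one_right hx)
    have h2 : φ (x (Fin.last k) : G) ∈ N.map φ.toMonoidHom ⊓ ψ.range := by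
      refine ⟨⟨_, (x (Fin.last k)).2, rfl⟩, ?_⟩
      rw [h1]
      exact ψ.range.inv_mem ⟨_, rfl⟩
    rw [disjoint_iff.mp hdis, Subgroup.mem_bot] at h2
    have h3 : (x (Fin.last k) : G) = 1 := by
      have := φ.injective (h2.trans (map_one φ).symm)
      exact this
    have h4 : ψ (fun i => x i.castSucc) = 1 := by
      rw [h2, mul_one] at hx
      exact hx
    have h5 : (fun i : Fin k => x i.castSucc) = 1 := hψ (h4.trans (map_one ψ).symm)
    funext i
    refine Fin.lastCases ?_ (fun j => ?_) i
    · exact Subtype.ext h3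
    · exact congrFun h5 j
  · constructor
    rintro _ ⟨x, rfl⟩ g
    change g * (ψ (fun i => x i.castSucc) * φ (x (Fin.last k) : G)) * g⁻¹ ∈ _
    obtain ⟨z', hz'⟩ := hn.conj_mem _ ⟨fun i => x i.castSucc, rfl⟩ g
    obtain ⟨n, hnN, hn'⟩ := hN'.conj_mem _ ⟨_, (x (Fin.last k)).2, rfl⟩ g
    refine ⟨Fin.snoc (α := fun _ => N) z' ⟨n, hnN⟩, ?_⟩
    change ψ (fun i => Fin.snoc (α := fun _ => N) z' ⟨n, hnN⟩ i.castSucc) *
      φ ((Fin.snoc (α := fun _ => N) z' ⟨n, hnN⟩ (Fin.last k) : N) : G) = _
    have h1 : (fun i : Fin k => Fin.snoc (α := fun _ => N) z' ⟨n, hnN⟩ i.castSucc) = z' := by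
      funext i
      simp
    rw [h1, Fin.snoc_last, hz']
    change _ * φ n = _
    have h2 : φ n = g * φ (x (Fin.last k) : G) * g⁻¹ := hn'
    rw [h2]
    group



theorem mulSingle_map_normal {N : Type*} [Group N] (k : ℕ) (i0 : Fin k) (A : Subgroup N)
    (hA : A.Normal) : (A.map (MonoidHom.mulSingle (fun _ : Fin k => N) i0)).Normal := by
  constructor
  rintro _ ⟨a, ha, rfl⟩ g
  refine ⟨g i0 * a * (g i0)⁻¹, hA.conj_mem a ha _, ?_⟩
  funext j
  by_cases hj : j = i0
  · subst hj
    simp
  · simp [Pi.mulSingle_eq_of_ne hj]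

theorem forward {G : Type*} [Group G] [Finite G] [Nontrivial G]
    (hchar : ∀ H : Subgroup G, H.Characteristic → H = ⊥ ∨ H = ⊤) :
    ∃ (S : Type) (_ : Group S) (_ : IsSimpleGroup S) (n : ℕ), 1 ≤ n ∧
      Nonempty (G ≃* (Fin n → S)) := by
  classical
  have hex : ∃ m, ∃ N : Subgroup G, N.Normal ∧ N ≠ ⊥ ∧ Nat.card N = m :=
    ⟨_, ⊤, inferInstance, top_ne_bot, rfl⟩
  obtain ⟨N, hNn, hN0, hNm⟩ := Nat.find_spec hex
  have hmin : ∀ N' : Subgroup G, N'.Normal → N' ≠ ⊥ → Nat.card N ≤ Nat.card N' := by
    intro N' h1 h2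
    rw [hNm]
    exact Nat.find_min' hex ⟨N', h1, h2, rfl⟩
  have hNcard : 1 < Nat.card N := (Subgroup.one_lt_card_iff_ne_bot N).mpr hN0
  let P : ℕ → Prop := fun k => ∃ ψ : (Fin k → N) →* G, Function.Injective ψ ∧ ψ.range.Normal
  have hP0 : P 0 := by
    refine ⟨1, fun x y _ => Subsingleton.elim _ _, ?_⟩
    rw [MonoidHom.range_one]
    infer_instance
  have hbound : ∀ k, P k → k < Nat.card G := by
    rintro k ⟨ψ, hψ, -⟩
    have h1 : Nat.card (Fin k → N) ≤ Nat.card G := Nat.card_le_card_of_injective ψ hψ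
    rw [Nat.card_fun, Nat.card_fin] at h1
    calc k < 2 ^ k := Nat.lt_two_pow_self
      _ ≤ Nat.card N ^ k := Nat.pow_le_pow_left hNcard k
      _ ≤ Nat.card G := h1
  let k₀ := Nat.findGreatest P (Nat.card G)
  have hk₀ : P k₀ := Nat.findGreatest_spec (Nat.zero_le _) hP0
  have hk₀' : ¬ P (k₀ + 1) := by
    intro h
    have h1 := hbound _ h
    exact Nat.findGreatest_is_greatest (Nat.lt_succ_self k₀) h1.le h
  obtain ⟨ψ, hψ, hψn⟩ := hk₀
  -- the range is everything
  have hrange : ψ.range = ⊤ := by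
    by_contra hne
    have hC : (⨆ φ : G ≃* G, N.map φ.toMonoidHom).Characteristic := by
      rw [Subgroup.characteristic_iff_map_le]
      intro χ
      rw [Subgroup.map_iSup]
      apply iSup_le
      intro φ
      rw [Subgroup.map_map]
      exact le_iSup (fun φ : G ≃* G => N.map φ.toMonoidHom) (φ.trans χ)
    have hNC : N ≤ ⨆ φ : G ≃* G, N.map φ.toMonoidHom := by
      have := le_iSup (fun φ : G ≃* G => N.map φ.toMonoidHom) (MulEquiv.refl G)
      simpa using this
    have hCtop : (⨆ φ : G ≃* G, N.map φ.toMonoidHom) = ⊤ := by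
      rcases hchar _ hC with h | h
      · exfalso
        apply hN0
        rw [eq_bot_iff, ← h]
        exact hNC
      · exact h
    have hexφ : ∃ φ : G ≃* G, ¬ N.map φ.toMonoidHom ≤ ψ.range := by
      by_contra h
      push Not at h
      apply hne
      rw [eq_top_iff, ← hCtop]
      exact iSup_le h
    obtain ⟨φ, hφ⟩ := hexφ
    have hN' : (N.map φ.toMonoidHom).Normal := hNn.map _ φ.surjective
    have hcard' : Nat.card (N.map φ.toMonoidHom) = Nat.card N :=
      Subgroup.card_map_of_injective φ.injective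
    have hdis : Disjoint (N.map φ.toMonoidHom) ψ.range := by
      rw [disjoint_iff]
      by_contra hD
      have hDn : (N.map φ.toMonoidHom ⊓ ψ.range).Normal := inferInstance
      have h1 := hmin _ hDn hD
      have h2 : N.map φ.toMonoidHom ⊓ ψ.range = N.map φ.toMonoidHom :=
        Subgroup.eq_of_le_of_card_ge inf_le_left (by rw [hcard']; exact h1)
      apply hφ
      rw [← h2]
      exact inf_le_right
    exact hk₀' (extend_hom N k₀ ψ hψ hψn φ hNn hdis)
  have hsurj : Function.Surjective ψ := MonoidHom.range_eq_top.mp hrange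
  let ψiso : (Fin k₀ → N) ≃* G := MulEquiv.ofBijective ψ ⟨hψ, hsurj⟩
  have hk1 : 1 ≤ k₀ := by
    by_contra h
    have h0 : k₀ = 0 := by omega
    have hsub : Subsingleton (Fin k₀ → N) := by
      rw [h0]
      infer_instance
    have : Subsingleton G := ψiso.symm.toEquiv.subsingleton
    exact not_subsingleton G this
  -- simplicity of N
  have hNnt : Nontrivial N := (Subgroup.nontrivial_iff_ne_bot N).mpr hN0
  have hsimple : IsSimpleGroup N := by
    refine ⟨fun A hA => ?_⟩
    by_cases hA0 : A = ⊥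
    · exact Or.inl hA0
    right
    have hAt := mulSingle_map_normal k₀ ⟨0, hk1⟩ A hA
    have hAn : ((A.map (MonoidHom.mulSingle (fun _ : Fin k₀ => N) ⟨0, hk1⟩)).map ψ).Normal :=
      hAt.map _ hsurj
    have hinj1 : Function.Injective (MonoidHom.mulSingle (fun _ : Fin k₀ => N) ⟨0, hk1⟩) :=
      Pi.mulSingle_injective (M := fun _ : Fin k₀ => N) _
    have hcardA : Nat.card ((A.map (MonoidHom.mulSingle (fun _ : Fin k₀ => N) ⟨0, hk1⟩)).map ψ)
        = Nat.card A := by
      rw [Subgroup.card_map_of_injective hψ, Subgroup.card_map_of_injective hinj1]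
    have hne : (A.map (MonoidHom.mulSingle (fun _ : Fin k₀ => N) ⟨0, hk1⟩)).map ψ ≠ ⊥ := by
      rw [← Subgroup.one_lt_card_iff_ne_bot, hcardA, Subgroup.one_lt_card_iff_ne_bot]
      exact hA0
    have h1 := hmin _ hAn hne
    rw [hcardA] at h1
    exact (Subgroup.card_eq_iff_eq_top A).mp (le_antisymm (Subgroup.card_le_card_group A) h1)
  -- packaging in `Type`
  let e₀ : {i : ℕ // i < Nat.card N} ≃ N := Fin.equivSubtype.symm.trans (Finite.equivFin N).symm
  let instS : Group {i : ℕ // i < Nat.card N} := e₀.group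
  let eS : {i : ℕ // i < Nat.card N} ≃* N := e₀.mulEquiv
  have hSnt : Nontrivial {i : ℕ // i < Nat.card N} := e₀.nontrivial
  have hSsimple : IsSimpleGroup {i : ℕ // i < Nat.card N} :=
    IsSimpleGroup.isSimpleGroup_of_surjective eS.symm.toMonoidHom eS.symm.surjective
  exact ⟨{i : ℕ // i < Nat.card N}, instS, hSsimple, k₀, hk1,
    ⟨ψiso.symm.trans (MulEquiv.piCongrRight (fun _ => eS.symm))⟩⟩


/-- A non-trivial finite group G is characteristically simple (its only characteristic subgroups are 1 and G) if and only if G is isomorphic to a direct power S^n (n ≥ 1) of some simple group S (possibly cyclic of prime order). -/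
theorem result {G : Type*} [Group G] [Finite G] [Nontrivial G] :
    (∀ H : Subgroup G, H.Characteristic → H = ⊥ ∨ H = ⊤) ↔
    ∃ (S : Type) (_ : Group S) (_ : IsSimpleGroup S) (n : ℕ), 1 ≤ n ∧ Nonempty (G ≃* (Fin n → S)) := by
  constructor
  · exact forward
  · rintro ⟨S, _, _, n, -, ⟨e⟩⟩ H hH
    exact char_simple_of_iso_pow n e H hH

end Cfsg.Agent.S5914
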