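import Cfsg.Statements.S0894
import Cfsg.Agent.Lib.Helper79.Basic
import Cfsg.Agent.Lib.Helper79.Abelian
import Cfsg.Agent.Lib.Helper79.Classes
import Cfsg.Agent.Lib.Helper80.IrrApi
import Cfsg.Agent.Lib.Helper3.Ortho

set_option autoImplicit false
open Cfsg

namespace Cfsg.Agent.S0894

open Subgroup
open scoped ComplexConjugate commutatorElement

universe u
variable {G : Type u} [Group G]

/-- for central `z`: `χ 1 * χ (a z) = χ a * χ z` -/
theorem central_mul [Fintype G] (χ : IrrCharacter G) (a z : G) (hz : z ∈ center G) :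
    (χ : G → ℂ) 1 * (χ : G → ℂ) (a * z) = (χ : G → ℂ) a * (χ : G → ℂ) z := by
  have h := Cfsg.Agent.Lib.Helper79.irr_one_mul_sum_conj χ a z
  have h1 : ∀ c : G, c * z * c⁻¹ = z := by
    intro c
    rw [mem_center_iff.mp hz c, mul_assoc, mul_inv_cancel, mul_one]
  simp only [h1, Finset.sum_const, Finset.card_univ, nsmul_eq_mul] at h
  rw [← Nat.card_eq_fintype_card] at h
  have hG : (Nat.card G : ℂ) ≠ 0 := by exact_mod_cast Nat.card_pos.ne'
  have : (Nat.card G : ℂ) * ((χ : G → ℂ) 1 * (χ : G → ℂ) (a * z)) =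
      (Nat.card G : ℂ) * ((χ : G → ℂ) a * (χ : G → ℂ) z) := by
    linear_combination h
  exact mul_left_cancel₀ hG this

/-- the central kernel of an irreducible character -/
def centralKer [Fintype G] (χ : IrrCharacter G) : Subgroup G where
  carrier := {z | z ∈ center G ∧ (χ : G → ℂ) z = (χ : G → ℂ) 1}
  one_mem' := ⟨one_mem _, rfl⟩
  mul_mem' := by
    rintro a b ⟨ha, ha1⟩ ⟨hb, hb1⟩
    refine ⟨mul_mem ha hb, ?_⟩
    have h := central_mul χ a b hb
    rw [ha1, hb1] at h
    exact mul_left_cancel₀ (Cfsg.Agent.Lib.Helper80.irr_one_ne_zero χ) h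
  inv_mem' := by
    rintro a ⟨ha, ha1⟩
    refine ⟨inv_mem ha, ?_⟩
    rw [Cfsg.Agent.Lib.Helper80.irr_conj_inv, ha1, Cfsg.Agent.Lib.Helper80.irr_one_conj]

theorem quotient_center_comm (hcomm : commutator G = center G) :
    IsMulCommutative (G ⧸ center G) := by
  refine ⟨⟨fun a b => ?_⟩⟩
  obtain ⟨x, rfl⟩ := QuotientGroup.mk_surjective a
  obtain ⟨y, rfl⟩ := QuotientGroup.mk_surjective b
  rw [← QuotientGroup.mk_mul, ← QuotientGroup.mk_mul, QuotientGroup.eq]
  have : (x * y)⁻¹ * (y * x) = ⁅y⁻¹, x⁻¹⁆ := by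
    rw [commutatorElement_def]; group
  rw [this, ← hcomm, commutator_def]
  exact commutator_mem_commutator (mem_top _) (mem_top _)

theorem degree_cases {P : Type u} [Group P] [Fintype P] {p n : ℕ} [Fact p.Prime]
    (hP : IsExtraspecial p P) (hcard : Nat.card P = p ^ (2 * n + 1)) (χ : IrrCharacter P) :
    (χ : P → ℂ) 1 = 1 ∨ (χ : P → ℂ) 1 = (p : ℂ) ^ n := by
  classical
  have hp : p.Prime := Fact.out
  obtain ⟨⟨-, -, hcomm⟩, hZcard⟩ := hP
  by_cases hK : ∀ z ∈ center P, (χ : P → ℂ) z = (χ : P → ℂ) 1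
  · left
    obtain ⟨ψ, hψ, hψχ⟩ := Cfsg.Agent.Lib.Helper79.isIrrCharacter_deflate χ.2 (center P) hK
    have := quotient_center_comm hcomm
    have h1 := Cfsg.Agent.Lib.Helper79.irr_one_eq_one_of_comm (⟨ψ, hψ⟩ : IrrCharacter (P ⧸ center P))
    rw [← hψχ 1]
    exact h1
  · right
    push Not at hK
    obtain ⟨z₁, hz₁, hz₁χ⟩ := hK
    have hχ1 : (χ : P → ℂ) 1 ≠ 0 := Cfsg.Agent.Lib.Helper80.irr_one_ne_zero χ
    -- the central kernel is trivial
    have hKtriv : ∀ z ∈ center P, z ≠ 1 → (χ : P → ℂ) z ≠ (χ : P → ℂ) 1 := by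
      intro z hz hz1 h
      have htop : zpowers (⟨z, hz⟩ : center P) = ⊤ :=
        zpowers_eq_top_of_prime_card hZcard (fun h => hz1 (congrArg Subtype.val h))
      have : (⟨z₁, hz₁⟩ : center P) ∈ zpowers (⟨z, hz⟩ : center P) := by rw [htop]; trivial
      obtain ⟨k, hk⟩ := this
      have hk' : z ^ k = z₁ := by
        have := congrArg Subtype.val hk
        simpa using this
      have hzK : z ∈ centralKer χ := ⟨hz, h⟩
      have : z₁ ∈ centralKer χ := by rw [← hk']; exact (centralKer χ).zpow_mem hzK k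
      exact hz₁χ this.2
    -- vanishing off the centre
    have hvanish : ∀ x : P, x ∉ center P → (χ : P → ℂ) x = 0 := by
      intro x hx
      have : ∃ s : P, s * x ≠ x * s := by
        by_contra hcon
        push Not at hcon
        exact hx (mem_center_iff.mpr hcon)
      obtain ⟨s, hs⟩ := this
      set z₀ : P := x⁻¹ * s⁻¹ * x * s with hz₀
      have hz₀Z : z₀ ∈ center P := by
        rw [← hcomm, commutator_def]
        have : z₀ = ⁅x⁻¹, s⁻¹⁆ := by
          rw [hz₀, commutatorElement_def]; group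
        rw [this]
        exact commutator_mem_commutator (mem_top _) (mem_top _)
      have hz₀1 : z₀ ≠ 1 := by
        intro h
        apply hs
        have : s * x = x * s * z₀⁻¹ := by rw [hz₀]; group
        rw [this, h, inv_one, mul_one]
      have h1 : (χ : P → ℂ) (x * z₀) = (χ : P → ℂ) x := by
        have : x * z₀ = s⁻¹ * x * s⁻¹⁻¹ := by rw [hz₀]; group
        rw [this, Cfsg.Agent.Lib.Helper80.irr_class]
      have h2 := central_mul χ x z₀ hz₀Z
      rw [h1] at h2
      have h3 : (χ : P → ℂ) x * ((χ : P → ℂ) 1 - (χ : P → ℂ) z₀) = 0 := by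
        linear_combination h2
      rcases mul_eq_zero.mp h3 with h | h
      · exact h
      · exact absurd (sub_eq_zero.mp h).symm (hKtriv z₀ hz₀Z hz₀1)
    -- norm computation
    have hnorm := Cfsg.Agent.Lib.Helper3.classInner_irr χ.2 χ.2
    rw [if_pos rfl] at hnorm
    unfold classInner at hnorm
    have hterm : ∀ g : P, (χ : P → ℂ) g * conj ((χ : P → ℂ) g) =
        if g ∈ center P then (χ : P → ℂ) 1 ^ 2 else 0 := by
      intro g
      split_ifs with hg
      · rw [← Cfsg.Agent.Lib.Helper80.irr_conj_inv]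
        have := central_mul χ g g⁻¹ (inv_mem hg)
        rw [mul_inv_cancel] at this
        rw [← this, sq]
      · rw [hvanish g hg, zero_mul]
    rw [Finset.sum_congr rfl (fun g _ => hterm g), Finset.sum_ite, Finset.sum_const_zero, add_zero,
      Finset.sum_const, nsmul_eq_mul] at hnorm
    have hcardZ : (Finset.univ.filter (fun g : P => g ∈ center P)).card = p := by
      rw [← hZcard, Nat.card_eq_fintype_card, Fintype.card_subtype]
    rw [hcardZ, hcard] at hnorm
    obtain ⟨d, hd0, hd⟩ := Cfsg.Agent.Lib.Helper80.irr_one_eq_natCast χ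
    rw [hd] at hnorm ⊢
    have hp0 : (p : ℂ) ≠ 0 := by exact_mod_cast hp.ne_zero
    have h4 : ((p * d ^ 2 : ℕ) : ℂ) = ((p ^ (2 * n + 1) : ℕ) : ℂ) := by
      field_simp at hnorm
      push_cast at hnorm ⊢
      linear_combination hnorm
    have h5 : p * d ^ 2 = p ^ (2 * n + 1) := by exact_mod_cast h4
    have h6 : d ^ 2 = (p ^ n) ^ 2 := by
      have : p * d ^ 2 = p * (p ^ n) ^ 2 := by
        rw [h5]; ring
      exact Nat.eq_of_mul_eq_mul_left hp.pos this
    have h7 : d = p ^ n := by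
      exact Nat.pow_left_injective (by norm_num : 2 ≠ 0) h6
    rw [h7]
    push_cast
    rfl

/-- the number of linear characters is the index of the commutator subgroup -/
theorem card_linear [Finite G] :
    Nat.card {χ : IrrCharacter G // (χ : G → ℂ) 1 = 1} = (commutator G).index := by
  have h1 : Nat.card {χ : IrrCharacter G // (χ : G → ℂ) 1 = 1} = Nat.card (G →* ℂˣ) := by
    symm
    let f : (G →* ℂˣ) → {χ : IrrCharacter G // (χ : G → ℂ) 1 = 1} := fun φ =>
      ⟨⟨fun g => ((φ g : ℂˣ) : ℂ), Cfsg.Agent.Lib.Helper79.isIrrCharacter_of_monoidHom φ⟩, by simp⟩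
    apply Nat.card_eq_of_bijective f
    constructor
    · intro φ φ' h
      ext g
      have := congrFun (congrArg (fun z => (z.1 : G → ℂ)) h) g
      exact this
    · rintro ⟨⟨χ, hχ⟩, h1⟩
      obtain ⟨φ, hφ⟩ := Cfsg.Agent.Lib.Helper79.exists_monoidHom_of_isCharacter_of_one
        (Cfsg.Agent.Lib.Helper3.IsIrrCharacter.isCharacter hχ) h1
      refine ⟨φ, ?_⟩
      apply Subtype.ext
      apply Subtype.ext
      funext g
      exact (hφ g).symm
  have h2 : Nat.card (G →* ℂˣ) = Nat.card (Abelianization G →* ℂˣ) :=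
    Nat.card_congr Abelianization.lift
  have : NeZero (Monoid.exponent (Abelianization G)) := ⟨Monoid.exponent_ne_zero_of_finite⟩
  have h3 : Nat.card (Abelianization G →* ℂˣ) = Nat.card (Abelianization G) :=
    CommGroup.card_monoidHom_of_hasEnoughRootsOfUnity (Abelianization G) ℂ
  rw [h1, h2, h3]
  rfl


theorem one_le_of_extraspecial {P : Type u} [Group P] [Finite P] {p n : ℕ} [Fact p.Prime]
    (hP : Cfsg.IsExtraspecial p P) (hcard : Nat.card P = p ^ (2 * n + 1)) : 1 ≤ n := by
  have hp : p.Prime := Fact.out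
  obtain ⟨⟨-, -, hcomm⟩, hZcard⟩ := hP
  by_contra hn
  have hn0 : n = 0 := by omega
  rw [hn0] at hcard
  simp only [mul_zero, zero_add, pow_one] at hcard
  have htop : center P = ⊤ := (card_eq_iff_eq_top _).mp (by rw [hZcard, hcard])
  have hbot : commutator P = ⊥ := by
    rw [commutator_def, commutator_eq_bot_iff_le_centralizer, coe_top, centralizer_univ, htop]
  rw [hbot] at hcomm
  rw [← hcomm, card_bot] at hZcard
  exact hp.one_lt.ne hZcard

theorem result {P : Type*} [Group P] [Finite P] (p n : ℕ) [Fact p.Prime] (hP : Cfsg.IsExtraspecial p P) (hcard : Nat.card P = p ^ (2 * n + 1)) : (∀ χ : Cfsg.IrrCharacter P, (χ : P → ℂ) 1 = 1 ∨ (χ : P → ℂ) 1 = (p : ℂ) ^ n) ∧ Nat.card {χ : Cfsg.IrrCharacter P // (χ : P → ℂ) 1 = (p : ℂ) ^ n} = p - 1 := by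
  classical
  have := Fintype.ofFinite P
  have hp : p.Prime := Fact.out
  have hn := one_le_of_extraspecial hP hcard
  have hdeg := fun χ : IrrCharacter P => degree_cases hP hcard χ
  refine ⟨hdeg, ?_⟩
  have : Fintype (IrrCharacter P) := Fintype.ofFinite _
  have hpn1 : (p : ℂ) ^ n ≠ 1 := by
    have : p ^ n ≠ 1 := by
      have := Nat.one_lt_pow (Nat.pos_iff_ne_zero.mp hn) hp.one_lt
      omega
    exact_mod_cast this
  have hsum := Cfsg.Agent.Lib.Helper3.sum_sq_degree (G := P)
  rw [← Finset.sum_filter_add_sum_filter_not Finset.univ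
    (fun χ : IrrCharacter P => (χ : P → ℂ) 1 = 1)] at hsum
  have hL : ∑ χ ∈ Finset.univ.filter (fun χ : IrrCharacter P => (χ : P → ℂ) 1 = 1),
      (χ : P → ℂ) 1 ^ 2 = ((commutator P).index : ℂ) := by
    rw [Finset.sum_congr rfl (fun χ hχ => by rw [(Finset.mem_filter.mp hχ).2, one_pow]),
      Finset.sum_const, nsmul_eq_mul, mul_one, ← card_linear, Nat.card_eq_fintype_card,
      Fintype.card_subtype]
  have hN : ∑ χ ∈ Finset.univ.filter (fun χ : IrrCharacter P => ¬ (χ : P → ℂ) 1 = 1),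
      (χ : P → ℂ) 1 ^ 2 =
      (Nat.card {χ : Cfsg.IrrCharacter P // (χ : P → ℂ) 1 = (p : ℂ) ^ n} : ℂ) * ((p : ℂ) ^ n) ^ 2 := by
    rw [Finset.sum_congr rfl (fun χ hχ => by
      rw [(hdeg χ).resolve_left (Finset.mem_filter.mp hχ).2]),
      Finset.sum_const, nsmul_eq_mul, Nat.card_eq_fintype_card, Fintype.card_subtype]
    congr 3
    ext χ
    simp only [Finset.mem_filter, Finset.mem_univ, true_and]
    constructor
    · intro h; exact (hdeg χ).resolve_left h
    · intro h h1; rw [h] at h1; exact hpn1 h1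
  rw [hL, hN, hcard] at hsum
  set N := Nat.card {χ : Cfsg.IrrCharacter P // (χ : P → ℂ) 1 = (p : ℂ) ^ n} with hNdef
  have hidx : (commutator P).index * p = p ^ (2 * n + 1) := by
    obtain ⟨⟨-, -, hcomm⟩, hZcard⟩ := hP
    rw [← hcard, ← hZcard, ← hcomm, mul_comm]
    exact Subgroup.card_mul_index _
  have hidx' : (commutator P).index = p ^ (2 * n) := by
    have : (commutator P).index * p = p ^ (2 * n) * p := by rw [hidx]; ring
    exact Nat.eq_of_mul_eq_mul_right hp.pos this
  rw [hidx'] at hsum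
  have h1 : p ^ (2 * n) + N * p ^ (2 * n) = p ^ (2 * n) * p := by
    have : ((p ^ (2 * n) + N * p ^ (2 * n) : ℕ) : ℂ) = ((p ^ (2 * n) * p : ℕ) : ℂ) := by
      push_cast at hsum ⊢
      linear_combination hsum
    exact_mod_cast this
  have hpos : 0 < p ^ (2 * n) := pow_pos hp.pos _
  have h2 : (1 + N) * p ^ (2 * n) = p * p ^ (2 * n) := by linarith
  have h3 : 1 + N = p := Nat.eq_of_mul_eq_mul_right hpos h2
  omega

end Cfsg.Agent.S0894
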