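import Cfsg.Statements.S0800
import Mathlib

set_option autoImplicit false
open Cfsg
open Polynomial

namespace Cfsg.Agent.S0800

theorem orderOf_dvd_of_charpoly_dvd {F : Type*} [Field F]
    (g : Matrix.SpecialLinearGroup (Fin 2) F) (m : ℕ)
    (h : (g : Matrix (Fin 2) (Fin 2) F).charpoly ∣ X ^ m - 1) : orderOf g ∣ m := by
  apply orderOf_dvd_of_pow_eq_one
  obtain ⟨r, hr⟩ := h
  have h1 := congrArg (aeval (g : Matrix (Fin 2) (Fin 2) F)) hr
  rw [map_mul, Matrix.aeval_self_charpoly, zero_mul] at h1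
  simp only [map_sub, map_pow, aeval_X, map_one] at h1
  apply Subtype.ext
  rw [Matrix.SpecialLinearGroup.coe_pow, Matrix.SpecialLinearGroup.coe_one]
  exact sub_eq_zero.mp h1

theorem irr_case_aux {F : Type*} [Field F] [Fintype F] (t : F) (χ : F[X])
    (hχ : χ = X ^ 2 - C t * X + 1) (h : Irreducible χ) :
    χ ∣ X ^ (Fintype.card F + 1) - 1 := by
  have : Fact (Irreducible χ) := ⟨h⟩
  let x : AdjoinRoot χ := AdjoinRoot.root χ
  let T : AdjoinRoot χ := AdjoinRoot.of χ t
  have hx : x ^ 2 - T * x + 1 = 0 := by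
    have h0 : AdjoinRoot.mk χ (X ^ 2 - C t * X + 1) = 0 := by
      rw [← hχ]; exact AdjoinRoot.mk_self
    simpa only [map_add, map_sub, map_mul, map_pow, AdjoinRoot.mk_X, AdjoinRoot.mk_C, map_one]
      using h0
  let y : AdjoinRoot χ := x ^ Fintype.card F
  have hyφ : y = FiniteField.frobeniusAlgHom F (AdjoinRoot χ) x := rfl
  have hTφ : FiniteField.frobeniusAlgHom F (AdjoinRoot χ) T = T := by
    show FiniteField.frobeniusAlgHom F (AdjoinRoot χ) (AdjoinRoot.of χ t) = AdjoinRoot.of χ t
    rw [← AdjoinRoot.algebraMap_eq, AlgHom.commutes]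
  have hyeq : y ^ 2 - T * y + 1 = 0 := by
    have := congrArg (FiniteField.frobeniusAlgHom F (AdjoinRoot χ)) hx
    rw [map_add, map_sub, map_mul, map_pow, map_one, map_zero, ← hyφ, hTφ] at this
    exact this
  have hprod : (y - x) * (y + x - T) = 0 := by
    have : (y - x) * (y + x - T) = (y ^ 2 - T * y + 1) - (x ^ 2 - T * x + 1) := by ring
    rw [this, hx, hyeq, sub_zero]
  rcases mul_eq_zero.mp hprod with h1 | h1
  · exfalso
    have hdvd : χ ∣ X ^ (Nat.card F) ^ 1 - X := by
      rw [← AdjoinRoot.mk_eq_zero]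
      simp only [map_sub, map_pow, AdjoinRoot.mk_X, pow_one, Nat.card_eq_fintype_card]
      exact h1
    have := h.natDegree_dvd_of_dvd_X_pow_card_pow_sub_X hdvd
    have hdeg : χ.natDegree = 2 := by
      rw [hχ]
      compute_degree!
    rw [hdeg] at this
    omega
  · rw [← AdjoinRoot.mk_eq_zero]
    simp only [map_sub, map_pow, AdjoinRoot.mk_X, map_one]
    have hyx : y = T - x := by
      have : y = (y + x - T) + (T - x) := by ring
      rw [this, h1, zero_add]
    have : x ^ (Fintype.card F + 1) = y * x := by rw [pow_succ]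
    show x ^ (Fintype.card F + 1) - 1 = 0
    rw [this, hyx]
    have : (T - x) * x - 1 = -(x ^ 2 - T * x + 1) := by ring
    rw [this, hx, neg_zero]

theorem irr_case {F : Type*} [Field F] [Fintype F] (t : F)
    (h : Irreducible (X ^ 2 - C t * X + 1 : F[X])) :
    (X ^ 2 - C t * X + 1 : F[X]) ∣ X ^ (Fintype.card F + 1) - 1 :=
  irr_case_aux t _ rfl h

theorem red_case {F : Type*} [Field F] [Fintype F] (p : ℕ) [Fact p.Prime] [CharP F p] (t : F)
    (h : ¬ Irreducible (X ^ 2 - C t * X + 1 : F[X])) :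
    (X ^ 2 - C t * X + 1 : F[X]) ∣ X ^ (Fintype.card F - 1) - 1 ∨
    (X ^ 2 - C t * X + 1 : F[X]) ∣ X ^ (2 * p) - 1 := by
  set χ : F[X] := X ^ 2 - C t * X + 1 with hχ
  have hdeg : χ.natDegree = 2 := by
    rw [hχ]
    compute_degree!
  have hroots : χ.roots ≠ 0 := by
    intro h0
    apply h
    rw [Polynomial.irreducible_iff_roots_eq_zero_of_degree_le_three (by omega) (by omega)]
    exact h0
  obtain ⟨a, ha⟩ := Multiset.exists_mem_of_ne_zero hroots
  have hχ0 : χ ≠ 0 := by
    intro h0; rw [h0] at hdeg; simp at hdeg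
  rw [mem_roots hχ0, IsRoot, hχ] at ha
  simp only [eval_add, eval_sub, eval_pow, eval_X, eval_mul, eval_C, eval_one] at ha
  -- a^2 - t a + 1 = 0
  set b := t - a with hb
  have hab : a * b = 1 := by
    rw [hb]
    have : a * (t - a) = 1 - (a ^ 2 - t * a + 1) := by ring
    rw [this, ha, sub_zero]
  have ha0 : a ≠ 0 := left_ne_zero_of_mul_eq_one hab
  have hb0 : b ≠ 0 := right_ne_zero_of_mul_eq_one hab
  have hfac : χ = (X - C a) * (X - C b) := by
    have h1 : (X - C a) * (X - C b) = X ^ 2 - C (a + b) * X + C (a * b) := by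
      simp only [C_add, C_mul]; ring
    rw [h1, hab, hb, hχ]
    simp
  by_cases hne : a = b
  · right
    -- χ = (X - a)^2, a^2 = 1
    have ha2 : a * a = 1 := by rw [hne] at hab ⊢; exact hab
    have hCa2 : (C a : F[X]) * C a = 1 := by rw [← C_mul, ha2, C_1]
    have h2 : (X ^ 2 - 1 : F[X]) = (X - C a) * (X + C a) := by
      have : (X - C a) * (X + C a) = X ^ 2 - C a * C a := by ring
      rw [this, hCa2]
    have hp2 : 2 ≤ p := (Fact.out : p.Prime).two_le
    have h3 : (X ^ (2 * p) - 1 : F[X]) = (X ^ 2 - 1) ^ p := by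
      rw [sub_pow_char, one_pow, ← pow_mul]
    rw [h3, h2, hfac, ← hne, mul_pow, ← pow_two]
    exact Dvd.dvd.mul_right (pow_dvd_pow _ hp2) _
  · left
    rw [hfac]
    have hcop : IsCoprime (X - C a) (X - C b) :=
      Polynomial.isCoprime_X_sub_C_of_isUnit_sub (sub_ne_zero.mpr hne).isUnit
    apply hcop.mul_dvd
    · rw [dvd_iff_isRoot]
      simp [FiniteField.pow_card_sub_one_eq_one a ha0]
    · rw [dvd_iff_isRoot]
      simp [FiniteField.pow_card_sub_one_eq_one b hb0]

/-- Tori of SL_2(q): if g ∈ SL_2(q) has order coprime to the characteristic p, then the order of g divides q − 1 or q + 1. -/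
theorem result {F : Type*} [Field F] [Fintype F] {q : ℕ} (hF : Fintype.card F = q) (p : ℕ) [Fact p.Prime] [CharP F p] (g : Matrix.SpecialLinearGroup (Fin 2) F) (hg : Nat.Coprime (orderOf g) p) : orderOf g ∣ q - 1 ∨ orderOf g ∣ q + 1 := by
  subst hF
  have hchar : (g : Matrix (Fin 2) (Fin 2) F).charpoly
      = X ^ 2 - C (g : Matrix (Fin 2) (Fin 2) F).trace * X + 1 := by
    rw [Matrix.charpoly_fin_two, g.det_coe, C_1]
  by_cases hirr : Irreducible (X ^ 2 - C (g : Matrix (Fin 2) (Fin 2) F).trace * X + 1 : F[X])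
  · right
    apply orderOf_dvd_of_charpoly_dvd
    rw [hchar]
    exact irr_case _ hirr
  · rcases red_case p _ hirr with h | h
    · left
      apply orderOf_dvd_of_charpoly_dvd
      rw [hchar]
      exact h
    · left
      have h2p : orderOf g ∣ 2 * p := by
        apply orderOf_dvd_of_charpoly_dvd
        rw [hchar]
        exact h
      have h2 : orderOf g ∣ 2 := hg.dvd_of_dvd_mul_right h2p
      by_cases hp2 : p = 2
      · subst hp2
        have : orderOf g = 1 := by
          have := Nat.Coprime.eq_one_of_dvd hg h2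
          exact this
        rw [this]
        exact one_dvd _
      · obtain ⟨n, _, hn⟩ := FiniteField.card F p
        have hodd : Odd (Fintype.card F) := by
          rw [hn]
          apply Odd.pow
          exact (Fact.out : p.Prime).odd_of_ne_two hp2
        have : 2 ∣ Fintype.card F - 1 := by
          obtain ⟨k, hk⟩ := hodd
          rw [hk]
          simp
        exact h2.trans this

end Cfsg.Agent.S0800
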