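import Cfsg.Statements.S0804
import Cfsg.Agent.S0243
import Cfsg.Agent.Lib.Helper89.PSL2Sub

set_option autoImplicit false
open Cfsg

namespace Cfsg.Agent.S0804

open Cfsg.Agent.Lib.Helper89

variable {F : Type*} [Field F]

/-! ### odd characteristic: the icosians -/

/-- the icosian `(1 + i + j + k)/2` -/
def xOdd (h α β : F) (hh : 2 * h = 1) (hab : α * α + β * β = -1) :
    Matrix.SpecialLinearGroup (Fin 2) F :=
  ⟨!![h * (1 + α - β), h * (-1 + β + α); h * (1 + β + α), h * (1 - α + β)], by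
    rw [Matrix.det_fin_two_of]
    grind⟩

/-- the icosian `(φ + φ⁻¹ i + j)/2` -/
def yOdd (h α β s : F) (hh : 2 * h = 1) (hab : α * α + β * β = -1) (hs : s * s = 5) :
    Matrix.SpecialLinearGroup (Fin 2) F :=
  ⟨!![h * (h * (1 + s) + α), h * (-(h * (s - 1)) + β); h * (h * (s - 1) + β), h * (h * (1 + s) - α)], by
    rw [Matrix.det_fin_two_of]
    grind⟩


theorem xOdd_val (h α β : F) (hh : 2 * h = 1) (hab : α * α + β * β = -1) :
    (xOdd h α β hh hab : Matrix (Fin 2) (Fin 2) F) =
      !![h * (1 + α - β), h * (-1 + β + α); h * (1 + β + α), h * (1 - α + β)] := rfl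

theorem yOdd_val (h α β s : F) (hh : 2 * h = 1) (hab : α * α + β * β = -1) (hs : s * s = 5) :
    (yOdd h α β s hh hab hs : Matrix (Fin 2) (Fin 2) F) =
      !![h * (h * (1 + s) + α), h * (-(h * (s - 1)) + β); h * (h * (s - 1) + β), h * (h * (1 + s) - α)] :=
  rfl

theorem exists_a5_odd (h α β s : F) (hh : 2 * h = 1) (hab : α * α + β * β = -1) (hs : s * s = 5) :
    ∃ H : Subgroup (Matrix.ProjectiveSpecialLinearGroup (Fin 2) F),
      Nonempty (H ≃* alternatingGroup (Fin 5)) := by
  apply exists_a5_in_psl2 (xOdd h α β hh hab) (yOdd h α β s hh hab hs)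
  · rw [sl2_cube_of_trace_one]
    · exact sl2_neg_one_mem_center
    · rw [xOdd_val, Matrix.trace_fin_two_of]
      grind
  · rw [sl2_pow_five_of_trace_golden _ (h * (1 + s))]
    · exact sl2_neg_one_mem_center
    · grind
    · rw [yOdd_val, Matrix.trace_fin_two_of]
      grind
  · rw [sl2_sq_of_trace_zero]
    · exact sl2_neg_one_mem_center
    · rw [Matrix.SpecialLinearGroup.coe_mul, xOdd_val, yOdd_val, Matrix.mul_fin_two,
        Matrix.trace_fin_two_of]
      grind
  · by_cases h10 : h * (1 + β + α) = 0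
    · apply sl2_not_mem_center_of_ne_zero'
      rw [xOdd_val]
      intro h0
      have h01 : h * (-1 + β + α) = 0 := by simpa using h0
      have : (1 : F) = 0 := by linear_combination (-1) * hh + h10 - h01
      exact one_ne_zero this
    · apply sl2_not_mem_center_of_ne_zero
      rw [xOdd_val]
      simpa using h10


/-! ### characteristic two -/

/-- element of order three -/
def xTwo (ω : F) (hω : ω * ω + ω + 1 = 0) : Matrix.SpecialLinearGroup (Fin 2) F :=
  ⟨!![-1 - ω, 0; ω * ω, ω], by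
    rw [Matrix.det_fin_two_of]
    grind⟩

/-- element of order five -/
def yTwo (ω : F) : Matrix.SpecialLinearGroup (Fin 2) F :=
  ⟨!![0, -1; 1, ω], by
    rw [Matrix.det_fin_two_of]
    ring⟩

theorem xTwo_val (ω : F) (hω : ω * ω + ω + 1 = 0) :
    (xTwo ω hω : Matrix (Fin 2) (Fin 2) F) = !![-1 - ω, 0; ω * ω, ω] := rfl

theorem yTwo_val (ω : F) : (yTwo ω : Matrix (Fin 2) (Fin 2) F) = !![0, -1; 1, ω] := rfl

theorem exists_a5_two (ω : F) (hω : ω * ω + ω + 1 = 0) (h2 : (2 : F) = 0) :
    ∃ H : Subgroup (Matrix.ProjectiveSpecialLinearGroup (Fin 2) F),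
      Nonempty (H ≃* alternatingGroup (Fin 5)) := by
  apply exists_a5_in_psl2 (xTwo ω hω) (yTwo ω)
  · rw [sl2_cube_of_trace_neg_one]
    · exact Subgroup.one_mem _
    · rw [xTwo_val, Matrix.trace_fin_two_of]
      ring
  · rw [sl2_pow_five_of_trace _ ω]
    · exact Subgroup.one_mem _
    · linear_combination hω - h2
    · rw [yTwo_val, Matrix.trace_fin_two_of]
      ring
  · rw [sl2_sq_of_trace_zero]
    · exact sl2_neg_one_mem_center
    · rw [Matrix.SpecialLinearGroup.coe_mul, xTwo_val, yTwo_val, Matrix.mul_fin_two,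
        Matrix.trace_fin_two_of]
      ring
  · apply sl2_not_mem_center_of_ne_zero
    rw [xTwo_val]
    intro h0
    have h10 : ω * ω = 0 := by simpa using h0
    have hω0 : ω = 0 := mul_self_eq_zero.mp h10
    rw [hω0] at hω
    simp at hω


/-! ### existence of the parameters -/

theorem two_pow_mod_fifteen (n : ℕ) :
    2 ^ n % 15 = 1 ∨ 2 ^ n % 15 = 2 ∨ 2 ^ n % 15 = 4 ∨ 2 ^ n % 15 = 8 := by
  induction n with
  | zero => left; rfl
  | succ n ih =>
    rw [pow_succ]
    omega

theorem zmod5_fact : ∀ y : ZMod 5, y * (y ^ 2 - 1) = 0 → IsSquare y ∧ IsSquare (-y) ∧ y ≠ 2 ∧ y ≠ 3 := by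
  decide

theorem cast_eq_zero_of_dvd {q : ℕ} (hq : 1 ≤ q) (h5 : 5 ∣ q * (q ^ 2 - 1)) :
    (q : ZMod 5) * ((q : ZMod 5) ^ 2 - 1) = 0 := by
  have h := (ZMod.natCast_eq_zero_iff (q * (q ^ 2 - 1)) 5).mpr h5
  have h1 : 1 ≤ q ^ 2 := Nat.one_le_pow _ _ hq
  rw [Nat.cast_mul, Nat.cast_sub h1] at h
  simpa using h

theorem exists_omega [Fintype F] {q : ℕ} (hF : Fintype.card F = q) (hchar : ringChar F = 2)
    (h5 : 5 ∣ q * (q ^ 2 - 1)) : ∃ ω : F, ω * ω + ω + 1 = 0 := by
  classical
  have : CharP F 2 := ringChar.of_eq hchar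
  obtain ⟨n, -, hn⟩ := FiniteField.card F 2
  rw [hF] at hn
  have hq1 : 1 ≤ q := by rw [hn]; exact Nat.one_le_two_pow
  have hz := zmod5_fact _ (cast_eq_zero_of_dvd hq1 h5)
  have h3 : 3 ∣ q - 1 := by
    have h15 := two_pow_mod_fifteen n
    rw [← hn] at h15
    have hmod : ((q % 5 : ℕ) : ZMod 5) = (q : ZMod 5) := ZMod.natCast_mod q 5
    rcases h15 with h | h | h | h
    · omega
    · exfalso
      have : q % 5 = 2 := by omega
      rw [this] at hmod
      exact hz.2.2.1 hmod.symm
    · omega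
    · exfalso
      have : q % 5 = 3 := by omega
      rw [this] at hmod
      exact hz.2.2.2 hmod.symm
  have : Fact (Nat.Prime 3) := ⟨Nat.prime_three⟩
  have hcard : Fintype.card Fˣ = q - 1 := by rw [Fintype.card_units, hF]
  obtain ⟨x, hx⟩ := exists_prime_orderOf_dvd_card 3 (by rw [hcard]; exact h3)
  refine ⟨(x : F), ?_⟩
  have hx3 : (x : F) ^ 3 = 1 := by
    have := pow_orderOf_eq_one x
    rw [hx] at this
    have h' := congrArg Units.val this
    rwa [Units.val_pow_eq_pow_val, Units.val_one] at h'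
  have hx1 : (x : F) ≠ 1 := by
    intro h1
    have : x = 1 := Units.ext h1
    rw [this, orderOf_one] at hx
    omega
  have hfac : ((x : F) - 1) * ((x : F) * x + x + 1) = 0 := by linear_combination hx3
  rcases mul_eq_zero.mp hfac with h | h
  · exact absurd (sub_eq_zero.mp h) hx1
  · exact h

theorem exists_params_odd [Fintype F] {q : ℕ} (hF : Fintype.card F = q) (hchar : ringChar F ≠ 2)
    (h5 : 5 ∣ q * (q ^ 2 - 1)) :
    ∃ h α β s : F, 2 * h = 1 ∧ α * α + β * β = -1 ∧ s * s = 5 := by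
  have h2 : (2 : F) ≠ 0 := Ring.two_ne_zero hchar
  have : NeZero (ringChar F) := ⟨CharP.ringChar_ne_zero_of_finite F⟩
  obtain ⟨a, b, hab⟩ := CharP.sq_add_sq F (ringChar F) (-1)
  have hq1 : 1 ≤ q := by rw [← hF]; exact Fintype.card_pos
  have hz := zmod5_fact _ (cast_eq_zero_of_dvd hq1 h5)
  have : Fact (Nat.Prime 5) := ⟨by norm_num⟩
  have hsq : IsSquare ((5 : ℕ) : F) := by
    rw [FiniteField.isSquare_odd_prime_iff hchar (by norm_num), hF]
    intro hneg
    rw [quadraticChar_neg_one_iff_not_isSquare] at hneg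
    apply hneg
    have hodd : q % 2 = 1 := by rw [← hF]; exact FiniteField.odd_card_of_char_ne_two hchar
    rw [ZMod.χ₄_nat_eq_if_mod_four]
    have h20 : ¬ q % 2 = 0 := by omega
    rw [if_neg h20]
    split_ifs
    · simpa using hz.1
    · simpa using hz.2.1
  obtain ⟨s, hs⟩ := hsq
  refine ⟨2⁻¹, a, b, s, mul_inv_cancel₀ h2, ?_, ?_⟩
  · have : ((-1 : ℤ) : F) = -1 := by simp
    rw [← this, ← hab]
    ring
  · rw [← hs]
    norm_num

/-- PSL_2(q) has a subgroup isomorphic to A_5 iff 5 ∣ q(q² − 1). -/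
theorem result {F : Type*} [Field F] [Fintype F] {q : ℕ} (hF : Fintype.card F = q) : (∃ H : Subgroup (Matrix.ProjectiveSpecialLinearGroup (Fin 2) F), Nonempty (H ≃* alternatingGroup (Fin 5))) ↔ 5 ∣ q * (q ^ 2 - 1) := by
  constructor
  · rintro ⟨H, ⟨e⟩⟩
    have hcard := Cfsg.Agent.S0243.result hF 2 le_rfl
    have h60 : Nat.card (alternatingGroup (Fin 5)) = 60 := by
      rw [Nat.card_eq_fintype_card]
      have h := two_mul_card_alternatingGroup (α := Fin 5)
      rw [Fintype.card_perm, Fintype.card_fin] at h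
      have : (5 : ℕ).factorial = 120 := by decide
      omega
    have hH : Nat.card H = 60 := by rw [Nat.card_congr e.toEquiv, h60]
    have hdvd : 60 ∣ Nat.card (Matrix.ProjectiveSpecialLinearGroup (Fin 2) F) := by
      rw [← hH]
      exact Subgroup.card_subgroup_dvd_card H
    have hq2 : 2 ≤ q := by
      rw [← hF]
      exact Fintype.one_lt_card
    rw [Fin.prod_univ_two] at hcard
    simp only [Fin.val_zero, Fin.val_one, pow_zero, pow_one] at hcard
    have hB : q ^ 2 - q = (q - 1) * q := by rw [Nat.sub_mul, one_mul, sq]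
    rw [hB] at hcard
    have hcard' : (q - 1) * (Nat.gcd 2 (q - 1) * Nat.card (Matrix.ProjectiveSpecialLinearGroup (Fin 2) F)) =
        (q - 1) * (q * (q ^ 2 - 1)) := by
      rw [mul_left_comm, hcard]
      ring
    have hpos : 0 < q - 1 := by omega
    have hmain := Nat.eq_of_mul_eq_mul_left hpos hcard'
    rw [← hmain]
    exact Dvd.dvd.mul_left (Dvd.dvd.trans (by norm_num) hdvd) _
  · intro h5
    by_cases hchar : ringChar F = 2
    · obtain ⟨ω, hω⟩ := exists_omega hF hchar h5
      have : CharP F 2 := ringChar.of_eq hchar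
      exact exists_a5_two ω hω (CharTwo.two_eq_zero)
    · obtain ⟨h, α, β, s, hh, hab, hs⟩ := exists_params_odd hF hchar h5
      exact exists_a5_odd h α β s hh hab hs

end Cfsg.Agent.S0804
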