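import Cfsg.Statements.S0805
import Cfsg.Agent.Lib.Helper5.GLCard
import Cfsg.Agent.Lib.Helper38.SLCard

set_option autoImplicit false
open Cfsg

namespace Cfsg.Agent.S0805

section A
open Matrix

variable {F K : Type*} [Field F] [Field K]

theorem sl2_mem_center_iff (A : SpecialLinearGroup (Fin 2) K) :
    A ∈ Subgroup.center (SpecialLinearGroup (Fin 2) K) ↔
      (A.1 0 1 = 0 ∧ A.1 1 0 = 0 ∧ A.1 0 0 = A.1 1 1) := by
  rw [Matrix.SpecialLinearGroup.mem_center_iff]
  constructor
  · rintro ⟨r, _, hr⟩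
    have h := fun i j => congrFun (congrFun hr i) j
    have h01 := h 0 1
    have h10 := h 1 0
    have h00 := h 0 0
    have h11 := h 1 1
    simp at h01 h10 h00 h11
    exact ⟨h01.symm, h10.symm, by rw [← h00, ← h11]⟩
  · rintro ⟨h01, h10, h00⟩
    refine ⟨A.1 0 0, ?_, ?_⟩
    · have := A.2
      rw [Matrix.det_fin_two, h01, h10, ← h00] at this
      simp only [Fintype.card_fin]
      rw [pow_two]; linear_combination this
    · ext i j
      fin_cases i <;> fin_cases j <;> simp [h01, h10, h00]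

theorem psl_embed (ι : K →+* F) :
    ∃ H : Subgroup (Matrix.ProjectiveSpecialLinearGroup (Fin 2) F),
      Nonempty (H ≃* Matrix.ProjectiveSpecialLinearGroup (Fin 2) K) := by
  let ψ : SpecialLinearGroup (Fin 2) K →* Matrix.ProjectiveSpecialLinearGroup (Fin 2) F :=
    (QuotientGroup.mk' (Subgroup.center (SpecialLinearGroup (Fin 2) F))).comp
      (Matrix.SpecialLinearGroup.map ι)
  have hker : ψ.ker = Subgroup.center (SpecialLinearGroup (Fin 2) K) := by
    ext A
    rw [MonoidHom.mem_ker]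
    simp only [ψ, MonoidHom.comp_apply, QuotientGroup.mk'_apply, QuotientGroup.eq_one_iff]
    rw [sl2_mem_center_iff, sl2_mem_center_iff]
    simp only [Matrix.SpecialLinearGroup.map_apply_coe, RingHom.mapMatrix_apply, Matrix.map_apply]
    constructor
    · rintro ⟨h1, h2, h3⟩
      exact ⟨ι.injective (by rw [h1, map_zero]), ι.injective (by rw [h2, map_zero]), ι.injective h3⟩
    · rintro ⟨h1, h2, h3⟩
      rw [h1, h2, h3]; simp
  refine ⟨ψ.range, ⟨?_⟩⟩
  exact ((QuotientGroup.quotientMulEquivOfEq hker.symm).trans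
    (QuotientGroup.quotientKerEquivRange ψ)).symm


end A

section B
open Matrix


theorem exists_ringHom {F K : Type*} [Field F] [Fintype F] [Field K] [Fintype K] (m : ℕ)
    (hm : 1 ≤ m) (h : Fintype.card K ^ m = Fintype.card F) : Nonempty (K →+* F) := by
  obtain ⟨p, hp⟩ := CharP.exists K
  have : Fact p.Prime := ⟨CharP.char_is_prime K p⟩
  have : NeZero m := ⟨by omega⟩
  let L := FiniteField.Extension K p m
  have : Fintype L := Fintype.ofFinite L
  have hL : Fintype.card L = Fintype.card F := by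
    rw [← h, Fintype.card_eq_nat_card, FiniteField.natCard_extension, Nat.card_eq_fintype_card]
  exact ⟨(FiniteField.ringEquivOfCardEq hL).toRingHom.comp (algebraMap K L)⟩

/-- when `m` is even, every element of `K` becomes a square in `F`. -/
theorem exists_sqrt {F K : Type*} [Field F] [Fintype F] [Field K] [Fintype K] (m : ℕ)
    (heven : Even m) (h : Fintype.card K ^ m = Fintype.card F) (hodd : Odd (Fintype.card F))
    (ι : K →+* F) (a : K) : ∃ s : F, s * s = ι a := by
  by_cases ha : a = 0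
  · exact ⟨0, by simp [ha]⟩
  have hF2 : ringChar F ≠ 2 := by
    intro h2
    have := FiniteField.even_card_of_char_two h2
    exact (Nat.not_even_iff_odd.mpr hodd) (Nat.even_iff.mpr this)
  have hιa : ι a ≠ 0 := by
    intro h0
    exact ha (ι.injective (by rw [h0, map_zero]))
  have hsq : IsSquare (ι a) := by
    rw [FiniteField.isSquare_iff hF2 hιa]
    set r := Fintype.card K with hr
    have hrodd : Odd r := by
      by_contra hre
      rw [Nat.not_odd_iff_even] at hre
      have : Even (r ^ m) := Nat.even_pow.mpr ⟨hre, by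
        rintro rfl
        simp at h
        have := Fintype.one_lt_card (α := F)
        omega⟩
      rw [h] at this
      exact (Nat.not_even_iff_odd.mpr hodd) this
    obtain ⟨t, rfl⟩ := heven
    -- r^2 - 1 ∣ r^(t+t) - 1
    have hdvd : r ^ 2 - 1 ∣ Fintype.card F - 1 := by
      rw [← h, ← two_mul, pow_mul]
      simpa using Nat.sub_dvd_pow_sub_pow (r ^ 2) 1 t
    obtain ⟨u, hu⟩ := hdvd
    obtain ⟨c, hc⟩ := hrodd
    have hr1 : 1 ≤ r := by omega
    have h1 : r ^ 2 - 1 = (r - 1) * (2 * (c + 1)) := by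
      have : r - 1 = 2 * c := by omega
      rw [this, hc]
      apply Nat.sub_eq_of_eq_add
      ring
    have h2 : Fintype.card F / 2 = (r - 1) * ((c + 1) * u) := by
      obtain ⟨d, hd⟩ := hodd
      have : Fintype.card F - 1 = 2 * ((r - 1) * ((c + 1) * u)) := by
        rw [hu, h1]; ring
      omega
    rw [h2, pow_mul, ← map_pow, FiniteField.pow_card_sub_one_eq_one a ha, map_one, one_pow]
  obtain ⟨s, hs⟩ := hsq
  exact ⟨s, hs.symm⟩


end B

section C
open Matrix

variable {F K : Type*} [Field F] [Field K]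

theorem gl2_mem_center_iff (A : GL (Fin 2) K) :
    A ∈ Subgroup.center (GL (Fin 2) K) ↔
      (A.1 0 1 = 0 ∧ A.1 1 0 = 0 ∧ A.1 0 0 = A.1 1 1) := by
  rw [Matrix.GeneralLinearGroup.mem_center_iff_val_mem_range_scalar]
  constructor
  · rintro ⟨r, hr⟩
    have h := fun i j => congrFun (congrFun hr i) j
    have h01 := h 0 1
    have h10 := h 1 0
    have h00 := h 0 0
    have h11 := h 1 1
    simp at h01 h10 h00 h11
    exact ⟨h01.symm, h10.symm, by rw [← h00, ← h11]⟩
  · rintro ⟨h01, h10, h00⟩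
    refine ⟨A.1 0 0, ?_⟩
    ext i j
    fin_cases i <;> fin_cases j <;> simp [h01, h10, h00]

theorem mk_eq_of_smul (X Y : SpecialLinearGroup (Fin 2) F) (c : F) (h : Y.1 = c • X.1) :
    (QuotientGroup.mk X : Matrix.ProjectiveSpecialLinearGroup (Fin 2) F) = QuotientGroup.mk Y := by
  rw [QuotientGroup.eq, sl2_mem_center_iff]
  have : (X⁻¹ * Y).1 = c • (1 : Matrix (Fin 2) (Fin 2) F) := by
    rw [Matrix.SpecialLinearGroup.coe_mul, h, Matrix.mul_smul, ← Matrix.SpecialLinearGroup.coe_mul,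
      inv_mul_cancel, Matrix.SpecialLinearGroup.coe_one]
  rw [this]
  simp

/-- the element `s⁻¹ • ι(A)` of `SL₂(F)` -/
noncomputable def scaled (ι : K →+* F) (A : GL (Fin 2) K) (s : F) (hs : s * s = ι (A.1.det)) :
    SpecialLinearGroup (Fin 2) F :=
  ⟨s⁻¹ • (ι.mapMatrix A.1), by
    have hdet : A.1.det ≠ 0 := by
      have := A.isUnit
      exact ((Matrix.isUnit_iff_isUnit_det _).mp this).ne_zero
    have hs0 : s ≠ 0 := by
      intro h0
      rw [h0, zero_mul] at hs
      exact hdet (ι.injective (by rw [← hs, map_zero]))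
    rw [Matrix.det_smul, ← RingHom.map_det, ← hs]
    simp only [Fintype.card_fin]
    field_simp⟩

theorem scaled_val (ι : K →+* F) (A : GL (Fin 2) K) (s : F) (hs : s * s = ι (A.1.det)) :
    (scaled ι A s hs).1 = s⁻¹ • (ι.mapMatrix A.1) := rfl

theorem ne_zero_of_sq (ι : K →+* F) (A : GL (Fin 2) K) (s : F) (hs : s * s = ι (A.1.det)) :
    s ≠ 0 := by
  have hdet : A.1.det ≠ 0 := by
    have := A.isUnit
    exact ((Matrix.isUnit_iff_isUnit_det _).mp this).ne_zero
  intro h0
  rw [h0, zero_mul] at hs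
  exact hdet (ι.injective (by rw [← hs, map_zero]))

theorem scaled_mul (ι : K →+* F) (A B : GL (Fin 2) K) (sA sB sAB : F)
    (hA : sA * sA = ι (A.1.det)) (hB : sB * sB = ι (B.1.det))
    (hAB : sAB * sAB = ι ((A * B).1.det)) :
    (QuotientGroup.mk (scaled ι (A * B) sAB hAB) : Matrix.ProjectiveSpecialLinearGroup (Fin 2) F)
      = QuotientGroup.mk (scaled ι A sA hA) * QuotientGroup.mk (scaled ι B sB hB) := by
  rw [← QuotientGroup.mk_mul]
  symm
  apply mk_eq_of_smul _ _ (sA * sB / sAB)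
  have h1 := ne_zero_of_sq ι A _ hA
  have h2 := ne_zero_of_sq ι B _ hB
  have h3 := ne_zero_of_sq ι (A * B) _ hAB
  rw [Matrix.SpecialLinearGroup.coe_mul, scaled_val, scaled_val, scaled_val]
  rw [Matrix.smul_mul, Matrix.mul_smul, smul_smul, smul_smul, Units.val_mul, map_mul]
  congr 1
  field_simp

noncomputable def phi (ι : K →+* F) (hsq : ∀ a : K, ∃ s : F, s * s = ι a) :
    GL (Fin 2) K →* Matrix.ProjectiveSpecialLinearGroup (Fin 2) F :=
  MonoidHom.mk' (fun A => QuotientGroup.mk (scaled ι A (Classical.choose (hsq A.1.det))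
      (Classical.choose_spec (hsq A.1.det)))) (by
    intro A B
    exact scaled_mul ι A B _ _ _ _ _ _)

theorem phi_apply (ι : K →+* F) (hsq : ∀ a : K, ∃ s : F, s * s = ι a) (A : GL (Fin 2) K) :
    phi ι hsq A = QuotientGroup.mk (scaled ι A (Classical.choose (hsq A.1.det))
      (Classical.choose_spec (hsq A.1.det))) := rfl

theorem phi_ker (ι : K →+* F) (hsq : ∀ a : K, ∃ s : F, s * s = ι a) :
    (phi ι hsq).ker = Subgroup.center (GL (Fin 2) K) := by
  ext A
  rw [MonoidHom.mem_ker, phi_apply, QuotientGroup.eq_one_iff, sl2_mem_center_iff,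
    gl2_mem_center_iff, scaled_val]
  have hs := ne_zero_of_sq ι A _ (Classical.choose_spec (hsq A.1.det))
  set s := Classical.choose (hsq A.1.det)
  have hs' : s⁻¹ ≠ 0 := inv_ne_zero hs
  simp only [Matrix.smul_apply, RingHom.mapMatrix_apply, Matrix.map_apply, smul_eq_mul,
    mul_eq_zero, hs', false_or]
  constructor
  · rintro ⟨h1, h2, h3⟩
    refine ⟨ι.injective (by rw [h1, map_zero]), ι.injective (by rw [h2, map_zero]), ι.injective ?_⟩
    exact mul_left_cancel₀ hs' h3
  · rintro ⟨h1, h2, h3⟩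
    rw [h1, h2, h3]; simp

theorem pgl_embed (ι : K →+* F) (hsq : ∀ a : K, ∃ s : F, s * s = ι a) :
    ∃ H : Subgroup (Matrix.ProjectiveSpecialLinearGroup (Fin 2) F),
      Nonempty (H ≃* Matrix.ProjGenLinGroup (Fin 2) K) := by
  refine ⟨(phi ι hsq).range, ⟨?_⟩⟩
  exact ((QuotientGroup.quotientMulEquivOfEq (phi_ker ι hsq).symm).trans
    (QuotientGroup.quotientKerEquivRange (phi ι hsq))).symm


end C

section D
open Matrix


theorem geom_nat (a m : ℕ) : (a + 1) ^ m = a * (∑ i ∈ Finset.range m, (a + 1) ^ i) + 1 := by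
  induction m with
  | zero => simp
  | succ m ih =>
    rw [Finset.sum_range_succ, pow_succ, mul_add]
    nlinarith [ih]

theorem geom_parity (x m : ℕ) (hx : x % 2 = 1) :
    (∑ i ∈ Finset.range m, x ^ i) % 2 = m % 2 := by
  induction m with
  | zero => simp
  | succ m ih =>
    rw [Finset.sum_range_succ]
    have : x ^ m % 2 = 1 := by rw [Nat.pow_mod, hx]; simp
    omega

theorem arith (r m N : ℕ) (hr : r % 2 = 1) (hm : m % 2 = 1)
    (h : r * (r ^ 2 - 1) ∣ N) (hN : N * 2 = r ^ m * ((r ^ m) ^ 2 - 1)) (hr3 : 2 ≤ r) : False := by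
  obtain ⟨a, ha⟩ : ∃ a, r ^ 2 = a + 1 := ⟨r ^ 2 - 1, by have : 1 ≤ r ^ 2 := Nat.one_le_pow _ _ (by omega); omega⟩
  have hapos : 0 < a := by
    have : 2 ^ 2 ≤ r ^ 2 := Nat.pow_le_pow_left hr3 2
    omega
  have hx : (a + 1) % 2 = 1 := by
    rw [← ha, Nat.pow_mod, hr]
  set S := ∑ i ∈ Finset.range m, (a + 1) ^ i with hS
  have hg := geom_nat a m
  have hpar := geom_parity (a + 1) m hx
  rw [← hS] at hg hpar
  have e1 : (r ^ m) ^ 2 - 1 = a * S := by
    rw [← pow_mul, mul_comm, pow_mul, ha, hg]; simp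
  have e2 : r ^ 2 - 1 = a := by omega
  obtain ⟨m', rfl⟩ : ∃ m', m = m' + 1 := ⟨m - 1, by omega⟩
  rw [e1] at hN
  rw [e2] at h
  have hdvd : (r * a) * 2 ∣ (r * a) * (r ^ m' * S) := by
    have : (r * a) * 2 ∣ N * 2 := Nat.mul_dvd_mul_right h 2
    rw [hN] at this
    convert this using 1
    rw [pow_succ]; ring
  have h2 : 2 ∣ r ^ m' * S := Nat.dvd_of_mul_dvd_mul_left (by positivity) hdvd
  have h3 : (r ^ m' * S) % 2 = 1 := by
    rw [Nat.mul_mod, Nat.pow_mod, hr, hpar, hm]; simp
  omega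

variable {F K : Type*} [Field F] [Fintype F] [Field K] [Fintype K]

theorem card_center_sl2 (hodd : Odd (Fintype.card F)) :
    Nat.card (Subgroup.center (Matrix.SpecialLinearGroup (Fin 2) F)) = 2 := by
  classical
  rw [Nat.card_congr (Matrix.SpecialLinearGroup.center_equiv_rootsOfUnity (n := Fin 2) (R := F)).toEquiv]
  rw [Fintype.card_fin, max_eq_left (by norm_num), rootsOfUnity_eq_ker, IsCyclic.card_powMonoidHom_ker,
    Nat.card_eq_fintype_card, Fintype.card_units]
  obtain ⟨c, hc⟩ := hodd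
  rw [hc]
  have : 2 * c + 1 - 1 = 2 * c := by omega
  rw [this]
  exact Nat.gcd_eq_right (dvd_mul_right 2 c)

theorem no_pgl_of_odd (m : ℕ) (hmodd : Odd m) (h : Fintype.card K ^ m = Fintype.card F)
    (hodd : Odd (Fintype.card F)) (H : Subgroup (Matrix.ProjectiveSpecialLinearGroup (Fin 2) F))
    (e : H ≃* Matrix.ProjGenLinGroup (Fin 2) K) : False := by
  have cH : Nat.card H = Fintype.card K * (Fintype.card K ^ 2 - 1) := by
    rw [Nat.card_congr e.toEquiv, Cfsg.Agent.Lib.Helper5.card_PGL_eq_card_SL,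
      Cfsg.Agent.Lib.Helper38.card_SL2]
  have cP : Nat.card (Matrix.ProjectiveSpecialLinearGroup (Fin 2) F) * 2
      = Fintype.card F * (Fintype.card F ^ 2 - 1) := by
    have := Subgroup.card_eq_card_quotient_mul_card_subgroup
      (Subgroup.center (Matrix.SpecialLinearGroup (Fin 2) F))
    rw [card_center_sl2 hodd, Cfsg.Agent.Lib.Helper38.card_SL2] at this
    exact this.symm
  have hdvd : Nat.card H ∣ Nat.card (Matrix.ProjectiveSpecialLinearGroup (Fin 2) F) :=
    Subgroup.card_subgroup_dvd_card H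
  rw [cH] at hdvd
  rw [← h] at cP
  have hrodd : Fintype.card K % 2 = 1 := by
    by_contra hre
    have hre' : Even (Fintype.card K) := Nat.even_iff.mpr (by omega)
    have : Even (Fintype.card K ^ m) := Nat.even_pow.mpr ⟨hre', by
      rintro rfl
      simp at hmodd⟩
    rw [h] at this
    exact (Nat.not_even_iff_odd.mpr hodd) this
  exact arith (Fintype.card K) m _ hrodd (Nat.odd_iff.mp hmodd) hdvd cP Fintype.one_lt_card


end D

/-- Subfield subgroups: let F be a finite field of odd order q and K a finite field with |K|^m = q, m ≥ 1. Then PSL_2(F) has a subgroup isomorphic to PSL_2(K), and has a subgroup isomorphic to PGL_2(K) if and only if m is even. -/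
theorem result {F K : Type*} [Field F] [Fintype F] [Field K] [Fintype K] {q : ℕ} (hF : Fintype.card F = q) (hodd : Odd q) (m : ℕ) (hm : 1 ≤ m) (hK : Fintype.card K ^ m = q) : (∃ H : Subgroup (Matrix.ProjectiveSpecialLinearGroup (Fin 2) F), Nonempty (H ≃* Matrix.ProjectiveSpecialLinearGroup (Fin 2) K)) ∧ ((∃ H : Subgroup (Matrix.ProjectiveSpecialLinearGroup (Fin 2) F), Nonempty (H ≃* Matrix.ProjGenLinGroup (Fin 2) K)) ↔ Even m) := by
  have hFK : Fintype.card K ^ m = Fintype.card F := by rw [hK, hF]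
  have hoddF : Odd (Fintype.card F) := hF ▸ hodd
  obtain ⟨ι⟩ := exists_ringHom m hm hFK
  refine ⟨psl_embed ι, ⟨?_, ?_⟩⟩
  · rintro ⟨H, ⟨e⟩⟩
    by_contra hne
    exact no_pgl_of_odd m (Nat.not_even_iff_odd.mp hne) hFK hoddF H e
  · intro heven
    exact pgl_embed ι (exists_sqrt m heven hFK hoddF ι)

end Cfsg.Agent.S0805
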