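import Cfsg.Statements.S0802
import Cfsg.Agent.Lib.Helper89.A4Sub
import Cfsg.Agent.Lib.Helper89.PSL2Sub

set_option autoImplicit false
open Cfsg

namespace Cfsg.Agent.S0802

open Cfsg.Agent.Lib.Helper89

variable {F : Type*} [Field F]

/-- elements of `SL₂(F)` of orders `2, 3, 3` modulo the centre give an `A₄` in `PSL₂(F)` -/
theorem exists_a4_in_psl2 (x y : Matrix.SpecialLinearGroup (Fin 2) F)
    (hx : x ^ 2 ∈ Subgroup.center (Matrix.SpecialLinearGroup (Fin 2) F))
    (hy : y ^ 3 ∈ Subgroup.center (Matrix.SpecialLinearGroup (Fin 2) F))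
    (hxy : (x * y) ^ 3 ∈ Subgroup.center (Matrix.SpecialLinearGroup (Fin 2) F))
    (hxc : x ∉ Subgroup.center (Matrix.SpecialLinearGroup (Fin 2) F)) :
    ∃ H : Subgroup (Matrix.ProjectiveSpecialLinearGroup (Fin 2) F),
      Nonempty (H ≃* alternatingGroup (Fin 4)) := by
  apply A4.exists_subgroup_mulEquiv_alternatingGroup_four
    (QuotientGroup.mk x : Matrix.ProjectiveSpecialLinearGroup (Fin 2) F) (QuotientGroup.mk y)
  · rw [← QuotientGroup.mk_pow, QuotientGroup.eq_one_iff]
    exact hx
  · rw [← QuotientGroup.mk_pow, QuotientGroup.eq_one_iff]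
    exact hy
  · rw [← QuotientGroup.mk_mul, ← QuotientGroup.mk_pow, QuotientGroup.eq_one_iff]
    exact hxy
  · intro h
    exact hxc ((QuotientGroup.eq_one_iff _).mp h)

/-! ### odd characteristic -/

/-- the quaternion `i` -/
def sM : Matrix.SpecialLinearGroup (Fin 2) F :=
  ⟨!![0, -1; 1, 0], by rw [Matrix.det_fin_two_of]; ring⟩

/-- the quaternion `(1 + i + j + k)/2` -/
def tOdd (h α β : F) (hh : 2 * h = 1) (hab : α * α + β * β = -1) :
    Matrix.SpecialLinearGroup (Fin 2) F :=
  ⟨!![h * (1 + α - β), h * (-1 + β + α); h * (1 + β + α), h * (1 - α + β)], by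
    rw [Matrix.det_fin_two_of]
    grind⟩

theorem sM_val : (sM : Matrix.SpecialLinearGroup (Fin 2) F).1 = !![0, -1; 1, 0] := rfl

theorem tOdd_val (h α β : F) (hh : 2 * h = 1) (hab : α * α + β * β = -1) :
    (tOdd h α β hh hab : Matrix (Fin 2) (Fin 2) F) =
      !![h * (1 + α - β), h * (-1 + β + α); h * (1 + β + α), h * (1 - α + β)] := rfl

theorem exists_a4_odd (h α β : F) (hh : 2 * h = 1) (hab : α * α + β * β = -1) :
    ∃ H : Subgroup (Matrix.ProjectiveSpecialLinearGroup (Fin 2) F),
      Nonempty (H ≃* alternatingGroup (Fin 4)) := by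
  apply exists_a4_in_psl2 sM (tOdd h α β hh hab)
  · rw [sl2_sq_of_trace_zero]
    · exact sl2_neg_one_mem_center
    · show Matrix.trace (sM : Matrix.SpecialLinearGroup (Fin 2) F).1 = 0
      rw [sM_val, Matrix.trace_fin_two_of]; ring
  · rw [sl2_cube_of_trace_one]
    · exact sl2_neg_one_mem_center
    · rw [tOdd_val, Matrix.trace_fin_two_of]
      grind
  · rw [sl2_cube_of_trace_neg_one]
    · exact Subgroup.one_mem _
    · rw [Matrix.SpecialLinearGroup.coe_mul, tOdd_val]
      show Matrix.trace ((sM : Matrix.SpecialLinearGroup (Fin 2) F).1 * _) = -1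
      rw [sM_val, Matrix.mul_fin_two, Matrix.trace_fin_two_of]
      grind
  · apply sl2_not_mem_center_of_ne_zero
    show (sM : Matrix.SpecialLinearGroup (Fin 2) F).1 1 0 ≠ 0
    rw [sM_val]
    simp

/-! ### characteristic two with a cube root of unity -/

/-- a transvection -/
def sTwo : Matrix.SpecialLinearGroup (Fin 2) F :=
  ⟨!![1, 0; 1, 1], by rw [Matrix.det_fin_two_of]; ring⟩

/-- a diagonal element of order three -/
def tTwo (ω : F) (hω : ω * ω + ω + 1 = 0) : Matrix.SpecialLinearGroup (Fin 2) F :=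
  ⟨!![ω, 0; 0, ω * ω], by
    rw [Matrix.det_fin_two_of]
    grind⟩

theorem sTwo_val : (sTwo : Matrix.SpecialLinearGroup (Fin 2) F).1 = !![1, 0; 1, 1] := rfl

theorem tTwo_val (ω : F) (hω : ω * ω + ω + 1 = 0) :
    (tTwo ω hω : Matrix (Fin 2) (Fin 2) F) = !![ω, 0; 0, ω * ω] := rfl

theorem exists_a4_two (ω : F) (hω : ω * ω + ω + 1 = 0) (h2 : (2 : F) = 0) :
    ∃ H : Subgroup (Matrix.ProjectiveSpecialLinearGroup (Fin 2) F),
      Nonempty (H ≃* alternatingGroup (Fin 4)) := by
  apply exists_a4_in_psl2 sTwo (tTwo ω hω)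
  · rw [sl2_sq_of_trace_zero]
    · exact sl2_neg_one_mem_center
    · show Matrix.trace (sTwo : Matrix.SpecialLinearGroup (Fin 2) F).1 = 0
      rw [sTwo_val, Matrix.trace_fin_two_of]
      linear_combination h2
  · rw [sl2_cube_of_trace_neg_one]
    · exact Subgroup.one_mem _
    · rw [tTwo_val, Matrix.trace_fin_two_of]
      linear_combination hω
  · rw [sl2_cube_of_trace_neg_one]
    · exact Subgroup.one_mem _
    · rw [Matrix.SpecialLinearGroup.coe_mul, tTwo_val]
      show Matrix.trace ((sTwo : Matrix.SpecialLinearGroup (Fin 2) F).1 * _) = -1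
      rw [sTwo_val, Matrix.mul_fin_two, Matrix.trace_fin_two_of]
      linear_combination hω
  · apply sl2_not_mem_center_of_ne_zero
    show (sTwo : Matrix.SpecialLinearGroup (Fin 2) F).1 1 0 ≠ 0
    rw [sTwo_val]
    simp

/-! ### characteristic two: an `A₄` forces a cube root of unity -/

theorem trace_zero_of_sq (h2 : (2 : F) = 0) (a b c d : F) (hdet : a * d - b * c = 1)
    (e00 : a * a + b * c = 1) (e01 : a * b + b * d = 0) (e10 : c * a + d * c = 0)
    (e11 : c * b + d * d = 1) : a + d = 0 := by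
  by_contra hne
  have hb : b = 0 := by
    have : (a + d) * b = 0 := by grind
    rcases mul_eq_zero.mp this with h | h
    · exact absurd h hne
    · exact h
  have hc : c = 0 := by
    have : (a + d) * c = 0 := by grind
    rcases mul_eq_zero.mp this with h | h
    · exact absurd h hne
    · exact h
  subst hb hc
  have h1 : (a - d) * (a + d) = 0 := by grind
  rcases mul_eq_zero.mp h1 with h | h
  · apply hne
    have : a = d := sub_eq_zero.mp h
    rw [this]
    linear_combination d * h2
  · exact hne h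

theorem lambda_exists (h2 : (2 : F) = 0) (a b c d a' b' c' d' : F)
    (hdu : a * d - b * c = 1) (hdv : a' * d' - b' * c' = 1)
    (htu : a + d = 0) (htv : a' + d' = 0)
    (hcomm : b * c' = b' * c) (hu1 : ¬ (a = 1 ∧ b = 0 ∧ c = 0 ∧ d = 1)) :
    ∃ l : F, a' - 1 = l * (a - 1) ∧ b' = l * b ∧ c' = l * c ∧ d' - 1 = l * (d - 1) := by
  by_cases hb : b = 0
  · subst hb
    have ha : a = 1 := by
      have : (a - 1) * (a - 1) = 0 := by grind
      exact sub_eq_zero.mp (mul_self_eq_zero.mp this)
    have hd : d = 1 := by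
      have : (d - 1) * (d - 1) = 0 := by grind
      exact sub_eq_zero.mp (mul_self_eq_zero.mp this)
    have hc : c ≠ 0 := fun hc => hu1 ⟨ha, rfl, hc, hd⟩
    have hb' : b' = 0 := by
      have : b' * c = 0 := by rw [← hcomm, zero_mul]
      rcases mul_eq_zero.mp this with h | h
      · exact h
      · exact absurd h hc
    subst hb'
    have ha' : a' = 1 := by
      have : (a' - 1) * (a' - 1) = 0 := by grind
      exact sub_eq_zero.mp (mul_self_eq_zero.mp this)
    have hd' : d' = 1 := by
      have : (d' - 1) * (d' - 1) = 0 := by grind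
      exact sub_eq_zero.mp (mul_self_eq_zero.mp this)
    refine ⟨c' / c, ?_, ?_, ?_, ?_⟩
    · rw [ha, ha']; ring
    · ring
    · field_simp
    · rw [hd, hd']; ring
  · refine ⟨b' / b, ?_, ?_, ?_, ?_⟩
    · have : (b * (a' - 1) - b' * (a - 1)) * (b * (a' - 1) - b' * (a - 1)) = 0 := by grind
      have := mul_self_eq_zero.mp this
      field_simp
      linear_combination this
    · field_simp
    · field_simp
      linear_combination hcomm
    · have : (b * (d' - 1) - b' * (d - 1)) * (b * (d' - 1) - b' * (d - 1)) = 0 := by grind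
      have := mul_self_eq_zero.mp this
      field_simp
      linear_combination this

theorem cube_root_of_config (h2 : (2 : F) = 0) (a b c d a' b' c' d' p q r s l : F)
    (hdg : p * s - q * r = 1)
    (hl1 : a' - 1 = l * (a - 1)) (hl2 : b' = l * b) (hl3 : c' = l * c) (hl4 : d' - 1 = l * (d - 1))
    (e00 : a * a + b * c = 1) (e01 : a * b + b * d = 0) (e10 : c * a + d * c = 0)
    (e11 : c * b + d * d = 1)
    (g00 : p * a + q * c = a' * p + b' * r) (g01 : p * b + q * d = a' * q + b' * s)
    (g10 : r * a + s * c = c' * p + d' * r) (g11 : r * b + s * d = c' * q + d' * s)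
    (k00 : p * a' + q * c' = (a * a' + b * c') * p + (a * b' + b * d') * r)
    (k01 : p * b' + q * d' = (a * a' + b * c') * q + (a * b' + b * d') * s)
    (k10 : r * a' + s * c' = (c * a' + d * c') * p + (c * b' + d * d') * r)
    (k11 : r * b' + s * d' = (c * a' + d * c') * q + (c * b' + d * d') * s)
    (hu1 : ¬ (a = 1 ∧ b = 0 ∧ c = 0 ∧ d = 1)) : l * l + l + 1 = 0 := by
  by_contra hκ
  have n00 : (l * l + l + 1) * ((a - 1) * p + b * r) = 0 := by grind
  have n01 : (l * l + l + 1) * ((a - 1) * q + b * s) = 0 := by grind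
  have n10 : (l * l + l + 1) * (c * p + (d - 1) * r) = 0 := by grind
  have n11 : (l * l + l + 1) * (c * q + (d - 1) * s) = 0 := by grind
  have m00 := (mul_eq_zero.mp n00).resolve_left hκ
  have m01 := (mul_eq_zero.mp n01).resolve_left hκ
  have m10 := (mul_eq_zero.mp n10).resolve_left hκ
  have m11 := (mul_eq_zero.mp n11).resolve_left hκ
  apply hu1
  refine ⟨?_, ?_, ?_, ?_⟩
  · have : a - 1 = 0 := by linear_combination s * m00 - r * m01 - (a - 1) * hdg
    exact sub_eq_zero.mp this
  · linear_combination p * m01 - q * m00 - b * hdg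
  · linear_combination s * m10 - r * m11 - c * hdg
  · have : d - 1 = 0 := by linear_combination p * m11 - q * m10 - (d - 1) * hdg
    exact sub_eq_zero.mp this

omit [Field F] in
theorem entries_of_eq {x00 x01 x10 x11 y00 y01 y10 y11 : F}
    (h : !![x00, x01; x10, x11] = !![y00, y01; y10, y11]) :
    x00 = y00 ∧ x01 = y01 ∧ x10 = y10 ∧ x11 = y11 := by
  refine ⟨?_, ?_, ?_, ?_⟩
  · simpa using congrFun (congrFun h 0) 0
  · simpa using congrFun (congrFun h 0) 1
  · simpa using congrFun (congrFun h 1) 0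
  · simpa using congrFun (congrFun h 1) 1

theorem mk_injective_char_two (h2 : (2 : F) = 0) :
    Function.Injective (QuotientGroup.mk : Matrix.SpecialLinearGroup (Fin 2) F →
      Matrix.ProjectiveSpecialLinearGroup (Fin 2) F) := by
  intro A B hAB
  rw [QuotientGroup.eq, Matrix.SpecialLinearGroup.mem_center_iff] at hAB
  obtain ⟨r, hr, hrA⟩ := hAB
  rw [Fintype.card_fin] at hr
  have hr1 : r = 1 := by
    have : (r - 1) * (r - 1) = 0 := by linear_combination hr - r * h2 + h2
    have := mul_self_eq_zero.mp this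
    exact sub_eq_zero.mp this
  rw [hr1, map_one] at hrA
  have h1 : A⁻¹ * B = 1 := Subtype.ext hrA.symm
  exact inv_mul_eq_one.mp h1

theorem cube_root_of_sl2_config (h2 : (2 : F) = 0) (U V G : Matrix.SpecialLinearGroup (Fin 2) F)
    (hUU : U * U = 1) (hVV : V * V = 1) (hU1 : U ≠ 1) (hUV : U * V = V * U) (hGU : G * U = V * G)
    (hGV : G * V = U * V * G) : ∃ l : F, l * l + l + 1 = 0 := by
  obtain ⟨a, b, c, d, hU, hdu⟩ := sl2_entries U
  obtain ⟨a', b', c', d', hV, hdv⟩ := sl2_entries V
  obtain ⟨p, q, r, s, hG, hdg⟩ := sl2_entries G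
  have coe := fun {X Y : Matrix.SpecialLinearGroup (Fin 2) F} (h : X = Y) =>
    congrArg (fun Z : Matrix.SpecialLinearGroup (Fin 2) F => (Z : Matrix (Fin 2) (Fin 2) F)) h
  have mUU := coe hUU
  have mVV := coe hVV
  have mUV := coe hUV
  have mGU := coe hGU
  have mGV := coe hGV
  simp only [Matrix.SpecialLinearGroup.coe_mul, Matrix.SpecialLinearGroup.coe_one, hU, hV, hG,
    Matrix.mul_fin_two, Matrix.one_fin_two] at mUU mVV mUV mGU mGV
  obtain ⟨e00, e01, e10, e11⟩ := entries_of_eq mUU
  obtain ⟨f00, f01, f10, f11⟩ := entries_of_eq mVV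
  obtain ⟨c00, c01, c10, c11⟩ := entries_of_eq mUV
  obtain ⟨g00, g01, g10, g11⟩ := entries_of_eq mGU
  obtain ⟨k00, k01, k10, k11⟩ := entries_of_eq mGV
  have htu : a + d = 0 := trace_zero_of_sq h2 a b c d hdu e00 e01 e10 e11
  have htv : a' + d' = 0 := trace_zero_of_sq h2 a' b' c' d' hdv f00 f01 f10 f11
  have hcomm : b * c' = b' * c := by linear_combination c00
  have hu1 : ¬ (a = 1 ∧ b = 0 ∧ c = 0 ∧ d = 1) := by
    rintro ⟨rfl, rfl, rfl, rfl⟩
    apply hU1
    apply Subtype.ext
    rw [hU, Matrix.SpecialLinearGroup.coe_one, Matrix.one_fin_two]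
  obtain ⟨l, hl1, hl2, hl3, hl4⟩ := lambda_exists h2 a b c d a' b' c' d' hdu hdv htu htv hcomm hu1
  exact ⟨l, cube_root_of_config h2 a b c d a' b' c' d' p q r s l hdg hl1 hl2 hl3 hl4 e00 e01 e10 e11
    g00 g01 g10 g11 k00 k01 k10 k11 hu1⟩


open Equiv in
/-- another double transposition -/
def c' : Perm (Fin 4) := swap 0 3 * swap 1 2

open Equiv in
theorem a4_config : A4.a' * A4.a' = 1 ∧ c' * c' = 1 ∧ A4.a' ≠ 1 ∧ A4.a' * c' = c' * A4.a' ∧
    A4.b' * A4.a' = c' * A4.b' ∧ A4.b' * c' = A4.a' * c' * A4.b' ∧ Perm.sign c' = 1 := by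
  decide

theorem cube_root_of_a4 (h2 : (2 : F) = 0)
    (H : Subgroup (Matrix.ProjectiveSpecialLinearGroup (Fin 2) F))
    (e : H ≃* alternatingGroup (Fin 4)) : ∃ l : F, l * l + l + 1 = 0 := by
  obtain ⟨haa, hcc, ha1, hac, hba, hbc, hcs⟩ := a4_config
  let cA : alternatingGroup (Fin 4) := ⟨c', Equiv.Perm.mem_alternatingGroup.mpr hcs⟩
  -- the configuration inside `PSL₂(F)`
  let f : alternatingGroup (Fin 4) →* Matrix.ProjectiveSpecialLinearGroup (Fin 2) F :=
    H.subtype.comp e.symm.toMonoidHom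
  have hf : Function.Injective f := by
    intro x y hxy
    have : e.symm x = e.symm y := Subtype.ext hxy
    exact e.symm.injective this
  obtain ⟨U, hU⟩ := QuotientGroup.mk_surjective (f A4.aA)
  obtain ⟨V, hV⟩ := QuotientGroup.mk_surjective (f cA)
  obtain ⟨G, hG⟩ := QuotientGroup.mk_surjective (f A4.bA)
  have hinj := mk_injective_char_two h2
  have hUU : U * U = 1 := by
    apply hinj
    rw [QuotientGroup.mk_mul, hU, ← map_mul]
    have : A4.aA * A4.aA = 1 := Subtype.ext haa
    rw [this, map_one]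
    rfl
  have hVV : V * V = 1 := by
    apply hinj
    rw [QuotientGroup.mk_mul, hV, ← map_mul]
    have : cA * cA = 1 := Subtype.ext hcc
    rw [this, map_one]
    rfl
  have hU1 : U ≠ 1 := by
    intro h
    rw [h] at hU
    have h1 : f A4.aA = f 1 := by rw [← hU, map_one]; rfl
    have := hf h1
    exact ha1 (congrArg Subtype.val this)
  have hUV : U * V = V * U := by
    apply hinj
    rw [QuotientGroup.mk_mul, QuotientGroup.mk_mul, hU, hV, ← map_mul, ← map_mul]
    have : A4.aA * cA = cA * A4.aA := Subtype.ext hac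
    rw [this]
  have hGU : G * U = V * G := by
    apply hinj
    rw [QuotientGroup.mk_mul, QuotientGroup.mk_mul, hU, hV, hG, ← map_mul, ← map_mul]
    have : A4.bA * A4.aA = cA * A4.bA := Subtype.ext hba
    rw [this]
  have hGV : G * V = U * V * G := by
    apply hinj
    rw [QuotientGroup.mk_mul, QuotientGroup.mk_mul, QuotientGroup.mk_mul, hU, hV, hG, ← map_mul,
      ← map_mul, ← map_mul]
    have : A4.bA * cA = A4.aA * cA * A4.bA := Subtype.ext hbc
    rw [this]
  exact cube_root_of_sl2_config h2 U V G hUU hVV hU1 hUV hGU hGV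

theorem two_pow_mod_three (n : ℕ) : (Even n → 2 ^ n % 3 = 1) ∧ (Odd n → 2 ^ n % 3 = 2) := by
  induction n with
  | zero => simp
  | succ n ih =>
    rcases Nat.even_or_odd n with h | h
    · have := ih.1 h
      refine ⟨fun h' => ?_, fun _ => ?_⟩
      · exact absurd h (Nat.not_even_iff_odd.mpr (by simpa [Nat.even_add_one] using h'))
      · rw [pow_succ]; omega
    · have := ih.2 h
      refine ⟨fun _ => ?_, fun h' => ?_⟩
      · rw [pow_succ]; omega
      · exact absurd h (Nat.not_odd_iff_even.mpr (by simpa [Nat.odd_add_one] using h'))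

theorem exists_omega_of_three_dvd [Fintype F] (h3 : 3 ∣ Fintype.card F - 1) :
    ∃ ω : F, ω * ω + ω + 1 = 0 := by
  classical
  have : Fact (Nat.Prime 3) := ⟨Nat.prime_three⟩
  have hcard : Fintype.card Fˣ = Fintype.card F - 1 := Fintype.card_units F
  obtain ⟨x, hx⟩ := exists_prime_orderOf_dvd_card 3 (by rw [hcard]; exact h3)
  refine ⟨(x : F), ?_⟩
  have hx3 : (x : F) ^ 3 = 1 := by
    have := pow_orderOf_eq_one x
    rw [hx] at this
    have h' := congrArg Units.val this
    rwa [Units.val_pow_eq_pow_val, Units.val_one] at h'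
  have hx1 : (x : F) ≠ 1 := by
    intro h1
    have : x = 1 := Units.ext h1
    rw [this, orderOf_one] at hx
    omega
  have hfac : ((x : F) - 1) * ((x : F) * x + x + 1) = 0 := by linear_combination hx3
  rcases mul_eq_zero.mp hfac with h | h
  · exact absurd (sub_eq_zero.mp h) hx1
  · exact h

theorem three_dvd_of_omega [Fintype F] (h2 : (2 : F) = 0) (l : F) (hl : l * l + l + 1 = 0) :
    3 ∣ Fintype.card F - 1 := by
  classical
  have hl0 : l ≠ 0 := by
    rintro rfl
    simp at hl
  have hl3 : l ^ 3 = 1 := by linear_combination (l - 1) * hl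
  have hl1 : l ≠ 1 := by
    rintro rfl
    have : (1 : F) = 0 := by linear_combination hl - h2
    exact one_ne_zero this
  have hord : orderOf (Units.mk0 l hl0) = 3 := by
    apply orderOf_eq_prime
    · apply Units.ext
      rw [Units.val_pow_eq_pow_val, Units.val_mk0, hl3, Units.val_one]
    · intro h
      exact hl1 (congrArg Units.val h)
  have := orderOf_dvd_card (x := Units.mk0 l hl0)
  rwa [hord, Fintype.card_units] at this

/-- PSL_2(p^n) has a subgroup isomorphic to A_4 if and only if it is not the case that p = 2 and n is odd. -/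
theorem result {F : Type*} [Field F] [Fintype F] (p n : ℕ) [Fact p.Prime] [CharP F p] (hF : Fintype.card F = p ^ n) : (∃ H : Subgroup (Matrix.ProjectiveSpecialLinearGroup (Fin 2) F), Nonempty (H ≃* alternatingGroup (Fin 4))) ↔ ¬ (p = 2 ∧ Odd n) := by
  constructor
  · rintro ⟨H, ⟨e⟩⟩ ⟨rfl, hn⟩
    have h2 : (2 : F) = 0 := CharTwo.two_eq_zero
    obtain ⟨l, hl⟩ := cube_root_of_a4 h2 H e
    have h3 := three_dvd_of_omega h2 l hl
    rw [hF] at h3
    have := (two_pow_mod_three n).2 hn
    omega
  · intro hpn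
    by_cases hp : p = 2
    · subst hp
      have hn : Even n := by
        rcases Nat.even_or_odd n with h | h
        · exact h
        · exact absurd ⟨rfl, h⟩ hpn
      have h2 : (2 : F) = 0 := CharTwo.two_eq_zero
      have h3 : 3 ∣ Fintype.card F - 1 := by
        rw [hF]
        have := (two_pow_mod_three n).1 hn
        omega
      obtain ⟨ω, hω⟩ := exists_omega_of_three_dvd h3
      exact exists_a4_two ω hω h2
    · have h20 : (2 : F) ≠ 0 := by
        intro h
        have : ((2 : ℕ) : F) = 0 := by exact_mod_cast h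
        rw [CharP.cast_eq_zero_iff F p] at this
        have hp2 := (Nat.prime_dvd_prime_iff_eq (Fact.out : p.Prime) Nat.prime_two).mp this
        exact hp hp2
      have : NeZero p := ⟨(Fact.out : p.Prime).ne_zero⟩
      obtain ⟨a, b, hab⟩ := CharP.sq_add_sq F p (-1)
      apply exists_a4_odd (2⁻¹) (a : F) (b : F) (mul_inv_cancel₀ h20)
      have : ((-1 : ℤ) : F) = -1 := by simp
      rw [← this, ← hab]
      ring

end Cfsg.Agent.S0802
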