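import Cfsg.Statements.S0803
import Cfsg.Agent.S0243
import Cfsg.Agent.Lib.Helper89.S4Sub

set_option autoImplicit false
open Cfsg

namespace Cfsg.Agent.S0803

open Cfsg.Agent.Lib.Helper89

variable {F : Type*} [Field F]

/-! ### the octahedral group in odd characteristic with `√2` -/

/-- `(i + j)/√2` -/
def aM (ρ α β : F) (hρ : 2 * (ρ * ρ) = 1) (hab : α * α + β * β = -1) :
    Matrix.SpecialLinearGroup (Fin 2) F :=
  ⟨!![ρ * α, ρ * (-1 + β); ρ * (1 + β), ρ * (-α)], by
    rw [Matrix.det_fin_two_of]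
    grind⟩

/-- `(j + k)/√2` -/
def bM (ρ α β : F) (hρ : 2 * (ρ * ρ) = 1) (hab : α * α + β * β = -1) :
    Matrix.SpecialLinearGroup (Fin 2) F :=
  ⟨!![ρ * (α - β), ρ * (β + α); ρ * (β + α), ρ * (-α + β)], by
    rw [Matrix.det_fin_two_of]
    grind⟩

/-- `(i - j)/√2` -/
def cM (ρ α β : F) (hρ : 2 * (ρ * ρ) = 1) (hab : α * α + β * β = -1) :
    Matrix.SpecialLinearGroup (Fin 2) F :=
  ⟨!![ρ * (-α), ρ * (-1 - β); ρ * (1 - β), ρ * α], by
    rw [Matrix.det_fin_two_of]
    grind⟩

theorem aM_val (ρ α β : F) (hρ : 2 * (ρ * ρ) = 1) (hab : α * α + β * β = -1) :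
    (aM ρ α β hρ hab : Matrix (Fin 2) (Fin 2) F) =
      !![ρ * α, ρ * (-1 + β); ρ * (1 + β), ρ * (-α)] := rfl

theorem bM_val (ρ α β : F) (hρ : 2 * (ρ * ρ) = 1) (hab : α * α + β * β = -1) :
    (bM ρ α β hρ hab : Matrix (Fin 2) (Fin 2) F) =
      !![ρ * (α - β), ρ * (β + α); ρ * (β + α), ρ * (-α + β)] := rfl

theorem cM_val (ρ α β : F) (hρ : 2 * (ρ * ρ) = 1) (hab : α * α + β * β = -1) :
    (cM ρ α β hρ hab : Matrix (Fin 2) (Fin 2) F) =
      !![ρ * (-α), ρ * (-1 - β); ρ * (1 - β), ρ * α] := rfl

theorem exists_s4_odd (ρ α β : F) (hρ : 2 * (ρ * ρ) = 1) (hab : α * α + β * β = -1) :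
    ∃ H : Subgroup (Matrix.ProjectiveSpecialLinearGroup (Fin 2) F),
      Nonempty (H ≃* Equiv.Perm (Fin 4)) := by
  have h20 : (2 : F) ≠ 0 := by
    intro h
    rw [h, zero_mul] at hρ
    exact zero_ne_one hρ
  have hρ0 : ρ ≠ 0 := by
    intro h
    rw [h, mul_zero, mul_zero] at hρ
    exact zero_ne_one hρ
  apply exists_s4_in_psl2 (aM ρ α β hρ hab) (bM ρ α β hρ hab) (cM ρ α β hρ hab)
  · rw [sl2_sq_of_trace_zero]
    · exact sl2_neg_one_mem_center
    · rw [aM_val, Matrix.trace_fin_two_of]; ring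
  · rw [sl2_sq_of_trace_zero]
    · exact sl2_neg_one_mem_center
    · rw [bM_val, Matrix.trace_fin_two_of]; ring
  · rw [sl2_sq_of_trace_zero]
    · exact sl2_neg_one_mem_center
    · rw [cM_val, Matrix.trace_fin_two_of]; ring
  · rw [sl2_cube_of_trace_neg_one]
    · exact Subgroup.one_mem _
    · rw [Matrix.SpecialLinearGroup.coe_mul, aM_val, bM_val, Matrix.mul_fin_two, Matrix.trace_fin_two_of]
      grind
  · rw [sl2_cube_of_trace_one]
    · exact sl2_neg_one_mem_center
    · rw [Matrix.SpecialLinearGroup.coe_mul, bM_val, cM_val, Matrix.mul_fin_two, Matrix.trace_fin_two_of]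
      grind
  · rw [sl2_sq_of_trace_zero]
    · exact sl2_neg_one_mem_center
    · rw [Matrix.SpecialLinearGroup.coe_mul, aM_val, cM_val, Matrix.mul_fin_two, Matrix.trace_fin_two_of]
      grind
  · -- a is not central
    by_cases h10 : ρ * (1 + β) = 0
    · apply sl2_not_mem_center_of_ne_zero'
      rw [aM_val]
      intro h0
      have h01 : ρ * (-1 + β) = 0 := by simpa using h0
      have : ρ * 2 = 0 := by linear_combination h10 - h01
      rcases mul_eq_zero.mp this with h | h
      · exact hρ0 h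
      · exact h20 h
    · apply sl2_not_mem_center_of_ne_zero
      rw [aM_val]
      simpa using h10
  · -- a * c is not central
    have hval : ((aM ρ α β hρ hab * cM ρ α β hρ hab : Matrix.SpecialLinearGroup (Fin 2) F) :
        Matrix (Fin 2) (Fin 2) F) = !![β, -α; -α, -β] := by
      rw [Matrix.SpecialLinearGroup.coe_mul, aM_val, cM_val, Matrix.mul_fin_two]
      ext i j
      fin_cases i <;> fin_cases j <;> simp <;> grind
    by_cases hα : α = 0
    · apply sl2_not_mem_center_of_diag_ne
      rw [hval]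
      intro h0
      have h1 : β = -β := by simpa using h0
      have h2 : 2 * β = 0 := by linear_combination h1
      rcases mul_eq_zero.mp h2 with h | h
      · exact h20 h
      · rw [hα, h] at hab
        simp at hab
    · apply sl2_not_mem_center_of_ne_zero
      rw [hval]
      simpa using hα
  · -- a * b is not central
    have hval : ((aM ρ α β hρ hab * bM ρ α β hρ hab : Matrix.SpecialLinearGroup (Fin 2) F) :
        Matrix (Fin 2) (Fin 2) F) 1 0 = ρ * ρ * (α - β + 1) := by
      rw [Matrix.SpecialLinearGroup.coe_mul, aM_val, bM_val, Matrix.mul_fin_two]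
      simp
      grind
    have hval' : ((aM ρ α β hρ hab * bM ρ α β hρ hab : Matrix.SpecialLinearGroup (Fin 2) F) :
        Matrix (Fin 2) (Fin 2) F) 0 1 = ρ * ρ * (α - β - 1) := by
      rw [Matrix.SpecialLinearGroup.coe_mul, aM_val, bM_val, Matrix.mul_fin_two]
      simp
      grind
    by_cases h10 : ρ * ρ * (α - β + 1) = 0
    · apply sl2_not_mem_center_of_ne_zero'
      rw [hval']
      intro h01
      have : (1 : F) = 0 := by linear_combination (-1) * hρ + h10 - h01
      exact one_ne_zero this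
    · apply sl2_not_mem_center_of_ne_zero
      rw [hval]
      exact h10


/-! ### characteristic two: no elements of order four -/

theorem sl2_char_two_sq_eq_one (A : Matrix.SpecialLinearGroup (Fin 2) F) (h2 : (2 : F) = 0)
    (h4 : A ^ 4 = 1) : A ^ 2 = 1 := by
  obtain ⟨a, b, c, d, hA, hdet⟩ := sl2_entries A
  have h4' : (A : Matrix (Fin 2) (Fin 2) F) * A * A * A = 1 := by
    have := congrArg (fun X : Matrix.SpecialLinearGroup (Fin 2) F => (X : Matrix (Fin 2) (Fin 2) F)) h4
    simpa [pow_succ] using this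
  rw [hA, Matrix.mul_fin_two, Matrix.mul_fin_two, Matrix.mul_fin_two, Matrix.one_fin_two] at h4'
  have e00 := congrFun (congrFun h4' 0) 0
  have e01 := congrFun (congrFun h4' 0) 1
  have e10 := congrFun (congrFun h4' 1) 0
  have e11 := congrFun (congrFun h4' 1) 1
  simp at e00 e01 e10 e11
  have hτ : a + d = 0 := by
    by_contra hne
    have hb3 : (a + d) * (a + d) * (a + d) * b = 0 := by grind
    have hc3 : (a + d) * (a + d) * (a + d) * c = 0 := by grind
    have ha2 : (a + d) * (a + d) * (a * a + b * c) = 0 := by grind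
    have hd2 : (a + d) * (a + d) * (d * d + b * c) = 0 := by grind
    have hb : b = 0 := by
      rcases mul_eq_zero.mp hb3 with h | h
      · exfalso
        rcases mul_eq_zero.mp h with h | h
        · rcases mul_eq_zero.mp h with h | h <;> exact hne h
        · exact hne h
      · exact h
    have ha : a * a + b * c = 0 := by
      rcases mul_eq_zero.mp ha2 with h | h
      · exfalso
        rcases mul_eq_zero.mp h with h | h <;> exact hne h
      · exact h
    have hd : d * d + b * c = 0 := by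
      rcases mul_eq_zero.mp hd2 with h | h
      · exfalso
        rcases mul_eq_zero.mp h with h | h <;> exact hne h
      · exact h
    rw [hb, zero_mul, add_zero] at ha hd
    have ha0 : a = 0 := mul_self_eq_zero.mp ha
    have hd0 : d = 0 := mul_self_eq_zero.mp hd
    rw [ha0, hd0, hb] at hdet
    simp at hdet
  apply Subtype.ext
  simp only [Matrix.SpecialLinearGroup.coe_mul, Matrix.SpecialLinearGroup.coe_one, hA, pow_succ,
    pow_zero, one_mul]
  rw [Matrix.one_fin_two, Matrix.mul_fin_two]
  ext i j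
  fin_cases i <;> fin_cases j <;> simp <;> grind

theorem psl2_char_two_sq_eq_one (h2 : (2 : F) = 0)
    (g : Matrix.ProjectiveSpecialLinearGroup (Fin 2) F) (hg : g ^ 4 = 1) : g ^ 2 = 1 := by
  obtain ⟨A, rfl⟩ := QuotientGroup.mk_surjective g
  rw [← QuotientGroup.mk_pow, QuotientGroup.eq_one_iff, Matrix.SpecialLinearGroup.mem_center_iff] at hg
  obtain ⟨r, hr, hrA⟩ := hg
  rw [Fintype.card_fin] at hr
  have hr1 : r = 1 := by
    have : (r - 1) * (r - 1) = 0 := by linear_combination hr - r * h2 + h2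
    have := mul_self_eq_zero.mp this
    exact sub_eq_zero.mp this
  rw [hr1, map_one] at hrA
  have hA4 : A ^ 4 = 1 := Subtype.ext hrA.symm
  rw [← QuotientGroup.mk_pow, sl2_char_two_sq_eq_one A h2 hA4]
  rfl


/-- a 4-cycle -/
def c4 : Equiv.Perm (Fin 4) := Equiv.swap 0 1 * Equiv.swap 1 2 * Equiv.swap 2 3

theorem c4_pow_four : c4 ^ 4 = 1 := by decide

theorem c4_pow_two : c4 ^ 2 ≠ 1 := by decide

theorem sq_mod_sixteen {q : ℕ} (h : q ^ 2 % 16 = 1) : q % 2 = 1 ∧ q % 8 ≠ 3 ∧ q % 8 ≠ 5 := by
  have h16 : q % 16 < 16 := Nat.mod_lt _ (by norm_num)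
  rw [Nat.pow_mod] at h
  have h8 : q % 8 = q % 16 % 8 := by omega
  have h2 : q % 2 = q % 16 % 2 := by omega
  rw [h8, h2]
  interval_cases (q % 16) <;> simp_all

/-- PSL_2(q) has a subgroup isomorphic to S_4 iff q² ≡ 1 (mod 16). -/
theorem result {F : Type*} [Field F] [Fintype F] {q : ℕ} (hF : Fintype.card F = q) : (∃ H : Subgroup (Matrix.ProjectiveSpecialLinearGroup (Fin 2) F), Nonempty (H ≃* Equiv.Perm (Fin 4))) ↔ q ^ 2 % 16 = 1 := by
  constructor
  · rintro ⟨H, ⟨e⟩⟩
    by_cases hchar : ringChar F = 2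
    · exfalso
      have : CharP F 2 := ringChar.of_eq hchar
      have h2 : (2 : F) = 0 := CharTwo.two_eq_zero
      have h4 : ((e.symm c4 : H) : Matrix.ProjectiveSpecialLinearGroup (Fin 2) F) ^ 4 = 1 := by
        rw [← Subgroup.coe_pow, ← map_pow, c4_pow_four, map_one, Subgroup.coe_one]
      have h2' := psl2_char_two_sq_eq_one h2 _ h4
      rw [← Subgroup.coe_pow, ← map_pow] at h2'
      have h3 : e.symm (c4 ^ 2) = 1 := Subtype.ext h2'
      apply c4_pow_two
      have := congrArg e h3
      rwa [MulEquiv.apply_symm_apply, map_one] at this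
    · have hodd : q % 2 = 1 := by rw [← hF]; exact FiniteField.odd_card_of_char_ne_two hchar
      have hcard := Cfsg.Agent.S0243.result hF 2 le_rfl
      have h24 : Nat.card (Equiv.Perm (Fin 4)) = 24 := by
        rw [Nat.card_eq_fintype_card, Fintype.card_perm, Fintype.card_fin]
        rfl
      have hH : Nat.card H = 24 := by rw [Nat.card_congr e.toEquiv, h24]
      have hdvd : 24 ∣ Nat.card (Matrix.ProjectiveSpecialLinearGroup (Fin 2) F) := by
        rw [← hH]
        exact Subgroup.card_subgroup_dvd_card H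
      have hq2 : 2 ≤ q := by
        rw [← hF]
        exact Fintype.one_lt_card
      rw [Fin.prod_univ_two] at hcard
      simp only [Fin.val_zero, Fin.val_one, pow_zero, pow_one] at hcard
      have hB : q ^ 2 - q = (q - 1) * q := by rw [Nat.sub_mul, one_mul, sq]
      have hgcd : Nat.gcd 2 (q - 1) = 2 := Nat.gcd_eq_left (by omega)
      rw [hB, hgcd] at hcard
      have hcard' : (q - 1) * (2 * Nat.card (Matrix.ProjectiveSpecialLinearGroup (Fin 2) F)) =
          (q - 1) * (q * (q ^ 2 - 1)) := by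
        rw [mul_left_comm, hcard]
        ring
      have hpos : 0 < q - 1 := by omega
      have hmain := Nat.eq_of_mul_eq_mul_left hpos hcard'
      have h16 : 16 ∣ q * (q ^ 2 - 1) := by
        rw [← hmain]
        obtain ⟨k, hk⟩ := hdvd
        rw [hk]
        exact ⟨3 * k, by ring⟩
      have hcop : Nat.Coprime 16 q := by
        have : Nat.Coprime 2 q := by
          rw [Nat.coprime_two_left]
          exact Nat.odd_iff.mpr hodd
        exact Nat.Coprime.pow_left 4 this
      have h16' : 16 ∣ q ^ 2 - 1 := hcop.dvd_of_dvd_mul_left h16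
      have h1 : 1 ≤ q ^ 2 := Nat.one_le_pow _ _ (by omega)
      omega
  · intro hq
    obtain ⟨hodd, h3, h5⟩ := sq_mod_sixteen hq
    have hchar : ringChar F ≠ 2 := by
      intro h
      have := FiniteField.even_card_of_char_two h
      rw [hF] at this
      omega
    have h20 : (2 : F) ≠ 0 := Ring.two_ne_zero hchar
    have hsq : IsSquare (2 : F) := by
      rw [FiniteField.isSquare_two_iff, hF]
      exact ⟨h3, h5⟩
    obtain ⟨r, hr⟩ := hsq
    have : NeZero (ringChar F) := ⟨CharP.ringChar_ne_zero_of_finite F⟩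
    obtain ⟨a, b, hab⟩ := CharP.sq_add_sq F (ringChar F) (-1)
    apply exists_s4_odd (r * 2⁻¹) (a : F) (b : F)
    · field_simp
      linear_combination (-1) * hr
    · have : ((-1 : ℤ) : F) = -1 := by simp
      rw [← this, ← hab]
      ring

end Cfsg.Agent.S0803
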