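import Cfsg.Statements.S0228
import Cfsg.Agent.Lib.Helper4.Dihedral

set_option autoImplicit false
open Cfsg

namespace Cfsg.Agent.S0228

open Cfsg.Agent.Lib.Helper4

theorem fact12_3 : (12 : ℕ).factorization 3 = 1 := by
  rw [Nat.factorization_def _ Nat.prime_three]
  have : (12 : ℕ) = 3 ^ 1 * 4 := by norm_num
  rw [this, padicValNat.mul (by norm_num) (by norm_num), padicValNat.prime_pow]
  have : padicValNat 3 4 = 0 := padicValNat.eq_zero_of_not_dvd (by norm_num)
  rw [this]

theorem fact12_2 : (12 : ℕ).factorization 2 = 2 := by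
  rw [Nat.factorization_def _ Nat.prime_two]
  have : (12 : ℕ) = 2 ^ 2 * 3 := by norm_num
  rw [this, padicValNat.mul (by norm_num) (by norm_num), padicValNat.prime_pow]
  have : padicValNat 2 3 = 0 := padicValNat.eq_zero_of_not_dvd (by norm_num)
  rw [this]

section
variable {G : Type*} [Group G] [Finite G] (hG : Nat.card G = 12)
include hG

theorem card_sylow3 (P : Sylow 3 G) : Nat.card (P : Subgroup G) = 3 := by
  haveI : Fact (Nat.Prime 3) := ⟨Nat.prime_three⟩
  rw [Sylow.card_eq_multiplicity, hG, fact12_3, pow_one]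

theorem card_sylow2 (Q : Sylow 2 G) : Nat.card (Q : Subgroup G) = 4 := by
  haveI : Fact (Nat.Prime 2) := ⟨Nat.prime_two⟩
  rw [Sylow.card_eq_multiplicity, hG, fact12_2]
  norm_num

theorem num_sylow3 : Nat.card (Sylow 3 G) = 1 ∨ Nat.card (Sylow 3 G) = 4 := by
  haveI : Fact (Nat.Prime 3) := ⟨Nat.prime_three⟩
  have h1 : Nat.card (Sylow 3 G) ≡ 1 [MOD 3] := card_sylow_modEq_one 3 G
  obtain ⟨P⟩ : Nonempty (Sylow 3 G) := inferInstance
  have h2 : Nat.card (Sylow 3 G) ∣ (P : Subgroup G).index := Sylow.card_dvd_index P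
  have h3 : (P : Subgroup G).index = 4 := by
    have := (P : Subgroup G).index_mul_card
    rw [card_sylow3 hG P, hG] at this
    omega
  rw [h3] at h2
  have h4 : Nat.card (Sylow 3 G) ≤ 4 := Nat.le_of_dvd (by norm_num) h2
  unfold Nat.ModEq at h1
  interval_cases h : Nat.card (Sylow 3 G) <;> simp_all

/-- Case of four Sylow 3-subgroups: `G ≃* A₄`. -/
theorem iso_of_four (h4 : Nat.card (Sylow 3 G) = 4) :
    Nonempty (G ≃* alternatingGroup (Fin 4)) := by
  classical
  haveI : Fact (Nat.Prime 3) := ⟨Nat.prime_three⟩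
  haveI : Fintype (Sylow 3 G) := Fintype.ofFinite _
  -- normalizer of a Sylow 3-subgroup is itself
  have hnorm : ∀ P : Sylow 3 G, Subgroup.normalizer (P : Set G) = (P : Subgroup G) := by
    intro P
    have h1 : (Subgroup.normalizer (P : Set G)).index = 4 := by
      rw [← Sylow.card_eq_index_normalizer P, h4]
    have h2 := (Subgroup.normalizer (P : Set G)).index_mul_card
    rw [h1, hG] at h2
    have h3 : Nat.card (Subgroup.normalizer (P : Set G)) = 3 := by omega
    symm
    apply Subgroup.eq_of_le_of_card_ge (Subgroup.le_normalizer (H := (P : Subgroup G)))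
    show Nat.card (Subgroup.normalizer (P : Set G)) ≤ _
    rw [h3, card_sylow3 hG P]
  -- distinct Sylow 3-subgroups intersect trivially
  have hinter : ∀ P P' : Sylow 3 G, P ≠ P' → ∀ g : G, g ∈ (P : Subgroup G) → g ∈ (P' : Subgroup G) → g = 1 := by
    intro P P' hne g hg hg'
    by_contra hg1
    apply hne
    -- zpowers g has order 3
    have hord : orderOf g = 3 := by
      have hdvd : orderOf g ∣ 3 := by
        have := orderOf_dvd_natCard (⟨g, hg⟩ : (P : Subgroup G))
        rwa [Subgroup.orderOf_mk, card_sylow3 hG P] at this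
      rcases (Nat.dvd_prime Nat.prime_three).1 hdvd with h | h
      · exact absurd (orderOf_eq_one_iff.1 h) hg1
      · exact h
    have hz : ∀ R : Sylow 3 G, g ∈ (R : Subgroup G) → (R : Subgroup G) = Subgroup.zpowers g := by
      intro R hR
      symm
      apply Subgroup.eq_of_le_of_card_ge
      · rw [Subgroup.zpowers_le]; exact hR
      · rw [Nat.card_zpowers, hord, card_sylow3 hG R]
    apply Sylow.ext
    rw [hz P hg, hz P' hg']
  let φ : G →* Equiv.Perm (Sylow 3 G) := MulAction.toPermHom G (Sylow 3 G)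
  have hinj : Function.Injective φ := by
    rw [injective_iff_map_eq_one]
    intro g hg
    have hfix : ∀ P : Sylow 3 G, g ∈ (P : Subgroup G) := by
      intro P
      have h1 : g • P = P := by
        have := congrArg (fun σ : Equiv.Perm (Sylow 3 G) => σ P) hg
        exact this
      rw [Sylow.smul_eq_iff_mem_normalizer, hnorm P] at h1
      exact h1
    -- two distinct Sylows
    have hcard : 1 < Fintype.card (Sylow 3 G) := by
      rw [← Nat.card_eq_fintype_card, h4]; norm_num
    obtain ⟨P, P', hne⟩ := Fintype.exists_pair_of_one_lt_card hcard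
    exact hinter P P' hne g (hfix P) (hfix P')
  have hrange_card : Nat.card φ.range = 12 := by
    rw [← Nat.card_congr (MonoidHom.ofInjective hinj).toEquiv, hG]
  have hperm_card : Nat.card (Equiv.Perm (Sylow 3 G)) = 24 := by
    rw [Nat.card_perm, h4]; rfl
  have hindex : φ.range.index = 2 := by
    have := φ.range.index_mul_card
    rw [hrange_card, hperm_card] at this
    omega
  have hrange : φ.range = alternatingGroup (Sylow 3 G) :=
    Equiv.Perm.eq_alternatingGroup_of_index_eq_two hindex
  have e0 : Sylow 3 G ≃ Fin 4 := by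
    have : Fintype.card (Sylow 3 G) = 4 := by rw [← Nat.card_eq_fintype_card, h4]
    exact Fintype.equivFinOfCardEq this
  exact ⟨((MonoidHom.ofInjective hinj).trans (MulEquiv.subgroupCongr hrange)).trans
    (Equiv.altCongrHom e0)⟩

/-- Case of a unique Sylow 3-subgroup: there is a central involution. -/
theorem central_involution_of_one (h1 : Nat.card (Sylow 3 G) = 1) :
    ∃ t : G, orderOf t = 2 ∧ t ∈ Subgroup.center G := by
  classical
  haveI : Fact (Nat.Prime 3) := ⟨Nat.prime_three⟩
  haveI : Fact (Nat.Prime 2) := ⟨Nat.prime_two⟩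
  haveI : Subsingleton (Sylow 3 G) := (Nat.card_eq_one_iff_unique.1 h1).1
  obtain ⟨P⟩ : Nonempty (Sylow 3 G) := inferInstance
  obtain ⟨Q⟩ : Nonempty (Sylow 2 G) := inferInstance
  have hPn : (P : Subgroup G).Normal := Sylow.normal_of_subsingleton P
  have hPc := card_sylow3 hG P
  have hQc := card_sylow2 hG Q
  -- generator of P
  obtain ⟨c0, hc0⟩ := exists_prime_orderOf_dvd_card' (G := (P : Subgroup G)) 3 (by rw [hPc])
  set c : G := (c0 : G) with hc
  have hcord : orderOf c = 3 := by rw [hc, Subgroup.orderOf_coe, hc0]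
  have hcP : c ∈ (P : Subgroup G) := c0.2
  have hPz : (P : Subgroup G) = Subgroup.zpowers c := by
    symm
    apply Subgroup.eq_of_le_of_card_ge
    · rw [Subgroup.zpowers_le]; exact hcP
    · rw [Nat.card_zpowers, hcord, hPc]
  -- Q abelian
  have hQcomm : ∀ a b : (Q : Subgroup G), a * b = b * a := by
    have : Nat.card (Q : Subgroup G) = 2 ^ 2 := by rw [hQc]; norm_num
    exact (IsPGroup.isMulCommutative_of_card_eq_prime_sq this).is_comm.comm
  -- conjugates of c
  have hconj : ∀ q : G, q * c * q⁻¹ = c ∨ q * c * q⁻¹ = c⁻¹ := by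
    intro q
    have hmem : q * c * q⁻¹ ∈ Subgroup.zpowers c := by
      rw [← hPz]; exact hPn.conj_mem c hcP q
    obtain ⟨k, hk⟩ := Subgroup.mem_zpowers_iff.1 hmem
    have hk' : q * c * q⁻¹ = c ^ (k % 3) := by
      rw [← hk]
      have := zpow_mod_orderOf c k
      rw [hcord] at this
      exact this.symm
    have hne : q * c * q⁻¹ ≠ 1 := by
      intro h
      have : c = 1 := by
        have := congrArg (fun z => q⁻¹ * z * q) h
        simpa [mul_assoc] using this
      rw [this, orderOf_one] at hcord
      norm_num at hcord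
    have hk3 : k % 3 = 0 ∨ k % 3 = 1 ∨ k % 3 = 2 := by omega
    rcases hk3 with h | h | h
    · rw [h, zpow_zero] at hk'
      exact absurd hk' hne
    · left; rw [hk', h, zpow_one]
    · right
      rw [hk', h]
      have h3 : c ^ (3 : ℤ) = 1 := by
        have := pow_orderOf_eq_one c
        rw [hcord] at this
        exact_mod_cast this
      have : c ^ (2 : ℤ) * c = 1 := by
        rw [← zpow_add_one]; exact h3
      exact eq_inv_of_mul_eq_one_left this
  -- a nonidentity element of Q commuting with c
  have hex : ∃ q : G, q ∈ (Q : Subgroup G) ∧ q ≠ 1 ∧ q * c = c * q := by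
    have hcardQ : 2 < Nat.card (Q : Subgroup G) := by rw [hQc]; norm_num
    haveI : Fintype (Q : Subgroup G) := Fintype.ofFinite _
    rw [Nat.card_eq_fintype_card] at hcardQ
    obtain ⟨a, b, d, hab, had, hbd⟩ := Fintype.two_lt_card_iff.1 hcardQ
    -- among a, b, d at least two are nonidentity
    have key : ∀ q₁ q₂ : (Q : Subgroup G), q₁ ≠ 1 → q₂ ≠ 1 → q₁ ≠ q₂ →
        ∃ q : G, q ∈ (Q : Subgroup G) ∧ q ≠ 1 ∧ q * c = c * q := by
      intro q₁ q₂ h1 h2 h12
      rcases hconj q₁ with e1 | e1
      · refine ⟨q₁, q₁.2, fun h => h1 (Subtype.ext h), ?_⟩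
        have := congrArg (· * (q₁ : G)) e1
        simpa [mul_assoc] using this
      rcases hconj q₂ with e2 | e2
      · refine ⟨q₂, q₂.2, fun h => h2 (Subtype.ext h), ?_⟩
        have := congrArg (· * (q₂ : G)) e2
        simpa [mul_assoc] using this
      refine ⟨(q₁ : G) * (q₂ : G)⁻¹, Subgroup.mul_mem _ q₁.2 (Subgroup.inv_mem _ q₂.2), ?_, ?_⟩
      · intro h
        apply h12
        apply Subtype.ext
        exact mul_inv_eq_one.1 h
      · have e2' : (q₂ : G)⁻¹ * c * (q₂ : G) = c⁻¹ := by
          have := congrArg (fun z => (q₂ : G)⁻¹ * z⁻¹ * (q₂ : G)) e2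
          simp only [mul_inv_rev, inv_inv, mul_assoc, inv_mul_cancel_left, inv_mul_cancel,
            mul_one] at this
          rw [← mul_assoc] at this
          exact this.symm
        have e2'' : (q₂ : G)⁻¹ * c = c⁻¹ * (q₂ : G)⁻¹ := by
          have := congrArg (· * (q₂ : G)⁻¹) e2'
          simpa [mul_assoc] using this
        have e1' : (q₁ : G) * c⁻¹ = c * (q₁ : G) := by
          have := congrArg (fun z => z⁻¹ * (q₁ : G)) e1
          simpa [mul_assoc] using this
        rw [mul_assoc, e2'', ← mul_assoc, e1', mul_assoc]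
    by_cases ha : a = 1
    · have hb : b ≠ 1 := fun h => hab (ha.trans h.symm)
      have hd : d ≠ 1 := fun h => had (ha.trans h.symm)
      exact key b d hb hd hbd
    · by_cases hb : b = 1
      · have hd : d ≠ 1 := fun h => hbd (hb.trans h.symm)
        exact key a d ha hd had
      · exact key a b ha hb hab
  obtain ⟨q, hqQ, hq1, hqc⟩ := hex
  -- an involution in Q commuting with c
  have hex2 : ∃ t : G, t ∈ (Q : Subgroup G) ∧ orderOf t = 2 ∧ t * c = c * t := by
    have hdvd : orderOf q ∣ 4 := by
      have := orderOf_dvd_natCard (⟨q, hqQ⟩ : (Q : Subgroup G))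
      rwa [Subgroup.orderOf_mk, hQc] at this
    have hne1 : orderOf q ≠ 1 := fun h => hq1 (orderOf_eq_one_iff.1 h)
    have h24 : orderOf q = 2 ∨ orderOf q = 4 := by
      have hle : orderOf q ≤ 4 := Nat.le_of_dvd (by norm_num) hdvd
      have hpos : 0 < orderOf q := orderOf_pos q
      interval_cases h : orderOf q <;> simp_all
    rcases h24 with h | h
    · exact ⟨q, hqQ, h, hqc⟩
    · refine ⟨q ^ 2, Subgroup.pow_mem _ hqQ 2, ?_, ?_⟩
      · rw [orderOf_pow_of_dvd (by norm_num) (by rw [h]; norm_num), h]
      · have : Commute q c := hqc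
        exact (this.pow_left 2).eq
  obtain ⟨t, htQ, htord, htc⟩ := hex2
  refine ⟨t, htord, ?_⟩
  -- centralizer of t contains P and Q
  have hP : (P : Subgroup G) ≤ Subgroup.centralizer ({t} : Set G) := by
    rw [hPz, Subgroup.zpowers_le, Subgroup.mem_centralizer_singleton_iff]
    exact htc.symm
  have hQ : (Q : Subgroup G) ≤ Subgroup.centralizer ({t} : Set G) := by
    intro x hx
    rw [Subgroup.mem_centralizer_singleton_iff]
    have := hQcomm ⟨x, hx⟩ ⟨t, htQ⟩
    exact congrArg Subtype.val this
  have htop : Subgroup.centralizer ({t} : Set G) = ⊤ := by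
    apply Subgroup.eq_top_of_card_eq
    have d1 : 3 ∣ Nat.card (Subgroup.centralizer ({t} : Set G)) := by
      rw [← hPc]; exact Subgroup.card_dvd_of_le hP
    have d2 : 4 ∣ Nat.card (Subgroup.centralizer ({t} : Set G)) := by
      rw [← hQc]; exact Subgroup.card_dvd_of_le hQ
    have d3 : 12 ∣ Nat.card (Subgroup.centralizer ({t} : Set G)) :=
      Nat.Coprime.mul_dvd_of_dvd_of_dvd (by norm_num : Nat.Coprime 3 4) d1 d2
    have d4 : Nat.card (Subgroup.centralizer ({t} : Set G)) ∣ 12 := by
      rw [← hG]; exact Subgroup.card_subgroup_dvd_card _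
    rw [hG]
    exact Nat.dvd_antisymm d4 d3
  rw [Subgroup.mem_center_iff]
  intro g
  have : g ∈ Subgroup.centralizer ({t} : Set G) := by rw [htop]; exact Subgroup.mem_top g
  exact Subgroup.mem_centralizer_singleton_iff.1 this

end

/-- A group of order 12 in which no involution is central is isomorphic to the alternating group on four letters. -/
theorem result {G : Type*} [Group G] [Finite G] (hG : Nat.card G = 12) (hz : ∀ z : G, orderOf z = 2 → z ∉ Subgroup.center G) : Nonempty (G ≃* alternatingGroup (Fin 4)) := by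
  rcases num_sylow3 hG with h | h
  · obtain ⟨t, ht, htc⟩ := central_involution_of_one hG h
    exact absurd htc (hz t ht)
  · exact iso_of_four hG h

end Cfsg.Agent.S0228
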