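import Cfsg.Statements.S2573

set_option autoImplicit false
open Cfsg

namespace Cfsg.Agent.S2573

open Module in
theorem finrank_ker_comp_le {K V : Type*} [Field K] [AddCommGroup V] [Module K V] [FiniteDimensional K V]
    (f g : V →ₗ[K] V) :
    finrank K (LinearMap.ker (f ∘ₗ g)) ≤ finrank K (LinearMap.ker f) + finrank K (LinearMap.ker g) := by
  let h : LinearMap.ker (f ∘ₗ g) →ₗ[K] LinearMap.ker f :=
    LinearMap.codRestrict _ (g ∘ₗ (LinearMap.ker (f ∘ₗ g)).subtype) (by
      intro x
      have hx : (f ∘ₗ g) x.1 = 0 := LinearMap.mem_ker.mp x.2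
      rw [LinearMap.mem_ker]
      exact hx)
  have h1 := LinearMap.finrank_range_add_finrank_ker h
  have h2 : finrank K (LinearMap.range h) ≤ finrank K (LinearMap.ker f) :=
    Submodule.finrank_le _
  have h3 : finrank K (LinearMap.ker h) ≤ finrank K (LinearMap.ker g) := by
    let ι : LinearMap.ker h →ₗ[K] LinearMap.ker g :=
      LinearMap.codRestrict _ ((LinearMap.ker (f ∘ₗ g)).subtype ∘ₗ (LinearMap.ker h).subtype) (by
        intro x
        have hx := x.2
        rw [LinearMap.mem_ker] at hx
        have h0 : (h x.1 : V) = 0 := by rw [hx]; rfl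
        rw [LinearMap.mem_ker]
        exact h0)
    apply LinearMap.finrank_le_finrank_of_injective (f := ι)
    intro a b hab
    have : ((ι a : LinearMap.ker g) : V) = (ι b : LinearMap.ker g) := by rw [hab]
    apply Subtype.ext
    apply Subtype.ext
    simpa [ι] using this
  omega

open Module in
theorem finrank_ker_pow_le {K V : Type*} [Field K] [AddCommGroup V] [Module K V] [FiniteDimensional K V]
    (f : V →ₗ[K] V) (k : ℕ) :
    finrank K (LinearMap.ker (f ^ k)) ≤ k * finrank K (LinearMap.ker f) := by
  induction k with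
  | zero =>
    have : LinearMap.ker (f ^ 0) = ⊥ := by
      rw [pow_zero]; exact LinearMap.ker_id
    rw [this]; simp
  | succ k ih =>
    have := finrank_ker_comp_le (f ^ k) f
    rw [pow_succ]
    have e : (f ^ k * f) = (f ^ k) ∘ₗ f := rfl
    rw [e]
    calc _ ≤ _ := this
      _ ≤ _ := by rw [Nat.succ_mul]; omega

/-- The invariant subspaces of a regular unipotent matrix form a chain. -/
theorem result {F : Type*} [Field F] [Finite F] {n : ℕ} (u : Matrix (Fin n) (Fin n) F) (hnil : (u - 1) ^ n = 0) (hreg : (u - 1).rank = n - 1) (W : Submodule F (Fin n → F)) (hW : ∀ v ∈ W, u.mulVec v ∈ W) : W = LinearMap.ker (Matrix.mulVecLin ((u - 1) ^ Module.finrank F W)) := by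
  classical
  set N := u - 1 with hN
  set f : (Fin n → F) →ₗ[F] (Fin n → F) := Matrix.mulVecLin N with hf
  set k := Module.finrank F W with hk
  have hpow : ∀ j, Matrix.mulVecLin (N ^ j) = f ^ j := by
    intro j
    induction j with
    | zero => rw [pow_zero, pow_zero, Matrix.mulVecLin_one]; rfl
    | succ j ih => rw [pow_succ, Matrix.mulVecLin_mul, ih, pow_succ]; rfl
  rw [hpow]
  have hWf : ∀ v ∈ W, f v ∈ W := by
    intro v hv
    have : f v = u.mulVec v - v := by simp [hf, hN]
    rw [this]; exact W.sub_mem (hW v hv) hv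
  have hkn : k ≤ n := by
    have := Submodule.finrank_le W
    simpa using this
  have hfn : f ^ n = 0 := by
    rw [← hpow, hnil]; simp
  have hle : W ≤ LinearMap.ker (f ^ k) := by
    let g : W →ₗ[F] W := f.restrict hWf
    have hgn : g ^ n = 0 := by
      rw [Module.End.pow_restrict n hWf]
      ext w
      simp [hfn]
    have hker := Module.End.ker_pow_eq_ker_pow_finrank_of_le (f := g) (m := n) hkn
    rw [hgn] at hker
    intro w hw
    rw [LinearMap.mem_ker]
    have hw' : (⟨w, hw⟩ : W) ∈ LinearMap.ker (g ^ k) := by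
      rw [← hker]; simp
    rw [LinearMap.mem_ker, Module.End.pow_restrict k hWf] at hw'
    have := congrArg (Subtype.val) hw'
    simpa using this
  have hker1 : Module.finrank F (LinearMap.ker f) ≤ 1 := by
    have h1 := LinearMap.finrank_range_add_finrank_ker f
    have h2 : Module.finrank F (LinearMap.range f) = n - 1 := hreg
    rw [h2] at h1
    simp only [Module.finrank_fin_fun] at h1
    omega
  have hdim : Module.finrank F (LinearMap.ker (f ^ k)) ≤ k := by
    calc _ ≤ k * Module.finrank F (LinearMap.ker f) := finrank_ker_pow_le f k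
      _ ≤ k * 1 := Nat.mul_le_mul_left k hker1
      _ = k := Nat.mul_one k
  exact Submodule.eq_of_le_of_finrank_le hle hdim

end Cfsg.Agent.S2573
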