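import Cfsg.Statements.S2574
import Cfsg.Agent.S2573

set_option autoImplicit false
open Cfsg

namespace Cfsg.Agent.S2574

open Module in
theorem invariant_le_ker {K V : Type*} [Field K] [AddCommGroup V] [Module K V] [FiniteDimensional K V]
    (f : V →ₗ[K] V) (n : ℕ) (hn : finrank K V = n) (hfn : f ^ n = 0)
    (W : Submodule K V) (hWf : ∀ v ∈ W, f v ∈ W) :
    W ≤ LinearMap.ker (f ^ finrank K W) := by
  set k := finrank K W
  have hkn : k ≤ n := by
    have := Submodule.finrank_le W
    omega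
  let g : W →ₗ[K] W := f.restrict hWf
  have hgn : g ^ n = 0 := by
    rw [Module.End.pow_restrict n hWf]
    ext w
    simp [hfn]
  have hker := Module.End.ker_pow_eq_ker_pow_finrank_of_le (f := g) (m := n) hkn
  rw [hgn] at hker
  intro w hw
  rw [LinearMap.mem_ker]
  have hw' : (⟨w, hw⟩ : W) ∈ LinearMap.ker (g ^ k) := by
    rw [← hker]; simp
  rw [LinearMap.mem_ker, Module.End.pow_restrict k hWf] at hw'
  have := congrArg (Subtype.val) hw'
  simpa using this

open Module in
theorem ker_pow_eq_range_pow {K V : Type*} [Field K] [AddCommGroup V] [Module K V] [FiniteDimensional K V]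
    (f : V →ₗ[K] V) (n : ℕ) (hn : finrank K V = n) (hfn : f ^ n = 0)
    (hker1 : finrank K (LinearMap.ker f) ≤ 1) (k : ℕ) (hk : k ≤ n) :
    LinearMap.ker (f ^ k) = LinearMap.range (f ^ (n - k)) := by
  symm
  apply Submodule.eq_of_le_of_finrank_le
  · rintro _ ⟨x, rfl⟩
    rw [LinearMap.mem_ker]
    have : (f ^ k) ((f ^ (n - k)) x) = (f ^ k * f ^ (n - k)) x := rfl
    rw [this, ← pow_add, show k + (n - k) = n by omega, hfn]
    rfl
  · have h1 := Cfsg.Agent.S2573.finrank_ker_pow_le f k
    have h2 := Cfsg.Agent.S2573.finrank_ker_pow_le f (n - k)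
    have h3 := LinearMap.finrank_range_add_finrank_ker (f ^ (n - k))
    have e1 : k * finrank K (LinearMap.ker f) ≤ k := by
      calc _ ≤ k * 1 := Nat.mul_le_mul_left k hker1
        _ = k := Nat.mul_one k
    have e2 : (n - k) * finrank K (LinearMap.ker f) ≤ n - k := by
      calc _ ≤ (n - k) * 1 := Nat.mul_le_mul_left _ hker1
        _ = n - k := Nat.mul_one _
    omega

/-- A regular unipotent element of the symplectic group has totally isotropic small invariant subspaces. -/
theorem result {F : Type*} [Field F] [Finite F] {m : ℕ} (u : Matrix.symplecticGroup (Fin m) F) (hnil : ((u : Matrix (Fin m ⊕ Fin m) (Fin m ⊕ Fin m) F) - 1) ^ (2 * m) = 0) (hreg : ((u : Matrix (Fin m ⊕ Fin m) (Fin m ⊕ Fin m) F) - 1).rank = 2 * m - 1) (W : Submodule F (Fin m ⊕ Fin m → F)) (hW : ∀ v ∈ W, (u : Matrix (Fin m ⊕ Fin m) (Fin m ⊕ Fin m) F).mulVec v ∈ W) (hdim : 2 * Module.finrank F W ≤ 2 * m) : ∀ v ∈ W, ∀ w ∈ W, Cfsg.sympForm m F v w = 0 := by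
  classical
  set U : Matrix (Fin m ⊕ Fin m) (Fin m ⊕ Fin m) F := (u : Matrix (Fin m ⊕ Fin m) (Fin m ⊕ Fin m) F) with hU
  set N := U - 1 with hN
  set Ui : Matrix (Fin m ⊕ Fin m) (Fin m ⊕ Fin m) F := ((u⁻¹ : Matrix.symplecticGroup (Fin m) F) : Matrix (Fin m ⊕ Fin m) (Fin m ⊕ Fin m) F) with hUi
  set M := Ui - 1 with hM
  set J := Matrix.J (Fin m) F with hJ
  set f : (Fin m ⊕ Fin m → F) →ₗ[F] (Fin m ⊕ Fin m → F) := Matrix.mulVecLin N with hf
  set k := Module.finrank F W with hk
  have hpow : ∀ j, Matrix.mulVecLin (N ^ j) = f ^ j := by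
    intro j
    induction j with
    | zero => rw [pow_zero, pow_zero, Matrix.mulVecLin_one]; rfl
    | succ j ih => rw [pow_succ, Matrix.mulVecLin_mul, ih, pow_succ]; rfl
  have hdimV : Module.finrank F (Fin m ⊕ Fin m → F) = 2 * m := by
    simp [two_mul]
  have hWf : ∀ v ∈ W, f v ∈ W := by
    intro v hv
    have : f v = U.mulVec v - v := by simp [hf, hN]
    rw [this]; exact W.sub_mem (hW v hv) hv
  have hfn : f ^ (2 * m) = 0 := by
    rw [← hpow, hnil]; simp
  have hker1 : Module.finrank F (LinearMap.ker f) ≤ 1 := by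
    have h1 := LinearMap.finrank_range_add_finrank_ker f
    have h2 : Module.finrank F (LinearMap.range f) = 2 * m - 1 := hreg
    rw [h2, hdimV] at h1
    omega
  have hle := invariant_le_ker f (2 * m) hdimV hfn W hWf
  have hkm : k ≤ m := by omega
  have hrange := ker_pow_eq_range_pow f (2 * m) hdimV hfn hker1 k (by omega)
  -- inverse relations
  have hUUi : U * Ui = 1 := by
    have h0 : u * u⁻¹ = 1 := mul_inv_cancel u
    exact congrArg (Subtype.val) h0
  have hUiU : Ui * U = 1 := by
    have h0 : u⁻¹ * u = 1 := inv_mul_cancel u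
    exact congrArg (Subtype.val) h0
  have hsymp : U.transpose * J * U = J := (SymplecticGroup.mem_iff').mp u.2
  have hNJ : N.transpose * J = J * M := by
    have h1 : U.transpose * J = J * Ui := by
      calc U.transpose * J = U.transpose * J * (U * Ui) := by rw [hUUi, mul_one]
        _ = (U.transpose * J * U) * Ui := by simp only [mul_assoc]
        _ = J * Ui := by rw [hsymp]
    rw [hN, hM, Matrix.transpose_sub, Matrix.transpose_one, sub_mul, mul_sub, h1, one_mul, mul_one]
  have hNJpow : ∀ j, (N ^ j).transpose * J = J * M ^ j := by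
    intro j
    induction j with
    | zero => simp
    | succ j ih =>
      rw [pow_succ, Matrix.transpose_mul, mul_assoc, ih, ← mul_assoc, hNJ, mul_assoc, ← pow_succ']
  have hMN : M = -(Ui * N) := by
    rw [hM, hN, mul_sub, hUiU, mul_one]; abel
  have hcomm : Commute Ui N := by
    show Ui * N = N * Ui
    rw [hN, mul_sub, sub_mul, hUiU, hUUi, mul_one, one_mul]
  have hMpow : ∀ j, M ^ j = (-Ui) ^ j * N ^ j := by
    intro j
    have : M = (-Ui) * N := by rw [hMN]; simp
    rw [this]
    exact (Commute.neg_left hcomm).mul_pow j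
  intro v hv w hw
  have hv' : v ∈ LinearMap.range (f ^ (2 * m - k)) := by
    rw [← hrange]; exact hle hv
  obtain ⟨x, rfl⟩ := hv'
  have hw' : (f ^ k) w = 0 := LinearMap.mem_ker.mp (hle hw)
  have hw2 : (N ^ (2 * m - k)).mulVec w = 0 := by
    have : (f ^ (2 * m - k)) w = 0 := by
      have e : 2 * m - k = (2 * m - 2 * k) + k := by omega
      rw [e, pow_add]
      show (f ^ (2 * m - 2 * k)) ((f ^ k) w) = 0
      rw [hw']; simp
    rw [← hpow] at this
    exact this
  show Cfsg.sympForm m F ((f ^ (2 * m - k)) x) w = 0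
  unfold Cfsg.sympForm
  rw [← hpow]
  show dotProduct ((N ^ (2 * m - k)).mulVec x) (J.mulVec w) = 0
  rw [Matrix.dotProduct_mulVec, Matrix.vecMul_mulVec, hNJpow, hMpow, ← Matrix.dotProduct_mulVec,
    ← Matrix.mulVec_mulVec, ← Matrix.mulVec_mulVec, hw2]
  simp

end Cfsg.Agent.S2574
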