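import Mathlib
import Cfsg.Agent.Lib.Helper41.DkOver
import Cfsg.Agent.Lib.Helper21.SL2Recognize
import Cfsg.Agent.S0805
import Cfsg.Statements.S5943

set_option autoImplicit false
open Cfsg

namespace Cfsg.Agent.S5943

open Matrix Cfsg.Agent.Lib.Helper2.SL2 Cfsg.Agent.Lib.Helper14.Dk Cfsg.Agent.Lib.Helper41.DkOver

theorem arith2 (a r b m : ℕ) (ha : 1 ≤ a) (hr : r.Prime) (hbm : b * m = a * r)
    (hdvd : 2 ^ a * (2 ^ (2 * a) - 1) ∣ 2 ^ b * (2 ^ (2 * b) - 1)) : b = a ∨ b = a * r := by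
  have hodd : Nat.Coprime (2 ^ (2 * a) - 1) (2 ^ b) := by
    apply Nat.Coprime.pow_right
    rw [Nat.coprime_two_right]
    have : 1 ≤ 2 ^ (2 * a) := Nat.one_le_two_pow
    have hev : Even (2 ^ (2 * a)) := (Nat.even_pow' (by omega)).mpr even_two
    exact Nat.Even.sub_odd this hev odd_one
  have h1 : 2 ^ (2 * a) - 1 ∣ 2 ^ (2 * b) - 1 := by
    have : 2 ^ (2 * a) - 1 ∣ 2 ^ b * (2 ^ (2 * b) - 1) := (dvd_mul_left _ _).trans hdvd
    exact hodd.dvd_of_dvd_mul_left this
  have h2 : Nat.gcd (2 ^ (2 * a) - 1) (2 ^ (2 * b) - 1) = 2 ^ (2 * a) - 1 := Nat.gcd_eq_left h1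
  rw [Nat.pow_sub_one_gcd_pow_sub_one] at h2
  have h3 : 2 ^ Nat.gcd (2 * a) (2 * b) = 2 ^ (2 * a) := by
    have : 1 ≤ 2 ^ Nat.gcd (2 * a) (2 * b) := Nat.one_le_two_pow
    have : 1 ≤ 2 ^ (2 * a) := Nat.one_le_two_pow
    omega
  have h4 : Nat.gcd (2 * a) (2 * b) = 2 * a := Nat.pow_right_injective (le_refl 2) h3
  have h5 : 2 * a ∣ 2 * b := by rw [← h4]; exact Nat.gcd_dvd_right _ _
  have h6 : a ∣ b := (Nat.mul_dvd_mul_iff_left (by norm_num)).mp h5
  obtain ⟨c, rfl⟩ := h6
  have h7 : c * m = r := by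
    have : a * (c * m) = a * r := by rw [← hbm]; ring
    exact Nat.eq_of_mul_eq_mul_left (by omega) this
  have h8 : c ∣ r := ⟨m, h7.symm⟩
  rcases (Nat.dvd_prime hr).mp h8 with rfl | rfl
  · left; ring
  · right; rfl

section
variable {F K : Type*} [Field F] [Field K]

/-- the map `SL₂(K) → SL₂(F)` induced by a field homomorphism -/
def slMap (ι : K →+* F) :
    SpecialLinearGroup (Fin 2) K →* SpecialLinearGroup (Fin 2) F :=
  Matrix.SpecialLinearGroup.map ι

theorem slMap_apply (ι : K →+* F) (g : SpecialLinearGroup (Fin 2) K) (i j : Fin 2) :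
    slMap ι g i j = ι (g i j) := rfl

theorem slMap_injective (ι : K →+* F) : Function.Injective (slMap ι) := by
  intro g h hgh
  apply ext2
  · exact ι.injective (by rw [← slMap_apply, hgh, slMap_apply])
  · exact ι.injective (by rw [← slMap_apply, hgh, slMap_apply])
  · exact ι.injective (by rw [← slMap_apply, hgh, slMap_apply])
  · exact ι.injective (by rw [← slMap_apply, hgh, slMap_apply])

theorem slMap_ux (ι : K →+* F) (t : K) : slMap ι (ux t) = ux (ι t) := by
  apply ext2 <;> simp [slMap_apply]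

theorem slMap_uy (ι : K →+* F) (t : K) : slMap ι (uy t) = uy (ι t) := by
  apply ext2 <;> simp [slMap_apply]

theorem slMap_dg (ι : K →+* F) (s : K) (hs : s ≠ 0) :
    slMap ι (dg s hs) = dg (ι s) ((map_ne_zero ι).mpr hs) := by
  apply ext2 <;> simp [slMap_apply]

theorem card_range_slMap [Fintype K] (ι : K →+* F) :
    Nat.card (slMap ι).range = Fintype.card K * (Fintype.card K ^ 2 - 1) := by
  rw [← Cfsg.Agent.Lib.Helper38.card_SL2]
  exact (Nat.card_congr (MonoidHom.ofInjective (slMap_injective ι)).toEquiv).symm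

/-- squares of a diagonal element and of its conjugate under `uy 1` do not commute -/
theorem sq_not_commute (h2 : (2 : F) = 0) (s : F) (hs : s ≠ 0) (hs1 : s ≠ 1) :
    (dg s hs) ^ 2 * (uy 1 * dg s hs * (uy 1)⁻¹) ^ 2 ≠
      (uy 1 * dg s hs * (uy 1)⁻¹) ^ 2 * (dg s hs) ^ 2 := by
  intro h
  have h1 := (entries_of_eq h).2.2.1
  simp only [pow_two, mul00, mul01, mul10, mul11, inv00, inv01, inv10, inv11, uy_00, uy_01, uy_10,
    uy_11, dg_00, dg_01, dg_10, dg_11] at h1
  field_simp at h1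
  apply hs1
  have h3 : (s - 1) ^ 8 = 0 := by
    linear_combination (-1) * h1 + (-4*s^7 + 14*s^6 - 28*s^5 + 36*s^4 - 28*s^3 + 14*s^2 - 4*s) * h2
  have := pow_eq_zero_iff (by norm_num) |>.mp h3
  linear_combination this

theorem pow_sq_sub (b : ℕ) : (2 ^ b) ^ 2 - 1 = 2 ^ (2 * b) - 1 := by
  rw [← pow_mul, mul_comm]

variable [Fintype F] [Fintype K]

theorem isCoatom_range (ι : K →+* F) (a r : ℕ) (ha : 2 ≤ a) (hK : Fintype.card K = 2 ^ a)
    (hF : Fintype.card F = (2 ^ a) ^ r) (hr : r.Prime) : IsCoatom (slMap ι).range := by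
  classical
  have hFeven : Even (Fintype.card F) := by
    rw [hF, ← pow_mul]
    exact (Nat.even_pow' (by have := hr.pos; positivity)).mpr even_two
  have h2 : (2 : F) = 0 := two_eq_zero_of_even hFeven
  have hch : ringChar F = 2 := FiniteField.even_card_iff_char_two.mpr (Nat.even_iff.mp hFeven)
  haveI : CharP F 2 := by rw [← hch]; exact ringChar.charP F
  haveI : Fact (Nat.Prime 2) := ⟨Nat.prime_two⟩
  have hcH := card_range_slMap ι
  rw [hK, pow_sq_sub] at hcH
  have hcG : Nat.card (SpecialLinearGroup (Fin 2) F) = 2 ^ (a * r) * (2 ^ (2 * (a * r)) - 1) := by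
    rw [Cfsg.Agent.Lib.Helper38.card_SL2, hF, ← pow_mul, pow_sq_sub]
  have hr2 : 2 ≤ r := hr.two_le
  have hmono : ∀ u v : ℕ, u < v → 2 ^ u * (2 ^ (2 * u) - 1) < 2 ^ v * (2 ^ (2 * v) - 1) := by
    intro u v huv
    have h1 : 2 ^ u < 2 ^ v := Nat.pow_lt_pow_right (by norm_num) huv
    have h3 : 2 ^ (2 * u) < 2 ^ (2 * v) := Nat.pow_lt_pow_right (by norm_num) (by omega)
    have h4 : 1 ≤ 2 ^ (2 * u) := Nat.one_le_two_pow
    have h5 : 2 ^ (2 * u) - 1 < 2 ^ (2 * v) - 1 := by omega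
    have h6 : 0 < 2 ^ (2 * v) - 1 := by omega
    calc 2 ^ u * (2 ^ (2 * u) - 1) ≤ 2 ^ u * (2 ^ (2 * v) - 1) := Nat.mul_le_mul_left _ h5.le
      _ < 2 ^ v * (2 ^ (2 * v) - 1) := Nat.mul_lt_mul_of_pos_right h1 h6
  constructor
  · intro htop
    rw [htop, Subgroup.card_top, hcG] at hcH
    have : a < a * r := by nlinarith
    have := hmono a (a * r) this
    omega
  · intro Y hlt
    have hle : (slMap ι).range ≤ Y := hlt.le
    have hτ : Function.Injective Y.subtype := Y.subtype_injective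
    have hd1 : Nat.card (ZZ Y.subtype) = 1 := card_ZZ_of_even hFeven Y.subtype hτ
    have hdvd : Nat.card (slMap ι).range ∣ Nat.card Y := Subgroup.card_dvd_of_le hle
    have hne : Nat.card Y ≠ Nat.card (slMap ι).range := by
      intro h
      have := Subgroup.eq_of_le_of_card_ge hle h.le
      exact hlt.ne this
    rw [hcH] at hdvd hne
    -- elements
    have hx : ux (1 : F) ∈ Y := hle ⟨ux 1, by rw [slMap_ux, map_one]⟩
    have hy : uy (1 : F) ∈ Y := hle ⟨uy 1, by rw [slMap_uy, map_one]⟩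
    obtain ⟨c, hc0, hc1⟩ : ∃ c : K, c ≠ 0 ∧ c ≠ 1 := by
      by_contra hcon
      have hsub : (Finset.univ : Finset K) ⊆ {0, 1} := by
        intro c _
        rw [Finset.mem_insert, Finset.mem_singleton]
        by_contra h
        exact hcon ⟨c, fun h0 => h (Or.inl h0), fun h1 => h (Or.inr h1)⟩
      have := Finset.card_le_card hsub
      rw [Finset.card_univ, hK] at this
      have h4 : 2 ^ 2 ≤ 2 ^ a := Nat.pow_le_pow_right (by norm_num) ha
      have : ({0, 1} : Finset K).card ≤ 2 := Finset.card_le_two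
      omega
    have hs0 : ι c ≠ 0 := (map_ne_zero ι).mpr hc0
    have hs1 : ι c ≠ 1 := fun h => hc1 (ι.injective (by rw [h, map_one]))
    have hA : dg (ι c) hs0 ∈ Y := hle ⟨dg c hc0, slMap_dg ι c hc0⟩
    have hB : uy 1 * dg (ι c) hs0 * (uy 1)⁻¹ ∈ Y := Y.mul_mem (Y.mul_mem hy hA) (Y.inv_mem hy)
    have h60 : 60 ≤ 2 ^ a * (2 ^ (2 * a) - 1) := by
      have h4 : 2 ^ 2 ≤ 2 ^ a := Nat.pow_le_pow_right (by norm_num) ha
      have h16 : 2 ^ 4 ≤ 2 ^ (2 * a) := Nat.pow_le_pow_right (by norm_num) (by omega)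
      calc 60 = 4 * 15 := by norm_num
        _ ≤ 2 ^ a * (2 ^ (2 * a) - 1) := Nat.mul_le_mul (by omega) (by omega)
    have hsmall : ∀ n : ℕ, n = 12 ∨ n = 24 ∨ n = 60 → Nat.card Y = 1 * n → False := by
      intro n hn hY
      rw [hY, one_mul] at hdvd hne
      have := Nat.le_of_dvd (by rcases hn with rfl | rfl | rfl <;> norm_num) hdvd
      rcases hn with rfl | rfl | rfl <;> omega
    rcases over_cases 2 Y hx hy _ _ hA hB (sq_not_commute h2 (ι c) hs0 hs1) with h | h | h | h
    · exact (hsmall 12 (Or.inl rfl) (by rw [← hd1]; exact h.1)).elim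
    · exact (hsmall 24 (Or.inr (Or.inl rfl)) (by rw [← hd1]; exact h.1)).elim
    · exact (hsmall 60 (Or.inr (Or.inr rfl)) (by rw [← hd1]; exact h.1)).elim
    · obtain ⟨k, qH, g₂, g, m, hg, hk2, hP, hm1, hm⟩ := h
      rw [hd1, one_mul] at hg
      rw [hF, ← pow_mul] at hm
      have hq3 : 3 ≤ qH := (psld_le hP hk2).2
      obtain ⟨b, hb, rfl⟩ : ∃ b, b ≤ a * r ∧ qH = 2 ^ b :=
        (Nat.dvd_prime_pow Nat.prime_two).mp (hm ▸ dvd_pow_self qH (by omega))
      have hb1 : 1 ≤ b := by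
        rcases Nat.eq_zero_or_pos b with rfl | h
        · simp at hq3
        · exact h
      have hbm : b * m = a * r := by
        rw [← pow_mul] at hm
        exact Nat.pow_right_injective (le_refl 2) hm
      have hev : Even (2 ^ b) := (Nat.even_pow' (by omega)).mpr even_two
      have hgval : g = 2 ^ b * (2 ^ (2 * b) - 1) := by
        rcases hP with ⟨h1, h2', h3⟩ | ⟨h1, -, -⟩ | ⟨h1, -, -, -⟩
        · have e1 : 2 ^ (2 * b) - 1 = k * (k + 2) := by
            have : 2 ^ (2 * b) = (k + 1) ^ 2 := by rw [h1, ← pow_mul, mul_comm]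
            rw [this]
            have : (k + 1) ^ 2 = k * (k + 2) + 1 := by ring
            omega
          rw [h3, h2', e1, ← h1]
          ring
        · exfalso
          rw [Nat.even_iff] at hev
          omega
        · exfalso
          rw [Nat.even_iff] at hev
          omega
      rw [hgval] at hg
      rw [hg] at hdvd hne
      rcases arith2 a r b m (by omega) hr hbm hdvd with rfl | rfl
      · exact absurd rfl hne
      · apply Subgroup.eq_top_of_card_eq
        rw [hg, hcG]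

end

theorem two_eq_zero_of_even_card {K : Type*} [Field K] [Fintype K] (h : Even (Fintype.card K)) :
    (2 : K) = 0 := two_eq_zero_of_even h

/-- Let K and F be finite fields of characteristic 2 with #K = q > 2 and #F = q^r for a prime r. Then PSL_2(F) has a maximal subgroup isomorphic to PSL_2(K) (which equals PGL_2(K) in characteristic 2). -/
theorem result {F K : Type*} [Field F] [Fintype F] [Field K] [Fintype K] (q r : ℕ) (hK : Fintype.card K = q) (hF : Fintype.card F = q ^ r) (hq : Even q) (hq2 : q ≠ 2) (hr : r.Prime) : ∃ H : Subgroup (Matrix.ProjectiveSpecialLinearGroup (Fin 2) F), IsCoatom H ∧ Nonempty (H ≃* Matrix.ProjectiveSpecialLinearGroup (Fin 2) K) := by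
  classical
  have hKeven : Even (Fintype.card K) := by rw [hK]; exact hq
  have h2K : (2 : K) = 0 := two_eq_zero_of_even hKeven
  have hchK : ringChar K = 2 := FiniteField.even_card_iff_char_two.mpr (Nat.even_iff.mp hKeven)
  haveI : CharP K 2 := by rw [← hchK]; exact ringChar.charP K
  haveI : Fact (Nat.Prime 2) := ⟨Nat.prime_two⟩
  obtain ⟨n, hn⟩ := FiniteField.card K 2
  have hqa : q = 2 ^ (n : ℕ) := by rw [← hK]; exact hn.2
  have ha : 2 ≤ (n : ℕ) := by
    have h1 : 1 ≤ (n : ℕ) := n.pos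
    rcases Nat.lt_or_ge (n : ℕ) 2 with h | h
    · exfalso
      have : (n : ℕ) = 1 := by omega
      rw [this] at hqa
      exact hq2 (by simpa using hqa)
    · exact h
  subst hqa
  have hFeven : Even (Fintype.card F) := by
    rw [hF]
    exact (Nat.even_pow' hr.pos.ne').mpr hq
  have h2F : (2 : F) = 0 := two_eq_zero_of_even hFeven
  obtain ⟨ι⟩ := Cfsg.Agent.S0805.exists_ringHom (F := F) (K := K) r hr.pos (by rw [hK, hF])
  obtain ⟨e⟩ := Cfsg.Agent.Lib.Helper21.sl_equiv_psl h2F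
  obtain ⟨eK⟩ := Cfsg.Agent.Lib.Helper21.sl_equiv_psl h2K
  have hco := isCoatom_range ι (n : ℕ) r ha hK hF hr
  refine ⟨(MulEquiv.mapSubgroup e) (slMap ι).range, ?_, ⟨?_⟩⟩
  · exact (OrderIso.isCoatom_iff (MulEquiv.mapSubgroup e) _).mpr hco
  · exact ((e.subgroupMap (slMap ι).range).symm.trans
      (MonoidHom.ofInjective (slMap_injective ι)).symm).trans eK

end Cfsg.Agent.S5943
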