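import Mathlib
import Cfsg.Agent.Lib.Helper41.DkChar2
import Cfsg.Agent.Lib.Helper14.DkDihMax
import Cfsg.Agent.Lib.Helper13.Involution
import Cfsg.Agent.Lib.Helper6.SzCent
import Cfsg.Agent.Lib.Helper21.SL2Recognize
import Cfsg.Agent.S1230
import Cfsg.Statements.S5893

set_option autoImplicit false
open Cfsg

namespace Cfsg.Agent.S5893

open Matrix Cfsg.Agent.Lib.Helper2.SL2 Cfsg.Agent.Lib.Helper14.Dk Cfsg.Agent.Lib.Helper41.DkOver
open Cfsg.Agent.Lib.Helper41.DkChar2
open Cfsg.Agent.S5943 (slMap slMap_apply slMap_injective card_range_slMap)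

section
variable {F : Type*} [Field F] [Fintype F]

local notation "SL2" => Matrix.SpecialLinearGroup (Fin 2) F

theorem fmono (u v : ℕ) (hu : 1 ≤ u) (huv : u < v) : u * (u ^ 2 - 1) < v * (v ^ 2 - 1) := by
  have h1 : u ^ 2 < v ^ 2 := Nat.pow_lt_pow_left huv (by norm_num)
  have h2 : 1 ≤ u ^ 2 := Nat.one_le_pow _ _ hu
  have h3 : u ^ 2 - 1 < v ^ 2 - 1 := by omega
  calc u * (u ^ 2 - 1) ≤ u * (v ^ 2 - 1) := Nat.mul_le_mul_left _ h3.le
    _ < v * (v ^ 2 - 1) := Nat.mul_lt_mul_of_pos_right huv (by omega)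

omit [Fintype F] in
theorem pow_pow_eq {a : F} {n : ℕ} (h : a ^ n = a) (s : ℕ) : a ^ (n ^ s) = a := by
  induction s with
  | zero => simp
  | succ s ih => rw [pow_succ, pow_mul, ih, h]

/-- in even characteristic the elements of `Y` outside `ZZ` are the non-identity elements -/
theorem not_mem_ZZ_iff (heven : Even (Fintype.card F)) (Y : Subgroup SL2) (y : ↥Y) :
    y ∉ ZZ Y.subtype ↔ y ≠ 1 := by
  rw [mem_ZZ, neg_one_eq_one_of_even heven, or_self]
  constructor
  · intro h h1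
    apply h
    rw [h1, map_one]
  · intro h h1
    apply h
    exact Y.subtype_injective (by rw [h1, map_one])

/-- the traces of a subgroup of PSL type lie in the fixed field of `a ↦ a ^ qH` -/
theorem trace_pow (heven : Even (Fintype.card F)) (Y : Subgroup SL2) (b k g₂ : ℕ)
    (hk : k + 1 = 2 ^ b) (hg₂ : g₂ = 2 ^ b + 1)
    (hTin : TorIn (ZZ Y.subtype) (UU Y.subtype) [(2, k), (2, g₂)])
    (hd1 : Nat.card (ZZ Y.subtype) = 1) (y : SL2) (hy : y ∈ Y) :
    tr2 y ^ 2 ^ b = tr2 y := by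
  have h2 : (2 : F) = 0 := two_eq_zero_of_even heven
  have h4 : (4 : F) = 0 := by linear_combination (2 : F) * h2
  have hb : 2 ^ b ≠ 0 := by positivity
  by_cases hyZ : (⟨y, hy⟩ : ↥Y) ∈ ZZ Y.subtype
  · have : (⟨y, hy⟩ : ↥Y) = 1 := by
      by_contra h
      exact ((not_mem_ZZ_iff heven Y _).mpr h) hyZ
    have hy1 : y = 1 := congrArg Subtype.val this
    rw [hy1, tr2_one h2, zero_pow hb]
  by_cases hU : UU Y.subtype (⟨y, hy⟩ : ↥Y)
  · have : tr2 y ^ 2 = 0 := by
      have : tr2 y ^ 2 = 4 := hU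
      rw [this, h4]
    have h0 : tr2 y = 0 := pow_eq_zero_iff (two_ne_zero) |>.mp this
    rw [h0, zero_pow hb]
  · obtain ⟨t, ht, -, haa⟩ := hTin ⟨y, hy⟩ hyZ hU
    rw [hd1, one_mul] at haa
    have hpow : (⟨y, hy⟩ : ↥Y) ^ (aa (⟨y, hy⟩ : ↥Y)) = 1 := by
      have := pow_card_eq_one' (G := ↥(M (⟨y, hy⟩ : ↥Y))) (x := ⟨⟨y, hy⟩, self_mem_M _⟩)
      have h3 := congrArg (fun z : ↥(M (⟨y, hy⟩ : ↥Y)) => (z : ↥Y)) this
      simp only [Subgroup.coe_pow, Subgroup.coe_one] at h3
      exact h3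
    rw [haa] at hpow
    have hpow' : y ^ t.2 = 1 := by
      have := congrArg Subtype.val hpow
      simpa using this
    rw [← tr2_pow_two_pow h2]
    simp only [List.mem_cons, List.not_mem_nil, or_false] at ht
    rcases ht with rfl | rfl
    · -- y^(2^b - 1) = 1
      have : y ^ 2 ^ b = y := by
        rw [← hk, pow_succ, hpow', one_mul]
      rw [this]
    · have : y ^ 2 ^ b = y⁻¹ := by
        rw [eq_inv_iff_mul_eq_one, ← pow_succ, ← hg₂]
        exact hpow'
      rw [this, tr2_inv]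

/-- an even order subgroup has a unipotent involution -/
theorem exists_unip (heven : Even (Fintype.card F)) (Y : Subgroup SL2) (hY2 : 2 ∣ Nat.card Y) :
    ∃ y : ↥Y, y ∉ ZZ Y.subtype ∧ UU Y.subtype y ∧ y * y = 1 := by
  have h2 : (2 : F) = 0 := two_eq_zero_of_even heven
  have h4 : (4 : F) = 0 := by linear_combination (2 : F) * h2
  haveI : Fact (Nat.Prime 2) := ⟨Nat.prime_two⟩
  obtain ⟨y, hy⟩ := exists_prime_orderOf_dvd_card' 2 hY2
  have hy1 : y ≠ 1 := by
    intro h
    rw [h, orderOf_one] at hy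
    omega
  have hyy : y * y = 1 := by
    have := pow_orderOf_eq_one y
    rw [hy, pow_two] at this
    exact this
  refine ⟨y, (not_mem_ZZ_iff heven Y y).mpr hy1, ?_, hyy⟩
  have h1 : (y : SL2) * (y : SL2) = 1 := congrArg Subtype.val hyy
  have := tr_zero_of_sq_one h2 (y : SL2) h1
  show tr2 (y : SL2) ^ 2 = 4
  rw [this, h4]; ring

theorem psl_case (heven : Even (Fintype.card F)) (Y : Subgroup SL2)
    (hY : IsCoatom Y) (h : IsPSL (ZZ Y.subtype) (UU Y.subtype)) :
    ∃ (F₀ : Type) (_ : Field F₀) (_ : Fintype F₀) (r : ℕ), r.Prime ∧ Fintype.card F₀ ≠ 2 ∧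
      Fintype.card F = Fintype.card F₀ ^ r ∧
      Nonempty (Y ≃* Matrix.ProjectiveSpecialLinearGroup (Fin 2) F₀) := by
  classical
  have h2 : (2 : F) = 0 := two_eq_zero_of_even heven
  have h4F : (4 : F) = 0 := by linear_combination (2 : F) * h2
  have hch : ringChar F = 2 := FiniteField.even_card_iff_char_two.mpr (Nat.even_iff.mp heven)
  haveI : CharP F 2 := by rw [← hch]; exact ringChar.charP F
  haveI : Fact (Nat.Prime 2) := ⟨Nat.prime_two⟩
  have hτ : Function.Injective Y.subtype := Y.subtype_injective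
  have D := data_of_rep 2 Y.subtype hτ
  have hd1 : Nat.card (ZZ Y.subtype) = 1 := card_ZZ_of_even heven Y.subtype hτ
  have hZbot : ∀ y : ↥Y, y ∈ ZZ Y.subtype → y = 1 := by
    intro y hy
    by_contra h1
    exact ((not_mem_ZZ_iff heven Y y).mpr h1) hy
  obtain ⟨k, qH, g₂, g, hg, hk2, ⟨⟨x, hxZ, hUx⟩, hall⟩, hP, -, -, hTin⟩ := h
  rw [hd1, one_mul] at hg
  obtain ⟨hee, haa⟩ := hall x hxZ hUx
  obtain ⟨hle', hq3⟩ := psld_le hP hk2
  obtain ⟨m, hm1, hm⟩ := field_card_pow Y.subtype hτ hxZ hUx hee haa hle'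
  rw [hd1, one_mul] at haa
  -- the field has 2^a elements
  obtain ⟨a, ha⟩ := FiniteField.card F 2
  have hqa : Fintype.card F = 2 ^ (a : ℕ) := ha.2
  obtain ⟨b, hb, rfl⟩ : ∃ b, b ≤ (a : ℕ) ∧ qH = 2 ^ b := by
    apply (Nat.dvd_prime_pow Nat.prime_two).mp
    rw [← hqa, ← hm]
    exact dvd_pow_self qH (by omega)
  have hb1 : 1 ≤ b := by
    rcases Nat.eq_zero_or_pos b with rfl | h
    · simp at hq3
    · exact h
  have hev : Even (2 ^ b) := (Nat.even_pow' (by omega)).mpr even_two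
  obtain ⟨hk, hg₂, hgv⟩ : k + 1 = 2 ^ b ∧ g₂ = 2 ^ b + 1 ∧ g = 2 ^ b * k * g₂ := by
    rcases hP with ⟨h1, h2', h3⟩ | ⟨h1, -, -⟩ | ⟨h1, -, -, -⟩
    · exact ⟨h1, h2', h3⟩
    · exfalso
      rw [Nat.even_iff] at hev
      omega
    · exfalso
      rw [Nat.even_iff] at hev
      omega
  have hqH4 : 4 ≤ 2 ^ b := by
    rw [Nat.even_iff] at hev
    omega
  have hgf : g = 2 ^ b * ((2 ^ b) ^ 2 - 1) := by
    have e1 : (2 ^ b) ^ 2 - 1 = k * (k + 2) := by
      rw [← hk]
      have : (k + 1) ^ 2 = k * (k + 2) + 1 := by ring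
      omega
    rw [hgv, hg₂, e1, ← hk]; ring
  -- involutions
  have hexp : ∀ y ∈ M x, y * y = 1 := by
    intro y hy
    by_cases hyZ : y ∈ ZZ Y.subtype
    · rw [hZbot y hyZ, one_mul]
    · have hUy : UU Y.subtype y := D.U_comm x y hxZ hyZ (mem_M.mp hy) hUx
      have := D.U_pow y hyZ hUy
      rw [← pow_two]
      exact hZbot _ this
  have hT2 : IsPGroup 2 ↥(M x) := by
    intro y
    refine ⟨1, ?_⟩
    apply Subtype.ext
    rw [pow_one, pow_two]
    exact hexp y y.2
  have hcardT : Nat.card (M x) = 2 ^ b := haa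
  have hnn : nn x = g₂ := by
    have h1 := nn_mul_ee_mul_aa x
    rw [hee, haa, hg, hgv] at h1
    have : nn x * (k * 2 ^ b) = g₂ * (k * 2 ^ b) := by rw [← mul_assoc, h1]; ring
    exact Nat.eq_of_mul_eq_mul_right (Nat.mul_pos (by omega) (by omega)) this
  have hidx : ¬ 2 ∣ (M x).index := by
    have h1 := (M x).card_mul_index
    rw [hcardT, hg, hgv] at h1
    have h3 : (M x).index = k * g₂ := by
      have : 2 ^ b * (M x).index = 2 ^ b * (k * g₂) := by rw [h1]; ring
      exact Nat.eq_of_mul_eq_mul_left (by omega) this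
    rw [h3, hg₂]
    rw [Nat.even_iff] at hev
    intro hdvd
    have hko : k % 2 = 1 := by omega
    have hgo : (2 ^ b + 1) % 2 = 1 := by omega
    have : (k * (2 ^ b + 1)) % 2 = 1 := by rw [Nat.mul_mod, hko, hgo]
    omega
  let P : Sylow 2 ↥Y := hT2.toSylow hidx
  have hPT : (P : Subgroup ↥Y) = M x := IsPGroup.toSylow_coe hT2 hidx
  have hnc : ¬ IsCyclic (P : Subgroup ↥Y) := by
    rw [hPT]
    intro hcyc
    obtain ⟨y, hy⟩ := hcyc.exists_generator
    have h1 : orderOf y = Nat.card (M x) := orderOf_eq_card_of_forall_mem_zpowers hy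
    have h2' : y ^ 2 = 1 := by
      apply Subtype.ext
      rw [Subgroup.coe_pow, pow_two]
      exact hexp y y.2
    have h3 : orderOf y ≤ 2 := orderOf_le_of_pow_eq_one (by norm_num) h2'
    omega
  have hnotnorm : Subgroup.normalizer (M x : Set ↥Y) ≠ ⊤ := by
    intro h
    have : nn x = 1 := by unfold nn; rw [h, Subgroup.index_top]
    omega
  have hnn' : ¬ (P : Subgroup ↥Y).Normal := by
    rw [hPT]
    intro hn
    exact hnotnorm (Subgroup.normalizer_eq_top_iff.mpr hn)
  have hC : ∀ t : ↥Y, orderOf t = 2 →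
      IsMulCommutative (Subgroup.centralizer ({t} : Set ↥Y)) ∧
        ∀ c ∈ Subgroup.centralizer ({t} : Set ↥Y), c ^ 2 = 1 := by
    intro t hto
    have ht1 : t ≠ 1 := by
      intro h
      rw [h, orderOf_one] at hto
      omega
    have htt : t * t = 1 := by
      have := pow_orderOf_eq_one t
      rw [hto, pow_two] at this
      exact this
    have htZ : t ∉ ZZ Y.subtype := (not_mem_ZZ_iff heven Y t).mpr ht1
    have hUt : UU Y.subtype t := by
      have h1 : (t : SL2) * (t : SL2) = 1 := congrArg Subtype.val htt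
      have := tr_zero_of_sq_one h2 (t : SL2) h1
      show tr2 (t : SL2) ^ 2 = 4
      rw [this, h4F]; ring
    constructor
    · refine ⟨⟨fun c d => ?_⟩⟩
      apply Subtype.ext
      exact D.toCT.comm_of_mem htZ c.2 d.2
    · intro c hc
      by_cases hcZ : c ∈ ZZ Y.subtype
      · rw [hZbot c hcZ, one_pow]
      · have hc' : c ∈ M t := hc
        have hUc : UU Y.subtype c := D.U_comm t c htZ hcZ (mem_M.mp hc') hUt
        exact hZbot _ (D.U_pow c hcZ hUc)
  obtain ⟨F₀, hF₀1, hF₀2, hF₀c, ⟨e⟩⟩ := Cfsg.Agent.S1230.result P hnc hnn' hC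
  have hF₀card : Fintype.card F₀ = 2 ^ b := by rw [hF₀c, hPT, hcardT]
  refine ⟨F₀, hF₀1, hF₀2, m, ?_, by rw [hF₀card]; omega, by rw [hF₀card, hm], ⟨e⟩⟩
  -- primality of m
  have hcG : Nat.card SL2 = Fintype.card F * (Fintype.card F ^ 2 - 1) :=
    Cfsg.Agent.Lib.Helper38.card_SL2
  have hm2 : 2 ≤ m := by
    rcases Nat.lt_or_ge m 2 with h | h
    · exfalso
      have : m = 1 := by omega
      subst this
      rw [pow_one] at hm
      apply hY.1
      apply Subgroup.eq_top_of_card_eq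
      rw [hg, hgf, hcG, hm]
    · exact h
  by_contra hmp
  obtain ⟨s, hsm, hs2, hslt⟩ := Nat.exists_dvd_of_not_prime2 hm2 hmp
  have hbm : Nat.card F = 2 ^ (b * m) := by
    rw [Nat.card_eq_fintype_card, ← hm, pow_mul]
  obtain ⟨E', hE'⟩ := Cfsg.Agent.Lib.Helper6.Sz.exists_subfield_card (F := F) hbm
    (n := b * s) (Nat.mul_ne_zero (by omega) (by omega)) (Nat.mul_dvd_mul_left b hsm)
  haveI : Fintype E' := Fintype.ofFinite E'
  have hE'c : Fintype.card E' = (2 ^ b) ^ s := by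
    rw [← Nat.card_eq_fintype_card, hE', pow_mul]
  have htr : ∀ y ∈ Y, tr2 y ∈ E' := by
    intro y hy
    apply Cfsg.Agent.Lib.Helper13.mem_subfield_of_pow_card_eq E'
    rw [hE'c]
    exact pow_pow_eq (trace_pow heven Y b k g₂ hk hg₂ hTin hd1 y hy) s
  -- two non-commuting involutions
  obtain ⟨w, hw⟩ : ∃ w : ↥Y, w ∉ Subgroup.normalizer (M x : Set ↥Y) := by
    by_contra hcon
    apply hnotnorm
    rw [eq_top_iff]
    intro w _
    by_contra hw
    exact hcon ⟨w, hw⟩
  rw [D.toCT.mem_normalizer_M hxZ] at hw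
  have hxx : x * x = 1 := hexp x (self_mem_M x)
  have hu2 : (x : SL2) * (x : SL2) = 1 := congrArg Subtype.val hxx
  have hu'2 : ((w * x * w⁻¹ : ↥Y) : SL2) * ((w * x * w⁻¹ : ↥Y) : SL2) = 1 := by
    have : (w * x * w⁻¹) * (w * x * w⁻¹) = 1 := by
      have e : (w * x * w⁻¹) * (w * x * w⁻¹) = w * (x * x) * w⁻¹ := by group
      rw [e, hxx]; group
    exact congrArg Subtype.val this
  have hne : (x : SL2) * ((w * x * w⁻¹ : ↥Y) : SL2) ≠ ((w * x * w⁻¹ : ↥Y) : SL2) * (x : SL2) := by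
    intro h
    apply hw
    exact Subtype.ext h
  obtain ⟨c, hc⟩ := conj_le_subfield h2 E' Y htr (x : SL2) ((w * x * w⁻¹ : ↥Y) : SL2) x.2
    (w * x * w⁻¹).2 hu2 hu'2 hne
  -- the conjugate of Y lies in SL₂(E')
  set S := (slMap E'.subtype).range with hS
  have hcS : Nat.card S = (2 ^ b) ^ s * (((2 ^ b) ^ s) ^ 2 - 1) := by
    rw [hS, card_range_slMap, hE'c]
  have hYle : Y.map (MulAut.conj c).toMonoidHom ≤ S := by
    rintro _ ⟨y, hy, rfl⟩
    exact hc y hy
  have hco : IsCoatom (Y.map (MulAut.conj c).toMonoidHom) :=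
    (OrderIso.isCoatom_iff (MulEquiv.mapSubgroup (MulAut.conj c)) Y).mpr hY
  have hcY' : Nat.card (Y.map (MulAut.conj c).toMonoidHom) = 2 ^ b * ((2 ^ b) ^ 2 - 1) := by
    rw [Subgroup.card_map_of_injective (MulAut.conj c).injective, hg, hgf]
  have h1s : 2 ^ b < (2 ^ b) ^ s := by
    calc 2 ^ b = (2 ^ b) ^ 1 := (pow_one _).symm
      _ < (2 ^ b) ^ s := Nat.pow_lt_pow_right (by omega) (by omega)
  have hsm' : (2 ^ b) ^ s < (2 ^ b) ^ m := Nat.pow_lt_pow_right (by omega) hslt
  rcases hco.le_iff.mp hYle with h | h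
  · -- S = ⊤
    have : Nat.card S = Nat.card SL2 := by rw [h, Subgroup.card_top]
    rw [hcS, hcG, ← hm] at this
    have := fmono _ _ (by omega) hsm'
    omega
  · have : Nat.card S = Nat.card (Y.map (MulAut.conj c).toMonoidHom) := by rw [h]
    rw [hcS, hcY'] at this
    have := fmono _ _ (by omega) h1s
    omega

/-- all tori of `SL₂(q)`, `q ≥ 4`, have index two in their normalizers and order `q ± 1` -/
theorem tori_of_SL2 (p : ℕ) [Fact p.Prime] [CharP F p] (hq4 : 4 ≤ Fintype.card F) (x : SL2)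
    (hx : x ∉ ZZ (MonoidHom.id SL2)) (hU : ¬ UU (MonoidHom.id SL2) x) :
    ee x = 2 ∧ (aa x = Fintype.card F - 1 ∨ aa x = Fintype.card F + 1) := by
  have hτ : Function.Injective (MonoidHom.id SL2) := fun _ _ h => h
  have hL : Nat.card SL2 = Fintype.card F * (Fintype.card F ^ 2 - 1) :=
    Cfsg.Agent.Lib.Helper38.card_SL2
  have hd2 : Nat.card (ZZ (MonoidHom.id SL2)) ≤ 2 := card_ZZ_le _ hτ
  have hd1 : 0 < Nat.card (ZZ (MonoidHom.id SL2)) := Nat.card_pos
  have hd : Nat.card (ZZ (MonoidHom.id SL2)) = 1 ∨ Nat.card (ZZ (MonoidHom.id SL2)) = 2 := by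
    omega
  have hdodd : Odd (Fintype.card F) → Nat.card (ZZ (MonoidHom.id SL2)) = 2 :=
    fun h => card_ZZ_of_odd_gen h _ hτ (-1) rfl
  rcases SL2_type (F := F) p (by omega) with h | h
  · exfalso
    obtain ⟨hc, -⟩ := h
    rw [hL] at hc
    have h60 : 4 * (4 ^ 2 - 1) ≤ Fintype.card F * (Fintype.card F ^ 2 - 1) := by
      apply Nat.mul_le_mul hq4
      have := Nat.pow_le_pow_left hq4 2
      omega
    omega
  · obtain ⟨k, qH, g₂, g, hg, hk2, ⟨⟨u, hu, hUu⟩, hall⟩, hP, -, -, hTin⟩ := h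
    obtain ⟨hee, haa⟩ := hall u hu hUu
    obtain ⟨hle', -⟩ := psld_le hP hk2
    obtain ⟨m, hm1, hm⟩ := field_card_pow (MonoidHom.id SL2) hτ hu hUu hee haa hle'
    rw [hL] at hg
    rcases Nat.lt_or_ge m 2 with hm2 | hm2
    · have : m = 1 := by omega
      subst this
      rw [pow_one] at hm
      subst hm
      obtain ⟨-, e2, e3⟩ := psl_m_one _ k g₂ g _ hP hk2 hd hdodd (le_of_eq hg.symm)
      obtain ⟨t, ht, h1, h2⟩ := hTin x hx hU
      simp only [List.mem_cons, List.not_mem_nil, or_false] at ht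
      rcases ht with rfl | rfl
      · exact ⟨h1, Or.inl (by rw [h2, e2])⟩
      · exact ⟨h1, Or.inr (by rw [h2, e3])⟩
    · exfalso
      have := psl_m_ge_two_lt _ qH k g₂ g _ m hP hk2 hm2 hm hd
      omega


/-- the normalizer of a torus of `SL₂(q)`, `q` even, is dihedral -/
theorem normalizer_dihedral (heven : Even (Fintype.card F)) (h4 : 4 ≤ Fintype.card F) (x : SL2)
    (hx : x ∉ ZZ (MonoidHom.id SL2)) (hU : ¬ UU (MonoidHom.id SL2) x) :
    Nonempty (↥(Subgroup.normalizer (M x : Set SL2)) ≃* DihedralGroup (aa x)) := by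
  have hch : ringChar F = 2 := FiniteField.even_card_iff_char_two.mpr (Nat.even_iff.mp heven)
  haveI : CharP F 2 := by rw [← hch]; exact ringChar.charP F
  haveI : Fact (Nat.Prime 2) := ⟨Nat.prime_two⟩
  have hτ : Function.Injective (MonoidHom.id SL2) := fun _ _ h => h
  have D := data_of_rep 2 (MonoidHom.id SL2) hτ
  obtain ⟨hee, -⟩ := tori_of_SL2 2 h4 x hx hU
  have hcyc := torus_isCyclic (MonoidHom.id SL2) hτ hU
  obtain ⟨g, hg⟩ := IsCyclic.exists_generator (α := ↥(M x))
  have hT : M x = Subgroup.zpowers (g : SL2) := by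
    ext y
    constructor
    · intro hy
      obtain ⟨k, hk⟩ := hg ⟨y, hy⟩
      refine ⟨k, ?_⟩
      have := congrArg Subtype.val hk
      simpa using this
    · rintro ⟨k, rfl⟩
      exact (M x).zpow_mem g.2 k
  have hgZ : (g : SL2) ∉ ZZ (MonoidHom.id SL2) := by
    intro hgz
    apply hx
    have hxm : x ∈ Subgroup.zpowers (g : SL2) := by rw [← hT]; exact self_mem_M x
    obtain ⟨k, hk⟩ := hxm
    rw [← hk]
    exact Subgroup.zpow_mem _ hgz k
  obtain ⟨s, hs, hsT⟩ := D.exists_not_mem_tor hee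
  have hs2 := D.tor_sq hx hee hs hsT
  rw [ZZ_id] at hs2
  have hinv := D.tor_inv hx hU hs hsT g.2 hgZ
  have hcos : ∀ n ∈ Subgroup.normalizer (M x : Set SL2), n ∉ M x → s⁻¹ * n ∈ M x :=
    fun n hn hnT => D.tor_coset hee hs hsT hn hnT
  have key := dihedral_quotient (Subgroup.center SL2) (Subgroup.normalizer (M x : Set SL2)) (M x)
    (center_le_M x) (g : SL2) s hT hs Subgroup.le_normalizer hsT hs2 hinv hcos
  have hc1 : Nat.card (Subgroup.center SL2) = 1 := by
    rw [← ZZ_id]; exact card_ZZ_of_even heven _ hτ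
  rw [hc1, Nat.div_one] at key
  obtain ⟨e⟩ := key
  have hbot : Subgroup.center SL2 = ⊥ := Subgroup.card_eq_one.mp hc1
  have hinj : Function.Injective (QuotientGroup.mk' (Subgroup.center SL2)) := by
    rw [← MonoidHom.ker_eq_bot_iff, QuotientGroup.ker_mk', hbot]
  exact ⟨(Subgroup.equivMapOfInjective _ _ hinj).trans e⟩

theorem coatom_cases (heven : Even (Fintype.card F)) (h4 : 4 ≤ Fintype.card F) (Y : Subgroup SL2)
    (hY : IsCoatom Y) :
    Nat.card Y = Fintype.card F * (Fintype.card F - 1) ∨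
    Nonempty (Y ≃* DihedralGroup (Fintype.card F - 1)) ∨
    Nonempty (Y ≃* DihedralGroup (Fintype.card F + 1)) ∨
    (∃ (F₀ : Type) (_ : Field F₀) (_ : Fintype F₀) (r : ℕ), r.Prime ∧ Fintype.card F₀ ≠ 2 ∧
      Fintype.card F = Fintype.card F₀ ^ r ∧
      Nonempty (Y ≃* Matrix.ProjectiveSpecialLinearGroup (Fin 2) F₀)) := by
  classical
  have h2 : (2 : F) = 0 := two_eq_zero_of_even heven
  have hch : ringChar F = 2 := FiniteField.even_card_iff_char_two.mpr (Nat.even_iff.mp heven)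
  haveI : CharP F 2 := by rw [← hch]; exact ringChar.charP F
  haveI : Fact (Nat.Prime 2) := ⟨Nat.prime_two⟩
  have hτ : Function.Injective Y.subtype := Y.subtype_injective
  have hτid : Function.Injective (MonoidHom.id SL2) := fun _ _ h => h
  have D := data_of_rep 2 Y.subtype hτ
  have DG := data_of_rep 2 (MonoidHom.id SL2) hτid
  have hd1 : Nat.card (ZZ Y.subtype) = 1 := card_ZZ_of_even heven Y.subtype hτ
  have hcG : Nat.card SL2 =
      Fintype.card F * (Fintype.card F - 1) * (Fintype.card F + 1) := card_SL2'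
  obtain ⟨hf1, hf2⟩ := card_SL2_pos_facts (F := F) (by omega)
  -- elements of Y outside ZZ are outside ZZ id
  have hZid : ∀ y : ↥Y, y ∉ ZZ Y.subtype → (y : SL2) ∉ ZZ (MonoidHom.id SL2) := by
    intro y hy h
    apply hy
    rw [mem_ZZ] at h ⊢
    exact h
  -- normalizers of tori are proper
  have hNne : ∀ x : SL2, x ∉ ZZ (MonoidHom.id SL2) → ¬ UU (MonoidHom.id SL2) x →
      Subgroup.normalizer (M x : Set SL2) ≠ ⊤ := by
    intro x hx hU h
    obtain ⟨hee, haa⟩ := tori_of_SL2 2 h4 x hx hU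
    have h1 := card_normalizer_M x
    rw [h, Subgroup.card_top, hee, hcG] at h1
    rcases haa with h3 | h3 <;> rw [h3] at h1 <;> omega
  rcases D.main with h | h | h | h | h | h | h | h
  · -- Y trivial
    exfalso
    have hYbot : Y = ⊥ := by
      rw [eq_bot_iff]
      intro y hy
      have : (⟨y, hy⟩ : ↥Y) ∈ ZZ Y.subtype := by rw [h]; exact Subgroup.mem_top _
      rw [mem_ZZ, neg_one_eq_one_of_even heven, or_self] at this
      rw [Subgroup.mem_bot]
      exact this
    have hne : (⊥ : Subgroup SL2) < Subgroup.zpowers (ux (1 : F)) := by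
      rw [bot_lt_iff_ne_bot, Ne, Subgroup.zpowers_eq_bot]
      intro h1
      have := (entries_of_eq h1).2.1
      simp at this
    rw [← hYbot] at hne
    have htop := hY.2 _ hne
    have hmem : uy (1 : F) ∈ Subgroup.zpowers (ux (1 : F)) := by rw [htop]; exact Subgroup.mem_top _
    obtain ⟨n, hn⟩ := hmem
    have hcomm : ux (1 : F) * uy 1 = uy 1 * ux 1 := by
      rw [← hn]
      exact (Commute.zpow_right (Commute.refl _) n).eq
    have := (entries_of_eq hcomm).1
    simp [mul00] at this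
  · -- Y inside a torus
    exfalso
    obtain ⟨x, hxZ, hU, hM⟩ := h
    have hxG := hZid x hxZ
    have hUG : ¬ UU (MonoidHom.id SL2) (x : SL2) := hU
    have hle : Y ≤ Subgroup.normalizer (M (x : SL2) : Set SL2) := by
      intro y hy
      apply Subgroup.le_normalizer
      have : (⟨y, hy⟩ : ↥Y) ∈ M x := by rw [hM]; exact Subgroup.mem_top _
      rw [mem_M] at this ⊢
      exact congrArg Subtype.val this
    rcases hY.le_iff.mp hle with h1 | h1
    · exact hNne _ hxG hUG h1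
    · obtain ⟨hee, -⟩ := tori_of_SL2 2 h4 (x : SL2) hxG hUG
      obtain ⟨s, hs, hsT⟩ := DG.exists_not_mem_tor hee
      rw [h1] at hs
      apply hsT
      have : (⟨s, hs⟩ : ↥Y) ∈ M x := by rw [hM]; exact Subgroup.mem_top _
      rw [mem_M] at this ⊢
      exact congrArg Subtype.val this
  · -- Borel
    left
    obtain ⟨x, hxZ, hU, hN⟩ := h
    obtain ⟨c, hc⟩ := exists_std Y.subtype hτ hxZ hU
    rw [hc.normalizer_eq] at hN
    set B := BG (MonoidHom.id SL2) with hB
    have hle : Y ≤ B.map (MulAut.conj c⁻¹).toMonoidHom := by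
      intro y hy
      have h1 : (⟨y, hy⟩ : ↥Y) ∈ BG ((MulAut.conj c).toMonoidHom.comp Y.subtype) := by
        rw [hN]; exact Subgroup.mem_top _
      refine ⟨c * y * c⁻¹, h1, ?_⟩
      show c⁻¹ * (c * y * c⁻¹) * c⁻¹⁻¹ = y
      group
    have hcB : Nat.card (B.map (MulAut.conj c⁻¹).toMonoidHom) =
        Fintype.card F * (Fintype.card F - 1) := by
      rw [Subgroup.card_map_of_injective (MulAut.conj c⁻¹).injective, hB, card_BG_id]
    rcases hY.le_iff.mp hle with h1 | h1
    · exfalso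
      rw [h1, Subgroup.card_top, hcG] at hcB
      omega
    · rw [← h1]; exact hcB
  · -- dihedral
    obtain ⟨x, hxZ, hU, hn, he⟩ := h
    have hxG := hZid x hxZ
    have hUG : ¬ UU (MonoidHom.id SL2) (x : SL2) := hU
    have hN : Subgroup.normalizer (M x : Set ↥Y) = ⊤ := Subgroup.index_eq_one.mp hn
    have hle : Y ≤ Subgroup.normalizer (M (x : SL2) : Set SL2) := by
      intro y hy
      have h1 : (⟨y, hy⟩ : ↥Y) ∈ Subgroup.normalizer (M x : Set ↥Y) := by
        rw [hN]; exact Subgroup.mem_top _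
      rw [D.toCT.mem_normalizer_M hxZ] at h1
      rw [DG.toCT.mem_normalizer_M hxG]
      exact congrArg Subtype.val h1
    obtain ⟨-, haa⟩ := tori_of_SL2 2 h4 (x : SL2) hxG hUG
    rcases hY.le_iff.mp hle with h1 | h1
    · exact (hNne _ hxG hUG h1).elim
    · obtain ⟨e⟩ := normalizer_dihedral heven h4 (x : SL2) hxG hUG
      rcases haa with h3 | h3
      · right; left
        rw [h3] at e
        exact ⟨(MulEquiv.subgroupCongr h1.symm).trans e⟩
      · right; right; left
        rw [h3] at e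
        exact ⟨(MulEquiv.subgroupCongr h1.symm).trans e⟩
  · -- A4
    exfalso
    obtain ⟨hc, hrest⟩ := h
    rw [hd1, one_mul] at hc
    obtain ⟨y, hyZ, hUy, hyy⟩ := exists_unip heven Y (by rw [hc]; norm_num)
    rcases hrest with ⟨hno, -⟩ | ⟨⟨-, hall⟩, -⟩
    · exact hno y hyZ hUy
    · obtain ⟨-, haa⟩ := hall y hyZ hUy
      rw [hd1, one_mul] at haa
      have hy1 : y ≠ 1 := (not_mem_ZZ_iff heven Y y).mp hyZ
      have ho : orderOf (⟨y, self_mem_M y⟩ : ↥(M y)) = 2 := by
        apply orderOf_eq_prime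
        · apply Subtype.ext
          rw [pow_two]
          exact hyy
        · intro h
          exact hy1 (congrArg Subtype.val h)
      have := orderOf_dvd_natCard (⟨y, self_mem_M y⟩ : ↥(M y))
      rw [ho] at this
      have haa' : Nat.card (M y) = 3 := haa
      rw [haa'] at this
      omega
  · exfalso
    obtain ⟨hc, hno, -⟩ := h
    rw [hd1, one_mul] at hc
    obtain ⟨y, hyZ, hUy, -⟩ := exists_unip heven Y (by rw [hc]; norm_num)
    exact hno y hyZ hUy
  · exfalso
    obtain ⟨hc, hno, -⟩ := h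
    rw [hd1, one_mul] at hc
    obtain ⟨y, hyZ, hUy, -⟩ := exists_unip heven Y (by rw [hc]; norm_num)
    exact hno y hyZ hUy
  · right; right; right
    exact psl_case heven Y hY h

end

/-- Let F be a finite field of even order q ≥ 4 and let M be a maximal subgroup of PSL₂(F) (= SL₂(F) = PGL₂(F)). Then one of the following holds: |M| = q(q − 1) (the stabiliser of a point of the projective line, elementary abelian of order q extended by a cyclic group of order q − 1); M is dihedral of order 2(q − 1); M is dihedral of order 2(q + 1); or q = q₀^r for a prime r with q₀ ≠ 2 and M ≅ PSL₂(F₀) with |F₀| = q₀. -/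
theorem result {F : Type*} [Field F] [Fintype F]
    (heven : Even (Fintype.card F)) (h4 : 4 ≤ Fintype.card F) (M : Subgroup (Matrix.ProjectiveSpecialLinearGroup (Fin 2) F)) (hM : IsCoatom M) :
    Nat.card M = Fintype.card F * (Fintype.card F - 1) ∨
    Nonempty (M ≃* DihedralGroup (Fintype.card F - 1)) ∨
    Nonempty (M ≃* DihedralGroup (Fintype.card F + 1)) ∨
    (∃ (F₀ : Type) (_ : Field F₀) (_ : Fintype F₀) (r : ℕ), r.Prime ∧ Fintype.card F₀ ≠ 2 ∧
        Fintype.card F = Fintype.card F₀ ^ r ∧ Nonempty (M ≃* Matrix.ProjectiveSpecialLinearGroup (Fin 2) F₀)) := by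
  classical
  have h2 : (2 : F) = 0 := two_eq_zero_of_even heven
  obtain ⟨e⟩ := Cfsg.Agent.Lib.Helper21.sl_equiv_psl h2
  set Y := (MulEquiv.mapSubgroup e.symm) M with hYdef
  have hY : IsCoatom Y := (OrderIso.isCoatom_iff (MulEquiv.mapSubgroup e.symm) M).mpr hM
  have eM : ↥M ≃* ↥Y := e.symm.subgroupMap M
  have hcard : Nat.card M = Nat.card Y := Nat.card_congr eM.toEquiv
  rcases coatom_cases heven h4 Y hY with h | ⟨⟨f⟩⟩ | ⟨⟨f⟩⟩ | ⟨F₀, i1, i2, r, hr, h02, hq, ⟨f⟩⟩
  · left; rw [hcard]; exact h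
  · right; left; exact ⟨eM.trans f⟩
  · right; right; left; exact ⟨eM.trans f⟩
  · right; right; right
    exact ⟨F₀, i1, i2, r, hr, h02, hq, ⟨eM.trans f⟩⟩

end Cfsg.Agent.S5893
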