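import Cfsg.Statements.S3761
import Cfsg.Agent.Lib.Helper73.CyclicMax
-- import your own Cfsg.Agent.* helpers here

set_option autoImplicit false
open Cfsg

namespace Cfsg.Agent.S3761

open scoped commutatorElement

section general

variable {G : Type*} [Group G]

theorem k1 {a b w : G} (h : b * a = a * b * w) (hwb : Commute w b) (m : ℕ) :
    b ^ m * a = a * b ^ m * w ^ m := by
  induction m with
  | zero => simp
  | succ m ih =>
    calc b ^ (m + 1) * a = b ^ m * (b * a) := by rw [pow_succ, mul_assoc]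
      _ = b ^ m * (a * b * w) := by rw [h]
      _ = (b ^ m * a) * b * w := by simp only [mul_assoc]
      _ = a * b ^ m * w ^ m * b * w := by rw [ih]
      _ = a * b ^ m * (w ^ m * b) * w := by simp only [mul_assoc]
      _ = a * b ^ m * (b * w ^ m) * w := by rw [(hwb.pow_left m).eq]
      _ = a * (b ^ m * b) * (w ^ m * w) := by simp only [mul_assoc]
      _ = a * b ^ (m + 1) * w ^ (m + 1) := by rw [← pow_succ, ← pow_succ]

theorem k2 {a b w : G} (h : b * a = a * b * w) (hwa : Commute w a) (m : ℕ) :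
    b * a ^ m = a ^ m * b * w ^ m := by
  induction m with
  | zero => simp
  | succ m ih =>
    calc b * a ^ (m + 1) = (b * a ^ m) * a := by rw [pow_succ, mul_assoc]
      _ = a ^ m * b * w ^ m * a := by rw [ih]
      _ = a ^ m * b * (w ^ m * a) := by simp only [mul_assoc]
      _ = a ^ m * b * (a * w ^ m) := by rw [(hwa.pow_left m).eq]
      _ = a ^ m * (b * a) * w ^ m := by simp only [mul_assoc]
      _ = a ^ m * (a * b * w) * w ^ m := by rw [h]
      _ = (a ^ m * a) * b * (w * w ^ m) := by simp only [mul_assoc]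
      _ = a ^ (m + 1) * b * w ^ (m + 1) := by rw [← pow_succ, ← pow_succ']

theorem mul_pow_of_comm {a b w : G} (h : b * a = a * b * w) (hwa : Commute w a)
    (hwb : Commute w b) (m : ℕ) :
    (a * b) ^ m = a ^ m * b ^ m * w ^ (m.choose 2) := by
  induction m with
  | zero => simp
  | succ m ih =>
    have hch : (m + 1).choose 2 = m + m.choose 2 := by
      have := Nat.choose_succ_succ' m 1
      rw [Nat.choose_one_right] at this
      exact this
    calc (a * b) ^ (m + 1) = (a * b) ^ m * (a * b) := pow_succ _ _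
      _ = a ^ m * b ^ m * w ^ (m.choose 2) * (a * b) := by rw [ih]
      _ = a ^ m * b ^ m * (w ^ (m.choose 2) * a) * b := by simp only [mul_assoc]
      _ = a ^ m * b ^ m * (a * w ^ (m.choose 2)) * b := by rw [(hwa.pow_left _).eq]
      _ = a ^ m * (b ^ m * a) * (w ^ (m.choose 2) * b) := by simp only [mul_assoc]
      _ = a ^ m * (a * b ^ m * w ^ m) * (b * w ^ (m.choose 2)) := by
          rw [k1 h hwb m, (hwb.pow_left _).eq]
      _ = a ^ m * a * b ^ m * (w ^ m * b) * w ^ (m.choose 2) := by simp only [mul_assoc]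
      _ = a ^ m * a * b ^ m * (b * w ^ m) * w ^ (m.choose 2) := by rw [(hwb.pow_left m).eq]
      _ = (a ^ m * a) * (b ^ m * b) * (w ^ m * w ^ (m.choose 2)) := by simp only [mul_assoc]
      _ = a ^ (m + 1) * b ^ (m + 1) * w ^ ((m + 1).choose 2) := by
          rw [← pow_succ, ← pow_succ, ← pow_add, hch]

/-- `u ^ i * y ^ j = y ^ j * u ^ i * t ^ (j * i)` when `u * y = y * u * t` with `t` central. -/
theorem comm_pow_pow {u y t : G} (h : u * y = y * u * t) (htu : Commute t u) (hty : Commute t y)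
    (i j : ℕ) : u ^ i * y ^ j = y ^ j * u ^ i * t ^ (j * i) := by
  have h1 : u * y ^ j = y ^ j * u * t ^ j := k2 h hty j
  have h2 := k1 h1 (htu.pow_left j) i
  rw [h2, ← pow_mul]

theorem pow_mul_pow_pow {u y t : G} (h : u * y = y * u * t) (htu : Commute t u)
    (hty : Commute t y) (i j m : ℕ) :
    (y ^ j * u ^ i) ^ m = y ^ (j * m) * u ^ (i * m) * t ^ (j * i * m.choose 2) := by
  have h1 := comm_pow_pow h htu hty i j
  have h2 := mul_pow_of_comm h1 ((hty.pow_right j).pow_left _) ((htu.pow_right i).pow_left _) m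
  rw [h2, ← pow_mul, ← pow_mul, ← pow_mul]

theorem conj_pow_of_conj {g u : G} {k : ℕ} (h : g * u * g⁻¹ = u ^ k) (m : ℕ) :
    g ^ m * u * (g ^ m)⁻¹ = u ^ (k ^ m) := by
  induction m with
  | zero => simp
  | succ m ih =>
    calc g ^ (m + 1) * u * (g ^ (m + 1))⁻¹ = g * (g ^ m * u * (g ^ m)⁻¹) * g⁻¹ := by
          rw [pow_succ']; group
      _ = g * u ^ (k ^ m) * g⁻¹ := by rw [ih]
      _ = (g * u * g⁻¹) ^ (k ^ m) := conj_pow.symm
      _ = u ^ (k ^ (m + 1)) := by rw [h, ← pow_mul, pow_succ']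

theorem conj_mul_of_conj {g g' u : G} {k k' : ℕ} (h : g * u * g⁻¹ = u ^ k)
    (h' : g' * u * g'⁻¹ = u ^ k') : (g * g') * u * (g * g')⁻¹ = u ^ (k * k') := by
  calc (g * g') * u * (g * g')⁻¹ = g * (g' * u * g'⁻¹) * g⁻¹ := by group
    _ = g * u ^ k' * g⁻¹ := by rw [h']
    _ = (g * u * g⁻¹) ^ k' := conj_pow.symm
    _ = u ^ (k * k') := by rw [h, ← pow_mul]

theorem descent [Finite G] {p : ℕ} (hG : IsPGroup p G) (U : Subgroup G) {g : G} (hg : g ∉ U) :
    ∃ s : ℕ, g ^ (p ^ s) ∉ U ∧ g ^ (p ^ (s + 1)) ∈ U := by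
  classical
  obtain ⟨m, hm⟩ := hG g
  have hex : ∃ s : ℕ, g ^ (p ^ s) ∈ U := ⟨m, hm ▸ U.one_mem⟩
  have h0 : Nat.find hex ≠ 0 := by
    intro h0
    have := Nat.find_spec hex
    rw [h0, pow_zero, pow_one] at this
    exact hg this
  refine ⟨Nat.find hex - 1, ?_, ?_⟩
  · exact Nat.find_min hex (by omega)
  · have := Nat.find_spec hex
    have e : Nat.find hex - 1 + 1 = Nat.find hex := by omega
    rw [e]; exact this

end general

section numbertheory

theorem n2 (k n : ℕ) (hk : k % 4 = 1) (h : k ^ 2 ≡ 1 [MOD 2 ^ n]) (hn : 1 ≤ n) :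
    k ≡ 1 [MOD 2 ^ (n - 1)] := by
  obtain ⟨m, rfl⟩ : ∃ m, k = 4 * m + 1 := ⟨k / 4, by omega⟩
  have h1 : (1 : ℕ) ≤ (4 * m + 1) ^ 2 := Nat.one_le_pow _ _ (by omega)
  have hd : 2 ^ n ∣ (4 * m + 1) ^ 2 - 1 := (Nat.modEq_iff_dvd' h1).1 h.symm
  have e : (4 * m + 1) ^ 2 - 1 = (8 * m) * (2 * m + 1) := by
    have : (4 * m + 1) ^ 2 = (8 * m) * (2 * m + 1) + 1 := by ring
    omega
  rw [e] at hd
  have hc : Nat.Coprime (2 ^ n) (2 * m + 1) :=
    Nat.Coprime.pow_left n ((Nat.Prime.coprime_iff_not_dvd Nat.prime_two).2 (by omega))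
  have hd2 : 2 ^ n ∣ 8 * m := hc.dvd_of_dvd_mul_right hd
  obtain ⟨n', rfl⟩ : ∃ n', n = n' + 1 := ⟨n - 1, by omega⟩
  have hd3 : 2 ^ n' ∣ 4 * m := by
    have : 2 ^ n' * 2 ∣ (4 * m) * 2 := by
      rw [← pow_succ]; convert hd2 using 1; ring
    exact Nat.dvd_of_mul_dvd_mul_right (by norm_num) this
  rw [Nat.add_sub_cancel]
  have h2 : (1 : ℕ) ≤ 4 * m + 1 := by omega
  exact ((Nat.modEq_iff_dvd' h2).2 (by simpa using hd3)).symm

theorem n1 (p : ℕ) [hp : Fact p.Prime] (hp2 : p ≠ 2) (k n : ℕ) (h : k ^ p ≡ 1 [MOD p ^ n])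
    (hn : 1 ≤ n) : k ≡ 1 [MOD p ^ (n - 1)] := by
  have hodd : Odd p := hp.out.eq_two_or_odd'.resolve_left hp2
  have hp1 : 1 < p := hp.out.one_lt
  -- k ≡ 1 mod p
  have hmodp : k ^ p ≡ 1 [MOD p] := h.of_dvd (dvd_pow_self p (by omega))
  have hk1' : (k : ZMod p) = 1 := by
    have := (ZMod.natCast_eq_natCast_iff _ _ _).2 hmodp
    push_cast at this
    rwa [ZMod.pow_card] at this
  have hkmod : k ≡ 1 [MOD p] := (ZMod.natCast_eq_natCast_iff _ _ _).1 (by push_cast; exact hk1')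
  have hk0 : k ≠ 0 := by
    rintro rfl
    have : (0 : ℕ) % p = 1 % p := hkmod
    rw [Nat.zero_mod, Nat.mod_eq_of_lt hp1] at this
    omega
  rcases Nat.lt_or_ge 1 k with hk | hk
  · have hk1 : 1 ≤ k := by omega
    have hpk : p ∣ k - 1 := (Nat.modEq_iff_dvd' hk1).1 hkmod.symm
    have hnpk : ¬ p ∣ k := by
      intro hd
      have : p ∣ k - (k - 1) := Nat.dvd_sub hd hpk
      have e : k - (k - 1) = 1 := by omega
      rw [e] at this
      exact hp.out.one_lt.ne' (Nat.dvd_one.1 this)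
    have hlte := padicValNat.pow_sub_pow hodd hk hpk hnpk (n := p) hp.out.ne_zero
    rw [one_pow, padicValNat_self] at hlte
    have hkp1 : 1 ≤ k ^ p := Nat.one_le_pow _ _ (by omega)
    have hd : p ^ n ∣ k ^ p - 1 := (Nat.modEq_iff_dvd' hkp1).1 h.symm
    have hne : k ^ p - 1 ≠ 0 := by
      have : 1 < k ^ p := Nat.one_lt_pow hp.out.ne_zero hk
      omega
    have hle : n ≤ padicValNat p (k ^ p - 1) := (padicValNat_dvd_iff_le hne).1 hd
    have hle2 : n - 1 ≤ padicValNat p (k - 1) := by omega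
    have hd2 : p ^ (n - 1) ∣ k - 1 := (padicValNat_dvd_iff_le (by omega)).2 hle2
    exact ((Nat.modEq_iff_dvd' hk1).2 hd2).symm
  · have : k = 1 := by omega
    rw [this]


theorem fermat1 (p : ℕ) [hp : Fact p.Prime] (k : ℕ) (h : k ^ p ≡ 1 [MOD p]) : k ≡ 1 [MOD p] := by
  have hk1' : (k : ZMod p) = 1 := by
    have := (ZMod.natCast_eq_natCast_iff _ _ _).2 h
    push_cast at this
    rwa [ZMod.pow_card] at this
  exact (ZMod.natCast_eq_natCast_iff _ _ _).1 (by push_cast; exact hk1')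

end numbertheory


section caseI

variable {G : Type*} [Group G] [Finite G]

theorem caseI (hG : IsPGroup 2 G) (U : Subgroup G) [U.Normal]
    (u : G) (n : ℕ) (hn : 2 ≤ n) (hu : orderOf u = 2 ^ n)
    (hUn : Nat.card U = 2 ^ n)
    (hK : ∀ (g : G) (k : ℕ), g * u * g⁻¹ = u ^ k → k % 4 = 1 → g ∈ U)
    (hconj : ∀ g : G, ∃ k : ℕ, g * u * g⁻¹ = u ^ k)
    (a : G) (ha : a ∉ U) :
    Nat.card G = 2 ^ (n + 1) ∧ ((∃ m : ℕ, Nonempty (G ≃* DihedralGroup m)) ∨
      (∃ m : ℕ, Nonempty (G ≃* QuaternionGroup m)) ∨ Cfsg.IsQuasiDihedral G) := by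
  have : Fact (Nat.Prime 2) := ⟨Nat.prime_two⟩
  obtain ⟨n', rfl⟩ : ∃ n', n = n' + 2 := ⟨n - 2, by omega⟩
  have hpow1 : ∀ i : ℕ, u ^ i = 1 ↔ 2 ^ (n' + 2) ∣ i := by
    intro i; rw [← hu]; exact orderOf_dvd_iff_pow_eq_one.symm
  have hodd : ∀ (g : G) (k : ℕ), g * u * g⁻¹ = u ^ k → k % 2 = 1 := by
    intro g k hk
    by_contra hne
    obtain ⟨k', rfl⟩ : ∃ k', k = 2 * k' := ⟨k / 2, by omega⟩
    have h1 : (g * u * g⁻¹) ^ (2 ^ (n' + 1)) = 1 := by
      rw [hk, ← pow_mul, hpow1]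
      exact ⟨k', by ring⟩
    rw [conj_pow] at h1
    have h2 : u ^ (2 ^ (n' + 1)) = 1 := by
      have := congrArg (fun x => g⁻¹ * x * g) h1
      simpa [mul_assoc] using this
    rw [hpow1] at h2
    have h3 := Nat.le_of_dvd (by positivity) h2
    have h4 : 2 ^ (n' + 1) < 2 ^ (n' + 2) := Nat.pow_lt_pow_right (by norm_num) (by omega)
    omega
  have h3 : ∀ (g : G) (k : ℕ), g ∉ U → g * u * g⁻¹ = u ^ k → k % 4 = 3 := by
    intro g k hg hk
    have h1 := hodd g k hk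
    have h2 : k % 4 ≠ 1 := fun h => hg (hK g k hk h)
    omega
  obtain ⟨ka, hka⟩ := hconj a
  have hka3 := h3 a ka ha hka
  have hidx : U.index = 2 := by
    rw [Subgroup.index_eq_two_iff]
    refine ⟨a, fun b => ?_⟩
    by_cases hb : b ∈ U
    · right
      refine ⟨hb, fun hba => ha ?_⟩
      have := U.mul_mem (U.inv_mem hb) hba
      simpa using this
    · left
      refine ⟨?_, hb⟩
      obtain ⟨kb, hkb⟩ := hconj b
      have hkb3 := h3 b kb hb hkb
      refine hK (b * a) (kb * ka) (conj_mul_of_conj hkb hka) ?_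
      rw [Nat.mul_mod, hkb3, hka3]
  have hcard : Nat.card G = 2 ^ (n' + 2 + 1) := by
    rw [← U.card_mul_index, hUn, hidx]; ring
  have hNn : (Subgroup.zpowers (u ^ 2)).Normal := by
    refine ⟨fun x hx g => ?_⟩
    obtain ⟨i, rfl⟩ := Subgroup.mem_zpowers_iff.1 hx
    obtain ⟨k, hk⟩ := hconj g
    rw [← conj_zpow, ← conj_pow, hk, ← pow_mul, mul_comm, pow_mul]
    exact Subgroup.zpow_mem _ (Subgroup.npow_mem_zpowers _ _) _
  have hoN : orderOf (u ^ 2) = 2 ^ (n' + 1) := by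
    rw [orderOf_pow_of_dvd (by norm_num) (by rw [hu]; exact dvd_pow_self 2 (by omega)), hu,
      pow_succ 2 (n' + 1)]
    simp
  have hNcard : Nat.card (Subgroup.zpowers (u ^ 2)) = 2 ^ (n' + 1) := by
    rw [Nat.card_zpowers, hoN]
  have hNidx : (Subgroup.zpowers (u ^ 2)).index = 4 := by
    have := (Subgroup.zpowers (u ^ 2)).card_mul_index
    rw [hNcard, hcard] at this
    have e : 2 ^ (n' + 2 + 1) = 2 ^ (n' + 1) * 4 := by ring
    rw [e] at this
    exact Nat.eq_of_mul_eq_mul_left (by positivity) this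
  have hqcard : Nat.card (G ⧸ Subgroup.zpowers (u ^ 2)) = 2 ^ 2 := by
    rw [← Subgroup.index_eq_card, hNidx]; norm_num
  have hqcomm := IsPGroup.commutative_of_card_eq_prime_sq hqcard
  have hle : commutator G ≤ Subgroup.zpowers (u ^ 2) := by
    rw [commutator_eq_closure, Subgroup.closure_le]
    rintro _ ⟨g₁, g₂, rfl⟩
    have h1 : (QuotientGroup.mk' (Subgroup.zpowers (u ^ 2))) ⁅g₁, g₂⁆ = 1 := by
      rw [map_commutatorElement, commutatorElement_def,
        hqcomm (QuotientGroup.mk' (Subgroup.zpowers (u ^ 2)) g₁)]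
      group
    exact (QuotientGroup.eq_one_iff _).1 h1
  have hge : Subgroup.zpowers (u ^ 2) ≤ commutator G := by
    rw [Subgroup.zpowers_le]
    obtain ⟨m, hm, hm2⟩ : ∃ m, ka = 2 * m + 1 ∧ m % 2 = 1 := ⟨ka / 2, by omega, by omega⟩
    have hcm : ⁅a, u⁆ = (u ^ 2) ^ m := by
      rw [commutatorElement_def, hka, hm, ← pow_mul, pow_succ, mul_inv_cancel_right]
    have hmem : (u ^ 2) ^ m ∈ commutator G := by
      rw [← hcm, commutator_def]
      exact Subgroup.commutator_mem_commutator (Subgroup.mem_top a) (Subgroup.mem_top u)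
    have hcop : Nat.Coprime m (orderOf (u ^ 2)) := by
      rw [hoN]
      exact (((Nat.Prime.coprime_iff_not_dvd Nat.prime_two).2 (by omega)).symm).pow_right _
    obtain ⟨m', hm'⟩ := exists_pow_eq_self_of_coprime hcop
    rw [← hm']
    exact Subgroup.pow_mem _ hmem _
  have hceq : commutator G = Subgroup.zpowers (u ^ 2) := le_antisymm hle hge
  have hcidx : (commutator G).index = 4 := by rw [hceq, hNidx]
  have hcne : commutator G ≠ ⊥ := by
    rw [hceq]
    intro hbot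
    rw [hbot, Subgroup.card_bot] at hNcard
    have : 2 ^ 1 ≤ 2 ^ (n' + 1) := Nat.pow_le_pow_right (by norm_num) (by omega)
    omega
  refine ⟨hcard, ?_⟩
  rcases Cfsg.Agent.Lib.Helper73.taussky hG hcidx hcne with
    ⟨k, hk⟩ | ⟨k, hk1, x, y, hx, hy, hxy⟩ | ⟨k, hk⟩
  · exact Or.inl ⟨_, hk⟩
  · right; right
    refine ⟨k + 3, by omega, by rw [hk1], x, y, hx, hy, ?_⟩
    have e : k + 3 - 1 = k + 2 := by omega
    rw [e]; exact hxy
  · exact Or.inr (Or.inl ⟨_, hk⟩)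

end caseI

section caseII

variable {G : Type*} [Group G] [Finite G] {p : ℕ} [hp : Fact p.Prime]

theorem caseII (hG : IsPGroup p G) (U : Subgroup G) [hUnorm : U.Normal] (u : G) (n : ℕ)
    (hn : 2 ≤ n) (hn3 : p = 2 → 3 ≤ n) (hu : orderOf u = p ^ n) (huU : u ∈ U)
    (hgen : ∀ x ∈ U, ∃ i : ℕ, x = u ^ i) (hCu : ∀ g : G, g * u = u * g → g ∈ U)
    (hconj : ∀ g : G, ∃ k : ℕ, g * u * g⁻¹ = u ^ k)
    (M : Subgroup G) (hM : ∀ g, g ∈ M ↔ g * u ^ p = u ^ p * g)
    (y : G) (hyM : y ∈ M) (hyU : y ∉ U) :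
    U.relIndex M = p ∧ IsElementaryAbelian p (omegaOne p M) ∧
      Nat.card ↥(omegaOne p M) = p ^ 2 ∧ (omegaOne p M).Characteristic := by
  classical
  have hp0 : 0 < p := hp.out.pos
  obtain ⟨n', rfl⟩ : ∃ n', n = n' + 2 := ⟨n - 2, by omega⟩
  have hpow1 : ∀ i : ℕ, u ^ i = 1 ↔ p ^ (n' + 2) ∣ i := by
    intro i; rw [← hu]; exact orderOf_dvd_iff_pow_eq_one.symm
  have hUcomm : ∀ x ∈ U, ∀ x' ∈ U, x * x' = x' * x := by
    intro x hx x' hx'
    obtain ⟨i, rfl⟩ := hgen x hx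
    obtain ⟨j, rfl⟩ := hgen x' hx'
    rw [← pow_add, ← pow_add, add_comm]
  have hUM : U ≤ M := by
    intro x hx
    rw [hM]
    exact hUcomm x hx _ (U.pow_mem huU p)
  have hZ : ∀ x ∈ U, x ^ p = 1 →
      (∃ i : ℕ, x = (u ^ (p ^ (n' + 1))) ^ i) ∧ ∀ g ∈ M, g * x = x * g := by
    intro x hx hxp
    obtain ⟨i, rfl⟩ := hgen x hx
    rw [← pow_mul, hpow1] at hxp
    have h1 : p ^ (n' + 1) ∣ i := by
      have : p ^ (n' + 1) * p ∣ i * p := by rw [← pow_succ]; exact hxp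
      exact Nat.dvd_of_mul_dvd_mul_right hp0 this
    obtain ⟨i', rfl⟩ := h1
    refine ⟨⟨i', by rw [← pow_mul]⟩, fun g hg => ?_⟩
    have h2 : u ^ (p ^ (n' + 1) * i') = (u ^ p) ^ (p ^ n' * i') := by
      rw [← pow_mul]; congr 1; ring
    rw [h2]
    exact ((show Commute g (u ^ p) from (hM g).1 hg).pow_right _).eq
  have hcU : ∀ x : G, u⁻¹ * x⁻¹ * u * x ∈ U := by
    intro x
    have h1 : x⁻¹ * u * x ∈ U := by
      have := hUnorm.conj_mem u huU x⁻¹
      simpa using this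
    have : u⁻¹ * x⁻¹ * u * x = u⁻¹ * (x⁻¹ * u * x) := by group
    rw [this]
    exact U.mul_mem (U.inv_mem huU) h1
  have hcp : ∀ x ∈ M, (u⁻¹ * x⁻¹ * u * x) ^ p = 1 := by
    intro x hx
    have hc := hcU x
    have h1 : u * (u⁻¹ * x⁻¹ * u * x) = x⁻¹ * u * x⁻¹⁻¹ := by group
    have h2 : (u * (u⁻¹ * x⁻¹ * u * x)) ^ p = u ^ p := by
      rw [h1, conj_pow]
      have := (hM x).1 hx
      rw [inv_inv, mul_assoc, ← this]; group
    have hcomm : Commute u (u⁻¹ * x⁻¹ * u * x) := hUcomm _ huU _ hc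
    rw [hcomm.mul_pow] at h2
    exact mul_left_cancel (a := u ^ p) (by rw [h2, mul_one])
  have hψmul : ∀ x ∈ M, ∀ x' ∈ M, u⁻¹ * (x * x')⁻¹ * u * (x * x')
      = (u⁻¹ * x⁻¹ * u * x) * (u⁻¹ * x'⁻¹ * u * x') := by
    intro x hx x' hx'
    have hc := hcU x
    have hc' := hcU x'
    have hcx' : x' * (u⁻¹ * x⁻¹ * u * x) = (u⁻¹ * x⁻¹ * u * x) * x' :=
      (hZ _ hc (hcp x hx)).2 x' hx'
    calc u⁻¹ * (x * x')⁻¹ * u * (x * x')
        = (u⁻¹ * x'⁻¹ * u * x') * (x'⁻¹ * ((u⁻¹ * x⁻¹ * u * x) * x')) := by group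
      _ = (u⁻¹ * x'⁻¹ * u * x') * (x'⁻¹ * (x' * (u⁻¹ * x⁻¹ * u * x))) := by rw [← hcx']
      _ = (u⁻¹ * x'⁻¹ * u * x') * (u⁻¹ * x⁻¹ * u * x) := by rw [inv_mul_cancel_left]
      _ = (u⁻¹ * x⁻¹ * u * x) * (u⁻¹ * x'⁻¹ * u * x') := hUcomm _ hc' _ hc
  let ψ : ↥M →* G := MonoidHom.mk' (fun x => u⁻¹ * (x : G)⁻¹ * u * x) (fun x x' => by
    show u⁻¹ * ((x * x' : ↥M) : G)⁻¹ * u * ((x * x' : ↥M) : G) = _
    rw [Subgroup.coe_mul]
    exact hψmul x x.2 x' x'.2)
  have hψ : ∀ x : ↥M, ψ x = u⁻¹ * (x : G)⁻¹ * u * x := fun x => rfl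
  have hker : ∀ x : ↥M, ψ x = 1 ↔ (x : G) ∈ U := by
    intro x
    rw [hψ]
    constructor
    · intro h
      apply hCu
      have : u * x = x * u * (u⁻¹ * (x : G)⁻¹ * u * x) := by group
      rw [h, mul_one] at this
      exact this.symm
    · intro h
      have := hUcomm _ h _ huU
      rw [mul_assoc, ← this]; group
  have hz : orderOf (u ^ (p ^ (n' + 1))) = p := by
    rw [orderOf_pow_of_dvd (pow_ne_zero _ hp.out.ne_zero)
      (by rw [hu]; exact pow_dvd_pow p (by omega)), hu, pow_succ p (n' + 1),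
      Nat.mul_div_cancel_left _ (pow_pos hp0 _)]
  have hzp : (u ^ (p ^ (n' + 1))) ^ p = 1 := by
    rw [← pow_mul, hpow1]; exact ⟨1, by ring⟩
  have hzU : u ^ (p ^ (n' + 1)) ∈ U := U.pow_mem huU _
  generalize hzdef : u ^ (p ^ (n' + 1)) = z at hZ hz hzp hzU
  have hrange : ψ.range ≤ Subgroup.zpowers z := by
    rintro _ ⟨x, rfl⟩
    obtain ⟨i, hi⟩ := (hZ _ (hcU x) (hcp x x.2)).1
    rw [hψ, hi]
    exact Subgroup.npow_mem_zpowers _ _
  have hrel : U.relIndex M = p := by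
    have h1 : ψ.ker = U.subgroupOf M := by
      ext x
      rw [MonoidHom.mem_ker, Subgroup.mem_subgroupOf]
      exact hker x
    have h2 : U.relIndex M = Nat.card ψ.range := by
      rw [← Subgroup.index_ker, h1]; rfl
    have h3 : Nat.card ψ.range ∣ p := by
      have := Subgroup.card_dvd_of_le hrange
      rwa [Nat.card_zpowers, hz] at this
    rw [← h2] at h3
    rcases (Nat.dvd_prime hp.out).1 h3 with h | h
    · exact absurd ((Subgroup.relIndex_eq_one.1 h) hyM) hyU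
    · exact h
  have hfacts : ∀ y₁ ∈ M, ∃ t₁ : G, t₁ = u⁻¹ * y₁⁻¹ * u * y₁ ∧ t₁ ∈ U ∧ t₁ ^ p = 1 ∧
      u * y₁ = y₁ * u * t₁ ∧ Commute t₁ u ∧ Commute t₁ y₁ ∧ (y₁ ∉ U → t₁ ≠ 1) := by
    intro y₁ hy₁
    refine ⟨_, rfl, hcU y₁, hcp y₁ hy₁, by group, hUcomm _ (hcU y₁) _ huU,
      ((hZ _ (hcU y₁) (hcp y₁ hy₁)).2 y₁ hy₁).symm, fun hnU h1 => hnU ?_⟩
    exact (hker ⟨y₁, hy₁⟩).1 ((hψ _).trans h1)
  obtain ⟨t, ht, htU, htp, hty, hcu, hcy, ht1'⟩ := hfacts y hyM
  have ht1 : t ≠ 1 := ht1' hyU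
  have hto : orderOf t = p := orderOf_eq_prime htp ht1
  have hypU : y ^ p ∈ U := by
    have h1 : ψ (⟨y, hyM⟩ ^ p) = 1 := by
      rw [map_pow, hψ]; exact ht ▸ htp
    have := (hker _).1 h1
    simpa using this
  obtain ⟨a, ha⟩ := hgen _ hypU
  have hpa : p ∣ a := by
    have h1 := comm_pow_pow hty hcu hcy a 1
    rw [pow_one, one_mul, ← ha] at h1
    have h2 : y ^ p * y = y * y ^ p := by rw [← pow_succ, ← pow_succ']
    rw [h2] at h1
    have h3 : t ^ a = 1 := by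
      have := mul_left_cancel (a := y * y ^ p) (b := 1) (c := t ^ a) (by rw [mul_one]; exact h1)
      exact this.symm
    rw [← hto]; exact orderOf_dvd_of_pow_eq_one h3
  obtain ⟨b, rfl⟩ := hpa
  obtain ⟨c, hc⟩ : ∃ c : ℕ, (y * u ^ c) ^ p = 1 := by
    by_cases hp2 : p = 2
    · subst hp2
      have h3 := hn3 rfl
      obtain ⟨n'', rfl⟩ : ∃ n'', n' = n'' + 1 := ⟨n' - 1, by omega⟩
      have htz : t = z := by
        obtain ⟨i, hi⟩ := (hZ t htU htp).1
        rcases Nat.even_or_odd' i with ⟨i', rfl | rfl⟩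
        · exfalso; apply ht1
          rw [hi, pow_mul, hzp, one_pow]
        · rw [hi, pow_succ, pow_mul, hzp, one_pow, one_mul]
      obtain ⟨r, hr⟩ : ∃ r, r + 1 = 2 ^ (n'' + 1) :=
        ⟨2 ^ (n'' + 1) - 1, Nat.sub_add_cancel Nat.one_le_two_pow⟩
      refine ⟨b * r, ?_⟩
      have h1 := pow_mul_pow_pow hty hcu hcy (b * r) 1 2
      rw [pow_one, one_mul, one_mul, Nat.choose_self, mul_one, ha, htz, ← hzdef, ← pow_mul,
        ← pow_add, ← pow_add] at h1
      rw [h1, hpow1]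
      refine ⟨b * 2 ^ n'', ?_⟩
      have e1 : 2 ^ (n'' + 1 + 1) = 2 * (r + 1) := by rw [hr]; ring
      have e2 : 2 ^ (n'' + 1 + 2) * 2 ^ n'' = 2 * ((r + 1) * (r + 1)) := by rw [hr]; ring
      calc 2 * b + b * r * 2 + 2 ^ (n'' + 1 + 1) * (b * r)
          = 2 * b + b * r * 2 + 2 * (r + 1) * (b * r) := by rw [e1]
        _ = b * (2 * ((r + 1) * (r + 1))) := by ring
        _ = b * (2 ^ (n'' + 1 + 2) * 2 ^ n'') := by rw [e2]
        _ = 2 ^ (n'' + 1 + 2) * (b * 2 ^ n'') := by ring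
    · have hp3 : 2 < p := by have := hp.out.two_le; omega
      have hdvd : p ∣ p.choose 2 := hp.out.dvd_choose_self (by norm_num) hp3
      obtain ⟨r, hr⟩ : ∃ r, r + 1 = p ^ (n' + 2) :=
        ⟨p ^ (n' + 2) - 1, Nat.sub_add_cancel (Nat.one_le_pow _ _ hp0)⟩
      refine ⟨b * r, ?_⟩
      have h1 := pow_mul_pow_pow hty hcu hcy (b * r) 1 p
      have h2 : t ^ (1 * (b * r) * p.choose 2) = 1 := by
        obtain ⟨e, he⟩ : p ∣ 1 * (b * r) * p.choose 2 := Dvd.dvd.mul_left hdvd _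
        rw [he, pow_mul, htp, one_pow]
      rw [pow_one, h2, mul_one, one_mul, ha, ← pow_add] at h1
      rw [h1, hpow1]
      refine ⟨p * b, ?_⟩
      rw [← hr]; ring
  -- the new element of order p
  have hy'M : y * u ^ c ∈ M := M.mul_mem hyM (hUM (U.pow_mem huU c))
  have hy'U : y * u ^ c ∉ U := by
    intro h
    apply hyU
    have := U.mul_mem h (U.inv_mem (U.pow_mem huU c))
    simpa using this
  generalize hy'def : y * u ^ c = y' at hc hy'M hy'U
  obtain ⟨t', ht', ht'U, ht'p, hty', hcu', hcy', ht'1'⟩ := hfacts y' hy'M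
  have ht'1 : t' ≠ 1 := ht'1' hy'U
  have hgenZ : ∀ t₁ ∈ U, t₁ ^ p = 1 → t₁ ≠ 1 → ∀ s ∈ U, s ^ p = 1 → ∃ j : ℕ, s = t₁ ^ j := by
    intro t₁ ht₁U ht₁p ht₁1 s hsU hsp
    obtain ⟨i₀, hi₀⟩ := (hZ t₁ ht₁U ht₁p).1
    obtain ⟨i, hi⟩ := (hZ s hsU hsp).1
    have hcop : Nat.Coprime i₀ (orderOf z) := by
      rw [hz, Nat.coprime_comm, Nat.Prime.coprime_iff_not_dvd hp.out]
      intro hd
      obtain ⟨q, rfl⟩ := hd
      apply ht₁1
      rw [hi₀, pow_mul, hzp, one_pow]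
    obtain ⟨m, hm⟩ := exists_pow_eq_self_of_coprime hcop
    refine ⟨m * i, ?_⟩
    rw [hi, hi₀, pow_mul, hm]
  have hNF : ∀ y₁ ∈ M, y₁ ∉ U → ∀ x ∈ M, ∃ j i : ℕ, x = y₁ ^ j * u ^ i := by
    intro y₁ hy₁M hy₁U x hx
    obtain ⟨t₁, ht₁, ht₁U, ht₁p, -, -, -, ht₁1⟩ := hfacts y₁ hy₁M
    obtain ⟨j, hj⟩ := hgenZ t₁ ht₁U ht₁p (ht₁1 hy₁U) _ (hcU x) (hcp x hx)
    have e1 : ψ ⟨y₁, hy₁M⟩ = t₁ := (hψ _).trans ht₁.symm
    have e2 : ψ ⟨x, hx⟩ = t₁ ^ j := (hψ _).trans hj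
    have h1 : ψ ((⟨y₁, hy₁M⟩ ^ j)⁻¹ * ⟨x, hx⟩) = 1 := by
      rw [map_mul, map_inv, map_pow, e1, e2, inv_mul_cancel]
    have h2 := (hker _).1 h1
    simp only [Subgroup.coe_mul, Subgroup.coe_inv, Subgroup.coe_pow] at h2
    obtain ⟨i, hi⟩ := hgen _ h2
    exact ⟨j, i, eq_mul_of_inv_mul_eq hi⟩
  have hE0 : ∀ x ∈ M, x ^ p = 1 → ∃ j : ℕ, ∃ s ∈ U, s ^ p = 1 ∧ x = y' ^ j * s := by
    intro x hx hxp
    obtain ⟨j, i, rfl⟩ := hNF y' hy'M hy'U x hx
    refine ⟨j, u ^ i, U.pow_mem huU i, ?_, rfl⟩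
    have h1 := pow_mul_pow_pow hty' hcu' hcy' i j p
    have e0 : y' ^ (j * p) = 1 := by rw [pow_mul', hc, one_pow]
    rw [hxp, e0, one_mul] at h1
    by_cases hp2 : p = 2
    · subst hp2
      have h3 := hn3 rfl
      obtain ⟨n'', rfl⟩ : ∃ n'', n' = n'' + 1 := ⟨n' - 1, by omega⟩
      rw [Nat.choose_self, mul_one] at h1
      have hsq : (u ^ (i * 2) * t' ^ (j * i)) ^ 2 = 1 := by rw [← h1, one_pow]
      rw [(hcu'.symm.pow_pow _ _).mul_pow] at hsq
      have e1 : (t' ^ (j * i)) ^ 2 = 1 := by rw [← pow_mul, mul_comm, pow_mul, ht'p, one_pow]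
      rw [e1, mul_one, ← pow_mul, hpow1] at hsq
      have h4 : 2 ^ (n'' + 1) * 4 ∣ i * 4 := by
        convert hsq using 1 <;> ring
      have h5 : 2 ^ (n'' + 1) ∣ i := Nat.dvd_of_mul_dvd_mul_right (by norm_num) h4
      obtain ⟨i', rfl⟩ : 2 ∣ i := dvd_trans (dvd_pow_self 2 (by omega)) h5
      have e2 : t' ^ (j * (2 * i')) = 1 := by rw [mul_left_comm, pow_mul, ht'p, one_pow]
      rw [e2, mul_one] at h1
      rw [← pow_mul]; exact h1.symm
    · have hp3 : 2 < p := by have := hp.out.two_le; omega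
      have hdvd : p ∣ p.choose 2 := hp.out.dvd_choose_self (by norm_num) hp3
      have h2 : t' ^ (j * i * p.choose 2) = 1 := by
        obtain ⟨e, he⟩ : p ∣ j * i * p.choose 2 := Dvd.dvd.mul_left hdvd _
        rw [he, pow_mul, ht'p, one_pow]
      rw [h2, mul_one] at h1
      rw [← pow_mul]; exact h1.symm
  have hsc : ∀ s ∈ U, s ^ p = 1 → ∀ g ∈ M, Commute s g :=
    fun s hs hsp g hg => ((hZ s hs hsp).2 g hg).symm
  have hEcomm : ∀ x₁ ∈ M, x₁ ^ p = 1 → ∀ x₂ ∈ M, x₂ ^ p = 1 → Commute x₁ x₂ := by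
    intro x₁ h1 h1p x₂ h2 h2p
    obtain ⟨j₁, s₁, hs₁, hs₁p, rfl⟩ := hE0 x₁ h1 h1p
    obtain ⟨j₂, s₂, hs₂, hs₂p, rfl⟩ := hE0 x₂ h2 h2p
    have c1 : Commute s₁ y' := hsc s₁ hs₁ hs₁p y' hy'M
    have c2 : Commute s₂ y' := hsc s₂ hs₂ hs₂p y' hy'M
    have c3 : Commute s₁ s₂ := hUcomm _ hs₁ _ hs₂
    have c4 : Commute (y' ^ j₁) (y' ^ j₂) := Commute.pow_pow_self y' j₁ j₂
    exact Commute.mul_left (Commute.mul_right c4 (c2.pow_right j₁).symm)
      (Commute.mul_right (c1.pow_right j₂) c3)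
  have hEcl : omegaOne p M = Subgroup.closure {x : G | x ∈ M ∧ x ^ p = 1} := rfl
  have hEmem : ∀ x ∈ omegaOne p M, x ∈ M ∧ x ^ p = 1 := by
    intro x hx
    rw [hEcl] at hx
    induction hx using Subgroup.closure_induction with
    | mem x hx => exact hx
    | one => exact ⟨M.one_mem, one_pow _⟩
    | mul x₁ x₂ _ _ ih₁ ih₂ =>
      refine ⟨M.mul_mem ih₁.1 ih₂.1, ?_⟩
      rw [(hEcomm x₁ ih₁.1 ih₁.2 x₂ ih₂.1 ih₂.2).mul_pow, ih₁.2, ih₂.2, one_mul]
    | inv x _ ih => exact ⟨M.inv_mem ih.1, by rw [inv_pow, ih.2, inv_one]⟩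
  have hEsub : ∀ x ∈ M, x ^ p = 1 → x ∈ omegaOne p M :=
    fun x hx hxp => Subgroup.subset_closure ⟨hx, hxp⟩
  have hEA : IsElementaryAbelian p (omegaOne p M) := by
    refine ⟨⟨⟨fun a b => ?_⟩⟩, fun a ha => (hEmem a ha).2⟩
    have := hEcomm a.1 (hEmem _ a.2).1 (hEmem _ a.2).2 b.1 (hEmem _ b.2).1 (hEmem _ b.2).2
    exact Subtype.ext this
  have hcardE : Nat.card ↥(omegaOne p M) = p ^ 2 := by
    have hEM : omegaOne p M ≤ M := fun x hx => (hEmem x hx).1
    have hle1 : U ⊓ omegaOne p M ≤ Subgroup.zpowers z := by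
      intro x hx
      obtain ⟨i, hi⟩ := (hZ x hx.1 (hEmem x hx.2).2).1
      rw [hi]; exact Subgroup.npow_mem_zpowers _ _
    have hc1 : Nat.card ↥(U ⊓ omegaOne p M) ≤ p := by
      have := Subgroup.card_le_of_le hle1
      rwa [Nat.card_zpowers, hz] at this
    have hc2 : U.relIndex (omegaOne p M) ≤ p := by
      have := Subgroup.relIndex_le_of_le_right (H := U) hEM (by rw [hrel]; exact hp.out.ne_zero)
      rwa [hrel] at this
    have hc3 : Nat.card ↥(U ⊓ omegaOne p M) * U.relIndex (omegaOne p M)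
        = Nat.card (omegaOne p M) := by
      have := Subgroup.relIndex_mul_relIndex ⊥ (U ⊓ omegaOne p M) (omegaOne p M) bot_le
        inf_le_right
      rwa [Subgroup.relIndex_bot_left, Subgroup.relIndex_bot_left,
        Subgroup.inf_relIndex_right] at this
    have hub : Nat.card (omegaOne p M) ≤ p * p := by rw [← hc3]; exact Nat.mul_le_mul hc1 hc2
    have hzE : z ∈ omegaOne p M := hEsub z (hUM hzU) hzp
    have hy'E : y' ∈ omegaOne p M := hEsub y' hy'M hc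
    have hEp : IsPGroup p (omegaOne p M) := hG.to_subgroup _
    obtain ⟨k, hk⟩ := (IsPGroup.iff_card).1 hEp
    have hlt : p < Nat.card (omegaOne p M) := by
      by_contra hle
      push Not at hle
      have hZE : Subgroup.zpowers z ≤ omegaOne p M := Subgroup.zpowers_le.2 hzE
      have := Subgroup.eq_of_le_of_card_ge hZE (by rw [Nat.card_zpowers, hz]; exact hle)
      have hy'Z : y' ∈ Subgroup.zpowers z := this ▸ hy'E
      exact hy'U ((Subgroup.zpowers_le.2 hzU) hy'Z)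
    rw [hk] at hlt hub ⊢
    have hk2 : k = 2 := by
      have h1 : 1 < k := by
        by_contra h; push Not at h
        have : p ^ k ≤ p ^ 1 := Nat.pow_le_pow_right hp0 h
        rw [pow_one] at this; omega
      have h2 : k ≤ 2 := by
        by_contra h; push Not at h
        have h3 : p ^ 3 ≤ p ^ k := Nat.pow_le_pow_right hp0 h
        have h4 : p * p < p ^ 3 := by
          have := hp.out.two_le
          nlinarith [Nat.pos_of_ne_zero hp.out.ne_zero]
        omega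
      omega
    rw [hk2]
  have hEnorm : ∀ g : G, ∀ x ∈ omegaOne p M, g * x * g⁻¹ ∈ omegaOne p M := by
    intro g x hx
    obtain ⟨hxM, hxp⟩ := hEmem x hx
    refine hEsub _ ?_ (by rw [conj_pow, hxp, mul_one, mul_inv_cancel])
    rw [hM]
    obtain ⟨k, hk⟩ := hconj g⁻¹
    have h1 : g⁻¹ * u ^ p * g = (u ^ p) ^ k := by
      have := conj_pow (i := p) (a := g⁻¹) (b := u)
      rw [inv_inv] at this hk
      rw [← this, hk, ← pow_mul, mul_comm, pow_mul]
    have h2 : x * (u ^ p) ^ k = (u ^ p) ^ k * x :=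
      ((show Commute x (u ^ p) from (hM x).1 hxM).pow_right k).eq
    calc g * x * g⁻¹ * u ^ p = g * (x * (g⁻¹ * u ^ p * g)) * g⁻¹ := by group
      _ = g * ((g⁻¹ * u ^ p * g) * x) * g⁻¹ := by rw [h1, h2]
      _ = u ^ p * (g * x * g⁻¹) := by group
  have hchar : (omegaOne p M).Characteristic := by
    rw [Subgroup.characteristic_iff_map_le]
    intro φ
    rintro _ ⟨x, hx, rfl⟩
    have hxE : x ∈ omegaOne p M := hx
    obtain ⟨hxM, hxp⟩ := hEmem x hxE
    show φ x ∈ omegaOne p M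
    have hap : (φ x) ^ p = 1 := by rw [← map_pow, hxp, map_one]
    refine hEsub _ ?_ hap
    rw [hM]
    have hwE : x * (φ.symm u * x⁻¹ * (φ.symm u)⁻¹) ∈ omegaOne p M :=
      (omegaOne p M).mul_mem hxE (hEnorm _ _ ((omegaOne p M).inv_mem hxE))
    have hwp := (hEmem _ hwE).2
    obtain ⟨a, ha'⟩ : ∃ a, a = φ x := ⟨_, rfl⟩
    have hφw : φ (x * (φ.symm u * x⁻¹ * (φ.symm u)⁻¹)) = a * u * a⁻¹ * u⁻¹ := by
      simp only [map_mul, map_inv, MulEquiv.apply_symm_apply]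
      rw [← ha']; group
    have hcp' : (a * u * a⁻¹ * u⁻¹) ^ p = 1 := by rw [← hφw, ← map_pow, hwp, map_one]
    have hcU' : a * u * a⁻¹ * u⁻¹ ∈ U :=
      U.mul_mem (hUnorm.conj_mem u huU a) (U.inv_mem huU)
    have hcc : Commute (a * u * a⁻¹ * u⁻¹) u := hUcomm _ hcU' _ huU
    have h1 : (a * u * a⁻¹ * u⁻¹ * u) ^ p = u ^ p := by rw [hcc.mul_pow, hcp', one_mul]
    have h2 : a * u * a⁻¹ * u⁻¹ * u = a * u * a⁻¹ := by group
    rw [h2, conj_pow] at h1
    rw [← ha']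
    calc a * u ^ p = (a * u ^ p * a⁻¹) * a := by group
      _ = u ^ p * a := by rw [h1]
  exact ⟨hrel, hEA, hcardE, hchar⟩

end caseII

/-- Strengthened form of `result`, exposing the side information of the two cases. -/
theorem main {G : Type*} [Group G] [Finite G] {p : ℕ} [Fact p.Prime] (hG : IsPGroup p G) (hna : ¬ IsMulCommutative G) (U : Subgroup G) [U.Normal] (hU : IsCyclic U) (n : ℕ) (hUn : Nat.card U = p ^ n) (hC : Subgroup.centralizer (U : Set G) = U) : (p = 2 ∧ (∀ g w : G, w ∈ U → orderOf w = 4 → g * w = w * g → g ∈ U) ∧ 2 ≤ n ∧ Nat.card G = 2 ^ (n + 1) ∧ ((∃ m : ℕ, Nonempty (G ≃* DihedralGroup m)) ∨ (∃ m : ℕ, Nonempty (G ≃* QuaternionGroup m)) ∨ Cfsg.IsQuasiDihedral G)) ∨ ((p = 2 → 3 ≤ n) ∧ 2 ≤ n ∧ (U.relIndex (Subgroup.centralizer (Cfsg.powerClosure p 1 U : Set G)) = p ∧ Cfsg.IsElementaryAbelian p (Cfsg.omegaOne p (Subgroup.centralizer (Cfsg.powerClosure p 1 U : Set G))) ∧ Nat.card ↥(Cfsg.omegaOne p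 (Subgroup.centralizer (Cfsg.powerClosure p 1 U : Set G))) = p ^ 2 ∧ (Cfsg.omegaOne p (Subgroup.centralizer (Cfsg.powerClosure p 1 U : Set G))).Characteristic)) := by
  classical
  have hp : p.Prime := Fact.out
  obtain ⟨u₀, hu₀⟩ := hU.exists_generator
  have huU : (u₀ : G) ∈ U := u₀.2
  have hu : orderOf (u₀ : G) = p ^ n := by
    rw [Subgroup.orderOf_coe, orderOf_eq_card_of_forall_mem_zpowers hu₀, hUn]
  have hgen : ∀ x ∈ U, ∃ i : ℕ, x = (u₀ : G) ^ i := by
    intro x hx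
    have h1 := hu₀ ⟨x, hx⟩
    rw [← mem_powers_iff_mem_zpowers] at h1
    obtain ⟨i, hi⟩ := (Submonoid.mem_powers_iff _ _).1 h1
    exact ⟨i, by rw [← Subgroup.coe_pow, hi]⟩
  generalize (u₀ : G) = u at huU hu hgen
  have hUcomm : ∀ x ∈ U, ∀ x' ∈ U, x * x' = x' * x := by
    intro x hx x' hx'
    obtain ⟨i, rfl⟩ := hgen x hx
    obtain ⟨j, rfl⟩ := hgen x' hx'
    rw [← pow_add, ← pow_add, add_comm]
  have hCu : ∀ g : G, g * u = u * g → g ∈ U := by
    intro g hg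
    rw [← hC, Subgroup.mem_centralizer_iff]
    intro x hx
    obtain ⟨i, rfl⟩ := hgen x hx
    exact ((show Commute g u from hg).pow_right i).eq.symm
  have hconj : ∀ g : G, ∃ k : ℕ, g * u * g⁻¹ = u ^ k :=
    fun g => hgen _ (Subgroup.Normal.conj_mem inferInstance u huU g)
  obtain ⟨g₀, hg₀⟩ : ∃ g₀ : G, g₀ ∉ U := by
    by_contra hall
    push Not at hall
    exact hna ⟨⟨fun a b => hUcomm a (hall a) b (hall b)⟩⟩
  obtain ⟨s, hs1, hs2⟩ := descent hG U hg₀
  have hcent : ∀ (g : G) (k : ℕ), g * u * g⁻¹ = u ^ k → g ^ p ∈ U → k ^ p ≡ 1 [MOD p ^ n] := by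
    intro g k hk hgp
    have h1 := conj_pow_of_conj hk p
    have h2 : g ^ p * u * (g ^ p)⁻¹ = u := by
      rw [hUcomm _ hgp _ huU, mul_inv_cancel_right]
    rw [h2] at h1
    rw [← hu]
    exact pow_eq_pow_iff_modEq.1 (by rw [pow_one]; exact h1.symm)
  have hMmem : ∀ g : G, g * u ^ p = u ^ p * g →
      g ∈ Subgroup.centralizer (Cfsg.powerClosure p 1 U : Set G) := by
    intro g hg
    rw [Subgroup.mem_centralizer_iff]
    intro h hh
    have hle : Cfsg.powerClosure p 1 U ≤ Subgroup.centralizer {g} := by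
      unfold Cfsg.powerClosure
      rw [Subgroup.closure_le]
      rintro _ ⟨x, hx, rfl⟩
      obtain ⟨i, rfl⟩ := hgen x hx
      rw [SetLike.mem_coe, Subgroup.mem_centralizer_iff]
      intro g' hg'
      rw [Set.mem_singleton_iff] at hg'
      subst hg'
      rw [pow_one, ← pow_mul, mul_comm, pow_mul]
      exact ((show Commute g' (u ^ p) from hg).pow_right i).eq
    have := hle hh
    rw [Subgroup.mem_centralizer_iff] at this
    exact (this g rfl).symm
  have hMmem' : ∀ g : G, g ∈ Subgroup.centralizer (Cfsg.powerClosure p 1 U : Set G) →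
      g * u ^ p = u ^ p * g := by
    intro g hg
    rw [Subgroup.mem_centralizer_iff] at hg
    have hmem : u ^ p ∈ (Cfsg.powerClosure p 1 U : Set G) :=
      Subgroup.subset_closure ⟨u, huU, by rw [pow_one]⟩
    exact (hg _ hmem).symm
  have hMk : ∀ (g : G) (k : ℕ), g * u * g⁻¹ = u ^ k → k ≡ 1 [MOD p ^ (n - 1)] → 1 ≤ n →
      g * u ^ p = u ^ p * g := by
    intro g k hk hmod hn1
    have h1 : g * u ^ p * g⁻¹ = u ^ p := by
      rw [← conj_pow, hk, ← pow_mul]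
      have h2 : k * p ≡ 1 * p [MOD p ^ (n - 1) * p] := Nat.ModEq.mul_right' p hmod
      rw [← pow_succ, Nat.sub_add_cancel hn1, one_mul, ← hu] at h2
      exact pow_eq_pow_iff_modEq.2 h2
    calc g * u ^ p = (g * u ^ p * g⁻¹) * g := by group
      _ = u ^ p * g := by rw [h1]
  have hg1p : (g₀ ^ (p ^ s)) ^ p ∈ U := by rw [← pow_mul, ← pow_succ]; exact hs2
  obtain ⟨k₀, hk₀⟩ := hconj (g₀ ^ (p ^ s))
  have hk₀p := hcent _ k₀ hk₀ hg1p
  have hn2 : 2 ≤ n := by
    by_contra hlt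
    push Not at hlt
    apply hs1
    apply hCu
    have hk1 : u ^ k₀ = u := by
      rcases Nat.lt_or_ge n 1 with h0 | h1
      · have hn0 : n = 0 := by omega
        subst hn0
        rw [pow_zero, orderOf_eq_one_iff] at hu
        rw [hu, one_pow]
      · have hn1 : n = 1 := by omega
        subst hn1
        rw [pow_one] at hu hk₀p
        have hkmod : k₀ ≡ 1 [MOD p] := fermat1 p k₀ hk₀p
        have := (pow_eq_pow_iff_modEq (x := u) (n := k₀) (m := 1)).2 (by rw [hu]; exact hkmod)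
        rwa [pow_one] at this
    rw [hk1] at hk₀
    calc g₀ ^ p ^ s * u = (g₀ ^ p ^ s * u * (g₀ ^ p ^ s)⁻¹) * g₀ ^ p ^ s := by group
      _ = u * g₀ ^ p ^ s := by rw [hk₀]
  by_cases hcase : p = 2 ∧ ∀ (g : G) (k : ℕ), g * u * g⁻¹ = u ^ k → k % 4 = 1 → g ∈ U
  · left
    obtain ⟨hp2, hK⟩ := hcase
    subst hp2
    have := caseI hG U u n hn2 hu hUn hK hconj g₀ hg₀
    refine ⟨rfl, ?_, hn2, this.1, this.2⟩
    intro g w hw hw4 hgw
    obtain ⟨k, hk⟩ := hconj g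
    obtain ⟨j, rfl⟩ := hgen w hw
    refine hK g k hk ?_
    have h1 : g * u ^ j * g⁻¹ = (u ^ j) ^ k := by
      rw [← conj_pow, hk, ← pow_mul, mul_comm, pow_mul]
    have h2 : g * u ^ j * g⁻¹ = u ^ j := by rw [hgw, mul_inv_cancel_right]
    rw [h2] at h1
    have h3 := (pow_eq_pow_iff_modEq (x := u ^ j) (n := k) (m := 1)).1 (by
      rw [pow_one]; exact h1.symm)
    rw [hw4] at h3
    exact h3
  · right
    have hex : ∃ y : G, y * u ^ p = u ^ p * y ∧ y ∉ U ∧ (p = 2 → 3 ≤ n) := by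
      by_cases hp2 : p = 2
      · have hnK : ¬ ∀ (g : G) (k : ℕ), g * u * g⁻¹ = u ^ k → k % 4 = 1 → g ∈ U :=
          fun h => hcase ⟨hp2, h⟩
        push Not at hnK
        obtain ⟨g, k, hk, hk4, hgU⟩ := hnK
        subst hp2
        have hn3 : 3 ≤ n := by
          by_contra hlt
          have hn : n = 2 := by omega
          subst hn
          apply hgU
          apply hCu
          have hk1 : u ^ k = u := by
            have := (pow_eq_pow_iff_modEq (x := u) (n := k) (m := 1)).2 (by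
              rw [hu]; show k % 2 ^ 2 = 1 % 2 ^ 2; norm_num; exact hk4)
            rwa [pow_one] at this
          rw [hk1] at hk
          calc g * u = (g * u * g⁻¹) * g := by group
            _ = u * g := by rw [hk]
        obtain ⟨s', hs1', hs2'⟩ := descent hG U hgU
        have hk' := conj_pow_of_conj hk (2 ^ s')
        have hk4' : (k ^ (2 ^ s')) % 4 = 1 := by rw [Nat.pow_mod, hk4, one_pow]; rfl
        have hgp : (g ^ (2 ^ s')) ^ 2 ∈ U := by rw [← pow_mul, ← pow_succ]; exact hs2'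
        have hmod := hcent _ _ hk' hgp
        have hmod' := n2 _ n hk4' hmod (by omega)
        exact ⟨g ^ 2 ^ s', hMk _ _ hk' hmod' (by omega), hs1', fun _ => hn3⟩
      · have hmod' := n1 p hp2 k₀ n hk₀p (by omega)
        exact ⟨g₀ ^ p ^ s, hMk _ _ hk₀ hmod' (by omega), hs1, fun h => absurd h hp2⟩
    obtain ⟨y, hyM, hyU, hn3⟩ := hex
    exact ⟨hn3, hn2, caseII hG U u n hn2 hn3 hu huU hgen hCu hconj _
      (fun g => ⟨hMmem' g, hMmem g⟩) y (hMmem y hyM) hyU⟩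

/-- Let G be a finite non-abelian p-group with a cyclic normal subgroup U of order p^n such that C_G(U) = U. Then either p = 2 and G is dihedral, generalized quaternion or semidihedral of order 2^(n+1); or, writing U₁ for the subgroup generated by the p-th powers of elements of U and M = C_G(U₁), the subgroup U has index p in M and the subgroup Ω₁(M) generated by the elements of M of order dividing p is elementary abelian of order p² and characteristic in G. -/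
theorem result {G : Type*} [Group G] [Finite G] {p : ℕ} [Fact p.Prime] (hG : IsPGroup p G) (hna : ¬ IsMulCommutative G) (U : Subgroup G) [U.Normal] (hU : IsCyclic U) (n : ℕ) (hUn : Nat.card U = p ^ n) (hC : Subgroup.centralizer (U : Set G) = U) : (p = 2 ∧ Nat.card G = 2 ^ (n + 1) ∧ ((∃ m : ℕ, Nonempty (G ≃* DihedralGroup m)) ∨ (∃ m : ℕ, Nonempty (G ≃* QuaternionGroup m)) ∨ Cfsg.IsQuasiDihedral G)) ∨ (U.relIndex (Subgroup.centralizer (Cfsg.powerClosure p 1 U : Set G)) = p ∧ Cfsg.IsElementaryAbelian p (Cfsg.omegaOne p (Subgroup.centralizer (Cfsg.powerClosure p 1 U : Set G))) ∧ Nat.card ↥(Cfsg.omegaOne p (Subgroup.centralizer (Cfsg.powerClosure p 1 U : Set G))) = p ^ 2 ∧ (Cfsg.omegaOne p (Subgroup.centralizer (Cfsg.powerClosure p 1 U : Set G))).Characteristic) := by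
  rcases main hG hna U hU n hUn hC with ⟨h1, -, -, h2, h3⟩ | ⟨-, -, h⟩
  · exact Or.inl ⟨h1, h2, h3⟩
  · exact Or.inr h

end Cfsg.Agent.S3761
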