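import Cfsg.Statements.S3762
import Cfsg.Agent.Lib.Helper29.SympHallC
-- import your own Cfsg.Agent.* helpers here

set_option autoImplicit false
open Cfsg

namespace Cfsg.Agent.S3762

open Cfsg.Agent.Lib.Helper29

/-- Let G be a finite p-group of symplectic type: every characteristic abelian subgroup of G is cyclic. Then G = E ∗ R is a central product of subgroups E and R (they commute elementwise and generate G) where E is extraspecial or trivial, and R is cyclic, or p = 2 and R is dihedral, semidihedral or generalized quaternion of order at least 16. -/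
theorem result {G : Type*} [Group G] [Finite G] {p : ℕ} [Fact p.Prime] (hG : IsPGroup p G) (hsymp : ∀ A : Subgroup G, A.Characteristic → IsMulCommutative A → IsCyclic A) : ∃ E R : Subgroup G, (∀ e ∈ E, ∀ r ∈ R, e * r = r * e) ∧ E ⊔ R = ⊤ ∧ (E = ⊥ ∨ Cfsg.IsExtraspecial p ↥E) ∧ (IsCyclic R ∨ (p = 2 ∧ 16 ≤ Nat.card R ∧ ((∃ m : ℕ, Nonempty (↥R ≃* DihedralGroup m)) ∨ (∃ m : ℕ, Nonempty (↥R ≃* QuaternionGroup m)) ∨ Cfsg.IsQuasiDihedral ↥R))) := by
  by_cases hab : ∀ a b : G, a * b = b * a
  · -- abelian groups of symplectic type are cyclic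
    refine ⟨⊥, ⊤, ?_, ?_, Or.inl rfl, Or.inl ?_⟩
    · intro e he r _
      rw [Subgroup.mem_bot] at he
      subst he
      simp
    · simp
    · exact hsymp ⊤ inferInstance ⟨⟨fun a b => Subtype.ext (hab a.1 b.1)⟩⟩
  · have hnt : Nontrivial G := by
      by_contra h
      rw [not_nontrivial_iff_subsingleton] at h
      exact hab (fun a b => Subsingleton.elim _ _)
    obtain ⟨H, Z, c, z, n, hHchar, hZchar, S⟩ := exists_sctx hG hsymp
    -- the extraspecial factor
    obtain ⟨E, T, hexp⟩ : ∃ E : Subgroup G, ECtx p G H Z z E ∧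
        (2 ≤ n → p ≠ 2 → ∀ e ∈ E, e ^ p = 1) := by
      by_cases hn2 : 2 ≤ n
      · obtain ⟨E, h1, h2, h3, h4, h5⟩ := S.exists_E (S.star' (S.star hHchar hsymp hn2))
        exact ⟨E, ⟨h1, h2, h3, h5⟩, fun _ => h4⟩
      · have hn1 : n = 1 := by have := S.hn; omega
        have hzc : z = c := by rw [S.hz, hn1]; simp
        refine ⟨H, ⟨S.Z0_le.trans S.hZH, le_rfl, ?_, ?_⟩, fun h => absurd h hn2⟩
        · intro x _ hx
          rw [hzc, ← S.hZc]; exact hx
        · intro h hh
          exact ⟨h, hh, 1, Z.one_mem, (mul_one h).symm⟩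
    by_cases hRab : ∀ r ∈ Subgroup.centralizer (E : Set G),
        ∀ r' ∈ Subgroup.centralizer (E : Set G), r * r' = r' * r
    · exact T.finish S hG (Or.inl (T.R_cyclic_of_comm S hRab))
    · by_cases hex : p = 2 ∧ n = 2
      · -- the exceptional case: G itself is extraspecial
        refine ⟨⊤, Subgroup.center G, ?_, ?_, Or.inr (T.exceptional S hG hex.1 hex.2 hRab), Or.inl ?_⟩
        · intro e _ r hr
          exact Subgroup.mem_center_iff.1 hr e
        · simp
        · exact hsymp _ inferInstance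
            ⟨⟨fun a b => Subtype.ext (Subgroup.mem_center_iff.1 b.2 a.1)⟩⟩
      · exact T.finish S hG (Or.inr (T.R_structure S hG hZchar hsymp hexp hRab hex))

end Cfsg.Agent.S3762
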