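import Mathlib
import Cfsg.Statements.S2542
import Cfsg.Agent.S0804

set_option autoImplicit false
set_option linter.unusedSectionVars false
open Cfsg

namespace Cfsg.Agent.S2542

open MulAction

section abs
variable {G Ω : Type*} [Group G] [Finite G] [IsSimpleGroup G] [MulAction G Ω] [IsPretransitive G Ω]

theorem faithful (hΩ : Nat.card Ω = 11) (g : G) (hg : ∀ ω : Ω, g • ω = ω) : g = 1 := by
  have hker : (MulAction.toPermHom G Ω).ker = ⊥ ∨ (MulAction.toPermHom G Ω).ker = ⊤ :=
    Subgroup.Normal.eq_bot_or_eq_top inferInstance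
  rcases hker with h | h
  · have : g ∈ (MulAction.toPermHom G Ω).ker := by
      rw [MonoidHom.mem_ker]; ext ω; simpa using hg ω
    rw [h] at this; exact Subgroup.mem_bot.mp this
  · exfalso
    have hfin : Finite Ω := Nat.finite_of_card_ne_zero (by omega)
    have : Nontrivial Ω := Finite.one_lt_card_iff_nontrivial.mp (by omega)
    obtain ⟨a, b, hab⟩ := exists_pair_ne Ω
    obtain ⟨g', hg'⟩ := exists_smul_eq G a b
    have hmem : g' ∈ (MulAction.toPermHom G Ω).ker := by rw [h]; trivial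
    rw [MonoidHom.mem_ker] at hmem
    have := congrArg (fun σ : Equiv.Perm Ω => σ a) hmem
    simp at this
    exact hab (this.symm.trans hg')

theorem card_stab (hG : Nat.card G = 660) (hΩ : Nat.card Ω = 11) (ω : Ω) :
    Nat.card (stabilizer G ω) = 60 := by
  have h1 := index_stabilizer_of_transitive (G := G) (x := ω)
  have h2 := (stabilizer G ω).card_mul_index
  rw [h1, hΩ, hG] at h2
  omega

theorem orderOf_of_mem {x y : G} (hx : orderOf x = 11) (hy : y ∈ Subgroup.zpowers x) (hy1 : y ≠ 1) :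
    orderOf y = 11 := by
  have hd : orderOf y ∣ 11 := hx ▸ orderOf_dvd_of_mem_zpowers hy
  rcases (Nat.dvd_prime (by norm_num)).mp hd with h | h
  · exact absurd (orderOf_eq_one_iff.mp h) hy1
  · exact h

theorem free (hG : Nat.card G = 660) (hΩ : Nat.card Ω = 11) {x y : G} (hx : orderOf x = 11)
    (hy : y ∈ Subgroup.zpowers x) (ω : Ω) (h : y • ω = ω) : y = 1 := by
  by_contra hy1
  have ho := orderOf_of_mem hx hy hy1
  have hmem : y ∈ stabilizer G ω := h
  have hd : orderOf (⟨y, hmem⟩ : stabilizer G ω) ∣ Nat.card (stabilizer G ω) := orderOf_dvd_natCard _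
  rw [card_stab hG hΩ ω, ← Subgroup.orderOf_coe] at hd
  simp only at hd
  rw [ho] at hd
  omega

theorem trans11 (hG : Nat.card G = 660) (hΩ : Nat.card Ω = 11) {x : G} (hx : orderOf x = 11)
    (ω ω' : Ω) : ∃ y ∈ Subgroup.zpowers x, y • ω = ω' := by
  have hfin : Finite Ω := Nat.finite_of_card_ne_zero (by omega)
  let f : Subgroup.zpowers x → Ω := fun y => (y : G) • ω
  have hinj : Function.Injective f := by
    intro y1 y2 h
    have h' : ((y2 : G)⁻¹ * (y1 : G)) • ω = ω := by
      rw [mul_smul, inv_smul_eq_iff]; exact h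
    have := free hG hΩ hx (Subgroup.mul_mem _ (Subgroup.inv_mem _ y2.2) y1.2) ω h'
    apply Subtype.ext
    exact (inv_mul_eq_one.mp this).symm
  have hbij := hinj.bijective_of_nat_card_le (by rw [Nat.card_zpowers, hx, hΩ])
  obtain ⟨y, hy⟩ := hbij.2 ω'
  exact ⟨y.1, y.2, hy⟩

theorem fix2 (hG : Nat.card G = 660) (hΩ : Nat.card Ω = 11) {x b : G} (hx : orderOf x = 11)
    (hb : b ∈ Subgroup.normalizer (Subgroup.zpowers x : Set G)) {ω1 ω2 : Ω} (h12 : ω1 ≠ ω2)
    (h1 : b • ω1 = ω1) (h2 : b • ω2 = ω2) : b = 1 := by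
  obtain ⟨y, hy, hyω⟩ := trans11 hG hΩ hx ω1 ω2
  have hy1 : y ≠ 1 := by
    rintro rfl
    rw [one_smul] at hyω
    exact h12 hyω
  have hy' : b * y * b⁻¹ ∈ Subgroup.zpowers x := (Subgroup.mem_normalizer_iff.mp hb y).mp hy
  have hb1 : b⁻¹ • ω1 = ω1 := by rw [inv_smul_eq_iff, h1]
  have hact : (b * y * b⁻¹) • ω1 = ω2 := by
    rw [mul_smul, mul_smul, hb1, hyω, h2]
  have hfix : (y⁻¹ * (b * y * b⁻¹)) • ω1 = ω1 := by
    rw [mul_smul, hact, inv_smul_eq_iff, hyω]
  have heq := free hG hΩ hx (Subgroup.mul_mem _ (Subgroup.inv_mem _ hy) hy') ω1 hfix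
  have hcomm : b * y = y * b := by
    have : b * y * b⁻¹ = y := (inv_mul_eq_one.mp heq).symm
    calc b * y = (b * y * b⁻¹) * b := by group
      _ = y * b := by rw [this]
  have hoy := orderOf_of_mem hx hy hy1
  apply faithful (Ω := Ω) hΩ
  intro ω
  obtain ⟨z, hz, hzω⟩ := trans11 hG hΩ hoy ω1 ω
  obtain ⟨m, rfl⟩ := Subgroup.mem_zpowers_iff.mp hz
  have hc : Commute b (y ^ m) := Commute.zpow_right hcomm m
  rw [← hzω, ← mul_smul, hc.eq, mul_smul, h1]


theorem card_normalizer (hG : Nat.card G = 660) {x : G} (hx : orderOf x = 11) :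
    Nat.card (Subgroup.normalizer (Subgroup.zpowers x : Set G)) = 55 := by
  have : Fact (Nat.Prime 11) := ⟨by norm_num⟩
  have hP : Nat.card (Subgroup.zpowers x) = 11 := by rw [Nat.card_zpowers, hx]
  have hpg : IsPGroup 11 (Subgroup.zpowers x) := IsPGroup.of_card (n := 1) (by rw [hP]; norm_num)
  obtain ⟨Q, hQ⟩ := hpg.exists_le_sylow
  have hQcard : Nat.card (Q : Subgroup G) = 11 := by
    obtain ⟨k, hk⟩ := IsPGroup.iff_card.1 Q.2
    have hdvd : Nat.card (Q : Subgroup G) ∣ 660 := by
      rw [← hG]; exact Subgroup.card_subgroup_dvd_card _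
    have hle : 11 ≤ Nat.card (Q : Subgroup G) := by
      have := Subgroup.card_le_of_le hQ
      omega
    rw [hk] at hdvd hle ⊢
    rcases k with _ | _ | k
    · norm_num at hle
    · norm_num
    · exfalso
      have : (121 : ℕ) ∣ 660 := by
        refine Dvd.dvd.trans ?_ hdvd
        exact ⟨11 ^ k, by ring⟩
      omega
  have hPQ : Subgroup.zpowers x = (Q : Subgroup G) :=
    Subgroup.eq_of_le_of_card_ge hQ (by rw [hP, hQcard])
  rw [hPQ]
  have hn1 := card_sylow_modEq_one 11 G
  have hn2 := Q.card_dvd_index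
  have hn3 : Nat.card (Sylow 11 G) = (Subgroup.normalizer ((Q : Subgroup G) : Set G)).index :=
    Q.card_eq_index_normalizer
  have hidx : (Q : Subgroup G).index = 60 := by
    have := (Q : Subgroup G).card_mul_index
    rw [hQcard, hG] at this
    omega
  rw [hidx] at hn2
  obtain ⟨n, hn⟩ : ∃ n, n = Nat.card (Sylow 11 G) := ⟨_, rfl⟩
  rw [← hn] at hn1 hn2 hn3
  have hnle : n ≤ 60 := Nat.le_of_dvd (by norm_num) hn2
  have hnmod : n % 11 = 1 := hn1
  have hn12 : n = 12 := by
    by_contra hne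
    have hn1' : n = 1 := by
      clear hn hn3 hn1
      interval_cases n <;> omega
    have hidx1 : (Subgroup.normalizer ((Q : Subgroup G) : Set G)).index = 1 := by rw [← hn3, hn1']
    have htop := Subgroup.index_eq_one.mp hidx1
    have hnorm : (Q : Subgroup G).Normal := Subgroup.normalizer_eq_top_iff.mp htop
    rcases hnorm.eq_bot_or_eq_top with h | h
    · rw [h] at hQcard; simp at hQcard
    · rw [h] at hQcard; simp at hQcard; omega
  have := (Subgroup.normalizer ((Q : Subgroup G) : Set G)).card_mul_index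
  rw [← hn3, hn12, hG] at this
  omega


theorem homog (hG : Nat.card G = 660) (hΩ : Nat.card Ω = 11) {x : G} (hx : orderOf x = 11)
    {a b c d : Ω} (hab : a ≠ b) (hcd : c ≠ d) :
    ∃ β ∈ Subgroup.normalizer (Subgroup.zpowers x : Set G),
      (β • a = c ∧ β • b = d) ∨ (β • b = c ∧ β • a = d) := by
  classical
  have hfin : Finite Ω := Nat.finite_of_card_ne_zero (by omega)
  have : Fintype Ω := Fintype.ofFinite Ω
  obtain ⟨B, hB⟩ : ∃ B : Subgroup G, B = Subgroup.normalizer (Subgroup.zpowers x : Set G) := ⟨_, rfl⟩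
  rw [← hB]
  have : Fintype B := Fintype.ofFinite B
  have hcardB : Fintype.card B = 55 := by
    rw [← Nat.card_eq_fintype_card, hB]; exact card_normalizer hG hx
  have key : ∀ γ : B, ∀ u v : Ω, u ≠ v → (γ : G) • u = u → (γ : G) • v = v → γ = 1 := by
    intro γ u v huv h1 h2
    apply Subtype.ext
    exact fix2 hG hΩ hx (hB ▸ γ.2) huv h1 h2
  let φ1 : B → Ω × Ω := fun β => ((β : G) • a, (β : G) • b)
  let φ2 : B → Ω × Ω := fun β => ((β : G) • b, (β : G) • a)
  have inj1 : Function.Injective φ1 := by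
    intro β1 β2 h
    simp only [φ1, Prod.mk.injEq] at h
    have h1 : ((β2⁻¹ * β1 : B) : G) • a = a := by
      rw [Subgroup.coe_mul, Subgroup.coe_inv, mul_smul, inv_smul_eq_iff]; exact h.1
    have h2 : ((β2⁻¹ * β1 : B) : G) • b = b := by
      rw [Subgroup.coe_mul, Subgroup.coe_inv, mul_smul, inv_smul_eq_iff]; exact h.2
    have := key _ a b hab h1 h2
    exact (inv_mul_eq_one.mp this).symm
  have inj2 : Function.Injective φ2 := by
    intro β1 β2 h
    simp only [φ2, Prod.mk.injEq] at h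
    have h1 : ((β2⁻¹ * β1 : B) : G) • a = a := by
      rw [Subgroup.coe_mul, Subgroup.coe_inv, mul_smul, inv_smul_eq_iff]; exact h.2
    have h2 : ((β2⁻¹ * β1 : B) : G) • b = b := by
      rw [Subgroup.coe_mul, Subgroup.coe_inv, mul_smul, inv_smul_eq_iff]; exact h.1
    have := key _ a b hab h1 h2
    exact (inv_mul_eq_one.mp this).symm
  have hdisj : Disjoint (Finset.univ.image φ1) (Finset.univ.image φ2) := by
    rw [Finset.disjoint_left]
    intro p hp1 hp2
    obtain ⟨β1, -, rfl⟩ := Finset.mem_image.mp hp1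
    obtain ⟨β2, -, h⟩ := Finset.mem_image.mp hp2
    simp only [φ1, φ2, Prod.mk.injEq] at h
    obtain ⟨γ, hγ⟩ : ∃ γ : B, γ = β1⁻¹ * β2 := ⟨_, rfl⟩
    have hγb : (γ : G) • b = a := by
      rw [hγ, Subgroup.coe_mul, Subgroup.coe_inv, mul_smul, inv_smul_eq_iff]; exact h.1
    have hγa : (γ : G) • a = b := by
      rw [hγ, Subgroup.coe_mul, Subgroup.coe_inv, mul_smul, inv_smul_eq_iff]; exact h.2
    have h1 : ((γ * γ : B) : G) • a = a := by
      rw [Subgroup.coe_mul, mul_smul, hγa, hγb]
    have h2 : ((γ * γ : B) : G) • b = b := by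
      rw [Subgroup.coe_mul, mul_smul, hγb, hγa]
    have hsq : γ * γ = 1 := key _ a b hab h1 h2
    have hd2 : orderOf γ ∣ 2 := orderOf_dvd_of_pow_eq_one (by rw [pow_two]; exact hsq)
    have hd55 : orderOf γ ∣ 55 := by
      rw [← hcardB]; exact orderOf_dvd_card
    have ho : γ = 1 := by
      have := Nat.dvd_gcd hd2 hd55
      norm_num at this
      exact this
    rw [ho] at hγa
    simp at hγa
    exact hab hγa
  have hsub : Finset.univ.image φ1 ∪ Finset.univ.image φ2 ⊆ (Finset.univ : Finset Ω).offDiag := by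
    intro p hp
    rw [Finset.mem_offDiag]
    refine ⟨Finset.mem_univ _, Finset.mem_univ _, ?_⟩
    rcases Finset.mem_union.mp hp with h | h
    · obtain ⟨β, -, rfl⟩ := Finset.mem_image.mp h
      simp only [φ1]
      intro h'
      exact hab (smul_left_cancel _ h')
    · obtain ⟨β, -, rfl⟩ := Finset.mem_image.mp h
      simp only [φ2]
      intro h'
      exact hab (smul_left_cancel _ h').symm
  have hcard : ((Finset.univ : Finset Ω).offDiag).card = 110 := by
    rw [Finset.offDiag_card, Finset.card_univ, ← Nat.card_eq_fintype_card, hΩ]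
  have heq : Finset.univ.image φ1 ∪ Finset.univ.image φ2 = (Finset.univ : Finset Ω).offDiag := by
    apply Finset.eq_of_subset_of_card_le hsub
    rw [hcard, Finset.card_union_of_disjoint hdisj, Finset.card_image_of_injective _ inj1,
      Finset.card_image_of_injective _ inj2, Finset.card_univ, hcardB]
  have hmem : (c, d) ∈ Finset.univ.image φ1 ∪ Finset.univ.image φ2 := by
    rw [heq, Finset.mem_offDiag]
    exact ⟨Finset.mem_univ _, Finset.mem_univ _, hcd⟩
  rcases Finset.mem_union.mp hmem with h | h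
  · obtain ⟨β, -, hβ⟩ := Finset.mem_image.mp h
    simp only [φ1, Prod.mk.injEq] at hβ
    exact ⟨β.1, β.2, Or.inl hβ⟩
  · obtain ⟨β, -, hβ⟩ := Finset.mem_image.mp h
    simp only [φ2, Prod.mk.injEq] at hβ
    exact ⟨β.1, β.2, Or.inr hβ⟩

theorem two_trans (hG : Nat.card G = 660) (hΩ : Nat.card Ω = 11) :
    IsMultiplyPretransitive G Ω 2 := by
  have h11 : Fact (Nat.Prime 11) := ⟨by norm_num⟩
  have h2 : Fact (Nat.Prime 2) := ⟨by norm_num⟩
  obtain ⟨x, hx⟩ := exists_prime_orderOf_dvd_card' (G := G) 11 (by rw [hG]; norm_num)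
  obtain ⟨t, ht⟩ := exists_prime_orderOf_dvd_card' (G := G) 2 (by rw [hG]; norm_num)
  have ht1 : t ≠ 1 := by
    rintro rfl
    rw [orderOf_one] at ht
    omega
  have htt : t * t = 1 := by
    rw [← pow_two, ← ht]; exact pow_orderOf_eq_one t
  obtain ⟨a0, ha0⟩ : ∃ a0 : Ω, t • a0 ≠ a0 := by
    by_contra hcon
    push Not at hcon
    exact ht1 (faithful hΩ t hcon)
  have hb0 : t • (t • a0) = a0 := by rw [← mul_smul, htt, one_smul]
  have hstep : ∀ c d : Ω, c ≠ d → ∃ g : G, g • a0 = c ∧ g • (t • a0) = d := by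
    intro c d hcd
    obtain ⟨β, -, h | h⟩ := homog hG hΩ hx ha0.symm hcd
    · exact ⟨β, h⟩
    · refine ⟨β * t, ?_, ?_⟩
      · rw [mul_smul]; exact h.1
      · rw [mul_smul, hb0]; exact h.2
  rw [is_two_pretransitive_iff]
  intro a b c d hab hcd
  obtain ⟨g1, hg1a, hg1b⟩ := hstep a b hab
  obtain ⟨g2, hg2a, hg2b⟩ := hstep c d hcd
  refine ⟨g2 * g1⁻¹, ?_, ?_⟩
  · rw [mul_smul, ← hg1a, inv_smul_smul, hg2a]
  · rw [mul_smul, ← hg1b, inv_smul_smul, hg2b]

end abs


theorem card_psl {F : Type*} [Field F] [Fintype F] (hF : Fintype.card F = 11) :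
    Nat.card (Matrix.ProjectiveSpecialLinearGroup (Fin 2) F) = 660 := by
  have hcard := Cfsg.Agent.S0243.result hF 2 le_rfl
  rw [Fin.prod_univ_two] at hcard
  simp only [Fin.val_zero, Fin.val_one, pow_zero, pow_one] at hcard
  norm_num at hcard
  omega

theorem exists_a5 {F : Type*} [Field F] [Fintype F] (hF : Fintype.card F = 11) :
    ∃ H : Subgroup (Matrix.ProjectiveSpecialLinearGroup (Fin 2) F),
      Nonempty (H ≃* alternatingGroup (Fin 5)) := by
  have h11 : (11 : F) = 0 := by
    have := Nat.cast_card_eq_zero F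
    rw [hF] at this
    exact_mod_cast this
  refine Cfsg.Agent.S0804.exists_a5_odd (6 : F) 1 3 4 ?_ ?_ ?_
  · linear_combination h11
  · linear_combination h11
  · linear_combination h11

/-- Let F be a field with 11 elements. PSL_2(F) has a subgroup H of index 11 isomorphic to the alternating group A_5, and the action of PSL_2(F) on the cosets of H is 2-transitive (of degree 11). -/
theorem result {F : Type*} [Field F] [Fintype F] (hF : Fintype.card F = 11) : ∃ H : Subgroup (Matrix.ProjectiveSpecialLinearGroup (Fin 2) F), H.index = 11 ∧ Nonempty (H ≃* alternatingGroup (Fin 5)) ∧ MulAction.IsMultiplyPretransitive (Matrix.ProjectiveSpecialLinearGroup (Fin 2) F) ((Matrix.ProjectiveSpecialLinearGroup (Fin 2) F) ⧸ H) 2 := by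
  obtain ⟨H, ⟨e⟩⟩ := exists_a5 hF
  have hG := card_psl hF
  have hsimple : IsSimpleGroup (Matrix.ProjectiveSpecialLinearGroup (Fin 2) F) :=
    Matrix.ProjectiveSpecialLinearGroup.rank_two_simple (by rw [Nat.card_eq_fintype_card, hF]; norm_num)
  have hHcard : Nat.card H = 60 := by
    rw [Nat.card_congr e.toEquiv, nat_card_alternatingGroup]
    simp [Nat.factorial]
  have hidx : H.index = 11 := by
    have := H.card_mul_index
    rw [hHcard, hG] at this
    omega
  refine ⟨H, hidx, ⟨e⟩, ?_⟩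
  have hΩ : Nat.card (Matrix.ProjectiveSpecialLinearGroup (Fin 2) F ⧸ H) = 11 := by
    rw [← Subgroup.index_eq_card]; exact hidx
  exact two_trans hG hΩ

end Cfsg.Agent.S2542
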