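import Cfsg.Statements.S5123
import Cfsg.Agent.Lib.Helper85.Sylow

set_option autoImplicit false
open Cfsg

namespace Cfsg.Agent.S5123

open Cfsg.Agent.Lib.Helper85

/-- Let G be a finite group with Sylow p-subgroup S, P, Q ≤ S and g ∈ G with gPg⁻¹ = Q, and suppose N_S(Q) is a Sylow p-subgroup of N_G(Q). Let N be the set of x ∈ N_S(P) with gxg⁻¹ ∈ N_S(Q)C_G(Q). Then some h ∈ C_G(Q) satisfies (hg)N(hg)⁻¹ ≤ S. -/
theorem result {G : Type*} [Group G] [Finite G] (p : ℕ) [Fact p.Prime] (S : Sylow p G) (P Q : Subgroup G) (hP : P ≤ S) (hQ : Q ≤ S) (g : G) (hg : P.map (MulAut.conj g).toMonoidHom = Q) (hN : (∃ R : Sylow p ↥(Subgroup.normalizer (Q : Set G)), (R : Subgroup ↥(Subgroup.normalizer (Q : Set G))) = (Cfsg.FusionSystem.normalizerIn (S : Subgroup G) Q).subgroupOf (Subgroup.normalizer (Q : Set G)))) : ∃ h ∈ Subgroup.centralizer (Q : Set G), ((Cfsg.FusionSystem.normalizerIn (S : Subgroup G) P) ⊓ (Cfsg.FusionSystem.normalizerIn (S : Subgroup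 G) Q ⊔ Subgroup.centralizer (Q : Set G)).comap (MulAut.conj g).toMonoidHom).map (MulAut.conj (h * g)).toMonoidHom ≤ S := by
  have hN' : SylIn p (FusionSystem.normalizerIn (S : Subgroup G) Q) (Subgroup.normalizer (Q : Set G)) := hN
  set K := FusionSystem.normalizerIn (S : Subgroup G) Q with hK
  set C := Subgroup.centralizer (Q : Set G) with hC
  set N := (FusionSystem.normalizerIn (S : Subgroup G) P) ⊓ (K ⊔ C).comap (MulAut.conj g).toMonoidHom with hNdef
  have hKH : K ≤ Subgroup.normalizer (Q : Set G) := inf_le_right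
  have hCH : C ≤ Subgroup.normalizer (Q : Set G) := Subgroup.centralizer_le_normalizer _
  have hKM : SylIn p K (K ⊔ C) := hN'.of_le le_sup_left (sup_le hKH hCH)
  have hNS : N ≤ (S : Subgroup G) := inf_le_left.trans inf_le_left
  have hLp : IsPGroup p (N.map (cj g)) := (S.isPGroup'.to_le hNS).map _
  have hLM : N.map (cj g) ≤ K ⊔ C := Subgroup.map_le_iff_le_comap.mpr inf_le_right
  obtain ⟨y, hyM, hy⟩ := hKM.exists_conj_le hLM hLp
  have hKC : K ≤ Subgroup.normalizer (C : Set G) :=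
    hKH.trans (normalizer_le_normalizer_centralizer _)
  obtain ⟨a, ha, c, hc, rfl⟩ := mem_sup_of_le_normalizer hKC hyM
  refine ⟨c, hc, ?_⟩
  rintro _ ⟨x, hx, rfl⟩
  have h1 : cj (a * c) (cj g x) ∈ K := hy ⟨cj g x, ⟨x, hx, rfl⟩, rfl⟩
  have h2 : a⁻¹ * cj (a * c) (cj g x) * a ∈ K := K.mul_mem (K.mul_mem (K.inv_mem ha) h1) ha
  have h3 : a⁻¹ * cj (a * c) (cj g x) * a = (MulAut.conj (c * g)).toMonoidHom x := by
    simp only [cj_apply, MulEquiv.toMonoidHom_eq_coe, MonoidHom.coe_coe, MulAut.conj_apply]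
    group
  rw [h3] at h2
  exact (inf_le_left : K ≤ (S : Subgroup G)) h2

end Cfsg.Agent.S5123
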