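import Cfsg.Statements.S0900
import Cfsg.Agent.Lib.Helper75.Clifford
import Cfsg.Agent.Lib.Helper15.IrrCrit
import Cfsg.Agent.Lib.Helper3.Induced
import Cfsg.Agent.Lib.Helper80.IrrApi

set_option autoImplicit false
open Cfsg

namespace Cfsg.Agent.S0900

open Cfsg.Agent.Lib.Helper3 Cfsg.Agent.Lib.Helper15 Cfsg.Agent.Lib.Helper75 Cfsg.Agent.Lib.Helper25
open scoped ComplexConjugate
universe u
variable {G : Type u} [Group G]

/-- norm of the restriction: `|N| [χ_N,χ_N] + Σ_{g ∉ N} |χ g|² = |G|` -/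
theorem norm_restrict_add [Fintype G] (N : Subgroup G) [Fintype N] {χ : G → ℂ}
    (hχ : IsIrrCharacter G χ) [DecidablePred (· ∈ N)] :
    (Nat.card N : ℂ) * classInner (fun n : N => χ n) (fun n : N => χ n) +
      ((∑ g ∈ Finset.univ.filter (fun g : G => g ∉ N), Complex.normSq (χ g) : ℝ) : ℂ) =
      (Nat.card G : ℂ) := by
  have h1 := classInner_irr hχ hχ
  rw [if_pos rfl] at h1
  unfold classInner at h1 ⊢
  have hG : (Nat.card G : ℂ) ≠ 0 := by exact_mod_cast Nat.card_pos.ne'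
  have hN : (Nat.card N : ℂ) ≠ 0 := by exact_mod_cast Nat.card_pos.ne'
  have h2 : ∑ g : G, χ g * conj (χ g) = (Nat.card G : ℂ) := by
    field_simp at h1
    exact h1
  rw [← mul_assoc, mul_inv_cancel₀ hN, one_mul, ← h2,
    ← Finset.sum_filter_add_sum_filter_not Finset.univ (fun g : G => g ∈ N)]
  congr 1
  · rw [← Finset.sum_subtype (Finset.univ.filter (fun g : G => g ∈ N))
      (fun x => by simp) (fun g => χ g * conj (χ g))]
  · rw [Complex.ofReal_sum]
    refine Finset.sum_congr rfl (fun g _ => ?_)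
    rw [Complex.mul_conj]

/-- under invariance, the restriction is a multiple of `ϑ` -/
theorem restrict_eq_smul_of_invariant [Fintype G] (N : Subgroup G) [hN : N.Normal] [Fintype N]
    {χ : G → ℂ} (hχ : IsIrrCharacter G χ) {ϑ : N → ℂ} (hϑ : IsIrrCharacter N ϑ)
    (hcon : classInner (fun n : N => χ n) ϑ ≠ 0)
    (hinv : ∀ (g : G) (n : N), ϑ ⟨g * n * g⁻¹, hN.conj_mem (n : G) n.2 g⟩ = ϑ n) :
    ∃ e : ℕ, classInner (fun n : N => χ n) ϑ = (e : ℂ) ∧ (fun n : N => χ n) = (e : ℂ) • ϑ := by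
  classical
  have : Fintype (IrrCharacter N) := Fintype.ofFinite _
  have hres : IsCharacter N (fun n : N => χ n) :=
    Cfsg.Agent.Lib.Helper79.isCharacter_restrict (IsIrrCharacter.isCharacter hχ) N
  obtain ⟨m, hm, hdec⟩ := exists_nat_decomp hres
  refine ⟨m ⟨ϑ, hϑ⟩, hm ⟨ϑ, hϑ⟩, ?_⟩
  rw [hdec, Finset.sum_eq_single (⟨ϑ, hϑ⟩ : IrrCharacter N)]
  · intro φ _ hφ
    have hmφ : m φ = 0 := by
      by_contra h0
      have h' : classInner (fun n : N => χ n) (φ : N → ℂ) ≠ 0 := by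
        rw [hm φ]; exact_mod_cast h0
      obtain ⟨g, hg⟩ := clifford_conj N hχ hϑ φ.2 hcon h'
      apply hφ
      apply Subtype.ext
      rw [hg]
      funext n
      exact hinv g n
    rw [hmφ]; simp
  · intro h; exact absurd (Finset.mem_univ _) h


theorem indFun_one [Fintype G] (N : Subgroup G) (ϑ : N → ℂ) :
    indFun N ϑ 1 = (N.index : ℂ) * ϑ 1 := by
  rw [indFun_apply]
  have h1 : ∀ x : G, extendByZero N ϑ (x⁻¹ * 1 * x) = ϑ 1 := by
    intro x
    have : x⁻¹ * 1 * x = ((1 : N) : G) := by simp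
    rw [this, extendByZero_coe]
  rw [Finset.sum_congr rfl (fun x _ => h1 x), Finset.sum_const, Finset.card_univ,
    ← Nat.card_eq_fintype_card, nsmul_eq_mul, ← Subgroup.card_mul_index N]
  have hN : (Nat.card N : ℂ) ≠ 0 := by exact_mod_cast Nat.card_pos.ne'
  push_cast
  field_simp

/-- degree count for the induced character -/
theorem induced_degree_sum [Fintype G] [Fintype (IrrCharacter G)] (N : Subgroup G) {ϑ : N → ℂ}
    (hϑ : IsCharacter N ϑ) :
    ∃ m : IrrCharacter G → ℕ, (∀ ψ : IrrCharacter G,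
      classInner (indFun N ϑ) (ψ : G → ℂ) = (m ψ : ℂ)) ∧
      ∑ ψ : IrrCharacter G, (m ψ : ℂ) * (ψ : G → ℂ) 1 = (N.index : ℂ) * ϑ 1 := by
  obtain ⟨m, hm, hdec⟩ := exists_nat_decomp (isCharacter_indFun N hϑ)
  refine ⟨m, hm, ?_⟩
  rw [← indFun_one, hdec]
  simp

theorem result {G : Type*} [Group G] [Fintype G] (N : Subgroup G) [hN : N.Normal] [Fintype N] (χ : G → ℂ) (hχ : Cfsg.IsIrrCharacter G χ) (ϑ : N → ℂ) (hϑ : Cfsg.IsIrrCharacter N ϑ) (hcon : Cfsg.classInner (fun n : N => χ n) ϑ ≠ 0) : ((∃ e : ℕ, (fun n : N => χ n) = (e : ℂ) • ϑ ∧ e ^ 2 = N.index) ↔ ((∀ g : G, g ∉ N → χ g = 0) ∧ ∀ (g : G) (n : N), ϑ ⟨g * n * g⁻¹, hN.conj_mem (n : G) n.2 g⟩ = ϑ n)) ∧ ((∃ e : ℕ, (fun n : N => χ n) = (e : ℂ) • ϑ ∧ e ^ 2 = N.index) ↔ (∀ (g : G) (n : N), ϑ ⟨g * n * g⁻¹, hN.conj_mem (n : G) n.2 g⟩ = ϑ n ∧ ∀ ψ : G → ℂ, Cfsg.IsIrrCharacter G ψ → Cfsg.classInner (Cfsg.indFun N ϑ) ψ ≠ 0 → ψ = χ)) := by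
  classical
  have : Fintype (IrrCharacter G) := Fintype.ofFinite _
  have hχcf : IsClassFunction G χ := IsCharacter.isClassFunction (IsIrrCharacter.isCharacter hχ)
  have hGN : (Nat.card G : ℂ) = (Nat.card N : ℂ) * (N.index : ℂ) := by
    rw [← Subgroup.card_mul_index N]; push_cast; rfl
  have hNne : (Nat.card N : ℂ) ≠ 0 := by exact_mod_cast Nat.card_pos.ne'
  have hϑ1 : ϑ 1 ≠ 0 := Cfsg.Agent.Lib.Helper80.irr_one_ne_zero ⟨ϑ, hϑ⟩
  have hnormϑ : classInner ϑ ϑ = 1 := by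
    rw [classInner_irr hϑ hϑ, if_pos rfl]
  -- invariance from (a)
  have hinv_of_a : ∀ e : ℕ, (fun n : N => χ n) = (e : ℂ) • ϑ → e ^ 2 = N.index →
      ∀ (g : G) (n : N), ϑ ⟨g * n * g⁻¹, hN.conj_mem (n : G) n.2 g⟩ = ϑ n := by
    intro e he hidx g n
    have he0 : (e : ℂ) ≠ 0 := by
      have : e ≠ 0 := by
        intro h
        rw [h] at hidx
        exact Subgroup.index_ne_zero_of_finite (H := N) (by simpa using hidx.symm)
      exact_mod_cast this
    have h1 := congrFun he ⟨g * n * g⁻¹, hN.conj_mem (n : G) n.2 g⟩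
    have h2 := congrFun he n
    simp only [Pi.smul_apply, smul_eq_mul] at h1 h2
    have h3 : χ (g * n * g⁻¹) = χ n := hχcf n g
    rw [h3, h2] at h1
    exact (mul_left_cancel₀ he0 h1).symm
  -- norm of restriction under (a)
  have hnorm_of_a : ∀ e : ℕ, (fun n : N => χ n) = (e : ℂ) • ϑ →
      classInner (fun n : N => χ n) (fun n : N => χ n) = ((e ^ 2 : ℕ) : ℂ) := by
    intro e he
    rw [he, Cfsg.Agent.Lib.Helper3.classInner_smul_left, Cfsg.Agent.Lib.Helper3.classInner_smul_right, hnormϑ, Complex.conj_natCast]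
    push_cast; ring
  have hsplit := norm_restrict_add N hχ
  -- (a) ↔ (b)
  have hab : (∃ e : ℕ, (fun n : N => χ n) = (e : ℂ) • ϑ ∧ e ^ 2 = N.index) ↔
      ((∀ g : G, g ∉ N → χ g = 0) ∧
        ∀ (g : G) (n : N), ϑ ⟨g * n * g⁻¹, hN.conj_mem (n : G) n.2 g⟩ = ϑ n) := by
    constructor
    · rintro ⟨e, he, hidx⟩
      refine ⟨?_, hinv_of_a e he hidx⟩
      rw [hnorm_of_a e he, hidx, hGN] at hsplit
      have hT : ((∑ g ∈ Finset.univ.filter (fun g : G => g ∉ N), Complex.normSq (χ g) : ℝ) : ℂ)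
          = 0 := by linear_combination hsplit
      have hT' : ∑ g ∈ Finset.univ.filter (fun g : G => g ∉ N), Complex.normSq (χ g) = 0 := by
        exact_mod_cast hT
      intro g hg
      have := (Finset.sum_eq_zero_iff_of_nonneg (fun g _ => Complex.normSq_nonneg (χ g))).mp hT' g
        (Finset.mem_filter.mpr ⟨Finset.mem_univ _, hg⟩)
      exact Complex.normSq_eq_zero.mp this
    · rintro ⟨hvan, hinv⟩
      obtain ⟨e, -, he⟩ := restrict_eq_smul_of_invariant N hχ hϑ hcon hinv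
      refine ⟨e, he, ?_⟩
      have hT : ∑ g ∈ Finset.univ.filter (fun g : G => g ∉ N), Complex.normSq (χ g) = 0 := by
        apply Finset.sum_eq_zero
        intro g hg
        rw [hvan g (Finset.mem_filter.mp hg).2]; simp
      rw [hT, hnorm_of_a e he, hGN] at hsplit
      have : ((e ^ 2 : ℕ) : ℂ) = ((N.index : ℕ) : ℂ) := by
        have h := hsplit
        simp only [Complex.ofReal_zero, add_zero] at h
        exact mul_left_cancel₀ hNne h
      exact_mod_cast this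
  refine ⟨hab, ?_⟩
  -- data on the induced character
  obtain ⟨m, hm, hdeg⟩ := induced_degree_sum N (IsIrrCharacter.isCharacter hϑ)
  have hmχ : ∀ e : ℕ, (fun n : N => χ n) = (e : ℂ) • ϑ → m ⟨χ, hχ⟩ = e := by
    intro e he
    have h1 := hm ⟨χ, hχ⟩
    simp only at h1
    rw [frobenius_reciprocity N ϑ χ hχcf, he, Cfsg.Agent.Lib.Helper3.classInner_smul_right, hnormϑ,
      Complex.conj_natCast, mul_one] at h1
    exact_mod_cast h1.symm
  have hχ1 : ∀ e : ℕ, (fun n : N => χ n) = (e : ℂ) • ϑ → χ 1 = (e : ℂ) * ϑ 1 := by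
    intro e he
    have := congrFun he 1
    simpa using this
  have hpos : ∀ ψ : IrrCharacter G, ∃ d : ℕ, 0 < d ∧ (ψ : G → ℂ) 1 = (d : ℂ) :=
    fun ψ => Cfsg.Agent.Lib.Helper80.irr_one_eq_natCast ψ
  choose d hd0 hd using hpos
  obtain ⟨t, ht0, ht⟩ := Cfsg.Agent.Lib.Helper80.irr_one_eq_natCast (⟨ϑ, hϑ⟩ : IrrCharacter N)
  simp only at ht
  have hdegN : ∑ ψ : IrrCharacter G, m ψ * d ψ = N.index * t := by
    have : ((∑ ψ : IrrCharacter G, m ψ * d ψ : ℕ) : ℂ) = ((N.index * t : ℕ) : ℂ) := by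
      push_cast
      rw [← ht, ← hdeg]
      exact Finset.sum_congr rfl (fun ψ _ => by rw [hd])
    exact_mod_cast this
  have hsplitdeg := Finset.add_sum_erase Finset.univ (fun ψ : IrrCharacter G => m ψ * d ψ)
    (Finset.mem_univ (⟨χ, hχ⟩ : IrrCharacter G))
  rw [hdegN] at hsplitdeg
  constructor
  · rintro ⟨e, he, hidx⟩ g n
    refine ⟨hinv_of_a e he hidx g n, ?_⟩
    intro ψ hψ hne
    by_contra hψχ
    have hme := hmχ e he
    have hdχ : d ⟨χ, hχ⟩ = e * t := by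
      have h1 := hd ⟨χ, hχ⟩
      simp only at h1
      rw [hχ1 e he, ht] at h1
      exact_mod_cast h1.symm
    have hmd : m ⟨χ, hχ⟩ * d ⟨χ, hχ⟩ = N.index * t := by
      rw [hme, hdχ, ← hidx]; ring
    have hrest : ∑ ψ' ∈ Finset.univ.erase (⟨χ, hχ⟩ : IrrCharacter G), m ψ' * d ψ' = 0 := by
      rw [hmd] at hsplitdeg
      exact Nat.add_left_cancel (n := N.index * t) (by rw [add_zero]; exact hsplitdeg)
    have hψmem : (⟨ψ, hψ⟩ : IrrCharacter G) ∈ Finset.univ.erase (⟨χ, hχ⟩ : IrrCharacter G) := by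
      rw [Finset.mem_erase]
      exact ⟨fun h => hψχ (congrArg Subtype.val h), Finset.mem_univ _⟩
    have h0 := (Finset.sum_eq_zero_iff.mp hrest) _ hψmem
    have hm0 : m ⟨ψ, hψ⟩ = 0 := by
      rcases Nat.mul_eq_zero.mp h0 with h | h
      · exact h
      · exact absurd h (hd0 _).ne'
    apply hne
    have := hm ⟨ψ, hψ⟩
    simp only at this
    rw [this, hm0]; simp
  · intro hc
    have hinv : ∀ (g : G) (n : N), ϑ ⟨g * n * g⁻¹, hN.conj_mem (n : G) n.2 g⟩ = ϑ n :=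
      fun g n => (hc g n).1
    have huniq := (hc 1 1).2
    obtain ⟨e, -, he⟩ := restrict_eq_smul_of_invariant N hχ hϑ hcon hinv
    refine ⟨e, he, ?_⟩
    have hme := hmχ e he
    have hdχ : d ⟨χ, hχ⟩ = e * t := by
      have h1 := hd ⟨χ, hχ⟩
      simp only at h1
      rw [hχ1 e he, ht] at h1
      exact_mod_cast h1.symm
    have hrest : ∑ ψ' ∈ Finset.univ.erase (⟨χ, hχ⟩ : IrrCharacter G), m ψ' * d ψ' = 0 := by
      apply Finset.sum_eq_zero
      intro ψ' hψ'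
      have hne : ψ' ≠ ⟨χ, hχ⟩ := (Finset.mem_erase.mp hψ').1
      have hm0 : m ψ' = 0 := by
        by_contra h0
        apply hne
        apply Subtype.ext
        apply huniq ψ'.1 ψ'.2
        rw [hm ψ']
        exact_mod_cast h0
      rw [hm0, zero_mul]
    rw [hrest, hme, hdχ, add_zero] at hsplitdeg
    have : e ^ 2 * t = N.index * t := by rw [← hsplitdeg]; ring
    exact Nat.eq_of_mul_eq_mul_right ht0 this

end Cfsg.Agent.S0900
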