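import Cfsg.Statements.S0887
import Cfsg.Agent.Lib.Helper15.FiniteCover
import Cfsg.Agent.S0854
import Cfsg.Agent.S0900

set_option autoImplicit false
open Cfsg

namespace Cfsg.Agent.S0887

open Cfsg.Agent.Lib.Helper3 Cfsg.Agent.Lib.Helper15

/-- The inertia group of `ϑ`. -/
def inertia {G : Type*} [Group G] (N : Subgroup G) [hN : N.Normal] (ϑ : N → ℂ) : Subgroup G where
  carrier := {g | ∀ n : N, ϑ (MulAut.conjNormal g n) = ϑ n}
  one_mem' := by
    intro n
    simp
  mul_mem' := by
    intro a b ha hb n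
    rw [map_mul, MulAut.mul_apply, ha, hb]
  inv_mem' := by
    intro a ha n
    have := ha (MulAut.conjNormal a⁻¹ n)
    rw [← MulAut.mul_apply, ← map_mul, mul_inv_cancel, map_one, MulAut.one_apply] at this
    exact this.symm

theorem mem_inertia {G : Type*} [Group G] (N : Subgroup G) [hN : N.Normal] (ϑ : N → ℂ) (g : G) :
    g ∈ inertia N ϑ ↔ ∀ n : N, ϑ ⟨g * n * g⁻¹, hN.conj_mem (n : G) n.2 g⟩ = ϑ n := by
  constructor
  · intro h n
    have := h n
    rw [← this]
    congr 1
  · intro h n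
    have := h n
    rw [← this]
    congr 1

theorem le_inertia {G : Type*} [Group G] (N : Subgroup G) [hN : N.Normal] (ϑ : N → ℂ)
    (hϑ : IsIrrCharacter N ϑ) : N ≤ inertia N ϑ := by
  intro m hm
  rw [mem_inertia]
  intro n
  have := IsCharacter.isClassFunction (IsIrrCharacter.isCharacter hϑ) n ⟨m, hm⟩
  rw [← this]
  congr 1

/-- Let N be a normal subgroup of the finite group G, χ an irreducible character of G and ϑ an irreducible character of N having nonzero inner product with the restriction of χ. If χ 1 = c and ϑ 1 = d as natural numbers, then d divides c and c / d divides the index of N. -/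
theorem result {G : Type*} [Group G] [Fintype G] (N : Subgroup G) [N.Normal] [Fintype N] (χ : G → ℂ) (hχ : Cfsg.IsIrrCharacter G χ) (ϑ : N → ℂ) (hϑ : Cfsg.IsIrrCharacter N ϑ) (hcon : Cfsg.classInner (fun n : N => χ n) ϑ ≠ 0) (c d : ℕ) (hc : χ 1 = c) (hd : ϑ 1 = d) : d ∣ c ∧ c / d ∣ N.index := by
  classical
  have hN : N.Normal := inferInstance
  obtain ⟨T, hTdef⟩ : ∃ T : Subgroup G, T = inertia N ϑ := ⟨_, rfl⟩
  have : Fintype T := Fintype.ofFinite T
  have hT : ∀ g : G, g ∈ T ↔ ∀ n : N, ϑ ⟨g * n * g⁻¹, hN.conj_mem (n : G) n.2 g⟩ = ϑ n := by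
    intro g
    rw [hTdef]
    exact mem_inertia N ϑ g
  have hNT : N ≤ T := by
    rw [hTdef]
    exact le_inertia N ϑ hϑ
  obtain ⟨ψ, hψ, hψind, hψinner⟩ := Cfsg.Agent.S0854.result N ϑ hϑ T hT hNT χ hχ hcon
  -- the copy of N inside T
  have hN'n : (N.subgroupOf T).Normal := inferInstance
  have : Fintype (N.subgroupOf T) := Fintype.ofFinite _
  let e : N.subgroupOf T ≃* N := Subgroup.subgroupOfEquivOfLe hNT
  have hϑ' : IsIrrCharacter (N.subgroupOf T) (fun x => ϑ (e x)) :=
    Cfsg.Agent.Lib.Helper79.isIrrCharacter_comp_surjective hϑ e.toMonoidHom e.surjective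
  have hinv' : ∀ (g : T) (n : N.subgroupOf T),
      (fun x => ϑ (e x)) ⟨g * n * g⁻¹, hN'n.conj_mem (n : T) n.2 g⟩ = (fun x => ϑ (e x)) n := by
    intro g n
    have := (hT (g : G)).1 g.2 (e n)
    simp only
    rw [← this]
    congr 1
  have hcon' : classInner (fun x : N.subgroupOf T => ψ x) (fun x => ϑ (e x)) ≠ 0 := by
    have h1 := Cfsg.Agent.Lib.Helper75.classInner_comp_mulEquiv e
      (fun n : N => ψ ⟨(n : G), hNT n.2⟩) ϑ
    have h2 : (fun a : N.subgroupOf T => (fun n : N => ψ ⟨(n : G), hNT n.2⟩) (e a))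
        = fun x : N.subgroupOf T => ψ x := by
      funext a
      rfl
    rw [h2] at h1
    rw [h1, hψinner]
    exact hcon
  obtain ⟨k, -, hk⟩ := Cfsg.Agent.S0900.restrict_eq_smul_of_invariant (N.subgroupOf T) hψ hϑ'
    hcon' hinv'
  -- degrees
  have hψ1 : ψ 1 = (k : ℂ) * ϑ 1 := by
    have := congrFun hk 1
    simp only [Pi.smul_apply, smul_eq_mul, map_one] at this
    exact this
  -- the invariant case
  obtain ⟨m, ρ', hρ', hρ'char⟩ := hϑ'
  have hinvρ : ∀ (g : T) (x : N.subgroupOf T),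
      ρ'.character (MulAut.conjNormal g x) = ρ'.character x := by
    intro g x
    rw [hρ'char]
    have := hinv' g x
    simp only at this ⊢
    rw [← this]
    congr 2
  have hkdvd : k ∣ (N.subgroupOf T).index := by
    apply ratio_dvd_index_of_invariant (N.subgroupOf T) ρ' hρ' hinvρ ψ hψ
    · rw [hρ'char]
      exact hcon'
    · rw [hρ'char]
      simp only [map_one]
      exact hψ1
  -- conclusion
  have hχ1 : χ 1 = (T.index : ℂ) * ψ 1 := by
    rw [← hψind]
    exact Cfsg.Agent.S0900.indFun_one T ψ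
  have hceq : c = T.index * k * d := by
    have : (c : ℂ) = ((T.index * k * d : ℕ) : ℂ) := by
      rw [← hc, hχ1, hψ1, hd]
      push_cast
      ring
    exact_mod_cast this
  have hd0 : d ≠ 0 := by
    intro h0
    have h1 := Cfsg.Agent.Lib.Helper80.irr_one_ne_zero ⟨ϑ, hϑ⟩
    apply h1
    show ϑ 1 = 0
    rw [hd, h0, Nat.cast_zero]
  refine ⟨⟨T.index * k, by rw [hceq]; ring⟩, ?_⟩
  rw [hceq, Nat.mul_div_cancel _ (Nat.pos_of_ne_zero hd0)]
  have hidx : (N.subgroupOf T).index * T.index = N.index := Subgroup.relIndex_mul_index hNT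
  rw [← hidx, mul_comm]
  exact Nat.mul_dvd_mul_right hkdvd _

end Cfsg.Agent.S0887
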