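import Cfsg.Statements.S0862
import Cfsg.Agent.Lib.Helper15.Gallagher
import Cfsg.Agent.Lib.Helper15.DetChar
import Cfsg.Agent.Lib.Helper79.Basic
import Cfsg.Agent.Lib.Helper80.IrrApi

set_option autoImplicit false
open Cfsg

namespace Cfsg.Agent.S0862

open Cfsg.Agent.Lib.Helper3 Cfsg.Agent.Lib.Helper15

/-- A homomorphism to `ℂˣ` trivial on the normal subgroup `N` has order dividing `|G:N|`. -/
theorem pow_index_eq_one {G : Type*} [Group G] (N : Subgroup G) [N.Normal] (γ : G →* ℂˣ)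
    (hγ : ∀ n : N, γ n = 1) (g : G) : γ g ^ N.index = 1 := by
  rw [← map_pow]
  exact hγ ⟨_, N.pow_index_mem g⟩

/-- In a group, an element killed by two coprime exponents is trivial. -/
theorem eq_one_of_pow_coprime {A : Type*} [Group A] (x : A) (m n : ℕ) (hmn : Nat.Coprime m n)
    (hm : x ^ m = 1) (hn : x ^ n = 1) : x = 1 := by
  have h1 : orderOf x ∣ m := orderOf_dvd_of_pow_eq_one hm
  have h2 : orderOf x ∣ n := orderOf_dvd_of_pow_eq_one hn
  have h3 : orderOf x ∣ 1 := by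
    rw [← hmn]
    exact Nat.dvd_gcd h1 h2
  exact orderOf_eq_one_iff.1 (Nat.dvd_one.1 h3)

/-- Unique `d`-th roots in a group of exponent dividing `m` coprime to `d`. -/
theorem exists_root_of_coprime {A : Type*} [CommGroup A] (x : A) (m d : ℕ) (hmd : Nat.Coprime m d)
    (hm : x ^ m = 1) : ∃ k : ℤ, (x ^ k) ^ d = x := by
  refine ⟨Nat.gcdB m d, ?_⟩
  have h1 : (1 : ℤ) = m * Nat.gcdA m d + d * Nat.gcdB m d := by
    have := Nat.gcd_eq_gcd_ab m d
    rw [hmd] at this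
    exact_mod_cast this
  have h2 : x ^ ((m : ℤ) * Nat.gcdA m d) = 1 := by
    rw [zpow_mul, zpow_natCast, hm, one_zpow]
  calc (x ^ Nat.gcdB m d) ^ d = x ^ ((d : ℤ) * Nat.gcdB m d) := by
        rw [← zpow_natCast, ← zpow_mul, mul_comm]
    _ = x ^ ((m : ℤ) * Nat.gcdA m d) * x ^ ((d : ℤ) * Nat.gcdB m d) := by rw [h2, one_mul]
    _ = x ^ (1 : ℤ) := by rw [← zpow_add, ← h1]
    _ = x := zpow_one x

/-- Let N be a normal subgroup of the finite group G and ϑ an irreducible character of N of degree d coprime to the index of N, which is the restriction of some irreducible character of G. Let μ be a character of G of degree 1 whose restriction to N is the determinantal character of ϑ. Then there is exactly one irreducible character χ of G restricting to ϑ whose determinantal character is μ. -/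
theorem result {G : Type*} [Group G] [Finite G] (N : Subgroup G) [N.Normal] (ϑ : N → ℂ) (hϑ : Cfsg.IsIrrCharacter N ϑ) (d : ℕ) (hd : ϑ 1 = d) (hcop : Nat.Coprime N.index d) (hext : ∃ η : G → ℂ, Cfsg.IsIrrCharacter G η ∧ (∀ n : N, η n = ϑ n)) (μ : G → ℂ) (hμ : Cfsg.IsCharacter G μ ∧ μ 1 = 1) (hμN : ∀ n : N, μ n = Cfsg.detChar ϑ n) : ∃! χ : G → ℂ, Cfsg.IsIrrCharacter G χ ∧ (∀ n : N, χ n = ϑ n) ∧ Cfsg.detChar χ = μ := by
  classical
  have : Fintype G := Fintype.ofFinite G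
  have : Fintype N := Fintype.ofFinite N
  obtain ⟨η₀, hη₀, hη₀N⟩ := hext
  have hη₀res : (fun n : N => η₀ n) = ϑ := funext hη₀N
  have hη₀N' : IsIrrCharacter N (fun n : N => η₀ n) := by rw [hη₀res]; exact hϑ
  have hη₀c : IsCharacter G η₀ := IsIrrCharacter.isCharacter hη₀
  have hη₀1 : η₀ 1 = d := by
    have := hη₀N 1
    rw [hd] at this
    exact this
  have hd0 : (d : ℂ) ≠ 0 := by
    rw [← hd]
    exact Cfsg.Agent.Lib.Helper80.irr_one_ne_zero ⟨ϑ, hϑ⟩
  -- the homs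
  obtain ⟨M, hM⟩ : ∃ M : G →* ℂˣ, ∀ g, ((M g : ℂˣ) : ℂ) = μ g :=
    ⟨linCharUnitsHom hμ, fun g => rfl⟩
  obtain ⟨L₀, hL₀⟩ : ∃ L₀ : G →* ℂˣ, ∀ g, ((L₀ g : ℂˣ) : ℂ) = detChar η₀ g :=
    ⟨linCharUnitsHom (detChar_isLinear η₀), fun g => rfl⟩
  obtain ⟨ν, hν⟩ : ∃ ν : G →* ℂˣ, ∀ g, ν g = M g * (L₀ g)⁻¹ := ⟨M * L₀⁻¹, fun g => rfl⟩
  have hνN : ∀ n : N, ν n = 1 := by
    intro n
    rw [hν, mul_inv_eq_one]
    apply Units.ext
    rw [hM, hL₀, hμN, ← hη₀res, detChar_restrict hη₀c N n]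
  have hνidx : ∀ g, ν g ^ N.index = 1 := pow_index_eq_one N ν hνN
  -- existence
  have hroot : ∀ g, ∃ k : ℤ, (ν g ^ k) ^ d = ν g :=
    fun g => exists_root_of_coprime (ν g) N.index d hcop (hνidx g)
  obtain ⟨β, hβ⟩ : ∃ β : G →* ℂˣ, ∀ g, β g = ν g ^ (Nat.gcdB N.index d) :=
    ⟨(zpowGroupHom (Nat.gcdB N.index d)).comp ν, fun g => rfl⟩
  have hβd : ∀ g, β g ^ d = ν g := by
    intro g
    rw [hβ]
    have h1 : (1 : ℤ) = N.index * Nat.gcdA N.index d + d * Nat.gcdB N.index d := by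
      have := Nat.gcd_eq_gcd_ab N.index d
      rw [hcop] at this
      exact_mod_cast this
    have h2 : ν g ^ ((N.index : ℤ) * Nat.gcdA N.index d) = 1 := by
      rw [zpow_mul, zpow_natCast, hνidx, one_zpow]
    calc (ν g ^ Nat.gcdB N.index d) ^ d = ν g ^ ((d : ℤ) * Nat.gcdB N.index d) := by
          rw [← zpow_natCast, ← zpow_mul, mul_comm]
      _ = ν g ^ ((N.index : ℤ) * Nat.gcdA N.index d) * ν g ^ ((d : ℤ) * Nat.gcdB N.index d) := by
          rw [h2, one_mul]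
      _ = ν g ^ (1 : ℤ) := by rw [← zpow_add, ← h1]
      _ = ν g := zpow_one _
  have hβN : ∀ n : N, β n = 1 := by
    intro n
    rw [hβ, hνN, one_zpow]
  have hβcoset : ∀ (n : N) (g : G), (fun x => ((β x : ℂˣ) : ℂ)) ((n : G) * g)
      = (fun x => ((β x : ℂˣ) : ℂ)) g := by
    intro n g
    simp only [map_mul, hβN, one_mul]
  have hχdef : (fun g => ((β g : ℂˣ) : ℂ) * η₀ g) = (fun x => ((β x : ℂˣ) : ℂ)) * η₀ := rfl
  refine ⟨fun g => ((β g : ℂˣ) : ℂ) * η₀ g, ⟨?_, ?_, ?_⟩, ?_⟩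
  · rw [hχdef]
    exact isIrrCharacter_mul_ext N hη₀ hη₀N' (Cfsg.Agent.Lib.Helper79.isIrrCharacter_of_monoidHom β)
      hβcoset
  · intro n
    simp only [hβN, Units.val_one, one_mul, hη₀N]
  · funext g
    rw [detChar_twist hη₀c d hη₀1 β g, ← Units.val_pow_eq_pow_val, hβd, hν, ← hL₀, ← hM,
      ← Units.val_mul, inv_mul_cancel_right]
  · -- uniqueness
    rintro χ' ⟨hχ', hχ'N, hχ'det⟩
    have hne : classInner (fun n : N => χ' n) (fun n : N => η₀ n) ≠ 0 := by
      rw [hη₀res, funext hχ'N, classInner_irr hϑ hϑ, if_pos rfl]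
      exact one_ne_zero
    obtain ⟨φ', hφ', hφ'N, hχ'eq, _⟩ := exists_mul_ext N hη₀ hη₀N' hχ' hne
    have hφ'1 : φ' 1 = 1 := by
      have h1 : χ' 1 = d := by
        have := hχ'N 1
        rw [hd] at this
        exact this
      rw [hχ'eq, Pi.mul_apply, hη₀1] at h1
      exact mul_right_cancel₀ hd0 (h1.trans (one_mul _).symm)
    obtain ⟨β', hβ'⟩ : ∃ β' : G →* ℂˣ, ∀ g, ((β' g : ℂˣ) : ℂ) = φ' g :=
      ⟨linCharUnitsHom ⟨IsIrrCharacter.isCharacter hφ', hφ'1⟩, fun g => rfl⟩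
    have hβ'N : ∀ n : N, β' n = 1 := by
      intro n
      apply Units.ext
      rw [hβ', Units.val_one]
      have := hφ'N n 1
      rw [mul_one] at this
      rw [this, hφ'1]
    have hβ'd : ∀ g, β' g ^ d = ν g := by
      intro g
      have h1 := congrFun hχ'det g
      have h2 : χ' = fun x => ((β' x : ℂˣ) : ℂ) * η₀ x := by
        rw [hχ'eq]
        funext x
        rw [Pi.mul_apply, hβ']
      rw [h2, detChar_twist hη₀c d hη₀1 β' g] at h1
      rw [hν, eq_mul_inv_iff_mul_eq]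
      apply Units.ext
      rw [Units.val_mul, Units.val_pow_eq_pow_val, hL₀, hM]
      exact h1
    have hββ' : ∀ g, β' g = β g := by
      intro g
      have h1 : (β' g * (β g)⁻¹) ^ d = 1 := by
        rw [mul_pow, inv_pow, hβ'd, hβd, mul_inv_cancel]
      have h2 : (β' g * (β g)⁻¹) ^ N.index = 1 := by
        have := pow_index_eq_one N (β' * β⁻¹) (by
          intro n
          rw [MonoidHom.mul_apply, MonoidHom.inv_apply, hβ'N, hβN, inv_one, mul_one]) g
        exact this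
      have h3 := eq_one_of_pow_coprime _ N.index d hcop h2 h1
      exact mul_inv_eq_one.1 h3
    rw [hχ'eq]
    funext g
    rw [Pi.mul_apply, ← hβ', hββ']

end Cfsg.Agent.S0862
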