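import Cfsg.Statements.S0865
import Cfsg.Agent.Lib.Helper15.TransferLin

set_option autoImplicit false
open Cfsg

namespace Cfsg.Agent.S0865

open Cfsg.Agent.Lib.Helper15 MonoidHom

theorem result {G : Type*} [Group G] [Finite G] (N : Subgroup G) [hN : N.Normal] (lam : N → ℂ) (hlam : Cfsg.IsCharacter N lam ∧ lam 1 = 1) (hinv : ∀ (g : G) (n : N), lam ⟨g * n * g⁻¹, hN.conj_mem (n : G) n.2 g⟩ = lam n) (hcop : Nat.Coprime N.index (orderOf lam)) : ∃ μ : G → ℂ, (Cfsg.IsCharacter G μ ∧ μ 1 = 1 ∧ (∀ n : N, μ n = lam n) ∧ orderOf μ = orderOf lam) ∧ ∀ μ' : G → ℂ, Cfsg.IsCharacter G μ' ∧ μ' 1 = 1 → (∀ n : N, μ' n = lam n) → Nat.Coprime N.index (orderOf μ') → μ' = μ := by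
  classical
  set m := N.index with hm
  set o := orderOf lam with ho
  let φ : N →* ℂˣ := linCharUnitsHom hlam
  have hφ : ∀ n : N, ((φ n : ℂˣ) : ℂ) = lam n := fun n => rfl
  have hφinv : ∀ (g : G) (n : N), φ ⟨g * n * g⁻¹, hN.conj_mem (n : G) n.2 g⟩ = φ n := by
    intro g n
    apply Units.ext
    rw [hφ, hφ, hinv]
  let T : G →* ℂˣ := transfer φ
  have hTN : ∀ n : N, T (n : G) = φ n ^ m := transfer_eq_pow_of_invariant φ hφinv
  -- lam ^ o = 1
  have hlamo : ∀ n : N, lam n ^ o = 1 := by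
    intro n
    have := congrFun (pow_orderOf_eq_one lam) n
    simpa using this
  have hφo : ∀ n : N, φ n ^ o = 1 := by
    intro n
    apply Units.ext
    rw [Units.val_pow_eq_pow_val, hφ, hlamo, Units.val_one]
  -- Bezout
  have hbez : (m : ℤ) * Nat.gcdA m o + (o : ℤ) * Nat.gcdB m o = 1 := by
    have := Nat.gcd_eq_gcd_ab m o
    rw [hcop] at this
    simpa using this.symm
  set a : ℤ := Nat.gcdA m o with ha
  set b : ℤ := Nat.gcdB m o with hb
  let ψu : G →* ℂˣ := (zpowGroupHom a).comp T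
  let ψ : G →* ℂ := (Units.coeHom ℂ).comp ψu
  have hψ := isCharacter_of_hom ψ
  have hψu : ∀ g : G, ψ g = ((T g ^ a : ℂˣ) : ℂ) := fun g => rfl
  have hψN : ∀ n : N, ψ (n : G) = lam n := by
    intro n
    rw [hψu, hTN, ← hφ]
    congr 1
    rw [← zpow_natCast, ← zpow_mul]
    have : (m : ℤ) * a = 1 - o * b := by linarith
    rw [this, zpow_sub, zpow_one, zpow_mul, zpow_natCast, hφo, one_zpow, inv_one, mul_one]
  -- order computations
  have hpowfun : ∀ (f : G → ℂ) (k : ℕ), f ^ k = 1 ↔ ∀ g, f g ^ k = 1 := by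
    intro f k
    constructor
    · intro h g
      have := congrFun h g
      simpa using this
    · intro h
      funext g
      simpa using h g
  have hpowfunN : ∀ (f : N → ℂ) (k : ℕ), f ^ k = 1 ↔ ∀ g, f g ^ k = 1 := by
    intro f k
    constructor
    · intro h g
      have := congrFun h g
      simpa using this
    · intro h
      funext g
      simpa using h g
  have hord : orderOf (fun g => ψ g) = o := by
    rw [ho]
    apply orderOf_eq_orderOf_iff.mpr
    intro k
    rw [hpowfun, hpowfunN]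
    constructor
    · intro h n
      rw [← hψN]
      exact h n
    · intro h g
      have hφk : ∀ n : N, φ n ^ k = 1 := by
        intro n
        apply Units.ext
        rw [Units.val_pow_eq_pow_val, hφ, h, Units.val_one]
      have hT : T g ^ k = 1 := transfer_pow_eq_one φ k hφk g
      show ψ g ^ k = 1
      rw [hψu, ← Units.val_pow_eq_pow_val, ← zpow_natCast, ← zpow_mul, mul_comm, zpow_mul,
        zpow_natCast, hT, one_zpow, Units.val_one]
  refine ⟨fun g => ψ g, ⟨hψ.1, hψ.2, hψN, hord⟩, ?_⟩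
  intro μ' hμ' hμ'N hcop'
  funext g
  set o' := orderOf μ' with ho'
  have h1 : μ' g ^ o' = 1 := by
    have := congrFun (pow_orderOf_eq_one μ') g
    simpa using this
  have h2 : ψ g ^ o = 1 := by
    have := congrFun (pow_orderOf_eq_one (fun g => ψ g)) g
    rw [hord] at this
    simpa using this
  have hgm : g ^ m ∈ N := N.pow_index_mem g
  have hne : ψ g ≠ 0 := linChar_ne_zero hψ g
  set x : ℂ := μ' g / ψ g with hx
  have hxm : x ^ m = 1 := by
    have e0 : μ' g ^ m = μ' (g ^ m) := by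
      rw [← linCharHom_apply hμ', ← linCharHom_apply hμ', map_pow]
    rw [hx, div_pow, ← map_pow ψ, e0]
    have e1 := hμ'N ⟨g ^ m, hgm⟩
    have e2 := hψN ⟨g ^ m, hgm⟩
    simp only at e1 e2
    rw [e1, e2]
    have : lam ⟨g ^ m, hgm⟩ ≠ 0 := linChar_ne_zero hlam _
    exact div_self this
  have hxo : x ^ (o' * o) = 1 := by
    rw [hx, div_pow, pow_mul, h1, one_pow, mul_comm, pow_mul, h2, one_pow, div_one]
  have hcop2 : Nat.Coprime m (o' * o) := Nat.Coprime.mul_right hcop' hcop
  have hx1 : x = 1 := (pow_eq_one_iff_of_coprime hcop2).mp ⟨hxm, hxo⟩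
  rw [hx, div_eq_one_iff_eq hne] at hx1
  exact hx1

end Cfsg.Agent.S0865
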