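import Cfsg.Statements.S0886
import Cfsg.Agent.Lib.Helper3.Decomp
import Cfsg.Agent.Lib.Helper80.Schur
import Cfsg.Agent.Lib.Helper79.Basic

set_option autoImplicit false
open Cfsg

namespace Cfsg.Agent.S0886

section Abstract
variable {G U : Type*} [Group G] [Group U] (N : Subgroup G) [hN : N.Normal] (R : N →* U)

/-- pairs `(a, t)` such that conjugation by `t` on `R(N)` matches conjugation by `a` on `N`. -/
def compat : Subgroup (G × U) where
  carrier := {x | ∀ n : N, x.2 * R n * x.2⁻¹ = R (MulAut.conjNormal x.1 n)}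
  one_mem' := by
    intro n
    simp
  mul_mem' := by
    intro x y hx hy n
    have hx' := hx (MulAut.conjNormal y.1 n)
    have hy' := hy n
    simp only [Prod.fst_mul, Prod.snd_mul, map_mul, MulAut.mul_apply, mul_inv_rev]
    rw [← hx', ← hy']
    group
  inv_mem' := by
    intro x hx n
    have hx' := hx (MulAut.conjNormal x.1⁻¹ n)
    have h1 : MulAut.conjNormal x.1 (MulAut.conjNormal x.1⁻¹ n) = n := by
      rw [← MulAut.mul_apply, ← map_mul]
      simp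
    rw [h1] at hx'
    simp only [Prod.fst_inv, Prod.snd_inv, inv_inv]
    rw [← hx']
    group

theorem mem_compat (a : G) (t : U) :
    (a, t) ∈ compat N R ↔ ∀ n : N, t * R n * t⁻¹ = R (MulAut.conjNormal a n) := Iff.rfl

theorem self_mem_compat (n₀ : N) : ((n₀ : G), R n₀) ∈ compat N R := by
  rw [mem_compat]
  intro n
  rw [← map_inv, ← map_mul, ← map_mul]
  congr 1

theorem exists_extension (g₀ : G) (T : U) (hT : (g₀, T) ∈ compat N R)
    (h2 : ∀ (i : ℤ) (hi : g₀ ^ i ∈ N), T ^ i = R ⟨g₀ ^ i, hi⟩)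
    (h3 : ∀ g : G, ∃ (n : N) (i : ℤ), g = n * g₀ ^ i) :
    ∃ R' : G →* U, ∀ n : N, R' n = R n := by
  -- compatibility for all powers
  have hpow : ∀ (i : ℤ) (n : N), T ^ i * R n * (T ^ i)⁻¹ = R (MulAut.conjNormal (g₀ ^ i) n) := by
    intro i
    have := (compat N R).zpow_mem hT i
    rw [Prod.pow_def] at this
    exact (mem_compat N R _ _).1 this
  -- well-definedness
  have hW : ∀ (n n' : N) (i j : ℤ), (n : G) * g₀ ^ i = n' * g₀ ^ j → R n * T ^ i = R n' * T ^ j := by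
    intro n n' i j h
    have h1 : g₀ ^ (i - j) = ((n⁻¹ * n' : N) : G) := by
      rw [zpow_sub, Subgroup.coe_mul, Subgroup.coe_inv]
      rw [mul_inv_eq_iff_eq_mul, mul_assoc, ← h, ← mul_assoc, inv_mul_cancel, one_mul]
    have hi : g₀ ^ (i - j) ∈ N := by rw [h1]; exact (n⁻¹ * n').2
    have h4 := h2 (i - j) hi
    have h5 : (⟨g₀ ^ (i - j), hi⟩ : N) = n⁻¹ * n' := Subtype.ext h1
    rw [h5, map_mul, map_inv] at h4
    have : T ^ i = T ^ (i - j) * T ^ j := by rw [← zpow_add]; congr 1; ring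
    rw [this, h4]
    group
  choose nn ii hni using h3
  refine ⟨MonoidHom.mk' (fun g => R (nn g) * T ^ (ii g)) ?_, ?_⟩
  · intro a b
    have h1 : ((nn (a * b) : N) : G) * g₀ ^ (ii (a * b))
        = ((nn a * MulAut.conjNormal (g₀ ^ (ii a)) (nn b) : N) : G) * g₀ ^ (ii a + ii b) := by
      rw [← hni (a * b)]
      conv_lhs => rw [hni a, hni b]
      rw [Subgroup.coe_mul, MulAut.conjNormal_apply, zpow_add]
      group
    rw [hW _ _ _ _ h1, map_mul, ← hpow, zpow_add]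
    group
  · intro n
    show R (nn n) * T ^ (ii (n : G)) = R n
    have h1 : ((nn (n : G) : N) : G) * g₀ ^ (ii (n : G)) = (n : G) * g₀ ^ (0 : ℤ) := by
      rw [← hni]; simp
    rw [hW _ _ _ _ h1]
    simp

end Abstract

section Rep

variable {G : Type*} [Group G] [Finite G] (N : Subgroup G) [hN : N.Normal]

theorem exists_rep_extension {V : Type*} [AddCommGroup V] [Module ℂ V] [FiniteDimensional ℂ V]
    (hcyc : IsCyclic (G ⧸ N)) (ρ : Representation ℂ N V) (hρ : ρ.IsIrreducible)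
    (hinv : ∀ (g : G) (n : N), ρ.character (MulAut.conjNormal g n) = ρ.character n) :
    ∃ ρ' : Representation ℂ G V, ρ'.IsIrreducible ∧ ∀ n : N, ρ' n = ρ n := by
  classical
  have := Fintype.ofFinite N
  have := hρ
  obtain ⟨q, hq⟩ := hcyc.exists_generator
  obtain ⟨g₀, rfl⟩ := QuotientGroup.mk_surjective q
  obtain ⟨R, hR⟩ : ∃ R : N →* (V →ₗ[ℂ] V)ˣ, R = ρ.asGroupHom := ⟨_, rfl⟩
  have hRc : ∀ n : N, ((R n : (V →ₗ[ℂ] V)ˣ) : V →ₗ[ℂ] V) = ρ n := by
    intro n; rw [hR, Representation.asGroupHom_apply]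
  -- the conjugate representation
  let ρc : Representation ℂ N V := ρ.comp (MulAut.conjNormal g₀ : MulAut N).toMonoidHom
  have hρc : ∀ n : N, ρc n = ρ (MulAut.conjNormal g₀ n) := fun n => rfl
  have hchar : ρ.character = ρc.character := by
    ext n
    have := hinv g₀ n
    unfold Representation.character at this ⊢
    rw [hρc, this]
  obtain ⟨φ⟩ := Cfsg.Agent.Lib.Helper3.nonempty_equiv_of_character_eq ρ ρc hchar
  let T₀ : (V →ₗ[ℂ] V)ˣ := LinearMap.GeneralLinearGroup.ofLinearEquiv φ.toLinearEquiv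
  have hT₀ : (g₀, T₀) ∈ compat N R := by
    rw [mem_compat]
    intro n
    rw [mul_inv_eq_iff_eq_mul]
    apply Units.ext
    rw [Units.val_mul, Units.val_mul, hRc, hRc]
    have := φ.isIntertwining' n
    rw [hρc] at this
    exact this
  -- the order of g₀ modulo N
  obtain ⟨m, hmdef⟩ : ∃ m : ℕ, m = orderOf (g₀ : G ⧸ N) := ⟨_, rfl⟩
  have hm : 0 < m := by rw [hmdef]; exact orderOf_pos _
  have hgm : g₀ ^ m ∈ N := by
    rw [← QuotientGroup.eq_one_iff, QuotientGroup.mk_pow, hmdef, pow_orderOf_eq_one]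
  obtain ⟨n₀, hn₀⟩ : ∃ n₀ : N, n₀ = ⟨g₀ ^ m, hgm⟩ := ⟨_, rfl⟩
  have hn₀c : (n₀ : G) = g₀ ^ m := by rw [hn₀]
  -- C = R(n₀)⁻¹ T₀^m commutes with R
  obtain ⟨C, hC⟩ : ∃ C : (V →ₗ[ℂ] V)ˣ, C = (R n₀)⁻¹ * T₀ ^ m := ⟨_, rfl⟩
  have hC1 : ((1 : G), C) ∈ compat N R := by
    have h1 := mul_mem (inv_mem (self_mem_compat N R n₀)) (pow_mem hT₀ m)
    have h2 : ((n₀ : G), R n₀)⁻¹ * (g₀, T₀) ^ m = ((1 : G), C) := by
      rw [hC, hn₀c]
      ext <;> simp
    rwa [h2] at h1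
  have hCcomm : ∀ n : N, C * R n = R n * C := by
    intro n
    have := (mem_compat N R _ _).1 hC1 n
    rw [map_one, MulAut.one_apply, mul_inv_eq_iff_eq_mul] at this
    exact this
  have hCcomm' : ∀ n : N, (C : V →ₗ[ℂ] V) ∘ₗ ρ n = ρ n ∘ₗ (C : V →ₗ[ℂ] V) := by
    intro n
    have := congrArg Units.val (hCcomm n)
    rw [Units.val_mul, Units.val_mul, hRc] at this
    exact this
  obtain ⟨c₀, hc₀⟩ := Cfsg.Agent.Lib.Helper80.schur_scalar ρ (C : V →ₗ[ℂ] V) hCcomm'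
  obtain ⟨c, hc0, hc⟩ : ∃ c : ℂ, c ≠ 0 ∧ (C : V →ₗ[ℂ] V) = c • LinearMap.id := by
    by_cases h0 : c₀ = 0
    · refine ⟨1, one_ne_zero, ?_⟩
      have h1 : (C : V →ₗ[ℂ] V) = 0 := by rw [hc₀, h0, zero_smul]
      have h2 : (1 : V →ₗ[ℂ] V) = 0 := by
        rw [← Units.mul_inv C, h1, zero_mul]
      have h3 : ∀ f : V →ₗ[ℂ] V, f = 0 := by
        intro f
        rw [← mul_one f, h2, mul_zero]
      rw [h3 (C : V →ₗ[ℂ] V), h3 ((1 : ℂ) • LinearMap.id)]
    · exact ⟨c₀, h0, hc₀⟩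
  obtain ⟨μ, hμ⟩ := IsAlgClosed.exists_pow_nat_eq c hm
  have hμ0 : μ ≠ 0 := by
    intro h
    apply hc0
    rw [← hμ, h, zero_pow hm.ne']
  let z : (V →ₗ[ℂ] V)ˣ :=
    Units.map (algebraMap ℂ (V →ₗ[ℂ] V)).toMonoidHom (Units.mk0 μ⁻¹ (inv_ne_zero hμ0))
  have hzval : (z : V →ₗ[ℂ] V) = algebraMap ℂ (V →ₗ[ℂ] V) μ⁻¹ := rfl
  have hz : ∀ t : (V →ₗ[ℂ] V)ˣ, z * t = t * z := by
    intro t
    apply Units.ext
    rw [Units.val_mul, Units.val_mul, hzval]
    exact Algebra.commutes _ _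
  have hz1 : ((1 : G), z) ∈ compat N R := by
    rw [mem_compat]
    intro n
    rw [map_one, MulAut.one_apply, hz, mul_inv_cancel_right]
  have hT : (g₀, z * T₀) ∈ compat N R := by
    have := mul_mem hz1 hT₀
    simpa using this
  have hTm : (z * T₀) ^ m = R n₀ := by
    have h1 : (z * T₀) ^ m = z ^ m * T₀ ^ m := (show Commute z T₀ from hz T₀).mul_pow m
    have h2 : T₀ ^ m = R n₀ * C := by rw [hC]; group
    have h3 : z ^ m * C = 1 := by
      apply Units.ext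
      rw [Units.val_mul, Units.val_pow_eq_pow_val, hzval, hc, ← map_pow, Units.val_one,
        Algebra.algebraMap_eq_smul_one, smul_mul_assoc, one_mul, smul_smul, inv_pow, hμ,
        inv_mul_cancel₀ hc0, one_smul]
      rfl
    have h4 : z ^ m * R n₀ = R n₀ * z ^ m := ((show Commute z (R n₀) from hz _).pow_left m).eq
    rw [h1, h2, ← mul_assoc, h4, mul_assoc, h3, mul_one]
  have h2 : ∀ (i : ℤ) (hi : g₀ ^ i ∈ N), (z * T₀) ^ i = R ⟨g₀ ^ i, hi⟩ := by
    intro i hi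
    have h1 : ((g₀ : G ⧸ N)) ^ i = 1 := by
      rw [← QuotientGroup.mk_zpow, QuotientGroup.eq_one_iff]; exact hi
    rw [← orderOf_dvd_iff_zpow_eq_one, ← hmdef] at h1
    obtain ⟨k, rfl⟩ := h1
    rw [zpow_mul, zpow_natCast, hTm, ← map_zpow]
    congr 1
    apply Subtype.ext
    rw [Subgroup.coe_zpow, hn₀c]
    show (g₀ ^ m) ^ k = g₀ ^ ((m : ℤ) * k)
    rw [zpow_mul, zpow_natCast]
  have h3 : ∀ g : G, ∃ (n : N) (i : ℤ), g = n * g₀ ^ i := by
    intro g
    obtain ⟨i, hi⟩ := Subgroup.mem_zpowers_iff.1 (hq (g : G ⧸ N))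
    have h1 : g * (g₀ ^ i)⁻¹ ∈ N := by
      rw [← QuotientGroup.eq_one_iff, QuotientGroup.mk_mul, QuotientGroup.mk_inv,
        QuotientGroup.mk_zpow, hi, mul_inv_cancel]
    exact ⟨⟨_, h1⟩, i, by simp⟩
  obtain ⟨R', hR'⟩ := exists_extension N R g₀ (z * T₀) hT h2 h3
  let ρ' : Representation ℂ G V := (Units.coeHom (V →ₗ[ℂ] V)).comp R'
  have hρ' : ∀ n : N, ρ' n = ρ n := by
    intro n
    show ((R' n : (V →ₗ[ℂ] V)ˣ) : V →ₗ[ℂ] V) = ρ n
    rw [hR', hRc]
  refine ⟨ρ', ?_, hρ'⟩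
  exact Cfsg.Agent.Lib.Helper79.isIrreducible_of_forall_exists ρ ρ' (fun n => ⟨n, hρ' n⟩) hρ

end Rep

/-- Let N be a normal subgroup of the finite group G with G / N cyclic, and ϑ an irreducible character of N invariant under conjugation by G. Then ϑ is the restriction of some irreducible character of G. -/
theorem result {G : Type*} [Group G] [Finite G] (N : Subgroup G) [hN : N.Normal] (hcyc : IsCyclic (G ⧸ N)) (ϑ : N → ℂ) (hϑ : Cfsg.IsIrrCharacter N ϑ) (hinv : ∀ (g : G) (n : N), ϑ ⟨g * n * g⁻¹, hN.conj_mem (n : G) n.2 g⟩ = ϑ n) : ∃ χ : G → ℂ, Cfsg.IsIrrCharacter G χ ∧ ∀ n : N, χ n = ϑ n := by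
  obtain ⟨d, ρ, hρ, rfl⟩ := hϑ
  obtain ⟨ρ', hρ', hres⟩ := exists_rep_extension N hcyc ρ hρ (by
    intro g n
    have := hinv g n
    convert this using 2
    apply Subtype.ext
    rw [MulAut.conjNormal_apply])
  refine ⟨ρ'.character, ⟨d, ρ', hρ', rfl⟩, ?_⟩
  intro n
  unfold Representation.character
  rw [hres]

end Cfsg.Agent.S0886
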