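import Cfsg.Statements.S0863
import Cfsg.Agent.S0862
import Cfsg.Agent.S0886

set_option autoImplicit false
open Cfsg

namespace Cfsg.Agent.S0863

open Cfsg.Agent.Lib.Helper3 Cfsg.Agent.Lib.Helper15

theorem exists_normal_prime_index {G : Type*} [Group G] [Finite G] (N : Subgroup G) [N.Normal]
    (hsolv : Group.IsSolvable (G ⧸ N)) (hne : N ≠ ⊤) :
    ∃ M : Subgroup G, M.Normal ∧ N ≤ M ∧ M.index.Prime := by
  have hnt : Nontrivial (G ⧸ N) := by
    by_contra h
    rw [not_nontrivial_iff_subsingleton] at h
    exact hne (QuotientGroup.subgroup_eq_top_of_subsingleton N h)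
  have hcomm : commutator (G ⧸ N) ≠ ⊤ := (Group.IsSolvable.commutator_lt_top_of_nontrivial (G ⧸ N)).ne
  obtain ⟨φ, p, hp, hφ⟩ := Cfsg.Agent.Lib.Helper79.exists_monoidHom_ker_index_prime hcomm
  refine ⟨(φ.comp (QuotientGroup.mk' N)).ker, MonoidHom.normal_ker _, ?_, ?_⟩
  · intro n hn
    rw [MonoidHom.mem_ker, MonoidHom.comp_apply]
    have : (QuotientGroup.mk' N) n = 1 := (QuotientGroup.eq_one_iff n).2 hn
    rw [this, map_one]
  · rw [← MonoidHom.comap_ker, Subgroup.index_comap_of_surjective _ (QuotientGroup.mk'_surjective N),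
      hφ]
    exact hp

universe u

theorem aux : ∀ (k : ℕ) (G : Type u) [Group G] [Finite G] (N : Subgroup G) [hN : N.Normal],
    N.index = k → Group.IsSolvable (G ⧸ N) → ∀ (ϑ : N → ℂ), IsIrrCharacter N ϑ →
    (∀ (g : G) (n : N), ϑ ⟨g * n * g⁻¹, hN.conj_mem (n : G) n.2 g⟩ = ϑ n) →
    ∀ d : ℕ, ϑ 1 = d → Nat.Coprime N.index d →
    ∀ μ : G → ℂ, IsCharacter G μ → μ 1 = 1 → (∀ n : N, μ n = detChar ϑ n) →
    ∃ χ : G → ℂ, IsIrrCharacter G χ ∧ ∀ n : N, χ n = ϑ n := by
  intro k
  induction k using Nat.strong_induction_on with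
  | _ k ih =>
    intro G _ _ N hN hk hsolv ϑ hϑ hinv d hd hcop μ hμ hμ1 hμN
    by_cases htop : N = ⊤
    · -- base case
      let f : G →* N :=
        { toFun := fun g => ⟨g, by rw [htop]; exact Subgroup.mem_top g⟩
          map_one' := rfl
          map_mul' := fun _ _ => rfl }
      refine ⟨fun g => ϑ (f g),
        Cfsg.Agent.Lib.Helper79.isIrrCharacter_comp_surjective hϑ f
          (fun n => ⟨n, Subtype.ext rfl⟩), fun n => ?_⟩
      congr 1
    · obtain ⟨M, hMn, hNM, hMp⟩ := exists_normal_prime_index N hsolv htop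
      have hMfin : Finite M := inferInstance
      -- the subgroup N inside M
      have hN'n : (N.subgroupOf M).Normal := inferInstance
      have hidx : (N.subgroupOf M).index * M.index = N.index := Subgroup.relIndex_mul_index hNM
      have hidxlt : (N.subgroupOf M).index < k := by
        rw [← hk, ← hidx]
        have h0 : 0 < (N.subgroupOf M).index := Nat.pos_of_ne_zero Subgroup.index_ne_zero_of_finite
        nlinarith [hMp.two_le]
      -- solvability
      have hsolv' : Group.IsSolvable (M ⧸ N.subgroupOf M) := by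
        let q : M ⧸ N.subgroupOf M →* G ⧸ N :=
          QuotientGroup.map (N.subgroupOf M) N M.subtype (fun x hx => hx)
        have hq : Function.Injective q := by
          rw [injective_iff_map_eq_one]
          intro x hx
          obtain ⟨m, rfl⟩ := QuotientGroup.mk_surjective x
          have hx' : ((M.subtype m : G) : G ⧸ N) = 1 := hx
          rw [QuotientGroup.eq_one_iff] at hx'
          rw [QuotientGroup.eq_one_iff]
          exact hx'
        exact Group.isSolvable_of_isSolvable_injective hq
      -- the character on N' := N.subgroupOf M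
      let e : N.subgroupOf M →* N := (Subgroup.subgroupOfEquivOfLe hNM).toMonoidHom
      have he : ∀ x : N.subgroupOf M, ((e x : N) : G) = ((x : M) : G) := fun x => rfl
      have he_surj : Function.Surjective e := (Subgroup.subgroupOfEquivOfLe hNM).surjective
      have hϑ' : IsIrrCharacter (N.subgroupOf M) (fun x => ϑ (e x)) :=
        Cfsg.Agent.Lib.Helper79.isIrrCharacter_comp_surjective hϑ e he_surj
      have hinv' : ∀ (g : M) (n : N.subgroupOf M),
          (fun x => ϑ (e x)) ⟨g * n * g⁻¹, hN'n.conj_mem (n : M) n.2 g⟩ = (fun x => ϑ (e x)) n := by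
        intro g n
        have := hinv (g : G) (e n)
        simp only
        rw [← this]
        congr 1
      have hd' : (fun x => ϑ (e x)) 1 = d := by
        simp only [map_one]
        exact hd
      have hcop' : Nat.Coprime (N.subgroupOf M).index d :=
        Nat.Coprime.coprime_dvd_left (Dvd.intro _ hidx) hcop
      have hμ' : IsCharacter M (fun m : M => μ m) :=
        Cfsg.Agent.Lib.Helper79.isCharacter_restrict hμ M
      have hμ1' : (fun m : M => μ m) 1 = 1 := hμ1
      have hμN' : ∀ n : N.subgroupOf M,
          (fun m : M => μ m) n = detChar (fun x => ϑ (e x)) n := by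
        intro n
        have : Finite N := inferInstance
        rw [detChar_comp (IsIrrCharacter.isCharacter hϑ) e n, ← hμN]
        rfl
      -- induction hypothesis
      have hext := ih _ hidxlt M (N.subgroupOf M) rfl hsolv' _ hϑ' hinv' d hd' hcop' _ hμ' hμ1' hμN'
      obtain ⟨η, ⟨hη, hηN, hηdet⟩, hηuniq⟩ :=
        Cfsg.Agent.S0862.result (N.subgroupOf M) _ hϑ' d hd' hcop' hext _ ⟨hμ', hμ1'⟩ hμN'
      -- η is G-invariant
      have hηinv : ∀ (g : G) (m : M), η ⟨g * m * g⁻¹, hMn.conj_mem (m : G) m.2 g⟩ = η m := by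
        intro g m
        let c : M →* M := (MulAut.conjNormal g : MulAut M).toMonoidHom
        have hc : ∀ x : M, ((c x : M) : G) = g * x * g⁻¹ := fun x => MulAut.conjNormal_apply g x
        have hcsurj : Function.Surjective c := (MulAut.conjNormal g : MulAut M).surjective
        have key : (fun x : M => η (c x)) = η := by
          apply hηuniq
          refine ⟨Cfsg.Agent.Lib.Helper79.isIrrCharacter_comp_surjective hη c hcsurj, ?_, ?_⟩
          · intro n
            have hmem : c (n : M) ∈ N.subgroupOf M := by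
              rw [Subgroup.mem_subgroupOf, hc]
              exact hN.conj_mem _ (Subgroup.mem_subgroupOf.1 n.2) g
            have h1 := hηN ⟨c (n : M), hmem⟩
            simp only at h1 ⊢
            rw [h1]
            have h2 := hinv g (e n)
            rw [← h2]
            congr 1
          · funext m'
            rw [detChar_comp (IsIrrCharacter.isCharacter hη) c m', hηdet]
            show μ ((c m' : M) : G) = μ (m' : G)
            rw [hc]
            exact (IsCharacter.isClassFunction hμ) _ _
        have := congrFun key m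
        rw [← this]
        congr 1
      -- cyclic quotient
      have hcyc : IsCyclic (G ⧸ M) := by
        have : Fact (M.index.Prime) := ⟨hMp⟩
        apply isCyclic_of_prime_card (p := M.index)
        rw [Subgroup.index_eq_card]
      obtain ⟨χ, hχ, hχM⟩ := Cfsg.Agent.S0886.result M hcyc η hη hηinv
      refine ⟨χ, hχ, fun n => ?_⟩
      have h1 := hχM ⟨n, hNM n.2⟩
      have h2 := hηN ⟨⟨n, hNM n.2⟩, Subgroup.mem_subgroupOf.2 n.2⟩
      simp only at h1 h2
      rw [h1, h2]
      congr 1

/-- Let N be a normal subgroup of the finite group G with G / N solvable, and ϑ an irreducible character of N, invariant under conjugation by G, of degree d coprime to the index of N. Then ϑ is the restriction of an irreducible character of G if and only if the determinantal character of ϑ is the restriction of a character of G of degree 1. -/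
theorem result {G : Type*} [Group G] [Finite G] (N : Subgroup G) [hN : N.Normal] (hsolv : Group.IsSolvable (G ⧸ N)) (ϑ : N → ℂ) (hϑ : Cfsg.IsIrrCharacter N ϑ) (hinv : ∀ (g : G) (n : N), ϑ ⟨g * n * g⁻¹, hN.conj_mem (n : G) n.2 g⟩ = ϑ n) (d : ℕ) (hd : ϑ 1 = d) (hcop : Nat.Coprime N.index d) : (∃ χ : G → ℂ, Cfsg.IsIrrCharacter G χ ∧ (∀ n : N, χ n = ϑ n)) ↔ ∃ μ : G → ℂ, Cfsg.IsCharacter G μ ∧ μ 1 = 1 ∧ ∀ n : N, μ n = Cfsg.detChar ϑ n := by
  constructor
  · rintro ⟨χ, hχ, hχN⟩
    refine ⟨detChar χ, (detChar_isLinear χ).1, (detChar_isLinear χ).2, ?_⟩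
    intro n
    rw [← detChar_restrict (IsIrrCharacter.isCharacter hχ) N n]
    congr 1
    exact funext hχN
  · rintro ⟨μ, hμ, hμ1, hμN⟩
    exact aux _ G N rfl hsolv ϑ hϑ hinv d hd hcop μ hμ hμ1 hμN

end Cfsg.Agent.S0863
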