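import Cfsg.Statements.S0866
import Cfsg.Agent.S0863
import Cfsg.Agent.Lib.Helper15.ProjExt

set_option autoImplicit false
open Cfsg

namespace Cfsg.Agent.S0866

open Cfsg.Agent.Lib.Helper3 Cfsg.Agent.Lib.Helper15

/-- Character-level form of the extension theorem from Sylow extensions (no condition on the index
of `N` in `P`). -/
theorem exists_char_extension_of_sylow {G : Type*} [Group G] [Finite G] (N : Subgroup G)
    [hN : N.Normal] (ϑ : N → ℂ) (hϑ : IsIrrCharacter N ϑ)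
    (hinv : ∀ (g : G) (n : N), ϑ ⟨g * n * g⁻¹, hN.conj_mem (n : G) n.2 g⟩ = ϑ n)
    (hsyl : ∀ p : ℕ, p.Prime → ∃ (P : Subgroup G) (hNP : N ≤ P) (η : P → ℂ),
      Nat.Coprime P.index p ∧ IsCharacter P η ∧ ∀ n : N, η ⟨(n : G), hNP n.2⟩ = ϑ n) :
    ∃ χ : G → ℂ, IsIrrCharacter G χ ∧ ∀ n : N, χ n = ϑ n := by
  obtain ⟨d, ρ, hρ, rfl⟩ := hϑ
  obtain ⟨ρ', hρ', hres⟩ := exists_rep_extension_of_sylow N ρ hρ (by
    intro g n
    have := hinv g n
    convert this using 2
    apply Subtype.ext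
    rw [MulAut.conjNormal_apply]) (by
    intro p hp
    obtain ⟨P, hNP, η, hcop, hη, hηN⟩ := hsyl p hp
    obtain ⟨σ, hσ⟩ := exists_rep_of_char_extension N ρ P hNP η hη hηN
    exact ⟨P, hNP, σ, hcop, hσ⟩)
  refine ⟨ρ'.character, ⟨d, ρ', hρ', rfl⟩, ?_⟩
  intro n
  unfold Representation.character
  rw [hres]

/-- The preimage in `G` of a Sylow `p`-subgroup of `G ⧸ N`. -/
theorem exists_sylow_preimage {G : Type*} [Group G] [Finite G] (N : Subgroup G) [N.Normal]
    (p : ℕ) [Fact p.Prime] :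
    ∃ P : Subgroup G, N ≤ P ∧ Nat.Coprime P.index p ∧ IsPGroup p (P ⧸ N.subgroupOf P) := by
  obtain ⟨S⟩ : Nonempty (Sylow p (G ⧸ N)) := inferInstance
  refine ⟨(S : Subgroup (G ⧸ N)).comap (QuotientGroup.mk' N), ?_, ?_, ?_⟩
  · intro n hn
    rw [Subgroup.mem_comap]
    have : (QuotientGroup.mk' N) n = 1 := (QuotientGroup.eq_one_iff n).2 hn
    rw [this]
    exact Subgroup.one_mem _
  · rw [Subgroup.index_comap_of_surjective _ (QuotientGroup.mk'_surjective N)]
    exact (Nat.Prime.coprime_iff_not_dvd Fact.out).2 S.not_dvd_index |>.symm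
  · set P := (S : Subgroup (G ⧸ N)).comap (QuotientGroup.mk' N) with hP
    let q : P ⧸ N.subgroupOf P →* G ⧸ N :=
      QuotientGroup.map (N.subgroupOf P) N P.subtype (fun x hx => hx)
    have hq : Function.Injective q := by
      rw [injective_iff_map_eq_one]
      intro x hx
      obtain ⟨m, rfl⟩ := QuotientGroup.mk_surjective x
      have hx' : ((P.subtype m : G) : G ⧸ N) = 1 := hx
      rw [QuotientGroup.eq_one_iff] at hx'
      rw [QuotientGroup.eq_one_iff]
      exact hx'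
    have hqS : ∀ x, q x ∈ (S : Subgroup (G ⧸ N)) := by
      intro x
      obtain ⟨m, rfl⟩ := QuotientGroup.mk_surjective x
      exact m.2
    intro x
    obtain ⟨k, hk⟩ := S.2 ⟨q x, hqS x⟩
    refine ⟨k, hq ?_⟩
    rw [map_pow, map_one]
    exact congrArg Subtype.val hk

/-- Under the hypotheses of the theorem, `ϑ` extends to every `P ≥ N` with `P / N` solvable. -/
theorem exists_extension_to_subgroup {G : Type*} [Group G] [Finite G] (N : Subgroup G)
    [hN : N.Normal] (ϑ : N → ℂ) (hϑ : IsIrrCharacter N ϑ)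
    (hinv : ∀ (g : G) (n : N), ϑ ⟨g * n * g⁻¹, hN.conj_mem (n : G) n.2 g⟩ = ϑ n)
    (d : ℕ) (hd : ϑ 1 = d) (hcop : Nat.Coprime N.index d)
    (μ : G → ℂ) (hμ : IsCharacter G μ) (hμ1 : μ 1 = 1) (hμN : ∀ n : N, μ n = detChar ϑ n)
    (P : Subgroup G) (hNP : N ≤ P) (hsolv : Group.IsSolvable (P ⧸ N.subgroupOf P)) :
    ∃ η : P → ℂ, IsIrrCharacter P η ∧ ∀ n : N, η ⟨n, hNP n.2⟩ = ϑ n := by
  have hN'n : (N.subgroupOf P).Normal := inferInstance
  have hidx : (N.subgroupOf P).index * P.index = N.index := Subgroup.relIndex_mul_index hNP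
  let e : N.subgroupOf P →* N := (Subgroup.subgroupOfEquivOfLe hNP).toMonoidHom
  have he_surj : Function.Surjective e := (Subgroup.subgroupOfEquivOfLe hNP).surjective
  have hϑ' : IsIrrCharacter (N.subgroupOf P) (fun x => ϑ (e x)) :=
    Cfsg.Agent.Lib.Helper79.isIrrCharacter_comp_surjective hϑ e he_surj
  have hinv' : ∀ (g : P) (n : N.subgroupOf P),
      (fun x => ϑ (e x)) ⟨g * n * g⁻¹, hN'n.conj_mem (n : P) n.2 g⟩ = (fun x => ϑ (e x)) n := by
    intro g n
    have := hinv (g : G) (e n)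
    simp only
    rw [← this]
    congr 1
  have hd' : (fun x => ϑ (e x)) 1 = d := by
    simp only [map_one]
    exact hd
  have hcop' : Nat.Coprime (N.subgroupOf P).index d :=
    Nat.Coprime.coprime_dvd_left (Dvd.intro _ hidx) hcop
  have hμ' : IsCharacter P (fun m : P => μ m) :=
    Cfsg.Agent.Lib.Helper79.isCharacter_restrict hμ P
  have hμN' : ∀ n : N.subgroupOf P,
      (fun m : P => μ m) n = detChar (fun x => ϑ (e x)) n := by
    intro n
    have : Finite N := inferInstance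
    rw [detChar_comp (IsIrrCharacter.isCharacter hϑ) e n, ← hμN]
    rfl
  obtain ⟨η, hη, hηN⟩ := (Cfsg.Agent.S0863.result (N.subgroupOf P) hsolv _ hϑ' hinv' d hd' hcop').2
    ⟨_, hμ', hμ1, hμN'⟩
  refine ⟨η, hη, fun n => ?_⟩
  have h2 := hηN ⟨⟨n, hNP n.2⟩, Subgroup.mem_subgroupOf.2 n.2⟩
  simp only at h2
  rw [h2]
  congr 1

/-- Let N be a normal subgroup of the finite group G and ϑ an irreducible character of N, invariant under conjugation by G, of degree d coprime to the index of N. Then ϑ is the restriction of an irreducible character of G if and only if the determinantal character of ϑ is the restriction of a character of G of degree 1. -/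
theorem result {G : Type*} [Group G] [Finite G] (N : Subgroup G) [hN : N.Normal] (ϑ : N → ℂ) (hϑ : Cfsg.IsIrrCharacter N ϑ) (hinv : ∀ (g : G) (n : N), ϑ ⟨g * n * g⁻¹, hN.conj_mem (n : G) n.2 g⟩ = ϑ n) (d : ℕ) (hd : ϑ 1 = d) (hcop : Nat.Coprime N.index d) : (∃ χ : G → ℂ, Cfsg.IsIrrCharacter G χ ∧ (∀ n : N, χ n = ϑ n)) ↔ ∃ μ : G → ℂ, Cfsg.IsCharacter G μ ∧ μ 1 = 1 ∧ ∀ n : N, μ n = Cfsg.detChar ϑ n := by
  constructor
  · rintro ⟨χ, hχ, hχN⟩
    refine ⟨detChar χ, (detChar_isLinear χ).1, (detChar_isLinear χ).2, ?_⟩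
    intro n
    rw [← detChar_restrict (IsIrrCharacter.isCharacter hχ) N n]
    congr 1
    exact funext hχN
  · rintro ⟨μ, hμ, hμ1, hμN⟩
    apply exists_char_extension_of_sylow N ϑ hϑ hinv
    intro p hp
    have : Fact p.Prime := ⟨hp⟩
    obtain ⟨P, hNP, hPcop, hPp⟩ := exists_sylow_preimage N p
    have hsolv : Group.IsSolvable (P ⧸ N.subgroupOf P) := by
      have := hPp.isNilpotent
      infer_instance
    obtain ⟨η, hη, hηN⟩ :=
      exists_extension_to_subgroup N ϑ hϑ hinv d hd hcop μ hμ hμ1 hμN P hNP hsolv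
    exact ⟨P, hNP, η, hPcop, IsIrrCharacter.isCharacter hη, hηN⟩

end Cfsg.Agent.S0866
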