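import Cfsg.Statements.S4447
import Cfsg.Agent.Lib.Helper82.GlaubermanLemma
import Cfsg.Agent.Lib.Helper75.Clifford
import Cfsg.Agent.Lib.Helper75.CliffordCorr
import Cfsg.Agent.Lib.Helper25.IndNormal
import Cfsg.Agent.Lib.Helper25.CharUtil
import Cfsg.Agent.Lib.Helper3.Decomp
-- import your own Cfsg.Agent.* helpers here

set_option autoImplicit false
set_option linter.style.haveILetI false
open Cfsg

namespace Cfsg.Agent.S4447

open Subgroup Cfsg.Agent.Lib.Helper3 Cfsg.Agent.Lib.Helper75 Cfsg.Agent.Lib.Helper25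
open Cfsg.Agent.Lib.Helper33

section Act

variable {Γ : Type*} [Group Γ] (N : Subgroup Γ)

/-- Conjugation by an element normalising `N`, as an automorphism of `N`. -/
def cEquiv (x : Γ) (hx : x ∈ normalizer (N : Set Γ)) : N ≃* N where
  toFun n := ⟨x * n * x⁻¹, (mem_normalizer_iff.mp hx n).mp n.2⟩
  invFun n := ⟨x⁻¹ * n * x, by
    have h := (mem_normalizer_iff.mp hx (x⁻¹ * n * x)).mpr
    apply h
    have e : x * (x⁻¹ * (n : Γ) * x) * x⁻¹ = n := by group
    rw [e]
    exact n.2⟩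
  left_inv n := by
    apply Subtype.ext
    show x⁻¹ * (x * (n : Γ) * x⁻¹) * x = n
    group
  right_inv n := by
    apply Subtype.ext
    show x * (x⁻¹ * (n : Γ) * x) * x⁻¹ = n
    group
  map_mul' a b := by
    apply Subtype.ext
    show x * ((a : Γ) * b) * x⁻¹ = (x * a * x⁻¹) * (x * b * x⁻¹)
    group

theorem cEquiv_coe (x : Γ) (hx : x ∈ normalizer (N : Set Γ)) (n : N) :
    ((cEquiv N x hx n : N) : Γ) = x * n * x⁻¹ := rfl

open Classical in
/-- The (right) action of `Γ` on functions on `N`: `(act x θ) n = θ (x n x⁻¹)` (and `0` when this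
makes no sense). -/
noncomputable def act (x : Γ) (θ : N → ℂ) : N → ℂ :=
  fun n => if h : x * n * x⁻¹ ∈ N then θ ⟨x * n * x⁻¹, h⟩ else 0

theorem act_apply {x : Γ} (hx : x ∈ normalizer (N : Set Γ)) (θ : N → ℂ) (n : N) :
    act N x θ n = θ (cEquiv N x hx n) := by
  unfold act
  rw [dif_pos ((mem_normalizer_iff.mp hx n).mp n.2)]
  rfl

theorem act_eq_comp {x : Γ} (hx : x ∈ normalizer (N : Set Γ)) (θ : N → ℂ) :
    act N x θ = fun n => θ (cEquiv N x hx n) :=
  funext fun n => act_apply N hx θ n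

theorem act_mul {x y : Γ} (hx : x ∈ normalizer (N : Set Γ)) (hy : y ∈ normalizer (N : Set Γ))
    (θ : N → ℂ) : act N (x * y) θ = act N y (act N x θ) := by
  funext n
  rw [act_apply N ((normalizer (N : Set Γ)).mul_mem hx hy), act_apply N hy, act_apply N hx]
  congr 1
  apply Subtype.ext
  simp only [cEquiv_coe]
  group

theorem act_one (θ : N → ℂ) : act N 1 θ = θ := by
  funext n
  rw [act_apply N (normalizer (N : Set Γ)).one_mem]
  congr 1
  apply Subtype.ext
  simp [cEquiv_coe]

theorem act_inv_act {x : Γ} (hx : x ∈ normalizer (N : Set Γ)) (θ : N → ℂ) :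
    act N x⁻¹ (act N x θ) = θ := by
  rw [← act_mul N hx ((normalizer (N : Set Γ)).inv_mem hx), mul_inv_cancel, act_one]

theorem act_act_inv {x : Γ} (hx : x ∈ normalizer (N : Set Γ)) (θ : N → ℂ) :
    act N x (act N x⁻¹ θ) = θ := by
  rw [← act_mul N ((normalizer (N : Set Γ)).inv_mem hx) hx, inv_mul_cancel, act_one]

theorem act_isIrr {x : Γ} (hx : x ∈ normalizer (N : Set Γ)) {θ : N → ℂ}
    (hθ : IsIrrCharacter N θ) : IsIrrCharacter N (act N x θ) := by
  rw [act_eq_comp N hx]
  exact IsIrrCharacter.comp_surj (cEquiv N x hx).toMonoidHom (cEquiv N x hx).surjective hθ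

theorem classInner_act [Fintype N] {x : Γ} (hx : x ∈ normalizer (N : Set Γ)) (φ ψ : N → ℂ) :
    classInner (act N x φ) (act N x ψ) = classInner φ ψ := by
  rw [act_eq_comp N hx, act_eq_comp N hx]
  exact classInner_comp_mulEquiv (cEquiv N x hx) φ ψ

theorem act_of_mem {x : Γ} (hx : x ∈ N) {θ : N → ℂ} (hθ : IsClassFunction N θ) :
    act N x θ = θ := by
  funext n
  rw [act_apply N (le_normalizer hx)]
  have := hθ n ⟨x, hx⟩
  rw [← this]
  congr 1

end Act

section Norm

variable {Γ : Type*} [Group Γ] (G N : Subgroup Γ)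

theorem le_normalizer_of_normal_subgroupOf (hNG : N ≤ G) [hNn : (N.subgroupOf G).Normal] :
    G ≤ normalizer (N : Set Γ) := by
  have key : ∀ y ∈ G, ∀ n ∈ N, y * n * y⁻¹ ∈ N := by
    intro y hy n hn
    have h1 : (⟨n, hNG hn⟩ : G) ∈ N.subgroupOf G := mem_subgroupOf.mpr hn
    have h2 := hNn.conj_mem (⟨n, hNG hn⟩ : G) h1 (⟨y, hy⟩ : G)
    exact mem_subgroupOf.mp h2
  intro y hy
  rw [mem_normalizer_iff]
  intro n
  constructor
  · intro hn
    exact key y hy n hn
  · intro hn
    have := key y⁻¹ (G.inv_mem hy) _ hn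
    have e2 : y⁻¹ * (y * n * y⁻¹) * y⁻¹⁻¹ = n := by group
    rw [e2] at this
    exact this

end Norm

section Cliff

variable {Γ : Type*} [Group Γ] (G N : Subgroup Γ) [Fintype G] [Fintype N]

/-- Clifford's theorem, transported: two irreducible constituents of `χ_N` are conjugate under
`G`. -/
theorem clifford_act (hNG : N ≤ G) [hNn : (N.subgroupOf G).Normal] {χ : G → ℂ}
    (hχ : IsIrrCharacter G χ) {θ θ' : N → ℂ} (hθ : IsIrrCharacter N θ)
    (hθ' : IsIrrCharacter N θ')
    (h : classInner (fun n : N => χ ⟨n, hNG n.2⟩) θ ≠ 0)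
    (h' : classInner (fun n : N => χ ⟨n, hNG n.2⟩) θ' ≠ 0) :
    ∃ g : Γ, g ∈ G ∧ θ' = act N g θ := by
  classical
  haveI : Fintype (N.subgroupOf G) := Fintype.ofFinite _
  let e : N.subgroupOf G ≃* N := subgroupOfEquivOfLe hNG
  have he : ∀ x : N.subgroupOf G, ((e x : N) : Γ) = ((x : G) : Γ) := fun x => rfl
  have h1 : classInner (fun n : N.subgroupOf G => χ n) (resSub N G θ) ≠ 0 := by
    have := classInner_comp_mulEquiv e (fun n : N => χ ⟨n, hNG n.2⟩) θ
    rw [← this] at h
    exact h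
  have h1' : classInner (fun n : N.subgroupOf G => χ n) (resSub N G θ') ≠ 0 := by
    have := classInner_comp_mulEquiv e (fun n : N => χ ⟨n, hNG n.2⟩) θ'
    rw [← this] at h'
    exact h'
  obtain ⟨g, hg⟩ := clifford_conj (N.subgroupOf G) hχ (isIrrCharacter_resSub hNG hθ)
    (isIrrCharacter_resSub hNG hθ') h1 h1'
  refine ⟨(g : Γ), g.2, ?_⟩
  have hgn : (g : Γ) ∈ normalizer (N : Set Γ) := le_normalizer_of_normal_subgroupOf G N hNG g.2
  funext n
  have h3 := congrFun hg (e.symm n)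
  rw [conjFun_apply] at h3
  rw [act_apply N hgn]
  have h4 : resSub N G θ' (e.symm n) = θ' n := by
    show θ' ⟨((e.symm n : N.subgroupOf G) : G), _⟩ = θ' n
    congr 1
  rw [h4] at h3
  rw [h3]
  show θ ⟨_, _⟩ = θ _
  congr 1

end Cliff

/-- Inside a finite group Γ let S normalise G and also normalise a normal subgroup N of G, with the order of S coprime to the index of N in G and S or G/N solvable. Then for every S-invariant irreducible character χ of G, the restriction of χ to N has an S-invariant irreducible constituent. -/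
theorem result {Γ : Type*} [Group Γ] [Fintype Γ] (G S N : Subgroup Γ) [Fintype G] [Fintype N] (hnorm : ∀ s ∈ S, ∀ g ∈ G, s * g * s⁻¹ ∈ G) (hNG : N ≤ G) [hNn : (N.subgroupOf G).Normal] (hNS : ∀ s ∈ S, ∀ n ∈ N, s * n * s⁻¹ ∈ N) (hcop : (N.relIndex G).Coprime (Nat.card S)) (hsolv : Group.IsSolvable S ∨ Group.IsSolvable (G ⧸ N.subgroupOf G)) (χ : Cfsg.IrrCharacter G) (hinv : (∀ s ∈ S, ∀ g g' : G, (g' : Γ) = s * g * s⁻¹ → (χ : G → ℂ) g' = (χ : G → ℂ) g)) : ∃ θ : Cfsg.IrrCharacter N, Cfsg.classInner (fun n : N => (χ : G → ℂ) ⟨n, hNG n.2⟩) (θ : N → ℂ) ≠ 0 ∧ (∀ s ∈ S, ∀ g g' : N, (g' : Γ) = s * g * s⁻¹ → (θ : N → ℂ) g' = (θ : N → ℂ) g) := by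
  classical
  obtain ⟨χ, hχ⟩ := χ
  simp only at hinv ⊢
  have hcf : IsClassFunction G χ := IsCharacter.isClassFunction (IsIrrCharacter.isCharacter hχ)
  have hGn : G ≤ normalizer (N : Set Γ) := le_normalizer_of_normal_subgroupOf G N hNG
  have hSn : S ≤ normalizer (N : Set Γ) := by
    intro y hy
    rw [mem_normalizer_iff]
    intro n
    constructor
    · intro hn
      exact hNS y hy n hn
    · intro hn
      have := hNS y⁻¹ (S.inv_mem hy) _ hn
      have e2 : y⁻¹ * (y * n * y⁻¹) * y⁻¹⁻¹ = n := by group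
      rw [e2] at this
      exact this
  have hSG : S ≤ normalizer (G : Set Γ) := by
    intro y hy
    rw [mem_normalizer_iff]
    intro n
    constructor
    · intro hn
      exact hnorm y hy n hn
    · intro hn
      have := hnorm y⁻¹ (S.inv_mem hy) _ hn
      have e2 : y⁻¹ * (y * n * y⁻¹) * y⁻¹⁻¹ = n := by group
      rw [e2] at this
      exact this
  -- the restriction of χ to N
  set ψ : N → ℂ := fun n : N => χ ⟨n, hNG n.2⟩ with hψ
  have hψG : ∀ g ∈ G, act N g ψ = ψ := by
    intro g hg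
    funext n
    rw [act_apply N (hGn hg)]
    have := hcf ⟨n, hNG n.2⟩ ⟨g, hg⟩
    exact this
  have hψS : ∀ s ∈ S, act N s ψ = ψ := by
    intro s hs
    funext n
    rw [act_apply N (hSn hs)]
    exact hinv s hs ⟨n, hNG n.2⟩ ⟨s * n * s⁻¹, hNG ((mem_normalizer_iff.mp (hSn hs) n).mp n.2)⟩ rfl
  have hψcf : IsClassFunction N ψ := by
    intro n h
    exact hcf ⟨n, hNG n.2⟩ ⟨h, hNG h.2⟩
  have hψ0 : ψ ≠ 0 := by
    intro h0
    obtain ⟨d, hd, hd1⟩ := Cfsg.Agent.Lib.Helper25.irr_degree hχ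
    have h1 : ψ 1 = χ 1 := rfl
    rw [h0, Pi.zero_apply, hd1] at h1
    have : (d : ℂ) ≠ 0 := by exact_mod_cast hd.ne'
    exact this h1.symm
  obtain ⟨θ, hθ, hθc⟩ := exists_irr_classInner_ne_zero hψcf hψ0
  have hθcf : IsClassFunction N θ := IsCharacter.isClassFunction (IsIrrCharacter.isCharacter hθ)
  -- constituents are permuted by G and S
  have hcons : ∀ x : Γ, x ∈ normalizer (N : Set Γ) → act N x ψ = ψ → ∀ θ' : N → ℂ,
      classInner ψ (act N x θ') = classInner ψ θ' := by
    intro x hx hxψ θ'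
    conv_lhs => rw [← hxψ]
    exact classInner_act N hx ψ θ'
  -- the ambient group
  set E : Subgroup Γ := normalizer (G : Set Γ) ⊓ normalizer (N : Set Γ) with hE
  have hGE : G ≤ E := le_inf le_normalizer hGn
  have hSE : S ≤ E := le_inf hSG hSn
  have hNE : N ≤ E := hNG.trans hGE
  have hEn : E ≤ normalizer (N : Set Γ) := inf_le_right
  haveI hNEn : (N.subgroupOf E).Normal :=
    Cfsg.Agent.Lib.Helper24.normal_subgroupOf_of_le_normalizer inf_le_right
  haveI hGEn : (G.subgroupOf E).Normal :=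
    Cfsg.Agent.Lib.Helper24.normal_subgroupOf_of_le_normalizer inf_le_left
  let π : E →* E ⧸ N.subgroupOf E := QuotientGroup.mk' (N.subgroupOf E)
  have hπs : Function.Surjective π := QuotientGroup.mk'_surjective _
  have hπker : π.ker = N.subgroupOf E := QuotientGroup.ker_mk' _
  -- the stabilizer of θ
  let TE : Subgroup E :=
    { carrier := {x | act N (x : Γ) θ = θ}
      mul_mem' := by
        intro x y hx hy
        show act N ((x : Γ) * (y : Γ)) θ = θ
        rw [act_mul N (hEn x.2) (hEn y.2), hx, hy]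
      one_mem' := act_one N θ
      inv_mem' := by
        intro x hx
        show act N ((x : Γ)⁻¹) θ = θ
        have := act_inv_act N (hEn x.2) θ
        rw [hx] at this
        exact this }
  have hTE : ∀ x : E, x ∈ TE ↔ act N (x : Γ) θ = θ := fun x => Iff.rfl
  have hNTE : N.subgroupOf E ≤ TE := by
    intro x hx
    rw [hTE]
    exact act_of_mem N (mem_subgroupOf.mp hx) hθcf
  set A : Subgroup (E ⧸ N.subgroupOf E) := (G.subgroupOf E).map π with hA
  set B : Subgroup (E ⧸ N.subgroupOf E) := (S.subgroupOf E).map π with hB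
  set T : Subgroup (E ⧸ N.subgroupOf E) := TE.map π with hT
  haveI hAn : A.Normal := Subgroup.Normal.map hGEn π hπs
  -- orders
  have hcardA : Nat.card A = N.relIndex G := by
    have h1 := relIndex_map_map π (N.subgroupOf E) (G.subgroupOf E)
    rw [hπker, sup_idem, sup_eq_left.mpr (fun x hx => mem_subgroupOf.mpr (hNG (mem_subgroupOf.mp hx)))] at h1
    have h2 : (N.subgroupOf E).map π = ⊥ :=
      (Subgroup.map_eq_bot_iff (N.subgroupOf E)).mpr hπker.ge
    rw [h2, relIndex_bot_left, relIndex_subgroupOf hGE] at h1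
    exact h1
  have hcardB : Nat.card B ∣ Nat.card S := by
    have h1 := card_map_dvd (H := S.subgroupOf E) π
    rw [Nat.card_congr (subgroupOfEquivOfLe hSE).toEquiv] at h1
    exact h1
  have hcopAB : (Nat.card A).Coprime (Nat.card B) := by
    rw [hcardA]
    exact Nat.Coprime.coprime_dvd_right hcardB hcop
  -- solvability
  have hsolvAB : Group.IsSolvable A ∨ Group.IsSolvable B := by
    rcases hsolv with h | h
    · right
      haveI : Group.IsSolvable (S.subgroupOf E) :=
        Group.isSolvable_of_isSolvable_injective (f := (subgroupOfEquivOfLe hSE).toMonoidHom)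
          (subgroupOfEquivOfLe hSE).injective
      exact Group.isSolvable_of_surjective (MonoidHom.subgroupMap_surjective π (S.subgroupOf E))
    · left
      let f : G →* A :=
        { toFun := fun g => ⟨π ⟨g, hGE g.2⟩, mem_map.mpr ⟨⟨g, hGE g.2⟩, mem_subgroupOf.mpr g.2, rfl⟩⟩
          map_one' := by
            apply Subtype.ext
            exact map_one π
          map_mul' := by
            intro a b
            apply Subtype.ext
            exact map_mul π ⟨a, hGE a.2⟩ ⟨b, hGE b.2⟩ }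
      have hf : Function.Surjective f := by
        rintro ⟨y, hy⟩
        obtain ⟨x, hx, rfl⟩ := mem_map.mp hy
        exact ⟨⟨x, mem_subgroupOf.mp hx⟩, rfl⟩
      have hk : N.subgroupOf G ≤ f.ker := by
        intro g hg
        rw [MonoidHom.mem_ker]
        apply Subtype.ext
        show π ⟨g, hGE g.2⟩ = 1
        rw [← MonoidHom.mem_ker, hπker]
        exact mem_subgroupOf.mpr (mem_subgroupOf.mp hg)
      have hf' : Function.Surjective (QuotientGroup.lift (N.subgroupOf G) f hk) := by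
        intro y
        obtain ⟨g, rfl⟩ := hf y
        exact ⟨(g : G ⧸ N.subgroupOf G), rfl⟩
      exact Group.isSolvable_of_surjective hf'
  -- transitivity
  have hBAT : B ≤ A ⊔ T := by
    intro b hb
    obtain ⟨s, hs, rfl⟩ := mem_map.mp hb
    have hsS : (s : Γ) ∈ S := mem_subgroupOf.mp hs
    have h1 : classInner ψ (act N (s : Γ) θ) ≠ 0 := by
      rw [hcons _ (hSn hsS) (hψS _ hsS)]
      exact hθc
    obtain ⟨g, hg, hgθ⟩ := clifford_act G N hNG hχ hθ (act_isIrr N (hSn hsS) hθ) hθc h1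
    let gE : E := ⟨g, hGE hg⟩
    have ht : s * gE⁻¹ ∈ TE := by
      rw [hTE]
      show act N ((s : Γ) * g⁻¹) θ = θ
      rw [act_mul N (hSn hsS) ((normalizer (N : Set Γ)).inv_mem (hGn hg)), hgθ]
      exact act_inv_act N (hGn hg) θ
    have h2 : π s = π (s * gE⁻¹) * π gE := by
      rw [← map_mul]
      congr 1
      group
    rw [h2]
    exact (A ⊔ T).mul_mem (le_sup_right (a := A) (mem_map_of_mem π ht))
      (le_sup_left (b := T) (mem_map_of_mem π (mem_subgroupOf.mpr hg)))
  obtain ⟨a, ha, hc⟩ := Cfsg.Agent.Lib.Helper82.glauberman_lemma A B T hcopAB hsolvAB hBAT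
  obtain ⟨g₀, hg₀, rfl⟩ := mem_map.mp ha
  have hg₀G : (g₀ : Γ) ∈ G := mem_subgroupOf.mp hg₀
  have hg₀n : (g₀ : Γ) ∈ normalizer (N : Set Γ) := hGn hg₀G
  have hfix : ∀ s ∈ S, act N s (act N (g₀ : Γ) θ) = act N (g₀ : Γ) θ := by
    intro s hs
    let sE : E := ⟨s, hSE hs⟩
    have h1 : π g₀ * π sE * (π g₀)⁻¹ ∈ T :=
      hc (conj_mem_cj (mem_map_of_mem π (mem_subgroupOf.mpr hs)))
    obtain ⟨t, ht, htπ⟩ := mem_map.mp h1
    have h2 : t⁻¹ * (g₀ * sE * g₀⁻¹) ∈ N.subgroupOf E := by
      rw [← hπker, MonoidHom.mem_ker, map_mul, map_inv, htπ, map_mul, map_mul, map_inv]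
      group
    have h3 : g₀ * sE * g₀⁻¹ ∈ TE := by
      have := TE.mul_mem ht (hNTE h2)
      rw [mul_inv_cancel_left] at this
      exact this
    rw [hTE] at h3
    have h4 : act N ((g₀ : Γ) * s * (g₀ : Γ)⁻¹) θ = θ := h3
    rw [act_mul N ((normalizer (N : Set Γ)).mul_mem hg₀n (hSn hs))
      ((normalizer (N : Set Γ)).inv_mem hg₀n), act_mul N hg₀n (hSn hs)] at h4
    have h5 := congrArg (act N (g₀ : Γ)) h4
    rw [act_act_inv N hg₀n] at h5
    exact h5
  refine ⟨⟨act N (g₀ : Γ) θ, act_isIrr N hg₀n hθ⟩, ?_, ?_⟩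
  · show classInner ψ (act N (g₀ : Γ) θ) ≠ 0
    rw [hcons _ hg₀n (hψG _ hg₀G)]
    exact hθc
  · intro s hs g g' hgg'
    show act N (g₀ : Γ) θ g' = act N (g₀ : Γ) θ g
    have h1 := congrFun (hfix s hs) g
    rw [act_apply N (hSn hs)] at h1
    rw [← h1]
    congr 1
    apply Subtype.ext
    rw [cEquiv_coe]
    exact hgg'

end Cfsg.Agent.S4447
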