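import Cfsg.Statements.S4448
import Cfsg.Agent.S4447
import Cfsg.Agent.Lib.Helper82.GlaubermanNz
import Cfsg.Agent.Lib.Helper75.Twist
import Cfsg.Agent.Lib.Helper15.LinearChar
import Cfsg.Agent.Lib.Helper25.Ind
import Cfsg.Agent.Lib.Helper3.Induced
import Cfsg.Agent.Lib.Helper3.CharOps
-- import your own Cfsg.Agent.* helpers here

set_option autoImplicit false
set_option linter.style.haveILetI false
open Cfsg

namespace Cfsg.Agent.S4448

open Subgroup Cfsg.Agent.Lib.Helper3 Cfsg.Agent.Lib.Helper75 Cfsg.Agent.Lib.Helper25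
open Cfsg.Agent.Lib.Helper33 Cfsg.Agent.S4447
open scoped ComplexConjugate

section General

variable {H : Type*} [Group H] [Fintype H]

/-- Two characters with a common irreducible constituent are not orthogonal. -/
theorem classInner_ne_zero_of_common {φ ψ θ : H → ℂ} (hφ : IsCharacter H φ)
    (hψ : IsCharacter H ψ) (hθ : IsIrrCharacter H θ) (h1 : classInner φ θ ≠ 0)
    (h2 : classInner ψ θ ≠ 0) : classInner φ ψ ≠ 0 := by
  classical
  haveI : Fintype (IrrCharacter H) := Fintype.ofFinite _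
  obtain ⟨m, hm, hφe⟩ := IsCharacter.exists_mult hφ
  obtain ⟨k, hk, hψe⟩ := IsCharacter.exists_mult hψ
  have h3 : classInner φ ψ = ((∑ ξ : IrrCharacter H, m ξ * k ξ : ℕ) : ℂ) := by
    conv_lhs => rw [hφe, hψe]
    rw [classInner_sum_sum]
    push_cast
    refine Finset.sum_congr rfl fun ξ _ => ?_
    rw [Complex.conj_natCast]
  rw [h3]
  have hm0 : m ⟨θ, hθ⟩ ≠ 0 := by
    intro h0
    apply h1
    have := hm ⟨θ, hθ⟩
    rw [h0] at this
    simpa using this
  have hk0 : k ⟨θ, hθ⟩ ≠ 0 := by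
    intro h0
    apply h2
    have := hk ⟨θ, hθ⟩
    rw [h0] at this
    simpa using this
  have h4 : 0 < ∑ ξ : IrrCharacter H, m ξ * k ξ := by
    apply Finset.sum_pos'
    · intro ξ _
      exact Nat.zero_le _
    · exact ⟨⟨θ, hθ⟩, Finset.mem_univ _, Nat.mul_pos (Nat.pos_of_ne_zero hm0) (Nat.pos_of_ne_zero hk0)⟩
  exact_mod_cast h4.ne'

/-- Every irreducible character of a subgroup lies under an irreducible character. -/
theorem exists_over' (K : Subgroup H) [Fintype K] {θ : K → ℂ} (hθ : IsIrrCharacter K θ) :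
    ∃ χ : H → ℂ, IsIrrCharacter H χ ∧ classInner (fun n : K => χ n) θ ≠ 0 := by
  classical
  have hind : IsCharacter H (indFun K θ) := isCharacter_indFun K (IsIrrCharacter.isCharacter hθ)
  have hne : indFun K θ ≠ 0 := by
    intro h0
    have h1 := indFun_apply_one K θ
    rw [h0, Pi.zero_apply] at h1
    obtain ⟨d, hd, hd1⟩ := irr_degree hθ
    rw [hd1] at h1
    have hidx : (K.index : ℂ) ≠ 0 := by
      have : K.index ≠ 0 := Subgroup.index_ne_zero_of_finite
      exact_mod_cast this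
    have hd0 : (d : ℂ) ≠ 0 := by exact_mod_cast hd.ne'
    exact (mul_ne_zero hidx hd0) h1.symm
  obtain ⟨χ, hχ, hc⟩ := exists_irr_classInner_ne_zero (IsCharacter.isClassFunction hind) hne
  refine ⟨χ, hχ, ?_⟩
  rw [frobenius_reciprocity K θ χ (IsCharacter.isClassFunction (IsIrrCharacter.isCharacter hχ))] at hc
  intro h0
  apply hc
  rw [Cfsg.Agent.Lib.Helper3.classInner_conj_symm, h0, map_zero]

end General

section Sub

variable {Γ : Type*} [Group Γ]

/-- Restriction to `N ≤ G` computed inside `↥G` agrees with the restriction computed in `Γ`. -/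
theorem classInner_resSub {G N : Subgroup Γ} [Fintype N] [Fintype (N.subgroupOf G)] (hNG : N ≤ G)
    (χ : G → ℂ) (θ : N → ℂ) :
    classInner (fun n : N.subgroupOf G => χ n) (resSub N G θ) =
      classInner (fun n : N => χ ⟨n, hNG n.2⟩) θ := by
  have := classInner_comp_mulEquiv (subgroupOfEquivOfLe hNG) (fun n : N => χ ⟨n, hNG n.2⟩) θ
  rw [← this]
  rfl

/-- Every irreducible character of `N ≤ G` lies under an irreducible character of `G`. -/
theorem exists_over_sub {G N : Subgroup Γ} [Fintype G] [Fintype N] (hNG : N ≤ G) {θ : N → ℂ}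
    (hθ : IsIrrCharacter N θ) :
    ∃ χ : G → ℂ, IsIrrCharacter G χ ∧ classInner (fun n : N => χ ⟨n, hNG n.2⟩) θ ≠ 0 := by
  classical
  haveI : Fintype (N.subgroupOf G) := Fintype.ofFinite _
  obtain ⟨χ, hχ, hc⟩ := exists_over' (N.subgroupOf G) (isIrrCharacter_resSub hNG hθ)
  refine ⟨χ, hχ, ?_⟩
  rw [← classInner_resSub hNG χ θ]
  exact hc

/-- Restriction of a character of `G` to a subgroup `M ≤ G` of the ambient group. -/
theorem isCharacter_res {G M : Subgroup Γ} (hMG : M ≤ G) {χ : G → ℂ} (hχ : IsCharacter G χ) :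
    IsCharacter M (fun m : M => χ ⟨m, hMG m.2⟩) :=
  IsCharacter.comp_hom (Subgroup.inclusion hMG) hχ

/-- Transitivity of "lying over". -/
theorem const_trans {G M N : Subgroup Γ} [Fintype G] [Fintype M] [Fintype N] (hNM : N ≤ M)
    (hMG : M ≤ G) {χ : G → ℂ} (hχ : IsCharacter G χ) {ψ : M → ℂ} (hψ : IsIrrCharacter M ψ)
    {θ : N → ℂ} (hθ : IsIrrCharacter N θ)
    (h1 : classInner (fun m : M => χ ⟨m, hMG m.2⟩) ψ ≠ 0)
    (h2 : classInner (fun n : N => ψ ⟨n, hNM n.2⟩) θ ≠ 0) :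
    classInner (fun n : N => χ ⟨n, (hNM.trans hMG) n.2⟩) θ ≠ 0 := by
  classical
  haveI : Fintype (N.subgroupOf M) := Fintype.ofFinite _
  set χM : M → ℂ := fun m : M => χ ⟨m, hMG m.2⟩ with hχM
  have hχMc : IsCharacter M χM := isCharacter_res hMG hχ
  set θ' := resSub N M θ with hθ'
  have hθ'i : IsIrrCharacter (N.subgroupOf M) θ' := isIrrCharacter_resSub hNM hθ
  have hind : IsCharacter M (indFun (N.subgroupOf M) θ') :=
    isCharacter_indFun _ (IsIrrCharacter.isCharacter hθ'i)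
  have h3 : classInner (indFun (N.subgroupOf M) θ') ψ ≠ 0 := by
    rw [frobenius_reciprocity _ θ' ψ (IsCharacter.isClassFunction (IsIrrCharacter.isCharacter hψ))]
    intro h0
    apply h2
    rw [← classInner_resSub hNM ψ θ, Cfsg.Agent.Lib.Helper3.classInner_conj_symm, h0, map_zero]
  have h4 := classInner_ne_zero_of_common hχMc hind hψ h1 h3
  rw [frobenius_reciprocity' _ θ' χM (IsCharacter.isClassFunction hχMc),
    classInner_resSub hNM χM θ] at h4
  exact h4

variable (G N : Subgroup Γ)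

/-- `act` commutes with restriction. -/
theorem act_res (hNG : N ≤ G) {x : Γ} (hxG : x ∈ normalizer (G : Set Γ))
    (hxN : x ∈ normalizer (N : Set Γ)) (χ : G → ℂ) :
    (fun n : N => act G x χ ⟨n, hNG n.2⟩) = act N x (fun n : N => χ ⟨n, hNG n.2⟩) := by
  funext n
  rw [act_apply G hxG, act_apply N hxN]
  congr 1

/-- `act` preserves "lying over an invariant character". -/
theorem classInner_res_act [Fintype N] (hNG : N ≤ G) {x : Γ} (hxG : x ∈ normalizer (G : Set Γ))
    (hxN : x ∈ normalizer (N : Set Γ)) (χ : G → ℂ) {θ : N → ℂ} (hθ : act N x θ = θ) :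
    classInner (fun n : N => act G x χ ⟨n, hNG n.2⟩) θ =
      classInner (fun n : N => χ ⟨n, hNG n.2⟩) θ := by
  rw [act_res G N hNG hxG hxN]
  conv_lhs => rw [← hθ]
  exact classInner_act N hxN _ _

theorem act_mul_fun {x : Γ} (hxG : x ∈ normalizer (G : Set Γ)) (f g : G → ℂ) :
    act G x (f * g) = act G x f * act G x g := by
  funext n
  rw [Pi.mul_apply, act_apply G hxG, act_apply G hxG, act_apply G hxG, Pi.mul_apply]

theorem act_isCharacter {x : Γ} (hxG : x ∈ normalizer (G : Set Γ)) {β : G → ℂ}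
    (hβ : IsCharacter G β) : IsCharacter G (act G x β) := by
  rw [act_eq_comp G hxG]
  exact IsCharacter.comp_hom (cEquiv G x hxG).toMonoidHom hβ

theorem act_one_apply {x : Γ} (hxG : x ∈ normalizer (G : Set Γ)) (β : G → ℂ) :
    act G x β 1 = β 1 := by
  rw [act_apply G hxG, map_one]

end Sub

section Abelian

variable {Γ : Type*} [Group Γ] (G S N : Subgroup Γ)

/-- Linear characters of `G` trivial on `N`. -/
def IsLin (β : G → ℂ) : Prop :=
  IsCharacter G β ∧ β 1 = 1 ∧ ∀ g : G, (g : Γ) ∈ N → β g = 1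

theorem isLin_one : IsLin G N (1 : G → ℂ) :=
  ⟨IsCharacter.one, rfl, fun _ _ => rfl⟩

theorem IsLin.mul {β γ : G → ℂ} (hβ : IsLin G N β) (hγ : IsLin G N γ) : IsLin G N (β * γ) := by
  refine ⟨IsCharacter.mul hβ.1 hγ.1, ?_, ?_⟩
  · rw [Pi.mul_apply, hβ.2.1, hγ.2.1, mul_one]
  · intro g hg
    rw [Pi.mul_apply, hβ.2.2 g hg, hγ.2.2 g hg, mul_one]

theorem IsLin.act {β : G → ℂ} (hβ : IsLin G N β) {x : Γ} (hxG : x ∈ normalizer (G : Set Γ))
    (hxN : x ∈ normalizer (N : Set Γ)) : IsLin G N (act G x β) := by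
  refine ⟨act_isCharacter G hxG hβ.1, ?_, ?_⟩
  · rw [act_one_apply G hxG, hβ.2.1]
  · intro g hg
    rw [act_apply G hxG]
    apply hβ.2.2
    rw [cEquiv_coe]
    exact (mem_normalizer_iff.mp hxN _).mp hg

theorem IsLin.ne_zero {β : G → ℂ} (hβ : IsLin G N β) (g : G) : β g ≠ 0 :=
  Cfsg.Agent.Lib.Helper15.linChar_ne_zero ⟨hβ.1, hβ.2.1⟩ g

theorem IsLin.pow_relIndex {β : G → ℂ} (hβ : IsLin G N β) [hNn : (N.subgroupOf G).Normal]
    (g : G) : β g ^ (N.relIndex G) = 1 := by
  have h1 : g ^ (N.relIndex G) ∈ N.subgroupOf G := Subgroup.pow_index_mem (N.subgroupOf G) g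
  have h2 := hβ.2.2 _ (mem_subgroupOf.mp h1)
  rw [← h2]
  have h3 := map_pow (Cfsg.Agent.Lib.Helper15.linCharHom ⟨hβ.1, hβ.2.1⟩) g (N.relIndex G)
  rw [Cfsg.Agent.Lib.Helper15.linCharHom_apply, Cfsg.Agent.Lib.Helper15.linCharHom_apply] at h3
  exact h3.symm

/-- The permutations of `Irr(G)` given by multiplication with a linear character trivial on
`N`. -/
def linSet : Set (Equiv.Perm (IrrCharacter G)) :=
  {π | ∃ β : G → ℂ, IsLin G N β ∧
    ∀ χ : IrrCharacter G, ((π χ : IrrCharacter G) : G → ℂ) = (χ : G → ℂ) * β}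

def linMon : Submonoid (Equiv.Perm (IrrCharacter G)) where
  carrier := linSet G N
  mul_mem' := by
    rintro a b ⟨β, hβ, ha⟩ ⟨γ, hγ, hb⟩
    refine ⟨γ * β, hγ.mul G N hβ, ?_⟩
    intro χ
    rw [Equiv.Perm.mul_apply, ha, hb, mul_assoc]
  one_mem' := by
    refine ⟨1, isLin_one G N, ?_⟩
    intro χ
    rw [Equiv.Perm.one_apply, mul_one]

def linSub [Finite G] : Subgroup (Equiv.Perm (IrrCharacter G)) :=
  { linMon G N with
    inv_mem' := by
      intro a ha
      have h : a⁻¹ = a ^ (orderOf a - 1) := by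
        apply inv_eq_of_mul_eq_one_right
        rw [← pow_succ', Nat.sub_add_cancel (orderOf_pos a), pow_orderOf_eq_one]
      rw [h]
      exact (linMon G N).pow_mem ha _ }

theorem mem_linSub [Finite G] (π : Equiv.Perm (IrrCharacter G)) :
    π ∈ linSub G N ↔ ∃ β : G → ℂ, IsLin G N β ∧
      ∀ χ : IrrCharacter G, ((π χ : IrrCharacter G) : G → ℂ) = (χ : G → ℂ) * β := Iff.rfl

theorem linSub_pow_apply [Finite G] {π : Equiv.Perm (IrrCharacter G)} {β : G → ℂ}
    (ha : ∀ χ : IrrCharacter G, ((π χ : IrrCharacter G) : G → ℂ) = (χ : G → ℂ) * β) (j : ℕ)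
    (χ : IrrCharacter G) : (((π ^ j) χ : IrrCharacter G) : G → ℂ) = (χ : G → ℂ) * β ^ j := by
  induction j generalizing χ with
  | zero => rw [pow_zero, pow_zero, Equiv.Perm.one_apply, mul_one]
  | succ j ih => rw [pow_succ, Equiv.Perm.mul_apply, ih, ha, pow_succ', mul_assoc]

theorem linSub_pow_relIndex [Finite G] [hNn : (N.subgroupOf G).Normal]
    {π : Equiv.Perm (IrrCharacter G)} (hπ : π ∈ linSub G N) : π ^ (N.relIndex G) = 1 := by
  obtain ⟨β, hβ, ha⟩ := hπ
  apply Equiv.ext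
  intro χ
  apply Subtype.ext
  rw [linSub_pow_apply G ha, Equiv.Perm.one_apply]
  funext g
  rw [Pi.mul_apply, Pi.pow_apply, hβ.pow_relIndex G N g, mul_one]

theorem linSub_comm [Finite G] {a b : Equiv.Perm (IrrCharacter G)} (ha : a ∈ linSub G N)
    (hb : b ∈ linSub G N) : a * b = b * a := by
  obtain ⟨β, hβ, ha⟩ := ha
  obtain ⟨γ, hγ, hb⟩ := hb
  apply Equiv.ext
  intro χ
  apply Subtype.ext
  rw [Equiv.Perm.mul_apply, Equiv.Perm.mul_apply, ha, hb, hb, ha, mul_right_comm]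

/-- Multiplication by a linear character, as a permutation of `Irr(G)`. -/
noncomputable def twPerm [Fintype G] {β : G → ℂ} (hβ : IsLin G N β) :
    Equiv.Perm (IrrCharacter G) :=
  Equiv.ofBijective
    (fun χ : IrrCharacter G =>
      (⟨(χ : G → ℂ) * β, isIrrCharacter_mul_of_linear hβ.1 hβ.2.1 χ.2⟩ : IrrCharacter G))
    (Finite.injective_iff_bijective.mp (by
      intro χ χ' h
      apply Subtype.ext
      funext g
      have h1 := congrFun (congrArg Subtype.val h) g
      simp only [Pi.mul_apply] at h1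
      exact mul_right_cancel₀ (hβ.ne_zero G N g) h1))

theorem twPerm_apply [Fintype G] {β : G → ℂ} (hβ : IsLin G N β) (χ : IrrCharacter G) :
    ((twPerm G N hβ χ : IrrCharacter G) : G → ℂ) = (χ : G → ℂ) * β := rfl

theorem twPerm_mem [Fintype G] {β : G → ℂ} (hβ : IsLin G N β) : twPerm G N hβ ∈ linSub G N :=
  ⟨β, hβ, fun _ => rfl⟩

/-- The permutation of `Irr(G)` induced by conjugation with an element normalising `G`. -/
noncomputable def actPerm (x : Γ) (hx : x ∈ normalizer (G : Set Γ)) :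
    Equiv.Perm (IrrCharacter G) where
  toFun χ := ⟨act G x χ, act_isIrr G hx χ.2⟩
  invFun χ := ⟨act G x⁻¹ χ, act_isIrr G ((normalizer (G : Set Γ)).inv_mem hx) χ.2⟩
  left_inv χ := Subtype.ext (act_inv_act G hx χ)
  right_inv χ := Subtype.ext (act_act_inv G hx χ)

theorem actPerm_apply (x : Γ) (hx : x ∈ normalizer (G : Set Γ)) (χ : IrrCharacter G) :
    ((actPerm G x hx χ : IrrCharacter G) : G → ℂ) = act G x χ := rfl

theorem actPerm_inv_apply (x : Γ) (hx : x ∈ normalizer (G : Set Γ)) (χ : IrrCharacter G) :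
    (((actPerm G x hx)⁻¹ χ : IrrCharacter G) : G → ℂ) = act G x⁻¹ χ := rfl

/-- The action of `S` on `Irr(G)` as a homomorphism. -/
noncomputable def actHom (hSG : S ≤ normalizer (G : Set Γ)) : S →* Equiv.Perm (IrrCharacter G) :=
  MonoidHom.mk' (fun s => actPerm G (s : Γ)⁻¹ ((normalizer (G : Set Γ)).inv_mem (hSG s.2))) (by
    intro a b
    apply Equiv.ext
    intro χ
    apply Subtype.ext
    rw [Equiv.Perm.mul_apply, actPerm_apply, actPerm_apply, actPerm_apply]
    have e : ((a * b : S) : Γ)⁻¹ = (b : Γ)⁻¹ * (a : Γ)⁻¹ := by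
      rw [Subgroup.coe_mul, mul_inv_rev]
    rw [e, act_mul G ((normalizer (G : Set Γ)).inv_mem (hSG b.2))
      ((normalizer (G : Set Γ)).inv_mem (hSG a.2))])

theorem actHom_apply (hSG : S ≤ normalizer (G : Set Γ)) (s : S) :
    actHom G S hSG s = actPerm G (s : Γ)⁻¹ ((normalizer (G : Set Γ)).inv_mem (hSG s.2)) := rfl

end Abelian

section AbelianCase

variable {Γ : Type*} [Group Γ] (G S N : Subgroup Γ) [Fintype G] [Fintype N] [Finite S]

/-- The case of an abelian quotient `G / N`. -/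
theorem abelian_case (hSG : S ≤ normalizer (G : Set Γ)) (hSN : S ≤ normalizer (N : Set Γ))
    (hNG : N ≤ G) (hGN : G ≤ normalizer (N : Set Γ))
    (hcop : (N.relIndex G).Coprime (Nat.card S))
    (hab : ∀ x ∈ G, ∀ y ∈ G, x * y * x⁻¹ * y⁻¹ ∈ N)
    {θ : N → ℂ} (hθ : IsIrrCharacter N θ) (hinv : ∀ s ∈ S, act N s θ = θ) :
    ∃ χ : G → ℂ, IsIrrCharacter G χ ∧ classInner (fun n : N => χ ⟨n, hNG n.2⟩) θ ≠ 0 ∧
      ∀ s ∈ S, act G s χ = χ := by
  classical
  haveI hNn : (N.subgroupOf G).Normal := Subgroup.normal_subgroupOf_of_le_normalizer hGN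
  haveI : Fintype (N.subgroupOf G) := Fintype.ofFinite _
  obtain ⟨χ₀, hχ₀, hχ₀θ⟩ := exists_over_sub hNG hθ
  let x₀ : IrrCharacter G := ⟨χ₀, hχ₀⟩
  set A : Subgroup (Equiv.Perm (IrrCharacter G)) := linSub G N with hA
  set B : Subgroup (Equiv.Perm (IrrCharacter G)) := (actHom G S hSG).range with hB
  set T : Subgroup (Equiv.Perm (IrrCharacter G)) :=
    MulAction.stabilizer (Equiv.Perm (IrrCharacter G)) x₀ with hT
  -- `B` normalises `A`
  have hBn : B ≤ normalizer (A : Set (Equiv.Perm (IrrCharacter G))) := by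
    apply Cfsg.Agent.Lib.Helper82.le_normalizer_of_conj_mem
    rintro b ⟨s, rfl⟩ a ⟨β, hβ, ha⟩
    have ht : (s : Γ)⁻¹ ∈ S := S.inv_mem s.2
    refine ⟨act G (s : Γ)⁻¹ β, hβ.act G N (hSG ht) (hSN ht), ?_⟩
    intro χ
    rw [Equiv.Perm.mul_apply, Equiv.Perm.mul_apply, actHom_apply, actPerm_apply, ha,
      actPerm_inv_apply, act_mul_fun G (hSG ht), act_act_inv G (hSG ht)]
  -- orders
  have hcardB : Nat.card B ∣ Nat.card S := Subgroup.card_range_dvd (actHom G S hSG)
  have hcopAB : (Nat.card A).Coprime (Nat.card B) := by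
    apply Nat.coprime_of_dvd
    intro p hp hpA hpB
    haveI := Fact.mk hp
    obtain ⟨a, ha⟩ := exists_prime_orderOf_dvd_card' p hpA
    have h1 : (a : Equiv.Perm (IrrCharacter G)) ^ (N.relIndex G) = 1 :=
      linSub_pow_relIndex G N a.2
    have h2 : p ∣ N.relIndex G := by
      rw [← ha, ← Subgroup.orderOf_coe]
      exact orderOf_dvd_of_pow_eq_one h1
    have h3 : p ∣ Nat.card S := hpB.trans hcardB
    have h4 : p ∣ 1 := by
      have := Nat.dvd_gcd h2 h3
      rwa [hcop.gcd_eq_one] at this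
    exact hp.one_lt.ne' (Nat.dvd_one.mp h4)
  -- `A` is abelian
  have hAsolv : Group.IsSolvable A := by
    apply isSolvable_of_comm
    intro a b
    apply Subtype.ext
    exact linSub_comm G N a.2 b.2
  -- transitivity
  have hBAT : ∀ b ∈ B, ∃ a ∈ A, a⁻¹ * b ∈ T := by
    rintro b ⟨s, rfl⟩
    have ht : (s : Γ)⁻¹ ∈ S := S.inv_mem s.2
    set χ₁ : G → ℂ := act G (s : Γ)⁻¹ χ₀ with hχ₁d
    have hχ₁ : IsIrrCharacter G χ₁ := act_isIrr G (hSG ht) hχ₀
    have hχ₁θ : classInner (fun n : N => χ₁ ⟨n, hNG n.2⟩) θ ≠ 0 := by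
      rw [hχ₁d, classInner_res_act G N hNG (hSG ht) (hSN ht) χ₀ (hinv _ ht)]
      exact hχ₀θ
    have hne : classInner (fun n : N => χ₁ ⟨n, hNG n.2⟩) (fun n : N => χ₀ ⟨n, hNG n.2⟩) ≠ 0 :=
      classInner_ne_zero_of_common (isCharacter_res hNG (IsIrrCharacter.isCharacter hχ₁))
        (isCharacter_res hNG (IsIrrCharacter.isCharacter hχ₀)) hθ hχ₁θ hχ₀θ
    have hne' : classInner (fun n : N.subgroupOf G => χ₁ n) (fun n : N.subgroupOf G => χ₀ n)
        ≠ 0 := by
      have := classInner_resSub hNG χ₁ (fun n : N => χ₀ ⟨n, hNG n.2⟩)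
      rw [← this] at hne
      exact hne
    have hab' : ∀ x y : G, x * y * x⁻¹ * y⁻¹ ∈ N.subgroupOf G := by
      intro x y
      rw [mem_subgroupOf]
      exact hab x x.2 y y.2
    obtain ⟨β, hβi, hβ1, hβN, hχ₁e⟩ := exists_linear_twist (N.subgroupOf G) hab' hχ₁ hχ₀ hne'
    have hβ : IsLin G N β :=
      ⟨IsIrrCharacter.isCharacter hβi, hβ1, fun g hg => hβN g (mem_subgroupOf.mpr hg)⟩
    refine ⟨twPerm G N hβ, twPerm_mem G N hβ, ?_⟩
    rw [hT, MulAction.mem_stabilizer_iff, Equiv.Perm.smul_def, Equiv.Perm.mul_apply]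
    have e : (actHom G S hSG) s x₀ = twPerm G N hβ x₀ := by
      apply Subtype.ext
      rw [actHom_apply, actPerm_apply, twPerm_apply]
      exact hχ₁e
    rw [e, Equiv.Perm.inv_def, Equiv.symm_apply_apply]
  obtain ⟨a, ha, hconj⟩ := Cfsg.Agent.Lib.Helper82.glauberman_lemma_nz A B T hBn hcopAB
    (Or.inl hAsolv) hBAT
  obtain ⟨β, hβ, hβa⟩ := A.inv_mem ha
  have hfix : ∀ s ∈ S, act G s⁻¹ ((a⁻¹ x₀ : IrrCharacter G) : G → ℂ) = (a⁻¹ x₀ : IrrCharacter G) := by
    intro s hs
    have hb : actHom G S hSG ⟨s, hs⟩ ∈ B := ⟨⟨s, hs⟩, rfl⟩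
    have h1 := hconj _ hb
    rw [hT, MulAction.mem_stabilizer_iff, Equiv.Perm.smul_def, Equiv.Perm.mul_apply,
      Equiv.Perm.mul_apply] at h1
    have h2 := congrArg (a⁻¹ : Equiv.Perm (IrrCharacter G)) h1
    rw [Equiv.Perm.inv_def, Equiv.symm_apply_apply] at h2
    have h3 := congrArg Subtype.val h2
    rw [actHom_apply, actPerm_apply] at h3
    exact h3
  refine ⟨((a⁻¹ x₀ : IrrCharacter G) : G → ℂ), (a⁻¹ x₀ : IrrCharacter G).2, ?_, ?_⟩
  · rw [hβa]
    have e : (fun n : N => ((x₀ : G → ℂ) * β) ⟨n, hNG n.2⟩) = fun n : N => χ₀ ⟨n, hNG n.2⟩ := by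
      funext n
      rw [Pi.mul_apply, hβ.2.2 _ n.2, mul_one]
    rw [e]
    exact hχ₀θ
  · intro s hs
    have := hfix s⁻¹ (S.inv_mem hs)
    rw [inv_inv] at this
    exact this

end AbelianCase

section Induction

variable {Γ : Type*} [Group Γ]

theorem sup_conj_mem {N D : Subgroup Γ} {x : Γ} (hN : ∀ y ∈ N, x * y * x⁻¹ ∈ N)
    (hD : ∀ y ∈ D, x * y * x⁻¹ ∈ D) : ∀ y ∈ N ⊔ D, x * y * x⁻¹ ∈ N ⊔ D := by
  have h : N ⊔ D ≤ (N ⊔ D).comap (MulAut.conj x).toMonoidHom := by
    apply sup_le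
    · intro y hy
      rw [mem_comap]
      exact le_sup_left (a := N) (hN y hy)
    · intro y hy
      rw [mem_comap]
      exact le_sup_right (b := D) (hD y hy)
  intro y hy
  exact h hy

/-- Conjugation by an element normalising `G` preserves the terms of the derived series of
`G`. -/
theorem conj_mem_derived (G : Subgroup Γ) {x : Γ} (hx : x ∈ normalizer (G : Set Γ)) (k : ℕ)
    {y : Γ} (hy : y ∈ (derivedSeries G k).map G.subtype) :
    x * y * x⁻¹ ∈ (derivedSeries G k).map G.subtype := by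
  obtain ⟨y', hy', rfl⟩ := mem_map.mp hy
  have h := (Subgroup.characteristic_iff_le_comap.mp (derivedSeries_characteristic G k))
    (cEquiv G x hx)
  have h2 := h hy'
  exact mem_map.mpr ⟨cEquiv G x hx y', h2, rfl⟩

variable [Finite Γ] (G S : Subgroup Γ) [Fintype G]

theorem main_aux (hSG : S ≤ normalizer (G : Set Γ)) :
    ∀ k : ℕ, ∀ (N : Subgroup Γ) [Fintype N] (hNG : N ≤ G), G ≤ normalizer (N : Set Γ) →
      S ≤ normalizer (N : Set Γ) → (N.relIndex G).Coprime (Nat.card S) →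
      derivedSeries G k ≤ N.subgroupOf G →
      ∀ θ : N → ℂ, IsIrrCharacter N θ → (∀ s ∈ S, act N s θ = θ) →
      ∃ χ : G → ℂ, IsIrrCharacter G χ ∧ classInner (fun n : N => χ ⟨n, hNG n.2⟩) θ ≠ 0 ∧
        ∀ s ∈ S, act G s χ = χ := by
  intro k
  induction k with
  | zero =>
    intro N _ hNG hGN hSN hcop hk θ hθ hinv
    apply abelian_case G S N hSG hSN hNG hGN hcop _ hθ hinv
    intro x hx y hy
    have h1 : (⟨x * y * x⁻¹ * y⁻¹, G.mul_mem (G.mul_mem (G.mul_mem hx hy) (G.inv_mem hx))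
        (G.inv_mem hy)⟩ : G) ∈ N.subgroupOf G := by
      apply hk
      rw [derivedSeries_zero]
      exact mem_top _
    exact mem_subgroupOf.mp h1
  | succ k ih =>
    intro N _ hNG hGN hSN hcop hk θ hθ hinv
    classical
    haveI hNn : (N.subgroupOf G).Normal := Subgroup.normal_subgroupOf_of_le_normalizer hGN
    set D : Subgroup Γ := (derivedSeries G k).map G.subtype with hD
    set M : Subgroup Γ := N ⊔ D with hM
    haveI : Fintype M := Fintype.ofFinite M
    have hDG : D ≤ G := by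
      intro y hy
      obtain ⟨y', -, rfl⟩ := mem_map.mp hy
      exact y'.2
    have hNM : N ≤ M := le_sup_left
    have hMG : M ≤ G := sup_le hNG hDG
    have hconj : ∀ x : Γ, x ∈ normalizer (G : Set Γ) → x ∈ normalizer (N : Set Γ) →
        ∀ y ∈ M, x * y * x⁻¹ ∈ M := by
      intro x hxG hxN
      apply sup_conj_mem
      · intro y hy
        exact (mem_normalizer_iff.mp hxN y).mp hy
      · intro y hy
        exact conj_mem_derived G hxG k hy
    have hGM : G ≤ normalizer (M : Set Γ) :=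
      Cfsg.Agent.Lib.Helper82.le_normalizer_of_conj_mem G M
        (fun x hx => hconj x (le_normalizer hx) (hGN hx))
    have hSM : S ≤ normalizer (M : Set Γ) :=
      Cfsg.Agent.Lib.Helper82.le_normalizer_of_conj_mem S M
        (fun x hx => hconj x (hSG hx) (hSN hx))
    have hMN : M ≤ normalizer (N : Set Γ) := hMG.trans hGN
    have hidx := Subgroup.relIndex_mul_relIndex N M G hNM hMG
    have hcop1 : (N.relIndex M).Coprime (Nat.card S) :=
      Nat.Coprime.coprime_dvd_left (Dvd.intro _ hidx) hcop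
    have hcop2 : (M.relIndex G).Coprime (Nat.card S) :=
      Nat.Coprime.coprime_dvd_left (Dvd.intro_left _ hidx) hcop
    -- the structure of `M` inside `G`
    have hDsub : D.subgroupOf G = derivedSeries G k := by
      rw [hD]
      exact Subgroup.comap_map_eq_self_of_injective G.subtype_injective _
    have hM' : M.subgroupOf G = N.subgroupOf G ⊔ derivedSeries G k := by
      rw [hM, subgroupOf_sup hNG hDG, hDsub]
    have hcomm : ⁅M.subgroupOf G, M.subgroupOf G⁆ ≤ N.subgroupOf G := by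
      have hker : (QuotientGroup.mk' (N.subgroupOf G)).ker = N.subgroupOf G :=
        QuotientGroup.ker_mk' _
      have h1 : (M.subgroupOf G).map (QuotientGroup.mk' (N.subgroupOf G)) =
          (derivedSeries G k).map (QuotientGroup.mk' (N.subgroupOf G)) := by
        rw [hM', Subgroup.map_sup, (Subgroup.map_eq_bot_iff (N.subgroupOf G)).mpr hker.ge,
          bot_sup_eq]
      have h2 : (⁅M.subgroupOf G, M.subgroupOf G⁆).map (QuotientGroup.mk' (N.subgroupOf G))
          = ⊥ := by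
        rw [Subgroup.map_commutator, h1, ← Subgroup.map_commutator, Subgroup.map_eq_bot_iff, hker]
        exact hk
      rw [Subgroup.map_eq_bot_iff, hker] at h2
      exact h2
    have habM : ∀ x ∈ M, ∀ y ∈ M, x * y * x⁻¹ * y⁻¹ ∈ N := by
      intro x hx y hy
      have hx' : (⟨x, hMG hx⟩ : G) ∈ M.subgroupOf G := mem_subgroupOf.mpr hx
      have hy' : (⟨y, hMG hy⟩ : G) ∈ M.subgroupOf G := mem_subgroupOf.mpr hy
      have h3 := hcomm (Subgroup.commutator_mem_commutator hx' hy')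
      have h4 := mem_subgroupOf.mp h3
      rw [commutatorElement_def] at h4
      exact h4
    have hkM : derivedSeries G k ≤ M.subgroupOf G := by
      rw [hM']
      exact le_sup_right
    obtain ⟨ψ, hψ, hψθ, hψinv⟩ := abelian_case M S N hSM hSN hNM hMN hcop1 habM hθ hinv
    obtain ⟨χ, hχ, hχψ, hχinv⟩ := ih M hMG hGM hSM hcop2 hkM ψ hψ hψinv
    exact ⟨χ, hχ, const_trans hNM hMG (IsIrrCharacter.isCharacter hχ) hψ hθ hχψ hψθ, hχinv⟩

end Induction

/-- Inside a finite group Γ let S normalise G and also normalise a normal subgroup N of G, with the order of S coprime to the index of N in G and G/N solvable. Then for every S-invariant irreducible character ϑ of N, the induced character ϑ^G has an S-invariant irreducible constituent. -/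
theorem result {Γ : Type*} [Group Γ] [Fintype Γ] (G S N : Subgroup Γ) [Fintype G] [Fintype N] (hnorm : ∀ s ∈ S, ∀ g ∈ G, s * g * s⁻¹ ∈ G) (hNG : N ≤ G) [hNn : (N.subgroupOf G).Normal] (hNS : ∀ s ∈ S, ∀ n ∈ N, s * n * s⁻¹ ∈ N) (hcop : (N.relIndex G).Coprime (Nat.card S)) (hsolv : Group.IsSolvable (G ⧸ N.subgroupOf G)) (θ : Cfsg.IrrCharacter N) (hinv : (∀ s ∈ S, ∀ g g' : N, (g' : Γ) = s * g * s⁻¹ → (θ : N → ℂ) g' = (θ : N → ℂ) g)) : ∃ χ : Cfsg.IrrCharacter G, Cfsg.classInner (fun n : N => (χ : G → ℂ) ⟨n, hNG n.2⟩) (θ : N → ℂ) ≠ 0 ∧ (∀ s ∈ S, ∀ g g' : G, (g' : Γ) = s * g * s⁻¹ → (χ : G → ℂ) g' = (χ : G → ℂ) g) := by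
  classical
  obtain ⟨θ, hθ⟩ := θ
  simp only at hinv
  have hSG : S ≤ normalizer (G : Set Γ) :=
    Cfsg.Agent.Lib.Helper82.le_normalizer_of_conj_mem S G hnorm
  have hSN : S ≤ normalizer (N : Set Γ) :=
    Cfsg.Agent.Lib.Helper82.le_normalizer_of_conj_mem S N hNS
  have hGN : G ≤ normalizer (N : Set Γ) := le_normalizer_of_normal_subgroupOf G N hNG
  obtain ⟨k, hk⟩ := (isSolvable_def _).mp hsolv
  have hk' : derivedSeries G k ≤ N.subgroupOf G := by
    have h1 := map_derivedSeries_eq (f := QuotientGroup.mk' (N.subgroupOf G))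
      (QuotientGroup.mk'_surjective _) k
    rw [hk, Subgroup.map_eq_bot_iff, QuotientGroup.ker_mk'] at h1
    exact h1
  have hinv' : ∀ s ∈ S, act N s θ = θ := by
    intro s hs
    funext n
    rw [act_apply N (hSN hs)]
    exact hinv s hs n (cEquiv N s (hSN hs) n) rfl
  obtain ⟨χ, hχ, hχθ, hχinv⟩ := main_aux G S hSG k N hNG hGN hSN hcop hk' θ hθ hinv'
  refine ⟨⟨χ, hχ⟩, hχθ, ?_⟩
  intro s hs g g' hgg'
  show χ g' = χ g
  have h1 := congrFun (hχinv s hs) g
  rw [act_apply G (hSG hs)] at h1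
  rw [← h1]
  congr 1
  apply Subtype.ext
  rw [cEquiv_coe]
  exact hgg'

end Cfsg.Agent.S4448
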