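import Cfsg.Statements.S0957
import Mathlib.GroupTheory.GroupAction.Quotient
import Mathlib.GroupTheory.Index

set_option autoImplicit false
open Cfsg

namespace Cfsg.Agent.S0957

/-- The set of pairs. -/
abbrev Pairs {G : Type*} [Group G] (P : Subgroup G) (g h : G) : Type _ :=
  {yz : G × G // IsConj g yz.1 ∧ IsConj h yz.2 ∧ yz.2 * yz.1⁻¹ ∈ P}

/-- Simultaneous conjugation by elements of `P`. -/
@[instance_reducible] def pairsAction {G : Type*} [Group G] (P : Subgroup G) (g h : G) : MulAction P (Pairs P g h) where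
  smul u x := ⟨(u.1 * x.1.1 * u.1⁻¹, u.1 * x.1.2 * u.1⁻¹),
    x.2.1.trans (isConj_iff.2 ⟨u.1, rfl⟩), x.2.2.1.trans (isConj_iff.2 ⟨u.1, rfl⟩), by
      have e : u.1 * x.1.2 * u.1⁻¹ * (u.1 * x.1.1 * u.1⁻¹)⁻¹ = u.1 * (x.1.2 * x.1.1⁻¹) * u.1⁻¹ := by
        group
      show u.1 * x.1.2 * u.1⁻¹ * (u.1 * x.1.1 * u.1⁻¹)⁻¹ ∈ P
      rw [e]
      exact P.mul_mem (P.mul_mem u.2 x.2.2.2) (P.inv_mem u.2)⟩
  one_smul x := by
    apply Subtype.ext
    show ((1 : P).1 * x.1.1 * (1 : P).1⁻¹, (1 : P).1 * x.1.2 * (1 : P).1⁻¹) = x.1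
    simp
  mul_smul u v x := by
    apply Subtype.ext
    show ((u * v).1 * x.1.1 * (u * v).1⁻¹, (u * v).1 * x.1.2 * (u * v).1⁻¹) =
      (u.1 * (v.1 * x.1.1 * v.1⁻¹) * u.1⁻¹, u.1 * (v.1 * x.1.2 * v.1⁻¹) * u.1⁻¹)
    simp only [Subgroup.coe_mul, mul_inv_rev, mul_assoc]

theorem dvd_card_of_orbit {A X : Type*} [Group A] [Finite X] [MulAction A X] (m : ℕ)
    (hm : ∀ x : X, m ∣ Nat.card (MulAction.orbit A x)) : m ∣ Nat.card X := by
  classical
  have : Fintype (MulAction.orbitRel.Quotient A X) := Fintype.ofFinite _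
  rw [Nat.card_congr (MulAction.selfEquivSigmaOrbits A X), Nat.card_sigma]
  apply Finset.dvd_sum
  intro ω _
  exact hm _

theorem card_centralizer_conj {G : Type*} [Group G] [Finite G] (g t : G) :
    Nat.card (Subgroup.centralizer ({t * g * t⁻¹} : Set G)) =
      Nat.card (Subgroup.centralizer ({g} : Set G)) := by
  apply Nat.card_congr
  refine ⟨fun k => ⟨t⁻¹ * k.1 * t, ?_⟩, fun k => ⟨t * k.1 * t⁻¹, ?_⟩, ?_, ?_⟩
  · have hk := k.2
    rw [Subgroup.mem_centralizer_singleton_iff] at hk ⊢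
    calc t⁻¹ * k.1 * t * g = t⁻¹ * (k.1 * (t * g * t⁻¹)) * t := by group
      _ = t⁻¹ * ((t * g * t⁻¹) * k.1) * t := by rw [hk]
      _ = g * (t⁻¹ * k.1 * t) := by group
  · have hk := k.2
    rw [Subgroup.mem_centralizer_singleton_iff] at hk ⊢
    calc t * k.1 * t⁻¹ * (t * g * t⁻¹) = t * (k.1 * g) * t⁻¹ := by group
      _ = t * (g * k.1) * t⁻¹ := by rw [hk]
      _ = t * g * t⁻¹ * (t * k.1 * t⁻¹) := by group
  · intro k; apply Subtype.ext; show t * (t⁻¹ * k.1 * t) * t⁻¹ = k.1; group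
  · intro k; apply Subtype.ext; show t⁻¹ * (t * k.1 * t⁻¹) * t = k.1; group

/-- Let P be a Sylow p-subgroup of the finite group G, let g, h ∈ G and let p ^ d be the order of a Sylow p-subgroup of the centralizer of g. Then the number of pairs (y, z) with y conjugate to g, z conjugate to h and z * y⁻¹ ∈ P is divisible by the order of P divided by p ^ d. -/
theorem result {G : Type*} [Group G] [Finite G] (p : ℕ) [Fact p.Prime] (P : Sylow p G) (g h : G) (S : Sylow p (Subgroup.centralizer ({g} : Set G))) : Nat.card P / Nat.card S ∣ Nat.card {yz : G × G // IsConj g yz.1 ∧ IsConj h yz.2 ∧ yz.2 * yz.1⁻¹ ∈ (P : Subgroup G)} := by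
  have hp : p.Prime := Fact.out
  let _ := pairsAction (P : Subgroup G) g h
  show _ ∣ Nat.card (Pairs (P : Subgroup G) g h)
  apply dvd_card_of_orbit (A := (P : Subgroup G))
  intro x
  rw [Nat.card_coe_set_eq, ← MulAction.index_stabilizer]
  set St := MulAction.stabilizer (P : Subgroup G) x with hSt
  obtain ⟨⟨y, z⟩, hy, hz, hzy⟩ := x
  -- the stabilizer is a p-group
  have hStp : IsPGroup p St := P.2.to_subgroup St
  obtain ⟨k, hk⟩ := hStp.exists_card_eq
  have hPcard : Nat.card (P : Subgroup G) = p ^ (Nat.card G).factorization p := P.card_eq_multiplicity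
  have hScard := S.card_eq_multiplicity
  have hidx : St.index * Nat.card St = Nat.card (P : Subgroup G) := St.index_mul_card
  -- the stabilizer embeds in C(g)
  obtain ⟨t, ht⟩ := isConj_iff.1 hy
  have hStC : Nat.card St ∣ Nat.card (Subgroup.centralizer ({g} : Set G)) := by
    rw [← card_centralizer_conj g t, ht]
    let f : St →* Subgroup.centralizer ({y} : Set G) :=
      ((P : Subgroup G).subtype.comp St.subtype).codRestrict _ (by
        intro u
        have hu : u.1 • (⟨(y, z), hy, hz, hzy⟩ : Pairs (P : Subgroup G) g h) = ⟨(y, z), hy, hz, hzy⟩ :=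
          MulAction.mem_stabilizer_iff.1 u.2
        have hu1 : u.1.1 * y * u.1.1⁻¹ = y := congrArg (fun q => q.1.1) hu
        rw [Subgroup.mem_centralizer_singleton_iff]
        show u.1.1 * y = y * u.1.1
        calc u.1.1 * y = (u.1.1 * y * u.1.1⁻¹) * u.1.1 := by group
          _ = y * u.1.1 := by rw [hu1])
    apply Subgroup.card_dvd_of_injective f
    intro a b hab
    have : (f a : G) = (f b : G) := congrArg Subtype.val hab
    exact Subtype.ext (Subtype.ext this)
  set a := (Nat.card G).factorization p with ha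
  set d := (Nat.card (Subgroup.centralizer ({g} : Set G))).factorization p with hd
  have hC0 : Nat.card (Subgroup.centralizer ({g} : Set G)) ≠ 0 := Nat.card_pos.ne'
  have hG0 : Nat.card G ≠ 0 := Nat.card_pos.ne'
  have hkd : k ≤ d := by
    rw [hk] at hStC
    exact (hp.pow_dvd_iff_le_factorization hC0).1 hStC
  have hda : d ≤ a := by
    have : p ^ d ∣ Nat.card G :=
      (Nat.ordProj_dvd _ p).trans (Subgroup.card_subgroup_dvd_card _)
    exact (hp.pow_dvd_iff_le_factorization hG0).1 this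
  have hppos : 0 < p := hp.pos
  have hidx' : St.index = p ^ (a - k) := by
    rw [hk, hPcard] at hidx
    have : p ^ a = p ^ (a - k) * p ^ k := by rw [← pow_add]; congr 1; omega
    rw [this] at hidx
    exact Nat.eq_of_mul_eq_mul_right (pow_pos hppos k) hidx
  have hdiv : Nat.card (P : Subgroup G) / Nat.card S = p ^ (a - d) := by
    rw [hPcard, hScard]
    exact Nat.pow_div hda hppos
  show Nat.card (P : Subgroup G) / Nat.card S ∣ St.index
  rw [hdiv, hidx']
  exact pow_dvd_pow p (by omega)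

end Cfsg.Agent.S0957
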