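import Cfsg.Statements.S0966
import Cfsg.Agent.Lib.Helper16.RegularDet
import Cfsg.Agent.Lib.Helper77.Clifford
import Cfsg.Agent.Lib.Helper3.Ortho

set_option autoImplicit false
open Cfsg

namespace Cfsg.Agent.S0966

open Cfsg.Agent.Lib.Helper16 Cfsg.Agent.Lib.Helper77 Cfsg.Agent.Lib.Helper80 Cfsg.Agent.Lib.Helper81
open scoped ComplexConjugate

/-- Every irreducible character of a subgroup lies under some irreducible character of `G`. -/
theorem exists_over {G : Type*} [Group G] [Fintype G] (N : Subgroup G) [Fintype N]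
    (θ : Cfsg.IrrCharacter N) :
    ∃ χ : Cfsg.IrrCharacter G, Cfsg.classInner (fun n : N => (χ : G → ℂ) n) (θ : N → ℂ) ≠ 0 := by
  classical
  have := Fintype.ofFinite (Cfsg.IrrCharacter G)
  by_contra hcon
  push Not at hcon
  have hN : (Nat.card N : ℂ) ≠ 0 := Nat.cast_ne_zero.mpr Nat.card_pos.ne'
  have h1 : ∑ χ : Cfsg.IrrCharacter G, conj ((χ : G → ℂ) 1) *
      Cfsg.classInner (fun n : N => (χ : G → ℂ) n) (θ : N → ℂ) = 0 :=
    Finset.sum_eq_zero fun χ _ => by rw [hcon χ, mul_zero]
  have h2 : ∑ χ : Cfsg.IrrCharacter G, conj ((χ : G → ℂ) 1) *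
      Cfsg.classInner (fun n : N => (χ : G → ℂ) n) (θ : N → ℂ) =
      (Nat.card N : ℂ)⁻¹ * ∑ n : N, (∑ χ : Cfsg.IrrCharacter G,
        (χ : G → ℂ) n * conj ((χ : G → ℂ) 1)) * conj ((θ : N → ℂ) n) := by
    unfold Cfsg.classInner
    simp only [Finset.mul_sum, Finset.sum_mul]
    rw [Finset.sum_comm]
    refine Finset.sum_congr rfl fun n _ => Finset.sum_congr rfl fun χ _ => ?_
    ring
  rw [h2] at h1
  have h3 : ∀ n : N, (∑ χ : Cfsg.IrrCharacter G,
      (χ : G → ℂ) n * conj ((χ : G → ℂ) 1)) * conj ((θ : N → ℂ) n) =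
      if n = 1 then (Nat.card G : ℂ) * conj ((θ : N → ℂ) 1) else 0 := by
    intro n
    rw [Cfsg.Agent.Lib.Helper3.column_orthogonality (n : G) 1]
    by_cases hn : n = 1
    · rw [if_pos hn, hn, if_pos (by simp)]
      congr 2
      simp only [OneMemClass.coe_one]
      rw [← Subgroup.card_top (G := G)]
      congr 2
      ext x
      simp [Subgroup.mem_centralizer_iff]
    · rw [if_neg hn, if_neg, zero_mul]
      intro hc
      apply hn
      have := isConj_one_left.mp hc
      exact Subtype.ext this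
  rw [Finset.sum_congr rfl fun n _ => h3 n, Finset.sum_ite_eq' Finset.univ (1 : N)] at h1
  simp only [Finset.mem_univ, if_true] at h1
  have hG : (Nat.card G : ℂ) ≠ 0 := Nat.cast_ne_zero.mpr Nat.card_pos.ne'
  have hθ1 : conj ((θ : N → ℂ) 1) ≠ 0 := by
    rw [Ne, map_eq_zero]
    exact irr_one_ne_zero θ
  exact (mul_ne_zero (inv_ne_zero hN) (mul_ne_zero hG hθ1)) h1

/-- Let N be a normal subgroup of p-power index in the finite group G and b a block of N relative to a maximal ideal M of the algebraic integers containing p. Then there is exactly one block B of G containing a character whose restriction to N has a constituent in b. -/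
theorem result {G : Type*} [Group G] [Fintype G] (p : ℕ) [Fact p.Prime] (M : Ideal Cfsg.AlgInt) (hM : Cfsg.IsPModular p M) (N : Subgroup G) [N.Normal] [Fintype N] (hidx : ∃ k : ℕ, N.index = p ^ k) (b : Set (Cfsg.IrrCharacter N)) (hb : Cfsg.IsPBlock M b) : ∃! B : Set (Cfsg.IrrCharacter G), Cfsg.IsPBlock M B ∧ ∃ χ ∈ B, ∃ θ ∈ b, Cfsg.classInner (fun n : N => (χ : G → ℂ) n) (θ : N → ℂ) ≠ 0 := by
  classical
  have hMp : M.IsPrime := isPrime_of_isPModular hM
  obtain ⟨k, hk⟩ := hidx
  obtain ⟨θ₀, rfl⟩ := hb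
  obtain ⟨χ₀, hχ₀⟩ := exists_over N θ₀
  refine ⟨Cfsg.blockOf M (χ₀ : G → ℂ), ⟨⟨χ₀, rfl⟩, χ₀, sameBlock_refl hMp _, θ₀,
    sameBlock_refl hMp _, hχ₀⟩, ?_⟩
  rintro B' ⟨hB', χ', hχ', θ', hθ', hne'⟩
  rw [eq_blockOf_of_mem hMp hB' hχ']
  -- same block
  have hsame : Cfsg.SameBlock M (χ₀ : G → ℂ) (χ' : G → ℂ) := by
    apply sameBlock_of_regular hM
    intro g hg
    have hgN : g ∈ N := mem_of_regular_of_index N hk hg
    have hsupp : ∀ x, x ∉ N → classInd g x = 0 := by
      intro x hx
      unfold classInd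
      rw [if_neg]
      intro hc
      obtain ⟨c, hc⟩ := isConj_iff.mp hc
      apply hx
      rw [← hc]
      exact Subgroup.Normal.conj_mem inferInstance g hgN c
    have e1 := omega_eq_of_classInner_ne_zero N χ₀.2 θ₀.2 hχ₀ (classInd_isClassFunction g) hsupp
    have e2 := omega_eq_of_classInner_ne_zero N χ'.2 θ'.2 hne' (classInd_isClassFunction g) hsupp
    rw [omega_classInd (isClassFunction_of_isCharacter χ₀.2)] at e1
    rw [omega_classInd (isClassFunction_of_isCharacter χ'.2)] at e2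
    rw [e1, e2]
    have hθθ' : Cfsg.SameBlock M (θ₀ : N → ℂ) (θ' : N → ℂ) := hθ'
    apply memLocalIdeal_omega_sub hMp (isClassFunction_of_isCharacter θ₀.2)
      (isClassFunction_of_isCharacter θ'.2) hθθ'
    · intro h x
      show classInd g ((x * h * x⁻¹ : N) : G) = classInd g (h : G)
      push_cast
      exact classInd_isClassFunction g _ _
    · intro h
      unfold classInd
      split_ifs
      · exact memLocalRing_one hMp
      · exact memLocalRing_zero hMp
  ext ψ
  constructor
  · intro hψ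
    exact sameBlock_trans hMp hsame hψ
  · intro hψ
    exact sameBlock_trans hMp (sameBlock_symm hsame) hψ

end Cfsg.Agent.S0966
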