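import Cfsg.Statements.S0924
import Cfsg.Agent.S0923
import Cfsg.Agent.Lib.Helper77.BlockDecomp
import Cfsg.Agent.Lib.Helper77.TransportDefect

set_option autoImplicit false
open Cfsg

namespace Cfsg.Agent.S0924

/-- Let χ be an irreducible character of the finite group G and g ∈ G, and fix a maximal ideal M of the algebraic integers containing the prime p. If the p-part of g is contained in no defect group of the block of χ, then χ g = 0. -/
theorem result {G : Type*} [Group G] [Finite G] (p : ℕ) [Fact p.Prime] (M : Ideal Cfsg.AlgInt) (hM : Cfsg.IsPModular p M) (χ : Cfsg.IrrCharacter G) (g x : G) (hx : Cfsg.IsPPart p g x) (hD : ∀ D : Subgroup G, Cfsg.IsDefectGroup p M (Cfsg.blockOf M (χ : G → ℂ)) D → x ∉ D) : (χ : G → ℂ) g = 0 := by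
  classical
  have := Fintype.ofFinite G
  have := Fintype.ofFinite (Subgroup.centralizer ({x} : Set G))
  have hMp : M.IsPrime := Cfsg.Agent.Lib.Helper81.isPrime_of_isPModular hM
  obtain ⟨y, hxy, hcomm, hxp, hyp⟩ := hx
  have hyC : y ∈ Subgroup.centralizer ({x} : Set G) :=
    Subgroup.mem_centralizer_singleton_iff.mpr hcomm.eq.symm
  have hcommC : ∀ t : Subgroup.centralizer ({x} : Set G), (t : G) * x = x * (t : G) := fun t =>
    Subgroup.mem_centralizer_singleton_iff.mp t.2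
  have hχcl := Cfsg.Agent.Lib.Helper77.isClassFunction_of_isCharacter χ.2
  have hϑ : Cfsg.IsClassFunction (Subgroup.centralizer ({x} : Set G))
      (fun c : Subgroup.centralizer ({x} : Set G) => (χ : G → ℂ) (x * (c : G))) := by
    intro c t
    show (χ : G → ℂ) (x * ((t * c * t⁻¹ : Subgroup.centralizer ({x} : Set G)) : G)) =
      (χ : G → ℂ) (x * (c : G))
    push_cast
    have e1 : x * ((t : G) * (c : G) * (t : G)⁻¹) = (t : G) * (x * (c : G)) * (t : G)⁻¹ := by
      rw [← mul_assoc, ← mul_assoc, ← hcommC t]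
      group
    rw [e1, hχcl]
  have hQ : IsPGroup p (Subgroup.zpowers x) := by
    obtain ⟨k, hk⟩ := hxp
    apply IsPGroup.of_card (n := k)
    rw [Nat.card_zpowers, hk]
  have hnot : ∀ ξ₀ : Cfsg.IrrCharacter (Subgroup.centralizer ({x} : Set G)),
      ¬ Cfsg.IsInducedBlock M (Subgroup.centralizer ({x} : Set G))
        (Cfsg.blockOf M (ξ₀ : Subgroup.centralizer ({x} : Set G) → ℂ))
        (Cfsg.blockOf M (χ : G → ℂ)) := by
    intro ξ₀ hind
    obtain ⟨E, hE, hQE⟩ := Cfsg.Agent.Lib.Helper77.exists_isDefectGroup_ge_of_induced hM hQ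
      (Cfsg.Agent.Lib.Helper77.zpowers_le_centralizer_singleton x)
      (Cfsg.Agent.Lib.Helper77.centralizer_singleton_le_normalizer_zpowers x) hind
    exact hD E hE (hQE (Subgroup.mem_zpowers x))
  have hyo : ¬ p ∣ orderOf (⟨y, hyC⟩ : Subgroup.centralizer ({x} : Set G)) := by
    rw [← Subgroup.orderOf_coe]
    exact hyp
  have hbp : ∀ ξ₀ : Cfsg.IrrCharacter (Subgroup.centralizer ({x} : Set G)),
      Cfsg.blockPart (Cfsg.blockOf M (ξ₀ : Subgroup.centralizer ({x} : Set G) → ℂ))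
        (fun c : Subgroup.centralizer ({x} : Set G) => (χ : G → ℂ) (x * (c : G)))
        (⟨y, hyC⟩ : Subgroup.centralizer ({x} : Set G)) = 0 := by
    intro ξ₀
    exact Cfsg.Agent.S0923.result p M hM x hxp (Cfsg.blockOf M (χ : G → ℂ)) ⟨χ, rfl⟩ χ
      (Cfsg.Agent.Lib.Helper77.self_mem_blockOf hMp χ) _ ⟨ξ₀, rfl⟩ (hnot ξ₀) ⟨y, hyC⟩ hyo
  have h0 : (fun c : Subgroup.centralizer ({x} : Set G) => (χ : G → ℂ) (x * (c : G)))
      (⟨y, hyC⟩ : Subgroup.centralizer ({x} : Set G)) = 0 :=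
    Cfsg.Agent.Lib.Helper77.eq_zero_of_forall_blockPart_eq_zero hMp hϑ ⟨y, hyC⟩ hbp
  rw [← hxy]
  exact h0

end Cfsg.Agent.S0924
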