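import Cfsg.Statements.S0911
import Cfsg.Agent.Lib.Helper77.MinMax

set_option autoImplicit false
open Cfsg
open scoped Pointwise

namespace Cfsg.Agent.S0911

theorem smul_eq_map {G : Type*} [Group G] (x : G) (H : Subgroup G) :
    (MulAut.conj x • H : Subgroup G) = H.map (MulAut.conj x).toMonoidHom := rfl

/-- The min–max Theorem for defect classes. Let B be a block of the finite group G relative to a maximal ideal M of the algebraic integers containing the prime p, let g represent a defect class of B and let D be a Sylow p-subgroup of the centralizer of g (viewed in G). For any h: (a) if the idempotent coefficient of B at h is a local integer outside the local ideal, then some conjugate of D contains a Sylow p-subgroup of the centralizer of h; (b) if the central character of some member of B at h is outside the local ideal, then some conjugate of D is contained in a Sylow p-subgroup of the centralizer of h. -/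
theorem result {G : Type*} [Group G] [Finite G] (p : ℕ) [Fact p.Prime] (M : Ideal Cfsg.AlgInt) (hM : Cfsg.IsPModular p M) (B : Set (Cfsg.IrrCharacter G)) (hB : Cfsg.IsPBlock M B) (g : G) (hg : Cfsg.IsDefectClass M B g) (D : Sylow p (Subgroup.centralizer ({g} : Set G))) (h : G) : (Cfsg.MemLocalRing M (Cfsg.blockCoeff B h) → ¬ Cfsg.MemLocalIdeal M (Cfsg.blockCoeff B h) → ∃ (x : G) (Q : Sylow p (Subgroup.centralizer ({h} : Set G))), (Q : Subgroup (Subgroup.centralizer ({h} : Set G))).map (Subgroup.centralizer ({h} : Set G)).subtype ≤ ((D : Subgroup (Subgroup.centralizer ({g} : Set G))).map (Subgroup.centralizer ({g} : Set G)).subtype).map (MulAut.conj x).toMonoidHom) ∧ ((∃ χ ∈ B, ¬ Cfsg.MemLocalIdeal M (Cfsg.centralChar (χ : G → ℂ) h)) → ∃ (x : G) (Q : Sylow p (Subgroup.centralizer ({h} : Set G))), ((D : Subgroup (Subgroup.centralizer ({g} : Set G))).map (Subgroup.centralizer ({g} : Set G)).subtype).map (MulAut.conj x).toMonoidHom ≤ (Q : Subgroup (Subgroup.centralizer ({h} : Set G))).map (Subgroup.centralizer ({h} : Set G)).subtype)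 := by
  have := Fintype.ofFinite G
  have hMp : M.IsPrime := Cfsg.Agent.Lib.Helper81.isPrime_of_isPModular hM
  obtain ⟨χ₀, rfl⟩ := hB
  have hχ₀ : χ₀ ∈ Cfsg.blockOf M (χ₀ : G → ℂ) := Cfsg.Agent.Lib.Helper77.self_mem_blockOf hMp χ₀
  constructor
  · intro _ hh
    have hdef := Cfsg.Agent.Lib.Helper77.defLE_of_blockCoeff hM χ₀ g (hg.2.2 χ₀ hχ₀) D h hh
    obtain Q : Sylow p (Subgroup.centralizer ({h} : Set G)) := default
    have hQp : IsPGroup p ((Q : Subgroup (Subgroup.centralizer ({h} : Set G))).map
        (Subgroup.centralizer ({h} : Set G)).subtype) := Q.2.map _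
    obtain ⟨x, hx⟩ := hdef _ hQp (Subgroup.map_subtype_le _)
    refine ⟨x⁻¹, Q, ?_⟩
    rw [← smul_eq_map, map_inv, ← Subgroup.pointwise_smul_subset_iff]
    exact hx
  · rintro ⟨χ, hχ, hχh⟩
    obtain Q : Sylow p (Subgroup.centralizer ({h} : Set G)) := default
    have hh0 : ¬ Cfsg.MemLocalIdeal M (Cfsg.centralChar (χ₀ : G → ℂ) h) := by
      intro h0
      apply hχh
      have h2 : Cfsg.MemLocalIdeal M (Cfsg.centralChar (χ₀ : G → ℂ) h -
          Cfsg.centralChar (χ : G → ℂ) h) := hχ h
      have := Cfsg.Agent.Lib.Helper81.memLocalIdeal_sub hMp h0 h2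
      simpa using this
    have hdef := Cfsg.Agent.Lib.Helper77.defLE_of_blockCoeff hM χ₀ h hh0 Q g hg.2.1
    have hDp : IsPGroup p ((D : Subgroup (Subgroup.centralizer ({g} : Set G))).map
        (Subgroup.centralizer ({g} : Set G)).subtype) := D.2.map _
    obtain ⟨x, hx⟩ := hdef _ hDp (Subgroup.map_subtype_le _)
    exact ⟨x, Q, hx⟩

end Cfsg.Agent.S0911
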