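import Cfsg.Statements.S0914
import Cfsg.Agent.Lib.Helper16.WBO
import Cfsg.Agent.Lib.Helper16.Degree
import Cfsg.Agent.S0909

set_option autoImplicit false
open Cfsg

namespace Cfsg.Agent.S0914

open Cfsg.Agent.Lib.Helper16 Cfsg.Agent.Lib.Helper77 Cfsg.Agent.Lib.Helper80 Cfsg.Agent.Lib.Helper81
open scoped ComplexConjugate

/-- Let χ be an irreducible character of the finite group G, p a prime and M a maximal ideal of the algebraic integers containing p. Then p does not divide the integer (Nat.card G) / χ(1) if and only if the block of χ relative to M consists of χ alone. -/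
theorem result {G : Type*} [Group G] [Finite G] (p : ℕ) [Fact p.Prime] (M : Ideal Cfsg.AlgInt) (hM : Cfsg.IsPModular p M) (χ : Cfsg.IrrCharacter G) : ¬ p ∣ Nat.card G / Cfsg.charDegree (χ : G → ℂ) ↔ Cfsg.blockOf M (χ : G → ℂ) = {χ} := by
  classical
  have := Fintype.ofFinite G
  have := Fintype.ofFinite (Cfsg.IrrCharacter G)
  have hMp : M.IsPrime := isPrime_of_isPModular hM
  have hp : p.Prime := Fact.out
  obtain ⟨d, hd0, hd1, hdeg, hdvd⟩ := irr_degree_spec χ
  rw [hdeg]
  have hGd : Nat.card G = d * (Nat.card G / d) := (Nat.mul_div_cancel' hdvd).symm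
  have hG0 : (Nat.card G : ℂ) ≠ 0 := Nat.cast_ne_zero.mpr Nat.card_pos.ne'
  have hd0' : (d : ℂ) ≠ 0 := Nat.cast_ne_zero.mpr hd0.ne'
  constructor
  · intro hnd
    apply Set.Subset.antisymm
    · apply Cfsg.Agent.S0909.result p M hM {χ} _ χ rfl
      intro g
      have h1 : Cfsg.blockCoeff {χ} g =
          (((Nat.card G / d : ℕ) : ℂ))⁻¹ * conj ((χ : G → ℂ) g) := by
        unfold Cfsg.blockCoeff
        rw [finsum_mem_singleton, hd1]
        have hq0 : ((Nat.card G / d : ℕ) : ℂ) ≠ 0 := by
          apply Nat.cast_ne_zero.mpr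
          intro h0
          rw [h0, mul_zero] at hGd
          exact Nat.card_pos.ne' hGd
        have : (Nat.card G : ℂ) = (d : ℂ) * ((Nat.card G / d : ℕ) : ℂ) := by
          exact_mod_cast hGd
        rw [this]
        field_simp
      rw [h1]
      refine memLocalRing_mul hMp (memLocalRing_inv_natCast hM hnd) ?_
      rw [← irr_conj_inv]
      exact memLocalRing_algInt hMp ⟨_, irr_isIntegral χ g⁻¹⟩
    · intro ψ hψ
      rw [Set.mem_singleton_iff] at hψ
      rw [hψ]
      exact sameBlock_refl hMp _
  · intro hB hdiv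
    -- χ vanishes on p-singular elements
    have hvan : ∀ y : G, p ∣ orderOf y → (χ : G → ℂ) y = 0 := by
      intro y hy
      have h1 := weak_block_orthogonality_finset hM χ (x := 1) (y := y)
        (by rw [orderOf_one]; exact hp.one_lt.ne' ∘ Nat.dvd_one.mp) hy
      rw [hB] at h1
      rw [Finset.sum_eq_single_of_mem χ (by simp) (by
        intro ψ hψ hne
        simp only [Finset.mem_filter, Finset.mem_univ, true_and, Set.mem_singleton_iff] at hψ
        exact absurd hψ hne)] at h1
      rcases mul_eq_zero.mp h1 with h | h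
      · exact absurd h (irr_one_ne_zero χ)
      · simpa using h
    obtain P : Sylow p G := default
    have hvanP : ∀ g ∈ (P : Subgroup G), g ≠ 1 → (χ : G → ℂ) g = 0 := by
      intro g hg hg1
      apply hvan
      obtain ⟨k, hk⟩ := (IsPGroup.iff_orderOf.mp P.isPGroup') ⟨g, hg⟩
      have hk' : orderOf g = p ^ k := by
        rw [← hk]
        exact (Subgroup.orderOf_mk g hg).symm
      rw [hk']
      cases k with
      | zero =>
        rw [pow_zero, orderOf_eq_one_iff] at hk'
        exact absurd hk' hg1
      | succ k => exact dvd_pow_self p (Nat.succ_ne_zero k)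
    obtain ⟨k, hk⟩ := card_dvd_of_vanishing
      (Cfsg.Agent.Lib.Helper3.IsIrrCharacter.isCharacter χ.2) (P : Subgroup G) hvanP
    rw [hd1] at hk
    have hk' : d = Nat.card P * k := by exact_mod_cast hk
    have hPc : Nat.card P = p ^ (Nat.card G).factorization p := P.card_eq_multiplicity
    obtain ⟨t, ht⟩ := hdiv
    set a := (Nat.card G).factorization p with ha
    have e1 : Nat.card G = (p ^ a * k) * (p * t) := by
      conv_lhs => rw [hGd, ht, hk', hPc]
    have : p ^ (a + 1) ∣ Nat.card G := by
      rw [e1, pow_succ]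
      exact ⟨k * t, by ring⟩
    exact Nat.pow_succ_factorization_not_dvd Nat.card_pos.ne' hp this

end Cfsg.Agent.S0914
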