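import Cfsg.Statements.S4456
import Cfsg.Agent.S0867
import Cfsg.Agent.S0894
import Cfsg.Agent.Lib.Helper75.Clifford
import Cfsg.Agent.Lib.Helper80.Main
import Cfsg.Agent.Lib.Helper80.Kernel
import Cfsg.Agent.Lib.Helper81.Irr
import Cfsg.Agent.Lib.Helper15.PGroupSum
import Cfsg.Agent.Lib.Helper15.LinearChar
import Cfsg.Agent.Lib.Helper15.DetChar

set_option autoImplicit false
set_option linter.style.haveILetI false
set_option linter.unusedSectionVars false
open Cfsg

namespace Cfsg.Agent.S4456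

section Op

variable {G : Type*} [Group G] [Finite G]

/-- the intersection of the kernels of the homs of exponent `p` -/
noncomputable def pKer (p : ℕ) (K : Subgroup G) : Subgroup K :=
  ⨅ lam : {lam : K →* ℂˣ // lam ^ p = 1}, (lam : K →* ℂˣ).ker

theorem mem_pKer (p : ℕ) (K : Subgroup G) (k : K) :
    k ∈ pKer p K ↔ ∀ lam : K →* ℂˣ, lam ^ p = 1 → lam k = 1 := by
  unfold pKer
  rw [Subgroup.mem_iInf]
  constructor
  · intro h lam hlam
    exact MonoidHom.mem_ker.1 (h ⟨lam, hlam⟩)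
  · intro h lam
    exact MonoidHom.mem_ker.2 (h lam.1 lam.2)

theorem pow_mem_pKer (p : ℕ) (K : Subgroup G) (k : K) : k ^ p ∈ pKer p K := by
  rw [mem_pKer]
  intro lam hlam
  rw [map_pow]
  have := DFunLike.congr_fun hlam k
  simpa using this

instance pKer_normal (p : ℕ) (K : Subgroup G) : (pKer p K).Normal := by
  unfold pKer
  exact Subgroup.normal_iInf_normal (fun lam => MonoidHom.normal_ker _)

theorem index_pKer (p : ℕ) [hp : Fact p.Prime] (K : Subgroup G) :
    ∃ j : ℕ, (pKer p K).index = p ^ j := by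
  have hP : IsPGroup p (K ⧸ pKer p K) := by
    intro x
    refine ⟨1, ?_⟩
    induction x using QuotientGroup.induction_on with
    | H k =>
      rw [pow_one, ← QuotientGroup.mk_pow, QuotientGroup.eq_one_iff]
      exact pow_mem_pKer p K k
  obtain ⟨j, hj⟩ := IsPGroup.iff_card.1 hP
  exact ⟨j, by rw [Subgroup.index_eq_card, hj]⟩

theorem pKer_map_normal (p : ℕ) (K : Subgroup G) [hK : K.Normal] :
    ((pKer p K).map K.subtype).Normal := by
  constructor
  rintro x ⟨k, hk, rfl⟩ g
  refine ⟨⟨g * k * g⁻¹, hK.conj_mem k k.2 g⟩, ?_, rfl⟩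
  rw [SetLike.mem_coe, mem_pKer] at hk ⊢
  intro lam hlam
  have h1 := hk (lam.comp (MulAut.conjNormal g : MulAut K).toMonoidHom) (by
    refine MonoidHom.ext fun x => ?_
    have := DFunLike.congr_fun hlam ((MulAut.conjNormal g : MulAut K) x)
    simpa using this)
  rw [MonoidHom.comp_apply] at h1
  convert h1 using 2
  apply Subtype.ext
  simp [MulAut.conjNormal_apply]

theorem exists_Op (p : ℕ) [hp : Fact p.Prime] :
    ∃ K : Subgroup G, K.Normal ∧ (∃ a : ℕ, K.index = p ^ a) ∧
      (∀ lam : K →* ℂˣ, lam ^ p = 1 → lam = 1) ∧ ¬ p ∣ (commutator K).index := by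
  classical
  have hfin : {K : Subgroup G | K.Normal ∧ ∃ a : ℕ, K.index = p ^ a}.Finite := Set.toFinite _
  have hne : {K : Subgroup G | K.Normal ∧ ∃ a : ℕ, K.index = p ^ a}.Nonempty :=
    ⟨⊤, inferInstance, 0, by simp⟩
  obtain ⟨K, hKmin⟩ := hfin.exists_minimal hne
  obtain ⟨⟨hKn, a, ha⟩, hmin⟩ := hKmin
  haveI := hKn
  have hlam : ∀ lam : K →* ℂˣ, lam ^ p = 1 → lam = 1 := by
    intro lam hl
    have hL : (pKer p K).map K.subtype ∈ {K : Subgroup G | K.Normal ∧ ∃ a : ℕ, K.index = p ^ a} := by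
      refine ⟨pKer_map_normal p K, ?_⟩
      obtain ⟨j, hj⟩ := index_pKer p K
      refine ⟨j + a, ?_⟩
      have hle : (pKer p K).map K.subtype ≤ K := Subgroup.map_subtype_le _
      rw [← Subgroup.relIndex_mul_index hle, ha, pow_add]
      congr 1
      rw [← hj]
      unfold Subgroup.relIndex
      congr 1
      ext x
      simp [Subgroup.mem_subgroupOf]
    have hle := hmin hL (Subgroup.map_subtype_le _)
    ext k
    obtain ⟨k', hk', hkk'⟩ := hle k.2
    have : k' = k := Subtype.ext hkk'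
    subst this
    have := (mem_pKer p K k').1 hk' lam hl
    simp [this]
  refine ⟨K, hKn, ⟨a, ha⟩, hlam, ?_⟩
  intro hdvd
  obtain ⟨e⟩ := CommGroup.monoidHom_mulEquiv_of_hasEnoughRootsOfUnity (Abelianization K) ℂ
  haveI : Finite (Abelianization K →* ℂˣ) := Finite.of_equiv _ e.symm.toEquiv
  have hcard : Nat.card (Abelianization K →* ℂˣ) = (commutator K).index := by
    rw [Nat.card_congr e.toEquiv, Subgroup.index_eq_card]
    rfl
  rw [← hcard] at hdvd
  obtain ⟨φ, hφ⟩ := exists_prime_orderOf_dvd_card' p hdvd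
  have h1 : φ ^ p = 1 := by rw [← hφ]; exact pow_orderOf_eq_one φ
  have h2 := hlam (φ.comp Abelianization.of) (by
    refine MonoidHom.ext fun x => ?_
    have := DFunLike.congr_fun h1 (Abelianization.of x)
    simpa using this)
  have h3 : φ = 1 := by
    apply Abelianization.hom_ext
    rw [h2]
    rfl
  rw [h3, orderOf_one] at hφ
  exact hp.out.one_lt.ne hφ


end Op

section Main

variable {G : Type*} [Group G] [Finite G]

open Cfsg.Agent.Lib.Helper75 Cfsg.Agent.Lib.Helper15

/-- The action of `G` on the irreducible characters of a normal subgroup. -/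
@[reducible] noncomputable def irrAct (N : Subgroup G) [hN : N.Normal] :
    MulAction G (IrrCharacter N) where
  smul g θ := ⟨conjFun N g⁻¹ (θ : N → ℂ), conjFun_isIrrCharacter N g⁻¹ θ.2⟩
  one_smul θ := by
    apply Subtype.ext
    show conjFun N (1 : G)⁻¹ (θ : N → ℂ) = θ
    rw [inv_one, conjFun_one]
  mul_smul g h θ := by
    apply Subtype.ext
    show conjFun N (g * h)⁻¹ (θ : N → ℂ) = conjFun N g⁻¹ (conjFun N h⁻¹ (θ : N → ℂ))
    rw [conjFun_conjFun, mul_inv_rev]

/-- the determinantal order is prime to `p` when there are no homs of order `p` -/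
theorem detOrder_coprime (p : ℕ) [hp : Fact p.Prime] (K : Subgroup G)
    (hlam : ∀ lam : K →* ℂˣ, lam ^ p = 1 → lam = 1) (ψ : K → ℂ) :
    Nat.Coprime p (Cfsg.detOrder ψ) := by
  unfold Cfsg.detOrder
  have hlin := detChar_isLinear ψ
  have hpw : ∀ (k : K) (n : ℕ), Cfsg.detChar ψ k ^ n = Cfsg.detChar ψ (k ^ n) := fun k n => by
    rw [← linCharHom_apply hlin, ← linCharHom_apply hlin, map_pow]
  have hpow : ∀ (n : ℕ) (k : K), ((Cfsg.detChar ψ) ^ n) k = Cfsg.detChar ψ k ^ n :=
    fun n k => by simp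
  have hcard : (Cfsg.detChar ψ) ^ (Nat.card K) = 1 := by
    funext k
    rw [hpow, hpw, pow_card_eq_one', hlin.2]
    rfl
  have ho0 : orderOf (Cfsg.detChar ψ) ≠ 0 := by
    intro h0
    have := orderOf_dvd_of_pow_eq_one hcard
    rw [h0, zero_dvd_iff] at this
    exact Nat.card_pos.ne' this
  rw [Nat.Prime.coprime_iff_not_dvd hp.out]
  rintro ⟨m, hm⟩
  have h1 : (linCharUnitsHom hlin) ^ m = 1 := by
    apply hlam
    refine MonoidHom.ext fun k => ?_
    apply Units.ext
    have h2 := congrFun (pow_orderOf_eq_one (Cfsg.detChar ψ)) k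
    rw [hpow, hm] at h2
    simp only [MonoidHom.pow_apply, Units.val_pow_eq_pow_val, linCharUnitsHom_apply,
      MonoidHom.one_apply, Units.val_one]
    rw [← pow_mul, mul_comm]
    exact h2
  have h3 : (Cfsg.detChar ψ) ^ m = 1 := by
    funext k
    have h4 := DFunLike.congr_fun h1 k
    have h5 := congrArg (fun u : ℂˣ => (u : ℂ)) h4
    simpa [linCharUnitsHom_apply] using h5
  have h6 : orderOf (Cfsg.detChar ψ) ∣ m := orderOf_dvd_of_pow_eq_one h3
  rw [hm] at h6
  have hm0 : m ≠ 0 := by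
    rintro rfl
    exact ho0 (by rw [hm, mul_zero])
  have h7 := Nat.le_of_dvd (Nat.pos_of_ne_zero hm0) h6
  have h2 := hp.out.two_le
  have h8 : 2 * m ≤ p * m := Nat.mul_le_mul_right m h2
  omega

end Main

open Cfsg.Agent.Lib.Helper75 Cfsg.Agent.Lib.Helper15 in
/-- Let p be a prime and G a finite group such that p divides the degree of every irreducible character of G of degree greater than one. Then G has a normal p-complement: a normal subgroup of order prime to p whose index is a power of p. -/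
theorem result {G : Type*} [Group G] [Finite G] (p : ℕ) (hp : p.Prime) (hdeg : ∀ χ : Cfsg.IrrCharacter G, Cfsg.charDegree (χ : G → ℂ) ≠ 1 → p ∣ Cfsg.charDegree (χ : G → ℂ)) : ∃ N : Subgroup G, N.Normal ∧ (Nat.card N).Coprime p ∧ ∃ k : ℕ, N.index = p ^ k := by
  classical
  haveI : Fact p.Prime := ⟨hp⟩
  obtain ⟨K, hKn, ⟨a, ha⟩, hlam, hcomm⟩ := exists_Op (G := G) p
  haveI := hKn
  refine ⟨K, hKn, ?_, a, ha⟩
  rw [Nat.coprime_comm, Nat.Prime.coprime_iff_not_dvd hp]
  intro hpK
  have := Fintype.ofFinite K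
  haveI : Finite (IrrCharacter K) := Cfsg.Agent.Lib.Helper3.irrCharacter_finite
  have := Fintype.ofFinite (IrrCharacter K)
  -- invariant nonlinear characters have degree divisible by p
  have key : ∀ ψ : IrrCharacter K,
      (∀ (g : G) (n : K), (ψ : K → ℂ) ⟨g * n * g⁻¹, hKn.conj_mem (n : G) n.2 g⟩ = (ψ : K → ℂ) n) →
      (ψ : K → ℂ) 1 ≠ 1 → p ∣ Cfsg.charDegree (ψ : K → ℂ) := by
    intro ψ hinv hne
    by_contra hnd
    set d := Cfsg.charDegree (ψ : K → ℂ) with hd
    have hd1 : (ψ : K → ℂ) 1 = (d : ℂ) := (Cfsg.Agent.Lib.Helper80.irr_charDegree_cast ψ).symm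
    have hcop : Nat.Coprime K.index (Cfsg.detOrder (ψ : K → ℂ) * d) := by
      rw [ha]
      apply Nat.Coprime.pow_left
      apply Nat.Coprime.mul_right
      · exact detOrder_coprime p K hlam _
      · exact (Nat.Prime.coprime_iff_not_dvd hp).2 hnd
    obtain ⟨χ, ⟨hχ, hχK, -⟩, -⟩ := Cfsg.Agent.S0867.result K (ψ : K → ℂ) ψ.2 hinv d hd1 hcop
    have hχ1 : χ 1 = (d : ℂ) := by
      rw [← hd1]
      exact hχK 1
    have hχd : Cfsg.charDegree χ = d := Cfsg.Agent.Lib.Helper81.charDegree_eq_of_apply_one hχ1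
    have h1 := hdeg ⟨χ, hχ⟩
    rw [hχd] at h1
    apply hnd
    apply h1
    intro hd1'
    apply hne
    rw [hd1, hd1', Nat.cast_one]
  -- a Sylow subgroup acts
  obtain ⟨P⟩ := Sylow.nonempty (p := p) (G := G)
  have hsup : ∀ g : G, ∃ k ∈ K, ∃ u ∈ (P : Subgroup G), g = k * u := by
    have htop : K ⊔ (P : Subgroup G) = ⊤ := by
      rw [← Subgroup.index_eq_one]
      have h1 : (K ⊔ (P : Subgroup G)).index ∣ p ^ a := by
        rw [← ha]
        exact Subgroup.index_dvd_of_le le_sup_left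
      have h2 : (K ⊔ (P : Subgroup G)).index ∣ (P : Subgroup G).index :=
        Subgroup.index_dvd_of_le le_sup_right
      have h3 : Nat.Coprime (p ^ a) (P : Subgroup G).index :=
        Nat.Coprime.pow_left _ ((Nat.Prime.coprime_iff_not_dvd hp).2 P.not_dvd_index)
      exact Nat.eq_one_of_dvd_coprimes h3 h1 h2
    intro g
    have hg : g ∈ K ⊔ (P : Subgroup G) := by rw [htop]; trivial
    rw [← SetLike.mem_coe, Subgroup.normal_mul] at hg
    obtain ⟨k, hk, u, hu, rfl⟩ := hg
    exact ⟨k, hk, u, hu, rfl⟩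
  letI := irrAct K
  let f : IrrCharacter K → ZMod p := fun ψ =>
    if (ψ : K → ℂ) 1 = 1 then 0 else ((Cfsg.charDegree (ψ : K → ℂ) : ℕ) : ZMod p) ^ 2
  have hsmul1 : ∀ (g : G) (ψ : IrrCharacter K), ((g • ψ : IrrCharacter K) : K → ℂ) 1 = (ψ : K → ℂ) 1 := by
    intro g ψ
    show conjFun K g⁻¹ (ψ : K → ℂ) 1 = _
    rw [conjFun_apply]
    refine congrArg _ (Subtype.ext ?_)
    simp
  have hsum0 : ∑ ψ : IrrCharacter K, f ψ = 0 := by
    apply sum_eq_zero_of_pgroup_invariant (Q := (P : Subgroup G)) p P.2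
    · intro x
      rw [nsmul_eq_mul, ZMod.natCast_self, zero_mul]
    · intro u ψ
      show f ((u : G) • ψ) = f ψ
      simp only [f]
      rw [hsmul1]
      unfold Cfsg.charDegree
      rw [hsmul1]
    · intro ψ hfix
      simp only [f]
      split_ifs with h1
      · rfl
      · have hinvP : ∀ u ∈ (P : Subgroup G), conjFun K u (ψ : K → ℂ) = (ψ : K → ℂ) := by
          intro u hu
          have := hfix ⟨u⁻¹, inv_mem hu⟩
          have h2 := congrArg (fun θ : IrrCharacter K => (θ : K → ℂ)) this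
          have h3 : conjFun K (u⁻¹)⁻¹ (ψ : K → ℂ) = (ψ : K → ℂ) := h2
          rwa [inv_inv] at h3
        have hcf : IsClassFunction K (ψ : K → ℂ) :=
          Cfsg.Agent.Lib.Helper3.IsCharacter.isClassFunction
            (Cfsg.Agent.Lib.Helper3.IsIrrCharacter.isCharacter ψ.2)
        have hinv : ∀ (g : G) (n : K),
            (ψ : K → ℂ) ⟨g * n * g⁻¹, hKn.conj_mem (n : G) n.2 g⟩ = (ψ : K → ℂ) n := by
          intro g n
          obtain ⟨k, hk, u, hu, rfl⟩ := hsup g
          have h5 := conjFun_apply K (k * u) (ψ : K → ℂ) n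
          rw [← h5, ← conjFun_conjFun, conjFun_of_mem K hk hcf, hinvP u hu]
        have := key ψ hinv h1
        rw [(ZMod.natCast_eq_zero_iff _ _).2 this]
        simp
  -- the count
  have hS := Cfsg.Agent.Lib.Helper80.sum_sq_degrees_finsum (G := K)
  rw [finsum_eq_sum_of_fintype] at hS
  have hSn : ∑ ψ : IrrCharacter K, Cfsg.charDegree (ψ : K → ℂ) ^ 2 = Nat.card K := by
    have h2 : ((∑ ψ : IrrCharacter K, Cfsg.charDegree (ψ : K → ℂ) ^ 2 : ℕ) : ℂ) =
        (Nat.card K : ℂ) := by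
      rw [← hS]
      push_cast
      refine Finset.sum_congr rfl fun χ _ => ?_
      rw [Cfsg.Agent.Lib.Helper80.irr_charDegree_cast]
    exact_mod_cast h2
  have hsplit : ∀ ψ : IrrCharacter K, ((Cfsg.charDegree (ψ : K → ℂ) ^ 2 : ℕ) : ZMod p) =
      f ψ + (if (ψ : K → ℂ) 1 = 1 then 1 else 0) := by
    intro ψ
    simp only [f]
    split_ifs with h1
    · have : Cfsg.charDegree (ψ : K → ℂ) = 1 :=
        Cfsg.Agent.Lib.Helper81.charDegree_eq_of_apply_one (by rw [h1, Nat.cast_one])
      rw [this]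
      simp
    · simp
  have hcount : ((Nat.card K : ℕ) : ZMod p) = (((commutator K).index : ℕ) : ZMod p) := by
    rw [← hSn, Nat.cast_sum]
    simp_rw [hsplit]
    rw [Finset.sum_add_distrib, hsum0, zero_add, ← Cfsg.Agent.S0894.card_linear,
      Nat.card_eq_fintype_card, Fintype.card_subtype, Finset.card_filter]
    push_cast
    rfl
  rw [(ZMod.natCast_eq_zero_iff _ _).2 hpK] at hcount
  exact hcomm ((ZMod.natCast_eq_zero_iff _ _).1 hcount.symm)

end Cfsg.Agent.S4456
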