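import Cfsg.Statements.S0855
import Cfsg.Agent.S4456
import Cfsg.Agent.S0887
import Cfsg.Agent.S0966
import Cfsg.Agent.Lib.Helper79.Ito
import Cfsg.Agent.Lib.Helper3.OddOrder

set_option autoImplicit false
set_option linter.style.haveILetI false
open Cfsg
open scoped commutatorElement

namespace Cfsg.Agent.S0855

/-- a finite group all of whose irreducible characters are linear is abelian -/
theorem comm_of_all_linear {N : Type*} [Group N] [Finite N]
    (h : ∀ ψ : Cfsg.IrrCharacter N, (ψ : N → ℂ) 1 = 1) (a b : N) : a * b = b * a := by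
  classical
  have := Fintype.ofFinite N
  haveI : Finite (IrrCharacter N) := Cfsg.Agent.Lib.Helper3.irrCharacter_finite
  have := Fintype.ofFinite (IrrCharacter N)
  have hS := Cfsg.Agent.Lib.Helper80.sum_sq_degrees_finsum (G := N)
  rw [finsum_eq_sum_of_fintype] at hS
  have h1 : (Nat.card (IrrCharacter N) : ℂ) = (Nat.card N : ℂ) := by
    rw [← hS, Nat.card_eq_fintype_card, ← Finset.card_univ, Finset.card_eq_sum_ones]
    push_cast
    refine Finset.sum_congr rfl fun ψ _ => ?_
    rw [h ψ, one_pow]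
  have h2 : Nat.card (IrrCharacter N) = Nat.card N := by exact_mod_cast h1
  have h3 : Nat.card {χ : IrrCharacter N // (χ : N → ℂ) 1 = 1} = Nat.card (IrrCharacter N) :=
    Nat.card_congr (Equiv.subtypeUnivEquiv h)
  have h4 := Cfsg.Agent.S0894.card_linear (G := N)
  rw [h3, h2] at h4
  have h5 := Subgroup.card_mul_index (commutator N)
  rw [← h4] at h5
  have h6 : Nat.card (commutator N) = 1 := by
    have hpos : 0 < Nat.card N := Nat.card_pos
    have : Nat.card (commutator N) * Nat.card N = 1 * Nat.card N := by rw [h5, one_mul]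
    exact Nat.eq_of_mul_eq_mul_right hpos this
  have h7 : commutator N = ⊥ := Subgroup.card_eq_one.1 h6
  have h8 : ⁅a, b⁆ ∈ commutator N := Subgroup.commutator_mem_commutator (Subgroup.mem_top a)
    (Subgroup.mem_top b)
  rw [h7, Subgroup.mem_bot, commutatorElement_eq_one_iff_mul_comm] at h8
  exact h8

/-- For a finite group G and a prime p: every irreducible character of G has degree a power of p if and only if G has an abelian normal subgroup whose order is prime to p and whose index is a power of p. -/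
theorem result {G : Type*} [Group G] [Finite G] (p : ℕ) (hp : p.Prime) : (∀ χ : Cfsg.IrrCharacter G, ∃ k : ℕ, (χ : G → ℂ) 1 = (p : ℂ) ^ k) ↔ ∃ A : Subgroup G, A.Normal ∧ (∀ a ∈ A, ∀ b ∈ A, a * b = b * a) ∧ Nat.Coprime (Nat.card A) p ∧ ∃ k : ℕ, A.index = p ^ k := by
  classical
  have := Fintype.ofFinite G
  constructor
  · intro hall
    have hdeg : ∀ χ : Cfsg.IrrCharacter G, Cfsg.charDegree (χ : G → ℂ) ≠ 1 →
        p ∣ Cfsg.charDegree (χ : G → ℂ) := by
      intro χ hne
      obtain ⟨k, hk⟩ := hall χ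
      have h1 : Cfsg.charDegree (χ : G → ℂ) = p ^ k :=
        Cfsg.Agent.Lib.Helper81.charDegree_eq_of_apply_one (by rw [hk]; push_cast; rfl)
      rw [h1] at hne ⊢
      apply dvd_pow_self
      rintro rfl
      exact hne (pow_zero p)
    obtain ⟨N, hNn, hcop, k, hk⟩ := Cfsg.Agent.S4456.result p hp hdeg
    haveI := hNn
    refine ⟨N, hNn, ?_, hcop, k, hk⟩
    have hlin : ∀ ψ : Cfsg.IrrCharacter N, (ψ : N → ℂ) 1 = 1 := by
      intro ψ
      obtain ⟨χ, hχ⟩ := Cfsg.Agent.S0966.exists_over N ψ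
      obtain ⟨j, hj⟩ := hall χ
      obtain ⟨d, hd, hdvd, hd0⟩ := Cfsg.Agent.Lib.Helper3.IsIrrCharacter.apply_one_dvd_card ψ.2
      have h1 := (Cfsg.Agent.S0887.result N (χ : G → ℂ) χ.2 (ψ : N → ℂ) ψ.2 hχ (p ^ j) d
        (by rw [hj]; push_cast; rfl) hd).1
      have h2 : Nat.Coprime d p := Nat.Coprime.coprime_dvd_left hdvd hcop
      have h3 : d = 1 := Nat.Coprime.eq_one_of_dvd (Nat.Coprime.pow_right j h2) h1
      rw [hd, h3, Nat.cast_one]
    intro a ha b hb
    have := comm_of_all_linear hlin ⟨a, ha⟩ ⟨b, hb⟩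
    exact congrArg Subtype.val this
  · rintro ⟨A, hAn, hcomm, -, k, hk⟩ χ
    haveI := hAn
    obtain ⟨d, hd, -, -⟩ := Cfsg.Agent.Lib.Helper3.IsIrrCharacter.apply_one_dvd_card χ.2
    have h1 := Cfsg.Agent.Lib.Helper79.ito_aux _ G rfl A hcomm (χ : G → ℂ) χ.2 d hd
    rw [hk] at h1
    obtain ⟨j, -, hj⟩ := (Nat.dvd_prime_pow hp).1 h1
    refine ⟨j, ?_⟩
    rw [hd, hj]
    push_cast
    rfl

end Cfsg.Agent.S0855
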