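import Cfsg.Statements.S0962
import Cfsg.Agent.Lib.Helper16.DefectVal
import Cfsg.Agent.Lib.Helper16.LocalS
import Cfsg.Agent.Lib.Helper16.RegularDet

set_option autoImplicit false
open Cfsg

namespace Cfsg.Agent.S0962

open Cfsg.Agent.Lib.Helper16 Cfsg.Agent.Lib.Helper77 Cfsg.Agent.Lib.Helper80 Cfsg.Agent.Lib.Helper81

/-- Fix a maximal ideal M of the algebraic integers containing the prime p and a natural number d. The number of blocks of the finite group G of defect at least d is at most the number of conjugacy classes of p-regular elements of G of defect at least d, where the defect of a class is the exponent of p in the order of the centralizer of any of its elements. -/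
theorem result {G : Type*} [Group G] [Finite G] (p : ℕ) [Fact p.Prime] (M : Ideal Cfsg.AlgInt) (hM : Cfsg.IsPModular p M) (d : ℕ) : Nat.card {B : Set (Cfsg.IrrCharacter G) // Cfsg.IsPBlock M B ∧ d ≤ Cfsg.blockDefect p B} ≤ Nat.card {C : ConjClasses G // ∃ g : G, ConjClasses.mk g = C ∧ Cfsg.IsPRegular p g ∧ d ≤ (Nat.card (Subgroup.centralizer ({g} : Set G))).factorization p} := by
  classical
  have := Fintype.ofFinite G
  have := Fintype.ofFinite (Cfsg.IrrCharacter G)
  have hMp : M.IsPrime := isPrime_of_isPModular hM
  have hp : p.Prime := Fact.out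
  have : IsLocalRing (localSubring M hMp) := isLocalRing_localSubring hMp
  have hres0 : ∀ a : localSubring M hMp, Cfsg.MemLocalIdeal M (a : ℂ) →
      IsLocalRing.residue (localSubring M hMp) a = 0 := by
    intro a ha
    rw [IsLocalRing.residue_eq_zero_iff, IsLocalRing.mem_maximalIdeal]
    exact not_isUnit_of_memLocalIdeal hMp a ha
  -- height-zero representatives
  have hrep : ∀ B : {B : Set (Cfsg.IrrCharacter G) //
      Cfsg.IsPBlock M B ∧ d ≤ Cfsg.blockDefect p B},
      ∃ χ : Cfsg.IrrCharacter G, χ ∈ B.1 ∧
        (Cfsg.charDegree (χ : G → ℂ)).factorization p = minDegVal p B.1 := by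
    intro B
    obtain ⟨χ₀, hχ₀⟩ := B.2.1
    have hne : B.1.Nonempty := ⟨χ₀, by rw [hχ₀]; exact self_mem_blockOf hMp χ₀⟩
    obtain ⟨χ, h1, h2⟩ := exists_minDegVal p hne
    exact ⟨χ, h1, h2⟩
  choose rep hrepB hrepv using hrep
  have hBS : ∀ (B : {B : Set (Cfsg.IrrCharacter G) //
      Cfsg.IsPBlock M B ∧ d ≤ Cfsg.blockDefect p B}) (g : G),
      Cfsg.MemLocalRing M (Cfsg.blockCoeff B.1 g) := by
    intro B g
    obtain ⟨χ₀, hχ₀⟩ := B.2.1
    rw [hχ₀]
    exact memLocalRing_blockCoeff hM χ₀ g
  set A : Matrix {B : Set (Cfsg.IrrCharacter G) //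
      Cfsg.IsPBlock M B ∧ d ≤ Cfsg.blockDefect p B}
      {C : ConjClasses G // ∃ g : G, ConjClasses.mk g = C ∧
        Cfsg.IsPRegular p g ∧ d ≤ (Nat.card (Subgroup.centralizer ({g} : Set G))).factorization p}
      (IsLocalRing.ResidueField (localSubring M hMp)) :=
    fun B c => IsLocalRing.residue (localSubring M hMp)
      ⟨Cfsg.centralChar (rep B : G → ℂ) (Quotient.out c.1),
        memLocalRing_centralChar hMp (rep B).2 _⟩ with hA
  set U : Matrix {C : ConjClasses G // ∃ g : G, ConjClasses.mk g = C ∧
        Cfsg.IsPRegular p g ∧ d ≤ (Nat.card (Subgroup.centralizer ({g} : Set G))).factorization p}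
      {B : Set (Cfsg.IrrCharacter G) //
      Cfsg.IsPBlock M B ∧ d ≤ Cfsg.blockDefect p B}
      (IsLocalRing.ResidueField (localSubring M hMp)) :=
    fun c B => IsLocalRing.residue (localSubring M hMp)
      ⟨Cfsg.blockCoeff B.1 (Quotient.out c.1), hBS B _⟩ with hU
  have hAU : A * U = 1 := by
    ext B' B
    rw [Matrix.mul_apply]
    simp only [hA, hU, ← map_mul, ← map_sum]
    -- the value in ℂ
    set s : localSubring M hMp := ∑ c : {C : ConjClasses G // ∃ g : G, ConjClasses.mk g = C ∧
        Cfsg.IsPRegular p g ∧ d ≤ (Nat.card (Subgroup.centralizer ({g} : Set G))).factorization p},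
      (⟨Cfsg.centralChar (rep B' : G → ℂ) (Quotient.out c.1),
        memLocalRing_centralChar hMp (rep B').2 _⟩ : localSubring M hMp) *
      ⟨Cfsg.blockCoeff B.1 (Quotient.out c.1), hBS B _⟩ with hs
    set δS : localSubring M hMp := if B' = B then 1 else 0 with hδS
    have hgoal : (1 : Matrix _ _ (IsLocalRing.ResidueField (localSubring M hMp))) B' B =
        IsLocalRing.residue (localSubring M hMp) δS := by
      rw [Matrix.one_apply, hδS]
      split_ifs <;> simp
    rw [hgoal, ← sub_eq_zero, ← map_sub]
    apply hres0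
    -- total sum
    have htot : ∑ c : ConjClasses G, Cfsg.blockCoeff B.1 (Quotient.out c) *
        Cfsg.centralChar (rep B' : G → ℂ) (Quotient.out c) =
        if rep B' ∈ B.1 then 1 else 0 := by
      rw [← omega_eq_sum_conjClasses (isClassFunction_of_isCharacter (rep B').2)
        (blockCoeff_isClassFunction B.1), omega_blockCoeff]
    have hmemiff : rep B' ∈ B.1 ↔ B' = B := by
      constructor
      · intro hmem
        apply Subtype.ext
        rw [eq_blockOf_of_mem hMp B'.2.1 (hrepB B'), eq_blockOf_of_mem hMp B.2.1 hmem]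
      · rintro rfl
        exact hrepB B'
    have hcoe : ((s - δS : localSubring M hMp) : ℂ) =
        - ∑ c : {C : ConjClasses G // ¬ ∃ g : G, ConjClasses.mk g = C ∧
          Cfsg.IsPRegular p g ∧
            d ≤ (Nat.card (Subgroup.centralizer ({g} : Set G))).factorization p},
          Cfsg.blockCoeff B.1 (Quotient.out c.1) *
            Cfsg.centralChar (rep B' : G → ℂ) (Quotient.out c.1) := by
      have hsplit := Fintype.sum_subtype_add_sum_subtype
        (fun C : ConjClasses G => ∃ g : G, ConjClasses.mk g = C ∧
          Cfsg.IsPRegular p g ∧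
            d ≤ (Nat.card (Subgroup.centralizer ({g} : Set G))).factorization p)
        (fun c => Cfsg.blockCoeff B.1 (Quotient.out c) *
          Cfsg.centralChar (rep B' : G → ℂ) (Quotient.out c))
      rw [htot] at hsplit
      have hsC : (s : ℂ) = ∑ c : {C : ConjClasses G // ∃ g : G, ConjClasses.mk g = C ∧
          Cfsg.IsPRegular p g ∧
            d ≤ (Nat.card (Subgroup.centralizer ({g} : Set G))).factorization p},
          Cfsg.blockCoeff B.1 (Quotient.out c.1) *
            Cfsg.centralChar (rep B' : G → ℂ) (Quotient.out c.1) := by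
        rw [hs]
        push_cast
        refine Finset.sum_congr rfl fun c _ => ?_
        rw [mul_comm]
      have hδC : (δS : ℂ) = if rep B' ∈ B.1 then 1 else 0 := by
        rw [hδS]
        by_cases hBB : B' = B
        · rw [if_pos hBB, if_pos (hmemiff.mpr hBB)]
          rfl
        · rw [if_neg hBB, if_neg (fun h => hBB (hmemiff.mp h))]
          rfl
      push_cast
      rw [hsC, hδC, ← hsplit]
      ring
    rw [hcoe]
    apply memLocalIdeal_neg
    refine memLocalIdeal_sum hMp _ _ fun c _ => ?_
    have hc := c.2
    have hmk : ConjClasses.mk (Quotient.out c.1) = c.1 := Quotient.out_eq c.1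
    have hnot : ¬ (Cfsg.IsPRegular p (Quotient.out c.1) ∧
        d ≤ (Nat.card (Subgroup.centralizer
          ({Quotient.out c.1} : Set G))).factorization p) := by
      intro hh
      exact hc ⟨Quotient.out c.1, hmk, hh.1, hh.2⟩
    by_cases hreg : Cfsg.IsPRegular p (Quotient.out c.1)
    · have hlt : (Nat.card (Subgroup.centralizer
          ({Quotient.out c.1} : Set G))).factorization p < d := by
        by_contra hge
        push Not at hge
        exact hnot ⟨hreg, hge⟩
      refine memLocalIdeal_mul_left hMp (hBS B _) ?_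
      apply memLocalIdeal_centralChar_of_lt p M hM
      rw [hrepv B']
      have hd' : d ≤ Cfsg.blockDefect p B'.1 := B'.2.2
      rw [blockDefect_eq] at hd'
      have hGC : (Nat.card G).factorization p =
          (Nat.card (Subgroup.centralizer ({Quotient.out c.1} : Set G))).factorization p +
          ((Subgroup.centralizer ({Quotient.out c.1} : Set G)).index).factorization p := by
        conv_lhs => rw [← Subgroup.card_mul_index
          (Subgroup.centralizer ({Quotient.out c.1} : Set G))]
        rw [Nat.factorization_mul Nat.card_pos.ne' Subgroup.index_ne_zero_of_finite]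
        rfl
      omega
    · have hdiv : p ∣ orderOf (Quotient.out c.1) := by
        unfold Cfsg.IsPRegular at hreg
        push Not at hreg
        exact hreg
      obtain ⟨χ₀, hχ₀⟩ := B.2.1
      rw [hχ₀, blockCoeff_eq_zero_of_singular hM χ₀ hdiv, zero_mul]
      exact memLocalIdeal_zero hMp
  have h1 : Fintype.card {B : Set (Cfsg.IrrCharacter G) //
      Cfsg.IsPBlock M B ∧ d ≤ Cfsg.blockDefect p B} = (A * U).rank := by
    rw [hAU, Matrix.rank_one]
  have h2 : (A * U).rank ≤ A.rank := Matrix.rank_mul_le_left A U
  have h3 := Matrix.rank_le_card_width A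
  rw [Nat.card_eq_fintype_card, Nat.card_eq_fintype_card]
  omega

end Cfsg.Agent.S0962
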