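import Cfsg.Statements.S0964
import Cfsg.Agent.Lib.Helper16.OrbitBlock

set_option autoImplicit false
open Cfsg

namespace Cfsg.Agent.S0964

open Cfsg.Agent.Lib.Helper16 Cfsg.Agent.Lib.Helper77 Cfsg.Agent.Lib.Helper80 Cfsg.Agent.Lib.Helper81
open Cfsg.Agent.Lib.Helper75

/-- Let N be a normal subgroup of the finite group G, B a block of G and b a block of N relative to a maximal ideal M of the algebraic integers containing the prime p. Suppose some χ ∈ B has a constituent θ ∈ b on restriction to N. Then for every χ' ∈ B and every constituent ψ of the restriction of χ' to N there are g ∈ G and θ' ∈ b with ψ n = θ' (g n g⁻¹) for all n ∈ N. -/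
theorem result {G : Type*} [Group G] [Fintype G] (p : ℕ) [Fact p.Prime] (M : Ideal Cfsg.AlgInt) (hM : Cfsg.IsPModular p M) (N : Subgroup G) [hN : N.Normal] [Fintype N] (B : Set (Cfsg.IrrCharacter G)) (hB : Cfsg.IsPBlock M B) (b : Set (Cfsg.IrrCharacter N)) (hb : Cfsg.IsPBlock M b) (χ : Cfsg.IrrCharacter G) (hχ : χ ∈ B) (θ : Cfsg.IrrCharacter N) (hθ : θ ∈ b) (hcon : Cfsg.classInner (fun n : N => (χ : G → ℂ) n) (θ : N → ℂ) ≠ 0) (χ' : Cfsg.IrrCharacter G) (hχ' : χ' ∈ B) (ψ : Cfsg.IrrCharacter N) (hψ : Cfsg.classInner (fun n : N => (χ' : G → ℂ) n) (ψ : N → ℂ) ≠ 0) : ∃ g : G, ∃ θ' ∈ b, ∀ n : N, (ψ : N → ℂ) n = (θ' : N → ℂ) ⟨g * n * g⁻¹, hN.conj_mem n n.2 g⟩ := by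
  classical
  have hMp : M.IsPrime := isPrime_of_isPModular hM
  have hsame : Cfsg.SameBlock M (χ : G → ℂ) (χ' : G → ℂ) := by
    obtain ⟨χ₀, rfl⟩ := hB
    exact sameBlock_trans hMp (sameBlock_symm hχ) hχ'
  have h1 := omega_orbitIdem N b χ θ hcon
  rw [if_pos (mem_orbitBlock_of_mem N hθ)] at h1
  have h2 := omega_orbitIdem N b χ' ψ hψ
  have h3 := memLocalIdeal_omega_sub hMp (isClassFunction_of_isCharacter χ.2)
    (isClassFunction_of_isCharacter χ'.2) hsame (orbitIdem_isClassFunction N b)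
    (memLocalRing_orbitIdem N hM hb)
  rw [h1, h2] at h3
  have hψA : ψ ∈ orbitBlock N b := by
    by_contra hne
    rw [if_neg hne, sub_zero] at h3
    exact not_memLocalIdeal_one hMp h3
  obtain ⟨g₀, hg₀⟩ := hψA
  refine ⟨g₀⁻¹, conjIrr N g₀ ψ, hg₀, ?_⟩
  intro n
  have e : conjFun N g₀⁻¹ (conjFun N g₀ (ψ : N → ℂ)) = (ψ : N → ℂ) := by
    rw [conjFun_conjFun, mul_inv_cancel, conjFun_one]
  have := congrFun e n
  rw [conjFun_apply] at this
  exact this.symm

end Cfsg.Agent.S0964
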