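import Cfsg.Statements.S0963
import Cfsg.Agent.Lib.Helper75.Clifford
import Cfsg.Agent.Lib.Helper25.CharUtil

set_option autoImplicit false
open Cfsg

namespace Cfsg.Agent.S0963

open Cfsg.Agent.Lib.Helper75 Cfsg.Agent.Lib.Helper3
open scoped ComplexConjugate

section

variable {G : Type*} [Group G] [Fintype G] (N : Subgroup G) [hN : N.Normal]

/-- the number of `g` with `g n g⁻¹ = m` -/
theorem card_conj_eq [DecidableEq G] (n m : G) :
    (Finset.univ.filter (fun g : G => g * n * g⁻¹ = m)).card =
      if IsConj n m then Nat.card (Subgroup.centralizer ({n} : Set G)) else 0 := by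
  classical
  split_ifs with h
  · obtain ⟨c, rfl⟩ := isConj_iff.mp h
    rw [← Fintype.card_subtype, ← Nat.card_eq_fintype_card]
    apply Nat.card_congr
    refine ⟨fun x => ⟨c⁻¹ * x.1, ?_⟩, fun y => ⟨c * y.1, ?_⟩, ?_, ?_⟩
    · rw [Subgroup.mem_centralizer_singleton_iff]
      have hx : x.1 * n * x.1⁻¹ = c * n * c⁻¹ := x.2
      have h2 : x.1 * n = c * n * c⁻¹ * x.1 := by
        calc x.1 * n = (x.1 * n * x.1⁻¹) * x.1 := by group
          _ = c * n * c⁻¹ * x.1 := congrArg (· * x.1) hx
      calc c⁻¹ * x.1 * n = c⁻¹ * (x.1 * n) := by group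
        _ = c⁻¹ * (c * n * c⁻¹ * x.1) := by rw [h2]
        _ = n * (c⁻¹ * x.1) := by group
    · have hy := y.2
      rw [Subgroup.mem_centralizer_singleton_iff] at hy
      calc c * y.1 * n * (c * y.1)⁻¹ = c * (y.1 * n) * y.1⁻¹ * c⁻¹ := by group
        _ = c * (n * y.1) * y.1⁻¹ * c⁻¹ := by rw [hy]
        _ = c * n * c⁻¹ := by group
    · intro x; apply Subtype.ext; simp
    · intro y; apply Subtype.ext; simp
  · rw [Finset.card_eq_zero, Finset.filter_eq_empty_iff]
    intro g _ hg
    exact h (isConj_iff.mpr ⟨g, hg⟩)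

variable [Fintype N]

theorem sum_conj_eq [DecidableEq G] (n : N) (F : N → ℂ) :
    ∑ g : G, F ⟨g * n * g⁻¹, hN.conj_mem n n.2 g⟩ =
      (Nat.card (Subgroup.centralizer ({(n : G)} : Set G)) : ℂ) *
        ∑ h ∈ Finset.univ.filter (fun h : N => IsConj (n : G) (h : G)), F h := by
  classical
  have h1 : ∀ g : G, F ⟨g * n * g⁻¹, hN.conj_mem n n.2 g⟩ =
      ∑ h : N, if g * n * g⁻¹ = (h : G) then F h else 0 := by
    intro g
    rw [Finset.sum_eq_single (⟨g * n * g⁻¹, hN.conj_mem n n.2 g⟩ : N)]
    · rw [if_pos rfl]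
    · intro h _ hne
      rw [if_neg]
      intro heq
      exact hne (Subtype.ext heq.symm)
    · intro h; exact absurd (Finset.mem_univ _) h
  rw [Finset.sum_congr rfl (fun g _ => h1 g), Finset.sum_comm, Finset.mul_sum, Finset.sum_filter]
  apply Finset.sum_congr rfl
  intro h _
  rw [← Finset.sum_filter, Finset.sum_const, card_conj_eq]
  split_ifs with hc
  · rw [nsmul_eq_mul]
  · simp

end


section avg

variable {G : Type*} [Group G] [Fintype G] (N : Subgroup G) [hN : N.Normal] [Fintype N]

/-- the sum of all conjugates -/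
noncomputable def avg (θ : N → ℂ) : N → ℂ := ∑ g : G, conjFun N g θ

theorem avg_apply (θ : N → ℂ) (n : N) :
    avg N θ n = ∑ g : G, θ ⟨g * n * g⁻¹, hN.conj_mem n n.2 g⟩ := by
  unfold avg
  rw [Finset.sum_apply]
  rfl

theorem conjFun_avg (h : G) (θ : N → ℂ) : conjFun N h (avg N θ) = avg N θ := by
  funext n
  rw [conjFun_apply, avg_apply, avg_apply]
  apply Fintype.sum_equiv (Equiv.mulRight h)
  intro g
  congr 1
  apply Subtype.ext
  simp [mul_assoc]

theorem avg_one (θ : N → ℂ) : avg N θ 1 = (Nat.card G : ℂ) * θ 1 := by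
  rw [avg_apply]
  have : ∀ g : G, θ ⟨g * ((1 : N) : G) * g⁻¹, hN.conj_mem _ (1 : N).2 g⟩ = θ 1 := by
    intro g
    congr 1
    apply Subtype.ext
    simp
  rw [Finset.sum_congr rfl (fun g _ => this g), Finset.sum_const, Finset.card_univ,
    Nat.card_eq_fintype_card, nsmul_eq_mul]

theorem isClassFunction_avg {θ : N → ℂ} (hθ : IsIrrCharacter N θ) : IsClassFunction N (avg N θ) := by
  apply isClassFunction_sum
  intro g _
  exact IsCharacter.isClassFunction (IsIrrCharacter.isCharacter (conjFun_isIrrCharacter N g hθ))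

/-- coefficient of `avg θ` at a non-conjugate -/
theorem classInner_avg_of_not_conj {θ ψ : N → ℂ} (hθ : IsIrrCharacter N θ)
    (hψ : IsIrrCharacter N ψ) (h : ∀ g : G, conjFun N g θ ≠ ψ) : classInner (avg N θ) ψ = 0 := by
  unfold avg
  rw [classInner_sum_left]
  apply Finset.sum_eq_zero
  intro g _
  rw [classInner_irr (conjFun_isIrrCharacter N g hθ) hψ, if_neg (h g)]

theorem classInner_avg_conj (h : G) (θ : N → ℂ) :
    classInner (avg N θ) (conjFun N h θ) = classInner (avg N θ) θ := by
  conv_lhs => rw [← conjFun_avg N h θ]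
  rw [classInner_conjFun]

theorem classInner_avg_self_ne_zero {θ : N → ℂ} (hθ : IsIrrCharacter N θ) :
    classInner (avg N θ) θ ≠ 0 := by
  classical
  unfold avg
  rw [classInner_sum_left]
  have : ∀ g : G, classInner (conjFun N g θ) θ = if conjFun N g θ = θ then 1 else 0 := fun g =>
    classInner_irr (conjFun_isIrrCharacter N g hθ) hθ
  rw [Finset.sum_congr rfl (fun g _ => this g), Finset.sum_boole]
  have hpos : 0 < (Finset.univ.filter (fun g : G => conjFun N g θ = θ)).card := by
    apply Finset.card_pos.mpr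
    exact ⟨1, Finset.mem_filter.mpr ⟨Finset.mem_univ _, conjFun_one N θ⟩⟩
  exact_mod_cast hpos.ne'

/-- if `θ` lies under `χ`, then `avg θ` is proportional to the restriction of `χ` -/
theorem avg_eq_smul {χ : G → ℂ} (hχ : IsIrrCharacter G χ) {θ : N → ℂ} (hθ : IsIrrCharacter N θ)
    (he : classInner (fun n : N => χ n) θ ≠ 0) :
    avg N θ = (classInner (avg N θ) θ / classInner (fun n : N => χ n) θ) • fun n : N => χ n := by
  have hχcf : IsClassFunction G χ := IsCharacter.isClassFunction (IsIrrCharacter.isCharacter hχ)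
  have hχN : IsClassFunction N (fun n : N => χ n) := fun g h => hχcf (g : G) (h : G)
  rw [← sub_eq_zero]
  apply eq_zero_of_classInner_irr_eq_zero
  · exact isClassFunction_sub (isClassFunction_avg N hθ) (isClassFunction_smul _ hχN)
  · intro ψ hψ
    rw [classInner_sub_left, classInner_smul_left]
    by_cases hc : ∃ g : G, conjFun N g θ = ψ
    · obtain ⟨g, rfl⟩ := hc
      rw [classInner_avg_conj]
      have : classInner (fun n : N => χ n) (conjFun N g θ) = classInner (fun n : N => χ n) θ := by
        conv_lhs => rw [← conjFun_restrict N g hχcf]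
        rw [classInner_conjFun]
      rw [this, div_mul_cancel₀ _ he, sub_self]
    · have hc' : ∀ g : G, conjFun N g θ ≠ ψ := fun g hg => hc ⟨g, hg⟩
      rw [classInner_avg_of_not_conj N hθ hψ hc']
      have : classInner (fun n : N => χ n) ψ = 0 := by
        by_contra hne
        obtain ⟨g, hg⟩ := clifford_conj N hχ hθ hψ he hne
        exact hc' g hg.symm
      rw [this, mul_zero, sub_zero]

end avg


section main

variable {G : Type*} [Group G] [Fintype G] (N : Subgroup G) [hN : N.Normal] [Fintype N]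

theorem card_centralizer_ne_zero (g : G) :
    (Nat.card (Subgroup.centralizer ({g} : Set G)) : ℂ) ≠ 0 := by
  exact_mod_cast Nat.card_pos.ne'

theorem induced_eq (θ : N → ℂ) (n : N) :
    inducedCentralChar N θ (n : G) =
      avg N θ n / (Nat.card (Subgroup.centralizer ({(n : G)} : Set G)) : ℂ) / θ 1 := by
  classical
  have hset : {h : N | IsConj (n : G) (h : G)} =
      ↑(Finset.univ.filter (fun h : N => IsConj (n : G) (h : G))) := by
    ext h; simp
  unfold inducedCentralChar
  rw [hset, finsum_mem_coe_finset, ← Finset.sum_div, avg_apply, sum_conj_eq,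
    mul_div_cancel_left₀ _ (card_centralizer_ne_zero (n : G))]

theorem forward {χ : G → ℂ} (hχ : IsIrrCharacter G χ) {θ : N → ℂ} (hθ : IsIrrCharacter N θ)
    (he : classInner (fun n : N => χ n) θ ≠ 0) (n : N) :
    centralChar χ (n : G) = inducedCentralChar N θ (n : G) := by
  obtain ⟨dχ, hdχ, edχ⟩ := Cfsg.Agent.Lib.Helper25.irr_degree hχ
  obtain ⟨dθ, hdθ, edθ⟩ := Cfsg.Agent.Lib.Helper25.irr_degree hθ
  have hx : χ 1 ≠ 0 := by rw [edχ]; exact_mod_cast hdχ.ne'
  have ht : θ 1 ≠ 0 := by rw [edθ]; exact_mod_cast hdθ.ne'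
  have hC := card_centralizer_ne_zero (n : G)
  have h1 := avg_eq_smul N hχ hθ he
  have hb : (Nat.card G : ℂ) * θ 1 =
      (classInner (avg N θ) θ / classInner (fun n : N => χ n) θ) * χ 1 := by
    have := congrFun h1 1
    rw [avg_one] at this
    exact this
  have ha : avg N θ n =
      (classInner (avg N θ) θ / classInner (fun n : N => χ n) θ) * χ n := congrFun h1 n
  have hc : ((Subgroup.centralizer ({(n : G)} : Set G)).index : ℂ) *
      (Nat.card (Subgroup.centralizer ({(n : G)} : Set G)) : ℂ) = (Nat.card G : ℂ) := by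
    exact_mod_cast Subgroup.index_mul_card (Subgroup.centralizer ({(n : G)} : Set G))
  rw [induced_eq]
  unfold centralChar
  rw [div_div, div_eq_div_iff hx (mul_ne_zero hC ht)]
  linear_combination (χ n * θ 1) * hc + (χ n) * hb - (χ 1) * ha

end main

/-- Let N be a normal subgroup of the finite group G, χ an irreducible character of G and θ an irreducible character of N. Then θ occurs in the restriction of χ to N if and only if, for every n ∈ N, the central character of χ at n (class size in G times χ n over χ 1) equals the sum of θ m / θ 1 over the elements m of N conjugate in G to n. -/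
theorem result {G : Type*} [Group G] [Fintype G] (N : Subgroup G) [N.Normal] [Fintype N] (χ : Cfsg.IrrCharacter G) (θ : Cfsg.IrrCharacter N) : Cfsg.classInner (fun n : N => (χ : G → ℂ) n) (θ : N → ℂ) ≠ 0 ↔ ∀ n : N, Cfsg.centralChar (χ : G → ℂ) (n : G) = Cfsg.inducedCentralChar N (θ : N → ℂ) (n : G) := by
  classical
  have hχcf : IsClassFunction G (χ : G → ℂ) :=
    IsCharacter.isClassFunction (IsIrrCharacter.isCharacter χ.2)
  have hχN : IsClassFunction N (fun n : N => (χ : G → ℂ) n) := fun g h => hχcf (g : G) (h : G)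
  constructor
  · intro he n
    exact forward N χ.2 θ.2 he n
  · intro H
    have hex : ∃ ψ : N → ℂ, IsIrrCharacter N ψ ∧
        classInner (fun n : N => (χ : G → ℂ) n) ψ ≠ 0 := by
      by_contra hcon
      have h0 : (fun n : N => (χ : G → ℂ) n) = 0 :=
        eq_zero_of_classInner_irr_eq_zero hχN (fun ψ hψ => by
          by_contra h
          exact hcon ⟨ψ, hψ, h⟩)
      have h1 := congrFun h0 1
      obtain ⟨d, hd, ed⟩ := Cfsg.Agent.Lib.Helper25.irr_degree χ.2
      have h2 : (χ : G → ℂ) 1 = 0 := h1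
      rw [ed] at h2
      exact hd.ne' (by exact_mod_cast h2)
    obtain ⟨θ', hθ', he'⟩ := hex
    obtain ⟨dθ, hdθ, edθ⟩ := Cfsg.Agent.Lib.Helper25.irr_degree θ.2
    obtain ⟨dθ', hdθ', edθ'⟩ := Cfsg.Agent.Lib.Helper25.irr_degree hθ'
    have ht : (θ : N → ℂ) 1 ≠ 0 := by rw [edθ]; exact_mod_cast hdθ.ne'
    have ht' : θ' 1 ≠ 0 := by rw [edθ']; exact_mod_cast hdθ'.ne'
    have key2 : avg N (θ : N → ℂ) = ((θ : N → ℂ) 1 / θ' 1) • avg N θ' := by
      funext n
      have h1 := (H n).symm.trans (forward N χ.2 hθ' he' n)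
      rw [induced_eq, induced_eq] at h1
      have hC := card_centralizer_ne_zero (n : G)
      rw [div_div, div_div, div_eq_div_iff (mul_ne_zero hC ht) (mul_ne_zero hC ht')] at h1
      show avg N (θ : N → ℂ) n = ((θ : N → ℂ) 1 / θ' 1) * avg N θ' n
      rw [div_mul_eq_mul_div, eq_div_iff ht']
      apply mul_left_cancel₀ hC
      linear_combination h1
    have h3 : classInner (avg N (θ : N → ℂ)) (θ : N → ℂ) =
        ((θ : N → ℂ) 1 / θ' 1) * classInner (avg N θ') (θ : N → ℂ) := by
      conv_lhs => rw [key2]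
      rw [classInner_smul_left]
    have h4 : classInner (avg N θ') (θ : N → ℂ) ≠ 0 := by
      intro h0
      rw [h0, mul_zero] at h3
      exact classInner_avg_self_ne_zero N θ.2 h3
    have h5 : ∃ g : G, conjFun N g θ' = (θ : N → ℂ) := by
      by_contra hc
      exact h4 (classInner_avg_of_not_conj N hθ' θ.2 (fun g hg => hc ⟨g, hg⟩))
    obtain ⟨g, hg⟩ := h5
    rw [← hg, ← conjFun_restrict N g hχcf, classInner_conjFun]
    exact he'

end Cfsg.Agent.S0963
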