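import Cfsg.Statements.S0965
import Cfsg.Agent.Lib.Helper16.OrbitBlock
import Cfsg.Agent.S0963

set_option autoImplicit false
open Cfsg

namespace Cfsg.Agent.S0965

open Cfsg.Agent.Lib.Helper16 Cfsg.Agent.Lib.Helper77 Cfsg.Agent.Lib.Helper80 Cfsg.Agent.Lib.Helper81
open Cfsg.Agent.Lib.Helper75

/-- Let N be a normal subgroup of the finite group G and let B, b be blocks of G and of N relative to a maximal ideal M of the algebraic integers containing the prime p. Then some χ ∈ B has a constituent in b on restriction to N if and only if, for all χ ∈ B, θ ∈ b and n ∈ N, the central character of χ at n is congruent modulo the local ideal at M to the sum of θ m / θ 1 over the elements m ∈ N conjugate in G to n. -/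
theorem result {G : Type*} [Group G] [Fintype G] (p : ℕ) [Fact p.Prime] (M : Ideal Cfsg.AlgInt) (hM : Cfsg.IsPModular p M) (N : Subgroup G) [N.Normal] [Fintype N] (B : Set (Cfsg.IrrCharacter G)) (hB : Cfsg.IsPBlock M B) (b : Set (Cfsg.IrrCharacter N)) (hb : Cfsg.IsPBlock M b) : (∃ χ ∈ B, ∃ θ ∈ b, Cfsg.classInner (fun n : N => (χ : G → ℂ) n) (θ : N → ℂ) ≠ 0) ↔ ∀ χ ∈ B, ∀ θ ∈ b, ∀ n : N, Cfsg.MemLocalIdeal M (Cfsg.centralChar (χ : G → ℂ) (n : G) - Cfsg.inducedCentralChar N (θ : N → ℂ) (n : G)) := by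
  classical
  have hMp : M.IsPrime := isPrime_of_isPModular hM
  constructor
  · rintro ⟨χ₁, hχ₁, θ₁, hθ₁, hne⟩ χ hχ θ hθ n
    have hsameG : Cfsg.SameBlock M (χ : G → ℂ) (χ₁ : G → ℂ) := by
      obtain ⟨χ₀, rfl⟩ := hB
      exact sameBlock_trans hMp (sameBlock_symm hχ) hχ₁
    have hsameN : Cfsg.SameBlock M (θ₁ : N → ℂ) (θ : N → ℂ) := by
      obtain ⟨θ₀, rfl⟩ := hb
      exact sameBlock_trans hMp (sameBlock_symm hθ₁) hθ
    have hmid := (Cfsg.Agent.S0963.result N χ₁ θ₁).mp hne n
    have h1 : Cfsg.MemLocalIdeal M (Cfsg.centralChar (χ : G → ℂ) (n : G) -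
        Cfsg.centralChar (χ₁ : G → ℂ) (n : G)) := hsameG (n : G)
    have h3 : Cfsg.MemLocalIdeal M (Cfsg.inducedCentralChar N (θ₁ : N → ℂ) (n : G) -
        Cfsg.inducedCentralChar N (θ : N → ℂ) (n : G)) := by
      rw [inducedCentralChar_eq_omega, inducedCentralChar_eq_omega]
      apply memLocalIdeal_omega_sub hMp (isClassFunction_of_isCharacter θ₁.2)
        (isClassFunction_of_isCharacter θ.2) hsameN (indClassFn_isClassFunction N (n : G))
      intro h
      unfold indClassFn
      split_ifs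
      · exact memLocalRing_one hMp
      · exact memLocalRing_zero hMp
    have := memLocalIdeal_add hMp h1 h3
    rw [hmid] at this
    convert this using 1
    ring
  · intro H
    obtain ⟨χ₀, rfl⟩ := hB
    obtain ⟨θ₀, hbeq⟩ := hb
    have hθ₀ : θ₀ ∈ b := by rw [hbeq]; exact sameBlock_refl hMp _
    have hχ₀ : χ₀ ∈ Cfsg.blockOf M (χ₀ : G → ℂ) := sameBlock_refl hMp _
    obtain ⟨ψ, hψ⟩ := exists_constituent N χ₀
    have h1 := omega_orbitIdem N b χ₀ ψ hψ
    have hcl := orbitIdem_isClassFunction N b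
    have hS := memLocalRing_orbitIdem N hM ⟨θ₀, hbeq⟩
    -- the same central character value computed through θ₀
    have h2 : omega (θ₀ : N → ℂ) (fun h : N => orbitIdem N b (h : G)) = 1 := by
      have : (fun h : N => orbitIdem N b (h : G)) = Cfsg.blockCoeff (orbitBlock N b) := by
        funext n
        exact orbitIdem_coe N b n
      rw [this, omega_blockCoeff, if_pos (mem_orbitBlock_of_mem N hθ₀)]
    have h3 : Cfsg.MemLocalIdeal M (omega (χ₀ : G → ℂ) (orbitIdem N b) -
        omega (θ₀ : N → ℂ) (fun h : N => orbitIdem N b (h : G))) := by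
      rw [← sum_conjClasses_mul_icc N hcl,
        omega_eq_sum_conjClasses (isClassFunction_of_isCharacter χ₀.2) hcl,
        ← Finset.sum_sub_distrib]
      refine memLocalIdeal_sum hMp _ _ fun c _ => ?_
      rw [← mul_sub]
      by_cases hc : (Quotient.out c : G) ∈ N
      · exact memLocalIdeal_mul_left hMp (hS _) (H χ₀ hχ₀ θ₀ hθ₀ ⟨_, hc⟩)
      · rw [orbitIdem_of_not_mem N b hc, zero_mul]
        exact memLocalIdeal_zero hMp
    rw [h1, h2] at h3
    have hψA : ψ ∈ orbitBlock N b := by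
      by_contra hne
      rw [if_neg hne, zero_sub] at h3
      have := memLocalIdeal_neg h3
      rw [neg_neg] at this
      exact not_memLocalIdeal_one hMp this
    obtain ⟨g, hg⟩ := hψA
    refine ⟨χ₀, hχ₀, conjIrr N g ψ, hg, ?_⟩
    show Cfsg.classInner (fun n : N => (χ₀ : G → ℂ) n) (conjFun N g (ψ : N → ℂ)) ≠ 0
    rw [← conjFun_restrict N g (isClassFunction_of_isCharacter χ₀.2), classInner_conjFun]
    exact hψ

end Cfsg.Agent.S0965
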