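import Cfsg.Statements.S0989
import Cfsg.Agent.Lib.Helper17.SylowTools
import Cfsg.Agent.Lib.Helper17.ElementCount

set_option autoImplicit false
open Cfsg

namespace Cfsg.Agent.S0989

open Cfsg.Agent.Lib.Helper17 Subgroup Equiv

/-- In a symmetric group of degree less than `2p`, the elements of order `p` are the `p`-cycles. -/
theorem orderOf_eq_iff_cycleType {α : Type*} [Fintype α] [DecidableEq α] {p : ℕ} (hp : p.Prime)
    (hα : Fintype.card α < 2 * p) (g : Perm α) : orderOf g = p ↔ g.cycleType = {p} := by
  constructor
  · intro h
    obtain ⟨n, hn⟩ := Equiv.Perm.cycleType_prime_order (σ := g) (h ▸ hp)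
    rw [h] at hn
    have hsum := g.sum_cycleType
    have hle := g.support.card_le_univ
    rw [hn, Multiset.sum_replicate, smul_eq_mul] at hsum
    have : n = 0 := by
      by_contra hne
      have : 2 ≤ n + 1 := by omega
      have : 2 * p ≤ (n + 1) * p := Nat.mul_le_mul_right p this
      omega
    rw [hn, this]
    rfl
  · intro h
    rw [← Equiv.Perm.lcm_cycleType, h]
    simp

/-- In the symmetric group on p or p + 1 letters, p a prime, the normalizer of a Sylow p-subgroup has order p * (p - 1). -/
theorem result {α : Type*} [Fintype α] [DecidableEq α] (p : ℕ) [Fact p.Prime] (hα : Fintype.card α = p ∨ Fintype.card α = p + 1) (P : Sylow p (Equiv.Perm α)) : Nat.card ↥(Subgroup.normalizer ((P : Subgroup (Equiv.Perm α)) : Set (Equiv.Perm α))) = p * (p - 1) := by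
  have hp : p.Prime := Fact.out
  have hp2 := hp.two_le
  have hlt : Fintype.card α < 2 * p := by rcases hα with h | h <;> omega
  have hle : p ≤ Fintype.card α := by rcases hα with h | h <;> omega
  -- the order of the group
  have hfact : p.factorial = p * (p - 1).factorial := by
    have : p = (p - 1) + 1 := by omega
    conv_lhs => rw [this]
    rw [Nat.factorial_succ]
    congr 1
    omega
  have hG : Nat.card (Perm α) = p ^ 1 * ((p - 1).factorial * (Fintype.card α).choose p) := by
    rw [Nat.card_perm, pow_one, Nat.card_eq_fintype_card]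
    rcases hα with h | h
    · rw [h, Nat.choose_self, mul_one, hfact]
    · rw [h, Nat.factorial_succ, hfact, Nat.choose_succ_self_right]; ring
  have hnd : ¬ p ∣ (p - 1).factorial * (Fintype.card α).choose p := by
    intro h
    rcases (Nat.Prime.dvd_mul hp).mp h with h1 | h1
    · have := (hp.dvd_factorial).mp h1
      omega
    · rcases hα with h | h
      · rw [h, Nat.choose_self] at h1
        exact hp.one_lt.ne' (Nat.dvd_one.mp h1)
      · rw [h, Nat.choose_succ_self_right] at h1
        have : p ∣ 1 := (Nat.dvd_add_right (dvd_refl p)).mp h1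
        exact hp.one_lt.ne' (Nat.dvd_one.mp this)
  have hcardP : ∀ Q : Sylow p (Perm α), Nat.card ↥(Q : Subgroup (Perm α)) = p := by
    intro Q
    simpa using card_sylow_of_card_eq Q hG hnd
  -- count elements of order p
  have h1 := card_orderOf_eq_prime hcardP
  have h2 : Nat.card {g : Perm α // orderOf g = p} = (p - 1).factorial * (Fintype.card α).choose p := by
    rw [← Equiv.Perm.card_of_cycleType_singleton hp2 hle, Nat.card_eq_fintype_card,
      Fintype.card_subtype]
    congr 1
    ext g
    simp only [Finset.mem_filter, Finset.mem_univ, true_and]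
    exact orderOf_eq_iff_cycleType hp hlt g
  have h3 := card_normalizer_mul_card_sylow P
  rw [hG, pow_one, ← h2, h1] at h3
  have hnp : 0 < Nat.card (Sylow p (Perm α)) := Nat.card_pos
  have h4 : Nat.card (Sylow p (Perm α)) * Nat.card ↥(normalizer ((P : Subgroup (Perm α)) : Set (Perm α)))
      = Nat.card (Sylow p (Perm α)) * (p * (p - 1)) := by
    rw [mul_comm, h3]; ring
  exact Nat.eq_of_mul_eq_mul_left hnp h4

end Cfsg.Agent.S0989
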