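import Cfsg.Statements.S0990
import Mathlib

set_option autoImplicit false
open Cfsg

namespace Cfsg.Agent.S0990

theorem card_subgroupOf {G : Type*} [Group G] (H K : Subgroup G) :
    Nat.card ↥(H.subgroupOf K) = Nat.card ↥(H ⊓ K) := by
  rw [← Subgroup.subgroupOf_map_subtype H K]
  exact Nat.card_congr (Subgroup.equivMapOfInjective _ _ K.subtype_injective).toEquiv

/-- Let p be an odd prime and P a Sylow p-subgroup of the symmetric group on a finite set with at least two elements. Then P is contained in the alternating group, and twice the order of the normalizer of P inside the alternating group equals the order of the normalizer of P in the symmetric group. -/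
theorem result {α : Type*} [Fintype α] [DecidableEq α] (hα : 2 ≤ Fintype.card α) (p : ℕ) [Fact p.Prime] (hp : p ≠ 2) (P : Sylow p (Equiv.Perm α)) : (P : Subgroup (Equiv.Perm α)) ≤ alternatingGroup α ∧ 2 * Nat.card ↥(Subgroup.normalizer ((((P : Subgroup (Equiv.Perm α)).subgroupOf (alternatingGroup α) : Subgroup ↥(alternatingGroup α)) : Set ↥(alternatingGroup α)))) = Nat.card ↥(Subgroup.normalizer ((P : Subgroup (Equiv.Perm α)) : Set (Equiv.Perm α))) := by
  have hpp : p.Prime := Fact.out
  haveI : Nontrivial α := Fintype.one_lt_card_iff_nontrivial.mp (by omega)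
  have hle : (P : Subgroup (Equiv.Perm α)) ≤ alternatingGroup α := by
    intro g hg
    rw [Equiv.Perm.mem_alternatingGroup]
    obtain ⟨k, hk⟩ := P.2 ⟨g, hg⟩
    have hk' : g ^ (p ^ k) = 1 := congrArg Subtype.val hk
    have h1 : (Equiv.Perm.sign g) ^ (p ^ k) = 1 := by rw [← map_pow, hk', map_one]
    have h2 : (Equiv.Perm.sign g) ^ 2 = 1 := by
      rw [sq]; exact Int.units_mul_self _
    have h3 : orderOf (Equiv.Perm.sign g) ∣ Nat.gcd (p ^ k) 2 :=
      Nat.dvd_gcd (orderOf_dvd_of_pow_eq_one h1) (orderOf_dvd_of_pow_eq_one h2)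
    have h4 : Nat.gcd (p ^ k) 2 = 1 := by
      apply Nat.Coprime.pow_left
      rw [Nat.coprime_primes hpp Nat.prime_two]
      exact hp
    rw [h4, Nat.dvd_one, orderOf_eq_one_iff] at h3
    exact h3
  refine ⟨hle, ?_⟩
  set A := alternatingGroup α with hA
  set N := Subgroup.normalizer ((P : Subgroup (Equiv.Perm α)) : Set (Equiv.Perm α)) with hN
  -- Frattini
  have hfr : N ⊔ A = ⊤ := by
    have := Sylow.normalizer_sup_eq_top (P.subtype hle)
    have hmap : (((P.subtype hle : Sylow p ↥A) : Subgroup ↥A).map A.subtype) = (P : Subgroup (Equiv.Perm α)) := by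
      rw [Sylow.coe_subtype, Subgroup.subgroupOf_map_subtype, inf_of_le_left hle]
    rw [hmap] at this
    exact this
  have hrel : A.relIndex N = 2 := by
    rw [← Subgroup.relIndex_sup_right, hfr, Subgroup.relIndex_top_right]
    exact alternatingGroup.index_eq_two
  rw [← Subgroup.subgroupOf_normalizer_eq hle, card_subgroupOf]
  have h5 : Nat.card ↥(A.subgroupOf N) * (A.subgroupOf N).index = Nat.card ↥N :=
    Subgroup.card_mul_index _
  rw [card_subgroupOf, ← Subgroup.relIndex, hrel, inf_comm] at h5
  rw [← h5, mul_comm]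

end Cfsg.Agent.S0990
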