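import Cfsg.Statements.S0985
import Cfsg.Agent.Lib.Helper17.Orbits

set_option autoImplicit false
open Cfsg

namespace Cfsg.Agent.S0985

open Cfsg.Agent.Lib.Helper17 MulAction

theorem stab_eq {G : Type*} [Group G] (p : ℕ) (P R : Sylow p G) :
    stabilizer (↥(P : Subgroup G)) R = (R : Subgroup G).subgroupOf (P : Subgroup G) := by
  have h1 : stabilizer (↥(P : Subgroup G)) R
      = (Subgroup.normalizer ((R : Subgroup G) : Set G)).subgroupOf (P : Subgroup G) := by
    ext g
    rw [mem_stabilizer_iff, Subgroup.mem_subgroupOf]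
    exact Sylow.smul_eq_iff_mem_normalizer
  have h2 := P.2.inf_normalizer_sylow R
  rw [h1, ← Subgroup.inf_subgroupOf_left]
  erw [h2]
  rw [Subgroup.inf_subgroupOf_left]

/-- If the number of Sylow p-subgroups of a finite group is not congruent to 1 modulo p^k, then there are two distinct Sylow p-subgroups P and R such that the index of P ∩ R in P is at most p^(k-1). -/
theorem result {G : Type*} [Group G] [Finite G] (p k : ℕ) [Fact p.Prime] (h : ¬ Nat.card (Sylow p G) ≡ 1 [MOD p ^ k]) : ∃ P R : Sylow p G, P ≠ R ∧ ((R : Subgroup G).subgroupOf (P : Subgroup G)).index ≤ p ^ (k - 1) := by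
  have hp : p.Prime := Fact.out
  obtain ⟨P⟩ : Nonempty (Sylow p G) := inferInstance
  by_contra hcon
  push Not at hcon
  apply h
  apply card_modEq_one_of_orbits (H := ↥(P : Subgroup G)) (p ^ k) P
  · intro g
    rw [Subgroup.smul_def, Sylow.smul_eq_iff_mem_normalizer]
    exact Subgroup.le_normalizer g.2
  · intro R hR
    have hlt := hcon P R (Ne.symm hR)
    have hidx : Nat.card (orbit (↥(P : Subgroup G)) R)
        = ((R : Subgroup G).subgroupOf (P : Subgroup G)).index := by
      rw [← stab_eq, index_stabilizer, Nat.card_coe_set_eq]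
    rw [hidx]
    obtain ⟨n, hn⟩ := (IsPGroup.iff_card.mp P.2)
    have hdvd : ((R : Subgroup G).subgroupOf (P : Subgroup G)).index ∣ p ^ n := by
      rw [← hn]; exact Subgroup.index_dvd_card _
    obtain ⟨j, _, hj⟩ := (Nat.dvd_prime_pow hp).mp hdvd
    rw [hj] at hlt ⊢
    have : k - 1 < j := (Nat.pow_lt_pow_iff_right hp.one_lt).mp hlt
    exact pow_dvd_pow p (by omega)

end Cfsg.Agent.S0985
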