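import Cfsg.Statements.S1017
import Cfsg.Agent.Lib.Helper17.InvolTools
import Cfsg.Agent.Lib.Helper17.NormCent
import Cfsg.Agent.Lib.Helper17.PermNormalizer

set_option autoImplicit false
open Cfsg

namespace Cfsg.Agent.S1017

open Cfsg.Agent.Lib.Helper17 Subgroup MulAction

/-- Arithmetic for the order 2016 argument. -/
theorem num2016 (a m c k i : ℕ) (hkc : k * c * 36 = 8 * 2016) (hm1 : 28 ∣ m) (hm2 : m ∣ 56)
    (hac : m * a = c) (ha : a % 7 = 1) (hc : c ∣ 2016) (hci : c * i = 2016) (ha1 : a ≠ 1) :
    i = 9 := by
  obtain ⟨q, rfl⟩ := hm1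
  have hq : q = 1 ∨ q = 2 := by
    have h1 : 28 * q ≤ 56 := Nat.le_of_dvd (by norm_num) hm2
    have h2 : q ≠ 0 := by
      rintro rfl
      simp at hm2
    omega
  have hkc' : k * c = 448 := by omega
  have hkpos : 0 < k := by
    rcases Nat.eq_zero_or_pos k with hk | hk
    · rw [hk] at hkc'; omega
    · exact hk
  have hc448 : c ≤ 448 := by nlinarith
  rcases hq with rfl | rfl
  · norm_num at hac
    have ha16 : a ≤ 16 := by omega
    have ha8 : a = 8 ∨ a = 15 := by omega
    rcases ha8 with rfl | rfl
    · subst hac
      omega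
    · subst hac
      omega
  · norm_num at hac
    have ha8 : a ≤ 8 := by omega
    have ha8 : a = 8 := by omega
    subst ha8
    subst hac
    obtain ⟨r, hr⟩ := hc
    omega

/-- In a simple group, an element of order 7 commuting with an involution excludes a transitive
action on 9 points. -/
theorem no_action_nine {G X : Type*} [Group G] [Finite G] [IsSimpleGroup G]
    (hnc : ¬ IsMulCommutative G) [MulAction G X] [Finite X] [IsPretransitive G X]
    (hcard : Nat.card X = 9) (A : Subgroup G) (hA : Nat.card ↥A = 7)
    (t : G) (ht : t * t = 1) (ht1 : t ≠ 1) (hcomm : ∀ a ∈ A, a * t = t * a) : False := by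
  haveI : Fact (Nat.Prime 7) := ⟨by norm_num⟩
  haveI : Fact (Nat.Prime 2) := ⟨Nat.prime_two⟩
  have hA7 : IsPGroup 7 A := IsPGroup.of_card (n := 1) (by rw [hA]; norm_num)
  -- the action is nontrivial
  have hX : ∃ g : G, ∃ x : X, g • x ≠ x := by
    by_contra hcon
    push Not at hcon
    have : Subsingleton X := by
      constructor
      intro a b
      obtain ⟨g, hg⟩ := MulAction.exists_smul_eq G a b
      rw [← hg, hcon]
    have := Finite.card_le_one_iff_subsingleton.mpr this
    omega
  -- Y = Fix(A) has 2 elements
  have hY1 := card_modEq_card_fixedPoints_subgroup (X := X) A hA7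
  rw [hcard] at hY1
  have hYle : Nat.card (fixedPoints A X) ≤ 9 := by
    rw [← hcard]
    exact Finite.card_subtype_le _
  have hYne : Nat.card (fixedPoints A X) ≠ 9 := by
    intro h9
    -- then A acts trivially so A = ⊥
    have hall : ∀ x : X, x ∈ fixedPoints A X := by
      by_contra hne
      push Not at hne
      obtain ⟨x, hx⟩ := hne
      have : Nat.card (fixedPoints A X) < Nat.card X :=
        Finite.card_subtype_lt (p := fun x => x ∈ fixedPoints A X) hx
      rw [hcard] at this
      omega
    have hbot : A = ⊥ := by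
      rw [eq_bot_iff]
      intro a ha
      rw [mem_bot]
      apply eq_one_of_forall_smul_eq hX
      intro x
      exact hall x ⟨a, ha⟩
    rw [hbot, Subgroup.card_bot] at hA
    omega
  have hY : Nat.card (fixedPoints A X) = 2 := by
    have := hY1
    rw [Nat.ModEq] at this
    omega
  -- Fix(t) ∩ Y
  have h2grp : IsPGroup 2 (zpowers t) := by
    apply IsPGroup.of_card (n := 1)
    rw [Nat.card_zpowers, pow_one]
    exact orderOf_eq_prime (by rw [pow_two]; exact ht) ht1
  have hF1 := card_fixedPoints_modEq_card_inter (X := X) (zpowers t) A h2grp (by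
    intro a ha s hs
    obtain ⟨n, rfl⟩ := mem_zpowers_iff.mp ha
    have h1 : Commute s t := hcomm s hs
    exact ((h1.zpow_right n).eq).symm)
  rw [fixedPoints_zpowers_eq, hY] at hF1
  have hF2 := card_fixedBy_modEq_card_inter (X := X) A hA7 t hcomm
  have hF3 := card_fixedBy_modEq_four (X := X) hnc t ht
  rw [hcard] at hF3
  have hinter : (fixedPoints A X ∩ fixedBy X t : Set X) =
      (fixedBy X t ∩ fixedPoints A X : Set X) := Set.inter_comm _ _
  rw [hinter] at hF1
  have hle2 : Nat.card (fixedBy X t ∩ fixedPoints A X : Set X) ≤ 2 := by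
    rw [← hY]
    exact Nat.card_mono (Set.toFinite _) Set.inter_subset_right
  have hlt : Nat.card (fixedBy X t) < 9 := by
    by_contra hcon
    apply ht1
    apply eq_one_of_forall_smul_eq hX
    by_contra hne
    push Not at hne
    obtain ⟨x, hx⟩ := hne
    have : Nat.card (fixedBy X t) < Nat.card X :=
      Finite.card_subtype_lt (p := fun x => x ∈ fixedBy X t) (x := x) hx
    rw [hcard] at this
    exact hcon this
  rw [Nat.ModEq] at hF1 hF2 hF3
  omega

/-- In a simple group, an element of order 7 commuting with an involution excludes a subgroup of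
index 9. -/
theorem no_index_nine {G : Type*} [Group G] [Finite G] [IsSimpleGroup G]
    (hnc : ¬ IsMulCommutative G) (A : Subgroup G) (hA : Nat.card ↥A = 7)
    (t : G) (ht : t * t = 1) (ht1 : t ≠ 1) (hcomm : ∀ a ∈ A, a * t = t * a)
    (H : Subgroup G) (hH : H.index = 9) : False := by
  have hcard : Nat.card (G ⧸ H) = 9 := by rw [← hH]; rfl
  haveI : Finite (G ⧸ H) := Nat.finite_of_card_ne_zero (by rw [hcard]; norm_num)
  exact no_action_nine hnc hcard A hA t ht ht1 hcomm


/-- No finite simple group has order 2016 = 2^5 * 3^2 * 7. -/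
theorem result {G : Type*} [Group G] [Finite G] [IsSimpleGroup G] : Nat.card G ≠ 2016 := by
  intro hG
  haveI : Fact (Nat.Prime 7) := ⟨by norm_num⟩
  haveI : Fact (Nat.Prime 2) := ⟨Nat.prime_two⟩
  have hnc : ¬ IsMulCommutative G := not_comm_of_simple_of_not_prime (by rw [hG]; norm_num)
  have hG' : Nat.card G = 7 ^ 1 * 288 := by rw [hG]; norm_num
  have hPcard : ∀ P : Sylow 7 G, Nat.card ↥(P : Subgroup G) = 7 := fun P => by
    simpa using card_sylow_of_card_eq P hG' (by norm_num)
  have hdvd : Nat.card (Sylow 7 G) ∣ 288 := card_sylow_dvd_of_card_eq hG' (by norm_num)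
  have hmod : Nat.card (Sylow 7 G) % 7 = 1 := card_sylow_modEq_one 7 G
  have hcases : ∀ d ∈ Nat.divisors 288, d % 7 = 1 → d = 1 ∨ d = 8 ∨ d = 36 ∨ d = 288 := by decide
  obtain ⟨P⟩ : Nonempty (Sylow 7 G) := inferInstance
  have hP := hPcard P
  have hne1 : (P : Subgroup G) ≠ ⊥ := by
    intro h; rw [h, Subgroup.card_bot] at hP; omega
  have hne2 : (P : Subgroup G) ≠ ⊤ := by
    intro h; rw [h, Subgroup.card_top] at hP; omega
  have hlt := one_lt_card_sylow_of_simple P hne1 hne2
  rcases hcases _ (Nat.mem_divisors.mpr ⟨hdvd, by norm_num⟩) hmod with h | h | h | h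
  · omega
  · -- n_7 = 8
    have hN : Nat.card ↥(normalizer ((P : Subgroup G) : Set G)) = 252 := by
      have := card_normalizer_mul_card_sylow P
      rw [h, hG] at this
      omega
    have hidx : (normalizer ((P : Subgroup G) : Set G)).index = 7 + 1 := by
      have h0 := P.card_eq_index_normalizer
      rw [h] at h0
      exact h0.symm
    have := two_mul_card_normalizer_dvd_of_index hnc 7 (by norm_num)
      (normalizer ((P : Subgroup G) : Set G)) (Or.inr hidx) P hP
    rw [hN] at this
    revert this; decide
  · -- n_7 = 36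
    have hN : ∀ R : Sylow 7 G, Nat.card ↥(normalizer ((R : Subgroup G) : Set G)) = 56 := by
      intro R
      have := card_normalizer_mul_card_sylow R
      rw [h, hG] at this
      omega
    have hRne : ∀ R : Sylow 7 G, (R : Subgroup G) ≠ ⊥ ∧ (R : Subgroup G) ≠ ⊤ := by
      intro R
      have hR := hPcard R
      constructor
      · intro h; rw [h, Subgroup.card_bot] at hR; omega
      · intro h; rw [h, Subgroup.card_top] at hR; omega
    have hC : ∀ R : Sylow 7 G, Nat.card ↥(centralizer ((R : Subgroup G) : Set G)) = 28 ∧
        (centralizer ((R : Subgroup G) : Set G)).relIndex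
          (normalizer ((R : Subgroup G) : Set G)) = 2 := by
      intro R
      have h1 := relIndex_centralizer_normalizer_dvd_pred (p := 7) (by norm_num) (R : Subgroup G)
        (hPcard R)
      have h2 := card_inf_mul_relIndex (centralizer ((R : Subgroup G) : Set G))
        (normalizer ((R : Subgroup G) : Set G))
      rw [inf_eq_left.mpr (centralizer_le_normalizer _), hN R] at h2
      have h3 : (centralizer ((R : Subgroup G) : Set G)).relIndex
          (normalizer ((R : Subgroup G) : Set G)) ≠ 1 := by
        intro h4
        exact not_normalizer_le_centralizer_of_simple R (hRne R).1 (hRne R).2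
          (relIndex_eq_one.mp h4)
      have h5 : (centralizer ((R : Subgroup G) : Set G)).relIndex
          (normalizer ((R : Subgroup G) : Set G)) ≤ 6 := Nat.le_of_dvd (by norm_num) h1
      have h6 : (centralizer ((R : Subgroup G) : Set G)).relIndex
          (normalizer ((R : Subgroup G) : Set G)) ∣ 56 := Dvd.intro_left _ h2
      generalize (centralizer ((R : Subgroup G) : Set G)).relIndex
          (normalizer ((R : Subgroup G) : Set G)) = r at *
      interval_cases r <;> simp_all <;> omega
    -- P is commutative
    have hPcomm : ∀ R : Sylow 7 G, ∀ a ∈ (R : Subgroup G), ∀ b ∈ (R : Subgroup G),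
        a * b = b * a := by
      intro R a ha b hb
      have hcyc : IsCyclic ↥(R : Subgroup G) := isCyclic_of_prime_card (hPcard R)
      exact congrArg Subtype.val (hcyc.isMulCommutative.is_comm.comm ⟨a, ha⟩ ⟨b, hb⟩)
    have hPC : ∀ R : Sylow 7 G, (R : Subgroup G) ≤ centralizer ((R : Subgroup G) : Set G) := by
      intro R a ha
      rw [mem_centralizer_iff]
      intro b hb
      exact hPcomm R b hb a ha
    -- Step A
    have stepA : ∀ t : G, t ∈ centralizer ((P : Subgroup G) : Set G) → t * t = 1 → t ≠ 1 →
        Nat.card (fixedBy (Sylow 7 G) t) = 8 ∧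
        centralizer ({t} : Set G) ≤ normalizer ((P : Subgroup G) : Set G) := by
      intro t htC ht ht1
      have hcomm : ∀ a ∈ (P : Subgroup G), a * t = t * a := fun a ha =>
        mem_centralizer_iff.mp htC a ha
      obtain ⟨hf1, hf2, hf3, hf4⟩ := involution_sylow_count hnc P (by omega) t ht ht1 hcomm
      rw [h] at hf2 hf3 hf4
      rw [hG] at hf4
      have hf : Nat.card (fixedBy (Sylow 7 G) t) = 8 := by omega
      refine ⟨hf, ?_⟩
      rw [hf] at hf4
      have hCle : centralizer ((P : Subgroup G) : Set G) ≤ centralizer ({t} : Set G) := by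
        apply le_centralizer_of_involution (centralizer ((P : Subgroup G) : Set G))
          (P : Subgroup G) (hPC P) (e := 2) (t := t) _ le_rfl _ _ htC ht
        · intro c hc a ha
          exact mem_centralizer_iff.mp hc a ha
        · rw [(hC P).1, hP]; norm_num
        · rw [hP]; norm_num
      have hPle : (P : Subgroup G) ≤ centralizer ({t} : Set G) := (hPC P).trans hCle
      have ha := relIndex_normalizer_modEq_one P (centralizer ({t} : Set G)) hPle
      have hac := card_inf_mul_relIndex (normalizer ((P : Subgroup G) : Set G))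
        (centralizer ({t} : Set G))
      have hm1 : Nat.card ↥(centralizer ((P : Subgroup G) : Set G)) ∣
          Nat.card ↥(normalizer ((P : Subgroup G) : Set G) ⊓ centralizer ({t} : Set G) :
            Subgroup G) :=
        Subgroup.card_dvd_of_le (le_inf (centralizer_le_normalizer _) hCle)
      have hm2 : Nat.card ↥(normalizer ((P : Subgroup G) : Set G) ⊓ centralizer ({t} : Set G) :
            Subgroup G) ∣ Nat.card ↥(normalizer ((P : Subgroup G) : Set G)) :=
        Subgroup.card_dvd_of_le inf_le_left
      rw [(hC P).1] at hm1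
      rw [hN P] at hm2
      have hc2016 : Nat.card ↥(centralizer ({t} : Set G)) ∣ 2016 :=
        hG ▸ Subgroup.card_subgroup_dvd_card _
      have hcidx := (centralizer ({t} : Set G)).card_mul_index
      rw [hG] at hcidx
      by_cases ha1 : (normalizer ((P : Subgroup G) : Set G)).relIndex
          (centralizer ({t} : Set G)) = 1
      · exact relIndex_eq_one.mp ha1
      · exfalso
        have h9 : (centralizer ({t} : Set G)).index = 9 :=
          num2016 _ _ _ _ _ hf4 hm1 hm2 hac ha hc2016 hcidx ha1
        exact no_index_nine hnc (P : Subgroup G) hP t ht ht1 hcomm _ h9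
    -- Step B: a Sylow 2-subgroup V of C(P)
    obtain ⟨S⟩ : Nonempty (Sylow 2 ↥(centralizer ((P : Subgroup G) : Set G))) := inferInstance
    set V : Subgroup G := (S : Subgroup ↥(centralizer ((P : Subgroup G) : Set G))).map
      (centralizer ((P : Subgroup G) : Set G)).subtype with hVdef
    have hVcard : Nat.card ↥V = 4 := by
      rw [hVdef, card_map_subtype]
      have := card_sylow_of_card_eq S (k := 2) (m := 7) (by rw [(hC P).1]; norm_num) (by norm_num)
      simpa using this
    have hVC : V ≤ centralizer ((P : Subgroup G) : Set G) := by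
      rw [hVdef]
      exact Subgroup.map_subtype_le _
    have hVcomm := comm_of_card_prime_pow_le_two (p := 2) (e := 2) le_rfl V
      (by rw [hVcard]; norm_num)
    have hV2 : IsPGroup 2 V := IsPGroup.of_card (n := 2) (by rw [hVcard]; norm_num)
    -- an involution in V
    obtain ⟨t, htV, ht, ht1⟩ : ∃ t ∈ V, t * t = 1 ∧ t ≠ 1 := by
      obtain ⟨x, hx⟩ := exists_prime_orderOf_dvd_card' (G := ↥V) 2 (by rw [hVcard]; norm_num)
      refine ⟨x.1, x.2, ?_, ?_⟩
      · have := pow_orderOf_eq_one x
        rw [hx, pow_two] at this
        exact congrArg Subtype.val this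
      · intro h1
        have : x = 1 := Subtype.ext h1
        rw [this, orderOf_one] at hx
        omega
    obtain ⟨hf, -⟩ := stepA t (hVC htV) ht ht1
    have hF := card_fixedBy_modEq_card_inter (X := Sylow 7 G) V hV2 t
      (fun a ha => hVcomm a ha t htV)
    rw [hf] at hF
    -- P is a common fixed point
    have hPmem : P ∈ (fixedBy (Sylow 7 G) t ∩ fixedPoints V (Sylow 7 G) : Set (Sylow 7 G)) := by
      constructor
      · rw [mem_fixedBy_sylow_iff]
        exact centralizer_le_normalizer _ (hVC htV)
      · rw [Subgroup.sylow_mem_fixedPoints_iff]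
        exact hVC.trans (centralizer_le_normalizer _)
    -- another common fixed point
    obtain ⟨R, hRmem, hRP⟩ : ∃ R ∈ (fixedBy (Sylow 7 G) t ∩ fixedPoints V (Sylow 7 G) :
        Set (Sylow 7 G)), R ≠ P := by
      by_contra hcon
      push Not at hcon
      have hset : (fixedBy (Sylow 7 G) t ∩ fixedPoints V (Sylow 7 G) : Set (Sylow 7 G)) = {P} := by
        ext Q
        constructor
        · intro hQ
          exact hcon Q hQ
        · rintro rfl
          exact hPmem
      rw [hset] at hF
      simp [Nat.ModEq] at hF
    have hVR : V ≤ normalizer ((R : Subgroup G) : Set G) := by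
      have := hRmem.2
      rwa [Subgroup.sylow_mem_fixedPoints_iff] at this
    -- V meets C(R) nontrivially
    have hrel : (centralizer ((R : Subgroup G) : Set G)).relIndex V ≤ 2 := by
      have := relIndex_le_of_le_right (H := centralizer ((R : Subgroup G) : Set G)) hVR
        (by rw [(hC R).2]; norm_num)
      rwa [(hC R).2] at this
    have hcardinf := card_inf_mul_relIndex (centralizer ((R : Subgroup G) : Set G)) V
    rw [hVcard] at hcardinf
    have h2dvd : 2 ∣ Nat.card ↥(centralizer ((R : Subgroup G) : Set G) ⊓ V : Subgroup G) := by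
      have hd : Nat.card ↥(centralizer ((R : Subgroup G) : Set G) ⊓ V : Subgroup G) ∣ 4 :=
        Dvd.intro _ hcardinf
      have hle : Nat.card ↥(centralizer ((R : Subgroup G) : Set G) ⊓ V : Subgroup G) ≤ 4 :=
        Nat.le_of_dvd (by norm_num) hd
      generalize (centralizer ((R : Subgroup G) : Set G)).relIndex V = r at *
      generalize Nat.card ↥(centralizer ((R : Subgroup G) : Set G) ⊓ V : Subgroup G) = c at *
      interval_cases c <;> interval_cases r <;> omega
    obtain ⟨y, hy⟩ := exists_prime_orderOf_dvd_card'
      (G := ↥(centralizer ((R : Subgroup G) : Set G) ⊓ V : Subgroup G)) 2 h2dvd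
    have hy1 : (y : G) * (y : G) = 1 := by
      have := pow_orderOf_eq_one y
      rw [hy, pow_two] at this
      exact congrArg Subtype.val this
    have hy2 : (y : G) ≠ 1 := by
      intro h1
      have : y = 1 := Subtype.ext h1
      rw [this, orderOf_one] at hy
      omega
    have hyC : (y : G) ∈ centralizer ((R : Subgroup G) : Set G) := y.2.1
    have hyV : (y : G) ∈ V := y.2.2
    obtain ⟨-, hle⟩ := stepA (y : G) (hVC hyV) hy1 hy2
    have hRle : (R : Subgroup G) ≤ centralizer ({(y : G)} : Set G) := by
      intro r hr
      rw [mem_centralizer_iff]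
      intro s hs
      rw [Set.mem_singleton_iff] at hs
      rw [hs]
      exact (mem_centralizer_iff.mp hyC r hr).symm
    exact hRP (sylow_eq_of_le_normalizer P R (hRle.trans hle))
  · -- n_7 = 288
    have hN : Nat.card ↥(normalizer ((P : Subgroup G) : Set G)) = 7 * 1 := by
      have := card_normalizer_mul_card_sylow P
      rw [h, hG] at this
      omega
    exact not_coprime_of_simple P hP (by rw [hG]; norm_num) hN (by norm_num)

end Cfsg.Agent.S1017
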