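import Cfsg.Statements.S1003
import Cfsg.Agent.Lib.Helper17.ActionCounts
import Cfsg.Agent.Lib.Helper17.NormCent
import Cfsg.Agent.Lib.Helper17.InvolTools

set_option autoImplicit false
open Cfsg

namespace Cfsg.Agent.S1003

open Cfsg.Agent.Lib.Helper17 Subgroup MulAction

/-- A nonabelian simple group cannot act transitively on 7 points with a nontrivial 3-subgroup
commuting with an involution, both fixing a common point. -/
theorem no_action_seven {G X : Type*} [Group G] [IsSimpleGroup G]
    (hnc : ¬ IsMulCommutative G) [MulAction G X] [Finite X] [IsPretransitive G X]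
    (hX : Nat.card X = 7) (A : Subgroup G) (hA : IsPGroup 3 A) (hA1 : A ≠ ⊥) (t : G)
    (ht : t * t = 1) (ht1 : t ≠ 1) (hcomm : ∀ a ∈ A, a * t = t * a) (x₀ : X)
    (h1 : t • x₀ = x₀) (h2 : ∀ a ∈ A, a • x₀ = x₀) : False := by
  haveI : Fact (Nat.Prime 3) := ⟨by norm_num⟩
  obtain ⟨e1, e2, e3, e4, e5, e6, e7, e8⟩ := commuting_pair_counts (X := X) hnc
    (by rw [hX]; norm_num) A hA hA1 t ht ht1 hcomm
  have e9 := one_le_card_inter (X := X) A t x₀ h1 h2
  rw [hX] at e1 e2 e4 e6
  omega

/-- Subgroup version: the action on the cosets of a subgroup of index 7. -/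
theorem no_index_seven {G : Type*} [Group G] [Finite G] [IsSimpleGroup G]
    (hnc : ¬ IsMulCommutative G) (H : Subgroup G) (hH : H.index = 7)
    (A : Subgroup G) (hA : IsPGroup 3 A) (hA1 : A ≠ ⊥) (hAH : A ≤ H) (t : G) (htH : t ∈ H)
    (ht : t * t = 1) (ht1 : t ≠ 1) (hcomm : ∀ a ∈ A, a * t = t * a) : False := by
  have hcard : Nat.card (G ⧸ H) = 7 := by rw [← hH]; rfl
  haveI : Finite (G ⧸ H) := Nat.finite_of_card_ne_zero (by rw [hcard]; norm_num)
  have hfix : ∀ g ∈ H, g • ((1 : G) : G ⧸ H) = ((1 : G) : G ⧸ H) := by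
    intro g hg
    rw [MulAction.Quotient.smul_coe, smul_eq_mul, mul_one, QuotientGroup.eq, mul_one]
    exact H.inv_mem hg
  exact no_action_seven hnc hcard A hA hA1 t ht ht1 hcomm ((1 : G) : G ⧸ H) (hfix t htH)
    (fun a ha => hfix a (hAH ha))

/-- `n_7 = 8`. -/
theorem card_sylow_seven {G : Type*} [Group G] [Finite G] [IsSimpleGroup G]
    (h : Nat.card G = 168) : Nat.card (Sylow 7 G) = 8 := by
  haveI : Fact (Nat.Prime 7) := ⟨by norm_num⟩
  have hG' : Nat.card G = 7 ^ 1 * 24 := by rw [h]; norm_num
  obtain ⟨P⟩ : Nonempty (Sylow 7 G) := inferInstance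
  have hP : Nat.card ↥(P : Subgroup G) = 7 := by
    simpa using card_sylow_of_card_eq P hG' (by norm_num)
  have hdvd : Nat.card (Sylow 7 G) ∣ 24 := card_sylow_dvd_of_card_eq hG' (by norm_num)
  have hmod : Nat.card (Sylow 7 G) % 7 = 1 := card_sylow_modEq_one 7 G
  have hcases : ∀ d ∈ Nat.divisors 24, d % 7 = 1 → d = 1 ∨ d = 8 := by decide
  have hne1 : (P : Subgroup G) ≠ ⊥ := by
    intro h; rw [h, Subgroup.card_bot] at hP; omega
  have hne2 : (P : Subgroup G) ≠ ⊤ := by
    intro h'; rw [h', Subgroup.card_top] at hP; omega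
  have hlt := one_lt_card_sylow_of_simple P hne1 hne2
  rcases hcases _ (Nat.mem_divisors.mpr ⟨hdvd, by norm_num⟩) hmod with h1 | h1
  · omega
  · exact h1

/-- `n_3 = 28`. -/
theorem card_sylow_three {G : Type*} [Group G] [Finite G] [IsSimpleGroup G]
    (h : Nat.card G = 168) : Nat.card (Sylow 3 G) = 28 := by
  haveI : Fact (Nat.Prime 3) := ⟨by norm_num⟩
  haveI : Fact (Nat.Prime 2) := ⟨Nat.prime_two⟩
  have hnc : ¬ IsMulCommutative G := not_comm_of_simple_of_not_prime (by rw [h]; norm_num)
  have hG' : Nat.card G = 3 ^ 1 * 56 := by rw [h]; norm_num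
  obtain ⟨P⟩ : Nonempty (Sylow 3 G) := inferInstance
  have hP : Nat.card ↥(P : Subgroup G) = 3 := by
    simpa using card_sylow_of_card_eq P hG' (by norm_num)
  have hdvd : Nat.card (Sylow 3 G) ∣ 56 := card_sylow_dvd_of_card_eq hG' (by norm_num)
  have hmod : Nat.card (Sylow 3 G) % 3 = 1 := card_sylow_modEq_one 3 G
  have hcases : ∀ d ∈ Nat.divisors 56, d % 3 = 1 → d = 1 ∨ d = 4 ∨ d = 7 ∨ d = 28 := by decide
  have hne1 : (P : Subgroup G) ≠ ⊥ := by
    intro h; rw [h, Subgroup.card_bot] at hP; omega
  have hne2 : (P : Subgroup G) ≠ ⊤ := by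
    intro h'; rw [h', Subgroup.card_top] at hP; omega
  have hlt := one_lt_card_sylow_of_simple P hne1 hne2
  rcases hcases _ (Nat.mem_divisors.mpr ⟨hdvd, by norm_num⟩) hmod with h1 | h1 | h1 | h1
  · omega
  · exfalso
    have := card_dvd_factorial_card_sylow (G := G) (p := 3) hlt
    rw [h1, h] at this
    revert this; decide
  · exfalso
    have hN : Nat.card ↥(normalizer ((P : Subgroup G) : Set G)) = 24 := by
      have := card_normalizer_mul_card_sylow P
      rw [h1, h] at this
      omega
    have hidx : (normalizer ((P : Subgroup G) : Set G)).index = 7 := by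
      have h0 := P.card_eq_index_normalizer
      rw [h1] at h0
      exact h0.symm
    have hr := relIndex_centralizer_normalizer_dvd_pred (p := 3) (by norm_num) (P : Subgroup G) hP
    have h2 := card_inf_mul_relIndex (centralizer ((P : Subgroup G) : Set G))
      (normalizer ((P : Subgroup G) : Set G))
    rw [inf_eq_left.mpr (centralizer_le_normalizer _), hN] at h2
    have h2dvd : 2 ∣ Nat.card ↥(centralizer ((P : Subgroup G) : Set G)) := by
      have h5 : (centralizer ((P : Subgroup G) : Set G)).relIndex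
          (normalizer ((P : Subgroup G) : Set G)) ≤ 2 := Nat.le_of_dvd (by norm_num) hr
      generalize (centralizer ((P : Subgroup G) : Set G)).relIndex
          (normalizer ((P : Subgroup G) : Set G)) = r at *
      generalize Nat.card ↥(centralizer ((P : Subgroup G) : Set G)) = c at *
      interval_cases r <;> omega
    obtain ⟨x, hx⟩ := exists_prime_orderOf_dvd_card'
      (G := ↥(centralizer ((P : Subgroup G) : Set G))) 2 h2dvd
    have ht : (x : G) * (x : G) = 1 := by
      have := pow_orderOf_eq_one x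
      rw [hx, pow_two] at this
      exact congrArg Subtype.val this
    have ht1 : (x : G) ≠ 1 := by
      intro h1
      have : x = 1 := Subtype.ext h1
      rw [this, orderOf_one] at hx
      omega
    exact no_index_seven hnc _ hidx (P : Subgroup G) P.2 hne1 le_normalizer (x : G)
      (centralizer_le_normalizer _ x.2) ht ht1 (fun a ha => mem_centralizer_iff.mp x.2 a ha)
  · exact h1

/-- `n_2 = 21`. -/
theorem card_sylow_two {G : Type*} [Group G] [Finite G] [IsSimpleGroup G]
    (h : Nat.card G = 168) : Nat.card (Sylow 2 G) = 21 := by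
  haveI : Fact (Nat.Prime 3) := ⟨by norm_num⟩
  haveI : Fact (Nat.Prime 2) := ⟨Nat.prime_two⟩
  have hnc : ¬ IsMulCommutative G := not_comm_of_simple_of_not_prime (by rw [h]; norm_num)
  have hG' : Nat.card G = 2 ^ 3 * 21 := by rw [h]; norm_num
  obtain ⟨T⟩ : Nonempty (Sylow 2 G) := inferInstance
  have hT : Nat.card ↥(T : Subgroup G) = 8 := by
    simpa using card_sylow_of_card_eq T hG' (by norm_num)
  have hdvd : Nat.card (Sylow 2 G) ∣ 21 := card_sylow_dvd_of_card_eq hG' (by norm_num)
  have hcases : ∀ d ∈ Nat.divisors 21, d = 1 ∨ d = 3 ∨ d = 7 ∨ d = 21 := by decide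
  have hne1 : (T : Subgroup G) ≠ ⊥ := by
    intro h; rw [h, Subgroup.card_bot] at hT; omega
  have hne2 : (T : Subgroup G) ≠ ⊤ := by
    intro h'; rw [h', Subgroup.card_top] at hT; omega
  have hlt := one_lt_card_sylow_of_simple T hne1 hne2
  rcases hcases _ (Nat.mem_divisors.mpr ⟨hdvd, by norm_num⟩) with h1 | h1 | h1 | h1
  · omega
  · exfalso
    have := card_dvd_factorial_card_sylow (G := G) (p := 2) hlt
    rw [h1, h] at this
    revert this; decide
  · exfalso
    have hN' : Nat.card ↥(normalizer ((T : Subgroup G) : Set G)) = 24 := by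
      have := card_normalizer_mul_card_sylow T
      rw [h1, h] at this
      omega
    have hidx' : (normalizer ((T : Subgroup G) : Set G)).index = 7 := by
      have h0 := T.card_eq_index_normalizer
      rw [h1] at h0
      exact h0.symm
    set H := normalizer ((T : Subgroup G) : Set G) with hH
    have hN : Nat.card ↥H = 24 := hN'
    have hidx : H.index = 7 := hidx'
    -- an element of order 3 in H
    obtain ⟨y', hy'⟩ := exists_prime_orderOf_dvd_card' (G := ↥H) 3 (by rw [hN]; norm_num)
    set y : G := (y' : G) with hy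
    have hyH : y ∈ H := y'.2
    have hyo : orderOf y = 3 := by
      rw [hy, Subgroup.orderOf_coe, hy']
    have h3grp : IsPGroup 3 (zpowers y) := by
      apply IsPGroup.of_card (n := 1)
      rw [Nat.card_zpowers, hyo, pow_one]
    have hmod := card_modEq_card_inf_centralizer (T : Subgroup G) y hyH h3grp
    rw [hT] at hmod
    have hKdvd : Nat.card ↥((T : Subgroup G) ⊓ centralizer ({y} : Set G) : Subgroup G) ∣ 8 := by
      rw [← hT]
      exact Subgroup.card_dvd_of_le inf_le_left
    have h2dvd : 2 ∣ Nat.card ↥((T : Subgroup G) ⊓ centralizer ({y} : Set G) : Subgroup G) := by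
      have hle := Nat.le_of_dvd (by norm_num) hKdvd
      rw [Nat.ModEq] at hmod
      generalize Nat.card ↥((T : Subgroup G) ⊓ centralizer ({y} : Set G) : Subgroup G) = c at *
      interval_cases c <;> omega
    obtain ⟨x, hx⟩ := exists_prime_orderOf_dvd_card'
      (G := ↥((T : Subgroup G) ⊓ centralizer ({y} : Set G) : Subgroup G)) 2 h2dvd
    have ht : (x : G) * (x : G) = 1 := by
      have := pow_orderOf_eq_one x
      rw [hx, pow_two] at this
      exact congrArg Subtype.val this
    have ht1 : (x : G) ≠ 1 := by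
      intro h1
      have : x = 1 := Subtype.ext h1
      rw [this, orderOf_one] at hx
      omega
    have hxT : (x : G) ∈ (T : Subgroup G) := x.2.1
    have hxC : (x : G) ∈ centralizer ({y} : Set G) := x.2.2
    have hA1 : zpowers y ≠ ⊥ := by
      intro hbot
      have : Nat.card ↥(zpowers y) = 1 := by rw [hbot, Subgroup.card_bot]
      rw [Nat.card_zpowers, hyo] at this
      omega
    refine no_index_seven hnc H hidx (zpowers y) h3grp hA1 ((zpowers_le).mpr hyH) (x : G)
      (le_normalizer hxT) ht ht1 ?_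
    intro a ha
    obtain ⟨n, rfl⟩ := mem_zpowers_iff.mp ha
    have hc : Commute y (x : G) := mem_centralizer_iff.mp hxC y rfl
    exact (hc.zpow_left n).eq
  · exact h1

/-- A simple group of order 168 has exactly 21 Sylow 2-subgroups, 28 Sylow 3-subgroups and 8 Sylow 7-subgroups. -/
theorem result {G : Type*} [Group G] [Finite G] [IsSimpleGroup G] (h : Nat.card G = 168) : Nat.card (Sylow 2 G) = 21 ∧ Nat.card (Sylow 3 G) = 28 ∧ Nat.card (Sylow 7 G) = 8 :=
  ⟨card_sylow_two h, card_sylow_three h, card_sylow_seven h⟩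

end Cfsg.Agent.S1003
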