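import Cfsg.Statements.S1012
import Cfsg.Agent.Lib.Helper17.NormCent

set_option autoImplicit false
open Cfsg

namespace Cfsg.Agent.S1012

open Cfsg.Agent.Lib.Helper17 Subgroup

theorem no_comm {G : Type*} [Group G] (h6 : ∀ g : G, orderOf g ≠ 6) (t x : G)
    (ht : orderOf t = 2) (hx : orderOf x = 3) (hc : t * x = x * t) : False := by
  have h1 : Commute t x := hc
  have := h1.orderOf_mul_eq_mul_orderOf_of_coprime (by rw [ht, hx]; norm_num)
  rw [ht, hx] at this
  exact h6 _ this

/-- A group of order 24 containing no element of order 6 is isomorphic to the symmetric group of degree 4. -/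
theorem result {G : Type*} [Group G] [Finite G] (h : Nat.card G = 24) (h6 : ∀ g : G, orderOf g ≠ 6) : Nonempty (G ≃* Equiv.Perm (Fin 4)) := by
  classical
  haveI : Fact (Nat.Prime 3) := ⟨Nat.prime_three⟩
  haveI : Fact (Nat.Prime 2) := ⟨Nat.prime_two⟩
  have hG' : Nat.card G = 3 ^ 1 * 8 := by rw [h]; norm_num
  have hcardP : ∀ P : Sylow 3 G, Nat.card ↥(P : Subgroup G) = 3 := by
    intro P
    simpa using card_sylow_of_card_eq P hG' (by norm_num)
  have hdvd : Nat.card (Sylow 3 G) ∣ 8 := card_sylow_dvd_of_card_eq hG' (by norm_num)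
  have hmod : Nat.card (Sylow 3 G) % 3 = 1 := card_sylow_modEq_one 3 G
  have hcases : ∀ d ∈ Nat.divisors 8, d % 3 = 1 → d = 1 ∨ d = 4 := by decide
  -- an element of order 3
  obtain ⟨x, hx⟩ := exists_prime_orderOf_dvd_card' (G := G) 3 (by rw [h]; norm_num)
  obtain ⟨P⟩ : Nonempty (Sylow 3 G) := inferInstance
  rcases hcases _ (Nat.mem_divisors.mpr ⟨hdvd, by norm_num⟩) hmod with h1 | h4
  · -- P is normal
    exfalso
    haveI : Subsingleton (Sylow 3 G) := (Finite.card_le_one_iff_subsingleton).mp (by omega)
    have hPn : (P : Subgroup G).Normal := P.normal_of_subsingleton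
    have hN : normalizer ((P : Subgroup G) : Set G) = ⊤ := normalizer_eq_top_iff.mpr hPn
    have hrel := relIndex_centralizer_normalizer_dvd_pred Nat.prime_three (P : Subgroup G) (hcardP P)
    rw [hN, Subgroup.relIndex_top_right] at hrel
    -- |C(P)| is even
    have hC : 2 ∣ Nat.card ↥(centralizer ((P : Subgroup G) : Set G)) := by
      have := Subgroup.card_mul_index (centralizer ((P : Subgroup G) : Set G))
      rw [h] at this
      have h2 : (centralizer ((P : Subgroup G) : Set G)).index ≤ 2 := Nat.le_of_dvd (by norm_num) hrel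
      have h3 : (centralizer ((P : Subgroup G) : Set G)).index ≠ 0 := Subgroup.index_ne_zero_of_finite
      interval_cases hh : (centralizer ((P : Subgroup G) : Set G)).index <;> omega
    obtain ⟨t, ht⟩ := exists_prime_orderOf_dvd_card' (G := ↥(centralizer ((P : Subgroup G) : Set G))) 2 hC
    -- a generator of P
    obtain ⟨y, hy⟩ := exists_prime_orderOf_dvd_card' (G := ↥(P : Subgroup G)) 3 (by rw [hcardP P])
    have ht' : orderOf (t : G) = 2 := by rw [Subgroup.orderOf_coe, ht]
    have hy' : orderOf (y : G) = 3 := by rw [Subgroup.orderOf_coe, hy]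
    have hc : (t : G) * (y : G) = (y : G) * (t : G) := by
      have := t.2
      rw [mem_centralizer_iff] at this
      exact (this y y.2).symm
    exact no_comm h6 _ _ ht' hy' hc
  · -- the conjugation action on the four Sylow 3-subgroups is faithful
    have hNcard : ∀ Q : Sylow 3 G, Nat.card ↥(normalizer ((Q : Subgroup G) : Set G)) = 6 := by
      intro Q
      have := card_normalizer_mul_card_sylow Q
      rw [h4, h] at this
      omega
    set φ := MulAction.toPermHom G (Sylow 3 G) with hφ
    have hker : ∀ g ∈ φ.ker, ∀ Q : Sylow 3 G, g ∈ normalizer ((Q : Subgroup G) : Set G) := by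
      intro g hg Q
      rw [MonoidHom.mem_ker] at hg
      have : g • Q = Q := by
        have := congrArg (fun e : Equiv.Perm (Sylow 3 G) => e Q) hg
        simpa [hφ] using this
      exact Sylow.smul_eq_iff_mem_normalizer.mp this
    -- no element of order 3 in the kernel
    have hno3 : ∀ g ∈ φ.ker, orderOf g ≠ 3 := by
      intro g hg ho
      have hz : IsPGroup 3 (zpowers g) := by
        apply IsPGroup.of_card (n := 1)
        rw [Nat.card_zpowers, ho]; norm_num
      have hall : ∀ Q : Sylow 3 G, zpowers g = (Q : Subgroup G) := by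
        intro Q
        have hle : zpowers g ≤ normalizer ((Q : Subgroup G) : Set G) := by
          rw [zpowers_le]; exact hker g hg Q
        have h1 : zpowers g ⊓ normalizer ((Q : Subgroup G) : Set G) = zpowers g ⊓ (Q : Subgroup G) :=
          hz.inf_normalizer_sylow Q
        rw [inf_of_le_left hle] at h1
        have h2 : zpowers g ≤ (Q : Subgroup G) := by
          rw [h1]; exact inf_le_right
        apply Subgroup.eq_of_le_of_card_ge h2
        rw [hcardP Q, Nat.card_zpowers, ho]
      have : Subsingleton (Sylow 3 G) := ⟨fun A B => Sylow.ext ((hall A).symm.trans (hall B))⟩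
      have : Nat.card (Sylow 3 G) ≤ 1 := Finite.card_le_one_iff_subsingleton.mpr this
      omega
    have hinj : Function.Injective φ := by
      rw [← MonoidHom.ker_eq_bot_iff]
      by_contra hne
      -- the kernel has order dividing 6 and no elements of order 3
      have hK6 : Nat.card ↥φ.ker ∣ 6 := by
        rw [← hNcard P]
        apply Subgroup.card_dvd_of_le
        intro g hg
        exact hker g hg P
      have hK3 : ¬ 3 ∣ Nat.card ↥φ.ker := by
        intro h3
        obtain ⟨g, hg⟩ := exists_prime_orderOf_dvd_card' (G := ↥φ.ker) 3 h3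
        exact hno3 g g.2 (by rw [Subgroup.orderOf_coe, hg])
      have hK2 : Nat.card ↥φ.ker = 2 := by
        have hK1 : Nat.card ↥φ.ker ≠ 1 := fun h => hne (Subgroup.card_eq_one.mp h)
        have hcs : ∀ d ∈ Nat.divisors 6, ¬ 3 ∣ d → d ≠ 1 → d = 2 := by decide
        exact hcs _ (Nat.mem_divisors.mpr ⟨hK6, by norm_num⟩) hK3 hK1
      obtain ⟨t, ht⟩ := exists_prime_orderOf_dvd_card' (G := ↥φ.ker) 2 (by rw [hK2])
      have ht' : orderOf (t : G) = 2 := by rw [Subgroup.orderOf_coe, ht]
      -- t is central
      have hcent : ∀ g : G, g * (t : G) * g⁻¹ = (t : G) := by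
        intro g
        have hmem : g * (t : G) * g⁻¹ ∈ φ.ker := (inferInstance : φ.ker.Normal).conj_mem _ t.2 g
        -- kernel = {1, t}
        have hkt : ∀ k : ↥φ.ker, k = 1 ∨ k = t := by
          intro k
          have hcard : Nat.card ↥(zpowers t) = 2 := by rw [Nat.card_zpowers, ht]
          have htop : zpowers t = ⊤ := by
            apply Subgroup.eq_top_of_card_eq
            rw [hcard, hK2]
          have hk : k ∈ zpowers t := htop ▸ Subgroup.mem_top k
          rw [Subgroup.mem_zpowers_iff] at hk
          obtain ⟨n, rfl⟩ := hk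
          have ht2 : t ^ (2 : ℤ) = 1 := by
            have := pow_orderOf_eq_one t
            rw [ht] at this
            exact_mod_cast this
          rcases Int.emod_two_eq_zero_or_one n with h0 | h1
          · left
            have : n = 2 * (n / 2) := by omega
            rw [this, zpow_mul, ht2, one_zpow]
          · right
            have : n = 2 * (n / 2) + 1 := by omega
            rw [this, zpow_add, zpow_mul, ht2, one_zpow, one_mul, zpow_one]
        rcases hkt ⟨_, hmem⟩ with h1 | h1
        · exfalso
          have h2 : g * (t : G) * g⁻¹ = 1 := congrArg Subtype.val h1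
          have h3 : (t : G) = 1 := by
            have : (t : G) = g⁻¹ * (g * (t : G) * g⁻¹) * g := by group
            rw [this, h2]; group
          rw [h3, orderOf_one] at ht'
          omega
        · exact congrArg Subtype.val h1
      have hc : (t : G) * x = x * (t : G) := by
        have := hcent x
        calc (t : G) * x = (x * (t : G) * x⁻¹) * x := by rw [this]
          _ = x * (t : G) := by group
      exact no_comm h6 _ _ ht' hx hc
    have hbij : Function.Bijective φ := by
      rw [Nat.bijective_iff_injective_and_card]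
      refine ⟨hinj, ?_⟩
      rw [Nat.card_perm, h4, h]; rfl
    have e1 : G ≃* Equiv.Perm (Sylow 3 G) := MulEquiv.ofBijective φ hbij
    have e2 : Sylow 3 G ≃ Fin 4 := Finite.equivFinOfCardEq h4
    exact ⟨e1.trans e2.permCongrHom⟩

end Cfsg.Agent.S1012
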