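import Cfsg.Statements.S1007
import Cfsg.Agent.Lib.Helper17.Order168Klein

set_option autoImplicit false
open Cfsg

namespace Cfsg.Agent.S1007

open Cfsg.Agent.Lib.Helper17 Subgroup MulAction

/-- A Sylow 2-subgroup normalizes each of its Klein four-subgroups. -/
theorem sylow_le_normalizer_klein {G : Type*} [Group G] [Finite G] [IsSimpleGroup G]
    (h : Nat.card G = 168) (T : Sylow 2 G) (U : Subgroup G) [hU : IsKleinFour ↥U]
    (hUT : U ≤ (T : Subgroup G)) : (T : Subgroup G) ≤ normalizer (U : Set G) := by
  rw [← normal_subgroupOf_iff_le_normalizer hUT]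
  apply normal_of_index_eq_two
  have h1 := card_inf_mul_relIndex U (T : Subgroup G)
  rw [inf_of_le_left hUT, hU.card_four, O168.card_sylow2 h T] at h1
  show U.relIndex (T : Subgroup G) = 2
  omega

/-- A Sylow 2-subgroup contains exactly two Klein four-subgroups. -/
theorem card_klein_in_sylow {G : Type*} [Group G] [Finite G] [IsSimpleGroup G]
    (h : Nat.card G = 168) (T : Sylow 2 G) :
    Nat.card {U : Subgroup G // U ≤ (T : Subgroup G) ∧ IsKleinFour ↥U} = 2 := by
  classical
  have hT := O168.card_sylow2 h T
  obtain ⟨v, hvT, hvo, -⟩ := O168.exists_order_four h T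
  have hVcard : Nat.card ↥(zpowers v) = 4 := by rw [Nat.card_zpowers, hvo]
  obtain ⟨s, hsT, hsV⟩ : ∃ s ∈ (T : Subgroup G), s ∉ zpowers v := by
    by_contra hcon
    push Not at hcon
    have hle : (T : Subgroup G) ≤ zpowers v := hcon
    have := Subgroup.card_le_of_le hle
    omega
  obtain ⟨hss, hsv⟩ := O168.outside_props h T v hvT hvo s hsT hsV
  have hsinv : s⁻¹ = s := inv_eq_of_mul_eq_one_right hss
  have hv4 : v ^ 4 = 1 := by
    have := pow_orderOf_eq_one v
    rwa [hvo] at this
  have hv2 : v * v ≠ 1 := by
    intro h2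
    have := orderOf_dvd_of_pow_eq_one (show v ^ 2 = 1 by rw [pow_two]; exact h2)
    rw [hvo] at this
    norm_num at this
  -- conjugation by s inverts powers of v
  have hconj : ∀ k : ℕ, s * v ^ k * s = (v ^ k)⁻¹ := by
    intro k
    have h1 : s * v ^ k * s⁻¹ = (s * v * s⁻¹) ^ k := (conj_pow).symm
    rw [hsv, inv_pow, hsinv] at h1
    exact h1
  have hsvT : s * v ∈ (T : Subgroup G) := Subgroup.mul_mem _ hsT hvT
  have hsvV : s * v ∉ zpowers v := by
    intro hmem
    apply hsV
    have : s = s * v * v⁻¹ := by group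
    rw [this]
    exact Subgroup.mul_mem _ hmem (Subgroup.inv_mem _ (mem_zpowers v))
  have hK1 := O168.isKleinFour_inf_centralizer h T v hvT hvo s hsT hsV
  have hK2 := O168.isKleinFour_inf_centralizer h T v hvT hvo (s * v) hsvT hsvV
  rw [Nat.card_eq_two_iff]
  refine ⟨⟨(T : Subgroup G) ⊓ centralizer ({s} : Set G), inf_le_left, hK1⟩,
    ⟨(T : Subgroup G) ⊓ centralizer ({s * v} : Set G), inf_le_left, hK2⟩, ?_, ?_⟩
  · intro heq
    have heq' : (T : Subgroup G) ⊓ centralizer ({s} : Set G) =
        (T : Subgroup G) ⊓ centralizer ({s * v} : Set G) := congrArg Subtype.val heq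
    have hs1 : s ∈ (T : Subgroup G) ⊓ centralizer ({s} : Set G) := by
      refine Subgroup.mem_inf.mpr ⟨hsT, ?_⟩
      rw [mem_centralizer_iff]
      intro y hy
      rw [Set.mem_singleton_iff] at hy
      rw [hy]
    rw [heq'] at hs1
    have h1 := mem_centralizer_iff.mp (Subgroup.mem_inf.mp hs1).2 (s * v) (Set.mem_singleton _)
    -- s * v * s = s * (s * v)
    have h2 : s * v * s = v⁻¹ := by
      have := hconj 1
      rwa [pow_one] at this
    have h3 : s * (s * v) = v := by rw [← mul_assoc, hss, one_mul]
    rw [h2, h3] at h1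
    apply hv2
    calc v * v = v * v⁻¹ := by rw [h1]
      _ = 1 := mul_inv_cancel v
  · ext ⟨U, hUT, hUK⟩
    simp only [Set.mem_insert_iff, Set.mem_singleton_iff, Set.mem_univ, iff_true]
    haveI := hUK
    obtain ⟨a, haU, haV⟩ := O168.klein_exists_outside v hvo U
    have hUa := O168.klein_eq_inf_centralizer h T v hvT hvo U hUT a haU haV
    have haT : a ∈ (T : Subgroup G) := hUT haU
    obtain ⟨haa, hav⟩ := O168.outside_props h T v hvT hvo a haT haV
    -- s⁻¹ * a ∈ ⟨v⟩
    have hw : s⁻¹ * a ∈ zpowers v := by
      rw [← O168.centralizer_eq_zpowers h v hvo, mem_centralizer_iff]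
      intro y hy
      rw [Set.mem_singleton_iff] at hy
      rw [hy]
      -- v * (s⁻¹ * a) = s⁻¹ * a * v
      have h1 : a * v = v⁻¹ * a := by
        calc a * v = a * v * a⁻¹ * a := by group
          _ = v⁻¹ * a := by rw [hav]
      have h2 : s * v = v⁻¹ * s := by
        calc s * v = s * v * s⁻¹ * s := by group
          _ = v⁻¹ * s := by rw [hsv]
      have h3 : v * s = s * v⁻¹ := by
        calc v * s = v * (s * v) * v⁻¹ := by group
          _ = v * (v⁻¹ * s) * v⁻¹ := by rw [h2]
          _ = s * v⁻¹ := by group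
      rw [hsinv]
      calc v * (s * a) = v * s * a := by group
        _ = s * v⁻¹ * a := by rw [h3]
        _ = s * (v⁻¹ * a) := by group
        _ = s * (a * v) := by rw [h1]
        _ = s * a * v := by group
    have hfin : IsOfFinOrder v := isOfFinOrder_of_finite v
    rw [hfin.mem_zpowers_iff_mem_range_orderOf, hvo] at hw
    simp only [Finset.mem_image, Finset.mem_range] at hw
    obtain ⟨k, hk, hkw⟩ := hw
    have hak : a = s * v ^ k := by
      rw [hkw, hsinv, ← mul_assoc, hss, one_mul]
    -- the two reference subgroups absorb the other cosets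
    have key1 : ∀ b : G, b ∈ (T : Subgroup G) → b ∉ zpowers v → s * b = b * s →
        (T : Subgroup G) ⊓ centralizer ({b} : Set G) =
          (T : Subgroup G) ⊓ centralizer ({s} : Set G) := by
      intro b hbT hbV hbs
      haveI := hK1
      symm
      apply O168.klein_eq_inf_centralizer h T v hvT hvo _ inf_le_left b _ hbV
      refine Subgroup.mem_inf.mpr ⟨hbT, ?_⟩
      rw [mem_centralizer_iff]
      intro y hy
      rw [Set.mem_singleton_iff] at hy
      rw [hy]
      exact hbs
    have key2 : ∀ b : G, b ∈ (T : Subgroup G) → b ∉ zpowers v → s * v * b = b * (s * v) →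
        (T : Subgroup G) ⊓ centralizer ({b} : Set G) =
          (T : Subgroup G) ⊓ centralizer ({s * v} : Set G) := by
      intro b hbT hbV hbs
      haveI := hK2
      symm
      apply O168.klein_eq_inf_centralizer h T v hvT hvo _ inf_le_left b _ hbV
      refine Subgroup.mem_inf.mpr ⟨hbT, ?_⟩
      rw [mem_centralizer_iff]
      intro y hy
      rw [Set.mem_singleton_iff] at hy
      rw [hy]
      exact hbs
    interval_cases k
    · left
      apply Subtype.ext
      show U = _
      rw [hUa, hak, pow_zero, mul_one]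
    · right
      apply Subtype.ext
      show U = _
      rw [hUa, hak, pow_one]
    · left
      apply Subtype.ext
      show U = _
      rw [hUa]
      apply key1 a haT haV
      rw [hak]
      -- s * (s * v^2) = s * v^2 * s
      have h1 := hconj 2
      have h2 : (v ^ 2)⁻¹ = v ^ 2 := by
        apply inv_eq_of_mul_eq_one_right
        rw [← pow_add]
        exact hv4
      rw [h1, h2, ← mul_assoc, hss, one_mul]
    · right
      apply Subtype.ext
      show U = _
      rw [hUa]
      apply key2 a haT haV
      rw [hak]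
      -- s * v * (s * v^3) = s * v^3 * (s * v)
      have h1 := hconj 3
      have h0 := hconj 1
      rw [pow_one] at h0
      have h3 : (v ^ 3)⁻¹ = v := by
        apply inv_eq_of_mul_eq_one_right
        rw [← pow_succ]
        exact hv4
      have h4 : v⁻¹ = v ^ 3 := by
        apply inv_eq_of_mul_eq_one_right
        rw [← pow_succ']
        exact hv4
      calc s * v * (s * v ^ 3) = s * v * s * v ^ 3 := by group
        _ = v⁻¹ * v ^ 3 := by rw [h0]
        _ = v ^ 3 * v ^ 3 := by rw [h4]
        _ = v * v := by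
          have : v ^ 3 * v ^ 3 = v ^ 4 * (v * v) := by
            simp only [pow_succ, pow_zero, one_mul, mul_assoc]
          rw [this, hv4, one_mul]
        _ = s * v ^ 3 * s * v := by rw [h1, h3]
        _ = s * v ^ 3 * (s * v) := by group

/-- Let G be a simple group of order 168 and T a Sylow 2-subgroup. Then T contains exactly two subgroups that are Klein four-groups; they are not conjugate in G; and the normalizer of every Klein four-subgroup of G is isomorphic to the symmetric group of degree 4. -/
theorem result {G : Type*} [Group G] [Finite G] [IsSimpleGroup G] (h : Nat.card G = 168) (T : Sylow 2 G) : Nat.card {U : Subgroup G // U ≤ (T : Subgroup G) ∧ IsKleinFour ↥U} = 2 ∧ (∀ U W : Subgroup G, U ≤ (T : Subgroup G) → W ≤ (T : Subgroup G) → IsKleinFour ↥U → IsKleinFour ↥W → U ≠ W → ∀ g : G, U.map (MulAut.conj g).toMonoidHom ≠ W) ∧ ∀ U : Subgroup G, IsKleinFour ↥U → Nonempty (↥(Subgroup.normalizer (U : Set G)) ≃* Equiv.Perm (Fin 4)) := by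
  haveI : Fact (Nat.Prime 2) := ⟨Nat.prime_two⟩
  refine ⟨card_klein_in_sylow h T, ?_, ?_⟩
  · intro U W hUT hWT hUK hWK hne g hmap
    haveI := hUK
    haveI := hWK
    have hTU := sylow_le_normalizer_klein h T U hUT
    have hTW := sylow_le_normalizer_klein h T W hWT
    -- membership in W
    have hW : ∀ x : G, x ∈ W ↔ g⁻¹ * x * g ∈ U := by
      intro x
      rw [← hmap, Subgroup.mem_map]
      constructor
      · rintro ⟨u, hu, rfl⟩
        have : g⁻¹ * ((MulAut.conj g).toMonoidHom u) * g = u := by
          show g⁻¹ * (g * u * g⁻¹) * g = u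
          group
        rw [this]
        exact hu
      · intro hx
        refine ⟨g⁻¹ * x * g, hx, ?_⟩
        show g * (g⁻¹ * x * g) * g⁻¹ = x
        group
    -- g • T normalizes W
    have hgTW : ((g • T : Sylow 2 G) : Subgroup G) ≤ normalizer (W : Set G) := by
      intro x hx
      rw [mem_smul_sylow_iff] at hx
      have ht := hTU hx
      rw [mem_normalizer_iff] at ht ⊢
      intro w
      rw [hW w, hW (x * w * x⁻¹), ht (g⁻¹ * w * g)]
      have : g⁻¹ * x * g * (g⁻¹ * w * g) * (g⁻¹ * x * g)⁻¹ = g⁻¹ * (x * w * x⁻¹) * g := by group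
      rw [this]
    -- conjugate inside N(W)
    obtain ⟨n, hn⟩ := MulAction.exists_smul_eq ↥(normalizer (W : Set G))
      ((g • T : Sylow 2 G).subtype hgTW) (T.subtype hTW)
    rw [Sylow.smul_subtype] at hn
    have hn' : (n : G) • (g • T : Sylow 2 G) = T := by
      have := Sylow.subtype_injective hn
      exact this
    rw [← mul_smul] at hn'
    have hngT : (n : G) * g ∈ (T : Subgroup G) := by
      rw [← O168.normalizer_sylow2 h T]
      exact Sylow.smul_eq_iff_mem_normalizer.mp hn'
    have hngU := hTU hngT
    apply hne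
    ext x
    have hninv : (n : G)⁻¹ ∈ normalizer (W : Set G) := Subgroup.inv_mem _ n.2
    have h1 := (mem_normalizer_iff.mp hninv) x
    have h2 := (mem_normalizer_iff.mp (Subgroup.inv_mem _ hngU)) x
    rw [h2, h1, hW]
    have : g⁻¹ * ((n : G)⁻¹ * x * ((n : G)⁻¹)⁻¹) * g =
        ((n : G) * g)⁻¹ * x * (((n : G) * g)⁻¹)⁻¹ := by group
    rw [this]
  · intro U hUK
    haveI := hUK
    exact O168.normalizer_klein_equiv h U

end Cfsg.Agent.S1007
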