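import Cfsg.Statements.S2161
import Cfsg.Agent.Lib.Helper18.ChevPermRoot
import Cfsg.Agent.Lib.Helper36.ChevGL

set_option autoImplicit false
open Cfsg

namespace Cfsg.Agent.S2161

open Cfsg.Lie Cfsg.Agent.Lib.Helper36 Cfsg.Agent.Lib.Helper18

section
variable {F : Type*} [Field F] (D : Cfsg.Lie.ChevalleyDatum)
  (hD : D ∈ [chevG2, chevB2, chevD4, chevF4, chevE6, chevE7, chevE8])

/-- root element in the Chevalley group -/
def xG (r : ℕ) (t : F) : ↥(D.group F) := ⟨xGL D hD F r t, xGL_mem_group D hD F r t⟩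

/-- `n_{p_i}(1)` in the Chevalley group -/
def nG (i : ℕ) : ↥(D.group F) :=
  xG D hD (D.simple i) (1 : F) * (xG D hD (D.neg (D.simple i)) (-(1 : F)⁻¹) * xG D hD (D.simple i) (1 : F))

theorem nG_coe (i : ℕ) : ((nG (F := F) D hD i : ↥(D.group F)) : GL D.Idx F) = nGL D hD F (D.simple i) 1 := by
  unfold nG xG nGL wordGL ChevalleyDatum.nWord
  simp [mul_assoc]

theorem xG_reflect (i r : ℕ) (hi : i < D.rank) (hr : r < D.nroots) (t : F) :
    xG D hD (D.reflectRoot i r) t =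
      nG D hD i * xG D hD r (((nEta D i r : ℤ) : F) * t) * (nG D hD i)⁻¹ := by
  apply Subtype.ext
  rw [Subgroup.coe_mul, Subgroup.coe_mul, Subgroup.coe_inv, nG_coe]
  exact xGL_reflect D hD F i r hi hr t

end

theorem result {F : Type*} [Field F] (D : Cfsg.Lie.ChevalleyDatum) (hD : D ∈ [Cfsg.Lie.chevD4, Cfsg.Lie.chevE6])
    (π : Equiv.Perm (Fin D.rank)) (hπ : D.IsDiagramSymmetry π) (φ : ↥(D.group F) ≃* ↥(D.group F))
    (hφ : ∀ (g : ↥(D.group F)) (i : Fin D.rank) (t : F),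
      (((g : GL D.Idx F) : Matrix D.Idx D.Idx F) = D.x F (D.simple i) t →
        ((φ g : GL D.Idx F) : Matrix D.Idx D.Idx F) = D.x F (D.simple (π i)) t) ∧
      (((g : GL D.Idx F) : Matrix D.Idx D.Idx F) = D.x F (D.neg (D.simple i)) t →
        ((φ g : GL D.Idx F) : Matrix D.Idx D.Idx F) = D.x F (D.neg (D.simple (π i))) t))
    (r : ℕ) (hr : r < D.nroots) :
    ∃ ε : F, (ε = 1 ∨ ε = -1) ∧ ∀ (g : ↥(D.group F)) (t : F),
      ((g : GL D.Idx F) : Matrix D.Idx D.Idx F) = D.x F r t →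
        ((φ g : GL D.Idx F) : Matrix D.Idx D.Idx F) = D.x F (D.permRoot π r) (ε * t) := by
  have h7 := two_sub_seven hD
  -- images of the fundamental root elements
  have hpos : ∀ (i : Fin D.rank) (t : F), φ (xG D h7 (D.simple i) t) = xG D h7 (D.simple (π i)) t := by
    intro i t
    apply Subtype.ext
    apply Units.ext
    exact (hφ (xG D h7 (D.simple i) t) i t).1 rfl
  have hneg : ∀ (i : Fin D.rank) (t : F),
      φ (xG D h7 (D.neg (D.simple i)) t) = xG D h7 (D.neg (D.simple (π i))) t := by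
    intro i t
    apply Subtype.ext
    apply Units.ext
    exact (hφ (xG D h7 (D.neg (D.simple i)) t) i t).2 rfl
  have hn : ∀ i : Fin D.rank, φ (nG D h7 i) = nG (F := F) D h7 (π i) := by
    intro i
    unfold nG
    rw [map_mul, map_mul, hpos, hneg]
  -- the induction
  have key : ∀ r < D.nroots, ∃ s, PermRel D π r s ∧ ∃ ε : F, (ε = 1 ∨ ε = -1) ∧
      ∀ t : F, φ (xG D h7 r t) = xG D h7 s (ε * t) := by
    apply root_induction D h7
    · intro i hi
      refine ⟨D.simple (π ⟨i, hi⟩), permRel_simple D hD π ⟨i, hi⟩, 1, Or.inl rfl, fun t => ?_⟩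
      rw [one_mul]
      exact hpos ⟨i, hi⟩ t
    · rintro i hi r hr ⟨s, hs, ε, hε, hx⟩
      refine ⟨D.reflectRoot (π ⟨i, hi⟩) s, permRel_reflect D hD π hπ ⟨i, hi⟩ r s hr hs,
        ((nEta D (π ⟨i, hi⟩) s : ℤ) : F) * ε * ((nEta D i r : ℤ) : F), ?_, fun t => ?_⟩
      · obtain ⟨-, -, -, -, h1⟩ := chkN2_spec D (chkN2_all D h7) i hi
        obtain ⟨-, -, -, -, h2⟩ := chkN2_spec D (chkN2_all D h7) (π ⟨i, hi⟩) (π ⟨i, hi⟩).isLt
        obtain ⟨-, -, e1, -⟩ := h1 r hr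
        obtain ⟨-, -, e2, -⟩ := h2 s hs.1
        rcases e1 with e1 | e1 <;> rcases e2 with e2 | e2 <;> rcases hε with hε | hε <;>
          rw [e1, e2, hε] <;> simp
      · rw [xG_reflect D h7 i r hi hr, map_mul, map_mul, map_inv, hx, hn ⟨i, hi⟩,
          xG_reflect D h7 (π ⟨i, hi⟩) s (π ⟨i, hi⟩).isLt hs.1]
        congr 3
        obtain ⟨-, -, -, -, h2⟩ := chkN2_spec D (chkN2_all D h7) (π ⟨i, hi⟩) (π ⟨i, hi⟩).isLt
        obtain ⟨-, -, e2, -⟩ := h2 s hs.1
        rcases e2 with e2 | e2 <;> rw [e2] <;> push_cast <;> ring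
  obtain ⟨s, hs, ε, hε, hx⟩ := key r hr
  refine ⟨ε, hε, fun g t hg => ?_⟩
  have hg' : g = xG D h7 r t := by
    apply Subtype.ext
    apply Units.ext
    exact hg
  rw [hg', hx t, permRoot_eq D hD π r s hs]
  rfl

end Cfsg.Agent.S2161
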