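import Cfsg.Statements.S1039
import Cfsg.Agent.Lib.Helper36.ChevWeyl
import Cfsg.Agent.Lib.Helper18.CoxG2
import Cfsg.Agent.Lib.Helper18.CoxB2
import Cfsg.Agent.Lib.Helper18.CoxD4
import Cfsg.Agent.Lib.Helper18.CoxF4
import Cfsg.Agent.Lib.Helper18.CoxE6
import Cfsg.Agent.Lib.Helper18.CoxE7
import Cfsg.Agent.Lib.Helper18.CoxE8

set_option autoImplicit false
open Cfsg

namespace Cfsg.Agent.S1039

open Cfsg.Agent.Lib.Helper36 Cfsg.Agent.Lib.Helper18 Cfsg.Lie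

theorem cG2 : chkCartanA chevG2 2 CoxG2.A = true := by decide +kernel
theorem bG2 : ∀ i j : Fin 2, chkBraid chevG2 (CoxeterMatrix.G₂ i j) i j = true := by decide +kernel
theorem cB2 : chkCartanA chevB2 2 CoxB2.A = true := by decide +kernel
theorem bB2 : ∀ i j : Fin 2, chkBraid chevB2 (CoxeterMatrix.B 2 i j) i j = true := by decide +kernel
theorem cD4 : chkCartanA chevD4 4 CoxD4.A = true := by decide +kernel
theorem bD4 : ∀ i j : Fin 4, chkBraid chevD4 (coxeterD4 i j) i j = true := by decide +kernel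
theorem cF4 : chkCartanA chevF4 4 CoxF4.A = true := by decide +kernel
theorem bF4 : ∀ i j : Fin 4, chkBraid chevF4 (CoxeterMatrix.F₄ i j) i j = true := by decide +kernel
theorem cE6 : chkCartanA chevE6 6 CoxE6.A = true := by decide +kernel
theorem bE6 : ∀ i j : Fin 6, chkBraid chevE6 (CoxeterMatrix.E₆ i j) i j = true := by decide +kernel
theorem cE7 : chkCartanA chevE7 7 CoxE7.A = true := by decide +kernel
theorem bE7 : ∀ i j : Fin 7, chkBraid chevE7 (CoxeterMatrix.E₇ i j) i j = true := by decide +kernel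
theorem cE8 : chkCartanA chevE8 8 CoxE8.A = true := by decide +kernel
theorem bE8 : ∀ i j : Fin 8, chkBraid chevE8 (CoxeterMatrix.E₈ i j) i j = true := by decide +kernel

/-- `N/H ≅ W`: there is a surjective homomorphism from `N` onto the Coxeter group of the type (Mathlib's Coxeter matrix G₂, B₂, F₄, E₆, E₇, E₈, nodes numbered as the fundamental roots) with kernel `H`, mapping each `n_{p_i}` to the `i`-th simple reflection. -/
theorem result {F : Type*} [Field F]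
    (p : Cfsg.Lie.ChevalleyDatum × (Σ n : ℕ, CoxeterMatrix (Fin n)))
    (hp : p ∈ [(Cfsg.Lie.chevG2, ⟨2, CoxeterMatrix.G₂⟩), (Cfsg.Lie.chevB2, ⟨2, CoxeterMatrix.B 2⟩), (Cfsg.Lie.chevD4, ⟨4, Cfsg.Lie.coxeterD4⟩), (Cfsg.Lie.chevF4, ⟨4, CoxeterMatrix.F₄⟩),
      (Cfsg.Lie.chevE6, ⟨6, CoxeterMatrix.E₆⟩), (Cfsg.Lie.chevE7, ⟨7, CoxeterMatrix.E₇⟩), (Cfsg.Lie.chevE8, ⟨8, CoxeterMatrix.E₈⟩)]) :
    ∃ φ : ↥(p.1.monomialSubgroup F) →* p.2.2.Group, Function.Surjective φ ∧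
      φ.ker = (p.1.diagonalSubgroup F).subgroupOf (p.1.monomialSubgroup F) ∧
      ∀ (i : Fin p.2.1) (g : ↥(p.1.monomialSubgroup F)),
        ((g : GL p.1.Idx F) : Matrix p.1.Idx p.1.Idx F) = p.1.nMat F (p.1.simple i) 1 → φ g = p.2.2.simple i := by
  simp only [List.mem_cons, List.not_mem_nil, or_false] at hp
  rcases hp with rfl | rfl | rfl | rfl | rfl | rfl | rfl
  · exact weyl_equiv chevG2 (by simp) 2 rfl CoxeterMatrix.G₂ CoxG2.A CoxG2.hA CoxG2.rho_ker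
      (chkCartanA_spec _ _ _ cG2) bG2 F
  · exact weyl_equiv chevB2 (by simp) 2 rfl (CoxeterMatrix.B 2) CoxB2.A CoxB2.hA CoxB2.rho_ker
      (chkCartanA_spec _ _ _ cB2) bB2 F
  · exact weyl_equiv chevD4 (by simp) 4 rfl coxeterD4 CoxD4.A CoxD4.hA CoxD4.rho_ker
      (chkCartanA_spec _ _ _ cD4) bD4 F
  · exact weyl_equiv chevF4 (by simp) 4 rfl CoxeterMatrix.F₄ CoxF4.A CoxF4.hA CoxF4.rho_ker
      (chkCartanA_spec _ _ _ cF4) bF4 F
  · exact weyl_equiv chevE6 (by simp) 6 rfl CoxeterMatrix.E₆ CoxE6.A CoxE6.hA CoxE6.rho_ker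
      (chkCartanA_spec _ _ _ cE6) bE6 F
  · exact weyl_equiv chevE7 (by simp) 7 rfl CoxeterMatrix.E₇ CoxE7.A CoxE7.hA CoxE7.rho_ker
      (chkCartanA_spec _ _ _ cE7) bE7 F
  · exact weyl_equiv chevE8 (by simp) 8 rfl CoxeterMatrix.E₈ CoxE8.A CoxE8.hA CoxE8.rho_ker
      (chkCartanA_spec _ _ _ cE8) bE8 F

end Cfsg.Agent.S1039
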