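import Cfsg.Statements.S2326
import Cfsg.Agent.Lib.Helper36.ChevSylow

set_option autoImplicit false
open Cfsg

namespace Cfsg.Agent.S2326

open Cfsg.Agent.Lib.Helper36 Cfsg.Lie

/-- In a Chevalley group of type G₂, B₂, D₄, F₄, E₆, E₇ or E₈ over a finite field of characteristic p, the subgroup U generated by the positive root elements is a Sylow p-subgroup. -/
theorem result {F : Type*} [Field F] [Fintype F] (p : ℕ) [Fact p.Prime] [CharP F p] (D : Cfsg.Lie.ChevalleyDatum) (hD : D ∈ [Cfsg.Lie.chevG2, Cfsg.Lie.chevB2, Cfsg.Lie.chevD4, Cfsg.Lie.chevF4, Cfsg.Lie.chevE6, Cfsg.Lie.chevE7, Cfsg.Lie.chevE8]) :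
    ∃ P : Sylow p ↥(D.group F), (P : Subgroup ↥(D.group F)) = (D.posUnipotent F).subgroupOf (D.group F) := by
  have hp : p.Prime := Fact.out
  obtain ⟨n, -, hcard⟩ := FiniteField.card F p
  have hUG : D.posUnipotent F ≤ D.group F := posUnipotent_le_group D hD F
  -- the order of U
  have hU : Nat.card (D.posUnipotent F) = p ^ ((n : ℕ) * (D.nroots / 2)) := by
    rw [Cfsg.Agent.S1027.result (F := F) D hD, hcard, pow_mul]
  have hU' : Nat.card ((D.posUnipotent F).subgroupOf (D.group F)) = p ^ ((n : ℕ) * (D.nroots / 2)) := by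
    rw [← hU]
    exact Nat.card_congr (Subgroup.subgroupOfEquivOfLe hUG).toEquiv
  have hpg : IsPGroup p ((D.posUnipotent F).subgroupOf (D.group F)) := IsPGroup.of_card hU'
  -- the index is prime to p
  obtain ⟨P, hG, hP⟩ := card_group_mod D hD F
  have hpq : p ∣ Fintype.card F := by
    rw [hcard]
    exact dvd_pow_self p n.ne_zero
  have hP' : ¬ p ∣ P := by
    intro h
    have h1 : P ≡ 0 [MOD p] := (Nat.modEq_zero_iff_dvd).2 h
    have h2 : P ≡ 1 [MOD p] := hP.of_dvd hpq
    have h3 : (1 : ℕ) ≡ 0 [MOD p] := h2.symm.trans h1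
    rw [Nat.modEq_zero_iff_dvd, Nat.dvd_one] at h3
    exact hp.one_lt.ne' h3
  have hH' : ¬ p ∣ Nat.card (D.diagonalSubgroup F) := by
    intro h
    -- |H| divides (q-1)^rank
    have hd : Nat.card (D.diagonalSubgroup F) ∣ (Fintype.card F - 1) ^ D.rank := by
      simp only [List.mem_cons, List.not_mem_nil, or_false] at hD
      rcases hD with rfl | rfl | rfl | rfl | rfl | rfl | rfl
      · exact Dvd.intro_left _ (Cfsg.Agent.S1035.result (F := F) rfl (chevG2, 1) (by simp))
      · exact Dvd.intro_left _ (Cfsg.Agent.S1035.result (F := F) rfl (chevB2, Nat.gcd 2 (Fintype.card F - 1)) (by simp))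
      · exact Dvd.intro_left _ (Cfsg.Agent.S1035.result (F := F) rfl (chevD4, Nat.gcd 2 (Fintype.card F - 1) ^ 2) (by simp))
      · exact Dvd.intro_left _ (Cfsg.Agent.S1035.result (F := F) rfl (chevF4, 1) (by simp))
      · exact Dvd.intro_left _ (Cfsg.Agent.S1035.result (F := F) rfl (chevE6, Nat.gcd 3 (Fintype.card F - 1)) (by simp))
      · exact Dvd.intro_left _ (Cfsg.Agent.S1035.result (F := F) rfl (chevE7, Nat.gcd 2 (Fintype.card F - 1)) (by simp))
      · exact Dvd.intro_left _ (Cfsg.Agent.S1035.result (F := F) rfl (chevE8, 1) (by simp))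
    have h1 : p ∣ Fintype.card F - 1 := hp.dvd_of_dvd_pow (h.trans hd)
    have h2 : 1 ≤ Fintype.card F := Fintype.card_pos
    have h3 : p ∣ 1 := by
      have := (Nat.dvd_sub hpq h1)
      rwa [Nat.sub_sub_self h2] at this
    exact hp.one_lt.ne' (Nat.dvd_one.1 h3)
  have hidx : ¬ p ∣ ((D.posUnipotent F).subgroupOf (D.group F)).index := by
    intro h
    have h1 := Subgroup.index_mul_card ((D.posUnipotent F).subgroupOf (D.group F))
    rw [hG, hU', hU] at h1
    have h2 : ((D.posUnipotent F).subgroupOf (D.group F)).index = Nat.card (D.diagonalSubgroup F) * P := by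
      have hpos : 0 < p ^ ((n : ℕ) * (D.nroots / 2)) := pow_pos hp.pos _
      apply Nat.eq_of_mul_eq_mul_right hpos
      rw [h1]
      ring
    rw [h2] at h
    rcases (Nat.Prime.dvd_mul hp).1 h with h | h
    · exact hH' h
    · exact hP' h
  exact ⟨hpg.toSylow hidx, IsPGroup.toSylow_coe hpg hidx⟩

end Cfsg.Agent.S2326
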