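import Cfsg.Statements.S1078
import Cfsg.Agent.Lib.Helper18.StCenter
import Cfsg.Agent.Lib.Helper18.StTorus

set_option autoImplicit false
open Cfsg

namespace Cfsg.Agent.S1078

open Cfsg.Lie Cfsg.Agent.Lib.Helper36 Cfsg.Agent.Lib.Helper18

/-- For G₂, F₄, E₈ the presented group has trivial centre (the universal and adjoint groups coincide). -/
theorem result {K : Type*} [Field K] (D : Cfsg.Lie.ChevalleyDatum) (hD : D ∈ [Cfsg.Lie.chevG2, Cfsg.Lie.chevF4, Cfsg.Lie.chevE8]) :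
    Subgroup.center (D.SteinbergGroup K) = ⊥ := by
  have hD' : D ∈ [chevG2, chevB2, chevD4, chevF4, chevE6, chevE7, chevE8] := by
    simp only [List.mem_cons, List.not_mem_nil, or_false] at hD ⊢
    rcases hD with h | h | h <;> simp [h]
  have hinv : ∃ P' : Matrix (Fin D.rank) (Fin D.rank) ℤ, cartanMat D * P' = 1 ∧ P' * cartanMat D = 1 := by
    simp only [List.mem_cons, List.not_mem_nil, or_false] at hD
    rcases hD with rfl | rfl | rfl
    · exact ⟨_, cartanInv_G2⟩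
    · exact ⟨_, cartanInv_F4⟩
    · exact ⟨_, cartanInv_E8⟩
  obtain ⟨P', hP1, hP2⟩ := hinv
  have hrel : ∀ r ∈ D.steinbergRels K, FreeGroup.lift (genMap D hD' K) r = 1 := by
    rintro _ ((⟨r, t₁, t₂, -, rfl⟩ | ⟨r, s, t, u, hr, hs, hsr, hsn, rfl⟩) | ⟨r, t₁, t₂, hr, h1, h2, rfl⟩)
    · exact lift_R1 D hD' K r t₁ t₂
    · exact lift_R2 D hD' K r s hr hs hsr hsn t u
    · exact lift_R3 D hD' K r hr t₁ t₂ h1 h2
  set θ : D.SteinbergGroup K →* ↥(D.group K) := PresentedGroup.toGroup hrel with hθ_def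
  have hθ : ∀ (r : ℕ) (t : K), θ (PresentedGroup.mk (D.steinbergRels K) (D.stX r t)) = xGr D hD' K r t := by
    intro r t
    exact lift_stX D hD' K r t
  have hθ' : ∀ (r : ℕ) (t : K), r < D.nroots →
      ((θ (PresentedGroup.mk (D.steinbergRels K) (D.stX r t)) : GL D.Idx K) : Matrix D.Idx D.Idx K) = D.x K r t := by
    intro r t _
    rw [hθ r t]
    rfl
  have hsurj := surj_of_matching D hD' K _ θ (fun r t _ => hθ r t)
  have h1 : ∀ (r : ℕ) (t₁ t₂ : K), r < D.nroots →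
      D.stX r t₁ * D.stX r t₂ * (D.stX r (t₁ + t₂))⁻¹ ∈ D.steinbergRels K :=
    fun r t₁ t₂ hr => Or.inl (Or.inl ⟨r, t₁, t₂, hr, rfl⟩)
  have h2 : ∀ (r s : ℕ) (t u : K), r < D.nroots → s < D.nroots → s ≠ r → s ≠ D.neg r →
      (D.stX s u)⁻¹ * (D.stX r t)⁻¹ * D.stX s u * D.stX r t * (D.stWord (D.commWord K r s t u))⁻¹ ∈
        D.steinbergRels K :=
    fun r s t u hr hs hsr hsn => Or.inl (Or.inr ⟨r, s, t, u, hr, hs, hsr, hsn, rfl⟩)
  let S := presSys D hD' K (D.steinbergRels K) h1 h2 θ hθ'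
  have hmul : R3Simple S := by
    intro i hi t₁ t₂ ht₁ ht₂
    have hr : D.simple i < D.nroots := (isPosRoot_simple D hD' i hi).1
    have hmem : D.stH (D.simple i) t₁ * D.stH (D.simple i) t₂ * (D.stH (D.simple i) (t₁ * t₂))⁻¹ ∈
        D.steinbergRels K := Or.inr ⟨D.simple i, t₁, t₂, hr, ht₁, ht₂, rfl⟩
    have h := PresentedGroup.one_of_mem hmem
    rw [map_mul, map_mul, map_inv, mul_inv_eq_one] at h
    rw [← mk_stH D hD' K _ h1 h2 θ hθ' i t₁, ← mk_stH D hD' K _ h1 h2 θ hθ' i t₂,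
      ← mk_stH D hD' K _ h1 h2 θ hθ' i (t₁ * t₂)]
    exact h
  rw [eq_bot_iff]
  intro z hz
  rw [Subgroup.mem_bot]
  have hc : θ z ∈ Subgroup.center ↥(D.group K) := by
    rw [Subgroup.mem_center_iff] at hz ⊢
    intro y
    obtain ⟨w, rfl⟩ := hsurj y
    rw [← map_mul, ← map_mul, hz w]
  rw [center_group_eq_bot D hD' K, Subgroup.mem_bot] at hc
  have hπ : S.π z = 1 := by
    show (D.group K).subtype (θ z) = 1
    rw [hc, map_one]
  exact eq_one_of_π_eq_one S hmul P' hP1 hP2 z hπ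

end Cfsg.Agent.S1078
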