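import Cfsg.Statements.S1446
import Cfsg.Agent.Lib.Helper56.FrobApply

set_option autoImplicit false
open Cfsg

namespace Cfsg.Agent.S1446

open Cfsg.Agent.Lib.Helper56.FrobApply

/-- Let X be a finite group with subgroups K, R, M such that: K and R are nontrivial, K ∩ R = 1, R normalizes K, no non-identity element of R centralizes a non-identity element of K, K ⊔ R is solvable of odd order; M is nilpotent and nontrivial, normalized by K and by R, with order coprime to that of K ⊔ R, M ∩ C(K) = 1, and M ∩ C(x) = M ∩ C(R) for all non-identity x ∈ R. Then R has prime order p, #M = #(M ∩ C(R)) ^ p, and if M ∩ C(R) is cyclic then [K, K] centralizes M. -/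
theorem result {X : Type*} [Group X] [Finite X] (K R M : Subgroup X) (hK1 : K ≠ ⊥) (hR1 : R ≠ ⊥) (hKR : K ⊓ R = ⊥)
    (hRK : R ≤ Subgroup.normalizer (K : Set X)) (hfrob : ∀ r ∈ R, r ≠ 1 → K ⊓ Subgroup.centralizer ({r} : Set X) = ⊥)
    (hsolv : Group.IsSolvable ↥(K ⊔ R)) (hodd : Odd (Nat.card ↥(K ⊔ R)))
    (hM1 : M ≠ ⊥) (hMn : Group.IsNilpotent M) (hKM : K ≤ Subgroup.normalizer (M : Set X)) (hRM : R ≤ Subgroup.normalizer (M : Set X))
    (hcop : (Nat.card ↥(K ⊔ R)).Coprime (Nat.card M)) (hCK : M ⊓ Subgroup.centralizer (K : Set X) = ⊥)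
    (hpr : ∀ x ∈ R, x ≠ 1 → M ⊓ Subgroup.centralizer ({x} : Set X) = M ⊓ Subgroup.centralizer (R : Set X)) :
    (Nat.card R).Prime ∧ Nat.card M = Nat.card ↥(M ⊓ Subgroup.centralizer (R : Set X)) ^ Nat.card R ∧
      (IsCyclic ↥(M ⊓ Subgroup.centralizer (R : Set X)) → ⁅K, K⁆ ≤ Subgroup.centralizer (M : Set X)) := by
  have hUn : ∀ e ∈ R, ∀ u ∈ K, e * u * e⁻¹ ∈ K := by
    intro e he u hu
    exact (Subgroup.mem_normalizer_iff.mp (hRK he) u).mp hu
  have hfpf : ∀ e ∈ R, e ≠ 1 → ∀ u ∈ K, e * u = u * e → u = 1 := by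
    intro e he he1 u hu heu
    have h1 : u ∈ K ⊓ Subgroup.centralizer ({e} : Set X) := by
      refine ⟨hu, ?_⟩
      show u ∈ Subgroup.centralizer ({e} : Set X)
      rw [Subgroup.mem_centralizer_iff]
      intro h hh
      rw [Set.mem_singleton_iff] at hh
      rw [hh]; exact heu
    rw [hfrob e he he1] at h1
    exact Subgroup.mem_bot.mp h1
  have hHn : ∀ x ∈ K ⊔ R, ∀ h ∈ M, x * h * x⁻¹ ∈ M := by
    intro x hx h hh
    have : K ⊔ R ≤ Subgroup.normalizer (M : Set X) := sup_le hKM hRM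
    exact (Subgroup.mem_normalizer_iff.mp (this hx) h).mp hh
  haveI := hMn
  have hsolvM : Group.IsSolvable M := inferInstance
  have hcop' : Nat.Coprime (Nat.card M) (Nat.card ↥(K ⊔ R)) := hcop.symm
  -- part 2
  have hcardK : Nat.card ↥(M ⊓ Subgroup.centralizer (K : Set X)) = 1 := by
    rw [hCK]; exact Subgroup.card_bot
  have hcardKR : Nat.card ↥(M ⊓ Subgroup.centralizer ((K ⊔ R : Subgroup X) : Set X)) = 1 := by
    have : M ⊓ Subgroup.centralizer ((K ⊔ R : Subgroup X) : Set X) = ⊥ := by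
      rw [eq_bot_iff, ← hCK]
      exact inf_le_inf_left M (Subgroup.centralizer_le (by
        intro k hk; exact (le_sup_left : K ≤ K ⊔ R) hk))
    rw [this]; exact Subgroup.card_bot
  have h2 := frobenius_formula K R M hR1 hUn hfpf hHn hsolvM hcop'
  rw [hcardK, hcardKR, one_pow, one_mul, mul_one] at h2
  -- part 1
  have hRcard : Nat.card R ≠ 1 := fun h => hR1 (Subgroup.card_eq_one.mp h)
  obtain ⟨p, hp, hpd⟩ := Nat.exists_prime_and_dvd hRcard
  haveI : Fact p.Prime := ⟨hp⟩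
  obtain ⟨x, hx⟩ := exists_prime_orderOf_dvd_card' (G := R) p hpd
  have hx1 : (x : X) ≠ 1 := by
    intro h
    have : x = 1 := Subtype.ext h
    rw [this, orderOf_one] at hx
    exact hp.one_lt.ne hx
  have hxord : orderOf (x : X) = p := by rw [Subgroup.orderOf_coe, hx]
  set Z : Subgroup X := Subgroup.zpowers (x : X) with hZ
  have hZR : Z ≤ R := Subgroup.zpowers_le.mpr x.2
  have hZ1 : Z ≠ ⊥ := by
    intro h
    have : (x : X) ∈ Z := Subgroup.mem_zpowers _
    rw [h] at this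
    exact hx1 (Subgroup.mem_bot.mp this)
  have hKZ : K ⊔ Z ≤ K ⊔ R := sup_le_sup_left hZR K
  have hcopZ : Nat.Coprime (Nat.card M) (Nat.card ↥(K ⊔ Z)) :=
    Nat.Coprime.coprime_dvd_right (Subgroup.card_dvd_of_le hKZ) hcop'
  have h1 := frobenius_formula K Z M hZ1 (fun e he => hUn e (hZR he))
    (fun e he => hfpf e (hZR he)) (fun x hx => hHn x (hKZ hx)) hsolvM hcopZ
  have hcardKZ : Nat.card ↥(M ⊓ Subgroup.centralizer ((K ⊔ Z : Subgroup X) : Set X)) = 1 := by
    have : M ⊓ Subgroup.centralizer ((K ⊔ Z : Subgroup X) : Set X) = ⊥ := by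
      rw [eq_bot_iff, ← hCK]
      exact inf_le_inf_left M (Subgroup.centralizer_le (by
        intro k hk; exact (le_sup_left : K ≤ K ⊔ Z) hk))
    rw [this]; exact Subgroup.card_bot
  have hcentZ : M ⊓ Subgroup.centralizer (Z : Set X) = M ⊓ Subgroup.centralizer (R : Set X) := by
    rw [hZ, Subgroup.zpowers_eq_closure, Subgroup.centralizer_closure]
    exact hpr x x.2 hx1
  rw [hcardK, hcardKZ, one_pow, one_mul, mul_one, hcentZ, Nat.card_zpowers, hxord] at h1
  have hM2 : 2 ≤ Nat.card M := by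
    have := (Subgroup.one_lt_card_iff_ne_bot M).mpr hM1
    omega
  have hc2 : 2 ≤ Nat.card ↥(M ⊓ Subgroup.centralizer (R : Set X)) := by
    by_contra hlt
    have hle : Nat.card ↥(M ⊓ Subgroup.centralizer (R : Set X)) ≤ 1 := by omega
    have hpos : 0 < Nat.card ↥(M ⊓ Subgroup.centralizer (R : Set X)) := Nat.card_pos
    have : Nat.card ↥(M ⊓ Subgroup.centralizer (R : Set X)) = 1 := by omega
    rw [this, one_pow] at h1
    omega
  have hpR : p = Nat.card R := Nat.pow_right_injective hc2 (h1.symm.trans h2)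
  refine ⟨hpR ▸ hp, h2, ?_⟩
  intro hcyc
  exact frobenius_comm K R M hR1 hUn hfpf hHn hsolvM hcop' hcyc

end Cfsg.Agent.S1446
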