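import Cfsg.Statements.S1022
import Cfsg.Agent.Lib.Helper17.TwoLocal
import Cfsg.Agent.Lib.Helper17.FixedPoints
import Cfsg.Agent.Lib.Helper17.SylowConj

set_option autoImplicit false
open Cfsg

namespace Cfsg.Agent.S1022

open Cfsg.Agent.Lib.Helper17 Subgroup MulAction

theorem mod_of_mul_eq (n k N : ℕ) (h : n * k = N) (hn : n % 19 = 1) : k % 19 = N % 19 := by
  rw [← h, Nat.mul_mod, hn, one_mul, Nat.mod_mod]

/-- Divisors of `24192` that are `1` mod `19`. -/
theorem num19 (n : ℕ) (h1 : n ∣ 24192) (h2 : n % 19 = 1) : n = 1 ∨ n = 96 ∨ n = 1008 := by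
  obtain ⟨k, hk⟩ := h1
  have hkm := mod_of_mul_eq n k 24192 hk.symm h2
  norm_num at hkm
  by_cases hn : n = 1
  · left; exact hn
  · right
    have hn2 : 20 ≤ n := by omega
    have hk2 : k ≤ 1209 := by nlinarith
    obtain ⟨i, hi⟩ : ∃ i, k = 19 * i + 5 := ⟨k / 19, by omega⟩
    have hi2 : i ≤ 63 := by omega
    subst hi
    interval_cases i <;> omega

/-- Divisors of `3024` that are `1` mod `19`. -/
theorem num3024 (m : ℕ) (h1 : m ∣ 3024) (h2 : m % 19 = 1) : m = 1 ∨ m = 1008 := by
  obtain ⟨k, hk⟩ := h1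
  have hkm := mod_of_mul_eq m k 3024 hk.symm h2
  norm_num at hkm
  by_cases hn : m = 1
  · left; exact hn
  · right
    have hn2 : 20 ≤ m := by omega
    have hk2 : k ≤ 151 := by nlinarith
    obtain ⟨i, hi⟩ : ∃ i, k = 19 * i + 3 := ⟨k / 19, by omega⟩
    have hi2 : i ≤ 7 := by omega
    subst hi
    interval_cases i <;> omega

/-- Divisors of `1008` that are `1` mod `19`. -/
theorem num1008 (m : ℕ) (h1 : m ∣ 1008) (h2 : m % 19 = 1) : m = 1 ∨ m = 1008 := by
  obtain ⟨k, hk⟩ := h1
  have hkm := mod_of_mul_eq m k 1008 hk.symm h2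
  norm_num at hkm
  by_cases hn : m = 1
  · left; exact hn
  · right
    have hn2 : 20 ≤ m := by omega
    have hk2 : k ≤ 50 := by nlinarith
    obtain ⟨i, hi⟩ : ∃ i, k = 19 * i + 1 := ⟨k / 19, by omega⟩
    have hi2 : i ≤ 2 := by omega
    subst hi
    interval_cases i <;> omega

/-- The arithmetic behind the overgroup lemma. -/
theorem numOG (a m : ℕ) (ha : a ∣ 456) (h19 : 19 ∣ a) (h8 : 8 ∣ a) (hm : m % 19 = 1)
    (hd : a * m ∣ 459648) : m = 1 ∨ a * m = 459648 ∨ a * m = 153216 := by
  have h152 : 152 ∣ a := by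
    have : 8 * 19 ∣ a := Nat.Coprime.mul_dvd_of_dvd_of_dvd (by norm_num) h8 h19
    simpa using this
  obtain ⟨c, hc⟩ := h152
  subst hc
  have hc3 : c ∣ 3 := by
    have : 152 * c ∣ 152 * 3 := by simpa using ha
    exact Nat.dvd_of_mul_dvd_mul_left (by norm_num) this
  have hcle : c ≤ 3 := Nat.le_of_dvd (by norm_num) hc3
  interval_cases c
  · simp at hc3
  · have hm' : m ∣ 3024 := by
      have : 152 * m ∣ 152 * 3024 := by simpa using hd
      exact Nat.dvd_of_mul_dvd_mul_left (by norm_num) this
    rcases num3024 m hm' hm with h | h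
    · left; exact h
    · right; right; rw [h]
  · norm_num at hc3
  · have hm' : m ∣ 1008 := by
      have : 456 * m ∣ 456 * 1008 := by simpa using hd
      exact Nat.dvd_of_mul_dvd_mul_left (by norm_num) this
    rcases num1008 m hm' hm with h | h
    · left; exact h
    · right; left; rw [h]

/-- For a subgroup `P` of prime order `p` and `K ≤ N(P)`, the index `|K : C_K(P)|` divides
`p - 1`. -/
theorem relIndex_centralizer_dvd_pred {G : Type*} [Group G] [Finite G] {p : ℕ} (hp : p.Prime)
    (P : Subgroup G) (hP : Nat.card ↥P = p) (K : Subgroup G)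
    (hK : K ≤ normalizer (P : Set G)) :
    (centralizer (P : Set G)).relIndex K ∣ p - 1 := by
  have hnorm : ((centralizer (P : Set G)).subgroupOf (normalizer (P : Set G))).Normal := by
    rw [← normalizerMonoidHom_ker]
    exact MonoidHom.normal_ker _
  have h1 := relIndex_dvd_index_of_normal
    ((centralizer (P : Set G)).subgroupOf (normalizer (P : Set G)))
    (K.subgroupOf (normalizer (P : Set G)))
  rw [relIndex_subgroupOf hK] at h1
  exact dvd_trans h1 (relIndex_centralizer_normalizer_dvd_pred hp P hP)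

/-- A nontrivial `p`-subgroup has a nontrivial central element. -/
theorem exists_central_ne_one {G : Type*} [Group G] [Finite G] {p : ℕ} [Fact p.Prime]
    (S : Subgroup G) (hS : IsPGroup p ↥S) (hc : 1 < Nat.card ↥S) :
    ∃ z ∈ S, z ≠ 1 ∧ ∀ x ∈ S, z * x = x * z := by
  haveI : Nontrivial ↥S := by
    rw [← Finite.one_lt_card_iff_nontrivial]; exact hc
  haveI := hS.center_nontrivial
  obtain ⟨z', hz'⟩ := exists_ne (1 : ↥(center ↥S))
  refine ⟨((z' : ↥S) : G), (z' : ↥S).2, ?_, ?_⟩
  · intro h1
    apply hz'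
    apply Subtype.ext
    apply Subtype.ext
    exact h1
  · intro x hx
    have := Subgroup.mem_center_iff.mp z'.2 ⟨x, hx⟩
    exact (congrArg Subtype.val this).symm

variable {G : Type*} [Group G] [Finite G] [IsSimpleGroup G]

/-- **Overgroup lemma**: a proper subgroup containing `P` and a subgroup of order `8` of `N(P)`
lies in `N(P)`. -/
theorem le_normalizer_of_overgroup (hG : Nat.card G = 459648) (P : Sylow 19 G)
    (hN : Nat.card ↥(normalizer ((P : Subgroup G) : Set G)) = 456) (H : Subgroup G)
    (hPH : (P : Subgroup G) ≤ H)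
    (h8 : 8 ∣ Nat.card ↥(normalizer ((P : Subgroup G) : Set G) ⊓ H : Subgroup G))
    (hH : H ≠ ⊤) : H ≤ normalizer ((P : Subgroup G) : Set G) := by
  haveI : Fact (Nat.Prime 19) := ⟨by norm_num⟩
  have hP : Nat.card ↥(P : Subgroup G) = 19 := by
    have hG19 : Nat.card G = 19 ^ 1 * 24192 := by rw [hG]; norm_num
    simpa using card_sylow_of_card_eq P hG19 (by norm_num)
  have hm : (normalizer ((P : Subgroup G) : Set G)).relIndex H % 19 = 1 :=
    relIndex_normalizer_modEq_one P H hPH
  have hcard := card_inf_mul_relIndex (normalizer ((P : Subgroup G) : Set G)) H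
  have ha : Nat.card ↥(normalizer ((P : Subgroup G) : Set G) ⊓ H : Subgroup G) ∣ 456 := by
    rw [← hN]; exact Subgroup.card_dvd_of_le inf_le_left
  have h19 : 19 ∣ Nat.card ↥(normalizer ((P : Subgroup G) : Set G) ⊓ H : Subgroup G) := by
    have := Subgroup.card_dvd_of_le (le_inf (le_normalizer (H := (P : Subgroup G))) hPH)
    rwa [hP] at this
  have hd : Nat.card ↥(normalizer ((P : Subgroup G) : Set G) ⊓ H : Subgroup G) *
      (normalizer ((P : Subgroup G) : Set G)).relIndex H ∣ 459648 := by
    rw [hcard, ← hG]; exact Subgroup.card_subgroup_dvd_card H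
  rcases numOG _ _ ha h19 h8 hm hd with h | h | h
  · exact relIndex_eq_one.mp h
  · exfalso
    rw [hcard] at h
    exact hH (Subgroup.eq_top_of_card_eq H (by rw [h, hG]))
  · exfalso
    rw [hcard] at h
    have h1 := card_dvd_factorial_of_simple H hH
    have h2 := Subgroup.card_mul_index H
    rw [h, hG] at h2
    have h3 : H.index = 3 := by omega
    rw [h3, hG] at h1
    norm_num [Nat.factorial] at h1

theorem centralizer_ne_top (hnc : ¬ IsMulCommutative G) (t : G) (ht : t ≠ 1) :
    centralizer ({t} : Set G) ≠ ⊤ := by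
  intro htop
  have hcen : t ∈ center G := by
    rw [Subgroup.mem_center_iff]
    intro g
    have hg : g ∈ centralizer ({t} : Set G) := by rw [htop]; exact mem_top g
    exact mem_centralizer_iff.mp hg t (Set.mem_singleton t) |>.symm
  have hn : (center G).Normal := inferInstance
  rcases hn.eq_bot_or_eq_top with h | h
  · rw [h, Subgroup.mem_bot] at hcen
    exact ht hcen
  · apply hnc
    refine ⟨⟨fun a b => ?_⟩⟩
    have ha : a ∈ center G := by rw [h]; exact mem_top a
    exact (Subgroup.mem_center_iff.mp ha b).symm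

/-- The case of `96` Sylow `19`-subgroups. -/
theorem case96 (hG : Nat.card G = 459648) (hnc : ¬ IsMulCommutative G) (P : Sylow 19 G)
    (hP : Nat.card ↥(P : Subgroup G) = 19) (hn : Nat.card (Sylow 19 G) = 96) : False := by
  haveI : Fact (Nat.Prime 19) := ⟨by norm_num⟩
  haveI : Fact (Nat.Prime 7) := ⟨by norm_num⟩
  have hN : Nat.card ↥(normalizer ((P : Subgroup G) : Set G)) = 4788 := by
    have := card_normalizer_mul_card_sylow P
    rw [hn, hG] at this
    omega
  have h1 := relIndex_centralizer_normalizer_dvd_pred (by norm_num : Nat.Prime 19)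
    (P : Subgroup G) hP
  have h2 := card_inf_mul_relIndex (centralizer ((P : Subgroup G) : Set G))
    (normalizer ((P : Subgroup G) : Set G))
  have h7 : 7 ∣ Nat.card ↥(centralizer ((P : Subgroup G) : Set G) ⊓
      normalizer ((P : Subgroup G) : Set G) : Subgroup G) := by
    have h3 : 7 ∣ Nat.card ↥(centralizer ((P : Subgroup G) : Set G) ⊓
        normalizer ((P : Subgroup G) : Set G) : Subgroup G) *
        (centralizer ((P : Subgroup G) : Set G)).relIndex
          (normalizer ((P : Subgroup G) : Set G)) := by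
      rw [h2, hN]; norm_num
    have hcop : Nat.Coprime 7 ((centralizer ((P : Subgroup G) : Set G)).relIndex
        (normalizer ((P : Subgroup G) : Set G))) :=
      Nat.Coprime.coprime_dvd_right h1 (by norm_num)
    exact hcop.dvd_of_dvd_mul_right h3
  obtain ⟨y, hy⟩ := exists_prime_orderOf_dvd_card' (G := ↥(centralizer ((P : Subgroup G) : Set G) ⊓
      normalizer ((P : Subgroup G) : Set G) : Subgroup G)) 7 h7
  have hyo : orderOf (y : G) = 7 := by rw [Subgroup.orderOf_coe]; exact hy
  have hy1 : (y : G) ≠ 1 := by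
    intro h1'
    rw [h1', orderOf_one] at hyo
    omega
  have hcomm : ∀ a ∈ (P : Subgroup G), a * (y : G) = (y : G) * a := by
    intro a ha
    exact mem_centralizer_iff.mp (Subgroup.mem_inf.mp y.2).1 a ha
  have hf1 : Nat.card (fixedBy (Sylow 19 G) (y : G)) % 19 = 1 :=
    card_fixedBy_sylow_modEq_one P (y : G) hcomm
  have hpg : IsPGroup 7 ↥(zpowers (y : G)) := by
    apply IsPGroup.of_card (n := 1)
    rw [Nat.card_zpowers, hyo, pow_one]
  have hf2 : Nat.card (Sylow 19 G) % 7 = Nat.card (fixedBy (Sylow 19 G) (y : G)) % 7 := by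
    have := card_modEq_card_fixedPoints_subgroup (X := Sylow 19 G) (zpowers (y : G)) hpg
    rw [fixedPoints_zpowers_eq] at this
    exact this
  have hf3 := card_fixedBy_lt_of_simple (X := Sylow 19 G) (by rw [hn]; norm_num) (y : G) hy1
  rw [hn] at hf2 hf3
  omega

/-- The case of `1008` Sylow `19`-subgroups. -/
theorem case1008 (hG : Nat.card G = 459648) (hnc : ¬ IsMulCommutative G) (P : Sylow 19 G)
    (hP : Nat.card ↥(P : Subgroup G) = 19) (hn : Nat.card (Sylow 19 G) = 1008) : False := by
  haveI : Fact (Nat.Prime 19) := ⟨by norm_num⟩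
  haveI : Fact (Nat.Prime 2) := ⟨by norm_num⟩
  have hN : Nat.card ↥(normalizer ((P : Subgroup G) : Set G)) = 456 := by
    have := card_normalizer_mul_card_sylow P
    rw [hn, hG] at this
    omega
  -- a Sylow 2-subgroup of N(P)
  obtain ⟨Q⟩ : Nonempty (Sylow 2 ↥(normalizer ((P : Subgroup G) : Set G))) := inferInstance
  have hQ : Nat.card ↥(Q : Subgroup ↥(normalizer ((P : Subgroup G) : Set G))) = 8 := by
    have hN' : Nat.card ↥(normalizer ((P : Subgroup G) : Set G)) = 2 ^ 3 * 57 := by
      rw [hN]; norm_num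
    simpa using card_sylow_of_card_eq Q hN' (by norm_num)
  set S₂ : Subgroup G := (Q : Subgroup ↥(normalizer ((P : Subgroup G) : Set G))).map
    (normalizer ((P : Subgroup G) : Set G)).subtype with hS₂def
  have hS₂ : Nat.card ↥S₂ = 8 := by rw [hS₂def, Subgroup.card_subtype, hQ]
  have hS₂N : S₂ ≤ normalizer ((P : Subgroup G) : Set G) := Subgroup.map_subtype_le _
  have hS₂p : IsPGroup 2 ↥S₂ := by
    apply IsPGroup.of_card (n := 3)
    rw [hS₂]; norm_num
  obtain ⟨S, hS₂S⟩ := hS₂p.exists_le_sylow
  have hS : Nat.card ↥(S : Subgroup G) = 128 := by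
    have hG2 : Nat.card G = 2 ^ 7 * 3591 := by rw [hG]; norm_num
    simpa using card_sylow_of_card_eq S hG2 (by norm_num)
  -- S ∩ N(P) = S₂
  have hSN : (S : Subgroup G) ⊓ normalizer ((P : Subgroup G) : Set G) = S₂ := by
    symm
    apply Subgroup.eq_of_le_of_card_ge (le_inf hS₂S hS₂N)
    have d1 : Nat.card ↥((S : Subgroup G) ⊓ normalizer ((P : Subgroup G) : Set G) : Subgroup G)
        ∣ 128 := by rw [← hS]; exact Subgroup.card_dvd_of_le inf_le_left
    have d2 : Nat.card ↥((S : Subgroup G) ⊓ normalizer ((P : Subgroup G) : Set G) : Subgroup G)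
        ∣ 456 := by rw [← hN]; exact Subgroup.card_dvd_of_le inf_le_right
    have d3 : Nat.card ↥((S : Subgroup G) ⊓ normalizer ((P : Subgroup G) : Set G) : Subgroup G)
        ∣ 8 := by
      have := Nat.dvd_gcd d1 d2
      norm_num at this
      exact this
    rw [hS₂]
    exact Nat.le_of_dvd (by norm_num) d3
  have hlt : S₂ < (S : Subgroup G) := by
    apply lt_of_le_of_ne hS₂S
    intro heq
    rw [heq, hS] at hS₂
    omega
  -- overgroups
  have OG : ∀ H : Subgroup G, (P : Subgroup G) ≤ H → S₂ ≤ H → H ≠ ⊤ →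
      H ≤ normalizer ((P : Subgroup G) : Set G) := by
    intro H h1 h2 h3
    apply le_normalizer_of_overgroup hG P hN H h1 _ h3
    rw [← hS₂]
    exact Subgroup.card_dvd_of_le (le_inf hS₂N h2)
  -- V = S₂ ∩ C(P)
  set V : Subgroup G := S₂ ⊓ centralizer ((P : Subgroup G) : Set G) with hVdef
  have hVS₂ : V ≤ S₂ := inf_le_left
  have hk1 := relIndex_centralizer_dvd_pred (by norm_num : Nat.Prime 19) (P : Subgroup G) hP S₂ hS₂N
  have hk2 := card_inf_mul_relIndex (centralizer ((P : Subgroup G) : Set G)) S₂
  rw [inf_comm, ← hVdef, hS₂] at hk2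
  have hV48 : Nat.card ↥V = 4 ∨ Nat.card ↥V = 8 := by
    have hk8 : (centralizer ((P : Subgroup G) : Set G)).relIndex S₂ ∣ 8 := Dvd.intro_left _ hk2
    have hk18 : (centralizer ((P : Subgroup G) : Set G)).relIndex S₂ ∣ 18 := by
      simpa using hk1
    have hkg := Nat.dvd_gcd hk8 hk18
    have hk2' : (centralizer ((P : Subgroup G) : Set G)).relIndex S₂ ∣ 2 := by
      norm_num at hkg
      exact hkg
    have hkle := Nat.le_of_dvd (by norm_num) hk2'
    generalize (centralizer ((P : Subgroup G) : Set G)).relIndex S₂ = k at *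
    interval_cases k
    · simp at hk2'
    · right; omega
    · left; omega
  have hVC : ∀ t ∈ V, ∀ a ∈ (P : Subgroup G), a * t = t * a := by
    intro t ht a ha
    exact mem_centralizer_iff.mp (Subgroup.mem_inf.mp ht).2 a ha
  rcases hV48 with hV4 | hV8
  · -- main case
    have claimX : ∀ t : G, t ≠ 1 → (∀ a ∈ (P : Subgroup G), a * t = t * a) →
        (∀ x ∈ S₂, x * t = t * x) → ∀ s ∈ (S : Subgroup G), s * t = t * s → s ∈ S₂ := by
      intro t ht1 hPt hSt s hsS hst
      have hH := OG (centralizer ({t} : Set G))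
        (by
          intro a ha
          rw [mem_centralizer_iff]
          intro y hy
          rw [Set.mem_singleton_iff] at hy
          rw [hy]
          exact (hPt a ha).symm)
        (by
          intro x hx
          rw [mem_centralizer_iff]
          intro y hy
          rw [Set.mem_singleton_iff] at hy
          rw [hy]
          exact (hSt x hx).symm)
        (centralizer_ne_top hnc t ht1)
      have hsC : s ∈ centralizer ({t} : Set G) := by
        rw [mem_centralizer_iff]
        intro y hy
        rw [Set.mem_singleton_iff] at hy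
        rw [hy]
        exact hst.symm
      have : s ∈ (S : Subgroup G) ⊓ normalizer ((P : Subgroup G) : Set G) :=
        Subgroup.mem_inf.mpr ⟨hsS, hH hsC⟩
      rw [hSN] at this
      exact this
    have hidx : Nat.card ↥S₂ = 2 * Nat.card ↥V := by rw [hS₂, hV4]
    have hmul := mul_mem_iff_of_card_two_mul S₂ V hVS₂ hidx
    have hVab : ∀ a ∈ V, ∀ b ∈ V, a * b = b * a :=
      comm_of_card_prime_pow_le_two (p := 2) (e := 2) le_rfl V (by rw [hV4]; norm_num)
    -- S₂ is abelian
    have hab : ∀ x ∈ S₂, ∀ y ∈ S₂, x * y = y * x := by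
      by_cases hZ : ∀ c ∈ S₂, (∀ x ∈ S₂, c * x = x * c) → c ∈ V
      · exfalso
        obtain ⟨t0, ht0S₂, ht01, ht0c⟩ := exists_central_ne_one S₂ hS₂p (by rw [hS₂]; norm_num)
        have ht0V := hZ t0 ht0S₂ ht0c
        have X0 := claimX t0 ht01 (hVC t0 ht0V) (fun x hx => (ht0c x hx).symm)
        obtain ⟨z, hzS, hz1, hzc⟩ := exists_central_ne_one (S : Subgroup G) S.2
          (by rw [hS]; norm_num)
        have hzS₂ : z ∈ S₂ := X0 z hzS (hzc t0 (hS₂S ht0S₂))
        have hzV : z ∈ V := hZ z hzS₂ (fun x hx => hzc x (hS₂S hx))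
        have Xz := claimX z hz1 (hVC z hzV) (fun x hx => (hzc x (hS₂S hx)).symm)
        have hle : (S : Subgroup G) ≤ S₂ := fun s hs => Xz s hs (hzc s hs).symm
        have := Subgroup.card_le_of_le hle
        rw [hS, hS₂] at this
        omega
      · push Not at hZ
        obtain ⟨c, hcS₂, hcc, hcV⟩ := hZ
        have hcinv : c⁻¹ ∈ S₂ := S₂.inv_mem hcS₂
        have hcinvV : c⁻¹ ∉ V := fun h => hcV (by simpa using V.inv_mem h)
        have hdec : ∀ x ∈ S₂, ∃ v ∈ V, x = v ∨ x = c * v := by
          intro x hx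
          by_cases hxV : x ∈ V
          · exact ⟨x, hxV, Or.inl rfl⟩
          · refine ⟨c⁻¹ * x, ?_, Or.inr (by group)⟩
            rw [hmul _ _ hcinv hx]
            exact ⟨fun h => absurd h hcinvV, fun h => absurd h hxV⟩
        intro x hx y hy
        obtain ⟨v, hv, hxv⟩ := hdec x hx
        obtain ⟨w, hw, hyw⟩ := hdec y hy
        have hvw := hVab v hv w hw
        have hcv := hcc v (hVS₂ hv)
        have hcw := hcc w (hVS₂ hw)
        rcases hxv with hx' | hx' <;> rcases hyw with hy' | hy' <;> rw [hx', hy']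
        · exact hvw
        · calc v * (c * w) = (v * c) * w := by group
            _ = (c * v) * w := by rw [hcv]
            _ = c * (v * w) := by group
            _ = c * (w * v) := by rw [hvw]
            _ = c * w * v := by group
        · calc c * v * w = c * (v * w) := by group
            _ = c * (w * v) := by rw [hvw]
            _ = (c * w) * v := by group
            _ = (w * c) * v := by rw [hcw]
            _ = w * (c * v) := by group
        · calc c * v * (c * w) = c * (v * c) * w := by group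
            _ = c * (c * v) * w := by rw [hcv]
            _ = c * c * (v * w) := by group
            _ = c * c * (w * v) := by rw [hvw]
            _ = c * (c * w) * v := by group
            _ = c * (w * c) * v := by rw [hcw]
            _ = c * w * (c * v) := by group
    exact false_of_two_local (S : Subgroup G) S₂ V S.2 hlt hab hVS₂ hS₂ hV4
      (fun t ht ht1 s hs hst =>
        claimX t ht1 (hVC t ht) (fun x hx => hab x hx t (hVS₂ ht)) s hs hst)
  · -- S₂ centralizes P
    have hVeq : V = S₂ := Subgroup.eq_of_le_of_card_ge inf_le_left (by rw [hV8, hS₂])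
    have hS₂C : S₂ ≤ centralizer ((P : Subgroup G) : Set G) := by
      rw [← hVeq]; exact inf_le_right
    have hPH : (P : Subgroup G) ≤ normalizer (S₂ : Set G) := by
      intro a ha
      apply mem_normalizer_of_commute
      intro x hx
      exact (mem_centralizer_iff.mp (hS₂C hx) a ha).symm
    have hHtop : normalizer (S₂ : Set G) ≠ ⊤ := by
      intro htop
      have hnorm : S₂.Normal := normalizer_eq_top_iff.mp htop
      rcases hnorm.eq_bot_or_eq_top with h | h
      · rw [h, Subgroup.card_bot] at hS₂; omega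
      · rw [h, Subgroup.card_top, hG] at hS₂; omega
    have hH := OG (normalizer (S₂ : Set G)) hPH le_normalizer hHtop
    have h1 := lt_inf_normalizer_of_lt (S : Subgroup G) S₂ S.2 hlt
    obtain ⟨s, hs, hsn⟩ := SetLike.exists_of_lt h1
    apply hsn
    rw [← hSN]
    exact Subgroup.mem_inf.mpr ⟨(Subgroup.mem_inf.mp hs).1, hH (Subgroup.mem_inf.mp hs).2⟩

/-- No finite simple group has order 459648 = 2^7 * 3^3 * 7 * 19. -/
theorem result {G : Type*} [Group G] [Finite G] [IsSimpleGroup G] : Nat.card G ≠ 459648 := by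
  intro hG
  haveI : Fact (Nat.Prime 19) := ⟨by norm_num⟩
  have hnc : ¬ IsMulCommutative G := not_comm_of_simple_of_not_prime (by rw [hG]; norm_num)
  obtain ⟨P⟩ : Nonempty (Sylow 19 G) := inferInstance
  have hG19 : Nat.card G = 19 ^ 1 * 24192 := by rw [hG]; norm_num
  have hP : Nat.card ↥(P : Subgroup G) = 19 := by
    simpa using card_sylow_of_card_eq P hG19 (by norm_num)
  have hdvd : Nat.card (Sylow 19 G) ∣ 24192 := card_sylow_dvd_of_card_eq hG19 (by norm_num)
  have hmod : Nat.card (Sylow 19 G) % 19 = 1 := card_sylow_modEq_one 19 G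
  have hne1 : (P : Subgroup G) ≠ ⊥ := by
    intro h; rw [h, Subgroup.card_bot] at hP; omega
  have hne2 : (P : Subgroup G) ≠ ⊤ := by
    intro h; rw [h, Subgroup.card_top] at hP; omega
  have hlt := one_lt_card_sylow_of_simple P hne1 hne2
  rcases num19 _ hdvd hmod with h | h | h
  · omega
  · exact case96 hG hnc P hP h
  · exact case1008 hG hnc P hP h

end Cfsg.Agent.S1022
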