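import Cfsg.Statements.S1361
import Cfsg.Agent.S1350
import Cfsg.Agent.S1405
import Cfsg.Agent.S1417
import Cfsg.Agent.S1418
import Cfsg.Agent.Lib.Helper76.BGSigU3

set_option autoImplicit false
open Cfsg

namespace Cfsg.Agent.S1361

/-- Let G be a minimal simple group of odd order and M a maximal subgroup with standard factorisation M = K U M_σ. If X is a nontrivial subgroup of U centralizing some non-identity element of M_σ, then C_G(X) ≤ M and M is the unique maximal subgroup of G containing C_G(X). -/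
theorem result {G : Type*} [Group G] [Finite G] (hG : Cfsg.IsMinSimpleOddOrder G)
    (M : Subgroup G) (hM : IsCoatom M) (K U : Subgroup G) (hKU : Cfsg.IsSigmaDecomposition M K U) (X : Subgroup G) (hXU : X ≤ U) (hX : X ≠ ⊥)
    (hXc : Cfsg.sigmaCore M ⊓ Subgroup.centralizer (X : Set G) ≠ ⊥) :
    Subgroup.centralizer (X : Set G) ≤ M ∧ ∀ L : Subgroup G, IsCoatom L → Subgroup.centralizer (X : Set G) ≤ L → L = M := by
  have h50 := Cfsg.Agent.S1350.result hG M hM
  have h05 := Cfsg.Agent.S1405.result hG M hM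
  exact Cfsg.Agent.Lib.Helper76.BGSigU.cent_X hG.1 h50.1 h05.1 h05.2.2.1
    (fun p _ hp A hA =>
      ⟨fun P => ((Cfsg.Agent.S1417.result hG M hM p hp A hA).2.1 P).1,
        (Cfsg.Agent.S1417.result hG M hM p hp A hA).2.2.2.2.1⟩)
    (fun E hE p _ hp A hA =>
      ⟨(Cfsg.Agent.S1418.result hG M hM E hE p hp A hA).1,
        fun X hXA hc hne => ((Cfsg.Agent.S1418.result hG M hM E hE p hp A hA).2.2 X hXA hc hne).1⟩)
    hKU hXU hX hXc

end Cfsg.Agent.S1361
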