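import Cfsg.Statements.S0756
-- import your own Cfsg.Agent.* helpers here

set_option autoImplicit false
open Cfsg

namespace Cfsg.Agent.S0756


open Polynomial Module

theorem card_odd_of_two_ne_zero {F : Type*} [Field F] [Fintype F] (h2 : (2 : F) ≠ 0) :
    Fintype.card F % 2 = 1 := by
  apply FiniteField.odd_card_of_char_ne_two
  intro h
  apply h2
  have := ringChar.Nat.cast_ringChar (R := F)
  rw [h] at this
  exact_mod_cast this

theorem exists_sq_add_sq {F : Type*} [Field F] [Finite F] (h2 : (2 : F) ≠ 0) (a b c : F)
    (ha : a ≠ 0) (hb : b ≠ 0) : ∃ x y : F, a * x ^ 2 + b * y ^ 2 = c := by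
  have := Fintype.ofFinite F
  let f : F[X] := C a * X ^ 2
  let g : F[X] := C b * X ^ 2 - C c
  have hf : degree f = 2 := by
    simp only [f]
    rw [degree_C_mul_X_pow 2 ha]; rfl
  have hg : degree g = 2 := by
    simp only [g]
    rw [degree_sub_eq_left_of_degree_lt]
    · rw [degree_C_mul_X_pow 2 hb]; rfl
    · rw [degree_C_mul_X_pow 2 hb]
      exact lt_of_le_of_lt degree_C_le (by norm_num)
  obtain ⟨x, y, hxy⟩ := FiniteField.exists_root_sum_quadratic hf hg (card_odd_of_two_ne_zero h2)
  refine ⟨x, y, ?_⟩
  simp only [f, g, eval_mul, eval_C, eval_pow, eval_X, eval_sub] at hxy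
  linear_combination hxy

/-- in a finite field of odd characteristic, every nonzero element is a square or `α` times a square -/
theorem exists_sq_or_nonsq {F : Type*} [Field F] [Finite F] (α : F)
    (hα : ¬ IsSquare α) (a : F) (ha : a ≠ 0) : ∃ s : F, s ≠ 0 ∧ (a = s ^ 2 ∨ a = α * s ^ 2) := by
  classical
  have := Fintype.ofFinite F
  have hα0 : α ≠ 0 := by
    rintro rfl
    exact hα ⟨0, by simp⟩
  by_cases hsq : IsSquare a
  · obtain ⟨s, hs⟩ := hsq
    refine ⟨s, ?_, Or.inl (by rw [hs, pow_two])⟩
    rintro rfl
    apply ha
    simpa using hs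
  · have h1 : quadraticChar F a = -1 := (quadraticChar_neg_one_iff_not_isSquare).mpr hsq
    have h3 : quadraticChar F α = -1 := (quadraticChar_neg_one_iff_not_isSquare).mpr hα
    have h4 : quadraticChar F (a * α⁻¹) = 1 := by
      rw [map_mul, h1]
      have : quadraticChar F α⁻¹ = -1 := by
        have h5 : quadraticChar F α * quadraticChar F α⁻¹ = 1 := by
          rw [← map_mul, mul_inv_cancel₀ hα0, map_one]
        rw [h3] at h5
        linarith
      rw [this]; norm_num
    have h6 : IsSquare (a * α⁻¹) :=
      (quadraticChar_one_iff_isSquare (mul_ne_zero ha (inv_ne_zero hα0))).mp h4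
    obtain ⟨s, hs⟩ := h6
    refine ⟨s, ?_, Or.inr ?_⟩
    · rintro rfl
      have : a * α⁻¹ = 0 := by simpa using hs
      exact (mul_ne_zero ha (inv_ne_zero hα0)) this
    · have : a = α * (a * α⁻¹) := by field_simp
      rw [this, hs, pow_two]

/-- the family version, by induction on the dimension -/
theorem exists_family {F : Type*} [Field F] [Finite F] (h2 : (2 : F) ≠ 0) (α : F)
    (hα : ¬ IsSquare α) (n : ℕ) : ∀ {V : Type*} [AddCommGroup V] [Module F V] [FiniteDimensional F V]
    (B : LinearMap.BilinForm F V), B.IsSymm → B.Nondegenerate → Module.finrank F V = n + 1 →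
    ∃ b : Fin (n + 1) → V, (∀ i j, i ≠ j → B (b i) (b j) = 0) ∧
      (∀ i, i ≠ Fin.last n → B (b i) (b i) = 1) ∧
      (B (b (Fin.last n)) (b (Fin.last n)) = 1 ∨ B (b (Fin.last n)) (b (Fin.last n)) = α) := by
  have : Invertible (2 : F) := invertibleOfNonzero h2
  induction n with
  | zero =>
    intro V _ _ _ B hS hB hn
    have hS' : LinearMap.IsSymm B := LinearMap.isSymm_def.mpr (fun x y => by simpa using hS.eq x y)
    obtain ⟨e, he⟩ := LinearMap.BilinForm.exists_orthogonal_basis hS'
    have hnorm := LinearMap.BilinForm.iIsOrtho.not_isOrtho_basis_self_of_nondegenerate he hB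
    have i0 : Fin (finrank F V) := ⟨0, by omega⟩
    obtain ⟨s, hs0, hs⟩ := exists_sq_or_nonsq α hα (B (e i0) (e i0)) (hnorm i0)
    refine ⟨fun _ => s⁻¹ • e i0, ?_, ?_, ?_⟩
    · intro i j hij
      exact absurd (Subsingleton.elim (α := Fin 1) i j) hij
    · intro i hi
      exact absurd (Subsingleton.elim (α := Fin 1) i _) hi
    · simp only [map_smul, LinearMap.smul_apply, smul_eq_mul]
      rcases hs with hs | hs
      · left; rw [hs]; field_simp
      · right; rw [hs]; field_simp
  | succ n ih =>
    intro V _ _ _ B hS hB hn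
    have hS' : LinearMap.IsSymm B := LinearMap.isSymm_def.mpr (fun x y => by simpa using hS.eq x y)
    obtain ⟨e, he⟩ := LinearMap.BilinForm.exists_orthogonal_basis hS'
    have hnorm := LinearMap.BilinForm.iIsOrtho.not_isOrtho_basis_self_of_nondegenerate he hB
    let i0 : Fin (finrank F V) := ⟨0, by omega⟩
    let i1 : Fin (finrank F V) := ⟨1, by omega⟩
    have h01 : i0 ≠ i1 := by
      intro h
      have := congrArg Fin.val h
      simp [i0, i1] at this
    have he01 : B (e i0) (e i1) = 0 := he h01
    have he10 : B (e i1) (e i0) = 0 := he h01.symm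
    obtain ⟨x, y, hxy⟩ := exists_sq_add_sq h2 (B (e i0) (e i0)) (B (e i1) (e i1)) 1 (hnorm i0) (hnorm i1)
    set v : V := x • e i0 + y • e i1 with hv
    have hvv : B v v = 1 := by
      rw [hv]
      simp only [map_add, map_smul, LinearMap.add_apply, LinearMap.smul_apply, smul_eq_mul, he01, he10]
      linear_combination hxy
    have hv0 : v ≠ 0 := by
      intro h
      rw [h] at hvv
      simp at hvv
    have hvv0 : B v v ≠ 0 := by rw [hvv]; exact one_ne_zero
    have hW := LinearMap.BilinForm.restrict_nondegenerate_orthogonal_spanSingleton B hB hS.isRefl hvv0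
    have hWs : (B.restrict (B.orthogonal (F ∙ v))).IsSymm := hS.restrict _
    have hWr : finrank F (B.orthogonal (F ∙ v)) = n + 1 := by
      rw [LinearMap.BilinForm.finrank_orthogonal hB, finrank_span_singleton hv0, hn]
      omega
    obtain ⟨b', hb1, hb2, hb3⟩ := ih (B.restrict (B.orthogonal (F ∙ v))) hWs hW hWr
    have hvb : ∀ j, B v (b' j) = 0 := by
      intro j
      have := (b' j).2
      rw [LinearMap.BilinForm.mem_orthogonal_iff] at this
      exact this v (Submodule.mem_span_singleton_self v)
    refine ⟨Fin.cons v (fun i => (b' i : V)), ?_, ?_, ?_⟩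
    · intro i j hij
      induction i using Fin.cases with
      | zero =>
        induction j using Fin.cases with
        | zero => exact absurd rfl hij
        | succ j' => simpa using hvb j'
      | succ i' =>
        induction j using Fin.cases with
        | zero =>
          have := hvb i'
          rw [hS.eq] at this
          simpa using this
        | succ j' =>
          have hne : i' ≠ j' := fun h => hij (by rw [h])
          have := hb1 i' j' hne
          simpa using this
    · intro i hi
      induction i using Fin.cases with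
      | zero => simpa using hvv
      | succ i' =>
        have hne : i' ≠ Fin.last n := by
          intro h
          apply hi
          rw [h, Fin.succ_last]
        have := hb2 i' hne
        simpa using this
    · rw [← Fin.succ_last]
      simpa using hb3

/-- Classification of symmetric bilinear forms over finite fields of odd characteristic: if B is non-degenerate symmetric on V of dimension n + 1 and α is a fixed non-square of F, there is an orthogonal basis b_0, ..., b_n with B(b_i, b_i) = 1 for i < n and B(b_n, b_n) ∈ {1, α}. -/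
theorem result {F V : Type*} [Field F] [Finite F] [AddCommGroup V] [Module F V] [FiniteDimensional F V] (h2 : (2 : F) ≠ 0) (B : LinearMap.BilinForm F V) (hS : B.IsSymm) (hB : B.Nondegenerate) {n : ℕ} (hn : Module.finrank F V = n + 1) (α : F) (hα : ¬ IsSquare α) : ∃ b : Module.Basis (Fin (n + 1)) F V, (∀ i j, i ≠ j → B (b i) (b j) = 0) ∧ (∀ i, i ≠ Fin.last n → B (b i) (b i) = 1) ∧ (B (b (Fin.last n)) (b (Fin.last n)) = 1 ∨ B (b (Fin.last n)) (b (Fin.last n)) = α) := by
  obtain ⟨b, h1, h2', h3⟩ := exists_family h2 α hα n B hS hB hn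
  have hα0 : α ≠ 0 := by
    rintro rfl
    exact hα ⟨0, by simp⟩
  have hnz : ∀ i, B (b i) (b i) ≠ 0 := by
    intro i
    by_cases hi : i = Fin.last n
    · subst hi
      rcases h3 with h | h <;> rw [h]
      · exact one_ne_zero
      · exact hα0
    · rw [h2' i hi]; exact one_ne_zero
  have hli : LinearIndependent F b :=
    LinearMap.BilinForm.linearIndependent_of_iIsOrtho (fun i j hij => h1 i j hij) hnz
  have hc : Fintype.card (Fin (n + 1)) = Module.finrank F V := by simp [hn]
  refine ⟨basisOfLinearIndependentOfCardEqFinrank hli hc, ?_, ?_, ?_⟩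
  · intro i j hij
    simpa using h1 i j hij
  · intro i hi
    simpa using h2' i hi
  · simpa using h3

end Cfsg.Agent.S0756
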