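import Cfsg.Statements.S1193
import Cfsg.Agent.Lib.Helper20.QD
import Cfsg.Agent.Lib.Helper61.DihedralLift

set_option autoImplicit false
set_option linter.style.haveILetI false
open Cfsg

namespace Cfsg.Agent.S1193

open Cfsg.Agent.Lib.Helper20
open scoped commutatorElement

variable {S : Type*} [Group S] {q : ℕ} {x y : S}

theorem commutator_eq (h : QD S q x y) : commutator S = Subgroup.zpowers (x ^ (2 : ℤ)) := by
  apply le_antisymm
  · rw [commutator_eq_closure, Subgroup.closure_le]
    rintro g ⟨a, b, rfl⟩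
    have heven : ∀ j : ℤ, 2 ∣ j → x ^ j ∈ Subgroup.zpowers (x ^ (2 : ℤ)) := by
      rintro j ⟨c, rfl⟩
      rw [zpow_mul]
      exact Subgroup.zpow_mem_zpowers _ _
    rw [SetLike.mem_coe, commutatorElement_def]
    rcases h.cases a with ⟨i, rfl⟩ | ⟨i, rfl⟩ <;> rcases h.cases b with ⟨j, rfl⟩ | ⟨j, rfl⟩
    · have : x ^ i * x ^ j * (x ^ i)⁻¹ * (x ^ j)⁻¹ = 1 := by
        rw [← zpow_neg, ← zpow_neg, ← zpow_add, ← zpow_add, ← zpow_add]
        have : i + j + -i + -j = 0 := by ring
        rw [this, zpow_zero]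
      rw [this]; exact Subgroup.one_mem _
    · rw [h.conj_x_xy, mul_inv_rev, mul_assoc, ← mul_assoc y, mul_inv_cancel, one_mul, ← zpow_neg,
        ← zpow_add]
      apply heven
      exact ⟨(1 - 2 * q) * i, by ring⟩
    · rw [h.conj_xy_x, ← zpow_neg, ← zpow_add]
      apply heven
      exact ⟨(2 * q - 1) * j, by ring⟩
    · rw [h.conj_xy_xy, mul_inv_rev, mul_assoc, ← mul_assoc y, mul_inv_cancel, one_mul, ← zpow_neg,
        ← zpow_add]
      apply heven
      exact ⟨(2 * q - 1) * j + (1 - 2 * q) * i, by ring⟩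
  · rw [Subgroup.zpowers_le]
    exact h.x_sq_mem_commutator

theorem frattini_eq {k : ℕ} (h : QD S (2 ^ k) x y) : frattini S = Subgroup.zpowers (x ^ (2 : ℤ)) := by
  haveI := h.finite
  have hP : IsPGroup 2 S := IsPGroup.of_card (n := k + 4) (by rw [h.card]; ring)
  haveI : Fact (Nat.Prime 2) := ⟨Nat.prime_two⟩
  have hnil : Group.IsNilpotent S := hP.isNilpotent
  have hnc := Group.normalizerCondition_of_isNilpotent (G := S)
  apply le_antisymm
  · have h1 : frattini S ≤ Subgroup.zpowers x :=
      frattini_le_coatom (isCoatom_of_index_two h.index_zpowers)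
    intro g hg
    obtain ⟨i, rfl⟩ := Subgroup.mem_zpowers_iff.mp (h1 hg)
    by_cases hi : 2 ∣ i
    · obtain ⟨c, rfl⟩ := hi
      rw [zpow_mul]
      exact Subgroup.zpow_mem_zpowers _ _
    · exfalso
      have hx : x ∈ frattini S := (Subgroup.zpowers_le.mpr hg) (h.x_mem_zpowers_odd hi)
      have htop : Subgroup.zpowers y ⊔ frattini S = ⊤ := by
        apply h.eq_top_of_mem
        · exact (le_sup_right : frattini S ≤ _) hx
        · exact (le_sup_left : Subgroup.zpowers y ≤ _) (Subgroup.mem_zpowers y)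
      have h2 := frattini_nongenerating htop
      have h3 : Nat.card (Subgroup.zpowers y) = 2 := by rw [Nat.card_zpowers, h.oy]
      rw [h2, Subgroup.card_top, h.card] at h3
      have := h.hq
      omega
  · rw [frattini, Order.radical, le_iInf_iff]
    intro M
    rw [le_iInf_iff]
    intro hM
    haveI : M.Normal := Subgroup.NormalizerCondition.normal_of_coatom M hnc hM
    rw [Subgroup.zpowers_le]
    by_cases hle : M ≤ Subgroup.zpowers x
    · have : M = Subgroup.zpowers x := by
        by_contra hne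
        have hlt : M < Subgroup.zpowers x := lt_of_le_of_ne hle hne
        have := hM.2 _ hlt
        have h3 := h.index_zpowers
        rw [this, Subgroup.index_top] at h3
        omega
      rw [this, zpow_ofNat]
      exact Subgroup.pow_mem _ (Subgroup.mem_zpowers x) 2
    · obtain ⟨g, hgM, hgx⟩ := SetLike.not_le_iff_exists.mp hle
      rcases h.cases g with ⟨i, rfl⟩ | ⟨i, rfl⟩
      · exact absurd (Subgroup.zpow_mem_zpowers x i) hgx
      · exact h.x_sq_mem_of_normal M hgM

theorem orderOf_x_sq (h : QD S q x y) : orderOf (x ^ (2 : ℤ)) = 4 * q := by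
  rw [zpow_ofNat, orderOf_pow' x (by norm_num), h.ox]
  have : Nat.gcd (8 * q) 2 = 2 := by
    apply Nat.gcd_eq_right
    exact ⟨4 * q, by ring⟩
  rw [this]
  omega

theorem center_eq (h : QD S q x y) : Subgroup.center S = Subgroup.zpowers (x ^ (4 * q : ℤ)) := by
  apply le_antisymm
  · intro g hg
    rw [Subgroup.mem_center_iff] at hg
    have hq := h.qpos
    rcases h.cases g with ⟨i, rfl⟩ | ⟨i, rfl⟩
    · have h1 := hg y
      rw [h.y_mul_zpow] at h1
      have h2 : x ^ ((4 * q - 1) * i : ℤ) = x ^ i := mul_right_cancel h1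
      rw [h.zpow_eq_iff] at h2
      obtain ⟨c, hc⟩ := h2
      -- (4q-2) i = 8 q c → (2q-1) i = 4 q c → i = 4q ((q-1) i ... )
      have h3 : (2 * q - 1 : ℤ) * i = 4 * q * c := by
        have : 2 * ((2 * q - 1 : ℤ) * i) = 2 * (4 * q * c) := by
          calc 2 * ((2 * q - 1 : ℤ) * i) = (4 * q - 1) * i - i := by ring
            _ = 8 * q * c := hc
            _ = 2 * (4 * q * c) := by ring
        exact mul_left_cancel₀ (by norm_num) this
      have h4 : i = 4 * q * ((2 * q - 1) * c - (q - 1) * i) := by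
        have : (2 * q - 1 : ℤ) * ((2 * q - 1) * i) = (2 * q - 1) * (4 * q * c) := by rw [h3]
        linear_combination this
      have h5 : x ^ i = (x ^ (4 * q : ℤ)) ^ ((2 * q - 1) * c - (q - 1) * i : ℤ) := by
        rw [← zpow_mul]
        congr 1
      rw [h5]
      exact Subgroup.zpow_mem_zpowers _ _
    · exfalso
      have h1 := hg x
      have e1 : x * (x ^ i * y) = x ^ (1 + i : ℤ) * y := by
        rw [← mul_assoc]; congr 1; rw [zpow_add, zpow_one]
      have e2 : x ^ i * y * x = x ^ (i + (4 * q - 1) * 1 : ℤ) * y := by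
        have := h.mul_xy_x i 1
        rwa [zpow_one] at this
      rw [e1, e2] at h1
      have h2 := mul_right_cancel h1
      rw [h.zpow_eq_iff] at h2
      have h3 : (8 * q : ℤ) ∣ 4 * q - 2 := by
        obtain ⟨c, hc⟩ := h2
        exact ⟨-c, by linear_combination (-1 : ℤ) * hc⟩
      have := Int.le_of_dvd (by omega) h3
      omega
  · rw [Subgroup.zpowers_le, Subgroup.mem_center_iff]
    intro g
    exact h.central g

/-- Let S be quasi-dihedral of order 2^(n+1). Then S' = Φ(S) is cyclic of order 2^(n-1), the centre of S has order 2, and the subgroup generated by the involutions of S is dihedral of order 2^n. -/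
theorem result {S : Type*} [Group S] [Finite S] (hS : Cfsg.IsQuasiDihedral S) (n : ℕ) (hn : Nat.card S = 2 ^ (n + 1)) : commutator S = frattini S ∧ IsCyclic (commutator S) ∧ Nat.card (commutator S) = 2 ^ (n - 1) ∧ Nat.card (Subgroup.center S) = 2 ∧ Nonempty (↥(Subgroup.closure {x : S | orderOf x = 2}) ≃* DihedralGroup (2 ^ (n - 1))) := by
  obtain ⟨k, x, y, h, hcard⟩ := exists_QD_of_isQuasiDihedral hS
  have hnk : n = k + 3 := by
    rw [hn] at hcard
    have := Nat.pow_right_injective (le_refl 2) hcard
    omega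
  subst hnk
  have e4q : 2 ^ (k + 3 - 1) = 4 * 2 ^ k := by
    have : k + 3 - 1 = k + 2 := by omega
    rw [this]; ring
  have hcomm := commutator_eq h
  refine ⟨by rw [hcomm, frattini_eq h], ?_, ?_, ?_, ?_⟩
  · exact isCyclic_of_le_zpowers hcomm.le
  · rw [hcomm, Nat.card_zpowers, orderOf_x_sq h, e4q]
  · rw [center_eq h, Nat.card_zpowers]
    exact h.orderOf_zpow_eq_two_iff.mpr rfl
  · -- the subgroup generated by involutions
    have hH : Subgroup.closure {t : S | orderOf t = 2} = Subgroup.closure {x ^ (2 : ℤ), y} := by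
      apply le_antisymm
      · rw [Subgroup.closure_le]
        intro t ht
        have ht' : orderOf t = 2 := ht
        have hx2 : x ^ (2 : ℤ) ∈ Subgroup.closure ({x ^ (2 : ℤ), y} : Set S) :=
          Subgroup.subset_closure (by simp)
        have hy : y ∈ Subgroup.closure ({x ^ (2 : ℤ), y} : Set S) :=
          Subgroup.subset_closure (by simp)
        have heven : ∀ j : ℤ, 2 ∣ j → x ^ j ∈ Subgroup.closure ({x ^ (2 : ℤ), y} : Set S) := by
          rintro j ⟨c, rfl⟩
          rw [zpow_mul]
          exact Subgroup.zpow_mem _ hx2 _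
        rcases h.cases t with ⟨i, rfl⟩ | ⟨i, rfl⟩
        · rw [h.orderOf_zpow_eq_two_iff.mp ht']
          exact heven _ ⟨2 * 2 ^ k, by push_cast; ring⟩
        · by_cases hi : 2 ∣ i
          · exact Subgroup.mul_mem _ (heven i hi) hy
          · rw [h.orderOf_xy_odd hi] at ht'
            omega
      · rw [Subgroup.closure_le]
        have hy : y ∈ Subgroup.closure {t : S | orderOf t = 2} := Subgroup.subset_closure h.oy
        intro t ht
        rcases ht with rfl | rfl
        · have h1 : x ^ (2 : ℤ) * y ∈ Subgroup.closure {t : S | orderOf t = 2} :=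
            Subgroup.subset_closure (h.orderOf_xy_even (dvd_refl 2))
          have : x ^ (2 : ℤ) = (x ^ (2 : ℤ) * y) * y⁻¹ := by group
          rw [SetLike.mem_coe, this]
          exact Subgroup.mul_mem _ h1 (Subgroup.inv_mem _ hy)
        · exact hy
    rw [hH]
    have hx2 : x ^ (2 : ℤ) ∈ Subgroup.closure ({x ^ (2 : ℤ), y} : Set S) :=
      Subgroup.subset_closure (by simp)
    have hy : y ∈ Subgroup.closure ({x ^ (2 : ℤ), y} : Set S) :=
      Subgroup.subset_closure (by simp)
    let x' : ↥(Subgroup.closure ({x ^ (2 : ℤ), y} : Set S)) := ⟨x ^ (2 : ℤ), hx2⟩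
    let s' : ↥(Subgroup.closure ({x ^ (2 : ℤ), y} : Set S)) := ⟨y, hy⟩
    have hs : s' * s' = 1 := Subtype.ext h.y_mul_self
    have hsx : s' * x' * s' = x'⁻¹ := by
      apply Subtype.ext
      show y * x ^ (2 : ℤ) * y = (x ^ (2 : ℤ))⁻¹
      have := h.conj_zpow 2
      rw [h.y_inv] at this
      rw [this, ← zpow_neg, h.zpow_eq_iff]
      exact ⟨1, by ring⟩
    have hns : s' ∉ Subgroup.zpowers x' := by
      intro hm
      obtain ⟨j, hj⟩ := Subgroup.mem_zpowers_iff.mp hm
      have : (x ^ (2 : ℤ)) ^ j = y := by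
        have := congrArg Subtype.val hj
        simpa [x', s'] using this
      apply h.y_not_mem
      rw [← this, ← zpow_mul]
      exact Subgroup.zpow_mem_zpowers _ _
    have hgen : Subgroup.closure ({s', x'} : Set ↥(Subgroup.closure ({x ^ (2 : ℤ), y} : Set S))) = ⊤ := by
      apply Subgroup.map_injective (Subgroup.subtype_injective _)
      rw [MonoidHom.map_closure, ← MonoidHom.range_eq_map, Subgroup.range_subtype]
      congr 1
      ext t
      simp only [Set.mem_image, Set.mem_insert_iff, Set.mem_singleton_iff]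
      constructor
      · rintro ⟨a, ha | ha, rfl⟩
        · right; rw [ha]; rfl
        · left; rw [ha]; rfl
      · rintro (ht | ht)
        · exact ⟨x', Or.inr rfl, ht.symm⟩
        · exact ⟨s', Or.inl rfl, ht.symm⟩
    have e := Cfsg.Agent.Lib.Helper61.dihedralEquiv s' x' hs hsx hns hgen
    have ho : orderOf x' = 2 ^ (k + 3 - 1) := by
      rw [e4q, ← orderOf_x_sq h]
      exact Subgroup.orderOf_mk _ _
    rw [← ho]
    exact ⟨e.symm⟩

end Cfsg.Agent.S1193
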