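import Cfsg.Statements.S1192
import Cfsg.Agent.Lib.Helper20.QD
import Cfsg.Agent.Lib.Helper20.QuatLift
import Cfsg.Agent.Lib.Helper61.DihedralLift
import Cfsg.Agent.S1193

set_option autoImplicit false
set_option linter.style.haveILetI false
open Cfsg

namespace Cfsg.Agent.S1192

open Cfsg.Agent.Lib.Helper20

variable {S : Type*} [Group S] {q : ℕ} {x y : S}

/-- generation of `maxSub ε` by `x²` and `x^ε y` -/
theorem closure_eq_top (h : QD S q x y) (ε : ℤ)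
    (hx2 : x ^ (2 : ℤ) ∈ h.maxSub ε) (hb : x ^ ε * y ∈ h.maxSub ε) :
    Subgroup.closure ({⟨x ^ ε * y, hb⟩, ⟨x ^ (2 : ℤ), hx2⟩} : Set ↥(h.maxSub ε)) = ⊤ := by
  rw [eq_top_iff]
  rintro ⟨g, hg⟩ _
  have ha : (⟨x ^ (2 : ℤ), hx2⟩ : ↥(h.maxSub ε)) ∈
      Subgroup.closure ({⟨x ^ ε * y, hb⟩, ⟨x ^ (2 : ℤ), hx2⟩} : Set ↥(h.maxSub ε)) :=
    Subgroup.subset_closure (by simp)
  have hb' : (⟨x ^ ε * y, hb⟩ : ↥(h.maxSub ε)) ∈
      Subgroup.closure ({⟨x ^ ε * y, hb⟩, ⟨x ^ (2 : ℤ), hx2⟩} : Set ↥(h.maxSub ε)) :=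
    Subgroup.subset_closure (by simp)
  obtain ⟨j, hj | hj⟩ := (h.mem_maxSub ε g).mp hg
  · have : (⟨g, hg⟩ : ↥(h.maxSub ε)) = (⟨x ^ (2 : ℤ), hx2⟩ : ↥(h.maxSub ε)) ^ j := by
      apply Subtype.ext
      rw [Subgroup.coe_zpow]
      show g = (x ^ (2 : ℤ)) ^ j
      rw [← zpow_mul, hj]
    rw [this]
    exact Subgroup.zpow_mem _ ha _
  · have : (⟨g, hg⟩ : ↥(h.maxSub ε)) = (⟨x ^ (2 : ℤ), hx2⟩ : ↥(h.maxSub ε)) ^ j * ⟨x ^ ε * y, hb⟩ := by
      apply Subtype.ext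
      rw [Subgroup.coe_mul, Subgroup.coe_zpow]
      show g = (x ^ (2 : ℤ)) ^ j * (x ^ ε * y)
      rw [← zpow_mul, ← mul_assoc, ← zpow_add, hj]
    rw [this]
    exact Subgroup.mul_mem _ (Subgroup.zpow_mem _ ha _) hb'

/-- A quasi-dihedral group S of order 2^(n+1) has exactly three maximal subgroups; one is cyclic, one is isomorphic to the generalized quaternion group of order 2^n and one to the dihedral group of order 2^n. -/
theorem result {S : Type*} [Group S] [Finite S] (hS : Cfsg.IsQuasiDihedral S) (n : ℕ) (hn : Nat.card S = 2 ^ (n + 1)) : ∃ M₁ M₂ M₃ : Subgroup S, IsCoatom M₁ ∧ IsCoatom M₂ ∧ IsCoatom M₃ ∧ M₁ ≠ M₂ ∧ M₁ ≠ M₃ ∧ M₂ ≠ M₃ ∧ (∀ M : Subgroup S, IsCoatom M → M = M₁ ∨ M = M₂ ∨ M = M₃) ∧ IsCyclic M₁ ∧ Nonempty (M₂ ≃* QuaternionGroup (2 ^ (n - 2))) ∧ Nonempty (M₃ ≃* DihedralGroup (2 ^ (n - 1))) := by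
  obtain ⟨k, x, y, h, hcard⟩ := exists_QD_of_isQuasiDihedral hS
  have hnk : n = k + 3 := by
    rw [hn] at hcard
    have := Nat.pow_right_injective (le_refl 2) hcard
    omega
  subst hnk
  have e4q : 2 ^ (k + 3 - 1) = 4 * 2 ^ k := by
    have : k + 3 - 1 = k + 2 := by omega
    rw [this]; ring
  have e2q : 2 ^ (k + 3 - 2) = 2 * 2 ^ k := by
    have : k + 3 - 2 = k + 1 := by omega
    rw [this]; ring
  have hM1 : IsCoatom (Subgroup.zpowers x) := isCoatom_of_index_two h.index_zpowers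
  have hM2 := h.isCoatom_maxSub 1
  have hM3 := h.isCoatom_maxSub 0
  have hx1 : x ∉ h.maxSub 1 := by
    intro hm
    have : x ^ (1 : ℤ) ∈ h.maxSub 1 := by rwa [zpow_one]
    rw [h.zpow_mem_maxSub_iff] at this
    omega
  have hx0 : x ∉ h.maxSub 0 := by
    intro hm
    have : x ^ (1 : ℤ) ∈ h.maxSub 0 := by rwa [zpow_one]
    rw [h.zpow_mem_maxSub_iff] at this
    omega
  have hy0 : x ^ (0 : ℤ) * y ∈ h.maxSub 0 := (h.xy_mem_maxSub_iff 0 0).mpr (by simp)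
  have hy1 : x ^ (0 : ℤ) * y ∉ h.maxSub 1 := by
    rw [h.xy_mem_maxSub_iff]; omega
  refine ⟨Subgroup.zpowers x, h.maxSub 1, h.maxSub 0, hM1, hM2, hM3, ?_, ?_, ?_, ?_, ?_, ?_, ?_⟩
  · intro he
    exact hx1 (he ▸ Subgroup.mem_zpowers x)
  · intro he
    exact hx0 (he ▸ Subgroup.mem_zpowers x)
  · intro he
    exact hy1 (he ▸ hy0)
  · intro M hM
    have hfr : x ^ (2 : ℤ) ∈ M := by
      have := frattini_le_coatom hM
      rw [Cfsg.Agent.S1193.frattini_eq h] at this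
      exact this (Subgroup.mem_zpowers _)
    have heven : ∀ j : ℤ, 2 ∣ j → x ^ j ∈ M := by
      rintro j ⟨c, rfl⟩
      rw [zpow_mul]
      exact M.zpow_mem hfr _
    by_cases hx : x ∈ M
    · left
      have hle : Subgroup.zpowers x ≤ M := Subgroup.zpowers_le.mpr hx
      rcases hM1.le_iff.mp hle with h1 | h1
      · exact absurd h1 hM.1
      · exact h1
    · right
      -- some element outside zpowers x
      have hnle : ¬ M ≤ Subgroup.zpowers x := by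
        intro hle
        rcases hM.le_iff.mp hle with h1 | h1
        · exact hM1.1 h1
        · exact hx (h1 ▸ Subgroup.mem_zpowers x)
      obtain ⟨g, hgM, hgx⟩ := SetLike.not_le_iff_exists.mp hnle
      rcases h.cases g with ⟨i, rfl⟩ | ⟨i, rfl⟩
      · exact absurd (Subgroup.zpow_mem_zpowers x i) hgx
      by_cases hi : 2 ∣ i
      · right
        have hle : h.maxSub 0 ≤ M := by
          intro t ht
          obtain ⟨j, hj | hj⟩ := (h.mem_maxSub 0 t).mp ht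
          · rw [hj]; exact heven _ ⟨j, rfl⟩
          · rw [hj]
            have : x ^ (2 * j + 0 : ℤ) * y = x ^ (2 * j - i : ℤ) * (x ^ i * y) := by
              rw [← mul_assoc, ← zpow_add]; congr 2; ring
            rw [this]
            exact M.mul_mem (heven _ (by omega)) hgM
        rcases hM3.le_iff.mp hle with h1 | h1
        · exact absurd h1 hM.1
        · exact h1
      · left
        have hle : h.maxSub 1 ≤ M := by
          intro t ht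
          obtain ⟨j, hj | hj⟩ := (h.mem_maxSub 1 t).mp ht
          · rw [hj]; exact heven _ ⟨j, rfl⟩
          · rw [hj]
            have : x ^ (2 * j + 1 : ℤ) * y = x ^ (2 * j + 1 - i : ℤ) * (x ^ i * y) := by
              rw [← mul_assoc, ← zpow_add]; congr 2; ring
            rw [this]
            exact M.mul_mem (heven _ (by omega)) hgM
        rcases hM2.le_iff.mp hle with h1 | h1
        · exact absurd h1 hM.1
        · exact h1
  · infer_instance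
  · -- quaternion
    have hx2 : x ^ (2 : ℤ) ∈ h.maxSub 1 := (h.zpow_mem_maxSub_iff 1 2).mpr (dvd_refl 2)
    have hb : x ^ (1 : ℤ) * y ∈ h.maxSub 1 := (h.xy_mem_maxSub_iff 1 1).mpr (by simp)
    have hgen := closure_eq_top h 1 hx2 hb
    have ho : orderOf (⟨x ^ (2 : ℤ), hx2⟩ : ↥(h.maxSub 1)) = 2 * (2 * 2 ^ k) := by
      rw [Subgroup.orderOf_mk, Cfsg.Agent.S1193.orderOf_x_sq h]; ring
    have hβ : (⟨x ^ (1 : ℤ) * y, hb⟩ : ↥(h.maxSub 1)) * ⟨x ^ (1 : ℤ) * y, hb⟩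
        = (⟨x ^ (2 : ℤ), hx2⟩ : ↥(h.maxSub 1)) ^ (2 * 2 ^ k) := by
      apply Subtype.ext
      rw [Subgroup.coe_mul, Subgroup.coe_pow]
      show (x ^ (1 : ℤ) * y) * (x ^ (1 : ℤ) * y) = (x ^ (2 : ℤ)) ^ (2 * 2 ^ k)
      rw [h.xy_mul_self_odd (by norm_num), ← zpow_natCast, ← zpow_mul]
      congr 1
      push_cast
      ring
    have hβα : (⟨x ^ (1 : ℤ) * y, hb⟩ : ↥(h.maxSub 1)) * ⟨x ^ (2 : ℤ), hx2⟩ * (⟨x ^ (1 : ℤ) * y, hb⟩ : ↥(h.maxSub 1))⁻¹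
        = (⟨x ^ (2 : ℤ), hx2⟩ : ↥(h.maxSub 1))⁻¹ := by
      apply Subtype.ext
      show (x ^ (1 : ℤ) * y) * x ^ (2 : ℤ) * (x ^ (1 : ℤ) * y)⁻¹ = (x ^ (2 : ℤ))⁻¹
      rw [h.conj_xy_x, ← zpow_neg, h.zpow_eq_iff]
      exact ⟨1, by ring⟩
    have hns : (⟨x ^ (1 : ℤ) * y, hb⟩ : ↥(h.maxSub 1)) ∉ Subgroup.zpowers (⟨x ^ (2 : ℤ), hx2⟩ : ↥(h.maxSub 1)) := by
      intro hm
      obtain ⟨j, hj⟩ := Subgroup.mem_zpowers_iff.mp hm
      have : (x ^ (2 : ℤ)) ^ j = x ^ (1 : ℤ) * y := by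
        have := congrArg Subtype.val hj
        rwa [Subgroup.coe_zpow] at this
      rw [← zpow_mul] at this
      exact h.xy_ne_x _ _ this.symm
    have e := quatEquiv _ _ (2 * 2 ^ k) ho hβ hβα hns hgen
    rw [e2q]
    exact ⟨e.symm⟩
  · -- dihedral
    have hx2 : x ^ (2 : ℤ) ∈ h.maxSub 0 := (h.zpow_mem_maxSub_iff 0 2).mpr (dvd_refl 2)
    have hgen := closure_eq_top h 0 hx2 hy0
    have hs : (⟨x ^ (0 : ℤ) * y, hy0⟩ : ↥(h.maxSub 0)) * ⟨x ^ (0 : ℤ) * y, hy0⟩ = 1 := by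
      apply Subtype.ext
      show (x ^ (0 : ℤ) * y) * (x ^ (0 : ℤ) * y) = 1
      rw [h.xy_mul_self, h.zpow_eq_one_iff]
      exact ⟨0, by ring⟩
    have hsx : (⟨x ^ (0 : ℤ) * y, hy0⟩ : ↥(h.maxSub 0)) * ⟨x ^ (2 : ℤ), hx2⟩ * ⟨x ^ (0 : ℤ) * y, hy0⟩
        = (⟨x ^ (2 : ℤ), hx2⟩ : ↥(h.maxSub 0))⁻¹ := by
      apply Subtype.ext
      show (x ^ (0 : ℤ) * y) * x ^ (2 : ℤ) * (x ^ (0 : ℤ) * y) = (x ^ (2 : ℤ))⁻¹
      have h1 : (x ^ (0 : ℤ) * y)⁻¹ = x ^ (0 : ℤ) * y := by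
        rw [h.inv_xy]; congr 2; ring
      have h2 := h.conj_xy_x 0 2
      rw [h1] at h2
      rw [h2, ← zpow_neg, h.zpow_eq_iff]
      exact ⟨1, by ring⟩
    have hns : (⟨x ^ (0 : ℤ) * y, hy0⟩ : ↥(h.maxSub 0)) ∉ Subgroup.zpowers (⟨x ^ (2 : ℤ), hx2⟩ : ↥(h.maxSub 0)) := by
      intro hm
      obtain ⟨j, hj⟩ := Subgroup.mem_zpowers_iff.mp hm
      have : (x ^ (2 : ℤ)) ^ j = x ^ (0 : ℤ) * y := by
        have := congrArg Subtype.val hj
        rwa [Subgroup.coe_zpow] at this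
      rw [← zpow_mul] at this
      exact h.xy_ne_x _ _ this.symm
    have e := Cfsg.Agent.Lib.Helper61.dihedralEquiv _ _ hs hsx hns hgen
    have ho : orderOf (⟨x ^ (2 : ℤ), hx2⟩ : ↥(h.maxSub 0)) = 2 ^ (k + 3 - 1) := by
      rw [Subgroup.orderOf_mk, Cfsg.Agent.S1193.orderOf_x_sq h, e4q]
    rw [← ho]
    exact ⟨e.symm⟩

end Cfsg.Agent.S1192
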