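import Cfsg.Statements.S1190
import Cfsg.Agent.Lib.Helper20.QD
import Cfsg.Agent.Lib.Helper20.QDKlein
import Cfsg.Agent.Lib.Helper20.ConjMap

set_option autoImplicit false
set_option linter.style.haveILetI false
open Cfsg

namespace Cfsg.Agent.S1190

open Cfsg.Agent.Lib.Helper20

variable {S : Type*} [Group S] {q : ℕ} {x y : S}

theorem inv_conj_x_xy (h : QD S q x y) (k j : ℤ) :
    (x ^ k)⁻¹ * (x ^ j * y) * x ^ k = x ^ (j + (4 * q - 2) * k : ℤ) * y := by
  rw [← zpow_neg, QD.mul_x_xy, h.mul_xy_x]
  congr 2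
  ring

theorem inv_conj_x_x (k j : ℤ) : (x ^ k)⁻¹ * x ^ j * x ^ k = x ^ j := by
  rw [← zpow_neg, ← zpow_add, ← zpow_add]
  congr 1
  ring

/-- In a quasi-dihedral 2-group S, any two Klein four-subgroups are conjugate, and every Klein four-subgroup T satisfies C_S(T) = T and |N_S(T) : T| = 2. -/
theorem result {S : Type*} [Group S] [Finite S] (hS : Cfsg.IsQuasiDihedral S) : (∀ T₁ T₂ : Subgroup S, IsKleinFour T₁ → IsKleinFour T₂ → ∃ s : S, T₁.map (MulAut.conj s).toMonoidHom = T₂) ∧ (∀ T : Subgroup S, IsKleinFour T → Subgroup.centralizer (T : Set S) = T ∧ T.relIndex (Subgroup.normalizer (T : Set S)) = 2) := by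
  obtain ⟨k, x, y, h, -⟩ := exists_QD_of_isQuasiDihedral hS
  set q := 2 ^ k with hqdef
  have hqpos : (0 : ℤ) < q := h.qpos
  constructor
  · intro T₁ T₂ hT₁ hT₂
    obtain ⟨i₁, ⟨d₁, hd₁⟩, hx₁, hxy₁⟩ := h.klein_struct T₁
    obtain ⟨i₂, ⟨d₂, hd₂⟩, hx₂, hxy₂⟩ := h.klein_struct T₂
    refine ⟨x ^ ((1 + 2 * q) * (d₂ - d₁) : ℤ), ?_⟩
    ext t
    rw [mem_map_conj]
    rcases h.cases t with ⟨j, rfl⟩ | ⟨j, rfl⟩
    · rw [inv_conj_x_x, hx₁, hx₂]
    · rw [inv_conj_x_xy h, hxy₁, hxy₂]
      have e : j + (4 * q - 2) * ((1 + 2 * q) * (d₂ - d₁)) - i₁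
          = (j - i₂) + 4 * q * (2 * q * (d₂ - d₁)) := by
        rw [hd₁, hd₂]; ring
      rw [e]
      exact Int.dvd_add_left ⟨_, rfl⟩
  · intro T hT
    obtain ⟨i, ⟨d, hd⟩, hxT, hxyT⟩ := h.klein_struct T
    have hgT : x ^ i * y ∈ T := (hxyT i).mpr (by simp)
    constructor
    · apply le_antisymm
      · intro c hc
        rw [Subgroup.mem_centralizer_iff] at hc
        have h1 := hc _ hgT
        rcases h.cases c with ⟨l, rfl⟩ | ⟨l, rfl⟩
        · rw [h.mul_xy_x, QD.mul_x_xy] at h1
          have h2 := mul_right_cancel h1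
          rw [h.zpow_eq_iff] at h2
          obtain ⟨c', hc'⟩ := h2
          rw [hxT]
          -- (4q-2) l = 8q c' → l = 4q (..)
          have h3 : (2 * q - 1 : ℤ) * l = 4 * q * c' := by
            have : 2 * ((2 * q - 1 : ℤ) * l) = 2 * (4 * q * c') := by linear_combination hc'
            exact mul_left_cancel₀ (by norm_num) this
          exact ⟨(2 * q - 1) * c' - (q - 1) * l, by linear_combination (2 * (q : ℤ) - 1) * h3⟩
        · rw [h.mul_xy_xy, h.mul_xy_xy] at h1
          rw [h.zpow_eq_iff] at h1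
          obtain ⟨c', hc'⟩ := h1
          rw [hxyT]
          -- (4q-2)(l - i) = 8 q c' (up to sign)
          have h3 : (2 * q - 1 : ℤ) * (l - i) = 4 * q * c' := by
            have : 2 * ((2 * q - 1 : ℤ) * (l - i)) = 2 * (4 * q * c') := by linear_combination hc'
            exact mul_left_cancel₀ (by norm_num) this
          exact ⟨(2 * q - 1) * c' - (q - 1) * (l - i), by linear_combination (2 * (q : ℤ) - 1) * h3⟩
      · intro c hc
        rw [Subgroup.mem_centralizer_iff]
        intro t ht
        have := (IsKleinFour.isMulCommutative (G := T)).is_comm.comm ⟨t, ht⟩ ⟨c, hc⟩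
        exact congrArg Subtype.val this
    · rw [Subgroup.relIndex_eq_two_iff_exists_notMem_and]
      have hfin : Finite (T : Set S) := inferInstance
      refine ⟨x ^ (2 * q : ℤ), ?_, ?_, ?_⟩
      · apply Subgroup.mem_normalizer_fintype
        intro t ht
        rcases h.cases t with ⟨l, rfl⟩ | ⟨l, rfl⟩
        · have : x ^ (2 * q : ℤ) * x ^ l * (x ^ (2 * q : ℤ))⁻¹ = x ^ l := by
            rw [← zpow_neg, ← zpow_add, ← zpow_add]; congr 1; ring
          rw [this]; exact ht
        · rw [h.conj_x_xy]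
          have ht' : x ^ l * y ∈ T := ht
          rw [hxyT] at ht'
          show x ^ (l + (2 - 4 * q) * (2 * q) : ℤ) * y ∈ T
          rw [hxyT]
          obtain ⟨c, hc⟩ := ht'
          exact ⟨c + 1 - 2 * q, by linear_combination hc⟩
      · rw [hxT]
        rintro ⟨c, hc⟩
        have h1 : (1 : ℤ) = 2 * c := by
          have : (2 * q : ℤ) * 1 = 2 * q * (2 * c) := by linear_combination hc
          exact mul_left_cancel₀ (by omega) this
        omega
      · intro b hb
        have hb' := (Subgroup.mem_normalizer_iff.mp hb) _ |>.mp hgT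
        rcases h.cases b with ⟨l, rfl⟩ | ⟨l, rfl⟩
        · rw [h.conj_x_xy, hxyT] at hb'
          obtain ⟨c, hc⟩ := hb'
          -- (2-4q) l = 4 q c → l = 2q m
          have h3 : (1 - 2 * q : ℤ) * l = 2 * q * c := by
            have : 2 * ((1 - 2 * q : ℤ) * l) = 2 * (2 * q * c) := by linear_combination hc
            exact mul_left_cancel₀ (by norm_num) this
          have h4 : l = 2 * q * ((1 + 2 * q) * c + 2 * q * l) := by
            linear_combination (1 + 2 * (q : ℤ)) * h3
          rcases Int.even_or_odd' ((1 + 2 * q) * c + 2 * q * l) with ⟨m, hm | hm⟩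
          · right
            rw [hxT]
            exact ⟨m, by rw [hm] at h4; linear_combination h4⟩
          · left
            rw [← zpow_add, hxT]
            exact ⟨m + 1, by rw [hm] at h4; linear_combination h4⟩
        · rw [h.conj_xy_xy, hxyT] at hb'
          obtain ⟨c, hc⟩ := hb'
          have h3 : (2 * q - 1 : ℤ) * (i - l) = 2 * q * c := by
            have : 2 * ((2 * q - 1 : ℤ) * (i - l)) = 2 * (2 * q * c) := by linear_combination hc
            exact mul_left_cancel₀ (by norm_num) this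
          have h4 : i - l = 2 * q * ((2 * q - 1) * c - 2 * (q - 1) * (i - l)) := by
            linear_combination (2 * (q : ℤ) - 1) * h3
          rcases Int.even_or_odd' ((2 * q - 1) * c - 2 * (q - 1) * (i - l)) with ⟨m, hm | hm⟩
          · right
            rw [hxyT]
            exact ⟨-m, by rw [hm] at h4; linear_combination (-1 : ℤ) * h4⟩
          · left
            rw [h.mul_xy_x, hxyT]
            exact ⟨-m - 1 + 2 * q, by rw [hm] at h4; linear_combination (-1 : ℤ) * h4⟩

end Cfsg.Agent.S1190
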