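import Cfsg.Statements.S1191
import Cfsg.Agent.Lib.Helper20.QD
import Cfsg.Agent.Lib.Helper20.QDQuat
import Cfsg.Agent.Lib.Helper20.ConjMap
import Cfsg.Agent.S1190

set_option autoImplicit false
set_option linter.style.haveILetI false
open Cfsg

namespace Cfsg.Agent.S1191

open Cfsg.Agent.Lib.Helper20

/-- In a quasi-dihedral 2-group S, any two subgroups isomorphic to the quaternion group of order 8 are conjugate, and each such subgroup Q satisfies C_S(Q) = Z(Q) and |N_S(Q) : Q| = 2. -/
theorem result {S : Type*} [Group S] [Finite S] (hS : Cfsg.IsQuasiDihedral S) : (∀ Q₁ Q₂ : Subgroup S, Nonempty (Q₁ ≃* QuaternionGroup 2) → Nonempty (Q₂ ≃* QuaternionGroup 2) → ∃ s : S, Q₁.map (MulAut.conj s).toMonoidHom = Q₂) ∧ (∀ Q : Subgroup S, Nonempty (Q ≃* QuaternionGroup 2) → Subgroup.centralizer (Q : Set S) = (Subgroup.center Q).map Q.subtype ∧ Q.relIndex (Subgroup.normalizer (Q : Set S)) = 2) := by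
  obtain ⟨k, x, y, h, -⟩ := exists_QD_of_isQuasiDihedral hS
  set q := 2 ^ k with hqdef
  have hqpos : (0 : ℤ) < q := h.qpos
  constructor
  · rintro Q₁ Q₂ ⟨e₁⟩ ⟨e₂⟩
    obtain ⟨i₁, hi₁, hx₁, hxy₁⟩ := h.quat_struct Q₁ e₁
    obtain ⟨i₂, hi₂, hx₂, hxy₂⟩ := h.quat_struct Q₂ e₂
    have hd : (2 : ℤ) ∣ i₂ - i₁ := by omega
    obtain ⟨d, hd⟩ := hd
    refine ⟨x ^ d, ?_⟩
    ext t
    rw [mem_map_conj]
    rcases h.cases t with ⟨j, rfl⟩ | ⟨j, rfl⟩
    · rw [S1190.inv_conj_x_x, hx₁, hx₂]
    · rw [S1190.inv_conj_x_xy h, hxy₁, hxy₂]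
      have e : j + (4 * q - 2) * d - i₁ = (j - i₂) + 2 * q * (2 * d) := by
        linear_combination hd
      rw [e]
      exact Int.dvd_add_left ⟨_, rfl⟩
  · rintro Q ⟨e⟩
    obtain ⟨i, hi, hxQ, hxyQ⟩ := h.quat_struct Q e
    have hgQ : x ^ i * y ∈ Q := (hxyQ i).mpr (by simp)
    have hx2q : x ^ (2 * q : ℤ) ∈ Q := (hxQ _).mpr (dvd_refl _)
    constructor
    · have hcQ : ∀ c ∈ Subgroup.centralizer (Q : Set S), c ∈ Q := by
        intro c hc
        rw [Subgroup.mem_centralizer_iff] at hc
        rcases h.cases c with ⟨l, rfl⟩ | ⟨l, rfl⟩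
        · have h1 := hc _ hgQ
          rw [h.mul_xy_x, QD.mul_x_xy] at h1
          have h2 := mul_right_cancel h1
          rw [h.zpow_eq_iff] at h2
          obtain ⟨c', hc'⟩ := h2
          rw [hxQ]
          have h3 : (2 * q - 1 : ℤ) * l = 4 * q * c' := by
            have : 2 * ((2 * q - 1 : ℤ) * l) = 2 * (4 * q * c') := by linear_combination hc'
            exact mul_left_cancel₀ (by norm_num) this
          exact ⟨2 * ((2 * q - 1) * c' - (q - 1) * l), by linear_combination (2 * (q : ℤ) - 1) * h3⟩
        · exfalso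
          have h1 := hc _ hx2q
          rw [h.mul_xy_x, QD.mul_x_xy] at h1
          have h2 := mul_right_cancel h1
          rw [h.zpow_eq_iff] at h2
          obtain ⟨c', hc'⟩ := h2
          -- 2q + l - (l + (4q-1) 2q) = 8 q c' → 4q - 8q² = 8 q c'
          have h3 : (1 : ℤ) = 2 * (q + c') := by
            have : (4 * q : ℤ) * 1 = 4 * q * (2 * (q + c')) := by linear_combination hc'
            exact mul_left_cancel₀ (by omega) this
          omega
      ext c
      constructor
      · intro hc
        refine ⟨⟨c, hcQ c hc⟩, ?_, rfl⟩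
        refine Subgroup.mem_center_iff.mpr ?_
        intro t
        apply Subtype.ext
        rw [Subgroup.mem_centralizer_iff] at hc
        exact hc t t.2
      · rintro ⟨z, hz, rfl⟩
        rw [Subgroup.mem_centralizer_iff]
        intro t ht
        have hz' := Subgroup.mem_center_iff.mp hz
        have := hz' ⟨t, ht⟩
        exact congrArg Subtype.val this
    · rw [Subgroup.relIndex_eq_two_iff_exists_notMem_and]
      have hfin : Finite (Q : Set S) := inferInstance
      refine ⟨x ^ (q : ℤ), ?_, ?_, ?_⟩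
      · apply Subgroup.mem_normalizer_fintype
        intro t ht
        rcases h.cases t with ⟨l, rfl⟩ | ⟨l, rfl⟩
        · have : x ^ (q : ℤ) * x ^ l * (x ^ (q : ℤ))⁻¹ = x ^ l := by
            rw [← zpow_neg, ← zpow_add, ← zpow_add]; congr 1; ring
          rw [this]; exact ht
        · rw [h.conj_x_xy]
          have ht' : x ^ l * y ∈ Q := ht
          rw [hxyQ] at ht'
          show x ^ (l + (2 - 4 * q) * q : ℤ) * y ∈ Q
          rw [hxyQ]
          obtain ⟨c, hc⟩ := ht'
          exact ⟨c + 1 - 2 * q, by linear_combination hc⟩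
      · rw [hxQ]
        rintro ⟨c, hc⟩
        have h1 : (1 : ℤ) = 2 * c := by
          have : (q : ℤ) * 1 = q * (2 * c) := by linear_combination hc
          exact mul_left_cancel₀ (by omega) this
        omega
      · intro b hb
        have hb' := (Subgroup.mem_normalizer_iff.mp hb) _ |>.mp hgQ
        rcases h.cases b with ⟨l, rfl⟩ | ⟨l, rfl⟩
        · rw [h.conj_x_xy, hxyQ] at hb'
          obtain ⟨c, hc⟩ := hb'
          -- (2-4q) l = 2 q c → (1-2q) l = q c
          have h3 : (1 - 2 * q : ℤ) * l = q * c := by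
            have : 2 * ((1 - 2 * q : ℤ) * l) = 2 * (q * c) := by linear_combination hc
            exact mul_left_cancel₀ (by norm_num) this
          have h4 : l = q * ((1 + 2 * q) * c + 4 * q * l) := by
            linear_combination (1 + 2 * (q : ℤ)) * h3
          rcases Int.even_or_odd' ((1 + 2 * q) * c + 4 * q * l) with ⟨m, hm | hm⟩
          · right
            rw [hxQ]
            exact ⟨m, by rw [hm] at h4; linear_combination h4⟩
          · left
            rw [← zpow_add, hxQ]
            exact ⟨m + 1, by rw [hm] at h4; linear_combination h4⟩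
        · rw [h.conj_xy_xy, hxyQ] at hb'
          obtain ⟨c, hc⟩ := hb'
          have h3 : (2 * q - 1 : ℤ) * (i - l) = q * c := by
            have : 2 * ((2 * q - 1 : ℤ) * (i - l)) = 2 * (q * c) := by linear_combination hc
            exact mul_left_cancel₀ (by norm_num) this
          have h4 : i - l = q * (4 * q * (i - l) - (2 * q + 1) * c) := by
            linear_combination (-(2 * (q : ℤ) + 1)) * h3
          rcases Int.even_or_odd' (4 * q * (i - l) - (2 * q + 1) * c) with ⟨m, hm | hm⟩
          · right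
            rw [hxyQ]
            exact ⟨-m, by rw [hm] at h4; linear_combination (-1 : ℤ) * h4⟩
          · left
            rw [h.mul_xy_x, hxyQ]
            exact ⟨-m - 1 + 2 * q, by rw [hm] at h4; linear_combination (-1 : ℤ) * h4⟩

end Cfsg.Agent.S1191
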