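import Cfsg.Statements.S1217
import Cfsg.Agent.Lib.Helper20.GL2Sylow
-- import your own Cfsg.Agent.* helpers here

set_option autoImplicit false
set_option linter.style.haveILetI false
set_option linter.unusedSimpArgs false
open scoped MatrixGroups
open Cfsg
open Cfsg.Agent.Lib.Helper20

namespace Cfsg.Agent.S1217

/-- Let F be a finite field with q elements, q odd, and P a Sylow 2-subgroup of GL(2,F). If q ≡ 3 (mod 4) then P is quasi-dihedral; if q ≡ 1 (mod 4) then P is wreathed. -/
theorem result {F : Type*} [Field F] [Fintype F] (P : Sylow 2 (GL (Fin 2) F)) : (Fintype.card F % 4 = 3 → Cfsg.IsQuasiDihedral (P : Subgroup (GL (Fin 2) F))) ∧ (Fintype.card F % 4 = 1 → Cfsg.IsWreathed (P : Subgroup (GL (Fin 2) F))) := by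
  classical
  have hq1 : 1 < Fintype.card F := Fintype.one_lt_card
  have hcardG : Nat.card (GL (Fin 2) F) =
      (Fintype.card F - 1) ^ 2 * (Fintype.card F + 1) * Fintype.card F := by
    rw [Matrix.card_GL_field, Fin.prod_univ_two]
    simp only [Fin.val_zero, Fin.val_one, pow_zero, pow_one]
    exact gl2_card_eq _ (by omega)
  constructor
  · intro h3
    obtain ⟨k, m, hm, hkm⟩ := Nat.exists_eq_two_pow_mul_odd (n := Fintype.card F + 1) (by omega)
    obtain ⟨t, rfl⟩ := hm
    obtain ⟨s, hs⟩ : ∃ s, Fintype.card F = 4 * s + 3 := ⟨Fintype.card F / 4, by omega⟩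
    have hk : 2 ≤ k := by
      by_contra hlt
      have : k = 0 ∨ k = 1 := by omega
      rcases this with rfl | rfl <;> omega
    have h2k : 1 ≤ 2 ^ k := Nat.one_le_two_pow
    have hq : Fintype.card F = 2 ^ (k + 1) * t + (2 ^ k - 1) := by
      have : Fintype.card F + 1 = 2 ^ (k + 1) * t + 2 ^ k := by rw [hkm]; ring
      omega
    have hqm1 : Fintype.card F - 1 = 2 * (2 * s + 1) := by omega
    have hdvd : 2 ^ (k + 1) ∣ Fintype.card F ^ 2 - 1 := by
      rw [sq_sub_one_eq _ (by omega), hqm1, hkm]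
      exact ⟨(2 * s + 1) * (2 * t + 1), by ring⟩
    have hoddq : Odd (Fintype.card F) := by
      rw [Nat.odd_iff]; omega
    have hcardP : Nat.card P = 2 ^ (k + 1 + 1) := by
      apply sylow_two_card_of_eq P (k + 1 + 1) ((2 * s + 1) ^ 2 * (2 * t + 1) * Fintype.card F)
      · apply Odd.mul _ hoddq
        apply Odd.mul
        · apply Odd.pow
          exact ⟨s, rfl⟩
        · exact ⟨t, rfl⟩
      · rw [hcardG, hqm1, hkm]
        ring
    obtain ⟨p, hp⟩ := CharP.exists F
    haveI := hp
    haveI : Fact p.Prime := ⟨CharP.char_is_prime F p⟩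
    obtain ⟨x, y, hx, hy, hrel⟩ := gl2_qd_elements (F := F) (K := FiniteField.Extension F p 2)
      (FiniteField.finrank_extension F p 2) k t hk hq hdvd
    exact isQuasiDihedral_sylow_of_elements P (k + 1) (by omega) hcardP x y hx hy
      (by simpa using hrel)
  · intro h1
    obtain ⟨n, m, hm, hnm⟩ := Nat.exists_eq_two_pow_mul_odd (n := Fintype.card F - 1) (by omega)
    obtain ⟨t, rfl⟩ := hm
    obtain ⟨s, hs⟩ : ∃ s, Fintype.card F = 4 * s + 1 := ⟨Fintype.card F / 4, by omega⟩
    have hn : 2 ≤ n := by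
      by_contra hlt
      have : n = 0 ∨ n = 1 := by omega
      rcases this with rfl | rfl <;> omega
    have hqp1 : Fintype.card F + 1 = 2 * (2 * s + 1) := by omega
    have hoddq : Odd (Fintype.card F) := by
      rw [Nat.odd_iff]; omega
    have hcardP : Nat.card P = 2 ^ (2 * n + 1) := by
      apply sylow_two_card_of_eq P (2 * n + 1) ((2 * t + 1) ^ 2 * (2 * s + 1) * Fintype.card F)
      · apply Odd.mul _ hoddq
        apply Odd.mul
        · apply Odd.pow
          exact ⟨t, rfl⟩
        · exact ⟨s, rfl⟩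
      · rw [hcardG, hqp1, hnm]
        ring
    have hcardU : Nat.card Fˣ = Fintype.card F - 1 := by
      rw [Nat.card_units, Nat.card_eq_fintype_card]
    obtain ⟨a, ha⟩ := exists_orderOf_eq_of_dvd_card (G := Fˣ) (2 ^ n)
      (by rw [hcardU, hnm]; exact dvd_mul_right _ _)
    obtain ⟨e1, e2, e3, e4⟩ := gl2_wreathed_elements (F := F) a
    exact isWreathed_sylow_of_elements P n hn hcardP _ _ _ (e1.trans ha) e2 e3 orderOf_swapGL e4

end Cfsg.Agent.S1217
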