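import Cfsg.Statements.S5290
import Cfsg.Agent.Lib.Helper87.NormalChain
import Cfsg.Agent.Lib.Helper84.FusionIso
import Cfsg.Agent.Lib.Helper88.InnerSat

set_option autoImplicit false
open Cfsg

namespace Cfsg.Agent.S5290

open Cfsg.FusionSystem Cfsg.Agent.Lib.Helper87
open Cfsg.Agent.Lib.Helper88 (inner_saturated eq_conjHom)

/-- Frattini condition for the inner system of a subgroup normal in `F`. -/
theorem frattini_of_normal {Ω : Type*} [Group Ω] {S : Subgroup Ω} (F : Cfsg.FusionSystem S)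
    {Q : Subgroup Ω} (hN : F.IsNormal Q) (P : Subgroup Ω) (hPQ : P ≤ Q) (φ : P →* Ω)
    (hφ : φ ∈ F.Hom P) :
    ∃ α ∈ F.autGroup Q, ∃ φ₀ ∈ (Cfsg.innerFusionSystem Q).Hom P,
      ∀ (x : P) (hx : φ₀ x ∈ Q), φ x = ((α ⟨φ₀ x, hx⟩ : Q) : Ω) := by
  obtain ⟨ψ, hψ, hψe, hψQ⟩ := hN.2 P φ hφ
  rw [map_subgroupOf_eq_iff] at hψQ
  have hψ' := restrict_mem F hψ (le_sup_right : Q ≤ P ⊔ Q)
  have hr : (ψ.comp (Subgroup.inclusion (le_sup_right : Q ≤ P ⊔ Q))).range = Q := by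
    apply le_antisymm
    · rintro _ ⟨x, rfl⟩
      exact hψQ.1 _ x.2
    · intro q hq
      obtain ⟨y, hy, hyq⟩ := hψQ.2 q hq
      exact ⟨⟨y, hy⟩, hyq⟩
  obtain ⟨e, he, hex⟩ := Cfsg.Agent.Lib.Helper84.exists_iso_of_hom_range F hψ' hr
  refine ⟨e, (Cfsg.Agent.Lib.Helper84.mem_autGroup_iff F hN.1 e).mpr he, P.subtype,
    ⟨hPQ, 1, Q.one_mem, fun x => by simp⟩, ?_⟩
  intro x hx
  rw [hex, ← hψe x]
  rfl

/-- Characteristic subgroups of `Q` are strongly closed when the inner system of `Q` has the Frattini property. -/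
theorem stronglyClosed_of_frattini {Ω : Type*} [Group Ω] {S : Subgroup Ω} (F : Cfsg.FusionSystem S)
    {Q : Subgroup Ω} (hQ : Q ≤ S)
    (hfr : ∀ (P : Subgroup Ω), P ≤ Q → ∀ (φ : P →* Ω), φ ∈ F.Hom P →
      ∃ α ∈ F.autGroup Q, ∃ φ₀ ∈ (Cfsg.innerFusionSystem Q).Hom P,
        ∀ (x : P) (hx : φ₀ x ∈ Q), φ x = ((α ⟨φ₀ x, hx⟩ : Q) : Ω))
    (K : Subgroup Q) [hK : K.Characteristic] : F.StronglyClosed (K.map Q.subtype) := by
  have hKQ : K.map Q.subtype ≤ Q := by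
    rintro _ ⟨z, -, rfl⟩
    exact z.2
  refine ⟨hKQ.trans hQ, fun R hR φ hφ x => ?_⟩
  obtain ⟨α, -, φ₀, ⟨hRQ, g, hg, hφ₀⟩, hx⟩ := hfr R (hR.trans hKQ) φ hφ
  have hmem : φ₀ x ∈ Q := by
    rw [hφ₀ x]
    exact Q.mul_mem (Q.mul_mem hg (hRQ x.2)) (Q.inv_mem hg)
  rw [hx x hmem]
  obtain ⟨z, hz, hzx⟩ := hR x.2
  have hchar : K.map (α : Q ≃* Q).toMonoidHom = K := Subgroup.characteristic_iff_map_eq.mp hK α
  have hKn : K.Normal := inferInstance
  have h1 : (⟨φ₀ x, hmem⟩ : Q) = ⟨g, hg⟩ * z * (⟨g, hg⟩ : Q)⁻¹ := by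
    apply Subtype.ext
    show φ₀ x = g * (z : Ω) * g⁻¹
    rw [hφ₀ x]
    have : (z : Ω) = x := hzx
    rw [this]
  have h2 : (⟨φ₀ x, hmem⟩ : Q) ∈ K := by
    rw [h1]
    exact hKn.conj_mem z hz _
  have h3 : α ⟨φ₀ x, hmem⟩ ∈ K := by
    rw [← hchar]
    exact ⟨_, h2, rfl⟩
  exact ⟨_, h3, rfl⟩

/-- Let F be a saturated fusion system over a finite p-group S and Q a subgroup of S. Then Q is normal in F (F = N_F(Q)) if and only if the inner fusion system of Q, consisting of the conjugations by elements of Q on subgroups of Q, is a weakly normal subsystem of F (both saturated, Q strongly closed, invariant under F-conjugation, with the Frattini property). -/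
theorem result {Ω : Type*} [Group Ω] {S : Subgroup Ω} [Finite S] (p : ℕ) [Fact p.Prime] (hS : IsPGroup p S)
    (F : Cfsg.FusionSystem S) (hF : F.IsSaturated p)
    (Q : Subgroup Ω) (hQ : Q ≤ S) :
    F.IsNormal Q ↔ (Cfsg.innerFusionSystem Q).IsWeaklyNormalIn F p := by
  have hQp : IsPGroup p Q := hS.of_injective (Subgroup.inclusion hQ) (Subgroup.inclusion_injective hQ)
  constructor
  · intro hN
    refine ⟨inner_saturated hQp, hF, ?_, stronglyClosed_of_isNormal F hN, ?_, ?_⟩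
    · -- subsystem
      intro P φ hφ
      obtain ⟨hP, g, hg, h⟩ := hφ
      rw [eq_conjHom h]
      exact F.conj_mem (hP.trans hQ) (hQ hg)
    · -- invariance
      intro P hPT φ hφ α _
      obtain ⟨hP, g, hg, h⟩ := hφ
      have hle : (P.subgroupOf Q).map (Q.subtype.comp α.toMonoidHom) ≤ Q := by
        rintro _ ⟨y, -, rfl⟩
        exact (α y).2
      refine ⟨conjHom _ ((α ⟨g, hg⟩ : Q) : Ω),
        (Cfsg.innerFusionSystem Q).conj_mem hle (α ⟨g, hg⟩).2, ?_⟩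
      intro x hφx hαx
      show ((α ⟨g, hg⟩ : Q) : Ω) * ((α ⟨x, hPT x.2⟩ : Q) : Ω) * ((α ⟨g, hg⟩ : Q) : Ω)⁻¹
        = ((α ⟨φ x, hφx⟩ : Q) : Ω)
      have e : (⟨φ x, hφx⟩ : Q) = ⟨g, hg⟩ * ⟨x, hPT x.2⟩ * (⟨g, hg⟩ : Q)⁻¹ := Subtype.ext (h x)
      rw [e, map_mul, map_mul, map_inv]
      rfl
    · -- Frattini
      intro P hPT φ hφ
      exact frattini_of_normal F hN P hPT φ hφ
  · rintro ⟨-, -, -, hsc, -, hfr⟩
    apply isNormal_of_weaklyClosed_of_le_alperin hS F hF (weaklyClosed_of_stronglyClosed F hsc)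
    intro R hR
    obtain ⟨-, -, hcen, hrad⟩ := hR
    obtain ⟨n, hn⟩ := ucs_eq_top hS hQ
    have := le_of_centric_radical hS F hsc (ucs Q) (ucs_zero Q)
      (ucs_mono Q) (ucs_le Q) (ucs_comm Q)
      (fun j => weaklyClosed_of_stronglyClosed F
        (stronglyClosed_of_frattini F hQ hfr (Subgroup.upperCentralSeries Q j))) hcen.1
      (hcen.2 R (isConj_refl F hcen.1)) hrad n
    rwa [hn] at this

end Cfsg.Agent.S5290
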