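import Cfsg.Statements.S1445
-- import your own Cfsg.Agent.* helpers here
import Cfsg.Agent.Lib.Helper24.HHFit

set_option autoImplicit false
set_option linter.style.haveILetI false
open Cfsg

namespace Cfsg.Agent.S1445

open Cfsg.Agent.Lib.Helper24
open scoped commutatorElement

/-- Let G be a solvable group of odd order, K a normal subgroup and R a subgroup with G = KR and the orders of K and R coprime. Suppose K ∩ C_G(x) = K ∩ C_G(R) for every non-identity x ∈ R, and F(K) ∩ C_G(R) = 1. Then [K, R] is contained in the Fitting subgroup of K. -/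
theorem result {G : Type*} [Group G] [Finite G] [Group.IsSolvable G] (hodd : Odd (Nat.card G)) (K R : Subgroup G) [K.Normal] (hKR : K ⊔ R = ⊤) (hcop : (Nat.card K).Coprime (Nat.card R))
    (hprime : ∀ x ∈ R, x ≠ 1 → K ⊓ Subgroup.centralizer ({x} : Set G) = (K ⊓ Subgroup.centralizer (R : Set G)))
    (hF : Cfsg.fittingOf K ⊓ Subgroup.centralizer (R : Set G) = ⊥) :
    ⁅K, R⁆ ≤ Cfsg.fittingOf K := by
  classical
  by_cases hR1 : R = ⊥
  · rw [hR1, Subgroup.commutator_bot_right]
    exact bot_le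
  have hKn : K.Normal := inferInstance
  set F : Subgroup G := Cfsg.fittingOf K with hFdef
  have hFK : F ≤ K := Cfsg.Agent.Lib.Helper23.fittingOf_le K
  haveI hFn : F.Normal := by
    have h1 := normalizer_le_normalizer_map_of_characteristic K (fittingSubgroup ↥K)
    rw [Subgroup.normalizer_eq_top_iff.mpr hKn] at h1
    exact Subgroup.normalizer_eq_top_iff.mp (top_le_iff.mp h1)
  -- an element of prime order in `R`
  have hRcard : Nat.card R ≠ 1 := fun h => hR1 (Subgroup.card_eq_one.mp h)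
  obtain ⟨r, hr, hrR⟩ := Nat.exists_prime_and_dvd hRcard
  haveI : Fact r.Prime := ⟨hr⟩
  obtain ⟨x', hx'⟩ := exists_prime_orderOf_dvd_card' r hrR
  set x : G := (x' : G) with hx
  have hxR : x ∈ R := x'.2
  have hxord : orderOf x = r := by rw [hx, Subgroup.orderOf_coe, hx']
  have hxr : x ^ r = 1 := by rw [← hxord]; exact pow_orderOf_eq_one x
  have hx1 : x ≠ 1 := by
    intro h
    rw [h, orderOf_one] at hxord
    exact hr.one_lt.ne hxord
  have hrK : ¬ r ∣ Nat.card K := by
    intro h
    have h1 : r ∣ Nat.gcd (Nat.card K) (Nat.card R) := Nat.dvd_gcd h hrR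
    rw [hcop] at h1
    exact hr.one_lt.ne' (Nat.dvd_one.mp h1)
  have hfix : ∀ f ∈ Cfsg.fittingOf K, x * f = f * x → f = 1 := by
    intro f hf hxf
    have h1 : f ∈ K ⊓ Subgroup.centralizer ({x} : Set G) := by
      refine ⟨hFK hf, ?_⟩
      show f ∈ Subgroup.centralizer ({x} : Set G)
      rw [Subgroup.mem_centralizer_singleton_iff]
      exact hxf.symm
    rw [hprime x hxR hx1] at h1
    have h2 : f ∈ Cfsg.fittingOf K ⊓ Subgroup.centralizer (R : Set G) := ⟨hf, h1.2⟩
    rw [hF, Subgroup.mem_bot] at h2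
    exact h2
  have hKs : Group.IsSolvable K := inferInstance
  have hclaim := HH.commutator_mem_fittingOf hodd K hKs x hr hxr hrK hfix
  set X : Subgroup G := Subgroup.zpowers x with hX
  have hXK : X ≤ Subgroup.normalizer (K : Set G) := by
    rw [Subgroup.normalizer_eq_top_iff.mpr hKn]
    exact le_top
  -- `[K, X] ≤ F`
  have hKXF : ⁅K, X⁆ ≤ F := by
    rw [Subgroup.commutator_le]
    intro k hk y hy
    have hy' : y ∈ Submonoid.powers x := mem_powers_iff_mem_zpowers.mpr hy
    obtain ⟨n, rfl⟩ := hy'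
    show ⁅k, x ^ n⁆ ∈ F
    clear hy
    induction n with
    | zero =>
      rw [pow_zero, commutatorElement_def]
      simp
    | succ n ih =>
      have e : ⁅k, x ^ (n + 1)⁆ = (k * x * k⁻¹ * x⁻¹) * (x * ⁅k, x ^ n⁆ * x⁻¹) := by
        rw [commutatorElement_def, commutatorElement_def, pow_succ']
        group
      rw [e]
      exact F.mul_mem (hclaim k hk) (hFn.conj_mem _ ih x)
  -- `K = C_K(R) F`
  have hXcop : (Nat.card X).Coprime (Nat.card K) := by
    rw [hX, Nat.card_zpowers, hxord]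
    exact (Nat.Prime.coprime_iff_not_dvd hr).mpr hrK
  have hsolvX : Group.IsSolvable X := by
    have : ∀ a b : X, a * b = b * a := by
      rintro ⟨a, k, rfl⟩ ⟨b, l, rfl⟩
      apply Subtype.ext
      show x ^ k * x ^ l = x ^ l * x ^ k
      rw [← zpow_add, ← zpow_add, add_comm]
    exact Group.isSolvable_of_comm this
  have hdec := commutator_sup_centralizer_eq X K hXK hXcop (Or.inl hsolvX)
  have hCX : K ⊓ Subgroup.centralizer (X : Set G) ≤ K ⊓ Subgroup.centralizer (R : Set G) := by
    rw [← hprime x hxR hx1]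
    intro c hc
    refine ⟨hc.1, ?_⟩
    show c ∈ Subgroup.centralizer ({x} : Set G)
    rw [Subgroup.mem_centralizer_singleton_iff]
    exact (Subgroup.mem_centralizer_iff.mp hc.2 x (Subgroup.mem_zpowers x)).symm
  have hKle : K ≤ (K ⊓ Subgroup.centralizer (R : Set G)) ⊔ F := by
    refine le_of_eq_of_le hdec.symm ?_
    rw [sup_comm]
    exact sup_le_sup hCX hKXF
  have hCF : K ⊓ Subgroup.centralizer (R : Set G) ≤ Subgroup.normalizer (F : Set G) := by
    rw [Subgroup.normalizer_eq_top_iff.mpr hFn]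
    exact le_top
  rw [Subgroup.commutator_le]
  intro k hk y hy
  obtain ⟨c, hc, f, hf, hkcf⟩ := exists_mul_of_mem_sup_of_le_normalizer _ F hCF k (hKle hk)
  have hcy : y * c = c * y := Subgroup.mem_centralizer_iff.mp hc.2 y hy
  have e : ⁅k, y⁆ = c * (f * (y * f⁻¹ * y⁻¹)) * c⁻¹ := by
    rw [commutatorElement_def, hkcf]
    have h1 : c * f * y * (c * f)⁻¹ * y⁻¹ = c * f * y * f⁻¹ * (c⁻¹ * y⁻¹) := by group
    have h2 : c⁻¹ * y⁻¹ = y⁻¹ * c⁻¹ := by
      rw [← mul_inv_rev, ← mul_inv_rev, hcy]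
    rw [h1, h2]
    group
  rw [e]
  exact hFn.conj_mem _ (F.mul_mem hf (hFn.conj_mem _ (F.inv_mem hf) y)) c

end Cfsg.Agent.S1445
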