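import Cfsg.Statements.S3747
import Cfsg.Agent.Lib.Helper62.MinNormal
import Cfsg.Agent.Lib.Helper62.Subnormal
import Cfsg.Agent.Lib.Helper21.Layer
import Cfsg.Agent.Lib.Helper22.FStar
import Cfsg.Agent.Lib.Helper91.Components

set_option autoImplicit false
open Cfsg

namespace Cfsg.Agent.S3747

open Cfsg.Agent.Lib.Helper62

variable {G : Type*} [Group G]

/-- conjugate of a component is a component -/
theorem isComponent_cj (g : G) {K : Subgroup G} (hK : Cfsg.IsComponent K) :
    Cfsg.IsComponent (cj g K) :=
  Cfsg.Agent.Lib.Helper22.isComponent_map_equiv (MulAut.conj g) hK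

theorem center_cj_eq_bot (g : G) {K : Subgroup G} (hK : Subgroup.center ↥K = ⊥) :
    Subgroup.center ↥(cj g K) = ⊥ := by
  have hinj : Function.Injective (MulAut.conj g).toMonoidHom := (MulAut.conj g).injective
  have e : K ≃* cj g K := K.equivMapOfInjective (MulAut.conj g).toMonoidHom hinj
  rw [← Cfsg.Agent.Lib.Helper91.map_center_mulEquiv e, hK, Subgroup.map_bot]

/-- the join of all conjugates -/
theorem normalClosure_eq_iSup (K : Subgroup G) :
    Subgroup.normalClosure (K : Set G) = ⨆ g : G, cj g K := by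
  apply le_antisymm
  · have hn : (⨆ g : G, cj g K).Normal := by
      constructor
      intro x hx g
      have h1 : g * x * g⁻¹ ∈ cj g (⨆ h : G, cj h K) := by
        rw [mem_cj]
        have : g⁻¹ * (g * x * g⁻¹) * g = x := by group
        rw [this]; exact hx
      have h2 : cj g (⨆ h : G, cj h K) ≤ ⨆ h : G, cj h K := by
        show Subgroup.map _ _ ≤ _
        rw [Subgroup.map_iSup]
        apply iSup_le
        intro h
        have : Subgroup.map (MulAut.conj g).toMonoidHom (cj h K) = cj (g * h) K := (cj_mul g h K).symm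
        rw [this]
        exact le_iSup (fun h => cj h K) (g * h)
      exact h2 h1
    apply Subgroup.normalClosure_le_normal
    have : K ≤ ⨆ g : G, cj g K := by
      have h1 := le_iSup (fun g => cj g K) (1 : G)
      simpa [cj_one] using h1
    exact this
  · apply iSup_le
    intro g x hx
    rw [mem_cj] at hx
    have h1 : g⁻¹ * x * g ∈ Subgroup.normalClosure (K : Set G) := Subgroup.subset_normalClosure hx
    have h2 := (Subgroup.normalClosure_normal (s := (K : Set G))).conj_mem _ h1 g
    have : g * (g⁻¹ * x * g) * g⁻¹ = x := by group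
    rwa [this] at h2

/-- centre of the normal closure of a centreless component is trivial -/
theorem center_normalClosure [Finite G] {K : Subgroup G} (hK : Cfsg.IsComponent K)
    (hZ : Subgroup.center ↥K = ⊥) :
    (Subgroup.center ↥(Subgroup.normalClosure (K : Set G))).map
      (Subgroup.normalClosure (K : Set G)).subtype = ⊥ := by
  let ι := {L : Subgroup G // ∃ g : G, L = cj g K}
  have hfin : Finite ι := inferInstance
  have hsup : Subgroup.normalClosure (K : Set G) = ⨆ i : ι, (i : Subgroup G) := by
    rw [normalClosure_eq_iSup]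
    apply le_antisymm
    · apply iSup_le
      intro g
      exact le_iSup (fun i : ι => (i : Subgroup G)) ⟨cj g K, g, rfl⟩
    · apply iSup_le
      rintro ⟨L, g, rfl⟩
      exact le_iSup (fun g => cj g K) g
  have hcomm : Pairwise fun i j : ι => ∀ x y : G, x ∈ (i : Subgroup G) → y ∈ (j : Subgroup G) →
      Commute x y := by
    rintro ⟨L₁, g₁, rfl⟩ ⟨L₂, g₂, rfl⟩ hij x y hx hy
    have h := Cfsg.Agent.Lib.Helper21.components_commute (isComponent_cj g₁ hK) (isComponent_cj g₂ hK)
      (fun h => hij (Subtype.ext h))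
    rw [Subgroup.commutator_eq_bot_iff_le_centralizer] at h
    have := h hx
    rw [Subgroup.mem_centralizer_iff] at this
    exact (this y hy).symm
  have := Cfsg.Agent.Lib.Helper21.center_iSup_of_commute (fun i : ι => (i : Subgroup G)) hcomm
  rw [← hsup] at this
  rw [this]
  apply le_antisymm _ bot_le
  apply iSup_le
  rintro ⟨L, g, rfl⟩
  show Subgroup.map _ (Subgroup.center ↥(cj g K)) ≤ ⊥
  rw [center_cj_eq_bot g hZ, Subgroup.map_bot]

/-- part 1 -/
theorem part1 [Finite G] (K : Subgroup G) (hK : Cfsg.IsComponent K) (hZ : Subgroup.center ↥K = ⊥) :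
    Subgroup.normalClosure (K : Set G) ≠ ⊥ ∧ ∀ N : Subgroup G, N.Normal →
      N ≤ Subgroup.normalClosure (K : Set G) → N = ⊥ ∨ N = Subgroup.normalClosure (K : Set G) := by
  constructor
  · intro h
    have h1 : K ≤ ⊥ := h ▸ Subgroup.le_normalClosure
    exact Cfsg.Agent.Lib.Helper22.component_ne_bot hK (le_bot_iff.mp h1)
  · intro N hN hNC
    rcases Cfsg.Agent.Lib.Helper21.component_le_or_commutes_normal hK hN with h | h
    · right
      apply le_antisymm hNC
      exact Subgroup.normalClosure_le_normal h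
    · left
      rw [eq_bot_iff, ← center_normalClosure hK hZ]
      intro n hn
      rw [Cfsg.Agent.Lib.Helper21.mem_map_center_iff]
      refine ⟨hNC hn, ?_⟩
      have hle : Subgroup.normalClosure (K : Set G) ≤ Subgroup.centralizer (N : Set G) := by
        apply Subgroup.normalClosure_le_normal
        rw [Subgroup.commutator_eq_bot_iff_le_centralizer] at h
        intro k hk
        rw [SetLike.mem_coe, Subgroup.mem_centralizer_iff]
        intro m hm
        have := h hm
        rw [Subgroup.mem_centralizer_iff] at this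
        exact (this k hk).symm
      intro k hk
      have := hle hk
      rw [Subgroup.mem_centralizer_iff] at this
      exact (this n hn).symm


/-! ### part 2 -/

theorem irrIn_commute {N S T : Subgroup G} (hS : IrrIn N N S) (hT : IrrIn N N T) (hne : S ≠ T) :
    ∀ s ∈ S, ∀ t ∈ T, s * t = t * s := by
  apply commute_of_inf_eq_bot (hS.2.1.trans hT.2.2.1) (hT.2.1.trans hS.2.2.1)
  rcases hS.2.2.2 (S ⊓ T) inf_le_left (le_normalizer_inf hS.2.2.1 hT.2.2.1) with h | h
  · exact h
  · exfalso
    have hST : S ≤ T := inf_eq_left.mp h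
    rcases hT.2.2.2 S hST hS.2.2.1 with h' | h'
    · exact hS.1 h'
    · exact hne h'

theorem eq_iSup_cj {N S : Subgroup G} (hN : N.Normal)
    (hmin : ∀ N' : Subgroup G, N'.Normal → N' ≤ N → N' = ⊥ ∨ N' = N) (hS : IrrIn N N S) :
    N = ⨆ g : G, cj g S := by
  rw [← normalClosure_eq_iSup]
  have hle : Subgroup.normalClosure (S : Set G) ≤ N := Subgroup.normalClosure_le_normal hS.2.1
  rcases hmin _ inferInstance hle with h | h
  · exfalso
    have h1 : S ≤ ⊥ := h ▸ Subgroup.le_normalClosure
    exact hS.1 (le_bot_iff.mp h1)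
  · exact h.symm

theorem irrIn_cj' {N S : Subgroup G} (hN : N.Normal) (hS : IrrIn N N S) (g : G) :
    IrrIn N N (cj g S) := by
  have hg : g ∈ Subgroup.normalizer (N : Set G) := by
    rw [Subgroup.normalizer_eq_top_iff.mpr hN]; trivial
  exact irrIn_cj hg hg hS

theorem le_normalizer_of_irrIn {N S : Subgroup G} (hN : N.Normal)
    (hmin : ∀ N' : Subgroup G, N'.Normal → N' ≤ N → N' = ⊥ ∨ N' = N) (hS : IrrIn N N S)
    {L : Subgroup G} (hLS : L ≤ S) (hSL : S ≤ Subgroup.normalizer (L : Set G)) :
    N ≤ Subgroup.normalizer (L : Set G) := by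
  calc N = ⨆ g : G, cj g S := eq_iSup_cj hN hmin hS
    _ ≤ Subgroup.normalizer (L : Set G) := by
      apply iSup_le
      intro g
      by_cases h : cj g S = S
      · rw [h]; exact hSL
      · apply le_normalizer_of_commute
        intro k hk x hx
        exact irrIn_commute (irrIn_cj' hN hS g) hS h k hk x (hLS hx)

theorem le_normalizer_map_subtype {S : Subgroup G} (H : Subgroup S) [hH : H.Normal] :
    S ≤ Subgroup.normalizer ((H.map S.subtype : Subgroup G) : Set G) := by
  rw [← Subgroup.normal_subgroupOf_iff_le_normalizer (Subgroup.map_subtype_le H)]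
  have : (H.map S.subtype).subgroupOf S = H :=
    Subgroup.comap_map_eq_self_of_injective (Subgroup.subtype_injective S) H
  rw [this]; exact hH

theorem isSimpleGroup_of_irrIn {N S : Subgroup G} (hN : N.Normal)
    (hmin : ∀ N' : Subgroup G, N'.Normal → N' ≤ N → N' = ⊥ ∨ N' = N) (hS : IrrIn N N S) :
    IsSimpleGroup S := by
  have hnt : Nontrivial S := (Subgroup.nontrivial_iff_ne_bot S).mpr hS.1
  refine { toNontrivial := hnt, eq_bot_or_eq_top_of_normal := ?_ }
  intro H hH
  have h1 := le_normalizer_of_irrIn hN hmin hS (Subgroup.map_subtype_le H) (le_normalizer_map_subtype H)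
  have hc : (H.map S.subtype).subgroupOf S = H :=
    Subgroup.comap_map_eq_self_of_injective (Subgroup.subtype_injective S) H
  rcases hS.2.2.2 _ (Subgroup.map_subtype_le H) h1 with h | h
  · left
    exact (Subgroup.map_eq_bot_iff_of_injective _ (Subgroup.subtype_injective S)).mp h
  · right
    rw [← hc, h]
    exact Subgroup.subgroupOf_self S

theorem isSubnormal_of_irrIn {N S : Subgroup G} (hN : N.Normal) (hS : IrrIn N N S) :
    S.IsSubnormal := by
  refine Subgroup.IsSubnormal.step S N hS.2.1 hN.isSubnormal ?_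
  rw [Subgroup.normal_subgroupOf_iff_le_normalizer hS.2.1]
  exact hS.2.2.1

theorem isNilpotent_of_center_eq_top {X : Type*} [Group X] (h : Subgroup.center X = ⊤) :
    Group.IsNilpotent X :=
  ⟨⟨1, by rw [Subgroup.upperCentralSeries_one, h]⟩⟩

theorem isQuasisimple_of_simple {X : Type*} [Group X] (hs : IsSimpleGroup X)
    (hnil : ¬ Group.IsNilpotent X) : Cfsg.IsQuasisimple X := by
  have hc : Subgroup.center X ≠ ⊤ := fun h => hnil (isNilpotent_of_center_eq_top h)
  have hc0 : Subgroup.center X = ⊥ := (hs.eq_bot_or_eq_top_of_normal _ inferInstance).resolve_right hc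
  have hd : commutator X ≠ ⊥ := fun h => hc ((commutator_eq_bot_iff_center_eq_top X).mp h)
  have hd1 : commutator X = ⊤ := (hs.eq_bot_or_eq_top_of_normal _ inferInstance).resolve_left hd
  refine ⟨⟨hd1⟩, ?_⟩
  have e : X ⧸ Subgroup.center X ≃* X :=
    (QuotientGroup.quotientMulEquivOfEq hc0).trans QuotientGroup.quotientBot
  exact e.isSimpleGroup

theorem isComponent_of_irrIn [Finite G] (hF : Cfsg.fittingSubgroup G = ⊥) {N S : Subgroup G}
    (hN : N.Normal) (hmin : ∀ N' : Subgroup G, N'.Normal → N' ≤ N → N' = ⊥ ∨ N' = N)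
    (hS : IrrIn N N S) : Cfsg.IsComponent S := by
  have hsn := isSubnormal_of_irrIn hN hS
  refine ⟨hsn, isQuasisimple_of_simple (isSimpleGroup_of_irrIn hN hmin hS) ?_⟩
  intro hnil
  have := subnormal_nilpotent_le_fitting hsn hnil
  rw [hF] at this
  exact hS.1 (le_bot_iff.mp this)

theorem center_eq_bot_of_component [Finite G] (hF : Cfsg.fittingSubgroup G = ⊥) {K : Subgroup G}
    (hK : Cfsg.IsComponent K) : Subgroup.center ↥K = ⊥ := by
  have hsn : ((Subgroup.center ↥K).map K.subtype).IsSubnormal := by
    refine Subgroup.IsSubnormal.step _ K (Subgroup.map_subtype_le _) hK.1 ?_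
    rw [Subgroup.normal_subgroupOf_iff_le_normalizer (Subgroup.map_subtype_le _)]
    exact le_normalizer_map_subtype _
  have hnil : Group.IsNilpotent ((Subgroup.center ↥K).map K.subtype) :=
    Cfsg.Agent.Lib.Helper22.isNilpotent_of_isMulCommutative _
  have := subnormal_nilpotent_le_fitting hsn hnil
  rw [hF] at this
  exact (Subgroup.map_eq_bot_iff_of_injective _ (Subgroup.subtype_injective K)).mp (le_bot_iff.mp this)

theorem part2 [Finite G] (hF : Cfsg.fittingSubgroup G = ⊥) :
    sSup {N : Subgroup G | N ≠ ⊥ ∧ N.Normal ∧ ∀ N' : Subgroup G, N'.Normal → N' ≤ N → N' = ⊥ ∨ N' = N}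
      = Cfsg.layer G := by
  apply le_antisymm
  · apply sSup_le
    rintro N ⟨hN0, hN, hmin⟩
    obtain ⟨S, hS, -⟩ := exists_irrIn_le (A := N) (V := N) (W := N) le_rfl hN0 Subgroup.le_normalizer
    rw [eq_iSup_cj hN hmin hS]
    apply iSup_le
    intro g
    exact Cfsg.Agent.Lib.Helper22.component_le_layer
      (isComponent_of_irrIn hF hN hmin (irrIn_cj' hN hS g))
  · unfold Cfsg.layer
    apply sSup_le
    intro K hK
    have hZ := center_eq_bot_of_component hF hK
    obtain ⟨h1, h2⟩ := part1 K hK hZ
    exact Subgroup.le_normalClosure.trans (le_sSup ⟨h1, inferInstance, h2⟩)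

/-- In a finite group G: if K is a component of G with trivial centre (so K is simple and nonabelian), then the normal closure of K in G is a minimal normal subgroup of G; and if F(G) = 1, then the subgroup generated by all minimal normal subgroups of G equals E(G). -/
theorem result {G : Type*} [Group G] [Finite G] : (∀ K : Subgroup G, Cfsg.IsComponent K → Subgroup.center ↥K = ⊥ → (Subgroup.normalClosure (K : Set G) ≠ ⊥ ∧ ∀ N : Subgroup G, N.Normal → N ≤ Subgroup.normalClosure (K : Set G) → N = ⊥ ∨ N = Subgroup.normalClosure (K : Set G))) ∧ (Cfsg.fittingSubgroup G = ⊥ → sSup {N : Subgroup G | N ≠ ⊥ ∧ N.Normal ∧ ∀ N' : Subgroup G, N'.Normal → N' ≤ N → N' = ⊥ ∨ N' = N} = Cfsg.layer G) :=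
  ⟨fun K hK hZ => part1 K hK hZ, fun hF => part2 hF⟩

end Cfsg.Agent.S3747
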