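-- Statement S1425 (BG Theorem 12.15), helper68.  ARMED on Cfsg.Agent.S1403, S1404, S1408, S1414,
-- S1416, S1417, S1424 (builds once S1416 and S1417 are on main).
import Cfsg.Statements.S1425
import Cfsg.Agent.S1403
import Cfsg.Agent.S1404
import Cfsg.Agent.S1408
import Cfsg.Agent.S1414
import Cfsg.Agent.S1416
import Cfsg.Agent.S1417
import Cfsg.Agent.S1424
import Cfsg.Agent.Lib.Helper68.BG1215d

set_option autoImplicit false
open Cfsg

namespace Cfsg.Agent.S1425

/-- Let G be a minimal simple group of odd order, M a maximal subgroup and Y a nontrivial subgroup of G all of whose prime divisors lie in σ(M). Then gYg⁻¹ ≤ M_σ for some g ∈ G. -/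
theorem result {G : Type*} [Group G] [Finite G] (hG : Cfsg.IsMinSimpleOddOrder G)
    (M : Subgroup G) (hM : IsCoatom M) (Y : Subgroup G) (hY1 : Y ≠ ⊥) (hY : ∀ p : ℕ, p.Prime → p ∣ Nat.card Y → p ∈ Cfsg.sigma M) :
    ∃ g : G, Y.map (MulAut.conj g).toMonoidHom ≤ Cfsg.sigmaCore M := by
  refine Cfsg.Agent.Lib.Helper68.BG1215.bg1215 hG
    (fun K h1 h2 h3 => Cfsg.Agent.S1403.result hG K h1 h2 h3)
    (fun M hM p _ hp X hXp hX1 hXM => Cfsg.Agent.S1404.result hG M hM p hp X hXp hX1 hXM)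
    (fun M hM p _ hp hr2 hr1 => (Cfsg.Agent.S1408.result hG M hM p hp hr2 hr1).1)
    (fun M hM p hp hpd hpβ =>
      ⟨((Cfsg.Agent.S1414.result hG M hM).2.2.2.2 p hp hpd hpβ).2.1,
        ((Cfsg.Agent.S1414.result hG M hM).2.2.2.2 p hp hpd hpβ).2.2⟩)
    (fun M hM p _ A hA => (Cfsg.Agent.S1416.result hG M hM p A hA).1)
    (fun M hM p _ hp A hA =>
      ⟨(Cfsg.Agent.S1417.result hG M hM p hp A hA).2.2.1,
        (Cfsg.Agent.S1417.result hG M hM p hp A hA).2.2.2.2.1⟩)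
    (fun M hM q _ hq X hXq hX1 hXM Ms hMs hne hNX S hXS =>
      Cfsg.Agent.S1424.result hG M hM q hq X hXq hX1 hXM Ms hMs hne hNX S hXS)
    M hM Y hY1 hY

end Cfsg.Agent.S1425
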