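import Cfsg.Statements.S1365
import Cfsg.Agent.S1350
import Cfsg.Agent.S1426
import Cfsg.Agent.S1430
import Cfsg.Agent.Lib.Helper19.BG14C
import Cfsg.Agent.Lib.Helper19.BG14D
import Cfsg.Agent.Lib.Helper76.BGSigU4
import Cfsg.Agent.Lib.Helper24.BG121

set_option autoImplicit false
open Cfsg

namespace Cfsg.Agent.S1365

/-- Let G be a minimal simple group of odd order and M a maximal subgroup with standard factorisation M = K U M_σ and K ≠ 1. Then the derived subgroup of M is generated by U and M_σ, and M_σ ∩ C_G(K) is contained in the second derived subgroup of M. -/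
theorem result {G : Type*} [Group G] [Finite G] (hG : Cfsg.IsMinSimpleOddOrder G)
    (M : Subgroup G) (hM : IsCoatom M) (K U : Subgroup G) (hKU : Cfsg.IsSigmaDecomposition M K U) (hK1 : K ≠ ⊥) :
    ⁅M, M⁆ = U ⊔ Cfsg.sigmaCore M ∧ (Cfsg.sigmaCore M ⊓ Subgroup.centralizer (K : Set G)) ≤ ⁅⁅M, M⁆, ⁅M, M⁆⁆ := by
  have hKc : IsCyclic K := hKU.cyclic
  have hK : Cfsg.IsPiHallOf (Cfsg.kappa M) K M := hKU.hall
  have h50 := Cfsg.Agent.S1350.result hG M hM
  have hS : Cfsg.IsPiHallOf (Cfsg.sigma M) (Cfsg.sigmaCore M) M := h50.1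
  have hSn : M ≤ Subgroup.normalizer ((Cfsg.sigmaCore M : Subgroup G) : Set G) :=
    Cfsg.Agent.Lib.Helper24.BG.le_normalizer_sigmaCore M
  have hdisj : ∀ p, p ∈ Cfsg.kappa M → p ∉ Cfsg.sigma M := fun p hp => hp.2.2.1
  have h30 := Cfsg.Agent.S1430.result hG M hM K hK hK1
  obtain ⟨U₀, _, hU₀H, hKU₀, _⟩ := h30.2.1
  have hd := Cfsg.Agent.Lib.Helper19.BG14.decomp_exists hK hS hSn hU₀H hKU₀
  have hUS : U ⊔ Cfsg.sigmaCore M = U₀ ⊔ Cfsg.sigmaCore M :=
    Cfsg.Agent.Lib.Helper19.BG14.decomp_unique hdisj hK hS hSn hU₀H hd.2 hKU.compl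
  have hN : M ≤ Subgroup.normalizer ((U ⊔ Cfsg.sigmaCore M : Subgroup G) : Set G) := by
    rw [hUS]; exact hd.2
  have hKM : K ≤ M := hK.1
  have hUM : U ≤ M := hKU.compl.1
  have hKS : K ≤ Subgroup.normalizer ((Cfsg.sigmaCore M : Subgroup G) : Set G) := hKM.trans hSn
  have hUSn : U ≤ Subgroup.normalizer ((Cfsg.sigmaCore M : Subgroup G) : Set G) := hUM.trans hSn
  -- `K` is abelian
  have hKab : ∀ a ∈ K, ∀ b ∈ K, a * b = b * a := by
    intro a ha b hb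
    haveI := hKc
    have h1 := (IsCyclic.commGroup (α := K)).mul_comm ⟨a, ha⟩ ⟨b, hb⟩
    exact congrArg Subtype.val h1
  -- `K` acts regularly on `U`
  have hreg : U ⊓ Subgroup.centralizer (K : Set G) = ⊥ := by
    obtain ⟨k, hk, hk1⟩ : ∃ k, k ∈ K ∧ k ≠ 1 := by
      obtain ⟨⟨k, hk⟩, h⟩ := (Subgroup.ne_bot_iff_exists_ne_one).1 hK1
      exact ⟨k, hk, fun e => h (Subtype.ext e)⟩
    have h53 := Cfsg.Agent.Lib.Helper76.BGSigU.cent_U_K hKU
      (fun X hXK hXp => (h30.2.2 X hXK hXp).1) k hk hk1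
    rw [eq_bot_iff, ← h53]
    refine inf_le_inf_left U (Subgroup.centralizer_le ?_)
    intro x hx
    rw [Set.mem_singleton_iff] at hx
    rw [hx]; exact hk
  -- coprimality
  have hcopKU : (Nat.card K).Coprime (Nat.card U) := by
    apply Nat.coprime_of_dvd'
    intro q hq hqK hqU
    exfalso
    exact Cfsg.Agent.Lib.Helper19.BG14.compl_not_dvd hK hKU.compl q hq (hK.2.1 q hq hqK) hqU
  have hcopKS : (Nat.card K).Coprime (Nat.card (Cfsg.sigmaCore M)) := by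
    apply Nat.coprime_of_dvd'
    intro q hq hqK hqS
    exfalso
    exact hdisj q (hK.2.1 q hq hqK) (hS.2.1 q hq hqS)
  have hKS0 : K ⊓ Cfsg.sigmaCore M = ⊥ := by
    apply Cfsg.Agent.Lib.Helper19.BG14.inf_eq_bot_of_primes
    intro q hq hqK hqS
    exact hdisj q (hK.2.1 q hq hqK) (hS.2.1 q hq hqS)
  have hE : Cfsg.IsComplIn (U ⊔ K) (Cfsg.sigmaCore M) M :=
    Cfsg.Agent.Lib.Helper19.BG14.isComplIn_sup hKU.compl hKU.normal hKS hKS0
  have h26 := (Cfsg.Agent.S1426.result hG M hM (U ⊔ K) hE).2.1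
  have hSM : Cfsg.sigmaCore M ≤ M := hS.1
  have hSder : Cfsg.sigmaCore M ≤ ⁅M, M⁆ := by
    calc Cfsg.sigmaCore M = ⁅Cfsg.sigmaCore M, U ⊔ K⁆ := h26.symm
      _ ≤ ⁅M, M⁆ := Subgroup.commutator_mono hSM hE.1
  haveI : IsMulCommutative K := ⟨⟨fun a b => Subtype.ext (hKab a a.2 b b.2)⟩⟩
  have hsolv : Group.IsSolvable K ∨ Group.IsSolvable U := Or.inl inferInstance
  have hder := Cfsg.Agent.Lib.Helper19.BG14.derived_eq hKab hKU.compl hKU.normal hSn hN hcopKU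
    hsolv hreg hSder
  exact ⟨hder, Cfsg.Agent.Lib.Helper19.BG14.kstar_le_second_derived hKU.normal hUSn hKS hcopKS
    hder h26⟩

end Cfsg.Agent.S1365
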