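import Cfsg.Statements.S1958
import Cfsg.Agent.Lib.Helper54.PConstr5
import Cfsg.Agent.Lib.Helper55.SolvCore
import Cfsg.Agent.Lib.Helper55.Cores

set_option autoImplicit false
set_option linter.style.haveILetI false
open Cfsg

namespace Cfsg.Agent.S1958

open Subgroup

section aux

variable {G : Type*} [Group G] {p : ℕ}

theorem cppc_le' (x : G) : Cfsg.centralizerPPrimeCore p x ≤ centralizer ({x} : Set G) := by
  unfold Cfsg.centralizerPPrimeCore
  exact map_subtype_le _

theorem cppc_coprime [Finite G] (x : G) :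
    (Nat.card (Cfsg.centralizerPPrimeCore p x)).Coprime p := by
  unfold Cfsg.centralizerPPrimeCore
  rw [Subgroup.card_map_of_injective (Subgroup.subtype_injective _)]
  exact Cfsg.Agent.Lib.Helper55.pPrimeCore_card_coprime (G := ↥(centralizer ({x} : Set G))) p

/-- the `p'`-core depends only on the subgroup -/
theorem map_pPrimeCore_congr {H K : Subgroup G} (h : H = K) :
    (pPrimeCore p ↥H).map H.subtype = (pPrimeCore p ↥K).map K.subtype := by
  subst h; rfl

/-- conjugation transports `O_{p'}(C_G(x))` -/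
theorem cppc_conj [Finite G] [Fact p.Prime] (x n : G) :
    (Cfsg.centralizerPPrimeCore p x).map (MulAut.conj n).toMonoidHom =
      Cfsg.centralizerPPrimeCore p (n * x * n⁻¹) := by
  unfold Cfsg.centralizerPPrimeCore
  -- the isomorphism C_G(x) ≃ C_G(n x n⁻¹)
  have hmem : ∀ c : ↥(centralizer ({x} : Set G)),
      n * (c : G) * n⁻¹ ∈ centralizer ({n * x * n⁻¹} : Set G) := by
    intro c
    have hc := mem_centralizer_singleton_iff.mp c.2
    rw [mem_centralizer_singleton_iff]
    calc n * (c : G) * n⁻¹ * (n * x * n⁻¹) = n * ((c : G) * x) * n⁻¹ := by group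
      _ = n * (x * (c : G)) * n⁻¹ := by rw [hc]
      _ = n * x * n⁻¹ * (n * (c : G) * n⁻¹) := by group
  have hmem' : ∀ c : ↥(centralizer ({n * x * n⁻¹} : Set G)),
      n⁻¹ * (c : G) * n ∈ centralizer ({x} : Set G) := by
    intro c
    have hc := mem_centralizer_singleton_iff.mp c.2
    rw [mem_centralizer_singleton_iff]
    have : (c : G) * n * x = n * x * n⁻¹ * (c : G) * n := by
      calc (c : G) * n * x = ((c : G) * (n * x * n⁻¹)) * n := by group
        _ = ((n * x * n⁻¹) * (c : G)) * n := by rw [hc]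
        _ = n * x * n⁻¹ * (c : G) * n := by group
    calc n⁻¹ * (c : G) * n * x = n⁻¹ * ((c : G) * n * x) := by group
      _ = n⁻¹ * (n * x * n⁻¹ * (c : G) * n) := by rw [this]
      _ = x * (n⁻¹ * (c : G) * n) := by group
  let e : ↥(centralizer ({x} : Set G)) ≃* ↥(centralizer ({n * x * n⁻¹} : Set G)) :=
    { toFun := fun c => ⟨n * (c : G) * n⁻¹, hmem c⟩
      invFun := fun c => ⟨n⁻¹ * (c : G) * n, hmem' c⟩
      left_inv := by intro c; apply Subtype.ext; simp [mul_assoc]
      right_inv := by intro c; apply Subtype.ext; simp [mul_assoc]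
      map_mul' := by intro a b; apply Subtype.ext; simp [mul_assoc] }
  have hchar : (pPrimeCore p ↥(centralizer ({x} : Set G))).map e.toMonoidHom =
      pPrimeCore p ↥(centralizer ({n * x * n⁻¹} : Set G)) := by
    apply Cfsg.Agent.Lib.Helper54.map_pPrimeCore p e.toMonoidHom e.surjective
    have : e.toMonoidHom.ker = ⊥ := (MonoidHom.ker_eq_bot_iff _).mpr e.injective
    rw [this, Subgroup.card_bot]
    exact Nat.coprime_one_left p
  rw [← hchar, Subgroup.map_map, Subgroup.map_map]
  congr 1

end aux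

/-- `C_G(g y g⁻¹)` and `C_G(y)` have the same order -/
theorem card_centralizer_conj {G : Type*} [Group G] (y g : G) :
    Nat.card (centralizer ({g * y * g⁻¹} : Set G)) = Nat.card (centralizer ({y} : Set G)) := by
  have h : centralizer ({g * y * g⁻¹} : Set G) =
      (centralizer ({y} : Set G)).map (MulAut.conj g).toMonoidHom := by
    ext c
    rw [Subgroup.mem_map, mem_centralizer_singleton_iff]
    constructor
    · intro hc
      refine ⟨g⁻¹ * c * g, ?_, ?_⟩
      · rw [mem_centralizer_singleton_iff]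
        have : c * g * y = g * y * g⁻¹ * c * g := by
          calc c * g * y = (c * (g * y * g⁻¹)) * g := by group
            _ = ((g * y * g⁻¹) * c) * g := by rw [hc]
            _ = g * y * g⁻¹ * c * g := by group
        calc g⁻¹ * c * g * y = g⁻¹ * (c * g * y) := by group
          _ = g⁻¹ * (g * y * g⁻¹ * c * g) := by rw [this]
          _ = y * (g⁻¹ * c * g) := by group
      · simp [MulAut.conj_apply, mul_assoc]
    · rintro ⟨d, hd, rfl⟩
      rw [mem_centralizer_singleton_iff] at hd
      simp only [MulEquiv.coe_toMonoidHom, MulAut.conj_apply]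
      calc g * d * g⁻¹ * (g * y * g⁻¹) = g * (d * y) * g⁻¹ := by group
        _ = g * (y * d) * g⁻¹ := by rw [hd]
        _ = g * y * g⁻¹ * (g * d * g⁻¹) := by group
  rw [h, Subgroup.card_map_of_injective (MulAut.conj g).injective]

/-- an element normalizing `⟨y⟩` normalizes `O_{p'}(C_G(y))` -/
theorem cppc_conj_of_zpow {G : Type*} [Group G] [Finite G] {p : ℕ} [Fact p.Prime] (y g : G) (k : ℤ)
    (hk : y ^ k = g * y * g⁻¹) :
    (Cfsg.centralizerPPrimeCore p y).map (MulAut.conj g).toMonoidHom =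
      Cfsg.centralizerPPrimeCore p y := by
  rw [cppc_conj, ← hk]
  unfold Cfsg.centralizerPPrimeCore
  apply map_pPrimeCore_congr
  symm
  apply Subgroup.eq_of_le_of_card_ge
  · intro c hc
    rw [mem_centralizer_singleton_iff] at hc ⊢
    exact ((Commute.zpow_right (show Commute c y from hc) k)).eq
  · rw [hk, card_centralizer_conj]

theorem half {G : Type*} [Group G] [Finite G]
    (p : ℕ) [Fact p.Prime] (x y : G) (hy : orderOf y = p) (hxy : x * y = y * x)
    (hCx : Group.IsSolvable ↥(Subgroup.centralizer ({x} : Set G))) :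
    Cfsg.centralizerPPrimeCore p y ⊓ Subgroup.centralizer {x} ≤ Cfsg.centralizerPPrimeCore p x := by
  have hp : p.Prime := Fact.out
  obtain ⟨X, hX⟩ : ∃ X : Subgroup G, X = centralizer ({x} : Set G) := ⟨_, rfl⟩
  have hyX : y ∈ centralizer ({x} : Set G) := by
    rw [mem_centralizer_singleton_iff]; exact hxy.symm
  obtain ⟨yb, hyb⟩ : ∃ yb : ↥(centralizer ({x} : Set G)), yb = ⟨y, hyX⟩ := ⟨_, rfl⟩
  have hybc : (yb : G) = y := by rw [hyb]
  obtain ⟨Pz, hPz⟩ : ∃ Pz : Subgroup ↥(centralizer ({x} : Set G)), Pz = Subgroup.zpowers yb :=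
    ⟨_, rfl⟩
  have hord : orderOf yb = p := by
    rw [← hy, ← hybc]; exact (Subgroup.orderOf_coe yb).symm
  have hPzp : IsPGroup p Pz := by
    apply IsPGroup.of_card (n := 1)
    rw [hPz, Nat.card_zpowers, hord, pow_one]
  -- the quotient has self-centralizing p-core
  haveI hn : (pPrimeCore p ↥(centralizer ({x} : Set G))).Normal :=
    Cfsg.Agent.Lib.Helper55.pPrimeCore_normal' p
  have h0 : pPrimeCore p (↥(centralizer ({x} : Set G)) ⧸ pPrimeCore p ↥(centralizer ({x} : Set G))) = ⊥ :=
    Cfsg.Agent.Lib.Helper55.pPrimeCore_quotient_eq_bot p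
  haveI : Group.IsSolvable
      (↥(centralizer ({x} : Set G)) ⧸ pPrimeCore p ↥(centralizer ({x} : Set G))) :=
    Group.isSolvable_of_surjective (QuotientGroup.mk'_surjective _)
  have hc := Cfsg.Agent.Lib.Helper55.centralizer_pCore_le
    (G := ↥(centralizer ({x} : Set G)) ⧸ pPrimeCore p ↥(centralizer ({x} : Set G))) p h0
  have heq := Cfsg.Agent.Lib.Helper54.map_pPrimeCore_normalizer_eq p hc Pz hPzp
  -- the subgroup D inside the normalizer
  obtain ⟨D, hD⟩ : ∃ D : Subgroup G, D = Cfsg.centralizerPPrimeCore p y ⊓ centralizer {x} := ⟨_, rfl⟩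
  rw [← hD]
  obtain ⟨D2, hD2⟩ : ∃ D2 : Subgroup ↥(normalizer (Pz : Set ↥(centralizer ({x} : Set G)))),
      D2 = D.comap ((centralizer ({x} : Set G)).subtype.comp
        (normalizer (Pz : Set ↥(centralizer ({x} : Set G)))).subtype) := ⟨_, rfl⟩
  have hD2n : D2.Normal := by
    constructor
    intro d hd n
    rw [hD2, Subgroup.mem_comap] at hd ⊢
    simp only [MonoidHom.coe_comp, Subgroup.coe_subtype, Function.comp_apply, Subgroup.coe_mul,
      Subgroup.coe_inv] at hd ⊢
    -- n normalizes zpowers yb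
    have hn := n.2
    rw [Subgroup.mem_normalizer_iff] at hn
    have h1 : (n : ↥(centralizer ({x} : Set G))) * yb * (n : ↥(centralizer ({x} : Set G)))⁻¹ ∈ Pz := by
      have hyPz : yb ∈ Pz := by rw [hPz]; exact Subgroup.mem_zpowers yb
      exact (hn yb).mp hyPz
    obtain ⟨z, hz⟩ : ∃ z : ↥(centralizer ({x} : Set G)),
        z = (n : ↥(centralizer ({x} : Set G))) * yb * (n : ↥(centralizer ({x} : Set G)))⁻¹ :=
      ⟨_, rfl⟩
    rw [← hz] at h1
    rw [hPz, Subgroup.mem_zpowers_iff] at h1
    obtain ⟨k, hk⟩ := h1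
    rw [hz] at hk
    have hk' : y ^ k = ((n : ↥(centralizer ({x} : Set G))) : G) * y *
        ((n : ↥(centralizer ({x} : Set G))) : G)⁻¹ := by
      have := congrArg (Subtype.val) hk
      simpa [hybc] using this
    have hconj := cppc_conj_of_zpow (p := p) y _ k hk'
    rw [hD] at hd ⊢
    refine ⟨?_, ?_⟩
    · rw [← hconj]
      exact ⟨_, hd.1, rfl⟩
    · exact Subgroup.mul_mem _ (Subgroup.mul_mem _ (n : ↥(centralizer ({x} : Set G))).2 hd.2)
        (Subgroup.inv_mem _ (n : ↥(centralizer ({x} : Set G))).2)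
  have hD2c : (Nat.card D2).Coprime p := by
    have h1 : Nat.card D2 ∣ Nat.card D := by
      rw [hD2]
      apply Subgroup.card_comap_dvd_of_injective
      exact (Subgroup.subtype_injective _).comp (Subgroup.subtype_injective _)
    have h2 : Nat.card D ∣ Nat.card (Cfsg.centralizerPPrimeCore p y) := by
      rw [hD]; exact Subgroup.card_dvd_of_le inf_le_left
    exact Nat.Coprime.coprime_dvd_left (h1.trans h2) (cppc_coprime y)
  have hD2le : D2 ≤ pPrimeCore p ↥(normalizer (Pz : Set ↥(centralizer ({x} : Set G)))) :=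
    Cfsg.Agent.Lib.Helper55.le_pPrimeCore p D2 hD2c
  intro d hd
  have hdX : d ∈ centralizer ({x} : Set G) := by rw [hD] at hd; exact hd.2
  have hdy : d * y = y * d := by
    rw [hD] at hd
    exact mem_centralizer_singleton_iff.mp (cppc_le' y hd.1)
  have hdN : (⟨d, hdX⟩ : ↥(centralizer ({x} : Set G))) ∈
      normalizer (Pz : Set ↥(centralizer ({x} : Set G))) := by
    have hcomm : Commute (⟨d, hdX⟩ : ↥(centralizer ({x} : Set G))) yb := by
      apply Subtype.ext
      simp only [Subgroup.coe_mul, hybc]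
      exact hdy
    rw [Subgroup.mem_normalizer_iff]
    intro h
    have key : h ∈ Pz → (⟨d, hdX⟩ : ↥(centralizer ({x} : Set G))) * h *
        (⟨d, hdX⟩ : ↥(centralizer ({x} : Set G)))⁻¹ = h := by
      intro hh
      rw [hPz, Subgroup.mem_zpowers_iff] at hh
      obtain ⟨k, rfl⟩ := hh
      have := (hcomm.zpow_right k).eq
      rw [this, mul_inv_cancel_right]
    constructor
    · intro hh
      rw [key hh]; exact hh
    · intro hh
      -- conjugate back
      have h2 : h = (⟨d, hdX⟩ : ↥(centralizer ({x} : Set G)))⁻¹ *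
          ((⟨d, hdX⟩ : ↥(centralizer ({x} : Set G))) * h *
            (⟨d, hdX⟩ : ↥(centralizer ({x} : Set G)))⁻¹) *
          (⟨d, hdX⟩ : ↥(centralizer ({x} : Set G))) := by group
      rw [hPz, Subgroup.mem_zpowers_iff] at hh
      obtain ⟨k, hk⟩ := hh
      rw [h2, ← hk]
      have := (hcomm.zpow_right k).eq
      rw [hPz, Subgroup.mem_zpowers_iff]
      refine ⟨k, ?_⟩
      calc yb ^ k = (⟨d, hdX⟩ : ↥(centralizer ({x} : Set G)))⁻¹ *
            ((⟨d, hdX⟩ : ↥(centralizer ({x} : Set G))) * yb ^ k) := by group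
        _ = (⟨d, hdX⟩ : ↥(centralizer ({x} : Set G)))⁻¹ * yb ^ k *
            (⟨d, hdX⟩ : ↥(centralizer ({x} : Set G))) := by rw [this]; group
  have hd2 : (⟨⟨d, hdX⟩, hdN⟩ : ↥(normalizer (Pz : Set ↥(centralizer ({x} : Set G))))) ∈ D2 := by
    rw [hD2, Subgroup.mem_comap]
    exact hd
  have h3 := hD2le hd2
  have h4 : (⟨d, hdX⟩ : ↥(centralizer ({x} : Set G))) ∈
      (pPrimeCore p ↥(normalizer (Pz : Set ↥(centralizer ({x} : Set G))))).map
        (normalizer (Pz : Set ↥(centralizer ({x} : Set G)))).subtype := ⟨_, h3, rfl⟩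
  rw [heq] at h4
  unfold Cfsg.centralizerPPrimeCore
  exact ⟨⟨d, hdX⟩, h4.1, rfl⟩

theorem result {G : Type*} [Group G] [Finite G]
    (p : ℕ) [Fact p.Prime] (x y : G) (hx : orderOf x = p) (hy : orderOf y = p) (hxy : x * y = y * x)
    (hCx : Group.IsSolvable ↥(Subgroup.centralizer ({x} : Set G))) (hCy : Group.IsSolvable ↥(Subgroup.centralizer ({y} : Set G))) :
    Cfsg.centralizerPPrimeCore p x ⊓ Subgroup.centralizer {y} = Cfsg.centralizerPPrimeCore p y ⊓ Subgroup.centralizer {x} := by
  apply le_antisymm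
  · exact le_inf (half p y x hx hxy.symm hCy) (inf_le_left.trans (cppc_le' x))
  · exact le_inf (half p x y hy hxy hCx) (inf_le_left.trans (cppc_le' y))

end Cfsg.Agent.S1958
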