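import Cfsg.Statements.S0943
import Cfsg.Agent.Lib.Helper16.Schur

set_option autoImplicit false
open Cfsg

namespace Cfsg.Agent.S0943

open Cfsg.Agent.Lib.Helper16

/-- Let χ be an irreducible character of the finite group G and u, v ∈ G. If χ (x * y) = χ (u * v) whenever x is conjugate to u and y is conjugate to v, then χ u * χ v = χ 1 * χ (u * v). (Multiply the class sums of u and v and apply the central character of χ.) -/
theorem result {G : Type*} [Group G] [Finite G] (χ : Cfsg.IrrCharacter G) (u v : G) (hc : ∀ x y : G, IsConj u x → IsConj v y → (χ : G → ℂ) (x * y) = (χ : G → ℂ) (u * v)) : (χ : G → ℂ) u * (χ : G → ℂ) v = (χ : G → ℂ) 1 * (χ : G → ℂ) (u * v) := by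
  classical
  have : Fintype G := Fintype.ofFinite G
  obtain ⟨χ, n, ρ, hirr, rfl⟩ := χ
  change ∀ x y : G, IsConj u x → IsConj v y → ρ.character (x * y) = ρ.character (u * v) at hc
  show ρ.character u * ρ.character v = ρ.character 1 * ρ.character (u * v)
  obtain ⟨a, ha, hna⟩ := classOp_scalar ρ hirr u
  obtain ⟨b, hb, hnb⟩ := classOp_scalar ρ hirr v
  have hn : (n : ℂ) ≠ 0 := by
    exact_mod_cast dim_ne_zero ρ hirr
  have hG : (Nat.card G : ℂ) ≠ 0 := by
    exact_mod_cast (Nat.card_pos (α := G)).ne'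
  -- trace of the product, two ways
  have h1 : LinearMap.trace ℂ (Fin n → ℂ) (classOp ρ u * classOp ρ v) = a * b * n := by
    rw [ha, hb, smul_mul_smul_comm, Module.End.mul_eq_comp, LinearMap.id_comp, map_smul,
      LinearMap.trace_id, Module.finrank_fin_fun, smul_eq_mul]
  have h2 : LinearMap.trace ℂ (Fin n → ℂ) (classOp ρ u * classOp ρ v) =
      (Nat.card G : ℂ) * (Nat.card G : ℂ) * ρ.character (u * v) := by
    unfold classOp
    rw [Finset.sum_mul_sum, map_sum]
    simp_rw [map_sum]
    have : ∀ t s : G, LinearMap.trace ℂ (Fin n → ℂ) (ρ (t * u * t⁻¹) * ρ (s * v * s⁻¹)) =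
        ρ.character (u * v) := by
      intro t s
      rw [← map_mul]
      exact hc _ _ (isConj_iff.2 ⟨t, rfl⟩) (isConj_iff.2 ⟨s, rfl⟩)
    simp_rw [this]
    simp only [Finset.sum_const, Finset.card_univ, nsmul_eq_mul, Nat.card_eq_fintype_card]
    ring
  have h3 : ρ.character 1 = n := by
    rw [Representation.char_one, Module.finrank_fin_fun]
  rw [h3]
  have key : (Nat.card G : ℂ) * (Nat.card G : ℂ) * (ρ.character u * ρ.character v) =
      (Nat.card G : ℂ) * (Nat.card G : ℂ) * (n * ρ.character (u * v)) := by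
    calc (Nat.card G : ℂ) * (Nat.card G : ℂ) * (ρ.character u * ρ.character v)
        = ((Nat.card G : ℂ) * ρ.character u) * ((Nat.card G : ℂ) * ρ.character v) := by ring
      _ = (n * a) * (n * b) := by rw [hna, hnb]
      _ = n * (a * b * n) := by ring
      _ = n * ((Nat.card G : ℂ) * (Nat.card G : ℂ) * ρ.character (u * v)) := by rw [← h1, h2]
      _ = _ := by ring
  exact mul_left_cancel₀ (mul_ne_zero hG hG) key

end Cfsg.Agent.S0943
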