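import Cfsg.Statements.S3061

set_option autoImplicit false
open Cfsg
open scoped commutatorElement

namespace Cfsg.Agent.S3061

/-- If `x` lies in the second centre, then `A ⊔ ⟨x⟩` has class at most two for abelian `A`. -/
theorem class_two_of_mem_ucs_two {T : Type*} [Group T] (C : Subgroup T) (hC : IsMulCommutative C)
    (x : T) (hx : x ∈ Subgroup.upperCentralSeries T 2) :
    ⁅⁅C ⊔ Subgroup.zpowers x, C ⊔ Subgroup.zpowers x⁆, C ⊔ Subgroup.zpowers x⁆ = ⊥ := by
  set H := C ⊔ Subgroup.zpowers x with hH
  have hxc : ∀ y : T, ⁅x, y⁆ ∈ Subgroup.center T := by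
    intro y
    have := (Subgroup.mem_upperCentralSeries_succ_iff (n := 1)).1 hx y
    rwa [Subgroup.upperCentralSeries_one] at this
  -- the image of `H` in `T ⧸ center T` is commutative
  let π := QuotientGroup.mk' (Subgroup.center T)
  have hxbar : π x ∈ Subgroup.center (T ⧸ Subgroup.center T) := by
    rw [Subgroup.mem_center_iff]
    intro y
    obtain ⟨y, rfl⟩ := QuotientGroup.mk'_surjective _ y
    have h1 : π ⁅x, y⁆ = 1 := by
      rw [← MonoidHom.mem_ker, QuotientGroup.ker_mk']
      exact hxc y
    rw [map_commutatorElement, commutatorElement_eq_one_iff_mul_comm] at h1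
    exact h1.symm
  have hCbar : IsMulCommutative (C.map π) := Subgroup.map_isMulCommutative C π
  have hHbar : H.map π = C.map π ⊔ Subgroup.zpowers (π x) := by
    rw [hH, Subgroup.map_sup, MonoidHom.map_zpowers]
  have hz : Subgroup.zpowers (π x) ≤ Subgroup.center (T ⧸ Subgroup.center T) := by
    rw [Subgroup.zpowers_le]; exact hxbar
  have hcomm : H.map π ≤ Subgroup.centralizer (H.map π : Set (T ⧸ Subgroup.center T)) := by
    rw [hHbar]
    apply sup_le
    · rw [Subgroup.le_centralizer_iff]
      apply sup_le
      · exact Subgroup.le_centralizer_iff_isMulCommutative.2 hCbar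
      · exact hz.trans (Subgroup.center_le_centralizer _)
    · exact hz.trans (Subgroup.center_le_centralizer _)
  have hHH : ⁅H, H⁆ ≤ Subgroup.center T := by
    rw [Subgroup.commutator_le]
    intro g₁ hg₁ g₂ hg₂
    have h1 : π g₁ ∈ H.map π := Subgroup.mem_map_of_mem _ hg₁
    have h2 : π g₂ ∈ H.map π := Subgroup.mem_map_of_mem _ hg₂
    have h3 := hcomm h1 (π g₂) h2
    -- h3 : π g₂ * π g₁ = π g₁ * π g₂
    have : π ⁅g₁, g₂⁆ = 1 := by
      rw [map_commutatorElement, commutatorElement_eq_one_iff_mul_comm]
      exact h3.symm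
    rwa [← MonoidHom.mem_ker, QuotientGroup.ker_mk'] at this
  rw [Subgroup.commutator_eq_bot_iff_le_centralizer]
  exact hHH.trans (Subgroup.center_le_centralizer _)

/-- In a nilpotent group, if the second centre is central, the group is abelian. -/
theorem center_eq_top_of_ucs_two_le {T : Type*} [Group T] [Group.IsNilpotent T]
    (h : Subgroup.upperCentralSeries T 2 ≤ Subgroup.center T) : Subgroup.center T = ⊤ := by
  have key : ∀ n : ℕ, Subgroup.upperCentralSeries T n ≤ Subgroup.center T := by
    intro n
    induction n with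
    | zero => rw [Subgroup.upperCentralSeries_zero]; exact bot_le
    | succ n ih =>
      intro x hx
      apply h
      rw [show (2 : ℕ) = 1 + 1 from rfl, Subgroup.mem_upperCentralSeries_succ_iff]
      intro y
      rw [Subgroup.upperCentralSeries_one]
      exact ih ((Subgroup.mem_upperCentralSeries_succ_iff).1 hx y)
  obtain ⟨n, hn⟩ := Group.IsNilpotent.nilpotent' (G := T)
  exact top_le_iff.1 (hn ▸ key n)

/-- Members of the `D*` family of a group transfer to a subgroup containing them. -/
theorem mem_family_subgroupOf {S : Type*} [Group S] (T A : Subgroup S) (hAT : A ≤ T)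
    (hA : A ∈ dStarFamily S) : A.subgroupOf T ∈ dStarFamily T := by
  obtain ⟨hAc, hAx⟩ := hA
  refine ⟨?_, ?_⟩
  · exact Subgroup.subgroupOf_isMulCommutative T A
  · intro x hx a ha
    have hmap : (⁅⁅A.subgroupOf T ⊔ Subgroup.zpowers x, A.subgroupOf T ⊔ Subgroup.zpowers x⁆,
        A.subgroupOf T ⊔ Subgroup.zpowers x⁆).map T.subtype = ⊥ := by
      rw [hx, Subgroup.map_bot]
    rw [Subgroup.map_commutator, Subgroup.map_commutator, Subgroup.map_sup, MonoidHom.map_zpowers,
      Subgroup.subgroupOf_map_subtype, inf_of_le_left hAT] at hmap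
    have := hAx (x : S) hmap (a : S) ha
    exact Subtype.ext this

/-- Two members of the `D*` family of a nilpotent group commute elementwise. -/
theorem commute_of_mem_family {S : Type*} [Group S] [Group.IsNilpotent S] (A B : Subgroup S)
    (hA : A ∈ dStarFamily S) (hB : B ∈ dStarFamily S) : ∀ a ∈ A, ∀ b ∈ B, a * b = b * a := by
  set T := A ⊔ B with hT
  have hAT : A ≤ T := le_sup_left
  have hBT : B ≤ T := le_sup_right
  have hA' := mem_family_subgroupOf T A hAT hA
  have hB' := mem_family_subgroupOf T B hBT hB
  have hsup : A.subgroupOf T ⊔ B.subgroupOf T = ⊤ := by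
    rw [← Subgroup.subgroupOf_sup hAT hBT]
    exact Subgroup.subgroupOf_self T
  have h2 : Subgroup.upperCentralSeries T 2 ≤ Subgroup.center T := by
    intro x hx
    have h1 : ∀ C : Subgroup T, C ∈ dStarFamily T → C ≤ Subgroup.centralizer {x} := by
      intro C hC c hc
      have := hC.2 x (class_two_of_mem_ucs_two C hC.1 x hx) c hc
      rw [Subgroup.mem_centralizer_singleton_iff]
      exact this
    have h3 : (⊤ : Subgroup T) ≤ Subgroup.centralizer {x} := by
      rw [← hsup]
      exact sup_le (h1 _ hA') (h1 _ hB')
    rw [Subgroup.mem_center_iff]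
    intro y
    have := h3 (Subgroup.mem_top y)
    rw [Subgroup.mem_centralizer_singleton_iff] at this
    exact this
  have hc := center_eq_top_of_ucs_two_le h2
  intro a ha b hb
  have hb' : (⟨b, hBT hb⟩ : T) ∈ Subgroup.center T := by rw [hc]; exact Subgroup.mem_top _
  rw [Subgroup.mem_center_iff] at hb'
  have := hb' ⟨a, hAT ha⟩
  exact congrArg Subtype.val this

/-- Let S be a finite p-group. Then D*(S) itself belongs to the family that generates it: D*(S) is abelian, and every x ∈ S with ⟨D*(S), x⟩ of class at most two centralizes D*(S). Hence D*(S) is the unique maximal member of that family. -/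
theorem result {S : Type*} [Group S] [Finite S] {p : ℕ} [Fact p.Prime] (hS : IsPGroup p S) :
    Cfsg.dStar S ∈ Cfsg.dStarFamily S := by
  have : Group.IsNilpotent S := hS.isNilpotent
  refine ⟨?_, ?_⟩
  · rw [← Subgroup.le_centralizer_iff_isMulCommutative]
    unfold dStar
    apply sSup_le
    intro A hA
    rw [Subgroup.le_centralizer_iff]
    apply sSup_le
    intro B hB b hb a ha
    -- goal: a * b = b * a
    exact commute_of_mem_family A B hA hB a ha b hb
  · intro x hx
    have hle : dStar S ≤ Subgroup.centralizer {x} := by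
      unfold dStar
      apply sSup_le
      intro A hA a ha
      rw [Subgroup.mem_centralizer_singleton_iff]
      have hmono : A ⊔ Subgroup.zpowers x ≤ dStar S ⊔ Subgroup.zpowers x :=
        sup_le_sup_right (le_sSup hA) _
      have : ⁅⁅A ⊔ Subgroup.zpowers x, A ⊔ Subgroup.zpowers x⁆, A ⊔ Subgroup.zpowers x⁆ = ⊥ := by
        rw [eq_bot_iff, ← hx]
        exact Subgroup.commutator_mono (Subgroup.commutator_mono hmono hmono) hmono
      exact hA.2 x this a ha
    intro a ha
    have := hle ha
    rw [Subgroup.mem_centralizer_singleton_iff] at this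
    exact this

end Cfsg.Agent.S3061
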