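import Cfsg.Statements.S3062
import Cfsg.Agent.S3061
import Mathlib

set_option autoImplicit false
open Cfsg
open scoped commutatorElement

namespace Cfsg.Agent.S3062

/-- Product formula when `H` normalizes `N`. -/
theorem card_sup_mul_card_inf {G : Type*} [Group G] [Finite G] (H N : Subgroup G)
    (hLE : H ≤ Subgroup.normalizer (N : Set G)) :
    Nat.card ↥(H ⊔ N) * Nat.card ↥(H ⊓ N) = Nat.card H * Nat.card N := by
  have hn1 := Subgroup.normal_subgroupOf_of_le_normalizer hLE
  have hn2 := Subgroup.normal_subgroupOf_sup_of_le_normalizer hLE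
  have e := QuotientGroup.quotientInfEquivProdNormalizerQuotient H N hLE
  have h1 : N.relIndex H = N.relIndex (H ⊔ N) := by
    unfold Subgroup.relIndex
    rw [Subgroup.index_eq_card, Subgroup.index_eq_card]
    exact Nat.card_congr e.toEquiv
  have h2 : Nat.card ↥(H ⊓ N) * N.relIndex H = Nat.card H := by
    have := Subgroup.relIndex_mul_relIndex (⊥ : Subgroup G) (H ⊓ N) H bot_le inf_le_left
    rw [Subgroup.relIndex_bot_left, Subgroup.relIndex_bot_left, inf_comm,
      Subgroup.inf_relIndex_right] at this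
    rw [inf_comm]; exact this
  have h3 : Nat.card N * N.relIndex (H ⊔ N) = Nat.card ↥(H ⊔ N) := by
    have := Subgroup.relIndex_mul_relIndex (⊥ : Subgroup G) N (H ⊔ N) bot_le le_sup_right
    rwa [Subgroup.relIndex_bot_left, Subgroup.relIndex_bot_left] at this
  rw [← h3, ← h2, h1]; ring

theorem isMulCommutative_sup {G : Type*} [Group G] (H K : Subgroup G)
    (hH : H ≤ Subgroup.centralizer (H : Set G)) (hK : K ≤ Subgroup.centralizer (K : Set G))
    (hHK : H ≤ Subgroup.centralizer (K : Set G)) : IsMulCommutative ↥(H ⊔ K) := by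
  rw [← Subgroup.le_centralizer_iff_isMulCommutative]
  apply sup_le
  · rw [Subgroup.le_centralizer_iff]
    exact sup_le hH (Subgroup.le_centralizer_iff.1 hHK)
  · rw [Subgroup.le_centralizer_iff]
    exact sup_le hHK hK

/-- Thompson's replacement theorem, for a normal abelian subgroup `V`. -/
theorem replacement {S : Type*} [Group S] [Finite S] (V A : Subgroup S) [hVn : V.Normal]
    (hV : IsMulCommutative V) (hA : A ∈ maxAbelianSubgroups S)
    (x : S) (hxV : x ∈ V)
    (hxN : x ∈ Subgroup.normalizer ((Subgroup.normalizer (A : Set S) : Subgroup S) : Set S))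
    (hxA : x ∉ Subgroup.normalizer (A : Set S)) :
    ∃ Astar ∈ maxAbelianSubgroups S, Astar ≤ Subgroup.normalizer (A : Set S) ∧
      Nat.card ↥(A ⊓ V) < Nat.card ↥(Astar ⊓ V) := by
  obtain ⟨hAc, hAmax⟩ := hA
  set A₁ := Subgroup.normalizer (A : Set S) with hA₁
  set A' := A.map (MulAut.conj x).toMonoidHom with hA'
  have hmemA' : ∀ y, y ∈ A' ↔ ∃ a ∈ A, x * a * x⁻¹ = y := by
    intro y
    rw [hA', Subgroup.mem_map]
    simp [MulAut.conj_apply]
  have hAA₁ : A ≤ A₁ := Subgroup.le_normalizer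
  have hA'A₁ : A' ≤ A₁ := by
    intro y hy
    obtain ⟨a, ha, rfl⟩ := (hmemA' y).1 hy
    exact (Subgroup.mem_normalizer_iff.1 hxN a).1 (hAA₁ ha)
  have hVc : ∀ u ∈ V, ∀ v ∈ V, u * v = v * u := fun u hu v hv => setLike_mul_comm hu hv
  have hA'c : IsMulCommutative A' := Subgroup.map_isMulCommutative A _
  have hcardA' : Nat.card A' = Nat.card A :=
    Subgroup.card_map_of_injective (MulAut.conj x).injective
  set Z₀ := A ⊓ A' with hZ₀
  set M := A ⊔ A' with hM
  set W := M ⊓ V with hW
  set Astar := W ⊔ Z₀ with hAstar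
  have hMA₁ : M ≤ A₁ := sup_le hAA₁ hA'A₁
  have hAcen : A ≤ Subgroup.centralizer (A : Set S) :=
    Subgroup.le_centralizer_iff_isMulCommutative.2 hAc
  have hA'cen : A' ≤ Subgroup.centralizer (A' : Set S) :=
    Subgroup.le_centralizer_iff_isMulCommutative.2 hA'c
  have hVcen : V ≤ Subgroup.centralizer (V : Set S) :=
    Subgroup.le_centralizer_iff_isMulCommutative.2 hV
  have hMZ₀ : M ≤ Subgroup.centralizer (Z₀ : Set S) := by
    apply sup_le
    · exact hAcen.trans (Subgroup.centralizer_le (by exact_mod_cast (inf_le_left : Z₀ ≤ A)))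
    · exact hA'cen.trans (Subgroup.centralizer_le (by exact_mod_cast (inf_le_right : Z₀ ≤ A')))
  have hWM : W ≤ M := inf_le_left
  have hWV : W ≤ V := inf_le_right
  have hZ₀A : Z₀ ≤ A := inf_le_left
  have hAstarc : IsMulCommutative Astar := by
    apply isMulCommutative_sup
    · exact hWV.trans (hVcen.trans (Subgroup.centralizer_le (by exact_mod_cast hWV)))
    · exact hZ₀A.trans (hAcen.trans (Subgroup.centralizer_le (by exact_mod_cast hZ₀A)))
    · exact hWM.trans hMZ₀
  have hcommW : ∀ a ∈ A, x * a * x⁻¹ * a⁻¹ ∈ W := by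
    intro a ha
    refine Subgroup.mem_inf.2 ⟨?_, ?_⟩
    · exact M.mul_mem ((le_sup_right : A' ≤ M) ((hmemA' _).2 ⟨a, ha, rfl⟩))
        ((le_sup_left : A ≤ M) (A.inv_mem ha))
    · have h1 : a * x⁻¹ * a⁻¹ ∈ V := hVn.conj_mem x⁻¹ (V.inv_mem hxV) a
      have : x * a * x⁻¹ * a⁻¹ = x * (a * x⁻¹ * a⁻¹) := by group
      rw [this]
      exact V.mul_mem hxV h1
  have hMWA : W ⊔ A = M := by
    apply le_antisymm (sup_le hWM le_sup_left)
    apply sup_le le_sup_right
    intro y hy
    obtain ⟨a, ha, rfl⟩ := (hmemA' y).1 hy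
    have : x * a * x⁻¹ = (x * a * x⁻¹ * a⁻¹) * a := by group
    rw [this]
    exact Subgroup.mul_mem_sup (hcommW a ha) ha
  have c1 := card_sup_mul_card_inf A' A hA'A₁
  have c2 := card_sup_mul_card_inf W A (hWM.trans hMA₁)
  have c3 := card_sup_mul_card_inf W Z₀
    ((hWM.trans hMZ₀).trans (Subgroup.centralizer_le_normalizer _))
  rw [sup_comm, inf_comm, ← hM, ← hZ₀, hcardA'] at c1
  rw [hMWA] at c2
  rw [← hAstar] at c3
  have hle : Nat.card ↥(W ⊓ Z₀) ≤ Nat.card ↥(W ⊓ A) :=
    Subgroup.card_le_of_le (inf_le_inf_left W hZ₀A)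
  have hcardAstar : Nat.card A ≤ Nat.card Astar := by
    have hpos1 : 0 < Nat.card A := Nat.card_pos
    have hpos2 : 0 < Nat.card ↥(W ⊓ Z₀) := Nat.card_pos
    have key : Nat.card A * (Nat.card A * Nat.card ↥(W ⊓ Z₀)) ≤
        Nat.card Astar * (Nat.card A * Nat.card ↥(W ⊓ Z₀)) := by
      calc Nat.card A * (Nat.card A * Nat.card ↥(W ⊓ Z₀))
          ≤ Nat.card A * (Nat.card A * Nat.card ↥(W ⊓ A)) := by gcongr
        _ = (Nat.card M * Nat.card Z₀) * Nat.card ↥(W ⊓ A) := by rw [c1]; ring
        _ = (Nat.card M * Nat.card ↥(W ⊓ A)) * Nat.card Z₀ := by ring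
        _ = (Nat.card W * Nat.card A) * Nat.card Z₀ := by rw [c2]
        _ = (Nat.card W * Nat.card Z₀) * Nat.card A := by ring
        _ = (Nat.card Astar * Nat.card ↥(W ⊓ Z₀)) * Nat.card A := by rw [c3]
        _ = Nat.card Astar * (Nat.card A * Nat.card ↥(W ⊓ Z₀)) := by ring
    exact Nat.le_of_mul_le_mul_right key (Nat.mul_pos hpos1 hpos2)
  refine ⟨Astar, ⟨hAstarc, fun B hB => (hAmax B hB).trans hcardAstar⟩, ?_, ?_⟩
  · exact sup_le (hWM.trans hMA₁) (hZ₀A.trans hAA₁)
  · have hAVZ : A ⊓ V ≤ Astar ⊓ V := by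
      intro v hv
      obtain ⟨hvA, hvV⟩ := Subgroup.mem_inf.1 hv
      refine Subgroup.mem_inf.2 ⟨?_, hvV⟩
      apply (le_sup_right : Z₀ ≤ Astar)
      refine Subgroup.mem_inf.2 ⟨hvA, (hmemA' v).2 ⟨v, hvA, ?_⟩⟩
      rw [hVc x hxV v hvV]; group
    apply lt_of_le_of_ne (Subgroup.card_le_of_le hAVZ)
    intro heq
    have heq' : A ⊓ V = Astar ⊓ V := Subgroup.eq_of_le_of_card_ge hAVZ heq.ge
    apply hxA
    rw [Subgroup.mem_normalizer_iff_map_conj_eq]
    apply Subgroup.eq_of_le_of_card_ge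
    · intro y hy
      obtain ⟨a, ha, rfl⟩ := (hmemA' y).1 hy
      have h1 : x * a * x⁻¹ * a⁻¹ ∈ Astar ⊓ V :=
        Subgroup.mem_inf.2 ⟨(le_sup_left : W ≤ Astar) (hcommW a ha), hWV (hcommW a ha)⟩
      rw [← heq'] at h1
      have : x * a * x⁻¹ = (x * a * x⁻¹ * a⁻¹) * a := by group
      rw [this]
      exact A.mul_mem (Subgroup.mem_inf.1 h1).1 ha
    · exact hcardA'.ge

/-- If all commutators `⁅c, x⁆` (`c ∈ C`) are central in `C ⊔ ⟨x⟩`, that group has class at
most two. -/
theorem class_two_gen {T : Type*} [Group T] (C : Subgroup T) (hC : IsMulCommutative C) (x : T)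
    (h : ∀ c ∈ C, ⁅c, x⁆ ∈ Subgroup.centralizer ((C ⊔ Subgroup.zpowers x : Subgroup T) : Set T)) :
    ⁅⁅C ⊔ Subgroup.zpowers x, C ⊔ Subgroup.zpowers x⁆, C ⊔ Subgroup.zpowers x⁆ = ⊥ := by
  set H := C ⊔ Subgroup.zpowers x with hH
  have hxH : x ∈ H := (le_sup_right : Subgroup.zpowers x ≤ H) (Subgroup.mem_zpowers x)
  have hCH : C ≤ H := le_sup_left
  let x' : H := ⟨x, hxH⟩
  -- the set of `y` with `⁅x', y⁆` central
  let Y : Subgroup H :=
    { carrier := {y | ⁅x', y⁆ ∈ Subgroup.center H}
      one_mem' := by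
        show ⁅x', (1 : H)⁆ ∈ Subgroup.center H
        rw [commutatorElement_one_right]; exact Subgroup.one_mem _
      mul_mem' := by
        intro y₁ y₂ h₁ h₂
        show ⁅x', y₁ * y₂⁆ ∈ Subgroup.center H
        have h₂' : ⁅x', y₂⁆ ∈ Subgroup.center H := h₂
        have hc : y₁ * ⁅x', y₂⁆ * y₁⁻¹ = ⁅x', y₂⁆ := by
          rw [(Subgroup.mem_center_iff.1 h₂' y₁)]; group
        have : ⁅x', y₁ * y₂⁆ = ⁅x', y₁⁆ * (y₁ * ⁅x', y₂⁆ * y₁⁻¹) := by
          simp only [commutatorElement_def]; group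
        rw [this, hc]
        exact Subgroup.mul_mem _ h₁ h₂
      inv_mem' := by
        intro y hy
        show ⁅x', y⁻¹⁆ ∈ Subgroup.center H
        have hy' : ⁅x', y⁆ ∈ Subgroup.center H := hy
        have hc : y⁻¹ * ⁅x', y⁆⁻¹ * y = ⁅x', y⁆⁻¹ := by
          have := Subgroup.mem_center_iff.1 (Subgroup.inv_mem _ hy') y⁻¹
          rw [this]; group
        have : ⁅x', y⁻¹⁆ = y⁻¹ * ⁅x', y⁆⁻¹ * y := by
          simp only [commutatorElement_def]; group
        rw [this, hc]
        exact Subgroup.inv_mem _ hy' }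
  have hYmem : ∀ y : H, y ∈ Y ↔ ⁅x', y⁆ ∈ Subgroup.center H := fun y => Iff.rfl
  have hx'Y : x' ∈ Y := by
    rw [hYmem, commutatorElement_self]; exact Subgroup.one_mem _
  have hCY : ∀ c (hc : c ∈ C), (⟨c, hCH hc⟩ : H) ∈ Y := by
    intro c hc
    rw [hYmem]
    have h1 : ⁅(⟨c, hCH hc⟩ : H), x'⁆ ∈ Subgroup.center H := by
      rw [Subgroup.mem_center_iff]
      intro g
      apply Subtype.ext
      have := (Subgroup.mem_centralizer_iff.1 (h c hc)) (g : T) g.2
      simpa [commutatorElement_def] using this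
    have : ⁅x', (⟨c, hCH hc⟩ : H)⁆ = ⁅(⟨c, hCH hc⟩ : H), x'⁆⁻¹ := by
      rw [commutatorElement_inv]
    rw [this]
    exact Subgroup.inv_mem _ h1
  have hYtop : Y = ⊤ := by
    rw [eq_top_iff]
    have hle : C ⊔ Subgroup.zpowers x ≤ Y.map H.subtype := by
      apply sup_le
      · intro c hc
        exact Subgroup.mem_map.2 ⟨⟨c, hCH hc⟩, hCY c hc, rfl⟩
      · rw [Subgroup.zpowers_le]
        exact Subgroup.mem_map.2 ⟨x', hx'Y, rfl⟩
    intro y _
    obtain ⟨y', hy', hyy'⟩ := Subgroup.mem_map.1 (hle y.2)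
    have : y' = y := Subtype.ext hyy'
    rw [← this]; exact hy'
  have hx2 : x' ∈ Subgroup.upperCentralSeries H 2 := by
    rw [show (2 : ℕ) = 1 + 1 from rfl, Subgroup.mem_upperCentralSeries_succ_iff]
    intro y
    rw [Subgroup.upperCentralSeries_one]
    have : y ∈ Y := by rw [hYtop]; exact Subgroup.mem_top y
    exact this
  have hC' : IsMulCommutative (C.subgroupOf H) := Subgroup.subgroupOf_isMulCommutative H C
  have key := S3061.class_two_of_mem_ucs_two (C.subgroupOf H) hC' x' hx2
  have hmap := congrArg (Subgroup.map H.subtype) key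
  rw [Subgroup.map_bot, Subgroup.map_commutator, Subgroup.map_commutator, Subgroup.map_sup,
    MonoidHom.map_zpowers, Subgroup.subgroupOf_map_subtype, inf_of_le_left hCH] at hmap
  exact hmap


/-- A member of the `D*` family centralizes every abelian subgroup it normalizes. -/
theorem centralizes_of_normalizes {S : Type*} [Group S] [Group.IsNilpotent S] (A B : Subgroup S)
    (hA : A ∈ dStarFamily S) (hB : IsMulCommutative B)
    (hAB : A ≤ Subgroup.normalizer (B : Set S)) : A ≤ Subgroup.centralizer (B : Set S) := by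
  set T := A ⊔ B with hT
  have hAT : A ≤ T := le_sup_left
  have hBT : B ≤ T := le_sup_right
  have hA' := S3061.mem_family_subgroupOf T A hAT hA
  have hB'n : (B.subgroupOf T).Normal := Subgroup.normal_subgroupOf_sup_of_le_normalizer hAB
  have hB'c : ∀ u ∈ B.subgroupOf T, ∀ v ∈ B.subgroupOf T, u * v = v * u := by
    intro u hu v hv
    apply Subtype.ext
    exact setLike_mul_comm (s := B) (Subgroup.mem_subgroupOf.1 hu) (Subgroup.mem_subgroupOf.1 hv)
  have key : ∀ n : ℕ, B.subgroupOf T ⊓ Subgroup.upperCentralSeries T n ≤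
      Subgroup.centralizer ((A.subgroupOf T : Subgroup T) : Set T) := by
    intro n
    induction n with
    | zero =>
      rw [Subgroup.upperCentralSeries_zero, inf_bot_eq]; exact bot_le
    | succ n ih =>
      intro b hb
      obtain ⟨hbB, hbZ⟩ := Subgroup.mem_inf.1 hb
      rw [Subgroup.mem_centralizer_iff]
      intro a ha
      refine hA'.2 b ?_ a ha
      apply class_two_gen _ hA'.1
      intro c hc
      -- ⁅c, b⁆ ∈ B' ⊓ Z_n
      have h1 : ⁅b, c⁆ ∈ Subgroup.upperCentralSeries T n :=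
        (Subgroup.mem_upperCentralSeries_succ_iff.1 hbZ) c
      have h2 : ⁅b, c⁆ ∈ B.subgroupOf T := by
        have : ⁅b, c⁆ = b * (c * b⁻¹ * c⁻¹) := by rw [commutatorElement_def]; group
        rw [this]
        exact Subgroup.mul_mem _ hbB (hB'n.conj_mem _ (Subgroup.inv_mem _ hbB) c)
      have h3 : ⁅c, b⁆ = ⁅b, c⁆⁻¹ := by rw [commutatorElement_inv]
      have h4 : ⁅c, b⁆ ∈ B.subgroupOf T ⊓ Subgroup.upperCentralSeries T n := by
        rw [h3]; exact Subgroup.inv_mem _ (Subgroup.mem_inf.2 ⟨h2, h1⟩)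
      have h5 := ih h4
      have hle : A.subgroupOf T ⊔ Subgroup.zpowers b ≤ Subgroup.centralizer ({⁅c, b⁆} : Set T) := by
        apply sup_le
        · intro a' ha'
          rw [Subgroup.mem_centralizer_singleton_iff]
          exact Subgroup.mem_centralizer_iff.1 h5 a' ha'
        · rw [Subgroup.zpowers_le, Subgroup.mem_centralizer_singleton_iff]
          exact hB'c b hbB _ (Subgroup.mem_inf.1 h4).1
      rw [Subgroup.mem_centralizer_iff]
      intro g hg
      have := hle hg
      rw [Subgroup.mem_centralizer_singleton_iff] at this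
      exact this
  obtain ⟨n, hn⟩ := Group.IsNilpotent.nilpotent' (G := T)
  have hfin : B.subgroupOf T ≤ Subgroup.centralizer ((A.subgroupOf T : Subgroup T) : Set T) := by
    have := key n
    rwa [hn, inf_top_eq] at this
  intro a ha
  rw [Subgroup.mem_centralizer_iff]
  intro b hb
  have h1 : (⟨b, hBT hb⟩ : T) ∈ B.subgroupOf T := Subgroup.mem_subgroupOf.2 hb
  have h2 : (⟨a, hAT ha⟩ : T) ∈ A.subgroupOf T := Subgroup.mem_subgroupOf.2 ha
  have := Subgroup.mem_centralizer_iff.1 (hfin h1) _ h2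
  -- this : a' * b' = b' * a'
  exact (congrArg Subtype.val this).symm


/-- Conjugates of members of the `D*` family are members. -/
theorem map_conj_mem_family {S : Type*} [Group S] (A : Subgroup S) (hA : A ∈ dStarFamily S)
    (g : S) : A.map (MulAut.conj g).toMonoidHom ∈ dStarFamily S := by
  obtain ⟨hAc, hAx⟩ := hA
  refine ⟨Subgroup.map_isMulCommutative A _, ?_⟩
  intro x hx a' ha'
  obtain ⟨a, ha, rfl⟩ := Subgroup.mem_map.1 ha'
  have hmap := congrArg (Subgroup.map (MulAut.conj g⁻¹).toMonoidHom) hx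
  rw [Subgroup.map_bot, Subgroup.map_commutator, Subgroup.map_commutator, Subgroup.map_sup,
    MonoidHom.map_zpowers, Subgroup.map_map] at hmap
  have hid : (MulAut.conj g⁻¹).toMonoidHom.comp (MulAut.conj g).toMonoidHom = MonoidHom.id S := by
    ext y; simp [MulAut.conj_apply]; group
  rw [hid, Subgroup.map_id] at hmap
  have h1 := hAx _ hmap a ha
  -- h1 : a * (conj g⁻¹ x) = (conj g⁻¹ x) * a
  simp only [MulEquiv.coe_toMonoidHom, MulAut.conj_apply, inv_inv] at h1 ⊢
  calc g * a * g⁻¹ * x = g * (a * (g⁻¹ * x * g)) * g⁻¹ := by group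
    _ = g * ((g⁻¹ * x * g) * a) * g⁻¹ := by rw [h1]
    _ = x * (g * a * g⁻¹) := by group

theorem dStar_normal {S : Type*} [Group S] : (dStar S).Normal := by
  constructor
  intro n hn g
  -- every member's conjugate lies in dStar; use closure induction on sSup
  have hle : ∀ A ∈ dStarFamily S, A ≤ (dStar S).comap (MulAut.conj g).toMonoidHom := by
    intro A hA a ha
    rw [Subgroup.mem_comap]
    have : A.map (MulAut.conj g).toMonoidHom ≤ dStar S := le_sSup (map_conj_mem_family A hA g)
    exact this (Subgroup.mem_map_of_mem _ ha)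
  have h2 : dStar S ≤ (dStar S).comap (MulAut.conj g).toMonoidHom := sSup_le hle
  have := h2 hn
  rw [Subgroup.mem_comap] at this
  simpa [MulAut.conj_apply] using this

/-- If `V` is not contained in the normalizer of `A`, some element of `V` normalizes the
normalizer of `A` but not `A` (normalizers grow in nilpotent groups). -/
theorem exists_normalizing {S : Type*} [Group S] [Finite S] {p : ℕ} [Fact p.Prime]
    (hS : IsPGroup p S) (V A : Subgroup S) [V.Normal]
    (hnot : ¬ V ≤ Subgroup.normalizer (A : Set S)) :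
    ∃ x ∈ V, x ∈ Subgroup.normalizer ((Subgroup.normalizer (A : Set S) : Subgroup S) : Set S) ∧
      x ∉ Subgroup.normalizer (A : Set S) := by
  set N := Subgroup.normalizer (A : Set S) with hN
  set K := N ⊔ V with hK
  have hNK : N ≤ K := le_sup_left
  have hKp : IsPGroup p K := hS.to_subgroup K
  have hKnil : Group.IsNilpotent K := hKp.isNilpotent
  have hnc : NormalizerCondition K := Group.normalizerCondition_of_isNilpotent
  have hlt : N.subgroupOf K < ⊤ := by
    rw [lt_top_iff_ne_top, Ne, Subgroup.subgroupOf_eq_top]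
    intro h
    exact hnot (le_sup_right.trans h)
  have h2 := hnc _ hlt
  rw [← Subgroup.subgroupOf_normalizer_eq hNK] at h2
  obtain ⟨y, hy1, hy2⟩ := SetLike.exists_of_lt h2
  rw [Subgroup.mem_subgroupOf] at hy1 hy2
  obtain ⟨n, hn, v, hv, hnv⟩ := Subgroup.mem_sup_of_normal_right.mp y.2
  refine ⟨v, hv, ?_, ?_⟩
  · have : v = n⁻¹ * (y : S) := by rw [← hnv]; group
    rw [this]
    exact mul_mem (inv_mem (Subgroup.le_normalizer hn)) hy1
  · intro hvN
    apply hy2
    rw [← hnv]
    exact mul_mem hn hvN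

theorem exists_maxAbelian (S : Type*) [Group S] [Finite S] : ∃ A, A ∈ maxAbelianSubgroups S := by
  haveI : Nonempty {B : Subgroup S // IsMulCommutative B} :=
    ⟨⟨⊥, inferInstance⟩⟩
  obtain ⟨A, hA⟩ := Finite.exists_max (fun B : {B : Subgroup S // IsMulCommutative B} => Nat.card B.1)
  exact ⟨A.1, A.2, fun B hB => hA ⟨B, hB⟩⟩

/-- An abelian subgroup centralizing an abelian subgroup of largest order lies in it. -/
theorem le_of_le_centralizer {S : Type*} [Group S] [Finite S] (V A : Subgroup S)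
    (hV : IsMulCommutative V) (hA : A ∈ maxAbelianSubgroups S)
    (h : V ≤ Subgroup.centralizer (A : Set S)) : V ≤ A := by
  have hc : IsMulCommutative ↥(V ⊔ A) :=
    isMulCommutative_sup V A (Subgroup.le_centralizer_iff_isMulCommutative.2 hV)
      (Subgroup.le_centralizer_iff_isMulCommutative.2 hA.1) h
  have h1 := hA.2 (V ⊔ A) hc
  have h2 : A = V ⊔ A := Subgroup.eq_of_le_of_card_ge le_sup_right h1
  rw [h2]; exact le_sup_left


/-- `D*(S)` centralizes every abelian subgroup of largest order. -/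
theorem dStar_le_centralizer {S : Type*} [Group S] [Finite S] {p : ℕ} [Fact p.Prime]
    (hS : IsPGroup p S) :
    ∀ k : ℕ, ∀ A ∈ maxAbelianSubgroups S, Nat.card (dStar S) - Nat.card ↥(A ⊓ dStar S) = k →
      dStar S ≤ Subgroup.centralizer (A : Set S) := by
  have hnil : Group.IsNilpotent S := hS.isNilpotent
  have hVfam : dStar S ∈ dStarFamily S := S3061.result hS
  have hVn : (dStar S).Normal := dStar_normal
  intro k
  induction k using Nat.strong_induction_on with
  | _ k ih =>
    intro A hA hk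
    by_cases h : dStar S ≤ Subgroup.normalizer (A : Set S)
    · exact centralizes_of_normalizes (dStar S) A hVfam hA.1 h
    · exfalso
      obtain ⟨x, hxV, hxN, hxA⟩ := exists_normalizing hS (dStar S) A h
      obtain ⟨Astar, hAstar, hAsN, hlt⟩ := replacement (dStar S) A hVfam.1 hA x hxV hxN hxA
      have hle : Nat.card ↥(Astar ⊓ dStar S) ≤ Nat.card (dStar S) :=
        Subgroup.card_le_of_le inf_le_right
      have hk' : Nat.card (dStar S) - Nat.card ↥(Astar ⊓ dStar S) < k := by omega
      have h1 := ih _ hk' Astar hAstar rfl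
      have h2 := le_of_le_centralizer (dStar S) Astar hVfam.1 hAstar h1
      exact h (h2.trans hAsN)

/-- Let S be a finite p-group, J(S) the subgroup generated by the abelian subgroups of S of largest order and Z(J(S)) its centre. Then Z(S) ≤ D*(S) ≤ Z(J(S)), and every maximal normal abelian subgroup of S contains D*(S). -/
theorem result {S : Type*} [Group S] [Finite S] {p : ℕ} [Fact p.Prime]
    (hS : IsPGroup p S) :
    Subgroup.center S ≤ Cfsg.dStar S ∧
    Cfsg.dStar S ≤ Cfsg.thompsonSubgroupA S ⊓ Subgroup.centralizer (Cfsg.thompsonSubgroupA S : Set S) ∧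
    ∀ A : Subgroup S, A.Normal → IsMulCommutative A →
      (∀ B : Subgroup S, B.Normal → IsMulCommutative B → A ≤ B → B = A) → Cfsg.dStar S ≤ A := by
  have hnil : Group.IsNilpotent S := hS.isNilpotent
  have hVfam : dStar S ∈ dStarFamily S := S3061.result hS
  have hVn : (dStar S).Normal := dStar_normal
  refine ⟨?_, ?_, ?_⟩
  · apply le_sSup
    refine ⟨inferInstance, ?_⟩
    intro x _ a ha
    exact (Subgroup.mem_center_iff.1 ha x).symm
  · have hcen : ∀ A ∈ maxAbelianSubgroups S, dStar S ≤ Subgroup.centralizer (A : Set S) :=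
      fun A hA => dStar_le_centralizer hS _ A hA rfl
    refine le_inf ?_ ?_
    · obtain ⟨A₀, hA₀⟩ := exists_maxAbelian S
      exact (le_of_le_centralizer (dStar S) A₀ hVfam.1 hA₀ (hcen A₀ hA₀)).trans (le_sSup hA₀)
    · rw [Subgroup.le_centralizer_iff]
      unfold thompsonSubgroupA
      apply sSup_le
      intro A hA
      exact Subgroup.le_centralizer_iff.1 (hcen A hA)
  · intro A hAn hAc hmax
    have h1 : dStar S ≤ Subgroup.normalizer (A : Set S) := by
      rw [Subgroup.normalizer_eq_top_iff.2 hAn]; exact le_top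
    have h2 := centralizes_of_normalizes (dStar S) A hVfam hAc h1
    have hc : IsMulCommutative ↥(dStar S ⊔ A) :=
      isMulCommutative_sup (dStar S) A (Subgroup.le_centralizer_iff_isMulCommutative.2 hVfam.1)
        (Subgroup.le_centralizer_iff_isMulCommutative.2 hAc) h2
    have hn : (dStar S ⊔ A).Normal := Subgroup.sup_normal _ _
    have := hmax (dStar S ⊔ A) hn hc le_sup_right
    rw [← this]; exact le_sup_left

end Cfsg.Agent.S3062
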