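import Cfsg.Statements.S1358
import Cfsg.Agent.S1350
import Cfsg.Agent.S1405
import Cfsg.Agent.S1417
import Cfsg.Agent.Lib.Helper76.BGSigU2

set_option autoImplicit false
open Cfsg

namespace Cfsg.Agent.S1358

/-- Let G be a minimal simple group of odd order and M a maximal subgroup with standard factorisation M = K U M_σ. Then for every prime p, every Sylow p-subgroup of U is abelian and has no elementary abelian subgroup of order p ^ 3. -/
theorem result {G : Type*} [Group G] [Finite G] (hG : Cfsg.IsMinSimpleOddOrder G)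
    (M : Subgroup G) (hM : IsCoatom M) (K U : Subgroup G) (hKU : Cfsg.IsSigmaDecomposition M K U) :
    ∀ (p : ℕ), p.Prime → ∀ P : Sylow p U, IsMulCommutative (P : Subgroup U) ∧ Cfsg.PRankLE p 2 (P : Subgroup U) := by
  have h50 := Cfsg.Agent.S1350.result hG M hM
  have h05 := Cfsg.Agent.S1405.result hG M hM
  exact Cfsg.Agent.Lib.Helper76.BGSigU.sylow_U hG.1 h50.1 h05.1 h05.2.2.1
    (fun p _ hp A hA P => ((Cfsg.Agent.S1417.result hG M hM p hp A hA).2.1 P).1) hKU

end Cfsg.Agent.S1358
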