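import Cfsg.Statements.S0190
import Mathlib

set_option autoImplicit false
open Cfsg

namespace Cfsg.Agent.S0190

theorem extendByZero_one {G : Type*} [Group G] (H : Subgroup G) [DecidablePred (· ∈ H)] (z : G) :
    Cfsg.extendByZero H (fun _ : H => (1 : ℂ)) z = if z ∈ H then 1 else 0 := by
  unfold Cfsg.extendByZero
  split_ifs with h
  · exact Subtype.val_injective.extend_apply (fun _ : H => (1 : ℂ)) 0 ⟨z, h⟩
  · apply Function.extend_apply'
    rintro ⟨a, rfl⟩
    exact h a.2

/-- For a transitive action of a finite group on X, the permutation character g ↦ (number of fixed points of g) is the function induced from the principal character of the stabilizer of any point. -/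
theorem result {G : Type*} [Group G] [Fintype G] (X : Type*) [MulAction G X] [Finite X] [MulAction.IsPretransitive G X] (x : X) : (fun g : G => (Nat.card (MulAction.fixedBy X g) : ℂ)) = Cfsg.indFun (MulAction.stabilizer G x) (fun _ => 1) := by
  classical
  funext g
  unfold Cfsg.indFun
  simp only [extendByZero_one]
  rw [Finset.sum_ite, Finset.sum_const_zero, add_zero, Finset.sum_const, nsmul_eq_mul, mul_one]
  -- count
  have hsec : ∀ p : X, ∃ y : G, y • x = p := fun p => MulAction.exists_smul_eq G x p
  choose σ hσ using hsec
  have hmem : ∀ y : G, y⁻¹ * g * y ∈ MulAction.stabilizer G x ↔ g • (y • x) = y • x := by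
    intro y
    rw [MulAction.mem_stabilizer_iff, mul_smul, mul_smul, inv_smul_eq_iff]
  let e : {y : G // y⁻¹ * g * y ∈ MulAction.stabilizer G x} ≃
      MulAction.fixedBy X g × MulAction.stabilizer G x :=
    { toFun := fun y => (⟨y.1 • x, (hmem y.1).1 y.2⟩, ⟨(σ (y.1 • x))⁻¹ * y.1, by
        rw [MulAction.mem_stabilizer_iff, mul_smul, inv_smul_eq_iff, hσ]⟩)
      invFun := fun ph => ⟨σ ph.1.1 * ph.2.1, by
        rw [hmem, mul_smul]
        have h2 : ph.2.1 • x = x := ph.2.2
        rw [h2, hσ]
        exact ph.1.2⟩
      left_inv := by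
        intro y
        apply Subtype.ext
        simp
      right_inv := by
        rintro ⟨⟨p, hp⟩, ⟨h, hh⟩⟩
        have h2 : h • x = x := hh
        simp only [mul_smul, h2, hσ, inv_mul_cancel_left] }
  have hcard : (Finset.univ.filter (fun y : G => y⁻¹ * g * y ∈ MulAction.stabilizer G x)).card =
      Nat.card (MulAction.fixedBy X g) * Nat.card (MulAction.stabilizer G x) := by
    rw [← Nat.card_prod, ← Nat.card_congr e, Nat.card_eq_fintype_card, Fintype.card_subtype]
  rw [hcard]
  have hpos : (Nat.card (MulAction.stabilizer G x) : ℂ) ≠ 0 := by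
    have : 0 < Nat.card (MulAction.stabilizer G x) := Nat.card_pos
    exact_mod_cast this.ne'
  push_cast
  field_simp

end Cfsg.Agent.S0190
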