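import Cfsg.Statements.S2336
import Cfsg.Agent.Lib.Helper69.PermTorus
import Cfsg.Agent.Lib.Helper69.SLVec

set_option autoImplicit false
open Cfsg

namespace Cfsg.Agent.S2336

open Cfsg.Agent.Lib.Helper69

/-- Let F be a finite field with q elements and n ≥ 3. The permutation character of SL_n(F) on the non-zero vectors of F^n (the function sending a matrix to the number of non-zero vectors it fixes) is the sum of the principal character and q − 1 pairwise distinct irreducible complex characters. -/
theorem result {F : Type*} [Field F] [Fintype F] [DecidableEq F] (n : ℕ) (hn : 3 ≤ n) :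
    ∃ χ : Fin (Fintype.card F - 1) → (Matrix.SpecialLinearGroup (Fin n) F → ℂ),
      (∀ i, Cfsg.IsIrrCharacter (Matrix.SpecialLinearGroup (Fin n) F) (χ i)) ∧ Function.Injective χ ∧
      ∀ g : Matrix.SpecialLinearGroup (Fin n) F,
        (Nat.card {v : Fin n → F // v ≠ 0 ∧ (g : Matrix (Fin n) (Fin n) F).mulVec v = v} : ℂ) = 1 + ∑ i, χ i g := by
  obtain ⟨m, rfl⟩ : ∃ m, n = m + 3 := ⟨n - 3, by omega⟩
  obtain ⟨χ, hirr, hinj, hsum⟩ := PermTorus.perm_char_decomp
    (G := Matrix.SpecialLinearGroup (Fin (m + 3)) F) (X := SLVec.NZ (Fin (m + 3)) F) (A := Fˣ)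
    (SLVec.bvec m 0) (SLVec.bvec m 1) (SLVec.hfree_bvec m) (SLVec.hy0_bvec m) (SLVec.htr_bvec m)
  have hcard : Fintype.card Fˣ = Fintype.card F - 1 := Fintype.card_units F
  refine ⟨fun i => χ (Fin.cast hcard.symm i), fun i => hirr _, ?_, ?_⟩
  · intro i j hij
    have := hinj hij
    exact Fin.cast_injective _ this
  · intro g
    rw [Nat.card_congr (SLVec.fixedEquiv g), hsum g]
    congr 1
    exact (Fintype.sum_equiv (finCongr hcard.symm) _ _ (fun i => rfl)).symm

end Cfsg.Agent.S2336
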