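import Cfsg.Statements.S1499

set_option autoImplicit false
open Cfsg

namespace Cfsg.Agent.S1499

variable {G : Type*} [Group G]

theorem mem_centralizer_singleton (a c : G) :
    c ∈ Subgroup.centralizer ({a} : Set G) ↔ c * a = a * c := by
  rw [Subgroup.mem_centralizer_iff]
  constructor
  · intro h
    exact (h a rfl).symm
  · intro h x hx
    rw [Set.mem_singleton_iff] at hx
    subst hx
    exact h.symm

/-- If `a` and `u` commute, `a ^ k = a` and `u ^ k = 1` then `(a * u) ^ k = a`. -/
theorem mul_pow_eq (a u : G) (hc : a * u = u * a) (k : ℕ) (ha : a ^ k = a) (hu : u ^ k = 1) :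
    (a * u) ^ k = a := by
  have : Commute a u := hc
  rw [this.mul_pow, ha, hu, mul_one]

theorem pow_eq_self_of_modEq (a : G) (k M : ℕ) (hM : orderOf a ∣ M) (hk : k ≡ 1 [MOD M]) :
    a ^ k = a := by
  have h1 : k ≡ 1 [MOD orderOf a] := hk.of_dvd hM
  have := (pow_eq_pow_iff_modEq (x := a)).mpr h1
  rwa [pow_one] at this

theorem pow_eq_one_of_modEq (u : G) (k N : ℕ) (hN : orderOf u ∣ N) (hk : k ≡ 0 [MOD N]) :
    u ^ k = 1 := by
  have h1 : k ≡ 0 [MOD orderOf u] := hk.of_dvd hN
  have := (pow_eq_pow_iff_modEq (x := u)).mpr h1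
  rwa [pow_zero] at this

section
variable [Finite G] {A : Set G} {L : Subgroup G} {H : G → Subgroup G}

theorem a_mem (hD : Cfsg.DadeHypothesis A L H) {a : G} (ha : a ∈ A) :
    a ∈ L ⊓ Subgroup.centralizer ({a} : Set G) :=
  ⟨hD.subset ha, (mem_centralizer_singleton a a).mpr rfl⟩

/-- the uniform exponent -/
theorem exists_exponent (hD : Cfsg.DadeHypothesis A L H) {a b : G} (ha : a ∈ A) (hb : b ∈ A) :
    ∃ k : ℕ, (∀ u ∈ H a, (a * u) ^ k = a) ∧ (∀ v ∈ H b, (b * v) ^ k = b) ∧ a ^ k = a ∧ b ^ k = b := by
  set Ma := Nat.card ↥(L ⊓ Subgroup.centralizer ({a} : Set G)) with hMa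
  set Mb := Nat.card ↥(L ⊓ Subgroup.centralizer ({b} : Set G)) with hMb
  set Na := Nat.card (H a) with hNa
  set Nb := Nat.card (H b) with hNb
  have hco : Nat.Coprime (Ma * Mb) (Na * Nb) := by
    apply Nat.Coprime.mul_left
    · apply Nat.Coprime.mul_right
      · exact (hD.coprime a ha a ha).symm
      · exact (hD.coprime b hb a ha).symm
    · apply Nat.Coprime.mul_right
      · exact (hD.coprime a ha b hb).symm
      · exact (hD.coprime b hb b hb).symm
  obtain ⟨k, hk1, hk0⟩ := Nat.chineseRemainder hco 1 0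
  have hak : a ^ k = a := by
    apply pow_eq_self_of_modEq a k (Ma * Mb) _ hk1
    exact (Subgroup.orderOf_dvd_natCard _ (a_mem hD ha)).trans (dvd_mul_right _ _)
  have hbk : b ^ k = b := by
    apply pow_eq_self_of_modEq b k (Ma * Mb) _ hk1
    exact (Subgroup.orderOf_dvd_natCard _ (a_mem hD hb)).trans (dvd_mul_left _ _)
  refine ⟨k, ?_, ?_, hak, hbk⟩
  · intro u hu
    apply mul_pow_eq a u _ k hak
    · apply pow_eq_one_of_modEq u k (Na * Nb) _ hk0
      exact (Subgroup.orderOf_dvd_natCard _ hu).trans (dvd_mul_right _ _)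
    · exact ((mem_centralizer_singleton a u).mp (hD.le_centralizer a ha hu)).symm
  · intro v hv
    apply mul_pow_eq b v _ k hbk
    · apply pow_eq_one_of_modEq v k (Na * Nb) _ hk0
      exact (Subgroup.orderOf_dvd_natCard _ hv).trans (dvd_mul_left _ _)
    · exact ((mem_centralizer_singleton b v).mp (hD.le_centralizer b hb hv)).symm

theorem conj_pow (g x : G) (k : ℕ) : (g * x * g⁻¹) ^ k = g * x ^ k * g⁻¹ := by
  induction k with
  | zero => simp
  | succ n ih => rw [pow_succ, ih, pow_succ]; group

end

/-- Under the Dade hypothesis for (A, L, H), let a, b ∈ A. If an element of the coset a·H(a) is conjugate in G to an element of b·H(b), then a and b are conjugate by an element of L. Moreover the set normaliser of the coset a·H(a) is the centraliser of a. -/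
theorem result {G : Type*} [Group G] [Finite G] (A : Set G) (L : Subgroup G) (H : G → Subgroup G) (hD : Cfsg.DadeHypothesis A L H) (a b : G) (ha : a ∈ A) (hb : b ∈ A) : ((∃ u ∈ H a, ∃ v ∈ H b, ∃ g : G, g * (a * u) * g⁻¹ = b * v) → ∃ x ∈ L, x * a * x⁻¹ = b) ∧ Subgroup.normalizer ((fun u : G => a * u) '' (H a : Set G)) = Subgroup.centralizer ({a} : Set G) := by
  constructor
  · rintro ⟨u, hu, v, hv, g, hg⟩
    obtain ⟨k, hka, hkb, _, _⟩ := exists_exponent hD ha hb
    have h1 : g * a * g⁻¹ = b := by
      have := congrArg (fun t => t ^ k) hg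
      beta_reduce at this
      rw [conj_pow, hka u hu, hkb v hv] at this
      exact this
    obtain ⟨x, hx, hxa⟩ := hD.fusion a ha g (h1 ▸ hb)
    exact ⟨x, hx, hxa.trans h1⟩
  · apply le_antisymm
    · intro g hg
      rw [Subgroup.mem_set_normalizer_iff] at hg
      have haS : a ∈ (fun u : G => a * u) '' (H a : Set G) := ⟨1, (H a).one_mem, mul_one a⟩
      obtain ⟨u', hu', hgu⟩ := (hg a).mp haS
      simp only at hgu
      obtain ⟨k, hka, _, hak, _⟩ := exists_exponent hD ha ha
      have h1 : g * a * g⁻¹ = a := by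
        have := congrArg (fun t => t ^ k) hgu
        beta_reduce at this
        rw [conj_pow, hka u' hu', hak] at this
        exact this.symm
      rw [mem_centralizer_singleton]
      calc g * a = (g * a * g⁻¹) * g := by group
        _ = a * g := by rw [h1]
    · intro c hc
      have hc' : c * a = a * c := (mem_centralizer_singleton a c).mp hc
      have hci : c⁻¹ ∈ Subgroup.centralizer ({a} : Set G) := inv_mem hc
      have hci' : c⁻¹ * a = a * c⁻¹ := (mem_centralizer_singleton a c⁻¹).mp hci
      rw [Subgroup.mem_set_normalizer_iff]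
      intro n
      constructor
      · rintro ⟨u, hu, rfl⟩
        refine ⟨c * u * c⁻¹, hD.conj_mem_H a ha c hc u hu, ?_⟩
        simp only
        calc a * (c * u * c⁻¹) = (a * c) * u * c⁻¹ := by group
          _ = (c * a) * u * c⁻¹ := by rw [hc']
          _ = c * (a * u) * c⁻¹ := by group
      · rintro ⟨u, hu, hue⟩
        simp only at hue
        refine ⟨c⁻¹ * u * c, ?_, ?_⟩
        · have := hD.conj_mem_H a ha c⁻¹ hci u hu
          simpa using this
        · simp only
          calc a * (c⁻¹ * u * c) = (a * c⁻¹) * u * c := by group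
            _ = (c⁻¹ * a) * u * c := by rw [hci']
            _ = c⁻¹ * (a * u) * c := by group
            _ = c⁻¹ * (c * n * c⁻¹) * c := by rw [hue]
            _ = n := by group

end Cfsg.Agent.S1499
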