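import Cfsg.Statements.S1486
import Cfsg.Agent.Lib.Helper25.IndNormal

set_option autoImplicit false
open Cfsg

namespace Cfsg.Agent.S1486

open Cfsg.Agent.Lib.Helper25
open scoped ComplexConjugate

/-- Let H be a normal subgroup of the finite group G and θ, φ irreducible characters of H. If φ is a G-conjugate of θ then the functions induced from θ and φ coincide; if φ is not a G-conjugate of θ then the induced functions are orthogonal. -/
theorem result {G : Type*} [Group G] [Fintype G] (H : Subgroup G) [hN : H.Normal] (θ φ : H → ℂ) (hθ : Cfsg.IsIrrCharacter H θ) (hφ : Cfsg.IsIrrCharacter H φ) : ((∃ g : G, φ = fun h : H => θ ⟨g * h * g⁻¹, hN.conj_mem h h.2 g⟩) → Cfsg.indFun H φ = Cfsg.indFun H θ) ∧ ((¬ ∃ g : G, φ = fun h : H => θ ⟨g * h * g⁻¹, hN.conj_mem h h.2 g⟩) → Cfsg.classInner (Cfsg.indFun H φ) (Cfsg.indFun H θ) = 0) := by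
  classical
  constructor
  · rintro ⟨g, rfl⟩
    exact indFun_conjOn H θ g
  · intro hne
    haveI : Fintype H := Fintype.ofFinite H
    rw [frobenius_reciprocity H φ (indFun H θ) (indFun_isClassFunction H θ)]
    have hfun : (fun h : H => indFun H θ h) =
        (Nat.card H : ℂ)⁻¹ • ∑ x : G, conjOn H θ x := by
      funext h
      rw [indFun_restrict_normal, Pi.smul_apply, Finset.sum_apply, smul_eq_mul]
    rw [hfun, classInner_smul_right, classInner_sum_right]
    have : ∀ x : G, classInner φ (conjOn H θ x) = 0 := by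
      intro x
      rw [Cfsg.Agent.Lib.Helper3.classInner_irr hφ (conjOn_isIrr H hθ x), if_neg]
      intro h
      exact hne ⟨x, h⟩
    simp [this]

end Cfsg.Agent.S1486
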