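import Cfsg.Statements.S0398
import Cfsg.Agent.Lib.Conway.Basic
import Cfsg.Agent.Lib.Conway.M24Trans

set_option autoImplicit false
open Cfsg

namespace Cfsg.Agent.S0398

open Cfsg.Agent.Lib.Conway Cfsg.Agent.Lib.Helper93.Leech Cfsg.Agent.Lib.Helper93.Golay
open scoped Pointwise

set_option maxRecDepth 100000 in
theorem sep_bool : ∀ i j : Fin 24, i ≠ j →
    (List.range 4096).any (fun a => (combF a).testBit j.val && !(combF a).testBit i.val) = true := by
  decide +kernel

theorem fset_combF_mem (a : ℕ) (ha : a < 4096) : fset (combF a) ∈ CS := by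
  refine ⟨wordOf (comb a), wordOf_comb_mem a, ?_⟩
  rw [support₂_wordOf, combF_eq_comb a ha]

/-- two distinct points are separated by a code word -/
theorem exists_sep {i j : GolayPt} (h : i ≠ j) : ∃ c ∈ CS, j ∈ c ∧ i ∉ c := by
  have hne : ptIdx i ≠ ptIdx j := fun e => h (ptEquiv.injective e)
  have := sep_bool (ptIdx i) (ptIdx j) hne
  rw [List.any_eq_true] at this
  obtain ⟨a, ha, hb⟩ := this
  rw [List.mem_range] at ha
  rw [Bool.and_eq_true, Bool.not_eq_true'] at hb
  refine ⟨fset (combF a), fset_combF_mem a ha, ?_, ?_⟩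
  · rw [mem_fset]; exact hb.1
  · rw [mem_fset, hb.2]; simp

theorem signedPerm_one_fr {c : Finset GolayPt} {i : GolayPt} (hi : i ∉ c) :
    signedPerm 1 c (Pi.single i 8) = Pi.single i 8 := by
  funext j
  rw [signedPerm_apply]
  have h1 : (Equiv.symm (1 : Equiv.Perm GolayPt)) j = j := rfl
  rw [h1]
  by_cases hj : j ∈ c
  · have : j ≠ i := fun e => hi (e ▸ hj)
    simp [hj, this]
  · simp [hj]

theorem signedPerm_empty_fr (σ : Equiv.Perm GolayPt) (i : GolayPt) :
    signedPerm σ ∅ (Pi.single i 8) = Pi.single (σ i) 8 := by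
  funext j
  rw [signedPerm_apply]
  simp only [Finset.notMem_empty, if_false, Pi.single_apply]
  by_cases hj : j = σ i
  · subst hj; simp
  · have : σ.symm j ≠ i := fun e => hj (by rw [← e]; simp)
    simp [hj, this]

/-- the image of a frame vector under a central element -/
theorem central_fr (g : Co0) (hg : g ∈ Subgroup.center Co0) (i : GolayPt) :
    ∀ j, j ≠ i → ((g • fr i : leechLattice) : Vec) j = 0 := by
  intro j hji
  obtain ⟨c, hc, hjc, hic⟩ := exists_sep (Ne.symm hji)
  have hcomm : mono 1 c M24.one_mem hc * g = g * mono 1 c M24.one_mem hc :=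
    (Subgroup.mem_center_iff.mp hg (mono 1 c M24.one_mem hc))
  have h1 : mono 1 c M24.one_mem hc • fr i = fr i := by
    apply Subtype.ext
    rw [mono_smul, fr_coe, signedPerm_one_fr hic]
  have h2 : mono 1 c M24.one_mem hc • (g • fr i) = g • fr i := by
    rw [← co0_mul_smul, hcomm, co0_mul_smul, h1]
  have h3 := congrArg (fun v : leechLattice => (v : Vec) j) h2
  simp only [mono_smul, signedPerm_apply, hjc, if_true] at h3
  have h4 : (Equiv.symm (1 : Equiv.Perm GolayPt)) j = j := rfl
  rw [h4] at h3
  omega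

theorem sqNorm_of_single {y : Vec} {i : GolayPt} (h : ∀ j, j ≠ i → y j = 0) : sqNorm y = y i ^ 2 := by
  unfold sqNorm
  rw [Finset.sum_eq_single i]
  · intro j _ hj
    rw [h j hj]; norm_num
  · intro h; exact absurd (Finset.mem_univ i) h

theorem central_fr_val (g : Co0) (hg : g ∈ Subgroup.center Co0) (i : GolayPt) :
    ((g • fr i : leechLattice) : Vec) i = 8 ∨ ((g • fr i : leechLattice) : Vec) i = -8 := by
  have h1 := co0_norm g (fr i)
  rw [sqNorm_of_single (central_fr g hg i), fr_coe, sqNorm_of_single (i := i)] at h1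
  · simp only [Pi.single_eq_same] at h1
    have : (((g • fr i : leechLattice) : Vec) i - 8) * (((g • fr i : leechLattice) : Vec) i + 8) = 0 := by
      ring_nf
      ring_nf at h1
      omega
    rcases mul_eq_zero.mp this with h | h
    · left; omega
    · right; omega
  · intro j hj
    simp [hj]

theorem central_fr_const (g : Co0) (hg : g ∈ Subgroup.center Co0) (i j : GolayPt) :
    ((g • fr j : leechLattice) : Vec) j = ((g • fr i : leechLattice) : Vec) i := by
  obtain ⟨σ, hσ, rfl⟩ := m24_trans1 i j
  have hcomm : mono σ ∅ hσ empty_mem_supports * g = g * mono σ ∅ hσ empty_mem_supports :=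
    (Subgroup.mem_center_iff.mp hg _)
  have h1 : mono σ ∅ hσ empty_mem_supports • fr i = fr (σ i) := by
    apply Subtype.ext
    rw [mono_smul, fr_coe, signedPerm_empty_fr, fr_coe]
  have h2 : g • fr (σ i) = mono σ ∅ hσ empty_mem_supports • (g • fr i) := by
    rw [← h1, ← co0_mul_smul, ← hcomm, co0_mul_smul]
  rw [h2, mono_smul, signedPerm_apply]
  simp

/-- a central element acts as a scalar `±1` -/
theorem central_scalar (g : Co0) (hg : g ∈ Subgroup.center Co0) :
    ∃ s : ℤ, (s = 1 ∨ s = -1) ∧ ∀ v : leechLattice, g • v = s • v := by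
  set s8 := ((g • fr none : leechLattice) : Vec) none with hs8
  have hfr : ∀ i, g • fr i = (s8 / 8) • fr i := by
    intro i
    apply Subtype.ext
    funext j
    by_cases hj : j = i
    · subst hj
      rw [central_fr_const g hg none j, ← hs8]
      simp only [AddSubgroup.coe_zsmul, Pi.smul_apply, fr_coe, Pi.single_eq_same, smul_eq_mul]
      rcases central_fr_val g hg none with h | h <;> rw [← hs8] at h <;> rw [h] <;> norm_num
    · rw [central_fr g hg i j hj]
      simp [fr_coe, hj]
  refine ⟨s8 / 8, ?_, fun v => ?_⟩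
  · rcases central_fr_val g hg none with h | h <;> rw [← hs8] at h <;> rw [h] <;> norm_num
  · have h8 : (8 : ℤ) • (g • v) = (8 : ℤ) • ((s8 / 8) • v) := by
      rw [← co0_zsmul, eight_smul_eq v, co0_sum, smul_comm, eight_smul_eq v, Finset.smul_sum]
      apply Finset.sum_congr rfl
      intro i _
      rw [co0_zsmul, hfr i, smul_comm]
    apply Subtype.ext
    funext j
    have := congrArg (fun w : leechLattice => (w : Vec) j) h8
    simp only [AddSubgroup.coe_zsmul, Pi.smul_apply, smul_eq_mul] at this ⊢
    omega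

theorem central_cases (g : Co0) (hg : g ∈ Subgroup.center Co0) : g = 1 ∨ g = negCo0 := by
  obtain ⟨s, hs, h⟩ := central_scalar g hg
  rcases hs with rfl | rfl
  · left
    apply co0_ext
    intro v
    rw [h v, one_smul, co0_one_smul]
  · right
    apply co0_ext
    intro v
    rw [h v, negCo0_smul, neg_one_zsmul]

theorem negCo0_mem_center : negCo0 ∈ Subgroup.center Co0 := by
  rw [Subgroup.mem_center_iff]
  intro h
  apply co0_ext
  intro v
  rw [co0_mul_smul, co0_mul_smul, negCo0_smul, negCo0_smul, co0_neg]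

theorem negCo0_ne_one : negCo0 ≠ 1 := by
  intro h
  have := congrArg (fun g : Co0 => ((g • fr none : leechLattice) : Vec) none) h
  simp only [negCo0_smul, co0_one_smul, AddSubgroup.coe_neg, Pi.neg_apply, fr_coe,
    Pi.single_eq_same] at this
  omega

/-- The centre of the automorphism group of the rank-24 lattice has order 2. -/
theorem result : Nat.card (Subgroup.center Cfsg.Co0) = 2 := by
  rw [Nat.card_eq_two_iff]
  refine ⟨⟨1, Subgroup.one_mem _⟩, ⟨negCo0, negCo0_mem_center⟩, ?_, ?_⟩
  · intro h
    exact negCo0_ne_one (congrArg Subtype.val h).symm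
  · ext ⟨g, hg⟩
    simp only [Set.mem_insert_iff, Set.mem_singleton_iff, Set.mem_univ, iff_true, Subtype.mk.injEq]
    exact central_cases g hg

end Cfsg.Agent.S0398
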