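import Cfsg.Statements.S1578
import Cfsg.Agent.Lib.Helper26.LeechDot3
import Cfsg.Agent.Lib.Conway.Trans6

set_option autoImplicit false
open scoped Pointwise
open Cfsg

namespace Cfsg.Agent.S1578

open Cfsg.Agent.Lib.Helper26.LeechDot Cfsg.Agent.Lib.Golay.LeechCount Cfsg.Agent.Lib.Conway

theorem hsum51 : ∀ m : ℤ, m = 0 ∨ m = 1 → ∀ (c : Finset GolayPt),
    ∀ x ∈ box K5 m c, dotInt (zv 5 1) x = 24 → (∑ i, x i) % 8 = (4 * m) % 8 := by
  intro m hm c x hx hdot
  rw [dot_zv] at hdot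
  have := (mem_box.1 hx none).2
  split_ifs at this <;> rcases hm with rfl | rfl <;> omega

theorem Zc51 : Zc 5 1 = 140 := by decide

theorem tot24 : totalD (gz 5 0) (gz 5 1) (gz 5 2) (gz 5 3) (gz 1 0) (gz 1 1) (gz 1 2) (gz 1 3)
    (400 * 32 + ((24 : ℤ) + Zc 5 1).toNat) = 552 := by decide +kernel

theorem census :
    {w : GolayPt → ℤ | w ∈ leechLattice ∧ sqNorm w = 32 ∧ dotInt (L5 : Vec) w = 24}.ncard = 552 := by
  have h := ncard_SD_eq 5 1 (by rw [Zc51]; norm_num) 32 (by norm_num) 24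
    (by rw [Zc51]; norm_num) (by rw [Zc51]; norm_num) hsum51
  rw [tot24] at h
  exact h

theorem sqNorm_sub (x y : Vec) : sqNorm (x - y) = sqNorm x - 2 * dotInt x y + sqNorm y := by
  unfold sqNorm dotInt
  rw [Finset.mul_sum, ← Finset.sum_sub_distrib, ← Finset.sum_add_distrib]
  apply Finset.sum_congr rfl
  intro i _
  simp only [Pi.sub_apply]
  ring

/-- A lattice vector of customary norm 6 is the sum of an unordered pair of minimal vectors in exactly 276 ways (552 ordered summands). -/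
theorem result (u : ↥Cfsg.leechLattice) (hu : Cfsg.sqNorm (u : Cfsg.GolayPt → ℤ) = 48) : {v : ↥Cfsg.leechLattice | Cfsg.sqNorm (v : Cfsg.GolayPt → ℤ) = 32 ∧ Cfsg.sqNorm ((u - v) : Cfsg.GolayPt → ℤ) = 32}.ncard = 552 := by
  have hL5 : sqNorm (L5 : Vec) = 48 := by
    show sqNorm v5 = 48
    unfold sqNorm
    decide +kernel
  obtain ⟨g, hg⟩ := trans6 L5 u hL5 hu
  have key := ncard_dot_congr g L5 32 24
  rw [hg, census] at key
  rw [← key]
  symm
  apply Set.ncard_congr (fun w hw => (⟨w, hw.1⟩ : leechLattice))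
  · rintro w ⟨h1, h2, h3⟩
    refine ⟨h2, ?_⟩
    show sqNorm ((u : Vec) - w) = 32
    rw [sqNorm_sub, hu, h2, h3]
    norm_num
  · intro w w' _ _ h
    exact congrArg Subtype.val h
  · rintro ⟨w, hw⟩ ⟨h2, h3⟩
    refine ⟨w, ⟨hw, h2, ?_⟩, rfl⟩
    have h4 : sqNorm ((u : Vec) - w) = 32 := h3
    have h2' : sqNorm w = 32 := h2
    rw [sqNorm_sub, hu, h2'] at h4
    omega

end Cfsg.Agent.S1578
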