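import Cfsg.Statements.S1640
import Cfsg.Agent.Lib.Conway.Co3Main

set_option autoImplicit false
open Cfsg

namespace Cfsg.Agent.S1640

open Cfsg.Agent.Lib.Conway Cfsg.Agent.Lib.Conway.Co3Data

theorem L5_norm : sqNorm (L5 : Vec) = 48 := by
  show sqNorm v5 = 48
  unfold sqNorm
  decide +kernel

theorem mem_Xs_of {g0 : Co0} {u x : leechLattice} (hg0 : g0 • L5 = u)
    (hx : sqNorm (x : Vec) = 32 ∧ dotInt (u : Vec) (x : Vec) = -16) : g0⁻¹ • x ∈ Xs := by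
  refine ⟨?_, ?_⟩
  · rw [co0_norm]; exact hx.1
  · have h := Cfsg.Agent.Lib.Helper26.LeechDot.co0_dot g0⁻¹ u x
    rw [← hg0, inv_smul_smul] at h
    rw [h, hg0]
    exact hx.2

/-- For a vector u of sum of squares 48 in the rank-24 lattice, the minimal vectors with coordinate dot product −16 with u number 11178, and the stabiliser of u in the automorphism group of the lattice is transitive on them. -/
theorem result (u : ↥Cfsg.leechLattice) (hu : Cfsg.sqNorm (u : Cfsg.GolayPt → ℤ) = 48) : {x : ↥Cfsg.leechLattice | Cfsg.sqNorm (x : Cfsg.GolayPt → ℤ) = 32 ∧ Cfsg.dotInt (u : Cfsg.GolayPt → ℤ) (x : Cfsg.GolayPt → ℤ) = -16}.ncard = 11178 ∧ ∀ x ∈ {x : ↥Cfsg.leechLattice | Cfsg.sqNorm (x : Cfsg.GolayPt → ℤ) = 32 ∧ Cfsg.dotInt (u : Cfsg.GolayPt → ℤ) (x : Cfsg.GolayPt → ℤ) = -16}, ∀ x' ∈ {x : ↥Cfsg.leechLattice | Cfsg.sqNorm (x : Cfsg.GolayPt → ℤ) = 32 ∧ Cfsg.dotInt (u : Cfsg.GolayPt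 → ℤ) (x : Cfsg.GolayPt → ℤ) = -16}, ∃ g : ↥Cfsg.Co0, g • u = u ∧ g • x = x' := by
  obtain ⟨g0, hg0⟩ := trans6 L5 u L5_norm hu
  refine ⟨?_, ?_⟩
  · rw [← ncard_Xs]
    symm
    apply Set.ncard_congr (fun (x : leechLattice) _ => g0 • x)
    · rintro x ⟨h1, h2⟩
      refine ⟨?_, ?_⟩
      · rw [co0_norm]; exact h1
      · have h := Cfsg.Agent.Lib.Helper26.LeechDot.co0_dot g0 L5 x
        rw [hg0] at h
        rw [h]; exact h2
    · intro x x' _ _ h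
      exact smul_left_cancel g0 h
    · intro x hx
      exact ⟨g0⁻¹ • x, mem_Xs_of hg0 hx, smul_inv_smul g0 x⟩
  · intro x hx x' hx'
    obtain ⟨h, hh1, hh2⟩ := stab_L5_trans (g0⁻¹ • x) (g0⁻¹ • x') (mem_Xs_of hg0 hx) (mem_Xs_of hg0 hx')
    refine ⟨g0 * h * g0⁻¹, ?_, ?_⟩
    · rw [mul_smul, mul_smul]
      have : g0⁻¹ • u = L5 := by rw [← hg0, inv_smul_smul]
      rw [this, hh1, hg0]
    · rw [mul_smul, mul_smul, hh2, smul_inv_smul]

end Cfsg.Agent.S1640
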