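import Cfsg.Statements.S1550
import Cfsg.Agent.Lib.Helper26.Trans5
import Cfsg.Agent.Lib.Helper26.OctadMeet

set_option autoImplicit false
open Cfsg

namespace Cfsg.Agent.S1550

open Cfsg.Agent.Lib.Helper26
open scoped Pointwise

/-- the standard tetrad `{∞, 0, 1, 2}`. -/
abbrev t0 : ℕ := 8388615

/-- the octads containing the standard tetrad. -/
def cs : List ℕ := octL.filter (fun c => c &&& t0 == t0)

/-- the masks of the standard sextet. -/
def s0 : List ℕ := t0 :: cs.map (· ^^^ t0)

theorem s0_check : s0.length = 6 ∧ s0.Nodup ∧ s0.all (fun a => decide (a < 2 ^ 24) && (pc 24 a == 4)) = true ∧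
    s0.all (fun a => s0.all (fun b => a == b || octL.contains (a ||| b))) = true := by
  decide +kernel

theorem t0_eq : dec t0 = ([2, 1, 0, 23].map pt).toFinset := by
  have : t0 = 2 ^ 2 ||| 2 ^ 1 ||| 2 ^ 0 ||| 2 ^ 23 := by decide
  rw [this, dec_lor, dec_lor, dec_lor, dec_two_pow 2 (by norm_num), dec_two_pow 1 (by norm_num),
    dec_two_pow 0 (by norm_num), dec_two_pow 23 (by norm_num)]
  ext p
  simp only [Finset.mem_union, Finset.mem_singleton, List.map_cons, List.map_nil,
    List.toFinset_cons, List.toFinset_nil, Finset.mem_insert]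
  tauto

/-- the standard sextet. -/
def S0 : Finset (Finset GolayPt) := (s0.map dec).toFinset

theorem mem_S0 {u : Finset GolayPt} : u ∈ S0 ↔ ∃ a ∈ s0, u = dec a := by
  simp only [S0, List.mem_toFinset, List.mem_map]
  constructor
  · rintro ⟨a, ha, rfl⟩
    exact ⟨a, ha, rfl⟩
  · rintro ⟨a, ha, rfl⟩
    exact ⟨a, ha, rfl⟩

theorem s0_lt {a : ℕ} (ha : a ∈ s0) : a < 2 ^ 24 := by
  have := List.all_eq_true.mp s0_check.2.2.1 a ha
  simp only [Bool.and_eq_true, decide_eq_true_eq] at this
  exact this.1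

theorem S0_mem : S0 ∈ sextets := by
  refine ⟨?_, ?_, ?_⟩
  · rw [S0, List.toFinset_card_of_nodup, List.length_map, s0_check.1]
    apply List.Nodup.map_on _ s0_check.2.1
    intro a ha b hb h
    exact dec_injOn (s0_lt ha) (s0_lt hb) h
  · intro u hu
    obtain ⟨a, ha, rfl⟩ := mem_S0.mp hu
    have := List.all_eq_true.mp s0_check.2.2.1 a ha
    simp only [Bool.and_eq_true, beq_iff_eq] at this
    rw [card_dec, this.2]
  · intro u hu v hv huv
    obtain ⟨a, ha, rfl⟩ := mem_S0.mp hu
    obtain ⟨b, hb, rfl⟩ := mem_S0.mp hv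
    have := List.all_eq_true.mp (List.all_eq_true.mp s0_check.2.2.2 a ha) b hb
    simp only [Bool.or_eq_true, beq_iff_eq, List.contains_iff_mem] at this
    rcases this with h | h
    · exact absurd (by rw [h]) huv
    · rw [← dec_lor]
      exact (mem_octads_iff _).mpr ⟨_, h, rfl⟩

theorem t0_mem_S0 : dec t0 ∈ S0 := mem_S0.mpr ⟨t0, by simp [s0], rfl⟩

theorem S0_unique (S : Finset (Finset GolayPt)) (hS : S ∈ sextets) (ht : dec t0 ∈ S) : S = S0 := by
  apply Finset.eq_of_subset_of_card_le
  · intro u hu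
    by_cases hut : u = dec t0
    · rw [hut]; exact t0_mem_S0
    · have hoct := hS.2.2 (dec t0) ht u hu (fun h => hut h.symm)
      obtain ⟨c, hc, hceq⟩ := (mem_octads_iff _).mp hoct
      have hsub : dec t0 ⊆ dec c := by
        rw [← hceq]; exact Finset.subset_union_left
      have hland : c &&& t0 = t0 := by
        apply dec_injOn (Nat.and_lt_two_pow _ (by norm_num)) (by norm_num)
        rw [dec_land]
        exact Finset.inter_eq_right.mpr hsub
      have hdisj : Disjoint (dec t0) u := by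
        have h1 := Finset.card_union_add_card_inter (dec t0) u
        have h8 : (dec t0 ∪ u).card = 8 := hoct.2
        have h4 : u.card = 4 := hS.2.1 u hu
        have h4' : (dec t0).card = 4 := hS.2.1 _ ht
        rw [h8, h4, h4'] at h1
        rw [Finset.disjoint_iff_inter_eq_empty, ← Finset.card_eq_zero]
        omega
      have hu' : u = dec (c ^^^ t0) := by
        rw [dec_xor, symmDiff_of_ge hsub, ← hceq]
        exact (Finset.union_sdiff_cancel_left hdisj).symm
      rw [hu']
      refine mem_S0.mpr ⟨c ^^^ t0, ?_, rfl⟩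
      simp only [s0, List.mem_cons, List.mem_map]
      right
      refine ⟨c, ?_, rfl⟩
      simp only [cs, List.mem_filter, beq_iff_eq]
      exact ⟨hc, hland⟩
  · rw [hS.1, S0_mem.1]

theorem base_unique : ∃! S : Finset (Finset GolayPt), S ∈ sextets ∧ dec t0 ∈ S :=
  ⟨S0, ⟨S0_mem, t0_mem_S0⟩, fun S hS => S0_unique S hS.1 hS.2⟩

theorem tetrad_unique (t : Finset GolayPt) (ht : t.card = 4) :
    ∃! S : Finset (Finset GolayPt), S ∈ sextets ∧ t ∈ S := by
  obtain ⟨g, hg, rfl⟩ := exists_smul_eq_of_card isTransOn4 t ht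
  rw [← t0_eq]
  refine ⟨g • S0, ⟨smul_mem_sextets hg S0_mem, Finset.smul_mem_smul_finset t0_mem_S0⟩, ?_⟩
  rintro S ⟨hS, htS⟩
  have h1 : g⁻¹ • S ∈ sextets := smul_mem_sextets (M24.inv_mem hg) hS
  have h2 : dec t0 ∈ g⁻¹ • S := by
    rw [← inv_smul_smul g (dec t0)]
    exact Finset.smul_mem_smul_finset htS
  rw [← S0_unique _ h1 h2, smul_inv_smul]

theorem card_golayPt : Fintype.card GolayPt = 24 := by decide

theorem result : (∀ t : Finset Cfsg.GolayPt, t.card = 4 → ∃! S : Finset (Finset Cfsg.GolayPt), S ∈ Cfsg.sextets ∧ t ∈ S) ∧ Cfsg.sextets.ncard = 1771 := by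
  classical
  refine ⟨tetrad_unique, ?_⟩
  let sextetsF : Finset (Finset (Finset GolayPt)) := Finset.univ.filter (· ∈ sextets)
  have hmemS : ∀ S, S ∈ sextetsF ↔ S ∈ sextets := fun S => by simp [sextetsF]
  have hcoe : (sextetsF : Set (Finset (Finset GolayPt))) = sextets := by
    ext S
    simp [sextetsF]
  rw [← hcoe, Set.ncard_coe_finset]
  have hU : Finset.powersetCard 4 (Finset.univ : Finset GolayPt) = sextetsF.biUnion id := by
    ext t
    simp only [Finset.mem_powersetCard, Finset.subset_univ, true_and, Finset.mem_biUnion, id, hmemS]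
    constructor
    · intro ht
      obtain ⟨S, ⟨hS, htS⟩, -⟩ := tetrad_unique t ht
      exact ⟨S, hS, htS⟩
    · rintro ⟨S, hS, htS⟩
      exact hS.2.1 t htS
  have hdisj : ∀ S ∈ sextetsF, ∀ S' ∈ sextetsF, S ≠ S' → Disjoint (id S) (id S') := by
    intro S hS S' hS' hne
    rw [hmemS] at hS hS'
    rw [Finset.disjoint_left]
    intro t htS htS'
    apply hne
    obtain ⟨S'', -, huniq⟩ := tetrad_unique t (hS.2.1 t htS)
    rw [huniq S ⟨hS, htS⟩, huniq S' ⟨hS', htS'⟩]
  have hcard : (Finset.powersetCard 4 (Finset.univ : Finset GolayPt)).card = 6 * sextetsF.card := by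
    rw [hU, Finset.card_biUnion hdisj]
    have : ∀ S ∈ sextetsF, (id S).card = 6 := fun S hS => ((hmemS S).mp hS).1
    rw [Finset.sum_congr rfl this, Finset.sum_const, smul_eq_mul, mul_comm]
  rw [Finset.card_powersetCard, Finset.card_univ, card_golayPt] at hcard
  have : Nat.choose 24 4 = 10626 := by decide
  omega

end Cfsg.Agent.S1550
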