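import Cfsg.Statements.S1590
import Cfsg.Agent.Lib.Helper27.TernaryGolay

set_option autoImplicit false
open Cfsg

namespace Cfsg.Agent.S1590

open Cfsg.Agent.Lib.Helper27

set_option maxRecDepth 100000 in
theorem count_wt (w : ℕ) (n : ℕ)
    (h : (∑ a : ZMod 3, ∑ b : ZMod 3, ∑ c : ZMod 3, ∑ d : ZMod 3, ∑ e : ZMod 3, ∑ f : ZMod 3,
        if twt a b c d e f = w then 1 else 0) = n) :
    {x : Cfsg.ArrayPt → ZMod 3 | x ∈ Cfsg.ternaryGolayCode ∧ (Cfsg.ternarySupport x).card = w}.ncard = n := by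
  rw [ncard_code_filter]
  simp only [card_support_tenc_tvec]
  exact h

/-- The length-12 ternary code has 729 words with weight distribution 0^1 6^264 9^440 12^24. -/
theorem result : Nat.card ↥Cfsg.ternaryGolayCode = 729 ∧ (∀ x ∈ Cfsg.ternaryGolayCode, x ≠ 0 → (Cfsg.ternarySupport x).card = 6 ∨ (Cfsg.ternarySupport x).card = 9 ∨ (Cfsg.ternarySupport x).card = 12) ∧ {x : Cfsg.ArrayPt → ZMod 3 | x ∈ Cfsg.ternaryGolayCode ∧ (Cfsg.ternarySupport x).card = 6}.ncard = 264 ∧ {x : Cfsg.ArrayPt → ZMod 3 | x ∈ Cfsg.ternaryGolayCode ∧ (Cfsg.ternarySupport x).card = 9}.ncard = 440 ∧ {x : Cfsg.ArrayPt → ZMod 3 | x ∈ Cfsg.ternaryGolayCode ∧ (Cfsg.ternarySupport x).card = 12}.ncard = 24 := by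
  refine ⟨card_ternaryGolayCode, fun x hx h0 => weight_of_mem hx h0, ?_, ?_, ?_⟩
  · exact count_wt 6 264 (by decide)
  · exact count_wt 9 440 (by decide)
  · exact count_wt 12 24 (by decide)

end Cfsg.Agent.S1590
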