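import Cfsg.Statements.S1683
import Cfsg.Agent.Lib.Helper28.HeGlue
import Cfsg.Agent.Lib.Helper28.HeChk

set_option autoImplicit false
open Cfsg

namespace Cfsg.Agent.S1683

open Cfsg.Spor Cfsg.Agent.Lib.Helper28

set_option maxRecDepth 100000

noncomputable abbrev cert : Cert := HeData.cert

abbrev subS : Set (FreeGroup He.Gen) := {He.a, He.c, He.d, He.e, He.f, (He.a * He.b) ^ 2, (He.b * He.c * He.d * He.e) ^ 7}

theorem rels_eq : cert.rels = HeGlue.relsL := by decide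

theorem hsub1 : ∀ s ∈ subS, ∃ w ∈ cert.subs, s = wordF HeGlue.genOf w := by
  intro s hs
  simp only [subS, Set.mem_insert_iff, Set.mem_singleton_iff] at hs
  rcases hs with rfl | rfl | rfl | rfl | rfl | rfl | rfl
  · exact ⟨[0], by decide, rfl⟩
  · exact ⟨[4], by decide, rfl⟩
  · exact ⟨[6], by decide, rfl⟩
  · exact ⟨[8], by decide, rfl⟩
  · exact ⟨[10], by decide, rfl⟩
  · exact ⟨[0, 2, 0, 2], by decide, rfl⟩
  · exact ⟨[2, 4, 6, 8, 2, 4, 6, 8, 2, 4, 6, 8, 2, 4, 6, 8, 2, 4, 6, 8, 2, 4, 6, 8, 2, 4, 6, 8], by decide, rfl⟩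

theorem hsub2 : ∀ w ∈ cert.subs, wordF HeGlue.genOf w ∈ subS := by
  intro w hw
  have hw' : w ∈ [[0], [4], [6], [8], [10], [0, 2, 0, 2], [2, 4, 6, 8, 2, 4, 6, 8, 2, 4, 6, 8, 2, 4, 6, 8, 2, 4, 6, 8, 2, 4, 6, 8, 2, 4, 6, 8]] := hw
  simp only [List.mem_cons, List.not_mem_nil, or_false] at hw'
  rcases hw' with rfl | rfl | rfl | rfl | rfl | rfl | rfl
  · exact Or.inl rfl
  · exact Or.inr (Or.inl rfl)
  · exact Or.inr (Or.inr (Or.inl rfl))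
  · exact Or.inr (Or.inr (Or.inr (Or.inl rfl)))
  · exact Or.inr (Or.inr (Or.inr (Or.inr (Or.inl rfl))))
  · exact Or.inr (Or.inr (Or.inr (Or.inr (Or.inr (Or.inl rfl)))))
  · exact Or.inr (Or.inr (Or.inr (Or.inr (Or.inr (Or.inr (rfl))))))

theorem setup : ∃ φ : PresentedGroup HeGlue.relSet →* Equiv.Perm ℕ,
    Setup cert ((Subgroup.closure subS).map (PresentedGroup.mk HeGlue.relSet))
      (fun i => PresentedGroup.of (HeGlue.genOf i)) φ :=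
  presented_setup HeGlue.relSet subS cert HeGlue.genOf HeGlue.idx HeGlue.hidx HeGlue.hgi
    (by rw [rels_eq]; exact HeGlue.hrel1) (by rw [rels_eq]; exact HeGlue.hrel2) hsub1 hsub2
    HeData.chkR2 HeData.facts_ok HeData.pts_ok HeData.chkG

noncomputable abbrev pt (r : ℕ) := psi cert ((Subgroup.closure subS).map (PresentedGroup.mk HeGlue.relSet))
  (fun i => PresentedGroup.of (HeGlue.genOf i)) r

theorem root0 : cert.ORK 0 = 0 := by decide +kernel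
theorem cnt0 : countLab cert.ORB (cert.ORB 0) cert.n = 1 := by decide +kernel
theorem root1 : cert.ORK 1 = 0 := by decide +kernel
theorem cnt1 : countLab cert.ORB (cert.ORB 1) cert.n = 1360 := by decide +kernel
theorem root8 : cert.ORK 8 = 0 := by decide +kernel
theorem cnt8 : countLab cert.ORB (cert.ORB 8) cert.n = 425 := by decide +kernel
theorem root22 : cert.ORK 22 = 0 := by decide +kernel
theorem cnt22 : countLab cert.ORB (cert.ORB 22) cert.n = 136 := by decide +kernel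
theorem root164 : cert.ORK 164 = 0 := by decide +kernel
theorem cnt164 : countLab cert.ORB (cert.ORB 164) cert.n = 136 := by decide +kernel

/-- In the presented Held group, let H be the subgroup generated by the images of a, c, d, e, f, (ab)^2 and (bcde)^7. Then H has index 2058, there are four distinct H-orbits on the cosets of H other than H itself, of sizes 136, 136, 425 and 1360. -/
theorem result : (((Subgroup.closure ({Cfsg.Spor.He.a, Cfsg.Spor.He.c, Cfsg.Spor.He.d, Cfsg.Spor.He.e, Cfsg.Spor.He.f, (Cfsg.Spor.He.a * Cfsg.Spor.He.b) ^ 2, (Cfsg.Spor.He.b * Cfsg.Spor.He.c * Cfsg.Spor.He.d * Cfsg.Spor.He.e) ^ 7} : Set (FreeGroup Cfsg.Spor.He.Gen))).map (PresentedGroup.mk (Cfsg.Spor.coxRelators Cfsg.Spor.He.edges ∪ {r | r ∈ Cfsg.Spor.He.extra})))).index = 2058 ∧ ∃ q₁ q₂ q₃ q₄ : Cfsg.Spor.He ⧸ (((Subgroup.closure ({Cfsg.Spor.He.a, Cfsg.Spor.He.c, Cfsg.Spor.He.d,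 Cfsg.Spor.He.e, Cfsg.Spor.He.f, (Cfsg.Spor.He.a * Cfsg.Spor.He.b) ^ 2, (Cfsg.Spor.He.b * Cfsg.Spor.He.c * Cfsg.Spor.He.d * Cfsg.Spor.He.e) ^ 7} : Set (FreeGroup Cfsg.Spor.He.Gen))).map (PresentedGroup.mk (Cfsg.Spor.coxRelators Cfsg.Spor.He.edges ∪ {r | r ∈ Cfsg.Spor.He.extra})))), MulAction.orbit (((Subgroup.closure ({Cfsg.Spor.He.a, Cfsg.Spor.He.c, Cfsg.Spor.He.d, Cfsg.Spor.He.e, Cfsg.Spor.He.f, (Cfsg.Spor.He.a * Cfsg.Spor.He.b) ^ 2, (Cfsg.Spor.He.b * Cfsg.Spor.He.c * Cfsg.Spor.He.d * Cfsg.Spor.He.e) ^ 7} : Set (FreeGroup Cfsg.Spor.He.Gen))).map (PresentedGroup.mk (Cfsg.Spor.coxRelators Cfsg.Spor.He.edges ∪ {r | r ∈ Cfsg.Spor.He.extra})))) q₁ ≠ MulAction.orbit (((Subgroup.closure ({Cfsg.Spor.He.a, Cfsg.Spor.He.c, Cfsg.Spor.He.d, Cfsg.Spor.He.e, Cfsg.Spor.He.f, (Cfsg.Spor.He.a * Cfsg.Spor.He.b) ^ 2, (Cfsg.Spor.He.b * Cfsg.Spor.He.c * Cfsg.Spor.He.d * Cfsg.Spor.He.e)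 ^ 7} : Set (FreeGroup Cfsg.Spor.He.Gen))).map (PresentedGroup.mk (Cfsg.Spor.coxRelators Cfsg.Spor.He.edges ∪ {r | r ∈ Cfsg.Spor.He.extra})))) q₂ ∧ (MulAction.orbit (((Subgroup.closure ({Cfsg.Spor.He.a, Cfsg.Spor.He.c, Cfsg.Spor.He.d, Cfsg.Spor.He.e, Cfsg.Spor.He.f, (Cfsg.Spor.He.a * Cfsg.Spor.He.b) ^ 2, (Cfsg.Spor.He.b * Cfsg.Spor.He.c * Cfsg.Spor.He.d * Cfsg.Spor.He.e) ^ 7} : Set (FreeGroup Cfsg.Spor.He.Gen))).map (PresentedGroup.mk (Cfsg.Spor.coxRelators Cfsg.Spor.He.edges ∪ {r | r ∈ Cfsg.Spor.He.extra})))) q₁).ncard = 136 ∧ (MulAction.orbit (((Subgroup.closure ({Cfsg.Spor.He.a, Cfsg.Spor.He.c, Cfsg.Spor.He.d, Cfsg.Spor.He.e, Cfsg.Spor.He.f, (Cfsg.Spor.He.a * Cfsg.Spor.He.b) ^ 2, (Cfsg.Spor.He.b * Cfsg.Spor.He.c * Cfsg.Spor.He.d * Cfsg.Spor.He.e) ^ 7} : Set (FreeGroup Cfsg.Spor.He.Gen))).map (PresentedGroup.mk (Cfsg.Spor.coxRelators Cfsg.Spor.He.edges ∪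 {r | r ∈ Cfsg.Spor.He.extra})))) q₂).ncard = 136 ∧ (MulAction.orbit (((Subgroup.closure ({Cfsg.Spor.He.a, Cfsg.Spor.He.c, Cfsg.Spor.He.d, Cfsg.Spor.He.e, Cfsg.Spor.He.f, (Cfsg.Spor.He.a * Cfsg.Spor.He.b) ^ 2, (Cfsg.Spor.He.b * Cfsg.Spor.He.c * Cfsg.Spor.He.d * Cfsg.Spor.He.e) ^ 7} : Set (FreeGroup Cfsg.Spor.He.Gen))).map (PresentedGroup.mk (Cfsg.Spor.coxRelators Cfsg.Spor.He.edges ∪ {r | r ∈ Cfsg.Spor.He.extra})))) q₃).ncard = 425 ∧ (MulAction.orbit (((Subgroup.closure ({Cfsg.Spor.He.a, Cfsg.Spor.He.c, Cfsg.Spor.He.d, Cfsg.Spor.He.e, Cfsg.Spor.He.f, (Cfsg.Spor.He.a * Cfsg.Spor.He.b) ^ 2, (Cfsg.Spor.He.b * Cfsg.Spor.He.c * Cfsg.Spor.He.d * Cfsg.Spor.He.e) ^ 7} : Set (FreeGroup Cfsg.Spor.He.Gen))).map (PresentedGroup.mk (Cfsg.Spor.coxRelators Cfsg.Spor.He.edges ∪ {r | r ∈ Cfsg.Spor.He.extra})))) q₄).ncard = 1360 := by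
  obtain ⟨φ, hS⟩ := setup
  refine ⟨hS.index_eq, pt 22, pt 164, pt 8, pt 1, ?_, ?_, ?_, ?_, ?_⟩
  · exact hS.orbit_ne HeData.orb_ok 22 164 (by decide) (by decide) (by decide +kernel)
  · rw [hS.orbit_ncard HeData.orb_ok 22 (by decide) root22]; exact cnt22
  · rw [hS.orbit_ncard HeData.orb_ok 164 (by decide) root164]; exact cnt164
  · rw [hS.orbit_ncard HeData.orb_ok 8 (by decide) root8]; exact cnt8
  · rw [hS.orbit_ncard HeData.orb_ok 1 (by decide) root1]; exact cnt1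

end Cfsg.Agent.S1683
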