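import Cfsg.Statements.S1692
import Cfsg.Agent.Lib.Helper28.ONGlueR
import Cfsg.Agent.Lib.Helper28.ONChk

set_option autoImplicit false
open Cfsg

namespace Cfsg.Agent.S1692

open Cfsg.Spor Cfsg.Agent.Lib.Helper28

set_option maxRecDepth 100000

noncomputable abbrev cert : Cert := ONData.cert

abbrev subS : Set (FreeGroup ON.Gen) := {Cfsg.Spor.ON.a, Cfsg.Spor.ON.b, Cfsg.Spor.ON.c, Cfsg.Spor.ON.d, Cfsg.Spor.ON.e, Cfsg.Spor.ON.f}

theorem rels_eq : cert.rels = ONGlueR.relsL := by decide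

theorem hsub1 : ∀ s ∈ subS, ∃ w ∈ cert.subs, s = wordF ONGlueR.genOf w := by
  intro s hs
  simp only [subS, Set.mem_insert_iff, Set.mem_singleton_iff] at hs
  rcases hs with rfl | rfl | rfl | rfl | rfl | rfl
  · exact ⟨[2], by decide, rfl⟩
  · exact ⟨[4], by decide, rfl⟩
  · exact ⟨[6], by decide, rfl⟩
  · exact ⟨[8], by decide, rfl⟩
  · exact ⟨[10], by decide, rfl⟩
  · exact ⟨[12], by decide, rfl⟩

theorem hsub2 : ∀ w ∈ cert.subs, wordF ONGlueR.genOf w ∈ subS := by
  intro w hw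
  have hw' : w ∈ [[2], [4], [6], [8], [10], [12]] := hw
  simp only [List.mem_cons, List.not_mem_nil, or_false] at hw'
  rcases hw' with rfl | rfl | rfl | rfl | rfl | rfl
  · exact Or.inl rfl
  · exact Or.inr (Or.inl rfl)
  · exact Or.inr (Or.inr (Or.inl rfl))
  · exact Or.inr (Or.inr (Or.inr (Or.inl rfl)))
  · exact Or.inr (Or.inr (Or.inr (Or.inr (Or.inl rfl))))
  · exact Or.inr (Or.inr (Or.inr (Or.inr (Or.inr (rfl)))))

theorem setup : ∃ φ : PresentedGroup ONGlueR.relSet →* Equiv.Perm ℕ,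
    Setup cert ((Subgroup.closure subS).map (PresentedGroup.mk ONGlueR.relSet))
      (fun i => PresentedGroup.of (ONGlueR.genOf i)) φ :=
  presented_setup_conj ONGlueR.relSet subS cert ONGlueR.genOf ONGlueR.idx ONGlueR.hidx ONGlueR.hgi
    (by rw [rels_eq]; exact ONGlueR.hrel1) (by rw [rels_eq]; exact ONGlueR.hrel2) hsub1 hsub2
    ONData.chkR2 ONData.facts_ok ONData.pts_ok ONData.chkG

noncomputable abbrev pt (r : ℕ) := psi cert ((Subgroup.closure subS).map (PresentedGroup.mk ONGlueR.relSet))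
  (fun i => PresentedGroup.of (ONGlueR.genOf i)) r


/-- In the presented O'Nan group (generators g, a, b, c, d, e, f), the subgroup generated by the images of a, …, f has index 122760. -/
theorem result : (((Subgroup.closure ({Cfsg.Spor.ON.a, Cfsg.Spor.ON.b, Cfsg.Spor.ON.c, Cfsg.Spor.ON.d, Cfsg.Spor.ON.e, Cfsg.Spor.ON.f} : Set (FreeGroup Cfsg.Spor.ON.Gen))).map (PresentedGroup.mk (Cfsg.Spor.coxRelators Cfsg.Spor.ON.edges ∪ {r | r ∈ Cfsg.Spor.ON.extra})))).index = 122760 := by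
  obtain ⟨φ, hS⟩ := setup
  exact hS.index_eq

end Cfsg.Agent.S1692
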