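import Cfsg.Statements.S1364
import Cfsg.Agent.S1354
import Cfsg.Agent.S1366
import Cfsg.Agent.S1368
import Cfsg.Agent.S1431
import Cfsg.Agent.S1437
import Cfsg.Agent.Lib.Helper50.BG156

set_option autoImplicit false
open Cfsg

namespace Cfsg.Agent.S1364

/-- Let G be a minimal simple group of odd order, M a maximal subgroup with standard factorisation M = K U M_σ and K ≠ 1, and put K* = M_σ ∩ C_G(K). Then K* is cyclic, nontrivial and contained in M_F, while M_F itself is not cyclic. -/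
theorem result {G : Type*} [Group G] [Finite G] (hG : Cfsg.IsMinSimpleOddOrder G)
    (M : Subgroup G) (hM : IsCoatom M) (K U : Subgroup G) (hKU : Cfsg.IsSigmaDecomposition M K U) (hK1 : K ≠ ⊥) :
    IsCyclic ↥(Cfsg.sigmaCore M ⊓ Subgroup.centralizer (K : Set G)) ∧ (Cfsg.sigmaCore M ⊓ Subgroup.centralizer (K : Set G)) ≠ ⊥ ∧ (Cfsg.sigmaCore M ⊓ Subgroup.centralizer (K : Set G)) ≤ Cfsg.fittingHallOf M ∧ ¬ IsCyclic (Cfsg.fittingHallOf M) := by
  -- the partner `M*` (B&G 14.7) and the cyclicity of `Z = K × K*`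
  obtain ⟨Mstar, ⟨hMs, hKst, hKstH⟩, -⟩ := Cfsg.Agent.S1366.result hG M hM K U hKU hK1
  have h68 := Cfsg.Agent.S1368.result hG M hM K U hKU hK1 Mstar hMs hKst hKstH
  have hcyc : IsCyclic ↥(Cfsg.sigmaCore M ⊓ Subgroup.centralizer (K : Set G)) := by
    haveI : IsCyclic ↥(K ⊔ (Cfsg.sigmaCore M ⊓ Subgroup.centralizer (K : Set G))) := h68.2
    exact Subgroup.isCyclic_of_le (H' := K ⊔ (Cfsg.sigmaCore M ⊓ Subgroup.centralizer (K : Set G))) le_sup_right
  have hne := (Cfsg.Agent.S1354.result hG M hM K hKU.cyclic hKU.hall).1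
  have h31 := (Cfsg.Agent.S1431.result hG M hM K hKU.hall hK1).2.2.1
  exact Cfsg.Agent.Lib.Helper50.BG156.s1364_of hG hM hKU hcyc hne
    (fun p hp hpd S => (h31 p hp hpd S).2.2)
    (fun hF => Cfsg.Agent.S1437.result hG M hM K U hKU hF)

end Cfsg.Agent.S1364
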