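import Cfsg.Statements.S0942
import Cfsg.Agent.S0923
import Cfsg.Agent.S0938
import Cfsg.Agent.Lib.Helper16.BlockSplit
import Cfsg.Agent.Lib.Helper77.ThirdMain
import Cfsg.Agent.Lib.Helper80.Conv
import Cfsg.Agent.Lib.Helper30.PPrimeCore
import Cfsg.Agent.Lib.Helper22.Fitting

set_option autoImplicit false
open Cfsg

namespace Cfsg.Agent.S0942

open Cfsg.Agent.Lib.Helper16 Cfsg.Agent.Lib.Helper77 Cfsg.Agent.Lib.Helper80 Cfsg.Agent.Lib.Helper81

/-- Let u be a p-element of the finite group G, let v lie in the largest normal subgroup of C_G(u) of order prime to p, and let χ belong to the principal block (relative to a maximal ideal M of the algebraic integers containing p). Then χ (u * v) = χ u. -/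
theorem result {G : Type*} [Group G] [Finite G] (p : ℕ) [Fact p.Prime] (M : Ideal Cfsg.AlgInt) (hM : Cfsg.IsPModular p M) (u : G) (hu : ∃ k : ℕ, orderOf u = p ^ k) (v : G) (hv : v ∈ Cfsg.centralizerPPrimeCore p u) (χ : Cfsg.IrrCharacter G) (hχ : χ ∈ Cfsg.principalBlock M G) : (χ : G → ℂ) (u * v) = (χ : G → ℂ) u := by
  classical
  have hMp : M.IsPrime := isPrime_of_isPModular hM
  have hp : p.Prime := Fact.out
  have := Fintype.ofFinite G
  have := Fintype.ofFinite (Subgroup.centralizer ({u} : Set G))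
  have := Fintype.ofFinite (IrrCharacter (Subgroup.centralizer ({u} : Set G)))
  obtain ⟨v', hv', rfl⟩ := Subgroup.mem_map.mp hv
  have hχcf : IsClassFunction G (χ : G → ℂ) :=
    Cfsg.Agent.Lib.Helper3.IsCharacter.isClassFunction
      (Cfsg.Agent.Lib.Helper3.IsIrrCharacter.isCharacter χ.2)
  -- the class function ϑ on C
  have hϑ : IsClassFunction (Subgroup.centralizer ({u} : Set G))
      (fun c : Subgroup.centralizer ({u} : Set G) => (χ : G → ℂ) (u * (c : G))) := by
    intro g h
    have hcomm : (h : G) * u = u * (h : G) := by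
      have := h.2
      rw [Subgroup.mem_centralizer_iff] at this
      exact (this u (Set.mem_singleton u)).symm
    have h1 : u * ((h * g * h⁻¹ : Subgroup.centralizer ({u} : Set G)) : G) =
        (h : G) * (u * (g : G)) * (h : G)⁻¹ := by
      push_cast
      calc u * ((h : G) * (g : G) * (h : G)⁻¹) = (u * (h : G)) * (g : G) * (h : G)⁻¹ := by group
        _ = ((h : G) * u) * (g : G) * (h : G)⁻¹ := by rw [hcomm]
        _ = (h : G) * (u * (g : G)) * (h : G)⁻¹ := by group
    show (χ : G → ℂ) (u * ((h * g * h⁻¹ : Subgroup.centralizer ({u} : Set G)) : G)) = _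
    rw [h1, hχcf]
  have hB₀ : IsPBlock M (principalBlock M (Subgroup.centralizer ({u} : Set G))) :=
    ⟨trivIrr _, rfl⟩
  have hkey : ∀ y : Subgroup.centralizer ({u} : Set G), ¬ p ∣ orderOf y →
      (χ : G → ℂ) (u * (y : G)) = blockPart (principalBlock M (Subgroup.centralizer ({u} : Set G)))
        (fun c : Subgroup.centralizer ({u} : Set G) => (χ : G → ℂ) (u * (c : G))) y := by
    intro y hy
    refine eq_blockPart_of_others_vanish hMp hϑ _ hB₀ y ?_
    intro ψ₁ hψ₁
    refine Cfsg.Agent.S0923.result p M hM u hu (principalBlock M G) ⟨trivIrr G, rfl⟩ χ hχ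
      (blockOf M (ψ₁ : Subgroup.centralizer ({u} : Set G) → ℂ)) ⟨ψ₁, rfl⟩ ?_ y hy
    intro hind
    have h3 := (third_main hM hind).mp rfl
    apply hψ₁
    rw [← h3]
    exact sameBlock_refl hMp _
  -- p-regularity
  have hcop := Cfsg.Agent.Lib.Helper30.pPrimeCore_card_coprime
    (G := Subgroup.centralizer ({u} : Set G)) p
  have hndvd : ¬ p ∣ Nat.card (pPrimeCore p (Subgroup.centralizer ({u} : Set G))) := by
    intro h
    have := Nat.Coprime.eq_one_of_dvd hcop.symm h
    exact hp.one_lt.ne' this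
  have hv'reg : ¬ p ∣ orderOf v' := by
    intro h
    apply hndvd
    have h1 : orderOf (⟨v', hv'⟩ : pPrimeCore p (Subgroup.centralizer ({u} : Set G))) =
        orderOf v' := Subgroup.orderOf_mk v' hv'
    have h2 := orderOf_dvd_natCard
      (⟨v', hv'⟩ : pPrimeCore p (Subgroup.centralizer ({u} : Set G)))
    rw [h1] at h2
    exact h.trans h2
  have h1reg : ¬ p ∣ orderOf (1 : Subgroup.centralizer ({u} : Set G)) := by
    rw [orderOf_one]
    exact hp.one_lt.ne' ∘ Nat.dvd_one.mp
  -- kernel of principal block contains the p'-core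
  obtain ⟨K, _, hK, _, _, hmax⟩ := Cfsg.Agent.S0938.result p M hM
    (principalBlock M (Subgroup.centralizer ({u} : Set G))) hB₀ (trivIrr _)
    (sameBlock_refl hMp _)
  have hNK := hmax (pPrimeCore p (Subgroup.centralizer ({u} : Set G)))
    (Cfsg.Agent.Lib.Helper22.pPrimeCore_normal' p _) hndvd (fun g _ => rfl)
  have hv'K : v' ∈ blockKer (principalBlock M (Subgroup.centralizer ({u} : Set G))) := by
    rw [← hK]
    exact hNK hv'
  have e1 := hkey v' hv'reg
  have e2 := hkey 1 h1reg
  have e3 : blockPart (principalBlock M (Subgroup.centralizer ({u} : Set G)))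
        (fun c : Subgroup.centralizer ({u} : Set G) => (χ : G → ℂ) (u * (c : G))) v' =
      blockPart (principalBlock M (Subgroup.centralizer ({u} : Set G)))
        (fun c : Subgroup.centralizer ({u} : Set G) => (χ : G → ℂ) (u * (c : G))) 1 := by
    rw [blockPart_eq_sum, blockPart_eq_sum]
    refine Finset.sum_congr rfl fun ψ hψ => ?_
    rw [Finset.mem_filter] at hψ
    rw [hv'K ψ hψ.2]
  have e4 : (χ : G → ℂ) (u * ((1 : Subgroup.centralizer ({u} : Set G)) : G)) = (χ : G → ℂ) u := by
    rw [Subgroup.coe_one, mul_one]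
  rw [← e4, e2, ← e3, ← e1]
  rfl

end Cfsg.Agent.S0942
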