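import Cfsg.Statements.S5355
import Cfsg.Agent.Lib.Helper89.S4Lift

set_option autoImplicit false
open Cfsg

namespace Cfsg.Agent.S5355

open Equiv Cfsg.Agent.Lib.Helper89

variable {G : Type*} [Group G]

theorem sq_of_order_two {x : G} (h : orderOf x = 2) : x * x = 1 := by
  have := pow_orderOf_eq_one x
  rw [h, pow_two] at this
  exact this

theorem ne_one_of_order_two {x : G} (h : orderOf x = 2) : x ≠ 1 := by
  rintro rfl
  simp at h

theorem inv_of_sq {x : G} (h : x * x = 1) : x⁻¹ = x := inv_eq_of_mul_eq_one_right h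

/-- braid relation from `(a b)^3 = 1` for involutions -/
theorem braid3 (a b : G) (aa : a * a = 1) (bb : b * b = 1)
    (hab : (a * b) ^ 3 = 1) : b * (a * b) = a * (b * a) := by
  have h1 : a * b * (a * b) * (a * b) = 1 := by rw [← hab, pow_succ, pow_two]
  have ha : a⁻¹ = a := inv_of_sq aa
  have hb : b⁻¹ = b := inv_of_sq bb
  have h2 : b * (a * b) = (a * b * a)⁻¹ := by
    apply eq_inv_of_mul_eq_one_right
    rw [← h1]
    group
  rw [h2, mul_inv_rev, mul_inv_rev, ha, hb]

/-- for involutions, `(a c)^2 = 1` means they commute -/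
theorem commute_of_sq (a c : G) (aa : a * a = 1) (cc : c * c = 1)
    (hac : (a * c) ^ 2 = 1) : Commute a c := by
  have h1 : a * c * (a * c) = 1 := by rw [← hac, pow_two]
  have ha : a⁻¹ = a := inv_of_sq aa
  have hc : c⁻¹ = c := inv_of_sq cc
  have h2 : a * c = (a * c)⁻¹ := eq_inv_of_mul_eq_one_right h1
  show a * c = c * a
  rw [h2, mul_inv_rev, ha, hc]

/-- the partner relation -/
structure Partner (D : Set G) (y y' : G) : Prop where
  mem : y' ∈ D
  ne : y' ≠ y
  comm : Commute y y'
  uniq : ∀ z ∈ D, Commute y z → z = y ∨ z = y'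
  same : ∀ z ∈ D, Commute y' z ↔ Commute y z

theorem Partner.conj {D : Set G} (hconj : ∀ g x : G, x ∈ D → g * x * g⁻¹ ∈ D) {y y' : G}
    (h : Partner D y y') (g : G) : Partner D (g * y * g⁻¹) (g * y' * g⁻¹) where
  mem := hconj g y' h.mem
  ne := by
    intro e
    apply h.ne
    have := congrArg (fun t => g⁻¹ * t * g) e
    simpa [mul_assoc] using this
  comm := (Commute.conj_iff g).mpr h.comm
  uniq := by
    intro z hz hc
    have hw : g⁻¹ * z * g ∈ D := by
      have := hconj g⁻¹ z hz
      simpa using this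
    have hz' : z = g * (g⁻¹ * z * g) * g⁻¹ := by group
    rw [hz', Commute.conj_iff] at hc
    rcases h.uniq _ hw hc with e | e
    · left; rw [hz', e]
    · right; rw [hz', e]
  same := by
    intro z hz
    have hw : g⁻¹ * z * g ∈ D := by
      have := hconj g⁻¹ z hz
      simpa using this
    have hz' : z = g * (g⁻¹ * z * g) * g⁻¹ := by group
    rw [hz', Commute.conj_iff, Commute.conj_iff]
    exact h.same _ hw

/-- the partner of the partner -/
theorem Partner.uniq' {D : Set G} {y y' : G} (h : Partner D y y') :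
    ∀ z ∈ D, Commute y' z → z = y' ∨ z = y := by
  intro z hz hc
  rcases h.uniq z hz ((h.same z hz).mp hc) with e | e
  · right; exact e
  · left; exact e

section key

variable {D : Set G} (hset : Cfsg.IsThreeTranspositionSet D)
  (hconj : ∀ g x : G, x ∈ D → g * x * g⁻¹ ∈ D)

include hset in
theorem cube_of_not_commute {x y : G} (hx : x ∈ D) (hy : y ∈ D) (h : ¬ Commute x y) :
    (x * y) ^ 3 = 1 := by
  rcases hset.2 x hx y hy with h2 | h3
  · exact absurd (commute_of_sq x y (sq_of_order_two (hset.1 x hx)) (sq_of_order_two (hset.1 y hy)) h2) h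
  · exact h3

/-- the homomorphism from `S₄` attached to `y, x, y'` -/
noncomputable def lift3 (y x y' : G) (hy : y * y = 1) (hx : x * x = 1) (hy' : y' * y' = 1)
    (hc : Commute y y') (h1 : (y * x) ^ 3 = 1) (h2 : (x * y') ^ 3 = 1) : Perm (Fin 4) →* G :=
  s4Lift y x y' hy hx hy' hc.symm.eq (braid3 y x hy hx h1) (braid3 x y' hx hy' h2)

theorem lift3_01 (y x y' : G) (hy : y * y = 1) (hx : x * x = 1) (hy' : y' * y' = 1)
    (hc : Commute y y') (h1 : (y * x) ^ 3 = 1) (h2 : (x * y') ^ 3 = 1) :
    lift3 y x y' hy hx hy' hc h1 h2 (swap 0 1) = y := s4Lift_swap01 _ _ _ _ _ _ _ _ _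

theorem lift3_12 (y x y' : G) (hy : y * y = 1) (hx : x * x = 1) (hy' : y' * y' = 1)
    (hc : Commute y y') (h1 : (y * x) ^ 3 = 1) (h2 : (x * y') ^ 3 = 1) :
    lift3 y x y' hy hx hy' hc h1 h2 (swap 1 2) = x := s4Lift_swap12 _ _ _ _ _ _ _ _ _

theorem lift3_23 (y x y' : G) (hy : y * y = 1) (hx : x * x = 1) (hy' : y' * y' = 1)
    (hc : Commute y y') (h1 : (y * x) ^ 3 = 1) (h2 : (x * y') ^ 3 = 1) :
    lift3 y x y' hy hx hy' hc h1 h2 (swap 2 3) = y' := s4Lift_swap23 _ _ _ _ _ _ _ _ _

theorem lift3_injective (y x y' : G) (hy : y * y = 1) (hx : x * x = 1) (hy' : y' * y' = 1)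
    (hc : Commute y y') (h1 : (y * x) ^ 3 = 1) (h2 : (x * y') ^ 3 = 1)
    (n1 : y ≠ 1) (n2 : y' ≠ y) (n3 : x ≠ y) :
    Function.Injective (lift3 y x y' hy hx hy' hc h1 h2) := by
  apply s4_hom_injective
  · rwa [lift3_01]
  · rw [map_mul, lift3_01, lift3_23]
    intro e
    apply n2
    have : y' = y⁻¹ := eq_inv_of_mul_eq_one_right e
    rw [this, inv_of_sq hy]
  · rw [map_mul, lift3_01, lift3_12]
    intro e
    apply n3
    have : x = y⁻¹ := eq_inv_of_mul_eq_one_right e
    rw [this, inv_of_sq hy]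

theorem perm_fact1 : (swap (0 : Fin 4) 1 * swap 2 3) * swap 1 2 * (swap (0 : Fin 4) 1 * swap 2 3)⁻¹ ≠ swap 1 2 := by
  decide

theorem perm_fact2 : swap (1 : Fin 4) 2 * ((swap (0 : Fin 4) 1 * swap 2 3) * swap 1 2 * (swap (0 : Fin 4) 1 * swap 2 3)⁻¹) =
    ((swap (0 : Fin 4) 1 * swap 2 3) * swap 1 2 * (swap (0 : Fin 4) 1 * swap 2 3)⁻¹) * swap 1 2 := by
  decide

include hset hconj in
/-- Key lemma: conjugating `x` by `y y'` gives an element of `D` different from `x` and commuting with `x`. -/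
theorem key {y y' x : G} (hy : y ∈ D) (hx : x ∈ D) (hp : Partner D y y') (hnc : ¬ Commute y x) :
    (y * y') * x * (y * y')⁻¹ ∈ D ∧ (y * y') * x * (y * y')⁻¹ ≠ x ∧ Commute x ((y * y') * x * (y * y')⁻¹) := by
  have yy := sq_of_order_two (hset.1 y hy)
  have xx := sq_of_order_two (hset.1 x hx)
  have y'y' := sq_of_order_two (hset.1 y' hp.mem)
  have h1 := cube_of_not_commute hset hy hx hnc
  have hnc' : ¬ Commute x y' := fun h => hnc ((hp.same x hx).mp h.symm)
  have h2 := cube_of_not_commute hset hx hp.mem hnc'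
  have n3 : x ≠ y := by
    rintro rfl
    exact hnc (Commute.refl _)
  have hinj := lift3_injective y x y' yy xx y'y' hp.comm h1 h2 (ne_one_of_order_two (hset.1 y hy)) hp.ne n3
  obtain ⟨f, hf⟩ : ∃ f, f = lift3 y x y' yy xx y'y' hp.comm h1 h2 := ⟨_, rfl⟩
  have e01 : f (swap 0 1) = y := by rw [hf, lift3_01]
  have e12 : f (swap 1 2) = x := by rw [hf, lift3_12]
  have e23 : f (swap 2 3) = y' := by rw [hf, lift3_23]
  have eu : (y * y') * x * (y * y')⁻¹ = f ((swap (0 : Fin 4) 1 * swap 2 3) * swap 1 2 * (swap (0 : Fin 4) 1 * swap 2 3)⁻¹) := by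
    rw [map_mul, map_mul, map_inv, map_mul, e01, e12, e23]
  refine ⟨hconj _ _ hx, ?_, ?_⟩
  · rw [eu]
    intro e
    rw [← e12] at e
    rw [hf] at e
    exact perm_fact1 (hinj e)
  · show x * _ = _ * x
    rw [eu]
    conv_lhs => rw [← e12]
    conv_rhs => rw [← e12]
    rw [← map_mul, ← map_mul, perm_fact2]

end key

theorem perm_fact3 :
    ((swap (0 : Fin 4) 1) * (swap 1 2) * (swap (0 : Fin 4) 1)⁻¹) *
      ((swap (0 : Fin 4) 1) * ((swap (0 : Fin 4) 1 * swap 2 3) * swap 1 2 * (swap (0 : Fin 4) 1 * swap 2 3)⁻¹) * (swap (0 : Fin 4) 1)⁻¹) =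
    (swap (0 : Fin 4) 1 * swap 2 3) *
      (swap 1 2 * ((swap (0 : Fin 4) 1 * swap 2 3) * swap 1 2 * (swap (0 : Fin 4) 1 * swap 2 3)⁻¹)) := by
  decide

/-- Let D be a conjugacy class of 3-transpositions generating the finite group G, with at least two members, and d a member of D. Suppose that every member of D commuting with d commutes with exactly the same members of D as d does, and that exactly one member of D other than d commutes with d. Then G is isomorphic to the symmetric group of degree 4. -/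
theorem result {G : Type*} [Group G] [Finite G] {D : Set G} (hD : Cfsg.IsThreeTranspositionClass D) (hD2 : ∃ a ∈ D, ∃ b ∈ D, a ≠ b) {d : G} (hd : d ∈ D) (hV : {y : G | y ∈ D ∧ Commute d y} = {v : G | v ∈ D ∧ ∀ e ∈ D, Commute v e ↔ Commute d e}) (hm : {y : G | y ∈ D ∧ Commute d y}.ncard = 2) : Nonempty (G ≃* Equiv.Perm (Fin 4)) := by
  obtain ⟨hset, ⟨d₀, hd₀, hDeq⟩, hgen⟩ := hD
  -- D is closed under conjugation
  have hconj : ∀ g x : G, x ∈ D → g * x * g⁻¹ ∈ D := by
    intro g x hx
    rw [hDeq] at hx ⊢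
    have hx' : IsConj d₀ x := hx
    show IsConj d₀ (g * x * g⁻¹)
    exact hx'.trans (isConj_iff.mpr ⟨g, rfl⟩)
  -- every element of D is a conjugate of d
  have hall : ∀ x ∈ D, ∃ g : G, x = g * d * g⁻¹ := by
    intro x hx
    have h1 : IsConj d₀ x := by rw [hDeq] at hx; exact hx
    have h2 : IsConj d₀ d := by rw [hDeq] at hd; exact hd
    obtain ⟨g, hg⟩ := isConj_iff.mp (h2.symm.trans h1)
    exact ⟨g, hg.symm⟩
  -- the partner of d
  obtain ⟨p, q, hpq, hs⟩ := Set.ncard_eq_two.mp hm
  have hdmem : d ∈ {y : G | y ∈ D ∧ Commute d y} := ⟨hd, Commute.refl d⟩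
  obtain ⟨e, hed, hse⟩ : ∃ e, e ≠ d ∧ {y : G | y ∈ D ∧ Commute d y} = {d, e} := by
    rw [hs] at hdmem
    rcases hdmem with h | h
    · exact ⟨q, by rw [h]; exact hpq.symm, by rw [hs, h]⟩
    · have h' : d = q := h
      exact ⟨p, by rw [h']; exact hpq, by rw [hs, h', Set.pair_comm]⟩
  have hemem : e ∈ {y : G | y ∈ D ∧ Commute d y} := by rw [hse]; simp
  have hpd : Partner D d e := by
    refine ⟨hemem.1, hed, hemem.2, ?_, ?_⟩
    · intro z hz hc
      have : z ∈ {y : G | y ∈ D ∧ Commute d y} := ⟨hz, hc⟩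
      rw [hse] at this
      exact this
    · have : e ∈ {v : G | v ∈ D ∧ ∀ e ∈ D, Commute v e ↔ Commute d e} := by rw [← hV]; exact hemem
      exact this.2
  have hpall : ∀ y ∈ D, ∃ y', Partner D y y' := by
    intro y hy
    obtain ⟨g, rfl⟩ := hall y hy
    exact ⟨_, hpd.conj hconj g⟩
  -- an element not commuting with d
  obtain ⟨a, ha, hda⟩ : ∃ a ∈ D, ¬ Commute d a := by
    by_contra hcon
    push Not at hcon
    obtain ⟨g, hg⟩ := hall e hemem.1
    have hle : Subgroup.closure D ≤ Subgroup.centralizer ({d} : Set G) := by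
      rw [Subgroup.closure_le]
      intro x hx
      rw [SetLike.mem_coe, Subgroup.mem_centralizer_iff]
      intro h hh
      rw [Set.mem_singleton_iff] at hh
      rw [hh]
      exact (hcon x hx).eq
    have hgc : g ∈ Subgroup.centralizer ({d} : Set G) := hle (by rw [hgen]; trivial)
    rw [Subgroup.mem_centralizer_iff] at hgc
    have := hgc d rfl
    apply hed
    rw [hg, ← this]
    group
  have dd := sq_of_order_two (hset.1 d hd)
  have aa := sq_of_order_two (hset.1 a ha)
  have ee := sq_of_order_two (hset.1 e hpd.mem)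
  have h1 := cube_of_not_commute hset hd ha hda
  have hae : ¬ Commute a e := fun h => hda ((hpd.same a ha).mp h.symm)
  have h2 := cube_of_not_commute hset ha hpd.mem hae
  have n3 : a ≠ d := by
    rintro rfl
    exact hda (Commute.refl _)
  have hinj := lift3_injective d a e dd aa ee hpd.comm h1 h2 (ne_one_of_order_two (hset.1 d hd)) hpd.ne n3
  obtain ⟨f, hf⟩ : ∃ f, f = lift3 d a e dd aa ee hpd.comm h1 h2 := ⟨_, rfl⟩
  have e01 : f (swap 0 1) = d := by rw [hf, lift3_01]
  have e12 : f (swap 1 2) = a := by rw [hf, lift3_12]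
  have e23 : f (swap 2 3) = e := by rw [hf, lift3_23]
  rw [← hf] at hinj
  -- the other four elements
  obtain ⟨a', ha'def⟩ : ∃ a', a' = (d * e) * a * (d * e)⁻¹ := ⟨_, rfl⟩
  obtain ⟨b, hbdef⟩ : ∃ b, b = d * a * d⁻¹ := ⟨_, rfl⟩
  obtain ⟨b', hb'def⟩ : ∃ b', b' = d * a' * d⁻¹ := ⟨_, rfl⟩
  have hka := key hset hconj hd ha hpd hda
  rw [← ha'def] at hka
  have hpa : Partner D a a' := by
    obtain ⟨a'', h''⟩ := hpall a ha
    rcases h''.uniq a' hka.1 hka.2.2 with h | h
    · exact absurd h hka.2.1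
    · rw [h]; exact h''
  have hpb : Partner D b b' := by
    rw [hbdef, hb'def]
    exact hpa.conj hconj d
  have hb : b ∈ D := by rw [hbdef]; exact hconj _ _ ha
  -- the relation t_b = t_d t_a
  have hrel : b * b' = (d * e) * (a * a') := by
    rw [hbdef, hb'def, ha'def, ← e01, ← e12, ← e23]
    simp only [← map_mul, ← map_inv]
    rw [perm_fact3]
  -- every element of D commutes with d, a or b
  have hcover : ∀ x ∈ D, Commute d x ∨ Commute a x ∨ Commute b x := by
    intro x hx
    by_contra hcon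
    push Not at hcon
    obtain ⟨hxd, hxa, hxb⟩ := hcon
    obtain ⟨x', hpx⟩ := hpall x hx
    have k1 := key hset hconj hd hx hpd hxd
    have k2 := key hset hconj ha hx hpa hxa
    have k3 := key hset hconj hb hx hpb hxb
    have u1 : (d * e) * x * (d * e)⁻¹ = x' := by
      rcases hpx.uniq _ k1.1 k1.2.2 with h | h
      · exact absurd h k1.2.1
      · exact h
    have u2 : (a * a') * x * (a * a')⁻¹ = x' := by
      rcases hpx.uniq _ k2.1 k2.2.2 with h | h
      · exact absurd h k2.2.1
      · exact h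
    have u3 : (b * b') * x * (b * b')⁻¹ = x' := by
      rcases hpx.uniq _ k3.1 k3.2.2 with h | h
      · exact absurd h k3.2.1
      · exact h
    -- x' does not commute with d
    have hx'd : ¬ Commute d x' := fun h => hxd ((hpx.same d hd).mp h.symm).symm
    -- the partner of x' is x
    have hpx' : Partner D x' x := by
      refine ⟨hx, hpx.ne.symm, hpx.comm.symm, hpx.uniq', ?_⟩
      intro z hz
      exact (hpx.same z hz).symm
    have k4 := key hset hconj hd hpx.mem hpd hx'd
    have u4 : (d * e) * x' * (d * e)⁻¹ = x := by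
      rcases hpx'.uniq _ k4.1 k4.2.2 with h | h
      · exact absurd h k4.2.1
      · exact h
    have : x' = x := by
      rw [← u3, hrel]
      calc (d * e) * (a * a') * x * ((d * e) * (a * a'))⁻¹
          = (d * e) * ((a * a') * x * (a * a')⁻¹) * (d * e)⁻¹ := by group
        _ = x := by rw [u2, u4]
    exact hpx.ne this
  -- D is in the range of f
  have hrange : D ⊆ (f.range : Set G) := by
    have hdr : d ∈ f.range := ⟨_, e01⟩
    have har : a ∈ f.range := ⟨_, e12⟩
    have her : e ∈ f.range := ⟨_, e23⟩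
    have ha'r : a' ∈ f.range := by
      rw [ha'def]
      exact f.range.mul_mem (f.range.mul_mem (f.range.mul_mem hdr her) har) (f.range.inv_mem (f.range.mul_mem hdr her))
    have hbr : b ∈ f.range := by
      rw [hbdef]
      exact f.range.mul_mem (f.range.mul_mem hdr har) (f.range.inv_mem hdr)
    have hb'r : b' ∈ f.range := by
      rw [hb'def]
      exact f.range.mul_mem (f.range.mul_mem hdr ha'r) (f.range.inv_mem hdr)
    intro x hx
    rcases hcover x hx with h | h | h
    · rcases hpd.uniq x hx h with r | r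
      · rw [r]; exact hdr
      · rw [r]; exact her
    · rcases hpa.uniq x hx h with r | r
      · rw [r]; exact har
      · rw [r]; exact ha'r
    · rcases hpb.uniq x hx h with r | r
      · rw [r]; exact hbr
      · rw [r]; exact hb'r
  have hsurj : Function.Surjective f := by
    rw [← MonoidHom.range_eq_top, eq_top_iff, ← hgen, Subgroup.closure_le]
    exact hrange
  exact ⟨(MulEquiv.ofBijective f ⟨hinj, hsurj⟩).symm⟩

end Cfsg.Agent.S5355
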