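import Mathlib
import Cfsg.Statements.S0636
import Cfsg.Agent.Lib.Helper29.CyclicMax
import Cfsg.Agent.Lib.Helper29.PGroupNormal

set_option autoImplicit false
open Cfsg
open Cfsg.Agent.Lib.Helper29

namespace Cfsg.Agent.S0636

theorem result {R : Type*} [Group R] [Finite R] {p : ℕ} [Fact p.Prime] (hp : p ≠ 2) (hR : IsPGroup p R) (S : Subgroup R) [S.Normal] (hS : ¬ IsCyclic S) : ∃ A : Subgroup R, A ≤ S ∧ A.Normal ∧ Cfsg.IsElementaryAbelian p A ∧ Nat.card A = p ^ 2 := by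
  have hS0 : S.Normal ∧ S ≤ S ∧ ¬ IsCyclic S := ⟨inferInstance, le_rfl, hS⟩
  obtain ⟨T, -, ⟨hTn, hTS, hTnc⟩, hmin⟩ :=
    Finite.exists_le_minimal (p := fun T : Subgroup R => T.Normal ∧ T ≤ S ∧ ¬ IsCyclic T) hS0
  have hT1 : T ≠ ⊥ := by
    rintro rfl
    exact hTnc inferInstance
  obtain ⟨M, hMn, hMT, hMi⟩ := exists_normal_relIndex_prime hR T hT1
  have hMc : IsCyclic M := by
    by_contra hnc
    exact absurd hMT (not_lt_of_ge (hmin ⟨hMn, hMT.le.trans hTS, hnc⟩ hMT.le))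
  have hCc : IsCyclic (M.subgroupOf T) :=
    (Subgroup.subgroupOfEquivOfLe hMT.le).symm.isCyclic.mp hMc
  have hCi : (M.subgroupOf T).index = p := hMi
  obtain ⟨W, hW, hWc⟩ := exists_omega_card_sq hp (hR.to_subgroup T) hTnc (M.subgroupOf T) hCc hCi
  have hAc : Nat.card (W.map T.subtype) = p ^ 2 := by
    rw [Subgroup.card_map_of_injective T.subtype_injective, hWc]
  have hmem : ∀ x : R, x ∈ W.map T.subtype ↔ x ∈ T ∧ x ^ p = 1 := by
    intro x
    constructor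
    · rintro ⟨w, hw, rfl⟩
      refine ⟨w.2, ?_⟩
      have := (hW w).mp hw
      have h2 : ((w ^ p : T) : R) = 1 := by rw [this]; rfl
      simpa using h2
    · rintro ⟨hxT, hxp⟩
      refine ⟨⟨x, hxT⟩, (hW _).mpr ?_, rfl⟩
      exact Subtype.ext (by simpa using hxp)
  refine ⟨W.map T.subtype, (Subgroup.map_subtype_le W).trans hTS, ?_, ?_, hAc⟩
  · refine ⟨fun a ha g => ?_⟩
    rw [hmem] at ha ⊢
    refine ⟨hTn.conj_mem a ha.1 g, ?_⟩
    rw [conj_pow, ha.2, mul_one, mul_inv_cancel]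
  · exact ⟨IsPGroup.isMulCommutative_of_card_eq_prime_sq hAc, fun a ha => ((hmem a).mp ha).2⟩

end Cfsg.Agent.S0636
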