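import Cfsg.Statements.S0602
import Cfsg.Agent.Lib.Helper10.Thompson

set_option autoImplicit false
open Cfsg

namespace Cfsg.Agent.S0602

open Cfsg.Agent.Lib.Helper10

/-- The Thompson subgroup is characteristic, and nontrivial as soon as p divides the group order. -/
theorem result {G : Type*} [Group G] [Finite G] {p : ℕ} [Fact p.Prime] : (Cfsg.thompsonSubgroup p G).Characteristic ∧ (p ∣ Nat.card G → Cfsg.thompsonSubgroup p G ≠ ⊥) := by
  constructor
  · rw [Subgroup.characteristic_iff_map_le]
    intro φ
    rw [Subgroup.map_le_iff_le_comap]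
    apply sSup_le
    intro A hA
    rw [← Subgroup.map_le_iff_le_comap]
    apply le_sSup
    refine ⟨elemAb_map hA.1 _, ?_⟩
    intro B hB
    have h1 : Nat.card (A.map φ.toMonoidHom) = Nat.card A :=
      Subgroup.card_map_of_injective φ.injective
    rw [h1]
    exact hA.2 B hB
  · intro hp hbot
    obtain ⟨x, hx⟩ := exists_prime_orderOf_dvd_card' p hp
    obtain ⟨A, hA⟩ := exists_maxElemAb (G := G) p
    have hAJ : A ≤ thompsonSubgroup p G := maxElemAb_le_thompson hA
    rw [hbot] at hAJ
    have hA' : A = ⊥ := le_bot_iff.mp hAJ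
    have hxp : x ^ p = 1 := by rw [← hx]; exact pow_orderOf_eq_one x
    have hB := elemAb_sup_zpowers (elemAb_bot (G := G) p) (x := x) (by
      intro a ha; rw [Subgroup.mem_bot] at ha; rw [ha, one_mul, mul_one]) hxp
    have hcard := hA.2 _ hB
    rw [hA', bot_sup_eq, Subgroup.card_bot, Nat.card_zpowers, hx] at hcard
    have := (Fact.out : p.Prime).two_le
    omega

end Cfsg.Agent.S0602
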