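import Cfsg.Statements.S1969
import Cfsg.Agent.Lib.Helper33.SecMaster
import Cfsg.Agent.Lib.Helper46.Kieler5

set_option autoImplicit false
universe u
open Cfsg

namespace Cfsg.Agent.S1969

open Cfsg.Agent.Lib.Helper33 in
/-- All steps of a chain lie in a subgroup containing the relevant normalizers. -/
theorem chain_mem_of_forall {Y : Type*} [Group Y] {𝓥 : Set (Subgroup Y → Subgroup Y)}
    {H T0 L : Subgroup Y}
    (hL : ∀ V ∈ 𝓥, Subgroup.normalizer ((V T0 : Subgroup Y) : Set Y) ≤ L) {A : Set Y} {g : Y}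
    (h : Chain 𝓥 H T0 A g) : g ∈ L := by
  induction h with
  | nil A => exact L.one_mem
  | cons A y g hy _ _ ih =>
    obtain ⟨V, hV, hyV⟩ := hy
    exact L.mul_mem (hL V hV hyV.2) ih

/-- Let p be a prime, G a finite group and W an isomorphism-invariant p-group functor (W assigns to every group Q a subgroup W(Q), nontrivial whenever Q is a nontrivial finite p-group, and every isomorphism from a finite p-group Q onto a group R carries W(Q) onto W(R)). Suppose that W(S*) is normal in G* whenever G* = K/R is a section of G with C_{G*}(O_p(G*)) ≤ O_p(G*) and S* is a Sylow p-subgroup of G*. Then W controls strong fusion in every section of G: for every section K/R and every Sylow p-subgroup T of K/R, the subgroup W(T) controls strong fusion in K/R. -/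
theorem result {G : Type u} [Group G] [Finite G] {p : ℕ} [Fact p.Prime] (W : ∀ (Q : Type u) [Group Q], Subgroup Q) (hW : Cfsg.IsCharPFunctor.{u} p W) (hloc : ∀ (K R : Subgroup G) [hR : (R.subgroupOf K).Normal], Subgroup.centralizer ((Cfsg.pCore p (↥K ⧸ R.subgroupOf K) : Subgroup (↥K ⧸ R.subgroupOf K)) : Set (↥K ⧸ R.subgroupOf K)) ≤ Cfsg.pCore p (↥K ⧸ R.subgroupOf K) → ∀ T : Sylow p (↥K ⧸ R.subgroupOf K), (Cfsg.inducedFunctor (G := (↥K ⧸ R.subgroupOf K)) W ((T : Subgroup (↥K ⧸ R.subgroupOf K)))).Normal) : ∀ (K R : Subgroup G) [hR : (R.subgroupOf K).Normal], ∀ T : Sylow p (↥K ⧸ R.subgroupOf K), Cfsg.ControlsStrongFusion p (Cfsg.inducedFunctor (G := (↥K ⧸ R.subgroupOf K)) W ((T : Subgroup (↥K ⧸ R.subgroupOf K)))) := by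
  intro K R hR T
  have h𝓦 : ∀ W' ∈ ({W} : Set (∀ (Q : Type u) [Group Q], Subgroup Q)),
      Cfsg.IsCharPFunctor.{u} p W' := by
    intro W' hW'
    rw [Set.mem_singleton_iff] at hW'
    rw [hW']; exact hW
  have hloc' : ∀ (X : Type u) [Group X] [Finite X], Cfsg.Agent.Lib.Helper33.Sec G X →
      Subgroup.centralizer ((Cfsg.pCore p X : Subgroup X) : Set X) ≤ Cfsg.pCore p X →
      Cfsg.FamilyControlsStrongFusionIn p (Cfsg.Agent.Lib.Helper33.indFam {W} X) ⊤ := by
    intro X _ _ hX hc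
    obtain ⟨K', R', hR', ⟨e⟩⟩ := hX
    have hn := hloc K' R' (Cfsg.Agent.Lib.Helper46.charP_congr e hc)
    apply Cfsg.Agent.Lib.Helper33.fcsf_of_equiv h𝓦 e.symm
    obtain ⟨T'⟩ : Nonempty (Sylow p (↥K' ⧸ R'.subgroupOf K')) := inferInstance
    apply Cfsg.Agent.Lib.Helper33.fcsf_of_ctlAt T'.isPGroup' T'.not_dvd_index
    intro A g _ hAg
    refine ⟨g, Cfsg.Agent.Lib.Helper33.Chain.single
      ⟨Cfsg.inducedFunctor W, ⟨W, rfl, rfl⟩, ⟨Subgroup.mem_top _, ?_⟩⟩ hAg, fun _ _ => rfl⟩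
    haveI := hn T'
    rw [Subgroup.normalizer_eq_top (Cfsg.inducedFunctor W (T' : Subgroup (↥K' ⧸ R'.subgroupOf K')))]
    exact Subgroup.mem_top _
  have hY := Cfsg.Agent.Lib.Helper33.sec_master h𝓦 hloc' _ (↥K ⧸ R.subgroupOf K) rfl
    (Cfsg.Agent.Lib.Helper33.Sec.section_ K R)
  have hctl := Cfsg.Agent.Lib.Helper33.ctlAt_of_fcsf
    (Cfsg.Agent.Lib.Helper33.indFam_conj h𝓦 _) hY T.isPGroup' T.not_dvd_index
  refine ⟨T, Cfsg.Agent.Lib.Helper33.induced_le _, ?_⟩
  intro A hA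
  refine ⟨hA, ?_⟩
  intro g hg
  have hAg : Cfsg.Agent.Lib.Helper33.rc g⁻¹ A ⊆ ((T : Subgroup (↥K ⧸ R.subgroupOf K)) : Set _) := by
    rintro _ ⟨a, ha, rfl⟩
    apply hg
    exact ⟨a, ha, by simp⟩
  obtain ⟨g', hch, hag⟩ := hctl A g⁻¹ hA hAg
  have hmem : g' ∈ Subgroup.normalizer
      ((Cfsg.inducedFunctor W (T : Subgroup (↥K ⧸ R.subgroupOf K)) : Subgroup _) : Set _) := by
    apply chain_mem_of_forall ?_ hch
    rintro V ⟨W', hW', rfl⟩
    rw [Set.mem_singleton_iff] at hW'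
    rw [hW']
  refine ⟨g'⁻¹, Subgroup.inv_mem _ hmem, ?_⟩
  intro a ha
  have := hag a ha
  rw [inv_inv] at this ⊢
  exact this.symm

end Cfsg.Agent.S1969
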