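import Cfsg.Statements.S1978
import Cfsg.Agent.Lib.Helper33.KInf

set_option autoImplicit false
open Cfsg
open Cfsg.Agent.Lib.Helper33

namespace Cfsg.Agent.S1978

theorem bot_mem_lowerStar {P : Type*} [Group P] (Q : Subgroup P) :
    (⊥ : Subgroup P) ∈ Cfsg.kLowerStarFamily Q := by
  refine ⟨?_, ?_, ?_⟩
  · show ⁅(⊥ : Subgroup P), (⊥ : Subgroup P)⁆ ≤ Subgroup.centralizer ((⊥ : Subgroup P) : Set P)
    rw [Subgroup.commutator_bot_left]; exact bot_le
  · intro q _
    rw [Subgroup.mem_normalizer_iff]
    intro h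
    simp [Subgroup.mem_bot]
  · intro A _ _ _ _ _
    rw [Subgroup.commutator_bot_left]; exact bot_le

theorem bot_mem_upperStar {P : Type*} [Group P] (Q : Subgroup P) :
    (⊥ : Subgroup P) ∈ Cfsg.kUpperStarFamily Q := by
  refine ⟨?_, ?_⟩
  · show ⁅(⊥ : Subgroup P), (⊥ : Subgroup P)⁆ ≤ Subgroup.centralizer ((⊥ : Subgroup P) : Set P)
    rw [Subgroup.commutator_bot_left]; exact bot_le
  · rw [Subgroup.commutator_bot_left]; exact bot_le

theorem upperStar_anti {P : Type*} [Group P] {Q₁ Q₂ : Subgroup P} (h : Q₁ ≤ Q₂) :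
    Cfsg.kUpperStarFamily Q₂ ⊆ Cfsg.kUpperStarFamily Q₁ := by
  intro B hB
  exact ⟨hB.1, le_trans (Subgroup.commutator_mono le_rfl h) hB.2⟩

/-- Let P be a finite p-group. Each of the two K-infinity subgroups of P contains its own centralizer in P, which in turn contains Z(P); in particular both are nontrivial when P is. -/
theorem result {P : Type*} [Group P] [Finite P] {p : ℕ} [Fact p.Prime] (hP : IsPGroup p P) : Subgroup.centralizer (Cfsg.kInfLower P : Set P) ≤ Cfsg.kInfLower P ∧ Subgroup.center P ≤ Subgroup.centralizer (Cfsg.kInfLower P : Set P) ∧ Subgroup.centralizer (Cfsg.kInfUpper P : Set P) ≤ Cfsg.kInfUpper P ∧ Subgroup.center P ≤ Subgroup.centralizer (Cfsg.kInfUpper P : Set P) := by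
  have hnil : Group.IsNilpotent P := hP.isNilpotent
  refine ⟨?_, Subgroup.center_le_centralizer _, ?_, Subgroup.center_le_centralizer _⟩
  · obtain ⟨B, hB, _, hmax⟩ := exists_max_member _ (bot_mem_lowerStar (Cfsg.kSeqOdd P 0))
    have hself := lowerStar_max_self_centralizing hB hmax
    have hle : B ≤ Cfsg.kInfLower P := by
      refine le_trans ?_ (le_iSup (fun n => Cfsg.kSeqEven P n) 0)
      exact le_sSup hB
    exact le_trans (Subgroup.centralizer_le (by exact_mod_cast hle)) (le_trans hself hle)
  · obtain ⟨B, hB, _, hmax⟩ := exists_max_member _ (bot_mem_upperStar (Cfsg.kInfLower P))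
    have hself := upperStar_max_self_centralizing hB hmax
    have hle : B ≤ Cfsg.kInfUpper P := by
      refine le_iInf ?_
      intro n
      cases n with
      | zero => exact le_top
      | succ m =>
        show B ≤ sSup (Cfsg.kUpperStarFamily (Cfsg.kSeqEven P m))
        apply le_sSup
        exact upperStar_anti (le_iSup (fun n => Cfsg.kSeqEven P n) m) hB
    exact le_trans (Subgroup.centralizer_le (by exact_mod_cast hle)) (le_trans hself hle)

end Cfsg.Agent.S1978
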