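import Cfsg.Statements.S1979
import Cfsg.Agent.Lib.Helper33.KInfMap

set_option autoImplicit false
open Cfsg
open Cfsg.Agent.Lib.Helper33

namespace Cfsg.Agent.S1979

variable {P : Type*} [Group P]

/-- The lower-star functor relative to `R`, computed inside `Q`. -/
def FL (Q R : Subgroup P) : Subgroup P := sSup {B | B ≤ Q ∧ B ∈ Cfsg.kLowerStarFamily R}

/-- The upper-star functor relative to `R`, computed inside `Q`. -/
def FU (Q R : Subgroup P) : Subgroup P := sSup {B | B ≤ Q ∧ B ∈ Cfsg.kUpperStarFamily R}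

theorem FL_anti (Q : Subgroup P) {R₁ R₂ : Subgroup P} (h : R₁ ≤ R₂) : FL Q R₂ ≤ FL Q R₁ :=
  sSup_le_sSup fun _ hB => ⟨hB.1, lowerStar_anti h hB.2⟩

theorem FU_anti (Q : Subgroup P) {R₁ R₂ : Subgroup P} (h : R₁ ≤ R₂) : FU Q R₂ ≤ FU Q R₁ :=
  sSup_le_sSup fun _ hB => ⟨hB.1, upperStar_anti h hB.2⟩

theorem FL_eq {Q R : Subgroup P} (h : sSup (Cfsg.kLowerStarFamily R) ≤ Q) :
    FL Q R = sSup (Cfsg.kLowerStarFamily R) := by
  apply le_antisymm
  · exact sSup_le_sSup fun _ hB => hB.2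
  · exact sSup_le_sSup fun B hB => ⟨le_trans (le_sSup hB) h, hB⟩

theorem FU_eq {Q R : Subgroup P} (h : sSup (Cfsg.kUpperStarFamily R) ≤ Q) :
    FU Q R = sSup (Cfsg.kUpperStarFamily R) := by
  apply le_antisymm
  · exact sSup_le_sSup fun _ hB => hB.2
  · exact sSup_le_sSup fun B hB => ⟨le_trans (le_sSup hB) h, hB⟩

theorem map_le_self (Q : Subgroup P) (B' : Subgroup Q) : B'.map Q.subtype ≤ Q := by
  rintro _ ⟨y, _, rfl⟩
  exact y.2

theorem map_FL (Q : Subgroup P) (R' : Subgroup Q) :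
    (sSup (Cfsg.kLowerStarFamily R')).map Q.subtype = FL Q (R'.map Q.subtype) := by
  have hf : Function.Injective Q.subtype := Q.subtype_injective
  apply le_antisymm
  · rw [Subgroup.map_le_iff_le_comap]
    apply sSup_le
    intro B' hB'
    rw [← Subgroup.map_le_iff_le_comap]
    exact le_sSup ⟨map_le_self Q B', (lowerStar_map_iff hf).mpr hB'⟩
  · apply sSup_le
    rintro B ⟨hBQ, hB⟩
    have e : (B.subgroupOf Q).map Q.subtype = B := Subgroup.map_subgroupOf_eq_of_le hBQ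
    rw [← e] at hB ⊢
    exact Subgroup.map_mono (le_sSup ((lowerStar_map_iff hf).mp hB))

theorem map_FU (Q : Subgroup P) (R' : Subgroup Q) :
    (sSup (Cfsg.kUpperStarFamily R')).map Q.subtype = FU Q (R'.map Q.subtype) := by
  have hf : Function.Injective Q.subtype := Q.subtype_injective
  apply le_antisymm
  · rw [Subgroup.map_le_iff_le_comap]
    apply sSup_le
    intro B' hB'
    rw [← Subgroup.map_le_iff_le_comap]
    exact le_sSup ⟨map_le_self Q B', (upperStar_map_iff hf).mpr hB'⟩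
  · apply sSup_le
    rintro B ⟨hBQ, hB⟩
    have e : (B.subgroupOf Q).map Q.subtype = B := Subgroup.map_subgroupOf_eq_of_le hBQ
    rw [← e] at hB ⊢
    exact Subgroup.map_mono (le_sSup ((upperStar_map_iff hf).mp hB))

theorem sandwich (Q : Subgroup P)
    (hQ : ∀ n : ℕ, Cfsg.kSeqEven P n ≤ Q ∧ Cfsg.kSeqOdd P (n + 1) ≤ Q) (n : ℕ) :
    (Cfsg.kSeqOdd P (n + 1) ≤ (Cfsg.kSeqOdd Q n).map Q.subtype ∧
      (Cfsg.kSeqOdd Q n).map Q.subtype ≤ Cfsg.kSeqOdd P n) ∧
    (Cfsg.kSeqEven P n ≤ (Cfsg.kSeqEven Q n).map Q.subtype ∧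
      (Cfsg.kSeqEven Q n).map Q.subtype ≤ Cfsg.kSeqEven P (n + 1)) := by
  have hE : ∀ n, Cfsg.kSeqEven P n = FL Q (Cfsg.kSeqOdd P n) := fun n => (FL_eq (hQ n).1).symm
  have hO : ∀ n, Cfsg.kSeqOdd P (n + 1) = FU Q (Cfsg.kSeqEven P n) := fun n => (FU_eq (hQ n).2).symm
  have hE' : ∀ n, (Cfsg.kSeqEven Q n).map Q.subtype = FL Q ((Cfsg.kSeqOdd Q n).map Q.subtype) :=
    fun n => map_FL Q _
  have hO' : ∀ n, (Cfsg.kSeqOdd Q (n + 1)).map Q.subtype = FU Q ((Cfsg.kSeqEven Q n).map Q.subtype) :=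
    fun n => map_FU Q _
  have step : ∀ n, (Cfsg.kSeqOdd P (n + 1) ≤ (Cfsg.kSeqOdd Q n).map Q.subtype ∧
      (Cfsg.kSeqOdd Q n).map Q.subtype ≤ Cfsg.kSeqOdd P n) →
      (Cfsg.kSeqEven P n ≤ (Cfsg.kSeqEven Q n).map Q.subtype ∧
      (Cfsg.kSeqEven Q n).map Q.subtype ≤ Cfsg.kSeqEven P (n + 1)) := by
    intro n h
    constructor
    · rw [hE n, hE' n]; exact FL_anti Q h.2
    · rw [hE (n + 1), hE' n]; exact FL_anti Q h.1
  have hA : ∀ n, (Cfsg.kSeqOdd P (n + 1) ≤ (Cfsg.kSeqOdd Q n).map Q.subtype ∧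
      (Cfsg.kSeqOdd Q n).map Q.subtype ≤ Cfsg.kSeqOdd P n) := by
    intro n
    induction n with
    | zero =>
      constructor
      · have : (Cfsg.kSeqOdd Q 0).map Q.subtype = Q := by
          show (⊤ : Subgroup Q).map Q.subtype = Q
          rw [← MonoidHom.range_eq_map, Subgroup.range_subtype]
        rw [this]; exact (hQ 0).2
      · exact le_top
    | succ n ih =>
      have hB := step n ih
      constructor
      · rw [hO (n + 1), hO' n]; exact FU_anti Q hB.2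
      · rw [hO n, hO' n]; exact FU_anti Q hB.1
  exact ⟨hA n, step n (hA n)⟩

/-- Let P be a finite p-group and Q a subgroup of P containing every term of the K-sequence of P of nonnegative index (every even-indexed term and every odd-indexed term after the initial term P). Then the K-infinity subgroups of Q, computed in Q and viewed in P, equal those of P. -/
theorem result {P : Type*} [Group P] [Finite P] {p : ℕ} [Fact p.Prime] (hP : IsPGroup p P) (Q : Subgroup P) (hQ : ∀ n : ℕ, Cfsg.kSeqEven P n ≤ Q ∧ Cfsg.kSeqOdd P (n + 1) ≤ Q) : (Cfsg.kInfLower ↥Q).map Q.subtype = Cfsg.kInfLower P ∧ (Cfsg.kInfUpper ↥Q).map Q.subtype = Cfsg.kInfUpper P := by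
  have hs := sandwich Q hQ
  constructor
  · show (⨆ n, Cfsg.kSeqEven Q n).map Q.subtype = ⨆ n, Cfsg.kSeqEven P n
    rw [Subgroup.map_iSup]
    apply le_antisymm
    · exact iSup_le fun n => le_trans (hs n).2.2 (le_iSup (fun n => Cfsg.kSeqEven P n) (n + 1))
    · exact iSup_le fun n => le_trans (hs n).2.1
        (le_iSup (fun n => (Cfsg.kSeqEven Q n).map Q.subtype) n)
  · show (⨅ n, Cfsg.kSeqOdd Q n).map Q.subtype = ⨅ n, Cfsg.kSeqOdd P n
    rw [Subgroup.map_iInf _ Q.subtype_injective]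
    apply le_antisymm
    · exact le_iInf fun n => le_trans (iInf_le _ n) (hs n).1.2
    · exact le_iInf fun n => le_trans (iInf_le _ (n + 1)) (hs n).1.1

end Cfsg.Agent.S1979
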