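import Cfsg.Statements.S1981
import Cfsg.Agent.S1980

set_option autoImplicit false
open Cfsg

namespace Cfsg.Agent.S1981

theorem top_le_of_family {P : Type*} [Group P]
    (hgen : ⨆ A ∈ {A : Subgroup P | A.Normal ∧ IsMulCommutative ↥A}, A = ⊤)
    (𝒦 : Set (Subgroup P))
    (h : ∀ A : Subgroup P, A.Normal → IsMulCommutative ↥A → A ∈ 𝒦) : sSup 𝒦 = ⊤ := by
  rw [eq_top_iff, ← hgen]
  refine iSup₂_le ?_
  intro A hA
  exact le_sSup (h A hA.1 hA.2)

theorem even_top {P : Type*} [Group P]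
    (hgen : ⨆ A ∈ {A : Subgroup P | A.Normal ∧ IsMulCommutative ↥A}, A = ⊤) (n : ℕ) :
    Cfsg.kSeqEven P n = ⊤ := by
  unfold Cfsg.kSeqEven
  apply top_le_of_family hgen
  intro A hA1 hA2
  haveI := hA1
  exact Cfsg.Agent.S1980.mem_lower A hA2 _

theorem odd_top {P : Type*} [Group P]
    (hgen : ⨆ A ∈ {A : Subgroup P | A.Normal ∧ IsMulCommutative ↥A}, A = ⊤) (n : ℕ) :
    Cfsg.kSeqOdd P n = ⊤ := by
  cases n with
  | zero => rfl
  | succ k =>
    show sSup (Cfsg.kUpperStarFamily (sSup (Cfsg.kLowerStarFamily (Cfsg.kSeqOdd P k)))) = ⊤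
    apply top_le_of_family hgen
    intro A hA1 hA2
    haveI := hA1
    exact Cfsg.Agent.S1980.mem_upper A hA2 _

/-- Let P be a finite p-group generated by its abelian normal subgroups. Then both K-infinity subgroups of P equal P. -/
theorem result {P : Type*} [Group P] [Finite P] {p : ℕ} [Fact p.Prime] (hP : IsPGroup p P) (hgen : ⨆ A ∈ {A : Subgroup P | A.Normal ∧ IsMulCommutative ↥A}, A = ⊤) : Cfsg.kInfLower P = ⊤ ∧ Cfsg.kInfUpper P = ⊤ := by
  constructor
  · unfold Cfsg.kInfLower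
    rw [eq_top_iff]
    refine le_trans ?_ (le_iSup _ 0)
    rw [even_top hgen 0]
  · unfold Cfsg.kInfUpper
    rw [eq_top_iff]
    refine le_iInf ?_
    intro n
    rw [odd_top hgen n]

end Cfsg.Agent.S1981
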