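import Cfsg.Statements.S5092
import Cfsg.Agent.Lib.Helper85.Hyperfocal

set_option autoImplicit false
open Cfsg

namespace Cfsg.Agent.S5092

open scoped commutatorElement
open Cfsg.FusionSystem Cfsg.Agent.Lib.Helper87 Cfsg.Agent.Lib.Helper85

variable {Ω : Type*} [Group Ω] {S : Subgroup Ω}

theorem aut_case [Finite S] {p : ℕ} [Fact p.Prime] (F : Cfsg.FusionSystem S) {R : Subgroup Ω}
    (hfa : F.IsFullyAutomized p R) (α : MulAut R) (hα : α ∈ F.autGroup R) (x : R) :
    (x : Ω)⁻¹ * ((α x : R) : Ω) ∈ F.hyperfocalSubgroup p ⊔ ⁅(S : Subgroup Ω), (S : Subgroup Ω)⁆ := by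
  obtain ⟨hRS, T, hT⟩ := hfa
  have hfinR : Finite R := finite_of_le hRS
  obtain ⟨t, ht, b, hb, hab⟩ := exists_sylow_mul_pResidual T (⟨α, hα⟩ : F.autGroup R)
  have ht' : (t : MulAut R) ∈ Cfsg.autInducedBy S R := by
    have : t ∈ (T : Subgroup (F.autGroup R)) := ht
    rw [hT] at this
    exact Subgroup.mem_subgroupOf.mp this
  obtain ⟨s, hsS, hs⟩ := (mem_autInducedBy_iff S R _).mp ht'
  have hαx : ((α x : R) : Ω) = s * ((b : MulAut R) x : R) * s⁻¹ := by
    have h1 : α = (t : MulAut R) * (b : MulAut R) := by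
      have := congrArg Subtype.val hab
      exact this
    rw [h1, MulAut.mul_apply, hs]
  rw [hαx]
  have hxS : (x : Ω) ∈ S := hRS x.2
  have e : (x : Ω)⁻¹ * (s * ((b : MulAut R) x : R) * s⁻¹) =
      ⁅(x : Ω)⁻¹, s⁆ * (s * ((x : Ω)⁻¹ * ((b : MulAut R) x : R)) * s⁻¹) := by
    rw [commutatorElement_def]; group
  rw [e]
  apply Subgroup.mul_mem
  · apply Subgroup.mem_sup_right
    exact Subgroup.commutator_mem_commutator (S.inv_mem hxS) hsS
  · apply Subgroup.mem_sup_left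
    exact hyperfocal_conj_mem F p hsS (hyperfocal_gen_mem F p hRS b hb x)

theorem key [Finite S] {p : ℕ} [Fact p.Prime] (F : Cfsg.FusionSystem S) :
    ∀ (P : Subgroup Ω) (φ : P →* Ω), AlpGen F p P φ → ∀ x : P,
      (x : Ω)⁻¹ * φ x ∈ F.hyperfocalSubgroup p ⊔ ⁅(S : Subgroup Ω), (S : Subgroup Ω)⁆ := by
  intro P φ h
  induction h with
  | @aut P R hR α hα hPR =>
    intro x
    exact aut_case F hR.1 α hα (Subgroup.inclusion hPR x)
  | @comp P Q φ ψ _ _ h ih1 ih2 =>
    intro x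
    have h1 := ih1 x
    have h2 := ih2 ⟨φ x, h x⟩
    have e : (x : Ω)⁻¹ * (ψ.comp (φ.codRestrict Q h)) x =
        ((x : Ω)⁻¹ * φ x) * ((φ x)⁻¹ * ψ ⟨φ x, h x⟩) := by
      show (x : Ω)⁻¹ * ψ ⟨φ x, h x⟩ = _
      group
    rw [e]
    exact Subgroup.mul_mem _ h1 h2

/-- For a saturated fusion system over a finite p-group S, the focal subgroup is the product of the hyperfocal subgroup and the derived subgroup of S. -/
theorem result {Ω : Type*} [Group Ω] {S : Subgroup Ω} [Finite S] (p : ℕ) [Fact p.Prime] (hS : IsPGroup p S) (F : Cfsg.FusionSystem S) (hF : F.IsSaturated p) : F.focalSubgroup = F.hyperfocalSubgroup p ⊔ ⁅(S : Subgroup Ω), (S : Subgroup Ω)⁆ := by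
  apply le_antisymm
  · unfold Cfsg.FusionSystem.focalSubgroup
    rw [Subgroup.closure_le]
    rintro y ⟨P, φ, x, hφ, rfl⟩
    exact key F P φ (alperin hS F hF P φ hφ) x
  · apply sup_le
    · conv_lhs => unfold Cfsg.FusionSystem.hyperfocalSubgroup
      rw [Subgroup.closure_le]
      rintro y ⟨P, α, x, hPS, -, rfl⟩
      apply Subgroup.subset_closure
      refine ⟨P, P.subtype.comp (α : MulAut P).toMonoidHom, x, ?_, rfl⟩
      exact (mem_autGroup_iff F hPS _).mp α.2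
    · rw [Subgroup.commutator_le]
      intro a ha b hb
      apply Subgroup.subset_closure
      refine ⟨S, Cfsg.conjHom S b, ⟨a⁻¹, S.inv_mem ha⟩, F.conj_mem le_rfl hb, ?_⟩
      show ⁅a, b⁆ = (a⁻¹)⁻¹ * (b * a⁻¹ * b⁻¹)
      rw [commutatorElement_def]
      group

end Cfsg.Agent.S5092
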