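import Cfsg.Statements.S1952
-- import your own Cfsg.Agent.* helpers here
import Mathlib

set_option autoImplicit false
open Cfsg

namespace Cfsg.Agent.S1952


open scoped Classical in
/-- A nonzero shift-invariant additive subgroup of functions `ZMod p → ZMod p` contains a nonzero constant. -/
theorem exists_const_mem_of_shift {p : ℕ} [Fact p.Prime] (R : AddSubgroup (ZMod p → ZMod p))
    (hshift : ∀ e ∈ R, (fun i => e (i - 1)) ∈ R) (hR : R ≠ ⊥) :
    ∃ t : ZMod p, t ≠ 0 ∧ (fun _ => t) ∈ R := by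
  have hp : p.Prime := Fact.out
  -- the shift permutation on all functions
  let S : Equiv.Perm (ZMod p → ZMod p) :=
    { toFun := fun e i => e (i - 1)
      invFun := fun e i => e (i + 1)
      left_inv := by intro e; funext i; simp
      right_inv := by intro e; funext i; simp }
  have hSpow : ∀ (k : ℕ) (e : ZMod p → ZMod p) (i : ZMod p), (S ^ k) e i = e (i - k) := by
    intro k
    induction k with
    | zero => intro e i; simp
    | succ k ih =>
      intro e i
      rw [pow_succ', Equiv.Perm.mul_apply]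
      show (S ^ k) e (i - 1) = _
      rw [ih]
      congr 1
      push_cast
      ring
  let σ : Equiv.Perm {e // e ∈ R} := S.subtypePermOfFintype (fun e he => hshift e he)
  have hσval : ∀ (k : ℕ) (e : {e // e ∈ R}), ((σ ^ k) e).1 = (S ^ k) e.1 := by
    intro k
    induction k with
    | zero => intro e; simp
    | succ k ih =>
      intro e
      rw [pow_succ', Equiv.Perm.mul_apply, pow_succ', Equiv.Perm.mul_apply, ← ih]
      rfl
  have hσp : σ ^ p ^ 1 = 1 := by
    ext e i
    rw [pow_one, hσval, hSpow]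
    simp
  have hcard : p ∣ Fintype.card {e // e ∈ R} := by
    have h1 : Nat.card R ∣ p ^ p := by
      have := AddSubgroup.card_addSubgroup_dvd_card R
      rwa [Nat.card_fun, Nat.card_zmod] at this
    obtain ⟨k, hk, hk2⟩ := (Nat.dvd_prime_pow hp).mp h1
    have h2 : 1 < Nat.card R := (AddSubgroup.one_lt_card_iff_ne_bot R).mpr hR
    have hk0 : k ≠ 0 := by
      rintro rfl
      rw [hk2] at h2
      simp at h2
    have : p ∣ Nat.card R := by rw [hk2]; exact dvd_pow_self p hk0
    rwa [Nat.card_eq_fintype_card] at this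
  have h0 : σ ⟨0, R.zero_mem⟩ = ⟨0, R.zero_mem⟩ := by
    apply Subtype.ext
    funext i
    rfl
  obtain ⟨b, hb1, hb2⟩ := Equiv.Perm.exists_fixed_point_of_prime' hcard hσp h0
  have hb : ∀ i : ZMod p, b.1 (i - 1) = b.1 i := by
    intro i
    have := congrArg (fun e => e.1 i) hb1
    exact this
  have hbn : ∀ n : ℕ, b.1 (n : ZMod p) = b.1 0 := by
    intro n
    induction n with
    | zero => simp
    | succ n ih =>
      have h1 : ((n + 1 : ℕ) : ZMod p) - 1 = (n : ZMod p) := by push_cast; ring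
      rw [← ih, ← hb ((n + 1 : ℕ) : ZMod p), h1]
  have hconst : b.1 = fun _ => b.1 0 := by
    funext i
    rw [← hbn i.val, ZMod.natCast_zmod_val]
  refine ⟨b.1 0, ?_, ?_⟩
  · intro h0'
    apply hb2
    apply Subtype.ext
    rw [hconst, h0']
    rfl
  · rw [← hconst]
    exact b.2

theorem padicValNat_factorial_sq (p : ℕ) [Fact p.Prime] :
    padicValNat p (p ^ 2).factorial = p + 1 := by
  have h1 : padicValNat p (p * 1).factorial = padicValNat p (1).factorial + 1 :=
    padicValNat_factorial_mul 1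
  have h2 : padicValNat p (p * p).factorial = padicValNat p (p).factorial + p :=
    padicValNat_factorial_mul p
  rw [mul_one] at h1
  rw [pow_two, h2, h1]
  simp
  ring

theorem pow_val_add' {G : Type*} [Group G] {p : ℕ} [Fact p.Prime] {a : G} (ha : a ^ p = 1)
    (s t : ZMod p) : a ^ (s + t).val = a ^ s.val * a ^ t.val := by
  rw [ZMod.val_add, ← pow_add, ← pow_eq_pow_mod _ ha]

theorem prod_zmod_eq_prod_range {B : Type*} [CommMonoid B] {p : ℕ} [NeZero p] (f : ℕ → B) :
    ∏ i : ZMod p, f i.val = ∏ i ∈ Finset.range p, f i := by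
  refine Finset.prod_nbij' (fun i => i.val) (fun j => (j : ZMod p)) ?_ ?_ ?_ ?_ ?_
  · intro i _; exact Finset.mem_range.mpr (ZMod.val_lt i)
  · intro j _; exact Finset.mem_univ _
  · intro i _; exact ZMod.natCast_zmod_val i
  · intro j hj; exact ZMod.val_natCast_of_lt (Finset.mem_range.mp hj)
  · intro i _; rfl

theorem per_mod {B : Type*} {p : ℕ} (c : ℕ → B) (hper : ∀ i, c (i + p) = c i) (n : ℕ) :
    c (n % p) = c n := by
  have h : ∀ k m : ℕ, c (m + p * k) = c m := by
    intro k
    induction k with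
    | zero => intro m; simp
    | succ k ih =>
      intro m
      have : m + p * (k + 1) = (m + p * k) + p := by ring
      rw [this, hper, ih]
  conv_rhs => rw [← Nat.mod_add_div n p]
  rw [h]

theorem relation_injective {B : Type*} [CommGroup B] {p : ℕ} [Fact p.Prime]
    (hexp : ∀ b : B, b ^ p = 1) (τ : B →* B) (c : ℕ → B)
    (hτ : ∀ i, τ (c i) = c (i + 1)) (hper : ∀ i, c (i + p) = c i)
    (M : Subgroup B) (hM : ∀ b ∈ M, τ b ∈ M) (hz : ∏ i ∈ Finset.range p, c i ∉ M)
    (e e' : ZMod p → ZMod p)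
    (hee : (∏ i : ZMod p, c i.val ^ (e i).val)⁻¹ * (∏ i : ZMod p, c i.val ^ (e' i).val) ∈ M) :
    e = e' := by
  have hp : p.Prime := Fact.out
  -- the evaluation hom
  let Ψ : (ZMod p → ZMod p) → B := fun e => ∏ i : ZMod p, c i.val ^ (e i).val
  have hΨadd : ∀ e₁ e₂, Ψ (e₁ + e₂) = Ψ e₁ * Ψ e₂ := by
    intro e₁ e₂
    show ∏ i : ZMod p, c i.val ^ ((e₁ + e₂) i).val = _
    rw [← Finset.prod_mul_distrib]
    refine Finset.prod_congr rfl fun i _ => ?_
    rw [Pi.add_apply, pow_val_add' (hexp _)]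
  have hΨ0 : Ψ 0 = 1 := by
    show ∏ i : ZMod p, c i.val ^ ((0 : ZMod p → ZMod p) i).val = _
    simp
  have hΨneg : ∀ e₁, Ψ (-e₁) = (Ψ e₁)⁻¹ := by
    intro e₁
    rw [eq_inv_iff_mul_eq_one, ← hΨadd, neg_add_cancel, hΨ0]
  let R : AddSubgroup (ZMod p → ZMod p) :=
    { carrier := {e | Ψ e ∈ M}
      zero_mem' := by show Ψ 0 ∈ M; rw [hΨ0]; exact M.one_mem
      add_mem' := by
        intro a b ha hb
        show Ψ (a + b) ∈ M
        rw [hΨadd]; exact M.mul_mem ha hb
      neg_mem' := by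
        intro a ha
        show Ψ (-a) ∈ M
        rw [hΨneg]; exact M.inv_mem ha }
  have hRmem : ∀ e, e ∈ R ↔ Ψ e ∈ M := fun e => Iff.rfl
  have hshift : ∀ e ∈ R, (fun i => e (i - 1)) ∈ R := by
    intro e he
    rw [hRmem] at he ⊢
    have h1 : Ψ (fun i => e (i - 1)) = τ (Ψ e) := by
      show ∏ i : ZMod p, c i.val ^ (e (i - 1)).val = τ (∏ i : ZMod p, c i.val ^ (e i).val)
      rw [map_prod]
      refine (Fintype.prod_equiv (Equiv.addRight (1 : ZMod p)) _ _ ?_).symm
      intro j
      rw [map_pow, hτ]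
      show _ = c (j + 1).val ^ (e (j + 1 - 1)).val
      rw [add_sub_cancel_right]
      congr 1
      rw [ZMod.val_add, per_mod c hper]
      congr 2
      exact (ZMod.val_one p).symm
    rw [h1]
    exact hM _ he
  have hRbot : R = ⊥ := by
    by_contra hne
    obtain ⟨t, ht0, htR⟩ := exists_const_mem_of_shift R hshift hne
    rw [hRmem] at htR
    have h1 : Ψ (fun _ => t) = (∏ i ∈ Finset.range p, c i) ^ t.val := by
      show ∏ i : ZMod p, c i.val ^ t.val = _
      rw [Finset.prod_pow, prod_zmod_eq_prod_range (p := p) c]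
    rw [h1] at htR
    obtain ⟨z, hzdef⟩ : ∃ z, z = ∏ i ∈ Finset.range p, c i := ⟨_, rfl⟩
    rw [← hzdef] at htR hz
    have hcop : Nat.Coprime t.val (orderOf z) := by
      have hdvd : orderOf z ∣ p := orderOf_dvd_of_pow_eq_one (hexp z)
      refine Nat.Coprime.coprime_dvd_right hdvd ?_
      refine ((Nat.Prime.coprime_iff_not_dvd hp).mpr ?_).symm
      refine Nat.not_dvd_of_pos_of_lt ?_ (ZMod.val_lt t)
      exact Nat.pos_of_ne_zero (fun h => ht0 ((ZMod.val_eq_zero t).mp h))
    obtain ⟨m, hm⟩ := exists_pow_eq_self_of_coprime hcop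
    apply hz
    rw [← hm]
    exact M.pow_mem htR m
  have hsub : e' - e ∈ R := by
    rw [hRmem]
    have : Ψ (e' - e) = (Ψ e)⁻¹ * Ψ e' := by
      rw [sub_eq_add_neg, hΨadd, hΨneg, mul_comm]
    rw [this]
    exact hee
  rw [hRbot, AddSubgroup.mem_bot, sub_eq_zero] at hsub
  exact hsub.symm

open scoped IsMulCommutative in
theorem exists_hyperplane {P : Type*} [Group P] [Finite P] {p : ℕ} [Fact p.Prime] (A : Subgroup P)
    (hA : Cfsg.IsElementaryAbelian p A) (z : P) (hz : z ∈ A) (hz1 : z ≠ 1) :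
    ∃ H : Subgroup P, H ≤ A ∧ z ∉ H ∧ H.index = p * A.index := by
  classical
  have hp : p.Prime := Fact.out
  have : IsMulCommutative ↥A := hA.1
  have hnsmul : ∀ v : Additive ↥A, p • v = 0 := by
    intro v
    have h1 : (Additive.toMul v) ^ p = 1 := Subtype.ext (by simpa using hA.2 _ (Additive.toMul v).2)
    have h2 : p • v = Additive.ofMul ((Additive.toMul v) ^ p) := rfl
    rw [h2, h1]; rfl
  let _ : Module (ZMod p) (Additive ↥A) := AddCommGroup.zmodModule (n := p) hnsmul
  obtain ⟨φ, hφ⟩ : ∃ φ : (Additive ↥A) →ₗ[ZMod p] ZMod p,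
      φ (Additive.ofMul (⟨z, hz⟩ : ↥A)) ≠ 0 := by
    by_contra hcon
    push Not at hcon
    have h0 := (Module.forall_dual_apply_eq_zero_iff (ZMod p) _).mp hcon
    apply hz1
    have h1 : (⟨z, hz⟩ : ↥A) = 1 := h0
    exact congrArg Subtype.val h1
  let φ' : ↥A →* Multiplicative (ZMod p) :=
    MonoidHom.mk' (fun a => Multiplicative.ofAdd (φ (Additive.ofMul a))) (by
      intro a b
      rw [ofMul_mul, map_add, ofAdd_add])
  have hφ'z : φ' ⟨z, hz⟩ ≠ 1 := by
    intro h
    apply hφ
    exact h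
  have hidx : φ'.ker.index = p := by
    rw [Subgroup.index_ker]
    have hdvd : Nat.card φ'.range ∣ p := by
      have := Subgroup.card_subgroup_dvd_card φ'.range
      rwa [Nat.card_eq_fintype_card (α := Multiplicative (ZMod p)), Fintype.card_multiplicative,
        ZMod.card] at this
    rcases (Nat.dvd_prime hp).mp hdvd with h1 | h1
    · exfalso
      have hbot : φ'.range = ⊥ := Subgroup.card_eq_one.mp h1
      apply hφ'z
      have : φ' ⟨z, hz⟩ ∈ φ'.range := ⟨_, rfl⟩
      rw [hbot, Subgroup.mem_bot] at this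
      exact this
    · exact h1
  refine ⟨φ'.ker.map A.subtype, Subgroup.map_subtype_le _, ?_, ?_⟩
  · rintro ⟨a, ha, haz⟩
    apply hφ'z
    have : a = ⟨z, hz⟩ := Subtype.ext haz
    rw [← this]
    exact ha
  · rw [Subgroup.index_map_subtype, hidx]

open scoped IsMulCommutative in
/-- Let P be a finite p-group with a normal elementary abelian subgroup A of index p, and let x ∈ A and y ∈ P with y outside A. If the product of the p conjugates y^(-i) x y^i (i = 0, …, p−1) is not the identity, then the wreath product Z_p ≀ Z_p, realised as a Sylow p-subgroup of the symmetric group of degree p², is a homomorphic image of P. -/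
theorem result {P : Type*} [Group P] [Finite P] {p : ℕ} [Fact p.Prime] (hP : IsPGroup p P) (A : Subgroup P) [A.Normal]
    (hA : Cfsg.IsElementaryAbelian p A) (hidx : A.index = p) (x y : P) (hx : x ∈ A) (hy : y ∉ A)
    (hprod : ((List.range p).map (fun i => (y ^ i)⁻¹ * x * y ^ i)).prod ≠ 1) :
    ∃ (Q : Sylow p (Equiv.Perm (Fin (p ^ 2)))) (f : P →* ↥(Q : Subgroup (Equiv.Perm (Fin (p ^ 2))))), Function.Surjective f := by
  classical
  have hp : p.Prime := Fact.out
  have hcomm : IsMulCommutative ↥A := hA.1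
  have hexpA : ∀ a : ↥A, a ^ p = 1 := fun a => Subtype.ext (by simpa using hA.2 a.1 a.2)
  -- `y ^ p ∈ A`
  have hyp : y ^ p ∈ A := by
    have h1 : ((y : P ⧸ A)) ^ p = 1 := by
      have h2 : Nat.card (P ⧸ A) = p := by rw [← Subgroup.index_eq_card]; exact hidx
      conv_lhs => rw [← h2]
      exact pow_card_eq_one'
    rwa [← QuotientGroup.mk_pow, QuotientGroup.eq_one_iff] at h1
  -- conjugates
  have hcmem : ∀ i : ℕ, (y ^ i)⁻¹ * x * y ^ i ∈ A := by
    intro i
    simpa using ‹A.Normal›.conj_mem x hx (y ^ i)⁻¹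
  obtain ⟨c, hc⟩ : ∃ c : ℕ → ↥A, ∀ i, (c i : P) = (y ^ i)⁻¹ * x * y ^ i :=
    ⟨fun i => ⟨_, hcmem i⟩, fun i => rfl⟩
  let τ : ↥A →* ↥A := (MulAut.conjNormal (y⁻¹) : MulAut ↥A).toMonoidHom
  have hτval : ∀ a : ↥A, (τ a : P) = y⁻¹ * a * y := by
    intro a
    show ((MulAut.conjNormal (y⁻¹) : MulAut ↥A) a : P) = _
    rw [MulAut.conjNormal_apply, inv_inv]
  have hτ : ∀ i, τ (c i) = c (i + 1) := by
    intro i
    apply Subtype.ext
    rw [hτval, hc, hc]
    group
  have hper : ∀ i, c (i + p) = c i := by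
    intro i
    apply Subtype.ext
    rw [hc, hc]
    have h1 : (y ^ p)⁻¹ * x * y ^ p = x := by
      have h2 : (⟨x, hx⟩ : ↥A) * ⟨y ^ p, hyp⟩ = ⟨y ^ p, hyp⟩ * ⟨x, hx⟩ := mul_comm _ _
      have h3 : x * y ^ p = y ^ p * x := congrArg Subtype.val h2
      rw [mul_assoc, h3, ← mul_assoc, inv_mul_cancel, one_mul]
    have h4 : y ^ (i + p) = y ^ p * y ^ i := by rw [add_comm, pow_add]
    rw [h4, mul_inv_rev]
    calc (y ^ i)⁻¹ * (y ^ p)⁻¹ * x * (y ^ p * y ^ i)
        = (y ^ i)⁻¹ * ((y ^ p)⁻¹ * x * y ^ p) * y ^ i := by group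
      _ = (y ^ i)⁻¹ * x * y ^ i := by rw [h1]
  -- the norm element
  have hzval : ∀ n : ℕ, ((∏ i ∈ Finset.range n, c i : ↥A) : P) =
      ((List.range n).map (fun i => (y ^ i)⁻¹ * x * y ^ i)).prod := by
    intro n
    induction n with
    | zero => simp
    | succ n ih =>
      rw [Finset.prod_range_succ, List.prod_range_succ, Subgroup.coe_mul, ih, hc]
  have hz1 : ((∏ i ∈ Finset.range p, c i : ↥A) : P) ≠ 1 := by
    rw [hzval]; exact hprod
  obtain ⟨H, hHA, hzH, hHidx⟩ := exists_hyperplane A hA _ (SetLike.coe_mem _) hz1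
  rw [hidx] at hHidx
  have hcardH : Nat.card (P ⧸ H) = p ^ 2 := by
    rw [← Subgroup.index_eq_card, hHidx, pow_two]
  let e₀ : (P ⧸ H) ≃ Fin (p ^ 2) := Finite.equivFinOfCardEq hcardH
  let f₀ : P →* Equiv.Perm (Fin (p ^ 2)) :=
    (e₀.permCongrHom).toMonoidHom.comp (MulAction.toPermHom P (P ⧸ H))
  have hkerH : f₀.ker ≤ H := by
    intro g hg
    rw [MonoidHom.mem_ker] at hg
    have h1 : MulAction.toPermHom P (P ⧸ H) g = 1 := by
      have : e₀.permCongrHom (MulAction.toPermHom P (P ⧸ H) g) = 1 := hg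
      exact (EmbeddingLike.map_eq_one_iff).mp this
    have h2 : g • ((1 : P) : P ⧸ H) = ((1 : P) : P ⧸ H) := by
      have := congrArg (fun σ : Equiv.Perm (P ⧸ H) => σ ((1 : P) : P ⧸ H)) h1
      simpa using this
    have h3 : ((g * 1 : P) : P ⧸ H) = ((1 : P) : P ⧸ H) := h2
    rw [QuotientGroup.eq] at h3
    simpa using h3
  have hkerA : f₀.ker ≤ A := hkerH.trans hHA
  let M : Subgroup ↥A := f₀.ker.subgroupOf A
  have hM : ∀ b ∈ M, τ b ∈ M := by
    intro b hb
    rw [Subgroup.mem_subgroupOf] at hb ⊢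
    rw [hτval]
    have := (inferInstance : f₀.ker.Normal).conj_mem _ hb y⁻¹
    simpa using this
  have hzM : ∏ i ∈ Finset.range p, c i ∉ M := by
    intro h
    rw [Subgroup.mem_subgroupOf] at h
    exact hzH (hkerH h)
  -- the image
  have hWp : IsPGroup p f₀.range :=
    IsPGroup.of_surjective hP f₀.rangeRestrict f₀.rangeRestrict_surjective
  obtain ⟨k, hk⟩ := IsPGroup.iff_card.mp hWp
  -- lower bound
  have hlow : p ^ p < Nat.card f₀.range := by
    let g : (ZMod p → ZMod p) → f₀.range := fun e =>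
      ⟨f₀ ((∏ i : ZMod p, c i.val ^ (e i).val : ↥A) : P), ⟨_, rfl⟩⟩
    have hginj : Function.Injective g := by
      intro e e' hee
      have h1 : f₀ ((∏ i : ZMod p, c i.val ^ (e i).val : ↥A) : P) =
          f₀ ((∏ i : ZMod p, c i.val ^ (e' i).val : ↥A) : P) := congrArg Subtype.val hee
      apply relation_injective hexpA τ c hτ hper M hM hzM e e'
      rw [Subgroup.mem_subgroupOf, MonoidHom.mem_ker, Subgroup.coe_mul, Subgroup.coe_inv,
        map_mul, map_inv, h1, inv_mul_cancel]
    have hynot : (⟨f₀ y, ⟨y, rfl⟩⟩ : f₀.range) ∉ Set.range g := by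
      rintro ⟨e, he⟩
      have h1 : f₀ ((∏ i : ZMod p, c i.val ^ (e i).val : ↥A) : P) = f₀ y := congrArg Subtype.val he
      have h2 : (((∏ i : ZMod p, c i.val ^ (e i).val : ↥A) : P))⁻¹ * y ∈ f₀.ker := by
        rw [MonoidHom.mem_ker, map_mul, map_inv, h1, inv_mul_cancel]
      have h3 := hkerA h2
      apply hy
      have h4 := A.mul_mem (SetLike.coe_mem (∏ i : ZMod p, c i.val ^ (e i).val : ↥A)) h3
      simpa using h4
    have := Fintype.card_lt_of_injective_of_notMem g hginj hynot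
    rw [Fintype.card_fun, ZMod.card] at this
    rwa [Nat.card_eq_fintype_card]
  -- upper bound
  have hup : k ≤ p + 1 := by
    have h1 : Nat.card f₀.range ∣ Nat.card (Equiv.Perm (Fin (p ^ 2))) :=
      Subgroup.card_subgroup_dvd_card _
    rw [hk, Nat.card_eq_fintype_card, Fintype.card_perm, Fintype.card_fin] at h1
    have h2 := (padicValNat_dvd_iff_le (Nat.factorial_ne_zero _)).mp h1
    rwa [padicValNat_factorial_sq] at h2
  have hkeq : k = p + 1 := by
    rw [hk] at hlow
    have := (Nat.pow_lt_pow_iff_right hp.one_lt).mp hlow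
    omega
  have hcardW : Nat.card f₀.range =
      p ^ (Nat.card (Equiv.Perm (Fin (p ^ 2)))).factorization p := by
    rw [hk, hkeq, Nat.factorization_def _ hp, Nat.card_eq_fintype_card, Fintype.card_perm,
      Fintype.card_fin, padicValNat_factorial_sq]
  exact ⟨Sylow.ofCard f₀.range hcardW, f₀.rangeRestrict, f₀.rangeRestrict_surjective⟩

end Cfsg.Agent.S1952
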