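import Cfsg.Statements.S3209
import Cfsg.Agent.Lib.Helper53.SL2Invol
import Cfsg.Agent.Lib.Helper53.PGroupAux

set_option autoImplicit false
open Cfsg

namespace Cfsg.Agent.S3209

open Cfsg.Agent.Lib.Helper53

/-- Every element of the join of two elementwise commuting subgroups is a product. -/
theorem mem_sup_of_commute {G : Type*} [Group G] (L₁ L₂ : Subgroup G)
    (hc : ∀ x ∈ L₁, ∀ y ∈ L₂, x * y = y * x) {y : G} (hy : y ∈ L₁ ⊔ L₂) :
    ∃ a ∈ L₁, ∃ b ∈ L₂, y = a * b := by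
  let P : Subgroup G :=
    { carrier := {y | ∃ a ∈ L₁, ∃ b ∈ L₂, y = a * b}
      one_mem' := ⟨1, L₁.one_mem, 1, L₂.one_mem, by simp⟩
      mul_mem' := by
        rintro _ _ ⟨a, ha, b, hb, rfl⟩ ⟨a', ha', b', hb', rfl⟩
        refine ⟨a * a', L₁.mul_mem ha ha', b * b', L₂.mul_mem hb hb', ?_⟩
        have := hc a' ha' b hb
        calc a * b * (a' * b') = a * (b * a') * b' := by group
          _ = a * (a' * b) * b' := by rw [this]
          _ = a * a' * (b * b') := by group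
      inv_mem' := by
        rintro _ ⟨a, ha, b, hb, rfl⟩
        refine ⟨a⁻¹, L₁.inv_mem ha, b⁻¹, L₂.inv_mem hb, ?_⟩
        have := hc a ha b hb
        rw [this, mul_inv_rev] }
  have h1 : L₁ ≤ P := fun a ha => ⟨a, ha, 1, L₂.one_mem, by simp⟩
  have h2 : L₂ ≤ P := fun b hb => ⟨1, L₁.one_mem, b, hb, by simp⟩
  exact (sup_le h1 h2) hy

/-- The facts about a subgroup isomorphic to `SL₂(F)` with a given involution. -/
theorem key {G : Type*} [Group G] {F : Type*} [Field F] [Fintype F] (hF : Odd (Fintype.card F))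
    (L : Subgroup G) (e : ↥L ≃* Matrix.SpecialLinearGroup (Fin 2) F) (j : G) (hjL : j ∈ L)
    (hj_sq : j * j = 1) (hj_ne : j ≠ 1) :
    (∀ z ∈ L, z * z = 1 → z = 1 ∨ z = j) ∧
    (∃ t ∈ L, t * t = j ∧ ∀ z ∈ L, z * z = j → ∃ h ∈ L, h * t * h⁻¹ = z) := by
  have hej : e ⟨j, hjL⟩ = -1 := by
    have h1 : e ⟨j, hjL⟩ * e ⟨j, hjL⟩ = 1 := by
      rw [← map_mul]
      have : (⟨j, hjL⟩ : ↥L) * ⟨j, hjL⟩ = 1 := Subtype.ext hj_sq
      rw [this, map_one]
    rcases sl2_sq_eq_one hF _ h1 with h | h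
    · exfalso
      have : (⟨j, hjL⟩ : ↥L) = 1 := e.injective (by rw [h, map_one])
      exact hj_ne (congrArg Subtype.val this)
    · exact h
  refine ⟨?_, ?_⟩
  · intro z hz hzz
    have h1 : e ⟨z, hz⟩ * e ⟨z, hz⟩ = 1 := by
      rw [← map_mul]
      have : (⟨z, hz⟩ : ↥L) * ⟨z, hz⟩ = 1 := Subtype.ext hzz
      rw [this, map_one]
    rcases sl2_sq_eq_one hF _ h1 with h | h
    · left
      have : (⟨z, hz⟩ : ↥L) = 1 := e.injective (by rw [h, map_one])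
      exact congrArg Subtype.val this
    · right
      have : (⟨z, hz⟩ : ↥L) = ⟨j, hjL⟩ := e.injective (by rw [h, hej])
      exact congrArg Subtype.val this
  · refine ⟨(e.symm (sl2w F) : ↥L), (e.symm (sl2w F)).2, ?_, ?_⟩
    · have : e.symm (sl2w F) * e.symm (sl2w F) = ⟨j, hjL⟩ := by
        rw [← map_mul, sl2w_sq, ← hej, MulEquiv.symm_apply_apply]
      exact congrArg Subtype.val this
    · intro z hz hzz
      have h1 : e ⟨z, hz⟩ * e ⟨z, hz⟩ = -1 := by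
        rw [← map_mul]
        have : (⟨z, hz⟩ : ↥L) * ⟨z, hz⟩ = ⟨j, hjL⟩ := Subtype.ext hzz
        rw [this, hej]
      obtain ⟨g, hg⟩ := sl2_sq_eq_neg_one hF _ h1
      refine ⟨(e.symm g : ↥L), (e.symm g).2, ?_⟩
      have : e.symm g * e.symm (sl2w F) * (e.symm g)⁻¹ = ⟨z, hz⟩ := by
        rw [← map_inv, ← map_mul, ← map_mul, hg, MulEquiv.symm_apply_apply]
      exact congrArg Subtype.val this

/-- Let L₁ ≅ SL₂(q₁) and L₂ ≅ SL₂(q₂), q₁ and q₂ odd, be elementwise-commuting subgroups of a finite group meeting in ⟨j⟩ for an involution j. Then L₁L₂ has exactly two conjugacy classes of involutions: the central involution j, and one further class (there is an involution x ≠ j in L₁L₂, and every involution of L₁L₂ other than j is conjugate to x by an element of L₁L₂). -/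
theorem result {G : Type*} [Group G] [Finite G]
    {F₁ : Type*} [Field F₁] [Fintype F₁] {F₂ : Type*} [Field F₂] [Fintype F₂]
    (hF₁ : Odd (Fintype.card F₁)) (hF₂ : Odd (Fintype.card F₂)) (L₁ L₂ : Subgroup G)
    (e₁ : ↥L₁ ≃* Matrix.SpecialLinearGroup (Fin 2) F₁) (e₂ : ↥L₂ ≃* Matrix.SpecialLinearGroup (Fin 2) F₂)
    (hc : ∀ x ∈ L₁, ∀ y ∈ L₂, x * y = y * x) (j : G) (hj : orderOf j = 2) (hm : L₁ ⊓ L₂ = Subgroup.zpowers j) :
    ∃ x ∈ L₁ ⊔ L₂, orderOf x = 2 ∧ x ≠ j ∧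
      ∀ y ∈ L₁ ⊔ L₂, orderOf y = 2 → y = j ∨ ∃ g ∈ L₁ ⊔ L₂, g * x * g⁻¹ = y := by
  classical
  have hjmem : j ∈ L₁ ⊓ L₂ := by rw [hm]; exact Subgroup.mem_zpowers j
  have hj1 : j ∈ L₁ := hjmem.1
  have hj2 : j ∈ L₂ := hjmem.2
  have hj_sq : j * j = 1 := by
    have := pow_orderOf_eq_one j
    rw [hj, pow_two] at this; exact this
  have hj_ne : j ≠ 1 := by
    intro h; rw [h, orderOf_one] at hj; norm_num at hj
  have hmeet : ∀ z, z ∈ L₁ → z ∈ L₂ → z = 1 ∨ z = j := by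
    intro z h1 h2
    have : z ∈ Subgroup.zpowers j := by rw [← hm]; exact ⟨h1, h2⟩
    exact mem_zpowers_of_orderOf_two j hj z this
  obtain ⟨hA1, t₁, ht1, ht1sq, hB1⟩ := key hF₁ L₁ e₁ j hj1 hj_sq hj_ne
  obtain ⟨hA2, t₂, ht2, ht2sq, hB2⟩ := key hF₂ L₂ e₂ j hj2 hj_sq hj_ne
  have ht1not : t₁ ∉ L₂ := by
    intro h
    rcases hmeet t₁ ht1 h with h' | h'
    · rw [h', one_mul] at ht1sq; exact hj_ne ht1sq.symm
    · rw [h', hj_sq] at ht1sq; exact hj_ne ht1sq.symm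
  have hcomm : t₁ * t₂ = t₂ * t₁ := hc t₁ ht1 t₂ ht2
  have hxsq : (t₁ * t₂) * (t₁ * t₂) = 1 := by
    calc (t₁ * t₂) * (t₁ * t₂) = t₁ * (t₂ * t₁) * t₂ := by group
      _ = t₁ * (t₁ * t₂) * t₂ := by rw [hcomm]
      _ = (t₁ * t₁) * (t₂ * t₂) := by group
      _ = 1 := by rw [ht1sq, ht2sq, hj_sq]
  have hx1 : t₁ * t₂ ≠ 1 := by
    intro h
    apply ht1not
    have : t₁ = t₂⁻¹ := eq_inv_of_mul_eq_one_left h
    rw [this]; exact L₂.inv_mem ht2
  have hxj : t₁ * t₂ ≠ j := by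
    intro h
    apply ht1not
    have : t₁ = j * t₂⁻¹ := by rw [← h]; group
    rw [this]; exact L₂.mul_mem hj2 (L₂.inv_mem ht2)
  refine ⟨t₁ * t₂, Subgroup.mul_mem _ (Subgroup.mem_sup_left ht1) (Subgroup.mem_sup_right ht2),
    ?_, hxj, ?_⟩
  · have : Fact (Nat.Prime 2) := ⟨Nat.prime_two⟩
    exact orderOf_eq_prime (by rw [pow_two]; exact hxsq) hx1
  · intro y hy hy2
    obtain ⟨a, ha, b, hb, rfl⟩ := mem_sup_of_commute L₁ L₂ hc hy
    have hab : a * b = b * a := hc a ha b hb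
    have hysq : (a * a) * (b * b) = 1 := by
      have h1 : (a * b) * (a * b) = 1 := by
        have := pow_orderOf_eq_one (a * b)
        rw [hy2, pow_two] at this; exact this
      calc (a * a) * (b * b) = a * (a * b) * b := by group
        _ = a * (b * a) * b := by rw [hab]
        _ = (a * b) * (a * b) := by group
        _ = 1 := h1
    have hy1 : a * b ≠ 1 := by
      intro h; rw [h, orderOf_one] at hy2; norm_num at hy2
    have haa2 : a * a ∈ L₂ := by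
      have : a * a = (b * b)⁻¹ := eq_inv_of_mul_eq_one_left hysq
      rw [this]; exact L₂.inv_mem (L₂.mul_mem hb hb)
    rcases hmeet (a * a) (L₁.mul_mem ha ha) haa2 with haa | haa
    · left
      have hbb : b * b = 1 := by rw [haa, one_mul] at hysq; exact hysq
      rcases hA1 a ha haa with h1 | h1 <;> rcases hA2 b hb hbb with h2 | h2
      · exfalso; apply hy1; rw [h1, h2, one_mul]
      · rw [h1, h2, one_mul]
      · rw [h1, h2, mul_one]
      · exfalso; apply hy1; rw [h1, h2, hj_sq]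
    · right
      have hbb : b * b = j := by
        rw [haa] at hysq
        have : b * b = j⁻¹ := eq_inv_of_mul_eq_one_right hysq
        rw [this]
        exact inv_eq_of_mul_eq_one_left hj_sq
      obtain ⟨h₁, hh1, hh1'⟩ := hB1 a ha haa
      obtain ⟨h₂, hh2, hh2'⟩ := hB2 b hb hbb
      refine ⟨h₁ * h₂, Subgroup.mul_mem _ (Subgroup.mem_sup_left hh1) (Subgroup.mem_sup_right hh2), ?_⟩
      have e1 : h₂ * t₁ = t₁ * h₂ := (hc t₁ ht1 h₂ hh2).symm
      have e2 : (h₂ * t₂ * h₂⁻¹) * h₁⁻¹ = h₁⁻¹ * (h₂ * t₂ * h₂⁻¹) :=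
        (hc h₁⁻¹ (L₁.inv_mem hh1) _ (L₂.mul_mem (L₂.mul_mem hh2 ht2) (L₂.inv_mem hh2))).symm
      calc (h₁ * h₂) * (t₁ * t₂) * (h₁ * h₂)⁻¹ = h₁ * (h₂ * t₁) * t₂ * h₂⁻¹ * h₁⁻¹ := by group
        _ = h₁ * (t₁ * h₂) * t₂ * h₂⁻¹ * h₁⁻¹ := by rw [e1]
        _ = h₁ * t₁ * ((h₂ * t₂ * h₂⁻¹) * h₁⁻¹) := by group
        _ = h₁ * t₁ * (h₁⁻¹ * (h₂ * t₂ * h₂⁻¹)) := by rw [e2]
        _ = (h₁ * t₁ * h₁⁻¹) * (h₂ * t₂ * h₂⁻¹) := by group
        _ = a * b := by rw [hh1', hh2']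

end Cfsg.Agent.S3209
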