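import Cfsg.Statements.S0768
import Cfsg.Agent.Lib.Helper13.SympTrans
import Mathlib

set_option autoImplicit false
open scoped LinearAlgebra.Projectivization
open Cfsg

namespace Cfsg.Agent.S0768

open Matrix Cfsg.Agent.Lib.Helper13
open scoped Pointwise

variable {F : Type*} [Field F] (m : ℕ)

/-- a symplectic matrix as an element of `spGL` -/
def toSpGL (A : Matrix.symplecticGroup (Fin m) F) : ↥(Cfsg.spGL m F) :=
  ⟨⟨(A : Matrix (Fin m ⊕ Fin m) (Fin m ⊕ Fin m) F),
    ((A⁻¹ : Matrix.symplecticGroup (Fin m) F) : Matrix (Fin m ⊕ Fin m) (Fin m ⊕ Fin m) F),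
    by rw [← Submonoid.coe_mul, mul_inv_cancel]; rfl,
    by rw [← Submonoid.coe_mul, inv_mul_cancel]; rfl⟩,
    fun u v => preserves_of_mem_symplectic m _ A.2 u v⟩

theorem toSpGL_smul (A : Matrix.symplecticGroup (Fin m) F) (v : Fin m ⊕ Fin m → F) (hv : v ≠ 0)
    (hv' : (A : Matrix (Fin m ⊕ Fin m) (Fin m ⊕ Fin m) F) *ᵥ v ≠ 0) :
    toSpGL m A • Projectivization.mk F v hv =
      Projectivization.mk F ((A : Matrix (Fin m ⊕ Fin m) (Fin m ⊕ Fin m) F) *ᵥ v) hv' := by
  rw [Subgroup.smul_def, Projectivization.smul_mk]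
  rfl

theorem mk_smul_eq (a : F) (_ha : a ≠ 0) (v : Fin m ⊕ Fin m → F) (hv : v ≠ 0) (hv' : a • v ≠ 0) :
    Projectivization.mk F (a • v) hv' = Projectivization.mk F v hv := by
  rw [Projectivization.mk_eq_mk_iff']
  exact ⟨a, rfl⟩

/-- a vector on which two nonzero functionals are both nonzero -/
theorem exists_both_ne_zero (u w : Fin m ⊕ Fin m → F) (hu : u ≠ 0) (hw : w ≠ 0) :
    ∃ x, Cfsg.sympForm m F u x ≠ 0 ∧ Cfsg.sympForm m F x w ≠ 0 := by
  obtain ⟨a, ha⟩ := exists_sympForm_ne_zero m u hu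
  obtain ⟨b, hb⟩ := exists_sympForm_ne_zero m w hw
  by_cases ha' : Cfsg.sympForm m F w a = 0
  · by_cases hb' : Cfsg.sympForm m F u b = 0
    · refine ⟨a + b, ?_, ?_⟩
      · rw [sympForm_add_right, hb', add_zero]; exact ha
      · rw [sympForm_swap, sympForm_add_right, ha', zero_add]
        exact neg_ne_zero.mpr hb
    · refine ⟨b, hb', ?_⟩
      rw [sympForm_swap]; exact neg_ne_zero.mpr hb
  · refine ⟨a, ha, ?_⟩
    rw [sympForm_swap]; exact neg_ne_zero.mpr ha'

theorem eq_zero_of_sympForm_eq_zero (u : Fin m ⊕ Fin m → F)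
    (h : ∀ x, Cfsg.sympForm m F u x = 0) : u = 0 := by
  by_contra hu
  obtain ⟨a, ha⟩ := exists_sympForm_ne_zero m u hu
  exact ha (h a)

/-- for non-proportional `u`, `v` there is `x` orthogonal to `v` but not to `u` -/
theorem exists_orth_not_orth (u v : Fin m ⊕ Fin m → F) (hv : v ≠ 0)
    (hne : ∀ a : F, a • v ≠ u) :
    ∃ x, Cfsg.sympForm m F v x = 0 ∧ Cfsg.sympForm m F u x ≠ 0 := by
  by_contra hcon
  push Not at hcon
  obtain ⟨y, hy⟩ := exists_sympForm_ne_zero m v hv
  set lam := Cfsg.sympForm m F u y / Cfsg.sympForm m F v y with hlam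
  apply hne lam
  symm
  rw [← sub_eq_zero]
  apply eq_zero_of_sympForm_eq_zero
  intro x
  have h1 : Cfsg.sympForm m F v (x - (Cfsg.sympForm m F v x / Cfsg.sympForm m F v y) • y) = 0 := by
    rw [sympForm_sub_right, sympForm_smul_right, div_mul_cancel₀ _ hy, sub_self]
  have h2 := hcon _ h1
  rw [sympForm_sub_right, sympForm_smul_right, sub_eq_zero] at h2
  rw [sympForm_sub_left, sympForm_smul_left, h2, hlam]
  field_simp
  ring

section blocks

variable {m}
variable {B : Set (ℙ F (Fin m ⊕ Fin m → F))} (hB : MulAction.IsBlock ↥(Cfsg.spGL m F) B)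

include hB

/-- if a symplectic matrix fixes a point of the block, it maps the block into itself -/
theorem mem_of_fix (A : Matrix.symplecticGroup (Fin m) F) (u v : Fin m ⊕ Fin m → F)
    (hu : u ≠ 0) (hv : v ≠ 0) (huB : Projectivization.mk F u hu ∈ B)
    (hvB : Projectivization.mk F v hv ∈ B)
    (hAu : ∃ a : F, a ≠ 0 ∧ (A : Matrix (Fin m ⊕ Fin m) (Fin m ⊕ Fin m) F) *ᵥ u = a • u)
    (hAv : (A : Matrix (Fin m ⊕ Fin m) (Fin m ⊕ Fin m) F) *ᵥ v ≠ 0) :
    Projectivization.mk F ((A : Matrix (Fin m ⊕ Fin m) (Fin m ⊕ Fin m) F) *ᵥ v) hAv ∈ B := by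
  obtain ⟨a, ha, hAu⟩ := hAu
  have hAu0 : (A : Matrix (Fin m ⊕ Fin m) (Fin m ⊕ Fin m) F) *ᵥ u ≠ 0 := by
    rw [hAu]; exact smul_ne_zero ha hu
  have h1 : toSpGL m A • Projectivization.mk F u hu ∈ B := by
    rw [toSpGL_smul m A u hu hAu0]
    have : Projectivization.mk F ((A : Matrix (Fin m ⊕ Fin m) (Fin m ⊕ Fin m) F) *ᵥ u) hAu0
        = Projectivization.mk F u hu := by
      rw [Projectivization.mk_eq_mk_iff']
      exact ⟨a, hAu.symm⟩
    rw [this]; exact huB
  have h2 : toSpGL m A • B = B := hB.smul_eq_of_mem huB h1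
  rw [← toSpGL_smul m A v hv hAv, ← h2]
  exact Set.smul_mem_smul_set hvB

/-- K1 -/
theorem mem_of_not_orth (u v w : Fin m ⊕ Fin m → F)
    (hu : u ≠ 0) (hv : v ≠ 0) (hw : w ≠ 0) (huB : Projectivization.mk F u hu ∈ B)
    (hvB : Projectivization.mk F v hv ∈ B)
    (huv : Cfsg.sympForm m F u v ≠ 0) (huw : Cfsg.sympForm m F u w ≠ 0) :
    Projectivization.mk F w hw ∈ B := by
  set v' := (Cfsg.sympForm m F u v)⁻¹ • v with hv'
  set w' := (Cfsg.sympForm m F u w)⁻¹ • w with hw'
  have h1 : Cfsg.sympForm m F u v' = 1 := by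
    rw [hv', sympForm_smul_right, inv_mul_cancel₀ huv]
  have h2 : Cfsg.sympForm m F u w' = 1 := by
    rw [hw', sympForm_smul_right, inv_mul_cancel₀ huw]
  obtain ⟨A, -, hAu, hAv⟩ := exists_transv_fix m u v' w' h1 h2
  have hv'0 : v' ≠ 0 := smul_ne_zero (inv_ne_zero huv) hv
  have hw'0 : w' ≠ 0 := smul_ne_zero (inv_ne_zero huw) hw
  have hv'B : Projectivization.mk F v' hv'0 ∈ B := by
    rw [mk_smul_eq m _ (inv_ne_zero huv) v hv]; exact hvB
  have hAv0 : (A : Matrix (Fin m ⊕ Fin m) (Fin m ⊕ Fin m) F) *ᵥ v' ≠ 0 := by rw [hAv]; exact hw'0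
  have := mem_of_fix hB A u v' hu hv'0 huB hv'B ⟨1, one_ne_zero, by rw [hAu, one_smul]⟩ hAv0
  have e : Projectivization.mk F ((A : Matrix (Fin m ⊕ Fin m) (Fin m ⊕ Fin m) F) *ᵥ v') hAv0
      = Projectivization.mk F w hw := by
    rw [Projectivization.mk_eq_mk_iff']
    exact ⟨(Cfsg.sympForm m F u w)⁻¹, by rw [hAv]⟩
  rw [← e]; exact this

/-- K2 -/
theorem eq_univ_of_not_orth (u v : Fin m ⊕ Fin m → F)
    (hu : u ≠ 0) (hv : v ≠ 0) (huB : Projectivization.mk F u hu ∈ B)
    (hvB : Projectivization.mk F v hv ∈ B)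
    (huv : Cfsg.sympForm m F u v ≠ 0) : B = Set.univ := by
  rw [Set.eq_univ_iff_forall]
  intro P
  induction P using Projectivization.ind with
  | h w hw =>
    by_cases huw : Cfsg.sympForm m F u w = 0
    · obtain ⟨x, hx1, hx2⟩ := exists_both_ne_zero m u w hu hw
      have hx0 : x ≠ 0 := by
        rintro rfl
        exact hx1 (sympForm_zero_right m u)
      have hxB := mem_of_not_orth hB u v x hu hv hx0 huB hvB huv hx1
      have hxu : Cfsg.sympForm m F x u ≠ 0 := by
        rw [sympForm_swap]; exact neg_ne_zero.2 hx1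
      exact mem_of_not_orth hB x u w hx0 hu hw hxB huB hxu hx2
    · exact mem_of_not_orth hB u v w hu hv hw huB hvB huv huw

/-- K3 -/
theorem eq_univ_of_two (u v : Fin m ⊕ Fin m → F)
    (hu : u ≠ 0) (hv : v ≠ 0) (huB : Projectivization.mk F u hu ∈ B)
    (hvB : Projectivization.mk F v hv ∈ B)
    (hne : Projectivization.mk F u hu ≠ Projectivization.mk F v hv) : B = Set.univ := by
  by_cases huv : Cfsg.sympForm m F u v = 0
  · have hne' : ∀ a : F, a • v ≠ u := by
      intro a ha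
      apply hne
      rw [Projectivization.mk_eq_mk_iff']
      exact ⟨a, ha⟩
    obtain ⟨x, hx1, hx2⟩ := exists_orth_not_orth m u v hv hne'
    -- the transvection along x fixes v and moves u
    set A := sympTransvElt m x (1 : F) with hA
    have hAv : (A : Matrix (Fin m ⊕ Fin m) (Fin m ⊕ Fin m) F) *ᵥ v = v := by
      rw [hA, coe_sympTransvElt, sympTransvection_mulVec, hx1, mul_zero, zero_smul, add_zero]
    have hAu : (A : Matrix (Fin m ⊕ Fin m) (Fin m ⊕ Fin m) F) *ᵥ u
        = u + Cfsg.sympForm m F u x • x := by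
      rw [hA, coe_sympTransvElt, sympTransvection_mulVec, one_mul]
    have hform : Cfsg.sympForm m F u (u + Cfsg.sympForm m F u x • x) ≠ 0 := by
      rw [sympForm_add_right, sympForm_self, zero_add, sympForm_smul_right]
      exact mul_ne_zero hx2 hx2
    have hAu0 : (A : Matrix (Fin m ⊕ Fin m) (Fin m ⊕ Fin m) F) *ᵥ u ≠ 0 := by
      rw [hAu]
      intro h
      rw [h, sympForm_zero_right] at hform
      exact hform rfl
    have hmem := mem_of_fix hB A v u hv hu hvB huB ⟨1, one_ne_zero, by rw [hAv, one_smul]⟩ hAu0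
    refine eq_univ_of_not_orth hB u _ hu hAu0 huB hmem ?_
    rw [hAu]; exact hform
  · exact eq_univ_of_not_orth hB u v hu hv huB hvB huv

end blocks

theorem result {F : Type*} [Field F] [Finite F] (m : ℕ) (hm : 1 ≤ m) : MulAction.IsPreprimitive ↥(Cfsg.spGL m F) (ℙ F (Fin m ⊕ Fin m → F)) := by
  have : MulAction.IsPretransitive ↥(Cfsg.spGL m F) (ℙ F (Fin m ⊕ Fin m → F)) := by
    constructor
    intro P Q
    induction P using Projectivization.ind with
    | h u hu =>
      induction Q using Projectivization.ind with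
      | h v hv =>
        obtain ⟨A, -, hA⟩ := exists_transv_of_ne_zero m u v hu hv
        refine ⟨toSpGL m A, ?_⟩
        rw [toSpGL_smul m A u hu (by rw [hA]; exact hv)]
        congr 1
  constructor
  intro B hB
  by_cases hsub : B.Subsingleton
  · exact Or.inl hsub
  · right
    rw [Set.not_subsingleton_iff] at hsub
    obtain ⟨P, hP, Q, hQ, hPQ⟩ := hsub
    induction P using Projectivization.ind with
    | h u hu =>
      induction Q using Projectivization.ind with
      | h v hv =>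
        exact eq_univ_of_two hB u v hu hv hP hQ hPQ

end Cfsg.Agent.S0768
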