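import Cfsg.Statements.S0270
import Cfsg.Agent.S0768
import Cfsg.Agent.Lib.Helper8.SpPerfect
import Mathlib

set_option autoImplicit false
open scoped LinearAlgebra.Projectivization
open Cfsg

namespace Cfsg.Agent.S0270

open Matrix Cfsg.Agent.Lib.Helper13 Cfsg.Agent.Lib.Helper8 Cfsg.Agent.S0768
open scoped Pointwise

variable {F : Type*} [Field F] (m : ℕ)

/-- `toSpGL` as a monoid hom -/
def toSpGLHom : Matrix.symplecticGroup (Fin m) F →* ↥(Cfsg.spGL m F) where
  toFun := toSpGL m
  map_one' := by
    apply Subtype.ext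
    apply Units.ext
    rfl
  map_mul' := by
    intro A B
    apply Subtype.ext
    apply Units.ext
    rfl

theorem toSpGLHom_surjective : Function.Surjective (toSpGLHom (F := F) m) := by
  rintro ⟨g, hg⟩
  have hmem : ((g : GL (Fin m ⊕ Fin m) F) : Matrix (Fin m ⊕ Fin m) (Fin m ⊕ Fin m) F)
      ∈ Matrix.symplecticGroup (Fin m) F :=
    mem_symplectic_of_preserves m _ (fun u v => hg u v)
  refine ⟨⟨_, hmem⟩, ?_⟩
  apply Subtype.ext
  apply Units.ext
  rfl

/-- the action of the symplectic group on the projective space -/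
@[reducible] def spAction : MulAction (Matrix.symplecticGroup (Fin m) F) (ℙ F (Fin m ⊕ Fin m → F)) :=
  MulAction.compHom _ (toSpGLHom m)

attribute [local instance] spAction

theorem smul_mk (A : Matrix.symplecticGroup (Fin m) F) (v : Fin m ⊕ Fin m → F) (hv : v ≠ 0)
    (hv' : (A : Matrix (Fin m ⊕ Fin m) (Fin m ⊕ Fin m) F) *ᵥ v ≠ 0) :
    A • Projectivization.mk F v hv =
      Projectivization.mk F ((A : Matrix (Fin m ⊕ Fin m) (Fin m ⊕ Fin m) F) *ᵥ v) hv' :=
  toSpGL_smul m A v hv hv'

theorem isPreprimitive [Finite F] (hm : 1 ≤ m) :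
    MulAction.IsPreprimitive (Matrix.symplecticGroup (Fin m) F) (ℙ F (Fin m ⊕ Fin m → F)) := by
  have h := Cfsg.Agent.S0768.result (F := F) m hm
  let f : (ℙ F (Fin m ⊕ Fin m → F)) →ₑ[toSpGLHom (F := F) m] (ℙ F (Fin m ⊕ Fin m → F)) :=
    { toFun := id
      map_smul' := fun _ _ => rfl }
  exact (MulAction.isPreprimitive_congr (f := f) (toSpGLHom_surjective m) Function.bijective_id).2 h

/-- the root subgroup attached to a vector -/
def rootSub (v : Fin m ⊕ Fin m → F) : Subgroup (Matrix.symplecticGroup (Fin m) F) where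
  carrier := {g | ∃ c : F, g = sympTransvElt m v c}
  mul_mem' := by
    rintro _ _ ⟨c, rfl⟩ ⟨d, rfl⟩
    exact ⟨c + d, sympTransvElt_mul m v c d⟩
  one_mem' := ⟨0, (sympTransvElt_zero m v).symm⟩
  inv_mem' := by
    rintro _ ⟨c, rfl⟩
    refine ⟨-c, ?_⟩
    rw [inv_eq_iff_mul_eq_one, sympTransvElt_mul, add_neg_cancel, sympTransvElt_zero]

theorem mem_rootSub (v : Fin m ⊕ Fin m → F) (g : Matrix.symplecticGroup (Fin m) F) :
    g ∈ rootSub m v ↔ ∃ c : F, g = sympTransvElt m v c := Iff.rfl

theorem rootSub_smul (a : F) (ha : a ≠ 0) (v : Fin m ⊕ Fin m → F) :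
    rootSub m (a • v) = rootSub m v := by
  ext g
  rw [mem_rootSub, mem_rootSub]
  constructor
  · rintro ⟨c, rfl⟩
    exact ⟨a ^ 2 * c, sympTransvElt_smul m a v c⟩
  · rintro ⟨c, rfl⟩
    refine ⟨(a ^ 2)⁻¹ * c, ?_⟩
    rw [sympTransvElt_smul, ← mul_assoc, mul_inv_cancel₀ (pow_ne_zero 2 ha), one_mul]

theorem rootSub_conj (g : Matrix.symplecticGroup (Fin m) F) (v : Fin m ⊕ Fin m → F) :
    rootSub m ((g : Matrix (Fin m ⊕ Fin m) (Fin m ⊕ Fin m) F) *ᵥ v) = MulAut.conj g • rootSub m v := by
  ext h
  rw [Subgroup.mem_pointwise_smul_iff_inv_smul_mem, mem_rootSub, mem_rootSub]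
  simp only [MulAut.smul_def, MulAut.inv_apply, MulAut.conj_symm_apply]
  constructor
  · rintro ⟨c, rfl⟩
    refine ⟨c, ?_⟩
    rw [← conj_sympTransvElt]; group
  · rintro ⟨c, hc⟩
    refine ⟨c, ?_⟩
    rw [← conj_sympTransvElt, ← hc]; group

theorem rootSub_comm (v : Fin m ⊕ Fin m → F) : IsMulCommutative (rootSub m v) := by
  constructor
  constructor
  rintro ⟨_, ⟨c, rfl⟩⟩ ⟨_, ⟨d, rfl⟩⟩
  apply Subtype.ext
  show sympTransvElt m v c * sympTransvElt m v d = sympTransvElt m v d * sympTransvElt m v c
  rw [sympTransvElt_mul, sympTransvElt_mul, add_comm]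

/-- the Iwasawa structure -/
noncomputable def iwasawa : MulAction.IwasawaStructure (Matrix.symplecticGroup (Fin m) F)
    (ℙ F (Fin m ⊕ Fin m → F)) where
  T := fun x => rootSub m x.rep
  is_comm := fun x => rootSub_comm m x.rep
  is_conj := by
    intro g x
    rw [← rootSub_conj]
    have hx : x = Projectivization.mk F x.rep x.rep_nonzero := (Projectivization.mk_rep x).symm
    have hne : (g : Matrix (Fin m ⊕ Fin m) (Fin m ⊕ Fin m) F) *ᵥ x.rep ≠ 0 :=
      mulVec_ne_zero_of_symp m g _ x.rep_nonzero
    have h1 : g • x = Projectivization.mk F _ hne := by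
      conv_lhs => rw [hx]
      exact smul_mk m g _ _ hne
    have h2 := Projectivization.mk_rep (g • x)
    rw [h1] at h2
    rw [Projectivization.mk_eq_mk_iff'] at h2
    obtain ⟨a, ha⟩ := h2
    have ha0 : a ≠ 0 := by
      rintro rfl
      rw [zero_smul] at ha
      exact (Projectivization.rep_nonzero _) ha.symm
    rw [h1, ← ha, rootSub_smul m a ha0]
  is_generator := by
    rw [eq_top_iff, ← sympTransvSubgroup_eq_top m]
    unfold sympTransvSubgroup
    rw [Subgroup.closure_le]
    rintro B ⟨w, c, hB⟩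
    have hB' : B = sympTransvElt m w c := Subtype.ext hB
    by_cases hw : w = 0
    · rw [hB', hw, sympTransvElt_zero_vec]; exact Subgroup.one_mem _
    · apply Subgroup.mem_iSup_of_mem (Projectivization.mk F w hw)
      have h2 := Projectivization.mk_rep (Projectivization.mk F w hw)
      rw [Projectivization.mk_eq_mk_iff'] at h2
      obtain ⟨a, ha⟩ := h2
      have ha0 : a ≠ 0 := by
        rintro rfl
        rw [zero_smul] at ha
        exact (Projectivization.rep_nonzero _) ha.symm
      show B ∈ rootSub m (Projectivization.mk F w hw).rep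
      rw [← ha, rootSub_smul m a ha0, hB']
      exact ⟨c, rfl⟩

/-- an element fixing all points commutes with all transvections -/
theorem commute_transv_of_fix (n : Matrix.symplecticGroup (Fin m) F)
    (hn : ∀ x : ℙ F (Fin m ⊕ Fin m → F), n • x = x) (w : Fin m ⊕ Fin m → F) (c : F) :
    n * sympTransvElt m w c * n⁻¹ = sympTransvElt m w c := by
  by_cases hw : w = 0
  · rw [hw, sympTransvElt_zero_vec]; group
  set N : Matrix (Fin m ⊕ Fin m) (Fin m ⊕ Fin m) F := (n : Matrix (Fin m ⊕ Fin m) (Fin m ⊕ Fin m) F) with hN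
  have hfix : ∀ v : Fin m ⊕ Fin m → F, v ≠ 0 → ∃ a : F, N *ᵥ v = a • v := by
    intro v hv
    have hne : N *ᵥ v ≠ 0 := mulVec_ne_zero_of_symp m n v hv
    have h1 := hn (Projectivization.mk F v hv)
    rw [smul_mk m n v hv hne, Projectivization.mk_eq_mk_iff'] at h1
    obtain ⟨a, ha⟩ := h1
    exact ⟨a, ha.symm⟩
  obtain ⟨u0, hu0⟩ := exists_sympForm_ne_zero m w hw
  set u := (Cfsg.sympForm m F w u0)⁻¹ • u0 with hu
  have hwu : Cfsg.sympForm m F w u = 1 := by
    rw [hu, sympForm_smul_right, inv_mul_cancel₀ hu0]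
  have hu_ne : u ≠ 0 := by
    rintro h
    rw [h, sympForm_zero_right] at hwu
    exact zero_ne_one hwu
  have hwu_ne : w + u ≠ 0 := by
    intro h
    have : Cfsg.sympForm m F w (w + u) = 1 := by
      rw [sympForm_add_right, sympForm_self, zero_add, hwu]
    rw [h, sympForm_zero_right] at this
    exact zero_ne_one this
  obtain ⟨a, ha⟩ := hfix w hw
  obtain ⟨b, hb⟩ := hfix u hu_ne
  obtain ⟨d, hd⟩ := hfix (w + u) hwu_ne
  have hlin : d • (w + u) = a • w + b • u := by
    rw [← hd, mulVec_add, ha, hb]
  have hda : d = a := by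
    have := congrArg (fun z => Cfsg.sympForm m F z u) hlin
    simp only [sympForm_smul_left, sympForm_add_left, sympForm_self, hwu, mul_zero, add_zero,
      mul_one] at this
    exact this
  have hdb : d = b := by
    have := congrArg (fun z => Cfsg.sympForm m F w z) hlin
    simp only [sympForm_smul_right, sympForm_add_right, sympForm_self, hwu, mul_zero, zero_add,
      mul_one] at this
    exact this
  have hab : a * b = 1 := by
    have := preserves_of_mem_symplectic m N n.2 w u
    rw [ha, hb, sympForm_smul_left, sympForm_smul_right, hwu, mul_one] at this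
    exact this
  have ha2 : a ^ 2 = 1 := by
    rw [sq]
    have : b = a := by rw [← hdb, hda]
    rw [this] at hab
    exact hab
  rw [conj_sympTransvElt, ha, sympTransvElt_smul, ha2, one_mul]

theorem mem_center_of_fix (n : Matrix.symplecticGroup (Fin m) F)
    (hn : ∀ x : ℙ F (Fin m ⊕ Fin m → F), n • x = x) :
    n ∈ Subgroup.center (Matrix.symplecticGroup (Fin m) F) := by
  rw [← Subgroup.centralizer_univ]
  have hle : sympTransvSubgroup F m ≤ Subgroup.centralizer ({n} : Set (Matrix.symplecticGroup (Fin m) F)) := by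
    unfold sympTransvSubgroup
    rw [Subgroup.closure_le]
    rintro B ⟨w, c, hB⟩
    have hB' : B = sympTransvElt m w c := Subtype.ext hB
    rw [hB']
    show _ ∈ Subgroup.centralizer _
    rw [Subgroup.mem_centralizer_iff]
    intro h hh
    rw [Set.mem_singleton_iff] at hh
    subst hh
    have := commute_transv_of_fix m h hn w c
    rw [mul_inv_eq_iff_eq_mul] at this
    exact this
  rw [Subgroup.mem_centralizer_iff]
  intro g _
  have hg : g ∈ Subgroup.centralizer ({n} : Set (Matrix.symplecticGroup (Fin m) F)) := by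
    apply hle
    rw [sympTransvSubgroup_eq_top]; exact Subgroup.mem_top g
  rw [Subgroup.mem_centralizer_iff] at hg
  exact (hg n rfl).symm

theorem result {F : Type*} [Field F] [Fintype F] (m : ℕ) (hm : 2 ≤ m) (h : m = 2 → 3 ≤ Fintype.card F) : IsSimpleGroup (Cfsg.PSp m F) := by
  set G := Matrix.symplecticGroup (Fin m) F with hG
  have hperf : commutator G = ⊤ := by
    apply commutator_symplectic_eq_top
    by_cases h3 : 3 ≤ m
    · exact Or.inl h3
    · right; left
      have : m = 2 := by omega
      exact ⟨this, h this⟩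
  have : MulAction.IsPreprimitive G (ℙ F (Fin m ⊕ Fin m → F)) := isPreprimitive m (by omega)
  -- a normal subgroup is central or everything
  have key : ∀ N : Subgroup G, N.Normal → N ≤ Subgroup.center G ∨ N = ⊤ := by
    intro N hN
    by_cases hfix : MulAction.fixedPoints N (ℙ F (Fin m ⊕ Fin m → F)) = Set.univ
    · left
      intro n hnN
      apply mem_center_of_fix m n
      intro x
      have hx : x ∈ MulAction.fixedPoints N (ℙ F (Fin m ⊕ Fin m → F)) := by rw [hfix]; trivial
      exact hx ⟨n, hnN⟩
    · right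
      have := (iwasawa (F := F) m).commutator_le N hfix
      rw [hperf] at this
      exact top_le_iff.1 this
  -- the center is not everything
  have hcne : Subgroup.center G ≠ ⊤ := by
    intro hc
    have hcomm : commutator G = ⊥ := by
      rw [eq_bot_iff, commutator_def, Subgroup.commutator_le]
      intro a _ b _
      rw [Subgroup.mem_bot, commutatorElement_eq_one_iff_mul_comm]
      have : b ∈ Subgroup.center G := by rw [hc]; exact Subgroup.mem_top b
      exact (Subgroup.mem_center_iff.1 this a)
    rw [hperf] at hcomm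
    -- G is trivial: contradiction with a nontrivial transvection
    let i0 : Fin m := ⟨0, by omega⟩
    have hne : sympTransvElt m (evec (F := F) m i0) 1 ≠ 1 := by
      intro h1
      have h2 := congrArg (fun g : G => (g : Matrix (Fin m ⊕ Fin m) (Fin m ⊕ Fin m) F) *ᵥ
        (Pi.single (Sum.inr i0) 1 : Fin m ⊕ Fin m → F)) h1
      simp only [coe_sympTransvElt, sympTransvection_mulVec, OneMemClass.coe_one, one_mulVec, one_mul] at h2
      have h3 : Cfsg.sympForm m F (Pi.single (Sum.inr i0) 1) (evec (F := F) m i0) = 1 := by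
        rw [sympForm_expand, Finset.sum_eq_single i0]
        · simp [evec]
        · intro j _ hj
          simp [evec, hj]
        · simp
      rw [h3, one_smul] at h2
      have h4 := congrFun h2 (Sum.inl i0)
      simp [evec] at h4
    have : sympTransvElt m (evec (F := F) m i0) 1 ∈ (⊤ : Subgroup G) := Subgroup.mem_top _
    rw [hcomm, Subgroup.mem_bot] at this
    exact hne this
  -- conclude
  have hnt : Nontrivial (G ⧸ Subgroup.center G) := by
    obtain ⟨g, hg⟩ : ∃ g : G, g ∉ Subgroup.center G := by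
      by_contra hcon
      push Not at hcon
      exact hcne (eq_top_iff.2 (fun g _ => hcon g))
    refine ⟨⟨(g : G ⧸ Subgroup.center G), 1, ?_⟩⟩
    intro h1
    exact hg ((QuotientGroup.eq_one_iff g).1 h1)
  show IsSimpleGroup (G ⧸ Subgroup.center G)
  refine @IsSimpleGroup.mk _ _ hnt ?_
  intro H hH
  have hN : (H.comap (QuotientGroup.mk' (Subgroup.center G))).Normal := hH.comap _
  rcases key _ hN with h1 | h1
  · left
    rw [eq_bot_iff]
    intro x hx
    obtain ⟨g, rfl⟩ := QuotientGroup.mk_surjective x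
    have hg : g ∈ H.comap (QuotientGroup.mk' (Subgroup.center G)) := hx
    rw [Subgroup.mem_bot]
    exact (QuotientGroup.eq_one_iff g).2 (h1 hg)
  · right
    rw [eq_top_iff]
    intro x _
    obtain ⟨g, rfl⟩ := QuotientGroup.mk_surjective x
    have hg : g ∈ H.comap (QuotientGroup.mk' (Subgroup.center G)) := by rw [h1]; exact Subgroup.mem_top g
    exact hg

end Cfsg.Agent.S0270
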