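import Cfsg.Statements.S2611
import Cfsg.Agent.Lib.Helper37.LeviPlus

set_option autoImplicit false
open Cfsg
open scoped commutatorElement

namespace Cfsg.Agent.S2611

open Cfsg.Agent.Lib.Helper37 Cfsg.Agent.S2612 Matrix

variable {F : Type*} [Field F] {m : ℕ}

theorem levi_comm_mem (x y : GL (Fin m) F) :
    levi m F ⁅x, y⁆ ∈ Omega F (quadFormPlus m F) := by
  rw [map_commutatorElement]
  exact Subgroup.commutator_mem_commutator (Subgroup.mem_top _) (Subgroup.mem_top _)

/-- the swap trick: `diag(D², D⁻²)` is a commutator -/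
theorem levi_dgl_sq_mem (D : Fin m → Fˣ) :
    levi m F (dgl F (D * D)) ∈ Omega F (quadFormPlus m F) := by
  have key : levi m F (dgl F (D * D))
      = ⁅levi m F (dgl F D), ⟨glHom _ F (flipPerm (fun _ => true)), flip_mem _⟩⁆ := by
    apply Subtype.ext
    rw [← Subgroup.coe_subtype, map_commutatorElement]
    show leviGL m F (dgl F (D * D)) = ⁅leviGL m F (dgl F D), glHom _ F (flipPerm (fun _ => true))⁆
    rw [leviGL_dgl, leviGL_dgl, comm_dgl_glHom]
    congr 1
    funext x
    rcases x with i | i
    · show D i * D i = D i * ((D i)⁻¹)⁻¹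
      rw [inv_inv]
    · show (D i * D i)⁻¹ = (D i)⁻¹ * (D i)⁻¹
      rw [mul_inv]
  rw [key]
  exact Subgroup.commutator_mem_commutator (Subgroup.mem_top _) (Subgroup.mem_top _)


open Matrix.SpecialLinearGroup in
theorem levi_diag2n_mem {i j : Fin m} (hij : i ≠ j) (c : F) (hc : c ≠ 0) :
    levi m F (toGL (diag2n hij c hc)) ∈ Omega F (quadFormPlus m F) := by
  have key : toGL (diag2n hij c hc)
      = ⁅dgl F (Function.update (1 : Fin m → Fˣ) i (Units.mk0 c hc)), glHom _ F (Equiv.swap i j)⁆ := by
    rw [comm_dgl_glHom]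
    apply Units.ext
    rw [coe_GL_coe_matrix, diag2n_coe, dgl_val]
    congr 1
    funext k
    rw [Equiv.symm_swap]
    by_cases hki : k = i
    · subst hki
      simp [Function.update_of_ne hij.symm]
    · by_cases hkj : k = j
      · subst hkj
        simp [hki, Function.update_of_ne hki]
      · simp [hki, hkj, Function.update_of_ne hki, Equiv.swap_apply_of_ne_of_ne hki hkj]
  rw [key]
  exact levi_comm_mem _ _

theorem exists_ne_zero_ne_one [Fintype F] (h : Fintype.card F ≠ 2) : ∃ c : F, c ≠ 0 ∧ c ≠ 1 := by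
  classical
  by_contra hcon
  push Not at hcon
  have h1 : (Finset.univ : Finset F) ⊆ {0, 1} := by
    intro c _
    by_cases hc : c = 0
    · simp [hc]
    · simp [hcon c hc]
  have h2 : Fintype.card F ≤ 2 := le_trans (Finset.card_le_card h1) Finset.card_le_two
  have h3 : 1 < Fintype.card F := Fintype.one_lt_card
  omega

theorem exists_third (hm : 3 ≤ m) (i j : Fin m) : ∃ k : Fin m, i ≠ k ∧ k ≠ j := by
  classical
  by_contra hcon
  push Not at hcon
  have h1 : (Finset.univ : Finset (Fin m)) ⊆ {i, j} := by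
    intro k _
    by_cases hk : i = k
    · simp [hk]
    · simp [hcon k hk]
  have h2 : Fintype.card (Fin m) ≤ 2 := le_trans (Finset.card_le_card h1) Finset.card_le_two
  rw [Fintype.card_fin] at h2
  omega

open Matrix.SpecialLinearGroup in
theorem levi_transvection_mem [Fintype F] (h : Fintype.card F ≠ 2 ∨ m ≠ 2) {i j : Fin m}
    (hij : i ≠ j) (a : F) :
    levi m F (toGL (transvection hij a)) ∈ Omega F (quadFormPlus m F) := by
  by_cases hF : Fintype.card F = 2
  · have hm2 : m ≠ 2 := by tauto
    have hm3 : 3 ≤ m := by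
      have hi := i.2
      have hj := j.2
      have : (i : ℕ) ≠ j := fun h => hij (Fin.ext h)
      omega
    obtain ⟨k, hik, hkj⟩ := exists_third hm3 i j
    have key : toGL (transvection hij a) = ⁅toGL (transvection hik a), toGL (transvection hkj 1)⁆ := by
      rw [← map_commutatorElement, comm_transvection hik hkj hij, mul_one]
    rw [key]
    exact levi_comm_mem _ _
  · obtain ⟨c, hc0, hc1⟩ := exists_ne_zero_ne_one hF
    have hc1' : c - 1 ≠ 0 := sub_ne_zero_of_ne hc1
    have key : toGL (transvection hij a) = ⁅dgl F (Function.update (1 : Fin m → Fˣ) i (Units.mk0 c hc0)),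
        toGL (transvection hij (a / (c - 1)))⁆ := by
      rw [comm_dgl_transvection]
      congr 2
      rw [Units.val_mk0]
      field_simp
    rw [key]
    exact levi_comm_mem _ _


open Matrix.SpecialLinearGroup in
theorem levi_SL_mem [Fintype F] (h : Fintype.card F ≠ 2 ∨ m ≠ 2) (M : SpecialLinearGroup (Fin m) F) :
    levi m F (toGL M) ∈ Omega F (quadFormPlus m F) := by
  rcases Nat.lt_or_ge m 2 with hm | hm
  · have hM : M = 1 := by
      haveI : Subsingleton (Fin m) := by
        rw [Fin.subsingleton_iff_le_one]; omega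
      apply Subtype.ext
      ext i j
      have hij : i = j := Subsingleton.elim _ _
      subst hij
      have hd := M.2
      rw [Matrix.det_eq_elem_of_subsingleton _ i] at hd
      rw [hd]
      simp
    rw [hM, map_one, map_one]
    exact one_mem _
  · haveI : Nontrivial (Fin m) := Fin.nontrivial_iff_two_le.mpr hm
    refine diagonal_transvection_induction'
      (fun M => levi m F (toGL M) ∈ Omega F (quadFormPlus m F)) M ?_ ?_ ?_
    · intro i j hij c hc
      exact levi_diag2n_mem hij c hc
    · intro i j hij a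
      exact levi_transvection_mem h hij a
    · intro A B hA hB
      show levi m F (toGL (A * B)) ∈ _
      rw [map_mul, map_mul]
      exact mul_mem hA hB

theorem det_dgl_mulSingle (i₀ : Fin m) (c : Fˣ) :
    ((dgl F (Pi.mulSingle i₀ c) : GL (Fin m) F) : Matrix (Fin m) (Fin m) F).det = c := by
  rw [dgl_val, Matrix.det_diagonal, Finset.prod_eq_single i₀]
  · simp
  · intro k _ hk
    simp [Pi.mulSingle_apply, hk]
  · intro hk
    exact absurd (Finset.mem_univ _) hk

/-- factor `A` as (element of `SL`) times `diag(det A, 1, …, 1)` -/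
theorem levi_mem_iff [Fintype F] (h : Fintype.card F ≠ 2 ∨ m ≠ 2) (i₀ : Fin m) (A : GL (Fin m) F)
    (δ : Fˣ) (hδ : (A : Matrix (Fin m) (Fin m) F).det = δ) :
    levi m F A ∈ Omega F (quadFormPlus m F) ↔
      levi m F (dgl F (Pi.mulSingle i₀ δ)) ∈ Omega F (quadFormPlus m F) := by
  set E := dgl F (Pi.mulSingle i₀ δ) with hE
  have hdet : ((A * E⁻¹ : GL (Fin m) F) : Matrix (Fin m) (Fin m) F).det = 1 := by
    have h1 : ((A * E⁻¹ : GL (Fin m) F) : Matrix (Fin m) (Fin m) F).det
        * (E : Matrix (Fin m) (Fin m) F).det = (A : Matrix (Fin m) (Fin m) F).det := by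
      rw [← Matrix.det_mul, ← Units.val_mul, inv_mul_cancel_right]
    rw [det_dgl_mulSingle, hδ] at h1
    exact mul_right_cancel₀ δ.ne_zero (by rw [h1, one_mul])
  have hB : SpecialLinearGroup.toGL (⟨_, hdet⟩ : SpecialLinearGroup (Fin m) F) = A * E⁻¹ :=
    Units.ext rfl
  have hmem := levi_SL_mem h (⟨_, hdet⟩ : SpecialLinearGroup (Fin m) F)
  rw [hB] at hmem
  have hA : levi m F A = levi m F (A * E⁻¹) * levi m F E := by
    rw [← map_mul, inv_mul_cancel_right]
  rw [hA]
  exact Subgroup.mul_mem_cancel_left _ hmem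


/-- For the hyperbolic quadratic form Σ x_i y_i on F^(2m) (F finite, m ≥ 1, excluding m = 2 over the field of two elements) and an invertible m × m matrix A, the block-diagonal isometry diag(A, (A⁻¹)ᵀ), which stabilises the two maximal totally singular subspaces x = 0 and y = 0, lies in Ω⁺_2m(F) (the commutator subgroup of the orthogonal group) if and only if det A is a square in F. -/
theorem result {F : Type*} [Field F] [Fintype F] {m : ℕ} (hm : 1 ≤ m) (h : Fintype.card F ≠ 2 ∨ m ≠ 2) (A : GL (Fin m) F) : (∃ g : ↥(Cfsg.isometryGroup F (Cfsg.quadFormPlus m F)), g ∈ Cfsg.Omega F (Cfsg.quadFormPlus m F) ∧ ((g : Matrix.GeneralLinearGroup (Fin m ⊕ Fin m) F) : Matrix (Fin m ⊕ Fin m) (Fin m ⊕ Fin m) F) = Matrix.fromBlocks (A : Matrix (Fin m) (Fin m) F) 0 0 ((A : Matrix (Fin m) (Fin m) F)⁻¹).transpose) ↔ IsSquare (A : Matrix (Fin m) (Fin m) F).det := by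
  classical
  have hL : (∃ g : ↥(Cfsg.isometryGroup F (Cfsg.quadFormPlus m F)),
      g ∈ Cfsg.Omega F (Cfsg.quadFormPlus m F) ∧
      ((g : Matrix.GeneralLinearGroup (Fin m ⊕ Fin m) F) : Matrix (Fin m ⊕ Fin m) (Fin m ⊕ Fin m) F)
        = Matrix.fromBlocks (A : Matrix (Fin m) (Fin m) F) 0 0
          ((A : Matrix (Fin m) (Fin m) F)⁻¹).transpose) ↔
      levi m F A ∈ Omega F (quadFormPlus m F) := by
    constructor
    · rintro ⟨g, hg, hmat⟩
      have hgA : g = levi m F A := by
        apply Subtype.ext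
        apply Units.ext
        rw [hmat, levi_val, leviGL_val, Matrix.coe_units_inv]
      rwa [← hgA]
    · intro hmem
      refine ⟨levi m F A, hmem, ?_⟩
      rw [levi_val, leviGL_val, Matrix.coe_units_inv]
  have hdet0 : (A : Matrix (Fin m) (Fin m) F).det ≠ 0 := by
    have := (Matrix.isUnit_iff_isUnit_det _).mp A.isUnit
    exact this.ne_zero
  set i₀ : Fin m := ⟨0, hm⟩ with hi₀
  rw [hL, levi_mem_iff h i₀ A (Units.mk0 _ hdet0) rfl]
  constructor
  · intro hmem
    by_cases h2 : (2 : F) = 0
    · have hch : ringChar F = 2 := CharP.ringChar_of_prime_eq_zero Nat.prime_two (by exact_mod_cast h2)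
      exact FiniteField.isSquare_of_char_two hch _
    · obtain ⟨hQw, hQu, hmat⟩ := levi_mulSingle_eq_refl h2 i₀ (Units.mk0 _ hdet0)
      have hG : IsGram (Cfsg.quadFormPlus m F) (gramP m F) :=
        ⟨h2, gramP_isSymm m F, gramP_self m F⟩
      have hiff := mem_omega_iff hG (levi m F (dgl F (Pi.mulSingle i₀ (Units.mk0 _ hdet0))))
        [Pi.single (Sum.inl i₀) 1 - (((Units.mk0 _ hdet0)⁻¹ : Fˣ) : F) • Pi.single (Sum.inr i₀) 1,
          Pi.single (Sum.inl i₀) 1 - Pi.single (Sum.inr i₀) 1]
        (by
          intro v hv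
          simp only [List.mem_cons, List.not_mem_nil, or_false] at hv
          rcases hv with rfl | rfl
          · rw [hQw]; exact neg_ne_zero.mpr (Units.ne_zero _)
          · rw [hQu]; exact neg_ne_zero.mpr one_ne_zero)
        (by
          rw [levi_val, hmat]
          simp)
      have hsq := (hiff.mp hmem).2
      simp only [List.map_cons, List.map_nil, List.prod_cons, List.prod_nil, hQw, hQu] at hsq
      have h3 : IsSquare ((A : Matrix (Fin m) (Fin m) F).det)⁻¹ := by
        convert hsq using 1
        simp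
      exact isSquare_inv.mp h3
  · rintro ⟨r, hr⟩
    have hr0 : r ≠ 0 := by
      rintro rfl
      rw [mul_zero] at hr
      exact hdet0 hr
    have hδ : Units.mk0 _ hdet0 = Units.mk0 r hr0 * Units.mk0 r hr0 := by
      apply Units.ext
      simp [hr]
    rw [hδ, Pi.mulSingle_mul]
    exact levi_dgl_sq_mem _

end Cfsg.Agent.S2611
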