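import Cfsg.Statements.S2612
import Cfsg.Agent.S0831
import Cfsg.Agent.Lib.Helper37.TwoRank

set_option autoImplicit false
open Cfsg Module
open scoped commutatorElement
open Cfsg.Agent.Lib.Helper14 Cfsg.Agent.Lib.Helper37

namespace Cfsg.Agent.S2612

variable {F : Type*} [Field F] {m : ℕ}

/-- the image of a submodule under an invertible matrix -/
noncomputable def img (g : GL (Fin m ⊕ Fin m) F) (U : Submodule F (Fin m ⊕ Fin m → F)) :
    Submodule F (Fin m ⊕ Fin m → F) :=
  U.map (Matrix.mulVecLin (g : Matrix (Fin m ⊕ Fin m) (Fin m ⊕ Fin m) F))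

theorem mulVecLin_inj (g : GL (Fin m ⊕ Fin m) F) :
    Function.Injective (Matrix.mulVecLin (g : Matrix (Fin m ⊕ Fin m) (Fin m ⊕ Fin m) F)) := by
  have : Function.Injective (g : Matrix (Fin m ⊕ Fin m) (Fin m ⊕ Fin m) F).mulVec :=
    Matrix.mulVec_injective_iff_isUnit.mpr g.isUnit
  exact this

theorem img_mul (g h : GL (Fin m ⊕ Fin m) F) (U : Submodule F (Fin m ⊕ Fin m → F)) :
    img (g * h) U = img g (img h U) := by
  unfold img
  rw [Units.val_mul, Matrix.mulVecLin_mul, Submodule.map_comp]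

theorem img_inf (g : GL (Fin m ⊕ Fin m) F) (U W : Submodule F (Fin m ⊕ Fin m → F)) :
    img g (U ⊓ W) = img g U ⊓ img g W :=
  Submodule.map_inf _ (mulVecLin_inj g)

theorem finrank_img (g : GL (Fin m ⊕ Fin m) F) (U : Submodule F (Fin m ⊕ Fin m → F)) :
    finrank F (img g U) = finrank F U :=
  (LinearEquiv.finrank_eq (Submodule.equivMapOfInjective _ (mulVecLin_inj g) U)).symm

theorem img_singular (g : GL (Fin m ⊕ Fin m) F) (hg : g ∈ isometryGroup F (quadFormPlus m F))
    (U : Submodule F (Fin m ⊕ Fin m → F)) (hU : ∀ w ∈ U, quadFormPlus m F w = 0) :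
    ∀ w ∈ img g U, quadFormPlus m F w = 0 := by
  rintro w ⟨v, hv, rfl⟩
  rw [Matrix.mulVecLin_apply, (mem_isometryGroup_iff' _ g).mp hg]
  exact hU v hv

/-- the parity of the codimension of `E ∩ gE` in `E` -/
noncomputable def par (g : GL (Fin m ⊕ Fin m) F) : ZMod 2 :=
  ((m - finrank F ↥(stdL m F ⊓ img g (stdL m F)) : ℕ) : ZMod 2)

theorem par_mul (hm : 1 ≤ m) (g h : GL (Fin m ⊕ Fin m) F)
    (hg : g ∈ isometryGroup F (quadFormPlus m F)) (hh : h ∈ isometryGroup F (quadFormPlus m F)) :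
    par (g * h) = par g + par h := by
  have key := (Cfsg.Agent.S0831.result (F := F) m hm).1 (stdL m F) (img g (stdL m F))
    (img (g * h) (stdL m F)) ⟨finrank_stdL m F, stdL_singular m F⟩
    ⟨(finrank_img g _).trans (finrank_stdL m F), img_singular g hg _ (stdL_singular m F)⟩
    ⟨(finrank_img _ _).trans (finrank_stdL m F),
      img_singular _ (mul_mem hg hh) _ (stdL_singular m F)⟩
  have h2 : finrank F ↥(img g (stdL m F) ⊓ img (g * h) (stdL m F))
      = finrank F ↥(stdL m F ⊓ img h (stdL m F)) := by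
    rw [img_mul, ← img_inf, finrank_img]
  rw [h2] at key
  have key2 := (ZMod.natCast_eq_zero_iff_even).mpr key
  push_cast at key2
  unfold par
  have h3 : ∀ a b c : ZMod 2, a + b + c = 0 → c = a + b := by decide
  exact h3 _ _ _ key2

/-- the parity homomorphism -/
noncomputable def parHom (hm : 1 ≤ m) :
    ↥(isometryGroup F (quadFormPlus m F)) →* Multiplicative (ZMod 2) :=
  MonoidHom.mk' (fun g => Multiplicative.ofAdd (par (g : GL (Fin m ⊕ Fin m) F)))
    (fun g h => by
      show Multiplicative.ofAdd (par ((g : GL (Fin m ⊕ Fin m) F) * (h : GL (Fin m ⊕ Fin m) F))) = _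
      rw [par_mul hm _ _ g.2 h.2]; rfl)

theorem par_eq_zero_of_mem_omega (hm : 1 ≤ m) (g : ↥(isometryGroup F (quadFormPlus m F)))
    (hg : g ∈ Omega F (quadFormPlus m F)) : par (g : GL (Fin m ⊕ Fin m) F) = 0 := by
  have h1 : g ∈ (parHom (F := F) hm).ker := Abelianization.commutator_subset_ker _ hg
  have h2 : parHom hm g = 1 := h1
  exact h2

/-- swap the two coordinates of the hyperbolic planes selected by `p` -/
def flipFun (p : Fin m → Bool) : Fin m ⊕ Fin m → Fin m ⊕ Fin m
  | Sum.inl i => if p i then Sum.inr i else Sum.inl i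
  | Sum.inr i => if p i then Sum.inl i else Sum.inr i

theorem flipFun_invol (p : Fin m → Bool) :
    Function.Involutive (flipFun p) := by
  rintro (i | i) <;> by_cases h : p i <;> simp [flipFun, h]

def flipPerm (p : Fin m → Bool) : Equiv.Perm (Fin m ⊕ Fin m) :=
  (flipFun_invol p).toPerm

/-- the shift by `k` on `Fin (k + k)` -/
def shiftFun (k : ℕ) (i : Fin (k + k)) : Fin (k + k) :=
  if h : i.val < k then ⟨i.val + k, by omega⟩ else ⟨i.val - k, by omega⟩

theorem shiftFun_val (k : ℕ) (i : Fin (k + k)) :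
    (shiftFun k i).val = if i.val < k then i.val + k else i.val - k := by
  unfold shiftFun; split_ifs <;> rfl

theorem shiftFun_invol (k : ℕ) : Function.Involutive (shiftFun k) := by
  intro i
  apply Fin.ext
  rw [shiftFun_val, shiftFun_val]
  have := i.2
  split_ifs <;> omega

def shiftPerm (k : ℕ) : Equiv.Perm (Fin (k + k)) := (shiftFun_invol k).toPerm

theorem shift_lt_iff (k : ℕ) (i : Fin (k + k)) : (shiftFun k i).val < k ↔ ¬ i.val < k := by
  rw [shiftFun_val]
  have := i.2
  split_ifs <;> omega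

theorem comm_eq (k : ℕ) :
    ⁅flipPerm (m := k + k) (fun i => decide (i.val < k)),
      Equiv.sumCongr (shiftPerm k) (shiftPerm k)⁆ = Equiv.sumComm _ _ := by
  have h1 : (flipPerm (m := k + k) (fun i => decide (i.val < k)))⁻¹
      = flipPerm (m := k + k) (fun i => decide (i.val < k)) := by
    ext x; rfl
  have h2 : (Equiv.sumCongr (shiftPerm k) (shiftPerm k))⁻¹
      = Equiv.sumCongr (shiftPerm k) (shiftPerm k) := by
    ext x; rcases x with i | i <;> rfl
  rw [commutatorElement_def, h1, h2]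
  ext x
  have e1 : ∀ y, flipPerm (m := k + k) (fun i => decide (i.val < k)) y
      = flipFun (fun i => decide (i.val < k)) y := fun _ => rfl
  have e2 : ∀ y, shiftPerm k y = shiftFun k y := fun _ => rfl
  simp only [Equiv.Perm.mul_apply, e1, Equiv.sumCongr_apply, Equiv.sumComm_apply]
  have h3 := fun i => shift_lt_iff k i
  have h4 := fun i => shiftFun_invol k i
  rcases x with i | i
  · by_cases h : i.val < k
    · have h5 : ¬ (shiftFun k i).val < k := by rw [h3]; exact not_not.mpr h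
      simp [flipFun, h, h5, h4, e2]
    · have h5 : (shiftFun k i).val < k := by rw [h3]; exact h
      simp [flipFun, h, h5, h4, e2]
  · by_cases h : i.val < k
    · have h5 : ¬ (shiftFun k i).val < k := by rw [h3]; exact not_not.mpr h
      simp [flipFun, h, h5, h4, e2]
    · have h5 : (shiftFun k i).val < k := by rw [h3]; exact h
      simp [flipFun, h, h5, h4, e2]


/-- permutation matrices as a homomorphism into `GL` -/
noncomputable def glHom (ι : Type) [Fintype ι] [DecidableEq ι] (F : Type*) [Field F] :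
    Equiv.Perm ι →* GL ι F :=
  (Units.map (Matrix.permMatrixHom (n := ι) (R := F))).comp toUnits.toMonoidHom

theorem glHom_mulVec {ι : Type} [Fintype ι] [DecidableEq ι] (σ : Equiv.Perm ι) (v : ι → F) :
    ((glHom ι F σ : GL ι F) : Matrix ι ι F).mulVec v = v ∘ σ.symm := by
  show (Matrix.permMatrixHom (n := ι) (R := F) σ).mulVec v = _
  rw [Matrix.permMatrixHom_apply, Matrix.permMatrix_mulVec]
  rfl

theorem flip_mem (p : Fin m → Bool) :
    glHom (Fin m ⊕ Fin m) F (flipPerm p) ∈ isometryGroup F (quadFormPlus m F) := by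
  rw [mem_isometryGroup_iff']
  intro v
  rw [glHom_mulVec]
  unfold quadFormPlus
  apply Finset.sum_congr rfl
  intro i _
  show v (flipFun p (Sum.inl i)) * v (flipFun p (Sum.inr i)) = _
  by_cases h : p i
  · simp [flipFun, h, mul_comm]
  · simp [flipFun, h]

theorem sumCongr_mem (ρ : Equiv.Perm (Fin m)) :
    glHom (Fin m ⊕ Fin m) F (Equiv.sumCongr ρ ρ) ∈ isometryGroup F (quadFormPlus m F) := by
  rw [mem_isometryGroup_iff']
  intro v
  rw [glHom_mulVec]
  unfold quadFormPlus
  exact Equiv.sum_comp ρ.symm (fun j => v (Sum.inl j) * v (Sum.inr j))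

theorem exists_swap (k : ℕ) :
    ∃ g : ↥(isometryGroup F (quadFormPlus (k + k) F)), g ∈ Omega F (quadFormPlus (k + k) F) ∧
      ∀ v : Fin (k + k) ⊕ Fin (k + k) → F,
        ((g : GL (Fin (k + k) ⊕ Fin (k + k)) F) : Matrix _ _ F).mulVec v = v ∘ Sum.swap := by
  refine ⟨⁅⟨_, flip_mem (fun i => decide (i.val < k))⟩, ⟨_, sumCongr_mem (shiftPerm k)⟩⁆,
    Subgroup.commutator_mem_commutator (Subgroup.mem_top _) (Subgroup.mem_top _), ?_⟩
  intro v
  have h1 : ((⁅(⟨_, flip_mem (fun i => decide (i.val < k))⟩ :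
      ↥(isometryGroup F (quadFormPlus (k + k) F))), ⟨_, sumCongr_mem (shiftPerm k)⟩⁆ :
      ↥(isometryGroup F (quadFormPlus (k + k) F))) : GL (Fin (k + k) ⊕ Fin (k + k)) F)
      = glHom _ F (Equiv.sumComm _ _) := by
    rw [← comm_eq, map_commutatorElement]
    rfl
  rw [h1, glHom_mulVec]
  rfl

theorem even_of_swap (hm : 1 ≤ m) (g : ↥(isometryGroup F (quadFormPlus m F)))
    (hg : g ∈ Omega F (quadFormPlus m F))
    (h1 : ∀ v : Fin m ⊕ Fin m → F, (∀ i, v (Sum.inr i) = 0) →
      ∀ i, (((g : GL (Fin m ⊕ Fin m) F) : Matrix (Fin m ⊕ Fin m) (Fin m ⊕ Fin m) F).mulVec v) (Sum.inl i) = 0) : Even m := by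
  have hp := par_eq_zero_of_mem_omega hm g hg
  have h0 : stdL m F ⊓ img (g : GL (Fin m ⊕ Fin m) F) (stdL m F) = ⊥ := by
    rw [eq_bot_iff]
    calc _ ≤ stdL m F ⊓ stdL' m F := inf_le_inf_left _ (by
          rintro w ⟨v, hv, rfl⟩
          rw [mem_stdL']
          exact h1 v ((mem_stdL _ _ v).mp hv))
     _ = ⊥ := stdL_inf_stdL' m F
  unfold par at hp
  rw [h0, finrank_bot, Nat.sub_zero] at hp
  exact (ZMod.natCast_eq_zero_iff_even).mp hp

/-- For the hyperbolic quadratic form Σ x_i y_i on F^(2m) (F finite, m ≥ 1, excluding m = 2 over the field of two elements), Ω⁺_2m(F) (the commutator subgroup of the orthogonal group) contains an element interchanging the two complementary maximal totally singular subspaces {y = 0} and {x = 0} if and only if m is even (dimension divisible by 4). -/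
theorem result {F : Type*} [Field F] [Fintype F] {m : ℕ} (hm : 1 ≤ m) (h : Fintype.card F ≠ 2 ∨ m ≠ 2) : (∃ g : ↥(Cfsg.isometryGroup F (Cfsg.quadFormPlus m F)), g ∈ Cfsg.Omega F (Cfsg.quadFormPlus m F) ∧ (∀ v : Fin m ⊕ Fin m → F, (∀ i, v (Sum.inr i) = 0) → ∀ i, (((g : Matrix.GeneralLinearGroup (Fin m ⊕ Fin m) F) : Matrix (Fin m ⊕ Fin m) (Fin m ⊕ Fin m) F).mulVec v) (Sum.inl i) = 0) ∧ (∀ v : Fin m ⊕ Fin m → F, (∀ i, v (Sum.inl i) = 0) → ∀ i, (((g : Matrix.GeneralLinearGroup (Fin m ⊕ Fin m) F) : Matrix (Fin m ⊕ Fin m) (Fin m ⊕ Fin m) F).mulVec v) (Sum.inr i) = 0)) ↔ Even m := by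
  constructor
  · rintro ⟨g, hg, h1, _⟩
    exact even_of_swap hm g hg h1
  · rintro ⟨k, rfl⟩
    obtain ⟨g, hg, hv⟩ := exists_swap (F := F) k
    refine ⟨g, hg, ?_, ?_⟩
    · intro v h0 i
      rw [hv]; exact h0 i
    · intro v h0 i
      rw [hv]; exact h0 i

end Cfsg.Agent.S2612
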