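import Cfsg.Statements.S2629
import Cfsg.Agent.S2612
import Cfsg.Agent.Lib.Helper37.LeviPlus
import Cfsg.Agent.Lib.Helper37.OrthStruct
import Cfsg.Agent.Lib.Helper8.Dickson

set_option autoImplicit false
open Cfsg Module

namespace Cfsg.Agent.S2629

open Cfsg.Agent.Lib.Helper37 Cfsg.Agent.Lib.Helper14 Cfsg.Agent.S2612 Matrix

variable {F : Type*} [Field F] {m : ℕ}

/-- a reflection moves the standard maximal totally singular subspace to one meeting it in a
hyperplane -/
theorem par_refl (h2 : (2 : F) ≠ 0) (v : Fin m ⊕ Fin m → F) (hv : quadFormPlus m F v ≠ 0)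
    (g : GL (Fin m ⊕ Fin m) F)
    (hg : (g : Matrix (Fin m ⊕ Fin m) (Fin m ⊕ Fin m) F) = reflectionMatrix (quadFormPlus m F) v) :
    par g = 1 := by
  have h : IsGram (quadFormPlus m F) (gramP m F) := ⟨h2, gramP_isSymm m F, gramP_self m F⟩
  set ℓ : (Fin m ⊕ Fin m → F) →ₗ[F] F := Matrix.toBilin' (gramP m F) v with hℓ
  have hnot : ¬ stdL m F ≤ LinearMap.ker ℓ := by
    intro hle
    apply hv
    have hvi : ∀ i, v (Sum.inr i) = 0 := fun i => by
      have hx : (Pi.single (Sum.inl i) 1 : Fin m ⊕ Fin m → F) ∈ stdL m F :=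
        (mem_stdL m F _).mpr (by intro j; simp)
      have h1 := hle hx
      rw [LinearMap.mem_ker, hℓ, h.symmB, h.bilin_single (Sum.inl i) (Sum.inr i) (gramP_inl i)] at h1
      exact h1
    exact stdL_singular m F v ((mem_stdL m F v).mpr hvi)
  have hvE : v ∉ stdL m F := fun hmem => hv (stdL_singular m F v hmem)
  have heq : stdL m F ⊓ img g (stdL m F) = stdL m F ⊓ LinearMap.ker ℓ := by
    ext y
    constructor
    · rintro ⟨hy1, x, hx, rfl⟩
      rw [Matrix.mulVecLin_apply, hg] at hy1 ⊢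
      by_cases hx0 : ℓ x = 0
      · rw [h.refl_fixes v x hx0] 
        exact ⟨hx, hx0⟩
      · exfalso
        apply hvE
        rw [h.refl_mulVec] at hy1
        have h3 : ((quadFormPlus m F v)⁻¹ * ℓ x) • v ∈ stdL m F := by
          have := (stdL m F).sub_mem hx hy1
          rwa [sub_sub_cancel] at this
        have h4 : (quadFormPlus m F v)⁻¹ * ℓ x ≠ 0 := mul_ne_zero (inv_ne_zero hv) hx0
        have := (stdL m F).smul_mem ((quadFormPlus m F v)⁻¹ * ℓ x)⁻¹ h3
        rwa [smul_smul, inv_mul_cancel₀ h4, one_smul] at this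
    · rintro ⟨hy1, hy2⟩
      refine ⟨hy1, y, hy1, ?_⟩
      rw [Matrix.mulVecLin_apply, hg]
      exact h.refl_fixes v y hy2
  have hfr := (Cfsg.Agent.Lib.Helper8.finrank_inf_ker (stdL m F) ℓ).2 hnot
  rw [finrank_stdL] at hfr
  unfold par
  rw [heq]
  have : m - finrank F ↥(stdL m F ⊓ LinearMap.ker ℓ) = 1 := by omega
  rw [this]
  simp


theorem par_list [Fintype F] [DecidableEq F] (hm : 1 ≤ m) (h2 : (2 : F) ≠ 0)
    (h : IsGram (quadFormPlus m F) (gramP m F)) (vs : List (Fin m ⊕ Fin m → F))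
    (hvs : ∀ v ∈ vs, quadFormPlus m F v ≠ 0) :
    par (((vs.map h.reflG').prod : ↥(isometryGroup F (quadFormPlus m F))) :
      GL (Fin m ⊕ Fin m) F) = (vs.length : ZMod 2) := by
  induction vs with
  | nil =>
    have h1 : parHom (F := F) hm 1 = 1 := map_one _
    exact h1
  | cons a l ih =>
    rw [List.map_cons, List.prod_cons, Subgroup.coe_mul, par_mul hm _ _ (Subtype.prop _) (Subtype.prop _),
      ih (fun v hv => hvs v (List.mem_cons_of_mem a hv)), List.length_cons]
    have ha := hvs a List.mem_cons_self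
    rw [par_refl h2 a ha _ (by rw [h.reflG'_of_ne a ha]; rfl)]
    push_cast
    ring

/-- For the hyperbolic form Σ x_i y_i on F^(2m) over a finite field of odd order (m ≥ 1), an isometry g preserves the class of the maximal totally singular subspace U₀ = {y = 0} (that is, m − dim(U₀ ∩ gU₀) is even) if and only if det g = 1: the stabiliser of each of the two classes of maximal totally singular subspaces is SO. -/
theorem result {F : Type*} [Field F] [Fintype F] (h2 : (2 : F) ≠ 0) {m : ℕ} (hm : 1 ≤ m) (g : ↥(Cfsg.isometryGroup F (Cfsg.quadFormPlus m F))) : Even (m - Module.finrank F ↥(LinearMap.ker (LinearMap.funLeft F F (Sum.inr : Fin m → Fin m ⊕ Fin m)) ⊓ (LinearMap.ker (LinearMap.funLeft F F (Sum.inr : Fin m → Fin m ⊕ Fin m))).map (Matrix.mulVecLin ((g : Matrix.GeneralLinearGroup (Fin m ⊕ Fin m) F) : Matrix (Fin m ⊕ Fin m) (Fin m ⊕ Fin m) F)))) ↔ ((g : Matrix.GeneralLinearGroup (Fin m ⊕ Fin m) F) : Matrix (Fin m ⊕ Fin m) (Fin m ⊕ Fin m) F).det = 1 := by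
  classical
  have h : IsGram (quadFormPlus m F) (gramP m F) := ⟨h2, gramP_isSymm m F, gramP_self m F⟩
  have hdet : (gramP m F).det ≠ 0 := by
    rw [gramP_det]
    exact pow_ne_zero _ (neg_ne_zero.mpr one_ne_zero)
  obtain ⟨vs, hvs, hmat⟩ := h.cartan_dieudonne hdet g
  have hg : g = (vs.map h.reflG').prod := by
    apply toMat_injective
    rw [hmat, h.toMat_list vs hvs]
  have hpar : par (g : GL (Fin m ⊕ Fin m) F) = (vs.length : ZMod 2) := by
    rw [hg]; exact par_list hm h2 h vs hvs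
  have hd : ((g : Matrix.GeneralLinearGroup (Fin m ⊕ Fin m) F) :
      Matrix (Fin m ⊕ Fin m) (Fin m ⊕ Fin m) F).det = (-1) ^ vs.length := by
    rw [← toMat_apply, hmat, h.det_list vs hvs]
  have hL : Even (m - Module.finrank F ↥(LinearMap.ker (LinearMap.funLeft F F (Sum.inr : Fin m → Fin m ⊕ Fin m)) ⊓ (LinearMap.ker (LinearMap.funLeft F F (Sum.inr : Fin m → Fin m ⊕ Fin m))).map (Matrix.mulVecLin ((g : Matrix.GeneralLinearGroup (Fin m ⊕ Fin m) F) : Matrix (Fin m ⊕ Fin m) (Fin m ⊕ Fin m) F)))) ↔ par (g : GL (Fin m ⊕ Fin m) F) = 0 := by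
    rw [← ZMod.natCast_eq_zero_iff_even]
    rfl
  rw [hL, hpar, hd, ZMod.natCast_eq_zero_iff_even]
  constructor
  · intro he
    exact he.neg_one_pow
  · intro he
    exact h.even_of_neg_one_pow _ he

end Cfsg.Agent.S2629
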