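import Cfsg.Statements.S2630
import Cfsg.Agent.S2612
import Cfsg.Agent.Lib.Helper8.Dickson
import Cfsg.Agent.Lib.Helper8.OrthForms

set_option autoImplicit false
open Cfsg Module

namespace Cfsg.Agent.S2630

open Cfsg.Agent.Lib.Helper14 Cfsg.Agent.Lib.Helper37 Cfsg.Agent.S2612 Matrix

variable {F : Type*} [Field F] {m : ℕ}

/-- the flip of a single hyperbolic plane moves the standard maximal totally singular subspace
to one meeting it in a hyperplane -/
theorem par_flip (i₀ : Fin m) :
    par (glHom (Fin m ⊕ Fin m) F (flipPerm (fun j => decide (j = i₀)))) = 1 := by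
  set g := glHom (Fin m ⊕ Fin m) F (flipPerm (fun j => decide (j = i₀))) with hg
  set ℓ : (Fin m ⊕ Fin m → F) →ₗ[F] F := LinearMap.proj (Sum.inl i₀) with hℓ
  have hact : ∀ x : Fin m ⊕ Fin m → F,
      (g : Matrix (Fin m ⊕ Fin m) (Fin m ⊕ Fin m) F) *ᵥ x
        = x ∘ flipFun (fun j => decide (j = i₀)) := by
    intro x
    rw [hg, glHom_mulVec]
    rfl
  have hnot : ¬ stdL m F ≤ LinearMap.ker ℓ := by
    intro hle
    have hx : (Pi.single (Sum.inl i₀) 1 : Fin m ⊕ Fin m → F) ∈ stdL m F :=
      (mem_stdL m F _).mpr (by intro j; simp)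
    have h1 := hle hx
    rw [LinearMap.mem_ker, hℓ, LinearMap.proj_apply, Pi.single_eq_same] at h1
    exact one_ne_zero h1
  have heq : stdL m F ⊓ img g (stdL m F) = stdL m F ⊓ LinearMap.ker ℓ := by
    ext y
    constructor
    · rintro ⟨hy1, x, hx, rfl⟩
      refine ⟨hy1, ?_⟩
      rw [Matrix.mulVecLin_apply, hact]
      show ℓ (x ∘ flipFun fun j => decide (j = i₀)) = 0
      rw [hℓ, LinearMap.proj_apply]
      have := (mem_stdL m F x).mp hx i₀
      simpa [flipFun] using this
    · rintro ⟨hy1, hy2⟩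
      refine ⟨hy1, y, hy1, ?_⟩
      rw [Matrix.mulVecLin_apply, hact]
      replace hy2 : ℓ y = 0 := hy2
      rw [hℓ, LinearMap.proj_apply] at hy2
      have hy3 := (mem_stdL m F y).mp hy1 i₀
      funext k
      rcases k with k | k
      · by_cases hk : k = i₀
        · subst hk; simp [flipFun, hy2, hy3]
        · simp [flipFun, hk]
      · by_cases hk : k = i₀
        · subst hk; simp [flipFun, hy2, hy3]
        · simp [flipFun, hk]
  have hfr := (Cfsg.Agent.Lib.Helper8.finrank_inf_ker (stdL m F) ℓ).2 hnot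
  rw [finrank_stdL] at hfr
  unfold par
  rw [heq]
  have : m - finrank F ↥(stdL m F ⊓ LinearMap.ker ℓ) = 1 := by omega
  rw [this]
  simp


theorem eq_of_le_of_index_eq_two {G : Type*} [Group G] (H K : Subgroup G) (hle : H ≤ K)
    (hH : H.index = 2) (hK : K.index = 2) : H = K := by
  apply le_antisymm hle
  have h1 := Subgroup.relIndex_mul_index hle
  rw [hH, hK] at h1
  have h2 : H.relIndex K = 1 := by omega
  exact Subgroup.relIndex_eq_one.mp h2

/-- in characteristic two the kernel of the class parity is `Ω` -/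
theorem ker_parHom [Fintype F] (h2 : (2 : F) = 0) (hm : 1 ≤ m)
    (h : Fintype.card F ≠ 2 ∨ m ≠ 2) :
    Omega F (quadFormPlus m F) = (parHom (F := F) hm).ker := by
  have hcard : Fintype.card F ≠ 2 ∨ finrank F (Fin m ⊕ Fin m → F) ≠ 4 := by
    rcases h with h | h
    · exact Or.inl h
    · right
      rw [Module.finrank_fintype_fun_eq_card, Fintype.card_sum, Fintype.card_fin]
      omega
  have hidx : (Omega F (quadFormPlus m F)).index = 2 := by
    have := Cfsg.Agent.Lib.Helper8.commutator_index_two_char2 h2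
      (Cfsg.Agent.Lib.Helper8.plusForm m F) (Cfsg.Agent.Lib.Helper8.plusForm_nondegenerate m F)
      hcard (Cfsg.Agent.Lib.Helper8.plusForm_exists_ne_zero m F hm)
    rw [← Cfsg.Agent.Lib.Helper8.plusForm_coe] at this
    exact this
  have hsurj : Function.Surjective (parHom (F := F) hm) := by
    intro x
    have hx : ∀ a : ZMod 2, a = 0 ∨ a = 1 := by decide
    rcases hx (Multiplicative.toAdd x) with hx | hx
    · refine ⟨1, ?_⟩
      rw [map_one]
      apply Multiplicative.toAdd.injective
      rw [hx]; rfl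
    · refine ⟨⟨_, flip_mem (fun j => decide (j = (⟨0, hm⟩ : Fin m)))⟩, ?_⟩
      apply Multiplicative.toAdd.injective
      rw [hx]
      exact par_flip ⟨0, hm⟩
  have hker : (parHom (F := F) hm).ker.index = 2 := by
    rw [Subgroup.index_ker, MonoidHom.range_eq_top.2 hsurj, Subgroup.card_top,
      Nat.card_eq_fintype_card]
    rfl
  exact eq_of_le_of_index_eq_two _ _ (Abelianization.commutator_subset_ker _) hidx hker

/-- For the hyperbolic form Σ x_i y_i on F^(2m) over a finite field of characteristic two (m ≥ 1, excluding m = 2 over the field of two elements), an isometry g preserves the class of the maximal totally singular subspace U₀ = {y = 0} (m − dim(U₀ ∩ gU₀) even) if and only if g lies in Ω (the commutator subgroup of the orthogonal group): the stabiliser of each class is Ω. -/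
theorem result {F : Type*} [Field F] [Fintype F] [CharP F 2] {m : ℕ} (hm : 1 ≤ m) (h : Fintype.card F ≠ 2 ∨ m ≠ 2) (g : ↥(Cfsg.isometryGroup F (Cfsg.quadFormPlus m F))) : Even (m - Module.finrank F ↥(LinearMap.ker (LinearMap.funLeft F F (Sum.inr : Fin m → Fin m ⊕ Fin m)) ⊓ (LinearMap.ker (LinearMap.funLeft F F (Sum.inr : Fin m → Fin m ⊕ Fin m))).map (Matrix.mulVecLin ((g : Matrix.GeneralLinearGroup (Fin m ⊕ Fin m) F) : Matrix (Fin m ⊕ Fin m) (Fin m ⊕ Fin m) F)))) ↔ g ∈ Cfsg.Omega F (Cfsg.quadFormPlus m F) := by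
  have h2 : (2 : F) = 0 := by
    have := CharP.cast_eq_zero F 2
    exact_mod_cast this
  have hL : Even (m - Module.finrank F ↥(LinearMap.ker (LinearMap.funLeft F F (Sum.inr : Fin m → Fin m ⊕ Fin m)) ⊓ (LinearMap.ker (LinearMap.funLeft F F (Sum.inr : Fin m → Fin m ⊕ Fin m))).map (Matrix.mulVecLin ((g : Matrix.GeneralLinearGroup (Fin m ⊕ Fin m) F) : Matrix (Fin m ⊕ Fin m) (Fin m ⊕ Fin m) F)))) ↔ par (g : GL (Fin m ⊕ Fin m) F) = 0 := by
    rw [← ZMod.natCast_eq_zero_iff_even]
    rfl
  rw [hL, ker_parHom h2 hm h, MonoidHom.mem_ker]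
  rfl

end Cfsg.Agent.S2630
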