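import Cfsg.Statements.S2631
import Cfsg.Agent.S2630
import Cfsg.Agent.S2629
import Cfsg.Agent.S2611
import Cfsg.Agent.Lib.Helper8.WittQuad

set_option autoImplicit false
open Cfsg

namespace Cfsg.Agent.S2631

open Cfsg.Agent.Lib.Helper37 Cfsg.Agent.Lib.Helper8 Cfsg.Agent.Lib.Helper14 Cfsg.Agent.S2612
open Matrix Module

section aux

variable {F : Type*} [Field F] {ι : Type} [Fintype ι] [DecidableEq ι]

/-- a linear equivalence of a coordinate space as an invertible matrix -/
noncomputable def glOfEquiv (g : (ι → F) ≃ₗ[F] (ι → F)) : GL ι F :=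
  ⟨LinearMap.toMatrix' (g : (ι → F) →ₗ[F] (ι → F)),
    LinearMap.toMatrix' (g.symm : (ι → F) →ₗ[F] (ι → F)), by
      rw [← LinearMap.toMatrix'_comp]
      simp, by
      rw [← LinearMap.toMatrix'_comp]
      simp⟩

theorem glOfEquiv_mulVec (g : (ι → F) ≃ₗ[F] (ι → F)) (v : ι → F) :
    ((glOfEquiv g : GL ι F) : Matrix ι ι F) *ᵥ v = g v := by
  show LinearMap.toMatrix' (g : (ι → F) →ₗ[F] (ι → F)) *ᵥ v = g v
  rw [LinearMap.toMatrix'_mulVec]
  rfl

theorem glOfEquiv_mulVecLin (g : (ι → F) ≃ₗ[F] (ι → F)) :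
    Matrix.mulVecLin ((glOfEquiv g : GL ι F) : Matrix ι ι F) = (g : (ι → F) →ₗ[F] (ι → F)) := by
  apply LinearMap.ext
  intro v
  rw [Matrix.mulVecLin_apply, glOfEquiv_mulVec]
  rfl

/-- Witt: two totally singular subspaces of the same dimension are conjugate under the
isometry group -/
theorem exists_isometry_map_eq (Q : QuadraticForm F (ι → F))
    (hQ : (QuadraticMap.polarBilin Q).Nondegenerate) (U W : Submodule F (ι → F)) (k : ℕ)
    (hU : finrank F U = k) (hW : finrank F W = k) (hU0 : ∀ u ∈ U, Q u = 0)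
    (hW0 : ∀ w ∈ W, Q w = 0) :
    ∃ g : GL ι F, g ∈ Cfsg.isometryGroup F ⇑Q ∧
      U.map (Matrix.mulVecLin (g : Matrix ι ι F)) = W := by
  set bU := Module.finBasisOfFinrankEq F U hU with hbU
  set bW := Module.finBasisOfFinrankEq F W hW with hbW
  have hx : LinearIndependent F (fun i => (bU i : ι → F)) :=
    bU.linearIndependent.map' U.subtype (Submodule.ker_subtype U)
  have hy : LinearIndependent F (fun i => (bW i : ι → F)) :=
    bW.linearIndependent.map' W.subtype (Submodule.ker_subtype W)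
  have hpol : ∀ (X : Submodule F (ι → F)), (∀ u ∈ X, Q u = 0) → ∀ a b : X,
      QuadraticMap.polar ⇑Q (a : ι → F) (b : ι → F) = 0 := by
    intro X hX a b
    unfold QuadraticMap.polar
    rw [hX _ (X.add_mem a.2 b.2), hX _ a.2, hX _ b.2]
    ring
  obtain ⟨g, hg1, hg2⟩ := witt_family_quad Q hQ k (fun i => (bU i : ι → F))
    (fun i => (bW i : ι → F)) hx hy
    (fun i => by rw [hU0 _ (bU i).2, hW0 _ (bW i).2])
    (fun i j => by rw [hpol U hU0, hpol W hW0])
  refine ⟨glOfEquiv g, ?_, ?_⟩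
  · rw [mem_isometryGroup_iff']
    intro v
    rw [glOfEquiv_mulVec]
    exact hg1 v
  · rw [glOfEquiv_mulVecLin]
    have hUs : U = Submodule.span F (Set.range (fun i => (bU i : ι → F))) := by
      have h1 := bU.span_eq
      have h2 := congrArg (Submodule.map U.subtype) h1
      rw [Submodule.map_span, Submodule.map_subtype_top, ← Set.range_comp] at h2
      exact h2.symm
    have hWs : W = Submodule.span F (Set.range (fun i => (bW i : ι → F))) := by
      have h1 := bW.span_eq
      have h2 := congrArg (Submodule.map W.subtype) h1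
      rw [Submodule.map_span, Submodule.map_subtype_top, ← Set.range_comp] at h2
      exact h2.symm
    conv_lhs => rw [hUs]
    conv_rhs => rw [hWs]
    rw [Submodule.map_span, ← Set.range_comp]
    congr 2
    funext i
    exact hg2 i


variable {m : ℕ}

/-- an isometry carrying a maximal totally singular subspace to one of the same class has
trivial class parity -/
theorem par_eq_zero_of_map (hm : 1 ≤ m) (g : GL (Fin m ⊕ Fin m) F)
    (hg : g ∈ isometryGroup F (quadFormPlus m F)) (U W : Submodule F (Fin m ⊕ Fin m → F))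
    (hU : finrank F U = m) (hW : finrank F W = m) (hU0 : ∀ u ∈ U, quadFormPlus m F u = 0)
    (hW0 : ∀ w ∈ W, quadFormPlus m F w = 0) (he : Even (m - finrank F ↥(U ⊓ W)))
    (hgU : img g U = W) : par g = 0 := by
  have hE : finrank F (stdL m F) = m ∧ ∀ w ∈ stdL m F, quadFormPlus m F w = 0 :=
    ⟨finrank_stdL m F, stdL_singular m F⟩
  have hgE : finrank F (img g (stdL m F)) = m ∧ ∀ w ∈ img g (stdL m F), quadFormPlus m F w = 0 :=
    ⟨(finrank_img g _).trans (finrank_stdL m F), img_singular g hg _ (stdL_singular m F)⟩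
  have k1 := (Cfsg.Agent.S0831.result (F := F) m hm).1 (stdL m F) U W hE ⟨hU, hU0⟩ ⟨hW, hW0⟩
  have k2 := (Cfsg.Agent.S0831.result (F := F) m hm).1 (stdL m F) (img g (stdL m F)) W hE hgE
    ⟨hW, hW0⟩
  have h2 : finrank F ↥(img g (stdL m F) ⊓ W) = finrank F ↥(stdL m F ⊓ U) := by
    rw [← hgU, ← img_inf, finrank_img]
  rw [h2] at k2
  rw [← ZMod.natCast_eq_zero_iff_even] at k1 k2 he
  push_cast at k1 k2
  unfold par
  have h3 : ∀ a b c d : ZMod 2, b = 0 → a + b + c = 0 → d + a + c = 0 → d = 0 := by decide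
  exact h3 _ _ _ _ he k1 k2


/-- in odd characteristic two class-preserving isometries outside `Ω` multiply into `Ω` -/
theorem mul_mem_omega [Fintype F] (hm : 1 ≤ m) (h2 : (2 : F) ≠ 0)
    (x y : ↥(isometryGroup F (quadFormPlus m F)))
    (hx : par (x : GL (Fin m ⊕ Fin m) F) = 0) (hy : par (y : GL (Fin m ⊕ Fin m) F) = 0)
    (hxΩ : x ∉ Omega F (quadFormPlus m F)) (hyΩ : y ∉ Omega F (quadFormPlus m F)) :
    x * y ∈ Omega F (quadFormPlus m F) := by
  classical
  have h : IsGram (quadFormPlus m F) (gramP m F) := ⟨h2, gramP_isSymm m F, gramP_self m F⟩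
  have hdet : (gramP m F).det ≠ 0 := by
    rw [gramP_det]
    exact pow_ne_zero _ (neg_ne_zero.mpr one_ne_zero)
  obtain ⟨vx, hvx, hmx⟩ := h.cartan_dieudonne hdet x
  obtain ⟨vy, hvy, hmy⟩ := h.cartan_dieudonne hdet y
  have hxl : x = (vx.map h.reflG').prod := by
    apply toMat_injective
    rw [hmx, h.toMat_list vx hvx]
  have hyl : y = (vy.map h.reflG').prod := by
    apply toMat_injective
    rw [hmy, h.toMat_list vy hvy]
  have hex : Even vx.length := by
    rw [← ZMod.natCast_eq_zero_iff_even, ← Cfsg.Agent.S2629.par_list hm h2 h vx hvx, ← hxl]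
    exact hx
  have hey : Even vy.length := by
    rw [← ZMod.natCast_eq_zero_iff_even, ← Cfsg.Agent.S2629.par_list hm h2 h vy hvy, ← hyl]
    exact hy
  have hmx' : ((x : GL (Fin m ⊕ Fin m) F) : Matrix _ _ F)
      = (vx.map (fun v => reflectionMatrix (quadFormPlus m F) v)).prod := hmx
  have hmy' : ((y : GL (Fin m ⊕ Fin m) F) : Matrix _ _ F)
      = (vy.map (fun v => reflectionMatrix (quadFormPlus m F) v)).prod := hmy
  have hnx : ¬ IsSquare (vx.map (fun v => quadFormPlus m F v)).prod := by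
    intro hsq
    exact hxΩ ((mem_omega_iff h x vx hvx hmx').mpr ⟨hex, hsq⟩)
  have hny : ¬ IsSquare (vy.map (fun v => quadFormPlus m F v)).prod := by
    intro hsq
    exact hyΩ ((mem_omega_iff h y vy hvy hmy').mpr ⟨hey, hsq⟩)
  have hx0 : (vx.map (fun v => quadFormPlus m F v)).prod ≠ 0 := by
    apply List.prod_ne_zero
    intro h0
    rw [List.mem_map] at h0
    obtain ⟨v, hv, hv0⟩ := h0
    exact hvx v hv hv0
  rw [mem_omega_iff h (x * y) (vx ++ vy)
    (by
      intro v hv
      rcases List.mem_append.mp hv with hv | hv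
      · exact hvx v hv
      · exact hvy v hv)
    (by
      rw [Subgroup.coe_mul, Units.val_mul, hmx', hmy', List.map_append, List.prod_append])]
  refine ⟨?_, ?_⟩
  · rw [List.length_append]
    exact hex.add hey
  · rw [List.map_append, List.prod_append]
    exact (isSquare_mul_nonsquare_iff _ _ hx0 hny).mpr hnx


theorem img_one (U : Submodule F (Fin m ⊕ Fin m → F)) : img (1 : GL (Fin m ⊕ Fin m) F) U = U := by
  unfold img
  rw [Units.val_one]
  ext x
  simp

/-- diagonal Levi elements stabilise the standard maximal totally singular subspace -/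
theorem img_levi_dgl (D : Fin m → Fˣ) : img (leviGL m F (dgl F D)) (stdL m F) = stdL m F := by
  apply Submodule.eq_of_le_of_finrank_eq
  · rintro w ⟨x, hx, rfl⟩
    rw [Matrix.mulVecLin_apply, levi_dgl_mulVec, mem_stdL]
    intro i
    have := (mem_stdL m F x).mp hx i
    simp [this]
  · rw [finrank_img]

/-- in odd characteristic there is a class-preserving isometry outside `Ω` stabilising any given
maximal totally singular subspace -/
theorem exists_stab_not_mem [Fintype F] (hm : 1 ≤ m) (h2 : (2 : F) ≠ 0)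
    (h : Fintype.card F ≠ 2 ∨ m ≠ 2) (W : Submodule F (Fin m ⊕ Fin m → F))
    (hW : finrank F W = m) (hW0 : ∀ w ∈ W, quadFormPlus m F w = 0) :
    ∃ x : ↥(isometryGroup F (quadFormPlus m F)), x ∉ Omega F (quadFormPlus m F) ∧
      img (x : GL (Fin m ⊕ Fin m) F) W = W := by
  obtain ⟨ν, hν⟩ := FiniteField.exists_nonsquare (ringChar_ne_two_of_two_ne_zero h2) (F := F)
  have hν0 : ν ≠ 0 := by
    rintro rfl
    exact hν ⟨0, by simp⟩
  obtain ⟨k, hk, hkE⟩ := exists_isometry_map_eq (plusForm m F) (plusForm_nondegenerate m F)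
    (stdL m F) W m (finrank_stdL m F) hW
    (by intro u hu; rw [← plusForm_coe]; exact stdL_singular m F u hu)
    (by intro w hw; rw [← plusForm_coe]; exact hW0 w hw)
  rw [← plusForm_coe] at hk
  set t := levi m F (dgl F (Pi.mulSingle (⟨0, hm⟩ : Fin m) (Units.mk0 ν hν0))) with ht
  have htΩ : t ∉ Omega F (quadFormPlus m F) := by
    intro hmem
    have := (Cfsg.Agent.S2611.result (F := F) hm h
      (dgl F (Pi.mulSingle (⟨0, hm⟩ : Fin m) (Units.mk0 ν hν0)))).mp
      ⟨t, hmem, by rw [ht, levi_val, leviGL_val, Matrix.coe_units_inv]⟩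
    rw [Cfsg.Agent.S2611.det_dgl_mulSingle] at this
    exact hν this
  refine ⟨⟨k, hk⟩ * t * ⟨k, hk⟩⁻¹, ?_, ?_⟩
  · intro hmem
    apply htΩ
    have h3 := (inferInstance : (Omega F (quadFormPlus m F)).Normal).conj_mem _ hmem
      (⟨k, hk⟩⁻¹ : ↥(isometryGroup F (quadFormPlus m F)))
    simpa [mul_assoc] using h3
  · have hkE' : img k (stdL m F) = W := hkE
    show img (k * leviGL m F (dgl F (Pi.mulSingle (⟨0, hm⟩ : Fin m) (Units.mk0 ν hν0))) * k⁻¹) W = W
    rw [img_mul, img_mul]
    have h4 : img k⁻¹ W = stdL m F := by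
      rw [← hkE', ← img_mul, inv_mul_cancel, img_one]
    rw [h4, img_levi_dgl, hkE']


end aux

/-- For the hyperbolic form Σ x_i y_i on F^(2m) over a finite field (m ≥ 1, excluding m = 2 over the field of two elements), Ω (the commutator subgroup of the orthogonal group) acts transitively on each of the two classes of maximal totally singular subspaces: if U and W are m-dimensional totally singular subspaces with m − dim(U ∩ W) even, some element of Ω carries U to W. -/
theorem result {F : Type*} [Field F] [Fintype F] {m : ℕ} (hm : 1 ≤ m) (h : Fintype.card F ≠ 2 ∨ m ≠ 2) (U W : Submodule F (Fin m ⊕ Fin m → F)) (hU : Module.finrank F U = m) (hW : Module.finrank F W = m) (hU0 : ∀ u ∈ U, Cfsg.quadFormPlus m F u = 0) (hW0 : ∀ w ∈ W, Cfsg.quadFormPlus m F w = 0) (he : Even (m - Module.finrank F ↥(U ⊓ W))) : ∃ g : ↥(Cfsg.isometryGroup F (Cfsg.quadFormPlus m F)), g ∈ Cfsg.Omega F (Cfsg.quadFormPlus m F) ∧ U.map (Matrix.mulVecLin ((g : Matrix.GeneralLinearGroup (Fin m ⊕ Fin m)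 F) : Matrix (Fin m ⊕ Fin m) (Fin m ⊕ Fin m) F)) = W := by
  obtain ⟨g, hg, hgU⟩ := exists_isometry_map_eq (plusForm m F) (plusForm_nondegenerate m F)
    U W m hU hW
    (by intro u hu; rw [← plusForm_coe]; exact hU0 u hu)
    (by intro w hw; rw [← plusForm_coe]; exact hW0 w hw)
  rw [← plusForm_coe] at hg
  have hpar : par g = 0 := par_eq_zero_of_map hm g hg U W hU hW hU0 hW0 he hgU
  by_cases h2 : (2 : F) = 0
  · refine ⟨⟨g, hg⟩, ?_, hgU⟩
    rw [Cfsg.Agent.S2630.ker_parHom h2 hm h, MonoidHom.mem_ker]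
    exact hpar
  · by_cases hgΩ : (⟨g, hg⟩ : ↥(isometryGroup F (quadFormPlus m F))) ∈ Omega F (quadFormPlus m F)
    · exact ⟨⟨g, hg⟩, hgΩ, hgU⟩
    · obtain ⟨x, hxΩ, hxW⟩ := exists_stab_not_mem hm h2 h W hW hW0
      have hWW : finrank F ↥(W ⊓ W) = m := by
        rw [(LinearEquiv.ofEq _ _ (inf_idem W)).finrank_eq]
        exact hW
      have hxpar : par (x : GL (Fin m ⊕ Fin m) F) = 0 :=
        par_eq_zero_of_map hm (x : GL (Fin m ⊕ Fin m) F) x.2 W W hW hW hW0 hW0
          (by rw [hWW, Nat.sub_self]; exact ⟨0, rfl⟩) hxW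
      refine ⟨x * ⟨g, hg⟩, mul_mem_omega hm h2 x ⟨g, hg⟩ hxpar hpar hxΩ hgΩ, ?_⟩
      show img ((x : GL (Fin m ⊕ Fin m) F) * g) U = W
      rw [img_mul]
      have : img g U = W := hgU
      rw [this, hxW]

end Cfsg.Agent.S2631
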