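import Cfsg.Statements.S2420
import Mathlib

set_option autoImplicit false
set_option linter.unusedSectionVars false
open scoped MatrixGroups
open Cfsg

namespace Cfsg.Agent.S2420


section general
variable {m α F : Type*} [Fintype m] [DecidableEq m] [Fintype α] [DecidableEq α] [LinearOrder α]
  [Field F] [Fintype F] [DecidableEq F]

/-- reconstruct a block triangular matrix from its diagonal blocks and strictly upper entries -/
def btMk (b : m → α) (D : ∀ a : α, Matrix {i // b i = a} {i // b i = a} F)
    (N : {p : m × m // b p.1 < b p.2} → F) : Matrix m m F :=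
  Matrix.of fun i j =>
    if h : b i = b j then D (b j) ⟨i, h⟩ ⟨j, rfl⟩
    else if h2 : b i < b j then N ⟨(i, j), h2⟩ else 0

theorem btMk_bt (b : m → α) (D : ∀ a : α, Matrix {i // b i = a} {i // b i = a} F)
    (N : {p : m × m // b p.1 < b p.2} → F) : (btMk b D N).BlockTriangular b := by
  intro i j hij
  simp only [btMk, Matrix.of_apply]
  rw [dif_neg (ne_of_gt hij), dif_neg (not_lt_of_gt hij)]

theorem btMk_block (b : m → α) (D : ∀ a : α, Matrix {i // b i = a} {i // b i = a} F)
    (N : {p : m × m // b p.1 < b p.2} → F) (a : α) :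
    (btMk b D N).toSquareBlock b a = D a := by
  ext ⟨i, hi⟩ ⟨j, hj⟩
  subst hj
  simp only [Matrix.toSquareBlock_def, btMk, Matrix.of_apply]
  rw [dif_pos hi]

theorem btMk_det (b : m → α) (D : ∀ a : α, Matrix {i // b i = a} {i // b i = a} F)
    (N : {p : m × m // b p.1 < b p.2} → F) :
    (btMk b D N).det = ∏ a, (D a).det := by
  rw [(btMk_bt b D N).det_fintype]
  exact Finset.prod_congr rfl fun a _ => by rw [btMk_block]

/-- the structural equivalence -/
def btEquiv (b : m → α) :
    {M : Matrix m m F // M.BlockTriangular b ∧ M.det ≠ 0} ≃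
      (∀ a : α, {D : Matrix {i // b i = a} {i // b i = a} F // D.det ≠ 0}) ×
        ({p : m × m // b p.1 < b p.2} → F) where
  toFun M := (fun a => ⟨M.1.toSquareBlock b a, by
      have h := M.2.2
      rw [M.2.1.det_fintype] at h
      exact fun h0 => h (Finset.prod_eq_zero (Finset.mem_univ a) h0)⟩,
    fun p => M.1 p.1.1 p.1.2)
  invFun x := ⟨btMk b (fun a => (x.1 a).1) x.2, btMk_bt _ _ _, by
      rw [btMk_det]
      exact Finset.prod_ne_zero_iff.mpr fun a _ => (x.1 a).2⟩
  left_inv M := by
    apply Subtype.ext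
    ext i j
    simp only [btMk, Matrix.of_apply, Matrix.toSquareBlock_def]
    by_cases h : b i = b j
    · rw [dif_pos h]
    · rw [dif_neg h]
      by_cases h2 : b i < b j
      · rw [dif_pos h2]
      · rw [dif_neg h2]
        exact (M.2.1 (lt_of_le_of_ne (not_lt.mp h2) (Ne.symm h))).symm
  right_inv x := by
    refine Prod.ext ?_ ?_
    · funext a
      apply Subtype.ext
      exact btMk_block b (fun a => (x.1 a).1) x.2 a
    · funext p
      obtain ⟨⟨i, j⟩, hp⟩ := p
      simp only [btMk, Matrix.of_apply]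
      rw [dif_neg (ne_of_lt hp), dif_pos hp]

end general



section comb
variable {n : ℕ} (μ : Fin n → ℕ)

/-- partial sums of the composition -/
def PS (a : ℕ) : ℕ := ∑ k ∈ Finset.univ.filter (fun k : Fin n => k.val < a), μ k

theorem PS_mono {a a' : ℕ} (h : a ≤ a') : PS μ a ≤ PS μ a' := by
  unfold PS
  apply Finset.sum_le_sum_of_subset
  intro k hk
  simp only [Finset.mem_filter, Finset.mem_univ, true_and] at hk ⊢
  omega

theorem PS_succ (a : Fin n) : PS μ (a.val + 1) = PS μ a.val + μ a := by
  unfold PS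
  have : Finset.univ.filter (fun k : Fin n => k.val < a.val + 1)
      = insert a (Finset.univ.filter (fun k : Fin n => k.val < a.val)) := by
    ext k
    simp only [Finset.mem_filter, Finset.mem_univ, true_and, Finset.mem_insert, Fin.ext_iff]
    omega
  rw [this, Finset.sum_insert (by simp), add_comm]

theorem PS_total : PS μ n = ∑ i, μ i := by
  unfold PS
  rw [Finset.filter_true_of_mem (fun k _ => k.2)]

theorem PS_castLE (a : Fin n) : ∑ i : Fin a.val, μ (Fin.castLE a.2.le i) = PS μ a.val := by
  unfold PS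
  have : Finset.univ.filter (fun k : Fin n => k.val < a.val)
      = Finset.univ.map (Fin.castLEEmb a.2.le) := by
    ext k
    simp only [Finset.mem_filter, Finset.mem_univ, true_and, Finset.mem_map, Fin.castLEEmb_apply]
    constructor
    · intro h
      exact ⟨⟨k.val, h⟩, Fin.ext rfl⟩
    · rintro ⟨i, rfl⟩
      exact i.2
  rw [this, Finset.sum_map]
  rfl

theorem PS_le (a : Fin n) : ∑ k ∈ Finset.univ.filter (fun k : Fin n => k ≤ a), μ k = PS μ (a.val + 1) := by
  unfold PS
  congr 1
  ext k
  simp only [Finset.mem_filter, Finset.mem_univ, true_and, Fin.le_def]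
  omega

variable (hμ : ∑ i, μ i = n)

/-- the enumeration of positions by (block, offset) -/
def enum : (Σ a : Fin n, Fin (μ a)) ≃ Fin n := finSigmaFinEquiv.trans (finCongr hμ)

theorem enum_val (x : Σ a : Fin n, Fin (μ a)) : (enum μ hμ x : ℕ) = PS μ x.1.val + x.2.val := by
  unfold enum
  simp only [Equiv.trans_apply, finCongr_apply, Fin.val_cast]
  rw [finSigmaFinEquiv_apply, PS_castLE]

theorem compLabel_enum (x : Σ a : Fin n, Fin (μ a)) : compLabel μ (enum μ hμ x) = x.1.val := by
  unfold compLabel
  have : Finset.univ.filter (fun j : Fin n =>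
      (∑ k ∈ Finset.univ.filter (fun k : Fin n => k ≤ j), μ k) ≤ (enum μ hμ x).val)
      = Finset.univ.filter (fun j : Fin n => j < x.1) := by
    ext j
    simp only [Finset.mem_filter, Finset.mem_univ, true_and]
    rw [PS_le, enum_val]
    constructor
    · intro h
      by_contra hlt
      have h1 : x.1.val + 1 ≤ j.val + 1 := by
        have := not_lt.mp hlt
        have := Fin.le_def.mp this
        omega
      have h2 := PS_mono μ h1
      rw [PS_succ] at h2
      have := x.2.2
      omega
    · intro h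
      have h1 : j.val + 1 ≤ x.1.val := Fin.lt_def.mp h
      have h2 := PS_mono μ h1
      omega
  rw [this]
  have h2 : Finset.univ.filter (fun j : Fin n => j < x.1) = Finset.Iio x.1 := by
    ext j; simp
  rw [h2, Fin.card_Iio]

end comb
section comb2
variable {n : ℕ} (μ : Fin n → ℕ) (hμ : ∑ i, μ i = n)
include hμ

theorem compLabel_lt (i : Fin n) : compLabel μ i < n := by
  have h := compLabel_enum μ hμ ((enum μ hμ).symm i)
  rw [Equiv.apply_symm_apply] at h
  rw [h]
  exact ((enum μ hμ).symm i).1.2

/-- the block label as an element of `Fin n` -/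
def lab (i : Fin n) : Fin n := ⟨compLabel μ i, compLabel_lt μ hμ i⟩

theorem lab_enum (x : Σ a : Fin n, Fin (μ a)) : lab μ hμ (enum μ hμ x) = x.1 :=
  Fin.ext (compLabel_enum μ hμ x)

theorem lab_eq (i : Fin n) : lab μ hμ i = ((enum μ hμ).symm i).1 := by
  have h := lab_enum μ hμ ((enum μ hμ).symm i)
  rwa [Equiv.apply_symm_apply] at h

theorem card_fiber (a : Fin n) : Fintype.card {i : Fin n // lab μ hμ i = a} = μ a := by
  have e1 : {i : Fin n // lab μ hμ i = a} ≃ {s : (Σ a : Fin n, Fin (μ a)) // s.1 = a} :=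
    Equiv.subtypeEquiv (enum μ hμ).symm (fun i => by rw [lab_eq])
  rw [Fintype.card_congr (e1.trans (Equiv.sigmaSubtype a)), Fintype.card_fin]

theorem sum_ite_lt (a : Fin n) :
    (∑ x : (Σ a : Fin n, Fin (μ a)), if x.1 < a then 1 else 0) = PS μ a.val := by
  rw [Fintype.sum_sigma]
  unfold PS
  rw [Finset.sum_filter]
  apply Finset.sum_congr rfl
  intro a' _
  by_cases h : a' < a
  · have h' : a'.val < a.val := h
    simp [h, h']
  · have h' : ¬ a'.val < a.val := h
    simp [h, h']

theorem card_pairs :
    Fintype.card {p : Fin n × Fin n // lab μ hμ p.1 < lab μ hμ p.2} = ∑ a : Fin n, μ a * PS μ a.val := by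
  rw [Fintype.card_subtype, Finset.card_filter, Fintype.sum_prod_type_right]
  rw [← (enum μ hμ).sum_comp]
  rw [Fintype.sum_sigma]
  apply Finset.sum_congr rfl
  intro a _
  have : ∀ t : Fin (μ a), (∑ i : Fin n, if lab μ hμ (i, enum μ hμ ⟨a, t⟩).1 < lab μ hμ (i, enum μ hμ ⟨a, t⟩).2
      then 1 else 0) = PS μ a.val := by
    intro t
    rw [← (enum μ hμ).sum_comp]
    simp only [lab_enum]
    exact sum_ite_lt μ hμ a
  rw [Finset.sum_congr rfl (fun t _ => this t)]
  simp

theorem sum_pos :
    ∑ j : Fin n, j.val = (∑ a : Fin n, μ a * PS μ a.val) + ∑ a : Fin n, ∑ t : Fin (μ a), t.val := by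
  rw [← (enum μ hμ).sum_comp, Fintype.sum_sigma, ← Finset.sum_add_distrib]
  apply Finset.sum_congr rfl
  intro a _
  simp only [enum_val]
  rw [Finset.sum_add_distrib]
  simp

end comb2



section arith

theorem geo (r m : ℕ) : r * ∑ l ∈ Finset.range m, (r + 1) ^ l + 1 = (r + 1) ^ m := by
  induction m with
  | zero => simp
  | succ m ih =>
    rw [Finset.sum_range_succ, mul_add, pow_succ, ← ih]
    ring

/-- the q-factorial -/
def Phi (q k : ℕ) : ℕ := ∏ j ∈ Finset.range k, ∑ l ∈ Finset.range (j + 1), q ^ l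

theorem glcard_eq (r k : ℕ) :
    ∏ i : Fin k, ((r + 1) ^ k - (r + 1) ^ i.val) =
      (r + 1) ^ (∑ i : Fin k, i.val) * (r ^ k * Phi (r + 1) k) := by
  rw [Fin.prod_univ_eq_prod_range (fun i => (r + 1) ^ k - (r + 1) ^ i) k,
    Fin.sum_univ_eq_sum_range (fun i => i) k, ← Finset.prod_pow_eq_pow_sum]
  unfold Phi
  have h1 : ∀ i ∈ Finset.range k, (r + 1) ^ k - (r + 1) ^ i
      = (r + 1) ^ i * (r * ∑ l ∈ Finset.range (k - 1 - i + 1), (r + 1) ^ l) := by
    intro i hi
    have hi' : i < k := Finset.mem_range.mp hi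
    have h2 : k - 1 - i + 1 = k - i := by omega
    rw [h2]
    have h3 := geo r (k - i)
    have h4 : (r + 1) ^ k = (r + 1) ^ i * (r + 1) ^ (k - i) := by
      rw [← pow_add]; congr 1; omega
    rw [h4, ← h3, mul_add, mul_one, Nat.add_sub_cancel]
  rw [Finset.prod_congr rfl h1, Finset.prod_mul_distrib]
  congr 1
  rw [Finset.prod_range_reflect (fun j => r * ∑ l ∈ Finset.range (j + 1), (r + 1) ^ l) k,
    Finset.prod_mul_distrib, Finset.prod_const, Finset.card_range]

end arith


section assembly
variable {F : Type*} [Field F] [Fintype F]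

theorem card_detNeZero (k : Type*) [Fintype k] [DecidableEq k] (r : ℕ) (hk : Fintype.card k = r) :
    Nat.card {D : Matrix k k F // D.det ≠ 0}
      = ∏ i : Fin r, (Fintype.card F ^ r - Fintype.card F ^ i.val) := by
  subst hk
  let e : k ≃ Fin (Fintype.card k) := Fintype.equivFin k
  have e1 : {D : Matrix k k F // D.det ≠ 0} ≃ GL (Fin (Fintype.card k)) F :=
    { toFun := fun D => Matrix.GeneralLinearGroup.mkOfDetNeZero (Matrix.reindex e e D.1)
        (by rw [Matrix.det_reindex_self]; exact D.2)
      invFun := fun g => ⟨Matrix.reindex e.symm e.symm g.1, by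
        rw [Matrix.det_reindex_self]
        intro h
        have := (Matrix.isUnit_iff_isUnit_det _).mp g.isUnit
        rw [h] at this
        exact not_isUnit_zero this⟩
      left_inv := fun D => by
        apply Subtype.ext
        ext i j
        simp [Matrix.GeneralLinearGroup.mkOfDetNeZero]
      right_inv := fun g => by
        apply Units.ext
        ext i j
        simp [Matrix.GeneralLinearGroup.mkOfDetNeZero] }
  rw [Nat.card_congr e1, Matrix.card_GL_field]

theorem card_parabolic {n : ℕ} (μ : Fin n → ℕ) (hμ : ∑ i, μ i = n) :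
    Nat.card (Cfsg.parabolicGL n F μ) =
      (∏ a : Fin n, ∏ i : Fin (μ a), (Fintype.card F ^ (μ a) - Fintype.card F ^ i.val)) *
        Fintype.card F ^ (∑ a : Fin n, μ a * PS μ a.val) := by
  classical
  have e1 : Cfsg.parabolicGL n F μ ≃
      {M : Matrix (Fin n) (Fin n) F // M.BlockTriangular (lab μ hμ) ∧ M.det ≠ 0} :=
    { toFun := fun g => ⟨g.1.1, fun i j h => g.2 h, by
        intro h
        have := (Matrix.isUnit_iff_isUnit_det _).mp g.1.isUnit
        rw [h] at this
        exact not_isUnit_zero this⟩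
      invFun := fun M => ⟨Matrix.GeneralLinearGroup.mkOfDetNeZero M.1 M.2.2, fun i j h => M.2.1 h⟩
      left_inv := fun g => by
        apply Subtype.ext
        apply Units.ext
        rfl
      right_inv := fun M => by
        apply Subtype.ext
        rfl }
  rw [Nat.card_congr (e1.trans (btEquiv (lab μ hμ))), Nat.card_prod, Nat.card_pi, Nat.card_fun]
  congr 1
  · apply Finset.prod_congr rfl
    intro a _
    exact card_detNeZero _ (μ a) (card_fiber μ hμ a)
  · rw [Nat.card_eq_fintype_card, Nat.card_eq_fintype_card, card_pairs μ hμ]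

end assembly

/-- The number of partial flags of a given type: for a composition `μ` of `n` (with `n` parts, zeros allowed) and a field with `q` elements, the index of the standard parabolic subgroup `P_μ` in `GL_n(q)` times `∏_i {μ_i}` equals `{n}`, where `{r}` denotes the product over `k = 1, …, r` of the q-integers `1 + q + ⋯ + q^(k−1)`. -/
theorem result {F : Type*} [Field F] [Fintype F] {q : ℕ} (hq : Fintype.card F = q) {n : ℕ} (μ : Fin n → ℕ) (hμ : ∑ i, μ i = n) :
    Nat.card (GL (Fin n) F ⧸ Cfsg.parabolicGL n F μ) * ∏ i : Fin n, ∏ j ∈ Finset.range (μ i), ∑ l ∈ Finset.range (j + 1), q ^ l =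
      ∏ j ∈ Finset.range n, ∑ l ∈ Finset.range (j + 1), q ^ l := by
  classical
  subst hq
  have hlag := Subgroup.card_eq_card_quotient_mul_card_subgroup (Cfsg.parabolicGL n F μ)
  rw [Matrix.card_GL_field, card_parabolic μ hμ] at hlag
  obtain ⟨r, hr⟩ : ∃ r, Fintype.card F = r + 1 := ⟨Fintype.card F - 1, by
    have := Fintype.card_pos (α := F); omega⟩
  have hr1 : 1 ≤ r := by
    have := Fintype.one_lt_card (α := F); omega
  rw [hr] at hlag ⊢
  rw [glcard_eq, Finset.prod_congr rfl (fun a _ => glcard_eq r (μ a)), Finset.prod_mul_distrib,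
    Finset.prod_mul_distrib, Finset.prod_pow_eq_pow_sum, Finset.prod_pow_eq_pow_sum, hμ,
    sum_pos μ hμ, pow_add] at hlag
  have hK : 0 < (r + 1) ^ (∑ a : Fin n, μ a * PS μ a.val) *
      (r + 1) ^ (∑ a : Fin n, ∑ t : Fin (μ a), t.val) * r ^ n := by positivity
  apply Nat.eq_of_mul_eq_mul_left hK
  unfold Phi at hlag
  rw [← mul_assoc, ← mul_assoc] at hlag
  rw [hlag]
  ring

end Cfsg.Agent.S2420
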