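import Cfsg.Statements.S2424
import Cfsg.Agent.S2420

set_option autoImplicit false
set_option linter.unusedSectionVars false
open scoped MatrixGroups
open Cfsg

namespace Cfsg.Agent.S2424


open Polynomial

/-- the q-integer `1 + q + ... + q^(r-1)` -/
def Qn (q r : ℕ) : ℕ := ∑ l ∈ Finset.range r, q ^ l

/-- the q-factorial -/
def Qf (q r : ℕ) : ℕ := ∏ j ∈ Finset.range r, Qn q (j + 1)

theorem Qn_add (q a b : ℕ) : Qn q (a + b) = Qn q a + q ^ a * Qn q b := by
  unfold Qn
  rw [Finset.sum_range_add, Finset.mul_sum]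
  congr 1
  apply Finset.sum_congr rfl
  intro l _
  rw [pow_add]

theorem Qf_succ (q r : ℕ) : Qf q (r + 1) = Qf q r * Qn q (r + 1) := by
  unfold Qf
  rw [Finset.prod_range_succ]

/-- `∏_{t<k} Q(λ - t) * Q!(λ - k) = Q!(λ)` for `k ≤ λ` -/
theorem falling_mul (q lam k : ℕ) (hk : k ≤ lam) :
    (∏ t ∈ Finset.range k, Qn q (lam - t)) * Qf q (lam - k) = Qf q lam := by
  induction k with
  | zero => simp
  | succ k ih =>
    rw [Finset.prod_range_succ, mul_assoc]
    have h1 : lam - k = (lam - (k + 1)) + 1 := by omega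
    have h2 : Qn q (lam - k) * Qf q (lam - (k + 1)) = Qf q (lam - k) := by
      rw [h1, Qf_succ, ← h1, mul_comm]
    rw [h2]
    exact ih (by omega)

/-- the "q-falling factorial" polynomials -/
noncomputable def fp (q k : ℕ) : ℂ[X] := ∏ t ∈ Finset.range k, (X - C ((Qn q t : ℕ) : ℂ))

theorem fp_monic (q k : ℕ) : (fp q k).Monic := by
  unfold fp
  apply monic_prod_of_monic
  intro t _
  exact monic_X_sub_C _

theorem fp_natDegree (q k : ℕ) : (fp q k).natDegree = k := by
  unfold fp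
  rw [natDegree_prod_of_monic _ _ (fun t _ => monic_X_sub_C _),
    Finset.sum_congr rfl (fun t _ => natDegree_X_sub_C _)]
  simp

theorem fp_eval_of_lt (q lam k : ℕ) (hk : lam < k) : (fp q k).eval ((Qn q lam : ℕ) : ℂ) = 0 := by
  unfold fp
  rw [eval_prod]
  apply Finset.prod_eq_zero (Finset.mem_range.mpr hk)
  simp

theorem fp_eval_of_le (q lam k : ℕ) (hk : k ≤ lam) :
    (fp q k).eval ((Qn q lam : ℕ) : ℂ) =
      ((q ^ (∑ t ∈ Finset.range k, t) * ∏ t ∈ Finset.range k, Qn q (lam - t) : ℕ) : ℂ) := by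
  unfold fp
  rw [eval_prod, ← Finset.prod_pow_eq_pow_sum, ← Finset.prod_mul_distrib, Nat.cast_prod]
  apply Finset.prod_congr rfl
  intro t ht
  have ht' : t < k := Finset.mem_range.mp ht
  have h1 : lam = t + (lam - t) := by omega
  have h2 : Qn q lam = Qn q t + q ^ t * Qn q (lam - t) := by
    conv_lhs => rw [h1]
    exact Qn_add q t (lam - t)
  simp only [eval_sub, eval_X, eval_C]
  rw [h2]
  push_cast
  ring

theorem six_mul_sum (n : ℕ) :
    6 * ∑ j ∈ Finset.range n, ∑ t ∈ Finset.range j, t = n * (n - 1) * (n - 2) := by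
  induction n with
  | zero => simp
  | succ n ih =>
    rw [Finset.sum_range_succ, mul_add, ih]
    have h := Finset.sum_range_id_mul_two n
    have h3 : 6 * ∑ t ∈ Finset.range n, t = 3 * (n * (n - 1)) := by rw [← h]; ring
    rw [h3]
    cases n with
    | zero => simp
    | succ m =>
      cases m with
      | zero => simp
      | succ k =>
        simp only [Nat.add_sub_cancel]
        have : k + 1 + 1 - 2 = k := by omega
        rw [this]
        have : k + 1 + 1 + 1 - 2 = k + 1 := by omega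
        rw [this]
        ring


theorem fixedPointCharacter_one {G : Type*} [Group G] (H : Subgroup G) :
    Cfsg.fixedPointCharacter H 1 = (Nat.card (G ⧸ H) : ℂ) := by
  unfold Cfsg.fixedPointCharacter
  congr 1
  have : MulAction.fixedBy (G ⧸ H) (1 : G) = Set.univ := by
    ext x
    simp
  rw [this]
  exact Nat.card_congr (Equiv.Set.univ _)

section main
variable {F : Type*} [Field F] [Fintype F] {q : ℕ} (hq : Fintype.card F = q) {n : ℕ}
  (ν : Fin n → ℕ) (hsum : ∑ i, ν i = n)
include hq hsum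

/-- the contribution of one permutation -/
theorem term_eq (κ : Equiv.Perm (Fin n)) :
    (if ∀ i : Fin n, (κ i).val ≤ ν i + i.val then
        ((Equiv.Perm.sign κ : ℤ) : ℂ) *
          Cfsg.fixedPointCharacter (Cfsg.parabolicGL n F fun i => ν i + i.val - (κ i).val) 1
      else 0) * (q : ℂ) ^ (n * (n - 1) * (n - 2) / 6) *
        ∏ i : Fin n, ((Qf q (ν i + i.val) : ℕ) : ℂ) =
      ((Qf q n : ℕ) : ℂ) * (((Equiv.Perm.sign κ : ℤ) : ℂ) *
        ∏ i : Fin n, (fp q (κ i).val).eval ((Qn q (ν i + i.val) : ℕ) : ℂ)) := by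
  by_cases hadm : ∀ i : Fin n, (κ i).val ≤ ν i + i.val
  · rw [if_pos hadm, fixedPointCharacter_one]
    -- the composition sums to n
    have hμ : ∑ i : Fin n, (ν i + i.val - (κ i).val) = n := by
      have h1 : ∑ i : Fin n, (ν i + i.val - (κ i).val) + ∑ i : Fin n, (κ i).val
          = ∑ i : Fin n, (ν i + i.val) := by
        rw [← Finset.sum_add_distrib]
        apply Finset.sum_congr rfl
        intro i _
        have := hadm i
        omega
      have h2 : ∑ i : Fin n, (κ i).val = ∑ i : Fin n, i.val :=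
        Equiv.sum_comp κ (fun i : Fin n => i.val)
      rw [h2, Finset.sum_add_distrib, hsum] at h1
      omega
    have hidx := Cfsg.Agent.S2420.result hq (fun i => ν i + i.val - (κ i).val) hμ
    have hidx' : Nat.card (GL (Fin n) F ⧸ Cfsg.parabolicGL n F fun i => ν i + i.val - (κ i).val) *
        ∏ i : Fin n, Qf q (ν i + i.val - (κ i).val) = Qf q n := hidx
    -- evaluate the polynomials
    have heval : ∀ i : Fin n, (fp q (κ i).val).eval ((Qn q (ν i + i.val) : ℕ) : ℂ) =
        ((q ^ (∑ t ∈ Finset.range (κ i).val, t) *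
          ∏ t ∈ Finset.range (κ i).val, Qn q (ν i + i.val - t) : ℕ) : ℂ) :=
      fun i => fp_eval_of_le q _ _ (hadm i)
    rw [Finset.prod_congr rfl (fun i _ => heval i)]
    have hexp : ∑ i : Fin n, ∑ t ∈ Finset.range (κ i).val, t = n * (n - 1) * (n - 2) / 6 := by
      rw [Equiv.sum_comp κ (fun i : Fin n => ∑ t ∈ Finset.range i.val, t),
        Fin.sum_univ_eq_sum_range (fun j => ∑ t ∈ Finset.range j, t) n]
      have := six_mul_sum n
      omega
    have hfall : ∀ i : Fin n, (∏ t ∈ Finset.range (κ i).val, Qn q (ν i + i.val - t)) *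
        Qf q (ν i + i.val - (κ i).val) = Qf q (ν i + i.val) :=
      fun i => falling_mul q _ _ (hadm i)
    rw [← hexp]
    have key : Nat.card (GL (Fin n) F ⧸ Cfsg.parabolicGL n F fun i => ν i + i.val - (κ i).val) *
        q ^ (∑ i : Fin n, ∑ t ∈ Finset.range (κ i).val, t) * ∏ i : Fin n, Qf q (ν i + i.val) =
        Qf q n * ∏ i : Fin n, (q ^ (∑ t ∈ Finset.range (κ i).val, t) *
          ∏ t ∈ Finset.range (κ i).val, Qn q (ν i + i.val - t)) := by
      rw [← hidx', Finset.prod_mul_distrib, Finset.prod_pow_eq_pow_sum,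
        ← Finset.prod_congr rfl (fun i _ => hfall i), Finset.prod_mul_distrib]
      ring
    have keyC := congrArg (fun x : ℕ => (x : ℂ)) key
    simp only [Nat.cast_mul, Nat.cast_prod, Nat.cast_pow] at keyC
    simp only [Nat.cast_mul, Nat.cast_prod, Nat.cast_pow]
    linear_combination ((Equiv.Perm.sign κ : ℤ) : ℂ) * keyC
  · rw [if_neg hadm, zero_mul, zero_mul]
    push Not at hadm
    obtain ⟨i, hi⟩ := hadm
    have : (fp q (κ i).val).eval ((Qn q (ν i + i.val) : ℕ) : ℂ) = 0 := fp_eval_of_lt q _ _ hi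
    rw [Finset.prod_eq_zero (Finset.mem_univ i) this, mul_zero, mul_zero]

end main

/-- Degrees of the partition-indexed irreducible characters of `GL_n(q)`: for `ν` a partition of `n` with `n` non-decreasing parts `ν_0 ≤ ⋯ ≤ ν_{n−1}` (zeros allowed; positions counted from 0) and `λ_i = ν_i + i`, write `Q(r)` for the q-integer `1 + q + ⋯ + q^(r−1)` and `Q!(r)` for `Q(1)Q(2)⋯Q(r)`; then the degree `γ(ν)` of the character satisfies `γ(ν) · q^(n(n−1)(n−2)/6) · ∏_i Q!(λ_i) = Q!(n) · ∏_{i<j} (Q(λ_j) − Q(λ_i))`. For `ν = (1,…,1)` this gives the Steinberg degree `q^(n(n−1)/2)`, for `ν = (0,…,0,n)` degree 1. -/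
theorem result {F : Type*} [Field F] [Fintype F] {q : ℕ} (hq : Fintype.card F = q) {n : ℕ} (ν : Fin n → ℕ) (hmono : Monotone ν) (hsum : ∑ i, ν i = n) :
    Cfsg.unipotentCharacterGL n F ν 1 * (q : ℂ) ^ (n * (n - 1) * (n - 2) / 6) *
        ∏ i : Fin n, ∏ j ∈ Finset.range (ν i + i.val), ((∑ l ∈ Finset.range (j + 1), q ^ l : ℕ) : ℂ) =
      (∏ j ∈ Finset.range n, ((∑ l ∈ Finset.range (j + 1), q ^ l : ℕ) : ℂ)) *
        ∏ i : Fin n, ∏ j ∈ Finset.univ.filter (fun j : Fin n => i < j),
          (((∑ l ∈ Finset.range (ν j + j.val), q ^ l : ℕ) : ℂ) - ((∑ l ∈ Finset.range (ν i + i.val), q ^ l : ℕ) : ℂ)) := by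
  have hA : ∀ i : Fin n, (∏ j ∈ Finset.range (ν i + i.val), ((∑ l ∈ Finset.range (j + 1), q ^ l : ℕ) : ℂ))
      = ((Qf q (ν i + i.val) : ℕ) : ℂ) := by
    intro i
    unfold Qf Qn
    rw [Nat.cast_prod]
  have hB : (∏ j ∈ Finset.range n, ((∑ l ∈ Finset.range (j + 1), q ^ l : ℕ) : ℂ)) = ((Qf q n : ℕ) : ℂ) := by
    unfold Qf Qn
    rw [Nat.cast_prod]
  rw [Finset.prod_congr rfl (fun i _ => hA i), hB]
  unfold Cfsg.unipotentCharacterGL
  rw [Finset.sum_mul, Finset.sum_mul, Finset.sum_congr rfl (fun κ _ => term_eq hq ν hsum κ),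
    ← Finset.mul_sum]
  congr 1
  -- the determinant
  have hdet : ∑ κ : Equiv.Perm (Fin n), ((Equiv.Perm.sign κ : ℤ) : ℂ) *
      ∏ i : Fin n, (fp q (κ i).val).eval ((Qn q (ν i + i.val) : ℕ) : ℂ) =
      (Matrix.of (fun i j : Fin n => (fp q j.val).eval ((Qn q (ν i + i.val) : ℕ) : ℂ))).det := by
    rw [← Matrix.det_transpose, Matrix.det_apply']
    rfl
  rw [hdet, ← Matrix.det_eval_matrixOfPolynomials_eq_det_vandermonde
    (fun i : Fin n => ((Qn q (ν i + i.val) : ℕ) : ℂ)) (fun j : Fin n => fp q j.val)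
    (fun j => fp_natDegree q j.val) (fun j => fp_monic q j.val), Matrix.det_vandermonde]
  apply Finset.prod_congr rfl
  intro i _
  have : Finset.univ.filter (fun j : Fin n => i < j) = Finset.Ioi i := by
    ext j; simp
  rw [this]
  rfl

end Cfsg.Agent.S2424
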