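import Cfsg.Statements.S2325
import Cfsg.Agent.Lib.Helper39.SL2Odd
-- import your own Cfsg.Agent.* helpers here

set_option autoImplicit false
open Cfsg

namespace Cfsg.Agent.S2325

open Matrix Polynomial Cfsg.Agent.Lib.Helper39

variable {F : Type*} [Field F]

theorem two_ne_zero_of_odd [Fintype F] (hodd : Odd (Fintype.card F)) : (2 : F) ≠ 0 := by
  have hchar : ringChar F ≠ 2 := by
    intro h
    have := FiniteField.even_card_iff_char_two.mp h
    rcases hodd with ⟨k, hk⟩
    omega
  exact Ring.two_ne_zero hchar

theorem exists_norm_eq [Fintype F] (hodd : Odd (Fintype.card F)) (t c : F) (ht : t ^ 2 ≠ 4) :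
    ∃ x y : F, x ^ 2 + t * x * y + y ^ 2 = c := by
  have h2 : (2 : F) ≠ 0 := two_ne_zero_of_odd hodd
  have ha : (4 - t ^ 2 : F) ≠ 0 := fun h => ht (by linear_combination -h)
  have hf : degree (C (1 : F) * X ^ 2 + C 0 * X + C 0) = 2 := degree_quadratic one_ne_zero
  have hg : degree (C (4 - t ^ 2 : F) * X ^ 2 + C 0 * X + C (-(4 * c))) = 2 := degree_quadratic ha
  have hR : Fintype.card F % 2 = 1 := Nat.odd_iff.mp hodd
  obtain ⟨a, b, hab⟩ := FiniteField.exists_root_sum_quadratic hf hg hR
  simp only [eval_add, eval_mul, eval_C, eval_pow, eval_X, one_mul, zero_mul, add_zero] at hab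
  refine ⟨(a - t * b) / 2, b, ?_⟩
  field_simp
  linear_combination hab

end Cfsg.Agent.S2325

namespace Cfsg.Agent.S2325

open Matrix Polynomial Cfsg.Agent.Lib.Helper39

variable {F : Type*} [Field F]

/-- sign -/
def sgn (F : Type*) [Field F] (b : Bool) : F := if b then 1 else -1

theorem sgn_sq (b : Bool) : (sgn F b) ^ 2 = 1 := by
  cases b <;> simp [sgn]

/-- central elements -/
def cen (F : Type*) [Field F] (b : Bool) : Matrix.SpecialLinearGroup (Fin 2) F := if b then 1 else -1

theorem cen_coe (b : Bool) : ((cen F b : Matrix.SpecialLinearGroup (Fin 2) F) : Matrix (Fin 2) (Fin 2) F) =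
    Matrix.scalar (Fin 2) (sgn F b) := by
  cases b
  · ext i j
    fin_cases i <;> fin_cases j <;> simp [cen, sgn]
  · simp [cen, sgn]

/-- square class representative -/
def rep (ν : Fˣ) (n : Bool) : Fˣ := if n then 1 else ν

/-- the class map -/
def classMap [Fintype F] [DecidableEq F] (ν : Fˣ) :
    Bool ⊕ (↥(({2, -2} : Finset F)ᶜ) ⊕ (Bool × Bool)) → ConjClasses (Matrix.SpecialLinearGroup (Fin 2) F)
  | Sum.inl b => ConjClasses.mk (cen F b)
  | Sum.inr (Sum.inl t) => ConjClasses.mk (compSLd (t : F) 1)
  | Sum.inr (Sum.inr (s, n)) => ConjClasses.mk (compSLd (2 * sgn F s) (rep ν n))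

theorem cen_isConj_iff (b : Bool) (g : Matrix.SpecialLinearGroup (Fin 2) F) :
    IsConj (cen F b) g ↔ g = cen F b := by
  have hc : ∀ P : Matrix.SpecialLinearGroup (Fin 2) F, P * cen F b = cen F b * P := by
    intro P
    cases b <;> simp [cen]
  constructor
  · intro h
    rw [isConj_iff] at h
    obtain ⟨P, hP⟩ := h
    rw [hc, mul_assoc, mul_inv_cancel, mul_one] at hP
    exact hP.symm
  · rintro rfl
    exact IsConj.refl _

theorem isSquare_of_isConj (ε : F) (hε : ε ^ 2 = 1) (δ δ' : Fˣ)
    (h : IsConj (compSLd (2 * ε) δ) (compSLd (2 * ε) δ')) : IsSquare ((δ : F) * (δ' : F)) := by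
  obtain ⟨x, y, hxy⟩ := norm_of_isConj_compSLd _ _ _ h
  have hδ' : (δ' : F) ≠ 0 := δ'.ne_zero
  refine ⟨(x + ε * y) * (δ' : F), ?_⟩
  have : (x + ε * y) ^ 2 = (δ : F) * (δ' : F)⁻¹ := by
    rw [← hxy]
    linear_combination (y ^ 2) * hε
  calc (δ : F) * (δ' : F) = ((δ : F) * (δ' : F)⁻¹) * (δ' : F) ^ 2 := by field_simp
    _ = (x + ε * y) ^ 2 * (δ' : F) ^ 2 := by rw [this]
    _ = _ := by ring

theorem classMap_injective [Fintype F] [DecidableEq F] (hodd : Odd (Fintype.card F)) (ν : Fˣ) (hν : ¬ IsSquare (ν : F)) :
    Function.Injective (classMap ν) := by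
  have h2 : (2 : F) ≠ 0 := two_ne_zero_of_odd hodd
  intro x y hxy
  rcases x with b | t | ⟨s, n⟩ <;> rcases y with b' | t' | ⟨s', n'⟩ <;>
    simp only [classMap, ConjClasses.mk_eq_mk_iff_isConj] at hxy
  · rw [cen_isConj_iff] at hxy
    have := congrArg (fun x : Matrix.SpecialLinearGroup (Fin 2) F => (x : Matrix (Fin 2) (Fin 2) F) 0 0) hxy
    simp only [cen_coe] at this
    cases b <;> cases b' <;> simp [sgn] at this ⊢
    · apply h2; linear_combination this
    · apply h2; linear_combination -this
  · exfalso
    rw [cen_isConj_iff] at hxy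
    have := congrArg (fun x : Matrix.SpecialLinearGroup (Fin 2) F => (x : Matrix (Fin 2) (Fin 2) F) 0 1) hxy
    simp [cen_coe] at this
  · exfalso
    rw [cen_isConj_iff] at hxy
    have := congrArg (fun x : Matrix.SpecialLinearGroup (Fin 2) F => (x : Matrix (Fin 2) (Fin 2) F) 0 1) hxy
    simp [cen_coe] at this
  · exfalso
    rw [isConj_comm, cen_isConj_iff] at hxy
    have := congrArg (fun x : Matrix.SpecialLinearGroup (Fin 2) F => (x : Matrix (Fin 2) (Fin 2) F) 0 1) hxy
    simp [cen_coe] at this
  · have := trace_eq_of_isConj_SL hxy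
    rw [compSLd_trace, compSLd_trace] at this
    congr 2
    exact Subtype.ext this
  · exfalso
    have := trace_eq_of_isConj_SL hxy
    rw [compSLd_trace, compSLd_trace] at this
    have ht := t.2
    simp only [Finset.mem_compl, Finset.mem_insert, Finset.mem_singleton, not_or] at ht
    cases s' <;> simp [sgn] at this
    · exact ht.2 this
    · exact ht.1 this
  · exfalso
    rw [isConj_comm, cen_isConj_iff] at hxy
    have := congrArg (fun x : Matrix.SpecialLinearGroup (Fin 2) F => (x : Matrix (Fin 2) (Fin 2) F) 0 1) hxy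
    simp [cen_coe] at this
  · exfalso
    have := trace_eq_of_isConj_SL hxy
    rw [compSLd_trace, compSLd_trace] at this
    have ht := t'.2
    simp only [Finset.mem_compl, Finset.mem_insert, Finset.mem_singleton, not_or] at ht
    cases s <;> simp [sgn] at this
    · exact ht.2 this.symm
    · exact ht.1 this.symm
  · have htr := trace_eq_of_isConj_SL hxy
    rw [compSLd_trace, compSLd_trace] at htr
    have hs : s = s' := by
      cases s <;> cases s' <;> simp [sgn] at htr ⊢
      · have h4 : (2 : F) * 2 = 0 := by linear_combination -htr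
        exact h2 (mul_self_eq_zero.mp h4)
      · have h4 : (2 : F) * 2 = 0 := by linear_combination htr
        exact h2 (mul_self_eq_zero.mp h4)
    subst hs
    have hsq := isSquare_of_isConj (sgn F s) (sgn_sq s) _ _ hxy
    have hn : n = n' := by
      cases n <;> cases n' <;> simp [rep] at hsq ⊢
      · exact hν hsq
      · exact hν hsq
    rw [hn]

end Cfsg.Agent.S2325

namespace Cfsg.Agent.S2325

open Matrix Polynomial Cfsg.Agent.Lib.Helper39

variable {F : Type*} [Field F]

theorem isSquare_mul_of_not [Fintype F] [DecidableEq F] (a b : F) (ha : ¬ IsSquare a) (hb : ¬ IsSquare b) :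
    IsSquare (a * b) := by
  have ha0 : a ≠ 0 := fun h => ha (by rw [h]; exact IsSquare.zero)
  have hb0 : b ≠ 0 := fun h => hb (by rw [h]; exact IsSquare.zero)
  rw [← quadraticChar_one_iff_isSquare (mul_ne_zero ha0 hb0), map_mul,
    quadraticChar_neg_one_iff_not_isSquare.mpr ha, quadraticChar_neg_one_iff_not_isSquare.mpr hb]
  norm_num

theorem classMap_surjective [Fintype F] [DecidableEq F] (hodd : Odd (Fintype.card F)) (ν : Fˣ) (hν : ¬ IsSquare (ν : F)) :
    Function.Surjective (classMap ν) := by
  have h2 : (2 : F) ≠ 0 := two_ne_zero_of_odd hodd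
  intro c
  obtain ⟨g, rfl⟩ := ConjClasses.exists_rep c
  by_cases hg : IsScalar2 (g : Matrix (Fin 2) (Fin 2) F)
  · obtain ⟨a, ha⟩ := (isScalar2_iff _).mp hg
    have hdet := g.det_coe
    rw [ha] at hdet
    simp only [Matrix.det_fin_two, Matrix.scalar_apply, Matrix.diagonal_apply_eq, ne_eq,
      Fin.isValue, zero_ne_one, not_false_eq_true, Matrix.diagonal_apply_ne, one_ne_zero,
      mul_zero, sub_zero] at hdet
    have ha1 : a = 1 ∨ a = -1 := by
      have : (a - 1) * (a + 1) = 0 := by linear_combination hdet
      rcases mul_eq_zero.mp this with h | h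
      · left; linear_combination h
      · right; linear_combination h
    rcases ha1 with rfl | rfl
    · refine ⟨Sum.inl true, ?_⟩
      simp only [classMap]
      congr 1
      apply Subtype.ext
      rw [ha, cen_coe]
      simp [sgn]
    · refine ⟨Sum.inl false, ?_⟩
      simp only [classMap]
      congr 1
      apply Subtype.ext
      rw [ha, cen_coe]
      simp [sgn]
  · obtain ⟨δ, hδ⟩ := exists_isConj_compSLd g hg
    set t := (g : Matrix (Fin 2) (Fin 2) F).trace with ht
    have hsq_case : ∀ s : Bool, t = 2 * sgn F s → ∃ i, classMap ν i = ConjClasses.mk g := by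
      intro s hts
      by_cases hsq : IsSquare (δ : F)
      · obtain ⟨r, hr⟩ := hsq
        have hr0 : r ≠ 0 := by
          intro h
          rw [h, mul_zero] at hr
          exact δ.ne_zero hr
        refine ⟨Sum.inr (Sum.inr (s, true)), ?_⟩
        simp only [classMap, rep, if_true]
        rw [ConjClasses.mk_eq_mk_iff_isConj, ← hts]
        have h1 := isConj_compSLd_sq t 1 (Units.mk0 r hr0)
        have h2 : (1 : Fˣ) * (Units.mk0 r hr0) ^ 2 = δ := by
          apply Units.ext
          simp [hr, pow_two]
        rw [h2] at h1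
        exact h1.trans hδ
      · obtain ⟨r, hr⟩ := isSquare_mul_of_not _ _ hsq hν
        have hr0 : r ≠ 0 := by
          intro h
          rw [h, mul_zero] at hr
          exact (mul_ne_zero δ.ne_zero ν.ne_zero) hr
        refine ⟨Sum.inr (Sum.inr (s, false)), ?_⟩
        simp only [classMap, rep]
        rw [ConjClasses.mk_eq_mk_iff_isConj, ← hts]
        have hν0 : (ν : F) ≠ 0 := ν.ne_zero
        have h1 := isConj_compSLd_sq t ν (Units.mk0 (r / (ν : F)) (div_ne_zero hr0 hν0))
        have h2 : ν * (Units.mk0 (r / (ν : F)) (div_ne_zero hr0 hν0)) ^ 2 = δ := by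
          apply Units.ext
          simp only [Units.val_mul, Units.val_pow_eq_pow_val, Units.val_mk0]
          field_simp
          linear_combination -hr
        rw [h2] at h1
        simpa using h1.trans hδ
    by_cases ht2 : t = 2
    · exact hsq_case true (by simp [sgn, ht2])
    · by_cases htm2 : t = -2
      · exact hsq_case false (by simp [sgn, htm2])
      · have ht4 : t ^ 2 ≠ 4 := by
          intro h
          have : (t - 2) * (t + 2) = 0 := by linear_combination h
          rcases mul_eq_zero.mp this with h | h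
          · exact ht2 (by linear_combination h)
          · exact htm2 (by linear_combination h)
        obtain ⟨x, y, hxy⟩ := exists_norm_eq hodd t (δ : F)⁻¹ ht4
        refine ⟨Sum.inr (Sum.inl ⟨t, by simp [ht2, htm2]⟩), ?_⟩
        simp only [classMap]
        rw [ConjClasses.mk_eq_mk_iff_isConj]
        exact (isConj_compSLd_of_norm t δ x y hxy).trans hδ

theorem card_eq (F : Type*) [Field F] [Fintype F] (hodd : Odd (Fintype.card F)) :
    Nat.card (ConjClasses (Matrix.SpecialLinearGroup (Fin 2) F)) = Fintype.card F + 4 := by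
  classical
  have h2 : (2 : F) ≠ 0 := two_ne_zero_of_odd hodd
  have hchar : ringChar F ≠ 2 := by
    intro h
    have := FiniteField.even_card_iff_char_two.mp h
    rcases hodd with ⟨k, hk⟩
    omega
  obtain ⟨ν, hν⟩ := quadraticChar_exists_neg_one' (F := F) hchar
  rw [quadraticChar_neg_one_iff_not_isSquare] at hν
  have e := Equiv.ofBijective (classMap ν) ⟨classMap_injective hodd ν hν, classMap_surjective hodd ν hν⟩
  rw [← Nat.card_congr e, Nat.card_eq_fintype_card]
  simp only [Fintype.card_sum, Fintype.card_bool, Fintype.card_prod, Fintype.card_coe]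
  rw [Finset.card_compl, Finset.card_pair]
  · have := Fintype.one_lt_card (α := F)
    omega
  · intro h
    have h4 : (2 : F) * 2 = 0 := by linear_combination h
    exact h2 (mul_self_eq_zero.mp h4)

end Cfsg.Agent.S2325

namespace Cfsg.Agent.S2325

/-- Over a finite field with q elements, q odd, the special linear group SL₂ has exactly q + 4 conjugacy classes. -/
theorem result {F : Type*} [Field F] [Fintype F] (hodd : Odd (Fintype.card F)) :
    Nat.card (ConjClasses (Matrix.SpecialLinearGroup (Fin 2) F)) = Fintype.card F + 4 := by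
  exact card_eq F hodd

end Cfsg.Agent.S2325
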