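import Cfsg.Statements.S0376
import Cfsg.Agent.Lib.Helper7.M24Trans

set_option autoImplicit false
open Cfsg

namespace Cfsg.Agent.S0376

open Cfsg.Agent.Lib.Helper7

/-- A point stabiliser in the group of the length-24 code has order 10200960 = 2^7·3^2·5·7·11·23. -/
theorem result (p : Cfsg.GolayPt) : Nat.card (MulAction.stabilizer Cfsg.M24 p) = 10200960 := by
  obtain ⟨σ, hσ, h1⟩ := exists_M24_map_zero p
  rw [card_stabilizer_subgroup, ← h1]
  have := card_inf_stabilizer_smul M24 hσ (pt 0)
  rw [Equiv.Perm.smul_def] at this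
  rw [this]
  exact card_fixK_1

end Cfsg.Agent.S0376
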