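import Mathlib
import Cfsg.Statements.S0377
import Cfsg.Agent.S0376
import Cfsg.Agent.Lib.Helper95.PrimeDegree

set_option autoImplicit false
open Cfsg

namespace Cfsg.Agent.S0377

open Cfsg.Agent.Lib.Helper95 MulAction

/-- A point stabiliser in the group of the length-24 code is simple. -/
theorem result (p : Cfsg.GolayPt) : IsSimpleGroup (MulAction.stabilizer Cfsg.M24 p) := by
  have hcard : Nat.card (MulAction.stabilizer Cfsg.M24 p) = 10200960 := Cfsg.Agent.S0376.result p
  have hX : Nat.card (SubMulAction.ofStabilizer Cfsg.M24 p) = 23 := by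
    rw [SubMulAction.nat_card_ofStabilizer_eq]
    simp
  have : Fact (Nat.Prime 23) := ⟨by norm_num⟩
  obtain ⟨P⟩ : Nonempty (Sylow 23 (MulAction.stabilizer Cfsg.M24 p)) := inferInstance
  have hP : Nat.card (P : Subgroup (MulAction.stabilizer Cfsg.M24 p)) = 23 := by
    have := Cfsg.Agent.Lib.Helper17.card_sylow_of_card_eq (k := 1) (m := 443520) P
      (by rw [hcard]; norm_num) (by norm_num)
    simpa using this
  obtain ⟨d, hd, hN, hmul, hmod⟩ := card_normalizer_of_prime_degree
    (X := SubMulAction.ofStabilizer Cfsg.M24 p) hX P hP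
  have hd11 : d = 11 := by
    have hmem : d ∈ Nat.divisors 22 := Nat.mem_divisors.mpr ⟨hd, by norm_num⟩
    have hdiv : Nat.divisors 22 = {1, 2, 11, 22} := by decide
    rw [hdiv] at hmem
    simp only [Finset.mem_insert, Finset.mem_singleton] at hmem
    rw [hcard] at hmul
    rcases hmem with rfl | rfl | rfl | rfl <;> omega
  rw [hd11] at hN
  exact isSimpleGroup_of_prime_degree (X := SubMulAction.ofStabilizer Cfsg.M24 p)
    (r := 11) (by norm_num) hX P hP hN (by rw [hcard]; norm_num)

end Cfsg.Agent.S0377
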