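import Mathlib
import Cfsg.Statements.S0365
import Cfsg.Agent.S0377
import Cfsg.Agent.Lib.Helper7.M24Trans
import Cfsg.Agent.Lib.Helper95.PrimeDegree

set_option autoImplicit false
open Cfsg

namespace Cfsg.Agent.S0365

open Cfsg.Agent.Lib.Helper95 Cfsg.Agent.Lib.Helper7 MulAction

theorem not_isPrimePow_24 : ¬ IsPrimePow 24 := by
  intro h
  obtain ⟨r, _, hr⟩ := (isPrimePow_iff_unique_prime_dvd).mp h
  have h2 := hr 2 ⟨Nat.prime_two, by norm_num⟩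
  have h3 := hr 3 ⟨Nat.prime_three, by norm_num⟩
  omega

/-- The permutation group preserving the length-24 code is simple. -/
theorem result : IsSimpleGroup Cfsg.M24 := by
  refine isSimpleGroup_of_two_transitive (G := Cfsg.M24) (X := GolayPt) (pt 0) ?_ ?_
    (Cfsg.Agent.S0377.result (pt 0)) (by simpa using not_isPrimePow_24)
  · intro y
    obtain ⟨σ, hσ, h1⟩ := exists_M24_map_zero y
    exact ⟨⟨σ, hσ⟩, h1⟩
  · intro y z hy hz
    obtain ⟨σ₁, hσ₁, h1, h1'⟩ := exists_M24_map_zero_one (pt 0) y (Ne.symm hy)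
    obtain ⟨σ₂, hσ₂, h2, h2'⟩ := exists_M24_map_zero_one (pt 0) z (Ne.symm hz)
    refine ⟨⟨σ₂ * σ₁⁻¹, M24.mul_mem hσ₂ (M24.inv_mem hσ₁)⟩, ?_, ?_⟩
    · show (σ₂ * σ₁⁻¹) (pt 0) = pt 0
      rw [Equiv.Perm.mul_apply]
      have : σ₁⁻¹ (pt 0) = pt 0 := by rw [Equiv.Perm.inv_eq_iff_eq, h1]
      rw [this, h2]
    · show (σ₂ * σ₁⁻¹) y = z
      rw [Equiv.Perm.mul_apply]
      have : σ₁⁻¹ y = pt 1 := by rw [Equiv.Perm.inv_eq_iff_eq, h1']
      rw [this, h2']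

end Cfsg.Agent.S0365
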