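import Cfsg.Statements.S1570
import Cfsg.Agent.Lib.Golay.LeechGram

set_option autoImplicit false
open Cfsg

namespace Cfsg.Agent.S1570

open Cfsg.Agent.Lib.Golay.LeechGram Cfsg.Agent.Lib.Golay.Cross48

/-- Every congruence class of the lattice modulo twice the lattice contains a vector of customary norm at most 8. -/
theorem result (x : Cfsg.GolayPt → ℤ) (hx : x ∈ Cfsg.leechLattice) : ∃ y ∈ Cfsg.leechLattice, Cfsg.sqNorm y ≤ 64 ∧ ∃ z ∈ Cfsg.leechLattice, x - y = 2 • z := by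
  obtain ⟨c, rfl⟩ := exists_Tf hx
  obtain ⟨d, hd, hcd⟩ := exists_short hyp c
  refine ⟨Tf d, Tf_mem d, ?_, (cong_iff c d).mpr hcd⟩
  rw [sqNorm_Tf]
  omega

end Cfsg.Agent.S1570
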