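import Cfsg.Statements.S5552
import Cfsg.Agent.S1570
import Cfsg.Agent.Lib.Conway.Trans6
import Cfsg.Agent.Lib.Conway.Trans8

set_option autoImplicit false
open Cfsg

namespace Cfsg.Agent.S5552

open Cfsg.Agent.Lib.Conway Cfsg.Agent.Lib.Helper93.Leech Cfsg.Agent.Lib.Golay.LeechBasis

/-- `(4, 4, 0, 0^21)` -/
def x1 : Vec := vecOfList [4, 4, 0, 0, 0, 0, 0, 0, 0, 0, 0, 0, 0, 0, 0, 0, 0, 0, 0, 0, 0, 0, 0, 0]
/-- `(4, 0, 4, 0^21)` -/
def y1 : Vec := vecOfList [4, 0, 4, 0, 0, 0, 0, 0, 0, 0, 0, 0, 0, 0, 0, 0, 0, 0, 0, 0, 0, 0, 0, 0]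
/-- `(0, -4, -4, 0^21)` -/
def z1 : Vec := vecOfList [0, -4, -4, 0, 0, 0, 0, 0, 0, 0, 0, 0, 0, 0, 0, 0, 0, 0, 0, 0, 0, 0, 0, 0]
/-- `(4, 0, 4, 0^21)` -/
def y2 : Vec := vecOfList [4, 0, 4, 0, 0, 0, 0, 0, 0, 0, 0, 0, 0, 0, 0, 0, 0, 0, 0, 0, 0, 0, 0, 0]
/-- `(0, 4, -4, 0^21)` -/
def z2 : Vec := vecOfList [0, 4, -4, 0, 0, 0, 0, 0, 0, 0, 0, 0, 0, 0, 0, 0, 0, 0, 0, 0, 0, 0, 0, 0]

set_option maxRecDepth 100000 in
theorem x1_cond : LeechCond x1 0 := by decide +kernel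
set_option maxRecDepth 100000 in
theorem y1_cond : LeechCond y1 0 := by decide +kernel
set_option maxRecDepth 100000 in
theorem z1_cond : LeechCond z1 0 := by decide +kernel
set_option maxRecDepth 100000 in
theorem z2_cond : LeechCond z2 0 := by decide +kernel

def X1 : leechLattice := ⟨x1, mem_of_leechCond x1_cond⟩
def Y1 : leechLattice := ⟨y1, mem_of_leechCond y1_cond⟩
def Z1 : leechLattice := ⟨z1, mem_of_leechCond z1_cond⟩
def Z2 : leechLattice := ⟨z2, mem_of_leechCond z2_cond⟩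

set_option maxRecDepth 100000 in
theorem facts1 : sqNorm (x1 + y1 + z1) = 64 ∧ sqNorm x1 = 32 ∧ sqNorm y1 = 32 ∧ sqNorm z1 = 32 ∧
    sqNorm (x1 - y1) = 32 ∧ sqNorm (x1 + z1) = 32 ∧ sqNorm (y1 + z1) = 32 := by
  unfold sqNorm; decide +kernel

set_option maxRecDepth 100000 in
theorem facts2 : sqNorm (b2 - y1 - z2) = 32 ∧ sqNorm b2 = 32 ∧ sqNorm z2 = 32 ∧
    sqNorm (b2 - y1) = 48 ∧ sqNorm (b2 - z2) = 48 ∧ sqNorm (y1 + z2) = 32 := by
  unfold sqNorm; decide +kernel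

section
variable (Q : ↥Cfsg.leechLattice → ZMod 2)
  (hcoset : ∀ v w : ↥Cfsg.leechLattice, Q (v + (w + w)) = Q v)
  (hquad : ∀ u v w : ↥Cfsg.leechLattice,
    Q (u + v + w) + Q u + Q v + Q w = Q (u + v) + Q (u + w) + Q (v + w))
  (hinv : ∀ (g : ↥Cfsg.Co0) (v : ↥Cfsg.leechLattice), Q (g • v) = Q v)

include hinv in
theorem Q_conj {v w : leechLattice} (h : Conj v w) : Q v = Q w := by
  obtain ⟨g, rfl⟩ := h
  exact (hinv g v).symm

include hinv in
theorem Q32 (v w : leechLattice) (hv : sqNorm (v : Vec) = 32) (hw : sqNorm (w : Vec) = 32) :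
    Q v = Q w := Q_conj Q hinv (trans4 v w hv hw)

include hinv in
theorem Q48 (v w : leechLattice) (hv : sqNorm (v : Vec) = 48) (hw : sqNorm (w : Vec) = 48) :
    Q v = Q w := Q_conj Q hinv (trans6 v w hv hw)

include hinv in
theorem Q64 (v w : leechLattice) (hv : sqNorm (v : Vec) = 64) (hw : sqNorm (w : Vec) = 64) :
    Q v = Q w := Q_conj Q hinv (trans8 v w hv hw)

include hquad in
theorem Q_zero : Q 0 = 0 := by
  have h := hquad 0 0 0
  simp only [add_zero] at h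
  linear_combination h

include hcoset hquad hinv in
/-- the value on the vectors of sum of squares 64 is 0 -/
theorem c_zero (v : leechLattice) (hv : sqNorm (v : Vec) = 64) : Q v = 0 := by
  obtain ⟨h1, h2, h3, h4, h5, h6, h7⟩ := facts1
  have hq := hquad X1 Y1 Z1
  have e0 : Q (X1 + Y1) = Q (X1 - Y1) := by
    have : X1 + Y1 = (X1 - Y1) + (Y1 + Y1) := by abel
    rw [this, hcoset]
  have a1 : Q Y1 = Q X1 := Q32 Q hinv _ _ h3 h2
  have a2 : Q Z1 = Q X1 := Q32 Q hinv _ _ h4 h2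
  have a3 : Q (X1 - Y1) = Q X1 := Q32 Q hinv _ _ h5 h2
  have a4 : Q (X1 + Z1) = Q X1 := Q32 Q hinv _ _ h6 h2
  have a5 : Q (Y1 + Z1) = Q X1 := Q32 Q hinv _ _ h7 h2
  rw [e0, a1, a2, a3, a4, a5] at hq
  have hc : Q (X1 + Y1 + Z1) = 0 := by linear_combination hq
  rw [Q64 Q hinv v (X1 + Y1 + Z1) hv h1, hc]

include hcoset hquad hinv in
/-- the value on the vectors of sum of squares 32 is 0 -/
theorem a_zero (v : leechLattice) (hv : sqNorm (v : Vec) = 32) : Q v = 0 := by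
  obtain ⟨h1, h2, h3, h4, h5, h6⟩ := facts2
  have hy : sqNorm y1 = 32 := facts1.2.2.1
  have hq := hquad B2 Y1 Z2
  have e0 : Q (B2 + Y1) = Q (B2 - Y1) := by
    have : B2 + Y1 = (B2 - Y1) + (Y1 + Y1) := by abel
    rw [this, hcoset]
  have e1 : Q (B2 + Z2) = Q (B2 - Z2) := by
    have : B2 + Z2 = (B2 - Z2) + (Z2 + Z2) := by abel
    rw [this, hcoset]
  have e2 : Q (B2 + Y1 + Z2) = Q (B2 - Y1 - Z2) := by
    have : B2 + Y1 + Z2 = (B2 - Y1 - Z2) + ((Y1 + Z2) + (Y1 + Z2)) := by abel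
    rw [this, hcoset]
  have a1 : Q Y1 = Q B2 := Q32 Q hinv _ _ hy h2
  have a2 : Q Z2 = Q B2 := Q32 Q hinv _ _ h3 h2
  have a3 : Q (B2 - Y1 - Z2) = Q B2 := Q32 Q hinv _ _ h1 h2
  have a4 : Q (Y1 + Z2) = Q B2 := Q32 Q hinv _ _ h6 h2
  have a5 : Q (B2 - Z2) = Q (B2 - Y1) := Q48 Q hinv _ _ h5 h4
  rw [e0, e1, e2, a1, a2, a3, a4, a5] at hq
  have h2' : (2 : ZMod 2) = 0 := by decide
  have ha : Q B2 = 0 := by linear_combination hq + (Q (B2 - Y1) - Q B2) * h2'
  rw [Q32 Q hinv v B2 hv h2, ha]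

/-- reduction of the sum of squares modulo 32 along a class modulo twice the lattice -/
theorem norm_mod (y z : leechLattice) :
    sqNorm ((y + (z + z) : leechLattice) : Vec) / 16 % 2 = sqNorm (y : Vec) / 16 % 2 := by
  have e : ((y + (z + z) : leechLattice) : Vec) = (y : Vec) + ((z : Vec) + (z : Vec)) := rfl
  rw [e, Cfsg.Agent.S0393.sqNorm_add, Cfsg.Agent.S0393.sqNorm_add (z : Vec) (z : Vec)]
  have hd : dotInt (y : Vec) ((z : Vec) + (z : Vec)) = 2 * dotInt (y : Vec) (z : Vec) := by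
    rw [dotInt_symm, dotInt_add_left, dotInt_symm]; ring
  have hzz : dotInt (z : Vec) (z : Vec) = sqNorm (z : Vec) := by
    unfold dotInt sqNorm
    exact Finset.sum_congr rfl fun p _ => (sq _).symm
  rw [hd, hzz]
  obtain ⟨a, ha⟩ := Cfsg.Agent.S0392.result _ y.2
  obtain ⟨b, hb⟩ := Cfsg.Agent.S0392.result _ z.2
  obtain ⟨c, hc⟩ := Cfsg.Agent.S0393.eight_dvd_dot y.2 z.2
  rw [ha, hb, hc]
  omega

include hcoset hquad hinv in
theorem main (hne : ∃ v : ↥Cfsg.leechLattice, Q v ≠ 0) (v : ↥Cfsg.leechLattice) :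
    Q v = ((Cfsg.sqNorm (v : Cfsg.GolayPt → ℤ) / 16 : ℤ) : ZMod 2) := by
  -- reduction of a vector to a short one
  have red : ∀ v : leechLattice, ∃ y z : leechLattice, v = y + (z + z) ∧
      (sqNorm (y : Vec) = 0 ∨ sqNorm (y : Vec) = 32 ∨ sqNorm (y : Vec) = 48 ∨
        sqNorm (y : Vec) = 64) := by
    intro v
    obtain ⟨y, hy, hle, z, hz, hyz⟩ := Cfsg.Agent.S1570.result (v : Vec) v.2
    refine ⟨⟨y, hy⟩, ⟨z, hz⟩, ?_, ?_⟩
    · apply Subtype.ext
      show (v : Vec) = y + (z + z)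
      have : (2 : ℕ) • z = z + z := two_nsmul z
      rw [← this, ← hyz]; abel
    · show sqNorm y = 0 ∨ sqNorm y = 32 ∨ sqNorm y = 48 ∨ sqNorm y = 64
      obtain ⟨a, ha⟩ := Cfsg.Agent.S0392.result y hy
      by_cases h0 : y = 0
      · left; rw [h0]; unfold sqNorm; simp
      · have := sqNorm_ge_of_mem_leechLattice hy h0
        omega
  -- the value on a short vector
  have val : ∀ y : leechLattice, (sqNorm (y : Vec) = 0 ∨ sqNorm (y : Vec) = 32 ∨
      sqNorm (y : Vec) = 48 ∨ sqNorm (y : Vec) = 64) → Q y ≠ 0 → sqNorm (y : Vec) = 48 := by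
    intro y hy hQ
    rcases hy with h | h | h | h
    · exfalso; apply hQ
      have : y = 0 := by
        by_contra h0
        have h0' : (y : Vec) ≠ 0 := fun e => h0 (Subtype.ext e)
        have := sqNorm_ge_of_mem_leechLattice y.2 h0'
        omega
      rw [this]; exact Q_zero Q hquad
    · exact absurd (a_zero Q hcoset hquad hinv y h) hQ
    · exact h
    · exact absurd (c_zero Q hcoset hquad hinv y h) hQ
  obtain ⟨v0, hv0⟩ := hne
  obtain ⟨y0, z0, e0, hy0⟩ := red v0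
  rw [e0, hcoset] at hv0
  have n0 := val y0 hy0 hv0
  have hb : ∀ y : leechLattice, sqNorm (y : Vec) = 48 → Q y = 1 := by
    intro y hy
    rw [Q48 Q hinv y y0 hy n0]
    have : ∀ t : ZMod 2, t ≠ 0 → t = 1 := by decide
    exact this _ hv0
  obtain ⟨y, z, e, hy⟩ := red v
  have hn := norm_mod y z
  rw [← e] at hn
  rw [e, hcoset, ← e]
  have cast2 : ∀ n : ℤ, ((n : ℤ) : ZMod 2) = ((n % 2 : ℤ) : ZMod 2) := by
    intro n
    rw [← ZMod.intCast_mod n 2]; rfl
  rw [cast2, hn]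
  rcases hy with h | h | h | h
  · have : y = 0 := by
      by_contra h0
      have h0' : (y : Vec) ≠ 0 := fun e => h0 (Subtype.ext e)
      have := sqNorm_ge_of_mem_leechLattice y.2 h0'
      omega
    rw [h, this, Q_zero Q hquad]; simp
  · rw [h, a_zero Q hcoset hquad hinv y h]; simp
  · rw [h, hb y h]; decide
  · rw [h, c_zero Q hcoset hquad hinv y h]; decide

end

/-- On the Leech lattice of the definitions, let Q be a function to the field with two elements that is constant on cosets of twice the lattice, is a quadratic form there (Q(u+v+w) + Q(u) + Q(v) + Q(w) = Q(u+v) + Q(u+w) + Q(v+w) for all u, v, w), is invariant under every lattice automorphism, and is not identically zero. Then Q(v) is the squared length of v divided by 16, reduced modulo 2, for every lattice vector v (squared lengths of lattice vectors are multiples of 16). -/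
theorem result (Q : ↥Cfsg.leechLattice → ZMod 2) (hcoset : ∀ v w : ↥Cfsg.leechLattice, Q (v + (w + w)) = Q v) (hquad : ∀ u v w : ↥Cfsg.leechLattice, Q (u + v + w) + Q u + Q v + Q w = Q (u + v) + Q (u + w) + Q (v + w)) (hinv : ∀ (g : ↥Cfsg.Co0) (v : ↥Cfsg.leechLattice), Q (g • v) = Q v) (hne : ∃ v : ↥Cfsg.leechLattice, Q v ≠ 0) (v : ↥Cfsg.leechLattice) : Q v = ((Cfsg.sqNorm (v : Cfsg.GolayPt → ℤ) / 16 : ℤ) : ZMod 2) :=
  main Q hcoset hquad hinv hne v

end Cfsg.Agent.S5552
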