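import Cfsg.Statements.S0172
import Mathlib

set_option autoImplicit false

open Cfsg

namespace Cfsg.Agent.S0172

open Subgroup

/-- class equation via centralizers -/
theorem sum_card_centralizer (X : Type*) [Group X] [Fintype X] :
    ∑ a : X, Nat.card (centralizer ({a} : Set X)) = Nat.card (ConjClasses X) * Nat.card X := by
  classical
  rw [← card_comm_eq_card_conjClasses_mul_card]
  rw [Nat.card_congr (Equiv.subtypeProdEquivSigmaSubtype (fun a b : X => Commute a b))]
  rw [Nat.card_sigma]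
  apply Finset.sum_congr rfl
  intro a _
  apply Nat.card_congr
  refine Equiv.subtypeEquivRight ?_
  intro b
  rw [Subgroup.mem_centralizer_iff]
  constructor
  · intro h
    exact h a rfl
  · intro h x hx
    rw [Set.mem_singleton_iff] at hx
    rw [hx]; exact h

/-- splitting off the identity -/
theorem sum_split_one {X : Type*} [Group X] [Fintype X] [DecidableEq X] (f : X → ℕ) :
    ∑ a : X, f a = f 1 + ∑ a : {x : X // x ≠ 1}, f a := by
  rw [← Finset.add_sum_erase Finset.univ f (Finset.mem_univ (1 : X))]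
  congr 1
  exact Finset.sum_subtype (Finset.univ.erase (1 : X)) (fun x => by simp) f


section frob

set_option linter.unusedSectionVars false

variable {G : Type*} [Group G] [Finite G] (K H : Subgroup G) [hKn : K.Normal]
  (hKH : K ⊓ H = ⊥) (hKH' : K ⊔ H = ⊤)
  (hfpf : ∀ h ∈ H, h ≠ 1 → ∀ k ∈ K, h * k = k * h → k = 1)

include hKH in
theorem F0 {x : G} (hxK : x ∈ K) (hxH : x ∈ H) : x = 1 := by
  have : x ∈ K ⊓ H := ⟨hxK, hxH⟩
  rwa [hKH, Subgroup.mem_bot] at this

include hKn hKH hfpf in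
theorem F1 {h h' k : G} (hh : h ∈ H) (hh' : h' ∈ H) (hk : k ∈ K) (he : k * h * k⁻¹ = h') :
    h = h' ∧ (h = 1 ∨ k = 1) := by
  have h1 : h' * h⁻¹ ∈ K := by
    rw [← he]
    have : k * h * k⁻¹ * h⁻¹ = k * (h * k⁻¹ * h⁻¹) := by group
    rw [this]
    exact K.mul_mem hk (hKn.conj_mem _ (K.inv_mem hk) h)
  have h2 : h' * h⁻¹ ∈ H := H.mul_mem hh' (H.inv_mem hh)
  have h3 := F0 K H hKH h1 h2
  have h4 : h = h' := by
    have := mul_inv_eq_one.mp h3
    exact this.symm
  refine ⟨h4, ?_⟩
  by_cases hh1 : h = 1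
  · exact Or.inl hh1
  · right
    apply hfpf h hh hh1 k hk
    rw [← h4] at he
    calc h * k = (k * h * k⁻¹) * k := by rw [he]
      _ = k * h := by group

include hKn hKH' in
theorem F2 (g : G) : ∃ k ∈ K, ∃ h ∈ H, g = k * h := by
  have : g ∈ K ⊔ H := by rw [hKH']; trivial
  rw [← SetLike.mem_coe, Subgroup.normal_mul] at this
  obtain ⟨k, hk, h, hh, rfl⟩ := this
  exact ⟨k, hk, h, hh, rfl⟩

include hKn hKH hKH' hfpf in
theorem F4 (g : G) (hg : g ∉ K) : ∃ k ∈ K, ∃ h ∈ H, h ≠ 1 ∧ g = k * h * k⁻¹ := by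
  obtain ⟨k₀, hk₀, h₀, hh₀, rfl⟩ := F2 K H hKH' g
  have hh₀1 : h₀ ≠ 1 := by
    intro h
    apply hg
    rw [h, mul_one]; exact hk₀
  let ψ : K → K := fun k => ⟨(k : G) * h₀ * (k : G)⁻¹ * h₀⁻¹, by
    have : (k : G) * h₀ * (k : G)⁻¹ * h₀⁻¹ = (k : G) * (h₀ * (k : G)⁻¹ * h₀⁻¹) := by group
    rw [this]
    exact K.mul_mem k.2 (hKn.conj_mem _ (K.inv_mem k.2) h₀)⟩
  have hinj : Function.Injective ψ := by
    intro a b hab
    have h1 : (a : G) * h₀ * (a : G)⁻¹ * h₀⁻¹ = (b : G) * h₀ * (b : G)⁻¹ * h₀⁻¹ :=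
      congrArg Subtype.val hab
    have h2 : (a : G) * h₀ * (a : G)⁻¹ = (b : G) * h₀ * (b : G)⁻¹ := mul_right_cancel h1
    have h3 : h₀ * ((b : G)⁻¹ * a) = ((b : G)⁻¹ * a) * h₀ := by
      calc h₀ * ((b : G)⁻¹ * a) = (b : G)⁻¹ * ((b : G) * h₀ * (b : G)⁻¹) * a := by group
        _ = (b : G)⁻¹ * ((a : G) * h₀ * (a : G)⁻¹) * a := by rw [h2]
        _ = ((b : G)⁻¹ * a) * h₀ := by group
    have h4 := hfpf h₀ hh₀ hh₀1 ((b : G)⁻¹ * a) (K.mul_mem (K.inv_mem b.2) a.2) h3
    apply Subtype.ext
    have := inv_mul_eq_one.mp h4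
    exact this.symm
  have hsurj : Function.Surjective ψ := Finite.surjective_of_injective hinj
  obtain ⟨k, hk⟩ := hsurj ⟨k₀, hk₀⟩
  have hk' : (k : G) * h₀ * (k : G)⁻¹ * h₀⁻¹ = k₀ := congrArg Subtype.val hk
  refine ⟨k, k.2, h₀, hh₀, hh₀1, ?_⟩
  rw [← hk']; group

include hKn hKH hKH' hfpf in
theorem F3 (a : G) (haK : a ∈ K) (ha1 : a ≠ 1) : centralizer ({a} : Set G) ≤ K := by
  intro c hc
  by_contra hcK
  obtain ⟨k, hk, h, hh, hh1, rfl⟩ := F4 K H hKH hKH' hfpf c hcK
  have hca : a * (k * h * k⁻¹) = (k * h * k⁻¹) * a := Subgroup.mem_centralizer_iff.mp hc a rfl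
  have h1 : h * (k⁻¹ * a * k) = (k⁻¹ * a * k) * h := by
    calc h * (k⁻¹ * a * k) = k⁻¹ * ((k * h * k⁻¹) * a) * k := by group
      _ = k⁻¹ * (a * (k * h * k⁻¹)) * k := by rw [hca]
      _ = (k⁻¹ * a * k) * h := by group
  have h2 : k⁻¹ * a * k ∈ K := by
    have := hKn.conj_mem a haK k⁻¹
    rwa [inv_inv] at this
  have h3 := hfpf h hh hh1 _ h2 h1
  apply ha1
  have : a = k * (k⁻¹ * a * k) * k⁻¹ := by group
  rw [this, h3]; group

include hKn hKH hKH' hfpf in
theorem F5 (h : G) (hh : h ∈ H) (hh1 : h ≠ 1) : centralizer ({h} : Set G) ≤ H := by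
  intro c hc
  obtain ⟨k₁, hk₁, h₁, hh₁, rfl⟩ := F2 K H hKH' c
  have hch : h * (k₁ * h₁) = (k₁ * h₁) * h := Subgroup.mem_centralizer_iff.mp hc h rfl
  have he : k₁ * (h₁ * h * h₁⁻¹) * k₁⁻¹ = h := by
    calc k₁ * (h₁ * h * h₁⁻¹) * k₁⁻¹ = ((k₁ * h₁) * h) * (k₁ * h₁)⁻¹ := by group
      _ = (h * (k₁ * h₁)) * (k₁ * h₁)⁻¹ := by rw [hch]
      _ = h := by group
  have h2 : h₁ * h * h₁⁻¹ ∈ H := H.mul_mem (H.mul_mem hh₁ hh) (H.inv_mem hh₁)
  obtain ⟨h3, h4⟩ := F1 K H hKH hfpf h2 hh hk₁ he
  have h5 : h₁ * h * h₁⁻¹ ≠ 1 := by rw [h3]; exact hh1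
  have h6 : k₁ = 1 := h4.resolve_left h5
  rw [h6, one_mul]; exact hh₁

end frob


theorem card_centralizer_one (X : Type*) [Group X] :
    Nat.card (centralizer ({1} : Set X)) = Nat.card X := by
  have : centralizer ({1} : Set X) = ⊤ := by
    rw [eq_top_iff]
    intro x _
    rw [Subgroup.mem_centralizer_iff]
    intro h hh
    rw [Set.mem_singleton_iff] at hh
    rw [hh, one_mul, mul_one]
  rw [this, Subgroup.card_top]

theorem card_centralizer_conj {X : Type*} [Group X] (k g : X) :
    Nat.card (centralizer ({k * g * k⁻¹} : Set X)) = Nat.card (centralizer ({g} : Set X)) := by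
  have : centralizer ({k * g * k⁻¹} : Set X) =
      (centralizer ({g} : Set X)).map (MulAut.conj k).toMonoidHom := by
    ext x
    rw [Subgroup.mem_map, Subgroup.mem_centralizer_iff]
    constructor
    · intro hx
      refine ⟨k⁻¹ * x * k, ?_, by simp [MulAut.conj_apply]; group⟩
      rw [Subgroup.mem_centralizer_iff]
      intro h hh
      rw [Set.mem_singleton_iff] at hh
      have := hx (k * g * k⁻¹) rfl
      rw [hh]
      calc g * (k⁻¹ * x * k) = k⁻¹ * ((k * g * k⁻¹) * x) * k := by group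
        _ = k⁻¹ * (x * (k * g * k⁻¹)) * k := by rw [this]
        _ = (k⁻¹ * x * k) * g := by group
    · rintro ⟨c, hc, rfl⟩ h hh
      rw [Set.mem_singleton_iff] at hh
      have := Subgroup.mem_centralizer_iff.mp hc g rfl
      rw [hh]
      simp only [MulEquiv.coe_toMonoidHom, MulAut.conj_apply]
      calc k * g * k⁻¹ * (k * c * k⁻¹) = k * (g * c) * k⁻¹ := by group
        _ = k * (c * g) * k⁻¹ := by rw [this]
        _ = k * c * k⁻¹ * (k * g * k⁻¹) := by group
  rw [this, Subgroup.card_map_of_injective (MulAut.conj k).injective]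

/-- centralizer in a subgroup containing the centralizer -/
theorem card_centralizer_sub {G : Type*} [Group G] (L : Subgroup G) (a : L)
    (hle : centralizer ({(a : G)} : Set G) ≤ L) :
    Nat.card (centralizer ({(a : G)} : Set G)) = Nat.card (centralizer ({a} : Set L)) := by
  have : centralizer ({(a : G)} : Set G) = (centralizer ({a} : Set L)).map L.subtype := by
    ext x
    rw [Subgroup.mem_map]
    constructor
    · intro hx
      refine ⟨⟨x, hle hx⟩, ?_, rfl⟩
      rw [Subgroup.mem_centralizer_iff]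
      intro h hh
      rw [Set.mem_singleton_iff] at hh
      rw [hh]
      apply Subtype.ext
      exact Subgroup.mem_centralizer_iff.mp hx a rfl
    · rintro ⟨c, hc, rfl⟩
      rw [Subgroup.mem_centralizer_iff]
      intro h hh
      rw [Set.mem_singleton_iff] at hh
      rw [hh]
      have := Subgroup.mem_centralizer_iff.mp hc a rfl
      exact congrArg Subtype.val this
  rw [this, Subgroup.card_map_of_injective L.subtype_injective]


theorem main {G : Type*} [Group G] [Finite G] (K H : Subgroup G) [hKn : K.Normal]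
    (hKH : K ⊓ H = ⊥) (hKH' : K ⊔ H = ⊤)
    (hfpf : ∀ h ∈ H, h ≠ 1 → ∀ k ∈ K, h * k = k * h → k = 1) :
    Nat.card H * Nat.card (ConjClasses G) + 1 =
      Nat.card H * Nat.card (ConjClasses H) + Nat.card (ConjClasses K) := by
  classical
  have := Fintype.ofFinite G
  have hGc := sum_card_centralizer G
  have hKc := sum_card_centralizer K
  have hHc := sum_card_centralizer H
  -- |G| = |K| |H|
  have hcardG : Nat.card K * Nat.card H = Nat.card G := by
    have hcomp : IsComplement' K H := by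
      apply isComplement'_of_disjoint_and_mul_eq_univ
      · rw [disjoint_iff]; exact hKH
      · rw [← Subgroup.normal_mul, hKH']; rfl
    exact hcomp.card_mul_card
  -- split the sum
  have hsplit := (Fintype.sum_subtype_add_sum_subtype (fun x : G => x ∈ K)
    (fun a : G => Nat.card (centralizer ({a} : Set G)))).symm
  -- K part
  have hKpart : ∑ a : {x : G // x ∈ K}, Nat.card (centralizer ({(a : G)} : Set G)) + Nat.card K =
      Nat.card G + ∑ a : K, Nat.card (centralizer ({a} : Set K)) := by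
    have e1 : ∑ a : {x : G // x ∈ K}, Nat.card (centralizer ({(a : G)} : Set G)) =
        ∑ a : K, Nat.card (centralizer ({(a : G)} : Set G)) := rfl
    rw [e1, sum_split_one (fun a : K => Nat.card (centralizer ({(a : G)} : Set G))),
      sum_split_one (fun a : K => Nat.card (centralizer ({a} : Set K)))]
    have h1 : Nat.card (centralizer ({((1 : K) : G)} : Set G)) = Nat.card G := by
      rw [Subgroup.coe_one]; exact card_centralizer_one G
    have h2 : Nat.card (centralizer ({(1 : K)} : Set K)) = Nat.card K := card_centralizer_one K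
    have h3 : ∑ a : {x : K // x ≠ 1}, Nat.card (centralizer ({((a : K) : G)} : Set G)) =
        ∑ a : {x : K // x ≠ 1}, Nat.card (centralizer ({(a : K)} : Set K)) := by
      apply Finset.sum_congr rfl
      intro a _
      apply card_centralizer_sub K (a : K)
      apply F3 K H hKH hKH' hfpf _ (a : K).2
      intro h
      exact a.2 (Subtype.ext h)
    simp only [h1, h2, h3]
    ring
  -- the bijection for the part outside K
  have hwd : ∀ (k : K) (h : {x : H // x ≠ 1}), (k : G) * ((h : H) : G) * (k : G)⁻¹ ∉ K := by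
    intro k h hmem
    have h1 : ((h : H) : G) ∈ K := by
      have := hKn.conj_mem _ hmem (k : G)⁻¹
      have h2 : (k : G)⁻¹ * ((k : G) * ((h : H) : G) * (k : G)⁻¹) * ((k : G)⁻¹)⁻¹ = ((h : H) : G) := by
        group
      rwa [h2] at this
    have := F0 K H hKH h1 (h : H).2
    exact h.2 (Subtype.ext this)
  let Φ : K × {x : H // x ≠ 1} → {x : G // x ∉ K} :=
    fun p => ⟨(p.1 : G) * ((p.2 : H) : G) * (p.1 : G)⁻¹, hwd p.1 p.2⟩
  have hΦbij : Function.Bijective Φ := by
    constructor
    · rintro ⟨k, h⟩ ⟨k', h'⟩ hp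
      have h1 : (k : G) * ((h : H) : G) * (k : G)⁻¹ = (k' : G) * ((h' : H) : G) * (k' : G)⁻¹ :=
        congrArg Subtype.val hp
      have h2 : ((k' : G)⁻¹ * k) * ((h : H) : G) * ((k' : G)⁻¹ * k)⁻¹ = ((h' : H) : G) := by
        calc ((k' : G)⁻¹ * k) * ((h : H) : G) * ((k' : G)⁻¹ * k)⁻¹
            = (k' : G)⁻¹ * ((k : G) * ((h : H) : G) * (k : G)⁻¹) * k' := by group
          _ = (k' : G)⁻¹ * ((k' : G) * ((h' : H) : G) * (k' : G)⁻¹) * k' := by rw [h1]
          _ = ((h' : H) : G) := by group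
      obtain ⟨h3, h4⟩ := F1 K H hKH hfpf (h : H).2 (h' : H).2
        (K.mul_mem (K.inv_mem k'.2) k.2) h2
      have h5 : ((h : H) : G) ≠ 1 := fun hh => h.2 (Subtype.ext hh)
      have h6 := h4.resolve_left h5
      have h7 : k = k' := by
        apply Subtype.ext
        have := inv_mul_eq_one.mp h6
        exact this.symm
      have h8 : h = h' := Subtype.ext (Subtype.ext h3)
      rw [h7, h8]
    · rintro ⟨g, hg⟩
      obtain ⟨k, hk, h, hh, hh1, rfl⟩ := F4 K H hKH hKH' hfpf g hg
      exact ⟨(⟨k, hk⟩, ⟨⟨h, hh⟩, fun h' => hh1 (congrArg Subtype.val h')⟩), rfl⟩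
  have hNpart : ∑ a : {x : G // x ∉ K}, Nat.card (centralizer ({(a : G)} : Set G)) +
      Nat.card K * Nat.card H = Nat.card K * ∑ h : H, Nat.card (centralizer ({h} : Set H)) := by
    rw [← Equiv.sum_comp (Equiv.ofBijective Φ hΦbij)
      (fun a : {x : G // x ∉ K} => Nat.card (centralizer ({(a : G)} : Set G)))]
    have h1 : ∀ p : K × {x : H // x ≠ 1},
        Nat.card (centralizer ({((Equiv.ofBijective Φ hΦbij p : {x : G // x ∉ K}) : G)} : Set G)) =
        Nat.card (centralizer ({(p.2 : H)} : Set H)) := by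
      rintro ⟨k, h⟩
      show Nat.card (centralizer ({(k : G) * ((h : H) : G) * (k : G)⁻¹} : Set G)) = _
      rw [card_centralizer_conj]
      apply card_centralizer_sub H (h : H)
      apply F5 K H hKH hKH' hfpf _ (h : H).2
      intro hh
      exact h.2 (Subtype.ext hh)
    rw [Finset.sum_congr rfl (fun p _ => h1 p), Fintype.sum_prod_type]
    simp only [Finset.sum_const, Finset.card_univ, smul_eq_mul]
    rw [sum_split_one (fun h : H => Nat.card (centralizer ({h} : Set H))),
      card_centralizer_one H, ← Nat.card_eq_fintype_card]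
    ring
  -- combine
  rw [hsplit] at hGc
  have hKpos : 0 < Nat.card K := Nat.card_pos
  have key : Nat.card K * (Nat.card H * Nat.card (ConjClasses G) + 1) =
      Nat.card K * (Nat.card H * Nat.card (ConjClasses H) + Nat.card (ConjClasses K)) := by
    have e1 : Nat.card (ConjClasses G) * Nat.card G + Nat.card K + Nat.card K * Nat.card H =
        Nat.card G + Nat.card (ConjClasses K) * Nat.card K +
          Nat.card K * (Nat.card (ConjClasses H) * Nat.card H) := by
      rw [hKc] at hKpart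
      rw [hHc] at hNpart
      rw [← hGc]
      linarith [hKpart, hNpart]
    rw [← hcardG] at e1
    nlinarith [e1]
  exact Nat.eq_of_mul_eq_mul_left hKpos key

/-- Class number of a Frobenius group: if G = K H with K normal, K ⊓ H trivial and no non-identity element of H commuting with a non-identity element of K, then |H| * k(G) + 1 = |H| * k(H) + k(K), where k denotes the number of conjugacy classes. -/
theorem result {G : Type*} [Group G] [Finite G] (K H : Subgroup G) [K.Normal] (hKH : K ⊓ H = ⊥) (hKH' : K ⊔ H = ⊤) (hfpf : ∀ h ∈ H, h ≠ 1 → ∀ k ∈ K, h * k = k * h → k = 1) : Nat.card H * Nat.card (ConjClasses G) + 1 = Nat.card H * Nat.card (ConjClasses H) + Nat.card (ConjClasses K) := by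
  exact main K H hKH hKH' hfpf

end Cfsg.Agent.S0172
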