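import Cfsg.Statements.S0208
import Cfsg.Agent.Lib.Helper4.Dihedral

set_option autoImplicit false
open Cfsg

namespace Cfsg.Agent.S0208

open Cfsg.Agent.Lib.Helper4

/-- If x, y are involutions and xy has odd order, then some element of the subgroup generated by x and y conjugates x to y. -/
theorem result {G : Type*} [Group G] [Finite G] (x y : G) (hx : orderOf x = 2) (hy : orderOf y = 2) (hodd : Odd (orderOf (x * y))) : ∃ d ∈ Subgroup.closure ({x, y} : Set G), d * x * d⁻¹ = y := by
  have hx' := mul_self_of_orderOf_two hx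
  have hy' := mul_self_of_orderOf_two hy
  obtain ⟨k, hk⟩ := hodd
  refine ⟨(x * y) ^ (k : ℤ), ?_, ?_⟩
  · rw [mem_closure_pair_iff hx' hy']
    exact Or.inl ⟨k, rfl⟩
  · rw [conj_x_by_zpow hx' hy']
    have h1 : (x * y) ^ ((2 : ℤ) * k + 1) = 1 := by
      have : ((2 : ℤ) * k + 1) = ((orderOf (x * y) : ℕ) : ℤ) := by rw [hk]; push_cast; ring
      rw [this, zpow_natCast, pow_orderOf_eq_one]
    have h2 : (x * y) ^ ((2 : ℤ) * k) = (x * y)⁻¹ := by
      rw [zpow_add_one] at h1
      exact eq_inv_of_mul_eq_one_left h1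
    rw [h2, mul_inv_rev, inv_eq_self_of_mul_self hx', inv_eq_self_of_mul_self hy', mul_assoc, hx',
      mul_one]

end Cfsg.Agent.S0208
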