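import Cfsg.Statements.S0209
import Cfsg.Agent.Lib.Helper4.Dihedral

set_option autoImplicit false
open Cfsg

namespace Cfsg.Agent.S0209

open Cfsg.Agent.Lib.Helper4

/-- If x, y are involutions whose product has even order n, the element (xy)^(n/2) is an involution that commutes with x and with y. -/
theorem result {G : Type*} [Group G] [Finite G] (x y : G) (hx : orderOf x = 2) (hy : orderOf y = 2) (heven : Even (orderOf (x * y))) : orderOf ((x * y) ^ (orderOf (x * y) / 2)) = 2 ∧ Commute ((x * y) ^ (orderOf (x * y) / 2)) x ∧ Commute ((x * y) ^ (orderOf (x * y) / 2)) y := by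
  have hx' := mul_self_of_orderOf_two hx
  have hy' := mul_self_of_orderOf_two hy
  have hpos : 0 < orderOf (x * y) := orderOf_pos _
  obtain ⟨k, hk⟩ := heven
  have hk2 : orderOf (x * y) / 2 = k := by omega
  have hkpos : 0 < k := by omega
  have hord : orderOf ((x * y) ^ (orderOf (x * y) / 2)) = 2 := by
    rw [hk2, orderOf_pow_of_dvd hkpos.ne' ⟨2, by omega⟩]
    rw [hk]
    have : k + k = 2 * k := by ring
    rw [this, Nat.mul_div_cancel _ hkpos]
  have hz := mul_self_of_orderOf_two hord
  have hzinv := inv_eq_self_of_mul_self hz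
  set z := (x * y) ^ (orderOf (x * y) / 2) with hzdef
  have hzx : Commute z x := by
    show z * x = x * z
    have h1 : x * z = (x * y) ^ (-((orderOf (x * y) / 2 : ℕ) : ℤ)) * x := by
      rw [hzdef, ← zpow_natCast, x_mul_a_zpow hx' hy']
    rw [h1, zpow_neg, zpow_natCast, ← hzdef, hzinv]
  refine ⟨hord, hzx, ?_⟩
  -- y = (x*y)⁻¹ * x ... use y = x * (x*y)
  have hy2 : y = x * (x * y) := by rw [← mul_assoc, hx', one_mul]
  have hza : Commute z (x * y) := by
    rw [hzdef]
    exact (Commute.refl (x * y)).pow_left _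
  rw [hy2]
  exact hzx.mul_right hza

end Cfsg.Agent.S0209
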