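import Cfsg.Statements.S0206
import Cfsg.Agent.Lib.Helper4.Dihedral

set_option autoImplicit false
open Cfsg

namespace Cfsg.Agent.S0206

open Cfsg.Agent.Lib.Helper4 DihedralGroup

section
variable {G : Type*} [Group G] (a : G)

/-- `a ^ i` for `i : ZMod (orderOf a)`. -/
noncomputable def pw (i : ZMod (orderOf a)) : G := a ^ (ZMod.cast i : ℤ)

theorem pw_intCast (k : ℤ) : pw a (k : ZMod (orderOf a)) = a ^ k := by
  unfold pw
  rw [zpow_eq_zpow_iff_modEq]
  rw [← ZMod.intCast_eq_intCast_iff]
  simp

theorem pw_eq (i : ZMod (orderOf a)) : pw a i = a ^ (ZMod.cast i : ℤ) := rfl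

theorem pw_add (i j : ZMod (orderOf a)) : pw a (i + j) = pw a i * pw a j := by
  have hi : i = ((ZMod.cast i : ℤ) : ZMod (orderOf a)) := by simp
  have hj : j = ((ZMod.cast j : ℤ) : ZMod (orderOf a)) := by simp
  rw [pw_eq a i, pw_eq a j, ← zpow_add]
  nth_rewrite 1 [hi]
  nth_rewrite 1 [hj]
  rw [← Int.cast_add, pw_intCast]

theorem pw_zero : pw a 0 = 1 := by
  have : (0 : ZMod (orderOf a)) = ((0 : ℤ) : ZMod (orderOf a)) := by simp
  rw [this, pw_intCast, zpow_zero]

theorem pw_neg (i : ZMod (orderOf a)) : pw a (-i) = (pw a i)⁻¹ := by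
  have h := pw_add a i (-i)
  rw [add_neg_cancel, pw_zero] at h
  exact (inv_eq_of_mul_eq_one_right h.symm).symm

theorem pw_sub (i j : ZMod (orderOf a)) : pw a (j - i) = pw a j * (pw a i)⁻¹ := by
  rw [sub_eq_add_neg, pw_add, pw_neg]

theorem pw_eq_one_iff (i : ZMod (orderOf a)) : pw a i = 1 ↔ i = 0 := by
  constructor
  · intro h
    rw [pw_eq, ← orderOf_dvd_iff_zpow_eq_one] at h
    have := (ZMod.intCast_zmod_eq_zero_iff_dvd _ _).2 h
    simpa using this
  · rintro rfl
    exact pw_zero a

end

section
variable {G : Type*} [Group G] {x y : G}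

theorem x_mul_pw (hx : x * x = 1) (hy : y * y = 1) (i : ZMod (orderOf (x * y))) :
    x * pw (x * y) i = (pw (x * y) i)⁻¹ * x := by
  rw [pw_eq, x_mul_a_zpow hx hy, zpow_neg]

theorem pw_mul_x (hx : x * x = 1) (hy : y * y = 1) (i : ZMod (orderOf (x * y))) :
    pw (x * y) i * x = x * (pw (x * y) i)⁻¹ := by
  have := x_mul_pw hx hy (-i)
  rw [pw_neg, inv_inv] at this
  exact this.symm

/-- The homomorphism from the dihedral group. -/
noncomputable def phi (hx : x * x = 1) (hy : y * y = 1) : DihedralGroup (orderOf (x * y)) →* G where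
  toFun d := match d with
    | r i => pw (x * y) i
    | sr i => x * pw (x * y) i
  map_one' := by
    show pw (x * y) 0 = 1
    exact pw_zero _
  map_mul' := by
    rintro (i | i) (j | j)
    · show pw (x * y) (i + j) = pw (x * y) i * pw (x * y) j
      exact pw_add _ i j
    · show x * pw (x * y) (j - i) = pw (x * y) i * (x * pw (x * y) j)
      rw [pw_sub, ← mul_assoc (pw (x * y) i), pw_mul_x hx hy, mul_assoc, mul_comm_of_pw]
    · show x * pw (x * y) (i + j) = x * pw (x * y) i * pw (x * y) j
      rw [pw_add, mul_assoc]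
    · show pw (x * y) (j - i) = x * pw (x * y) i * (x * pw (x * y) j)
      rw [pw_sub, x_mul_pw hx hy, mul_assoc, ← mul_assoc x x, hx, one_mul, mul_comm_of_pw]
where
  mul_comm_of_pw {i j : ZMod (orderOf (x * y))} :
      (pw (x * y) i)⁻¹ * pw (x * y) j = pw (x * y) j * (pw (x * y) i)⁻¹ := by
    rw [← pw_neg, ← pw_add, ← pw_add, add_comm]

end

/-- Version without the hypothesis `x ≠ y` and without finiteness. -/
theorem iso_of_involutions {G : Type*} [Group G] (x y : G) (hx : orderOf x = 2) (hy : orderOf y = 2) : Nonempty (↥(Subgroup.closure ({x, y} : Set G)) ≃* DihedralGroup (orderOf (x * y))) := by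
  have hx' := mul_self_of_orderOf_two hx
  have hy' := mul_self_of_orderOf_two hy
  -- x is not a power of x*y
  have hxnot : ∀ k : ℤ, x ≠ (x * y) ^ k := by
    intro k hk
    have hcomm : Commute x (x * y) := by
      have : Commute ((x * y) ^ k) (x * y) := (Commute.refl (x * y)).zpow_left k
      rwa [← hk] at this
    have h1 : x * (x * y) = (x * y)⁻¹ * x := x_mul_a hx' hy'
    rw [hcomm.eq] at h1
    have h2 : x * y = (x * y)⁻¹ := mul_right_cancel h1
    rw [mul_inv_rev, inv_eq_self_of_mul_self hx', inv_eq_self_of_mul_self hy'] at h2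
    -- x * y = y * x, so (x*y)^2 = 1
    have h3 : (x * y) * (x * y) = 1 := by
      nth_rewrite 2 [h2]
      rw [mul_assoc, ← mul_assoc y y x, hy', one_mul, hx']
    -- (x*y)^k is 1 or x*y
    have h4 : ∀ m : ℤ, (x * y) ^ m = 1 ∨ (x * y) ^ m = x * y := by
      intro m
      induction m using Int.induction_on with
      | zero => left; simp
      | succ i ih =>
        rcases ih with h | h
        · right; rw [zpow_add_one, h, one_mul]
        · left; rw [zpow_add_one, h, h3]
      | pred i ih =>
        have hinv : (x * y)⁻¹ = x * y := inv_eq_self_of_mul_self h3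
        rcases ih with h | h
        · right; rw [zpow_sub_one, h, one_mul, hinv]
        · left; rw [zpow_sub_one, h, hinv, h3]
    rcases h4 k with h | h
    · rw [h] at hk
      exact ne_one_of_orderOf_two hx hk
    · rw [h] at hk
      have : y = 1 := by
        have := congrArg (x * ·) hk
        simp only [← mul_assoc, hx', one_mul] at this
        exact this.symm
      exact ne_one_of_orderOf_two hy this
  have hinj : Function.Injective (phi hx' hy') := by
    rw [injective_iff_map_eq_one]
    rintro (i | i) h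
    · have h1 : pw (x * y) i = 1 := h
      rw [pw_eq_one_iff] at h1
      rw [h1, r_zero]
    · exfalso
      have h1 : x * pw (x * y) i = 1 := h
      have h2 : x = (x * y) ^ (-(ZMod.cast i : ℤ)) := by
        rw [zpow_neg, ← pw_eq]
        exact eq_inv_of_mul_eq_one_left h1
      exact hxnot _ h2
  have hrange : (phi hx' hy').range = Subgroup.closure ({x, y} : Set G) := by
    ext d
    rw [mem_closure_pair_iff hx' hy', MonoidHom.mem_range]
    constructor
    · rintro ⟨(i | i), rfl⟩
      · left
        exact ⟨_, rfl⟩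
      · right
        refine ⟨-(ZMod.cast i : ℤ), ?_⟩
        show x * pw (x * y) i = _
        rw [pw_eq, x_mul_a_zpow hx' hy']
    · rintro (⟨j, rfl⟩ | ⟨j, rfl⟩)
      · exact ⟨r (j : ZMod (orderOf (x * y))), pw_intCast _ j⟩
      · refine ⟨sr ((-j : ℤ) : ZMod (orderOf (x * y))), ?_⟩
        show x * pw (x * y) ((-j : ℤ) : ZMod (orderOf (x * y))) = _
        rw [pw_intCast, x_mul_a_zpow hx' hy', neg_neg]
  exact ⟨((MonoidHom.ofInjective hinj).trans (MulEquiv.subgroupCongr hrange)).symm⟩

/-- The subgroup generated by two involutions has order `2 * orderOf (x * y)`. -/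
theorem card_closure_pair {G : Type*} [Group G] (x y : G) (hx : orderOf x = 2) (hy : orderOf y = 2) :
    Nat.card (Subgroup.closure ({x, y} : Set G)) = 2 * orderOf (x * y) := by
  obtain ⟨e⟩ := iso_of_involutions x y hx hy
  rw [Nat.card_congr e.toEquiv, DihedralGroup.nat_card]

/-- Two distinct involutions x, y of a finite group generate a subgroup isomorphic to the dihedral group of order 2·|xy|. -/
theorem result {G : Type*} [Group G] [Finite G] (x y : G) (hx : orderOf x = 2) (hy : orderOf y = 2) (hxy : x ≠ y) : Nonempty (↥(Subgroup.closure ({x, y} : Set G)) ≃* DihedralGroup (orderOf (x * y))) :=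
  iso_of_involutions x y hx hy

end Cfsg.Agent.S0206
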