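import Cfsg.Statements.S0363
import Cfsg.Agent.Lib.Golay.Octads
import Cfsg.Agent.Lib.Helper8.Golay

set_option autoImplicit false
open Pointwise
open Cfsg

namespace Cfsg.Agent.S0363

open Cfsg.Agent.Lib.Golay

theorem hammingNorm_eq_card_support₂ (w : GolayPt → ZMod 2) : hammingNorm w = (support₂ w).card := rfl

/-- two octads sharing five points coincide -/
theorem octad_unique {b1 b2 : Finset GolayPt} (h1 : b1 ∈ octads) (h2 : b2 ∈ octads)
    (s : Finset GolayPt) (hs : s.card = 5) (hs1 : s ⊆ b1) (hs2 : s ⊆ b2) : b1 = b2 := by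
  obtain ⟨⟨w1, hw1, rfl⟩, hc1⟩ := h1
  obtain ⟨⟨w2, hw2, rfl⟩, hc2⟩ := h2
  have hadd := Cfsg.Agent.Lib.Helper8.card_support₂_add w1 w2
  have hinter : 5 ≤ (support₂ w1 ∩ support₂ w2).card := by
    rw [← hs]; exact Finset.card_le_card (Finset.subset_inter hs1 hs2)
  have hw := hammingNorm_of_mem (add_mem hw1 hw2)
  rw [hammingNorm_eq_card_support₂] at hw
  have h0 : (support₂ (w1 + w2)).card = 0 := by omega
  have hz : w1 + w2 = 0 := by
    funext p
    by_contra hp
    have : p ∈ support₂ (w1 + w2) := by simp [support₂]; exact hp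
    rw [Finset.card_eq_zero] at h0
    rw [h0] at this
    simp at this
  have : w1 = w2 := by
    funext p
    have hp := congrFun hz p
    simp only [Pi.add_apply, Pi.zero_apply] at hp
    have key : ∀ a b : ZMod 2, a + b = 0 → a = b := by decide
    exact key _ _ hp
  rw [this]

/-- the octads as a finset -/
noncomputable def octadFinset : Finset (Finset GolayPt) := (Set.toFinite octads).toFinset

theorem mem_octadFinset (b : Finset GolayPt) : b ∈ octadFinset ↔ b ∈ octads := by
  simp [octadFinset]

theorem card_octadFinset : octadFinset.card = 759 := by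
  rw [octadFinset, ← Set.ncard_eq_toFinset_card, ncard_octads]

theorem card_of_mem_octads {b : Finset GolayPt} (hb : b ∈ octads) : b.card = 8 := hb.2

theorem exists_octad (s : Finset GolayPt) (hs : s.card = 5) : ∃ b ∈ octads, s ⊆ b := by
  classical
  -- pairs (octad, 5-subset of it)
  let X : Finset (Σ _ : Finset GolayPt, Finset GolayPt) :=
    octadFinset.sigma (fun o => Finset.powersetCard 5 o)
  have hX : X.card = 759 * 56 := by
    rw [Finset.card_sigma]
    rw [Finset.sum_congr rfl (g := fun _ => 56)]
    · rw [Finset.sum_const, card_octadFinset]; rfl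
    · intro o ho
      rw [Finset.card_powersetCard, card_of_mem_octads ((mem_octadFinset o).mp ho)]
      rfl
  let Y : Finset (Finset GolayPt) := Finset.powersetCard 5 Finset.univ
  have hY : Y.card = 42504 := by
    rw [Finset.card_powersetCard]
    have : (Finset.univ : Finset GolayPt).card = 24 := by decide
    rw [this]; rfl
  have hinj : Set.InjOn (fun x : (Σ _ : Finset GolayPt, Finset GolayPt) => x.2) (X : Set _) := by
    rintro ⟨o1, t1⟩ h1 ⟨o2, t2⟩ h2 h
    simp only at h
    subst h
    simp only [X, Finset.coe_sigma, Set.mem_sigma_iff, Finset.mem_coe, Finset.mem_powersetCard,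
      mem_octadFinset] at h1 h2
    have := octad_unique h1.1 h2.1 t1 h1.2.2 h1.2.1 h2.2.1
    subst this
    rfl
  have himg : X.image (fun x => x.2) = Y := by
    apply Finset.eq_of_subset_of_card_le
    · intro t ht
      simp only [Finset.mem_image] at ht
      obtain ⟨⟨o, t'⟩, hx, rfl⟩ := ht
      simp only [X, Finset.mem_sigma, Finset.mem_powersetCard] at hx
      simp only [Y, Finset.mem_powersetCard, Finset.subset_univ, true_and]
      exact hx.2.2
    · rw [Finset.card_image_of_injOn hinj, hX, hY]
  have hsY : s ∈ Y := by simp [Y, hs]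
  rw [← himg, Finset.mem_image] at hsY
  obtain ⟨⟨o, t⟩, hx, rfl⟩ := hsY
  simp only [X, Finset.mem_sigma, Finset.mem_powersetCard, mem_octadFinset] at hx
  exact ⟨o, hx.1, hx.2.1⟩

/-- The octads of the length-24 binary code form a Steiner system S(5, 8, 24): every five of the 24 points lie in exactly one octad. -/
theorem result : Cfsg.IsSteinerSystem 5 8 Cfsg.octads := by
  refine ⟨fun b hb => card_of_mem_octads hb, fun s hs => ?_⟩
  obtain ⟨b, hb, hsb⟩ := exists_octad s hs
  refine ⟨b, ⟨hb, hsb⟩, ?_⟩
  rintro b' ⟨hb', hsb'⟩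
  exact octad_unique hb' hb s hs hsb' hsb

end Cfsg.Agent.S0363
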