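import Mathlib
import Cfsg.Statements.S0375
import Cfsg.Agent.S5622
import Cfsg.Agent.S5624
import Cfsg.Agent.S0358
import Cfsg.Agent.S0363
import Cfsg.Agent.Lib.Helper95.BigNorm23
import Cfsg.Agent.Lib.Helper95.GolayUniq

set_option autoImplicit false
open Cfsg

namespace Cfsg.Agent.S0375

/-- A doubly even self-dual binary code of length 24 with no words of weight 4 is equivalent to the length-24 code built from the squares modulo 23. -/
theorem result (C : Submodule (ZMod 2) (Fin 24 → ZMod 2)) (hdim : Module.finrank (ZMod 2) C = 12) (horth : ∀ v ∈ C, ∀ w ∈ C, ∑ i, v i * w i = 0) (h4 : ∀ w ∈ C, 4 ∣ hammingNorm w) (hno4 : ∀ w ∈ C, hammingNorm w ≠ 4) : ∃ e : Fin 24 ≃ Cfsg.GolayPt, ∀ w : Cfsg.GolayPt → ZMod 2, w ∈ Cfsg.golayCode ↔ (fun i => w (e i)) ∈ C := by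
  have hmin : ∀ w ∈ C, w ≠ 0 → 8 ≤ hammingNorm w := by
    intro w hw hne
    have h0 : hammingNorm w ≠ 0 := fun h => hne (hammingNorm_eq_zero.mp h)
    obtain ⟨k, hk⟩ := h4 w hw
    have h5 := hno4 w hw
    omega
  have hS : Cfsg.IsSteinerSystem 5 8 (Cfsg.wordsOfWeight (C : Set (Fin 24 → ZMod 2)) 8) :=
    (Cfsg.Agent.S5622.result C hdim horth hmin).2
  have hspan := Cfsg.Agent.S5624.result C hdim horth hmin
  have hO : Cfsg.IsSteinerSystem 5 8
      (Cfsg.wordsOfWeight (Cfsg.golayCode : Set (Cfsg.GolayPt → ZMod 2)) 8) :=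
    Cfsg.Agent.S0363.result
  have hcard : Fintype.card Cfsg.GolayPt = 24 := by
    rw [Fintype.card_option, ZMod.card]
  obtain ⟨e, he⟩ := Cfsg.Agent.Lib.Helper95.Big.setSystemIso_of_norm'
    Cfsg.Agent.Lib.Helper95.Big.norm24 (Fintype.card_fin 24) hcard hS hO
  exact ⟨e, Cfsg.Agent.Lib.Helper95.Big.code_iff_of_imgSys' C Cfsg.golayCode hspan
    (hdim.trans Cfsg.Agent.S0358.result.symm) e he⟩

end Cfsg.Agent.S0375
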