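import Cfsg.Statements.S2588
import Cfsg.Agent.Lib.Helper43.GUSimilar

set_option autoImplicit false
open Cfsg

namespace Cfsg.Agent.S2588

open Cfsg.Agent.Lib.Helper43.HermSqrt

/-- An invertible matrix A over the field with q² elements is conjugate in GL_n(q²) to an element of the general unitary group GU_n(q) (isometries of the Hermitian form Σ u_i v_i^q) if and only if A is similar to the inverse transpose of its entrywise q-th power (A ~ A^(−qT), the image of A under the map sending a matrix to the inverse transpose of its entrywise q-th power — inverse transpose composed with the field automorphism — whose fixed points form GU_n(q)). -/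
theorem result {K : Type*} [Field K] [Fintype K] {q n : ℕ} (hK : Fintype.card K = q ^ 2) (A : GL (Fin n) K) : (∃ B : ↥(Cfsg.GU n K q), IsConj A (B : GL (Fin n) K)) ↔ IsConj (A : Matrix (Fin n) (Fin n) K) (((A : Matrix (Fin n) (Fin n) K).map (fun x : K => x ^ q)).transpose)⁻¹ := by
  obtain ⟨σ, hσq, hσ, c₀, hc₀⟩ := exists_sigma hK
  have hq : q ≠ 0 := by
    have := Cfsg.Agent.Lib.Helper13.two_le_q hK
    omega
  have hmap : ((A : Matrix (Fin n) (Fin n) K).map (fun x : K => x ^ q)).transpose =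
      cT σ (A : Matrix (Fin n) (Fin n) K) := by
    ext i j
    rw [cT_apply, Matrix.transpose_apply, Matrix.map_apply, hσq]
  rw [hmap]
  have haa' : (A : Matrix (Fin n) (Fin n) K) * ((A⁻¹ : GL (Fin n) K) : Matrix (Fin n) (Fin n) K) = 1 :=
    A.mul_inv
  have ha'a : ((A⁻¹ : GL (Fin n) K) : Matrix (Fin n) (Fin n) K) * (A : Matrix (Fin n) (Fin n) K) = 1 :=
    A.inv_mul
  have has : cT σ (A : Matrix (Fin n) (Fin n) K) *
      cT σ ((A⁻¹ : GL (Fin n) K) : Matrix (Fin n) (Fin n) K) = 1 := by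
    rw [← cT_mul, ha'a, cT_one]
  have has' : cT σ ((A⁻¹ : GL (Fin n) K) : Matrix (Fin n) (Fin n) K) *
      cT σ (A : Matrix (Fin n) (Fin n) K) = 1 := by
    rw [← cT_mul, haa', cT_one]
  have hinvEq : (cT σ (A : Matrix (Fin n) (Fin n) K))⁻¹ =
      cT σ ((A⁻¹ : GL (Fin n) K) : Matrix (Fin n) (Fin n) K) := Matrix.inv_eq_right_inv has
  rw [hinvEq]
  constructor
  · rintro ⟨B, hB⟩
    obtain ⟨P, hP⟩ := isConj_iff.1 hB
    have hP' : P * A = (B : GL (Fin n) K) * P := by
      rw [← hP, inv_mul_cancel_right]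
    have hp : (P : Matrix (Fin n) (Fin n) K) * (A : Matrix (Fin n) (Fin n) K) =
        ((B : GL (Fin n) K) : Matrix (Fin n) (Fin n) K) * (P : Matrix (Fin n) (Fin n) K) := by
      have := congrArg (fun g : GL (Fin n) K => (g : Matrix (Fin n) (Fin n) K)) hP'
      exact this
    have hb := (mem_GU_iff_cT hq σ hσq (B : GL (Fin n) K)).1 B.2
    have hpp' : (P : Matrix (Fin n) (Fin n) K) * ((P⁻¹ : GL (Fin n) K) : Matrix (Fin n) (Fin n) K) = 1 :=
      P.mul_inv
    have hp'p : ((P⁻¹ : GL (Fin n) K) : Matrix (Fin n) (Fin n) K) * (P : Matrix (Fin n) (Fin n) K) = 1 :=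
      P.inv_mul
    have hC1 : (cT σ (P : Matrix (Fin n) (Fin n) K) * (P : Matrix (Fin n) (Fin n) K)) *
        (((P⁻¹ : GL (Fin n) K) : Matrix (Fin n) (Fin n) K) *
          cT σ ((P⁻¹ : GL (Fin n) K) : Matrix (Fin n) (Fin n) K)) = 1 := by
      calc (cT σ (P : Matrix (Fin n) (Fin n) K) * (P : Matrix (Fin n) (Fin n) K)) *
            (((P⁻¹ : GL (Fin n) K) : Matrix (Fin n) (Fin n) K) *
              cT σ ((P⁻¹ : GL (Fin n) K) : Matrix (Fin n) (Fin n) K))
          = cT σ (P : Matrix (Fin n) (Fin n) K) * ((P : Matrix (Fin n) (Fin n) K) *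
              ((P⁻¹ : GL (Fin n) K) : Matrix (Fin n) (Fin n) K)) *
              cT σ ((P⁻¹ : GL (Fin n) K) : Matrix (Fin n) (Fin n) K) := by simp only [mul_assoc]
        _ = cT σ (((P⁻¹ : GL (Fin n) K) : Matrix (Fin n) (Fin n) K) *
              (P : Matrix (Fin n) (Fin n) K)) := by rw [hpp', mul_one, cT_mul]
        _ = 1 := by rw [hp'p, cT_one]
    have hinv : cT σ (A : Matrix (Fin n) (Fin n) K) *
        (cT σ (P : Matrix (Fin n) (Fin n) K) * (P : Matrix (Fin n) (Fin n) K)) *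
        (A : Matrix (Fin n) (Fin n) K) =
        cT σ (P : Matrix (Fin n) (Fin n) K) * (P : Matrix (Fin n) (Fin n) K) := by
      calc cT σ (A : Matrix (Fin n) (Fin n) K) *
            (cT σ (P : Matrix (Fin n) (Fin n) K) * (P : Matrix (Fin n) (Fin n) K)) *
            (A : Matrix (Fin n) (Fin n) K)
          = cT σ ((P : Matrix (Fin n) (Fin n) K) * (A : Matrix (Fin n) (Fin n) K)) *
              ((P : Matrix (Fin n) (Fin n) K) * (A : Matrix (Fin n) (Fin n) K)) := by
            rw [cT_mul]; simp only [mul_assoc]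
        _ = cT σ (P : Matrix (Fin n) (Fin n) K) *
              (cT σ ((B : GL (Fin n) K) : Matrix (Fin n) (Fin n) K) *
                ((B : GL (Fin n) K) : Matrix (Fin n) (Fin n) K)) *
              (P : Matrix (Fin n) (Fin n) K) := by
            rw [hp, cT_mul]; simp only [mul_assoc]
        _ = cT σ (P : Matrix (Fin n) (Fin n) K) * (P : Matrix (Fin n) (Fin n) K) := by
            rw [hb, mul_one]
    refine ⟨⟨cT σ (P : Matrix (Fin n) (Fin n) K) * (P : Matrix (Fin n) (Fin n) K),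
      ((P⁻¹ : GL (Fin n) K) : Matrix (Fin n) (Fin n) K) *
        cT σ ((P⁻¹ : GL (Fin n) K) : Matrix (Fin n) (Fin n) K), hC1, mul_eq_one_comm.1 hC1⟩, ?_⟩
    show (cT σ (P : Matrix (Fin n) (Fin n) K) * (P : Matrix (Fin n) (Fin n) K)) *
        (A : Matrix (Fin n) (Fin n) K) =
      cT σ ((A⁻¹ : GL (Fin n) K) : Matrix (Fin n) (Fin n) K) *
        (cT σ (P : Matrix (Fin n) (Fin n) K) * (P : Matrix (Fin n) (Fin n) K))
    calc (cT σ (P : Matrix (Fin n) (Fin n) K) * (P : Matrix (Fin n) (Fin n) K)) *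
          (A : Matrix (Fin n) (Fin n) K)
        = (cT σ ((A⁻¹ : GL (Fin n) K) : Matrix (Fin n) (Fin n) K) *
            cT σ (A : Matrix (Fin n) (Fin n) K)) *
            ((cT σ (P : Matrix (Fin n) (Fin n) K) * (P : Matrix (Fin n) (Fin n) K)) *
              (A : Matrix (Fin n) (Fin n) K)) := by rw [has', one_mul]
      _ = cT σ ((A⁻¹ : GL (Fin n) K) : Matrix (Fin n) (Fin n) K) *
            (cT σ (A : Matrix (Fin n) (Fin n) K) *
              (cT σ (P : Matrix (Fin n) (Fin n) K) * (P : Matrix (Fin n) (Fin n) K)) *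
              (A : Matrix (Fin n) (Fin n) K)) := by simp only [mul_assoc]
      _ = cT σ ((A⁻¹ : GL (Fin n) K) : Matrix (Fin n) (Fin n) K) *
            (cT σ (P : Matrix (Fin n) (Fin n) K) * (P : Matrix (Fin n) (Fin n) K)) := by rw [hinv]
  · rintro ⟨C, hC⟩
    have hC' : (C : Matrix (Fin n) (Fin n) K) * (A : Matrix (Fin n) (Fin n) K) =
        cT σ ((A⁻¹ : GL (Fin n) K) : Matrix (Fin n) (Fin n) K) * (C : Matrix (Fin n) (Fin n) K) := hC
    have hinv : cT σ (A : Matrix (Fin n) (Fin n) K) * (C : Matrix (Fin n) (Fin n) K) *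
        (A : Matrix (Fin n) (Fin n) K) = (C : Matrix (Fin n) (Fin n) K) := by
      rw [mul_assoc, hC', ← mul_assoc, has, one_mul]
    obtain ⟨x, x', hxx', hx⟩ := exists_gu_conj_matrix σ hσ c₀ hc₀ (A : Matrix (Fin n) (Fin n) K)
      ((A⁻¹ : GL (Fin n) K) : Matrix (Fin n) (Fin n) K) (C : Matrix (Fin n) (Fin n) K)
      ((C⁻¹ : (Matrix (Fin n) (Fin n) K)ˣ) : Matrix (Fin n) (Fin n) K) haa' C.mul_inv hinv
    let X : GL (Fin n) K := ⟨x, x', hxx', mul_eq_one_comm.1 hxx'⟩
    have hXmem : X * A * X⁻¹ ∈ Cfsg.GU n K q := by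
      rw [mem_GU_iff_cT hq σ hσq]
      exact hx
    exact ⟨⟨X * A * X⁻¹, hXmem⟩, isConj_iff.2 ⟨X, rfl⟩⟩

end Cfsg.Agent.S2588
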