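import Cfsg.Statements.S2402
import Cfsg.Agent.Lib.Helper40.SLCyc

set_option autoImplicit false
set_option linter.unusedSimpArgs false
set_option linter.unusedSectionVars false
open Cfsg

namespace Cfsg.Agent.S2402


open Matrix Matrix.SpecialLinearGroup Cfsg.Agent.Lib.Helper5 Cfsg.Agent.Lib.Helper40

section
variable {K : Type*} [Field K] {n : ℕ}

theorem diagonal_mul_single' (f : Fin (n + 1) → K) (a b : Fin (n + 1)) (c : K) :
    Matrix.diagonal f * Matrix.single a b c = Matrix.single a b (f a * c) := by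
  ext i j
  rw [Matrix.diagonal_mul]
  simp only [Matrix.single_apply]
  by_cases h : a = i ∧ b = j
  · rw [if_pos h, if_pos h, h.1]
  · rw [if_neg h, if_neg h, mul_zero]

theorem single_mul_diagonal' (f : Fin (n + 1) → K) (a b : Fin (n + 1)) (c : K) :
    Matrix.single a b c * Matrix.diagonal f = Matrix.single a b (c * f b) := by
  ext i j
  rw [Matrix.mul_diagonal]
  simp only [Matrix.single_apply]
  by_cases h : a = i ∧ b = j
  · rw [if_pos h, if_pos h, h.2]
  · rw [if_neg h, if_neg h, zero_mul]

theorem cycMat_mul_diagonal (d : Fin (n + 1) → K) :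
    cycMat n K * Matrix.diagonal d = Matrix.diagonal (fun i => d (i + 1)) * cycMat n K := by
  ext i j
  rw [Matrix.mul_diagonal, Matrix.diagonal_mul, cycMat_apply]
  by_cases h : j = i + 1
  · rw [if_pos h, h, mul_comm]
  · rw [if_neg h, zero_mul, mul_zero]

/-- step (i): `x * D' = (D' + E(d' 1 - d' 0)) * x` -/
theorem step_one (h01 : (0 : Fin (n + 1)) ≠ 1) (f : Fin (n + 1) → K) :
    (1 + Matrix.single (0 : Fin (n + 1)) 1 (1 : K)) * Matrix.diagonal f =
      (Matrix.diagonal f + Matrix.single 0 1 (f 1 - f 0)) * (1 + Matrix.single 0 1 (1 : K)) := by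
  rw [add_mul, one_mul, single_mul_diagonal', mul_add, mul_one, add_mul, diagonal_mul_single',
    single_mul_single_of_ne _ _ _ _ h01.symm]
  rw [add_zero, add_assoc, ← Matrix.single_add]
  congr 2
  ring

/-- step (ii) -/
theorem step_two (h01 : (0 : Fin (n + 1)) ≠ 1) (d f : Fin (n + 1) → K) (c t : K)
    (ht : d 0 * c = c * d 1 + t * f 1 * d 1) :
    Matrix.diagonal d * (Matrix.diagonal f + Matrix.single 0 1 c) =
      (1 + Matrix.single (0 : Fin (n + 1)) 1 t) * (Matrix.diagonal f + Matrix.single 0 1 c) *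
        Matrix.diagonal d := by
  rw [mul_add, diagonal_mul_single', add_mul, one_mul, mul_add, single_mul_diagonal',
    single_mul_single_of_ne _ _ _ _ h01.symm, add_zero, add_mul, add_mul, single_mul_diagonal',
    single_mul_diagonal', Matrix.diagonal_mul_diagonal, Matrix.diagonal_mul_diagonal,
    add_assoc, ← Matrix.single_add, ht]
  congr 2
  funext i
  ring


theorem sum_two_squares [Fintype K] (a : K) : ∃ u v : K, a = u ^ 2 + v ^ 2 := by
  by_cases hchar : ringChar K = 2
  · obtain ⟨r, hr⟩ := FiniteField.isSquare_of_char_two hchar a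
    exact ⟨r, 0, by rw [hr]; ring⟩
  · have hodd : Fintype.card K % 2 = 1 := by
      have := FiniteField.even_card_iff_char_two.not.mp hchar
      omega
    open Polynomial in
    obtain ⟨u, v, h⟩ := FiniteField.exists_root_sum_quadratic (f := (X : K[X]) ^ 2)
      (g := X ^ 2 - C a) (degree_X_pow 2) (degree_X_pow_sub_C (by decide) _) hodd
    refine ⟨u, v, ?_⟩
    simp only [Polynomial.eval_pow, Polynomial.eval_X, Polynomial.eval_sub, Polynomial.eval_C] at h
    linear_combination -h

theorem transvection_add {a b : Fin (n + 1)} (hab : a ≠ b) (s t : K) :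
    transvection hab s * transvection hab t = transvection hab (s + t) := by
  apply Subtype.ext
  exact Matrix.transvection_mul_transvection_same a b hab s t

end

/-- Explicit two-element generation of `PSL_{n+1}(K)` for a finite field `K` with more than three elements: let `k` generate the multiplicative group of `K`, `h = diag(k, k⁻¹, 1, …, 1)`, `x = 1 + E₁₂` (the elementary transvection) and `w` the monomial matrix with entries `1` in positions `(i, i+1)` and `(−1)^n` in position `(n+1, 1)`. Then `h` and `x·w` generate `SL_{n+1}(K)` modulo its centre: the subgroup they generate together with the centre is everything. -/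
theorem result {K : Type*} [Field K] [Fintype K] (hK : 3 < Fintype.card K) (n : ℕ) (hn : 1 ≤ n)
    (k : Kˣ) (hk : ∀ u : Kˣ, u ∈ Subgroup.zpowers k)
    (h x w : Matrix.SpecialLinearGroup (Fin (n + 1)) K)
    (hh : (h : Matrix (Fin (n + 1)) (Fin (n + 1)) K) =
      Matrix.diagonal (fun i => if i.val = 0 then (k : K) else if i.val = 1 then ((k⁻¹ : Kˣ) : K) else 1))
    (hx : (x : Matrix (Fin (n + 1)) (Fin (n + 1)) K) = Matrix.transvection (0 : Fin (n + 1)) (1 : Fin (n + 1)) 1)
    (hw : (w : Matrix (Fin (n + 1)) (Fin (n + 1)) K) =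
      Matrix.of (fun i j => if j.val = i.val + 1 then 1 else if i.val = n ∧ j.val = 0 then (-1) ^ n else 0)) :
    Subgroup.closure ({h, x * w} : Set (Matrix.SpecialLinearGroup (Fin (n + 1)) K)) ⊔
      Subgroup.center (Matrix.SpecialLinearGroup (Fin (n + 1)) K) = ⊤ := by
  classical
  obtain ⟨m, rfl⟩ : ∃ m, n = m + 1 := ⟨n - 1, by omega⟩
  have hhH : h ∈ Subgroup.closure ({h, x * w} : Set (Matrix.SpecialLinearGroup (Fin (m + 1 + 1)) K)) :=
    Subgroup.subset_closure (by simp)
  have hgH : x * w ∈ Subgroup.closure ({h, x * w} : Set (Matrix.SpecialLinearGroup (Fin (m + 1 + 1)) K)) :=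
    Subgroup.subset_closure (by simp)
  generalize Subgroup.closure ({h, x * w} : Set (Matrix.SpecialLinearGroup (Fin (m + 1 + 1)) K)) = H
    at hhH hgH ⊢
  have h01 : (0 : Fin (m + 1 + 1)) ≠ 1 := by
    intro e
    have := congrArg Fin.val e
    simp at this
  -- the order of k
  have hord : orderOf k = Fintype.card K - 1 := by
    rw [orderOf_eq_card_of_forall_mem_zpowers hk, Nat.card_eq_fintype_card, Fintype.card_units]
  have hk2 : (k : K) ^ 2 ≠ 1 := by
    intro e
    have e' : k ^ 2 = 1 := Units.ext (by simpa using e)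
    have := orderOf_dvd_of_pow_eq_one e'
    have := Nat.le_of_dvd (by norm_num) this
    omega
  have hk0 : (k : K) ≠ 0 := k.ne_zero
  have hk1 : (k : K) ≠ 1 := by
    intro e
    apply hk2
    rw [e]; ring
  set d : Fin (m + 1 + 1) → K :=
    fun i => if i.val = 0 then (k : K) else if i.val = 1 then ((k⁻¹ : Kˣ) : K) else 1 with hd
  have hd0 : d 0 = (k : K) := by simp [hd]
  have hd1 : d 1 = (k : K)⁻¹ := by simp [hd]
  have hf1 : d (1 + 1) = (k : K) ∨ d (1 + 1) = 1 := by
    by_cases hm : m = 0
    · left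
      subst hm
      have : (1 + 1 : Fin (0 + 1 + 1)) = 0 := by decide
      rw [this, hd0]
    · right
      have hv : (1 + 1 : Fin (m + 1 + 1)).val = 2 := by
        rw [Fin.val_add, Fin.val_one, Nat.mod_eq_of_lt (by omega)]
      have hv0 : ¬ (1 + 1 : Fin (m + 1 + 1)).val = 0 := by rw [hv]; norm_num
      have hv1 : ¬ (1 + 1 : Fin (m + 1 + 1)).val = 1 := by rw [hv]; norm_num
      show (if (1 + 1 : Fin (m + 1 + 1)).val = 0 then (k : K)
        else if (1 + 1 : Fin (m + 1 + 1)).val = 1 then ((k⁻¹ : Kˣ) : K) else 1) = 1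
      rw [if_neg hv0, if_neg hv1]
  have hf1' : d (1 + 1) ≠ 0 := by
    rcases hf1 with e | e
    · rw [e]; exact hk0
    · rw [e]; exact one_ne_zero
  -- the conjugate y of h
  have hyH : (x * w) * h * (x * w)⁻¹ ∈ H := H.mul_mem (H.mul_mem hgH hhH) (H.inv_mem hgH)
  have hy : (((x * w) * h * (x * w)⁻¹ : Matrix.SpecialLinearGroup (Fin (m + 1 + 1)) K) :
      Matrix (Fin (m + 1 + 1)) (Fin (m + 1 + 1)) K) =
      Matrix.diagonal (fun i => d (i + 1)) + Matrix.single 0 1 (d (1 + 1) - d (0 + 1)) := by
    have e : ((x * w : Matrix.SpecialLinearGroup (Fin (m + 1 + 1)) K) :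
        Matrix (Fin (m + 1 + 1)) (Fin (m + 1 + 1)) K) * (h : Matrix _ _ K) =
        (Matrix.diagonal (fun i => d (i + 1)) + Matrix.single 0 1 (d (1 + 1) - d (0 + 1))) *
          ((x * w : Matrix.SpecialLinearGroup (Fin (m + 1 + 1)) K) : Matrix _ _ K) := by
      rw [Matrix.SpecialLinearGroup.coe_mul, hx, hh]
      have hw' : (w : Matrix (Fin (m + 1 + 1)) (Fin (m + 1 + 1)) K) =
          Cfsg.Agent.Lib.Helper40.cycMat (m + 1) K := hw
      rw [hw', Matrix.mul_assoc, cycMat_mul_diagonal, ← Matrix.mul_assoc]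
      unfold Matrix.transvection
      rw [step_one h01 (fun i => d (i + 1)), Matrix.mul_assoc]
    rw [Matrix.SpecialLinearGroup.coe_mul, Matrix.SpecialLinearGroup.coe_mul (x * w) h, e,
      Matrix.mul_assoc, ← Matrix.SpecialLinearGroup.coe_mul, mul_inv_cancel,
      Matrix.SpecialLinearGroup.coe_one, Matrix.mul_one]
  generalize (x * w) * h * (x * w)⁻¹ = y at hyH hy
  rw [zero_add] at hy
  -- the commutator is a transvection
  have hz : h * y * h⁻¹ * y⁻¹ = Matrix.SpecialLinearGroup.transvection h01
      ((d (1 + 1) - d 1) * (d 0 - d 1) / (d (1 + 1) * d 1)) := by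
    rw [mul_inv_eq_iff_eq_mul, mul_inv_eq_iff_eq_mul]
    apply Subtype.ext
    simp only [Matrix.SpecialLinearGroup.coe_mul, Matrix.SpecialLinearGroup.transvection_coe, hh, hy]
    apply step_two h01 d (fun i => d (i + 1)) _ _
    have : d 1 ≠ 0 := by rw [hd1]; exact inv_ne_zero hk0
    field_simp
    ring
  have ht0 : (d (1 + 1) - d 1) * (d 0 - d 1) / (d (1 + 1) * d 1) ≠ 0 := by
    have hd1' : d 1 ≠ 0 := by rw [hd1]; exact inv_ne_zero hk0
    apply div_ne_zero _ (mul_ne_zero hf1' hd1')
    apply mul_ne_zero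
    · rw [hd1]
      rcases hf1 with e | e
      · rw [e]
        intro e2
        apply hk2
        have : (k : K) = (k : K)⁻¹ := sub_eq_zero.mp e2
        rw [pow_two]; nth_rewrite 2 [this]; exact mul_inv_cancel₀ hk0
      · rw [e]
        intro e2
        apply hk1
        have : (1 : K) = (k : K)⁻¹ := sub_eq_zero.mp e2
        have h3 : (k : K) * (k : K)⁻¹ = 1 := mul_inv_cancel₀ hk0
        rw [← this, mul_one] at h3
        exact h3
    · rw [hd0, hd1]
      intro e2
      apply hk2
      have : (k : K) = (k : K)⁻¹ := sub_eq_zero.mp e2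
      rw [pow_two]; nth_rewrite 2 [this]; exact mul_inv_cancel₀ hk0
  generalize (d (1 + 1) - d 1) * (d 0 - d 1) / (d (1 + 1) * d 1) = t₀ at hz ht0
  have hzH : Matrix.SpecialLinearGroup.transvection h01 t₀ ∈ H := by
    rw [← hz]
    exact H.mul_mem (H.mul_mem (H.mul_mem hhH hyH) (H.inv_mem hhH)) (H.inv_mem hyH)
  -- conjugation by h scales by k²
  have hconj : ∀ t : K, h * Matrix.SpecialLinearGroup.transvection h01 t * h⁻¹ =
      Matrix.SpecialLinearGroup.transvection h01 ((k : K) ^ 2 * t) := by
    intro t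
    rw [mul_inv_eq_iff_eq_mul]
    apply Subtype.ext
    simp only [Matrix.SpecialLinearGroup.coe_mul, Matrix.SpecialLinearGroup.transvection_coe, hh]
    rw [mul_add, add_mul, mul_one, one_mul, diagonal_mul_single', single_mul_diagonal', hd0, hd1]
    congr 2
    field_simp
  have hS0 : Matrix.SpecialLinearGroup.transvection h01 (0 : K) ∈ H := by
    rw [Matrix.SpecialLinearGroup.transvection_coeff_zero]; exact H.one_mem
  have hSadd : ∀ a b : K, Matrix.SpecialLinearGroup.transvection h01 a ∈ H →
      Matrix.SpecialLinearGroup.transvection h01 b ∈ H →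
      Matrix.SpecialLinearGroup.transvection h01 (a + b) ∈ H := by
    intro a b ha hb
    rw [← transvection_add]
    exact H.mul_mem ha hb
  have hSk : ∀ (j : ℕ) (a : K), Matrix.SpecialLinearGroup.transvection h01 a ∈ H →
      Matrix.SpecialLinearGroup.transvection h01 (((k : K) ^ 2) ^ j * a) ∈ H := by
    intro j
    induction j with
    | zero => intro a ha; simpa using ha
    | succ j ih =>
      intro a ha
      have h1 := ih a ha
      have h2 := H.mul_mem (H.mul_mem hhH h1) (H.inv_mem hhH)
      rw [hconj] at h2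
      have e : ((k : K) ^ 2) ^ (j + 1) * a = (k : K) ^ 2 * (((k : K) ^ 2) ^ j * a) := by ring
      rw [e]; exact h2
  have hSsq : ∀ (u a : K), Matrix.SpecialLinearGroup.transvection h01 a ∈ H →
      Matrix.SpecialLinearGroup.transvection h01 (u ^ 2 * a) ∈ H := by
    intro u a ha
    by_cases hu : u = 0
    · rw [hu]
      have e0 : (0 : K) ^ 2 * a = 0 := by ring
      rw [e0]; exact hS0
    · have hmem := hk (Units.mk0 u hu)
      rw [← mem_powers_iff_mem_zpowers, Submonoid.mem_powers_iff] at hmem
      obtain ⟨j, hj⟩ := hmem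
      have hu' : u = (k : K) ^ j := by
        have := congrArg (fun v : Kˣ => (v : K)) hj
        simpa using this.symm
      have e : u ^ 2 * a = ((k : K) ^ 2) ^ j * a := by rw [hu']; ring
      rw [e]
      exact hSk j a ha
  have hX : Cfsg.Agent.Lib.Helper40.RootIn H 0 1 := by
    intro h01' s
    obtain ⟨u, v, huv⟩ := sum_two_squares (s / t₀)
    have e : s = u ^ 2 * t₀ + v ^ 2 * t₀ := by
      rw [← add_mul, ← huv, div_mul_cancel₀ _ ht0]
    rw [e]
    exact hSadd _ _ (hSsq u t₀ hzH) (hSsq v t₀ hzH)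
  have hxH : x ∈ H := by
    have hx1 : x = Matrix.SpecialLinearGroup.transvection h01 1 := Subtype.ext (by rw [hx]; rfl)
    rw [hx1]
    exact hX h01 1
  have hwH : w ∈ H := by
    have : w = x⁻¹ * (x * w) := by group
    rw [this]
    exact H.mul_mem (H.inv_mem hxH) hgH
  have htop := Cfsg.Agent.Lib.Helper40.eq_top_of_cyc_root (by omega) H w hw hwH hX
  rw [htop]
  simp

end Cfsg.Agent.S2402
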