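import Cfsg.Statements.S2403
import Cfsg.Agent.Lib.Helper40.SLCyc

set_option autoImplicit false
open Cfsg

namespace Cfsg.Agent.S2403

/-- Explicit two-element generation of `PSL_{n+1}(K)` over the fields with two or three elements: with `x = 1 + E₁₂` and `w` the monomial matrix with entries `1` in positions `(i, i+1)` and `(−1)^n` in position `(n+1, 1)`, the elements `x` and `w` generate `SL_{n+1}(K)` modulo its centre. -/
theorem result {K : Type*} [Field K] [Fintype K] (hK : Fintype.card K ≤ 3) (n : ℕ) (hn : 1 ≤ n)
    (x w : Matrix.SpecialLinearGroup (Fin (n + 1)) K)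
    (hx : (x : Matrix (Fin (n + 1)) (Fin (n + 1)) K) = Matrix.transvection (0 : Fin (n + 1)) (1 : Fin (n + 1)) 1)
    (hw : (w : Matrix (Fin (n + 1)) (Fin (n + 1)) K) =
      Matrix.of (fun i j => if j.val = i.val + 1 then 1 else if i.val = n ∧ j.val = 0 then (-1) ^ n else 0)) :
    Subgroup.closure ({x, w} : Set (Matrix.SpecialLinearGroup (Fin (n + 1)) K)) ⊔
      Subgroup.center (Matrix.SpecialLinearGroup (Fin (n + 1)) K) = ⊤ := by
  classical
  have hxH : x ∈ Subgroup.closure ({x, w} : Set (Matrix.SpecialLinearGroup (Fin (n + 1)) K)) :=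
    Subgroup.subset_closure (by simp)
  have hwH : w ∈ Subgroup.closure ({x, w} : Set (Matrix.SpecialLinearGroup (Fin (n + 1)) K)) :=
    Subgroup.subset_closure (by simp)
  have hK3 : ∀ t : K, t = 0 ∨ t = 1 ∨ t = -1 := by
    intro t
    by_cases ht : t = 0
    · exact Or.inl ht
    · right
      have h1 := FiniteField.pow_card_sub_one_eq_one t ht
      have hq : 1 < Fintype.card K := Fintype.one_lt_card
      have hcases : Fintype.card K - 1 = 1 ∨ Fintype.card K - 1 = 2 := by omega
      rcases hcases with h | h
      · rw [h, pow_one] at h1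
        exact Or.inl h1
      · rw [h, pow_two] at h1
        exact mul_self_eq_one_iff.mp h1
  have hX : Cfsg.Agent.Lib.Helper40.RootIn
      (Subgroup.closure ({x, w} : Set (Matrix.SpecialLinearGroup (Fin (n + 1)) K))) 0 1 := by
    intro h01 s
    have hx1 : x = Matrix.SpecialLinearGroup.transvection h01 1 := Subtype.ext (by rw [hx]; rfl)
    rcases hK3 s with rfl | rfl | rfl
    · rw [Matrix.SpecialLinearGroup.transvection_coeff_zero]
      exact Subgroup.one_mem _
    · rw [← hx1]; exact hxH
    · have : Matrix.SpecialLinearGroup.transvection h01 (-1 : K) = x⁻¹ := by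
        rw [hx1, Matrix.SpecialLinearGroup.transvection_inv]
      rw [this]
      exact Subgroup.inv_mem _ hxH
  have htop := Cfsg.Agent.Lib.Helper40.eq_top_of_cyc_root hn _ w hw hwH hX
  rw [htop]
  simp

end Cfsg.Agent.S2403
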