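import Cfsg.Statements.S2566
import Cfsg.Agent.S0287

set_option autoImplicit false
open Cfsg

namespace Cfsg.Agent.S2566

/-- the two-dimensional representation of the symmetric group of degree three over the field of
two elements -/
def g2 (σ : Equiv.Perm (Fin 3)) : Matrix (Fin 2) (Fin 2) (ZMod 2) :=
  Matrix.of fun i j =>
    (if σ j.castSucc = i.castSucc then 1 else 0) + (if σ 2 = i.castSucc then 1 else 0)

/-- left multiplication on two by two matrices, in the coordinates of the plus form -/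
def lft (σ : Equiv.Perm (Fin 3)) : Matrix (Fin 2 ⊕ Fin 2) (Fin 2 ⊕ Fin 2) (ZMod 2) :=
  Matrix.fromBlocks (g2 σ 0 0 • 1) (g2 σ 0 1 • !![0, 1; 1, 0]) (g2 σ 1 0 • !![0, 1; 1, 0])
    (g2 σ 1 1 • 1)

/-- the transposition of two by two matrices, in the coordinates of the plus form -/
def tr : Matrix (Fin 2 ⊕ Fin 2) (Fin 2 ⊕ Fin 2) (ZMod 2) :=
  Matrix.fromBlocks !![1, 0; 0, 0] !![0, 0; 0, 1] !![0, 0; 0, 1] !![1, 0; 0, 0]

theorem lft_one : lft 1 = 1 := by decide

theorem lft_mul : ∀ σ τ : Equiv.Perm (Fin 3), lft (σ * τ) = lft σ * lft τ := by decide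

theorem lft_isom : ∀ (σ : Equiv.Perm (Fin 3)) (x : Fin 2 ⊕ Fin 2 → ZMod 2),
    Cfsg.quadFormPlus 2 (ZMod 2) ((lft σ).mulVec x) = Cfsg.quadFormPlus 2 (ZMod 2) x := by decide

theorem lft_inj : ∀ σ : Equiv.Perm (Fin 3), lft σ = 1 → σ = 1 := by decide

theorem tr_mul_tr : tr * tr = 1 := by decide

theorem tr_isom : ∀ x : Fin 2 ⊕ Fin 2 → ZMod 2,
    Cfsg.quadFormPlus 2 (ZMod 2) (tr.mulVec x) = Cfsg.quadFormPlus 2 (ZMod 2) x := by decide

theorem lft_comm : ∀ σ τ : Equiv.Perm (Fin 3),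
    lft σ * (tr * lft τ * tr) = (tr * lft τ * tr) * lft σ := by decide

theorem lft_inter : ∀ σ τ : Equiv.Perm (Fin 3), lft σ = tr * lft τ * tr → σ = 1 := by decide

/-- the orthogonal group in question -/
abbrev G : Type := ↥(Cfsg.isometryGroup (ZMod 2) (Cfsg.quadFormPlus 2 (ZMod 2)))

/-- the representation as a monoid homomorphism to matrices -/
def rho0 : Equiv.Perm (Fin 3) →* Matrix (Fin 2 ⊕ Fin 2) (Fin 2 ⊕ Fin 2) (ZMod 2) where
  toFun := lft
  map_one' := lft_one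
  map_mul' := lft_mul

/-- the representation into the orthogonal group -/
def rhoG : Equiv.Perm (Fin 3) →* G :=
  (rho0.toHomUnits).codRestrict _ (fun σ => by
    intro u v
    exact lft_isom σ u)

theorem rhoG_val (σ : Equiv.Perm (Fin 3)) :
    (((rhoG σ : G) : Matrix.GeneralLinearGroup (Fin 2 ⊕ Fin 2) (ZMod 2)) :
      Matrix (Fin 2 ⊕ Fin 2) (Fin 2 ⊕ Fin 2) (ZMod 2)) = lft σ := rfl

/-- the transposition as an element of the orthogonal group -/
def trG : G :=
  ⟨⟨tr, tr, tr_mul_tr, tr_mul_tr⟩, by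
    intro u v
    exact tr_isom u⟩

theorem trG_val : ((trG : Matrix.GeneralLinearGroup (Fin 2 ⊕ Fin 2) (ZMod 2)) :
      Matrix (Fin 2 ⊕ Fin 2) (Fin 2 ⊕ Fin 2) (ZMod 2)) = tr := rfl

theorem trG_inv_val : (((trG⁻¹ : G) : Matrix.GeneralLinearGroup (Fin 2 ⊕ Fin 2) (ZMod 2)) :
      Matrix (Fin 2 ⊕ Fin 2) (Fin 2 ⊕ Fin 2) (ZMod 2)) = tr := rfl

/-- the conjugated representation -/
def rhoG' : Equiv.Perm (Fin 3) →* G := (MulAut.conj trG).toMonoidHom.comp rhoG

theorem rhoG'_val (σ : Equiv.Perm (Fin 3)) :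
    (((rhoG' σ : G) : Matrix.GeneralLinearGroup (Fin 2 ⊕ Fin 2) (ZMod 2)) :
      Matrix (Fin 2 ⊕ Fin 2) (Fin 2 ⊕ Fin 2) (ZMod 2)) = tr * lft σ * tr := rfl

theorem G_ext (x y : G)
    (h : ((x : Matrix.GeneralLinearGroup (Fin 2 ⊕ Fin 2) (ZMod 2)) :
      Matrix (Fin 2 ⊕ Fin 2) (Fin 2 ⊕ Fin 2) (ZMod 2)) =
      ((y : Matrix.GeneralLinearGroup (Fin 2 ⊕ Fin 2) (ZMod 2)) :
      Matrix (Fin 2 ⊕ Fin 2) (Fin 2 ⊕ Fin 2) (ZMod 2))) : x = y :=
  Subtype.ext (Units.ext h)

theorem rhoG_injective : Function.Injective rhoG := by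
  rw [injective_iff_map_eq_one]
  intro σ hσ
  apply lft_inj
  rw [← rhoG_val, hσ]
  rfl

theorem rhoG'_injective : Function.Injective rhoG' :=
  (MulAut.conj trG).injective.comp rhoG_injective

theorem rho_comm (σ τ : Equiv.Perm (Fin 3)) : Commute (rhoG σ) (rhoG' τ) := by
  apply G_ext
  show lft σ * (tr * lft τ * tr) = (tr * lft τ * tr) * lft σ
  exact lft_comm σ τ

theorem rho_disjoint : Disjoint rhoG.range rhoG'.range := by
  rw [Subgroup.disjoint_def]
  rintro x ⟨σ, rfl⟩ ⟨τ, hτ⟩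
  have h1 : lft σ = tr * lft τ * tr := by
    rw [← rhoG_val, ← rhoG'_val, hτ]
  rw [lft_inter σ τ h1, map_one]

theorem card_G : Nat.card G = 72 := by
  have h := Cfsg.Agent.S0287.result (F := ZMod 2) (q := 2) (ZMod.card 2) 2 (by norm_num)
  rw [h]
  norm_num [Finset.prod_range_one]

/-- The full orthogonal group of the plus-type form x₁y₁ + x₂y₂ in dimension 4 over the field of two elements has order 72 and is isomorphic to the wreath product of the symmetric group of degree 3 by a group of order 2: it has a normal subgroup isomorphic to the direct product of two symmetric groups of degree 3, of index 2, whose two direct factors are interchanged by conjugation by some element. -/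
theorem result :
    Nat.card ↥(Cfsg.isometryGroup (ZMod 2) (Cfsg.quadFormPlus 2 (ZMod 2))) = 72 ∧
    ∃ (A B : Subgroup ↥(Cfsg.isometryGroup (ZMod 2) (Cfsg.quadFormPlus 2 (ZMod 2)))),
      Nonempty (↥A ≃* Equiv.Perm (Fin 3)) ∧ Nonempty (↥B ≃* Equiv.Perm (Fin 3)) ∧ A ⊓ B = ⊥ ∧ (∀ a ∈ A, ∀ b ∈ B, a * b = b * a) ∧
      (A ⊔ B).index = 2 ∧ ∃ g : ↥(Cfsg.isometryGroup (ZMod 2) (Cfsg.quadFormPlus 2 (ZMod 2))), A.map (MulAut.conj g).toMonoidHom = B := by
  refine ⟨card_G, rhoG.range, rhoG'.range, ⟨(MonoidHom.ofInjective rhoG_injective).symm⟩,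
    ⟨(MonoidHom.ofInjective rhoG'_injective).symm⟩, ?_, ?_, ?_, trG, ?_⟩
  · exact disjoint_iff.mp rho_disjoint
  · rintro a ⟨σ, rfl⟩ b ⟨τ, rfl⟩
    exact rho_comm σ τ
  · have hinj : Function.Injective (MonoidHom.noncommCoprod rhoG rhoG' rho_comm) :=
      (MonoidHom.noncommCoprod_injective rhoG rhoG' rho_comm).mpr
        ⟨rhoG_injective, rhoG'_injective, rho_disjoint⟩
    have hcard : Nat.card ↥(rhoG.range ⊔ rhoG'.range) = 36 := by
      rw [← MonoidHom.noncommCoprod_range rhoG rhoG' rho_comm,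
        ← Nat.card_congr (MonoidHom.ofInjective hinj).toEquiv, Nat.card_prod,
        Nat.card_eq_fintype_card, Fintype.card_perm, Fintype.card_fin]
      rfl
    have h := Subgroup.index_mul_card (rhoG.range ⊔ rhoG'.range)
    rw [hcard, card_G] at h
    omega
  · exact MonoidHom.map_range _ _

end Cfsg.Agent.S2566
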