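import Cfsg.Statements.S5119
import Cfsg.Agent.Lib.Helper88.FratInduction

set_option autoImplicit false
open Cfsg

namespace Cfsg.Agent.S5119

open Cfsg.Agent.Lib.Helper88
open Cfsg.Agent.Lib.Helper87 (restrict_mem hom_le hom_mem_S subtype_mem)

/-- Let F be a saturated fusion system over a finite p-group S and E a subsystem of F over a subgroup T that is strongly closed in F. Then E is invariant in F (invariance under Aut_F(T) plus the Frattini condition) if and only if the strong invariance condition holds: for P ≤ Q ≤ T, every map φ of E from P into Q and every map ψ of F with source Q, the transported map ψ φ ψ⁻¹ on ψ(P) is a map of E. -/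
theorem result {Ω : Type*} [Group Ω] {S : Subgroup Ω} [Finite S] (p : ℕ) [Fact p.Prime] (hS : IsPGroup p S) (F : Cfsg.FusionSystem S) (hF : F.IsSaturated p) {T : Subgroup Ω} (E : Cfsg.FusionSystem T) (hE : E.IsSubsystemOf F) (hT : F.StronglyClosed T) : E.IsInvariantIn F ↔ ∀ (P Q : Subgroup Ω) (hPQ : P ≤ Q) (_ : Q ≤ T) (φ : P →* Ω) (_ : φ ∈ E.Hom P) (hφQ : ∀ x : P, φ x ∈ Q) (ψ : Q →* Ω) (_ : ψ ∈ F.Hom Q), ∃ χ ∈ E.Hom ((P.subgroupOf Q).map ψ), ∀ (x : P) (hx : ψ (Subgroup.inclusion hPQ x) ∈ (P.subgroupOf Q).map ψ), χ ⟨ψ (Subgroup.inclusion hPQ x), hx⟩ = ψ ⟨φ x, hφQ x⟩ := by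
  have hTS : T ≤ S := hT.1
  constructor
  · rintro ⟨-, -, hinv, hfrat⟩ P Q hPQ hQT φ hφ hφQ ψ hψ
    obtain ⟨α, hα, ψ₀, hψ₀, hψe⟩ := hfrat Q hQT ψ hψ
    have hψ₀T : ∀ y : Q, ψ₀ y ∈ T := hom_mem_S E hψ₀
    have hψ₀P := restrict_mem E hψ₀ hPQ
    have hρ := E.comp_mem hφ hψ₀ hφQ
    obtain ⟨χ₀, hχ₀, hχ₀e, -⟩ := exists_comp_inv E hψ₀P hρ rfl
    have hP₀T : (ψ₀.comp (Subgroup.inclusion hPQ)).range ≤ T := by
      rintro _ ⟨x, rfl⟩
      exact hψ₀T _
    have hP' : (P.subgroupOf Q).map ψ = img α (ψ₀.comp (Subgroup.inclusion hPQ)).range := by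
      ext y
      rw [mem_img]
      constructor
      · rintro ⟨q, hq, rfl⟩
        exact ⟨⟨ψ₀ q, hψ₀T q⟩, ⟨⟨q, Subgroup.mem_subgroupOf.mp hq⟩, rfl⟩,
          (hψe q (hψ₀T q)).symm⟩
      · rintro ⟨t, ⟨x, hx⟩, rfl⟩
        refine ⟨Subgroup.inclusion hPQ x, Subgroup.mem_subgroupOf.mpr x.2, ?_⟩
        rw [hψe _ (hψ₀T _)]
        congr 2
        exact Subtype.ext hx
    obtain ⟨χ, hχ, hχe⟩ := transport_hom hinv hP₀T hχ₀ hα hP'
    refine ⟨χ, hχ, fun x hx => ?_⟩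
    have e1 : ψ (Subgroup.inclusion hPQ x) =
        ((α ⟨(ψ₀.comp (Subgroup.inclusion hPQ)) x, hψ₀T _⟩ : T) : Ω) := hψe _ (hψ₀T _)
    have hmem0 : (ψ₀.comp (Subgroup.inclusion hPQ)) x ∈
        (ψ₀.comp (Subgroup.inclusion hPQ)).range := ⟨x, rfl⟩
    have e2 := hχ₀e x hmem0
    have hφx : χ₀ ⟨(ψ₀.comp (Subgroup.inclusion hPQ)) x, hmem0⟩ ∈ T := by
      rw [e2]
      exact hψ₀T _
    have hx' : ((α ⟨((⟨(ψ₀.comp (Subgroup.inclusion hPQ)) x, hmem0⟩ :
        (ψ₀.comp (Subgroup.inclusion hPQ)).range) : Ω), hP₀T hmem0⟩ : T) : Ω) ∈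
        (P.subgroupOf Q).map ψ := by
      have := hx
      rw [e1] at this
      exact this
    have h1 := hχe ⟨_, hmem0⟩ hφx hx'
    have e3 : (⟨ψ (Subgroup.inclusion hPQ x), hx⟩ : ↥((P.subgroupOf Q).map ψ)) =
        ⟨_, hx'⟩ := Subtype.ext e1
    rw [e3, h1, hψe ⟨φ x, hφQ x⟩ (hψ₀T _)]
    congr 2
    exact Subtype.ext e2
  · intro SI
    have hinv : InvProp E F := by
      intro P hPT φ hφ α hα
      have hαF := (Cfsg.Agent.Lib.Helper87.mem_autGroup_iff F hTS α).mp hα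
      obtain ⟨χ, hχ, hχe⟩ := SI P T hPT le_rfl φ hφ (hom_mem_S E hφ) _ hαF
      exact ⟨χ, hχ, fun x hφx hαx => hχe x hαx⟩
    have hnorm : ∀ P : Subgroup Ω, P ≤ T → ∀ χ ∈ F.autGroup P, ∀ a ∈ E.autGroup P,
        χ * a * χ⁻¹ ∈ E.autGroup P := by
      intro P hPT χ hχ a ha
      have hPS := hPT.trans hTS
      have hχF := (Cfsg.Agent.Lib.Helper87.mem_autGroup_iff F hPS χ).mp hχ
      have haE := (Cfsg.Agent.Lib.Helper87.mem_autGroup_iff E hPT a).mp ha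
      obtain ⟨ξ, hξ, hξe⟩ := SI P P le_rfl hPT _ haE (fun x => (a x).2) _ hχF
      have hPP : P = (P.subgroupOf P).map (P.subtype.comp χ.toMonoidHom) := by
        ext y
        constructor
        · intro hy
          refine ⟨χ.symm ⟨y, hy⟩, Subgroup.mem_subgroupOf.mpr (SetLike.coe_mem _), ?_⟩
          show ((χ (χ.symm ⟨y, hy⟩) : P) : Ω) = y
          rw [MulEquiv.apply_symm_apply]
        · rintro ⟨x, -, rfl⟩
          exact (χ x).2
      obtain ⟨ξ', hξ', hξ'e⟩ := Cfsg.Agent.Lib.Helper84.exists_hom_of_eq E hξ hPP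
      rw [Cfsg.Agent.Lib.Helper87.mem_autGroup_iff E hPT]
      have : P.subtype.comp (χ * a * χ⁻¹).toMonoidHom = ξ' := by
        ext x
        have hx1 : (P.subtype.comp χ.toMonoidHom) (Subgroup.inclusion le_rfl (χ⁻¹ x)) ∈
            (P.subgroupOf P).map (P.subtype.comp χ.toMonoidHom) :=
          ⟨_, Subgroup.mem_subgroupOf.mpr (SetLike.coe_mem _), rfl⟩
        have h1 := hξe (χ⁻¹ x) hx1
        have e1 : (P.subtype.comp χ.toMonoidHom) (Subgroup.inclusion le_rfl (χ⁻¹ x)) = x := by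
          show ((χ (χ⁻¹ x) : P) : Ω) = x
          rw [MulAut.apply_inv_self]
        have hx2 : (x : Ω) ∈ (P.subgroupOf P).map (P.subtype.comp χ.toMonoidHom) := by
          rw [← hPP]; exact x.2
        have h2 := hξ'e x x.2 hx2
        have e2 : (⟨(x : Ω), hx2⟩ : ↥((P.subgroupOf P).map (P.subtype.comp χ.toMonoidHom))) =
            ⟨_, hx1⟩ := Subtype.ext e1.symm
        show (((χ * a * χ⁻¹) x : P) : Ω) = ξ' x
        have e3 : ξ' x = ξ' ⟨(x : Ω), x.2⟩ := rfl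
        rw [e3, h2, e2, h1]
        rfl
      rw [this]
      exact hξ'
    exact ⟨hE, hT, hinv, fratProp_of_invProp hS hF hE hT hinv hnorm⟩

end Cfsg.Agent.S5119
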