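import Cfsg.Statements.S5338
import Cfsg.Agent.Lib.Helper88.Frattini
import Cfsg.Agent.Lib.Helper88.Abelian

set_option autoImplicit false
open Cfsg

namespace Cfsg.Agent.S5338

open Cfsg.FusionSystem Cfsg.Agent.Lib.Helper87
open Cfsg.Agent.Lib.Helper88 (hom_cast autGroup_le_of_frattini)

theorem card_le_of_hom {Ω : Type*} [Group Ω] {S : Subgroup Ω} [Finite S] (F : FusionSystem S)
    {P Q : Subgroup Ω} (hQS : Q ≤ S) {φ : P →* Ω} (hφ : φ ∈ F.Hom P) (hQ : ∀ x, φ x ∈ Q) :
    Nat.card P ≤ Nat.card Q := by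
  have : Finite Q := Finite.of_injective (Subgroup.inclusion hQS) (Subgroup.inclusion_injective hQS)
  apply Nat.card_le_card_of_injective (φ.codRestrict Q hQ)
  intro a b hab
  apply F.injective_of_mem hφ
  exact congrArg (fun z : Q => (z : Ω)) hab

/-- Let F be a saturated fusion system over a finite p-group S and F′ ≤ F a saturated subsystem over all of S that is invariant under F in the conjugation sense: for every map φ of F with source Q and every map ψ of F′ between subgroups R ≤ Q (with values in Q), the transported map φψφ⁻¹ defined on φ(R) is again a map of F′. If moreover Aut_{F′}(S) = Aut_F(S), then F′ = F. -/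
theorem result {Ω : Type*} [Group Ω] {S : Subgroup Ω} [Finite S] (p : ℕ) [Fact p.Prime] (hS : IsPGroup p S) (F : Cfsg.FusionSystem S) (hF : F.IsSaturated p) (F' : Cfsg.FusionSystem S) (hF' : F'.IsSaturated p) (hle : F' ≤ F) (hinv : ∀ (Q : Subgroup Ω) (φ : ↥Q →* Ω), φ ∈ F.Hom Q → ∀ (R : Subgroup Ω) (hRQ : R ≤ Q) (ψ : ↥R →* Ω), ψ ∈ F'.Hom R → ∀ (hψQ : ∀ x : R, ψ x ∈ Q), ∃ χ ∈ F'.Hom ((R.subgroupOf Q).map φ), ∀ (x : R) (hx : φ ⟨(x : Ω), hRQ x.2⟩ ∈ (R.subgroupOf Q).map φ), χ ⟨φ ⟨(x : Ω), hRQ x.2⟩, hx⟩ = φ ⟨ψ x, hψQ x⟩) (htop : F'.autGroup S = F.autGroup S) (P : Subgroup Ω) : F'.Hom P = F.Hom P := by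
  apply Set.Subset.antisymm (hle P)
  -- normality of Aut_{F'}(R) in Aut_F(R)
  have hnormal : ∀ (R : Subgroup Ω), R ≤ S → ∀ α ∈ F.autGroup R, ∀ β ∈ F'.autGroup R,
      α * β * α⁻¹ ∈ F'.autGroup R := by
    intro R hRS α hα β hβ
    have hαF := (mem_autGroup_iff F hRS α).mp hα
    have hβF' := (mem_autGroup_iff F' hRS β).mp hβ
    obtain ⟨χ, hχ, hχx⟩ := hinv R _ hαF R le_rfl _ hβF' (fun x => (β x).2)
    have hE : (R.subgroupOf R).map (R.subtype.comp α.toMonoidHom) = R := by
      ext y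
      constructor
      · rintro ⟨x, -, rfl⟩
        exact (α x).2
      · intro hy
        refine ⟨α.symm ⟨y, hy⟩, ?_, by simp⟩
        rw [SetLike.mem_coe, Subgroup.mem_subgroupOf]
        exact (α.symm ⟨y, hy⟩).2
    obtain ⟨χ', hχ', hc⟩ := hom_cast F' hE hχ
    rw [mem_autGroup_iff F' hRS]
    have : R.subtype.comp (α * β * α⁻¹).toMonoidHom = χ' := by
      ext y
      have hyE : (y : Ω) ∈ (R.subgroupOf R).map (R.subtype.comp α.toMonoidHom) := by rw [hE]; exact y.2
      rw [show y = ⟨(y : Ω), y.2⟩ from rfl, hc (y : Ω) hyE y.2]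
      have h1 := hχx (α⁻¹ y) (by
        show ((α ⟨((α⁻¹ y : R) : Ω), _⟩ : R) : Ω) ∈ _
        have : (⟨((α⁻¹ y : R) : Ω), (α⁻¹ y).2⟩ : R) = α⁻¹ y := rfl
        rw [this, MulAut.apply_inv_self]
        exact hyE)
      have h2 : (⟨(y : Ω), hyE⟩ : ((R.subgroupOf R).map (R.subtype.comp α.toMonoidHom) : Subgroup Ω)) =
          ⟨(R.subtype.comp α.toMonoidHom) ⟨((α⁻¹ y : R) : Ω), (α⁻¹ y).2⟩, by
            show ((α ⟨((α⁻¹ y : R) : Ω), _⟩ : R) : Ω) ∈ _
            have : (⟨((α⁻¹ y : R) : Ω), (α⁻¹ y).2⟩ : R) = α⁻¹ y := rfl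
            rw [this, MulAut.apply_inv_self]
            exact hyE⟩ := by
        apply Subtype.ext
        show (y : Ω) = ((α ⟨((α⁻¹ y : R) : Ω), _⟩ : R) : Ω)
        have : (⟨((α⁻¹ y : R) : Ω), (α⁻¹ y).2⟩ : R) = α⁻¹ y := rfl
        rw [this, MulAut.apply_inv_self]
      rw [h2, h1]
      rfl
    rw [this]
    exact hχ'
  -- the inductive step
  have step : ∀ n : ℕ, (∀ P' : Subgroup Ω, n < Nat.card P' → F.Hom P' ⊆ F'.Hom P') →
      ∀ (P : Subgroup Ω) (φ : P →* Ω), AlpGen F p P φ → n ≤ Nat.card P → φ ∈ F'.Hom P := by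
    intro n IH P φ h
    induction h with
    | @aut P R hR α hα hPR =>
      intro hn
      have hRS : R ≤ S := hR.1.1
      have hRfin : Finite R := Finite.of_injective _ (Subgroup.inclusion_injective hRS)
      have hPRcard : Nat.card P ≤ Nat.card R := Subgroup.card_le_of_le hPR
      have hαF := (mem_autGroup_iff F hRS α).mp hα
      have hαF' : R.subtype.comp α.toMonoidHom ∈ F'.Hom R := by
        by_cases hlt : n < Nat.card R
        · exact IH R hlt hαF
        · have hRn : Nat.card R = n := by omega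
          by_cases hRtop : R = S
          · subst hRtop
            rw [← htop] at hα
            exact (mem_autGroup_iff F' le_rfl α).mp hα
          · have hgrow := card_lt_card_normalizerIn hS hRS hRtop
            have hbig : F.Hom (normalizerIn S R) ⊆ F'.Hom (normalizerIn S R) :=
              IH _ (by omega)
            have := autGroup_le_of_frattini hS F F' hle hR.1 hR.2.1 (hnormal R hRS) hbig hα
            exact (mem_autGroup_iff F' hRS α).mp this
      exact restrict_mem F' hαF' hPR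
    | @comp P Q φ ψ h1 h2 h ih1 ih2 =>
      intro hn
      have hQS : Q ≤ S := hom_le F h2.mem_hom
      have hcard := card_le_of_hom F hQS h1.mem_hom h
      exact F'.comp_mem (ih1 hn) (ih2 (hn.trans hcard)) h
  -- conclude
  have main : ∀ k : ℕ, ∀ P : Subgroup Ω, P ≤ S → Nat.card S - Nat.card P = k → F.Hom P ⊆ F'.Hom P := by
    intro k
    induction k using Nat.strong_induction_on with
    | _ k ih =>
      intro P hPS hk φ hφ
      apply step (Nat.card P) _ P φ (alperin hS F hF P φ hφ) le_rfl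
      intro Q hQ
      by_cases hQS : Q ≤ S
      · have hQc : Nat.card Q ≤ Nat.card S := Subgroup.card_le_of_le hQS
        apply ih (Nat.card S - Nat.card Q) _ Q hQS rfl
        omega
      · intro ψ hψ
        exact absurd (hom_le F hψ) hQS
  intro φ hφ
  exact main _ P (hom_le F hφ) rfl hφ

end Cfsg.Agent.S5338
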