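import Cfsg.Statements.S5160
import Cfsg.Agent.S5119
import Cfsg.Agent.S5338
import Cfsg.Agent.Lib.Helper85.SimpleCrit
import Cfsg.Agent.Lib.Helper85.Saturated

set_option autoImplicit false
open Cfsg

namespace Cfsg.Agent.S5160

open Cfsg.FusionSystem Cfsg.Agent.Lib.Helper87 Cfsg.Agent.Lib.Helper85

/-- Let G be a finite group with nontrivial Sylow p-subgroup S and F its fusion system on S. Suppose (a) no nontrivial proper subgroup of S is strongly closed in F, and (b) the automorphisms of S induced by G are generated by those induced, for R running over the fully normalized radical centric subgroups of F, by the subgroup of N_G(R) generated by its elements of p-power order. Then F is simple. -/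
theorem result {G : Type*} [Group G] [Finite G] (p : ℕ) [Fact p.Prime] (S : Sylow p G) (hS1 : (S : Subgroup G) ≠ ⊥) (ha : ∀ T : Subgroup G, (Cfsg.groupFusionSystem (S : Subgroup G)).StronglyClosed T → T = ⊥ ∨ T = (S : Subgroup G)) (hb : Cfsg.autInducedBy ⊤ (S : Subgroup G) = ⨆ (R : Subgroup G) (_ : (Cfsg.groupFusionSystem (S : Subgroup G)).IsFullyNormalized R ∧ (Cfsg.groupFusionSystem (S : Subgroup G)).IsRadical p R ∧ (Cfsg.groupFusionSystem (S : Subgroup G)).IsCentric R), Cfsg.autInducedBy (Subgroup.closure {g : G | g ∈ Subgroup.normalizer (R : Set G) ∧ ∃ k : ℕ, orderOf g = p ^ k}) (S : Subgroup G)) : (Cfsg.groupFusionSystem (S : Subgroup G)).IsSimple p := by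
  have hSp : IsPGroup p (S : Subgroup G) := S.isPGroup'
  have hF : (groupFusionSystem (S : Subgroup G)).IsSaturated p := groupFusionSystem_isSaturated S
  refine ⟨hF, hS1, fun T E hE => ?_⟩
  obtain ⟨⟨hEsat, -, hEinv⟩, -⟩ := hE
  have hsub : E.IsSubsystemOf (groupFusionSystem (S : Subgroup G)) := hEinv.1
  have hsc := hEinv.2.1
  rcases ha T hsc with h | h
  · exact Or.inl h
  · right
    subst h
    refine ⟨rfl, ?_⟩
    have hstrong : StrongInv E (groupFusionSystem (S : Subgroup G)) :=
      (Cfsg.Agent.S5119.result p hSp _ hF E hsub hsc).mp hEinv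
    have hle : E ≤ groupFusionSystem (S : Subgroup G) := hsub
    apply Cfsg.Agent.S5338.result p hSp _ hF E hEsat hle
    · intro Q φ hφ R hRQ ψ hψ hψQ
      exact hstrong R Q hRQ (hom_le _ hφ) ψ hψ hψQ φ hφ
    · apply le_antisymm
      · intro α hα
        rw [mem_autGroup_iff _ le_rfl] at hα ⊢
        exact hsub _ hα
      · rw [autGroup_groupFusionSystem le_rfl, hb]
        refine iSup_le fun R => iSup_le fun hR => ?_
        intro α hα
        obtain ⟨g, hgK, hgα⟩ := (mem_autInducedBy_iff _ _ α).mp hα
        have hRS : R ≤ (S : Subgroup G) := hR.2.2.1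
        have hfa := (fc_fa_of_fullyNormalized hSp _ hF hR.1).2
        have hFaut : ∀ (g : G) (hg : g ∈ Subgroup.normalizer (R : Set G)),
            conjAut R g hg ∈ (groupFusionSystem (S : Subgroup G)).autGroup R := by
          intro g hg
          rw [autGroup_groupFusionSystem hRS]
          exact conjAut_mem_autInducedBy (Subgroup.mem_top g) hg
        obtain ⟨hgN, hmem⟩ := conjAut_mem_autE_of_closure E _ hstrong hfa hFaut hgK
        have hαF : α ∈ (groupFusionSystem (S : Subgroup G)).autGroup (S : Subgroup G) := by
          rw [autGroup_groupFusionSystem le_rfl]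
          exact (mem_autInducedBy_iff _ _ α).mpr ⟨g, Subgroup.mem_top g, hgα⟩
        have hψ := (mem_autGroup_iff _ le_rfl α).mp hαF
        have hres : ((S : Subgroup G).subtype.comp α.toMonoidHom).comp (Subgroup.inclusion hRS) ∈
            E.Hom R := by
          have h1 := (mem_autGroup_iff E hRS _).mp hmem
          have h2 : ((S : Subgroup G).subtype.comp α.toMonoidHom).comp (Subgroup.inclusion hRS) =
              R.subtype.comp (conjAut R g hgN).toMonoidHom := by
            ext x
            exact hgα ⟨x, hRS x.2⟩
          rw [h2]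
          exact h1
        have := Cfsg.Agent.Lib.Helper88.mem_of_restrict_mem hSp _ E hF hEsat hle _ hRS rfl
          hR.2.2 hψ hres
        exact (mem_autGroup_iff E le_rfl α).mpr this

end Cfsg.Agent.S5160
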