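import Cfsg.Statements.S2431
import Cfsg.Agent.S0261
import Cfsg.Agent.S2430
import Cfsg.Agent.Lib.Helper41.SL2Torus

set_option autoImplicit false
open Cfsg

namespace Cfsg.Agent.S2431

open Cfsg.Agent.Lib.Helper41

local notation "SL₂(" F ")" => Matrix.SpecialLinearGroup (Fin 2) F

open QuaternionGroup in
/-- Generators of a subgroup isomorphic to a generalised quaternion group. -/
theorem exists_quat_data {G : Type*} [Group G] (S : Subgroup G) (n : ℕ) [NeZero n]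
    (e : S ≃* QuaternionGroup n) :
    ∃ a b : G, a ∈ S ∧ b ∈ S ∧ orderOf a = 2 * n ∧ b * a * b⁻¹ = a⁻¹ ∧ b * b = a ^ n ∧
      ∀ x ∈ S, (∃ i : ℕ, x = a ^ i) ∨ (∃ i : ℕ, x = b * a ^ i) := by
  refine ⟨(e.symm (a 1) : S), (e.symm (xa 0) : S), (e.symm (a 1)).2, (e.symm (xa 0)).2,
    ?_, ?_, ?_, ?_⟩
  · rw [Subgroup.orderOf_coe, MulEquiv.orderOf_eq, orderOf_a_one]
  · have h : (xa 0 * a 1 * (xa 0)⁻¹ : QuaternionGroup n) = (a 1)⁻¹ := by
      rw [mul_inv_eq_iff_eq_mul, xa_mul_a, eq_comm, inv_mul_eq_iff_eq_mul, a_mul_xa]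
      congr 1
      ring
    have h2 : ((e.symm (xa 0 * a 1 * (xa 0)⁻¹) : S) : G) = ((e.symm ((a 1)⁻¹) : S) : G) := by
      rw [h]
    simp only [map_mul, map_inv, Subgroup.coe_mul, Subgroup.coe_inv] at h2
    exact h2
  · have h : (xa 0 * xa 0 : QuaternionGroup n) = (a 1) ^ n := by
      rw [xa_mul_xa, a_one_pow]
      congr 1
      ring
    have h2 : ((e.symm (xa 0 * xa 0) : S) : G) = ((e.symm ((a 1) ^ n) : S) : G) := by
      rw [h]
    simp only [map_mul, map_pow, Subgroup.coe_mul, Subgroup.coe_pow] at h2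
    exact h2
  · intro x hx
    rcases hex : e ⟨x, hx⟩ with i | i
    · left
      refine ⟨i.val, ?_⟩
      have h : e ⟨x, hx⟩ = (a 1) ^ i.val := by
        rw [hex, a_one_pow, ZMod.natCast_zmod_val]
      have h2 : x = ((e.symm ((a 1) ^ i.val) : S) : G) := by
        rw [← h, MulEquiv.symm_apply_apply]
      simp only [map_pow, Subgroup.coe_pow] at h2
      exact h2
    · right
      refine ⟨i.val, ?_⟩
      have h : e ⟨x, hx⟩ = xa 0 * (a 1) ^ i.val := by
        rw [hex, a_one_pow, ZMod.natCast_zmod_val, xa_mul_a, zero_add]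
      have h2 : x = ((e.symm (xa 0 * (a 1) ^ i.val) : S) : G) := by
        rw [← h, MulEquiv.symm_apply_apply]
      simp only [map_mul, map_pow, Subgroup.coe_mul, Subgroup.coe_pow] at h2
      exact h2

/-- An element normalising a Sylow `2`-subgroup whose square lies in it belongs to it. -/
theorem mem_sylow_of_sq_mem {G : Type*} [Group G] (S : Sylow 2 G) (h : G)
    (hN : h ∈ Subgroup.normalizer ((S : Subgroup G) : Set G)) (h2 : h * h ∈ S) : h ∈ S := by
  obtain ⟨k, hk⟩ := S.isPGroup' ⟨h * h, h2⟩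
  have hk' : (h * h) ^ 2 ^ k = 1 := by
    have := congrArg Subtype.val hk
    simpa using this
  have hpow : h ^ 2 ^ (k + 1) = 1 := by
    rw [pow_succ, mul_comm, pow_mul, pow_two]; exact hk'
  have hP : IsPGroup 2 (Subgroup.zpowers h) := by
    intro x
    refine ⟨k + 1, ?_⟩
    obtain ⟨x, hx⟩ := x
    obtain ⟨j, rfl⟩ := Subgroup.mem_zpowers_iff.mp hx
    apply Subtype.ext
    show (h ^ j) ^ 2 ^ (k + 1) = 1
    rw [← zpow_natCast, ← zpow_mul, mul_comm, zpow_mul, zpow_natCast, hpow, one_zpow]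
  have hmem : h ∈ Subgroup.zpowers h ⊓ Subgroup.normalizer (S : Set G) :=
    ⟨Subgroup.mem_zpowers h, hN⟩
  rw [hP.inf_normalizer_sylow S] at hmem
  exact hmem.2

section General

variable {F : Type*} [Field F]

/-- If `x` inverts the non-central element `a` and `h` commutes with `a`, then `h x h⁻¹ = h² x`. -/
theorem conj_of_inverter {a x h : SL₂(F)} (ha : a ∉ Subgroup.center (SL₂(F)))
    (hx : x * a * x⁻¹ = a⁻¹) (hh : h * a = a * h) : h * x * h⁻¹ = h * h * x := by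
  have h1 : (x * h) * a * (x * h)⁻¹ = a⁻¹ := by
    have : (x * h) * a * (x * h)⁻¹ = x * (h * a * h⁻¹) * x⁻¹ := by group
    rw [this, hh, mul_inv_cancel_right, hx]
  have t1 := Torus.mul_self_of_tr2_eq_zero (Torus.tr2_eq_zero_of_inverts ha hx)
  have t2 := Torus.mul_self_of_tr2_eq_zero (Torus.tr2_eq_zero_of_inverts ha h1)
  have h2 : (x * h) * (x * h) = x * x := Subtype.ext (t2.trans t1.symm)
  have h3 : h * x * h = x := by
    have : x * (h * x * h) = x * x := by rw [← h2]; group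
    exact mul_left_cancel this
  calc h * x * h⁻¹ = h * (h * x * h) * h⁻¹ := by rw [h3]
    _ = h * h * x := by group

/-- The element cycling the three cyclic subgroups of order `4` of a quaternion group of order `8`
in `SL₂`. -/
theorem exists_cycler (h2 : (2 : F) ≠ 0) {a b : SL₂(F)} (hta : tr2 a = 0) (htb : tr2 b = 0)
    (hba : b * a * b⁻¹ = a⁻¹) :
    ∃ ω : SL₂(F), ω * a * ω⁻¹ = b ∧ ω * b * ω⁻¹ = a * b := by
  have hba' : b * a = a⁻¹ * b := mul_inv_eq_iff_eq_mul.mp hba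
  have e00 := congrArg (fun M : SL₂(F) => M 0 0) hba'
  have e01 := congrArg (fun M : SL₂(F) => M 0 1) hba'
  have e10 := congrArg (fun M : SL₂(F) => M 1 0) hba'
  have e11 := congrArg (fun M : SL₂(F) => M 1 1) hba'
  simp only [sl2_mul_00, sl2_mul_01, sl2_mul_10, sl2_mul_11, sl2_inv_00, sl2_inv_01, sl2_inv_10,
    sl2_inv_11] at e00 e01 e10 e11
  have da := sl2_det a
  have db := sl2_det b
  rw [tr2] at hta htb
  obtain ⟨c, hc⟩ : ∃ c : F, 2 * c = 1 := ⟨2⁻¹, mul_inv_cancel₀ h2⟩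
  have hdet : (-c * (1 + a 0 0 + b 0 0 + (a 0 0 * b 0 0 + a 0 1 * b 1 0))) *
      (-c * (1 + a 1 1 + b 1 1 + (a 1 0 * b 0 1 + a 1 1 * b 1 1))) -
      (-c * (a 0 1 + b 0 1 + (a 0 0 * b 0 1 + a 0 1 * b 1 1))) *
      (-c * (a 1 0 + b 1 0 + (a 1 0 * b 0 0 + a 1 1 * b 1 0))) = 1 := by
    grind
  refine ⟨mkSL2 _ _ _ _ hdet, ?_, ?_⟩
  · apply mul_inv_eq_iff_eq_mul.mpr
    apply sl2_ext <;>
    simp only [sl2_mul_00, sl2_mul_01, sl2_mul_10, sl2_mul_11, mkSL2_00, mkSL2_01, mkSL2_10,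
      mkSL2_11] <;> grind
  · apply mul_inv_eq_iff_eq_mul.mpr
    apply sl2_ext <;>
    simp only [sl2_mul_00, sl2_mul_01, sl2_mul_10, sl2_mul_11, mkSL2_00, mkSL2_01, mkSL2_10,
      mkSL2_11] <;> grind

end General

section FiniteField

variable {F : Type*} [Field F] [Fintype F]

/-- An element of the normaliser of a Sylow `2`-subgroup `S` which also normalises `⟨a⟩`, for a
semisimple `a` inverted by some `b ∈ S`, lies in `S`. -/
theorem mem_of_conj_mem_zpowers (S : Sylow 2 (SL₂(F))) {a b : SL₂(F)} (hb : b ∈ S)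
    {l : AlgebraicClosure F} (hl0 : l ≠ 0)
    (hl : l + l⁻¹ = algebraMap F (AlgebraicClosure F) (tr2 a)) (hl2 : l ^ 2 ≠ 1)
    (hba : b * a * b⁻¹ = a⁻¹) (g : SL₂(F))
    (hg : g ∈ Subgroup.normalizer ((S : Subgroup (SL₂(F))) : Set (SL₂(F))))
    (hga : g * a * g⁻¹ ∈ Subgroup.zpowers a) : g ∈ S := by
  have hτ4 := Cfsg.Agent.S2430.tr2_sq_ne_four_of_eigen _ hl0 hl hl2
  have hac : a ∉ Subgroup.center (SL₂(F)) := not_mem_center_of_tr2_sq_ne_four hτ4
  have hbN : b ∈ Subgroup.normalizer ((S : Subgroup (SL₂(F))) : Set (SL₂(F))) :=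
    Subgroup.le_normalizer hb
  have claim : ∀ h : SL₂(F),
      h ∈ Subgroup.normalizer ((S : Subgroup (SL₂(F))) : Set (SL₂(F))) →
      h * a * h⁻¹ = a → h ∈ S := by
    intro h hh hha
    have hcomm : h * a = a * h := mul_inv_eq_iff_eq_mul.mp hha
    have hc := conj_of_inverter hac hba hcomm
    have hmem : h * b * h⁻¹ ∈ S := ((Subgroup.mem_normalizer_iff.mp hh) b).mp hb
    have h2 : h * h ∈ S := by
      have : h * h = (h * b * h⁻¹) * b⁻¹ := by rw [hc]; group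
      rw [this]; exact mul_mem hmem (inv_mem hb)
    exact mem_sylow_of_sq_mem S h hh h2
  rcases Cfsg.Agent.S2430.conj_eq_or_eq_inv hl0 hl hl2 g hga with h | h
  · exact claim g hg h
  · have h1 : b * g ∈ S := by
      apply claim (b * g) (mul_mem hbN hg)
      have e1 : b * g * a * (b * g)⁻¹ = b * (g * a * g⁻¹) * b⁻¹ := by group
      have e2 : b * a⁻¹ * b⁻¹ = (b * a * b⁻¹)⁻¹ := by group
      rw [e1, h, e2, hba, inv_inv]
    have e3 : g = b⁻¹ * (b * g) := by group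
    rw [e3]; exact mul_mem (inv_mem hb) h1

/-- Structure data of a Sylow `2`-subgroup of `SL₂(q)`, `q` odd. -/
theorem exists_data (hodd : Fintype.card F % 2 = 1) (S : Sylow 2 (SL₂(F))) :
    ∃ (k : ℕ) (a b : SL₂(F)) (l : AlgebraicClosure F), 1 ≤ k ∧ Nat.card S = 4 * 2 ^ k ∧
      a ∈ S ∧ b ∈ S ∧ orderOf a = 2 * 2 ^ k ∧ b * a * b⁻¹ = a⁻¹ ∧ b * b = a ^ 2 ^ k ∧
      (∀ x ∈ S, (∃ i : ℕ, x = a ^ i) ∨ (∃ i : ℕ, x = b * a ^ i)) ∧
      l ≠ 0 ∧ l + l⁻¹ = algebraMap F (AlgebraicClosure F) (tr2 a) ∧ l ^ 2 ≠ 1 := by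
  classical
  obtain ⟨k, hk1, ⟨e⟩⟩ := Cfsg.Agent.S0261.result (Nat.odd_iff.mpr hodd) S
  have : NeZero (2 ^ k) := ⟨by positivity⟩
  obtain ⟨a, b, ha, hb, hord, hba, hbb, hcover⟩ :=
    exists_quat_data (S : Subgroup (SL₂(F))) (2 ^ k) e
  obtain ⟨l, hl0, hl, -⟩ := exists_eigen (tr2 a)
  have hcard : Nat.card S = 4 * 2 ^ k := by
    rw [Nat.card_congr e.toEquiv, Nat.card_eq_fintype_card, QuaternionGroup.card]
  refine ⟨k, a, b, l, hk1, hcard, ha, hb, hord, hba, hbb, hcover, hl0, hl, ?_⟩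
  intro h
  obtain ⟨p, hp⟩ := CharP.exists F
  have := hp
  have : Fact p.Prime := ⟨CharP.char_is_prime F p⟩
  have hpprime : p.Prime := Fact.out
  obtain ⟨n, -, hn⟩ := FiniteField.card F p
  have hll : l * l⁻¹ = 1 := mul_inv_cancel₀ hl0
  have hlinv : l⁻¹ = l := by
    have : l * l = 1 := by rw [← pow_two]; exact h
    exact inv_eq_of_mul_eq_one_right this
  have ht4 : tr2 a ^ 2 = 4 := by
    apply (algebraMap F (AlgebraicClosure F)).injective
    rw [map_pow, ← hl, hlinv, map_ofNat]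
    linear_combination 4 * h
  have htr2 : tr2 (a ^ 2) = 2 := by
    have := Cfsg.Agent.S2430.tr2_pow_add_two a 0
    rw [zero_add, zero_add, pow_one, pow_zero, Cfsg.Agent.S2430.tr2_one] at this
    rw [this]; linear_combination ht4
  have h1 : (a ^ 2) ^ p = 1 := Cfsg.Agent.S2430.pow_char_eq_one_of_tr2 p _ htr2
  rw [← pow_mul] at h1
  have h2 : 2 * 2 ^ k ∣ 2 * p := by rw [← hord]; exact orderOf_dvd_of_pow_eq_one h1
  have h3 : 2 ^ k ∣ p := Nat.dvd_of_mul_dvd_mul_left (by norm_num) h2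
  have h4 : 2 ∣ p := (dvd_pow_self 2 (by omega)).trans h3
  have h5 : 2 = p := (Nat.prime_dvd_prime_iff_eq Nat.prime_two hpprime).mp h4
  have h6 : 2 ∣ Fintype.card F := by
    rw [hn, ← h5]; exact dvd_pow_self 2 n.pos.ne'
  omega

end FiniteField

/-- Conjugation by `w` maps `S` into itself as soon as it does so on the generators. -/
theorem conj_mem_of_gens {G : Type*} [Group G] (S : Subgroup G) {a b : G}
    (hcover : ∀ x ∈ S, (∃ i : ℕ, x = a ^ i) ∨ (∃ i : ℕ, x = b * a ^ i)) (w : G)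
    (hwa : w * a * w⁻¹ ∈ S) (hwb : w * b * w⁻¹ ∈ S) : ∀ x ∈ S, w * x * w⁻¹ ∈ S := by
  intro x hx
  rcases hcover x hx with ⟨i, rfl⟩ | ⟨i, rfl⟩
  · rw [← conj_pow]; exact pow_mem hwa i
  · have : w * (b * a ^ i) * w⁻¹ = (w * b * w⁻¹) * (w * a * w⁻¹) ^ i := by
      rw [conj_pow]; group
    rw [this]; exact mul_mem hwb (pow_mem hwa i)

theorem arith_sixteen_dvd (q : ℕ) (hq : q % 8 = 1 ∨ q % 8 = 7) : 16 ∣ q * (q ^ 2 - 1) := by
  have hq1 : 1 ≤ q := by omega
  have hfac : q ^ 2 - 1 = (q - 1) * (q + 1) := by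
    zify [hq1, Nat.one_le_pow 2 q (by omega)]
    ring
  rw [hfac]
  apply Dvd.dvd.mul_left
  rcases hq with h | h
  · have h1 : 8 ∣ q - 1 := Nat.dvd_of_mod_eq_zero (by omega)
    have h2 : 2 ∣ q + 1 := Nat.dvd_of_mod_eq_zero (by omega)
    exact Nat.mul_dvd_mul h1 h2
  · have h1 : 2 ∣ q - 1 := Nat.dvd_of_mod_eq_zero (by omega)
    have h2 : 8 ∣ q + 1 := Nat.dvd_of_mod_eq_zero (by omega)
    exact Nat.mul_dvd_mul h1 h2

theorem arith_factorization (q : ℕ) (hq : q % 8 = 3 ∨ q % 8 = 5) :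
    (q * (q ^ 2 - 1)).factorization 2 = 3 := by
  obtain ⟨k, hk1, hkd, hkf⟩ := Cfsg.Agent.S0261.two_part q (by omega) (by omega)
  have hk : k = 1 := by
    by_contra hne
    have h8 : 2 ^ 3 ∣ 2 ^ (k + 1) := pow_dvd_pow 2 (by omega)
    rcases hkd with h | h
    · have := h8.trans h
      omega
    · have := h8.trans h
      omega
  rw [hkf, hk]

section Parts

variable {F : Type*} [Field F] [Fintype F]

omit [Fintype F] in
theorem centralizer_eq_center (S : Sylow 2 (SL₂(F))) {a b : SL₂(F)} (ha : a ∈ S) (hb : b ∈ S)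
    (hne : a⁻¹ ≠ a) (hba : b * a * b⁻¹ = a⁻¹) :
    Subgroup.centralizer ((S : Subgroup (SL₂(F))) : Set (SL₂(F))) = Subgroup.center (SL₂(F)) := by
  apply le_antisymm
  · intro g hg
    by_contra hgc
    rw [Subgroup.mem_centralizer_iff] at hg
    have h1 : a * g = g * a := hg a ha
    have h2 : b * g = g * b := hg b hb
    have h3 : b * a = a * b := Torus.commute_of_commute_noncentral hgc h2 h1
    apply hne
    rw [← hba, h3, mul_inv_cancel_right]
  · exact Subgroup.center_le_centralizer _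

theorem normalizer_eq_self (S : Sylow 2 (SL₂(F))) {a b : SL₂(F)} (ha : a ∈ S) (hb : b ∈ S)
    {l : AlgebraicClosure F} (hl0 : l ≠ 0)
    (hl : l + l⁻¹ = algebraMap F (AlgebraicClosure F) (tr2 a)) (hl2 : l ^ 2 ≠ 1)
    (hba : b * a * b⁻¹ = a⁻¹)
    (hcover : ∀ x ∈ S, (∃ i : ℕ, x = a ^ i) ∨ (∃ i : ℕ, x = b * a ^ i))
    (hord : 4 < orderOf a) :
    Subgroup.normalizer ((S : Subgroup (SL₂(F))) : Set (SL₂(F))) = S := by
  apply le_antisymm _ Subgroup.le_normalizer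
  intro g hg
  apply mem_of_conj_mem_zpowers S hb hl0 hl hl2 hba g hg
  have hx : g * a * g⁻¹ ∈ S := ((Subgroup.mem_normalizer_iff.mp hg) a).mp ha
  rcases hcover _ hx with ⟨i, hi⟩ | ⟨i, hi⟩
  · rw [hi]; exact Subgroup.pow_mem _ (Subgroup.mem_zpowers a) i
  · exfalso
    have hτ4 := Cfsg.Agent.S2430.tr2_sq_ne_four_of_eigen _ hl0 hl hl2
    have hac : a ∉ Subgroup.center (SL₂(F)) := not_mem_center_of_tr2_sq_ne_four hτ4
    have hinv : (b * a ^ i) * a * (b * a ^ i)⁻¹ = a⁻¹ := by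
      have : (b * a ^ i) * a * (b * a ^ i)⁻¹ = b * a * b⁻¹ := by group
      rw [this, hba]
    have t1 := Torus.mul_self_of_tr2_eq_zero (Torus.tr2_eq_zero_of_inverts hac hinv)
    have h4 : (b * a ^ i) ^ 4 = 1 := by
      have : (b * a ^ i) ^ 4 = (b * a ^ i * (b * a ^ i)) * (b * a ^ i * (b * a ^ i)) := by
        simp only [pow_succ, pow_zero, one_mul, mul_assoc]
      rw [this]; apply Subtype.ext; rw [Matrix.SpecialLinearGroup.coe_mul, t1]; simp
    have h5 : orderOf (g * a * g⁻¹) = orderOf a := Cfsg.Agent.S2430.orderOf_conj' g a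
    rw [hi] at h5
    have := orderOf_le_of_pow_eq_one (by norm_num) h4
    omega

theorem card_normalizer_quat8 (hodd : Fintype.card F % 2 = 1) (S : Sylow 2 (SL₂(F)))
    {a b : SL₂(F)} (ha : a ∈ S) (hb : b ∈ S)
    {l : AlgebraicClosure F} (hl0 : l ≠ 0)
    (hl : l + l⁻¹ = algebraMap F (AlgebraicClosure F) (tr2 a)) (hl2 : l ^ 2 ≠ 1)
    (hba : b * a * b⁻¹ = a⁻¹) (hbb : b * b = a ^ 2)
    (hcover : ∀ x ∈ S, (∃ i : ℕ, x = a ^ i) ∨ (∃ i : ℕ, x = b * a ^ i))
    (hne : a⁻¹ ≠ a) (hcard : Nat.card S = 8) (h16 : ¬ 16 ∣ Nat.card (SL₂(F))) :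
    Nat.card (Subgroup.normalizer ((S : Subgroup (SL₂(F))) : Set (SL₂(F)))) = 24 := by
  classical
  have h2 : (2 : F) ≠ 0 := Torus.two_ne_zero_of_odd hodd
  have hτ4 := Cfsg.Agent.S2430.tr2_sq_ne_four_of_eigen _ hl0 hl hl2
  have hac : a ∉ Subgroup.center (SL₂(F)) := not_mem_center_of_tr2_sq_ne_four hτ4
  have hba' : b * a = a⁻¹ * b := mul_inv_eq_iff_eq_mul.mp hba
  have hbab : b * (a * b) = a := by
    calc b * (a * b) = (b * a) * b := by group
      _ = a⁻¹ * (b * b) := by rw [hba']; group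
      _ = a := by rw [hbb]; group
  have hbc : b ∉ Subgroup.center (SL₂(F)) := by
    intro hc
    apply hne
    have : a * b = b * a := Subgroup.mem_center_iff.mp hc a
    rw [← hba, ← this, mul_inv_cancel_right]
  have hab : a * b * a⁻¹ = b⁻¹ := by
    rw [mul_inv_eq_iff_eq_mul, eq_inv_mul_iff_mul_eq]; exact hbab
  have htb : tr2 b = 0 := Torus.tr2_eq_zero_of_inverts hac hba
  have hta : tr2 a = 0 := Torus.tr2_eq_zero_of_inverts hbc hab
  obtain ⟨ω, hω1, hω2⟩ := exists_cycler h2 hta htb hba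
  set N := Subgroup.normalizer ((S : Subgroup (SL₂(F))) : Set (SL₂(F))) with hN
  have hab_mem : a * b ∈ S := mul_mem ha hb
  have hσb : ω⁻¹ * b * ω⁻¹⁻¹ = a := by rw [← hω1]; group
  have hσab : ω⁻¹ * (a * b) * ω⁻¹⁻¹ = b := by rw [← hω2]; group
  have hσa : ω⁻¹ * a * ω⁻¹⁻¹ = a * b := by
    calc ω⁻¹ * a * ω⁻¹⁻¹ = ω⁻¹ * (b * (a * b)) * ω⁻¹⁻¹ := by rw [hbab]
      _ = (ω⁻¹ * b * ω⁻¹⁻¹) * (ω⁻¹ * (a * b) * ω⁻¹⁻¹) := by group
      _ = a * b := by rw [hσb, hσab]
  have hωN : ω ∈ N := by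
    rw [hN, Subgroup.mem_normalizer_iff]
    intro x
    constructor
    · intro hx
      exact conj_mem_of_gens _ hcover ω (by rw [hω1]; exact hb) (by rw [hω2]; exact hab_mem) x hx
    · intro hx
      have := conj_mem_of_gens _ hcover ω⁻¹ (by rw [hσa]; exact hab_mem)
        (by rw [hσb]; exact ha) _ hx
      have e : ω⁻¹ * (ω * x * ω⁻¹) * ω⁻¹⁻¹ = x := by group
      rwa [e] at this
  have hωinvN : ω⁻¹ ∈ N := inv_mem hωN
  have habab : (a * b) * (a * b) = a ^ 2 := by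
    calc (a * b) * (a * b) = a * (b * (a * b)) := by group
      _ = a ^ 2 := by rw [hbab, pow_two]
  have hcov : ∀ g ∈ N, g ∈ S ∨ ω⁻¹ * g ∈ S ∨ ω⁻¹ * ω⁻¹ * g ∈ S := by
    intro g hg
    have hx : g * a * g⁻¹ ∈ S := ((Subgroup.mem_normalizer_iff.mp hg) a).mp ha
    rcases hcover _ hx with ⟨i, hi⟩ | ⟨i, hi⟩
    · left
      apply mem_of_conj_mem_zpowers S hb hl0 hl hl2 hba g hg
      rw [hi]; exact Subgroup.pow_mem _ (Subgroup.mem_zpowers a) i
    · rcases Nat.even_or_odd' i with ⟨m, rfl | rfl⟩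
      · right; left
        apply mem_of_conj_mem_zpowers S hb hl0 hl hl2 hba _ (mul_mem hωinvN hg)
        have e1 : (ω⁻¹ * g) * a * (ω⁻¹ * g)⁻¹ = ω⁻¹ * (g * a * g⁻¹) * ω⁻¹⁻¹ := by group
        have e2 : ω⁻¹ * (b * a ^ (2 * m)) * ω⁻¹⁻¹ =
            (ω⁻¹ * b * ω⁻¹⁻¹) * (ω⁻¹ * a * ω⁻¹⁻¹) ^ (2 * m) := by
          rw [conj_pow]; group
        rw [e1, hi, e2, hσb, hσa, pow_mul, pow_two, habab]
        exact mul_mem (Subgroup.mem_zpowers a)
          (pow_mem (pow_mem (Subgroup.mem_zpowers a) 2) m)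
      · right; right
        apply mem_of_conj_mem_zpowers S hb hl0 hl hl2 hba _
          (mul_mem (mul_mem hωinvN hωinvN) hg)
        have e1 : (ω⁻¹ * ω⁻¹ * g) * a * (ω⁻¹ * ω⁻¹ * g)⁻¹ =
            ω⁻¹ * (ω⁻¹ * (g * a * g⁻¹) * ω⁻¹⁻¹) * ω⁻¹⁻¹ := by
          simp only [mul_inv_rev, inv_inv, mul_assoc]
        have e2 : ω⁻¹ * (b * a ^ (2 * m + 1)) * ω⁻¹⁻¹ =
            (ω⁻¹ * b * ω⁻¹⁻¹) * (ω⁻¹ * a * ω⁻¹⁻¹) ^ (2 * m + 1) := by
          rw [conj_pow]; group
        have e3 : ω⁻¹ * (a * (a * b) ^ (2 * m + 1)) * ω⁻¹⁻¹ =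
            (ω⁻¹ * a * ω⁻¹⁻¹) * (ω⁻¹ * (a * b) * ω⁻¹⁻¹) ^ (2 * m + 1) := by
          rw [conj_pow]; group
        rw [e1, hi, e2, hσb, hσa, e3, hσa, hσab]
        have e4 : a * b * b ^ (2 * m + 1) = a * (b * b) ^ (m + 1) := by
          rw [← pow_two, ← pow_mul, mul_assoc, ← pow_succ']
          congr 2
        rw [e4, hbb]
        exact mul_mem (Subgroup.mem_zpowers a)
          (pow_mem (pow_mem (Subgroup.mem_zpowers a) 2) (m + 1))
  have hSN : (S : Subgroup (SL₂(F))) ≤ N := Subgroup.le_normalizer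
  have hle : Nat.card N ≤ 3 * Nat.card S := by
    set SS : Set (SL₂(F)) := ((S : Subgroup (SL₂(F))) : Set (SL₂(F))) with hSS
    have hsub : (N : Set (SL₂(F))) ⊆ SS ∪ (fun s => ω * s) '' SS ∪ (fun s => ω * ω * s) '' SS := by
      intro g hg
      rcases hcov g hg with h | h | h
      · exact Or.inl (Or.inl h)
      · exact Or.inl (Or.inr ⟨ω⁻¹ * g, h, by group⟩)
      · exact Or.inr ⟨ω⁻¹ * ω⁻¹ * g, h, by group⟩
    have h1 := Set.ncard_le_ncard hsub (Set.toFinite _)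
    have h2 := Set.ncard_union_le (SS ∪ (fun s => ω * s) '' SS) ((fun s => ω * ω * s) '' SS)
    have h3 := Set.ncard_union_le SS ((fun s => ω * s) '' SS)
    have h4 := Set.ncard_image_le (f := fun s => ω * s) (Set.toFinite SS)
    have h5 := Set.ncard_image_le (f := fun s => ω * ω * s) (Set.toFinite SS)
    have h6 : Nat.card N = (N : Set (SL₂(F))).ncard := Nat.card_coe_set_eq _
    have h7 : Nat.card S = SS.ncard := Nat.card_coe_set_eq _
    omega
  have hdvd : Nat.card S ∣ Nat.card N := Subgroup.card_dvd_of_le hSN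
  have hNG : Nat.card N ∣ Nat.card (SL₂(F)) := Subgroup.card_subgroup_dvd_card N
  have hωS : ω ∉ S := by
    intro hω
    have hbz : b ∈ Subgroup.zpowers a := by
      rcases hcover ω hω with ⟨i, hi⟩ | ⟨i, hi⟩
      · have : ω * a * ω⁻¹ = a := by rw [hi]; group
        rw [← hω1, this]; exact Subgroup.mem_zpowers a
      · have : ω * a * ω⁻¹ = a⁻¹ := by rw [hi, ← hba]; group
        rw [← hω1, this]; exact inv_mem (Subgroup.mem_zpowers a)
    obtain ⟨j, hj⟩ := Subgroup.mem_zpowers_iff.mp hbz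
    apply hne
    rw [← hba, ← hj]; group
  obtain ⟨m, hm⟩ := hdvd
  rw [hcard] at hm hle
  have hm3 : m ≤ 3 := by omega
  have hm0 : m ≠ 0 := by
    rintro rfl
    have := Nat.card_pos (α := N)
    omega
  have hm1 : m ≠ 1 := by
    rintro rfl
    have : (S : Subgroup (SL₂(F))) = N := Subgroup.eq_of_le_of_card_ge hSN (by rw [hm, hcard])
    apply hωS
    show ω ∈ (S : Subgroup (SL₂(F)))
    rw [this]; exact hωN
  have hm2 : m ≠ 2 := by
    rintro rfl
    apply h16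
    rw [hm] at hNG
    exact hNG
  have : m = 3 := by omega
  rw [hm, this]

end Parts

/-- Let F be a finite field with q elements, q odd, and S a Sylow 2-subgroup of SL₂ over F. The centraliser of S is the centre of SL₂ (of order 2); S is its own normaliser when q ≡ ±1 mod 8, and has index 3 in its normaliser when q ≡ ±3 mod 8. -/
theorem result {F : Type*} [Field F] [Fintype F] (hodd : Odd (Fintype.card F)) (S : Sylow 2 (Matrix.SpecialLinearGroup (Fin 2) F)) :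
    Subgroup.centralizer ((S : Subgroup (Matrix.SpecialLinearGroup (Fin 2) F)) : Set (Matrix.SpecialLinearGroup (Fin 2) F)) = Subgroup.center (Matrix.SpecialLinearGroup (Fin 2) F) ∧
    ((Fintype.card F % 8 = 1 ∨ Fintype.card F % 8 = 7) →
      Subgroup.normalizer ((S : Subgroup (Matrix.SpecialLinearGroup (Fin 2) F)) : Set (Matrix.SpecialLinearGroup (Fin 2) F)) = (S : Subgroup (Matrix.SpecialLinearGroup (Fin 2) F))) ∧
    ((Fintype.card F % 8 = 3 ∨ Fintype.card F % 8 = 5) →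
      Nat.card (Subgroup.normalizer ((S : Subgroup (Matrix.SpecialLinearGroup (Fin 2) F)) : Set (Matrix.SpecialLinearGroup (Fin 2) F))) = 3 * Nat.card S) := by
  classical
  have hodd' : Fintype.card F % 2 = 1 := Nat.odd_iff.mp hodd
  obtain ⟨k, a, b, l, hk1, hcard, ha, hb, hord, hba, hbb, hcover, hl0, hl, hl2⟩ :=
    exists_data hodd' S
  have hcardG := Cfsg.Agent.Lib.Helper38.card_SL2 (F := F)
  have h2k : 2 ≤ 2 ^ k := by
    calc 2 = 2 ^ 1 := rfl
      _ ≤ 2 ^ k := Nat.pow_le_pow_right (by norm_num) hk1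
  have hne : a⁻¹ ≠ a := by
    intro h
    have h1 : a ^ 2 = 1 := by
      rw [pow_two]; nth_rewrite 1 [← h]; exact inv_mul_cancel a
    have := orderOf_le_of_pow_eq_one (by norm_num) h1
    omega
  refine ⟨centralizer_eq_center S ha hb hne hba, ?_, ?_⟩
  · intro hq
    have h16 : 2 ^ 4 ∣ Nat.card (Matrix.SpecialLinearGroup (Fin 2) F) := by
      rw [hcardG]; exact arith_sixteen_dvd _ hq
    have h16' := S.pow_dvd_card_of_pow_dvd_card h16
    rw [hcard] at h16'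
    have hk2 : 2 ≤ k := by
      by_contra hlt
      have hk : k = 1 := by omega
      rw [hk] at h16'
      norm_num at h16'
    have h4k : 2 ^ 2 ≤ 2 ^ k := Nat.pow_le_pow_right (by norm_num) hk2
    exact normalizer_eq_self S ha hb hl0 hl hl2 hba hcover (by rw [hord]; omega)
  · intro hq
    have hfac := arith_factorization _ hq
    have hcard8 : Nat.card S = 8 := by
      rw [S.card_eq_multiplicity, hcardG, hfac]; norm_num
    have hk : k = 1 := by
      rw [hcard] at hcard8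
      have h2 : 2 ^ k = 2 ^ 1 := by omega
      exact Nat.pow_right_injective (le_refl 2) h2
    subst hk
    have h16 : ¬ 16 ∣ Nat.card (Matrix.SpecialLinearGroup (Fin 2) F) := by
      intro h
      have h' : 2 ^ 4 ∣ Nat.card (Matrix.SpecialLinearGroup (Fin 2) F) := h
      have := S.pow_dvd_card_of_pow_dvd_card h'
      rw [hcard8] at this
      norm_num at this
    rw [card_normalizer_quat8 hodd' S ha hb hl0 hl hl2 hba (by simpa using hbb) hcover hne hcard8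
      h16, hcard8]

end Cfsg.Agent.S2431
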