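import Cfsg.Statements.S0774
import Cfsg.Agent.Lib.Helper13.Borel

set_option autoImplicit false
open Cfsg

namespace Cfsg.Agent.S0774

open Matrix Cfsg.Agent.Lib.Helper13

variable {F : Type*} [Field F]

/-- invertible upper triangular matrices -/
def UT (F : Type*) [Field F] (m : ℕ) : Type _ :=
  {U : Matrix (Fin m) (Fin m) F // (∀ i j : Fin m, j < i → U i j = 0) ∧ ∀ i, U i i ≠ 0}

/-- symmetric matrices -/
def Sy (F : Type*) [Field F] (m : ℕ) : Type _ :=
  {S : Matrix (Fin m) (Fin m) F // Sᵀ = S}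

def utMat {m : ℕ} (x : (Fin m → Fˣ) × ({p : Fin m × Fin m // p.1 < p.2} → F)) :
    Matrix (Fin m) (Fin m) F :=
  Matrix.of fun i j => if h : i < j then x.2 ⟨(i, j), h⟩ else if i = j then (x.1 i : F) else 0

theorem utMat_apply {m : ℕ} (x : (Fin m → Fˣ) × ({p : Fin m × Fin m // p.1 < p.2} → F))
    (i j : Fin m) : utMat x i j
      = if h : i < j then x.2 ⟨(i, j), h⟩ else if i = j then (x.1 i : F) else 0 := rfl

def syMat {m : ℕ} (s : {p : Fin m × Fin m // p.1 ≤ p.2} → F) : Matrix (Fin m) (Fin m) F :=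
  Matrix.of fun i j => if h : i ≤ j then s ⟨(i, j), h⟩ else s ⟨(j, i), le_of_lt (not_le.mp h)⟩

omit [Field F] in
theorem syMat_apply {m : ℕ} (s : {p : Fin m × Fin m // p.1 ≤ p.2} → F) (i j : Fin m) :
    syMat s i j
      = if h : i ≤ j then s ⟨(i, j), h⟩ else s ⟨(j, i), le_of_lt (not_le.mp h)⟩ := rfl

def utEquiv (F : Type*) [Field F] (m : ℕ) :
    UT F m ≃ (Fin m → Fˣ) × ({p : Fin m × Fin m // p.1 < p.2} → F) where
  toFun U := (fun i => Units.mk0 (U.1 i i) (U.2.2 i), fun p => U.1 p.1.1 p.1.2)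
  invFun x := ⟨utMat x, by
    constructor
    · intro i j hji
      rw [utMat_apply, dif_neg (not_lt.mpr hji.le), if_neg (ne_of_gt hji)]
    · intro i
      rw [utMat_apply, dif_neg (lt_irrefl i), if_pos rfl]
      exact (x.1 i).ne_zero⟩
  left_inv := by
    rintro ⟨U, hU1, hU2⟩
    apply Subtype.ext
    ext i j
    simp only [utMat_apply, Units.val_mk0]
    by_cases h : i < j
    · rw [dif_pos h]
    · rw [dif_neg h]
      by_cases h' : i = j
      · rw [if_pos h', h']
      · rw [if_neg h']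
        exact (hU1 i j (lt_of_le_of_ne (not_lt.mp h) (Ne.symm h'))).symm
  right_inv := by
    rintro ⟨d, u⟩
    apply Prod.ext
    · ext i
      simp [utMat_apply]
    · ext ⟨⟨i, j⟩, h⟩
      simp only [utMat_apply]
      rw [dif_pos h]

def syEquiv (F : Type*) [Field F] (m : ℕ) :
    Sy F m ≃ ({p : Fin m × Fin m // p.1 ≤ p.2} → F) where
  toFun S := fun p => S.1 p.1.1 p.1.2
  invFun s := ⟨syMat s, by
    ext i j
    rw [Matrix.transpose_apply, syMat_apply, syMat_apply]
    by_cases h : i ≤ j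
    · by_cases h' : j ≤ i
      · have : i = j := le_antisymm h h'
        subst this
        rfl
      · rw [dif_neg h', dif_pos h]
    · have h' : j ≤ i := le_of_lt (not_le.mp h)
      rw [dif_pos h', dif_neg h]⟩
  left_inv := by
    rintro ⟨S, hS⟩
    apply Subtype.ext
    ext i j
    simp only [syMat_apply]
    by_cases h : i ≤ j
    · rw [dif_pos h]
    · rw [dif_neg h]
      have := congrFun (congrFun hS i) j
      rw [Matrix.transpose_apply] at this
      exact this
  right_inv := by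
    intro s
    ext ⟨⟨i, j⟩, h⟩
    simp only [syMat_apply]
    rw [dif_pos h]

theorem card_pairs (m : ℕ) :
    Fintype.card {p : Fin m × Fin m // p.1 < p.2} + Fintype.card {p : Fin m × Fin m // p.1 ≤ p.2}
      = m ^ 2 := by
  have e : {p : Fin m × Fin m // p.1 < p.2} ≃ {p : Fin m × Fin m // ¬ p.1 ≤ p.2} :=
    Equiv.subtypeEquiv (Equiv.prodComm _ _) (by
      rintro ⟨i, j⟩
      simp [not_le])
  rw [Fintype.card_congr e, Fintype.card_subtype_compl, Fintype.card_prod, Fintype.card_fin]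
  have : Fintype.card {p : Fin m × Fin m // p.1 ≤ p.2} ≤ Fintype.card (Fin m × Fin m) :=
    Fintype.card_subtype_le _
  rw [Fintype.card_prod, Fintype.card_fin] at this
  rw [sq]
  omega

theorem UT_det_ne_zero {m : ℕ} (U : UT F m) : U.1.det ≠ 0 := by
  have h : U.1.BlockTriangular id := by
    intro i j hji
    exact U.2.1 i j hji
  rw [Matrix.det_of_isUpperTriangular h]
  exact Finset.prod_ne_zero_iff.mpr (fun i _ => U.2.2 i)

theorem UT_inv_mul {m : ℕ} (U : UT F m) : U.1⁻¹ * U.1 = 1 :=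
  Matrix.nonsing_inv_mul _ (isUnit_iff_ne_zero.mpr (UT_det_ne_zero U))

theorem UT_mul_inv {m : ℕ} (U : UT F m) : U.1 * U.1⁻¹ = 1 :=
  Matrix.mul_nonsing_inv _ (isUnit_iff_ne_zero.mpr (UT_det_ne_zero U))

/-- the Borel element built from an upper triangular and a symmetric matrix -/
noncomputable def borelMat {m : ℕ} (U : UT F m) (S : Sy F m) : Matrix (Fin m ⊕ Fin m) (Fin m ⊕ Fin m) F :=
  Matrix.fromBlocks U.1 (U.1 * S.1) 0 (U.1⁻¹)ᵀ

theorem borelMat_mem {m : ℕ} (U : UT F m) (S : Sy F m) :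
    borelMat U S ∈ Matrix.symplecticGroup (Fin m) F := by
  unfold borelMat
  rw [SymplecticGroup.fromBlocks_mem_iff]
  refine ⟨by simp, ?_, ?_⟩
  · rw [Matrix.transpose_mul, Matrix.transpose_transpose, Matrix.mul_assoc, ← Matrix.transpose_mul,
      UT_inv_mul, Matrix.transpose_one, Matrix.mul_one, ← Matrix.mul_assoc, UT_inv_mul,
      Matrix.one_mul, S.2]
  · rw [← Matrix.transpose_mul, UT_inv_mul, Matrix.transpose_one, Matrix.transpose_zero,
      Matrix.zero_mul, sub_zero]

/-- Borel subgroup of the symplectic group: the elements of Sp_2m(q) stabilising each of the totally isotropic coordinate subspaces ⟨e_0, ..., e_k⟩ (k < m) form a subgroup of order q^(m²) (q − 1)^m. -/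
theorem result {F : Type*} [Field F] [Fintype F] {q : ℕ} (hF : Fintype.card F = q) (m : ℕ) : Nat.card ↥(⨅ k : Fin m, Cfsg.stabilizing (Cfsg.spToMat m F) {v : Fin m ⊕ Fin m → F | (∀ i : Fin m, (k : ℕ) < (i : ℕ) → v (Sum.inl i) = 0) ∧ ∀ i : Fin m, v (Sum.inr i) = 0}) = q ^ (m ^ 2) * (q - 1) ^ m := by
  classical
  let Ψ : UT F m × Sy F m → ↥(⨅ k : Fin m, Cfsg.stabilizing (Cfsg.spToMat m F)
      {v : Fin m ⊕ Fin m → F | (∀ i : Fin m, (k : ℕ) < (i : ℕ) → v (Sum.inl i) = 0) ∧
        ∀ i : Fin m, v (Sum.inr i) = 0}) :=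
    fun x => ⟨⟨borelMat x.1 x.2, borelMat_mem x.1 x.2⟩, by
      rw [mem_borel_iff]
      constructor
      · intro i j hji
        change borelMat x.1 x.2 (Sum.inl i) (Sum.inl j) = 0
        unfold borelMat
        rw [Matrix.fromBlocks_apply₁₁]
        exact x.1.2.1 i j (Fin.lt_def.mpr hji)
      · intro i j
        change borelMat x.1 x.2 (Sum.inr i) (Sum.inl j) = 0
        unfold borelMat
        rw [Matrix.fromBlocks_apply₂₁]
        rfl⟩
  have hΨ : ∀ x, (((Ψ x : Matrix.symplecticGroup (Fin m) F)) :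
      Matrix (Fin m ⊕ Fin m) (Fin m ⊕ Fin m) F) = borelMat x.1 x.2 := fun x => rfl
  have hbij : Function.Bijective Ψ := by
    constructor
    · rintro ⟨U, S⟩ ⟨U', S'⟩ h
      have h1 := congrArg (fun y : ↥(⨅ k : Fin m, Cfsg.stabilizing (Cfsg.spToMat m F)
        {v : Fin m ⊕ Fin m → F | (∀ i : Fin m, (k : ℕ) < (i : ℕ) → v (Sum.inl i) = 0) ∧
          ∀ i : Fin m, v (Sum.inr i) = 0}) => (((y : Matrix.symplecticGroup (Fin m) F)) :
        Matrix (Fin m ⊕ Fin m) (Fin m ⊕ Fin m) F)) h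
      simp only [hΨ] at h1
      unfold borelMat at h1
      rw [Matrix.fromBlocks_inj] at h1
      obtain ⟨hU, hUS, _, _⟩ := h1
      have hU' : U = U' := Subtype.ext hU
      subst hU'
      have hS : S.1 = S'.1 := by
        have := congrArg (fun Z => U.1⁻¹ * Z) hUS
        simp only [← Matrix.mul_assoc, UT_inv_mul, Matrix.one_mul] at this
        exact this
      have hS' : S = S' := Subtype.ext hS
      rw [hS']
    · rintro ⟨⟨M, hM⟩, hB⟩
      rw [mem_borel_iff] at hB
      obtain ⟨hB1, hB2⟩ := hB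
      have hM21 : M.toBlocks₂₁ = 0 := by
        ext i j
        exact hB2 i j
      have hMeq : M = Matrix.fromBlocks M.toBlocks₁₁ M.toBlocks₁₂ 0 M.toBlocks₂₂ := by
        rw [← hM21, Matrix.fromBlocks_toBlocks]
      have hM' := hM
      rw [hMeq, SymplecticGroup.fromBlocks_mem_iff] at hM'
      obtain ⟨_, h2, h3⟩ := hM'
      rw [Matrix.transpose_zero, Matrix.zero_mul, sub_zero] at h3
      -- h3 : M₁₁ᵀ * M₂₂ = 1
      have hdet : M.toBlocks₁₁.det ≠ 0 := by
        have := congrArg Matrix.det h3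
        rw [Matrix.det_mul, Matrix.det_transpose, Matrix.det_one] at this
        exact left_ne_zero_of_mul_eq_one this
      have hUT : M.toBlocks₁₁.BlockTriangular id := by
        intro i j hji
        exact hB1 i j (Fin.lt_def.mp hji)
      have hdiag : ∀ i, M.toBlocks₁₁ i i ≠ 0 := by
        rw [Matrix.det_of_isUpperTriangular hUT] at hdet
        intro i
        exact (Finset.prod_ne_zero_iff.mp hdet) i (Finset.mem_univ i)
      let U : UT F m := ⟨M.toBlocks₁₁, fun i j hji => hB1 i j (Fin.lt_def.mp hji), hdiag⟩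
      have hD : M.toBlocks₂₂ = (M.toBlocks₁₁⁻¹)ᵀ := by
        have h4 : M.toBlocks₂₂ = (M.toBlocks₁₁ᵀ)⁻¹ := by
          rw [eq_comm]
          exact Matrix.inv_eq_right_inv h3
        rw [h4, Matrix.transpose_nonsing_inv]
      have hSsym : (M.toBlocks₁₁⁻¹ * M.toBlocks₁₂)ᵀ = M.toBlocks₁₁⁻¹ * M.toBlocks₁₂ := by
        rw [hD, Matrix.transpose_transpose] at h2
        rw [Matrix.transpose_mul]
        exact h2
      let S : Sy F m := ⟨M.toBlocks₁₁⁻¹ * M.toBlocks₁₂, hSsym⟩
      refine ⟨(U, S), ?_⟩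
      apply Subtype.ext
      apply Subtype.ext
      rw [hΨ]
      change borelMat U S = M
      unfold borelMat
      conv_rhs => rw [hMeq]
      have : U.1 * S.1 = M.toBlocks₁₂ := by
        change M.toBlocks₁₁ * (M.toBlocks₁₁⁻¹ * M.toBlocks₁₂) = M.toBlocks₁₂
        rw [← Matrix.mul_assoc, UT_mul_inv U, Matrix.one_mul]
      rw [this, hD]
  rw [← Nat.card_eq_of_bijective Ψ hbij, Nat.card_prod, Nat.card_congr (utEquiv F m),
    Nat.card_congr (syEquiv F m), Nat.card_prod, Nat.card_eq_fintype_card, Nat.card_eq_fintype_card,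
    Nat.card_eq_fintype_card, Fintype.card_fun, Fintype.card_fun, Fintype.card_fun,
    Fintype.card_units, Fintype.card_fin, hF, ← card_pairs m, pow_add]
  ring

end Cfsg.Agent.S0774
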