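import Mathlib
import Cfsg.Statements.S5058
import Cfsg.Agent.Lib.Helper5.SLGen

set_option autoImplicit false
open Matrix
open Cfsg
open scoped LinearAlgebra.Projectivization

namespace Cfsg.Agent.S5058

section general
variable {F : Type*} [Field F] {ι : Type*} [Fintype ι] [DecidableEq ι]

/-- the matrix `1 + u φᵀ` -/
def tvM (u φ : ι → F) : Matrix ι ι F := 1 + Matrix.vecMulVec u φ

theorem det_tvM (u φ : ι → F) (h : φ ⬝ᵥ u = 0) : (tvM u φ).det = 1 := by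
  rw [tvM, Matrix.vecMulVec_eq Unit, Matrix.det_one_add_replicateCol_mul_replicateRow, h, add_zero]

/-- the special linear element `1 + u φᵀ` -/
def tv (u φ : ι → F) (h : φ ⬝ᵥ u = 0) : Matrix.SpecialLinearGroup ι F := ⟨tvM u φ, det_tvM u φ h⟩

theorem tv_val (u φ : ι → F) (h : φ ⬝ᵥ u = 0) : (tv u φ h).1 = tvM u φ := rfl

theorem inv_val_mul (g : Matrix.SpecialLinearGroup ι F) : (g⁻¹).1 * g.1 = 1 := by
  rw [← Matrix.SpecialLinearGroup.coe_mul, inv_mul_cancel, Matrix.SpecialLinearGroup.coe_one]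

theorem val_mul_inv (g : Matrix.SpecialLinearGroup ι F) : g.1 * (g⁻¹).1 = 1 := by
  rw [← Matrix.SpecialLinearGroup.coe_mul, mul_inv_cancel, Matrix.SpecialLinearGroup.coe_one]

theorem conj_val (g x : Matrix.SpecialLinearGroup ι F) (u φ : ι → F) (hx : x.1 = tvM u φ) :
    (g * x * g⁻¹).1 = tvM (g.1 *ᵥ u) (φ ᵥ* (g⁻¹).1) := by
  rw [Matrix.SpecialLinearGroup.coe_mul, Matrix.SpecialLinearGroup.coe_mul, hx, tvM, tvM, mul_add,
    add_mul, mul_one, val_mul_inv, Matrix.mul_vecMulVec, Matrix.vecMulVec_mul]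

theorem mulVec_ne_zero (g : Matrix.SpecialLinearGroup ι F) {u : ι → F} (hu : u ≠ 0) : g.1 *ᵥ u ≠ 0 := by
  intro h
  apply hu
  have := congrArg (fun w => (g⁻¹).1 *ᵥ w) h
  simp only [Matrix.mulVec_mulVec, inv_val_mul, Matrix.one_mulVec, Matrix.mulVec_zero] at this
  exact this

theorem vecMul_ne_zero (g : Matrix.SpecialLinearGroup ι F) {φ : ι → F} (hφ : φ ≠ 0) : φ ᵥ* g.1 ≠ 0 := by
  intro h
  apply hφ
  have := congrArg (fun w => w ᵥ* (g⁻¹).1) h
  simp only [Matrix.vecMul_vecMul, val_mul_inv, Matrix.vecMul_one, Matrix.zero_vecMul] at this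
  exact this

theorem dot_conj (g : Matrix.SpecialLinearGroup ι F) (u φ : ι → F) :
    (φ ᵥ* (g⁻¹).1) ⬝ᵥ (g.1 *ᵥ u) = φ ⬝ᵥ u := by
  rw [Matrix.dotProduct_mulVec, Matrix.vecMul_vecMul, inv_val_mul, Matrix.vecMul_one]

end general

section pair
variable {F : Type*} [Field F] {ι : Type*} [Fintype ι] [DecidableEq ι]
variable (u φ v ψ : ι → F)

theorem tvM_mul :
    tvM u φ * tvM v ψ = 1 + vecMulVec u φ + vecMulVec v ψ + (φ ⬝ᵥ v) • vecMulVec u ψ := by
  simp only [tvM, mul_add, add_mul, mul_one, one_mul, vecMulVec_mul_vecMulVec, vecMulVec_smul]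
  abel

theorem comm_case (hα : φ ⬝ᵥ v = 0) (hβ : ψ ⬝ᵥ u = 0) :
    tvM u φ * tvM v ψ = tvM v ψ * tvM u φ := by
  rw [tvM_mul u φ v ψ, tvM_mul v ψ u φ, hα, hβ]
  simp only [zero_smul, add_zero]
  abel

theorem two_smul_zero [CharP F 2] (M : Matrix ι ι F) : (2 : F) • M = 0 := by
  rw [CharTwo.two_eq_zero, zero_smul]

theorem tvM_sq [CharP F 2] (hφu : φ ⬝ᵥ u = 0) : tvM u φ * tvM u φ = 1 := by
  have : tvM u φ * tvM u φ = 1 + (2 : F) • vecMulVec u φ := by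
    rw [tvM_mul u φ u φ, hφu]
    module
  rw [this, two_smul_zero, add_zero]

theorem sq_case1 [CharP F 2] (hφu : φ ⬝ᵥ u = 0) (hψv : ψ ⬝ᵥ v = 0) (hα : φ ⬝ᵥ v = 0) :
    (tvM u φ * tvM v ψ) * (tvM u φ * tvM v ψ) = tvM ((ψ ⬝ᵥ u) • v) φ := by
  have : (tvM u φ * tvM v ψ) * (tvM u φ * tvM v ψ) =
      tvM ((ψ ⬝ᵥ u) • v) φ + (2 : F) • (vecMulVec u φ + vecMulVec v ψ) := by
    rw [tvM_mul u φ v ψ, hα, zero_smul, add_zero]
    simp only [tvM, mul_add, add_mul, mul_one, one_mul, vecMulVec_mul_vecMulVec, vecMulVec_smul,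
      smul_vecMulVec, hφu, hψv, hα, zero_smul, add_zero, vecMulVec_zero]
    module
  rw [this, two_smul_zero, add_zero]

theorem sq_case2 [CharP F 2] (hφu : φ ⬝ᵥ u = 0) (hψv : ψ ⬝ᵥ v = 0) (hβ : ψ ⬝ᵥ u = 0) :
    (tvM u φ * tvM v ψ) * (tvM u φ * tvM v ψ) = tvM ((φ ⬝ᵥ v) • u) ψ := by
  have : (tvM u φ * tvM v ψ) * (tvM u φ * tvM v ψ) =
      tvM ((φ ⬝ᵥ v) • u) ψ + (2 : F) • (vecMulVec u φ + vecMulVec v ψ + (φ ⬝ᵥ v) • vecMulVec u ψ) := by
    rw [tvM_mul u φ v ψ]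
    simp only [tvM, mul_add, add_mul, mul_one, one_mul, vecMulVec_mul_vecMulVec, vecMulVec_smul,
      smul_vecMulVec, hφu, hψv, hβ, zero_smul, add_zero, vecMulVec_zero, Matrix.smul_mul,
      Matrix.mul_smul, smul_zero]
    module
  rw [this, two_smul_zero, add_zero]


/-- `X - 1` for `X = (1 + uφᵀ)(1 + vψᵀ)` -/
def Ym : Matrix ι ι F := vecMulVec u φ + vecMulVec v ψ + (φ ⬝ᵥ v) • vecMulVec u ψ

/-- `t` times the idempotent -/
def Em : Matrix ι ι F := (φ ⬝ᵥ v) • vecMulVec u ψ + (ψ ⬝ᵥ u) • vecMulVec v φ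

theorem X_eq : tvM u φ * tvM v ψ = 1 + Ym u φ v ψ := by
  rw [tvM_mul, Ym]; abel

theorem R1 (hφu : φ ⬝ᵥ u = 0) (hψv : ψ ⬝ᵥ v = 0) :
    Ym u φ v ψ * Ym u φ v ψ = ((φ ⬝ᵥ v) * (ψ ⬝ᵥ u)) • Ym u φ v ψ + Em u φ v ψ := by
  simp only [Ym, Em, mul_add, add_mul, vecMulVec_mul_vecMulVec, vecMulVec_smul,
    smul_vecMulVec, hφu, hψv, zero_smul, add_zero, vecMulVec_zero, Matrix.smul_mul,
    Matrix.mul_smul, smul_zero, zero_add]
  module

theorem R2 (hφu : φ ⬝ᵥ u = 0) (hψv : ψ ⬝ᵥ v = 0) :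
    Em u φ v ψ * Ym u φ v ψ = ((φ ⬝ᵥ v) * (ψ ⬝ᵥ u)) • Ym u φ v ψ := by
  simp only [Ym, Em, mul_add, add_mul, vecMulVec_mul_vecMulVec, vecMulVec_smul,
    smul_vecMulVec, hφu, hψv, zero_smul, add_zero, vecMulVec_zero, Matrix.smul_mul,
    Matrix.mul_smul, smul_zero, zero_add]
  module

theorem R2' (hφu : φ ⬝ᵥ u = 0) (hψv : ψ ⬝ᵥ v = 0) :
    Ym u φ v ψ * Em u φ v ψ = ((φ ⬝ᵥ v) * (ψ ⬝ᵥ u)) • Ym u φ v ψ := by
  simp only [Ym, Em, mul_add, add_mul, vecMulVec_mul_vecMulVec, vecMulVec_smul,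
    smul_vecMulVec, hφu, hψv, zero_smul, add_zero, vecMulVec_zero, Matrix.smul_mul,
    Matrix.mul_smul, smul_zero, zero_add]
  module

theorem R3 (hφu : φ ⬝ᵥ u = 0) (hψv : ψ ⬝ᵥ v = 0) :
    Em u φ v ψ * Em u φ v ψ = ((φ ⬝ᵥ v) * (ψ ⬝ᵥ u)) • Em u φ v ψ := by
  simp only [Em, mul_add, add_mul, vecMulVec_mul_vecMulVec, vecMulVec_smul,
    smul_vecMulVec, hφu, hψv, zero_smul, add_zero, vecMulVec_zero, Matrix.smul_mul,
    Matrix.mul_smul, smul_zero, zero_add]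
  module

theorem pow_form (hφu : φ ⬝ᵥ u = 0) (hψv : ψ ⬝ᵥ v = 0) (m : ℕ) :
    ∃ x z : F, (tvM u φ * tvM v ψ) ^ m = 1 + x • Ym u φ v ψ + z • Em u φ v ψ := by
  induction m with
  | zero => exact ⟨0, 0, by simp⟩
  | succ m ih =>
    obtain ⟨x, z, h⟩ := ih
    refine ⟨1 + x + z * ((φ ⬝ᵥ v) * (ψ ⬝ᵥ u)) + x * ((φ ⬝ᵥ v) * (ψ ⬝ᵥ u)), x + z, ?_⟩
    rw [pow_succ, h, X_eq]
    simp only [mul_add, add_mul, mul_one, one_mul, Matrix.smul_mul, Matrix.mul_smul,
      R1 u φ v ψ hφu hψv, R2 u φ v ψ hφu hψv]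
    module

theorem Ym_mulVec (hφu : φ ⬝ᵥ u = 0) :
    Ym u φ v ψ *ᵥ u = (ψ ⬝ᵥ u) • v + ((φ ⬝ᵥ v) * (ψ ⬝ᵥ u)) • u := by
  simp only [Ym, Matrix.add_mulVec, Matrix.smul_mulVec, vecMulVec_mulVec, hφu, MulOpposite.op_zero,
    zero_smul, zero_add, op_smul_eq_smul, smul_smul]

theorem Em_mulVec (hφu : φ ⬝ᵥ u = 0) :
    Em u φ v ψ *ᵥ u = ((φ ⬝ᵥ v) * (ψ ⬝ᵥ u)) • u := by
  simp only [Em, Matrix.add_mulVec, Matrix.smul_mulVec, vecMulVec_mulVec, hφu, MulOpposite.op_zero,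
    zero_smul, add_zero, op_smul_eq_smul, smul_smul, smul_zero]

theorem no_inv [CharP F 2] (hφu : φ ⬝ᵥ u = 0) (hψv : ψ ⬝ᵥ v = 0) (hα : φ ⬝ᵥ v ≠ 0)
    (hβ : ψ ⬝ᵥ u ≠ 0) (hu : u ≠ 0) (x z : F)
    (h : (1 + x • Ym u φ v ψ + z • Em u φ v ψ) * (1 + x • Ym u φ v ψ + z • Em u φ v ψ) = 1) :
    x = 0 ∧ z = 0 := by
  have ht : (φ ⬝ᵥ v) * (ψ ⬝ᵥ u) ≠ 0 := mul_ne_zero hα hβ
  have hexp : (1 + x • Ym u φ v ψ + z • Em u φ v ψ) * (1 + x • Ym u φ v ψ + z • Em u φ v ψ) =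
      1 + (x ^ 2 * ((φ ⬝ᵥ v) * (ψ ⬝ᵥ u))) • Ym u φ v ψ
        + (x ^ 2 + z ^ 2 * ((φ ⬝ᵥ v) * (ψ ⬝ᵥ u))) • Em u φ v ψ
        + (2 : F) • (x • Ym u φ v ψ + z • Em u φ v ψ
            + (x * z * ((φ ⬝ᵥ v) * (ψ ⬝ᵥ u))) • Ym u φ v ψ) := by
    simp only [mul_add, add_mul, mul_one, one_mul, Matrix.smul_mul, Matrix.mul_smul,
      R1 u φ v ψ hφu hψv, R2 u φ v ψ hφu hψv, R2' u φ v ψ hφu hψv, R3 u φ v ψ hφu hψv]
    module
  rw [hexp, two_smul_zero, add_zero] at h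
  have h0 : (x ^ 2 * ((φ ⬝ᵥ v) * (ψ ⬝ᵥ u))) • Ym u φ v ψ
        + (x ^ 2 + z ^ 2 * ((φ ⬝ᵥ v) * (ψ ⬝ᵥ u))) • Em u φ v ψ = 0 := by
    have := congrArg (fun M => M - 1) h
    simpa [add_assoc] using this
  have h1 := congrArg (fun M => M *ᵥ u) h0
  simp only [Matrix.add_mulVec, Matrix.smul_mulVec, Ym_mulVec u φ v ψ hφu, Em_mulVec u φ v ψ hφu,
    Matrix.zero_mulVec] at h1
  have h2 := congrArg (fun w => φ ⬝ᵥ w) h1
  simp only [dotProduct_add, dotProduct_smul, hφu, smul_eq_mul, mul_zero, add_zero,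
    dotProduct_zero] at h2
  have hx : x = 0 := by
    have : x ^ 2 * ((φ ⬝ᵥ v) * (ψ ⬝ᵥ u)) * ((ψ ⬝ᵥ u) * (φ ⬝ᵥ v)) = 0 := by
      linear_combination h2
    have := mul_eq_zero.mp this
    rcases this with h | h
    · rcases mul_eq_zero.mp h with h | h
      · exact pow_eq_zero_iff (by norm_num) |>.mp h
      · exact absurd h ht
    · exact absurd h (mul_ne_zero hβ hα)
  refine ⟨hx, ?_⟩
  subst hx
  simp only [ne_eq, OfNat.ofNat_ne_zero, not_false_eq_true, zero_pow, zero_mul, zero_smul, smul_zero,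
    add_zero, zero_add, smul_smul] at h1
  rcases smul_eq_zero.mp h1 with h | h
  · rcases mul_eq_zero.mp h with h | h
    · rcases mul_eq_zero.mp h with h | h
      · exact pow_eq_zero_iff (by norm_num) |>.mp h
      · exact absurd h ht
    · exact absurd h ht
  · exact absurd h hu


theorem cube_case [CharP F 2] (hφu : φ ⬝ᵥ u = 0) (hψv : ψ ⬝ᵥ v = 0)
    (ht : (φ ⬝ᵥ v) * (ψ ⬝ᵥ u) = 1) :
    (tvM u φ * tvM v ψ) * (tvM u φ * tvM v ψ) * (tvM u φ * tvM v ψ) = 1 := by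
  have r1 := R1 u φ v ψ hφu hψv
  have r2 := R2 u φ v ψ hφu hψv
  have r2' := R2' u φ v ψ hφu hψv
  rw [ht, one_smul] at r1 r2 r2'
  have : (tvM u φ * tvM v ψ) * (tvM u φ * tvM v ψ) * (tvM u φ * tvM v ψ) =
      1 + (2 : F) • ((4 : F) • Ym u φ v ψ + (2 : F) • Em u φ v ψ) := by
    rw [X_eq]
    simp only [mul_add, add_mul, mul_one, one_mul, r1, r2, r2']
    module
  rw [this, two_smul_zero, add_zero]

theorem odd_order [Fintype F] [CharP F 2] (a b : Matrix.SpecialLinearGroup ι F)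
    (ha : a.1 = tvM u φ) (hb : b.1 = tvM v ψ) (hφu : φ ⬝ᵥ u = 0) (hψv : ψ ⬝ᵥ v = 0)
    (hα : φ ⬝ᵥ v ≠ 0) (hβ : ψ ⬝ᵥ u ≠ 0) (hu : u ≠ 0) : Odd (orderOf (a * b)) := by
  have hX : (a * b).1 = tvM u φ * tvM v ψ := by
    rw [Matrix.SpecialLinearGroup.coe_mul, ha, hb]
  by_contra hodd
  rw [Nat.not_odd_iff_even] at hodd
  obtain ⟨m, hm⟩ := hodd
  have hpos : 0 < orderOf (a * b) := orderOf_pos _
  obtain ⟨x, z, hxz⟩ := pow_form u φ v ψ hφu hψv m
  have hpow : ((a * b) ^ m).1 = 1 + x • Ym u φ v ψ + z • Em u φ v ψ := by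
    rw [Matrix.SpecialLinearGroup.coe_pow, hX, hxz]
  have hsq : ((a * b) ^ m).1 * ((a * b) ^ m).1 = 1 := by
    rw [← Matrix.SpecialLinearGroup.coe_mul, ← pow_add, ← hm, pow_orderOf_eq_one,
      Matrix.SpecialLinearGroup.coe_one]
  rw [hpow] at hsq
  obtain ⟨rfl, rfl⟩ := no_inv u φ v ψ hφu hψv hα hβ hu x z hsq
  have h1 : (a * b) ^ m = 1 := by
    apply Subtype.ext
    rw [hpow]; simp
  have hd := orderOf_dvd_of_pow_eq_one h1
  have hm0 : 0 < m := by omega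
  have := Nat.le_of_dvd hm0 hd
  omega

end pair


section conj
variable {F : Type*} [Field F] {ι : Type*} [Fintype ι] [DecidableEq ι]

theorem conj_val' (g x : Matrix.SpecialLinearGroup ι F) (u φ u' φ' : ι → F) (hx : x.1 = tvM u φ)
    (hu' : g.1 *ᵥ u' = u) (hφ' : φ ᵥ* g.1 = φ') : (g⁻¹ * x * g).1 = tvM u' φ' := by
  have := conj_val g⁻¹ x u φ hx
  rw [inv_inv] at this
  rw [this, hφ', ← hu', Matrix.mulVec_mulVec, inv_val_mul, Matrix.one_mulVec]

theorem single_eq_tvM (i j : ι) (c : F) :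
    Matrix.transvection i j c = tvM (c • Pi.single i 1) (Pi.single j 1) := by
  rw [Matrix.transvection, tvM]
  congr 1
  ext k l
  simp only [Matrix.single_apply, vecMulVec_apply, Pi.smul_apply, Pi.single_apply, smul_eq_mul]
  by_cases hk : i = k <;> by_cases hl : j = l <;> simp [hk, hl, eq_comm]

/-- 2-transitivity on the projective space, in coordinates. -/
theorem exists_g1 (i0 i1 : ι) (h01 : i0 ≠ i1) (u w : ι → F) (hu : u ≠ 0) (hw : w ≠ 0)
    (huw : ∀ a : F, a • w ≠ u) :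
    ∃ g : Matrix.SpecialLinearGroup ι F, ∃ a b : F, a ≠ 0 ∧ b ≠ 0 ∧
      g.1 *ᵥ Pi.single i0 1 = a • u ∧ g.1 *ᵥ Pi.single i1 1 = b • w := by
  have he0 : (Pi.single i0 1 : ι → F) ≠ 0 := by
    intro h; have := congrFun h i0; simp at this
  have he1 : (Pi.single i1 1 : ι → F) ≠ 0 := by
    intro h; have := congrFun h i1; simp at this
  have hne1 : Projectivization.mk F (Pi.single i0 1 : ι → F) he0 ≠ Projectivization.mk F (Pi.single i1 1) he1 := by
    intro h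
    rw [Projectivization.mk_eq_mk_iff] at h
    obtain ⟨a, ha⟩ := h
    have := congrFun ha i0
    simp [Units.smul_def, h01.symm] at this
  have hne2 : Projectivization.mk F u hu ≠ Projectivization.mk F w hw := by
    intro h
    rw [Projectivization.mk_eq_mk_iff] at h
    obtain ⟨a, ha⟩ := h
    exact huw a ha
  obtain ⟨g, hg0, hg1⟩ := (MulAction.is_two_pretransitive_iff (G := Matrix.SpecialLinearGroup ι F)).mp
    inferInstance hne1 hne2
  rw [Projectivization.smul_mk, Projectivization.mk_eq_mk_iff] at hg0 hg1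
  obtain ⟨a, ha⟩ := hg0
  obtain ⟨b, hb⟩ := hg1
  exact ⟨g, a, b, a.ne_zero, b.ne_zero, ha.symm, hb.symm⟩

end conj


section lemmaA
variable {F : Type*} [Field F] (n : ℕ)

/-- the diagonal matrix `diag(a⁻¹, b⁻¹, ab, 1, …)` -/
def dvec (a b : F) : Fin (n + 3) → F :=
  fun i => if i = 0 then a⁻¹ else if i = 1 then b⁻¹ else if i = 2 then a * b else 1

theorem det_diag (a b : F) (ha : a ≠ 0) (hb : b ≠ 0) :
    (Matrix.diagonal (dvec n a b)).det = 1 := by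
  rw [Matrix.det_diagonal, Fin.prod_univ_succ, Fin.prod_univ_succ, Fin.prod_univ_succ]
  have h3 : ∀ i : Fin n, dvec n a b i.succ.succ.succ = 1 := by
    intro i
    have h0 : i.succ.succ.succ ≠ (0 : Fin (n + 3)) := Fin.succ_ne_zero _
    have h1 : i.succ.succ.succ ≠ (1 : Fin (n + 3)) := by
      intro h; have := congrArg Fin.val h; simp at this
    have h2 : i.succ.succ.succ ≠ (2 : Fin (n + 3)) := by
      intro h; have := congrArg Fin.val h
      rw [Fin.val_two] at this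
      simp only [Fin.val_succ] at this
      omega
    simp [dvec, h0, h1, h2]
  rw [Finset.prod_congr rfl (fun i _ => h3 i), Finset.prod_const_one, mul_one]
  have e0 : dvec n a b 0 = a⁻¹ := by simp [dvec]
  have e1 : dvec n a b (Fin.succ 0) = b⁻¹ := by
    have : (Fin.succ 0 : Fin (n + 3)) = 1 := rfl
    rw [this]; simp [dvec]
  have e2 : dvec n a b (Fin.succ (Fin.succ 0)) = a * b := by
    have : (Fin.succ (Fin.succ 0) : Fin (n + 3)) = 2 := rfl
    rw [this]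
    have h20 : (2 : Fin (n + 3)) ≠ 0 := by
      intro h; have := congrArg Fin.val h
      rw [Fin.val_two, Fin.val_zero] at this
      omega
    have h21 : (2 : Fin (n + 3)) ≠ 1 := by
      intro h; have := congrArg Fin.val h
      rw [Fin.val_two, Fin.val_one] at this
      omega
    simp [dvec, h20, h21]
  rw [e0, e1, e2]
  field_simp


theorem dot_single (φ : Fin (n + 3) → F) (j : Fin (n + 3)) : φ ⬝ᵥ Pi.single j 1 = φ j := by
  simp [dotProduct_single]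

theorem lemmaA (u φ : Fin (n + 3) → F) (hu : u ≠ 0) (hφ : φ ≠ 0) (hφu : φ ⬝ᵥ u = 0)
    (x : Matrix.SpecialLinearGroup (Fin (n + 3)) F) (hx : x.1 = tvM u φ) :
    ∃ g : Matrix.SpecialLinearGroup (Fin (n + 3)) F,
      (g⁻¹ * x * g).1 = Matrix.transvection 0 1 1 := by
  classical
  obtain ⟨j, hj⟩ : ∃ j, φ j ≠ 0 := by
    by_contra h
    push Not at h
    exact hφ (funext h)
  obtain ⟨w, hw⟩ : ∃ w : Fin (n + 3) → F, w = (φ j)⁻¹ • Pi.single j 1 := ⟨_, rfl⟩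
  have hφw : φ ⬝ᵥ w = 1 := by
    rw [hw, dotProduct_smul, dot_single, smul_eq_mul, inv_mul_cancel₀ hj]
  have hw0 : w ≠ 0 := by
    intro h
    rw [h, dotProduct_zero] at hφw
    exact zero_ne_one hφw
  have huw : ∀ a : F, a • w ≠ u := by
    intro a h
    have h1 := congrArg (fun t => φ ⬝ᵥ t) h
    simp only [dotProduct_smul, hφw, hφu, smul_eq_mul, mul_one] at h1
    rw [h1, zero_smul] at h
    exact hu h.symm
  have h01 : (0 : Fin (n + 3)) ≠ 1 := by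
    intro h; have := congrArg Fin.val h; simp at this
  obtain ⟨g1, a, b, ha, hb, hg0, hg1⟩ := exists_g1 (0 : Fin (n + 3)) 1 h01 u w hu hw0 huw
  obtain ⟨ψ, hψ⟩ : ∃ ψ : Fin (n + 3) → F, ψ = φ ᵥ* g1.1 := ⟨_, rfl⟩
  have hψ0 : ψ 0 = 0 := by
    rw [← dot_single n ψ 0, hψ, ← Matrix.dotProduct_mulVec, hg0, dotProduct_smul, hφu, smul_zero]
  have hψ1 : ψ 1 = b := by
    rw [← dot_single n ψ 1, hψ, ← Matrix.dotProduct_mulVec, hg1, dotProduct_smul, hφw, smul_eq_mul, mul_one]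
  have hx1 : (g1⁻¹ * x * g1).1 = tvM (a⁻¹ • Pi.single 0 1) ψ := by
    apply conj_val' g1 x u φ _ _ hx _ hψ.symm
    rw [Matrix.mulVec_smul, hg0, smul_smul, inv_mul_cancel₀ ha, one_smul]
  obtain ⟨ρ, hρ⟩ : ∃ ρ : Fin (n + 3) → F, ρ = fun k => if k = 0 ∨ k = 1 then 0 else -(ψ k) / b :=
    ⟨_, rfl⟩
  have hρ0 : ρ 0 = 0 := by rw [hρ]; simp
  have hρ1 : ρ 1 = 0 := by rw [hρ]; simp
  have hρ1' : ρ ⬝ᵥ Pi.single 1 1 = 0 := by rw [dot_single, hρ1]
  obtain ⟨g3, hg3⟩ : ∃ g3 : Matrix.SpecialLinearGroup (Fin (n + 3)) F,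
      g3.1 = tvM (Pi.single 1 1) ρ := ⟨tv _ _ hρ1', rfl⟩
  have hg3e0 : g3.1 *ᵥ (a⁻¹ • Pi.single 0 1) = a⁻¹ • Pi.single 0 1 := by
    rw [hg3, tvM, Matrix.add_mulVec, Matrix.one_mulVec, Matrix.mulVec_smul, vecMulVec_mulVec,
      dot_single, hρ0, MulOpposite.op_zero, zero_smul, smul_zero, add_zero]
  have hg3ψ : ψ ᵥ* g3.1 = b • Pi.single 1 1 := by
    rw [hg3, tvM, Matrix.vecMul_add, Matrix.vecMul_one, vecMul_vecMulVec, dot_single, hψ1]
    funext k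
    by_cases hk0 : k = 0
    · subst hk0
      simp [hψ0, hρ0, h01]
    · by_cases hk1 : k = 1
      · subst hk1
        simp [hψ1, hρ1]
      · have : ρ k = -(ψ k) / b := by rw [hρ]; simp [hk0, hk1]
        simp only [Pi.add_apply, Pi.smul_apply, this, smul_eq_mul, Pi.single_apply, hk1, if_false,
          mul_zero]
        field_simp
        ring
  have hx2 : (g3⁻¹ * (g1⁻¹ * x * g1) * g3).1 = tvM (a⁻¹ • Pi.single 0 1) (b • Pi.single 1 1) :=
    conj_val' g3 _ _ _ _ _ hx1 hg3e0 hg3ψ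
  obtain ⟨d, hd⟩ : ∃ d : Matrix.SpecialLinearGroup (Fin (n + 3)) F,
      d.1 = Matrix.diagonal (dvec n a b) := ⟨⟨_, det_diag n a b ha hb⟩, rfl⟩
  have hd0 : d.1 *ᵥ Pi.single 0 1 = a⁻¹ • Pi.single 0 1 := by
    rw [hd]
    funext k
    simp only [Matrix.mulVec_diagonal, Pi.smul_apply, smul_eq_mul, Pi.single_apply]
    by_cases hk0 : k = 0
    · subst hk0; simp [dvec]
    · simp [hk0]
  have hd1 : (b • Pi.single 1 1) ᵥ* d.1 = Pi.single 1 1 := by
    rw [hd]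
    funext k
    simp only [Matrix.vecMul_diagonal, Pi.smul_apply, smul_eq_mul, Pi.single_apply]
    by_cases hk1 : k = 1
    · subst hk1; simp [dvec, h01.symm, hb]
    · simp [hk1]
  have hx3 : (d⁻¹ * (g3⁻¹ * (g1⁻¹ * x * g1) * g3) * d).1 = tvM (Pi.single 0 1) (Pi.single 1 1) :=
    conj_val' d _ _ _ _ _ hx2 hd0 hd1
  refine ⟨g1 * g3 * d, ?_⟩
  have : (g1 * g3 * d)⁻¹ * x * (g1 * g3 * d) = d⁻¹ * (g3⁻¹ * (g1⁻¹ * x * g1) * g3) * d := by group
  rw [this, hx3, single_eq_tvM, one_smul]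

end lemmaA


section main
variable {F : Type*} [Field F] (n : ℕ)

/-- the set of transvections, as in the statement -/
def Dset (F : Type*) [Field F] (n : ℕ) : Set (Matrix.SpecialLinearGroup (Fin (n + 3)) F) :=
  {t | ∃ c : F, c ≠ 0 ∧
        ∃ g : Matrix.SpecialLinearGroup (Fin (n + 3)) F, ((g⁻¹ * t * g : Matrix.SpecialLinearGroup (Fin (n + 3)) F) :
          Matrix (Fin (n + 3)) (Fin (n + 3)) F) = Matrix.transvection 0 1 c}

theorem single_ne_zero (j : Fin (n + 3)) : (Pi.single j 1 : Fin (n + 3) → F) ≠ 0 := by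
  intro h; have := congrFun h j; simp at this

theorem mem_D_iff (t : Matrix.SpecialLinearGroup (Fin (n + 3)) F) :
    t ∈ Dset F n ↔ ∃ u φ : Fin (n + 3) → F, u ≠ 0 ∧ φ ≠ 0 ∧ φ ⬝ᵥ u = 0 ∧ t.1 = tvM u φ := by
  constructor
  · rintro ⟨c, hc, g, hg⟩
    rw [single_eq_tvM] at hg
    have ht : t = g * (g⁻¹ * t * g) * g⁻¹ := by group
    refine ⟨g.1 *ᵥ (c • Pi.single 0 1), Pi.single 1 1 ᵥ* (g⁻¹).1, ?_, ?_, ?_, ?_⟩
    · apply mulVec_ne_zero
      exact smul_ne_zero hc (single_ne_zero n 0)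
    · apply vecMul_ne_zero
      exact single_ne_zero n 1
    · rw [dot_conj, dotProduct_smul, dotProduct_comm, dot_single]
      have h01 : (0 : Fin (n + 3)) ≠ 1 := by
        intro h; have := congrArg Fin.val h; simp at this
      simp [h01]
    · conv_lhs => rw [ht]
      exact conj_val g _ _ _ hg
  · rintro ⟨u, φ, hu, hφ, hφu, ht⟩
    obtain ⟨g, hg⟩ := lemmaA n u φ hu hφ hφu t ht
    exact ⟨1, one_ne_zero, g, hg⟩

theorem tvM_ne_one {u φ : Fin (n + 3) → F} (hu : u ≠ 0) (hφ : φ ≠ 0) : tvM u φ ≠ 1 := by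
  intro h
  rw [tvM, add_eq_left, vecMulVec_eq_zero] at h
  rcases h with h | h
  · exact hu h
  · exact hφ h

theorem sq_eq_one [CharP F 2] {d : Matrix.SpecialLinearGroup (Fin (n + 3)) F} {u φ : Fin (n + 3) → F}
    (hφu : φ ⬝ᵥ u = 0) (hd : d.1 = tvM u φ) : d ^ 2 = 1 := by
  apply Subtype.ext
  rw [pow_two, Matrix.SpecialLinearGroup.coe_mul, hd, tvM_sq u φ hφu, Matrix.SpecialLinearGroup.coe_one]

theorem pair_cases [Fintype F] [CharP F 2] (a b : Matrix.SpecialLinearGroup (Fin (n + 3)) F)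
    (ha : a ∈ Dset F n) (hb : b ∈ Dset F n) :
    a * b = b * a ∨ (Odd (orderOf (a * b)) ∧ (Fintype.card F = 2 → (a * b) ^ 3 = 1)) ∨
      (orderOf (a * b) = 4 ∧ (a * b) ^ 2 ∈ Dset F n) := by
  obtain ⟨u, φ, hu, hφ, hφu, hau⟩ := (mem_D_iff n a).mp ha
  obtain ⟨v, ψ, hv, hψ, hψv, hbv⟩ := (mem_D_iff n b).mp hb
  have hab : (a * b).1 = tvM u φ * tvM v ψ := by
    rw [Matrix.SpecialLinearGroup.coe_mul, hau, hbv]
  have order4 : ∀ (w χ : Fin (n + 3) → F), w ≠ 0 → χ ≠ 0 → χ ⬝ᵥ w = 0 →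
      ((a * b) ^ 2).1 = tvM w χ → orderOf (a * b) = 4 ∧ (a * b) ^ 2 ∈ Dset F n := by
    intro w χ hw hχ hχw h2
    constructor
    · have h1 : ¬ (a * b) ^ 2 ^ 1 = 1 := by
        rw [pow_one]
        intro h
        rw [h, Matrix.SpecialLinearGroup.coe_one] at h2
        exact tvM_ne_one n hw hχ h2.symm
      have h4 : (a * b) ^ 2 ^ (1 + 1) = 1 := by
        have : (2 : ℕ) ^ (1 + 1) = 2 * 2 := by norm_num
        rw [this, pow_mul]
        exact sq_eq_one n hχw h2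
      have := orderOf_eq_prime_pow h1 h4
      simpa using this
    · exact (mem_D_iff n _).mpr ⟨w, χ, hw, hχ, hχw, h2⟩
  by_cases hα : φ ⬝ᵥ v = 0
  · by_cases hβ : ψ ⬝ᵥ u = 0
    · left
      apply Subtype.ext
      rw [Matrix.SpecialLinearGroup.coe_mul, Matrix.SpecialLinearGroup.coe_mul, hau, hbv]
      exact comm_case u φ v ψ hα hβ
    · right; right
      apply order4 ((ψ ⬝ᵥ u) • v) φ (smul_ne_zero hβ hv) hφ
      · rw [dotProduct_smul, hα, smul_zero]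
      · rw [pow_two, Matrix.SpecialLinearGroup.coe_mul, hab]
        exact sq_case1 u φ v ψ hφu hψv hα
  · by_cases hβ : ψ ⬝ᵥ u = 0
    · right; right
      apply order4 ((φ ⬝ᵥ v) • u) ψ (smul_ne_zero hα hu) hψ
      · rw [dotProduct_smul, hβ, smul_zero]
      · rw [pow_two, Matrix.SpecialLinearGroup.coe_mul, hab]
        exact sq_case2 u φ v ψ hφu hψv hβ
    · right; left
      refine ⟨odd_order u φ v ψ a b hau hbv hφu hψv hα hβ hu, ?_⟩
      intro hF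
      have hone : ∀ c : F, c ≠ 0 → c = 1 := by
        intro c hc
        have := FiniteField.pow_card_sub_one_eq_one c hc
        rw [hF] at this
        simpa using this
      apply Subtype.ext
      rw [pow_succ, pow_two, Matrix.SpecialLinearGroup.coe_mul, Matrix.SpecialLinearGroup.coe_mul, hab,
        Matrix.SpecialLinearGroup.coe_one]
      apply cube_case u φ v ψ hφu hψv
      rw [hone _ hα, hone _ hβ, one_mul]


theorem rootSet [Fintype F] [CharP F 2] : Cfsg.IsRootInvolutionSet (Dset F n) := by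
  have h01 : (0 : Fin (n + 3)) ≠ 1 := by
    intro h; have := congrArg Fin.val h; simp at this
  refine ⟨?_, ?_, ?_, ?_⟩
  · intro d hd
    obtain ⟨u, φ, hu, hφ, hφu, hdu⟩ := (mem_D_iff n d).mp hd
    have : Fact (Nat.Prime 2) := ⟨Nat.prime_two⟩
    apply orderOf_eq_prime (sq_eq_one n hφu hdu)
    intro h1
    rw [h1, Matrix.SpecialLinearGroup.coe_one] at hdu
    exact tvM_ne_one n hu hφ hdu.symm
  · apply Cfsg.Agent.Lib.Helper5.eq_top_of_transvection_mem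
    intro i j hij c
    by_cases hc : c = 0
    · rw [hc, Matrix.SpecialLinearGroup.transvection_coeff_zero]
      exact Subgroup.one_mem _
    · apply Subgroup.subset_closure
      rw [mem_D_iff]
      refine ⟨c • Pi.single i 1, Pi.single j 1, smul_ne_zero hc (single_ne_zero n i),
        single_ne_zero n j, ?_, ?_⟩
      · rw [dotProduct_smul, dotProduct_comm, dot_single]
        simp [hij]
      · rw [← single_eq_tvM]
        rfl
  · intro d hd g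
    obtain ⟨u, φ, hu, hφ, hφu, hdu⟩ := (mem_D_iff n d).mp hd
    rw [mem_D_iff]
    refine ⟨g.1 *ᵥ u, φ ᵥ* (g⁻¹).1, mulVec_ne_zero g hu, vecMul_ne_zero g⁻¹ hφ, ?_, conj_val g d u φ hdu⟩
    rw [dot_conj, hφu]
  · intro a ha b hb
    rcases pair_cases n a b ha hb with h | h | h
    · exact Or.inl h
    · exact Or.inr (Or.inl h.1)
    · exact Or.inr (Or.inr h)

end main


/-- Let F be a finite field of characteristic 2 and n a natural number. Then the transvections of SL_{n+3}(F) (so in every dimension at least 3) (the conjugates of the elementary matrices 1 + c E₁₂, c ≠ 0) form a class of root involutions of SL_{n+3}(F); when F has two elements they form a class of {3,4}⁺-transpositions (every product of odd order has order 1 or 3). -/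
theorem result (F : Type*) [Field F] [Fintype F] [CharP F 2] (n : ℕ) :
    Cfsg.IsRootInvolutionClass {t : Matrix.SpecialLinearGroup (Fin (n + 3)) F | ∃ c : F, c ≠ 0 ∧
        ∃ g : Matrix.SpecialLinearGroup (Fin (n + 3)) F, ((g⁻¹ * t * g : Matrix.SpecialLinearGroup (Fin (n + 3)) F) :
          Matrix (Fin (n + 3)) (Fin (n + 3)) F) = Matrix.transvection 0 1 c} ∧
    (Fintype.card F = 2 → Cfsg.IsThreeFourPlusTranspositionSet {t : Matrix.SpecialLinearGroup (Fin (n + 3)) F | ∃ c : F, c ≠ 0 ∧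
        ∃ g : Matrix.SpecialLinearGroup (Fin (n + 3)) F, ((g⁻¹ * t * g : Matrix.SpecialLinearGroup (Fin (n + 3)) F) :
          Matrix (Fin (n + 3)) (Fin (n + 3)) F) = Matrix.transvection 0 1 c}) := by
  change Cfsg.IsRootInvolutionClass (Dset F n) ∧
    (Fintype.card F = 2 → Cfsg.IsThreeFourPlusTranspositionSet (Dset F n))
  have h01 : (0 : Fin (n + 3)) ≠ 1 := by
    intro h; have := congrArg Fin.val h; simp at this
  refine ⟨⟨rootSet n, ?_, ?_⟩, ?_⟩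
  · refine ⟨Matrix.SpecialLinearGroup.transvection h01 1, ?_⟩
    rw [mem_D_iff]
    refine ⟨(1 : F) • Pi.single 0 1, Pi.single 1 1, smul_ne_zero one_ne_zero (single_ne_zero n 0),
      single_ne_zero n 1, ?_, ?_⟩
    · rw [dotProduct_smul, dotProduct_comm, dot_single]
      simp [h01]
    · rw [← single_eq_tvM]
      rfl
  · intro a ha b hb
    obtain ⟨u, φ, hu, hφ, hφu, hau⟩ := (mem_D_iff n a).mp ha
    obtain ⟨v, ψ, hv, hψ, hψv, hbv⟩ := (mem_D_iff n b).mp hb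
    obtain ⟨ga, hga⟩ := lemmaA n u φ hu hφ hφu a hau
    obtain ⟨gb, hgb⟩ := lemmaA n v ψ hv hψ hψv b hbv
    have heq : ga⁻¹ * a * ga = gb⁻¹ * b * gb := Subtype.ext (hga.trans hgb.symm)
    refine ⟨gb * ga⁻¹, ?_⟩
    have : b = gb * (gb⁻¹ * b * gb) * gb⁻¹ := by group
    rw [this, ← heq]
    group
  · intro hF
    refine ⟨rootSet n, ?_⟩
    intro a ha b hb hodd
    rcases pair_cases n a b ha hb with h | h | h
    · left
      obtain ⟨u, φ, hu, hφ, hφu, hau⟩ := (mem_D_iff n a).mp ha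
      obtain ⟨v, ψ, hv, hψ, hψv, hbv⟩ := (mem_D_iff n b).mp hb
      have h2 : (a * b) ^ 2 = 1 := by
        have hc : Commute a b := h
        rw [hc.mul_pow, sq_eq_one n hφu hau, sq_eq_one n hψv hbv, one_mul]
      have hd := orderOf_dvd_of_pow_eq_one h2
      rcases (Nat.dvd_prime Nat.prime_two).mp hd with h1 | h1
      · exact h1
      · rw [h1] at hodd
        exact absurd hodd (by decide)
    · have hd := orderOf_dvd_of_pow_eq_one (h.2 hF)
      rcases (Nat.dvd_prime Nat.prime_three).mp hd with h1 | h1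
      · exact Or.inl h1
      · exact Or.inr h1
    · rw [h.1] at hodd
      exact absurd hodd (by decide)

end Cfsg.Agent.S5058
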