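import Mathlib
import Cfsg.Statements.S5043
import Cfsg.Agent.S5058

set_option autoImplicit false
set_option linter.unusedSectionVars false
set_option linter.unusedVariables false
open Matrix
open Cfsg

namespace Cfsg.Agent.S5043

open Cfsg.Agent.S5058
open scoped commutatorElement

section general
variable {k : Type*} [Field k] {ι : Type*} [Fintype ι] [DecidableEq ι]

theorem tvM_smul (c : k) (u φ : ι → k) : tvM (c • u) φ = 1 + c • vecMulVec u φ := by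
  rw [tvM, smul_vecMulVec]

theorem tvM_smul_mul (c c' : k) (u φ : ι → k) (h : φ ⬝ᵥ u = 0) :
    tvM (c • u) φ * tvM (c' • u) φ = tvM ((c + c') • u) φ := by
  rw [tvM_mul, dotProduct_smul, h, smul_zero, zero_smul, add_zero, tvM, add_smul, add_vecMulVec,
    add_assoc]

/-- the root subgroup `{1 + c u φᵀ}` -/
def T (u φ : ι → k) (h : φ ⬝ᵥ u = 0) : Subgroup (Matrix.SpecialLinearGroup ι k) where
  carrier := {x | ∃ c : k, x.1 = tvM (c • u) φ}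
  one_mem' := ⟨0, by simp [tvM]⟩
  mul_mem' := by
    rintro x y ⟨c, hx⟩ ⟨c', hy⟩
    exact ⟨c + c', by rw [Matrix.SpecialLinearGroup.coe_mul, hx, hy, tvM_smul_mul c c' u φ h]⟩
  inv_mem' := by
    rintro x ⟨c, hx⟩
    refine ⟨-c, ?_⟩
    have h1 : x * tv ((-c) • u) φ (by rw [dotProduct_smul, h, smul_zero]) = 1 := by
      apply Subtype.ext
      rw [Matrix.SpecialLinearGroup.coe_mul, hx, tv_val, tvM_smul_mul c (-c) u φ h, add_neg_cancel,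
        zero_smul]
      simp [tvM]
    have h2 : x⁻¹ = tv ((-c) • u) φ (by rw [dotProduct_smul, h, smul_zero]) :=
      (eq_inv_of_mul_eq_one_right h1).symm ▸ rfl
    rw [h2]
    rfl

theorem mem_T {u φ : ι → k} {h : φ ⬝ᵥ u = 0} {x : Matrix.SpecialLinearGroup ι k} :
    x ∈ T u φ h ↔ ∃ c : k, x.1 = tvM (c • u) φ := Iff.rfl

theorem tv_mem_T (u φ : ι → k) (h : φ ⬝ᵥ u = 0) (c : k) (h' : φ ⬝ᵥ (c • u) = 0) :
    tv (c • u) φ h' ∈ T u φ h := ⟨c, rfl⟩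

theorem T_congr {u φ u' φ' : ι → k} (h : φ ⬝ᵥ u = 0) (h' : φ' ⬝ᵥ u' = 0)
    (heq : vecMulVec u φ = vecMulVec u' φ') : T u φ h = T u' φ' h' := by
  ext x
  simp only [mem_T, tvM_smul, heq]

theorem T_smul {u φ : ι → k} (h : φ ⬝ᵥ u = 0) {s s' : k} (hs : s ≠ 0) (hs' : s' ≠ 0)
    (h' : (s' • φ) ⬝ᵥ (s • u) = 0) : T (s • u) (s' • φ) h' = T u φ h := by
  ext x
  simp only [mem_T, tvM_smul, smul_vecMulVec, vecMulVec_smul, smul_smul]
  constructor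
  · rintro ⟨c, hc⟩
    exact ⟨c * s * s', by rw [hc]⟩
  · rintro ⟨c, hc⟩
    refine ⟨c * s⁻¹ * s'⁻¹, ?_⟩
    rw [hc]
    congr 2
    field_simp

theorem T_comm (u φ : ι → k) (h : φ ⬝ᵥ u = 0) : IsMulCommutative (T u φ h) := by
  refine ⟨⟨?_⟩⟩
  rintro ⟨x, c, hx⟩ ⟨y, c', hy⟩
  apply Subtype.ext
  apply Subtype.ext
  simp only [Subgroup.coe_mul, Matrix.SpecialLinearGroup.coe_mul, hx, hy]
  rw [tvM_smul_mul c c' u φ h, tvM_smul_mul c' c u φ h, add_comm]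

theorem T_ne_bot {u φ : ι → k} (h : φ ⬝ᵥ u = 0) (hu : u ≠ 0) (hφ : φ ≠ 0) : T u φ h ≠ ⊥ := by
  intro hbot
  have hmem : tv u φ h ∈ T u φ h := ⟨1, by rw [one_smul]; rfl⟩
  rw [hbot, Subgroup.mem_bot] at hmem
  have := congrArg Subtype.val hmem
  rw [tv_val, Matrix.SpecialLinearGroup.coe_one, tvM, add_eq_left, vecMulVec_eq_zero] at this
  rcases this with h1 | h1
  · exact hu h1
  · exact hφ h1

theorem T_conj (u φ : ι → k) (h : φ ⬝ᵥ u = 0) (g : Matrix.SpecialLinearGroup ι k)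
    (h' : (φ ᵥ* (g⁻¹).1) ⬝ᵥ (g.1 *ᵥ u) = 0) :
    Cfsg.conjBy (T u φ h) g = T (g.1 *ᵥ u) (φ ᵥ* (g⁻¹).1) h' := by
  ext x
  simp only [Cfsg.conjBy, Subgroup.mem_map, MulEquiv.coe_toMonoidHom, MulAut.conj_apply, mem_T]
  constructor
  · rintro ⟨y, ⟨c, hy⟩, rfl⟩
    refine ⟨c, ?_⟩
    rw [conj_val g y (c • u) φ hy, Matrix.mulVec_smul]
  · rintro ⟨c, hc⟩
    refine ⟨g⁻¹ * x * g, ⟨c, ?_⟩, by group⟩
    have := conj_val g⁻¹ x _ _ hc
    rw [inv_inv] at this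
    rw [this, Matrix.mulVec_smul, Matrix.mulVec_mulVec, inv_val_mul, Matrix.one_mulVec,
      Matrix.vecMul_vecMul, inv_val_mul, Matrix.vecMul_one]


theorem tvM_mulVec (w χ z : ι → k) : tvM w χ *ᵥ z = z + (χ ⬝ᵥ z) • w := by
  rw [tvM, Matrix.add_mulVec, Matrix.one_mulVec, vecMulVec_mulVec, op_smul_eq_smul]

theorem vecMul_tvM (w χ z : ι → k) : z ᵥ* tvM w χ = z + (z ⬝ᵥ w) • χ := by
  rw [tvM, Matrix.vecMul_add, Matrix.vecMul_one, vecMul_vecMulVec]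

theorem inv_val_of {x : Matrix.SpecialLinearGroup ι k} {w χ : ι → k} (h : χ ⬝ᵥ w = 0)
    (hx : x.1 = tvM w χ) : (x⁻¹).1 = tvM (-w) χ := by
  have h1 : x * tv (-w) χ (by rw [dotProduct_neg, h, neg_zero]) = 1 := by
    apply Subtype.ext
    rw [Matrix.SpecialLinearGroup.coe_mul, hx, tv_val, tvM_mul, dotProduct_neg, h, neg_zero, zero_smul,
      add_zero, neg_vecMulVec]
    simp
  have h2 : x⁻¹ = tv (-w) χ (by rw [dotProduct_neg, h, neg_zero]) :=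
    (eq_inv_of_mul_eq_one_right h1).symm ▸ rfl
  rw [h2]
  rfl

theorem tvM_ne_one' {u φ : ι → k} (hu : u ≠ 0) (hφ : φ ≠ 0) : tvM u φ ≠ 1 := by
  intro h
  rw [tvM, add_eq_left, vecMulVec_eq_zero] at h
  rcases h with h | h
  · exact hu h
  · exact hφ h

end general

section pair
variable {k : Type*} [Field k] {ι : Type*} [Fintype ι] [DecidableEq ι]
variable (u φ v ψ : ι → k) (hφu : φ ⬝ᵥ u = 0) (hψv : ψ ⬝ᵥ v = 0)

theorem comm_pair (hα : φ ⬝ᵥ v = 0) (hβ : ψ ⬝ᵥ u = 0) : ⁅T u φ hφu, T v ψ hψv⁆ = ⊥ := by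
  rw [Subgroup.commutator_eq_bot_iff_le_centralizer]
  rintro x ⟨c, hx⟩
  rw [Subgroup.mem_centralizer_iff]
  rintro y ⟨c', hy⟩
  apply Subtype.ext
  rw [Matrix.SpecialLinearGroup.coe_mul, Matrix.SpecialLinearGroup.coe_mul, hx, hy]
  exact comm_case (c' • v) ψ (c • u) φ (by rw [dotProduct_smul, hβ, smul_zero])
    (by rw [dotProduct_smul, hα, smul_zero])

theorem T_ne' (hu : u ≠ 0) (z : ι → k) (hz1 : φ ⬝ᵥ z ≠ 0) (hz2 : ψ ⬝ᵥ z = 0) :
    T u φ hφu ≠ T v ψ hψv := by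
  intro h
  have hmem : tv u φ hφu ∈ T u φ hφu := ⟨1, by rw [one_smul]; rfl⟩
  rw [h] at hmem
  obtain ⟨c, hc⟩ := hmem
  rw [tv_val] at hc
  have h1 := congrArg (fun M => M *ᵥ z) hc
  simp only [tvM_mulVec, hz2, zero_smul, add_zero] at h1
  have h2 : (φ ⬝ᵥ z) • u = 0 := by
    have := add_left_cancel (a := z) (b := (φ ⬝ᵥ z) • u) (c := 0) (by rw [add_zero]; exact h1)
    exact this
  rcases smul_eq_zero.mp h2 with h3 | h3
  · exact hz1 h3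
  · exact hu h3

theorem T_ne (hu : u ≠ 0) (hα : φ ⬝ᵥ v ≠ 0) : T u φ hφu ≠ T v ψ hψv := by
  intro h
  have hmem : tv u φ hφu ∈ T u φ hφu := ⟨1, by rw [one_smul]; rfl⟩
  rw [h] at hmem
  obtain ⟨c, hc⟩ := hmem
  rw [tv_val] at hc
  have h1 := congrArg (fun M => M *ᵥ v) hc
  simp only [tvM_mulVec, dotProduct_smul, hψv, smul_zero, zero_smul, add_zero] at h1
  have h2 : (φ ⬝ᵥ v) • u = 0 := by
    have := add_left_cancel (a := v) (b := (φ ⬝ᵥ v) • u) (c := 0) (by rw [add_zero]; exact h1)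
    exact this
  rcases smul_eq_zero.mp h2 with h3 | h3
  · exact hα h3
  · exact hu h3

theorem rankOneCond (hα : φ ⬝ᵥ v ≠ 0) (hβ : ψ ⬝ᵥ u ≠ 0) (hu : u ≠ 0) (hφ : φ ≠ 0) (hv : v ≠ 0)
    (hψ : ψ ≠ 0) : Cfsg.RankOneCondition (T u φ hφu) (T v ψ hψv) := by
  rintro a ⟨c, ha⟩ ha1
  have hc : c ≠ 0 := by
    rintro rfl
    apply ha1
    apply Subtype.ext
    rw [ha]; simp [tvM]
  have hb0 : ψ ⬝ᵥ ((c * (φ ⬝ᵥ v) * (ψ ⬝ᵥ u))⁻¹ • v) = 0 := by rw [dotProduct_smul, hψv, smul_zero]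
  have hc'0 : (c * (φ ⬝ᵥ v) * (ψ ⬝ᵥ u))⁻¹ ≠ 0 := inv_ne_zero (mul_ne_zero (mul_ne_zero hc hα) hβ)
  refine ⟨tv ((c * (φ ⬝ᵥ v) * (ψ ⬝ᵥ u))⁻¹ • v) ψ hb0, ⟨_, rfl⟩, ?_, ?_⟩
  · intro h1
    have := congrArg Subtype.val h1
    rw [tv_val, Matrix.SpecialLinearGroup.coe_one] at this
    exact tvM_ne_one' (smul_ne_zero hc'0 hv) hψ this
  · have hφcu : φ ⬝ᵥ (c • u) = 0 := by rw [dotProduct_smul, hφu, smul_zero]
    have e1 := T_conj u φ hφu (tv ((c * (φ ⬝ᵥ v) * (ψ ⬝ᵥ u))⁻¹ • v) ψ hb0)⁻¹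
      (by rw [dot_conj]; exact hφu)
    have e2 := T_conj v ψ hψv a⁻¹ (by rw [dot_conj]; exact hψv)
    rw [e1, e2]
    have hbinv := inv_val_of hb0 (tv_val _ _ hb0)
    have hainv := inv_val_of hφcu ha
    -- simplify the four vectors
    have v1 : ((tv ((c * (φ ⬝ᵥ v) * (ψ ⬝ᵥ u))⁻¹ • v) ψ hb0)⁻¹).1 *ᵥ u =
        u - ((c * (φ ⬝ᵥ v))⁻¹) • v := by
      rw [hbinv, tvM_mulVec, smul_neg, smul_smul, sub_eq_add_neg]
      congr 2
      field_simp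
    have v2 : φ ᵥ* (((tv ((c * (φ ⬝ᵥ v) * (ψ ⬝ᵥ u))⁻¹ • v) ψ hb0)⁻¹)⁻¹).1 =
        φ + ((c * (ψ ⬝ᵥ u))⁻¹) • ψ := by
      rw [inv_inv, tv_val, vecMul_tvM, dotProduct_smul, smul_eq_mul]
      congr 2
      field_simp
    have v3 : (a⁻¹).1 *ᵥ v = (-(c * (φ ⬝ᵥ v))) • (u - ((c * (φ ⬝ᵥ v))⁻¹) • v) := by
      rw [hainv, tvM_mulVec, smul_sub, smul_smul, smul_neg, smul_smul]
      have : -(c * φ ⬝ᵥ v) * (c * φ ⬝ᵥ v)⁻¹ = -1 := by field_simp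
      rw [this]
      simp only [neg_smul, one_smul, sub_neg_eq_add, mul_comm]
      abel
    have v4 : ψ ᵥ* ((a⁻¹)⁻¹).1 = (c * (ψ ⬝ᵥ u)) • (φ + ((c * (ψ ⬝ᵥ u))⁻¹) • ψ) := by
      rw [inv_inv, ha, vecMul_tvM, dotProduct_smul, smul_add, smul_smul, smul_eq_mul]
      have : c * ψ ⬝ᵥ u * (c * ψ ⬝ᵥ u)⁻¹ = 1 := by field_simp
      rw [this, one_smul, mul_comm, add_comm]
    have hd : (φ + ((c * (ψ ⬝ᵥ u))⁻¹) • ψ) ⬝ᵥ (u - ((c * (φ ⬝ᵥ v))⁻¹) • v) = 0 := by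
      rw [← v1, ← v2, dot_conj]; exact hφu
    have key := T_smul hd (s := -(c * (φ ⬝ᵥ v))) (s' := c * (ψ ⬝ᵥ u))
      (neg_ne_zero.mpr (mul_ne_zero hc hα)) (mul_ne_zero hc hβ)
      (by rw [← v3, ← v4, dot_conj]; exact hψv)
    have l1 : T ((tv ((c * (φ ⬝ᵥ v) * (ψ ⬝ᵥ u))⁻¹ • v) ψ hb0)⁻¹.1 *ᵥ u)
        (φ ᵥ* (((tv ((c * (φ ⬝ᵥ v) * (ψ ⬝ᵥ u))⁻¹ • v) ψ hb0)⁻¹)⁻¹).1) (by rw [dot_conj]; exact hφu)
        = T (u - ((c * (φ ⬝ᵥ v))⁻¹) • v) (φ + ((c * (ψ ⬝ᵥ u))⁻¹) • ψ) hd :=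
      T_congr _ _ (by rw [v1, v2])
    have l2 : T ((a⁻¹).1 *ᵥ v) (ψ ᵥ* ((a⁻¹)⁻¹).1) (by rw [dot_conj]; exact hψv)
        = T ((-(c * (φ ⬝ᵥ v))) • (u - ((c * (φ ⬝ᵥ v))⁻¹) • v))
            ((c * (ψ ⬝ᵥ u)) • (φ + ((c * (ψ ⬝ᵥ u))⁻¹) • ψ))
            (by rw [← v3, ← v4, dot_conj]; exact hψv) :=
      T_congr _ _ (by rw [v3, v4])
    rw [l1, l2, key]


theorem nilp (hφu' : φ ⬝ᵥ u = 0) : Group.IsNilpotent (T u φ hφu') :=
  ⟨1, Subgroup.upperCentralSeries_one_eq_top_iff.mpr (T_comm u φ hφu')⟩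

theorem rankOnePair (hα : φ ⬝ᵥ v ≠ 0) (hβ : ψ ⬝ᵥ u ≠ 0) (hu : u ≠ 0) (hφ : φ ≠ 0) (hv : v ≠ 0)
    (hψ : ψ ≠ 0) : Cfsg.IsRankOnePair (T u φ hφu) (T v ψ hψv) where
  ne := T_ne u φ v ψ hφu hψv hu hα
  nilpotent_left := nilp u φ hφu
  nilpotent_right := nilp v ψ hψv
  cond_left := rankOneCond u φ v ψ hφu hψv hα hβ hu hφ hv hψ
  cond_right := rankOneCond v ψ u φ hψv hφu hβ hα hv hψ hu hφ

include hφu hψv in
/-- commutator of two transvections in the case `ψ u = 0` -/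
theorem comm_val (hβ : ψ ⬝ᵥ u = 0) (a b : Matrix.SpecialLinearGroup ι k) (c c' : k)
    (ha : a.1 = tvM (c • u) φ) (hb : b.1 = tvM (c' • v) ψ) :
    (a * b * a⁻¹ * b⁻¹).1 = tvM ((c * c' * (φ ⬝ᵥ v)) • u) ψ := by
  have hz0 : ψ ⬝ᵥ ((c * c' * (φ ⬝ᵥ v)) • u) = 0 := by rw [dotProduct_smul, hβ, smul_zero]
  have key : a * b = tv ((c * c' * (φ ⬝ᵥ v)) • u) ψ hz0 * (b * a) := by
    apply Subtype.ext
    simp only [Matrix.SpecialLinearGroup.coe_mul, ha, hb, tv_val]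
    simp only [tvM, mul_add, add_mul, mul_one, one_mul, vecMulVec_mul_vecMulVec, vecMulVec_smul,
      smul_vecMulVec, dotProduct_smul, hφu, hψv, hβ, smul_zero, zero_smul, add_zero, vecMulVec_zero,
      Matrix.smul_mul, Matrix.mul_smul, smul_eq_mul, mul_zero]
    module
  have : a * b * a⁻¹ * b⁻¹ = tv ((c * c' * (φ ⬝ᵥ v)) • u) ψ hz0 := by
    rw [key]; group
  rw [this]; rfl

theorem commutator_eq (hα : φ ⬝ᵥ v ≠ 0) (hβ : ψ ⬝ᵥ u = 0) :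
    ⁅T u φ hφu, T v ψ hψv⁆ = T u ψ hβ := by
  apply le_antisymm
  · rw [Subgroup.commutator_le]
    rintro a ⟨c, ha⟩ b ⟨c', hb⟩
    exact ⟨c * c' * (φ ⬝ᵥ v), comm_val u φ v ψ hφu hψv hβ a b c c' ha hb⟩
  · rintro z ⟨d, hz⟩
    have h1 : φ ⬝ᵥ ((1 : k) • u) = 0 := by rw [dotProduct_smul, hφu, smul_zero]
    have h2 : ψ ⬝ᵥ ((d * (φ ⬝ᵥ v)⁻¹) • v) = 0 := by rw [dotProduct_smul, hψv, smul_zero]
    have hmem : ⁅tv ((1 : k) • u) φ h1, tv ((d * (φ ⬝ᵥ v)⁻¹) • v) ψ h2⁆ ∈ ⁅T u φ hφu, T v ψ hψv⁆ :=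
      Subgroup.commutator_mem_commutator ⟨1, rfl⟩ ⟨_, rfl⟩
    have hval := comm_val u φ v ψ hφu hψv hβ _ _ 1 (d * (φ ⬝ᵥ v)⁻¹) (tv_val _ _ h1) (tv_val _ _ h2)
    have : z = ⁅tv ((1 : k) • u) φ h1, tv ((d * (φ ⬝ᵥ v)⁻¹) • v) ψ h2⁆ := by
      apply Subtype.ext
      rw [hz, commutatorElement_def, hval]
      congr 2
      field_simp
    rw [this]
    exact hmem

theorem closure_left (hα : φ ⬝ᵥ v ≠ 0) (hβ : ψ ⬝ᵥ u = 0) (a : Matrix.SpecialLinearGroup ι k)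
    (ha : a ∈ T u φ hφu) (ha1 : a ≠ 1) :
    Subgroup.closure ((fun b => a * b * a⁻¹ * b⁻¹) '' (T v ψ hψv : Set (Matrix.SpecialLinearGroup ι k)))
      = T u ψ hβ := by
  obtain ⟨c, hac⟩ := ha
  have hc : c ≠ 0 := by
    rintro rfl
    apply ha1
    apply Subtype.ext
    rw [hac]; simp [tvM]
  have hset : (fun b => a * b * a⁻¹ * b⁻¹) '' (T v ψ hψv : Set (Matrix.SpecialLinearGroup ι k))
      = (T u ψ hβ : Set (Matrix.SpecialLinearGroup ι k)) := by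
    ext z
    constructor
    · rintro ⟨b, ⟨c', hb⟩, rfl⟩
      exact ⟨c * c' * (φ ⬝ᵥ v), comm_val u φ v ψ hφu hψv hβ a b c c' hac hb⟩
    · rintro ⟨d, hz⟩
      have h2 : ψ ⬝ᵥ ((d * (c * (φ ⬝ᵥ v))⁻¹) • v) = 0 := by rw [dotProduct_smul, hψv, smul_zero]
      refine ⟨tv ((d * (c * (φ ⬝ᵥ v))⁻¹) • v) ψ h2, ⟨_, rfl⟩, ?_⟩
      apply Subtype.ext
      rw [hz]
      have hval := comm_val u φ v ψ hφu hψv hβ a _ c (d * (c * (φ ⬝ᵥ v))⁻¹) hac (tv_val _ _ h2)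
      simp only at hval ⊢
      rw [hval]
      congr 2
      field_simp
  rw [hset, Subgroup.closure_eq]

theorem closure_right (hα : φ ⬝ᵥ v ≠ 0) (hβ : ψ ⬝ᵥ u = 0) (b : Matrix.SpecialLinearGroup ι k)
    (hb : b ∈ T v ψ hψv) (hb1 : b ≠ 1) :
    Subgroup.closure ((fun a => a * b * a⁻¹ * b⁻¹) '' (T u φ hφu : Set (Matrix.SpecialLinearGroup ι k)))
      = T u ψ hβ := by
  obtain ⟨c', hbc⟩ := hb
  have hc : c' ≠ 0 := by
    rintro rfl
    apply hb1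
    apply Subtype.ext
    rw [hbc]; simp [tvM]
  have hset : (fun a => a * b * a⁻¹ * b⁻¹) '' (T u φ hφu : Set (Matrix.SpecialLinearGroup ι k))
      = (T u ψ hβ : Set (Matrix.SpecialLinearGroup ι k)) := by
    ext z
    constructor
    · rintro ⟨a, ⟨c, ha⟩, rfl⟩
      exact ⟨c * c' * (φ ⬝ᵥ v), comm_val u φ v ψ hφu hψv hβ a b c c' ha hbc⟩
    · rintro ⟨d, hz⟩
      have h2 : φ ⬝ᵥ ((d * (c' * (φ ⬝ᵥ v))⁻¹) • u) = 0 := by rw [dotProduct_smul, hφu, smul_zero]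
      refine ⟨tv ((d * (c' * (φ ⬝ᵥ v))⁻¹) • u) φ h2, ⟨_, rfl⟩, ?_⟩
      apply Subtype.ext
      rw [hz]
      have hval := comm_val u φ v ψ hφu hψv hβ _ b (d * (c' * (φ ⬝ᵥ v))⁻¹) c' (tv_val _ _ h2) hbc
      simp only at hval ⊢
      rw [hval]
      congr 2
      field_simp
  rw [hset, Subgroup.closure_eq]

theorem central (hβ : ψ ⬝ᵥ u = 0) (z : Matrix.SpecialLinearGroup ι k) (hz : z ∈ T u ψ hβ)
    (x : Matrix.SpecialLinearGroup ι k) (hx : x ∈ T u φ hφu ⊔ T v ψ hψv) : z * x = x * z := by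
  obtain ⟨d, hzd⟩ := hz
  have hle : T u φ hφu ⊔ T v ψ hψv ≤ Subgroup.centralizer {z} := by
    apply sup_le
    · rintro a ⟨c, ha⟩
      rw [Subgroup.mem_centralizer_singleton_iff]
      apply Subtype.ext
      rw [Matrix.SpecialLinearGroup.coe_mul, Matrix.SpecialLinearGroup.coe_mul, ha, hzd]
      exact comm_case _ _ _ _ (by rw [dotProduct_smul, hφu, smul_zero])
        (by rw [dotProduct_smul, hβ, smul_zero])
    · rintro b ⟨c', hb⟩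
      rw [Subgroup.mem_centralizer_singleton_iff]
      apply Subtype.ext
      rw [Matrix.SpecialLinearGroup.coe_mul, Matrix.SpecialLinearGroup.coe_mul, hb, hzd]
      exact comm_case _ _ _ _ (by rw [dotProduct_smul, hβ, smul_zero])
        (by rw [dotProduct_smul, hψv, smul_zero])
  have := hle hx
  rw [Subgroup.mem_centralizer_singleton_iff] at this
  exact this.symm

end pair


section sym
variable {G : Type*} [Group G]

theorem rootCommutatorCase_symm {S : Set (Subgroup G)} {A B : Subgroup G}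
    (h : Cfsg.RootCommutatorCase S B A) : Cfsg.RootCommutatorCase S A B := by
  obtain ⟨h1, h2, h3, h4⟩ := h
  have hc : ⁅A, B⁆ = ⁅B, A⁆ := Subgroup.commutator_comm A B
  refine ⟨hc ▸ h1, ?_, ?_, ?_⟩
  · intro c hc' x hx
    rw [hc] at hc'
    rw [sup_comm] at hx
    exact h2 c hc' x hx
  · intro a ha ha1
    rw [hc, ← h4 a ha ha1]
    have hset : (fun b => a * b * a⁻¹ * b⁻¹) '' (B : Set G) = ((fun b => b * a * b⁻¹ * a⁻¹) '' (B : Set G))⁻¹ := by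
      ext z
      simp only [Set.mem_image, Set.mem_inv, SetLike.mem_coe]
      constructor
      · rintro ⟨b, hb, rfl⟩
        exact ⟨b, hb, by group⟩
      · rintro ⟨b, hb, hz⟩
        refine ⟨b, hb, ?_⟩
        rw [← inv_inv z, ← hz]; group
    rw [hset, Subgroup.closure_inv]
  · intro b hb hb1
    rw [hc, ← h3 b hb hb1]
    have hset : (fun a => a * b * a⁻¹ * b⁻¹) '' (A : Set G) = ((fun a => b * a * b⁻¹ * a⁻¹) '' (A : Set G))⁻¹ := by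
      ext z
      simp only [Set.mem_image, Set.mem_inv, SetLike.mem_coe]
      constructor
      · rintro ⟨a, ha, rfl⟩
        exact ⟨a, ha, by group⟩
      · rintro ⟨a, ha, hz⟩
        refine ⟨a, ha, ?_⟩
        rw [← inv_inv z, ← hz]; group
    rw [hset, Subgroup.closure_inv]


theorem conjBy_eq_of_commute {A : Subgroup G} {g : G} (h : ∀ y ∈ A, g * y = y * g) :
    Cfsg.conjBy A g = A := by
  ext x
  simp only [Cfsg.conjBy, Subgroup.mem_map, MulEquiv.coe_toMonoidHom, MulAut.conj_apply]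
  constructor
  · rintro ⟨y, hy, rfl⟩
    rw [h y hy, mul_inv_cancel_right]; exact hy
  · intro hx
    exact ⟨x, hx, by rw [h x hx, mul_inv_cancel_right]⟩

theorem conjBy_conjBy (A : Subgroup G) (g h : G) :
    Cfsg.conjBy (Cfsg.conjBy A g) h = Cfsg.conjBy A (h * g) := by
  ext x
  simp only [Cfsg.conjBy, Subgroup.mem_map, MulEquiv.coe_toMonoidHom, MulAut.conj_apply]
  constructor
  · rintro ⟨y, ⟨z, hz, rfl⟩, rfl⟩
    exact ⟨z, hz, by group⟩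
  · rintro ⟨z, hz, rfl⟩
    exact ⟨g * z * g⁻¹, ⟨z, hz, rfl⟩, by group⟩

end sym

section K1
variable {k : Type*} [Field k] {ι : Type*} [Fintype ι] [DecidableEq ι]
variable (u φ v ψ : ι → k) (hφu : φ ⬝ᵥ u = 0) (hψv : ψ ⬝ᵥ v = 0)

theorem tv_ne_one {w χ : ι → k} (h : χ ⬝ᵥ w = 0) (hw : w ≠ 0) (hχ : χ ≠ 0) : tv w χ h ≠ 1 := by
  intro h1
  have := congrArg Subtype.val h1
  rw [tv_val, Matrix.SpecialLinearGroup.coe_one] at this
  exact tvM_ne_one' hw hχ this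

theorem not_cond_of_comm (hu : u ≠ 0) (hφ : φ ≠ 0) (hα : φ ⬝ᵥ v = 0) (hβ : ψ ⬝ᵥ u = 0)
    (hne : T u φ hφu ≠ T v ψ hψv) : ¬ Cfsg.RankOneCondition (T u φ hφu) (T v ψ hψv) := by
  intro hcond
  obtain ⟨b, hb, -, hconj⟩ := hcond (tv u φ hφu) ⟨1, by rw [one_smul]; rfl⟩ (tv_ne_one hφu hu hφ)
  have hcomm := comm_pair u φ v ψ hφu hψv hα hβ
  rw [Subgroup.commutator_eq_bot_iff_le_centralizer] at hcomm
  have h1 : Cfsg.conjBy (T u φ hφu) b⁻¹ = T u φ hφu := by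
    apply conjBy_eq_of_commute
    intro y hy
    have := hcomm hy
    rw [Subgroup.mem_centralizer_iff] at this
    have h2 := this b hb
    -- b * y = y * b  →  b⁻¹ * y = y * b⁻¹
    calc b⁻¹ * y = b⁻¹ * (y * b) * b⁻¹ := by group
      _ = b⁻¹ * (b * y) * b⁻¹ := by rw [h2]
      _ = y * b⁻¹ := by group
  have h2 : Cfsg.conjBy (T v ψ hψv) (tv u φ hφu)⁻¹ = T v ψ hψv := by
    apply conjBy_eq_of_commute
    intro y hy
    have := hcomm (⟨1, by rw [one_smul]; rfl⟩ : tv u φ hφu ∈ T u φ hφu)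
    rw [Subgroup.mem_centralizer_iff] at this
    have h3 := this y hy
    calc (tv u φ hφu)⁻¹ * y = (tv u φ hφu)⁻¹ * (y * tv u φ hφu) * (tv u φ hφu)⁻¹ := by group
      _ = (tv u φ hφu)⁻¹ * (tv u φ hφu * y) * (tv u φ hφu)⁻¹ := by rw [h3]
      _ = y * (tv u φ hφu)⁻¹ := by group
  rw [h1, h2] at hconj
  exact hne hconj

theorem not_cond_of_half (hu : u ≠ 0) (hφ : φ ≠ 0) (hα : φ ⬝ᵥ v ≠ 0) (hβ : ψ ⬝ᵥ u = 0) :
    ¬ Cfsg.RankOneCondition (T u φ hφu) (T v ψ hψv) := by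
  intro hcond
  obtain ⟨b, ⟨c', hb⟩, -, hconj⟩ :=
    hcond (tv u φ hφu) ⟨1, by rw [one_smul]; rfl⟩ (tv_ne_one hφu hu hφ)
  have e1 := T_conj u φ hφu b⁻¹ (by rw [dot_conj]; exact hφu)
  have e2 := T_conj v ψ hψv (tv u φ hφu)⁻¹ (by rw [dot_conj]; exact hψv)
  rw [e1, e2] at hconj
  have hb0 : ψ ⬝ᵥ (c' • v) = 0 := by rw [dotProduct_smul, hψv, smul_zero]
  have hbinv := inv_val_of hb0 hb
  have v1 : (b⁻¹).1 *ᵥ u = u := by
    rw [hbinv, tvM_mulVec, hβ, zero_smul, add_zero]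
  have hne : (b⁻¹).1 *ᵥ u ≠ 0 := by rw [v1]; exact hu
  refine T_ne' _ _ _ _ _ _ hne v ?_ ?_ hconj
  · rw [inv_inv, hb, vecMul_tvM, dotProduct_smul, add_dotProduct, smul_dotProduct, hψv, smul_zero,
      add_zero]
    exact hα
  · rw [inv_inv, tv_val, vecMul_tvM, hβ, zero_smul, add_zero]
    exact hψv

theorem alpha_beta_ne_zero (hu : u ≠ 0) (hφ : φ ≠ 0) (hv : v ≠ 0) (hψ : ψ ≠ 0)
    (h : Cfsg.IsRankOnePair (T u φ hφu) (T v ψ hψv)) : φ ⬝ᵥ v ≠ 0 ∧ ψ ⬝ᵥ u ≠ 0 := by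
  by_cases hα : φ ⬝ᵥ v = 0
  · by_cases hβ : ψ ⬝ᵥ u = 0
    · exact absurd h.cond_left (not_cond_of_comm u φ v ψ hφu hψv hu hφ hα hβ h.ne)
    · exact absurd h.cond_right (not_cond_of_half v ψ u φ hψv hφu hv hψ hβ hα)
  · by_cases hβ : ψ ⬝ᵥ u = 0
    · exact absurd h.cond_left (not_cond_of_half u φ v ψ hφu hψv hu hφ hα hβ)
    · exact ⟨hα, hβ⟩

end K1

section K2
variable {k : Type*} [Field k] {ι : Type*} [Fintype ι] [DecidableEq ι]
variable (u φ v ψ : ι → k)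

/-- columns `u, v` -/
def Um : Matrix ι (Fin 2) k := Matrix.of fun i j => if j = 0 then u i else v i

/-- rows `β⁻¹ψ, α⁻¹φ` -/
def Pm : Matrix (Fin 2) ι k :=
  Matrix.of fun j i => if j = 0 then (ψ ⬝ᵥ u)⁻¹ * ψ i else (φ ⬝ᵥ v)⁻¹ * φ i

theorem Pm_mul_Um (hφu : φ ⬝ᵥ u = 0) (hψv : ψ ⬝ᵥ v = 0) (hα : φ ⬝ᵥ v ≠ 0) (hβ : ψ ⬝ᵥ u ≠ 0) :
    Pm u φ v ψ * Um u v = 1 := by
  ext i j
  rw [Matrix.mul_apply]
  fin_cases i <;> fin_cases j
  · simp only [Pm, Um, Matrix.of_apply, Fin.zero_eta, if_true, mul_assoc, ← Finset.mul_sum]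
    have : ∑ x, ψ x * u x = ψ ⬝ᵥ u := rfl
    rw [this, inv_mul_cancel₀ hβ]; rfl
  · simp only [Pm, Um, Matrix.of_apply, Fin.zero_eta, Fin.mk_one, if_true, mul_assoc,
      ← Finset.mul_sum, one_ne_zero, if_false]
    have : ∑ x, ψ x * v x = ψ ⬝ᵥ v := rfl
    rw [this, hψv, mul_zero]; rfl
  · simp only [Pm, Um, Matrix.of_apply, Fin.zero_eta, Fin.mk_one, if_true, mul_assoc,
      ← Finset.mul_sum, one_ne_zero, if_false]
    have : ∑ x, φ x * u x = φ ⬝ᵥ u := rfl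
    rw [this, hφu, mul_zero]; rfl
  · simp only [Pm, Um, Matrix.of_apply, Fin.mk_one, mul_assoc,
      ← Finset.mul_sum, one_ne_zero, if_false]
    have : ∑ x, φ x * v x = φ ⬝ᵥ v := rfl
    rw [this, inv_mul_cancel₀ hα]; rfl

/-- the matrix `1 + U (M - 1) Ψ` -/
def rhoM (M : Matrix (Fin 2) (Fin 2) k) : Matrix ι ι k := 1 + Um u v * (M - 1) * Pm u φ v ψ

theorem rhoM_mul (hPU : Pm u φ v ψ * Um u v = 1) (M M' : Matrix (Fin 2) (Fin 2) k) :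
    rhoM u φ v ψ (M * M') = rhoM u φ v ψ M * rhoM u φ v ψ M' := by
  simp only [rhoM]
  have e1 : ∀ P Q : Matrix ι ι k, (1 + P) * (1 + Q) = 1 + (P + Q + P * Q) := by
    intro P Q; noncomm_ring
  have e2 : (Um u v * (M - 1) * Pm u φ v ψ) * (Um u v * (M' - 1) * Pm u φ v ψ) =
      Um u v * ((M - 1) * (Pm u φ v ψ * Um u v) * (M' - 1)) * Pm u φ v ψ := by
    simp only [Matrix.mul_assoc]
  have e3 : M * M' - 1 = (M - 1) + (M' - 1) + (M - 1) * (M' - 1) := by noncomm_ring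
  rw [e1, e2, hPU, mul_one, e3]
  simp only [Matrix.mul_add, Matrix.add_mul]

theorem rhoM_det (hPU : Pm u φ v ψ * Um u v = 1) (M : Matrix (Fin 2) (Fin 2) k) :
    (rhoM u φ v ψ M).det = M.det := by
  rw [rhoM, Matrix.mul_assoc, Matrix.det_one_add_mul_comm, Matrix.mul_assoc, hPU, mul_one,
    add_sub_cancel]

theorem rhoM_one : rhoM u φ v ψ 1 = 1 := by simp [rhoM]

theorem rhoM_inj (hPU : Pm u φ v ψ * Um u v = 1) (M : Matrix (Fin 2) (Fin 2) k)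
    (h : rhoM u φ v ψ M = 1) : M = 1 := by
  rw [rhoM, add_eq_left] at h
  have this : Pm u φ v ψ * (Um u v * (M - 1) * Pm u φ v ψ) * Um u v = 0 := by
    rw [h, Matrix.mul_zero, Matrix.zero_mul]
  have h2 : Pm u φ v ψ * (Um u v * (M - 1) * Pm u φ v ψ) * Um u v =
      (Pm u φ v ψ * Um u v) * (M - 1) * (Pm u φ v ψ * Um u v) := by
    simp only [Matrix.mul_assoc]
  rw [h2, hPU, one_mul, mul_one] at this
  exact sub_eq_zero.mp this

/-- the homomorphism `SL₂(k) → SL(ι, k)` -/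
def rho (hPU : Pm u φ v ψ * Um u v = 1) :
    Matrix.SpecialLinearGroup (Fin 2) k →* Matrix.SpecialLinearGroup ι k :=
  MonoidHom.mk' (fun M => ⟨rhoM u φ v ψ M.1, by rw [rhoM_det u φ v ψ hPU, M.2]⟩) (by
    intro M M'
    apply Subtype.ext
    simp only [Matrix.SpecialLinearGroup.coe_mul]
    exact rhoM_mul u φ v ψ hPU M.1 M'.1)

theorem rho_val (hPU : Pm u φ v ψ * Um u v = 1) (M : Matrix.SpecialLinearGroup (Fin 2) k) :
    (rho u φ v ψ hPU M).1 = rhoM u φ v ψ M.1 := rfl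

theorem rhoM_upper (q : k) :
    rhoM u φ v ψ !![1, q; 0, 1] = tvM ((q * (φ ⬝ᵥ v)⁻¹) • u) φ := by
  rw [rhoM, tvM]
  congr 1
  ext i j
  simp only [Matrix.mul_apply, Fin.sum_univ_two, Um, Pm, Matrix.of_apply, Matrix.sub_apply,
    Matrix.one_apply, vecMulVec_apply, Pi.smul_apply, smul_eq_mul]
  simp
  ring

theorem rhoM_lower (r : k) :
    rhoM u φ v ψ !![1, 0; r, 1] = tvM ((r * (ψ ⬝ᵥ u)⁻¹) • v) ψ := by
  rw [rhoM, tvM]
  congr 1
  ext i j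
  simp only [Matrix.mul_apply, Fin.sum_univ_two, Um, Pm, Matrix.of_apply, Matrix.sub_apply,
    Matrix.one_apply, vecMulVec_apply, Pi.smul_apply, smul_eq_mul]
  simp
  ring


theorem sl2_top : Cfsg.upperUnipotentSL2 k ⊔ Cfsg.lowerUnipotentSL2 k = ⊤ := by
  apply Cfsg.Agent.Lib.Helper5.eq_top_of_transvection_mem
  intro i j hij c
  fin_cases i <;> fin_cases j
  · exact absurd rfl hij
  · apply Subgroup.mem_sup_left
    apply Subgroup.subset_closure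
    simp [Matrix.SpecialLinearGroup.transvection_coe, Matrix.single_apply]
  · apply Subgroup.mem_sup_right
    apply Subgroup.subset_closure
    simp [Matrix.SpecialLinearGroup.transvection_coe, Matrix.single_apply]
  · exact absurd rfl hij

theorem psl2Pair (hφu : φ ⬝ᵥ u = 0) (hψv : ψ ⬝ᵥ v = 0) (hα : φ ⬝ᵥ v ≠ 0) (hβ : ψ ⬝ᵥ u ≠ 0) :
    Cfsg.IsPSL2PairOver k (T u φ hφu) (T v ψ hψv) := by
  have hPU := Pm_mul_Um u φ v ψ hφu hψv hα hβ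
  have hup : (Cfsg.upperUnipotentSL2 k).map (rho u φ v ψ hPU) = T u φ hφu := by
    unfold Cfsg.upperUnipotentSL2
    rw [MonoidHom.map_closure]
    have hset : (rho u φ v ψ hPU) '' {g | (g : Matrix (Fin 2) (Fin 2) k) 1 0 = 0 ∧
        (g : Matrix (Fin 2) (Fin 2) k) 0 0 = 1 ∧ (g : Matrix (Fin 2) (Fin 2) k) 1 1 = 1}
        = ((T u φ hφu : Subgroup (Matrix.SpecialLinearGroup ι k)) : Set (Matrix.SpecialLinearGroup ι k)) := by
      ext x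
      constructor
      · rintro ⟨g, ⟨h10, h00, h11⟩, rfl⟩
        obtain ⟨q, hq⟩ : ∃ q, g.1 = !![1, q; 0, 1] := by
          refine ⟨g.1 0 1, ?_⟩
          ext i j
          fin_cases i <;> fin_cases j <;> simp [h10, h00, h11]
        refine ⟨q * (φ ⬝ᵥ v)⁻¹, ?_⟩
        rw [rho_val, hq, rhoM_upper]
      · rintro ⟨c, hc⟩
        obtain ⟨M, hM⟩ : ∃ M : Matrix.SpecialLinearGroup (Fin 2) k, M.1 = !![1, c * (φ ⬝ᵥ v); 0, 1] :=
          ⟨⟨!![1, c * (φ ⬝ᵥ v); 0, 1], by simp [Matrix.det_fin_two]⟩, rfl⟩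
        refine ⟨M, ⟨by rw [hM]; simp, by rw [hM]; simp, by rw [hM]; simp⟩, ?_⟩
        apply Subtype.ext
        rw [rho_val, hM, hc, rhoM_upper]
        congr 2
        field_simp
    rw [hset, Subgroup.closure_eq]
  have hlow : (Cfsg.lowerUnipotentSL2 k).map (rho u φ v ψ hPU) = T v ψ hψv := by
    unfold Cfsg.lowerUnipotentSL2
    rw [MonoidHom.map_closure]
    have hset : (rho u φ v ψ hPU) '' {g | (g : Matrix (Fin 2) (Fin 2) k) 0 1 = 0 ∧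
        (g : Matrix (Fin 2) (Fin 2) k) 0 0 = 1 ∧ (g : Matrix (Fin 2) (Fin 2) k) 1 1 = 1}
        = ((T v ψ hψv : Subgroup (Matrix.SpecialLinearGroup ι k)) : Set (Matrix.SpecialLinearGroup ι k)) := by
      ext x
      constructor
      · rintro ⟨g, ⟨h01, h00, h11⟩, rfl⟩
        obtain ⟨r, hr⟩ : ∃ r, g.1 = !![1, 0; r, 1] := by
          refine ⟨g.1 1 0, ?_⟩
          ext i j
          fin_cases i <;> fin_cases j <;> simp [h01, h00, h11]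
        refine ⟨r * (ψ ⬝ᵥ u)⁻¹, ?_⟩
        rw [rho_val, hr, rhoM_lower]
      · rintro ⟨c, hc⟩
        obtain ⟨M, hM⟩ : ∃ M : Matrix.SpecialLinearGroup (Fin 2) k, M.1 = !![1, 0; c * (ψ ⬝ᵥ u), 1] :=
          ⟨⟨!![1, 0; c * (ψ ⬝ᵥ u), 1], by simp [Matrix.det_fin_two]⟩, rfl⟩
        refine ⟨M, ⟨by rw [hM]; simp, by rw [hM]; simp, by rw [hM]; simp⟩, ?_⟩
        apply Subtype.ext
        rw [rho_val, hM, hc, rhoM_lower]
        congr 2
        field_simp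
    rw [hset, Subgroup.closure_eq]
  refine ⟨rho u φ v ψ hPU, ?_, ?_, hup, hlow⟩
  · rw [MonoidHom.range_eq_map, ← sl2_top, Subgroup.map_sup, hup, hlow]
  · intro M hM
    rw [MonoidHom.mem_ker] at hM
    have h1 : M = 1 := by
      apply Subtype.ext
      have := congrArg Subtype.val hM
      rw [rho_val, Matrix.SpecialLinearGroup.coe_one] at this
      rw [rhoM_inj u φ v ψ hPU M.1 this, Matrix.SpecialLinearGroup.coe_one]
    rw [h1]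
    exact Subgroup.one_mem _

end K2

section conn
variable {k : Type*} [Field k] {ι : Type*} [Fintype ι] [DecidableEq ι]

theorem exists_dot_ne_zero {φ : ι → k} (hφ : φ ≠ 0) : ∃ x : ι → k, φ ⬝ᵥ x ≠ 0 := by
  obtain ⟨j, hj⟩ : ∃ j, φ j ≠ 0 := by
    by_contra h
    push Not at h
    exact hφ (funext h)
  exact ⟨Pi.single j 1, by simpa [dotProduct_single] using hj⟩

theorem exists_both {φ ψ : ι → k} (hφ : φ ≠ 0) (hψ : ψ ≠ 0) :
    ∃ w : ι → k, φ ⬝ᵥ w ≠ 0 ∧ ψ ⬝ᵥ w ≠ 0 := by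
  obtain ⟨x, hx⟩ := exists_dot_ne_zero hφ
  obtain ⟨y, hy⟩ := exists_dot_ne_zero hψ
  by_cases h1 : ψ ⬝ᵥ x = 0
  · by_cases h2 : φ ⬝ᵥ y = 0
    · refine ⟨x + y, ?_, ?_⟩
      · rw [dotProduct_add, h2, add_zero]; exact hx
      · rw [dotProduct_add, h1, zero_add]; exact hy
    · exact ⟨y, h2, hy⟩
  · exact ⟨x, hx, h1⟩

theorem exists_chi {u v w φ ψ : ι → k} (hu : u ≠ 0) (hv : v ≠ 0) (hφu : φ ⬝ᵥ u = 0)
    (hψv : ψ ⬝ᵥ v = 0) (hφw : φ ⬝ᵥ w ≠ 0) (hψw : ψ ⬝ᵥ w ≠ 0) :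
    ∃ χ : ι → k, χ ⬝ᵥ w = 0 ∧ χ ⬝ᵥ u ≠ 0 ∧ χ ⬝ᵥ v ≠ 0 := by
  obtain ⟨θ1, h1⟩ := exists_dot_ne_zero hu
  obtain ⟨θ2, h2⟩ := exists_dot_ne_zero hv
  rw [dotProduct_comm] at h1 h2
  have a1 : (θ1 - ((θ1 ⬝ᵥ w) / (φ ⬝ᵥ w)) • φ) ⬝ᵥ w = 0 := by
    rw [sub_dotProduct, smul_dotProduct, smul_eq_mul]
    field_simp
    ring
  have a2 : (θ1 - ((θ1 ⬝ᵥ w) / (φ ⬝ᵥ w)) • φ) ⬝ᵥ u = θ1 ⬝ᵥ u := by
    rw [sub_dotProduct, smul_dotProduct, hφu, smul_zero, sub_zero]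
  have b1 : (θ2 - ((θ2 ⬝ᵥ w) / (ψ ⬝ᵥ w)) • ψ) ⬝ᵥ w = 0 := by
    rw [sub_dotProduct, smul_dotProduct, smul_eq_mul]
    field_simp
    ring
  have b2 : (θ2 - ((θ2 ⬝ᵥ w) / (ψ ⬝ᵥ w)) • ψ) ⬝ᵥ v = θ2 ⬝ᵥ v := by
    rw [sub_dotProduct, smul_dotProduct, hψv, smul_zero, sub_zero]
  by_cases c1 : (θ1 - ((θ1 ⬝ᵥ w) / (φ ⬝ᵥ w)) • φ) ⬝ᵥ v = 0
  · by_cases c2 : (θ2 - ((θ2 ⬝ᵥ w) / (ψ ⬝ᵥ w)) • ψ) ⬝ᵥ u = 0
    · refine ⟨(θ1 - ((θ1 ⬝ᵥ w) / (φ ⬝ᵥ w)) • φ) + (θ2 - ((θ2 ⬝ᵥ w) / (ψ ⬝ᵥ w)) • ψ), ?_, ?_, ?_⟩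
      · rw [add_dotProduct, a1, b1, add_zero]
      · rw [add_dotProduct, a2, c2, add_zero]; exact h1
      · rw [add_dotProduct, c1, b2, zero_add]; exact h2
    · exact ⟨_, b1, c2, by rw [b2]; exact h2⟩
  · exact ⟨_, a1, by rw [a2]; exact h1, c1⟩

end conn

section main
variable {k : Type*} [Field k] (n : ℕ)

theorem h01 : (0 : Fin (n + 3)) ≠ 1 := by
  intro h; have := congrArg Fin.val h; simp at this

theorem h02 : (0 : Fin (n + 3)) ≠ 2 := by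
  intro h; have := congrArg Fin.val h
  rw [Fin.val_two, Fin.val_zero] at this; omega

theorem h12 : (1 : Fin (n + 3)) ≠ 2 := by
  intro h; have := congrArg Fin.val h
  rw [Fin.val_two, Fin.val_one] at this; omega

theorem dot_single_single (i j : Fin (n + 3)) :
    (Pi.single j 1 : Fin (n + 3) → k) ⬝ᵥ Pi.single i 1 = if i = j then 1 else 0 := by
  rw [dot_single, Pi.single_apply]

theorem e01 : (Pi.single 1 1 : Fin (n + 3) → k) ⬝ᵥ Pi.single 0 1 = 0 := by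
  rw [dot_single_single, if_neg (h01 n)]

/-- the family of the statement -/
def Sset (k : Type*) [Field k] (n : ℕ) : Set (Subgroup (Matrix.SpecialLinearGroup (Fin (n + 3)) k)) :=
  {A : Subgroup (Matrix.SpecialLinearGroup (Fin (n + 3)) k) |
        ∃ g : Matrix.SpecialLinearGroup (Fin (n + 3)) k,
          A = Cfsg.conjBy (Subgroup.closure {t : Matrix.SpecialLinearGroup (Fin (n + 3)) k |
            ∃ c : k, (t : Matrix (Fin (n + 3)) (Fin (n + 3)) k) = Matrix.transvection 0 1 c}) g}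

theorem R0_eq : Subgroup.closure {t : Matrix.SpecialLinearGroup (Fin (n + 3)) k |
      ∃ c : k, (t : Matrix (Fin (n + 3)) (Fin (n + 3)) k) = Matrix.transvection 0 1 c}
    = T (Pi.single 0 1) (Pi.single 1 1) (e01 n) := by
  have : {t : Matrix.SpecialLinearGroup (Fin (n + 3)) k |
      ∃ c : k, (t : Matrix (Fin (n + 3)) (Fin (n + 3)) k) = Matrix.transvection 0 1 c}
      = ((T (Pi.single 0 1) (Pi.single 1 1) (e01 n) : Subgroup (Matrix.SpecialLinearGroup (Fin (n + 3)) k)) : Set (Matrix.SpecialLinearGroup (Fin (n + 3)) k)) := by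
    ext t
    simp only [Set.mem_setOf_eq, SetLike.mem_coe, mem_T, single_eq_tvM]
  rw [this, Subgroup.closure_eq]

theorem mem_S_iff (A : Subgroup (Matrix.SpecialLinearGroup (Fin (n + 3)) k)) :
    A ∈ Sset k n ↔ ∃ (u φ : Fin (n + 3) → k) (h : φ ⬝ᵥ u = 0), u ≠ 0 ∧ φ ≠ 0 ∧ A = T u φ h := by
  constructor
  · rintro ⟨g, rfl⟩
    rw [R0_eq]
    refine ⟨g.1 *ᵥ Pi.single 0 1, Pi.single 1 1 ᵥ* (g⁻¹).1, by rw [dot_conj]; exact e01 n,
      mulVec_ne_zero g (single_ne_zero n 0), vecMul_ne_zero g⁻¹ (single_ne_zero n 1), ?_⟩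
    exact T_conj _ _ _ g _
  · rintro ⟨u, φ, h, hu, hφ, rfl⟩
    obtain ⟨g, hg⟩ := lemmaA n u φ hu hφ h (tv u φ h) (tv_val u φ h)
    refine ⟨g, ?_⟩
    rw [R0_eq, T_conj _ _ _ g (by rw [dot_conj]; exact e01 n)]
    apply T_congr
    rw [single_eq_tvM, one_smul] at hg
    have hx : tv u φ h = g * (g⁻¹ * tv u φ h * g) * g⁻¹ := by group
    have := conj_val g _ _ _ hg
    rw [← hx, tv_val, tvM, tvM] at this
    exact add_left_cancel this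

theorem T_mem_S {u φ : Fin (n + 3) → k} (h : φ ⬝ᵥ u = 0) (hu : u ≠ 0) (hφ : φ ≠ 0) :
    T u φ h ∈ Sset k n := (mem_S_iff n _).mpr ⟨u, φ, h, hu, hφ, rfl⟩

theorem rootCommCase {u φ v ψ : Fin (n + 3) → k} (hφu : φ ⬝ᵥ u = 0) (hψv : ψ ⬝ᵥ v = 0)
    (hu : u ≠ 0) (hψ : ψ ≠ 0) (hα : φ ⬝ᵥ v ≠ 0) (hβ : ψ ⬝ᵥ u = 0) :
    Cfsg.RootCommutatorCase (Sset k n) (T u φ hφu) (T v ψ hψv) := by
  have hc := commutator_eq u φ v ψ hφu hψv hα hβ
  refine ⟨?_, ?_, ?_, ?_⟩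
  · rw [hc]; exact T_mem_S n hβ hu hψ
  · intro c hc' x hx
    rw [hc] at hc'
    exact central u φ v ψ hφu hψv hβ c hc' x hx
  · intro a ha ha1
    rw [hc]
    exact closure_left u φ v ψ hφu hψv hα hβ a ha ha1
  · intro b hb hb1
    rw [hc]
    exact closure_right u φ v ψ hφu hψv hα hβ b hb hb1

theorem pair_trichotomy {u φ v ψ : Fin (n + 3) → k} (hφu : φ ⬝ᵥ u = 0) (hψv : ψ ⬝ᵥ v = 0)
    (hu : u ≠ 0) (hφ : φ ≠ 0) (hv : v ≠ 0) (hψ : ψ ≠ 0) :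
    ⁅T u φ hφu, T v ψ hψv⁆ = ⊥ ∨ Cfsg.IsRankOnePair (T u φ hφu) (T v ψ hψv) ∨
      Cfsg.RootCommutatorCase (Sset k n) (T u φ hφu) (T v ψ hψv) := by
  by_cases hα : φ ⬝ᵥ v = 0
  · by_cases hβ : ψ ⬝ᵥ u = 0
    · exact Or.inl (comm_pair u φ v ψ hφu hψv hα hβ)
    · right; right
      apply rootCommutatorCase_symm
      exact rootCommCase n hψv hφu hv hφ hβ hα
  · by_cases hβ : ψ ⬝ᵥ u = 0
    · right; right
      exact rootCommCase n hφu hψv hu hψ hα hβ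
    · right; left
      exact rankOnePair u φ v ψ hφu hψv hα hβ hu hφ hv hψ

theorem rootSubgroupSet : Cfsg.IsRootSubgroupSet (Sset k n) := by
  refine ⟨?_, ?_, ?_, ?_, ?_⟩
  · intro A hA
    obtain ⟨u, φ, h, hu, hφ, rfl⟩ := (mem_S_iff n A).mp hA
    exact T_comm u φ h
  · intro A hA
    obtain ⟨u, φ, h, hu, hφ, rfl⟩ := (mem_S_iff n A).mp hA
    exact T_ne_bot h hu hφ
  · apply Cfsg.Agent.Lib.Helper5.eq_top_of_transvection_mem
    intro i j hij c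
    have hd : (Pi.single j 1 : Fin (n + 3) → k) ⬝ᵥ Pi.single i 1 = 0 := by
      rw [dot_single_single, if_neg hij]
    have hmem : Matrix.SpecialLinearGroup.transvection hij c ∈ T (Pi.single i 1) (Pi.single j 1) hd := by
      refine ⟨c, ?_⟩
      rw [← single_eq_tvM]
      rfl
    have hle : T (Pi.single i 1) (Pi.single j 1) hd ≤ ⨆ A ∈ Sset k n, A :=
      le_iSup₂_of_le (T (Pi.single i 1) (Pi.single j 1) hd)
        (T_mem_S n hd (single_ne_zero n i) (single_ne_zero n j)) le_rfl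
    exact hle hmem
  · intro A hA g
    obtain ⟨u, φ, h, hu, hφ, rfl⟩ := (mem_S_iff n A).mp hA
    rw [T_conj u φ h g (by rw [dot_conj]; exact h)]
    exact T_mem_S n _ (mulVec_ne_zero g hu) (vecMul_ne_zero g⁻¹ hφ)
  · intro A hA B hB
    obtain ⟨u, φ, h, hu, hφ, rfl⟩ := (mem_S_iff n A).mp hA
    obtain ⟨v, ψ, h', hv, hψ, rfl⟩ := (mem_S_iff n B).mp hB
    exact pair_trichotomy n h h' hu hφ hv hψ


theorem conjClass : Cfsg.IsConjClassOfSubgroups (Sset k n) := by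
  refine ⟨⟨_, ⟨1, rfl⟩⟩, ?_⟩
  rintro A ⟨gA, rfl⟩ B ⟨gB, rfl⟩
  refine ⟨gB * gA⁻¹, ?_⟩
  rw [conjBy_conjBy, inv_mul_cancel_right]

theorem e10 : (Pi.single 0 1 : Fin (n + 3) → k) ⬝ᵥ Pi.single 1 1 = 0 := by
  rw [dot_single_single, if_neg (h01 n).symm]

theorem e02 : (Pi.single 2 1 : Fin (n + 3) → k) ⬝ᵥ Pi.single 0 1 = 0 := by
  rw [dot_single_single, if_neg (h02 n)]

theorem e12 : (Pi.single 2 1 : Fin (n + 3) → k) ⬝ᵥ Pi.single 1 1 = 0 := by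
  rw [dot_single_single, if_neg (h12 n)]

theorem e11 (i : Fin (n + 3)) : (Pi.single i 1 : Fin (n + 3) → k) ⬝ᵥ Pi.single i 1 = 1 := by
  rw [dot_single_single, if_pos rfl]

theorem nondegenerate : Cfsg.IsNondegenerateRootSet (Sset k n) := by
  refine ⟨?_, ?_, ?_⟩
  · refine ⟨T (Pi.single 0 1) (Pi.single 1 1) (e01 n),
      T_mem_S n _ (single_ne_zero n 0) (single_ne_zero n 1),
      T (Pi.single 0 1) (Pi.single 2 1) (e02 n),
      T_mem_S n _ (single_ne_zero n 0) (single_ne_zero n 2), ?_, ?_⟩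
    · apply T_ne' _ _ _ _ _ _ (single_ne_zero n 0) (Pi.single 1 1)
      · rw [e11]; exact one_ne_zero
      · exact e12 n
    · exact comm_pair _ _ _ _ _ _ (e01 n) (e02 n)
  · refine ⟨T (Pi.single 0 1) (Pi.single 1 1) (e01 n),
      T_mem_S n _ (single_ne_zero n 0) (single_ne_zero n 1),
      T (Pi.single 1 1) (Pi.single 0 1) (e10 n),
      T_mem_S n _ (single_ne_zero n 1) (single_ne_zero n 0), ?_⟩
    apply rankOnePair
    · rw [e11]; exact one_ne_zero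
    · rw [e11]; exact one_ne_zero
    · exact single_ne_zero n 0
    · exact single_ne_zero n 1
    · exact single_ne_zero n 1
    · exact single_ne_zero n 0
  · refine ⟨T (Pi.single 0 1) (Pi.single 1 1) (e01 n),
      T_mem_S n _ (single_ne_zero n 0) (single_ne_zero n 1),
      T (Pi.single 1 1) (Pi.single 2 1) (e12 n),
      T_mem_S n _ (single_ne_zero n 1) (single_ne_zero n 2), ?_⟩
    apply rootCommCase n _ _ (single_ne_zero n 0) (single_ne_zero n 2)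
    · rw [e11]; exact one_ne_zero
    · exact e02 n


theorem connected : Cfsg.IsConnectedFamily (Cfsg.FAdj (Sset k n)) (Sset k n) := by
  intro A hA B hB
  obtain ⟨u, φ, hφu, hu, hφ, rfl⟩ := (mem_S_iff n A).mp hA
  obtain ⟨v, ψ, hψv, hv, hψ, rfl⟩ := (mem_S_iff n B).mp hB
  obtain ⟨w, hφw, hψw⟩ := exists_both hφ hψ
  obtain ⟨χ, hχw, hχu, hχv⟩ := exists_chi hu hv hφu hψv hφw hψw
  have hw : w ≠ 0 := by
    rintro rfl
    rw [dotProduct_zero] at hφw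
    exact hφw rfl
  have hχ : χ ≠ 0 := by
    rintro rfl
    rw [zero_dotProduct] at hχu
    exact hχu rfl
  have hC : T w χ hχw ∈ Sset k n := T_mem_S n hχw hw hχ
  have h1 : Cfsg.FAdj (Sset k n) (T u φ hφu) (T w χ hχw) :=
    ⟨hA, hC, rankOnePair u φ w χ hφu hχw hφw hχu hu hφ hw hχ⟩
  have h2 : Cfsg.FAdj (Sset k n) (T w χ hχw) (T v ψ hψv) :=
    ⟨hC, hB, rankOnePair w χ v ψ hχw hψv hχv hψw hw hχ hv hψ⟩
  exact Relation.ReflTransGen.tail (Relation.ReflTransGen.single h1) h2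

theorem kRoot : Cfsg.IsKRootSubgroupSet k (Sset k n) := by
  refine ⟨rootSubgroupSet n, ?_⟩
  intro A hA B hB hAB
  obtain ⟨u, φ, hφu, hu, hφ, rfl⟩ := (mem_S_iff n A).mp hA
  obtain ⟨v, ψ, hψv, hv, hψ, rfl⟩ := (mem_S_iff n B).mp hB
  obtain ⟨hα, hβ⟩ := alpha_beta_ne_zero u φ v ψ hφu hψv hu hφ hv hψ hAB
  exact psl2Pair u φ v ψ hφu hψv hα hβ

end main


/-- Let k be a field and n a natural number. In SL_{n+3}(k) (so in every dimension at least 3) the conjugates of the root subgroup of elementary transvections 1 + c E₁₂ (c ∈ k) — that is, the groups of transvections attached to an incident point–hyperplane pair — form a non-degenerate class of abstract k-root subgroups of SL_{n+3}(k) whose graph of rank one pairs is connected. -/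
theorem result (k : Type*) [Field k] (n : ℕ) :
    Cfsg.IsRootSubgroupClass {A : Subgroup (Matrix.SpecialLinearGroup (Fin (n + 3)) k) |
        ∃ g : Matrix.SpecialLinearGroup (Fin (n + 3)) k,
          A = Cfsg.conjBy (Subgroup.closure {t : Matrix.SpecialLinearGroup (Fin (n + 3)) k |
            ∃ c : k, (t : Matrix (Fin (n + 3)) (Fin (n + 3)) k) = Matrix.transvection 0 1 c}) g} ∧
    Cfsg.IsNondegenerateRootSet {A : Subgroup (Matrix.SpecialLinearGroup (Fin (n + 3)) k) |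
        ∃ g : Matrix.SpecialLinearGroup (Fin (n + 3)) k,
          A = Cfsg.conjBy (Subgroup.closure {t : Matrix.SpecialLinearGroup (Fin (n + 3)) k |
            ∃ c : k, (t : Matrix (Fin (n + 3)) (Fin (n + 3)) k) = Matrix.transvection 0 1 c}) g} ∧
    Cfsg.IsKRootSubgroupSet k {A : Subgroup (Matrix.SpecialLinearGroup (Fin (n + 3)) k) |
        ∃ g : Matrix.SpecialLinearGroup (Fin (n + 3)) k,
          A = Cfsg.conjBy (Subgroup.closure {t : Matrix.SpecialLinearGroup (Fin (n + 3)) k |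
            ∃ c : k, (t : Matrix (Fin (n + 3)) (Fin (n + 3)) k) = Matrix.transvection 0 1 c}) g} ∧
    Cfsg.IsConnectedFamily (Cfsg.FAdj {A : Subgroup (Matrix.SpecialLinearGroup (Fin (n + 3)) k) |
        ∃ g : Matrix.SpecialLinearGroup (Fin (n + 3)) k,
          A = Cfsg.conjBy (Subgroup.closure {t : Matrix.SpecialLinearGroup (Fin (n + 3)) k |
            ∃ c : k, (t : Matrix (Fin (n + 3)) (Fin (n + 3)) k) = Matrix.transvection 0 1 c}) g})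
      {A : Subgroup (Matrix.SpecialLinearGroup (Fin (n + 3)) k) |
        ∃ g : Matrix.SpecialLinearGroup (Fin (n + 3)) k,
          A = Cfsg.conjBy (Subgroup.closure {t : Matrix.SpecialLinearGroup (Fin (n + 3)) k |
            ∃ c : k, (t : Matrix (Fin (n + 3)) (Fin (n + 3)) k) = Matrix.transvection 0 1 c}) g} :=
  ⟨⟨rootSubgroupSet n, conjClass n⟩, nondegenerate n, kRoot n, connected n⟩

end Cfsg.Agent.S5043
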