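import Mathlib
import Cfsg.Statements.S2280
import Cfsg.Agent.S5043

set_option autoImplicit false
set_option linter.unusedSectionVars false
set_option linter.unusedVariables false
set_option linter.unusedSimpArgs false
open Matrix
open Cfsg

namespace Cfsg.Agent.S2280

open Cfsg.Agent.S5058 Cfsg.Agent.S5043

section basics
variable {K : Type*} [Field K] {ι : Type*} [Fintype ι] [DecidableEq ι]

theorem dot_e (i j : ι) :
    (Pi.single i 1 : ι → K) ⬝ᵥ Pi.single j 1 = if i = j then 1 else 0 := by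
  rw [single_dotProduct, one_mul, Pi.single_apply]

theorem dot_e_ne {i j : ι} (h : i ≠ j) : (Pi.single i 1 : ι → K) ⬝ᵥ Pi.single j 1 = 0 := by
  rw [dot_e, if_neg h]

theorem dot_e_self (i : ι) : (Pi.single i 1 : ι → K) ⬝ᵥ Pi.single i 1 = 1 := by
  rw [dot_e, if_pos rfl]

/-- `G` contains the whole root subgroup `X_{ij}`. -/
def Full (G : Subgroup (SpecialLinearGroup ι K)) (i j : ι) : Prop :=
  ∀ (c : K) (x : SpecialLinearGroup ι K), x.1 = tvM (c • Pi.single i 1) (Pi.single j 1) → x ∈ G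

theorem mem_of_comm (G : Subgroup (SpecialLinearGroup ι K)) (u φ v ψ : ι → K)
    (hφu : φ ⬝ᵥ u = 0) (hψv : ψ ⬝ᵥ v = 0) (hψu : ψ ⬝ᵥ u = 0) (hφv : φ ⬝ᵥ v = 1)
    (a b : SpecialLinearGroup ι K) (c c' : K) (ha : a.1 = tvM (c • u) φ)
    (hb : b.1 = tvM (c' • v) ψ) (haG : a ∈ G) (hbG : b ∈ G) (x : SpecialLinearGroup ι K)
    (hx : x.1 = tvM ((c * c') • u) ψ) : x ∈ G := by
  have hval := comm_val u φ v ψ hφu hψv hψu a b c c' ha hb
  have : x = a * b * a⁻¹ * b⁻¹ := by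
    apply Subtype.ext
    rw [hval, hx, hφv, mul_one]
  rw [this]
  exact G.mul_mem (G.mul_mem (G.mul_mem haG hbG) (G.inv_mem haG)) (G.inv_mem hbG)

theorem full_comm (G : Subgroup (SpecialLinearGroup ι K)) {i j k : ι} (hij : i ≠ j) (hjk : j ≠ k)
    (hik : i ≠ k) (h1 : Full G i j) (h2 : Full G j k) : Full G i k := by
  intro c x hx
  have ha0 : (Pi.single j 1 : ι → K) ⬝ᵥ (Pi.single i 1) = 0 := dot_e_ne hij.symm
  have hb0 : (Pi.single k 1 : ι → K) ⬝ᵥ (Pi.single j 1) = 0 := dot_e_ne hjk.symm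
  have hc0 : (Pi.single k 1 : ι → K) ⬝ᵥ (Pi.single i 1) = 0 := dot_e_ne hik.symm
  have ha0' : (Pi.single j 1 : ι → K) ⬝ᵥ (c • Pi.single i 1) = 0 := by
    rw [dotProduct_smul, ha0, smul_zero]
  have hb0' : (Pi.single k 1 : ι → K) ⬝ᵥ ((1 : K) • Pi.single j 1) = 0 := by
    rw [dotProduct_smul, hb0, smul_zero]
  have ha : tv (c • Pi.single i 1) (Pi.single j 1) ha0' ∈ G := h1 c _ rfl
  have hb : tv ((1 : K) • Pi.single j 1) (Pi.single k 1) hb0' ∈ G := h2 1 _ rfl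
  have hval := comm_val (Pi.single i 1) (Pi.single j 1) (Pi.single j 1) (Pi.single k 1) ha0 hb0 hc0
    _ _ c 1 (tv_val _ _ ha0') (tv_val _ _ hb0')
  have : x = tv (c • Pi.single i 1) (Pi.single j 1) ha0' * tv ((1 : K) • Pi.single j 1) (Pi.single k 1) hb0'
      * (tv (c • Pi.single i 1) (Pi.single j 1) ha0')⁻¹ * (tv ((1 : K) • Pi.single j 1) (Pi.single k 1) hb0')⁻¹ := by
    apply Subtype.ext
    rw [hval, hx, dot_e_self, mul_one, mul_one]
  rw [this]
  exact G.mul_mem (G.mul_mem (G.mul_mem ha hb) (G.inv_mem ha)) (G.inv_mem hb)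

theorem tvM_pow (c : K) (u φ : ι → K) (h : φ ⬝ᵥ u = 0) (n : ℕ) :
    (tvM (c • u) φ) ^ n = tvM (((n : K) * c) • u) φ := by
  induction n with
  | zero => simp [tvM]
  | succ n ih =>
    rw [pow_succ, ih, tvM_smul_mul _ _ _ _ h]
    congr 2
    push_cast
    ring

theorem pow_val (x : SpecialLinearGroup ι K) (c : K) (u φ : ι → K) (h : φ ⬝ᵥ u = 0)
    (hx : x.1 = tvM (c • u) φ) (n : ℕ) : (x ^ n).1 = tvM (((n : K) * c) • u) φ := by
  rw [Matrix.SpecialLinearGroup.coe_pow, hx, tvM_pow _ _ _ h]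

theorem tvM_smul_right (c : K) (u φ : ι → K) : tvM u (c • φ) = tvM (c • u) φ := by
  rw [tvM, tvM, vecMulVec_smul, smul_vecMulVec]

theorem single_ne_zero' (j : ι) : (Pi.single j 1 : ι → K) ≠ 0 := by
  intro h
  have := congrFun h j
  simp at this

end basics

section zmod
variable {p : ℕ} [Fact p.Prime] {ι : Type*} [Fintype ι] [DecidableEq ι]

theorem full_of_mem (G : Subgroup (SpecialLinearGroup ι (ZMod p))) {i j : ι} (hij : i ≠ j)
    (c₀ : ZMod p) (hc₀ : c₀ ≠ 0) (x₀ : SpecialLinearGroup ι (ZMod p)) (hx₀ : x₀ ∈ G)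
    (hval : x₀.1 = tvM (c₀ • Pi.single i 1) (Pi.single j 1)) : Full G i j := by
  intro c x hx
  have h0 : (Pi.single j 1 : ι → ZMod p) ⬝ᵥ Pi.single i 1 = 0 := dot_e_ne hij.symm
  have : x = x₀ ^ (c * c₀⁻¹).val := by
    apply Subtype.ext
    rw [pow_val x₀ c₀ _ _ h0 hval, hx, ZMod.natCast_zmod_val, mul_assoc, inv_mul_cancel₀ hc₀, mul_one]
  rw [this]
  exact G.pow_mem hx₀ _

end zmod

section lemmaA
variable {p : ℕ} [Fact p.Prime] {m : ℕ}

local notation "𝐞[" k ", " h "]" =>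
  (Pi.single (⟨k, h⟩ : Fin (m + 3)) (1 : ZMod p) : Fin (m + 3) → ZMod p)

theorem lemmaA (G : Subgroup (SpecialLinearGroup (Fin (m + 3)) (ZMod p)))
    (C τ : SpecialLinearGroup (Fin (m + 3)) (ZMod p))
    (hC : ∀ (l : ℕ) (hl : l + 1 < m + 3),
      C.1 *ᵥ 𝐞[l, by omega] = 𝐞[l + 1, hl])
    (hτ : τ.1 = tvM (𝐞[0, by omega]) (𝐞[m + 2, by omega]))
    (hCG : C ∈ G) (hτG : τ ∈ G) : G = ⊤ := by
  classical
  -- rows of C⁻¹
  set ρ : Fin (m + 3) → Fin (m + 3) → ZMod p := fun j => Pi.single j 1 ᵥ* (C⁻¹).1 with hρ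
  have hρC : ∀ j, ρ j ᵥ* C.1 = Pi.single j 1 := by
    intro j
    simp only [hρ]
    rw [Matrix.vecMul_vecMul, inv_val_mul, Matrix.vecMul_one]
  have hρent : ∀ (j : Fin (m + 3)) (l : ℕ) (hl : l + 1 < m + 3),
      ρ j ⟨l + 1, hl⟩ = if (j : ℕ) = l then 1 else 0 := by
    intro j l hl
    have h1 : ρ j ⟨l + 1, hl⟩ = ρ j ⬝ᵥ 𝐞[l + 1, hl] := by
      rw [dotProduct_single, mul_one]
    rw [h1, ← hC l hl, Matrix.dotProduct_mulVec, hρC j, dot_e]
    simp [Fin.ext_iff]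
  have hρform : ∀ (j : ℕ) (hj : j + 1 < m + 3),
      ρ ⟨j, by omega⟩ = 𝐞[j + 1, hj]
        + (ρ ⟨j, by omega⟩ ⟨0, by omega⟩) • 𝐞[0, by omega] := by
    intro j hj
    funext l
    obtain ⟨l, hl⟩ := l
    rcases Nat.eq_zero_or_pos l with rfl | hpos
    · simp [Fin.ext_iff]
    · obtain ⟨l', rfl⟩ : ∃ l', l = l' + 1 := ⟨l - 1, by omega⟩
      rw [hρent _ l' hl]
      simp [Fin.ext_iff, Pi.single_apply, eq_comm]
  have hρlast : ρ ⟨m + 2, by omega⟩
      = (ρ ⟨m + 2, by omega⟩ ⟨0, by omega⟩) • 𝐞[0, by omega] := by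
    funext l
    obtain ⟨l, hl⟩ := l
    rcases Nat.eq_zero_or_pos l with rfl | hpos
    · simp [Fin.ext_iff]
    · obtain ⟨l', rfl⟩ : ∃ l', l = l' + 1 := ⟨l - 1, by omega⟩
      rw [hρent _ l' hl]
      have : ¬ (m + 2 = l') := by omega
      simp [Fin.ext_iff, Pi.single_apply, this]
  have hκ : ρ ⟨m + 2, by omega⟩ ⟨0, by omega⟩ ≠ 0 := by
    intro h0
    rw [h0, zero_smul] at hρlast
    exact vecMul_ne_zero C⁻¹ (single_ne_zero' (K := ZMod p) (⟨m + 2, by omega⟩ : Fin (m + 3))) hρlast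
  -- Step 1
  have hF10 : Full G ⟨1, by omega⟩ ⟨0, by omega⟩ := by
    refine full_of_mem G (by simp [Fin.ext_iff]) _ hκ (C * τ * C⁻¹)
      (G.mul_mem (G.mul_mem hCG hτG) (G.inv_mem hCG)) ?_
    rw [conj_val C τ _ _ hτ, hC 0 (by omega), ← tvM_smul_right]
    congr 1
  -- Step 2
  have hQ : ∀ (k : ℕ) (hk : k + 1 < m + 3) (j : ℕ) (hj : j ≤ k),
      Full G ⟨k + 1, hk⟩ ⟨j, by omega⟩ := by
    intro k
    induction k with
    | zero =>
      intro hk j hj
      obtain rfl : j = 0 := by omega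
      exact hF10
    | succ k ih =>
      intro hk j hj
      have hk' : k + 1 < m + 3 := by omega
      have hFk := ih hk'
      have ha0 : (𝐞[k, by omega] : Fin (m + 3) → ZMod p)
          ⬝ᵥ ((1 : ZMod p) • 𝐞[k + 1, hk']) = 0 := by
        rw [dotProduct_smul, dot_e_ne (by simp [Fin.ext_iff]), smul_zero]
      have haG : tv ((1 : ZMod p) • 𝐞[k + 1, hk']) (𝐞[k, by omega]) ha0 ∈ G :=
        hFk k le_rfl 1 _ rfl
      obtain ⟨Y, hYG, hY⟩ : ∃ Y : SpecialLinearGroup (Fin (m + 3)) (ZMod p), Y ∈ G ∧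
          Y.1 = tvM ((1 : ZMod p) • 𝐞[k + 1 + 1, hk])
          (𝐞[k + 1, hk'] + (ρ ⟨k, by omega⟩ ⟨0, by omega⟩) • 𝐞[0, by omega]) := by
        refine ⟨_, G.mul_mem (G.mul_mem hCG haG) (G.inv_mem hCG), ?_⟩
        rw [conj_val C _ _ _ (tv_val _ _ ha0), Matrix.mulVec_smul, hC (k + 1) hk, ← hρform k hk']
      generalize ρ ⟨k, by omega⟩ ⟨0, by omega⟩ = κ at hY
      -- dot products
      have hφu : (𝐞[k + 1, hk'] + κ • 𝐞[0, by omega] : Fin (m + 3) → ZMod p)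
          ⬝ᵥ 𝐞[k + 1 + 1, hk] = 0 := by
        rw [add_dotProduct, smul_dotProduct, dot_e_ne (by simp [Fin.ext_iff]),
          dot_e_ne (by simp [Fin.ext_iff]), smul_zero, add_zero]
      have hφv : (𝐞[k + 1, hk'] + κ • 𝐞[0, by omega] : Fin (m + 3) → ZMod p)
          ⬝ᵥ 𝐞[k + 1, hk'] = 1 := by
        rw [add_dotProduct, smul_dotProduct, dot_e_self,
          dot_e_ne (by simp [Fin.ext_iff]), smul_zero, add_zero]
      have hlow : ∀ (j : ℕ) (hj : j ≤ k), Full G ⟨k + 1 + 1, hk⟩ ⟨j, by omega⟩ := by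
        intro j hj c x hx
        have hψv : (𝐞[j, by omega] : Fin (m + 3) → ZMod p)
            ⬝ᵥ 𝐞[k + 1, hk'] = 0 := dot_e_ne (by simp [Fin.ext_iff]; omega)
        have hψu : (𝐞[j, by omega] : Fin (m + 3) → ZMod p)
            ⬝ᵥ 𝐞[k + 1 + 1, hk] = 0 := dot_e_ne (by simp [Fin.ext_iff]; omega)
        have hb0 : (𝐞[j, by omega] : Fin (m + 3) → ZMod p)
            ⬝ᵥ (c • 𝐞[k + 1, hk']) = 0 := by
          rw [dotProduct_smul, hψv, smul_zero]
        have hbG : tv (c • 𝐞[k + 1, hk']) (𝐞[j, by omega]) hb0 ∈ G :=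
          hFk j hj c _ rfl
        exact mem_of_comm G _ _ _ _ hφu hψv hψu hφv Y _ 1 c hY (tv_val _ _ hb0) hYG hbG x
          (by rw [hx, one_mul])
      rcases (by omega : j ≤ k ∨ j = k + 1) with hjk | rfl
      · exact hlow j hjk
      · have hz0 : (𝐞[0, by omega] : Fin (m + 3) → ZMod p)
            ⬝ᵥ ((-κ) • 𝐞[k + 1 + 1, hk]) = 0 := by
          rw [dotProduct_smul, dot_e_ne (by simp [Fin.ext_iff]), smul_zero]
        have hzG : tv ((-κ) • 𝐞[k + 1 + 1, hk]) (𝐞[0, by omega]) hz0 ∈ G :=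
          hlow 0 (by omega) (-κ) _ rfl
        refine full_of_mem G (by simp [Fin.ext_iff]) 1 one_ne_zero
          (Y * tv ((-κ) • 𝐞[k + 1 + 1, hk]) (𝐞[0, by omega]) hz0)
          (G.mul_mem hYG hzG) ?_
        rw [Matrix.SpecialLinearGroup.coe_mul, hY, tv_val, tvM_mul, dotProduct_smul, hφu, smul_zero,
          zero_smul, add_zero, tvM, vecMulVec_add, vecMulVec_smul, smul_vecMulVec, smul_vecMulVec,
          smul_vecMulVec]
        module
  -- Step 3
  have hF0l : Full G ⟨0, by omega⟩ ⟨m + 2, by omega⟩ :=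
    full_of_mem G (by simp [Fin.ext_iff]) 1 one_ne_zero τ hτG (by rw [hτ, one_smul])
  have hFil : ∀ (i : ℕ) (hi : i < m + 2), Full G ⟨i, by omega⟩ ⟨m + 2, by omega⟩ := by
    intro i hi
    rcases Nat.eq_zero_or_pos i with rfl | hpos
    · exact hF0l
    · obtain ⟨i', rfl⟩ : ∃ i', i = i' + 1 := ⟨i - 1, by omega⟩
      exact full_comm G (j := ⟨0, by omega⟩) (by simp [Fin.ext_iff]) (by simp [Fin.ext_iff])
        (by simp [Fin.ext_iff]; omega) (hQ i' (by omega) 0 (by omega)) hF0l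
  have hFlj : ∀ (j : ℕ) (hj : j < m + 2), Full G ⟨m + 2, by omega⟩ ⟨j, by omega⟩ :=
    fun j hj => hQ (m + 1) (by omega) j (by omega)
  have hall : ∀ i j : Fin (m + 3), i ≠ j → Full G i j := by
    intro i j hij
    obtain ⟨i, hi⟩ := i
    obtain ⟨j, hj⟩ := j
    have hij' : i ≠ j := by
      intro h
      exact hij (Fin.ext h)
    by_cases hjl : j = m + 2
    · subst hjl
      exact hFil i (by omega)
    · by_cases hil : i = m + 2
      · subst hil
        exact hFlj j (by omega)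
      · exact full_comm G (j := ⟨m + 2, by omega⟩) (by simp [Fin.ext_iff]; omega)
          (by simp [Fin.ext_iff]; omega) (by simp [Fin.ext_iff]; omega)
          (hFil i (by omega)) (hFlj j (by omega))
  apply Cfsg.Agent.Lib.Helper5.eq_top_of_transvection_mem
  intro i j hij c
  exact hall i j hij c _ (single_eq_tvM i j c)

end lemmaA

section defs
variable (R : Type*) [CommRing R] (m : ℕ)

/-- the lower shift matrix -/
def LM : Matrix (Fin (m + 3)) (Fin (m + 3)) R :=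
  Matrix.of fun i j => if (i : ℕ) = j + 1 then 1 else 0

/-- the lower regular unipotent `1 + L` -/
def V0M : Matrix (Fin (m + 3)) (Fin (m + 3)) R := 1 + LM R m

theorem det_V0M : (V0M R m).det = 1 := by
  rw [Matrix.det_of_isLowerTriangular]
  · apply Finset.prod_eq_one
    intro i _
    simp [V0M, LM]
  · intro i j hij
    have h1 : i ≠ j := ne_of_lt hij
    have h2 : ¬ ((i : ℕ) = j + 1) := by
      have : (i : ℕ) < j := hij
      omega
    simp [V0M, LM, Matrix.one_apply, h1, h2]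

def V0 : SpecialLinearGroup (Fin (m + 3)) R := ⟨V0M R m, det_V0M R m⟩

variable {R m}

theorem LM_mulVec_succ (v : Fin (m + 3) → R) (i : ℕ) (hi : i + 1 < m + 3) :
    (LM R m *ᵥ v) ⟨i + 1, hi⟩ = v ⟨i, by omega⟩ := by
  rw [Matrix.mulVec, dotProduct, Finset.sum_eq_single (⟨i, by omega⟩ : Fin (m + 3))]
  · simp [LM]
  · intro b _ hb
    have : ¬ (i = (b : ℕ)) := fun h => hb (Fin.ext h.symm)
    simp [LM, this]
  · intro h
    exact absurd (Finset.mem_univ _) h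

theorem LM_mulVec_zero (v : Fin (m + 3) → R) :
    (LM R m *ᵥ v) ⟨0, by omega⟩ = 0 := by
  rw [Matrix.mulVec, dotProduct]
  apply Finset.sum_eq_zero
  intro b _
  simp [LM]

theorem V0M_mulVec_succ (v : Fin (m + 3) → R) (i : ℕ) (hi : i + 1 < m + 3) :
    (V0M R m *ᵥ v) ⟨i + 1, hi⟩ = v ⟨i + 1, hi⟩ + v ⟨i, by omega⟩ := by
  rw [V0M, Matrix.add_mulVec, Matrix.one_mulVec, Pi.add_apply, LM_mulVec_succ]

theorem V0M_mulVec_zero (v : Fin (m + 3) → R) :
    (V0M R m *ᵥ v) ⟨0, by omega⟩ = v ⟨0, by omega⟩ := by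
  rw [V0M, Matrix.add_mulVec, Matrix.one_mulVec, Pi.add_apply, LM_mulVec_zero, add_zero]

theorem V0M_mulVec_last :
    V0M R m *ᵥ Pi.single ⟨m + 2, by omega⟩ 1 = Pi.single ⟨m + 2, by omega⟩ 1 := by
  funext l
  obtain ⟨l, hl⟩ := l
  rcases Nat.eq_zero_or_pos l with rfl | hpos
  · rw [V0M_mulVec_zero]
  · obtain ⟨l', rfl⟩ : ∃ l', l = l' + 1 := ⟨l - 1, by omega⟩
    rw [V0M_mulVec_succ]
    have : ¬ (l' = m + 2) := by omega
    simp [Pi.single_apply, Fin.ext_iff, this]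

theorem single_vecMul_V0M (i : ℕ) (hi : i + 1 < m + 3) :
    (Pi.single ⟨i + 1, hi⟩ 1 : Fin (m + 3) → R) ᵥ* V0M R m
      = Pi.single ⟨i + 1, hi⟩ 1 + Pi.single ⟨i, by omega⟩ 1 := by
  rw [single_one_vecMul]
  funext l
  obtain ⟨l, hl⟩ := l
  simp only [Matrix.row, V0M, LM, Matrix.add_apply, Matrix.one_apply, Matrix.of_apply, Pi.add_apply,
    Pi.single_apply, Fin.ext_iff]
  by_cases h1 : i + 1 = l <;> by_cases h2 : i = l <;> simp [h1, h2, eq_comm] <;> omega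

/-- the Pascal matrix -/
def PM (R : Type*) [CommRing R] (m : ℕ) : Matrix (Fin (m + 3)) (Fin (m + 3)) R :=
  Matrix.of fun i k => ((Nat.choose k i : ℕ) : R)

theorem det_PM : (PM R m).det = 1 := by
  rw [Matrix.det_of_isUpperTriangular]
  · apply Finset.prod_eq_one
    intro i _
    simp [PM]
  · intro i j hij
    have : (j : ℕ) < i := hij
    simp [PM, Nat.choose_eq_zero_of_lt this]

def PP (R : Type*) [CommRing R] (m : ℕ) : SpecialLinearGroup (Fin (m + 3)) R := ⟨PM R m, det_PM⟩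

theorem PM_step (k : ℕ) (hk : k + 1 < m + 3) :
    V0M R m *ᵥ (PM R m *ᵥ Pi.single ⟨k, by omega⟩ 1) = PM R m *ᵥ Pi.single ⟨k + 1, hk⟩ 1 := by
  rw [mulVec_single_one, mulVec_single_one]
  funext l
  obtain ⟨l, hl⟩ := l
  rcases Nat.eq_zero_or_pos l with rfl | hpos
  · rw [V0M_mulVec_zero]
    simp [PM, Matrix.col]
  · obtain ⟨l', rfl⟩ : ∃ l', l = l' + 1 := ⟨l - 1, by omega⟩
    rw [V0M_mulVec_succ]
    simp only [PM, Matrix.col, Matrix.of_apply, Matrix.transpose_apply]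
    rw [Nat.choose_succ_succ, Nat.cast_add, add_comm]

theorem PM_mulVec_zero :
    PM R m *ᵥ Pi.single ⟨0, by omega⟩ 1 = Pi.single ⟨0, by omega⟩ 1 := by
  rw [mulVec_single_one]
  funext l
  obtain ⟨l, hl⟩ := l
  rcases Nat.eq_zero_or_pos l with rfl | hpos
  · simp [PM, Matrix.col]
  · obtain ⟨l', rfl⟩ : ∃ l', l = l' + 1 := ⟨l - 1, by omega⟩
    simp [PM, Matrix.col, Pi.single_apply, Fin.ext_iff]

theorem single_vecMul_PM :
    (Pi.single ⟨m + 2, by omega⟩ 1 : Fin (m + 3) → R) ᵥ* PM R m = Pi.single ⟨m + 2, by omega⟩ 1 := by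
  rw [single_one_vecMul]
  funext l
  obtain ⟨l, hl⟩ := l
  by_cases h : l = m + 2
  · subst h
    simp [PM, Matrix.row]
  · have : l < m + 2 := by omega
    simp [PM, Matrix.row, Pi.single_apply, Fin.ext_iff, h, Nat.choose_eq_zero_of_lt this]

end defs

section cor
variable {p : ℕ} [Fact p.Prime] {m : ℕ}

local notation "𝐞[" k ", " h "]" =>
  (Pi.single (⟨k, h⟩ : Fin (m + 3)) (1 : ZMod p) : Fin (m + 3) → ZMod p)

/-- `V₀ = 1 + L` and the highest root element generate `SL_n(𝔽_p)`. -/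
theorem corA (G : Subgroup (SpecialLinearGroup (Fin (m + 3)) (ZMod p)))
    (τ : SpecialLinearGroup (Fin (m + 3)) (ZMod p))
    (hτ : τ.1 = tvM 𝐞[0, by omega] 𝐞[m + 2, by omega])
    (hVG : V0 (ZMod p) m ∈ G) (hτG : τ ∈ G) : G = ⊤ := by
  set P := PP (ZMod p) m with hP
  have hG2 : G.comap (MulAut.conj P).toMonoidHom = ⊤ := by
    apply lemmaA _ (P⁻¹ * V0 (ZMod p) m * P) (P⁻¹ * τ * P)
    · intro l hl
      rw [Matrix.SpecialLinearGroup.coe_mul, Matrix.SpecialLinearGroup.coe_mul, ← Matrix.mulVec_mulVec,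
        ← Matrix.mulVec_mulVec]
      have := PM_step (R := ZMod p) (m := m) l hl
      change (P⁻¹).1 *ᵥ (V0M (ZMod p) m *ᵥ (PM (ZMod p) m *ᵥ 𝐞[l, by omega])) = _
      rw [this]
      change (P⁻¹).1 *ᵥ (P.1 *ᵥ _) = _
      rw [Matrix.mulVec_mulVec, inv_val_mul, Matrix.one_mulVec]
    · exact conj_val' P τ _ _ _ _ hτ PM_mulVec_zero single_vecMul_PM
    · rw [Subgroup.mem_comap]
      simp only [MulEquiv.coe_toMonoidHom, MulAut.conj_apply]
      have : P * (P⁻¹ * V0 (ZMod p) m * P) * P⁻¹ = V0 (ZMod p) m := by group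
      rw [this]
      exact hVG
    · rw [Subgroup.mem_comap]
      simp only [MulEquiv.coe_toMonoidHom, MulAut.conj_apply]
      have : P * (P⁻¹ * τ * P) * P⁻¹ = τ := by group
      rw [this]
      exact hτG
  apply le_antisymm le_top
  intro y _
  have : P⁻¹ * y * P ∈ G.comap (MulAut.conj P).toMonoidHom := by
    rw [hG2]; trivial
  rw [Subgroup.mem_comap] at this
  simp only [MulEquiv.coe_toMonoidHom, MulAut.conj_apply] at this
  have h2 : P * (P⁻¹ * y * P) * P⁻¹ = y := by group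
  rw [h2] at this
  exact this

end cor

section transfer

theorem tvM_map {K F : Type*} [Field K] [Field F] {ι : Type*} [Fintype ι] [DecidableEq ι]
    (f : K →+* F) (u φ : ι → K) :
    (tvM u φ).map f = tvM (fun i => f (u i)) (fun i => f (φ i)) := by
  ext i j
  simp only [tvM, Matrix.map_apply, Matrix.add_apply, Matrix.one_apply, vecMulVec_apply, map_add,
    map_mul]
  by_cases h : i = j <;> simp [h]

theorem map_smul_single {K F : Type*} [Field K] [Field F] {ι : Type*} [DecidableEq ι]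
    (f : K →+* F) (c : K) (a : ι) :
    (fun i => f ((c • (Pi.single a 1 : ι → K)) i)) = f c • (Pi.single a 1 : ι → F) := by
  funext l
  by_cases h : l = a <;> simp [Pi.single_apply, h]

theorem map_single {K F : Type*} [Field K] [Field F] {ι : Type*} [DecidableEq ι]
    (f : K →+* F) (a : ι) :
    (fun i => f ((Pi.single a 1 : ι → K) i)) = (Pi.single a 1 : ι → F) := by
  funext l
  by_cases h : l = a <;> simp [Pi.single_apply, h]

variable {F : Type*} [Field F] [Finite F] {m : ℕ}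

/-- `H` contains the root element `X_{ij}(b)`. -/
def Has (H : Subgroup (SpecialLinearGroup (Fin (m + 3)) F)) (b : F) (i j : Fin (m + 3)) : Prop :=
  ∀ x : SpecialLinearGroup (Fin (m + 3)) F,
    x.1 = tvM (b • Pi.single i 1) (Pi.single j 1) → x ∈ H

/-- `H` contains the root elements `X_{ij}(b)` for all positions. -/
def Good (H : Subgroup (SpecialLinearGroup (Fin (m + 3)) F)) (b : F) : Prop :=
  ∀ i j : Fin (m + 3), i ≠ j → Has H b i j

theorem lemmaT (H : Subgroup (SpecialLinearGroup (Fin (m + 3)) F))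
    (τ : SpecialLinearGroup (Fin (m + 3)) F)
    (hτ : τ.1 = tvM (Pi.single ⟨0, by omega⟩ 1) (Pi.single ⟨m + 2, by omega⟩ 1))
    (hV : V0 F m ∈ H) (hτH : τ ∈ H) : Good H 1 := by
  classical
  obtain ⟨p, hp⟩ := CharP.exists F
  have hpp : Fact p.Prime := ⟨CharP.char_is_prime F p⟩
  obtain ⟨φ, hφ⟩ : ∃ φ : SpecialLinearGroup (Fin (m + 3)) (ZMod p) →*
      SpecialLinearGroup (Fin (m + 3)) F, ∃ f : ZMod p →+* F, ∀ A, (φ A).1 = A.1.map f :=
    ⟨Matrix.SpecialLinearGroup.map (ZMod.castHom (dvd_refl p) F), ZMod.castHom (dvd_refl p) F,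
      fun A => rfl⟩
  obtain ⟨f, hf⟩ := hφ
  have h0 : (Pi.single ⟨m + 2, by omega⟩ 1 : Fin (m + 3) → ZMod p)
      ⬝ᵥ Pi.single ⟨0, by omega⟩ 1 = 0 := dot_e_ne (by simp [Fin.ext_iff])
  have hφV : φ (V0 (ZMod p) m) = V0 F m := by
    apply Subtype.ext
    rw [hf]
    ext i j
    simp only [V0, V0M, LM, Matrix.map_apply, Matrix.add_apply,
      Matrix.one_apply, Matrix.of_apply, map_add]
    by_cases h1 : i = j <;> by_cases h2 : (i : ℕ) = j + 1 <;> simp [h1, h2]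
  have hφτ : φ (tv _ _ h0) = τ := by
    apply Subtype.ext
    rw [hf, hτ, tv_val, tvM_map, map_single, map_single]
  have hG : H.comap φ = ⊤ := by
    apply corA (H.comap φ) (tv _ _ h0) (tv_val _ _ h0)
    · rw [Subgroup.mem_comap, hφV]
      exact hV
    · rw [Subgroup.mem_comap, hφτ]
      exact hτH
  intro i j hij x hx
  have hdot : (Pi.single j 1 : Fin (m + 3) → ZMod p) ⬝ᵥ ((1 : ZMod p) • Pi.single i 1) = 0 := by
    rw [dotProduct_smul, dot_e_ne hij.symm, smul_zero]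
  have hxeq : x = φ (tv _ _ hdot) := by
    apply Subtype.ext
    rw [hf, hx, tv_val, tvM_map, map_smul_single, map_single, map_one]
  rw [hxeq]
  have : tv _ _ hdot ∈ H.comap φ := by
    rw [hG]; trivial
  exact this

end transfer

section stepB
variable {F : Type*} [Field F] {m : ℕ}

local notation "𝐟[" k "]" => (Pi.single (k : Fin (m + 3)) (1 : F) : Fin (m + 3) → F)

theorem has_move_right (H : Subgroup (SpecialLinearGroup (Fin (m + 3)) F)) (hOne : Good H 1) {b : F}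
    {i j k : Fin (m + 3)} (hij : i ≠ j) (hjk : j ≠ k) (hik : i ≠ k) (h : Has H b i j) :
    Has H b i k := by
  intro x hx
  have ha0 : 𝐟[j] ⬝ᵥ (b • 𝐟[i]) = 0 := by rw [dotProduct_smul, dot_e_ne hij.symm, smul_zero]
  have hb0 : 𝐟[k] ⬝ᵥ ((1 : F) • 𝐟[j]) = 0 := by rw [dotProduct_smul, dot_e_ne hjk.symm, smul_zero]
  exact mem_of_comm H 𝐟[i] 𝐟[j] 𝐟[j] 𝐟[k] (dot_e_ne hij.symm) (dot_e_ne hjk.symm) (dot_e_ne hik.symm)
    (dot_e_self j) (tv _ _ ha0) (tv _ _ hb0) b 1 (tv_val _ _ ha0) (tv_val _ _ hb0) (h _ rfl)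
    (hOne j k hjk _ rfl) x (by rw [hx, mul_one])

theorem has_move_left (H : Subgroup (SpecialLinearGroup (Fin (m + 3)) F)) (hOne : Good H 1) {b : F}
    {i j k : Fin (m + 3)} (hki : k ≠ i) (hkj : k ≠ j) (hij : i ≠ j) (h : Has H b i j) :
    Has H b k j := by
  intro x hx
  have ha0 : 𝐟[i] ⬝ᵥ ((1 : F) • 𝐟[k]) = 0 := by rw [dotProduct_smul, dot_e_ne hki.symm, smul_zero]
  have hb0 : 𝐟[j] ⬝ᵥ (b • 𝐟[i]) = 0 := by rw [dotProduct_smul, dot_e_ne hij.symm, smul_zero]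
  exact mem_of_comm H 𝐟[k] 𝐟[i] 𝐟[i] 𝐟[j] (dot_e_ne hki.symm) (dot_e_ne hij.symm) (dot_e_ne hkj.symm)
    (dot_e_self i) (tv _ _ ha0) (tv _ _ hb0) 1 b (tv_val _ _ ha0) (tv_val _ _ hb0)
    (hOne k i hki _ rfl) (h _ rfl) x (by rw [hx, one_mul])

theorem exists_third (i j : Fin (m + 3)) : ∃ k : Fin (m + 3), k ≠ i ∧ k ≠ j := by
  by_contra hcon
  push Not at hcon
  have h0 := hcon ⟨0, by omega⟩
  have h1 := hcon ⟨1, by omega⟩
  have h2 := hcon ⟨2, by omega⟩
  simp only [ne_eq, Fin.ext_iff] at h0 h1 h2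
  omega

theorem good_of_has (H : Subgroup (SpecialLinearGroup (Fin (m + 3)) F)) (hOne : Good H 1) {b : F}
    {i₀ j₀ : Fin (m + 3)} (h₀ : i₀ ≠ j₀) (h : Has H b i₀ j₀) : Good H b := by
  intro i j hij
  by_cases hi : i = i₀
  · subst hi
    by_cases hj : j = j₀
    · subst hj; exact h
    · exact has_move_right H hOne h₀ (Ne.symm hj) hij h
  · by_cases hj : j = j₀
    · subst hj
      exact has_move_left H hOne hi hij h₀ h
    · by_cases hij₀ : i = j₀
      · subst hij₀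
        by_cases hji : j = i₀
        · subst hji
          obtain ⟨k, hk1, hk2⟩ := exists_third j i
          have s1 : Has H b j k := has_move_right H hOne h₀ hk2.symm hk1.symm h
          have s2 : Has H b i k := has_move_left H hOne hij hk2.symm hk1.symm s1
          exact has_move_right H hOne hk2.symm hk1 hij s2
        · have s1 : Has H b i₀ j := has_move_right H hOne h₀ (Ne.symm hj) (Ne.symm hji) h
          exact has_move_left H hOne hi hij (Ne.symm hji) s1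
      · have s1 : Has H b i j₀ := has_move_left H hOne hi hij₀ h₀ h
        exact has_move_right H hOne hij₀ (Ne.symm hj) hij s1

theorem good_mul (H : Subgroup (SpecialLinearGroup (Fin (m + 3)) F)) (hOne : Good H 1) {a b : F}
    (ha : Good H a) (hb : Good H b) : Good H (a * b) := by
  have h01 : (⟨0, by omega⟩ : Fin (m + 3)) ≠ ⟨1, by omega⟩ := by simp [Fin.ext_iff]
  have h12 : (⟨1, by omega⟩ : Fin (m + 3)) ≠ ⟨2, by omega⟩ := by simp [Fin.ext_iff]
  have h02 : (⟨0, by omega⟩ : Fin (m + 3)) ≠ ⟨2, by omega⟩ := by simp [Fin.ext_iff]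
  apply good_of_has H hOne h02
  intro x hx
  have ha0 : 𝐟[⟨1, by omega⟩] ⬝ᵥ (a • 𝐟[⟨0, by omega⟩]) = 0 := by
    rw [dotProduct_smul, dot_e_ne h01.symm, smul_zero]
  have hb0 : 𝐟[⟨2, by omega⟩] ⬝ᵥ (b • 𝐟[⟨1, by omega⟩]) = 0 := by
    rw [dotProduct_smul, dot_e_ne h12.symm, smul_zero]
  exact mem_of_comm H _ _ _ _ (dot_e_ne h01.symm) (dot_e_ne h12.symm) (dot_e_ne h02.symm)
    (dot_e_self _) (tv _ _ ha0) (tv _ _ hb0) a b (tv_val _ _ ha0) (tv_val _ _ hb0)
    (ha _ _ h01 _ rfl) (hb _ _ h12 _ rfl) x hx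

theorem lemmaB (H : Subgroup (SpecialLinearGroup (Fin (m + 3)) F)) (θ : F)
    (hθ : ∀ c : F, c ≠ 0 → ∃ k : ℕ, θ ^ k = c) (hOne : Good H 1)
    (U : SpecialLinearGroup (Fin (m + 3)) F) (hUH : U ∈ H)
    (hU0 : U.1 *ᵥ 𝐟[⟨0, by omega⟩] = 𝐟[⟨0, by omega⟩])
    (hU1 : 𝐟[⟨1, by omega⟩] ᵥ* U.1 = 𝐟[⟨1, by omega⟩] + θ • 𝐟[⟨2, by omega⟩]) : H = ⊤ := by
  have h01 : (⟨0, by omega⟩ : Fin (m + 3)) ≠ ⟨1, by omega⟩ := by simp [Fin.ext_iff]
  have h12 : (⟨1, by omega⟩ : Fin (m + 3)) ≠ ⟨2, by omega⟩ := by simp [Fin.ext_iff]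
  have h02 : (⟨0, by omega⟩ : Fin (m + 3)) ≠ ⟨2, by omega⟩ := by simp [Fin.ext_iff]
  have hx0 : 𝐟[⟨1, by omega⟩] ⬝ᵥ ((1 : F) • 𝐟[⟨0, by omega⟩]) = 0 := by
    rw [dotProduct_smul, dot_e_ne h01.symm, smul_zero]
  obtain ⟨x, hxH, hxv⟩ : ∃ x : SpecialLinearGroup (Fin (m + 3)) F, x ∈ H ∧
      x.1 = tvM ((1 : F) • 𝐟[⟨0, by omega⟩]) 𝐟[⟨1, by omega⟩] :=
    ⟨tv _ _ hx0, hOne _ _ h01 _ rfl, rfl⟩
  have hy : (U⁻¹ * x * U).1 = tvM ((1 : F) • 𝐟[⟨0, by omega⟩])
      (𝐟[⟨1, by omega⟩] + θ • 𝐟[⟨2, by omega⟩]) :=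
    conj_val' U x _ _ _ _ hxv (by rw [Matrix.mulVec_smul, hU0]) hU1
  have hyH : U⁻¹ * x * U ∈ H := H.mul_mem (H.mul_mem (H.inv_mem hUH) hxH) hUH
  have hxinv : (x⁻¹).1 = tvM (-((1 : F) • 𝐟[⟨0, by omega⟩])) 𝐟[⟨1, by omega⟩] := inv_val_of hx0 hxv
  have hz : (x⁻¹ * (U⁻¹ * x * U)).1 = tvM (θ • 𝐟[⟨0, by omega⟩]) 𝐟[⟨2, by omega⟩] := by
    rw [Matrix.SpecialLinearGroup.coe_mul, hxinv, hy, tvM_mul, dotProduct_smul, dot_e_ne h01.symm,
      smul_zero, zero_smul, add_zero]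
    simp only [tvM, one_smul, vecMulVec_add, vecMulVec_smul, smul_vecMulVec, neg_vecMulVec]
    abel
  have hθ02 : Has H θ ⟨0, by omega⟩ ⟨2, by omega⟩ := by
    intro x' hx'
    have : x' = x⁻¹ * (U⁻¹ * x * U) := Subtype.ext (by rw [hx', hz])
    rw [this]
    exact H.mul_mem (H.inv_mem hxH) hyH
  have hGθ : Good H θ := good_of_has H hOne h02 hθ02
  have hpow : ∀ k : ℕ, Good H (θ ^ k) := by
    intro k
    induction k with
    | zero => rw [pow_zero]; exact hOne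
    | succ k ih => rw [pow_succ]; exact good_mul H hOne ih hGθ
  apply Cfsg.Agent.Lib.Helper5.eq_top_of_transvection_mem
  intro i j hij c
  by_cases hc : c = 0
  · subst hc
    rw [Matrix.SpecialLinearGroup.transvection_coeff_zero]
    exact H.one_mem
  · obtain ⟨k, rfl⟩ := hθ c hc
    exact hpow k i j hij _ (single_eq_tvM i j _)

end stepB

section nilp
variable {R : Type*} [CommRing R] {m : ℕ}

theorem LM_mul_apply_succ (M : Matrix (Fin (m + 3)) (Fin (m + 3)) R) (i : ℕ) (hi : i + 1 < m + 3)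
    (j : Fin (m + 3)) : (LM R m * M) ⟨i + 1, hi⟩ j = M ⟨i, by omega⟩ j := by
  have := LM_mulVec_succ (fun l => M l j) i hi
  simpa [Matrix.mulVec, Matrix.mul_apply, dotProduct] using this

theorem LM_mul_apply_zero (M : Matrix (Fin (m + 3)) (Fin (m + 3)) R)
    (j : Fin (m + 3)) : (LM R m * M) ⟨0, by omega⟩ j = 0 := by
  have := LM_mulVec_zero (fun l => M l j)
  simpa [Matrix.mulVec, Matrix.mul_apply, dotProduct] using this

theorem LM_pow_apply (k : ℕ) (i j : Fin (m + 3)) :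
    ((LM R m) ^ k) i j = if (i : ℕ) = j + k then 1 else 0 := by
  induction k generalizing i j with
  | zero => simp [Matrix.one_apply, Fin.ext_iff]
  | succ k ih =>
    rw [pow_succ']
    obtain ⟨i, hi⟩ := i
    rcases Nat.eq_zero_or_pos i with rfl | hpos
    · rw [LM_mul_apply_zero]
      simp
    · obtain ⟨i', rfl⟩ : ∃ i', i = i' + 1 := ⟨i - 1, by omega⟩
      rw [LM_mul_apply_succ, ih]
      simp only []
      by_cases h : i' = j + k
      · rw [if_pos h, if_pos (by omega)]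
      · rw [if_neg h, if_neg (by omega)]

theorem LM_pow_top : (LM R m) ^ (m + 3) = 0 := by
  ext i j
  rw [LM_pow_apply, if_neg]
  · rfl
  · have := i.2
    omega

theorem LM_pow_ne [Nontrivial R] : (LM R m) ^ (m + 2) ≠ 0 := by
  intro h
  have := congrFun (congrFun h ⟨m + 2, by omega⟩) ⟨0, by omega⟩
  rw [LM_pow_apply] at this
  simp at this

theorem conj_pow' {ι : Type*} [Fintype ι] [DecidableEq ι] (A B X : Matrix ι ι R) (hAB : A * B = 1)
    (hBA : B * A = 1) (k : ℕ) : (A * X * B) ^ k = A * X ^ k * B := by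
  induction k with
  | zero => simp [hAB]
  | succ k ih =>
    rw [pow_succ, ih, pow_succ]
    calc A * X ^ k * B * (A * X * B) = A * X ^ k * (B * A) * X * B := by
          simp only [Matrix.mul_assoc]
      _ = A * (X ^ k * X) * B := by rw [hBA]; simp only [Matrix.mul_assoc, Matrix.one_mul]

end nilp

section final
variable {F : Type*} [Field F] {m : ℕ}

local notation "𝐟[" k ", " h "]" => (Pi.single (⟨k, h⟩ : Fin (m + 3)) (1 : F) : Fin (m + 3) → F)

/-- the reversal permutation matrix -/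
def wM (F : Type*) [Field F] (m : ℕ) : Matrix (Fin (m + 3)) (Fin (m + 3)) F :=
  Matrix.of fun i j => if (i : ℕ) + j = m + 2 then 1 else 0

theorem wM_mulVec_single (i j : ℕ) (hij : i + j = m + 2) :
    wM F m *ᵥ 𝐟[j, by omega] = 𝐟[i, by omega] := by
  rw [mulVec_single_one]
  funext l
  obtain ⟨l, hl⟩ := l
  simp only [wM, Matrix.col, Matrix.of_apply, Matrix.transpose_apply, Pi.single_apply, Fin.ext_iff]
  by_cases h : l + j = m + 2
  · rw [if_pos h, if_pos (by omega)]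
  · rw [if_neg h, if_neg (by omega)]

theorem single_vecMul_wM (i j : ℕ) (hij : i + j = m + 2) :
    𝐟[i, by omega] ᵥ* wM F m = 𝐟[j, by omega] := by
  rw [single_one_vecMul]
  funext l
  obtain ⟨l, hl⟩ := l
  simp only [wM, Matrix.row, Matrix.of_apply, Pi.single_apply, Fin.ext_iff]
  by_cases h : i + l = m + 2
  · rw [if_pos h, if_pos (by omega)]
  · rw [if_neg h, if_neg (by omega)]

theorem wM_mul_wM : wM F m * wM F m = 1 := by
  apply Matrix.ext_of_mulVec_single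
  intro j
  obtain ⟨j, hj⟩ := j
  rw [← Matrix.mulVec_mulVec, wM_mulVec_single (m + 2 - j) j (by omega),
    wM_mulVec_single j (m + 2 - j) (by omega), Matrix.one_mulVec]

variable (d : Fin (m + 3) → F)

def hM : Matrix (Fin (m + 3)) (Fin (m + 3)) F := wM F m * Matrix.diagonal d

def hinvM : Matrix (Fin (m + 3)) (Fin (m + 3)) F := Matrix.diagonal (fun i => (d i)⁻¹) * wM F m

theorem hM_mul_hinvM (hd : ∀ i, d i ≠ 0) : hM d * hinvM d = 1 := by
  rw [hM, hinvM, Matrix.mul_assoc, ← Matrix.mul_assoc (Matrix.diagonal d), Matrix.diagonal_mul_diagonal]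
  have : (fun i => d i * (d i)⁻¹) = fun _ => 1 := funext fun i => mul_inv_cancel₀ (hd i)
  rw [this, Matrix.diagonal_one, Matrix.one_mul, wM_mul_wM]

theorem hinvM_mul_hM (hd : ∀ i, d i ≠ 0) : hinvM d * hM d = 1 :=
  _root_.mul_eq_one_comm.mp (hM_mul_hinvM d hd)

theorem single_eq_smul (j : Fin (m + 3)) (c : F) :
    (Pi.single j c : Fin (m + 3) → F) = c • Pi.single j 1 := by
  rw [← Pi.single_smul, smul_eq_mul, mul_one]

/-- rows of `U = h⁻¹ V₀ h` -/
theorem row_U (hd : ∀ i, d i ≠ 0) (j j' : ℕ) (hj : j + j' = m + 1) :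
    𝐟[j, by omega] ᵥ* (hinvM d * V0M F m * hM d)
      = 𝐟[j, by omega] + ((d ⟨j, by omega⟩)⁻¹ * d ⟨j + 1, by omega⟩) • 𝐟[j + 1, by omega] := by
  rw [hinvM, hM, ← Matrix.vecMul_vecMul, ← Matrix.vecMul_vecMul, ← Matrix.vecMul_vecMul,
    ← Matrix.vecMul_vecMul, single_vecMul_diagonal, one_mul, single_eq_smul, Matrix.smul_vecMul,
    single_vecMul_wM j (j' + 1) (by omega), Matrix.smul_vecMul, single_vecMul_V0M j' (by omega),
    Matrix.smul_vecMul, Matrix.add_vecMul, single_vecMul_wM (j' + 1) j (by omega),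
    single_vecMul_wM j' (j + 1) (by omega), Matrix.smul_vecMul, Matrix.add_vecMul,
    single_vecMul_diagonal, single_vecMul_diagonal, one_mul, one_mul,
    single_eq_smul _ (d ⟨j, by omega⟩), single_eq_smul _ (d ⟨j + 1, by omega⟩), smul_add, smul_smul,
    smul_smul, inv_mul_cancel₀ (hd _), one_smul]

/-- column `0` of `U = h⁻¹ V₀ h` -/
theorem col_U (hd : ∀ i, d i ≠ 0) :
    (hinvM d * V0M F m * hM d) *ᵥ 𝐟[0, by omega] = 𝐟[0, by omega] := by
  rw [hinvM, hM, ← Matrix.mulVec_mulVec, ← Matrix.mulVec_mulVec, ← Matrix.mulVec_mulVec,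
    ← Matrix.mulVec_mulVec, diagonal_mulVec_single, mul_one, single_eq_smul, Matrix.mulVec_smul,
    wM_mulVec_single (m + 2) 0 (by omega), Matrix.mulVec_smul, V0M_mulVec_last, Matrix.mulVec_smul,
    wM_mulVec_single 0 (m + 2) (by omega), Matrix.mulVec_smul, diagonal_mulVec_single, mul_one,
    single_eq_smul, smul_smul, mul_inv_cancel₀ (hd _), one_smul]

theorem prod_d (a b : F) :
    ∏ i : Fin (m + 3), (if (i : ℕ) = 0 then a else if (i : ℕ) = 1 then b else 1) = a * b := by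
  rw [Fin.prod_univ_succ, Fin.prod_univ_succ]
  simp

theorem inv_val_eq (h : SpecialLinearGroup (Fin (m + 3)) F) (M : Matrix (Fin (m + 3)) (Fin (m + 3)) F)
    (hM : h.1 * M = 1) : (h⁻¹).1 = M := by
  calc (h⁻¹).1 = (h⁻¹).1 * (h.1 * M) := by rw [hM, Matrix.mul_one]
    _ = M := by rw [← Matrix.mul_assoc, inv_val_mul, Matrix.one_mul]

theorem main [Fintype F] : ∃ u g h : SpecialLinearGroup (Fin (m + 3)) F,
    (IsNilpotent ((u : Matrix (Fin (m + 3)) (Fin (m + 3)) F) - 1) ∧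
      ((u : Matrix (Fin (m + 3)) (Fin (m + 3)) F) - 1) ^ (m + 2) ≠ 0) ∧
    Subgroup.closure ({u, g * u * g⁻¹, h * u * h⁻¹} : Set (SpecialLinearGroup (Fin (m + 3)) F)) = ⊤ := by
  classical
  -- the generator θ
  obtain ⟨θu, hθu⟩ := IsCyclic.exists_monoid_generator (α := Fˣ)
  obtain ⟨θ, hθdef⟩ : ∃ θ : F, θ = (θu : F) := ⟨_, rfl⟩
  have hθ0 : θ ≠ 0 := by rw [hθdef]; exact θu.ne_zero
  have hθ : ∀ c : F, c ≠ 0 → ∃ k : ℕ, θ ^ k = c := by
    intro c hc
    obtain ⟨k, hk⟩ := (Submonoid.mem_powers_iff _ _).mp (hθu (Units.mk0 c hc))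
    refine ⟨k, ?_⟩
    have := congrArg Units.val hk
    rw [hθdef]
    simpa using this
  -- ε
  obtain ⟨ε, hεdef⟩ : ∃ ε : F, ε = (wM F m).det := ⟨_, rfl⟩
  have hε : ε ≠ 0 := by
    intro h
    have := congrArg Matrix.det (wM_mul_wM (F := F) (m := m))
    rw [Matrix.det_mul, Matrix.det_one, ← hεdef, h, mul_zero] at this
    exact zero_ne_one this
  -- d
  obtain ⟨d, hddef⟩ : ∃ d : Fin (m + 3) → F,
      d = fun i : Fin (m + 3) =>
        if (i : ℕ) = 0 then ε⁻¹ * θ else if (i : ℕ) = 1 then θ⁻¹ else 1 := ⟨_, rfl⟩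
  have hd : ∀ i, d i ≠ 0 := by
    intro i
    rw [hddef]
    simp only []
    split_ifs
    · exact mul_ne_zero (inv_ne_zero hε) hθ0
    · exact inv_ne_zero hθ0
    · exact one_ne_zero
  have hdet : (hM d).det = 1 := by
    rw [hM, Matrix.det_mul, Matrix.det_diagonal, ← hεdef, hddef, prod_d]
    field_simp
  obtain ⟨h, hhdef⟩ : ∃ h : SpecialLinearGroup (Fin (m + 3)) F, h.1 = hM d := ⟨⟨hM d, hdet⟩, rfl⟩
  have hhinv : (h⁻¹).1 = hinvM d := inv_val_eq h _ (by rw [hhdef]; exact hM_mul_hinvM d hd)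
  obtain ⟨U, hUdef⟩ : ∃ U : SpecialLinearGroup (Fin (m + 3)) F, U = h⁻¹ * V0 F m * h := ⟨_, rfl⟩
  have hUval : U.1 = hinvM d * V0M F m * hM d := by
    rw [hUdef, Matrix.SpecialLinearGroup.coe_mul, Matrix.SpecialLinearGroup.coe_mul, hhinv, hhdef]
    rfl
  have hU0 : U.1 *ᵥ 𝐟[0, by omega] = 𝐟[0, by omega] := by rw [hUval]; exact col_U d hd
  have hU1 : 𝐟[1, by omega] ᵥ* U.1 = 𝐟[1, by omega] + θ • 𝐟[2, by omega] := by
    rw [hUval, row_U d hd 1 m (by omega)]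
    congr 2
    rw [hddef]
    simp
  obtain ⟨μ, hμdef⟩ : ∃ μ : F, μ = (d ⟨m + 1, by omega⟩)⁻¹ * d ⟨m + 2, by omega⟩ := ⟨_, rfl⟩
  have hμ0 : μ ≠ 0 := by rw [hμdef]; exact mul_ne_zero (inv_ne_zero (hd _)) (hd _)
  have hUr : 𝐟[m + 1, by omega] ᵥ* U.1 = 𝐟[m + 1, by omega] + μ • 𝐟[m + 2, by omega] := by
    rw [hUval, hμdef]
    exact row_U d hd (m + 1) 0 (by omega)
  -- τ and g
  have hτ0 : 𝐟[m + 2, by omega] ⬝ᵥ 𝐟[0, by omega] = 0 := dot_e_ne (by simp [Fin.ext_iff])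
  obtain ⟨τ, hτdef⟩ : ∃ τ : SpecialLinearGroup (Fin (m + 3)) F, τ = tv _ _ hτ0 := ⟨_, rfl⟩
  have hτval : τ.1 = tvM 𝐟[0, by omega] 𝐟[m + 2, by omega] := by rw [hτdef]; rfl
  have hg0 : 𝐟[m + 1, by omega] ⬝ᵥ (μ⁻¹ • 𝐟[0, by omega]) = 0 := by
    rw [dotProduct_smul, dot_e_ne (by simp [Fin.ext_iff]), smul_zero]
  obtain ⟨g, hgdef⟩ : ∃ g : SpecialLinearGroup (Fin (m + 3)) F, g = tv _ _ hg0 := ⟨_, rfl⟩
  have hgval : g.1 = tvM (μ⁻¹ • 𝐟[0, by omega]) 𝐟[m + 1, by omega] := by rw [hgdef]; rfl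
  have hconj : (U⁻¹ * g * U).1 = tvM (μ⁻¹ • 𝐟[0, by omega])
      (𝐟[m + 1, by omega] + μ • 𝐟[m + 2, by omega]) :=
    conj_val' U g _ _ _ _ hgval (by rw [Matrix.mulVec_smul, hU0]) hUr
  have hkey : U⁻¹ * g * U = τ * g := by
    apply Subtype.ext
    rw [hconj, Matrix.SpecialLinearGroup.coe_mul, hτval, hgval, tvM_mul, dotProduct_smul,
      dot_e_ne (by simp [Fin.ext_iff]), smul_zero, zero_smul, add_zero]
    simp only [tvM, vecMulVec_add, vecMulVec_smul, smul_vecMulVec, smul_smul, inv_mul_cancel₀ hμ0,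
      mul_inv_cancel₀ hμ0, one_smul]
    abel
  have hgU : g * U * g⁻¹ = U * τ := by
    calc g * U * g⁻¹ = U * (U⁻¹ * g * U) * g⁻¹ := by group
      _ = U * (τ * g) * g⁻¹ := by rw [hkey]
      _ = U * τ := by group
  have hhU : h * U * h⁻¹ = V0 F m := by
    rw [hUdef]; group
  refine ⟨U, g, h, ⟨?_, ?_⟩, ?_⟩
  · refine ⟨m + 3, ?_⟩
    have : U.1 - 1 = hinvM d * LM F m * hM d := by
      rw [hUval, V0M, Matrix.mul_add, Matrix.add_mul, Matrix.mul_one, hinvM_mul_hM d hd, add_sub_cancel_left]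
    rw [this, conj_pow' _ _ _ (hinvM_mul_hM d hd) (hM_mul_hinvM d hd), LM_pow_top, Matrix.mul_zero,
      Matrix.zero_mul]
  · have : U.1 - 1 = hinvM d * LM F m * hM d := by
      rw [hUval, V0M, Matrix.mul_add, Matrix.add_mul, Matrix.mul_one, hinvM_mul_hM d hd, add_sub_cancel_left]
    rw [this, conj_pow' _ _ _ (hinvM_mul_hM d hd) (hM_mul_hinvM d hd)]
    intro h0
    apply LM_pow_ne (R := F) (m := m)
    calc (LM F m) ^ (m + 2) = (hM d * hinvM d) * (LM F m) ^ (m + 2) * (hM d * hinvM d) := by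
          rw [hM_mul_hinvM d hd, Matrix.one_mul, Matrix.mul_one]
      _ = hM d * (hinvM d * (LM F m) ^ (m + 2) * hM d) * hinvM d := by
          simp only [Matrix.mul_assoc]
      _ = 0 := by rw [h0, Matrix.mul_zero, Matrix.zero_mul]
  · -- generation
    set H := Subgroup.closure
      ({U, g * U * g⁻¹, h * U * h⁻¹} : Set (SpecialLinearGroup (Fin (m + 3)) F)) with hH
    have hUH : U ∈ H := Subgroup.subset_closure (by simp)
    have hgUH : g * U * g⁻¹ ∈ H := Subgroup.subset_closure (by simp)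
    have hhUH : h * U * h⁻¹ ∈ H := Subgroup.subset_closure (by simp)
    have hτH : τ ∈ H := by
      have : τ = U⁻¹ * (g * U * g⁻¹) := by rw [hgU]; group
      rw [this]
      exact H.mul_mem (H.inv_mem hUH) hgUH
    have hVH : V0 F m ∈ H := by rw [← hhU]; exact hhUH
    have hOne : Good H 1 := lemmaT H τ hτval hVH hτH
    exact lemmaB H θ hθ hOne U hUH hU0 hU1

end final

/-- Let F be a finite field and n ≥ 3. Then SL_n(F) is generated by three conjugate regular unipotent elements: there are u with u − 1 nilpotent and (u − 1)^(n−1) ≠ 0, and g, h, such that u, g u g⁻¹ and h u h⁻¹ generate SL_n(F). -/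
theorem result {F : Type*} [Field F] [Fintype F] (n : ℕ) (hn : 3 ≤ n) :
    ∃ u g h : Matrix.SpecialLinearGroup (Fin n) F, (IsNilpotent ((u : Matrix (Fin n) (Fin n) F) - 1) ∧ ((u : Matrix (Fin n) (Fin n) F) - 1) ^ (n - 1) ≠ 0) ∧
      Subgroup.closure ({u, g * u * g⁻¹, h * u * h⁻¹} : Set (Matrix.SpecialLinearGroup (Fin n) F)) = ⊤ := by
  obtain ⟨m, rfl⟩ : ∃ m, n = m + 3 := ⟨n - 3, by omega⟩
  exact main

end Cfsg.Agent.S2280
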