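import Cfsg.Statements.S2581
import Cfsg.Agent.Lib.Helper43.JTCentCount

set_option autoImplicit false
open Cfsg

namespace Cfsg.Agent.S2581

open Module Cfsg.Agent.Lib.Helper43 Cfsg.Agent.Lib.Helper99 Matrix

section arith

variable {t : ℕ} (d : Fin t → ℕ)

/-- the multiplicity of the block size `i` -/
def mult (i : ℕ) : ℕ := (Finset.univ.filter (fun k : Fin t => d k = i)).card

theorem sum_fiber (g : ℕ → ℕ) :
    ∑ k, g (d k) = ∑ i ∈ Finset.range (Finset.univ.sup d + 1), mult d i * g i := by
  have hmaps : ∀ k ∈ (Finset.univ : Finset (Fin t)), d k ∈ Finset.range (Finset.univ.sup d + 1) := by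
    intro k _
    rw [Finset.mem_range]
    have : d k ≤ Finset.univ.sup d := Finset.le_sup (f := d) (Finset.mem_univ k)
    omega
  rw [← Finset.sum_fiberwise_of_maps_to hmaps]
  apply Finset.sum_congr rfl
  intro i _
  have : ∀ k ∈ Finset.univ.filter (fun k : Fin t => d k = i), g (d k) = g i := by
    intro k hk
    rw [(Finset.mem_filter.1 hk).2]
  rw [Finset.sum_congr rfl this, Finset.sum_const, smul_eq_mul]
  rfl

theorem sum_fiber₂ (f : ℕ → ℕ → ℕ) :
    ∑ k, ∑ l, f (d k) (d l) = ∑ i ∈ Finset.range (Finset.univ.sup d + 1),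
      ∑ j ∈ Finset.range (Finset.univ.sup d + 1), mult d i * (mult d j * f i j) := by
  rw [sum_fiber d (fun x => ∑ l, f x (d l))]
  apply Finset.sum_congr rfl
  intro i _
  rw [sum_fiber d (fun y => f i y), Finset.mul_sum]

theorem exponent_identity (A : ℕ → ℕ) (hA : A 0 = 0) (n : ℕ) :
    ∑ i ∈ Finset.range n, ∑ j ∈ Finset.range n, A i * (A j * min j i) =
      2 * (∑ i ∈ Finset.range n, ∑ j ∈ Finset.range n, if i < j then i * A i * A j else 0) +
        ∑ i ∈ Finset.range n, (i - 1) * A i ^ 2 +
      ∑ i ∈ Finset.range n, ∑ j ∈ Finset.range n, A i * (A j * if i = j then 1 else 0) := by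
  have hsplit : ∀ i j : ℕ, A i * (A j * min j i) =
      (if i < j then i * A i * A j else 0) + (if j < i then j * A j * A i else 0) +
        (if i = j then i * A i * A i else 0) := by
    intro i j
    rcases lt_trichotomy i j with h | h | h
    · rw [if_pos h, if_neg (by omega), if_neg (by omega), min_eq_right (by omega)]
      ring
    · subst h
      rw [if_neg (lt_irrefl i), if_pos rfl, min_self]
      ring
    · rw [if_neg (by omega), if_pos h, if_neg (by omega), min_eq_left (by omega)]
      ring
  have h1 : ∑ i ∈ Finset.range n, ∑ j ∈ Finset.range n, A i * (A j * min j i) =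
      (∑ i ∈ Finset.range n, ∑ j ∈ Finset.range n, if i < j then i * A i * A j else 0) +
      (∑ i ∈ Finset.range n, ∑ j ∈ Finset.range n, if j < i then j * A j * A i else 0) +
      (∑ i ∈ Finset.range n, ∑ j ∈ Finset.range n, if i = j then i * A i * A i else 0) := by
    rw [← Finset.sum_add_distrib, ← Finset.sum_add_distrib]
    apply Finset.sum_congr rfl
    intro i _
    rw [← Finset.sum_add_distrib, ← Finset.sum_add_distrib]
    apply Finset.sum_congr rfl
    intro j _
    exact hsplit i j
  have h2 : (∑ i ∈ Finset.range n, ∑ j ∈ Finset.range n, if j < i then j * A j * A i else 0) =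
      ∑ i ∈ Finset.range n, ∑ j ∈ Finset.range n, if i < j then i * A i * A j else 0 :=
    Finset.sum_comm
  have h3 : (∑ i ∈ Finset.range n, ∑ j ∈ Finset.range n, if i = j then i * A i * A i else 0) =
      ∑ i ∈ Finset.range n, i * A i * A i := by
    apply Finset.sum_congr rfl
    intro i hi
    rw [Finset.sum_ite_eq, if_pos hi]
  have h4 : (∑ i ∈ Finset.range n, ∑ j ∈ Finset.range n, A i * (A j * if i = j then 1 else 0)) =
      ∑ i ∈ Finset.range n, A i * A i := by
    apply Finset.sum_congr rfl
    intro i hi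
    have : ∀ j ∈ Finset.range n, A i * (A j * if i = j then 1 else 0) =
        if i = j then A i * A i else 0 := by
      intro j _
      by_cases h : i = j
      · subst h
        simp
      · simp [h]
    rw [Finset.sum_congr rfl this, Finset.sum_ite_eq, if_pos hi]
  have h5 : ∑ i ∈ Finset.range n, i * A i * A i =
      ∑ i ∈ Finset.range n, (i - 1) * A i ^ 2 + ∑ i ∈ Finset.range n, A i * A i := by
    rw [← Finset.sum_add_distrib]
    apply Finset.sum_congr rfl
    intro i _
    rcases Nat.eq_zero_or_pos i with h | h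
    · subst h
      rw [hA]
      simp
    · obtain ⟨i', rfl⟩ : ∃ i', i = i' + 1 := ⟨i - 1, by omega⟩
      rw [Nat.add_sub_cancel]
      ring
  rw [h1, h2, h3, h4, h5]
  ring

theorem prod_fin_congr {n m : ℕ} (h : n = m) (f : ℕ → ℕ) :
    ∏ j : Fin n, f (j : ℕ) = ∏ j : Fin m, f (j : ℕ) := by
  subst h
  rfl

end arith

/-- Order of the centraliser in GL of a unipotent matrix of given Jordan type over the field with q elements: if the type has a_i blocks of size i (all block sizes at least 1), the invertible matrices commuting with it number q^γ · Π_i |GL_(a_i)(q)| with γ = 2 Σ_(i<j) i a_i a_j + Σ_i (i − 1) a_i² (a group of order q^γ extended by Π GL_(a_i)(q)). -/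
theorem result {F : Type*} [Field F] [Fintype F] {q : ℕ} (hF : Fintype.card F = q) {t : ℕ} (d : Fin t → ℕ) (hd : ∀ k, 1 ≤ d k) : Nat.card {g : GL ((k : Fin t) × Fin (d k)) F // (g : Matrix ((k : Fin t) × Fin (d k)) ((k : Fin t) × Fin (d k)) F) * Cfsg.jordanTypeMatrix d F = Cfsg.jordanTypeMatrix d F * (g : Matrix ((k : Fin t) × Fin (d k)) ((k : Fin t) × Fin (d k)) F)} = q ^ (2 * (∑ i ∈ Finset.range (Finset.univ.sup d + 1), ∑ j ∈ Finset.range (Finset.univ.sup d + 1), if i < j then i * (Finset.univ.filter (fun k : Fin t => d k = i)).card * (Finset.univ.filter (fun k : Fin t => d k = j)).card else 0) + ∑ i ∈ Finset.range (Finset.univ.sup d + 1), (i - 1) * (Finset.univ.filter (fun k : Fin t => d k = i)).card ^ 2) * ∏ i ∈ Finset.range (Finset.univ.sup d + 1), ∏ j : Fin ((Finset.univ.filter (fun k : Fin t => d k = i)).card), (q ^ (Finset.univ.filter (fun k : Fin t => d k = i)).card - q ^ (j : ℕ)) := by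
  rw [Nat.card_eq_of_bijective _ (toFam_bijective d hd), card_fam_units, finrank_centFam,
    finrank_eqPairs, Nat.card_eq_fintype_card, hF]
  have hcard : ∀ i : ℕ, Fintype.card {k : Fin t // d k = i} = mult d i := by
    intro i
    rw [Fintype.card_subtype]
    rfl
  have hA0 : mult d 0 = 0 := by
    unfold mult
    rw [Finset.card_eq_zero, Finset.filter_eq_empty_iff]
    intro k _ h
    have := hd k
    omega
  -- the exponent
  have hX := sum_fiber₂ d (fun x y => min y x)
  have hY := sum_fiber₂ d (fun x y => if x = y then 1 else 0)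
  have hexp := exponent_identity (mult d) hA0 (Finset.univ.sup d + 1)
  rw [hX, hY, hexp, Nat.add_sub_cancel, mul_comm]
  congr 1
  -- the product
  unfold supD
  rw [Fin.prod_univ_eq_prod_range (fun i => ∏ j : Fin (Fintype.card {k : Fin t // d k = i}),
    (q ^ Fintype.card {k : Fin t // d k = i} - q ^ (j : ℕ))) (Finset.univ.sup d + 1)]
  apply Finset.prod_congr rfl
  intro i _
  rw [hcard i]
  rfl

end Cfsg.Agent.S2581
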