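import Cfsg.Statements.S2809

set_option autoImplicit false
open Cfsg
open scoped commutatorElement

namespace Cfsg.Agent.S2809

variable {H : Type*} [Group H]

theorem iterCommutator_le (R L : Subgroup H) (hL : L ≤ Subgroup.normalizer (R : Set H)) (i : ℕ) :
    Cfsg.iterCommutator R L i ≤ R := by
  induction i with
  | zero => exact le_of_eq rfl
  | succ i ih =>
    show ⁅Cfsg.iterCommutator R L i, L⁆ ≤ R
    rw [Subgroup.commutator_le]
    intro r hr l hl
    have h1 : l * r⁻¹ * l⁻¹ ∈ R := by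
      have := hL hl
      rw [Subgroup.mem_normalizer_iff] at this
      exact (this r⁻¹).mp (inv_mem (ih hr))
    have : ⁅r, l⁆ = r * (l * r⁻¹ * l⁻¹) := by
      simp [commutatorElement_def, mul_assoc]
    rw [this]
    exact mul_mem (ih hr) h1

theorem conj_pow_eq {x s c : H} (h1 : x * s * x⁻¹ = s * c) (h2 : x * c * x⁻¹ = c) (m : ℕ) :
    x ^ m * s * (x ^ m)⁻¹ = s * c ^ m := by
  induction m with
  | zero => simp
  | succ m ih =>
    have h3 : x * c ^ m * x⁻¹ = c ^ m := by
      have : x * c ^ m * x⁻¹ = (x * c * x⁻¹) ^ m := by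
        simp [conj_pow]
      rw [this, h2]
    calc x ^ (m + 1) * s * (x ^ (m + 1))⁻¹
        = x * (x ^ m * s * (x ^ m)⁻¹) * x⁻¹ := by
          rw [pow_succ', mul_inv_rev]; group
      _ = x * (s * c ^ m) * x⁻¹ := by rw [ih]
      _ = (x * s * x⁻¹) * (x * c ^ m * x⁻¹) := by group
      _ = s * c * c ^ m := by rw [h1, h3]
      _ = s * c ^ (m + 1) := by rw [pow_succ', mul_assoc]

theorem eq_one_of_pow_coprime {p : ℕ} [Fact p.Prime] {c : H} {m j : ℕ} (hm : Nat.Coprime m p)
    (h1 : c ^ m = 1) (h2 : c ^ (p ^ j) = 1) : c = 1 := by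
  have d1 : orderOf c ∣ m := orderOf_dvd_of_pow_eq_one h1
  have d2 : orderOf c ∣ p ^ j := orderOf_dvd_of_pow_eq_one h2
  have hc : Nat.Coprime m (p ^ j) := Nat.Coprime.pow_right j hm
  have : orderOf c = 1 := Nat.eq_one_of_dvd_coprimes hc d1 d2
  exact orderOf_eq_one_iff.mp this

/-- A `p'`-element of `L` acting nilpotently on the `p`-group `R` centralizes it. -/
theorem centralizes_of_coprime {p : ℕ} [Fact p.Prime] (R : Subgroup H) (hR : IsPGroup p ↥R)
    (L : Subgroup H) (hL : L ≤ Subgroup.normalizer (R : Set H)) (n : ℕ)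
    (hn : Cfsg.iterCommutator R L n = ⊥) (x : H) (hx : x ∈ L) (m : ℕ) (hm : Nat.Coprime m p)
    (hxm : x ^ m = 1) :
    ∀ k : ℕ, k ≤ n → ∀ s ∈ Cfsg.iterCommutator R L (n - k), x * s * x⁻¹ = s := by
  intro k
  induction k with
  | zero =>
    intro _ s hs
    simp only [Nat.sub_zero, hn, Subgroup.mem_bot] at hs
    subst hs; simp
  | succ k ih =>
    intro hk s hs
    have hk' : k ≤ n := Nat.le_of_succ_le hk
    have hidx : n - (k + 1) + 1 = n - k := by omega
    -- c = s⁻¹ * (x s x⁻¹) = ⁅s⁻¹, x⁆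
    set c := ⁅s⁻¹, x⁆ with hc
    have hcmem : c ∈ Cfsg.iterCommutator R L (n - k) := by
      rw [← hidx]
      show c ∈ ⁅Cfsg.iterCommutator R L (n - (k + 1)), L⁆
      exact Subgroup.commutator_mem_commutator (inv_mem hs) hx
    have h1 : x * s * x⁻¹ = s * c := by
      rw [hc, commutatorElement_def]; group
    have h2 : x * c * x⁻¹ = c := ih hk' c hcmem
    have h3 := conj_pow_eq h1 h2 m
    rw [hxm] at h3
    simp only [one_mul, inv_one, mul_one] at h3
    have hcm : c ^ m = 1 := by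
      have : s * 1 = s * c ^ m := by rw [mul_one]; exact h3
      exact (mul_left_cancel this).symm
    have hcR : c ∈ R := iterCommutator_le R L hL _ hcmem
    obtain ⟨j, hj⟩ := hR ⟨c, hcR⟩
    have hj' : c ^ (p ^ j) = 1 := by
      have := congrArg Subtype.val hj
      simpa using this
    have : c = 1 := eq_one_of_pow_coprime hm hcm hj'
    rw [h1, this, mul_one]

/-- Let H be a finite group, p a prime, R a p-subgroup of H with C_H(R) ≤ R, and L a subgroup of N_H(R) acting nilpotently on R (some iterated commutator [R, L, …, L] is trivial). Then L is a p-group. -/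
theorem result {H : Type*} [Group H] [Finite H] {p : ℕ} [Fact p.Prime] (R : Subgroup H) (hR : IsPGroup p ↥R) (hC : Subgroup.centralizer (R : Set H) ≤ R) (L : Subgroup H) (hL : L ≤ Subgroup.normalizer (R : Set H)) (hnil : ∃ n : ℕ, Cfsg.iterCommutator R L n = ⊥) : IsPGroup p ↥L := by
  obtain ⟨n, hn⟩ := hnil
  have hp : p.Prime := Fact.out
  intro ⟨y, hy⟩
  have hpos : orderOf y ≠ 0 := (orderOf_pos y).ne'
  obtain ⟨k, m, hmp, hkm⟩ := Nat.exists_eq_pow_mul_and_not_dvd hpos p hp.ne_one
  have hm : Nat.Coprime m p := (Nat.Coprime.symm ((Nat.Prime.coprime_iff_not_dvd hp).mpr hmp))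
  set x := y ^ (p ^ k) with hx
  have hxL : x ∈ L := pow_mem hy _
  have hxm : x ^ m = 1 := by
    rw [hx, ← pow_mul, ← hkm, pow_orderOf_eq_one]
  have hcent := centralizes_of_coprime R hR L hL n hn x hxL m hm hxm n le_rfl
  simp only [Nat.sub_self] at hcent
  have hxC : x ∈ Subgroup.centralizer (R : Set H) := by
    rw [Subgroup.mem_centralizer_iff]
    intro r hr
    have := hcent r hr
    -- x * r * x⁻¹ = r → r * x = x * r
    calc r * x = (x * r * x⁻¹) * x := by rw [this]
      _ = x * r := by group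
  have hxR : x ∈ R := hC hxC
  obtain ⟨j, hj⟩ := hR ⟨x, hxR⟩
  have hj' : x ^ (p ^ j) = 1 := by
    have := congrArg Subtype.val hj
    simpa using this
  have hx1 : x = 1 := eq_one_of_pow_coprime hm hxm hj'
  refine ⟨k, ?_⟩
  apply Subtype.ext
  simpa [hx] using hx1

end Cfsg.Agent.S2809
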