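import Cfsg.Statements.S2845
import Cfsg.Agent.Lib.Helper47.Large2

set_option autoImplicit false
open Cfsg

namespace Cfsg.Agent.S2845

/-- Let Q be a nontrivial large p-subgroup of the finite group H. Then for every subgroup L ≥ Q with O_p(L) ≠ 1, C_H(O_p(L)) is a p-group and L has characteristic p, and either the weak closure L° of Q in L equals Q or C_H(L°) = 1; for every subgroup R of H containing a Sylow p-subgroup of H with O_p(R) ≠ 1, C_H(O_p(R)) ≤ O_p(R); and H has parabolic characteristic p. -/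
theorem result {H : Type*} [Group H] [Finite H] {p : ℕ} [Fact p.Prime] (Q : Subgroup H) (hQp : IsPGroup p ↥Q) (hQ1 : Q ≠ ⊥) (hL : Cfsg.IsLarge Q) : (∀ L : Subgroup H, Q ≤ L → Cfsg.pCore p ↥L ≠ ⊥ → IsPGroup p ↥(Subgroup.centralizer (((Cfsg.pCoreOf p L) : Subgroup H) : Set H)) ∧ Subgroup.centralizer (Cfsg.pCore p ↥L : Set ↥L) ≤ Cfsg.pCore p ↥L ∧ (Cfsg.weakClosure Q L = Q ∨ Subgroup.centralizer (((Cfsg.weakClosure Q L) : Subgroup H) : Set H) = ⊥)) ∧ (∀ R : Subgroup H, Cfsg.IsParabolic p R → Cfsg.pCore p ↥R ≠ ⊥ → Subgroup.centralizer (((Cfsg.pCoreOf p R) : Subgroup H) : Set H) ≤ (Cfsg.pCoreOf p R)) ∧ Cfsg.IsOfParabolicCharacteristic p H := by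
  have part2 : ∀ R : Subgroup H, Cfsg.IsParabolic p R → Cfsg.pCore p ↥R ≠ ⊥ →
      Subgroup.centralizer (((Cfsg.pCoreOf p R) : Subgroup H) : Set H) ≤ (Cfsg.pCoreOf p R) := by
    rintro R ⟨T, hTR⟩ hne
    have hP1 : Cfsg.pCoreOf p R ≠ ⊥ := fun h =>
      hne ((Cfsg.Agent.Lib.Helper47.pCoreOf_eq_bot_iff p R).mp h)
    obtain ⟨h, hh⟩ := Cfsg.Agent.Lib.Helper47.exists_conj_le_sylow hQp T
    set Q' := Q.map (MulAut.conj h).toMonoidHom with hQ'
    have hQ'p : IsPGroup p ↥Q' := Cfsg.Agent.Lib.Helper47.isPGroup_map_conj hQp h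
    have hQ'L : Cfsg.IsLarge Q' := Cfsg.Agent.Lib.Helper47.isLarge_map_conj hL h
    have hQ'R : Q' ≤ R := hh.trans hTR
    set D := Subgroup.centralizer (((Cfsg.pCoreOf p R) : Subgroup H) : Set H) with hD
    have hDp : IsPGroup p ↥D :=
      Cfsg.Agent.Lib.Helper47.large_centralizer_pCoreOf_isPGroup hQ'p hQ'L hQ'R hP1
    have hRD : R ≤ Subgroup.normalizer (D : Set H) :=
      (Cfsg.Agent.Lib.Helper47.le_normalizer_pCoreOf p R).trans
        (Cfsg.Agent.Lib.Helper47.normalizer_le_normalizer_centralizer _)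
    have hDT : IsPGroup p ↥(D ⊔ (T : Subgroup H)) :=
      hDp.to_sup_of_normal_left' T.isPGroup' (hTR.trans hRD)
    have hDT' : D ⊔ (T : Subgroup H) = T := T.is_maximal' hDT le_sup_right
    have hDR : D ≤ R := (le_sup_left.trans hDT'.le).trans hTR
    have := Cfsg.Agent.Lib.Helper47.large_charp hQ'p hQ'L hQ'R hP1
    exact (le_inf hDR le_rfl).trans this
  refine ⟨?_, part2, ?_⟩
  · intro L hQL hne
    have hP1 : Cfsg.pCoreOf p L ≠ ⊥ := fun h =>
      hne ((Cfsg.Agent.Lib.Helper47.pCoreOf_eq_bot_iff p L).mp h)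
    refine ⟨Cfsg.Agent.Lib.Helper47.large_centralizer_pCoreOf_isPGroup hQp hL hQL hP1,
      Cfsg.Agent.Lib.Helper47.charp_of_inf_centralizer_pCoreOf_le L
        (Cfsg.Agent.Lib.Helper47.large_charp hQp hL hQL hP1), ?_⟩
    have hQ1L : Q.map (MulAut.conj (1 : H)).toMonoidHom ≤ L := by
      rw [Cfsg.Agent.Lib.Helper47.map_conj_one]; exact hQL
    have hQwc : Q ≤ Cfsg.weakClosure Q L := by
      unfold Cfsg.weakClosure
      refine le_iSup_of_le ⟨1, hQ1L⟩ ?_
      rw [Cfsg.Agent.Lib.Helper47.map_conj_one]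
    by_cases hall : ∀ g : H, Q.map (MulAut.conj g).toMonoidHom ≤ L →
        Q.map (MulAut.conj g).toMonoidHom = Q
    · left
      apply le_antisymm _ hQwc
      unfold Cfsg.weakClosure
      exact iSup_le fun g => (hall g g.2).le
    · right
      push Not at hall
      obtain ⟨g, hgL, hgne⟩ := hall
      have hgN : g ∉ Subgroup.normalizer (Q : Set H) := fun h =>
        hgne (Cfsg.Agent.Lib.Helper47.map_conj_eq_iff_mem_normalizer.mpr h)
      have h1 := Cfsg.Agent.Lib.Helper47.large_centralizer_inf hQp hQ1 hL hgN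
      have hQgwc : Q.map (MulAut.conj g).toMonoidHom ≤ Cfsg.weakClosure Q L := by
        unfold Cfsg.weakClosure
        exact le_iSup (fun g : {g : H // Q.map (MulAut.conj g).toMonoidHom ≤ L} =>
          Q.map (MulAut.conj (g : H)).toMonoidHom) ⟨g, hgL⟩
      rw [eq_bot_iff, ← h1]
      exact le_inf (Subgroup.centralizer_le hQwc) (Subgroup.centralizer_le hQgwc)
  · intro R' hR'p hR'1 hpar
    set N := Subgroup.normalizer (R' : Set H) with hN
    have hR'N : R' ≤ Cfsg.pCoreOf p N :=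
      Cfsg.Agent.Lib.Helper47.le_pCoreOf Subgroup.le_normalizer le_rfl hR'p
    have hne : Cfsg.pCore p ↥N ≠ ⊥ := by
      intro h
      have := (Cfsg.Agent.Lib.Helper47.pCoreOf_eq_bot_iff p N).mpr h
      rw [this] at hR'N
      exact hR'1 (le_bot_iff.mp hR'N)
    exact Cfsg.Agent.Lib.Helper47.charp_of_inf_centralizer_pCoreOf_le N
      (inf_le_right.trans (part2 N hpar hne))

end Cfsg.Agent.S2845
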