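import Cfsg.Statements.S0292
import Cfsg.Agent.Lib.Helper37.POmegaCard
import Cfsg.Agent.Lib.Helper37.OmegaRank
import Cfsg.Agent.Lib.Helper43.OrthCardForms

set_option autoImplicit false
open Cfsg

namespace Cfsg.Agent.S0292

open Cfsg.Agent.Lib.Helper37 Cfsg.Agent.Lib.Helper8 Cfsg.Agent.Lib.Helper43

theorem odd_hypFam (m : ℕ) (F : Type*) [Field F] :
    HypFam (oddForm m F) m (fun i => Pi.single (Sum.inr (Sum.inl i)) 1)
      (fun i => Pi.single (Sum.inr (Sum.inr i)) 1) :=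
  let h := odd_family m F
  ⟨h.qe, h.qf, h.ee, h.ff, h.ef⟩

/-- 2 |PΩ_{2m+1}(q)| = q^(m^2) prod_{i=1}^{m} (q^(2i) - 1), for q odd and m at least 3 (type B_m). -/
theorem result {F : Type*} [Field F] [Fintype F] {q : ℕ} (hF : Fintype.card F = q) (hodd : Odd q) (m : ℕ) (hm : 3 ≤ m) : 2 * Nat.card (Cfsg.POmega F (Cfsg.quadFormOdd m F)) = q ^ (m ^ 2) * ∏ i ∈ Finset.range m, (q ^ (2 * (i + 1)) - 1) := by
  have h2 : (2 : F) ≠ 0 := by
    intro h
    have := two_eq_zero_iff_even_card.mp h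
    rw [hF] at this
    exact (Nat.not_even_iff_odd.mpr hodd) this
  have hO := card_isometryGroup_odd m F h2
  rw [hF, mul_assoc] at hO
  rw [oddForm_coe] at hO ⊢
  have hnd : (QuadraticMap.polarBilin (oddForm m F)).Nondegenerate :=
    (odd_family m F).nondegenerate (sq_nondegenerate F h2)
  obtain ⟨-, -, hC⟩ := card_pomega_generic (oddForm m F) hnd
    (odd_hypFam m F) hm (by simp; omega) _ hO
  apply hC h2
  rintro ⟨g, hg, hgm⟩
  have hdet := det_eq_one_of_mem_omega (⇑(oddForm m F)) ⟨g, hg⟩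
  simp only at hdet
  rw [hgm, Matrix.det_neg, Matrix.det_one, mul_one] at hdet
  have hcard : Fintype.card (Unit ⊕ (Fin m ⊕ Fin m)) = 2 * m + 1 := by
    simp; ring
  rw [hcard, pow_succ, pow_mul] at hdet
  have : (-1 : F) = 1 := by simpa using hdet
  apply h2
  linear_combination -this

end Cfsg.Agent.S0292
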