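import Cfsg.Statements.S1059
import Cfsg.Agent.Lib.Helper36.ChevOrder
import Cfsg.Agent.Lib.Helper36.ChevPoinG2

set_option autoImplicit false
set_option maxHeartbeats 4000000
set_option maxRecDepth 100000
open Cfsg

namespace Cfsg.Agent.S1059

open Cfsg.Agent.Lib.Helper36 Cfsg.Agent.Lib.Helper18 Cfsg.Lie

/-- `|G₂(q)| = q⁶ (q² - 1)(q⁶ - 1)`. -/
theorem result {F : Type*} [Field F] [Fintype F] {q : ℕ} (hq : Fintype.card F = q) : Nat.card ↥(Cfsg.Lie.chevG2.group F) = q ^ 6 * (q ^ 2 - 1) * (q ^ 6 - 1) := by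
  have hq0 : 0 < q := hq ▸ Fintype.card_pos
  have hH := Cfsg.Agent.S1035.result hq (chevG2, 1) (by simp)
  have hP := PoinG2.poin_univ q hq0
  have h := order_formula chevG2 PoinG2.hD F 2 rfl CoxG2.M CoxG2.A CoxG2.hA PoinG2.hAc PoinG2.finW
    CoxG2.rho_ker Cfsg.Agent.S1039.bG2 q hq (1) 6 _ (by decide) hH hP
  rw [one_mul] at h
  rw [h]
  simp only [PoinG2.exps0, PoinG2.exps1, List.map_cons, List.map_nil, List.sum_cons, List.sum_nil, pow_zero,
    pow_one]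
  have h1 : 1 ≤ q := hq0
  have h2 : 1 ≤ q ^ 2 := Nat.one_le_pow _ _ hq0
  have h6 : 1 ≤ q ^ 6 := Nat.one_le_pow _ _ hq0
  apply Nat.cast_injective (R := ℤ)
  push_cast [Nat.cast_sub h1, Nat.cast_sub h2, Nat.cast_sub h6]
  ring

end Cfsg.Agent.S1059
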