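import Cfsg.Statements.S1063
import Cfsg.Agent.Lib.Helper36.ChevOrder
import Cfsg.Agent.Lib.Helper36.ChevPoinE6

set_option autoImplicit false
set_option maxHeartbeats 4000000
set_option maxRecDepth 100000
open Cfsg

namespace Cfsg.Agent.S1063

open Cfsg.Agent.Lib.Helper36 Cfsg.Agent.Lib.Helper18 Cfsg.Lie

/-- `gcd(3, q-1) · |E₆(q)| = q³⁶ (q² - 1)(q⁵ - 1)(q⁶ - 1)(q⁸ - 1)(q⁹ - 1)(q¹² - 1)`. -/
theorem result {F : Type*} [Field F] [Fintype F] {q : ℕ} (hq : Fintype.card F = q) : Nat.gcd 3 (q - 1) * Nat.card ↥(Cfsg.Lie.chevE6.group F) = q ^ 36 * (q ^ 2 - 1) * (q ^ 5 - 1) * (q ^ 6 - 1) * (q ^ 8 - 1) * (q ^ 9 - 1) * (q ^ 12 - 1) := by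
  have hq0 : 0 < q := hq ▸ Fintype.card_pos
  have hH := Cfsg.Agent.S1035.result hq (chevE6, Nat.gcd 3 (q - 1)) (by simp)
  have hP := PoinE6.poin_univ q hq0
  have h := order_formula chevE6 PoinE6.hD F 6 rfl CoxE6.M CoxE6.A CoxE6.hA PoinE6.hAc PoinE6.finW
    CoxE6.rho_ker Cfsg.Agent.S1039.bE6 q hq (Nat.gcd 3 (q - 1)) 36 _ (by decide) hH hP
  rw [h]
  simp only [PoinE6.exps0, PoinE6.exps1, PoinE6.exps2, PoinE6.exps3, PoinE6.exps4, PoinE6.exps5, List.map_cons, List.map_nil, List.sum_cons, List.sum_nil, pow_zero,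
    pow_one]
  have h1 : 1 ≤ q := hq0
  have h2 : 1 ≤ q ^ 2 := Nat.one_le_pow _ _ hq0
  have h5 : 1 ≤ q ^ 5 := Nat.one_le_pow _ _ hq0
  have h6 : 1 ≤ q ^ 6 := Nat.one_le_pow _ _ hq0
  have h8 : 1 ≤ q ^ 8 := Nat.one_le_pow _ _ hq0
  have h9 : 1 ≤ q ^ 9 := Nat.one_le_pow _ _ hq0
  have h12 : 1 ≤ q ^ 12 := Nat.one_le_pow _ _ hq0
  apply Nat.cast_injective (R := ℤ)
  push_cast [Nat.cast_sub h1, Nat.cast_sub h2, Nat.cast_sub h5, Nat.cast_sub h6, Nat.cast_sub h8, Nat.cast_sub h9, Nat.cast_sub h12]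
  ring

end Cfsg.Agent.S1063
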