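import Cfsg.Statements.S1064
import Cfsg.Agent.Lib.Helper36.ChevOrder
import Cfsg.Agent.Lib.Helper36.ChevPoinE7

set_option autoImplicit false
set_option maxHeartbeats 4000000
set_option maxRecDepth 100000
open Cfsg

namespace Cfsg.Agent.S1064

open Cfsg.Agent.Lib.Helper36 Cfsg.Agent.Lib.Helper18 Cfsg.Lie

/-- `gcd(2, q-1) · |E₇(q)| = q⁶³ ∏_{d ∈ {2,6,8,10,12,14,18}} (q^d - 1)`. -/
theorem result {F : Type*} [Field F] [Fintype F] {q : ℕ} (hq : Fintype.card F = q) : Nat.gcd 2 (q - 1) * Nat.card ↥(Cfsg.Lie.chevE7.group F) = q ^ 63 * (q ^ 2 - 1) * (q ^ 6 - 1) * (q ^ 8 - 1) * (q ^ 10 - 1) * (q ^ 12 - 1) * (q ^ 14 - 1) * (q ^ 18 - 1) := by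
  have hq0 : 0 < q := hq ▸ Fintype.card_pos
  have hH := Cfsg.Agent.S1035.result hq (chevE7, Nat.gcd 2 (q - 1)) (by simp)
  have hP := PoinE7.poin_univ q hq0
  have h := order_formula chevE7 PoinE7.hD F 7 rfl CoxE7.M CoxE7.A CoxE7.hA PoinE7.hAc PoinE7.finW
    CoxE7.rho_ker Cfsg.Agent.S1039.bE7 q hq (Nat.gcd 2 (q - 1)) 63 _ (by decide) hH hP
  rw [h]
  simp only [PoinE7.exps0, PoinE7.exps1, PoinE7.exps2, PoinE7.exps3, PoinE7.exps4, PoinE7.exps5, PoinE7.exps6, List.map_cons, List.map_nil, List.sum_cons, List.sum_nil, pow_zero,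
    pow_one]
  have h1 : 1 ≤ q := hq0
  have h2 : 1 ≤ q ^ 2 := Nat.one_le_pow _ _ hq0
  have h6 : 1 ≤ q ^ 6 := Nat.one_le_pow _ _ hq0
  have h8 : 1 ≤ q ^ 8 := Nat.one_le_pow _ _ hq0
  have h10 : 1 ≤ q ^ 10 := Nat.one_le_pow _ _ hq0
  have h12 : 1 ≤ q ^ 12 := Nat.one_le_pow _ _ hq0
  have h14 : 1 ≤ q ^ 14 := Nat.one_le_pow _ _ hq0
  have h18 : 1 ≤ q ^ 18 := Nat.one_le_pow _ _ hq0
  apply Nat.cast_injective (R := ℤ)
  push_cast [Nat.cast_sub h1, Nat.cast_sub h2, Nat.cast_sub h6, Nat.cast_sub h8, Nat.cast_sub h10, Nat.cast_sub h12, Nat.cast_sub h14, Nat.cast_sub h18]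
  ring

end Cfsg.Agent.S1064
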