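import Cfsg.Statements.S1900
import Cfsg.Agent.Lib.Helper48.CoprimeGen
import Cfsg.Agent.Lib.Helper24.Omega1
import Cfsg.Agent.Lib.Helper68.Omega

set_option autoImplicit false
open Cfsg

namespace Cfsg.Agent.S1900

open Cfsg.Agent.Lib.Helper48 Cfsg.Agent.Lib.Helper24 Cfsg.Agent.Lib.Helper33 Cfsg.Agent.Lib.Helper68
open scoped commutatorElement

universe u

section General

variable {S : Type u} [Group S]

theorem centralizer_zpowers_eq (x : S) :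
    Subgroup.centralizer ((Subgroup.zpowers x : Subgroup S) : Set S) = Subgroup.centralizer {x} := by
  apply le_antisymm
  · exact Subgroup.centralizer_le (by
      intro y hy
      rw [Set.mem_singleton_iff] at hy
      rw [hy]
      exact Subgroup.mem_zpowers x)
  · intro k hk
    rw [Subgroup.mem_centralizer_singleton_iff] at hk
    rw [Subgroup.mem_centralizer_iff]
    rintro _ ⟨n, rfl⟩
    have : Commute x k := hk.symm
    exact (this.zpow_left n).eq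

theorem mem_normalizer_inf {A B : Subgroup S} {g : S} (hA : g ∈ Subgroup.normalizer (A : Set S))
    (hB : g ∈ Subgroup.normalizer (B : Set S)) : g ∈ Subgroup.normalizer ((A ⊓ B : Subgroup S) : Set S) := by
  rw [← cj_eq_self_iff] at hA hB ⊢
  rw [cj_inf, hA, hB]

theorem mem_normalizer_centralizer_singleton {x y : S} (h : y * x = x * y) :
    y ∈ Subgroup.normalizer ((Subgroup.centralizer {x} : Subgroup S) : Set S) :=
  Subgroup.le_normalizer (Subgroup.mem_centralizer_singleton_iff.mpr h)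

/-- Frattini argument: in a finite `p`-group `R`, `H[R,R] = R` forces `H = R`. -/
theorem eq_of_sup_commutator_eq [Finite S] {p : ℕ} [Fact p.Prime] {R H : Subgroup S}
    (hR : IsPGroup p R) (hHR : H ≤ R) (h : H ⊔ ⁅R, R⁆ = R) : H = R := by
  apply le_antisymm hHR
  have hcomm : (⁅R, R⁆ : Subgroup S) ≤ R := Subgroup.commutator_le_self R
  have h1 : (⁅R, R⁆ : Subgroup S).subgroupOf R = commutator ↥R := by
    rw [← Subgroup.map_subtype_commutator, Subgroup.subgroupOf,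
      Subgroup.comap_map_eq_self_of_injective R.subtype_injective]
  have h2 : H.subgroupOf R ⊔ commutator ↥R = ⊤ := by
    rw [← h1, ← Subgroup.subgroupOf_sup hHR hcomm, h, Subgroup.subgroupOf_self]
  have h3 : H.subgroupOf R ⊔ frattini ↥R = ⊤ := by
    rw [eq_top_iff, ← h2]
    exact sup_le_sup_left (commutator_le_frattini_of_isPGroup hR) _
  have h4 : H.subgroupOf R = ⊤ := frattini_nongenerating h3
  exact Subgroup.subgroupOf_eq_top.mp h4

theorem le_normalizer_of_commutator_le {R M : Subgroup S} (hM : M ≤ R) (hc : ⁅R, R⁆ ≤ M) :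
    R ≤ Subgroup.normalizer (M : Set S) := by
  have key : ∀ g ∈ R, ∀ m ∈ M, g * m * g⁻¹ ∈ M := by
    intro g hg m hm
    have h1 : ⁅g, m⁆ ∈ M := hc (Subgroup.commutator_mem_commutator hg (hM hm))
    have : g * m * g⁻¹ = ⁅g, m⁆ * m := by rw [commutatorElement_def]; group
    rw [this]
    exact M.mul_mem h1 hm
  intro g hg
  rw [Subgroup.mem_normalizer_iff]
  intro m
  constructor
  · exact key g hg m
  · intro h
    have := key g⁻¹ (R.inv_mem hg) _ h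
    simpa [mul_assoc] using this

theorem commutator_le_inf_of_normal {R M₁ M₂ : Subgroup S} (h₁ : M₁ ≤ R) (h₂ : M₂ ≤ R)
    (hn₁ : R ≤ Subgroup.normalizer (M₁ : Set S)) (hn₂ : R ≤ Subgroup.normalizer (M₂ : Set S)) :
    ⁅M₁, M₂⁆ ≤ M₁ ⊓ M₂ := by
  rw [Subgroup.commutator_le]
  intro a ha b hb
  refine ⟨?_, ?_⟩
  · have h3 : b * a⁻¹ * b⁻¹ ∈ M₁ :=
      (Subgroup.mem_normalizer_iff.mp (hn₁ (h₂ hb)) a⁻¹).mp (M₁.inv_mem ha)
    have : ⁅a, b⁆ = a * (b * a⁻¹ * b⁻¹) := by rw [commutatorElement_def]; group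
    rw [this]
    exact M₁.mul_mem ha h3
  · have h3 : a * b * a⁻¹ ∈ M₂ := (Subgroup.mem_normalizer_iff.mp (hn₂ (h₁ ha)) b).mp hb
    have : ⁅a, b⁆ = (a * b * a⁻¹) * b⁻¹ := by rw [commutatorElement_def]
    rw [this]
    exact M₂.mul_mem h3 (M₂.inv_mem hb)

/-- The key commutator computation. -/
theorem comm_mem_of_decomp {a : S} {U H E₁ E₂ : Subgroup S}
    (hHa : ∀ h ∈ H, h * a = a * h) (hHU : H ≤ Subgroup.normalizer (U : Set S))
    (hUH : U ≤ ⁅U, H⁆)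
    (hdec : ∀ u ∈ U, ∃ c₁ ∈ E₁, ∃ c₂ ∈ E₂, ⁅a, u⁆ = c₁ * c₂)
    (hUE₁ : ∀ u ∈ U, ∀ c ∈ E₁, u * c = c * u) (hHE₁ : ∀ h ∈ H, ∀ c ∈ E₁, h * c = c * h)
    (hE : ∀ c ∈ E₁, ∀ d ∈ E₂, c * d = d * c)
    (hUE₂ : U ≤ Subgroup.normalizer (E₂ : Set S)) (hHE₂ : H ≤ Subgroup.normalizer (E₂ : Set S)) :
    ∀ u ∈ U, ⁅a, u⁆ ∈ E₂ := by
  -- the subgroup B
  let B : Subgroup S :=
    { carrier := {u | u ∈ U ∧ ⁅a, u⁆ ∈ E₂}
      one_mem' := ⟨U.one_mem, by rw [commutatorElement_one_right]; exact E₂.one_mem⟩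
      mul_mem' := by
        rintro u v ⟨hu, hu'⟩ ⟨hv, hv'⟩
        refine ⟨U.mul_mem hu hv, ?_⟩
        have h1 : u * ⁅a, v⁆ * u⁻¹ ∈ E₂ := (Subgroup.mem_normalizer_iff.mp (hUE₂ hu) _).mp hv'
        have : ⁅a, u * v⁆ = ⁅a, u⁆ * (u * ⁅a, v⁆ * u⁻¹) := by
          simp only [commutatorElement_def]; group
        rw [this]
        exact E₂.mul_mem hu' h1
      inv_mem' := by
        rintro u ⟨hu, hu'⟩
        refine ⟨U.inv_mem hu, ?_⟩
        have h1 : u⁻¹ * ⁅a, u⁆⁻¹ * u⁻¹⁻¹ ∈ E₂ :=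
          (Subgroup.mem_normalizer_iff.mp (hUE₂ (U.inv_mem hu)) _).mp (E₂.inv_mem hu')
        have : ⁅a, u⁻¹⁆ = u⁻¹ * ⁅a, u⁆⁻¹ * u⁻¹⁻¹ := by
          simp only [commutatorElement_def]; group
        rw [this]
        exact h1 }
  have hB : ⁅U, H⁆ ≤ B := by
    rw [Subgroup.commutator_le]
    intro u hu h hh
    have hu' : h * u⁻¹ * h⁻¹ ∈ U :=
      (Subgroup.mem_normalizer_iff.mp (hHU hh) _).mp (U.inv_mem hu)
    refine ⟨?_, ?_⟩
    · have : ⁅u, h⁆ = u * (h * u⁻¹ * h⁻¹) := by rw [commutatorElement_def]; group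
      rw [this]
      exact U.mul_mem hu hu'
    · obtain ⟨c₁, hc₁, c₂, hc₂, hc⟩ := hdec u hu
      set k : S := u * h * u⁻¹ with hk
      have hkN : k ∈ Subgroup.normalizer (E₂ : Set S) :=
        Subgroup.mul_mem _ (Subgroup.mul_mem _ (hUE₂ hu) (hHE₂ hh)) (Subgroup.inv_mem _ (hUE₂ hu))
      have hkc : k * c₁ * k⁻¹ = c₁ := by
        have h1 : u * c₁ = c₁ * u := hUE₁ u hu c₁ hc₁
        have h2 : h * c₁ = c₁ * h := hHE₁ h hh c₁ hc₁
        have h3 : u⁻¹ * c₁ = c₁ * u⁻¹ := by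
          have : Commute u c₁ := h1
          exact this.inv_left.eq
        calc k * c₁ * k⁻¹ = u * h * (u⁻¹ * c₁) * u * h⁻¹ * u⁻¹ := by rw [hk]; group
          _ = u * (h * c₁) * u⁻¹ * u * h⁻¹ * u⁻¹ := by rw [h3]; group
          _ = (u * c₁) * h * h⁻¹ * u⁻¹ := by rw [h2]; group
          _ = c₁ := by rw [h1]; group
      have r1 : h⁻¹ * a⁻¹ * h = a⁻¹ := by
        have : Commute h a := hHa h hh
        have h1 : h * a⁻¹ = a⁻¹ * h := this.inv_right.eq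
        calc h⁻¹ * a⁻¹ * h = h⁻¹ * (a⁻¹ * h) := by group
          _ = h⁻¹ * (h * a⁻¹) := by rw [h1]
          _ = a⁻¹ := by group
      have r2 : a⁻¹ * h * a = h := by
        have h1 : h * a = a * h := hHa h hh
        calc a⁻¹ * h * a = a⁻¹ * (h * a) := by group
          _ = a⁻¹ * (a * h) := by rw [h1]
          _ = h := by group
      have e1 : ⁅a, ⁅u, h⁆⁆ = a * u * h * u⁻¹ * (h⁻¹ * a⁻¹ * h) * u * h⁻¹ * u⁻¹ := by
        simp only [commutatorElement_def]; group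
      have e2 : ⁅a, u⁆ * (k * ⁅a, u⁆⁻¹ * k⁻¹) =
          a * u * (a⁻¹ * h * a) * u⁻¹ * a⁻¹ * u * h⁻¹ * u⁻¹ := by
        simp only [commutatorElement_def, hk]; group
      have key : ⁅a, ⁅u, h⁆⁆ = ⁅a, u⁆ * (k * ⁅a, u⁆⁻¹ * k⁻¹) := by
        rw [e1, e2, r1, r2]
      have hf : c₂ * (k * c₂⁻¹ * k⁻¹) ∈ E₂ :=
        E₂.mul_mem hc₂ ((Subgroup.mem_normalizer_iff.mp hkN _).mp (E₂.inv_mem hc₂))
      have key2 : ⁅a, ⁅u, h⁆⁆ = c₂ * (k * c₂⁻¹ * k⁻¹) := by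
        rw [key, hc]
        have e3 : c₁ * c₂ * (k * (c₁ * c₂)⁻¹ * k⁻¹) =
            c₁ * (c₂ * (k * c₂⁻¹ * k⁻¹)) * (k * c₁ * k⁻¹)⁻¹ := by group
        rw [e3, hkc, hE c₁ hc₁ _ hf]
        group
      rw [key2]
      exact hf
  intro u hu
  exact (hB (hUH hu)).2

end General

section Main

variable {S : Type u} [Group S] [Finite S] {p q : ℕ} [Fact p.Prime] [Fact q.Prime]

/-- The data: a `p`-group `P` acted on by commuting `x₁`, `x₂` of order dividing `q`, such that the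
"diagonal" elements `x₁ * x₂ ^ n` (`q ∤ n`) have no fixed points on `P`. -/
structure Data (p q : ℕ) (P : Subgroup S) (x₁ x₂ : S) : Prop where
  hpq : p ≠ q
  hP : IsPGroup p P
  h₁ : x₁ ^ q = 1
  h₂ : x₂ ^ q = 1
  hcomm : x₁ * x₂ = x₂ * x₁
  hdiag : ∀ n : ℕ, ¬ q ∣ n → P ⊓ Subgroup.centralizer {x₁ * x₂ ^ n} = ⊥

namespace Data

variable {P : Subgroup S} {x₁ x₂ : S} (d : Data p q P x₁ x₂)
include d

theorem inf_eq_bot : P ⊓ Subgroup.centralizer {x₁} ⊓ Subgroup.centralizer {x₂} = ⊥ := by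
  have hq : q.Prime := Fact.out
  rw [eq_bot_iff, ← d.hdiag 1 (fun h => hq.one_lt.ne' (Nat.dvd_one.mp h))]
  rintro y ⟨⟨hyP, hy1⟩, hy2⟩
  have hy1' : y ∈ Subgroup.centralizer {x₁} := hy1
  have hy2' : y ∈ Subgroup.centralizer {x₂} := hy2
  refine ⟨hyP, ?_⟩
  show y ∈ Subgroup.centralizer {x₁ * x₂ ^ 1}
  rw [Subgroup.mem_centralizer_singleton_iff] at hy1' hy2' ⊢
  have hy1 := hy1'
  have hy2 := hy2'
  rw [pow_one]
  calc y * (x₁ * x₂) = (y * x₁) * x₂ := by group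
    _ = x₁ * (y * x₂) := by rw [hy1]; group
    _ = x₁ * x₂ * y := by rw [hy2]; group

theorem not_dvd_card {R : Subgroup S} (hR : R ≤ P) : ¬ q ∣ Nat.card R := by
  have hp : p.Prime := Fact.out
  have hq : q.Prime := Fact.out
  obtain ⟨k, hk⟩ := IsPGroup.iff_card.mp (d.hP.to_le hR)
  rw [hk]
  intro h
  exact d.hpq ((Nat.prime_dvd_prime_iff_eq hq hp).mp (hq.dvd_of_dvd_pow h)).symm

/-- coprime generation. -/
theorem generation {R : Subgroup S} (hR : R ≤ P) (hx₁ : x₁ ∈ Subgroup.normalizer (R : Set S))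
    (hx₂ : x₂ ∈ Subgroup.normalizer (R : Set S)) :
    R ≤ (R ⊓ Subgroup.centralizer {x₁}) ⊔ (R ⊓ Subgroup.centralizer {x₂}) := by
  set G₁ := Subgroup.normalizer (R : Set S) with hG₁
  have hRG : R ≤ G₁ := Subgroup.le_normalizer
  haveI : (R.subgroupOf G₁).Normal := Subgroup.normal_in_normalizer
  have hcard : Nat.card (R.subgroupOf G₁) = Nat.card R :=
    Nat.card_congr (Subgroup.subgroupOfEquivOfLe hRG).toEquiv
  have hnd : ¬ q ∣ Nat.card (R.subgroupOf G₁) := by rw [hcard]; exact d.not_dvd_card hR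
  have h1 : (⟨x₁, hx₁⟩ : G₁) ^ q = 1 := Subtype.ext (by simpa using d.h₁)
  have h2 : (⟨x₂, hx₂⟩ : G₁) ^ q = 1 := Subtype.ext (by simpa using d.h₂)
  have h12 : (⟨x₁, hx₁⟩ : G₁) * ⟨x₂, hx₂⟩ = ⟨x₂, hx₂⟩ * ⟨x₁, hx₁⟩ := Subtype.ext d.hcomm
  have hgen := coprime_gen (R.subgroupOf G₁) (⟨x₁, hx₁⟩ : G₁) ⟨x₂, hx₂⟩ h1 h2 h12 hnd
  have hgen' : R ≤ genSub R x₁ x₂ := genSub_transfer_subgroup G₁ R x₁ x₂ hx₁ hx₂ hRG hgen
  refine hgen'.trans ?_
  unfold genSub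
  apply iSup₂_le
  intro c hc
  rcases hc with rfl | ⟨n, rfl⟩
  · exact le_sup_right
  · by_cases hn : q ∣ n
    · obtain ⟨m, rfl⟩ := hn
      have : x₂ ^ (q * m) = 1 := by rw [pow_mul, d.h₂, one_pow]
      rw [this, mul_one]
      exact le_sup_left
    · have : R ⊓ Subgroup.centralizer {x₁ * x₂ ^ n} ≤ ⊥ := by
        rw [← d.hdiag n hn]
        exact inf_le_inf_right _ hR
      exact this.trans bot_le

/-- The main induction. -/
theorem main : ∀ (n : ℕ) (R : Subgroup S), Nat.card R = n → R ≤ P →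
    x₁ ∈ Subgroup.normalizer (R : Set S) → x₂ ∈ Subgroup.normalizer (R : Set S) →
    ⁅R ⊓ Subgroup.centralizer {x₁}, R ⊓ Subgroup.centralizer {x₂}⁆ = ⊥ ∧
      (R ⊓ Subgroup.centralizer {x₁}) ⊔ (R ⊓ Subgroup.centralizer {x₂}) = R := by
  have hp : p.Prime := Fact.out
  have hq : q.Prime := Fact.out
  intro n
  induction n using Nat.strong_induction_on with
  | _ n ih =>
  intro R hn hRP hx₁ hx₂
  have hgen := d.generation hRP hx₁ hx₂
  have hsup : (R ⊓ Subgroup.centralizer {x₁}) ⊔ (R ⊓ Subgroup.centralizer {x₂}) = R :=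
    le_antisymm (sup_le inf_le_left inf_le_left) hgen
  refine ⟨?_, hsup⟩
  set R₁ := R ⊓ Subgroup.centralizer {x₁} with hR₁
  set R₂ := R ⊓ Subgroup.centralizer {x₂} with hR₂
  by_cases h1 : R₁ = ⊥
  · rw [h1]; exact Subgroup.commutator_bot_left _
  by_cases h2 : R₂ = ⊥
  · rw [h2]; exact Subgroup.commutator_bot_right _
  have hRp : IsPGroup p R := d.hP.to_le hRP
  -- x_i normalize everything in sight
  have hx₁c₁ : x₁ ∈ Subgroup.normalizer ((Subgroup.centralizer {x₁} : Subgroup S) : Set S) :=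
    mem_normalizer_centralizer_singleton rfl
  have hx₂c₂ : x₂ ∈ Subgroup.normalizer ((Subgroup.centralizer {x₂} : Subgroup S) : Set S) :=
    mem_normalizer_centralizer_singleton rfl
  have hx₁c₂ : x₁ ∈ Subgroup.normalizer ((Subgroup.centralizer {x₂} : Subgroup S) : Set S) :=
    mem_normalizer_centralizer_singleton d.hcomm
  have hx₂c₁ : x₂ ∈ Subgroup.normalizer ((Subgroup.centralizer {x₁} : Subgroup S) : Set S) :=
    mem_normalizer_centralizer_singleton d.hcomm.symm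
  have hx₁R₁ : x₁ ∈ Subgroup.normalizer (R₁ : Set S) := mem_normalizer_inf hx₁ hx₁c₁
  have hx₂R₁ : x₂ ∈ Subgroup.normalizer (R₁ : Set S) := mem_normalizer_inf hx₂ hx₂c₁
  have hx₁R₂ : x₁ ∈ Subgroup.normalizer (R₂ : Set S) := mem_normalizer_inf hx₁ hx₁c₂
  have hx₂R₂ : x₂ ∈ Subgroup.normalizer (R₂ : Set S) := mem_normalizer_inf hx₂ hx₂c₂
  have hx₁C : x₁ ∈ Subgroup.normalizer ((⁅R, R⁆ : Subgroup S) : Set S) :=
    normalizer_le_normalizer_commutator R hx₁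
  have hx₂C : x₂ ∈ Subgroup.normalizer ((⁅R, R⁆ : Subgroup S) : Set S) :=
    normalizer_le_normalizer_commutator R hx₂
  have hCR : (⁅R, R⁆ : Subgroup S) ≤ R := Subgroup.commutator_le_self R
  set M₁ := R₁ ⊔ ⁅R, R⁆ with hM₁
  set M₂ := R₂ ⊔ ⁅R, R⁆ with hM₂
  have hM₁R : M₁ ≤ R := sup_le inf_le_left hCR
  have hM₂R : M₂ ≤ R := sup_le inf_le_left hCR
  have hRM₁ : R ≤ Subgroup.normalizer (M₁ : Set S) := le_normalizer_of_commutator_le hM₁R le_sup_right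
  have hRM₂ : R ≤ Subgroup.normalizer (M₂ : Set S) := le_normalizer_of_commutator_le hM₂R le_sup_right
  have hx₁M₁ : x₁ ∈ Subgroup.normalizer (M₁ : Set S) := mem_normalizer_sup' hx₁R₁ hx₁C
  have hx₂M₁ : x₂ ∈ Subgroup.normalizer (M₁ : Set S) := mem_normalizer_sup' hx₂R₁ hx₂C
  have hx₁M₂ : x₁ ∈ Subgroup.normalizer (M₂ : Set S) := mem_normalizer_sup' hx₁R₂ hx₁C
  have hx₂M₂ : x₂ ∈ Subgroup.normalizer (M₂ : Set S) := mem_normalizer_sup' hx₂R₂ hx₂C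
  have h12bot : R₁ ⊓ R₂ = ⊥ := by
    rw [eq_bot_iff, ← d.inf_eq_bot]
    rintro y ⟨⟨hyR, hy1⟩, ⟨_, hy2⟩⟩
    exact ⟨⟨hRP hyR, hy1⟩, hy2⟩
  -- M₁, M₂ proper
  have hM₁ne : M₁ ≠ R := by
    intro h
    have hR₁R : R₁ = R := eq_of_sup_commutator_eq hRp inf_le_left h
    apply h2
    rw [eq_bot_iff, ← h12bot, hR₁R]
    exact le_inf inf_le_left le_rfl
  have hM₂ne : M₂ ≠ R := by
    intro h
    have hR₂R : R₂ = R := eq_of_sup_commutator_eq hRp inf_le_left h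
    apply h1
    rw [eq_bot_iff, ← h12bot, hR₂R]
    exact le_inf le_rfl inf_le_left
  have hcardlt : ∀ M : Subgroup S, M ≤ R → M ≠ R → Nat.card M < n := by
    intro M hM hne
    rw [← hn]
    rcases lt_or_eq_of_le (Subgroup.card_le_of_le hM) with h | h
    · exact h
    · exact absurd (Subgroup.eq_of_le_of_card_ge hM h.ge) hne
  set D := M₁ ⊓ M₂ with hD
  have hDM₁ : D ≤ M₁ := inf_le_left
  have hDR : D ≤ R := hDM₁.trans hM₁R
  have hDne : D ≠ R := fun h => hM₁ne (le_antisymm hM₁R (h ▸ hDM₁))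
  obtain ⟨hT₁, -⟩ := ih _ (hcardlt M₁ hM₁R hM₁ne) M₁ rfl (hM₁R.trans hRP) hx₁M₁ hx₂M₁
  obtain ⟨hT₂, -⟩ := ih _ (hcardlt M₂ hM₂R hM₂ne) M₂ rfl (hM₂R.trans hRP) hx₁M₂ hx₂M₂
  obtain ⟨hTD, hDsup⟩ := ih _ (hcardlt D hDR hDne) D rfl (hDR.trans hRP)
    (mem_normalizer_inf hx₁M₁ hx₁M₂) (mem_normalizer_inf hx₂M₁ hx₂M₂)
  set D₁ := D ⊓ Subgroup.centralizer {x₁} with hD₁
  set D₂ := D ⊓ Subgroup.centralizer {x₂} with hD₂
  -- M₁ ⊓ C{x₁} = R₁ and M₂ ⊓ C{x₂} = R₂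
  have hM₁c : M₁ ⊓ Subgroup.centralizer {x₁} = R₁ :=
    le_antisymm (inf_le_inf_right _ hM₁R) (le_inf le_sup_left inf_le_right)
  have hM₂c : M₂ ⊓ Subgroup.centralizer {x₂} = R₂ :=
    le_antisymm (inf_le_inf_right _ hM₂R) (le_inf le_sup_left inf_le_right)
  rw [hM₁c] at hT₁
  rw [hM₂c] at hT₂
  -- [R₁, D₂] = 1 and [D₁, R₂] = 1
  have hR₁D₂ : ⁅R₁, D₂⁆ = ⊥ := by
    rw [eq_bot_iff, ← hT₁]
    exact Subgroup.commutator_mono le_rfl (inf_le_inf_right _ hDM₁)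
  have hD₁R₂ : ⁅D₁, R₂⁆ = ⊥ := by
    rw [eq_bot_iff, ← hT₂]
    exact Subgroup.commutator_mono (inf_le_inf_right _ inf_le_right) le_rfl
  -- [R₁,R₂] ≤ D
  have hcommD : ⁅R₁, R₂⁆ ≤ D :=
    (Subgroup.commutator_mono le_sup_left le_sup_left).trans
      (commutator_le_inf_of_normal hM₁R hM₂R hRM₁ hRM₂)
  -- commuting facts as elementwise statements
  have hcD : ∀ c ∈ D₁, ∀ e ∈ D₂, c * e = e * c := by
    intro c hc e he
    have := Subgroup.commutator_eq_bot_iff_le_centralizer.mp hTD hc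
    exact ((Subgroup.mem_centralizer_iff.mp this) e he).symm
  have hdecomp : ∀ y ∈ D, ∃ c₁ ∈ D₁, ∃ c₂ ∈ D₂, y = c₁ * c₂ := by
    intro y hy
    have hD₁N : D₁ ≤ Subgroup.normalizer (D₂ : Set S) :=
      (Subgroup.commutator_eq_bot_iff_le_centralizer.mp hTD).trans
        (Subgroup.centralizer_le_normalizer _)
    have hy' : y ∈ ((D₁ ⊔ D₂ : Subgroup S) : Set S) := by rw [hDsup]; exact hy
    rw [Subgroup.coe_mul_of_left_le_normalizer_right D₁ D₂ hD₁N] at hy'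
    obtain ⟨c₁, hc₁, c₂, hc₂, rfl⟩ := hy'
    exact ⟨c₁, hc₁, c₂, hc₂, rfl⟩
  -- the coprime action facts U = [U, H]
  have hcoprime : ∀ (x : S) (K : Subgroup S), x ^ q = 1 → K ≤ P →
      (Nat.card (Subgroup.zpowers x)).Coprime (Nat.card K) := by
    intro x K hx hK
    rw [Nat.card_zpowers]
    obtain ⟨k, hk⟩ := IsPGroup.iff_card.mp (d.hP.to_le hK)
    rw [hk]
    apply Nat.Coprime.pow_right
    have hdvd : orderOf x ∣ q := orderOf_dvd_of_pow_eq_one hx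
    exact Nat.Coprime.coprime_dvd_left hdvd ((Nat.coprime_primes hq hp).mpr d.hpq.symm)
  have hzN : ∀ (x : S) (K : Subgroup S), x ∈ Subgroup.normalizer (K : Set S) →
      Subgroup.zpowers x ≤ Subgroup.normalizer (K : Set S) := by
    intro x K hx
    rw [Subgroup.zpowers_le]; exact hx
  have hR₂H : R₂ ≤ ⁅R₂, Subgroup.zpowers x₁⁆ := by
    have h3 := commutator_sup_centralizer_eq (Subgroup.zpowers x₁) R₂ (hzN x₁ R₂ hx₁R₂)
      (hcoprime x₁ R₂ d.h₁ (inf_le_left.trans hRP)) (Or.inl inferInstance)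
    have h4 : R₂ ⊓ Subgroup.centralizer ((Subgroup.zpowers x₁ : Subgroup S) : Set S) = ⊥ := by
      rw [centralizer_zpowers_eq, eq_bot_iff, ← h12bot]
      rintro y ⟨⟨hyR, hy2⟩, hy1⟩
      exact ⟨⟨hyR, hy1⟩, ⟨hyR, hy2⟩⟩
    rw [h4, sup_bot_eq] at h3
    exact h3.ge
  have hR₁H : R₁ ≤ ⁅R₁, Subgroup.zpowers x₂⁆ := by
    have h3 := commutator_sup_centralizer_eq (Subgroup.zpowers x₂) R₁ (hzN x₂ R₁ hx₂R₁)
      (hcoprime x₂ R₁ d.h₂ (inf_le_left.trans hRP)) (Or.inl inferInstance)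
    have h4 : R₁ ⊓ Subgroup.centralizer ((Subgroup.zpowers x₂ : Subgroup S) : Set S) = ⊥ := by
      rw [centralizer_zpowers_eq, eq_bot_iff, ← h12bot]
      rintro y ⟨⟨hyR, hy1⟩, hy2⟩
      exact ⟨⟨hyR, hy1⟩, ⟨hyR, hy2⟩⟩
    rw [h4, sup_bot_eq] at h3
    exact h3.ge
  -- elements of zpowers x commute with elements of C{x}
  have hzc : ∀ (x y : S), y ∈ Subgroup.centralizer {x} → ∀ h ∈ Subgroup.zpowers x, h * y = y * h := by
    intro x y hy h hh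
    rw [← centralizer_zpowers_eq, Subgroup.mem_centralizer_iff] at hy
    exact hy h hh
  -- D normalized by R; C{x_i} normalized by its elements
  have hRD : R ≤ Subgroup.normalizer (D : Set S) := fun g hg =>
    mem_normalizer_inf (hRM₁ hg) (hRM₂ hg)
  have hR₂D₂ : R₂ ≤ Subgroup.normalizer (D₂ : Set S) := fun g hg =>
    mem_normalizer_inf (hRD hg.1) (Subgroup.le_normalizer hg.2)
  have hR₁D₁ : R₁ ≤ Subgroup.normalizer (D₁ : Set S) := fun g hg =>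
    mem_normalizer_inf (hRD hg.1) (Subgroup.le_normalizer hg.2)
  have hx₁D : x₁ ∈ Subgroup.normalizer (D : Set S) := mem_normalizer_inf hx₁M₁ hx₁M₂
  have hx₂D : x₂ ∈ Subgroup.normalizer (D : Set S) := mem_normalizer_inf hx₂M₁ hx₂M₂
  have hx₁D₂ : x₁ ∈ Subgroup.normalizer (D₂ : Set S) := mem_normalizer_inf hx₁D hx₁c₂
  have hx₂D₁ : x₂ ∈ Subgroup.normalizer (D₁ : Set S) := mem_normalizer_inf hx₂D hx₂c₁
  -- the two applications
  rw [eq_bot_iff, Subgroup.commutator_le]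
  intro a ha b hb
  have hab : ⁅a, b⁆ ∈ D := hcommD (Subgroup.commutator_mem_commutator ha hb)
  -- first: ⁅a, b⁆ ∈ D₂
  have hfirst : ⁅a, b⁆ ∈ D₂ := by
    refine comm_mem_of_decomp (a := a) (U := R₂) (H := Subgroup.zpowers x₁) (E₁ := D₁) (E₂ := D₂)
      (hzc x₁ a ha.2) (hzN x₁ R₂ hx₁R₂) hR₂H ?_ ?_ ?_ hcD hR₂D₂ (hzN x₁ D₂ hx₁D₂) b hb
    · intro u hu
      exact hdecomp _ (hcommD (Subgroup.commutator_mem_commutator ha hu))
    · intro u hu c hc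
      have := Subgroup.commutator_eq_bot_iff_le_centralizer.mp hD₁R₂ hc
      exact (Subgroup.mem_centralizer_iff.mp this) u hu
    · intro h hh c hc
      exact hzc x₁ c hc.2 h hh
  -- second: ⁅b, a⁆ ∈ D₁
  have hsecond : ⁅b, a⁆ ∈ D₁ := by
    refine comm_mem_of_decomp (a := b) (U := R₁) (H := Subgroup.zpowers x₂) (E₁ := D₂) (E₂ := D₁)
      (hzc x₂ b hb.2) (hzN x₂ R₁ hx₂R₁) hR₁H ?_ ?_ ?_ (fun c hc e he => (hcD e he c hc).symm)
      hR₁D₁ (hzN x₂ D₁ hx₂D₁) a ha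
    · intro u hu
      have h5 : ⁅b, u⁆ ∈ D := by
        have : ⁅b, u⁆ = ⁅u, b⁆⁻¹ := (commutatorElement_inv u b).symm
        rw [this]
        exact D.inv_mem (hcommD (Subgroup.commutator_mem_commutator hu hb))
      obtain ⟨c₁, hc₁, c₂, hc₂, he⟩ := hdecomp _ h5
      exact ⟨c₂, hc₂, c₁, hc₁, by rw [he, hcD c₁ hc₁ c₂ hc₂]⟩
    · intro u hu c hc
      have := Subgroup.commutator_eq_bot_iff_le_centralizer.mp hR₁D₂ hu
      exact ((Subgroup.mem_centralizer_iff.mp this) c hc).symm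
    · intro h hh c hc
      exact hzc x₂ c hc.2 h hh
  have hthird : ⁅a, b⁆ ∈ D₁ := by
    have : ⁅a, b⁆ = ⁅b, a⁆⁻¹ := (commutatorElement_inv b a).symm
    rw [this]
    exact D₁.inv_mem hsecond
  have : ⁅a, b⁆ ∈ P ⊓ Subgroup.centralizer {x₁} ⊓ Subgroup.centralizer {x₂} :=
    ⟨⟨hRP (hDR hab), hthird.2⟩, hfirst.2⟩
  rw [d.inf_eq_bot] at this
  exact this

end Data

omit [Finite S] [Fact p.Prime] in
theorem exists_zpowers_eq_of_card_prime {X : Subgroup S} (hc : Nat.card X = q) :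
    ∃ x ∈ X, X = Subgroup.zpowers x ∧ x ^ q = 1 ∧ x ≠ 1 := by
  have hq : q.Prime := Fact.out
  haveI : IsCyclic X := isCyclic_of_prime_card hc
  obtain ⟨g, hg⟩ := IsCyclic.exists_generator (α := X)
  refine ⟨(g : S), g.2, ?_, ?_, ?_⟩
  · apply le_antisymm
    · intro y hy
      obtain ⟨n, hn⟩ := hg ⟨y, hy⟩
      refine ⟨n, ?_⟩
      have := congrArg (fun z : X => (z : S)) hn
      simpa using this
    · rw [Subgroup.zpowers_le]; exact g.2
  · have h1 : g ^ Nat.card X = 1 := pow_card_eq_one'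
    rw [hc] at h1
    have := congrArg (fun z : X => (z : S)) h1
    simpa using this
  · intro h1
    have hg1 : g = 1 := Subtype.ext h1
    have htop : (⊤ : Subgroup X) = ⊥ := by
      rw [eq_bot_iff]
      intro y _
      obtain ⟨n, hn⟩ := hg y
      rw [Subgroup.mem_bot, ← hn]
      show g ^ n = 1
      rw [hg1, one_zpow]
    have hcard : Nat.card X = 1 := by
      have h2 : Nat.card (⊤ : Subgroup X) = 1 := by rw [htop]; exact Subgroup.card_bot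
      rw [← h2]
      exact (Nat.card_congr Subgroup.topEquiv.toEquiv).symm
    rw [hc] at hcard
    exact hq.one_lt.ne' hcard

omit [Fact p.Prime] in
theorem inf_eq_bot_of_card_prime {X₁ X₂ : Subgroup S} (hc₁ : Nat.card X₁ = q) (hc₂ : Nat.card X₂ = q)
    (h₁₂ : X₁ ≠ X₂) : X₁ ⊓ X₂ = ⊥ := by
  have hq : q.Prime := Fact.out
  have hdvd : Nat.card (X₁ ⊓ X₂ : Subgroup S) ∣ q := by
    rw [← hc₁]
    exact Subgroup.card_dvd_of_le inf_le_left
  rcases (Nat.dvd_prime hq).mp hdvd with h | h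
  · exact Subgroup.card_eq_one.mp h
  · exfalso
    apply h₁₂
    have e1 : X₁ ⊓ X₂ = X₁ := Subgroup.eq_of_le_of_card_ge inf_le_left (by rw [h, hc₁])
    have e2 : X₁ ⊓ X₂ = X₂ := Subgroup.eq_of_le_of_card_ge inf_le_right (by rw [h, hc₂])
    rw [← e1, e2]

end Main

/-- Let S = PQ be a finite group with P a normal Sylow p-subgroup and Q elementary abelian of order q², q a prime different from p. If exactly two subgroups X₁, X₂ of order q in Q have a nontrivial centralizer in P, then P is the internal direct product of C_P(X₁) and C_P(X₂): they commute elementwise, meet trivially and generate P. -/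
theorem result {S : Type*} [Group S] [Finite S] {p q : ℕ} [Fact p.Prime] [Fact q.Prime] (hpq : p ≠ q)
    (P : Sylow p S) [(P : Subgroup S).Normal] (Q : Subgroup S) (hQ : Cfsg.IsElementaryAbelian q Q) (hQc : Nat.card Q = q ^ 2)
    (hS : (P : Subgroup S) ⊔ Q = ⊤)
    (X₁ X₂ : Subgroup S) (h₁ : X₁ ≤ Q) (h₂ : X₂ ≤ Q) (h₁₂ : X₁ ≠ X₂) (hc₁ : Nat.card X₁ = q) (hc₂ : Nat.card X₂ = q)
    (hf₁ : (P : Subgroup S) ⊓ Subgroup.centralizer (X₁ : Set S) ≠ ⊥)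
    (hf₂ : (P : Subgroup S) ⊓ Subgroup.centralizer (X₂ : Set S) ≠ ⊥)
    (honly : ∀ X : Subgroup S, X ≤ Q → Nat.card X = q →
      (P : Subgroup S) ⊓ Subgroup.centralizer (X : Set S) ≠ ⊥ → X = X₁ ∨ X = X₂) :
    ⁅(P : Subgroup S) ⊓ Subgroup.centralizer (X₁ : Set S), (P : Subgroup S) ⊓ Subgroup.centralizer (X₂ : Set S)⁆ = ⊥ ∧
      ((P : Subgroup S) ⊓ Subgroup.centralizer (X₁ : Set S)) ⊓ ((P : Subgroup S) ⊓ Subgroup.centralizer (X₂ : Set S)) = ⊥ ∧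
      ((P : Subgroup S) ⊓ Subgroup.centralizer (X₁ : Set S)) ⊔ ((P : Subgroup S) ⊓ Subgroup.centralizer (X₂ : Set S)) = P := by
  have hq : q.Prime := Fact.out
  have hbot : X₁ ⊓ X₂ = ⊥ := inf_eq_bot_of_card_prime hc₁ hc₂ h₁₂
  obtain ⟨x₁, hx₁X, hX₁, hx₁q, hx₁ne⟩ := exists_zpowers_eq_of_card_prime hc₁
  obtain ⟨x₂, hx₂X, hX₂, hx₂q, hx₂ne⟩ := exists_zpowers_eq_of_card_prime hc₂
  have hx₁Q : x₁ ∈ Q := h₁ hx₁X
  have hx₂Q : x₂ ∈ Q := h₂ hx₂X
  have hcomm : x₁ * x₂ = x₂ * x₁ := by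
    haveI := hQ.1
    have := mul_comm' (⟨x₁, hx₁Q⟩ : Q) ⟨x₂, hx₂Q⟩
    simpa using congrArg (fun z : Q => (z : S)) this
  have ho₂ : orderOf x₂ = q := orderOf_eq_prime hx₂q hx₂ne
  have hdiag : ∀ n : ℕ, ¬ q ∣ n → (P : Subgroup S) ⊓ Subgroup.centralizer {x₁ * x₂ ^ n} = ⊥ := by
    intro n hn
    by_contra hne
    set y := x₁ * x₂ ^ n with hy
    have hyQ : y ∈ Q := Q.mul_mem hx₁Q (Q.pow_mem hx₂Q n)
    have hyq : y ^ q = 1 := hQ.2 y hyQ
    have hx₂n : x₂ ^ n ∈ X₂ := X₂.pow_mem hx₂X n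
    have hyne : y ≠ 1 := by
      intro h1
      have : x₁ = (x₂ ^ n)⁻¹ := eq_inv_of_mul_eq_one_left (hy ▸ h1)
      have hx₁X₂ : x₁ ∈ X₂ := by rw [this]; exact X₂.inv_mem hx₂n
      have : x₁ ∈ X₁ ⊓ X₂ := ⟨hx₁X, hx₁X₂⟩
      rw [hbot, Subgroup.mem_bot] at this
      exact hx₁ne this
    have hoy : orderOf y = q := orderOf_eq_prime hyq hyne
    have hcard : Nat.card (Subgroup.zpowers y) = q := by rw [Nat.card_zpowers, hoy]
    have hle : Subgroup.zpowers y ≤ Q := by rw [Subgroup.zpowers_le]; exact hyQ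
    have hne' : (P : Subgroup S) ⊓ Subgroup.centralizer ((Subgroup.zpowers y : Subgroup S) : Set S) ≠ ⊥ := by
      rw [centralizer_zpowers_eq]; exact hne
    rcases honly _ hle hcard hne' with h | h
    · have hyX₁ : y ∈ X₁ := by rw [← h]; exact Subgroup.mem_zpowers y
      have hx₂X₁ : x₂ ^ n ∈ X₁ := by
        have : x₂ ^ n = x₁⁻¹ * y := by rw [hy]; group
        rw [this]
        exact X₁.mul_mem (X₁.inv_mem hx₁X) hyX₁
      have : x₂ ^ n ∈ X₁ ⊓ X₂ := ⟨hx₂X₁, hx₂n⟩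
      rw [hbot, Subgroup.mem_bot] at this
      apply hn
      rw [← ho₂]
      exact orderOf_dvd_of_pow_eq_one this
    · have hyX₂ : y ∈ X₂ := by rw [← h]; exact Subgroup.mem_zpowers y
      have hx₁X₂ : x₁ ∈ X₂ := by
        have : x₁ = y * (x₂ ^ n)⁻¹ := by rw [hy]; group
        rw [this]
        exact X₂.mul_mem hyX₂ (X₂.inv_mem hx₂n)
      have : x₁ ∈ X₁ ⊓ X₂ := ⟨hx₁X, hx₁X₂⟩
      rw [hbot, Subgroup.mem_bot] at this
      exact hx₁ne this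
  have d : Data p q (P : Subgroup S) x₁ x₂ :=
    ⟨hpq, P.isPGroup', hx₁q, hx₂q, hcomm, hdiag⟩
  have hN : ∀ x : S, x ∈ Subgroup.normalizer ((P : Subgroup S) : Set S) := by
    intro x
    rw [Subgroup.normalizer_eq_top]
    exact Subgroup.mem_top x
  obtain ⟨hm1, hm2⟩ := d.main _ (P : Subgroup S) rfl le_rfl (hN x₁) (hN x₂)
  have e1 : Subgroup.centralizer (X₁ : Set S) = Subgroup.centralizer {x₁} := by
    rw [hX₁]; exact centralizer_zpowers_eq x₁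
  have e2 : Subgroup.centralizer (X₂ : Set S) = Subgroup.centralizer {x₂} := by
    rw [hX₂]; exact centralizer_zpowers_eq x₂
  rw [e1, e2]
  refine ⟨hm1, ?_, hm2⟩
  rw [eq_bot_iff, ← d.inf_eq_bot]
  rintro y ⟨⟨hyP, hy1⟩, ⟨_, hy2⟩⟩
  exact ⟨⟨hyP, hy1⟩, hy2⟩

end Cfsg.Agent.S1900
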