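import Cfsg.Statements.S3028
import Cfsg.Agent.Lib.Helper50.SylowJoin

set_option autoImplicit false
open Cfsg

namespace Cfsg.Agent.S3028

open Cfsg.Agent.Lib.Helper50 Cfsg.Agent.Lib.Helper91

/-- Let G be a finite group, p a prime, S a Sylow p-subgroup of G and A₁, A₂ subnormal subgroups of G. Then the join of S ∩ A₁ and S ∩ A₂ is a Sylow p-subgroup of the join of A₁ and A₂; equivalently ⟨A₁, A₂⟩ ∩ S = ⟨A₁ ∩ S, A₂ ∩ S⟩. -/
theorem result {G : Type*} [Group G] [Finite G] {p : ℕ} [Fact p.Prime] (S : Sylow p G) (A₁ A₂ : Subgroup G)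
    (h₁ : A₁.IsSubnormal) (h₂ : A₂.IsSubnormal) :
    (A₁ ⊔ A₂) ⊓ (S : Subgroup G) = (A₁ ⊓ (S : Subgroup G)) ⊔ (A₂ ⊓ (S : Subgroup G)) := by
  have hp : p.Prime := Fact.out
  have hJ : (A₁ ⊔ A₂).IsSubnormal := isSubnormal_sup h₁ h₂
  have hTS : (A₁ ⊓ (S : Subgroup G)) ⊔ (A₂ ⊓ (S : Subgroup G)) ≤ (S : Subgroup G) :=
    sup_le inf_le_right inf_le_right
  have hTJ : (A₁ ⊓ (S : Subgroup G)) ⊔ (A₂ ⊓ (S : Subgroup G)) ≤ A₁ ⊔ A₂ :=
    sup_le (inf_le_left.trans le_sup_left) (inf_le_left.trans le_sup_right)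
  have hTJS : (A₁ ⊓ (S : Subgroup G)) ⊔ (A₂ ⊓ (S : Subgroup G)) ≤ (A₁ ⊔ A₂) ⊓ (S : Subgroup G) :=
    le_inf hTJ hTS
  apply le_antisymm _ hTJS
  have hcore : ¬ p ∣ ((A₁ ⊓ (S : Subgroup G)) ⊔ (A₂ ⊓ (S : Subgroup G))).relIndex (A₁ ⊔ A₂) := by
    have h := sylow_join_core p (Nat.card ↥(A₁ ⊔ A₂)) ↥(A₁ ⊔ A₂) le_rfl
      (A₁.subgroupOf (A₁ ⊔ A₂)) (A₂.subgroupOf (A₁ ⊔ A₂))
      ((A₁ ⊓ (S : Subgroup G)).subgroupOf (A₁ ⊔ A₂)) ((A₂ ⊓ (S : Subgroup G)).subgroupOf (A₁ ⊔ A₂))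
      h₁.subgroupOf h₂.subgroupOf
      (by rw [← Subgroup.subgroupOf_sup le_sup_left le_sup_right, Subgroup.subgroupOf_self])
      (fun x hx => hx.1) (fun x hx => hx.1)
      (by
        rw [Subgroup.relIndex_subgroupOf (le_sup_left : A₁ ≤ A₁ ⊔ A₂), Subgroup.inf_relIndex_left]
        exact not_dvd_relIndex_of_isSubnormal S h₁)
      (by
        rw [Subgroup.relIndex_subgroupOf (le_sup_right : A₂ ≤ A₁ ⊔ A₂), Subgroup.inf_relIndex_left]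
        exact not_dvd_relIndex_of_isSubnormal S h₂)
      (by
        rw [← Subgroup.subgroupOf_sup (inf_le_left.trans le_sup_left)
          (inf_le_left.trans le_sup_right)]
        exact (S.2.to_le hTS).comap_subtype)
    rw [← Subgroup.subgroupOf_sup (inf_le_left.trans le_sup_left)
      (inf_le_left.trans le_sup_right)] at h
    exact h
  have hmul := Subgroup.relIndex_mul_relIndex _ _ _ hTJS (inf_le_left : (A₁ ⊔ A₂) ⊓ (S : Subgroup G) ≤ A₁ ⊔ A₂)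
  have hpg : IsPGroup p ↥((A₁ ⊔ A₂) ⊓ (S : Subgroup G) : Subgroup G) := S.2.to_le inf_le_right
  obtain ⟨k, hk⟩ := hpg.index (((A₁ ⊓ (S : Subgroup G)) ⊔ (A₂ ⊓ (S : Subgroup G))).subgroupOf
    ((A₁ ⊔ A₂) ⊓ (S : Subgroup G)))
  have hk' : ((A₁ ⊓ (S : Subgroup G)) ⊔ (A₂ ⊓ (S : Subgroup G))).relIndex
      ((A₁ ⊔ A₂) ⊓ (S : Subgroup G)) = p ^ k := hk
  have hk0 : k = 0 := by
    by_contra hne
    apply hcore
    rw [← hmul, hk']
    exact Dvd.dvd.mul_right (dvd_pow_self p hne) _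
  rw [hk0, pow_zero] at hk'
  exact Subgroup.relIndex_eq_one.1 hk'

end Cfsg.Agent.S3028
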