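import Cfsg.Statements.S5344
import Cfsg.Agent.Lib.Helper89.S4Lift

set_option autoImplicit false
open Cfsg

namespace Cfsg.Agent.S5344

theorem braid_of_cube {G : Type*} [Group G] {x y : G} (hx : x * x = 1) (hy : y * y = 1)
    (h : (x * y) ^ 3 = 1) : y * (x * y) = x * (y * x) := by
  have hxinv : x⁻¹ = x := inv_eq_of_mul_eq_one_right hx
  have hyinv : y⁻¹ = y := inv_eq_of_mul_eq_one_right hy
  have h1 : (x * y) * (x * y) = y * x := by
    have : (x * y) * (x * y) = (x * y)⁻¹ := by
      apply eq_inv_of_mul_eq_one_left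
      rw [← h, pow_succ, pow_two]
    rw [this, mul_inv_rev, hxinv, hyinv]
  calc y * (x * y) = (x * x) * (y * (x * y)) := by rw [hx, one_mul]
    _ = x * ((x * y) * (x * y)) := by group
    _ = x * (y * x) := by rw [h1]

theorem commute_of_sq {G : Type*} [Group G] {x y : G} (hx : x * x = 1) (hy : y * y = 1)
    (h : (x * y) ^ 2 = 1) : Commute x y := by
  have hxinv : x⁻¹ = x := inv_eq_of_mul_eq_one_right hx
  have hyinv : y⁻¹ = y := inv_eq_of_mul_eq_one_right hy
  show x * y = y * x
  have : x * y = (x * y)⁻¹ := by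
    apply eq_inv_of_mul_eq_one_left
    rw [← pow_two]; exact h
  rw [this, mul_inv_rev, hxinv, hyinv]

/-- In a set of 3-transpositions, let a, b, c be members with a and c different and commuting, while neither a nor c commutes with b (a 3-string). Then there is an injective homomorphism from the symmetric group of degree 4 into the ambient group sending the transpositions (0 1), (1 2), (2 3) to a, b, c; so a, b, c generate a copy of the symmetric group of degree 4 in which they are transpositions. -/
theorem result {G : Type*} [Group G] {D : Set G} (hD : Cfsg.IsThreeTranspositionSet D) {a b c : G} (ha : a ∈ D) (hb : b ∈ D) (hc : c ∈ D) (hac : a ≠ c) (hac' : Commute a c) (hab : ¬ Commute a b) (hbc : ¬ Commute b c) : ∃ φ : Equiv.Perm (Fin 4) →* G, Function.Injective φ ∧ φ (Equiv.swap 0 1) = a ∧ φ (Equiv.swap 1 2) = b ∧ φ (Equiv.swap 2 3) = c := by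
  obtain ⟨hord, h23⟩ := hD
  have hsq : ∀ x ∈ D, x * x = 1 := by
    intro x hx
    have := hord x hx
    rw [← pow_two, ← this, pow_orderOf_eq_one]
  have aa := hsq a ha
  have bb := hsq b hb
  have cc := hsq c hc
  have ca : c * a = a * c := hac'.eq.symm
  have bab : b * (a * b) = a * (b * a) := by
    rcases h23 a ha b hb with h | h
    · exact absurd (commute_of_sq aa bb h) hab
    · exact braid_of_cube aa bb h
  have cbc : c * (b * c) = b * (c * b) := by
    rcases h23 b hb c hc with h | h
    · exact absurd (commute_of_sq bb cc h) hbc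
    · exact braid_of_cube bb cc h
  have hainv : a⁻¹ = a := inv_eq_of_mul_eq_one_right aa
  refine ⟨Cfsg.Agent.Lib.Helper89.s4Lift a b c aa bb cc ca bab cbc, ?_,
    Cfsg.Agent.Lib.Helper89.s4Lift_swap01 a b c aa bb cc ca bab cbc,
    Cfsg.Agent.Lib.Helper89.s4Lift_swap12 a b c aa bb cc ca bab cbc,
    Cfsg.Agent.Lib.Helper89.s4Lift_swap23 a b c aa bb cc ca bab cbc⟩
  apply Cfsg.Agent.Lib.Helper89.s4_hom_injective
  · rw [Cfsg.Agent.Lib.Helper89.s4Lift_swap01]
    intro h
    have := hord a ha
    rw [h, orderOf_one] at this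
    omega
  · rw [map_mul, Cfsg.Agent.Lib.Helper89.s4Lift_swap01, Cfsg.Agent.Lib.Helper89.s4Lift_swap23]
    intro h
    apply hac
    have := eq_inv_of_mul_eq_one_left h
    rw [this, inv_inv] at hainv
    rw [this]
    exact (inv_eq_of_mul_eq_one_right cc)
  · rw [map_mul, Cfsg.Agent.Lib.Helper89.s4Lift_swap01, Cfsg.Agent.Lib.Helper89.s4Lift_swap12]
    intro h
    apply hab
    have := eq_inv_of_mul_eq_one_left h
    rw [this]
    exact (Commute.refl b).inv_left

end Cfsg.Agent.S5344
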