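import Cfsg.Statements.S5349
import Cfsg.Agent.S5344
import Cfsg.Agent.Lib.Helper84.PCore

set_option autoImplicit false
open Cfsg

namespace Cfsg.Agent.S5349

variable {G : Type*} [Group G]

/-- `v` commutes with exactly the same members of `D` as `x` -/
def SameC (D : Set G) (x v : G) : Prop := ∀ e ∈ D, Commute v e ↔ Commute x e

theorem sameC_refl (D : Set G) (x : G) : SameC D x x := fun _ _ => Iff.rfl

theorem sameC_symm {D : Set G} {x v : G} (h : SameC D x v) : SameC D v x := fun e he => (h e he).symm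

theorem sameC_trans {D : Set G} {x v w : G} (h1 : SameC D x v) (h2 : SameC D v w) : SameC D x w :=
  fun e he => (h2 e he).trans (h1 e he)

theorem commute_conj_iff (g v e : G) : Commute (g * v * g⁻¹) e ↔ Commute v (g⁻¹ * e * g) := by
  have h : e = g * (g⁻¹ * e * g) * g⁻¹ := by group
  constructor
  · intro hc
    rw [h] at hc
    exact (Commute.conj_iff g).mp hc
  · intro hc
    rw [h]
    exact (Commute.conj_iff g).mpr hc

theorem sameC_conj {D : Set G} (hconj : ∀ g : G, ∀ d ∈ D, g * d * g⁻¹ ∈ D) {x v : G} (h : SameC D x v) (g : G) :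
    SameC D (g * x * g⁻¹) (g * v * g⁻¹) := by
  intro e he
  rw [commute_conj_iff, commute_conj_iff]
  apply h
  have := hconj g⁻¹ e he
  rwa [inv_inv] at this

theorem s4_id1 : (Equiv.swap (0 : Fin 4) 1 * Equiv.swap 1 2 * Equiv.swap 2 3) * Equiv.swap 0 1 *
    (Equiv.swap (0 : Fin 4) 1 * Equiv.swap 1 2 * Equiv.swap 2 3)⁻¹ = Equiv.swap 1 2 := by decide

theorem s4_id2 : (Equiv.swap (0 : Fin 4) 1 * Equiv.swap 1 2 * Equiv.swap 2 3) * Equiv.swap 2 3 *
    (Equiv.swap (0 : Fin 4) 1 * Equiv.swap 1 2 * Equiv.swap 2 3)⁻¹ =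
    (Equiv.swap (0 : Fin 4) 1 * Equiv.swap 2 3) * Equiv.swap 1 2 * (Equiv.swap (0 : Fin 4) 1 * Equiv.swap 2 3)⁻¹ := by
  decide

theorem sq_one_of_mem {D : Set G} (hD : Cfsg.IsThreeTranspositionSet D) {x : G} (hx : x ∈ D) : x * x = 1 := by
  have := hD.1 x hx
  rw [← pow_two, ← this, pow_orderOf_eq_one]

/-- Claim E: conjugating `x` by `y * w` with `w` in the class of `y` stays in the class of `x`. -/
theorem conj_sameC {D : Set G} (hD : Cfsg.IsThreeTranspositionSet D)
    (hconj : ∀ g : G, ∀ d ∈ D, g * d * g⁻¹ ∈ D) {y w x : G} (hy : y ∈ D) (hw : w ∈ D) (hx : x ∈ D)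
    (h : SameC D y w) : SameC D x ((y * w) * x * (y * w)⁻¹) := by
  by_cases hyx : Commute y x
  · have hwx : Commute w x := (h x hx).mpr hyx
    have : (y * w) * x * (y * w)⁻¹ = x := by
      have hc : Commute (y * w) x := hyx.mul_left hwx
      rw [hc.eq, mul_assoc, mul_inv_cancel, mul_one]
    rw [this]
    exact sameC_refl D x
  · have hwx : ¬ Commute w x := fun hc => hyx ((h x hx).mp hc)
    by_cases hwy : w = y
    · subst hwy
      rw [sq_one_of_mem hD hw]
      simp only [one_mul, inv_one, mul_one]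
      exact sameC_refl D x
    · have hyw : Commute y w := ((h y hy).mpr (Commute.refl y)).symm
      obtain ⟨φ, -, h01, h12, h23⟩ :=
        Cfsg.Agent.S5344.result hD hy hx hw (Ne.symm hwy) hyw hyx (fun hc => hwx hc.symm)
      have e1 : (y * x * w) * y * (y * x * w)⁻¹ = x := by
        have := congrArg φ s4_id1
        simpa only [map_mul, map_inv, h01, h12, h23] using this
      have e2 : (y * x * w) * w * (y * x * w)⁻¹ = (y * w) * x * (y * w)⁻¹ := by
        have := congrArg φ s4_id2
        simpa only [map_mul, map_inv, h01, h12, h23] using this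
      have := sameC_conj hconj h (y * x * w)
      rwa [e1, e2] at this

theorem commute_of_sq {x y : G} (hx : x * x = 1) (hy : y * y = 1) (h : (x * y) * (x * y) = 1) :
    Commute x y := by
  have hxinv : x⁻¹ = x := inv_eq_of_mul_eq_one_right hx
  have hyinv : y⁻¹ = y := inv_eq_of_mul_eq_one_right hy
  show x * y = y * x
  have : x * y = (x * y)⁻¹ := eq_inv_of_mul_eq_one_left h
  rw [this, mul_inv_rev, hxinv, hyinv]

/-- closure of commuting involutions is a 2-group -/
theorem isPGroup_closure {E : Set G} (hsq : ∀ a ∈ E, a * a = 1)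
    (hcomm : ∀ a ∈ E, ∀ b ∈ E, a * b = b * a) : IsPGroup 2 (Subgroup.closure E) := by
  have hc : IsMulCommutative (Subgroup.closure E) := Subgroup.isMulCommutative_closure hcomm
  have key : ∀ y (hy : y ∈ Subgroup.closure E), y * y = 1 := by
    intro y hy
    induction hy using Subgroup.closure_induction with
    | mem x hx => exact hsq x hx
    | one => simp
    | mul x y hx hy ihx ihy =>
      have hxy : x * y = y * x := by
        have := (isMulCommutative_iff.mp hc) ⟨x, hx⟩ ⟨y, hy⟩
        exact congrArg Subtype.val this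
      calc x * y * (x * y) = x * (y * x) * y := by group
        _ = x * (x * y) * y := by rw [hxy]
        _ = (x * x) * (y * y) := by group
        _ = 1 := by rw [ihx, ihy, one_mul]
    | inv x hx ih =>
      have : x⁻¹ = x := inv_eq_of_mul_eq_one_right ih
      rw [this, ih]
  intro g
  refine ⟨1, ?_⟩
  apply Subtype.ext
  rw [pow_one, pow_two]
  simpa using key g.1 g.2

/-- a finite family of pairwise normalizing `p`-subgroups generates a `p`-group -/
theorem isPGroup_iSup {ι : Type*} [Finite ι] {p : ℕ} (A : ι → Subgroup G) (hA : ∀ i, IsPGroup p (A i))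
    (hN : ∀ i j, A i ≤ Subgroup.normalizer (A j : Set G)) : IsPGroup p (⨆ i, A i : Subgroup G) := by
  classical
  have := Fintype.ofFinite ι
  have key : ∀ s : Finset ι, IsPGroup p (⨆ i ∈ s, A i : Subgroup G) := by
    intro s
    induction s using Finset.induction_on with
    | empty =>
      have : (⨆ i ∈ (∅ : Finset ι), A i : Subgroup G) = ⊥ := by simp
      rw [this]
      exact IsPGroup.of_bot
    | insert a s _ ih =>
      rw [Finset.iSup_insert]
      apply IsPGroup.to_sup_of_normal_right' (hA a) ih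
      have h1 : A a ≤ ⨅ i, Subgroup.normalizer ((⨆ (_ : i ∈ s), A i : Subgroup G) : Set G) :=
        le_iInf fun i => (le_iInf fun _ => hN a i).trans (Subgroup.iInf_normalizer_le_normalizer_iSup _)
      exact h1.trans (Subgroup.iInf_normalizer_le_normalizer_iSup _)
  have h2 : (⨆ i, A i : Subgroup G) = ⨆ i ∈ (Finset.univ : Finset ι), A i := by simp
  rw [h2]
  exact key Finset.univ

/-- the closure of a conjugation invariant set is normal -/
theorem closure_normal {T : Set G} (hT : ∀ g : G, ∀ t ∈ T, g * t * g⁻¹ ∈ T) : (Subgroup.closure T).Normal := by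
  constructor
  intro n hn g
  induction hn using Subgroup.closure_induction with
  | mem x hx => exact Subgroup.subset_closure (hT g x hx)
  | one => simp
  | mul x y _ _ ihx ihy =>
    have : g * (x * y) * g⁻¹ = (g * x * g⁻¹) * (g * y * g⁻¹) := by group
    rw [this]; exact mul_mem ihx ihy
  | inv x _ ih =>
    have : g * x⁻¹ * g⁻¹ = (g * x * g⁻¹)⁻¹ := by group
    rw [this]; exact inv_mem ih

/-- generators of the 2-group attached to `x` -/
def gens (D : Set G) (x : G) : Set G := {t | x ∈ D ∧ ∃ v ∈ D, SameC D x v ∧ t = x * v}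

theorem commute_of_sameC {D : Set G} {x v : G} (hx : x ∈ D) (h : SameC D x v) : Commute x v :=
  ((h x hx).mpr (Commute.refl x)).symm

theorem commute_of_sameC' {D : Set G} {x v v' : G} (hx : x ∈ D) (hv : v ∈ D) (h : SameC D x v)
    (h' : SameC D x v') : Commute v v' :=
  ((h' v hv).mpr (commute_of_sameC hx h)).symm

theorem gens_sq {D : Set G} (hD : Cfsg.IsThreeTranspositionSet D) {x t : G} (ht : t ∈ gens D x) : t * t = 1 := by
  obtain ⟨hx, v, hv, hs, rfl⟩ := ht
  have hc := commute_of_sameC hx hs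
  calc x * v * (x * v) = x * (v * x) * v := by group
    _ = x * (x * v) * v := by rw [hc.eq]
    _ = (x * x) * (v * v) := by group
    _ = 1 := by rw [sq_one_of_mem hD hx, sq_one_of_mem hD hv, one_mul]

theorem gens_comm {D : Set G} {x t t' : G} (ht : t ∈ gens D x) (ht' : t' ∈ gens D x) :
    t * t' = t' * t := by
  obtain ⟨hx, v, hv, hs, rfl⟩ := ht
  obtain ⟨-, v', hv', hs', rfl⟩ := ht'
  have h1 := commute_of_sameC hx hs
  have h2 := commute_of_sameC hx hs'
  have h3 := commute_of_sameC' hx hv hs hs'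
  have hA : Commute (x * v) (x * v') := by
    apply Commute.mul_left
    · exact (Commute.refl x).mul_right h2
    · exact h1.symm.mul_right h3
  exact hA.eq

theorem gens_conj {D : Set G} (hconj : ∀ g : G, ∀ d ∈ D, g * d * g⁻¹ ∈ D) {x t : G} (g : G)
    (ht : t ∈ gens D x) : g * t * g⁻¹ ∈ gens D (g * x * g⁻¹) := by
  obtain ⟨hx, v, hv, hs, rfl⟩ := ht
  refine ⟨hconj g x hx, g * v * g⁻¹, hconj g v hv, sameC_conj hconj hs g, ?_⟩
  group

/-- conjugating a generator attached to `x` by a generator attached to `y` stays in the group attached to `x` -/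
theorem conj_gens_mem {D : Set G} (hD : Cfsg.IsThreeTranspositionSet D)
    (hconj : ∀ g : G, ∀ d ∈ D, g * d * g⁻¹ ∈ D) {x y t s : G} (ht : t ∈ gens D y) (hs : s ∈ gens D x) :
    t * s * t⁻¹ ∈ Subgroup.closure (gens D x) := by
  obtain ⟨hy, w, hw, hyw, rfl⟩ := ht
  obtain ⟨hx, v, hv, hxv, rfl⟩ := hs
  have h1 : SameC D x ((y * w) * x * (y * w)⁻¹) := conj_sameC hD hconj hy hw hx hyw
  have h2 : SameC D x ((y * w) * v * (y * w)⁻¹) := sameC_trans hxv (conj_sameC hD hconj hy hw hv hyw)
  have m1 : x * ((y * w) * x * (y * w)⁻¹) ∈ gens D x := ⟨hx, _, hconj _ x hx, h1, rfl⟩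
  have m2 : x * ((y * w) * v * (y * w)⁻¹) ∈ gens D x := ⟨hx, _, hconj _ v hv, h2, rfl⟩
  have hv1 : ((y * w) * x * (y * w)⁻¹) * ((y * w) * x * (y * w)⁻¹) = 1 := sq_one_of_mem hD (hconj _ x hx)
  have hv1inv : ((y * w) * x * (y * w)⁻¹)⁻¹ = (y * w) * x * (y * w)⁻¹ := inv_eq_of_mul_eq_one_right hv1
  have e : (y * w) * (x * v) * (y * w)⁻¹ =
      (x * ((y * w) * x * (y * w)⁻¹))⁻¹ * (x * ((y * w) * v * (y * w)⁻¹)) := by
    obtain ⟨t, ht⟩ : ∃ t, t = y * w := ⟨_, rfl⟩
    rw [← ht] at hv1inv ⊢
    calc t * (x * v) * t⁻¹ = (t * x * t⁻¹) * (t * v * t⁻¹) := by group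
      _ = (t * x * t⁻¹)⁻¹ * (t * v * t⁻¹) := by rw [hv1inv]
      _ = _ := by group
  rw [e]
  exact mul_mem (inv_mem (Subgroup.subset_closure m1)) (Subgroup.subset_closure m2)

theorem gens_le_normalizer {D : Set G} (hD : Cfsg.IsThreeTranspositionSet D)
    (hconj : ∀ g : G, ∀ d ∈ D, g * d * g⁻¹ ∈ D) (x y : G) :
    Subgroup.closure (gens D y) ≤ Subgroup.normalizer ((Subgroup.closure (gens D x) : Subgroup G) : Set G) := by
  rw [Subgroup.closure_le]
  intro t ht
  have fwd : ∀ h ∈ Subgroup.closure (gens D x), t * h * t⁻¹ ∈ Subgroup.closure (gens D x) := by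
    intro h hh
    induction hh using Subgroup.closure_induction with
    | mem s hs => exact conj_gens_mem hD hconj ht hs
    | one => simp
    | mul a b _ _ iha ihb =>
      have : t * (a * b) * t⁻¹ = (t * a * t⁻¹) * (t * b * t⁻¹) := by group
      rw [this]; exact mul_mem iha ihb
    | inv a _ ih =>
      have : t * a⁻¹ * t⁻¹ = (t * a * t⁻¹)⁻¹ := by group
      rw [this]; exact inv_mem ih
  have htt : t * t = 1 := gens_sq hD ht
  have htinv : t⁻¹ = t := inv_eq_of_mul_eq_one_right htt
  show t ∈ Subgroup.normalizer _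
  rw [Subgroup.mem_normalizer_iff]
  intro h
  constructor
  · exact fwd h
  · intro hh
    have := fwd _ hh
    have e : t * (t * h * t⁻¹) * t⁻¹ = h := by
      rw [htinv]
      calc t * (t * h * t) * t = (t * t) * h * (t * t) := by group
        _ = h := by rw [htt, one_mul, mul_one]
    rwa [e] at this

/-- the subgroup generated by all the products `x * v` -/
def M (D : Set G) : Subgroup G := ⨆ x : G, Subgroup.closure (gens D x)

theorem M_isPGroup [Finite G] {D : Set G} (hD : Cfsg.IsThreeTranspositionSet D)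
    (hconj : ∀ g : G, ∀ d ∈ D, g * d * g⁻¹ ∈ D) : IsPGroup 2 (M D) := by
  apply isPGroup_iSup
  · intro x
    exact isPGroup_closure (fun a ha => gens_sq hD ha) (fun a ha b hb => gens_comm ha hb)
  · intro y x
    exact gens_le_normalizer hD hconj x y

theorem M_normal {D : Set G} (hconj : ∀ g : G, ∀ d ∈ D, g * d * g⁻¹ ∈ D) : (M D).Normal := by
  have : M D = Subgroup.closure (⋃ x : G, gens D x) := by
    unfold M
    rw [Subgroup.closure_iUnion]
  rw [this]
  apply closure_normal
  intro g t ht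
  rw [Set.mem_iUnion] at ht ⊢
  obtain ⟨x, hx⟩ := ht
  exact ⟨g * x * g⁻¹, gens_conj hconj g hx⟩

theorem mem_M {D : Set G} {x v : G} (hx : x ∈ D) (hv : v ∈ D) (h : SameC D x v) : x * v ∈ M D := by
  have h1 : x * v ∈ Subgroup.closure (gens D x) := Subgroup.subset_closure ⟨hx, v, hv, h, rfl⟩
  exact (le_iSup (fun x : G => Subgroup.closure (gens D x)) x) h1

theorem s4_id3 : ((Equiv.swap (0 : Fin 4) 1 * Equiv.swap 2 3) * (Equiv.swap 1 2 *
      ((Equiv.swap (0 : Fin 4) 1 * Equiv.swap 2 3) * Equiv.swap 1 2 * (Equiv.swap (0 : Fin 4) 1 * Equiv.swap 2 3)⁻¹))) *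
    Equiv.swap 0 1 *
    ((Equiv.swap (0 : Fin 4) 1 * Equiv.swap 2 3) * (Equiv.swap 1 2 *
      ((Equiv.swap (0 : Fin 4) 1 * Equiv.swap 2 3) * Equiv.swap 1 2 * (Equiv.swap (0 : Fin 4) 1 * Equiv.swap 2 3)⁻¹)))⁻¹ =
    Equiv.swap 2 3 := by decide

/-- Claim A: members of `D` in the same coset of a normal 2-subgroup have the same commuting partners -/
theorem commute_of_coset {D : Set G} (hD : Cfsg.IsThreeTranspositionSet D) (N : Subgroup G) [N.Normal]
    (hN : IsPGroup 2 N) {x v e : G} (hx : x ∈ D) (hv : v ∈ D) (he : e ∈ D) (hn : x⁻¹ * v ∈ N)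
    (hc : Commute x e) : Commute v e := by
  have hxx := sq_one_of_mem hD hx
  have hvv := sq_one_of_mem hD hv
  have hee := sq_one_of_mem hD he
  have hex : (e * x) * (e * x) = 1 := by
    calc e * x * (e * x) = e * (x * e) * x := by group
      _ = e * (e * x) * x := by rw [hc.eq]
      _ = (e * e) * (x * x) := by group
      _ = 1 := by rw [hee, hxx, one_mul]
  have h1 : (e * v) * (e * v) ∈ N := by
    have e1 : (e * v) * (e * v) = ((e * x) * (e * x)) * ((e * x)⁻¹ * (x⁻¹ * v) * (e * x)⁻¹⁻¹) * (x⁻¹ * v) := by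
      group
    rw [e1, hex, one_mul]
    exact N.mul_mem (‹N.Normal›.conj_mem _ hn _) hn
  have h2 : (e * v) * (e * v) = 1 := by
    rcases hD.2 e he v hv with h | h
    · rw [← pow_two]; exact h
    · -- (e v)^3 = 1, so (e v)^2 = (e v)⁻¹ ∈ N, so e v ∈ N
      have h3 : (e * v)⁻¹ = (e * v) * (e * v) := by
        apply inv_eq_of_mul_eq_one_right
        rw [← h, pow_succ, pow_two]; group
      have h4 : e * v ∈ N := by
        have := N.inv_mem h1
        rwa [← h3, inv_inv] at this
      obtain ⟨k, hk⟩ := hN ⟨e * v, h4⟩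
      have hk' : (e * v) ^ (2 ^ k) = 1 := by
        have := congrArg Subtype.val hk
        simpa using this
      have hd1 : orderOf (e * v) ∣ 2 ^ k := orderOf_dvd_of_pow_eq_one hk'
      have hd3 : orderOf (e * v) ∣ 3 := orderOf_dvd_of_pow_eq_one h
      have hcop : Nat.Coprime (2 ^ k) 3 := by
        apply Nat.Coprime.pow_left
        decide
      have : orderOf (e * v) = 1 := Nat.eq_one_of_dvd_coprimes hcop hd1 hd3
      rw [orderOf_eq_one_iff] at this
      rw [this, one_mul]
  exact (commute_of_sq hee hvv h2).symm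

theorem mem_conjugatesOf_iff' {a x : G} : x ∈ conjugatesOf a ↔ IsConj a x := Iff.rfl

theorem result' {G : Type*} [Group G] [Finite G] {D : Set G} (hD : Cfsg.IsThreeTranspositionClass D) (hD2 : ∃ a ∈ D, ∃ b ∈ D, a ≠ b) {d : G} (hd : d ∈ D) :
    {v : G | v ∈ D ∧ SameC D d v} ⊆ {v : G | ∃ g ∈ Cfsg.pCore 2 G, v = g * d * g⁻¹} ∧
    {v : G | ∃ g ∈ Cfsg.pCore 2 G, v = g * d * g⁻¹} ⊆ {v : G | v ∈ D ∧ d⁻¹ * v ∈ Cfsg.pCore 2 G} ∧
    {v : G | v ∈ D ∧ d⁻¹ * v ∈ Cfsg.pCore 2 G} ⊆ {v : G | v ∈ D ∧ SameC D d v} := by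
  obtain ⟨hTS, ⟨d0, hd0, hDeq⟩, hgen⟩ := hD
  have hconj : ∀ g : G, ∀ x ∈ D, g * x * g⁻¹ ∈ D := by
    intro g x hx
    rw [hDeq, mem_conjugatesOf_iff'] at hx ⊢
    exact hx.trans (isConj_iff.mpr ⟨g, rfl⟩)
  have : Fact (Nat.Prime 2) := ⟨Nat.prime_two⟩
  have hNn : (Cfsg.pCore 2 G).Normal := Cfsg.Agent.Lib.Helper84.pCore_normal 2 G
  have hNp : IsPGroup 2 (Cfsg.pCore 2 G) := Cfsg.Agent.Lib.Helper84.pCore_isPGroup 2 G
  have hM : M D ≤ Cfsg.pCore 2 G :=
    Cfsg.Agent.Lib.Helper84.le_pCore (M_normal hconj) (M_isPGroup hTS hconj)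
  refine ⟨?_, ?_, ?_⟩
  · -- Claim C
    rintro v ⟨hv, hs⟩
    by_cases hvd : v = d
    · exact ⟨1, one_mem _, by rw [hvd]; group⟩
    · -- some member of D does not commute with d
      have hex : ∃ e ∈ D, ¬ Commute d e := by
        by_contra hcon
        push Not at hcon
        have hcen : ∀ g : G, g * d = d * g := by
          intro g
          have hg : g ∈ Subgroup.closure D := by rw [hgen]; trivial
          have hle : Subgroup.closure D ≤ Subgroup.centralizer {d} := by
            rw [Subgroup.closure_le]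
            intro e he
            rw [SetLike.mem_coe, Subgroup.mem_centralizer_singleton_iff]
            exact (hcon e he).eq.symm
          have := hle hg
          rw [Subgroup.mem_centralizer_singleton_iff] at this
          exact this
        have hall : ∀ x ∈ D, x = d := by
          intro x hx
          have h1 : IsConj d0 x := by rw [hDeq, mem_conjugatesOf_iff'] at hx; exact hx
          have h2 : IsConj d0 d := by rw [hDeq, mem_conjugatesOf_iff'] at hd; exact hd
          obtain ⟨g, hg⟩ := isConj_iff.mp (h2.symm.trans h1)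
          rw [← hg, hcen g, mul_assoc, mul_inv_cancel, mul_one]
        obtain ⟨a, ha, b, hb, hab⟩ := hD2
        exact hab ((hall a ha).trans (hall b hb).symm)
      obtain ⟨e, he, hde⟩ := hex
      have hve : ¬ Commute v e := fun hc => hde ((hs e he).mp hc)
      have hdv : Commute d v := commute_of_sameC hd hs
      obtain ⟨φ, -, h01, h12, h23⟩ :=
        Cfsg.Agent.S5344.result hTS hd he hv (Ne.symm hvd) hdv hde (fun hc => hve hc.symm)
      refine ⟨(d * v) * (e * ((d * v) * e * (d * v)⁻¹)), ?_, ?_⟩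
      · apply hM
        apply (M D).mul_mem (mem_M hd hv hs)
        exact mem_M he (hconj _ e he) (conj_sameC hTS hconj hd hv he hs)
      · have := congrArg φ s4_id3
        simp only [map_mul, map_inv, h01, h12, h23] at this
        exact this.symm
  · -- Claim B
    rintro v ⟨g, hg, rfl⟩
    refine ⟨hconj g d hd, ?_⟩
    have : d⁻¹ * (g * d * g⁻¹) = (d⁻¹ * g * d⁻¹⁻¹) * g⁻¹ := by group
    rw [this]
    exact (Cfsg.pCore 2 G).mul_mem (hNn.conj_mem g hg d⁻¹) ((Cfsg.pCore 2 G).inv_mem hg)
  · -- Claim A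
    rintro v ⟨hv, hn⟩
    refine ⟨hv, ?_⟩
    intro e he
    constructor
    · intro hc
      have hn' : v⁻¹ * d ∈ Cfsg.pCore 2 G := by
        have := (Cfsg.pCore 2 G).inv_mem hn
        rwa [mul_inv_rev, inv_inv] at this
      exact commute_of_coset hTS (Cfsg.pCore 2 G) hNp hv hd he hn' hc
    · intro hc
      exact commute_of_coset hTS (Cfsg.pCore 2 G) hNp hd hv he hn hc

/-- Let D be a conjugacy class of 3-transpositions generating the finite group G, with at least two members, and d a member of D. Then the set of members of D commuting with exactly the same members of D as d coincides with the set of members of D lying in the coset of d modulo the largest normal 2-subgroup of G, and also with the orbit of d under conjugation by that normal 2-subgroup. -/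
theorem result {G : Type*} [Group G] [Finite G] {D : Set G} (hD : Cfsg.IsThreeTranspositionClass D) (hD2 : ∃ a ∈ D, ∃ b ∈ D, a ≠ b) {d : G} (hd : d ∈ D) : {v : G | v ∈ D ∧ ∀ e ∈ D, Commute v e ↔ Commute d e} = {v : G | v ∈ D ∧ d⁻¹ * v ∈ Cfsg.pCore 2 G} ∧ {v : G | v ∈ D ∧ ∀ e ∈ D, Commute v e ↔ Commute d e} = {v : G | ∃ g ∈ Cfsg.pCore 2 G, v = g * d * g⁻¹} := by
  obtain ⟨h1, h2, h3⟩ := result' hD hD2 hd
  exact ⟨Set.Subset.antisymm (h1.trans h2) h3, Set.Subset.antisymm h1 (h2.trans h3)⟩

end Cfsg.Agent.S5349
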