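import Cfsg.Statements.S5350
import Cfsg.Agent.Lib.Helper46.Theta4

set_option autoImplicit false
open Cfsg

namespace Cfsg.Agent.S5350

/-- Let D be a conjugacy class of 3-transpositions generating the finite group G, with at least two members, and d a member of D. Then the set of members w of D whose commuting partners in D (other than w) are exactly those of d (other than d) coincides with the set of members of D lying in the coset of d modulo the largest normal 3-subgroup of G, and also with the orbit of d under conjugation by that normal 3-subgroup. -/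
theorem result {G : Type*} [Group G] [Finite G] {D : Set G} (hD : Cfsg.IsThreeTranspositionClass D) (hD2 : ∃ a ∈ D, ∃ b ∈ D, a ≠ b) {d : G} (hd : d ∈ D) : {w : G | w ∈ D ∧ {y : G | y ∈ D ∧ y ≠ d ∧ Commute d y} = {y : G | y ∈ D ∧ y ≠ w ∧ Commute w y}} = {w : G | w ∈ D ∧ d⁻¹ * w ∈ Cfsg.pCore 3 G} ∧ {w : G | w ∈ D ∧ {y : G | y ∈ D ∧ y ≠ d ∧ Commute d y} = {y : G | y ∈ D ∧ y ≠ w ∧ Commute w y}} = {w : G | ∃ g ∈ Cfsg.pCore 3 G, w = g * d * g⁻¹} := by
  obtain ⟨hT, ⟨d0, hd0, hcls⟩, hgen⟩ := hD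
  have hconj : ∀ g : G, ∀ x ∈ D, g * x * g⁻¹ ∈ D := by
    intro g x hx
    rw [hcls] at hx ⊢
    have hx' : IsConj d0 x := hx
    exact hx'.trans (isConj_iff.mpr ⟨g, rfl⟩)
  have key : ∀ w ∈ D, ({y : G | y ∈ D ∧ y ≠ d ∧ Commute d y} = {y : G | y ∈ D ∧ y ≠ w ∧ Commute w y}) ↔
      Cfsg.Agent.Lib.Helper46.Th D d w := by
    intro w hw
    rw [Set.ext_iff]
    constructor
    · intro h z hz
      have := h z
      simp only [Set.mem_setOf_eq, hz, true_and] at this
      exact this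
    · intro h z
      simp only [Set.mem_setOf_eq]
      constructor
      · rintro ⟨hz, h1⟩
        exact ⟨hz, (h z hz).mp h1⟩
      · rintro ⟨hz, h1⟩
        exact ⟨hz, (h z hz).mpr h1⟩
  have e1 : {w : G | w ∈ D ∧ {y : G | y ∈ D ∧ y ≠ d ∧ Commute d y} = {y : G | y ∈ D ∧ y ≠ w ∧ Commute w y}} =
      {w : G | w ∈ D ∧ d⁻¹ * w ∈ Cfsg.pCore 3 G} := by
    ext w
    simp only [Set.mem_setOf_eq]
    constructor
    · rintro ⟨hw, h⟩
      exact ⟨hw, (Cfsg.Agent.Lib.Helper46.th_iff_pCore hT hconj hd hw).mp ((key w hw).mp h)⟩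
    · rintro ⟨hw, h⟩
      exact ⟨hw, (key w hw).mpr ((Cfsg.Agent.Lib.Helper46.th_iff_pCore hT hconj hd hw).mpr h)⟩
  refine ⟨e1, ?_⟩
  rw [e1]
  ext w
  exact Cfsg.Agent.Lib.Helper46.pCore_coset_iff_orbit hT hconj hd

end Cfsg.Agent.S5350
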