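import Cfsg.Statements.S0160
import Cfsg.Agent.Lib.Helper81.Twist

set_option autoImplicit false
open Cfsg

namespace Cfsg.Agent.S0160

/-- A finite group has as many real-valued irreducible complex characters as conjugacy classes closed under taking inverses. -/
theorem result {G : Type*} [Group G] [Finite G] : Nat.card {χ : Cfsg.IrrCharacter G // ∀ g : G, ((χ : G → ℂ) g).im = 0} = Nat.card {C : ConjClasses G // ∀ g : G, ConjClasses.mk g = C → IsConj g g⁻¹} := by
  have h := Cfsg.Agent.Lib.Helper81.brauer_permutation (G := G)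
    (Cfsg.Agent.Lib.Helper81.irrConj G) (Cfsg.Agent.Lib.Helper81.classInv G) (by
      intro χ C
      obtain ⟨g, rfl⟩ := ConjClasses.exists_rep C
      rw [Cfsg.Agent.Lib.Helper81.classInv_mk, Cfsg.Agent.Lib.Helper81.irrAt_mk,
        Cfsg.Agent.Lib.Helper81.irrAt_mk, Cfsg.Agent.Lib.Helper81.irrConj_apply,
        Cfsg.Agent.Lib.Helper81.irr_inv_eq_conj, Complex.conj_conj])
  rw [← Nat.card_congr (Equiv.subtypeEquivRight
    (fun χ => Cfsg.Agent.Lib.Helper81.irrConj_eq_self_iff χ)),
    ← Nat.card_congr (Equiv.subtypeEquivRight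
    (fun C => Cfsg.Agent.Lib.Helper81.classInv_eq_self_iff C))]
  exact h

end Cfsg.Agent.S0160
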