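import Cfsg.Statements.S4911
import Cfsg.Agent.S4444
import Cfsg.Agent.Lib.Helper74.BF5
import Cfsg.Agent.Lib.Helper81.Twist
import Cfsg.Agent.Lib.Helper3.CharBasic

set_option autoImplicit false
open Cfsg

namespace Cfsg.Agent.S4911

open scoped ComplexConjugate

/-- A `p`-group acting by conjugation on a stable subset of cardinality prime to `p` has a fixed
point. -/
theorem exists_fixed_of_stable {G : Type*} [Group G] {p : ℕ} [Fact p.Prime] (P : Subgroup G)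
    (hP : IsPGroup p P) (T : Set G) (hT : ∀ x ∈ P, ∀ t ∈ T, x * t * x⁻¹ ∈ T)
    (hcard : ¬ p ∣ Nat.card T) : ∃ t ∈ T, ∀ x ∈ P, x * t * x⁻¹ = t := by
  let _ : MulAction P T :=
    { smul := fun x t => ⟨(x : G) * t * (x : G)⁻¹, hT x x.2 t t.2⟩
      one_smul := fun t => by
        apply Subtype.ext
        change ((1 : P) : G) * t * ((1 : P) : G)⁻¹ = t
        simp
      mul_smul := fun x y t => by
        apply Subtype.ext
        change ((x * y : P) : G) * t * ((x * y : P) : G)⁻¹ =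
          (x : G) * ((y : G) * t * (y : G)⁻¹) * (x : G)⁻¹
        simp [mul_assoc] }
  obtain ⟨t, ht⟩ := hP.nonempty_fixed_point_of_prime_not_dvd_card T hcard
  refine ⟨t, t.2, fun x hx => ?_⟩
  exact congrArg Subtype.val (ht ⟨x, hx⟩)

theorem card_conjSet_dvd {G : Type*} [Group G] [Finite G] (K : Subgroup G) (a : G) :
    Nat.card {g : G | ∃ k ∈ K, k * a * k⁻¹ = g} ∣ Nat.card K := by
  let _ : MulAction K G :=
    { smul := fun k g => (k : G) * g * (k : G)⁻¹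
      one_smul := fun t => by
        change ((1 : K) : G) * t * ((1 : K) : G)⁻¹ = t
        simp
      mul_smul := fun x y t => by
        change ((x * y : K) : G) * t * ((x * y : K) : G)⁻¹ =
          (x : G) * ((y : G) * t * (y : G)⁻¹) * (x : G)⁻¹
        simp [mul_assoc] }
  have h1 : {g : G | ∃ k ∈ K, k * a * k⁻¹ = g} = MulAction.orbit K a := by
    ext g; constructor
    · rintro ⟨k, hk, rfl⟩; exact ⟨⟨k, hk⟩, rfl⟩
    · rintro ⟨k, rfl⟩; exact ⟨k, k.2, rfl⟩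
  rw [h1, Nat.card_coe_set_eq, ← MulAction.index_stabilizer]
  exact Subgroup.index_dvd_card _

theorem card_transporter_dvd {G : Type*} [Group G] [Finite G] (K : Subgroup G) (a b k₀ : G)
    (hk₀ : k₀ ∈ K) (h : k₀ * a * k₀⁻¹ = b) :
    Nat.card {k : G | k ∈ K ∧ k * a * k⁻¹ = b} ∣ Nat.card K := by
  have hset : {k : G | k ∈ K ∧ k * a * k⁻¹ = b} =
      (fun z => k₀ * z) '' ((K ⊓ Subgroup.centralizer {a} : Subgroup G) : Set G) := by
    ext k; constructor
    · rintro ⟨hk, hkb⟩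
      refine ⟨k₀⁻¹ * k, Subgroup.mem_inf.2 ⟨K.mul_mem (K.inv_mem hk₀) hk, ?_⟩, by group⟩
      rw [Subgroup.mem_centralizer_iff]
      intro y hy
      rw [Set.mem_singleton_iff] at hy
      subst hy
      have h2 : k₀ * y * k₀⁻¹ = k * y * k⁻¹ := h.trans hkb.symm
      calc y * (k₀⁻¹ * k) = k₀⁻¹ * (k₀ * y * k₀⁻¹) * k := by group
        _ = k₀⁻¹ * (k * y * k⁻¹) * k := by rw [h2]
        _ = k₀⁻¹ * k * y := by group
    · rintro ⟨z, hz, rfl⟩
      obtain ⟨hzK, hzC⟩ := Subgroup.mem_inf.1 hz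
      refine ⟨K.mul_mem hk₀ hzK, ?_⟩
      have h2 := Subgroup.mem_centralizer_iff.1 hzC a (Set.mem_singleton a)
      calc k₀ * z * a * (k₀ * z)⁻¹ = k₀ * (z * a) * z⁻¹ * k₀⁻¹ := by group
        _ = k₀ * (a * z) * z⁻¹ * k₀⁻¹ := by rw [h2]
        _ = k₀ * a * k₀⁻¹ := by group
        _ = b := h
  rw [hset, Nat.card_image_of_injective (mul_right_injective k₀)]
  exact Subgroup.card_dvd_of_le inf_le_left

/-- Glauberman's lemma for `p`-groups: two `P`-fixed elements conjugate under `K` are conjugate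
under `C_K(P)`. -/
theorem conj_fixed {G : Type*} [Group G] [Finite G] {p : ℕ} [Fact p.Prime] (P K : Subgroup G)
    (hP : IsPGroup p P) (hK : ¬ p ∣ Nat.card K) (hPK : P ≤ Subgroup.normalizer (K : Set G))
    (a b : G) (ha : ∀ x ∈ P, x * a * x⁻¹ = a) (hb : ∀ x ∈ P, x * b * x⁻¹ = b) (k₀ : G)
    (hk₀ : k₀ ∈ K) (h : k₀ * a * k₀⁻¹ = b) :
    ∃ k ∈ K, (∀ x ∈ P, x * k * x⁻¹ = k) ∧ k * a * k⁻¹ = b := by
  obtain ⟨t, ⟨ht1, ht2⟩, ht3⟩ := exists_fixed_of_stable P hP {k : G | k ∈ K ∧ k * a * k⁻¹ = b}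
    (by
      rintro x hx k ⟨hk, hkb⟩
      refine ⟨(Subgroup.mem_normalizer_iff.1 (hPK hx) k).1 hk, ?_⟩
      have hax : x⁻¹ * a * x = a := by
        have := ha x⁻¹ (P.inv_mem hx)
        rwa [inv_inv] at this
      calc x * k * x⁻¹ * a * (x * k * x⁻¹)⁻¹ = x * (k * (x⁻¹ * a * x) * k⁻¹) * x⁻¹ := by group
        _ = x * b * x⁻¹ := by rw [hax, hkb]
        _ = b := hb x hx)
    (fun hdvd => hK (dvd_trans hdvd (card_transporter_dvd K a b k₀ hk₀ h)))
  exact ⟨t, ht1, ht3, ht2⟩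

theorem real_class_iff {H : Type*} [Group H] (a : H) :
    (∀ k : H, ConjClasses.mk k = ConjClasses.mk a → IsConj k k⁻¹) ↔ IsConj a a⁻¹ := by
  constructor
  · intro h; exact h a rfl
  · intro h k hk
    have hka : IsConj k a := ConjClasses.mk_eq_mk_iff_isConj.1 hk
    exact hka.trans (h.trans (Lib.Helper81.isConj_inv_inv hka.symm))

theorem isConj_sub_iff {G : Type*} [Group G] (H : Subgroup G) (a b : H) :
    IsConj a b ↔ ∃ k ∈ H, k * (a : G) * k⁻¹ = (b : G) := by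
  rw [isConj_iff]
  constructor
  · rintro ⟨c, hc⟩
    refine ⟨c, c.2, ?_⟩
    have := congrArg Subtype.val hc
    simpa using this
  · rintro ⟨k, hk, h⟩
    exact ⟨⟨k, hk⟩, Subtype.ext (by simpa using h)⟩

theorem exists_fixed_in_class {G : Type*} [Group G] [Finite G] {p : ℕ} [Fact p.Prime]
    (P K : Subgroup G) (hP : IsPGroup p P) (hK : ¬ p ∣ Nat.card K)
    (hPK : P ≤ Subgroup.normalizer (K : Set G)) (a₀ : K)
    (hinv : ∀ k : K, ConjClasses.mk k = ConjClasses.mk a₀ → ∀ x ∈ P, ∀ k' : K,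
      (k' : G) = x * (k : G) * x⁻¹ → ConjClasses.mk k' = ConjClasses.mk a₀) :
    ∃ t : K, ConjClasses.mk t = ConjClasses.mk a₀ ∧ ∀ x ∈ P, x * (t : G) * x⁻¹ = t := by
  have hnorm : ∀ x ∈ P, ∀ k ∈ K, x * k * x⁻¹ ∈ K := fun x hx k hk =>
    (Subgroup.mem_normalizer_iff.1 (hPK hx) k).1 hk
  obtain ⟨t, ⟨k₁, hk₁, hk₁t⟩, htfix⟩ := exists_fixed_of_stable P hP
    {y : G | ∃ k ∈ K, k * (a₀ : G) * k⁻¹ = y}
    (by
      rintro x hx y ⟨k, hk, rfl⟩
      have h1 : ConjClasses.mk (⟨k * (a₀ : G) * k⁻¹, K.mul_mem (K.mul_mem hk a₀.2)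
          (K.inv_mem hk)⟩ : K) = ConjClasses.mk a₀ := by
        rw [ConjClasses.mk_eq_mk_iff_isConj, isConj_sub_iff]
        exact ⟨k⁻¹, K.inv_mem hk, by simp only [inv_inv]; group⟩
      have h2 := hinv _ h1 x hx ⟨x * (k * (a₀ : G) * k⁻¹) * x⁻¹,
        hnorm x hx _ (K.mul_mem (K.mul_mem hk a₀.2) (K.inv_mem hk))⟩ rfl
      rw [ConjClasses.mk_eq_mk_iff_isConj] at h2
      obtain ⟨z, hz, hzk⟩ := (isConj_sub_iff K _ _).1 h2.symm
      exact ⟨z, hz, hzk⟩)
    (fun hdvd => hK (dvd_trans hdvd (card_conjSet_dvd K (a₀ : G))))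
  have htK : t ∈ K := by rw [← hk₁t]; exact K.mul_mem (K.mul_mem hk₁ a₀.2) (K.inv_mem hk₁)
  refine ⟨⟨t, htK⟩, ?_, htfix⟩
  rw [ConjClasses.mk_eq_mk_iff_isConj, isConj_sub_iff]
  refine ⟨k₁⁻¹, K.inv_mem hk₁, ?_⟩
  change k₁⁻¹ * t * k₁⁻¹⁻¹ = (a₀ : G)
  rw [← hk₁t]; group

theorem card_classes {G : Type*} [Group G] [Finite G] {p : ℕ} [Fact p.Prime] (P K : Subgroup G)
    (hP : IsPGroup p P) (hK : ¬ p ∣ Nat.card K) (hPK : P ≤ Subgroup.normalizer (K : Set G))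
    (C : Subgroup G) (hC : C = K ⊓ Subgroup.centralizer (P : Set G)) (hCK : C ≤ K) :
    Nat.card {c : ConjClasses C // ∀ k : C, ConjClasses.mk k = c → IsConj k k⁻¹} =
    Nat.card {c : ConjClasses K // (∀ k : K, ConjClasses.mk k = c → IsConj k k⁻¹) ∧
      ∀ k : K, ConjClasses.mk k = c → ∀ x ∈ P, ∀ k' : K, (k' : G) = x * (k : G) * x⁻¹ →
        ConjClasses.mk k' = c} := by
  have hfix : ∀ a : G, a ∈ C ↔ a ∈ K ∧ ∀ x ∈ P, x * a * x⁻¹ = a := by
    intro a
    subst hC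
    rw [Subgroup.mem_inf, Subgroup.mem_centralizer_iff]
    constructor
    · rintro ⟨h1, h2⟩
      exact ⟨h1, fun x hx => by rw [mul_inv_eq_iff_eq_mul]; exact h2 x hx⟩
    · rintro ⟨h1, h2⟩
      exact ⟨h1, fun x hx => by have := h2 x hx; rwa [mul_inv_eq_iff_eq_mul] at this⟩
  have hnorm : ∀ x ∈ P, ∀ k ∈ K, x * k * x⁻¹ ∈ K := fun x hx k hk =>
    (Subgroup.mem_normalizer_iff.1 (hPK hx) k).1 hk
  let g : ConjClasses C → ConjClasses K := ConjClasses.map (Subgroup.inclusion hCK)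
  have hg : ∀ a : C, g (ConjClasses.mk a) = ConjClasses.mk (Subgroup.inclusion hCK a) :=
    fun a => rfl
  -- injectivity
  have ginj : Function.Injective g := by
    intro c c' hcc
    obtain ⟨a, rfl⟩ := ConjClasses.exists_rep c
    obtain ⟨b, rfl⟩ := ConjClasses.exists_rep c'
    rw [hg, hg, ConjClasses.mk_eq_mk_iff_isConj, isConj_sub_iff] at hcc
    obtain ⟨k₀, hk₀, hk⟩ := hcc
    obtain ⟨k, hkK, hkfix, hkab⟩ := conj_fixed P K hP hK hPK (a : G) (b : G)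
      ((hfix a).1 a.2).2 ((hfix b).1 b.2).2 k₀ hk₀ hk
    rw [ConjClasses.mk_eq_mk_iff_isConj, isConj_sub_iff]
    exact ⟨k, (hfix k).2 ⟨hkK, hkfix⟩, hkab⟩
  -- forward
  have hfwd : ∀ c : ConjClasses C, (∀ k : C, ConjClasses.mk k = c → IsConj k k⁻¹) →
      (∀ k : K, ConjClasses.mk k = g c → IsConj k k⁻¹) ∧
      ∀ k : K, ConjClasses.mk k = g c → ∀ x ∈ P, ∀ k' : K, (k' : G) = x * (k : G) * x⁻¹ →
        ConjClasses.mk k' = g c := by
    intro c hc
    obtain ⟨a, rfl⟩ := ConjClasses.exists_rep c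
    rw [real_class_iff] at hc
    rw [hg]
    constructor
    · rw [real_class_iff]
      have := (Subgroup.inclusion hCK).map_isConj hc
      rwa [map_inv] at this
    · intro k hk x hx k' hk'
      rw [ConjClasses.mk_eq_mk_iff_isConj, isConj_sub_iff] at hk ⊢
      obtain ⟨z, hz, hzk⟩ := hk
      -- z * k * z⁻¹ = a
      refine ⟨x * z * x⁻¹, hnorm x hx z hz, ?_⟩
      have hax : x * (a : G) * x⁻¹ = a := ((hfix a).1 a.2).2 x hx
      rw [hk']
      have hzk' : z * (k : G) * z⁻¹ = (a : G) := hzk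
      calc x * z * x⁻¹ * (x * (k : G) * x⁻¹) * (x * z * x⁻¹)⁻¹
          = x * (z * (k : G) * z⁻¹) * x⁻¹ := by group
        _ = (a : G) := by rw [hzk', hax]
  -- backward
  have hbwd : ∀ d : ConjClasses K, (∀ k : K, ConjClasses.mk k = d → IsConj k k⁻¹) →
      (∀ k : K, ConjClasses.mk k = d → ∀ x ∈ P, ∀ k' : K, (k' : G) = x * (k : G) * x⁻¹ →
        ConjClasses.mk k' = d) →
      ∃ c : ConjClasses C, (∀ k : C, ConjClasses.mk k = c → IsConj k k⁻¹) ∧ g c = d := by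
    intro d hreal hinv
    obtain ⟨a₀, rfl⟩ := ConjClasses.exists_rep d
    obtain ⟨⟨t, htK⟩, hta₀, htfix⟩ := exists_fixed_in_class P K hP hK hPK a₀ hinv
    have htfix : ∀ x ∈ P, x * t * x⁻¹ = t := htfix
    have htC : t ∈ C := (hfix t).2 ⟨htK, htfix⟩
    refine ⟨ConjClasses.mk ⟨t, htC⟩, ?_, ?_⟩
    · rw [real_class_iff, isConj_sub_iff]
      have h3 : IsConj (⟨t, htK⟩ : K) (⟨t, htK⟩ : K)⁻¹ := hreal _ hta₀
      obtain ⟨k₀, hk₀, hk₀t⟩ := (isConj_sub_iff K _ _).1 h3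
      have hk₀t' : k₀ * t * k₀⁻¹ = t⁻¹ := by simpa using hk₀t
      obtain ⟨k, hkK, hkfix, hkt⟩ := conj_fixed P K hP hK hPK t t⁻¹ htfix
        (fun x hx => by
          have := htfix x hx
          calc x * t⁻¹ * x⁻¹ = (x * t * x⁻¹)⁻¹ := by group
            _ = t⁻¹ := by rw [this]) k₀ hk₀ hk₀t'
      exact ⟨k, (hfix k).2 ⟨hkK, hkfix⟩, by simpa using hkt⟩
    · rw [hg]
      exact hta₀
  refine Nat.card_congr (Equiv.ofBijective
    (fun c => ⟨g c.1, hfwd c.1 c.2⟩) ⟨?_, ?_⟩)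
  · intro c c' h
    exact Subtype.ext (ginj (congrArg Subtype.val h))
  · rintro ⟨d, hd1, hd2⟩
    obtain ⟨c, hc, hcd⟩ := hbwd d hd1 hd2
    exact ⟨⟨c, hc⟩, Subtype.ext hcd⟩

theorem classInner_conj {H : Type*} [Group H] [Fintype H] (f g : H → ℂ) :
    classInner (fun x => conj (f x)) (fun x => conj (g x)) = conj (classInner f g) := by
  unfold classInner
  rw [map_mul, map_inv₀, map_natCast, map_sum]
  congr 1
  apply Finset.sum_congr rfl
  intro x _
  rw [map_mul]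

theorem card_real_irr_eq_classes {H : Type*} [Group H] [Finite H] :
    Nat.card {χ : IrrCharacter H // ∀ g : H, ((χ : H → ℂ) g).im = 0} =
    Nat.card {c : ConjClasses H // ∀ g : H, ConjClasses.mk g = c → IsConj g g⁻¹} := by
  classical
  cases nonempty_fintype H
  have : Finite (IrrCharacter H) := Lib.Helper3.irrCharacter_finite
  cases nonempty_fintype (IrrCharacter H)
  rw [Lib.Helper74.card_real_irr, ← Lib.Helper74.card_realClasses]
  rw [Nat.card_eq_fintype_card, Fintype.card_subtype]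
  have : Finset.univ.filter (fun c : ConjClasses H =>
      ∀ g : H, ConjClasses.mk g = c → IsConj g g⁻¹) =
      insert (ConjClasses.mk 1) (Lib.Helper74.realClasses H) := by
    ext c
    simp only [Finset.mem_filter, Finset.mem_univ, true_and, Finset.mem_insert,
      Lib.Helper74.mem_realClasses]
    constructor
    · intro h
      by_cases h1 : c = ConjClasses.mk 1
      · exact Or.inl h1
      · exact Or.inr ⟨h, h1⟩
    · rintro (h | h)
      · subst h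
        intro g hg
        have hg1 : g = 1 := isConj_one_left.1 (ConjClasses.mk_eq_mk_iff_isConj.1 hg)
        subst hg1
        simp
      · exact h.1
  rw [this, Finset.card_insert_of_notMem]
  intro h
  exact ((Lib.Helper74.mem_realClasses _).mp h).2 rfl

theorem card_chars {G : Type*} [Group G] [Finite G] {p : ℕ} [Fact p.Prime] (P K : Subgroup G)
    (hP : IsPGroup p P) (hK : ¬ p ∣ Nat.card K) (hPK : P ≤ Subgroup.normalizer (K : Set G))
    (C : Subgroup G) (hC : C = K ⊓ Subgroup.centralizer (P : Set G)) (hCK : C ≤ K) :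
    Nat.card {θ : IrrCharacter K // (∀ k : K, ((θ : K → ℂ) k).im = 0) ∧
      (∀ x ∈ P, ∀ k k' : K, (k' : G) = x * (k : G) * x⁻¹ →
        (θ : K → ℂ) k' = (θ : K → ℂ) k)} =
    Nat.card {β : IrrCharacter C // ∀ c : C, ((β : C → ℂ) c).im = 0} := by
  classical
  cases nonempty_fintype G
  let _ : Fintype K := Fintype.ofFinite K
  let _ : Fintype C := Fintype.ofFinite C
  have hnorm : ∀ s ∈ P, ∀ g ∈ K, s * g * s⁻¹ ∈ K := fun x hx k hk =>
    (Subgroup.mem_normalizer_iff.1 (hPK hx) k).1 hk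
  have hcop : (Nat.card K).Coprime (Nat.card P) := by
    obtain ⟨n, hn⟩ := IsPGroup.iff_card.1 hP
    rw [hn]
    exact Nat.Coprime.pow_right n ((Nat.Prime.coprime_iff_not_dvd Fact.out).2 hK).symm
  obtain ⟨h1, -, h3, h4⟩ := Cfsg.Agent.S4444.result K P hnorm hcop p Fact.out hP C hC hCK
  have hci : ∀ (χ : IrrCharacter K) (β : IrrCharacter C),
      classInner (fun c : C => (Lib.Helper81.irrConj K χ : K → ℂ) ⟨c, hCK c.2⟩)
        (Lib.Helper81.irrConj C β : C → ℂ) =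
      conj (classInner (fun c : C => (χ : K → ℂ) ⟨c, hCK c.2⟩) (β : C → ℂ)) := fun χ β =>
    classInner_conj _ _
  -- the map
  have hΦ : ∀ θ : {θ : IrrCharacter K // (∀ k : K, ((θ : K → ℂ) k).im = 0) ∧
      (∀ x ∈ P, ∀ k k' : K, (k' : G) = x * (k : G) * x⁻¹ →
        (θ : K → ℂ) k' = (θ : K → ℂ) k)},
      ∃ β : IrrCharacter C, (∀ c : C, ((β : C → ℂ) c).im = 0) ∧ ∃ m : ℕ,
        classInner (fun c : C => (θ.1 : K → ℂ) ⟨c, hCK c.2⟩) (β : C → ℂ) = (m : ℂ) ∧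
          ¬ p ∣ m := by
    rintro ⟨θ, hre, hinv⟩
    obtain ⟨β, ⟨m, hm, hpm⟩, huniq⟩ := h1 θ hinv
    refine ⟨β, ?_, m, hm, hpm⟩
    have hθ : Lib.Helper81.irrConj K θ = θ := (Lib.Helper81.irrConj_eq_self_iff θ).2 hre
    have h5 : classInner (fun c : C => (θ : K → ℂ) ⟨c, hCK c.2⟩)
        (Lib.Helper81.irrConj C β : C → ℂ) = (m : ℂ) := by
      have := hci θ β
      rw [hθ, hm, Complex.conj_natCast] at this
      exact this
    have h6 := huniq (Lib.Helper81.irrConj C β) ⟨m, h5, hpm⟩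
    exact (Lib.Helper81.irrConj_eq_self_iff β).1 h6
  choose Φ hΦre hΦm using hΦ
  refine Nat.card_congr (Equiv.ofBijective (fun θ => ⟨Φ θ, hΦre θ⟩) ⟨?_, ?_⟩)
  · intro θ θ' h
    have hβ : Φ θ = Φ θ' := congrArg Subtype.val h
    obtain ⟨m, hm, hpm⟩ := hΦm θ
    obtain ⟨m', hm', hpm'⟩ := hΦm θ'
    rw [← hβ] at hm'
    exact Subtype.ext (h3 θ.1 θ'.1 θ.2.2 θ'.2.2 (Φ θ) m m' hm hpm hm' hpm')
  · rintro ⟨β, hβre⟩
    obtain ⟨χ, hinvχ, m, hm, hpm⟩ := h4 β
    have hβ : Lib.Helper81.irrConj C β = β := (Lib.Helper81.irrConj_eq_self_iff β).2 hβre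
    have hinv' : ∀ x ∈ P, ∀ k k' : K, (k' : G) = x * (k : G) * x⁻¹ →
        (Lib.Helper81.irrConj K χ : K → ℂ) k' = (Lib.Helper81.irrConj K χ : K → ℂ) k := by
      intro x hx k k' hk
      rw [Lib.Helper81.irrConj_apply, Lib.Helper81.irrConj_apply, hinvχ x hx k k' hk]
    have h5 : classInner (fun c : C => (Lib.Helper81.irrConj K χ : K → ℂ) ⟨c, hCK c.2⟩)
        (β : C → ℂ) = (m : ℂ) := by
      have := hci χ β
      rw [hβ, hm, Complex.conj_natCast] at this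
      exact this
    have hχ : Lib.Helper81.irrConj K χ = χ :=
      h3 (Lib.Helper81.irrConj K χ) χ hinv' hinvχ β m m h5 hpm hm hpm
    have hχre := (Lib.Helper81.irrConj_eq_self_iff χ).1 hχ
    refine ⟨⟨χ, hχre, hinvχ⟩, Subtype.ext ?_⟩
    obtain ⟨m', hm', hpm'⟩ := hΦm ⟨χ, hχre, hinvχ⟩
    obtain ⟨β', -, huniq⟩ := h1 χ hinvχ
    change Φ ⟨χ, hχre, hinvχ⟩ = β
    rw [huniq (Φ ⟨χ, hχre, hinvχ⟩) ⟨m', hm', hpm'⟩, huniq β ⟨m, hm, hpm⟩]

/-- Let P and K be subgroups of a finite group with P a p-group normalizing K and K of order prime to p. Then the number of P-invariant real-valued irreducible complex characters of K equals the number of conjugacy classes of K that are real (closed under inversion) and P-invariant. Moreover, if every real-valued irreducible character of K is P-invariant, then every real element of K (one conjugate in K to its inverse) is conjugate in K to an element centralized by P. -/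
theorem result {G : Type*} [Group G] [Finite G] (p : ℕ) [Fact p.Prime] (P K : Subgroup G) (hP : IsPGroup p ↥P) (hK : ¬ p ∣ Nat.card ↥K) (hPK : P ≤ Subgroup.normalizer (K : Set G)) : Nat.card {θ : Cfsg.IrrCharacter ↥K // (∀ k : ↥K, ((θ : ↥K → ℂ) k).im = 0) ∧ (∀ x ∈ P, ∀ k k' : ↥K, (k' : G) = x * (k : G) * x⁻¹ → (θ : ↥K → ℂ) k' = (θ : ↥K → ℂ) k)} = Nat.card {c : ConjClasses ↥K // (∀ k : ↥K, ConjClasses.mk k = c → IsConj k k⁻¹) ∧ ∀ k : ↥K, ConjClasses.mk k = c → ∀ x ∈ P, ∀ k' : ↥K, (k' : G) = x * (k : G) * x⁻¹ → ConjClasses.mk k' = c} ∧ ((∀ θ : Cfsg.IrrCharacter ↥K, (∀ k : ↥K, ((θ : ↥K → ℂ) k).im = 0) → (∀ x ∈ P, ∀ k k' : ↥K, (k' : G) = x * (k : G) * x⁻¹ → (θ : ↥K → ℂ) k' = (θ : ↥K → ℂ) k)) → ∀ k : ↥K, IsConj k k⁻¹ → ∃ k' : ↥K, IsConj k k' ∧ ∀ x ∈ P, x * (k' : G) * x⁻¹ = (k' : G)) := by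
  have hCK : K ⊓ Subgroup.centralizer (P : Set G) ≤ K := inf_le_left
  have part1 := (card_chars P K hP hK hPK _ rfl hCK).trans
    ((card_real_irr_eq_classes (H := (K ⊓ Subgroup.centralizer (P : Set G) : Subgroup G))).trans
      (card_classes P K hP hK hPK _ rfl hCK))
  refine ⟨part1, ?_⟩
  intro hall k hk
  have : Finite (IrrCharacter K) := Lib.Helper3.irrCharacter_finite
  -- all real classes are P-invariant, by counting
  have hcardA : Nat.card {θ : Cfsg.IrrCharacter ↥K // (∀ k : ↥K, ((θ : ↥K → ℂ) k).im = 0) ∧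
      (∀ x ∈ P, ∀ k k' : ↥K, (k' : G) = x * (k : G) * x⁻¹ →
        (θ : ↥K → ℂ) k' = (θ : ↥K → ℂ) k)} =
      Nat.card {θ : Cfsg.IrrCharacter ↥K // ∀ k : ↥K, ((θ : ↥K → ℂ) k).im = 0} := by
    refine Nat.card_congr (Equiv.subtypeEquivRight ?_)
    intro θ
    exact ⟨fun h => h.1, fun h => ⟨h, hall θ h⟩⟩
  have hcard : Nat.card {c : ConjClasses ↥K // (∀ k : ↥K, ConjClasses.mk k = c → IsConj k k⁻¹) ∧
      ∀ k : ↥K, ConjClasses.mk k = c → ∀ x ∈ P, ∀ k' : ↥K, (k' : G) = x * (k : G) * x⁻¹ →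
        ConjClasses.mk k' = c} =
      Nat.card {c : ConjClasses ↥K // ∀ k : ↥K, ConjClasses.mk k = c → IsConj k k⁻¹} := by
    rw [← part1, hcardA, card_real_irr_eq_classes]
  let ι : {c : ConjClasses ↥K // (∀ k : ↥K, ConjClasses.mk k = c → IsConj k k⁻¹) ∧
      ∀ k : ↥K, ConjClasses.mk k = c → ∀ x ∈ P, ∀ k' : ↥K, (k' : G) = x * (k : G) * x⁻¹ →
        ConjClasses.mk k' = c} →
      {c : ConjClasses ↥K // ∀ k : ↥K, ConjClasses.mk k = c → IsConj k k⁻¹} :=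
    fun c => ⟨c.1, c.2.1⟩
  have hιinj : Function.Injective ι := by
    intro c c' h
    have h' : (ι c).1 = (ι c').1 := congrArg Subtype.val h
    exact Subtype.ext h'
  have hιsurj : Function.Surjective ι :=
    ((Function.Injective.bijective_of_nat_card_le hιinj) (le_of_eq hcard.symm)).2
  obtain ⟨⟨c, hc1, hc2⟩, hc⟩ := hιsurj ⟨ConjClasses.mk k, (real_class_iff k).2 hk⟩
  have hck : c = ConjClasses.mk k := congrArg Subtype.val hc
  subst hck
  obtain ⟨t, ht, htfix⟩ := exists_fixed_in_class P K hP hK hPK k hc2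
  exact ⟨t, (ConjClasses.mk_eq_mk_iff_isConj.1 ht).symm, htfix⟩

end Cfsg.Agent.S4911
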