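import Cfsg.Statements.S0948
import Cfsg.Agent.Lib.Helper75.KleinBlock2

set_option autoImplicit false
open Cfsg

namespace Cfsg.Agent.S0948

theorem exists_pair_of_card_four {G : Type*} [Group G] (P : Subgroup G) (h : Nat.card P = 4) :
    ∃ x y : G, x ∈ P ∧ y ∈ P ∧ x ≠ 1 ∧ y ≠ 1 ∧ x ≠ y := by
  classical
  haveI : Finite P := Nat.finite_of_card_ne_zero (by rw [h]; norm_num)
  haveI : Fintype P := Fintype.ofFinite P
  have hc : Fintype.card P = 4 := by rw [← Nat.card_eq_fintype_card, h]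
  have h1 : ({1} : Finset P).card < (Finset.univ : Finset P).card := by
    rw [Finset.card_univ, hc, Finset.card_singleton]; norm_num
  obtain ⟨x, -, hx⟩ := Finset.exists_mem_notMem_of_card_lt_card h1
  have h2 : ({1, x} : Finset P).card < (Finset.univ : Finset P).card := by
    rw [Finset.card_univ, hc]
    exact lt_of_le_of_lt (Finset.card_insert_le _ _) (by rw [Finset.card_singleton]; norm_num)
  obtain ⟨y, -, hy⟩ := Finset.exists_mem_notMem_of_card_lt_card h2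
  rw [Finset.mem_singleton] at hx
  rw [Finset.mem_insert, Finset.mem_singleton, not_or] at hy
  refine ⟨x, y, x.2, y.2, ?_, ?_, ?_⟩
  · intro h'
    exact hx (Subtype.ext h')
  · intro h'
    exact hy.1 (Subtype.ext h')
  · intro h'
    exact hy.2 (Subtype.ext h'.symm)


/-- Let the finite group G have a Sylow 2-subgroup P that is a Klein four-group, suppose all involutions of G are conjugate, and fix a maximal ideal M of the algebraic integers containing 2. Then the principal block consists of exactly four irreducible characters, the principal character and ζ₂, ζ₃, ζ₄, and there is a sign ε such that for every involution z: ζ₂ z = 1, ζ₃ z = ε, ζ₄ z = -1; moreover ζ₂ 1 ≡ 1, ζ₃ 1 ≡ ε, ζ₄ 1 ≡ -1 (mod 4), and 1 + ζ₂ y + ε ζ₃ y - ζ₄ y = 0 for every y of odd order. -/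
theorem result {G : Type*} [Group G] [Finite G] (M : Ideal Cfsg.AlgInt) (hM : Cfsg.IsPModular 2 M) (P : Sylow 2 G) (hP : IsKleinFour (P : Subgroup G)) (hone : ∀ s t : G, orderOf s = 2 → orderOf t = 2 → IsConj s t) : ∃ ζ₂ ζ₃ ζ₄ : Cfsg.IrrCharacter G, ∃ ε : ℤ, (ε = 1 ∨ ε = -1) ∧ (ζ₂ : G → ℂ) ≠ (fun _ => 1) ∧ (ζ₃ : G → ℂ) ≠ (fun _ => 1) ∧ ζ₂ ≠ ζ₃ ∧ ζ₂ ≠ ζ₄ ∧ ζ₃ ≠ ζ₄ ∧ Cfsg.principalBlock M G = {χ : Cfsg.IrrCharacter G | (χ : G → ℂ) = (fun _ => 1) ∨ χ = ζ₂ ∨ χ = ζ₃ ∨ χ = ζ₄} ∧ (∀ z : G, orderOf z = 2 → (ζ₂ : G → ℂ) z = 1 ∧ (ζ₃ : G → ℂ) z = (ε : ℂ) ∧ (ζ₄ : G → ℂ) z = -1) ∧ (4 : ℤ) ∣ (Cfsg.charDegree (ζ₂ : G → ℂ) : ℤ) - 1 ∧ (4 : ℤ) ∣ (Cfsg.charDegree (ζ₃ : G → ℂ) : ℤ) - ε ∧ (4 : ℤ) ∣ (Cfsg.charDegree (ζ₄ : G → ℂ) : ℤ) + 1 ∧ ∀ y : G, Odd (orderOf y) → 1 + (ζ₂ : G → ℂ) y + (ε : ℂ) * (ζ₃ : G → ℂ) y - (ζ₄ : G → ℂ) y = 0 := by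
  classical
  haveI : Fact (Nat.Prime 2) := ⟨Nat.prime_two⟩
  haveI : Fintype G := Fintype.ofFinite G
  haveI : Fintype (Cfsg.IrrCharacter G) := Fintype.ofFinite _
  have hMp : M.IsPrime := hM.2.1.isPrime
  have hexp : ∀ u ∈ (P : Subgroup G), u * u = 1 := by
    intro u hu
    have h1 := Monoid.pow_exponent_eq_one (⟨u, hu⟩ : (P : Subgroup G))
    rw [hP.exponent_two] at h1
    have h2 := congrArg Subtype.val h1
    rw [← pow_two]
    simpa using h2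
  have H : Cfsg.Agent.Lib.Helper75.KleinHyp G P := ⟨hP.card_four, hexp, hone⟩
  obtain ⟨z₀, u₀, hz₀P, hu₀P, hz₀1, hu₀1, hzu⟩ := exists_pair_of_card_four (P : Subgroup G) hP.card_four
  have hz₀2 : orderOf z₀ = 2 := Cfsg.Agent.Lib.Helper75.orderOf_eq_two_of_sq (hexp z₀ hz₀P) hz₀1
  have hu₀2 : orderOf u₀ = 2 := Cfsg.Agent.Lib.Helper75.orderOf_eq_two_of_sq (hexp u₀ hu₀P) hu₀1
  have hzuP : z₀ * u₀ ∈ (P : Subgroup G) := Subgroup.mul_mem _ hz₀P hu₀P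
  have hzu1 : z₀ * u₀ ≠ 1 := by
    intro h
    have h1 : z₀ = u₀⁻¹ := eq_inv_of_mul_eq_one_left h
    rw [inv_eq_of_mul_eq_one_right (hexp u₀ hu₀P)] at h1
    exact hzu h1
  have hzu2 : orderOf (z₀ * u₀) = 2 :=
    Cfsg.Agent.Lib.Helper75.orderOf_eq_two_of_sq (hexp _ hzuP) hzu1
  have hcomm : z₀ * u₀ = u₀ * z₀ := Cfsg.Agent.Lib.Helper75.comm_of_exp_two hexp hz₀P hu₀P
  -- values at involutions
  have hval : ∀ (χ : Cfsg.IrrCharacter G) (z : G), orderOf z = 2 → (χ : G → ℂ) z = (χ : G → ℂ) z₀ := by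
    intro χ z hz
    obtain ⟨c, hc⟩ := isConj_iff.mp (hone z₀ z hz₀2 hz)
    rw [← hc]
    exact Cfsg.Agent.Lib.Helper3.IsCharacter.isClassFunction
      (Cfsg.Agent.Lib.Helper3.IsIrrCharacter.isCharacter χ.2) z₀ c
  obtain ⟨ζ₂, ζ₃, ζ₄, ε, hε, h2ne, h3ne, h4ne, h23, h24, h34, hmem, hv2, hv3, hv4⟩ :=
    H.four_chars hM hz₀P hz₀1
  have hmod : ∀ (χ : Cfsg.IrrCharacter G) (a : ℤ), (χ : G → ℂ) z₀ = (a : ℂ) →
      (4 : ℤ) ∣ (Cfsg.charDegree (χ : G → ℂ) : ℤ) - a := by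
    intro χ a hχa
    exact Cfsg.Agent.Lib.Helper75.four_dvd_sub_of_klein
      (Cfsg.Agent.Lib.Helper3.IsIrrCharacter.isCharacter χ.2) hcomm (hexp z₀ hz₀P) (hexp u₀ hu₀P)
      (Cfsg.charDegree (χ : G → ℂ)) (Cfsg.Agent.Lib.Helper81.irr_apply_one_eq_charDegree χ) a hχa
      (by rw [hval χ u₀ hu₀2, hχa]) (by rw [hval χ _ hzu2, hχa])
  have hne_fun : ∀ χ : Cfsg.IrrCharacter G, χ ≠ Cfsg.Agent.Lib.Helper81.oneIrr G →
      (χ : G → ℂ) ≠ (fun _ => 1) := by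
    intro χ hχ h
    exact hχ (Subtype.ext h)
  refine ⟨ζ₂, ζ₃, ζ₄, ε, hε, hne_fun ζ₂ h2ne, hne_fun ζ₃ h3ne, h23, h24, h34, ?_, ?_, ?_, ?_, ?_, ?_⟩
  · ext χ
    rw [hmem χ]
    simp only [Set.mem_setOf_eq]
    constructor
    · rintro (h | h)
      · left
        rw [h]
        rfl
      · right
        exact h
    · rintro (h | h)
      · left
        exact Subtype.ext h
      · right
        exact h
  · intro z hz
    rw [hval ζ₂ z hz, hval ζ₃ z hz, hval ζ₄ z hz]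
    exact ⟨hv2, hv3, hv4⟩
  · have := hmod ζ₂ 1 (by rw [hv2, Int.cast_one])
    exact this
  · exact hmod ζ₃ ε hv3
  · have := hmod ζ₄ (-1) (by rw [hv4, Int.cast_neg, Int.cast_one])
    simpa using this
  · intro y hy
    have hy2 : ¬ 2 ∣ orderOf y := by
      intro h
      exact (Nat.not_even_iff_odd.mpr hy) (even_iff_two_dvd.mpr h)
    have hpy : Cfsg.IsPPart 2 y 1 := ⟨y, one_mul y, Commute.one_left y, ⟨0, by rw [orderOf_one, pow_zero]⟩, hy2⟩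
    have hpz : Cfsg.IsPPart 2 z₀ z₀ := ⟨1, mul_one z₀, Commute.one_right z₀, ⟨1, by rw [hz₀2, pow_one]⟩,
      by rw [orderOf_one]; norm_num⟩
    have hnc : ¬ IsConj (1 : G) z₀ := by
      intro h
      obtain ⟨c, hc⟩ := isConj_iff.mp h
      apply hz₀1
      rw [← hc]
      group
    have hsbo := Cfsg.Agent.Lib.Helper77.IdemTrace.strong_block_orthogonality_finset hM
      (Cfsg.Agent.Lib.Helper81.oneIrr G) hpy hpz hnc
    have hfilter : Finset.univ.filter (fun χ : Cfsg.IrrCharacter G =>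
        χ ∈ Cfsg.blockOf M ((Cfsg.Agent.Lib.Helper81.oneIrr G : Cfsg.IrrCharacter G) : G → ℂ)) =
        {Cfsg.Agent.Lib.Helper81.oneIrr G, ζ₂, ζ₃, ζ₄} := by
      ext χ
      simp only [Finset.mem_filter, Finset.mem_univ, true_and, Finset.mem_insert,
        Finset.mem_singleton]
      exact hmem χ
    rw [hfilter] at hsbo
    have h12 : Cfsg.Agent.Lib.Helper81.oneIrr G ∉ ({ζ₂, ζ₃, ζ₄} : Finset (Cfsg.IrrCharacter G)) := by
      simp only [Finset.mem_insert, Finset.mem_singleton, not_or]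
      exact ⟨fun h => h2ne h.symm, fun h => h3ne h.symm, fun h => h4ne h.symm⟩
    have h2' : ζ₂ ∉ ({ζ₃, ζ₄} : Finset (Cfsg.IrrCharacter G)) := by
      simp only [Finset.mem_insert, Finset.mem_singleton, not_or]
      exact ⟨h23, h24⟩
    have h3' : ζ₃ ∉ ({ζ₄} : Finset (Cfsg.IrrCharacter G)) := by
      simp only [Finset.mem_singleton]
      exact h34
    rw [Finset.sum_insert h12, Finset.sum_insert h2', Finset.sum_insert h3',
      Finset.sum_singleton] at hsbo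
    rw [hv2, hv3, hv4, Cfsg.Agent.Lib.Helper81.oneIrr_apply, Cfsg.Agent.Lib.Helper81.oneIrr_apply] at hsbo
    simp only [map_one, map_neg, map_intCast, mul_one] at hsbo
    rw [← hsbo]
    ring

end Cfsg.Agent.S0948
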