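import Cfsg.Statements.S3279
import Cfsg.Agent.S0215
import Cfsg.Agent.Lib.Helper86.FewInv

set_option autoImplicit false
set_option linter.style.haveILetI false
set_option linter.unusedSectionVars false
open Cfsg

namespace Cfsg.Agent.S3279

open Cfsg.Agent.Lib.Helper86.FewInv Subgroup

/-- Let G be a finite simple group and x an involution of G whose centralizer contains at most three involutions. Then C_G(x) contains a Sylow 2-subgroup of G, and all involutions of G are conjugate. -/
theorem result {G : Type*} [Group G] [Finite G] [IsSimpleGroup G] (x : G) (hx : orderOf x = 2)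
    (h3 : Nat.card {u : ↥(Subgroup.centralizer ({x} : Set G)) // orderOf u = 2} ≤ 3) :
    (∃ S : Sylow 2 G, (S : Subgroup G) ≤ Subgroup.centralizer ({x} : Set G)) ∧
      ∀ u v : G, orderOf u = 2 → orderOf v = 2 → IsConj u v := by
  classical
  haveI : Fact (Nat.Prime 2) := ⟨Nat.prime_two⟩
  by_cases hG2 : Nat.card G = 2
  · -- the group of order two
    obtain ⟨b, hb, huniq⟩ := (Nat.card_eq_two_iff' (1 : G)).mp hG2
    have hall : ∀ u : G, orderOf u = 2 → u = b := fun u hu => huniq u (ne_one_of_order_two hu)
    constructor
    · obtain ⟨S⟩ := (inferInstance : Nonempty (Sylow 2 G))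
      refine ⟨S, ?_⟩
      intro s _
      rw [mem_centralizer_singleton_iff]
      by_cases hs : s = 1
      · rw [hs, one_mul, mul_one]
      · have hsb : s = b := huniq s hs
        have hxb : x = b := hall x hx
        rw [hsb, hxb]
    · intro u v hu hv
      rw [hall u hu, hall v hv]
  · have h3' := few_of_card h3
    have hni : ∀ (P : Sylow 2 G) (u : G), orderOf u = 2 → u ∈ P →
        ∃ g : G, g * u * g⁻¹ ∈ P ∧ g * u * g⁻¹ ≠ u := by
      intro P u hu huP
      by_contra hcon
      push Not at hcon
      obtain ⟨N, hN, hodd, hcomm⟩ := Cfsg.Agent.S0215.result P u hu huP hcon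
      rcases hN.eq_bot_or_eq_top with h | h
      · -- u is central
        apply hG2
        apply card_two_of_central hu
        intro g
        have := hcomm g
        rw [h, Subgroup.mem_bot] at this
        -- u g u⁻¹ g⁻¹ = 1
        have h1 : u * g = g * u := by
          calc u * g = (u * g * u⁻¹ * g⁻¹) * g * u := by group
            _ = g * u := by rw [this, one_mul]
        exact h1.symm
      · rw [h, Subgroup.card_top] at hodd
        have h2 : 2 ∣ Nat.card G := by
          rw [← hx]
          exact orderOf_dvd_natCard x
        exact (Nat.not_even_iff_odd.mpr hodd) (even_iff_two_dvd.mpr h2)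
    obtain ⟨S, hS, _⟩ := exists_sylow_le hG2 hx h3'
    exact ⟨⟨S, hS⟩, all_conj hG2 hx h3' hni⟩

end Cfsg.Agent.S3279
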