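import Cfsg.Statements.S4479
import Cfsg.Agent.Lib.Helper75.KleinFour

set_option autoImplicit false
open Cfsg

namespace Cfsg.Agent.S4479

/-- An order formula from the principal 2-block. Let G be a finite group of order 4·g₀ with g₀ odd having no normal 2-complement (no normal subgroup of order g₀); let P be a Sylow 2-subgroup, J an involution of P, and fix a maximal ideal M of the algebraic integers containing 2. Suppose the principal 2-block consists of the principal character and three further distinct characters χ₁, χ₂, χ₃ of degrees x₁, x₂, x₃, with χ_i(J) = ε_i = ±1. Then, writing c(J) and c(P) for the orders of the centralizers of J and of P, the order of G equals 8·α·c(J)³/c(P)² with α = x₁x₂x₃ / ((x₁ + ε₁)(x₂ + ε₂)(x₃ + ε₃)). -/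
theorem result {G : Type*} [Group G] [Finite G] (M : Ideal Cfsg.AlgInt) (hM : Cfsg.IsPModular 2 M) (g₀ : ℕ) (hg₀ : Odd g₀) (hG : Nat.card G = 4 * g₀) (hnc : ¬ ∃ N : Subgroup G, N.Normal ∧ Nat.card N = g₀) (P : Sylow 2 G) (J : G) (hJ : J ∈ (P : Subgroup G)) (hJ2 : orderOf J = 2) (χ₁ χ₂ χ₃ : Cfsg.IrrCharacter G) (ε₁ ε₂ ε₃ : ℤ) (hB : Cfsg.principalBlock M G = {χ : Cfsg.IrrCharacter G | (χ : G → ℂ) = (fun _ => 1) ∨ χ = χ₁ ∨ χ = χ₂ ∨ χ = χ₃}) (hdist : (χ₁ : G → ℂ) ≠ (fun _ => 1) ∧ (χ₂ : G → ℂ) ≠ (fun _ => 1) ∧ (χ₃ : G → ℂ) ≠ (fun _ => 1) ∧ χ₁ ≠ χ₂ ∧ χ₁ ≠ χ₃ ∧ χ₂ ≠ χ₃) (hε : (ε₁ = 1 ∨ ε₁ = -1) ∧ (ε₂ = 1 ∨ ε₂ = -1) ∧ (ε₃ = 1 ∨ ε₃ = -1)) (hval : (χ₁ : G → ℂ) J = ε₁ ∧ (χ₂ : G → ℂ) J = ε₂ ∧ (χ₃ : G → ℂ) J = ε₃) : (Nat.card G : ℚ) = 8 * (((Cfsg.charDegree (χ₁ : G → ℂ) : ℚ) * Cfsg.charDegree (χ₂ : G → ℂ) * Cfsg.charDegree (χ₃ : G → ℂ))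 / ((Cfsg.charDegree (χ₁ : G → ℂ) + ε₁) * (Cfsg.charDegree (χ₂ : G → ℂ) + ε₂) * (Cfsg.charDegree (χ₃ : G → ℂ) + ε₃))) * (Nat.card (Subgroup.centralizer ({J} : Set G)) : ℚ) ^ 3 / (Nat.card (Subgroup.centralizer ((P : Subgroup G) : Set G)) : ℚ) ^ 2 := by
  classical
  haveI : Fintype G := Fintype.ofFinite G
  haveI : Fintype (Cfsg.IrrCharacter G) := Fintype.ofFinite _
  haveI : Fact (Nat.Prime 2) := ⟨Nat.prime_two⟩
  have H := Cfsg.Agent.Lib.Helper75.kleinHyp_of_no_normal_complement hg₀ hG hnc P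
  have hJ1 : J ≠ 1 := by
    intro h
    rw [h, orderOf_one] at hJ2
    norm_num at hJ2
  have hid := H.order_identity hM hJ hJ1
  rw [Cfsg.Agent.Lib.Helper75.sum_principalBlock_four hB hdist] at hid
  -- weak block orthogonality
  have h1reg : ¬ 2 ∣ orderOf (1 : G) := by
    rw [orderOf_one]
    norm_num
  have hJsing : 2 ∣ orderOf J := by rw [hJ2]
  have hw := Cfsg.Agent.Lib.Helper16.weak_block_orthogonality_finset hM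
    (Cfsg.Agent.Lib.Helper81.oneIrr G) h1reg hJsing
  have hbl : Cfsg.blockOf M ((Cfsg.Agent.Lib.Helper81.oneIrr G : Cfsg.IrrCharacter G) : G → ℂ) =
      Cfsg.principalBlock M G :=
    (Cfsg.Agent.Lib.Helper77.eq_principalBlock_iff hM.2.1.isPrime _).mpr
      (Cfsg.Agent.Lib.Helper81.oneIrr_mem_principalBlock hM.2.1.isPrime)
  rw [hbl, Cfsg.Agent.Lib.Helper75.sum_principalBlock_four hB hdist] at hw
  -- values
  obtain ⟨hv1, hv2, hv3⟩ := hval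
  have hd1 := Cfsg.Agent.Lib.Helper81.irr_apply_one_eq_charDegree χ₁
  have hd2 := Cfsg.Agent.Lib.Helper81.irr_apply_one_eq_charDegree χ₂
  have hd3 := Cfsg.Agent.Lib.Helper81.irr_apply_one_eq_charDegree χ₃
  obtain ⟨d1, hd1pos, -, hd1eq, -⟩ := Cfsg.Agent.Lib.Helper16.irr_degree_spec χ₁
  obtain ⟨d2, hd2pos, -, hd2eq, -⟩ := Cfsg.Agent.Lib.Helper16.irr_degree_spec χ₂
  obtain ⟨d3, hd3pos, -, hd3eq, -⟩ := Cfsg.Agent.Lib.Helper16.irr_degree_spec χ₃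
  simp only [Cfsg.Agent.Lib.Helper81.oneIrr_apply, hv1, hv2, hv3, hd1, hd2, hd3, map_one,
    map_intCast] at hid hw
  rw [hd1eq, hd2eq, hd3eq] at hid hw ⊢
  -- to the rationals
  have hx1 : (d1 : ℚ) ≠ 0 := Nat.cast_ne_zero.mpr hd1pos.ne'
  have hx2 : (d2 : ℚ) ≠ 0 := Nat.cast_ne_zero.mpr hd2pos.ne'
  have hx3 : (d3 : ℚ) ≠ 0 := Nat.cast_ne_zero.mpr hd3pos.ne'
  have hidQ : ((1 : ℚ) * 1 * 1 / 1 + (ε₁ : ℚ) * ε₁ * ε₁ / d1 + (ε₂ : ℚ) * ε₂ * ε₂ / d2 +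
      (ε₃ : ℚ) * ε₃ * ε₃ / d3) * (Nat.card G : ℚ) *
      (Nat.card (Subgroup.centralizer ((P : Subgroup G) : Set G)) : ℚ) ^ 2 =
      8 * (Nat.card (Subgroup.centralizer ({J} : Set G)) : ℚ) ^ 3 := by
    refine Rat.cast_injective (α := ℂ) ?_
    push_cast
    exact hid
  have hwQ : (1 : ℚ) * 1 + (d1 : ℚ) * ε₁ + (d2 : ℚ) * ε₂ + (d3 : ℚ) * ε₃ = 0 := by
    refine Rat.cast_injective (α := ℂ) ?_
    push_cast
    exact hw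
  have he1 : (ε₁ : ℚ) ^ 2 = 1 := by
    rcases hε.1 with h | h <;> rw [h] <;> norm_num
  have he2 : (ε₂ : ℚ) ^ 2 = 1 := by
    rcases hε.2.1 with h | h <;> rw [h] <;> norm_num
  have he3 : (ε₃ : ℚ) ^ 2 = 1 := by
    rcases hε.2.2 with h | h <;> rw [h] <;> norm_num
  set g : ℚ := (Nat.card G : ℚ) with hg
  set cP : ℚ := (Nat.card (Subgroup.centralizer ((P : Subgroup G) : Set G)) : ℚ) with hcP
  set cJ : ℚ := (Nat.card (Subgroup.centralizer ({J} : Set G)) : ℚ) with hcJ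
  have hcP0 : cP ≠ 0 := Nat.cast_ne_zero.mpr Nat.card_pos.ne'
  have hcJ0 : cJ ≠ 0 := Nat.cast_ne_zero.mpr Nat.card_pos.ne'
  have hg0 : g ≠ 0 := Nat.cast_ne_zero.mpr Nat.card_pos.ne'
  -- the product
  have hD : ((d1 : ℚ) + ε₁) * ((d2 : ℚ) + ε₂) * ((d3 : ℚ) + ε₃) =
      (d1 : ℚ) * d2 * d3 * (1 * 1 * 1 / 1 + (ε₁ : ℚ) * ε₁ * ε₁ / d1 + (ε₂ : ℚ) * ε₂ * ε₂ / d2 +
      (ε₃ : ℚ) * ε₃ * ε₃ / d3) := by
    field_simp
    linear_combination (ε₁ : ℚ) * ε₂ * ε₃ * hwQ - (ε₂ : ℚ) * ε₃ * d1 * he1 -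
      (ε₁ : ℚ) * ε₃ * d2 * he2 - (ε₁ : ℚ) * ε₂ * d3 * he3 -
      (d2 : ℚ) * d3 * ε₁ * he1 - (d1 : ℚ) * d3 * ε₂ * he2 - (d1 : ℚ) * d2 * ε₃ * he3
  have hD0 : ((d1 : ℚ) + ε₁) * ((d2 : ℚ) + ε₂) * ((d3 : ℚ) + ε₃) ≠ 0 := by
    intro h0
    rw [hD] at h0
    have h1 : (1 * 1 * 1 / 1 + (ε₁ : ℚ) * ε₁ * ε₁ / d1 + (ε₂ : ℚ) * ε₂ * ε₂ / d2 +
      (ε₃ : ℚ) * ε₃ * ε₃ / d3) = 0 := by
      rcases mul_eq_zero.mp h0 with h | h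
      · exfalso
        exact mul_ne_zero (mul_ne_zero hx1 hx2) hx3 h
      · exact h
    rw [h1, zero_mul, zero_mul] at hidQ
    exact pow_ne_zero 3 hcJ0 (by linarith)
  have hS : (1 * 1 * 1 / 1 + (ε₁ : ℚ) * ε₁ * ε₁ / d1 + (ε₂ : ℚ) * ε₂ * ε₂ / d2 +
      (ε₃ : ℚ) * ε₃ * ε₃ / d3) =
      ((d1 : ℚ) + ε₁) * ((d2 : ℚ) + ε₂) * ((d3 : ℚ) + ε₃) / ((d1 : ℚ) * d2 * d3) := by
    rw [hD]
    field_simp
  rw [hS] at hidQ
  have hprod0 : (d1 : ℚ) * d2 * d3 ≠ 0 := mul_ne_zero (mul_ne_zero hx1 hx2) hx3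
  generalize ((d1 : ℚ) + ε₁) * ((d2 : ℚ) + ε₂) * ((d3 : ℚ) + ε₃) = D at hidQ hD0 ⊢
  generalize (d1 : ℚ) * d2 * d3 = N at hidQ hprod0 ⊢
  field_simp
  field_simp at hidQ
  linear_combination hidQ

end Cfsg.Agent.S4479
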