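import Cfsg.Statements.S2824
import Cfsg.Agent.Lib.Helper47.Frat
import Cfsg.Agent.Lib.Helper46.PReduced2

set_option autoImplicit false
open Cfsg
open Cfsg.Agent.Lib.Helper47
open scoped commutatorElement

namespace Cfsg.Agent.S2824

/-- Let H be a finite group, p a prime, T a Sylow p-subgroup, L and M subgroups of characteristic p containing T, Y_L the largest p-reduced normal subgroup of L and T₀ = C_T(Y_L). If M·C_H(Y_L) = L·C_H(Y_L), then L* := N_M(T₀) has Y_{L*} = Y_L and L·C_H(Y_L) = L*·C_H(Y_L). -/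
theorem result {H : Type*} [Group H] [Finite H] {p : ℕ} [Fact p.Prime] (T : Sylow p H) (L M : Subgroup H) (hTL : (T : Subgroup H) ≤ L) (hTM : (T : Subgroup H) ≤ M) (hL : Subgroup.centralizer (Cfsg.pCore p ↥L : Set ↥L) ≤ Cfsg.pCore p ↥L) (hM : Subgroup.centralizer (Cfsg.pCore p ↥M : Set ↥M) ≤ Cfsg.pCore p ↥M) (T₀ : Subgroup H) (hT₀ : T₀ = (T : Subgroup H) ⊓ Subgroup.centralizer (((Cfsg.largestPReducedOf p L) : Subgroup H) : Set H)) (hfac : M ⊔ Subgroup.centralizer (((Cfsg.largestPReducedOf p L) : Subgroup H) : Set H) = L ⊔ Subgroup.centralizer (((Cfsg.largestPReducedOf p L) : Subgroup H) : Set H)) (Ls : Subgroup H) (hLs : Ls = M ⊓ Subgroup.normalizer ((T₀ : Subgroup H) : Set H)) : (Cfsg.largestPReducedOf p Ls) = (Cfsg.largestPReducedOf p L) ∧ L ⊔ Subgroup.centralizer (((Cfsg.largestPReducedOf p L) : Subgroup H) : Set H) = Ls ⊔ Subgroup.centralizer (((Cfsg.largestPReducedOf p L) : Subgroup H) : Set H) := by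
  classical
  have hp : p.Prime := Fact.out
  set Y : Subgroup H := largestPReducedOf p L with hY
  set C : Subgroup H := Subgroup.centralizer (Y : Set H) with hC
  obtain ⟨⟨P, hP⟩, hOpT₀, _, hZT, hZY, hYOm⟩ := Cfsg.Agent.S2821.result T L hTL hL T₀ hT₀
  have hLY : L ≤ Subgroup.normalizer (Y : Set H) := le_normalizer_largestPReducedOf p L
  have hYC' : Subgroup.normalizer (Y : Set H) ≤ Subgroup.normalizer (C : Set H) :=
    normalizer_le_normalizer_centralizer Y
  have hLC : L ≤ Subgroup.normalizer (C : Set H) := hLY.trans hYC'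
  have hCY : C ≤ Subgroup.normalizer (Y : Set H) := Subgroup.centralizer_le_normalizer _
  have hsupN : L ⊔ C ≤ Subgroup.normalizer (Y : Set H) := sup_le hLY hCY
  have hMsup : M ≤ L ⊔ C := by rw [← hfac]; exact le_sup_left
  have hMY : M ≤ Subgroup.normalizer (Y : Set H) := hMsup.trans hsupN
  have hMC : M ≤ Subgroup.normalizer (C : Set H) := hMY.trans hYC'
  have hTC : (T : Subgroup H) ≤ Subgroup.normalizer (C : Set H) := hTL.trans hLC
  have hTT₀ : (T : Subgroup H) ≤ Subgroup.normalizer (T₀ : Set H) := by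
    rw [hT₀]
    exact (le_inf Subgroup.le_normalizer hTC).trans (normalizer_inf_le_normalizer_inf _ _)
  have hT₀T : T₀ ≤ (T : Subgroup H) := by rw [hT₀]; exact inf_le_left
  have hT₀C : T₀ ≤ C := by rw [hT₀]; exact inf_le_right
  have hT₀p : IsPGroup p ↥T₀ := T.isPGroup'.to_le hT₀T
  have hYL : Y ≤ L := largestPReducedOf_le p L
  have hYT₀ : Y ≤ T₀ := by
    have h1 : Y ≤ pCoreOf p L := hYOm.trans ((omegaOneCenter_le p _).trans inf_le_left)
    exact h1.trans hOpT₀
  have hYcomm := largestPReducedOf_comm p L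
  have hYexp := largestPReducedOf_exp p L
  set L₀ : Subgroup H := L ⊓ Subgroup.normalizer (T₀ : Set H) with hL₀
  set K : Subgroup H := C ⊓ Subgroup.normalizer (T₀ : Set H) with hK
  have hT₀Ls : T₀ ≤ Ls := by rw [hLs]; exact le_inf (hT₀T.trans hTM) Subgroup.le_normalizer
  have hTLs : (T : Subgroup H) ≤ Ls := by rw [hLs]; exact le_inf hTM hTT₀
  have hLsM : Ls ≤ M := by rw [hLs]; exact inf_le_left
  have hLsN : Ls ≤ Subgroup.normalizer (T₀ : Set H) := by rw [hLs]; exact inf_le_right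
  -- Frattini
  have hfratX : ∀ X : Subgroup H, (T : Subgroup H) ≤ X → X ≤ Subgroup.normalizer (C : Set H) →
      ∀ x ∈ X, ∃ n ∈ X ⊓ C, ∃ y ∈ X ⊓ Subgroup.normalizer (T₀ : Set H), x = n * y := by
    intro X hTX hXC
    have hTn : (T : Subgroup H) ≤ Subgroup.normalizer ((X ⊓ C : Subgroup H) : Set H) :=
      (le_inf (hTX.trans Subgroup.le_normalizer) hTC).trans (normalizer_inf_le_normalizer_inf X C)
    obtain ⟨S, hS⟩ := exists_sylow_subgroupOf_of_le_normalizer T (X ⊓ C) hTn
    have hS' : (S : Subgroup ↥(X ⊓ C)).map (X ⊓ C).subtype = T₀ := by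
      rw [hS, Subgroup.subgroupOf_map_subtype, hT₀, ← inf_assoc, inf_of_le_left hTX]
    exact frattini_inf hXC S hS'
  have hsupLs : M ⊔ C = Ls ⊔ C := by
    apply le_antisymm
    · apply sup_le _ le_sup_right
      intro m hm
      obtain ⟨n, hn, y, hy, rfl⟩ := hfratX M hTM hMC m hm
      exact Subgroup.mul_mem _ (Subgroup.mem_sup_right hn.2)
        (Subgroup.mem_sup_left (by rw [hLs]; exact hy))
    · exact sup_le_sup_right hLsM C
  have hsupL₀ : L ⊔ C = L₀ ⊔ C := by
    apply le_antisymm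
    · apply sup_le _ le_sup_right
      intro l hl
      obtain ⟨n, hn, y, hy, rfl⟩ := hfratX L hTL hLC l hl
      exact Subgroup.mul_mem _ (Subgroup.mem_sup_right hn.2) (Subgroup.mem_sup_left hy)
    · exact sup_le_sup_right inf_le_left C
  have hclaim2 : L ⊔ C = Ls ⊔ C := by rw [← hfac]; exact hsupLs
  -- Y ≤ Y_{Ls}
  have hredYLs : PRedInternal p Y Ls :=
    pRedInternal_of_sup_eq hLY hclaim2.symm (largestPReducedOf_pRedInternal p L)
  have hYLs : Y ≤ Ls := hYT₀.trans hT₀Ls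
  have hLsY : Ls ≤ Subgroup.normalizer (Y : Set H) := hLsM.trans hMY
  have hge : Y ≤ largestPReducedOf p Ls := le_largestPReducedOf hYLs hLsY hYcomm hYexp hredYLs
  -- Y_{Ls} ≤ Y
  set Ys : Subgroup H := largestPReducedOf p Ls with hYs
  have hLsYs : Ls ≤ Subgroup.normalizer (Ys : Set H) := le_normalizer_largestPReducedOf p Ls
  have hYsOp : Ys ≤ pCoreOf p Ls := Subgroup.map_mono largestPReduced_le_pCore
  have hYsT : Ys ≤ (T : Subgroup H) := hYsOp.trans (pCoreOf_le_sylow T hTLs)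
  have hT₀Op : T₀ ≤ pCoreOf p Ls := le_pCoreOf hT₀Ls hLsN hT₀p
  have hT₀CYs : T₀ ≤ Subgroup.centralizer (Ys : Set H) :=
    hT₀Op.trans (pCoreOf_le_centralizer_largestPReducedOf p Ls)
  have hYsCT₀ : Ys ≤ Subgroup.centralizer (T₀ : Set H) := Subgroup.le_centralizer_iff.mp hT₀CYs
  have hYsC : Ys ≤ C := Subgroup.le_centralizer_iff.mp (hYT₀.trans hT₀CYs)
  have hYsT₀ : Ys ≤ T₀ := by rw [hT₀]; exact le_inf hYsT hYsC
  set Z₀ : Subgroup H := omegaOne p (T₀ ⊓ Subgroup.centralizer (T₀ : Set H)) with hZ₀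
  have hYsZ₀ : Ys ≤ Z₀ := fun y hy =>
    mem_omegaOneCenter (hYsT₀ hy) (hYsCT₀ hy) (largestPReducedOf_exp p Ls y hy)
  have hZ₀ea : IsElementaryAbelian p Z₀ := omegaOneCenter_isElementaryAbelian p T₀
  have hZ₀le : Z₀ ≤ T₀ ⊓ Subgroup.centralizer (T₀ : Set H) := omegaOneCenter_le p T₀
  have hKC : K ≤ C := inf_le_left
  have hT₀K : T₀ ≤ K := le_inf hT₀C Subgroup.le_normalizer
  have hKZ₀ : K ≤ Subgroup.centralizer (Z₀ : Set H) := by
    apply le_centralizer_of_fixed_points (p := p) (T₀ := T₀) (T := (T : Subgroup H))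
    · intro a ha b hb
      have := hZ₀ea.1.is_comm.comm (⟨a, ha⟩ : ↥Z₀) ⟨b, hb⟩
      exact congrArg Subtype.val this
    · exact Cfsg.Agent.Lib.Helper46.isPGroup_of_elemAb hZ₀ea
    · exact inf_le_right.trans (normalizer_le_normalizer_omegaOneCenter p T₀)
    · exact hT₀K
    · exact inf_le_right
    · exact hT₀p
    · exact Subgroup.le_centralizer_iff.mp (hZ₀le.trans inf_le_right)
    · have h1 : ¬ p ∣ (P : Subgroup ↥C).index := P.not_dvd_index
      rw [hP] at h1
      have h2 : T₀.relIndex K * K.relIndex C = T₀.relIndex C :=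
        Subgroup.relIndex_mul_relIndex T₀ K C hT₀K hKC
      have h3 : ¬ p ∣ T₀.relIndex K := by
        intro h
        apply h1
        show p ∣ T₀.relIndex C
        rw [← h2]
        exact dvd_mul_of_dvd_left h _
      exact ((Nat.Prime.coprime_iff_not_dvd hp).mpr h3).symm
    · exact T.isPGroup'
    · exact hTT₀.trans (normalizer_le_normalizer_omegaOneCenter p T₀)
    · exact (le_inf hTC (hTT₀.trans Subgroup.le_normalizer)).trans
        (normalizer_inf_le_normalizer_inf C _)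
    · intro z hz
      have hzT₀ : z ∈ T₀ := (hZ₀le hz.1).1
      have hzp : z ^ p = 1 := hZ₀ea.2 z hz.1
      have hzY : z ∈ Y := hZY (hZT (mem_omegaOneCenter (hT₀T hzT₀) hz.2 hzp))
      exact (Subgroup.le_centralizer_iff.mp hKC) hzY
  have hKYs : K ≤ Subgroup.centralizer (Ys : Set H) :=
    hKZ₀.trans (Subgroup.centralizer_le hYsZ₀)
  have hLsC : Ls ≤ Subgroup.normalizer (C : Set H) := hLsM.trans hMC
  have hL₀C : L₀ ≤ Subgroup.normalizer (C : Set H) := inf_le_left.trans hLC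
  have hL₀LsK : L₀ ≤ Ls ⊔ K := by
    intro l hl
    have h1 : l ∈ ((Ls ⊔ C : Subgroup H) : Set H) := by
      rw [← hclaim2]; exact Subgroup.mem_sup_left hl.1
    rw [Subgroup.coe_mul_of_left_le_normalizer_right Ls C hLsC] at h1
    obtain ⟨s, hs, c, hc, hsc⟩ := h1
    have hsc' : s * c = l := hsc
    have hcN : c ∈ Subgroup.normalizer (T₀ : Set H) := by
      have : c = s⁻¹ * l := by rw [← hsc']; group
      rw [this]
      exact Subgroup.mul_mem _ (Subgroup.inv_mem _ (hLsN hs)) hl.2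
    rw [← hsc']
    exact Subgroup.mul_mem _ (Subgroup.mem_sup_left hs) (Subgroup.mem_sup_right ⟨hc, hcN⟩)
  have hLsL₀K : Ls ≤ L₀ ⊔ K := by
    intro l hl
    have h1 : l ∈ ((L₀ ⊔ C : Subgroup H) : Set H) := by
      rw [← hsupL₀, hclaim2]; exact Subgroup.mem_sup_left hl
    rw [Subgroup.coe_mul_of_left_le_normalizer_right L₀ C hL₀C] at h1
    obtain ⟨s, hs, c, hc, hsc⟩ := h1
    have hsc' : s * c = l := hsc
    have hcN : c ∈ Subgroup.normalizer (T₀ : Set H) := by
      have : c = s⁻¹ * l := by rw [← hsc']; group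
      rw [this]
      exact Subgroup.mul_mem _ (Subgroup.inv_mem _ hs.2) (hLsN hl)
    rw [← hsc']
    exact Subgroup.mul_mem _ (Subgroup.mem_sup_left hs) (Subgroup.mem_sup_right ⟨hc, hcN⟩)
  have hsupYs : L₀ ⊔ Subgroup.centralizer (Ys : Set H) = Ls ⊔ Subgroup.centralizer (Ys : Set H) := by
    apply le_antisymm
    · exact sup_le (hL₀LsK.trans (sup_le_sup_left hKYs Ls)) le_sup_right
    · exact sup_le (hLsL₀K.trans (sup_le_sup_left hKYs L₀)) le_sup_right
  have hredYsL₀ : PRedInternal p Ys L₀ :=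
    pRedInternal_of_sup_eq hLsYs hsupYs (largestPReducedOf_pRedInternal p Ls)
  have hL₀Ys : L₀ ≤ Subgroup.normalizer (Ys : Set H) :=
    hL₀LsK.trans (sup_le hLsYs (hKYs.trans (Subgroup.centralizer_le_normalizer _)))
  have hYsL₀ : Ys ≤ L₀ := hYsT₀.trans (le_inf (hT₀T.trans hTL) Subgroup.le_normalizer)
  have hL₀L : L₀ ≤ L := inf_le_left
  have hYsL : Ys ≤ L := hYsL₀.trans hL₀L
  have hred' : PRedInternal p (Ys.subgroupOf L) (L₀.subgroupOf L) :=
    pRedInternal_subgroupOf hYsL hL₀L hredYsL₀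
  have hle' : Ys.subgroupOf L ≤ L₀.subgroupOf L := by
    intro x hx
    exact Subgroup.mem_subgroupOf.mpr (hYsL₀ (Subgroup.mem_subgroupOf.mp hx))
  have hX : IsPReducedNormal p ((Ys.subgroupOf L).subgroupOf (L₀.subgroupOf L)) := by
    apply isPReducedNormal_subgroupOf_of_pRedInternal hle' _ _ _ hred'
    · intro x hx
      rw [Subgroup.mem_normalizer_iff]
      intro y
      rw [Subgroup.mem_subgroupOf, Subgroup.mem_subgroupOf]
      have := Subgroup.mem_normalizer_iff.mp (hL₀Ys (Subgroup.mem_subgroupOf.mp hx)) (y : H)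
      simpa using this
    · intro a ha b hb
      apply Subtype.ext
      have := largestPReducedOf_comm p Ls (a : H) (Subgroup.mem_subgroupOf.mp ha) (b : H)
        (Subgroup.mem_subgroupOf.mp hb)
      simpa using this
    · intro a ha
      apply Subtype.ext
      have := largestPReducedOf_exp p Ls (a : H) (Subgroup.mem_subgroupOf.mp ha)
      simpa using this
  have hTR : ((T.subtype hTL : Sylow p ↥L) : Subgroup ↥L) ≤ L₀.subgroupOf L := by
    rw [Sylow.coe_subtype]
    intro x hx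
    exact Subgroup.mem_subgroupOf.mpr (le_inf hTL hTT₀ (Subgroup.mem_subgroupOf.mp hx))
  have hS2802 := Cfsg.Agent.Lib.Helper46.pReduced_normalClosure hL (T.subtype hTL)
    (L₀.subgroupOf L) hTR _ hX
  rw [Subgroup.map_subgroupOf_eq_of_le hle'] at hS2802
  have h1 : Ys.subgroupOf L ≤ largestPReduced p ↥L :=
    (Subgroup.le_normalClosure).trans (le_sSup hS2802)
  have hle : Ys ≤ Y := by
    have := Subgroup.map_mono (f := L.subtype) h1
    rwa [Subgroup.map_subgroupOf_eq_of_le hYsL] at this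
  exact ⟨le_antisymm hle hge, hclaim2⟩

end Cfsg.Agent.S2824
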