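import Cfsg.Statements.S0840
import Cfsg.Agent.Lib.Helper79.Classes

set_option autoImplicit false
open Cfsg

namespace Cfsg.Agent.S0840

open Cfsg.Agent.Lib.Helper79
open scoped ComplexConjugate

section

variable {G : Type*} [Group G] [Fintype G]

open Classical in
/-- The counting function `g ↦ #{(x, y) | a ~ x, b ~ y, x y = g}`. -/
noncomputable def cnt (a b : G) (g : G) : ℂ :=
  ∑ x : G, ∑ y : G, if IsConj a x ∧ IsConj b y ∧ x * y = g then (1 : ℂ) else 0

open Classical in
theorem cnt_isClassFunction (a b : G) : IsClassFunction G (cnt a b) := by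
  intro g h
  have h1 : ∀ x : G, IsConj a (h * x * h⁻¹) ↔ IsConj a x := by
    intro x
    constructor
    · intro hc; exact hc.trans (isConj_iff.mpr ⟨h⁻¹, by group⟩)
    · intro hc; exact hc.trans (isConj_iff.mpr ⟨h, rfl⟩)
  have h2 : ∀ y : G, IsConj b (h * y * h⁻¹) ↔ IsConj b y := by
    intro y
    constructor
    · intro hc; exact hc.trans (isConj_iff.mpr ⟨h⁻¹, by group⟩)
    · intro hc; exact hc.trans (isConj_iff.mpr ⟨h, rfl⟩)
  have h3 : ∀ x y : G, h * x * h⁻¹ * (h * y * h⁻¹) = h * g * h⁻¹ ↔ x * y = g := by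
    intro x y
    constructor
    · intro he
      have : h * (x * y) * h⁻¹ = h * g * h⁻¹ := by rw [← he]; group
      have := mul_right_cancel this
      exact mul_left_cancel this
    · intro he; rw [← he]; group
  unfold cnt
  rw [← Equiv.sum_comp (MulAut.conj h).toEquiv]
  refine Finset.sum_congr rfl fun x _ => ?_
  rw [← Equiv.sum_comp (MulAut.conj h).toEquiv]
  refine Finset.sum_congr rfl fun y _ => ?_
  simp only [MulEquiv.toEquiv_eq_coe, EquivLike.coe_coe, MulAut.conj_apply, h1, h2, h3]

open Classical in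
theorem cnt_conj (a b c : G) : conj (cnt a b c) = cnt a b c := by
  unfold cnt
  rw [map_sum]
  refine Finset.sum_congr rfl fun x _ => ?_
  rw [map_sum]
  refine Finset.sum_congr rfl fun y _ => ?_
  split_ifs <;> simp

open Classical in
theorem card_eq_cnt (a b c : G) :
    (Nat.card {p : G × G // IsConj a p.1 ∧ IsConj b p.2 ∧ p.1 * p.2 = c} : ℂ) = cnt a b c := by
  unfold cnt
  rw [Nat.card_eq_fintype_card, Fintype.card_subtype, Finset.card_filter]
  push_cast
  rw [Fintype.sum_prod_type]

open Classical in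
/-- Product of two class sums, traced. -/
theorem sum_sum_char {n : ℕ} (ρ : Representation ℂ G (Fin n → ℂ)) [ρ.IsIrreducible] (a b : G) :
    ∑ x : G, ∑ y : G, (if IsConj a x ∧ IsConj b y then ρ.character (x * y) else 0) =
      ((Subgroup.centralizer ({a} : Set G)).index : ℂ) *
        ((Subgroup.centralizer ({b} : Set G)).index : ℂ) * ρ.character a * ρ.character b /
          (n : ℂ) := by
  have ha : ∑ h : G, (if IsConj a h then (1 : ℂ) else 0) • ρ h =
      (((Subgroup.centralizer ({a} : Set G)).index : ℂ) * ρ.character a /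
        (Module.finrank ℂ (Fin n → ℂ) : ℂ)) • LinearMap.id := by
    convert Cfsg.Agent.Lib.Helper80.classSum_eq_smul ρ a
  have hb : ∑ h : G, (if IsConj b h then (1 : ℂ) else 0) • ρ h =
      (((Subgroup.centralizer ({b} : Set G)).index : ℂ) * ρ.character b /
        (Module.finrank ℂ (Fin n → ℂ) : ℂ)) • LinearMap.id := by
    convert Cfsg.Agent.Lib.Helper80.classSum_eq_smul ρ b
  have hn : (n : ℂ) ≠ 0 := by
    have := Cfsg.Agent.Lib.Helper80.finrank_ne_zero_of_irreducible ρ
    simpa using this
  have hprod := congrArg₂ (fun S T : (Fin n → ℂ) →ₗ[ℂ] (Fin n → ℂ) =>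
    LinearMap.trace ℂ (Fin n → ℂ) (S * T)) ha hb
  simp only [Module.finrank_fin_fun] at hprod
  have hL : LinearMap.trace ℂ (Fin n → ℂ)
      ((∑ x : G, (if IsConj a x then (1 : ℂ) else 0) • ρ x) *
        (∑ y : G, (if IsConj b y then (1 : ℂ) else 0) • ρ y)) =
      ∑ x : G, ∑ y : G, (if IsConj a x ∧ IsConj b y then ρ.character (x * y) else 0) := by
    rw [Finset.sum_mul, map_sum]
    refine Finset.sum_congr rfl fun x _ => ?_
    rw [Finset.mul_sum, map_sum]
    refine Finset.sum_congr rfl fun y _ => ?_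
    rw [smul_mul_smul_comm, map_smul, ← map_mul]
    by_cases h1 : IsConj a x <;> by_cases h2 : IsConj b y
    · rw [if_pos h1, if_pos h2, if_pos ⟨h1, h2⟩, one_mul, one_smul]; rfl
    · rw [if_pos h1, if_neg h2, if_neg (fun h => h2 h.2), mul_zero, zero_smul]
    · rw [if_neg h1, if_pos h2, if_neg (fun h => h1 h.1), zero_mul, zero_smul]
    · rw [if_neg h1, if_neg h2, if_neg (fun h => h1 h.1), zero_mul, zero_smul]
  rw [← hL, hprod]
  rw [smul_mul_smul_comm, map_smul]
  have : LinearMap.trace ℂ (Fin n → ℂ) (LinearMap.id * LinearMap.id) = (n : ℂ) := by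
    rw [show (LinearMap.id : (Fin n → ℂ) →ₗ[ℂ] (Fin n → ℂ)) = 1 from rfl, mul_one,
      LinearMap.trace_one]
    simp
  rw [this, smul_eq_mul]
  field_simp

end

/-- Class multiplication coefficients from the character table: for elements a, b, c of a finite group G, the number of ordered pairs (x, y) with x conjugate to a, y conjugate to b and x * y = c equals the product of the sizes of the conjugacy classes of a and b, divided by the order of G, times the sum over the irreducible characters χ of χ a * χ b * conj (χ c) / χ 1. -/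
theorem result {G : Type*} [Group G] [Finite G] (a b c : G) : (Nat.card {p : G × G // IsConj a p.1 ∧ IsConj b p.2 ∧ p.1 * p.2 = c} : ℂ) = (Nat.card {x : G // IsConj a x} : ℂ) * (Nat.card {x : G // IsConj b x} : ℂ) / (Nat.card G : ℂ) * ∑ᶠ χ : Cfsg.IrrCharacter G, (χ : G → ℂ) a * (χ : G → ℂ) b * conj ((χ : G → ℂ) c) / (χ : G → ℂ) 1 := by
  classical
  have : Fintype G := Fintype.ofFinite G
  have : Fintype (Cfsg.IrrCharacter G) := Fintype.ofFinite _
  rw [finsum_eq_sum_of_fintype, card_eq_cnt]
  have hG : (Nat.card G : ℂ) ≠ 0 := by exact_mod_cast (Nat.card_pos (α := G)).ne'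
  -- inner products of the counting function with irreducible characters
  have hinner : ∀ χ : Cfsg.IrrCharacter G, classInner (cnt a b) (χ : G → ℂ) =
      (Nat.card G : ℂ)⁻¹ * conj ((Nat.card {x : G // IsConj a x} : ℂ) *
        (Nat.card {x : G // IsConj b x} : ℂ) * (χ : G → ℂ) a * (χ : G → ℂ) b / (χ : G → ℂ) 1) := by
    intro χ
    obtain ⟨χ, n, ρ, hirr, rfl⟩ := χ
    simp only
    unfold classInner
    congr 1
    have h := sum_sum_char ρ a b
    rw [Cfsg.Agent.Lib.Helper80.index_centralizer_eq_card_conj,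
      Cfsg.Agent.Lib.Helper80.index_centralizer_eq_card_conj] at h
    rw [Representation.char_one, Module.finrank_fin_fun, ← h, map_sum]
    unfold cnt
    simp only [Finset.sum_mul]
    rw [Finset.sum_comm]
    refine Finset.sum_congr rfl fun x _ => ?_
    rw [Finset.sum_comm, map_sum]
    refine Finset.sum_congr rfl fun y _ => ?_
    rw [Finset.sum_eq_single (x * y)]
    · by_cases h12 : IsConj a x ∧ IsConj b y
      · rw [if_pos ⟨h12.1, h12.2, rfl⟩, if_pos h12, one_mul]
      · rw [if_neg (fun h => h12 ⟨h.1, h.2.1⟩), if_neg h12, zero_mul, map_zero]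
    · intro g _ hg
      have : ¬ (IsConj a x ∧ IsConj b y ∧ x * y = g) := fun h => hg h.2.2.symm
      rw [if_neg this, zero_mul]
    · intro h; exact absurd (Finset.mem_univ _) h
  have hexp := Cfsg.Agent.Lib.Helper3.classFunction_eq_sum (cnt_isClassFunction a b)
  have hc := congrFun hexp c
  simp only [Finset.sum_apply, Pi.smul_apply, smul_eq_mul] at hc
  rw [← cnt_conj a b c, hc, map_sum, Finset.mul_sum]
  refine Finset.sum_congr rfl fun χ _ => ?_
  rw [hinner χ, map_mul, map_mul, Complex.conj_conj, map_inv₀, Complex.conj_natCast]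
  field_simp

end Cfsg.Agent.S0840
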