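import Cfsg.Statements.S0495
import Mathlib
import Cfsg.Agent.Lib.Helper57.P1Data
import Cfsg.Agent.Lib.Helper17.Order168


set_option autoImplicit false
open Cfsg

namespace Cfsg.Agent.S0495

theorem three_pow_four : (3 : ZMod 7) ^ 4 ≠ 1 := by decide

/-- a simple group of order 168 has no elements of order 6. -/
theorem no_order_six {H : Type*} [Group H] [Finite H] [IsSimpleGroup H] (hH : Nat.card H = 168)
    (x : H) (hx6 : x ^ 6 = 1) : x ^ 2 = 1 ∨ x ^ 3 = 1 := by
  have hd : orderOf x ∣ 6 := orderOf_dvd_of_pow_eq_one hx6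
  rcases Cfsg.Agent.Lib.Helper17.O168.orderOf_mem hH x with h1 | h1 | h1 | h1 | h1
  · left; rw [orderOf_eq_one_iff] at h1; rw [h1, one_pow]
  · left; rw [← h1]; exact pow_orderOf_eq_one x
  · right; rw [← h1]; exact pow_orderOf_eq_one x
  · rw [h1] at hd; omega
  · rw [h1] at hd; omega

/-- A simple group of order 168 is isomorphic to the projective special linear group of dimension 2 over the field with
7 elements. -/
theorem result {G : Type*} [Group G] [Finite G] [IsSimpleGroup G]
    (h : Nat.card G = 168) {F : Type*} [Field F] [Fintype F] (hF : Fintype.card F = 7) :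
    Nonempty (G ≃* Matrix.ProjectiveSpecialLinearGroup (Fin 2) F) := by
  haveI : Fact (Nat.Prime 7) := ⟨by norm_num⟩
  classical
  have hsimple : IsSimpleGroup (Matrix.ProjectiveSpecialLinearGroup (Fin 2) F) :=
    Matrix.ProjectiveSpecialLinearGroup.rank_two_simple (by
      rw [Nat.card_eq_fintype_card, hF]; norm_num)
  have hfin : Finite (Matrix.ProjectiveSpecialLinearGroup (Fin 2) F) := inferInstance
  have hcard : Nat.card (Matrix.ProjectiveSpecialLinearGroup (Fin 2) F) = 168 := by
    have := Cfsg.Agent.Lib.Helper14.PSL2Klein.card_PSL2_mul_two (F := F) (by rw [hF]; decide)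
    rw [hF] at this
    omega
  exact Cfsg.Agent.Lib.Helper57.P1.mulEquiv_psl (p := 7) Cfsg.Agent.Lib.Helper57.P1.arith7 3
    Cfsg.Agent.Lib.Helper57.P1.dl7 true Cfsg.Agent.Lib.Helper57.P1.dl7ok
    Cfsg.Agent.Lib.Helper57.P1.check7 (fun _ => ⟨rfl, three_pow_four⟩)
    (by rw [h]; norm_num) hF (fun _ => no_order_six h) (fun _ => no_order_six hcard)

end Cfsg.Agent.S0495
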