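import Cfsg.Statements.S0497
import Cfsg.Agent.Lib.Helper49.O360C
import Cfsg.Agent.Lib.Helper5.Order60
import Cfsg.Agent.Lib.Helper89.A5Sub

set_option autoImplicit false
open Cfsg

namespace Cfsg.Agent.S0497

open Cfsg.Agent.Lib.Helper49.O360 Cfsg.Agent.Lib.Helper49.O504 Subgroup in
/-- A simple group of order `360` has a subgroup of index `6`. -/
theorem exists_index_six {G : Type*} [Group G] [Finite G] [IsSimpleGroup G]
    (h : Nat.card G = 360) : ∃ H : Subgroup G, H.index = 6 := by
  have := fact_five
  rcases card_sylow5_cases h with h5 | h5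
  · obtain ⟨P⟩ : Nonempty (Sylow 5 G) := inferInstance
    have h6 := P.card_eq_index_normalizer
    rw [h5] at h6
    exact ⟨normalizer ((P : Subgroup G) : Set G), h6.symm⟩
  · obtain ⟨a, b, ha, hb1, hb9, hab⟩ := exists_orderOf_five h h5
    have hb3 : b ^ 3 = 1 := pow_three_of_pow_nine h h5 b hb9
    have ha2 : a * a = 1 := by
      have := pow_orderOf_eq_one a
      rwa [ha, pow_two] at this
    have hab5 : (a * b) ^ 5 = 1 := by
      have := pow_orderOf_eq_one (a * b)
      rwa [hab] at this
    obtain ⟨H, ⟨e⟩⟩ := Cfsg.Agent.Lib.Helper89.exists_subgroup_mulEquiv_alternatingGroup_five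
      b⁻¹ (a * b) (by rw [inv_pow, hb3, inv_one]) hab5
      (by
        rw [pow_two]
        calc b⁻¹ * (a * b) * (b⁻¹ * (a * b)) = b⁻¹ * (a * a) * b := by group
          _ = 1 := by rw [ha2]; group)
      (by simpa using hb1)
    have hH : Nat.card ↥H = 60 := by
      rw [Nat.card_congr e.toEquiv, nat_card_alternatingGroup]
      simp [Nat.factorial]
    refine ⟨H, ?_⟩
    have := H.card_mul_index
    rw [hH, h] at this
    omega

/-- A simple group of order 360 is isomorphic to the alternating group of degree 6. -/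
theorem result {G : Type*} [Group G] [Finite G] [IsSimpleGroup G]
    (h : Nat.card G = 360) : Nonempty (G ≃* alternatingGroup (Fin 6)) := by
  obtain ⟨H, hH⟩ := exists_index_six h
  exact Cfsg.Agent.Lib.Helper5.mulEquiv_alternatingGroup_of_index 6 H hH (by omega)
    (by rw [h]; rfl)

end Cfsg.Agent.S0497
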