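import Cfsg.Statements.S0848
import Cfsg.Agent.Lib.Helper81.DihEightChar
import Cfsg.Agent.Lib.Helper81.DihEightArith

set_option autoImplicit false
open Cfsg

namespace Cfsg.Agent.S0848

/-- If a finite group equals its own commutator subgroup and contains an involution whose centralizer is isomorphic to the dihedral group of order 8, then the group has order 168 or 360. -/
theorem result {G : Type*} [Group G] [Finite G] (hperf : commutator G = ⊤) (t : G) (ht : orderOf t = 2) (e : Subgroup.centralizer ({t} : Set G) ≃* DihedralGroup 4) : Nat.card G = 168 ∨ Nat.card G = 360 := by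
  have hsetup : Cfsg.Agent.Lib.Helper81.DE.Setup
      ((Subgroup.centralizer ({t} : Set G)).subtype.comp e.symm.toMonoidHom) t := by
    refine ⟨?_, ?_, ht⟩
    · intro x y hxy
      apply e.symm.injective
      apply Subtype.ext
      exact hxy
    · ext g
      constructor
      · intro hg
        refine ⟨e ⟨g, hg⟩, ?_⟩
        show ((e.symm (e ⟨g, hg⟩) : Subgroup.centralizer ({t} : Set G)) : G) = g
        rw [e.symm_apply_apply]
      · rintro ⟨d, rfl⟩
        exact (e.symm d).2
  obtain ⟨m, n₁, n₂, n₃, d₁, d₂, d₃, hm, hN, hd₁, hd₂, hd₃, h₁, h₂, h₃, hlin, hmul, hsq⟩ :=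
    Cfsg.Agent.Lib.Helper81.DE.char_data hsetup hperf
  exact Cfsg.Agent.Lib.Helper81.DE.arith (Nat.card G) m n₁ n₂ n₃ d₁ d₂ d₃ hm hN hd₁ hd₂ hd₃
    h₁ h₂ h₃ hlin hmul hsq

end Cfsg.Agent.S0848
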