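import Cfsg.Statements.S0256
import Cfsg.Agent.Lib.Helper89.TableChain
import Cfsg.Agent.Lib.Helper5.Order60
import Cfsg.Agent.Lib.Helper5.PSLSimple
import Cfsg.Agent.S0243

set_option autoImplicit false
open Cfsg

namespace Cfsg.Agent.S0256

open Cfsg.Agent.Lib.Helper89 Matrix

/-! A subgroup of order 2520 (a copy of `A₇`) of `SL₄(2)`, by a verified stabilizer chain on the
16 vectors (data generated by `tools/helper89/s0256gen.py`). -/

abbrev K2 := ZMod 2
abbrev SL4 := Matrix.SpecialLinearGroup (Fin 4) K2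

/-- the vector with bit pattern `x` -/
def pt (x : Fin 16) : Fin 4 → K2 := fun i => if x.val.testBit i.val then 1 else 0

def gm0 : Matrix (Fin 4) (Fin 4) K2 := !![1, 0, 1, 0; 0, 1, 0, 1; 0, 0, 1, 1; 0, 0, 1, 0]
def gm1 : Matrix (Fin 4) (Fin 4) K2 := !![1, 0, 1, 1; 0, 1, 1, 0; 0, 0, 0, 1; 0, 0, 1, 1]
def gm2 : Matrix (Fin 4) (Fin 4) K2 := !![1, 1, 0, 0; 0, 1, 1, 1; 0, 1, 1, 0; 0, 1, 0, 0]
def gm3 : Matrix (Fin 4) (Fin 4) K2 := !![1, 1, 1, 1; 1, 1, 0, 0; 1, 0, 1, 1; 1, 0, 0, 1]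

set_option maxRecDepth 100000 in
def gen : Fin 4 → SL4 := ![⟨gm0, by decide⟩, ⟨gm1, by decide⟩, ⟨gm2, by decide⟩, ⟨gm3, by decide⟩]

def tabL : List (List (Fin 16)) := [
  [0, 1, 2, 3, 13, 12, 15, 14, 6, 7, 4, 5, 11, 10, 9, 8],
  [0, 1, 2, 3, 11, 10, 9, 8, 13, 12, 15, 14, 6, 7, 4, 5],
  [0, 1, 15, 14, 6, 7, 9, 8, 2, 3, 13, 12, 4, 5, 11, 10],
  [0, 15, 3, 12, 5, 10, 6, 9, 13, 2, 14, 1, 8, 7, 11, 4]
]

def tab (j : Fin 4) (x : Fin 16) : Fin 16 := (tabL.getD j.val []).getD x.val 0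

set_option maxRecDepth 100000 in
theorem gen_smul : ∀ j x, gen j • pt x = pt (tab j x) := by decide

set_option maxRecDepth 100000 in
theorem pt_single : ∀ k : Fin 4, ∃ x : Fin 16, pt x = Pi.single k 1 := by decide

set_option maxRecDepth 100000 in
theorem pt_inj : Function.Injective pt := by decide

theorem faithful (g g' : SL4) (h : ∀ x, g • pt x = g' • pt x) : g = g' := by
  apply Subtype.ext
  ext i k
  obtain ⟨x, hx⟩ := pt_single k
  have := congrFun (h x) i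
  rw [hx] at this
  change (g.1 *ᵥ Pi.single k 1) i = (g'.1 *ᵥ Pi.single k 1) i at this
  rw [Matrix.mulVec_single_one, Matrix.mulVec_single_one] at this
  exact this

/-- the chain data -/
def D : TableChain.Data SL4 (Fin 4 → K2) 4 16 := ⟨gen, pt, tab, gen_smul, faithful, pt_inj⟩

def T0 : List (List (Fin 4)) := [
  [],
  [2, 0, 3],
  [3, 2, 0, 3],
  [3, 3],
  [1, 3],
  [0, 0, 3],
  [2, 1, 3],
  [0, 3],
  [1, 0, 0, 3],
  [2, 3],
  [1, 3, 3],
  [0, 1, 3],
  [1, 0, 3],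
  [3, 2, 3],
  [3]
]

def E0 : List (List (ℕ × List (Fin 4))) := [
  [(0, [0]), (1, [0, 1, 2, 1, 0, 0]), (2, [0, 2, 2, 1, 0, 0]), (12, [1, 2, 1, 0]), (11, []), (14, []), (13, [0, 2, 2, 1, 1, 0]), (5, []), (6, [0, 0, 2, 0, 1, 1]), (3, [1, 0, 2]), (4, [1, 2, 1, 0]), (10, [1, 0, 0, 2, 0, 1, 1]), (9, [2, 1, 2, 1]), (8, [0, 1, 2, 0, 0, 1]), (7, [])],
  [(0, [1]), (1, [0, 2, 2, 1]), (2, [0, 0, 2, 1, 0]), (10, []), (9, [2, 1, 2, 1]), (8, []), (7, [1, 2, 0, 0]), (12, []), (11, []), (14, [2, 1]), (13, [0, 2, 2, 0, 1, 1, 0]), (5, []), (6, [0, 0, 2, 0, 1, 1]), (3, [1, 2, 1, 1, 0]), (4, [])],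
  [(0, [2]), (14, [0, 2, 1, 2, 0, 0]), (13, [2, 1, 2, 1, 0]), (5, [0, 2, 1, 1]), (6, []), (8, [0, 2, 2, 1]), (7, [2, 1, 0, 0, 2, 0, 1, 1]), (1, []), (2, [0, 0, 2, 1, 1, 0]), (12, [1, 2, 0, 0]), (11, [0, 2, 1, 2, 1, 0]), (3, [1, 2, 1]), (4, [0, 2, 1, 2, 0, 0]), (10, [1, 0, 2, 1, 0]), (9, [])],
  [(14, []), (2, []), (11, [0, 0, 1, 2, 0, 0, 1]), (4, [1, 0, 2, 1]), (9, [0, 2, 1, 2, 0, 1]), (5, [0, 2, 1, 2, 0, 0, 1]), (8, [0, 2, 1, 1]), (12, [2, 2, 0]), (1, [2, 1, 0, 0, 2, 1]), (13, []), (0, [0, 0, 2, 0, 0]), (7, [0, 2, 2, 0]), (6, [2, 1, 0, 0]), (10, [0, 2, 1, 2, 1]), (3, [])]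
]

set_option maxRecDepth 100000 in
theorem level0 : TableChain.LevelOK tab 4 3 1 T0 E0 :=
  ⟨by decide, by decide, by decide, by decide, by decide, by decide, by decide⟩

def T1 : List (List (Fin 4)) := [
  [],
  [2, 1, 0, 0, 2],
  [0, 2, 2],
  [1, 2],
  [0, 0, 2],
  [2, 1, 2],
  [0, 2],
  [1, 0, 0, 2],
  [2, 2],
  [0, 0, 1, 2],
  [0, 1, 2],
  [1, 0, 2],
  [0, 2, 1, 2],
  [2]
]

def E1 : List (List (ℕ × List (Fin 4))) := [
  [(0, [0]), (1, [0, 0]), (11, [1]), (10, []), (13, []), (12, []), (4, []), (5, [1, 0, 0]), (2, []), (3, []), (9, []), (8, [1, 1]), (7, [0, 1, 1]), (6, [])],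
  [(0, [1]), (1, [0, 0, 1]), (9, [1]), (8, [1, 1]), (7, []), (6, [0, 1, 1]), (11, []), (10, []), (13, [1]), (12, [1, 0, 0]), (4, []), (5, [1, 0, 0]), (2, [0, 1, 1, 0]), (3, [])],
  [(13, []), (12, [1]), (4, []), (5, []), (7, [1, 1, 0]), (6, [0, 1]), (0, [0, 0]), (1, []), (11, [0, 1, 1]), (10, [0, 1, 1, 0]), (2, [1, 1, 0]), (3, [0, 0]), (9, []), (8, [])]
]

set_option maxRecDepth 100000 in
theorem level1 : TableChain.LevelOK tab 3 2 2 T1 E1 :=
  ⟨by decide, by decide, by decide, by decide, by decide, by decide, by decide⟩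

def T2 : List (List (Fin 4)) := [
  [],
  [0, 1],
  [0, 1, 1, 0],
  [1, 0],
  [1, 1, 0],
  [0, 1, 1],
  [0, 0],
  [1],
  [0, 0, 1],
  [0],
  [1, 1],
  [1, 0, 0]
]

def E2 : List (List (ℕ × List (Fin 4))) := [
  [(9, []), (8, []), (11, []), (10, []), (2, []), (3, []), (0, []), (1, []), (7, []), (6, []), (5, []), (4, [])],
  [(7, []), (6, []), (5, []), (4, []), (9, []), (8, []), (11, []), (10, []), (2, []), (3, []), (0, []), (1, [])]
]

set_option maxRecDepth 100000 in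
theorem level2 : TableChain.LevelOK tab 2 0 4 T2 E2 :=
  ⟨by decide, by decide, by decide, by decide, by decide, by decide, by decide⟩

theorem card_A7 : Nat.card (D.H 4) = 2520 := by
  rw [TableChain.Data.card (D := D) level0, TableChain.Data.card (D := D) level1,
    TableChain.Data.card (D := D) level2, TableChain.Data.card_H_zero]
  simp [T0, T1, T2]

section transfer

variable {F : Type*} [Field F] [Fintype F]

theorem center_SL_eq_bot (hF : Fintype.card F = 2) :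
    Subgroup.center (Matrix.SpecialLinearGroup (Fin 4) F) = ⊥ := by
  classical
  rw [eq_bot_iff]
  intro A hA
  rw [Matrix.SpecialLinearGroup.mem_center_iff] at hA
  obtain ⟨r, hr, hA⟩ := hA
  have hr0 : r ≠ 0 := by
    rintro rfl
    simp at hr
  have hr1 : r = 1 := by
    have hcu : Fintype.card Fˣ = 1 := by rw [Fintype.card_units F, hF]
    have : Subsingleton Fˣ := Fintype.card_le_one_iff_subsingleton.mp hcu.le
    have := Subsingleton.elim (Units.mk0 r hr0) 1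
    simpa using congrArg Units.val this
  rw [Subgroup.mem_bot]
  apply Subtype.ext
  rw [← hA, hr1]
  simp

end transfer

theorem result {F : Type*} [Field F] [Fintype F] (hF : Fintype.card F = 2) : Nonempty (Matrix.ProjectiveSpecialLinearGroup (Fin 4) F ≃* alternatingGroup (Fin 8)) := by
  classical
  have hsimple : IsSimpleGroup (Matrix.ProjectiveSpecialLinearGroup (Fin 4) F) :=
    Cfsg.Agent.Lib.Helper5.PSL_isSimpleGroup_of_three_le (by simp)
  have hcard : Nat.card (Matrix.ProjectiveSpecialLinearGroup (Fin 4) F) = 20160 := by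
    have hcard := Cfsg.Agent.S0243.result hF 4 (by norm_num)
    rw [Fin.prod_univ_four] at hcard
    norm_num at hcard
    rw [Nat.card_eq_fintype_card]
    omega
  -- the embedding of `SL₄(ZMod 2)`
  let σ : ZMod 2 ≃+* F := ZMod.ringEquivOfPrime F Nat.prime_two hF
  let φ : SL4 →* Matrix.ProjectiveSpecialLinearGroup (Fin 4) F :=
    (QuotientGroup.mk' _).comp (Matrix.SpecialLinearGroup.map σ.toRingHom)
  have hφ : Function.Injective φ := by
    rw [← MonoidHom.ker_eq_bot_iff, eq_bot_iff]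
    intro g hg
    rw [MonoidHom.mem_ker] at hg
    have h1 : Matrix.SpecialLinearGroup.map σ.toRingHom g ∈
        Subgroup.center (Matrix.SpecialLinearGroup (Fin 4) F) :=
      (QuotientGroup.eq_one_iff _).mp hg
    rw [center_SL_eq_bot hF, Subgroup.mem_bot] at h1
    rw [Subgroup.mem_bot]
    apply Subtype.ext
    ext i j
    have := congrArg (fun A : Matrix.SpecialLinearGroup (Fin 4) F => A.1 i j) h1
    simp only [Matrix.SpecialLinearGroup.map_apply_coe, RingHom.mapMatrix_apply,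
      Matrix.map_apply, Matrix.SpecialLinearGroup.coe_one] at this
    have h2 : σ (g.1 i j) = σ ((1 : Matrix (Fin 4) (Fin 4) (ZMod 2)) i j) := by
      rw [show (σ.toRingHom (g.1 i j)) = σ (g.1 i j) from rfl] at this
      rw [this]
      by_cases hij : i = j
      · subst hij; simp
      · simp [hij]
    exact σ.injective h2
  let H : Subgroup (Matrix.ProjectiveSpecialLinearGroup (Fin 4) F) := (D.H 4).map φ
  have hHcard : Nat.card H = 2520 := by
    rw [← card_A7]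
    exact Nat.card_congr ((D.H 4).equivMapOfInjective φ hφ).symm.toEquiv
  have hidx : H.index = 8 := by
    have := H.card_mul_index
    rw [hHcard, hcard] at this
    omega
  exact Cfsg.Agent.Lib.Helper5.mulEquiv_alternatingGroup_of_index 8 H hidx (by rw [hcard]; norm_num)
    (by rw [hcard]; decide)

end Cfsg.Agent.S0256
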