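import Cfsg.Statements.S5088
import Cfsg.Agent.Lib.Helper87.NormalChain

set_option autoImplicit false
open Cfsg

namespace Cfsg.Agent.S5088

open Cfsg.Agent.Lib.Helper87

theorem stronglyClosed_bot {Ω : Type*} [Group Ω] {S : Subgroup Ω} (F : Cfsg.FusionSystem S) :
    F.StronglyClosed (⊥ : Subgroup Ω) := by
  refine ⟨bot_le, fun R hR φ _ x => ?_⟩
  have hx : (x : Ω) = 1 := by
    have := hR x.2
    rwa [Subgroup.mem_bot] at this
  have : x = 1 := Subtype.ext hx
  rw [this, map_one]
  exact Subgroup.one_mem _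

theorem comm_self_le {Ω : Type*} [Group Ω] (Q : Subgroup Ω) : ⁅Q, Q⁆ ≤ Q :=
  Subgroup.commutator_le.mpr (fun a ha b hb =>
    Q.mul_mem (Q.mul_mem (Q.mul_mem ha hb) (Q.inv_mem ha)) (Q.inv_mem hb))

/-- In a saturated fusion system over a finite p-group, a subgroup Q is normal in the system if and only if there is a chain of subgroups 1 = Q₀ ≤ Q₁ ≤ ⋯ ≤ Qₙ = Q such that each Qᵢ with i ≥ 1 is strongly closed in the system and [Q, Qᵢ] ≤ Qᵢ₋₁. -/
theorem result {Ω : Type*} [Group Ω] {S : Subgroup Ω} [Finite S] (p : ℕ) [Fact p.Prime] (hS : IsPGroup p S) (F : Cfsg.FusionSystem S) (hF : F.IsSaturated p) (Q : Subgroup Ω) : F.IsNormal Q ↔ ∃ (n : ℕ) (Qs : Fin (n + 1) → Subgroup Ω), Qs 0 = ⊥ ∧ Qs (Fin.last n) = Q ∧ Monotone Qs ∧ ∀ i : Fin n, F.StronglyClosed (Qs i.succ) ∧ ⁅Q, Qs i.succ⁆ ≤ Qs (Fin.castSucc i) := by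
  constructor
  · intro hN
    obtain ⟨n, hn⟩ := ucs_eq_top hS hN.1
    refine ⟨n, fun i => ucs Q i, ucs_zero Q, hn, fun a b hab => ucs_mono Q hab, fun i => ?_⟩
    refine ⟨ucs_stronglyClosed F hN _, ?_⟩
    rw [Subgroup.commutator_comm]
    exact ucs_comm Q i
  · rintro ⟨n, Qs, h0, hlast, hmono, hstep⟩
    have hlt : ∀ j : ℕ, min j n < n + 1 := fun j => Nat.lt_succ_of_le (Nat.min_le_right j n)
    set c : ℕ → Subgroup Ω := fun j => Qs ⟨min j n, hlt j⟩ with hc
    have hc0 : c 0 = ⊥ := by
      show Qs ⟨min 0 n, hlt 0⟩ = ⊥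
      have : (⟨min 0 n, hlt 0⟩ : Fin (n + 1)) = 0 := Fin.ext (by simp)
      rw [this, h0]
    have hcmono : Monotone c := by
      intro a b hab
      apply hmono
      show min a n ≤ min b n
      exact min_le_min_right n hab
    have hcQ : ∀ j, c j ≤ Q := by
      intro j
      rw [← hlast]
      apply hmono
      exact Fin.le_last _
    have hsc_succ : ∀ j : ℕ, 1 ≤ j → 1 ≤ n → F.StronglyClosed (c j) := by
      intro j hj hn
      have hm : 1 ≤ min j n := le_min hj hn
      have hlt' : min j n - 1 < n := by have := Nat.min_le_right j n; omega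
      have : (⟨min j n, hlt j⟩ : Fin (n + 1)) = (⟨min j n - 1, hlt'⟩ : Fin n).succ := by
        apply Fin.ext
        simp only [Fin.succ_mk]
        omega
      show F.StronglyClosed (Qs ⟨min j n, hlt j⟩)
      rw [this]
      exact (hstep _).1
    have hQsc : F.StronglyClosed Q := by
      rcases Nat.eq_zero_or_pos n with hn | hn
      · subst hn
        have : Q = ⊥ := by rw [← hlast, ← h0]; rfl
        rw [this]; exact stronglyClosed_bot F
      · have h1 := hsc_succ n hn hn
        have : c n = Q := by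
          show Qs ⟨min n n, hlt n⟩ = Q
          rw [← hlast]
          congr 1
          apply Fin.ext
          simp
        rwa [this] at h1
    have hcsc : ∀ j, F.StronglyClosed (c j) := by
      intro j
      rcases Nat.eq_zero_or_pos n with hn | hn
      · have : c j = ⊥ := by
          show Qs ⟨min j n, hlt j⟩ = ⊥
          rw [← h0]
          congr 1
          apply Fin.ext
          simp [hn]
        rw [this]; exact stronglyClosed_bot F
      · rcases Nat.eq_zero_or_pos j with hj | hj
        · rw [hj, hc0]; exact stronglyClosed_bot F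
        · exact hsc_succ j hj hn
    have hccomm : ∀ j, ⁅c (j + 1), Q⁆ ≤ c j := by
      intro j
      by_cases hj : j < n
      · have e1 : (⟨min (j + 1) n, hlt (j + 1)⟩ : Fin (n + 1)) = (⟨j, hj⟩ : Fin n).succ := by
          apply Fin.ext
          simp only [Fin.succ_mk]
          omega
        have e2 : (⟨min j n, hlt j⟩ : Fin (n + 1)) = Fin.castSucc (⟨j, hj⟩ : Fin n) := by
          apply Fin.ext
          simp only [Fin.castSucc_mk]
          omega
        show ⁅Qs ⟨min (j + 1) n, hlt (j + 1)⟩, Q⁆ ≤ Qs ⟨min j n, hlt j⟩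
        rw [e1, e2, Subgroup.commutator_comm]
        exact (hstep _).2
      · have e1 : c (j + 1) = Q := by
          show Qs ⟨min (j + 1) n, hlt (j + 1)⟩ = Q
          rw [← hlast]
          congr 1
          apply Fin.ext
          simp only [Fin.val_last]
          omega
        have e2 : c j = Q := by
          show Qs ⟨min j n, hlt j⟩ = Q
          rw [← hlast]
          congr 1
          apply Fin.ext
          simp only [Fin.val_last]
          omega
        rw [e1, e2]
        exact comm_self_le Q
    apply isNormal_of_weaklyClosed_of_le_alperin hS F hF (weaklyClosed_of_stronglyClosed F hQsc)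
    intro R hR
    have hRS : R ≤ S := hR.1.1
    have hcen : Cfsg.FusionSystem.centralizerIn S R ≤ R := hR.2.2.1.2 R (isConj_refl F hRS)
    have := le_of_centric_radical hS F hQsc c hc0 hcmono hcQ hccomm
      (fun j => weaklyClosed_of_stronglyClosed F (hcsc j)) hRS hcen hR.2.2.2 n
    have e : c n = Q := by
      show Qs ⟨min n n, hlt n⟩ = Q
      rw [← hlast]
      congr 1
      apply Fin.ext
      simp
    rwa [e] at this

end Cfsg.Agent.S5088
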