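import Cfsg.Statements.S2821
import Cfsg.Agent.Lib.Helper47.YL

set_option autoImplicit false
open Cfsg
open Cfsg.Agent.Lib.Helper47
open scoped commutatorElement

namespace Cfsg.Agent.S2821

/-- Let H be a finite group, p a prime, T a Sylow p-subgroup and L a subgroup of characteristic p containing T; let Y_L be the largest p-reduced normal subgroup of L (the join of the normal elementary abelian p-subgroups V of L with O_p(L/C_L(V)) = 1). Then T₀ := C_T(Y_L) is a Sylow p-subgroup of C_H(Y_L); moreover O_p(L) ≤ T₀ ≤ C_L(Y_L) and Ω₁(Z(T)) ≤ Z_L ≤ Y_L ≤ Ω₁(Z(O_p(L))), where Z_L is generated by the Ω₁(Z(S)) over the Sylow p-subgroups S of L. -/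
theorem result {H : Type*} [Group H] [Finite H] {p : ℕ} [Fact p.Prime] (T : Sylow p H) (L : Subgroup H) (hTL : (T : Subgroup H) ≤ L) (hL : Subgroup.centralizer (Cfsg.pCore p ↥L : Set ↥L) ≤ Cfsg.pCore p ↥L) (T₀ : Subgroup H) (hT₀ : T₀ = (T : Subgroup H) ⊓ Subgroup.centralizer (((Cfsg.largestPReducedOf p L) : Subgroup H) : Set H)) : (∃ P : Sylow p ↥(Subgroup.centralizer (((Cfsg.largestPReducedOf p L) : Subgroup H) : Set H)), (P : Subgroup ↥(Subgroup.centralizer (((Cfsg.largestPReducedOf p L) : Subgroup H) : Set H))) = T₀.subgroupOf (Subgroup.centralizer (((Cfsg.largestPReducedOf p L) : Subgroup H) : Set H))) ∧ (Cfsg.pCoreOf p L) ≤ T₀ ∧ T₀ ≤ L ⊓ Subgroup.centralizer (((Cfsg.largestPReducedOf p L) : Subgroup H) : Set H) ∧ (Cfsg.omegaOne p ((T : Subgroup H) ⊓ Subgroup.centralizer (((T : Subgroup H) : Subgroup H) : Set H))) ≤ Cfsg.sylowCenterClosure p L ∧ Cfsg.sylowCenterClosure p L ≤ (Cfsg.largestPReducedOf p L) ∧ (Cfsg.largestPReducedOf p L) ≤ (Cfsg.omegaOne p ((Cfsg.pCoreOf p L)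 ⊓ Subgroup.centralizer (((Cfsg.pCoreOf p L) : Subgroup H) : Set H))) := by
  classical
  set Y : Subgroup H := largestPReducedOf p L with hY
  set C : Subgroup H := Subgroup.centralizer (Y : Set H) with hC
  have hLY : L ≤ Subgroup.normalizer (Y : Set H) := le_normalizer_largestPReducedOf p L
  have hLC : L ≤ Subgroup.normalizer (C : Set H) :=
    hLY.trans (normalizer_le_normalizer_centralizer Y)
  have hTC : (T : Subgroup H) ≤ Subgroup.normalizer (C : Set H) := hTL.trans hLC
  refine ⟨?_, ?_, ?_, ?_, ?_, ?_⟩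
  · obtain ⟨P', hP'⟩ := exists_sylow_subgroupOf_of_le_normalizer T C hTC
    refine ⟨P', ?_⟩
    rw [hP', hT₀, Subgroup.inf_subgroupOf_right]
  · rw [hT₀]
    exact le_inf (pCoreOf_le_sylow T hTL) (pCoreOf_le_centralizer_largestPReducedOf p L)
  · rw [hT₀]; exact inf_le_inf_right _ hTL
  · unfold sylowCenterClosure
    have h1 := le_iSup (fun S : Sylow p ↥L => omegaOne p (((S : Subgroup ↥L).map L.subtype) ⊓
      Subgroup.centralizer (((S : Subgroup ↥L).map L.subtype : Subgroup H) : Set H))) (T.subtype hTL)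
    have hmap : ((T.subtype hTL : Sylow p ↥L) : Subgroup ↥L).map L.subtype = (T : Subgroup H) := by
      rw [Sylow.coe_subtype]; exact Subgroup.map_subgroupOf_eq_of_le hTL
    simp only [hmap] at h1
    exact h1
  · unfold sylowCenterClosure
    apply iSup_le
    intro S
    have h1 := omegaOne_center_sylow_le_largestPReduced hL S
    unfold omegaOne
    rw [Subgroup.closure_le]
    rintro x ⟨⟨hxS, hxC⟩, hxp⟩
    obtain ⟨s, hs, rfl⟩ := hxS
    have hxC' : (s : H) ∈ Subgroup.centralizer
        (((S : Subgroup ↥L).map L.subtype : Subgroup H) : Set H) := hxC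
    refine ⟨s, h1 (Subgroup.subset_closure ⟨⟨hs, Subgroup.mem_centralizer_iff.mpr ?_⟩, ?_⟩), rfl⟩
    · intro t ht
      apply Subtype.ext
      have := (Subgroup.mem_centralizer_iff.mp hxC') (t : H) ⟨t, ht, rfl⟩
      simpa using this
    · apply Subtype.ext
      simpa using hxp
  · rintro x ⟨y, hy, rfl⟩
    apply Subgroup.subset_closure
    refine ⟨⟨⟨y, largestPReduced_le_pCore hy, rfl⟩, Subgroup.mem_centralizer_iff.mpr ?_⟩, ?_⟩
    · rintro z ⟨z', hz', rfl⟩
      have := (Subgroup.mem_centralizer_iff.mp (pCore_le_centralizer_largestPReduced hz')) y hy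
      have h2 := congrArg (fun w : ↥L => (w : H)) this
      simpa using h2.symm
    · have := (largestPReduced_isPReducedNormal p ↥L).2.1.2 y hy
      have h2 := congrArg (fun w : ↥L => (w : H)) this
      simpa using h2

end Cfsg.Agent.S2821
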