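import Cfsg.Statements.S2728
import Cfsg.Agent.Lib.Helper37.MinusAut
import Cfsg.Agent.Lib.Helper37.SimDihedral
import Cfsg.Agent.S0791

set_option autoImplicit false
open Cfsg

namespace Cfsg.Agent.S2728

/-- Let T = PΩ⁻_{2m+2}(F) with m ≥ 3 and |F| = q odd (form with anisotropic binary part). The image G̃ of the conformal orthogonal group in Aut(T), taken modulo the inner automorphism group T, is dihedral of order 8 when m is even and q ≡ 3 (mod 4), and elementary abelian of order 4 otherwise. -/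
theorem result {F : Type*} [Field F] [Fintype F] (hodd : Odd (Fintype.card F)) {m : ℕ} (hm : 3 ≤ m) (a b : F) (hab : (∀ z₁ z₂ : F, z₁ ^ 2 + a * z₁ * z₂ + b * z₂ ^ 2 = 0 → z₁ = 0 ∧ z₂ = 0)) :
    ((Even m ∧ Fintype.card F % 4 = 3) → (∃ φ : ↥(Cfsg.pgoAut F (Cfsg.quadFormMinus m F a b)) →* DihedralGroup 4, Function.Surjective φ ∧ φ.ker = (Cfsg.Inn (Cfsg.POmega F (Cfsg.quadFormMinus m F a b))).subgroupOf (Cfsg.pgoAut F (Cfsg.quadFormMinus m F a b)))) ∧ (¬ (Even m ∧ Fintype.card F % 4 = 3) → (∃ φ : ↥(Cfsg.pgoAut F (Cfsg.quadFormMinus m F a b)) →* Multiplicative (ZMod 2 × ZMod 2), Function.Surjective φ ∧ φ.ker = (Cfsg.Inn (Cfsg.POmega F (Cfsg.quadFormMinus m F a b))).subgroupOf (Cfsg.pgoAut F (Cfsg.quadFormMinus m F a b)))) := by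
  classical
  have h2 : (2 : F) ≠ 0 := Cfsg.Agent.Lib.Helper37.two_ne_zero_of_odd_card hodd
  have hcrit := Cfsg.Agent.S0791.result (F := F) rfl hodd (m + 1) (by omega) a b hab
  rw [Nat.add_sub_cancel] at hcrit
  obtain ⟨d, hd⟩ := Cfsg.Agent.Lib.Helper37.minus_exists_sim h2 m a b hab
  have hmain := Cfsg.Agent.Lib.Helper37.pgo_mod_inn
    (Cfsg.Agent.Lib.Helper37.minus_isGram h2 m a b)
    (Cfsg.Agent.Lib.Helper37.gramM_det_ne_zero h2 m a b hab)
    (Cfsg.Agent.Lib.Helper37.minus_card_two_mul m)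
    (by rw [Cfsg.Agent.Lib.Helper37.minus_card_two_mul]; omega)
    (Cfsg.Agent.Lib.Helper37.minus_hker hm a b hab) d hd
  constructor
  · rintro ⟨hme, hq⟩
    apply hmain.1
    rw [hcrit]
    obtain ⟨r, rfl⟩ := hme
    have : r + r + 1 = 2 * r + 1 := by ring
    rw [this, Cfsg.Agent.Lib.Helper37.pow_mod_four_odd _ r hodd, hq]
  · intro hnot
    apply hmain.2
    rw [hcrit]
    rcases Nat.even_or_odd' m with ⟨r, rfl | rfl⟩
    · rw [Cfsg.Agent.Lib.Helper37.pow_mod_four_odd _ r hodd]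
      exact fun h3 => hnot ⟨⟨r, by ring⟩, h3⟩
    · have : 2 * r + 1 + 1 = 2 * (r + 1) := by ring
      rw [this, Cfsg.Agent.Lib.Helper37.pow_mod_four_even _ (r + 1) hodd]
      decide

end Cfsg.Agent.S2728
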