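import Cfsg.Statements.S2723
import Cfsg.Agent.Lib.Helper37.PlusAut
import Cfsg.Agent.Lib.Helper37.SimIndex
import Cfsg.Agent.S0790

set_option autoImplicit false
open Cfsg

namespace Cfsg.Agent.S2723

/-- Let T = PΩ⁺_{2m}(F) with m ≥ 4 and |F| = q odd. The image of the special orthogonal group in Aut(T) contains the inner automorphism group T with index 1 (they coincide) when m is odd and q ≡ 3 (mod 4), and with index 2 otherwise (the index is 2 exactly when the discriminant of the form is a square). -/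
theorem result {F : Type*} [Field F] [Fintype F] (hodd : Odd (Fintype.card F)) {m : ℕ} (hm : 4 ≤ m) :
    ((Odd m ∧ Fintype.card F % 4 = 3) → (Cfsg.Inn (Cfsg.POmega F (Cfsg.quadFormPlus m F))).relIndex (Cfsg.psoAut F (Cfsg.quadFormPlus m F)) = 1) ∧ (¬ (Odd m ∧ Fintype.card F % 4 = 3) → (Cfsg.Inn (Cfsg.POmega F (Cfsg.quadFormPlus m F))).relIndex (Cfsg.psoAut F (Cfsg.quadFormPlus m F)) = 2) := by
  classical
  have h2 : (2 : F) ≠ 0 := Cfsg.Agent.Lib.Helper37.two_ne_zero_of_odd_card hodd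
  have hcrit := Cfsg.Agent.S0790.result (F := F) rfl hodd m (by omega)
  have hmain := Cfsg.Agent.Lib.Helper37.inn_relIndex_pso
    (Cfsg.Agent.Lib.Helper37.plus_isGram h2 m)
    (Cfsg.Agent.Lib.Helper37.gramP_det_ne_zero m) (Cfsg.Agent.Lib.Helper37.plus_card_two_mul m)
    (by rw [Cfsg.Agent.Lib.Helper37.plus_card_two_mul]; omega)
    (Cfsg.Agent.Lib.Helper37.plus_hker hm)
  constructor
  · rintro ⟨hmo, hq⟩
    apply hmain.2
    rw [hcrit]
    obtain ⟨r, rfl⟩ := hmo
    rw [Cfsg.Agent.Lib.Helper37.pow_mod_four_odd _ r hodd, hq]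
    decide
  · intro hnot
    apply hmain.1
    rw [hcrit]
    rcases Nat.even_or_odd' m with ⟨r, rfl | rfl⟩
    · exact Cfsg.Agent.Lib.Helper37.pow_mod_four_even _ r hodd
    · rw [Cfsg.Agent.Lib.Helper37.pow_mod_four_odd _ r hodd]
      have h3 : ¬ (Fintype.card F % 4 = 3) := fun h3 => hnot ⟨⟨r, rfl⟩, h3⟩
      obtain ⟨t, ht⟩ := hodd
      omega

end Cfsg.Agent.S2723
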