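import Cfsg.Statements.S2724
import Cfsg.Agent.Lib.Helper37.PlusAut
import Cfsg.Agent.Lib.Helper37.SimDihedral
import Cfsg.Agent.S0790

set_option autoImplicit false
open Cfsg

namespace Cfsg.Agent.S2724

/-- Let T = PΩ⁺_{2m}(F) with m ≥ 4 and |F| = q odd. The image G̃ of the conformal orthogonal group in Aut(T), taken modulo the inner automorphism group T, is elementary abelian of order 4 when m is odd and q ≡ 3 (mod 4), and dihedral of order 8 otherwise. -/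
theorem result {F : Type*} [Field F] [Fintype F] (hodd : Odd (Fintype.card F)) {m : ℕ} (hm : 4 ≤ m) :
    ((Odd m ∧ Fintype.card F % 4 = 3) → (∃ φ : ↥(Cfsg.pgoAut F (Cfsg.quadFormPlus m F)) →* Multiplicative (ZMod 2 × ZMod 2), Function.Surjective φ ∧ φ.ker = (Cfsg.Inn (Cfsg.POmega F (Cfsg.quadFormPlus m F))).subgroupOf (Cfsg.pgoAut F (Cfsg.quadFormPlus m F)))) ∧ (¬ (Odd m ∧ Fintype.card F % 4 = 3) → (∃ φ : ↥(Cfsg.pgoAut F (Cfsg.quadFormPlus m F)) →* DihedralGroup 4, Function.Surjective φ ∧ φ.ker = (Cfsg.Inn (Cfsg.POmega F (Cfsg.quadFormPlus m F))).subgroupOf (Cfsg.pgoAut F (Cfsg.quadFormPlus m F)))) := by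
  classical
  have h2 : (2 : F) ≠ 0 := Cfsg.Agent.Lib.Helper37.two_ne_zero_of_odd_card hodd
  have hcrit := Cfsg.Agent.S0790.result (F := F) rfl hodd m (by omega)
  obtain ⟨d, hd⟩ := Cfsg.Agent.Lib.Helper37.plus_exists_sim h2 (m := m) (by omega)
  have hmain := Cfsg.Agent.Lib.Helper37.pgo_mod_inn
    (Cfsg.Agent.Lib.Helper37.plus_isGram h2 m)
    (Cfsg.Agent.Lib.Helper37.gramP_det_ne_zero m) (Cfsg.Agent.Lib.Helper37.plus_card_two_mul m)
    (by rw [Cfsg.Agent.Lib.Helper37.plus_card_two_mul]; omega)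
    (Cfsg.Agent.Lib.Helper37.plus_hker hm) d hd
  constructor
  · rintro ⟨hmo, hq⟩
    apply hmain.2
    rw [hcrit]
    obtain ⟨r, rfl⟩ := hmo
    rw [Cfsg.Agent.Lib.Helper37.pow_mod_four_odd _ r hodd, hq]
    decide
  · intro hnot
    apply hmain.1
    rw [hcrit]
    rcases Nat.even_or_odd' m with ⟨r, rfl | rfl⟩
    · exact Cfsg.Agent.Lib.Helper37.pow_mod_four_even _ r hodd
    · rw [Cfsg.Agent.Lib.Helper37.pow_mod_four_odd _ r hodd]
      have h3 : ¬ (Fintype.card F % 4 = 3) := fun h3 => hnot ⟨⟨r, rfl⟩, h3⟩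
      obtain ⟨t, ht⟩ := hodd
      omega

end Cfsg.Agent.S2724
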