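import Cfsg.Statements.S0818
import Cfsg.Agent.Lib.Helper43.MinusAutCard
import Cfsg.Agent.Lib.Helper37.POmegaCard
import Cfsg.Agent.S0791

set_option autoImplicit false
open Cfsg

namespace Cfsg.Agent.S0818

open Cfsg.Agent.Lib.Helper37 Cfsg.Agent.Lib.Helper8 Cfsg.Agent.Lib.Helper43

theorem pow_mod_four_iff (q m : ℕ) (hq : Odd q) :
    q ^ m % 4 = 3 ↔ ¬ Even (m * (q - 1) / 2) := by
  have h4 : q % 4 = 1 ∨ q % 4 = 3 := by
    have := Nat.odd_iff.1 hq
    omega
  rcases h4 with h | h
  · have h1 : q ^ m % 4 = 1 := by rw [Nat.pow_mod, h, one_pow]; rfl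
    have h2 : Even (m * (q - 1) / 2) := by
      obtain ⟨k, hk⟩ : ∃ k, q - 1 = 4 * k := ⟨(q - 1) / 4, by omega⟩
      rw [hk]
      have : m * (4 * k) / 2 = 2 * (m * k) := by
        rw [show m * (4 * k) = 2 * (m * k) * 2 by ring, Nat.mul_div_cancel _ (by norm_num)]
      rw [this]
      exact even_two_mul _
    constructor
    · intro h3; omega
    · intro h3; exact absurd h2 h3
  · obtain ⟨k, hk⟩ : ∃ k, q - 1 = 4 * k + 2 := ⟨(q - 1) / 4, by omega⟩
    have h2 : m * (q - 1) / 2 = m * (2 * k + 1) := by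
      rw [hk, show m * (4 * k + 2) = m * (2 * k + 1) * 2 by ring,
        Nat.mul_div_cancel _ (by norm_num)]
    rw [h2, Nat.pow_mod, h]
    rcases Nat.even_or_odd' m with ⟨j, rfl | rfl⟩
    · have h3 : 3 ^ (2 * j) % 4 = 1 := by
        rw [pow_mul, Nat.pow_mod]; norm_num
      rw [h3]
      constructor
      · intro h5; omega
      · intro h5
        exfalso
        apply h5
        rw [mul_assoc]
        exact even_two_mul _
    · have h3 : 3 ^ (2 * j + 1) % 4 = 3 := by
        rw [pow_succ, pow_mul, Nat.mul_mod, Nat.pow_mod]; norm_num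
      rw [h3]
      constructor
      · intro _
        rw [Nat.not_even_iff_odd]
        exact (odd_two_mul_add_one j).mul (odd_two_mul_add_one k)
      · intro _; rfl

/-- |Aut(PΩ^-_(2m)(q))| = d f · |PΩ^-_(2m)(q)| for m ≥ 4, q = p^f, where d = 2 for q even and, for q odd, d = 8 when m(q-1)/2 is odd and 4 otherwise (the form quadFormMinus (m-1) with anisotropic binary part). -/
theorem result {F : Type*} [Field F] [Fintype F] (p f : ℕ) [Fact p.Prime] (hf : 1 ≤ f) (hF : Fintype.card F = p ^ f) (m : ℕ) (hm : 4 ≤ m) (a b : F) (hab : ∀ z₁ z₂ : F, z₁ ^ 2 + a * z₁ * z₂ + b * z₂ ^ 2 = 0 → z₁ = 0 ∧ z₂ = 0) : Nat.card (MulAut (Cfsg.POmega F (Cfsg.quadFormMinus (m - 1) F a b))) = (if p = 2 then 2 else (if Even (m * (p ^ f - 1) / 2) then 4 else 8)) * f * Nat.card (Cfsg.POmega F (Cfsg.quadFormMinus (m - 1) F a b)) := by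
  have hm1 : 3 ≤ m - 1 := by omega
  have hmm : m - 1 + 1 = m := by omega
  have hAut := Cfsg.Agent.Lib.Helper43.MinusAutCard.card_mulAut_minus hm1 a b hab hF
  have hO := card_isometryGroup_minus (m - 1) F a b hab
  rw [mul_assoc, mul_assoc] at hO
  have hcrit := Cfsg.Agent.S0791.result (F := F) hF
  rw [minusForm_coe] at hO hAut ⊢
  have hnd : (QuadraticMap.polarBilin (minusForm (m - 1) F a b)).Nondegenerate :=
    (minus_family (m - 1) F a b).nondegenerate (minusForm_zero_nondegenerate F a b hab)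
  obtain ⟨hA, hB, hC⟩ := card_pomega_generic (minusForm (m - 1) F a b) hnd
    (Cfsg.Agent.S2696.minus_hypFam' (m - 1) F a b) (by omega) (by simp; omega) _ hO
  rw [hAut, hO]
  by_cases h2 : (2 : F) = 0
  · have hev : Even (p ^ f) := by rw [← hF]; exact two_eq_zero_iff_even_card.mp h2
    have hp2 : p = 2 := by
      have h1 : Even p := (Nat.even_pow.1 hev).1
      exact ((Fact.out : p.Prime).even_iff).1 h1
    rw [if_pos hp2, ← hA h2]
    ring
  · have hodd : Odd (p ^ f) := by
      rw [← Nat.not_even_iff_odd, ← hF]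
      exact fun h => h2 (two_eq_zero_iff_even_card.mpr h)
    have hp2 : p ≠ 2 := by
      rintro rfl
      have : Even (2 ^ f) := (Nat.even_pow.2 ⟨even_two, by omega⟩)
      exact (Nat.not_even_iff_odd.2 hodd) this
    have hcrit' := hcrit hodd m (by omega) a b hab
    rw [minusForm_coe] at hcrit'
    rw [if_neg hp2]
    by_cases hq : (p ^ f) ^ m % 4 = 3
    · have hne : ¬ Even (m * (p ^ f - 1) / 2) := (pow_mod_four_iff _ _ hodd).1 hq
      rw [if_neg hne, ← hB h2 (hcrit'.mpr hq)]
      ring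
    · have hev : Even (m * (p ^ f - 1) / 2) := by
        by_contra hne
        exact hq ((pow_mod_four_iff _ _ hodd).2 hne)
      rw [if_pos hev, ← hC h2 (fun h => hq (hcrit'.mp h))]
      ring

end Cfsg.Agent.S0818
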