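import Cfsg.Statements.S2695
import Cfsg.Agent.Lib.Helper5.AutOrthInst
import Cfsg.Agent.Lib.Helper43.OrthCardForms

set_option autoImplicit false
open Cfsg

namespace Cfsg.Agent.S2695

open Cfsg.Agent.Lib.Helper37 Cfsg.Agent.Lib.Helper8 Cfsg.Agent.Lib.Helper43
open Cfsg.Agent.Lib.Helper5.AutOrth

theorem plus_hypFam' (m : ℕ) (F : Type*) [Field F] :
    HypFam (plusForm m F) m (fun i => Pi.single (Sum.inl i) 1)
      (fun i => Pi.single (Sum.inr i) 1) :=
  let h := plus_family m F
  ⟨h.qe, h.qf, h.ee, h.ff, h.ef⟩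

/-- For m ≥ 5 and a finite field F, the automorphism group of PΩ⁺_{2m}(F) (the form Σ xᵢ yᵢ) is generated by the automorphisms induced by the semisimilarities v ↦ g σ(v) of the form (the image of the projective semisimilarity group). The case 2m = 8 is excluded: there triality gives further automorphisms. -/
theorem result {F : Type*} [Field F] [Fintype F] {m : ℕ} (hm : 5 ≤ m) :
    Cfsg.gammaPOmega F (Cfsg.quadFormPlus m F) = ⊤ := by
  obtain ⟨p, hp⟩ := CharP.exists F
  have := hp
  have : Fact p.Prime := ⟨CharP.char_is_prime F p⟩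
  have hcard : Fintype.card (Fin m ⊕ Fin m) = m + m := by simp
  have C : Ctx (plusForm m F) m (fun i => Pi.single (Sum.inl i) 1)
      (fun i => Pi.single (Sum.inr i) 1) :=
    ⟨plusForm_nondegenerate m F, plus_hypFam' m F, by omega, Or.inr (by
      rw [Module.finrank_fintype_fun_eq_card, hcard]; omega)⟩
  have hT : HypT (plusForm m F) :=
    hypT_of_card (plusForm_nondegenerate m F) (by rw [hcard]; omega)
  rw [plusForm_coe]
  exact gamma_eq_top C p hT

end Cfsg.Agent.S2695
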