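import Cfsg.Statements.S1370
import Cfsg.Agent.S1430
import Cfsg.Agent.S1431
import Cfsg.Agent.Lib.Helper19.BG124a
import Cfsg.Agent.Lib.Helper19.BG14A
import Cfsg.Agent.Lib.Helper76.BGSigU4
import Cfsg.Agent.Lib.Helper47.BG11a

set_option autoImplicit false
open Cfsg

namespace Cfsg.Agent.S1370

/-- Let G be a minimal simple group of odd order, M a maximal subgroup with standard factorisation M = K U M_σ, K ≠ 1, K* = M_σ ∩ C_G(K) and Z the subgroup generated by K and K*. Then the set of elements of Z lying in neither K nor K* is a TI-subset of G, and its set-normalizer in G is exactly Z. -/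
theorem result {G : Type*} [Group G] [Finite G] (hG : Cfsg.IsMinSimpleOddOrder G)
    (M : Subgroup G) (hM : IsCoatom M) (K U : Subgroup G) (hKU : Cfsg.IsSigmaDecomposition M K U) (hK1 : K ≠ ⊥) :
    Cfsg.IsTISubset ((↑(K ⊔ (Cfsg.sigmaCore M ⊓ Subgroup.centralizer (K : Set G))) : Set G) \ ((K : Set G) ∪ ↑(Cfsg.sigmaCore M ⊓ Subgroup.centralizer (K : Set G)))) ∧ Subgroup.normalizer ((↑(K ⊔ (Cfsg.sigmaCore M ⊓ Subgroup.centralizer (K : Set G))) : Set G) \ ((K : Set G) ∪ ↑(Cfsg.sigmaCore M ⊓ Subgroup.centralizer (K : Set G)))) = K ⊔ (Cfsg.sigmaCore M ⊓ Subgroup.centralizer (K : Set G)) := by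
  have hKc : IsCyclic K := hKU.cyclic
  have hK : Cfsg.IsPiHallOf (Cfsg.kappa M) K M := hKU.hall
  have h30 := Cfsg.Agent.S1430.result hG M hM K hK hK1
  have h31 := Cfsg.Agent.S1431.result hG M hM K hK hK1
  have hC1 : Cfsg.sigmaCore M ⊓ Subgroup.centralizer (K : Set G) ≠ ⊥ :=
    (Cfsg.Agent.Lib.Helper76.BGSigU.cent_M_K
      (Cfsg.Agent.Lib.Helper19.BG124.sigmaCore_ne_bot hG hM) hKc hK
      (fun _ => h30.1) (fun _ X hXK hXp => (h30.2.2 X hXK hXp).1)).1
  have hc : ∀ k ∈ K, ∀ c ∈ Cfsg.sigmaCore M ⊓ Subgroup.centralizer (K : Set G),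
      k * c = c * k := fun k hk c hcC =>
    (Subgroup.mem_centralizer_iff.1 hcC.2) k hk
  have hcop : (Nat.card K).Coprime
      (Nat.card ↥(Cfsg.sigmaCore M ⊓ Subgroup.centralizer (K : Set G))) := by
    apply Nat.coprime_of_dvd'
    intro q hq hqK hqC
    exfalso
    have hκ : q ∈ Cfsg.kappa M := hK.2.1 q hq hqK
    have hσ : q ∈ Cfsg.sigma M :=
      Cfsg.Agent.Lib.Helper47.BG11.mem_sigma_of_dvd_card_le inf_le_left hq hqC
    exact hκ.2.2.1 hσ
  have hCM : Cfsg.sigmaCore M ⊓ Subgroup.centralizer (K : Set G) ≤ M :=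
    inf_le_left.trans (Cfsg.Agent.Lib.Helper47.BG11.sigmaCore_le M)
  exact Cfsg.Agent.Lib.Helper19.BG14.zhat_ti hc hcop hCM h31.1 h31.2.1 hK1 hC1
end Cfsg.Agent.S1370
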