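import Cfsg.Statements.S3012
import Mathlib.Data.Nat.Factorization.Basic
import Mathlib.Data.Int.GCD

set_option autoImplicit false
open Cfsg

namespace Cfsg.Agent.S3012

/-- if `w` commutes with `h ^ e`, `e` coprime to the order of `h`, then `w` commutes with `h`. -/
theorem commute_of_commute_pow {G : Type*} [Group G] [Finite G] {w h : G} {e : ℕ}
    (hcop : Nat.Coprime e (orderOf h)) (hc : Commute w (h ^ e)) : Commute w h := by
  by_cases h1 : orderOf h = 1
  · rw [orderOf_eq_one_iff] at h1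
    rw [h1]; exact Commute.one_right w
  · have hpos : 0 < orderOf h := orderOf_pos h
    have hlt : 1 < orderOf h := by omega
    obtain ⟨s, -, hs⟩ := Nat.exists_mul_mod_eq_one_of_coprime hcop hlt
    have h2 : h = (h ^ e) ^ s := by
      rw [← pow_mul, ← pow_mod_orderOf, hs, pow_one]
    rw [h2]
    exact hc.pow_right _

/-- Let G be a finite group, V a nontrivial elementary abelian 2-subgroup of G satisfying the Sidki pair condition (every odd-order element inverted by an element of V commutes with a nontrivial element of V), and K a normal subgroup of G with V ∩ K = 1. Then the image of V in G/K satisfies the Sidki pair condition in G/K. -/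
theorem result {G : Type*} [Group G] [Finite G] (V K : Subgroup G) [K.Normal] (hV : Cfsg.IsElementaryAbelian 2 V) (hV1 : V ≠ ⊥) (hS : Cfsg.IsSidkiPair V) (hVK : V ⊓ K = ⊥) : Cfsg.IsSidkiPair (V.map (QuotientGroup.mk' K)) := by
  obtain ⟨hVab, hV2⟩ := hV
  intro hbar vbar hvbar hodd hinv
  obtain ⟨v, hv, rfl⟩ := hvbar
  obtain ⟨h₀, rfl⟩ := QuotientGroup.mk_surjective hbar
  have hinv' : (QuotientGroup.mk' K) v * (QuotientGroup.mk' K) h₀ * ((QuotientGroup.mk' K) v)⁻¹ =
      ((QuotientGroup.mk' K) h₀)⁻¹ := hinv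
  have hodd' : Odd (orderOf ((QuotientGroup.mk' K) h₀)) := hodd
  have hvv : v * v = 1 := by rw [← pow_two]; exact hV2 v hv
  have hvinv : v⁻¹ = v := inv_eq_of_mul_eq_one_left hvv
  set y := v * h₀ * v⁻¹ * h₀⁻¹ with hy
  have hvy : v * y * v⁻¹ = y⁻¹ := by
    rw [hy]
    calc v * (v * h₀ * v⁻¹ * h₀⁻¹) * v⁻¹ = (v * v) * h₀ * v⁻¹ * h₀⁻¹ * v⁻¹ := by group
      _ = h₀ * v * h₀⁻¹ * v⁻¹ := by rw [hvv, hvinv]; group
      _ = (v * h₀ * v⁻¹ * h₀⁻¹)⁻¹ := by group
  -- image of y
  have hπy : (QuotientGroup.mk' K) y = ((QuotientGroup.mk' K) h₀ ^ 2)⁻¹ := by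
    have : (QuotientGroup.mk' K) y = (QuotientGroup.mk' K) v * (QuotientGroup.mk' K) h₀ *
        ((QuotientGroup.mk' K) v)⁻¹ * ((QuotientGroup.mk' K) h₀)⁻¹ := by
      rw [hy]; simp
    rw [this, hinv', pow_two, mul_inv_rev]
  -- 2-part
  have hn : orderOf y ≠ 0 := (orderOf_pos y).ne'
  obtain ⟨a, m, hm, hnam⟩ := Nat.exists_eq_two_pow_mul_odd hn
  set h := y ^ (2 ^ a) with hh
  have hhm : h ^ m = 1 := by
    rw [hh, ← pow_mul, ← hnam, pow_orderOf_eq_one]
  have hhodd : Odd (orderOf h) := Odd.of_dvd_nat hm (orderOf_dvd_of_pow_eq_one hhm)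
  have hvh : v * h * v⁻¹ = h⁻¹ := by
    rw [hh]
    have : v * y ^ (2 ^ a) * v⁻¹ = (v * y * v⁻¹) ^ (2 ^ a) := by
      rw [conj_pow]
    rw [this, hvy, inv_pow]
  obtain ⟨w, hwV, hw1, hwh⟩ := hS h v hv hhodd hvh
  refine ⟨(QuotientGroup.mk' K) w, ⟨w, hwV, rfl⟩, ?_, ?_⟩
  · intro h1
    apply hw1
    have hwK : w ∈ K := by
      have := (QuotientGroup.eq_one_iff w).mp h1
      exact this
    have : w ∈ V ⊓ K := ⟨hwV, hwK⟩
    rw [hVK] at this
    exact Subgroup.mem_bot.mp this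
  · -- commute with π h = (hbar ^ (2^(a+1)))⁻¹
    have hπh : (QuotientGroup.mk' K) h = (((QuotientGroup.mk' K) h₀) ^ (2 ^ (a + 1)))⁻¹ := by
      rw [hh, map_pow, hπy, inv_pow, ← pow_mul, pow_succ, mul_comm]
    have c1 : Commute ((QuotientGroup.mk' K) w) ((QuotientGroup.mk' K) h) := by
      have : (QuotientGroup.mk' K) w * (QuotientGroup.mk' K) h =
          (QuotientGroup.mk' K) h * (QuotientGroup.mk' K) w := by
        rw [← map_mul, ← map_mul, hwh]
      exact this
    rw [hπh] at c1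
    have c2 : Commute ((QuotientGroup.mk' K) w) (((QuotientGroup.mk' K) h₀) ^ (2 ^ (a + 1))) :=
      (Commute.inv_right_iff).mp c1
    have hcop : Nat.Coprime (2 ^ (a + 1)) (orderOf ((QuotientGroup.mk' K) h₀)) := by
      apply Nat.Coprime.pow_left
      rw [Nat.coprime_two_left]
      exact hodd'
    exact (commute_of_commute_pow hcop c2).eq

end Cfsg.Agent.S3012
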