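import Cfsg.Statements.S5128
import Cfsg.Agent.Lib.Helper85.ExtMod

set_option autoImplicit false
open Cfsg

namespace Cfsg.Agent.S5128

open Cfsg.FusionSystem Cfsg.Agent.Lib.Helper87 Cfsg.Agent.Lib.Helper85

/-- In a saturated fusion system over a finite p-group S, the product of two strongly closed subgroups is strongly closed. -/
theorem result {Ω : Type*} [Group Ω] {S : Subgroup Ω} [Finite S] (p : ℕ) [Fact p.Prime] (hS : IsPGroup p S) (F : Cfsg.FusionSystem S) (hF : F.IsSaturated p) (T₁ T₂ : Subgroup Ω) (h₁ : F.StronglyClosed T₁) (h₂ : F.StronglyClosed T₂) : F.StronglyClosed (T₁ ⊔ T₂) := by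
  refine ⟨sup_le h₁.1 h₂.1, fun R hR φ hφ x => ?_⟩
  obtain ⟨ψ, hψ, hψe⟩ := extMod hS F hF h₁ R φ hφ
  have hSN₁ : S ≤ Subgroup.normalizer (T₁ : Set Ω) :=
    weaklyClosed_le_normalizer F (weaklyClosed_of_stronglyClosed F h₁)
  have hx : (x : Ω) ∈ T₂ ⊔ T₁ := by rw [sup_comm]; exact hR x.2
  obtain ⟨a, ha, b, hb, hab⟩ := mem_sup_of_le_normalizer (h₂.1.trans hSN₁) hx
  have haM : a ∈ R ⊔ T₁ := by
    have : a = (x : Ω) * b⁻¹ := by rw [hab]; group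
    rw [this]
    exact Subgroup.mul_mem_sup x.2 (T₁.inv_mem hb)
  have hbM : b ∈ R ⊔ T₁ := (le_sup_right : T₁ ≤ R ⊔ T₁) hb
  have hψx : ψ (Subgroup.inclusion le_sup_left x) ∈ T₁ ⊔ T₂ := by
    have e : Subgroup.inclusion (le_sup_left : R ≤ R ⊔ T₁) x = ⟨a, haM⟩ * ⟨b, hbM⟩ :=
      Subtype.ext hab
    rw [e, map_mul]
    exact Subgroup.mul_mem _ ((le_sup_right : T₂ ≤ T₁ ⊔ T₂) (sc_map_mem F h₂ hψ _ ha))
      ((le_sup_left : T₁ ≤ T₁ ⊔ T₂) (sc_map_mem F h₁ hψ _ hb))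
  have e2 : φ x = ψ (Subgroup.inclusion le_sup_left x) *
      ((φ x)⁻¹ * ψ (Subgroup.inclusion le_sup_left x))⁻¹ := by group
  rw [e2]
  exact Subgroup.mul_mem _ hψx ((le_sup_left : T₁ ≤ T₁ ⊔ T₂) (T₁.inv_mem (hψe x)))

end Cfsg.Agent.S5128
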