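import Cfsg.Statements.S5145
import Cfsg.Agent.Lib.Helper87.NormalizerSystem

set_option autoImplicit false
open Cfsg

namespace Cfsg.Agent.S5145

open Cfsg.Agent.Lib.Helper87 Cfsg.FusionSystem

variable {Ω : Type*} [Group Ω] {S : Subgroup Ω}

theorem isNormal_bot (F : FusionSystem S) : F.IsNormal ⊥ := by
  refine ⟨bot_le, fun P φ hφ => ?_⟩
  have hle : P ⊔ ⊥ ≤ P := by simp
  refine ⟨φ.comp (Subgroup.inclusion hle), restrict_mem F hφ hle, fun x => ?_, ?_⟩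
  · show φ _ = φ x
    congr 1
  · rw [map_subgroupOf_eq_iff]
    refine ⟨fun y hy => ?_, fun q hq => ?_⟩
    · have hy1 : y = 1 := Subtype.ext (Subgroup.mem_bot.mp hy)
      rw [hy1, map_one]
      exact Subgroup.one_mem _
    · rw [Subgroup.mem_bot] at hq
      exact ⟨1, Subgroup.one_mem _, by rw [map_one, hq]⟩

theorem isNormal_sup (F : FusionSystem S) {Q₁ Q₂ : Subgroup Ω} (h₁ : F.IsNormal Q₁)
    (h₂ : F.IsNormal Q₂) : F.IsNormal (Q₁ ⊔ Q₂) := by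
  refine ⟨sup_le h₁.1 h₂.1, fun P φ hφ => ?_⟩
  obtain ⟨ψ₁, hψ₁, hψ₁e, hψ₁Q⟩ := h₁.2 P φ hφ
  obtain ⟨ψ₂, hψ₂, hψ₂e, hψ₂Q⟩ := h₂.2 (P ⊔ Q₁) ψ₁ hψ₁
  rw [map_subgroupOf_eq_iff] at hψ₁Q hψ₂Q
  have hle : P ⊔ (Q₁ ⊔ Q₂) ≤ P ⊔ Q₁ ⊔ Q₂ := by rw [sup_assoc]
  refine ⟨ψ₂.comp (Subgroup.inclusion hle), restrict_mem F hψ₂ hle, fun x => ?_, ?_⟩
  · rw [← hψ₁e x, ← hψ₂e]
    rfl
  · -- ψ₂ restricted to Q₁ is ψ₁ on Q₁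
    have hQ₁ : ∀ (q : Ω) (hq : q ∈ Q₁),
        ψ₂ ⟨q, (le_sup_left : P ⊔ Q₁ ≤ P ⊔ Q₁ ⊔ Q₂) ((le_sup_right : Q₁ ≤ P ⊔ Q₁) hq)⟩ =
          ψ₁ ⟨q, (le_sup_right : Q₁ ≤ P ⊔ Q₁) hq⟩ := fun q hq => hψ₂e ⟨q, _⟩
    -- the set of elements of Q₁ ⊔ Q₂ mapped into Q₁ ⊔ Q₂
    have hfwd : ∀ (x : Ω) (hx : x ∈ Q₁ ⊔ Q₂),
        ψ₂ ⟨x, hle ((le_sup_right : Q₁ ⊔ Q₂ ≤ P ⊔ (Q₁ ⊔ Q₂)) hx)⟩ ∈ Q₁ ⊔ Q₂ := by
      intro x hx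
      have key : Q₁ ⊔ Q₂ ≤ ((Q₁ ⊔ Q₂).comap ψ₂).map (P ⊔ Q₁ ⊔ Q₂).subtype := by
        refine sup_le ?_ ?_
        · intro q hq
          refine ⟨⟨q, (le_sup_left : P ⊔ Q₁ ≤ P ⊔ Q₁ ⊔ Q₂) ((le_sup_right : Q₁ ≤ P ⊔ Q₁) hq)⟩, ?_, rfl⟩
          show ψ₂ _ ∈ Q₁ ⊔ Q₂
          rw [hQ₁ q hq]
          exact (le_sup_left : Q₁ ≤ Q₁ ⊔ Q₂) (hψ₁Q.1 ⟨q, _⟩ hq)
        · intro q hq
          refine ⟨⟨q, (le_sup_right : Q₂ ≤ P ⊔ Q₁ ⊔ Q₂) hq⟩, ?_, rfl⟩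
          show ψ₂ _ ∈ Q₁ ⊔ Q₂
          exact (le_sup_right : Q₂ ≤ Q₁ ⊔ Q₂) (hψ₂Q.1 ⟨q, _⟩ hq)
      obtain ⟨y, hy, hyx⟩ := key hx
      have : y = ⟨x, hle ((le_sup_right : Q₁ ⊔ Q₂ ≤ P ⊔ (Q₁ ⊔ Q₂)) hx)⟩ := Subtype.ext hyx
      rw [← this]
      exact hy
    rw [map_subgroupOf_eq_iff]
    refine ⟨fun y hy => hfwd y hy, ?_⟩
    -- surjectivity: the image is a subgroup containing Q₁ and Q₂
    have key : Q₁ ⊔ Q₂ ≤ ((Q₁ ⊔ Q₂).subgroupOf (P ⊔ (Q₁ ⊔ Q₂))).map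
        (ψ₂.comp (Subgroup.inclusion hle)) := by
      refine sup_le ?_ ?_
      · intro q hq
        obtain ⟨y, hy, hyq⟩ := hψ₁Q.2 q hq
        refine ⟨⟨y, (le_sup_right : Q₁ ⊔ Q₂ ≤ P ⊔ (Q₁ ⊔ Q₂)) ((le_sup_left : Q₁ ≤ Q₁ ⊔ Q₂) hy)⟩,
          Subgroup.mem_subgroupOf.mpr ((le_sup_left : Q₁ ≤ Q₁ ⊔ Q₂) hy), ?_⟩
        rw [← hyq]
        show ψ₂ _ = ψ₁ y
        rw [← hψ₂e y]
        rfl
      · intro q hq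
        obtain ⟨y, hy, hyq⟩ := hψ₂Q.2 q hq
        refine ⟨⟨y, (le_sup_right : Q₁ ⊔ Q₂ ≤ P ⊔ (Q₁ ⊔ Q₂)) ((le_sup_right : Q₂ ≤ Q₁ ⊔ Q₂) hy)⟩,
          Subgroup.mem_subgroupOf.mpr ((le_sup_right : Q₂ ≤ Q₁ ⊔ Q₂) hy), ?_⟩
        rw [← hyq]
        rfl
    intro q hq
    obtain ⟨y, hy, hyq⟩ := key hq
    exact ⟨y, Subgroup.mem_subgroupOf.mp hy, hyq⟩

/-- For a fusion system over a finite subgroup S, the join of all subgroups normal in the system is itself normal in the system, hence its largest normal subgroup. -/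
theorem result {Ω : Type*} [Group Ω] {S : Subgroup Ω} [Finite S] (F : Cfsg.FusionSystem S) : F.IsNormal F.core := by
  classical
  let T : Set ℕ := {n | ∃ Q : Subgroup Ω, F.IsNormal Q ∧ n = Nat.card Q}
  have hT : T.Nonempty := ⟨_, ⊥, isNormal_bot F, rfl⟩
  have hTb : BddAbove T := ⟨Nat.card S, by rintro n ⟨Q, hQ, rfl⟩; exact Subgroup.card_le_of_le hQ.1⟩
  obtain ⟨Q, hQ, hQm⟩ := Nat.sSup_mem hT hTb
  have hmax : ∀ Q' : Subgroup Ω, F.IsNormal Q' → Q' ≤ Q := by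
    intro Q' hQ'
    have hsup := isNormal_sup F hQ hQ'
    have hfin : Finite ↥(Q ⊔ Q') :=
      Finite.of_injective (Subgroup.inclusion hsup.1) (Subgroup.inclusion_injective _)
    have hcard : Nat.card ↥(Q ⊔ Q') ≤ Nat.card Q := by
      rw [← hQm]
      exact le_csSup hTb ⟨_, hsup, rfl⟩
    have heq : Q = Q ⊔ Q' := Subgroup.eq_of_le_of_card_ge le_sup_left hcard
    rw [heq]
    exact le_sup_right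
  have hcore : F.core = Q := by
    apply le_antisymm
    · exact sSup_le fun Q' hQ' => hmax Q' hQ'
    · exact le_sSup hQ
  rw [hcore]
  exact hQ

end Cfsg.Agent.S5145
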