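import Cfsg.Statements.S5255
import Cfsg.Agent.Lib.Helper87.ModExt

set_option autoImplicit false
open Cfsg

namespace Cfsg.Agent.S5255

open Cfsg.FusionSystem Cfsg.Agent.Lib.Helper87

/-- Let F be a saturated fusion system over a finite p-group S and T a subgroup of S strongly closed in F. Then T·C_S(T) is strongly closed in F. -/
theorem result {Ω : Type*} [Group Ω] {S : Subgroup Ω} [Finite S] (p : ℕ) [Fact p.Prime] (hS : IsPGroup p S) (F : Cfsg.FusionSystem S) (hF : F.IsSaturated p) (T : Subgroup Ω) (hT : F.StronglyClosed T) : F.StronglyClosed (T ⊔ Cfsg.FusionSystem.centralizerIn S T) := by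
  have hTS : T ≤ S := hT.1
  have hwc := weaklyClosed_of_stronglyClosed F hT
  have hSN : S ≤ Subgroup.normalizer (T : Set Ω) := weaklyClosed_le_normalizer F hwc
  have hCS : centralizerIn S T ≤ S := centralizerIn_le S T
  refine ⟨sup_le hTS hCS, fun R hR φ hφ x => ?_⟩
  -- decompose `x = c * t`
  have hx : (x : Ω) ∈ centralizerIn S T ⊔ T := by
    rw [sup_comm]; exact hR x.2
  obtain ⟨c, hc, t, ht, hxct⟩ := exists_mul_of_mem_sup (hCS.trans hSN) hx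
  obtain ⟨ψ, hψ, hψe⟩ := exists_extension_mod hS F hF hT R φ hφ
  have hxM : (x : Ω) ∈ R ⊔ T := (le_sup_left : R ≤ R ⊔ T) x.2
  have htM : t ∈ R ⊔ T := (le_sup_right : T ≤ R ⊔ T) ht
  have hcM : c ∈ R ⊔ T := by
    have : c = (x : Ω) * t⁻¹ := by rw [hxct]; group
    rw [this]
    exact Subgroup.mul_mem _ hxM (Subgroup.inv_mem _ htM)
  -- `ψ` maps `T` onto `T`
  have hψT := hwc.2 _ (restrict_mem F hψ (le_sup_right : T ≤ R ⊔ T))
  have hψt : ψ ⟨t, htM⟩ ∈ T := stronglyClosed_map_mem F hT hψ ⟨t, htM⟩ ht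
  -- `ψ c` centralizes `T`
  have hψc : ψ ⟨c, hcM⟩ ∈ centralizerIn S T := by
    refine ⟨hom_mem_S F hψ _, ?_⟩
    intro s hs
    rw [← hψT] at hs
    obtain ⟨s', hs'⟩ := hs
    have hs'' : ψ ⟨(s' : Ω), (le_sup_right : T ≤ R ⊔ T) s'.2⟩ = s := hs'
    rw [← hs'', ← map_mul, ← map_mul]
    congr 1
    apply Subtype.ext
    exact hc.2 s' s'.2
  have hψx : ψ ⟨x, hxM⟩ = ψ ⟨c, hcM⟩ * ψ ⟨t, htM⟩ := by
    rw [← map_mul]
    congr 1
    exact Subtype.ext hxct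
  have h1 : (φ x)⁻¹ * ψ ⟨x, hxM⟩ ∈ T := hψe x
  have e : φ x = ψ ⟨c, hcM⟩ * (ψ ⟨t, htM⟩ * ((φ x)⁻¹ * ψ ⟨x, hxM⟩)⁻¹) := by
    rw [hψx]; group
  rw [e, sup_comm]
  exact Subgroup.mul_mem _ ((le_sup_left : centralizerIn S T ≤ _) hψc)
    ((le_sup_right : T ≤ centralizerIn S T ⊔ T) (T.mul_mem hψt (T.inv_mem h1)))

end Cfsg.Agent.S5255
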