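import Cfsg.Statements.S1961
import Cfsg.Agent.Lib.Helper33.Control

set_option autoImplicit false
open Cfsg
open Cfsg.Agent.Lib.Helper33

namespace Cfsg.Agent.S1961

variable {G : Type*} [Group G]

/-- The right conjugation of `A` by `g` is induced by an element of `N`. -/
def Good (N : Subgroup G) (A : Set G) (g : G) : Prop :=
  ∃ x ∈ N, ∀ a ∈ A, x⁻¹ * a * x = g⁻¹ * a * g

theorem Good.one (N : Subgroup G) (A : Set G) : Good N A 1 := ⟨1, N.one_mem, fun _ _ => rfl⟩

theorem Good.trans {N : Subgroup G} {A : Set G} {g h : G} (h1 : Good N A g) (h2 : Good N (rc g A) h) :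
    Good N A (g * h) := by
  obtain ⟨x1, hx1, e1⟩ := h1
  obtain ⟨x2, hx2, e2⟩ := h2
  refine ⟨x1 * x2, N.mul_mem hx1 hx2, ?_⟩
  intro a ha
  have := e2 _ (conj_mem_rc (g := g) ha)
  calc (x1 * x2)⁻¹ * a * (x1 * x2) = x2⁻¹ * (x1⁻¹ * a * x1) * x2 := by group
    _ = x2⁻¹ * (g⁻¹ * a * g) * x2 := by rw [e1 a ha]
    _ = h⁻¹ * (g⁻¹ * a * g) * h := this
    _ = (g * h)⁻¹ * a * (g * h) := by group

theorem Good.of_eq {N : Subgroup G} {A : Set G} {g g' : G} (h1 : Good N A g)
    (h : ∀ a ∈ A, g⁻¹ * a * g = g'⁻¹ * a * g') : Good N A g' := by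
  obtain ⟨x, hx, e⟩ := h1
  exact ⟨x, hx, fun a ha => (e a ha).trans (h a ha)⟩

theorem good_of_reach {N : Subgroup G} {𝓕 : Set (Subgroup G)}
    (hstep : ∀ (T : Subgroup G) (x : G) (A : Set G), T ∈ 𝓕 → x ∈ Subgroup.normalizer (T : Set G) →
      A ⊆ T → Good N A x) {A : Set G} {g : G} (h : Reach 𝓕 A g) : Good N A g := by
  induction h with
  | nil A => exact Good.one N A
  | cons A T x g hT hx hA _ ih => exact (hstep T x A hT hx hA).trans ih

theorem claim [Finite G] {p : ℕ} [Fact p.Prime] (S : Sylow p G) (W : Subgroup G → Subgroup G)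
    (hW : Cfsg.IsConjugacyFunctor p W)
    (hloc : ∀ T : Subgroup G, T ≠ ⊥ → Cfsg.IsWellPlaced p W (S : Subgroup G) T →
      Cfsg.ControlsStrongFusionIn p W (Subgroup.normalizer ((T : Subgroup G) : Set G))) (n : ℕ) :
    ∀ T : Subgroup G, T ≠ ⊥ → Cfsg.IsWellPlaced p W (S : Subgroup G) T →
      Nat.card (S : Subgroup G) -
        Nat.card ((S : Subgroup G) ⊓ Subgroup.normalizer (T : Set G) : Subgroup G) = n →
      ∀ (A : Set G) (x : G), A ⊆ ((S : Subgroup G) ⊓ Subgroup.normalizer (T : Set G) : Subgroup G) →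
        x ∈ Subgroup.normalizer (T : Set G) →
        rc x A ⊆ ((S : Subgroup G) ⊓ Subgroup.normalizer (T : Set G) : Subgroup G) →
        Good (Subgroup.normalizer ((W (S : Subgroup G) : Subgroup G) : Set G)) A x := by
  induction n using Nat.strong_induction_on with
  | _ n ih =>
    intro T hTne hTwp hn A x hA hx hAx
    set R := (S : Subgroup G) ⊓ Subgroup.normalizer (T : Set G) with hRdef
    have hRp : IsPGroup p R := S.isPGroup'.to_le inf_le_left
    have hTR : T ≤ R := le_inf hTwp.1 Subgroup.le_normalizer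
    have hctl := hloc T hTne hTwp
    obtain ⟨y, hy, hya⟩ := csf_transport hW hctl (T1 := R) inf_le_right hRp (hTwp.2 0) A x hx hA hAx
    by_cases hRS : R = (S : Subgroup G)
    · rw [hRS] at hy
      exact ⟨y, hy.2, hya⟩
    · have hRlt : R < (S : Subgroup G) := lt_of_le_of_ne inf_le_left hRS
      have hVR : W R ≤ R := functor_le hW hRp
      have hVS : W R ≤ (S : Subgroup G) := le_trans hVR inf_le_left
      have hwp' : Cfsg.IsWellPlaced p W (S : Subgroup G) (W R) :=
        ((wellPlaced_iff W (S : Subgroup G) T hVS).mp hTwp).2.2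
      have hRne : R ≠ ⊥ := by
        intro h
        apply hTne
        rw [eq_bot_iff, ← h]; exact hTR
      have hVne : W R ≠ ⊥ := (hW R hRp).2.1 hRne
      have hgrow := normalizer_growth S.isPGroup' hRlt
      have hNV : (S : Subgroup G) ⊓ Subgroup.normalizer (R : Set G) ≤
          (S : Subgroup G) ⊓ Subgroup.normalizer ((W R : Subgroup G) : Set G) :=
        inf_le_inf_left _ (normalizer_le_normalizer_functor hW hRp)
      have hlt : R < (S : Subgroup G) ⊓ Subgroup.normalizer ((W R : Subgroup G) : Set G) :=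
        lt_of_lt_of_le hgrow hNV
      have hc1 : Nat.card R <
          Nat.card ((S : Subgroup G) ⊓ Subgroup.normalizer ((W R : Subgroup G) : Set G) : Subgroup G) :=
        Set.Finite.card_lt_card (Set.toFinite _) hlt
      have hc2 : Nat.card ((S : Subgroup G) ⊓ Subgroup.normalizer ((W R : Subgroup G) : Set G) : Subgroup G) ≤
          Nat.card (S : Subgroup G) := Subgroup.card_le_of_le inf_le_left
      have hgood := ih _ (by omega) (W R) hVne hwp' rfl A y
        (fun a ha => hlt.le (hA ha)) hy.2
        (by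
          intro b hb
          apply hlt.le
          apply hAx
          obtain ⟨a, ha, rfl⟩ := hb
          show y⁻¹ * a * y ∈ rc x A
          rw [hya a ha]
          exact conj_mem_rc ha)
      exact hgood.of_eq hya

/-- Local-to-global control of strong fusion through well-placed subgroups. Let p be a prime, G a finite group with Sylow p-subgroup S, and W a conjugacy functor for p on G. If W controls strong fusion in N_G(T) for every nonidentity subgroup T of S that is well placed in S with respect to W, then W controls strong fusion in G. -/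
theorem result {G : Type*} [Group G] [Finite G] {p : ℕ} [Fact p.Prime] (S : Sylow p G) (W : Subgroup G → Subgroup G) (hW : Cfsg.IsConjugacyFunctor p W) (hloc : ∀ T : Subgroup G, T ≠ ⊥ → Cfsg.IsWellPlaced p W (S : Subgroup G) T → Cfsg.ControlsStrongFusionIn p W (Subgroup.normalizer ((T : Subgroup G) : Set G))) : Cfsg.ControlsStrongFusionIn p W ⊤ := by
  refine ⟨S, le_top, S.isPGroup', ?_, ?_⟩
  · rw [Subgroup.relIndex_top_right]
    exact S.not_dvd_index
  · intro A h _ hA hAh
    have h𝓕 : ∀ U ∈ {T : Subgroup G | Cfsg.IsWellPlaced p W (S : Subgroup G) T}, U ≤ (S : Subgroup G) :=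
      fun U hU => hU.1
    have hAg : rc h⁻¹ A ⊆ (S : Subgroup G) := by
      rintro _ ⟨a, ha, rfl⟩
      have := hAh ⟨a, ha, rfl⟩
      simpa using this
    have hreach := reach_of_fullyNormalized S _ h𝓕 (by
      intro T hT
      obtain ⟨k, hk, -⟩ := exists_wellPlaced S W hW T hT
      exact ⟨cj k T, hk, ⟨k, rfl⟩, hk.2 0⟩) A h⁻¹ hA hAg
    have hgood : Good (Subgroup.normalizer ((W (S : Subgroup G) : Subgroup G) : Set G)) A h⁻¹ := by
      refine good_of_reach ?_ hreach
      intro T x B hT hx hB
      by_cases hTne : T = ⊥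
      · refine ⟨1, Subgroup.one_mem _, ?_⟩
        intro a ha
        have : a = 1 := by
          have := hB ha
          rw [hTne] at this
          simpa using this
        subst this
        simp
      · have hTR : T ≤ (S : Subgroup G) ⊓ Subgroup.normalizer (T : Set G) :=
          le_inf hT.1 Subgroup.le_normalizer
        exact claim S W hW hloc _ T hTne hT rfl B x (fun a ha => hTR (hB ha)) hx
          (fun a ha => hTR (rc_subset_of_mem_normalizer hx hB ha))
    obtain ⟨x, hx, hxa⟩ := hgood
    refine ⟨x⁻¹, Subgroup.mem_inf.mpr ⟨Subgroup.mem_top _, inv_mem hx⟩, ?_⟩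
    intro a ha
    have := hxa a ha
    simpa using this

end Cfsg.Agent.S1961
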