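import Cfsg.Statements.S4691
import Cfsg.Agent.S4663
import Cfsg.Agent.S0071
import Cfsg.Agent.Lib.Helper81.OneIrr
import Cfsg.Agent.Lib.Helper77.Transport

set_option autoImplicit false
open Cfsg

namespace Cfsg.Agent.S4691

/-- Conjugation by the inverse of an element normalizing `K`, as an automorphism of `K`. -/
def conjAut {G : Type*} [Group G] (K : Subgroup G) (g : G)
    (hg : g ∈ Subgroup.normalizer (K : Set G)) : K ≃* K where
  toFun k := ⟨g⁻¹ * (k : G) * g, (Subgroup.mem_normalizer_iff''.mp hg (k : G)).mp k.2⟩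
  invFun k := ⟨g * (k : G) * g⁻¹, (Subgroup.mem_normalizer_iff.mp hg (k : G)).mp k.2⟩
  left_inv k := by
    apply Subtype.ext
    simp [mul_assoc]
  right_inv k := by
    apply Subtype.ext
    simp [mul_assoc]
  map_mul' a b := by
    apply Subtype.ext
    simp [mul_assoc]

/-- Every element normalizing `K` stabilizes the principal block of `K`. -/
theorem stabilizes_principalBlock {G : Type*} [Group G] (M : Ideal AlgInt) (K : Subgroup G)
    (g : G) (hg : g ∈ Subgroup.normalizer (K : Set G)) :
    StabilizesBlock K (principalBlock M K) g := by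
  refine ⟨hg, ?_⟩
  intro χ hχ
  refine ⟨Cfsg.Agent.Lib.Helper77.irrMap (conjAut K g hg) χ, ?_, ?_⟩
  · -- membership in the principal block
    show SameBlock M (fun _ : K => (1 : ℂ)) _
    have h1 : SameBlock M (fun _ : K => (1 : ℂ)) (χ : K → ℂ) := hχ
    exact (Cfsg.Agent.Lib.Helper77.sameBlock_comp_mulEquiv_iff (M := M) (conjAut K g hg)
      (fun _ : K => (1 : ℂ)) (χ : K → ℂ)).mpr h1
  · intro k k' hk
    show (χ : K → ℂ) (conjAut K g hg k') = (χ : K → ℂ) k
    have hkk : conjAut K g hg k' = k := by
      apply Subtype.ext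
      show g⁻¹ * (k' : G) * g = (k : G)
      rw [hk]
      simp [mul_assoc]
    rw [hkk]

/-- The normalizer of `Q` normalizes the centralizer of `Q`. -/
theorem normalizer_le_normalizer_centralizer' {G : Type*} [Group G] (Q : Subgroup G) {g : G}
    (hg : g ∈ Subgroup.normalizer (Q : Set G)) :
    g ∈ Subgroup.normalizer ((Subgroup.centralizer (Q : Set G) : Subgroup G) : Set G) := by
  rw [Subgroup.mem_normalizer_iff]
  intro k
  constructor
  · intro hk
    rw [Subgroup.mem_centralizer_iff] at hk ⊢
    intro q hq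
    have hq' : g⁻¹ * q * g ∈ Q := (Subgroup.mem_normalizer_iff''.mp hg q).mp hq
    have := hk _ hq'
    calc q * (g * k * g⁻¹) = g * ((g⁻¹ * q * g) * k) * g⁻¹ := by group
      _ = g * (k * (g⁻¹ * q * g)) * g⁻¹ := by rw [this]
      _ = g * k * g⁻¹ * q := by group
  · intro hk
    rw [Subgroup.mem_centralizer_iff] at hk ⊢
    intro q hq
    have hq' : g * q * g⁻¹ ∈ Q := (Subgroup.mem_normalizer_iff.mp hg q).mp hq
    have := hk _ hq'
    calc q * k = g⁻¹ * ((g * q * g⁻¹) * (g * k * g⁻¹)) * g := by group
      _ = g⁻¹ * ((g * k * g⁻¹) * (g * q * g⁻¹)) * g := by rw [this]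
      _ = k * q := by group

/-- Fix a prime p and a maximal ideal M of the algebraic integers containing p. A finite group G has a normal p-complement if and only if its principal p-block is nilpotent. -/
theorem result {G : Type*} [Group G] [Fintype G] (p : ℕ) [Fact p.Prime] (M : Ideal Cfsg.AlgInt) (hM : Cfsg.IsPModular p M) : Cfsg.HasNormalPComplement p G ↔ Cfsg.IsNilpotentBlock p M (Cfsg.principalBlock M G) := by
  have hp : p.Prime := Fact.out
  constructor
  · rintro ⟨P₀, N, hN, hc⟩
    refine ⟨Cfsg.Agent.Lib.Helper81.isPBlock_principalBlock M, ?_⟩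
    intro Q e hpair x hx _ hreg
    have hQ : IsPGroup p Q := hpair.1.1
    obtain ⟨P', hQP'⟩ : ∃ P' : Sylow p G, Q ≤ (P' : Subgroup G) := hQ.exists_le_sylow
    -- `N` is a complement to every Sylow subgroup
    have hcardP : Nat.card (P' : Subgroup G) = Nat.card (P₀ : Subgroup G) := by
      rw [Sylow.card_eq_multiplicity, Sylow.card_eq_multiplicity]
    have hc' : N.IsComplement' (P' : Subgroup G) := by
      apply Subgroup.isComplement'_of_coprime
      · rw [hcardP]; exact hc.card_mul_card
      · rw [hcardP, ← hc.index_eq_card]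
        exact (Sylow.card_coprime_index P₀).symm
    have key := (Cfsg.Agent.S0071.result P').mp ⟨N, hN, hc'⟩ Q hQP' x hx
    apply key
    exact ((Nat.Prime.coprime_iff_not_dvd hp).mpr hreg).symm
  · rintro ⟨_, hnil⟩
    obtain ⟨P⟩ : Nonempty (Sylow p G) := inferInstance
    refine ⟨P, (Cfsg.Agent.S0071.result P).mpr ?_⟩
    intro Q hQP g hg hcop
    have hQ : IsPGroup p Q := P.2.to_le hQP
    have he : IsPBlock M (principalBlock M (Subgroup.centralizer (Q : Set G))) :=
      Cfsg.Agent.Lib.Helper81.isPBlock_principalBlock M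
    have hpair : IsBrauerPairOf p M (principalBlock M G) Q
        (principalBlock M (Subgroup.centralizer (Q : Set G))) :=
      (Cfsg.Agent.S4663.result p M hM Q hQ _ he).mpr rfl
    refine hnil Q _ hpair g hg ?_ ?_
    · exact stabilizes_principalBlock M _ g (normalizer_le_normalizer_centralizer' Q hg)
    · exact (Nat.Prime.coprime_iff_not_dvd hp).mp hcop.symm

end Cfsg.Agent.S4691
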