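import Cfsg.Statements.S4662
import Cfsg.Agent.Lib.Helper52.StabConj

set_option autoImplicit false
open Cfsg

namespace Cfsg.Agent.S4662

open Cfsg.Agent.Lib.Helper52.ConjPairs Cfsg.Agent.Lib.Helper52.StabBlock
open Cfsg.Agent.Lib.Helper52.StabConj

/-- Fix a prime p and a maximal ideal M of the algebraic integers containing p. Let (P, e) be a maximal Brauer pair of the p-block B of the finite group G, Q ≤ P, and f the p-block of C_G(Q) with (Q, f) ≤ (P, e). Let T be the stabilizer of f in N_G(Q). Then the idempotent of f is a block idempotent of T, and N_P(Q) is contained in a defect group of that block of T; moreover for some x in G the conjugate pair (x Q x⁻¹, conjugate of f) again lies below (P, e) and, with T' the stabilizer of the conjugate of f in N_G(x Q x⁻¹), N_P(x Q x⁻¹) is a defect group of the block of T' whose idempotent is that of the conjugate of f. -/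
theorem result {G : Type*} [Group G] [Fintype G] (p : ℕ) [Fact p.Prime] (M : Ideal Cfsg.AlgInt) (hM : Cfsg.IsPModular p M) (B : Set (Cfsg.IrrCharacter G)) (P Q : Subgroup G) (e : Set (Cfsg.IrrCharacter (Subgroup.centralizer (P : Set G)))) (f : Set (Cfsg.IrrCharacter (Subgroup.centralizer (Q : Set G)))) (hmax : Cfsg.IsMaximalBrauerPair p M B P e) (hQP : Q ≤ P) (hf : Cfsg.IsPBlock M f) (hle : Cfsg.SubpairLE p M Q f P e) (T : Subgroup G) (hT : ∀ y : G, y ∈ T ↔ y ∈ Subgroup.normalizer (Q : Set G) ∧ Cfsg.StabilizesBlock (Subgroup.centralizer (Q : Set G)) f y) : (∃ F : Set (Cfsg.IrrCharacter T), Cfsg.IsPBlock M F ∧ (∀ t : T, Cfsg.blockCoeff F t = Cfsg.subgroupBlockCoeff (Subgroup.centralizer (Q : Set G)) f (t : G)) ∧ ∃ D : Subgroup T, Cfsg.IsDefectGroup p M F D ∧ (P ⊓ Subgroup.normalizer (Q : Set G)).subgroupOf T ≤ D) ∧ ∃ x : G, Cfsg.SubpairLE p M (Q.map (MulAut.conj x).toMonoidHom) (Cfsg.conjBlock Q x f) P e ∧ ∀ (T' : Subgroup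 G), (∀ y : G, y ∈ T' ↔ y ∈ Subgroup.normalizer ((Q.map (MulAut.conj x).toMonoidHom) : Set G) ∧ Cfsg.StabilizesBlock (Subgroup.centralizer ((Q.map (MulAut.conj x).toMonoidHom) : Set G)) (Cfsg.conjBlock Q x f) y) → ∃ F' : Set (Cfsg.IrrCharacter T'), Cfsg.IsPBlock M F' ∧ (∀ t : T', Cfsg.blockCoeff F' t = Cfsg.subgroupBlockCoeff (Subgroup.centralizer ((Q.map (MulAut.conj x).toMonoidHom) : Set G)) (Cfsg.conjBlock Q x f) (t : G)) ∧ Cfsg.IsDefectGroup p M F' ((P ⊓ Subgroup.normalizer ((Q.map (MulAut.conj x).toMonoidHom) : Set G)).subgroupOf T') := by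
  classical
  have hPe : IsBrauerPair p M P e := hmax.1.1
  have hBb : IsPBlock M B := hmax.1.2.1
  have hQp : IsPGroup p Q := hPe.1.to_le hQP
  obtain ⟨F, hF, hFc⟩ := exists_block_stabilizer hM hQp hf hT
  refine ⟨⟨F, hF, hFc, exists_isDefectGroup_ge_inf_normalizer hM hPe hQP hle hT hF hFc⟩, ?_⟩
  obtain ⟨D', g, hD', hN⟩ := exists_isDefectGroup_isNormalSubpair hM hQp hf hT hF hFc
  have hQfB : IsBrauerPairOf p M B Q f :=
    (Cfsg.Agent.Lib.Helper52.Subpairs.isBrauerPairOf_iff_of_subpairLE hM hBb hle).mp hmax.1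
  have hDgB : IsBrauerPairOf p M B (D'.map T.subtype) g :=
    (Cfsg.Agent.Lib.Helper52.Subpairs.isBrauerPairOf_iff_of_normalSubpair hM hN hBb).mpr hQfB
  obtain ⟨x, hx⟩ := Cfsg.Agent.Lib.Helper77.exists_conj_subpairLE hM hmax hDgB
  have hstep : NormalSubpairRel p M ⟨conjSub Q x, conjBlock Q x f⟩
      ⟨conjSub (D'.map T.subtype) x, conjBlock (D'.map T.subtype) x g⟩ :=
    isNormalSubpair_conj x hN
  have hle2 : SubpairLE p M (conjSub Q x) (conjBlock Q x f) P e :=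
    Relation.ReflTransGen.head hstep hx
  refine ⟨x, hle2, ?_⟩
  intro T' hT'
  have hTT' : ∀ y : G, y ∈ T' ↔ x⁻¹ * y * x ∈ T := mem_stab_conj_iff x hT hT'
  have hF' : IsPBlock M (Cfsg.Agent.Lib.Helper77.irrMap (stabConj x hTT') '' F) :=
    Cfsg.Agent.Lib.Helper77.isPBlock_irrMap_image _ hF
  have hF'c := blockCoeff_stabConj (f := f) x hTT' hFc
  refine ⟨_, hF', hF'c, ?_⟩
  have hDxP : conjSub (D'.map T.subtype) x ≤ P :=
    Cfsg.Agent.Lib.Helper52.Subpairs.le_of_reflTransGen hx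
  have hQxP : conjSub Q x ≤ P := Cfsg.Agent.Lib.Helper52.Subpairs.le_of_reflTransGen hle2
  have hD₁ := Cfsg.Agent.Lib.Helper77.isDefectGroup_irrMap_image (p := p) (M := M)
    (stabConj x hTT') hD'
  obtain ⟨D₂, hD₂, hRD₂⟩ :=
    exists_isDefectGroup_ge_inf_normalizer hM hPe hQxP hle2 hT' hF' hF'c
  have hD₁R : D'.comap (stabConj x hTT').toMonoidHom ≤
      (P ⊓ Subgroup.normalizer ((conjSub Q x : Subgroup G) : Set G)).subgroupOf T' := by
    intro t' ht'
    rw [Subgroup.mem_comap] at ht'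
    rw [Subgroup.mem_subgroupOf]
    refine ⟨hDxP ?_, ((hT' t').mp t'.2).1⟩
    exact mem_conjSub.mpr ⟨stabConj x hTT' t', ht', rfl⟩
  obtain ⟨χ₀, hχ₀⟩ := hF'
  rw [hχ₀] at hD₁ hD₂ ⊢
  have h12 := Cfsg.Agent.Lib.Helper77.eq_of_le_of_isDefectGroup hM χ₀ hD₁ hD₂
    (hD₁R.trans hRD₂)
  have hRD : (P ⊓ Subgroup.normalizer ((conjSub Q x : Subgroup G) : Set G)).subgroupOf T' = D₂ :=
    le_antisymm hRD₂ (h12 ▸ hD₁R)
  rw [hRD]
  exact hD₂

end Cfsg.Agent.S4662
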