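import Cfsg.Statements.S4670
import Cfsg.Agent.Lib.Helper77.BrauerCorr2
import Cfsg.Agent.S0958

set_option autoImplicit false
open Cfsg

namespace Cfsg.Agent.S4670

/-- Fix a prime p and a maximal ideal M of the algebraic integers containing p. Let P be a p-subgroup of the finite group G and H a subgroup containing N_G(P). For every p-block B of G with defect group P there is exactly one p-block c of H with defect group P whose idempotent agrees with that of B, modulo the local ideal at M, at every element of C_G(P) (their Brauer-map images at P coincide); and every p-block c of H with defect group P arises in this way from exactly one such B. This is the Brauer correspondence over H. -/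
theorem result {G : Type*} [Group G] [Fintype G] (p : ℕ) [Fact p.Prime] (M : Ideal Cfsg.AlgInt) (hM : Cfsg.IsPModular p M) (P H : Subgroup G) (hP : IsPGroup p P) (hH : Subgroup.normalizer (P : Set G) ≤ H) : (∀ B : Set (Cfsg.IrrCharacter G), Cfsg.IsPBlock M B → Cfsg.IsDefectGroup p M B P → ∃! c : Set (Cfsg.IrrCharacter H), Cfsg.IsPBlock M c ∧ Cfsg.IsDefectGroup p M c (P.subgroupOf H) ∧ ∀ x : G, x ∈ Subgroup.centralizer (P : Set G) → Cfsg.MemLocalIdeal M (Cfsg.blockCoeff B x - Cfsg.subgroupBlockCoeff H c x)) ∧ (∀ c : Set (Cfsg.IrrCharacter H), Cfsg.IsPBlock M c → Cfsg.IsDefectGroup p M c (P.subgroupOf H) → ∃! B : Set (Cfsg.IrrCharacter G), Cfsg.IsPBlock M B ∧ Cfsg.IsDefectGroup p M B P ∧ ∀ x : G, x ∈ Subgroup.centralizer (P : Set G) → Cfsg.MemLocalIdeal M (Cfsg.blockCoeff B x - Cfsg.subgroupBlockCoeff H c x)) := by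
  classical
  have hMp : M.IsPrime := Cfsg.Agent.Lib.Helper81.isPrime_of_isPModular hM
  have hPN : P ≤ Subgroup.normalizer (P : Set G) := Subgroup.le_normalizer
  have hPH : P ≤ H := hPN.trans hH
  have := Fintype.ofFinite H
  have := Fintype.ofFinite (Subgroup.normalizer (P : Set G))
  have := Fintype.ofFinite ((Subgroup.normalizer (P : Set G)).subgroupOf H)
  have hQK := Cfsg.Agent.Lib.Helper77.subgroupOf_le_normalizer_subgroupOf P H
  have hCK := Cfsg.Agent.Lib.Helper77.centralizer_subgroupOf_le hPH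
  have hKN := Cfsg.Agent.Lib.Helper77.normalizer_subgroupOf_le P H
  have hPp' : IsPGroup p (P.subgroupOf H) := hP.comap_subtype
  have hcent : ∀ y : H, y ∈ Subgroup.centralizer ((P.subgroupOf H : Subgroup H) : Set H) →
      (y : G) ∈ Subgroup.centralizer (P : Set G) := by
    intro y hy
    rw [Subgroup.mem_centralizer_iff]
    intro z hz
    have := (Subgroup.mem_centralizer_iff.mp hy) ⟨z, hPH hz⟩ hz
    exact congrArg Subtype.val this
  refine ⟨?_, ?_⟩
  · intro B hB hdefB
    obtain ⟨χB, rfl⟩ := hB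
    obtain ⟨ψ₀, hdefb, hindb⟩ := Cfsg.Agent.Lib.Helper77.exists_block_normalizer hM χB hdefB
    obtain ⟨χ₀, ζ₀, h1, h2, h3, h4, h5⟩ :=
      Cfsg.Agent.Lib.Helper77.brauerCorr_core hM hP hH ψ₀ hdefb
    have hBeq := Cfsg.Agent.Lib.Helper77.isInducedBlock_unique hMp hindb h1
    refine ⟨Cfsg.blockOf M (ζ₀ : H → ℂ), ⟨⟨ζ₀, rfl⟩, h4, ?_⟩, ?_⟩
    · rw [hBeq]; exact h5
    · rintro c' ⟨hc', -, hcong'⟩
      refine Cfsg.Agent.Lib.Helper77.eq_of_blockCoeff_cong hM (P.subgroupOf H)
        ((Subgroup.normalizer (P : Set G)).subgroupOf H) hPp' hQK hKN h3 hc' ?_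
      intro y hy
      have hx := hcent y hy
      have a := hcong' (y : G) hx
      have b := h5 (y : G) hx
      rw [hBeq, Cfsg.Agent.Lib.Helper77.subgroupBlockCoeff_of_mem _ y.2] at a
      rw [Cfsg.Agent.Lib.Helper77.subgroupBlockCoeff_of_mem _ y.2] at b
      have := Cfsg.Agent.Lib.Helper81.memLocalIdeal_sub hMp b a
      rwa [sub_sub_sub_cancel_left] at this
  · intro c hc hdefc
    obtain ⟨ζc, rfl⟩ := hc
    obtain ⟨b₁, hb₁ind⟩ := (Cfsg.Agent.S0958.result p M hM (P.subgroupOf H)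
      ((Subgroup.normalizer (P : Set G)).subgroupOf H) hPp' (sup_le hQK hCK) hKN
      (Cfsg.blockOf M (ζc : H → ℂ)) ⟨ζc, rfl⟩).2 ⟨P.subgroupOf H, hdefc, 1, by
        intro y hy
        obtain ⟨z, hz, rfl⟩ := hy
        simpa using hz⟩
    obtain ⟨ψ₁, hb₁⟩ := hb₁ind.1
    subst hb₁
    have hdefb₁ := Cfsg.Agent.Lib.Helper77.isDefectGroup_of_induced hM hQK hKN hb₁ind hdefc
    have hdefb : Cfsg.IsDefectGroup p M
        (Cfsg.blockOf M (Cfsg.Agent.Lib.Helper77.irrMap
          (Subgroup.subgroupOfEquivOfLe hH).symm ψ₁ : Subgroup.normalizer (P : Set G) → ℂ))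
        (P.subgroupOf (Subgroup.normalizer (P : Set G))) := by
      have h := Cfsg.Agent.Lib.Helper77.isDefectGroup_irrMap_image
        (Subgroup.subgroupOfEquivOfLe hH).symm hdefb₁
      rw [Cfsg.Agent.Lib.Helper77.irrMap_image_blockOf] at h
      convert h using 1
      ext y
      rfl
    obtain ⟨χ₀, ζ₀, h1, h2, h3, h4, h5⟩ :=
      Cfsg.Agent.Lib.Helper77.brauerCorr_core hM hP hH _ hdefb
    rw [Cfsg.Agent.Lib.Helper77.irrMap_image_blockOf,
      Cfsg.Agent.Lib.Helper77.irrMap_irrMap_symm] at h3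
    have hceq := Cfsg.Agent.Lib.Helper77.isInducedBlock_unique hMp hb₁ind h3
    refine ⟨Cfsg.blockOf M (χ₀ : G → ℂ), ⟨⟨χ₀, rfl⟩, h2, ?_⟩, ?_⟩
    · rw [hceq]; exact h5
    · rintro B' ⟨hB', -, hcong'⟩
      refine Cfsg.Agent.Lib.Helper77.eq_of_blockCoeff_cong hM P
        (Subgroup.normalizer (P : Set G)) hP hPN le_rfl h1 hB' ?_
      intro x hx
      have a := hcong' x hx
      have b := h5 x hx
      rw [hceq] at a
      have := Cfsg.Agent.Lib.Helper81.memLocalIdeal_sub hMp a b
      rwa [sub_sub_sub_cancel_right] at this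

end Cfsg.Agent.S4670
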