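import Cfsg.Statements.S4669
import Cfsg.Agent.Lib.Helper16.PC7
import Cfsg.Agent.Lib.Helper77.DefectConj

set_option autoImplicit false
open Cfsg

namespace Cfsg.Agent.S4669

open Cfsg.Agent.Lib.Helper16 Cfsg.Agent.Lib.Helper77 Cfsg.Agent.Lib.Helper80 Cfsg.Agent.Lib.Helper81

/-- Fix a prime p and a maximal ideal M of the algebraic integers containing p. If the p-block B of the finite group G has a defect group P contained in the centre of G, then B has p-regular rank one (a single irreducible Brauer character). -/
theorem result {G : Type*} [Group G] [Fintype G] (p : ℕ) [Fact p.Prime] (M : Ideal Cfsg.AlgInt) (hM : Cfsg.IsPModular p M) (B : Set (Cfsg.IrrCharacter G)) (hB : Cfsg.IsPBlock M B) (P : Subgroup G) (hD : Cfsg.IsDefectGroup p M B P) (hPZ : P ≤ Subgroup.center G) : Cfsg.blockRank p B = 1 := by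
  classical
  have := Fintype.ofFinite (IrrCharacter G)
  have := Fintype.ofFinite P
  have := Fintype.ofFinite (IrrCharacter P)
  have hp : p.Prime := Fact.out
  have hMp : M.IsPrime := isPrime_of_isPModular hM
  have hcent : Subgroup.centralizer (P : Set G) = ⊤ := by
    rw [eq_top_iff]
    intro g _
    rw [Subgroup.mem_centralizer_iff]
    intro h hh
    exact (Subgroup.mem_center_iff.mp (hPZ hh) g).symm
  have hG : P ⊔ Subgroup.centralizer (P : Set G) = ⊤ := by rw [hcent, sup_top_eq]
  have hPn : P.Normal := normal_of_sup_centralizer_eq_top P hG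
  have hPp : IsPGroup p P := isPGroup_of_isDefectGroup hD
  obtain ⟨χ, hχB, hχker, -⟩ := exists_ker_height_zero p M hM P B hB hD
  have hBeq : B = blockOf M (χ : G → ℂ) := eq_blockOf_of_mem hMp hB hχB
  subst hBeq
  have hspan : Submodule.span ℂ ((fun θ : IrrCharacter G => pRegularPart p (θ : G → ℂ)) ''
      blockOf M (χ : G → ℂ)) = Submodule.span ℂ {pRegularPart p (χ : G → ℂ)} := by
    apply le_antisymm
    · rw [Submodule.span_le]
      rintro _ ⟨θ, hθ, rfl⟩
      obtain ⟨μ, hlo⟩ := exists_liesOver P hG θ
      have : pRegularPart p (θ : G → ℂ) = (μ : P → ℂ) 1 • pRegularPart p (χ : G → ℂ) := by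
        funext g
        simp only [pRegularPart, Pi.smul_apply, smul_eq_mul]
        by_cases hg : IsPRegular p g
        · rw [if_pos hg, if_pos hg]
          exact regular_value_eq P hM hPp hG χ hD χ hχB hχker θ hθ μ hlo g hg
        · rw [if_neg hg, if_neg hg, mul_zero]
      show pRegularPart p (θ : G → ℂ) ∈ _
      rw [this]
      exact Submodule.smul_mem _ _ (Submodule.mem_span_singleton_self _)
    · apply Submodule.span_mono
      rw [Set.singleton_subset_iff]
      exact ⟨χ, hχB, rfl⟩
  unfold blockRank
  rw [hspan]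
  apply finrank_span_singleton
  intro h0
  have h1 := congrFun h0 1
  simp only [pRegularPart, Pi.zero_apply] at h1
  have h2 : IsPRegular p (1 : G) := by
    unfold IsPRegular
    rw [orderOf_one]
    exact hp.one_lt.ne' ∘ Nat.dvd_one.mp
  rw [if_pos h2] at h1
  exact Cfsg.Agent.Lib.Helper77.irr_one_ne_zero χ.2 h1

end Cfsg.Agent.S4669
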