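import Cfsg.Statements.S4661
import Cfsg.Agent.Lib.Helper52.DefectPairs
import Cfsg.Agent.Lib.Helper77.BPairN
import Cfsg.Agent.Lib.Helper77.TransportDefect

set_option autoImplicit false
open Cfsg

namespace Cfsg.Agent.S4661

open Cfsg.Agent.Lib.Helper81 Cfsg.Agent.Lib.Helper80
open Cfsg.Agent.Lib.Helper52.PStable Cfsg.Agent.Lib.Helper52.Subpairs
open Cfsg.Agent.Lib.Helper52.ConjPairs Cfsg.Agent.Lib.Helper52.DefectPairs

/-- Part 2, with the subgroup `R = Q^x` abstracted. -/
theorem part2 {G : Type*} [Group G] [Fintype G] {p : ℕ} [Fact p.Prime] {M : Ideal Cfsg.AlgInt}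
    (hM : Cfsg.IsPModular p M) {B : Set (Cfsg.IrrCharacter G)} {P Q : Subgroup G}
    {e : Set (Cfsg.IrrCharacter (Subgroup.centralizer (P : Set G)))}
    {f : Set (Cfsg.IrrCharacter (Subgroup.centralizer (Q : Set G)))}
    (hmax : Cfsg.IsMaximalBrauerPair p M B P e) (hQP : Q ≤ P) (hf : Cfsg.IsPBlock M f)
    (hle : Cfsg.SubpairLE p M Q f P e) :
    ∃ x : G, Cfsg.SubpairLE p M (conjSub Q x) (Cfsg.conjBlock Q x f) P e ∧
      Cfsg.IsDefectGroup p M (Cfsg.conjBlock Q x f)
        ((P ⊓ Subgroup.centralizer ((conjSub Q x : Subgroup G) : Set G)).subgroupOf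
          (Subgroup.centralizer ((conjSub Q x : Subgroup G) : Set G))) := by
  classical
  have hMp : M.IsPrime := isPrime_of_isPModular hM
  have hPe : IsBrauerPair p M P e := hmax.1.1
  have hBb : IsPBlock M B := hmax.1.2.1
  have hQp : IsPGroup p Q := hPe.1.to_le hQP
  -- the pair above `(Q, f)` carrying a defect group of `f`
  obtain ⟨D, g', hN, hsup, hDef⟩ := Cfsg.Agent.Lib.Helper77.claimX hM hQp hf hQp le_rfl
    Subgroup.le_normalizer
    (fun x hx => Cfsg.Agent.Lib.Helper77.stabilizesBlock_of_mem_self Q f hx)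
  have hQfB : IsBrauerPairOf p M B Q f :=
    (isBrauerPairOf_iff_of_subpairLE hM hBb hle).mp hmax.1
  have hDgB : IsBrauerPairOf p M B D g' :=
    (isBrauerPairOf_iff_of_normalSubpair hM hN hBb).mpr hQfB
  obtain ⟨x, hx⟩ := Cfsg.Agent.Lib.Helper77.exists_conj_subpairLE hM hmax hDgB
  refine ⟨x, ?_, ?_⟩
  · have hstep : NormalSubpairRel p M ⟨conjSub Q x, conjBlock Q x f⟩
        ⟨conjSub D x, conjBlock D x g'⟩ := isNormalSubpair_conj x hN
    exact Relation.ReflTransGen.head hstep hx
  · have hle2 : SubpairLE p M (conjSub Q x) (conjBlock Q x f) P e := by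
      have hstep : NormalSubpairRel p M ⟨conjSub Q x, conjBlock Q x f⟩
          ⟨conjSub D x, conjBlock D x g'⟩ := isNormalSubpair_conj x hN
      exact Relation.ReflTransGen.head hstep hx
    have hDxP : conjSub D x ≤ P := le_of_reflTransGen hx
    have hQxP : conjSub Q x ≤ P := le_of_reflTransGen hle2
    -- a defect group of the conjugate block containing `C_P(Q^x)`
    obtain ⟨D₂, hD₂, hRD₂⟩ := exists_isDefectGroup_ge_inf_centralizer hM hPe hQxP hle2
    -- the transported defect group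
    have hD₁ := Cfsg.Agent.Lib.Helper77.isDefectGroup_irrMap_image (p := p) (M := M)
      (centConj Q x) hDef
    rw [← Cfsg.Agent.Lib.Helper52.ConjPairs.conjBlock_eq_image] at hD₁
    have hD₁R : ((D ⊓ Subgroup.centralizer (Q : Set G)).subgroupOf
        (Subgroup.centralizer (Q : Set G))).comap (centConj Q x).toMonoidHom ≤
        (P ⊓ Subgroup.centralizer ((conjSub Q x : Subgroup G) : Set G)).subgroupOf
          (Subgroup.centralizer ((conjSub Q x : Subgroup G) : Set G)) := by
      intro c hc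
      rw [Subgroup.mem_comap] at hc
      have hc' : x⁻¹ * (c : G) * x ∈ D ⊓ Subgroup.centralizer (Q : Set G) :=
        Subgroup.mem_subgroupOf.mp hc
      rw [Subgroup.mem_subgroupOf]
      refine ⟨hDxP ?_, c.2⟩
      exact mem_conjSub.mpr hc'.1
    obtain ⟨χ₀, hχ₀⟩ := isPBlock_conjBlock (M := M) Q x hf
    rw [hχ₀] at hD₁ hD₂ ⊢
    have h12 := Cfsg.Agent.Lib.Helper77.eq_of_le_of_isDefectGroup hM χ₀ hD₁ hD₂
      (hD₁R.trans hRD₂)
    have hRD : (P ⊓ Subgroup.centralizer ((conjSub Q x : Subgroup G) : Set G)).subgroupOf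
          (Subgroup.centralizer ((conjSub Q x : Subgroup G) : Set G)) = D₂ :=
      le_antisymm hRD₂ (h12 ▸ hD₁R)
    rw [hRD]
    exact hD₂

/-- Fix a prime p and a maximal ideal M of the algebraic integers containing p. Let (P, e) be a maximal Brauer pair of the p-block B of the finite group G, Q ≤ P, and f the p-block of C_G(Q) with (Q, f) ≤ (P, e). Then C_P(Q) is contained in a defect group of f (as a block of the group C_G(Q)); and for some x in G the conjugate pair (x Q x⁻¹, conjugate of f) again lies below (P, e) and C_P(x Q x⁻¹) is a defect group of the conjugate of f in C_G(x Q x⁻¹). -/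
theorem result {G : Type*} [Group G] [Fintype G] (p : ℕ) [Fact p.Prime] (M : Ideal Cfsg.AlgInt) (hM : Cfsg.IsPModular p M) (B : Set (Cfsg.IrrCharacter G)) (P Q : Subgroup G) (e : Set (Cfsg.IrrCharacter (Subgroup.centralizer (P : Set G)))) (f : Set (Cfsg.IrrCharacter (Subgroup.centralizer (Q : Set G)))) (hmax : Cfsg.IsMaximalBrauerPair p M B P e) (hQP : Q ≤ P) (hf : Cfsg.IsPBlock M f) (hle : Cfsg.SubpairLE p M Q f P e) : (∃ D : Subgroup (Subgroup.centralizer (Q : Set G)), Cfsg.IsDefectGroup p M f D ∧ (P ⊓ Subgroup.centralizer (Q : Set G)).subgroupOf (Subgroup.centralizer (Q : Set G)) ≤ D) ∧ ∃ x : G, Cfsg.SubpairLE p M (Q.map (MulAut.conj x).toMonoidHom) (Cfsg.conjBlock Q x f) P e ∧ Cfsg.IsDefectGroup p M (Cfsg.conjBlock Q x f) ((P ⊓ Subgroup.centralizer ((Q.map (MulAut.conj x).toMonoidHom) : Set G)).subgroupOf (Subgroup.centralizer ((Q.map (MulAut.conj x).toMonoidHom) : Set G))) := by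
  exact ⟨exists_isDefectGroup_ge_inf_centralizer hM hmax.1.1 hQP hle, part2 hM hmax hQP hf hle⟩

end Cfsg.Agent.S4661
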