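import Cfsg.Statements.S0112
import Cfsg.Agent.Lib.Helper86.Ess

set_option autoImplicit false
open Cfsg

namespace Cfsg.Agent.S0112

open Cfsg.Agent.Lib.Helper86

universe u

/-- a subgroup of prime-power order inside a group of order `p^n` -/
theorem card_eq_pow_of_card_pow {X : Type*} [Group X] [Finite X] {p n : ℕ} (hp : p.Prime)
    (hX : Nat.card X = p ^ n) (H : Subgroup X) : ∃ a ≤ n, Nat.card H = p ^ a :=
  (Nat.dvd_prime_pow hp).mp (hX ▸ Subgroup.card_subgroup_dvd_card H)

theorem main (p : ℕ) [Fact p.Prime] : ∀ (n : ℕ) (X : Type u) [Group X] [Finite X],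
    Nat.card X = p ^ n → ∀ A : Subgroup X, Nat.card A = p ^ 2 →
    Subgroup.centralizer (A : Set X) = A → Group.nilpotencyClass X = n - 1 := by
  have hp : p.Prime := Fact.out
  intro n
  induction n using Nat.strong_induction_on with
  | _ n ih =>
  intro X _ _ hX A hA hC
  have hXp : IsPGroup p X := IsPGroup.of_card hX
  have hnil : Group.IsNilpotent X := hXp.isNilpotent
  -- n ≥ 2
  have hn2 : 2 ≤ n := by
    have hdvd : p ^ 2 ∣ p ^ n := by
      rw [← hA, ← hX]; exact Subgroup.card_subgroup_dvd_card A
    exact (Nat.pow_dvd_pow_iff_le_right hp.one_lt).mp hdvd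
  have hnt : Nontrivial X := by
    rw [← Finite.one_lt_card_iff_nontrivial, hX]
    exact Nat.one_lt_pow (by omega) hp.one_lt
  -- the centre lies in A
  have hZA : Subgroup.center X ≤ A := by
    rw [← hC]
    exact Subgroup.center_le_centralizer _
  obtain ⟨z, hz, hcZ⟩ := card_eq_pow_of_card_pow hp hA ((Subgroup.center X).subgroupOf A)
  have hcZ' : Nat.card (Subgroup.center X) = p ^ z := by
    rw [← hcZ]
    exact (Nat.card_congr (Subgroup.subgroupOfEquivOfLe hZA).toEquiv).symm
  have hz0 : z ≠ 0 := by
    intro h0
    have hntc : Nontrivial (Subgroup.center X) := hXp.center_nontrivial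
    rw [← Finite.one_lt_card_iff_nontrivial, hcZ', h0, pow_zero] at hntc
    exact lt_irrefl _ hntc
  have hz12 : z = 1 ∨ z = 2 := by omega
  rcases hz12 with hz1 | hz2
  swap
  · -- the centre is A, so X = A
    have hZeqA : Subgroup.center X = A :=
      Subgroup.eq_of_le_of_card_ge hZA (by rw [hA, hcZ', hz2])
    have hAtop : A = ⊤ := by
      rw [← hC, ← hZeqA]
      rw [eq_top_iff]
      intro x _
      rw [Subgroup.mem_centralizer_iff]
      intro y hy
      exact (Subgroup.mem_center_iff.mp hy x).symm
    have hn : n = 2 := by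
      have h1 : p ^ n = p ^ 2 := by
        rw [← hX, ← hA, hAtop, Subgroup.card_top]
      exact Nat.pow_right_injective hp.two_le h1
    have hZtop : Subgroup.center X = ⊤ := by rw [hZeqA, hAtop]
    have hq : Group.nilpotencyClass (X ⧸ Subgroup.center X) = 0 := by
      have : Subsingleton (X ⧸ Subgroup.center X) := by
        rw [hZtop]; exact QuotientGroup.subsingleton_quotient_top
      have : Group.IsNilpotent (X ⧸ Subgroup.center X) := inferInstance
      exact Group.nilpotencyClass_zero_iff_subsingleton.mpr inferInstance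
    have h1 := Group.nilpotencyClass_eq_quotient_center_plus_one (G := X)
    rw [h1, hq, hn]
  · -- the centre has order p
    subst hz1
    rw [pow_one] at hcZ'
    have hn3 : 3 ≤ n := by
      by_contra hlt
      have hn : n = 2 := by omega
      -- then X = A is abelian, so the centre has order p²
      have hAtop : A = ⊤ := by
        apply Subgroup.eq_top_of_card_eq
        rw [hA, hX, hn]
      have hcomm : IsMulCommutative X := IsPGroup.isMulCommutative_of_card_eq_prime_sq (hn ▸ hX)
      have hZtop : Subgroup.center X = ⊤ := by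
        rw [eq_top_iff]
        intro x _
        rw [Subgroup.mem_center_iff]
        intro y
        exact isMulCommutative_iff.mp hcomm y x
      rw [hZtop, Subgroup.card_top, hX, hn] at hcZ'
      have : p ^ 2 = p ^ 1 := by rw [hcZ', pow_one]
      have := Nat.pow_right_injective hp.two_le this
      omega
    -- the quotient
    set Z := Subgroup.center X with hZdef
    set π : X →* X ⧸ Z := QuotientGroup.mk' Z with hπ
    have hπsurj : Function.Surjective π := QuotientGroup.mk'_surjective Z
    have hπker : π.ker = Z := QuotientGroup.ker_mk' Z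
    have hcQ : Nat.card (X ⧸ Z) = p ^ (n - 1) := by
      have h1 := Subgroup.card_eq_card_quotient_mul_card_subgroup Z
      rw [hX, hcZ'] at h1
      have h2 : p ^ (n - 1) * p = Nat.card (X ⧸ Z) * p := by
        rw [← h1, ← pow_succ]; congr 1; omega
      exact (Nat.eq_of_mul_eq_mul_right hp.pos h2).symm
    have hQp : IsPGroup p (X ⧸ Z) := IsPGroup.of_card hcQ
    -- the image of A
    set Abar : Subgroup (X ⧸ Z) := A.map π with hAbar
    have hcAbar : Nat.card Abar = p := by
      have h1 : Nat.card A = Nat.card Abar * Nat.card (Z.subgroupOf A) := by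
        have := Subgroup.card_eq_card_quotient_mul_card_subgroup ((π.comp A.subtype).ker)
        have hker : (π.comp A.subtype).ker = Z.subgroupOf A := by
          ext x
          rw [MonoidHom.mem_ker, Subgroup.mem_subgroupOf, MonoidHom.comp_apply, ← MonoidHom.mem_ker,
            hπker]
          rfl
        rw [hker] at this
        rw [this]
        congr 1
        have hr : (π.comp A.subtype).range = Abar := by
          rw [hAbar, MonoidHom.range_comp, Subgroup.range_subtype]
        rw [← hr, ← hker]
        exact Nat.card_congr (QuotientGroup.quotientKerEquivRange _).toEquiv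
      have h2 : Nat.card (Z.subgroupOf A) = p := by
        rw [← hcZ']
        exact (Nat.card_congr (Subgroup.subgroupOfEquivOfLe hZA).toEquiv)
      rw [hA, h2] at h1
      have : Nat.card Abar * p = p * p := by rw [← h1]; ring
      exact Nat.eq_of_mul_eq_mul_right hp.pos this
    have hAbarcyc : IsCyclic Abar := isCyclic_of_prime_card hcAbar
    have hAbarcomm : Abar ≤ Subgroup.centralizer (Abar : Set (X ⧸ Z)) := by
      intro x hx
      rw [Subgroup.mem_centralizer_iff]
      intro y hy
      have := IsCyclic.isMulCommutative (α := Abar)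
      have h := isMulCommutative_iff.mp this ⟨y, hy⟩ ⟨x, hx⟩
      exact congrArg Subtype.val h
    -- an element of A outside Z
    obtain ⟨a₀, ha₀A, ha₀Z⟩ : ∃ a₀ ∈ A, a₀ ∉ Z := by
      by_contra hcon
      push Not at hcon
      have : A ≤ Z := hcon
      have h1 := Subgroup.card_le_of_le this
      rw [hA, hcZ'] at h1
      have : p ^ 1 < p ^ 2 := Nat.pow_lt_pow_right hp.one_lt (by norm_num)
      rw [pow_one] at this
      omega
    -- A = Z ⊔ ⟨a₀⟩
    have hAgen : A = Z ⊔ Subgroup.zpowers a₀ := by
      symm
      have hle : Z ⊔ Subgroup.zpowers a₀ ≤ A := sup_le hZA (by rw [Subgroup.zpowers_le]; exact ha₀A)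
      obtain ⟨b, hb, hcb⟩ := card_eq_pow_of_card_pow hp hA ((Z ⊔ Subgroup.zpowers a₀).subgroupOf A)
      have hcb' : Nat.card (Z ⊔ Subgroup.zpowers a₀ : Subgroup X) = p ^ b := by
        rw [← hcb]
        exact (Nat.card_congr (Subgroup.subgroupOfEquivOfLe hle).toEquiv).symm
      have hlt : Nat.card Z < Nat.card (Z ⊔ Subgroup.zpowers a₀ : Subgroup X) := by
        apply lt_of_le_of_ne (Subgroup.card_le_of_le le_sup_left)
        intro heq
        have : Z = Z ⊔ Subgroup.zpowers a₀ := Subgroup.eq_of_le_of_card_ge le_sup_left (by rw [heq])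
        apply ha₀Z
        rw [this]
        exact Subgroup.mem_sup_right (Subgroup.mem_zpowers a₀)
      rw [hcZ', hcb'] at hlt
      have hb2 : b = 2 := by
        have h1 : p ^ 1 < p ^ b := by rw [pow_one]; exact hlt
        have := (Nat.pow_lt_pow_iff_right hp.one_lt).mp h1
        omega
      exact Subgroup.eq_of_le_of_card_ge hle (by rw [hA, hcb', hb2])
    -- the centralizer of Abar
    set Bbar : Subgroup (X ⧸ Z) := Subgroup.centralizer (Abar : Set (X ⧸ Z)) with hBbar
    set B : Subgroup X := Bbar.comap π with hB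
    have hAB : A ≤ B := by
      intro a ha
      rw [hB, Subgroup.mem_comap]
      exact hAbarcomm ⟨a, ha, rfl⟩
    -- the commutator map
    have hcmem : ∀ x ∈ B, x * a₀ * x⁻¹ * a₀⁻¹ ∈ Z := by
      intro x hx
      rw [hB, Subgroup.mem_comap, hBbar, Subgroup.mem_centralizer_iff] at hx
      have h1 := hx (π a₀) ⟨a₀, ha₀A, rfl⟩
      rw [← hπker, MonoidHom.mem_ker, map_mul, map_mul, map_mul, map_inv, map_inv, ← h1]
      group
    let f : B →* Z := MonoidHom.mk' (fun x => ⟨(x : X) * a₀ * (x : X)⁻¹ * a₀⁻¹, hcmem x x.2⟩) (by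
      intro x y
      apply Subtype.ext
      have hy := hcmem y y.2
      rw [hZdef, Subgroup.mem_center_iff] at hy
      show ((x * y : B) : X) * a₀ * ((x * y : B) : X)⁻¹ * a₀⁻¹ =
        ((x : X) * a₀ * (x : X)⁻¹ * a₀⁻¹) * ((y : X) * a₀ * (y : X)⁻¹ * a₀⁻¹)
      have h2 := hy ((x : X) * a₀ * (x : X)⁻¹ * a₀⁻¹)
      have h3 := hy (x : X)
      calc ((x * y : B) : X) * a₀ * ((x * y : B) : X)⁻¹ * a₀⁻¹
          = ((x : X) * ((y : X) * a₀ * (y : X)⁻¹ * a₀⁻¹)) * a₀ * (x : X)⁻¹ * a₀⁻¹ := by
            rw [Subgroup.coe_mul]; group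
        _ = (((y : X) * a₀ * (y : X)⁻¹ * a₀⁻¹) * (x : X)) * a₀ * (x : X)⁻¹ * a₀⁻¹ := by rw [h3]
        _ = ((y : X) * a₀ * (y : X)⁻¹ * a₀⁻¹) * ((x : X) * a₀ * (x : X)⁻¹ * a₀⁻¹) := by group
        _ = _ := h2.symm)
    have hf : ∀ x : B, ((f x : Z) : X) = (x : X) * a₀ * (x : X)⁻¹ * a₀⁻¹ := fun x => rfl
    have hkerle : f.ker.map B.subtype ≤ A := by
      rintro _ ⟨x, hx, rfl⟩
      rw [SetLike.mem_coe, MonoidHom.mem_ker] at hx
      have h1 : (x : X) * a₀ * (x : X)⁻¹ * a₀⁻¹ = 1 := by
        rw [← hf, hx]; rfl
      have hcomm : (x : X) * a₀ = a₀ * (x : X) := by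
        calc (x : X) * a₀ = ((x : X) * a₀ * (x : X)⁻¹ * a₀⁻¹) * a₀ * (x : X) := by group
          _ = a₀ * (x : X) := by rw [h1, one_mul]
      show (x : X) ∈ A
      rw [← hC, Subgroup.mem_centralizer_iff]
      intro a ha
      have hale : A ≤ Subgroup.centralizer {(x : X)} := by
        rw [hAgen]
        apply sup_le
        · intro z hz
          rw [Subgroup.mem_centralizer_iff]
          intro y hy
          rw [Set.mem_singleton_iff] at hy
          rw [hy]
          exact (Subgroup.mem_center_iff.mp hz (x : X))
        · rw [Subgroup.zpowers_le, Subgroup.mem_centralizer_iff]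
          intro y hy
          rw [Set.mem_singleton_iff] at hy
          rw [hy]
          exact hcomm
      have := hale ha
      rw [Subgroup.mem_centralizer_iff] at this
      exact (this (x : X) rfl).symm
    -- |B| ≤ p³
    have hcB : Nat.card B ≤ p ^ 3 := by
      have h1 : Nat.card B = Nat.card f.ker * Nat.card f.range := by
        rw [← Subgroup.index_ker, Subgroup.card_mul_index]
      have h2 : Nat.card f.ker ≤ p ^ 2 := by
        have : Nat.card f.ker = Nat.card (f.ker.map B.subtype) :=
          (Subgroup.card_map_of_injective B.subtype_injective).symm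
        rw [this, ← hA]
        exact Subgroup.card_le_of_le hkerle
      have h3 : Nat.card f.range ≤ p := by
        rw [← hcZ']
        have : Nat.card f.range = Nat.card (f.range.map Z.subtype) :=
          (Subgroup.card_map_of_injective Z.subtype_injective).symm
        rw [this]
        exact Subgroup.card_le_of_le (Subgroup.map_subtype_le _)
      rw [h1]
      calc Nat.card f.ker * Nat.card f.range ≤ p ^ 2 * p := Nat.mul_le_mul h2 h3
        _ = p ^ 3 := by ring
    -- |Bbar| = |B| / p
    have hcBB : Nat.card B = Nat.card Bbar * p := by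
      have hi : B.index = Bbar.index := by
        rw [hB]; exact Subgroup.index_comap_of_surjective Bbar hπsurj
      have e1 := Subgroup.card_mul_index B
      have e2 := Subgroup.card_mul_index Bbar
      have e3 := Subgroup.card_eq_card_quotient_mul_card_subgroup Z
      rw [hcZ'] at e3
      have hi0 : 0 < Bbar.index := Nat.pos_of_ne_zero Subgroup.index_ne_zero_of_finite
      rw [hi] at e1
      have : Nat.card B * Bbar.index = (Nat.card Bbar * p) * Bbar.index := by
        rw [e1, e3, ← e2]; ring
      exact Nat.eq_of_mul_eq_mul_right hi0 this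
    obtain ⟨b, hb, hcb⟩ := card_eq_pow_of_card_pow hp hcQ Bbar
    have hb2 : b ≤ 2 := by
      rw [hcBB, hcb, ← pow_succ] at hcB
      have := (Nat.pow_le_pow_iff_right hp.one_lt).mp hcB
      omega
    have hAbarB : Abar ≤ Bbar := hAbarcomm
    have hb1 : 2 ≤ b := by
      by_contra hlt
      have hb1' : b ≤ 1 := by omega
      have hle : Nat.card Bbar ≤ p := by
        rw [hcb]
        calc p ^ b ≤ p ^ 1 := Nat.pow_le_pow_right hp.pos hb1'
          _ = p := pow_one p
      have heq : Abar = Bbar := Subgroup.eq_of_le_of_card_ge hAbarB (by rw [hcAbar]; exact hle)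
      -- then the centre of the quotient is Abar, so Abar is central and Bbar = ⊤
      have hntQ : Nontrivial (X ⧸ Z) := by
        rw [← Finite.one_lt_card_iff_nontrivial, hcQ]
        exact Nat.one_lt_pow (by omega) hp.one_lt
      have hZQ : Subgroup.center (X ⧸ Z) ≤ Abar := by
        rw [heq, hBbar]
        exact Subgroup.center_le_centralizer _
      have hZQne : Subgroup.center (X ⧸ Z) ≠ ⊥ := by
        have := hQp.center_nontrivial
        intro h
        rw [h] at this
        exact not_nontrivial _ this
      have hZQeq : Subgroup.center (X ⧸ Z) = Abar := eq_of_le_of_prime_card hp hZQ hZQne hcAbar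
      have htop : Bbar = ⊤ := by
        rw [hBbar, ← hZQeq, eq_top_iff]
        intro x _
        rw [Subgroup.mem_centralizer_iff]
        intro y hy
        exact (Subgroup.mem_center_iff.mp hy x).symm
      rw [htop, Subgroup.card_top, hcQ] at hle
      have h1 : p ^ 2 ≤ p ^ (n - 1) := Nat.pow_le_pow_right hp.pos (by omega)
      have h2 : p < p ^ 2 := by
        calc p = p ^ 1 := (pow_one p).symm
          _ < p ^ 2 := Nat.pow_lt_pow_right hp.one_lt (by norm_num)
      omega
    have hb' : b = 2 := by omega
    rw [hb'] at hcb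
    -- Bbar is self-centralizing
    have hBcomm : IsMulCommutative Bbar := IsPGroup.isMulCommutative_of_card_eq_prime_sq hcb
    have hBself : Subgroup.centralizer (Bbar : Set (X ⧸ Z)) = Bbar := by
      apply le_antisymm
      · calc Subgroup.centralizer (Bbar : Set (X ⧸ Z)) ≤ Subgroup.centralizer (Abar : Set (X ⧸ Z)) :=
            Subgroup.centralizer_le hAbarB
          _ = Bbar := rfl
      · intro x hx
        rw [Subgroup.mem_centralizer_iff]
        intro y hy
        have h := isMulCommutative_iff.mp hBcomm ⟨y, hy⟩ ⟨x, hx⟩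
        exact congrArg Subtype.val h
    have hind := ih (n - 1) (by omega) (X ⧸ Z) hcQ Bbar hcb hBself
    have h1 := Group.nilpotencyClass_eq_quotient_center_plus_one (G := X)
    rw [h1, hind]
    omega

/-- A p-group with a self-centralizing subgroup of order p^2 is of maximal class. -/
theorem result {X : Type*} [Group X] [Finite X] {p : ℕ} [Fact p.Prime] (n : ℕ) (hX : Nat.card X = p ^ n) (A : Subgroup X) (hA : Nat.card A = p ^ 2) (hC : Subgroup.centralizer (A : Set X) = A) : Group.nilpotencyClass X = n - 1 :=
  main p n X hX A hA hC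

end Cfsg.Agent.S0112
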