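import Cfsg.Statements.S0029
import Cfsg.Agent.Lib.Helper24.Coprime

set_option autoImplicit false
open Cfsg

namespace Cfsg.Agent.S0029

open Cfsg.Agent.Lib.Helper24 Subgroup

/-- An action that is trivial on the Frattini quotient and coprime on the Frattini subgroup is trivial: if A normalises K, the orders of A and of the Frattini subgroup of K are coprime, and every commutator of an element of A with an element of K lies in the Frattini subgroup of K, then A centralises K. -/
theorem result {G : Type*} [Group G] [Finite G] (A K : Subgroup G)
    (hAK : A ≤ Subgroup.normalizer (K : Set G))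
    (hcop : (Nat.card A).Coprime (Nat.card (frattini K)))
    (htriv : ∀ a ∈ A, ∀ k ∈ K, a * k * a⁻¹ * k⁻¹ ∈ (frattini K).map K.subtype) :
    A ≤ Subgroup.centralizer (K : Set G) := by
  set N : Subgroup G := (frattini K).map K.subtype with hN
  have hNK : N ≤ K := map_subtype_le _
  have hNA : A ≤ normalizer (N : Set G) :=
    le_trans hAK (normalizer_le_normalizer_map_of_characteristic K (frattini K))
  have hcardN : Nat.card N = Nat.card (frattini K) :=
    card_map_of_injective K.subtype_injective
  have hcopN : (Nat.card A).Coprime (Nat.card N) := by rw [hcardN]; exact hcop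
  have hsolvN : Group.IsSolvable N := by
    haveI : Group.IsNilpotent (frattini K) := frattini_nilpotent
    haveI : Group.IsSolvable (frattini K) := inferInstance
    have hsurj : Function.Surjective (K.subtype.subgroupMap (frattini K)) :=
      MonoidHom.subgroupMap_surjective _ _
    exact Group.isSolvable_of_surjective hsurj
  -- C = K ⊓ C_G(A), as a subgroup of K
  set C : Subgroup K := (centralizer (A : Set G)).subgroupOf K with hC
  -- every element of K is in frattini K * C
  have hgen : C ⊔ frattini K = ⊤ := by
    rw [eq_top_iff]
    intro k _
    obtain ⟨n, hn, hc⟩ := fixed_point_lemma N A hNA hcopN (Or.inl hsolvN) (k : G)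
      (fun a ha => htriv a ha k k.2)
    obtain ⟨n', hn', rfl⟩ := hn
    have e : k = n' * (n'⁻¹ * k) := by group
    rw [e]
    refine mul_mem (mem_sup_right hn') (mem_sup_left ?_)
    rw [hC, mem_subgroupOf]
    simpa using hc
  have hCtop : C = ⊤ := frattini_nongenerating hgen
  intro a ha
  rw [mem_centralizer_iff]
  intro k hk
  have : (⟨k, hk⟩ : K) ∈ C := by rw [hCtop]; trivial
  rw [hC, mem_subgroupOf, mem_centralizer_iff] at this
  exact (this a ha).symm

end Cfsg.Agent.S0029
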