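import Cfsg.Statements.S1473
import Cfsg.Agent.Lib.Helper78.CNQuot
import Mathlib.GroupTheory.Solvable

set_option autoImplicit false
open Cfsg

namespace Cfsg.Agent.S1473

open Subgroup Cfsg.Agent.Lib.Helper78

universe u

theorem isCN_of_mulEquiv {G G' : Type*} [Group G] [Group G'] (e : G ≃* G')
    (h : Cfsg.IsCNGroup G) : Cfsg.IsCNGroup G' := by
  intro g' hg'
  have hg : e.symm g' ≠ 1 := by
    intro h1
    apply hg'
    have := congrArg e h1
    simpa using this
  have hN := h (e.symm g') hg
  apply isNilpotent_of_le _ (isNilpotent_map e.toMonoidHom _ hN)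
  intro d' hd'
  rw [Subgroup.mem_centralizer_singleton_iff] at hd'
  refine ⟨e.symm d', ?_, by simp⟩
  rw [SetLike.mem_coe, Subgroup.mem_centralizer_singleton_iff, ← map_mul, ← map_mul, hd']

/-- the derived series of `H`, as subgroups of the ambient group -/
def ds {G : Type*} [Group G] (H : Subgroup G) : ℕ → Subgroup G
  | 0 => H
  | n + 1 => ⁅ds H n, ds H n⁆

theorem ds_normal {G : Type*} [Group G] (H : Subgroup G) [H.Normal] : ∀ n, (ds H n).Normal
  | 0 => by change H.Normal; infer_instance
  | n + 1 => by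
    have := ds_normal H n
    change (⁅ds H n, ds H n⁆).Normal
    infer_instance

theorem ds_eq_map {G : Type*} [Group G] (H : Subgroup G) :
    ∀ n, ds H n = (derivedSeries H n).map H.subtype
  | 0 => by
    change H = _
    rw [derivedSeries_zero, ← MonoidHom.range_eq_map, Subgroup.range_subtype]
  | n + 1 => by
    change ⁅ds H n, ds H n⁆ = _
    rw [ds_eq_map H n, derivedSeries_succ, Subgroup.map_commutator]

theorem ds_le {G : Type*} [Group G] (H : Subgroup G) (n : ℕ) : ds H n ≤ H := by
  rw [ds_eq_map]; exact Subgroup.map_subtype_le _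

theorem main_aux : ∀ (n : ℕ) (G : Type u) [Group G] [Finite G], Nat.card G = n →
    Cfsg.IsCNGroup G → ∀ (H : Subgroup G) [H.Normal], Group.IsSolvable H →
    Cfsg.IsCNGroup (G ⧸ H) := by
  intro n
  induction n using Nat.strong_induction_on with
  | _ n ih =>
  intro G _ _ hn hCN H _ hH
  classical
  by_cases hHbot : H = ⊥
  · have e1 : G ⧸ H ≃* G ⧸ (⊥ : Subgroup G) := QuotientGroup.quotientMulEquivOfEq hHbot
    exact isCN_of_mulEquiv (e1.trans QuotientGroup.quotientBot).symm hCN
  · -- the last nontrivial term of the derived series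
    have hex : ∃ k, ds H k = ⊥ := by
      obtain ⟨k, hk⟩ := hH.solvable
      exact ⟨k, by rw [ds_eq_map, hk, Subgroup.map_bot]⟩
    set n₀ := Nat.find hex with hn₀
    have hn₀spec : ds H n₀ = ⊥ := Nat.find_spec hex
    have hn₀0 : n₀ ≠ 0 := by
      intro h0
      rw [h0] at hn₀spec
      exact hHbot hn₀spec
    obtain ⟨j, hj⟩ : ∃ j, n₀ = j + 1 := ⟨n₀ - 1, by omega⟩
    set A₀ := ds H j with hA₀
    have hA₀bot : A₀ ≠ ⊥ := by
      intro h
      have := Nat.find_min' hex h
      omega
    have hA₀comm : ⁅A₀, A₀⁆ = ⊥ := by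
      rw [hj] at hn₀spec
      exact hn₀spec
    have hA₀n : A₀.Normal := ds_normal H j
    have hA₀H : A₀ ≤ H := ds_le H j
    have hA₀ab : ∀ a ∈ A₀, ∀ b ∈ A₀, a * b = b * a := by
      intro a ha b hb
      have h1 := Subgroup.commutator_eq_bot_iff_le_centralizer.mp hA₀comm ha
      rw [Subgroup.mem_centralizer_iff] at h1
      exact (h1 b hb).symm
    -- a prime dividing |A₀|
    have hcard1 : Nat.card A₀ ≠ 1 := fun h => hA₀bot (Subgroup.card_eq_one.mp h)
    obtain ⟨p, hp, hpd⟩ := Nat.exists_prime_and_dvd hcard1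
    have hpf : Fact p.Prime := ⟨hp⟩
    obtain ⟨a₀, ha₀⟩ := exists_prime_orderOf_dvd_card' (G := A₀) p hpd
    let A : Subgroup G :=
      { carrier := {a | a ∈ A₀ ∧ a ^ p = 1}
        one_mem' := ⟨A₀.one_mem, one_pow p⟩
        mul_mem' := by
          rintro a b ⟨ha, hap⟩ ⟨hb, hbp⟩
          refine ⟨A₀.mul_mem ha hb, ?_⟩
          rw [(show Commute a b from hA₀ab a ha b hb).mul_pow, hap, hbp, one_mul]
        inv_mem' := by
          rintro a ⟨ha, hap⟩
          exact ⟨A₀.inv_mem ha, by rw [inv_pow, hap, inv_one]⟩ }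
    have hAmem : ∀ a, a ∈ A ↔ a ∈ A₀ ∧ a ^ p = 1 := fun a => Iff.rfl
    have hAA₀ : A ≤ A₀ := fun a ha => ha.1
    have hAn : A.Normal := by
      constructor
      intro a ha g
      rw [hAmem] at ha ⊢
      refine ⟨hA₀n.conj_mem a ha.1 g, ?_⟩
      rw [conj_pow, ha.2]; group
    have hAp : IsPGroup p A := by
      intro a
      refine ⟨1, ?_⟩
      apply Subtype.ext
      rw [pow_one]
      exact a.2.2
    have hAab : ∀ a ∈ A, ∀ b ∈ A, a * b = b * a :=
      fun a ha b hb => hA₀ab a (hAA₀ ha) b (hAA₀ hb)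
    have hAbot : A ≠ ⊥ := by
      intro h
      have hmem : (a₀ : G) ∈ A := by
        refine ⟨a₀.2, ?_⟩
        have : a₀ ^ p = 1 := by rw [← ha₀]; exact pow_orderOf_eq_one a₀
        have := congrArg Subtype.val this
        simpa using this
      rw [h, Subgroup.mem_bot] at hmem
      have h1 : a₀ = 1 := Subtype.ext hmem
      rw [h1, orderOf_one] at ha₀
      exact hp.one_lt.ne ha₀
    have hAH : A ≤ H := hAA₀.trans hA₀H
    -- the quotient by A
    have hCN₁ : Cfsg.IsCNGroup (G ⧸ A) := cn_quotient_of_abelian_pgroup hCN A hAp hAab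
    have hcardlt : Nat.card (G ⧸ A) < n := by
      have h1 := Subgroup.card_eq_card_quotient_mul_card_subgroup A
      have h2 : 2 ≤ Nat.card A := by
        have hpos : 0 < Nat.card A := Nat.card_pos
        have hne1 : Nat.card A ≠ 1 := fun h => hAbot (Subgroup.card_eq_one.mp h)
        omega
      have h3 : 0 < Nat.card (G ⧸ A) := Nat.card_pos
      rw [hn] at h1
      nlinarith
    have hH₁n : (H.map (QuotientGroup.mk' A)).Normal :=
      Subgroup.Normal.map inferInstance _ (QuotientGroup.mk'_surjective A)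
    have hH₁s : Group.IsSolvable (H.map (QuotientGroup.mk' A)) :=
      Group.isSolvable_of_surjective ((QuotientGroup.mk' A).subgroupMap_surjective H)
    have hIH := ih (Nat.card (G ⧸ A)) hcardlt (G ⧸ A) rfl hCN₁ (H.map (QuotientGroup.mk' A)) hH₁s
    exact isCN_of_mulEquiv (QuotientGroup.quotientQuotientEquivQuotient A H hAH) hIH

/-- Let G be a finite group in which the centralizer of every non-identity element is nilpotent, and H a solvable normal subgroup of G. Then in G/H the centralizer of every non-identity element is nilpotent. -/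
theorem result {G : Type*} [Group G] [Finite G] (hCN : Cfsg.IsCNGroup G) (H : Subgroup G) [H.Normal] (hH : Group.IsSolvable H) :
    Cfsg.IsCNGroup (G ⧸ H) :=
  main_aux (Nat.card G) G rfl hCN H hH

end Cfsg.Agent.S1473
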