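import Cfsg.Statements.S3784
import Mathlib.NumberTheory.Fermat
import Mathlib.Tactic

set_option autoImplicit false
open Cfsg

namespace Cfsg.Agent.S3784

/-- for odd `x`, `x^(2k+1)+1 = (x+1) T` with `T` odd -/
theorem odd_cofactor (x : ℤ) (hx : Odd x) : ∀ k : ℕ, ∃ T : ℤ, Odd T ∧ x ^ (2 * k + 1) + 1 = (x + 1) * T := by
  intro k
  induction k with
  | zero => exact ⟨1, odd_one, by ring⟩
  | succ k ih =>
    obtain ⟨T, hT, hTe⟩ := ih
    refine ⟨x ^ 2 * T - (x - 1), ?_, ?_⟩
    · apply Odd.sub_even
      · exact (hx.pow).mul hT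
      · exact hx.sub_odd odd_one
    · have : x ^ (2 * (k + 1) + 1) = x ^ 2 * x ^ (2 * k + 1) := by ring
      rw [this]
      have h2 : x ^ (2 * k + 1) = (x + 1) * T - 1 := by linarith
      rw [h2]; ring

/-- an odd integer dividing a power of two, positive, is one -/
theorem odd_dvd_two_pow (T : ℤ) (hT : Odd T) (hpos : 0 < T) (n : ℕ) (hd : T ∣ (2 : ℤ) ^ n) : T = 1 := by
  have h1 : T.natAbs ∣ 2 ^ n := by
    have := Int.natAbs_dvd_natAbs.2 hd
    simpa [Int.natAbs_pow] using this
  obtain ⟨j, _, hj2⟩ := (Nat.dvd_prime_pow Nat.prime_two).1 h1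
  have hodd : Odd T.natAbs := Int.natAbs_odd.2 hT
  have hj0 : j = 0 := by
    by_contra hne
    rw [hj2] at hodd
    have : Even (2 ^ j) := (Nat.even_pow.2 ⟨even_two, hne⟩)
    exact (Nat.not_even_iff_odd.2 hodd) this
  rw [hj0, pow_zero] at hj2
  have : T = (T.natAbs : ℤ) := (Int.natAbs_of_nonneg hpos.le).symm
  rw [this, hj2]; rfl

theorem result (p q a b : ℕ) (hp : p.Prime) (hq : q.Prime) (ha : 1 ≤ a) (hb : 1 ≤ b) (h : p ^ a = q ^ b + 1) : (p = 2 ∧ b = 1 ∧ a.Prime ∧ q + 1 = 2 ^ a) ∨ (q = 2 ∧ a = 1 ∧ (∃ m : ℕ, b = 2 ^ m) ∧ p = 2 ^ b + 1) ∨ (p ^ a = 9 ∧ q ^ b = 8) := by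
  have ha0 : a ≠ 0 := by omega
  have hb0 : b ≠ 0 := by omega
  rcases hp.eq_two_or_odd' with hp2 | hpodd
  · -- p = 2
    subst hp2
    rcases hq.eq_two_or_odd' with hq2 | hqodd
    · subst hq2
      exfalso
      have h1 : Even (2 ^ a) := Nat.even_pow.2 ⟨even_two, ha0⟩
      have h2 : Even (2 ^ b) := Nat.even_pow.2 ⟨even_two, hb0⟩
      rw [h] at h1
      have : Odd (2 ^ b + 1) := h2.add_one
      exact (Nat.not_even_iff_odd.2 this) h1
    · left
      -- b = 1
      have hb1 : b = 1 := by
        rcases Nat.even_or_odd b with hbe | hbo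
        · exfalso
          -- q^b ≡ 1 mod 4
          obtain ⟨c, hc⟩ := hbe
          have hq2 : q ^ b = (q ^ c) ^ 2 := by rw [hc, ← two_mul, mul_comm, pow_mul]
          have hqc : Odd (q ^ c) := hqodd.pow
          obtain ⟨m, hm⟩ := hqc
          have h4 : (q ^ b + 1) % 4 = 2 := by
            rw [hq2, hm]
            have : (2 * m + 1) ^ 2 + 1 = 4 * (m * m + m) + 2 := by ring
            rw [this]; omega
          rw [← h] at h4
          have ha1 : a = 1 := by
            by_contra hne
            have : 2 ≤ a := by omega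
            obtain ⟨d, rfl⟩ := Nat.exists_eq_add_of_le this
            rw [pow_add] at h4
            omega
          subst ha1
          have : q ^ b = 1 := by omega
          have hq1 : 1 < q := hq.one_lt
          have := Nat.one_lt_pow hb0 hq1
          omega
        · obtain ⟨k, hk⟩ := hbo
          obtain ⟨T, hT, hTe⟩ := odd_cofactor (q : ℤ) (by exact_mod_cast hqodd) k
          rw [← hk] at hTe
          have hz : ((2 : ℤ)) ^ a = (q : ℤ) ^ b + 1 := by exact_mod_cast h
          rw [← hz] at hTe
          have hq0 : (0 : ℤ) < (q : ℤ) + 1 := by positivity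
          have hTpos : 0 < T := by
            by_contra hneg
            replace hneg := not_lt.1 hneg
            have : ((q : ℤ) + 1) * T ≤ 0 := mul_nonpos_of_nonneg_of_nonpos hq0.le hneg
            rw [← hTe] at this
            have : (0 : ℤ) < 2 ^ a := by positivity
            linarith
          have hT1 : T = 1 := odd_dvd_two_pow T hT hTpos a ⟨(q : ℤ) + 1, by rw [hTe]; ring⟩
          rw [hT1, mul_one] at hTe
          have : (2 : ℕ) ^ a = q + 1 := by exact_mod_cast hTe
          rw [this] at h
          have hqq : q ^ b = q ^ 1 := by rw [pow_one]; omega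
          exact Nat.pow_right_injective hq.two_le hqq
      subst hb1
      rw [pow_one] at h
      have ha1 : a ≠ 1 := by
        rintro rfl
        have : q = 1 := by omega
        exact hq.one_lt.ne' this
      have hqe : q = 2 ^ a - 1 := by omega
      have := Nat.prime_of_pow_sub_one_prime ha1 (hqe ▸ hq)
      exact ⟨rfl, rfl, this.2, h.symm⟩
  · -- p odd
    rcases hq.eq_two_or_odd' with hq2 | hqodd
    · subst hq2
      right
      rcases Nat.even_or_odd a with hae | hao
      · right
        obtain ⟨c, hc⟩ := hae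
        have hc0 : c ≠ 0 := by omega
        have hpa : p ^ a = (p ^ c) ^ 2 := by rw [hc, ← two_mul, mul_comm, pow_mul]
        set P := p ^ c with hP
        have hP2 : 2 ≤ P := by
          have := Nat.one_lt_pow hc0 hp.one_lt
          omega
        have hfac : (P - 1) * (P + 1) = 2 ^ b := by
          have : (P - 1) * (P + 1) = P ^ 2 - 1 := by
            obtain ⟨r, hr⟩ := Nat.exists_eq_add_of_le hP2
            rw [hr]
            have : 2 + r - 1 = r + 1 := by omega
            rw [this]
            have : (2 + r) ^ 2 = (r + 1) * (2 + r + 1) + 1 := by ring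
            rw [this]; simp
          rw [this, ← hpa, h]; simp
        have hd1 : P - 1 ∣ 2 ^ b := ⟨P + 1, hfac.symm⟩
        have hd2 : P + 1 ∣ 2 ^ b := ⟨P - 1, by rw [← hfac]; ring⟩
        obtain ⟨i, _, hi⟩ := (Nat.dvd_prime_pow Nat.prime_two).1 hd1
        obtain ⟨j, _, hj⟩ := (Nat.dvd_prime_pow Nat.prime_two).1 hd2
        have hij : 2 ^ j = 2 ^ i + 2 := by omega
        have hi1 : i = 1 := by
          rcases Nat.lt_or_ge i 1 with hi0 | hi1
          · have : i = 0 := by omega
            subst this
            have h3 : 2 ^ j = 3 := by simpa using hij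
            have : j ≠ 0 := by rintro rfl; simp at h3
            have : Even (2 ^ j) := Nat.even_pow.2 ⟨even_two, this⟩
            rw [h3] at this
            exact absurd this (by decide)
          · rcases Nat.lt_or_ge 1 i with hi2 | hi2
            · exfalso
              obtain ⟨d, rfl⟩ := Nat.exists_eq_add_of_le hi2
              have hj2 : 2 ≤ j := by
                by_contra hlt
                replace hlt := not_le.1 hlt
                have : 2 ^ j ≤ 2 ^ 1 := Nat.pow_le_pow_right (by norm_num) (by omega)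
                have : 2 ^ (1 + 1 + d) ≥ 2 ^ 2 := Nat.pow_le_pow_right (by norm_num) (by omega)
                omega
              obtain ⟨e, rfl⟩ := Nat.exists_eq_add_of_le hj2
              rw [pow_add, pow_add (2 : ℕ) (1 + 1) d] at hij
              omega
            · omega
        subst hi1
        have hP3 : P = 3 := by omega
        have : 2 ^ b = 8 := by rw [← hfac, hP3]
        refine ⟨by rw [hpa, hP3]; norm_num, this⟩
      · left
        obtain ⟨k, hk⟩ := hao
        obtain ⟨T, hT, hTe⟩ := odd_cofactor (-(p : ℤ)) (by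
          have : Odd (p : ℤ) := by exact_mod_cast hpodd
          exact this.neg) k
        rw [← hk] at hTe
        have hodd_a : Odd a := ⟨k, hk⟩
        rw [Odd.neg_pow hodd_a] at hTe
        have hz : ((p : ℤ)) ^ a = (2 : ℤ) ^ b + 1 := by exact_mod_cast h
        have hTe' : (2 : ℤ) ^ b = ((p : ℤ) - 1) * T := by
          have : -((p : ℤ)) ^ a + 1 = (-(p : ℤ) + 1) * T := hTe
          rw [hz] at this
          linarith
        have hp1 : (0 : ℤ) < (p : ℤ) - 1 := by
          have : (1 : ℤ) < p := by exact_mod_cast hp.one_lt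
          linarith
        have hTpos : 0 < T := by
          by_contra hneg
          replace hneg := not_lt.1 hneg
          have : ((p : ℤ) - 1) * T ≤ 0 := mul_nonpos_of_nonneg_of_nonpos hp1.le hneg
          rw [← hTe'] at this
          have : (0 : ℤ) < 2 ^ b := by positivity
          linarith
        have hT1 : T = 1 := odd_dvd_two_pow T hT hTpos b ⟨(p : ℤ) - 1, by rw [hTe']; ring⟩
        rw [hT1, mul_one] at hTe'
        have hpp : (p : ℤ) ^ a = (p : ℤ) ^ 1 := by rw [hz, hTe']; ring
        have hpp' : p ^ a = p ^ 1 := by exact_mod_cast hpp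
        have ha1 : a = 1 := Nat.pow_right_injective hp.two_le hpp'
        subst ha1
        rw [pow_one] at h
        refine ⟨rfl, rfl, ?_, h⟩
        exact Nat.pow_of_pow_add_prime (by norm_num) hb0 (h ▸ hp)
    · exfalso
      have h1 : Odd (p ^ a) := hpodd.pow
      have h2 : Odd (q ^ b) := hqodd.pow
      rw [h] at h1
      have : Even (q ^ b + 1) := h2.add_one
      exact (Nat.not_even_iff_odd.2 h1) this

end Cfsg.Agent.S3784
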