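import Cfsg.Statements.S0635
import Cfsg.Agent.Lib.Helper63.PLength
import Cfsg.Agent.Lib.Helper76.PSolvable
import Cfsg.Agent.Lib.Helper30.PPrimeCore
import Cfsg.Agent.Lib.Helper32.PPrimeP
import Cfsg.Agent.Lib.Helper11.Quad

set_option autoImplicit false
open Cfsg

namespace Cfsg.Agent.S0635

open Cfsg.Agent.Lib.Helper63 Cfsg.Agent.Lib.Helper76 Cfsg.Agent.Lib.Helper30

universe u

/-- The center of a Sylow `p`-subgroup of a `p`-solvable group lies in `O_{p',p}(G)`. -/
theorem center_sylow_le {G : Type*} [Group G] [Finite G] {p : ℕ} [Fact p.Prime]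
    (hsol : IsPSolvable p G) (S : Sylow p G) (z : G)
    (hz : ∀ s ∈ (S : Subgroup G), s * z = z * s) : z ∈ pPrimePCore p G := by
  show (QuotientGroup.mk' (pPrimeCore p G)) z ∈ pCore p (G ⧸ pPrimeCore p G)
  have hHH := centralizer_pCore_le_of_isPSolvable
    (isPSolvable_quotient (pPrimeCore p G) hsol) (pPrimeCore_quotient_eq_bot p)
  apply hHH
  rw [Subgroup.mem_centralizer_iff]
  intro y hy
  have hy' : y ∈ ((S.mapSurjective (QuotientGroup.mk'_surjective (pPrimeCore p G)) :
      Sylow p (G ⧸ pPrimeCore p G)) : Subgroup (G ⧸ pPrimeCore p G)) :=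
    Cfsg.Agent.Lib.Helper11.pCore_le_sylow _ hy
  rw [Sylow.coe_mapSurjective] at hy'
  obtain ⟨s, hs, rfl⟩ := hy'
  rw [← map_mul, ← map_mul, hz s hs]

/-- Lift a `p`-series of `G / O_{p',p}(G)` to `G`. -/
def liftSeries {G : Type*} [Group G] (O U : Subgroup G) [U.Normal] (N' : ℕ → Subgroup (G ⧸ U)) :
    ℕ → Subgroup G
  | 0 => ⊥
  | 1 => O
  | (j + 2) => (N' j).comap (QuotientGroup.mk' U)

theorem isPSeries_liftSeries {G : Type*} [Group G] [Finite G] {p : ℕ} [Fact p.Prime]
    [hn : (pPrimePCore p G).Normal]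
    (N' : ℕ → Subgroup (G ⧸ pPrimePCore p G)) (hN' : IsPSeries p N') :
    IsPSeries p (liftSeries (pPrimeCore p G) (pPrimePCore p G) N') := by
  refine ⟨rfl, ?_, ?_, ?_⟩
  · intro i
    match i with
    | 0 => exact (inferInstance : (⊥ : Subgroup G).Normal)
    | 1 => exact (inferInstance : (pPrimeCore p G).Normal)
    | (j + 2) => exact (hN'.2.1 j).comap _
  · intro i hi
    match i with
    | 0 =>
      intro x hx
      refine ⟨Nat.card (pPrimeCore p G), pPrimeCore_card_coprime p, ?_⟩
      have hx' : x ∈ pPrimeCore p G := hx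
      have h1 : (⟨x, hx'⟩ : pPrimeCore p G) ^ Nat.card (pPrimeCore p G) = 1 := pow_card_eq_one'
      have h2 := congrArg Subtype.val h1
      simp only [Subgroup.coe_pow, Subgroup.coe_one] at h2
      show x ^ _ ∈ (⊥ : Subgroup G)
      rw [Subgroup.mem_bot]; exact h2
    | 1 => exact absurd hi (by decide)
    | (j + 2) =>
      have hj : Even j := by
        rcases hi with ⟨k, hk⟩
        exact ⟨k - 1, by omega⟩
      intro x hx
      obtain ⟨n, hn, hxn⟩ := hN'.2.2.1 j hj _ hx
      refine ⟨n, hn, ?_⟩
      show (QuotientGroup.mk' _) (x ^ n) ∈ N' j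
      rw [map_pow]; exact hxn
  · intro i hi
    match i with
    | 0 => exact absurd (by decide : Even 0) hi
    | 1 =>
      intro x hx
      have hx' : (QuotientGroup.mk' (pPrimePCore p G)) x ∈ N' 0 := hx
      rw [hN'.1, Subgroup.mem_bot, QuotientGroup.mk'_apply, QuotientGroup.eq_one_iff] at hx'
      have hx2 : (QuotientGroup.mk' (pPrimeCore p G)) x ∈ pCore p (G ⧸ pPrimeCore p G) := hx'
      obtain ⟨m, hm⟩ := pCore_isPGroup' p (G ⧸ pPrimeCore p G) ⟨_, hx2⟩
      refine ⟨m, ?_⟩
      have h2 := congrArg Subtype.val hm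
      simp only [Subgroup.coe_pow, Subgroup.coe_one] at h2
      rw [← map_pow] at h2
      show x ^ (p ^ m) ∈ pPrimeCore p G
      exact (QuotientGroup.eq_one_iff _).1 h2
    | (j + 2) =>
      have hj : ¬ Even j := by
        intro hj
        apply hi
        rcases hj with ⟨k, hk⟩
        exact ⟨k + 1, by omega⟩
      intro x hx
      obtain ⟨m, hxm⟩ := hN'.2.2.2 j hj _ hx
      refine ⟨m, ?_⟩
      show (QuotientGroup.mk' _) (x ^ (p ^ m)) ∈ N' j
      rw [map_pow]; exact hxm

theorem main (p : ℕ) [Fact p.Prime] (c : ℕ) : ∀ (G : Type u) [Group G] [Finite G],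
    IsPSolvable p G → ∀ S : Sylow p G, Group.nilpotencyClass ↥(S : Subgroup G) ≤ c →
      PLengthLE p c G := by
  induction c with
  | zero =>
    intro G _ _ hsol S hS
    have : Group.IsNilpotent ↥(S : Subgroup G) := S.isPGroup'.isNilpotent
    have h0 : Group.nilpotencyClass ↥(S : Subgroup G) = 0 := Nat.le_zero.mp hS
    rw [Group.nilpotencyClass_zero_iff_subsingleton] at h0
    have hcop : (Nat.card G).Coprime p := by
      have h1 : Nat.card (S : Subgroup G) = 1 := Nat.card_unique
      have h2 := Subgroup.card_mul_index (S : Subgroup G)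
      rw [h1, one_mul] at h2
      rw [← h2, Nat.coprime_comm, Nat.Prime.coprime_iff_not_dvd Fact.out]
      exact S.not_dvd_index
    rw [pLengthLE_iff]
    refine ⟨fun i => if i = 0 then ⊥ else ⊤, ⟨by simp, ?_, ?_, ?_⟩, by simp⟩
    · intro i
      by_cases hi : i = 0
      · simp only [hi, if_true]; infer_instance
      · simp only [hi, if_false]; infer_instance
    · intro i _ x _
      by_cases hi : i = 0
      · refine ⟨Nat.card G, hcop, ?_⟩
        simp only [hi, if_true]
        rw [Subgroup.mem_bot]; exact pow_card_eq_one'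
      · refine ⟨1, Nat.coprime_one_left p, ?_⟩
        simp only [hi, if_false]; trivial
    · intro i hi x _
      have hi0 : i ≠ 0 := by
        rintro rfl; exact hi (by decide)
      refine ⟨0, ?_⟩
      simp only [hi0, if_false]; trivial
  | succ c ih =>
    intro G _ _ hsol S hS
    have hnil : Group.IsNilpotent ↥(S : Subgroup G) := S.isPGroup'.isNilpotent
    have hU2n : (pPrimePCore p G).Normal := Cfsg.Agent.Lib.Helper32.pPrimePCore_normal p G
    have hπ : Function.Surjective (QuotientGroup.mk' (pPrimePCore p G)) :=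
      QuotientGroup.mk'_surjective _
    have hsol' : IsPSolvable p (G ⧸ pPrimePCore p G) := isPSolvable_quotient _ hsol
    have hcl : Group.nilpotencyClass
        ↥((S.mapSurjective hπ : Sylow p (G ⧸ pPrimePCore p G)) : Subgroup (G ⧸ pPrimePCore p G)) ≤ c := by
      let f : ↥(S : Subgroup G) →* ↥((S : Subgroup G).map (QuotientGroup.mk' (pPrimePCore p G))) :=
        (QuotientGroup.mk' (pPrimePCore p G)).subgroupMap (S : Subgroup G)
      have hf : Function.Surjective f := MonoidHom.subgroupMap_surjective _ _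
      have hker : Subgroup.center ↥(S : Subgroup G) ≤ f.ker := by
        intro z hz
        rw [MonoidHom.mem_ker]
        apply Subtype.ext
        show (QuotientGroup.mk' (pPrimePCore p G)) (z : G) = 1
        rw [QuotientGroup.mk'_apply, QuotientGroup.eq_one_iff]
        apply center_sylow_le hsol S z
        intro s hs
        have := Subgroup.mem_center_iff.mp hz ⟨s, hs⟩
        exact congrArg Subtype.val this
      have hg : Function.Surjective (QuotientGroup.lift _ f hker) := by
        intro y
        obtain ⟨x, rfl⟩ := hf y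
        exact ⟨QuotientGroup.mk x, rfl⟩
      have h1 := Group.nilpotencyClass_le_of_surjective (QuotientGroup.lift _ f hker) hg
      rw [Group.nilpotencyClass_quotient_center] at h1
      exact h1.trans (by omega)
    obtain ⟨N', hN', htop⟩ := pLengthLE_iff.1 (ih (G ⧸ pPrimePCore p G) hsol' _ hcl)
    rw [pLengthLE_iff]
    refine ⟨liftSeries (pPrimeCore p G) (pPrimePCore p G) N', isPSeries_liftSeries N' hN', ?_⟩
    show (N' (2 * c + 1)).comap (QuotientGroup.mk' (pPrimePCore p G)) = ⊤
    rw [htop]; rfl

/-- The p-length of a p-soluble group is at most the nilpotency class of its Sylow p-subgroups. -/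
theorem result {G : Type*} [Group G] [Finite G] {p : ℕ} [Fact p.Prime] (hsol : Cfsg.IsPSolvable p G) (S : Sylow p G) : Cfsg.PLengthLE p (Group.nilpotencyClass ↥(S : Subgroup G)) G := by
  exact main p _ G hsol S le_rfl

end Cfsg.Agent.S0635
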