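import Cfsg.Statements.S5084
import Cfsg.Agent.Lib.Helper87.Alperin
import Cfsg.Agent.Lib.Helper87.NormalizerSystem

set_option autoImplicit false
open Cfsg

namespace Cfsg.Agent.S5084

open Cfsg.FusionSystem Cfsg.Agent.Lib.Helper87

variable {Ω : Type*} [Group Ω] {S : Subgroup Ω}

/-- The extension property defining centrality, for a single map. -/
def ExtFix (F : Cfsg.FusionSystem S) (Q P : Subgroup Ω) (φ : P →* Ω) : Prop :=
  ∃ ψ ∈ F.Hom (P ⊔ Q), (∀ x : P, ψ (Subgroup.inclusion le_sup_left x) = φ x) ∧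
    ∀ x : Q, ψ (Subgroup.inclusion le_sup_right x) = x

theorem extFix_of_alpGen [Finite S] (p : ℕ) [Fact p.Prime] (F : Cfsg.FusionSystem S)
    {Q : Subgroup Ω} (hQS : Q ≤ S)
    (hfix : ∀ x ∈ Q, ∀ y : Ω, F.IsConjElt x y → y = x)
    (P : Subgroup Ω) (φ : P →* Ω) (h : AlpGen F p P φ) : ExtFix F Q P φ := by
  -- `Q` is central in `S`
  have hQZ : ∀ x ∈ Q, ∀ s ∈ S, s * x * s⁻¹ = x := by
    intro x hx s hs
    apply hfix x hx
    have hle : Subgroup.zpowers x ≤ S := by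
      rw [Subgroup.zpowers_le]; exact hQS hx
    exact ⟨_, F.conj_mem hle hs, rfl⟩
  induction h with
  | @aut P R hR α hα hPR =>
    have hRS : R ≤ S := hR.1.1
    have hQR : Q ≤ R := by
      intro x hx
      apply hR.2.2.1.2 R (isConj_refl F hRS)
      refine ⟨hQS hx, ?_⟩
      intro r hr
      have := hQZ x hx r (hRS hr)
      calc r * x = (r * x * r⁻¹) * r := by group
        _ = x * r := by rw [this]
    have hα' := (mem_autGroup_iff F hRS α).mp hα
    have hle : P ⊔ Q ≤ R := sup_le hPR hQR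
    refine ⟨_, restrict_mem F hα' hle, fun x => rfl, fun x => ?_⟩
    have hxR : (x : Ω) ∈ R := hQR x.2
    have hzle : Subgroup.zpowers (x : Ω) ≤ R := by
      rw [Subgroup.zpowers_le]; exact hxR
    have := hfix x x.2 ((α ⟨x, hxR⟩ : R) : Ω) ⟨_, restrict_mem F hα' hzle, rfl⟩
    exact this
  | @comp P Q' φ ψ hφ hψ hmaps ihφ ihψ =>
    obtain ⟨φ', hφ', hφ'e, hφ'Q⟩ := ihφ
    obtain ⟨ψ', hψ', hψ'e, hψ'Q⟩ := ihψ
    have hmaps' : ∀ z : ↥(P ⊔ Q), φ' z ∈ Q' ⊔ Q := by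
      have := forall_sup_of_subgroup (P := P) (Q := Q) ((Q' ⊔ Q).comap φ') ?_ ?_
      · intro z; exact this z
      · intro x hx
        show φ' _ ∈ Q' ⊔ Q
        have := hφ'e ⟨x, hx⟩
        have e : (⟨x, (le_sup_left : P ≤ P ⊔ Q) hx⟩ : ↥(P ⊔ Q)) =
            Subgroup.inclusion le_sup_left (⟨x, hx⟩ : P) := rfl
        rw [e, this]
        exact (le_sup_left : Q' ≤ Q' ⊔ Q) (hmaps _)
      · intro x hx
        show φ' _ ∈ Q' ⊔ Q
        have := hφ'Q ⟨x, hx⟩
        have e : (⟨x, (le_sup_right : Q ≤ P ⊔ Q) hx⟩ : ↥(P ⊔ Q)) =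
            Subgroup.inclusion le_sup_right (⟨x, hx⟩ : Q) := rfl
        rw [e, this]
        exact (le_sup_right : Q ≤ Q' ⊔ Q) hx
    obtain ⟨χ, hχ, hχe⟩ := comp_mem' F hφ' hψ' hmaps'
    refine ⟨χ, hχ, fun x => ?_, fun x => ?_⟩
    · rw [hχe]
      have e : (⟨φ' (Subgroup.inclusion le_sup_left x), hmaps' _⟩ : ↥(Q' ⊔ Q)) =
          Subgroup.inclusion le_sup_left (⟨φ x, hmaps x⟩ : Q') := by
        apply Subtype.ext
        exact hφ'e x
      rw [e, hψ'e]
      rfl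
    · rw [hχe]
      have e : (⟨φ' (Subgroup.inclusion le_sup_right x), hmaps' _⟩ : ↥(Q' ⊔ Q)) =
          Subgroup.inclusion le_sup_right x := by
        apply Subtype.ext
        exact hφ'Q x
      rw [e, hψ'Q]

/-- In a saturated fusion system over a finite p-group S, a subgroup Q is central in the system if and only if Q ≤ S and no element of Q is conjugate in the system to any element other than itself. -/
theorem result {Ω : Type*} [Group Ω] {S : Subgroup Ω} [Finite S] (p : ℕ) [Fact p.Prime] (hS : IsPGroup p S) (F : Cfsg.FusionSystem S) (hF : F.IsSaturated p) (Q : Subgroup Ω) : F.IsCentral Q ↔ (Q ≤ S ∧ ∀ x ∈ Q, ∀ y : Ω, F.IsConjElt x y → y = x) := by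
  constructor
  · rintro ⟨hQS, hext⟩
    refine ⟨hQS, ?_⟩
    rintro x hx y ⟨φ, hφ, rfl⟩
    obtain ⟨ψ, -, hψe, hψQ⟩ := hext _ φ hφ
    rw [← hψe]
    have := hψQ ⟨x, hx⟩
    exact this
  · rintro ⟨hQS, hfix⟩
    refine ⟨hQS, fun P φ hφ => ?_⟩
    exact extFix_of_alpGen p F hQS hfix P φ (alperin hS F hF P φ hφ)

end Cfsg.Agent.S5084
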