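import Cfsg.Statements.S5144
import Cfsg.Agent.Lib.Helper87.NormalizerSystem

set_option autoImplicit false
open Cfsg

namespace Cfsg.Agent.S5144

open Cfsg.Agent.Lib.Helper87 Cfsg.FusionSystem

variable {Ω : Type*} [Group Ω] {S : Subgroup Ω}

theorem isCentral_bot (F : FusionSystem S) : F.IsCentral ⊥ := by
  refine ⟨bot_le, fun P φ hφ => ?_⟩
  have hle : P ⊔ ⊥ ≤ P := by simp
  refine ⟨φ.comp (Subgroup.inclusion hle), restrict_mem F hφ hle, fun x => ?_, ?_⟩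
  · show φ _ = φ x
    congr 1
  · intro x
    have hx1 : x = 1 := Subtype.ext (Subgroup.mem_bot.mp x.2)
    rw [hx1]
    simp

theorem isCentral_sup (F : FusionSystem S) {Q₁ Q₂ : Subgroup Ω} (h₁ : F.IsCentral Q₁)
    (h₂ : F.IsCentral Q₂) : F.IsCentral (Q₁ ⊔ Q₂) := by
  refine ⟨sup_le h₁.1 h₂.1, fun P φ hφ => ?_⟩
  obtain ⟨ψ₁, hψ₁, hψ₁e, hψ₁Q⟩ := h₁.2 P φ hφ
  obtain ⟨ψ₂, hψ₂, hψ₂e, hψ₂Q⟩ := h₂.2 (P ⊔ Q₁) ψ₁ hψ₁
  have hle : P ⊔ (Q₁ ⊔ Q₂) ≤ P ⊔ Q₁ ⊔ Q₂ := by rw [sup_assoc]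
  refine ⟨ψ₂.comp (Subgroup.inclusion hle), restrict_mem F hψ₂ hle, fun x => ?_, ?_⟩
  · rw [← hψ₁e x, ← hψ₂e]
    rfl
  · have key : Q₁ ⊔ Q₂ ≤ (ψ₂.eqLocus (P ⊔ Q₁ ⊔ Q₂).subtype).map (P ⊔ Q₁ ⊔ Q₂).subtype := by
      refine sup_le ?_ ?_
      · intro q hq
        refine ⟨⟨q, (le_sup_left : P ⊔ Q₁ ≤ P ⊔ Q₁ ⊔ Q₂) ((le_sup_right : Q₁ ≤ P ⊔ Q₁) hq)⟩, ?_, rfl⟩
        show ψ₂ _ = q
        have h1 := hψ₂e ⟨q, (le_sup_right : Q₁ ≤ P ⊔ Q₁) hq⟩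
        have h2 : ψ₁ ⟨q, (le_sup_right : Q₁ ≤ P ⊔ Q₁) hq⟩ = q := hψ₁Q ⟨q, hq⟩
        rw [h2] at h1
        exact h1
      · intro q hq
        refine ⟨⟨q, (le_sup_right : Q₂ ≤ P ⊔ Q₁ ⊔ Q₂) hq⟩, ?_, rfl⟩
        exact hψ₂Q ⟨q, hq⟩
    intro x
    obtain ⟨y, hy, hyx⟩ := key x.2
    have hy' : ψ₂ y = (y : Ω) := hy
    have : y = Subgroup.inclusion hle (Subgroup.inclusion le_sup_right x) := Subtype.ext hyx
    show ψ₂ (Subgroup.inclusion hle (Subgroup.inclusion le_sup_right x)) = x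
    rw [← this, hy']
    exact hyx

/-- For a fusion system over a finite subgroup S, the centre of the system (the join of all subgroups central in it) is itself central in the system, hence its largest central subgroup. -/
theorem result {Ω : Type*} [Group Ω] {S : Subgroup Ω} [Finite S] (F : Cfsg.FusionSystem S) : F.IsCentral F.center := by
  classical
  let T : Set ℕ := {n | ∃ Q : Subgroup Ω, F.IsCentral Q ∧ n = Nat.card Q}
  have hT : T.Nonempty := ⟨_, ⊥, isCentral_bot F, rfl⟩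
  have hTb : BddAbove T := ⟨Nat.card S, by rintro n ⟨Q, hQ, rfl⟩; exact Subgroup.card_le_of_le hQ.1⟩
  obtain ⟨Q, hQ, hQm⟩ := Nat.sSup_mem hT hTb
  have hmax : ∀ Q' : Subgroup Ω, F.IsCentral Q' → Q' ≤ Q := by
    intro Q' hQ'
    have hsup := isCentral_sup F hQ hQ'
    have hfin : Finite ↥(Q ⊔ Q') :=
      Finite.of_injective (Subgroup.inclusion hsup.1) (Subgroup.inclusion_injective _)
    have hcard : Nat.card ↥(Q ⊔ Q') ≤ Nat.card Q := by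
      rw [← hQm]
      exact le_csSup hTb ⟨_, hsup, rfl⟩
    have heq : Q = Q ⊔ Q' := Subgroup.eq_of_le_of_card_ge le_sup_left hcard
    rw [heq]
    exact le_sup_right
  have hcenter : F.center = Q := by
    apply le_antisymm
    · exact sSup_le fun Q' hQ' => hmax Q' hQ'
    · exact le_sSup hQ
  rw [hcenter]
  exact hQ

end Cfsg.Agent.S5144
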