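import Cfsg.Statements.S5132
import Cfsg.Agent.Lib.Helper87.FusionBasic

set_option autoImplicit false
open Cfsg

namespace Cfsg.Agent.S5132

open Cfsg.Agent.Lib.Helper87 Cfsg.FusionSystem

variable {Ω : Type*} [Group Ω] {S : Subgroup Ω} {Ω' : Type*} [Group Ω']

theorem pre_le (θ : S →* Ω') (P' : Subgroup Ω') : preimageAlong θ P' ≤ S :=
  Subgroup.map_subtype_le _

theorem mem_pre {θ : S →* Ω'} {P' : Subgroup Ω'} {x : Ω} :
    x ∈ preimageAlong θ P' ↔ ∃ hx : x ∈ S, θ ⟨x, hx⟩ ∈ P' := by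
  constructor
  · rintro ⟨s, hs, rfl⟩
    exact ⟨s.2, hs⟩
  · rintro ⟨hx, h⟩
    exact ⟨⟨x, hx⟩, h, rfl⟩

theorem pre_apply_mem (θ : S →* Ω') (P' : Subgroup Ω') (x : preimageAlong θ P') :
    θ ⟨x, pre_le θ P' x.2⟩ ∈ P' := by
  obtain ⟨_, h⟩ := mem_pre.mp x.2
  exact h

section

variable [Finite S] (F : FusionSystem S) (S₀ : Subgroup Ω) (hS₀ : F.StronglyClosed S₀)
  (θ : S →* Ω') (hθ : Function.Surjective θ) (hker : ∀ s : S, θ s = 1 ↔ (s : Ω) ∈ S₀)

include hS₀ hker in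
theorem S₀_le_pre (P' : Subgroup Ω') : S₀ ≤ preimageAlong θ P' := by
  intro x hx
  refine mem_pre.mpr ⟨hS₀.1 hx, ?_⟩
  rw [(hker _).mpr hx]
  exact P'.one_mem

include hS₀ in
/-- a map of `F` whose source contains `S₀` maps `S₀` onto `S₀`. -/
theorem exists_preimage_S₀ {P : Subgroup Ω} (hSP : S₀ ≤ P) {φ : P →* Ω} (hφ : φ ∈ F.Hom P)
    {y : Ω} (hy : y ∈ S₀) : ∃ (x : Ω) (hx : x ∈ S₀), φ ⟨x, hSP hx⟩ = y := by
  have hfin : Finite S₀ :=
    Finite.of_injective (Subgroup.inclusion hS₀.1) (Subgroup.inclusion_injective _)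
  have hmap : ∀ x : S₀, φ ⟨x, hSP x.2⟩ ∈ S₀ := by
    intro x
    have h1 := restrict_mem F hφ hSP
    exact hS₀.2 S₀ le_rfl _ h1 x
  let f : S₀ → S₀ := fun x => ⟨φ ⟨x, hSP x.2⟩, hmap x⟩
  have hf : Function.Injective f := by
    intro a b hab
    have h1 : φ ⟨a, hSP a.2⟩ = φ ⟨b, hSP b.2⟩ := congrArg Subtype.val hab
    have h2 := F.injective_of_mem hφ h1
    have h3 := Subtype.ext_iff.mp h2
    exact Subtype.ext h3
  obtain ⟨x, hx⟩ := (Finite.injective_iff_surjective.mp hf) ⟨y, hy⟩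
  exact ⟨x, x.2, congrArg Subtype.val hx⟩

include hS₀ in
theorem mem_S₀_of_map_mem {P : Subgroup Ω} (hSP : S₀ ≤ P) {φ : P →* Ω} (hφ : φ ∈ F.Hom P)
    (x : P) (hx : φ x ∈ S₀) : (x : Ω) ∈ S₀ := by
  obtain ⟨y, hy, hyx⟩ := exists_preimage_S₀ F S₀ hS₀ hSP hφ hx
  have := F.injective_of_mem hφ hyx
  rw [← this]
  exact hy

/-- the maps of the factor system -/
def factorHomSet (P' : Subgroup Ω') : Set (P' →* Ω') :=
  {φ' | ∃ φ ∈ F.Hom (preimageAlong θ P'), InducedAlong θ φ φ'}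

include hθ in
theorem exists_pre_rep (P' : Subgroup Ω') (a : P') :
    ∃ x : preimageAlong θ P', θ ⟨x, pre_le θ P' x.2⟩ = a := by
  obtain ⟨s, hs⟩ := hθ a
  exact ⟨⟨s, mem_pre.mpr ⟨s.2, by rw [hs]; exact a.2⟩⟩, hs⟩

/-- the factor system -/
def factorSystem : FusionSystem (⊤ : Subgroup Ω') where
  Hom P' := factorHomSet F θ P'
  le_of_mem _ := ⟨le_top, fun _ => Subgroup.mem_top _⟩
  injective_of_mem := by
    rintro P' φ' ⟨φ, hφ, hP, hφS, hP', hind⟩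
    rw [injective_iff_map_eq_one]
    intro a ha
    obtain ⟨x, hx⟩ := exists_pre_rep θ hθ P' a
    have hax : a = ⟨θ ⟨x, hP x.2⟩, hP' x⟩ := Subtype.ext hx.symm
    rw [hax, hind x] at ha
    have h1 : φ x ∈ S₀ := (hker _).mp ha
    have h2 : (x : Ω) ∈ S₀ := mem_S₀_of_map_mem F S₀ hS₀ (S₀_le_pre F S₀ hS₀ θ hker P') hφ x h1
    have h3 : θ ⟨x, hP x.2⟩ = 1 := (hker _).mpr h2
    rw [hax]
    exact Subtype.ext h3
  conj_mem := by
    intro P' g' _ _
    obtain ⟨g, rfl⟩ := hθ g'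
    have hval : ∀ x : preimageAlong θ P', conjHom (preimageAlong θ P') (g : Ω) x ∈ S := fun x =>
      S.mul_mem (S.mul_mem g.2 (pre_le θ P' x.2)) (S.inv_mem g.2)
    refine ⟨conjHom (preimageAlong θ P') (g : Ω), F.conj_mem (pre_le θ P') g.2, pre_le θ P', hval,
      pre_apply_mem θ P', fun x => ?_⟩
    show θ g * θ ⟨x, _⟩ * (θ g)⁻¹ = θ ⟨(g : Ω) * x * (g : Ω)⁻¹, _⟩
    rw [← map_inv, ← map_mul, ← map_mul]
    rfl
  comp_mem := by
    rintro P' Q' φ' ψ' ⟨φ, hφ, hP, hφS, hP', hind⟩ ⟨ψ, hψ, hQ, hψS, hQ', hind'⟩ h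
    have hmaps : ∀ x : preimageAlong θ P', φ x ∈ preimageAlong θ Q' := by
      intro x
      refine mem_pre.mpr ⟨hφS x, ?_⟩
      rw [← hind x]
      exact h _
    refine ⟨ψ.comp (φ.codRestrict _ hmaps), F.comp_mem hφ hψ hmaps, hP, fun x => hψS _, hP',
      fun x => ?_⟩
    show ψ' ⟨φ' ⟨θ ⟨x, _⟩, _⟩, _⟩ = θ ⟨ψ ⟨φ x, _⟩, _⟩
    rw [← hind' ⟨φ x, hmaps x⟩]
    congr 1
    apply Subtype.ext
    exact hind x
  inv_mem := by
    rintro P' φ' ⟨φ, hφ, hP, hφS, hP', hind⟩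
    have hSP := S₀_le_pre F S₀ hS₀ θ hker P'
    have hinj' : Function.Injective φ' := by
      rw [injective_iff_map_eq_one]
      intro a ha
      obtain ⟨x, hx⟩ := exists_pre_rep θ hθ P' a
      have hax : a = ⟨θ ⟨x, hP x.2⟩, hP' x⟩ := Subtype.ext hx.symm
      rw [hax, hind x] at ha
      have h1 : φ x ∈ S₀ := (hker _).mp ha
      have h2 : (x : Ω) ∈ S₀ := mem_S₀_of_map_mem F S₀ hS₀ hSP hφ x h1
      have h3 : θ ⟨x, hP x.2⟩ = 1 := (hker _).mpr h2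
      rw [hax]
      exact Subtype.ext h3
    have hrange : φ.range = preimageAlong θ φ'.range := by
      ext y
      constructor
      · rintro ⟨x, rfl⟩
        refine mem_pre.mpr ⟨hφS x, ?_⟩
        rw [← hind x]
        exact ⟨_, rfl⟩
      · intro hy
        obtain ⟨hyS, a, ha⟩ := mem_pre.mp hy
        obtain ⟨x, hx⟩ := exists_pre_rep θ hθ P' a
        have hax : a = ⟨θ ⟨x, hP x.2⟩, hP' x⟩ := Subtype.ext hx.symm
        rw [hax, hind x] at ha
        -- y * (φ x)⁻¹ ∈ S₀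
        have h1 : y * (φ x)⁻¹ ∈ S₀ := by
          have h2 : θ (⟨y, hyS⟩ * ⟨φ x, hφS x⟩⁻¹) = 1 := by
            rw [map_mul, map_inv, ← ha, mul_inv_cancel]
          exact (hker _).mp h2
        obtain ⟨s, hs, hsy⟩ := exists_preimage_S₀ F S₀ hS₀ hSP hφ h1
        refine ⟨⟨s, hSP hs⟩ * x, ?_⟩
        rw [map_mul, hsy]
        group
    obtain ⟨ψ₀, hψ₀, hinv⟩ := F.inv_mem hφ
    have hψ := cast_mem F hrange hψ₀
    have hsymm : ∀ a : P', (MonoidHom.ofInjective hinj').symm ⟨φ' a, ⟨a, rfl⟩⟩ = a := by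
      intro a
      apply (MonoidHom.ofInjective hinj').injective
      rw [MulEquiv.apply_symm_apply]
      exact Subtype.ext (MonoidHom.ofInjective_apply hinj').symm
    refine ⟨P'.subtype.comp (MonoidHom.ofInjective hinj').symm.toMonoidHom, ?_, ?_⟩
    · refine ⟨_, hψ, pre_le θ _, fun x => (F.le_of_mem hψ₀).2 _, pre_apply_mem θ _, fun y => ?_⟩
      have hy : (y : Ω) ∈ φ.range := by rw [hrange]; exact y.2
      obtain ⟨z, hz⟩ := hy
      have h1 : (⟨θ ⟨y, pre_le θ _ y.2⟩, pre_apply_mem θ _ y⟩ : φ'.range) =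
          ⟨φ' ⟨θ ⟨z, hP z.2⟩, hP' z⟩, ⟨_, rfl⟩⟩ := by
        apply Subtype.ext
        show θ ⟨y, _⟩ = φ' ⟨θ ⟨z, hP z.2⟩, hP' z⟩
        rw [hind z]
        congr 1
        exact Subtype.ext hz.symm
      rw [h1]
      show ((MonoidHom.ofInjective hinj').symm ⟨φ' ⟨θ ⟨z, hP z.2⟩, hP' z⟩, _⟩ : Ω') = _
      rw [hsymm]
      show θ ⟨z, _⟩ = θ ⟨ψ₀ ⟨y, _⟩, _⟩
      congr 1
      apply Subtype.ext
      show (z : Ω) = ψ₀ ⟨y, _⟩
      rw [← hinv z]
      congr 1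
      exact Subtype.ext hz
    · intro a
      show ((MonoidHom.ofInjective hinj').symm ⟨φ' a, _⟩ : Ω') = a
      rw [hsymm]

end

/-- Let F be a fusion system over a finite p-group S and S₀ a subgroup strongly closed in F (so S₀ is normal in S; the normality of S₀ ∩ S in S is supplied as an instance hypothesis so that the quotient can be written). Then the factor system F/S₀ exists: there is a fusion system over S/S₀ whose maps with source a subgroup P' of S/S₀ are exactly the homomorphisms induced along the quotient map by the maps of F whose source is the full preimage of P' in S. -/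
theorem result {Ω : Type*} [Group Ω] {S : Subgroup Ω} [Finite S] (p : ℕ) [Fact p.Prime] (hS : IsPGroup p S) (F : Cfsg.FusionSystem S) (S₀ : Subgroup Ω) (hS₀ : F.StronglyClosed S₀) [(S₀.subgroupOf S).Normal] : ∃ E : Cfsg.FusionSystem (⊤ : Subgroup (S ⧸ S₀.subgroupOf S)), F.IsFactorSystem S₀ (QuotientGroup.mk' (S₀.subgroupOf S)) E := by
  have hθ : Function.Surjective (QuotientGroup.mk' (S₀.subgroupOf S)) := QuotientGroup.mk'_surjective _
  have hker : ∀ s : S, QuotientGroup.mk' (S₀.subgroupOf S) s = 1 ↔ (s : Ω) ∈ S₀ := by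
    intro s
    rw [QuotientGroup.mk'_apply, QuotientGroup.eq_one_iff, Subgroup.mem_subgroupOf]
  refine ⟨factorSystem F S₀ hS₀ _ hθ hker, hS₀.1, hker, ?_, fun P' φ' => ?_⟩
  · exact MonoidHom.range_eq_top.mpr hθ
  · exact ⟨fun h => ⟨le_top, h⟩, fun h => h.2⟩

end Cfsg.Agent.S5132
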