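import Cfsg.Statements.S5133
import Cfsg.Agent.Lib.Helper85.Morphism3

set_option autoImplicit false
open Cfsg

namespace Cfsg.Agent.S5133

open Cfsg.FusionSystem Cfsg.Agent.Lib.Helper87 Cfsg.Agent.Lib.Helper85 Cfsg.Agent.S5132

/-- Let F be a saturated fusion system over a finite p-group S, F' a fusion system over S', and α : S → S' a surjective morphism of fusion systems from F to F' (α maps S onto S' and every map of F' with source P' ≤ S' is induced along α by a map of F on the full preimage of P'). Then F' is saturated. -/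
theorem result {Ω : Type*} [Group Ω] {S : Subgroup Ω} [Finite S] (p : ℕ) [Fact p.Prime] (hS : IsPGroup p S) (F : Cfsg.FusionSystem S) (hF : F.IsSaturated p) {Ω' : Type*} [Group Ω'] {S' : Subgroup Ω'} (F' : Cfsg.FusionSystem S') (α : S →* Ω') (hα : F.IsSurjectiveMorphism F' α) : F'.IsSaturated p := by
  intro P' hP'
  have hrange : α.range = S' := hα.2.1
  have hKsc := kerSub_stronglyClosed hS F F' α hα
  have hPS : preimageAlong α P' ≤ S := pre_le α P'
  have hKP : kerSub α ≤ preimageAlong α P' := kerSub_le_pre α P'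
  obtain ⟨Q, ⟨φ, hφ, hr⟩, hfa, hrec⟩ := hF _ hPS
  have hQ : Q ≤ S := hfa.1
  have hKQ : kerSub α ≤ Q := by
    intro k hk
    obtain ⟨k₀, hk₀, hk₀e⟩ := exists_preimage_S₀ F (kerSub α) hKsc hKP hφ hk
    rw [← hr, ← hk₀e]
    exact ⟨_, rfl⟩
  refine ⟨imageAlong α Q, ?_, isFullyAutomized_image hS F F' α hα hKQ hfa,
    isReceptive_image hS F F' α hα hKQ hfa hrec⟩
  obtain ⟨φ'', hφ'', hP, hφS, hP'', hind⟩ := hα.1.2 _ φ hφ
  have hP'r : P' ≤ α.range := hrange ▸ hP'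
  have heq := im_pre α hP'r
  refine ⟨φ''.comp (Subgroup.inclusion heq.ge), cast_mem F' heq hφ'', ?_⟩
  apply le_antisymm
  · rintro _ ⟨⟨x', hx'⟩, rfl⟩
    obtain ⟨s, rfl⟩ := hP'r hx'
    have hsP : (s : Ω) ∈ preimageAlong α P' := mem_pre.mpr ⟨s.2, hx'⟩
    have h1 := hind ⟨s, hsP⟩
    show φ'' ⟨α s, _⟩ ∈ imageAlong α Q
    rw [mem_im]
    refine ⟨⟨φ ⟨s, hsP⟩, hφS _⟩, ?_, h1.symm⟩
    rw [← hr]
    exact ⟨_, rfl⟩
  · intro y hy
    obtain ⟨t, ht, rfl⟩ := mem_im.mp hy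
    rw [← hr] at ht
    obtain ⟨x, hx⟩ := ht
    have h1 := hind x
    have e1 : (⟨φ x, hφS x⟩ : S) = t := Subtype.ext hx
    rw [e1] at h1
    rw [← h1]
    exact ⟨⟨α ⟨x, hP x.2⟩, heq.le (hP'' x)⟩, rfl⟩

end Cfsg.Agent.S5133
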