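import Cfsg.Statements.S5134
import Cfsg.Agent.Lib.Helper85.ExtMod
import Cfsg.Agent.S5132

set_option autoImplicit false
open Cfsg

namespace Cfsg.Agent.S5134

open Cfsg.FusionSystem Cfsg.Agent.Lib.Helper87 Cfsg.Agent.Lib.Helper85 Cfsg.Agent.S5132

/-- Let F be a saturated fusion system over a finite p-group S, S₀ a subgroup strongly closed in F, and E the factor system of F modulo S₀ read through θ (a homomorphism on S with kernel S₀ and image the group of E). Then θ is a surjective morphism of fusion systems from F onto E: in particular every map of F, and not only the maps whose source contains S₀, induces along θ a map of E. -/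
theorem result {Ω : Type*} [Group Ω] {S : Subgroup Ω} [Finite S] (p : ℕ) [Fact p.Prime] (hS : IsPGroup p S) (F : Cfsg.FusionSystem S) (hF : F.IsSaturated p) (S₀ : Subgroup Ω) (hS₀ : F.StronglyClosed S₀) {Ω' : Type*} [Group Ω'] {S' : Subgroup Ω'} (θ : S →* Ω') (E : Cfsg.FusionSystem S') (hE : F.IsFactorSystem S₀ θ E) : F.IsSurjectiveMorphism E θ := by
  obtain ⟨hS₀S, hker, hrange, hEhom⟩ := hE
  have hθS' : ∀ s : S, θ s ∈ S' := fun s => hrange ▸ ⟨s, rfl⟩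
  refine ⟨⟨hθS', ?_⟩, hrange, fun P' _ φ' hφ' => ((hEhom P' φ').mp hφ').2⟩
  intro P φ hφ
  have hP : P ≤ S := hom_le F hφ
  have hφS : ∀ x, φ x ∈ S := hom_mem_S F hφ
  obtain ⟨ψ, hψ, hψe⟩ := extMod hS F hF hS₀ P φ hφ
  have hPS₀ : P ⊔ S₀ ≤ S := sup_le hP hS₀S
  -- the surjection P → image
  have hfmem : ∀ x : P, θ ⟨x, hP x.2⟩ ∈ imageAlong θ P := fun x =>
    ⟨⟨x, hP x.2⟩, Subgroup.mem_subgroupOf.mpr x.2, rfl⟩
  let f : P →* imageAlong θ P := (θ.comp (Subgroup.inclusion hP)).codRestrict _ hfmem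
  have hf : Function.Surjective f := by
    rintro ⟨y, s, hs, rfl⟩
    exact ⟨⟨s, Subgroup.mem_subgroupOf.mp hs⟩, Subtype.ext rfl⟩
  let g : P →* Ω' := θ.comp (φ.codRestrict S hφS)
  have hkg : f.ker ≤ g.ker := by
    intro x hx
    rw [MonoidHom.mem_ker] at hx ⊢
    have h1 : θ ⟨x, hP x.2⟩ = 1 := congrArg (fun z : imageAlong θ P => (z : Ω')) hx
    have h2 : (x : Ω) ∈ S₀ := (hker _).mp h1
    have h3 : φ x ∈ S₀ := sc_map_mem F hS₀ hφ x h2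
    exact (hker ⟨φ x, hφS x⟩).mpr h3
  let φ' : imageAlong θ P →* Ω' := f.liftOfSurjective hf ⟨g, hkg⟩
  have hφ'f : ∀ x : P, φ' (f x) = θ ⟨φ x, hφS x⟩ := by
    intro x
    exact MonoidHom.liftOfRightInverse_comp_apply _ _ _ ⟨g, hkg⟩ x
  have hind : InducedAlong θ φ φ' := ⟨hP, hφS, hfmem, fun x => hφ'f x⟩
  refine ⟨φ', ?_, hind⟩
  rw [hEhom]
  have himS' : imageAlong θ P ≤ S' := by
    rintro _ ⟨s, -, rfl⟩
    exact hθS' s
  refine ⟨himS', ?_⟩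
  -- the preimage of the image lies in P ⊔ S₀
  have hdecomp : ∀ x ∈ preimageAlong θ (imageAlong θ P), ∃ y : P, (y : Ω)⁻¹ * x ∈ S₀ := by
    intro x hx
    obtain ⟨hxS, s, hs, hsx⟩ := mem_pre.mp hx
    refine ⟨⟨s, Subgroup.mem_subgroupOf.mp hs⟩, ?_⟩
    have : θ (s⁻¹ * ⟨x, hxS⟩) = 1 := by
      rw [map_mul, map_inv, hsx, inv_mul_cancel]
    exact (hker _).mp this
  have hle : preimageAlong θ (imageAlong θ P) ≤ P ⊔ S₀ := by
    intro x hx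
    obtain ⟨y, hy⟩ := hdecomp x hx
    have : x = (y : Ω) * ((y : Ω)⁻¹ * x) := by group
    rw [this]
    exact Subgroup.mul_mem_sup y.2 hy
  have hφ₂ := restrict_mem F hψ hle
  refine ⟨ψ.comp (Subgroup.inclusion hle), hφ₂, pre_le θ _, fun x => hom_mem_S F hφ₂ x,
    fun x => pre_apply_mem θ _ x, fun x => ?_⟩
  obtain ⟨y, hy⟩ := hdecomp x x.2
  -- θ x = θ y
  have hyS : (y : Ω) ∈ S := hP y.2
  have hxS : (x : Ω) ∈ S := pre_le θ _ x.2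
  have hθxy : θ ⟨x, hxS⟩ = θ ⟨y, hyS⟩ := by
    have h1 : θ (⟨y, hyS⟩⁻¹ * ⟨x, hxS⟩) = 1 := (hker _).mpr hy
    rw [map_mul, map_inv] at h1
    exact (inv_mul_eq_one.mp h1).symm
  have e1 : (⟨θ ⟨x, hxS⟩, pre_apply_mem θ _ x⟩ : imageAlong θ P) = f y := Subtype.ext hθxy
  rw [e1, hφ'f]
  -- θ (ψ x) = θ (φ y)
  have hyM : (y : Ω) ∈ P ⊔ S₀ := (le_sup_left : P ≤ P ⊔ S₀) y.2
  have hzM : (y : Ω)⁻¹ * x ∈ P ⊔ S₀ := (le_sup_right : S₀ ≤ P ⊔ S₀) hy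
  have e2 : Subgroup.inclusion hle x = ⟨y, hyM⟩ * ⟨(y : Ω)⁻¹ * x, hzM⟩ := by
    apply Subtype.ext
    show (x : Ω) = (y : Ω) * ((y : Ω)⁻¹ * x)
    group
  have h3 : ψ ⟨(y : Ω)⁻¹ * x, hzM⟩ ∈ S₀ := sc_map_mem F hS₀ hψ _ hy
  have h4 := hψe y
  have e3 : (ψ.comp (Subgroup.inclusion hle)) x =
      φ y * (((φ y)⁻¹ * ψ (Subgroup.inclusion le_sup_left y)) * ψ ⟨(y : Ω)⁻¹ * x, hzM⟩) := by
    show ψ (Subgroup.inclusion hle x) = _
    rw [e2, map_mul]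
    have : (⟨y, hyM⟩ : ↥(P ⊔ S₀)) = Subgroup.inclusion le_sup_left y := rfl
    rw [this]
    group
  have hmem : ((φ y)⁻¹ * ψ (Subgroup.inclusion le_sup_left y)) * ψ ⟨(y : Ω)⁻¹ * x, hzM⟩ ∈ S₀ :=
    S₀.mul_mem h4 h3
  have e4 : (⟨(ψ.comp (Subgroup.inclusion hle)) x, hom_mem_S F hφ₂ x⟩ : S) =
      ⟨φ y, hφS y⟩ * ⟨_, hS₀S hmem⟩ := Subtype.ext e3
  rw [e4, map_mul, (hker ⟨_, hS₀S hmem⟩).mpr hmem, mul_one]

end Cfsg.Agent.S5134
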