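import Cfsg.Statements.S5329
import Cfsg.Agent.Lib.Helper88.CharBiset
import Cfsg.Agent.Lib.Helper88.BisetTransfer
import Cfsg.Agent.Lib.Helper88.Gruen
import Cfsg.Agent.S5144
-- import your own Cfsg.Agent.* helpers here

set_option autoImplicit false
open Cfsg

namespace Cfsg.Agent.S5329

open Cfsg.Agent.Lib.Helper88 Cfsg.Agent.Lib.Helper87 MulAction
open scoped commutatorElement

/-- For a saturated fusion system F over a finite p-group S, the focal subgroup and the derived subgroup of S meet the centre Z(F) of the system in the same subgroup: foc(F) ∩ Z(F) = S′ ∩ Z(F). -/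
theorem result {Ω : Type*} [Group Ω] {S : Subgroup Ω} [Finite S] (p : ℕ) [Fact p.Prime] (hS : IsPGroup p S) (F : Cfsg.FusionSystem S) (hF : F.IsSaturated p) : F.focalSubgroup ⊓ F.center = ⁅(S : Subgroup Ω), (S : Subgroup Ω)⁆ ⊓ F.center := by
  have hZ : F.IsCentral F.center := Cfsg.Agent.S5144.result F
  have hZS : F.center ≤ S := hZ.1
  -- the derived subgroup lies in the focal subgroup
  have hder : ⁅(S : Subgroup Ω), (S : Subgroup Ω)⁆ ≤ F.focalSubgroup := by
    rw [Subgroup.commutator_le]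
    intro a ha b hb
    apply Subgroup.subset_closure
    refine ⟨S, Cfsg.conjHom S b, ⟨a⁻¹, S.inv_mem ha⟩, F.conj_mem le_rfl hb, ?_⟩
    show ⁅a, b⁆ = (a⁻¹)⁻¹ * (b * a⁻¹ * b⁻¹)
    rw [commutatorElement_def]
    group
  apply le_antisymm
  · -- the transfer
    obtain ⟨m, hgen, hstab, n, hcard, hpn⟩ := exists_char_biset hS F hF
    have hn0 : n ≠ 0 := by
      rintro rfl
      exact hpn (dvd_zero p)
    have hne : Nonempty (OrbSum m) := by
      have : 0 < Nat.card (OrbSum m) := by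
        rw [hcard]
        exact Nat.mul_pos (Nat.pos_of_ne_zero hn0) Nat.card_pos
      exact (Nat.card_pos_iff.mp this).1
    obtain ⟨x₀⟩ := hne
    have hidx : (parkStab m x₀).index = n := by
      have h1 := index_parkStab hgen x₀
      rw [hcard] at h1
      exact Nat.eq_of_mul_eq_mul_right Nat.card_pos h1
    -- the focal subgroup lies in the kernel of the transfer
    have hfoc : ∀ y ∈ F.focalSubgroup, ∃ hy : y ∈ S,
        bisetTransfer hgen x₀ (Abelianization.of (G := S)) ⟨y, hy⟩ = 1 := by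
      intro y hy
      refine Subgroup.closure_induction (p := fun y _ => ∃ hy : y ∈ S,
        bisetTransfer hgen x₀ (Abelianization.of (G := S)) ⟨y, hy⟩ = 1) ?_ ?_ ?_ ?_ hy
      · rintro _ ⟨P, φ, x, hφ, rfl⟩
        have hPS := hom_le F hφ
        have hφS := hom_mem_S F hφ
        refine ⟨S.mul_mem (S.inv_mem (hPS x.2)) (hφS x), ?_⟩
        have e : (⟨(x : Ω)⁻¹ * φ x, S.mul_mem (S.inv_mem (hPS x.2)) (hφS x)⟩ : S) =
            (⟨x, hPS x.2⟩ : S)⁻¹ * ⟨φ x, hφS x⟩ := rfl
        rw [e, map_mul, map_inv, bisetTransfer_map F hgen hstab x₀ _ hPS hφ x, inv_mul_cancel]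
      · exact ⟨S.one_mem, map_one _⟩
      · rintro a b _ _ ⟨ha, ha1⟩ ⟨hb, hb1⟩
        refine ⟨S.mul_mem ha hb, ?_⟩
        have e : (⟨a * b, S.mul_mem ha hb⟩ : S) = ⟨a, ha⟩ * ⟨b, hb⟩ := rfl
        rw [e, map_mul, ha1, hb1, one_mul]
      · rintro a _ ⟨ha, ha1⟩
        refine ⟨S.inv_mem ha, ?_⟩
        have e : (⟨a⁻¹, S.inv_mem ha⟩ : S) = (⟨a, ha⟩ : S)⁻¹ := rfl
        rw [e, map_inv, ha1, inv_one]
    rintro z ⟨hz1, hz2⟩
    refine ⟨?_, hz2⟩
    have hzS : z ∈ S := hZS hz2
    obtain ⟨hzS', hz3⟩ := hfoc z hz1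
    -- the value of the transfer on `z`
    have hpow := bisetTransfer_eq_pow hgen x₀ (Abelianization.of (G := S)) ⟨z, hzS⟩ (by
      intro y k s hs
      obtain ⟨Q, ψ, hψ, hD⟩ := inTw_stabilizer hgen y
      obtain ⟨q, hq1, hq2⟩ := (hD _).mp hs
      have hq1' : (q : Ω) = z ^ k := hq1
      have hqZ : (q : Ω) ∈ F.center := by
        rw [hq1']
        exact Subgroup.pow_mem _ hz2 k
      have := central_fix F hZ hψ q hqZ
      apply Subtype.ext
      rw [← hq2, this, hq1']
      rfl)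
    rw [hz3, hidx] at hpow
    -- so the image of `z` in the abelianization is trivial
    obtain ⟨k, hk⟩ := (IsPGroup.iff_orderOf.mp hS) ⟨z, hzS⟩
    have hd1 : orderOf (Abelianization.of (⟨z, hzS⟩ : S)) ∣ n := orderOf_dvd_of_pow_eq_one hpow.symm
    have hd2 : orderOf (Abelianization.of (⟨z, hzS⟩ : S)) ∣ p ^ k := by
      rw [← hk]
      exact orderOf_map_dvd _ _
    have hcop : Nat.Coprime (p ^ k) n :=
      Nat.Coprime.pow_left k ((Nat.Prime.coprime_iff_not_dvd Fact.out).mpr hpn)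
    have h4 : orderOf (Abelianization.of (⟨z, hzS⟩ : S)) = 1 :=
      Nat.Coprime.eq_one_of_dvd (Nat.Coprime.coprime_dvd_left hd2 hcop) hd1
    have h5 : Abelianization.of (⟨z, hzS⟩ : S) = 1 := orderOf_eq_one_iff.mp h4
    have h6 : (⟨z, hzS⟩ : S) ∈ commutator S := by
      rw [← Abelianization.ker_of]
      exact h5
    rw [← Subgroup.map_subtype_commutator]
    exact ⟨⟨z, hzS⟩, h6, rfl⟩
  · exact inf_le_inf_right _ hder

end Cfsg.Agent.S5329
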