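import Cfsg.Statements.S5089
import Cfsg.Agent.Lib.Helper87.NormalChain

set_option autoImplicit false
open Cfsg

namespace Cfsg.Agent.S5089

open Cfsg.FusionSystem Cfsg.Agent.Lib.Helper87

theorem weaklyClosed_bot {Ω : Type*} [Group Ω] {S : Subgroup Ω} (F : Cfsg.FusionSystem S) :
    F.WeaklyClosed (⊥ : Subgroup Ω) := by
  refine ⟨bot_le, fun φ _ => ?_⟩
  apply le_antisymm
  · rintro _ ⟨x, rfl⟩
    have hx : x = 1 := Subtype.ext (Subgroup.mem_bot.mp x.2)
    rw [hx, map_one]
    exact Subgroup.one_mem _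
  · exact bot_le

/-- An abelian strongly closed subgroup is normal in a saturated fusion system. -/
theorem isNormal_of_abelian_stronglyClosed {Ω : Type*} [Group Ω] {S : Subgroup Ω} [Finite S]
    (p : ℕ) [Fact p.Prime] (hS : IsPGroup p S) (F : Cfsg.FusionSystem S) (hF : F.IsSaturated p)
    {Q : Subgroup Ω} (hab : IsMulCommutative Q) (hsc : F.StronglyClosed Q) : F.IsNormal Q := by
  have hwc : F.WeaklyClosed Q := weaklyClosed_of_stronglyClosed F hsc
  apply isNormal_of_weaklyClosed_of_le_alperin hS F hF hwc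
  intro R hR
  let c : ℕ → Subgroup Ω := fun j => if j = 0 then ⊥ else Q
  have hc0 : c 0 = ⊥ := by simp [c]
  have hcs : ∀ j, c (j + 1) = Q := by intro j; simp [c]
  have hcmono : Monotone c := by
    intro a b hab'
    rcases Nat.eq_zero_or_pos a with ha | ha
    · subst ha; rw [hc0]; exact bot_le
    · obtain ⟨a', rfl⟩ : ∃ a', a = a' + 1 := ⟨a - 1, by omega⟩
      obtain ⟨b', rfl⟩ : ∃ b', b = b' + 1 := ⟨b - 1, by omega⟩
      rw [hcs, hcs]
  have hcQ : ∀ j, c j ≤ Q := by
    intro j
    rcases Nat.eq_zero_or_pos j with hj | hj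
    · subst hj; rw [hc0]; exact bot_le
    · obtain ⟨j', rfl⟩ : ∃ j', j = j' + 1 := ⟨j - 1, by omega⟩
      rw [hcs]
  have hQQ : ⁅Q, Q⁆ = ⊥ := by
    rw [eq_bot_iff, Subgroup.commutator_le]
    intro a ha b hb
    rw [Subgroup.mem_bot, commutatorElement_eq_one_iff_mul_comm]
    have := hab.is_comm.comm (⟨a, ha⟩ : Q) ⟨b, hb⟩
    exact congrArg Subtype.val this
  have hccomm : ∀ j, ⁅c (j + 1), Q⁆ ≤ c j := by
    intro j
    rw [hcs, hQQ]
    exact bot_le
  have hcwc : ∀ j, F.WeaklyClosed (c j) := by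
    intro j
    rcases Nat.eq_zero_or_pos j with hj | hj
    · subst hj; rw [hc0]; exact weaklyClosed_bot F
    · obtain ⟨j', rfl⟩ : ∃ j', j = j' + 1 := ⟨j - 1, by omega⟩
      rw [hcs]; exact hwc
  have := le_of_centric_radical hS F hsc c hc0 hcmono hcQ hccomm hcwc hR.2.2.1.1
    (hR.2.2.1.2 R (isConj_refl F hR.2.2.1.1)) hR.2.2.2 1
  rwa [hcs] at this

/-- A saturated fusion system over a finite p-group has a nontrivial subgroup that is normal in the system (O_p(F) ≠ 1) if and only if some nontrivial abelian subgroup is strongly closed in the system. -/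
theorem result {Ω : Type*} [Group Ω] {S : Subgroup Ω} [Finite S] (p : ℕ) [Fact p.Prime] (hS : IsPGroup p S) (F : Cfsg.FusionSystem S) (hF : F.IsSaturated p) : F.core ≠ ⊥ ↔ ∃ Q : Subgroup Ω, Q ≠ ⊥ ∧ IsMulCommutative Q ∧ F.StronglyClosed Q := by
  constructor
  · intro hcore
    have hex : ∃ Q : Subgroup Ω, F.IsNormal Q ∧ Q ≠ ⊥ := by
      by_contra hcon
      push Not at hcon
      apply hcore
      rw [eq_bot_iff]
      apply sSup_le
      intro Q hQ
      rw [hcon Q hQ]
    obtain ⟨Q, hN, hQne⟩ := hex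
    have hfinQ : Finite Q := finite_of_le hN.1
    have hQp : IsPGroup p Q := hS.to_le hN.1
    have hnt : Nontrivial Q := by
      rw [Subgroup.nontrivial_iff_ne_bot]
      exact hQne
    have hZnt : Nontrivial (Subgroup.center Q) := hQp.center_nontrivial
    refine ⟨(Subgroup.center Q).map Q.subtype, ?_, ?_, stronglyClosed_of_char F hN _⟩
    · intro h
      rw [Subgroup.map_eq_bot_iff_of_injective _ Q.subtype_injective] at h
      rw [Subgroup.nontrivial_iff_ne_bot] at hZnt
      exact hZnt h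
    · refine ⟨⟨?_⟩⟩
      rintro ⟨_, a, ha, rfl⟩ ⟨_, b, hb, rfl⟩
      apply Subtype.ext
      show Q.subtype a * Q.subtype b = Q.subtype b * Q.subtype a
      rw [← map_mul, ← map_mul]
      congr 1
      exact (Subgroup.mem_center_iff.mp ha b).symm
  · rintro ⟨Q, hQne, hab, hsc⟩
    have hN := isNormal_of_abelian_stronglyClosed p hS F hF hab hsc
    intro hcore
    apply hQne
    rw [eq_bot_iff, ← hcore]
    exact le_sSup hN

end Cfsg.Agent.S5089
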