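import Cfsg.Statements.S1687
import Cfsg.Agent.Lib.Helper28.Fi22Glue
import Cfsg.Agent.Lib.Helper28.Fi22aChk

set_option autoImplicit false
open Cfsg

namespace Cfsg.Agent.S1687

open Cfsg.Spor Cfsg.Agent.Lib.Helper28

set_option maxRecDepth 100000

noncomputable abbrev cert : Cert := Fi22aData.cert

abbrev subS : Set (FreeGroup Fi22.Gen) := {Fi22.a, Fi22.c, Fi22.d, Fi22.e, Fi22.f, Fi22.g, Fi22.h, Fi22.i, (Fi22.a * Fi22.b * Fi22.c * Fi22.d * Fi22.e * Fi22.h) ^ 5}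

theorem rels_eq : cert.rels = Fi22Glue.relsL := by decide

theorem hsub1 : ∀ s ∈ subS, ∃ w ∈ cert.subs, s = wordF Fi22Glue.genOf w := by
  intro s hs
  simp only [subS, Set.mem_insert_iff, Set.mem_singleton_iff] at hs
  rcases hs with rfl | rfl | rfl | rfl | rfl | rfl | rfl | rfl | rfl
  · exact ⟨[0], by decide, rfl⟩
  · exact ⟨[4], by decide, rfl⟩
  · exact ⟨[6], by decide, rfl⟩
  · exact ⟨[8], by decide, rfl⟩
  · exact ⟨[10], by decide, rfl⟩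
  · exact ⟨[12], by decide, rfl⟩
  · exact ⟨[14], by decide, rfl⟩
  · exact ⟨[16], by decide, rfl⟩
  · exact ⟨[0, 2, 4, 6, 8, 14, 0, 2, 4, 6, 8, 14, 0, 2, 4, 6, 8, 14, 0, 2, 4, 6, 8, 14, 0, 2, 4, 6, 8, 14], by decide, rfl⟩

theorem hsub2 : ∀ w ∈ cert.subs, wordF Fi22Glue.genOf w ∈ subS := by
  intro w hw
  have hw' : w ∈ [[0], [4], [6], [8], [10], [12], [14], [16], [0, 2, 4, 6, 8, 14, 0, 2, 4, 6, 8, 14, 0, 2, 4, 6, 8, 14, 0, 2, 4, 6, 8, 14, 0, 2, 4, 6, 8, 14]] := hw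
  simp only [List.mem_cons, List.not_mem_nil, or_false] at hw'
  rcases hw' with rfl | rfl | rfl | rfl | rfl | rfl | rfl | rfl | rfl
  · exact Or.inl rfl
  · exact Or.inr (Or.inl rfl)
  · exact Or.inr (Or.inr (Or.inl rfl))
  · exact Or.inr (Or.inr (Or.inr (Or.inl rfl)))
  · exact Or.inr (Or.inr (Or.inr (Or.inr (Or.inl rfl))))
  · exact Or.inr (Or.inr (Or.inr (Or.inr (Or.inr (Or.inl rfl)))))
  · exact Or.inr (Or.inr (Or.inr (Or.inr (Or.inr (Or.inr (Or.inl rfl))))))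
  · exact Or.inr (Or.inr (Or.inr (Or.inr (Or.inr (Or.inr (Or.inr (Or.inl rfl)))))))
  · exact Or.inr (Or.inr (Or.inr (Or.inr (Or.inr (Or.inr (Or.inr (Or.inr (rfl))))))))

theorem setup : ∃ φ : PresentedGroup Fi22Glue.relSet →* Equiv.Perm ℕ,
    Setup cert ((Subgroup.closure subS).map (PresentedGroup.mk Fi22Glue.relSet))
      (fun i => PresentedGroup.of (Fi22Glue.genOf i)) φ :=
  presented_setup Fi22Glue.relSet subS cert Fi22Glue.genOf Fi22Glue.idx Fi22Glue.hidx Fi22Glue.hgi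
    (by rw [rels_eq]; exact Fi22Glue.hrel1) (by rw [rels_eq]; exact Fi22Glue.hrel2) hsub1 hsub2
    Fi22aData.chkR2 Fi22aData.facts_ok Fi22aData.pts_ok Fi22aData.chkG

noncomputable abbrev pt (r : ℕ) := psi cert ((Subgroup.closure subS).map (PresentedGroup.mk Fi22Glue.relSet))
  (fun i => PresentedGroup.of (Fi22Glue.genOf i)) r

theorem root0 : cert.ORK 0 = 0 := by decide +kernel
theorem cnt0 : countLab cert.ORB (cert.ORB 0) cert.n = 1 := by decide +kernel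
theorem root1 : cert.ORK 1 = 0 := by decide +kernel
theorem cnt1 : countLab cert.ORB (cert.ORB 1) cert.n = 2816 := by decide +kernel
theorem root7 : cert.ORK 7 = 0 := by decide +kernel
theorem cnt7 : countLab cert.ORB (cert.ORB 7) cert.n = 693 := by decide +kernel

/-- In the presented Fischer group Fi₂₂, let H be the subgroup generated by the images of a, c, d, e, f, g, h, i and (abcdeh)^5. Then H has index 3510, H has orbits of sizes 693 and 2816 on the cosets of H other than H itself. -/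
theorem result : (((Subgroup.closure ({Cfsg.Spor.Fi22.a, Cfsg.Spor.Fi22.c, Cfsg.Spor.Fi22.d, Cfsg.Spor.Fi22.e, Cfsg.Spor.Fi22.f, Cfsg.Spor.Fi22.g, Cfsg.Spor.Fi22.h, Cfsg.Spor.Fi22.i, (Cfsg.Spor.Fi22.a * Cfsg.Spor.Fi22.b * Cfsg.Spor.Fi22.c * Cfsg.Spor.Fi22.d * Cfsg.Spor.Fi22.e * Cfsg.Spor.Fi22.h) ^ 5} : Set (FreeGroup Cfsg.Spor.Fi22.Gen))).map (PresentedGroup.mk (Cfsg.Spor.coxRelators Cfsg.Spor.Fi22.edges ∪ {r | r ∈ Cfsg.Spor.Fi22.extra})))).index = 3510 ∧ ∃ q₁ q₂ : Cfsg.Spor.Fi22 ⧸ (((Subgroup.closure ({Cfsg.Spor.Fi22.a, Cfsg.Spor.Fi22.c, Cfsg.Spor.Fi22.d, Cfsg.Spor.Fi22.e, Cfsg.Spor.Fi22.f, Cfsg.Spor.Fi22.g, Cfsg.Spor.Fi22.h, Cfsg.Spor.Fi22.i, (Cfsg.Spor.Fi22.a * Cfsg.Spor.Fi22.b * Cfsg.Spor.Fi22.c * Cfsg.Spor.Fi22.d * Cfsg.Spor.Fi22.e * Cfsg.Spor.Fi22.h) ^ 5} : Set (FreeGroup Cfsg.Spor.Fi22.Gen))).map (PresentedGroup.mk (Cfsg.Spor.coxRelators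 Cfsg.Spor.Fi22.edges ∪ {r | r ∈ Cfsg.Spor.Fi22.extra})))), (MulAction.orbit (((Subgroup.closure ({Cfsg.Spor.Fi22.a, Cfsg.Spor.Fi22.c, Cfsg.Spor.Fi22.d, Cfsg.Spor.Fi22.e, Cfsg.Spor.Fi22.f, Cfsg.Spor.Fi22.g, Cfsg.Spor.Fi22.h, Cfsg.Spor.Fi22.i, (Cfsg.Spor.Fi22.a * Cfsg.Spor.Fi22.b * Cfsg.Spor.Fi22.c * Cfsg.Spor.Fi22.d * Cfsg.Spor.Fi22.e * Cfsg.Spor.Fi22.h) ^ 5} : Set (FreeGroup Cfsg.Spor.Fi22.Gen))).map (PresentedGroup.mk (Cfsg.Spor.coxRelators Cfsg.Spor.Fi22.edges ∪ {r | r ∈ Cfsg.Spor.Fi22.extra})))) q₁).ncard = 693 ∧ (MulAction.orbit (((Subgroup.closure ({Cfsg.Spor.Fi22.a, Cfsg.Spor.Fi22.c, Cfsg.Spor.Fi22.d, Cfsg.Spor.Fi22.e, Cfsg.Spor.Fi22.f, Cfsg.Spor.Fi22.g, Cfsg.Spor.Fi22.h, Cfsg.Spor.Fi22.i, (Cfsg.Spor.Fi22.a * Cfsg.Spor.Fi22.b * Cfsg.Spor.Fi22.c * Cfsg.Spor.Fi22.d * Cfsg.Spor.Fi22.e * Cfsg.Spor.Fi22.h) ^ 5} : Set (FreeGroup Cfsg.Spor.Fi22.Gen))).map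 (PresentedGroup.mk (Cfsg.Spor.coxRelators Cfsg.Spor.Fi22.edges ∪ {r | r ∈ Cfsg.Spor.Fi22.extra})))) q₂).ncard = 2816 := by
  obtain ⟨φ, hS⟩ := setup
  refine ⟨hS.index_eq, pt 7, pt 1, ?_, ?_⟩
  · rw [hS.orbit_ncard Fi22aData.orb_ok 7 (by decide) root7]; exact cnt7
  · rw [hS.orbit_ncard Fi22aData.orb_ok 1 (by decide) root1]; exact cnt1

end Cfsg.Agent.S1687
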