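import Cfsg.Statements.S0387
import Cfsg.Agent.Lib.Helper7.M12Chain

set_option autoImplicit false
open Cfsg
open scoped Pointwise

namespace Cfsg.Agent.S0387

open Cfsg.Agent.Lib.Helper7

/-- move the base dodecad and base point to any dodecad and point on it -/
theorem exists_transport (d : Finset GolayPt) (hd : d ∈ dodecads) (p : GolayPt) (hp : p ∈ d) :
    ∃ g ∈ M24, g • finOf baseDod = d ∧ g (pt 0) = p := by
  obtain ⟨h, hh, h1⟩ := dodecad_trans (finOf baseDod) d baseDod_mem hd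
  have hq : h⁻¹ p ∈ finOf baseDod := by
    have : h⁻¹ p ∈ h⁻¹ • d := Finset.smul_mem_smul_finset hp
    rwa [← h1, inv_smul_smul] at this
  rw [mem_finOf] at hq
  have hmem : idx (h⁻¹ p) ∈ m12Tr0.map Prod.fst := by
    have : ∀ s < 24, baseDod.testBit s = true → s ∈ m12Tr0.map Prod.fst := by decide +kernel
    exact this _ (idx_lt _) hq
  obtain ⟨τ, hτ, h2⟩ := m12_lower [] 0 m12Tr0 (by decide +kernel) (by decide +kernel)
    (by decide +kernel) _ hmem
  rw [pt_idx] at h2
  have hτ' : τ ∈ stabD baseDod := hτ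
  rw [mem_stabD] at hτ'
  refine ⟨h * τ, M24.mul_mem hh hτ'.1, ?_, ?_⟩
  · rw [mul_smul, hτ'.2, h1]
  · rw [Equiv.Perm.mul_apply, h2]
    simp

/-- The stabiliser of a dodecad and a point on it has order 7920 = 2^4·3^2·5·11. -/
theorem result (d : Finset Cfsg.GolayPt) (hd : d ∈ Cfsg.dodecads) (p : Cfsg.GolayPt) (hp : p ∈ d) : Nat.card ↥(MulAction.stabilizer Cfsg.M24 d ⊓ MulAction.stabilizer Cfsg.M24 p) = 7920 := by
  obtain ⟨g, hg, h1, h2⟩ := exists_transport d hd p hp
  rw [card_stabilizer_subgroup₂', ← h1, ← h2]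
  have := card_inf_stabilizer_smul₂' M24 hg (finOf baseDod) (pt 0)
  rw [Equiv.Perm.smul_def] at this
  rw [this]
  exact card_m12_0

end Cfsg.Agent.S0387
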