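import Cfsg.Statements.S0822
import Cfsg.Agent.Lib.Helper14.SU32Data
import Cfsg.Agent.Lib.Helper5.SympCard
import Cfsg.Agent.Lib.Helper5.SympCenter
import Cfsg.Agent.Lib.Helper5.UnitaryCard
import Cfsg.Agent.Lib.Helper5.SUCard
import Cfsg.Agent.Lib.Helper8.SpPerfect
import Cfsg.Agent.Lib.Helper89.TableChain2
import Cfsg.Agent.Lib.Helper89.DiagIso
import Cfsg.Agent.Lib.Helper89.ClassicalTransfer

set_option autoImplicit false
set_option maxRecDepth 1000000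
open Cfsg

namespace Cfsg.Agent.S0822

open Cfsg.Agent.Lib.Helper14.SU32 (F4c)
open Cfsg.Agent.Lib.Helper89 Cfsg.Agent.Lib.Helper89.DiagIso
open Cfsg.Agent.Lib.Helper89.ClassicalTransfer
open Matrix

/-! ### the diagonal subgroup of `Sp₄(3) × SU₄(2)` -/

instance fact3 : Fact (Nat.Prime 3) := ⟨by norm_num⟩

abbrev G1 := ↥(Matrix.symplecticGroup (Fin 2) (ZMod 3))
abbrev V1 := Fin 2 ⊕ Fin 2 → ZMod 3
abbrev G2 := ↥(Cfsg.SU 4 F4c 2)
abbrev V2 := Fin 4 → F4c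
abbrev GG := G1 × G2
abbrev Pt := SumPt V1 V2

/-- position of an index of `Fin 2 ⊕ Fin 2` -/
def sidx : Fin 2 ⊕ Fin 2 → ℕ
  | Sum.inl i => i.val
  | Sum.inr i => 2 + i.val

/-- the elements of the field with four elements -/
def f4 (n : ℕ) : F4c :=
  match n with
  | 0 => F4c.o
  | 1 => F4c.i
  | 2 => F4c.w
  | _ => F4c.v

/-- a matrix over `ZMod 3` from its code -/
def mat3 (c : ℕ) : Matrix (Fin 2 ⊕ Fin 2) (Fin 2 ⊕ Fin 2) (ZMod 3) :=
  Matrix.of fun r s => (((c >>> (2 * (4 * sidx r + sidx s))) &&& 3 : ℕ) : ZMod 3)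

/-- a matrix over `F4c` from its code -/
def mat4 (c : ℕ) : Matrix (Fin 4) (Fin 4) F4c :=
  Matrix.of fun r s => f4 ((c >>> (2 * (4 * r.val + s.val))) &&& 3)

/-- the vectors of `F₃⁴` -/
def vecN3 (n : ℕ) : V1 := fun s => (((n / 3 ^ (3 - sidx s)) % 3 : ℕ) : ZMod 3)

/-- the vectors of `F₄⁴` -/
def vecN4 (n : ℕ) : V2 := fun i => f4 ((n / 4 ^ (3 - i.val)) % 4)

def codeA (j : ℕ) : ℕ := [2149582850, 542148116, 545260040, 710562196, 1694827560, 1074922497, 1091961857, 1176110081, 1763771432, 2152737089].getD j 0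

def codeB (j : ℕ) : ℕ := [1074791425, 3223323649, 549454849, 1484577793, 1416394753, 1328563785, 2441686680, 3907111191, 919434387, 272630785].getD j 0

def tabC : List ℕ := [
  6948526156252979170554716123621634471811568442860099708624497932542639667168334800035232470204709454066705959047173239047002953684007613632456610282303276496620814192254518838461313525735685696672486085183636144695601579819581759673837883834633268308583944107867844991967092162028160196101736661347174553535333337823600526667579528550856750142509342946835966948731066532116861475324950583756586779574862156346017901902082125722536049378245184270348689328121666550678399717311222172541142720117090089322744591748224155328816423110621008544549921492076371898524471520722705313468229041672074736311883978106782992279050327560203207178323239214057864862951200903772440929267485345826286991070834235916317607525521934212193498720554558837811660550197437678285233087532252239961652192004398429897856646635140652302835447271942925316530129339180552736597401708370223542570236848066224099329008530321492118890559584863232,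
  6762404072264233327542916951719269610147013253338001290116044381125541315816529778655862264905292712103256546753734951515217721547024573635363721779361175372955956677959941704985338059798270458205586042659863959636045186233096095342260922582465125613625740382266489868105407239489899823563885541476134818646347143310570289415087742282562292617921693211047719563460712169026209049105806855377483845545767487575072859341679428811756219066835625325542013448547639786605254032677665244526870348556592783219035902057861439966135595673505439364851790185349994800784993322343554853710952825919322773835712192198796161935629995537895628734746474208930155048815665921723315903773731546815085486028182200247382910589626702343821435904514592635197557089109494415577724718016265427026119527729725605086862278755833090288412413834296933522571058363825026678098361218574640584203777979344345285513723842014085993648609172400640,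
  6824324144275626647124550591391330606475612065217379488821981183415390346629063894004686279907127052102381895149221807879959655982373525866327950457157707114994044849168818100873147091583920137023503609827386634392472324270212821291727230614766758916853147650810993290008143569740416138345244919777857542180371521700412963576581985633683960937179487484196868196512111475930611776432189789524088339418341144910080423791840904466878356737107921929589388880586346996630847377470091788567006189961210817825666740873332952164287381179545095871171581218682514352785926090397746208415938508365771993925955004576711302211489757418903847383827919449217129953538339028226548629321068003887885896009207131992755364436698605819743404784599166674611070072429527752670721062417893832564404418969496420130461717028993473745333392068912375250889424706683259368353046995256157890201876437265373605025599645298924776628145512778752,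
  6905067823303429257828162232160061245491688844632364865730972179736345863657175301342687247484705081714034517525847199714804078401481584673554169539046515615893117219661507870225836487554255681049891966178368928849319497989518569877237327770056971913517998078943930946845999180229497442109927874591305381377866144447473649607792068814004663182887998490697658689703536530524109476730009672845624279440557366959726807916998138256869589602577162724215292403644988532656837431234141354017571145039005342467340524081842676498529149281908039066624121926491720053628411687425574338957341355045583639904719695421058537739690112978909757112574024566379638319161820733330283966828434689422385910068008547654021194130697615593224666316967718805742557813733298916305450186415744414971325667786586098713299839391193171657151850089580334323889607833723664134567022231741012716922508348112807229513366837568249693409268023985152,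
  5708520090679261954593827195343326319381207733371304475541646219211615118589022799683760354687051851117634294270421225339090778635921785857020337543343500335200254025001621448818908932886130968267329424094906429197420844507943466221451979309132114743795083193091484801278294464678112949849525998004605251919663996915498008535035731196733620678194780646947234936359261834259800177542940455530757052126319892349466856672817828958579085833629309316034713489820230963430192233505135003205464512791475158966534095297195455727899757296950474810847461595513771667921452189176683636002552255221830343070728191158209065472597259179820219836102225525726404581089536781583956379077779474553944464425234477029847082827613922080479898296161678183276696700956112083665756015534600213966117067837518339055438270811126479811454447189610686596040791603724899500883342402024410853024841576319859441273021276099235739668449287733760,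
  3553751505014650875379990428231601414157683980015522801367433535422509964286305951323010790404551604707081016351177686258046905204316807184930687655650004171863854799863929421755037352234820284296654701235389494021238044358806040848868833790531243367251868147505998996112692158830624416272446391165553245098992359507244257603712932767878354125585407057639546040697798690035048307968795822026790251227759086111833539520168221072997018486271100062145871962708780257788578092283129276598530911307385647662462376221842633337555191744571283802331852525863379749323341470394911782519404870583939099076252475452221852968192244830358142953412216016596879180934351198931562711783555402772751747533859417212305358525132904420232928626273543056396206785451406332960858919010191268365911522781769653205831501601808886828850321503192382877320266704094511539162929553726847319968669105989792077842970305307086653863345120608768,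
  6570904151800548636278582783496877150479815704014430730119579377131167800153072200264034455898418996869107694811639697287198795433211329861018507707864118504535004763843626907618183510266207564587411809946095669393426687188611060172099773589427531074570852488964099074481000163976026073726075286445849581293456676673978776772576881218715403893051563354496865112989584864607724884720474031958897277694060998371754460519877212547729566004349622271895520155607096326975270071452509542392598474880678241871876913615089534421044545706489334783970992456308333394105547470259584192224032513961285235970727726261772511938996062452759038273351844018501001677550018545496002870653632411013466084634734297237695756659720616404026112413104707353089849826782183385058040772719527741766217648402649839204385653024205917905890171561873361190824237197462410658035482531677997464937772139323966051489315687211527770203897654149632,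
  4365914480766555882455318631505191635820934932786212813154843320129851328532316190781310742814859320356482863111876277165782013962169694859758211331153000920838096536967724950954302248592089140401650373686776483658632599567160747767152394974821721280887236039605579550419175767847464524121738694560666836543942254669937784500767772624952656706708209476774334773853518757388181529325982326966865741833614243846623217267794158947884007097221371865616505736153069324884135978528384303614917374301994531949879078397946182722906058168462545605732468778780910131474111659194957048917106617693441230754327237267527693703447375720080278433407926211986112855636989206822527365679690988758896400702040292366029339798550355388590214954291072364558047088111087698414025728947187414988623530338846370813637370868926337043733731028776151299663591640912898333939767535673646917090987259837573149370614646666600992595114463855104,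
  2590365731525197992702917886038961069976840428459719502641862770920015414990127620507038884934056068421022611187394255897120914379914645028390062257328082448253946249741307271881571186656381007070849220719669235956357049211205173239847670584362236138202449333561266494306296570480662553689199894198271559013159317364256499784823583322248441005738453171269255836228498189856545579353434861420916151751182796983059411210453593426601075759976203822695401374809321715043267050727083921441648246389886810553882208409576936328016945652460761777585561325418170403209524439420368697920493653415979728770177516121004455447982672444244971079632090417805239288593407952685275526936205877714586257070351590542119710232043160037738193992679255295460670979020203777331768203540276005043662469516757357617584215255311533267407316748580142703444850439934490713801212537928754636939741937183104819552988299104805871985012484080128,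
  6948404745741935067111987670626594693089031448925168234268387237169966649652828079717910642509160092775820788358315844328986625265682140140513544322047667064239929687690385336677724516996734513966294923308320667913039326931169663529244044117650985432814754472398092633391922015983665169342300969325149992590966171984350889712137693732447886639054512817301079481822331276196472255812477797719653068506261539745106539960833270757507050566145465670965098330468302677780765892535290047874521436386710338096983425195884437853972023970420619595654550292459458485271562560474305282746769977713145641040902664868957260218254908050845055727730880403440472740604491522256441541932683219358663940660480791471146067070228603886607561019636716839252383188143827001227297599903139004445930147306237943574308824247776970609607897666825536649351896857473129314684166462529852207899922038409920933328786446364092053507549345103872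
]

def tab (j x : ℕ) : ℕ := ((tabC.getD j 0) >>> (9 * x)) &&& 511

theorem a_mem : ∀ j : Fin 10, mat3 (codeA j.val) * J (Fin 2) (ZMod 3) * (mat3 (codeA j.val))ᵀ =
    J (Fin 2) (ZMod 3) := by decide +kernel

theorem b_det : ∀ j : Fin 10, (mat4 (codeB j.val)).det = 1 := by decide +kernel

theorem b_cols : ∀ j : Fin 10, ∀ s t : Fin 4,
    ∑ r, mat4 (codeB j.val) r s * (mat4 (codeB j.val) r t) ^ 2 = if s = t then 1 else 0 := by
  decide +kernel

theorem frob_add : ∀ x y : F4c, (x + y) ^ 2 = x ^ 2 + y ^ 2 := by decide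

/-- first components of the generators -/
def ga (j : ℕ) : G1 :=
  if h : j < 10 then ⟨mat3 (codeA j), SymplecticGroup.mem_iff.2 (a_mem ⟨j, h⟩)⟩ else 1

/-- second components of the generators -/
def gb (j : ℕ) : G2 :=
  if h : j < 10 then
    ⟨⟨mat4 (codeB j), b_det ⟨j, h⟩⟩, mem_SU_of_cols 2 (by norm_num) frob_add _ (b_cols ⟨j, h⟩)⟩
  else 1

/-- the generators -/
def gen (j : ℕ) : GG := (ga j, gb j)

/-- the points: `81` vectors of `F₃⁴`, then `256` vectors of `F₄⁴` -/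
def pt (x : ℕ) : Pt := if x < 81 then SumPt.inl (vecN3 x) else SumPt.inr (vecN4 (x - 81))

/-- check points: the two standard bases -/
def chk : List ℕ := [27, 9, 3, 1, 145, 97, 85, 82]

theorem tab_ok : (List.range 10).all (fun j => (List.range 337).all (fun x =>
    Nat.blt (tab j x) 337 && (Nat.blt (tab j x) 81 == Nat.blt x 81))) = true := by decide +kernel

theorem tab_lt (j : ℕ) (hj : j < 10) (x : ℕ) (hx : x < 337) : tab j x < 337 := by
  have := List.all_eq_true.1 (List.all_eq_true.1 tab_ok j (List.mem_range.2 hj)) x (List.mem_range.2 hx)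
  rw [Bool.and_eq_true] at this
  exact Nat.le_of_ble_eq_true this.1

theorem tab_lt' (j : ℕ) (hj : j < 10) (x : ℕ) (hx : x < 337) : tab j x < 81 ↔ x < 81 := by
  have := List.all_eq_true.1 (List.all_eq_true.1 tab_ok j (List.mem_range.2 hj)) x (List.mem_range.2 hx)
  rw [Bool.and_eq_true] at this
  have h2 := this.2
  rw [beq_iff_eq] at h2
  constructor
  · intro h
    have : Nat.blt (tab j x) 81 = true := Nat.ble_eq_true_of_le h
    rw [h2] at this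
    exact Nat.le_of_ble_eq_true this
  · intro h
    have : Nat.blt x 81 = true := Nat.ble_eq_true_of_le h
    rw [← h2] at this
    exact Nat.le_of_ble_eq_true this

theorem ga_smul : ∀ j : Fin 10, ∀ n : Fin 81,
    mat3 (codeA j.val) *ᵥ vecN3 n.val = vecN3 (tab j.val n.val) := by
  decide +kernel

theorem gb_smul : ∀ j : Fin 10, ∀ n : Fin 256,
    mat4 (codeB j.val) *ᵥ vecN4 n.val = vecN4 (tab j.val (81 + n.val) - 81) := by
  decide +kernel

theorem gen_smul (j : ℕ) (hj : j < 10) (x : ℕ) (hx : x < 337) : gen j • pt x = pt (tab j x) := by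
  by_cases h : x < 81
  · have h2 := ga_smul ⟨j, hj⟩ ⟨x, h⟩
    have h1 := (tab_lt' j hj x hx).2 h
    unfold pt
    rw [if_pos h, if_pos h1, SumPt.smul_inl]
    congr 1
    show (ga j).1 *ᵥ vecN3 x = _
    rw [ga, dif_pos hj]
    exact h2
  · have h' : x - 81 < 256 := by omega
    have h2 := gb_smul ⟨j, hj⟩ ⟨x - 81, h'⟩
    have hx' : 81 + (x - 81) = x := by omega
    simp only [hx'] at h2
    have h1 : ¬ tab j x < 81 := fun hh => h ((tab_lt' j hj x hx).1 hh)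
    unfold pt
    rw [if_neg h, if_neg h1, SumPt.smul_inr]
    congr 1
    show (gb j).1.1 *ᵥ vecN4 (x - 81) = _
    rw [gb, dif_pos hj]
    exact h2

/-- index of a vector of `F₃⁴` -/
def idx3 (v : V1) : ℕ :=
  (v (Sum.inl 0)).val * 27 + (v (Sum.inl 1)).val * 9 + (v (Sum.inr 0)).val * 3 + (v (Sum.inr 1)).val

/-- index of an element of `F4c` -/
def f4i : F4c → ℕ
  | F4c.o => 0
  | F4c.i => 1
  | F4c.w => 2
  | F4c.v => 3

/-- index of a vector of `F₄⁴` -/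
def idx4 (v : V2) : ℕ := f4i (v 0) * 64 + f4i (v 1) * 16 + f4i (v 2) * 4 + f4i (v 3)

theorem idx3_vecN3 : ∀ n : Fin 81, idx3 (vecN3 n.val) = n.val := by decide +kernel

theorem idx4_vecN4 : ∀ n : Fin 256, idx4 (vecN4 n.val) = n.val := by decide +kernel

theorem pt_inj (x : ℕ) (hx' : x < 337) (y : ℕ) (hy' : y < 337) (hxy : pt x = pt y) : x = y := by
  unfold pt at hxy
  by_cases hx : x < 81 <;> by_cases hy : y < 81
  · rw [if_pos hx, if_pos hy] at hxy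
    have h := congrArg idx3 (SumPt.inl_injective hxy)
    rw [idx3_vecN3 ⟨x, hx⟩, idx3_vecN3 ⟨y, hy⟩] at h
    exact h
  · rw [if_pos hx, if_neg hy] at hxy
    exact absurd hxy (SumPt.inl_ne_inr _ _)
  · rw [if_neg hx, if_pos hy] at hxy
    exact absurd hxy.symm (SumPt.inl_ne_inr _ _)
  · rw [if_neg hx, if_neg hy] at hxy
    have h := congrArg idx4 (SumPt.inr_injective hxy)
    rw [idx4_vecN4 ⟨x - 81, by omega⟩, idx4_vecN4 ⟨y - 81, by omega⟩] at h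
    simp only at h
    omega

theorem chk_lt : ∀ x ∈ chk, x < 337 := by decide

theorem v3_27 : vecN3 27 = Pi.single (Sum.inl 0) 1 := by decide
theorem v3_9 : vecN3 9 = Pi.single (Sum.inl 1) 1 := by decide
theorem v3_3 : vecN3 3 = Pi.single (Sum.inr 0) 1 := by decide
theorem v3_1 : vecN3 1 = Pi.single (Sum.inr 1) 1 := by decide
theorem v4_64 : vecN4 64 = Pi.single 0 1 := by decide
theorem v4_16 : vecN4 16 = Pi.single 1 1 := by decide
theorem v4_4 : vecN4 4 = Pi.single 2 1 := by decide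
theorem v4_1 : vecN4 1 = Pi.single 3 1 := by decide

theorem inl_eq (g g' : GG) (x : ℕ) (hx : x < 81) (h : g • pt x = g' • pt x) :
    g.1.1 *ᵥ vecN3 x = g'.1.1 *ᵥ vecN3 x := by
  unfold pt at h
  rw [if_pos hx, SumPt.smul_inl, SumPt.smul_inl] at h
  exact SumPt.inl_injective h

theorem inr_eq (g g' : GG) (x : ℕ) (hx : ¬ x < 81) (h : g • pt x = g' • pt x) :
    g.2.1.1 *ᵥ vecN4 (x - 81) = g'.2.1.1 *ᵥ vecN4 (x - 81) := by
  unfold pt at h
  rw [if_neg hx, SumPt.smul_inr, SumPt.smul_inr] at h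
  exact SumPt.inr_injective h

theorem faithful (g g' : GG) (h : ∀ x ∈ chk, g • pt x = g' • pt x) : g = g' := by
  apply Prod.ext
  · apply Subtype.ext
    have e1 := inl_eq g g' 27 (by norm_num) (h 27 (by decide))
    have e2 := inl_eq g g' 9 (by norm_num) (h 9 (by decide))
    have e3 := inl_eq g g' 3 (by norm_num) (h 3 (by decide))
    have e4 := inl_eq g g' 1 (by norm_num) (h 1 (by decide))
    rw [v3_27, Matrix.mulVec_single_one, Matrix.mulVec_single_one] at e1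
    rw [v3_9, Matrix.mulVec_single_one, Matrix.mulVec_single_one] at e2
    rw [v3_3, Matrix.mulVec_single_one, Matrix.mulVec_single_one] at e3
    rw [v3_1, Matrix.mulVec_single_one, Matrix.mulVec_single_one] at e4
    ext i k
    rcases k with k | k <;> fin_cases k
    · exact congrFun e1 i
    · exact congrFun e2 i
    · exact congrFun e3 i
    · exact congrFun e4 i
  · apply Subtype.ext
    apply Subtype.ext
    have e1 := inr_eq g g' 145 (by norm_num) (h 145 (by decide))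
    have e2 := inr_eq g g' 97 (by norm_num) (h 97 (by decide))
    have e3 := inr_eq g g' 85 (by norm_num) (h 85 (by decide))
    have e4 := inr_eq g g' 82 (by norm_num) (h 82 (by decide))
    norm_num at e1 e2 e3 e4
    rw [v4_64, Matrix.mulVec_single_one, Matrix.mulVec_single_one] at e1
    rw [v4_16, Matrix.mulVec_single_one, Matrix.mulVec_single_one] at e2
    rw [v4_4, Matrix.mulVec_single_one, Matrix.mulVec_single_one] at e3
    rw [v4_1, Matrix.mulVec_single_one, Matrix.mulVec_single_one] at e4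
    ext i k
    fin_cases k
    · exact congrFun e1 i
    · exact congrFun e2 i
    · exact congrFun e3 i
    · exact congrFun e4 i

/-- chain data with all ten generators (base on the unitary side) -/
def D2 : TableChain2.Data GG Pt where
  m := 10
  N := 337
  gen := gen
  pt := pt
  tab := tab
  chk := chk
  gen_smul := gen_smul
  tab_lt := tab_lt
  chk_lt := chk_lt
  faithful := faithful
  pt_inj := pt_inj

/-- the tables of the last five generators -/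
def tab1 (j x : ℕ) : ℕ := tab (j + 5) x

/-- chain data with the last five generators (base on the symplectic side) -/
def D1 : TableChain2.Data GG Pt where
  m := 5
  N := 337
  gen := fun j => gen (j + 5)
  pt := pt
  tab := tab1
  chk := chk
  gen_smul := fun j hj x hx => gen_smul (j + 5) (by omega) x hx
  tab_lt := fun j hj x hx => tab_lt (j + 5) (by omega) x hx
  chk_lt := chk_lt
  faithful := faithful
  pt_inj := pt_inj

def AT0 : List (List ℕ) := [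
  [],
  [4, 3, 3, 2, 4],
  [3, 0, 4],
  [3, 1, 4],
  [3, 2, 4],
  [3, 3, 2, 0, 0, 4],
  [3, 3, 4],
  [4, 2, 4, 2, 4],
  [2, 2, 4, 0, 4],
  [1, 4, 0, 4],
  [2, 3, 4, 0, 4],
  [2, 4, 1, 3, 4],
  [3, 4, 0, 4],
  [2, 4, 0, 4],
  [2, 2, 3, 4, 0, 4],
  [4, 0, 4],
  [4, 1, 3, 4],
  [1, 4, 3, 0, 4],
  [1, 4, 0, 0, 4],
  [3, 0, 4, 3, 4],
  [4, 3, 0, 4],
  [4, 0, 0, 4],
  [4, 3, 2, 0, 0, 4],
  [2, 4, 0, 0, 4],
  [3, 4, 0, 0, 4],
  [2, 4, 3, 0, 4],
  [1, 4],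
  [2, 4],
  [0, 4],
  [1, 0, 0, 4],
  [2, 0, 0, 4],
  [4],
  [1, 0, 4],
  [2, 0, 4],
  [0, 0, 4],
  [4, 1, 4],
  [1, 4, 1, 4],
  [4, 3, 3, 4],
  [2, 4, 1, 4],
  [2, 1, 4, 1, 4],
  [3, 4, 2, 4],
  [0, 4, 1, 4],
  [1, 0, 4, 1, 4],
  [3, 3, 4, 0, 4],
  [1, 4, 3, 1, 4],
  [1, 4, 1, 0, 4],
  [1, 4, 3, 4],
  [0, 4, 1, 0, 4],
  [0, 4, 3, 4],
  [4, 1, 4, 0, 4],
  [4, 1, 0, 4],
  [4, 3, 4],
  [4, 3, 1, 4],
  [3, 1, 0, 0, 4],
  [3, 2, 0, 0, 4],
  [3, 4],
  [2, 3, 4],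
  [1, 3, 4],
  [0, 3, 4],
  [3, 3, 1, 4],
  [3, 3, 2, 4],
  [3, 3, 0, 4],
  [3, 1, 4, 0, 4],
  [1, 4, 2, 4],
  [1, 3, 4, 1, 4],
  [3, 4, 1, 4],
  [2, 4, 2, 4],
  [4, 2, 4],
  [0, 3, 4, 1, 4],
  [2, 0, 4, 2, 4],
  [0, 4, 2, 4],
  [1, 4, 3, 2, 4],
  [4, 3, 2, 4],
  [4, 2, 0, 4],
  [3, 3, 4, 0, 0, 4],
  [0, 4, 3, 2, 4],
  [0, 4, 2, 0, 4],
  [3, 4, 1, 0, 4],
  [3, 4, 3, 4],
  [2, 4, 2, 0, 4]
]

def AE0 : List (List (ℕ × List ℕ)) := [
  [(0, [0]), (1, [0]), (2, [2, 2, 1, 1, 0, 0]), (3, [2, 3, 3, 0, 0]), (4, [1, 3, 3, 2, 1, 1, 0, 0]), (5, [2, 2, 1, 1, 0, 0]), (6, [2, 3, 3, 0, 0]), (7, [2, 2, 0, 0]), (8, [0]), (9, [0]), (10, [3, 3, 0, 3, 2, 1, 0]), (11, [0]), (12, [3, 3, 0, 3, 2, 1, 0]), (13, [0]), (14, [3, 3, 0, 3, 2, 1, 0]), (15, [0]), (16, [0]), (17, [2, 2, 0, 0]), (18, [0]), (19, [0, 3, 3, 2, 0]), (20, [2, 2, 0, 0]), (21, [0]), (22, [2, 2, 0, 0]), (23, [0]), (24, [3, 3, 0, 3, 2, 1, 0]), (25,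 [2, 2, 0, 0]), (32, []), (33, []), (34, []), (26, []), (27, []), (28, []), (29, []), (30, []), (31, []), (41, []), (42, []), (43, [2, 0, 3, 0]), (35, [3, 1, 0, 0]), (36, [3, 1, 0, 0]), (37, [3, 3, 1, 3, 2]), (38, [3, 1, 0, 0, 3, 1, 0, 0]), (39, [3, 1, 0, 0, 3, 1, 0, 0]), (40, [3, 3, 2, 0, 0, 3, 2, 0]), (50, [1, 0, 3, 1]), (51, [3, 1, 3, 2, 1, 1, 0, 0]), (52, [3, 2, 2, 1, 0]), (44, [3, 3, 1, 3, 1, 1, 0]), (45, [3, 1, 3, 2, 2, 0]), (46, [2, 1, 0, 0]), (47, []), (48, []), (49, [1, 3, 3, 2, 1, 0]), (56, [2, 3, 2, 0]), (57, [3, 3, 2, 0, 0, 3, 2, 0, 0]), (58, []), (59, [0, 3, 1, 0]), (60, [2, 1, 0]), (61, [3, 3, 1, 0, 0, 3, 1, 0, 0]), (53, [1, 3, 2, 2, 1, 1, 0]), (54, [3, 3, 1, 0, 0, 3, 2, 1, 1]), (55, [3, 3, 2, 0, 0, 3, 1, 1, 0]), (65, [3, 3, 0, 3, 2, 1, 1, 0, 0]), (66, [3, 3, 1, 3]), (67, [3, 3, 2]), (68, []), (69, []), (70, []), (62, [3, 0]), (63, [0, 0, 3, 1]), (64, [1, 0, 3]), (74, [3, 3,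 2, 0, 0, 3, 1, 0]), (75, []), (76, []), (77, [3, 3, 2, 0, 0, 3, 2, 0]), (78, [3, 1, 0, 0]), (79, [2, 2, 0, 0]), (71, [3, 3, 2, 0, 0, 3, 2, 1]), (72, [3, 1, 0, 0, 3, 1, 0, 0]), (73, [2, 0])],
  [(0, [1]), (1, [1, 1, 0, 0]), (2, [3, 3, 1, 0, 0, 3, 2, 1, 1]), (3, [3, 3, 2, 0, 0, 3, 1, 1, 0]), (4, [1, 3, 2, 2, 1, 1, 0]), (5, [3, 3, 2, 0, 0, 3, 1, 1, 0]), (6, [1, 3, 2, 2, 1, 1, 0]), (7, [2, 1, 1]), (11, [0, 0]), (12, [3, 3, 2, 0]), (13, [1, 3]), (14, [3, 3, 2, 0, 0]), (15, [1, 3]), (16, [0, 0]), (8, [1, 3]), (9, []), (10, [3, 3, 2, 0, 0]), (23, [3, 3, 2, 0, 0, 3, 2, 1, 0, 0]), (24, [3, 3, 2, 0]), (25, [2, 0, 3, 2, 2, 1, 0]), (17, []), (18, []), (19, [3, 3, 2, 3, 2, 1, 1, 0]), (20, [3, 3, 1, 0, 0, 3, 2, 1, 1, 0, 0]), (21, [1, 3]), (22, [2, 0]), (33, [0, 3, 3, 2, 0]), (34, [1, 3, 0, 0]), (32, []), (27, [0, 3, 3, 2, 0]), (28, [1, 3, 0, 0]), (26, []), (30, [0, 3, 3, 2, 0]), (31, [1, 3, 0, 0]), (29,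 []), (36, []), (37, [3, 2, 1, 0]), (35, [3, 3]), (39, []), (40, [3, 3, 2, 3, 2, 2, 1, 0]), (38, [0, 3, 1, 1, 0, 0]), (42, []), (43, [3, 0, 3, 2, 1]), (41, [3, 0, 3, 2, 2, 1]), (48, [3, 3, 2, 3, 1, 1]), (49, [3, 1, 3, 1]), (47, [3, 1, 3, 2, 2, 0]), (51, [3, 1, 3, 2, 1, 1, 0, 0]), (52, [3, 2, 2, 1, 0]), (50, [3, 1, 3, 1]), (45, []), (46, []), (44, []), (58, [2, 3, 3, 2, 1]), (56, [1, 3, 3, 2, 2]), (57, []), (61, [2, 3, 2, 2, 1, 0, 0]), (59, [3, 3, 2, 0, 0, 3, 2, 2, 1]), (60, [2, 1, 0]), (55, [3, 3, 1, 0, 0, 3, 2, 1, 1]), (53, [0, 3, 2, 1, 1, 0, 0]), (54, [2, 2, 1, 1, 0, 0]), (70, [1, 0, 0, 3, 1, 0, 0]), (68, [1, 0, 3]), (69, [3, 3, 0, 0]), (64, []), (62, [2, 0, 3, 2, 0]), (63, []), (67, [3, 3, 2]), (65, [0, 3, 2, 1, 0]), (66, [3, 3, 1, 3]), (73, [3, 1, 0, 0, 3, 2, 2, 1, 1, 0]), (71, []), (72, [1, 3, 2, 1, 1]), (76, [3, 2, 0, 0, 3, 2, 2, 1]), (74, [3, 3, 2, 0, 0, 3, 1, 0]), (75, [1, 3, 2,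 1, 1]), (79, [1, 3, 3, 1, 1, 0, 0]), (77, [2, 3, 3, 2, 1, 1]), (78, [3, 2, 3, 2, 1])],
  [(0, [2]), (1, [2, 1, 1, 0]), (2, [0, 3, 2, 1, 1, 0, 0]), (3, [0, 3, 3, 1, 1]), (4, [2, 3, 1, 1]), (5, [2, 3, 1, 1]), (6, [0, 3, 2, 1, 1, 0, 0]), (7, [2]), (15, []), (16, [0, 0]), (14, []), (9, [0]), (10, []), (8, []), (12, []), (13, []), (11, []), (22, [2, 0]), (20, [3, 3, 1, 0, 0, 3, 2, 1, 1, 0, 0]), (21, [3, 2, 1, 0, 0]), (25, []), (23, []), (24, [3, 2, 0, 0, 3, 1, 1, 0, 0]), (19, [3, 3, 0, 3, 1, 0]), (17, [1, 0, 0, 3, 2, 2, 1]), (18, [3, 3, 2, 0, 0, 3, 2, 1, 0, 0]), (34, [1, 3, 0, 0]), (32, [0, 3, 3, 2, 0]), (33, []), (28, [1, 3, 0, 0]), (26, [0, 3, 3, 2, 0]), (27, []), (31, [1, 3, 0, 0]), (29, [0, 3, 3, 2, 0]), (30, []), (38, []), (39, []), (40, [3, 0, 3, 1, 1, 0, 0]), (41, [3, 1, 0, 0, 3, 1, 0, 0]), (42, [3, 1, 0, 0, 3, 1, 0, 0]), (43, [2, 3, 1, 0, 0]), (35, [3, 1, 0, 0]), (36, [3, 1, 0, 0]),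 (37, [0, 3, 2, 1, 1]), (45, [3, 3, 2, 3, 2, 1, 1]), (46, [3, 3, 1, 3, 2, 1]), (44, [3, 2, 3, 2, 1, 1]), (48, [3, 3, 1, 3, 2, 1]), (49, [0, 0, 3, 2, 2, 0]), (47, [2, 3, 3]), (51, [3, 3, 1, 3, 2, 1]), (52, [3, 2, 3, 2, 1, 1]), (50, [3, 3, 2, 3, 2, 1, 1]), (57, [3, 3, 1, 0, 0, 3, 2, 2, 0]), (58, [0, 3, 2, 2]), (56, []), (60, [0, 3, 3, 2, 2, 1, 0, 0]), (61, [2, 3, 2, 2, 1, 0, 0]), (59, [0, 3, 1, 0]), (54, [0, 3, 2, 1, 1, 0, 0]), (55, [1, 3, 2, 2, 1, 1, 0]), (53, [2, 3, 3, 0, 0]), (64, [2, 3, 3, 2, 1, 0]), (62, [2, 0, 3, 2, 0]), (63, [3, 3, 2, 2, 0]), (67, [3, 3, 2, 2, 0]), (65, [2, 0, 0, 3, 2, 1, 0]), (66, []), (70, [3, 3, 2, 2, 0]), (68, [2, 0, 0, 3, 2, 1, 0]), (69, []), (77, [3, 2, 2, 0, 0]), (78, [2, 0, 3, 1, 0, 0]), (79, []), (71, [0, 0, 3, 1, 1]), (72, [2, 0, 3, 2, 2, 1, 0]), (73, [2, 0]), (74, [2, 3, 1, 0, 0]), (75, [3, 1, 0, 0, 3, 2, 1]), (76, [2, 2, 0, 0])],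
  [(0, [3]), (1, [2, 0, 0, 3, 2, 2, 1, 1, 0, 0]), (61, []), (59, []), (60, []), (30, [0, 3, 3, 2, 0]), (31, [0, 3, 3, 2, 0]), (29, [3, 3, 1, 3, 1, 1, 0]), (64, [3, 2, 0, 0, 3, 2, 2, 1, 0]), (62, []), (63, [3, 1, 0, 0, 3, 2, 2, 1, 0, 0]), (42, [3, 3, 1, 0, 0, 3, 2, 2]), (43, []), (41, [3, 2, 0, 0, 3, 2, 2, 1, 0, 0]), (11, [1, 3, 0, 0]), (12, []), (13, [1, 0, 3]), (45, [3, 1, 3, 0, 0]), (46, [3, 2, 0, 0, 3, 2, 0]), (44, [0, 3, 3]), (23, [0, 0, 3, 2, 2, 1]), (24, []), (25, [2, 0, 3, 1, 0, 0]), (76, [0, 0, 3, 2]), (74, []), (75, [3, 2, 3, 2, 2, 1, 1, 0]), (3, []), (4, []), (2, []), (53, []), (54, []), (55, []), (34, [0, 3, 1, 0]), (32, [2, 3, 3, 2, 2, 1, 1, 0]), (33, [0, 3, 3, 2, 2, 1, 0, 0]), (65, []), (66, [2, 3, 3, 2, 2, 1, 0]), (67, [3, 2, 0, 0, 3, 2, 2]), (37, [3, 3, 2, 2, 1, 1, 0]), (35, [3, 2, 3, 2, 2, 1, 1, 0]), (36, [3, 1, 3, 2, 1, 0]), (15, [0, 0, 3, 0]), (16, [3, 2, 0, 0, 3, 2, 1]),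 (14, [3, 3, 2]), (49, [1, 1, 0, 0]), (47, [2, 0, 0, 3, 2, 2, 1]), (48, [2, 0]), (18, [2, 0, 0, 3, 2, 2, 1, 1]), (19, []), (17, [3, 2, 3, 2, 0]), (77, []), (78, []), (79, [3, 1, 0, 0, 3, 1, 1, 0, 0]), (7, [3, 2, 2, 0, 0]), (5, []), (6, []), (57, [2, 3, 3, 2, 2, 1, 1, 0]), (58, [2, 1, 0]), (56, [3, 3, 2, 0, 0, 3, 2, 2, 1]), (26, [0, 3, 3, 2, 0]), (27, [0, 3, 3, 2, 0]), (28, [0, 3, 3, 2, 0]), (69, [3, 3, 2, 0, 0, 3, 2, 0]), (70, [2, 0, 0, 3, 2, 2, 1]), (68, [1, 3, 0, 0]), (38, [1, 3, 2, 2, 0]), (39, [3, 3, 1, 0]), (40, []), (10, [1, 3, 3, 2, 2]), (8, [3, 3, 1, 0, 0, 3, 2, 2, 0]), (9, [2, 0, 0, 3, 2, 2, 1, 1]), (50, [2, 3, 3, 1, 1, 0, 0]), (51, [1, 3, 2]), (52, [3, 0, 0]), (22, [3, 3, 1, 0, 0, 3, 2, 1, 1]), (20, [1, 3, 2]), (21, [3, 0]), (72, [3, 3, 2, 0, 0, 3, 2, 2, 0, 0]), (73, [3, 3, 2, 3, 2, 0]), (71, [3, 2, 3, 2, 1])],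
  [(31, []), (60, []), (20, []), (52, []), (72, []), (14, [3, 3, 2, 2, 1, 0]), (37, []), (66, []), (17, [2, 2, 1, 0]), (49, []), (78, [3, 2, 3, 2, 2, 0, 0]), (11, [3, 2, 3, 2, 1, 0, 0]), (43, [1, 3, 1, 1, 0]), (63, [0, 3, 3, 1]), (5, [1, 0, 3, 2, 2, 1, 1, 0, 0]), (28, []), (57, []), (8, [2, 1, 1, 0, 0]), (40, [1, 1]), (69, [3, 2, 0, 0, 3, 2, 2, 1]), (2, []), (34, []), (54, []), (23, [3, 0, 3, 1]), (46, [2, 3]), (75, [3, 3, 1, 3, 2, 1, 1]), (35, []), (67, []), (15, []), (29, [3, 1, 3, 0]), (61, [1, 3, 1, 1]), (0, []), (50, []), (73, []), (21, []), (26, []), (58, [3, 1, 3, 2, 1, 1]), (6, []), (47, [3, 3, 0, 3, 2, 1, 1, 0]), (79, [2, 0, 3, 2, 1, 1, 0, 0]), (18, [1]), (41, [3, 1, 3, 0]), (64, [1, 3, 1]), (12, [3, 2, 0, 0, 3, 1, 0]), (44, [3, 2, 3, 2, 2, 0, 0]), (76, [1, 0, 3, 1]), (24, [3, 3, 1, 0]), (38, [0, 3, 0]), (70, [0, 3, 3, 0, 0]), (9, []), (32, []), (55, []), (3, []), (71, [1, 3, 2]),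 (22, []), (51, []), (65, [3, 2, 3, 2, 1, 1]), (16, []), (36, [3, 1, 3, 2, 2]), (59, [3, 0, 3, 1]), (1, []), (30, [1, 3, 3, 2, 0]), (62, [3, 1, 3, 1]), (13, [2, 0, 3, 0, 0]), (42, [3, 3, 1, 3, 1, 1, 0, 0]), (56, [3, 2, 3, 2, 2, 1, 1, 0]), (7, []), (27, []), (77, [1, 0, 0, 3, 0, 0]), (19, [3, 2, 0, 0]), (48, [0, 3, 2, 1]), (53, [3, 3, 2, 3, 2, 1, 1, 0]), (4, []), (33, []), (74, [3, 2, 3, 2, 2, 0, 0]), (25, [2, 0, 3, 2, 1, 1, 0]), (45, [3, 3, 1, 3, 1, 1, 0]), (68, [0, 3, 3, 2, 0, 0]), (10, [3, 2, 3, 2, 2, 0, 0]), (39, [2, 3, 3, 2, 1, 1, 0])]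
]

theorem Alevel0 : TableChain2.levelCheck tab1 5 4 1 chk AT0 AE0 = true := by
  decide +kernel

def AT1 : List (List ℕ) := [
  [],
  [3, 3, 2, 0, 0, 3],
  [3, 3, 1, 0, 0, 3],
  [3, 1, 3],
  [3, 0, 3],
  [3, 2, 3],
  [3, 2, 0, 0, 3],
  [3, 1, 0, 0, 3],
  [3, 3],
  [3, 3, 2, 3],
  [3, 3, 1, 3],
  [3, 3, 0, 3],
  [1, 3, 3],
  [2, 3, 3],
  [0, 3, 3],
  [2, 3],
  [1, 3],
  [0, 3],
  [2, 0, 3],
  [1, 0, 3],
  [0, 0, 3],
  [2, 0, 0, 3],
  [1, 0, 0, 3],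
  [3]
]

def AE1 : List (List (ℕ × List ℕ)) := [
  [(0, [0]), (1, [2, 2, 0, 0]), (2, [2, 2, 1, 0]), (3, [0]), (4, [2, 2, 0, 0]), (5, [2, 2, 1, 0]), (12, [2, 1, 1]), (13, [1, 1, 0]), (14, []), (6, [2, 1, 0, 0]), (7, [1]), (8, [1, 1, 0, 0]), (9, [2, 0]), (10, [0, 0]), (11, [1, 0]), (18, []), (19, []), (20, []), (21, []), (22, []), (23, []), (15, []), (16, []), (17, [])],
  [(0, [1]), (1, [1, 1, 0, 0]), (2, [2, 1, 0, 0]), (3, [1, 1, 0, 0]), (4, [2, 1, 0, 0]), (5, [1]), (13, [1, 0, 0]), (14, [2, 0, 0]), (12, []), (7, [2]), (8, [2, 1, 0, 0]), (6, [2, 2, 0, 0]), (10, [2, 2, 1, 1, 0]), (11, [2, 1, 1, 0, 0]), (9, [2, 0]), (20, [2, 1, 0]), (18, [2, 2, 1, 1, 0, 0]), (19, []), (23, [2, 1, 0]), (21, [2, 2, 1, 1, 0, 0]), (22, []), (17, [2, 1, 0]), (15, [2, 2, 1, 1, 0, 0]), (16, [])],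
  [(0, [2]), (1, [2, 2, 1, 1]), (2, [2, 1, 1, 0]), (3, [2, 1, 1, 0]), (4, [2]), (5, [2, 2, 1, 1]), (14, [2, 2, 0]), (12, [2, 2, 1]), (13, []), (8, [1]), (6, [2]), (7, [0]), (11, [2, 1, 1, 0, 0]), (9, [1, 1]), (10, [0, 0]), (19, [2, 2, 1, 1, 0, 0]), (20, [2, 1, 0]), (18, []), (22, [2, 2, 1, 1, 0, 0]), (23, [2, 1, 0]), (21, []), (16, [2, 2, 1, 1, 0, 0]), (17, [2, 1, 0]), (15, [])],
  [(23, []), (21, [2, 2, 1, 1, 0, 0]), (22, [2, 2, 1, 1, 0, 0]), (10, []), (11, []), (9, []), (1, []), (2, []), (0, [2, 2, 1, 1, 0, 0]), (15, [2, 2, 1, 1, 0, 0]), (16, [2, 2, 1, 1, 0, 0]), (17, [2, 2, 1, 1, 0, 0]), (14, [2, 0]), (12, [2, 2]), (13, [2, 2, 1, 1, 0]), (5, []), (3, []), (4, []), (19, [2, 2]), (20, [0, 0]), (18, [1, 1]), (6, []), (7, []), (8, [])]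
]

theorem Alevel1 : TableChain2.levelCheck tab1 4 3 3 chk AT1 AE1 = true := by
  decide +kernel

def AT2 : List (List ℕ) := [
  [],
  [2, 1],
  [2, 2, 1, 1],
  [1],
  [2, 1, 1],
  [2, 2],
  [1, 1],
  [2],
  [2, 2, 1]
]

def AE2 : List (List (ℕ × List ℕ)) := [
  [(0, [0]), (1, [0]), (2, [0]), (3, [0]), (4, [0]), (5, [0]), (6, [0]), (7, [0]), (8, [0])],
  [(3, []), (4, []), (5, []), (6, []), (7, []), (8, []), (0, []), (1, []), (2, [])],
  [(7, []), (8, []), (6, []), (1, []), (2, []), (0, []), (4, []), (5, []), (3, [])]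
]

theorem Alevel2 : TableChain2.levelCheck tab1 3 1 9 chk AT2 AE2 = true := by
  decide +kernel

def AT3 : List (List ℕ) := [
  [],
  [0, 0],
  [0]
]

def AE3 : List (List (ℕ × List ℕ)) := [
  [(2, []), (0, []), (1, [])]
]

theorem Alevel3 : TableChain2.levelCheck tab1 1 0 27 chk AT3 AE3 = true := by
  decide +kernel

def BT0 : List (List ℕ) := [
  [],
  [8, 1, 7],
  [8, 9, 5],
  [4, 3, 6],
  [8, 1, 5],
  [4, 6, 1, 5],
  [7, 8, 6],
  [5, 9, 7],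
  [5, 3, 5],
  [5, 1, 6],
  [4, 1, 6],
  [4, 4, 6],
  [4, 6],
  [3, 6, 6],
  [6, 4, 5],
  [3, 1, 6],
  [8, 5, 8],
  [5, 1, 5],
  [6],
  [5, 8, 5],
  [6, 8, 6],
  [8, 4, 3, 5],
  [6, 9, 5],
  [1, 6],
  [6, 9, 7],
  [2, 6],
  [8, 6, 2, 5],
  [6, 8, 5],
  [5, 4, 6],
  [6, 1, 5],
  [6, 6],
  [2, 3, 6],
  [7, 5, 5],
  [4, 2, 6],
  [3, 3, 6],
  [7, 3, 6],
  [3, 6],
  [4, 3, 5],
  [9, 4, 5],
  [1, 7, 5],
  [4, 5],
  [3, 2, 1, 5],
  [6, 2, 5],
  [7, 5],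
  [4, 5, 5],
  [3, 3, 5],
  [4, 9, 5],
  [3, 5, 8],
  [3, 4, 5],
  [1, 4, 1, 5],
  [7, 1, 1, 5],
  [4, 1, 5],
  [1, 1, 5],
  [1, 5],
  [5],
  [2, 1, 5],
  [2, 5],
  [9, 5],
  [5, 5],
  [7, 1, 5],
  [2, 3, 5],
  [9, 5, 5],
  [3, 5],
  [5, 8],
  [8, 8, 6],
  [7, 8, 5],
  [5, 2, 5],
  [5, 8, 6],
  [5, 3, 6],
  [7, 3, 5],
  [6, 9, 4, 5],
  [6, 6, 5],
  [4, 6, 8],
  [3, 8, 7, 5],
  [9, 7, 7],
  [3, 6, 5],
  [2, 8, 5],
  [7, 7],
  [8, 5],
  [1, 8, 5],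
  [8, 3, 6],
  [7, 9, 5],
  [3, 7, 7],
  [3, 3, 6, 5],
  [3, 7, 8, 5],
  [8, 6, 1, 5],
  [6, 8],
  [5, 4, 8],
  [9, 6, 5],
  [1, 6, 5],
  [8, 7, 5],
  [6, 5],
  [6, 2, 6],
  [6, 4, 6],
  [8],
  [3, 8],
  [8, 6],
  [1, 3, 8],
  [8, 4, 5],
  [9, 3, 8],
  [6, 4, 3, 5],
  [8, 1, 6],
  [9, 7],
  [2, 7],
  [4, 8],
  [7],
  [1, 7],
  [1, 1, 7],
  [7, 9, 7],
  [1, 3, 7],
  [3, 7],
  [3, 2, 7],
  [7, 2, 5],
  [9, 3, 7],
  [3, 7, 2, 5],
  [6, 3, 6],
  [6, 3, 5],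
  [7, 4, 8],
  [7, 4, 6],
  [9, 6, 3, 5]
]

def BE0 : List (List (ℕ × List ℕ)) := [
  [(0, [0]), (1, [0]), (2, [0]), (3, [0]), (4, [0]), (5, [0]), (6, [0]), (7, [0]), (8, [0]), (9, [0]), (10, [0]), (11, [0]), (12, [0]), (13, [0]), (14, [0]), (15, [0]), (16, [0]), (17, [0]), (18, [0]), (19, [0]), (20, [0]), (21, [0]), (22, [0]), (23, [0]), (24, [0]), (25, [0]), (26, [0]), (27, [0]), (28, [0]), (29, [0]), (30, [0]), (31, [0]), (32, [0]), (33, [0]), (34, [0]), (35, [0]), (36, [0]), (37, [0]), (38, [0]), (39, [0]), (40, [0]), (41, [0]), (42, [0]), (43, [0]), (44, [0]), (45, [0]), (46, [0]), (47, [0]), (48, [0]), (49, [0]), (50, [0]), (51, [0]), (52, [0]), (53, [0]), (54, [0]), (55, [0]), (56, [0]), (57, [0]), (58, [0]), (59, [0]), (60, [0]), (61, [0]), (62, [0]), (63, [0]), (64, [0]), (65, [0]), (66, [0]), (67, [0]), (68, [0]), (69, [0]), (70, [0]), (71, [0]), (72, [0]), (73, [0]), (74, [0]),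 (75, [0]), (76, [0]), (77, [0]), (78, [0]), (79, [0]), (80, [0]), (81, [0]), (82, [0]), (83, [0]), (84, [0]), (85, [0]), (86, [0]), (87, [0]), (88, [0]), (89, [0]), (90, [0]), (91, [0]), (92, [0]), (93, [0]), (94, [0]), (95, [0]), (96, [0]), (97, [0]), (98, [0]), (99, [0]), (100, [0]), (101, [0]), (102, [0]), (103, [0]), (104, [0]), (105, [0]), (106, [0]), (107, [0]), (108, [0]), (109, [0]), (110, [0]), (111, [0]), (112, [0]), (113, [0]), (114, [0]), (115, [0]), (116, [0]), (117, [0]), (118, [0]), (119, [0])],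
  [(0, [1]), (3, [4, 1, 4, 1]), (1, [4, 4]), (2, [3, 3, 2, 1]), (5, [3, 3, 1]), (6, [3, 4, 0]), (4, [4, 3, 2, 1]), (7, [3, 1, 3, 1, 2, 0]), (13, [3, 1, 3, 1, 1]), (11, [4, 2, 3, 3, 0]), (12, [3, 1, 3, 2, 0]), (16, [4, 1, 4, 2, 0]), (14, [1, 1, 4]), (15, [1, 3, 3, 1, 2, 0]), (10, [4, 3, 1, 3]), (8, [3, 1, 1, 3, 1]), (9, [3, 4, 3, 2]), (17, [1]), (23, []), (21, [4, 4, 1, 1]), (22, [1, 4, 2, 0]), (26, [3, 1, 4, 1]), (24, [2, 4, 4, 0]), (25, [3, 3, 0]), (20, [3, 4, 1, 3, 1, 1, 0]), (18, [3, 3]), (19, [4, 3, 2, 0]), (27, [1]), (33, [1, 4, 1]), (31, [4, 1, 4, 0]), (32, [3, 1, 3, 1, 2]), (36, [2, 1, 0]), (34, [2, 4, 4, 2, 1, 0]), (35, [4, 3, 1, 1, 3, 2]), (30, [4, 1, 4, 1, 0]), (28, [2, 3, 3, 2, 0]), (29, [3, 1, 1, 3, 2, 1]), (42, [1, 3, 4, 1, 0]), (40, [2, 4, 4, 2, 0]), (41, [4, 3, 1, 4, 1, 2]), (45, [4, 2, 3, 3, 1, 2]), (43, [1, 3, 4, 4, 1, 2, 0]), (44, [4, 3, 3]), (39, []), (37, [3, 4, 4, 2]),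 (38, [4, 2, 3, 3, 1, 2]), (48, [1, 3, 3, 3, 1, 0]), (46, [3, 4, 4]), (47, [4, 1, 4, 1]), (50, [3, 1, 1, 4, 2, 0]), (51, [1, 4, 1, 1, 3, 2, 1]), (49, []), (54, [0]), (52, []), (53, []), (56, []), (57, [0]), (55, []), (60, [3, 2]), (58, [1, 4, 1, 1, 3, 1, 1]), (59, [4, 3, 1, 1, 3, 1, 2, 0]), (62, [3, 2]), (63, [3, 4, 2, 1, 0]), (61, [4, 2, 1]), (64, [1, 3, 3, 2, 1, 0]), (70, [4, 3, 1, 1, 3]), (68, [1, 4]), (69, [3, 1, 1, 4, 2]), (73, [4, 4, 1, 0]), (71, [2, 1, 0]), (72, [3, 1, 4, 1, 1, 0]), (67, [1, 4, 1, 1, 3]), (65, [3, 4, 4, 0]), (66, [4, 3, 1, 1, 3, 2, 1, 0]), (76, [1, 3, 4, 1, 0]), (74, [1, 4, 1, 2, 0]), (75, [1, 3, 4, 4, 1, 1]), (78, [1, 3, 4, 1, 0]), (79, []), (77, [4, 3, 1, 0]), (82, [1, 3, 3, 2, 0]), (80, [4, 1, 3, 1, 0]), (81, [1, 3, 4, 0]), (84, [1, 4, 1, 0]), (85, [4, 4, 1, 2]), (83, [1, 4, 2, 1, 0]), (88, [4, 2, 1]), (86, [4, 2, 3, 3, 1, 2]), (87, [3, 3, 0]), (90, [2, 3, 3, 1,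 2]), (91, [2, 4, 4, 2, 1, 0]), (89, []), (92, [3, 1, 3, 1, 2, 0]), (98, [3, 1, 1, 3]), (96, [2, 4, 4, 1, 0]), (97, []), (101, [3, 1, 1, 3, 2, 0]), (99, [2, 1, 0]), (100, [3, 4, 0]), (95, [2, 1]), (93, [1, 4, 1, 1, 3, 2, 0]), (94, [3, 3, 1, 2, 0]), (104, [1, 4, 1, 1, 3, 1, 1, 0]), (102, [0]), (103, [3, 1, 1, 4]), (106, []), (107, []), (105, [0]), (110, [3, 3, 3, 2, 1, 0]), (108, [3, 2, 0]), (109, []), (112, [1, 3, 4, 2, 0]), (113, [1, 3, 4, 1, 1, 0]), (111, [0]), (116, [4, 0]), (114, [4, 1, 3, 1]), (115, [3, 4, 4, 2, 1, 0]), (118, [4, 3, 3, 1, 1]), (119, [2, 3, 1, 4, 2, 1]), (117, [1, 3, 4, 4])],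
  [(0, [2]), (6, [3, 4, 1, 0]), (4, [0]), (5, [3, 1, 1, 3, 0]), (2, [0]), (3, [4, 1, 4]), (1, [4, 3, 1, 1]), (7, [2, 0]), (15, [4, 4, 1, 2]), (9, [2, 0]), (12, [3, 3]), (16, [2, 4, 4, 2]), (10, [3, 3]), (13, [2, 3, 3, 2, 0]), (14, [1, 2]), (8, [3, 1, 3, 2, 1, 0]), (11, [2, 4, 4, 2]), (17, [2, 0]), (25, []), (19, [1, 2]), (22, [1, 4, 0]), (26, [3, 4, 1, 2, 0]), (20, [3, 4, 3, 1, 2, 0]), (23, [3, 3, 0]), (24, [2, 0]), (18, []), (21, [4, 3, 1, 2, 0]), (27, [1, 2]), (35, [1, 3, 3, 2]), (29, [2, 0]), (32, [2]), (36, []), (30, [2]), (33, [3, 3, 0]), (34, [3, 1, 3, 1, 0]), (28, [2, 3, 3, 1, 1, 0]), (31, []), (44, [3, 3, 3, 2, 1]), (38, [2, 4, 4, 2]), (41, [4, 3, 1, 4, 1, 0]), (45, [4, 1, 1]), (39, [4, 3, 1, 4, 2, 1, 0]), (42, [2]), (43, [2]), (37, [3, 2, 0]), (40, [4, 2, 3, 3, 1, 2, 0]), (51, [0]), (49, [3, 4, 4, 0]), (50, [3, 4, 1, 3, 2, 0]), (47, [4, 3, 1, 4]), (48, [4, 3, 3, 2, 1, 0]), (46,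 [0]), (57, []), (55, []), (56, []), (53, []), (54, []), (52, []), (63, [3, 4, 3]), (61, [1, 4, 1, 1, 3, 1, 1, 0]), (62, []), (59, [3, 1, 1, 4]), (60, []), (58, [4, 2, 1, 0]), (64, [1, 3, 3, 1, 1, 0]), (72, [1, 1, 3, 2, 1, 0]), (66, [2]), (69, [2, 3, 1, 4, 2, 1, 0]), (73, [3, 1, 3, 1, 2, 0]), (67, [1, 4, 1, 1, 3, 1, 0]), (70, [1, 2, 0]), (71, [2]), (65, [3, 2, 3, 3, 1, 0]), (68, [1, 3, 3, 2, 1, 0]), (79, [1, 3, 4, 1, 0]), (77, [1, 4, 1, 2]), (78, []), (75, [4, 3, 1, 1, 3, 1, 2, 0]), (76, []), (74, [4, 3, 1]), (85, [3, 1, 1, 3, 0]), (83, [1, 1, 3, 2, 1]), (84, [2, 1, 0]), (81, [3, 2, 3, 3, 1]), (82, [2, 1, 0]), (80, [4, 1, 4]), (91, [4, 2, 1, 0]), (89, [3, 3, 0]), (90, [2, 3, 3, 1, 2]), (87, [3, 3, 0]), (88, [2, 4, 4, 2, 1]), (86, [3, 4, 3]), (92, [2]), (100, [1, 4, 1, 1, 3, 1, 2, 0]), (94, [2, 1, 0]), (97, [2, 1]), (101, [3, 3]), (95, [2, 1]), (98, [2, 4, 4, 2]), (99, [2, 1, 0]), (93, [3,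 1, 4, 2, 1, 0]), (96, [3, 3]), (107, []), (105, []), (106, [3, 1, 1, 4]), (103, []), (104, [1, 4, 1, 1, 3, 1, 1, 0]), (102, []), (113, [3, 3, 3, 2, 1]), (111, [0]), (112, [1, 3, 4, 2]), (109, [0]), (110, [1, 3, 4, 1, 1]), (108, [3, 2, 0]), (119, [4]), (117, [2, 3, 3, 2, 1]), (118, [1, 4, 1, 1, 3, 1, 0]), (115, [3, 1, 3]), (116, [2, 3, 1, 4, 2, 1, 0]), (114, [3, 4, 3, 2])],
  [(0, [3]), (28, [4, 3, 1, 3]), (12, [3, 1, 3, 2, 0]), (26, [4, 1, 3, 1, 1]), (14, [3, 4, 1, 3, 1, 2, 0]), (19, [1, 3, 3, 1, 2, 0]), (33, [1, 4, 1, 1, 3, 2]), (35, [2, 1, 0]), (9, [4, 1, 1, 0]), (31, [1, 4, 1]), (6, [2, 3, 1, 4, 1, 1, 0]), (24, [3, 3, 2]), (2, [3, 1, 3, 1, 0]), (30, [1, 2]), (27, [3, 3, 3, 1, 1, 0]), (16, [4, 1, 4, 2, 0]), (22, [1, 3, 3, 2, 1, 0]), (10, [3, 4, 2, 0]), (36, []), (7, [1, 4, 1, 2]), (18, [4, 3, 1, 3, 1, 1]), (4, [1, 3, 3]), (23, [2, 3, 3, 0]), (15, []), (11, [4, 4, 1, 1, 0]), (29, [3, 1,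 1, 3, 0]), (3, [3, 1, 1, 4, 1, 2, 0]), (21, [1, 3, 4, 1, 0]), (1, [4, 3, 3, 1, 0]), (25, [2, 3, 3]), (13, []), (32, [4, 1, 4, 1, 2]), (8, [4, 1, 4, 1, 0]), (17, [1, 3, 4, 0]), (20, [4, 3, 1, 3, 2]), (5, [4, 2, 0]), (34, []), (56, [4, 2, 3, 3, 1, 2, 0]), (39, [4, 1, 1, 3, 2, 1, 0]), (59, [1, 4, 1, 0]), (48, []), (63, [1, 4, 1]), (40, [4, 3, 1, 0]), (44, [4, 3, 1, 2, 0]), (52, [3, 4, 2, 0]), (49, [4, 1, 3, 1, 1, 0]), (42, [1, 3, 4, 1]), (55, [4, 3, 1, 1, 3, 1, 1]), (46, []), (54, [3, 1, 4, 1]), (50, [4, 3, 1, 4, 1]), (37, [2, 4, 4, 2, 0]), (53, [1, 1, 3, 1, 1, 0]), (43, [4, 3, 1, 4, 2, 1]), (62, []), (41, []), (58, [3, 3, 3, 2, 1]), (57, [1, 1, 3, 1, 1]), (51, [3, 4, 2]), (60, [4, 3, 0]), (38, [4, 1, 1]), (61, [1, 1, 3, 1, 1]), (45, []), (47, []), (64, [4, 3, 3, 2, 0]), (84, []), (67, [1, 3, 1, 2]), (87, [1, 3, 1, 2, 0]), (76, [1, 3, 4, 1, 2, 0]), (91, [1, 1, 4]), (68, [1, 4, 2, 1]), (72,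 [1, 3, 4, 0]), (80, [1, 3, 3, 3, 1, 1]), (77, [3, 1, 3, 1]), (70, [1, 3, 3, 1, 2]), (83, []), (74, [3, 1]), (82, []), (78, [4, 3, 3, 2, 0]), (65, [3]), (81, [3, 1, 1, 0]), (71, [3, 4, 2, 1, 0]), (90, [3, 1, 3, 1]), (69, [3, 4, 3, 2, 1, 0]), (86, [4, 3, 3, 0]), (85, [4, 2, 3, 3, 2, 1]), (79, [4, 1, 1, 3, 0]), (88, [4, 3, 1, 1, 3, 2, 0]), (66, [1, 4, 1, 1, 0]), (89, [3, 4, 3, 2, 0]), (73, []), (75, []), (92, [1, 3, 4, 1, 1, 0]), (112, [4, 1, 1, 3, 1, 1, 0]), (95, []), (115, [1, 1, 4, 1, 2, 0]), (104, [3, 4, 1, 3, 2, 0]), (119, [4, 1, 3, 0]), (96, [3, 2, 3, 3, 2, 1, 0]), (100, [1, 3, 3, 3, 1, 1]), (108, [1, 1, 4, 2, 1, 0]), (105, [1, 3, 2]), (98, [1, 3, 4, 2]), (111, []), (102, [2, 3, 3, 2, 0]), (110, []), (106, [2, 3, 1, 4, 1, 2]), (93, [4, 3, 1, 1]), (109, [3, 4, 1, 3, 1, 1, 0]), (99, [3, 4, 4, 2, 0]), (118, [3, 4, 3, 1, 0]), (97, [3, 4, 4, 2, 0]), (114, []), (113, [2, 3, 1, 4, 1, 2]), (107,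 [3, 1, 1, 3, 1]), (116, [4, 1, 1, 0]), (94, [3, 1, 1, 3, 1, 2]), (117, [2, 3, 1, 4, 2, 1]), (101, [1, 4, 1, 1, 3, 1, 0]), (103, [4, 3, 1, 3, 1, 2, 0])],
  [(0, [4]), (8, [2, 3, 3, 2, 0]), (22, [3, 1, 1, 3, 2, 1, 0]), (36, [3, 3, 0]), (31, [3, 1, 3, 1]), (15, [4, 1, 4, 0]), (20, [3, 2, 3, 3, 1, 2]), (24, [4, 2, 3, 3, 2, 1, 0]), (1, [1, 3, 3, 2, 0]), (35, [1, 3, 3]), (23, [2, 1]), (19, [4, 4]), (11, []), (6, [3, 1, 4, 1, 1]), (16, [3, 4, 3, 2]), (17, [3, 4, 0]), (28, [3, 4, 3, 2]), (29, [3, 1, 1, 4, 1, 1, 0]), (12, []), (18, [4, 4]), (27, [3, 2, 3, 3, 1, 2]), (34, [2, 4, 4, 2]), (2, [4, 4, 1, 1, 0]), (10, []), (4, [4, 1, 4, 2]), (33, []), (25, [3, 1, 4, 1, 0]), (13, [1, 3, 4]), (30, [4]), (5, []), (14, [4]), (7, [3, 4, 1, 3, 2]), (26, [3, 1, 4, 1, 2, 0]), (32, [4, 4, 2]), (21, [2, 4, 4, 1]), (9, [4, 1, 4, 2, 0]), (3, []), (57, [1, 1, 3, 1, 1]), (48, [4, 1, 3, 1, 1, 0]), (38, [3, 3, 2, 1,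 0]), (42, [2, 4, 4]), (61, [1, 3, 4, 0]), (52, [1, 4, 2, 0]), (59, [1, 3, 3, 3, 1]), (43, [4, 4]), (50, [2, 3, 1, 4, 2, 1]), (62, [1, 3, 3, 3, 1]), (39, [3, 2, 3, 3, 0]), (47, [1, 4, 1, 0]), (49, [4, 1, 1]), (60, [4, 3, 3, 2, 1, 0]), (41, [1, 3, 3, 3, 1]), (54, [4, 1, 1]), (51, []), (40, []), (45, [4, 1, 1, 0]), (56, [4, 1, 1]), (46, []), (44, []), (58, [3, 2, 3, 3, 2]), (55, [4, 1, 3, 1, 1]), (53, [4, 3, 1, 1, 3, 2, 1, 0]), (37, []), (63, [4]), (64, [4, 1, 1, 3, 1]), (85, [1, 3, 3, 3, 1]), (76, [1]), (66, [2, 4, 4]), (70, [3, 4, 1, 0]), (89, [4, 3, 1, 2]), (80, [3, 1, 1, 4, 1, 2, 0]), (87, [4, 1, 1, 3, 1]), (71, [3, 4, 3, 2]), (78, [3, 4, 3, 2, 1, 0]), (90, [3, 1, 1, 4, 0]), (67, [1, 1, 4, 1, 0]), (75, [4, 2, 3, 3, 2, 0]), (77, [4, 1, 1, 3, 1]), (88, [2, 3, 3, 2]), (69, [3, 1, 1, 3, 1, 0]), (82, [3, 1, 4, 0]), (79, [4, 3, 1, 4, 0]), (68, [3, 1, 4, 1, 2]), (73, [3, 3, 3, 0]), (84, [2, 3,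 1, 4, 2, 1, 0]), (74, [3, 4, 4, 2, 1, 0]), (72, []), (86, [1, 1, 3, 1]), (83, [4, 1, 1, 3, 1]), (81, [4, 3, 1, 1, 3, 2, 0]), (65, [4, 1, 1, 3, 1]), (91, [4, 1, 1, 3, 1]), (92, [1, 3, 3, 3, 1, 0]), (113, [3, 4, 1, 3]), (104, []), (94, [4, 3, 3, 2, 0]), (98, [4, 1, 1, 3, 1]), (117, [1, 3, 3]), (108, [4, 3, 1, 1, 0]), (115, [3, 3, 2, 1]), (99, [3, 1, 1, 4, 1, 0]), (106, [1, 3, 4, 2, 1, 0]), (118, [3, 4, 1]), (95, [2, 3, 3, 2, 0]), (103, [4, 2, 3, 3, 1, 0]), (105, [3, 2, 3, 3, 1, 2]), (116, [2, 4, 4, 1, 2]), (97, [4, 4, 2, 1, 0]), (110, [1, 3, 3, 1]), (107, [4]), (96, [3, 1, 1, 3, 2, 1, 0]), (101, [1, 3, 3, 0]), (112, [1, 3, 3, 3, 1, 0]), (102, [4, 0]), (100, [3, 4, 4, 1, 1, 0]), (114, [4, 1, 0]), (111, [1, 4, 1, 1, 3, 2, 1]), (109, [4, 3, 3, 1, 2]), (93, [2, 3, 1, 4, 1, 2, 0]), (119, [1, 3, 4, 4, 1, 0])],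
  [(54, []), (46, [3, 2, 3, 3, 1, 0]), (81, [1, 1]), (116, [4, 1, 3, 1, 1]), (6, [3, 4, 3, 2, 1]), (4, [1, 1, 4, 1, 0]), (5, [1, 1, 0]), (76, [4, 1, 4, 1, 1]), (100, [2, 3, 3, 1, 0]), (34, [1, 4, 1, 1, 3, 2, 1, 0]), (57, [4, 3, 1, 3, 1, 1, 0]), (94, [4]), (28, []), (55, [4, 3, 1, 4, 1, 2, 0]), (97, [4, 3, 3, 1, 1, 0]), (31, [3, 4, 2, 0]), (56, [2, 4, 4]), (108, [4, 3]), (91, []), (45, [4, 2, 0]), (15, [3, 1, 1, 4, 1, 1]), (89, [4, 1, 3, 1, 2, 0]), (39, [1, 3, 4, 4, 2, 1, 0]), (9, []), (90, [1, 4, 2, 1]), (42, []), (12, [2]), (59, [3, 1, 1, 4, 1, 0]), (26, [2]), (107, [4, 3, 2, 0]), (71, []), (20, [2, 3, 3, 1, 1, 0]), (105, []), (65, [2, 3, 1, 4, 1, 0]), (23, [3, 1, 1, 4, 2, 0]), (106, [4, 1, 1, 3, 1, 1, 0]), (68, []), (35, [3, 1, 4, 1, 2]), (99, [4, 1, 3, 2, 0]), (79, [4, 4]), (29, [3, 1, 1, 4, 1, 0]), (93, [1, 1, 4, 1, 1]), (77, [2]), (32, []), (96, [4]), (78, [4, 2, 3, 3, 1]), (80, [1,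 4, 1, 1, 0]), (47, [4, 1, 4, 1, 2]), (3, [4, 4, 1, 2, 0]), (119, [2, 3, 1, 4, 1, 2, 0]), (117, [4, 1, 1]), (118, [3, 4, 3, 2, 1]), (104, [4, 1, 1]), (17, []), (58, []), (72, [4, 1, 2, 0]), (66, []), (69, [1, 3, 1, 0]), (0, []), (88, [3, 4, 4, 2, 1, 0]), (109, [4, 3]), (14, [2, 1]), (8, []), (11, [3, 4, 3, 2]), (86, [3, 2, 3, 3, 1, 2]), (113, [1, 1, 3, 1, 2, 0]), (16, [4, 4, 2]), (44, [3, 4, 3, 2]), (111, [4, 1, 4, 1, 2, 0]), (10, [3, 1, 4]), (38, [3, 1, 3, 1, 2]), (112, [2]), (13, [1, 3, 4]), (41, [4, 2, 3, 3, 2, 1, 0]), (60, [1, 4, 1, 1, 3, 1, 0]), (64, [3, 1]), (102, [3, 1, 1, 3, 1, 1, 0]), (25, [2]), (19, []), (22, [1, 3, 4, 4, 2]), (1, [3, 1, 1, 4, 1, 1]), (115, [1, 1, 4, 1, 2]), (82, [4, 1, 4, 1, 2]), (51, [3, 3, 3, 1, 2, 0]), (49, [3, 3, 2]), (50, [1, 4, 1, 0]), (75, [3, 3, 1, 2, 0]), (52, [4, 2, 3, 3, 1, 2, 0]), (27, [4, 2, 3, 3, 1, 0]), (101, [1, 3, 3, 1, 1]), (95, [2, 3, 3, 0]),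 (98, [4, 4]), (103, []), (73, [1, 1]), (63, []), (24, [1, 1, 4, 0]), (67, []), (61, [4, 3, 1, 3, 0]), (18, [4, 4]), (70, [4, 3]), (62, [4, 4, 2, 1, 0]), (21, [4, 1, 1, 3, 2, 1, 0]), (7, []), (110, [1, 3, 4, 2, 1, 0]), (87, []), (43, []), (37, [2, 3, 3, 2, 0]), (40, [4, 1, 4, 1, 1]), (53, [4, 3, 2]), (74, [3, 1, 1, 3, 0]), (92, [3, 4, 1, 1, 0]), (36, [3, 1, 1, 3, 1, 2]), (30, [2]), (33, [4, 3, 3, 2, 1]), (114, [4, 1, 4, 1, 2]), (2, [3, 4, 3, 1]), (48, [4, 3, 2, 0]), (85, [1, 3, 3, 1, 0]), (83, [2, 3, 1, 4, 1, 1]), (84, [4, 3, 1])],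
  [(18, []), (69, [2, 4, 4, 1, 2]), (101, [4, 3, 1, 3, 1, 2]), (37, [4, 3, 0]), (52, [1, 1, 0]), (87, [4, 4, 1]), (104, [4, 4]), (90, [1, 4, 2, 1]), (48, [4, 3, 2, 0]), (9, [3, 1, 3, 2, 1]), (79, [3, 1, 1, 4, 1, 1, 0]), (64, [2, 3, 1, 4, 1, 2, 0]), (93, []), (45, [1, 3, 3, 1, 0]), (108, [3, 1, 1, 3, 2]), (83, [3, 3, 1]), (25, [2, 4, 4]), (107, [4, 3, 2, 0]), (30, []), (59, [3, 1, 1, 4, 1, 0]), (118, []), (111, [4, 1, 1, 3, 2]), (80, [1, 4, 0]), (23, [3, 1, 3, 2, 1]), (65, [4, 1, 4, 2, 1]), (92, []), (41, [4, 2, 3, 3]), (55, [3, 1, 1, 4, 2, 1]), (73, [1, 1]), (97, [3, 4, 4, 2, 0]), (0, []), (51, [3, 4, 3, 1, 0]), (11, [4, 4]), (76, [3, 1, 1, 4, 1, 1]), (34, [2, 4, 4, 1, 1]), (62, [1, 4, 1, 1, 3, 2, 1]), (115, []), (100, []), (70, []), (1, [3, 3, 0]), (14, []), (50, [3, 1, 3, 1, 1, 0]), (103, []), (63, [3, 4, 3, 2]), (31, [1, 4, 1, 1]), (88, [0]), (10, [4, 3, 1, 3, 1, 2]), (47, [4, 1, 4,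 2, 1]), (106, [1, 3, 4, 1]), (119, [3, 1, 4, 1, 0]), (26, [4, 2, 3, 3]), (44, [4, 4, 1]), (60, [1, 3, 1, 0]), (29, []), (91, []), (78, [4, 1, 1, 3, 2, 1]), (42, []), (22, []), (98, [4, 4]), (72, [4, 1]), (4, [3, 3, 3, 1, 1]), (17, [3, 1, 1, 4, 2, 0]), (116, []), (75, [3, 3, 1, 2, 0]), (32, [2, 3, 1, 4, 1, 2, 0]), (102, [3, 1, 1, 3, 2]), (77, [2]), (15, [3, 1, 1, 4, 1, 1]), (2, [3, 4, 3, 1]), (39, [3, 1, 3, 2, 1]), (99, [4, 1, 1, 3, 2]), (54, []), (19, [3, 2, 3, 3, 1, 2]), (85, [0]), (5, [3, 1, 3]), (43, [1, 1, 4, 1, 0]), (95, [4, 3, 3, 2, 1, 0]), (110, [1, 3, 4, 1, 1]), (27, []), (46, [4, 3, 1, 4, 1, 1]), (57, [3, 4, 3, 1, 2, 0]), (21, [1, 3, 3, 3, 1]), (82, [2, 3, 3, 1, 0]), (67, [1, 4, 1, 1, 3, 2]), (49, [2, 3, 3, 1, 1]), (28, [1]), (105, [4]), (74, [4, 4, 2, 1, 0]), (13, [4, 4, 1, 0]), (36, [4, 4, 2, 1, 0]), (113, [2, 3, 1, 4, 1, 1, 0]), (71, []), (16, [4, 4, 2]), (117, [4, 4]), (86,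 []), (33, [3, 1, 2, 0]), (20, []), (53, [1, 3, 4, 4, 1, 1]), (112, [2, 4, 4]), (38, [2, 3, 1, 4, 0]), (3, [4, 3, 2, 0]), (68, [2, 4, 4, 2, 1]), (24, []), (56, []), (109, [2, 3, 3, 2, 1]), (94, [3, 4, 3, 2]), (8, [2, 1]), (61, [4, 1, 4, 1, 2]), (40, [4, 1, 4, 2, 1]), (6, [3, 1, 3, 2]), (66, [3, 4, 1, 1, 0]), (81, [3, 4, 1, 3, 0]), (58, [2]), (7, [1, 3, 0]), (114, [4, 1, 4, 2, 0]), (89, [2, 3, 3, 1, 0]), (35, [3, 1, 1, 4, 2]), (12, [4, 4]), (96, []), (84, [3, 4, 2, 1])],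
  [(105, []), (36, [2, 3, 1, 4, 2]), (8, [1, 3]), (22, [3, 4, 3, 1, 2, 0]), (41, [2, 4, 4, 2, 1]), (73, [0]), (93, []), (53, [4, 3, 2]), (10, [3, 1, 4]), (34, [4, 1, 1, 3, 1, 2]), (2, [3, 4, 1, 3, 1, 2]), (103, [2, 4, 4]), (118, []), (95, [2, 4, 4, 2, 1]), (78, []), (87, [1, 3, 4, 0]), (71, [4, 4]), (88, [3, 4, 4, 2, 1, 0]), (94, [3, 4, 3, 2]), (113, [1, 1, 3, 1, 2, 0]), (104, [4, 4]), (3, [1, 4, 1, 1, 3, 1, 1, 0]), (21, [1, 3, 3, 3, 1]), (9, [2, 4, 4, 1, 0]), (40, [4, 1, 4, 2, 1]), (54, [2]), (51, [1, 1, 4, 2, 0]), (102, [3, 1, 1, 3, 2]), (83, [2, 3, 1, 4, 1, 1]), (72, [4, 1]), (86, [3, 4, 3, 2]), (52, [4, 3, 1, 1, 3, 2, 1]), (42, [2]), (61, [2, 3, 1, 4, 2, 0]), (23, [4, 1, 3]), (1, [4, 1, 3]), (35, []), (80, [4, 3, 2, 0]), (70, [4, 4, 2, 1, 0]), (89, [3, 4, 2]), (55, [3, 1, 1, 4, 2, 1]), (44, [2, 4, 4]), (58, [2]), (25, [2]), (4, [1, 3, 3, 1, 0]), (33, [4, 3, 1, 4, 2, 1]), (68, [1, 1,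 4, 2, 1]), (82, [3, 4, 4, 2, 1]), (79, [3, 1, 4]), (119, [4, 3, 2, 0]), (31, [1, 1, 4, 1, 2]), (60, [1, 3, 0]), (50, []), (59, []), (43, []), (24, [4, 3, 2, 0]), (112, []), (81, []), (32, []), (7, [4, 3]), (26, [1, 4, 1, 1, 3, 2]), (45, [4, 1, 0]), (69, []), (92, [4, 2, 1, 0]), (56, [3, 1, 4, 1, 2, 0]), (14, []), (30, [2]), (5, [1, 1, 0]), (106, [4, 1, 1, 3, 1, 1, 0]), (115, [3, 1, 1, 4, 2]), (99, [3, 1, 1, 4]), (75, [4, 3, 1, 1, 3, 1, 0]), (90, [4, 1, 1, 3, 1]), (67, [1, 0]), (28, [2, 3, 3, 2]), (16, [1, 1, 4, 2]), (17, [3, 1, 1, 4, 2, 1]), (0, []), (65, []), (101, [4, 1, 3, 1, 0]), (111, [1, 3, 3, 1]), (100, [4, 3, 1, 4]), (114, [1, 3]), (74, [2, 3, 1, 4]), (49, [1, 0]), (15, [3, 1, 1, 4, 0]), (66, [4, 2, 1, 0]), (85, [1, 3, 3, 1, 0]), (76, [4, 2, 3, 3, 1, 2]), (116, [4, 1, 3, 2, 0]), (29, [1, 3, 3, 3, 1]), (63, [3, 4, 3, 2]), (91, [2]), (96, []), (110, [3, 4, 4, 1, 1, 0]), (107, [1,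 4, 2, 1]), (6, []), (19, [3, 4, 1, 3, 1, 0]), (11, []), (38, [4, 1, 1, 3, 1, 0]), (57, [3, 4, 4, 0]), (48, [1, 3, 3, 2, 1]), (108, []), (98, [4, 4, 2]), (117, []), (77, []), (46, [3, 3, 3, 1, 2, 0]), (13, [4, 3, 1, 1, 3, 1]), (27, [4, 1, 4, 2, 1]), (12, [3, 1, 3, 2]), (18, [1, 3, 4, 2]), (37, [1, 3, 4, 1, 1]), (64, [4, 1, 1, 3, 1, 2]), (97, [4, 3, 1, 2]), (47, [3, 1, 1, 3, 1, 1]), (62, [1, 4, 1, 1, 3, 2, 1]), (39, [3, 1, 3, 2, 1]), (20, [4, 4]), (109, [3, 3, 2, 1]), (84, [1, 3, 4, 1, 2, 0])],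
  [(94, []), (79, [4, 1, 4, 2]), (111, [1, 1, 4, 2, 1, 0]), (62, [3, 4, 2, 0]), (60, [3, 1, 4, 1, 2]), (74, [1, 4, 1, 1, 3, 0]), (109, [3, 1, 2, 0]), (14, [1, 4, 2, 1]), (115, [4, 1, 1, 3, 2, 0]), (69, [2, 3, 1, 4, 1, 1]), (9, [3, 3, 1]), (7, [1, 3, 3, 1, 1, 0]), (56, [2, 4, 4]), (117, [3, 4, 2, 0]), (54, [4]), (13, [4, 3, 3, 2, 0]), (67, [3, 4, 3, 2]), (19, [1]), (96, []), (86, [4]), (24, [1, 1, 3, 2, 0]), (23, [1, 4, 1, 1, 3, 2]), (48, [1, 1, 4, 2, 1]), (101, []), (50, [4, 1, 4, 1, 2]), (17, [1, 3, 3, 1, 2, 0]), (91, [2, 3, 1, 4, 1, 0]), (33, [4, 2, 1, 0]), (105, [4]), (85, []), (27, [4]), (29, [3, 4, 4, 2, 0]), (44, [3, 2, 3, 3, 1, 2]), (103, [2, 4, 4, 2]), (37, [1, 3, 3, 1]), (34, [4, 1, 3, 1, 2, 0]), (80, []), (21, []), (46, [3, 1, 0]), (99, [4, 1, 3, 1, 2]), (98, []), (88, [3, 0]), (26, []), (90, []), (92, [2, 4, 4]), (51, [3, 1, 4, 1, 1]), (39, [3, 3, 3, 1, 1]), (36, [3, 4, 1, 3,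 2, 1, 0]), (82, [4, 3, 2]), (84, [4, 3, 1, 1, 3, 1, 2, 0]), (41, [3, 4, 0]), (31, [4, 1, 3, 2]), (63, [1, 1]), (4, []), (78, []), (76, [0]), (58, [4, 2]), (2, []), (52, [3, 3, 1, 0]), (11, [1, 1, 3, 1, 1]), (65, [3, 1, 3, 2, 0]), (72, [2, 1]), (57, [3, 4, 4, 0]), (16, []), (42, [2]), (83, [3, 4, 1, 3, 0]), (107, [3, 1, 1, 3, 2, 1]), (0, [4, 4]), (38, [3, 1, 4, 1]), (35, [4, 1, 3, 2]), (81, [3, 3, 3, 2]), (28, [2, 3, 1, 4, 1, 2, 0]), (43, [3, 4, 3, 2]), (102, [4, 3, 1, 3, 1, 1, 0]), (97, [1, 4, 1, 1, 3, 2, 1]), (87, [1, 1, 4, 2]), (25, [2, 4, 4, 1, 2]), (18, [4, 1, 1, 3, 1]), (95, [4, 1, 4]), (89, [4, 1, 1, 3, 1, 2, 0]), (114, [1, 4, 1, 2, 0]), (68, [4, 3, 3, 2, 1, 0]), (8, [4, 4, 2, 1, 0]), (15, [4, 3, 1, 1, 3, 1, 1, 0]), (119, [2, 4, 4, 2, 1, 0]), (73, [1, 3, 3, 3, 1, 1, 0]), (113, [3, 1, 3, 1, 0]), (77, [4, 1, 1, 3, 1]), (5, [3, 1, 3, 2, 1, 0]), (3, [1, 3, 3]), (108, [4, 3, 1, 1, 0]),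 (75, [3, 3, 3, 2, 1]), (71, [3, 2, 3, 3, 1]), (53, [1, 3, 3, 1, 0]), (12, [4, 4]), (66, [3, 1, 1, 3, 2, 1]), (64, []), (118, [4, 1, 4, 1, 2, 0]), (55, [1, 2, 0]), (116, [3, 4, 1]), (70, [2, 3, 3, 1, 1]), (10, [3, 1, 3]), (6, [3, 4, 1]), (61, [1, 1, 4, 1, 1, 0]), (112, [4, 2, 3, 3, 1, 0]), (110, [1, 1, 4, 1, 2, 0]), (1, []), (59, [3, 2, 3, 3, 1, 2]), (30, [3, 4, 1]), (45, [3, 1, 1, 3]), (104, [3, 3, 1, 0]), (106, [4, 1, 3, 0]), (32, [3, 2, 3, 3, 1]), (40, [4, 3, 1, 3, 2, 1, 0]), (22, [3, 1, 3, 1]), (47, [1, 4, 1, 2]), (100, [2, 4, 4, 2, 1]), (93, [4]), (20, [2, 3, 1, 4, 1, 2, 0]), (49, [4, 3, 1, 3, 2, 1])],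
  [(0, [1, 2, 0]), (4, [4, 4]), (5, [3, 3, 1]), (6, [2, 3, 1, 4, 1, 1]), (1, [4, 4]), (2, [4, 4, 1, 1, 0]), (3, [1, 4, 1, 1, 3, 2]), (7, [3, 1, 3, 1, 0]), (8, [2, 3, 3, 2, 0]), (11, [4, 2, 3, 3, 2, 0]), (14, [3, 4, 1, 3, 1, 2, 0]), (9, [1, 1, 4, 1, 1, 0]), (12, [2, 1]), (15, [3, 1, 1, 3, 1]), (10, [4, 3, 1, 3, 1, 2, 0]), (13, [4, 1, 4, 1, 0]), (16, [2, 3, 3, 2, 0]), (17, [1, 2]), (18, [3, 3, 0]), (21, [4, 4, 2]), (24, [3, 4, 1, 3, 1, 1, 0]), (19, [2, 4, 4]), (22, [2, 4, 4, 2, 0]), (25, [0]), (20, [3, 4, 1, 3, 2, 1]), (23, [0]), (26, [4, 4, 0]), (27, [2, 1]), (28, [1, 3, 3, 1, 1]), (31, [4, 1, 4, 2, 0]), (34, [2, 4, 4, 1, 1, 0]), (29, [3, 1, 1, 3, 2, 1, 0]), (32, [3, 1, 3, 1, 0]), (35, [3, 4, 3, 2]), (30, [3, 3, 1, 2]), (33, [4]), (36, [2, 1]), (37, [2, 4, 4, 2]), (40, []), (43, [2, 0]), (38, []), (41, [2, 4, 4, 2]), (44, [4, 3, 3, 2, 0]), (39, [2, 0]), (42, [4, 3, 3, 1]), (45, [2, 4, 4,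 2]), (49, []), (50, [4, 1, 1, 0]), (51, [1, 1, 3, 1, 1, 0]), (46, []), (47, [4, 2, 3, 3, 1, 2]), (48, [1, 3, 3, 3, 1, 0]), (55, [0]), (56, [0]), (57, []), (52, [0]), (53, [0]), (54, []), (61, []), (62, [1, 4, 1, 2, 0]), (63, [3, 4, 2, 1]), (58, []), (59, [4, 3, 1, 1, 3, 1, 2]), (60, [3, 4, 0]), (64, [3, 1, 3, 1]), (65, [2, 3, 3, 2]), (68, [1, 4, 2, 0]), (71, [2, 3, 1, 4, 1, 1, 0]), (66, [4, 2, 3, 3]), (69, [1, 2, 0]), (72, [3, 1, 4, 2]), (67, [1, 4, 1, 1, 3, 2, 0]), (70, [4, 1, 3, 2]), (73, [1, 2, 0]), (77, []), (78, [3, 4, 4, 2]), (79, [0]), (74, []), (75, [1, 3, 4, 4, 1, 1, 0]), (76, [0]), (83, [3, 4, 3, 0]), (84, [3, 4, 1, 1, 0]), (85, [4, 4, 1, 1]), (80, [4, 2, 1]), (81, [1, 3, 4, 2, 1, 0]), (82, [3, 3, 1, 0]), (89, [4, 2, 1]), (90, [4, 4, 2, 0]), (91, []), (86, [3, 4, 3, 0]), (87, [2, 4, 4, 0]), (88, []), (92, [3, 1, 3, 1]), (93, [3, 3]), (96, [2, 4, 4, 2, 0]), (99, []), (94, [2, 4,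 4, 2, 0]), (97, [2, 1, 0]), (100, [3, 1, 1, 4, 2, 1, 0]), (95, []), (98, [4, 1, 1, 3, 2, 1, 0]), (101, [4, 4]), (105, []), (106, [0]), (107, [3, 1, 1, 4, 0]), (102, []), (103, [0]), (104, [1, 4, 1, 1, 3, 1, 1]), (111, [3, 3, 3, 2, 1]), (112, [1, 3, 4, 2, 0]), (113, []), (108, [3, 2, 0]), (109, [1, 3, 4, 1, 1, 0]), (110, []), (117, [1, 4, 1, 1, 3, 0]), (118, [4, 3, 1, 3, 2, 0]), (119, []), (114, [3, 1, 4, 1, 1, 0]), (115, [4, 3, 1, 3, 1, 1, 0]), (116, [])]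
]

theorem Blevel0 : TableChain2.levelCheck tab 10 5 145 chk BT0 BE0 = true := by
  decide +kernel

def BT1 : List (List ℕ) := [
  [],
  [3, 1, 3],
  [2, 4, 4],
  [2, 3, 3],
  [4, 4],
  [3, 3],
  [1, 3, 3],
  [4, 3, 1, 3],
  [4, 3],
  [1, 3, 4, 4],
  [3, 4],
  [4, 3, 1, 4],
  [3, 4, 1, 3],
  [3, 4, 4],
  [4, 3, 3],
  [1, 3, 4],
  [3, 1, 1, 3],
  [3, 1, 4],
  [3, 3, 3],
  [1, 4],
  [1, 3, 3, 3],
  [1, 1, 4],
  [3, 1, 1, 4],
  [4],
  [2, 3, 1, 4],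
  [3, 2, 3, 3],
  [4, 1, 4],
  [1, 3],
  [4, 3, 1, 1, 3],
  [4, 1, 3],
  [3, 4, 3],
  [4, 1, 1, 3],
  [1, 1, 3],
  [1, 4, 1, 1, 3],
  [3],
  [4, 2, 3, 3]
]

def BE1 : List (List (ℕ × List ℕ)) := [
  [(0, [0]), (1, [0]), (2, [0]), (3, [0]), (4, [0]), (5, [0]), (6, [0]), (7, [0]), (8, [0]), (9, [0]), (10, [0]), (11, [0]), (12, [0]), (13, [0]), (14, [0]), (15, [0]), (16, [0]), (17, [0]), (18, [0]), (19, [0]), (20, [0]), (21, [0]), (22, [0]), (23, [0]), (24, [0]), (25, [0]), (26, [0]), (27, [0]), (28, [0]), (29, [0]), (30, [0]), (31, [0]), (32, [0]), (33, [0]), (34, [0]), (35, [0])],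
  [(0, [1]), (3, [2]), (1, [2, 1, 0]), (2, [1, 1, 0]), (5, [1]), (6, []), (4, [1, 1]), (12, [2, 0]), (10, [1, 2]), (11, [2, 1]), (15, []), (13, [2, 1, 0]), (14, [1, 2, 0]), (9, []), (7, [1, 1]), (8, [1, 2, 0]), (16, [1, 1, 0]), (22, [1, 0]), (20, []), (21, []), (25, [2, 1, 0]), (23, [0]), (24, [2, 1, 0]), (19, []), (17, [1, 2]), (18, [2, 1]), (26, [1, 1, 0]), (32, []), (30, [2, 0]), (31, [1, 0]), (35, [1]), (33, []), (34, [0]), (29, [1, 1, 0]), (27, []), (28, [1, 2])],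
  [(0, [2]), (6, [2]), (4, []), (5, []), (2, []), (3, []), (1, [2]), (14, [2, 0]), (8, [2]), (11, [1, 0]), (15, [2, 1]), (9, [1, 1]), (12, [1, 2, 0]), (13, [1, 2, 0]), (7, [2, 0]), (10, [2, 1]), (16, [2, 1, 0]), (24, []), (18, [2, 1, 0]), (21, [2, 1]), (25, [0]), (19, [2, 1]), (22, [2]), (23, [2, 1, 0]), (17, []), (20, [0]), (26, [2, 1, 0]), (34, [2, 0]), (28, [2]), (31, [2, 0]), (35, [1, 2, 0]), (29, [2, 0]), (32, [2]), (33, [1, 2, 0]), (27, [2, 0]), (30, [1, 2, 0])],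
  [(34, []), (27, [1, 2, 0]), (11, [1]), (25, []), (13, []), (18, []), (32, [2, 1]), (8, [1]), (30, []), (6, [2]), (23, [1, 2, 0]), (2, [2, 0]), (29, [2]), (26, [2, 1]), (15, [2, 1]), (21, [2, 0]), (9, [1]), (35, [1, 2]), (0, []), (17, []), (4, [2, 1]), (22, []), (14, [1, 1]), (10, []), (28, [2, 0]), (3, [2]), (20, []), (1, []), (24, [1, 1, 0]), (12, []), (31, [2]), (7, [2, 1]), (16, []), (19, [1, 1]), (5, []), (33, [2, 1])],
  [(23, []), (7, []), (21, [1, 1]), (35, []), (30, [2]), (14, []), (19, [1, 2, 0]), (1, [2]), (34, [1, 2, 0]), (22, [1]), (18, [2, 1, 0]), (10, [2, 1]), (6, [1, 1]), (15, [1]), (16, [2]), (27, [1, 0]), (28, []), (11, []), (17, [0]), (26, []), (33, [2]), (2, [2, 1, 0]), (9, [1, 2]), (4, []), (32, [2, 1]), (24, [0]), (12, [2, 1, 0]), (29, []), (5, [2]), (13, [1]), (0, [2]), (25, [2, 1, 0]), (31, []), (20, [1, 0]), (8, []), (3, [1, 2, 0])]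
]

theorem Blevel1 : TableChain2.levelCheck tab 5 3 97 chk BT1 BE1 = true := by
  decide +kernel

def BT2 : List (List ℕ) := [
  [],
  [1, 2],
  [2],
  [2, 1],
  [1],
  [1, 1]
]

def BE2 : List (List (ℕ × List ℕ)) := [
  [(0, [0]), (1, [0]), (2, [0]), (3, [0]), (4, [0]), (5, [0])],
  [(4, []), (3, [0]), (1, []), (2, []), (5, []), (0, [0])],
  [(2, []), (5, [0]), (0, []), (4, []), (3, []), (1, [0])]
]

theorem Blevel2 : TableChain2.levelCheck tab 3 1 85 chk BT2 BE2 = true := by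
  decide +kernel

def BT3 : List (List ℕ) := [
  [],
  [0]
]

def BE3 : List (List (ℕ × List ℕ)) := [
  [(1, []), (0, [])]
]

theorem Blevel3 : TableChain2.levelCheck tab 1 0 1 chk BT3 BE3 = true := by
  decide +kernel

theorem Alvl0 : TableChain2.Data.LevelOK D1 5 4 1 AT0 AE0 :=
  TableChain2.Data.levelOK_of_check (D := D1) (by decide) (by decide) Alevel0

theorem Alvl1 : TableChain2.Data.LevelOK D1 4 3 3 AT1 AE1 :=
  TableChain2.Data.levelOK_of_check (D := D1) (by decide) (by decide) Alevel1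

theorem Alvl2 : TableChain2.Data.LevelOK D1 3 1 9 AT2 AE2 :=
  TableChain2.Data.levelOK_of_check (D := D1) (by decide) (by decide) Alevel2

theorem Alvl3 : TableChain2.Data.LevelOK D1 1 0 27 AT3 AE3 :=
  TableChain2.Data.levelOK_of_check (D := D1) (by decide) (by decide) Alevel3

theorem Blvl0 : TableChain2.Data.LevelOK D2 10 5 145 BT0 BE0 :=
  TableChain2.Data.levelOK_of_check (D := D2) (by decide) (by decide) Blevel0

theorem Blvl1 : TableChain2.Data.LevelOK D2 5 3 97 BT1 BE1 :=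
  TableChain2.Data.levelOK_of_check (D := D2) (by decide) (by decide) Blevel1

theorem Blvl2 : TableChain2.Data.LevelOK D2 3 1 85 BT2 BE2 :=
  TableChain2.Data.levelOK_of_check (D := D2) (by decide) (by decide) Blevel2

theorem Blvl3 : TableChain2.Data.LevelOK D2 1 0 1 BT3 BE3 :=
  TableChain2.Data.levelOK_of_check (D := D2) (by decide) (by decide) Blevel3

/-! ### the isomorphism -/

/-- the diagonal group -/
def DG : Subgroup GG := D1.H 5

instance : Finite GG := inferInstance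

theorem card_DG : Nat.card DG = 51840 := by
  show Nat.card (D1.H 5) = 51840
  rw [Alvl0.card, Alvl1.card, Alvl2.card, Alvl3.card, TableChain2.Data.card_H_zero]
  have h0 : AT0.length = 80 := by decide
  have h1 : AT1.length = 24 := by decide
  have h2 : AT2.length = 9 := by decide
  have h3 : AT3.length = 3 := by decide
  rw [h0, h1, h2, h3]

theorem card_D2 : Nat.card (D2.H 10) = 51840 := by
  rw [Blvl0.card, Blvl1.card, Blvl2.card, Blvl3.card, TableChain2.Data.card_H_zero]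
  have h0 : BT0.length = 120 := by decide
  have h1 : BT1.length = 36 := by decide
  have h2 : BT2.length = 6 := by decide
  have h3 : BT3.length = 2 := by decide
  rw [h0, h1, h2, h3]

theorem card_D2_one : Nat.card (D2.H 1) = 2 := by
  rw [Blvl3.card, TableChain2.Data.card_H_zero]
  have h3 : BT3.length = 2 := by decide
  rw [h3]

theorem D2_eq : D2.H 10 = DG := by
  symm
  apply Subgroup.eq_of_le_of_card_ge
  · show D1.H 5 ≤ D2.H 10
    rw [TableChain2.Data.H, Subgroup.closure_le]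
    rintro g ⟨j, hj, rfl⟩
    exact D2.gen_mem (k := 10) (j + 5) (by omega)
  · rw [card_D2, card_DG]

theorem smul_pt_of_fst (d : GG) (h1 : d.1 = 1) (x : ℕ) (hx : x < 81) : d • pt x = pt x := by
  unfold pt
  rw [if_pos hx, SumPt.smul_inl, h1, one_smul]

theorem smul_pt_of_snd (d : GG) (h1 : d.2 = 1) (x : ℕ) (hx : ¬ x < 81) : d • pt x = pt x := by
  unfold pt
  rw [if_neg hx, SumPt.smul_inr, h1, one_smul]

theorem eq_one_of_fst (d : GG) (hd : d ∈ DG) (h1 : d.1 = 1) : d = 1 := by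
  have m4 : d ∈ D1.H 4 := by
    rw [← Alvl0.inf_stabilizer]
    exact ⟨hd, smul_pt_of_fst d h1 1 (by norm_num)⟩
  have m3 : d ∈ D1.H 3 := by
    rw [← Alvl1.inf_stabilizer]
    exact ⟨m4, smul_pt_of_fst d h1 3 (by norm_num)⟩
  have m1 : d ∈ D1.H 1 := by
    rw [← Alvl2.inf_stabilizer]
    exact ⟨m3, smul_pt_of_fst d h1 9 (by norm_num)⟩
  have m0 : d ∈ D1.H 0 := by
    rw [← Alvl3.inf_stabilizer]
    exact ⟨m1, smul_pt_of_fst d h1 27 (by norm_num)⟩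
  rw [TableChain2.Data.H_zero] at m0
  exact m0

theorem mem_of_snd (d : GG) (hd : d ∈ DG) (h1 : d.2 = 1) : d ∈ D2.H 1 := by
  rw [← D2_eq] at hd
  have m5 : d ∈ D2.H 5 := by
    rw [← Blvl0.inf_stabilizer]
    exact ⟨hd, smul_pt_of_snd d h1 145 (by norm_num)⟩
  have m3 : d ∈ D2.H 3 := by
    rw [← Blvl1.inf_stabilizer]
    exact ⟨m5, smul_pt_of_snd d h1 97 (by norm_num)⟩
  rw [← Blvl2.inf_stabilizer]
  exact ⟨m3, smul_pt_of_snd d h1 85 (by norm_num)⟩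

theorem card_G1 : Nat.card G1 = 51840 := by
  have h := Cfsg.Agent.Lib.Helper5.card_symplecticGroup_fin (F := ZMod 3) 2
  rw [ZMod.card, Finset.prod_range_succ, Finset.prod_range_one] at h
  norm_num at h
  exact h

theorem card_G2 : Nat.card G2 = 25920 := by
  have hF : Fintype.card F4c = 2 ^ 2 := by rw [F4c.card_eq]; rfl
  have h1 := Cfsg.Agent.Lib.Helper5.card_SU (F := F4c) (q := 2) hF 4 (by norm_num)
  have h2 := Cfsg.Agent.Lib.Helper5.card_GU (F := F4c) (q := 2) hF 4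
  have hprod : (∏ i ∈ Finset.range 4, if Even i then 2 ^ (i + 1) + 1 else 2 ^ (i + 1) - 1) = 1215 := by
    decide
  rw [h2, hprod] at h1
  norm_num at h1
  show Nat.card ↥(Cfsg.SU 4 F4c 2) = 25920
  omega

theorem card_le_proj₁ : Nat.card DG ≤ Nat.card (proj₁ DG) := by
  apply Nat.card_le_card_of_injective (fun d : DG => (⟨d.1.1, fst_mem d.2⟩ : proj₁ DG))
  intro d d' h
  have h1 : d.1.1 = d'.1.1 := congrArg Subtype.val h
  have h2 : (d⁻¹ * d').1.1 = 1 := by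
    show d.1.1⁻¹ * d'.1.1 = 1
    rw [h1, inv_mul_cancel]
  have h3 := eq_one_of_fst _ (d⁻¹ * d').2 h2
  have h4 : d⁻¹ * d' = 1 := Subtype.ext h3
  exact inv_mul_eq_one.1 h4

theorem proj₁_top : proj₁ DG = ⊤ := by
  have h2 := card_le_proj₁
  rw [← Subgroup.card_eq_iff_eq_top, card_G1]
  rw [card_DG] at h2
  have h3 : Nat.card (proj₁ DG) ≤ Nat.card G1 := Subgroup.card_le_card_group _
  rw [card_G1] at h3
  omega

theorem proj₂_top : proj₂ DG = ⊤ := by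
  let π₂ : DG →* proj₂ DG := (MonoidHom.snd G1 G2).subgroupMap DG
  have hs₂ : Function.Surjective π₂ := MonoidHom.subgroupMap_surjective _ _
  have hk : Nat.card π₂.ker ≤ 2 := by
    refine le_trans ?_ (le_of_eq card_D2_one)
    apply Nat.card_le_card_of_injective
      (fun d : π₂.ker => (⟨d.1.1, mem_of_snd d.1.1 d.1.2 (by
        have := MonoidHom.mem_ker.1 d.2
        exact congrArg Subtype.val this)⟩ : D2.H 1))
    intro d d' h
    apply Subtype.ext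
    apply Subtype.ext
    have h' : (d.1.1 : GG) = d'.1.1 := congrArg (fun z : D2.H 1 => (z.1 : GG)) h
    exact h'
  have h1 := π₂.ker.card_mul_index
  rw [Subgroup.index_ker, MonoidHom.range_eq_top.2 hs₂, Subgroup.card_top, card_DG] at h1
  have h3 : Nat.card (proj₂ DG) ≤ Nat.card G2 := Subgroup.card_le_card_group _
  rw [card_G2] at h3
  rw [← Subgroup.card_eq_iff_eq_top, card_G2]
  have hpos : 0 < Nat.card π₂.ker := Nat.card_pos
  nlinarith

/-- a normal subgroup of order two is central -/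
theorem le_center_of_card_two {G : Type*} [Group G] (N : Subgroup G) [N.Normal]
    (hN : Nat.card N = 2) : N ≤ Subgroup.center G := by
  have : Finite N := Nat.finite_of_card_ne_zero (by rw [hN]; norm_num)
  intro n hn
  rw [Subgroup.mem_center_iff]
  intro g
  by_cases h1 : n = 1
  · rw [h1, mul_one, one_mul]
  · have h2 : N = Subgroup.zpowers n := eq_zpowers_of_card_two N hN n hn h1
    have h3 : g * n * g⁻¹ ∈ N := Subgroup.Normal.conj_mem inferInstance n hn g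
    have ho : orderOf n = 2 := by
      rw [← Nat.card_zpowers, ← h2, hN]
    rw [h2, Subgroup.mem_zpowers_iff] at h3
    obtain ⟨k, hk⟩ := h3
    have h4 : n ^ k = 1 ∨ n ^ k = n := by
      rcases Int.emod_two_eq_zero_or_one k with h | h
      · left
        rw [← zpow_mod_orderOf, ho]
        norm_num [h]
      · right
        rw [← zpow_mod_orderOf, ho]
        norm_num [h]
    rcases h4 with h | h
    · exfalso
      rw [h] at hk
      apply h1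
      have : g * n * g⁻¹ = 1 := hk.symm
      have h5 : g * n = g := by
        have := congrArg (· * g) this
        simpa [mul_assoc] using this
      exact mul_eq_left.1 h5 |> fun h => h
    · rw [h] at hk
      have : g * n * g⁻¹ = n := hk.symm
      have := congrArg (· * g) this
      simpa [mul_assoc] using this

theorem psp_equiv : Nonempty (Cfsg.PSp 2 (ZMod 3) ≃* G2) := by
  obtain ⟨ψ, hψs, -, -⟩ := exists_hom DG card_le_proj₁
  let e1 : G1 ≃* proj₁ DG :=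
    (Subgroup.topEquiv.symm).trans (MulEquiv.subgroupCongr proj₁_top.symm)
  let e2 : proj₂ DG ≃* G2 := (MulEquiv.subgroupCongr proj₂_top).trans Subgroup.topEquiv
  let ψ' : G1 →* G2 := e2.toMonoidHom.comp (ψ.comp e1.toMonoidHom)
  have hψ' : Function.Surjective ψ' := e2.surjective.comp (hψs.comp e1.surjective)
  have hker : Nat.card ψ'.ker = 2 := by
    have h1 := ψ'.ker.card_mul_index
    rw [Subgroup.index_ker, MonoidHom.range_eq_top.2 hψ', Subgroup.card_top, card_G1, card_G2] at h1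
    omega
  have hle : ψ'.ker ≤ Subgroup.center G1 := le_center_of_card_two _ hker
  have hcen : Nat.card (Subgroup.center G1) = 2 := by
    have h := Cfsg.Agent.Lib.Helper5.card_center_symplecticGroup (l := Fin 2) (F := ZMod 3)
    rw [ZMod.card] at h
    exact h
  have heq : Subgroup.center G1 = ψ'.ker := by
    symm
    apply Subgroup.eq_of_le_of_card_ge hle
    rw [hcen, hker]
  exact ⟨(QuotientGroup.quotientMulEquivOfEq heq).trans
    (QuotientGroup.quotientKerEquivOfSurjective ψ' hψ')⟩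

theorem center_G2 : Subgroup.center G2 = ⊥ := by
  obtain ⟨e0⟩ := psp_equiv
  have hperf : commutator G1 = ⊤ :=
    Cfsg.Agent.Lib.Helper8.commutator_symplectic_eq_top (F := ZMod 3) (m := 2)
      (Or.inr (Or.inl ⟨rfl, by rw [ZMod.card]⟩))
  have hc : Subgroup.center (Cfsg.PSp 2 (ZMod 3)) = ⊥ := center_quot_center_eq_bot hperf
  have e : Subgroup.center G2 ≃* Subgroup.center (Cfsg.PSp 2 (ZMod 3)) :=
    Subgroup.centerCongr e0.symm
  have h1 : Nat.card (Subgroup.center G2) = 1 := by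
    rw [Nat.card_congr e.toEquiv, hc, Subgroup.card_bot]
  exact Subgroup.card_eq_one.1 h1

/-- PSU_4(2) ≅ PSp_4(3): with |F| = 4 and |K| = 3, the projective special unitary group of the standard Hermitian form on F^4 is isomorphic to PSp_4(K). -/
theorem result {F K : Type*} [Field F] [Fintype F] [Field K] [Fintype K] (hF : Fintype.card F = 4) (hK : Fintype.card K = 3) : Nonempty (Cfsg.PSU 4 F 2 ≃* Cfsg.PSp 2 K) := by
  obtain ⟨e0⟩ := psp_equiv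
  have σF : F ≃+* F4c := FiniteField.ringEquivOfCardEq (hF.trans F4c.card_eq.symm)
  have σK : ZMod 3 ≃+* K := ZMod.ringEquivOfPrime K (by norm_num) hK
  exact ⟨(psuCongr σF 4 2).trans ((quotCenterEquivOfEqBot center_G2).trans
    (e0.symm.trans (pspCongr σK 2)))⟩

end Cfsg.Agent.S0822
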