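import Cfsg.Statements.S0320
import Cfsg.Agent.Lib.Helper6.BN4

set_option autoImplicit false
open Cfsg

namespace Cfsg.Agent.S0320


open Cfsg.Agent.Lib.Helper6 Cfsg.Agent.Lib.Helper6.Exch

/-- group-product of a word in S -/
def gp {G : Type*} [Group G] (P : Cfsg.BNPair G) (L : List P.S) : G := (L.map Subtype.val).prod

lemma gp_cons {G : Type*} [Group G] (P : Cfsg.BNPair G) (s : P.S) (L : List P.S) :
    gp P (s :: L) = (s : G) * gp P L := by simp [gp]

lemma map_val_mem {G : Type*} [Group G] (P : Cfsg.BNPair G) (L : List P.S) :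
    ∀ x ∈ L.map Subtype.val, x ∈ P.S := by
  intro x hx
  rw [List.mem_map] at hx
  obtain ⟨a, _, rfl⟩ := hx
  exact a.2

lemma gp_mem {G : Type*} [Group G] (P : Cfsg.BNPair G) (L : List P.S) : gp P L ∈ P.N :=
  prod_mem_N (J := P.S) subset_rfl (map_val_mem P L)

lemma exists_lift {G : Type*} [Group G] (P : Cfsg.BNPair G) (L0 : List G) (h : ∀ x ∈ L0, x ∈ P.S) :
    ∃ L : List P.S, L.map Subtype.val = L0 := by
  induction L0 with
  | nil => exact ⟨[], rfl⟩
  | cons a L0 ih =>
    obtain ⟨L, hL⟩ := ih (fun x hx => h x (List.mem_cons_of_mem _ hx))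
    exact ⟨⟨a, h a List.mem_cons_self⟩ :: L, by simp [hL]⟩

/-- the generators of the Weyl group -/
def sig {G : Type*} [Group G] (P : Cfsg.BNPair G)
    [hN : ((P.B ⊓ P.N).subgroupOf P.N).Normal] (s : P.S) : P.N ⧸ (P.B ⊓ P.N).subgroupOf P.N :=
  QuotientGroup.mk (⟨(s : G), P.subset s.2⟩ : P.N)

lemma wp_sig {G : Type*} [Group G] (P : Cfsg.BNPair G)
    [hN : ((P.B ⊓ P.N).subgroupOf P.N).Normal] (L : List P.S) :
    wp (sig P) L = QuotientGroup.mk (⟨gp P L, gp_mem P L⟩ : P.N) := by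
  induction L with
  | nil =>
    rw [wp_nil]
    symm
    rw [QuotientGroup.eq_one_iff, Subgroup.mem_subgroupOf]
    simp [gp]
  | cons s L ih =>
    rw [wp_cons, ih, sig, ← QuotientGroup.mk_mul]
    congr 1

lemma mk_eq_iff {G : Type*} [Group G] (P : Cfsg.BNPair G)
    [hN : ((P.B ⊓ P.N).subgroupOf P.N).Normal] (a b : P.N) :
    (QuotientGroup.mk a : P.N ⧸ (P.B ⊓ P.N).subgroupOf P.N) = QuotientGroup.mk b ↔
      (a : G)⁻¹ * (b : G) ∈ P.B := by
  rw [QuotientGroup.eq, Subgroup.mem_subgroupOf]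
  simp only [Subgroup.coe_mul, Subgroup.coe_inv, Subgroup.mem_inf]
  constructor
  · exact fun h => h.1
  · exact fun h => ⟨h, P.N.mul_mem (P.N.inv_mem a.2) b.2⟩

lemma wp_eq_iff {G : Type*} [Group G] (P : Cfsg.BNPair G)
    [hN : ((P.B ⊓ P.N).subgroupOf P.N).Normal] (L' L : List P.S) :
    wp (sig P) L' = wp (sig P) L ↔ (gp P L')⁻¹ * gp P L ∈ P.B := by
  rw [wp_sig, wp_sig, mk_eq_iff]

lemma isRed_iff {G : Type*} [Group G] (P : Cfsg.BNPair G)
    [hN : ((P.B ⊓ P.N).subgroupOf P.N).Normal] (L : List P.S) :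
    IsRed (sig P) L ↔ len P P.S (gp P L) = L.length := by
  have hle : len P P.S (gp P L) ≤ L.length := by
    have := len_le_of_rep (rep_prod (P := P) (J := P.S) subset_rfl (map_val_mem P L))
    simpa [gp] using this
  constructor
  · intro hred
    obtain ⟨L0, hL0, hr⟩ := (hasRep_of_mem_N (gp_mem P L)).exists_rep_len
    obtain ⟨L0', hL0'⟩ := exists_lift P L0 hr.1
    have h1 : wp (sig P) L0' = wp (sig P) L := by
      rw [wp_eq_iff]
      have := hr.2.2
      rw [← hL0'] at this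
      exact this
    have h2 := hred L0' h1
    have h3 : L0'.length = L0.length := by rw [← hL0', List.length_map]
    omega
  · intro hlen L' hL'
    rw [wp_eq_iff] at hL'
    have hr : Rep P P.S (L'.map Subtype.val) (gp P L) := ⟨map_val_mem P L', gp_mem P L, hL'⟩
    have := len_le_of_rep hr
    rw [List.length_map] at this
    omega


/-- The Weyl group `W = N / (B ⊓ N)` of a (B,N)-pair, with its distinguished involutions, is a Coxeter system. -/
theorem result {G : Type*} [Group G] (P : Cfsg.BNPair G)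
    [hN : ((P.B ⊓ P.N).subgroupOf P.N).Normal] :
    ∃ (M : CoxeterMatrix P.S) (cs : CoxeterSystem M (P.N ⧸ (P.B ⊓ P.N).subgroupOf P.N)),
      ∀ s : P.S, cs.simple s = QuotientGroup.mk (⟨(s : G), P.subset s.2⟩ : P.N) := by
  have hσ : ∀ i, sig P i * sig P i = 1 := by
    intro i
    rw [sig, ← QuotientGroup.mk_mul, QuotientGroup.eq_one_iff, Subgroup.mem_subgroupOf]
    exact sq_mem_H P i.2
  have hinj : Function.Injective (sig P) := by
    intro s s' h
    rw [sig, sig, mk_eq_iff] at h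
    exact Subtype.ext (P.inj s s.2 s' s'.2 h)
  have hgen : ∀ w : P.N ⧸ (P.B ⊓ P.N).subgroupOf P.N, ∃ L, wp (sig P) L = w := by
    intro w
    obtain ⟨n, rfl⟩ := QuotientGroup.mk_surjective w
    obtain ⟨L0, hr⟩ := hasRep_of_mem_N (P := P) n.2
    obtain ⟨L0', hL0'⟩ := exists_lift P L0 hr.1
    refine ⟨L0', ?_⟩
    rw [wp_sig, mk_eq_iff]
    have := hr.2.2
    rw [← hL0'] at this
    exact this
  have hE : Exchange (sig P) := by
    intro L i hL hiL
    rw [isRed_iff] at hL hiL
    rw [gp_cons, List.length_cons] at hiL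
    have hrep := hasRep_of_mem_N (gp_mem P L)
    have h1 := len_smul_le (J := P.S) subset_rfl i.2 hrep
    have h2 := len_smul_ne (J := P.S) subset_rfl hrep i.2
    have hlt : len P P.S ((i : G) * gp P L) < (L.map Subtype.val).length := by
      rw [List.length_map]; omega
    obtain ⟨j, hj, hjB⟩ := exchange_rep (L.map Subtype.val) (map_val_mem P L)
      (by rw [List.length_map]; exact hL) i i.2 hlt
    rw [List.length_map] at hj
    refine ⟨j, hj, ?_⟩
    rw [wp_eq_iff]
    rw [← List.map_take, ← List.map_take] at hjB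
    simpa [gp] using hjB
  obtain ⟨cs, hcs⟩ := exists_coxeterSystem (sig P) hσ hinj hgen hE
  exact ⟨coxMat (sig P) hσ hinj, cs, hcs⟩

end Cfsg.Agent.S0320
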