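import Cfsg.Statements.S2251
import Cfsg.Agent.Lib.Helper6.SzSub3
import Cfsg.Agent.Lib.Helper6.SzBridge

set_option autoImplicit false
open Cfsg

namespace Cfsg.Agent.S2251


open Cfsg.Agent.Lib.Helper6.Sz
open scoped Pointwise

lemma sig_compat' {K : Type*} {F : Type*} [Field K] [Field F] [CharP K 2] [CharP F 2]
    [Fintype K] {m k : ℕ} (hK : Fintype.card K = 2 ^ (2 * k + 1))
    (hdiv : 2 * k + 1 ∣ 2 * m + 1) (ι : K →+* F) (x : K) :
    sig F m (ι x) = ι (sig K k x) := by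
  rw [sig_apply, sig_apply, map_pow]
  set y := ι x with hy
  have hy1 : y ^ 2 ^ (2 * k + 1) = y := by
    rw [hy, ← map_pow, ← hK, FiniteField.pow_card]
  obtain ⟨d, hd⟩ := hdiv
  have hodd : Odd d := by
    have h1 : Odd ((2 * k + 1) * d) := by rw [← hd]; exact ⟨m, rfl⟩
    exact (Nat.odd_mul.1 h1).2
  obtain ⟨j, rfl⟩ := hodd
  have hpow : ∀ i : ℕ, y ^ 2 ^ ((2 * k + 1) * i) = y := by
    intro i
    induction i with
    | zero => simp
    | succ i ih => rw [mul_add, mul_one, pow_add, pow_mul, ih, hy1]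
  have hm : m + 1 = (2 * k + 1) * j + (k + 1) := by
    have e : (2 * k + 1) * (2 * j + 1) = 2 * ((2 * k + 1) * j) + 2 * k + 1 := by ring
    rw [e] at hd
    omega
  rw [hm, pow_add, pow_mul, hpow]

/-- numerical data of a proper nontrivial subfield. -/
lemma subfield_data {F : Type*} [Field F] [Finite F] {m : ℕ}
    (hF : Nat.card F = 2 ^ (2 * m + 1)) (L : Subfield F) (hL1 : ∃ x ∈ L, x ≠ 0 ∧ x ≠ 1)
    (hL2 : ∃ x, x ∉ L) :
    ∃ k, 1 ≤ k ∧ k < m ∧ Nat.card L = 2 ^ (2 * k + 1) ∧ 2 * k + 1 ∣ 2 * m + 1 := by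
  have hcard : Nat.card F = Nat.card L ^ Module.finrank L F := Module.natCard_eq_pow_finrank
  set n := Module.finrank L F with hn
  have hn0 : n ≠ 0 := by
    intro h
    rw [h, pow_zero] at hcard
    have : 1 < Nat.card F := Finite.one_lt_card
    omega
  have hdvd : Nat.card L ∣ 2 ^ (2 * m + 1) := by
    rw [← hF, hcard]
    exact dvd_pow_self _ hn0
  obtain ⟨d, -, hd⟩ := (Nat.dvd_prime_pow Nat.prime_two).1 hdvd
  rw [hd, hF, ← pow_mul] at hcard
  have hdn : 2 * m + 1 = d * n := Nat.pow_right_injective (le_refl 2) hcard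
  -- d ≥ 2
  have hd2 : 2 ≤ d := by
    obtain ⟨x, hxL, hx0, hx1⟩ := hL1
    have h3 : 2 < Nat.card L := by
      have := Fintype.ofFinite L
      rw [Nat.card_eq_fintype_card, Fintype.two_lt_card_iff]
      refine ⟨0, 1, ⟨x, hxL⟩, zero_ne_one, ?_, ?_⟩
      · intro h; exact hx0 (congrArg Subtype.val h).symm
      · intro h; exact hx1 (congrArg Subtype.val h).symm
    rw [hd] at h3
    by_contra hlt
    push Not at hlt
    interval_cases d <;> simp at h3
  have hdodd : Odd d := by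
    have h1 : Odd (d * n) := by rw [← hdn]; exact ⟨m, rfl⟩
    exact (Nat.odd_mul.1 h1).1
  obtain ⟨k, rfl⟩ := hdodd
  have hn1 : n ≠ 1 := by
    intro h
    rw [h, mul_one] at hdn
    obtain ⟨x, hx⟩ := hL2
    have hcc : Nat.card F ≤ Nat.card L := by rw [hF, hd, hdn]
    have hbij := Function.Injective.bijective_of_nat_card_le L.subtype_injective hcc
    obtain ⟨y, hy⟩ := hbij.2 x
    apply hx
    rw [← hy]
    exact y.2
  refine ⟨k, by omega, ?_, hd, ⟨n, hdn⟩⟩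
  have : 2 ≤ n := by omega
  nlinarith

lemma subL_le_range {K : Type*} {F : Type*} [Field K] [Field F] [CharP K 2] [CharP F 2]
    [Finite K] [Finite F] (sK : K →+* K) (sF : F →+* F) (ι : K →+* F)
    (hι : ∀ x, sF (ι x) = ι (sK x)) (hsK : ∀ x, sK (sK x) = x ^ 2)
    (hsF : ∀ x, sF (sF x) = x ^ 2) (hntK : ∃ y : K, sK y ≠ y ^ 2)
    (L : Subfield F) (hL : ∀ x ∈ L, ∃ y, ι y = x) :
    subL sF hsF L ≤ (Phi sK sF ι hι hsK hsF hntK).range := by
  unfold subL
  rw [Subgroup.closure_le]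
  rintro g (⟨a, ha, b, hb, rfl⟩ | ⟨t, ht, rfl⟩ | rfl)
  · obtain ⟨a', rfl⟩ := hL a ha
    obtain ⟨b', rfl⟩ := hL b hb
    exact ⟨Tg sK hsK a' b', Phi_Tg sK sF ι hι hsK hsF hntK a' b'⟩
  · obtain ⟨t', ht'⟩ := hL t ht
    have ht'0 : t' ≠ 0 := by
      rintro rfl
      rw [map_zero] at ht'
      exact t.ne_zero ht'.symm
    refine ⟨Dg sK hsK (Units.mk0 t' ht'0), ?_⟩
    rw [Phi_Dg]
    congr 1
    ext
    simp [ht']
  · exact ⟨Wg sK hsK, Phi_Wg sK sF ι hι hsK hsF hntK⟩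

lemma exists_S {K : Type*} {F : Type*} [Field K] [Field F] [CharP K 2] [CharP F 2]
    [Finite K] [Finite F] (sK : K →+* K) (sF : F →+* F) (ι : K →+* F)
    (hι : ∀ x, sF (ι x) = ι (sK x)) (hsK : ∀ x, sK (sK x) = x ^ 2)
    (hsF : ∀ x, sF (sF x) = x ^ 2) (hntK : ∃ y : K, sK y ≠ y ^ 2)
    (L : Subfield F) (hL : ∀ x ∈ L, ∃ y, ι y = x) (g : G sF) (M : Subgroup (G sF))
    (hg : M ≤ (subL sF hsF L).map (MulAut.conj g).toMonoidHom)
    {OK : Set (Projectivization K (Fin 4 → K))} (hOK : OK = Ov sK) :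
    ∃ S : Subgroup (G sF),
      Nonempty (S ≃* MulAction.stabilizer (Matrix.SpecialLinearGroup (Fin 4) K) OK) ∧ M ≤ S := by
  subst hOK
  refine ⟨((Phi sK sF ι hι hsK hsF hntK).range).map (MulAut.conj g).toMonoidHom, ⟨?_⟩, ?_⟩
  · exact ((Subgroup.equivMapOfInjective _ _ (MulAut.conj g).injective).symm.trans
      (MonoidHom.ofInjective (Phi_injective sK sF ι hι hsK hsF hntK)).symm)
  · exact hg.trans (Subgroup.map_mono (subL_le_range sK sF ι hι hsK hsF hntK L hL))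

lemma final {F : Type*} [Field F] [Fintype F] [CharP F 2] {m : ℕ} (hm : 1 ≤ m)
    (hF : Fintype.card F = 2 ^ (2 * m + 1))
    {O : Set (Projectivization F (Fin 4 → F))} (hO : O = Ov (sig F m))
    (M : Subgroup (MulAction.stabilizer (Matrix.SpecialLinearGroup (Fin 4) F) O)) (hM : M ≠ ⊤) :
    (∃ P : Sylow 2 (MulAction.stabilizer (Matrix.SpecialLinearGroup (Fin 4) F) O),
      M ≤ Subgroup.normalizer ((P : Subgroup (MulAction.stabilizer
        (Matrix.SpecialLinearGroup (Fin 4) F) O)) : Set (MulAction.stabilizer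
        (Matrix.SpecialLinearGroup (Fin 4) F) O))) ∨
    (∃ U : Subgroup (MulAction.stabilizer (Matrix.SpecialLinearGroup (Fin 4) F) O),
      IsCyclic U ∧ Nat.card U ∈ ({2 ^ (2 * m + 1) - 1, 2 ^ (2 * m + 1) + 2 ^ (m + 1) + 1,
        2 ^ (2 * m + 1) - 2 ^ (m + 1) + 1} : Set ℕ) ∧
      M ≤ Subgroup.normalizer (U : Set (MulAction.stabilizer
        (Matrix.SpecialLinearGroup (Fin 4) F) O))) ∨
    (∃ (K : Type) (_ : Field K) (_ : Fintype K) (k : ℕ), 1 ≤ k ∧ k < m ∧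
      Fintype.card K = 2 ^ (2 * k + 1) ∧ 2 * k + 1 ∣ 2 * m + 1 ∧
      ∃ S : Subgroup (MulAction.stabilizer (Matrix.SpecialLinearGroup (Fin 4) F) O),
        Nonempty (S ≃* Cfsg.Sz K k) ∧ M ≤ S) := by
  subst hO
  have hkF : Nat.card F = 2 ^ (2 * m + 1) := by rw [Nat.card_eq_fintype_card, hF]
  rcases sub_main (sig F m) (sig_sig hF) (sig_nt hm hF) hm hkF M hM with
    h | h | ⟨L, hL1, hL2, g, hg⟩
  · exact Or.inl h
  · exact Or.inr (Or.inl h)
  · right; right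
    obtain ⟨k, hk1, hkm, hkL, hdiv⟩ := subfield_data hkF L hL1 hL2
    let K : Type := Shrink.{0} L
    let e : K ≃+* L := Shrink.ringEquiv.{0} L
    have hfin : Finite K := Finite.of_equiv L e.symm.toEquiv
    let instK : Fintype K := Fintype.ofFinite K
    have hK : Fintype.card K = 2 ^ (2 * k + 1) := by
      rw [← Nat.card_eq_fintype_card, Nat.card_congr e.toEquiv, hkL]
    have hcK : CharP K 2 := charP_two hK
    let ι : K →+* F := L.subtype.comp e.toRingHom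
    have hιL : ∀ x ∈ L, ∃ y, ι y = x := by
      intro x hx
      refine ⟨e.symm ⟨x, hx⟩, ?_⟩
      show ((e (e.symm ⟨x, hx⟩) : L) : F) = x
      rw [e.apply_symm_apply]
    obtain ⟨S, hS, hMS⟩ := exists_S (sig K k) (sig F m) ι (sig_compat' hK hdiv ι) (sig_sig hK)
      (sig_sig hF) (sig_nt hk1 hK) L hιL g M hg (ovoid_eq (F := K) k)
    exact ⟨K, inferInstance, instK, k, hk1, hkm, hK, hdiv, S, hS, hMS⟩


/-- The subgroups of the Suzuki group: with q = 2^(2m+1), m ≥ 1, r = 2^m and the group realised as the stabiliser in SL₄ of the Suzuki–Tits ovoid, every proper subgroup is contained in the normalizer of a Sylow 2-subgroup, or in the normalizer of a cyclic subgroup of order q − 1, q + 2r + 1 or q − 2r + 1, or in a subgroup isomorphic to a smaller Suzuki group Sz(s) with s = 2^(2k+1) ≥ 8 and 2k+1 a proper divisor of 2m+1. -/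
theorem result {F : Type*} [Field F] [Fintype F] {m : ℕ} (hm : 1 ≤ m) (hF : Fintype.card F = 2 ^ (2 * m + 1)) (M : Subgroup ↥(Cfsg.Sz F m)) (hM : M ≠ ⊤) :
    (∃ P : Sylow 2 ↥(Cfsg.Sz F m), M ≤ Subgroup.normalizer ((P : Subgroup ↥(Cfsg.Sz F m)) : Set ↥(Cfsg.Sz F m))) ∨
    (∃ U : Subgroup ↥(Cfsg.Sz F m), IsCyclic ↥U ∧ Nat.card ↥U ∈ ({2 ^ (2 * m + 1) - 1, 2 ^ (2 * m + 1) + 2 ^ (m + 1) + 1, 2 ^ (2 * m + 1) - 2 ^ (m + 1) + 1} : Set ℕ) ∧
      M ≤ Subgroup.normalizer (U : Set ↥(Cfsg.Sz F m))) ∨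
    (∃ (K : Type) (_ : Field K) (_ : Fintype K) (k : ℕ), 1 ≤ k ∧ k < m ∧ Fintype.card K = 2 ^ (2 * k + 1) ∧ 2 * k + 1 ∣ 2 * m + 1 ∧
      ∃ S : Subgroup ↥(Cfsg.Sz F m), Nonempty (↥S ≃* ↥(Cfsg.Sz K k)) ∧ M ≤ S) := by
  have := charP_two hF
  exact final hm hF (ovoid_eq (F := F) m) M hM

end Cfsg.Agent.S2251
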