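import Cfsg.Statements.S0331
import Cfsg.Agent.Lib.Helper6.SzTorus
import Cfsg.Agent.Lib.Helper6.SzBridge

set_option autoImplicit false
open Cfsg

namespace Cfsg.Agent.S0331


open Cfsg.Agent.Lib.Helper6.Sz
open scoped Pointwise

section
variable {F : Type*} [Field F] [CharP F 2] [Finite F] (s : F →+* F)
  (hs : ∀ x, s (s x) = x ^ 2)

include hs in
theorem sylow_odd_cyclic (hnt : ∃ y : F, s y ≠ y ^ 2) {k : ℕ} (hk : Nat.card F = 2 ^ k)
    {p : ℕ} [hp : Fact p.Prime] (hp2 : p ≠ 2) (P : Sylow p (G s)) : IsCyclic P := by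
  by_cases hbot : Subsingleton P
  · exact isCyclic_of_subsingleton
  rw [not_subsingleton_iff_nontrivial] at hbot
  have hPG : IsPGroup p P := P.isPGroup'
  -- p divides |G|
  have hpP : p ∣ Nat.card P := by
    obtain ⟨n, hn0, hn⟩ := (hPG.nontrivial_iff_card).1 hbot
    rw [hn]; exact dvd_pow_self p (by omega)
  have hpG : p ∣ Nat.card (G s) := hpP.trans (Subgroup.card_subgroup_dvd_card _)
  rw [card_G s hs hnt] at hpG
  have hcases : p ∣ Nat.card F ^ 2 + 1 ∨ p ∣ Nat.card F - 1 := by
    rcases (Nat.Prime.dvd_mul hp.out).1 hpG with h | h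
    · exact Or.inl h
    · rcases (Nat.Prime.dvd_mul hp.out).1 h with h | h
      · exfalso
        rw [hk, ← pow_mul] at h
        have := (Nat.prime_dvd_prime_iff_eq hp.out Nat.prime_two).1 (hp.out.dvd_of_dvd_pow h)
        exact hp2 this
      · exact Or.inr h
  rcases hcases with hdvd | hdvd
  · -- Singer case
    have hcn : Nontrivial (Subgroup.center P) := hPG.center_nontrivial
    have hpc : p ∣ Nat.card (Subgroup.center P) := by
      have hcP : IsPGroup p (Subgroup.center P) := hPG.to_subgroup _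
      obtain ⟨n, hn0, hn⟩ := (hcP.nontrivial_iff_card).1 hcn
      rw [hn]; exact dvd_pow_self p (by omega)
    obtain ⟨⟨x, hxc⟩, hx⟩ := exists_prime_orderOf_dvd_card' p hpc
    have hxo : orderOf x = p := (Subgroup.orderOf_mk x hxc).symm.trans hx
    have hxp : ((x : P) : G s) ^ p = 1 := by
      have : x ^ p = 1 := by
        have h := pow_orderOf_eq_one x
        rw [hxo] at h
        exact h
      have := congrArg Subtype.val this
      simpa using this
    have hx1 : ((x : P) : G s) ≠ 1 := by
      intro h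
      have : x = 1 := Subtype.ext h
      rw [this, orderOf_one] at hxo
      exact hp.out.one_lt.ne hxo
    apply isCyclic_of_centralizes s hp2 hdvd hxp hx1 (P : Subgroup (G s))
    intro g hg
    have := (Subgroup.mem_center_iff.1 hxc) ⟨g, hg⟩
    exact congrArg Subtype.val this
  · -- split torus case
    have hq1 : 1 ≤ Nat.card F := Nat.card_pos
    have hmod : Nat.card (Ov s) ≡ 2 [MOD p] := by
      rw [Nat.card_coe_set_eq, ncard_Ov]
      have h1 : Nat.card F ≡ 1 [MOD p] := by
        have := (Nat.modEq_iff_dvd' hq1).2 hdvd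
        exact this.symm
      have := (h1.pow 2).add_right 1
      simpa using this
    have hfix := hPG.card_modEq_card_fixedPoints (Ov s)
    have hfix2 : Nat.card (MulAction.fixedPoints P (Ov s)) ≡ 2 [MOD p] := hfix.symm.trans hmod
    have hp3 : 3 ≤ p := by
      have := hp.out.two_le
      omega
    -- at most two fixed points
    have hle : (MulAction.fixedPoints P (Ov s)).ncard ≤ 2 := by
      by_contra hcon
      push Not at hcon
      obtain ⟨a, b, c, ha, hb, hc, hab, hac, hbc⟩ := (Set.two_lt_ncard_iff).1 hcon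
      obtain ⟨g, g', hgg'⟩ := hbot
      apply hgg'
      have h1 : ∀ g : P, g = 1 := by
        intro g
        apply Subtype.ext
        exact three_point s hs hnt (g : G s) a b c hab hbc hac (ha g) (hb g) (hc g)
      rw [h1 g, h1 g']
    rw [Nat.card_coe_set_eq] at hfix2
    have h2 : (MulAction.fixedPoints P (Ov s)).ncard = 2 := by
      have hlt : (MulAction.fixedPoints P (Ov s)).ncard < p := by omega
      have := Nat.ModEq.eq_of_lt_of_lt hfix2 hlt (by omega)
      exact this
    obtain ⟨a, b, hab, hset⟩ := Set.ncard_eq_two.1 h2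
    have ha : a ∈ MulAction.fixedPoints P (Ov s) := by rw [hset]; simp
    have hb : b ∈ MulAction.fixedPoints P (Ov s) := by rw [hset]; simp
    exact isCyclic_of_fix_two s hs hnt hab (P : Subgroup (G s))
      (fun g hg => ha ⟨g, hg⟩) (fun g hg => hb ⟨g, hg⟩)

end

lemma syl_of_eq {F : Type*} [Field F] [CharP F 2] [Finite F] (s : F →+* F)
    (hs : ∀ x, s (s x) = x ^ 2) (hnt : ∃ y : F, s y ≠ y ^ 2) {k : ℕ}
    (hk : Nat.card F = 2 ^ k) {p : ℕ} [Fact p.Prime] (hp : p ≠ 2)
    {O : Set (Projectivization F (Fin 4 → F))} (hO : O = Ov s)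
    (P : Sylow p (MulAction.stabilizer (Matrix.SpecialLinearGroup (Fin 4) F) O)) :
    IsCyclic P := by
  subst hO
  exact sylow_odd_cyclic s hs hnt hk hp P


/-- For every odd prime `p` the Sylow `p`-subgroups of the Suzuki group are cyclic. -/
theorem result {F : Type*} [Field F] [Fintype F] {m : ℕ} (hm : 1 ≤ m)
    (hF : Fintype.card F = 2 ^ (2 * m + 1)) {p : ℕ} [Fact p.Prime] (hp : p ≠ 2)
    (P : Sylow p (Cfsg.Sz F m)) : IsCyclic P := by
  have := charP_two hF
  have hk : Nat.card F = 2 ^ (2 * m + 1) := by rw [Nat.card_eq_fintype_card, hF]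
  exact syl_of_eq (sig F m) (sig_sig hF) (sig_nt hm hF) hk hp (ovoid_eq (F := F) m) P

end Cfsg.Agent.S0331
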