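import Cfsg.Statements.S1452
import Cfsg.Agent.Lib.Helper97.PRank
import Cfsg.Agent.Lib.Helper53.NormalAbelian

set_option autoImplicit false
set_option linter.style.haveILetI false
open Cfsg

namespace Cfsg.Agent.S1452

/-- Let p be an odd prime and R a finite p-group containing an elementary abelian subgroup of order p ^ 3. If E is a normal elementary abelian subgroup of R of order p ^ 2, then E ≤ A for some normal subgroup A of R with C_R(A) = A that contains an elementary abelian subgroup of order p ^ 3. -/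
theorem result {R : Type*} [Group R] [Finite R] (p : ℕ) [Fact p.Prime] (hp : p ≠ 2) (hR : IsPGroup p R) (hr : ¬ Cfsg.PRankLE p 2 R)
    (E : Subgroup R) [E.Normal] (hE : Cfsg.IsElementaryAbelian p E) (hE2 : Nat.card E = p ^ 2) :
    ∃ A : Subgroup R, E ≤ A ∧ A.Normal ∧ Subgroup.centralizer (A : Set R) = A ∧ ¬ Cfsg.PRankLE p 2 A := by
  classical
  obtain ⟨hEc, hEe⟩ := hE
  have hEcomm : ∀ a ∈ E, ∀ b ∈ E, a * b = b * a := by
    intro a ha b hb
    exact congrArg Subtype.val (hEc.is_comm.comm ⟨a, ha⟩ ⟨b, hb⟩)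
  obtain ⟨B, hBn, hEB, hBc, hBe, hBcard⟩ :=
    Cfsg.Agent.Lib.Helper97.PRank.exists_normal_elemAb_gt hp hR hr E hEcomm hEe hE2
  -- a maximal normal abelian subgroup containing `B`
  obtain ⟨A, hBA, ⟨hAn, hAc⟩, hAmax⟩ := Finite.exists_le_maximal
    (p := fun A : Subgroup R => A.Normal ∧ ∀ a ∈ A, ∀ b ∈ A, a * b = b * a) ⟨hBn, hBc⟩
  haveI := hAn
  have hCA : Subgroup.centralizer (A : Set R) = A :=
    Cfsg.Agent.Lib.Helper53.centralizer_eq_of_max_normal_abelian hR A hAc
      (fun B' h1 h2 h3 => le_antisymm (hAmax ⟨h1, h2⟩ h3) h3)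
  refine ⟨A, hEB.trans hBA, hAn, hCA, ?_⟩
  intro hrank
  have h1 := hrank (B.subgroupOf A)
    ⟨⟨fun a b => Subtype.ext (Subtype.ext (hBc a.1 a.2 b.1 b.2))⟩⟩
    (fun a ha => by
      apply Subtype.ext
      have := hBe (a : R) (Subgroup.mem_subgroupOf.mp ha)
      simpa using this)
  have h2 : Nat.card (B.subgroupOf A) = Nat.card B :=
    Nat.card_congr (Subgroup.subgroupOfEquivOfLe hBA).toEquiv
  rw [h2] at h1
  omega

end Cfsg.Agent.S1452
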