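import Cfsg.Statements.S0708
import Mathlib

set_option autoImplicit false
open Cfsg

namespace Cfsg.Agent.S0708

open MulAction

section
variable {G : Type*} [Group G] {Ω : Type*} [MulAction G Ω]

/-- Four pairwise distinct points. -/
def D4 (p0 p1 p2 p3 : Ω) : Prop :=
  p0 ≠ p1 ∧ p0 ≠ p2 ∧ p0 ≠ p3 ∧ p1 ≠ p2 ∧ p1 ≠ p3 ∧ p2 ≠ p3

def mk4 (p0 p1 p2 p3 : Ω) (h : D4 p0 p1 p2 p3) : Fin 4 ↪ Ω :=
  ⟨![p0, p1, p2, p3], by
    obtain ⟨h01, h02, h03, h12, h13, h23⟩ := h
    intro i j hij
    fin_cases i <;> fin_cases j <;> simp_all⟩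

theorem exists_map (h4 : IsMultiplyPretransitive G Ω 4) {p0 p1 p2 p3 q0 q1 q2 q3 : Ω}
    (hp : D4 p0 p1 p2 p3) (hq : D4 q0 q1 q2 q3) :
    ∃ g : G, g • p0 = q0 ∧ g • p1 = q1 ∧ g • p2 = q2 ∧ g • p3 = q3 := by
  obtain ⟨g, hg⟩ := h4.exists_smul_eq (mk4 p0 p1 p2 p3 hp) (mk4 q0 q1 q2 q3 hq)
  refine ⟨g, ?_, ?_, ?_, ?_⟩
  · have := congrArg (fun f : Fin 4 ↪ Ω => f 0) hg
    simpa [mk4] using this
  · have := congrArg (fun f : Fin 4 ↪ Ω => f 1) hg
    simpa [mk4] using this
  · have := congrArg (fun f : Fin 4 ↪ Ω => f 2) hg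
    simpa [mk4] using this
  · have := congrArg (fun f : Fin 4 ↪ Ω => f 3) hg
    simpa [mk4] using this

theorem eq_one_of_fix (hsharp : ∀ x : Fin 4 ↪ Ω, MulAction.stabilizer G x = ⊥)
    {p0 p1 p2 p3 : Ω} (hp : D4 p0 p1 p2 p3) (g : G)
    (h0 : g • p0 = p0) (h1 : g • p1 = p1) (h2 : g • p2 = p2) (h3 : g • p3 = p3) : g = 1 := by
  have : g ∈ MulAction.stabilizer G (mk4 p0 p1 p2 p3 hp) := by
    rw [MulAction.mem_stabilizer_iff]
    ext i
    fin_cases i <;> simp [mk4, h0, h1, h2, h3]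
  rw [hsharp] at this
  exact Subgroup.mem_bot.mp this

/-- The involution attached to a moved point. -/
def IsJ (y : G) (a0 a1 a : Ω) (j : G) : Prop :=
  j • a0 = a0 ∧ j • a1 = a1 ∧ j • a = y • a ∧ j • (y • a) = a ∧ j * j = 1 ∧ y * j = j * y

theorem card_le_of_forall_mem (L : List Ω) (h : ∀ ω : Ω, ω ∈ L) :
    Finite Ω ∧ Nat.card Ω ≤ L.length := by
  have hs : Function.Surjective (fun i : Fin L.length => L.get i) := by
    intro ω
    obtain ⟨i, hi⟩ := List.mem_iff_get.mp (h ω)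
    exact ⟨i, hi⟩
  have hfin : Finite Ω := Finite.of_surjective _ hs
  refine ⟨hfin, ?_⟩
  have := Nat.card_le_card_of_surjective _ hs
  simpa using this

end

theorem result {G : Type*} [Group G] {Ω : Type*} [MulAction G Ω] (h4 : MulAction.IsMultiplyPretransitive G Ω 4) (hsharp : ∀ x : Fin 4 ↪ Ω, MulAction.stabilizer G x = ⊥) (hne : Nonempty (Fin 4 ↪ Ω)) : Finite Ω ∧ Nat.card Ω ≤ 11 ∧ (Even (Nat.card Ω) → Nat.card Ω ≤ 6) := by
  classical
  obtain ⟨x0⟩ := hne
  obtain ⟨a0, a1, a2, a3, hD⟩ : ∃ a0 a1 a2 a3 : Ω, D4 a0 a1 a2 a3 :=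
    ⟨x0 0, x0 1, x0 2, x0 3, x0.injective.ne (by decide), x0.injective.ne (by decide),
      x0.injective.ne (by decide), x0.injective.ne (by decide), x0.injective.ne (by decide),
      x0.injective.ne (by decide)⟩
  obtain ⟨h01, h02, h03, h12, h13, h23⟩ := id hD
  have hD' : D4 a1 a0 a2 a3 := ⟨Ne.symm h01, h12, h13, h02, h03, h23⟩
  obtain ⟨y, hy0, hy1, hy2, hy3⟩ := exists_map h4 hD hD'
  have hyy : y * y = 1 := eq_one_of_fix hsharp hD (y * y)
    (by rw [mul_smul, hy0, hy1]) (by rw [mul_smul, hy1, hy0])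
    (by rw [mul_smul, hy2, hy2]) (by rw [mul_smul, hy3, hy3])
  have hyinv : ∀ ω : Ω, y • y • ω = ω := fun ω => by rw [← mul_smul, hyy, one_smul]
  -- at most one extra fixed point
  have fixA : ∀ e e' : Ω, y • e = e → y • e' = e' → e ≠ a2 → e ≠ a3 → e' ≠ a2 → e' ≠ a3 →
      e = e' := by
    intro e e' he he' h2 h3 h2' h3'
    by_contra hne
    have hD2 : D4 a2 a3 e e' := ⟨h23, Ne.symm h2, Ne.symm h2', Ne.symm h3, Ne.symm h3', hne⟩
    have := eq_one_of_fix hsharp hD2 y hy2 hy3 he he'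
    rw [this, one_smul] at hy0
    exact h01 hy0
  -- the involution of a moved point
  have J1 : ∀ a : Ω, a ≠ a0 → a ≠ a1 → y • a ≠ a → ∃ j : G, IsJ y a0 a1 a j := by
    intro a h0 h1 hm
    have hb0 : y • a ≠ a0 := by
      intro h
      apply h1
      have := congrArg (y • ·) h
      simp only [hyinv, hy0] at this
      exact this
    have hb1 : y • a ≠ a1 := by
      intro h
      apply h0
      have := congrArg (y • ·) h
      simp only [hyinv, hy1] at this
      exact this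
    have hDa : D4 a0 a1 a (y • a) :=
      ⟨h01, Ne.symm h0, Ne.symm hb0, Ne.symm h1, Ne.symm hb1, Ne.symm hm⟩
    have hDb : D4 a0 a1 (y • a) a := ⟨h01, Ne.symm hb0, Ne.symm h0, Ne.symm hb1, Ne.symm h1, hm⟩
    obtain ⟨j, hj0, hj1, hja, hjb⟩ := exists_map h4 hDa hDb
    have hjj : j * j = 1 := eq_one_of_fix hsharp hDa (j * j)
      (by rw [mul_smul, hj0, hj0]) (by rw [mul_smul, hj1, hj1])
      (by rw [mul_smul, hja, hjb]) (by rw [mul_smul, hjb, hja])
    have hc : j⁻¹ * (y * j * y) = 1 := by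
      apply eq_one_of_fix hsharp hDa
      · rw [mul_smul, inv_smul_eq_iff, mul_smul, mul_smul, hy0, hj1, hy1, hj0]
      · rw [mul_smul, inv_smul_eq_iff, mul_smul, mul_smul, hy1, hj0, hy0, hj1]
      · rw [mul_smul, inv_smul_eq_iff, mul_smul, mul_smul, hjb, hja]
      · rw [mul_smul, inv_smul_eq_iff, mul_smul, mul_smul, hyinv, hja, hyinv, hjb]
    have hc' : y * j * y = j := by
      have := congrArg (j * ·) hc
      simpa using this
    have hcomm : y * j = j * y := by
      calc y * j = y * j * (y * y) := by rw [hyy, mul_one]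
        _ = (y * j * y) * y := by group
        _ = j * y := by rw [hc']
    exact ⟨j, hj0, hj1, hja, hjb, hjj, hcomm⟩
  have J2 : ∀ (a : Ω) (j : G) (e : Ω), IsJ y a0 a1 a j → y • e = e → y • (j • e) = j • e := by
    intro a j e hj he
    rw [← mul_smul, hj.2.2.2.2.2, mul_smul, he]
  have Jinv : ∀ (a : Ω) (j : G) (ω : Ω), IsJ y a0 a1 a j → j • j • ω = ω := by
    intro a j ω hj
    rw [← mul_smul, hj.2.2.2.2.1, one_smul]
  -- an involution of a moved point is not the identity
  have Jne : ∀ (a : Ω) (j : G), y • a ≠ a → IsJ y a0 a1 a j → ¬ (j • a2 = a2 ∧ j • a3 = a3) := by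
    intro a j hm hj h
    have := eq_one_of_fix hsharp hD j hj.1 hj.2.1 h.1 h.2
    apply hm
    rw [← hj.2.2.1, this, one_smul]
  -- the value at a3 is determined by the value at a2
  have J3 : ∀ (a a' : Ω) (j j' : G), y • a ≠ a → y • a' ≠ a' → IsJ y a0 a1 a j → IsJ y a0 a1 a' j' →
      j • a2 = j' • a2 → j • a3 = j' • a3 := by
    intro a a' j j' hm hm' hj hj' h2
    have hf2 : y • (j • a2) = j • a2 := J2 a j a2 hj hy2
    have hf3 : y • (j • a3) = j • a3 := J2 a j a3 hj hy3
    have hf3' : y • (j' • a3) = j' • a3 := J2 a' j' a3 hj' hy3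
    have hinj : j • a3 ≠ j • a2 := fun h => h23 ((MulAction.injective j h).symm)
    have hinj' : j' • a3 ≠ j' • a2 := fun h => h23 ((MulAction.injective j' h).symm)
    by_cases c2 : j • a2 = a2
    · have c2' : j' • a2 = a2 := by rw [← h2, c2]
      have n3 : j • a3 ≠ a3 := fun h => Jne a j hm hj ⟨c2, h⟩
      have n3' : j' • a3 ≠ a3 := fun h => Jne a' j' hm' hj' ⟨c2', h⟩
      have n2 : j • a3 ≠ a2 := by rw [c2] at hinj; exact hinj
      have n2' : j' • a3 ≠ a2 := by rw [c2'] at hinj'; exact hinj'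
      exact fixA _ _ hf3 hf3' n2 n3 n2' n3'
    · by_cases c3 : j • a2 = a3
      · have c3' : j' • a2 = a3 := by rw [← h2, c3]
        have e1 : j • a3 = a2 := by rw [← c3, Jinv a j a2 hj]
        have e2 : j' • a3 = a2 := by rw [← c3', Jinv a' j' a2 hj']
        rw [e1, e2]
      · -- j • a2 is the extra fixed point
        have c2' : j' • a2 ≠ a2 := by rw [← h2]; exact c2
        have c3' : j' • a2 ≠ a3 := by rw [← h2]; exact c3
        have hf2' : y • (j' • a2) = j' • a2 := J2 a' j' a2 hj' hy2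
        have e1 : j • a3 = a3 := by
          by_contra n3
          by_cases n2 : j • a3 = a2
          · apply c3
            rw [← n2, Jinv a j a3 hj]
          · exact hinj (fixA _ _ hf3 hf2 n2 n3 c2 c3)
        have e2 : j' • a3 = a3 := by
          by_contra n3
          by_cases n2 : j' • a3 = a2
          · apply c3'
            rw [← n2, Jinv a' j' a3 hj']
          · exact hinj' (fixA _ _ hf3' hf2' n2 n3 c2' c3')
        rw [e1, e2]
  -- fibres of the type map
  have J4 : ∀ (a a' : Ω) (j j' : G), y • a ≠ a → y • a' ≠ a' → IsJ y a0 a1 a j → IsJ y a0 a1 a' j' →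
      j • a2 = j' • a2 → a' = a ∨ a' = y • a := by
    intro a a' j j' hm hm' hj hj' h2
    have h3 := J3 a a' j j' hm hm' hj hj' h2
    have hjj' : j = j' := by
      have : j'⁻¹ * j = 1 := by
        apply eq_one_of_fix hsharp hD
        · rw [mul_smul, inv_smul_eq_iff, hj.1, hj'.1]
        · rw [mul_smul, inv_smul_eq_iff, hj.2.1, hj'.2.1]
        · rw [mul_smul, inv_smul_eq_iff, h2]
        · rw [mul_smul, inv_smul_eq_iff, h3]
      have := congrArg (j' * ·) this
      simpa using this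
    subst hjj'
    by_contra hcon
    rw [not_or] at hcon
    obtain ⟨hc1, hc2⟩ := hcon
    have hw : j * y ≠ 1 := by
      intro h
      have := congrArg (· • a0) h
      simp only [mul_smul, hy0, hj.2.1, one_smul] at this
      exact h01 this.symm
    apply hw
    have hDw : D4 a (y • a) a' (y • a') := by
      refine ⟨Ne.symm hm, Ne.symm hc1, ?_, Ne.symm hc2, ?_, Ne.symm hm'⟩
      · intro h
        apply hc2
        rw [h, hyinv]
      · intro h
        apply hc1
        exact (MulAction.injective y h).symm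
    apply eq_one_of_fix hsharp hDw
    · rw [mul_smul, hj.2.2.2.1]
    · rw [mul_smul, hyinv, hj.2.2.1]
    · rw [mul_smul, hj'.2.2.2.1]
    · rw [mul_smul, hyinv, hj'.2.2.1]
  -- representatives
  obtain ⟨e, he⟩ : ∃ e : Ω, ∀ e' : Ω, y • e' = e' → e' = a2 ∨ e' = a3 ∨ e' = e := by
    by_cases hex : ∃ e, y • e = e ∧ e ≠ a2 ∧ e ≠ a3
    · obtain ⟨e, he1, he2, he3⟩ := hex
      refine ⟨e, fun e' he' => ?_⟩
      by_cases c2 : e' = a2
      · exact Or.inl c2
      · by_cases c3 : e' = a3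
        · exact Or.inr (Or.inl c3)
        · exact Or.inr (Or.inr (fixA _ _ he' he1 c2 c3 he2 he3))
    · refine ⟨a2, fun e' he' => ?_⟩
      by_contra hcon
      apply hex
      refine ⟨e', he', ?_, ?_⟩
      · intro h; exact hcon (Or.inl h)
      · intro h; exact hcon (Or.inr (Or.inl h))
  have hb : ∀ φ : Ω, ∃ b, ∀ a j, y • a ≠ a → IsJ y a0 a1 a j → j • a2 = φ →
      a = b ∨ a = y • b := by
    intro φ
    by_cases hex : ∃ b j, y • b ≠ b ∧ IsJ y a0 a1 b j ∧ j • a2 = φ
    · obtain ⟨b, jb, hmb, hjb, hφ⟩ := hex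
      refine ⟨b, fun a j hm hj h => ?_⟩
      exact J4 b a jb j hmb hm hjb hj (by rw [hφ, h])
    · refine ⟨a2, fun a j hm hj h => ?_⟩
      exact absurd ⟨a, j, hm, hj, h⟩ hex
  obtain ⟨b1, hb1⟩ := hb a2
  obtain ⟨b2, hb2⟩ := hb a3
  obtain ⟨b3, hb3⟩ := hb e
  have cover : ∀ ω : Ω, ω ∈ [a0, a1, a2, a3, e, b1, y • b1, b2, y • b2, b3, y • b3] := by
    intro ω
    by_cases c0 : ω = a0
    · simp [c0]
    by_cases c1 : ω = a1
    · simp [c1]
    by_cases cf : y • ω = ω
    · rcases he ω cf with h | h | h <;> simp [h]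
    obtain ⟨j, hj⟩ := J1 ω c0 c1 cf
    have hf : y • (j • a2) = j • a2 := J2 ω j a2 hj hy2
    rcases he _ hf with h | h | h
    · rcases hb1 ω j cf hj h with h' | h' <;> simp [h']
    · rcases hb2 ω j cf hj h with h' | h' <;> simp [h']
    · rcases hb3 ω j cf hj h with h' | h' <;> simp [h']
  obtain ⟨hfin, hcard⟩ := card_le_of_forall_mem _ cover
  refine ⟨hfin, by simpa using hcard, ?_⟩
  intro heven
  by_cases hex : ∃ e', y • e' = e' ∧ e' ≠ a2 ∧ e' ≠ a3
  · exfalso
    obtain ⟨e', he1, he2, he3⟩ := hex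
    have hfp : MulAction.fixedPoints (Subgroup.zpowers y) Ω = {a2, a3, e'} := by
      ext ω
      simp only [MulAction.mem_fixedPoints, Set.mem_insert_iff, Set.mem_singleton_iff]
      constructor
      · intro h
        have hω : y • ω = ω := h ⟨y, Subgroup.mem_zpowers y⟩
        by_cases c2 : ω = a2
        · exact Or.inl c2
        · by_cases c3 : ω = a3
          · exact Or.inr (Or.inl c3)
          · exact Or.inr (Or.inr (fixA _ _ hω he1 c2 c3 he2 he3))
      · intro h g
        have hω : y • ω = ω := by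
          rcases h with h | h | h <;> rw [h] <;> assumption
        obtain ⟨g, hg⟩ := g
        obtain ⟨k, rfl⟩ := Subgroup.mem_zpowers_iff.mp hg
        change (y ^ k) • ω = ω
        exact MulAction.mem_stabilizer_iff.mp
          (Subgroup.zpow_mem _ (MulAction.mem_stabilizer_iff.mpr hω) k)
    have hP : IsPGroup 2 (Subgroup.zpowers y) := by
      intro g
      refine ⟨1, ?_⟩
      obtain ⟨g, hg⟩ := g
      obtain ⟨k, rfl⟩ := Subgroup.mem_zpowers_iff.mp hg
      ext
      simp only [pow_one, Subgroup.coe_pow, Subgroup.coe_one]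
      rw [← zpow_natCast, ← zpow_mul, mul_comm, zpow_mul, zpow_natCast, pow_two, hyy, one_zpow]
    have : Fact (Nat.Prime 2) := ⟨Nat.prime_two⟩
    have hmod := hP.card_modEq_card_fixedPoints Ω
    rw [hfp] at hmod
    have h3 : Nat.card ({a2, a3, e'} : Set Ω) = 3 := by
      rw [Nat.card_coe_set_eq]
      exact Set.ncard_eq_three.mpr ⟨a2, a3, e', h23, Ne.symm he2, Ne.symm he3, rfl⟩
    rw [h3] at hmod
    have : Nat.card Ω % 2 = 1 := hmod
    rcases heven with ⟨r, hr⟩
    omega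
  · have cover6 : ∀ ω : Ω, ω ∈ [a0, a1, a2, a3, b2, y • b2] := by
      intro ω
      by_cases c0 : ω = a0
      · simp [c0]
      by_cases c1 : ω = a1
      · simp [c1]
      have nofix : ∀ e', y • e' = e' → e' = a2 ∨ e' = a3 := by
        intro e' he'
        by_contra hcon
        rw [not_or] at hcon
        exact hex ⟨e', he', hcon.1, hcon.2⟩
      by_cases cf : y • ω = ω
      · rcases nofix ω cf with h | h <;> simp [h]
      obtain ⟨j, hj⟩ := J1 ω c0 c1 cf
      have hf : y • (j • a2) = j • a2 := J2 ω j a2 hj hy2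
      have hf3 : y • (j • a3) = j • a3 := J2 ω j a3 hj hy3
      rcases nofix _ hf with h | h
      · exfalso
        rcases nofix _ hf3 with h' | h'
        · rw [← h] at h'
          exact h23 (MulAction.injective j h').symm
        · exact Jne ω j cf hj ⟨h, h'⟩
      · rcases hb2 ω j cf hj h with h' | h' <;> simp [h']
    obtain ⟨_, hcard6⟩ := card_le_of_forall_mem _ cover6
    simpa using hcard6

end Cfsg.Agent.S0708
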