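import Cfsg.Statements.S0743
import Cfsg.Agent.Lib.Helper13.Gleason

set_option autoImplicit false
open Cfsg

namespace Cfsg.Agent.S0743

open MulAction Cfsg.Agent.Lib.Helper13

/-- Gleason's Lemma: let `p` be a prime and `1 ≤ k < n`; if every `k`-subset of the `n` points is exactly the fixed-point set of some `p`-subgroup of `G`, then `G` is `k`-transitive. -/
theorem result {α : Type*} [Fintype α] [DecidableEq α] (G : Subgroup (Equiv.Perm α)) {p k : ℕ} (hp : p.Prime) (hk : 1 ≤ k) (hkn : k < Fintype.card α) (h : ∀ s : Finset α, s.card = k → ∃ P : Subgroup G, IsPGroup p P ∧ MulAction.fixedPoints P α = (s : Set α)) : MulAction.IsMultiplyPretransitive G α k := by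
  have : Fact p.Prime := ⟨hp⟩
  apply isMultiplyPretransitive_of_fixing G k
  intro Δ' hΔ' a b ha hb
  by_cases hab : a = b
  · exact ⟨1, fun d _ => one_smul _ d, by rw [one_smul]; exact hab⟩
  -- extend Δ'
  have hsub : Δ' ⊆ (Finset.univ \ {a, b} : Finset α) := by
    intro x hx
    simp only [Finset.mem_sdiff, Finset.mem_univ, true_and, Finset.mem_insert,
      Finset.mem_singleton, not_or]
    refine ⟨?_, ?_⟩
    · rintro rfl; exact ha hx
    · rintro rfl; exact hb hx
  have hcard : k - 1 ≤ (Finset.univ \ {a, b} : Finset α).card := by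
    rw [Finset.card_sdiff_of_subset (Finset.subset_univ _), Finset.card_univ,
      Finset.card_pair hab]
    omega
  obtain ⟨Δ, hΔ'Δ, hΔsub, hΔcard⟩ :=
    Finset.exists_subsuperset_card_eq hsub (by omega) hcard
  have haΔ : a ∉ Δ := by
    intro h1
    have := hΔsub h1
    simp at this
  have hbΔ : b ∉ Δ := by
    intro h1
    have := hΔsub h1
    simp at this
  obtain ⟨Pa, hPa, hPafix⟩ := h (insert a Δ) (by rw [Finset.card_insert_of_notMem haΔ]; omega)
  obtain ⟨Pb, hPb, hPbfix⟩ := h (insert b Δ) (by rw [Finset.card_insert_of_notMem hbΔ]; omega)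
  -- H
  obtain ⟨H, hH⟩ : ∃ H : Subgroup G, H = fixingSubgroup G (Δ : Set α) := ⟨_, rfl⟩
  have hHmem : ∀ g : G, g ∈ H ↔ ∀ d ∈ Δ, g • d = d := by
    intro g
    rw [hH, mem_fixingSubgroup_iff]
    simp
  have hPaH : Pa ≤ H := by
    intro g hg
    rw [hHmem]
    intro d hd
    have : d ∈ fixedPoints Pa α := by
      rw [hPafix]; simp [hd]
    exact this ⟨g, hg⟩
  have hPbH : Pb ≤ H := by
    intro g hg
    rw [hHmem]
    intro d hd
    have : d ∈ fixedPoints Pb α := by
      rw [hPbfix]; simp [hd]
    exact this ⟨g, hg⟩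
  have horb : ∀ x ∈ orbit H a, x ∈ Δ → False := by
    rintro x ⟨g, rfl⟩ hx
    have hg : ∀ d ∈ Δ, (g : G) • d = d := (hHmem g).mp g.2
    have h1 : (g : G) • a = a := by
      have h2 := hg _ hx
      exact smul_left_cancel (g : G) h2
    apply haΔ
    have hx2 : (g : G) • a ∈ Δ := hx
    rw [h1] at hx2
    exact hx2
  have key : b ∈ orbit H a := by
    apply gleason_core (p := p) a b (Pa.subgroupOf H) (Pb.subgroupOf H)
      hPa.comap_subtype hPb.comap_subtype
    · intro g
      have : a ∈ fixedPoints Pa α := by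
        rw [hPafix]; simp
      exact this ⟨(g : H), g.2⟩
    · intro x hx hxfix
      have hx' : x ∈ fixedPoints Pa α := by
        intro g
        exact hxfix ⟨⟨(g : G), hPaH g.2⟩, g.2⟩
      rw [hPafix] at hx'
      simp only [Finset.coe_insert, Set.mem_insert_iff, Finset.mem_coe] at hx'
      rcases hx' with h1 | h1
      · exact h1
      · exact (horb x hx h1).elim
    · intro x hx hxfix
      have hx' : x ∈ fixedPoints Pb α := by
        intro g
        exact hxfix ⟨⟨(g : G), hPbH g.2⟩, g.2⟩
      rw [hPbfix] at hx'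
      simp only [Finset.coe_insert, Set.mem_insert_iff, Finset.mem_coe] at hx'
      rcases hx' with h1 | h1
      · exact h1
      · exact (horb x hx h1).elim
  obtain ⟨g, hg⟩ := key
  refine ⟨(g : G), ?_, hg⟩
  intro d hd
  exact (hHmem g).mp g.2 d (hΔ'Δ hd)

end Cfsg.Agent.S0743
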