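import Cfsg.Statements.S0736
import Mathlib

set_option autoImplicit false
set_option linter.unusedVariables false
open Cfsg

namespace Cfsg.Agent.S0736

open Finset

theorem choose_modEq_one (p : ℕ) [hp : Fact p.Prime] (a m : ℕ) :
    Nat.choose (p ^ a * m + (p ^ a - 1)) (p ^ a - 1) ≡ 1 [MOD p] := by
  induction a with
  | zero => simp [Nat.ModEq]
  | succ a ih =>
    obtain ⟨u, hu⟩ : ∃ u, p ^ a = u + 1 := ⟨p ^ a - 1, by
      have := Nat.one_le_pow a p hp.out.pos; omega⟩
    obtain ⟨v, hv⟩ : ∃ v, p = v + 1 := ⟨p - 1, by have := hp.out.pos; omega⟩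
    have hlt : v < p := by omega
    have h1 : p ^ (a + 1) - 1 = p * u + v := by
      rw [pow_succ, hu]
      have : (u + 1) * p = p * u + p := by ring
      rw [this]; omega
    have h2 : p ^ (a + 1) * m + (p ^ (a + 1) - 1) = p * ((u + 1) * m + u) + v := by
      rw [h1, pow_succ, hu]; ring
    rw [h2, h1]
    have hL := Choose.choose_modEq_choose_mod_mul_choose_div_nat (p := p)
      (n := p * ((u + 1) * m + u) + v) (k := p * u + v)
    have e1 : (p * ((u + 1) * m + u) + v) % p = v := by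
      rw [Nat.mul_add_mod, Nat.mod_eq_of_lt hlt]
    have e2 : (p * u + v) % p = v := by
      rw [Nat.mul_add_mod, Nat.mod_eq_of_lt hlt]
    have e3 : (p * ((u + 1) * m + u) + v) / p = (u + 1) * m + u := by
      rw [Nat.mul_add_div hp.out.pos, Nat.div_eq_of_lt hlt, add_zero]
    have e4 : (p * u + v) / p = u := by
      rw [Nat.mul_add_div hp.out.pos, Nat.div_eq_of_lt hlt, add_zero]
    rw [e1, e2, e3, e4, Nat.choose_self, one_mul] at hL
    have ih' : Nat.choose ((u + 1) * m + u) u ≡ 1 [MOD p] := by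
      have := ih
      rw [hu] at this
      simpa using this
    exact hL.trans ih'

theorem coprime_choose (p : ℕ) [hp : Fact p.Prime] (a k : ℕ) (hk : p ^ a ∣ k) :
    Nat.Coprime (p ^ a) (Nat.choose (k + p ^ a - 1) k) := by
  obtain ⟨m, rfl⟩ := hk
  have h1 : 1 ≤ p ^ a := Nat.one_le_pow a p hp.out.pos
  have h2 : p ^ a * m + p ^ a - 1 = p ^ a * m + (p ^ a - 1) := by omega
  rw [h2, Nat.choose_symm_add]
  apply Nat.Coprime.pow_left
  rw [Nat.Prime.coprime_iff_not_dvd hp.out]
  intro hdvd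
  have := choose_modEq_one p a m
  rw [Nat.ModEq, Nat.mod_eq_zero_of_dvd hdvd, Nat.mod_eq_of_lt hp.out.one_lt] at this
  exact absurd this (by norm_num)

section
variable {α : Type*} [DecidableEq α]

theorem card_supersets (Λ Δ : Finset α) (k : ℕ) (hΔ : Δ ⊆ Λ) (hΔc : Δ.card + 1 = k) :
    ((Λ.powersetCard k).filter (fun S => Δ ⊆ S)).card = Λ.card - Δ.card := by
  have : (Λ.powersetCard k).filter (fun S => Δ ⊆ S) = (Λ \ Δ).image (fun x => insert x Δ) := by
    ext S
    simp only [mem_filter, mem_powersetCard, mem_image, mem_sdiff]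
    constructor
    · rintro ⟨⟨hSΛ, hSc⟩, hΔS⟩
      have h1 : (S \ Δ).card = 1 := by rw [card_sdiff_of_subset hΔS]; omega
      obtain ⟨x, hx⟩ := card_eq_one.mp h1
      have hxS : x ∈ S \ Δ := by rw [hx]; exact mem_singleton_self x
      rw [mem_sdiff] at hxS
      refine ⟨x, ⟨hSΛ hxS.1, hxS.2⟩, ?_⟩
      rw [← sdiff_union_of_subset hΔS, hx, insert_eq]
    · rintro ⟨x, ⟨hxΛ, hxΔ⟩, rfl⟩
      refine ⟨⟨insert_subset hxΛ hΔ, ?_⟩, subset_insert _ _⟩
      rw [card_insert_of_notMem hxΔ]; exact hΔc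
  rw [this, card_image_of_injOn, card_sdiff_of_subset hΔ]
  intro x hx y hy hxy
  simp only [coe_sdiff, Set.mem_sdiff, mem_coe] at hx hy
  have hxy' : insert x Δ = insert y Δ := hxy
  have : x ∈ insert y Δ := by rw [← hxy']; exact mem_insert_self x Δ
  rcases mem_insert.mp this with h | h
  · exact h
  · exact absurd h hx.2

end

theorem choose_pred (k : ℕ) (hk : 1 ≤ k) : k.choose (k - 1) = k := by
  obtain ⟨j, rfl⟩ : ∃ j, k = j + 1 := ⟨k - 1, by omega⟩
  simp [Nat.choose_succ_self_right]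

open scoped Pointwise in
theorem smul_iff {α : Type*} [Fintype α] [DecidableEq α] (G : Subgroup (Equiv.Perm α)) {k : ℕ}
    (S S' : Finset α) (hS : S.card = k) (hS' : S'.card = k) (g : G) :
    g • (⟨S, hS⟩ : Set.powersetCard α k) = ⟨S', hS'⟩ ↔ S.image (g : Equiv.Perm α) = S' := by
  constructor
  · intro hg
    have := congrArg Subtype.val hg
    have h2 : ((g • (⟨S, hS⟩ : Set.powersetCard α k) : Set.powersetCard α k) : Finset α)
        = g • S := Set.powersetCard.coe_smul
    rw [h2] at this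
    have h3 : g • S = S' := this
    rw [← h3]
    rfl
  · intro h
    apply Subtype.ext
    have h2 : ((g • (⟨S, hS⟩ : Set.powersetCard α k) : Set.powersetCard α k) : Finset α)
        = g • S := Set.powersetCard.coe_smul
    rw [h2]
    change g • S = S'
    rw [← h]
    rfl

theorem result {α : Type*} [Fintype α] [DecidableEq α] (G : Subgroup (Equiv.Perm α)) {k : ℕ} (hk : 2 ≤ k) (hG : MulAction.IsPretransitive G (Set.powersetCard α k)) (hq : ∀ q : ℕ, IsPrimePow q → q ∣ k → k + q - 1 ≤ Fintype.card α) : MulAction.IsPretransitive G (Set.powersetCard α (k - 1)) := by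
  classical
  -- concrete k-homogeneity
  have H : ∀ S S' : Finset α, S.card = k → S'.card = k → ∃ g ∈ G, S.image g = S' := by
    intro S S' hS hS'
    obtain ⟨g, hg⟩ := hG.exists_smul_eq (⟨S, hS⟩ : Set.powersetCard α k) ⟨S', hS'⟩
    exact ⟨g.1, g.2, (smul_iff G S S' hS hS' g).mp hg⟩
  -- n ≥ k + 1
  have hn : k + 1 ≤ Fintype.card α := by
    have hk1 : k ≠ 1 := by omega
    obtain ⟨p, hp, hpk⟩ := Nat.exists_prime_and_dvd hk1
    have := hq p hp.isPrimePow hpk
    have := hp.two_le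
    omega
  suffices hmain : ∀ Δ0 Δ' : Finset α, Δ0.card = k - 1 → Δ'.card = k - 1 →
      ∃ g ∈ G, Δ0.image g = Δ' by
    constructor
    rintro ⟨Δ, hΔ⟩ ⟨Δ', hΔ'⟩
    obtain ⟨g, hg, h⟩ := hmain Δ Δ' hΔ hΔ'
    exact ⟨⟨g, hg⟩, (smul_iff G Δ Δ' hΔ hΔ' ⟨g, hg⟩).mpr h⟩
  intro Δ0 Δ' hΔ0 hΔ'
  set InO : Finset α → Prop := fun Δ => ∃ g ∈ G, Δ0.image g = Δ with hInO
  have hInv : ∀ Δ : Finset α, InO Δ → ∀ g ∈ G, InO (Δ.image g) := by
    rintro Δ ⟨g0, hg0, rfl⟩ g hg
    refine ⟨g * g0, G.mul_mem hg hg0, ?_⟩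
    rw [Finset.image_image]
    rfl
  set c : Finset α → ℕ := fun S => ((S.powersetCard (k - 1)).filter InO).card with hc
  have hcle : ∀ S S' : Finset α, S.card = k → S'.card = k → c S ≤ c S' := by
    intro S S' hS hS'
    obtain ⟨g, hg, hgS⟩ := H S S' hS hS'
    apply Finset.card_le_card_of_injOn (fun Δ => Δ.image g)
    · intro Δ hΔ
      simp only [Finset.coe_filter, Finset.mem_powersetCard, Set.mem_ofPred_eq] at hΔ ⊢
      refine ⟨⟨?_, ?_⟩, hInv Δ hΔ.2 g hg⟩
      · rw [← hgS]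
        exact Finset.image_subset_image hΔ.1.1
      · rw [Finset.card_image_of_injective _ g.injective]
        exact hΔ.1.2
    · intro Δ1 _ Δ2 _ h
      exact Finset.image_injective g.injective h
  have hcconst : ∀ S S' : Finset α, S.card = k → S'.card = k → c S = c S' :=
    fun S S' hS hS' => le_antisymm (hcle S S' hS hS') (hcle S' S hS' hS)
  -- a reference k-set containing Δ0
  obtain ⟨S0, hΔ0S0, hS0⟩ : ∃ S0 : Finset α, Δ0 ⊆ S0 ∧ S0.card = k := by
    obtain ⟨S0, h1, _, h3⟩ := Finset.exists_subsuperset_card_eq (Finset.subset_univ Δ0)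
      (by omega : Δ0.card ≤ k) (by rw [Finset.card_univ]; omega)
    exact ⟨S0, h1, h3⟩
  have hc1 : 1 ≤ c S0 := by
    rw [hc]
    apply Finset.card_pos.mpr
    refine ⟨Δ0, ?_⟩
    rw [Finset.mem_filter, Finset.mem_powersetCard]
    exact ⟨⟨hΔ0S0, hΔ0⟩, 1, G.one_mem, by simp⟩
  have hck : c S0 ≤ k := by
    rw [hc]
    calc ((S0.powersetCard (k - 1)).filter InO).card ≤ (S0.powersetCard (k - 1)).card :=
          Finset.card_filter_le _ _
      _ = k := by
          rw [Finset.card_powersetCard, hS0, choose_pred k (by omega)]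
  -- divisibility by prime powers
  have hdiv : ∀ (p a : ℕ), p.Prime → p ^ a ∣ k → p ^ a ∣ c S0 := by
    intro p a hp hpa
    by_cases ha : a = 0
    · rw [ha, pow_zero]; exact one_dvd _
    haveI : Fact p.Prime := ⟨hp⟩
    set q := p ^ a with hqdef
    have hqpp : IsPrimePow q := ⟨p, a, Nat.prime_iff.mp hp, Nat.pos_of_ne_zero ha, rfl⟩
    have hq1 : 1 ≤ q := Nat.one_le_pow a p hp.pos
    have hqn := hq q hqpp hpa
    obtain ⟨Λ, _, hΛ⟩ := Finset.exists_subset_card_eq (s := (Finset.univ : Finset α))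
      (n := k + q - 1) (by rw [Finset.card_univ]; exact hqn)
    set sΔ := (Λ.powersetCard (k - 1)).filter InO with hsΔ
    set t := Λ.powersetCard k with ht
    have hdc := Finset.sum_card_bipartiteAbove_eq_sum_card_bipartiteBelow
      (r := fun (Δ S : Finset α) => Δ ⊆ S) (s := sΔ) (t := t)
    have hL : ∀ Δ ∈ sΔ, (t.bipartiteAbove (fun (Δ S : Finset α) => Δ ⊆ S) Δ).card = q := by
      intro Δ hΔ
      rw [hsΔ, Finset.mem_filter, Finset.mem_powersetCard] at hΔ
      rw [Finset.bipartiteAbove, ht, card_supersets Λ Δ k hΔ.1.1 (by omega), hΛ, hΔ.1.2]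
      omega
    have hR : ∀ S ∈ t, (sΔ.bipartiteBelow (fun (Δ S : Finset α) => Δ ⊆ S) S).card = c S0 := by
      intro S hS
      rw [ht, Finset.mem_powersetCard] at hS
      rw [hcconst S0 S hS0 hS.2, hc]
      congr 1
      ext Δ
      simp only [Finset.bipartiteBelow, hsΔ, Finset.mem_filter, Finset.mem_powersetCard]
      constructor
      · rintro ⟨⟨⟨_, h2⟩, h3⟩, h4⟩
        exact ⟨⟨h4, h2⟩, h3⟩
      · rintro ⟨⟨h1, h2⟩, h3⟩
        exact ⟨⟨⟨h1.trans hS.1, h2⟩, h3⟩, h1⟩
    rw [Finset.sum_congr rfl hL, Finset.sum_congr rfl hR, Finset.sum_const, Finset.sum_const,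
      smul_eq_mul, smul_eq_mul, ht, Finset.card_powersetCard, hΛ] at hdc
    have hcop := coprime_choose p a k hpa
    have : q ∣ (k + q - 1).choose k * c S0 := Dvd.intro_left _ hdc
    exact (Nat.Coprime.dvd_mul_left hcop).mp this
  have hkdvd : k ∣ c S0 := (Nat.dvd_iff_prime_pow_dvd_dvd _ _).mpr hdiv
  have hceq : c S0 = k := by
    obtain ⟨r, hr⟩ := hkdvd
    have : r = 1 := by
      rcases Nat.eq_zero_or_pos r with h | h
      · rw [h, mul_zero] at hr; omega
      · by_contra hne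
        have : 2 ≤ r := by omega
        nlinarith
    rw [hr, this, mul_one]
  -- every (k-1)-set is in the orbit
  obtain ⟨S', hΔ'S', hS'⟩ : ∃ S' : Finset α, Δ' ⊆ S' ∧ S'.card = k := by
    obtain ⟨S', h1, _, h3⟩ := Finset.exists_subsuperset_card_eq (Finset.subset_univ Δ')
      (by omega : Δ'.card ≤ k) (by rw [Finset.card_univ]; omega)
    exact ⟨S', h1, h3⟩
  have hcS' : c S' = k := by rw [← hcconst S0 S' hS0 hS', hceq]
  have hfull : ((S'.powersetCard (k - 1)).filter InO).card = (S'.powersetCard (k - 1)).card := by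
    have : (S'.powersetCard (k - 1)).card = k := by
      rw [Finset.card_powersetCard, hS', choose_pred k (by omega)]
    rw [this]
    exact hcS'
  have hall := (Finset.card_filter_eq_iff).mp hfull Δ'
    (by rw [Finset.mem_powersetCard]; exact ⟨hΔ'S', hΔ'⟩)
  exact hall

end Cfsg.Agent.S0736
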