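import Cfsg.Statements.S1435
import Cfsg.Agent.Lib.Helper23.BG1435IN
import Cfsg.Agent.Lib.Helper96.BG1435F
import Cfsg.Agent.Lib.Helper22.BG1435LE

set_option autoImplicit false
open Cfsg

namespace Cfsg.Agent.S1435

/-- Let G be a minimal simple group of odd order, M a maximal subgroup with standard factorisation M = K U M_σ, K ≠ 1, U ≠ 1, K* = M_σ ∩ C_G(K), M* a maximal subgroup with K = M*_σ ∩ C_G(K*) and K* a Hall κ(M*)-subgroup of M*, r a prime dividing the order of U, R a Sylow r-subgroup of U, and H a maximal subgroup containing N_G(R). Then κ(H) is empty, U ≤ H_σ, M ∩ H = U ⊔ K, H ∩ N_G(U) ⊄ M, K ≤ F(H ∩ M*), and H ∩ M* is a complement to H_σ in H. -/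
theorem result {G : Type*} [Group G] [Finite G] (hG : Cfsg.IsMinSimpleOddOrder G)
    (M : Subgroup G) (hM : IsCoatom M) (K U : Subgroup G) (hKU : Cfsg.IsSigmaDecomposition M K U) (hK1 : K ≠ ⊥) (hU1 : U ≠ ⊥) (Mstar : Subgroup G) (hMstar : IsCoatom Mstar)
    (hKst : K = Cfsg.sigmaCore Mstar ⊓ Subgroup.centralizer ((Cfsg.sigmaCore M ⊓ Subgroup.centralizer (K : Set G)) : Set G))
    (hKstH : Cfsg.IsPiHallOf (Cfsg.kappa Mstar) (Cfsg.sigmaCore M ⊓ Subgroup.centralizer (K : Set G)) Mstar)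
    (r : ℕ) [Fact r.Prime] (hr : r ∣ Nat.card U) (R : Sylow r U) (H : Subgroup G) (hH : IsCoatom H)
    (hNR : Subgroup.normalizer (((R : Subgroup U).map U.subtype : Subgroup G) : Set G) ≤ H) :
    Cfsg.kappa H = ∅ ∧ U ≤ Cfsg.sigmaCore H ∧ M ⊓ H = U ⊔ K ∧ ¬ H ⊓ Subgroup.normalizer (U : Set G) ≤ M ∧
      K ≤ Cfsg.fittingOf (H ⊓ Mstar) ∧ Cfsg.IsComplIn (H ⊓ Mstar) (Cfsg.sigmaCore H) H := by
  have F := Cfsg.Agent.Lib.Helper90.BG1435.facts hG M hM K U hKU hK1 hU1 Mstar hMstar hKst hKstH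
    r hr R H hH hNR
  have c : Cfsg.Agent.Lib.Helper76.BG159.Ctx M K U Mstar :=
    ⟨hM, hKU, hK1, hU1, hMstar, hKst, hKstH⟩
  have h : Cfsg.Agent.Lib.Helper76.BG159.HSide K U H :=
    ⟨hH, F.U_le, F.K_le, F.kappaH, F.cardK_notin, F.centK⟩
  have hNR' : Subgroup.normalizer ((Cfsg.Agent.Lib.Helper76.BG159.tPart U r : Subgroup G) : Set G) ≤ H := by
    rw [← Cfsg.Agent.Lib.Helper76.BG159.sylow_map_eq_tPart F.abU R]
    exact hNR
  have hUσ : U ≤ Cfsg.sigmaCore H :=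
    Cfsg.Agent.Lib.Helper76.BG159.U_le_sigmaCore hG c h (Fact.out) hr hNR'
  have hI : M ⊓ H = U ⊔ K := Cfsg.Agent.Lib.Helper23.BG1435.inf_eq hG hM hKU F hUσ
  have hN : ¬ H ⊓ Subgroup.normalizer (U : Set G) ≤ M :=
    Cfsg.Agent.Lib.Helper23.BG1435.not_normalizer_le hG hM hH hKU F hUσ hI
  have h56 := Cfsg.Agent.Lib.Helper96.BG1435.clauses56_of hG hH hMstar F.kappaH F.cardK F.K_le
    F.K_le_Ms F.centK_le F.centK_uniq F.not_conj_Ms
    (fun s hs S0 h0 hC hu =>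
      Cfsg.Agent.Lib.Helper96.BG1435.kappa_case_false hG M hM K U hKU hK1 hU1 Mstar hMstar hKst
        hKstH H hH F.not_conj_M s hs S0 h0 hC hu)
  exact ⟨F.kappaH, hUσ, hI, hN, h56.1, h56.2⟩

end Cfsg.Agent.S1435
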