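import Cfsg.Statements.S0173
import Cfsg.Agent.Lib.Helper81.Twist

set_option autoImplicit false
open Cfsg

namespace Cfsg.Agent.S0173

/-- Brauer's permutation lemma for a single automorphism: the number of conjugacy classes mapped to themselves equals the number of irreducible complex characters χ with χ ∘ α = χ. -/
theorem result {G : Type*} [Group G] [Finite G] (α : G ≃* G) : Nat.card {C : ConjClasses G // ConjClasses.map α.toMonoidHom C = C} = Nat.card {χ : Cfsg.IrrCharacter G // (χ : G → ℂ) ∘ α = (χ : G → ℂ)} := by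
  have h := Cfsg.Agent.Lib.Helper81.brauer_permutation (G := G)
    (Cfsg.Agent.Lib.Helper81.irrTwist α) (Cfsg.Agent.Lib.Helper81.classMap α) (by
      intro χ C
      obtain ⟨g, rfl⟩ := ConjClasses.exists_rep C
      rw [Cfsg.Agent.Lib.Helper81.classMap_mk, Cfsg.Agent.Lib.Helper81.irrAt_mk,
        Cfsg.Agent.Lib.Helper81.irrAt_mk, Cfsg.Agent.Lib.Helper81.irrTwist_apply,
        MulEquiv.symm_apply_apply])
  rw [← Nat.card_congr (Equiv.subtypeEquivRight
    (fun χ => Cfsg.Agent.Lib.Helper81.irrTwist_eq_self_iff α χ))]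
  exact h.symm

end Cfsg.Agent.S0173
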