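import Cfsg.Statements.S1528
import Cfsg.Agent.Lib.Helper75.Twist
import Cfsg.Agent.S0173

set_option autoImplicit false
set_option linter.style.haveILetI false
open Cfsg

namespace Cfsg.Agent.S1528

open Cfsg.Agent.Lib.Helper75 Cfsg.Agent.Lib.Helper3
open scoped ComplexConjugate

/-- Let N be a normal subgroup of the finite group G such that every element of G commuting with a non-identity element of N lies in N. If χ is an irreducible character of G with χ n ≠ χ 1 for some n ∈ N, then χ is the function induced from some irreducible character of N. -/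
theorem result {G : Type*} [Group G] [Fintype G] (N : Subgroup G) [N.Normal] (hC : ∀ n ∈ N, n ≠ 1 → Subgroup.centralizer ({n} : Set G) ≤ N) (χ : G → ℂ) (hχ : Cfsg.IsIrrCharacter G χ) (hker : ∃ n ∈ N, χ n ≠ χ 1) : ∃ φ : N → ℂ, Cfsg.IsIrrCharacter N φ ∧ χ = Cfsg.indFun N φ := by
  classical
  have hN : N.Normal := inferInstance
  haveI : Fintype N := Fintype.ofFinite N
  haveI : Finite (IrrCharacter N) := irrCharacter_finite
  haveI := Fintype.ofFinite (IrrCharacter N)
  -- a nontrivial constituent
  have hres : IsCharacter N (fun n : N => χ n) :=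
    IsCharacter.restrict (IsIrrCharacter.isCharacter hχ) N
  obtain ⟨m, hm, hdec⟩ := IsCharacter.exists_mult hres
  have hex : ∃ φ : IrrCharacter N, m φ ≠ 0 ∧ (φ : N → ℂ) ≠ fun _ => 1 := by
    by_contra hall
    simp only [not_exists, not_and, not_not] at hall
    obtain ⟨n, hn, hne⟩ := hker
    apply hne
    have h1 : ∀ x : N, (fun n : N => χ n) x = (m ⟨fun _ => 1, isIrrCharacter_one⟩ : ℂ) := by
      intro x
      rw [hdec, Finset.sum_apply, Finset.sum_eq_single (⟨fun _ => 1, isIrrCharacter_one⟩ : IrrCharacter N)]
      · simp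
      · intro φ _ hφ
        have : m φ = 0 := by
          by_contra h0
          exact hφ (Subtype.ext (hall φ h0))
        rw [this]; simp
      · intro h; exact absurd (Finset.mem_univ _) h
    have h2 := h1 ⟨n, hn⟩
    have h3 := h1 1
    simp only at h2 h3
    rw [h2]
    exact h3.symm
  obtain ⟨φ, hmφ, hφ1⟩ := hex
  have hcon : classInner (fun n : N => χ n) (φ : N → ℂ) ≠ 0 := by
    rw [hm φ]; exact_mod_cast hmφ
  have hφcf : IsClassFunction N (φ : N → ℂ) :=
    IsCharacter.isClassFunction (IsIrrCharacter.isCharacter φ.2)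
  -- the inertia group of φ is N
  have hT : ∀ g : G, g ∈ N ↔ ∀ h : N, (φ : N → ℂ) ⟨g * h * g⁻¹, hN.conj_mem h h.2 g⟩ = (φ : N → ℂ) h := by
    intro g
    constructor
    · intro hg h
      exact hφcf h ⟨g, hg⟩
    · intro hinv
      by_contra hgN
      let α : N ≃* N := MulAut.conjNormal g
      have hαφ : (φ : N → ℂ) ∘ α = (φ : N → ℂ) := by
        funext h
        exact hinv h
      have hα1 : ((⟨fun _ => 1, isIrrCharacter_one⟩ : IrrCharacter N) : N → ℂ) ∘ α =
          ((⟨fun _ => 1, isIrrCharacter_one⟩ : IrrCharacter N) : N → ℂ) := rfl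
      have hcount := Cfsg.Agent.S0173.result α
      have hsub : Subsingleton {C : ConjClasses N // ConjClasses.map α.toMonoidHom C = C} := by
        have key : ∀ C : ConjClasses N, ConjClasses.map α.toMonoidHom C = C → C = ConjClasses.mk 1 := by
          intro C hCfix
          obtain ⟨n, rfl⟩ := ConjClasses.exists_rep C
          by_contra hne
          have hn1 : (n : G) ≠ 1 := by
            intro h1
            apply hne
            have : n = 1 := Subtype.ext h1
            rw [this]
          have hmap : ConjClasses.map α.toMonoidHom (ConjClasses.mk n) = ConjClasses.mk (α n) := rfl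
          rw [hmap] at hCfix
          have hconj : IsConj (α n) n := ConjClasses.mk_eq_mk_iff_isConj.1 hCfix
          obtain ⟨c, hc⟩ := isConj_iff.1 hconj
          -- c * α n * c⁻¹ = n
          have hcg : (c : G) * g ∈ Subgroup.centralizer ({(n : G)} : Set G) := by
            rw [Subgroup.mem_centralizer_singleton_iff]
            have h1 := congrArg (Subtype.val : N → G) hc
            simp only [Subgroup.coe_mul, Subgroup.coe_inv] at h1
            have h2 : ((α n : N) : G) = g * n * g⁻¹ := rfl
            rw [h2] at h1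
            -- c g n g⁻¹ c⁻¹ = n
            calc (c : G) * g * n = (c * (g * n * g⁻¹) * (c : G)⁻¹) * (c * g) := by group
              _ = n * (c * g) := by rw [h1]
          have := hC n n.2 hn1 hcg
          apply hgN
          have h3 : g = (c : G)⁻¹ * ((c : G) * g) := by group
          rw [h3]
          exact N.mul_mem (N.inv_mem c.2) this
        refine ⟨fun a b => Subtype.ext ?_⟩
        rw [key a.1 a.2, key b.1 b.2]
      have h1 : Nat.card {C : ConjClasses N // ConjClasses.map α.toMonoidHom C = C} ≤ 1 :=
        Finite.card_le_one_iff_subsingleton.2 hsub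
      rw [hcount] at h1
      have hsub2 := Finite.card_le_one_iff_subsingleton.1 h1
      have := hsub2.elim ⟨φ, hαφ⟩ ⟨⟨fun _ => 1, isIrrCharacter_one⟩, hα1⟩
      exact hφ1 (congrArg (fun x => (x.1 : N → ℂ)) this)
  obtain ⟨ψ, hψ, hind, -, -⟩ :=
    clifford_corr_surjective N N (φ : N → ℂ) φ.2 hT le_rfl χ hχ hcon
  exact ⟨ψ, hψ, hind.symm⟩

end Cfsg.Agent.S1528
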