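import Cfsg.Statements.S1535
import Cfsg.Agent.Lib.Helper76.FeitFrobMain

set_option autoImplicit false
set_option linter.style.haveILetI false
open Cfsg

namespace Cfsg.Agent.S1535

open Cfsg.Agent.Lib.Helper76
open scoped commutatorElement

/-- Let N be a finite group with a proper nontrivial normal subgroup H such that every element commuting with a non-identity element of H lies in H (N is a Frobenius group with kernel H); let e be the index of H and suppose Nat.card H ≠ e + 1. Let S be the set of irreducible characters χ of N with χ h ≠ χ 1 for some h ∈ H, and τ a linear isometry on the integer combinations of S vanishing at 1, with values virtual characters of a finite group G vanishing at 1. Then (S, N minus 1, τ) is coherent, or there is a prime p with Nat.card H a power of p, H non-abelian and [H : [H,H]] ≤ 4e² + 1. -/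
theorem result {N : Type*} [Group N] [Fintype N] {G : Type*} [Group G] [Fintype G] (H : Subgroup N) [H.Normal] (hH1 : H ≠ ⊥) (hH2 : H ≠ ⊤) (hC : ∀ h ∈ H, h ≠ 1 → Subgroup.centralizer ({h} : Set N) ≤ H) (he : Nat.card H ≠ H.index + 1) (τ : (N → ℂ) → (G → ℂ)) (hτ : Cfsg.IsLinearIsometryOn (Cfsg.zspanOn {χ : N → ℂ | Cfsg.IsIrrCharacter N χ ∧ ∃ h ∈ H, χ h ≠ χ 1} {1}ᶜ) τ) (hτ1 : ∀ α ∈ Cfsg.zspanOn {χ : N → ℂ | Cfsg.IsIrrCharacter N χ ∧ ∃ h ∈ H, χ h ≠ χ 1} {1}ᶜ, τ α 1 = 0) : Cfsg.IsCoherent {χ : N → ℂ | Cfsg.IsIrrCharacter N χ ∧ ∃ h ∈ H, χ h ≠ χ 1} {1}ᶜ τ ∨ ∃ p : ℕ, p.Prime ∧ (∃ m : ℕ, Nat.card H = p ^ m) ∧ ¬ IsMulCommutative H ∧ (⁅H, H⁆.subgroupOf H).index ≤ 4 * H.index ^ 2 + 1 := by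
  classical
  haveI : Finite (IrrCharacter N) := Cfsg.Agent.Lib.Helper3.irrCharacter_finite
  haveI := Fintype.ofFinite (IrrCharacter N)
  rw [← coe_relIrr_bot H] at hτ hτ1 ⊢
  have hnil := frob_kernel_nilpotent H hH2 hC
  haveI hH'n : (⁅H, H⁆ : Subgroup N).Normal := Subgroup.commutator_normal H H
  have hH'H : (⁅H, H⁆ : Subgroup N) ≤ H := Subgroup.commutator_le_left H H
  have he0 : H.index ≠ 0 := Subgroup.index_ne_zero_of_finite
  have he1 : H.index ≠ 1 := fun h => hH2 (Subgroup.index_eq_one.mp h)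
  have he2 : 2 ≤ H.index := by omega
  have hrelpos : ∀ A B : Subgroup N, 0 < A.relIndex B := fun A B =>
    Nat.pos_of_ne_zero (by unfold Subgroup.relIndex; exact Subgroup.index_ne_zero_of_finite)
  have hidx : ((⁅H, H⁆ : Subgroup N).subgroupOf H).index = (⁅H, H⁆ : Subgroup N).relIndex H := rfl
  by_cases hbig : 4 * H.index ^ 2 + 2 ≤ (⁅H, H⁆ : Subgroup N).relIndex H
  · left
    have hbase := coherent_base H hC τ hτ hτ1 (by nlinarith)
    exact coherent_chain H hC τ hτ hτ1 hnil hbase he2 (Or.inl hbig) _ ⊥ inferInstance bot_le rfl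
  push Not at hbig
  by_cases hab : (⁅H, H⁆ : Subgroup N) = ⊥
  · left
    have h1 := relIndex_modEq_one H hC ⊥ bot_le
    rw [Subgroup.relIndex_bot_left] at h1
    have hcard1 : Nat.card H ≠ 1 := by
      intro h
      exact hH1 (Subgroup.card_eq_one.mp h)
    have hcardpos : 0 < Nat.card H := Nat.card_pos
    have h2 := (Nat.modEq_iff_dvd' (show 1 ≤ Nat.card H by omega)).mp h1.symm
    obtain ⟨c, hc⟩ := h2
    have hc2 : 2 ≤ c := by
      by_contra hlt
      push Not at hlt
      interval_cases c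
      · omega
      · omega
    have hbig' : 2 * H.index + 1 ≤ Nat.card H := by
      have : H.index * 2 ≤ H.index * c := Nat.mul_le_mul_left _ hc2
      omega
    have hbase := coherent_base H hC τ hτ hτ1 (by
      rw [hab, Subgroup.relIndex_bot_left]; exact hbig')
    rw [hab] at hbase
    exact hbase
  by_cases hpp : ∃ p j : ℕ, p.Prime ∧ (⁅H, H⁆ : Subgroup N).relIndex H = p ^ j
  · right
    obtain ⟨p, j, hp, hpj⟩ := hpp
    refine ⟨p, hp, ?_, ?_, ?_⟩
    · refine ⟨_, Nat.eq_prime_pow_of_unique_prime_dvd Nat.card_pos.ne' ?_⟩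
      intro q hq hqd
      haveI := hnil
      haveI : ((⊥ : Subgroup N).subgroupOf H).Normal := Subgroup.normal_subgroupOf
      have h1 := Cfsg.Agent.Lib.Helper25.prime_dvd_relIndex_commutator_sup H ⊥ bot_le
        inferInstance q hq (by rw [Subgroup.relIndex_bot_left]; exact hqd)
      rw [sup_bot_eq, hpj] at h1
      exact (Nat.prime_dvd_prime_iff_eq hq hp).mp (hq.dvd_of_dvd_pow h1)
    · intro hcomm
      apply hab
      rw [eq_bot_iff, Subgroup.commutator_le]
      intro a ha b hb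
      rw [Subgroup.mem_bot, commutatorElement_def]
      have h1 := mul_comm' (⟨a, ha⟩ : H) ⟨b, hb⟩
      have h2 : a * b = b * a := congrArg Subtype.val h1
      rw [h2]
      group
    · rw [hidx]
      omega
  · left
    have hne1 : (⁅H, H⁆ : Subgroup N).relIndex H ≠ 1 := by
      intro h
      exact hpp ⟨2, 0, Nat.prime_two, by rw [h, pow_zero]⟩
    obtain ⟨M, hMn, hH'M, hMH⟩ :=
      Cfsg.Agent.Lib.Helper25.exists_intermediate_of_not_prime_pow H ⁅H, H⁆ hH'H le_rfl hne1 hpp
    haveI := hMn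
    have h1 := index_succ_le_relIndex H hC ⁅H, H⁆ M hH'M hMH.le
    have h2 := index_succ_le_relIndex H hC M H hMH le_rfl
    have h3 := Subgroup.relIndex_mul_relIndex ⁅H, H⁆ M H hH'M.le hMH.le
    have hsq : (H.index + 1) ^ 2 ≤ (⁅H, H⁆ : Subgroup N).relIndex H := by
      rw [← h3, sq]
      exact Nat.mul_le_mul h1 h2
    have hbase := coherent_base H hC τ hτ hτ1 (by nlinarith)
    exact coherent_chain H hC τ hτ hτ1 hnil hbase he2 (Or.inr ⟨hpp, hsq⟩) _ ⊥ inferInstance
      bot_le rfl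

end Cfsg.Agent.S1535
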