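import Cfsg.Statements.S0075
import Cfsg.Agent.Lib.Helper2.PResidual2

set_option autoImplicit false
open Cfsg

namespace Cfsg.Agent.S0075

open Cfsg.Agent.Lib.Helper2
open scoped commutatorElement

/-- For an abelian Sylow p-subgroup T, its intersection with the subgroup generated by the elements of order prime to p is the commutator of T with its normalizer. -/
theorem result {G : Type*} [Group G] [Finite G] {p : ℕ} [Fact p.Prime] (T : Sylow p G) (hT : IsMulCommutative T) : (T : Subgroup G) ⊓ Cfsg.pResidual p G = ⁅(T : Subgroup G), Subgroup.normalizer (T : Set G)⁆ := by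
  apply le_antisymm
  · refine (sylow_inf_pResidual_le_focalSubgroup T).trans ?_
    rw [Subgroup.focalSubgroup_def, Subgroup.closure_le]
    rintro g ⟨hgT, x, hx, u, rfl⟩
    -- ⁅x, u⁆ = x * (u * x⁻¹ * u⁻¹), so u * x⁻¹ * u⁻¹ ∈ T
    have h1 : (u⁻¹)⁻¹ * x * u⁻¹ ∈ (T : Subgroup G) := by
      have h2 : (u⁻¹)⁻¹ * x * u⁻¹ = (x⁻¹ * ⁅x, u⁆)⁻¹ := by
        rw [commutatorElement_def]; group
      rw [h2]
      exact Subgroup.inv_mem _ (Subgroup.mul_mem _ (Subgroup.inv_mem _ hx) hgT)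
    haveI : IsMulCommutative (T : Subgroup G) := hT
    obtain ⟨n, hn, hconj⟩ := T.conj_eq_normalizer_conj_of_mem x u⁻¹ hx h1
    have h3 : ⁅x, u⁆ = ⁅x, n⁻¹⁆ := by
      rw [commutatorElement_def, commutatorElement_def]
      have : u * x⁻¹ * u⁻¹ = n⁻¹ * x⁻¹ * (n⁻¹)⁻¹ := by
        have h4 := congrArg (fun z => z⁻¹) hconj
        simp only [mul_inv_rev, inv_inv] at h4
        rw [inv_inv]
        calc u * x⁻¹ * u⁻¹ = u * (x⁻¹ * u⁻¹) := by group
          _ = n⁻¹ * (x⁻¹ * n) := h4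
          _ = n⁻¹ * x⁻¹ * n := by group
      calc x * u * x⁻¹ * u⁻¹ = x * (u * x⁻¹ * u⁻¹) := by group
        _ = x * (n⁻¹ * x⁻¹ * (n⁻¹)⁻¹) := by rw [this]
        _ = x * n⁻¹ * x⁻¹ * (n⁻¹)⁻¹ := by group
    rw [h3]
    exact Subgroup.commutator_mem_commutator hx (Subgroup.inv_mem _ hn)
  · apply le_inf
    · rw [Subgroup.commutator_le]
      intro t ht n hn
      rw [commutatorElement_def]
      have : n * t⁻¹ * n⁻¹ ∈ (T : Subgroup G) :=
        (Subgroup.mem_normalizer_iff.mp hn t⁻¹).mp (Subgroup.inv_mem _ ht)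
      have h2 : t * n * t⁻¹ * n⁻¹ = t * (n * t⁻¹ * n⁻¹) := by group
      rw [h2]
      exact Subgroup.mul_mem _ ht this
    · refine le_trans ?_ (commutator_le_pResidual_of_sylow_comm T hT)
      rw [commutator_def]
      exact Subgroup.commutator_mono le_top le_top

end Cfsg.Agent.S0075
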