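import Cfsg.Statements.S0105
import Cfsg.Agent.S0075
import Cfsg.Agent.Lib.Helper2.PResidual2
import Cfsg.Agent.Lib.Helper24.CoprimeAbelian
import Cfsg.Agent.Lib.Helper24.RelSZ

set_option autoImplicit false
open Cfsg

namespace Cfsg.Agent.S0105

open Cfsg.Agent.Lib.Helper2
open Cfsg.Agent.Lib.Helper24
open scoped commutatorElement

/-- For an abelian Sylow subgroup, `P ∩ Z(N(P))` is a complement of `O^p(G)`. -/
theorem isComplement'_center_normalizer {G : Type*} [Group G] [Finite G] {p : ℕ} [Fact p.Prime]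
    (P : Sylow p G) (hP : IsMulCommutative P) :
    ((P : Subgroup G) ⊓ Subgroup.centralizer (Subgroup.normalizer (P : Set G) : Set G)).IsComplement'
      (Cfsg.pResidual p G) := by
  have hp : p.Prime := Fact.out
  haveI : IsMulCommutative (P : Subgroup G) := hP
  have hNorm := pResidual_normal (G := G) p
  obtain ⟨n, hn⟩ := (IsPGroup.iff_card.mp P.isPGroup')
  -- complement of P in its normalizer
  have hcop0 : (Nat.card (P : Subgroup G)).Coprime
      ((P : Subgroup G).relIndex (Subgroup.normalizer ((P : Subgroup G) : Set G))) := by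
    rw [hn]
    apply Nat.Coprime.pow_left
    rw [Nat.Prime.coprime_iff_not_dvd hp]
    intro hdvd
    exact P.not_dvd_index (hdvd.trans (Subgroup.relIndex_dvd_index_of_le Subgroup.le_normalizer))
  obtain ⟨H, hHN, hHcard, hHP, hHsup⟩ := rel_sz_exists (P : Subgroup G)
    (Subgroup.normalizer ((P : Subgroup G) : Set G)) Subgroup.le_normalizer le_rfl hcop0
  have hcop : (Nat.card H).Coprime (Nat.card (P : Subgroup G)) := by
    rw [hHcard]; exact hcop0.symm
  have hsolvP : Group.IsSolvable (P : Subgroup G) := by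
    letI : CommGroup (P : Subgroup G) := { mul_comm := hP.is_comm.comm }
    infer_instance
  have h1 : ⁅(P : Subgroup G), H⁆ ⊔ ((P : Subgroup G) ⊓ Subgroup.centralizer (H : Set G))
      = (P : Subgroup G) :=
    commutator_sup_centralizer_eq H (P : Subgroup G) hHN hcop (Or.inr hsolvP)
  have h2 : ⁅(P : Subgroup G), H⁆ ⊓ Subgroup.centralizer (H : Set G) = ⊥ :=
    commutator_inf_centralizer_eq_bot_of_abelian (P : Subgroup G) H hHN hcop
  -- P ∩ C(H) = P ∩ C(N(P))
  have h3 : (P : Subgroup G) ⊓ Subgroup.centralizer (H : Set G) =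
      (P : Subgroup G) ⊓ Subgroup.centralizer (Subgroup.normalizer (P : Set G) : Set G) := by
    apply le_antisymm
    · intro x hx
      obtain ⟨hxP, hxH⟩ := Subgroup.mem_inf.mp hx
      refine Subgroup.mem_inf.mpr ⟨hxP, ?_⟩
      rw [Subgroup.mem_centralizer_iff]
      intro y hy
      have hy' : y ∈ ((H ⊔ (P : Subgroup G) : Subgroup G) : Set G) := by
        rw [hHsup]; exact hy
      rw [Subgroup.coe_mul_of_left_le_normalizer_right H (P : Subgroup G) hHN] at hy'
      obtain ⟨h, hh, s, hs, rfl⟩ := hy'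
      have e1 : h * x = x * h := (Subgroup.mem_centralizer_iff.mp hxH) h hh
      have e2 : s * x = x * s :=
        congrArg Subtype.val (hP.is_comm.comm (⟨s, hs⟩ : (P : Subgroup G)) ⟨x, hxP⟩)
      rw [mul_assoc, e2, ← mul_assoc, e1, mul_assoc]
    · exact inf_le_inf_left _ (Subgroup.centralizer_le hHN)
  -- [P, N(P)] ≤ [P, H]
  have h4 : ⁅(P : Subgroup G), Subgroup.normalizer (P : Set G)⁆ ≤ ⁅(P : Subgroup G), H⁆ := by
    rw [Subgroup.commutator_le]
    intro t ht y hy
    have hy' : y ∈ ((H ⊔ (P : Subgroup G) : Subgroup G) : Set G) := by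
      rw [hHsup]; exact hy
    rw [Subgroup.coe_mul_of_left_le_normalizer_right H (P : Subgroup G) hHN] at hy'
    obtain ⟨h, hh, s, hs, rfl⟩ := hy'
    have e2 : s * t⁻¹ = t⁻¹ * s :=
      congrArg Subtype.val (hP.is_comm.comm (⟨s, hs⟩ : (P : Subgroup G))
        (⟨t, ht⟩ : (P : Subgroup G))⁻¹)
    have e3 : ⁅t, h * s⁆ = ⁅t, h⁆ := by
      rw [commutatorElement_def, commutatorElement_def]
      calc t * (h * s) * t⁻¹ * (h * s)⁻¹ = t * h * (s * t⁻¹) * s⁻¹ * h⁻¹ := by group
        _ = t * h * (t⁻¹ * s) * s⁻¹ * h⁻¹ := by rw [e2]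
        _ = t * h * t⁻¹ * h⁻¹ := by group
    rw [e3]
    exact Subgroup.commutator_mem_commutator ht hh
  have h75 := Cfsg.Agent.S0075.result P hP
  have hD : ⁅(P : Subgroup G), H⁆ ≤ Cfsg.pResidual p G := by
    have : ⁅(P : Subgroup G), H⁆ ≤ ⁅(P : Subgroup G), Subgroup.normalizer (P : Set G)⁆ :=
      Subgroup.commutator_mono le_rfl hHN
    exact this.trans (h75 ▸ inf_le_right)
  apply Subgroup.isComplement'_of_disjoint_and_mul_eq_univ
  · rw [disjoint_iff, eq_bot_iff, ← h2]
    intro x hx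
    obtain ⟨hx1, hxR⟩ := Subgroup.mem_inf.mp hx
    obtain ⟨hxP, hxC⟩ := Subgroup.mem_inf.mp hx1
    refine Subgroup.mem_inf.mpr ⟨?_, ?_⟩
    · apply h4
      rw [← h75]
      exact Subgroup.mem_inf.mpr ⟨hxP, hxR⟩
    · exact Subgroup.centralizer_le hHN hxC
  · rw [← Subgroup.mul_normal, ← h3]
    have : ((P : Subgroup G) ⊓ Subgroup.centralizer (H : Set G)) ⊔ Cfsg.pResidual p G = ⊤ := by
      rw [eq_top_iff, ← sylow_sup_pResidual P]
      apply sup_le _ le_sup_right
      conv_lhs => rw [← h1]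
      apply sup_le
      · exact hD.trans le_sup_right
      · exact le_sup_left
    rw [this]; rfl

/-- With an abelian Sylow p-subgroup P, some quotient of G is isomorphic to the part of P central in N_G(P). -/
theorem result {G : Type*} [Group G] [Finite G] {p : ℕ} [Fact p.Prime] (P : Sylow p G) (hP : IsMulCommutative P) : ∃ (N : Subgroup G) (hN : N.Normal), Nonempty (G ⧸ N ≃* ((P : Subgroup G) ⊓ Subgroup.centralizer (Subgroup.normalizer (P : Set G) : Set G) : Subgroup G)) := by
  have hNorm := pResidual_normal (G := G) p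
  exact ⟨Cfsg.pResidual p G, hNorm,
    ⟨(isComplement'_center_normalizer P hP).QuotientMulEquiv⟩⟩

end Cfsg.Agent.S0105
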