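import Cfsg.Statements.S0580
import Mathlib

set_option autoImplicit false
open Cfsg

namespace Cfsg.Agent.S0580

theorem pgroup_le_of_coprime_index {G : Type*} [Group G] [Finite G] {p : ℕ} [hp : Fact p.Prime]
    (P : Subgroup G) (hP : IsPGroup p P) (K : Subgroup G) [K.Normal] (hK : ¬ p ∣ K.index) : P ≤ K := by
  intro x hx
  obtain ⟨k, hk⟩ := (IsPGroup.iff_orderOf.mp hP) ⟨x, hx⟩
  have hk' : orderOf x = p ^ k := by
    rw [← hk]
    exact (Subgroup.orderOf_mk x hx).symm
  have h1 : orderOf (QuotientGroup.mk x : G ⧸ K) ∣ p ^ k := by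
    rw [← hk']
    exact orderOf_map_dvd (QuotientGroup.mk' K) x
  have h2 : orderOf (QuotientGroup.mk x : G ⧸ K) ∣ K.index := by
    rw [Subgroup.index_eq_card]
    exact orderOf_dvd_natCard _
  have hcop : Nat.Coprime (p ^ k) K.index := by
    apply Nat.Coprime.pow_left
    exact (Nat.Prime.coprime_iff_not_dvd hp.out).mpr hK
  have h3 : orderOf (QuotientGroup.mk x : G ⧸ K) = 1 := Nat.eq_one_of_dvd_coprimes hcop h1 h2
  rw [orderOf_eq_one_iff] at h3
  exact (QuotientGroup.eq_one_iff x).mp h3

theorem sylow_normal_of_max {G : Type*} [Group G] [Finite G]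
    (h : ∀ M : Subgroup G, IsCoatom M → M.index.Prime) (p : ℕ) [hp : Fact p.Prime]
    (hmax : ∀ q : ℕ, q.Prime → q ∣ Nat.card G → q ≤ p) (P : Sylow p G) :
    (P : Subgroup G).Normal := by
  by_contra hn
  have hne : Subgroup.normalizer ((P : Subgroup G) : Set G) ≠ ⊤ :=
    fun h => hn (Subgroup.normalizer_eq_top_iff.mp h)
  obtain ⟨M, hM, hNM⟩ :=
    (eq_top_or_exists_le_coatom (Subgroup.normalizer ((P : Subgroup G) : Set G))).resolve_left hne
  have hPM : (P : Subgroup G) ≤ M := Subgroup.le_normalizer.trans hNM
  have hq : M.index.Prime := h M hM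
  have hpq : ¬ p ∣ M.index := fun hd => P.not_dvd_index (hd.trans (Subgroup.index_dvd_of_le hPM))
  have hqp : M.index ≤ p := hmax _ hq (Subgroup.index_dvd_card M)
  have hlt : M.index < p := lt_of_le_of_ne hqp fun he => hpq (by rw [he])
  have hK : M.normalCore.index ∣ M.index.factorial := by
    rw [Subgroup.normalCore_eq_ker, Subgroup.index_ker, Subgroup.index_eq_card, ← Nat.card_perm]
    exact Subgroup.card_subgroup_dvd_card (MulAction.toPermHom G (G ⧸ M)).range
  have hpK : ¬ p ∣ M.normalCore.index := by
    intro hd
    have := (Nat.Prime.dvd_factorial hp.out).mp (hd.trans hK)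
    omega
  have hPK : (P : Subgroup G) ≤ M.normalCore := pgroup_le_of_coprime_index _ P.2 _ hpK
  have htop := Sylow.normalizer_sup_eq_top' P hPK
  have : (⊤ : Subgroup G) ≤ M := by
    rw [← htop]
    exact sup_le hNM (Subgroup.normalCore_le M)
  exact hM.1 (top_le_iff.mp this)

universe u

theorem aux : ∀ n : ℕ, ∀ (G : Type u) [Group G] [Finite G], Nat.card G = n →
    (∀ M : Subgroup G, IsCoatom M → M.index.Prime) → Group.IsSolvable G := by
  intro n
  induction n using Nat.strong_induction_on with
  | _ n ih =>
    intro G _ _ hn h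
    by_cases h1 : Nat.card G = 1
    · haveI : Subsingleton G := (Nat.card_eq_one_iff_unique.mp h1).1
      infer_instance
    · have hpos : Nat.card G ≠ 0 := Nat.card_pos.ne'
      have hne : (Nat.card G).primeFactors.Nonempty := by
        rw [Nat.nonempty_primeFactors]
        omega
      set p := (Nat.card G).primeFactors.max' hne with hp
      have hpmem : p ∈ (Nat.card G).primeFactors := Finset.max'_mem _ hne
      have hpp : p.Prime := Nat.prime_of_mem_primeFactors hpmem
      have hpd : p ∣ Nat.card G := Nat.dvd_of_mem_primeFactors hpmem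
      haveI : Fact p.Prime := ⟨hpp⟩
      have hmax : ∀ q : ℕ, q.Prime → q ∣ Nat.card G → q ≤ p := by
        intro q hq hqd
        exact Finset.le_max' _ q (Nat.mem_primeFactors.mpr ⟨hq, hqd, hpos⟩)
      let P : Sylow p G := default
      haveI hPn : (P : Subgroup G).Normal := sylow_normal_of_max h p hmax P
      have hPne : (P : Subgroup G) ≠ ⊥ := P.ne_bot_of_dvd_card hpd
      -- quotient is smaller
      have hcard : Nat.card G = Nat.card (G ⧸ (P : Subgroup G)) * Nat.card (P : Subgroup G) :=
        Subgroup.card_eq_card_quotient_mul_card_subgroup _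
      have hPcard : 1 < Nat.card (P : Subgroup G) := by
        rw [Subgroup.one_lt_card_iff_ne_bot]
        exact hPne
      have hqpos : 0 < Nat.card (G ⧸ (P : Subgroup G)) := Nat.card_pos
      have hlt : Nat.card (G ⧸ (P : Subgroup G)) < n := by
        rw [← hn, hcard]
        nlinarith
      have hquot : ∀ M : Subgroup (G ⧸ (P : Subgroup G)), IsCoatom M → M.index.Prime := by
        intro M hM
        have hsurj : Function.Surjective (QuotientGroup.mk' (P : Subgroup G)) :=
          QuotientGroup.mk'_surjective _
        have := h (M.comap (QuotientGroup.mk' (P : Subgroup G)))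
          (Subgroup.isCoatom_comap_of_surjective hsurj hM)
        rwa [Subgroup.index_comap_of_surjective _ hsurj] at this
      haveI hsq : Group.IsSolvable (G ⧸ (P : Subgroup G)) := ih _ hlt _ rfl hquot
      haveI hsP : Group.IsSolvable (P : Subgroup G) := by
        haveI : Group.IsNilpotent (P : Subgroup G) := P.2.isNilpotent
        infer_instance
      apply Group.isSolvable_of_ker_le_range (P : Subgroup G).subtype (QuotientGroup.mk' (P : Subgroup G))
      rw [QuotientGroup.ker_mk', Subgroup.range_subtype]

/-- If every maximal subgroup of a finite group has prime index, then the group is solvable. -/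
theorem result {G : Type*} [Group G] [Finite G] (h : ∀ M : Subgroup G, IsCoatom M → M.index.Prime) : Group.IsSolvable G := by
  exact aux _ G rfl h

end Cfsg.Agent.S0580
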