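import Cfsg.Statements.S0514
import Cfsg.Agent.S0071
import Cfsg.Agent.Lib.Helper4.DihedralSub
import Cfsg.Agent.Lib.Helper4.SylowConj

set_option autoImplicit false
open Cfsg

namespace Cfsg.Agent.S0514

open Cfsg.Agent.Lib.Helper4

/-- In a finite group whose Sylow 2-subgroups are dihedral of order at least 4, the centralizer of any involution has a
normal subgroup of odd order whose index in the centralizer is a power of 2. -/
theorem result {X : Type*} [Group X] [Finite X]
    (S : Sylow 2 X) (n : ℕ) (hn : 2 ≤ n) (hS : Nonempty ((S : Subgroup X) ≃* DihedralGroup n)) (t : X)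
    (ht : orderOf t = 2) :
    ∃ N : Subgroup (Subgroup.centralizer ({t} : Set X)), N.Normal ∧ Odd (Nat.card N) ∧ ∃ k : ℕ, N.index = 2 ^ k := by
  classical
  have : Fact (Nat.Prime 2) := ⟨Nat.prime_two⟩
  obtain ⟨e⟩ := hS
  set C := Subgroup.centralizer ({t} : Set X) with hC
  obtain ⟨T⟩ : Nonempty (Sylow 2 C) := inferInstance
  have htC : t ∈ C := Subgroup.mem_centralizer_iff.mpr (fun y hy => by
    rw [Set.mem_singleton_iff] at hy; rw [hy])
  set tC : C := ⟨t, htC⟩ with htCdef
  have htC1 : tC ≠ 1 := by
    intro h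
    have h1 : t = 1 := congrArg Subtype.val h
    rw [h1, orderOf_one] at ht
    omega
  have htCcen : ∀ c : C, c * tC = tC * c := by
    intro c
    apply Subtype.ext
    have := Subgroup.mem_centralizer_iff.mp c.2 t (Set.mem_singleton t)
    simpa using this.symm
  have hfrob : ∀ Q : Subgroup C, Q ≤ (T : Subgroup C) → ∀ g ∈ Subgroup.normalizer (Q : Set C),
      Nat.Coprime (orderOf g) 2 → g ∈ Subgroup.centralizer (Q : Set C) := by
    intro Q hQT g hg hgo
    have hodd : Odd (orderOf g) := Nat.Coprime.odd_of_right hgo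
    have hQ2 : IsPGroup 2 Q := T.2.to_le hQT
    have hZ2 : IsPGroup 2 (Subgroup.zpowers tC) := by
      apply IsPGroup.of_card (n := 1)
      rw [Nat.card_zpowers, pow_one, ← ht]
      exact (Subgroup.orderOf_mk t htC)
    have hZn : (Subgroup.zpowers tC).Normal := by
      constructor
      intro z hz c
      obtain ⟨j, rfl⟩ := Subgroup.mem_zpowers_iff.mp hz
      have : c * tC ^ j * c⁻¹ = tC ^ j := by
        have hcomm : Commute c (tC ^ j) := (show Commute c tC from htCcen c).zpow_right j
        rw [hcomm.eq]; group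
      rw [this]
      exact Subgroup.zpow_mem_zpowers tC j
    set R := Q ⊔ Subgroup.zpowers tC with hRdef
    have hR2 : IsPGroup 2 R := IsPGroup.to_sup_of_normal_right hQ2 hZ2
    have hgR : g ∈ Subgroup.normalizer (R : Set C) := by
      apply Subgroup.normalizer_inf_normalizer_le_normalizer_sup
      refine ⟨hg, ?_⟩
      rw [Subgroup.normalizer_eq_top]
      exact Subgroup.mem_top g
    have htR : tC ∈ R := (le_sup_right : Subgroup.zpowers tC ≤ R) (Subgroup.mem_zpowers tC)
    -- embed R into the dihedral group
    have hRX : IsPGroup 2 (R.map C.subtype) := hR2.map C.subtype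
    obtain ⟨h, hh⟩ := exists_conj_mem_sylow S (R.map C.subtype) hRX
    let ψ : R →* (S : Subgroup X) := MonoidHom.mk'
      (fun x => ⟨h⁻¹ * ((x : C) : X) * h, hh _ (Subgroup.mem_map_of_mem C.subtype x.2)⟩) (by
        intro a b
        apply Subtype.ext
        simp only [Subgroup.coe_mul]
        group)
    have hψ : Function.Injective ψ := by
      intro a b hab
      have h1 : h⁻¹ * ((a : C) : X) * h = h⁻¹ * ((b : C) : X) * h := congrArg Subtype.val hab
      have h2 : ((a : C) : X) = ((b : C) : X) := by
        rw [mul_assoc, mul_assoc] at h1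
        exact mul_right_cancel (mul_left_cancel h1)
      exact Subtype.ext (Subtype.ext h2)
    have hφ : Function.Injective (e.toMonoidHom.comp ψ) := by
      intro a b hab
      exact hψ (e.injective hab)
    have := centralizes_of_dihedral_embedding R hR2 (e.toMonoidHom.comp ψ) hφ g hgR hodd tC htR htC1
      (htCcen g)
    exact Subgroup.centralizer_le (le_sup_left : Q ≤ R) this
  obtain ⟨N, hN, hc⟩ := (Cfsg.Agent.S0071.result T).mpr hfrob
  refine ⟨N, hN, ?_, ?_⟩
  · have h1 : (T : Subgroup C).index = Nat.card N := hc.index_eq_card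
    have h2 := T.not_dvd_index
    rw [h1] at h2
    exact Nat.odd_iff.mpr (Nat.two_dvd_ne_zero.mp h2)
  · have h1 : N.index = Nat.card (T : Subgroup C) := hc.symm.index_eq_card
    obtain ⟨k, hk⟩ := T.2.exists_card_eq
    exact ⟨k, h1.trans hk⟩

end Cfsg.Agent.S0514
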