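import Cfsg.Statements.S1477
import Cfsg.Agent.Lib.Helper10.Nilpotent
import Cfsg.Agent.Lib.Helper35.HallFusion

set_option autoImplicit false
open Cfsg

namespace Cfsg.Agent.S1477

open Cfsg.Agent.Lib

variable {G : Type*} [Group G]

/-- coprime-order elements of a nilpotent subgroup commute -/
theorem comm_in (F : Subgroup G) (hF : Group.IsNilpotent F) {a b : G} (ha : a ∈ F) (hb : b ∈ F)
    {m n : ℕ} (ham : a ^ m = 1) (hbn : b ^ n = 1) (hmn : Nat.Coprime m n) : a * b = b * a := by
  have h := Helper35.commute_of_coprime_of_isNilpotent F ⟨a, ha⟩ ⟨b, hb⟩ m n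
    (Subtype.ext (by simpa using ham)) (Subtype.ext (by simpa using hbn)) hmn
  exact congrArg Subtype.val h.eq

theorem mem_of_pow_mem_of_coprime (K : Subgroup G) {g : G} {a b : ℕ} (hab : Nat.Coprime a b)
    (ha : g ^ a ∈ K) (hb : g ^ b ∈ K) : g ∈ K := by
  have h2 : g ^ ((Nat.gcd a b : ℕ) : ℤ) ∈ K := by
    rw [Nat.gcd_eq_gcd_ab a b, zpow_add, zpow_mul, zpow_mul]
    exact K.mul_mem (K.zpow_mem (by simpa using ha) _) (K.zpow_mem (by simpa using hb) _)
  rw [hab.gcd_eq_one] at h2
  simpa using h2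

theorem cent_eq (hCN : IsCNGroup G) (H : Subgroup G)
    (hmax : ∀ L : Subgroup G, Group.IsNilpotent L → H ≤ L → L = H) {z : G} (hz1 : z ≠ 1)
    (hzc : ∀ h ∈ H, h * z = z * h) : Subgroup.centralizer ({z} : Set G) = H := by
  apply hmax _ (hCN z hz1)
  intro h hh
  rw [Subgroup.mem_centralizer_iff]
  intro y hy
  rw [Set.mem_singleton_iff] at hy
  subst hy
  exact (hzc h hh).symm

theorem mem_cent_singleton {z g : G} : g ∈ Subgroup.centralizer ({z} : Set G) ↔ z * g = g * z := by
  rw [Subgroup.mem_centralizer_iff]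
  constructor
  · intro h; exact h z rfl
  · intro h y hy
    rw [Set.mem_singleton_iff] at hy
    subst hy
    exact h

theorem exists_central_prime [Finite G] (H : Subgroup G) (hH : Group.IsNilpotent H) {p : ℕ}
    (hp : p.Prime) (hdvd : p ∣ Nat.card H) :
    ∃ z ∈ H, orderOf z = p ∧ ∀ h ∈ H, h * z = z * h := by
  have : Fact p.Prime := ⟨hp⟩
  obtain ⟨P⟩ : Nonempty (Sylow p H) := inferInstance
  have hPn : (P : Subgroup H).Normal := inferInstance
  have hPne : (P : Subgroup H) ≠ ⊥ := P.ne_bot_of_dvd_card hdvd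
  have hne := Helper10.normal_inf_center_ne_bot (P : Subgroup H) hPne
  have hpg : IsPGroup p ((P : Subgroup H) ⊓ Subgroup.center H : Subgroup H) :=
    P.isPGroup'.to_le inf_le_left
  obtain ⟨n, hn⟩ := IsPGroup.iff_card.mp hpg
  have hn0 : n ≠ 0 := by
    rintro rfl
    rw [pow_zero] at hn
    exact hne (Subgroup.eq_bot_of_card_eq _ hn)
  have hdvd2 : p ∣ Nat.card ((P : Subgroup H) ⊓ Subgroup.center H : Subgroup H) := by
    rw [hn]; exact dvd_pow_self p hn0
  obtain ⟨x, hx⟩ := exists_prime_orderOf_dvd_card' p hdvd2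
  refine ⟨((x : H) : G), (x : H).2, ?_, ?_⟩
  · rw [Subgroup.orderOf_coe, Subgroup.orderOf_coe]; exact hx
  · intro h hh
    have := (Subgroup.mem_center_iff.mp x.2.2) ⟨h, hh⟩
    exact congrArg Subtype.val this

theorem exists_sylow_le [Finite G] (hCN : IsCNGroup G) (H : Subgroup G) (hH : Group.IsNilpotent H)
    (hmax : ∀ L : Subgroup G, Group.IsNilpotent L → H ≤ L → L = H) {p : ℕ} [Fact p.Prime]
    (hdvd : p ∣ Nat.card H) : ∃ Q : Sylow p G, (Q : Subgroup G) ≤ H := by
  have hp : p.Prime := Fact.out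
  by_cases hq : ∃ q, q.Prime ∧ q ≠ p ∧ q ∣ Nat.card H
  · obtain ⟨q, hqp, hqne, hqd⟩ := hq
    obtain ⟨zp, hzpH, hzpo, hzpc⟩ := exists_central_prime H hH hp hdvd
    obtain ⟨zq, hzqH, hzqo, hzqc⟩ := exists_central_prime H hH hqp hqd
    have hzp1 : zp ≠ 1 := by
      rintro rfl; rw [orderOf_one] at hzpo; exact hp.one_lt.ne hzpo
    have hzq1 : zq ≠ 1 := by
      rintro rfl; rw [orderOf_one] at hzqo; exact hqp.one_lt.ne hzqo
    have hCp := cent_eq hCN H hmax hzp1 hzpc
    have hCq := cent_eq hCN H hmax hzq1 hzqc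
    have hpgz : IsPGroup p (Subgroup.zpowers zp) := by
      apply IsPGroup.of_card (n := 1)
      rw [Nat.card_zpowers, hzpo, pow_one]
    obtain ⟨Q, hQ⟩ := hpgz.exists_le_sylow
    refine ⟨Q, ?_⟩
    have hzpQ : zp ∈ (Q : Subgroup G) := hQ (Subgroup.mem_zpowers zp)
    have hQne : (⊤ : Subgroup (Q : Subgroup G)) ≠ ⊥ := by
      intro h
      have : (⟨zp, hzpQ⟩ : (Q : Subgroup G)) ∈ (⊥ : Subgroup (Q : Subgroup G)) := by
        rw [← h]; trivial
      rw [Subgroup.mem_bot] at this
      exact hzp1 (congrArg Subtype.val this)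
    have hQnil : Group.IsNilpotent (Q : Subgroup G) := Q.isPGroup'.isNilpotent
    have hne := Helper10.normal_inf_center_ne_bot (⊤ : Subgroup (Q : Subgroup G)) hQne
    obtain ⟨w, hw1⟩ := (Subgroup.ne_bot_iff_exists_ne_one).mp hne
    have hwc : (w : (Q : Subgroup G)) ∈ Subgroup.center (Q : Subgroup G) := w.2.2
    set z : G := ((w : (Q : Subgroup G)) : G) with hzdef
    have hzQ : z ∈ (Q : Subgroup G) := (w : (Q : Subgroup G)).2
    have hz1 : z ≠ 1 := by
      intro h
      apply hw1
      apply Subtype.ext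
      apply Subtype.ext
      exact h
    have hzc : ∀ y ∈ (Q : Subgroup G), y * z = z * y := by
      intro y hy
      have := (Subgroup.mem_center_iff.mp hwc) ⟨y, hy⟩
      exact congrArg Subtype.val this
    have hzH : z ∈ H := by
      rw [← hCp, mem_cent_singleton]
      exact hzc zp hzpQ
    have hCnil := hCN z hz1
    have hzqC : zq ∈ Subgroup.centralizer ({z} : Set G) := by
      rw [mem_cent_singleton]
      exact hzqc z hzH
    intro y hy
    have hyC : y ∈ Subgroup.centralizer ({z} : Set G) := by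
      rw [mem_cent_singleton]
      exact (hzc y hy).symm
    obtain ⟨k, hk⟩ := Q.isPGroup' ⟨y, hy⟩
    have hyk : y ^ (p ^ k) = 1 := by
      have := congrArg Subtype.val hk
      simpa using this
    have hzqq : zq ^ q = 1 := by rw [← hzqo]; exact pow_orderOf_eq_one zq
    have hcop : Nat.Coprime (p ^ k) q :=
      Nat.Coprime.pow_left k ((Nat.coprime_primes hp hqp).mpr (Ne.symm hqne))
    have hcomm := comm_in _ hCnil hyC hzqC hyk hzqq hcop
    rw [← hCq, mem_cent_singleton]
    exact hcomm.symm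
  · have hcard : Nat.card H = p ^ (Nat.card H).primeFactorsList.length := by
      apply Nat.eq_prime_pow_of_unique_prime_dvd Nat.card_pos.ne'
      intro d hd hdd
      by_contra hne
      exact hq ⟨d, hd, hne, hdd⟩
    have hpg : IsPGroup p H := IsPGroup.of_card hcard
    obtain ⟨Q, hQ⟩ := hpg.exists_le_sylow
    have hQnil : Group.IsNilpotent (Q : Subgroup G) := Q.isPGroup'.isNilpotent
    exact ⟨Q, (hmax _ hQnil hQ).le⟩

theorem cent_le_of_two_primes [Finite G] (hCN : IsCNGroup G) (H : Subgroup G)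
    (hH : Group.IsNilpotent H)
    (hmax : ∀ L : Subgroup G, Group.IsNilpotent L → H ≤ L → L = H) {p q : ℕ} (hp : p.Prime)
    (hq : q.Prime) (hpq : p ≠ q) (hpd : p ∣ Nat.card H) (hqd : q ∣ Nat.card H) {x : G}
    (hxH : x ∈ H) (hx1 : x ≠ 1) : Subgroup.centralizer ({x} : Set G) ≤ H := by
  obtain ⟨zp, hzpH, hzpo, hzpc⟩ := exists_central_prime H hH hp hpd
  obtain ⟨zq, hzqH, hzqo, hzqc⟩ := exists_central_prime H hH hq hqd
  have hzp1 : zp ≠ 1 := by
    rintro rfl; rw [orderOf_one] at hzpo; exact hp.one_lt.ne hzpo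
  have hzq1 : zq ≠ 1 := by
    rintro rfl; rw [orderOf_one] at hzqo; exact hq.one_lt.ne hzqo
  have hCp := cent_eq hCN H hmax hzp1 hzpc
  have hCq := cent_eq hCN H hmax hzq1 hzqc
  have hCnil := hCN x hx1
  have hzpC : zp ∈ Subgroup.centralizer ({x} : Set G) := by
    rw [mem_cent_singleton]; exact hzpc x hxH
  have hzqC : zq ∈ Subgroup.centralizer ({x} : Set G) := by
    rw [mem_cent_singleton]; exact hzqc x hxH
  intro g hg
  have hn0 : orderOf g ≠ 0 := (orderOf_pos g).ne'
  have hdecomp : p ^ ((orderOf g).factorization p) * (orderOf g / p ^ ((orderOf g).factorization p))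
      = orderOf g := Nat.ordProj_mul_ordCompl_eq_self (orderOf g) p
  have hcopm : Nat.Coprime p (orderOf g / p ^ ((orderOf g).factorization p)) :=
    Nat.coprime_ordCompl hp hn0
  generalize (orderOf g).factorization p = k at hdecomp hcopm
  generalize hm : orderOf g / p ^ k = m at hdecomp hcopm
  have h1 : (g ^ (p ^ k)) ^ m = 1 := by rw [← pow_mul, hdecomp]; exact pow_orderOf_eq_one g
  have h2 : (g ^ m) ^ (p ^ k) = 1 := by
    rw [← pow_mul, mul_comm, hdecomp]; exact pow_orderOf_eq_one g
  have hzpp : zp ^ p = 1 := by rw [← hzpo]; exact pow_orderOf_eq_one zp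
  have hzqq : zq ^ q = 1 := by rw [← hzqo]; exact pow_orderOf_eq_one zq
  have hg1 : g ^ (p ^ k) ∈ H := by
    rw [← hCp, mem_cent_singleton]
    exact (comm_in _ hCnil (pow_mem hg _) hzpC h1 hzpp hcopm.symm).symm
  have hg2 : g ^ m ∈ H := by
    rw [← hCq, mem_cent_singleton]
    exact (comm_in _ hCnil (pow_mem hg _) hzqC h2 hzqq
      (Nat.Coprime.pow_left k ((Nat.coprime_primes hp hq).mpr hpq))).symm
  exact mem_of_pow_mem_of_coprime H (Nat.Coprime.pow_left k hcopm) hg1 hg2

theorem cent_le_conj (H : Subgroup G)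
    (hstar : ∀ y ∈ H, y ≠ 1 → Subgroup.centralizer ({y} : Set G) ≤ H) (g : G) {x : G}
    (hx : x ∈ H.map (MulAut.conj g).toMonoidHom) (hx1 : x ≠ 1) :
    Subgroup.centralizer ({x} : Set G) ≤ H.map (MulAut.conj g).toMonoidHom := by
  obtain ⟨y, hyH, hyx⟩ := Subgroup.mem_map.mp hx
  have hx' : x = g * y * g⁻¹ := by rw [← hyx]; simp [MulAut.conj_apply]
  have hy1 : y ≠ 1 := by
    rintro rfl; apply hx1; rw [hx']; group
  intro c hc
  rw [mem_cent_singleton, hx'] at hc
  have h1 : g⁻¹ * c * g ∈ Subgroup.centralizer ({y} : Set G) := by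
    rw [mem_cent_singleton]
    calc y * (g⁻¹ * c * g) = g⁻¹ * (g * y * g⁻¹ * c) * g := by group
      _ = g⁻¹ * (c * (g * y * g⁻¹)) * g := by rw [hc]
      _ = g⁻¹ * c * g * y := by group
  have h2 := hstar y hyH hy1 h1
  refine Subgroup.mem_map.mpr ⟨g⁻¹ * c * g, h2, ?_⟩
  simp only [MulEquiv.coe_toMonoidHom, MulAut.conj_apply]
  group

/-- Let G be a finite group in which every non-identity element has nilpotent centralizer, and H a nilpotent subgroup not properly contained in any nilpotent subgroup. Then the order of H is coprime to its index; if the order of H is not a prime power then H ∩ gHg⁻¹ = 1 whenever gHg⁻¹ ≠ H; and if H ∩ gHg⁻¹ = 1 whenever gHg⁻¹ ≠ H, then C_G(x) ≤ H for every non-identity x ∈ H. -/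
theorem result {G : Type*} [Group G] [Finite G] (hCN : Cfsg.IsCNGroup G) (H : Subgroup G) (hH : Group.IsNilpotent H)
    (hmax : ∀ L : Subgroup G, Group.IsNilpotent L → H ≤ L → L = H) :
    (Nat.card H).Coprime H.index ∧
      (¬ IsPrimePow (Nat.card H) → Nat.card H ≠ 1 → ∀ g : G, H.map (MulAut.conj g).toMonoidHom ≠ H → H ⊓ H.map (MulAut.conj g).toMonoidHom = ⊥) ∧
      ((∀ g : G, H.map (MulAut.conj g).toMonoidHom ≠ H → H ⊓ H.map (MulAut.conj g).toMonoidHom = ⊥) → ∀ x ∈ H, x ≠ 1 → Subgroup.centralizer ({x} : Set G) ≤ H) := by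
  refine ⟨?_, ?_, ?_⟩
  · apply Nat.coprime_of_dvd
    intro p hp hdvd hidx
    have : Fact p.Prime := ⟨hp⟩
    obtain ⟨Q, hQ⟩ := exists_sylow_le hCN H hH hmax hdvd
    have h1 : H.index ∣ (Q : Subgroup G).index := Subgroup.index_dvd_of_le hQ
    exact Q.not_dvd_index (hidx.trans h1)
  · intro hnpp hne1 g hg
    obtain ⟨p, q, hp, hq, hpq, hpd, hqd⟩ : ∃ p q, p.Prime ∧ q.Prime ∧ p ≠ q ∧ p ∣ Nat.card H ∧
        q ∣ Nat.card H := by
      have hp := Nat.minFac_prime hne1
      have hpd := Nat.minFac_dvd (Nat.card H)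
      by_contra hcon
      apply hnpp
      rw [isPrimePow_nat_iff]
      have hcard : Nat.card H = (Nat.card H).minFac ^ (Nat.card H).primeFactorsList.length := by
        apply Nat.eq_prime_pow_of_unique_prime_dvd Nat.card_pos.ne'
        intro d hd hdd
        by_contra hne
        exact hcon ⟨_, d, hp, hd, Ne.symm hne, hpd, hdd⟩
      refine ⟨_, _, hp, ?_, hcard.symm⟩
      rcases Nat.eq_zero_or_pos (Nat.card H).primeFactorsList.length with h0 | h0
      · rw [h0, pow_zero] at hcard; exact absurd hcard hne1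
      · exact h0
    have hstar : ∀ x ∈ H, x ≠ 1 → Subgroup.centralizer ({x} : Set G) ≤ H :=
      fun x hx hx1 => cent_le_of_two_primes hCN H hH hmax hp hq hpq hpd hqd hx hx1
    rw [eq_bot_iff]
    intro x hx
    rw [Subgroup.mem_bot]
    by_contra hx1
    obtain ⟨hxH, hxH'⟩ := Subgroup.mem_inf.mp hx
    apply hg
    obtain ⟨zp, hzpH, hzpo, hzpc⟩ := exists_central_prime H hH hp hpd
    have hzp1 : zp ≠ 1 := by
      rintro rfl; rw [orderOf_one] at hzpo; exact hp.one_lt.ne hzpo
    have hCp := cent_eq hCN H hmax hzp1 hzpc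
    have hzpH' : zp ∈ H.map (MulAut.conj g).toMonoidHom := by
      apply cent_le_conj H hstar g hxH' hx1
      rw [mem_cent_singleton]; exact hzpc x hxH
    have hle : H ≤ H.map (MulAut.conj g).toMonoidHom := by
      have h5 := cent_le_conj H hstar g hzpH' hzp1
      rw [hCp] at h5
      exact h5
    have hnil : Group.IsNilpotent (H.map (MulAut.conj g).toMonoidHom) :=
      Group.nilpotent_of_surjective ((MulAut.conj g).toMonoidHom.subgroupMap H)
        ((MulAut.conj g).toMonoidHom.subgroupMap_surjective H)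
    exact hmax _ hnil hle
  · intro hTI x hxH hx1
    have hCnil := hCN x hx1
    have hnorm : ∀ c ∈ Subgroup.centralizer ({x} : Set G),
        H.map (MulAut.conj c).toMonoidHom = H := by
      intro c hc
      by_contra hne
      have hbot := hTI c hne
      have hx : x ∈ H ⊓ H.map (MulAut.conj c).toMonoidHom := by
        refine Subgroup.mem_inf.mpr ⟨hxH, Subgroup.mem_map.mpr ⟨x, hxH, ?_⟩⟩
        rw [mem_cent_singleton] at hc
        simp only [MulEquiv.coe_toMonoidHom, MulAut.conj_apply]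
        rw [← hc, mul_inv_cancel_right]
      rw [hbot, Subgroup.mem_bot] at hx
      exact hx1 hx
    have hZHmem : ∀ z, z ∈ H ⊓ Subgroup.centralizer (H : Set G) ↔
        z ∈ H ∧ ∀ h ∈ H, h * z = z * h := by
      intro z; rw [Subgroup.mem_inf, Subgroup.mem_centralizer_iff]; rfl
    have hZHC : H ⊓ Subgroup.centralizer (H : Set G) ≤ Subgroup.centralizer ({x} : Set G) := by
      intro z hz
      rw [mem_cent_singleton]; exact ((hZHmem z).mp hz).2 x hxH
    have hMn : ((H ⊓ Subgroup.centralizer (H : Set G)).subgroupOf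
        (Subgroup.centralizer ({x} : Set G))).Normal := by
      constructor
      intro n hn c
      rw [Subgroup.mem_subgroupOf] at hn ⊢
      rw [hZHmem] at hn ⊢
      simp only [Subgroup.coe_mul, Subgroup.coe_inv]
      constructor
      · have h := hnorm c c.2
        rw [← h]
        exact Subgroup.mem_map.mpr ⟨n, hn.1, by simp [MulAut.conj_apply]⟩
      · intro h hh
        have hh' : h ∈ H.map (MulAut.conj (c : G)).toMonoidHom := by rw [hnorm c c.2]; exact hh
        obtain ⟨h', hh'H, rfl⟩ := Subgroup.mem_map.mp hh'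
        have h3 := hn.2 h' hh'H
        simp only [MulEquiv.coe_toMonoidHom, MulAut.conj_apply]
        calc (c : G) * h' * (c : G)⁻¹ * ((c : G) * n * (c : G)⁻¹)
            = (c : G) * (h' * n) * (c : G)⁻¹ := by group
          _ = (c : G) * (n * h') * (c : G)⁻¹ := by rw [h3]
          _ = (c : G) * n * (c : G)⁻¹ * ((c : G) * h' * (c : G)⁻¹) := by group
    have hMne : ((H ⊓ Subgroup.centralizer (H : Set G)).subgroupOf
        (Subgroup.centralizer ({x} : Set G))) ≠ ⊥ := by
      have hHne : (⊤ : Subgroup H) ≠ ⊥ := by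
        intro h
        have : (⟨x, hxH⟩ : H) ∈ (⊥ : Subgroup H) := by rw [← h]; trivial
        rw [Subgroup.mem_bot] at this
        exact hx1 (congrArg Subtype.val this)
      have hne := Helper10.normal_inf_center_ne_bot (⊤ : Subgroup H) hHne
      obtain ⟨w, hw1⟩ := (Subgroup.ne_bot_iff_exists_ne_one).mp hne
      have hwc : (w : H) ∈ Subgroup.center H := w.2.2
      have hwZ : ((w : H) : G) ∈ H ⊓ Subgroup.centralizer (H : Set G) := by
        rw [hZHmem]; refine ⟨(w : H).2, ?_⟩
        intro h hh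
        have := (Subgroup.mem_center_iff.mp hwc) ⟨h, hh⟩
        exact congrArg Subtype.val this
      intro hbot
      have hmem : (⟨((w : H) : G), hZHC hwZ⟩ : Subgroup.centralizer ({x} : Set G)) ∈
          (H ⊓ Subgroup.centralizer (H : Set G)).subgroupOf
            (Subgroup.centralizer ({x} : Set G)) := by
        rw [Subgroup.mem_subgroupOf]; exact hwZ
      rw [hbot, Subgroup.mem_bot] at hmem
      apply hw1
      apply Subtype.ext; apply Subtype.ext
      have h6 := congrArg Subtype.val hmem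
      exact h6
    have hne2 := Helper10.normal_inf_center_ne_bot _ hMne
    obtain ⟨w, hw1⟩ := (Subgroup.ne_bot_iff_exists_ne_one).mp hne2
    have hwM := w.2.1
    have hwc := w.2.2
    have hzZ : (((w : Subgroup.centralizer ({x} : Set G))) : G) ∈
        H ⊓ Subgroup.centralizer (H : Set G) := Subgroup.mem_subgroupOf.mp hwM
    have hz1 : (((w : Subgroup.centralizer ({x} : Set G))) : G) ≠ 1 := by
      intro h
      apply hw1
      apply Subtype.ext; apply Subtype.ext
      exact h
    have hzcC : ∀ c ∈ Subgroup.centralizer ({x} : Set G),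
        c * (((w : Subgroup.centralizer ({x} : Set G))) : G) =
          (((w : Subgroup.centralizer ({x} : Set G))) : G) * c := by
      intro c hc
      have := (Subgroup.mem_center_iff.mp hwc) ⟨c, hc⟩
      exact congrArg Subtype.val this
    have hCz := cent_eq hCN H hmax hz1 ((hZHmem _).mp hzZ).2
    intro c hc
    rw [← hCz, mem_cent_singleton]
    exact (hzcC c hc).symm

end Cfsg.Agent.S1477
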