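import Cfsg.Statements.S1474
import Cfsg.Agent.Lib.Helper78.CNFrob2
import Cfsg.Agent.Lib.Helper96.Schmidt3
import Cfsg.Agent.Lib.Helper55.Cores

set_option autoImplicit false
set_option linter.style.haveILetI false
open Cfsg

namespace Cfsg.Agent.S1474

open Cfsg.Agent.Lib.Helper78
open scoped Pointwise

theorem hall_sup {G : Type*} [Group G] [Finite G] {N₁ N₂ : Subgroup G}
    (h1 : N₁.Normal ∧ Group.IsNilpotent N₁ ∧ (Nat.card N₁).Coprime N₁.index)
    (h2 : N₂.Normal ∧ Group.IsNilpotent N₂ ∧ (Nat.card N₂).Coprime N₂.index) :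
    (N₁ ⊔ N₂).Normal ∧ Group.IsNilpotent ↥(N₁ ⊔ N₂) ∧
      (Nat.card ↥(N₁ ⊔ N₂)).Coprime (N₁ ⊔ N₂).index := by
  haveI := h1.1
  haveI := h2.1
  refine ⟨inferInstance, ?_, ?_⟩
  · have hle : N₁ ⊔ N₂ ≤ Cfsg.fittingSubgroup G :=
      sup_le (Cfsg.Agent.Lib.Helper22.le_fittingSubgroup h1.1 h1.2.1)
        (Cfsg.Agent.Lib.Helper22.le_fittingSubgroup h2.1 h2.2.1)
    exact isNilpotent_of_le hle Cfsg.Agent.Lib.Helper22.fittingSubgroup_isNilpotent
  · by_contra hcon
    obtain ⟨r, hr, hr1, hr2⟩ := Nat.Prime.not_coprime_iff_dvd.mp hcon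
    have hd : r ∣ Nat.card N₁ * Nat.card N₂ :=
      hr1.trans (Cfsg.Agent.Lib.Helper55.card_sup_dvd_mul N₁ N₂)
    rcases (Nat.Prime.dvd_mul hr).mp hd with hd1 | hd2
    · have hi : r ∣ N₁.index := hr2.trans (Subgroup.index_dvd_of_le le_sup_left)
      exact hr.one_lt.ne' (Nat.eq_one_of_dvd_coprimes h1.2.2 hd1 hi)
    · have hi : r ∣ N₂.index := hr2.trans (Subgroup.index_dvd_of_le le_sup_right)
      exact hr.one_lt.ne' (Nat.eq_one_of_dvd_coprimes h2.2.2 hd2 hi)

theorem fittingHall_mem {G : Type*} [Group G] [Finite G] :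
    (Cfsg.fittingHall G).Normal ∧ Group.IsNilpotent (Cfsg.fittingHall G) ∧
      (Nat.card (Cfsg.fittingHall G)).Coprime (Cfsg.fittingHall G).index := by
  classical
  let S : Set (Subgroup G) :=
    {N | N.Normal ∧ Group.IsNilpotent N ∧ (Nat.card N).Coprime N.index}
  have hfin : S.Finite := Set.toFinite S
  have hbot : ⊥ ∈ S := ⟨inferInstance, inferInstance, by simp⟩
  have h := Finset.sup_mem S hbot (fun x hx y hy => hall_sup hx hy) hfin.toFinset id
    (fun i hi => hfin.mem_toFinset.mp hi)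
  rw [Finset.sup_id_eq_sSup, hfin.coe_toFinset] at h
  exact h

/-- Let G be a finite group in which every non-identity element has nilpotent centralizer, not itself nilpotent, and having a nontrivial normal Sylow p-subgroup for some prime p. Let H be the largest normal nilpotent Hall subgroup of G. Then H is a nontrivial proper normal subgroup with a complement E that is a Frobenius complement in G (no non-identity element of E centralizes a non-identity element of H), and G/H is nilpotent. -/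
theorem result {G : Type*} [Group G] [Finite G] (hCN : Cfsg.IsCNGroup G) (hnn : ¬ Group.IsNilpotent G) (p : ℕ) [Fact p.Prime] (P : Sylow p G)
    (hP1 : (P : Subgroup G) ≠ ⊥) (hPn : (P : Subgroup G).Normal) :
    Cfsg.fittingHall G ≠ ⊥ ∧ Cfsg.fittingHall G ≠ ⊤ ∧
      (∃ E : Subgroup G, Subgroup.IsComplement' (Cfsg.fittingHall G) E ∧ Cfsg.IsFrobeniusComplement E ∧
        ∀ e ∈ E, e ≠ 1 → Cfsg.fittingHall G ⊓ Subgroup.centralizer ({e} : Set G) = ⊥) ∧
      Group.IsNilpotent (G ⧸ Cfsg.fittingHall G) := by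
  classical
  obtain ⟨hHn, hHnil, hHcop⟩ := fittingHall_mem (G := G)
  have hle : ∀ N : Subgroup G, N.Normal → Group.IsNilpotent N → (Nat.card N).Coprime N.index →
      N ≤ Cfsg.fittingHall G := fun N h1 h2 h3 => le_sSup ⟨h1, h2, h3⟩
  set H := Cfsg.fittingHall G with hHdef
  have hPH : (P : Subgroup G) ≤ H := hle _ hPn P.2.isNilpotent P.card_coprime_index
  have hH1 : H ≠ ⊥ := by
    intro h
    apply hP1
    rw [h] at hPH
    exact le_bot_iff.mp hPH
  have hH2 : H ≠ ⊤ := by
    intro h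
    apply hnn
    rw [h] at hHnil
    exact Group.isNilpotent_top.mp hHnil
  obtain ⟨E, hE⟩ := Subgroup.exists_right_complement'_of_coprime hHcop
  have hcardE : H.index = Nat.card E := hE.symm.index_eq_card
  have hdisjHE : H ⊓ E = ⊥ := hE.disjoint.eq_bot
  -- fixed-point-freeness
  have hfpf : ∀ e ∈ E, e ≠ 1 → ∀ x ∈ H, e * x = x * e → x = 1 := by
    intro e he he1 x hx hex
    by_contra hx1
    have hoe : orderOf e ≠ 1 := by rw [Ne, orderOf_eq_one_iff]; exact he1
    have hox : orderOf x ≠ 1 := by rw [Ne, orderOf_eq_one_iff]; exact hx1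
    obtain ⟨r, hr, hrd⟩ := Nat.exists_prime_and_dvd hoe
    obtain ⟨q, hq, hqd⟩ := Nat.exists_prime_and_dvd hox
    set e' := e ^ (orderOf e / r) with he'
    set x' := x ^ (orderOf x / q) with hx'
    have he'ord : orderOf e' = r := orderOf_pow_orderOf_div (orderOf_pos e).ne' hrd
    have hx'ord : orderOf x' = q := orderOf_pow_orderOf_div (orderOf_pos x).ne' hqd
    have he'E : e' ∈ E := pow_mem he _
    have hx'H : x' ∈ H := pow_mem hx _
    have he'1 : e' ≠ 1 := by
      intro h
      rw [h, orderOf_one] at he'ord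
      exact hr.one_lt.ne he'ord
    have hx'1 : x' ≠ 1 := by
      intro h
      rw [h, orderOf_one] at hx'ord
      exact hq.one_lt.ne hx'ord
    have hcomm : x' * e' = e' * x' := by
      have hc : Commute x e := hex.symm
      exact (hc.pow_pow _ _).eq
    have hqH : q ∣ Nat.card H := by
      rw [← hx'ord]; exact Subgroup.orderOf_dvd_natCard H hx'H
    have hrE : r ∣ H.index := by
      rw [hcardE, ← he'ord]; exact Subgroup.orderOf_dvd_natCard E he'E
    have hqr : q ≠ r := by
      rintro rfl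
      exact hq.one_lt.ne' (Nat.eq_one_of_dvd_coprimes hHcop hqH hrE)
    haveI := Fact.mk hq
    haveI := Fact.mk hr
    have hx'core : x' ∈ Cfsg.pCore q G :=
      mem_pCore_of_mem_normal_nilpotent hHn hHnil hx'H (k := 1)
        (by rw [pow_one, ← hx'ord]; exact pow_orderOf_eq_one x')
    obtain ⟨T⟩ : Nonempty (Sylow r G) := inferInstance
    have hTn : (T : Subgroup G).Normal :=
      cn_sylow_normal_of_commute hCN hqr hx'core hx'1 (l := 1)
        (by rw [pow_one]; exact he'ord) he'1 hcomm T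
    have hTH : (T : Subgroup G) ≤ H := hle _ hTn T.2.isNilpotent T.card_coprime_index
    have he'T : e' ∈ (T : Subgroup G) :=
      Cfsg.Agent.Lib.Helper96.mem_of_pow_eq_one_of_normal_sylow T hTn (l := 1)
        (by rw [pow_one, ← he'ord]; exact pow_orderOf_eq_one e')
    have hmem : e' ∈ H ⊓ E := Subgroup.mem_inf.mpr ⟨hTH he'T, he'E⟩
    rw [hdisjHE, Subgroup.mem_bot] at hmem
    exact he'1 hmem
  have hE1 : E ≠ ⊥ := by
    intro h
    apply hH2
    rw [h] at hcardE
    rw [← Subgroup.index_eq_one, hcardE]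
    simp
  have hE2 : E ≠ ⊤ := by
    intro h
    apply hH1
    rw [h] at hdisjHE
    rwa [inf_top_eq] at hdisjHE
  refine ⟨hH1, hH2, ⟨E, hE, ⟨hE1, hE2, ?_⟩, ?_⟩, ?_⟩
  · -- Frobenius complement
    intro g hg
    rw [eq_bot_iff]
    intro w hw
    rw [Subgroup.mem_bot]
    obtain ⟨hw1, hw2⟩ := hw
    have hw2' : w ∈ MulAut.conj g • E := hw2
    rw [Cfsg.Agent.Lib.Helper35.mem_conj_smul] at hw2'
    -- write g = e * h
    have hgtop : g ∈ E ⊔ H := by
      rw [sup_comm, hE.sup_eq_top]; trivial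
    obtain ⟨a, ha, b, hb, rfl⟩ := Subgroup.mem_sup_of_normal_right.mp hgtop
    have hb1 : b ≠ 1 := by
      rintro rfl
      apply hg
      simpa using ha
    set w₁ := a⁻¹ * w * a with hw₁
    have hw₁E : w₁ ∈ E := mul_mem (mul_mem (inv_mem ha) hw1) ha
    have h3 : b⁻¹ * w₁ * b ∈ E := by
      have : (a * b)⁻¹ * w * (a * b) = b⁻¹ * w₁ * b := by rw [hw₁]; group
      rw [← this]; exact hw2'
    have h4 : w₁⁻¹ * (b⁻¹ * w₁ * b) ∈ H ⊓ E := by
      refine Subgroup.mem_inf.mpr ⟨?_, mul_mem (inv_mem hw₁E) h3⟩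
      have : w₁⁻¹ * (b⁻¹ * w₁ * b) = (w₁⁻¹ * b⁻¹ * w₁⁻¹⁻¹) * b := by group
      rw [this]
      exact mul_mem (hHn.conj_mem _ (inv_mem hb) _) hb
    rw [hdisjHE, Subgroup.mem_bot] at h4
    have h5 : w₁ * b = b * w₁ := by
      have h6 : b⁻¹ * w₁ * b = w₁ := by
        have := congrArg (fun z => w₁ * z) h4
        simpa using this
      calc w₁ * b = b * (b⁻¹ * w₁ * b) := by group
        _ = b * w₁ := by rw [h6]
    by_contra hw_ne
    have hw₁ne : w₁ ≠ 1 := by
      intro h
      apply hw_ne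
      have : w = a * w₁ * a⁻¹ := by rw [hw₁]; group
      rw [this, h]; group
    exact hb1 (hfpf w₁ hw₁E hw₁ne b hb h5)
  · intro e he he1
    rw [eq_bot_iff]
    intro x hx
    rw [Subgroup.mem_bot]
    obtain ⟨hxH, hxC⟩ := hx
    have hxC' : x ∈ Subgroup.centralizer ({e} : Set G) := hxC
    rw [Subgroup.mem_centralizer_singleton_iff] at hxC'
    exact hfpf e he he1 x hxH hxC'.symm
  · -- nilpotent quotient
    -- abelian normal subgroup A = Z(P)
    set A := (P : Subgroup G) ⊓ Subgroup.centralizer ((P : Subgroup G) : Set G) with hA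
    haveI := hPn
    haveI hAn : A.Normal := inferInstance
    have hAc : ∀ a ∈ A, ∀ b ∈ A, a * b = b * a := by
      intro a ha b hb
      have h1 : a ∈ Subgroup.centralizer ((P : Subgroup G) : Set G) := ha.2
      rw [Subgroup.mem_centralizer_iff] at h1
      exact (h1 b hb.1).symm
    have hA1 : A ≠ ⊥ := by
      obtain ⟨z, hz, hzfix⟩ := exists_conj_fixed (P : Subgroup G) P.2
        {a : G | a ∈ (P : Subgroup G) ∧ a ≠ 1}
        (by
          intro s _ g hg
          refine ⟨hPn.conj_mem g hg.1 s, ?_⟩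
          intro h
          apply hg.2
          have : g = s⁻¹ * (s * g * s⁻¹) * s := by group
          rw [this, h]; group)
        (not_dvd_ncard_ne_one (P : Subgroup G) P.2 hP1)
      intro h
      have hzA : z ∈ A := by
        refine Subgroup.mem_inf.mpr ⟨hz.1, ?_⟩
        rw [Subgroup.mem_centralizer_iff]
        intro t ht
        have := hzfix t ht
        calc t * z = (t * z * t⁻¹) * t := by group
          _ = z * t := by rw [this]
      rw [h, Subgroup.mem_bot] at hzA
      exact hz.2 hzA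
    have hAH : A ≤ H := inf_le_left.trans hPH
    have hcop : (Nat.card A).Coprime (Nat.card E) := by
      rw [← hcardE]
      exact Nat.Coprime.coprime_dvd_left (Subgroup.card_dvd_of_le hAH) hHcop
    have hEnil : Group.IsNilpotent E :=
      nilpotent_of_fpf hCN A E hAc hA1 hcop (fun e he he1 a ha hea => hfpf e he he1 a (hAH ha) hea)
    haveI := hEnil
    exact Group.nilpotent_of_mulEquiv (hE.symm.QuotientMulEquiv).symm

end Cfsg.Agent.S1474
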