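import Cfsg.Statements.S1476
import Cfsg.Agent.S1474
import Cfsg.Agent.S0040
import Cfsg.Agent.Lib.Helper78.CNSolv6
import Cfsg.Agent.Lib.Helper48.Misc

set_option autoImplicit false
set_option linter.style.haveILetI false
open Cfsg

namespace Cfsg.Agent.S1476

open Cfsg.Agent.Lib.Helper78

theorem case1 {G : Type*} [Group G] [Finite G] (hCN : Cfsg.IsCNGroup G)
    (hnn : ¬ Group.IsNilpotent G) (r : ℕ) [Fact r.Prime] (T : Sylow r G)
    (hT1 : (T : Subgroup G) ≠ ⊥) (hTn : (T : Subgroup G).Normal) :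
    ∃ K E : Subgroup G, K.Normal ∧ Subgroup.IsComplement' K E ∧ Cfsg.IsFrobeniusComplement E ∧
      (IsCyclic E ∨ ∃ C Q : Subgroup G, C ⊔ Q = E ∧ (∀ a ∈ C, ∀ b ∈ Q, a * b = b * a) ∧ IsCyclic C ∧
        Odd (Nat.card C) ∧ ∃ n : ℕ, Nonempty (↥Q ≃* QuaternionGroup (2 ^ n))) := by
  obtain ⟨hH1, -, ⟨E, hE, hEF, hfpf⟩, hquot⟩ := Cfsg.Agent.S1474.result hCN hnn r T hT1 hTn
  refine ⟨Cfsg.fittingHall G, E, inferInstance, hE, hEF, ?_⟩
  haveI := hquot
  have hEnil : Group.IsNilpotent E := Group.nilpotent_of_mulEquiv hE.symm.QuotientMulEquiv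
  apply structure_of_nilpotent_cyclic_or_quaternion E hEnil
  intro q hq P
  exact Cfsg.Agent.S0040.result (Cfsg.fittingHall G) E hE hH1 hfpf q P

theorem case2_core {G : Type*} [Group G] [Finite G] [hsolv : Group.IsSolvable G]
    (hCN : Cfsg.IsCNGroup G)
    (hNS : ∀ (r : ℕ) (_ : Fact r.Prime) (T : Sylow r G), (T : Subgroup G).Normal →
      (T : Subgroup G) = ⊥)
    (p : ℕ) [hp : Fact p.Prime]
    (hcent : Subgroup.centralizer (Cfsg.pCore p G : Set G) ≤ Cfsg.pCore p G)
    (hU1 : Cfsg.pCore p G ≠ ⊥) (hUtop : Cfsg.pCore p G ≠ ⊤) : Cfsg.IsThreeStepGroup p G := by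
  classical
  have hUp : IsPGroup p (Cfsg.pCore p G) := Cfsg.Agent.Lib.Helper22.pCore_isPGroup' p G
  have hXCN : Cfsg.IsCNGroup (G ⧸ Cfsg.pCore p G) :=
    Cfsg.Agent.S1473.result hCN (Cfsg.pCore p G) inferInstance
  have hXp : Cfsg.pCore p (G ⧸ Cfsg.pCore p G) = ⊥ := pCore_quotient_pCore_eq_bot
  set π := QuotientGroup.mk' (Cfsg.pCore p G) with hπ
  have hπ1 : ∀ g : G, π g = 1 ↔ g ∈ Cfsg.pCore p G := fun g => QuotientGroup.eq_one_iff g
  set F := Cfsg.fittingSubgroup (G ⧸ Cfsg.pCore p G) with hF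
  haveI hFn : F.Normal := Cfsg.Agent.Lib.Helper22.fittingSubgroup_normal _
  have hFnil : Group.IsNilpotent F := Cfsg.Agent.Lib.Helper22.fittingSubgroup_isNilpotent
  have hF1 : F ≠ ⊥ := fitting_quot_ne_bot hUtop
  have hFcop : (Nat.card F).Coprime p := coprime_card_of_normal_nilpotent hXp F hFn hFnil
  -- F ≠ ⊤
  have hFtop : F ≠ ⊤ := by
    intro h
    have h1 : (Cfsg.pCore p G).index = Nat.card F := by
      rw [h, Subgroup.card_top, Subgroup.index_eq_card]
    have h2 : ¬ p ∣ (Cfsg.pCore p G).index := by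
      rw [h1]
      intro hd
      have : p ∣ Nat.gcd (Nat.card F) p := Nat.dvd_gcd hd dvd_rfl
      rw [hFcop] at this
      exact hp.out.one_lt.ne' (Nat.dvd_one.mp this)
    have hT := hNS p hp (hUp.toSylow h2) (by rw [IsPGroup.toSylow_coe]; infer_instance)
    rw [IsPGroup.toSylow_coe] at hT
    exact hU1 hT
  obtain ⟨n, hn⟩ := index_fitting_quot hCN hcent hU1 hUtop
  obtain ⟨L, A', hL, hUL, hcompl, hdisj, hsup, hmap, hcardA', hcardA⟩ :=
    exists_lift_of_coprime'' (Cfsg.pCore p G) F (card_pCore_coprime _ hFcop)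
  set A : Subgroup G := A'.map L.subtype with hA
  have hAL : A ≤ L := Subgroup.map_subtype_le _
  have hAcop : (Nat.card A).Coprime p := by rw [hcardA]; exact hFcop
  have hLn : L.Normal := by rw [hL]; exact Subgroup.Normal.comap hFn _
  have hmemL : ∀ g : G, g ∈ L ↔ π g ∈ F := by
    intro g; rw [hL]; exact Subgroup.mem_comap
  have hA_not_U : ∀ a ∈ A, a ≠ 1 → a ∉ Cfsg.pCore p G := by
    intro a ha ha1 haU
    have : a ∈ A ⊓ Cfsg.pCore p G := Subgroup.mem_inf.mpr ⟨ha, haU⟩
    rw [hdisj, Subgroup.mem_bot] at this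
    exact ha1 this
  have hAfpf : ∀ a ∈ A, a ≠ 1 → ∀ u ∈ Cfsg.pCore p G, a * u = u * a → u = 1 := by
    intro a ha ha1 u hu hau
    have hoa : (orderOf a).Coprime p :=
      Nat.Coprime.coprime_dvd_left (Subgroup.orderOf_dvd_natCard A ha) hAcop
    exact fpf_of_coprime hCN hcent ha1 hoa hu hau
  -- A has odd order
  have hAodd : Odd (Nat.card A) := by
    by_contra hnodd
    have h2 : 2 ∣ Nat.card A := even_iff_two_dvd.mp (Nat.not_odd_iff_even.mp hnodd)
    obtain ⟨z₀, hz₀⟩ := exists_prime_orderOf_dvd_card' (G := A) 2 h2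
    set z : G := (z₀ : G) with hz
    have hzA : z ∈ A := z₀.2
    have hzord : orderOf z = 2 := by rw [hz, Subgroup.orderOf_coe]; exact hz₀
    have hz1 : z ≠ 1 := by
      intro h
      rw [h, orderOf_one] at hzord
      exact absurd hzord (by norm_num)
    have hzz : z * z = 1 := by
      rw [← pow_two, ← hzord]; exact pow_orderOf_eq_one z
    have hzi : z⁻¹ = z := inv_eq_of_mul_eq_one_right hzz
    have hinv := Cfsg.Agent.Lib.Helper48.inverts_of_fixedPointFree (K := Cfsg.pCore p G) hzz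
      (fun k hk hkz => hAfpf z hzA hz1 k hk hkz.symm)
    have hinv' : ∀ u ∈ Cfsg.pCore p G, z⁻¹ * u * z = u⁻¹ := by
      intro u hu
      have := hinv u hu
      rw [hzi] at this ⊢
      exact this
    have hcentral : ∀ g : G, g * z * g⁻¹ * z⁻¹ ∈ Cfsg.pCore p G := by
      intro g
      apply hcent
      rw [Subgroup.mem_centralizer_iff]
      intro u hu
      have hv : g⁻¹ * u⁻¹ * g ∈ Cfsg.pCore p G := by
        have := (Cfsg.pCore_normal p G).conj_mem u⁻¹ (inv_mem hu) g⁻¹
        simpa using this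
      have h1 := hinv _ hv
      have h2 := hinv' u hu
      have key : (g * z * g⁻¹ * z⁻¹) * u * (g * z * g⁻¹ * z⁻¹)⁻¹ = u := by
        have e1 : (g * z * g⁻¹ * z⁻¹) * u * (g * z * g⁻¹ * z⁻¹)⁻¹ =
            g * (z * (g⁻¹ * (z⁻¹ * u * z) * g) * z⁻¹) * g⁻¹ := by group
        rw [e1, h2, h1]; group
      calc u * (g * z * g⁻¹ * z⁻¹)
          = ((g * z * g⁻¹ * z⁻¹) * u * (g * z * g⁻¹ * z⁻¹)⁻¹) * (g * z * g⁻¹ * z⁻¹) := by rw [key]
        _ = (g * z * g⁻¹ * z⁻¹) * u := by group
    have hzbar1 : π z ≠ 1 := by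
      rw [Ne, hπ1]; exact hA_not_U z hzA hz1
    have htop : Subgroup.centralizer ({π z} : Set (G ⧸ Cfsg.pCore p G)) = ⊤ := by
      rw [eq_top_iff]
      intro x _
      obtain ⟨g, rfl⟩ := QuotientGroup.mk'_surjective (Cfsg.pCore p G) x
      rw [Subgroup.mem_centralizer_singleton_iff]
      have := (hπ1 _).mpr (hcentral g)
      rw [map_mul, map_mul, map_mul, map_inv, map_inv] at this
      have h3 : π g * π z = (π g * π z * (π g)⁻¹ * (π z)⁻¹) * (π z * π g) := by group
      rw [h3, this, one_mul]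
    have hnil := hXCN (π z) hzbar1
    rw [htop] at hnil
    have : (⊤ : Subgroup (G ⧸ Cfsg.pCore p G)) ≤ F :=
      Cfsg.Agent.Lib.Helper22.le_fittingSubgroup inferInstance hnil
    exact hFtop (top_le_iff.mp this)
  -- A is cyclic
  have hAcyc : IsCyclic A := by
    have hA'n : Group.IsNilpotent A' := by
      haveI := nilpotent_of_coprime_pCore hCN hcent hU1 A hAcop
      exact Group.nilpotent_of_mulEquiv
        (A'.equivMapOfInjective L.subtype L.subtype_injective).symm
    haveI : (Cfsg.pCore p G).subgroupOf L |>.Normal := inferInstance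
    have hK1 : (Cfsg.pCore p G).subgroupOf L ≠ ⊥ := by
      intro h
      apply hU1
      rw [eq_bot_iff]
      intro u hu
      have : (⟨u, hUL hu⟩ : L) ∈ (Cfsg.pCore p G).subgroupOf L := Subgroup.mem_subgroupOf.mpr hu
      rw [h, Subgroup.mem_bot] at this
      rw [Subgroup.mem_bot]
      exact congrArg Subtype.val this
    have hfpf' : ∀ h ∈ A', h ≠ 1 →
        (Cfsg.pCore p G).subgroupOf L ⊓ Subgroup.centralizer {h} = ⊥ := by
      intro h hh hh1
      rw [eq_bot_iff]
      intro x hx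
      rw [Subgroup.mem_bot]
      obtain ⟨hx1, hx2⟩ := Subgroup.mem_inf.mp hx
      rw [Subgroup.mem_centralizer_singleton_iff] at hx2
      have hhA : (h : G) ∈ A := Subgroup.mem_map_of_mem L.subtype hh
      have hh1' : (h : G) ≠ 1 := fun e => hh1 (Subtype.ext e)
      have hxU : (x : G) ∈ Cfsg.pCore p G := Subgroup.mem_subgroupOf.mp hx1
      have hcomm : (h : G) * (x : G) = (x : G) * (h : G) := by
        have := congrArg Subtype.val hx2
        simpa using this.symm
      exact Subtype.ext (hAfpf _ hhA hh1' _ hxU hcomm)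
    have hcardA'odd : Odd (Nat.card A') := by
      rw [hcardA', ← hcardA]; exact hAodd
    haveI : IsCyclic A' := by
      apply isCyclic_of_nilpotent_of_sylow_cyclic hA'n
      intro q hq P
      rcases Cfsg.Agent.S0040.result ((Cfsg.pCore p G).subgroupOf L) A' hcompl hK1 hfpf' q P
        with hc | ⟨m, ⟨e⟩⟩
      · exact hc
      · exfalso
        haveI : NeZero (2 ^ m) := ⟨pow_ne_zero _ (by norm_num)⟩
        have h1 : Nat.card P = 4 * 2 ^ m := by
          rw [Nat.card_congr e.toEquiv, Nat.card_eq_fintype_card, QuaternionGroup.card]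
        have h2 : Nat.card (P : Subgroup A') ∣ Nat.card A' := Subgroup.card_subgroup_dvd_card _
        have h3 : 2 ∣ Nat.card A' := by
          refine Dvd.dvd.trans ?_ h2
          rw [h1]
          exact Dvd.dvd.mul_right (by norm_num) _
        exact (Nat.not_even_iff_odd.mpr hcardA'odd) (even_iff_two_dvd.mpr h3)
    exact isCyclic_of_surjective
      (A'.equivMapOfInjective L.subtype L.subtype_injective).toMonoidHom
      (A'.equivMapOfInjective L.subtype L.subtype_injective).surjective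
  have hA1 : A ≠ ⊥ := by
    intro h
    have h1 : Nat.card A = 1 := by rw [h]; exact Subgroup.card_bot
    rw [hcardA] at h1
    exact hF1 (Subgroup.card_eq_one.mp h1)
  refine ⟨hU1, A, hA1, hAcyc, hAodd, hAcop, ?_, ?_, ?_, ?_, ?_⟩
  · rw [hsup]; exact hLn
  · rw [hsup]
    intro h
    apply hFtop
    rw [eq_top_iff]
    intro x _
    obtain ⟨g, rfl⟩ := QuotientGroup.mk'_surjective (Cfsg.pCore p G) x
    exact (hmemL g).mp (by rw [h]; exact Subgroup.mem_top g)
  · rw [hsup, hL, Subgroup.index_comap_of_surjective _ (QuotientGroup.mk'_surjective _)]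
    exact ⟨n, hn⟩
  · intro a ha ha1
    rw [eq_bot_iff]
    intro u hu
    rw [Subgroup.mem_bot]
    obtain ⟨hu1, hu2⟩ := Subgroup.mem_inf.mp hu
    rw [Subgroup.mem_centralizer_singleton_iff] at hu2
    exact hAfpf a ha ha1 u hu1 hu2.symm
  · intro x hx a ha ha1 hmem
    rw [hsup] at hx
    have hxF : π x ∉ F := fun h => hx ((hmemL x).mpr h)
    have haF : π a ∈ F := (hmemL a).mp (hAL ha)
    have ha1' : π a ≠ 1 := by rw [Ne, hπ1]; exact hA_not_U a ha ha1
    have hcomm : π x * π a = π a * π x := by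
      have := (hπ1 _).mpr hmem
      rw [map_mul, map_mul, map_mul, map_inv, map_inv] at this
      have h3 : π x * π a = (π x * π a * (π x)⁻¹ * (π a)⁻¹) * (π a * π x) := by group
      rw [h3, this, one_mul]
    set y := (π x) ^ (Nat.card F) with hy
    have hxidx : (π x) ^ F.index ∈ F := Subgroup.pow_index_mem F (π x)
    have hypow : y ^ (p ^ n) = 1 := by
      rw [hy, ← pow_mul, mul_comm, pow_mul, ← hn]
      have h4 := pow_card_eq_one' (G := F) (x := ⟨_, hxidx⟩)
      have h5 := congrArg Subtype.val h4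
      rw [Subgroup.coe_pow] at h5
      exact h5
    have hy1 : y ≠ 1 := by
      intro h
      apply hxF
      have hord : orderOf (π x) ∣ Nat.card F := orderOf_dvd_of_pow_eq_one h
      have hcop : (p ^ n).Coprime (orderOf (π x)) :=
        Nat.Coprime.pow_left n (Nat.Coprime.coprime_dvd_left hord hFcop).symm
      obtain ⟨m, hm⟩ := exists_pow_eq_self_of_coprime hcop
      rw [← hm, ← hn]
      exact pow_mem hxidx m
    obtain ⟨l, -, hl⟩ := (Nat.dvd_prime_pow hp.out).mp (orderOf_dvd_of_pow_eq_one hypow)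
    have hya : Commute (π a) y := by
      have hc : Commute (π x) (π a) := hcomm
      exact hc.symm.pow_right _
    have hoa : orderOf (π a) ≠ 1 := by rw [Ne, orderOf_eq_one_iff]; exact ha1'
    obtain ⟨s, hs, hsd⟩ := Nat.exists_prime_and_dvd hoa
    haveI : Fact s.Prime := ⟨hs⟩
    set a' := (π a) ^ (orderOf (π a) / s) with ha'
    have ha'ord : orderOf a' = s := orderOf_pow_orderOf_div (orderOf_pos _).ne' hsd
    have ha'F : a' ∈ F := pow_mem haF _
    have ha'1 : a' ≠ 1 := by
      intro h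
      rw [h, orderOf_one] at ha'ord
      exact hs.one_lt.ne ha'ord
    have hsp : s ≠ p := by
      intro hsp_eq
      have hd : s ∣ Nat.card F := by
        rw [← ha'ord]; exact Subgroup.orderOf_dvd_natCard F ha'F
      rw [hsp_eq] at hd
      have : p ∣ Nat.gcd (Nat.card F) p := Nat.dvd_gcd hd dvd_rfl
      rw [hFcop] at this
      exact hp.out.one_lt.ne' (Nat.dvd_one.mp this)
    have ha'core : a' ∈ Cfsg.pCore s (G ⧸ Cfsg.pCore p G) :=
      mem_pCore_of_mem_normal_nilpotent hFn hFnil ha'F (k := 1)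
        (by rw [pow_one, ← ha'ord]; exact pow_orderOf_eq_one _)
    have hcomm' : a' * y = y * a' := (hya.pow_left _).eq
    obtain ⟨T⟩ : Nonempty (Sylow p (G ⧸ Cfsg.pCore p G)) := inferInstance
    have hTn := cn_sylow_normal_of_commute hXCN hsp ha'core ha'1 hl hy1 hcomm' T
    have hTle : (T : Subgroup (G ⧸ Cfsg.pCore p G)) ≤ Cfsg.pCore p (G ⧸ Cfsg.pCore p G) :=
      Cfsg.Agent.Lib.Helper22.le_pCore' hTn T.2
    have hyT : y ∈ (T : Subgroup (G ⧸ Cfsg.pCore p G)) :=
      Cfsg.Agent.Lib.Helper96.mem_of_pow_eq_one_of_normal_sylow T hTn (l := l)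
        (by rw [← hl]; exact pow_orderOf_eq_one y)
    have h9 := hTle hyT
    rw [hXp, Subgroup.mem_bot] at h9
    exact hy1 h9

theorem case2 {G : Type*} [Group G] [Finite G] [hsolv : Group.IsSolvable G]
    (hCN : Cfsg.IsCNGroup G) (hnn : ¬ Group.IsNilpotent G)
    (hNS : ∀ (r : ℕ) (_ : Fact r.Prime) (T : Sylow r G), (T : Subgroup G).Normal →
      (T : Subgroup G) = ⊥) : ∃ p : ℕ, p.Prime ∧ Cfsg.IsThreeStepGroup p G := by
  classical
  have hF1 : Cfsg.fittingSubgroup G ≠ ⊥ := by
    intro h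
    have h1 := Cfsg.Agent.Lib.Helper10.centralizer_fitting_le (G := G)
    rw [h] at h1
    have h2 : Subgroup.centralizer ((⊥ : Subgroup G) : Set G) = ⊤ := by
      rw [Subgroup.centralizer_eq_top_iff_subset]
      intro x hx
      have : x = 1 := Subgroup.mem_bot.mp hx
      rw [this]
      exact Subgroup.one_mem _
    rw [h2] at h1
    apply hnn
    haveI : Subsingleton G := by
      constructor
      intro a b
      have ha : a ∈ (⊥ : Subgroup G) := h1 (Subgroup.mem_top a)
      have hb : b ∈ (⊥ : Subgroup G) := h1 (Subgroup.mem_top b)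
      rw [Subgroup.mem_bot] at ha hb
      rw [ha, hb]
    infer_instance
  have hFeq := Cfsg.Agent.Lib.Helper22.fittingSubgroup_eq_iSup_pCore (G := G)
  obtain ⟨⟨p, hpp⟩, hp1⟩ : ∃ q : Nat.Primes, Cfsg.pCore (q : ℕ) G ≠ ⊥ := by
    by_contra h
    push Not at h
    apply hF1
    rw [hFeq]
    exact iSup_eq_bot.mpr h
  haveI hp : Fact p.Prime := ⟨hpp⟩
  have hp1' : Cfsg.pCore p G ≠ ⊥ := hp1
  have hother : ∀ q : Nat.Primes, (q : ℕ) ≠ p → Cfsg.pCore (q : ℕ) G = ⊥ := by
    intro q hq
    by_contra hq1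
    haveI : Fact (q : ℕ).Prime := ⟨q.2⟩
    obtain ⟨⟨x, hx⟩, hx1⟩ := (Subgroup.ne_bot_iff_exists_ne_one).mp hq1
    obtain ⟨⟨e, he⟩, he1⟩ := (Subgroup.ne_bot_iff_exists_ne_one).mp hp1'
    have hx1' : x ≠ 1 := fun h => hx1 (Subtype.ext h)
    have he1' : e ≠ 1 := fun h => he1 (Subtype.ext h)
    have hdisj : Disjoint (Cfsg.pCore (q : ℕ) G) (Cfsg.pCore p G) :=
      IsPGroup.disjoint_of_ne (q : ℕ) p hq _ _ (Cfsg.Agent.Lib.Helper22.pCore_isPGroup' (q : ℕ) G)
        (Cfsg.Agent.Lib.Helper22.pCore_isPGroup' p G)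
    have hcomm := Subgroup.commute_of_normal_of_disjoint _ _
      (Cfsg.Agent.Lib.Helper22.pCore_normal' (q : ℕ) G)
      (Cfsg.Agent.Lib.Helper22.pCore_normal' p G) hdisj x e hx he
    obtain ⟨l, hl⟩ := exists_orderOf_eq_of_mem_pgroup
      (Cfsg.Agent.Lib.Helper22.pCore_isPGroup' p G) he
    obtain ⟨T⟩ : Nonempty (Sylow p G) := inferInstance
    have hTn := cn_sylow_normal_of_commute hCN hq hx hx1' hl he1' hcomm.eq T
    have hT := hNS p hp T hTn
    have heT : e ∈ (T : Subgroup G) :=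
      Cfsg.Agent.Lib.Helper96.mem_of_pow_eq_one_of_normal_sylow T hTn (l := l)
        (by rw [← hl]; exact pow_orderOf_eq_one e)
    rw [hT, Subgroup.mem_bot] at heT
    exact he1' heT
  have hFU : Cfsg.fittingSubgroup G = Cfsg.pCore p G := by
    rw [hFeq]
    apply le_antisymm
    · apply iSup_le
      intro q
      by_cases hq : (q : ℕ) = p
      · rw [hq]
      · rw [hother q hq]; exact bot_le
    · exact le_iSup (fun q : Nat.Primes => Cfsg.pCore (q : ℕ) G) ⟨p, hpp⟩
  have hcent : Subgroup.centralizer (Cfsg.pCore p G : Set G) ≤ Cfsg.pCore p G := by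
    have := Cfsg.Agent.Lib.Helper10.centralizer_fitting_le (G := G)
    rwa [hFU] at this
  have hUtop : Cfsg.pCore p G ≠ ⊤ := by
    intro h
    apply hnn
    have hUp : IsPGroup p (Cfsg.pCore p G) := Cfsg.Agent.Lib.Helper22.pCore_isPGroup' p G
    have hG : IsPGroup p G := by
      intro g
      have hg : g ∈ Cfsg.pCore p G := by rw [h]; exact Subgroup.mem_top g
      obtain ⟨k, hk⟩ := hUp ⟨g, hg⟩
      exact ⟨k, by simpa using congrArg Subtype.val hk⟩
    exact hG.isNilpotent
  exact ⟨p, hpp, case2_core hCN hNS p hcent hp1' hUtop⟩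

/-- Let G be a finite solvable group in which every non-identity element has nilpotent centralizer. Then either G is nilpotent; or G has a normal subgroup K with a Frobenius complement E (K E = G, K ∩ E = 1, E meets its conjugates by outside elements trivially) such that E is cyclic or E is generated by two elementwise-commuting subgroups, one cyclic of odd order and one isomorphic to a generalized quaternion group; or G is a three-step group with respect to some prime p. -/
theorem result {G : Type*} [Group G] [Finite G] [Group.IsSolvable G] (hCN : Cfsg.IsCNGroup G) :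
    Group.IsNilpotent G ∨
      (∃ K E : Subgroup G, K.Normal ∧ Subgroup.IsComplement' K E ∧ Cfsg.IsFrobeniusComplement E ∧
        (IsCyclic E ∨ ∃ C Q : Subgroup G, C ⊔ Q = E ∧ (∀ a ∈ C, ∀ b ∈ Q, a * b = b * a) ∧ IsCyclic C ∧ Odd (Nat.card C) ∧
          ∃ n : ℕ, Nonempty (↥Q ≃* QuaternionGroup (2 ^ n)))) ∨
      ∃ p : ℕ, p.Prime ∧ Cfsg.IsThreeStepGroup p G := by
  classical
  by_cases hnil : Group.IsNilpotent G
  · exact Or.inl hnil
  right
  by_cases hNS : ∃ (r : ℕ) (_ : Fact r.Prime) (T : Sylow r G),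
      (T : Subgroup G).Normal ∧ (T : Subgroup G) ≠ ⊥
  · left
    obtain ⟨r, hr, T, hTn, hT1⟩ := hNS
    exact case1 hCN hnil r T hT1 hTn
  · right
    apply case2 hCN hnil
    intro r hr T hTn
    by_contra hT1
    exact hNS ⟨r, hr, T, hTn, hT1⟩

end Cfsg.Agent.S1476
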