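import Cfsg.Statements.S1478
import Cfsg.Agent.Lib.Helper78.ThreeStep10

set_option autoImplicit false
open Cfsg

namespace Cfsg.Agent.S1478

open Cfsg.Agent.Lib.Helper78.ThreeStep

/-- the prime of a maximal three-step subgroup is odd -/
theorem max3_p_ne_two {G : Type*} [Group G] [Finite G] (hG : Cfsg.IsMinSimpleOddOrder G)
    {p : ℕ} [Fact p.Prime] {M : Subgroup G} (hM : Max3 p M) : p ≠ 2 := by
  obtain ⟨A, hA⟩ := hM.ts
  have hUp : IsPGroup p (pCore p ↥M) := Cfsg.Agent.Lib.Helper22.pCore_isPGroup' p ↥M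
  have h1 : p ∣ Nat.card (pCore p ↥M) := by
    rcases hUp.card_eq_or_dvd with h | h
    · exfalso
      exact hA.U_ne (Subgroup.card_eq_one.mp h)
    · exact h
  have h2 : Nat.card (pCore p ↥M) ∣ Nat.card ↥M := Subgroup.card_subgroup_dvd_card _
  have h3 : Nat.card ↥M ∣ Nat.card G := Subgroup.card_subgroup_dvd_card _
  exact p_ne_two hG (dvd_trans h1 (dvd_trans h2 h3))

/-- Let G be a minimal simple group of odd order in which every non-identity element has nilpotent centralizer. Then no subgroup of G is a three-step group with respect to any prime. -/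
theorem result {G : Type*} [Group G] [Finite G] (hG : Cfsg.IsMinSimpleOddOrder G) (hCN : Cfsg.IsCNGroup G) :
    ∀ (H : Subgroup G) (p : ℕ), ¬ Cfsg.IsThreeStepGroup p ↥H := by
  intro H p h
  obtain ⟨q, M, hq, _, hM⟩ := exists_max3 hG hCN h
  have : Fact q.Prime := ⟨hq⟩
  exact no_max3 hG hCN (max3_p_ne_two hG hM) hM

end Cfsg.Agent.S1478
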