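import Cfsg.Statements.S0182
import Cfsg.Agent.Lib.Helper78.CNChar8
import Cfsg.Agent.Lib.Helper78.CNFamily

set_option autoImplicit false
set_option linter.style.haveILetI false
open Cfsg

namespace Cfsg.Agent.S0182

open Cfsg.Agent.Lib.Helper78.CNMin Cfsg.Agent.Lib.Helper78.CNChar Cfsg.Agent.Lib.Helper3
open scoped commutatorElement

theorem card_lt_of_lt {G : Type*} [Group G] [Finite G] {H K : Subgroup G} (h : H < K) :
    Nat.card H < Nat.card K :=
  lt_of_le_of_ne (Subgroup.card_le_of_le h.le)
    (fun heq => h.ne (Subgroup.eq_of_le_of_card_ge h.le heq.ge))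

/-- A minimal simple CA-group of odd order does not exist. -/
theorem minsimple_ca_false {G : Type*} [Group G] [Finite G] (hG : IsMinSimpleOddOrder G)
    (hCA : ∀ x : G, x ≠ 1 → ∀ a ∈ Subgroup.centralizer ({x} : Set G),
      ∀ b ∈ Subgroup.centralizer ({x} : Set G), a * b = b * a) : False := by
  classical
  haveI : Fintype G := Fintype.ofFinite G
  have hCN : IsCNGroup G := fun g hg =>
    isNilpotent_of_comm (fun a b => Subtype.ext (hCA g hg a a.2 b b.2))
  obtain ⟨ι, hι, hne, K, hK, hcop, hcover⟩ := exists_family hG hCN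
  haveI := hι
  haveI := hne
  haveI : ∀ i, Fintype ↥(Subgroup.normalizer (K i : Set G)) := fun i => Fintype.ofFinite _
  have hab : ∀ i, ∀ a ∈ K i, ∀ b ∈ K i, a * b = b * a := by
    intro i a ha b hb
    obtain ⟨c, hc, hc1, hcc⟩ := exists_central_ne_one (hK i).1 ((hK i).ne_bot hG)
    exact hCA c hc1 a (Subgroup.mem_centralizer_singleton_iff.mpr (hcc a ha)) b
      (Subgroup.mem_centralizer_singleton_iff.mpr (hcc b hb))
  have hctx : ∀ i, ∃ star, CohCtx (K i) (relSet (K i)) star := fun i =>
    exists_cohCtx_of_abelian hG.1 ((hK i).ti_form hG hCN) ((hK i).lt_normalizer hG hCN)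
      ((hK i).cent_le hG hCN) (hab i) ((hK i).ne_bot hG)
  choose star hstar using hctx
  have hχ : ∀ i, ∃ χ, χ ∈ relSet (K i) := fun i => relSet_nonempty ((hK i).ne_bot hG)
  choose χ₀ hχ₀ using hχ
  have F : Fam K (fun i => relSet (K i)) star χ₀ :=
    { ctx := hstar
      odd := hG.1
      cop := hcop
      cover := hcover
      mem := hχ₀
      deg := fun i => by
        obtain ⟨hirr, k, hk, hne⟩ := hχ₀ i
        exact tifn_abelian_degree (K i) ((hK i).cent_le hG hCN) (hab i) hirr
          ⟨k, Subgroup.mem_subgroupOf.mpr hk, hne⟩ }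
  exact F.false

/-- A nontrivial solvable normal subgroup contains a nontrivial abelian normal subgroup. -/
theorem exists_abelian_normal {G : Type*} [Group G] [Finite G] :
    ∀ (n : ℕ) (N : Subgroup G), Nat.card N = n → N.Normal → N ≠ ⊥ → Group.IsSolvable N →
      ∃ B : Subgroup G, B.Normal ∧ B ≠ ⊥ ∧ ∀ a ∈ B, ∀ b ∈ B, a * b = b * a := by
  intro n
  induction n using Nat.strong_induction_on with
  | _ n ih =>
    intro N hn hN hN1 hsolv
    haveI := hN
    by_cases hc : ⁅N, N⁆ = ⊥
    · refine ⟨N, hN, hN1, ?_⟩
      intro a ha b hb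
      have h1 : ⁅a, b⁆ ∈ ⁅N, N⁆ := Subgroup.commutator_mem_commutator ha hb
      rw [hc, Subgroup.mem_bot] at h1
      exact commutatorElement_eq_one_iff_mul_comm.mp h1
    · have hlt : ⁅N, N⁆ < N := by
        haveI : Nontrivial N := (Subgroup.nontrivial_iff_ne_bot N).mpr hN1
        have h1 := Group.IsSolvable.commutator_lt_top_of_nontrivial N
        have h2 : (commutator N).map N.subtype < (⊤ : Subgroup N).map N.subtype :=
          (Subgroup.map_subtype_lt_map_subtype).mpr h1
        rw [commutator_def, Subgroup.map_commutator, ← MonoidHom.range_eq_map,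
          Subgroup.range_subtype] at h2
        exact h2
      have hcard : Nat.card ↥⁅N, N⁆ < n := by
        rw [← hn]
        exact card_lt_of_lt hlt
      have hsolv' : Group.IsSolvable ↥⁅N, N⁆ :=
        Group.isSolvable_of_isSolvable_injective (Subgroup.inclusion_injective hlt.le)
      exact ih _ hcard ⁅N, N⁆ rfl inferInstance hc hsolv'

/-- The reduction: a CA-group of odd order with a proper nontrivial normal subgroup, all of whose
proper subgroups are solvable, is solvable. -/
theorem solvable_of_normal {G : Type*} [Group G] [Finite G]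
    (hCA : ∀ x : G, x ≠ 1 → ∀ a ∈ Subgroup.centralizer ({x} : Set G),
      ∀ b ∈ Subgroup.centralizer ({x} : Set G), a * b = b * a)
    (hprop : ∀ H : Subgroup G, H ≠ ⊤ → Group.IsSolvable H)
    (N : Subgroup G) (hN : N.Normal) (hN1 : N ≠ ⊥) (hNt : N ≠ ⊤) : Group.IsSolvable G := by
  classical
  haveI : Fintype G := Fintype.ofFinite G
  obtain ⟨B, hB, hB1, hBab⟩ := exists_abelian_normal (Nat.card N) N rfl hN hN1 (hprop N hNt)
  haveI := hB
  obtain ⟨b, hb1⟩ := (Subgroup.ne_bot_iff_exists_ne_one).mp hB1
  have hb1' : (b : G) ≠ 1 := fun h => hb1 (Subtype.ext h)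
  set A : Subgroup G := Subgroup.centralizer (B : Set G) with hA
  have hAn : A.Normal := Subgroup.normal_centralizer
  have hAb : ∀ a ∈ A, a ∈ Subgroup.centralizer ({(b : G)} : Set G) := by
    intro a ha
    rw [Subgroup.mem_centralizer_singleton_iff]
    exact (Subgroup.mem_centralizer_iff.mp ha (b : G) b.2).symm
  have hAab : ∀ a ∈ A, ∀ a' ∈ A, a * a' = a' * a := fun a ha a' ha' =>
    hCA (b : G) hb1' a (hAb a ha) a' (hAb a' ha')
  have hBA : B ≤ A := by
    intro x hx
    rw [hA, Subgroup.mem_centralizer_iff]
    intro y hy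
    exact hBab y hy x hx
  have hF : ∀ x ∈ A, x ≠ 1 → ∀ g : G, g * x = x * g → g ∈ A := by
    intro x hx hx1 g hg
    rw [hA, Subgroup.mem_centralizer_iff]
    intro y hy
    have hyx : y ∈ Subgroup.centralizer ({x} : Set G) := by
      rw [Subgroup.mem_centralizer_singleton_iff]
      exact hAab y (hBA hy) x hx
    have hgx : g ∈ Subgroup.centralizer ({x} : Set G) := by
      rw [Subgroup.mem_centralizer_singleton_iff]
      exact hg
    exact hCA x hx1 y hyx g hgx
  by_cases hAt : A = ⊤
  · apply Group.isSolvable_of_comm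
    intro a a'
    exact hAab a (hAt ▸ Subgroup.mem_top a) a' (hAt ▸ Subgroup.mem_top a')
  · haveI := hAn
    haveI : Fintype A := Fintype.ofFinite _
    have hcop := frobKer_coprime A hF
    obtain ⟨E, hE⟩ := Subgroup.exists_right_complement'_of_coprime hcop
    have hEt : E ≠ ⊤ := by
      intro h
      have h1 : A ⊓ E = ⊥ := hE.disjoint.eq_bot
      rw [h, inf_top_eq] at h1
      apply hB1
      rw [eq_bot_iff, ← h1]
      exact hBA
    haveI hEs : Group.IsSolvable E := hprop E hEt
    haveI hAs : Group.IsSolvable A :=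
      Group.isSolvable_of_comm (fun a a' => Subtype.ext (hAab a a.2 a' a'.2))
    have hsurj : Function.Surjective ((QuotientGroup.mk' A).comp E.subtype) := by
      intro q
      obtain ⟨g, rfl⟩ := QuotientGroup.mk'_surjective A q
      obtain ⟨⟨a, e⟩, hae, _⟩ := hE.existsUnique g
      refine ⟨e, ?_⟩
      simp only [MonoidHom.coe_comp, Function.comp_apply, Subgroup.coe_subtype,
        QuotientGroup.mk'_apply]
      rw [QuotientGroup.eq]
      have : (e : G)⁻¹ * g = (e : G)⁻¹ * (a : G) * (e : G) := by
        rw [← hae]; group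
      rw [this]
      have := hAn.conj_mem (a : G) a.2 (e : G)⁻¹
      simpa using this
    haveI : Group.IsSolvable (G ⧸ A) := Group.isSolvable_of_surjective hsurj
    apply Group.isSolvable_of_ker_le_range A.subtype (QuotientGroup.mk' A)
    rw [QuotientGroup.ker_mk', Subgroup.range_subtype]

/-- The CA-Theorem for odd order: a finite group of odd order in which every non-identity element has an abelian centralizer is solvable. -/
theorem result {G : Type*} [Group G] [Finite G] (hodd : Odd (Nat.card G)) (hCA : ∀ x : G, x ≠ 1 → ∀ a ∈ Subgroup.centralizer ({x} : Set G), ∀ b ∈ Subgroup.centralizer ({x} : Set G), a * b = b * a) : Group.IsSolvable G := by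
  induction hn : Nat.card G using Nat.strong_induction_on generalizing G with
  | _ n ih =>
    -- all proper subgroups are solvable
    have hprop : ∀ H : Subgroup G, H ≠ ⊤ → Group.IsSolvable H := by
      intro H hH
      have hcard : Nat.card H < n := by
        rw [← hn]
        exact (card_lt_of_lt (lt_top_iff_ne_top.mpr hH)).trans_eq Subgroup.card_top
      have hoddH : Odd (Nat.card H) := Odd.of_dvd_nat hodd (Subgroup.card_subgroup_dvd_card H)
      apply ih (Nat.card H) hcard hoddH _ rfl
      intro x hx a ha b hb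
      have hx' : (x : G) ≠ 1 := fun h => hx (Subtype.ext h)
      have ha' : (a : G) ∈ Subgroup.centralizer ({(x : G)} : Set G) := by
        rw [Subgroup.mem_centralizer_singleton_iff] at ha ⊢
        exact_mod_cast congrArg Subtype.val ha
      have hb' : (b : G) ∈ Subgroup.centralizer ({(x : G)} : Set G) := by
        rw [Subgroup.mem_centralizer_singleton_iff] at hb ⊢
        exact_mod_cast congrArg Subtype.val hb
      exact Subtype.ext (hCA (x : G) hx' a ha' b hb')
    by_contra hns
    -- then `G` is simple
    have hsimple : IsSimpleGroup G := by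
      haveI : Nontrivial G := by
        by_contra h
        rw [not_nontrivial_iff_subsingleton] at h
        exact hns inferInstance
      refine ⟨fun N hN => ?_⟩
      by_contra hcon
      push Not at hcon
      exact hns (solvable_of_normal hCA hprop N hN hcon.1 hcon.2)
    have hnc : ¬ IsMulCommutative G := by
      intro h
      exact hns (Group.isSolvable_of_comm (fun a b => h.is_comm.comm a b))
    exact minsimple_ca_false ⟨hodd, hsimple, hnc, hprop⟩ hCA

end Cfsg.Agent.S0182
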