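import Cfsg.Statements.S0370
import Cfsg.Agent.Lib.Helper7.GolayBasic

set_option autoImplicit false
open Cfsg

namespace Cfsg.Agent.S0370

open Cfsg.Agent.Lib.Helper7

/-- The permutation x ↦ x + 1 of the residues modulo 23, fixing the extra point, lies in the group of the length-24 code. -/
theorem result : Equiv.optionCongr (Equiv.addRight (1 : ZMod 23)) ∈ Cfsg.M24 := by
  apply mem_M24_of_gens _ _ (one_comp_mem _)
  intro t
  rw [qrWord_comp_optionCongr _ t (t + 1)]
  · exact qrWord_mem _
  · intro x
    have hs : (Equiv.addRight (1 : ZMod 23)).symm x = x - 1 := by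
      simp [Equiv.addRight_symm, sub_eq_add_neg]
    rw [hs]
    constructor
    · rintro ⟨r, hr⟩
      exact ⟨r, by linear_combination hr⟩
    · rintro ⟨r, hr⟩
      exact ⟨r, by linear_combination hr⟩

end Cfsg.Agent.S0370
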