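import Cfsg.Statements.S0372
import Cfsg.Agent.Lib.Helper7.GolayCode

set_option autoImplicit false
open Cfsg

namespace Cfsg.Agent.S0372

open Cfsg.Agent.Lib.Helper7

/-- The involution x ↦ -1/x of the projective line over ZMod 23 lies in the group of the length-24 code. -/
theorem result : Cfsg.projInv ∈ Cfsg.M24 := by
  apply mem_M24_of_cert _ [3232, 2800, 2828, 1644, 1938, 692, 106, 3564, 1332, 2238, 1734, 476, 3976,
    3290, 1338, 1624, 3958, 2384, 454, 2914, 938, 3078, 2590]
  decide +kernel

end Cfsg.Agent.S0372
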