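import Cfsg.Statements.S0373
import Cfsg.Agent.Lib.Helper7.GolayCode

set_option autoImplicit false
open Cfsg

namespace Cfsg.Agent.S0373

open Cfsg.Agent.Lib.Helper7

/-- The cube-twist permutation (squares t ↦ t^3/9, non-squares t ↦ 9t^3, extra point fixed) lies in the group of the length-24 code. -/
theorem result : Cfsg.cubeTwist ∈ Cfsg.M24 := by
  apply mem_M24_of_cert _ [863, 3288, 158, 4012, 1924, 1191, 3654, 3345, 872, 562, 2955, 2629, 2034,
    2364, 1291, 2531, 2518, 3647, 3178, 2737, 237, 1397, 1753]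
  show ∀ t : ZMod 23, ∀ p : GolayPt,
      qrWord t (cubeTwistFun p) = wordOf (encode (([863, 3288, 158, 4012, 1924, 1191, 3654, 3345, 872, 562, 2955, 2629, 2034,
    2364, 1291, 2531, 2518, 3647, 3178, 2737, 237, 1397, 1753] : List ℕ).getD (ZMod.val t) 0)) p
  decide +kernel

end Cfsg.Agent.S0373
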