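import Cfsg.Statements.S0366
import Cfsg.Agent.Lib.Helper26.Trans5

set_option autoImplicit false
open Cfsg

namespace Cfsg.Agent.S0366

open Cfsg.Agent.Lib.Helper26

/-- the base points. -/
def bpt (i : Fin 5) : GolayPt := pt ([3, 2, 1, 0, 23].getD i.val 0)

theorem key (x : Fin 5 ↪ GolayPt) : ∃ g ∈ M24, ∀ i : Fin 5, x i = g (bpt i) := by
  obtain ⟨g, hg, h⟩ := isTransOn5 (List.ofFn x) (by simp)
    (List.nodup_ofFn.mpr x.injective)
  refine ⟨g, hg, ?_⟩
  simp only [List.ofFn_succ, List.ofFn_zero, List.map_cons, List.map_nil, List.cons.injEq,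
    and_true] at h
  obtain ⟨h0, h1, h2, h3, h4⟩ := h
  intro i
  fin_cases i
  · exact h0
  · exact h1
  · exact h2
  · exact h3
  · exact h4

/-- The permutation group preserving the length-24 code is 5-transitive on the 24 points. -/
theorem result : MulAction.IsMultiplyPretransitive Cfsg.M24 Cfsg.GolayPt 5 := by
  rw [MulAction.isMultiplyPretransitive_iff]
  intro x y
  obtain ⟨gx, hgx, hx⟩ := key x
  obtain ⟨gy, hgy, hy⟩ := key y
  refine ⟨⟨gy * gx⁻¹, M24.mul_mem hgy (M24.inv_mem hgx)⟩, ?_⟩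
  apply DFunLike.ext
  intro i
  show (gy * gx⁻¹) (x i) = y i
  rw [hx i, hy i]
  simp

end Cfsg.Agent.S0366
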