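import Cfsg.Statements.S0428
import Cfsg.Agent.Lib.Helper61.S3622

set_option autoImplicit false
set_option linter.unusedVariables false
set_option linter.unusedSectionVars false
open Cfsg

namespace Cfsg.Agent.S0428

open Finset Cfsg.Agent.Lib.Helper6.Steiner Cfsg.Agent.Lib.Helper61.S3622

section
variable {α : Type*} [Fintype α] [DecidableEq α] {B : Set (Finset α)}

/-- neighbour data: is the extra vertex a neighbour? -/
def nN : Option (α ⊕ ↥B) → Prop
  | none => False
  | some (Sum.inl _) => True
  | some (Sum.inr _) => False

/-- neighbour data: which points are neighbours? -/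
def nP : Option (α ⊕ ↥B) → α → Prop
  | none, _ => True
  | some (Sum.inl _), _ => False
  | some (Sum.inr b), a => a ∈ (b : Finset α)

/-- neighbour data: which blocks are neighbours? -/
def nB : Option (α ⊕ ↥B) → Finset α → Prop
  | none, _ => False
  | some (Sum.inl a), c => a ∈ c
  | some (Sum.inr b), c => Disjoint c (b : Finset α)

theorem block_ne_empty (hB : IsSteinerSystem 3 6 B) (w : ↥B) : (w : Finset α) ≠ ∅ := by
  intro h
  have := hB.1 w w.2
  rw [h] at this
  simp at this

theorem adj_none (hB : IsSteinerSystem 3 6 B) (u : Option (α ⊕ ↥B)) :
    (pointBlockGraph B).Adj u none ↔ nN u := by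
  unfold pointBlockGraph
  rw [SimpleGraph.fromRel_adj]
  rcases u with _ | (a | b) <;> simp [pointBlockRel, nN]

theorem adj_point (hB : IsSteinerSystem 3 6 B) (u : Option (α ⊕ ↥B)) (a : α) :
    (pointBlockGraph B).Adj u (some (Sum.inl a)) ↔ nP u a := by
  unfold pointBlockGraph
  rw [SimpleGraph.fromRel_adj]
  rcases u with _ | (a' | b) <;> simp [pointBlockRel, nP]

theorem adj_block (hB : IsSteinerSystem 3 6 B) (u : Option (α ⊕ ↥B)) (c : ↥B) :
    (pointBlockGraph B).Adj u (some (Sum.inr c)) ↔ nB u (c : Finset α) := by
  unfold pointBlockGraph
  rw [SimpleGraph.fromRel_adj]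
  rcases u with _ | (a | b)
  · simp [pointBlockRel, nB]
  · simp [pointBlockRel, nB]
  · simp only [pointBlockRel, nB, ne_eq, Option.some.injEq, Sum.inr.injEq]
    constructor
    · rintro ⟨-, h | h⟩
      · exact h.symm
      · exact h
    · intro h
      refine ⟨?_, Or.inr h⟩
      intro hbc
      rw [hbc, disjoint_self] at h
      exact block_ne_empty hB c h

theorem card_unit_subtype (P : Prop) [Decidable P] :
    Nat.card {_u : Unit // P} = if P then 1 else 0 := by
  by_cases h : P
  · rw [if_pos h, Nat.card_congr (Equiv.subtypeUnivEquiv (fun _ => h))]
    simp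
  · rw [if_neg h]
    have : IsEmpty {_u : Unit // P} := ⟨fun x => h x.2⟩
    exact Nat.card_of_isEmpty

open Classical in
theorem card_option_sum (q : Option (α ⊕ ↥B) → Prop) :
    Nat.card {z // q z} = Nat.card {_u : Unit // q none} +
      Nat.card {a : α // q (some (Sum.inl a))} + Nat.card {w : ↥B // q (some (Sum.inr w))} := by
  have := Fintype.ofFinite ↥B
  rw [card_unit_subtype]
  simp only [Nat.card_eq_fintype_card, Fintype.card_subtype, Finset.card_filter]
  rw [Fintype.sum_option, Fintype.sum_sum_type]
  ring

theorem card_nbr (hB : IsSteinerSystem 3 6 B) (u : Option (α ⊕ ↥B)) :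
    Nat.card ((pointBlockGraph B).neighborSet u) =
      Nat.card {_u : Unit // nN u} + Nat.card {a : α // nP u a} +
        Nat.card {w : ↥B // nB u (w : Finset α)} := by
  have h := card_option_sum (B := B) (fun z => (pointBlockGraph B).Adj u z)
  have e1 : Nat.card ((pointBlockGraph B).neighborSet u) =
      Nat.card {z // (pointBlockGraph B).Adj u z} := rfl
  rw [e1, h]
  congr 1
  · congr 1
    · apply Nat.card_congr
      apply Equiv.subtypeEquivRight
      intro _
      simp only [adj_none hB]
    · apply Nat.card_congr
      apply Equiv.subtypeEquivRight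
      intro a
      exact adj_point hB u a
  · apply Nat.card_congr
    apply Equiv.subtypeEquivRight
    intro c
    exact adj_block hB u c

theorem card_common (hB : IsSteinerSystem 3 6 B) (u v : Option (α ⊕ ↥B)) :
    Nat.card ((pointBlockGraph B).commonNeighbors u v) =
      Nat.card {_u : Unit // nN u ∧ nN v} + Nat.card {a : α // nP u a ∧ nP v a} +
        Nat.card {w : ↥B // nB u (w : Finset α) ∧ nB v (w : Finset α)} := by
  have h := card_option_sum (B := B)
    (fun z => (pointBlockGraph B).Adj u z ∧ (pointBlockGraph B).Adj v z)
  have e1 : Nat.card ((pointBlockGraph B).commonNeighbors u v) =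
      Nat.card {z // (pointBlockGraph B).Adj u z ∧ (pointBlockGraph B).Adj v z} := rfl
  rw [e1, h]
  congr 1
  · congr 1
    · apply Nat.card_congr
      apply Equiv.subtypeEquivRight
      intro _
      simp only [adj_none hB]
    · apply Nat.card_congr
      apply Equiv.subtypeEquivRight
      intro a
      rw [adj_point hB u a, adj_point hB v a]
  · apply Nat.card_congr
    apply Equiv.subtypeEquivRight
    intro c
    rw [adj_block hB u c, adj_block hB v c]

theorem card_false_subtype {γ : Type*} : Nat.card {a : γ // False} = 0 := Nat.card_of_isEmpty

theorem card_true_unit : Nat.card {_u : Unit // True} = 1 := by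
  rw [Nat.card_congr (Equiv.subtypeUnivEquiv (fun _ => trivial))]
  simp

theorem card_points_mem (b : Finset α) : Nat.card {a : α // a ∈ b} = b.card := by
  rw [Nat.card_eq_fintype_card, Fintype.card_coe]

end

theorem result {α : Type*} [Fintype α] (hα : Fintype.card α = 22) {B : Set (Finset α)} (hB : Cfsg.IsSteinerSystem 3 6 B) [Fintype B] [DecidableRel (Cfsg.pointBlockGraph B).Adj] : (Cfsg.pointBlockGraph B).IsSRGWith 100 22 0 6 := by
  classical
  have hcardB : Fintype.card ↥B = 77 := by
    rw [← Nat.card_eq_fintype_card, Nat.card_coe_set_eq, ncard_eq_card_blocks]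
    exact card_blocks hα hB
  have hcardα : Nat.card α = 22 := by rw [Nat.card_eq_fintype_card, hα]
  have htrue : Nat.card {a : α // True} = 22 := by
    rw [Nat.card_congr (Equiv.subtypeUnivEquiv (fun _ => trivial)), hcardα]
  have hpts : ∀ b : ↥B, Nat.card {a : α // a ∈ (b : Finset α)} = 6 := by
    intro b
    rw [card_points_mem, hB.1 b b.2]
  refine ⟨?_, ?_, ?_, ?_⟩
  · rw [Fintype.card_option, Fintype.card_sum, hα, hcardB]
  · intro u
    rw [← SimpleGraph.card_neighborSet_eq_degree, ← Nat.card_eq_fintype_card, card_nbr hB u]
    rcases u with _ | (a | b)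
    · simp only [nN, nP, nB, card_false_subtype, htrue]
    · have h1 := card_blocks_subtype (B := B) (fun c => a ∈ c)
      rw [card_through_one hα hB a] at h1
      simp only [nN, nP, nB, card_false_subtype, card_true_unit, h1]
    · have h1 := card_blocks_subtype (B := B) (fun c => Disjoint c (b : Finset α))
      rw [card_disjoint hα hB b.2] at h1
      simp only [nN, nP, nB, card_false_subtype, h1, hpts b]
  · intro u v huv
    rw [← Nat.card_eq_fintype_card, card_common hB u v]
    rcases u with _ | (a | b) <;> rcases v with _ | (a' | c)
    · exact absurd huv (SimpleGraph.irrefl _)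
    · simp only [nN, nP, nB, false_and, and_false, card_false_subtype]
    · exfalso
      rw [adj_block hB] at huv
      exact huv
    · simp only [nN, nP, nB, false_and, and_false, card_false_subtype]
    · exfalso
      rw [adj_point hB] at huv
      exact huv
    · rw [adj_block hB] at huv
      simp only [nB] at huv
      have h1 : Nat.card {w : ↥B // a ∈ (w : Finset α) ∧
          Disjoint (w : Finset α) (c : Finset α)} = 0 := by
        have : IsEmpty {w : ↥B // a ∈ (w : Finset α) ∧
            Disjoint (w : Finset α) (c : Finset α)} := by
          constructor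
          rintro ⟨d, h1, h2⟩
          exact (disjoint_left.mp h2 h1) huv
        exact Nat.card_of_isEmpty
      simp only [nN, nP, nB, and_false, false_and, card_false_subtype, h1]
    · exfalso
      rw [adj_none hB] at huv
      exact huv
    · rw [adj_point hB] at huv
      simp only [nP] at huv
      have h1 : Nat.card {w : ↥B // Disjoint (w : Finset α) (b : Finset α) ∧
          a' ∈ (w : Finset α)} = 0 := by
        have : IsEmpty {w : ↥B // Disjoint (w : Finset α) (b : Finset α) ∧
            a' ∈ (w : Finset α)} := by
          constructor
          rintro ⟨d, h1, h2⟩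
          exact (disjoint_left.mp h1 h2) huv
        exact Nat.card_of_isEmpty
      simp only [nN, nP, nB, false_and, and_false, card_false_subtype, h1]
    · rw [adj_block hB] at huv
      simp only [nB] at huv
      have h1 : Nat.card {a : α // a ∈ (b : Finset α) ∧ a ∈ (c : Finset α)} = 0 := by
        have : IsEmpty {a : α // a ∈ (b : Finset α) ∧ a ∈ (c : Finset α)} := by
          constructor
          rintro ⟨a, h1, h2⟩
          exact (disjoint_left.mp huv h2) h1
        exact Nat.card_of_isEmpty
      have h2 : Nat.card {w : ↥B // Disjoint (w : Finset α) (b : Finset α) ∧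
          Disjoint (w : Finset α) (c : Finset α)} = 0 := by
        have : IsEmpty {w : ↥B // Disjoint (w : Finset α) (b : Finset α) ∧
            Disjoint (w : Finset α) (c : Finset α)} := by
          constructor
          rintro ⟨d, h1, h2⟩
          have hdc : (d : Finset α) ≠ (c : Finset α) := by
            intro h
            rw [h, disjoint_self] at h2
            exact block_ne_empty hB c h2
          exact not_disjoint_of_disjoint hα hB b.2 c.2 d.2 huv h1 hdc h2
        exact Nat.card_of_isEmpty
      simp only [nN, nP, nB, false_and, card_false_subtype, h1, h2]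
  · intro u v huv hnadj
    rw [← Nat.card_eq_fintype_card, card_common hB u v]
    rcases u with _ | (a | b) <;> rcases v with _ | (a' | c)
    · exact absurd rfl huv
    · exfalso
      apply hnadj
      rw [adj_point hB]
      trivial
    · simp only [nN, nP, nB, false_and, true_and, card_false_subtype, hpts c]
    · exfalso
      apply hnadj
      rw [adj_none hB]
      trivial
    · have haa : a ≠ a' := by
        intro h
        apply huv
        rw [h]
      have h1 := card_blocks_subtype (B := B) (fun d => a ∈ d ∧ a' ∈ d)
      rw [card_through_two hα hB a a' haa] at h1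
      simp only [nN, nP, nB, and_self, and_false, card_false_subtype, card_true_unit, h1]
    · rw [adj_block hB] at hnadj
      simp only [nB] at hnadj
      have h1 := card_blocks_subtype (B := B) (fun d => a ∈ d ∧ Disjoint d (c : Finset α))
      rw [card_through_disjoint hα hB c.2 a hnadj] at h1
      simp only [nN, nP, nB, and_false, false_and, card_false_subtype, h1]
    · simp only [nN, nP, nB, false_and, and_true, and_false, card_false_subtype, hpts b]
    · rw [adj_point hB] at hnadj
      simp only [nP] at hnadj
      have h1 := card_blocks_subtype (B := B) (fun d => a' ∈ d ∧ Disjoint d (b : Finset α))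
      rw [card_through_disjoint hα hB b.2 a' hnadj] at h1
      have h2 : Nat.card {w : ↥B // Disjoint (w : Finset α) (b : Finset α) ∧
          a' ∈ (w : Finset α)} = 6 := by
        rw [← h1]
        apply Nat.card_congr
        apply Equiv.subtypeEquivRight
        intro d
        exact and_comm
      simp only [nN, nP, nB, false_and, and_false, card_false_subtype, h2]
    · rw [adj_block hB] at hnadj
      simp only [nB] at hnadj
      have hne : (c : Finset α) ≠ (b : Finset α) := by
        intro h
        apply huv
        rw [Subtype.ext h]
      have h1 : Nat.card {a : α // a ∈ (b : Finset α) ∧ a ∈ (c : Finset α)} = 2 := by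
        have : Nat.card {a : α // a ∈ (b : Finset α) ∧ a ∈ (c : Finset α)} =
            Nat.card {a : α // a ∈ (c : Finset α) ∩ (b : Finset α)} := by
          apply Nat.card_congr
          apply Equiv.subtypeEquivRight
          intro a
          rw [mem_inter]
          exact and_comm
        rw [this, card_points_mem]
        rcases inter_card hα hB b.2 c.2 hne with h | h
        · exfalso
          apply hnadj
          rw [disjoint_iff_inter_eq_empty, ← card_eq_zero]
          exact h
        · exact h
      have h2 := card_blocks_subtype (B := B)
        (fun d => Disjoint d (b : Finset α) ∧ Disjoint d (c : Finset α))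
      rw [card_disjoint_both hα hB b.2 c.2 hne hnadj] at h2
      simp only [nN, nP, nB, false_and, card_false_subtype, h1, h2]

end Cfsg.Agent.S0428
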