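import Mathlib
import Cfsg.Statements.S0430
import Cfsg.Agent.Lib.Helper95.SrgB
import Cfsg.Agent.Lib.Helper95.SrgC
import Cfsg.Agent.Lib.Helper95.BigNorm22

set_option autoImplicit false
open Cfsg

namespace Cfsg.Agent.S0430

/-- Uniqueness of the strongly regular graph with parameters (100, 22, 0, 6). -/
theorem result {V W : Type*} [Fintype V] [Fintype W] {G : SimpleGraph V} {H : SimpleGraph W} [DecidableRel G.Adj] [DecidableRel H.Adj] (hG : G.IsSRGWith 100 22 0 6) (hH : H.IsSRGWith 100 22 0 6) : Nonempty (G ≃g H) := by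
  classical
  have FG := Cfsg.Agent.Lib.Helper95.Srg.facts_of_srg hG
  have FH := Cfsg.Agent.Lib.Helper95.Srg.facts_of_srg hH
  have hV : Nonempty V := by
    rw [← Fintype.card_pos_iff, hG.card]
    norm_num
  have hW : Nonempty W := by
    rw [← Fintype.card_pos_iff, hH.card]
    norm_num
  obtain ⟨v0⟩ := hV
  obtain ⟨w0⟩ := hW
  have e1 := Cfsg.Agent.Lib.Helper95.Srg.graphIso FG v0
  have e2 := Cfsg.Agent.Lib.Helper95.Srg.graphIso FH w0
  obtain ⟨e, he⟩ := Cfsg.Agent.Lib.Helper95.Big.setSystemIso_of_norm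
    Cfsg.Agent.Lib.Helper95.Big.Std22 Cfsg.Agent.Lib.Helper95.Big.norm22
    (Cfsg.Agent.Lib.Helper95.Srg.card_pt FG v0) (Cfsg.Agent.Lib.Helper95.Srg.card_pt FH w0)
    (Cfsg.Agent.Lib.Helper95.Srg.steiner FG v0) (Cfsg.Agent.Lib.Helper95.Srg.steiner FH w0)
  exact ⟨e1.trans ((Cfsg.Agent.Lib.Helper95.Srg.pbgIso e _ _ he).trans e2.symm)⟩

end Cfsg.Agent.S0430
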