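import Cfsg.Statements.S0381
import Cfsg.Agent.Lib.Helper7.OctStab
import Cfsg.Agent.Lib.Helper7.M24Trans

set_option autoImplicit false
open Cfsg

namespace Cfsg.Agent.S0381

open Cfsg.Agent.Lib.Helper7
open scoped Pointwise

theorem conj_mem_iff' (g0 : Equiv.Perm GolayPt) (hg0 : g0 ∈ M24) (s : Finset GolayPt)
    (h : Equiv.Perm GolayPt) :
    h ∈ M24 ⊓ fixingSubgroup (Equiv.Perm GolayPt) (↑(g0 • s) : Set GolayPt) ↔
      g0⁻¹ * h * g0 ∈ M24 ⊓ fixingSubgroup (Equiv.Perm GolayPt) (↑s : Set GolayPt) := by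
  rw [Subgroup.mem_inf, Subgroup.mem_inf, conj_mem_iff M24 hg0, mem_fixingSubgroup_iff,
    mem_fixingSubgroup_iff]
  apply and_congr Iff.rfl
  constructor
  · intro h1 y hy
    have h2 : g0 y ∈ (↑(g0 • s) : Set GolayPt) := by
      rw [Finset.mem_coe]
      exact Finset.smul_mem_smul_finset (Finset.mem_coe.1 hy)
    have h3 := h1 _ h2
    simp only [Equiv.Perm.smul_def, Equiv.Perm.mul_apply] at h3 ⊢
    rw [h3]
    simp
  · intro h1 y hy
    rw [Finset.mem_coe, Finset.mem_smul_finset] at hy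
    obtain ⟨y', hy', rfl⟩ := hy
    have h3 := h1 y' (Finset.mem_coe.2 hy')
    simp only [Equiv.Perm.smul_def, Equiv.Perm.mul_apply] at h3 ⊢
    have := congrArg g0 h3
    simpa using this

/-- The pointwise stabiliser of an octad in the group of the length-24 code has order 16 and every element of it squares to the identity. -/
theorem result (o : Finset Cfsg.GolayPt) (ho : o ∈ Cfsg.octads) : Nat.card ↥(Cfsg.M24 ⊓ fixingSubgroup (Equiv.Perm Cfsg.GolayPt) (o : Set Cfsg.GolayPt)) = 16 ∧ ∀ g ∈ Cfsg.M24 ⊓ fixingSubgroup (Equiv.Perm Cfsg.GolayPt) (o : Set Cfsg.GolayPt), g * g = 1 := by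
  have hbase : finOf (encode 1183) = finOf baseOctad := by
    congr 1
  obtain ⟨σ, hσ, h1⟩ := octad_orbit o ho
  rw [hbase] at h1
  have hσM := genSub_le hσ
  subst h1
  constructor
  · rw [← card_fixK_oct, ← fixK_oct_eq]
    apply Nat.card_congr
    exact Equiv.subtypeEquiv (MulAut.conj σ⁻¹).toEquiv (fun h => by
      simpa using conj_mem_iff' σ hσM (finOf baseOctad) h)
  · intro g hg
    rw [conj_mem_iff' σ hσM, fixK_oct_eq] at hg
    have := sq_eq_one_of_mem_fixK_oct hg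
    have h2 : σ * (σ⁻¹ * g * σ * (σ⁻¹ * g * σ)) * σ⁻¹ = σ * 1 * σ⁻¹ := by rw [this]
    simpa [mul_assoc] using h2

end Cfsg.Agent.S0381
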