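import Cfsg.Statements.S0531
import Mathlib
import Cfsg.Agent.Lib.Helper9.Supersolvable3
import Cfsg.Agent.Lib.Helper9.Basic

set_option autoImplicit false
open Cfsg

namespace Cfsg.Agent.S0531

open Cfsg.Agent.Lib.Helper9 in
theorem clt_aux : ∀ (n : ℕ) (G : Type*) [Group G] [Finite G],
    Nat.card G = n → Cfsg.IsSupersolvable G → Cfsg.HasSubgroupOfEveryOrder G := by
  intro n
  induction n using Nat.strong_induction_on with
  | _ n ih =>
    intro G _ _ hcard hG d hd
    rcases subsingleton_or_nontrivial G with hsub | hnt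
    · refine ⟨⊥, ?_⟩
      rw [Nat.card_unique] at hd
      rw [Subgroup.card_bot]
      exact (Nat.dvd_one.mp hd).symm
    obtain ⟨A, hAn, hAp⟩ := exists_normal_prime_card_of_isSupersolvable hG
    have hQ : Cfsg.IsSupersolvable (G ⧸ A) := isSupersolvable_quotient A hG
    have hcardQ : Nat.card (G ⧸ A) < n := by
      rw [← hcard]; exact card_quotient_lt A hAp.two_le
    have hmul := card_quotient_mul_card A
    have ihQ := ih _ hcardQ (G ⧸ A) rfl hQ
    by_cases hpd : Nat.card A ∣ d
    · obtain ⟨d', rfl⟩ := hpd
      have hd' : d' ∣ Nat.card (G ⧸ A) := by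
        rw [← hmul, mul_comm (Nat.card (G ⧸ A))] at hd
        exact Nat.dvd_of_mul_dvd_mul_left hAp.pos hd
      obtain ⟨H, hH⟩ := ihQ d' hd'
      refine ⟨H.comap (QuotientGroup.mk' A), ?_⟩
      rw [card_comap_mk', hH, mul_comm]
    · have hcop : Nat.Coprime d (Nat.card A) :=
        (Nat.Coprime.symm ((Nat.Prime.coprime_iff_not_dvd hAp).mpr hpd))
      have hd' : d ∣ Nat.card (G ⧸ A) := by
        rw [← hmul] at hd
        exact hcop.dvd_of_dvd_mul_right hd
      obtain ⟨H, hH⟩ := ihQ d hd'
      set K := H.comap (QuotientGroup.mk' A) with hK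
      have hKcard : Nat.card K = d * Nat.card A := by
        rw [hK, card_comap_mk', hH]
      have hAK : A ≤ K := by
        have h1 : (QuotientGroup.mk' A).ker ≤ K := by
          rw [hK, ← MonoidHom.comap_bot]
          exact Subgroup.comap_mono bot_le
        rwa [QuotientGroup.ker_mk' A] at h1
      have hNn : (A.subgroupOf K).Normal := hAn.subgroupOf K
      have hNcard : Nat.card (A.subgroupOf K) = Nat.card A :=
        Nat.card_congr (Subgroup.subgroupOfEquivOfLe hAK).toEquiv
      have hNidx : (A.subgroupOf K).index = d := by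
        have := Subgroup.index_mul_card (A.subgroupOf K)
        rw [hNcard, hKcard] at this
        exact Nat.eq_of_mul_eq_mul_right hAp.pos this
      have hcop' : Nat.Coprime (Nat.card (A.subgroupOf K)) (A.subgroupOf K).index := by
        rw [hNcard, hNidx]; exact hcop.symm
      obtain ⟨C, hC⟩ := Subgroup.exists_left_complement'_of_coprime hcop'
      refine ⟨C.map K.subtype, ?_⟩
      rw [Subgroup.card_subtype, ← hC.index_eq_card, hNidx]


/-- A finite supersolvable group has a subgroup of each order dividing its order. -/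
theorem result {G : Type*} [Group G] [Finite G] (hG : Cfsg.IsSupersolvable G) : Cfsg.HasSubgroupOfEveryOrder G := by
  exact clt_aux _ G rfl hG

end Cfsg.Agent.S0531
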