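import Cfsg.Statements.S3947
import Cfsg.Agent.Lib.Helper19.Flavell3

set_option autoImplicit false
set_option linter.style.haveILetI false
open Cfsg

namespace Cfsg.Agent.S3947

open scoped Pointwise
open Cfsg.Agent.Lib.Helper19

universe u

/-- Flavell's generalisation of Wielandt's zipper lemma, by induction on the index of `A`. -/
theorem flavell_aux {G : Type u} [Group G] [Finite G] : ∀ (n : ℕ) (A : Subgroup G),
    Nat.card G - Nat.card A = n → Subgroup.normalClosure (A : Set G) = ⊤ → A ≠ ⊤ → Concl A := by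
  intro n
  induction n using Nat.strong_induction_on with
  | _ n ih =>
  intro A hn hncl hAtop
  by_contra hcon
  obtain ⟨hY, hU⟩ := not_or.mp hcon
  have IH : ∀ R : Subgroup G, Nat.card A < Nat.card R → R ≠ ⊤ →
      Subgroup.normalClosure (R : Set G) = ⊤ → Concl R := by
    intro R hR hRtop hRn
    have h1 : Nat.card G - Nat.card R < n := by
      have := Subgroup.card_le_card_group R
      omega
    exact ih _ h1 R rfl hRn hRtop
  have hAmem : A ∈ calH A := mem_calH_iff.mpr ⟨hAtop, gen_self A⟩
  have hAY : A ≤ sSup (calH A) := le_sSup hAmem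
  have hNN : Subgroup.normalizer (A : Set G) ≤
      Subgroup.normalizer ((sSup (calH A) : Subgroup G) : Set G) := by
    intro g hg
    rw [mem_normalizer_iff_cj] at hg ⊢
    apply cj_sSup_le
    intro H hH
    apply le_sSup
    rw [mem_calH_iff] at hH ⊢
    refine ⟨cj_ne_top g hH.1, ?_⟩
    have := hH.2.cj g
    rwa [hg] at this
  have hNY : Subgroup.normalizer ((sSup (calH A) : Subgroup G) : Set G) ≠ ⊤ := by
    intro h
    have hnorm : (sSup (calH A)).Normal := Subgroup.normalizer_eq_top_iff.mp h
    apply hY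
    rw [eq_top_iff, ← hncl]
    exact Subgroup.normalClosure_le_normal (N := sSup (calH A)) hAY
  obtain ⟨M, hM, hNM⟩ := (eq_top_or_exists_le_coatom _).resolve_left hNY
  have hYM : sSup (calH A) ≤ M := Subgroup.le_normalizer.trans hNM
  have hsn : ∀ K : Subgroup G, IsCoatom K → A ≤ K → K ≠ M → SnIn K A := by
    intro K hK hAK hKM
    have hfin : {S : Subgroup G | A ≤ S ∧ SnIn K S}.Finite := Set.toFinite _
    have hKmem : K ∈ {S : Subgroup G | A ≤ S ∧ SnIn K S} := ⟨hAK, SnIn.refl⟩
    obtain ⟨S, -, ⟨hAS, hSK⟩, hmin⟩ := hfin.exists_le_minimal hKmem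
    have hgen : Gen A S := by
      refine ⟨hAS, ?_⟩
      intro N hAN hNS hSN
      exact hmin ⟨hAN, SnIn.step _ _ hNS hSK hSN⟩ hNS
    by_cases hSA : S = A
    · rw [← hSA]; exact hSK
    exfalso
    have hSltop : S ≠ ⊤ := by
      intro h
      apply hK.1
      rw [eq_top_iff, ← h]; exact hSK.le
    have hSmem : S ∈ calH A := mem_calH_iff.mpr ⟨hSltop, hgen⟩
    have hlt : Nat.card A < Nat.card S :=
      card_lt_card_of_lt (lt_of_le_of_ne hAS (fun h => hSA h.symm))
    have hSn : Subgroup.normalClosure (S : Set G) = ⊤ := by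
      rw [eq_top_iff, ← hncl]
      exact Subgroup.normalClosure_mono hAS
    rcases IH S hlt hSltop hSn with h | ⟨M', -, huniq⟩
    · apply hY
      rw [eq_top_iff, ← h]
      apply sSup_le_sSup
      intro H hH
      rw [mem_calH_iff] at hH ⊢
      exact ⟨hH.1, hgen.trans hH.2⟩
    · have h1 := huniq K ⟨hK, hSK.le⟩
      have h2 := huniq M ⟨hM, (le_sSup hSmem).trans hYM⟩
      exact hKM (h1.trans h2.symm)
  have c : Cfg A M := ⟨hM, hAY.trans hYM, hNN.trans hNM, hncl, hsn, IH⟩
  apply hU
  refine ⟨M, ⟨hM, c.le⟩, ?_⟩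
  rintro K ⟨hK, hAK⟩
  exact c.unique hK hAK

/-- Let G be a finite group and A a proper subgroup of G whose normal closure is G. Let Y be the join of all proper subgroups H of G that contain A and are generated by their own conjugates of A (the normal closure of A in H is H). Then either Y = G, or A is contained in exactly one maximal subgroup of G. -/
theorem result {G : Type*} [Group G] [Finite G] (A : Subgroup G) (hA : Subgroup.normalClosure (A : Set G) = ⊤) (hAG : A ≠ ⊤) :
    sSup {H : Subgroup G | A ≤ H ∧ H ≠ ⊤ ∧ Subgroup.normalClosure ((A.subgroupOf H : Subgroup ↥H) : Set ↥H) = ⊤} = ⊤ ∨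
      ∃! M : Subgroup G, IsCoatom M ∧ A ≤ M := by
  exact flavell_aux _ A rfl hA hAG

end Cfsg.Agent.S3947
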