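import Cfsg.Statements.S0081
import Cfsg.Agent.Lib.Helper2.Tate5
import Cfsg.Agent.Lib.Helper47.Frattini

set_option autoImplicit false
open Cfsg

namespace Cfsg.Agent.S0081

open Cfsg.Agent.Lib.Helper2
open scoped commutatorElement

/-- If a normal subgroup meets a Sylow p-subgroup P inside the Frattini subgroup of P, then it has a normal p-complement. -/
theorem result {G : Type*} [Group G] [Finite G] {p : ℕ} [Fact p.Prime] (P : Sylow p G) (N : Subgroup G) [N.Normal] (h : N ⊓ (P : Subgroup G) ≤ (frattini P).map (P : Subgroup G).subtype) : Cfsg.HasNormalPComplement p N := by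
  -- every hom from P to F_p kills P ∩ N
  have hF_G : ∀ μ : (P : Subgroup G) →* Multiplicative (ZMod p), ∀ k : (P : Subgroup G),
      (k : G) ∈ N → μ k = 1 := by
    intro μ k hk
    have h1 : (k : G) ∈ (frattini (P : Subgroup G)).map (P : Subgroup G).subtype :=
      h (Subgroup.mem_inf.mpr ⟨hk, k.2⟩)
    obtain ⟨f, hf, hfk⟩ := h1
    have hfk' : f = k := Subtype.ext hfk
    rw [hfk'] at hf
    have h2 : frattini (P : Subgroup G) ≤ μ.ker := by
      apply Cfsg.Agent.Lib.Helper47.frattini_le_of_elementary_abelian_quotient p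
      · intro x y
        rw [MonoidHom.mem_ker, commutatorElement_def, map_mul, map_mul, map_mul, map_inv, map_inv]
        rw [mul_comm (μ x) (μ y), mul_inv_cancel_right, mul_inv_cancel]
      · intro x
        rw [MonoidHom.mem_ker, map_pow, pow_p_eq_one_Fp]
    exact h2 hf
  set G₁ : Subgroup G := (P : Subgroup G) ⊔ N with hG₁
  have hPG₁ : (P : Subgroup G) ≤ G₁ := le_sup_left
  have hNG₁ : N ≤ G₁ := le_sup_right
  let P₁ : Sylow p G₁ := P.subtype hPG₁
  have hP₁coe : (P₁ : Subgroup G₁) = (P : Subgroup G).subgroupOf G₁ := Sylow.coe_subtype _ _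
  have hsup : (P₁ : Subgroup G₁) ⊔ N.subgroupOf G₁ = ⊤ := by
    rw [hP₁coe, ← Subgroup.subgroupOf_sup hPG₁ hNG₁, ← hG₁, Subgroup.subgroupOf_self]
  have hF₁ : ∀ μ : (P₁ : Subgroup G₁) →* Multiplicative (ZMod p), ∀ k : (P₁ : Subgroup G₁),
      (k : G₁) ∈ N.subgroupOf G₁ → μ k = 1 := by
    intro μ k hk
    have hkP : ((k : G₁) : G) ∈ (P : Subgroup G) :=
      Subgroup.mem_subgroupOf.mp (hP₁coe.le k.2)
    let j : (P : Subgroup G) →* (P₁ : Subgroup G₁) :=
      { toFun := fun g => ⟨⟨(g : G), hPG₁ g.2⟩,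
          hP₁coe.ge (Subgroup.mem_subgroupOf.mpr g.2)⟩
        map_one' := rfl
        map_mul' := fun _ _ => rfl }
    have h1 := hF_G (μ.comp j) ⟨((k : G₁) : G), hkP⟩ (Subgroup.mem_subgroupOf.mp hk)
    have h2 : j ⟨((k : G₁) : G), hkP⟩ = k := by
      apply Subtype.ext
      apply Subtype.ext
      rfl
    rw [MonoidHom.comp_apply, h2] at h1
    exact h1
  have h3 : ¬ p ∣ Nat.card (Cfsg.pResidual p G₁) :=
    not_dvd_card_pResidual_of_hom_kill P₁ (N.subgroupOf G₁) hsup hF₁
  have h4 : ¬ p ∣ Nat.card (Cfsg.pResidual p N) := by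
    intro hdvd
    apply h3
    have e1 : Nat.card (Cfsg.pResidual p N) = Nat.card (opIn p N) := by
      rw [← map_pResidual_subtype]
      exact (Subgroup.card_map_of_injective N.subtype_injective).symm
    have e2 : Nat.card (Cfsg.pResidual p G₁) = Nat.card (opIn p G₁) := by
      rw [← map_pResidual_subtype]
      exact (Subgroup.card_map_of_injective G₁.subtype_injective).symm
    rw [e2]
    rw [e1] at hdvd
    exact hdvd.trans (Subgroup.card_dvd_of_le (opIn_mono hNG₁))
  obtain ⟨Q⟩ : Nonempty (Sylow p N) := inferInstance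
  obtain ⟨K, hKn, hKc⟩ := (exists_normal_complement_iff_not_dvd_card_pResidual Q).mpr h4
  exact ⟨Q, K, hKn, hKc⟩

end Cfsg.Agent.S0081
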