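import Cfsg.Statements.S4387

set_option autoImplicit false
open Cfsg
open Pointwise

namespace Cfsg.Agent.S4387

/-- In a finite group, the conjugates of a proper subgroup do not cover the group. -/
theorem exists_notMem_conj {G : Type*} [Group G] [Finite G] (M : Subgroup G) (hM : M ≠ ⊤) :
    ∃ g : G, ∀ x : G, g ∉ MulAut.conj x • M := by
  classical
  by_contra hcon
  push Not at hcon
  have := Fintype.ofFinite G
  have : Fintype (G ⧸ M) := Fintype.ofFinite _
  have : Fintype (MulAction.orbitRel.Quotient G (G ⧸ M)) := Fintype.ofFinite _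
  have hB := MulAction.sum_card_fixedBy_eq_card_orbits_mul_card_group G (G ⧸ M)
  have hΩ : Fintype.card (MulAction.orbitRel.Quotient G (G ⧸ M)) = 1 := by
    rw [Fintype.card_eq_one_iff]
    refine ⟨Quotient.mk'' ((1 : G) : G ⧸ M), fun y => ?_⟩
    induction y using Quotient.inductionOn' with
    | h y =>
      apply Quotient.sound'
      exact MulAction.exists_smul_eq G _ _
  rw [hΩ, one_mul] at hB
  have hfix : ∀ g : G, 1 ≤ Fintype.card (MulAction.fixedBy (G ⧸ M) g) := by
    intro g
    obtain ⟨x, hx⟩ := hcon g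
    rw [Subgroup.mem_pointwise_smul_iff_inv_smul_mem] at hx
    have hx' : x⁻¹ * g * x ∈ M := by simpa [MulAut.smul_def] using hx
    apply Fintype.card_pos_iff.2
    refine ⟨⟨(x : G ⧸ M), ?_⟩⟩
    rw [MulAction.mem_fixedBy]
    change ((g * x : G) : G ⧸ M) = (x : G ⧸ M)
    rw [QuotientGroup.eq]
    have : (g * x)⁻¹ * x = (x⁻¹ * g * x)⁻¹ := by group
    rw [this]
    exact M.inv_mem hx'
  have hone : 2 ≤ Fintype.card (MulAction.fixedBy (G ⧸ M) (1 : G)) := by
    have h2 : 2 ≤ M.index := by
      have h0 : M.index ≠ 0 := Subgroup.index_ne_zero_of_finite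
      have h1 : M.index ≠ 1 := fun h => hM (Subgroup.index_eq_one.1 h)
      omega
    have : Fintype.card (MulAction.fixedBy (G ⧸ M) (1 : G)) = M.index := by
      rw [Subgroup.index, Nat.card_eq_fintype_card]
      apply Fintype.card_congr
      exact (Equiv.subtypeUnivEquiv (fun y => by simp))
    omega
  have hsum : Fintype.card G + 1 ≤ ∑ g : G, Fintype.card (MulAction.fixedBy (G ⧸ M) g) := by
    have h1 : ∑ g : G, Fintype.card (MulAction.fixedBy (G ⧸ M) g)
        = Fintype.card (MulAction.fixedBy (G ⧸ M) (1 : G))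
          + ∑ g ∈ (Finset.univ.erase (1 : G)), Fintype.card (MulAction.fixedBy (G ⧸ M) g) := by
      exact (Finset.add_sum_erase _ (fun g => Fintype.card (MulAction.fixedBy (G ⧸ M) g)) (Finset.mem_univ _)).symm
    have h2 : (Finset.univ.erase (1 : G)).card ≤
        ∑ g ∈ (Finset.univ.erase (1 : G)), Fintype.card (MulAction.fixedBy (G ⧸ M) g) := by
      rw [Finset.card_eq_sum_ones]
      exact Finset.sum_le_sum (fun g _ => hfix g)
    rw [Finset.card_erase_of_mem (Finset.mem_univ _), Finset.card_univ] at h2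
    have h3 : 1 ≤ Fintype.card G := Fintype.card_pos
    omega
  omega

theorem isCoatom_of_index_prime {G : Type*} [Group G] [Finite G] (A : Subgroup G) {p : ℕ}
    (hp : p.Prime) (hA : A.index = p) : IsCoatom A := by
  refine ⟨fun h => ?_, fun K hK => ?_⟩
  · rw [h, Subgroup.index_top] at hA
    exact hp.one_lt.ne hA
  · have h := Subgroup.relIndex_mul_index hK.le
    rw [hA] at h
    rcases (Nat.dvd_prime hp).1 (Dvd.intro_left _ h) with h1 | h1
    · exact Subgroup.index_eq_one.1 h1
    · rw [h1] at h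
      have h2 : A.relIndex K = 1 := by
        have := hp.pos
        exact Nat.eq_of_mul_eq_mul_right this (by rw [h, one_mul])
      exact absurd (Subgroup.relIndex_eq_one.1 h2) (not_le_of_gt hK)

/-- Let G be a non-trivial finite group in which any two maximal subgroups are conjugate. Then G is cyclic of prime-power order. -/
theorem result {G : Type*} [Group G] [Finite G] [Nontrivial G]
    (h : ∀ M N : Subgroup G, IsCoatom M → IsCoatom N → ∃ g : G, N = MulAut.conj g • M) :
    IsCyclic G ∧ IsPrimePow (Nat.card G) := by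
  obtain ⟨M, hM, -⟩ : ∃ M : Subgroup G, IsCoatom M ∧ ⊥ ≤ M := by
    rcases eq_top_or_exists_le_coatom (⊥ : Subgroup G) with h0 | h0
    · exact absurd h0 bot_ne_top
    · exact h0
  obtain ⟨g, hg⟩ := exists_notMem_conj M hM.1
  have hgtop : Subgroup.zpowers g = ⊤ := by
    rcases eq_top_or_exists_le_coatom (Subgroup.zpowers g) with h0 | ⟨N, hN, hgN⟩
    · exact h0
    · obtain ⟨x, hx⟩ := h M N hM hN
      exact absurd (hx ▸ hgN (Subgroup.mem_zpowers g)) (hg x)
  have hcyc : IsCyclic G := isCyclic_iff_exists_zpowers_eq_top.2 ⟨g, hgtop⟩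
  refine ⟨hcyc, ?_⟩
  have hcomm : ∀ a b : G, a * b = b * a := by
    intro a b
    have ha : a ∈ Subgroup.zpowers g := hgtop ▸ Subgroup.mem_top a
    have hb : b ∈ Subgroup.zpowers g := hgtop ▸ Subgroup.mem_top b
    obtain ⟨i, rfl⟩ := ha
    obtain ⟨j, rfl⟩ := hb
    exact (Commute.zpow_zpow_self g i j).eq
  have hord : orderOf g = Nat.card G := by
    rw [← Nat.card_zpowers, hgtop, Subgroup.card_top]
  have hn1 : Nat.card G ≠ 1 := by
    have : 1 < Nat.card G := Finite.one_lt_card
    omega
  rw [isPrimePow_iff_unique_prime_dvd]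
  obtain ⟨p, hp, hpn⟩ := Nat.exists_prime_and_dvd hn1
  refine ⟨p, ⟨hp, hpn⟩, ?_⟩
  rintro q ⟨hq, hqn⟩
  -- the subgroup of index r for a prime r dividing the order
  have hidx : ∀ r : ℕ, r.Prime → r ∣ Nat.card G → (Subgroup.zpowers (g ^ r)).index = r := by
    intro r hr hrn
    have hcard : Nat.card (Subgroup.zpowers (g ^ r)) = Nat.card G / r := by
      rw [Nat.card_zpowers, orderOf_pow, hord, Nat.gcd_eq_right hrn]
    have h1 := (Subgroup.zpowers (g ^ r)).card_mul_index
    rw [hcard] at h1
    obtain ⟨k, hk⟩ := hrn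
    have hk0 : 0 < k := by
      rcases Nat.eq_zero_or_pos k with h0 | h0
      · rw [h0, mul_zero] at hk
        exact absurd hk Nat.card_pos.ne'
      · exact h0
    rw [hk, Nat.mul_div_cancel_left _ hr.pos] at h1
    have : k * (Subgroup.zpowers (g ^ r)).index = k * r := by rw [h1, mul_comm]
    exact Nat.eq_of_mul_eq_mul_left hk0 this
  have hcp := isCoatom_of_index_prime _ hp (hidx p hp hpn)
  have hcq := isCoatom_of_index_prime _ hq (hidx q hq hqn)
  obtain ⟨x, hx⟩ := h _ _ hcp hcq
  have hconj : MulAut.conj x • Subgroup.zpowers (g ^ p) = Subgroup.zpowers (g ^ p) := by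
    ext y
    rw [Subgroup.mem_pointwise_smul_iff_inv_smul_mem]
    have : (MulAut.conj x)⁻¹ • y = y := by
      simp [MulAut.smul_def, hcomm x⁻¹ y]
    rw [this]
  rw [hconj] at hx
  have := hidx q hq hqn
  rw [hx, hidx p hp hpn] at this
  exact this.symm

end Cfsg.Agent.S4387
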