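import Cfsg.Statements.S4400
import Cfsg.Agent.Lib.Helper32.PGroupCenter
import Cfsg.Agent.Lib.Helper10.Card
import Cfsg.Agent.Lib.Helper2.PGroup

set_option autoImplicit false
open Cfsg

namespace Cfsg.Agent.S4400

open Cfsg.Agent.Lib.Helper32 Cfsg.Agent.Lib.Helper10 Cfsg.Agent.Lib.Helper2
open scoped commutatorElement

theorem eq_one_or_eq_of_card_two {G : Type*} [Group G] (N : Subgroup G) (hN : Nat.card N = 2)
    (x : G) (hx : x ∈ N) (hx1 : x ≠ 1) (n : G) (hn : n ∈ N) : n = 1 ∨ n = x := by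
  rw [Nat.card_eq_two_iff' (1 : N)] at hN
  obtain ⟨y, hy, hyu⟩ := hN
  by_cases h : n = 1
  · exact Or.inl h
  · right
    have h1 : (⟨n, hn⟩ : N) = y := hyu _ (fun h' => h (congrArg Subtype.val h'))
    have h2 : (⟨x, hx⟩ : N) = y := hyu _ (fun h' => hx1 (congrArg Subtype.val h'))
    have := h1.trans h2.symm
    exact congrArg Subtype.val this

theorem le_center_of_normal_of_card_two {G : Type*} [Group G] (N : Subgroup G) [hNn : N.Normal]
    (hN : Nat.card N = 2) : N ≤ Subgroup.center G := by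
  intro n hn
  rw [Subgroup.mem_center_iff]
  intro g
  by_cases h1 : n = 1
  · rw [h1]; simp
  · have hc : g * n * g⁻¹ ∈ N := hNn.conj_mem n hn g
    rcases eq_one_or_eq_of_card_two N hN n hn h1 _ hc with h | h
    · exfalso; apply h1
      have : n = g⁻¹ * (g * n * g⁻¹) * g := by group
      rw [this, h]; group
    · calc g * n = (g * n * g⁻¹) * g := by group
        _ = n * g := by rw [h]

/-- the image in `S` of the centre of a subgroup -/
abbrev zOf {S : Type*} [Group S] (P : Subgroup S) : Subgroup S :=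
  (Subgroup.center ↥P).map P.subtype

/-- the image in `S` of the Frattini subgroup of a subgroup -/
abbrev phiOf {S : Type*} [Group S] (P : Subgroup S) : Subgroup S :=
  (frattini ↥P).map P.subtype

theorem mem_zOf_iff {S : Type*} [Group S] (P : Subgroup S) (x : S) :
    x ∈ zOf P ↔ x ∈ P ∧ ∀ y ∈ P, y * x = x * y := by
  constructor
  · rintro ⟨u, hu, rfl⟩
    refine ⟨u.2, fun y hy => ?_⟩
    have := Subgroup.mem_center_iff.1 hu ⟨y, hy⟩
    exact congrArg Subtype.val this
  · rintro ⟨hx, h⟩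
    refine ⟨⟨x, hx⟩, ?_, rfl⟩
    apply Subgroup.mem_center_iff.2
    intro g
    exact Subtype.ext (h g g.2)

theorem zOf_le {S : Type*} [Group S] (P : Subgroup S) : zOf P ≤ P := by
  intro x hx
  exact ((mem_zOf_iff P x).1 hx).1

theorem phiOf_le {S : Type*} [Group S] (P : Subgroup S) : phiOf P ≤ P := by
  rintro x ⟨u, _, rfl⟩
  exact u.2

theorem card_zOf {S : Type*} [Group S] (P : Subgroup S) :
    Nat.card (zOf P) = Nat.card (Subgroup.center ↥P) :=
  Subgroup.card_map_of_injective P.subtype_injective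

theorem card_phiOf {S : Type*} [Group S] (P : Subgroup S) :
    Nat.card (phiOf P) = Nat.card (frattini ↥P) :=
  Subgroup.card_map_of_injective P.subtype_injective

instance zOf_normal {S : Type*} [Group S] (P : Subgroup S) [P.Normal] : (zOf P).Normal :=
  ConjAct.normal_of_characteristic_of_normal

instance phiOf_normal {S : Type*} [Group S] (P : Subgroup S) [P.Normal] : (phiOf P).Normal :=
  ConjAct.normal_of_characteristic_of_normal


/-- elementary abelian 2-subgroup predicate (as a plain Prop) -/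
def Elem2 {G : Type*} [Group G] (A : Subgroup G) : Prop :=
  (∀ a ∈ A, ∀ b ∈ A, a * b = b * a) ∧ ∀ a ∈ A, a * a = 1

theorem Elem2.sup {G : Type*} [Group G] {A B : Subgroup G} (hA : Elem2 A) (hB : Elem2 B)
    (hAB : ∀ a ∈ A, ∀ b ∈ B, a * b = b * a) : Elem2 (A ⊔ B) := by
  have hcl : A ⊔ B = Subgroup.closure ((A : Set G) ∪ B) := by
    rw [Subgroup.closure_union, Subgroup.closure_eq, Subgroup.closure_eq]
  have hcomm : ∀ x ∈ ((A : Set G) ∪ B), ∀ y ∈ ((A : Set G) ∪ B), x * y = y * x := by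
    rintro x (hx | hx) y (hy | hy)
    · exact hA.1 x hx y hy
    · exact hAB x hx y hy
    · exact (hAB y hy x hx).symm
    · exact hB.1 x hx y hy
  have hc := Subgroup.isMulCommutative_closure hcomm
  rw [← hcl] at hc
  have hcomm' : ∀ a ∈ A ⊔ B, ∀ b ∈ A ⊔ B, a * b = b * a := by
    intro a ha b hb
    have := (isMulCommutative_iff.1 hc) ⟨a, ha⟩ ⟨b, hb⟩
    exact congrArg Subtype.val this
  refine ⟨hcomm', ?_⟩
  intro a ha
  rw [hcl] at ha
  induction ha using Subgroup.closure_induction with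
  | mem x hx =>
    rcases hx with hx | hx
    · exact hA.2 x hx
    · exact hB.2 x hx
  | one => simp
  | mul x y hx hy ihx ihy =>
    rw [← hcl] at hx hy
    calc x * y * (x * y) = x * (y * x) * y := by group
      _ = x * (x * y) * y := by rw [hcomm' y hy x hx]
      _ = (x * x) * (y * y) := by group
      _ = 1 := by rw [ihx, ihy, one_mul]
  | inv x hx ih =>
    calc x⁻¹ * x⁻¹ = (x * x)⁻¹ := by group
      _ = 1 := by rw [ih, inv_one]

theorem Elem2.zpowers {G : Type*} [Group G] (y : G) (hy : y * y = 1) : Elem2 (Subgroup.zpowers y) := by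
  constructor
  · rintro _ ⟨i, rfl⟩ _ ⟨j, rfl⟩
    exact (Commute.zpow_zpow_self y i j).eq
  · rintro _ ⟨i, rfl⟩
    simp only []
    rw [← (Commute.refl y).mul_zpow, hy, one_zpow]

theorem comm_mem_phiOf {S : Type*} [Group S] [Finite S] (P : Subgroup S) (hPp : IsPGroup 2 ↥P)
    (u v : S) (hu : u ∈ P) (hv : v ∈ P) : (u * v)⁻¹ * (v * u) ∈ phiOf P := by
  have : Fact (Nat.Prime 2) := ⟨Nat.prime_two⟩
  refine ⟨⁅(⟨v, hv⟩ : ↥P)⁻¹, (⟨u, hu⟩ : ↥P)⁻¹⁆, commutator_le_frattini hPp ?_, ?_⟩
  · exact Subgroup.commutator_mem_commutator (Subgroup.mem_top _) (Subgroup.mem_top _)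
  · simp only [commutatorElement_def, Subgroup.subtype_apply, Subgroup.coe_mul, Subgroup.coe_inv]
    group

theorem sq_mem_phiOf {S : Type*} [Group S] [Finite S] (P : Subgroup S) (hPp : IsPGroup 2 ↥P)
    (u : S) (hu : u ∈ P) : u * u ∈ phiOf P := by
  have : Fact (Nat.Prime 2) := ⟨Nat.prime_two⟩
  refine ⟨(⟨u, hu⟩ : ↥P) ^ 2, pow_mem_frattini hPp _, ?_⟩
  simp [pow_two]

theorem zOf_le_phiOf {S : Type*} [Group S] [Finite S] (h2 : IsPGroup 2 S) (P : Subgroup S)
    (hP : ¬ IsMulCommutative ↥P) (hZP : Nat.card ↥(Subgroup.center ↥P) = 2) : zOf P ≤ phiOf P := by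
  have : Fact (Nat.Prime 2) := ⟨Nat.prime_two⟩
  have hPp : IsPGroup 2 ↥P := h2.to_subgroup P
  have hc : commutator ↥P ≠ ⊥ := by
    intro h
    apply hP
    refine ⟨⟨fun a b => ?_⟩⟩
    have : ⁅a, b⁆ ∈ commutator ↥P :=
      Subgroup.commutator_mem_commutator (Subgroup.mem_top _) (Subgroup.mem_top _)
    rw [h, Subgroup.mem_bot] at this
    exact commutatorElement_eq_one_iff_mul_comm.1 this
  obtain ⟨x, hxN, hxc, hx1⟩ := exists_ne_one_mem_normal_inf_center hPp (commutator ↥P) hc
  have hxΦ : x ∈ frattini ↥P := commutator_le_frattini hPp hxN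
  apply Subgroup.map_mono
  intro n hn
  rcases eq_one_or_eq_of_card_two (Subgroup.center ↥P) hZP x hxc hx1 n hn with h | h
  · rw [h]; exact Subgroup.one_mem _
  · rw [h]; exact hxΦ

theorem four_le_index_frattini {P : Type*} [Group P] [Finite P] (hPp : IsPGroup 2 P)
    (hP : ¬ IsMulCommutative P) : 4 ≤ (frattini P).index := by
  have : Fact (Nat.Prime 2) := ⟨Nat.prime_two⟩
  have hnt : Nontrivial P := by
    by_contra h
    rw [not_nontrivial_iff_subsingleton] at h
    exact hP ⟨⟨fun a b => Subsingleton.elim _ _⟩⟩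
  obtain ⟨M, hM, -⟩ : ∃ M : Subgroup P, IsCoatom M ∧ ⊥ ≤ M := by
    rcases eq_top_or_exists_le_coatom (⊥ : Subgroup P) with h0 | h0
    · exact absurd h0 bot_ne_top
    · exact h0
  have hMn := coatom_normal hPp M hM
  have hMi : M.index = 2 := coatom_card_quotient hPp M hM
  have hle : frattini P ≤ M := frattini_le_coatom hM
  have hne : frattini P ≠ M := by
    intro heq
    obtain ⟨g, hg⟩ : ∃ g, g ∉ M := by
      by_contra h
      push Not at h
      exact hM.1 (eq_top_iff.2 fun x _ => h x)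
    have hz : Subgroup.zpowers g = ⊤ := by
      rcases eq_top_or_exists_le_coatom (Subgroup.zpowers g) with h0 | ⟨M', hM', hgM'⟩
      · exact h0
      · have h1 : M ≤ M' := heq ▸ frattini_le_coatom hM'
        have h2 : M = M' := (eq_or_lt_of_le h1).resolve_right (fun hlt => hM'.1 (hM.2 _ hlt))
        exact absurd (h2 ▸ hgM' (Subgroup.mem_zpowers g)) hg
    apply hP
    have : IsCyclic P := isCyclic_iff_exists_zpowers_eq_top.2 ⟨g, hz⟩
    exact IsCyclic.isMulCommutative
  have h1 := Subgroup.relIndex_mul_index hle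
  have h2 : (frattini P).relIndex M ≠ 1 :=
    fun h => hne (le_antisymm hle (Subgroup.relIndex_eq_one.1 h))
  have h3 : 0 < (frattini P).relIndex M :=
    Nat.pos_of_dvd_of_pos (Subgroup.relIndex_dvd_card _ _) Nat.card_pos
  rw [hMi] at h1
  omega


/-- Let S be a finite 2-group of sectional 2-rank at most 4, and let P and Q be normal non-abelian subgroups of S whose centres have order 2 and are different. Then P and Q commute elementwise and intersect trivially, and PQ contains its own centralizer in S. -/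
theorem result {S : Type*} [Group S] [Finite S] (h2 : IsPGroup 2 S) (hr : Cfsg.SectionalPRankLE 2 4 S)
    (P Q : Subgroup S) [P.Normal] [Q.Normal] (hP : ¬ IsMulCommutative ↥P) (hQ : ¬ IsMulCommutative ↥Q)
    (hZP : Nat.card ↥(Subgroup.center ↥P) = 2) (hZQ : Nat.card ↥(Subgroup.center ↥Q) = 2)
    (hne : (Subgroup.center ↥P).map P.subtype ≠ (Subgroup.center ↥Q).map Q.subtype) :
    ⁅P, Q⁆ = ⊥ ∧ P ⊓ Q = ⊥ ∧ Subgroup.centralizer ((P ⊔ Q : Subgroup S) : Set S) ≤ P ⊔ Q := by
  have : Fact (Nat.Prime 2) := ⟨Nat.prime_two⟩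
  have hPp : IsPGroup 2 ↥P := h2.to_subgroup P
  have hQp : IsPGroup 2 ↥Q := h2.to_subgroup Q
  have hzP : Nat.card (zOf P) = 2 := (card_zOf P).trans hZP
  have hzQ : Nat.card (zOf Q) = 2 := (card_zOf Q).trans hZQ
  have hzPc : zOf P ≤ Subgroup.center S := le_center_of_normal_of_card_two _ hzP
  have hzQc : zOf Q ≤ Subgroup.center S := le_center_of_normal_of_card_two _ hzQ
  -- P ⊓ Q = ⊥
  have hPQ : P ⊓ Q = ⊥ := by
    by_contra hcon
    have hN : (P ⊓ Q).subgroupOf P ≠ ⊥ := by
      intro h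
      rw [Subgroup.subgroupOf_eq_bot] at h
      apply hcon
      have h1 : (P ⊓ Q) ⊓ P = P ⊓ Q := inf_eq_left.2 inf_le_left
      rw [← h1]
      exact h.eq_bot
    obtain ⟨x, hxN, hxc, hx1⟩ :=
      exists_ne_one_mem_normal_inf_center hPp ((P ⊓ Q).subgroupOf P) hN
    have hxS : (x : S) ∈ P ⊓ Q := Subgroup.mem_subgroupOf.1 hxN
    have hxzP : (x : S) ∈ zOf P := ⟨x, hxc, rfl⟩
    have hx1' : (x : S) ≠ 1 := fun h => hx1 (Subtype.ext h)
    have hxzQ : (x : S) ∈ zOf Q := by
      rw [mem_zOf_iff]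
      exact ⟨hxS.2, fun y _ => Subgroup.mem_center_iff.1 (hzPc hxzP) y⟩
    apply hne
    apply le_antisymm
    · intro n hn
      rcases eq_one_or_eq_of_card_two (zOf P) hzP _ hxzP hx1' n hn with h | h
      · rw [h]; exact Subgroup.one_mem _
      · rw [h]; exact hxzQ
    · intro n hn
      rcases eq_one_or_eq_of_card_two (zOf Q) hzQ _ hxzQ hx1' n hn with h | h
      · rw [h]; exact Subgroup.one_mem _
      · rw [h]; exact hxzP
  have hcomm : ⁅P, Q⁆ = ⊥ := by
    rw [eq_bot_iff, ← hPQ]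
    exact Subgroup.commutator_le_inf P Q
  refine ⟨hcomm, hPQ, ?_⟩
  have hPcQ : P ≤ Subgroup.centralizer (Q : Set S) :=
    Subgroup.commutator_eq_bot_iff_le_centralizer.1 hcomm
  have hpq : ∀ a ∈ P, ∀ b ∈ Q, a * b = b * a := by
    intro a ha b hb
    exact (Subgroup.mem_centralizer_iff.1 (hPcQ ha) b hb).symm
  by_contra hC
  obtain ⟨x₀, hx₀C, hx₀D⟩ := SetLike.not_le_iff_exists.1 hC
  -- choose x in the centralizer, outside D, with square in D
  obtain ⟨x, hxC, hxD, hxx⟩ : ∃ x : S, x ∈ Subgroup.centralizer ((P ⊔ Q : Subgroup S) : Set S) ∧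
      x ∉ P ⊔ Q ∧ x * x ∈ P ⊔ Q := by
    classical
    obtain ⟨n, hn⟩ := h2 x₀
    have hex : ∃ k, x₀ ^ 2 ^ k ∈ P ⊔ Q := ⟨n, by rw [hn]; exact Subgroup.one_mem _⟩
    obtain ⟨k, hk, hmin⟩ : ∃ k, x₀ ^ 2 ^ k ∈ P ⊔ Q ∧ ∀ j < k, x₀ ^ 2 ^ j ∉ P ⊔ Q :=
      ⟨Nat.find hex, Nat.find_spec hex, fun j hj => Nat.find_min hex hj⟩
    have hk0 : k ≠ 0 := by
      rintro rfl
      apply hx₀D
      simpa using hk
    obtain ⟨j, rfl⟩ := Nat.exists_eq_succ_of_ne_zero hk0
    refine ⟨x₀ ^ 2 ^ j, Subgroup.pow_mem _ hx₀C _, hmin j (Nat.lt_succ_self j), ?_⟩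
    have : x₀ ^ 2 ^ j * x₀ ^ 2 ^ j = x₀ ^ 2 ^ (j + 1) := by
      rw [← pow_add, pow_succ, mul_two]
    rw [this]; exact hk
  have hxcent : ∀ d ∈ P ⊔ Q, d * x = x * d := fun d hd => Subgroup.mem_centralizer_iff.1 hxC d hd
  have hPD : P ≤ P ⊔ Q := le_sup_left
  have hQD : Q ≤ P ⊔ Q := le_sup_right
  -- x * x lies in K
  have hxxK : x * x ∈ phiOf P ⊔ phiOf Q := by
    have hmem : x * x ∈ ((P ⊔ Q : Subgroup S) : Set S) := hxx
    rw [Subgroup.mul_normal P Q] at hmem
    obtain ⟨a, ha, b, hb, hab0⟩ := hmem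
    have hab : a * b = x * x := hab0
    have ha' : a ∈ P := ha
    have hb' : b ∈ Q := hb
    have hcen : ∀ d ∈ P ⊔ Q, d * (a * b) = (a * b) * d := by
      intro d hd
      have h1 : d * (a * b) = d * (x * x) := by rw [← hab]
      rw [h1, ← mul_assoc, hxcent d hd, mul_assoc, hxcent d hd, ← mul_assoc, hab]
    have haz : a ∈ zOf P := by
      rw [mem_zOf_iff]
      refine ⟨ha', fun y hy => ?_⟩
      have h1 := hcen y (hPD hy)
      have h2 : y * b = b * y := hpq y hy b hb'
      have h3 : y * a * b = a * y * b := by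
        calc y * a * b = y * (a * b) := by group
          _ = a * b * y := h1
          _ = a * (b * y) := by group
          _ = a * (y * b) := by rw [h2]
          _ = a * y * b := by group
      exact mul_right_cancel h3
    have hbz : b ∈ zOf Q := by
      rw [mem_zOf_iff]
      refine ⟨hb', fun y hy => ?_⟩
      have h1 := hcen y (hQD hy)
      have h2 : a * y = y * a := hpq a ha' y hy
      have h3 : a * (y * b) = a * (b * y) := by
        calc a * (y * b) = (a * y) * b := by group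
          _ = (y * a) * b := by rw [h2]
          _ = y * (a * b) := by group
          _ = a * b * y := h1
          _ = a * (b * y) := by group
      exact mul_left_cancel h3
    rw [← hab]
    exact Subgroup.mul_mem _ ((le_sup_left : phiOf P ≤ _) (zOf_le_phiOf h2 P hP hZP haz))
      ((le_sup_right : phiOf Q ≤ _) (zOf_le_phiOf h2 Q hQ hZQ hbz))
  -- the section
  obtain ⟨K, hK⟩ : ∃ K : Subgroup S, K = phiOf P ⊔ phiOf Q := ⟨_, rfl⟩
  have hKn : K.Normal := by rw [hK]; infer_instance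
  obtain ⟨H, hH⟩ : ∃ H : Subgroup S, H = (P ⊔ Q) ⊔ Subgroup.zpowers x := ⟨_, rfl⟩
  have hDH : P ⊔ Q ≤ H := by rw [hH]; exact le_sup_left
  have hxH : x ∈ H := by rw [hH]; exact (le_sup_right : Subgroup.zpowers x ≤ _) (Subgroup.mem_zpowers x)
  have hKD : K ≤ P ⊔ Q := by
    rw [hK]; exact sup_le_sup (phiOf_le P) (phiOf_le Q)
  have hKH : K ≤ H := hKD.trans hDH
  -- elementary abelian image in S ⧸ K
  have hE : Elem2 (H.map (QuotientGroup.mk' K)) := by
    rw [hH, Subgroup.map_sup, Subgroup.map_sup, MonoidHom.map_zpowers]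
    have e1 : Elem2 (P.map (QuotientGroup.mk' K)) := by
      constructor
      · rintro _ ⟨u, hu, rfl⟩ _ ⟨v, hv, rfl⟩
        rw [← map_mul, ← map_mul]
        apply (QuotientGroup.eq).2
        rw [hK]
        exact (le_sup_left : phiOf P ≤ _) (comm_mem_phiOf P hPp u v hu hv)
      · rintro _ ⟨u, hu, rfl⟩
        rw [← map_mul]
        apply (QuotientGroup.eq_one_iff _).2
        rw [hK]
        exact (le_sup_left : phiOf P ≤ _) (sq_mem_phiOf P hPp u hu)
    have e2 : Elem2 (Q.map (QuotientGroup.mk' K)) := by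
      constructor
      · rintro _ ⟨u, hu, rfl⟩ _ ⟨v, hv, rfl⟩
        rw [← map_mul, ← map_mul]
        apply (QuotientGroup.eq).2
        rw [hK]
        exact (le_sup_right : phiOf Q ≤ _) (comm_mem_phiOf Q hQp u v hu hv)
      · rintro _ ⟨u, hu, rfl⟩
        rw [← map_mul]
        apply (QuotientGroup.eq_one_iff _).2
        rw [hK]
        exact (le_sup_right : phiOf Q ≤ _) (sq_mem_phiOf Q hQp u hu)
    have e3 : Elem2 (Subgroup.zpowers (QuotientGroup.mk' K x)) := by
      apply Elem2.zpowers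
      rw [← map_mul]
      apply (QuotientGroup.eq_one_iff _).2
      rw [hK]; exact hxxK
    have e12 : Elem2 (P.map (QuotientGroup.mk' K) ⊔ Q.map (QuotientGroup.mk' K)) := by
      apply Elem2.sup e1 e2
      rintro _ ⟨u, hu, rfl⟩ _ ⟨v, hv, rfl⟩
      rw [← map_mul, ← map_mul, hpq u hu v hv]
    apply Elem2.sup e12 e3
    intro a ha b hb
    rw [← Subgroup.map_sup] at ha
    obtain ⟨d, hd, rfl⟩ := ha
    obtain ⟨i, rfl⟩ := hb
    have : Commute (QuotientGroup.mk' K d) (QuotientGroup.mk' K x) := by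
      show _ * _ = _ * _
      rw [← map_mul, ← map_mul, hxcent d hd]
    exact (this.zpow_right i).eq
  -- the quotient H ⧸ N is elementary abelian
  have hN : (K.subgroupOf H).Normal := inferInstance
  have hmemE : ∀ u : ↥H, QuotientGroup.mk' K (u : S) ∈ H.map (QuotientGroup.mk' K) :=
    fun u => ⟨u, u.2, rfl⟩
  have hqcomm : ∀ a b : ↥H ⧸ K.subgroupOf H, a * b = b * a := by
    intro a b
    induction a using QuotientGroup.induction_on with
    | H u =>
    induction b using QuotientGroup.induction_on with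
    | H v =>
    rw [← QuotientGroup.mk_mul, ← QuotientGroup.mk_mul]
    apply (QuotientGroup.eq).2
    rw [Subgroup.mem_subgroupOf]
    have h1 := hE.1 _ (hmemE u) _ (hmemE v)
    rw [← map_mul, ← map_mul] at h1
    have h2 := (QuotientGroup.eq).1 h1
    simpa using h2
  have hqsq : ∀ a : ↥H ⧸ K.subgroupOf H, a ^ 2 = 1 := by
    intro a
    induction a using QuotientGroup.induction_on with
    | H u =>
    rw [← QuotientGroup.mk_pow]
    apply (QuotientGroup.eq_one_iff _).2
    rw [Subgroup.mem_subgroupOf]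
    have h1 := hE.2 _ (hmemE u)
    rw [← map_mul] at h1
    have h2 := (QuotientGroup.eq_one_iff _).1 h1
    simpa [pow_two] using h2
  have hsec := hr H (K.subgroupOf H) ⊤ ⟨⟨fun a b => Subtype.ext (hqcomm a.1 b.1)⟩⟩
    (fun a _ => hqsq a)
  rw [Subgroup.card_top] at hsec
  -- cardinalities
  have c1 : Nat.card ↥(P ⊔ Q) = Nat.card P * Nat.card Q := by
    have h := card_sup_mul_card_inf (H := P) (K := Q)
      (fun _ _ => by rw [Subgroup.normalizer_eq_top]; exact Subgroup.mem_top _)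
    rw [hPQ, Subgroup.card_bot, mul_one] at h
    exact h
  have c2 : Nat.card K = Nat.card (phiOf P) * Nat.card (phiOf Q) := by
    have h := card_sup_mul_card_inf (H := phiOf P) (K := phiOf Q)
      (fun _ _ => by rw [Subgroup.normalizer_eq_top]; exact Subgroup.mem_top _)
    have hb : phiOf P ⊓ phiOf Q = ⊥ := by
      rw [eq_bot_iff, ← hPQ]
      exact inf_le_inf (phiOf_le P) (phiOf_le Q)
    rw [hb, Subgroup.card_bot, mul_one, ← hK] at h
    exact h
  have c3P : Nat.card (phiOf P) * (frattini ↥P).index = Nat.card P := by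
    rw [card_phiOf]; exact Subgroup.card_mul_index _
  have c3Q : Nat.card (phiOf Q) * (frattini ↥Q).index = Nat.card Q := by
    rw [card_phiOf]; exact Subgroup.card_mul_index _
  have c4P := four_le_index_frattini hPp hP
  have c4Q := four_le_index_frattini hQp hQ
  have c5 : Nat.card ↥(P ⊔ Q) * (P ⊔ Q).relIndex H = Nat.card H := by
    have := Subgroup.relIndex_mul_relIndex ⊥ (P ⊔ Q) H bot_le hDH
    rwa [Subgroup.relIndex_bot_left, Subgroup.relIndex_bot_left] at this
  have c5' : 2 ≤ (P ⊔ Q).relIndex H := by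
    have h1 : (P ⊔ Q).relIndex H ≠ 1 := fun h => hxD (Subgroup.relIndex_eq_one.1 h hxH)
    have h0 : 0 < (P ⊔ Q).relIndex H :=
      Nat.pos_of_dvd_of_pos (Subgroup.relIndex_dvd_card _ _) Nat.card_pos
    omega
  have c6 : Nat.card H = Nat.card (↥H ⧸ K.subgroupOf H) * Nat.card K := by
    rw [Subgroup.card_eq_card_quotient_mul_card_subgroup (K.subgroupOf H)]
    congr 1
    exact Nat.card_congr (Subgroup.subgroupOfEquivOfLe hKH).toEquiv
  have hKpos : 0 < Nat.card K := Nat.card_pos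
  have hφP : 0 < Nat.card (phiOf P) := Nat.card_pos
  have hφQ : 0 < Nat.card (phiOf Q) := Nat.card_pos
  -- |H| ≤ 16 |K| and |H| ≥ 32 |K|
  have hupper : Nat.card H ≤ 16 * Nat.card K := by
    rw [c6]; exact Nat.mul_le_mul_right _ (by simpa using hsec)
  have hlower : 32 * Nat.card K ≤ Nat.card H := by
    rw [← c5, c1, c2, ← c3P, ← c3Q]
    have e1 : 4 * Nat.card (phiOf P) ≤ Nat.card (phiOf P) * (frattini ↥P).index := by
      rw [mul_comm]; exact Nat.mul_le_mul_left _ c4P
    have e2 : 4 * Nat.card (phiOf Q) ≤ Nat.card (phiOf Q) * (frattini ↥Q).index := by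
      rw [mul_comm]; exact Nat.mul_le_mul_left _ c4Q
    calc 32 * (Nat.card (phiOf P) * Nat.card (phiOf Q))
        = (4 * Nat.card (phiOf P)) * (4 * Nat.card (phiOf Q)) * 2 := by ring
      _ ≤ (Nat.card (phiOf P) * (frattini ↥P).index) * (Nat.card (phiOf Q) * (frattini ↥Q).index)
            * (P ⊔ Q).relIndex H :=
          Nat.mul_le_mul (Nat.mul_le_mul e1 e2) c5'
  omega

end Cfsg.Agent.S4400
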