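import Cfsg.Statements.S4708
import Cfsg.Agent.Lib.Helper16.OrbitBlock
import Cfsg.Agent.Lib.Helper74.PReg4
import Cfsg.Agent.Lib.Helper15.IrrCrit
import Cfsg.Agent.Lib.Helper81.OneIrr

set_option autoImplicit false
open Cfsg

namespace Cfsg.Agent.S4708

open Cfsg.Agent.Lib.Helper81 Cfsg.Agent.Lib.Helper74 Cfsg.Agent.Lib.Helper16
open Cfsg.Agent.Lib.Helper77 Cfsg.Agent.Lib.Helper75 Cfsg.Agent.Lib.Helper3
open scoped ComplexConjugate

universe u

theorem charDegree_one_fun {G : Type u} [Group G] :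
    charDegree (fun _ : G => (1 : ℂ)) = 1 := by
  unfold charDegree
  simp

section
variable {G : Type u} [Group G] [Fintype G]

/-- `χ` lies in the principal block iff its sum over the `p`-regular elements is nonzero
(stated through `pTilde`). -/
theorem mem_principalBlock_iff_pTilde [Fintype (IrrCharacter G)] (p : ℕ) [Fact p.Prime]
    (M : Ideal AlgInt) (hM : IsPModular p M) (χ : IrrCharacter G) :
    χ ∈ principalBlock M G ↔
      classInner (pTilde p (fun _ : G => (1 : ℂ))) (χ : G → ℂ) ≠ 0 := by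
  have hMp : M.IsPrime := isPrime_of_isPModular hM
  constructor
  · intro hχ h0
    have hht : blockHeight p (blockOf M ((oneIrr G : IrrCharacter G) : G → ℂ))
        ((oneIrr G : IrrCharacter G) : G → ℂ) = 0 := by
      unfold blockHeight
      have h1 : charDegree ((oneIrr G : IrrCharacter G) : G → ℂ) = 1 := charDegree_one_fun
      rw [h1]
      simp
    have h1 := pTilde_unit_of_height_zero hM (oneIrr G) (oneIrr G) (sameBlock_refl hMp _) hht χ hχ
    apply h1
    have h2 : classInner (pTilde p ((oneIrr G : IrrCharacter G) : G → ℂ)) (χ : G → ℂ) = 0 := h0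
    rw [h2, zero_div]
    exact memLocalIdeal_zero hMp
  · intro hne
    by_contra hχ
    exact hne (pTilde_eq_zero_of_not_sameBlock p M hM (oneIrr G) χ hχ)

end

theorem sum_sq_le_sq_sum' {ι : Type*} (s : Finset ι) (a : ι → ℕ) :
    ∑ i ∈ s, a i ^ 2 ≤ (∑ i ∈ s, a i) ^ 2 := by
  classical
  induction s using Finset.induction_on with
  | empty => simp
  | insert i s hi ih =>
    rw [Finset.sum_insert hi, Finset.sum_insert hi]
    nlinarith [Nat.zero_le (a i), Nat.zero_le (∑ i ∈ s, a i)]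

theorem finsum_mem_eq_sum_filter' {ι A : Type*} [AddCommMonoid A] [Fintype ι] (B : Set ι)
    [DecidablePred (· ∈ B)] (f : ι → A) :
    ∑ᶠ i ∈ B, f i = ∑ i ∈ Finset.univ.filter (· ∈ B), f i := by
  apply finsum_mem_eq_sum_of_inter_support_eq
  congr 1
  ext i
  simp

section Normal

variable {G : Type u} [Group G] [Fintype G] (H : Subgroup G) [hH : H.Normal] [Fintype H]

omit [Fintype G] hH [Fintype H] in
theorem conjFun_one_fun [hH' : H.Normal] (g : G) :
    conjFun H g (fun _ : H => (1 : ℂ)) = fun _ : H => (1 : ℂ) := rfl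

/-- The principal block of `G` covers only the principal block of a normal subgroup `H`. -/
theorem constituent_mem_principal (p : ℕ) [Fact p.Prime] (M : Ideal AlgInt)
    (hM : IsPModular p M) (χ : IrrCharacter G) (hχ : χ ∈ principalBlock M G)
    (ψ : IrrCharacter H)
    (hne : classInner (fun n : H => (χ : G → ℂ) n) (ψ : H → ℂ) ≠ 0) :
    ψ ∈ principalBlock M H := by
  classical
  have hMp : M.IsPrime := isPrime_of_isPModular hM
  set b₀ := principalBlock M H with hb₀
  have hb : IsPBlock M b₀ := isPBlock_principalBlock M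
  have h1 := omega_orbitIdem H b₀ χ ψ hne
  have hne1 : classInner (fun n : H => ((oneIrr G : IrrCharacter G) : G → ℂ) n)
      ((oneIrr H : IrrCharacter H) : H → ℂ) ≠ 0 := by
    have h := Cfsg.Agent.Lib.Helper3.classInner_irr (G := H)
      (isIrrCharacter_one (G := H)) (isIrrCharacter_one (G := H))
    rw [if_pos rfl] at h
    show classInner (fun _ : H => (1 : ℂ)) (fun _ : H => (1 : ℂ)) ≠ 0
    rw [h]
    exact one_ne_zero
  have h2 := omega_orbitIdem H b₀ (oneIrr G) (oneIrr H) hne1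
  have h1mem : oneIrr H ∈ orbitBlock H b₀ :=
    mem_orbitBlock_of_mem H (oneIrr_mem_principalBlock hMp)
  rw [if_pos h1mem] at h2
  have hsame : SameBlock M ((oneIrr G : IrrCharacter G) : G → ℂ) (χ : G → ℂ) := hχ
  have h3 := memLocalIdeal_omega_sub hMp
    (Cfsg.Agent.Lib.Helper77.isClassFunction_of_isCharacter (oneIrr G).2)
    (Cfsg.Agent.Lib.Helper77.isClassFunction_of_isCharacter χ.2) hsame
    (orbitIdem_isClassFunction H b₀) (memLocalRing_orbitIdem H hM hb)
  rw [h1, h2] at h3
  by_cases hψ : ψ ∈ orbitBlock H b₀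
  · obtain ⟨g, hg⟩ := hψ
    have hg' : SameBlock M (fun _ : H => (1 : ℂ)) (conjFun H g (ψ : H → ℂ)) := hg
    have h4 := sameBlock_conjFun H hMp g⁻¹ (isIrrCharacter_one (G := H))
      (conjFun_isIrrCharacter H g ψ.2) hg'
    rw [conjFun_conjFun, mul_inv_cancel, conjFun_one] at h4
    exact h4
  · rw [if_neg hψ, sub_zero] at h3
    exact absurd h3 (not_memLocalIdeal_one hMp)

omit hH in
/-- Every member of the principal block of a subgroup lies under a member of the principal
block of `G`. -/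
theorem exists_over_principal (p : ℕ) [Fact p.Prime] (M : Ideal AlgInt)
    (hM : IsPModular p M) (ψ : IrrCharacter H) (hψ : ψ ∈ principalBlock M H) :
    ∃ χ : IrrCharacter G, χ ∈ principalBlock M G ∧
      classInner (fun n : H => (χ : G → ℂ) n) (ψ : H → ℂ) ≠ 0 := by
  classical
  have hp : p.Prime := Fact.out
  have hfinG : Finite (IrrCharacter G) := finite_irrCharacter
  have := Fintype.ofFinite (IrrCharacter G)
  have hfinH : Finite (IrrCharacter H) := finite_irrCharacter
  have := Fintype.ofFinite (IrrCharacter H)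
  have hT : classInner (pTilde p (fun _ : H => (1 : ℂ))) (ψ : H → ℂ) ≠ 0 :=
    (mem_principalBlock_iff_pTilde p M hM ψ).mp hψ
  set f : G → ℂ := pTilde p (fun _ : G => (1 : ℂ)) with hf
  have hfcl : IsClassFunction G f := pTilde_isClassFunction p (fun _ _ => rfl)
  have hdec := Cfsg.Agent.Lib.Helper3.classFunction_eq_sum hfcl
  set aG := (Nat.card G).factorization p with haG
  set aH := (Nat.card H).factorization p with haH
  have hpH : ((p ^ aH : ℕ) : ℂ) ≠ 0 := by
    exact_mod_cast (pow_pos hp.pos aH).ne'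
  have hpG : ((p ^ aG : ℕ) : ℂ) ≠ 0 := by
    exact_mod_cast (pow_pos hp.pos aG).ne'
  have hres : (fun h : H => f h) =
      (((p ^ aG : ℕ) : ℂ) / ((p ^ aH : ℕ) : ℂ)) • pTilde p (fun _ : H => (1 : ℂ)) := by
    funext h
    simp only [hf, pTilde_apply, Pi.smul_apply, smul_eq_mul, Subgroup.orderOf_coe, mul_one]
    split_ifs
    · simp
    · rw [← haG, ← haH]
      field_simp
  have h1 : classInner (fun h : H => f h) (ψ : H → ℂ) ≠ 0 := by
    rw [hres, classInner_smul_left]
    exact mul_ne_zero (div_ne_zero hpG hpH) hT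
  have h2 : (fun h : H => f h) = ∑ χ : IrrCharacter G,
      classInner f (χ : G → ℂ) • (fun h : H => (χ : G → ℂ) h) := by
    funext h
    have := congrFun hdec (h : G)
    rw [this]
    simp only [Finset.sum_apply, Pi.smul_apply]
  rw [h2, classInner_sum_left] at h1
  obtain ⟨χ, -, hχ⟩ := Finset.exists_ne_zero_of_sum_ne_zero h1
  rw [classInner_smul_left] at hχ
  refine ⟨χ, ?_, right_ne_zero_of_mul hχ⟩
  exact (mem_principalBlock_iff_pTilde p M hM χ).mpr (left_ne_zero_of_mul hχ)

omit hH in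
/-- Multiplicities of the irreducible characters of `H` in the restrictions of those of `G`. -/
theorem exists_mult [Fintype (IrrCharacter G)] [Fintype (IrrCharacter H)] :
    ∃ m : IrrCharacter G → IrrCharacter H → ℕ,
      (∀ (χ : IrrCharacter G) (ψ : IrrCharacter H),
        classInner (fun n : H => (χ : G → ℂ) n) (ψ : H → ℂ) = (m χ ψ : ℂ)) ∧
      (∀ χ : IrrCharacter G, charDegree (χ : G → ℂ) =
        ∑ ψ : IrrCharacter H, m χ ψ * charDegree (ψ : H → ℂ)) ∧
      (∀ ψ : IrrCharacter H, ∑ χ : IrrCharacter G, charDegree (χ : G → ℂ) * m χ ψ =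
        H.index * charDegree (ψ : H → ℂ)) := by
  classical
  have key : ∀ χ : IrrCharacter G, ∃ m : IrrCharacter H → ℕ,
      (∀ ψ : IrrCharacter H, classInner (fun n : H => (χ : G → ℂ) n) (ψ : H → ℂ) = (m ψ : ℂ)) ∧
      (fun n : H => (χ : G → ℂ) n) = ∑ ψ : IrrCharacter H, (m ψ : ℂ) • (ψ : H → ℂ) := fun χ =>
    Cfsg.Agent.Lib.Helper15.exists_nat_decomp
      (Cfsg.Agent.Lib.Helper3.IsCharacter.restrict
        (Cfsg.Agent.Lib.Helper3.IsIrrCharacter.isCharacter χ.2) H)
  choose m hm hdec using key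
  refine ⟨m, hm, ?_, ?_⟩
  · intro χ
    have h1 := congrFun (hdec χ) 1
    simp only [Finset.sum_apply, Pi.smul_apply, smul_eq_mul, OneMemClass.coe_one] at h1
    rw [irr_apply_one_eq_charDegree χ] at h1
    have h2 : ∑ ψ : IrrCharacter H, (m χ ψ : ℂ) * (ψ : H → ℂ) 1 =
        ((∑ ψ : IrrCharacter H, m χ ψ * charDegree (ψ : H → ℂ) : ℕ) : ℂ) := by
      push_cast
      refine Finset.sum_congr rfl fun ψ _ => ?_
      rw [irr_apply_one_eq_charDegree ψ]
    rw [h2] at h1
    exact_mod_cast h1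
  · intro ψ
    have hGH : (Nat.card G : ℂ) = (Nat.card H : ℂ) * (H.index : ℂ) := by
      rw [← Nat.cast_mul, Subgroup.card_mul_index]
    have hH0 : (Nat.card H : ℂ) ≠ 0 := Nat.cast_ne_zero.mpr Nat.card_pos.ne'
    set R : H → ℂ := fun h => if (h : G) = 1 then (Nat.card G : ℂ) else 0 with hR
    have hsum : ∑ χ : IrrCharacter G, (χ : G → ℂ) 1 • (fun n : H => (χ : G → ℂ) n) = R := by
      funext h
      simp only [Finset.sum_apply, Pi.smul_apply, smul_eq_mul, hR]
      split_ifs with hh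
      · rw [hh]
        exact sum_irr_deg_mul_one
      · exact sum_irr_deg_mul_of_ne_one hh
    have h1 : classInner R (ψ : H → ℂ) = (H.index : ℂ) * (charDegree (ψ : H → ℂ) : ℂ) := by
      unfold classInner
      rw [Finset.sum_eq_single (1 : H)]
      · simp only [hR, OneMemClass.coe_one, if_true]
        rw [irr_apply_one_eq_charDegree ψ, Complex.conj_natCast, hGH]
        field_simp
      · intro h _ hh
        have : ¬ ((h : G) = 1) := fun h1 => hh (Subtype.ext h1)
        simp only [hR, if_neg this, zero_mul]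
      · intro h
        exact absurd (Finset.mem_univ _) h
    rw [← hsum, classInner_sum_left] at h1
    have h2 : ∑ χ : IrrCharacter G,
        classInner ((χ : G → ℂ) 1 • fun n : H => (χ : G → ℂ) n) (ψ : H → ℂ) =
        ((∑ χ : IrrCharacter G, charDegree (χ : G → ℂ) * m χ ψ : ℕ) : ℂ) := by
      push_cast
      refine Finset.sum_congr rfl fun χ _ => ?_
      rw [classInner_smul_left, hm, irr_apply_one_eq_charDegree χ]
    rw [h2] at h1
    exact_mod_cast h1

end Normal

/-- Let p be a prime, M a maximal ideal of the algebraic integers containing p, G a finite group and H a normal subgroup. Write λ(X) for the sum of the squares of the degrees of the irreducible characters in the principal p-block of a group X. Then λ(H) ≤ λ(G) ≤ [G : H]·λ(H). -/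
theorem result {G : Type*} [Group G] [Finite G] (p : ℕ) [Fact p.Prime] (M : Ideal Cfsg.AlgInt) (hM : Cfsg.IsPModular p M) (H : Subgroup G) [H.Normal] : (∑ᶠ θ ∈ Cfsg.principalBlock M H, Cfsg.charDegree (θ : H → ℂ) ^ 2) ≤ (∑ᶠ χ ∈ Cfsg.principalBlock M G, Cfsg.charDegree (χ : G → ℂ) ^ 2) ∧ (∑ᶠ χ ∈ Cfsg.principalBlock M G, Cfsg.charDegree (χ : G → ℂ) ^ 2) ≤ H.index * ∑ᶠ θ ∈ Cfsg.principalBlock M H, Cfsg.charDegree (θ : H → ℂ) ^ 2 := by
  classical
  have := Fintype.ofFinite G
  have := Fintype.ofFinite H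
  have hfinG : Finite (IrrCharacter G) := finite_irrCharacter
  have := Fintype.ofFinite (IrrCharacter G)
  have hfinH : Finite (IrrCharacter H) := finite_irrCharacter
  have := Fintype.ofFinite (IrrCharacter H)
  obtain ⟨m, hm, hN1, hN2⟩ := exists_mult (G := G) H
  rw [finsum_mem_eq_sum_filter', finsum_mem_eq_sum_filter']
  set SG := Finset.univ.filter (fun χ : IrrCharacter G => χ ∈ principalBlock M G) with hSG
  set SH := Finset.univ.filter (fun ψ : IrrCharacter H => ψ ∈ principalBlock M H) with hSH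
  set d : IrrCharacter G → ℕ := fun χ => charDegree (χ : G → ℂ) with hd
  set e : IrrCharacter H → ℕ := fun ψ => charDegree (ψ : H → ℂ) with he
  have hK1 : ∀ χ ∈ SG, ∀ ψ : IrrCharacter H, ψ ∉ SH → m χ ψ = 0 := by
    intro χ hχ ψ hψ
    by_contra hne
    apply hψ
    rw [hSH, Finset.mem_filter]
    refine ⟨Finset.mem_univ _, ?_⟩
    rw [hSG, Finset.mem_filter] at hχ
    apply constituent_mem_principal H p M hM χ hχ.2 ψ
    rw [hm]
    exact_mod_cast hne
  have hK2 : ∀ ψ ∈ SH, ∃ χ ∈ SG, 1 ≤ m χ ψ := by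
    intro ψ hψ
    rw [hSH, Finset.mem_filter] at hψ
    obtain ⟨χ, hχ, hne⟩ := exists_over_principal H p M hM ψ hψ.2
    refine ⟨χ, ?_, ?_⟩
    · rw [hSG, Finset.mem_filter]
      exact ⟨Finset.mem_univ _, hχ⟩
    · rw [hm] at hne
      have : m χ ψ ≠ 0 := by exact_mod_cast hne
      omega
  have hdeg : ∀ χ ∈ SG, d χ = ∑ ψ ∈ SH, m χ ψ * e ψ := by
    intro χ hχ
    rw [hd]
    simp only
    rw [hN1 χ]
    symm
    apply Finset.sum_subset (Finset.subset_univ _)
    intro ψ _ hψ
    rw [hK1 χ hχ ψ hψ, zero_mul]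
  constructor
  · -- `λ(H) ≤ λ(G)`
    calc ∑ ψ ∈ SH, e ψ ^ 2 ≤ ∑ ψ ∈ SH, ∑ χ ∈ SG, (m χ ψ * e ψ) ^ 2 := by
          apply Finset.sum_le_sum
          intro ψ hψ
          obtain ⟨χ, hχ, h1⟩ := hK2 ψ hψ
          calc e ψ ^ 2 ≤ (m χ ψ * e ψ) ^ 2 := by
                apply Nat.pow_le_pow_left
                nlinarith [Nat.zero_le (e ψ)]
            _ ≤ ∑ χ ∈ SG, (m χ ψ * e ψ) ^ 2 :=
                Finset.single_le_sum (f := fun χ => (m χ ψ * e ψ) ^ 2)
                  (fun _ _ => Nat.zero_le _) hχ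
      _ = ∑ χ ∈ SG, ∑ ψ ∈ SH, (m χ ψ * e ψ) ^ 2 := Finset.sum_comm
      _ ≤ ∑ χ ∈ SG, (∑ ψ ∈ SH, m χ ψ * e ψ) ^ 2 :=
          Finset.sum_le_sum fun χ _ => sum_sq_le_sq_sum' SH _
      _ = ∑ χ ∈ SG, d χ ^ 2 :=
          Finset.sum_congr rfl fun χ hχ => by rw [hdeg χ hχ]
  · -- `λ(G) ≤ [G:H] λ(H)`
    calc ∑ χ ∈ SG, d χ ^ 2 = ∑ χ ∈ SG, ∑ ψ ∈ SH, e ψ * (d χ * m χ ψ) := by
          refine Finset.sum_congr rfl fun χ hχ => ?_
          rw [pow_two]
          nth_rewrite 2 [hdeg χ hχ]
          rw [Finset.mul_sum]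
          refine Finset.sum_congr rfl fun ψ _ => ?_
          ring
      _ = ∑ ψ ∈ SH, e ψ * ∑ χ ∈ SG, d χ * m χ ψ := by
          rw [Finset.sum_comm]
          refine Finset.sum_congr rfl fun ψ _ => ?_
          rw [Finset.mul_sum]
      _ ≤ ∑ ψ ∈ SH, e ψ * ∑ χ : IrrCharacter G, d χ * m χ ψ := by
          apply Finset.sum_le_sum
          intro ψ _
          apply Nat.mul_le_mul_left
          exact Finset.sum_le_sum_of_subset (Finset.subset_univ _)
      _ = ∑ ψ ∈ SH, e ψ * (H.index * e ψ) := by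
          refine Finset.sum_congr rfl fun ψ _ => ?_
          rw [hN2 ψ]
      _ = H.index * ∑ ψ ∈ SH, e ψ ^ 2 := by
          rw [Finset.mul_sum]
          refine Finset.sum_congr rfl fun ψ _ => ?_
          ring

end Cfsg.Agent.S4708
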