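import Cfsg.Statements.S4681
import Cfsg.Agent.S4663
import Cfsg.Agent.Lib.Helper52.PrincipalSubpair
import Cfsg.Agent.Lib.Helper72.SylowUniq

set_option autoImplicit false
open Cfsg

namespace Cfsg.Agent.S4681

open Cfsg.Agent.Lib.Helper77 Cfsg.Agent.Lib.Helper81 Cfsg.Agent.Lib.Helper52.PrincipalSubpair

universe u

variable {G : Type u} [Group G] [Fintype G]

/-- Below a `p`-subgroup `P`, every principal pair lies below the principal pair of `P`. -/
theorem subpairLE_principal {p : ℕ} [Fact p.Prime] {M : Ideal AlgInt} (hpM : IsPModular p M)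
    (P : Subgroup G) (hP : IsPGroup p P) :
    ∀ (n : ℕ) (Q : Subgroup G), Q ≤ P → Nat.card P - Nat.card Q = n →
      SubpairLE p M Q (principalBlock M (Subgroup.centralizer (Q : Set G))) P
        (principalBlock M (Subgroup.centralizer (P : Set G))) := by
  intro n
  induction n using Nat.strong_induction_on with
  | _ n ih =>
    intro Q hQP hn
    by_cases hQeq : Q = P
    · subst hQeq
      exact Relation.ReflTransGen.refl
    · have hlt : Q < P := lt_of_le_of_ne hQP hQeq
      obtain ⟨y, hyP, hyN, hyQ⟩ := Cfsg.Agent.Lib.Helper72.exists_mem_normalizer_not_mem hP hlt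
      set Q₁ : Subgroup G := P ⊓ Subgroup.normalizer (Q : Set G) with hQ₁
      have hQQ₁ : Q ≤ Q₁ := le_inf hQP Subgroup.le_normalizer
      have hQ₁P : Q₁ ≤ P := inf_le_left
      have hQ₁N : Q₁ ≤ Subgroup.normalizer (Q : Set G) := inf_le_right
      have hcard : Nat.card Q < Nat.card Q₁ := by
        by_contra hle
        push Not at hle
        have h := Subgroup.eq_of_le_of_card_ge hQQ₁ hle
        apply hyQ
        rw [h]
        exact ⟨hyP, hyN⟩
      have hstep : NormalSubpairRel p M
          ⟨Q, principalBlock M (Subgroup.centralizer (Q : Set G))⟩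
          ⟨Q₁, principalBlock M (Subgroup.centralizer (Q₁ : Set G))⟩ :=
        isNormalSubpair_principal hpM Q Q₁ (hP.to_le hQ₁P) hQQ₁ hQ₁N
      have hle1 : Nat.card Q₁ ≤ Nat.card P := Subgroup.card_le_of_le hQ₁P
      have hrest := ih (Nat.card P - Nat.card Q₁) (by omega) Q₁ hQ₁P rfl
      exact Relation.ReflTransGen.head hstep hrest

/-- Along an inclusion of Brauer pairs the subgroups grow, and unless the inclusion is trivial the
upper subgroup is a `p`-group. -/
theorem le_of_subpairRel {p : ℕ} {M : Ideal AlgInt} {a b : BrauerPairIdx G}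
    (h : Relation.ReflTransGen (NormalSubpairRel p M) a b) :
    a.1 ≤ b.1 ∧ (a = b ∨ IsPGroup p b.1) := by
  induction h with
  | refl => exact ⟨le_rfl, Or.inl rfl⟩
  | tail _ hbc ih =>
    obtain ⟨_, hc, hle, _⟩ := hbc
    exact ⟨ih.1.trans hle, Or.inr hc.1⟩

/-- Conjugation by `g⁻¹` from the centralizer of the conjugate `g Q g⁻¹` onto the centralizer of
`Q`. -/
def centConj (Q : Subgroup G) (g : G) :
    Subgroup.centralizer ((Q.map (MulAut.conj g).toMonoidHom : Subgroup G) : Set G) ≃*
      Subgroup.centralizer (Q : Set G) where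
  toFun c := ⟨g⁻¹ * (c : G) * g, by
    rw [Subgroup.mem_centralizer_iff]
    intro q hq
    have hq' : g * q * g⁻¹ ∈ (Q.map (MulAut.conj g).toMonoidHom : Subgroup G) :=
      ⟨q, hq, rfl⟩
    have := (Subgroup.mem_centralizer_iff.mp c.2) _ hq'
    calc q * (g⁻¹ * (c : G) * g) = g⁻¹ * ((g * q * g⁻¹) * (c : G)) * g := by group
      _ = g⁻¹ * ((c : G) * (g * q * g⁻¹)) * g := by rw [this]
      _ = g⁻¹ * (c : G) * g * q := by group⟩
  invFun c := ⟨g * (c : G) * g⁻¹, by
    rw [Subgroup.mem_centralizer_iff]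
    rintro _ ⟨q, hq, rfl⟩
    have := (Subgroup.mem_centralizer_iff.mp c.2) q hq
    show g * q * g⁻¹ * (g * (c : G) * g⁻¹) = g * (c : G) * g⁻¹ * (g * q * g⁻¹)
    calc g * q * g⁻¹ * (g * (c : G) * g⁻¹) = g * (q * (c : G)) * g⁻¹ := by group
      _ = g * ((c : G) * q) * g⁻¹ := by rw [this]
      _ = g * (c : G) * g⁻¹ * (g * q * g⁻¹) := by group⟩
  left_inv c := by
    apply Subtype.ext
    simp [mul_assoc]
  right_inv c := by
    apply Subtype.ext
    simp [mul_assoc]
  map_mul' a b := by
    apply Subtype.ext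
    show g⁻¹ * ((a : G) * (b : G)) * g = g⁻¹ * (a : G) * g * (g⁻¹ * (b : G) * g)
    group

/-- The conjugate of a principal block is the principal block. -/
theorem conjBlock_principal (M : Ideal AlgInt) (Q : Subgroup G) (g : G) :
    conjBlock Q g (principalBlock M (Subgroup.centralizer (Q : Set G))) =
      principalBlock M
        (Subgroup.centralizer ((Q.map (MulAut.conj g).toMonoidHom : Subgroup G) : Set G)) := by
  rw [← irrMap_image_principalBlock M (centConj Q g)]
  ext ξ'
  constructor
  · rintro ⟨ξ, hξ, hrel⟩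
    refine ⟨ξ, hξ, ?_⟩
    apply Subtype.ext
    funext c'
    rw [irrMap_apply]
    symm
    apply hrel
    show (c' : G) = g * (g⁻¹ * (c' : G) * g) * g⁻¹
    group
  · rintro ⟨ξ, hξ, rfl⟩
    refine ⟨ξ, hξ, ?_⟩
    intro c c' hcc
    rw [irrMap_apply]
    have hcc' : centConj Q g c' = c := by
      apply Subtype.ext
      show g⁻¹ * (c' : G) * g = (c : G)
      rw [hcc]
      group
    rw [hcc']

/-- Fix a prime p and a maximal ideal M of the algebraic integers containing p. Let B₀ be the principal p-block of the finite group G, P a Sylow p-subgroup and e₀ the principal p-block of C_G(P). Then (P, e₀) is a maximal Brauer pair of B₀, and the fusion system of B₀ on (P, e₀) is the fusion system of G on P: its maps from each subgroup of P are exactly the conjugation maps into P by elements of G. -/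
theorem result {G : Type*} [Group G] [Fintype G] (p : ℕ) [Fact p.Prime] (M : Ideal Cfsg.AlgInt) (hM : Cfsg.IsPModular p M) (S : Sylow p G) : Cfsg.IsMaximalBrauerPair p M (Cfsg.principalBlock M G) (S : Subgroup G) (Cfsg.principalBlock M (Subgroup.centralizer ((S : Subgroup G) : Set G))) ∧ ∀ F : Cfsg.FusionSystem (S : Subgroup G), Cfsg.IsBlockFusionSystemOn p M (Cfsg.principalBlock M G) (S : Subgroup G) (Cfsg.principalBlock M (Subgroup.centralizer ((S : Subgroup G) : Set G))) F → ∀ Q : Subgroup G, F.Hom Q = (Cfsg.groupFusionSystem (S : Subgroup G)).Hom Q := by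
  have hSp : IsPGroup p (S : Subgroup G) := S.isPGroup'
  have hmax : Cfsg.IsMaximalBrauerPair p M (Cfsg.principalBlock M G) (S : Subgroup G)
      (Cfsg.principalBlock M (Subgroup.centralizer ((S : Subgroup G) : Set G))) := by
    refine ⟨(Cfsg.Agent.S4663.result p M hM (S : Subgroup G) hSp _
      (isPBlock_principalBlock M)).mpr rfl, ?_⟩
    intro R g _ hle
    obtain ⟨h1, h2⟩ := le_of_subpairRel hle
    rcases h2 with h2 | h2
    · exact (congrArg Sigma.fst h2).symm
    · exact S.is_maximal' h2 h1
  refine ⟨hmax, ?_⟩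
  intro F hF Q
  ext φ
  rw [hF.2 Q φ]
  constructor
  · rintro ⟨hQ, g, hφ, hmap, _⟩
    refine ⟨hQ, fun x => ?_, g, hφ⟩
    apply hmap
    exact ⟨x, x.2, (hφ x).symm⟩
  · rintro ⟨hQ, hφS, g, hφ⟩
    have hmap : Q.map (MulAut.conj g).toMonoidHom ≤ (S : Subgroup G) := by
      rintro _ ⟨x, hx, rfl⟩
      have := hφS ⟨x, hx⟩
      rw [hφ] at this
      exact this
    refine ⟨hQ, g, hφ, hmap, principalBlock M (Subgroup.centralizer (Q : Set G)), ?_, ?_⟩
    · exact subpairLE_principal hM (S : Subgroup G) hSp _ Q hQ rfl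
    · rw [conjBlock_principal]
      exact subpairLE_principal hM (S : Subgroup G) hSp _ _ hmap rfl

end Cfsg.Agent.S4681
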