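import Cfsg.Statements.S4431
import Cfsg.Agent.Lib.Helper74.PReg5
-- import your own Cfsg.Agent.* helpers here

set_option autoImplicit false
open Cfsg

namespace Cfsg.Agent.S4431

/-- Let H be a subgroup of the finite group G and b a block of H whose induced block B₀ in G is defined (relative to a maximal ideal M of the algebraic integers containing p). Let χ be an irreducible character of G, ψ ∈ b, and let η be the class function on H equal to p^a · χ on the p-regular elements of H and zero elsewhere, p^a being the p-part of the order of H. Then (a) if χ ∉ B₀, the number [η, ψ]/ψ(1) lies in the local ideal at M; (b) if χ ∈ B₀ has height zero, it does not. -/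
theorem result {G : Type*} [Group G] [Fintype G] (p : ℕ) [Fact p.Prime] (M : Ideal Cfsg.AlgInt) (hM : Cfsg.IsPModular p M) (H : Subgroup G) [Fintype H] (b : Set (Cfsg.IrrCharacter H)) (B₀ : Set (Cfsg.IrrCharacter G)) (hind : Cfsg.IsInducedBlock M H b B₀) (χ : Cfsg.IrrCharacter G) (ψ : Cfsg.IrrCharacter H) (hψ : ψ ∈ b) : (χ ∉ B₀ → Cfsg.MemLocalIdeal M (Cfsg.classInner (fun h : H => if p ∣ orderOf h then (0 : ℂ) else ((p ^ (Nat.card H).factorization p : ℕ) : ℂ) * (χ : G → ℂ) h) (ψ : H → ℂ) / (ψ : H → ℂ) 1)) ∧ (χ ∈ B₀ → Cfsg.blockHeight p B₀ (χ : G → ℂ) = 0 → ¬ Cfsg.MemLocalIdeal M (Cfsg.classInner (fun h : H => if p ∣ orderOf h then (0 : ℂ) else ((p ^ (Nat.card H).factorization p : ℕ) : ℂ) * (χ : G → ℂ) h) (ψ : H → ℂ) / (ψ : H → ℂ) 1)) := by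
  classical
  have := Fintype.ofFinite (Cfsg.IrrCharacter G)
  have hp : p.Prime := Fact.out
  have hMp : M.IsPrime := Cfsg.Agent.Lib.Helper81.isPrime_of_isPModular hM
  obtain ⟨χ₁, hB₀⟩ := hind.2.1
  have hnH : Nat.card H ≠ 0 := Nat.card_pos.ne'
  have hzs := Cfsg.Agent.Lib.Helper74.regCoeff_zs hM (Nat.card H) hnH χ
  rw [← Cfsg.Agent.Lib.Helper74.omega_restrict_regCoeff H (χ : G → ℂ) ψ]
  constructor
  · intro hχ
    have hχ₁ : χ₁ ∈ B₀ := by
      rw [hB₀]
      exact Cfsg.Agent.Lib.Helper81.sameBlock_refl hMp _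
    have h1 := Cfsg.Agent.Lib.Helper77.memLocalIdeal_omega_restrict_sub hMp H hind hψ hχ₁ hzs
    have hns : ¬ Cfsg.SameBlock M (χ : G → ℂ) (χ₁ : G → ℂ) := by
      intro hs
      apply hχ
      rw [hB₀]
      exact Cfsg.Agent.Lib.Helper81.sameBlock_symm hs
    rw [Cfsg.Agent.Lib.Helper74.omega_regCoeff,
      Cfsg.Agent.Lib.Helper74.pTilde_eq_zero_of_not_sameBlock p M hM χ χ₁ hns] at h1
    simpa using h1
  · intro hχ hht hmem
    have h1 := Cfsg.Agent.Lib.Helper77.memLocalIdeal_omega_restrict_sub hMp H hind hψ hχ hzs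
    have h2 : Cfsg.MemLocalIdeal M (Cfsg.Agent.Lib.Helper77.omega (χ : G → ℂ)
        (Cfsg.Agent.Lib.Helper74.regCoeff p (Nat.card H) (χ : G → ℂ))) := by
      have h3 := Cfsg.Agent.Lib.Helper81.memLocalIdeal_sub hMp hmem h1
      rwa [sub_sub_cancel] at h3
    rw [Cfsg.Agent.Lib.Helper74.omega_regCoeff] at h2
    rw [hB₀] at hχ hht
    have hu := Cfsg.Agent.Lib.Helper74.pTilde_unit_of_height_zero hM χ₁ χ hχ hht χ hχ
    -- multiply by `|H|_{p'}`
    have h4 := Cfsg.Agent.Lib.Helper81.memLocalIdeal_mul_left hMp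
      (Cfsg.Agent.Lib.Helper81.memLocalRing_natCast hMp
        (Nat.card H / p ^ (Nat.card H).factorization p)) h2
    have huH : ((Nat.card H / p ^ (Nat.card H).factorization p : ℕ) : ℂ) ≠ 0 := by
      intro h0
      have h0' : Nat.card H / p ^ (Nat.card H).factorization p = 0 := by exact_mod_cast h0
      have := Nat.not_dvd_ordCompl hp hnH
      rw [h0'] at this
      exact this (dvd_zero p)
    rw [← mul_assoc, ← mul_assoc, mul_inv_cancel₀ huH, one_mul] at h4
    have hnd : ¬ Cfsg.MemLocalIdeal M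
        (((Nat.card G / p ^ (Nat.card G).factorization p : ℕ) : ℂ)) := by
      rw [Cfsg.Agent.Lib.Helper81.memLocalIdeal_natCast_iff hM]
      exact Nat.not_dvd_ordCompl hp Nat.card_pos.ne'
    exact hu (Cfsg.Agent.Lib.Helper81.memLocalIdeal_of_mul_of_not_memLocalIdeal hMp
      (Cfsg.Agent.Lib.Helper81.memLocalRing_natCast hMp _) hnd h4)

end Cfsg.Agent.S4431
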