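import Cfsg.Statements.S0044
import Cfsg.Agent.Lib.Helper1.Basic

set_option autoImplicit false
open Cfsg
open scoped commutatorElement

namespace Cfsg.Agent.S0044

open Cfsg.Agent.Lib.Helper1 in
theorem exists_normal_descend {G : Type*} [Group G] [Finite G] (Z : Subgroup G)
    (C : Subgroup G) [hn : C.Normal] (hs : Group.IsSolvable C) (hC : ¬ C ≤ Z) :
    ∃ M : Subgroup G, M ≤ C ∧ M.Normal ∧ ¬ M ≤ Z ∧ ⁅M, M⁆ ≤ Z := by
  revert hn hs hC
  induction C using WellFoundedLT.induction with
  | ind C ih =>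
    intro hn hs hC
    by_cases hc : ⁅C, C⁆ ≤ Z
    · exact ⟨C, le_rfl, hn, hC, hc⟩
    · have hCb : C ≠ ⊥ := by
        rintro rfl
        exact hC bot_le
      have hlt := commutator_lt_of_solvable C hs hCb
      have : (⁅C, C⁆).Normal := Subgroup.commutator_normal C C
      obtain ⟨M, hM, h1, h2, h3⟩ := ih ⁅C, C⁆ hlt (isSolvable_of_le hlt.le hs) hc
      exact ⟨M, hM.trans hlt.le, h1, h2, h3⟩

theorem isNilpotent_of_commutator_central {G : Type*} [Group G] (M : Subgroup G)
    (h : ∀ a ∈ M, ∀ b ∈ M, ∀ c ∈ M, c * ⁅a, b⁆ = ⁅a, b⁆ * c) : Group.IsNilpotent M := by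
  rw [Subgroup.nilpotent_iff_lowerCentralSeries]
  refine ⟨2, ?_⟩
  rw [Subgroup.lowerCentralSeries_succ, Subgroup.lowerCentralSeries_succ,
    Subgroup.lowerCentralSeries_zero, Subgroup.commutator_eq_bot_iff_le_centralizer,
    Subgroup.commutator_le]
  intro a _ b _
  rw [Subgroup.mem_centralizer_iff]
  intro c _
  apply Subtype.ext
  exact h a a.2 b b.2 c c.2

/-- In a finite solvable group, the centraliser of the Fitting subgroup is contained in the Fitting subgroup. -/
theorem result {G : Type*} [Group G] [Finite G] [Group.IsSolvable G] :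
    Subgroup.centralizer (Cfsg.fittingSubgroup G : Set G) ≤ Cfsg.fittingSubgroup G := by
  set F := Cfsg.fittingSubgroup G with hF
  have hFn : F.Normal := Subgroup.sSup_normal _ (fun N hN => hN.1)
  set C := Subgroup.centralizer (F : Set G) with hC
  have hCn : C.Normal := Subgroup.normal_centralizer
  by_contra hCF
  have hCZ : ¬ C ≤ C ⊓ F := fun h => hCF (h.trans inf_le_right)
  obtain ⟨M, hMC, hMn, hMZ, hMM⟩ := exists_normal_descend (C ⊓ F) C inferInstance hCZ
  have hnil : Group.IsNilpotent M := by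
    apply isNilpotent_of_commutator_central
    intro a ha b hb c hc
    have h1 : ⁅a, b⁆ ∈ F := (hMM (Subgroup.commutator_mem_commutator ha hb)).2
    have h2 : c ∈ C := hMC hc
    exact (Subgroup.mem_centralizer_iff.mp h2 _ h1).symm
  have hMF : M ≤ F := le_sSup ⟨hMn, hnil⟩
  exact hMZ (le_inf hMC hMF)

end Cfsg.Agent.S0044
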