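-- Statement S4808
import Cfsg.Statements.S4808
import Cfsg.Agent.Lib.Helper80.Kernel
import Mathlib.GroupTheory.Sylow

set_option autoImplicit false
open Cfsg

namespace Cfsg.Agent.S4808

open Cfsg.Agent.Lib.Helper80
open scoped ComplexConjugate

section GroupAux

variable {G : Type*} [Group G] [Finite G]

/-- A `p`-subgroup lies in every normal subgroup of index prime to `p`. -/
theorem pgroup_le_of_not_dvd_index (p : ℕ) [hp : Fact p.Prime] (P : Subgroup G)
    (hP : IsPGroup p P) (K : Subgroup G) [K.Normal] (h : ¬ p ∣ K.index) : P ≤ K := by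
  intro x hx
  obtain ⟨k, hk⟩ := hP ⟨x, hx⟩
  have hxk : x ^ p ^ k = 1 := by
    have := congrArg Subtype.val hk
    simpa using this
  have h1 : ((x : G ⧸ K)) ^ p ^ k = 1 := by
    rw [← QuotientGroup.mk_pow, hxk, QuotientGroup.mk_one]
  have h2 : orderOf (x : G ⧸ K) ∣ p ^ k := orderOf_dvd_of_pow_eq_one h1
  have h3 : orderOf (x : G ⧸ K) ∣ K.index := by
    rw [Subgroup.index_eq_card]
    exact orderOf_dvd_natCard _
  have hcop : Nat.Coprime (p ^ k) K.index :=
    Nat.Coprime.pow_left k ((Nat.Prime.coprime_iff_not_dvd hp.out).mpr h)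
  have h4 : orderOf (x : G ⧸ K) = 1 := Nat.eq_one_of_dvd_coprimes hcop h2 h3
  rw [orderOf_eq_one_iff, QuotientGroup.eq_one_iff] at h4
  exact h4

end GroupAux

section Count

variable {G : Type*} [Group G] [Fintype G] [Fintype (Cfsg.IrrCharacter G)]

theorem sum_sq_nat :
    ∑ χ : Cfsg.IrrCharacter G, Cfsg.charDegree (χ : G → ℂ) ^ 2 = Nat.card G := by
  have h := sum_sq_degrees_finsum (G := G)
  rw [finsum_eq_sum_of_fintype] at h
  have h2 : ((∑ χ : Cfsg.IrrCharacter G, Cfsg.charDegree (χ : G → ℂ) ^ 2 : ℕ) : ℂ) =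
      (Nat.card G : ℂ) := by
    rw [← h]
    push_cast
    refine Finset.sum_congr rfl fun χ _ => ?_
    rw [irr_charDegree_cast]
  exact_mod_cast h2

open Classical in
theorem sum_sq_good_nat (N : Subgroup G) [N.Normal] :
    (∑ χ : Cfsg.IrrCharacter G,
      (if ∀ x ∈ N, (χ : G → ℂ) x = (χ : G → ℂ) 1 then Cfsg.charDegree (χ : G → ℂ) ^ 2 else 0)) *
        Nat.card N = Nat.card G := by
  -- D = sum over n in N of sum_chi chi(n) conj chi(1)
  have hD1 : ∑ n : G, (if n ∈ N then
      ∑ χ : Cfsg.IrrCharacter G, (χ : G → ℂ) n * conj ((χ : G → ℂ) 1) else 0) =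
      (Nat.card G : ℂ) := by
    rw [Finset.sum_eq_single (1 : G)]
    · rw [if_pos N.one_mem, irr_column_orthogonality, if_pos (IsConj.refl 1)]
      have : Subgroup.centralizer ({1} : Set G) = ⊤ := by
        ext x
        simp [Subgroup.mem_centralizer_iff]
      rw [this, Subgroup.card_top]
    · intro n _ hn
      split_ifs
      · rw [irr_column_orthogonality, if_neg]
        rw [isConj_one_left]
        exact hn
      · rfl
    · intro h; exact absurd (Finset.mem_univ _) h
  have hD2 : ∑ n : G, (if n ∈ N then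
      ∑ χ : Cfsg.IrrCharacter G, (χ : G → ℂ) n * conj ((χ : G → ℂ) 1) else 0) =
      ((∑ χ : Cfsg.IrrCharacter G,
        (if ∀ x ∈ N, (χ : G → ℂ) x = (χ : G → ℂ) 1 then
          Cfsg.charDegree (χ : G → ℂ) ^ 2 else 0) : ℕ) : ℂ) * (Nat.card N : ℂ) := by
    have h1 : ∀ n : G, (if n ∈ N then
        ∑ χ : Cfsg.IrrCharacter G, (χ : G → ℂ) n * conj ((χ : G → ℂ) 1) else 0) =
        ∑ χ : Cfsg.IrrCharacter G, conj ((χ : G → ℂ) 1) *
          (if n ∈ N then (χ : G → ℂ) (1 * n) else 0) := by
      intro n
      split_ifs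
      · refine Finset.sum_congr rfl fun χ _ => ?_
        rw [one_mul, mul_comm]
      · simp
    simp only [h1]
    rw [Finset.sum_comm]
    push_cast
    rw [Finset.sum_mul]
    refine Finset.sum_congr rfl fun χ _ => ?_
    rw [← Finset.mul_sum]
    split_ifs with hgood
    · rw [(irr_sum_normal χ N 1).1 hgood, irr_one_conj, irr_charDegree_cast]
      ring
    · push Not at hgood
      rw [(irr_sum_normal χ N 1).2 hgood, mul_zero, zero_mul]
  have h3 := hD2.symm.trans hD1
  exact_mod_cast h3

end Count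

/-- The codegree of an irreducible complex character χ of a finite group G is [G : ker χ] / χ(1), where ker χ is the set of elements at which χ takes the value χ(1). A prime divides the order of G if and only if it divides the codegree of some irreducible complex character of G. -/
theorem result {G : Type*} [Group G] [Finite G] (p : ℕ) (hp : p.Prime) : p ∣ Nat.card G ↔ ∃ χ : Cfsg.IrrCharacter G, p ∣ (Nat.card G / (Nat.card {g : G // (χ : G → ℂ) g = (χ : G → ℂ) 1} * Cfsg.charDegree (χ : G → ℂ))) := by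
  classical
  have := Fintype.ofFinite G
  have := Fintype.ofFinite (Cfsg.IrrCharacter G)
  have hfact : Fact p.Prime := ⟨hp⟩
  constructor
  · intro hpG
    obtain ⟨P⟩ := Sylow.nonempty (p := p) (G := G)
    set N : Subgroup G := Subgroup.normalClosure ((P : Subgroup G) : Set G) with hN
    have hPN : (P : Subgroup G) ≤ N := Subgroup.le_normalClosure
    have hpN : p ∣ Nat.card N :=
      dvd_trans (P.dvd_card_of_dvd_card hpG) (Subgroup.card_dvd_of_le hPN)
    have hpidx : ¬ p ∣ N.index := fun h =>
      P.not_dvd_index (dvd_trans h (Subgroup.index_dvd_of_le hPN))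
    -- the counting identities
    have hS1 := sum_sq_nat (G := G)
    have hS2 := sum_sq_good_nat (G := G) N
    set A : ℕ := ∑ χ : Cfsg.IrrCharacter G,
      (if ∀ x ∈ N, (χ : G → ℂ) x = (χ : G → ℂ) 1 then
        Cfsg.charDegree (χ : G → ℂ) ^ 2 else 0) with hA
    set B : ℕ := ∑ χ : Cfsg.IrrCharacter G,
      (if ∀ x ∈ N, (χ : G → ℂ) x = (χ : G → ℂ) 1 then 0 else
        Cfsg.charDegree (χ : G → ℂ) ^ 2) with hB
    have hAB : A + B = Nat.card G := by
      rw [← hS1, hA, hB, ← Finset.sum_add_distrib]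
      refine Finset.sum_congr rfl fun χ _ => ?_
      split_ifs <;> simp
    have hNpos : 0 < Nat.card N := Nat.card_pos
    have hAidx : A = N.index := by
      have h1 : A * Nat.card N = N.index * Nat.card N := by
        rw [hS2, Subgroup.index_mul_card]
      exact Nat.eq_of_mul_eq_mul_right hNpos h1
    -- some bad character has degree prime to p
    have hex : ∃ χ : Cfsg.IrrCharacter G, (∃ x ∈ N, (χ : G → ℂ) x ≠ (χ : G → ℂ) 1) ∧
        ¬ p ∣ Cfsg.charDegree (χ : G → ℂ) := by
      by_contra hcon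
      push Not at hcon
      have hpB : p ∣ B := by
        rw [hB]
        refine Finset.dvd_sum fun χ _ => ?_
        split_ifs with hgood
        · exact dvd_zero _
        · push Not at hgood
          exact dvd_pow (hcon χ hgood) two_ne_zero
      have hB2 : B = A * (Nat.card N - 1) := by
        have h1 : A + B = A * Nat.card N := by rw [hAB, hS2]
        have h2 : A * Nat.card N = A + A * (Nat.card N - 1) := by
          obtain ⟨m, hm⟩ : ∃ m, Nat.card N = m + 1 := ⟨Nat.card N - 1, by omega⟩
          rw [hm]; simp; ring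
        omega
      rw [hB2, hAidx] at hpB
      rcases (Nat.Prime.dvd_mul hp).mp hpB with h | h
      · exact hpidx h
      · have : p ∣ 1 := by
          have h2 : Nat.card N - (Nat.card N - 1) = 1 := by omega
          rw [← h2]
          exact Nat.dvd_sub hpN h
        exact hp.one_lt.ne' (Nat.dvd_one.mp this)
    obtain ⟨χ, ⟨x, hxN, hxne⟩, hpd⟩ := hex
    refine ⟨χ, ?_⟩
    obtain ⟨K, hKn, hK, hdvd⟩ := irr_exists_ker χ
    have hcard : Nat.card {g : G // (χ : G → ℂ) g = (χ : G → ℂ) 1} = Nat.card K :=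
      Nat.card_congr (Equiv.subtypeEquivRight (fun g => (hK g).symm))
    have hNK : ¬ N ≤ K := fun h => hxne ((hK x).mp (h hxN))
    have hPK : ¬ (P : Subgroup G) ≤ K := fun h =>
      hNK (Subgroup.normalClosure_le_normal h)
    have hpK : p ∣ K.index := by
      by_contra h
      exact hPK (pgroup_le_of_not_dvd_index p P P.isPGroup' K h)
    rw [hcard, ← Nat.div_div_eq_div_mul]
    have hidx : Nat.card G / Nat.card K = K.index := by
      rw [← Subgroup.card_mul_index K, Nat.mul_div_cancel_left _ Nat.card_pos]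
    rw [hidx]
    obtain ⟨c, hc⟩ := hdvd
    rw [hc, Nat.mul_div_cancel_left _ (irr_charDegree_pos χ)]
    rw [hc] at hpK
    exact ((Nat.Prime.dvd_mul hp).mp hpK).resolve_left hpd
  · rintro ⟨χ, hχ⟩
    have hm := irr_card_ker_mul_degree_dvd χ
    exact dvd_trans hχ (Nat.div_dvd_of_dvd hm)

end Cfsg.Agent.S4808
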