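import Cfsg.Statements.S4493
import Cfsg.Agent.S0855
import Cfsg.Agent.S4808
import Cfsg.Agent.Lib.Helper24.SolvableMin
import Cfsg.Agent.Lib.Helper79.Basic

set_option autoImplicit false
set_option linter.style.haveILetI false
open Cfsg

namespace Cfsg.Agent.S4493

universe u

/-- degrees of a normal subgroup are prime to `p` when those of the group are -/
theorem degrees_normal {G : Type u} [Group G] [Finite G] (p : ℕ)
    (h : ∀ χ : Cfsg.IrrCharacter G, ¬ p ∣ Cfsg.charDegree (χ : G → ℂ))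
    (M : Subgroup G) [M.Normal] (ψ : Cfsg.IrrCharacter M) :
    ¬ p ∣ Cfsg.charDegree (ψ : M → ℂ) := by
  classical
  have := Fintype.ofFinite G
  obtain ⟨χ, hχ⟩ := Cfsg.Agent.S0966.exists_over M ψ
  have h1 := (Cfsg.Agent.S0887.result M (χ : G → ℂ) χ.2 (ψ : M → ℂ) ψ.2 hχ _ _
    (Cfsg.Agent.Lib.Helper80.irr_charDegree_cast χ).symm
    (Cfsg.Agent.Lib.Helper80.irr_charDegree_cast ψ).symm).1
  intro h2
  exact h χ (dvd_trans h2 h1)

/-- the converse direction, by induction on the order -/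
theorem aux (p : ℕ) (hp : p.Prime) : ∀ (n : ℕ) (G : Type u) [Group G] [Finite G],
    Nat.card G = n → Group.IsSolvable G →
    (∀ χ : Cfsg.IrrCharacter G, ¬ p ∣ Cfsg.charDegree (χ : G → ℂ)) →
    ∃ P : Subgroup G, P.Normal ∧ (∀ x ∈ P, ∀ y ∈ P, x * y = y * x) ∧ IsPGroup p P ∧
      ¬ p ∣ P.index := by
  intro n
  induction n using Nat.strong_induction_on with
  | _ n ih =>
  intro G _ _ hn hsolv hdeg
  classical
  haveI : Fact p.Prime := ⟨hp⟩
  by_cases htriv : Subsingleton G
  · refine ⟨⊥, inferInstance, ?_, IsPGroup.of_bot, ?_⟩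
    · intro x hx y hy
      exact Subsingleton.elim _ _
    · rw [Subgroup.index_bot, Nat.card_of_subsingleton (1 : G)]
      exact hp.one_lt.ne' ∘ Nat.dvd_one.1
  rw [not_subsingleton_iff_nontrivial] at htriv
  haveI := htriv
  haveI := hsolv
  obtain ⟨q, hq, N, hNn, hNne, hNq⟩ :=
    Cfsg.Agent.Lib.Helper24.exists_normal_pSubgroup_of_solvable G
  haveI := hNn
  haveI : Fact q.Prime := ⟨hq⟩
  -- the quotient
  have hcardlt : Nat.card (G ⧸ N) < n := by
    rw [← hn, ← Subgroup.index_eq_card]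
    have h1 := Subgroup.card_mul_index N
    have h2 : 1 < Nat.card N := by
      rcases Nat.lt_or_ge 1 (Nat.card N) with h | h
      · exact h
      · exfalso
        have : Nat.card N = 1 := le_antisymm h Nat.card_pos
        exact hNne (Subgroup.card_eq_one.1 this)
    have h3 : 0 < N.index := Nat.pos_of_ne_zero Subgroup.index_ne_zero_of_finite
    nlinarith
  have hdegQ : ∀ χ : Cfsg.IrrCharacter (G ⧸ N), ¬ p ∣ Cfsg.charDegree (χ : G ⧸ N → ℂ) := by
    intro χ
    have h1 := Cfsg.Agent.Lib.Helper79.isIrrCharacter_inflate N χ.2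
    have h2 := hdeg ⟨_, h1⟩
    exact h2
  obtain ⟨S, hSn, hScomm, hSp, hSidx⟩ :=
    ih _ hcardlt (G ⧸ N) rfl inferInstance hdegQ
  haveI := hSn
  set M : Subgroup G := S.comap (QuotientGroup.mk' N) with hM
  haveI hMn : M.Normal := Subgroup.Normal.comap hSn _
  have := Fintype.ofFinite M
  have hMidx : M.index = S.index :=
    Subgroup.index_comap_of_surjective S (QuotientGroup.mk'_surjective N)
  have hNM : N ≤ M := by
    intro x hx
    rw [hM, Subgroup.mem_comap]
    have : (QuotientGroup.mk' N) x = 1 := (QuotientGroup.eq_one_iff x).2 hx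
    rw [this]
    exact S.one_mem
  -- powers land in N
  have hpow : ∀ x ∈ M, ∃ k : ℕ, x ^ p ^ k ∈ N := by
    intro x hx
    obtain ⟨k, hk⟩ := hSp ⟨(QuotientGroup.mk' N) x, hx⟩
    refine ⟨k, ?_⟩
    have h1 := congrArg Subtype.val hk
    rw [Subgroup.coe_pow, Subgroup.coe_one] at h1
    have h2 : ((QuotientGroup.mk' N) (x ^ p ^ k)) = 1 := by
      rw [map_pow]
      exact h1
    exact (QuotientGroup.eq_one_iff _).1 h2
  have hdegM := degrees_normal p hdeg M
  by_cases hqp : q = p
  · subst hqp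
    -- M is a p-group
    have hMp : IsPGroup q M := by
      rintro ⟨x, hx⟩
      obtain ⟨k, hk⟩ := hpow x hx
      obtain ⟨j, hj⟩ := hNq ⟨_, hk⟩
      refine ⟨k + j, ?_⟩
      apply Subtype.ext
      have h1 := congrArg Subtype.val hj
      rw [Subgroup.coe_pow, Subgroup.coe_one] at h1 ⊢
      rw [pow_add, pow_mul]
      exact h1
    refine ⟨M, hMn, ?_, hMp, by rw [hMidx]; exact hSidx⟩
    have hlin : ∀ ψ : Cfsg.IrrCharacter M, (ψ : M → ℂ) 1 = 1 := by
      intro ψ
      obtain ⟨d, hd, hdvd, hd0⟩ := Cfsg.Agent.Lib.Helper3.IsIrrCharacter.apply_one_dvd_card ψ.2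
      obtain ⟨k, hk⟩ := IsPGroup.iff_card.1 hMp
      rw [hk] at hdvd
      obtain ⟨j, -, hj⟩ := (Nat.dvd_prime_pow hp).1 hdvd
      have h1 : Cfsg.charDegree (ψ : M → ℂ) = d :=
        Cfsg.Agent.Lib.Helper81.charDegree_eq_of_apply_one hd
      have h2 := hdegM ψ
      rw [h1, hj] at h2
      have hj0 : j = 0 := by
        by_contra hne
        exact h2 (dvd_pow_self q hne)
      rw [hd, hj, hj0, pow_zero, Nat.cast_one]
    intro a ha b hb
    have := Cfsg.Agent.S0855.comm_of_all_linear hlin ⟨a, ha⟩ ⟨b, hb⟩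
    exact congrArg Subtype.val this
  · -- all degrees of M are powers of q
    set N' : Subgroup M := N.subgroupOf M with hN'
    haveI hN'n : N'.Normal := Subgroup.Normal.subgroupOf hNn M
    have := Fintype.ofFinite N'
    have hN'q : IsPGroup q N' := by
      rintro ⟨x, hx⟩
      obtain ⟨k, hk⟩ := hNq ⟨(x : G), hx⟩
      refine ⟨k, ?_⟩
      apply Subtype.ext
      apply Subtype.ext
      have h1 := congrArg Subtype.val hk
      simpa using h1
    obtain ⟨l, hl⟩ := IsPGroup.iff_card.1 hN'q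
    have hquot : IsPGroup p (M ⧸ N') := by
      intro x
      induction x using QuotientGroup.induction_on with
      | H x =>
        obtain ⟨k, hk⟩ := hpow x x.2
        refine ⟨k, ?_⟩
        rw [← QuotientGroup.mk_pow, QuotientGroup.eq_one_iff]
        show ((x ^ p ^ k : M) : G) ∈ N
        rw [Subgroup.coe_pow]
        exact hk
    obtain ⟨j, hj⟩ := IsPGroup.iff_card.1 hquot
    have hidx : N'.index = p ^ j := by rw [Subgroup.index_eq_card, hj]
    have hcardM : Nat.card M = q ^ l * p ^ j := by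
      rw [← Subgroup.card_mul_index N', hl, hidx]
    have hall : ∀ χ : Cfsg.IrrCharacter M, ∃ k : ℕ, (χ : M → ℂ) 1 = (q : ℂ) ^ k := by
      intro χ
      obtain ⟨θ, hθ, hcon⟩ := Cfsg.Agent.Lib.Helper79.exists_irr_constituent_restrict N' χ.2
      obtain ⟨d, hd, hdvd, hd0⟩ := Cfsg.Agent.Lib.Helper3.IsIrrCharacter.apply_one_dvd_card hθ
      set c := Cfsg.charDegree (χ : M → ℂ) with hc
      have hc1 : (χ : M → ℂ) 1 = (c : ℂ) := (Cfsg.Agent.Lib.Helper80.irr_charDegree_cast χ).symm
      obtain ⟨h1, h2⟩ := Cfsg.Agent.S0887.result N' (χ : M → ℂ) χ.2 θ hθ hcon c d hc1 hd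
      rw [hidx] at h2
      obtain ⟨i, -, hi⟩ := (Nat.dvd_prime_pow hp).1 h2
      have hcd : c = d * p ^ i := by
        rw [← hi]
        exact (Nat.mul_div_cancel' h1).symm
      have hi0 : i = 0 := by
        by_contra hne
        apply hdegM χ
        rw [← hc, hcd]
        exact dvd_mul_of_dvd_right (dvd_pow_self p hne) d
      rw [hi0, pow_zero, mul_one] at hcd
      rw [hl] at hdvd
      obtain ⟨r, -, hr⟩ := (Nat.dvd_prime_pow hq).1 hdvd
      refine ⟨r, ?_⟩
      rw [hc1, hcd, hr]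
      push_cast
      rfl
    obtain ⟨A, hAn, hAcomm, hAcop, k, hAk⟩ := (Cfsg.Agent.S0855.result (G := M) q hq).1 hall
    haveI := hAn
    -- A is a p-group
    have hAcard : Nat.card A ∣ p ^ j := by
      have h1 : Nat.card A ∣ q ^ l * p ^ j := by
        rw [← hcardM]
        exact Subgroup.card_subgroup_dvd_card A
      exact (Nat.Coprime.pow_right l hAcop).dvd_of_dvd_mul_left h1
    obtain ⟨i, -, hi⟩ := (Nat.dvd_prime_pow hp).1 hAcard
    have hAp : IsPGroup p A := IsPGroup.of_card hi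
    have hAidx : ¬ p ∣ A.index := by
      rw [hAk]
      intro h
      have := (Nat.prime_dvd_prime_iff_eq hp hq).1 (hp.dvd_of_dvd_pow h)
      exact hqp this.symm
    refine ⟨A.map M.subtype, ?_, ?_, ?_, ?_⟩
    · constructor
      rintro x ⟨a, ha, rfl⟩ g
      have hgM : g * (a : G) * g⁻¹ ∈ M := hMn.conj_mem a a.2 g
      refine ⟨⟨_, hgM⟩, ?_, rfl⟩
      have hle := Cfsg.Agent.S4808.pgroup_le_of_not_dvd_index p
        (A.map (MulAut.conjNormal g : MulAut M).toMonoidHom)
        (hAp.map _) A hAidx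
      apply hle
      refine ⟨a, ha, ?_⟩
      apply Subtype.ext
      simp [MulAut.conjNormal_apply]
    · rintro x ⟨a, ha, rfl⟩ y ⟨b, hb, rfl⟩
      have := hAcomm a ha b hb
      exact congrArg Subtype.val this
    · exact hAp.map _
    · have h1 : (A.map M.subtype).index = A.index * M.index := by
        rw [Subgroup.index_map_subtype]
      rw [h1, hMidx]
      intro h
      rcases (Nat.Prime.dvd_mul hp).1 h with h | h
      · exact hAidx h
      · exact hSidx h

/-- Let G be a finite solvable group and p a prime. Then G has a normal abelian Sylow p-subgroup if and only if no irreducible character degree of G is divisible by p. -/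
theorem result {G : Type*} [Group G] [Finite G] (hsolv : Group.IsSolvable G) (p : ℕ) (hp : p.Prime) : (∃ P : Subgroup G, P.Normal ∧ (∀ x ∈ P, ∀ y ∈ P, x * y = y * x) ∧ IsPGroup p P ∧ ¬ p ∣ P.index) ↔ ∀ χ : Cfsg.IrrCharacter G, ¬ p ∣ Cfsg.charDegree (χ : G → ℂ) := by
  classical
  have := Fintype.ofFinite G
  constructor
  · rintro ⟨P, hPn, hcomm, -, hidx⟩ χ hdvd
    haveI := hPn
    have h1 := Cfsg.Agent.Lib.Helper79.ito_aux _ G rfl P hcomm (χ : G → ℂ) χ.2 _
      (Cfsg.Agent.Lib.Helper80.irr_charDegree_cast χ).symm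
    exact hidx (dvd_trans hdvd h1)
  · intro hdeg
    exact aux p hp _ G rfl hsolv hdeg

end Cfsg.Agent.S4493
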