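import Cfsg.Statements.S4713
import Cfsg.Agent.S4493
import Cfsg.Agent.Lib.Helper76.PSolvable
import Cfsg.Agent.Lib.Helper79.Ito
import Cfsg.Agent.Lib.Helper80.CoprimeInvariant

set_option autoImplicit false
set_option linter.style.haveILetI false
open Cfsg

namespace Cfsg.Agent.S4713

universe u

/-- the converse direction, by induction on the order -/
theorem aux (p : ℕ) (hp : p.Prime) : ∀ (n : ℕ) (G : Type u) [Group G] [Finite G],
    Nat.card G = n → Cfsg.IsPSolvable p G →
    (∀ χ : Cfsg.IrrCharacter G, ¬ p ∣ Cfsg.charDegree (χ : G → ℂ)) →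
    ∃ P : Subgroup G, P.Normal ∧ (∀ x ∈ P, ∀ y ∈ P, x * y = y * x) ∧ IsPGroup p P ∧
      ¬ p ∣ P.index := by
  intro n
  induction n using Nat.strong_induction_on with
  | _ n ih =>
  intro G _ _ hn hsolv hdeg
  classical
  haveI : Fact p.Prime := ⟨hp⟩
  by_cases htriv : Subsingleton G
  · refine ⟨⊥, inferInstance, ?_, IsPGroup.of_bot, ?_⟩
    · intro x hx y hy
      exact Subsingleton.elim _ _
    · rw [Subgroup.index_bot, Nat.card_of_subsingleton (1 : G)]
      exact hp.one_lt.ne' ∘ Nat.dvd_one.1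
  rw [not_subsingleton_iff_nontrivial] at htriv
  haveI := htriv
  obtain ⟨N, hNn, hNne, hNq⟩ := Cfsg.Agent.Lib.Helper76.exists_normal_of_isPSolvable hsolv
  haveI := hNn
  -- the quotient
  have hcardlt : Nat.card (G ⧸ N) < n := by
    rw [← hn, ← Subgroup.index_eq_card]
    have h1 := Subgroup.card_mul_index N
    have h2 : 1 < Nat.card N := by
      rcases Nat.lt_or_ge 1 (Nat.card N) with h | h
      · exact h
      · exfalso
        have : Nat.card N = 1 := le_antisymm h Nat.card_pos
        exact hNne (Subgroup.card_eq_one.1 this)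
    have h3 : 0 < N.index := Nat.pos_of_ne_zero Subgroup.index_ne_zero_of_finite
    nlinarith
  have hdegQ : ∀ χ : Cfsg.IrrCharacter (G ⧸ N), ¬ p ∣ Cfsg.charDegree (χ : G ⧸ N → ℂ) := by
    intro χ
    have h1 := Cfsg.Agent.Lib.Helper79.isIrrCharacter_inflate N χ.2
    have h2 := hdeg ⟨_, h1⟩
    exact h2
  obtain ⟨S, hSn, hScomm, hSp, hSidx⟩ :=
    ih _ hcardlt (G ⧸ N) rfl (Cfsg.Agent.Lib.Helper76.isPSolvable_quotient N hsolv) hdegQ
  haveI := hSn
  set M : Subgroup G := S.comap (QuotientGroup.mk' N) with hM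
  haveI hMn : M.Normal := Subgroup.Normal.comap hSn _
  have := Fintype.ofFinite M
  have hMidx : M.index = S.index :=
    Subgroup.index_comap_of_surjective S (QuotientGroup.mk'_surjective N)
  have hNM : N ≤ M := by
    intro x hx
    rw [hM, Subgroup.mem_comap]
    have : (QuotientGroup.mk' N) x = 1 := (QuotientGroup.eq_one_iff x).2 hx
    rw [this]
    exact S.one_mem
  -- powers land in N
  have hpow : ∀ x ∈ M, ∃ k : ℕ, x ^ p ^ k ∈ N := by
    intro x hx
    obtain ⟨k, hk⟩ := hSp ⟨(QuotientGroup.mk' N) x, hx⟩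
    refine ⟨k, ?_⟩
    have h1 := congrArg Subtype.val hk
    rw [Subgroup.coe_pow, Subgroup.coe_one] at h1
    have h2 : ((QuotientGroup.mk' N) (x ^ p ^ k)) = 1 := by
      rw [map_pow]
      exact h1
    exact (QuotientGroup.eq_one_iff _).1 h2
  have hdegM := Cfsg.Agent.S4493.degrees_normal p hdeg M
  -- the final step: push a normal abelian Sylow subgroup of `M` to `G`
  have hfinal : ∀ A : Subgroup M, A.Normal → (∀ x ∈ A, ∀ y ∈ A, x * y = y * x) → IsPGroup p A →
      ¬ p ∣ A.index → ∃ P : Subgroup G, P.Normal ∧ (∀ x ∈ P, ∀ y ∈ P, x * y = y * x) ∧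
        IsPGroup p P ∧ ¬ p ∣ P.index := by
    intro A hAn hAcomm hAp hAidx
    haveI := hAn
    refine ⟨A.map M.subtype, ?_, ?_, ?_, ?_⟩
    · constructor
      rintro x ⟨a, ha, rfl⟩ g
      have hgM : g * (a : G) * g⁻¹ ∈ M := hMn.conj_mem a a.2 g
      refine ⟨⟨_, hgM⟩, ?_, rfl⟩
      have hle := Cfsg.Agent.S4808.pgroup_le_of_not_dvd_index p
        (A.map (MulAut.conjNormal g : MulAut M).toMonoidHom)
        (hAp.map _) A hAidx
      apply hle
      refine ⟨a, ha, ?_⟩
      apply Subtype.ext
      simp [MulAut.conjNormal_apply]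
    · rintro x ⟨a, ha, rfl⟩ y ⟨b, hb, rfl⟩
      have := hAcomm a ha b hb
      exact congrArg Subtype.val this
    · exact hAp.map _
    · have h1 : (A.map M.subtype).index = A.index * M.index := by
        rw [Subgroup.index_map_subtype]
      rw [h1, hMidx]
      intro h
      rcases (Nat.Prime.dvd_mul hp).1 h with h | h
      · exact hAidx h
      · exact hSidx h
  rcases hNq with hNq | hNq
  · -- M is a p-group
    have hMp : IsPGroup p M := by
      rintro ⟨x, hx⟩
      obtain ⟨k, hk⟩ := hpow x hx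
      obtain ⟨j, hj⟩ := hNq ⟨_, hk⟩
      refine ⟨k + j, ?_⟩
      apply Subtype.ext
      have h1 := congrArg Subtype.val hj
      rw [Subgroup.coe_pow, Subgroup.coe_one] at h1 ⊢
      rw [pow_add, pow_mul]
      exact h1
    refine ⟨M, hMn, ?_, hMp, by rw [hMidx]; exact hSidx⟩
    have hlin : ∀ ψ : Cfsg.IrrCharacter M, (ψ : M → ℂ) 1 = 1 := by
      intro ψ
      obtain ⟨d, hd, hdvd, hd0⟩ := Cfsg.Agent.Lib.Helper3.IsIrrCharacter.apply_one_dvd_card ψ.2
      obtain ⟨k, hk⟩ := IsPGroup.iff_card.1 hMp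
      rw [hk] at hdvd
      obtain ⟨j, -, hj⟩ := (Nat.dvd_prime_pow hp).1 hdvd
      have h1 : Cfsg.charDegree (ψ : M → ℂ) = d :=
        Cfsg.Agent.Lib.Helper81.charDegree_eq_of_apply_one hd
      have h2 := hdegM ψ
      rw [h1, hj] at h2
      have hj0 : j = 0 := by
        by_contra hne
        exact h2 (dvd_pow_self p hne)
      rw [hd, hj, hj0, pow_zero, Nat.cast_one]
    intro a ha b hb
    have := Cfsg.Agent.S0855.comm_of_all_linear hlin ⟨a, ha⟩ ⟨b, hb⟩
    exact congrArg Subtype.val this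
  · -- N is a p'-group
    set N' : Subgroup M := N.subgroupOf M with hN'
    haveI hN'n : N'.Normal := Subgroup.Normal.subgroupOf hNn M
    have := Fintype.ofFinite N'
    have hN'cop : (Nat.card N').Coprime p := by
      rw [Nat.card_congr (Subgroup.subgroupOfEquivOfLe hNM).toEquiv]
      exact hNq
    have hquot : IsPGroup p (M ⧸ N') := by
      intro x
      induction x using QuotientGroup.induction_on with
      | H x =>
        obtain ⟨k, hk⟩ := hpow x x.2
        refine ⟨k, ?_⟩
        rw [← QuotientGroup.mk_pow, QuotientGroup.eq_one_iff]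
        show ((x ^ p ^ k : M) : G) ∈ N
        rw [Subgroup.coe_pow]
        exact hk
    obtain ⟨j, hj⟩ := IsPGroup.iff_card.1 hquot
    have hidx : N'.index = p ^ j := by rw [Subgroup.index_eq_card, hj]
    have hcardM : Nat.card M = Nat.card N' * p ^ j := by
      rw [← Subgroup.card_mul_index N', hidx]
    obtain ⟨R⟩ : Nonempty (Sylow p M) := inferInstance
    have hRidx : ¬ p ∣ (R : Subgroup M).index := R.not_dvd_index
    obtain ⟨i, hi⟩ := IsPGroup.iff_card.1 R.2
    have hij : p ^ i = p ^ j := by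
      have hmul : p ^ i * (R : Subgroup M).index = Nat.card N' * p ^ j := by
        rw [← hi, Subgroup.card_mul_index, hcardM]
      apply Nat.dvd_antisymm
      · have h1 : p ^ i ∣ Nat.card N' * p ^ j := ⟨_, hmul.symm⟩
        exact (Nat.Coprime.pow_left i hN'cop.symm).dvd_of_dvd_mul_left h1
      · have h1 : p ^ j ∣ (R : Subgroup M).index * p ^ i := ⟨Nat.card N', by rw [mul_comm, hmul, mul_comm]⟩
        have h2 : (p ^ j).Coprime (R : Subgroup M).index :=
          Nat.Coprime.pow_left j ((Nat.Prime.coprime_iff_not_dvd hp).2 hRidx)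
        exact h2.dvd_of_dvd_mul_left h1
    -- R centralizes N'
    have hcent : ∀ x ∈ (R : Subgroup M), ∀ y ∈ N', x * y = y * x := by
      intro x hx
      obtain ⟨k, hk⟩ := R.2 ⟨x, hx⟩
      have hxk : x ^ p ^ k = 1 := by
        have := congrArg Subtype.val hk
        simpa using this
      have hfix : ∀ θ : Cfsg.IrrCharacter N',
          Cfsg.Agent.Lib.Helper75.conjFun N' x (θ : N' → ℂ) = (θ : N' → ℂ) :=
        fun θ => Cfsg.Agent.Lib.Helper80.conjFun_eq_of_degrees p N' ⟨j, hidx⟩ hdegM θ x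
      exact Cfsg.Agent.Lib.Helper80.commute_of_isConj p N' hN'cop x k hxk
        (Cfsg.Agent.Lib.Helper80.isConj_conjNormal_of_fixed N' x hfix)
    -- N' ⊔ R = ⊤
    have hsup : N' ⊔ (R : Subgroup M) = ⊤ := by
      apply (Subgroup.card_eq_iff_eq_top _).1
      apply Nat.dvd_antisymm (Subgroup.card_subgroup_dvd_card _)
      rw [hcardM, ← hij, ← hi]
      apply Nat.Coprime.mul_dvd_of_dvd_of_dvd
      · rw [hi]
        exact Nat.Coprime.pow_right i hN'cop
      · exact Subgroup.card_dvd_of_le le_sup_left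
      · exact Subgroup.card_dvd_of_le le_sup_right
    have hRn : (R : Subgroup M).Normal := by
      rw [← Subgroup.normalizer_eq_top_iff, eq_top_iff, ← hsup, sup_le_iff]
      refine ⟨?_, Subgroup.le_normalizer⟩
      intro y hy
      rw [Subgroup.mem_normalizer_iff]
      intro x
      constructor
      · intro hx
        have h1 := hcent x hx y hy
        have h2 : y * x * y⁻¹ = x := by
          rw [← h1]; group
        rw [h2]; exact hx
      · intro hx
        have h1 := hcent _ hx y hy
        have h2 : x = y * x * y⁻¹ := by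
          have : y * x * y⁻¹ * y = y * (y * x * y⁻¹) := h1
          have h3 : y * x = y * (y * x * y⁻¹) := by
            rw [← this]; group
          exact mul_left_cancel h3
        rw [h2]; exact hx
    have hinf : (R : Subgroup M) ⊓ N' = ⊥ := by
      apply disjoint_iff.1
      apply Subgroup.disjoint_of_coprime_natCard
      rw [hi]
      exact (Nat.Coprime.pow_right i hN'cop).symm
    have hRcomm : ∀ x ∈ (R : Subgroup M), ∀ y ∈ (R : Subgroup M), x * y = y * x := by
      intro a ha b hb
      have h1 : a * b * a⁻¹ * b⁻¹ ∈ (R : Subgroup M) ⊓ N' := by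
        refine ⟨?_, ?_⟩
        · exact (R : Subgroup M).mul_mem ((R : Subgroup M).mul_mem ((R : Subgroup M).mul_mem ha hb)
            ((R : Subgroup M).inv_mem ha)) ((R : Subgroup M).inv_mem hb)
        · show ((a * b * a⁻¹ * b⁻¹ : M) : G) ∈ N
          rw [← QuotientGroup.eq_one_iff]
          have h2 := hScomm ((QuotientGroup.mk' N) (a : G)) a.2 ((QuotientGroup.mk' N) (b : G)) b.2
          push_cast
          have h3 : ((QuotientGroup.mk' N) (a : G)) * ((QuotientGroup.mk' N) (b : G)) *
              ((QuotientGroup.mk' N) (a : G))⁻¹ * ((QuotientGroup.mk' N) (b : G))⁻¹ = 1 := by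
            rw [h2]; group
          simpa using h3
      rw [hinf, Subgroup.mem_bot] at h1
      calc a * b = a * b * a⁻¹ * b⁻¹ * (b * a) := by group
        _ = b * a := by rw [h1, one_mul]
    exact hfinal (R : Subgroup M) hRn hRcomm R.2 hRidx

/-- Let p be a prime and G a finite p-solvable group. Then G has a normal abelian Sylow p-subgroup if and only if the degree of every irreducible character of G is prime to p. -/
theorem result {G : Type*} [Group G] [Finite G] (p : ℕ) [Fact p.Prime] (hsolv : Cfsg.IsPSolvable p G) (P : Sylow p G) : ((P : Subgroup G).Normal ∧ IsMulCommutative P) ↔ ∀ χ : Cfsg.IrrCharacter G, ¬ p ∣ Cfsg.charDegree (χ : G → ℂ) := by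
  classical
  have := Fintype.ofFinite G
  have hp : p.Prime := Fact.out
  constructor
  · rintro ⟨hPn, hcomm⟩ χ hdvd
    haveI := hPn
    have hcomm' : ∀ x ∈ (P : Subgroup G), ∀ y ∈ (P : Subgroup G), x * y = y * x := by
      intro x hx y hy
      have := hcomm.is_comm.comm (⟨x, hx⟩ : P) ⟨y, hy⟩
      exact congrArg Subtype.val this
    have h1 := Cfsg.Agent.Lib.Helper79.ito_aux _ G rfl (P : Subgroup G) hcomm' (χ : G → ℂ) χ.2 _
      (Cfsg.Agent.Lib.Helper80.irr_charDegree_cast χ).symm
    exact P.not_dvd_index (dvd_trans hdvd h1)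
  · intro hdeg
    obtain ⟨Q, hQn, hQcomm, hQp, hQidx⟩ := aux p hp _ G rfl hsolv hdeg
    haveI := hQn
    have h1 : (P : Subgroup G) ≤ Q :=
      Cfsg.Agent.S4808.pgroup_le_of_not_dvd_index p (P : Subgroup G) P.2 Q hQidx
    have h2 : Q = (P : Subgroup G) := P.is_maximal' hQp h1
    subst h2
    refine ⟨hQn, ⟨⟨?_⟩⟩⟩
    rintro ⟨x, hx⟩ ⟨y, hy⟩
    apply Subtype.ext
    exact hQcomm x hx y hy

end Cfsg.Agent.S4713
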