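import Cfsg.Statements.S0967
import Cfsg.Agent.S0938
import Cfsg.Agent.Lib.Helper79.Basic
import Cfsg.Agent.Lib.Helper77.DefectClass

set_option autoImplicit false
open Cfsg

namespace Cfsg.Agent.S0967

open Cfsg.Agent.Lib.Helper16 Cfsg.Agent.Lib.Helper77 Cfsg.Agent.Lib.Helper80 Cfsg.Agent.Lib.Helper81

/-- Summing a function of the coset over the group. -/
theorem sum_comp_mk {G : Type*} [Group G] [Fintype G] (N : Subgroup G) [N.Normal]
    [Fintype (G ⧸ N)] (f : G ⧸ N → ℂ) :
    ∑ g : G, f (g : G ⧸ N) = (Nat.card N : ℂ) * ∑ x : G ⧸ N, f x := by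
  classical
  rw [← Finset.sum_fiberwise (s := Finset.univ) (g := fun g : G => (g : G ⧸ N))
    (f := fun g : G => f (g : G ⧸ N)), Finset.mul_sum]
  refine Finset.sum_congr rfl fun x _ => ?_
  have : ∀ g ∈ Finset.univ.filter (fun g : G => (g : G ⧸ N) = x), f (g : G ⧸ N) = f x := by
    intro g hg
    rw [(Finset.mem_filter.mp hg).2]
  rw [Finset.sum_congr rfl this, Finset.sum_const, nsmul_eq_mul]
  congr 2
  have h := QuotientGroup.card_preimage_mk N ({x} : Set (G ⧸ N))
  have h1 : Nat.card ({x} : Set (G ⧸ N)) = 1 := by simp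
  rw [h1, mul_one] at h
  rw [← h, Nat.card_eq_fintype_card, Fintype.card_subtype]
  simp

/-- The central character of an inflated function at an (averaged) inflated coefficient
function. -/
theorem omega_inflate {G : Type*} [Group G] [Fintype G] (N : Subgroup G) [N.Normal]
    [Fintype (G ⧸ N)] (φ b : G ⧸ N → ℂ) :
    omega (fun g : G => φ (g : G ⧸ N)) (fun g : G => (Nat.card N : ℂ)⁻¹ * b (g : G ⧸ N)) =
      omega φ b := by
  have hN : (Nat.card N : ℂ) ≠ 0 := Nat.cast_ne_zero.mpr Nat.card_pos.ne'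
  unfold omega
  show (∑ g : G, (Nat.card N : ℂ)⁻¹ * b (g : G ⧸ N) * φ (g : G ⧸ N)) / φ ((1 : G) : G ⧸ N) = _
  rw [QuotientGroup.mk_one]
  congr 1
  have := sum_comp_mk N (fun x : G ⧸ N => (Nat.card N : ℂ)⁻¹ * b x * φ x)
  rw [this, Finset.mul_sum]
  refine Finset.sum_congr rfl fun x _ => ?_
  field_simp

/-- Let N be a normal subgroup of the finite group G of order prime to p and fix a maximal ideal M of the algebraic integers containing p. If χ is an irreducible character of G ⧸ N and ψ lies in the block of its inflation χ ∘ (quotient map), then ψ is itself inflated from an irreducible character ψ' of G ⧸ N lying in the block of χ. (Over a normal p'-subgroup, blocks of the quotient are whole blocks of G.) -/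
theorem result {G : Type*} [Group G] [Finite G] (p : ℕ) [Fact p.Prime] (M : Ideal Cfsg.AlgInt) (hM : Cfsg.IsPModular p M) (N : Subgroup G) [N.Normal] (hN : ¬ p ∣ Nat.card N) (χ : Cfsg.IrrCharacter (G ⧸ N)) (ψ : Cfsg.IrrCharacter G) (hψ : ψ ∈ Cfsg.blockOf M ((χ : G ⧸ N → ℂ) ∘ QuotientGroup.mk)) : ∃ ψ' : Cfsg.IrrCharacter (G ⧸ N), (ψ : G → ℂ) = (ψ' : G ⧸ N → ℂ) ∘ QuotientGroup.mk ∧ Cfsg.SameBlock M (χ : G ⧸ N → ℂ) (ψ' : G ⧸ N → ℂ) := by
  classical
  have := Fintype.ofFinite G
  have := Fintype.ofFinite (G ⧸ N)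
  have hMp : M.IsPrime := isPrime_of_isPModular hM
  -- the inflation of χ
  set χI : Cfsg.IrrCharacter G :=
    ⟨fun g : G => (χ : G ⧸ N → ℂ) (g : G ⧸ N),
      Cfsg.Agent.Lib.Helper79.isIrrCharacter_inflate N χ.2⟩ with hχI
  have hχIeq : (χI : G → ℂ) = (χ : G ⧸ N → ℂ) ∘ QuotientGroup.mk := rfl
  rw [← hχIeq] at hψ
  -- N lies in the kernel of ψ
  obtain ⟨K, _, hK, _, _, hKmax⟩ := Cfsg.Agent.S0938.result p M hM
    (Cfsg.blockOf M (χI : G → ℂ)) ⟨χI, rfl⟩ χI (self_mem_blockOf hMp χI)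
  have hNK : N ≤ K := by
    refine hKmax N inferInstance hN fun g hg => ?_
    show (χ : G ⧸ N → ℂ) (g : G ⧸ N) = (χ : G ⧸ N → ℂ) ((1 : G) : G ⧸ N)
    rw [(QuotientGroup.eq_one_iff g).mpr hg, QuotientGroup.mk_one]
  have hker : ∀ n ∈ N, (ψ : G → ℂ) n = (ψ : G → ℂ) 1 := by
    intro n hn
    have : n ∈ (K : Set G) := hNK hn
    rw [hK] at this
    exact this ψ hψ
  obtain ⟨ψ', hψ'irr, hψ'val⟩ := Cfsg.Agent.Lib.Helper79.isIrrCharacter_deflate ψ.2 N hker
  refine ⟨⟨ψ', hψ'irr⟩, ?_, ?_⟩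
  · funext g
    exact (hψ'val g).symm
  · intro x
    have hψeq : (ψ : G → ℂ) = fun g : G => ψ' (g : G ⧸ N) := by
      funext g
      exact (hψ'val g).symm
    have hclχ : Cfsg.IsClassFunction (G ⧸ N) (χ : G ⧸ N → ℂ) :=
      isClassFunction_of_isCharacter χ.2
    have hclψ' : Cfsg.IsClassFunction (G ⧸ N) ψ' :=
      isClassFunction_of_isCharacter hψ'irr
    -- the coefficient function
    set a : G → ℂ := fun g : G => (Nat.card N : ℂ)⁻¹ * classInd x (g : G ⧸ N) with ha
    have hacl : Cfsg.IsClassFunction G a := by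
      intro g h
      simp only [ha]
      congr 1
      have : ((h * g * h⁻¹ : G) : G ⧸ N) = (h : G ⧸ N) * (g : G ⧸ N) * (h : G ⧸ N)⁻¹ := by
        simp
      rw [this]
      exact (classInd_isClassFunction x) _ _
    have haS : ∀ g, Cfsg.MemLocalRing M (a g) := by
      intro g
      simp only [ha]
      refine memLocalRing_mul hMp (memLocalRing_inv_natCast hM hN) ?_
      unfold classInd
      split_ifs
      · exact memLocalRing_one hMp
      · exact memLocalRing_zero hMp
    have hsub := memLocalIdeal_omega_sub hMp (isClassFunction_of_isCharacter χI.2)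
      (isClassFunction_of_isCharacter ψ.2) hψ hacl haS
    rw [hψeq] at hsub
    have e1 : omega (χI : G → ℂ) a = centralChar (χ : G ⧸ N → ℂ) x := by
      rw [← omega_classInd hclχ x]
      exact omega_inflate N (χ : G ⧸ N → ℂ) (classInd x)
    have e2 : omega (fun g : G => ψ' (g : G ⧸ N)) a = centralChar ψ' x := by
      rw [← omega_classInd hclψ' x]
      exact omega_inflate N ψ' (classInd x)
    rw [e1, e2] at hsub
    exact hsub

end Cfsg.Agent.S0967
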