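import Cfsg.Statements.S4487
import Cfsg.Agent.Lib.Helper77.Nilpotent2
import Cfsg.Agent.Lib.Helper84.PCore

set_option autoImplicit false
open Cfsg

namespace Cfsg.Agent.S4487

/-- Let G be a finite group and p a prime such that G has no non-trivial normal subgroup of order prime to p and C_G(O_p(G)) ≤ O_p(G). Then G has a single p-block: any two irreducible characters lie in the same block relative to every maximal ideal M of the algebraic integers containing p. -/
theorem result {G : Type*} [Group G] [Finite G] (p : ℕ) [Fact p.Prime] (M : Ideal Cfsg.AlgInt) (hM : Cfsg.IsPModular p M) (hcore : Cfsg.pPrimeCore p G = ⊥) (hconstr : Subgroup.centralizer ((Cfsg.pCore p G) : Set G) ≤ Cfsg.pCore p G) (χ ψ : Cfsg.IrrCharacter G) : Cfsg.SameBlock M (χ : G → ℂ) (ψ : G → ℂ) := by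
  classical
  have := Fintype.ofFinite G
  have hMp : M.IsPrime := Cfsg.Agent.Lib.Helper81.isPrime_of_isPModular hM
  have hN : (Cfsg.pCore p G).Normal := Cfsg.Agent.Lib.Helper84.pCore_normal p G
  have hNp : IsPGroup p (Cfsg.pCore p G) := Cfsg.Agent.Lib.Helper84.pCore_isPGroup p G
  intro g
  by_cases hg : g ∈ Subgroup.centralizer ((Cfsg.pCore p G : Subgroup G) : Set G)
  · have h1 := Cfsg.Agent.Lib.Helper77.memLocalIdeal_centralChar_sub_index hM
      (Cfsg.pCore p G) hNp (hconstr hg) χ.2
    have h2 := Cfsg.Agent.Lib.Helper77.memLocalIdeal_centralChar_sub_index hM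
      (Cfsg.pCore p G) hNp (hconstr hg) ψ.2
    have := Cfsg.Agent.Lib.Helper81.memLocalIdeal_sub hMp h1 h2
    rwa [sub_sub_sub_cancel_right] at this
  · exact Cfsg.Agent.Lib.Helper81.memLocalIdeal_sub hMp
      (Cfsg.Agent.Lib.Helper77.memLocalIdeal_centralChar_of_not_mem_centralizer hM
        (Cfsg.pCore p G) hNp hg χ.2)
      (Cfsg.Agent.Lib.Helper77.memLocalIdeal_centralChar_of_not_mem_centralizer hM
        (Cfsg.pCore p G) hNp hg ψ.2)

end Cfsg.Agent.S4487
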