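import Cfsg.Statements.S4500
import Cfsg.Agent.Lib.Helper16.WBO
import Cfsg.Agent.Lib.Helper74.BrFeit2
import Cfsg.Agent.Lib.Helper74.DZ4
import Cfsg.Agent.Lib.Helper81.OneIrr

set_option autoImplicit false
open Cfsg

namespace Cfsg.Agent.S4500

open scoped ComplexConjugate
open Cfsg.Agent.Lib.Helper81 Cfsg.Agent.Lib.Helper16 Cfsg.Agent.Lib.Helper74

universe u

section
variable {G : Type u} [Group G] [Fintype G]

/-- In the principal `l`-block (`l` a prime dividing `|G|`) there is a nonprincipal character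
of degree prime to `r`. -/
theorem exists_in_principal [Fintype (IrrCharacter G)] (l r : ℕ) [Fact l.Prime] (hr : r.Prime)
    (M : Ideal AlgInt) (hM : IsPModular l M) (hl : l ∣ Nat.card G) :
    ∃ χ : IrrCharacter G, χ ∈ blockOf M ((oneIrr G : IrrCharacter G) : G → ℂ) ∧
      χ ≠ oneIrr G ∧ ¬ r ∣ charDegree (χ : G → ℂ) := by
  classical
  have hl' : l.Prime := Fact.out
  have hMp : M.IsPrime := isPrime_of_isPModular hM
  by_contra hcon
  push Not at hcon
  have hl2 : l ∣ Fintype.card G := by rwa [Nat.card_eq_fintype_card] at hl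
  obtain ⟨y, hy⟩ := exists_prime_orderOf_dvd_card l hl2
  have hwbo := weak_block_orthogonality_finset hM (oneIrr G) (x := 1) (y := y)
    (by rw [orderOf_one]; exact fun h => hl'.one_lt.ne' (Nat.dvd_one.mp h)) (by rw [hy])
  set S := Finset.univ.filter
    (fun χ : IrrCharacter G => χ ∈ blockOf M ((oneIrr G : IrrCharacter G) : G → ℂ)) with hS
  have h1S : oneIrr G ∈ S := by
    rw [hS, Finset.mem_filter]
    exact ⟨Finset.mem_univ _, sameBlock_refl hMp _⟩
  rw [← Finset.add_sum_erase S _ h1S] at hwbo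
  simp only [oneIrr_apply, map_one, mul_one] at hwbo
  set α : ℂ := ∑ χ ∈ S.erase (oneIrr G),
    ((charDegree (χ : G → ℂ) / r : ℕ) : ℂ) * conj ((χ : G → ℂ) y) with hα
  have hαint : IsIntegral ℤ α := by
    apply IsIntegral.sum
    intro χ _
    exact (isIntegral_natCast _).mul
      (map_isIntegral_int (starRingEnd ℂ) (Cfsg.Agent.Lib.Helper80.irr_isIntegral χ y))
  have hsum : ∑ χ ∈ S.erase (oneIrr G), (χ : G → ℂ) 1 * conj ((χ : G → ℂ) y) = (r : ℂ) * α := by
    rw [hα, Finset.mul_sum]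
    refine Finset.sum_congr rfl fun χ hχ => ?_
    have hχS : χ ∈ S := Finset.mem_of_mem_erase hχ
    have hχne : χ ≠ oneIrr G := Finset.ne_of_mem_erase hχ
    have hχB : χ ∈ blockOf M ((oneIrr G : IrrCharacter G) : G → ℂ) := by
      rw [hS, Finset.mem_filter] at hχS
      exact hχS.2
    have hdvd : r ∣ charDegree (χ : G → ℂ) := hcon χ hχB hχne
    rw [irr_apply_one_eq_charDegree χ, ← mul_assoc]
    congr 1
    rw [← Nat.cast_mul, Nat.mul_div_cancel' hdvd]
  rw [hsum] at hwbo
  have hr0 : (r : ℂ) ≠ 0 := Nat.cast_ne_zero.mpr hr.ne_zero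
  have h2 : ((1 : ℕ) : ℂ) / (r : ℂ) = -α := by
    rw [Nat.cast_one, div_eq_iff hr0]
    linear_combination hwbo
  have h3 : IsIntegral ℤ (((1 : ℕ) : ℂ) / (r : ℂ)) := by
    rw [h2]
    exact hαint.neg
  have h4 := Cfsg.Agent.Lib.Helper3.nat_dvd_of_isIntegral_div hr.ne_zero h3
  exact hr.one_lt.ne' (Nat.dvd_one.mp h4)

end

theorem charDegree_oneIrr {G : Type u} [Group G] :
    charDegree ((oneIrr G : IrrCharacter G) : G → ℂ) = 1 := by
  unfold charDegree
  rw [oneIrr_apply]
  simp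

theorem factorization_card (p q r a b c : ℕ) (hp : p.Prime) (hq : q.Prime) (hr : r.Prime)
    (hpq : p ≠ q) (hpr : p ≠ r) : (p ^ a * q ^ b * r ^ c).factorization p = a := by
  have h1 : p ^ a ≠ 0 := pow_ne_zero _ hp.ne_zero
  have h2 : q ^ b ≠ 0 := pow_ne_zero _ hq.ne_zero
  have h3 : r ^ c ≠ 0 := pow_ne_zero _ hr.ne_zero
  rw [Nat.factorization_mul (mul_ne_zero h1 h2) h3, Nat.factorization_mul h1 h2,
    Nat.factorization_pow, Nat.factorization_pow, Nat.factorization_pow,
    hp.factorization, hq.factorization, hr.factorization]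
  simp [hpq.symm, hpr.symm]

theorem eq_pow_of_dvd (p q r a b c d : ℕ) (hp : p.Prime) (hq : q.Prime) (hr : r.Prime)
    (hd : d ∣ p ^ a * q ^ b * r ^ c) (hpd : ¬ p ∣ d ∨ a = 0) (hrd : ¬ r ∣ d) :
    ∃ k : ℕ, d = q ^ k := by
  have h1 : Nat.Coprime d (r ^ c) :=
    Nat.Coprime.pow_right _ ((Nat.Prime.coprime_iff_not_dvd hr).mpr hrd).symm
  have h2 : d ∣ p ^ a * q ^ b := h1.dvd_of_dvd_mul_right hd
  have h3 : Nat.Coprime d (p ^ a) := by
    rcases hpd with h | h
    · exact Nat.Coprime.pow_right _ ((Nat.Prime.coprime_iff_not_dvd hp).mpr h).symm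
    · rw [h, pow_zero]; exact Nat.coprime_one_right d
  have h4 : d ∣ q ^ b := h3.dvd_of_dvd_mul_left h2
  obtain ⟨k, -, hk⟩ := (Nat.dvd_prime_pow hq).mp h4
  exact ⟨k, hk⟩

theorem half {G : Type u} [Group G] [Finite G] [Nontrivial G] (p q r a b c : ℕ) (hp : p.Prime)
    (hq : q.Prime) (hr : r.Prime) (hpq : p ≠ q) (hpr : p ≠ r) (ha : a ≤ 2)
    (hG : Nat.card G = p ^ a * q ^ b * r ^ c) :
    ∃ χ : Cfsg.IrrCharacter G, (χ : G → ℂ) ≠ (fun _ => 1) ∧
      ∃ k : ℕ, Cfsg.charDegree (χ : G → ℂ) = q ^ k := by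
  classical
  have := Fintype.ofFinite G
  have hfin : Finite (IrrCharacter G) := finite_irrCharacter
  have := Fintype.ofFinite (IrrCharacter G)
  rcases Nat.eq_zero_or_pos a with ha0 | ha1
  · -- `a = 0`: any prime divisor of the order will do
    have hcard : Nat.card G ≠ 1 := (Finite.one_lt_card (α := G)).ne'
    obtain ⟨l, hl, hldvd⟩ := Nat.exists_prime_and_dvd hcard
    have : Fact l.Prime := ⟨hl⟩
    obtain ⟨M, hM⟩ := exists_isPModular hl
    obtain ⟨χ, -, hne, hrd⟩ := exists_in_principal (G := G) l r hr M hM hldvd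
    refine ⟨χ, fun h => hne (Subtype.ext h), ?_⟩
    have hd := irr_charDegree_dvd_card χ
    rw [hG] at hd
    exact eq_pow_of_dvd p q r a b c _ hp hq hr hd (Or.inr ha0) hrd
  · have : Fact p.Prime := ⟨hp⟩
    obtain ⟨M, hM⟩ := exists_isPModular hp
    have hMp : M.IsPrime := isPrime_of_isPModular hM
    have hpdvd : p ∣ Nat.card G := by
      rw [hG, mul_assoc]
      exact Dvd.dvd.mul_right (dvd_pow_self p (Nat.pos_iff_ne_zero.mp ha1)) _
    obtain ⟨χ, hχB, hne, hrd⟩ := exists_in_principal (G := G) p r hr M hM hpdvd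
    refine ⟨χ, fun h => hne (Subtype.ext h), ?_⟩
    have hd := irr_charDegree_dvd_card χ
    have hd0 : charDegree (χ : G → ℂ) ≠ 0 := irr_charDegree_ne_zero χ
    have hv : (charDegree (χ : G → ℂ)).factorization p = 0 := by
      rcases height_zero_or_le p M hM (oneIrr G) χ hχB with h | h
      · have h1 := minDegVal_le p (B := blockOf M ((oneIrr G : IrrCharacter G) : G → ℂ))
          (χ := oneIrr G) (sameBlock_refl hMp _)
        rw [charDegree_oneIrr, Nat.factorization_one] at h1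
        simp only [Finsupp.coe_zero, Pi.zero_apply, Nat.le_zero] at h1
        rw [h, h1]
      · rw [hG, factorization_card p q r a b c hp hq hr hpq hpr] at h
        omega
    have hpd : ¬ p ∣ charDegree (χ : G → ℂ) := by
      intro h
      have := (hp.dvd_iff_one_le_factorization hd0).mp h
      omega
    rw [hG] at hd
    exact eq_pow_of_dvd p q r a b c _ hp hq hr hd (Or.inl hpd) hrd

/-- Let G be a non-trivial finite group of order p^a · q^b · r^c with p, q, r distinct primes and a ≤ 2. Then G has a non-principal irreducible character whose degree is a power of q, and a non-principal irreducible character whose degree is a power of r; the power may be the zeroth, so a non-principal linear character serves for both. -/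
theorem result {G : Type*} [Group G] [Finite G] [Nontrivial G] (p q r a b c : ℕ) (hp : p.Prime) (hq : q.Prime) (hr : r.Prime) (hpq : p ≠ q) (hpr : p ≠ r) (hqr : q ≠ r) (ha : a ≤ 2) (hG : Nat.card G = p ^ a * q ^ b * r ^ c) : (∃ χ : Cfsg.IrrCharacter G, (χ : G → ℂ) ≠ (fun _ => 1) ∧ ∃ k : ℕ, Cfsg.charDegree (χ : G → ℂ) = q ^ k) ∧ ∃ χ : Cfsg.IrrCharacter G, (χ : G → ℂ) ≠ (fun _ => 1) ∧ ∃ k : ℕ, Cfsg.charDegree (χ : G → ℂ) = r ^ k := by
  refine ⟨half p q r a b c hp hq hr hpq hpr ha hG, half p r q a c b hp hr hq hpr hpq ha ?_⟩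
  rw [hG]; ring

end Cfsg.Agent.S4500
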