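import Cfsg.Statements.S4611
import Cfsg.Agent.S0967
import Cfsg.Agent.S4487
import Cfsg.Agent.S4500
import Cfsg.Agent.Lib.Helper53.SolvPSolv
import Cfsg.Agent.Lib.Helper55.Cores
import Cfsg.Agent.Lib.Helper76.PSolvable
import Cfsg.Agent.Lib.Helper79.Basic

set_option autoImplicit false
open Cfsg

namespace Cfsg.Agent.S4611

open Cfsg.Agent.Lib.Helper81 Cfsg.Agent.Lib.Helper74

universe u

/-- The class of `g` in `G` has size a multiple of the size of the class of its image in `G ⧸ N`. -/
theorem index_centralizer_mk {G : Type u} [Group G] (N : Subgroup G) [N.Normal] (g : G) :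
    ∃ m : ℕ, (Subgroup.centralizer ({g} : Set G)).index =
      m * (Subgroup.centralizer ({(g : G ⧸ N)} : Set (G ⧸ N))).index := by
  set C := Subgroup.centralizer ({g} : Set G) with hC
  set Cb := Subgroup.centralizer ({(g : G ⧸ N)} : Set (G ⧸ N)) with hCb
  set D := Cb.comap (QuotientGroup.mk' N) with hD
  have hle : C ≤ D := by
    intro x hx
    rw [hD, Subgroup.mem_comap, hCb, Subgroup.mem_centralizer_singleton_iff]
    rw [hC, Subgroup.mem_centralizer_singleton_iff] at hx
    show ((x : G ⧸ N)) * (g : G ⧸ N) = (g : G ⧸ N) * (x : G ⧸ N)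
    rw [← QuotientGroup.mk_mul, ← QuotientGroup.mk_mul, hx]
  have hidx : D.index = Cb.index :=
    Subgroup.index_comap_of_surjective Cb (QuotientGroup.mk'_surjective N)
  refine ⟨C.relIndex D, ?_⟩
  rw [← hidx]
  exact (Subgroup.relIndex_mul_index hle).symm

/-- Domination: inflations of characters in the same block of `G ⧸ N` are in the same block. -/
theorem sameBlock_inflate {G : Type u} [Group G] {M : Ideal AlgInt} (hM : M.IsPrime)
    (N : Subgroup G) [N.Normal] (φ ψ : G ⧸ N → ℂ) (h : SameBlock M φ ψ) :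
    SameBlock M (fun g : G => φ (g : G ⧸ N)) (fun g : G => ψ (g : G ⧸ N)) := by
  intro g
  obtain ⟨m, hm⟩ := index_centralizer_mk N g
  have key : centralChar (fun g : G => φ (g : G ⧸ N)) g -
      centralChar (fun g : G => ψ (g : G ⧸ N)) g =
      (m : ℂ) * (centralChar φ (g : G ⧸ N) - centralChar ψ (g : G ⧸ N)) := by
    unfold centralChar
    rw [hm]
    simp only [QuotientGroup.mk_one]
    push_cast
    ring
  rw [key]
  exact memLocalIdeal_mul_left hM (memLocalRing_natCast hM m) (h (g : G ⧸ N))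

/-- Fong: for a `p`-solvable group the principal block consists of the irreducible characters
with `O_{p'}(G)` in their kernel. -/
theorem mem_principalBlock_iff {G : Type u} [Group G] [Finite G] (p : ℕ) [Fact p.Prime]
    (M : Ideal AlgInt) (hM : IsPModular p M) (hps : IsPSolvable p G) (χ : IrrCharacter G) :
    χ ∈ principalBlock M G ↔ ∀ n ∈ pPrimeCore p G, (χ : G → ℂ) n = (χ : G → ℂ) 1 := by
  have hMp : M.IsPrime := isPrime_of_isPModular hM
  have hp : p.Prime := Fact.out
  have hNn : (pPrimeCore p G).Normal := Cfsg.Agent.Lib.Helper55.pPrimeCore_normal' p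
  have hcop : ¬ p ∣ Nat.card (pPrimeCore p G) := by
    have h := Cfsg.Agent.Lib.Helper55.pPrimeCore_card_coprime (G := G) p
    exact fun hd => (Nat.Prime.coprime_iff_not_dvd hp).mp h.symm hd
  constructor
  · intro hχ
    have h1 : χ ∈ blockOf M (((oneIrr (G ⧸ pPrimeCore p G) : IrrCharacter (G ⧸ pPrimeCore p G)) :
        G ⧸ pPrimeCore p G → ℂ) ∘ QuotientGroup.mk) := hχ
    obtain ⟨ψ', hψ', -⟩ := Cfsg.Agent.S0967.result p M hM (pPrimeCore p G) hcop
      (oneIrr (G ⧸ pPrimeCore p G)) χ h1
    intro n hn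
    rw [hψ']
    simp only [Function.comp_apply]
    rw [(QuotientGroup.eq_one_iff n).mpr hn, QuotientGroup.mk_one]
  · intro hker
    obtain ⟨ψ', hψ'irr, hψ'val⟩ :=
      Cfsg.Agent.Lib.Helper79.isIrrCharacter_deflate χ.2 (pPrimeCore p G) hker
    have hpsq : IsPSolvable p (G ⧸ pPrimeCore p G) :=
      Cfsg.Agent.Lib.Helper76.isPSolvable_quotient (pPrimeCore p G) hps
    have hcore : pPrimeCore p (G ⧸ pPrimeCore p G) = ⊥ :=
      Cfsg.Agent.Lib.Helper55.pPrimeCore_quotient_eq_bot p
    have hconstr := Cfsg.Agent.Lib.Helper76.centralizer_pCore_le_of_isPSolvable hpsq hcore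
    have hsame := Cfsg.Agent.S4487.result p M hM hcore hconstr
      (oneIrr (G ⧸ pPrimeCore p G)) ⟨ψ', hψ'irr⟩
    have h2 := sameBlock_inflate hMp (pPrimeCore p G) _ _ hsame
    show SameBlock M (fun _ : G => (1 : ℂ)) (χ : G → ℂ)
    have h3 : (fun g : G => ψ' (g : G ⧸ pPrimeCore p G)) = (χ : G → ℂ) := funext hψ'val
    rw [← h3]
    exact h2

/-- A nontrivial finite group has a nonprincipal irreducible character. -/
theorem exists_irr_ne_one {Q : Type u} [Group Q] [Finite Q] [Nontrivial Q] :
    ∃ χ : IrrCharacter Q, χ ≠ oneIrr Q := by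
  classical
  have := Fintype.ofFinite Q
  have hfin : Finite (IrrCharacter Q) := finite_irrCharacter
  have := Fintype.ofFinite (IrrCharacter Q)
  have hcard : Nat.card Q ≠ 1 := (Finite.one_lt_card (α := Q)).ne'
  obtain ⟨l, hl, hldvd⟩ := Nat.exists_prime_and_dvd hcard
  have : Fact l.Prime := ⟨hl⟩
  obtain ⟨M, hM⟩ := exists_isPModular hl
  obtain ⟨χ, -, hne, -⟩ := Cfsg.Agent.S4500.exists_in_principal (G := Q) l l hl M hM hldvd
  exact ⟨χ, hne⟩

/-- Let G be a finite solvable group and π a nonempty set of primes, each dividing the order of G; fix for each p in π a maximal ideal M p of the algebraic integers containing p. Then the only irreducible character lying in the principal p-block for every p in π is the principal character if and only if G is generated by the subgroups O_{p'}(G), p in π (the largest normal subgroups of order prime to p). -/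
theorem result {G : Type*} [Group G] [Finite G] [Group.IsSolvable G] (π : Set ℕ) (hπ : ∀ p ∈ π, p.Prime ∧ p ∣ Nat.card G) (hne : π.Nonempty) (M : ℕ → Ideal Cfsg.AlgInt) (hM : ∀ p ∈ π, Cfsg.IsPModular p (M p)) :
    (∀ χ : Cfsg.IrrCharacter G, (∀ p ∈ π, χ ∈ Cfsg.principalBlock (M p) G) → (χ : G → ℂ) = fun _ => 1) ↔
      ⨆ p ∈ π, Cfsg.pPrimeCore p G = ⊤ := by
  have hiff : ∀ p ∈ π, ∀ χ : IrrCharacter G, χ ∈ principalBlock (M p) G ↔
      ∀ n ∈ pPrimeCore p G, (χ : G → ℂ) n = (χ : G → ℂ) 1 := by
    intro p hp χ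
    have : Fact p.Prime := ⟨(hπ p hp).1⟩
    exact mem_principalBlock_iff p (M p) (hM p hp)
      (Cfsg.Agent.Lib.Helper53.isPSolvable_of_isSolvable p inferInstance) χ
  constructor
  · intro h
    by_contra hN
    set N : Subgroup G := ⨆ p ∈ π, pPrimeCore p G with hNdef
    have hNn : N.Normal := by
      rw [hNdef]
      have h1 : ∀ p : ℕ, (⨆ _ : p ∈ π, pPrimeCore p G).Normal := by
        intro p
        have h2 : ∀ _ : p ∈ π, (pPrimeCore p G).Normal :=
          fun _ => Cfsg.Agent.Lib.Helper55.pPrimeCore_normal' p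
        exact Subgroup.iSup_normal _
      exact Subgroup.iSup_normal _
    have : Nontrivial (G ⧸ N) := by
      rw [← not_subsingleton_iff_nontrivial]
      intro hs
      exact hN (QuotientGroup.subgroup_eq_top_of_subsingleton N hs)
    obtain ⟨χ, hχ⟩ := exists_irr_ne_one (Q := G ⧸ N)
    set χ' : IrrCharacter G :=
      ⟨fun g : G => (χ : G ⧸ N → ℂ) (g : G ⧸ N), Cfsg.Agent.Lib.Helper79.isIrrCharacter_inflate N χ.2⟩
      with hχ'
    have h1 := h χ' (by
      intro p hp
      rw [hiff p hp]
      intro n hn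
      have hnN : n ∈ N := by
        rw [hNdef]
        exact Subgroup.mem_iSup_of_mem p (Subgroup.mem_iSup_of_mem hp hn)
      show (χ : G ⧸ N → ℂ) (n : G ⧸ N) = (χ : G ⧸ N → ℂ) ((1 : G) : G ⧸ N)
      rw [(QuotientGroup.eq_one_iff n).mpr hnN, QuotientGroup.mk_one])
    apply hχ
    apply Subtype.ext
    funext q
    obtain ⟨g, rfl⟩ := QuotientGroup.mk_surjective q
    exact congrFun h1 g
  · intro hN χ hχ
    obtain ⟨K, hKn, hK, hdvd⟩ := Cfsg.Agent.Lib.Helper80.irr_exists_ker χ
    have hle : (⨆ p ∈ π, pPrimeCore p G) ≤ K := by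
      apply iSup_le
      intro p
      apply iSup_le
      intro hp n hn
      rw [hK]
      exact (hiff p hp χ).mp (hχ p hp) n hn
    rw [hN, top_le_iff] at hle
    rw [hle, Subgroup.index_top, Nat.dvd_one] at hdvd
    funext g
    have hg : (χ : G → ℂ) g = (χ : G → ℂ) 1 := (hK g).mp (by rw [hle]; trivial)
    rw [hg, irr_apply_one_eq_charDegree χ, hdvd, Nat.cast_one]

end Cfsg.Agent.S4611
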