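import Cfsg.Statements.S0077
import Cfsg.Agent.Lib.Helper33.SylowSub
import Mathlib.GroupTheory.Focal

set_option autoImplicit false
open Cfsg

namespace Cfsg.Agent.S0077

open Cfsg.Agent.Lib.Helper33
open scoped commutatorElement

/-- Existence of a Sylow `p`-subgroup of a subgroup `K`, in ambient form. -/
theorem exists_sylow_of_subgroup {G : Type*} [Group G] [Finite G] {p : ℕ} [Fact p.Prime]
    (K : Subgroup G) : ∃ P₀ : Subgroup G, P₀ ≤ K ∧ IsPGroup p P₀ ∧ ¬ p ∣ P₀.relIndex K := by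
  obtain ⟨Q⟩ : Nonempty (Sylow p K) := inferInstance
  refine ⟨(Q : Subgroup K).map K.subtype, Subgroup.map_subtype_le _, Q.2.map _, ?_⟩
  have : ((Q : Subgroup K).map K.subtype).relIndex K = (Q : Subgroup K).index := by
    unfold Subgroup.relIndex
    congr 1
    ext x
    rw [Subgroup.mem_subgroupOf]
    constructor
    · rintro ⟨y, hy, hxy⟩
      have : y = x := Subtype.ext hxy
      rwa [← this]
    · intro hx
      exact ⟨x, hx, rfl⟩
  rw [this]
  exact Q.not_dvd_index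

/-- Control of fusion by the normalizer of a weakly closed central subgroup. -/
theorem fusion_in_normalizer {G : Type*} [Group G] [Finite G] {p : ℕ} [Fact p.Prime] (P : Sylow p G)
    (Z : Subgroup G) (hZ : Z ≤ Subgroup.centralizer (P : Set G)) (hW : Cfsg.IsWeaklyClosed Z P)
    (x u : G) (hx : x ∈ (P : Subgroup G)) (hy : u * x * u⁻¹ ∈ (P : Subgroup G)) :
    ∃ n ∈ Subgroup.normalizer (Z : Set G), n * x * n⁻¹ = u * x * u⁻¹ := by
  set y := u * x * u⁻¹ with hydef
  set C : Subgroup G := Subgroup.centralizer {y} with hC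
  have hZp : IsPGroup p Z := P.2.to_le hW.1
  have hZC : Z ≤ C := by
    intro z hz
    rw [hC, Subgroup.mem_centralizer_singleton_iff]
    exact ((Subgroup.mem_centralizer_iff.mp (hZ hz)) y hy).symm
  have hZuC : cj u Z ≤ C := by
    intro w hw
    rw [mem_cj] at hw
    rw [hC, Subgroup.mem_centralizer_singleton_iff]
    have h1 : x * (u⁻¹ * w * u) = (u⁻¹ * w * u) * x :=
      (Subgroup.mem_centralizer_iff.mp (hZ hw)) x hx
    rw [hydef]
    calc w * (u * x * u⁻¹) = u * ((u⁻¹ * w * u) * x) * u⁻¹ := by group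
      _ = u * (x * (u⁻¹ * w * u)) * u⁻¹ := by rw [h1]
      _ = u * x * u⁻¹ * w := by group
  obtain ⟨P₀, hP₀C, hP₀p, hP₀i⟩ := exists_sylow_of_subgroup (p := p) C
  obtain ⟨c₁, hc₁, hc₁Z⟩ := sylow_sub hP₀C hP₀p hP₀i hZC hZp
  obtain ⟨c₂, hc₂, hc₂Z⟩ := sylow_sub hP₀C hP₀p hP₀i hZuC (isPGroup_cj hZp)
  obtain ⟨R, hR⟩ := hP₀p.exists_le_sylow
  obtain ⟨h, hh⟩ := sylow_exists_cj P R
  have hn1 : h⁻¹ * c₁ ∈ Subgroup.normalizer (Z : Set G) := by
    rw [← cj_eq_self_iff]
    apply hW.2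
    change cj (h⁻¹ * c₁) Z ≤ P
    rw [cj_mul, cj_le_iff, inv_inv, hh]
    exact hc₁Z.trans hR
  have hn2 : h⁻¹ * c₂ * u ∈ Subgroup.normalizer (Z : Set G) := by
    rw [← cj_eq_self_iff]
    apply hW.2
    change cj (h⁻¹ * c₂ * u) Z ≤ P
    rw [mul_assoc, cj_mul, cj_mul, cj_le_iff, inv_inv, hh]
    exact hc₂Z.trans hR
  refine ⟨(h⁻¹ * c₁)⁻¹ * (h⁻¹ * c₂ * u), Subgroup.mul_mem _ (Subgroup.inv_mem _ hn1) hn2, ?_⟩
  have e1 : c₁ * y = y * c₁ := by
    rw [hC, Subgroup.mem_centralizer_singleton_iff] at hc₁; exact hc₁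
  have e2 : c₂ * y = y * c₂ := by
    rw [hC, Subgroup.mem_centralizer_singleton_iff] at hc₂; exact hc₂
  have e3 : c₂ * y * c₂⁻¹ = y := by rw [e2]; group
  have e4 : c₁⁻¹ * y * c₁ = y := by rw [mul_assoc, ← e1]; group
  calc (h⁻¹ * c₁)⁻¹ * (h⁻¹ * c₂ * u) * x * ((h⁻¹ * c₁)⁻¹ * (h⁻¹ * c₂ * u))⁻¹
      = c₁⁻¹ * (c₂ * (u * x * u⁻¹) * c₂⁻¹) * c₁ := by group
    _ = c₁⁻¹ * y * c₁ := by rw [← hydef, e3]
    _ = y := e4

/-- If a subgroup Z of the centre of a Sylow p-subgroup P is weakly closed in P, then P meets the derived subgroup of G exactly where it meets the derived subgroup of the normalizer of Z. -/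
theorem result {G : Type*} [Group G] [Finite G] {p : ℕ} [Fact p.Prime] (P : Sylow p G) (Z : Subgroup G) (hZ : Z ≤ Subgroup.centralizer (P : Set G)) (hW : Cfsg.IsWeaklyClosed Z P) : commutator G ⊓ (P : Subgroup G) = ⁅Subgroup.normalizer (Z : Set G), Subgroup.normalizer (Z : Set G)⁆ ⊓ (P : Subgroup G) := by
  have hPN : (P : Subgroup G) ≤ Subgroup.normalizer (Z : Set G) := by
    intro g hg
    rw [Subgroup.mem_normalizer_iff]
    intro z
    constructor
    · intro hz
      have : g * z = z * g := (Subgroup.mem_centralizer_iff.mp (hZ hz)) g hg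
      rw [this, mul_inv_cancel_right]; exact hz
    · intro hz
      have h1 : g * (g * z * g⁻¹) = (g * z * g⁻¹) * g := (Subgroup.mem_centralizer_iff.mp (hZ hz)) g hg
      have h2 : z = g * z * g⁻¹ := by
        have : g * (g * z * g⁻¹) = g * z := by rw [h1]; group
        exact (mul_left_cancel this).symm
      rw [h2]; exact hz
  apply le_antisymm
  · apply le_inf _ inf_le_right
    rw [Subgroup.commutator_inf_eq_focalSubgroup P, Subgroup.focalSubgroup_def, Subgroup.closure_le]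
    rintro g ⟨hgP, x, hx, u, rfl⟩
    have h1 : u * x * u⁻¹ ∈ (P : Subgroup G) := by
      have h2 : u * x * u⁻¹ = (x⁻¹ * ⁅x, u⁆)⁻¹ := by
        rw [commutatorElement_def]; group
      rw [h2]
      exact Subgroup.inv_mem _ (Subgroup.mul_mem _ (Subgroup.inv_mem _ hx) hgP)
    obtain ⟨n, hn, hconj⟩ := fusion_in_normalizer P Z hZ hW x u hx h1
    have h3 : ⁅x, u⁆ = ⁅x, n⁆ := by
      rw [commutatorElement_def, commutatorElement_def]
      calc x * u * x⁻¹ * u⁻¹ = x * (u * x * u⁻¹)⁻¹ := by group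
        _ = x * (n * x * n⁻¹)⁻¹ := by rw [hconj]
        _ = x * n * x⁻¹ * n⁻¹ := by group
    rw [h3]
    exact Subgroup.commutator_mem_commutator (hPN hx) hn
  · apply inf_le_inf_right
    rw [commutator_def]
    exact Subgroup.commutator_mono le_top le_top

end Cfsg.Agent.S0077
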