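import Cfsg.Statements.S0078
import Cfsg.Agent.S0077
import Cfsg.Agent.Lib.Helper2.Tate5
import Mathlib.GroupTheory.Focal

set_option autoImplicit false
open Cfsg

namespace Cfsg.Agent.S0078

open Cfsg.Agent.Lib.Helper2
open Cfsg.Agent.Lib.Helper33
open scoped commutatorElement

/-- If `V` contains a Sylow `p`-subgroup `P` and `P ∩ G' ≤ V'`, then every homomorphism from `V` to
the group of order `p` extends to `G`. -/
theorem extFp_of_focal_le {G : Type*} [Group G] [Finite G] {p : ℕ} [hp : Fact p.Prime]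
    (P : Sylow p G) (V : Subgroup G) (hPV : (P : Subgroup G) ≤ V)
    (hfoc : commutator G ⊓ (P : Subgroup G) ≤ ⁅V, V⁆) : ExtFp p V := by
  intro μ
  let μP : (P : Subgroup G) →* Multiplicative (ZMod p) := μ.comp (Subgroup.inclusion hPV)
  have hkill : (P : Subgroup G).focalSubgroupOf ≤ μP.ker := by
    intro x hx
    rw [Subgroup.focalSubgroupOf_def, Subgroup.mem_subgroupOf,
      ← Subgroup.commutator_inf_eq_focalSubgroup P] at hx
    have h1 : (x : G) ∈ ⁅V, V⁆ := hfoc hx
    rw [← Subgroup.map_subtype_commutator] at h1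
    obtain ⟨v, hv, hvx⟩ := h1
    have h2 : v = Subgroup.inclusion hPV x := Subtype.ext hvx
    rw [MonoidHom.mem_ker]
    show μ (Subgroup.inclusion hPV x) = 1
    rw [← h2]
    exact Abelianization.commutator_subset_ker μ hv
  let μbar : (P : Subgroup G) ⧸ (P : Subgroup G).focalSubgroupOf →* Multiplicative (ZMod p) :=
    QuotientGroup.lift _ μP hkill
  let l₀ : G →* Multiplicative (ZMod p) := μbar.comp (P : Subgroup G).transferFocal
  have hl₀ : ∀ x : (P : Subgroup G), l₀ x = (μP x) ^ (P : Subgroup G).index := by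
    intro x
    show μbar ((P : Subgroup G).transferFocal x) = _
    rw [Subgroup.transferFocal_eq_pow, map_pow]
    rfl
  have hcop : Nat.Coprime (P : Subgroup G).index p := by
    rw [Nat.coprime_comm, Nat.Prime.coprime_iff_not_dvd hp.out]
    exact P.not_dvd_index
  obtain ⟨n', -, hn'⟩ := Nat.exists_mul_mod_eq_one_of_coprime hcop hp.out.one_lt
  have hl : ∀ x : (P : Subgroup G), (l₀ ^ n') x = μP x := by
    intro x
    rw [MonoidHom.pow_apply, hl₀, ← pow_mul]
    have hdm := Nat.div_add_mod ((P : Subgroup G).index * n') p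
    rw [hn'] at hdm
    rw [← hdm, pow_add, pow_mul, pow_p_eq_one_Fp, one_pow, one_mul, pow_one]
  refine ⟨l₀ ^ n', ?_⟩
  -- the two homs agree on a Sylow subgroup of V, hence on V
  let PV : Sylow p V := P.subtype hPV
  have hPVcoe : (PV : Subgroup V) = (P : Subgroup G).subgroupOf V := Sylow.coe_subtype _ _
  let d : V →* Multiplicative (ZMod p) := ((l₀ ^ n').comp V.subtype) * μ⁻¹
  have hd : ∀ v : V, d v = 1 := by
    intro v
    apply hom_eq_one_of_sylow PV (1 : V →* Multiplicative (ZMod p)) d _ v rfl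
    intro g hg _
    have hgP : (g : G) ∈ (P : Subgroup G) := Subgroup.mem_subgroupOf.mp (hPVcoe.le hg)
    show (l₀ ^ n') (g : G) * (μ g)⁻¹ = 1
    rw [show (l₀ ^ n') (g : G) = μP ⟨(g : G), hgP⟩ from hl ⟨(g : G), hgP⟩]
    show μ (Subgroup.inclusion hPV ⟨(g : G), hgP⟩) * (μ g)⁻¹ = 1
    have : Subgroup.inclusion hPV ⟨(g : G), hgP⟩ = g := Subtype.ext rfl
    rw [this, mul_inv_cancel]
  intro v
  have := hd v
  exact mul_inv_eq_one.mp this

/-- In a p-normal group, a Sylow p-subgroup P meets O^p(G) exactly where it meets O^p(V), for any subgroup V containing the normalizer of the centre of P. -/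
theorem result {G : Type*} [Group G] [Finite G] {p : ℕ} [Fact p.Prime] (P : Sylow p G) (hn : ∀ Q : Sylow p G, (P : Subgroup G) ⊓ Subgroup.centralizer (P : Set G) ≤ (Q : Subgroup G) → (Q : Subgroup G) ⊓ Subgroup.centralizer (Q : Set G) = (P : Subgroup G) ⊓ Subgroup.centralizer (P : Set G)) (V : Subgroup G) (hV : Subgroup.normalizer (((P : Subgroup G) ⊓ Subgroup.centralizer (P : Set G) : Subgroup G) : Set G) ≤ V) : (P : Subgroup G) ⊓ Cfsg.pResidual p G = (P : Subgroup G) ⊓ (Cfsg.pResidual p V).map V.subtype := by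
  set Z : Subgroup G := (P : Subgroup G) ⊓ Subgroup.centralizer (P : Set G) with hZ
  have hZc : Z ≤ Subgroup.centralizer (P : Set G) := inf_le_right
  have hW : Cfsg.IsWeaklyClosed Z (P : Subgroup G) := by
    refine ⟨inf_le_left, ?_⟩
    intro g hg
    change cj g Z ≤ (P : Subgroup G) at hg
    change cj g Z = Z
    have hQ : Z ≤ ((g⁻¹ • P : Sylow p G) : Subgroup G) := by
      rw [sylow_coe_smul, ← cj_le_iff]; exact hg
    have h1 := hn (g⁻¹ • P) hQ
    have h2 : ((g⁻¹ • P : Sylow p G) : Subgroup G) ⊓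
        Subgroup.centralizer (((g⁻¹ • P : Sylow p G) : Subgroup G) : Set G) = cj g⁻¹ Z := by
      rw [sylow_coe_smul, centralizer_cj, ← cj_inf]
      rfl
    have h3 : cj g⁻¹ Z = Z := h2.symm.trans h1
    rw [cj_eq_iff] at h3
    rw [inv_inv] at h3
    exact h3.symm
  have h77 := Cfsg.Agent.S0077.result P Z hZc hW
  have hPN : (P : Subgroup G) ≤ Subgroup.normalizer (Z : Set G) := by
    intro g hg
    rw [← cj_eq_self_iff]
    have : cj g (P : Subgroup G) = (P : Subgroup G) := cj_eq_self_of_mem hg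
    rw [hZ, cj_inf]
    show cj g (P : Subgroup G) ⊓ cj g (Subgroup.centralizer ((P : Subgroup G) : Set G)) =
      (P : Subgroup G) ⊓ Subgroup.centralizer ((P : Subgroup G) : Set G)
    rw [← centralizer_cj, this]
  have hPV : (P : Subgroup G) ≤ V := hPN.trans hV
  have hfoc : commutator G ⊓ (P : Subgroup G) ≤ ⁅V, V⁆ := by
    rw [h77]
    exact inf_le_left.trans (Subgroup.commutator_mono hV hV)
  have hExt : ExtFp p V := extFp_of_focal_le P V hPV hfoc
  apply le_antisymm
  · exact le_inf inf_le_left (tate V P hPV hExt)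
  · apply le_inf inf_le_left
    refine inf_le_right.trans ?_
    rw [map_pResidual_subtype]
    unfold opIn Cfsg.pResidual
    apply Subgroup.closure_mono
    rintro g ⟨-, hg⟩
    exact hg

end Cfsg.Agent.S0078
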