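import Cfsg.Statements.S4451
import Cfsg.Agent.Lib.Helper82.StarAt
import Cfsg.Agent.Lib.Helper82.MultPm
import Cfsg.Agent.Lib.Helper82.PmOneStruct
import Cfsg.Agent.Lib.Helper76.RelDeg
import Cfsg.Agent.Lib.Helper3.OddOrder
-- import your own Cfsg.Agent.* helpers here

set_option autoImplicit false
set_option linter.style.haveILetI false
open Cfsg

namespace Cfsg.Agent.S4451

open Cfsg.Agent.Lib.Helper82 Cfsg.Agent.Lib.Helper25
open scoped ComplexConjugate

/-- Let the finite group Γ be generated by a normal subgroup G and a cyclic subgroup S of coprime orders such that every non-identity element of S has the same centraliser C = G ⊓ C(S) in G. Let χ be an S-invariant irreducible character of G, χ̂ its canonical extension to Γ (determinantal order coprime to the order of S), and β the irreducible character of C with χ̂(c s) = ε₀ β(c) for c ∈ C and generators s of S (ε₀ = ±1). Then there are a sign ε = ±1, which may differ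 from ε₀, and a linear character μ of S with μ² = 1, such that: (a) χ̂(c x) = ε β(c) μ(x) for all c ∈ C and all x ∈ S other than 1; (b) the restriction of χ to C equals |S|·ϑ + ε β for some character ϑ of C or ϑ = 0; (c) |S| divides χ(1) − ε β(1). -/
theorem result {Γ : Type*} [Group Γ] [Fintype Γ] (G S : Subgroup Γ) [Fintype G] (hnorm : ∀ s ∈ S, ∀ g ∈ G, s * g * s⁻¹ ∈ G) (hcop : (Nat.card G).Coprime (Nat.card S)) (htop : G ⊔ S = ⊤) (hcyc : IsCyclic S) (C : Subgroup Γ) [Fintype C] (hC : C = G ⊓ Subgroup.centralizer (S : Set Γ)) (hCG : C ≤ G) (hfpf : ∀ x ∈ S, x ≠ 1 → G ⊓ Subgroup.centralizer ({x} : Set Γ) = C) (χ : Cfsg.IrrCharacter G) (hinv : (∀ s ∈ S, ∀ g g' : G, (g' : Γ) = s * g * s⁻¹ → (χ : G → ℂ) g' = (χ : G → ℂ) g)) (χh : Cfsg.IrrCharacter Γ) (hext : (∀ g : G, (χh : Γ → ℂ) g = (χ : G → ℂ) g)) (hdet : (Cfsg.detOrder (χh : Γ → ℂ)).Coprime (Nat.card S)) (β : Cfsg.IrrCharacter C) (ε₀ : ℤ) (hε₀ : ε₀ = 1 ∨ ε₀ = -1) (hβ :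 ∀ c : C, ∀ s : Γ, Subgroup.zpowers s = S → (χh : Γ → ℂ) ((c : Γ) * s) = (ε₀ : ℂ) * (β : C → ℂ) c) : ∃ ε : ℤ, (ε = 1 ∨ ε = -1) ∧ (∃ μ : S → ℂ, Cfsg.IsCharacter S μ ∧ μ 1 = 1 ∧ (∀ x : S, μ x * μ x = 1) ∧ ∀ c : C, ∀ x : S, x ≠ 1 → (χh : Γ → ℂ) ((c : Γ) * x) = (ε : ℂ) * (β : C → ℂ) c * μ x) ∧ (∃ ϑ : C → ℂ, Cfsg.IsCharacter C ϑ ∧ (fun c : C => (χ : G → ℂ) ⟨c, hCG c.2⟩) = fun c => (Nat.card S : ℂ) * ϑ c + (ε : ℂ) * (β : C → ℂ) c) ∧ (Nat.card S : ℤ) ∣ (Cfsg.charDegree (χ : G → ℂ) : ℤ) - ε * (Cfsg.charDegree (β : C → ℂ) : ℤ) := by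
  classical
  -- normality of `G`
  have hGn : G.Normal := by
    rw [← Subgroup.normalizer_eq_top_iff, eq_top_iff, ← htop]
    apply sup_le
    · exact Subgroup.le_normalizer
    · intro s hs
      rw [Subgroup.mem_normalizer_iff]
      intro h
      constructor
      · exact fun hh => hnorm s hs h hh
      · intro hh
        have := hnorm s⁻¹ (S.inv_mem hs) _ hh
        have h2 : s⁻¹ * (s * h * s⁻¹) * s⁻¹⁻¹ = h := by group
        rwa [h2] at this
  haveI := hGn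
  have hχhc : IsCharacter Γ (χh : Γ → ℂ) :=
    Cfsg.Agent.Lib.Helper3.IsIrrCharacter.isCharacter χh.2
  have hres : IsIrrCharacter G (fun g : G => (χh : Γ → ℂ) g) := by
    have : (fun g : G => (χh : Γ → ℂ) g) = (χ : G → ℂ) := funext hext
    rw [this]
    exact χ.2
  have hCS : C ≤ Subgroup.centralizer (S : Set Γ) := by
    rw [hC]
    exact inf_le_right
  -- the values on `C x`
  have hstar : ∀ x : S, x ≠ 1 → ∃ (βx : IrrCharacter C) (εx : ℤ), (εx = 1 ∨ εx = -1) ∧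
      ∀ c : C, (χh : Γ → ℂ) ((c : Γ) * (x : Γ)) = (εx : ℂ) * (βx : C → ℂ) c := by
    intro x hx
    have hx1 : (x : Γ) ≠ 1 := fun h => hx (Subtype.ext h)
    have hord : orderOf (x : Γ) ∣ Nat.card S := by
      rw [Subgroup.orderOf_coe]
      exact orderOf_dvd_natCard x
    exact exists_star_at G (x : Γ) (Nat.Coprime.coprime_dvd_right hord hcop) hχhc hres
      (Nat.Coprime.coprime_dvd_right hord hdet) C (hfpf x x.2 hx1).symm
  have hmain := mult_pm_one C S hCS hcyc hχhc β ε₀ hε₀ hβ hstar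
  have hSab := comm_of_isCyclic S hcyc
  have hgβ : IsCharacter S (multFun C S (χh : Γ → ℂ) (β : C → ℂ)) :=
    isCharacter_multFun C S hCS hSab hχhc β.2
  haveI : Fintype S := Fintype.ofFinite _
  obtain ⟨ε, μ, b, hε, hμc, hμ1, hμsq, hoff, hone⟩ :=
    char_pm_one_struct (fun a b => Subtype.ext (hSab a a.2 b b.2)) hgβ
      (fun x hx => (hmain x hx).1)
  -- multiplicities of the restriction of `χ` to `C`
  have hχC : IsCharacter C (fun c : C => (χ : G → ℂ) ⟨c, hCG c.2⟩) :=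
    IsCharacter.comp_hom (Subgroup.inclusion hCG)
      (Cfsg.Agent.Lib.Helper3.IsIrrCharacter.isCharacter χ.2)
  haveI : Fintype (IrrCharacter C) := Fintype.ofFinite _
  obtain ⟨m, hm, hdec⟩ := Cfsg.Agent.Lib.Helper3.IsCharacter.exists_mult hχC
  have hm1 : ∀ γ : IrrCharacter C, multFun C S (χh : Γ → ℂ) (γ : C → ℂ) 1 = (m γ : ℂ) := by
    intro γ
    rw [← hm γ]
    unfold multFun
    congr 1
    funext c
    rw [OneMemClass.coe_one, mul_one]
    exact hext ⟨c, hCG c.2⟩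
  have hS0 : (Nat.card S : ℂ) ≠ 0 := by
    have : 0 < Nat.card S := Nat.card_pos
    exact_mod_cast this.ne'
  have hdiv : ∀ γ : IrrCharacter C, γ ≠ β → ∃ k : ℕ, m γ = Nat.card S * k := by
    intro γ hγ
    have hgγ : IsCharacter S (multFun C S (χh : Γ → ℂ) (γ : C → ℂ)) :=
      isCharacter_multFun C S hCS hSab hχhc γ.2
    have hvan : ∀ x : S, x ≠ 1 → multFun C S (χh : Γ → ℂ) (γ : C → ℂ) x = 0 := by
      intro x hx
      unfold multFun
      have h1 : (fun c : C => (χh : Γ → ℂ) ((c : Γ) * (x : Γ)))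
          = fun c => multFun C S (χh : Γ → ℂ) (β : C → ℂ) x * (β : C → ℂ) c :=
        funext (hmain x hx).2
      rw [h1, Cfsg.Agent.Lib.Helper15.classInner_const_mul_left,
        Cfsg.Agent.Lib.Helper3.classInner_irr β.2 γ.2, if_neg, mul_zero]
      intro h
      exact hγ (Subtype.ext h).symm
    obtain ⟨k, hk⟩ := Cfsg.Agent.Lib.Helper3.IsCharacter.classInner_irr_nat hgγ
      (Cfsg.Agent.Lib.Helper3.isIrrCharacter_one : IsIrrCharacter S (fun _ => (1 : ℂ)))
    have h2 : classInner (multFun C S (χh : Γ → ℂ) (γ : C → ℂ)) (fun _ : S => (1 : ℂ))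
        = (Nat.card S : ℂ)⁻¹ * (m γ : ℂ) := by
      unfold classInner
      congr 1
      rw [Finset.sum_eq_single (1 : S)]
      · rw [hm1 γ]
        simp
      · intro x _ hx
        rw [hvan x hx, zero_mul]
      · intro h
        exact absurd (Finset.mem_univ _) h
    refine ⟨k, ?_⟩
    rw [h2] at hk
    have h3 : (m γ : ℂ) = (Nat.card S : ℂ) * (k : ℂ) := by
      rw [← hk]
      field_simp
    exact_mod_cast h3
  choose kf hkf using hdiv
  have hmβ : (m β : ℂ) = (b : ℂ) * (Nat.card S : ℂ) + (ε : ℂ) := by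
    rw [← hm1 β]
    exact hone
  -- the character `ϑ`
  let kk : IrrCharacter C → ℕ := fun γ => if h : γ = β then b else kf γ h
  have hkk : ∀ γ : IrrCharacter C, (m γ : ℂ)
      = (Nat.card S : ℂ) * (kk γ : ℂ) + (if γ = β then (ε : ℂ) else 0) := by
    intro γ
    by_cases h : γ = β
    · subst h
      rw [if_pos rfl, hmβ]
      simp only [kk, dif_pos]
      ring
    · rw [if_neg h]
      simp only [kk, dif_neg h]
      rw [add_zero]
      exact_mod_cast hkf γ h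
  have hϑ : IsCharacter C (∑ γ : IrrCharacter C, ((kk γ : ℕ) : ℂ) • (γ : C → ℂ)) := by
    apply Cfsg.Agent.Lib.Helper3.IsCharacter.sum
    intro γ _
    exact Cfsg.Agent.Lib.Helper3.IsCharacter.nsmul
      (Cfsg.Agent.Lib.Helper3.IsIrrCharacter.isCharacter γ.2) _
  have hb : ∀ c : C, (χ : G → ℂ) ⟨c, hCG c.2⟩
      = (Nat.card S : ℂ) * (∑ γ : IrrCharacter C, ((kk γ : ℕ) : ℂ) • (γ : C → ℂ)) c
        + (ε : ℂ) * (β : C → ℂ) c := by
    intro c
    have h1 := congrFun hdec c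
    simp only [Finset.sum_apply, Pi.smul_apply, smul_eq_mul] at h1 ⊢
    rw [h1, Finset.mul_sum]
    have h2 : ∀ γ : IrrCharacter C, (m γ : ℂ) * (γ : C → ℂ) c
        = (Nat.card S : ℂ) * ((kk γ : ℂ) * (γ : C → ℂ) c)
          + (if γ = β then (ε : ℂ) * (γ : C → ℂ) c else 0) := by
      intro γ
      rw [hkk γ]
      split_ifs <;> ring
    rw [Finset.sum_congr rfl (fun γ _ => h2 γ), Finset.sum_add_distrib,
      Finset.sum_ite_eq' Finset.univ β, if_pos (Finset.mem_univ _)]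
  refine ⟨ε, hε, ⟨μ, hμc, hμ1, hμsq, ?_⟩, ⟨_, hϑ, funext hb⟩, ?_⟩
  · intro c x hx
    rw [(hmain x hx).2 c, hoff x hx]
    ring
  · -- the degrees
    have h1 := hb 1
    have hχ1 : (χ : G → ℂ) ⟨((1 : C) : Γ), hCG (1 : C).2⟩ = (charDegree (χ : G → ℂ) : ℂ) := by
      have : (⟨((1 : C) : Γ), hCG (1 : C).2⟩ : G) = 1 := Subtype.ext rfl
      rw [this]
      exact Cfsg.Agent.Lib.Helper76.Rel.irr_one_eq_charDegree χ.2
    have hβ1 : (β : C → ℂ) 1 = (charDegree (β : C → ℂ) : ℂ) :=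
      Cfsg.Agent.Lib.Helper76.Rel.irr_one_eq_charDegree β.2
    have hγ1 : ∀ γ : IrrCharacter C, (γ : C → ℂ) 1 = (charDegree (γ : C → ℂ) : ℂ) :=
      fun γ => Cfsg.Agent.Lib.Helper76.Rel.irr_one_eq_charDegree γ.2
    rw [hχ1, hβ1] at h1
    simp only [Finset.sum_apply, Pi.smul_apply, smul_eq_mul, hγ1] at h1
    refine ⟨((∑ γ : IrrCharacter C, kk γ * charDegree (γ : C → ℂ) : ℕ) : ℤ), ?_⟩
    have h2 : (((charDegree (χ : G → ℂ) : ℤ) - ε * (charDegree (β : C → ℂ) : ℤ) : ℤ) : ℂ)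
        = (((Nat.card S : ℤ) *
          ((∑ γ : IrrCharacter C, kk γ * charDegree (γ : C → ℂ) : ℕ) : ℤ) : ℤ) : ℂ) := by
      push_cast
      rw [h1]
      ring
    exact_mod_cast h2

end Cfsg.Agent.S4451
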