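import Cfsg.Statements.S2397
import Cfsg.Agent.Lib.Helper18.StSymbol

set_option autoImplicit false
open Cfsg

namespace Cfsg.Agent.S2397

open Cfsg.Lie Cfsg.Agent.Lib.Helper36 Cfsg.Agent.Lib.Helper18

theorem mk_stH_all {K : Type*} [Field K] (D : ChevalleyDatum)
    (hD : D ∈ [chevG2, chevB2, chevD4, chevF4, chevE6, chevE7, chevE8])
    (rels : Set (FreeGroup (Fin D.nroots × K)))
    (h1 : ∀ (r : ℕ) (t₁ t₂ : K), r < D.nroots → D.stX r t₁ * D.stX r t₂ * (D.stX r (t₁ + t₂))⁻¹ ∈ rels)
    (h2 : ∀ (r s : ℕ) (t u : K), r < D.nroots → s < D.nroots → s ≠ r → s ≠ D.neg r →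
      (D.stX s u)⁻¹ * (D.stX r t)⁻¹ * D.stX s u * D.stX r t * (D.stWord (D.commWord K r s t u))⁻¹ ∈ rels)
    (θ : PresentedGroup rels →* ↥(D.group K))
    (hθ : ∀ (r : ℕ) (t : K), r < D.nroots →
      ((θ (PresentedGroup.mk rels (D.stX r t)) : GL D.Idx K) : Matrix D.Idx D.Idx K) = D.x K r t)
    (r : ℕ) (t : K) :
    PresentedGroup.mk rels (D.stH r t) = hR (presSys D hD K rels h1 h2 θ hθ) r t := by
  unfold ChevalleyDatum.stH
  rw [mk_stWord]
  unfold ChevalleyDatum.hWord
  rw [wordOf_append]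
  unfold hR StSys.nb ChevalleyDatum.nWord
  simp only [wordOf, List.map_cons, List.map_nil, List.prod_cons, List.prod_nil, mul_one, mul_assoc]
  rfl

/-- Over a finite field the relators (R3) h̄_r(t₁) h̄_r(t₂) = h̄_r(t₁ t₂) are consequences of (R1) and (R2): for each of the types G₂, B₂, D₄, F₄, E₆, E₇, E₈ (for types B₂ and G₂ the field must have more than two elements — the cases where the Chevalley group is not simple are set aside) the group presented by (R1), (R2) is canonically isomorphic to the one presented by (R1)–(R3), by an isomorphism matching the generators x̄_r(t). -/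
theorem result {K : Type*} [Field K] [Finite K] (D : Cfsg.Lie.ChevalleyDatum) (hD : D ∈ [Cfsg.Lie.chevG2, Cfsg.Lie.chevB2, Cfsg.Lie.chevD4, Cfsg.Lie.chevF4, Cfsg.Lie.chevE6, Cfsg.Lie.chevE7, Cfsg.Lie.chevE8]) (hK : D ∈ [Cfsg.Lie.chevB2, Cfsg.Lie.chevG2] → ∃ x : K, x ≠ 0 ∧ x ≠ 1) :
    ∃ e : D.SteinbergCover K ≃* D.SteinbergGroup K, ∀ (r : ℕ) (t : K), e (D.scGen K r t) = D.stGen K r t := by
  -- the projection of the cover onto the Chevalley group
  have hrelAB : ∀ r ∈ D.steinbergRelsAB K, FreeGroup.lift (genMap D hD K) r = 1 := by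
    rintro _ (⟨r, t₁, t₂, -, rfl⟩ | ⟨r, s, t, u, hr, hs, hsr, hsn, rfl⟩)
    · exact lift_R1 D hD K r t₁ t₂
    · exact lift_R2 D hD K r s hr hs hsr hsn t u
  set θ : D.SteinbergCover K →* ↥(D.group K) := PresentedGroup.toGroup hrelAB with hθ_def
  have hθ : ∀ (r : ℕ) (t : K), θ (PresentedGroup.mk (D.steinbergRelsAB K) (D.stX r t)) = xGr D hD K r t := by
    intro r t
    exact lift_stX D hD K r t
  have hθ' : ∀ (r : ℕ) (t : K), r < D.nroots →
      ((θ (PresentedGroup.mk (D.steinbergRelsAB K) (D.stX r t)) : GL D.Idx K) : Matrix D.Idx D.Idx K) =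
        D.x K r t := by
    intro r t _
    rw [hθ r t]
    rfl
  have h1 : ∀ (r : ℕ) (t₁ t₂ : K), r < D.nroots →
      D.stX r t₁ * D.stX r t₂ * (D.stX r (t₁ + t₂))⁻¹ ∈ D.steinbergRelsAB K :=
    fun r t₁ t₂ hr => Or.inl ⟨r, t₁, t₂, hr, rfl⟩
  have h2 : ∀ (r s : ℕ) (t u : K), r < D.nroots → s < D.nroots → s ≠ r → s ≠ D.neg r →
      (D.stX s u)⁻¹ * (D.stX r t)⁻¹ * D.stX s u * D.stX r t * (D.stWord (D.commWord K r s t u))⁻¹ ∈
        D.steinbergRelsAB K :=
    fun r s t u hr hs hsr hsn => Or.inr ⟨r, s, t, u, hr, hs, hsr, hsn, rfl⟩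
  let S := presSys D hD K (D.steinbergRelsAB K) h1 h2 θ hθ'
  have hmul : R3Simple S := sym_R3Simple S
  -- the two homomorphisms
  have hsub : D.steinbergRelsAB K ⊆ D.steinbergRels K := fun g hg => Or.inl hg
  have hlift1 : ∀ w : FreeGroup (Fin D.nroots × K),
      FreeGroup.lift (fun p => (PresentedGroup.of p : D.SteinbergGroup K)) w =
        PresentedGroup.mk (D.steinbergRels K) w := by
    intro w
    have : FreeGroup.lift (fun p => (PresentedGroup.of p : D.SteinbergGroup K)) =
        PresentedGroup.mk (D.steinbergRels K) := by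
      ext p
      simp [PresentedGroup.of]
    rw [this]
  have hlift2 : ∀ w : FreeGroup (Fin D.nroots × K),
      FreeGroup.lift (fun p => (PresentedGroup.of p : D.SteinbergCover K)) w =
        PresentedGroup.mk (D.steinbergRelsAB K) w := by
    intro w
    have : FreeGroup.lift (fun p => (PresentedGroup.of p : D.SteinbergCover K)) =
        PresentedGroup.mk (D.steinbergRelsAB K) := by
      ext p
      simp [PresentedGroup.of]
    rw [this]
  have hf : ∀ r ∈ D.steinbergRelsAB K,
      FreeGroup.lift (fun p => (PresentedGroup.of p : D.SteinbergGroup K)) r = 1 := by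
    intro r hr
    rw [hlift1]
    exact PresentedGroup.one_of_mem (hsub hr)
  have hg : ∀ r ∈ D.steinbergRels K,
      FreeGroup.lift (fun p => (PresentedGroup.of p : D.SteinbergCover K)) r = 1 := by
    intro r hr
    rw [hlift2]
    rcases hr with hr | ⟨r, t₁, t₂, hr, ht₁, ht₂, rfl⟩
    · exact PresentedGroup.one_of_mem hr
    · rw [map_mul, map_mul, map_inv, mul_inv_eq_one, mk_stH_all D hD _ h1 h2 θ hθ', mk_stH_all D hD _ h1 h2 θ hθ',
        mk_stH_all D hD _ h1 h2 θ hθ']
      exact R3_all S hmul r hr t₁ t₂ ht₁ ht₂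
  let f : D.SteinbergCover K →* D.SteinbergGroup K := PresentedGroup.toGroup hf
  let g : D.SteinbergGroup K →* D.SteinbergCover K := PresentedGroup.toGroup hg
  have hgf : g.comp f = MonoidHom.id _ := by
    apply PresentedGroup.ext
    intro p
    simp [f, g]
  have hfg : f.comp g = MonoidHom.id _ := by
    apply PresentedGroup.ext
    intro p
    simp [f, g]
  refine ⟨MonoidHom.toMulEquiv f g hgf hfg, fun r t => ?_⟩
  show f (D.scGen K r t) = D.stGen K r t
  unfold ChevalleyDatum.scGen ChevalleyDatum.stGen ChevalleyDatum.stX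
  split_ifs with hr
  · exact PresentedGroup.toGroup.of hf
  · rw [map_one, map_one, map_one]

end Cfsg.Agent.S2397
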