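import Cfsg.Statements.S5038
import Cfsg.Agent.Lib.Helper83.LineTrans

set_option autoImplicit false
open Cfsg
open Cfsg.Agent.Lib.Helper83
open scoped commutatorElement

namespace Cfsg.Agent.S5038

variable {G : Type*} [Group G] {S : Set (Subgroup G)}

/-- the structure of the line `L = P ⊔ Q` seen from the point `P` -/
theorem point_lemma (hS : IsRootSubgroupSet S) (hiso : ∀ E ∈ S, ∃ E' ∈ S, IsRankOnePair E E')
    {P Q L : Subgroup G} (hP : P ∈ S) (hQ : Q ∈ linePartners S P) (hL : P ⊔ Q = L) :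
    ∃ F, F ≠ P ∧ F ∈ membersIn S L ∧
      (∀ M₁ ∈ membersIn S L, ∀ M₂ ∈ membersIn S L, M₁ ≠ F → M₂ ≠ F →
        ∃ x ∈ ⨆ E ∈ normalizingMembers S L, E, conjBy M₁ x = M₂ ∧ conjBy F x = F) ∧
      (∀ M ∈ membersIn S L, ∃ Q' ∈ linePartners S M, M ⊔ Q' = L) ∧
      ∃ M₁ ∈ membersIn S L, M₁ ≠ P ∧ M₁ ≠ F := by
  obtain ⟨D, hD, hPD⟩ := hiso P hP
  obtain ⟨F, hFS, hFP, hFL, hsup, F', hF'N, hcA, heq, hFfix, hmem⟩ :=
    line_point_trans hS hiso hP hD hPD hQ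
  rw [hL] at hsup hF'N hmem
  have hF'K : F' ≤ ⨆ E ∈ normalizingMembers S L, E := le_biSup (fun E => E) hF'N
  have hFT : F ∈ membersIn S L := by rw [hmem]; exact Or.inr rfl
  refine ⟨F, hFP, hFT, ?_, ?_, ?_⟩
  · intro M₁ hM₁ M₂ hM₂ h1 h2
    rw [hmem] at hM₁ hM₂
    rcases hM₁ with ⟨f₁, hf₁, rfl⟩ | hM₁
    swap
    · exact absurd hM₁ h1
    rcases hM₂ with ⟨f₂, hf₂, rfl⟩ | hM₂
    swap
    · exact absurd hM₂ h2
    have hx : f₂ * f₁⁻¹ ∈ F' := F'.mul_mem hf₂ (F'.inv_mem hf₁)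
    refine ⟨f₂ * f₁⁻¹, hF'K hx, ?_, hFfix _ hx⟩
    show conjBy (conjBy P f₁) (f₂ * f₁⁻¹) = conjBy P f₂
    rw [conjBy_conjBy]
    simp
  · intro M hM
    rw [hmem] at hM
    rcases hM with ⟨f', hf', rfl⟩ | hM
    · refine ⟨F, ?_, ?_⟩
      · have := linePartners_conj hS hFL f'
        rwa [hFfix f' hf'] at this
      · show conjBy P f' ⊔ F = L
        have h1 : conjBy (P ⊔ F) f' = conjBy P f' ⊔ F := by rw [conjBy_sup, hFfix f' hf']
        rw [← h1, hsup]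
        exact conjBy_eq_self_iff.2 (hF'N.2 hf')
    · rw [Set.mem_singleton_iff] at hM
      rw [hM]
      exact ⟨P, linePartners_symm hP hFL, by rw [sup_comm]; exact hsup⟩
  · obtain ⟨f', hf', hf'1⟩ := exists_ne_one_of_ne_bot (hS.ne_bot F' hF'N.1)
    refine ⟨conjBy P f', by rw [hmem]; exact Or.inl ⟨f', hf', rfl⟩, ?_, ?_⟩
    · intro hcon
      apply hf'1
      obtain ⟨a, ha, ha1⟩ := rop_exists_left hPD
      apply commCase_cent_trivial hS hP hD hPD hcA ha ha1 hf'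
      have hti : P ⊓ F = ⊥ := by
        rcases root_ti hS hP hD hPD F hFS with h | h
        · exact h
        · exact absurd h.symm hFP
      have h1 : f' * a * f'⁻¹ ∈ P := by
        have := conj_mem_conjBy (g := f') ha
        rwa [hcon] at this
      have h2 : ⁅f', a⁆ ∈ P := by
        rw [commutatorElement_def]; exact P.mul_mem h1 (P.inv_mem ha)
      have h3 : ⁅f', a⁆ ∈ F := by
        rw [← heq, Subgroup.commutator_comm]
        exact Subgroup.commutator_mem_commutator hf' ha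
      have h4 : ⁅f', a⁆ ∈ P ⊓ F := ⟨h2, h3⟩
      rw [hti, Subgroup.mem_bot] at h4
      exact (commutatorElement_eq_one_iff_mul_comm.1 h4).symm
    · intro hcon
      apply hFP
      have : conjBy P f' = conjBy F f' := by rw [hFfix f' hf']; exact hcon
      exact (conjBy_inj this).symm

/-- Let S be a set of abstract root subgroups of G in which every member has a rank one partner, A ∈ S and B a line partner of A. Then the subgroup generated by the members of S normalizing AB permutes the members of S inside AB doubly transitively by conjugation. -/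
theorem result {G : Type*} [Group G] {S : Set (Subgroup G)} (hS : Cfsg.IsRootSubgroupSet S)
    (hF : ∀ A ∈ S, ¬ Cfsg.IsIsolatedIn (Cfsg.FAdj S) S A) {A B : Subgroup G} (hA : A ∈ S) (hB : B ∈ Cfsg.linePartners S A) :
    ∀ C₁ ∈ Cfsg.membersIn S (A ⊔ B), ∀ C₂ ∈ Cfsg.membersIn S (A ⊔ B), ∀ D₁ ∈ Cfsg.membersIn S (A ⊔ B),
      ∀ D₂ ∈ Cfsg.membersIn S (A ⊔ B), C₁ ≠ C₂ → D₁ ≠ D₂ →
        ∃ x ∈ ⨆ E ∈ Cfsg.normalizingMembers S (A ⊔ B), E, Cfsg.conjBy C₁ x = D₁ ∧ Cfsg.conjBy C₂ x = D₂ := by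
  have hiso : ∀ E ∈ S, ∃ E' ∈ S, IsRankOnePair E E' :=
    fun E hE => exists_partner_of_not_isolated hE (hF E hE)
  have hAT : A ∈ membersIn S (A ⊔ B) := ⟨hA, le_sup_left⟩
  obtain ⟨F₀, hF₀A, hF₀T, htr₀, hgood, M₁, hM₁T, hM₁A, hM₁F₀⟩ := point_lemma hS hiso hA hB rfl
  obtain ⟨Q', hQ', hQ'L⟩ := hgood F₀ hF₀T
  obtain ⟨F₁, hF₁F₀, hF₁T, htr₁, -, -⟩ := point_lemma hS hiso hF₀T.1 hQ' hQ'L
  -- a point different from F₀ and F₁
  obtain ⟨Ms, hMsT, hMsF₀, hMsF₁⟩ : ∃ Ms ∈ membersIn S (A ⊔ B), Ms ≠ F₀ ∧ Ms ≠ F₁ := by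
    by_cases h : A = F₁
    · exact ⟨M₁, hM₁T, hM₁F₀, by rw [← h]; exact hM₁A⟩
    · exact ⟨A, hAT, hF₀A.symm, h⟩
  obtain ⟨y, hyK, hy, -⟩ := htr₁ Ms hMsT F₀ hF₀T hMsF₁ hF₁F₀.symm
  -- transitivity to F₀
  have horb : ∀ M ∈ membersIn S (A ⊔ B), ∃ x ∈ ⨆ E ∈ normalizingMembers S (A ⊔ B), E, conjBy M x = F₀ := by
    intro M hM
    by_cases h : M = F₀
    · exact ⟨1, Subgroup.one_mem _, by rw [conjBy_one, h]⟩
    · obtain ⟨x, hxK, hx, -⟩ := htr₀ M hM Ms hMsT h hMsF₀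
      exact ⟨y * x, Subgroup.mul_mem _ hyK hxK, by rw [← conjBy_conjBy, hx, hy]⟩
  -- K preserves the members of the line
  have hKnorm : (⨆ E ∈ normalizingMembers S (A ⊔ B), E) ≤ Subgroup.normalizer ((A ⊔ B : Subgroup G) : Set G) :=
    iSup₂_le (fun E hE => hE.2)
  have hKT : ∀ x ∈ ⨆ E ∈ normalizingMembers S (A ⊔ B), E, ∀ M ∈ membersIn S (A ⊔ B),
      conjBy M x ∈ membersIn S (A ⊔ B) := by
    intro x hx M hM
    refine ⟨hS.conj_mem M hM.1 x, ?_⟩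
    have := conjBy_mono x hM.2
    rwa [conjBy_eq_self_iff.2 (hKnorm hx)] at this
  intro C₁ hC₁ C₂ hC₂ D₁ hD₁ D₂ hD₂ hC hD
  obtain ⟨x₁, hx₁K, hx₁⟩ := horb C₁ hC₁
  obtain ⟨y₁, hy₁K, hy₁⟩ := horb D₁ hD₁
  have hC₂' : conjBy C₂ x₁ ≠ F₀ := by
    rw [← hx₁]; intro hcon; exact hC (conjBy_inj hcon).symm
  have hD₂' : conjBy D₂ y₁ ≠ F₀ := by
    rw [← hy₁]; intro hcon; exact hD (conjBy_inj hcon).symm
  obtain ⟨s, hsK, hs, hsF⟩ := htr₀ _ (hKT x₁ hx₁K C₂ hC₂) _ (hKT y₁ hy₁K D₂ hD₂) hC₂' hD₂'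
  refine ⟨y₁⁻¹ * s * x₁, Subgroup.mul_mem _ (Subgroup.mul_mem _ (Subgroup.inv_mem _ hy₁K) hsK) hx₁K, ?_, ?_⟩
  · rw [mul_assoc, ← conjBy_conjBy, ← conjBy_conjBy, hx₁, hsF, ← hy₁, conjBy_conjBy]
    simp [conjBy_one]
  · rw [mul_assoc, ← conjBy_conjBy, ← conjBy_conjBy, hs, conjBy_conjBy]
    simp [conjBy_one]

end Cfsg.Agent.S5038
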