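import Cfsg.Statements.S2530
import Mathlib

set_option autoImplicit false
open Cfsg

namespace Cfsg.Agent.S2530

open Equiv

section abstract

variable {Γ : Type*} [Group Γ] (s : ℕ → Γ)

/-- ascending products `s 0 * s 1 * ... * s (t-1)` -/
def d : ℕ → Γ
  | 0 => 1
  | (t + 1) => d t * s t

variable {s}

theorem d_comm (R2 : ∀ j k, j + 2 ≤ k → s j * s k = s k * s j) (t k : ℕ) (h : t + 1 ≤ k) :
    d s t * s k = s k * d s t := by
  induction t with
  | zero => simp [d]
  | succ t ih =>
    have h1 := ih (by omega)
    have h2 := R2 t k (by omega)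
    calc d s (t + 1) * s k = d s t * (s t * s k) := by simp [d, mul_assoc]
      _ = d s t * (s k * s t) := by rw [h2]
      _ = (d s t * s k) * s t := by rw [mul_assoc]
      _ = s k * d s t * s t := by rw [h1]
      _ = s k * d s (t + 1) := by simp [d, mul_assoc]

theorem d_braid (n : ℕ) (R2 : ∀ j k, j + 2 ≤ k → s j * s k = s k * s j)
    (R3 : ∀ j, j + 1 ≤ n → s j * s (j + 1) * s j = s (j + 1) * s j * s (j + 1))
    (t i : ℕ) (h : i + 2 ≤ t) (ht : t ≤ n + 1) : d s t * s i = s (i + 1) * d s t := by
  induction t with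
  | zero => omega
  | succ t ih =>
    by_cases h1 : i + 2 ≤ t
    · have h2 := ih h1 (by omega)
      have h3 := R2 i t h1
      calc d s (t + 1) * s i = d s t * (s t * s i) := by simp [d, mul_assoc]
        _ = d s t * (s i * s t) := by rw [h3]
        _ = (d s t * s i) * s t := by rw [mul_assoc]
        _ = s (i + 1) * d s t * s t := by rw [h2]
        _ = s (i + 1) * d s (t + 1) := by simp [d, mul_assoc]
    · have ht' : t = i + 1 := by omega
      subst ht'
      have h4 := R3 i (by omega)
      have h5 := d_comm R2 i (i + 1) (by omega)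
      calc d s (i + 1 + 1) * s i = d s i * (s i * s (i + 1) * s i) := by simp [d, mul_assoc]
        _ = d s i * (s (i + 1) * s i * s (i + 1)) := by rw [h4]
        _ = (d s i * s (i + 1)) * s i * s (i + 1) := by simp [mul_assoc]
        _ = s (i + 1) * d s i * s i * s (i + 1) := by rw [h5]
        _ = s (i + 1) * d s (i + 1 + 1) := by simp [d, mul_assoc]

/-- the union of cosets `H * d t` is stable under right multiplication by generators -/
theorem coset_step (n : ℕ) (R1 : ∀ j, s j * s j = 1) (R2 : ∀ j k, j + 2 ≤ k → s j * s k = s k * s j)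
    (R3 : ∀ j, j + 1 ≤ n → s j * s (j + 1) * s j = s (j + 1) * s j * s (j + 1))
    (H : Subgroup Γ) (hH : ∀ k, 1 ≤ k → k ≤ n → s k ∈ H)
    (w : Γ) (hw : ∃ t, t ≤ n + 1 ∧ ∃ h ∈ H, w = h * d s t) (i : ℕ) (hi : i ≤ n) :
    ∃ t, t ≤ n + 1 ∧ ∃ h ∈ H, w * s i = h * d s t := by
  obtain ⟨t, ht, h, hh, rfl⟩ := hw
  rcases lt_trichotomy i t with hlt | heq | hgt
  · -- i < t
    by_cases h1 : i + 1 = t
    · -- last factor
      subst h1
      refine ⟨i, by omega, h, hh, ?_⟩
      simp [d, mul_assoc, R1]
    · have h2 : i + 2 ≤ t := by omega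
      refine ⟨t, ht, h * s (i + 1), H.mul_mem hh (hH _ (by omega) (by omega)), ?_⟩
      rw [mul_assoc, d_braid n R2 R3 t i h2 ht, mul_assoc]
  · subst heq
    refine ⟨i + 1, by omega, h, hh, ?_⟩
    simp [d, mul_assoc]
  · refine ⟨t, ht, h * s i, H.mul_mem hh (hH _ (by omega) hi), ?_⟩
    rw [mul_assoc, d_comm R2 t i (by omega), mul_assoc]

end abstract

theorem A_apply (n : ℕ) (i j : Fin n) : (CoxeterMatrix.A n) i j =
    if i = j then 1 else (if (j : ℕ) + 1 = i ∨ (i : ℕ) + 1 = j then 3 else 2) := rfl

theorem swap_liftable (n : ℕ) : (CoxeterMatrix.A n).IsLiftable (fun i : Fin n => (swap i.castSucc i.succ : Perm (Fin (n + 1)))) := by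
  intro i j
  rw [A_apply]
  split_ifs with h1 h2
  · subst h1
    simp
  · -- adjacent
    have key : ∀ a b : Fin n, (a : ℕ) + 1 = b →
        ((swap a.castSucc a.succ : Perm (Fin (n + 1))) * swap b.castSucc b.succ) ^ 3 = 1 ∧
        ((swap b.castSucc b.succ : Perm (Fin (n + 1))) * swap a.castSucc a.succ) ^ 3 = 1 := by
      intro a b hab
      have e1 : b.castSucc = a.succ := by
        ext; simp [← hab]
      have h3 : a.succ ≠ a.castSucc := by
        intro h; have := congrArg Fin.val h; simp at this
      have h4 : a.succ ≠ b.succ := by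
        intro h; have := congrArg Fin.val h; simp at this; omega
      have h5 : a.castSucc ≠ b.succ := by
        intro h; have := congrArg Fin.val h; simp at this; omega
      have t1 : Equiv.Perm.IsThreeCycle ((swap a.castSucc a.succ : Perm (Fin (n + 1))) * swap b.castSucc b.succ) := by
        rw [e1, swap_comm a.castSucc a.succ]
        exact Equiv.Perm.isThreeCycle_swap_mul_swap_same h3 h4 h5
      have t2 : Equiv.Perm.IsThreeCycle ((swap b.castSucc b.succ : Perm (Fin (n + 1))) * swap a.castSucc a.succ) := by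
        rw [e1, swap_comm a.castSucc a.succ]
        exact Equiv.Perm.isThreeCycle_swap_mul_swap_same h4 h3 h5.symm
      exact ⟨by rw [← t1.orderOf]; exact pow_orderOf_eq_one _, by rw [← t2.orderOf]; exact pow_orderOf_eq_one _⟩
    rcases h2 with h2 | h2
    · exact (key j i h2).2
    · exact (key i j h2).1
  · -- far apart
    have hij : (i : ℕ) ≠ j := fun h => h1 (Fin.ext h)
    have hnd : [i.castSucc, i.succ, j.castSucc, j.succ].Nodup := by
      have e1 : i.castSucc ≠ i.succ := by
        intro h; have := congrArg Fin.val h; simp at this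
      have e2 : i.castSucc ≠ j.castSucc := by
        intro h; have := congrArg Fin.val h; simp at this; omega
      have e3 : i.castSucc ≠ j.succ := by
        intro h; have := congrArg Fin.val h; simp at this; omega
      have e4 : i.succ ≠ j.castSucc := by
        intro h; have := congrArg Fin.val h; simp at this; omega
      have e5 : i.succ ≠ j.succ := by
        intro h; have := congrArg Fin.val h; simp at this; omega
      have e6 : j.castSucc ≠ j.succ := by
        intro h; have := congrArg Fin.val h; simp at this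
      simp only [List.nodup_cons, List.mem_cons, List.not_mem_nil, or_false, not_or, List.nodup_nil, and_true]
      exact ⟨⟨e1, e2, e3⟩, ⟨e4, e5⟩, e6, not_false⟩
    have hc := (Equiv.Perm.disjoint_swap_swap hnd).commute
    have hc' : (swap i.castSucc i.succ : Perm (Fin (n + 1))) * swap j.castSucc j.succ = swap j.castSucc j.succ * swap i.castSucc i.succ := hc.eq
    calc ((swap i.castSucc i.succ : Perm (Fin (n + 1))) * swap j.castSucc j.succ) ^ 2
        = (swap i.castSucc i.succ * swap j.castSucc j.succ) * (swap j.castSucc j.succ * swap i.castSucc i.succ) := by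
          rw [pow_two, ← hc']
      _ = swap i.castSucc i.succ * (swap j.castSucc j.succ * swap j.castSucc j.succ) * swap i.castSucc i.succ := by
          simp only [mul_assoc]
      _ = 1 := by rw [swap_mul_self, mul_one, swap_mul_self]

/-- the Coxeter group of type `A n` -/
abbrev W (n : ℕ) := (CoxeterMatrix.A n).Group

/-- its canonical Coxeter system -/
abbrev cs (n : ℕ) : CoxeterSystem (CoxeterMatrix.A n) (W n) := (CoxeterMatrix.A n).toCoxeterSystem

/-- generators indexed by naturals -/
noncomputable def sN (n : ℕ) (j : ℕ) : W n := if h : j < n then (cs n).simple ⟨j, h⟩ else 1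

theorem sN_of_lt (n : ℕ) (j : ℕ) (h : j < n) : sN n j = (cs n).simple ⟨j, h⟩ := by
  simp [sN, h]

theorem sN_R1 (n j : ℕ) : sN n j * sN n j = 1 := by
  unfold sN
  split_ifs
  · exact (cs n).simple_mul_simple_self _
  · simp

theorem sN_R2 (n j k : ℕ) (h : j + 2 ≤ k) : sN n j * sN n k = sN n k * sN n j := by
  by_cases hk : k < n
  · have hj : j < n := by omega
    rw [sN_of_lt n j hj, sN_of_lt n k hk]
    have h1 := (cs n).simple_mul_simple_pow ⟨j, hj⟩ ⟨k, hk⟩
    have hM : (CoxeterMatrix.A n) ⟨j, hj⟩ ⟨k, hk⟩ = 2 := by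
      rw [A_apply]
      have : (⟨j, hj⟩ : Fin n) ≠ ⟨k, hk⟩ := by
        intro h; have := congrArg Fin.val h; simp at this; omega
      rw [if_neg this, if_neg]
      simp only [not_or]
      constructor <;> omega
    rw [hM, pow_two] at h1
    set a := (cs n).simple ⟨j, hj⟩ with ha
    set b := (cs n).simple ⟨k, hk⟩ with hb
    have ha2 : a * a = 1 := (cs n).simple_mul_simple_self _
    have hb2 : b * b = 1 := (cs n).simple_mul_simple_self _
    calc a * b = a * b * (a * b * (b * a)) := by
          have : a * b * (b * a) = 1 := by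
            rw [mul_assoc, ← mul_assoc b b a, hb2, one_mul, ha2]
          rw [this, mul_one]
      _ = (a * b * (a * b)) * (b * a) := by simp only [mul_assoc]
      _ = b * a := by rw [h1, one_mul]
  · have : sN n k = 1 := by simp [sN, hk]
    rw [this, mul_one, one_mul]

theorem sN_R3 (n j : ℕ) (h : j + 1 < n) : sN n j * sN n (j + 1) * sN n j = sN n (j + 1) * sN n j * sN n (j + 1) := by
  have hj : j < n := by omega
  rw [sN_of_lt n j hj, sN_of_lt n (j + 1) h]
  have h1 := (cs n).simple_mul_simple_pow ⟨j, hj⟩ ⟨j + 1, h⟩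
  have hM : (CoxeterMatrix.A n) ⟨j, hj⟩ ⟨j + 1, h⟩ = 3 := by
    rw [A_apply]
    have : (⟨j, hj⟩ : Fin n) ≠ ⟨j + 1, h⟩ := by
      intro h; have := congrArg Fin.val h; simp at this
    rw [if_neg this, if_pos]
    right; rfl
  rw [hM, pow_succ, pow_two] at h1
  set a := (cs n).simple ⟨j, hj⟩ with ha
  set b := (cs n).simple ⟨j + 1, h⟩ with hb
  have ha2 : a * a = 1 := (cs n).simple_mul_simple_self _
  have hb2 : b * b = 1 := (cs n).simple_mul_simple_self _
  -- a b a b a b = 1
  have h2 : a * b * a * (b * a * b) = 1 := by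
    rw [← h1]; simp only [mul_assoc]
  have h3 : (b * a * b) * (b * a * b) = 1 := by
    calc (b * a * b) * (b * a * b) = b * a * (b * b) * a * b := by simp only [mul_assoc]
      _ = 1 := by rw [hb2, mul_one, mul_assoc b a a, ha2, mul_one, hb2]
  calc a * b * a = a * b * a * ((b * a * b) * (b * a * b)) := by rw [h3, mul_one]
    _ = (a * b * a * (b * a * b)) * (b * a * b) := by simp only [mul_assoc]
    _ = b * a * b := by rw [h2, one_mul]

/-- the shift homomorphism `W n → W (n+1)` -/
noncomputable def shiftHom (n : ℕ) : W n →* W (n + 1) :=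
  (cs n).lift ⟨fun i => (cs (n + 1)).simple i.succ, by
    intro i j
    have h1 := (cs (n + 1)).simple_mul_simple_pow i.succ j.succ
    have hM : (CoxeterMatrix.A (n + 1)) i.succ j.succ = (CoxeterMatrix.A n) i j := by
      rw [A_apply, A_apply]
      simp only [Fin.succ_inj, Fin.val_succ, add_left_inj]
    rw [hM] at h1
    exact h1⟩

theorem shiftHom_simple (n : ℕ) (i : Fin n) : shiftHom n ((cs n).simple i) = (cs (n + 1)).simple i.succ :=
  (cs n).lift_apply_simple _ i

theorem mem_cosets (n : ℕ) (w : W (n + 1)) :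
    ∃ t, t ≤ n + 1 ∧ ∃ h ∈ (shiftHom n).range, w = h * d (sN (n + 1)) t := by
  apply (cs (n + 1)).simple_induction_right w
  · exact ⟨0, by omega, 1, Subgroup.one_mem _, by simp [d]⟩
  · intro w i hw
    have hi : (cs (n + 1)).simple i = sN (n + 1) i.val := by
      rw [sN_of_lt (n + 1) i.val i.2]
    rw [hi]
    apply coset_step n (sN_R1 (n + 1)) (sN_R2 (n + 1)) (fun j hj => sN_R3 (n + 1) j (by omega)) _ _ w hw i.val
      (by have := i.2; omega)
    intro k hk1 hk2
    obtain ⟨k', rfl⟩ : ∃ k', k = k' + 1 := ⟨k - 1, by omega⟩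
    have hk' : k' < n := by omega
    refine ⟨(cs n).simple ⟨k', hk'⟩, ?_⟩
    rw [shiftHom_simple, sN_of_lt (n + 1) (k' + 1) (by omega)]
    rfl

theorem finite_and_card_le (n : ℕ) : Finite (W n) ∧ Nat.card (W n) ≤ (n + 1).factorial := by
  induction n with
  | zero =>
    have hsub : ∀ w : W 0, w = 1 := by
      intro w
      apply (cs 0).simple_induction w
      · intro i; exact i.elim0
      · rfl
      · intro a b ha hb; rw [ha, hb, one_mul]
    have : Subsingleton (W 0) := ⟨fun a b => by rw [hsub a, hsub b]⟩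
    refine ⟨inferInstance, ?_⟩
    rw [Nat.card_unique]
    simp
  | succ n ih =>
    obtain ⟨hfin, hcard⟩ := ih
    have hHfin : Finite (shiftHom n).range :=
      Finite.of_surjective (shiftHom n).rangeRestrict (shiftHom n).rangeRestrict_surjective
    have hHcard : Nat.card (shiftHom n).range ≤ Nat.card (W n) :=
      Nat.card_le_card_of_surjective (shiftHom n).rangeRestrict (shiftHom n).rangeRestrict_surjective
    let g : Fin (n + 2) × (shiftHom n).range → W (n + 1) := fun p => (p.2 : W (n + 1)) * d (sN (n + 1)) p.1.val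
    have hg : Function.Surjective g := by
      intro w
      obtain ⟨t, ht, h, hh, rfl⟩ := mem_cosets n w
      exact ⟨(⟨t, by omega⟩, ⟨h, hh⟩), rfl⟩
    have hfin' : Finite (W (n + 1)) := Finite.of_surjective g hg
    refine ⟨hfin', ?_⟩
    calc Nat.card (W (n + 1)) ≤ Nat.card (Fin (n + 2) × (shiftHom n).range) := Nat.card_le_card_of_surjective g hg
      _ = (n + 2) * Nat.card (shiftHom n).range := by rw [Nat.card_prod, Nat.card_fin]
      _ ≤ (n + 2) * (n + 1).factorial := Nat.mul_le_mul_left _ (hHcard.trans hcard)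
      _ = (n + 1 + 1).factorial := by rw [Nat.factorial_succ (n + 1)]


/-- the homomorphism onto the symmetric group -/
noncomputable def toPerm (n : ℕ) : W n →* Perm (Fin (n + 1)) :=
  (cs n).lift ⟨fun i : Fin n => (swap i.castSucc i.succ : Perm (Fin (n + 1))), swap_liftable n⟩

theorem toPerm_simple (n : ℕ) (i : Fin n) : toPerm n ((cs n).simple i) = swap i.castSucc i.succ :=
  (cs n).lift_apply_simple _ i

theorem toPerm_surjective (n : ℕ) : Function.Surjective (toPerm n) := by
  rw [← MonoidHom.range_eq_top, ← Subgroup.toSubmonoid_inj, Subgroup.top_toSubmonoid, eq_top_iff,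
    ← Equiv.Perm.mclosure_swap_castSucc_succ n, Submonoid.closure_le]
  rintro _ ⟨i, rfl⟩
  exact ⟨(cs n).simple i, toPerm_simple n i⟩

theorem toPerm_bijective (n : ℕ) : Function.Bijective (toPerm n) := by
  obtain ⟨hfin, hcard⟩ := finite_and_card_le n
  apply (toPerm_surjective n).bijective_of_nat_card_le
  rw [Nat.card_eq_fintype_card (α := Perm (Fin (n + 1))), Fintype.card_perm, Fintype.card_fin]
  exact hcard

/-- The Coxeter presentation of the symmetric group: for every n, the symmetric group on n+1 letters is the Coxeter group of type A_n with the adjacent transpositions (i, i+1) as simple reflections; that is, it is presented by generators r_1, …, r_n subject to r_i² = 1, (r_i r_j)² = 1 for |i − j| > 1 and (r_i r_{i+1})³ = 1, with r_i mapping to (i, i+1). -/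
theorem result (n : ℕ) :
    ∃ cs : CoxeterSystem (CoxeterMatrix.A n) (Equiv.Perm (Fin (n + 1))), ∀ i : Fin n, cs.simple i = Equiv.swap i.castSucc i.succ := by
  refine ⟨⟨(MulEquiv.ofBijective (toPerm n) (toPerm_bijective n)).symm⟩, ?_⟩
  intro i
  show (MulEquiv.ofBijective (toPerm n) (toPerm_bijective n)).symm.symm (PresentedGroup.of i) = _
  rw [MulEquiv.symm_symm]
  exact toPerm_simple n i

end Cfsg.Agent.S2530
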