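import Cfsg.Statements.S5031
import Cfsg.Agent.Lib.Helper83.RootSub3

set_option autoImplicit false
open Cfsg

namespace Cfsg.Agent.S5031

open Cfsg.Agent.Lib.Helper83

/-- Let S be a set of abstract root subgroups of G and let A, B ∈ S lie in different connected components of the graph of rank one pairs on S, each component having more than one member. Then B is not a line partner of A. -/
theorem result {G : Type*} [Group G] {S : Set (Subgroup G)} (hS : Cfsg.IsRootSubgroupSet S)
    {A B : Subgroup G} (hA : A ∈ S) (hB : B ∈ S)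
    (hne : Cfsg.componentOf (Cfsg.FAdj S) S A ≠ Cfsg.componentOf (Cfsg.FAdj S) S B)
    (hA2 : ∃ A' ∈ Cfsg.componentOf (Cfsg.FAdj S) S A, A' ≠ A) (hB2 : ∃ B' ∈ Cfsg.componentOf (Cfsg.FAdj S) S B, B' ≠ B) :
    B ∉ Cfsg.linePartners S A := by
  rintro ⟨⟨-, hBA, hcomm⟩, hpart⟩
  obtain ⟨A', hAA'⟩ := exists_FAdj_of_comp hA2
  obtain ⟨B', hBB'⟩ := exists_FAdj_of_comp hB2
  have hAcB : A ≤ Subgroup.centralizer (B : Set G) := Subgroup.commutator_eq_bot_iff_le_centralizer.1 hcomm
  have hBcA : B ≤ Subgroup.centralizer (A : Set G) := le_centralizer_symm hAcB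
  obtain ⟨a, ha, ha1⟩ := exists_ne_one_of_ne_bot (hS.ne_bot A hA)
  obtain ⟨b, hb, hb1⟩ := exists_ne_one_of_ne_bot (hS.ne_bot B hB)
  have hab : a * b = b * a := ((Subgroup.mem_centralizer_iff.1 (hAcB ha)) b hb).symm
  have hab1 : a * b ≠ 1 := by
    intro hc
    have hbA : b ∈ A := by
      have : b = a⁻¹ := by
        have := congrArg (a⁻¹ * ·) hc
        simpa using this
      rw [this]; exact A.inv_mem ha
    rcases root_ti hS hA hAA'.2.1 hAA'.2.2 B hB with h | h
    · have : b ∈ A ⊓ B := ⟨hbA, hb⟩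
      rw [h, Subgroup.mem_bot] at this
      exact hb1 this
    · exact hBA h.symm
  obtain ⟨F, ⟨hFS, -⟩, hfF⟩ := hpart.2.1 (a * b)
    (Subgroup.mul_mem _ (Subgroup.mem_sup_left ha) (Subgroup.mem_sup_right hb)) hab1
  by_cases hFA : F ∈ componentOf (FAdj S) S A
  · -- then F is not in the component of B
    have hFB : F ∉ componentOf (FAdj S) S B := by
      intro hFB
      apply hne
      rw [comp_eq_of_rtg hFA.2, comp_eq_of_rtg hFB.2]
    apply no_line_core hS hB hBB'.2.1 hA hFS hBB'.2.2 hb hb1 ha ha1 hBcA (by rw [← hab]; exact hfF)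
      (by rw [← hab]; exact hab1)
    · intro hr
      apply hne
      have : Relation.ReflTransGen (FAdj S) B A :=
        Relation.ReflTransGen.tail (Relation.ReflTransGen.single hBB') ⟨hBB'.2.1, hA, hr⟩
      exact (comp_eq_of_rtg this).symm
    · intro hr
      apply hFB
      exact ⟨hFS, Relation.ReflTransGen.tail (Relation.ReflTransGen.single hBB') ⟨hBB'.2.1, hFS, hr⟩⟩
  · apply no_line_core hS hA hAA'.2.1 hB hFS hAA'.2.2 ha ha1 hb hb1 hAcB hfF hab1
    · intro hr
      apply hne
      have : Relation.ReflTransGen (FAdj S) A B :=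
        Relation.ReflTransGen.tail (Relation.ReflTransGen.single hAA') ⟨hAA'.2.1, hB, hr⟩
      exact comp_eq_of_rtg this
    · intro hr
      apply hFA
      exact ⟨hFS, Relation.ReflTransGen.tail (Relation.ReflTransGen.single hAA') ⟨hAA'.2.1, hFS, hr⟩⟩

end Cfsg.Agent.S5031
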