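import Cfsg.Statements.S5032
import Cfsg.Agent.Lib.Helper83.RootSub4
import Cfsg.Agent.S5031

set_option autoImplicit false
open Cfsg

namespace Cfsg.Agent.S5032

open Cfsg.Agent.Lib.Helper83
open scoped commutatorElement

variable {G : Type*} [Group G] {S : Set (Subgroup G)}

theorem FAdj_conj (hS : IsRootSubgroupSet S) {X Y : Subgroup G} (g : G) (h : FAdj S X Y) :
    FAdj S (conjBy X g) (conjBy Y g) :=
  ⟨hS.conj_mem X h.1 g, hS.conj_mem Y h.2.1 g, rop_conj h.2.2 g⟩

theorem rtg_conj (hS : IsRootSubgroupSet S) {X Y : Subgroup G} (g : G)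
    (h : Relation.ReflTransGen (FAdj S) X Y) :
    Relation.ReflTransGen (FAdj S) (conjBy X g) (conjBy Y g) := by
  induction h with
  | refl => exact Relation.ReflTransGen.refl
  | tail _ hstep ih => exact Relation.ReflTransGen.tail ih (FAdj_conj hS g hstep)

/-- line partner from the commutator case -/
theorem conj_mem_linePartners (hS : IsRootSubgroupSet S) {D E D' : Subgroup G} (hD : D ∈ S) (_hE : E ∈ S)
    (hD' : D' ∈ S) (hDD' : IsRankOnePair D D') (hc : RootCommutatorCase S D E) {e : G} (he : e ∈ E)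
    (hne : conjBy D e ≠ D) : conjBy D e ∈ linePartners S D := by
  have hDab := hS.commutative D hD
  have he1 : e ≠ 1 := by
    intro hcon; apply hne; rw [hcon, conjBy_one]
  have hcomm : conjBy D e ≤ Subgroup.centralizer (D : Set G) :=
    commCase_conj_comm hDab (commCase_symm hc) he
  refine ⟨⟨hS.conj_mem D hD e, hne, ?_⟩, ?_⟩
  · rw [Subgroup.commutator_eq_bot_iff_le_centralizer]
    exact le_centralizer_symm hcomm
  · have hmem := commCase_members hS hD hD' hDD' hc
    have hle : conjBy D e ≤ D ⊔ ⁅D, E⁆ := by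
      have : conjBy D e ∈ membersIn S (D ⊔ ⁅D, E⁆) := by
        rw [hmem]; left; exact ⟨e, he, rfl⟩
      exact this.2
    have heq : D ⊔ conjBy D e = D ⊔ ⁅D, E⁆ := by
      apply le_antisymm (sup_le le_sup_left hle)
      apply sup_le le_sup_left
      rw [← hc.2.2.2 e he he1, Subgroup.closure_le]
      rintro _ ⟨d, hd, rfl⟩
      have h1 : e * d⁻¹ * e⁻¹ ∈ conjBy D e := conj_mem_conjBy (D.inv_mem hd)
      have := Subgroup.mul_mem _ (Subgroup.mem_sup_left hd : d ∈ D ⊔ conjBy D e) (Subgroup.mem_sup_right h1)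
      simpa [mul_assoc] using this
    rw [heq]
    exact commCase_partition hS hD hD' hDD' hc

theorem result {G : Type*} [Group G] {S : Set (Subgroup G)} (hS : Cfsg.IsRootSubgroupSet S) (h2 : ∃ A ∈ S, ∃ B ∈ S, A ≠ B) :
    Cfsg.IsConnectedFamily (Cfsg.FAdj S) S ↔
      (Cfsg.IsConjClassOfSubgroups S ∧ ∃ A ∈ S, ¬ Cfsg.IsIsolatedIn (Cfsg.FAdj S) S A) := by
  constructor
  · intro hconn
    obtain ⟨A, hA, B, hB, hAB⟩ := h2
    refine ⟨⟨⟨A, hA⟩, ?_⟩, A, hA, ?_⟩
    · intro X hX Y hY
      have hp := hconn X hX Y hY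
      induction hp with
      | refl => exact ⟨1, (conjBy_one X).symm⟩
      | @tail Y' Z _ hstep ih =>
        obtain ⟨g, hg⟩ := ih hstep.1
        obtain ⟨x, -, hx⟩ := rop_B_mem_unip hstep.2.2
        exact ⟨x * g, by rw [hx, hg, conjBy_conjBy]⟩
    · rcases Relation.ReflTransGen.cases_head (hconn A hA B hB) with h | ⟨c, hc, -⟩
      · exact absurd h hAB
      · exact not_isolated_of_partner hA hc.2.1 hc.2.2
  · rintro ⟨⟨-, hconj⟩, A₀, hA₀, hiso⟩
    obtain ⟨E₀, hE₀, hAE₀⟩ := exists_partner_of_not_isolated hA₀ hiso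
    -- every member has a partner
    have hpartner : ∀ X ∈ S, ∃ X' ∈ S, IsRankOnePair X X' := by
      intro X hX
      obtain ⟨g, hg⟩ := hconj A₀ hA₀ X hX
      exact ⟨conjBy E₀ g, hS.conj_mem E₀ hE₀ g, by rw [hg]; exact rop_conj hAE₀ g⟩
    intro A hA B hB
    -- the component of A is invariant
    have hinv : ∀ E ∈ S, ∀ e ∈ E, ∀ D ∈ componentOf (FAdj S) S A,
        conjBy D e ∈ componentOf (FAdj S) S A := by
      intro E hE e he D hD
      refine ⟨hS.conj_mem D hD.1 e, ?_⟩
      by_cases hEΔ : Relation.ReflTransGen (FAdj S) A E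
      · have h1 := rtg_conj hS e hEΔ
        rw [conjBy_mem_self he] at h1
        have h3 := rtg_conj hS e hD.2
        exact hEΔ.trans ((rtg_FAdj_symm h1).trans h3)
      · rcases hS.pair D hD.1 E hE with h | h | h
        · rw [Subgroup.commutator_eq_bot_iff_le_centralizer] at h
          rw [conjBy_eq_self_of_le_centralizer he (le_centralizer_symm h)]
          exact hD.2
        · exact absurd (Relation.ReflTransGen.tail hD.2 ⟨hD.1, hE, h⟩) hEΔ
        · by_cases hne : conjBy D e = D
          · rw [hne]; exact hD.2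
          · obtain ⟨D', hD', hDD'⟩ := hpartner D hD.1
            have hline := conj_mem_linePartners hS hD.1 hE hD' hDD' h he hne
            have hcomp : componentOf (FAdj S) S D = componentOf (FAdj S) S (conjBy D e) := by
              by_contra hcne
              apply Cfsg.Agent.S5031.result hS hD.1 (hS.conj_mem D hD.1 e) hcne ?_ ?_ hline
              · exact ⟨D', ⟨hD', Relation.ReflTransGen.single ⟨hD.1, hD', hDD'⟩⟩, hDD'.ne.symm⟩
              · refine ⟨conjBy D' e, ⟨hS.conj_mem D' hD' e, Relation.ReflTransGen.single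
                  (FAdj_conj hS e ⟨hD.1, hD', hDD'⟩)⟩, ?_⟩
                intro hcon
                exact hDD'.ne (conjBy_inj hcon).symm
            have hmem : conjBy D e ∈ componentOf (FAdj S) S (conjBy D e) :=
              ⟨hS.conj_mem D hD.1 e, Relation.ReflTransGen.refl⟩
            rw [← hcomp] at hmem
            exact hD.2.trans hmem.2
    have hstab : (⊤ : Subgroup G) ≤ famStab (componentOf (FAdj S) S A) := by
      rw [← hS.generates]
      apply iSup₂_le
      intro E hE
      exact le_famStab_of_forall (fun e he D hD => hinv E hE e he D hD)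
    obtain ⟨g, hg⟩ := hconj A hA B hB
    have hAΔ : A ∈ componentOf (FAdj S) S A := ⟨hA, Relation.ReflTransGen.refl⟩
    have := (hstab (Subgroup.mem_top g) A hAΔ).1
    rw [← hg] at this
    exact this.2

end Cfsg.Agent.S5032
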