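import Cfsg.Statements.S2117
import Cfsg.Agent.Lib.Helper65.SL2Mult
import Cfsg.Agent.S0261
import Cfsg.Agent.S0262

set_option autoImplicit false
open Cfsg

namespace Cfsg.Agent.S2117

open Cfsg.Agent.Lib.Helper65 Cfsg.Agent.Lib.Helper65.SL2Mult

/-- transport a stem extension along an isomorphism of the target -/
theorem stem_comp_equiv {Γ P P' : Type*} [Group Γ] [Group P] [Group P'] (e : P ≃* P')
    (σ : Γ →* P) (hσ : Cfsg.IsStemExtension σ) :
    Cfsg.IsStemExtension (e.toMonoidHom.comp σ) ∧ (e.toMonoidHom.comp σ).ker = σ.ker := by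
  have hk : (e.toMonoidHom.comp σ).ker = σ.ker := by
    ext x
    rw [MonoidHom.mem_ker, MonoidHom.mem_ker]
    show e (σ x) = 1 ↔ _
    rw [MulEquiv.map_eq_one_iff]
  refine ⟨⟨e.surjective.comp hσ.1, ?_, ?_⟩, hk⟩
  · rw [hk]; exact hσ.2.1
  · rw [hk]; exact hσ.2.2

/-- the kernel of a stem extension of `SL₂(F)` is trivial -/
theorem ker_eq_bot {F : Type*} [Field F] [Fintype F] (h4 : Fintype.card F ≠ 4)
    (h9 : Fintype.card F ≠ 9) {Γ : Type*} [Group Γ] [Finite Γ]
    (σ : Γ →* Matrix.SpecialLinearGroup (Fin 2) F) (hσ : Cfsg.IsStemExtension σ) : σ.ker = ⊥ := by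
  classical
  by_contra hne
  have hcard : Nat.card σ.ker ≠ 1 := by
    intro h1
    apply hne
    exact (Subgroup.card_eq_one).1 h1
  obtain ⟨r, hrp, hrdvd⟩ := Nat.exists_prime_and_dvd hcard
  have : Fact r.Prime := ⟨hrp⟩
  obtain ⟨z', hz'⟩ := exists_prime_orderOf_dvd_card' r hrdvd
  obtain ⟨z, hz⟩ := z'
  have hord : orderOf z = r := by
    rw [← hz']; exact (Subgroup.orderOf_mk z hz).symm
  have hz1 : z ≠ 1 := by
    intro h
    rw [h, orderOf_one] at hord
    exact hrp.one_lt.ne hord
  -- the characteristic
  set p := ringChar F with hpdef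
  have : CharP F p := ringChar.charP F
  have hpp : p.Prime := CharP.char_is_prime F p
  have : Fact p.Prime := ⟨hpp⟩
  obtain ⟨n, -, hn⟩ := FiniteField.card F p
  by_cases hrp' : r = p
  · -- the characteristic part
    subst hrp'
    have hzp : z ^ p = 1 := by rw [← hord]; exact pow_orderOf_eq_one z
    by_cases hn1 : (n : ℕ) = 1
    · -- prime field: the unipotent subgroup is cyclic
      have hq : Fintype.card F = p := by rw [hn, hn1, pow_one]
      have hUcard : Nat.card (U (F := F)) = p := by rw [card_U, hq]
      have hUc : IsCyclic (U (F := F)) := isCyclic_of_prime_card hUcard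
      have h1 := pow_index_eq_one_of_trivial_mult (U (F := F))
        (fun Δ _ _ τ hτ => stem_ker_eq_bot_of_isCyclic τ hτ) σ hσ z hz
      rw [index_U, hq] at h1
      have hdvd : p ∣ p ^ 2 - 1 := by
        have := orderOf_dvd_of_pow_eq_one h1
        rwa [hord] at this
      have h2 : p ∣ p ^ 2 := dvd_pow_self p (by norm_num)
      have hr1 : 1 ≤ p ^ 2 := Nat.one_le_pow _ _ hrp.pos
      have h3 : p ∣ p ^ 2 - (p ^ 2 - 1) := Nat.dvd_sub h2 hdvd
      have h4' : p ^ 2 - (p ^ 2 - 1) = 1 := by omega
      rw [h4'] at h3
      exact hrp.one_lt.ne' (Nat.dvd_one.1 h3)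
    · -- non-prime field
      have hn2 : 2 ≤ (n : ℕ) := by
        have := n.pos
        omega
      have hst : ∃ s t : F, s ≠ 0 ∧ t ≠ 0 ∧ s ^ 2 + 1 = t ^ 2 ∧ (s ^ 2) ^ 2 + s ^ 2 + 1 ≠ 0 := by
        by_cases hp2 : p = 2
        · apply exists_st_even (by rw [← hpdef, hp2])
          rw [hn, hp2]
          have hn3 : 3 ≤ (n : ℕ) := by
            rcases Nat.lt_or_ge (n : ℕ) 3 with h | h
            · exfalso
              have : (n : ℕ) = 2 := by omega
              apply h4
              rw [hn, hp2, this]
              norm_num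
            · exact h
          calc 8 = 2 ^ 3 := by norm_num
            _ ≤ 2 ^ (n : ℕ) := Nat.pow_le_pow_right (by norm_num) hn3
        · have h2F : (2 : F) ≠ 0 := by
            intro h
            have : ((2 : ℕ) : F) = 0 := by exact_mod_cast h
            rw [CharP.cast_eq_zero_iff F p] at this
            exact hp2 ((Nat.prime_dvd_prime_iff_eq hpp Nat.prime_two).1 this)
          apply exists_st_odd h2F
          rw [hn]
          have hp3 : 3 ≤ p := by
            have := hpp.two_le
            omega
          by_cases hp3' : p = 3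
          · have hn3 : 3 ≤ (n : ℕ) := by
              rcases Nat.lt_or_ge (n : ℕ) 3 with h | h
              · exfalso
                have : (n : ℕ) = 2 := by omega
                apply h9
                rw [hn, hp3', this]
                norm_num
              · exact h
            calc 13 < 3 ^ 3 := by norm_num
              _ ≤ 3 ^ (n : ℕ) := Nat.pow_le_pow_right (by norm_num) hn3
              _ = p ^ (n : ℕ) := by rw [hp3']
          · have hp5 : 5 ≤ p := by
              rcases Nat.lt_or_ge p 5 with h | h
              · exfalso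
                have h4r : p = 4 := by omega
                rw [h4r] at hpp
                norm_num at hpp
              · exact h
            calc 13 < 5 ^ 2 := by norm_num
              _ ≤ p ^ 2 := Nat.pow_le_pow_left hp5 2
              _ ≤ p ^ (n : ℕ) := Nat.pow_le_pow_right hpp.pos hn2
      obtain ⟨s, t, hs, ht, hst', hd⟩ := hst
      exact hz1 (no_p_torsion p σ hσ hs ht hst' hd z hz hzp)
  · -- the part prime to the characteristic: Sylow subgroups have trivial multiplier
    let R : Sylow r (Matrix.SpecialLinearGroup (Fin 2) F) := default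
    have hR : ∀ (Δ : Type _) [Group Δ] [Finite Δ]
        (τ : Δ →* (R : Subgroup (Matrix.SpecialLinearGroup (Fin 2) F))),
        Cfsg.IsStemExtension τ → τ.ker = ⊥ := by
      intro Δ _ _ τ hτ
      by_cases hr2 : r = 2
      · subst hr2
        have hodd : Odd (Fintype.card F) := by
          rw [hn]
          apply Odd.pow
          exact hpp.odd_of_ne_two (fun h => hrp' h.symm)
        obtain ⟨k, -, ⟨e⟩⟩ := Cfsg.Agent.S0261.result hodd R
        have : NeZero (2 ^ k) := ⟨by positivity⟩
        obtain ⟨hst, hk⟩ := stem_comp_equiv e τ hτ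
        rw [← hk]
        exact stem_ker_eq_bot_quaternion (2 ^ k) _ hst
      · have hc : IsCyclic (R : Subgroup (Matrix.SpecialLinearGroup (Fin 2) F)) :=
          Cfsg.Agent.S0262.result p r hr2 hrp' R
        exact stem_ker_eq_bot_of_isCyclic τ hτ
    have h1 := pow_index_eq_one_of_trivial_mult
      (R : Subgroup (Matrix.SpecialLinearGroup (Fin 2) F)) hR σ hσ z hz
    have hdvd : r ∣ (R : Subgroup (Matrix.SpecialLinearGroup (Fin 2) F)).index := by
      have := orderOf_dvd_of_pow_eq_one h1
      rwa [hord] at this
    exact R.not_dvd_index hdvd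

/-- For a finite field with q elements, q ≠ 4 and q ≠ 9, the special linear group SL₂ has trivial Schur multiplier (here the Schur multiplier is described through stem extensions, as in the definitions). -/
theorem result {F : Type*} [Field F] [Fintype F] (h4 : Fintype.card F ≠ 4) (h9 : Fintype.card F ≠ 9) : Cfsg.HasCyclicSchurMultiplier (Matrix.SpecialLinearGroup (Fin 2) F) 1 := by
  classical
  have hid : Cfsg.IsStemExtension (MonoidHom.id (Matrix.SpecialLinearGroup (Fin 2) F)) := by
    refine ⟨Function.surjective_id, ?_, ?_⟩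
    · rw [MonoidHom.ker_id]; exact bot_le
    · rw [MonoidHom.ker_id]; exact bot_le
  constructor
  · refine ⟨Matrix.SpecialLinearGroup (Fin 2) F, inferInstance, inferInstance, MonoidHom.id _, hid, ?_⟩
    have hs : Subsingleton (MonoidHom.id (Matrix.SpecialLinearGroup (Fin 2) F)).ker := by
      rw [MonoidHom.ker_id]; infer_instance
    have hs2 : Subsingleton (Multiplicative (ZMod 1)) := by
      show Subsingleton (Multiplicative (Fin 1))
      infer_instance
    exact ⟨{ toFun := fun _ => 1, invFun := fun _ => 1,
             left_inv := fun _ => Subsingleton.elim _ _,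
             right_inv := fun _ => Subsingleton.elim _ _,
             map_mul' := fun _ _ => Subsingleton.elim _ _ }⟩
  · intro Γ _ _ σ hσ
    have hk := ker_eq_bot h4 h9 σ hσ
    have hs : Subsingleton σ.ker := by rw [hk]; infer_instance
    exact ⟨1, fun x => ⟨1, Subsingleton.elim _ _⟩⟩

end Cfsg.Agent.S2117
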