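import Cfsg.Statements.S3961
import Mathlib
import Cfsg.Agent.Lib.Helper66.Schur
import Cfsg.Agent.Lib.Helper66.Central

set_option autoImplicit false
universe u v
open Cfsg

namespace Cfsg.Agent.S3961

open Cfsg.Agent.Lib.Helper66
open scoped commutatorElement

/-- a stem extension of a perfect group is perfect -/
theorem perfect_of_stem {Γ G : Type*} [Group Γ] [Group G] (hG : Group.IsPerfect G) (σ : Γ →* G)
    (hσ : Cfsg.IsStemExtension σ) : Group.IsPerfect Γ := by
  constructor
  have hmap := map_commutator_eq_of_surjective σ hσ.1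
  rw [hG.commutator_eq_top] at hmap
  rw [eq_top_iff]
  intro x _
  have : σ x ∈ (commutator Γ).map σ := by rw [hmap]; exact Subgroup.mem_top _
  obtain ⟨d, hd, hdx⟩ := this
  have hk : d⁻¹ * x ∈ σ.ker := by
    rw [MonoidHom.mem_ker, map_mul, map_inv, hdx]; simp
  have : x = d * (d⁻¹ * x) := by group
  rw [this]
  exact mul_mem hd (hσ.2.2 hk)

/-- an endomorphism of a perfect group that is the identity modulo a central subgroup is the identity -/
theorem endo_eq_id {G Q : Type*} [Group G] [Group Q] (hG : Group.IsPerfect G) (π : G →* Q)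
    (hker : π.ker ≤ Subgroup.center G) (φ : G →* G) (h : ∀ g, π (φ g) = π g) (g : G) : φ g = g := by
  have hmem : ∀ x, φ x * x⁻¹ ∈ Subgroup.center G := by
    intro x
    apply hker
    rw [MonoidHom.mem_ker, map_mul, map_inv, h x]; simp
  let f : G →* Subgroup.center G := MonoidHom.mk' (fun x => ⟨φ x * x⁻¹, hmem x⟩) (by
    intro a b
    apply Subtype.ext
    simp only [Subgroup.coe_mul, map_mul]
    have hb := Subgroup.mem_center_iff.mp (hmem b)
    calc φ a * φ b * (a * b)⁻¹ = φ a * ((φ b * b⁻¹) * a⁻¹) := by group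
      _ = φ a * (a⁻¹ * (φ b * b⁻¹)) := by rw [hb a⁻¹]
      _ = φ a * a⁻¹ * (φ b * b⁻¹) := by group)
  have hx := hom_eq_one_of_isPerfect' hG f g
  have hx' : φ g * g⁻¹ = 1 := congrArg Subtype.val hx
  exact mul_inv_eq_one.mp hx'

theorem forward {G : Type u} {Q : Type v} [Group G] [Group Q] [Finite G] (hG : Group.IsPerfect G)
    (π : G →* Q) (hπ : Function.Surjective π) (hker : π.ker ≤ Subgroup.center G)
    (hU : ∀ (X : Type u) [Group X] (ξ : X →* Q), Function.Surjective ξ → ξ.ker ≤ Subgroup.center X →
      ∃ η : G →* X, ξ.comp η = π) : Cfsg.HasCyclicSchurMultiplier G 1 := by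
  apply trivialMultiplier_of_forall_ker_eq_bot
  intro Γ _ _ σ hσ
  have hΓ : Group.IsPerfect Γ := perfect_of_stem hG σ hσ
  have hξker : (π.comp σ).ker ≤ Subgroup.center Γ := by
    intro y hy
    rw [MonoidHom.mem_ker, MonoidHom.comp_apply] at hy
    have hy' : σ y ∈ Subgroup.center G := hker (MonoidHom.mem_ker.mpr hy)
    apply mem_center_of_forall_commutator_mem_center hΓ
    intro x
    apply hσ.2.1
    rw [MonoidHom.mem_ker]
    simp only [map_mul, map_inv]
    rw [← (Subgroup.mem_center_iff.mp hy') (σ x)]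
    group
  obtain ⟨η, hη⟩ := hU Γ (π.comp σ) (hπ.comp hσ.1) hξker
  have hφ : ∀ g, σ (η g) = g := by
    intro g
    apply endo_eq_id hG π hker (σ.comp η)
    intro g
    have := congrArg (fun f => f g) hη
    simpa using this
  -- commutator Γ ≤ range η
  have hle : commutator Γ ≤ η.range := by
    rw [commutator_def, Subgroup.commutator_le]
    intro p _ q _
    rw [commutatorElement_eq_of_map_eq σ hσ.2.1 p (η (σ p)) q (η (σ q)) (hφ _).symm (hφ _).symm]
    rw [← map_commutatorElement]
    exact ⟨_, rfl⟩
  rw [hΓ.commutator_eq_top] at hle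
  rw [Subgroup.eq_bot_iff_forall]
  intro y hy
  obtain ⟨g, rfl⟩ := hle (Subgroup.mem_top y)
  rw [MonoidHom.mem_ker, hφ] at hy
  rw [hy, map_one]

theorem backward {G : Type u} {Q : Type v} [Group G] [Group Q] [Finite G] (hG : Group.IsPerfect G)
    (π : G →* Q) (hM : Cfsg.HasCyclicSchurMultiplier G 1)
    (X : Type u) [Group X] (ξ : X →* Q) (hξ : Function.Surjective ξ) (hξker : ξ.ker ≤ Subgroup.center X) :
    ∃ η : G →* X, ξ.comp η = π := by
  -- the pullback
  let P : Subgroup (G × X) := (π.comp (MonoidHom.fst G X)).eqLocus (ξ.comp (MonoidHom.snd G X))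
  have hP : ∀ p : P, π (p : G × X).1 = ξ (p : G × X).2 := fun p => p.2
  let p1 : P →* G := (MonoidHom.fst G X).comp P.subtype
  let p2 : P →* X := (MonoidHom.snd G X).comp P.subtype
  have hp1 : Function.Surjective p1 := by
    intro g
    obtain ⟨x, hx⟩ := hξ (π g)
    exact ⟨⟨(g, x), hx.symm⟩, rfl⟩
  have hp1ker : p1.ker ≤ Subgroup.center P := by
    intro p hp
    rw [MonoidHom.mem_ker] at hp
    have h1 : (p : G × X).1 = 1 := hp
    have h2 : (p : G × X).2 ∈ Subgroup.center X := by
      apply hξker
      rw [MonoidHom.mem_ker, ← hP p, h1, map_one]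
    rw [Subgroup.mem_center_iff]
    intro q
    apply Subtype.ext
    apply Prod.ext
    · simp [h1]
    · simpa using (Subgroup.mem_center_iff.mp h2) (q : G × X).2
  let D : Subgroup P := commutator P
  have : Finite D := finite_commutator_of_central p1 hp1 hp1ker
  let σ : D →* G := p1.comp D.subtype
  have hDperf : ⁅D, D⁆ = D := commutator_isPerfect_of_central hG p1 hp1 hp1ker
  have hσsurj : Function.Surjective σ := by
    intro g
    have hmap := map_commutator_eq_of_surjective p1 hp1
    rw [hG.commutator_eq_top] at hmap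
    have : g ∈ (commutator P).map p1 := by rw [hmap]; exact Subgroup.mem_top _
    obtain ⟨d, hd, hdg⟩ := this
    exact ⟨⟨d, hd⟩, hdg⟩
  have hσ : Cfsg.IsStemExtension σ := by
    refine ⟨hσsurj, ?_, ?_⟩
    · intro d hd
      rw [MonoidHom.mem_ker] at hd
      have : (d : P) ∈ Subgroup.center P := hp1ker (MonoidHom.mem_ker.mpr hd)
      rw [Subgroup.mem_center_iff] at this ⊢
      intro e
      apply Subtype.ext
      exact this e
    · intro d _
      have h1 : commutator D = ⊤ := by
        rw [← Subgroup.map_subtype_inj, Subgroup.map_subtype_commutator, hDperf,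
          ← MonoidHom.range_eq_map, Subgroup.range_subtype]
      rw [h1]; exact Subgroup.mem_top _
  have hk : σ.ker = ⊥ := ker_eq_bot_of_trivialMultiplier hM D σ hσ
  have hinj : Function.Injective σ := (MonoidHom.ker_eq_bot_iff σ).mp hk
  let e : D ≃* G := MulEquiv.ofBijective σ ⟨hinj, hσsurj⟩
  refine ⟨(p2.comp D.subtype).comp e.symm.toMonoidHom, ?_⟩
  ext g
  simp only [MonoidHom.comp_apply]
  have h1 : σ (e.symm g) = g := e.apply_symm_apply g
  have h2 := hP (e.symm g : P)
  change ξ ((e.symm g : P) : G × X).2 = π g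
  rw [← h2]
  congr 1

/-- Let `π : G →* Q` be a surjective homomorphism with central kernel from a finite perfect group `G` (a perfect cover of `Q`). Then `π` is universal, in the sense that every surjective homomorphism `ξ : X →* Q` with central kernel from a group `X` in the universe of `G` admits a homomorphism `η : G →* X` with `ξ ∘ η = π`, if and only if `G` has trivial Schur multiplier. -/
theorem result {G : Type u} {Q : Type v} [Group G] [Group Q] [Finite G] (hG : Group.IsPerfect G) (π : G →* Q) (hπ : Function.Surjective π) (hker : π.ker ≤ Subgroup.center G) : (∀ (X : Type u) [Group X] (ξ : X →* Q), Function.Surjective ξ → ξ.ker ≤ Subgroup.center X → ∃ η : G →* X, ξ.comp η = π) ↔ Cfsg.HasCyclicSchurMultiplier G 1 := by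
  constructor
  · intro hU
    exact forward hG π hπ hker hU
  · intro hM X _ ξ hξ hξker
    exact backward hG π hM X ξ hξ hξker

end Cfsg.Agent.S3961
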