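import Cfsg.Statements.S5016
import Cfsg.Agent.Lib.Helper83.RankOne

set_option autoImplicit false
open Cfsg

namespace Cfsg.Agent.S5016

open Cfsg.Agent.Lib.Helper83
open Matrix

variable {k : Type*} [Field k]

def lo (t : k) : SpecialLinearGroup (Fin 2) k := ⟨!![1, 0; t, 1], by simp [Matrix.det_fin_two_of]⟩
def up (s : k) : SpecialLinearGroup (Fin 2) k := ⟨!![1, s; 0, 1], by simp [Matrix.det_fin_two_of]⟩

theorem lo_val (t : k) : (lo t).1 = !![1, 0; t, 1] := rfl
theorem up_val (t : k) : (up t).1 = !![1, t; 0, 1] := rfl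

omit [Field k] in
theorem mat2_ext {a b c d a' b' c' d' : k} (h1 : a = a') (h2 : b = b') (h3 : c = c') (h4 : d = d') :
    !![a, b; c, d] = !![a', b'; c', d'] := by
  subst h1 h2 h3 h4; rfl

theorem lo_mul (s t : k) : lo s * lo t = lo (s + t) := by
  apply Subtype.ext
  simp only [Matrix.SpecialLinearGroup.coe_mul, lo_val]
  ext i j
  fin_cases i <;> fin_cases j <;> simp [Matrix.mul_apply, Fin.sum_univ_two, add_comm]

theorem up_mul (s t : k) : up s * up t = up (s + t) := by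
  apply Subtype.ext
  simp only [Matrix.SpecialLinearGroup.coe_mul, up_val]
  ext i j
  fin_cases i <;> fin_cases j <;> simp [Matrix.mul_apply, Fin.sum_univ_two, add_comm]

theorem lo_zero : lo (0 : k) = 1 := by
  apply Subtype.ext
  simp only [lo_val, Matrix.SpecialLinearGroup.coe_one]
  ext i j
  fin_cases i <;> fin_cases j <;> simp

theorem up_zero : up (0 : k) = 1 := by
  apply Subtype.ext
  simp only [up_val, Matrix.SpecialLinearGroup.coe_one]
  ext i j
  fin_cases i <;> fin_cases j <;> simp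

theorem lo_inv (s : k) : (lo s)⁻¹ = lo (-s) := by
  apply eq_comm.1
  apply eq_inv_of_mul_eq_one_left
  rw [lo_mul, neg_add_cancel, lo_zero]

theorem up_inv (s : k) : (up s)⁻¹ = up (-s) := by
  apply eq_comm.1
  apply eq_inv_of_mul_eq_one_left
  rw [up_mul, neg_add_cancel, up_zero]

theorem lo_inj {s t : k} (h : lo s = lo t) : s = t := by
  have := congrArg (fun g : SpecialLinearGroup (Fin 2) k => g.1 1 0) h
  simpa [lo_val] using this

theorem up_inj {s t : k} (h : up s = up t) : s = t := by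
  have := congrArg (fun g : SpecialLinearGroup (Fin 2) k => g.1 0 1) h
  simpa [up_val] using this

theorem lo_ne_one {t : k} (h : lo t ≠ 1) : t ≠ 0 := by
  intro hc; apply h; rw [hc, lo_zero]

theorem up_ne_one {t : k} (h : up t ≠ 1) : t ≠ 0 := by
  intro hc; apply h; rw [hc, up_zero]

def loSub (k : Type*) [Field k] : Subgroup (SpecialLinearGroup (Fin 2) k) where
  carrier := Set.range lo
  mul_mem' := by
    rintro _ _ ⟨s, rfl⟩ ⟨t, rfl⟩
    exact ⟨s + t, (lo_mul s t).symm⟩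
  one_mem' := ⟨0, lo_zero⟩
  inv_mem' := by
    rintro _ ⟨s, rfl⟩
    exact ⟨-s, (lo_inv s).symm⟩

def upSub (k : Type*) [Field k] : Subgroup (SpecialLinearGroup (Fin 2) k) where
  carrier := Set.range up
  mul_mem' := by
    rintro _ _ ⟨s, rfl⟩ ⟨t, rfl⟩
    exact ⟨s + t, (up_mul s t).symm⟩
  one_mem' := ⟨0, up_zero⟩
  inv_mem' := by
    rintro _ ⟨s, rfl⟩
    exact ⟨-s, (up_inv s).symm⟩

theorem lower_eq : lowerUnipotentSL2 k = loSub k := by
  unfold lowerUnipotentSL2
  have : {g : SpecialLinearGroup (Fin 2) k | (g : Matrix (Fin 2) (Fin 2) k) 0 1 = 0 ∧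
      (g : Matrix (Fin 2) (Fin 2) k) 0 0 = 1 ∧ (g : Matrix (Fin 2) (Fin 2) k) 1 1 = 1} =
      (loSub k : Set (SpecialLinearGroup (Fin 2) k)) := by
    ext g
    constructor
    · rintro ⟨h1, h2, h3⟩
      refine ⟨g.1 1 0, ?_⟩
      apply Subtype.ext
      rw [lo_val]
      ext i j
      fin_cases i <;> fin_cases j <;> simp [h1, h2, h3]
    · rintro ⟨t, rfl⟩
      simp [lo_val]
  rw [this, Subgroup.closure_eq]

theorem upper_eq : upperUnipotentSL2 k = upSub k := by
  unfold upperUnipotentSL2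
  have : {g : SpecialLinearGroup (Fin 2) k | (g : Matrix (Fin 2) (Fin 2) k) 1 0 = 0 ∧
      (g : Matrix (Fin 2) (Fin 2) k) 0 0 = 1 ∧ (g : Matrix (Fin 2) (Fin 2) k) 1 1 = 1} =
      (upSub k : Set (SpecialLinearGroup (Fin 2) k)) := by
    ext g
    constructor
    · rintro ⟨h1, h2, h3⟩
      refine ⟨g.1 0 1, ?_⟩
      apply Subtype.ext
      rw [up_val]
      ext i j
      fin_cases i <;> fin_cases j <;> simp [h1, h2, h3]
    · rintro ⟨t, rfl⟩
      simp [up_val]
  rw [this, Subgroup.closure_eq]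

theorem mem_lower {g : SpecialLinearGroup (Fin 2) k} : g ∈ lowerUnipotentSL2 k ↔ ∃ t, lo t = g := by
  rw [lower_eq]; rfl

theorem mem_upper {g : SpecialLinearGroup (Fin 2) k} : g ∈ upperUnipotentSL2 k ↔ ∃ t, up t = g := by
  rw [upper_eq]; rfl

/-- the key conjugation identities -/
theorem conj_lo_up {t : k} (ht : t ≠ 0) (r : k) :
    (up t⁻¹)⁻¹ * lo r * up t⁻¹ = (lo t)⁻¹ * up (-(t⁻¹) ^ 2 * r) * lo t := by
  rw [up_inv, lo_inv]
  apply Subtype.ext
  simp only [Matrix.SpecialLinearGroup.coe_mul, lo_val, up_val, Matrix.mul_fin_two]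
  refine mat2_ext ?_ ?_ ?_ ?_
  all_goals (first | ring1 | (field_simp; ring1))

theorem conj_up_lo {t : k} (ht : t ≠ 0) (q : k) :
    (lo t)⁻¹ * up q * lo t = (up t⁻¹)⁻¹ * lo (-t ^ 2 * q) * up t⁻¹ := by
  rw [up_inv, lo_inv]
  apply Subtype.ext
  simp only [Matrix.SpecialLinearGroup.coe_mul, lo_val, up_val, Matrix.mul_fin_two]
  refine mat2_ext ?_ ?_ ?_ ?_
  all_goals (first | ring1 | (field_simp; ring1))

theorem conjBy_lower_upper {t : k} (ht : t ≠ 0) :
    conjBy (lowerUnipotentSL2 k) (up t⁻¹)⁻¹ = conjBy (upperUnipotentSL2 k) (lo t)⁻¹ := by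
  ext x
  rw [mem_conjBy, mem_conjBy, inv_inv, inv_inv, mem_lower, mem_upper]
  constructor
  · rintro ⟨r, hr⟩
    refine ⟨-(t⁻¹) ^ 2 * r, ?_⟩
    have h1 : x = (up t⁻¹)⁻¹ * lo r * up t⁻¹ := by rw [hr]; simp [mul_assoc]
    rw [h1, conj_lo_up ht]; simp [mul_assoc]
  · rintro ⟨q, hq⟩
    refine ⟨-t ^ 2 * q, ?_⟩
    have h1 : x = (lo t)⁻¹ * up q * lo t := by rw [hq]; simp [mul_assoc]
    rw [h1, conj_up_lo ht]; simp [mul_assoc]

/-- the symmetric statement, by transposition of roles -/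
theorem conjBy_upper_lower {t : k} (ht : t ≠ 0) :
    conjBy (upperUnipotentSL2 k) (lo t⁻¹)⁻¹ = conjBy (lowerUnipotentSL2 k) (up t)⁻¹ := by
  have := conjBy_lower_upper (k := k) (inv_ne_zero ht)
  rw [inv_inv] at this
  exact this.symm

theorem lower_comm : IsMulCommutative (lowerUnipotentSL2 k) := by
  constructor
  constructor
  rintro ⟨a, ha⟩ ⟨b, hb⟩
  obtain ⟨s, rfl⟩ := mem_lower.1 ha
  obtain ⟨t, rfl⟩ := mem_lower.1 hb
  apply Subtype.ext
  show lo s * lo t = lo t * lo s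
  rw [lo_mul, lo_mul, add_comm]

theorem upper_comm : IsMulCommutative (upperUnipotentSL2 k) := by
  constructor
  constructor
  rintro ⟨a, ha⟩ ⟨b, hb⟩
  obtain ⟨s, rfl⟩ := mem_upper.1 ha
  obtain ⟨t, rfl⟩ := mem_upper.1 hb
  apply Subtype.ext
  show up s * up t = up t * up s
  rw [up_mul, up_mul, add_comm]

theorem nilpotent_of_comm {G : Type*} [Group G] (A : Subgroup G) (h : IsMulCommutative A) :
    Group.IsNilpotent A := by
  let inst : CommGroup A := { (inferInstance : Group A) with mul_comm := h.is_comm.comm }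
  exact @CommGroup.isNilpotent A inst

theorem ropair : IsRankOnePair (lowerUnipotentSL2 k) (upperUnipotentSL2 k) := by
  refine ⟨?_, nilpotent_of_comm _ lower_comm, nilpotent_of_comm _ upper_comm, ?_, ?_⟩
  · intro hc
    have h1 : lo (1 : k) ∈ lowerUnipotentSL2 k := mem_lower.2 ⟨1, rfl⟩
    rw [hc, mem_upper] at h1
    obtain ⟨t, ht⟩ := h1
    have := congrArg (fun g : SpecialLinearGroup (Fin 2) k => g.1 1 0) ht
    simp [lo_val, up_val] at this
  · intro a ha ha1
    obtain ⟨t, rfl⟩ := mem_lower.1 ha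
    have ht := lo_ne_one ha1
    refine ⟨up t⁻¹, mem_upper.2 ⟨_, rfl⟩, ?_, conjBy_lower_upper ht⟩
    intro hc
    rw [← up_zero] at hc
    exact inv_ne_zero ht (up_inj hc)
  · intro b hb hb1
    obtain ⟨t, rfl⟩ := mem_upper.1 hb
    have ht := up_ne_one hb1
    refine ⟨lo t⁻¹, mem_lower.2 ⟨_, rfl⟩, ?_, conjBy_upper_lower ht⟩
    intro hc
    rw [← lo_zero] at hc
    exact inv_ne_zero ht (lo_inj hc)

theorem generate_aux (p q r u : k) (hr : r ≠ 0) (hdet : p * u - q * r = 1)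
    (g : SpecialLinearGroup (Fin 2) k) (hg : g.1 = !![p, q; r, u]) :
    g ∈ lowerUnipotentSL2 k ⊔ upperUnipotentSL2 k := by
  have : g = up ((p - 1) / r) * lo r * up ((u - 1) / r) := by
    apply Subtype.ext
    rw [hg]
    simp only [Matrix.SpecialLinearGroup.coe_mul, lo_val, up_val, Matrix.mul_fin_two]
    refine mat2_ext ?_ ?_ ?_ ?_
    · field_simp; ring1
    · field_simp; linear_combination (-1 : k) * hdet
    · ring1
    · field_simp; ring1
  rw [this]
  exact Subgroup.mul_mem _ (Subgroup.mul_mem _ (Subgroup.mem_sup_right (mem_upper.2 ⟨_, rfl⟩))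
    (Subgroup.mem_sup_left (mem_lower.2 ⟨_, rfl⟩))) (Subgroup.mem_sup_right (mem_upper.2 ⟨_, rfl⟩))

theorem generate : lowerUnipotentSL2 k ⊔ upperUnipotentSL2 k = ⊤ := by
  rw [eq_top_iff]
  intro g _
  have hg := Matrix.eta_fin_two g.1
  have hdet : g.1 0 0 * g.1 1 1 - g.1 0 1 * g.1 1 0 = 1 := by
    have := g.2
    rw [Matrix.det_fin_two] at this
    exact this
  by_cases hr : g.1 1 0 = 0
  · have hp : g.1 0 0 ≠ 0 := by
      intro hc
      rw [hc, hr] at hdet
      simp at hdet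
    have h1 : (lo 1 * g).1 = !![g.1 0 0, g.1 0 1; g.1 0 0 + g.1 1 0, g.1 0 1 + g.1 1 1] := by
      rw [Matrix.SpecialLinearGroup.coe_mul, lo_val]
      conv_lhs => rw [hg]
      rw [Matrix.mul_fin_two]
      refine mat2_ext ?_ ?_ ?_ ?_ <;> ring1
    have h2 := generate_aux _ _ _ _ (by rw [hr, add_zero]; exact hp)
      (by linear_combination hdet) _ h1
    have h3 : g = (lo 1)⁻¹ * (lo 1 * g) := by simp
    rw [h3]
    exact Subgroup.mul_mem _ (Subgroup.inv_mem _ (Subgroup.mem_sup_left (mem_lower.2 ⟨_, rfl⟩))) h2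
  · exact generate_aux _ _ _ _ hr hdet g hg

theorem special_identity {t : k} (ht : t ≠ 0) :
    (up t⁻¹)⁻¹ * lo t * up t⁻¹ = (lo t)⁻¹ * (up t⁻¹)⁻¹ * lo t := by
  rw [up_inv, lo_inv]
  apply Subtype.ext
  simp only [Matrix.SpecialLinearGroup.coe_mul, lo_val, up_val, Matrix.mul_fin_two]
  refine mat2_ext ?_ ?_ ?_ ?_
  all_goals (first | ring1 | (field_simp; ring1))

/-- For any field k, the special linear group SL₂(k) is a special rank one group with abelian unipotent subgroups, the unipotent subgroups being the group of lower unitriangular matrices and the group of upper unitriangular matrices. -/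
theorem result (k : Type*) [Field k] :
    Cfsg.IsRankOneGroup (Matrix.SpecialLinearGroup (Fin 2) k) (Cfsg.lowerUnipotentSL2 k) (Cfsg.upperUnipotentSL2 k) ∧
    Cfsg.IsSpecialRankOnePair (Cfsg.lowerUnipotentSL2 k) (Cfsg.upperUnipotentSL2 k) ∧
    Cfsg.HasAbelianUnipotents (Cfsg.lowerUnipotentSL2 k) (Cfsg.upperUnipotentSL2 k) := by
  refine ⟨⟨generate, ropair⟩, ⟨ropair, ?_⟩, ⟨lower_comm, upper_comm⟩⟩
  intro a ha ha1 b hb hb1 hc
  obtain ⟨t, rfl⟩ := mem_lower.1 ha
  have ht := lo_ne_one ha1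
  have hb' : b = up t⁻¹ :=
    rop_unique_right ropair hb (mem_upper.2 ⟨_, rfl⟩) (hc.trans (conjBy_lower_upper ht).symm)
  rw [hb']
  exact special_identity ht

end Cfsg.Agent.S5016
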