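import Cfsg.Statements.S5093
import Cfsg.Agent.Lib.Helper85.RelSaturated
import Cfsg.Agent.Lib.Helper85.Hyperfocal
import Cfsg.Agent.Lib.Helper2.PResidual2
import Cfsg.Agent.Lib.Helper2.PGroup
import Cfsg.Agent.S5092

set_option autoImplicit false
open Cfsg

namespace Cfsg.Agent.S5093

open Cfsg.Agent.Lib.Helper85 Subgroup
open scoped commutatorElement

variable {G : Type*} [Group G]

/-- `O^p(O^p(G)) = O^p(G)`. -/
theorem pResidual_pResidual (p : ℕ) : Cfsg.pResidual p ↥(Cfsg.pResidual p G) = ⊤ := by
  rw [eq_top_iff]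
  have key : Cfsg.pResidual p G ≤ (Cfsg.pResidual p ↥(Cfsg.pResidual p G)).map
      (Cfsg.pResidual p G).subtype := by
    conv_lhs => unfold Cfsg.pResidual
    rw [closure_le]
    intro g hg
    have hgK : g ∈ Cfsg.pResidual p G := Subgroup.subset_closure hg
    refine ⟨⟨g, hgK⟩, Subgroup.subset_closure ?_, rfl⟩
    show Nat.Coprime (orderOf (⟨g, hgK⟩ : ↥(Cfsg.pResidual p G))) p
    have : orderOf (⟨g, hgK⟩ : ↥(Cfsg.pResidual p G)) = orderOf g := by
      rw [← Subgroup.orderOf_coe]
    rw [this]
    exact hg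
  intro k _
  obtain ⟨k', hk', hkk'⟩ := key k.2
  have : k' = k := Subtype.ext hkk'
  rwa [← this]

theorem conj_pow_apply {P : Subgroup G} (α : MulAut P) (g : G)
    (h : ∀ x : P, ((α x : P) : G) = g * x * g⁻¹) (n : ℕ) (x : P) :
    (((α ^ n) x : P) : G) = g ^ n * x * (g ^ n)⁻¹ := by
  induction n generalizing x with
  | zero => simp
  | succ n ih =>
    rw [pow_succ, MulAut.mul_apply, ih, h, pow_succ]
    group

/-- Hyperfocal subgroup Theorem: for a finite group G with Sylow p-subgroup S, the hyperfocal subgroup of the fusion system of G on S equals S ∩ O^p(G), where O^p(G) is the subgroup generated by the elements of order prime to p. -/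
theorem result {G : Type*} [Group G] [Finite G] (p : ℕ) [Fact p.Prime] (S : Sylow p G) : (Cfsg.groupFusionSystem (S : Subgroup G)).hyperfocalSubgroup p = (S : Subgroup G) ⊓ Cfsg.pResidual p G := by
  have hp : p.Prime := Fact.out
  set K := Cfsg.pResidual p G with hK
  haveI hKn : K.Normal := pResidual_normal' p G
  apply le_antisymm
  · -- hyp ≤ S ∩ K
    refine le_inf (hyperfocal_le _ p) ?_
    unfold Cfsg.FusionSystem.hyperfocalSubgroup
    rw [closure_le]
    rintro y ⟨P, α, x, hPS, hα, rfl⟩
    -- the subgroup of automorphisms moving elements within K-cosets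
    let B : Subgroup ((Cfsg.groupFusionSystem (S : Subgroup G)).autGroup P) :=
      { carrier := {β | ∀ x : P, (x : G)⁻¹ * (((β : MulAut P) x : P) : G) ∈ K}
        mul_mem' := by
          intro β γ hβ hγ x
          have e : (x : G)⁻¹ * ((((β * γ : (Cfsg.groupFusionSystem (S : Subgroup G)).autGroup P) :
              MulAut P) x : P) : G) =
              ((x : G)⁻¹ * (((γ : MulAut P) x : P) : G)) *
                ((((γ : MulAut P) x : P) : G)⁻¹ * (((β : MulAut P) ((γ : MulAut P) x) : P) : G)) := by
            rw [Subgroup.coe_mul, MulAut.mul_apply]; group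
          rw [e]
          exact K.mul_mem (hγ x) (hβ _)
        one_mem' := by
          intro x
          simp
        inv_mem' := by
          intro β hβ x
          have h1 := hβ ((β : MulAut P)⁻¹ x)
          have h2 : (β : MulAut P) ((β : MulAut P)⁻¹ x) = x := by
            show (β : MulAut P) ((β : MulAut P).symm x) = x
            simp
          rw [h2] at h1
          have e : (x : G)⁻¹ * ((((β⁻¹ : (Cfsg.groupFusionSystem (S : Subgroup G)).autGroup P) :
              MulAut P) x : P) : G) =
              (((((β : MulAut P)⁻¹ x : P) : G))⁻¹ * (x : G))⁻¹ := by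
            rw [Subgroup.coe_inv]; group
          rw [e]
          exact K.inv_mem h1 }
    have hle : Cfsg.pResidual p ((Cfsg.groupFusionSystem (S : Subgroup G)).autGroup P) ≤ B := by
      unfold Cfsg.pResidual
      rw [closure_le]
      rintro ⟨β, hβA⟩ hβ
      have hβo : Nat.Coprime (orderOf β) p := by
        have : orderOf (⟨β, hβA⟩ : (Cfsg.groupFusionSystem (S : Subgroup G)).autGroup P) =
            orderOf β := by rw [← Subgroup.orderOf_coe]
        rw [← this]; exact hβ
      rw [autGroup_groupFusionSystem hPS, mem_autInducedBy_iff] at hβA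
      obtain ⟨g, -, hg⟩ := hβA
      -- split the order of g
      have hpos : 0 < orderOf g := orderOf_pos g
      obtain ⟨a, m, hm, hord⟩ :=
        Nat.exists_eq_pow_mul_and_not_dvd hpos.ne' p hp.ne_one
      have hcop : m.Coprime p := by
        rw [Nat.coprime_comm]
        exact (Nat.Prime.coprime_iff_not_dvd hp).mpr hm
      have hg'K : g ^ (p ^ a) ∈ K := by
        apply Subgroup.subset_closure
        show Nat.Coprime (orderOf (g ^ (p ^ a))) p
        have h1 : (g ^ (p ^ a)) ^ m = 1 := by rw [← pow_mul, ← hord, pow_orderOf_eq_one]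
        exact Nat.Coprime.coprime_dvd_left (orderOf_dvd_of_pow_eq_one h1) hcop
      have hco : (p ^ a).Coprime (orderOf β) := (Nat.Coprime.pow_left a hβo.symm)
      obtain ⟨u, hu⟩ := exists_pow_eq_self_of_coprime hco
      intro x
      have h2 := conj_pow_apply β g hg (p ^ a * u) x
      rw [pow_mul, hu] at h2
      show (x : G)⁻¹ * ((β x : P) : G) ∈ K
      rw [h2]
      have hgu : g ^ (p ^ a * u) ∈ K := by rw [pow_mul]; exact K.pow_mem hg'K u
      have e : (x : G)⁻¹ * (g ^ (p ^ a * u) * x * (g ^ (p ^ a * u))⁻¹) =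
          ((x : G)⁻¹ * g ^ (p ^ a * u) * (x : G)⁻¹⁻¹) * (g ^ (p ^ a * u))⁻¹ := by group
      rw [e]
      exact K.mul_mem (hKn.conj_mem _ hgu _) (K.inv_mem hgu)
    exact hle hα x
  · -- S ∩ K ≤ hyp
    set T := (S : Subgroup G) ⊓ K with hTdef
    have hTS : T ≤ (S : Subgroup G) := inf_le_left
    have hTK : T ≤ K := inf_le_right
    have hNK : (⊤ : Subgroup G) ≤ normalizer (K : Set G) := by
      intro g _
      rw [mem_normalizer_iff]
      intro x
      constructor
      · intro hx; exact hKn.conj_mem x hx g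
      · intro hx
        have := hKn.conj_mem _ hx g⁻¹
        have e : g⁻¹ * (g * x * g⁻¹) * g⁻¹⁻¹ = x := by group
        rwa [e] at this
    have hT : SylIn p T K := (sylIn_top S).inf_normal le_top le_top hNK
    have hTp : IsPGroup p T := S.isPGroup'.to_le hTS
    haveI : Finite T := inferInstance
    set E := Cfsg.fusionSystemOfSubgroup K T hTK with hE
    have hEsat : E.IsSaturated p := fusionSystemOfSubgroup_isSaturated hTK hT
    -- Step B: T ≤ foc(E)
    have hfoc : T ≤ E.focalSubgroup := by
      obtain ⟨R, hR⟩ := hT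
      have h1 := Cfsg.Agent.Lib.Helper2.sylow_inf_pResidual_le_focalSubgroup R
      rw [pResidual_pResidual, inf_top_eq] at h1
      have h2 : (R : Subgroup K).focalSubgroup ≤ E.focalSubgroup.comap K.subtype := by
        rw [Subgroup.focalSubgroup_def, closure_le]
        rintro g ⟨hgR, x, hxR, u, rfl⟩
        show ((⁅x, u⁆ : K) : G) ∈ E.focalSubgroup
        rw [hR] at hgR hxR
        have hxT : (x : G) ∈ T := mem_subgroupOf.mp hxR
        have hgT : ((⁅x, u⁆ : K) : G) ∈ T := mem_subgroupOf.mp hgR
        have hcoe : ((⁅x, u⁆ : K) : G) = (x : G) * u * (x : G)⁻¹ * (u : G)⁻¹ := by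
          rw [commutatorElement_def]; rfl
        -- u x⁻¹ u⁻¹ ∈ T
        have huT : (u : G) * (x : G)⁻¹ * (u : G)⁻¹ ∈ T := by
          have : (u : G) * (x : G)⁻¹ * (u : G)⁻¹ = (x : G)⁻¹ * ((x : G) * u * (x : G)⁻¹ * (u : G)⁻¹) := by
            group
          rw [this, ← hcoe]
          exact T.mul_mem (T.inv_mem hxT) hgT
        -- the map: conjugation by u on ⟨x⁻¹⟩
        have hPT : zpowers ((x : G)⁻¹) ≤ T := by
          rw [zpowers_le]; exact T.inv_mem hxT
        have hφ : Cfsg.conjHom (zpowers ((x : G)⁻¹)) (u : G) ∈ E.Hom (zpowers ((x : G)⁻¹)) := by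
          refine ⟨hPT, ?_, u, u.2, fun _ => rfl⟩
          rintro ⟨y, hy⟩
          obtain ⟨k, rfl⟩ := mem_zpowers_iff.mp hy
          show (u : G) * ((x : G)⁻¹ ^ k) * (u : G)⁻¹ ∈ T
          have : (u : G) * ((x : G)⁻¹ ^ k) * (u : G)⁻¹ = ((u : G) * (x : G)⁻¹ * (u : G)⁻¹) ^ k := by
            rw [conj_zpow]
          rw [this]
          exact T.zpow_mem huT k
        apply Subgroup.subset_closure
        refine ⟨zpowers ((x : G)⁻¹), Cfsg.conjHom (zpowers ((x : G)⁻¹)) (u : G),
          ⟨(x : G)⁻¹, mem_zpowers _⟩, hφ, ?_⟩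
        rw [hcoe]
        show (x : G) * u * (x : G)⁻¹ * (u : G)⁻¹ = ((x : G)⁻¹)⁻¹ * ((u : G) * (x : G)⁻¹ * (u : G)⁻¹)
        group
      intro t ht
      have h3 : (⟨t, hTK ht⟩ : K) ∈ (R : Subgroup K) := by
        rw [hR]; exact mem_subgroupOf.mpr ht
      exact h2 (h1 h3)
    -- Step C
    have hfocE := Cfsg.Agent.S5092.result p hTp E hEsat
    rw [hfocE] at hfoc
    -- Step D
    have hhypT : E.hyperfocalSubgroup p ≤ T := hyperfocal_le E p
    have hTeq : T ≤ E.hyperfocalSubgroup p := by
      have hcomm : ⁅T, T⁆ ≤ T := by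
        rw [Subgroup.commutator_le]
        intro a ha b hb
        rw [commutatorElement_def]
        exact T.mul_mem (T.mul_mem (T.mul_mem ha hb) (T.inv_mem ha)) (T.inv_mem hb)
      have h4 : (E.hyperfocalSubgroup p).subgroupOf T ⊔ frattini T = ⊤ := by
        rw [eq_top_iff]
        have h5 : (E.hyperfocalSubgroup p ⊔ ⁅T, T⁆).subgroupOf T = ⊤ :=
          subgroupOf_eq_top.mpr hfoc
        rw [← h5, subgroupOf_sup hhypT hcomm]
        apply sup_le_sup_left
        have h6 : (⁅T, T⁆ : Subgroup G).subgroupOf T = commutator T := by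
          rw [← Subgroup.map_subtype_commutator T]
          exact comap_map_eq_self_of_injective (subtype_injective T) _
        rw [h6]
        exact Cfsg.Agent.Lib.Helper2.commutator_le_frattini hTp
      have h7 := frattini_nongenerating h4
      exact subgroupOf_eq_top.mp h7
    -- Step E
    have hEF : E.hyperfocalSubgroup p ≤
        (Cfsg.groupFusionSystem (S : Subgroup G)).hyperfocalSubgroup p := by
      conv_lhs => unfold Cfsg.FusionSystem.hyperfocalSubgroup
      rw [closure_le]
      rintro y ⟨P, α, x, hPT, hα, rfl⟩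
      have hPS : P ≤ (S : Subgroup G) := hPT.trans hTS
      have hle : E.autGroup P ≤ (Cfsg.groupFusionSystem (S : Subgroup G)).autGroup P := by
        rw [autGroup_fusionSystemOfSubgroup hTK hPT, autGroup_groupFusionSystem hPS]
        intro β hβ
        obtain ⟨g, -, hg⟩ := mem_autInducedBy_iff.mp hβ
        exact mem_autInducedBy_iff.mpr ⟨g, mem_top g, hg⟩
      have h8 := map_pResidual_le (p := p) (Subgroup.inclusion hle) (Subgroup.inclusion_injective hle)
      have h9 : Subgroup.inclusion hle α ∈
          Cfsg.pResidual p ((Cfsg.groupFusionSystem (S : Subgroup G)).autGroup P) :=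
        h8 ⟨α, hα, rfl⟩
      exact hyperfocal_gen_mem _ p hPS (Subgroup.inclusion hle α) h9 x
    exact hTeq.trans hEF

end Cfsg.Agent.S5093
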