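import Cfsg.Statements.S5199
import Cfsg.Agent.Lib.Helper87.Alperin
import Cfsg.Agent.Lib.Helper85.Hyperfocal

set_option autoImplicit false
open Cfsg Cfsg.FusionSystem
open Cfsg.Agent.Lib.Helper87

namespace Cfsg.Agent.S5199

/-- A saturated subsystem `E` of `F` over `T ≤ U` is contained in every system `F₀` over `U` whose
automorphism groups contain the `O^p(Aut_F(P))`. -/
theorem sub_of_pPowerIndex {Ω : Type*} [Group Ω] {S : Subgroup Ω} [Finite S] {p : ℕ} [Fact p.Prime]
    (hS : IsPGroup p S) (F : Cfsg.FusionSystem S) {T U : Subgroup Ω} (E : Cfsg.FusionSystem T)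
    (hEsat : E.IsSaturated p) (hEF : E.IsSubsystemOf F) (F₀ : Cfsg.FusionSystem U) (hTU : T ≤ U)
    (hidx : ∀ P : Subgroup Ω, P ≤ U →
      (pResidual p (F.autGroup P)).map (F.autGroup P).subtype ≤ F₀.autGroup P) :
    E.IsSubsystemOf F₀ := by
  have hTS : T ≤ S := hom_le F (hEF T (subtype_mem E le_rfl))
  have hfinT : Finite T := finite_of_le hTS
  have hTp : IsPGroup p T := hS.to_le hTS
  intro P φ hφ
  have h := alperin hTp E hEsat P φ hφ
  clear hφ
  induction h with
  | @aut P R hR α hα hPR =>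
    have hRT : R ≤ T := hR.1.1
    have hRU : R ≤ U := hRT.trans hTU
    have hRS : R ≤ S := hRT.trans hTS
    have hfinR : Finite R := finite_of_le hRS
    have hle : E.autGroup R ≤ F.autGroup R := by
      intro γ hγ
      rw [mem_autGroup_iff F hRS]
      exact hEF R ((mem_autGroup_iff E hRT γ).mp hγ)
    have hα₀ : α ∈ F₀.autGroup R := by
      obtain ⟨Sy, hSy⟩ := hR.1.2
      obtain ⟨t, ht, b, hb, hab⟩ :=
        Cfsg.Agent.Lib.Helper85.exists_sylow_mul_pResidual Sy ⟨α, hα⟩
      have hα' : α = (t : MulAut R) * (b : MulAut R) := by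
        have := congrArg (fun z : E.autGroup R => (z : MulAut R)) hab
        simpa using this
      rw [hα']
      refine (F₀.autGroup R).mul_mem ?_ ?_
      · have h1 : t ∈ (autInducedBy T R).subgroupOf (E.autGroup R) := hSy ▸ ht
        have h2 : (t : MulAut R) ∈ autInducedBy T R := Subgroup.mem_subgroupOf.mp h1
        obtain ⟨g, hg, hge⟩ := (mem_autInducedBy_iff T R _).mp h2
        exact autInducedBy_le_autGroup F₀ hRU
          ((mem_autInducedBy_iff U R _).mpr ⟨g, hTU hg, hge⟩)
      · have h1 : Subgroup.inclusion hle b ∈ pResidual p (F.autGroup R) :=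
          Cfsg.Agent.Lib.Helper85.map_pResidual_le (Subgroup.inclusion hle)
            (Subgroup.inclusion_injective hle) ⟨b, hb, rfl⟩
        exact hidx R hRU ⟨Subgroup.inclusion hle b, h1, rfl⟩
    exact restrict_mem F₀ ((mem_autGroup_iff F₀ hRU α).mp hα₀) hPR
  | comp _ _ h ih1 ih2 => exact F₀.comp_mem ih1 ih2 h

/-- Let F be a saturated fusion system over a finite p-group S, E a normal subsystem of F over T, and F₀ a normal subsystem of F over a subgroup U containing both T and the hyperfocal subgroup of F, such that F₀ has p-power index in F. Then E is a subsystem of F₀. -/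
theorem result {Ω : Type*} [Group Ω] {S : Subgroup Ω} [Finite S] (p : ℕ) [Fact p.Prime] (hS : IsPGroup p S) (F : Cfsg.FusionSystem S) (hF : F.IsSaturated p) {T U : Subgroup Ω} (E : Cfsg.FusionSystem T) (hE : E.IsNormalIn F p) (F₀ : Cfsg.FusionSystem U) (hF₀ : F₀.IsNormalIn F p) (hU : T ⊔ F.hyperfocalSubgroup p ≤ U) (hidx : F₀.HasPPowerIndexIn F p) : E.IsSubsystemOf F₀ :=
  sub_of_pPowerIndex hS F E hE.1.1 hE.1.2.2.1 F₀ (le_sup_left.trans hU) hidx.2.2

end Cfsg.Agent.S5199
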