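import Cfsg.Statements.S5224
import Cfsg.Agent.Lib.Helper34.TateTD3
import Cfsg.Agent.Lib.Helper48.TateT12
import Cfsg.Agent.S5113

set_option autoImplicit false
open Cfsg

namespace Cfsg.Agent.S5224

/-- Tate's Theorem for fusion systems. Let F be a saturated fusion system over a finite p-group S and H a saturated fusion system over S contained in F. Then the following are equivalent: the elementary focal subgroups Φ(S)·foc agree for F and H; the focal subgroups of F and H agree; the hyperfocal subgroups of F and H agree. -/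
theorem result {Ω : Type*} [Group Ω] {S : Subgroup Ω} [Finite S] (p : ℕ) [Fact p.Prime] (hS : IsPGroup p S) (F : Cfsg.FusionSystem S) (hF : F.IsSaturated p) (H : Cfsg.FusionSystem S) (hH : H.IsSaturated p) (hHF : H.IsSubsystemOf F) : (((frattini ↥S).map S.subtype ⊔ F.focalSubgroup) = ((frattini ↥S).map S.subtype ⊔ H.focalSubgroup) ↔ F.focalSubgroup = H.focalSubgroup) ∧ (F.focalSubgroup = H.focalSubgroup ↔ F.hyperfocalSubgroup p = H.hyperfocalSubgroup p) := by
  have hfocF := Cfsg.Agent.S5092.result p hS F hF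
  have hfocH := Cfsg.Agent.S5092.result p hS H hH
  have hstep : Cfsg.Agent.Lib.Helper85.PPI.Step Ω p := by
    intro S' _ hS' F' hF' T hTS _ hfocT
    have hhyp : F'.hyperfocalSubgroup p ≤ T := by
      refine le_trans ?_ hfocT
      rw [Cfsg.Agent.S5092.result p hS' F' hF']
      exact le_sup_left
    obtain ⟨E, ⟨hE, hEi⟩, -⟩ := Cfsg.Agent.S5113.result p hS' F' hF' T hTS hhyp
    exact ⟨E, hE, hEi⟩
  refine ⟨⟨fun h => Cfsg.Agent.Lib.Helper34.Tate.focal_eq_of_frattini hS F H hF hHF h,
    fun h => by rw [h]⟩, ⟨fun h => ?_, fun h => by rw [hfocF, hfocH, h]⟩⟩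
  refine Cfsg.Agent.Lib.Helper34.Tate.tate_descent hstep hS F H hF hH hHF (fun lam hl => ?_)
  rw [Cfsg.Agent.Lib.Helper34.Tate.stab_iff_focal] at hl ⊢
  rw [h]
  exact hl

end Cfsg.Agent.S5224
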