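import Cfsg.Statements.S5080
import Cfsg.Agent.Lib.Helper84.StronglyEmbedded

set_option autoImplicit false
open Cfsg

namespace Cfsg.Agent.S5080

open Cfsg.Agent.Lib.Helper84

theorem inn_le_autGroup {Ω : Type*} [Group Ω] {S : Subgroup Ω} (F : Cfsg.FusionSystem S) {P : Subgroup Ω}
    (hPS : P ≤ S) : Cfsg.Inn P ≤ F.autGroup P := by
  rintro α ⟨x, rfl⟩
  apply Subgroup.subset_closure
  show P.subtype.comp (MulAut.conj x).toMonoidHom ∈ F.Hom P
  have h := F.conj_mem (P := P) (g := (x : Ω)) hPS (hPS x.2)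
  have heq : P.subtype.comp (MulAut.conj x).toMonoidHom = Cfsg.conjHom P (x : Ω) := by
    ext y
    simp [Cfsg.conjHom]
  rw [heq]
  exact h

/-- In a saturated fusion system over a finite p-group, every essential subgroup is radical (it is centric and fully normalized by definition, so it is centric-radical and fully normalized). -/
theorem result {Ω : Type*} [Group Ω] {S : Subgroup Ω} [Finite S] (p : ℕ) [Fact p.Prime] (hS : IsPGroup p S) (F : Cfsg.FusionSystem S) (hF : F.IsSaturated p) (P : Subgroup Ω) (hP : F.IsEssential p P) : F.IsRadical p P := by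
  obtain ⟨hcen, -, hnorm, E, hE⟩ := hP
  have hPS : P ≤ S := hcen.1
  refine ⟨hPS, ?_⟩
  have : Finite P := Finite.of_injective (Subgroup.inclusion hPS) (Subgroup.inclusion_injective hPS)
  have hPp : IsPGroup p P := hS.to_le hPS
  have hInn : Cfsg.Inn P ≤ F.autGroup P := inn_le_autGroup F hPS
  have hInnp : IsPGroup p (Cfsg.Inn P) := by
    have h := IsPGroup.of_surjective hPp (MulAut.conj : P →* MulAut P).rangeRestrict
      (MonoidHom.rangeRestrict_surjective _)
    exact h
  set A := F.autGroup P with hA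
  set I := (Cfsg.Inn P).subgroupOf A with hI
  have hIp : IsPGroup p I := hInnp.comap_subtype
  have hI_le : I ≤ Cfsg.pCore p A := le_pCore hnorm hIp
  have hbot : Cfsg.pCore p (A ⧸ I) = ⊥ := pCore_eq_bot_of_stronglyPEmbedded hE
  have hle_I : Cfsg.pCore p A ≤ I := by
    have hNA : (Cfsg.pCore p A).Normal := pCore_normal p A
    have h1 : ((Cfsg.pCore p A).map (QuotientGroup.mk' I)).Normal :=
      Subgroup.Normal.map hNA _ (QuotientGroup.mk'_surjective I)
    have h2 : IsPGroup p ((Cfsg.pCore p A).map (QuotientGroup.mk' I)) :=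
      IsPGroup.map (pCore_isPGroup p A) _
    have h3 : (Cfsg.pCore p A).map (QuotientGroup.mk' I) ≤ ⊥ := by
      rw [← hbot]; exact le_pCore h1 h2
    intro x hx
    have h4 : (QuotientGroup.mk' I) x ∈ (⊥ : Subgroup (A ⧸ I)) := h3 (Subgroup.mem_map_of_mem _ hx)
    rw [Subgroup.mem_bot] at h4
    exact (QuotientGroup.eq_one_iff x).mp h4
  have heq : Cfsg.pCore p A = I := le_antisymm hle_I hI_le
  rw [heq, hI, Subgroup.subgroupOf_map_subtype]
  exact inf_eq_left.mpr hInn

end Cfsg.Agent.S5080
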