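import Cfsg.Statements.S5087
import Cfsg.Agent.Lib.Helper87.Essential
import Cfsg.Agent.Lib.Helper87.NormalChain
import Cfsg.Agent.S5080

set_option autoImplicit false
open Cfsg

namespace Cfsg.Agent.S5087

open Cfsg.FusionSystem Cfsg.Agent.Lib.Helper87

variable {Ω : Type*} [Group Ω] {S : Subgroup Ω}

/-- Normality criterion with a generating class: if every map of `F` is generated by the class
`C`, and each member of `C` contains `Q` and has its `F`-automorphisms preserving `Q`,
then `Q` is normal in `F`. -/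
theorem isNormal_of_genBy (F : Cfsg.FusionSystem S) {C : Subgroup Ω → Prop}
    (hgen : ∀ (P : Subgroup Ω) (φ : P →* Ω), φ ∈ F.Hom P → GenBy F C P φ) {Q : Subgroup Ω}
    (hQS : Q ≤ S) (hSN : S ≤ Subgroup.normalizer (Q : Set Ω))
    (hC : ∀ R : Subgroup Ω, C R → Q ≤ R ∧ ∀ α ∈ F.autGroup R,
      (Q.subgroupOf R).map α.toMonoidHom = Q.subgroupOf R) : F.IsNormal Q := by
  have hSN' : S ≤ normalizerIn S Q := le_inf le_rfl hSN
  have key : ∀ (P : Subgroup Ω) (φ : P →* Ω), GenBy F C P φ → φ ∈ F.normalizerHom Q P := by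
    intro P φ h
    induction h with
    | @aut P R hR hRS α hα hPR =>
      obtain ⟨hQR, hαQ⟩ := hC R hR
      have hαQ' := hαQ α hα
      have hα' := (mem_autGroup_iff F hRS α).mp hα
      have hsup : P ⊔ Q ≤ R := sup_le hPR hQR
      refine ⟨restrict_mem F hα' hPR, (hPR.trans hRS).trans hSN',
        fun x => hSN' (hRS (α _).2), _, restrict_mem F hα' hsup, fun x => rfl, ?_⟩
      rw [map_subgroupOf_eq_iff]
      refine ⟨fun y hy => ?_, fun q hq => ?_⟩
      · have h1 : α (Subgroup.inclusion hsup y) ∈ (Q.subgroupOf R).map α.toMonoidHom :=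
          ⟨_, Subgroup.mem_subgroupOf.mpr hy, rfl⟩
        rw [hαQ'] at h1
        exact Subgroup.mem_subgroupOf.mp h1
      · have h1 : (⟨q, hQR hq⟩ : R) ∈ Q.subgroupOf R := Subgroup.mem_subgroupOf.mpr hq
        rw [← hαQ'] at h1
        obtain ⟨y, hy, hye⟩ := h1
        have hyQ : (y : Ω) ∈ Q := Subgroup.mem_subgroupOf.mp hy
        refine ⟨⟨y, (le_sup_right : Q ≤ P ⊔ Q) hyQ⟩, hyQ, ?_⟩
        exact congrArg Subtype.val hye
    | @comp P P' φ ψ _ _ h ih1 ih2 =>
      exact (normalizerSystem F Q hQS).comp_mem ih1 ih2 h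
  refine ⟨hQS, fun P φ hφ => ?_⟩
  exact (key P φ (hgen P φ hφ)).2.2.2

/-- In a saturated fusion system over a finite p-group S, a subgroup Q is normal in the system if and only if every subgroup P that equals S or is essential contains Q and every element of Aut_F(P) maps Q onto itself. -/
theorem result {Ω : Type*} [Group Ω] {S : Subgroup Ω} [Finite S] (p : ℕ) [Fact p.Prime] (hS : IsPGroup p S) (F : Cfsg.FusionSystem S) (hF : F.IsSaturated p) (Q : Subgroup Ω) : F.IsNormal Q ↔ ∀ P : Subgroup Ω, (P = S ∨ F.IsEssential p P) → (Q ≤ P ∧ ∀ α ∈ F.autGroup P, (Q.subgroupOf P).map α.toMonoidHom = Q.subgroupOf P) := by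
  constructor
  · intro hN P hP
    have hsc := stronglyClosed_of_isNormal F hN
    have hPS : P ≤ S := by
      rcases hP with h | h
      · exact h.le
      · exact h.1.1
    have hQP : Q ≤ P := by
      rcases hP with h | h
      · rw [h]; exact hN.1
      · exact isNormal_le_centric_radical hS F hN h.1 (Cfsg.Agent.S5080.result p hS F hF P h)
    refine ⟨hQP, fun α hα => ?_⟩
    have hmaps : ∀ β ∈ F.autGroup P, ∀ y : P, (y : Ω) ∈ Q → ((β y : P) : Ω) ∈ Q := by
      intro β hβ y hy
      have hβ' := (mem_autGroup_iff F hPS β).mp hβ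
      have := hsc.2 Q le_rfl _ (restrict_mem F hβ' hQP) ⟨y, hy⟩
      exact this
    apply le_antisymm
    · rintro _ ⟨y, hy, rfl⟩
      exact Subgroup.mem_subgroupOf.mpr (hmaps α hα y (Subgroup.mem_subgroupOf.mp hy))
    · intro y hy
      refine ⟨α⁻¹ y, ?_, ?_⟩
      · exact Subgroup.mem_subgroupOf.mpr
          (hmaps α⁻¹ ((F.autGroup P).inv_mem hα) y (Subgroup.mem_subgroupOf.mp hy))
      · show α (α⁻¹ y) = y
        simp
  · intro H
    have hQS : Q ≤ S := (H S (Or.inl rfl)).1
    have hSN : S ≤ Subgroup.normalizer (Q : Set Ω) := by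
      have key : ∀ s ∈ S, ∀ q ∈ Q, s * q * s⁻¹ ∈ Q := by
        intro s hs q hq
        have hsN : s ∈ Subgroup.normalizer (S : Set Ω) := Subgroup.le_normalizer hs
        have hcA : conjAut S s hsN ∈ F.autGroup S :=
          autInducedBy_le_autGroup F le_rfl (conjAut_mem_autInducedBy hs hsN)
        have h1 := (H S (Or.inl rfl)).2 _ hcA
        have h2 : conjAut S s hsN ⟨q, hQS hq⟩ ∈ (Q.subgroupOf S).map (conjAut S s hsN).toMonoidHom :=
          ⟨_, Subgroup.mem_subgroupOf.mpr hq, rfl⟩
        rw [h1] at h2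
        exact Subgroup.mem_subgroupOf.mp h2
      intro s hs
      rw [Subgroup.mem_normalizer_iff]
      intro n
      constructor
      · exact key s hs n
      · intro hn
        have := key s⁻¹ (S.inv_mem hs) _ hn
        have e : s⁻¹ * (s * n * s⁻¹) * s⁻¹⁻¹ = n := by group
        rwa [e] at this
    exact isNormal_of_genBy F (C := IsAG F p) (alperin_goldschmidt hS F hF) hQS hSN H

end Cfsg.Agent.S5087
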