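import Cfsg.Statements.S1896
import Cfsg.Agent.Lib.Helper73.CyclicMax
import Cfsg.Agent.Lib.Helper2.PGroup
import Cfsg.Agent.Lib.Helper48.CoprimeGen
import Cfsg.Agent.S3761

set_option autoImplicit false
open Cfsg

namespace Cfsg.Agent.S1896

theorem nat_modEq_one_of_pow {k m e : ℕ} (hm : Odd m) (h : k ^ m ≡ 1 [MOD 2 ^ e]) :
    k ≡ 1 [MOD 2 ^ e] := by
  rcases Nat.eq_zero_or_pos e with rfl | he
  · rw [pow_zero]; exact Nat.modEq_one
  have hm0 : m ≠ 0 := by rintro rfl; simp at hm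
  have h' : ((k : ZMod (2 ^ e))) ^ m = 1 := by
    have := (ZMod.natCast_eq_natCast_iff (k ^ m) 1 (2 ^ e)).2 h
    simpa using this
  let u : (ZMod (2 ^ e))ˣ := Units.ofPowEqOne _ m h' hm0
  have hu : u ^ m = 1 := Units.pow_ofPowEqOne h' hm0
  have hcard : Nat.card (ZMod (2 ^ e))ˣ = 2 ^ (e - 1) := by
    rw [Nat.card_eq_fintype_card, ZMod.card_units_eq_totient,
      Nat.totient_prime_pow Nat.prime_two he]
    simp
  have h1 : orderOf u ∣ m := orderOf_dvd_of_pow_eq_one hu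
  have h2 : orderOf u ∣ 2 ^ (e - 1) := hcard ▸ orderOf_dvd_natCard u
  have hc : Nat.Coprime m (2 ^ (e - 1)) := Nat.Coprime.pow_right _ hm.coprime_two_right
  have h3 : orderOf u = 1 := Nat.dvd_one.1 (hc.gcd_eq_one ▸ Nat.dvd_gcd h1 h2)
  have h4 : u = 1 := orderOf_eq_one_iff.1 h3
  have h5 : (k : ZMod (2 ^ e)) = 1 := by
    have : ((u : (ZMod (2 ^ e))ˣ) : ZMod (2 ^ e)) = (k : ZMod (2 ^ e)) := rfl
    rw [← this, h4]; rfl
  exact (ZMod.natCast_eq_natCast_iff k 1 (2 ^ e)).1 (by simpa using h5)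

theorem pow_apply_succ {X : Type*} [Group X] (δ : MulAut X) (k : ℕ) (g : X) :
    (δ ^ (k + 1)) g = δ ((δ ^ k) g) := by
  rw [pow_succ', MulAut.mul_apply]

theorem pow_apply_succ' {X : Type*} [Group X] (δ : MulAut X) (k : ℕ) (g : X) :
    (δ ^ (k + 1)) g = (δ ^ k) (δ g) := by
  rw [pow_succ, MulAut.mul_apply]

/-- An odd-order automorphism of a `2`-group fixes every element whose cyclic group it preserves. -/
theorem fix_of_mem_zpowers {X : Type*} [Group X] [Finite X] (hX : IsPGroup 2 X) (δ : MulAut X)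
    {m : ℕ} (hm : Odd m) (hδ : δ ^ m = 1) (g : X) (hg : δ g ∈ Subgroup.zpowers g) :
    δ g = g := by
  obtain ⟨k, hk⟩ : ∃ k : ℕ, g ^ k = δ g :=
    (Submonoid.mem_powers_iff _ _).1 (mem_powers_iff_mem_zpowers.2 hg)
  have hiter : ∀ j : ℕ, (δ ^ j) g = g ^ (k ^ j) := by
    intro j
    induction j with
    | zero => simp
    | succ j ih =>
      rw [pow_apply_succ, ih, map_pow, ← hk, ← pow_mul]
      congr 1; ring
  have h1 : g ^ (k ^ m) = g ^ 1 := by rw [← hiter m, hδ, MulAut.one_apply, pow_one]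
  obtain ⟨e, he⟩ : ∃ e, orderOf g = 2 ^ e := by
    obtain ⟨n, hn⟩ := hX g
    obtain ⟨e, _, he⟩ := (Nat.dvd_prime_pow Nat.prime_two).1 (orderOf_dvd_of_pow_eq_one hn)
    exact ⟨e, he⟩
  have h2 : k ^ m ≡ 1 [MOD 2 ^ e] := by
    rw [← he]; exact (pow_eq_pow_iff_modEq (x := g) (n := k ^ m) (m := 1)).1 h1
  have h3 := nat_modEq_one_of_pow hm h2
  rw [← hk]
  have : g ^ k = g ^ 1 :=
    (pow_eq_pow_iff_modEq (x := g) (n := k) (m := 1)).2 (by rw [he]; exact h3)
  rw [this, pow_one]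

theorem frattini_map_mem {X : Type*} [Group X] (δ : MulAut X) {t : X} (ht : t ∈ frattini X) :
    δ t ∈ frattini X := by
  have := (Subgroup.characteristic_iff_map_eq.1 (frattini_characteristic (G := X))) δ
  rw [← this]
  exact Subgroup.mem_map_of_mem _ ht

/-- Burnside: an automorphism of odd prime order of a `2`-group acting trivially modulo the
Frattini subgroup is trivial. -/
theorem aut_trivial_of_frattini {X : Type*} [Group X] [Finite X] (hX : IsPGroup 2 X)
    (δ : MulAut X) {q : ℕ} (hq : q.Prime) (hq2 : q ≠ 2) (hδ : δ ^ q = 1)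
    (h : ∀ g, g⁻¹ * δ g ∈ frattini X) : ∀ g, δ g = g := by
  let Cfix : Subgroup X :=
    { carrier := {g | δ g = g}
      one_mem' := map_one δ
      mul_mem' := by
        intro a b ha hb
        show δ (a * b) = a * b
        rw [map_mul, ha, hb]
      inv_mem' := by
        intro a ha
        show δ a⁻¹ = a⁻¹
        rw [map_inv, ha] }
  have hsup : Cfix ⊔ frattini X = ⊤ := by
    rw [eq_top_iff]
    intro g _
    have : Fact q.Prime := ⟨hq⟩
    let f : ↥(frattini X) → ↥(frattini X) := fun t =>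
      ⟨g⁻¹ * δ (g * t), by
        have : g⁻¹ * δ (g * t) = (g⁻¹ * δ g) * δ t := by rw [map_mul, mul_assoc]
        rw [this]; exact (frattini X).mul_mem (h g) (frattini_map_mem δ t.2)⟩
    have hf : ∀ (k : ℕ) (t : ↥(frattini X)),
        ((f^[k] t : ↥(frattini X)) : X) = g⁻¹ * (δ ^ k) (g * t) := by
      intro k
      induction k with
      | zero => intro t; simp
      | succ k ih =>
        intro t
        rw [Function.iterate_succ_apply', pow_apply_succ]
        show g⁻¹ * δ (g * ((f^[k] t : ↥(frattini X)) : X)) = _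
        rw [ih]
        congr 2
        group
    have hfq : ∀ t, f^[q] t = t := by
      intro t
      apply Subtype.ext
      rw [hf, hδ, MulAut.one_apply]
      group
    have hcard : ¬ q ∣ Nat.card ↥(frattini X) := by
      intro hdvd
      obtain ⟨n, hn⟩ := (IsPGroup.iff_card).1 hX
      have h1 : q ∣ 2 ^ n := hn ▸ hdvd.trans (Subgroup.card_subgroup_dvd_card _)
      have := (Nat.prime_dvd_prime_iff_eq hq Nat.prime_two).1 (hq.dvd_of_dvd_pow h1)
      exact hq2 this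
    obtain ⟨t, ht⟩ := Cfsg.Agent.Lib.Helper48.exists_fixed_of_iterate f hfq hcard
    have ht' : g⁻¹ * δ (g * t) = t := congrArg Subtype.val ht
    have hfix : g * t ∈ Cfix := by
      show δ (g * ↑t) = g * ↑t
      calc δ (g * ↑t) = g * (g⁻¹ * δ (g * ↑t)) := by group
        _ = g * ↑t := by rw [ht']
    have : g = (g * t) * (t : X)⁻¹ := by group
    rw [this]
    exact Subgroup.mul_mem_sup hfix ((frattini X).inv_mem t.2)
  have htop : Cfix = ⊤ := frattini_nongenerating hsup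
  intro g
  have : g ∈ Cfix := htop ▸ Subgroup.mem_top g
  exact this

/-- With `|X : Φ(X)| ≤ 4`, a nontrivial automorphism of odd prime order has no nonzero fixed
vector on `X / Φ(X)`. -/
theorem mem_frattini_of_fixed {X : Type*} [Group X] [Finite X] (hX : IsPGroup 2 X)
    (hidx : (frattini X).index ≤ 4) (δ : MulAut X) {q : ℕ} (hq : q.Prime) (hq2 : q ≠ 2)
    (hδ : δ ^ q = 1) (hne : ∃ g, δ g ≠ g) :
    ∀ g, g⁻¹ * δ g ∈ frattini X → g ∈ frattini X := by
  have : Fact (Nat.Prime 2) := ⟨Nat.prime_two⟩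
  have hΦn : (frattini X).Normal := inferInstance
  have hsq : ∀ g : X, g ^ 2 ∈ frattini X := fun g => Cfsg.Agent.Lib.Helper2.pow_mem_frattini hX g
  let T : Subgroup X :=
    { carrier := {g | g⁻¹ * δ g ∈ frattini X}
      one_mem' := by
        show (1 : X)⁻¹ * δ 1 ∈ frattini X
        simp
      mul_mem' := by
        intro a b ha hb
        show (a * b)⁻¹ * δ (a * b) ∈ frattini X
        have : (a * b)⁻¹ * δ (a * b) = (b⁻¹ * (a⁻¹ * δ a) * b⁻¹⁻¹) * (b⁻¹ * δ b) := by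
          rw [map_mul]; group
        rw [this]
        exact (frattini X).mul_mem (hΦn.conj_mem _ ha _) hb
      inv_mem' := by
        intro a ha
        show (a⁻¹)⁻¹ * δ a⁻¹ ∈ frattini X
        have : (a⁻¹)⁻¹ * δ a⁻¹ = a * (a⁻¹ * δ a)⁻¹ * a⁻¹ := by rw [map_inv]; group
        rw [this]
        exact hΦn.conj_mem _ ((frattini X).inv_mem ha) _ }
  have hΦT : frattini X ≤ T := by
    intro t ht
    exact (frattini X).mul_mem ((frattini X).inv_mem ht) (frattini_map_mem δ ht)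
  intro g hg
  by_contra hgΦ
  have hgT : g ∈ T := hg
  have hTtop : T ≠ ⊤ := by
    intro htop
    obtain ⟨g0, hg0⟩ := hne
    apply hg0
    apply aut_trivial_of_frattini hX δ hq hq2 hδ
    intro z
    have : z ∈ T := htop ▸ Subgroup.mem_top z
    exact this
  have hrel : (frattini X).relIndex T * T.index = (frattini X).index :=
    Subgroup.relIndex_mul_index hΦT
  have h1 : (frattini X).relIndex T ≠ 1 := by
    intro h; exact hgΦ ((Subgroup.relIndex_eq_one.1 h) hgT)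
  have h2 : T.index ≠ 1 := fun h => hTtop (Subgroup.index_eq_one.1 h)
  have h3 : T.index ≠ 0 := Subgroup.index_ne_zero_of_finite
  have h4 : (frattini X).relIndex T ≠ 0 := by
    intro h; rw [h, zero_mul] at hrel; exact Subgroup.index_ne_zero_of_finite hrel.symm
  have hT2 : T.index = 2 := by
    have hle : 2 * T.index ≤ (frattini X).index :=
      hrel ▸ Nat.mul_le_mul_right _ (by omega : 2 ≤ (frattini X).relIndex T)
    omega
  have hTδ : ∀ z ∈ T, δ z ∈ T := by
    intro z hz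
    show (δ z)⁻¹ * δ (δ z) ∈ frattini X
    have : (δ z)⁻¹ * δ (δ z) = δ (z⁻¹ * δ z) := by rw [map_mul, map_inv]
    rw [this]; exact frattini_map_mem δ hz
  have hTδk : ∀ (k : ℕ) z, z ∈ T → (δ ^ k) z ∈ T := by
    intro k
    induction k with
    | zero => intro z hz; simpa using hz
    | succ k ih => intro z hz; rw [pow_apply_succ]; exact hTδ _ (ih z hz)
  have hnotT : ∀ z, z ∉ T → δ z ∉ T := by
    intro z hz hδz
    apply hz
    have := hTδk (q - 1) (δ z) hδz
    rw [← pow_apply_succ', Nat.sub_add_cancel hq.one_le, hδ, MulAut.one_apply] at this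
    exact this
  have hsq2 : ∀ z, z⁻¹ * (δ ^ 2) z ∈ frattini X := by
    intro z
    have e0 : (δ ^ 2) z = δ (δ z) := by rw [pow_apply_succ, pow_one]
    by_cases hz : z ∈ T
    · have ha : z⁻¹ * δ z ∈ frattini X := hz
      have : z⁻¹ * (δ ^ 2) z = (z⁻¹ * δ z) * δ (z⁻¹ * δ z) := by
        rw [e0, map_mul, map_inv]; group
      rw [this]
      exact (frattini X).mul_mem ha (frattini_map_mem δ ha)
    · have ht : z⁻¹ * δ z ∈ T := by
        rw [Subgroup.mul_mem_iff_of_index_two hT2]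
        constructor
        · intro h; exact absurd (T.inv_mem_iff.1 h) hz
        · intro h; exact absurd h (hnotT z hz)
      have ht' : (z⁻¹ * δ z)⁻¹ * δ (z⁻¹ * δ z) ∈ frattini X := ht
      have : z⁻¹ * (δ ^ 2) z =
          ((z⁻¹ * δ z) * (z⁻¹ * δ z)) * ((z⁻¹ * δ z)⁻¹ * δ (z⁻¹ * δ z)) := by
        rw [e0, map_mul, map_inv]; group
      rw [this]
      have hsq' := hsq (z⁻¹ * δ z)
      rw [pow_two] at hsq'
      exact (frattini X).mul_mem hsq' ht'
  have hδ2 : (δ ^ 2) ^ q = 1 := by rw [← pow_mul, mul_comm, pow_mul, hδ, one_pow]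
  have htriv := aut_trivial_of_frattini hX (δ ^ 2) hq hq2 hδ2 hsq2
  have hδ2one : δ ^ 2 = 1 := by
    ext z; rw [htriv z, MulAut.one_apply]
  have hord : orderOf δ = 1 := by
    have d1 : orderOf δ ∣ q := orderOf_dvd_of_pow_eq_one hδ
    have d2 : orderOf δ ∣ 2 := orderOf_dvd_of_pow_eq_one hδ2one
    have hc : Nat.Coprime q 2 := (Nat.coprime_primes hq Nat.prime_two).2 hq2
    exact Nat.dvd_one.1 (hc.gcd_eq_one ▸ Nat.dvd_gcd d1 d2)
  have hδ1 : δ = 1 := orderOf_eq_one_iff.1 hord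
  obtain ⟨g0, hg0⟩ := hne
  exact hg0 (by rw [hδ1, MulAut.one_apply])

theorem frattini_index_le_four {X : Type*} [Group X] [Finite X] (hX : IsPGroup 2 X) (x y : X)
    (hgen : ∀ g : X, ∃ a b : ℕ, g = y ^ a * x ^ b) : (frattini X).index ≤ 4 := by
  have : Fact (Nat.Prime 2) := ⟨Nat.prime_two⟩
  have hΦn : (frattini X).Normal := inferInstance
  have hsq : ∀ g : X, g ^ 2 ∈ frattini X := fun g => Cfsg.Agent.Lib.Helper2.pow_mem_frattini hX g
  have key : ∀ g : X, ∃ i j : Fin 2, (y ^ (i : ℕ) * x ^ (j : ℕ))⁻¹ * g ∈ frattini X := by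
    intro g
    obtain ⟨a, b, rfl⟩ := hgen g
    refine ⟨⟨a % 2, Nat.mod_lt _ (by norm_num)⟩, ⟨b % 2, Nat.mod_lt _ (by norm_num)⟩, ?_⟩
    have ha : y ^ a = y ^ (a % 2) * (y ^ 2) ^ (a / 2) := by
      rw [← pow_mul, ← pow_add, Nat.mod_add_div]
    have hb : x ^ b = x ^ (b % 2) * (x ^ 2) ^ (b / 2) := by
      rw [← pow_mul, ← pow_add, Nat.mod_add_div]
    have e : (y ^ (a % 2) * x ^ (b % 2))⁻¹ * (y ^ a * x ^ b) =
        ((x ^ (b % 2))⁻¹ * (y ^ 2) ^ (a / 2) * ((x ^ (b % 2))⁻¹)⁻¹) * (x ^ 2) ^ (b / 2) := by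
      rw [ha, hb]; group
    show (y ^ (a % 2) * x ^ (b % 2))⁻¹ * (y ^ a * x ^ b) ∈ frattini X
    rw [e]
    exact (frattini X).mul_mem (hΦn.conj_mem _ ((frattini X).pow_mem (hsq y) _) _)
      ((frattini X).pow_mem (hsq x) _)
  let F : Fin 2 × Fin 2 → X ⧸ frattini X :=
    fun ij => QuotientGroup.mk (y ^ (ij.1 : ℕ) * x ^ (ij.2 : ℕ))
  have hF : Function.Surjective F := by
    intro c
    obtain ⟨g, rfl⟩ := QuotientGroup.mk_surjective c
    obtain ⟨i, j, h⟩ := key g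
    exact ⟨(i, j), QuotientGroup.eq.2 h⟩
  have hle := Nat.card_le_card_of_surjective F hF
  have h4 : Nat.card (Fin 2 × Fin 2) = 4 := by simp [Nat.card_eq_fintype_card]
  rw [h4] at hle
  exact hle

theorem exists_aut_generation {X : Type*} [Group X] [Finite X] (hX : IsPGroup 2 X)
    (hm : Cfsg.IsMetacyclic X) (hA : ¬ IsPGroup 2 (MulAut X)) :
    ∃ (γ : MulAut X) (q : ℕ) (x : X), q.Prime ∧ q ≠ 2 ∧ γ ^ q = 1 ∧
      (Subgroup.zpowers x).Normal ∧ Subgroup.zpowers x ⊔ Subgroup.zpowers (γ x) = ⊤ ∧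
      (∀ g, g⁻¹ * γ g ∈ frattini X → g ∈ frattini X) ∧
      (∀ g, g⁻¹ * (γ ^ 2) g ∈ frattini X → g ∈ frattini X) ∧
      x ∉ frattini X ∧ γ x ∉ frattini X := by
  classical
  have : Fact (Nat.Prime 2) := ⟨Nat.prime_two⟩
  obtain ⟨γ, q, hq, hq2, hγq, hγne⟩ :
      ∃ (γ : MulAut X) (q : ℕ), q.Prime ∧ q ≠ 2 ∧ γ ^ q = 1 ∧ γ ≠ 1 := by
    have hA' : ∃ β : MulAut X, ∀ k : ℕ, β ^ 2 ^ k ≠ 1 := by
      by_contra hcon
      push Not at hcon
      exact hA hcon
    obtain ⟨β, hβ⟩ := hA'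
    have hn0 : orderOf β ≠ 0 := (orderOf_pos β).ne'
    obtain ⟨k, m, hmodd, hnm⟩ := Nat.exists_eq_two_pow_mul_odd hn0
    have hm1 : m ≠ 1 := by
      rintro rfl
      apply hβ k
      rw [mul_one] at hnm; rw [← hnm]; exact pow_orderOf_eq_one β
    have hq : (m.minFac).Prime := Nat.minFac_prime hm1
    have hqm : m.minFac ∣ m := Nat.minFac_dvd m
    have hq2 : m.minFac ≠ 2 := by
      intro h; rw [h] at hqm
      exact (Nat.not_even_iff_odd.2 hmodd) (even_iff_two_dvd.2 hqm)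
    have hqn : m.minFac ∣ orderOf β := hnm ▸ Dvd.dvd.mul_left hqm _
    refine ⟨β ^ (orderOf β / m.minFac), m.minFac, hq, hq2, ?_, ?_⟩
    · rw [← pow_mul, Nat.div_mul_cancel hqn, pow_orderOf_eq_one]
    · intro h
      have h1 : orderOf β ∣ orderOf β / m.minFac := orderOf_dvd_of_pow_eq_one h
      have h2 : orderOf β / m.minFac < orderOf β :=
        Nat.div_lt_self (Nat.pos_of_ne_zero hn0) hq.one_lt
      have h3 : 0 < orderOf β / m.minFac :=
        Nat.div_pos (Nat.le_of_dvd (Nat.pos_of_ne_zero hn0) hqn) hq.pos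
      exact absurd (Nat.le_of_dvd h3 h1) (not_le.2 h2)
  obtain ⟨N, hNn, hNc, hQc⟩ := hm
  obtain ⟨⟨x, hxN⟩, hxgen⟩ := hNc.exists_generator
  have hNeq : N = Subgroup.zpowers x := by
    apply le_antisymm
    · intro z hz
      have := hxgen ⟨z, hz⟩
      obtain ⟨k, hk⟩ := Subgroup.mem_zpowers_iff.1 this
      rw [Subgroup.mem_zpowers_iff]
      exact ⟨k, by simpa using congrArg Subtype.val hk⟩
    · rw [Subgroup.zpowers_le]; exact hxN
  obtain ⟨ybar, hybar⟩ := hQc.exists_generator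
  obtain ⟨y, rfl⟩ := QuotientGroup.mk_surjective ybar
  have hgen : ∀ g : X, ∃ a b : ℕ, g = y ^ a * x ^ b := by
    intro g
    have h1 := hybar (QuotientGroup.mk g)
    obtain ⟨a, ha⟩ := (Submonoid.mem_powers_iff _ _).1 (mem_powers_iff_mem_zpowers.2 h1)
    have h2 : (y ^ a)⁻¹ * g ∈ N :=
      QuotientGroup.eq.1 (by rw [QuotientGroup.mk_pow]; exact ha)
    rw [hNeq] at h2
    obtain ⟨b, hb⟩ := (Submonoid.mem_powers_iff _ _).1 (mem_powers_iff_mem_zpowers.2 h2)
    exact ⟨a, b, by rw [hb]; group⟩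
  have hidx := frattini_index_le_four hX x y hgen
  have hγne' : ∃ g, γ g ≠ g := by
    by_contra h; push Not at h; apply hγne; ext z; rw [h z, MulAut.one_apply]
  have hqodd : Odd q := hq.odd_of_ne_two hq2
  have hγ2q : (γ ^ 2) ^ q = 1 := by rw [← pow_mul, mul_comm, pow_mul, hγq, one_pow]
  have hγ2ne : ∃ g, (γ ^ 2) g ≠ g := by
    by_contra h; push Not at h
    have h2 : γ ^ 2 = 1 := by ext z; rw [h z, MulAut.one_apply]
    have d1 : orderOf γ ∣ q := orderOf_dvd_of_pow_eq_one hγq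
    have d2 : orderOf γ ∣ 2 := orderOf_dvd_of_pow_eq_one h2
    have hc : Nat.Coprime q 2 := (Nat.coprime_primes hq Nat.prime_two).2 hq2
    have : orderOf γ = 1 := Nat.dvd_one.1 (hc.gcd_eq_one ▸ Nat.dvd_gcd d1 d2)
    exact hγne (orderOf_eq_one_iff.1 this)
  have F1 := mem_frattini_of_fixed hX hidx γ hq hq2 hγq hγne'
  have F2 := mem_frattini_of_fixed hX hidx (γ ^ 2) hq hq2 hγ2q hγ2ne
  have hsq : ∀ g : X, g ^ 2 ∈ frattini X := fun g => Cfsg.Agent.Lib.Helper2.pow_mem_frattini hX g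
  have hΦn : (frattini X).Normal := inferInstance
  have hxΦ : x ∉ frattini X := by
    intro hx
    have hsup : Subgroup.zpowers y ⊔ frattini X = ⊤ := by
      rw [eq_top_iff]; intro g _
      obtain ⟨a, b, rfl⟩ := hgen g
      exact Subgroup.mul_mem_sup (Subgroup.pow_mem _ (Subgroup.mem_zpowers y) a)
        ((frattini X).pow_mem hx b)
    have htop : Subgroup.zpowers y = ⊤ := frattini_nongenerating hsup
    have hfy : γ y = y :=
      fix_of_mem_zpowers hX γ hqodd hγq y (htop ▸ Subgroup.mem_top _)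
    obtain ⟨g, hg⟩ := hγne'
    apply hg
    have : g ∈ Subgroup.zpowers y := htop ▸ Subgroup.mem_top g
    obtain ⟨k, rfl⟩ := Subgroup.mem_zpowers_iff.1 this
    rw [map_zpow, hfy]
  have hγxΦ : γ x ∉ frattini X := by
    intro h
    have := frattini_map_mem γ⁻¹ h
    rw [MulAut.inv_apply_self] at this
    exact hxΦ this
  have hx12 : x⁻¹ * γ x ∉ frattini X := fun h => hxΦ (F1 x h)
  have hNn' : (Subgroup.zpowers x).Normal := hNeq ▸ hNn
  refine ⟨γ, q, x, hq, hq2, hγq, hNn', ?_, F1, F2, hxΦ, hγxΦ⟩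
  set Y₁ := Subgroup.zpowers x ⊔ frattini X with hY₁
  have hΦY₁ : frattini X ≤ Y₁ := le_sup_right
  have hxY₁ : x ∈ Y₁ := (le_sup_left : Subgroup.zpowers x ≤ Y₁) (Subgroup.mem_zpowers x)
  have hγxY₁ : γ x ∉ Y₁ := by
    intro h
    have h' : γ x ∈ (↑(Subgroup.zpowers x ⊔ frattini X) : Set X) := h
    rw [Subgroup.mul_normal] at h'
    obtain ⟨a, ha, b, hb, hab⟩ := Set.mem_mul.1 h'
    obtain ⟨k, rfl⟩ := (Submonoid.mem_powers_iff _ _).1 (mem_powers_iff_mem_zpowers.2 ha)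
    rcases Nat.even_or_odd k with hk | hk
    · obtain ⟨r, rfl⟩ := hk
      apply hγxΦ; rw [← hab, ← two_mul, pow_mul]
      exact (frattini X).mul_mem ((frattini X).pow_mem (hsq x) r) hb
    · obtain ⟨r, rfl⟩ := hk
      apply hx12; rw [← hab]
      have : x⁻¹ * (x ^ (2 * r + 1) * b) = (x ^ 2) ^ r * b := by group
      rw [this]; exact (frattini X).mul_mem ((frattini X).pow_mem (hsq x) r) hb
  have hY₁idx : Y₁.index = 2 := by
    have hrel := Subgroup.relIndex_mul_index hΦY₁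
    have h1 : (frattini X).relIndex Y₁ ≠ 1 :=
      fun h => hxΦ ((Subgroup.relIndex_eq_one.1 h) hxY₁)
    have h2 : Y₁.index ≠ 1 :=
      fun h => hγxY₁ ((Subgroup.index_eq_one.1 h) ▸ Subgroup.mem_top _)
    have h3 : Y₁.index ≠ 0 := Subgroup.index_ne_zero_of_finite
    have h4 : (frattini X).relIndex Y₁ ≠ 0 := by
      intro h; rw [h, zero_mul] at hrel; exact Subgroup.index_ne_zero_of_finite hrel.symm
    have hle : 2 * Y₁.index ≤ (frattini X).index :=
      hrel ▸ Nat.mul_le_mul_right _ (by omega : 2 ≤ (frattini X).relIndex Y₁)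
    omega
  set Y := (Subgroup.zpowers x ⊔ Subgroup.zpowers (γ x)) ⊔ frattini X with hY
  have hY₁Y : Y₁ ≤ Y := sup_le (le_sup_left.trans le_sup_left) le_sup_right
  have hYtop : Y = ⊤ := by
    have hrel := Subgroup.relIndex_mul_index hY₁Y
    rw [hY₁idx] at hrel
    have h1 : Y₁.relIndex Y ≠ 1 := by
      intro h
      apply hγxY₁
      exact (Subgroup.relIndex_eq_one.1 h) ((le_sup_left : _ ≤ Y)
        ((le_sup_right : Subgroup.zpowers (γ x) ≤ _) (Subgroup.mem_zpowers _)))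
    have h2 : Y.index ∣ 2 := Dvd.intro_left _ hrel
    rcases (Nat.dvd_prime Nat.prime_two).1 h2 with h | h
    · exact Subgroup.index_eq_one.1 h
    · exfalso; rw [h] at hrel; apply h1; omega
  exact frattini_nongenerating hYtop

/-- A finite metacyclic 2-group whose automorphism group is not a 2-group is isomorphic to the quaternion group of order 8 or to a homocyclic abelian group Z_{2^n} × Z_{2^n}. -/
theorem result {X : Type*} [Group X] [Finite X] (hX : IsPGroup 2 X)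
    (hm : Cfsg.IsMetacyclic X) (hA : ¬ IsPGroup 2 (MulAut X)) :
    Nonempty (X ≃* QuaternionGroup 2) ∨
      ∃ n : ℕ, Nonempty (X ≃* Multiplicative (ZMod (2 ^ n)) × Multiplicative (ZMod (2 ^ n))) := by
  classical
  have : Fact (Nat.Prime 2) := ⟨Nat.prime_two⟩
  obtain ⟨γ, q, x, hq, hq2, hγq, hNn, hsup, F1, F2, hxΦ, hx₂Φ⟩ := exists_aut_generation hX hm hA
  have hqodd : Odd q := hq.odd_of_ne_two hq2
  have hΦn : (frattini X).Normal := inferInstance
  have hsq : ∀ g : X, g ^ 2 ∈ frattini X := fun g => Cfsg.Agent.Lib.Helper2.pow_mem_frattini hX g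
  have hevenΦ : ∀ (g : X) (k : ℕ), Even k → g ^ k ∈ frattini X := by
    intro g k hk
    obtain ⟨r, rfl⟩ := hk
    rw [← two_mul, pow_mul]
    exact (frattini X).pow_mem (hsq g) r
  have hpow2 : ∀ g : X, ∃ e, orderOf g = 2 ^ e := by
    intro g
    obtain ⟨n, hn⟩ := hX g
    obtain ⟨e, _, he⟩ := (Nat.dvd_prime_pow Nat.prime_two).1 (orderOf_dvd_of_pow_eq_one hn)
    exact ⟨e, he⟩
  obtain ⟨x₂, hx₂⟩ : ∃ x₂, x₂ = γ x := ⟨_, rfl⟩
  rw [← hx₂] at hsup hx₂Φ
  obtain ⟨N, hN⟩ : ∃ N, N = Subgroup.zpowers x := ⟨_, rfl⟩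
  obtain ⟨N₂, hN₂⟩ : ∃ N₂, N₂ = Subgroup.zpowers x₂ := ⟨_, rfl⟩
  rw [← hN, ← hN₂] at hsup
  rw [← hN] at hNn
  have hxN : x ∈ N := hN ▸ Subgroup.mem_zpowers x
  have hx₂N₂ : x₂ ∈ N₂ := hN₂ ▸ Subgroup.mem_zpowers x₂
  have hN₂n : N₂.Normal := by
    have : N₂ = N.map γ.toMonoidHom := by
      rw [hN₂, hN, MonoidHom.map_zpowers, hx₂]; rfl
    rw [this]; exact hNn.map _ γ.surjective
  obtain ⟨t, ht⟩ : ∃ t, t = (x * x₂)⁻¹ * (x₂ * x) := ⟨_, rfl⟩
  have hrel : x₂ * x = x * x₂ * t := by rw [ht]; group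
  have htN : t ∈ N := by
    have : t = (x₂⁻¹ * x⁻¹ * x₂⁻¹⁻¹) * x := by rw [ht]; group
    rw [this]; exact N.mul_mem (hNn.conj_mem _ (N.inv_mem hxN) _) hxN
  have htN₂ : t ∈ N₂ := by
    have : t = x₂⁻¹ * (x⁻¹ * x₂ * x⁻¹⁻¹) := by rw [ht]; group
    rw [this]; exact N₂.mul_mem (N₂.inv_mem hx₂N₂) (hN₂n.conj_mem _ hx₂N₂ _)
  have hcomm_of_mem : ∀ {z g : X}, z ∈ Subgroup.zpowers g → Commute z g := by
    intro z g hz
    obtain ⟨k, rfl⟩ := Subgroup.mem_zpowers_iff.1 hz
    exact (Commute.refl g).zpow_left k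
  have htx : Commute t x := hcomm_of_mem (hN ▸ htN)
  have htx₂ : Commute t x₂ := hcomm_of_mem (hN₂ ▸ htN₂)
  have hord : orderOf x₂ = orderOf x := by rw [hx₂]; exact MulEquiv.orderOf_eq γ x
  have hcardN : Nat.card ↥N = orderOf x := by rw [hN, Nat.card_zpowers]
  have hcardN₂ : Nat.card ↥N₂ = orderOf x := by rw [hN₂, Nat.card_zpowers, hord]
  have hmemN : ∀ {a : X}, a ∈ N → ∃ k : ℕ, x ^ k = a := by
    intro a ha
    exact (Submonoid.mem_powers_iff _ _).1 (mem_powers_iff_mem_zpowers.2 (hN ▸ ha))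
  have hmemN₂ : ∀ {a : X}, a ∈ N₂ → ∃ k : ℕ, x₂ ^ k = a := by
    intro a ha
    exact (Submonoid.mem_powers_iff _ _).1 (mem_powers_iff_mem_zpowers.2 (hN₂ ▸ ha))
  have hprod : ∀ g : X, ∃ j i : ℕ, g = x ^ j * x₂ ^ i := by
    intro g
    have : g ∈ (↑(N ⊔ N₂) : Set X) := by rw [hsup]; trivial
    rw [Subgroup.mul_normal N N₂] at this
    obtain ⟨a, ha, b, hb, hab⟩ := Set.mem_mul.1 this
    obtain ⟨j, rfl⟩ := hmemN ha
    obtain ⟨i, rfl⟩ := hmemN₂ hb
    exact ⟨j, i, hab.symm⟩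
  by_cases hW : N ⊓ N₂ = ⊥
  · right
    have ht1 : t = 1 := by
      have : t ∈ N ⊓ N₂ := ⟨htN, htN₂⟩
      rw [hW] at this; exact Subgroup.mem_bot.1 this
    have hxx₂ : Commute x x₂ := by
      have : x₂ * x = x * x₂ := by rw [hrel, ht1, mul_one]
      exact this.symm
    have hcomm : ∀ (a : ↥N) (b : ↥N₂), Commute (N.subtype a) (N₂.subtype b) := by
      intro a b
      obtain ⟨j, hj⟩ := hmemN a.2
      obtain ⟨i, hi⟩ := hmemN₂ b.2
      show Commute (a : X) (b : X)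
      rw [← hj, ← hi]
      exact (hxx₂.pow_left j).pow_right i
    let ψ : ↥N × ↥N₂ →* X := MonoidHom.noncommCoprod N.subtype N₂.subtype hcomm
    have hψ : ∀ a b, ψ (a, b) = (a : X) * (b : X) := fun a b => rfl
    have hinj : Function.Injective ψ := by
      rw [injective_iff_map_eq_one]
      rintro ⟨a, b⟩ hab
      rw [hψ] at hab
      have ha : (a : X) ∈ N ⊓ N₂ := by
        refine ⟨a.2, ?_⟩
        have : (a : X) = (b : X)⁻¹ := eq_inv_of_mul_eq_one_left hab
        rw [this]; exact N₂.inv_mem b.2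
      rw [hW, Subgroup.mem_bot] at ha
      have hb : (b : X) = 1 := by rw [ha, one_mul] at hab; exact hab
      exact Prod.ext (Subtype.ext ha) (Subtype.ext hb)
    have hsurj : Function.Surjective ψ := by
      intro g
      obtain ⟨j, i, rfl⟩ := hprod g
      exact ⟨(⟨x ^ j, N.pow_mem hxN j⟩, ⟨x₂ ^ i, N₂.pow_mem hx₂N₂ i⟩), rfl⟩
    let e : ↥N × ↥N₂ ≃* X := MulEquiv.ofBijective ψ ⟨hinj, hsurj⟩
    have hNcyc : IsCyclic ↥N := by rw [hN]; infer_instance
    have hN₂cyc : IsCyclic ↥N₂ := by rw [hN₂]; infer_instance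
    let e1 : Multiplicative (ZMod (Nat.card ↥N)) ≃* ↥N := zmodCyclicMulEquiv hNcyc
    let e2 : Multiplicative (ZMod (Nat.card ↥N₂)) ≃* ↥N₂ := zmodCyclicMulEquiv hN₂cyc
    obtain ⟨s, hs⟩ := hpow2 x
    have hs1 : Nat.card ↥N = 2 ^ s := by rw [hcardN, hs]
    have hs2 : Nat.card ↥N₂ = 2 ^ s := by rw [hcardN₂, hs]
    refine ⟨s, ⟨?_⟩⟩
    rw [hs1] at e1
    rw [hs2] at e2
    exact e.symm.trans (MulEquiv.prodCongr e1.symm e2.symm)
  · left
    obtain ⟨m, hmdef⟩ : ∃ m, m = N.index := ⟨_, rfl⟩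
    have hmpos : 0 < m := by rw [hmdef]; exact Nat.pos_of_ne_zero Subgroup.index_ne_zero_of_finite
    have hN₂idx : N₂.index = m := by
      have h1 := Subgroup.card_mul_index N
      have h2 := Subgroup.card_mul_index N₂
      rw [hcardN₂, ← hcardN, ← h1] at h2
      rw [hmdef]
      exact Nat.eq_of_mul_eq_mul_left Nat.card_pos h2
    obtain ⟨w, hw⟩ : ∃ w, w = x ^ m := ⟨_, rfl⟩
    have hwN₂ : w ∈ N₂ := by rw [hw, ← hN₂idx]; exact Subgroup.pow_index_mem N₂ x
    have hx₂mN : x₂ ^ m ∈ N := by rw [hmdef]; exact Subgroup.pow_index_mem N x₂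
    have hwN : w ∈ N := by rw [hw]; exact N.pow_mem hxN m
    have hWcard : Nat.card ↥(N ⊓ N₂) * m = orderOf x := by
      have h1 : N.relIndex (N₂ ⊔ N) = N.relIndex N₂ := Subgroup.relIndex_sup_right N₂ N
      rw [sup_comm, hsup, Subgroup.relIndex_top_right, ← hmdef,
        ← Subgroup.inf_relIndex_right] at h1
      have h2 := Subgroup.relIndex_mul_relIndex ⊥ (N ⊓ N₂) N₂ bot_le inf_le_right
      rw [Subgroup.relIndex_bot_left, Subgroup.relIndex_bot_left, ← h1, hcardN₂] at h2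
      exact h2
    have hWeq : N ⊓ N₂ = Subgroup.zpowers w := by
      symm
      apply Subgroup.eq_of_le_of_card_ge
      · rw [Subgroup.zpowers_le]; exact ⟨hwN, hwN₂⟩
      · rw [Nat.card_zpowers, hw, orderOf_pow_of_dvd hmpos.ne' (Dvd.intro_left _ hWcard),
          ← hWcard, Nat.mul_div_cancel _ hmpos]
    have hγw : γ w = w := by
      apply fix_of_mem_zpowers hX γ hqodd hγq
      have : γ w = x₂ ^ m := by rw [hw, map_pow, hx₂]
      rw [this, ← hWeq]
      exact ⟨hx₂mN, N₂.pow_mem hx₂N₂ m⟩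
    have hx₂m : x₂ ^ m = w := by rw [← hγw, hw, map_pow, hx₂]
    obtain ⟨x₃, hx₃⟩ : ∃ x₃, x₃ = γ x₂ := ⟨_, rfl⟩
    have hx₃m : x₃ ^ m = w := by rw [hx₃, ← map_pow, hx₂m, hγw]
    obtain ⟨j, i, hji⟩ := hprod x₃
    have hi : Odd i := by
      by_contra hi
      rw [Nat.not_odd_iff_even] at hi
      have h1 : x₂ ^ i ∈ frattini X := hevenΦ _ _ hi
      rcases Nat.even_or_odd j with hj | hj
      · have h3 : x₃ ∈ frattini X := by
          rw [hji]; exact (frattini X).mul_mem (hevenΦ _ _ hj) h1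
        have h2 := frattini_map_mem γ⁻¹ h3
        rw [hx₃, MulAut.inv_apply_self] at h2
        exact hx₂Φ h2
      · apply hxΦ; apply F2
        have e0 : (γ ^ 2) x = x₃ := by rw [pow_apply_succ, pow_one, ← hx₂, hx₃]
        rw [e0, hji]
        obtain ⟨r, rfl⟩ := hj
        have : x⁻¹ * (x ^ (2 * r + 1) * x₂ ^ i) = (x ^ 2) ^ r * x₂ ^ i := by group
        rw [this]
        exact (frattini X).mul_mem ((frattini X).pow_mem (hsq x) r) h1
    have hj : Odd j := by
      by_contra hj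
      rw [Nat.not_odd_iff_even] at hj
      apply hx₂Φ; apply F1
      rw [← hx₃, hji]
      obtain ⟨r, rfl⟩ := hi
      have : x₂⁻¹ * (x ^ j * x₂ ^ (2 * r + 1)) =
          (x₂⁻¹ * x ^ j * x₂⁻¹⁻¹) * (x₂ ^ 2) ^ r := by group
      rw [this]
      exact (frattini X).mul_mem (hΦn.conj_mem _ (hevenΦ _ _ hj) _)
        ((frattini X).pow_mem (hsq x₂) r)
    have hpow := Cfsg.Agent.S3761.pow_mul_pow_pow (u := x₂) (y := x) (t := t) hrel htx₂ htx i j m
    have hC : 2 * m.choose 2 = m * (m - 1) := by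
      rw [Nat.choose_two_right]; exact Nat.two_mul_div_two_of_even (Nat.even_mul_pred_self m)
    have hwx : w * x = x * w := by rw [hw, ← pow_succ, ← pow_succ']
    have htm : t ^ m = 1 := by
      have h1 := Cfsg.Agent.S3761.k1 (a := x) (b := x₂) (w := t) hrel htx₂ m
      rw [hx₂m, hwx] at h1
      have h2 : x * w * t ^ m = x * w * 1 := by rw [mul_one]; exact h1.symm
      exact mul_left_cancel h2
    obtain ⟨E, hE⟩ : ∃ E, E = t ^ (j * i * m.choose 2) := ⟨_, rfl⟩
    have hE2 : E ^ 2 = 1 := by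
      rw [hE, ← pow_mul]
      have : j * i * m.choose 2 * 2 = m * (j * i * (m - 1)) := by
        rw [mul_assoc, mul_comm (m.choose 2) 2, hC]; ring
      rw [this, pow_mul, htm, one_pow]
    have heq : w = w ^ j * w ^ i * E := by
      have e1 : x ^ (j * m) = w ^ j := by rw [hw, ← pow_mul, mul_comm]
      have e2 : x₂ ^ (i * m) = w ^ i := by rw [← hx₂m, ← pow_mul, mul_comm]
      calc w = x₃ ^ m := hx₃m.symm
        _ = (x ^ j * x₂ ^ i) ^ m := by rw [hji]
        _ = x ^ (j * m) * x₂ ^ (i * m) * t ^ (j * i * m.choose 2) := hpow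
        _ = w ^ j * w ^ i * E := by rw [e1, e2, hE]
    obtain ⟨n, hn1, hn2⟩ : ∃ n, j + i = n + 1 ∧ Odd n := by
      obtain ⟨a, ha⟩ := hi
      obtain ⟨b, hb⟩ := hj
      exact ⟨2 * (a + b) + 1, by omega, ⟨a + b, rfl⟩⟩
    have hwE : w ^ n * E = 1 := by
      have h1 : w * 1 = w * (w ^ n * E) := by
        rw [mul_one]
        calc w = w ^ j * w ^ i * E := heq
          _ = w ^ (n + 1) * E := by rw [← pow_add, hn1]
          _ = w * (w ^ n * E) := by rw [pow_succ']; group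
      exact (mul_left_cancel h1).symm
    have hw2 : w ^ 2 = 1 := by
      have h1 : w ^ n = E⁻¹ := eq_inv_of_mul_eq_one_left hwE
      have h2 : w ^ (n * 2) = 1 := by rw [pow_mul, h1, inv_pow, hE2, inv_one]
      obtain ⟨e, he⟩ := hpow2 w
      have h3 : 2 ^ e ∣ n * 2 := he ▸ orderOf_dvd_of_pow_eq_one h2
      have h4 : 2 ^ e ∣ 2 :=
        Nat.Coprime.dvd_of_dvd_mul_left (Nat.Coprime.pow_left e hn2.coprime_two_left) h3
      exact orderOf_dvd_iff_pow_eq_one.1 (he ▸ h4)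
    have hw1 : w ≠ 1 := by
      intro h; apply hW; rw [hWeq, h]; exact Subgroup.zpowers_one_eq_bot
    have hwn : w ^ n = w := by
      obtain ⟨r, hr⟩ := hn2
      rw [hr, pow_succ, pow_mul, hw2, one_pow, one_mul]
    have hEw : E = w := by
      have h1 : w * E = 1 := by
        calc w * E = w ^ n * E := by rw [hwn]
          _ = 1 := hwE
      have h2 : w * w = 1 := by rw [← pow_two]; exact hw2
      exact mul_left_cancel (h1.trans h2.symm)
    have htw : t = w := by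
      have : t ∈ Subgroup.zpowers w := hWeq ▸ (⟨htN, htN₂⟩ : t ∈ N ⊓ N₂)
      obtain ⟨k, hk⟩ := (Submonoid.mem_powers_iff _ _).1 (mem_powers_iff_mem_zpowers.2 this)
      rcases Nat.even_or_odd k with hk' | hk'
      · exfalso
        obtain ⟨r, rfl⟩ := hk'
        have ht1 : t = 1 := by rw [← hk, ← two_mul, pow_mul, hw2, one_pow]
        apply hw1; rw [← hEw, hE, ht1, one_pow]
      · obtain ⟨r, rfl⟩ := hk'
        rw [← hk, pow_succ, pow_mul, hw2, one_pow, one_mul]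
    have hCodd : Odd (m.choose 2) := by
      by_contra hc
      rw [Nat.not_odd_iff_even] at hc
      obtain ⟨r, hr⟩ := hc
      apply hw1
      rw [← hEw, hE, hr, htw]
      have : j * i * (r + r) = 2 * (j * i * r) := by ring
      rw [this, pow_mul, hw2, one_pow]
    have hm2 : m = 2 := by
      obtain ⟨nn, hnn⟩ := (IsPGroup.iff_card).1 hX
      have hdvd : m ∣ 2 ^ nn := by rw [hmdef, ← hnn]; exact Subgroup.index_dvd_card N
      obtain ⟨k, _, hk⟩ := (Nat.dvd_prime_pow Nat.prime_two).1 hdvd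
      rcases k with _ | _ | k
      · exfalso; rw [hk] at hCodd; simp at hCodd
      · simpa using hk
      · exfalso
        have h4 : m = 4 * 2 ^ k := by rw [hk]; ring
        obtain ⟨r, hr⟩ := hCodd
        rw [hr, h4] at hC
        have h5 : 4 * 2 ^ k * (4 * 2 ^ k - 1) = 4 * (2 ^ k * (4 * 2 ^ k - 1)) := by ring
        rw [h5] at hC
        generalize 2 ^ k * (4 * 2 ^ k - 1) = z at hC
        omega
    have hx2 : x ^ 2 = w := by rw [hw, hm2]
    have hx₂2 : x₂ ^ 2 = w := by rw [← hx₂m, hm2]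
    have hx4 : x ^ 4 = 1 := by
      have : x ^ 4 = (x ^ 2) ^ 2 := by rw [← pow_mul]
      rw [this, hx2, hw2]
    have hconj : x₂ * x * x₂⁻¹ = x⁻¹ := by
      have h1 : x₂ * x * x₂⁻¹ = x * t := by
        rw [hrel]
        have h0 := htx₂.eq
        calc x * x₂ * t * x₂⁻¹ = x * (x₂ * t) * x₂⁻¹ := by group
          _ = x * (t * x₂) * x₂⁻¹ := by rw [h0]
          _ = x * t := by group
      rw [h1, htw, ← hx2]
      apply eq_inv_of_mul_eq_one_left
      calc x * x ^ 2 * x = x ^ 4 := by group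
        _ = 1 := hx4
    have hcard : Nat.card X = 4 * 2 := by
      have h1 := Subgroup.card_mul_index N
      have h2 : orderOf x = 2 ^ (1 + 1) := by
        apply orderOf_eq_prime_pow
        · rw [pow_one, hx2]; exact hw1
        · norm_num; exact hx4
      rw [hcardN, h2, ← hmdef, hm2] at h1
      rw [← h1]; norm_num
    have hgen : Subgroup.closure ({x₂, x} : Set X) = ⊤ := by
      rw [Set.pair_comm, Set.insert_eq, Subgroup.closure_union, ← Subgroup.zpowers_eq_closure,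
        ← Subgroup.zpowers_eq_closure, ← hN, ← hN₂]
      exact hsup
    have : NeZero 2 := ⟨by norm_num⟩
    exact ⟨(Cfsg.Agent.Lib.Helper73.quaternionEquiv x₂ x 2 (by norm_num; exact hx4)
      (by rw [← pow_two, hx₂2, hx2]) hconj hgen hcard).symm⟩

end Cfsg.Agent.S1896
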