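import Cfsg.Statements.S5212
import Cfsg.Agent.Lib.Helper73.MetaFusB

set_option autoImplicit false
open Cfsg

namespace Cfsg.Agent.S5212

open Cfsg.Agent.Lib.Helper73.MetaFus Cfsg.Agent.Lib.Helper73 Cfsg.Agent.Lib.Helper87 Cfsg.FusionSystem

/-- Let S be a finite metacyclic 2-group that is not homocyclic abelian (a direct product of cyclic groups of one common order), not dihedral, not semidihedral and not generalized quaternion. Then every saturated fusion system over S is the inner fusion system of S. -/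
theorem result {Ω : Type*} [Group Ω] {S : Subgroup Ω} [Finite S] (hS : IsPGroup 2 S) (F : Cfsg.FusionSystem S) (hF : F.IsSaturated 2) (hm : Cfsg.IsMetacyclic ↥S) (hh : ¬ ∃ n k : ℕ, Nonempty (↥S ≃* Multiplicative (Fin k → ZMod (2 ^ n)))) (hd : ¬ ∃ m : ℕ, Nonempty (↥S ≃* DihedralGroup m)) (hq : ¬ ∃ m : ℕ, Nonempty (↥S ≃* QuaternionGroup m)) (hsd : ¬ Cfsg.IsQuasiDihedral ↥S) : ∀ P : Subgroup Ω, F.Hom P = (Cfsg.innerFusionSystem S).Hom P := by
  have : Fact (Nat.Prime 2) := ⟨Nat.prime_two⟩
  have hA : IsPGroup 2 (MulAut ↥S) := by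
    by_contra hA
    rcases Cfsg.Agent.S1896.result hS hm hA with ⟨⟨e⟩⟩ | ⟨n, ⟨e⟩⟩
    · exact hq ⟨2, ⟨e⟩⟩
    · exact hh ⟨n, 2, ⟨e.trans (prodEquivFinTwo (2 ^ n))⟩⟩
  have hind := autGroup_top_induced hS F hF hA
  have hnoess : ∀ E : Subgroup Ω, ¬ F.IsEssential 2 E := by
    intro E hE
    have hES : E ≤ S := hE.2.1.1
    have hEne : E ≠ S := Cfsg.Agent.Lib.Helper88.essential_ne_top hS F hF hE
    haveI : Finite ↥E := finite_of_le hES
    have hEp : IsPGroup 2 ↥E := hS.to_le hES
    apply false_of_aut_not_two_group hS hm hd hq hsd (E.subgroupOf S) ?_ ?_ ?_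
    · intro h
      exact hEne (le_antisymm hES (Subgroup.subgroupOf_eq_top.1 h))
    · intro hp
      have hp' : IsPGroup 2 (MulAut ↥E) :=
        hp.of_surjective (MulAut.congr (Subgroup.subgroupOfEquivOfLe hES)).toMonoidHom
          (MulAut.congr (Subgroup.subgroupOfEquivOfLe hES)).surjective
      obtain ⟨-, -, hN, M, hM⟩ := hE
      haveI := hN
      exact not_isPGroup_of_se ((Inn ↥E).subgroupOf (F.autGroup E)) M hM (hp'.to_subgroup _)
    · intro u huN huE
      have huN' : (u : Ω) ∈ Subgroup.normalizer (E : Set Ω) := by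
        rw [Subgroup.mem_normalizer_iff]
        intro h
        constructor
        · intro hh'
          by_cases hhS : h ∈ S
          · have := (Subgroup.mem_normalizer_iff.1 huN ⟨h, hhS⟩).1 (Subgroup.mem_subgroupOf.2 hh')
            exact Subgroup.mem_subgroupOf.1 this
          · exact absurd (hES hh') hhS
        · intro hh'
          have hhS : h ∈ S := by
            have h1 : (u : Ω)⁻¹ * ((u : Ω) * h * (u : Ω)⁻¹) * (u : Ω) ∈ S :=
              S.mul_mem (S.mul_mem (S.inv_mem u.2) (hES hh')) u.2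
            have h2 : (u : Ω)⁻¹ * ((u : Ω) * h * (u : Ω)⁻¹) * (u : Ω) = h := by group
            rwa [h2] at h1
          have := (Subgroup.mem_normalizer_iff.1 huN ⟨h, hhS⟩).2 (Subgroup.mem_subgroupOf.2 hh')
          exact Subgroup.mem_subgroupOf.1 this
      have huE' : (u : Ω) ∉ E := fun h => huE (Subgroup.mem_subgroupOf.2 h)
      obtain ⟨x, hx⟩ := essential_act_nontrivial hS F hE (u : Ω) u.2 huN' huE'
      refine ⟨⟨(x : Ω), hES x.2⟩, Subgroup.mem_subgroupOf.2 x.2, ?_⟩
      intro f hf hff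
      apply hx
      have hfE : (f : Ω) ∈ E := Subgroup.mem_subgroupOf.1 hf
      have h1 : conjAut E (u : Ω) huN' x * x⁻¹ = (⟨(f : Ω), hfE⟩ : ↥E) ^ 2 := by
        apply Subtype.ext
        have := congrArg (fun z : ↥S => (z : Ω)) hff
        simp only [Subgroup.coe_mul, Subgroup.coe_inv] at this
        rw [pow_two]
        simpa [conjAut_coe] using this
      rw [h1]
      exact Cfsg.Agent.Lib.Helper24.pow_mem_frattini_of_isPGroup hEp _
  intro P
  ext φ
  constructor
  · intro hφ
    have hgen := alperin_goldschmidt hS F hF P φ hφ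
    have key : ∀ (P : Subgroup Ω) (φ : P →* Ω), GenBy F (IsAG F 2) P φ →
        φ ∈ (Cfsg.innerFusionSystem S).Hom P := by
      intro P φ h
      induction h with
      | @aut P R hR hRS α hα hPR =>
        rcases hR with rfl | hess
        · obtain ⟨g, hg, hgα⟩ := hind α hα
          exact ⟨hPR, g, hg, fun x => hgα ⟨x, hPR x.2⟩⟩
        · exact absurd hess (hnoess _)
      | comp _ _ h ih1 ih2 => exact (Cfsg.innerFusionSystem S).comp_mem ih1 ih2 h
    exact key P φ hgen
  · rintro ⟨hP, g, hg, h⟩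
    have : φ = Cfsg.conjHom P g := by
      ext x; exact h x
    rw [this]
    exact F.conj_mem hP hg

end Cfsg.Agent.S5212
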