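import Cfsg.Statements.S5104

set_option autoImplicit false
open Cfsg

namespace Cfsg.Agent.S5104

theorem card_zcenter_eq {Ω : Type*} [Group Ω] {U : Subgroup Ω} (φ : U →* Ω) (hφ : Function.Injective φ) :
    Nat.card ↥(φ.range ⊓ Subgroup.centralizer (φ.range : Set Ω)) =
      Nat.card ↥(U ⊓ Subgroup.centralizer (U : Set Ω)) := by
  have h1 : φ.range ⊓ Subgroup.centralizer (φ.range : Set Ω) = (Subgroup.center U).map φ := by
    ext y
    constructor
    · rintro ⟨⟨x, rfl⟩, hy⟩
      refine ⟨x, ?_, rfl⟩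
      change x ∈ Subgroup.center U
      rw [Subgroup.mem_center_iff]
      intro u
      apply hφ
      rw [map_mul, map_mul]
      exact hy (φ u) ⟨u, rfl⟩
    · rintro ⟨x, hx, rfl⟩
      refine ⟨⟨x, rfl⟩, ?_⟩
      rintro _ ⟨u, rfl⟩
      change x ∈ Subgroup.center U at hx
      rw [Subgroup.mem_center_iff] at hx
      rw [← map_mul, ← map_mul, hx u]
  have h2 : U ⊓ Subgroup.centralizer (U : Set Ω) = (Subgroup.center U).map U.subtype := by
    ext y
    constructor
    · rintro ⟨hyU, hy⟩
      refine ⟨⟨y, hyU⟩, ?_, rfl⟩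
      change (⟨y, hyU⟩ : U) ∈ Subgroup.center U
      rw [Subgroup.mem_center_iff]
      intro u
      apply Subtype.ext
      exact hy u u.2
    · rintro ⟨x, hx, rfl⟩
      refine ⟨x.2, ?_⟩
      intro u hu
      change x ∈ Subgroup.center U at hx
      rw [Subgroup.mem_center_iff] at hx
      exact congrArg Subtype.val (hx ⟨u, hu⟩)
  rw [h1, h2, Subgroup.card_map_of_injective hφ, Subgroup.card_map_of_injective U.subtype_injective]

/-- In a saturated fusion system over a finite p-group S, a fully centralized subgroup U with C_S(U) ≤ U is centric. -/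
theorem result {Ω : Type*} [Group Ω] {S : Subgroup Ω} [Finite S] (p : ℕ) [Fact p.Prime] (hS : IsPGroup p S) (F : Cfsg.FusionSystem S) (hF : F.IsSaturated p) (U : Subgroup Ω) (hU : F.IsFullyCentralized U) (hC : Cfsg.FusionSystem.centralizerIn S U ≤ U) : F.IsCentric U := by
  refine ⟨hU.1, ?_⟩
  rintro Q ⟨φ, hφ, rfl⟩
  have hQS : φ.range ≤ S := by
    rintro _ ⟨x, rfl⟩
    exact (F.le_of_mem hφ).2 x
  have hinj := F.injective_of_mem hφ
  have hle : φ.range ⊓ Subgroup.centralizer (φ.range : Set Ω) ≤ FusionSystem.centralizerIn S φ.range :=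
    fun y hy => ⟨hQS hy.1, hy.2⟩
  have : Finite ↥(FusionSystem.centralizerIn S φ.range) :=
    Finite.of_injective (Subgroup.inclusion (inf_le_left : FusionSystem.centralizerIn S φ.range ≤ S))
      (Subgroup.inclusion_injective _)
  have hCU : FusionSystem.centralizerIn S U ≤ U ⊓ Subgroup.centralizer (U : Set Ω) :=
    fun y hy => ⟨hC hy, hy.2⟩
  have : Finite ↥(U ⊓ Subgroup.centralizer (U : Set Ω)) :=
    Finite.of_injective (Subgroup.inclusion ((inf_le_left.trans hU.1) : U ⊓ Subgroup.centralizer (U : Set Ω) ≤ S))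
      (Subgroup.inclusion_injective _)
  have hcard : Nat.card ↥(FusionSystem.centralizerIn S φ.range) ≤
      Nat.card ↥(φ.range ⊓ Subgroup.centralizer (φ.range : Set Ω)) := by
    rw [card_zcenter_eq φ hinj]
    exact (hU.2 _ ⟨φ, hφ, rfl⟩).trans (Subgroup.card_le_of_le hCU)
  have heq := Subgroup.eq_of_le_of_card_ge hle hcard
  rw [← heq]
  exact inf_le_left

end Cfsg.Agent.S5104
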