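import Cfsg.Statements.S5118
import Cfsg.Agent.Lib.Helper85.RelSaturated
import Cfsg.Agent.Lib.Helper87.GroupFusion
import Cfsg.Agent.Lib.Helper87.Saturation

set_option autoImplicit false
open Cfsg

namespace Cfsg.Agent.S5118

open Cfsg.Agent.Lib.Helper85 Subgroup

theorem normalizer_top_of_normal {G : Type*} [Group G] (H : Subgroup G) [hH : H.Normal] :
    (⊤ : Subgroup G) ≤ normalizer (H : Set G) := by
  intro g _
  rw [mem_normalizer_iff]
  intro x
  constructor
  · intro hx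
    exact hH.conj_mem x hx g
  · intro hx
    have := hH.conj_mem _ hx g⁻¹
    have e : g⁻¹ * (g * x * g⁻¹) * g⁻¹⁻¹ = x := by group
    rwa [e] at this

theorem mem_normalizer_of_map_le {G : Type*} [Group G] [Finite G] {K : Subgroup G} {g : G}
    (h : K.map (cj g) ≤ K) : g ∈ normalizer (K : Set G) := by
  have heq : K.map (cj g) = K :=
    Subgroup.eq_of_le_of_card_ge h (by rw [card_map_cj])
  rw [mem_normalizer_iff]
  intro x
  constructor
  · intro hx
    exact h ⟨x, hx, rfl⟩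
  · intro hx
    rw [← heq] at hx
    obtain ⟨k, hk, hkx⟩ := hx
    have : k = x := cj_injective g hkx
    rwa [← this]

/-- If H is a normal subgroup of a finite group G with Sylow p-subgroup S, then the fusion system of H on S ∩ H is a normal subsystem of the fusion system of G on S. -/
theorem result {G : Type*} [Group G] [Finite G] (p : ℕ) [Fact p.Prime] (S : Sylow p G) (H : Subgroup G) [H.Normal] : (Cfsg.fusionSystemOfSubgroup H ((S : Subgroup G) ⊓ H) inf_le_right).IsNormalIn (Cfsg.groupFusionSystem (S : Subgroup G)) p := by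
  have hHn : H.Normal := inferInstance
  have hNH : (⊤ : Subgroup G) ≤ normalizer (H : Set G) := normalizer_top_of_normal H
  set T := (S : Subgroup G) ⊓ H with hTdef
  have hTS : T ≤ (S : Subgroup G) := inf_le_left
  have hTH : T ≤ H := inf_le_right
  have hT : SylIn p T H := (sylIn_top S).inf_normal le_top le_top hNH
  have hSNT : (S : Subgroup G) ≤ normalizer (T : Set G) :=
    le_normalizer_inf le_normalizer (le_top.trans hNH)
  -- conjugation by elements of H preserves H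
  have hconjH : ∀ (g x : G), x ∈ H → g * x * g⁻¹ ∈ H := fun g x hx => hHn.conj_mem x hx g
  refine ⟨⟨fusionSystemOfSubgroup_isSaturated hTH hT, groupFusionSystem_isSaturated S,
    ?_, ?_, ?_, ?_⟩, ?_⟩
  · -- subsystem
    rintro P φ ⟨hP, hφT, g, -, hg⟩
    exact ⟨hP.trans hTS, fun x => (hφT x).1, g, hg⟩
  · -- strongly closed
    refine ⟨hTS, ?_⟩
    rintro R hR φ ⟨-, hφS, g, hg⟩ x
    refine ⟨hφS x, ?_⟩
    rw [hg]
    exact hconjH g _ (hR x.2).2
  · -- invariance
    rintro P hPT φ ⟨-, hφT, h, hhH, hh⟩ α hα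
    rw [autGroup_groupFusionSystem hTS, mem_autInducedBy_iff] at hα
    obtain ⟨n, -, hn⟩ := hα
    set P' := (P.subgroupOf T).map (T.subtype.comp α.toMonoidHom) with hP'
    have hP'elt : ∀ y ∈ P', ∃ x : P, y = n * (x : G) * n⁻¹ := by
      rintro _ ⟨x, hx, rfl⟩
      refine ⟨⟨x, hx⟩, ?_⟩
      exact hn x
    refine ⟨Cfsg.conjHom P' (n * h * n⁻¹), ⟨?_, ?_, n * h * n⁻¹, hconjH n h hhH, fun _ => rfl⟩, ?_⟩
    · rintro _ ⟨x, -, rfl⟩
      exact (α x).2
    · intro y
      obtain ⟨x, hx⟩ := hP'elt y y.2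
      show n * h * n⁻¹ * (y : G) * (n * h * n⁻¹)⁻¹ ∈ T
      rw [hx]
      have e : n * h * n⁻¹ * (n * (x : G) * n⁻¹) * (n * h * n⁻¹)⁻¹ = n * (h * x * h⁻¹) * n⁻¹ := by
        group
      rw [e, ← hh x, ← hn ⟨φ x, hφT x⟩]
      exact (α _).2
    · intro x hφx hαx
      show n * h * n⁻¹ * ((α ⟨x, hPT x.2⟩ : T) : G) * (n * h * n⁻¹)⁻¹ = _
      rw [hn, hn]
      show n * h * n⁻¹ * (n * (x : G) * n⁻¹) * (n * h * n⁻¹)⁻¹ = n * φ x * n⁻¹
      rw [hh]
      group
  · -- Frattini
    rintro P hPT φ ⟨-, hφS, g, hg⟩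
    obtain ⟨R, hR⟩ := hT
    have hfrat := Sylow.normalizer_sup_eq_top R
    have hRT : (R : Subgroup H).map H.subtype = T := by
      rw [hR]
      ext x
      constructor
      · rintro ⟨y, hy, rfl⟩
        exact mem_subgroupOf.mp hy
      · intro hx
        exact ⟨⟨x, hTH hx⟩, mem_subgroupOf.mpr hx, rfl⟩
    have hgmem : g ∈ normalizer (((R : Subgroup H).map H.subtype : Subgroup G) : Set G) ⊔ H := by
      rw [hfrat]; exact mem_top g
    rw [hRT] at hgmem
    obtain ⟨n, hnN, h, hhH, rfl⟩ := mem_sup_of_le_normalizer (le_top.trans hNH) hgmem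
    have hα : Cfsg.Agent.Lib.Helper87.conjAut T n hnN ∈
        (Cfsg.groupFusionSystem (S : Subgroup G)).autGroup T := by
      rw [autGroup_groupFusionSystem hTS, mem_autInducedBy_iff]
      exact ⟨n, mem_top n, fun x => rfl⟩
    refine ⟨_, hα, Cfsg.conjHom P h, ⟨hPT, ?_, h, hhH, fun _ => rfl⟩, ?_⟩
    · intro x
      show h * (x : G) * h⁻¹ ∈ T
      have h1 : n * h * (x : G) * (n * h)⁻¹ ∈ T := by
        rw [← hg]
        exact ⟨hφS x, by rw [hg]; exact hconjH _ _ (hTH (hPT x.2))⟩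
      have h2 : n⁻¹ * (n * h * (x : G) * (n * h)⁻¹) * n⁻¹⁻¹ ∈ T :=
        (mem_normalizer_iff.mp (Subgroup.inv_mem _ hnN) _).mp h1
      have e : n⁻¹ * (n * h * (x : G) * (n * h)⁻¹) * n⁻¹⁻¹ = h * x * h⁻¹ := by group
      rwa [e] at h2
    · intro x hx
      rw [hg]
      show n * h * (x : G) * (n * h)⁻¹ = n * (h * x * h⁻¹) * n⁻¹
      group
  · -- extension condition
    intro α hα
    rw [autGroup_fusionSystemOfSubgroup hTH le_rfl, mem_autInducedBy_iff] at hα
    obtain ⟨h, hhH, hh⟩ := hα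
    have hhN : h ∈ normalizer (T : Set G) :=
      Cfsg.Agent.Lib.Helper87.mem_normalizer_of_aut T α h hh
    set CG := centralizer (T : Set G) with hCG
    set C := Cfsg.FusionSystem.centralizerIn (S : Subgroup G) T with hCdef
    set CH := H ⊓ CG with hCH
    have hCS : C ≤ (S : Subgroup G) := inf_le_left
    have hCCG : C ≤ CG := inf_le_right
    have hNTCG : normalizer (T : Set G) ≤ normalizer (CG : Set G) :=
      normalizer_le_normalizer_centralizer _
    have hSyl2 : SylIn p (S : Subgroup G) (normalizer (T : Set G)) :=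
      (sylIn_top S).of_le hSNT le_top
    have hSyl3 : SylIn p C CG :=
      hSyl2.inf_normal hSNT (centralizer_le_normalizer _) hNTCG
    have hCHCG : CH ≤ CG := inf_le_right
    have hSyl4 : SylIn p C (CH ⊔ C) := hSyl3.of_le le_sup_right (sup_le hCHCG hCCG)
    have hCp : IsPGroup p C := S.isPGroup'.to_le hCS
    -- conjugate of C by h lies in CH ⊔ C
    have hL : C.map (cj h) ≤ CH ⊔ C := by
      rintro _ ⟨c, hc, rfl⟩
      have e : cj h c = (h * c * h⁻¹ * c⁻¹) * c := by rw [cj_apply]; group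
      rw [e]
      refine mul_mem_sup ⟨?_, ?_⟩ hc
      · have : h * c * h⁻¹ * c⁻¹ = h * (c * h⁻¹ * c⁻¹) := by group
        rw [this]
        exact H.mul_mem hhH (hconjH c _ (H.inv_mem hhH))
      · exact CG.mul_mem ((mem_normalizer_iff.mp (hNTCG hhN) c).mp (hCCG hc)) (CG.inv_mem (hCCG hc))
    obtain ⟨y, hyM, hy⟩ := hSyl4.exists_conj_le hL (hCp.map _)
    have hCnCH : C ≤ normalizer (CH : Set G) :=
      le_normalizer_inf (le_top.trans hNH) ((hCS.trans hSNT).trans hNTCG)
    rw [sup_comm] at hyM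
    obtain ⟨a, ha, d, hd, rfl⟩ := mem_sup_of_le_normalizer hCnCH hyM
    -- the element g = d * h
    have hgC : ∀ c ∈ C, (d * h) * c * (d * h)⁻¹ ∈ C := by
      intro c hc
      have h1 : cj (a * d) (cj h c) ∈ C := hy ⟨cj h c, ⟨c, hc, rfl⟩, rfl⟩
      have h2 : a⁻¹ * cj (a * d) (cj h c) * a ∈ C := C.mul_mem (C.mul_mem (C.inv_mem ha) h1) ha
      have e : a⁻¹ * cj (a * d) (cj h c) * a = (d * h) * c * (d * h)⁻¹ := by
        simp only [cj_apply]; group
      rwa [e] at h2
    have hgH : d * h ∈ H := H.mul_mem hd.1 hhH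
    have hgT : ∀ t ∈ T, (d * h) * t * (d * h)⁻¹ = h * t * h⁻¹ := by
      intro t ht
      have h1 : h * t * h⁻¹ ∈ T := (mem_normalizer_iff.mp hhN t).mp ht
      have h2 := mem_centralizer_iff.mp hd.2 _ h1
      calc (d * h) * t * (d * h)⁻¹ = d * (h * t * h⁻¹) * d⁻¹ := by group
        _ = (h * t * h⁻¹) * d * d⁻¹ := by rw [← h2]
        _ = h * t * h⁻¹ := by group
    have hmapTC : (T ⊔ C).map (cj (d * h)) ≤ T ⊔ C := by
      rw [Subgroup.map_sup]
      apply sup_le_sup
      · rintro _ ⟨t, ht, rfl⟩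
        rw [cj_apply, hgT t ht]
        exact (mem_normalizer_iff.mp hhN t).mp ht
      · rintro _ ⟨c, hc, rfl⟩
        exact hgC c hc
    have hgN : d * h ∈ normalizer ((T ⊔ C : Subgroup G) : Set G) := mem_normalizer_of_map_le hmapTC
    have hTCS : T ⊔ C ≤ (S : Subgroup G) := sup_le hTS hCS
    refine ⟨Cfsg.Agent.Lib.Helper87.conjAut (T ⊔ C) (d * h) hgN, ?_, ?_, ?_⟩
    · rw [autGroup_groupFusionSystem hTCS, mem_autInducedBy_iff]
      exact ⟨d * h, mem_top _, fun x => rfl⟩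
    · intro x
      show (d * h) * (x : G) * (d * h)⁻¹ = _
      rw [hgT x x.2, hh]
    · intro c hc
      show (c : G)⁻¹ * ((d * h) * (c : G) * (d * h)⁻¹) ∈ T ⊓ centralizer (T : Set G)
      have h1 := hgC c hc
      refine ⟨⟨?_, ?_⟩, ?_⟩
      · exact (S : Subgroup G).mul_mem ((S : Subgroup G).inv_mem (hCS hc)) (hCS h1)
      · have e : (c : G)⁻¹ * ((d * h) * (c : G) * (d * h)⁻¹) =
            ((c : G)⁻¹ * (d * h) * (c : G)⁻¹⁻¹) * (d * h)⁻¹ := by group
        rw [e]
        exact H.mul_mem (hconjH _ _ hgH) (H.inv_mem hgH)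
      · exact CG.mul_mem (CG.inv_mem (hCCG hc)) (hCCG h1)

end Cfsg.Agent.S5118
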