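import Cfsg.Statements.S5336
import Cfsg.Agent.S5118

set_option autoImplicit false
open Cfsg

namespace Cfsg.Agent.S5336

/-- a normal subgroup meeting a Sylow `p`-subgroup trivially has order prime to `p` -/
theorem coprime_of_inf_sylow_eq_bot {G : Type*} [Group G] [Finite G] (p : ℕ) [hp : Fact p.Prime]
    (S : Sylow p G) (N : Subgroup G) [hN : N.Normal] (h : (S : Subgroup G) ⊓ N = ⊥) :
    (Nat.card N).Coprime p := by
  rw [Nat.coprime_comm, Nat.Prime.coprime_iff_not_dvd hp.out]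
  intro hdvd
  obtain ⟨x, hx⟩ := exists_prime_orderOf_dvd_card' (G := N) p hdvd
  have hxp : IsPGroup p (Subgroup.zpowers (x : G)) := by
    apply IsPGroup.of_card (n := 1)
    rw [Nat.card_zpowers, pow_one, Subgroup.orderOf_coe, hx]
  obtain ⟨Q, hQ⟩ := hxp.exists_le_sylow
  obtain ⟨g, hg⟩ := MulAction.exists_smul_eq G Q S
  have hxQ : (x : G) ∈ (Q : Subgroup G) := hQ (Subgroup.mem_zpowers _)
  have hgx : g * (x : G) * g⁻¹ ∈ (S : Subgroup G) := by
    rw [← hg, Sylow.coe_subgroup_smul]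
    exact ⟨x, hxQ, rfl⟩
  have hgxN : g * (x : G) * g⁻¹ ∈ N := hN.conj_mem _ x.2 g
  have h1 : g * (x : G) * g⁻¹ ∈ (S : Subgroup G) ⊓ N := ⟨hgx, hgxN⟩
  rw [h, Subgroup.mem_bot] at h1
  have hx1 : (x : G) = 1 := by
    have : (x : G) = g⁻¹ * (g * (x : G) * g⁻¹) * g := by group
    rw [this, h1]
    group
  have hx1' : x = 1 := Subtype.ext hx1
  rw [hx1', orderOf_one] at hx
  exact hp.out.one_lt.ne hx

/-- Let G be a finite group with Sylow p-subgroup S whose fusion system F_S(G) is simple. If G has no nontrivial normal subgroup of order prime to p and no proper subgroup H containing S induces the same fusion system on S as G does, then G is a simple group. -/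
theorem result {G : Type*} [Group G] [Finite G] (p : ℕ) [Fact p.Prime] (S : Sylow p G) (hsimple : (Cfsg.groupFusionSystem (S : Subgroup G)).IsSimple p) (hcore : Cfsg.pPrimeCore p G = ⊥) (hmin : ∀ (H : Subgroup G) (hSH : (S : Subgroup G) ≤ H), H ≠ ⊤ → ∃ P : Subgroup G, (Cfsg.fusionSystemOfSubgroup H (S : Subgroup G) hSH).Hom P ≠ (Cfsg.groupFusionSystem (S : Subgroup G)).Hom P) : IsSimpleGroup G := by
  obtain ⟨-, hSne, hsim⟩ := hsimple
  have hnt : Nontrivial G := by
    by_contra hcon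
    rw [not_nontrivial_iff_subsingleton] at hcon
    exact hSne (Subsingleton.elim _ _)
  refine { exists_pair_ne := hnt.exists_pair_ne, eq_bot_or_eq_top_of_normal := ?_ }
  intro N hN
  have hE := Cfsg.Agent.S5118.result p S N
  rcases hsim _ _ hE with hT | ⟨hT, hhom⟩
  · left
    have hcop := coprime_of_inf_sylow_eq_bot p S N hT
    have hle : N ≤ Cfsg.pPrimeCore p G := le_sSup ⟨hN, hcop⟩
    rw [hcore] at hle
    exact le_bot_iff.mp hle
  · right
    have hSN : (S : Subgroup G) ≤ N := by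
      rw [← hT]
      exact inf_le_right
    by_contra hne
    obtain ⟨P, hP⟩ := hmin N hSN hne
    apply hP
    rw [← hhom P]
    ext φ
    show (P ≤ (S : Subgroup G) ∧ (∀ x : P, φ x ∈ (S : Subgroup G)) ∧ ∃ g ∈ N, ∀ x : P, φ x = g * (x : G) * g⁻¹) ↔
      (P ≤ (S : Subgroup G) ⊓ N ∧ (∀ x : P, φ x ∈ (S : Subgroup G) ⊓ N) ∧
        ∃ g ∈ N, ∀ x : P, φ x = g * (x : G) * g⁻¹)
    rw [hT]

end Cfsg.Agent.S5336
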