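import Cfsg.Statements.S5291
import Cfsg.Agent.Lib.Helper88.NormalTransport

set_option autoImplicit false
open Cfsg

namespace Cfsg.Agent.S5291

open Cfsg.FusionSystem Cfsg.Agent.Lib.Helper87
open Cfsg.Agent.Lib.Helper88 (img mem_img isNormal_img isNormal_sSup stronglyClosed_char_of_frattini
  InvProp FratProp)

/-- Let F be a saturated fusion system over a finite p-group S and E a weakly normal subsystem of F over a subgroup T. Suppose a subgroup R of T is normal in E (E = N_E(R)), and let R* be the subgroup of T generated by the images of R under all maps of F with source R. Then R* is normal in F (F = N_F(R*)). -/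
theorem result {Ω : Type*} [Group Ω] {S : Subgroup Ω} [Finite S] (p : ℕ) [Fact p.Prime] (hS : IsPGroup p S)
    (F : Cfsg.FusionSystem S) (hF : F.IsSaturated p)
    {T : Subgroup Ω} (E : Cfsg.FusionSystem T) (hE : E.IsWeaklyNormalIn F p)
    (R : Subgroup Ω) (hR : E.IsNormal R) :
    F.IsNormal (Subgroup.closure {x : Ω | ∃ φ ∈ F.Hom R, ∃ r : R, x = φ r}) := by
  obtain ⟨-, -, -, hTsc, hinv0, hfrat0⟩ := hE
  have hinv : InvProp E F := hinv0
  have hfrat : FratProp E F := hfrat0
  have hTS : T ≤ S := hTsc.1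
  have hfinT : Finite T := finite_of_le hTS
  have hRT : R ≤ T := hR.1
  have hRsc := stronglyClosed_of_isNormal E hR
  set Rs := Subgroup.closure {x : Ω | ∃ φ ∈ F.Hom R, ∃ r : R, x = φ r} with hRs
  -- the maps of `F` induced by `Aut_F(T)` on `R`
  have hαhom : ∀ α ∈ F.autGroup T,
      (T.subtype.comp (α : MulAut T).toMonoidHom).comp (Subgroup.inclusion hRT) ∈ F.Hom R := by
    intro α hα
    exact restrict_mem F ((mem_autGroup_iff F hTS α).mp hα) hRT
  -- `Rs` is the join of the images of `R` under `Aut_F(T)`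
  have hEq : Rs = sSup {N : Subgroup Ω | ∃ α ∈ F.autGroup T, N = img α R} := by
    apply le_antisymm
    · rw [hRs, Subgroup.closure_le]
      rintro x ⟨φ, hφ, r, rfl⟩
      obtain ⟨α, hα, φ₀, hφ₀, hx⟩ := hfrat R hRT φ hφ
      have hφ₀T : φ₀ r ∈ T := (E.le_of_mem hφ₀).2 r
      have hφ₀R : φ₀ r ∈ R := hRsc.2 R le_rfl φ₀ hφ₀ r
      have hle : img α R ≤ sSup {N : Subgroup Ω | ∃ α ∈ F.autGroup T, N = img α R} :=
        le_sSup ⟨α, hα, rfl⟩
      apply hle
      rw [hx r hφ₀T]
      exact mem_img.mpr ⟨⟨φ₀ r, hφ₀T⟩, hφ₀R, rfl⟩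
    · apply sSup_le
      rintro _ ⟨α, hα, rfl⟩
      intro x hx
      obtain ⟨y, hy, rfl⟩ := mem_img.mp hx
      exact Subgroup.subset_closure ⟨_, hαhom α hα, ⟨y, hy⟩, rfl⟩
  have hRsN : E.IsNormal Rs := by
    rw [hEq]
    apply isNormal_sSup E
    rintro _ ⟨α, hα, rfl⟩
    exact isNormal_img hinv hR hα
  have hRsT : Rs ≤ T := hRsN.1
  -- invariance under `Aut_F(T)`
  have hRsinv : ∀ α ∈ F.autGroup T, ∀ x : T, (x : Ω) ∈ Rs → ((α x : T) : Ω) ∈ Rs := by
    intro α hα
    have hαT := (mem_autGroup_iff F hTS α).mp hα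
    have key : ∀ x ∈ Rs, ∀ hx : x ∈ T, ((α ⟨x, hx⟩ : T) : Ω) ∈ Rs := by
      intro x hx
      rw [hRs] at hx
      induction hx using Subgroup.closure_induction with
      | mem x hx =>
        obtain ⟨φ, hφ, r, rfl⟩ := hx
        intro hxT
        have hφT : ∀ y : R, φ y ∈ T := fun y => hTsc.2 R hRT φ hφ y
        exact Subgroup.subset_closure ⟨_, F.comp_mem hφ hαT hφT, r, rfl⟩
      | one =>
        intro hx
        have : (⟨1, hx⟩ : T) = 1 := rfl
        rw [this, map_one]
        exact Subgroup.one_mem _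
      | mul x y hx hy ihx ihy =>
        intro hxy
        have hxT : x ∈ T := hRsT hx
        have hyT : y ∈ T := hRsT hy
        have : (⟨x * y, hxy⟩ : T) = ⟨x, hxT⟩ * ⟨y, hyT⟩ := rfl
        rw [this, map_mul]
        exact Subgroup.mul_mem _ (ihx hxT) (ihy hyT)
      | inv x hx ih =>
        intro hxi
        have hxT : x ∈ T := hRsT hx
        have : (⟨x⁻¹, hxi⟩ : T) = (⟨x, hxT⟩ : T)⁻¹ := rfl
        rw [this, map_inv]
        exact Subgroup.inv_mem _ (ih hxT)
    intro x hx
    exact key x hx x.2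
  -- strongly closed chain
  have hsc : ∀ j, F.StronglyClosed (ucs Rs j) := fun j =>
    stronglyClosed_char_of_frattini hTS hfrat hRsN hRsinv (Subgroup.upperCentralSeries Rs j)
  have hRsS : Rs ≤ S := hRsT.trans hTS
  obtain ⟨n, hn⟩ := ucs_eq_top hS hRsS
  have hRssc : F.StronglyClosed Rs := by
    have := hsc n
    rwa [hn] at this
  apply isNormal_of_weaklyClosed_of_le_alperin hS F hF (weaklyClosed_of_stronglyClosed F hRssc)
  intro R' hR'
  obtain ⟨-, -, hcen, hrad⟩ := hR'
  have := le_of_centric_radical hS F hRssc (ucs Rs) (ucs_zero Rs)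
    (ucs_mono Rs) (ucs_le Rs) (ucs_comm Rs)
    (fun j => weaklyClosed_of_stronglyClosed F (hsc j)) hcen.1
    (hcen.2 R' (isConj_refl F hcen.1)) hrad n
  rwa [hn] at this

end Cfsg.Agent.S5291
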