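import Cfsg.Statements.S0045
import Cfsg.Agent.Lib.Helper1.Carter4

set_option autoImplicit false
open Pointwise
open Cfsg

namespace Cfsg.Agent.S0045

open Subgroup Cfsg.Agent.Lib.Helper1

universe u

/-- Existence and conjugacy of Carter subgroups, as a property of a group. -/
def CarterProp (G : Type u) [Group G] : Prop :=
  Group.IsSolvable G → (∃ C : Subgroup G, IsCarter C) ∧
    ∀ C D : Subgroup G, IsCarter C → IsCarter D → ∃ g : G, MulAut.conj g • C = D

theorem isCarter_map_mk {G : Type u} [Group G] [Finite G] [Group.IsSolvable G] (N C : Subgroup G)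
    [N.Normal] (p : ℕ) [Fact p.Prime] (hN : IsPGroup p N) (hC : IsCarter C) :
    IsCarter (C.map (QuotientGroup.mk' N)) := by
  refine ⟨?_, ?_⟩
  · have := hC.1
    exact Group.nilpotent_of_surjective ((QuotientGroup.mk' N).subgroupMap C)
      ((QuotientGroup.mk' N).subgroupMap_surjective C)
  · apply Subgroup.comap_injective (QuotientGroup.mk'_surjective N)
    rw [Subgroup.comap_normalizer_eq_of_surjective _ (QuotientGroup.mk'_surjective N),
      QuotientGroup.comap_map_mk', sup_comm]
    exact carter_sup_self_normalizing N C p hN hC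

theorem carterProp_all (G : Type u) [Group G] [Finite G] : CarterProp G := by
  refine finite_group_induction (fun G _ => CarterProp G) ?_ G
  intro G _ _ ih hs
  by_cases h1 : Nat.card G = 1
  · have hsub : Subsingleton G := (Nat.card_eq_one_iff_unique.mp h1).1
    have hsub2 : Subsingleton (Subgroup G) := by
      constructor
      intro A B
      ext x
      rw [Subsingleton.elim x 1]
      simp
    refine ⟨⟨⊤, ?_, Subsingleton.elim _ _⟩, ?_⟩
    · infer_instance
    · intro C D _ _
      exact ⟨1, Subsingleton.elim _ _⟩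
  obtain ⟨p, N, hp, hNn, hNbot, -, hNp⟩ := exists_normal_pgroup hs h1
  have : Fact p.Prime := ⟨hp⟩
  have hlt : Nat.card (G ⧸ N) < Nat.card G := card_quotient_lt N hNbot
  have hsq : Group.IsSolvable (G ⧸ N) := inferInstance
  obtain ⟨⟨Kbar, hKbar⟩, hconjbar⟩ := ih (G ⧸ N) hlt hsq
  refine ⟨?_, ?_⟩
  · -- existence
    set K := Kbar.comap (QuotientGroup.mk' N) with hK
    have hNK : N ≤ K := by
      conv_lhs => rw [← QuotientGroup.ker_mk' N]
      exact Subgroup.ker_le_comap _ _
    have hmap : K.map (QuotientGroup.mk' N) = Kbar :=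
      Subgroup.map_comap_eq_self_of_surjective (QuotientGroup.mk'_surjective N) _
    have hKnil : Group.IsNilpotent (K.map (QuotientGroup.mk' N)) := by
      rw [hmap]; exact hKbar.1
    have hKself : normalizer (K : Set G) = K := by
      rw [hK, ← Subgroup.comap_normalizer_eq_of_surjective _ (QuotientGroup.mk'_surjective N),
        hKbar.2]
    exact carter_exists_step N K p hNp hNK hKnil hKself
  · intro C D hC hD
    have hCbar := isCarter_map_mk N C p hNp hC
    have hDbar := isCarter_map_mk N D p hNp hD
    obtain ⟨gbar, hgbar⟩ := hconjbar _ _ hCbar hDbar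
    obtain ⟨g, rfl⟩ := QuotientGroup.mk'_surjective N gbar
    have hC1 : IsCarter (MulAut.conj g • C) := hC.conj g
    have hsup : MulAut.conj g • C ⊔ N = D ⊔ N := by
      have h2 : (MulAut.conj g • C).map (QuotientGroup.mk' N) = D.map (QuotientGroup.mk' N) := by
        rw [map_conj_smul]; exact hgbar
      have h3 := congrArg (Subgroup.comap (QuotientGroup.mk' N)) h2
      rw [QuotientGroup.comap_map_mk', QuotientGroup.comap_map_mk'] at h3
      rw [sup_comm, h3, sup_comm]
    obtain ⟨k, hk⟩ := carter_conj_step N (MulAut.conj g • C) D p hNp hC1 hD hsup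
    exact ⟨k * g, by rw [← conj_smul_smul, hk]⟩

/-- Carter subgroups: a finite solvable group contains a nilpotent subgroup equal to its own normaliser, and all such subgroups are conjugate. -/
theorem result {G : Type*} [Group G] [Finite G] [Group.IsSolvable G] :
    (∃ C : Subgroup G, Group.IsNilpotent C ∧ Subgroup.normalizer (C : Set G) = C) ∧
    ∀ C D : Subgroup G, Group.IsNilpotent C → Subgroup.normalizer (C : Set G) = C →
      Group.IsNilpotent D → Subgroup.normalizer (D : Set G) = D → ∃ g : G, MulAut.conj g • C = D := by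
  obtain ⟨⟨C, hC⟩, hconj⟩ := carterProp_all G inferInstance
  exact ⟨⟨C, hC.1, hC.2⟩, fun C D h1 h2 h3 h4 => hconj C D ⟨h1, h2⟩ ⟨h3, h4⟩⟩

end Cfsg.Agent.S0045
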