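import Cfsg.Statements.S5427
import Cfsg.Agent.Lib.Helper4.LargeExtra3
import Cfsg.Agent.Lib.Helper22.FStar
import Cfsg.Agent.Lib.Helper22.CharP
import Cfsg.Agent.Lib.Helper87.PCore

set_option autoImplicit false
open Cfsg


namespace Cfsg.Agent.S5427

open Subgroup Cfsg.Agent.Lib.Helper4.LX

section helpers

variable {G : Type*} [Group G]

/-- An element lying in a subgroup of odd order and in a `2`-subgroup is trivial. -/
theorem eq_one_of_mem_odd_of_mem_two (D R : Subgroup G) [Finite D] (hD : Odd (Nat.card D))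
    (hR : IsPGroup 2 R) {x : G} (hxD : x ∈ D) (hxR : x ∈ R) : x = 1 := by
  obtain ⟨k, hk⟩ := hR ⟨x, hxR⟩
  have hk' : x ^ 2 ^ k = 1 := by
    have := congrArg Subtype.val hk
    simpa using this
  have h1 : orderOf x ∣ 2 ^ k := orderOf_dvd_of_pow_eq_one hk'
  have h2 : orderOf x ∣ Nat.card D := D.orderOf_dvd_natCard hxD
  have hcop : Nat.Coprime (2 ^ k) (Nat.card D) :=
    Nat.Coprime.pow_left k (Nat.coprime_two_left.mpr hD)
  have := Nat.eq_one_of_dvd_coprimes hcop h1 h2
  exact orderOf_eq_one_iff.mp this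

/-- An involution normalizing a finite subgroup and acting without fixed points inverts it. -/
theorem inverts_of_normalizes (D : Subgroup G) [Finite D] (z : G) (hzz : z * z = 1)
    (hzD : ∀ d ∈ D, z * d * z⁻¹ ∈ D) (hfpf : ∀ d ∈ D, z * d * z⁻¹ = d → d = 1) :
    ∀ d ∈ D, z * d * z⁻¹ = d⁻¹ := by
  have hzi : z⁻¹ = z := inv_eq_of_mul_eq_one_right hzz
  obtain ⟨f, hf⟩ : ∃ f : D → D, ∀ d : D, ((f d : D) : G) = (d : G)⁻¹ * (z * d * z⁻¹) :=
    ⟨fun d => ⟨(d : G)⁻¹ * (z * d * z⁻¹), D.mul_mem (D.inv_mem d.2) (hzD d d.2)⟩, fun _ => rfl⟩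
  have hinj : Function.Injective f := by
    intro b c hbc
    have h0 : (b : G)⁻¹ * (z * b * z⁻¹) = (c : G)⁻¹ * (z * c * z⁻¹) := by
      rw [← hf b, ← hf c, hbc]
    have h1 : z * ((c : G) * (b : G)⁻¹) * z⁻¹ = (c : G) * (b : G)⁻¹ := by
      have e : z * (c : G) * z⁻¹ = (c : G) * ((b : G)⁻¹ * (z * b * z⁻¹)) := by rw [h0]; group
      calc z * ((c : G) * (b : G)⁻¹) * z⁻¹ = (z * c * z⁻¹) * (z * b * z⁻¹)⁻¹ := by group
        _ = (c : G) * ((b : G)⁻¹ * (z * b * z⁻¹)) * (z * b * z⁻¹)⁻¹ := by rw [e]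
        _ = (c : G) * (b : G)⁻¹ := by group
    have h2 := hfpf _ (D.mul_mem c.2 (D.inv_mem b.2)) h1
    apply Subtype.ext
    exact (mul_inv_eq_one.mp h2).symm
  have hsurj := Finite.injective_iff_surjective.mp hinj
  intro d hd
  obtain ⟨a, ha⟩ := hsurj ⟨d, hd⟩
  have e : d = (a : G)⁻¹ * (z * a * z⁻¹) := by
    rw [← hf a, ha]
  rw [e, hzi]
  calc z * ((a : G)⁻¹ * (z * a * z)) * z = z * (a : G)⁻¹ * z * a * (z * z) := by group
    _ = z * (a : G)⁻¹ * z * a := by rw [hzz, mul_one]
    _ = ((a : G)⁻¹ * (z * a * z))⁻¹ := by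
      have : ((a : G)⁻¹ * (z * a * z))⁻¹ = z⁻¹ * (a : G)⁻¹ * z⁻¹ * a := by group
      rw [this, hzi]

end helpers

section core

variable {G : Type*} [Group G]

/-- `Qf x = O_2(C_G(x))`, as a subgroup of `G`. -/
def Qf (G : Type*) [Group G] (x : G) : Subgroup G :=
  (Cfsg.pCore 2 ↥(centralizer ({x} : Set G))).map (centralizer ({x} : Set G)).subtype

theorem spec_Qf : Spec (Qf G) := fun _ => rfl

theorem Qf_isPGroup (x : G) : IsPGroup 2 (Qf G x) := by
  have : Fact (Nat.Prime 2) := ⟨Nat.prime_two⟩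
  exact (Cfsg.Agent.Lib.Helper87.pCore_isPGroup 2 _).map _

variable [Finite G]

/-- No nontrivial subgroup of odd order is normalized by `Q`. -/
theorem odd_trivial {z : G} (h : LE (Qf G) z) (u : G) (huQ : u ∈ Qf G z) (hu1 : u ≠ 1)
    (huz : u ≠ z) (huu : u * u = 1) (hzu : z ∈ Qf G u)
    (D : Subgroup G) (hD : Odd (Nat.card D)) (hQD : Qf G z ≤ normalizer (D : Set G)) : D = ⊥ := by
  have hspec : Spec (Qf G) := spec_Qf
  have hQ2 : ∀ x : G, IsPGroup 2 (Qf G x) := Qf_isPGroup
  have hnorm : ∀ q ∈ Qf G z, ∀ d ∈ D, q * d * q⁻¹ ∈ D := by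
    intro q hq d hd
    exact (mem_normalizer_iff.mp (hQD hq) d).mp hd
  -- `C_D(z) = 1`
  have hfz : ∀ d ∈ D, z * d * z⁻¹ = d → d = 1 := by
    intro d hd hdz
    have hdz' : d * z = z * d := by
      calc d * z = (z * d * z⁻¹) * z := by rw [hdz]
        _ = z * d := by group
    have hcen : ∀ b ∈ Qf G z, d * b = b * d := by
      intro b hb
      have h1 : d * b * d⁻¹ * b⁻¹ ∈ Qf G z :=
        (Qf G z).mul_mem (Q_normal hspec hdz' hb) ((Qf G z).inv_mem hb)
      have h2 : d * b * d⁻¹ * b⁻¹ ∈ D := by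
        have : d * b * d⁻¹ * b⁻¹ = d * (b * d⁻¹ * b⁻¹) := by group
        rw [this]
        exact D.mul_mem hd (hnorm b hb _ (D.inv_mem hd))
      have h3 := eq_one_of_mem_odd_of_mem_two D (Qf G z) hD (hQ2 z) h2 h1
      calc d * b = (d * b * d⁻¹ * b⁻¹) * (b * d) := by group
        _ = b * d := by rw [h3, one_mul]
    rcases h.cent d hcen with e | e
    · exact e
    · exfalso
      have := eq_one_of_mem_odd_of_mem_two D (Qf G z) hD (hQ2 z) (e ▸ hd) h.mem
      exact h.ne this
  have hinvz := inverts_of_normalizes D z h.sq (fun d hd => hnorm z h.mem d hd) hfz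
  obtain ⟨q, hq, hqu⟩ := h.exists_move huQ hu1 huz
  -- `C_D(u) = 1`
  have hfu : ∀ d ∈ D, u * d * u⁻¹ = d → d = 1 := by
    intro d hd hdu
    have hdu' : d * u = u * d := by
      calc d * u = (u * d * u⁻¹) * u := by rw [hdu]
        _ = u * d := by group
    have h1 : d * z * d⁻¹ ∈ Qf G u := Q_normal hspec hdu' hzu
    have h2 : d * z * d⁻¹ * z⁻¹ ∈ Qf G u := (Qf G u).mul_mem h1 ((Qf G u).inv_mem hzu)
    have h3 : d * z * d⁻¹ * z⁻¹ = d * d := by
      have := hinvz d⁻¹ (D.inv_mem hd)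
      calc d * z * d⁻¹ * z⁻¹ = d * (z * d⁻¹ * z⁻¹) := by group
        _ = d * d := by rw [this, inv_inv]
    rw [h3] at h2
    have h4 := eq_one_of_mem_odd_of_mem_two D (Qf G u) hD (hQ2 u) (D.mul_mem hd hd) h2
    have h5 : orderOf d ∣ 2 := orderOf_dvd_of_pow_eq_one (by rw [pow_two]; exact h4)
    have h6 : orderOf d ∣ Nat.card D := D.orderOf_dvd_natCard hd
    have := Nat.eq_one_of_dvd_coprimes (Nat.coprime_two_left.mpr hD) h5 h6
    exact orderOf_eq_one_iff.mp this
  have hinvu := inverts_of_normalizes D u huu (fun d hd => hnorm u huQ d hd) hfu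
  rw [eq_bot_iff]
  intro d hd
  rw [mem_bot]
  have hqu' : q * u * q⁻¹ = z * u := by
    calc q * u * q⁻¹ = (q * u * q⁻¹ * u⁻¹) * u := by group
      _ = z * u := by rw [hqu]
  have hd' : q⁻¹ * d * q ∈ D := by
    have := hnorm q⁻¹ ((Qf G z).inv_mem hq) d hd
    simpa using this
  have hzud : ∀ e ∈ D, (z * u) * e * (z * u)⁻¹ = e := by
    intro e he
    have h1 := hinvu e he
    have h2 := hinvz e⁻¹ (D.inv_mem he)
    calc (z * u) * e * (z * u)⁻¹ = z * (u * e * u⁻¹) * z⁻¹ := by group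
      _ = z * e⁻¹ * z⁻¹ := by rw [h1]
      _ = e := by rw [h2, inv_inv]
  have h7 : u * (q⁻¹ * d * q) * u⁻¹ = q⁻¹ * d * q := by
    calc u * (q⁻¹ * d * q) * u⁻¹ = q⁻¹ * ((q * u * q⁻¹) * d * (q * u * q⁻¹)⁻¹) * q := by group
      _ = q⁻¹ * ((z * u) * d * (z * u)⁻¹) * q := by rw [hqu']
      _ = q⁻¹ * d * q := by rw [hzud d hd]
  have h8 := hfu _ hd' h7
  calc d = q * (q⁻¹ * d * q) * q⁻¹ := by group
    _ = 1 := by rw [h8]; group

/-- Simplicity from the generation hypothesis. -/
theorem simple_of {z : G} (h : LE (Qf G) z)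
    (hodd : ∀ D : Subgroup G, Odd (Nat.card D) → Qf G z ≤ normalizer (D : Set G) → D = ⊥)
    (hgenN : ∀ N : Subgroup G, N.Normal → z ∈ N → centralizer ({z} : Set G) ≤ N) :
    IsSimpleGroup G := by
  have hspec : Spec (Qf G) := spec_Qf
  have : Fact (Nat.Prime 2) := ⟨Nat.prime_two⟩
  refine { exists_pair_ne := ⟨z, 1, h.ne⟩, eq_bot_or_eq_top_of_normal := fun N hN => ?_ }
  by_cases hNb : N = ⊥
  · exact Or.inl hNb
  right
  have hzN : z ∈ N := by
    by_contra hzN
    have hNQ : ∀ n ∈ N, n ∈ Qf G z → n = 1 := by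
      intro n hn hnQ
      by_contra hn1
      by_cases hnz : n = z
      · exact hzN (hnz ▸ hn)
      · obtain ⟨q0, hq0, hq0n⟩ := h.exists_move hnQ hn1 hnz
        apply hzN
        rw [← hq0n]
        exact N.mul_mem (hN.conj_mem n hn q0) (N.inv_mem hn)
    have hfz : ∀ n ∈ N, z * n * z⁻¹ = n → n = 1 := by
      intro n hn hnz
      have hnz' : n * z = z * n := by
        calc n * z = (z * n * z⁻¹) * z := by rw [hnz]
          _ = z * n := by group
      have hcen : ∀ b ∈ Qf G z, n * b = b * n := by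
        intro b hb
        have h1 : n * b * n⁻¹ * b⁻¹ ∈ Qf G z :=
          (Qf G z).mul_mem (Q_normal hspec hnz' hb) ((Qf G z).inv_mem hb)
        have h2 : n * b * n⁻¹ * b⁻¹ ∈ N := by
          have : n * b * n⁻¹ * b⁻¹ = n * (b * n⁻¹ * b⁻¹) := by group
          rw [this]
          exact N.mul_mem hn (hN.conj_mem _ (N.inv_mem hn) b)
        have h3 := hNQ _ h2 h1
        calc n * b = (n * b * n⁻¹ * b⁻¹) * (b * n) := by group
          _ = b * n := by rw [h3, one_mul]
      rcases h.cent n hcen with e | e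
      · exact e
      · exact absurd (e ▸ hn) hzN
    have hinv := inverts_of_normalizes N z h.sq (fun n hn => hN.conj_mem n hn z) hfz
    have hoddN : Odd (Nat.card N) := by
      by_contra hev
      rw [Nat.not_odd_iff_even] at hev
      obtain ⟨t, ht⟩ := exists_prime_orderOf_dvd_card' (G := N) 2 hev.two_dvd
      have ht1 : (t : G) ≠ 1 := by
        intro e
        have : t = 1 := Subtype.ext e
        rw [this, orderOf_one] at ht
        omega
      have htt : (t : G) * (t : G) = 1 := by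
        have h1 : t ^ 2 = 1 := by rw [← ht]; exact pow_orderOf_eq_one t
        have h2 := congrArg Subtype.val h1
        rw [pow_two] at h2
        exact h2
      have hti : (t : G)⁻¹ = t := inv_eq_of_mul_eq_one_right htt
      have h3 := hinv t t.2
      rw [hti] at h3
      exact ht1 (hfz t t.2 h3)
    apply hNb
    apply hodd N hoddN
    intro q _
    rw [normalizer_eq_top_iff.mpr hN]
    exact mem_top q
  have hCN := hgenN N hN hzN
  obtain ⟨T, hQT⟩ := (Qf_isPGroup z).exists_le_sylow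
  have hzT : z ∈ (T : Subgroup G) := hQT h.mem
  have : Nontrivial ↥(T : Subgroup G) :=
    ⟨⟨⟨z, hzT⟩, 1, fun e => h.ne (congrArg Subtype.val e)⟩⟩
  have hcnt : Nontrivial (Subgroup.center ↥(T : Subgroup G)) := T.isPGroup'.center_nontrivial
  obtain ⟨c, hc⟩ := exists_ne (1 : Subgroup.center ↥(T : Subgroup G))
  have hc1 : ((c : ↥(T : Subgroup G)) : G) ≠ 1 := fun e => hc (Subtype.ext (Subtype.ext e))
  have hcc : ∀ t ∈ (T : Subgroup G),
      t * ((c : ↥(T : Subgroup G)) : G) = ((c : ↥(T : Subgroup G)) : G) * t := by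
    intro t ht
    exact congrArg Subtype.val (Subgroup.mem_center_iff.mp c.2 ⟨t, ht⟩)
  have hcz : ((c : ↥(T : Subgroup G)) : G) = z := by
    rcases h.cent _ (fun b hb => (hcc b (hQT hb)).symm) with e | e
    · exact absurd e hc1
    · exact e
  rw [hcz] at hcc
  have hTH : (T : Subgroup G) ≤ centralizer ({z} : Set G) := fun t ht =>
    mem_centralizer_singleton_iff.mpr (hcc t ht)
  have hNTH : normalizer ((T : Subgroup G) : Set G) ≤ centralizer ({z} : Set G) := by
    intro x hx
    have hcen : ∀ b ∈ Qf G z, (x * z * x⁻¹) * b = b * (x * z * x⁻¹) := by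
      intro b hb
      have hbT : b ∈ (T : Subgroup G) := hQT hb
      have h1 : x⁻¹ * b * x ∈ (T : Subgroup G) := by
        apply (mem_normalizer_iff.mp hx (x⁻¹ * b * x)).mpr
        have : x * (x⁻¹ * b * x) * x⁻¹ = b := by group
        rw [this]; exact hbT
      have h2 := hcc _ h1
      calc (x * z * x⁻¹) * b = x * (z * (x⁻¹ * b * x)) * x⁻¹ := by group
        _ = x * ((x⁻¹ * b * x) * z) * x⁻¹ := by rw [h2]
        _ = b * (x * z * x⁻¹) := by group
    rcases h.cent _ hcen with e | e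
    · exfalso
      apply h.ne
      calc z = x⁻¹ * (x * z * x⁻¹) * x := by group
        _ = 1 := by rw [e]; group
    · rw [mem_centralizer_singleton_iff]
      calc x * z = (x * z * x⁻¹) * x := by group
        _ = z * x := by rw [e]
  have hTN : (T : Subgroup G) ≤ N := hTH.trans hCN
  have hfr := Sylow.normalizer_sup_eq_top' T hTN
  rw [eq_top_iff, ← hfr]
  exact sup_le (hNTH.trans hCN) le_rfl

end core

/-- Let z be an involution of the finite group G whose centralizer C has generalized Fitting subgroup Q, an extraspecial 2-group of width at least 2 (order 2^(2w+1), w ≥ 2). Let K be a subgroup of G such that the subgroup U generated by the K-conjugates of z is abelian and C is generated by the C-conjugates of U. Suppose that either some K-conjugate of z other than z lies in Q, or some element u of U ∩ Q outside the subgroup generated by z has z in the largest normal 2-subgroup of its centralizer. Then G is simple and Q is a large extraspecial 2-subgroup of G.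 -/
theorem result {G : Type*} [Group G] [Finite G] (z : G) (hz : orderOf z = 2) (Q : Subgroup G) (hQC : Q ≤ Subgroup.centralizer ({z} : Set G)) (hF : (Cfsg.generalizedFittingSubgroup ↥(Subgroup.centralizer ({z} : Set G))).map (Subgroup.centralizer ({z} : Set G)).subtype = Q) (hQ : Cfsg.IsExtraspecial 2 ↥Q) (w : ℕ) (hw : 2 ≤ w) (hcard : Nat.card ↥Q = 2 ^ (2 * w + 1)) (K U : Subgroup G) (hU : U = Subgroup.closure {x : G | ∃ k ∈ K, x = k * z * k⁻¹}) (hUab : IsMulCommutative ↥U) (hgen : Subgroup.closure {x : G | ∃ c ∈ Subgroup.centralizer ({z} : Set G), ∃ u ∈ U, x = c * u * c⁻¹} = Subgroup.centralizer ({z} : Set G)) (h3 : (∃ k ∈ K, k * z * k⁻¹ ∈ Q ∧ k * z * k⁻¹ ≠ z) ∨ ∃ u ∈ U ⊓ Q, u ∉ Subgroup.zpowers z ∧ (∃ hz' : z ∈ Subgroup.centralizer ({u} : Set G), (⟨z, hz'⟩ : ↥(Subgroup.centralizer ({u} : Set G))) ∈ Cfsg.pCore 2 ↥(Subgroup.centralizer ({u} : Set G)))) : IsSimpleGroup G ∧ Cfsg.IsLargeExtraspecial Q := by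
  classical
  have hp2 : Fact (Nat.Prime 2) := ⟨Nat.prime_two⟩
  have hFn : (Cfsg.generalizedFittingSubgroup ↥(centralizer ({z} : Set G))).Normal :=
    Cfsg.Agent.Lib.Helper22.generalizedFittingSubgroup_normal _
  have hF2 : IsPGroup 2 ↥(Cfsg.generalizedFittingSubgroup ↥(centralizer ({z} : Set G))) := by
    have e : ↥(Cfsg.generalizedFittingSubgroup ↥(centralizer ({z} : Set G))) ≃* ↥Q :=
      ((Cfsg.generalizedFittingSubgroup ↥(centralizer ({z} : Set G))).equivMapOfInjective _
        (Subgroup.subtype_injective _)).trans (MulEquiv.subgroupCongr hF)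
    exact hQ.1.1.of_equiv e.symm
  have hFeq : Cfsg.generalizedFittingSubgroup ↥(centralizer ({z} : Set G)) =
      Cfsg.pCore 2 ↥(centralizer ({z} : Set G)) :=
    le_antisymm (Cfsg.Agent.Lib.Helper87.le_pCore hFn hF2)
      ((Cfsg.Agent.Lib.Helper22.pCore_le_fitting 2).trans
        (Cfsg.Agent.Lib.Helper22.fitting_le_generalizedFitting _))
  have hQeq : Q = Qf G z := by
    rw [← hF, hFeq]; rfl
  subst hQeq
  have hspec : Spec (Qf G) := spec_Qf
  have hzz : z * z = 1 := by
    have := pow_orderOf_eq_one z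
    rwa [hz, pow_two] at this
  have hz1 : z ≠ 1 := by
    intro h; rw [h, orderOf_one] at hz; omega
  have hzC : z ∈ centralizer ({z} : Set G) := mem_centralizer_singleton_iff.mpr rfl
  -- membership in `Q` via the centralizer of `F*`
  have hmemQ : ∀ x : G, x * z = z * x → (∀ b ∈ Qf G z, b * x = x * b) → x ∈ Qf G z := by
    intro x hxz hxb
    have hxC : x ∈ centralizer ({z} : Set G) := mem_centralizer_singleton_iff.mpr hxz
    have h1 : (⟨x, hxC⟩ : ↥(centralizer ({z} : Set G))) ∈
        centralizer ((Cfsg.generalizedFittingSubgroup ↥(centralizer ({z} : Set G)) :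
          Subgroup ↥(centralizer ({z} : Set G))) : Set ↥(centralizer ({z} : Set G))) := by
      rw [mem_centralizer_iff]
      intro b hb
      apply Subtype.ext
      have hbQ : (b : G) ∈ Qf G z := by
        rw [← hF]
        exact ⟨b, hb, rfl⟩
      exact hxb _ hbQ
    have h2 := Cfsg.Agent.Lib.Helper22.centralizer_generalizedFitting_le _ h1
    rw [← hF]
    exact ⟨⟨x, hxC⟩, h2, rfl⟩
  have hzQ : z ∈ Qf G z := hmemQ z rfl (fun b hb => Q_comm hspec hb)
  have hcent : centralizer ((Qf G z : Subgroup G) : Set G) ≤ Qf G z := by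
    intro x hx
    rw [mem_centralizer_iff] at hx
    exact hmemQ x (hx z hzQ).symm (fun b hb => hx b hb)
  have hLE : LE (Qf G) z := LE.of_hyp hspec hz hQ hcent
  -- `U` has exponent two and contains the `K`-conjugates of `z`
  have hconjU : ∀ k ∈ K, k * z * k⁻¹ ∈ U := by
    intro k hk
    rw [hU]
    exact subset_closure ⟨k, hk, rfl⟩
  have hUcomm : ∀ a ∈ U, ∀ b ∈ U, a * b = b * a := by
    intro a ha b hb
    exact setLike_mul_comm ha hb
  have hUsq : ∀ x ∈ U, x * x = 1 := by
    intro x hx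
    have hx' : x ∈ closure {x : G | ∃ k ∈ K, x = k * z * k⁻¹} := by rw [← hU]; exact hx
    have hclU : closure {x : G | ∃ k ∈ K, x = k * z * k⁻¹} ≤ U := by rw [← hU]
    induction hx' using closure_induction with
    | mem y hy =>
      obtain ⟨k, _, rfl⟩ := hy
      calc k * z * k⁻¹ * (k * z * k⁻¹) = k * (z * z) * k⁻¹ := by group
        _ = 1 := by rw [hzz]; group
    | one => simp
    | mul a b ha hb iha ihb =>
      have haU : a ∈ U := hclU ha
      have hbU : b ∈ U := hclU hb
      have hc := hUcomm a haU b hbU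
      calc a * b * (a * b) = a * (b * a) * b := by group
        _ = a * (a * b) * b := by rw [hc]
        _ = (a * a) * (b * b) := by group
        _ = 1 := by rw [iha haU, ihb hbU, one_mul]
    | inv a ha iha =>
      have haU : a ∈ U := hclU ha
      calc a⁻¹ * a⁻¹ = (a * a)⁻¹ := by group
        _ = 1 := by rw [iha haU, inv_one]
  -- the element `u`
  obtain ⟨u, huQ, hu1, huz, huu, hzu⟩ : ∃ u : G, u ∈ Qf G z ∧ u ≠ 1 ∧ u ≠ z ∧ u * u = 1 ∧
      z ∈ Qf G u := by
    rcases h3 with ⟨k, hk, hkQ, hkz⟩ | ⟨u, hu, huz, hz', hzp⟩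
    · refine ⟨k * z * k⁻¹, hkQ, (hLE.conj hspec k).ne, hkz, (hLE.conj hspec k).sq, ?_⟩
      exact LE.symm_mem hspec hLE (hLE.conj hspec k) (card_Q_conj hspec k z).le hkQ
    · refine ⟨u, hu.2, ?_, ?_, hUsq u hu.1, ?_⟩
      · intro e
        apply huz
        rw [e]
        exact one_mem _
      · intro e
        apply huz
        rw [e]
        exact mem_zpowers z
      · exact ⟨⟨z, hz'⟩, hzp, rfl⟩
  have hodd : ∀ D : Subgroup G, Odd (Nat.card D) → Qf G z ≤ normalizer (D : Set G) → D = ⊥ :=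
    fun D hD hQD => odd_trivial hLE u huQ hu1 huz huu hzu D hD hQD
  have hgenN : ∀ N : Subgroup G, N.Normal → z ∈ N → centralizer ({z} : Set G) ≤ N := by
    intro N hN hzN
    have hUN : U ≤ N := by
      rw [hU, closure_le]
      rintro x ⟨k, _, rfl⟩
      exact hN.conj_mem z hzN k
    rw [← hgen, closure_le]
    rintro x ⟨c, _, u', hu', rfl⟩
    exact hN.conj_mem u' (hUN hu') c
  refine ⟨simple_of hLE hodd hgenN, hQ, ?_, ?_, hodd⟩
  · -- `C_G(Q) = Z(Q)`
    apply le_antisymm
    · intro x hx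
      have hxQ : x ∈ Qf G z := hcent hx
      rw [mem_centralizer_iff] at hx
      refine ⟨⟨x, hxQ⟩, ?_, rfl⟩
      rw [SetLike.mem_coe, mem_center_iff]
      intro b
      apply Subtype.ext
      exact hx b b.2
    · rintro x ⟨y, hy, rfl⟩
      rw [SetLike.mem_coe, mem_center_iff] at hy
      rw [mem_centralizer_iff]
      intro b hb
      exact congrArg Subtype.val (hy ⟨b, hb⟩)
  · -- `C_G(Z(Q))` normalizes `Q`
    intro x hx
    rw [mem_centralizer_iff] at hx
    have hzZ : z ∈ (((center ↥(Qf G z)).map (Qf G z).subtype : Subgroup G) : Set G) := by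
      refine ⟨⟨z, hzQ⟩, ?_, rfl⟩
      rw [SetLike.mem_coe, mem_center_iff]
      intro b
      apply Subtype.ext
      exact Q_comm hspec b.2
    have hxz : x * z = z * x := (hx z hzZ).symm
    rw [mem_normalizer_iff]
    intro y
    constructor
    · intro hy
      exact Q_normal hspec hxz hy
    · intro hy
      have := Q_normal' hspec hxz hy
      have e : x⁻¹ * (x * y * x⁻¹) * x = y := by group
      rwa [e] at this

end Cfsg.Agent.S5427
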