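import Cfsg.Statements.S1209
import Cfsg.Agent.Lib.Helper90.WreathedFusion

set_option autoImplicit false
open Cfsg

namespace Cfsg.Agent.S1209

open Cfsg.Agent.Lib.Helper90

/-- Let G be a finite group whose Sylow 2-subgroup S is wreathed of order 2^(2n+1), U the commutative subgroup of index 2 in S, Q a quaternion subgroup of order 8 of S and V = Q Z(S). If |N_G(U) : C_G(U)| = 6 and |N_G(V) : V C_G(V)| = 6, then G has no subgroup of index 2 and exactly one conjugacy class of involutions. -/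
theorem result {G : Type*} [Group G] [Finite G] (S : Sylow 2 G) (hS : Cfsg.IsWreathed (S : Subgroup G)) (n : ℕ) (hn : Nat.card S = 2 ^ (2 * n + 1)) (U : Subgroup G) (hUS : U ≤ S) (hUab : IsMulCommutative U) (hUcard : Nat.card U = 2 ^ (2 * n)) (Q : Subgroup G) (hQS : Q ≤ S) (eQ : Q ≃* QuaternionGroup 2) (h₁ : (Subgroup.centralizer (U : Set G)).relIndex (Subgroup.normalizer (U : Set G)) = 6) (h₂ : ((Q ⊔ ((Subgroup.center (S : Subgroup G)).map (S : Subgroup G).subtype)) ⊔ Subgroup.centralizer ((Q ⊔ ((Subgroup.center (S : Subgroup G)).map (S : Subgroup G).subtype) : Subgroup G) : Set G)).relIndex (Subgroup.normalizer ((Q ⊔ ((Subgroup.center (S : Subgroup G)).map (S : Subgroup G).subtype) : Subgroup G) : Set G)) = 6) : (∀ H : Subgroup G, H.index ≠ 2) ∧ Nat.card {C : ConjClasses G // ∃ t : G, orderOf t = 2 ∧ ConjClasses.mk t = C} = 1 := by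
  obtain ⟨m, x, y, z, h⟩ := exists_wrData hS
  have hmn : m = n := by
    have h1 := h.card
    rw [hn] at h1
    have := Nat.pow_right_injective (le_refl 2) h1
    omega
  subst hmn
  obtain ⟨c, hc⟩ := h.exists_eq_map_W Q hQS eQ
  rw [hc] at h₂
  have hU := h.eq_map_B U hUS hUab hUcard
  subst hU
  have hBn : h.B.Normal := h.B_normal
  obtain ⟨t₁, ht₁⟩ : ∃ t₁ : G, t₁ = ((h.b ((2 : ℤ) ^ (m - 1)) 0 : ↥(S : Subgroup G)) : G) := ⟨_, rfl⟩
  obtain ⟨e, he⟩ : ∃ e : G,
    e = ((h.b ((2 : ℤ) ^ (m - 1)) ((2 : ℤ) ^ (m - 1)) : ↥(S : Subgroup G)) : G) := ⟨_, rfl⟩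
  have h3U := ThreeInv.of_equiv
    (h.B.equivMapOfInjective (S : Subgroup G).subtype (Subgroup.subtype_injective _)).symm h.threeInv_B
  obtain ⟨g, hgne, hg3⟩ := exists_aut_order_three (h.B.map (S : Subgroup G).subtype)
    (by rw [h₁]; norm_num)
  have ht₁U : t₁ ∈ h.B.map (S : Subgroup G).subtype := ⟨_, h.b_mem_B _ _, ht₁.symm⟩
  have heU : e ∈ h.B.map (S : Subgroup G).subtype := ⟨_, h.b_mem_B _ _, he.symm⟩
  have ot₁ : orderOf t₁ = 2 := by
    rw [ht₁, Subgroup.orderOf_coe, orderOf_two_iff']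
    exact ⟨h.b_half_zero_ne_one, h.half_sq _ _ (dvd_refl _) (dvd_zero _)⟩
  have oe : orderOf e = 2 := by
    rw [he, Subgroup.orderOf_coe]; exact h.orderOf_e
  obtain ⟨k₁, _, hk₁⟩ := h3U.exists_conj g hgne hg3 t₁ e ht₁U heU ot₁ oe
  obtain ⟨g₂, w, hwB, hw⟩ := h.exists_conj_out_of_B (2 * c) (by rw [h₂]; norm_num)
  rw [← ht₁] at hw
  have ow : orderOf w = 2 := by
    rw [← Subgroup.orderOf_coe, ← hw]
    have : g₂ * t₁ * g₂⁻¹ = (MulAut.conj g₂) t₁ := by simp
    rw [this, MulEquiv.orderOf_eq]; exact ot₁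
  obtain ⟨k₂, hk₂⟩ := h.inv_conj_cases w ow
  have hk₂z : k₂ * w * k₂⁻¹ = z := by
    have hconj : k₂ * w * k₂⁻¹ ∉ h.B := by
      intro hmem
      apply hwB
      have := hBn.conj_mem _ hmem k₂⁻¹
      simpa [mul_assoc] using this
    rcases hk₂ with hk | hk | hk
    · exact absurd (hk ▸ h.b_mem_B _ _) hconj
    · exact absurd (hk ▸ h.b_mem_B _ _) hconj
    · exact hk
  have hzt : (z : G) = ((k₂ : G) * g₂) * t₁ * ((k₂ : G) * g₂)⁻¹ := by
    have := congrArg Subtype.val hk₂z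
    simp only [Subgroup.coe_mul, Subgroup.coe_inv] at this
    rw [← this, ← hw]; group
  constructor
  · intro H hH
    have hHn : H.Normal := Subgroup.normal_of_index_eq_two hH
    have hUH : h.B.map (S : Subgroup G).subtype ≤ H := by
      intro a ha
      obtain ⟨c', hc'U, rfl⟩ := h3U.exists_comm_form g hgne hg3 a ha
      rw [Subgroup.mul_mem_iff_of_index_two hH]
      constructor
      · intro hi
        exact hHn.conj_mem _ (by simpa using H.inv_mem hi) _
      · intro hi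
        have := hHn.conj_mem _ hi (g : G)⁻¹
        apply H.inv_mem
        simpa [mul_assoc] using this
    have hwH : (w : G) ∈ H := by rw [← hw]; exact hHn.conj_mem _ (hUH ht₁U) _
    have hSH : (S : Subgroup G) ≤ H := by
      intro s hs
      by_cases hsB : (⟨s, hs⟩ : ↥(S : Subgroup G)) ∈ h.B
      · exact hUH ⟨⟨s, hs⟩, hsB, rfl⟩
      · have hmem : (⟨s, hs⟩ : ↥(S : Subgroup G)) * w⁻¹ ∈ h.B := by
          rw [Subgroup.mul_mem_iff_of_index_two h.index_B]
          exact ⟨fun h' => absurd h' hsB,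
            fun h' => absurd (by simpa using h.B.inv_mem h') hwB⟩
        have h1 : s * (w : G)⁻¹ ∈ H := hUH ⟨_, hmem, rfl⟩
        have := H.mul_mem h1 hwH
        simpa using this
    have := Subgroup.index_dvd_of_le hSH
    rw [hH] at this
    exact S.not_dvd_index this
  · rw [Nat.card_eq_one_iff_unique]
    have key : ∀ τ : G, orderOf τ = 2 → ConjClasses.mk τ = ConjClasses.mk t₁ := by
      intro τ hτ
      rw [ConjClasses.mk_eq_mk_iff_isConj, isConj_iff]
      obtain ⟨k, hk | hk | hk⟩ := h.inv_conj_cases_G τ hτ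
      · exact ⟨k, by rw [hk, ht₁]⟩
      · refine ⟨k₁⁻¹ * k, ?_⟩
        rw [← ht₁] at *
        rw [← he, ← hk₁] at hk
        calc k₁⁻¹ * k * τ * (k₁⁻¹ * k)⁻¹ = k₁⁻¹ * (k * τ * k⁻¹) * k₁ := by group
          _ = k₁⁻¹ * (k₁ * t₁ * k₁⁻¹) * k₁ := by rw [hk]
          _ = t₁ := by group
      · refine ⟨((k₂ : G) * g₂)⁻¹ * k, ?_⟩
        rw [hzt] at hk
        calc ((k₂ : G) * g₂)⁻¹ * k * τ * (((k₂ : G) * g₂)⁻¹ * k)⁻¹
            = ((k₂ : G) * g₂)⁻¹ * (k * τ * k⁻¹) * ((k₂ : G) * g₂) := by group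
          _ = ((k₂ : G) * g₂)⁻¹ * (((k₂ : G) * g₂) * t₁ * ((k₂ : G) * g₂)⁻¹) * ((k₂ : G) * g₂) := by
              rw [hk]
          _ = t₁ := by group
    constructor
    · constructor
      rintro ⟨C₁, τ₁, o₁, rfl⟩ ⟨C₂, τ₂, o₂, rfl⟩
      apply Subtype.ext
      show ConjClasses.mk τ₁ = ConjClasses.mk τ₂
      rw [key τ₁ o₁, key τ₂ o₂]
    · exact ⟨⟨ConjClasses.mk t₁, t₁, ot₁, rfl⟩⟩

end Cfsg.Agent.S1209
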