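import Cfsg.Statements.S1210
import Cfsg.Agent.Lib.Helper90.WreathedQFusion

set_option autoImplicit false
open Cfsg

namespace Cfsg.Agent.S1210

open Cfsg.Agent.Lib.Helper90 Cfsg.Agent.Lib.Helper33 Cfsg.Agent.Lib.Helper2

/-- Let G be a finite group whose Sylow 2-subgroup S is wreathed of order 2^(2n+1), U the commutative subgroup of index 2 in S, Q a quaternion subgroup of order 8 of S and V = Q Z(S). If |N_G(U) : C_G(U)| = 2 and |N_G(V) : V C_G(V)| = 6, then G has a normal subgroup K of index 2^n whose Sylow 2-subgroups are generalized quaternion and which has no subgroup of index 2; every subgroup of Z(S) is weakly closed in S; and G has exactly two classes of involutions. -/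
theorem result {G : Type*} [Group G] [Finite G] (S : Sylow 2 G) (hS : Cfsg.IsWreathed (S : Subgroup G)) (n : ℕ) (hn : Nat.card S = 2 ^ (2 * n + 1)) (U : Subgroup G) (hUS : U ≤ S) (hUab : IsMulCommutative U) (hUcard : Nat.card U = 2 ^ (2 * n)) (Q : Subgroup G) (hQS : Q ≤ S) (eQ : Q ≃* QuaternionGroup 2) (h₁ : (Subgroup.centralizer (U : Set G)).relIndex (Subgroup.normalizer (U : Set G)) = 2) (h₂ : ((Q ⊔ ((Subgroup.center (S : Subgroup G)).map (S : Subgroup G).subtype)) ⊔ Subgroup.centralizer ((Q ⊔ ((Subgroup.center (S : Subgroup G)).map (S : Subgroup G).subtype) : Subgroup G) : Set G)).relIndex (Subgroup.normalizer ((Q ⊔ ((Subgroup.center (S : Subgroup G)).map (S : Subgroup G).subtype) : Subgroup G) : Set G)) = 6) : (∃ K : Subgroup G, K.Normal ∧ K.index = 2 ^ n ∧ (∀ P : Sylow 2 ↥K, ∃ m : ℕ, 1 ≤ m ∧ Nonempty ((P : Subgroup ↥K) ≃* QuaternionGroup (2 ^ m))) ∧ (∀ H : Subgroup ↥K, H.index ≠ 2)) ∧ (∀ Z₀ : Subgroup G, Z₀ ≤ ((Subgroup.center (S : Subgroup G)).map (S :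 Subgroup G).subtype) → Cfsg.IsWeaklyClosed Z₀ (S : Subgroup G)) ∧ Nat.card {C : ConjClasses G // ∃ t : G, orderOf t = 2 ∧ ConjClasses.mk t = C} = 2 := by
  obtain ⟨m, x, y, z, h⟩ := exists_wrData hS
  have hmn : m = n := by
    have h1 := h.card
    rw [hn] at h1
    have := Nat.pow_right_injective (le_refl 2) h1
    omega
  subst hmn
  obtain ⟨c₀, hc⟩ := h.exists_eq_map_W Q hQS eQ
  rw [hc] at h₂
  have hU := h.eq_map_B U hUS hUab hUcard
  subst hU
  have hU2 : ∃ k : ℕ,
      (Subgroup.centralizer ((h.B.map (S : Subgroup G).subtype : Subgroup G) : Set G)).relIndex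
        (Subgroup.normalizer ((h.B.map (S : Subgroup G).subtype : Subgroup G) : Set G)) = 2 ^ k :=
    ⟨1, by rw [h₁, pow_one]⟩
  have h3 : 3 ∣ ((h.W (m - 1) (2 * c₀)).map (S : Subgroup G).subtype ⊔
      Subgroup.centralizer
        (((h.W (m - 1) (2 * c₀)).map (S : Subgroup G).subtype : Subgroup G) : Set G)).relIndex
      (Subgroup.normalizer
        (((h.W (m - 1) (2 * c₀)).map (S : Subgroup G).subtype : Subgroup G) : Set G)) := by
    rw [h₂]; norm_num
  refine ⟨?_, ?_, h.card_involution_classes_Q hU2 c₀ h3⟩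
  · obtain ⟨K, hKn, hKi, hQK, -⟩ := h.exists_normal_Q hU2
    refine ⟨K, hKn, hKi, ?_, ?_⟩
    · intro P
      have hm2 := h.hn
      exact ⟨m - 1, by omega, h.sylow_equiv_quaternion K hKi hQK P⟩
    · intro H hH
      have h1 := h.map_Q_subgroupOf_le_of_index_two c₀ h3 K hKn hKi H hH
      have h2 := Subgroup.index_dvd_of_le h1
      rw [hH] at h2
      exact h.not_dvd_index_map_Q_subgroupOf K hKi hQK h2
  · intro Z₀ hZ₀
    exact h.weaklyClosed_of_le_center hU2 Z₀ hZ₀

end Cfsg.Agent.S1210
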