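import Cfsg.Statements.S1211
import Cfsg.Agent.Lib.Helper90.WreathedEss
import Cfsg.Agent.Lib.Helper90.FocalReach

set_option autoImplicit false
open Cfsg

namespace Cfsg.Agent.S1211

open Cfsg.Agent.Lib.Helper90 Cfsg.Agent.Lib.Helper33 Cfsg.Agent.Lib.Helper2

/-- Let G be a finite group whose Sylow 2-subgroup S is wreathed of order 2^(2n+1), U the commutative subgroup of index 2 in S, Q a quaternion subgroup of order 8 of S and V = Q Z(S). If |N_G(U) : C_G(U)| = 6 and |N_G(V) : V C_G(V)| = 2, then G has a normal subgroup K of index 2 containing U (so U is a Sylow 2-subgroup of K) which has no subgroup of index 2, and G has exactly two classes of involutions. -/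
theorem result {G : Type*} [Group G] [Finite G] (S : Sylow 2 G) (hS : Cfsg.IsWreathed (S : Subgroup G)) (n : ℕ) (hn : Nat.card S = 2 ^ (2 * n + 1)) (U : Subgroup G) (hUS : U ≤ S) (hUab : IsMulCommutative U) (hUcard : Nat.card U = 2 ^ (2 * n)) (Q : Subgroup G) (hQS : Q ≤ S) (eQ : Q ≃* QuaternionGroup 2) (h₁ : (Subgroup.centralizer (U : Set G)).relIndex (Subgroup.normalizer (U : Set G)) = 6) (h₂ : ((Q ⊔ ((Subgroup.center (S : Subgroup G)).map (S : Subgroup G).subtype)) ⊔ Subgroup.centralizer ((Q ⊔ ((Subgroup.center (S : Subgroup G)).map (S : Subgroup G).subtype) : Subgroup G) : Set G)).relIndex (Subgroup.normalizer ((Q ⊔ ((Subgroup.center (S : Subgroup G)).map (S : Subgroup G).subtype) : Subgroup G) : Set G)) = 2) : (∃ K : Subgroup G, K.Normal ∧ K.index = 2 ∧ U ≤ K ∧ (∀ H : Subgroup ↥K, H.index ≠ 2)) ∧ Nat.card {C : ConjClasses G // ∃ t : G, orderOf t = 2 ∧ ConjClasses.mk t = C} = 2 := by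
  obtain ⟨m, x, y, z, h⟩ := exists_wrData hS
  have hmn : m = n := by
    have h1 := h.card
    rw [hn] at h1
    have := Nat.pow_right_injective (le_refl 2) h1
    omega
  subst hmn
  obtain ⟨c₀, hc⟩ := h.exists_eq_map_W Q hQS eQ
  rw [hc] at h₂
  have hU := h.eq_map_B U hUS hUab hUcard
  subst hU
  have hBn : h.B.Normal := h.B_normal
  obtain ⟨Ug, hUg⟩ : ∃ Ug : Subgroup G, Ug = h.B.map (S : Subgroup G).subtype := ⟨_, rfl⟩
  rw [← hUg] at h₁ hUS hUcard ⊢
  have hreach : ∀ (A : Set G) (g : G), A ⊆ (S : Subgroup G) → rc g A ⊆ (S : Subgroup G) →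
      CReach ({(S : Subgroup G)} ∪ {Ug}) A g := by
    intro A g hA hAg
    rw [hUg]
    exact h.creach_wreathed {h.B.map (S : Subgroup G).subtype} (Or.inl rfl)
      (fun c => Or.inr (h.relIndex_map_W_pow_two c₀ h₂ c)) A g hA hAg
  have hfoc : (S : Subgroup G).focalSubgroup ≤ Ug := by
    apply focalSubgroup_le_of_steps S {Ug} Ug ?_ h.normalizer_S_factor ?_ ?_ hreach
    · intro T hT
      rw [Set.mem_singleton_iff.mp hT]; exact hUS
    · intro a ha s hs
      rw [hUg]
      obtain ⟨a', rfl⟩ : ∃ a' : ↥(S : Subgroup G), (a' : G) = a := ⟨⟨a, ha⟩, rfl⟩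
      obtain ⟨s', rfl⟩ : ∃ s' : ↥(S : Subgroup G), (s' : G) = s := ⟨⟨s, hs⟩, rfl⟩
      refine ⟨a'⁻¹ * (s'⁻¹ * a' * s'), ?_, by simp⟩
      show _ ∈ h.B
      rw [Subgroup.mul_mem_iff_of_index_two h.index_B, inv_mem_iff]
      constructor
      · intro hi
        have := hBn.conj_mem _ hi s'⁻¹
        simpa using this
      · intro hi
        have := hBn.conj_mem _ hi s'
        have e : s' * (s'⁻¹ * a' * s') * s'⁻¹ = a' := by group
        rwa [e] at this
    · intro T hT x' hx' a ha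
      rw [Set.mem_singleton_iff.mp hT] at hx' ha
      refine mul_mem (inv_mem ha) ?_
      have := (Subgroup.mem_normalizer_iff.mp (inv_mem hx') a).mp ha
      simpa using this
  have hfoc' : (S : Subgroup G).focalSubgroupOf ≤ h.B := by
    intro s hs
    rw [Subgroup.focalSubgroupOf_def, Subgroup.mem_subgroupOf] at hs
    have := hfoc hs
    rw [hUg] at this
    obtain ⟨b, hb, hbs⟩ := this
    have hbs' : b = s := Subtype.ext hbs
    exact hbs' ▸ hb
  obtain ⟨K, hKn, hKi, hUK, -⟩ := exists_normal_of_focal_le S h.B hfoc'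
  rw [h.index_B] at hKi
  rw [← hUg] at hUK
  have h3U' := ThreeInv.of_equiv
      (h.B.equivMapOfInjective (S : Subgroup G).subtype (Subgroup.subtype_injective _)).symm
      h.threeInv_B
  obtain ⟨tU, uU, h3U⟩ : ∃ tU uU : ↥Ug, ThreeInv ↥Ug tU uU := by
    subst hUg
    exact ⟨_, _, h3U'⟩
  obtain ⟨g, hgne, hg3⟩ := exists_aut_order_three Ug (by rw [h₁]; norm_num)
  obtain ⟨t₁, ht₁⟩ : ∃ t₁ : G, t₁ = ((h.b ((2 : ℤ) ^ (m - 1)) 0 : ↥(S : Subgroup G)) : G) := ⟨_, rfl⟩
  obtain ⟨e, he⟩ : ∃ e : G,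
    e = ((h.b ((2 : ℤ) ^ (m - 1)) ((2 : ℤ) ^ (m - 1)) : ↥(S : Subgroup G)) : G) := ⟨_, rfl⟩
  have ht₁U : t₁ ∈ Ug := by rw [hUg]; exact ⟨_, h.b_mem_B _ _, ht₁.symm⟩
  have heU : e ∈ Ug := by rw [hUg]; exact ⟨_, h.b_mem_B _ _, he.symm⟩
  have ot₁ : orderOf t₁ = 2 := by
    rw [ht₁, Subgroup.orderOf_coe, orderOf_two_iff']
    exact ⟨h.b_half_zero_ne_one, h.half_sq _ _ (dvd_refl _) (dvd_zero _)⟩
  have oe : orderOf e = 2 := by
    rw [he, Subgroup.orderOf_coe]; exact h.orderOf_e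
  have oz : orderOf (z : G) = 2 := by
    rw [Subgroup.orderOf_coe]; exact h.oz
  -- `z ∉ K`
  have hzK : (z : G) ∉ K := by
    intro hz
    have hSK : (S : Subgroup G) ≤ K := by
      intro s hs
      by_cases hsB : (⟨s, hs⟩ : ↥(S : Subgroup G)) ∈ h.B
      · exact hUK (by rw [hUg]; exact ⟨⟨s, hs⟩, hsB, rfl⟩)
      · have hmem : (⟨s, hs⟩ : ↥(S : Subgroup G)) * z⁻¹ ∈ h.B := by
          rw [Subgroup.mul_mem_iff_of_index_two h.index_B]
          exact ⟨fun h' => absurd h' hsB,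
            fun h' => absurd (by simpa using h.B.inv_mem h') h.z_not_mem_B⟩
        have h1 : s * (z : G)⁻¹ ∈ K := hUK (by rw [hUg]; exact ⟨_, hmem, rfl⟩)
        have := K.mul_mem h1 hz
        simpa using this
    have := Subgroup.index_dvd_of_le hSK
    rw [hKi] at this
    exact S.not_dvd_index this
  refine ⟨⟨K, hKn, hKi, hUK, ?_⟩, ?_⟩
  · intro H hH
    have hHn : H.Normal := Subgroup.normal_of_index_eq_two hH
    have hωne : Ug.normalizerMonoidHom (g * g) ≠ 1 := by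
      intro h1
      apply hgne
      rw [map_mul] at h1
      have h2 := hg3
      rw [pow_succ, sq, h1, one_mul] at h2
      exact h2
    have hω3 : (Ug.normalizerMonoidHom (g * g)) ^ 3 = 1 := by
      rw [map_mul, ← sq, ← pow_mul, mul_comm, pow_mul, hg3, one_pow]
    have hωK : ((g * g : Subgroup.normalizer (Ug : Set G)) : G) ∈ K := by
      rw [Subgroup.coe_mul]
      exact Subgroup.mul_self_mem_of_index_two hKi _
    have hUH : ∀ (a : G) (_ : a ∈ Ug) (haK : a ∈ K), (⟨a, haK⟩ : ↥K) ∈ H := by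
      intro a ha haK
      obtain ⟨c, hcU, hac⟩ := h3U.exists_comm_form (g * g) hωne hω3 a ha
      have hcK := hUK hcU
      obtain ⟨ω', hω'⟩ : ∃ ω' : ↥K, ω' = ⟨_, hωK⟩ := ⟨_, rfl⟩
      obtain ⟨c', hc'⟩ : ∃ c' : ↥K, c' = ⟨c, hcK⟩ := ⟨_, rfl⟩
      have e1 : (⟨a, haK⟩ : ↥K) = c'⁻¹ * (ω' * c' * ω'⁻¹) := by
        rw [hω', hc']
        exact Subtype.ext (by simpa using hac)
      rw [e1, Subgroup.mul_mem_iff_of_index_two hH, inv_mem_iff]
      constructor
      · intro hi; exact hHn.conj_mem _ hi _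
      · intro hi
        have := hHn.conj_mem _ hi ω'⁻¹
        have e : ω'⁻¹ * (ω' * c' * ω'⁻¹) * ω'⁻¹⁻¹ = c' := by group
        rwa [e] at this
    have h1 : H.index ∣ (Ug.subgroupOf K).index :=
      Subgroup.index_dvd_of_le (fun a ha => hUH a (Subgroup.mem_subgroupOf.mp ha) a.2)
    have e2 : (Ug.subgroupOf K).index = Ug.relIndex K := rfl
    rw [hH, e2] at h1
    have c1 := card_eq_relIndex_mul_card hUK
    have c2 := Subgroup.card_mul_index K
    have c3 := Subgroup.card_mul_index (S : Subgroup G)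
    have c4 : Nat.card (S : Subgroup G) = 2 * Nat.card Ug := by
      rw [h.card, hUcard, pow_succ, mul_comm]
    rw [hKi, c1] at c2
    rw [c4, ← c2] at c3
    have hpos : 0 < Nat.card Ug := Nat.card_pos
    have c5 : Ug.relIndex K = (S : Subgroup G).index := by
      have : Nat.card Ug * 2 * (S : Subgroup G).index = Nat.card Ug * 2 * Ug.relIndex K := by
        rw [mul_comm (Nat.card Ug) 2, c3]; ring
      exact (Nat.eq_of_mul_eq_mul_left (by positivity) this).symm
    rw [c5] at h1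
    exact S.not_dvd_index h1
  · obtain ⟨k₁, _, hk₁⟩ := h3U.exists_conj g hgne hg3 t₁ e ht₁U heU ot₁ oe
    have hset : {C : ConjClasses G | ∃ t : G, orderOf t = 2 ∧ ConjClasses.mk t = C} =
        {ConjClasses.mk t₁, ConjClasses.mk (z : G)} := by
      ext C
      simp only [Set.mem_ofPred_eq, Set.mem_insert_iff, Set.mem_singleton_iff]
      constructor
      · rintro ⟨t, ht, rfl⟩
        obtain ⟨k, hk | hk | hk⟩ := h.inv_conj_cases_G t ht
        · left; rw [ConjClasses.mk_eq_mk_iff_isConj, isConj_iff]; exact ⟨k, by rw [hk, ht₁]⟩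
        · left
          rw [ConjClasses.mk_eq_mk_iff_isConj, isConj_iff]
          refine ⟨k₁⁻¹ * k, ?_⟩
          rw [← he, ← hk₁] at hk
          calc k₁⁻¹ * k * t * (k₁⁻¹ * k)⁻¹ = k₁⁻¹ * (k * t * k⁻¹) * k₁ := by group
            _ = k₁⁻¹ * (k₁ * t₁ * k₁⁻¹) * k₁ := by rw [hk]
            _ = t₁ := by group
        · right
          rw [ConjClasses.mk_eq_mk_iff_isConj, isConj_iff]; exact ⟨k, hk⟩
      · rintro (rfl | rfl)
        · exact ⟨_, ot₁, rfl⟩
        · exact ⟨_, oz, rfl⟩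
    have h12 : ConjClasses.mk t₁ ≠ ConjClasses.mk (z : G) := by
      rw [Ne, ConjClasses.mk_eq_mk_iff_isConj, isConj_iff]
      rintro ⟨c, hc⟩
      apply hzK
      rw [← hc]
      exact hKn.conj_mem _ (hUK ht₁U) c
    show Nat.card ↥{C : ConjClasses G | ∃ t : G, orderOf t = 2 ∧ ConjClasses.mk t = C} = 2
    rw [hset, Nat.card_coe_set_eq, Set.ncard_eq_two]
    exact ⟨_, _, h12, rfl⟩

end Cfsg.Agent.S1211
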