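import Cfsg.Statements.S1212
import Cfsg.Agent.Lib.Helper90.WreathedEss
import Cfsg.Agent.S0071
import Cfsg.Agent.Lib.Helper2.PComplement

set_option autoImplicit false
open Cfsg

namespace Cfsg.Agent.S1212

open Cfsg.Agent.Lib.Helper90 Cfsg.Agent.Lib.Helper33 Cfsg.Agent.Lib.Helper2

/-- Let G be a finite group whose Sylow 2-subgroup S is wreathed of order 2^(2n+1), U the commutative subgroup of index 2 in S, Q a quaternion subgroup of order 8 of S and V = Q Z(S). If |N_G(U) : C_G(U)| = 2 and |N_G(V) : V C_G(V)| = 2, then G has a normal 2-complement and exactly three conjugacy classes of involutions. -/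
theorem result {G : Type*} [Group G] [Finite G] (S : Sylow 2 G) (hS : Cfsg.IsWreathed (S : Subgroup G)) (n : ℕ) (hn : Nat.card S = 2 ^ (2 * n + 1)) (U : Subgroup G) (hUS : U ≤ S) (hUab : IsMulCommutative U) (hUcard : Nat.card U = 2 ^ (2 * n)) (Q : Subgroup G) (hQS : Q ≤ S) (eQ : Q ≃* QuaternionGroup 2) (h₁ : (Subgroup.centralizer (U : Set G)).relIndex (Subgroup.normalizer (U : Set G)) = 2) (h₂ : ((Q ⊔ ((Subgroup.center (S : Subgroup G)).map (S : Subgroup G).subtype)) ⊔ Subgroup.centralizer ((Q ⊔ ((Subgroup.center (S : Subgroup G)).map (S : Subgroup G).subtype) : Subgroup G) : Set G)).relIndex (Subgroup.normalizer ((Q ⊔ ((Subgroup.center (S : Subgroup G)).map (S : Subgroup G).subtype) : Subgroup G) : Set G)) = 2) : Cfsg.HasNormalPComplement 2 G ∧ Nat.card {C : ConjClasses G // ∃ t : G, orderOf t = 2 ∧ ConjClasses.mk t = C} = 3 := by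
  obtain ⟨m, x, y, z, h⟩ := exists_wrData hS
  have hmn : m = n := by
    have h1 := h.card
    rw [hn] at h1
    have := Nat.pow_right_injective (le_refl 2) h1
    omega
  subst hmn
  obtain ⟨c₀, hc⟩ := h.exists_eq_map_W Q hQS eQ
  rw [hc] at h₂
  have hU := h.eq_map_B U hUS hUab hUcard
  subst hU
  have hBn : h.B.Normal := h.B_normal
  have ctrl := h.S_control ⟨1, by rw [h₁, pow_one]⟩ (h.relIndex_map_W_pow_two c₀ h₂)
  constructor
  · rw [hasNormalPComplement_iff S, Cfsg.Agent.S0071.result S]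
    intro Q' hQ'S g hg hgo
    have hrc : rc g (Q' : Set G) ⊆ (S : Subgroup G) := by
      rw [rc_coe, cj_eq_self_iff.mpr (inv_mem hg)]; exact hQ'S
    obtain ⟨s, hs, hsa⟩ := ctrl (Q' : Set G) g hQ'S hrc
    have hpow : ∀ i : ℕ, ∀ a ∈ Q', (s ^ i)⁻¹ * a * s ^ i = (g ^ i)⁻¹ * a * g ^ i := by
      intro i
      induction i with
      | zero => intro a _; simp
      | succ i ih =>
        intro a ha
        have h1 := ih a ha
        have hmem : (g ^ i)⁻¹ * a * g ^ i ∈ Q' := by
          have := (Subgroup.mem_normalizer_iff.mp (inv_mem (pow_mem hg i)) a).mp ha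
          simpa using this
        have h2 := hsa _ hmem
        calc (s ^ (i + 1))⁻¹ * a * s ^ (i + 1) = s⁻¹ * ((s ^ i)⁻¹ * a * s ^ i) * s := by
              rw [pow_succ]; group
          _ = s⁻¹ * ((g ^ i)⁻¹ * a * g ^ i) * s := by rw [h1]
          _ = g⁻¹ * ((g ^ i)⁻¹ * a * g ^ i) * g := h2
          _ = (g ^ (i + 1))⁻¹ * a * g ^ (i + 1) := by rw [pow_succ]; group
    obtain ⟨j, hj⟩ := (IsPGroup.iff_orderOf.mp S.2) ⟨s, hs⟩
    have hs1 : s ^ (2 ^ j) = 1 := by
      rw [Subgroup.orderOf_mk] at hj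
      rw [← hj]; exact pow_orderOf_eq_one s
    have hgC : g ^ (2 ^ j) ∈ Subgroup.centralizer (Q' : Set G) := by
      rw [Subgroup.mem_centralizer_iff]
      intro a ha
      have := hpow (2 ^ j) a ha
      rw [hs1] at this
      simp only [inv_one, one_mul, mul_one] at this
      obtain ⟨γ, hγ⟩ : ∃ γ : G, γ = g ^ (2 ^ j) := ⟨_, rfl⟩
      rw [← hγ] at this ⊢
      have h5 : γ * a = a * γ := by
        conv_lhs => rw [this]
        group
      exact h5.symm
    obtain ⟨m', hm'⟩ := exists_pow_eq_self_of_coprime (x := g) (n := 2 ^ j)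
      (Nat.Coprime.pow_left j hgo.symm)
    rw [← hm']
    exact pow_mem hgC m'
  · obtain ⟨t₁', ht₁'⟩ : ∃ t₁' : ↥(S : Subgroup G), t₁' = h.b ((2 : ℤ) ^ (m - 1)) 0 := ⟨_, rfl⟩
    obtain ⟨e', he'⟩ : ∃ e' : ↥(S : Subgroup G),
      e' = h.b ((2 : ℤ) ^ (m - 1)) ((2 : ℤ) ^ (m - 1)) := ⟨_, rfl⟩
    have ot₁ : orderOf (t₁' : G) = 2 := by
      rw [ht₁', Subgroup.orderOf_coe, orderOf_two_iff']
      exact ⟨h.b_half_zero_ne_one, h.half_sq _ _ (dvd_refl _) (dvd_zero _)⟩
    have oe : orderOf (e' : G) = 2 := by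
      rw [he', Subgroup.orderOf_coe]; exact h.orderOf_e
    have oz : orderOf (z : G) = 2 := by
      rw [Subgroup.orderOf_coe]; exact h.oz
    have hset : {C : ConjClasses G | ∃ t : G, orderOf t = 2 ∧ ConjClasses.mk t = C} =
        {ConjClasses.mk (t₁' : G), ConjClasses.mk (e' : G), ConjClasses.mk (z : G)} := by
      ext C
      simp only [Set.mem_ofPred_eq, Set.mem_insert_iff, Set.mem_singleton_iff]
      constructor
      · rintro ⟨t, ht, rfl⟩
        obtain ⟨k, hk | hk | hk⟩ := h.inv_conj_cases_G t ht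
        · left; rw [ConjClasses.mk_eq_mk_iff_isConj, isConj_iff]; exact ⟨k, by rw [hk, ht₁']⟩
        · right; left
          rw [ConjClasses.mk_eq_mk_iff_isConj, isConj_iff]; exact ⟨k, by rw [hk, he']⟩
        · right; right
          rw [ConjClasses.mk_eq_mk_iff_isConj, isConj_iff]; exact ⟨k, hk⟩
      · rintro (rfl | rfl | rfl)
        · exact ⟨_, ot₁, rfl⟩
        · exact ⟨_, oe, rfl⟩
        · exact ⟨_, oz, rfl⟩
    have notconj : ∀ a b : ↥(S : Subgroup G), (∀ s : ↥(S : Subgroup G), s⁻¹ * a * s ≠ b) →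
        ConjClasses.mk (a : G) ≠ ConjClasses.mk (b : G) := by
      intro a b hab
      rw [Ne, ConjClasses.mk_eq_mk_iff_isConj, isConj_iff]
      rintro ⟨c, hc⟩
      have hA : ({(a : G)} : Set G) ⊆ (S : Subgroup G) := by
        rintro _ rfl; exact a.2
      have hAg : rc c⁻¹ ({(a : G)} : Set G) ⊆ (S : Subgroup G) := by
        rintro _ ⟨_, rfl, rfl⟩
        show c⁻¹⁻¹ * (a : G) * c⁻¹ ∈ (S : Subgroup G)
        rw [inv_inv, hc]; exact b.2
      obtain ⟨s, hs, hsa⟩ := ctrl _ c⁻¹ hA hAg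
      have h1 := hsa (a : G) rfl
      rw [inv_inv, hc] at h1
      exact hab ⟨s, hs⟩ (Subtype.ext h1)
    have hecen : e' ∈ Subgroup.center ↥(S : Subgroup G) := by rw [he']; exact h.e_mem_center
    have h12 : ConjClasses.mk (t₁' : G) ≠ ConjClasses.mk (e' : G) := by
      apply notconj
      intro s hs
      have h1 := Subgroup.mem_center_iff.mp hecen s
      apply h.b_half_zero_ne_half_half
      rw [← ht₁', ← he']
      calc t₁' = s * (s⁻¹ * t₁' * s) * s⁻¹ := by group
        _ = s * e' * s⁻¹ := by rw [hs]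
        _ = e' := by rw [h1]; group
    have h13 : ConjClasses.mk (t₁' : G) ≠ ConjClasses.mk (z : G) := by
      apply notconj
      intro s hs
      apply h.z_not_mem_B
      have h5 : s⁻¹ * t₁' * s ∈ h.B := by
        rw [ht₁']
        have := hBn.conj_mem _ (h.b_mem_B ((2 : ℤ) ^ (m - 1)) 0) s⁻¹
        simpa using this
      rw [hs] at h5
      exact h5
    have h23 : ConjClasses.mk (e' : G) ≠ ConjClasses.mk (z : G) := by
      apply notconj
      intro s hs
      apply h.z_not_mem_B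
      have h5 : s⁻¹ * e' * s ∈ h.B := by
        rw [he']
        have := hBn.conj_mem _ (h.b_mem_B ((2 : ℤ) ^ (m - 1)) ((2 : ℤ) ^ (m - 1))) s⁻¹
        simpa using this
      rw [hs] at h5
      exact h5
    show Nat.card ↥{C : ConjClasses G | ∃ t : G, orderOf t = 2 ∧ ConjClasses.mk t = C} = 3
    rw [hset, Nat.card_coe_set_eq, Set.ncard_eq_three]
    exact ⟨_, _, _, h12, h13, h23, rfl⟩

end Cfsg.Agent.S1212
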