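import Cfsg.Statements.S2061
import Cfsg.Agent.Lib.Helper92.M12AutData

set_option autoImplicit false
set_option maxRecDepth 1000000
open scoped Pointwise
open Cfsg

namespace Cfsg.Agent.S2061

open Cfsg.Agent.Lib.Helper93.Golay
open Cfsg.Agent.S5522 (Dm K mem_K okU covU U1 U2 U3 U4 fOf ptIdx_inj sqD_eq step permC_mem_K)
open Cfsg.Agent.S1602 (enum mem_of_ok K_M24 K_smul K1_fix mem_K1 T0 T0_ok T0_cov W W_ok inv_self
  self_inv)
open Cfsg.Agent.S1603 (permC_ext permC_mul_eq)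
open Cfsg.Agent.S2060 (IdxFun compOK slpRun slp_sound)
open Cfsg.Agent.Lib.Helper92.M12Aut

/-! ### enumeration of the dodecad stabiliser -/

theorem enum0 {g : Equiv.Perm GolayPt} (hg : g ∈ K 0) :
    ∃ S0 ∈ T0, ∃ S1 ∈ U1, ∃ S2 ∈ U2, ∃ S3 ∈ U3, ∃ S4 ∈ U4,
      IdxFun g (fun t => papp S0 (fOf S1 S2 S3 S4 t)) := by
  obtain ⟨S0, hS0, hA0, h0⟩ := step 0 (by norm_num) T0 0 T0_ok T0_cov (by decide) (by decide) hg
  have h0' : (permC S0)⁻¹ * g ∈ K 1 := h0
  obtain ⟨S1, hS1, S2, hS2, S3, hS3, S4, hS4, hf⟩ := enum h0'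
  refine ⟨S0, hS0, S1, hS1, S2, hS2, S3, hS3, S4, hS4, fun p => ?_⟩
  have e : g p = permC S0 (((permC S0)⁻¹ * g) p) := by
    rw [Equiv.Perm.mul_apply, self_inv]
  rw [e, ptIdx_permC (isPerm_of_isAutC hA0), hf]

/-! ### the two dodecads -/

theorem Dc_eq : fset Dc = (fset Dm)ᶜ := by decide +kernel

theorem D_ne : fset Dm ≠ (fset Dm)ᶜ := by decide +kernel

theorem smul_compl' (g : Equiv.Perm GolayPt) (s : Finset GolayPt) : g • sᶜ = (g • s)ᶜ := by
  ext x
  rw [← Finset.inv_smul_mem_iff, Finset.mem_compl, Finset.mem_compl, Finset.inv_smul_mem_iff]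

/-- the stabiliser of the pair of complementary dodecads -/
def N12 : Subgroup (Equiv.Perm GolayPt) :=
  M24 ⊓ MulAction.stabilizer (Equiv.Perm GolayPt)
    ({fset Dm, (fset Dm)ᶜ} : Finset (Finset GolayPt))

theorem N12_cases {n : Equiv.Perm GolayPt} (hn : n ∈ N12) :
    n • fset Dm = fset Dm ∨ n • fset Dm = (fset Dm)ᶜ := by
  unfold N12 at hn
  rw [Subgroup.mem_inf] at hn
  have hn2 := MulAction.mem_stabilizer_iff.1 hn.2
  have h : n • fset Dm ∈ n • ({fset Dm, (fset Dm)ᶜ} : Finset (Finset GolayPt)) :=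
    Finset.smul_mem_smul_finset (by simp)
  rw [hn2, Finset.mem_insert, Finset.mem_singleton] at h
  exact h

theorem mem_N12_of {n : Equiv.Perm GolayPt} (hM : n ∈ M24)
    (h : n • fset Dm = fset Dm ∨ n • fset Dm = (fset Dm)ᶜ) : n ∈ N12 := by
  unfold N12
  rw [Subgroup.mem_inf]
  refine ⟨hM, ?_⟩
  rw [MulAction.mem_stabilizer_iff, Finset.smul_finset_insert, Finset.smul_finset_singleton, smul_compl']
  rcases h with h | h
  · rw [h]
  · rw [h, compl_compl]
    exact Finset.pair_comm _ _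

theorem N12_M24 {n : Equiv.Perm GolayPt} (hn : n ∈ N12) : n ∈ M24 := by
  unfold N12 at hn
  exact (Subgroup.mem_inf.1 hn).1

theorem mem_K0 (g : Equiv.Perm GolayPt) : g ∈ K 0 ↔ g ∈ M24 ∧ g • fset Dm = fset Dm := by
  rw [mem_K, mem_Hfix]
  constructor
  · rintro ⟨⟨h1, _⟩, h2⟩
    exact ⟨h1, h2⟩
  · rintro ⟨h1, h2⟩
    refine ⟨⟨h1, fun p hp => ?_⟩, h2⟩
    rw [mem_fset] at hp
    simp at hp

theorem K0_le_N12 : K 0 ≤ N12 := by
  intro g hg
  rw [mem_K0] at hg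
  exact mem_N12_of hg.1 (Or.inl hg.2)

theorem N12_conj {n : Equiv.Perm GolayPt} (hn : n ∈ N12) {g : Equiv.Perm GolayPt} (hg : g ∈ K 0) :
    n * g * n⁻¹ ∈ K 0 := by
  rw [mem_K0] at hg ⊢
  have hnM := N12_M24 hn
  refine ⟨M24.mul_mem (M24.mul_mem hnM hg.1) (M24.inv_mem hnM), ?_⟩
  rcases N12_cases hn with h | h
  · have h1 : n⁻¹ • fset Dm = fset Dm := by rw [inv_smul_eq_iff, h]
    rw [mul_smul, mul_smul, h1, hg.2, h]
  · have h1 : n⁻¹ • fset Dm = (fset Dm)ᶜ := by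
      rw [inv_smul_eq_iff, smul_compl', h, compl_compl]
    rw [mul_smul, mul_smul, h1, smul_compl', hg.2, smul_compl', h, compl_compl]

/-- the automorphism induced by an element of the pair stabiliser -/
def cAut : ↥N12 →* MulAut ↥(K 0) where
  toFun n :=
    { toFun := fun g => ⟨n.1 * g.1 * n.1⁻¹, N12_conj n.2 g.2⟩
      invFun := fun g => ⟨n.1⁻¹ * g.1 * n.1, by
        have := N12_conj (N12.inv_mem n.2) g.2
        rwa [inv_inv] at this⟩
      left_inv := by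
        intro g
        apply Subtype.ext
        show n.1⁻¹ * (n.1 * g.1 * n.1⁻¹) * n.1 = g.1
        group
      right_inv := by
        intro g
        apply Subtype.ext
        show n.1 * (n.1⁻¹ * g.1 * n.1) * n.1⁻¹ = g.1
        group
      map_mul' := by
        intro g h
        apply Subtype.ext
        show n.1 * (g.1 * h.1) * n.1⁻¹ = (n.1 * g.1 * n.1⁻¹) * (n.1 * h.1 * n.1⁻¹)
        group }
  map_one' := by
    apply MulEquiv.ext
    intro g
    apply Subtype.ext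
    show (1 : Equiv.Perm GolayPt) * g.1 * 1⁻¹ = g.1
    group
  map_mul' := by
    intro n m
    apply MulEquiv.ext
    intro g
    apply Subtype.ext
    show (n.1 * m.1) * g.1 * (n.1 * m.1)⁻¹ = n.1 * (m.1 * g.1 * m.1⁻¹) * n.1⁻¹
    group

theorem cAut_apply (n : ↥N12) (g : ↥(K 0)) : ((cAut n g : ↥(K 0)) : Equiv.Perm GolayPt) =
    n.1 * g.1 * n.1⁻¹ := rfl

theorem cAut_inner (g : ↥(K 0)) : cAut ⟨g.1, K0_le_N12 g.2⟩ = MulAut.conj g := by
  apply MulEquiv.ext
  intro h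
  apply Subtype.ext
  rfl

theorem M12_eq : Cfsg.Spor.M12 = K 0 := by
  ext g
  unfold Cfsg.Spor.M12
  rw [Subgroup.mem_inf, sqD_eq, mem_K0]
  exact Iff.rfl

/-! ### conjugacy of elements of prime order via Sylow -/

theorem sylow_conj {G : Type*} [Group G] [Finite G] (p : ℕ) [Fact p.Prime]
    (hp2 : ¬ p ^ 2 ∣ Nat.card G) (a b : G) (ha : orderOf a = p) (hb : orderOf b = p) :
    ∃ g : G, ∃ k : ℕ, g⁻¹ * b * g = a ^ k := by
  have hp : p.Prime := Fact.out
  have key : ∀ x : G, orderOf x = p → ∃ Q : Sylow p G, (Q : Subgroup G) = Subgroup.zpowers x := by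
    intro x hx
    have hc : Nat.card (Subgroup.zpowers x) = p := by rw [Nat.card_zpowers, hx]
    have hP : IsPGroup p (Subgroup.zpowers x) := IsPGroup.of_card (n := 1) (by rw [hc, pow_one])
    obtain ⟨Q, hQ⟩ := hP.exists_le_sylow
    refine ⟨Q, ?_⟩
    obtain ⟨m, hm⟩ := IsPGroup.iff_card.1 Q.2
    have h1 : p ^ m ∣ Nat.card G := by rw [← hm]; exact Subgroup.card_subgroup_dvd_card _
    have h2 : p ∣ p ^ m := by
      have := Subgroup.card_dvd_of_le hQ
      rw [hc, hm] at this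
      exact this
    have hm1 : m = 1 := by
      rcases Nat.lt_or_ge m 2 with h | h
      · interval_cases m
        · rw [pow_zero, Nat.dvd_one] at h2
          exact absurd h2 hp.ne_one
        · rfl
      · exact absurd (dvd_trans (pow_dvd_pow p h) h1) hp2
    symm
    apply Subgroup.eq_of_le_of_card_ge hQ
    rw [hm, hm1, pow_one, hc]
  obtain ⟨Q1, hQ1⟩ := key a ha
  obtain ⟨Q2, hQ2⟩ := key b hb
  obtain ⟨g, hg⟩ := MulAction.exists_smul_eq G Q1 Q2
  have hb2 : b ∈ ((g • Q1 : Sylow p G) : Subgroup G) := by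
    rw [hg, hQ2]; exact Subgroup.mem_zpowers b
  rw [Sylow.coe_subgroup_smul, Subgroup.mem_pointwise_smul_iff_inv_smul_mem, hQ1] at hb2
  obtain ⟨k, hk⟩ := Subgroup.mem_zpowers_iff.1 hb2
  refine ⟨g, (k % (orderOf a : ℤ)).toNat, ?_⟩
  have h3 : (MulAut.conj g)⁻¹ • b = g⁻¹ * b * g := by
    rw [← map_inv, MulAut.smul_def, MulAut.conj_apply, inv_inv]
  rw [← h3, ← hk, ← zpow_natCast, Int.toNat_of_nonneg, zpow_mod_orderOf]
  apply Int.emod_nonneg
  rw [ha]
  exact_mod_cast hp.ne_zero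

/-! ### the generators -/

theorem ac_mem : isAutC ac = true ∧ permC ac ∈ K 0 := mem_of_ok gens_ok (by simp)
theorem bc_mem : isAutC bc = true ∧ permC bc ∈ K 0 := mem_of_ok gens_ok (by simp)
theorem ac_perm : isPerm ac = true := isPerm_of_isAutC ac_mem.1
theorem bc_perm : isPerm bc = true := isPerm_of_isAutC bc_mem.1

def aG : ↥(K 0) := ⟨permC ac, ac_mem.2⟩
def bG : ↥(K 0) := ⟨permC bc, bc_mem.2⟩

theorem ha_idx : IdxFun (permC ac) (papp ac) := IdxFun.permC ac_perm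

section Generic
variable {G H : Type*} [Group G] [Group H]

def BC (a b : G) : Prop :=
  b * b = 1 ∧ (b * a) ^ 3 = 1 ∧ (a ^ 3 * b) ^ 6 = 1 ∧ (a ^ 4 * b) ^ 6 = 1

theorem BC_map_iff (φ : G →* H) (hinj : Function.Injective φ) (a b : G) :
    BC (φ a) (φ b) ↔ BC a b := by
  unfold BC
  rw [← map_pow φ a 3, ← map_pow φ a 4, ← map_mul, ← map_mul, ← map_mul, ← map_mul, ← map_pow,
    ← map_pow, ← map_pow, ← map_one φ, hinj.eq_iff, hinj.eq_iff, hinj.eq_iff, hinj.eq_iff]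

end Generic

theorem BC_iff {b : Equiv.Perm GolayPt} {f : ℕ → ℕ} (h : IdxFun b f) :
    BC (permC ac) b ↔ bCond f = true := by
  have ha := ha_idx
  unfold BC bCond
  rw [Bool.and_eq_true, Bool.and_eq_true, Bool.and_eq_true]
  rw [(h.mul h).eq_one_iff, ((h.mul ha).pow 3).eq_one_iff, (((ha.pow 3).mul h).pow 6).eq_one_iff,
    (((ha.pow 4).mul h).pow 6).eq_one_iff]
  tauto

theorem subtype_inj : Function.Injective (K 0).subtype := Subtype.val_injective

theorem BC_gens : BC aG bG := by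
  rw [← BC_map_iff (K 0).subtype subtype_inj]
  show BC (permC ac) (permC bc)
  rw [BC_iff (IdxFun.permC bc_perm)]
  exact bc_cond

theorem aP_pow : permC ac ^ 11 = 1 := by
  rw [(ha_idx.pow 11).eq_one_iff]
  decide +kernel

theorem aP_ne : permC ac ≠ 1 := by
  rw [ha_idx.ne_one_iff]
  decide +kernel

instance fact11 : Fact (Nat.Prime 11) := ⟨by norm_num⟩

theorem aG_order : orderOf aG = 11 := by
  apply orderOf_eq_prime
  · apply Subtype.ext
    exact aP_pow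
  · intro h
    exact aP_ne (congrArg Subtype.val h)

/-- an automorphism fixing both generators is trivial -/
theorem fix_all (ψ : MulAut ↥(K 0)) (ha : ψ aG = aG) (hb : ψ bG = bG) (g : ↥(K 0)) : ψ g = g := by
  let Pr : ℕ → Prop := fun S => isPerm S = true ∧
    ∃ h : permC S ∈ K 0, ψ ⟨permC S, h⟩ = ⟨permC S, h⟩
  have hmul : ∀ R S T, Pr S → Pr T → isPerm R = true → compOK R S T = true → Pr R := by
    intro R S T hS hT hR hc
    obtain ⟨hSP, hSK, hSψ⟩ := hS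
    obtain ⟨hTP, hTK, hTψ⟩ := hT
    have hprod : permC R = permC S * permC T := by
      apply permC_mul_eq hR hSP hTP
      intro k hk
      exact Nat.eq_of_beq_eq_true (List.all_eq_true.1 hc k (List.mem_range.2 hk))
    have hRK : permC R ∈ K 0 := by rw [hprod]; exact (K 0).mul_mem hSK hTK
    refine ⟨hR, hRK, ?_⟩
    have e : (⟨permC R, hRK⟩ : ↥(K 0)) = ⟨permC S, hSK⟩ * ⟨permC T, hTK⟩ := Subtype.ext hprod
    rw [e, map_mul, hSψ, hTψ]
  have hbase : ∀ S ∈ [ac, bc], Pr S := by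
    intro S hS
    rw [List.mem_cons, List.mem_singleton] at hS
    rcases hS with rfl | rfl
    · exact ⟨ac_perm, ac_mem.2, ha⟩
    · exact ⟨bc_perm, bc_mem.2, hb⟩
  have hall := slp_sound Pr hmul prog [ac, bc] hbase
  have hU : ∀ S ∈ T0 ++ U1 ++ U2 ++ U3 ++ U4, Pr S := by
    intro S hS
    have := List.all_eq_true.1 slp_cover S hS
    rw [List.any_eq_true] at this
    obtain ⟨T, hT, hTS⟩ := this
    rw [← Nat.eq_of_beq_eq_true hTS]
    exact hall T hT
  obtain ⟨S0, hS0, S1, hS1, S2, hS2, S3, hS3, S4, hS4, hf⟩ := enum0 g.2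
  obtain ⟨hP0, hK0, hψ0⟩ := hU S0 (by simp [hS0])
  obtain ⟨hP1, hK1, hψ1⟩ := hU S1 (by simp [hS1])
  obtain ⟨hP2, hK2, hψ2⟩ := hU S2 (by simp [hS2])
  obtain ⟨hP3, hK3, hψ3⟩ := hU S3 (by simp [hS3])
  obtain ⟨hP4, hK4, hψ4⟩ := hU S4 (by simp [hS4])
  have hg : g = (⟨permC S0, hK0⟩ : ↥(K 0)) * ⟨permC S1, hK1⟩ * ⟨permC S2, hK2⟩ *
      ⟨permC S3, hK3⟩ * ⟨permC S4, hK4⟩ := by
    apply Subtype.ext
    show g.1 = permC S0 * permC S1 * permC S2 * permC S3 * permC S4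
    apply Equiv.ext
    intro p
    apply ptIdx_inj
    rw [hf]
    simp only [Equiv.Perm.mul_apply, fOf]
    rw [ptIdx_permC hP0, ptIdx_permC hP1, ptIdx_permC hP2, ptIdx_permC hP3, ptIdx_permC hP4]
  rw [hg, map_mul, map_mul, map_mul, map_mul, hψ0, hψ1, hψ2, hψ3, hψ4]

/-! ### elements normalising the cyclic group of order 11 -/

theorem smul_of_pmask {S : ℕ} (hP : isPerm S = true) {m m' : ℕ} (hm : m < 2 ^ 24)
    (h : pmask S m = m') : permC S • fset m = fset m' := by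
  have h1 := fmask_permC_smul hP (fset m)
  rw [fmask_fset m hm, h] at h1
  rw [← fset_fmask (permC S • fset m), h1]

theorem exists_nk (r : ℕ) (h1 : 1 ≤ r) (h10 : r ≤ 10) :
    ∃ n : ↥N12, n.1 * permC ac ^ r = permC ac * n.1 := by
  obtain ⟨j, rfl⟩ : ∃ j, r = j + 1 := ⟨r - 1, by omega⟩
  have hj : j < 10 := by omega
  have h := List.all_eq_true.1 nk_good j (List.mem_range.2 hj)
  simp only [Bool.and_eq_true, Bool.or_eq_true] at h
  obtain ⟨⟨hA, hD⟩, hc⟩ := h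
  have hP := isPerm_of_isAutC hA
  have hN : permC (nkL.getD j 0) ∈ N12 := by
    apply mem_N12_of (permC_mem_M24 hA)
    rcases hD with hD | hD
    · left
      exact smul_of_pmask hP (by norm_num [Dm]) (Nat.eq_of_beq_eq_true hD)
    · right
      rw [← Dc_eq]
      exact smul_of_pmask hP (by norm_num [Dm]) (Nat.eq_of_beq_eq_true hD)
  refine ⟨⟨permC (nkL.getD j 0), hN⟩, ?_⟩
  show permC (nkL.getD j 0) * permC ac ^ (j + 1) = permC ac * permC (nkL.getD j 0)
  have hn := IdxFun.permC hP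
  apply Equiv.ext
  intro p
  apply ptIdx_inj
  rw [(hn.mul (ha_idx.pow (j + 1))) p, (ha_idx.mul hn) p]
  exact Nat.eq_of_beq_eq_true
    (List.all_eq_true.1 hc (ptIdx p) (List.mem_range.2 (ptIdx p).isLt))

theorem th_mem : permC thc ∈ N12 ∧ permC thc • fset Dm = (fset Dm)ᶜ := by
  have h := th_good
  rw [Bool.and_eq_true] at h
  have hP := isPerm_of_isAutC h.1
  have hs : permC thc • fset Dm = (fset Dm)ᶜ := by
    rw [← Dc_eq]
    exact smul_of_pmask hP (by norm_num [Dm]) (Nat.eq_of_beq_eq_true h.2)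
  exact ⟨mem_N12_of (permC_mem_M24 h.1) (Or.inr hs), hs⟩

theorem apL_facts {c : ℕ} (hc : c ∈ apL) :
    isPerm c = true ∧ permC c ∈ K 0 ∧ permC c * permC ac = permC ac * permC c := by
  obtain ⟨hA, hK⟩ := mem_of_ok apL_ok hc
  have hP := isPerm_of_isAutC hA
  refine ⟨hP, hK, ?_⟩
  have hn := IdxFun.permC hP
  apply Equiv.ext
  intro p
  apply ptIdx_inj
  rw [(hn.mul ha_idx) p, (ha_idx.mul hn) p]
  exact Nat.eq_of_beq_eq_true
    (List.all_eq_true.1 (List.all_eq_true.1 apL_comm c hc) (ptIdx p)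
      (List.mem_range.2 (ptIdx p).isLt))

/-! ### every automorphism comes from the pair stabiliser -/

theorem K0_le_M24 : K 0 ≤ M24 := fun g hg => ((mem_K0 g).1 hg).1

theorem not_sq_dvd : ¬ 11 ^ 2 ∣ Nat.card ↥(K 0) := by
  intro h
  have h1 : Nat.card ↥(K 0) ∣ Nat.card ↥M24 := Subgroup.card_dvd_of_le K0_le_M24
  rw [card_M24] at h1
  have := dvd_trans h h1
  norm_num at this

/-- inclusion of the group into the pair stabiliser -/
def iota (g : ↥(K 0)) : ↥N12 := ⟨g.1, K0_le_N12 g.2⟩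

theorem aut_from_N12 (φ : MulAut ↥(K 0)) : ∃ n : ↥N12, cAut n = φ := by
  have ho : orderOf (φ aG) = 11 := by rw [MulEquiv.orderOf_eq, aG_order]
  obtain ⟨g, k, hgk⟩ := sylow_conj 11 not_sq_dvd aG (φ aG) aG_order ho
  -- reduce the exponent
  have hk : aG ^ (k % 11) = aG ^ k := by
    have := pow_mod_orderOf aG k
    rwa [aG_order] at this
  rw [← hk] at hgk
  have hr0 : k % 11 ≠ 0 := by
    intro h0
    rw [h0, pow_zero] at hgk
    have h1 : φ aG = 1 := by
      have : φ aG = g * (g⁻¹ * φ aG * g) * g⁻¹ := by group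
      rw [this, hgk]; group
    rw [← map_one φ] at h1
    exact aP_ne (congrArg Subtype.val (φ.injective h1))
  have hr10 : k % 11 ≤ 10 := by omega
  obtain ⟨n, hn⟩ := exists_nk (k % 11) (by omega) hr10
  generalize k % 11 = r at hgk hn
  -- first adjustment
  have h1a : (cAut n * MulAut.conj g⁻¹ * φ) aG = aG := by
    rw [MulAut.mul_apply, MulAut.mul_apply, MulAut.conj_apply, inv_inv, hgk]
    apply Subtype.ext
    rw [cAut_apply]
    show n.1 * (permC ac) ^ r * n.1⁻¹ = permC ac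
    rw [hn]
    group
  generalize hψ : cAut n * MulAut.conj g⁻¹ * φ = ψ at h1a
  -- the second generator
  have hBC : BC (ψ aG) (ψ bG) :=
    (BC_map_iff (ψ : MulAut ↥(K 0)).toMonoidHom (ψ : MulAut ↥(K 0)).injective aG bG).2 BC_gens
  rw [h1a] at hBC
  have hBC' : BC (permC ac) (ψ bG).1 :=
    (BC_map_iff (K 0).subtype subtype_inj aG (ψ bG)).2 hBC
  obtain ⟨S0, hS0, S1, hS1, S2, hS2, S3, hS3, S4, hS4, hf⟩ := enum0 (ψ bG).2
  rw [BC_iff hf] at hBC'
  have hgood := List.all_eq_true.1 (List.all_eq_true.1 (List.all_eq_true.1 (List.all_eq_true.1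
    (List.all_eq_true.1 allB S0 hS0) S1 hS1) S2 hS2) S3 hS3) S4 hS4
  unfold bGood at hgood
  rw [hBC'] at hgood
  simp only [Bool.not_true, Bool.false_or, List.any_eq_true] at hgood
  obtain ⟨c, hc, hcf⟩ := hgood
  obtain ⟨hcP, hcK, hccomm⟩ := apL_facts hc
  have hcb : permC c * (ψ bG).1 = permC bc * permC c := by
    apply Equiv.ext
    intro p
    apply ptIdx_inj
    rw [((IdxFun.permC hcP).mul hf) p, ((IdxFun.permC bc_perm).mul (IdxFun.permC hcP)) p]
    exact Nat.eq_of_beq_eq_true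
      (List.all_eq_true.1 hcf (ptIdx p) (List.mem_range.2 (ptIdx p).isLt))
  let cG : ↥(K 0) := ⟨permC c, hcK⟩
  have h2a : (MulAut.conj cG * ψ) aG = aG := by
    rw [MulAut.mul_apply, h1a, MulAut.conj_apply]
    apply Subtype.ext
    show permC c * permC ac * (permC c)⁻¹ = permC ac
    rw [hccomm]
    group
  have h2b : (MulAut.conj cG * ψ) bG = bG := by
    rw [MulAut.mul_apply, MulAut.conj_apply]
    apply Subtype.ext
    show permC c * (ψ bG).1 * (permC c)⁻¹ = permC bc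
    rw [hcb]
    group
  have hone : MulAut.conj cG * ψ = 1 := by
    apply MulEquiv.ext
    intro x
    exact fix_all _ h2a h2b x
  refine ⟨(iota cG * n * iota g⁻¹)⁻¹, ?_⟩
  rw [map_inv, map_mul, map_mul, inv_eq_iff_eq_inv, eq_inv_iff_mul_eq_one]
  have e1 : cAut (iota cG) = MulAut.conj cG := cAut_inner cG
  have e2 : cAut (iota g⁻¹) = MulAut.conj g⁻¹ := cAut_inner g⁻¹
  rw [e1, e2, mul_assoc, mul_assoc, ← mul_assoc (cAut n), hψ]
  exact hone

/-! ### inner automorphisms -/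

theorem K1_le_K0 : K 1 ≤ K 0 := fun g hg => (mem_K0 g).2 ⟨K_M24 hg, K_smul hg⟩

theorem mem_K0_of_inner (n : ↥N12) (h : cAut n ∈ Cfsg.Inn ↥(K 0)) : n.1 ∈ K 0 := by
  obtain ⟨m, hm⟩ := h
  rcases N12_cases n.2 with hD | hD
  · exact (mem_K0 n.1).2 ⟨N12_M24 n.2, hD⟩
  exfalso
  -- the element `z = m⁻¹ n` centralises the group and swaps the two dodecads
  have hcomm : ∀ g : ↥(K 0), (m.1⁻¹ * n.1) * g.1 = g.1 * (m.1⁻¹ * n.1) := by
    intro g
    have h1 : (MulAut.conj m g : ↥(K 0)) = cAut n g := by rw [hm]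
    have h2 : m.1 * g.1 * m.1⁻¹ = n.1 * g.1 * n.1⁻¹ := congrArg Subtype.val h1
    have h3 : n.1 * g.1 = m.1 * g.1 * m.1⁻¹ * n.1 := by rw [h2]; group
    calc m.1⁻¹ * n.1 * g.1 = m.1⁻¹ * (n.1 * g.1) := by group
      _ = m.1⁻¹ * (m.1 * g.1 * m.1⁻¹ * n.1) := by rw [h3]
      _ = g.1 * (m.1⁻¹ * n.1) := by group
  have hz : (m.1⁻¹ * n.1) • fset Dm = (fset Dm)ᶜ := by
    have hm2 : m.1⁻¹ • fset Dm = fset Dm := by
      rw [inv_smul_eq_iff, ((mem_K0 m.1).1 m.2).2]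
    rw [mul_smul, hD, smul_compl', hm2]
  have hx : (m.1⁻¹ * n.1) (P 0) ∉ fset Dm := by
    have : (m.1⁻¹ * n.1) (P 0) ∈ (m.1⁻¹ * n.1) • fset Dm :=
      Finset.smul_mem_smul_finset ((mem_fset_P Dm 0 (by decide)).2 (by decide))
    rw [hz, Finset.mem_compl] at this
    exact this
  rw [mem_fset, Bool.not_eq_true] at hx
  have hj := Cfsg.Agent.S1602.outL_mem _ (ptIdx ((m.1⁻¹ * n.1) (P 0))).isLt hx
  have hmv := List.all_eq_true.1 move_out _ hj
  rw [List.any_eq_true] at hmv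
  obtain ⟨S, hS, hSj⟩ := hmv
  obtain ⟨hA, hSK⟩ := mem_of_ok W_ok hS
  have hP := isPerm_of_isAutC hA
  have hc := hcomm ⟨permC S, K1_le_K0 hSK⟩
  have hfix : permC S ((m.1⁻¹ * n.1) (P 0)) = (m.1⁻¹ * n.1) (P 0) := by
    have h1 := congrArg (fun σ : Equiv.Perm GolayPt => σ (P 0)) hc
    simp only [Equiv.Perm.mul_apply] at h1
    rw [K1_fix hSK] at h1
    simp only [Equiv.Perm.mul_apply]
    exact h1.symm
  have h2 := ptIdx_permC hP ((m.1⁻¹ * n.1) (P 0))
  rw [hfix] at h2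
  rw [← h2] at hSj
  simp at hSj

theorem inner_of_mem_K0 (n : ↥N12) (h : n.1 ∈ K 0) : cAut n ∈ Cfsg.Inn ↥(K 0) := by
  have e : n = iota ⟨n.1, h⟩ := Subtype.ext rfl
  rw [e]
  exact ⟨⟨n.1, h⟩, (cAut_inner _).symm⟩

theorem out_card (H : Subgroup (Equiv.Perm GolayPt)) (hH : H = K 0) :
    Nat.card (Cfsg.Out ↥H) = 2 := by
  subst hH
  show (Cfsg.Inn ↥(K 0)).index = 2
  rw [Subgroup.index_eq_two_iff]
  let θ : ↥N12 := ⟨permC thc, th_mem.1⟩
  have hθ : θ.1 • fset Dm = (fset Dm)ᶜ := th_mem.2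
  refine ⟨cAut θ, fun b => ?_⟩
  obtain ⟨n, rfl⟩ := aut_from_N12 b
  rw [← map_mul]
  have hnθ : (n * θ).1 • fset Dm = (n.1 • fset Dm)ᶜ := by
    show (n.1 * θ.1) • fset Dm = _
    rw [mul_smul, hθ, smul_compl']
  rcases N12_cases n.2 with hD | hD
  · right
    refine ⟨inner_of_mem_K0 n ((mem_K0 n.1).2 ⟨N12_M24 n.2, hD⟩), fun h => ?_⟩
    have h1 := ((mem_K0 _).1 (mem_K0_of_inner _ h)).2
    rw [hnθ, hD] at h1
    exact D_ne h1.symm
  · left
    refine ⟨inner_of_mem_K0 _ ((mem_K0 _).2 ⟨N12_M24 (n * θ).2, ?_⟩), fun h => ?_⟩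
    · rw [hnθ, hD, compl_compl]
    · have h1 := ((mem_K0 _).1 (mem_K0_of_inner _ h)).2
      rw [hD] at h1
      exact D_ne h1.symm

/-- The outer automorphism group of the Mathieu group M₁₂ (the stabiliser of a dodecad in the automorphism group of the length-24 binary code) has order 2. -/
theorem result : Nat.card (Cfsg.Out ↥Cfsg.Spor.M12) = 2 :=
  out_card _ M12_eq

end Cfsg.Agent.S2061
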