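import Cfsg.Statements.S2062
import Cfsg.Agent.Lib.Helper92.M22AutData
import Cfsg.Agent.S2061

set_option autoImplicit false
set_option maxRecDepth 1000000
open scoped Pointwise
open Cfsg

namespace Cfsg.Agent.S2062

open Cfsg.Agent.Lib.Helper93.Golay
open Cfsg.Agent.S5522 (ptIdx_inj)
open Cfsg.Agent.S1602 (inv_self self_inv)
open Cfsg.Agent.S1603 (permC_ext permC_mul_eq)
open Cfsg.Agent.S2060 (IdxFun compOK slpRun slp_sound)
open Cfsg.Agent.S2061 (sylow_conj fact11)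
open Cfsg.Agent.Lib.Helper92.M22Aut

/-! ### the two-point stabiliser -/

theorem fset3_cases : ∀ p : GolayPt, p ∈ fset 3 → p = P 0 ∨ p = P 1 := by decide

theorem mem_Kf (g : Equiv.Perm GolayPt) :
    g ∈ Hfix 3 ↔ g ∈ M24 ∧ g (P 0) = P 0 ∧ g (P 1) = P 1 := by
  rw [mem_Hfix]
  constructor
  · rintro ⟨h1, h2⟩
    exact ⟨h1, h2 _ ((mem_fset_P 3 0 (by decide)).2 (by decide)),
      h2 _ ((mem_fset_P 3 1 (by decide)).2 (by decide))⟩
  · rintro ⟨h1, h2, h3⟩
    refine ⟨h1, fun p hp => ?_⟩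
    rcases fset3_cases p hp with rfl | rfl
    · exact h2
    · exact h3

theorem mem_of_okL {L : List ℕ} {m : ℕ} (hL : okL L m = true) {S : ℕ} (hS : S ∈ L) :
    isAutC S = true ∧ permC S ∈ Hfix m := by
  have h := List.all_eq_true.1 hL S hS
  rw [Bool.and_eq_true] at h
  exact ⟨h.1, permC_mem_Hfix h.1 h.2⟩

theorem enumF {g : Equiv.Perm GolayPt} (hg : g ∈ Hfix 3) :
    ∃ S2 ∈ V2, ∃ S3 ∈ V3, ∃ S4 ∈ V4, ∃ h ∈ H5list,
      IdxFun g (fun t => papp S2 (papp S3 (papp S4 (papp h t)))) := by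
  obtain ⟨S2, hS2, hA2, h2⟩ := Cfsg.Agent.S5394.stepH 2 (by norm_num) V2 3 V2_ok V2_cov
    (by decide) hg
  have h2' : (permC S2)⁻¹ * g ∈ Hfix 7 := h2
  obtain ⟨S3, hS3, hA3, h3⟩ := Cfsg.Agent.S5394.stepH 3 (by norm_num) V3 7 V3_ok V3_cov
    (by decide) h2'
  have h3' : (permC S3)⁻¹ * ((permC S2)⁻¹ * g) ∈ Hfix 15 := h3
  obtain ⟨S4, hS4, hA4, h4⟩ := Cfsg.Agent.S5394.stepH 4 (by norm_num) V4 15 V4_ok V4_cov
    (by decide) h3'
  have h4' : (permC S4)⁻¹ * ((permC S3)⁻¹ * ((permC S2)⁻¹ * g)) ∈ Hfix 31 := h4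
  obtain ⟨h, hh, hgh⟩ := H5_complete h4'
  have hHok := List.all_eq_true.1 H5_ok h hh
  rw [Bool.and_eq_true] at hHok
  have hP2 := isPerm_of_isAutC hA2
  have hP3 := isPerm_of_isAutC hA3
  have hP4 := isPerm_of_isAutC hA4
  have hPh := isPerm_of_isAutC hHok.1
  have hgeq : g = permC S2 * (permC S3 * (permC S4 * permC h)) := by
    rw [← hgh]; group
  refine ⟨S2, hS2, S3, hS3, S4, hS4, h, hh, ?_⟩
  rw [hgeq]
  exact (IdxFun.permC hP2).mul ((IdxFun.permC hP3).mul ((IdxFun.permC hP4).mul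
    (IdxFun.permC hPh)))

/-! ### the stabiliser of the pair -/

theorem P01_ne : P 0 ≠ P 1 := by decide

def N22 : Subgroup (Equiv.Perm GolayPt) :=
  M24 ⊓ MulAction.stabilizer (Equiv.Perm GolayPt) ({P 0, P 1} : Finset GolayPt)

theorem N22_M24 {n : Equiv.Perm GolayPt} (hn : n ∈ N22) : n ∈ M24 := by
  unfold N22 at hn
  exact (Subgroup.mem_inf.1 hn).1

theorem N22_cases {n : Equiv.Perm GolayPt} (hn : n ∈ N22) :
    (n (P 0) = P 0 ∧ n (P 1) = P 1) ∨ (n (P 0) = P 1 ∧ n (P 1) = P 0) := by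
  unfold N22 at hn
  rw [Subgroup.mem_inf] at hn
  have hn2 := MulAction.mem_stabilizer_iff.1 hn.2
  have h0 : n (P 0) ∈ n • ({P 0, P 1} : Finset GolayPt) :=
    Finset.smul_mem_smul_finset (by simp)
  have h1 : n (P 1) ∈ n • ({P 0, P 1} : Finset GolayPt) :=
    Finset.smul_mem_smul_finset (by simp)
  rw [hn2, Finset.mem_insert, Finset.mem_singleton] at h0 h1
  have hne : n (P 0) ≠ n (P 1) := fun h => P01_ne (n.injective h)
  rcases h0 with h0 | h0 <;> rcases h1 with h1 | h1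
  · exact absurd (h0.trans h1.symm) hne
  · exact Or.inl ⟨h0, h1⟩
  · exact Or.inr ⟨h0, h1⟩
  · exact absurd (h0.trans h1.symm) hne

theorem mem_N22_of {n : Equiv.Perm GolayPt} (hM : n ∈ M24)
    (h : (n (P 0) = P 0 ∧ n (P 1) = P 1) ∨ (n (P 0) = P 1 ∧ n (P 1) = P 0)) : n ∈ N22 := by
  unfold N22
  rw [Subgroup.mem_inf]
  refine ⟨hM, ?_⟩
  rw [MulAction.mem_stabilizer_iff, Finset.smul_finset_insert, Finset.smul_finset_singleton]
  show ({n (P 0), n (P 1)} : Finset GolayPt) = _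
  rcases h with ⟨h0, h1⟩ | ⟨h0, h1⟩
  · rw [h0, h1]
  · rw [h0, h1]
    exact Finset.pair_comm _ _

theorem Kf_le_N22 : Hfix 3 ≤ N22 := by
  intro g hg
  rw [mem_Kf] at hg
  exact mem_N22_of hg.1 (Or.inl hg.2)

theorem N22_conj {n : Equiv.Perm GolayPt} (hn : n ∈ N22) {g : Equiv.Perm GolayPt}
    (hg : g ∈ Hfix 3) : n * g * n⁻¹ ∈ Hfix 3 := by
  rw [mem_Kf] at hg ⊢
  obtain ⟨hgM, hg0, hg1⟩ := hg
  have hnM := N22_M24 hn
  refine ⟨M24.mul_mem (M24.mul_mem hnM hgM) (M24.inv_mem hnM), ?_, ?_⟩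
  · simp only [Equiv.Perm.mul_apply]
    rcases N22_cases hn with ⟨h0, h1⟩ | ⟨h0, h1⟩
    · rw [← h0, inv_self, hg0]
    · rw [← h1, inv_self, hg1]
  · simp only [Equiv.Perm.mul_apply]
    rcases N22_cases hn with ⟨h0, h1⟩ | ⟨h0, h1⟩
    · rw [← h1, inv_self, hg1]
    · rw [← h0, inv_self, hg0]

/-- the automorphism induced by an element of the pair stabiliser -/
def cAut : ↥N22 →* MulAut ↥(Hfix 3) where
  toFun n :=
    { toFun := fun g => ⟨n.1 * g.1 * n.1⁻¹, N22_conj n.2 g.2⟩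
      invFun := fun g => ⟨n.1⁻¹ * g.1 * n.1, by
        have := N22_conj (N22.inv_mem n.2) g.2
        rwa [inv_inv] at this⟩
      left_inv := by
        intro g
        apply Subtype.ext
        show n.1⁻¹ * (n.1 * g.1 * n.1⁻¹) * n.1 = g.1
        group
      right_inv := by
        intro g
        apply Subtype.ext
        show n.1 * (n.1⁻¹ * g.1 * n.1) * n.1⁻¹ = g.1
        group
      map_mul' := by
        intro g h
        apply Subtype.ext
        show n.1 * (g.1 * h.1) * n.1⁻¹ = (n.1 * g.1 * n.1⁻¹) * (n.1 * h.1 * n.1⁻¹)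
        group }
  map_one' := by
    apply MulEquiv.ext
    intro g
    apply Subtype.ext
    show (1 : Equiv.Perm GolayPt) * g.1 * 1⁻¹ = g.1
    group
  map_mul' := by
    intro n m
    apply MulEquiv.ext
    intro g
    apply Subtype.ext
    show (n.1 * m.1) * g.1 * (n.1 * m.1)⁻¹ = n.1 * (m.1 * g.1 * m.1⁻¹) * n.1⁻¹
    group

theorem cAut_apply (n : ↥N22) (g : ↥(Hfix 3)) :
    ((cAut n g : ↥(Hfix 3)) : Equiv.Perm GolayPt) = n.1 * g.1 * n.1⁻¹ := rfl

/-- inclusion of the group into the pair stabiliser -/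
def iota (g : ↥(Hfix 3)) : ↥N22 := ⟨g.1, Kf_le_N22 g.2⟩

theorem cAut_inner (g : ↥(Hfix 3)) : cAut (iota g) = MulAut.conj g := by
  apply MulEquiv.ext
  intro h
  apply Subtype.ext
  rfl

/-! ### the generators -/

theorem ac_mem : isAutC ac = true ∧ permC ac ∈ Hfix 3 := mem_of_okL gens_ok (by simp)
theorem bc_mem : isAutC bc = true ∧ permC bc ∈ Hfix 3 := mem_of_okL gens_ok (by simp)
theorem ac_perm : isPerm ac = true := isPerm_of_isAutC ac_mem.1
theorem bc_perm : isPerm bc = true := isPerm_of_isAutC bc_mem.1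

def aG : ↥(Hfix 3) := ⟨permC ac, ac_mem.2⟩
def bG : ↥(Hfix 3) := ⟨permC bc, bc_mem.2⟩

theorem ha_idx : IdxFun (permC ac) (papp ac) := IdxFun.permC ac_perm

section Generic
variable {G H : Type*} [Group G] [Group H]

def BC (a b : G) : Prop :=
  b * b = 1 ∧ (b * a) ^ 5 = 1 ∧ (a ^ 2 * b) ^ 7 = 1 ∧ (a ^ 3 * b) ^ 7 = 1 ∧ (a ^ 4 * b) ^ 8 = 1 ∧
    (a ^ 3 * (b * (a ^ 2 * (b * (a * b))))) ^ 5 = 1

theorem BC_map_iff (φ : G →* H) (hinj : Function.Injective φ) (a b : G) :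
    BC (φ a) (φ b) ↔ BC a b := by
  unfold BC
  simp only [← map_pow, ← map_mul]
  rw [← map_one φ, hinj.eq_iff, hinj.eq_iff, hinj.eq_iff, hinj.eq_iff, hinj.eq_iff, hinj.eq_iff]

end Generic

theorem BC_iff {b : Equiv.Perm GolayPt} {f : ℕ → ℕ} (h : IdxFun b f) :
    BC (permC ac) b ↔ bCondFull f = true := by
  have ha := ha_idx
  unfold BC bCondFull
  simp only [Bool.and_eq_true]
  have hw : IdxFun (permC ac ^ 3 * (b * (permC ac ^ 2 * (b * (permC ac * b))))) (wordF f) :=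
    (ha.pow 3).mul (h.mul ((ha.pow 2).mul (h.mul (ha.mul h))))
  rw [(h.mul h).eq_one_iff, ((h.mul ha).pow 5).eq_one_iff, (((ha.pow 2).mul h).pow 7).eq_one_iff,
    (((ha.pow 3).mul h).pow 7).eq_one_iff, (((ha.pow 4).mul h).pow 8).eq_one_iff,
    (hw.pow 5).eq_one_iff]
  tauto

theorem subtype_inj : Function.Injective (Hfix 3).subtype := Subtype.val_injective

theorem BC_gens : BC aG bG := by
  rw [← BC_map_iff (Hfix 3).subtype subtype_inj]
  show BC (permC ac) (permC bc)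
  rw [BC_iff (IdxFun.permC bc_perm)]
  exact bc_cond

theorem aP_pow : permC ac ^ 11 = 1 := by
  rw [(ha_idx.pow 11).eq_one_iff]
  decide +kernel

theorem aP_ne : permC ac ≠ 1 := by
  rw [ha_idx.ne_one_iff]
  decide +kernel

theorem aG_order : orderOf aG = 11 := by
  apply orderOf_eq_prime
  · apply Subtype.ext
    exact aP_pow
  · intro h
    exact aP_ne (congrArg Subtype.val h)

/-- an automorphism fixing both generators is trivial -/
theorem fix_all (ψ : MulAut ↥(Hfix 3)) (ha : ψ aG = aG) (hb : ψ bG = bG) (g : ↥(Hfix 3)) :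
    ψ g = g := by
  let Pr : ℕ → Prop := fun S => isPerm S = true ∧
    ∃ h : permC S ∈ Hfix 3, ψ ⟨permC S, h⟩ = ⟨permC S, h⟩
  have hmul : ∀ R S T, Pr S → Pr T → isPerm R = true → compOK R S T = true → Pr R := by
    intro R S T hS hT hR hc
    obtain ⟨hSP, hSK, hSψ⟩ := hS
    obtain ⟨hTP, hTK, hTψ⟩ := hT
    have hprod : permC R = permC S * permC T := by
      apply permC_mul_eq hR hSP hTP
      intro k hk
      exact Nat.eq_of_beq_eq_true (List.all_eq_true.1 hc k (List.mem_range.2 hk))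
    have hRK : permC R ∈ Hfix 3 := by rw [hprod]; exact (Hfix 3).mul_mem hSK hTK
    refine ⟨hR, hRK, ?_⟩
    have e : (⟨permC R, hRK⟩ : ↥(Hfix 3)) = ⟨permC S, hSK⟩ * ⟨permC T, hTK⟩ := Subtype.ext hprod
    rw [e, map_mul, hSψ, hTψ]
  have hbase : ∀ S ∈ [ac, bc], Pr S := by
    intro S hS
    rw [List.mem_cons, List.mem_singleton] at hS
    rcases hS with rfl | rfl
    · exact ⟨ac_perm, ac_mem.2, ha⟩
    · exact ⟨bc_perm, bc_mem.2, hb⟩
  have hall := slp_sound Pr hmul prog [ac, bc] hbase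
  have hU : ∀ S ∈ V2 ++ V3 ++ V4 ++ H5list, Pr S := by
    intro S hS
    have := List.all_eq_true.1 slp_cover S hS
    rw [List.any_eq_true] at this
    obtain ⟨T, hT, hTS⟩ := this
    rw [← Nat.eq_of_beq_eq_true hTS]
    exact hall T hT
  obtain ⟨S2, hS2, S3, hS3, S4, hS4, h, hh, hf⟩ := enumF g.2
  obtain ⟨hP2, hK2, hψ2⟩ := hU S2 (by simp [hS2])
  obtain ⟨hP3, hK3, hψ3⟩ := hU S3 (by simp [hS3])
  obtain ⟨hP4, hK4, hψ4⟩ := hU S4 (by simp [hS4])
  obtain ⟨hPh, hKh, hψh⟩ := hU h (by simp [hh])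
  have hg : g = (⟨permC S2, hK2⟩ : ↥(Hfix 3)) * ⟨permC S3, hK3⟩ * ⟨permC S4, hK4⟩ *
      ⟨permC h, hKh⟩ := by
    apply Subtype.ext
    show g.1 = permC S2 * permC S3 * permC S4 * permC h
    apply Equiv.ext
    intro p
    apply ptIdx_inj
    rw [hf]
    simp only [Equiv.Perm.mul_apply]
    rw [ptIdx_permC hP2, ptIdx_permC hP3, ptIdx_permC hP4, ptIdx_permC hPh]
  rw [hg, map_mul, map_mul, map_mul, hψ2, hψ3, hψ4, hψh]

/-! ### elements normalising the cyclic group of order 11 -/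

theorem P_of_papp {S : ℕ} (hP : isPerm S = true) (i : ℕ) (hi : i < 24) (j : ℕ) (hj : j < 24)
    (h : Nat.beq (papp S i) j = true) : permC S (P i hi) = P j hj :=
  permC_ptOf hP i hi j hj (Nat.eq_of_beq_eq_true h)

theorem exists_nk (r : ℕ) (h1 : 1 ≤ r) (h10 : r ≤ 10) :
    ∃ n : ↥N22, n.1 * permC ac ^ r = permC ac * n.1 := by
  obtain ⟨j, rfl⟩ : ∃ j, r = j + 1 := ⟨r - 1, by omega⟩
  have hj : j < 10 := by omega
  have h := List.all_eq_true.1 nk_good j (List.mem_range.2 hj)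
  simp only [Bool.and_eq_true, Bool.or_eq_true] at h
  obtain ⟨⟨hA, hD⟩, hc⟩ := h
  have hP := isPerm_of_isAutC hA
  have hN : permC (nkL.getD j 0) ∈ N22 := by
    apply mem_N22_of (permC_mem_M24 hA)
    rcases hD with ⟨h0, h1'⟩ | ⟨h0, h1'⟩
    · left
      exact ⟨P_of_papp hP 0 (by decide) 0 (by decide) h0, P_of_papp hP 1 (by decide) 1 (by decide) h1'⟩
    · right
      exact ⟨P_of_papp hP 0 (by decide) 1 (by decide) h0, P_of_papp hP 1 (by decide) 0 (by decide) h1'⟩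
  refine ⟨⟨permC (nkL.getD j 0), hN⟩, ?_⟩
  show permC (nkL.getD j 0) * permC ac ^ (j + 1) = permC ac * permC (nkL.getD j 0)
  have hn := IdxFun.permC hP
  apply Equiv.ext
  intro p
  apply ptIdx_inj
  rw [(hn.mul (ha_idx.pow (j + 1))) p, (ha_idx.mul hn) p]
  exact Nat.eq_of_beq_eq_true
    (List.all_eq_true.1 hc (ptIdx p) (List.mem_range.2 (ptIdx p).isLt))

theorem th_mem : permC thc ∈ N22 ∧ permC thc (P 0) = P 1 ∧ permC thc (P 1) = P 0 := by
  have h := th_good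
  simp only [Bool.and_eq_true] at h
  obtain ⟨⟨hA, h0⟩, h1⟩ := h
  have hP := isPerm_of_isAutC hA
  have e0 := P_of_papp hP 0 (by decide) 1 (by decide) h0
  have e1 := P_of_papp hP 1 (by decide) 0 (by decide) h1
  exact ⟨mem_N22_of (permC_mem_M24 hA) (Or.inr ⟨e0, e1⟩), e0, e1⟩

theorem apL_facts {c : ℕ} (hc : c ∈ apL) :
    isPerm c = true ∧ permC c ∈ Hfix 3 ∧ permC c * permC ac = permC ac * permC c := by
  obtain ⟨hA, hK⟩ := mem_of_okL apL_ok hc
  have hP := isPerm_of_isAutC hA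
  refine ⟨hP, hK, ?_⟩
  have hn := IdxFun.permC hP
  apply Equiv.ext
  intro p
  apply ptIdx_inj
  rw [(hn.mul ha_idx) p, (ha_idx.mul hn) p]
  exact Nat.eq_of_beq_eq_true
    (List.all_eq_true.1 (List.all_eq_true.1 apL_comm c hc) (ptIdx p)
      (List.mem_range.2 (ptIdx p).isLt))

/-! ### every automorphism comes from the pair stabiliser -/

theorem Kf_le_M24 : Hfix 3 ≤ M24 := fun g hg => ((mem_Kf g).1 hg).1

theorem not_sq_dvd : ¬ 11 ^ 2 ∣ Nat.card ↥(Hfix 3) := by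
  intro h
  have h1 : Nat.card ↥(Hfix 3) ∣ Nat.card ↥M24 := Subgroup.card_dvd_of_le Kf_le_M24
  rw [card_M24] at h1
  have := dvd_trans h h1
  norm_num at this

theorem aut_from_N22 (φ : MulAut ↥(Hfix 3)) : ∃ n : ↥N22, cAut n = φ := by
  have ho : orderOf (φ aG) = 11 := by rw [MulEquiv.orderOf_eq, aG_order]
  obtain ⟨g, k, hgk⟩ := sylow_conj 11 not_sq_dvd aG (φ aG) aG_order ho
  have hk : aG ^ (k % 11) = aG ^ k := by
    have := pow_mod_orderOf aG k
    rwa [aG_order] at this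
  rw [← hk] at hgk
  have hr0 : k % 11 ≠ 0 := by
    intro h0
    rw [h0, pow_zero] at hgk
    have h1 : φ aG = 1 := by
      have : φ aG = g * (g⁻¹ * φ aG * g) * g⁻¹ := by group
      rw [this, hgk]; group
    rw [← map_one φ] at h1
    exact aP_ne (congrArg Subtype.val (φ.injective h1))
  have hr10 : k % 11 ≤ 10 := by omega
  obtain ⟨n, hn⟩ := exists_nk (k % 11) (by omega) hr10
  generalize k % 11 = r at hgk hn
  have h1a : (cAut n * MulAut.conj g⁻¹ * φ) aG = aG := by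
    rw [MulAut.mul_apply, MulAut.mul_apply, MulAut.conj_apply, inv_inv, hgk]
    apply Subtype.ext
    rw [cAut_apply]
    show n.1 * (permC ac) ^ r * n.1⁻¹ = permC ac
    rw [hn]
    group
  generalize hψ : cAut n * MulAut.conj g⁻¹ * φ = ψ at h1a
  have hBC : BC (ψ aG) (ψ bG) :=
    (BC_map_iff (ψ : MulAut ↥(Hfix 3)).toMonoidHom (ψ : MulAut ↥(Hfix 3)).injective aG bG).2
      BC_gens
  rw [h1a] at hBC
  have hBC' : BC (permC ac) (ψ bG).1 :=
    (BC_map_iff (Hfix 3).subtype subtype_inj aG (ψ bG)).2 hBC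
  obtain ⟨S2, hS2, S3, hS3, S4, hS4, h, hh, hf⟩ := enumF (ψ bG).2
  rw [BC_iff hf] at hBC'
  have hBC'' := bCond_of_full hBC'
  have hgood := List.all_eq_true.1 (List.all_eq_true.1 (List.all_eq_true.1
    (allB hS2) S3 hS3) S4 hS4) h hh
  unfold bGood at hgood
  rw [hBC''] at hgood
  simp only [Bool.not_true, Bool.false_or, List.any_eq_true] at hgood
  obtain ⟨c, hc, hcf⟩ := hgood
  obtain ⟨hcP, hcK, hccomm⟩ := apL_facts hc
  have hcb : permC c * (ψ bG).1 = permC bc * permC c := by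
    apply Equiv.ext
    intro p
    apply ptIdx_inj
    rw [((IdxFun.permC hcP).mul hf) p, ((IdxFun.permC bc_perm).mul (IdxFun.permC hcP)) p]
    exact Nat.eq_of_beq_eq_true
      (List.all_eq_true.1 hcf (ptIdx p) (List.mem_range.2 (ptIdx p).isLt))
  let cG : ↥(Hfix 3) := ⟨permC c, hcK⟩
  have h2a : (MulAut.conj cG * ψ) aG = aG := by
    rw [MulAut.mul_apply, h1a, MulAut.conj_apply]
    apply Subtype.ext
    show permC c * permC ac * (permC c)⁻¹ = permC ac
    rw [hccomm]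
    group
  have h2b : (MulAut.conj cG * ψ) bG = bG := by
    rw [MulAut.mul_apply, MulAut.conj_apply]
    apply Subtype.ext
    show permC c * (ψ bG).1 * (permC c)⁻¹ = permC bc
    rw [hcb]
    group
  have hone : MulAut.conj cG * ψ = 1 := by
    apply MulEquiv.ext
    intro x
    exact fix_all _ h2a h2b x
  refine ⟨(iota cG * n * iota g⁻¹)⁻¹, ?_⟩
  rw [map_inv, map_mul, map_mul, inv_eq_iff_eq_inv, eq_inv_iff_mul_eq_one]
  rw [cAut_inner cG, cAut_inner g⁻¹, mul_assoc, mul_assoc, ← mul_assoc (cAut n), hψ]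
  exact hone

/-! ### inner automorphisms -/

theorem fix_good2 : (List.range 22).all
    (fun j => Nat.beq (papp (fixL.getD j 0) (j + 2)) (j + 2)) = true := by decide +kernel

theorem mem_Kf_of_inner (n : ↥N22) (h : cAut n ∈ Cfsg.Inn ↥(Hfix 3)) : n.1 ∈ Hfix 3 := by
  obtain ⟨m, hm⟩ := h
  rcases N22_cases n.2 with hD | hD
  · exact (mem_Kf n.1).2 ⟨N22_M24 n.2, hD⟩
  exfalso
  have hcomm : ∀ g : ↥(Hfix 3), (m.1⁻¹ * n.1) * g.1 = g.1 * (m.1⁻¹ * n.1) := by
    intro g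
    have h1 : (MulAut.conj m g : ↥(Hfix 3)) = cAut n g := by rw [hm]
    have h2 : m.1 * g.1 * m.1⁻¹ = n.1 * g.1 * n.1⁻¹ := congrArg Subtype.val h1
    have h3 : n.1 * g.1 = m.1 * g.1 * m.1⁻¹ * n.1 := by rw [h2]; group
    calc m.1⁻¹ * n.1 * g.1 = m.1⁻¹ * (n.1 * g.1) := by group
      _ = m.1⁻¹ * (m.1 * g.1 * m.1⁻¹ * n.1) := by rw [h3]
      _ = g.1 * (m.1⁻¹ * n.1) := by group
  obtain ⟨hmM, hm0, hm1⟩ := (mem_Kf m.1).1 m.2
  have hzM : m.1⁻¹ * n.1 ∈ M24 := M24.mul_mem (M24.inv_mem hmM) (N22_M24 n.2)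
  have hz0 : (m.1⁻¹ * n.1) (P 0) = P 1 := by
    rw [Equiv.Perm.mul_apply, hD.1, Equiv.Perm.inv_eq_iff_eq, hm1]
  have hz1 : (m.1⁻¹ * n.1) (P 1) = P 0 := by
    rw [Equiv.Perm.mul_apply, hD.2, Equiv.Perm.inv_eq_iff_eq, hm0]
  generalize m.1⁻¹ * n.1 = z at hcomm hzM hz0 hz1
  -- `z` fixes every other point
  have hzfix : ∀ j (hj : j < 22), z (P (j + 2) (by omega)) = P (j + 2) (by omega) := by
    intro j hj
    have hi24 : j + 2 < 24 := by omega
    have h := List.all_eq_true.1 fix_good j (List.mem_range.2 hj)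
    simp only [Bool.and_eq_true] at h
    obtain ⟨⟨hA, hF⟩, hfx⟩ := h
    have hP := isPerm_of_isAutC hA
    have hSK := permC_mem_Hfix hA hF
    have hSi : permC (fixL.getD j 0) (P (j + 2) hi24) = P (j + 2) hi24 :=
      P_of_papp hP _ hi24 _ hi24 (List.all_eq_true.1 fix_good2 j (List.mem_range.2 hj))
    have hc := hcomm ⟨permC (fixL.getD j 0), hSK⟩
    have h1 := congrArg (fun σ : Equiv.Perm GolayPt => σ (P (j + 2) hi24)) hc
    simp only [Equiv.Perm.mul_apply] at h1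
    rw [hSi] at h1
    -- so the image is a fixed point of the chosen element
    have h2 := ptIdx_permC hP (z (P (j + 2) hi24))
    rw [← h1] at h2
    have h3 := List.all_eq_true.1 hfx _ (List.mem_range.2 (ptIdx (z (P (j + 2) hi24))).isLt)
    rw [← h2] at h3
    simp only [Nat.beq_refl, Bool.not_true, Bool.false_or, Bool.or_eq_true] at h3
    rcases h3 with (h3 | h3) | h3
    · exfalso
      have e : z (P (j + 2) hi24) = P 0 := by
        apply ptIdx_inj; rw [ptIdx_P]; exact Nat.eq_of_beq_eq_true h3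
      rw [← hz1] at e
      have := congrArg (fun p => ((ptIdx p : Fin 24) : ℕ)) (z.injective e)
      simp only [ptIdx_P] at this
      omega
    · exfalso
      have e : z (P (j + 2) hi24) = P 1 := by
        apply ptIdx_inj; rw [ptIdx_P]; exact Nat.eq_of_beq_eq_true h3
      rw [← hz0] at e
      have := congrArg (fun p => ((ptIdx p : Fin 24) : ℕ)) (z.injective e)
      simp only [ptIdx_P] at this
      omega
    · apply ptIdx_inj; rw [ptIdx_P]; exact Nat.eq_of_beq_eq_true h3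
  have hzfix' : ∀ p : GolayPt, 2 ≤ ((ptIdx p : Fin 24) : ℕ) → z p = p := by
    intro p hp
    have h24 := (ptIdx p).isLt
    have := hzfix ((ptIdx p : ℕ) - 2) (by omega)
    have e : P ((ptIdx p : ℕ) - 2 + 2) (by omega) = p := by
      apply ptIdx_inj; rw [ptIdx_P]; omega
    rw [e] at this
    exact this
  -- conjugate into the base
  have hu := uc_good
  rw [Bool.and_eq_true] at hu
  obtain ⟨huA, huB⟩ := hu
  have huP := isPerm_of_isAutC huA
  have hw : (permC uc)⁻¹ * z * permC uc = 1 := by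
    apply eq_of_agree_on_base (M24.mul_mem (M24.mul_mem (M24.inv_mem (permC_mem_M24 huA)) hzM)
      (permC_mem_M24 huA)) M24.one_mem
    intro p hp
    rw [mem_fset] at hp
    have h1 := List.all_eq_true.1 huB _ (List.mem_range.2 (ptIdx p).isLt)
    rw [hp] at h1
    simp only [Bool.not_true, Bool.false_or] at h1
    have h2 : 2 ≤ ((ptIdx (permC uc p) : Fin 24) : ℕ) := by
      rw [ptIdx_permC huP]; exact Nat.le_of_ble_eq_true h1
    simp only [Equiv.Perm.mul_apply, Equiv.Perm.coe_one, id_eq]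
    rw [hzfix' _ h2, inv_self]
  have hz : z = 1 := by
    have : z = permC uc * ((permC uc)⁻¹ * z * permC uc) * (permC uc)⁻¹ := by group
    rw [this, hw]; group
  rw [hz] at hz0
  exact P01_ne hz0

theorem inner_of_mem_Kf (n : ↥N22) (h : n.1 ∈ Hfix 3) : cAut n ∈ Cfsg.Inn ↥(Hfix 3) := by
  have e : n = iota ⟨n.1, h⟩ := Subtype.ext rfl
  rw [e]
  exact ⟨⟨n.1, h⟩, (cAut_inner _).symm⟩

theorem out_card_Kf : Nat.card (Cfsg.Out ↥(Hfix 3)) = 2 := by
  show (Cfsg.Inn ↥(Hfix 3)).index = 2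
  rw [Subgroup.index_eq_two_iff]
  let θ : ↥N22 := ⟨permC thc, th_mem.1⟩
  have hθ0 : θ.1 (P 0) = P 1 := th_mem.2.1
  have hθ1 : θ.1 (P 1) = P 0 := th_mem.2.2
  refine ⟨cAut θ, fun b => ?_⟩
  obtain ⟨n, rfl⟩ := aut_from_N22 b
  rw [← map_mul]
  have hnθ0 : (n * θ).1 (P 0) = n.1 (P 1) := by
    show (n.1 * θ.1) (P 0) = _
    rw [Equiv.Perm.mul_apply, hθ0]
  have hnθ1 : (n * θ).1 (P 1) = n.1 (P 0) := by
    show (n.1 * θ.1) (P 1) = _
    rw [Equiv.Perm.mul_apply, hθ1]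
  rcases N22_cases n.2 with hD | hD
  · right
    refine ⟨inner_of_mem_Kf n ((mem_Kf n.1).2 ⟨N22_M24 n.2, hD⟩), fun h => ?_⟩
    have h1 := ((mem_Kf _).1 (mem_Kf_of_inner _ h)).2.1
    rw [hnθ0, hD.2] at h1
    exact P01_ne h1.symm
  · left
    refine ⟨inner_of_mem_Kf _ ((mem_Kf _).2 ⟨N22_M24 (n * θ).2, ?_, ?_⟩), fun h => ?_⟩
    · rw [hnθ0, hD.2]
    · rw [hnθ1, hD.1]
    · have h1 := ((mem_Kf _).1 (mem_Kf_of_inner _ h)).2.1
      rw [hD.1] at h1
      exact P01_ne h1.symm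

/-! ### transfer along an isomorphism -/

theorem inn_map_congr' {A B : Type*} [Group A] [Group B] (e : A ≃* B) :
    (Cfsg.Inn A).map (MulAut.congr e).toMonoidHom = Cfsg.Inn B := by
  have key : ∀ x : A, MulAut.congr e (MulAut.conj x) = MulAut.conj (e x) := by
    intro x
    ext y
    simp [MulAut.congr]
  apply le_antisymm
  · rintro _ ⟨_, ⟨x, rfl⟩, rfl⟩
    exact ⟨e x, (key x).symm⟩
  · rintro _ ⟨y, rfl⟩
    refine ⟨MulAut.conj (e.symm y), ⟨_, rfl⟩, ?_⟩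
    show MulAut.congr e (MulAut.conj (e.symm y)) = MulAut.conj y
    rw [key]
    simp

theorem card_Out_congr {A B : Type*} [Group A] [Group B] (e : A ≃* B) :
    Nat.card (Cfsg.Out A) = Nat.card (Cfsg.Out B) :=
  Nat.card_congr (QuotientGroup.congr (Cfsg.Inn A) (Cfsg.Inn B) (MulAut.congr e)
    (inn_map_congr' e)).toEquiv

theorem P0_eq : P 0 = (some 0 : GolayPt) := by decide
theorem P23_eq : P 23 = (none : GolayPt) := by decide

theorem mem_M22 (g : Equiv.Perm GolayPt) :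
    g ∈ Cfsg.Spor.M22 ↔ g ∈ M24 ∧ g (P 0) = P 0 ∧ g (P 23) = P 23 := by
  unfold Cfsg.Spor.M22 Cfsg.Spor.M23
  rw [Subgroup.mem_inf, Subgroup.mem_inf, MulAction.mem_stabilizer_iff,
    MulAction.mem_stabilizer_iff, P0_eq, P23_eq]
  constructor
  · rintro ⟨⟨h1, h2⟩, h3⟩
    exact ⟨h1, h3, h2⟩
  · rintro ⟨h1, h3, h2⟩
    exact ⟨⟨h1, h2⟩, h3⟩

theorem mc_facts : permC mc ∈ M24 ∧ permC mc (P 0) = P 0 ∧ permC mc (P 1) = P 23 := by
  have h := mc_good
  simp only [Bool.and_eq_true] at h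
  obtain ⟨⟨hA, h0⟩, h1⟩ := h
  have hP := isPerm_of_isAutC hA
  exact ⟨permC_mem_M24 hA, P_of_papp hP 0 (by decide) 0 (by decide) h0,
    P_of_papp hP 1 (by decide) 23 (by decide) h1⟩

/-- the two-point stabiliser is isomorphic to the Mathieu group of degree 22 -/
def isoM22 : ↥(Hfix 3) ≃* ↥Cfsg.Spor.M22 where
  toFun g := ⟨permC mc * g.1 * (permC mc)⁻¹, by
    obtain ⟨hgM, hg0, hg1⟩ := (mem_Kf g.1).1 g.2
    obtain ⟨hmM, hm0, hm1⟩ := mc_facts
    rw [mem_M22]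
    refine ⟨M24.mul_mem (M24.mul_mem hmM hgM) (M24.inv_mem hmM), ?_, ?_⟩
    · simp only [Equiv.Perm.mul_apply]
      have : (permC mc)⁻¹ (P 0) = P 0 := by rw [Equiv.Perm.inv_eq_iff_eq, hm0]
      rw [this, hg0, hm0]
    · simp only [Equiv.Perm.mul_apply]
      have : (permC mc)⁻¹ (P 23) = P 1 := by rw [Equiv.Perm.inv_eq_iff_eq, hm1]
      rw [this, hg1, hm1]⟩
  invFun h := ⟨(permC mc)⁻¹ * h.1 * permC mc, by
    obtain ⟨hhM, hh0, hh1⟩ := (mem_M22 h.1).1 h.2
    obtain ⟨hmM, hm0, hm1⟩ := mc_facts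
    rw [mem_Kf]
    refine ⟨M24.mul_mem (M24.mul_mem (M24.inv_mem hmM) hhM) hmM, ?_, ?_⟩
    · simp only [Equiv.Perm.mul_apply]
      rw [hm0, hh0, Equiv.Perm.inv_eq_iff_eq, hm0]
    · simp only [Equiv.Perm.mul_apply]
      rw [hm1, hh1, Equiv.Perm.inv_eq_iff_eq, hm1]⟩
  left_inv := by
    intro g
    apply Subtype.ext
    show (permC mc)⁻¹ * (permC mc * g.1 * (permC mc)⁻¹) * permC mc = g.1
    group
  right_inv := by
    intro h
    apply Subtype.ext
    show permC mc * ((permC mc)⁻¹ * h.1 * permC mc) * (permC mc)⁻¹ = h.1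
    group
  map_mul' := by
    intro g h
    apply Subtype.ext
    show permC mc * (g.1 * h.1) * (permC mc)⁻¹ =
      (permC mc * g.1 * (permC mc)⁻¹) * (permC mc * h.1 * (permC mc)⁻¹)
    group

/-- The outer automorphism group of the Mathieu group M₂₂ (the permutations in the automorphism group of the length-24 binary code that fix each of two given points) has order 2. -/
theorem result : Nat.card (Cfsg.Out ↥Cfsg.Spor.M22) = 2 := by
  rw [← card_Out_congr isoM22]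
  exact out_card_Kf

end Cfsg.Agent.S2062
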