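import Cfsg.Statements.S0953
import Cfsg.Agent.Lib.Helper16.SylowBlocks
import Cfsg.Agent.S0920
import Cfsg.Agent.Lib.Helper77.ExtFirstMain

set_option autoImplicit false
open Cfsg

namespace Cfsg.Agent.S0953

open Cfsg.Agent.Lib.Helper16 Cfsg.Agent.Lib.Helper77 Cfsg.Agent.Lib.Helper80 Cfsg.Agent.Lib.Helper81

/-- Let P be a Sylow p-subgroup of the finite group G with normalizer N, and fix a maximal ideal M of the algebraic integers containing p. The number of blocks of G having P as a defect group equals the number of conjugacy classes of N consisting of elements of order prime to p that centralize P. -/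
theorem result {G : Type*} [Group G] [Finite G] (p : ℕ) [Fact p.Prime] (M : Ideal Cfsg.AlgInt) (hM : Cfsg.IsPModular p M) (P : Sylow p G) : Nat.card {B : Set (Cfsg.IrrCharacter G) // Cfsg.IsPBlock M B ∧ Cfsg.IsDefectGroup p M B (P : Subgroup G)} = Nat.card {C : ConjClasses (Subgroup.normalizer ((P : Subgroup G) : Set G)) // ∀ n : Subgroup.normalizer ((P : Subgroup G) : Set G), ConjClasses.mk n = C → ¬ p ∣ orderOf n ∧ (n : G) ∈ Subgroup.centralizer ((P : Subgroup G) : Set G)} := by
  classical
  have hMp : M.IsPrime := isPrime_of_isPModular hM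
  have hPN : (P : Subgroup G) ≤ Subgroup.normalizer ((P : Subgroup G) : Set G) :=
    Subgroup.le_normalizer
  have h920 := Cfsg.Agent.S0920.result p M hM (P : Subgroup G) P.2
  -- step 1: the Brauer correspondence is a bijection
  have hstep1 : Nat.card {B : Set (Cfsg.IrrCharacter G) // Cfsg.IsPBlock M B ∧
      Cfsg.IsDefectGroup p M B (P : Subgroup G)} =
      Nat.card {b : Set (Cfsg.IrrCharacter (Subgroup.normalizer ((P : Subgroup G) : Set G))) //
        Cfsg.IsPBlock M b ∧ Cfsg.IsDefectGroup p M b
          ((P : Subgroup G).subgroupOf (Subgroup.normalizer ((P : Subgroup G) : Set G)))} := by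
    let f : {B : Set (Cfsg.IrrCharacter G) // Cfsg.IsPBlock M B ∧
      Cfsg.IsDefectGroup p M B (P : Subgroup G)} →
      {b : Set (Cfsg.IrrCharacter (Subgroup.normalizer ((P : Subgroup G) : Set G))) //
        Cfsg.IsPBlock M b ∧ Cfsg.IsDefectGroup p M b
          ((P : Subgroup G).subgroupOf (Subgroup.normalizer ((P : Subgroup G) : Set G)))} :=
      fun B => ⟨(h920.2 B.1 B.2.1 B.2.2).exists.choose,
        (h920.2 B.1 B.2.1 B.2.2).exists.choose_spec.1,
        (h920.2 B.1 B.2.1 B.2.2).exists.choose_spec.2.1⟩
    have hf : ∀ B, Cfsg.IsInducedBlock M (Subgroup.normalizer ((P : Subgroup G) : Set G))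
        (f B).1 B.1 := fun B => (h920.2 B.1 B.2.1 B.2.2).exists.choose_spec.2.2
    apply Nat.card_eq_of_bijective f
    constructor
    · intro B B' hBB
      apply Subtype.ext
      have h1 := hf B
      have h2 := hf B'
      rw [hBB] at h1
      exact isInducedBlock_unique hMp h1 h2
    · intro b
      obtain ⟨B, hB, hBD, hind⟩ := h920.1 b.1 b.2.1 b.2.2
      refine ⟨⟨B, hB, hBD⟩, ?_⟩
      apply Subtype.ext
      exact (h920.2 B hB hBD).unique ⟨(f ⟨B, hB, hBD⟩).2.1, (f ⟨B, hB, hBD⟩).2.2,
        hf ⟨B, hB, hBD⟩⟩ ⟨b.2.1, b.2.2, hind⟩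
  -- step 2: the normalizer has a normal Sylow subgroup
  have hQn : ((P.subtype hPN : Sylow p (Subgroup.normalizer ((P : Subgroup G) : Set G))) :
      Subgroup (Subgroup.normalizer ((P : Subgroup G) : Set G))).Normal := by
    rw [Sylow.coe_subtype]
    exact Subgroup.normal_in_normalizer
  have hstep2 := card_blocks_normal_sylow M hM (P.subtype hPN) hQn
  rw [Sylow.coe_subtype] at hstep2
  rw [hstep1, hstep2]
  -- step 3: the two conditions on classes agree
  apply Nat.card_congr
  apply Equiv.subtypeEquivRight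
  intro C
  have hiff : ∀ n : Subgroup.normalizer ((P : Subgroup G) : Set G),
      n ∈ Subgroup.centralizer ((((P : Subgroup G).subgroupOf
        (Subgroup.normalizer ((P : Subgroup G) : Set G)) :
        Subgroup (Subgroup.normalizer ((P : Subgroup G) : Set G))) :
        Set (Subgroup.normalizer ((P : Subgroup G) : Set G)))) ↔
      (n : G) ∈ Subgroup.centralizer ((P : Subgroup G) : Set G) := by
    intro n
    rw [Subgroup.mem_centralizer_iff, Subgroup.mem_centralizer_iff]
    constructor
    · intro h u hu
      have := h ⟨u, hPN hu⟩ (Subgroup.mem_subgroupOf.2 hu)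
      exact congrArg Subtype.val this
    · intro h u hu
      apply Subtype.ext
      exact h (u : G) (Subgroup.mem_subgroupOf.1 hu)
  constructor
  · intro h n hn
    exact ⟨(h n hn).1, (hiff n).1 (h n hn).2⟩
  · intro h n hn
    exact ⟨(h n hn).1, (hiff n).2 (h n hn).2⟩

end Cfsg.Agent.S0953
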