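import Cfsg.Statements.S0955
import Cfsg.Agent.Lib.Helper77.InducedBlock2
import Cfsg.Agent.Lib.Helper77.DefectConj
import Cfsg.Agent.Lib.Helper84.PCore
import Cfsg.Agent.S0917
import Cfsg.Agent.S0912

set_option autoImplicit false
open Cfsg

namespace Cfsg.Agent.S0955

/-- Let D be a defect group of a block of the finite group G relative to a maximal ideal M of the algebraic integers containing the prime p. Then D is the largest normal p-subgroup of its own normalizer: O_p(N_G(D)) = D. -/
theorem result {G : Type*} [Group G] [Finite G] (p : ℕ) [Fact p.Prime] (M : Ideal Cfsg.AlgInt) (hM : Cfsg.IsPModular p M) (B : Set (Cfsg.IrrCharacter G)) (hB : Cfsg.IsPBlock M B) (D : Subgroup G) (hD : Cfsg.IsDefectGroup p M B D) : (Cfsg.pCore p (Subgroup.normalizer (D : Set G))).map (Subgroup.normalizer (D : Set G)).subtype = D := by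
  classical
  have := Fintype.ofFinite G
  have := Fintype.ofFinite (Subgroup.normalizer (D : Set G))
  have hMp : M.IsPrime := Cfsg.Agent.Lib.Helper81.isPrime_of_isPModular hM
  have hDp : IsPGroup p D := Cfsg.Agent.Lib.Helper77.isPGroup_of_isDefectGroup hD
  have hDN : D ≤ Subgroup.normalizer (D : Set G) := Subgroup.le_normalizer
  obtain ⟨χ₀, rfl⟩ := hB
  apply le_antisymm
  · -- `O_p(N) ≤ D`
    have hD' := hD
    obtain ⟨g, hg, Q, hQ⟩ := hD'
    have hgD : g ∈ Subgroup.centralizer (D : Set G) := by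
      rw [Subgroup.mem_centralizer_iff]
      intro y hy
      rw [hQ] at hy
      obtain ⟨z, -, rfl⟩ := hy
      have := z.2
      rw [Subgroup.mem_centralizer_singleton_iff] at this
      exact this
    obtain ⟨ξ, hξ⟩ := Cfsg.Agent.Lib.Helper77.exists_isInducedBlock_of_blockCoeff hM D
      (Subgroup.normalizer (D : Set G)) hDp hDN
      (Subgroup.centralizer_le_normalizer _) le_rfl χ₀ hgD hg.2.1
    obtain ⟨Db, hDb⟩ := Cfsg.Agent.Lib.Helper77.exists_isDefectGroup hM ξ
    have h1 : Cfsg.pCore p (Subgroup.normalizer (D : Set G)) ≤ Db :=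
      Cfsg.Agent.S0912.result p M hM _ hξ.1 Db hDb
    obtain ⟨E, hE, hDE⟩ := Cfsg.Agent.S0917.result p M hM _ _ hξ.1 _ hξ.2.1 hξ Db hDb
    have h2 : D.subgroupOf (Subgroup.normalizer (D : Set G)) ≤
        Cfsg.pCore p (Subgroup.normalizer (D : Set G)) :=
      Cfsg.Agent.Lib.Helper84.le_pCore (Subgroup.normal_subgroupOf_of_le_normalizer le_rfl)
        hDp.comap_subtype
    have hDE' : D ≤ E := by
      intro y hy
      apply hDE
      exact ⟨⟨y, hDN hy⟩, h1 (h2 (show (⟨y, hDN hy⟩ : Subgroup.normalizer (D : Set G)) ∈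
        D.subgroupOf _ from hy)), rfl⟩
    have hEq : D = E := Cfsg.Agent.Lib.Helper77.eq_of_le_of_isDefectGroup hM χ₀ hD hE hDE'
    refine ((Subgroup.map_mono h1).trans hDE).trans ?_
    rw [hEq]
  · -- `D ≤ O_p(N)`
    intro y hy
    have h2 : D.subgroupOf (Subgroup.normalizer (D : Set G)) ≤
        Cfsg.pCore p (Subgroup.normalizer (D : Set G)) :=
      Cfsg.Agent.Lib.Helper84.le_pCore (Subgroup.normal_subgroupOf_of_le_normalizer le_rfl)
        hDp.comap_subtype
    exact ⟨⟨y, hDN hy⟩, h2 (show (⟨y, hDN hy⟩ : Subgroup.normalizer (D : Set G)) ∈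
      D.subgroupOf _ from hy), rfl⟩

end Cfsg.Agent.S0955
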