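import Cfsg.Statements.S0916
import Mathlib.GroupTheory.Nilpotent

set_option autoImplicit false
open Cfsg

namespace Cfsg.Agent.S0916

open scoped Pointwise

theorem lemmaA {G : Type*} [Group G] [Finite G] (p : ℕ) [Fact p.Prime] (K : Subgroup G)
    (S : Sylow p K) (R : Subgroup G) (hRK : R ≤ K) (hR : IsPGroup p R)
    (hcard : Nat.card R = Nat.card ((S : Subgroup K).map K.subtype)) :
    ∃ a ∈ K, ∀ r, r ∈ R ↔ a⁻¹ * r * a ∈ (S : Subgroup K).map K.subtype := by
  have hR' : IsPGroup p (R.subgroupOf K) := hR.comap_subtype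
  obtain ⟨Q, hQ⟩ := hR'.exists_le_sylow
  obtain ⟨a, ha⟩ := MulAction.exists_smul_eq K S Q
  refine ⟨a, a.2, ?_⟩
  set P := (S : Subgroup K).map K.subtype with hPdef
  have hfwd : ∀ r, r ∈ R → a.1⁻¹ * r * a.1 ∈ P := by
    intro r hr
    have h1 : (⟨r, hRK hr⟩ : K) ∈ R.subgroupOf K := by
      rw [Subgroup.mem_subgroupOf]; exact hr
    have h2 := hQ h1
    rw [← ha] at h2
    have h3 : (⟨r, hRK hr⟩ : K) ∈ MulAut.conj a • (S : Subgroup K) := h2
    rw [Subgroup.mem_pointwise_smul_iff_inv_smul_mem] at h3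
    rw [hPdef, Subgroup.mem_map]
    refine ⟨_, h3, ?_⟩
    simp [MulAut.smul_def]
  let R' : Subgroup G := P.comap (MulAut.conj a.1⁻¹).toMonoidHom
  have hRR' : R ≤ R' := by
    intro r hr
    show (MulAut.conj a.1⁻¹) r ∈ P
    rw [MulAut.conj_apply, inv_inv]
    exact hfwd r hr
  have hcard' : Nat.card R' = Nat.card P := by
    apply Nat.card_congr
    refine ⟨fun x => ⟨(MulAut.conj a.1⁻¹) x.1, x.2⟩, fun y => ⟨(MulAut.conj a.1) y.1, ?_⟩, ?_, ?_⟩
    · show (MulAut.conj a.1⁻¹) ((MulAut.conj a.1) y.1) ∈ P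
      rw [MulAut.conj_apply, MulAut.conj_apply, inv_inv]
      have e : a.1⁻¹ * (a.1 * y.1 * a.1⁻¹) * a.1 = y.1 := by group
      rw [e]; exact y.2
    · intro x; apply Subtype.ext
      show (MulAut.conj a.1) ((MulAut.conj a.1⁻¹) x.1) = x.1
      rw [MulAut.conj_apply, MulAut.conj_apply, inv_inv]; group
    · intro y; apply Subtype.ext
      show (MulAut.conj a.1⁻¹) ((MulAut.conj a.1) y.1) = y.1
      rw [MulAut.conj_apply, MulAut.conj_apply, inv_inv]; group
  have heq : R = R' := Subgroup.eq_of_le_of_card_ge hRR' (by rw [hcard', hcard])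
  intro r
  rw [heq]
  show (MulAut.conj a.1⁻¹) r ∈ P ↔ _
  rw [MulAut.conj_apply, inv_inv]

theorem lemmaB {G : Type*} [Group G] [Finite G] (p : ℕ) [Fact p.Prime] (P Q : Subgroup G)
    (hQ : IsPGroup p Q) (hPQ : P ≤ Q) (hN : Q ⊓ Subgroup.normalizer (P : Set G) ≤ P) : P = Q := by
  by_contra hne
  have hnil : Group.IsNilpotent Q := hQ.isNilpotent
  have hlt : P.subgroupOf Q < ⊤ := by
    rw [lt_top_iff_ne_top, Ne, Subgroup.subgroupOf_eq_top]
    intro h
    exact hne (le_antisymm hPQ h)
  have h2 := Group.normalizerCondition_of_isNilpotent (P.subgroupOf Q) hlt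
  obtain ⟨y, hy, hyn⟩ := SetLike.exists_of_lt h2
  apply hyn
  rw [Subgroup.mem_subgroupOf]
  apply hN
  refine ⟨y.2, ?_⟩
  show (y : G) ∈ Subgroup.normalizer (P : Set G)
  rw [Subgroup.mem_set_normalizer_iff]
  rw [Subgroup.mem_normalizer_iff] at hy
  intro h
  constructor
  · intro hh
    have := (hy ⟨h, hPQ hh⟩).1 (by rw [Subgroup.mem_subgroupOf]; exact hh)
    rw [Subgroup.mem_subgroupOf] at this
    simpa using this
  · intro hh
    have hhQ : h ∈ Q := by
      have h3 : y.1⁻¹ * (y.1 * h * y.1⁻¹) * y.1 ∈ Q :=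
        Q.mul_mem (Q.mul_mem (Q.inv_mem y.2) (hPQ hh)) y.2
      have h4 : y.1⁻¹ * (y.1 * h * y.1⁻¹) * y.1 = h := by group
      rwa [h4] at h3
    have := (hy ⟨h, hhQ⟩).2 (by rw [Subgroup.mem_subgroupOf]; simpa using hh)
    rw [Subgroup.mem_subgroupOf] at this
    exact this

theorem lemmaC {G : Type*} [Group G] [Finite G] (p : ℕ) [Fact p.Prime] (P : Subgroup G)
    (hP : IsPGroup p P) (K : Subgroup G) (hPK : P ≤ K)
    (S : Sylow p (K ⊓ Subgroup.normalizer (P : Set G) : Subgroup G))
    (hS : (S : Subgroup ↥(K ⊓ Subgroup.normalizer (P : Set G))).map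
      (K ⊓ Subgroup.normalizer (P : Set G)).subtype = P) :
    ∃ Q : Sylow p K, (Q : Subgroup K).map K.subtype = P := by
  have hPK' : IsPGroup p (P.subgroupOf K) := hP.comap_subtype
  obtain ⟨Q, hQ⟩ := hPK'.exists_le_sylow
  refine ⟨Q, ?_⟩
  have hQGp : IsPGroup p ((Q : Subgroup K).map K.subtype) := Q.2.map _
  have hPQ : P ≤ (Q : Subgroup K).map K.subtype := by
    intro x hx
    rw [Subgroup.mem_map]
    exact ⟨⟨x, hPK hx⟩, hQ (by rw [Subgroup.mem_subgroupOf]; exact hx), rfl⟩
  have hQK : (Q : Subgroup K).map K.subtype ≤ K := Subgroup.map_subtype_le _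
  symm
  apply lemmaB p P _ hQGp hPQ
  have hTL : (Q : Subgroup K).map K.subtype ⊓ Subgroup.normalizer (P : Set G) ≤
      K ⊓ Subgroup.normalizer (P : Set G) := inf_le_inf_right _ hQK
  have hTp : IsPGroup p (((Q : Subgroup K).map K.subtype ⊓ Subgroup.normalizer (P : Set G)).subgroupOf
      (K ⊓ Subgroup.normalizer (P : Set G))) := (hQGp.to_le inf_le_left).comap_subtype
  have hST : (S : Subgroup ↥(K ⊓ Subgroup.normalizer (P : Set G))) ≤
      ((Q : Subgroup K).map K.subtype ⊓ Subgroup.normalizer (P : Set G)).subgroupOf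
      (K ⊓ Subgroup.normalizer (P : Set G)) := by
    intro s hs
    rw [Subgroup.mem_subgroupOf]
    have hsP : (s : G) ∈ P := by
      have h0 : (s : G) ∈ (S : Subgroup ↥(K ⊓ Subgroup.normalizer (P : Set G))).map
          (K ⊓ Subgroup.normalizer (P : Set G)).subtype := Subgroup.mem_map_of_mem _ hs
      rw [hS] at h0; exact h0
    exact ⟨hPQ hsP, Subgroup.le_normalizer hsP⟩
  have hmax := S.3 hTp hST
  intro t ht
  have h1 : (⟨t, hTL ht⟩ : ↥(K ⊓ Subgroup.normalizer (P : Set G))) ∈
      ((Q : Subgroup K).map K.subtype ⊓ Subgroup.normalizer (P : Set G)).subgroupOf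
      (K ⊓ Subgroup.normalizer (P : Set G)) := by
    rw [Subgroup.mem_subgroupOf]; exact ht
  rw [hmax] at h1
  have h0 : t ∈ (S : Subgroup ↥(K ⊓ Subgroup.normalizer (P : Set G))).map
      (K ⊓ Subgroup.normalizer (P : Set G)).subtype := ⟨⟨t, hTL ht⟩, h1, rfl⟩
  rw [hS] at h0; exact h0

theorem le_centralizer_singleton {G : Type*} [Group G] (P : Subgroup G) (c : G)
    (hc : c ∈ Subgroup.centralizer (P : Set G)) : P ≤ Subgroup.centralizer ({c} : Set G) := by
  intro x hx
  rw [Subgroup.mem_centralizer_singleton_iff]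
  rw [Subgroup.mem_centralizer_iff] at hc
  exact (hc x hx)

theorem card_conj {G : Type*} [Group G] (P : Subgroup G) (x : G) :
    Nat.card (P.map (MulAut.conj x).toMonoidHom) = Nat.card P := by
  exact (Nat.card_congr (Subgroup.equivMapOfInjective P _ (MulAut.conj x).injective).toEquiv).symm

/-- Let P be a p-subgroup of the finite group G, C its centralizer and N its normalizer. Say that a conjugacy class (of G, or of N) has defect group P when P is a Sylow p-subgroup of the centralizer (in G, respectively in N) of some element of the class. Then: (i) if the class of g in G has defect group P, the elements of that class lying in C form a single N-class, again with defect group P; (ii) every N-class with defect group P arises this way from exactly one G-class with defect group P. -/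
theorem result {G : Type*} [Group G] [Finite G] (p : ℕ) [Fact p.Prime] (P : Subgroup G) (hP : IsPGroup p P) : (∀ g : G, (∃ S : Sylow p (Subgroup.centralizer ({g} : Set G)), (S : Subgroup (Subgroup.centralizer ({g} : Set G))).map (Subgroup.centralizer ({g} : Set G)).subtype = P) → (∃ c : G, IsConj g c ∧ c ∈ Subgroup.centralizer (P : Set G)) ∧ (∀ c₁ c₂ : G, IsConj g c₁ → IsConj g c₂ → c₁ ∈ Subgroup.centralizer (P : Set G) → c₂ ∈ Subgroup.centralizer (P : Set G) → ∃ n ∈ Subgroup.normalizer (P : Set G), n * c₁ * n⁻¹ = c₂)) ∧ (∀ c : G, c ∈ Subgroup.centralizer (P : Set G) → (∃ S : Sylow p (Subgroup.centralizer ({c} : Set G) ⊓ Subgroup.normalizer (P : Set G) : Subgroup G), (S : Subgroup ↥(Subgroup.centralizer ({c} : Set G) ⊓ Subgroup.normalizer (P : Set G))).map (Subgroup.centralizer ({c} : Set G) ⊓ Subgroup.normalizer (P : Set G)).subtype = P) → ∃ S : Sylow p (Subgroup.centralizer ({c} : Set G)), (S : Subgroup (Subgroup.centralizer ({c} : Set G))).map (Subgroup.centralizer ({c} : Set G)).subtype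 = P) := by
  constructor
  · rintro g ⟨S, hS⟩
    have hPg : P ≤ Subgroup.centralizer ({g} : Set G) := by
      rw [← hS]; exact Subgroup.map_subtype_le _
    have hgP : g ∈ Subgroup.centralizer (P : Set G) := by
      rw [Subgroup.mem_centralizer_iff]
      intro x hx
      have := hPg hx
      rw [Subgroup.mem_centralizer_singleton_iff] at this
      exact this
    refine ⟨⟨g, IsConj.refl g, hgP⟩, ?_⟩
    -- key: any conjugate of g in C(P) is an N(P)-conjugate of g
    have key : ∀ c, IsConj g c → c ∈ Subgroup.centralizer (P : Set G) →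
        ∃ n ∈ Subgroup.normalizer (P : Set G), n * g * n⁻¹ = c := by
      intro c hgc hcP
      rw [isConj_iff] at hgc
      obtain ⟨x, hx⟩ := hgc
      -- R = x⁻¹ P x ≤ C(g)
      let R : Subgroup G := P.map (MulAut.conj x⁻¹).toMonoidHom
      have hRK : R ≤ Subgroup.centralizer ({g} : Set G) := by
        rintro r ⟨y, hy, rfl⟩
        rw [Subgroup.mem_centralizer_singleton_iff]
        have hyc := le_centralizer_singleton P c hcP hy
        rw [Subgroup.mem_centralizer_singleton_iff, ← hx] at hyc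
        show (MulAut.conj x⁻¹) y * g = g * (MulAut.conj x⁻¹) y
        rw [MulAut.conj_apply, inv_inv]
        calc x⁻¹ * y * x * g = x⁻¹ * (y * (x * g * x⁻¹)) * x := by group
          _ = x⁻¹ * ((x * g * x⁻¹) * y) * x := by rw [hyc]
          _ = g * (x⁻¹ * y * x) := by group
      have hR : IsPGroup p R := hP.map _
      have hcard : Nat.card R = Nat.card ((S : Subgroup _).map (Subgroup.centralizer ({g} : Set G)).subtype) := by
        rw [hS]; exact card_conj P x⁻¹
      obtain ⟨a, haK, ha⟩ := lemmaA p _ S R hRK hR hcard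
      rw [hS] at ha
      rw [Subgroup.mem_centralizer_singleton_iff] at haK
      refine ⟨x * a, ?_, ?_⟩
      · rw [Subgroup.mem_set_normalizer_iff'']
        intro h
        have := ha (x⁻¹ * h * x)
        have hmem : x⁻¹ * h * x ∈ R ↔ h ∈ P := by
          constructor
          · rintro ⟨y, hy, hyx⟩
            have : (MulAut.conj x⁻¹) y = x⁻¹ * y * x := by rw [MulAut.conj_apply, inv_inv]
            have h5 : x⁻¹ * y * x = x⁻¹ * h * x := by rw [← this]; exact hyx
            have : y = h := by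
              have h6 : x * (x⁻¹ * y * x) * x⁻¹ = x * (x⁻¹ * h * x) * x⁻¹ := by rw [h5]
              have e1 : x * (x⁻¹ * y * x) * x⁻¹ = y := by group
              have e2 : x * (x⁻¹ * h * x) * x⁻¹ = h := by group
              rw [e1, e2] at h6
              exact h6
            rwa [← this]
          · intro hh
            refine ⟨h, hh, ?_⟩
            show (MulAut.conj x⁻¹) h = _
            rw [MulAut.conj_apply, inv_inv]
        rw [hmem] at this
        show h ∈ P ↔ (x * a)⁻¹ * h * (x * a) ∈ P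
        rw [this]
        have e : (x * a)⁻¹ * h * (x * a) = a⁻¹ * (x⁻¹ * h * x) * a := by group
        rw [e]
      · rw [← hx]
        calc x * a * g * (x * a)⁻¹ = x * (a * g) * a⁻¹ * x⁻¹ := by group
          _ = x * (g * a) * a⁻¹ * x⁻¹ := by rw [haK]
          _ = x * g * x⁻¹ := by group
    intro c₁ c₂ h1 h2 hc1 hc2
    obtain ⟨n₁, hn₁, e₁⟩ := key c₁ h1 hc1
    obtain ⟨n₂, hn₂, e₂⟩ := key c₂ h2 hc2
    refine ⟨n₂ * n₁⁻¹, Subgroup.mul_mem _ hn₂ (Subgroup.inv_mem _ hn₁), ?_⟩
    rw [← e₁, ← e₂]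
    group
  · rintro c hc ⟨S, hS⟩
    exact lemmaC p P hP _ (le_centralizer_singleton P c hc) S hS

end Cfsg.Agent.S0916
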