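import Cfsg.Statements.S0956
import Cfsg.Agent.Lib.Helper16.Green4
import Cfsg.Agent.S0920
import Cfsg.Agent.S0916
import Cfsg.Agent.Lib.Helper77.DefectConj

set_option autoImplicit false
open Cfsg

namespace Cfsg.Agent.S0956

open Cfsg.Agent.Lib.Helper16 Cfsg.Agent.Lib.Helper77 Cfsg.Agent.Lib.Helper80 Cfsg.Agent.Lib.Helper81

/-- Let D be a defect group of a block of the finite group G (relative to a maximal ideal M of the algebraic integers containing the prime p) and P a Sylow p-subgroup containing D. Then there is an element x of order prime to p such that D is a Sylow p-subgroup of the centralizer of x and D = P ∩ x P x⁻¹. -/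
theorem result {G : Type*} [Group G] [Finite G] (p : ℕ) [Fact p.Prime] (M : Ideal Cfsg.AlgInt) (hM : Cfsg.IsPModular p M) (B : Set (Cfsg.IrrCharacter G)) (hB : Cfsg.IsPBlock M B) (D : Subgroup G) (hD : Cfsg.IsDefectGroup p M B D) (P : Sylow p G) (hDP : D ≤ P) : ∃ x : G, ¬ p ∣ orderOf x ∧ (∃ S : Sylow p (Subgroup.centralizer ({x} : Set G)), (S : Subgroup (Subgroup.centralizer ({x} : Set G))).map (Subgroup.centralizer ({x} : Set G)).subtype = D) ∧ (P : Subgroup G) ⊓ (P : Subgroup G).map (MulAut.conj x).toMonoidHom = D := by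
  classical
  have hp : p.Prime := Fact.out
  have hDp : IsPGroup p D := isPGroup_of_isDefectGroup hD
  obtain ⟨b, ⟨hb, hbD, -⟩, -⟩ := (Cfsg.Agent.S0920.result p M hM D hDp).2 B hB hD
  have hDN : D ≤ Subgroup.normalizer (D : Set G) := Subgroup.le_normalizer
  have hDNn : (D.subgroupOf (Subgroup.normalizer (D : Set G))).Normal := inferInstance
  -- a Sylow subgroup of the normalizer containing `P ∩ N`
  have hPNp : IsPGroup p ((P : Subgroup G).subgroupOf (Subgroup.normalizer (D : Set G))) :=
    P.isPGroup'.comap_subtype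
  obtain ⟨Q₁, hQ₁⟩ := hPNp.exists_le_sylow
  obtain ⟨x, hxreg, hxcomm, hxval, hxint⟩ := green_normal p M hM b hb
    (D.subgroupOf (Subgroup.normalizer (D : Set G))) hbD Q₁
  have hxc : ∀ u ∈ D, u * (x : G) = (x : G) * u := by
    intro u hu
    have h1 := hxcomm ⟨u, hDN hu⟩ (by rw [Subgroup.mem_subgroupOf]; exact hu)
    exact congrArg Subtype.val h1
  have hDK : D ≤ Subgroup.centralizer ({(x : G)} : Set G) := by
    intro u hu
    rw [Subgroup.mem_centralizer_singleton_iff]
    exact hxc u hu
  refine ⟨(x : G), ?_, ?_, ?_⟩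
  · rw [Subgroup.orderOf_coe]
    exact hxreg
  · -- `D` is a Sylow subgroup of the centralizer of `x`
    have hle : D ≤ Subgroup.centralizer ({(x : G)} : Set G) ⊓ Subgroup.normalizer (D : Set G) :=
      le_inf hDK hDN
    have hcardD' : Nat.card (D.subgroupOf
        (Subgroup.centralizer ({(x : G)} : Set G) ⊓ Subgroup.normalizer (D : Set G))) =
        Nat.card D := Nat.card_congr (Subgroup.subgroupOfEquivOfLe hle).toEquiv
    -- cardinality of `C_N(x)`
    have hcardC : Nat.card ↥(Subgroup.centralizer ({(x : G)} : Set G) ⊓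
        Subgroup.normalizer (D : Set G)) =
        Nat.card (Subgroup.centralizer ({x} : Set (Subgroup.normalizer (D : Set G)))) := by
      apply Nat.card_congr
      refine ⟨fun k => ⟨⟨k.1, (Subgroup.mem_inf.mp k.2).2⟩, ?_⟩,
        fun k => ⟨k.1.1, Subgroup.mem_inf.mpr ⟨?_, k.1.2⟩⟩, ?_, ?_⟩
      · have h1 := (Subgroup.mem_inf.mp k.2).1
        rw [Subgroup.mem_centralizer_singleton_iff] at h1 ⊢
        exact Subtype.ext h1
      · have h1 := k.2
        rw [Subgroup.mem_centralizer_singleton_iff] at h1 ⊢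
        exact congrArg Subtype.val h1
      · intro k; rfl
      · intro k; rfl
    have hcardDN : Nat.card (D.subgroupOf (Subgroup.normalizer (D : Set G))) = Nat.card D :=
      Nat.card_congr (Subgroup.subgroupOfEquivOfLe hDN).toEquiv
    obtain ⟨n, hn⟩ := IsPGroup.iff_card.mp hDp
    have hcard : Nat.card (D.subgroupOf
        (Subgroup.centralizer ({(x : G)} : Set G) ⊓ Subgroup.normalizer (D : Set G))) =
        p ^ (Nat.card ↥(Subgroup.centralizer ({(x : G)} : Set G) ⊓
          Subgroup.normalizer (D : Set G))).factorization p := by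
      rw [hcardD', hcardC, hxval, hcardDN, hn]
      simp [hp.factorization]
    exact Cfsg.Agent.S0916.lemmaC p D hDp _ hDK (Sylow.ofCard _ hcard)
      (by rw [Sylow.coe_ofCard]; exact Subgroup.map_subgroupOf_eq_of_le (le_inf hDK hDN))
  · symm
    apply Cfsg.Agent.S0916.lemmaB p D _ (P.isPGroup'.to_le inf_le_left)
    · apply le_inf hDP
      intro u hu
      rw [mem_map_conj_iff]
      have h1 := hxc u hu
      have h2 : (x : G)⁻¹ * u * (x : G) = u := by
        rw [mul_assoc, h1]; group
      rw [h2]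
      exact hDP hu
    · intro r hr
      obtain ⟨hr1, hr2⟩ := Subgroup.mem_inf.mp hr
      obtain ⟨hrP, hrx⟩ := Subgroup.mem_inf.mp hr1
      rw [mem_map_conj_iff] at hrx
      have h1 : (⟨r, hr2⟩ : Subgroup.normalizer (D : Set G)) ∈
          (Q₁ : Subgroup (Subgroup.normalizer (D : Set G))) ⊓
          (Q₁ : Subgroup (Subgroup.normalizer (D : Set G))).map (MulAut.conj x).toMonoidHom := by
        refine Subgroup.mem_inf.mpr ⟨hQ₁ (by rw [Subgroup.mem_subgroupOf]; exact hrP), ?_⟩
        rw [mem_map_conj_iff]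
        apply hQ₁
        rw [Subgroup.mem_subgroupOf]
        exact hrx
      rw [hxint, Subgroup.mem_subgroupOf] at h1
      exact h1

end Cfsg.Agent.S0956
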