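import Cfsg.Statements.S4652
import Cfsg.Agent.Lib.Helper77.DefectGroup

set_option autoImplicit false
open Cfsg
open scoped Pointwise

namespace Cfsg.Agent.S4652

/-- Fix a prime p and a maximal ideal M of the algebraic integers containing p. The defect groups of the principal p-block of a finite group G are exactly the Sylow p-subgroups of G: a subgroup D is a defect group of the principal block if and only if D is a Sylow p-subgroup. -/
theorem result {G : Type*} [Group G] [Fintype G] (p : ℕ) [Fact p.Prime] (M : Ideal Cfsg.AlgInt) (hM : Cfsg.IsPModular p M) (D : Subgroup G) : Cfsg.IsDefectGroup p M (Cfsg.principalBlock M G) D ↔ ∃ S : Sylow p G, (S : Subgroup G) = D := by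
  have hMp : M.IsPrime := Cfsg.Agent.Lib.Helper81.isPrime_of_isPModular hM
  -- a defect class of the principal block has centralizer of index prime to `p`
  have hidx : ∀ g : G, Cfsg.IsDefectClass M (Cfsg.principalBlock M G) g →
      ¬ p ∣ (Subgroup.centralizer ({g} : Set G)).index := by
    intro g hg hdvd
    have h3 := hg.2.2 (Cfsg.Agent.Lib.Helper81.oneIrr G)
      (Cfsg.Agent.Lib.Helper81.oneIrr_mem_principalBlock hMp)
    apply h3
    have : Cfsg.centralChar ((Cfsg.Agent.Lib.Helper81.oneIrr G : Cfsg.IrrCharacter G) : G → ℂ) g =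
        ((Subgroup.centralizer ({g} : Set G)).index : ℂ) :=
      Cfsg.Agent.Lib.Helper81.centralChar_one g
    rw [this]
    exact (Cfsg.Agent.Lib.Helper81.memLocalIdeal_natCast_iff hM _).mpr hdvd
  constructor
  · intro hD
    rw [Cfsg.Agent.Lib.Helper77.isDefectGroup_iff] at hD
    obtain ⟨g, hg, _, hcard⟩ := hD
    rw [Cfsg.Agent.Lib.Helper77.factorization_card_of_not_dvd_index _ (hidx g hg)] at hcard
    exact ⟨Sylow.ofCard D hcard, Sylow.coe_ofCard D hcard⟩
  · rintro ⟨S, rfl⟩
    obtain ⟨D₀, hD₀⟩ := Cfsg.Agent.Lib.Helper77.exists_isDefectGroup (p := p) hM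
      (Cfsg.Agent.Lib.Helper81.oneIrr G)
    have hD₀' : Cfsg.IsDefectGroup p M (Cfsg.principalBlock M G) D₀ := hD₀
    have hD₀'' := hD₀'
    rw [Cfsg.Agent.Lib.Helper77.isDefectGroup_iff] at hD₀''
    obtain ⟨g, hg, _, hcard⟩ := hD₀''
    rw [Cfsg.Agent.Lib.Helper77.factorization_card_of_not_dvd_index _ (hidx g hg)] at hcard
    obtain ⟨x, hx⟩ := MulAction.exists_smul_eq G (Sylow.ofCard D₀ hcard) S
    have := Cfsg.Agent.Lib.Helper77.isDefectGroup_conj hD₀' x
    have e : (S : Subgroup G) = MulAut.conj x • D₀ := by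
      rw [← hx, Sylow.coe_subgroup_smul, Sylow.coe_ofCard]
    rw [e]
    exact this

end Cfsg.Agent.S4652
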