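import Cfsg.Statements.S5605
import Cfsg.Agent.Lib.Helper93.Classes

set_option autoImplicit false
open scoped Pointwise
open Cfsg

namespace Cfsg.Agent.S5605

open Cfsg.Agent.Lib.Helper93 Cfsg.Agent.Lib.Helper93.Golay

def A0 : ℕ := 944319304547998642267612847938832416
def invTable : List (ℕ × ℕ) := [(984818244535754528103549039458486304, 0), (608167165260361641911015062699608096, 0), (725895487971383339971559185675552800, 0), (260169027461259500880655131087046688, 0), (484779504598900739471956968959215648, 0), (944319304547998642267612847938832416, 589999025926325317226566298913450049), (592380006640023600238759116057708576, 0), (220213109803259289183002082616117280, 926119243584712993686646062513795074), (734193695561696696727012081653614624, 0), (233256162770680474255234529480509472, 0), (590072960059042287979885064796342304, 922334321544881698107295091804603498), (972606645568131968584696805283956768, 0), (645971039647582928216486911676614688, 0), (681942991418186671700734416290678816, 886916270184499126696690276195703938), (341050705022823791076430286248052768, 0), (812852730107173232200347929486133280, 229017898895880066746431680129764481),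 (637575554806371494695470741007206432, 0), (351355605056243205221527583111350304, 0), (358662142733855540651195105552730144, 480842197029498057012582227206245511), (693746729602969859613000454004377632, 0), (796272651614488101787381665936541728, 0), (479663310730678034207776437455390752, 894014763150598301442602019146727522), (399377704341898151808080305612490784, 0), (930943920660663948730329567529633824, 0), (231686213159500301704167581341026336, 0), (976531636853126291160407323722221600, 0), (720981692062171673584743151055243296, 644561397567280309266576071997791556), (380679813245078647833929983948064800, 851193377544438754387104987688770570), (477149684114315024567765310665492512, 0), (275888336415583309645661167182514208, 0), (894746484934289125327969612694915104, 0), (839189432063784999460430720348031008, 0), (772944516003414818434737759861180448, 609553221813938086895816846699994144), (570109986616782138932769284593649696, 0), (760033286391170187665230726437111840, 0), (841384528646309054241536335100872736, 770131269676793358295742822778772864), (569346817558524578111400892262615072, 0), (892716570080838209712931004353710112, 797592461780868197638802560533270529),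 (754655545202909480824058658477410336, 0), (886929711944160005978619293296855072, 0), (561475773312554808336860583768983584, 608240762902218846796025826178639911), (849847670871825776943761462759884832, 0), (695226755442639250267515720785037344, 0), (651239579074641248992907580101724192, 686943199810730939907292859808619562), (801631358534969762014396067323414560, 0), (398162063758950117529135096646436896, 0), (268195153026948482477577069584812064, 963847342080353040541431352094238816), (935448248327800417350548951748675616, 0)]

theorem A0_ok : isAutC A0 = true := by decide +kernel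

/-- The coded map is not an involution (its square is not the identity, or it is the identity). -/
def notInv (S : ℕ) : Bool :=
  !((List.range 24).all fun i => Nat.beq (papp S (papp S i)) i) ||
    (List.range 24).all fun i => Nat.beq (papp S i) i

theorem invTable_fst : invTable.map Prod.fst = H5list := by decide +kernel

theorem invTable_ok : invTable.all (fun SU => notInv SU.1 ||
    (isAutC SU.2 && conjChkF SU.2 (papp A0) (papp SU.1))) = true := by decide +kernel

set_option maxRecDepth 1000000 in
theorem cntA : (octList.filter fun l => Nat.beq (pmask A0 l) l).length = 71 ∧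
    (trioList.filter fun l => beqL (actL A0 l) l).length = 99 ∧
    (sextetList.filter fun l => beqL (actL A0 l) l).length = 91 := by decide +kernel

theorem counts_std : {o : Finset GolayPt | o ∈ octads ∧ permC A0 • o = o}.ncard = 71 ∧
    {T : Finset (Finset GolayPt) | T ∈ trios ∧ permC A0 • T = T}.ncard = 99 ∧
    {S : Finset (Finset GolayPt) | S ∈ sextets ∧ permC A0 • S = S}.ncard = 91 := by
  have hA := isPerm_of_isAutC A0_ok
  refine ⟨?_, ?_, ?_⟩
  · have := ncard_fixed_set octFamily hA
    rw [show (octFamily.L.filter fun l => Nat.beq (pmask A0 l) l).length = 71 from cntA.1] at this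
    exact this
  · have := ncard_fixed_fam trioFamily hA
    rw [show (trioFamily.L.filter fun l => beqL (actL A0 l) l).length = 99 from cntA.2.1] at this
    exact this
  · have := ncard_fixed_fam sextetFamily hA
    rw [show (sextetFamily.L.filter fun l => beqL (actL A0 l) l).length = 91
      from cntA.2.2] at this
    exact this

/-- An involution of `M24` fixing the points of indices `0, …, 4` is conjugate to the standard
one. -/
theorem inv_conj_std {g' : Equiv.Perm GolayPt} (hg' : g' ∈ Hfix 31) (h2 : g' * g' = 1)
    (h1 : g' ≠ 1) : ∃ v ∈ M24, g' = v * permC A0 * v⁻¹ := by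
  obtain ⟨S, hS, rfl⟩ := H5_complete hg'
  have hSok := List.all_eq_true.1 H5_ok S hS
  rw [Bool.and_eq_true] at hSok
  have hSP := isPerm_of_isAutC hSok.1
  have hSmem : S ∈ invTable.map Prod.fst := by rw [invTable_fst]; exact hS
  obtain ⟨⟨S', U⟩, hSU, hS'⟩ := List.mem_map.1 hSmem
  simp only at hS'
  subst hS'
  have hchk := List.all_eq_true.1 invTable_ok _ hSU
  simp only [Bool.or_eq_true] at hchk
  rcases hchk with hni | hconj
  · exfalso
    unfold notInv at hni
    rw [Bool.or_eq_true] at hni
    rcases hni with hni | hni
    · have hall : (List.range 24).all (fun i => Nat.beq (papp S' (papp S' i)) i) = true := by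
        rw [List.all_eq_true]
        intro i hi
        have hi' := List.mem_range.1 hi
        have e := congrArg (fun f : Equiv.Perm GolayPt => ((ptIdx (f (ptOf ⟨i, hi'⟩)) : Fin 24) : ℕ)) h2
        simp only [Equiv.Perm.mul_apply, Equiv.Perm.one_apply] at e
        rw [ptIdx_permC hSP, ptIdx_permC hSP, ptIdx_ptOf] at e
        simp only at e
        rw [e]
        exact Nat.beq_refl i
      rw [hall] at hni
      simp at hni
    · exact h1 (permC_eq_one hSP hni)
  · rw [Bool.and_eq_true] at hconj
    refine ⟨permC U, permC_mem_M24 hconj.1, ?_⟩
    exact conj_of_chk (isPerm_of_isAutC hconj.1)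
      (fun p => ptIdx_permC (isPerm_of_isAutC A0_ok) p) (fun p => ptIdx_permC hSP p) hconj.2

/-- An involution of the group of the length-24 code with exactly 8 fixed points maps to themselves exactly 71 octads, exactly 99 trios and exactly 91 sextets. -/
theorem result (g : Equiv.Perm Cfsg.GolayPt) (hg : g ∈ Cfsg.M24) (h₂ : orderOf g = 2) (h₈ : (Finset.univ.filter fun p => g p = p).card = 8) : {o : Finset Cfsg.GolayPt | o ∈ Cfsg.octads ∧ g • o = o}.ncard = 71 ∧ {T : Finset (Finset Cfsg.GolayPt) | T ∈ Cfsg.trios ∧ g • T = T}.ncard = 99 ∧ {S : Finset (Finset Cfsg.GolayPt) | S ∈ Cfsg.sextets ∧ g • S = S}.ncard = 91 := by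
  obtain ⟨q, hqF, hqinj, hqsurj⟩ := exists_enum _ 8 (by norm_num) h₈
  have hqfix : ∀ i, g (q i) = q i := fun i => (Finset.mem_filter.1 (hqF i)).2
  have hg2 : g * g = 1 := by
    have := pow_orderOf_eq_one g
    rw [h₂, pow_two] at this
    exact this
  have hg1 : g ≠ 1 := by
    intro h
    rw [h, orderOf_one] at h₂
    norm_num at h₂
  obtain ⟨u, hu, hu5⟩ := exists_M24_map q
    (fun i j hi hj h => hqinj i j (by omega) (by omega) h) 5 (le_refl 5)
  have hmem : u⁻¹ * g * u ∈ Hfix 31 := by
    refine ⟨M24.mul_mem (M24.mul_mem (M24.inv_mem hu) hg) hu, fun r hr => ?_⟩
    rw [Equiv.Perm.mul_apply, Equiv.Perm.mul_apply]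
    rw [mem_fset] at hr
    have hi : ((ptIdx r : Fin 24) : ℕ) < 5 := by
      have key : ∀ x : Fin 24, (31 : ℕ).testBit x = true → (x : ℕ) < 5 := by decide
      exact key _ hr
    have hr' : r = P (ptIdx r) (by omega) := (P_ptIdx r).symm
    rw [hr', hu5 _ hi, hqfix, ← hu5 _ hi]
    simp
  have h2' : (u⁻¹ * g * u) * (u⁻¹ * g * u) = 1 := by
    have : (u⁻¹ * g * u) * (u⁻¹ * g * u) = u⁻¹ * (g * g) * u := by group
    rw [this, hg2]; group
  have h1' : u⁻¹ * g * u ≠ 1 := by
    intro h
    apply hg1
    have : g = u * (u⁻¹ * g * u) * u⁻¹ := by group
    rw [this, h]; group
  obtain ⟨v, hv, hgv⟩ := inv_conj_std hmem h2' h1'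
  have hgg' : g = (u * v) * permC A0 * (u * v)⁻¹ := by
    have : g = u * (u⁻¹ * g * u) * u⁻¹ := by group
    rw [this, hgv]; group
  have huv : u * v ∈ M24 := M24.mul_mem hu hv
  obtain ⟨c1, c2, c3⟩ := counts_std
  refine ⟨?_, ?_, ?_⟩
  · rw [ncard_fixed_conj octads octFamily.inv huv hgg']; exact c1
  · rw [ncard_fixed_conj trios trioFamily.inv huv hgg']; exact c2
  · rw [ncard_fixed_conj sextets sextetFamily.inv huv hgg']; exact c3

end Cfsg.Agent.S5605
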