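import Cfsg.Statements.S5656

set_option autoImplicit false
open Cfsg

namespace Cfsg.Agent.S5656

open scoped Matrix

set_option linter.unusedSectionVars false
set_option linter.unnecessarySimpa false
set_option linter.style.haveILetI false

variable {F : Type*} [Field F] {n : ℕ}

section field4
variable [Fintype F]

lemma f4_two (hF : Fintype.card F = 4) : (2 : F) = 0 := by
  have h4 : (4 : F) = 0 := by
    have := card_nsmul_eq_zero (G := F) (x := 1)
    rw [hF] at this
    simpa using this
  have : (2 : F) * 2 = 0 := by rw [← h4]; norm_num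
  exact mul_self_eq_zero.mp this

lemma f4_pow4 (hF : Fintype.card F = 4) (x : F) : x ^ 4 = x := by
  have := FiniteField.pow_card x
  rwa [hF] at this

lemma f4_exists (hF : Fintype.card F = 4) : ∃ w : F, w ≠ 0 ∧ w ≠ 1 := by
  classical
  by_contra hcon
  push Not at hcon
  have hsub : (Finset.univ : Finset F) ⊆ {0, 1} := by
    intro x _
    by_cases hx : x = 0
    · simp [hx]
    · simp [hcon x hx]
  have := Finset.card_le_card hsub
  rw [Finset.card_univ, hF] at this
  have h2 : ({0, 1} : Finset F).card ≤ 2 := Finset.card_insert_le _ _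
  omega

end field4

section herm
variable (h2 : (2 : F) = 0) (h4 : ∀ x : F, x ^ 4 = x)

/-- abbreviation for the hermitian form -/
abbrev H (u v : Fin n → F) : F := hermForm n F 2 u v

lemma H_def (u v : Fin n → F) : H u v = ∑ i, u i * (v i) ^ 2 := rfl

lemma H_add_left (u u' v : Fin n → F) : H (u + u') v = H u v + H u' v := by
  simp only [H_def, Pi.add_apply, add_mul, Finset.sum_add_distrib]

lemma H_smul_left (c : F) (u v : Fin n → F) : H (c • u) v = c * H u v := by
  simp only [H_def, Pi.smul_apply, smul_eq_mul, Finset.mul_sum, mul_assoc]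

include h2 in
lemma sq_add' (x y : F) : (x + y) ^ 2 = x ^ 2 + y ^ 2 := by
  have : (x + y) ^ 2 = x ^ 2 + y ^ 2 + 2 * (x * y) := by ring
  rw [this, h2, zero_mul, add_zero]

include h2 in
lemma add_self' (x : F) : x + x = 0 := by
  rw [← two_mul, h2, zero_mul]

include h2 in
lemma vadd_self' {V : Type*} [AddCommGroup V] [Module F V] (v : V) : v + v = 0 := by
  rw [← two_smul F v, h2, zero_smul]

include h2 in
lemma H_add_right (u v v' : Fin n → F) : H u (v + v') = H u v + H u v' := by
  simp only [H_def, Pi.add_apply, sq_add' h2, mul_add, Finset.sum_add_distrib]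

lemma H_smul_right (c : F) (u v : Fin n → F) : H u (c • v) = c ^ 2 * H u v := by
  simp only [H_def, Pi.smul_apply, smul_eq_mul, Finset.mul_sum]
  apply Finset.sum_congr rfl; intro i _; ring

include h2 in
lemma sum_sq' {ι : Type*} (s : Finset ι) (f : ι → F) : (∑ i ∈ s, f i) ^ 2 = ∑ i ∈ s, (f i) ^ 2 := by
  classical
  induction s using Finset.induction_on with
  | empty => simp
  | insert a s ha ih => rw [Finset.sum_insert ha, Finset.sum_insert ha, sq_add' h2, ih]

include h2 h4 in
lemma H_symm (u v : Fin n → F) : H v u = (H u v) ^ 2 := by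
  rw [H_def, H_def, sum_sq' h2]
  apply Finset.sum_congr rfl; intro i _
  rw [mul_pow, ← pow_mul, h4, mul_comm]

lemma H_zero_left (v : Fin n → F) : H 0 v = 0 := by
  have := H_smul_left (0 : F) v v
  simpa using this

lemma H_zero_right (v : Fin n → F) : H v 0 = 0 := by
  have := H_smul_right (0 : F) v v
  simpa using this

include h2 h4 in
lemma H_self_01 (v : Fin n → F) : H v v = 0 ∨ H v v = 1 := by
  have := H_symm h2 h4 v v
  have h : H v v * (H v v - 1) = 0 := by rw [mul_sub, mul_one, ← sq, ← this, sub_self]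
  rcases mul_eq_zero.mp h with h | h
  · left; exact h
  · right; exact sub_eq_zero.mp h

include h4 in
lemma cube_one {x : F} (hx : x ≠ 0) : x ^ 3 = 1 := by
  have h := h4 x
  have : x * (x ^ 3 - 1) = 0 := by rw [mul_sub, mul_one, ← pow_succ', h, sub_self]
  rcases mul_eq_zero.mp this with h | h
  · exact absurd h hx
  · exact sub_eq_zero.mp h

end herm

section transv
variable (h2 : (2 : F) = 0) (h4 : ∀ x : F, x ^ 4 = x)

lemma T_mulVec (v x : Fin n → F) :
    unitaryTransvection n 2 v (1 : F) *ᵥ x = x + (H x v) • v := by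
  unfold unitaryTransvection
  rw [Matrix.add_mulVec, Matrix.one_mulVec, Matrix.smul_mulVec, Matrix.vecMulVec_mulVec, one_smul]
  congr 1
  have : (fun j => v j ^ 2) ⬝ᵥ x = H x v := by
    rw [H_def, dotProduct]
    apply Finset.sum_congr rfl; intro i _; ring
  rw [this]
  simp

include h2 in
lemma T_mul_self (v : Fin n → F) (hv : H v v = 0) :
    unitaryTransvection n 2 v (1 : F) * unitaryTransvection n 2 v (1 : F) = 1 := by
  unfold unitaryTransvection
  have hN : Matrix.vecMulVec v (fun j => v j ^ 2) * Matrix.vecMulVec v (fun j => v j ^ 2) = 0 := by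
    rw [Matrix.vecMulVec_mul_vecMulVec]
    have : (fun j => v j ^ 2) ⬝ᵥ v = H v v := by
      rw [H_def, dotProduct]
      apply Finset.sum_congr rfl; intro i _; ring
    rw [this, hv]
    simp
  rw [one_smul, mul_add, add_mul, add_mul, one_mul, mul_one, one_mul, hN, add_zero, add_assoc, ← two_smul F,
    h2, zero_smul, add_zero]

/-- the transvection as an invertible matrix -/
noncomputable def tGL (v : Fin n → F) (hv : H v v = 0) : Matrix.GeneralLinearGroup (Fin n) F :=
  ⟨unitaryTransvection n 2 v (1 : F), unitaryTransvection n 2 v (1 : F), T_mul_self h2 v hv, T_mul_self h2 v hv⟩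

lemma tGL_mulVec (v : Fin n → F) (hv : H v v = 0) (x : Fin n → F) :
    (tGL h2 v hv : Matrix (Fin n) (Fin n) F) *ᵥ x = x + (H x v) • v := T_mulVec v x

lemma mem_GU (g : Matrix.GeneralLinearGroup (Fin n) F) : g ∈ GU n F 2 ↔
    ∀ u v, H ((g : Matrix (Fin n) (Fin n) F) *ᵥ u) ((g : Matrix (Fin n) (Fin n) F) *ᵥ v) = H u v :=
  Iff.rfl

include h4 in
lemma tGL_mem_GU (v : Fin n → F) (hv : H v v = 0) : tGL h2 v hv ∈ GU n F 2 := by
  rw [mem_GU]
  intro x y
  rw [tGL_mulVec, tGL_mulVec]
  simp only [H_add_left, H_add_right h2, H_smul_left, H_smul_right, hv]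
  rw [H_symm h2 h4 y v]
  have := add_self' h2 (H x v * H y v ^ 2)
  linear_combination this

lemma tGL_mem_SL (v : Fin n → F) (hv : H v v = 0) : tGL h2 v hv ∈ Geo.specialLinear (Fin n) F := by
  unfold Geo.specialLinear
  rw [MonoidHom.mem_ker]
  apply Units.ext
  rw [Matrix.GeneralLinearGroup.val_det_apply]
  show (unitaryTransvection n 2 v (1 : F)).det = 1
  unfold unitaryTransvection
  rw [one_smul, Matrix.vecMulVec_eq Unit, Matrix.det_one_add_replicateCol_mul_replicateRow]
  have : (fun j => v j ^ 2) ⬝ᵥ v = H v v := by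
    rw [H_def, dotProduct]
    apply Finset.sum_congr rfl; intro i _; ring
  rw [this, hv, add_zero]

end transv

section geom
variable (h2 : (2 : F) = 0) (h4 : ∀ x : F, x ^ 4 = x)
variable (W : Submodule F (Fin n → F)) (hdim : Module.finrank F W = 2)
  (hnd : Geo.IsNondegenerateOn (hermForm n F 2) W)

include h2 h4 hdim hnd in
lemma L1 {a z : Fin n → F} (ha : a ∈ W) (hz : z ∈ W) (haa : H a a ≠ 0) (hza : H z a = 0)
    (hzz : H z z = 0) : z = 0 := by
  by_contra hz0
  have hli : LinearIndependent F ![a, z] := by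
    rw [LinearIndependent.pair_iff]
    intro α β hab
    have h1 : H (α • a + β • z) a = 0 := by rw [hab, H_zero_left]
    rw [H_add_left, H_smul_left, H_smul_left, hza, mul_zero, add_zero] at h1
    have hα : α = 0 := by
      rcases mul_eq_zero.mp h1 with h | h
      · exact h
      · exact absurd h haa
    subst hα
    rw [zero_smul, zero_add] at hab
    rcases smul_eq_zero.mp hab with h | h
    · exact ⟨rfl, h⟩
    · exact absurd h hz0
  have hspan : Submodule.span F (Set.range ![a, z]) = W := by
    apply Submodule.eq_of_le_of_finrank_eq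
    · rw [Submodule.span_le]
      rintro x ⟨i, rfl⟩
      fin_cases i
      · exact ha
      · exact hz
    · rw [finrank_span_eq_card hli, hdim]; simp
  obtain ⟨⟨x, hxW, hx⟩, _⟩ := hnd z hz hz0
  rw [← hspan] at hxW
  have hr : Set.range ![a, z] = {a, z} := by
    ext y; simp [eq_comm, or_comm]
  rw [hr, Submodule.mem_span_pair] at hxW
  obtain ⟨α, β, rfl⟩ := hxW
  apply hx
  show H (α • a + β • z) z = 0
  rw [H_add_left, H_smul_left, H_smul_left, hzz, H_symm h2 h4 z a, hza]
  simp

include h2 h4 hdim hnd in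
lemma exists_nonisotropic (hw : ∃ w : F, w ≠ 0 ∧ w ≠ 1) : ∃ a ∈ W, H a a = 1 := by
  by_contra hcon
  push Not at hcon
  have hiso : ∀ a ∈ W, H a a = 0 := by
    intro a ha
    rcases H_self_01 h2 h4 a with h | h
    · exact h
    · exact absurd h (hcon a ha)
  have hsym : ∀ u ∈ W, ∀ v ∈ W, H u v = (H u v) ^ 2 := by
    intro u hu v hv
    have := hiso (u + v) (W.add_mem hu hv)
    rw [H_add_left, H_add_right h2, H_add_right h2, hiso u hu, hiso v hv, zero_add, add_zero,
      H_symm h2 h4 u v] at this
    have h' := add_self' h2 (H u v ^ 2)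
    linear_combination this - h'
  have hzero : ∀ u ∈ W, ∀ v ∈ W, H u v = 0 := by
    intro u hu v hv
    by_contra hne
    obtain ⟨w, hw0, hw1⟩ := hw
    have e1 := hsym u hu v hv
    have e2 := hsym (w • u) (W.smul_mem w hu) v hv
    rw [H_smul_left] at e2
    have h1 : H u v = 1 := by
      have : H u v * (H u v - 1) = 0 := by linear_combination -e1
      rcases mul_eq_zero.mp this with h | h
      · exact absurd h hne
      · exact sub_eq_zero.mp h
    rw [h1, mul_one] at e2
    have : w * (w - 1) = 0 := by linear_combination -e2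
    rcases mul_eq_zero.mp this with h | h
    · exact hw0 h
    · exact hw1 (sub_eq_zero.mp h)
  have hne : W ≠ ⊥ := by
    intro hbot
    rw [hbot, finrank_bot] at hdim
    omega
  obtain ⟨a, ha, ha0⟩ := Submodule.exists_mem_ne_zero_of_ne_bot hne
  obtain ⟨⟨x, hx, hxa⟩, _⟩ := hnd a ha ha0
  exact hxa (hzero x hx a ha)

include h2 h4 hdim hnd in
lemma exists_perp {a : Fin n → F} (ha : a ∈ W) (haa : H a a = 1) :
    ∃ a' ∈ W, H a' a = 0 ∧ H a' a' = 1 := by
  have ha0 : a ≠ 0 := by
    intro h; rw [h, H_zero_left] at haa; exact zero_ne_one haa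
  have hlt : Submodule.span F {a} < W := by
    rw [lt_iff_le_and_ne]
    refine ⟨by rw [Submodule.span_singleton_le_iff_mem]; exact ha, ?_⟩
    intro heq
    have := finrank_span_singleton (K := F) ha0
    rw [heq, hdim] at this
    omega
  obtain ⟨w, hwW, hwn⟩ := SetLike.exists_of_lt hlt
  refine ⟨w + (H w a) • a, W.add_mem hwW (W.smul_mem _ ha), ?_, ?_⟩
  · rw [H_add_left, H_smul_left, haa, mul_one, add_self' h2]
  · have hmem : w + (H w a) • a ∈ W := W.add_mem hwW (W.smul_mem _ ha)
    have hperp : H (w + (H w a) • a) a = 0 := by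
      rw [H_add_left, H_smul_left, haa, mul_one, add_self' h2]
    rcases H_self_01 h2 h4 (w + (H w a) • a) with h | h
    · exfalso
      have hz := L1 h2 h4 W hdim hnd ha hmem (by rw [haa]; exact one_ne_zero) hperp h
      apply hwn
      rw [Submodule.mem_span_singleton]
      refine ⟨H w a, ?_⟩
      have h' : w + (H w a) • a + (H w a) • a = (H w a) • a := by rw [hz, zero_add]
      rw [add_assoc, ← add_smul, add_self' h2, zero_smul, add_zero] at h'
      exact h'.symm
    · exact h

include h2 h4 hdim hnd in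
lemma L2 {a x : Fin n → F} (ha : a ∈ W) (hx : x ∈ W) (haa : H a a = 1) (hxx : H x x ≠ 0)
    (hxa : H x a ≠ 0) : x = (H x a) • a := by
  have hxx1 : H x x = 1 := by
    rcases H_self_01 h2 h4 x with h | h
    · exact absurd h hxx
    · exact h
  have hc := cube_one h4 hxa
  have hz : x + (H x a) • a = 0 := by
    apply L1 h2 h4 W hdim hnd ha (W.add_mem hx (W.smul_mem _ ha)) (by rw [haa]; exact one_ne_zero)
    · rw [H_add_left, H_smul_left, haa, mul_one, add_self' h2]
    · rw [H_add_left, H_add_right h2, H_add_right h2, H_smul_left, H_smul_left, H_smul_right, H_smul_right,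
        haa, hxx1, H_symm h2 h4 x a]
      have e2 := add_self' h2 (1 : F)
      have e3 := add_self' h2 (H x a ^ 3)
      linear_combination (1 : F) * hc + e2 + e3
  have h' : x + (H x a) • a + (H x a) • a = (H x a) • a := by rw [hz, zero_add]
  rw [add_assoc, ← add_smul, add_self' h2, zero_smul, add_zero] at h'
  exact h'

end geom

section decomp
variable {t : ℕ}

/-- component maps of an internal direct sum -/
noncomputable def compL (D : Fin t → Submodule F (Fin n → F)) (h : DirectSum.IsInternal D) (i : Fin t) :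
    (Fin n → F) →ₗ[F] (Fin n → F) :=
  letI := h.chooseDecomposition
  (D i).subtype ∘ₗ (DirectSum.component F (Fin t) (fun i => D i) i) ∘ₗ
    (DirectSum.decomposeLinearEquiv D).toLinearMap

variable (D : Fin t → Submodule F (Fin n → F)) (h : DirectSum.IsInternal D)

lemma compL_eq (i : Fin t) (v : Fin n → F) :
    compL D h i v = ((@DirectSum.decompose _ _ _ _ _ _ _ D h.chooseDecomposition v) i : Fin n → F) := rfl

lemma compL_same {i : Fin t} {v : Fin n → F} (hv : v ∈ D i) : compL D h i v = v := by
  letI := h.chooseDecomposition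
  rw [compL_eq]
  exact DirectSum.decompose_of_mem_same D hv

lemma compL_ne {i j : Fin t} {v : Fin n → F} (hv : v ∈ D i) (hij : i ≠ j) : compL D h j v = 0 := by
  letI := h.chooseDecomposition
  rw [compL_eq]
  exact DirectSum.decompose_of_mem_ne D hv hij

include h in
lemma eq_of_mem_mem {i j : Fin t} {v : Fin n → F} (hi : v ∈ D i) (hj : v ∈ D j) (hv : v ≠ 0) : i = j := by
  by_contra hij
  apply hv
  rw [← compL_same D h hj, compL_ne D h hi hij]

end decomp

lemma mem_decStab {t : ℕ} (D : Fin t → Submodule F (Fin n → F)) (g : Matrix.GeneralLinearGroup (Fin n) F) :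
    g ∈ Geo.decompositionStabilizer D ↔
      ∃ σ : Equiv.Perm (Fin t), ∀ i, (D i).map (Matrix.toLin' (g : Matrix (Fin n) (Fin n) F)) = D (σ i) := Iff.rfl

lemma mem_stab (S : Set (Fin n → F)) (g : Matrix.GeneralLinearGroup (Fin n) F) :
    g ∈ stabilizing (glToMat (Fin n) F) S ↔
      ∀ v, v ∈ S ↔ (g : Matrix (Fin n) (Fin n) F) *ᵥ v ∈ S := Iff.rfl

lemma mulVec_inj (g : Matrix.GeneralLinearGroup (Fin n) F) {v w : Fin n → F}
    (hvw : (g : Matrix (Fin n) (Fin n) F) *ᵥ v = (g : Matrix (Fin n) (Fin n) F) *ᵥ w) : v = w := by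
  have : ((g⁻¹ : Matrix.GeneralLinearGroup (Fin n) F) : Matrix (Fin n) (Fin n) F) *ᵥ
      ((g : Matrix (Fin n) (Fin n) F) *ᵥ v) =
      ((g⁻¹ : Matrix.GeneralLinearGroup (Fin n) F) : Matrix (Fin n) (Fin n) F) *ᵥ
      ((g : Matrix (Fin n) (Fin n) F) *ᵥ w) := by rw [hvw]
  rwa [Matrix.mulVec_mulVec, Matrix.mulVec_mulVec, ← Units.val_mul, inv_mul_cancel, Units.val_one,
    Matrix.one_mulVec, Matrix.one_mulVec] at this

theorem result {F : Type*} [Field F] [Fintype F] (n : ℕ) (hF : Fintype.card F = 4) (hn : 13 ≤ n) {t : ℕ} (D : Fin t → Submodule F (Fin n → F)) (hD : Cfsg.Geo.IsNondegenerateMDecomposition (Cfsg.hermForm n F 2) 2 D) : ∃ K : Subgroup (Matrix.GeneralLinearGroup (Fin n) F), Cfsg.Geo.decompositionStabilizer D ⊓ (Cfsg.GU n F 2 ⊓ Cfsg.Geo.specialLinear (Fin n) F) < K ∧ K < (Cfsg.GU n F 2 ⊓ Cfsg.Geo.specialLinear (Fin n) F) := by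
  have h2 := f4_two hF
  have h4 := f4_pow4 hF
  have hw := f4_exists hF
  have h : DirectSum.IsInternal D :=
    DirectSum.isInternal_submodule_of_iSupIndep_of_iSup_eq_top hD.decomp.indep hD.decomp.iSup_eq_top
  have ht := hD.decomp.two_le
  set i0 : Fin t := ⟨0, by omega⟩ with hi0
  set i1 : Fin t := ⟨1, by omega⟩ with hi1
  have h01 : i0 ≠ i1 := by simp [hi0, hi1, Fin.ext_iff]
  obtain ⟨a, ha, haa⟩ := exists_nonisotropic h2 h4 (D i0) (hD.decomp.finrank_eq i0) (hD.nondegenerate i0) hw
  obtain ⟨b, hb, hbb⟩ := exists_nonisotropic h2 h4 (D i1) (hD.decomp.finrank_eq i1) (hD.nondegenerate i1) hw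
  obtain ⟨a', ha', ha'a, ha'a'⟩ := exists_perp h2 h4 (D i0) (hD.decomp.finrank_eq i0) (hD.nondegenerate i0) ha haa
  obtain ⟨b', hb', hb'b, hb'b'⟩ := exists_perp h2 h4 (D i1) (hD.decomp.finrank_eq i1) (hD.nondegenerate i1) hb hbb
  have orth01 : ∀ x ∈ D i0, ∀ y ∈ D i1, H x y = 0 := fun x hx y hy => hD.orthogonal i0 i1 h01 x hx y hy
  have orth10 : ∀ x ∈ D i1, ∀ y ∈ D i0, H x y = 0 := fun x hx y hy => hD.orthogonal i1 i0 h01.symm x hx y hy
  have haa' : H a a' = 0 := by rw [H_symm h2 h4 a' a, ha'a]; simp
  have hbb' : H b b' = 0 := by rw [H_symm h2 h4 b' b, hb'b]; simp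
  have ha0 : a ≠ 0 := by intro h0; rw [h0, H_zero_left] at haa; exact zero_ne_one haa
  have hb0 : b ≠ 0 := by intro h0; rw [h0, H_zero_left] at hbb; exact zero_ne_one hbb
  have ha'0 : a' ≠ 0 := by intro h0; rw [h0, H_zero_left] at ha'a'; exact zero_ne_one ha'a'
  have e11 : (1 : F) + 1 = 0 := add_self' h2 1
  have hv0 : H (a + b) (a + b) = 0 := by
    rw [H_add_left, H_add_right h2, H_add_right h2, haa, hbb, orth01 a ha b hb, orth10 b hb a ha]
    simp [e11]
  have hv1 : H (a + a' + b + b') (a + a' + b + b') = 0 := by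
    simp only [H_add_left, H_add_right h2, haa, hbb, ha'a', hb'b', haa', ha'a, hbb', hb'b,
      orth01 a ha b hb, orth10 b hb a ha, orth01 a ha b' hb', orth10 b' hb' a ha,
      orth01 a' ha' b hb, orth10 b hb a' ha', orth01 a' ha' b' hb', orth10 b' hb' a' ha']
    linear_combination (2 : F) * e11
  set S : Set (Fin n → F) := {v | ∃ i, v ∈ D i ∧ H v v ≠ 0} with hS
  refine ⟨stabilizing (glToMat (Fin n) F) S ⊓ (GU n F 2 ⊓ Geo.specialLinear (Fin n) F), ?_, ?_⟩
  · rw [SetLike.lt_iff_le_and_exists]
    refine ⟨?_, tGL h2 (a + b) hv0, ?_, ?_⟩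
    · intro g hg
      rw [Subgroup.mem_inf] at hg ⊢
      refine ⟨?_, hg.2⟩
      obtain ⟨σ, hσ⟩ := (mem_decStab D g).1 hg.1
      have hGU := (mem_GU g).1 (Subgroup.mem_inf.1 hg.2).1
      rw [mem_stab]
      intro v
      constructor
      · rintro ⟨i, hvi, hvv⟩
        refine ⟨σ i, ?_, ?_⟩
        · rw [← hσ i, ← Matrix.toLin'_apply]
          exact Submodule.mem_map_of_mem hvi
        · rw [hGU v v]; exact hvv
      · rintro ⟨j, hgv, hgvv⟩
        refine ⟨σ.symm j, ?_, ?_⟩
        · have := hσ (σ.symm j)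
          rw [Equiv.apply_symm_apply] at this
          rw [← this] at hgv
          obtain ⟨w, hwD, hwe⟩ := Submodule.mem_map.1 hgv
          rw [Matrix.toLin'_apply] at hwe
          have := mulVec_inj g hwe
          rw [← this]; exact hwD
        · rw [← hGU v v]; exact hgvv
    · rw [Subgroup.mem_inf, Subgroup.mem_inf]
      refine ⟨?_, tGL_mem_GU h2 h4 _ _, tGL_mem_SL h2 _ _⟩
      have fwd : ∀ x ∈ S, (tGL h2 (a + b) hv0 : Matrix (Fin n) (Fin n) F) *ᵥ x ∈ S := by
        rintro x ⟨i, hx, hxx⟩
        rw [tGL_mulVec, H_add_right h2]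
        by_cases hi0' : i = i0
        · subst hi0'
          rw [orth01 x hx b hb, add_zero]
          by_cases hxa : H x a = 0
          · rw [hxa, zero_smul, add_zero]; exact ⟨i0, hx, hxx⟩
          · have hxe := L2 h2 h4 (D i0) (hD.decomp.finrank_eq i0) (hD.nondegenerate i0) ha hx haa hxx hxa
            have : x + H x a • (a + b) = H x a • b := by
              conv_lhs => rw [hxe]
              rw [H_smul_left, haa, mul_one, smul_add, ← add_assoc, ← add_smul, add_self' h2, zero_smul, zero_add]
            rw [this]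
            refine ⟨i1, (D i1).smul_mem _ hb, ?_⟩
            rw [H_smul_left, H_smul_right, hbb, mul_one, ← pow_succ', cube_one h4 hxa]
            exact one_ne_zero
        · by_cases hi1' : i = i1
          · subst hi1'
            rw [orth10 x hx a ha, zero_add]
            by_cases hxb : H x b = 0
            · rw [hxb, zero_smul, add_zero]; exact ⟨i1, hx, hxx⟩
            · have hxe := L2 h2 h4 (D i1) (hD.decomp.finrank_eq i1) (hD.nondegenerate i1) hb hx hbb hxx hxb
              have : x + H x b • (a + b) = H x b • a := by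
                conv_lhs => rw [hxe]
                rw [H_smul_left, hbb, mul_one, smul_add, add_comm (H x b • a), ← add_assoc, ← add_smul,
                  add_self' h2, zero_smul, zero_add]
              rw [this]
              refine ⟨i0, (D i0).smul_mem _ ha, ?_⟩
              rw [H_smul_left, H_smul_right, haa, mul_one, ← pow_succ', cube_one h4 hxb]
              exact one_ne_zero
          · have e1 : H x a = 0 := hD.orthogonal i i0 hi0' x hx a ha
            have e2 : H x b = 0 := hD.orthogonal i i1 hi1' x hx b hb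
            rw [e1, e2, add_zero, zero_smul, add_zero]
            exact ⟨i, hx, hxx⟩
      rw [mem_stab]
      intro v
      refine ⟨fwd v, fun hgv => ?_⟩
      have := fwd _ hgv
      rwa [Matrix.mulVec_mulVec, show (tGL h2 (a + b) hv0 : Matrix (Fin n) (Fin n) F) *
        (tGL h2 (a + b) hv0 : Matrix (Fin n) (Fin n) F) = 1 from T_mul_self h2 _ hv0, Matrix.one_mulVec] at this
    · intro hmem
      rw [Subgroup.mem_inf] at hmem
      obtain ⟨σ, hσ⟩ := (mem_decStab D _).1 hmem.1
      have hga : (tGL h2 (a + b) hv0 : Matrix (Fin n) (Fin n) F) *ᵥ a ∈ D (σ i0) := by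
        rw [← hσ i0, ← Matrix.toLin'_apply]
        exact Submodule.mem_map_of_mem ha
      have hga' : (tGL h2 (a + b) hv0 : Matrix (Fin n) (Fin n) F) *ᵥ a' ∈ D (σ i0) := by
        rw [← hσ i0, ← Matrix.toLin'_apply]
        exact Submodule.mem_map_of_mem ha'
      rw [tGL_mulVec, H_add_right h2, haa, orth01 a ha b hb, add_zero, one_smul, ← add_assoc, vadd_self' h2,
        zero_add] at hga
      rw [tGL_mulVec, H_add_right h2, ha'a, orth01 a' ha' b hb, add_zero, zero_smul, add_zero] at hga'
      have e1 := eq_of_mem_mem D h hga hb hb0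
      have e2 := eq_of_mem_mem D h hga' ha' ha'0
      exact h01 (e2.symm.trans e1)
  · rw [SetLike.lt_iff_le_and_exists]
    refine ⟨inf_le_right, tGL h2 (a + a' + b + b') hv1, ?_, ?_⟩
    · rw [Subgroup.mem_inf]
      exact ⟨tGL_mem_GU h2 h4 _ _, tGL_mem_SL h2 _ _⟩
    · intro hmem
      rw [Subgroup.mem_inf] at hmem
      have hst := (mem_stab S _).1 hmem.1 a
      have haS : a ∈ S := ⟨i0, ha, by rw [haa]; exact one_ne_zero⟩
      obtain ⟨j, hj, _⟩ := hst.1 haS
      rw [tGL_mulVec] at hj
      have hav : H a (a + a' + b + b') = 1 := by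
        simp only [H_add_right h2, haa, haa', orth01 a ha b hb, orth01 a ha b' hb']
        simp
      rw [hav, one_smul] at hj
      have hj' : a' + (b + b') ∈ D j := by
        have : a + (a + a' + b + b') = a' + (b + b') := by
          have e := vadd_self' (F := F) h2 a
          calc a + (a + a' + b + b') = (a + a) + (a' + (b + b')) := by abel
            _ = a' + (b + b') := by rw [e, zero_add]
        rwa [this] at hj
      have c0 : compL D h i0 (a' + (b + b')) = a' := by
        simp only [map_add]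
        rw [compL_same D h ha', compL_ne D h hb h01.symm, compL_ne D h hb' h01.symm]
        simp
      have c1 : compL D h i1 (a' + (b + b')) = b + b' := by
        simp only [map_add]
        rw [compL_ne D h ha' h01, compL_same D h hb, compL_same D h hb']
        simp
      have ej0 : j = i0 := by
        by_contra hne
        rw [compL_ne D h hj' hne] at c0
        exact ha'0 c0.symm
      have hbb0 : b + b' = 0 := by
        rw [← c1]
        exact compL_ne D h hj' (by rw [ej0]; exact h01)
      have : b' = b := by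
        have h' : b + b' + b = b := by rw [hbb0, zero_add]
        rw [add_comm b b', add_assoc, vadd_self' h2, add_zero] at h'
        exact h'
      rw [this, hbb] at hb'b
      exact one_ne_zero hb'b

end Cfsg.Agent.S5656
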