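import Cfsg.Statements.S0556
import Mathlib
import Cfsg.Agent.Lib.Helper10.Herstein
import Cfsg.Agent.Lib.Helper10.Frattini
import Cfsg.Agent.Lib.Helper96.FrobeniusThm

set_option autoImplicit false
open Cfsg

namespace Cfsg.Agent.S0556

open Pointwise
open scoped commutatorElement
open Cfsg.Agent.Lib.Helper10

theorem derived_three_eq_bot_of_le {G : Type*} [Group G] (Z : Subgroup G)
    (hZ : ∀ x ∈ Z, ∀ y ∈ Z, x * y = y * x)
    (h2 : derivedSeries G 2 ≤ Z) : derivedSeries G 3 = ⊥ := by
  rw [derivedSeries_succ, eq_bot_iff]
  have hZZ : ⁅Z, Z⁆ = ⊥ := by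
    rw [Subgroup.commutator_eq_bot_iff_le_centralizer]
    intro x hx
    rw [Subgroup.mem_centralizer_iff]
    intro y hy
    exact hZ y hy x hx
  rw [← hZZ]
  exact Subgroup.commutator_mono h2 h2

/-- in a quotient by a normal subgroup `K` complemented by an abelian `H`, commutators lie in `K` -/
theorem commutator_le_of_compl_abelian {Q : Type*} [Group Q] (K H : Subgroup Q) [hKn : K.Normal]
    (hKc : Subgroup.IsComplement' K H) (hHc : ∀ x ∈ H, ∀ y ∈ H, x * y = y * x) :
    (commutator Q) ≤ K := by
  have hdec : ∀ u : Q, ∃ h ∈ H, QuotientGroup.mk' K u = QuotientGroup.mk' K h := by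
    intro u
    have hu : u ∈ ((K ⊔ H : Subgroup Q) : Set Q) := by
      rw [hKc.sup_eq_top]; exact Subgroup.mem_top u
    rw [Subgroup.normal_mul] at hu
    obtain ⟨k, hk, h, hh, rfl⟩ := hu
    refine ⟨h, hh, ?_⟩
    rw [map_mul]
    have : QuotientGroup.mk' K k = 1 := (QuotientGroup.eq_one_iff k).mpr hk
    rw [this, one_mul]
  rw [commutator_def, Subgroup.commutator_le]
  intro u _ v _
  obtain ⟨h₁, hh₁, e₁⟩ := hdec u
  obtain ⟨h₂, hh₂, e₂⟩ := hdec v
  have h1 : QuotientGroup.mk' K ⁅u, v⁆ = 1 := by
    rw [map_commutatorElement, e₁, e₂, ← map_commutatorElement]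
    have : ⁅h₁, h₂⁆ = 1 := by
      rw [commutatorElement_eq_one_iff_mul_comm]
      exact hHc h₁ hh₁ h₂ hh₂
    rw [this, map_one]
  exact (QuotientGroup.eq_one_iff _).mp h1

/-- If a finite group has a maximal subgroup that is abelian, then the third term of its derived series is trivial (so the group is solvable of derived length at most three). -/
theorem result {G : Type*} [Group G] [Finite G] (A : Subgroup G) (hA : IsCoatom A) [IsMulCommutative A] : derivedSeries G 3 = ⊥ := by
  have hAc : ∀ x ∈ A, ∀ y ∈ A, x * y = y * x := isMulCommutative_iff_of_setLike.mp inferInstance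
  by_cases hAn : A.Normal
  · -- normal case: G' ≤ A
    haveI := hAn
    obtain ⟨g, -, hg⟩ := SetLike.exists_of_lt (lt_top_iff_ne_top.mpr hA.1)
    have hsup : A ⊔ Subgroup.zpowers g = ⊤ := by
      apply sup_eq_top_of_coatom_not_le hA
      intro hle
      exact hg (hle (Subgroup.mem_zpowers g))
    have hpow : ∀ x : G, ∃ k : ℤ, QuotientGroup.mk' A x = (QuotientGroup.mk' A g) ^ k := by
      intro x
      have hx : x ∈ ((A ⊔ Subgroup.zpowers g : Subgroup G) : Set G) := by
        rw [hsup]; exact Subgroup.mem_top x
      rw [Subgroup.normal_mul] at hx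
      obtain ⟨a, ha, _, ⟨k, rfl⟩, rfl⟩ := hx
      refine ⟨k, ?_⟩
      have : QuotientGroup.mk' A a = 1 := (QuotientGroup.eq_one_iff a).mpr ha
      rw [map_mul, map_zpow, this, one_mul]
    have hGA : (commutator G) ≤ A := by
      rw [commutator_def, Subgroup.commutator_le]
      intro x _ y _
      obtain ⟨k, hk⟩ := hpow x
      obtain ⟨l, hl⟩ := hpow y
      have h1 : QuotientGroup.mk' A ⁅x, y⁆ = 1 := by
        rw [map_commutatorElement, hk, hl, commutatorElement_eq_one_iff_commute]
        exact Commute.zpow_zpow_self _ k l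
      exact (QuotientGroup.eq_one_iff _).mp h1
    apply derived_three_eq_bot_of_le A hAc
    rw [derivedSeries_succ, derivedSeries_one]
    exact (Subgroup.commutator_le_left _ _).trans hGA
  · -- non-normal case
    have hNA : Subgroup.normalizer (A : Set G) = A := by
      rcases hA.le_iff.mp (Subgroup.le_normalizer (H := A)) with h1 | h1
      · exact absurd (Subgroup.normalizer_eq_top_iff.mp h1) hAn
      · exact h1
    set Z : Subgroup G := Subgroup.center G with hZ
    have hZc : ∀ x ∈ Z, ∀ y ∈ Z, x * y = y * x := by
      intro x hx y _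
      exact (Subgroup.mem_center_iff.mp hx y).symm
    have hZA : Z ≤ A := by
      by_contra hnle
      have hsup : A ⊔ Z = ⊤ := sup_eq_top_of_coatom_not_le hA hnle
      apply hAn
      apply Subgroup.normalizer_eq_top_iff.mp
      rw [eq_top_iff, ← hsup]
      apply sup_le Subgroup.le_normalizer
      intro z hz
      apply Subgroup.mem_normalizer_fintype
      intro a ha
      have : z * a * z⁻¹ = a := by
        rw [← Subgroup.mem_center_iff.mp hz a]; group
      rw [this]; exact ha
    have key : ∀ g : G, g ∉ A → A ⊓ MulAut.conj g • A ≤ Z := by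
      intro g hg
      have hnle : ¬ MulAut.conj g • A ≤ A := by
        intro hle
        have hcard : Nat.card A ≤ Nat.card ↥(MulAut.conj g • A) :=
          le_of_eq (Subgroup.card_map_of_injective (MulAut.conj g).injective).symm
        have heq : MulAut.conj g • A = A := Subgroup.eq_of_le_of_card_ge hle hcard
        apply hg
        rw [← hNA]
        apply Subgroup.mem_normalizer_fintype
        intro a ha
        have : g * a * g⁻¹ ∈ MulAut.conj g • A := by
          rw [mem_conj_smul_iff']
          have e : g⁻¹ * (g * a * g⁻¹) * g = a := by group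
          rw [e]; exact ha
        rw [heq] at this
        exact this
      have hsup : A ⊔ MulAut.conj g • A = ⊤ := sup_eq_top_of_coatom_not_le hA hnle
      intro x hx
      rw [hZ, Subgroup.mem_center_iff]
      have hle : A ⊔ MulAut.conj g • A ≤ Subgroup.centralizer ({x} : Set G) := by
        apply sup_le
        · intro a ha
          rw [Subgroup.mem_centralizer_iff]
          intro y hy
          rw [Set.mem_singleton_iff] at hy
          subst hy
          exact hAc y hx.1 a ha
        · intro a ha
          rw [Subgroup.mem_centralizer_iff]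
          intro y hy
          rw [Set.mem_singleton_iff] at hy
          subst hy
          have h1 : g⁻¹ * y * g ∈ A := mem_conj_smul_iff'.mp hx.2
          have h2 : g⁻¹ * a * g ∈ A := mem_conj_smul_iff'.mp ha
          have h3 := hAc _ h1 _ h2
          calc y * a = g * ((g⁻¹ * y * g) * (g⁻¹ * a * g)) * g⁻¹ := by group
            _ = g * ((g⁻¹ * a * g) * (g⁻¹ * y * g)) * g⁻¹ := by rw [h3]
            _ = a * y := by group
      intro h
      have hh : h ∈ A ⊔ MulAut.conj g • A := by rw [hsup]; exact Subgroup.mem_top h
      have := Subgroup.mem_centralizer_iff.mp (hle hh) x (Set.mem_singleton x)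
      exact this.symm
    -- the quotient by the centre
    let π := QuotientGroup.mk' Z
    have hπ : Function.Surjective π := QuotientGroup.mk'_surjective Z
    set H : Subgroup (G ⧸ Z) := A.map π with hH
    have hcomap : H.comap π = A := by
      rw [hH, Subgroup.comap_map_eq, QuotientGroup.ker_mk']
      exact sup_eq_left.mpr hZA
    have hmemH : ∀ y : G, π y ∈ H ↔ y ∈ A := by
      intro y
      rw [← hcomap]; rfl
    have hHtop : H ≠ ⊤ := by
      intro h
      apply hA.1
      rw [← hcomap, h, Subgroup.comap_top]
    have hHcoatom : IsCoatom H := by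
      refine ⟨hHtop, ?_⟩
      intro X hlt
      have h1 : A ≤ X.comap π := by
        rw [← hcomap]; exact Subgroup.comap_mono hlt.le
      have h2 : X.comap π ≠ A := by
        intro h
        have : X = H := by
          rw [hH, ← h, Subgroup.map_comap_eq_self_of_surjective hπ]
        exact hlt.ne this.symm
      rcases hA.le_iff.mp h1 with h3 | h3
      · rw [← Subgroup.map_comap_eq_self_of_surjective hπ X, h3, ← MonoidHom.range_eq_map,
          MonoidHom.range_eq_top.mpr hπ]
      · exact absurd h3 h2
    have hHc : ∀ x ∈ H, ∀ y ∈ H, x * y = y * x := by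
      rintro _ ⟨a, ha, rfl⟩ _ ⟨b, hb, rfl⟩
      rw [← map_mul, ← map_mul, hAc a ha b hb]
    have hF : Cfsg.IsFrobeniusComplement H := by
      refine ⟨?_, hHtop, ?_⟩
      · intro hb
        have hAZ : A ≤ Z := by
          have := (Subgroup.map_eq_bot_iff A).mp hb
          rwa [QuotientGroup.ker_mk'] at this
        apply hAn
        have : A = Z := le_antisymm hAZ hZA
        rw [this]; infer_instance
      · intro gb hgb
        obtain ⟨g, rfl⟩ := hπ gb
        have hg : g ∉ A := fun h => hgb ((hmemH g).mpr h)
        rw [eq_bot_iff]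
        intro xb hxb
        obtain ⟨a, ha, rfl⟩ := hxb.1
        have h2 : (π g)⁻¹ * π a * π g ∈ H := mem_conj_smul_iff'.mp hxb.2
        have h3 : π (g⁻¹ * a * g) ∈ H := by
          rw [map_mul, map_mul, map_inv]; exact h2
        rw [hmemH] at h3
        have h4 : a ∈ A ⊓ MulAut.conj g • A := ⟨ha, mem_conj_smul_iff'.mpr h3⟩
        have h5 : a ∈ Z := key g hg h4
        rw [Subgroup.mem_bot]
        exact (QuotientGroup.eq_one_iff a).mpr h5
    obtain ⟨K, hK, hKn, hKc⟩ := Cfsg.Agent.Lib.Helper96.frobenius_kernel_subgroup H hF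
    haveI := hKn
    have hKcomm := kernel_comm_of_coatom H K hF hK hKc hHcoatom
    have hQK := commutator_le_of_compl_abelian K H hKc hHc
    -- push down
    have h1 : ((commutator G)).map π ≤ K := by
      rw [commutator_def, Subgroup.map_commutator]
      rw [commutator_def] at hQK
      exact (Subgroup.commutator_mono le_top le_top).trans hQK
    have hKK : ⁅K, K⁆ = ⊥ := by
      rw [Subgroup.commutator_eq_bot_iff_le_centralizer]
      intro x hx
      rw [Subgroup.mem_centralizer_iff]
      intro y hy
      exact hKcomm y hy x hx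
    have h2 : (⁅(commutator G), (commutator G)⁆).map π = ⊥ := by
      rw [eq_bot_iff, ← hKK, Subgroup.map_commutator]
      exact Subgroup.commutator_mono h1 h1
    have h3 : derivedSeries G 2 ≤ Z := by
      have := (Subgroup.map_eq_bot_iff _).mp h2
      rw [QuotientGroup.ker_mk'] at this
      rw [derivedSeries_succ, derivedSeries_one]
      exact this
    exact derived_three_eq_bot_of_le Z hZc h3

end Cfsg.Agent.S0556
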