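import Cfsg.Statements.S0566
import Mathlib

set_option autoImplicit false
set_option linter.style.haveILetI false
open Pointwise
open Cfsg

namespace Cfsg.Agent.S0566

/-- Elementwise form of the hypothesis. -/
def Hyp {G : Type*} [Group G] (A B : Subgroup G) : Prop :=
  ∀ x : G, ∃ S : Subgroup G, S ≠ ⊤ ∧ ∀ g, g ∈ S ↔ ∃ a ∈ A, ∃ b ∈ B, g = a * (x * b * x⁻¹)

/-- The conjugate of `B` by `x`, as a subgroup. -/
def cjs {G : Type*} [Group G] (x : G) (B : Subgroup G) : Subgroup G :=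
  B.map (MulAut.conj x).toMonoidHom

theorem mem_cjs {G : Type*} [Group G] {x g : G} {B : Subgroup G} :
    g ∈ cjs x B ↔ ∃ b ∈ B, g = x * b * x⁻¹ := by
  unfold cjs
  rw [Subgroup.mem_map]
  constructor
  · rintro ⟨b, hb, rfl⟩
    exact ⟨b, hb, by simp⟩
  · rintro ⟨b, hb, rfl⟩
    exact ⟨b, hb, by simp⟩

/-- If `A D` and `A' D` are subgroups, then so is `(A ⊔ A') D`. -/
theorem exists_sup_mul {G : Type*} [Group G] (A A' D S S' : Subgroup G)
    (hS : ∀ g, g ∈ S ↔ ∃ a ∈ A, ∃ d ∈ D, g = a * d)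
    (hS' : ∀ g, g ∈ S' ↔ ∃ a ∈ A', ∃ d ∈ D, g = a * d) :
    ∃ T : Subgroup G, ∀ g, g ∈ T ↔ ∃ a ∈ A ⊔ A', ∃ d ∈ D, g = a * d := by
  have hgen : ∀ (A₀ S₀ : Subgroup G), A₀ ≤ A ⊔ A' → (∀ g, g ∈ S₀ ↔ ∃ a ∈ A₀, ∃ d ∈ D, g = a * d) →
      ∀ g ∈ A₀, (∀ d ∈ D, ∃ a' ∈ A ⊔ A', ∃ d' ∈ D, d * g = a' * d') ∧
        (∀ d ∈ D, ∃ a' ∈ A ⊔ A', ∃ d' ∈ D, g * d = d' * a') := by
    intro A₀ S₀ hle hS₀ g hg
    have hgS : g ∈ S₀ := (hS₀ g).mpr ⟨g, hg, 1, D.one_mem, by simp⟩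
    have hDS : ∀ d ∈ D, d ∈ S₀ := fun d hd => (hS₀ d).mpr ⟨1, A₀.one_mem, d, hd, by simp⟩
    constructor
    · intro d hd
      obtain ⟨a, ha, d', hd', h⟩ := (hS₀ _).mp (S₀.mul_mem (hDS d hd) hgS)
      exact ⟨a, hle ha, d', hd', h⟩
    · intro d hd
      obtain ⟨a, ha, d', hd', h⟩ := (hS₀ _).mp (S₀.inv_mem (S₀.mul_mem hgS (hDS d hd)))
      refine ⟨a⁻¹, (A ⊔ A').inv_mem (hle ha), d'⁻¹, D.inv_mem hd', ?_⟩
      rw [← mul_inv_rev, ← h, inv_inv]
  have hP : ∀ g ∈ A ⊔ A', (∀ d ∈ D, ∃ a' ∈ A ⊔ A', ∃ d' ∈ D, d * g = a' * d') ∧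
        (∀ d ∈ D, ∃ a' ∈ A ⊔ A', ∃ d' ∈ D, g * d = d' * a') := by
    intro g hg
    have hcl : A ⊔ A' = Subgroup.closure ((A : Set G) ∪ (A' : Set G)) := by
      rw [Subgroup.closure_union, Subgroup.closure_eq, Subgroup.closure_eq]
    rw [hcl] at hg
    induction hg using Subgroup.closure_induction with
    | mem x hx =>
      rcases hx with hx | hx
      · exact hgen A S le_sup_left hS x hx
      · exact hgen A' S' le_sup_right hS' x hx
    | one =>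
      constructor
      · intro d hd
        exact ⟨1, (A ⊔ A').one_mem, d, hd, by simp⟩
      · intro d hd
        exact ⟨1, (A ⊔ A').one_mem, d, hd, by simp⟩
    | mul x y _ _ ihx ihy =>
      constructor
      · intro d hd
        obtain ⟨a1, ha1, d1, hd1, h1⟩ := ihx.1 d hd
        obtain ⟨a2, ha2, d2, hd2, h2⟩ := ihy.1 d1 hd1
        refine ⟨a1 * a2, (A ⊔ A').mul_mem ha1 ha2, d2, hd2, ?_⟩
        rw [← mul_assoc, h1, mul_assoc, h2, mul_assoc]
      · intro d hd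
        obtain ⟨a2, ha2, d2, hd2, h2⟩ := ihy.2 d hd
        obtain ⟨a1, ha1, d1, hd1, h1⟩ := ihx.2 d2 hd2
        refine ⟨a1 * a2, (A ⊔ A').mul_mem ha1 ha2, d1, hd1, ?_⟩
        rw [mul_assoc, h2, ← mul_assoc, h1, mul_assoc]
    | inv x _ ihx =>
      constructor
      · intro d hd
        obtain ⟨a1, ha1, d1, hd1, h1⟩ := ihx.2 d⁻¹ (D.inv_mem hd)
        refine ⟨a1⁻¹, (A ⊔ A').inv_mem ha1, d1⁻¹, D.inv_mem hd1, ?_⟩
        rw [← mul_inv_rev, ← h1, mul_inv_rev, inv_inv]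
      · intro d hd
        obtain ⟨a1, ha1, d1, hd1, h1⟩ := ihx.1 d⁻¹ (D.inv_mem hd)
        refine ⟨a1⁻¹, (A ⊔ A').inv_mem ha1, d1⁻¹, D.inv_mem hd1, ?_⟩
        rw [← mul_inv_rev, ← h1, mul_inv_rev, inv_inv]
  refine ⟨{ carrier := {g | ∃ a ∈ A ⊔ A', ∃ d ∈ D, g = a * d}
            mul_mem' := ?_
            one_mem' := ⟨1, (A ⊔ A').one_mem, 1, D.one_mem, by simp⟩
            inv_mem' := ?_ }, fun g => Iff.rfl⟩
  · rintro x y ⟨a, ha, d, hd, rfl⟩ ⟨a', ha', d', hd', rfl⟩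
    obtain ⟨a2, ha2, d2, hd2, h2⟩ := (hP a' ha').1 d hd
    refine ⟨a * a2, (A ⊔ A').mul_mem ha ha2, d2 * d', D.mul_mem hd2 hd', ?_⟩
    calc a * d * (a' * d') = a * (d * a') * d' := by group
      _ = a * (a2 * d2) * d' := by rw [h2]
      _ = a * a2 * (d2 * d') := by group
  · rintro x ⟨a, ha, d, hd, rfl⟩
    obtain ⟨a2, ha2, d2, hd2, h2⟩ := (hP a⁻¹ ((A ⊔ A').inv_mem ha)).1 d⁻¹ (D.inv_mem hd)
    exact ⟨a2, ha2, d2, hd2, by rw [mul_inv_rev, h2]⟩

theorem key {G : Type*} [Group G] [Finite G] (B : Subgroup G)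
    (hBt : Subgroup.normalClosure (B : Set G) = ⊤) :
    ∀ k : ℕ, ∀ A : Subgroup G, Nat.card G - Nat.card A ≤ k → Hyp A B →
      Subgroup.normalClosure (A : Set G) = ⊤ → False := by
  intro k
  induction k with
  | zero =>
    intro A hk hyp _
    have hAtop : A = ⊤ := Subgroup.eq_top_of_le_card A (by omega)
    obtain ⟨S, hS, hmem⟩ := hyp 1
    apply hS
    rw [eq_top_iff]
    intro g _
    exact (hmem g).mpr ⟨g, hAtop ▸ Subgroup.mem_top g, 1, B.one_mem, by simp⟩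
  | succ k ih =>
    intro A hk hyp hAt
    -- Step 1: a conjugate of an element of `B` not normalizing `A`
    have hex : ∃ g : G, ∃ b ∈ B, g * b * g⁻¹ ∉ Subgroup.normalizer (A : Set G) := by
      by_contra hcon
      push Not at hcon
      have hle : Subgroup.normalClosure (B : Set G) ≤ Subgroup.normalizer (A : Set G) := by
        unfold Subgroup.normalClosure
        rw [Subgroup.closure_le]
        intro y hy
        obtain ⟨b, hb, hconj⟩ := Group.mem_conjugatesOfSet_iff.mp hy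
        obtain ⟨c, hc⟩ := isConj_iff.mp hconj
        rw [← hc]
        exact hcon c b hb
      rw [hBt, top_le_iff] at hle
      haveI : A.Normal := Subgroup.normalizer_eq_top_iff.mp hle
      rw [Subgroup.normalClosure_eq_self] at hAt
      obtain ⟨S, hS, hmem⟩ := hyp 1
      apply hS
      rw [eq_top_iff]
      intro g _
      exact (hmem g).mpr ⟨g, hAt ▸ Subgroup.mem_top g, 1, B.one_mem, by simp⟩
    obtain ⟨g, b₀, hb₀, hcN⟩ := hex
    obtain ⟨c, hcdef⟩ : ∃ c : G, c = g * b₀ * g⁻¹ := ⟨_, rfl⟩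
    rw [← hcdef] at hcN
    -- the subgroup `H = A * B^g`
    obtain ⟨H, hHtop, hH⟩ := hyp g
    have hAH : A ≤ H := fun a ha => (hH a).mpr ⟨a, ha, 1, B.one_mem, by simp⟩
    have hBH : ∀ b ∈ B, g * b * g⁻¹ ∈ H := fun b hb => (hH _).mpr ⟨1, A.one_mem, b, hb, by simp⟩
    have hcH : c ∈ H := hcdef ▸ hBH b₀ hb₀
    have hA'H : cjs c A ≤ H := by
      intro y hy
      obtain ⟨a, ha, rfl⟩ := mem_cjs.mp hy
      exact H.mul_mem (H.mul_mem hcH (hAH ha)) (H.inv_mem hcH)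
    have hA₁H : A ⊔ cjs c A ≤ H := sup_le hAH hA'H
    -- `A < A₁`
    have hlt : Nat.card A < Nat.card (A ⊔ cjs c A : Subgroup G) := by
      by_contra hge
      push Not at hge
      have heq : A = A ⊔ cjs c A := Subgroup.eq_of_le_of_card_ge le_sup_left hge
      apply hcN
      apply Subgroup.mem_normalizer_fintype
      intro n hn
      have : c * n * c⁻¹ ∈ A ⊔ cjs c A :=
        (le_sup_right : cjs c A ≤ A ⊔ cjs c A) (mem_cjs.mpr ⟨n, hn, rfl⟩)
      rw [← heq] at this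
      exact this
    -- the hypothesis for `A₁`
    have hyp₁ : Hyp (A ⊔ cjs c A) B := by
      intro x
      obtain ⟨S, -, hS⟩ := hyp x
      obtain ⟨S'', -, hS''⟩ := hyp (c⁻¹ * x)
      have hS1 : ∀ y, y ∈ S ↔ ∃ a ∈ A, ∃ d ∈ cjs x B, y = a * d := by
        intro y
        rw [hS]
        constructor
        · rintro ⟨a, ha, b, hb, rfl⟩
          exact ⟨a, ha, _, mem_cjs.mpr ⟨b, hb, rfl⟩, rfl⟩
        · rintro ⟨a, ha, d, hd, rfl⟩
          obtain ⟨b, hb, rfl⟩ := mem_cjs.mp hd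
          exact ⟨a, ha, b, hb, rfl⟩
      have hS2 : ∀ y, y ∈ cjs c S'' ↔ ∃ a ∈ cjs c A, ∃ d ∈ cjs x B, y = a * d := by
        intro y
        constructor
        · intro hy
          obtain ⟨w, hw, rfl⟩ := mem_cjs.mp hy
          obtain ⟨a, ha, b, hb, rfl⟩ := (hS'' w).mp hw
          refine ⟨c * a * c⁻¹, mem_cjs.mpr ⟨a, ha, rfl⟩, x * b * x⁻¹, mem_cjs.mpr ⟨b, hb, rfl⟩, ?_⟩
          group
        · rintro ⟨a', ha', d, hd, rfl⟩
          obtain ⟨a, ha, rfl⟩ := mem_cjs.mp ha'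
          obtain ⟨b, hb, rfl⟩ := mem_cjs.mp hd
          refine mem_cjs.mpr ⟨a * (c⁻¹ * x * b * (c⁻¹ * x)⁻¹), (hS'' _).mpr ⟨a, ha, b, hb, rfl⟩, ?_⟩
          group
      obtain ⟨T, hT⟩ := exists_sup_mul A (cjs c A) (cjs x B) S (cjs c S'') hS1 hS2
      refine ⟨T, ?_, ?_⟩
      · intro hTtop
        apply hHtop
        -- `x * g⁻¹ ∈ H`
        have h1 : (x * g⁻¹)⁻¹ ∈ T := hTtop ▸ Subgroup.mem_top _
        obtain ⟨a₁, ha₁, d, hd, h2⟩ := (hT _).mp h1
        obtain ⟨b₁, hb₁, rfl⟩ := mem_cjs.mp hd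
        have hxg : x * g⁻¹ = a₁⁻¹ * (g * b₁⁻¹ * g⁻¹) := by
          have h3 : x * g⁻¹ = (a₁ * (x * b₁ * x⁻¹))⁻¹ := by rw [← h2, inv_inv]
          have h4 : g⁻¹ = b₁⁻¹ * x⁻¹ * a₁⁻¹ := by
            have : x * g⁻¹ = x * (b₁⁻¹ * x⁻¹ * a₁⁻¹) := by rw [h3]; group
            exact mul_left_cancel this
          have hg : g = a₁ * x * b₁ := by
            rw [← inv_inv g, h4]; group
          have hx : x = a₁⁻¹ * g * b₁⁻¹ := by
            rw [hg]; group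
          calc x * g⁻¹ = (a₁⁻¹ * g * b₁⁻¹) * g⁻¹ := by rw [← hx]
            _ = a₁⁻¹ * (g * b₁⁻¹ * g⁻¹) := by group
        have hxgH : x * g⁻¹ ∈ H := by
          rw [hxg]
          exact H.mul_mem (H.inv_mem (hA₁H ha₁)) (hBH _ (B.inv_mem hb₁))
        have hDH : cjs x B ≤ H := by
          intro y hy
          obtain ⟨b, hb, rfl⟩ := mem_cjs.mp hy
          have : x * b * x⁻¹ = (x * g⁻¹) * (g * b * g⁻¹) * (x * g⁻¹)⁻¹ := by group
          rw [this]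
          exact H.mul_mem (H.mul_mem hxgH (hBH b hb)) (H.inv_mem hxgH)
        rw [eq_top_iff]
        intro y _
        have hy : y ∈ T := hTtop ▸ Subgroup.mem_top y
        obtain ⟨a₁, ha₁, d, hd, rfl⟩ := (hT y).mp hy
        exact H.mul_mem (hA₁H ha₁) (hDH hd)
      · intro y
        rw [hT]
        constructor
        · rintro ⟨a, ha, d, hd, rfl⟩
          obtain ⟨b, hb, rfl⟩ := mem_cjs.mp hd
          exact ⟨a, ha, b, hb, rfl⟩
        · rintro ⟨a, ha, b, hb, rfl⟩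
          exact ⟨a, ha, _, mem_cjs.mpr ⟨b, hb, rfl⟩, rfl⟩
    have hA₁t : Subgroup.normalClosure ((A ⊔ cjs c A : Subgroup G) : Set G) = ⊤ := by
      rw [eq_top_iff, ← hAt]
      exact Subgroup.normalClosure_mono (le_sup_left : A ≤ A ⊔ cjs c A)
    have hcard : Nat.card (A ⊔ cjs c A : Subgroup G) ≤ Nat.card G := Subgroup.card_le_card_group _
    exact ih (A ⊔ cjs c A) (by omega) hyp₁ hA₁t

/-- Let A and B be nontrivial subgroups of a finite group G such that for every x the product set of A and xBx⁻¹ is a proper subgroup of G. Then there is a proper normal subgroup of G containing A or containing B. -/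
theorem result {G : Type*} [Group G] [Finite G] (A B : Subgroup G) (hA : A ≠ ⊥) (hB : B ≠ ⊥) (h : ∀ x : G, ∃ S : Subgroup G, S ≠ ⊤ ∧ (S : Set G) = (A : Set G) * ((MulAut.conj x • B : Subgroup G) : Set G)) : ∃ N : Subgroup G, N.Normal ∧ N ≠ ⊤ ∧ (A ≤ N ∨ B ≤ N) := by
  have hyp : Hyp A B := by
    intro x
    obtain ⟨S, hS, hset⟩ := h x
    refine ⟨S, hS, fun g => ?_⟩
    rw [← SetLike.mem_coe, hset, Set.mem_mul]
    constructor
    · rintro ⟨a, ha, d, hd, rfl⟩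
      have hd' : d ∈ (MulAut.conj x • B : Subgroup G) := hd
      rw [Subgroup.mem_smul_pointwise_iff_exists] at hd'
      obtain ⟨b, hb, rfl⟩ := hd'
      exact ⟨a, ha, b, hb, by simp [MulAut.smul_def]⟩
    · rintro ⟨a, ha, b, hb, rfl⟩
      refine ⟨a, ha, x * b * x⁻¹, ?_, rfl⟩
      show x * b * x⁻¹ ∈ (MulAut.conj x • B : Subgroup G)
      rw [Subgroup.mem_smul_pointwise_iff_exists]
      exact ⟨b, hb, by simp [MulAut.smul_def]⟩
  by_cases hBt : Subgroup.normalClosure (B : Set G) = ⊤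
  · by_cases hAt : Subgroup.normalClosure (A : Set G) = ⊤
    · exact (key B hBt _ A le_rfl hyp hAt).elim
    · exact ⟨_, Subgroup.normalClosure_normal, hAt, Or.inl Subgroup.le_normalClosure⟩
  · exact ⟨_, Subgroup.normalClosure_normal, hBt, Or.inr Subgroup.le_normalClosure⟩

end Cfsg.Agent.S0566
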