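import Cfsg.Statements.S0560
import Cfsg.Agent.Lib.Helper10.Card

set_option autoImplicit false
open Cfsg

namespace Cfsg.Agent.S0560

open Pointwise
open Cfsg.Agent.Lib.Helper10

theorem mem_sylow_smul_iff {G : Type*} [Group G] {p : ℕ} {g x : G} {S : Sylow p G} :
    x ∈ ((g • S : Sylow p G) : Subgroup G) ↔ g⁻¹ * x * g ∈ (S : Subgroup G) := by
  rw [Sylow.coe_subgroup_smul, Subgroup.mem_pointwise_smul_iff_inv_smul_mem]
  simp [MulAut.smul_def, mul_assoc]

/-- Let the finite group G be the product HK of two subgroups and p a prime. Then there are Sylow p-subgroups P of H and Q of K and a Sylow p-subgroup R of G whose underlying set is the product set of P and Q. -/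
theorem result {G : Type*} [Group G] [Finite G] (H K : Subgroup G) (hHK : ∀ g : G, ∃ h ∈ H, ∃ k ∈ K, g = h * k) (p : ℕ) [Fact p.Prime] : ∃ (P : Sylow p H) (Q : Sylow p K) (R : Sylow p G), ((R : Subgroup G) : Set G) = (((P : Subgroup H).map H.subtype : Subgroup G) : Set G) * (((Q : Subgroup K).map K.subtype : Subgroup G) : Set G) := by
  have hp : p.Prime := Fact.out
  obtain ⟨P₀⟩ := (Sylow.nonempty : Nonempty (Sylow p H))
  obtain ⟨Q₀⟩ := (Sylow.nonempty : Nonempty (Sylow p K))
  obtain ⟨S₁, hS₁⟩ := (P₀.2.map H.subtype).exists_le_sylow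
  obtain ⟨S₂, hS₂⟩ := (Q₀.2.map K.subtype).exists_le_sylow
  obtain ⟨g, hg⟩ := MulAction.exists_smul_eq G S₁ S₂
  obtain ⟨h, hh, k, hk, hgk⟩ := hHK g⁻¹
  have hg' : g = k⁻¹ * h⁻¹ := by
    have : g = (g⁻¹)⁻¹ := (inv_inv g).symm
    rw [this, hgk]; group
  set P : Sylow p H := (⟨h, hh⟩ : H)⁻¹ • P₀ with hP
  set Q : Sylow p K := (⟨k, hk⟩ : K) • Q₀ with hQ
  set R : Sylow p G := h⁻¹ • S₁ with hR
  have hPR : (P : Subgroup H).map H.subtype ≤ (R : Subgroup G) := by
    rintro _ ⟨y, hy, rfl⟩
    rw [hR, mem_sylow_smul_iff, inv_inv]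
    rw [SetLike.mem_coe, hP, mem_sylow_smul_iff, inv_inv] at hy
    apply hS₁
    exact ⟨_, hy, by simp⟩
  have hQR : (Q : Subgroup K).map K.subtype ≤ (R : Subgroup G) := by
    rintro _ ⟨y, hy, rfl⟩
    rw [hR, mem_sylow_smul_iff, inv_inv]
    rw [SetLike.mem_coe, hQ, mem_sylow_smul_iff] at hy
    have h1 : k⁻¹ * (y : G) * k ∈ (S₂ : Subgroup G) := by
      apply hS₂
      exact ⟨_, hy, by simp⟩
    rw [← hg, mem_sylow_smul_iff, hg'] at h1
    have e : (k⁻¹ * h⁻¹)⁻¹ * (k⁻¹ * (y : G) * k) * (k⁻¹ * h⁻¹) = h * K.subtype y * h⁻¹ := by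
      simp only [Subgroup.coe_subtype]; group
    rwa [e] at h1
  refine ⟨P, Q, R, ?_⟩
  set P' : Subgroup G := (P : Subgroup H).map H.subtype with hP'
  set Q' : Subgroup G := (Q : Subgroup K).map K.subtype with hQ'
  -- the product set is contained in R
  have hsub : (P' : Set G) * (Q' : Set G) ⊆ ((R : Subgroup G) : Set G) := by
    rintro _ ⟨a, ha, b, hb, rfl⟩
    exact (R : Subgroup G).mul_mem (hPR ha) (hQR hb)
  -- cardinalities
  have cP : Nat.card P' = p ^ (Nat.card H).factorization p := by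
    rw [hP', Subgroup.card_map_of_injective H.subtype_injective]
    exact P.card_eq_multiplicity
  have cQ : Nat.card Q' = p ^ (Nat.card K).factorization p := by
    rw [hQ', Subgroup.card_map_of_injective K.subtype_injective]
    exact Q.card_eq_multiplicity
  have cR : Nat.card (R : Subgroup G) = p ^ (Nat.card G).factorization p := R.card_eq_multiplicity
  have hHKuniv : (H : Set G) * (K : Set G) = Set.univ := by
    rw [Set.eq_univ_iff_forall]
    intro x
    obtain ⟨a, ha, b, hb, rfl⟩ := hHK x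
    exact Set.mul_mem_mul ha hb
  have cG : Nat.card G * Nat.card ↥(H ⊓ K) = Nat.card H * Nat.card K := by
    have := card_mul_set_mul_card_inf H K
    rw [hHKuniv, Nat.card_congr (Equiv.Set.univ G)] at this
    exact this
  have hfac : (Nat.card G).factorization p + (Nat.card ↥(H ⊓ K)).factorization p
      = (Nat.card H).factorization p + (Nat.card K).factorization p := by
    have h1 : (Nat.card G * Nat.card ↥(H ⊓ K)).factorization p
        = (Nat.card H * Nat.card K).factorization p := by rw [cG]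
    rw [Nat.factorization_mul Nat.card_pos.ne' Nat.card_pos.ne',
      Nat.factorization_mul Nat.card_pos.ne' Nat.card_pos.ne'] at h1
    simpa using h1
  -- the intersection is a p-group inside H ⊓ K
  have hPQp : IsPGroup p ↥(P' ⊓ Q') := by
    have hP'p : IsPGroup p P' := P.2.map H.subtype
    exact hP'p.to_le inf_le_left
  obtain ⟨d, hd⟩ := IsPGroup.iff_card.mp hPQp
  have hdle : d ≤ (Nat.card ↥(H ⊓ K)).factorization p := by
    rw [← hp.pow_dvd_iff_le_factorization Nat.card_pos.ne', ← hd]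
    apply Subgroup.card_dvd_of_le
    exact inf_le_inf (Subgroup.map_subtype_le _) (Subgroup.map_subtype_le _)
  have cPQ := card_mul_set_mul_card_inf P' Q'
  rw [hd, cP, cQ, ← pow_add] at cPQ
  -- so |P'Q'| ≥ |R|
  have hge : Nat.card (R : Subgroup G) ≤ Nat.card ((P' : Set G) * (Q' : Set G) : Set G) := by
    rw [cR]
    have hpos : 0 < p ^ d := pow_pos hp.pos d
    have h2 : p ^ ((Nat.card G).factorization p) * p ^ d ≤
        Nat.card ((P' : Set G) * (Q' : Set G) : Set G) * p ^ d := by
      rw [cPQ, ← pow_add]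
      apply Nat.pow_le_pow_right hp.pos
      omega
    exact Nat.le_of_mul_le_mul_right h2 hpos
  symm
  apply Set.eq_of_subset_of_ncard_le hsub _ (Set.toFinite _)
  rw [← Nat.card_coe_set_eq, ← Nat.card_coe_set_eq]
  exact hge

end Cfsg.Agent.S0560
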