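import Cfsg.Statements.S0013
import Mathlib

set_option autoImplicit false
open Cfsg

namespace Cfsg.Agent.S0013

theorem exists_coatom_not_mem {G : Type*} [Group G] [Finite G] (p : ℕ) [Fact p.Prime]
    (N : Subgroup G) (hcomm : commutator G ≤ N) (hpow : ∀ x : G, x ^ p ∈ N)
    (x : G) (hx : x ∉ N) : ∃ M : Subgroup G, IsCoatom M ∧ x ∉ M := by
  obtain ⟨M, ⟨hNM, hxM⟩, hmax⟩ := Set.Finite.exists_maximal
    (s := {L : Subgroup G | N ≤ L ∧ x ∉ L}) (Set.toFinite _) ⟨N, le_rfl, hx⟩
  have hMn : M.Normal := Subgroup.Normal.of_commutator_le _ (hcomm.trans hNM)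
  refine ⟨M, ⟨?_, ?_⟩, hxM⟩
  · intro h; apply hxM; rw [h]; exact Subgroup.mem_top x
  · intro L hML
    have hxL : x ∈ L := by
      by_contra hxL
      exact hML.not_ge (hmax ⟨hNM.trans hML.le, hxL⟩ hML.le)
    rw [eq_top_iff]
    intro y _
    by_contra hyL
    have hyM : y ∉ M := fun h => hyL (hML.le h)
    have hlt : M < M ⊔ Subgroup.zpowers y := by
      refine lt_of_le_of_ne le_sup_left ?_
      intro h
      apply hyM
      rw [h]
      exact (le_sup_right : Subgroup.zpowers y ≤ _) (Subgroup.mem_zpowers y)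
    have hxM' : x ∈ M ⊔ Subgroup.zpowers y := by
      by_contra hx'
      exact hlt.not_ge (hmax ⟨hNM.trans hlt.le, hx'⟩ hlt.le)
    rw [sup_comm, Subgroup.mem_sup_of_normal_right] at hxM'
    obtain ⟨z, hz, m, hm, hzm⟩ := hxM'
    obtain ⟨k, rfl⟩ := Subgroup.mem_zpowers_iff.mp hz
    have hyk : y ^ k ∈ L := by
      have : y ^ k = x * m⁻¹ := by rw [← hzm]; group
      rw [this]; exact L.mul_mem hxL (L.inv_mem (hML.le hm))
    have hpk : ¬ (p : ℤ) ∣ k := by
      rintro ⟨j, rfl⟩
      apply hxM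
      rw [← hzm]
      refine M.mul_mem ?_ hm
      rw [zpow_mul, zpow_natCast]
      exact M.zpow_mem (hNM (hpow y)) j
    have hcop : IsCoprime k (p : ℤ) := by
      have hp : Prime (p : ℤ) := Nat.prime_iff_prime_int.mp Fact.out
      exact (hp.coprime_iff_not_dvd.mpr hpk).symm
    obtain ⟨a, b, hab⟩ := hcop
    apply hyL
    have : y = (y ^ k) ^ a * (y ^ p) ^ b := by
      rw [← zpow_mul, ← zpow_natCast y p, ← zpow_mul, ← zpow_add, mul_comm k a, mul_comm (p : ℤ) b,
        hab, zpow_one]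
    rw [this]
    exact L.mul_mem (L.zpow_mem hyk a) (L.zpow_mem (hML.le (hNM (hpow y))) b)

/-- In a finite p-group the Frattini subgroup is the smallest normal subgroup with elementary abelian quotient: it lies below any normal subgroup containing all commutators and all p-th powers. -/
theorem result {G : Type*} [Group G] [Finite G] (p : ℕ) [Fact p.Prime]
    (hG : IsPGroup p G) (N : Subgroup G) [N.Normal] (hcomm : commutator G ≤ N) (hpow : ∀ x : G, x ^ p ∈ N) :
    frattini G ≤ N := by
  intro x hx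
  by_contra hxN
  obtain ⟨M, hM, hxM⟩ := exists_coatom_not_mem p N hcomm hpow x hxN
  exact hxM (frattini_le_coatom hM hx)

end Cfsg.Agent.S0013
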