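import Cfsg.Statements.S0014
import Cfsg.Agent.Lib.Helper24.Omega1

set_option autoImplicit false
open Cfsg

namespace Cfsg.Agent.S0014

open Subgroup
open scoped commutatorElement

section aux
variable {G : Type*} [Group G]

/-- The subgroup generated by `T` together with the Frattini subgroup. -/
def W (T : Finset G) : Subgroup G := closure (T : Set G) ⊔ frattini G

theorem W_insert [DecidableEq G] (t : G) (T : Finset G) : W (insert t T) = W T ⊔ zpowers t := by
  unfold W
  rw [Finset.coe_insert, Set.insert_eq, Subgroup.closure_union, ← zpowers_eq_closure]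
  rw [sup_comm (zpowers t), sup_assoc, sup_assoc, sup_comm (zpowers t)]

theorem W_mono {T T' : Finset G} (h : T ⊆ T') : W T ≤ W T' :=
  sup_le_sup_right (closure_mono (Finset.coe_subset.mpr h)) _

theorem frattini_le_W (T : Finset G) : frattini G ≤ W T := le_sup_right

theorem normal_of_commutator_le (H : Subgroup G) (h : commutator G ≤ H) : H.Normal := by
  constructor
  intro n hn g
  have e : g * n * g⁻¹ = ⁅g, n⁆ * n := by simp [commutatorElement_def]
  rw [e]
  refine H.mul_mem (h ?_) hn
  rw [commutator_def]
  exact commutator_mem_commutator (mem_top g) (mem_top n)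

theorem relIndex_sup_zpowers [Finite G] {p : ℕ} [Fact p.Prime] (hG : IsPGroup p G)
    (W' : Subgroup G) (hW : frattini G ≤ W') (t : G) (ht : t ∉ W') :
    W'.relIndex (W' ⊔ zpowers t) = p := by
  have : W'.Normal := normal_of_commutator_le W'
    ((Cfsg.Agent.Lib.Helper24.commutator_le_frattini_of_isPGroup hG).trans hW)
  have h1 := Subgroup.relIndex_ker (QuotientGroup.mk' W') (K := W' ⊔ zpowers t)
  rw [QuotientGroup.ker_mk'] at h1
  rw [h1, Subgroup.map_sup, QuotientGroup.map_mk'_self, bot_sup_eq, MonoidHom.map_zpowers,
    Nat.card_zpowers]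
  apply orderOf_eq_prime
  · rw [← map_pow]
    rw [QuotientGroup.mk'_apply, QuotientGroup.eq_one_iff]
    exact hW (Cfsg.Agent.Lib.Helper24.pow_mem_frattini_of_isPGroup hG t)
  · rw [QuotientGroup.mk'_apply, Ne, QuotientGroup.eq_one_iff]
    exact ht

/-- Independence modulo the Frattini subgroup. -/
def Indep [DecidableEq G] (T : Finset G) : Prop := ∀ t ∈ T, t ∉ W (T.erase t)

theorem relIndex_W_of_indep [DecidableEq G] [Finite G] {p : ℕ} [Fact p.Prime] (hG : IsPGroup p G)
    (T : Finset G) (hT : Indep T) : (frattini G).relIndex (W T) = p ^ T.card := by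
  induction T using Finset.induction_on with
  | empty =>
    have : W (∅ : Finset G) = frattini G := by
      unfold W
      simp
    rw [this, relIndex_self, Finset.card_empty, pow_zero]
  | insert t T' htT' ih =>
    have hT' : Indep T' := by
      intro s hs hmem
      apply hT s (Finset.mem_insert_of_mem hs)
      exact W_mono (Finset.erase_subset_erase s (Finset.subset_insert t T')) hmem
    have ht : t ∉ W T' := by
      have := hT t (Finset.mem_insert_self t T')
      rwa [Finset.erase_insert htT'] at this
    have h1 := relIndex_sup_zpowers hG (W T') (frattini_le_W T') t ht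
    have h2 := relIndex_mul_relIndex (frattini G) (W T') (W T' ⊔ zpowers t) (frattini_le_W T')
      le_sup_left
    rw [W_insert, ← h2, ih hT', h1, Finset.card_insert_of_notMem htT', pow_succ]

theorem exists_indep [DecidableEq G] (S : Finset G) : ∃ T ⊆ S, W T = W S ∧ Indep T := by
  induction S using Finset.strongInduction with
  | H S ih =>
    by_cases h : Indep S
    · exact ⟨S, Finset.Subset.refl S, rfl, h⟩
    · unfold Indep at h
      push Not at h
      obtain ⟨t, htS, ht⟩ := h
      obtain ⟨T, hTS, hWT, hT⟩ := ih (S.erase t) (Finset.erase_ssubset htS)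
      refine ⟨T, hTS.trans (Finset.erase_subset t S), ?_, hT⟩
      rw [hWT]
      conv_rhs => rw [← Finset.insert_erase htS, W_insert]
      symm
      apply sup_of_le_left
      rw [zpowers_le]
      exact ht

end aux

/-- Burnside's basis Theorem: in a finite p-group whose Frattini quotient has order p ^ n, every generating set contains n elements that already generate, and no set with fewer than n elements generates. -/
theorem result {G : Type*} [Group G] [Finite G] (p n : ℕ) [Fact p.Prime]
    (hG : IsPGroup p G) (hn : (frattini G).index = p ^ n) :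
    (∀ S : Finset G, Subgroup.closure (S : Set G) = ⊤ → ∃ T : Finset G, T ⊆ S ∧ T.card = n ∧ Subgroup.closure (T : Set G) = ⊤) ∧
    (∀ T : Finset G, Subgroup.closure (T : Set G) = ⊤ → n ≤ T.card) := by
  classical
  have key : ∀ S : Finset G, Subgroup.closure (S : Set G) = ⊤ →
      ∃ T : Finset G, T ⊆ S ∧ T.card = n ∧ Subgroup.closure (T : Set G) = ⊤ := by
    intro S hS
    have hWS : W S = ⊤ := by
      unfold W
      rw [hS, top_sup_eq]
    obtain ⟨T, hTS, hWT, hT⟩ := exists_indep S
    rw [hWS] at hWT
    have h1 := relIndex_W_of_indep hG T hT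
    rw [hWT, relIndex_top_right, hn] at h1
    have hp : 1 < p := (Fact.out : p.Prime).one_lt
    refine ⟨T, hTS, (Nat.pow_right_injective hp h1).symm, ?_⟩
    exact frattini_nongenerating hWT
  refine ⟨key, ?_⟩
  intro T hT
  obtain ⟨T', hT'T, hcard, -⟩ := key T hT
  rw [← hcard]
  exact Finset.card_le_card hT'T

end Cfsg.Agent.S0014
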