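import Cfsg.Statements.S3379

set_option autoImplicit false
open Cfsg

namespace Cfsg.Agent.S3379

theorem conj_pow_aux {G : Type*} [Group G] (x y : G) (r : ℕ) (h : x⁻¹ * y * x = y ^ r) (j : ℕ) :
    (x ^ j)⁻¹ * y * x ^ j = y ^ (r ^ j) := by
  induction j with
  | zero => simp
  | succ j ih =>
    have h1 : (x ^ (j + 1))⁻¹ * y * x ^ (j + 1) = x⁻¹ * ((x ^ j)⁻¹ * y * x ^ j) * x := by
      rw [pow_succ]; group
    rw [h1, ih]
    have h2 : x⁻¹ * y ^ (r ^ j) * x = (x⁻¹ * y * x) ^ (r ^ j) := by
      have := map_pow (MulAut.conj x⁻¹) y (r ^ j)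
      simp only [MulAut.conj_apply, inv_inv] at this
      exact this
    rw [h2, h, ← pow_mul, pow_succ, mul_comm]

theorem result {G : Type*} [Group G] [Finite G]
    (hZ : ∀ (p : ℕ) [Fact p.Prime] (P : Sylow p G), IsCyclic (P : Subgroup G)) :
    ∃ (x y : G) (n m r : ℕ), Subgroup.closure {x, y} = ⊤ ∧ orderOf x = n ∧ orderOf y = m ∧
      x⁻¹ * y * x = y ^ r ∧ Nat.Coprime (r - 1) m ∧ Nat.Coprime n m ∧ 1 ≤ r ∧ r ^ n % m = 1 % m := by
  have hZG : IsZGroup G := ⟨fun p hp P => @hZ p ⟨hp⟩ P⟩
  have hNcyc : IsCyclic (commutator G) := IsZGroup.isCyclic_commutator G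
  have hcop := IsZGroup.coprime_commutator_index G
  obtain ⟨H, hH⟩ := Subgroup.exists_right_complement'_of_coprime hcop
  have h1 : Abelianization G ≃* H := hH.symm.QuotientMulEquiv
  have hHcyc : IsCyclic H := isCyclic_of_surjective _ h1.surjective
  obtain ⟨y₀, hy₀⟩ := hNcyc.exists_generator
  obtain ⟨x₀, hx₀⟩ := hHcyc.exists_generator
  set y : G := (y₀ : G) with hy
  set x : G := (x₀ : G) with hx
  have hym : orderOf y = Nat.card (commutator G) := by
    rw [hy, Subgroup.orderOf_coe]; exact orderOf_eq_card_of_forall_mem_zpowers hy₀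
  have hxn : orderOf x = Nat.card H := by
    rw [hx, Subgroup.orderOf_coe]; exact orderOf_eq_card_of_forall_mem_zpowers hx₀
  have hHidx : (commutator G).index = Nat.card H := hH.symm.index_eq_card
  have hNy : commutator G = Subgroup.zpowers y := by
    ext g
    constructor
    · intro hg
      obtain ⟨k, hk⟩ := Subgroup.mem_zpowers_iff.mp (hy₀ ⟨g, hg⟩)
      refine Subgroup.mem_zpowers_iff.mpr ⟨k, ?_⟩
      have := congrArg Subtype.val hk
      simpa using this
    · intro hg
      obtain ⟨k, rfl⟩ := Subgroup.mem_zpowers_iff.mp hg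
      exact Subgroup.zpow_mem _ y₀.2 k
  have hHx : H = Subgroup.zpowers x := by
    ext g
    constructor
    · intro hg
      obtain ⟨k, hk⟩ := Subgroup.mem_zpowers_iff.mp (hx₀ ⟨g, hg⟩)
      refine Subgroup.mem_zpowers_iff.mpr ⟨k, ?_⟩
      have := congrArg Subtype.val hk
      simpa using this
    · intro hg
      obtain ⟨k, rfl⟩ := Subgroup.mem_zpowers_iff.mp hg
      exact Subgroup.zpow_mem _ x₀.2 k
  have hmpos : 0 < orderOf y := orderOf_pos y
  -- conjugation exponent
  have hconj_mem : x⁻¹ * y * x ∈ Subgroup.zpowers y := by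
    rw [← hNy]
    have hNn : (commutator G).Normal := inferInstance
    have := hNn.conj_mem y y₀.2 x⁻¹
    simpa using this
  obtain ⟨k, hk⟩ := (mem_powers_iff_mem_zpowers).mpr hconj_mem
  simp only at hk
  set r := k % orderOf y + orderOf y with hr
  have hyr : x⁻¹ * y * x = y ^ r := by
    rw [← hk, hr, pow_add, pow_orderOf_eq_one, mul_one, pow_mod_orderOf]
  have hgen : Subgroup.closure {x, y} = ⊤ := by
    rw [eq_top_iff, ← hH.sup_eq_top, sup_le_iff]
    constructor
    · rw [hNy, Subgroup.zpowers_le]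
      exact Subgroup.subset_closure (by simp)
    · rw [hHx, Subgroup.zpowers_le]
      exact Subgroup.subset_closure (by simp)
  refine ⟨x, y, orderOf x, orderOf y, r, hgen, rfl, rfl, hyr, ?_, ?_, ?_, ?_⟩
  · -- coprime (r - 1) m
    have hr1 : 1 ≤ r := by omega
    set D : Subgroup G := Subgroup.zpowers (y ^ (r - 1)) with hD
    have hDN : D ≤ commutator G := by
      rw [hD, Subgroup.zpowers_le, hNy]
      exact Subgroup.pow_mem _ (Subgroup.mem_zpowers y) _
    have hDnormal : D.Normal := by
      constructor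
      intro d hd g
      obtain ⟨i, rfl⟩ := Subgroup.mem_zpowers_iff.mp hd
      have hNn : (commutator G).Normal := inferInstance
      have hgy : g * y * g⁻¹ ∈ Subgroup.zpowers y := by
        rw [← hNy]; exact hNn.conj_mem y y₀.2 g
      obtain ⟨j, hj⟩ := Subgroup.mem_zpowers_iff.mp hgy
      have h3 : g * (y ^ (r - 1)) ^ i * g⁻¹ = ((y ^ (r - 1)) ^ j) ^ i := by
        have e1 : g * (y ^ (r - 1)) ^ i * g⁻¹ = ((g * y * g⁻¹) ^ (r - 1)) ^ i := by
          have := map_zpow (MulAut.conj g) (y ^ (r - 1)) i
          have h' := map_pow (MulAut.conj g) y (r - 1)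
          simp only [MulAut.conj_apply] at this h'
          rw [this, h']
        rw [e1, ← hj]
        congr 1
        rw [← zpow_natCast, ← zpow_natCast, ← zpow_mul, ← zpow_mul, mul_comm]
      rw [h3]
      exact Subgroup.zpow_mem _ (Subgroup.zpow_mem _ (Subgroup.mem_zpowers _) j) i
    -- the quotient is commutative
    have hcommQ : ∀ a b : G ⧸ D, a * b = b * a := by
      have hxy : (QuotientGroup.mk' D x) * (QuotientGroup.mk' D y) = (QuotientGroup.mk' D y) * (QuotientGroup.mk' D x) := by
        rw [← map_mul, ← map_mul]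
        apply (QuotientGroup.eq).mpr
        have e2 : (x * y)⁻¹ * (y * x) = (y ^ (r - 1)) := by
          have : y * x = x * y ^ r := by rw [← hyr]; group
          rw [this]
          have : r = (r - 1) + 1 := by omega
          nth_rewrite 1 [this]
          rw [pow_succ']
          group
        rw [e2]
        exact Subgroup.mem_zpowers _
      let C := Subgroup.closureCommGroupOfComm (k := ({QuotientGroup.mk' D x, QuotientGroup.mk' D y} : Set (G ⧸ D))) (by
        intro a ha b hb
        rcases ha with rfl | rfl <;> rcases hb with rfl | rfl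
        · rfl
        · exact hxy
        · exact hxy.symm
        · rfl)
      have htop : Subgroup.closure ({QuotientGroup.mk' D x, QuotientGroup.mk' D y} : Set (G ⧸ D)) = ⊤ := by
        have := MonoidHom.map_closure (QuotientGroup.mk' D) {x, y}
        rw [hgen, ← MonoidHom.range_eq_map, MonoidHom.range_eq_top.mpr (QuotientGroup.mk'_surjective D)] at this
        rw [this]
        congr 1
        ext z
        simp [Set.image_pair]
      intro a b
      have ha : a ∈ Subgroup.closure ({QuotientGroup.mk' D x, QuotientGroup.mk' D y} : Set (G ⧸ D)) := by rw [htop]; trivial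
      have hb : b ∈ Subgroup.closure ({QuotientGroup.mk' D x, QuotientGroup.mk' D y} : Set (G ⧸ D)) := by rw [htop]; trivial
      have := @mul_comm _ C.toCommMagma ⟨a, ha⟩ ⟨b, hb⟩
      exact congrArg Subtype.val this
    have hle : commutator G ≤ D := by
      letI : CommGroup (G ⧸ D) := { (inferInstance : Group (G ⧸ D)) with mul_comm := hcommQ }
      have := Abelianization.commutator_subset_ker (QuotientGroup.mk' D)
      rwa [QuotientGroup.ker_mk'] at this
    have hDeq : D = Subgroup.zpowers y := by rw [← hNy]; exact le_antisymm hDN hle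
    have hord : orderOf (y ^ (r - 1)) = orderOf y := by
      rw [← Nat.card_zpowers, ← Nat.card_zpowers y, ← hDeq]
    rw [orderOf_pow] at hord
    have hg : Nat.gcd (orderOf y) (r - 1) = 1 := by
      have hdvd : Nat.gcd (orderOf y) (r - 1) ∣ orderOf y := Nat.gcd_dvd_left _ _
      obtain ⟨c, hc⟩ := hdvd
      have hgpos : 0 < Nat.gcd (orderOf y) (r - 1) := Nat.gcd_pos_of_pos_left _ hmpos
      rw [Nat.div_eq_iff_eq_mul_left hgpos (Nat.gcd_dvd_left _ _)] at hord
      nlinarith [hord, hmpos, hgpos]
    rw [Nat.coprime_comm]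
    exact hg
  · rw [hxn, ← hHidx, hym]
    exact hcop.symm
  · omega
  · have h2 := conj_pow_aux x y r hyr (orderOf x)
    rw [pow_orderOf_eq_one] at h2
    simp only [inv_one, one_mul, mul_one] at h2
    have h3 : y ^ 1 = y ^ (r ^ orderOf x) := by rw [pow_one]; exact h2
    rw [pow_eq_pow_iff_modEq] at h3
    exact h3.symm

end Cfsg.Agent.S3379
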