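import Cfsg.Statements.S0039
import Cfsg.Agent.Lib.Helper35.Frobenius

set_option autoImplicit false
open Cfsg
open scoped Pointwise

namespace Cfsg.Agent.S0039

open Cfsg.Agent.Lib.Helper35

/-- In a finite group that is a semidirect product of a normal subgroup K by a nontrivial subgroup H, H is a Frobenius complement exactly when each nonidentity element of H acts without nonidentity fixed points on K by conjugation. -/
theorem result {G : Type*} [Group G] [Finite G] (K H : Subgroup G) [K.Normal]
    (hc : Subgroup.IsComplement' K H) (hK : K ≠ ⊥) (hH : H ≠ ⊥) :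
    Cfsg.IsFrobeniusComplement H ↔ ∀ h ∈ H, h ≠ 1 → K ⊓ Subgroup.centralizer {h} = ⊥ := by
  have hdisj : ∀ x, x ∈ K → x ∈ H → x = 1 := by
    intro x hxK hxH
    have := hc.disjoint
    rw [Subgroup.disjoint_def] at this
    exact this hxK hxH
  constructor
  · intro hF h hh hh1
    rw [eq_bot_iff]
    rintro k ⟨hkK, hkC⟩
    rw [Subgroup.mem_bot]
    have hcomm : k * h = h * k := by
      have := Subgroup.mem_centralizer_iff.mp hkC h (Set.mem_singleton h)
      exact this.symm
    exact hdisj k hkK (mem_of_commute hF hh1 hh hcomm)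
  · intro hfix
    refine ⟨hH, ?_, ?_⟩
    · intro htop
      apply hK
      rw [eq_bot_iff]
      intro x hx
      rw [Subgroup.mem_bot]
      exact hdisj x hx (by rw [htop]; trivial)
    · intro g hg
      rw [eq_bot_iff]
      intro x hx
      obtain ⟨hxH, hxg⟩ := Subgroup.mem_inf.mp hx
      rw [Subgroup.mem_bot]
      -- write g = k * h₀
      have hgmem : g ∈ (K : Set G) * (H : Set G) := by
        rw [← Subgroup.normal_mul, hc.sup_eq_top]; trivial
      obtain ⟨k, hk, h₀, hh₀, hkh⟩ := hgmem
      have hkh' : k * h₀ = g := hkh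
      subst hkh'
      rw [mem_conj_smul] at hxg
      -- y := k⁻¹ x k ∈ H
      set y := k⁻¹ * x * k with hy
      have hyH : y ∈ H := by
        have h1 : y = h₀ * ((k * h₀)⁻¹ * x * (k * h₀)) * h₀⁻¹ := by rw [hy]; group
        rw [h1]
        exact H.mul_mem (H.mul_mem hh₀ hxg) (H.inv_mem hh₀)
      have hxy : x * y⁻¹ = 1 := by
        apply hdisj
        · have h1 : x * y⁻¹ = (x * k⁻¹ * x⁻¹) * k := by rw [hy]; group
          rw [h1]
          exact K.mul_mem (Subgroup.Normal.conj_mem inferInstance _ (K.inv_mem hk) x) hk
        · exact H.mul_mem hxH (H.inv_mem hyH)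
      have hxy' : x = y := by
        calc x = x * y⁻¹ * y := by group
          _ = y := by rw [hxy, one_mul]
      by_contra hx1
      have hkC : k ∈ K ⊓ Subgroup.centralizer {x} := by
        refine Subgroup.mem_inf.mpr ⟨hk, ?_⟩
        rw [Subgroup.mem_centralizer_iff]
        intro z hz
        rw [Set.mem_singleton_iff] at hz
        subst hz
        have : k * (k⁻¹ * z * k) = z * k := by group
        rw [← hy, ← hxy'] at this
        exact this.symm
      rw [hfix x hxH hx1, Subgroup.mem_bot] at hkC
      apply hg
      rw [hkC, one_mul]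
      exact hh₀

end Cfsg.Agent.S0039
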