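import Cfsg.Statements.S5957

set_option autoImplicit false
open Cfsg

namespace Cfsg.Agent.S5957

section struct

variable {F V : Type*} [Field F] [AddCommGroup V] [Module F V]

/-- An adapted ("monomial") basis of an invariant subspace. -/
structure Adapted (ψ : V →ₗ[F] V) (M : Submodule F V) (ι : Type) (b : ι → V) (π : ι → ι)
    (κ : ι → F) : Prop where
  li : LinearIndependent F b
  span_eq : Submodule.span F (Set.range b) = M
  inv : ∀ i, π (π i) = i
  ne : ∀ i, κ i ≠ 0
  act : ∀ i, ψ (b i) = κ i • b (π i)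

lemma Adapted.glue {ψ : V →ₗ[F] V} {M' N M : Submodule F V} {ι τ : Type}
    {b : ι → V} {π : ι → ι} {κ : ι → F} {c : τ → V} {ρ : τ → τ} {μ : τ → F}
    (h1 : Adapted ψ M' ι b π κ) (h2 : Adapted ψ N τ c ρ μ) (hd : Disjoint M' N) (hs : M' ⊔ N = M) :
    Adapted ψ M (ι ⊕ τ) (Sum.elim b c) (Sum.map π ρ) (Sum.elim κ μ) where
  li := LinearIndependent.sum_type h1.li h2.li (by rw [h1.span_eq, h2.span_eq]; exact hd)
  span_eq := by rw [Set.Sum.elim_range, Submodule.span_union, h1.span_eq, h2.span_eq, hs]
  inv := by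
    rintro (i | i)
    · simp [h1.inv]
    · simp [h2.inv]
  ne := by
    rintro (i | i)
    · simpa using h1.ne i
    · simpa using h2.ne i
  act := by
    rintro (i | i)
    · simpa using h1.act i
    · simpa using h2.act i

variable [FiniteDimensional F V]

theorem exists_adapted (ψ : V →ₗ[F] V) (z : F) (hz : z ≠ 0) (hψ : ∀ v, ψ (ψ v) = z • v) :
    ∀ (d : ℕ) (M : Submodule F V), Module.finrank F M = d → (∀ v ∈ M, ψ v ∈ M) →
      ∃ (ι : Type) (_ : Fintype ι) (b : ι → V) (π : ι → ι) (κ : ι → F), Adapted ψ M ι b π κ := by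
  intro d
  induction d using Nat.strong_induction_on with
  | _ d ih =>
  intro M hMd hMinv
  have hψinj : ∀ v, ψ v = 0 → v = 0 := by
    intro v hv
    have := hψ v
    rw [hv, map_zero] at this
    exact (smul_eq_zero.mp this.symm).resolve_left hz
  by_cases hA : ∃ u ∈ M, ψ u ∉ Submodule.span F {u}
  · -- case A: peel off a cyclic two-dimensional block
    obtain ⟨u, huM, hu⟩ := hA
    obtain ⟨θ₀, hθ₀, hθ₀'⟩ := Submodule.exists_dual_map_eq_bot_of_notMem hu inferInstance
    have hθ₀u : θ₀ u = 0 := by
      have : θ₀ u ∈ (Submodule.span F {u}).map θ₀ :=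
        Submodule.mem_map_of_mem (Submodule.mem_span_singleton_self u)
      rw [hθ₀'] at this
      simpa using this
    set θ : Module.Dual F V := (θ₀ (ψ u))⁻¹ • θ₀ with hθ
    have hθu : θ u = 0 := by simp [hθ, hθ₀u]
    have hθψu : θ (ψ u) = 1 := by simp [hθ, hθ₀]
    set M' : Submodule F V := M ⊓ LinearMap.ker θ ⊓ LinearMap.ker (θ ∘ₗ ψ) with hM'
    have hM'le : M' ≤ M := inf_le_left.trans inf_le_left
    have hM'inv : ∀ v ∈ M', ψ v ∈ M' := by
      rintro v ⟨⟨hvM, hv1⟩, hv2⟩
      refine ⟨⟨hMinv v hvM, ?_⟩, ?_⟩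
      · simpa using hv2
      · have hv1' : θ v = 0 := hv1
        simp [hψ, hv1']
    have huM' : u ∉ M' := by
      rintro ⟨-, h2⟩
      have : θ (ψ u) = 0 := h2
      rw [hθψu] at this
      exact one_ne_zero this
    have hlt : M' < M := lt_of_le_of_ne hM'le (fun h => huM' (h ▸ huM))
    have hfr : Module.finrank F M' < d := hMd ▸ Submodule.finrank_lt_finrank_of_lt hlt
    obtain ⟨ι, _, b, π, κ, hAd⟩ := ih _ hfr M' rfl hM'inv
    -- the two-dimensional block
    have hu0 : u ≠ 0 := by
      rintro rfl
      simp at hu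
    have hpair : LinearIndependent F ![u, ψ u] := by
      rw [LinearIndependent.pair_iff' hu0]
      intro a ha
      apply hu
      rw [← ha]
      exact Submodule.smul_mem _ _ (Submodule.mem_span_singleton_self u)
    set N : Submodule F V := Submodule.span F (Set.range ![u, ψ u]) with hN
    have hblock : Adapted ψ N (Fin 2) ![u, ψ u] ![1, 0] ![1, z] := by
      refine ⟨hpair, rfl, ?_, ?_, ?_⟩
      · intro i; fin_cases i <;> simp
      · intro i; fin_cases i <;> simp [hz]
      · intro i; fin_cases i <;> simp [hψ]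
    have hNmem : ∀ w, w ∈ N ↔ ∃ α β : F, w = α • u + β • ψ u := by
      intro w
      rw [hN, Matrix.range_cons, Matrix.range_cons, Matrix.range_empty, Set.union_empty,
        Set.singleton_union, Submodule.mem_span_pair]
      constructor
      · rintro ⟨α, β, rfl⟩; exact ⟨α, β, rfl⟩
      · rintro ⟨α, β, rfl⟩; exact ⟨α, β, rfl⟩
    have hdisj : Disjoint M' N := by
      rw [Submodule.disjoint_def]
      rintro w ⟨⟨-, hw1⟩, hw2⟩ hwN
      obtain ⟨α, β, rfl⟩ := (hNmem w).mp hwN
      have h1 : θ (α • u + β • ψ u) = 0 := hw1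
      have h2 : θ (ψ (α • u + β • ψ u)) = 0 := hw2
      simp only [map_add, map_smul, hψ, hθu, hθψu, smul_eq_mul, mul_zero, mul_one, zero_add,
        add_zero] at h1 h2
      rw [h1, h2]
      simp
    have hsup : M' ⊔ N = M := by
      apply le_antisymm
      · refine sup_le hM'le ?_
        rw [hN, Submodule.span_le]
        rintro _ ⟨i, rfl⟩
        fin_cases i
        · exact huM
        · exact hMinv u huM
      · intro w hw
        have hdecomp : w = (w - (θ (ψ w) • u + θ w • ψ u)) + (θ (ψ w) • u + θ w • ψ u) := by abel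
        rw [hdecomp]
        refine Submodule.add_mem_sup ?_ ((hNmem _).mpr ⟨_, _, rfl⟩)
        refine ⟨⟨?_, ?_⟩, ?_⟩
        · exact M.sub_mem hw (M.add_mem (M.smul_mem _ huM) (M.smul_mem _ (hMinv u huM)))
        · show θ _ = 0
          simp [hθu, hθψu]
        · show θ (ψ _) = 0
          simp [hψ, hθu, hθψu]
    exact ⟨ι ⊕ Fin 2, inferInstance, _, _, _, hAd.glue hblock hdisj hsup⟩
  · -- case B: every vector of M is an eigenvector
    push Not at hA
    by_cases hM0 : M = ⊥
    · subst hM0
      refine ⟨Empty, inferInstance, Empty.elim, id, Empty.elim, ?_⟩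
      refine ⟨linearIndependent_empty_type, ?_, fun i => i.elim, fun i => i.elim, fun i => i.elim⟩
      simp
    · obtain ⟨u, huM, hu0⟩ := (Submodule.ne_bot_iff M).mp hM0
      obtain ⟨lam, hlam⟩ := Submodule.mem_span_singleton.mp (hA u huM)
      have hlam0 : lam ≠ 0 := by
        rintro rfl
        rw [zero_smul] at hlam
        exact hu0 (hψinj u hlam.symm)
      have hunot : u ∉ (⊥ : Submodule F V) := by simpa using hu0
      obtain ⟨θ₀, hθ₀, -⟩ := Submodule.exists_dual_map_eq_bot_of_notMem hunot inferInstance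
      set θ : Module.Dual F V := (θ₀ u)⁻¹ • θ₀ with hθ
      have hθu : θ u = 1 := by simp [hθ, hθ₀]
      set M' : Submodule F V := M ⊓ LinearMap.ker θ with hM'
      have hM'le : M' ≤ M := inf_le_left
      have hM'inv : ∀ v ∈ M', ψ v ∈ M' := by
        intro v hv
        obtain ⟨c, hc⟩ := Submodule.mem_span_singleton.mp (hA v (hM'le hv))
        rw [← hc]
        exact M'.smul_mem _ hv
      have huM' : u ∉ M' := by
        rintro ⟨-, h2⟩
        have : θ u = 0 := h2
        rw [hθu] at this
        exact one_ne_zero this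
      have hlt : M' < M := lt_of_le_of_ne hM'le (fun h => huM' (h ▸ huM))
      have hfr : Module.finrank F M' < d := hMd ▸ Submodule.finrank_lt_finrank_of_lt hlt
      obtain ⟨ι, _, b, π, κ, hAd⟩ := ih _ hfr M' rfl hM'inv
      set N : Submodule F V := Submodule.span F (Set.range (fun _ : Unit => u)) with hN
      have hNeq : N = Submodule.span F {u} := by
        rw [hN]; congr 1; ext x; simp
      have hblock : Adapted ψ N Unit (fun _ => u) id (fun _ => lam) := by
        refine ⟨?_, rfl, fun _ => rfl, fun _ => hlam0, fun _ => hlam.symm⟩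
        exact linearIndependent_unique_iff.mpr hu0
      have hdisj : Disjoint M' N := by
        rw [Submodule.disjoint_def, hNeq]
        rintro w ⟨-, hw1⟩ hwN
        obtain ⟨α, rfl⟩ := Submodule.mem_span_singleton.mp hwN
        have h1 : θ (α • u) = 0 := hw1
        simp only [map_smul, hθu, smul_eq_mul, mul_one] at h1
        rw [h1, zero_smul]
      have hsup : M' ⊔ N = M := by
        apply le_antisymm
        · refine sup_le hM'le ?_
          rw [hNeq, Submodule.span_singleton_le_iff_mem]
          exact huM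
        · intro w hw
          have hdecomp : w = (w - θ w • u) + θ w • u := by abel
          rw [hdecomp, hNeq]
          refine Submodule.add_mem_sup ?_ (Submodule.smul_mem _ _ (Submodule.mem_span_singleton_self u))
          refine ⟨M.sub_mem hw (M.smul_mem _ huM), ?_⟩
          show θ _ = 0
          simp [hθu]
      exact ⟨ι ⊕ Unit, inferInstance, _, _, _, hAd.glue hblock hdisj hsup⟩

end struct

section comb

variable {ι : Type} [DecidableEq ι]

def Good (π : ι → ι) (a t : ℕ) (S : Finset ι) (c : ι → ℕ) : Prop :=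
  (∀ i ∈ S, c i < t) ∧ (∀ j < t, (S.filter (fun i => c i = j)).card = a) ∧
    ∀ i ∈ S, ∀ i' ∈ S, c i = c i' → c (π i) = c (π i')

lemma good_ext1 (π : ι → ι) (hπ : ∀ i, π (π i) = i) (a t : ℕ) (ht : 1 ≤ t) (S B : Finset ι)
    (hS : ∀ i ∈ S, π i ∈ S) (hBS : B ⊆ S) (hB : ∀ i ∈ B, π i ∈ B) (hBa : B.card = a)
    (c' : ι → ℕ) (hc' : Good π a (t - 1) (S \ B) c') :
    Good π a t S (fun i => if i ∈ B then t - 1 else c' i) := by
  obtain ⟨h1, h2, h3⟩ := hc'
  have hB' : ∀ i, π i ∈ B → i ∈ B := fun i hi => by simpa [hπ] using hB _ hi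
  refine ⟨?_, ?_, ?_⟩
  · intro i hi
    by_cases hiB : i ∈ B
    · simp only [hiB, if_true]; omega
    · simp only [hiB, if_false]
      have := h1 i (Finset.mem_sdiff.mpr ⟨hi, hiB⟩)
      omega
  · intro j hj
    by_cases hjt : j = t - 1
    · subst hjt
      have : S.filter (fun i => (if i ∈ B then t - 1 else c' i) = t - 1) = B := by
        ext i
        simp only [Finset.mem_filter]
        constructor
        · rintro ⟨hi, hci⟩
          by_contra hiB
          simp only [hiB, if_false] at hci
          have := h1 i (Finset.mem_sdiff.mpr ⟨hi, hiB⟩)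
          omega
        · intro hiB
          exact ⟨hBS hiB, by simp [hiB]⟩
      rw [this, hBa]
    · have hj' : j < t - 1 := by omega
      have : S.filter (fun i => (if i ∈ B then t - 1 else c' i) = j) =
          (S \ B).filter (fun i => c' i = j) := by
        ext i
        simp only [Finset.mem_filter, Finset.mem_sdiff]
        constructor
        · rintro ⟨hi, hci⟩
          by_cases hiB : i ∈ B
          · simp only [hiB, if_true] at hci; omega
          · simp only [hiB, if_false] at hci
            exact ⟨⟨hi, hiB⟩, hci⟩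
        · rintro ⟨⟨hi, hiB⟩, hci⟩
          exact ⟨hi, by simp [hiB, hci]⟩
      rw [this, h2 j hj']
  · intro i hi i' hi' hcc
    by_cases hiB : i ∈ B
    · by_cases hi'B : i' ∈ B
      · simp [hB i hiB, hB i' hi'B]
      · simp only [hiB, hi'B, if_true, if_false] at hcc
        have := h1 i' (Finset.mem_sdiff.mpr ⟨hi', hi'B⟩)
        omega
    · by_cases hi'B : i' ∈ B
      · simp only [hiB, hi'B, if_true, if_false] at hcc
        have := h1 i (Finset.mem_sdiff.mpr ⟨hi, hiB⟩)
        omega
      · simp only [hiB, hi'B, if_false] at hcc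
        have hπi : π i ∉ B := fun h => hiB (hB' i h)
        have hπi' : π i' ∉ B := fun h => hi'B (hB' i' h)
        simp only [hπi, hπi', if_false]
        exact h3 i (Finset.mem_sdiff.mpr ⟨hi, hiB⟩) i' (Finset.mem_sdiff.mpr ⟨hi', hi'B⟩) hcc

lemma good_ext2 (π : ι → ι) (hπ : ∀ i, π (π i) = i) (a t : ℕ) (ht : 2 ≤ t) (S B : Finset ι)
    (hS : ∀ i ∈ S, π i ∈ S) (hBS : B ⊆ S) (hB : ∀ i ∈ B, π i ∉ B) (hBa : B.card = a)
    (c' : ι → ℕ) (hc' : Good π a (t - 2) (S \ (B ∪ B.image π)) c') :
    Good π a t S (fun i => if i ∈ B then t - 1 else if i ∈ B.image π then t - 2 else c' i) := by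
  obtain ⟨h1, h2, h3⟩ := hc'
  have hπinj : Function.Injective π := fun x y h => by rw [← hπ x, ← hπ y, h]
  have hmemimg : ∀ i, i ∈ B.image π ↔ π i ∈ B := by
    intro i
    simp only [Finset.mem_image]
    constructor
    · rintro ⟨r, hr, rfl⟩; rwa [hπ]
    · intro h; exact ⟨π i, h, hπ i⟩
  have hB2card : (B.image π).card = a := by rw [Finset.card_image_of_injective _ hπinj, hBa]
  have hB2S : B.image π ⊆ S := by
    intro i hi
    rw [hmemimg] at hi
    have := hS _ (hBS hi)
    rwa [hπ] at this
  have hB2B : ∀ i, i ∈ B.image π → i ∉ B := by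
    intro i hi hiB
    rw [hmemimg] at hi
    exact hB i hiB hi
  have hrest : ∀ i, i ∈ S → i ∉ B → i ∉ B.image π → i ∈ S \ (B ∪ B.image π) := by
    intro i hi h1' h2'
    simp only [Finset.mem_sdiff, Finset.mem_union]
    exact ⟨hi, fun h => h.elim h1' h2'⟩
  refine ⟨?_, ?_, ?_⟩
  · intro i hi
    by_cases hiB : i ∈ B
    · simp only [hiB, if_true]; omega
    · by_cases hiB2 : i ∈ B.image π
      · simp only [hiB, hiB2, if_true, if_false]; omega
      · simp only [hiB, hiB2, if_false]
        have := h1 i (hrest i hi hiB hiB2)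
        omega
  · intro j hj
    by_cases hjt : j = t - 1
    · subst hjt
      have : S.filter (fun i => (if i ∈ B then t - 1 else if i ∈ B.image π then t - 2 else c' i) = t - 1) = B := by
        ext i
        simp only [Finset.mem_filter]
        constructor
        · rintro ⟨hi, hci⟩
          by_contra hiB
          by_cases hiB2 : i ∈ B.image π
          · simp only [hiB, hiB2, if_true, if_false] at hci; omega
          · simp only [hiB, hiB2, if_false] at hci
            have := h1 i (hrest i hi hiB hiB2)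
            omega
        · intro hiB
          exact ⟨hBS hiB, by simp [hiB]⟩
      rw [this, hBa]
    · by_cases hjt2 : j = t - 2
      · subst hjt2
        have : S.filter (fun i => (if i ∈ B then t - 1 else if i ∈ B.image π then t - 2 else c' i) = t - 2) = B.image π := by
          ext i
          simp only [Finset.mem_filter]
          constructor
          · rintro ⟨hi, hci⟩
            by_contra hiB2
            by_cases hiB : i ∈ B
            · simp only [hiB, if_true] at hci; omega
            · simp only [hiB, hiB2, if_false] at hci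
              have := h1 i (hrest i hi hiB hiB2)
              omega
          · intro hiB2
            exact ⟨hB2S hiB2, by simp [hiB2, hB2B i hiB2]⟩
        rw [this, hB2card]
      · have hj' : j < t - 2 := by omega
        have : S.filter (fun i => (if i ∈ B then t - 1 else if i ∈ B.image π then t - 2 else c' i) = j) =
            (S \ (B ∪ B.image π)).filter (fun i => c' i = j) := by
          ext i
          simp only [Finset.mem_filter]
          constructor
          · rintro ⟨hi, hci⟩
            by_cases hiB : i ∈ B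
            · simp only [hiB, if_true] at hci; omega
            · by_cases hiB2 : i ∈ B.image π
              · simp only [hiB, hiB2, if_true, if_false] at hci; omega
              · simp only [hiB, hiB2, if_false] at hci
                exact ⟨hrest i hi hiB hiB2, hci⟩
          · rintro ⟨hi, hci⟩
            simp only [Finset.mem_sdiff, Finset.mem_union, not_or] at hi
            exact ⟨hi.1, by simp [hi.2.1, hi.2.2, hci]⟩
        rw [this, h2 j hj']
  · intro i hi i' hi' hcc
    beta_reduce at hcc
    have key : ∀ i, i ∈ S → ((i ∈ B ∧ (if i ∈ B then t - 1 else if i ∈ B.image π then t - 2 else c' i) = t - 1)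
        ∨ (i ∉ B ∧ i ∈ B.image π ∧ (if i ∈ B then t - 1 else if i ∈ B.image π then t - 2 else c' i) = t - 2)
        ∨ (i ∉ B ∧ i ∉ B.image π ∧ (if i ∈ B then t - 1 else if i ∈ B.image π then t - 2 else c' i) = c' i ∧ c' i < t - 2)) := by
      intro i hi
      by_cases hiB : i ∈ B
      · left; exact ⟨hiB, by simp [hiB]⟩
      · by_cases hiB2 : i ∈ B.image π
        · right; left; exact ⟨hiB, hiB2, by simp [hiB, hiB2]⟩
        · right; right; exact ⟨hiB, hiB2, by simp [hiB, hiB2], h1 i (hrest i hi hiB hiB2)⟩
    have hval1 : ∀ i, i ∈ B → (if π i ∈ B then t - 1 else if π i ∈ B.image π then t - 2 else c' (π i)) = t - 2 := by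
      intro i hiB
      have h1' : π i ∉ B := hB i hiB
      have h2' : π i ∈ B.image π := Finset.mem_image_of_mem _ hiB
      simp [h1', h2']
    have hval2 : ∀ i, i ∈ B.image π → (if π i ∈ B then t - 1 else if π i ∈ B.image π then t - 2 else c' (π i)) = t - 1 := by
      intro i hiB2
      have h1' : π i ∈ B := (hmemimg i).mp hiB2
      simp [h1']
    have hval3 : ∀ i, i ∉ B → i ∉ B.image π → (if π i ∈ B then t - 1 else if π i ∈ B.image π then t - 2 else c' (π i)) = c' (π i) := by
      intro i hiB hiB2
      have h1' : π i ∉ B := fun h => hiB2 ((hmemimg i).mpr h)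
      have h2' : π i ∉ B.image π := fun h => hiB (by simpa [hπ] using (hmemimg (π i)).mp h)
      simp [h1', h2']
    show (if π i ∈ B then t - 1 else if π i ∈ B.image π then t - 2 else c' (π i)) =
      (if π i' ∈ B then t - 1 else if π i' ∈ B.image π then t - 2 else c' (π i'))
    rcases key i hi with ⟨a1, a2⟩ | ⟨a1, a2, a3⟩ | ⟨a1, a2, a3, a4⟩ <;>
    rcases key i' hi' with ⟨b1, b2⟩ | ⟨b1, b2, b3⟩ | ⟨b1, b2, b3, b4⟩
    · rw [hval1 i a1, hval1 i' b1]
    · exfalso; rw [a2, b3] at hcc; omega
    · exfalso; rw [a2, b3] at hcc; omega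
    · exfalso; rw [a3, b2] at hcc; omega
    · rw [hval2 i a2, hval2 i' b2]
    · exfalso; rw [a3, b3] at hcc; omega
    · exfalso; rw [a3, b2] at hcc; omega
    · exfalso; rw [a3, b3] at hcc; omega
    · rw [hval3 i a1 a2, hval3 i' b1 b2]
      rw [a3, b3] at hcc
      exact h3 i (hrest i hi a1 a2) i' (hrest i' hi' b1 b2) hcc

end comb

section comb2

theorem exists_good {ι : Type} [LinearOrder ι] (π : ι → ι) (hπ : ∀ i, π (π i) = i) (a : ℕ) :
    ∀ (t : ℕ) (S : Finset ι), (∀ i ∈ S, π i ∈ S) → S.card = a * t →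
      ∃ c : ι → ℕ, Good π a t S c := by
  intro t
  induction t using Nat.strong_induction_on with
  | _ t ih =>
  intro S hS hcard
  rcases Nat.eq_zero_or_pos t with rfl | ht
  · have hS0 : S = ∅ := by simpa using hcard
    subst hS0
    exact ⟨fun _ => 0, by simp [Good]⟩
  have hπinj : Function.Injective π := fun x y h => by rw [← hπ x, ← hπ y, h]
  set Fx := S.filter (fun i => π i = i) with hFx
  set R := S.filter (fun i => i < π i) with hR
  have hRS : R ⊆ S := Finset.filter_subset _ _
  have hFxS : Fx ⊆ S := Finset.filter_subset _ _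
  have hRimg : R.image π = S.filter (fun i => π i < i) := by
    ext i
    simp only [Finset.mem_image, Finset.mem_filter, hR]
    constructor
    · rintro ⟨r, ⟨hrS, hr⟩, rfl⟩
      exact ⟨hS r hrS, by rw [hπ]; exact hr⟩
    · rintro ⟨hiS, hi⟩
      exact ⟨π i, ⟨hS i hiS, by rw [hπ]; exact hi⟩, hπ i⟩
  have memR : ∀ i, i ∈ R ↔ i ∈ S ∧ i < π i := fun i => Finset.mem_filter
  have memFx : ∀ i, i ∈ Fx ↔ i ∈ S ∧ π i = i := fun i => Finset.mem_filter
  have memRimg : ∀ i, i ∈ R.image π ↔ i ∈ S ∧ π i < i := fun i => by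
    rw [hRimg]; exact Finset.mem_filter
  have hd1 : Disjoint R (R.image π) := by
    rw [Finset.disjoint_left]
    intro i hi hi'
    rw [memR] at hi
    rw [memRimg] at hi'
    exact lt_asymm hi.2 hi'.2
  have hd2 : Disjoint Fx (R ∪ R.image π) := by
    rw [Finset.disjoint_left]
    intro i hi hi'
    rw [memFx] at hi
    rw [Finset.mem_union, memR, memRimg] at hi'
    rcases hi' with h | h
    · exact absurd hi.2 (ne_of_gt h.2)
    · exact absurd hi.2 (ne_of_lt h.2)
  have hScard : S.card = Fx.card + 2 * R.card := by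
    have h1 : S = Fx ∪ (R ∪ R.image π) := by
      ext i
      rw [Finset.mem_union, Finset.mem_union, memFx, memR, memRimg]
      constructor
      · intro hi
        rcases lt_trichotomy i (π i) with h | h | h
        · right; left; exact ⟨hi, h⟩
        · left; exact ⟨hi, h.symm⟩
        · right; right; exact ⟨hi, h⟩
      · rintro (h | h | h) <;> exact h.1
    calc S.card = (Fx ∪ (R ∪ R.image π)).card := by rw [← h1]
      _ = Fx.card + (R.card + (R.image π).card) := by
          rw [Finset.card_union_of_disjoint hd2, Finset.card_union_of_disjoint hd1]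
      _ = Fx.card + 2 * R.card := by rw [Finset.card_image_of_injective _ hπinj]; ring
  have hat : a ≤ a * t := Nat.le_mul_of_pos_right a ht
  by_cases hcase : Even a ∨ 1 ≤ Fx.card
  · -- a fixed bin
    set k₁ := min R.card (a / 2) with hk₁
    have hk₁R : k₁ ≤ R.card := min_le_left _ _
    have hk₁a : 2 * k₁ ≤ a := by
      have := min_le_right R.card (a / 2)
      omega
    have hl₁ : a - 2 * k₁ ≤ Fx.card := by
      rcases le_total R.card (a / 2) with h | h
      · have : k₁ = R.card := min_eq_left h
        omega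
      · have : k₁ = a / 2 := min_eq_right h
        rcases hcase with he | hf
        · obtain ⟨r, hr⟩ := he
          omega
        · omega
    obtain ⟨R₁, hR₁R, hR₁card⟩ := Finset.exists_subset_card_eq hk₁R
    obtain ⟨F₁, hF₁F, hF₁card⟩ := Finset.exists_subset_card_eq hl₁
    set B := R₁ ∪ R₁.image π ∪ F₁ with hB
    have hBcard : B.card = a := by
      have hdA : Disjoint R₁ (R₁.image π) := hd1.mono hR₁R (Finset.image_subset_image hR₁R)
      have hdB : Disjoint (R₁ ∪ R₁.image π) F₁ :=
        (hd2.mono hF₁F (Finset.union_subset_union hR₁R (Finset.image_subset_image hR₁R))).symm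
      rw [hB, Finset.card_union_of_disjoint hdB, Finset.card_union_of_disjoint hdA,
        Finset.card_image_of_injective _ hπinj, hR₁card, hF₁card]
      omega
    have hBS : B ⊆ S := by
      intro i hi
      simp only [hB, Finset.mem_union, Finset.mem_image] at hi
      rcases hi with (hi | ⟨r, hr, rfl⟩) | hi
      · exact hRS (hR₁R hi)
      · exact hS _ (hRS (hR₁R hr))
      · exact hFxS (hF₁F hi)
    have hBinv : ∀ i ∈ B, π i ∈ B := by
      intro i hi
      simp only [hB, Finset.mem_union, Finset.mem_image] at hi ⊢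
      rcases hi with (hi | ⟨r, hr, rfl⟩) | hi
      · left; right; exact ⟨i, hi, rfl⟩
      · left; left; rwa [hπ]
      · right
        have : π i = i := (Finset.mem_filter.mp (hF₁F hi)).2
        rwa [this]
    have hS'inv : ∀ i ∈ S \ B, π i ∈ S \ B := by
      intro i hi
      rw [Finset.mem_sdiff] at hi ⊢
      refine ⟨hS i hi.1, fun h => hi.2 ?_⟩
      have := hBinv _ h
      rwa [hπ] at this
    have hS'card : (S \ B).card = a * (t - 1) := by
      rw [Finset.card_sdiff_of_subset hBS, hcard, hBcard, Nat.mul_sub, mul_one]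
    obtain ⟨c', hc'⟩ := ih (t - 1) (by omega) (S \ B) hS'inv hS'card
    exact ⟨_, good_ext1 π hπ a t ht S B hS hBS hBinv hBcard c' hc'⟩
  · -- a swapped pair of bins
    push Not at hcase
    obtain ⟨hodd, hFx0⟩ := hcase
    have hFx0' : Fx.card = 0 := by omega
    have h2R : 2 * R.card = a * t := by omega
    have hteven : Even t := by
      have : Even (a * t) := ⟨R.card, by omega⟩
      rcases Nat.even_mul.mp this with h | h
      · exact absurd h hodd
      · exact h
    obtain ⟨t', ht'⟩ := hteven
    have ht2 : 2 ≤ t := by omega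
    have hRa : a ≤ R.card := by
      have h3 : R.card = a * t' := by
        have : 2 * R.card = 2 * (a * t') := by rw [h2R, ht']; ring
        omega
      rw [h3]
      exact Nat.le_mul_of_pos_right a (by omega)
    obtain ⟨R₁, hR₁R, hR₁card⟩ := Finset.exists_subset_card_eq hRa
    have hR₁S : R₁ ⊆ S := hR₁R.trans hRS
    have hR₁inv : ∀ i ∈ R₁, π i ∉ R₁ := by
      intro i hi hi'
      have h1 := (Finset.mem_filter.mp (hR₁R hi)).2
      have h2 := (Finset.mem_filter.mp (hR₁R hi')).2
      rw [hπ] at h2
      exact lt_asymm h1 h2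
    have hS'inv : ∀ i ∈ S \ (R₁ ∪ R₁.image π), π i ∈ S \ (R₁ ∪ R₁.image π) := by
      intro i hi
      simp only [Finset.mem_sdiff, Finset.mem_union, Finset.mem_image, not_or] at hi ⊢
      refine ⟨hS i hi.1, fun h => hi.2.2 ⟨π i, h, hπ i⟩, ?_⟩
      rintro ⟨r, hr, hr'⟩
      exact hi.2.1 (by rw [← hπinj hr']; exact hr)
    have hS'card : (S \ (R₁ ∪ R₁.image π)).card = a * (t - 2) := by
      have hsub : R₁ ∪ R₁.image π ⊆ S := by
        intro i hi
        simp only [Finset.mem_union, Finset.mem_image] at hi
        rcases hi with hi | ⟨r, hr, rfl⟩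
        · exact hR₁S hi
        · exact hS _ (hR₁S hr)
      have hdA : Disjoint R₁ (R₁.image π) := hd1.mono hR₁R (Finset.image_subset_image hR₁R)
      rw [Finset.card_sdiff_of_subset hsub, Finset.card_union_of_disjoint hdA,
        Finset.card_image_of_injective _ hπinj, hR₁card, hcard, Nat.mul_sub]
      omega
    obtain ⟨c', hc'⟩ := ih (t - 2) (by omega) _ hS'inv hS'card
    exact ⟨_, good_ext2 π hπ a t ht2 S R₁ hS hR₁S hR₁inv hR₁card c' hc'⟩

theorem exists_coloring {ι : Type} [Fintype ι] (a t : ℕ) (ha : 0 < a)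
    (hm : Fintype.card ι = a * t) (π : ι → ι) (hπ : ∀ i, π (π i) = i) :
    ∃ (c : ι → Fin t) (σ : Equiv.Perm (Fin t)),
      (∀ j, Nat.card {i // c i = j} = a) ∧ ∀ i, c (π i) = σ (c i) := by
  classical
  let _ : LinearOrder ι := LinearOrder.lift' (Fintype.equivFin ι) (Fintype.equivFin ι).injective
  obtain ⟨c₀, h1, h2, h3⟩ := exists_good π hπ a t Finset.univ (fun i _ => Finset.mem_univ _)
    (by rw [Finset.card_univ, hm])
  let c : ι → Fin t := fun i => ⟨c₀ i, h1 i (Finset.mem_univ _)⟩
  have hfib : ∀ j : Fin t, Nat.card {i // c i = j} = a := by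
    intro j
    rw [Nat.card_eq_fintype_card, Fintype.card_subtype]
    have := h2 j j.2
    convert this using 2
    ext i
    simp [c, Fin.ext_iff]
  have hne : ∀ j : Fin t, ∃ i, c i = j := by
    intro j
    have hj := hfib j
    by_contra hcon
    push Not at hcon
    have : IsEmpty {i // c i = j} := ⟨fun ⟨i, hi⟩ => hcon i hi⟩
    rw [Nat.card_of_isEmpty] at hj
    omega
  choose rep hrep using hne
  have hcompat : ∀ i i', c i = c i' → c (π i) = c (π i') := by
    intro i i' h
    apply Fin.ext
    exact h3 i (Finset.mem_univ _) i' (Finset.mem_univ _) (congrArg Fin.val h)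
  let f : Fin t → Fin t := fun j => c (π (rep j))
  have hf : Function.Involutive f := by
    intro j
    show c (π (rep (c (π (rep j))))) = j
    have := hcompat (rep (c (π (rep j)))) (π (rep j)) (hrep _)
    rw [this, hπ, hrep]
  refine ⟨c, hf.toPerm, hfib, ?_⟩
  intro i
  show c (π i) = f (c i)
  exact (hcompat _ _ (hrep (c i))).symm

end comb2

section assemble

variable {F V : Type*} [Field F] [AddCommGroup V] [Module F V] [FiniteDimensional F V]

theorem exists_decomp (ψ : V →ₗ[F] V) (z : F) (hz : z ≠ 0)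
    (hψ : ∀ v, ψ (ψ v) = z • v) (a t : ℕ) (ha : 0 < a) (hdim : Module.finrank F V = a * t) :
    ∃ (D : Fin t → Submodule F V) (σ : Equiv.Perm (Fin t)),
      (∀ j, Module.finrank F (D j) = a) ∧ iSupIndep D ∧ iSup D = ⊤ ∧
        ∀ j, (D j).map ψ = D (σ j) := by
  classical
  obtain ⟨ι, _, b, π, κ, hAd⟩ := exists_adapted ψ z hz hψ (Module.finrank F (⊤ : Submodule F V)) ⊤ rfl
    (fun _ _ => Submodule.mem_top)
  have hcard : Fintype.card ι = a * t := by
    rw [← hdim, ← finrank_span_eq_card hAd.li, hAd.span_eq, finrank_top]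
  obtain ⟨c, σ, hfib, hcσ⟩ := exists_coloring a t ha hcard π hAd.inv
  have hψinj : Function.Injective ψ := by
    rw [injective_iff_map_eq_zero]
    intro v hv
    have := hψ v
    rw [hv, map_zero] at this
    exact (smul_eq_zero.mp this.symm).resolve_left hz
  set P : Fin t → Set ι := fun j => {i | c i = j} with hP
  set D : Fin t → Submodule F V := fun j => Submodule.span F (b '' P j) with hD
  have hfr : ∀ j, Module.finrank F (D j) = a := by
    intro j
    have h1 : b '' P j = Set.range (fun i : {i // c i = j} => b i.1) := by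
      ext v
      simp only [Set.mem_image, Set.mem_range, Subtype.exists, hP, Set.mem_ofPred_eq]
      constructor
      · rintro ⟨i, hi, rfl⟩; exact ⟨i, hi, rfl⟩
      · rintro ⟨i, hi, rfl⟩; exact ⟨i, hi, rfl⟩
    have hli : LinearIndependent F (fun i : {i // c i = j} => b i.1) :=
      hAd.li.comp _ Subtype.val_injective
    have h2 : D j = Submodule.span F (Set.range (fun i : {i // c i = j} => b i.1)) := by
      rw [← h1]
    rw [h2, finrank_span_eq_card hli, ← Nat.card_eq_fintype_card, hfib j]
  have hmap_le : ∀ j, (D j).map ψ ≤ D (σ j) := by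
    intro j
    rw [hD]
    simp only
    rw [Submodule.map_span, Submodule.span_le]
    rintro _ ⟨_, ⟨i, hi, rfl⟩, rfl⟩
    rw [hAd.act i]
    refine Submodule.smul_mem _ _ (Submodule.subset_span ⟨π i, ?_, rfl⟩)
    show c (π i) = σ j
    rw [hcσ i]
    congr 1
  refine ⟨D, σ, hfr, ?_, ?_, ?_⟩
  · rw [iSupIndep_def]
    intro j
    have h1 : (⨆ (j') (_ : j' ≠ j), D j') = Submodule.span F (b '' ⋃ (j') (_ : j' ≠ j), P j') := by
      rw [Set.image_iUnion₂, Submodule.span_iUnion₂]
    rw [h1]
    apply hAd.li.disjoint_span_image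
    rw [Set.disjoint_left]
    intro i hi hi'
    simp only [Set.mem_iUnion, hP, Set.mem_ofPred_eq] at hi hi'
    obtain ⟨j', hj', hij'⟩ := hi'
    exact hj' (hij'.symm.trans hi)
  · have h1 : (⨆ j, D j) = Submodule.span F (b '' ⋃ j, P j) := by
      rw [Set.image_iUnion, Submodule.span_iUnion]
    rw [h1]
    have h2 : (⋃ j, P j) = Set.univ := by
      ext i
      simp [hP]
    rw [h2, Set.image_univ, hAd.span_eq]
  · intro j
    apply Submodule.eq_of_le_of_finrank_eq (hmap_le j)
    rw [hfr (σ j), ← hfr j]
    exact (LinearEquiv.finrank_eq (Submodule.equivMapOfInjective ψ hψinj (D j))).symm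

end assemble

open scoped MatrixGroups in
/-- Involutions of PSL_n(q) and imprimitive subgroups. Here `T = PSL_n(F)` for a field `F` with `q = p^f` elements (`n ≥ 2`, `(n, q) ≠ (2, 2), (2, 3)`), `n = a·t` with `t ≥ 2`, and Ω is the set of direct-sum decompositions of `F^n` into `t` subspaces of dimension `a` (unordered; their number is the number of ordered ones divided by `t!`), whose stabilizers are the imprimitive subgroups of type GL_a(q) ≀ S_t (maximal except in some small cases; maximality is not assumed); an element of `T` of prime order `r` (a matrix `x` of determinant 1 with `x^r` scalar, `x` not scalar) fixes a point of Ω when it permutes the summands of some such decomposition. If the number of such decompositions is even, then every involution of `T` stabilizes one of them (the action is 2-elusive). -/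
theorem result {F : Type*} [Field F] [Fintype F] {p : ℕ} [Fact p.Prime] [CharP F p] {q : ℕ} (hq : Fintype.card F = q)
    (n a t : ℕ) (hn : 2 ≤ n) (hT : (n, q) ≠ (2, 2) ∧ (n, q) ≠ (2, 3)) (hat : n = a * t) (ha : 1 ≤ a) (ht : 2 ≤ t)
    (hΩ : 2 ∣ Nat.card {D : Fin t → Submodule F (Fin n → F) // Cfsg.Geo.IsMDecomposition a D} / Nat.factorial t)
    (x : Matrix.SpecialLinearGroup (Fin n) F)
    (hx1 : ∃ z : F, ((x ^ 2 : Matrix.SpecialLinearGroup (Fin n) F) : Matrix (Fin n) (Fin n) F) = z • (1 : Matrix (Fin n) (Fin n) F))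
    (hx2 : ∀ z : F, (x : Matrix (Fin n) (Fin n) F) ≠ z • (1 : Matrix (Fin n) (Fin n) F)) :
    ∃ D : Fin t → Submodule F (Fin n → F), Cfsg.Geo.IsMDecomposition a D ∧
        ∃ σ : Equiv.Perm (Fin t), ∀ j, (D j).map (Matrix.toLin' (x : Matrix (Fin n) (Fin n) F)) = D (σ j) := by
  obtain ⟨z, hz⟩ := hx1
  have hz0 : z ≠ 0 := by
    rintro rfl
    have hdet : ((x ^ 2 : Matrix.SpecialLinearGroup (Fin n) F) : Matrix (Fin n) (Fin n) F).det = 1 :=
      (x ^ 2).det_coe
    rw [hz, zero_smul] at hdet
    haveI : Nonempty (Fin n) := ⟨⟨0, by omega⟩⟩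
    rw [Matrix.det_zero] at hdet
    exact zero_ne_one hdet
  have hsq : (x : Matrix (Fin n) (Fin n) F) * (x : Matrix (Fin n) (Fin n) F) = z • (1 : Matrix (Fin n) (Fin n) F) := by
    rw [← hz, pow_two, Matrix.SpecialLinearGroup.coe_mul]
  have hψ : ∀ v, Matrix.toLin' (x : Matrix (Fin n) (Fin n) F) (Matrix.toLin' (x : Matrix (Fin n) (Fin n) F) v) = z • v := by
    intro v
    rw [← Matrix.toLin'_mul_apply, hsq]
    simp
  obtain ⟨D, σ, h1, h2, h3, h4⟩ := exists_decomp (Matrix.toLin' (x : Matrix (Fin n) (Fin n) F)) z hz0 hψ a t ha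
    (by rw [Module.finrank_fin_fun, hat])
  exact ⟨D, ⟨ht, ha, h1, h2, h3⟩, σ, h4⟩

end Cfsg.Agent.S5957
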