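import Cfsg.Statements.S2696
import Cfsg.Agent.Lib.Helper5.AutOrthInst2
import Cfsg.Agent.Lib.Helper43.OrthCardMinus

set_option autoImplicit false
open Cfsg

namespace Cfsg.Agent.S2696

open QuadraticMap
open Cfsg.Agent.Lib.Helper37 Cfsg.Agent.Lib.Helper8 Cfsg.Agent.Lib.Helper43
open Cfsg.Agent.Lib.Helper5.AutOrth

theorem minus_hypFam' (m : ℕ) (F : Type*) [Field F] (a b : F) :
    HypFam (minusForm m F a b) m (fun i => Pi.single (Sum.inl (Sum.inl i)) 1)
      (fun i => Pi.single (Sum.inl (Sum.inr i)) 1) :=
  let h := minus_family m F a b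
  ⟨h.qe, h.qf, h.ee, h.ff, h.ef⟩

/-- For m ≥ 3 and a finite field F, the automorphism group of the minus-type group PΩ⁻_{2m+2}(F) (the form Σ xᵢ yᵢ + z₁² + a z₁ z₂ + b z₂² with anisotropic binary part) is generated by the automorphisms induced by the semisimilarities v ↦ g σ(v) of the form, that is, pairs with Q(g σ(v)) = c σ(Q(v)) (the image of the projective semisimilarity group). -/
theorem result {F : Type*} [Field F] [Fintype F] {m : ℕ} (hm : 3 ≤ m) (a b : F) (hab : ∀ z₁ z₂ : F, z₁ ^ 2 + a * z₁ * z₂ + b * z₂ ^ 2 = 0 → z₁ = 0 ∧ z₂ = 0) :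
    Cfsg.gammaPOmega F (Cfsg.quadFormMinus m F a b) = ⊤ := by
  obtain ⟨p, hp⟩ := CharP.exists F
  have := hp
  have : Fact p.Prime := ⟨CharP.char_is_prime F p⟩
  have hnd : (QuadraticMap.polarBilin (minusForm m F a b)).Nondegenerate :=
    (minus_family m F a b).nondegenerate (minusForm_zero_nondegenerate F a b hab)
  have hcard : Fintype.card ((Fin m ⊕ Fin m) ⊕ Fin 2) = m + m + 2 := by simp
  have C : Ctx (minusForm m F a b) m (fun i => Pi.single (Sum.inl (Sum.inl i)) 1)
      (fun i => Pi.single (Sum.inl (Sum.inr i)) 1) :=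
    ⟨hnd, minus_hypFam' m F a b, hm, Or.inr (by
      rw [Module.finrank_fintype_fun_eq_card, hcard]; omega)⟩
  have hT : HypT (minusForm m F a b) := by
    by_cases h4 : 4 ≤ m
    · exact hypT_of_card hnd (by rw [hcard]; omega)
    · have hm3 : m = 3 := by omega
      subst hm3
      apply hypT_of_aniso C
      intro n hn hQn
      have h1 : ∀ i : Fin 3, n (Sum.inl (Sum.inr i)) = 0 := by
        intro i
        have := (hn i).1
        unfold Ctx.ev at this
        rw [polar_minusForm] at this
        have hc : Fin.castLE C.hk i = i := by ext; simp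
        rw [hc] at this
        simpa [Pi.single_apply, Finset.sum_add_distrib] using this
      have h2 : ∀ i : Fin 3, n (Sum.inl (Sum.inl i)) = 0 := by
        intro i
        have := (hn i).2
        unfold Ctx.fv at this
        rw [polar_minusForm] at this
        have hc : Fin.castLE C.hk i = i := by ext; simp
        rw [hc] at this
        simpa [Pi.single_apply, Finset.sum_add_distrib] using this
      have h3 : n (Sum.inr 0) ^ 2 + a * n (Sum.inr 0) * n (Sum.inr 1) + b * n (Sum.inr 1) ^ 2 = 0 := by
        rw [← minusForm_coe] at hQn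
        unfold Cfsg.quadFormMinus at hQn
        simp only [h1, h2, mul_zero, Finset.sum_const_zero, zero_add] at hQn
        exact hQn
      obtain ⟨h4, h5⟩ := hab _ _ h3
      funext j
      rcases j with (i | i) | i
      · exact h2 i
      · exact h1 i
      · fin_cases i
        · exact h4
        · exact h5
  rw [minusForm_coe]
  exact gamma_eq_top C p hT

end Cfsg.Agent.S2696
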