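import Cfsg.Statements.S0007
import Mathlib

set_option autoImplicit false
open Cfsg

namespace Cfsg.Agent.S0007

/-- Subgroups of coprime index: the intersection has index equal to the product of the indices, and every element is a product of an element of the first subgroup and an element of the second. -/
theorem result {G : Type*} [Group G] [Finite G] (H K : Subgroup G)
    (h : H.index.Coprime K.index) :
    (H ⊓ K).index = H.index * K.index ∧ ∀ g : G, ∃ x ∈ H, ∃ y ∈ K, g = x * y := by
  have h1 : (H ⊓ K).index = H.index * K.index := by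
    apply le_antisymm (Subgroup.index_inf_le)
    apply Nat.le_of_dvd
    · exact Nat.pos_of_ne_zero Subgroup.index_ne_zero_of_finite
    · exact Nat.Coprime.mul_dvd_of_dvd_of_dvd h (Subgroup.index_dvd_of_le inf_le_left)
        (Subgroup.index_dvd_of_le inf_le_right)
  refine ⟨h1, ?_⟩
  have h2 : H.relIndex K = H.index := by
    have := Subgroup.relIndex_mul_index (H := H ⊓ K) (K := K) inf_le_right
    rw [Subgroup.inf_relIndex_right, h1] at this
    exact Nat.eq_of_mul_eq_mul_right (Nat.pos_of_ne_zero Subgroup.index_ne_zero_of_finite) this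
  let φ : K ⧸ H.subgroupOf K → G ⧸ H := Quotient.map' (fun k => (k : G)) (by
    intro a b hab
    rw [QuotientGroup.leftRel_apply] at hab ⊢
    exact hab)
  have hφ : Function.Injective φ := by
    intro a b
    refine Quotient.inductionOn₂' a b ?_
    intro a b hab
    apply Quotient.sound'
    have := Quotient.exact' hab
    rw [QuotientGroup.leftRel_apply] at this ⊢
    exact this
  have hcard : Nat.card (G ⧸ H) ≤ Nat.card (K ⧸ H.subgroupOf K) := by
    rw [← Subgroup.index_eq_card, ← Subgroup.index_eq_card]; exact h2.ge
  have hbij := Function.Injective.bijective_of_nat_card_le hφ hcard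
  intro g
  obtain ⟨q, hq⟩ := hbij.2 ((g⁻¹ : G) : G ⧸ H)
  induction q using Quotient.inductionOn' with
  | h k =>
    have := Quotient.exact' hq
    rw [QuotientGroup.leftRel_apply] at this
    refine ⟨((k : G)⁻¹ * g⁻¹)⁻¹, H.inv_mem this, (k : G)⁻¹, K.inv_mem k.2, ?_⟩
    group

end Cfsg.Agent.S0007
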