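import Cfsg.Statements.S0011
import Mathlib

set_option autoImplicit false
open Cfsg

namespace Cfsg.Agent.S0011

/-- If the Frattini quotient of a finite group is nilpotent then the group is nilpotent. -/
theorem result {G : Type*} [Group G] [Finite G]
    (h : Group.IsNilpotent (G ⧸ frattini G)) : Group.IsNilpotent G := by
  have hnc : NormalizerCondition (G ⧸ frattini G) :=
    Group.normalizerCondition_of_isNilpotent
  apply ((Group.isNilpotent_of_finite_tfae (G := G)).out 0 2).mpr
  intro M hM
  set π := QuotientGroup.mk' (frattini G) with hπ
  have hsurj : Function.Surjective π := QuotientGroup.mk'_surjective _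
  have hcm : (M.map π).comap π = M := by
    rw [Subgroup.comap_map_eq, hπ, QuotientGroup.ker_mk', sup_eq_left]
    exact frattini_le_coatom hM
  have hne : M.map π < ⊤ := by
    rw [lt_top_iff_ne_top]
    intro h1
    apply hM.1
    rw [← hcm, h1, Subgroup.comap_top]
  have h2 := hnc (M.map π) hne
  rw [← Subgroup.comap_lt_comap_of_surjective hsurj, hcm,
    Subgroup.comap_normalizer_eq_of_surjective _ hsurj, hcm] at h2
  exact Subgroup.normalizer_eq_top_iff.mp (hM.2 _ h2)

end Cfsg.Agent.S0011
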