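import Cfsg.Statements.S0015
import Mathlib

set_option autoImplicit false
open Cfsg
open scoped commutatorElement

namespace Cfsg.Agent.S0015

/-- In a finite nilpotent group, an abelian normal subgroup that is maximal among abelian normal subgroups equals its own centralizer. -/
theorem result {G : Type*} [Group G] [Finite G] [Group.IsNilpotent G]
    (N : Subgroup G) [N.Normal] [IsMulCommutative N]
    (hmax : ∀ M : Subgroup G, M.Normal → IsMulCommutative M → N ≤ M → M = N) :
    Subgroup.centralizer (N : Set G) = N := by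
  classical
  set C := Subgroup.centralizer (N : Set G) with hC
  have hCn : C.Normal := Subgroup.normal_centralizer
  have hNC : N ≤ C := Subgroup.le_centralizer_iff_isMulCommutative.mpr inferInstance
  apply le_antisymm _ hNC
  by_contra hCN
  obtain ⟨n, hn⟩ := (inferInstance : Group.IsNilpotent G).nilpotent'
  have hex : ∃ i, ¬ (C ⊓ Subgroup.upperCentralSeries G i ≤ N) :=
    ⟨n, by rw [hn, inf_top_eq]; exact hCN⟩
  have hi := Nat.find_spec hex
  have hi0 : Nat.find hex ≠ 0 := by
    intro h
    rw [h, Subgroup.upperCentralSeries_zero, inf_bot_eq] at hi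
    exact hi bot_le
  obtain ⟨j, hj⟩ := Nat.exists_eq_succ_of_ne_zero hi0
  have hjmin : C ⊓ Subgroup.upperCentralSeries G j ≤ N :=
    not_not.mp (Nat.find_min hex (by omega))
  rw [hj] at hi
  obtain ⟨x, hx, hxN⟩ := SetLike.not_le_iff_exists.mp hi
  have hxC : x ∈ C := hx.1
  have hxZ : x ∈ Subgroup.upperCentralSeries G (j + 1) := hx.2
  have hcomm : ∀ g : G, ⁅g, x⁆ ∈ N := by
    intro g
    apply hjmin
    constructor
    · rw [commutatorElement_def]
      exact C.mul_mem (hCn.conj_mem x hxC g) (C.inv_mem hxC)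
    · have := Subgroup.mem_upperCentralSeries_succ_iff.mp hxZ g
      rw [← commutatorElement_inv]
      exact Subgroup.inv_mem _ this
  have hxn : ∀ n ∈ N, Commute x n := by
    intro n hn
    exact (Subgroup.mem_centralizer_iff.mp hxC n hn).symm
  set M := N ⊔ Subgroup.zpowers x with hM
  have hMc : IsMulCommutative M := by
    refine ⟨⟨fun a b => ?_⟩⟩
    apply Subtype.ext
    obtain ⟨n, hn, z, hz, hnz⟩ := Subgroup.mem_sup_of_normal_left.mp a.2
    obtain ⟨n', hn', z', hz', hnz'⟩ := Subgroup.mem_sup_of_normal_left.mp b.2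
    obtain ⟨k, rfl⟩ := Subgroup.mem_zpowers_iff.mp hz
    obtain ⟨l, rfl⟩ := Subgroup.mem_zpowers_iff.mp hz'
    change (a : G) * b = b * a
    rw [← hnz, ← hnz']
    have h1 : Commute n n' := setLike_mul_comm hn hn'
    have h2 : Commute n (x ^ l) := ((hxn n hn).symm).zpow_right l
    have h3 : Commute (x ^ k) n' := (hxn n' hn').zpow_left k
    have h4 : Commute (x ^ k) (x ^ l) := Commute.zpow_zpow_self x k l
    exact (h1.mul_right h2).mul_left (h3.mul_right h4)
  have hMn : M.Normal := by
    refine ⟨fun m hm g => ?_⟩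
    obtain ⟨n, hn, z, hz, rfl⟩ := Subgroup.mem_sup_of_normal_left.mp hm
    obtain ⟨k, rfl⟩ := Subgroup.mem_zpowers_iff.mp hz
    have h1 : g * (n * x ^ k) * g⁻¹ = (g * n * g⁻¹) * (g * x * g⁻¹) ^ k := by
      rw [conj_zpow]; group
    rw [h1]
    refine M.mul_mem (le_sup_left (a := N) (Subgroup.Normal.conj_mem inferInstance n hn g)) ?_
    refine M.zpow_mem ?_ k
    have h2 : g * x * g⁻¹ = ⁅g, x⁆ * x := by rw [commutatorElement_def]; group
    rw [h2]
    exact M.mul_mem (le_sup_left (a := N) (hcomm g))
      (le_sup_right (b := Subgroup.zpowers x) (Subgroup.mem_zpowers x))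
  have := hmax M hMn hMc le_sup_left
  apply hxN
  rw [← this]
  exact le_sup_right (b := Subgroup.zpowers x) (Subgroup.mem_zpowers x)

end Cfsg.Agent.S0015
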