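import Cfsg.Statements.S0018
import Cfsg.Agent.Lib.Helper55.Cores

set_option autoImplicit false
open Cfsg

namespace Cfsg.Agent.S0018

open Cfsg.Agent.Lib.Helper55 in
/-- A finite solvable group whose Sylow p-subgroups are abelian has p-length one: a Sylow p-subgroup together with the largest normal subgroup of order prime to p generates a normal subgroup. -/
theorem result {G : Type*} [Group G] [Finite G] [Group.IsSolvable G]
    (p : ℕ) [Fact p.Prime] (P : Sylow p G) (hP : IsMulCommutative P) :
    ((P : Subgroup G) ⊔ Cfsg.pPrimeCore p G).Normal := by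
  have hNn : (Cfsg.pPrimeCore p G).Normal := pPrimeCore_normal' p
  set N := Cfsg.pPrimeCore p G with hN
  set π := QuotientGroup.mk' N with hπ
  have hsurj : Function.Surjective π := QuotientGroup.mk'_surjective N
  have hbot : Cfsg.pPrimeCore p (G ⧸ N) = ⊥ := pPrimeCore_quotient_eq_bot p
  have hcl := centralizer_pCore_le (G := G ⧸ N) p hbot
  have hOn : (Cfsg.pCore p (G ⧸ N)).Normal := pCore_normal' p
  set P' : Sylow p (G ⧸ N) := P.mapSurjective hsurj with hP'
  have hP'coe : (P' : Subgroup (G ⧸ N)) = (P : Subgroup G).map π := Sylow.coe_mapSurjective hsurj P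
  have hle : Cfsg.pCore p (G ⧸ N) ≤ P' := (pCore_isPGroup p).le_sylow_of_normal P'
  have hP'c : IsMulCommutative ((P : Subgroup G).map π) := inferInstance
  have hle2 : (P' : Subgroup (G ⧸ N)) ≤ Cfsg.pCore p (G ⧸ N) := by
    refine le_trans ?_ hcl
    intro x hx
    rw [Subgroup.mem_centralizer_iff]
    intro y hy
    have hy' : y ∈ (P : Subgroup G).map π := by rw [← hP'coe]; exact hle hy
    have hx' : x ∈ (P : Subgroup G).map π := by rw [← hP'coe]; exact hx
    exact setLike_mul_comm hy' hx'
  have heq : (P : Subgroup G).map π = Cfsg.pCore p (G ⧸ N) := by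
    rw [← hP'coe]; exact le_antisymm hle2 hle
  have : (P : Subgroup G) ⊔ N = (Cfsg.pCore p (G ⧸ N)).comap π := by
    rw [← heq, Subgroup.comap_map_eq, hπ, QuotientGroup.ker_mk']
  rw [this]
  infer_instance

end Cfsg.Agent.S0018
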