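import Cfsg.Statements.S0019
import Cfsg.Agent.Lib.Helper1.SZB
import Mathlib

set_option autoImplicit false
open Cfsg

namespace Cfsg.Agent.S0019

theorem core_ne_bot {G : Type*} [Group G] [Finite G] (H₁ H₃ : Subgroup G)
    (hfac : ∀ g : G, ∃ x ∈ H₁, ∃ y ∈ H₃, g = x * y) (p : ℕ) [hp : Fact p.Prime] (M : Subgroup G)
    (hMne : M ≠ ⊥) (hMp : IsPGroup p M)
    (hnorm : H₁ ≤ Subgroup.normalizer (M : Set G)) (hpi : ¬ p ∣ H₃.index) : H₃.normalCore ≠ ⊥ := by
  -- M fixes a coset of H₃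
  have hcard : ¬ p ∣ Nat.card (G ⧸ H₃) := by rwa [← Subgroup.index_eq_card]
  obtain ⟨q, hq⟩ := hMp.nonempty_fixed_point_of_prime_not_dvd_card (G ⧸ H₃) hcard
  obtain ⟨g, rfl⟩ := QuotientGroup.mk_surjective q
  have hfix : ∀ m ∈ M, g⁻¹ * m * g ∈ H₃ := by
    intro m hm
    have := hq ⟨m, hm⟩
    have h2 : (QuotientGroup.mk (m * g) : G ⧸ H₃) = QuotientGroup.mk g := this
    rw [QuotientGroup.eq] at h2
    have h3 := H₃.inv_mem h2
    have e : ((m * g)⁻¹ * g)⁻¹ = g⁻¹ * m * g := by group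
    rwa [e] at h3
  obtain ⟨x, hx, y, hy, rfl⟩ := hfac g
  have hMH : M ≤ H₃ := by
    intro m hm
    have hxn := hnorm hx
    rw [Subgroup.mem_normalizer_iff] at hxn
    have hm2 : x * m * x⁻¹ ∈ M := (hxn m).mp hm
    have := hfix _ hm2
    have e : (x * y)⁻¹ * (x * m * x⁻¹) * (x * y) = y⁻¹ * m * y := by group
    rw [e] at this
    have h4 := H₃.mul_mem (H₃.mul_mem hy this) (H₃.inv_mem hy)
    have e2 : y * (y⁻¹ * m * y) * y⁻¹ = m := by group
    rwa [e2] at h4
  have hMcore : M ≤ H₃.normalCore := by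
    intro m hm b
    -- b = (x y)⁻¹-style: write b⁻¹ = x' y', so b = y'⁻¹ x'⁻¹
    obtain ⟨x', hx', y', hy', hb⟩ := hfac b⁻¹
    have hb' : b = y'⁻¹ * x'⁻¹ := by
      have : b = (b⁻¹)⁻¹ := by group
      rw [this, hb]; group
    have hxn := hnorm (H₁.inv_mem hx')
    rw [Subgroup.mem_normalizer_iff] at hxn
    have hm2 : x'⁻¹ * m * x'⁻¹⁻¹ ∈ M := (hxn m).mp hm
    have hm3 := hMH hm2
    have h4 := H₃.mul_mem (H₃.mul_mem (H₃.inv_mem hy') hm3) hy'
    have e : b * m * b⁻¹ = y'⁻¹ * (x'⁻¹ * m * x'⁻¹⁻¹) * y' := by rw [hb']; group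
    rw [e]; exact h4
  intro hbot
  rw [hbot, le_bot_iff] at hMcore
  exact hMne hMcore

universe u

theorem aux : ∀ n : ℕ, ∀ (G : Type u) [Group G] [Finite G], Nat.card G = n →
    ∀ (H₁ H₂ H₃ : Subgroup G), Group.IsSolvable H₁ → Group.IsSolvable H₂ → Group.IsSolvable H₃ →
    (∀ g : G, ∃ x ∈ H₁, ∃ y ∈ H₂, g = x * y) → (∀ g : G, ∃ x ∈ H₁, ∃ y ∈ H₃, g = x * y) →
    H₂.index.Coprime H₃.index → Group.IsSolvable G := by
  intro n
  induction n using Nat.strong_induction_on with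
  | _ n ih =>
    intro G _ _ hn H₁ H₂ H₃ h₁ h₂ h₃ h12 h13 hcop
    by_cases hH1 : H₁ = ⊥
    · -- G = H₂
      have htop : H₂ = ⊤ := by
        rw [eq_top_iff]
        intro g _
        obtain ⟨x, hx, y, hy, rfl⟩ := h12 g
        rw [hH1, Subgroup.mem_bot] at hx
        rw [hx, one_mul]; exact hy
      have hsurj : Function.Surjective H₂.subtype := by
        intro g
        exact ⟨⟨g, by rw [htop]; trivial⟩, rfl⟩
      exact Group.isSolvable_of_surjective hsurj
    · obtain ⟨p, M, hp, -, hMne, hMp, hnorm⟩ :=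
        Cfsg.Agent.Lib.Helper1.exists_normalized_pgroup H₁ h₁ hH1
      haveI : Fact p.Prime := ⟨hp⟩
      -- a nontrivial solvable normal subgroup K
      have hK : ∃ K : Subgroup G, K.Normal ∧ K ≠ ⊥ ∧ Group.IsSolvable K := by
        by_cases hp2 : p ∣ H₂.index
        · have hp3 : ¬ p ∣ H₃.index := by
            intro hp3
            have := Nat.dvd_gcd hp2 hp3
            rw [hcop] at this
            exact hp.one_lt.ne' (Nat.dvd_one.mp this)
          refine ⟨H₃.normalCore, inferInstance, core_ne_bot H₁ H₃ h13 p M hMne hMp hnorm hp3, ?_⟩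
          exact Group.isSolvable_of_isSolvable_injective
            (f := Subgroup.inclusion (Subgroup.normalCore_le H₃)) (Subgroup.inclusion_injective _)
        · refine ⟨H₂.normalCore, inferInstance, core_ne_bot H₁ H₂ h12 p M hMne hMp hnorm hp2, ?_⟩
          exact Group.isSolvable_of_isSolvable_injective
            (f := Subgroup.inclusion (Subgroup.normalCore_le H₂)) (Subgroup.inclusion_injective _)
      obtain ⟨K, hKn, hKne, hKs⟩ := hK
      have hlt : Nat.card (G ⧸ K) < n := by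
        rw [← hn]; exact Cfsg.Agent.Lib.Helper1.card_quotient_lt K hKne
      have hsurj : Function.Surjective (QuotientGroup.mk' K) := QuotientGroup.mk'_surjective K
      have hfacq : ∀ (A B : Subgroup G), (∀ g : G, ∃ x ∈ A, ∃ y ∈ B, g = x * y) →
          ∀ g : G ⧸ K, ∃ x ∈ A.map (QuotientGroup.mk' K), ∃ y ∈ B.map (QuotientGroup.mk' K), g = x * y := by
        intro A B hAB g
        obtain ⟨g, rfl⟩ := hsurj g
        obtain ⟨x, hx, y, hy, rfl⟩ := hAB g
        exact ⟨_, Subgroup.mem_map_of_mem _ hx, _, Subgroup.mem_map_of_mem _ hy, map_mul _ _ _⟩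
      have hq : Group.IsSolvable (G ⧸ K) :=
        ih _ hlt (G ⧸ K) rfl (H₁.map (QuotientGroup.mk' K)) (H₂.map (QuotientGroup.mk' K))
          (H₃.map (QuotientGroup.mk' K))
          (Cfsg.Agent.Lib.Helper1.isSolvable_map _ _ h₁) (Cfsg.Agent.Lib.Helper1.isSolvable_map _ _ h₂)
          (Cfsg.Agent.Lib.Helper1.isSolvable_map _ _ h₃) (hfacq _ _ h12) (hfacq _ _ h13)
          (Nat.Coprime.coprime_dvd_left (Subgroup.index_map_dvd H₂ hsurj)
            (Nat.Coprime.coprime_dvd_right (Subgroup.index_map_dvd H₃ hsurj) hcop))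
      apply Group.isSolvable_of_ker_le_range K.subtype (QuotientGroup.mk' K)
      rw [QuotientGroup.ker_mk', Subgroup.range_subtype]

/-- A finite group that factorises as H₁H₂ and as H₁H₃ with all three subgroups solvable and the indices of H₂ and H₃ coprime is solvable. -/
theorem result {G : Type*} [Group G] [Finite G] (H₁ H₂ H₃ : Subgroup G)
    (h₁ : Group.IsSolvable H₁) (h₂ : Group.IsSolvable H₂) (h₃ : Group.IsSolvable H₃)
    (h12 : ∀ g : G, ∃ x ∈ H₁, ∃ y ∈ H₂, g = x * y) (h13 : ∀ g : G, ∃ x ∈ H₁, ∃ y ∈ H₃, g = x * y)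
    (hcop : H₂.index.Coprime H₃.index) : Group.IsSolvable G := by
  exact aux _ G rfl H₁ H₂ H₃ h₁ h₂ h₃ h12 h13 hcop

end Cfsg.Agent.S0019
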