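import Cfsg.Statements.S0021
import Cfsg.Agent.Lib.Helper55.HallConverse

set_option autoImplicit false
set_option linter.style.haveILetI false
open Pointwise
open Cfsg

namespace Cfsg.Agent.S0021

open Cfsg.Agent.Lib.Helper55

/-- For permutable subgroups the join is the product set. -/
theorem coe_sup_of_perm {G : Type*} [Group G] (H K : Subgroup G)
    (h : (H : Set G) * (K : Set G) = (K : Set G) * (H : Set G)) :
    ((H ⊔ K : Subgroup G) : Set G) = (H : Set G) * (K : Set G) := by
  let HK : Subgroup G :=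
    { carrier := (H : Set G) * (K : Set G)
      one_mem' := ⟨1, H.one_mem, 1, K.one_mem, one_mul 1⟩
      mul_mem' := by
        rintro _ _ ⟨h1, hh1, k1, hk1, rfl⟩ ⟨h2, hh2, k2, hk2, rfl⟩
        have hmem : k1 * h2 ∈ (K : Set G) * (H : Set G) := ⟨k1, hk1, h2, hh2, rfl⟩
        rw [← h] at hmem
        obtain ⟨h3, hh3, k3, hk3, e⟩ := hmem
        refine ⟨h1 * h3, H.mul_mem hh1 hh3, k3 * k2, K.mul_mem hk3 hk2, ?_⟩
        have e' : h3 * k3 = k1 * h2 := e
        calc h1 * h3 * (k3 * k2) = h1 * (h3 * k3) * k2 := by group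
          _ = h1 * (k1 * h2) * k2 := by rw [e']
          _ = h1 * k1 * (h2 * k2) := by group
      inv_mem' := by
        rintro _ ⟨h1, hh1, k1, hk1, rfl⟩
        have hmem : k1⁻¹ * h1⁻¹ ∈ (K : Set G) * (H : Set G) :=
          ⟨k1⁻¹, K.inv_mem hk1, h1⁻¹, H.inv_mem hh1, rfl⟩
        rw [← h] at hmem
        rw [mul_inv_rev]
        exact hmem }
  have h1 : H ⊔ K ≤ HK :=
    sup_le (fun x hx => ⟨x, hx, 1, K.one_mem, mul_one x⟩)
      (fun x hx => ⟨1, H.one_mem, x, hx, one_mul x⟩)
  have h2 : HK ≤ H ⊔ K := by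
    rintro _ ⟨a, ha, b, hb, rfl⟩
    exact (H ⊔ K).mul_mem ((le_sup_left : H ≤ H ⊔ K) ha) ((le_sup_right : K ≤ H ⊔ K) hb)
  have h3 : H ⊔ K = HK := le_antisymm h1 h2
  rw [h3]
  rfl

theorem sylow_system_aux {G : Type*} [Group G] [Finite G]
    (S : (p : Nat.Primes) → Sylow (p : ℕ) G)
    (hS : ∀ p q : Nat.Primes, ((S p : Subgroup G) : Set G) * ((S q : Subgroup G) : Set G) =
      ((S q : Subgroup G) : Set G) * ((S p : Subgroup G) : Set G))
    (T : Finset Nat.Primes) :
    (∀ r : Nat.Primes, ((⨆ q ∈ T, (S q : Subgroup G) : Subgroup G) : Set G) *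
        ((S r : Subgroup G) : Set G) =
      ((S r : Subgroup G) : Set G) * ((⨆ q ∈ T, (S q : Subgroup G) : Subgroup G) : Set G)) ∧
    Nat.card (⨆ q ∈ T, (S q : Subgroup G) : Subgroup G) =
      ∏ q ∈ T, Nat.card (S q : Subgroup G) := by
  classical
  induction T using Finset.induction_on with
  | empty =>
    constructor
    · intro r
      simp only [Finset.notMem_empty, iSup_false, iSup_bot, Subgroup.coe_bot, Set.singleton_mul,
        Set.mul_singleton, one_mul, mul_one, Set.image_id']
    · simp only [Finset.notMem_empty, iSup_false, iSup_bot, Subgroup.card_bot, Finset.prod_empty]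
  | insert a T ha ih =>
    obtain ⟨ihA, ihB⟩ := ih
    set L := (⨆ q ∈ T, (S q : Subgroup G) : Subgroup G) with hL
    have hsup : (⨆ q ∈ insert a T, (S q : Subgroup G) : Subgroup G) = (S a : Subgroup G) ⊔ L :=
      Finset.iSup_insert a T _
    rw [hsup]
    have hperm : ((S a : Subgroup G) : Set G) * (L : Set G) = (L : Set G) *
        ((S a : Subgroup G) : Set G) := (ihA a).symm
    have hcoe := coe_sup_of_perm (S a : Subgroup G) L hperm
    constructor
    · intro r
      rw [hcoe, mul_assoc, ihA r, ← mul_assoc, hS a r, mul_assoc]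
    · rw [Finset.prod_insert ha, ← ihB]
      apply le_antisymm
      · have h1 : Nat.card ((S a : Subgroup G) ⊔ L : Subgroup G) =
            Nat.card (((S a : Subgroup G) ⊔ L : Subgroup G) : Set G) := rfl
        rw [h1, hcoe]
        exact Set.natCard_mul_le
      · apply Nat.le_of_dvd Nat.card_pos
        apply Nat.Coprime.mul_dvd_of_dvd_of_dvd
        · rw [ihB]
          apply Nat.Coprime.prod_right
          intro q hq
          haveI : Fact (a : ℕ).Prime := ⟨a.2⟩
          haveI : Fact (q : ℕ).Prime := ⟨q.2⟩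
          rw [(S a).card_eq_multiplicity, (S q).card_eq_multiplicity]
          apply Nat.Coprime.pow
          rw [Nat.coprime_primes a.2 q.2]
          intro h
          apply ha
          have : a = q := Subtype.ext h
          rw [this]; exact hq
        · exact Subgroup.card_dvd_of_le le_sup_left
        · exact Subgroup.card_dvd_of_le le_sup_right

/-- A finite group with a family of pairwise permuting Sylow subgroups, one for each prime, is solvable (this direction rests on Burnside's two-prime Theorem). -/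
theorem result {G : Type*} [Group G] [Finite G]
    (S : (p : Nat.Primes) → Sylow (p : ℕ) G)
    (hS : ∀ p q : Nat.Primes, (S p : Set G) * (S q : Set G) = (S q : Set G) * (S p : Set G)) :
    Group.IsSolvable G := by
  classical
  apply isSolvable_of_hasCompls (Nat.card G) G rfl
  intro p hp
  have hn : Nat.card G ≠ 0 := Nat.card_pos.ne'
  set T : Finset Nat.Primes := ((Nat.card G).primeFactors.filter (· ≠ p)).subtype Nat.Prime
    with hT
  have hmemT : ∀ q : Nat.Primes, q ∈ T ↔
      (q : ℕ) ∈ (Nat.card G).primeFactors ∧ (q : ℕ) ≠ p := by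
    intro q
    exact (Finset.mem_subtype (p := Nat.Prime)).trans Finset.mem_filter
  obtain ⟨-, hcard⟩ := sylow_system_aux S (fun a b => hS a b) T
  set K := (⨆ q ∈ T, (S q : Subgroup G) : Subgroup G) with hK
  have hcop : (Nat.card K).Coprime p := by
    rw [hcard]
    apply Nat.Coprime.prod_left
    intro q hq
    haveI : Fact (q : ℕ).Prime := ⟨q.2⟩
    rw [(S q).card_eq_multiplicity]
    apply Nat.Coprime.pow_left
    rw [Nat.coprime_primes q.2 hp]
    exact ((hmemT q).mp hq).2
  refine ⟨K, hcop, (K.index).primeFactorsList.length, ?_⟩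
  apply Nat.eq_prime_pow_of_unique_prime_dvd Subgroup.index_ne_zero_of_finite
  intro q hq hqd
  by_contra hqp
  have hqn : q ∣ Nat.card G := hqd.trans (Subgroup.index_dvd_card K)
  let q' : Nat.Primes := ⟨q, hq⟩
  have hq'T : q' ∈ T := by
    exact (hmemT q').mpr ⟨Nat.mem_primeFactors.mpr ⟨hq, hqn, hn⟩, hqp⟩
  have hle : (S q' : Subgroup G) ≤ K := le_biSup (fun q : Nat.Primes => (S q : Subgroup G)) hq'T
  haveI : Fact (q' : ℕ).Prime := ⟨hq⟩
  have h1 : q ^ (Nat.card G).factorization q ∣ Nat.card K := by
    have := Subgroup.card_dvd_of_le hle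
    rwa [(S q').card_eq_multiplicity] at this
  have h2 : q ^ ((Nat.card G).factorization q + 1) ∣ Nat.card G := by
    rw [pow_succ]
    have h3 := Nat.mul_dvd_mul h1 hqd
    rwa [K.card_mul_index] at h3
  exact Nat.pow_succ_factorization_not_dvd hn hq h2

end Cfsg.Agent.S0021
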