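import Cfsg.Statements.S0036
import Cfsg.Agent.Lib.Helper35.FrobeniusCount

set_option autoImplicit false
open Cfsg
open scoped Pointwise

namespace Cfsg.Agent.S0036

open Cfsg.Agent.Lib.Helper35

section

variable {G : Type*} [Group G] (H : Subgroup G) (t : G)

/-- One conjugate of `t` for each coset of `H`. -/
noncomputable def sq (q : G ⧸ H) : G := q.out * t * q.out⁻¹

variable {H t}

lemma sq_mul_self (ht2 : t * t = 1) (q : G ⧸ H) : sq H t q * sq H t q = 1 := by
  unfold sq
  calc q.out * t * q.out⁻¹ * (q.out * t * q.out⁻¹) = q.out * (t * t) * q.out⁻¹ := by group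
    _ = 1 := by rw [ht2]; group

lemma sq_inv (ht2 : t * t = 1) (q : G ⧸ H) : (sq H t q)⁻¹ = sq H t q :=
  inv_eq_of_mul_eq_one_left (sq_mul_self ht2 q)

lemma sq_ne_one (ht1 : t ≠ 1) (q : G ⧸ H) : sq H t q ≠ 1 := by
  unfold sq
  intro h
  apply ht1
  have : t = q.out⁻¹ * (q.out * t * q.out⁻¹) * q.out := by group
  rw [this, h]; group

lemma sq_mem (ht : t ∈ H) (q : G ⧸ H) : sq H t q ∈ MulAut.conj q.out • H :=
  conj_mem_conj_smul ht

lemma eq_of_sq_mem (hH : Cfsg.IsFrobeniusComplement H) (ht : t ∈ H) (ht1 : t ≠ 1)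
    (q : G ⧸ H) (g : G) (h : sq H t q ∈ MulAut.conj g • H) : q = (g : G ⧸ H) := by
  have := inv_mul_mem_of_mem_conj_conj hH (sq_ne_one ht1 q) (sq_mem ht q) h
  rw [← QuotientGroup.out_eq' q]
  exact QuotientGroup.eq.mpr this

lemma sq_injective (hH : Cfsg.IsFrobeniusComplement H) (ht : t ∈ H) (ht1 : t ≠ 1) :
    Function.Injective (sq H t) := by
  intro p q h
  have := eq_of_sq_mem hH ht ht1 p q.out (h ▸ sq_mem ht q)
  rw [this]
  exact QuotientGroup.out_eq' q

lemma mul_mem_kernel (hH : Cfsg.IsFrobeniusComplement H) (ht : t ∈ H) (ht1 : t ≠ 1)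
    (ht2 : t * t = 1) (p q : G ⧸ H) : sq H t p * sq H t q ∈ Cfsg.frobeniusKernel H := by
  by_cases hpq : p = q
  · left
    rw [hpq]; exact sq_mul_self ht2 q
  · right
    intro g hg
    set r := sq H t p with hr
    set s := sq H t q with hs
    set w := r * s with hw
    have hw1 : w ≠ 1 := by
      intro h
      have : r = s := by
        calc r = r * (s * s) := by rw [hs, sq_mul_self ht2 q, mul_one]
          _ = (r * s) * s := by group
          _ = s := by rw [← hw, h, one_mul]
      exact hpq (sq_injective hH ht ht1 this)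
    have hwinv : w⁻¹ ∈ MulAut.conj g • H := (MulAut.conj g • H).inv_mem hg
    have hwinv1 : w⁻¹ ≠ 1 := fun h => hw1 (inv_eq_one.mp h)
    have hconj : w⁻¹ = r * w * r⁻¹ := by
      rw [hw, mul_inv_rev, hs, hr, sq_inv ht2, sq_inv ht2]
      have := sq_mul_self ht2 p
      calc sq H t q * sq H t p = (sq H t p * sq H t p) * sq H t q * sq H t p := by rw [this, one_mul]
        _ = sq H t p * (sq H t p * sq H t q) * sq H t p := by group
    have hwinv' : w⁻¹ ∈ MulAut.conj (r * g) • H := by
      rw [mem_conj_smul, hconj]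
      rw [mem_conj_smul] at hg
      have : (r * g)⁻¹ * (r * w * r⁻¹) * (r * g) = g⁻¹ * w * g := by group
      rw [this]; exact hg
    have h3 := inv_mul_mem_of_mem_conj_conj hH hwinv1 hwinv hwinv'
    have hrg : r ∈ MulAut.conj g • H := by
      rw [mem_conj_smul]
      have : g⁻¹ * r * g = g⁻¹ * (r * g) := by group
      rw [this]; exact h3
    have hsg : s ∈ MulAut.conj g • H := by
      have : s = r⁻¹ * w := by rw [hw]; group
      rw [this]
      exact (MulAut.conj g • H).mul_mem ((MulAut.conj g • H).inv_mem hrg) hg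
    have e1 := eq_of_sq_mem hH ht ht1 p g hrg
    have e2 := eq_of_sq_mem hH ht ht1 q g hsg
    exact hpq (e1.trans e2.symm)

lemma exists_eq_mul [Finite G] (hH : Cfsg.IsFrobeniusComplement H) (ht : t ∈ H) (ht1 : t ≠ 1)
    (ht2 : t * t = 1) (p : G ⧸ H) (k : G) (hk : k ∈ Cfsg.frobeniusKernel H) :
    ∃ q : G ⧸ H, k = sq H t p * sq H t q := by
  classical
  let φ : G ⧸ H → Cfsg.frobeniusKernel H :=
    fun q => ⟨sq H t p * sq H t q, mul_mem_kernel hH ht ht1 ht2 p q⟩
  have hinj : Function.Injective φ := by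
    intro q q' h
    have h' : sq H t p * sq H t q = sq H t p * sq H t q' := congrArg Subtype.val h
    exact sq_injective hH ht ht1 (mul_left_cancel h')
  have := Fintype.ofFinite (G ⧸ H)
  have := Fintype.ofFinite (Cfsg.frobeniusKernel H)
  have hcard : Fintype.card (G ⧸ H) = Fintype.card (Cfsg.frobeniusKernel H) := by
    rw [← Nat.card_eq_fintype_card, ← Nat.card_eq_fintype_card, card_frobeniusKernel hH,
      Subgroup.index_eq_card]
  have hbij := (Fintype.bijective_iff_injective_and_card φ).mpr ⟨hinj, hcard⟩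
  obtain ⟨q, hq⟩ := hbij.2 ⟨k, hk⟩
  exact ⟨q, (congrArg Subtype.val hq).symm⟩

lemma inv_mem_kernel (x : G) (hx : x ∈ Cfsg.frobeniusKernel H) :
    x⁻¹ ∈ Cfsg.frobeniusKernel H := by
  rcases hx with h | h
  · left; rw [h, inv_one]
  · right
    intro g hg
    apply h g
    have := (MulAut.conj g • H).inv_mem hg
    rwa [inv_inv] at this

end

/-- When a Frobenius complement contains an involution, an elementary argument shows the Frobenius kernel is closed under multiplication (hence a subgroup). -/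
theorem result {G : Type*} [Group G] [Finite G] (H : Subgroup G) (hH : Cfsg.IsFrobeniusComplement H)
    (t : G) (ht : t ∈ H) (ht1 : t ≠ 1) (ht2 : t * t = 1) :
    ∀ x ∈ Cfsg.frobeniusKernel H, ∀ y ∈ Cfsg.frobeniusKernel H, x * y ∈ Cfsg.frobeniusKernel H := by
  intro x hx y hy
  set p₀ : G ⧸ H := ((1 : G) : G ⧸ H) with hp₀
  obtain ⟨q, hq⟩ := exists_eq_mul hH ht ht1 ht2 p₀ x⁻¹ (inv_mem_kernel x hx)
  obtain ⟨q', hq'⟩ := exists_eq_mul hH ht ht1 ht2 p₀ y hy
  have hxe : x = sq H t q * sq H t p₀ := by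
    have : x = (x⁻¹)⁻¹ := (inv_inv x).symm
    rw [this, hq, mul_inv_rev, sq_inv ht2, sq_inv ht2]
  have : x * y = sq H t q * sq H t q' := by
    rw [hxe, hq']
    calc sq H t q * sq H t p₀ * (sq H t p₀ * sq H t q')
        = sq H t q * (sq H t p₀ * sq H t p₀) * sq H t q' := by group
      _ = sq H t q * sq H t q' := by rw [sq_mul_self ht2, mul_one]
  rw [this]
  exact mul_mem_kernel hH ht ht1 ht2 q q'

end Cfsg.Agent.S0036
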