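import Cfsg.Statements.S0037
import Cfsg.Agent.Lib.Helper35.FrobeniusHall

set_option autoImplicit false
open Pointwise
open Cfsg

namespace Cfsg.Agent.S0037

open Cfsg.Agent.Lib.Helper35

lemma key {G : Type*} [Group G] [Finite G] (H H₀ : Subgroup G)
    (hH : Cfsg.IsFrobeniusComplement H) (hH₀ : Cfsg.IsFrobeniusComplement H₀)
    (hle : Nat.card H₀ ≤ Nat.card H) (x : G) (hx : x ∈ H₀) (hx1 : x ≠ 1) :
    ∃ g : G, x ∈ MulAut.conj g • H := by
  classical
  by_contra hcon
  push Not at hcon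
  have hmem : ∀ q : G ⧸ H₀, q.out * x * q.out⁻¹ ∈ Cfsg.frobeniusKernel H := by
    intro q
    right
    intro g hg
    apply hcon (q.out⁻¹ * g)
    rw [mem_conj_smul] at hg ⊢
    have : (q.out⁻¹ * g)⁻¹ * x * (q.out⁻¹ * g) = g⁻¹ * (q.out * x * q.out⁻¹) * g := by group
    rw [this]; exact hg
  let φ : G ⧸ H₀ → Cfsg.frobeniusKernel H := fun q => ⟨q.out * x * q.out⁻¹, hmem q⟩
  have hinj : Function.Injective φ := by
    intro q₁ q₂ h
    have h' : q₁.out * x * q₁.out⁻¹ = q₂.out * x * q₂.out⁻¹ := congrArg Subtype.val h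
    have hc : (q₁.out⁻¹ * q₂.out) * x = x * (q₁.out⁻¹ * q₂.out) := by
      calc (q₁.out⁻¹ * q₂.out) * x = q₁.out⁻¹ * (q₂.out * x * q₂.out⁻¹) * q₂.out := by group
        _ = q₁.out⁻¹ * (q₁.out * x * q₁.out⁻¹) * q₂.out := by rw [h']
        _ = x * (q₁.out⁻¹ * q₂.out) := by group
    have hm := mem_of_commute hH₀ hx1 hx hc
    rw [← QuotientGroup.out_eq' q₁, ← QuotientGroup.out_eq' q₂]
    exact QuotientGroup.eq.mpr hm
  have hns : (⟨1, Or.inl rfl⟩ : Cfsg.frobeniusKernel H) ∉ Set.range φ := by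
    rintro ⟨q, hq⟩
    have h' : q.out * x * q.out⁻¹ = 1 := congrArg Subtype.val hq
    apply hx1
    have : x = q.out⁻¹ * (q.out * x * q.out⁻¹) * q.out := by group
    rw [this, h']; group
  have := Fintype.ofFinite (G ⧸ H₀)
  have := Fintype.ofFinite (Cfsg.frobeniusKernel H)
  have hlt := Fintype.card_lt_of_injective_of_notMem φ hinj hns
  rw [← Nat.card_eq_fintype_card, ← Nat.card_eq_fintype_card, card_frobeniusKernel hH,
    ← Subgroup.index_eq_card] at hlt
  have h1 : Nat.card H * H.index = Nat.card G := Subgroup.card_mul_index H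
  have h2 : Nat.card H₀ * H₀.index = Nat.card G := Subgroup.card_mul_index H₀
  have h3 : 0 < Nat.card H₀ := Nat.card_pos
  have : Nat.card H₀ * H₀.index < Nat.card H * H.index :=
    calc Nat.card H₀ * H₀.index < Nat.card H₀ * H.index := Nat.mul_lt_mul_of_pos_left hlt h3
      _ ≤ Nat.card H * H.index := Nat.mul_le_mul_right _ hle
  omega

/-- Of two Frobenius complements in one finite group, the one of smaller (or equal) order is conjugate to a subgroup of the other. -/
theorem result {G : Type*} [Group G] [Finite G] (H H₀ : Subgroup G)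
    (hH : Cfsg.IsFrobeniusComplement H) (hH₀ : Cfsg.IsFrobeniusComplement H₀) (hle : Nat.card H₀ ≤ Nat.card H) :
    ∃ g : G, MulAut.conj g • H₀ ≤ H := by
  obtain ⟨g, hg⟩ := le_conj_of_forall_mem_conj hH H₀ (fun u hu hu1 => key H H₀ hH hH₀ hle u hu hu1)
  refine ⟨g⁻¹, ?_⟩
  intro x hx
  rw [mem_conj_smul] at hx
  have h2 := hg hx
  rw [mem_conj_smul] at h2
  have : g⁻¹ * (g⁻¹⁻¹ * x * g⁻¹) * g = x := by group
  rw [this] at h2
  exact h2

end Cfsg.Agent.S0037
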