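import Cfsg.Statements.S0043
import Mathlib

set_option autoImplicit false
open Cfsg

namespace Cfsg.Agent.S0043

/-- A minimal normal subgroup of a finite solvable group is abelian, and for some prime p all of its elements have order dividing p. -/
theorem result {G : Type*} [Group G] [Finite G] [Group.IsSolvable G]
    (N : Subgroup G) [N.Normal] (hN : N ≠ ⊥) (hmin : ∀ M : Subgroup G, M.Normal → M ≤ N → M = ⊥ ∨ M = N) :
    IsMulCommutative N ∧ ∃ p : ℕ, p.Prime ∧ ∀ x ∈ N, x ^ p = 1 := by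
  have hlt : ⁅N, N⁆ < N := Group.IsSolvable.commutator_lt_of_ne_bot hN
  have hnorm : (⁅N, N⁆).Normal := Subgroup.commutator_normal N N
  have hbot : ⁅N, N⁆ = ⊥ := by
    rcases hmin _ hnorm hlt.le with h | h
    · exact h
    · exact absurd h hlt.ne
  have hcomm : IsMulCommutative N := Subgroup.commutator_self_eq_bot_iff.mp hbot
  refine ⟨hcomm, ?_⟩
  have hnt : Nontrivial N := (Subgroup.nontrivial_iff_ne_bot _).mpr hN
  have hcard : 1 < Nat.card N := Finite.one_lt_card
  obtain ⟨p, hp, hpd⟩ := Nat.exists_prime_and_dvd (Nat.ne_of_gt hcard)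
  have : Fact p.Prime := ⟨hp⟩
  obtain ⟨k, hk⟩ := exists_prime_orderOf_dvd_card' p hpd
  have hk' : orderOf (k : G) = p := by rw [Subgroup.orderOf_coe]; exact hk
  have hk1 : (k : G) ≠ 1 := by
    intro h
    rw [h, orderOf_one] at hk'
    exact hp.one_lt.ne hk'
  have hkp : (k : G) ^ p = 1 := by rw [← hk']; exact pow_orderOf_eq_one _
  have hc : ∀ a ∈ N, ∀ b ∈ N, a * b = b * a := by
    intro a ha b hb
    have := mul_comm' (⟨a, ha⟩ : N) ⟨b, hb⟩
    exact congrArg Subtype.val this
  let K : Subgroup G :=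
    { carrier := {x | x ∈ N ∧ x ^ p = 1}
      mul_mem' := by
        rintro a b ⟨ha, hap⟩ ⟨hb, hbp⟩
        refine ⟨N.mul_mem ha hb, ?_⟩
        have hcm : Commute a b := hc a ha b hb
        rw [hcm.mul_pow, hap, hbp, one_mul]
      one_mem' := ⟨N.one_mem, one_pow _⟩
      inv_mem' := by
        rintro a ⟨ha, hap⟩
        exact ⟨N.inv_mem ha, by rw [inv_pow, hap, inv_one]⟩ }
  have hKn : K.Normal := by
    constructor
    rintro x ⟨hx, hxp⟩ g
    refine ⟨Subgroup.Normal.conj_mem inferInstance x hx g, ?_⟩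
    rw [conj_pow, hxp]; group
  have hKle : K ≤ N := fun x hx => hx.1
  have hKne : K ≠ ⊥ := by
    intro h
    have : (k : G) ∈ K := ⟨k.2, hkp⟩
    rw [h, Subgroup.mem_bot] at this
    exact hk1 this
  have hKN : K = N := by
    rcases hmin K hKn hKle with h | h
    · exact absurd h hKne
    · exact h
  refine ⟨p, hp, ?_⟩
  intro x hx
  rw [← hKN] at hx
  exact hx.2

end Cfsg.Agent.S0043
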