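import Cfsg.Statements.S0047
import Mathlib

set_option autoImplicit false
open Cfsg
open scoped commutatorElement

namespace Cfsg.Agent.S0047

variable {G : Type*} [Group G]

/-- the two conjugates of a commutator agree (Ito's computation) -/
theorem ito_key (a a₁ a₂ a₃ b b₁ b₂ b₃ : G)
    (ha1a : Commute a₁ a) (ha1a3 : Commute a₁ a₃) (ha3a2 : Commute a₃ a₂) (haa2 : Commute a a₂)
    (hb1b : Commute b₁ b) (hb1b2 : Commute b₁ b₂) (hb3b : Commute b₃ b) (hb3b2 : Commute b₃ b₂)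
    (h1 : a₁ * b * a₁⁻¹ = b₂ * a₂) (h2 : b₁ * a * b₁⁻¹ = a₃ * b₃) :
    (a₁ * b₁) * ⁅a, b⁆ * (a₁ * b₁)⁻¹ = (b₁ * a₁) * ⁅a, b⁆ * (b₁ * a₁)⁻¹ := by
  have e1 : a₁ * a * a₁⁻¹ = a := by rw [ha1a.eq, mul_inv_cancel_right]
  have e2 : a₁ * a₃ * a₁⁻¹ = a₃ := by rw [ha1a3.eq, mul_inv_cancel_right]
  have e3 : b₁ * b * b₁⁻¹ = b := by rw [hb1b.eq, mul_inv_cancel_right]
  have e4 : b₁ * b₂ * b₁⁻¹ = b₂ := by rw [hb1b2.eq, mul_inv_cancel_right]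
  have i1 : ∀ x : G, Commute a₁ x → Commute x a₂ → a₁ * ⁅x, b⁆ * a₁⁻¹ = ⁅x, b₂⁆ := by
    intro x hx hx2
    have ex : a₁ * x * a₁⁻¹ = x := by rw [hx.eq, mul_inv_cancel_right]
    rw [conjugate_commutatorElement, ex, h1, commutatorElement_mul_right_eq_mul_conj,
      hx2.commutator_eq, mul_one, mul_inv_cancel_right]
  have i2 : ∀ y : G, Commute b₁ y → Commute b₃ y → b₁ * ⁅a, y⁆ * b₁⁻¹ = ⁅a₃, y⁆ := by
    intro y hy hy3
    have ey : b₁ * y * b₁⁻¹ = y := by rw [hy.eq, mul_inv_cancel_right]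
    rw [conjugate_commutatorElement, ey, h2, commutatorElement_mul_left_eq_conj_mul,
      hy3.commutator_eq, mul_one, mul_inv_cancel, one_mul]
  have L : (a₁ * b₁) * ⁅a, b⁆ * (a₁ * b₁)⁻¹ = ⁅a₃, b₂⁆ := by
    have s1 : (a₁ * b₁) * ⁅a, b⁆ * (a₁ * b₁)⁻¹ = a₁ * (b₁ * ⁅a, b⁆ * b₁⁻¹) * a₁⁻¹ := by group
    rw [s1, i2 b hb1b hb3b, i1 a₃ ha1a3 ha3a2]
  have R : (b₁ * a₁) * ⁅a, b⁆ * (b₁ * a₁)⁻¹ = ⁅a₃, b₂⁆ := by
    have s1 : (b₁ * a₁) * ⁅a, b⁆ * (b₁ * a₁)⁻¹ = b₁ * (a₁ * ⁅a, b⁆ * a₁⁻¹) * b₁⁻¹ := by group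
    rw [s1, i1 a ha1a haa2, i2 b₂ hb1b2 hb3b2]
  rw [L, R]

/-- A finite group which is the product AB of two abelian subgroups A and B is solvable. -/
theorem result {G : Type*} [Group G] [Finite G] (A B : Subgroup G)
    [IsMulCommutative A] [IsMulCommutative B] (hAB : ∀ g : G, ∃ a ∈ A, ∃ b ∈ B, g = a * b) :
    Group.IsSolvable G := by
  have hBA : ∀ g : G, ∃ b ∈ B, ∃ a ∈ A, g = b * a := by
    intro g
    obtain ⟨a, ha, b, hb, h⟩ := hAB g⁻¹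
    exact ⟨b⁻¹, B.inv_mem hb, a⁻¹, A.inv_mem ha, by rw [← mul_inv_rev, ← h, inv_inv]⟩
  have hcomm : ∀ a ∈ A, ∀ b ∈ B, ∀ a₁ ∈ A, ∀ b₁ ∈ B, Commute ⁅a, b⁆ ⁅a₁, b₁⁆ := by
    intro a ha b hb a₁ ha₁ b₁ hb₁
    obtain ⟨b₂, hb₂, a₂, ha₂, h1⟩ := hBA (a₁⁻¹ * b * a₁⁻¹⁻¹)
    obtain ⟨a₃, ha₃, b₃, hb₃, h2⟩ := hAB (b₁⁻¹ * a * b₁⁻¹⁻¹)
    have ha₁' := A.inv_mem ha₁
    have hb₁' := B.inv_mem hb₁
    have key := ito_key a a₁⁻¹ a₂ a₃ b b₁⁻¹ b₂ b₃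
      (setLike_mul_comm ha₁' ha) (setLike_mul_comm ha₁' ha₃) (setLike_mul_comm ha₃ ha₂)
      (setLike_mul_comm ha ha₂) (setLike_mul_comm hb₁' hb) (setLike_mul_comm hb₁' hb₂)
      (setLike_mul_comm hb₃ hb) (setLike_mul_comm hb₃ hb₂) h1 h2
    have e : ⁅a₁, b₁⁆ = (b₁⁻¹ * a₁⁻¹)⁻¹ * (a₁⁻¹ * b₁⁻¹) := by
      rw [commutatorElement_def]; group
    symm
    calc ⁅a₁, b₁⁆ * ⁅a, b⁆
        = (b₁⁻¹ * a₁⁻¹)⁻¹ * ((a₁⁻¹ * b₁⁻¹) * ⁅a, b⁆ * (a₁⁻¹ * b₁⁻¹)⁻¹) * (a₁⁻¹ * b₁⁻¹) := by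
          rw [e]; group
      _ = (b₁⁻¹ * a₁⁻¹)⁻¹ * ((b₁⁻¹ * a₁⁻¹) * ⁅a, b⁆ * (b₁⁻¹ * a₁⁻¹)⁻¹) * (a₁⁻¹ * b₁⁻¹) := by
          rw [key]
      _ = ⁅a, b⁆ * ⁅a₁, b₁⁆ := by rw [e]; group
  set D : Subgroup G := ⁅A, B⁆ with hD
  have hDn : D.Normal := by
    rw [← Subgroup.normalizer_eq_top_iff, eq_top_iff]
    intro g _
    obtain ⟨a, ha, b, hb, rfl⟩ := hAB g
    exact (Subgroup.normalizer (D : Set G)).mul_mem (Subgroup.normalizer_commutator_ge_left A B ha)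
      (Subgroup.normalizer_commutator_ge_right A B hb)
  have hDc : IsMulCommutative D := by
    rw [← Subgroup.le_centralizer_iff_isMulCommutative, hD, Subgroup.commutator_def A B,
      Subgroup.centralizer_closure, Subgroup.closure_le]
    rintro _ ⟨a, ha, b, hb, rfl⟩
    rw [SetLike.mem_coe, Subgroup.mem_centralizer_iff]
    rintro _ ⟨a₁, ha₁, b₁, hb₁, rfl⟩
    exact (hcomm a ha b hb a₁ ha₁ b₁ hb₁).symm.eq
  have hQc : IsMulCommutative (G ⧸ D) := by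
    refine ⟨⟨fun x y => ?_⟩⟩
    obtain ⟨g, rfl⟩ := QuotientGroup.mk'_surjective D x
    obtain ⟨h, rfl⟩ := QuotientGroup.mk'_surjective D y
    obtain ⟨a, ha, b, hb, rfl⟩ := hAB g
    obtain ⟨a₁, ha₁, b₁, hb₁, rfl⟩ := hAB h
    have hc : ∀ x ∈ A, ∀ y ∈ B, Commute (QuotientGroup.mk' D x) (QuotientGroup.mk' D y) := by
      intro x hx y hy
      rw [← commutatorElement_eq_one_iff_commute, ← map_commutatorElement,
        QuotientGroup.mk'_apply, QuotientGroup.eq_one_iff]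
      exact Subgroup.commutator_mem_commutator hx hy
    have hA : ∀ x ∈ A, ∀ y ∈ A, Commute (QuotientGroup.mk' D x) (QuotientGroup.mk' D y) := by
      intro x hx y hy
      have : Commute x y := setLike_mul_comm hx hy
      exact this.map (QuotientGroup.mk' D)
    have hB : ∀ x ∈ B, ∀ y ∈ B, Commute (QuotientGroup.mk' D x) (QuotientGroup.mk' D y) := by
      intro x hx y hy
      have : Commute x y := setLike_mul_comm hx hy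
      exact this.map (QuotientGroup.mk' D)
    rw [map_mul, map_mul]
    exact (((hA a ha a₁ ha₁).mul_right (hc a ha b₁ hb₁)).mul_left
      (((hc a₁ ha₁ b hb).symm).mul_right (hB b hb b₁ hb₁))).eq
  have hs1 : Group.IsSolvable D := Group.isSolvable_of_comm (fun a b => mul_comm' a b)
  have hs2 : Group.IsSolvable (G ⧸ D) := Group.isSolvable_of_comm (fun a b => mul_comm' a b)
  exact Group.isSolvable_of_ker_le_range D.subtype (QuotientGroup.mk' D) (by simp)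

end Cfsg.Agent.S0047
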