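import Cfsg.Statements.S0048
import Cfsg.Agent.S0043

set_option autoImplicit false
open Cfsg
open scoped Pointwise

namespace Cfsg.Agent.S0048

lemma isCoatom_map_of_ker_le {G H : Type*} [Group G] [Group H] (f : G →* H)
    (hf : Function.Surjective f) {M : Subgroup G} (hM : IsCoatom M) (hker : f.ker ≤ M) :
    IsCoatom (M.map f) := by
  have hcm : (M.map f).comap f = M := by
    rw [Subgroup.comap_map_eq, sup_eq_left.mpr hker]
  constructor
  · intro h
    apply hM.1
    rw [← hcm, h, Subgroup.comap_top]
  · intro K' hK'
    have h1 : M ≤ K'.comap f := by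
      rw [← hcm]; exact Subgroup.comap_mono hK'.le
    have h2 : M ≠ K'.comap f := by
      intro h
      have : K' = M.map f := by
        rw [h, Subgroup.map_comap_eq_self_of_surjective hf]
      exact hK'.ne this.symm
    have h3 := hM.2 _ (lt_of_le_of_ne h1 h2)
    rw [← Subgroup.map_comap_eq_self_of_surjective hf K', h3, ← MonoidHom.range_eq_map,
      MonoidHom.range_eq_top.mpr hf]

lemma index_dvd_card_of_sup_eq_top {G : Type*} [Group G] [Finite G] (N M : Subgroup G) [N.Normal]
    (h : N ⊔ M = ⊤) : M.index ∣ Nat.card N := by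
  classical
  have hpre : MulAction.IsPretransitive N (G ⧸ M) := by
    rw [MulAction.isPretransitive_iff_base ((1 : G) : G ⧸ M)]
    intro x
    induction x using QuotientGroup.induction_on with
    | H g =>
      have hg : g ∈ N ⊔ M := by rw [h]; trivial
      rw [← SetLike.mem_coe, Subgroup.normal_mul] at hg
      obtain ⟨n, hn, m, hm, rfl⟩ := hg
      refine ⟨⟨n, hn⟩, ?_⟩
      show ((n * 1 : G) : G ⧸ M) = ((n * m : G) : G ⧸ M)
      rw [QuotientGroup.eq]
      simpa using hm
  have h1 := MulAction.index_stabilizer_of_transitive N ((1 : G) : G ⧸ M)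
  have h2 : Nat.card (G ⧸ M) = M.index := (Subgroup.index_eq_card M).symm
  rw [← h2, ← h1]
  exact Subgroup.index_dvd_card _

/-- In a finite solvable group every maximal subgroup has index a prime power. -/
theorem result {G : Type*} [Group G] [Finite G] [Group.IsSolvable G]
    (M : Subgroup G) (hM : IsCoatom M) : IsPrimePow M.index := by
  induction hn : Nat.card G using Nat.strong_induction_on generalizing G with
  | _ n ih =>
    have hnt : Nontrivial G := by
      by_contra hcon
      rw [not_nontrivial_iff_subsingleton] at hcon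
      exact hM.1 (Subsingleton.elim _ _)
    -- a minimal normal subgroup
    obtain ⟨N, hNmin⟩ := exists_minimal_of_wellFoundedLT
      (fun K : Subgroup G => K.Normal ∧ K ≠ ⊥) ⟨⊤, inferInstance, top_ne_bot⟩
    obtain ⟨⟨hNn, hNne⟩, hNmin'⟩ := hNmin
    have hmin : ∀ K : Subgroup G, K.Normal → K ≤ N → K = ⊥ ∨ K = N := by
      intro K hK hKN
      by_cases hKb : K = ⊥
      · exact Or.inl hKb
      · exact Or.inr (le_antisymm hKN (hNmin' ⟨hK, hKb⟩ hKN))
    obtain ⟨hcomm, p, hp, hpow⟩ := Cfsg.Agent.S0043.result N hNne hmin
    have : Fact p.Prime := ⟨hp⟩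
    by_cases hNM : N ≤ M
    · -- pass to the quotient
      have hker : (QuotientGroup.mk' N).ker ≤ M := by rw [QuotientGroup.ker_mk']; exact hNM
      have hco := isCoatom_map_of_ker_le (QuotientGroup.mk' N) (QuotientGroup.mk'_surjective N) hM hker
      have hidx : (M.map (QuotientGroup.mk' N)).index = M.index :=
        Subgroup.index_map_eq M (QuotientGroup.mk'_surjective N) hker
      have hlt : Nat.card (G ⧸ N) < n := by
        rw [← hn, ← Subgroup.index_eq_card, ← Subgroup.card_mul_index N]
        have h1 : 1 < Nat.card N := by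
          have : Nontrivial N := (Subgroup.nontrivial_iff_ne_bot _).mpr hNne
          exact Finite.one_lt_card
        have h2 : 0 < N.index := Nat.pos_of_ne_zero Subgroup.index_ne_zero_of_finite
        nlinarith
      rw [← hidx]
      exact ih _ hlt _ hco rfl
    · have hsup : N ⊔ M = ⊤ := by
        have hlt : M < N ⊔ M := by
          refine lt_of_le_of_ne le_sup_right ?_
          intro h
          apply hNM
          rw [h]
          exact le_sup_left
        exact hM.2 _ hlt
      have hdvd := index_dvd_card_of_sup_eq_top N M hsup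
      have hpg : IsPGroup p N := by
        intro x
        refine ⟨1, ?_⟩
        rw [pow_one]
        ext
        simpa using hpow x x.2
      obtain ⟨k, hk⟩ := IsPGroup.iff_card.mp hpg
      rw [hk] at hdvd
      obtain ⟨j, hj, hjeq⟩ := (Nat.dvd_prime_pow hp).mp hdvd
      have hj0 : j ≠ 0 := by
        intro h0
        rw [h0, pow_zero] at hjeq
        exact hM.1 (Subgroup.index_eq_one.mp hjeq)
      rw [hjeq]
      exact ⟨p, j, hp.prime, Nat.pos_of_ne_zero hj0, rfl⟩

end Cfsg.Agent.S0048
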