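import Cfsg.Statements.S0049
import Mathlib

set_option autoImplicit false
open Cfsg

namespace Cfsg.Agent.S0049

/-- A prime divisor of the order of a finite group also divides the index of the Frattini subgroup. -/
theorem result {G : Type*} [Group G] [Finite G] (p : ℕ) (hp : p.Prime) (hdvd : p ∣ Nat.card G) :
    p ∣ (frattini G).index := by
  by_contra hnd
  have : Fact p.Prime := ⟨hp⟩
  have hcop : ∀ k : ℕ, Nat.Coprime (p ^ k) (frattini G).index :=
    fun k => Nat.Coprime.pow_left k ((Nat.Prime.coprime_iff_not_dvd hp).mpr hnd)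
  obtain ⟨P⟩ : Nonempty (Sylow p G) := inferInstance
  have hPle : (P : Subgroup G) ≤ frattini G := by
    intro x hx
    obtain ⟨k, hk⟩ := (IsPGroup.iff_orderOf.mp P.2) ⟨x, hx⟩
    have hk' : orderOf x = p ^ k := by rw [← hk, Subgroup.orderOf_mk]
    have h1 : orderOf (QuotientGroup.mk' (frattini G) x) ∣ p ^ k := by
      rw [← hk']; exact orderOf_map_dvd _ x
    have h2 : orderOf (QuotientGroup.mk' (frattini G) x) ∣ (frattini G).index := by
      rw [Subgroup.index_eq_card]; exact orderOf_dvd_natCard _
    have h3 := Nat.eq_one_of_dvd_coprimes (hcop k) h1 h2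
    rw [orderOf_eq_one_iff] at h3
    exact (QuotientGroup.eq_one_iff x).mp h3
  have h4 : Subgroup.normalizer ((P : Subgroup G) : Set G) ⊔ frattini G = ⊤ :=
    Sylow.normalizer_sup_eq_top' P hPle
  have h5 : Subgroup.normalizer ((P : Subgroup G) : Set G) = ⊤ := frattini_nongenerating h4
  have hPn : (P : Subgroup G).Normal := Subgroup.normalizer_eq_top_iff.mp h5
  obtain ⟨H, hH⟩ := Subgroup.exists_right_complement'_of_coprime (N := (P : Subgroup G)) P.card_coprime_index
  have h6 : H ⊔ frattini G = ⊤ := by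
    rw [eq_top_iff, ← hH.sup_eq_top]
    exact sup_le (le_trans hPle le_sup_right) le_sup_left
  have h7 : H = ⊤ := frattini_nongenerating h6
  have h8 := hH.disjoint
  rw [h7] at h8
  have h9 : (P : Subgroup G) = ⊥ := disjoint_top.mp h8
  exact P.ne_bot_of_dvd_card hdvd h9

end Cfsg.Agent.S0049
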