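import Cfsg.Statements.S0050
import Cfsg.Agent.Lib.Helper1.HallConj

set_option autoImplicit false
open Cfsg
open scoped Pointwise

namespace Cfsg.Agent.S0050

open Cfsg.Agent.Lib.Helper1 in
/-- Frattini argument for Hall subgroups: if L is a solvable normal subgroup and H a subgroup of L of order coprime to its index in L, then L together with the normaliser of H generates the whole group. -/
theorem result {G : Type*} [Group G] [Finite G] (L : Subgroup G) [L.Normal] (hL : Group.IsSolvable L)
    (H : Subgroup G) (hHL : H ≤ L) (hHall : (Nat.card H).Coprime (H.relIndex L)) :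
    L ⊔ Subgroup.normalizer (H : Set G) = ⊤ := by
  rw [eq_top_iff]
  intro g _
  have hgHL : MulAut.conj g • H ≤ L := by
    have : MulAut.conj g • H ≤ MulAut.conj g • L :=
      Subgroup.pointwise_smul_le_pointwise_smul_iff.mpr hHL
    rwa [Subgroup.Normal.conj_smul_eq_self g L] at this
  have hLc : Nat.card L = Nat.card H * H.relIndex L := by
    have h5 := Subgroup.relIndex_mul_relIndex ⊥ H L bot_le hHL
    rw [Subgroup.relIndex_bot_left, Subgroup.relIndex_bot_left] at h5
    exact h5.symm
  obtain ⟨l, hl⟩ := hallConj_all L hL (Nat.card H) (H.relIndex L) hLc hHall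
    ((MulAut.conj g • H).subgroupOf L) (H.subgroupOf L)
    (by rw [card_subgroupOf_of_le hgHL, card_conj_smul])
    (by rw [card_subgroupOf_of_le hHL])
  have h1 := conj_of_conj_subgroupOf hgHL hHL l hl
  rw [conj_smul_smul] at h1
  have h2 : (l : G) * g ∈ Subgroup.normalizer (H : Set G) := mem_normalizer_of_conj_smul_eq h1
  have h3 : g = (l : G)⁻¹ * ((l : G) * g) := by group
  rw [h3]
  exact Subgroup.mul_mem_sup (L.inv_mem l.2) h2

end Cfsg.Agent.S0050
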