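import Cfsg.Statements.S0052
import Cfsg.Agent.Lib.Helper1.Gaschutz

set_option autoImplicit false
open Pointwise
open Cfsg

namespace Cfsg.Agent.S0052

open scoped IsMulCommutative
open Cfsg.Agent.Lib.Helper1

/-- Gaschütz's Theorem, conjugacy: for an abelian normal subgroup K ≤ U with the order of K coprime to the index of U, two complements of K in G having the same intersection with U are conjugate. -/
theorem result {G : Type*} [Group G] [Finite G] (K U : Subgroup G) [K.Normal] [IsMulCommutative K]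
    (hKU : K ≤ U) (hcop : (Nat.card K).Coprime U.index)
    (H₀ H₁ : Subgroup G) (h₀ : Subgroup.IsComplement' K H₀) (h₁ : Subgroup.IsComplement' K H₁) (hU : H₀ ⊓ U = H₁ ⊓ U) :
    ∃ g : G, MulAut.conj g • H₀ = H₁ := by
  classical
  set e₀ := kpart K h₀ with he₀
  set e₁ := kpart K h₁ with he₁
  set F : G → K := fun g => (e₀ g)⁻¹ * e₁ g with hF
  have hcoc : ∀ x g, F (x * g) = F x * MulAut.conjNormal x (F g) := by
    intro x g
    simp only [hF, he₀, he₁, kpart_cocycle, map_mul, map_inv, mul_inv]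
    rw [mul_mul_mul_comm]
  have hFU : ∀ u ∈ U, F u = 1 := by
    intro u hu
    simp only [hF]
    rw [inv_mul_eq_one]
    symm
    apply kpart_eq_of
    have h1 := kpart_spec K h₀ u
    have h2 : ((kpart K h₀ u : K) : G)⁻¹ * u ∈ H₀ ⊓ U :=
      ⟨h1, U.mul_mem (U.inv_mem (hKU (kpart K h₀ u).2)) hu⟩
    rw [hU] at h2
    exact h2.1
  have hFU' : ∀ g, ∀ u ∈ U, F (g * u) = F g := by
    intro g u hu
    rw [hcoc, hFU u hu, map_one, mul_one]
  obtain ⟨k, hk⟩ := cocycle_coboundary K U hcop F hcoc hFU'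
  refine ⟨(k : G)⁻¹, ?_⟩
  ext y
  rw [Subgroup.mem_pointwise_smul_iff_inv_smul_mem, MulAut.smul_def, ← map_inv, inv_inv,
    MulAut.conj_apply]
  rw [← kpart_eq_one_iff K h₀ (k * y * (k:G)⁻¹), ← kpart_eq_one_iff K h₁ y]
  have e0 : ∀ x, e₀ x = e₁ x * (k * (MulAut.conjNormal x k)⁻¹)⁻¹ := by
    intro x
    rw [← hk x]
    simp only [hF]
    rw [mul_inv_rev, inv_inv, mul_inv_cancel_left]
  have hconj : ∀ (e : G → K), (∀ x g, e (x * g) = e x * MulAut.conjNormal x (e g)) →
      (∀ k' : K, e (k' : G) = k') → ∀ y : G,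
      e (k * y * (k:G)⁻¹) = e y * (k * (MulAut.conjNormal y k)⁻¹) := by
    intro e hec hek y
    rw [hec, hec, hek, ← Subgroup.coe_inv, hek, map_mul MulAut.conjNormal, MulAut.mul_apply,
      conjNormal_of_mem, conjNormal_of_mem, map_inv]
    rw [mul_comm k (e y), mul_assoc]
  rw [← he₀, ← he₁]
  rw [hconj e₀ (kpart_cocycle K h₀) (kpart_of_mem K h₀), e0 y, inv_mul_cancel_right]

end Cfsg.Agent.S0052
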