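import Cfsg.Statements.S0053
import Mathlib

set_option autoImplicit false
open Cfsg
open scoped Pointwise

namespace Cfsg.Agent.S0053

/-- An abelian minimal normal subgroup N of a finite group is complemented exactly when N is not inside the Frattini subgroup. -/
theorem result {G : Type*} [Group G] [Finite G]
    (N : Subgroup G) [N.Normal] [IsMulCommutative N] (hN : N ≠ ⊥)
    (hmin : ∀ M : Subgroup G, M.Normal → M ≤ N → M = ⊥ ∨ M = N) :
    (∃ H : Subgroup G, Subgroup.IsComplement' N H) ↔ ¬ N ≤ frattini G := by
  constructor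
  · rintro ⟨H, hH⟩ hle
    have h1 : N ⊔ H = ⊤ := hH.sup_eq_top
    have h2 : H ⊔ frattini G = ⊤ := by
      rw [eq_top_iff, ← h1]
      exact sup_le (le_trans hle le_sup_right) le_sup_left
    have h3 : H = ⊤ := frattini_nongenerating h2
    have h4 := hH.disjoint
    rw [h3] at h4
    exact hN (disjoint_top.mp h4)
  · intro hnot
    have : ∃ M : Subgroup G, IsCoatom M ∧ ¬ N ≤ M := by
      by_contra hcon
      push Not at hcon
      apply hnot
      unfold frattini Order.radical
      exact le_iInf₂ (fun M hM => hcon M hM)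
    obtain ⟨M, hM, hNM⟩ := this
    refine ⟨M, ?_⟩
    have hsup : N ⊔ M = ⊤ := by
      have hlt : M < N ⊔ M := by
        refine lt_of_le_of_ne le_sup_right ?_
        intro h
        apply hNM
        rw [h]
        exact le_sup_left
      exact hM.2 _ hlt
    have hmul : (N : Set G) * (M : Set G) = Set.univ := by
      rw [← Subgroup.normal_mul, hsup]; rfl
    have hnorm : (N ⊓ M).Normal := by
      constructor
      intro d hd g
      have hg : g ∈ (N : Set G) * (M : Set G) := by rw [hmul]; trivial
      obtain ⟨n, hn, m, hm, rfl⟩ := hg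
      have hd' : m * d * m⁻¹ ∈ N ⊓ M :=
        ⟨Subgroup.Normal.conj_mem inferInstance d hd.1 m, M.mul_mem (M.mul_mem hm hd.2) (M.inv_mem hm)⟩
      have hcomm : n * (m * d * m⁻¹) = (m * d * m⁻¹) * n := by
        have := mul_comm' (⟨n, hn⟩ : N) ⟨m * d * m⁻¹, hd'.1⟩
        exact congrArg Subtype.val this
      have : n * m * d * (n * m)⁻¹ = m * d * m⁻¹ := by
        calc n * m * d * (n * m)⁻¹ = n * (m * d * m⁻¹) * n⁻¹ := by group
          _ = (m * d * m⁻¹) * n * n⁻¹ := by rw [hcomm]
          _ = m * d * m⁻¹ := by group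
      rw [this]
      exact hd'
    have hdisj : Disjoint N M := by
      rw [disjoint_iff]
      rcases hmin (N ⊓ M) hnorm inf_le_left with h | h
      · exact h
      · exact absurd (h ▸ inf_le_right : N ≤ M) hNM
    exact Subgroup.isComplement'_of_disjoint_and_mul_eq_univ hdisj hmul

end Cfsg.Agent.S0053
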