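import Cfsg.Statements.S0054
import Mathlib

set_option autoImplicit false
open Cfsg

namespace Cfsg.Agent.S0054

/-- A regular normal subgroup of a finite 2-transitive group is elementary abelian: it is commutative and all its elements have order dividing one prime. -/
theorem result {G : Type*} [Group G] [Finite G]
    {X : Type*} [Nonempty X] [MulAction G X] (h2 : MulAction.IsMultiplyPretransitive G X 2)
    (N : Subgroup G) [N.Normal] (htrans : MulAction.IsPretransitive N X) (hreg : ∀ x : X, MulAction.stabilizer N x = ⊥) :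
    IsMulCommutative N ∧ ∃ p : ℕ, p.Prime ∧ ∀ n ∈ N, n ^ p = 1 := by
  classical
  obtain ⟨x⟩ := ‹Nonempty X›
  have h2' : ∀ {a b c d : X} (_ : a ≠ b) (_ : c ≠ d), ∃ g : G, g • a = c ∧ g • b = d :=
    MulAction.is_two_pretransitive_iff.mp h2
  have hfix : ∀ n ∈ N, n • x = x → n = 1 := by
    intro n hn hx
    have : (⟨n, hn⟩ : N) ∈ MulAction.stabilizer N x := by
      rw [MulAction.mem_stabilizer_iff]; exact hx
    rw [hreg x, Subgroup.mem_bot] at this
    exact congrArg Subtype.val this
  have hconj : ∀ n ∈ N, ∀ m ∈ N, n ≠ 1 → m ≠ 1 → ∃ g : G, g * n * g⁻¹ = m := by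
    intro n hn m hm hn1 hm1
    have h1 : x ≠ n • x := fun h => hn1 (hfix n hn h.symm)
    have h3 : x ≠ m • x := fun h => hm1 (hfix m hm h.symm)
    obtain ⟨g, hg1, hg2⟩ := h2' h1 h3
    refine ⟨g, ?_⟩
    have hg3 : g⁻¹ • x = x := by rw [inv_smul_eq_iff, hg1]
    have hmem : m⁻¹ * (g * n * g⁻¹) ∈ N :=
      N.mul_mem (N.inv_mem hm) (Subgroup.Normal.conj_mem inferInstance n hn g)
    have hst : (m⁻¹ * (g * n * g⁻¹)) • x = x := by
      rw [mul_smul, mul_smul, mul_smul, hg3, hg2, inv_smul_smul]
    have := hfix _ hmem hst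
    calc g * n * g⁻¹ = m * (m⁻¹ * (g * n * g⁻¹)) := by group
      _ = m := by rw [this, mul_one]
  by_cases hbot : N = ⊥
  · subst hbot
    refine ⟨?_, 2, Nat.prime_two, ?_⟩
    · refine IsMulCommutative.of_comm ?_
      intro a b
      have ha : a = 1 := Subsingleton.elim _ _
      have hb : b = 1 := Subsingleton.elim _ _
      rw [ha, hb]
    · intro n hn
      rw [Subgroup.mem_bot] at hn
      rw [hn, one_pow]
  · have hnt : Nontrivial N := (Subgroup.nontrivial_iff_ne_bot _).mpr hbot
    have hcard : 1 < Nat.card N := Finite.one_lt_card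
    obtain ⟨p, hp, hpd⟩ := Nat.exists_prime_and_dvd (Nat.ne_of_gt hcard)
    have : Fact p.Prime := ⟨hp⟩
    obtain ⟨k, hk⟩ := exists_prime_orderOf_dvd_card' p hpd
    have hk' : orderOf (k : G) = p := by rw [Subgroup.orderOf_coe]; exact hk
    have hk1 : (k : G) ≠ 1 := by
      intro h
      rw [h, orderOf_one] at hk'
      exact hp.one_lt.ne hk'
    have hkp : (k : G) ^ p = 1 := by rw [← hk']; exact pow_orderOf_eq_one _
    have hpow : ∀ n ∈ N, n ^ p = 1 := by
      intro n hn
      by_cases hn1 : n = 1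
      · rw [hn1, one_pow]
      · obtain ⟨g, hg⟩ := hconj k k.2 n hn hk1 hn1
        rw [← hg, conj_pow, hkp]; group
    refine ⟨?_, p, hp, hpow⟩
    have hpg : IsPGroup p N := by
      intro n
      refine ⟨1, ?_⟩
      rw [pow_one]
      ext
      simpa using hpow n n.2
    have hcn : Nontrivial (Subgroup.center N) := hpg.center_nontrivial
    obtain ⟨z, hz⟩ := exists_ne (1 : Subgroup.center N)
    have hz1 : ((z : N) : G) ≠ 1 := by
      intro h
      apply hz
      ext
      simpa using h
    have hzc : ∀ k' ∈ N, ((z : N) : G) * k' = k' * ((z : N) : G) := by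
      intro k' hk'
      have := Subgroup.mem_center_iff.mp z.2 ⟨k', hk'⟩
      exact (congrArg Subtype.val this).symm
    refine IsMulCommutative.of_comm ?_
    intro a b
    ext
    simp only [Subgroup.coe_mul]
    by_cases ha1 : (a : G) = 1
    · rw [ha1]; simp
    · obtain ⟨g, hg⟩ := hconj ((z : N) : G) (z : N).2 a a.2 hz1 ha1
      have hb' : g⁻¹ * b * g ∈ N := by
        have := Subgroup.Normal.conj_mem (inferInstance : N.Normal) b b.2 g⁻¹
        simpa using this
      have h3 := hzc _ hb'
      rw [← hg]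
      calc g * ((z : N) : G) * g⁻¹ * b = g * (((z : N) : G) * (g⁻¹ * b * g)) * g⁻¹ := by group
        _ = g * ((g⁻¹ * b * g) * ((z : N) : G)) * g⁻¹ := by rw [h3]
        _ = b * (g * ((z : N) : G) * g⁻¹) := by group

end Cfsg.Agent.S0054
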