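import Cfsg.Statements.S0055
import Mathlib

set_option autoImplicit false
open Cfsg
open scoped IsMulCommutative commutatorElement

namespace Cfsg.Agent.S0055

section abstract

variable {A V : Type*} [Group A] [Fintype A] [CommGroup V] [MulDistribMulAction A V]

/-- The norm (averaging) homomorphism. -/
def tau : V →* V where
  toFun v := ∏ a : A, a • v
  map_one' := by simp
  map_mul' v w := by simp [smul_mul', Finset.prod_mul_distrib]

lemma tau_apply (v : V) : tau (A := A) v = ∏ a : A, a • v := rfl

lemma tau_smul (b : A) (v : V) : tau (A := A) (b • v) = tau (A := A) v := by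
  simp only [tau_apply, smul_smul]
  exact Fintype.prod_equiv (Equiv.mulRight b) _ _ (fun a => rfl)

lemma smul_tau (b : A) (v : V) : b • tau (A := A) v = tau (A := A) v := by
  simp only [tau_apply, Finset.smul_prod', smul_smul]
  exact Fintype.prod_equiv (Equiv.mulLeft b) _ _ (fun a => rfl)

lemma tau_of_fixed (v : V) (h : ∀ a : A, a • v = v) : tau (A := A) v = v ^ Fintype.card A := by
  simp [tau_apply, h]

lemma pow_card_eq (v : V) : v ^ Fintype.card A = tau (A := A) v * ∏ a : A, (v / a • v) := by
  rw [tau_apply, ← Finset.prod_mul_distrib]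
  simp

end abstract

section concrete

variable {G : Type*} [Group G] (A V : Subgroup G) (hAV : A ≤ Subgroup.normalizer (V : Set G))

/-- Conjugation action of `A` on `V`. -/
@[instance_reducible]
def conjAct : MulDistribMulAction A V where
  smul a v := ⟨a * v * a⁻¹, ((hAV a.2) v).mp v.2⟩
  one_smul v := by ext; simp [HSMul.hSMul]
  mul_smul a b v := by ext; simp [HSMul.hSMul, mul_assoc]
  smul_mul a v w := by ext; simp [HSMul.hSMul, mul_assoc]
  smul_one a := by ext; simp [HSMul.hSMul]

end concrete

theorem result {G : Type*} [Group G] [Finite G] (A V : Subgroup G) [IsMulCommutative V]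
    (hAV : A ≤ Subgroup.normalizer (V : Set G)) (hcop : (Nat.card A).Coprime (Nat.card V)) :
    (V ⊓ Subgroup.centralizer (A : Set G)) ⊓ ⁅V, A⁆ = ⊥ ∧ (V ⊓ Subgroup.centralizer (A : Set G)) ⊔ ⁅V, A⁆ = V := by
  classical
  let _ := Fintype.ofFinite A
  let _ : MulDistribMulAction A V := conjAct A V hAV
  have hsmul : ∀ (a : A) (v : V), ((a • v : V) : G) = a * v * a⁻¹ := fun a v => rfl
  have hdiv : ∀ (v : V) (a : A), ((v / a • v : V) : G) = ⁅(v : G), (a : G)⁆ := by
    intro v a
    rw [Subgroup.coe_div, hsmul, commutatorElement_def, div_eq_mul_inv, Subgroup.coe_inv]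
    group
  have hcomm_le : ⁅V, A⁆ ≤ V := by
    rw [Subgroup.commutator_le]
    intro v hv a ha
    have : a * v⁻¹ * a⁻¹ ∈ V := ((hAV ha) v⁻¹).mp (V.inv_mem hv)
    rw [commutatorElement_def]
    have h2 : v * a * v⁻¹ * a⁻¹ = v * (a * v⁻¹ * a⁻¹) := by group
    rw [h2]
    exact V.mul_mem hv this
  -- the commutator subgroup is killed by tau
  have hker : ∀ x (hx : x ∈ ⁅V, A⁆), tau (A := A) (⟨x, hcomm_le hx⟩ : V) = 1 := by
    have : ⁅V, A⁆ ≤ ((tau (A := A) (V := V)).ker).map V.subtype := by
      rw [Subgroup.commutator_le]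
      intro v hv a ha
      refine ⟨⟨v, hv⟩ / (⟨a, ha⟩ : A) • ⟨v, hv⟩, ?_, ?_⟩
      · simp only [SetLike.mem_coe, MonoidHom.mem_ker, map_div, tau_smul, div_self']
      · rw [Subgroup.subtype_apply, hdiv]
    intro x hx
    obtain ⟨y, hy, hyx⟩ := this hx
    have : y = ⟨x, hcomm_le hx⟩ := Subtype.ext hyx
    rw [← this]
    exact hy
  have hcopV : ∀ v : V, (Fintype.card A).Coprime (orderOf v) := by
    intro v
    have h1 : orderOf v ∣ Nat.card V := orderOf_dvd_natCard v
    rw [Nat.card_eq_fintype_card] at hcop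
    exact Nat.Coprime.coprime_dvd_right h1 hcop
  constructor
  · rw [eq_bot_iff]
    intro w hw
    obtain ⟨⟨hwV, hwC⟩, hwK⟩ := hw
    rw [Subgroup.mem_bot]
    have h1 : tau (A := A) (⟨w, hwV⟩ : V) = 1 := hker w hwK
    have hfix : ∀ a : A, a • (⟨w, hwV⟩ : V) = ⟨w, hwV⟩ := by
      intro a
      ext
      rw [hsmul]
      have := hwC a a.2
      simp only at this ⊢
      rw [this]; simp
    rw [tau_of_fixed _ hfix] at h1
    have h2 : orderOf (⟨w, hwV⟩ : V) ∣ Fintype.card A := orderOf_dvd_of_pow_eq_one h1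
    have h3 := Nat.Coprime.eq_one_of_dvd (hcopV ⟨w, hwV⟩).symm h2
    rw [orderOf_eq_one_iff] at h3
    exact congrArg Subtype.val h3
  · apply le_antisymm
    · exact sup_le inf_le_left hcomm_le
    · intro v hv
      set S := (V ⊓ Subgroup.centralizer (A : Set G)) ⊔ ⁅V, A⁆ with hS
      set S' : Subgroup V := S.comap V.subtype with hS'
      have key : (⟨v, hv⟩ : V) ^ Fintype.card A ∈ S' := by
        rw [pow_card_eq (A := A)]
        apply S'.mul_mem
        · rw [hS', Subgroup.mem_comap]
          apply Subgroup.mem_sup_left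
          refine Subgroup.mem_inf.mpr ⟨(tau (A := A) (⟨v, hv⟩ : V)).2, ?_⟩
          rw [Subgroup.mem_centralizer_iff]
          intro a ha
          have := smul_tau (⟨a, ha⟩ : A) (⟨v, hv⟩ : V)
          have h2 := congrArg Subtype.val this
          rw [hsmul] at h2
          have h3 : a * ((tau (A := A) (⟨v, hv⟩ : V) : V) : G) * a⁻¹
              = ((tau (A := A) (⟨v, hv⟩ : V) : V) : G) := by simpa using h2
          simp only [Subgroup.subtype_apply]
          calc a * ((tau (A := A) (⟨v, hv⟩ : V) : V) : G)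
              = a * ((tau (A := A) (⟨v, hv⟩ : V) : V) : G) * a⁻¹ * a := by group
            _ = ((tau (A := A) (⟨v, hv⟩ : V) : V) : G) * a := by rw [h3]
        · apply Subgroup.prod_mem
          intro a _
          rw [hS', Subgroup.mem_comap]
          apply Subgroup.mem_sup_right
          have : ((V.subtype ((⟨v, hv⟩ : V) / a • (⟨v, hv⟩ : V))) : G) = ⁅v, (a : G)⁆ := by
            rw [Subgroup.subtype_apply, hdiv]
          rw [this]
          exact Subgroup.commutator_mem_commutator hv a.2
      obtain ⟨m, hm⟩ := exists_pow_eq_self_of_coprime (hcopV ⟨v, hv⟩)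
      have : (⟨v, hv⟩ : V) ∈ S' := by
        rw [← hm]
        exact S'.pow_mem key m
      exact this

end Cfsg.Agent.S0055
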