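import Cfsg.Statements.S0056
import Cfsg.Agent.S0055

set_option autoImplicit false
open Cfsg

namespace Cfsg.Agent.S0056

/-- A coprime action on an abelian group that fixes all elements of prime order is trivial. -/
theorem result {G : Type*} [Group G] [Finite G] (A V : Subgroup G) [IsMulCommutative V]
    (hAV : A ≤ Subgroup.normalizer (V : Set G)) (hcop : (Nat.card A).Coprime (Nat.card V))
    (hΩ : ∀ v ∈ V, (orderOf v).Prime → ∀ a ∈ A, a * v = v * a) : A ≤ Subgroup.centralizer (V : Set G) := by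
  obtain ⟨h1, h2⟩ := Cfsg.Agent.S0055.result A V hAV hcop
  have hKV : ⁅V, A⁆ ≤ V := by
    calc ⁅V, A⁆ ≤ (V ⊓ Subgroup.centralizer (A : Set G)) ⊔ ⁅V, A⁆ := le_sup_right
      _ = V := h2
  have hK : ⁅V, A⁆ = ⊥ := by
    by_contra hne
    have hnt : Nontrivial (⁅V, A⁆ : Subgroup G) := (Subgroup.nontrivial_iff_ne_bot _).mpr hne
    have hcard : 1 < Nat.card (⁅V, A⁆ : Subgroup G) := Finite.one_lt_card
    obtain ⟨p, hp, hpd⟩ := Nat.exists_prime_and_dvd (Nat.ne_of_gt hcard)
    have : Fact p.Prime := ⟨hp⟩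
    obtain ⟨k, hk⟩ := exists_prime_orderOf_dvd_card' p hpd
    have hk' : orderOf (k : G) = p := by rw [Subgroup.orderOf_coe]; exact hk
    have hkV : (k : G) ∈ V := hKV k.2
    have hkC : (k : G) ∈ Subgroup.centralizer (A : Set G) := by
      rw [Subgroup.mem_centralizer_iff]
      intro a ha
      exact hΩ k hkV (hk' ▸ hp) a ha
    have : (k : G) ∈ (V ⊓ Subgroup.centralizer (A : Set G)) ⊓ ⁅V, A⁆ := ⟨⟨hkV, hkC⟩, k.2⟩
    rw [h1, Subgroup.mem_bot] at this
    rw [this, orderOf_one] at hk'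
    exact hp.one_lt.ne hk'
  rw [Subgroup.commutator_comm] at hK
  exact Subgroup.commutator_eq_bot_iff_le_centralizer.mp hK

end Cfsg.Agent.S0056
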