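import Cfsg.Statements.S0057
import Cfsg.Agent.Lib.Helper1.CoprimeIndexP

set_option autoImplicit false
open Cfsg

namespace Cfsg.Agent.S0057

open Subgroup
open Cfsg.Agent.Lib.Helper1 Cfsg.Agent.Lib.Helper24
open scoped commutatorElement

/-- Under coprime action, if the centraliser of A in K has prime index p in K then the commutator subgroup [K, A] has order exactly p. -/
theorem result {G : Type*} [Group G] [Finite G] (A K : Subgroup G) (hAK : A ≤ Subgroup.normalizer (K : Set G))
    (hcop : (Nat.card A).Coprime (Nat.card K)) (hsolv : Group.IsSolvable A ∨ Group.IsSolvable K)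
    (p : ℕ) (hp : p.Prime) (hidx : (K ⊓ Subgroup.centralizer (A : Set G)).relIndex K = p) :
    Nat.card (⁅K, A⁆ : Subgroup G) = p := by
  have : Fact p.Prime := ⟨hp⟩
  set C := K ⊓ centralizer (A : Set G) with hC
  have hCK : C ≤ K := inf_le_left
  obtain ⟨P, hPA⟩ := exists_invariant_sylow (p := p) A K hAK hcop hsolv
  obtain ⟨hSK, hSp, hSi⟩ := sylow_map_facts K P
  set S := (P : Subgroup K).map K.subtype with hS
  have hcopS : (Nat.card A).Coprime (Nat.card S) :=
    Nat.Coprime.coprime_dvd_right (card_dvd_of_le hSK) hcop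
  have hsolvS : Group.IsSolvable S := by
    have := hSp.isNilpotent
    infer_instance
  have e1 : S ⊓ centralizer (A : Set G) = S ⊓ C := by
    rw [hC, ← inf_assoc, inf_of_le_left hSK]
  -- the relative index of `C` in `S` is `p`
  have hCS : C.relIndex S = p := by
    have h1 : C.relIndex S ≤ p := by
      rw [← hidx]
      exact relIndex_le_of_le_right hSK (by rw [hidx]; exact hp.ne_zero)
    have h2 : C.relIndex S ∣ Nat.card S := relIndex_dvd_card _ _
    obtain ⟨n, hn⟩ := IsPGroup.iff_card.mp hSp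
    rw [hn] at h2
    obtain ⟨j, -, hj⟩ := (Nat.dvd_prime_pow hp).mp h2
    have hj0 : j ≠ 0 := by
      rintro rfl
      rw [pow_zero, relIndex_eq_one] at hj
      have h3 : C.relIndex K ∣ S.relIndex K := relIndex_dvd_of_le_left K hj
      rw [hidx] at h3
      exact hSi h3
    have hj1 : j ≤ 1 := by
      rw [hj] at h1
      by_contra hcon
      have h4 : 2 ≤ j := by omega
      have h5 : p ^ 2 ≤ p ^ j := Nat.pow_le_pow_right hp.pos h4
      have h6 : p < p ^ 2 := by
        have := hp.one_lt
        nlinarith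
      omega
    have hj' : j = 1 := by omega
    rw [hj, hj', pow_one]
  have hidxS : (S ⊓ centralizer (A : Set G)).relIndex S = p := by
    rw [e1, inf_relIndex_left]
    exact hCS
  have hP0 := card_commutator_of_pgroup_index_p A S hPA hcopS p hSp hidxS
  set P₀ := (⁅S, A⁆ : Subgroup G) with hP₀
  have hP0S : P₀ ≤ S := commutator_le_of_le_normalizer S A hPA
  have hP0K : P₀ ≤ K := hP0S.trans hSK
  have hP0A : ⁅P₀, A⁆ = P₀ := commutator_commutator_eq A S hPA hcopS (Or.inr hsolvS)
  -- `P₀ ∩ C = 1`
  have hdisj : P₀ ⊓ C = ⊥ := by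
    have h1 : Nat.card (P₀ ⊓ C : Subgroup G) ∣ p := by
      rw [← hP0]
      exact card_dvd_of_le inf_le_left
    rcases (Nat.dvd_prime hp).mp h1 with h | h
    · exact Subgroup.card_eq_one.mp h
    · exfalso
      have h2 : P₀ ⊓ C = P₀ := eq_of_le_of_card_ge inf_le_left (by rw [h, hP0])
      have h3 : P₀ ≤ centralizer (A : Set G) := by
        intro x hx
        rw [← h2] at hx
        exact hx.2.2
      have h4 : ⁅P₀, A⁆ = ⊥ := by
        rw [commutator_eq_bot_iff_le_centralizer]
        exact h3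
      rw [hP0A] at h4
      rw [h4, Subgroup.card_bot] at hP0
      exact hp.one_lt.ne hP0
  -- `K = P₀ C`
  have hcompl : IsComplement' (P₀.subgroupOf K) (C.subgroupOf K) := by
    apply isComplement'_of_card_mul_and_disjoint
    · rw [Nat.card_congr (Subgroup.subgroupOfEquivOfLe hP0K).toEquiv,
        Nat.card_congr (Subgroup.subgroupOfEquivOfLe hCK).toEquiv, hP0, ← hidx]
      exact relIndex_mul_card' hCK
    · rw [Subgroup.disjoint_def]
      intro x hx1 hx2
      have : (x : G) ∈ P₀ ⊓ C := ⟨hx1, hx2⟩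
      rw [hdisj, mem_bot] at this
      exact Subtype.ext this
  have hle : ⁅K, A⁆ ≤ P₀ := by
    rw [commutator_le]
    intro k hk a ha
    obtain ⟨⟨x, c⟩, hxc⟩ := hcompl.2 ⟨k, hk⟩
    have hxc' : (x : G) * (c : G) = k := by
      have := congrArg Subtype.val hxc
      simpa using this
    have hcC : (c : G) ∈ C := c.2
    have hca : (c : G) * a = a * c := by
      have h0 : (c : G) ∈ centralizer (A : Set G) := hcC.2
      rw [mem_centralizer_iff] at h0
      exact (h0 a ha).symm
    have e : ⁅k, a⁆ = ⁅(x : G), a⁆ := by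
      rw [← hxc']
      simp only [commutatorElement_def]
      calc (x : G) * c * a * ((x : G) * c)⁻¹ * a⁻¹ = x * (c * a) * (c : G)⁻¹ * (x : G)⁻¹ * a⁻¹ := by group
        _ = x * (a * c) * (c : G)⁻¹ * (x : G)⁻¹ * a⁻¹ := by rw [hca]
        _ = x * a * (x : G)⁻¹ * a⁻¹ := by group
    have hmem : ⁅(x : G), a⁆ ∈ ⁅P₀, A⁆ := commutator_mem_commutator x.2 ha
    rw [hP0A] at hmem
    rw [e]
    exact hmem
  have hge : P₀ ≤ ⁅K, A⁆ := commutator_mono hSK le_rfl
  rw [le_antisymm hle hge]
  exact hP0

end Cfsg.Agent.S0057
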