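import Cfsg.Statements.S0058
import Cfsg.Agent.Lib.Helper48.CoprimeGen
import Cfsg.Agent.Lib.Helper48.NonCyclic

set_option autoImplicit false
open Cfsg

namespace Cfsg.Agent.S0058

/-- Generation by centralisers: when a noncyclic abelian group A normalises K with coprime orders, K is generated by the fixed-point subgroups of the nonidentity elements of A. -/
theorem result {G : Type*} [Group G] [Finite G] (A K : Subgroup G)
    [IsMulCommutative A] (hA : ¬ IsCyclic A) (hAK : A ≤ Subgroup.normalizer (K : Set G)) (hcop : (Nat.card A).Coprime (Nat.card K)) :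
    (⨆ a ∈ {a : G | a ∈ A ∧ a ≠ 1}, K ⊓ Subgroup.centralizer {a}) = K := by
  classical
  apply le_antisymm
  · apply iSup₂_le
    intro a _
    exact inf_le_left
  · have hcomm : ∀ x y : A, x * y = y * x := fun x y => IsMulCommutative.is_comm.comm x y
    obtain ⟨p, hp, a, b, hap, hbp, hb1, haz⟩ :=
      Lib.Helper48.exists_rank_two_of_not_isCyclic hcomm hA
    have : Fact p.Prime := ⟨hp⟩
    have hab : a * b = b * a := hcomm a b
    have hbo : orderOf b = p := orderOf_eq_prime hbp hb1
    have hpA : p ∣ Nat.card A := by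
      rw [← hbo]; exact orderOf_dvd_natCard b
    have hpK : ¬ p ∣ Nat.card K := by
      intro hdvd
      have := Nat.dvd_gcd hpA hdvd
      rw [show (Nat.card A).gcd (Nat.card K) = 1 from hcop] at this
      exact hp.one_lt.ne' (Nat.dvd_one.mp this)
    -- ambient subgroup: the normalizer of K
    set G₁ : Subgroup G := Subgroup.normalizer (K : Set G) with hG₁
    have hKG₁ : K ≤ G₁ := Subgroup.le_normalizer
    have haG : (a : G) ∈ G₁ := hAK a.2
    have hbG : (b : G) ∈ G₁ := hAK b.2
    have hKn : (K.subgroupOf G₁).Normal := Subgroup.normal_in_normalizer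
    have hcard : Nat.card (K.subgroupOf G₁) = Nat.card K :=
      Nat.card_congr (Subgroup.subgroupOfEquivOfLe hKG₁).toEquiv
    have hap' : (⟨(a : G), haG⟩ : G₁) ^ p = 1 := by
      apply Subtype.ext
      have := congrArg Subtype.val hap
      simpa using this
    have hbp' : (⟨(b : G), hbG⟩ : G₁) ^ p = 1 := by
      apply Subtype.ext
      have := congrArg Subtype.val hbp
      simpa using this
    have hab' : (⟨(a : G), haG⟩ : G₁) * ⟨(b : G), hbG⟩ = ⟨(b : G), hbG⟩ * ⟨(a : G), haG⟩ := by
      apply Subtype.ext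
      have := congrArg Subtype.val hab
      simpa using this
    have h1 := Lib.Helper48.coprime_gen (K.subgroupOf G₁) (⟨(a : G), haG⟩ : G₁) ⟨(b : G), hbG⟩
      hap' hbp' hab' (by rw [hcard]; exact hpK)
    have h2 : K ≤ Lib.Helper48.genSub K (a : G) (b : G) :=
      Lib.Helper48.genSub_transfer_subgroup G₁ K (a : G) (b : G) haG hbG hKG₁ h1
    refine h2.trans ?_
    unfold Lib.Helper48.genSub
    apply iSup₂_le
    intro c hc
    have hcA : c ∈ A := by
      rcases hc with rfl | ⟨n, rfl⟩
      · exact b.2
      · exact A.mul_mem a.2 (A.pow_mem b.2 n)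
    have hc1 : c ≠ 1 := by
      rcases hc with rfl | ⟨n, rfl⟩
      · intro h; exact hb1 (Subtype.ext h)
      · intro h
        apply haz
        have h2 : a * b ^ n = 1 := Subtype.ext (by simpa using h)
        have h3 : a = (b ^ n)⁻¹ := eq_inv_of_mul_eq_one_left h2
        rw [h3]
        exact Subgroup.inv_mem _ (Subgroup.pow_mem _ (Subgroup.mem_zpowers b) n)
    exact le_iSup₂ (f := fun a (_ : a ∈ {a : G | a ∈ A ∧ a ≠ 1}) => K ⊓ Subgroup.centralizer {a})
      c ⟨hcA, hc1⟩

end Cfsg.Agent.S0058
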