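import Cfsg.Statements.S0059
import Cfsg.Agent.Lib.Helper1.SZB

set_option autoImplicit false
open Cfsg
open scoped Pointwise

namespace Cfsg.Agent.S0059

open Cfsg.Agent.Lib.Helper1

theorem sup_stabilizer_eq_top {G : Type*} [Group G] {X : Type*} [MulAction G X]
    (K : Subgroup G) (htrans : MulAction.IsPretransitive K X) (x : X) :
    K ⊔ MulAction.stabilizer G x = ⊤ := by
  rw [eq_top_iff]
  intro g _
  obtain ⟨k, hk⟩ := MulAction.exists_smul_eq K x (g • x)
  have h1 : (k : G)⁻¹ * g ∈ MulAction.stabilizer G x := by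
    rw [MulAction.mem_stabilizer_iff, mul_smul, inv_smul_eq_iff]
    exact hk.symm
  have h2 : g = (k : G) * ((k : G)⁻¹ * g) := by group
  rw [h2]
  exact Subgroup.mul_mem_sup k.2 h1

theorem relIndex_stabilizer {G : Type*} [Group G] {X : Type*} [MulAction G X]
    (K : Subgroup G) [K.Normal] (htrans : MulAction.IsPretransitive K X) (x : X) :
    (K ⊓ MulAction.stabilizer G x).relIndex (MulAction.stabilizer G x) = K.index := by
  rw [Subgroup.inf_relIndex_right, ← Subgroup.relIndex_sup_left, sup_stabilizer_eq_top K htrans x,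
    Subgroup.relIndex_top_right]

theorem le_normalizer_inf_of_normal {G : Type*} [Group G] (K S : Subgroup G) [K.Normal] :
    S ≤ Subgroup.normalizer ((K ⊓ S : Subgroup G) : Set G) := by
  intro l hl
  apply mem_normalizer_of_conj_smul_eq
  rw [Subgroup.smul_inf, Subgroup.Normal.conj_smul_eq_self l K,
    Subgroup.conj_smul_eq_self_of_mem hl]

/-- Let a finite group act on a set on which a normal subgroup K of coprime order and index is transitive, with K or the quotient solvable. Then any complement H of K has a fixed point, and any two H-fixed points are interchanged by an element of K centralising H. -/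
theorem result {G : Type*} [Group G] [Finite G] {X : Type*} [Nonempty X] [MulAction G X]
    (K H : Subgroup G) [K.Normal] (hc : Subgroup.IsComplement' K H) (hcop : (Nat.card K).Coprime K.index)
    (hsolv : Group.IsSolvable K ∨ Group.IsSolvable (G ⧸ K)) (htrans : MulAction.IsPretransitive K X) :
    (∃ x : X, ∀ h ∈ H, h • x = x) ∧
    ∀ x y : X, (∀ h ∈ H, h • x = x) → (∀ h ∈ H, h • y = y) → ∃ k ∈ K ⊓ Subgroup.centralizer (H : Set G), k • x = y := by
  have hHc : Nat.card H = K.index := hc.symm.index_eq_card.symm
  have hsolv' : Group.IsSolvable K ∨ Group.IsSolvable H := by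
    rcases hsolv with h | h
    · exact Or.inl h
    · right
      exact Group.isSolvable_of_surjective (f := (hc.symm.QuotientMulEquiv).toMonoidHom)
        (hc.symm.QuotientMulEquiv).surjective
  constructor
  · obtain ⟨x₀⟩ : Nonempty X := inferInstance
    set S := MulAction.stabilizer G x₀ with hS
    have hrel := relIndex_stabilizer K htrans x₀
    have hn : ((K ⊓ S).subgroupOf S).Normal :=
      (Subgroup.normal_subgroupOf_iff_le_normalizer inf_le_right).mpr
        (le_normalizer_inf_of_normal K S)
    have hcop' : (Nat.card ((K ⊓ S).subgroupOf S)).Coprime ((K ⊓ S).subgroupOf S).index := by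
      rw [card_subgroupOf_of_le inf_le_right]
      change (Nat.card (K ⊓ S : Subgroup G)).Coprime ((K ⊓ S).relIndex S)
      rw [hrel]
      exact Nat.Coprime.coprime_dvd_left (Subgroup.card_dvd_of_le inf_le_left) hcop
    obtain ⟨B', hB'⟩ := Subgroup.exists_right_complement'_of_coprime hcop'
    have hB'c : Nat.card B' = K.index := by
      rw [← hB'.symm.index_eq_card]; exact hrel
    set B := B'.map S.subtype with hB
    have hBc : Nat.card B = K.index := by rw [hB, Subgroup.card_subtype, hB'c]
    have hBS : B ≤ S := Subgroup.map_subtype_le B'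
    obtain ⟨g, hg⟩ := sz_conj_of_card K hcop H B hHc hBc hsolv'
    refine ⟨g⁻¹ • x₀, ?_⟩
    intro h hh
    have h1 : g * h * g⁻¹ ∈ B := by
      rw [← hg]
      exact Subgroup.smul_mem_pointwise_smul h (MulAut.conj g) H hh
    have h2 := MulAction.mem_stabilizer_iff.mp (hBS h1)
    rw [mul_smul, mul_smul] at h2
    rw [← smul_left_cancel_iff g, h2, smul_inv_smul]
  · intro x y hx hy
    obtain ⟨k, hk⟩ := MulAction.exists_smul_eq K x y
    set S := MulAction.stabilizer G y with hS
    have hrel := relIndex_stabilizer K htrans y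
    have hHS : H ≤ S := fun h hh => MulAction.mem_stabilizer_iff.mpr (hy h hh)
    have hkHS : MulAut.conj (k : G) • H ≤ S := by
      rintro _ ⟨h, hh, rfl⟩
      rw [MulAction.mem_stabilizer_iff]
      change ((k : G) * h * (k : G)⁻¹) • y = y
      have : (k : G) • x = y := hk
      rw [mul_smul, mul_smul, ← this, inv_smul_smul, hx h hh]
    have hsolv'' : Group.IsSolvable (K ⊓ S : Subgroup G) ∨ Group.IsSolvable H := by
      rcases hsolv' with h | h
      · exact Or.inl (isSolvable_of_le inf_le_left h)
      · exact Or.inr h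
    obtain ⟨s, hsS, hs⟩ := szprop_sub S (szprop_all S) (K ⊓ S) H (MulAut.conj (k : G) • H)
      inf_le_right (le_normalizer_inf_of_normal K S) hHS hkHS
      (by rw [hrel]
          exact Nat.Coprime.coprime_dvd_left (Subgroup.card_dvd_of_le inf_le_left) hcop)
      (by rw [hrel, hHc]) (by rw [hrel, card_conj_smul, hHc]) hsolv''
    obtain ⟨⟨k', h'⟩, hkh⟩ := hc.2 s
    simp only at hkh
    have hk'S : (k' : G) ∈ S := by
      have : (k' : G) = s * (h' : G)⁻¹ := by rw [← hkh]; group
      rw [this]
      exact S.mul_mem hsS (S.inv_mem (hHS h'.2))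
    have hk'H : MulAut.conj (k' : G) • H = MulAut.conj (k : G) • H := by
      rw [← hs, ← hkh, ← conj_smul_smul, Subgroup.conj_smul_eq_self_of_mem h'.2]
    set c : G := (k' : G)⁻¹ * k with hcdef
    have hcK : c ∈ K := K.mul_mem (K.inv_mem k'.2) k.2
    have hcN : MulAut.conj c • H = H := by
      rw [hcdef, ← conj_smul_smul, ← hk'H, conj_smul_smul, inv_mul_cancel, map_one, one_smul]
    refine ⟨c, Subgroup.mem_inf.mpr ⟨hcK, ?_⟩, ?_⟩
    · rw [Subgroup.mem_centralizer_iff]
      intro h hh
      have h1 : c * h * c⁻¹ ∈ H := by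
        rw [← hcN]
        exact Subgroup.smul_mem_pointwise_smul h (MulAut.conj c) H hh
      have h2 : c * h * c⁻¹ * h⁻¹ ∈ H := H.mul_mem h1 (H.inv_mem hh)
      have h3 : c * h * c⁻¹ * h⁻¹ ∈ K := by
        have : c * h * c⁻¹ * h⁻¹ = c * (h * c⁻¹ * h⁻¹) := by group
        rw [this]
        exact K.mul_mem hcK (Subgroup.Normal.conj_mem inferInstance _ (K.inv_mem hcK) h)
      have h4 : c * h * c⁻¹ * h⁻¹ ∈ K ⊓ H := ⟨h3, h2⟩
      rw [hc.disjoint.eq_bot, Subgroup.mem_bot] at h4
      have : c * h = h * c := by
        have := congrArg (fun z => z * h * c) h4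
        simpa [mul_assoc] using this
      exact this.symm
    · rw [hcdef, mul_smul]
      have : (k : G) • x = y := hk
      rw [this, inv_smul_eq_iff]
      exact (MulAction.mem_stabilizer_iff.mp hk'S).symm

end Cfsg.Agent.S0059
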