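import Cfsg.Statements.S0060
import Mathlib

set_option autoImplicit false
open Pointwise
open Cfsg

namespace Cfsg.Agent.S0060

theorem mem_conj_smul {G : Type*} [Group G] (g x : G) (S : Subgroup G) :
    x ∈ MulAut.conj g • S ↔ g⁻¹ * x * g ∈ S := by
  rw [Subgroup.mem_pointwise_smul_iff_inv_smul_mem]
  simp [MulAut.smul_def]

/-- Brodkey's Theorem: in a finite group with abelian Sylow p-subgroups and no nontrivial normal p-subgroup, some conjugate of a Sylow p-subgroup meets it trivially. -/
theorem result {G : Type*} [Group G] [Finite G] (p : ℕ) [Fact p.Prime]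
    (S : Sylow p G) (hS : IsMulCommutative S) (hOp : Cfsg.pCore p G = ⊥) :
    ∃ g : G, (S : Subgroup G) ⊓ MulAut.conj g • (S : Subgroup G) = ⊥ := by
  have hcomm : ∀ x ∈ (S : Subgroup G), ∀ y ∈ (S : Subgroup G), x * y = y * x := by
    intro x hx y hy
    have := hS.is_comm.comm (⟨x, hx⟩ : S) ⟨y, hy⟩
    exact congrArg Subtype.val this
  obtain ⟨g₀, hg₀⟩ := Finite.exists_min
    (fun g : G => Nat.card ↥((S : Subgroup G) ⊓ MulAut.conj g • (S : Subgroup G)))
  refine ⟨g₀, ?_⟩
  set T : Subgroup G := MulAut.conj g₀ • (S : Subgroup G) with hT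
  set D : Subgroup G := (S : Subgroup G) ⊓ T with hD
  have hTcomm : ∀ x ∈ T, ∀ y ∈ T, x * y = y * x := by
    intro x hx y hy
    rw [hT, mem_conj_smul] at hx hy
    have := hcomm _ hx _ hy
    have e : x * y = g₀ * ((g₀⁻¹ * x * g₀) * (g₀⁻¹ * y * g₀)) * g₀⁻¹ := by group
    rw [e, this]
    group
  set N : Subgroup G := Subgroup.normalizer (D : Set G) with hN
  have hSN : (S : Subgroup G) ≤ N := by
    intro s hs
    rw [hN, Subgroup.mem_normalizer_iff]
    intro d
    constructor
    · intro hd
      have : s * d * s⁻¹ = d := by rw [hcomm s hs d hd.1]; group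
      rw [this]; exact hd
    · intro hd
      have h1 : s * d * s⁻¹ ∈ (S : Subgroup G) := hd.1
      have h2 : d ∈ (S : Subgroup G) := by
        have := (S : Subgroup G).mul_mem ((S : Subgroup G).mul_mem ((S : Subgroup G).inv_mem hs) h1) hs
        simpa [mul_assoc] using this
      have : s * d * s⁻¹ = d := by rw [hcomm s hs d h2]; group
      rw [this] at hd; exact hd
  have hTN : T ≤ N := by
    intro s hs
    rw [hN, Subgroup.mem_normalizer_iff]
    intro d
    constructor
    · intro hd
      have : s * d * s⁻¹ = d := by rw [hTcomm s hs d hd.2]; group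
      rw [this]; exact hd
    · intro hd
      have h1 : s * d * s⁻¹ ∈ T := hd.2
      have h2 : d ∈ T := by
        have := T.mul_mem (T.mul_mem (T.inv_mem hs) h1) hs
        simpa [mul_assoc] using this
      have : s * d * s⁻¹ = d := by rw [hTcomm s hs d h2]; group
      rw [this] at hd; exact hd
  -- key: D ≤ every conjugate of S
  have key : ∀ x : G, D ≤ MulAut.conj x • (S : Subgroup G) := by
    intro x
    set P : Subgroup G := MulAut.conj x • (S : Subgroup G) with hP
    have hPp : IsPGroup p P := by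
      rw [hP]
      exact S.2.map _
    -- Sylow of N
    let SN : Sylow p N := S.subtype hSN
    have hPN : IsPGroup p ((P ⊓ N).subgroupOf N) :=
      (hPp.to_le inf_le_left).comap_subtype
    obtain ⟨Q, hQ⟩ := hPN.exists_le_sylow
    obtain ⟨n, hn⟩ := MulAction.exists_smul_eq N Q SN
    -- conj n (P ⊓ N) ≤ S
    have hSNQ : (SN : Subgroup N) = MulAut.conj n • (Q : Subgroup N) := by
      have h := congrArg (fun R : Sylow p N => (R : Subgroup N)) hn
      simp only [Sylow.coe_subgroup_smul] at h
      exact h.symm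
    have h1 : ∀ y ∈ P ⊓ N, (n : G) * y * (n : G)⁻¹ ∈ (S : Subgroup G) := by
      intro y hy
      have hyN : y ∈ N := (Subgroup.mem_inf.mp hy).2
      have hyQ : (⟨y, hyN⟩ : N) ∈ (Q : Subgroup N) := hQ (by
        rw [Subgroup.mem_subgroupOf]; exact hy)
      have h2 : (MulAut.conj n) • (⟨y, hyN⟩ : N) ∈ (SN : Subgroup N) := by
        rw [hSNQ]
        exact Subgroup.smul_mem_pointwise_smul _ _ _ hyQ
      have h3 : (MulAut.conj n) • (⟨y, hyN⟩ : N) ∈ (S : Subgroup G).subgroupOf N := by
        have := h2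
        rwa [Sylow.coe_subtype] at this
      simpa [Subgroup.mem_subgroupOf, MulAut.smul_def] using h3
    -- P' = conj (n x) • S
    set P' : Subgroup G := MulAut.conj ((n : G) * x) • (S : Subgroup G) with hP'
    have hP'T : P' ⊓ T ≤ D := by
      intro y hy
      refine ⟨?_, hy.2⟩
      have hyN : y ∈ N := hTN hy.2
      have hy1 : (n : G)⁻¹ * y * (n : G) ∈ P := by
        have := (Subgroup.mem_inf.mp hy).1
        rw [hP', mem_conj_smul] at this
        rw [hP, mem_conj_smul]
        have e : x⁻¹ * ((n : G)⁻¹ * y * (n : G)) * x = ((n : G) * x)⁻¹ * y * ((n : G) * x) := by group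
        rw [e]; exact this
      have hy2 : (n : G)⁻¹ * y * (n : G) ∈ N :=
        N.mul_mem (N.mul_mem (N.inv_mem n.2) hyN) n.2
      have := h1 _ ⟨hy1, hy2⟩
      have e : (n : G) * ((n : G)⁻¹ * y * (n : G)) * (n : G)⁻¹ = y := by group
      rwa [e] at this
    -- cardinality
    have hcard : Nat.card ↥(P' ⊓ T) = Nat.card ↥((S : Subgroup G) ⊓ MulAut.conj (g₀⁻¹ * ((n : G) * x)) • (S : Subgroup G)) := by
      have e : MulAut.conj g₀⁻¹ • (P' ⊓ T) = (S : Subgroup G) ⊓ MulAut.conj (g₀⁻¹ * ((n : G) * x)) • (S : Subgroup G) := by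
        rw [Subgroup.smul_inf, hP', hT, ← mul_smul, ← mul_smul, ← map_mul, ← map_mul, inv_mul_cancel, map_one, one_smul,
          inf_comm]
      rw [← e]
      exact Nat.card_congr (Subgroup.equivSMul (MulAut.conj g₀⁻¹) (P' ⊓ T)).toEquiv
    have hmin := hg₀ (g₀⁻¹ * ((n : G) * x))
    rw [← hcard] at hmin
    have heq : P' ⊓ T = D := by
      apply Subgroup.eq_of_le_of_card_ge hP'T
      exact hmin
    -- D ≤ P'
    have hDP' : D ≤ P' := by rw [← heq]; exact inf_le_left
    intro d hd
    -- n⁻¹ d n ∈ D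
    have hnd : (n : G) * d * (n : G)⁻¹ ∈ D := by
      have hnN : (n : G) ∈ Subgroup.normalizer (D : Set G) := n.2
      rw [Subgroup.mem_normalizer_iff] at hnN
      exact (hnN d).mp hd
    have := hDP' hnd
    rw [hP', mem_conj_smul] at this
    rw [hP, mem_conj_smul]
    have e : ((n : G) * x)⁻¹ * ((n : G) * d * (n : G)⁻¹) * ((n : G) * x) = x⁻¹ * d * x := by group
    rwa [e] at this
  -- D ≤ normalCore S
  have hDcore : D ≤ (S : Subgroup G).normalCore := by
    intro d hd b
    have := key b⁻¹ hd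
    rw [mem_conj_smul] at this
    simpa using this
  have hcoreP : IsPGroup p (S : Subgroup G).normalCore := S.2.to_le (Subgroup.normalCore_le _)
  have hle : (S : Subgroup G).normalCore ≤ Cfsg.pCore p G := by
    unfold Cfsg.pCore
    exact le_sSup ⟨inferInstance, hcoreP⟩
  rw [hOp, le_bot_iff] at hle
  rw [hle, le_bot_iff] at hDcore
  exact hDcore

end Cfsg.Agent.S0060
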