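import Cfsg.Statements.S0062
import Mathlib.GroupTheory.IndexNormal
import Mathlib.GroupTheory.Nilpotent
import Mathlib.GroupTheory.PGroup

set_option autoImplicit false
open Cfsg

namespace Cfsg.Agent.S0062

open Nat

theorem solvable_of_card_prime_pow {X : Type*} [Group X] [Finite X] {p k : ℕ} (hp : p.Prime)
    (h : Nat.card X = p ^ k) : Group.IsSolvable X := by
  haveI : Fact p.Prime := ⟨hp⟩
  have : IsPGroup p X := IsPGroup.of_card h
  have : Group.IsNilpotent X := this.isNilpotent
  infer_instance

theorem solvable_of_normal {X : Type*} [Group X] (N : Subgroup X) [N.Normal]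
    (h1 : Group.IsSolvable N) (h2 : Group.IsSolvable (X ⧸ N)) : Group.IsSolvable X :=
  Group.isSolvable_of_ker_le_range N.subtype (QuotientGroup.mk' N) (by simp)

theorem index_normalCore_dvd_factorial {X : Type*} [Group X] [Finite X] (H : Subgroup X) :
    H.normalCore.index ∣ (H.index)! := by
  rw [Subgroup.normalCore_eq_ker, Subgroup.index_ker, Subgroup.index_eq_card, ← Nat.card_perm]
  exact Subgroup.card_subgroup_dvd_card (MulAction.toPermHom X (X ⧸ H)).range

theorem card_quotient_eq {X : Type*} [Group X] [Finite X] (N : Subgroup X) [N.Normal] :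
    Nat.card (X ⧸ N) = N.index := rfl

theorem solvable_of_card_six {X : Type*} [Group X] [Finite X] (h : Nat.card X = 6) :
    Group.IsSolvable X := by
  haveI : Fact (Nat.Prime 3) := ⟨Nat.prime_three⟩
  obtain ⟨H, hH⟩ := Sylow.exists_subgroup_card_pow_prime (G := X) 3 (n := 1) (by rw [h]; norm_num)
  have hidx : H.index = 2 := by
    have := H.card_mul_index
    rw [hH, h] at this
    omega
  haveI : H.Normal := Subgroup.normal_of_index_eq_two hidx
  apply solvable_of_normal H
  · exact solvable_of_card_prime_pow Nat.prime_three hH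
  · apply solvable_of_card_prime_pow Nat.prime_two (k := 1)
    rw [card_quotient_eq, hidx]; norm_num

theorem solvable_of_card_twelve {X : Type*} [Group X] [Finite X] (h : Nat.card X = 12) :
    Group.IsSolvable X := by
  haveI : Fact (Nat.Prime 2) := ⟨Nat.prime_two⟩
  obtain ⟨H, hH⟩ := Sylow.exists_subgroup_card_pow_prime (G := X) 2 (n := 2) (by rw [h]; norm_num)
  have hidx : H.index = 3 := by
    have := H.card_mul_index
    rw [hH, h] at this
    omega
  have h1 := index_normalCore_dvd_factorial H
  rw [hidx] at h1
  have h2 : Nat.card H.normalCore ∣ 2 ^ 2 := hH ▸ Subgroup.card_dvd_of_le H.normalCore_le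
  have h3 := H.normalCore.card_mul_index
  rw [h] at h3
  obtain ⟨j, hj, hcj⟩ := (Nat.dvd_prime_pow Nat.prime_two).mp h2
  have h1' : H.normalCore.index ∣ 6 := h1
  apply solvable_of_normal H.normalCore
  · exact solvable_of_card_prime_pow Nat.prime_two hcj
  · rw [hcj] at h3
    have hjcases : j = 0 ∨ j = 1 ∨ j = 2 := by omega
    rcases hjcases with rfl | rfl | rfl
    · exfalso
      have : H.normalCore.index = 12 := by omega
      rw [this] at h1'
      omega
    · have : H.normalCore.index = 6 := by omega
      apply solvable_of_card_six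
      rw [card_quotient_eq, this]
    · have : H.normalCore.index = 3 := by omega
      apply solvable_of_card_prime_pow Nat.prime_three (k := 1)
      rw [card_quotient_eq, this]; norm_num

theorem solvable_of_card_thirtysix {X : Type*} [Group X] [Finite X] (h : Nat.card X = 36) :
    Group.IsSolvable X := by
  haveI : Fact (Nat.Prime 3) := ⟨Nat.prime_three⟩
  obtain ⟨H, hH⟩ := Sylow.exists_subgroup_card_pow_prime (G := X) 3 (n := 2) (by rw [h]; norm_num)
  have hidx : H.index = 4 := by
    have := H.card_mul_index
    rw [hH, h] at this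
    omega
  have h1 := index_normalCore_dvd_factorial H
  rw [hidx] at h1
  have h2 : Nat.card H.normalCore ∣ 3 ^ 2 := hH ▸ Subgroup.card_dvd_of_le H.normalCore_le
  have h3 := H.normalCore.card_mul_index
  rw [h] at h3
  obtain ⟨j, hj, hcj⟩ := (Nat.dvd_prime_pow Nat.prime_three).mp h2
  have h1' : H.normalCore.index ∣ 24 := h1
  apply solvable_of_normal H.normalCore
  · exact solvable_of_card_prime_pow Nat.prime_three hcj
  · rw [hcj] at h3
    have hjcases : j = 0 ∨ j = 1 ∨ j = 2 := by omega
    rcases hjcases with rfl | rfl | rfl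
    · exfalso
      have : H.normalCore.index = 36 := by omega
      rw [this] at h1'
      omega
    · have : H.normalCore.index = 12 := by omega
      apply solvable_of_card_twelve
      rw [card_quotient_eq, this]
    · have : H.normalCore.index = 4 := by omega
      apply solvable_of_card_prime_pow Nat.prime_two (k := 2)
      rw [card_quotient_eq, this]; norm_num

theorem aux {G : Type*} [Group G] [Finite G] (p q : ℕ) (hp : p.Prime) (hq : q.Prime) (hlt : q < p)
    (hG : Nat.card G = p ^ 2 * q ^ 2) : Group.IsSolvable G := by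
  haveI : Fact p.Prime := ⟨hp⟩
  have hpq : p ≠ q := hlt.ne'
  have hcop : Nat.Coprime p q := (Nat.coprime_primes hp hq).mpr hpq
  let P : Sylow p G := default
  obtain ⟨k, hk⟩ := P.2.exists_card_eq
  have hk2 : k = 2 := by
    have h1 : p ^ 2 ∣ Nat.card (P : Subgroup G) :=
      P.pow_dvd_card_of_pow_dvd_card (by rw [hG]; exact dvd_mul_right _ _)
    rw [hk] at h1
    have h2 : 2 ≤ k := (Nat.pow_dvd_pow_iff_le_right hp.one_lt).mp h1
    have h3 : p ^ k ∣ p ^ 2 * q ^ 2 := by
      rw [← hk, ← hG]; exact Subgroup.card_subgroup_dvd_card _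
    have h4 : Nat.Coprime (p ^ k) (q ^ 2) := Nat.Coprime.pow k 2 hcop
    have h5 : p ^ k ∣ p ^ 2 := h4.dvd_of_dvd_mul_right h3
    have h6 : k ≤ 2 := (Nat.pow_dvd_pow_iff_le_right hp.one_lt).mp h5
    omega
  subst hk2
  have hidx : (P : Subgroup G).index = q ^ 2 := by
    have := (P : Subgroup G).card_mul_index
    rw [hk, hG] at this
    exact Nat.eq_of_mul_eq_mul_left (pow_pos hp.pos 2) this
  have hdvd : Nat.card (Sylow p G) ∣ q ^ 2 := hidx ▸ P.card_dvd_index
  have hmod : Nat.card (Sylow p G) ≡ 1 [MOD p] := card_sylow_modEq_one p G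
  obtain ⟨j, hj, hcj⟩ := (Nat.dvd_prime_pow hq).mp hdvd
  have hq2 := hq.two_le
  have hjcases : j = 0 ∨ j = 1 ∨ j = 2 := by omega
  rcases hjcases with rfl | rfl | rfl
  · -- normal Sylow
    rw [pow_zero] at hcj
    haveI : Subsingleton (Sylow p G) := (Nat.card_eq_one_iff_unique.mp hcj).1
    haveI : (P : Subgroup G).Normal := P.normal_of_subsingleton
    apply solvable_of_normal (P : Subgroup G)
    · exact solvable_of_card_prime_pow hp hk
    · apply solvable_of_card_prime_pow hq (k := 2)
      rw [card_quotient_eq, hidx]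
  · exfalso
    rw [pow_one] at hcj
    rw [hcj] at hmod
    have h1 : p ∣ q - 1 := (Nat.modEq_iff_dvd' (by omega)).mp hmod.symm
    have := Nat.le_of_dvd (by omega) h1
    omega
  · rw [hcj] at hmod
    have h1 : p ∣ q ^ 2 - 1 := (Nat.modEq_iff_dvd' (Nat.one_le_pow _ _ (by omega))).mp hmod.symm
    have e : q ^ 2 - 1 = (q - 1) * (q + 1) := by
      have : 1 ≤ q := by omega
      zify [this, Nat.one_le_pow 2 q (by omega)]
      ring
    rw [e] at h1
    rcases (Nat.Prime.dvd_mul hp).mp h1 with h | h
    · exfalso
      have := Nat.le_of_dvd (by omega) h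
      omega
    · have hle := Nat.le_of_dvd (by omega) h
      have hpq1 : p = q + 1 := by omega
      have hq2' : q = 2 := by
        rcases Nat.Prime.eq_two_or_odd hq with h2 | hodd
        · exact h2
        · exfalso
          have hpeven : 2 ∣ p := by omega
          have := (Nat.prime_dvd_prime_iff_eq Nat.prime_two hp).mp hpeven
          omega
      subst hq2'
      have hp3 : p = 3 := by omega
      subst hp3
      apply solvable_of_card_thirtysix
      rw [hG]; norm_num

/-- A finite group of order p^2 * q^2 with p and q prime is solvable. -/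
theorem result {G : Type*} [Group G] [Finite G] (p q : ℕ) (hp : p.Prime) (hq : q.Prime)
    (hG : Nat.card G = p ^ 2 * q ^ 2) : Group.IsSolvable G := by
  rcases lt_trichotomy p q with h | h | h
  · exact aux q p hq hp h (by rw [hG, mul_comm])
  · subst h
    apply solvable_of_card_prime_pow hp (k := 4)
    rw [hG]; ring
  · exact aux p q hp hq h hG

end Cfsg.Agent.S0062
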