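import Cfsg.Statements.S0063
import Mathlib.GroupTheory.PGroup
import Mathlib.GroupTheory.SpecificGroups.Cyclic

set_option autoImplicit false
open Cfsg

namespace Cfsg.Agent.S0063

theorem aux (p : ℕ) [hp : Fact p.Prime] : ∀ (m : ℕ), 1 < m → ∀ (G : Type*) [Group G] [Finite G],
    Nat.card G = p ^ m → Group.nilpotencyClass G ≤ m - 1 := by
  intro m
  induction m using Nat.strong_induction_on with
  | _ m ih =>
    intro hm G _ _ hG
    have hpG : IsPGroup p G := IsPGroup.of_card hG
    have hnil : Group.IsNilpotent G := hpG.isNilpotent
    have hnt : Nontrivial G := by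
      rw [← Finite.one_lt_card_iff_nontrivial, hG]
      exact Nat.one_lt_pow (by omega) hp.out.one_lt
    have hcnt : Nontrivial (Subgroup.center G) := hpG.center_nontrivial
    have hpQ : IsPGroup p (G ⧸ Subgroup.center G) := hpG.to_quotient _
    obtain ⟨k, hk⟩ := hpQ.exists_card_eq
    have hpZ : IsPGroup p (Subgroup.center G) := hpG.to_subgroup _
    obtain ⟨j, hj⟩ := hpZ.exists_card_eq
    have hj1 : 1 ≤ j := by
      rcases Nat.eq_zero_or_pos j with h0 | h0
      · rw [h0, pow_zero] at hj
        have := Finite.one_lt_card_iff_nontrivial.mpr hcnt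
        omega
      · exact h0
    have hmul := Subgroup.card_eq_card_quotient_mul_card_subgroup (Subgroup.center G)
    rw [hG, hk, hj, ← pow_add] at hmul
    have hmkj : m = k + j := Nat.pow_right_injective hp.out.two_le hmul
    have hclass := Group.nilpotencyClass_eq_quotient_center_plus_one (G := G)
    by_cases hk2 : 1 < k
    · have := ih k (by omega) hk2 (G ⧸ Subgroup.center G) hk
      omega
    · have hcyc : IsCyclic (G ⧸ Subgroup.center G) := by
        apply isCyclic_of_card_dvd_prime (p := p)
        rw [hk]
        have : k = 0 ∨ k = 1 := by omega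
        rcases this with h | h <;> simp [h]
      have hcomm : IsMulCommutative G := isMulCommutative_of_isCyclic_quotient_center_self G
      have := Group.IsNilpotent.nilpotencyClass_le_one_iff.mpr hcomm
      omega

/-- A finite group of prime-power order p ^ m with m > 1 is nilpotent of class at most m - 1. -/
theorem result {G : Type*} [Group G] [Finite G] (p m : ℕ) [Fact p.Prime]
    (hG : Nat.card G = p ^ m) (hm : 1 < m) : Group.nilpotencyClass G ≤ m - 1 := by
  exact aux p m hm G hG

end Cfsg.Agent.S0063
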