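import Cfsg.Statements.S0065

set_option autoImplicit false
open Cfsg

namespace Cfsg.Agent.S0065

open scoped commutatorElement

/-- A nontrivial normal subgroup of a nilpotent group intersects the centre nontrivially. -/
theorem result {G : Type*} [Group G] [Finite G] [Group.IsNilpotent G]
    (N : Subgroup G) [N.Normal] (hN : N ≠ ⊥) : N ⊓ Subgroup.center G ≠ ⊥ := by
  classical
  obtain ⟨n, hn⟩ := Group.IsNilpotent.nilpotent G
  have hex : ∃ m, N ⊓ Subgroup.upperCentralSeries G m ≠ ⊥ := ⟨n, by rw [hn, inf_top_eq]; exact hN⟩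
  have hm := Nat.find_spec hex
  have hmin := fun k => Nat.find_min hex (m := k)
  set m := Nat.find hex with hm_def
  rcases Nat.eq_zero_or_eq_succ_pred m with h0 | hs
  · rw [h0, Subgroup.upperCentralSeries_zero, inf_bot_eq] at hm
    exact absurd rfl hm
  · set k := m.pred with hk_def
    have hk : N ⊓ Subgroup.upperCentralSeries G k = ⊥ := by
      have := hmin k (by omega)
      simpa using this
    rw [hs] at hm
    obtain ⟨⟨x, hxNZ⟩, hx1⟩ := (Subgroup.ne_bot_iff_exists_ne_one).mp hm
    have hx1' : x ≠ 1 := fun h => hx1 (Subtype.ext h)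
    have hxN : x ∈ N := (Subgroup.mem_inf.mp hxNZ).1
    have hxZ : x ∈ Subgroup.upperCentralSeries G k.succ := (Subgroup.mem_inf.mp hxNZ).2
    intro hbot
    have hxc : x ∈ N ⊓ Subgroup.center G := by
      refine Subgroup.mem_inf.mpr ⟨hxN, ?_⟩
      rw [Subgroup.mem_center_iff]
      intro y
      have h1 : ⁅x, y⁆ ∈ Subgroup.upperCentralSeries G k :=
        Subgroup.mem_upperCentralSeries_succ_iff.mp hxZ y
      have h2 : ⁅x, y⁆ ∈ N := by
        rw [commutatorElement_def]
        have : x * y * x⁻¹ * y⁻¹ = x * (y * x⁻¹ * y⁻¹) := by group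
        rw [this]
        exact N.mul_mem hxN (Subgroup.Normal.conj_mem inferInstance _ (N.inv_mem hxN) y)
      have h3 : ⁅x, y⁆ ∈ N ⊓ Subgroup.upperCentralSeries G k := ⟨h2, h1⟩
      rw [hk, Subgroup.mem_bot, commutatorElement_eq_one_iff_mul_comm] at h3
      exact h3.symm
    rw [hbot, Subgroup.mem_bot] at hxc
    exact hx1' hxc

end Cfsg.Agent.S0065
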