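import Cfsg.Statements.S0067
import Cfsg.Agent.Lib.Helper91.Baer
import Cfsg.Agent.Lib.Helper91.WielandtCriterion
import Cfsg.Agent.Lib.Helper22.Fitting

set_option autoImplicit false
open Pointwise
open Cfsg

namespace Cfsg.Agent.S0067

/-- If the join of a subgroup A with each of its conjugates is nilpotent, then A is subnormal in the finite group and contained in the Fitting subgroup. -/
theorem result {G : Type*} [Group G] [Finite G] (A : Subgroup G)
    (h : ∀ g : G, Group.IsNilpotent (A ⊔ MulAut.conj g • A : Subgroup G)) : A.IsSubnormal ∧ A ≤ Cfsg.fittingSubgroup G := by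
  have hA1 : A ⊔ MulAut.conj (1 : G) • A = A := by
    rw [map_one, one_smul, sup_idem]
  have hAnil : Group.IsNilpotent A := by
    have := h 1
    rwa [hA1] at this
  have hAsub : A.IsSubnormal := by
    apply Cfsg.Agent.Lib.Helper91.wielandt_criterion
    intro g
    haveI := h g
    exact Cfsg.Agent.Lib.Helper91.isSubnormal_of_isNilpotent (h g) _
  refine ⟨hAsub, ?_⟩
  -- the Sylow subgroups of A lie in F(G)
  have hsyl : ∀ (q : ℕ) [Fact q.Prime] (P : Sylow q A),
      (P : Subgroup A).map A.subtype ≤ Cfsg.fittingSubgroup G := by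
    intro q _ P
    have hPn : (P : Subgroup A).Normal := inferInstance
    have hPsub : ((P : Subgroup A).map A.subtype).IsSubnormal := hPn.isSubnormal.trans' hAsub
    have hPp : IsPGroup q ((P : Subgroup A).map A.subtype) := P.isPGroup'.map _
    obtain ⟨N, hNn, hNp, hPN⟩ :=
      Cfsg.Agent.Lib.Helper91.exists_normal_isPGroup_ge_of_isSubnormal hPsub hPp
    exact hPN.trans (Cfsg.Agent.Lib.Helper22.le_fittingSubgroup hNn hNp.isNilpotent)
  -- cardinality argument
  set B : Subgroup G := A ⊓ Cfsg.fittingSubgroup G with hB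
  have hBA : B ≤ A := inf_le_left
  have hdvd : Nat.card A ∣ Nat.card B := by
    rw [← Nat.factorization_prime_le_iff_dvd Nat.card_pos.ne' Nat.card_pos.ne']
    intro q hq
    haveI : Fact q.Prime := ⟨hq⟩
    obtain ⟨P⟩ : Nonempty (Sylow q A) := inferInstance
    have h1 : Nat.card ((P : Subgroup A).map A.subtype) = q ^ (Nat.card A).factorization q := by
      rw [Subgroup.card_map_of_injective A.subtype_injective]
      exact P.card_eq_multiplicity
    have h2 : (P : Subgroup A).map A.subtype ≤ B :=
      le_inf (Subgroup.map_subtype_le _) (hsyl q P)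
    have h3 : q ^ (Nat.card A).factorization q ∣ Nat.card B := by
      rw [← h1]; exact Subgroup.card_dvd_of_le h2
    exact (hq.pow_dvd_iff_le_factorization Nat.card_pos.ne').mp h3
  have hBeq : B = A :=
    Subgroup.eq_of_le_of_card_ge hBA (Nat.le_of_dvd Nat.card_pos hdvd)
  rw [← hBeq]
  exact inf_le_right

end Cfsg.Agent.S0067
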