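import Cfsg.Statements.S0069
import Cfsg.Agent.S0040
import Cfsg.Agent.S0041
import Cfsg.Agent.S0068
import Cfsg.Agent.Lib.Helper24.SylowInv
import Cfsg.Agent.Lib.Helper21.SupNormalizer

set_option autoImplicit false
set_option linter.style.haveILetI false
open Cfsg

namespace Cfsg.Agent.S0069

/-- In a Frobenius complement, an element of prime order normalizing a subgroup of (another)
prime order centralizes it. -/
theorem commute_of_pq {G : Type*} [Group G] [Finite G] (K H : Subgroup G) [K.Normal]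
    (hK : K ≠ ⊥) (hfpf : ∀ h ∈ H, h ≠ 1 → K ⊓ Subgroup.centralizer {h} = ⊥)
    {p q : ℕ} (hp : p.Prime) (hq : q.Prime) (hpq : p ≠ q) {x y : G} (hx : x ∈ H) (hy : y ∈ H)
    (hxo : orderOf x = p) (hyo : orderOf y = q) (hn : x * y * x⁻¹ ∈ Subgroup.zpowers y) :
    x * y = y * x := by
  classical
  haveI := Fact.mk hp
  haveI := Fact.mk hq
  have hx1 : x ≠ 1 := by
    rintro rfl
    rw [orderOf_one] at hxo
    exact hp.one_lt.ne hxo
  have hy1 : y ≠ 1 := by
    rintro rfl
    rw [orderOf_one] at hyo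
    exact hq.one_lt.ne hyo
  have hXN : Subgroup.zpowers x ≤ Subgroup.normalizer (Subgroup.zpowers y : Set G) := by
    rw [Subgroup.zpowers_le]
    apply Subgroup.mem_normalizer_fintype
    intro n hn'
    obtain ⟨k, rfl⟩ := Subgroup.mem_zpowers_iff.mp hn'
    have : x * y ^ k * x⁻¹ = (x * y * x⁻¹) ^ k := by simp [conj_zpow]
    rw [this]
    exact Subgroup.zpow_mem _ hn k
  obtain ⟨A, hAdef⟩ : ∃ A : Subgroup G, A = Subgroup.zpowers y ⊔ Subgroup.zpowers x := ⟨_, rfl⟩
  have hYA : Subgroup.zpowers y ≤ A := hAdef ▸ le_sup_left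
  have hXA : Subgroup.zpowers x ≤ A := hAdef ▸ le_sup_right
  have hAH : A ≤ H := by
    rw [hAdef]
    exact sup_le ((Subgroup.zpowers_le).mpr hy) ((Subgroup.zpowers_le).mpr hx)
  have hsolvZ : ∀ g : G, Group.IsSolvable (Subgroup.zpowers g) := by
    intro g
    refine Group.isSolvable_of_comm (fun a b => ?_)
    obtain ⟨a, ha⟩ := a
    obtain ⟨b, hb⟩ := b
    obtain ⟨i, rfl⟩ := Subgroup.mem_zpowers_iff.mp ha
    obtain ⟨j, rfl⟩ := Subgroup.mem_zpowers_iff.mp hb
    apply Subtype.ext
    exact (Commute.zpow_zpow (Commute.refl g) i j).eq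
  have hAs : Group.IsSolvable A := by
    rw [hAdef]
    exact Cfsg.Agent.Lib.Helper21.sup_isSolvable hXN (hsolvZ y) (hsolvZ x)
  have hAcard : Nat.card A = q * p := by
    have h1 : Nat.card A ∣ q * p := by
      have := Cfsg.Agent.Lib.Helper21.card_sup_dvd hXN
      rw [Nat.card_zpowers, Nat.card_zpowers, hxo, hyo] at this
      rw [hAdef]
      exact this
    have h2 : q ∣ Nat.card A := by
      have := Subgroup.card_dvd_of_le hYA
      rwa [Nat.card_zpowers, hyo] at this
    have h3 : p ∣ Nat.card A := by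
      have := Subgroup.card_dvd_of_le hXA
      rwa [Nat.card_zpowers, hxo] at this
    have hcop : Nat.Coprime q p := (Nat.coprime_primes hq hp).mpr (Ne.symm hpq)
    exact Nat.dvd_antisymm h1 (hcop.mul_dvd_of_dvd_of_dvd h2 h3)
  have hKp : ¬ p ∣ Nat.card K :=
    Cfsg.Agent.S0040.not_dvd_card_of_fpf K x (hxo ▸ pow_orderOf_eq_one x) (hfpf x hx hx1)
  have hKq : ¬ q ∣ Nat.card K :=
    Cfsg.Agent.S0040.not_dvd_card_of_fpf K y (hyo ▸ pow_orderOf_eq_one y) (hfpf y hy hy1)
  have hcop : (Nat.card A).Coprime (Nat.card K) := by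
    rw [hAcard]
    exact Nat.Coprime.mul_left ((Nat.Prime.coprime_iff_not_dvd hq).mpr hKq)
      ((Nat.Prime.coprime_iff_not_dvd hp).mpr hKp)
  have hK1 : Nat.card K ≠ 1 := fun h => hK (Subgroup.card_eq_one.mp h)
  obtain ⟨r, hrdef⟩ : ∃ r : ℕ, r = (Nat.card K).minFac := ⟨_, rfl⟩
  have hr : r.Prime := hrdef ▸ Nat.minFac_prime hK1
  haveI := Fact.mk hr
  have hrK : r ∣ Nat.card K := hrdef ▸ Nat.minFac_dvd _
  obtain ⟨R, hR⟩ := Cfsg.Agent.Lib.Helper24.exists_invariant_sylow (p := r) A K
    Subgroup.le_normalizer_of_normal hcop (Or.inl hAs)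
  obtain ⟨R', hR'def⟩ : ∃ R' : Subgroup G, R' = (R : Subgroup K).map K.subtype := ⟨_, rfl⟩
  rw [← hR'def] at hR
  have hR'K : R' ≤ K := by
    rw [hR'def]; exact Subgroup.map_subtype_le _
  obtain ⟨V, hVdef⟩ : ∃ V : Subgroup G, V = R' ⊓ Subgroup.centralizer (R' : Set G) := ⟨_, rfl⟩
  have hVK : V ≤ K := by
    rw [hVdef]; exact inf_le_left.trans hR'K
  haveI hVc : IsMulCommutative V := by
    have hV' : ∀ g ∈ V, g ∈ R' ∧ g ∈ Subgroup.centralizer (R' : Set G) := by
      intro g hg
      rw [hVdef] at hg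
      exact hg
    refine ⟨⟨fun a b => Subtype.ext ?_⟩⟩
    have ha : (a : G) ∈ R' := (hV' a a.2).1
    have hb : (b : G) ∈ Subgroup.centralizer (R' : Set G) := (hV' b b.2).2
    exact Subgroup.mem_centralizer_iff.mp hb a ha
  have hVne : V ≠ ⊥ := by
    have hRne : (R : Subgroup K) ≠ ⊥ := R.ne_bot_of_dvd_card hrK
    haveI : Nontrivial (R : Subgroup K) := (Subgroup.nontrivial_iff_ne_bot _).mpr hRne
    have hZnt : Nontrivial (Subgroup.center (R : Subgroup K)) := R.2.center_nontrivial
    obtain ⟨z, hz⟩ := exists_ne (1 : Subgroup.center (R : Subgroup K))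
    have hzV : (((z : (R : Subgroup K)) : K) : G) ∈ V := by
      rw [hVdef, Subgroup.mem_inf]
      constructor
      · rw [hR'def]
        exact Subgroup.mem_map.mpr ⟨((z : (R : Subgroup K)) : K), (z : (R : Subgroup K)).2, rfl⟩
      · rw [Subgroup.mem_centralizer_iff]
        intro g hg
        rw [hR'def] at hg
        obtain ⟨w, hw, rfl⟩ := Subgroup.mem_map.mp hg
        have h := Subgroup.mem_center_iff.mp z.2 ⟨w, hw⟩
        have h2 := congrArg (fun u : (R : Subgroup K) => ((u : K) : G)) h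
        simpa using h2
    intro hbot
    rw [hbot, Subgroup.mem_bot] at hzV
    apply hz
    apply Subtype.ext
    apply Subtype.ext
    apply Subtype.ext
    exact hzV
  have hAV : A ≤ Subgroup.normalizer (V : Set G) := by
    intro a ha
    have haN := hR ha
    have hainvN := (Subgroup.normalizer (R' : Set G)).inv_mem haN
    apply Subgroup.mem_normalizer_fintype
    intro n hn'
    have hn'' : n ∈ V := hn'
    rw [hVdef, Subgroup.mem_inf] at hn''
    show a * n * a⁻¹ ∈ V
    rw [hVdef, Subgroup.mem_inf]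
    constructor
    · exact (Subgroup.mem_normalizer_iff.mp haN n).mp hn''.1
    · rw [Subgroup.mem_centralizer_iff]
      intro g hg
      have hg' : a⁻¹ * g * a⁻¹⁻¹ ∈ R' := (Subgroup.mem_normalizer_iff.mp hainvN g).mp hg
      have hc := Subgroup.mem_centralizer_iff.mp hn''.2 _ hg'
      calc g * (a * n * a⁻¹) = a * ((a⁻¹ * g * a⁻¹⁻¹) * n) * a⁻¹ := by group
        _ = a * (n * (a⁻¹ * g * a⁻¹⁻¹)) * a⁻¹ := by rw [hc]
        _ = a * n * a⁻¹ * g := by group
  have hfpf' : ∀ a ∈ A, a ≠ 1 → V ⊓ Subgroup.centralizer {a} = ⊥ := by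
    intro a ha ha1
    rw [eq_bot_iff, ← hfpf a (hAH ha) ha1]
    exact inf_le_inf_right _ hVK
  have hcyc : IsCyclic A := Cfsg.Agent.S0041.result A V hVne hAV hfpf'
    (Or.inr ⟨q, p, hq, hp, hAcard⟩)
  haveI := hcyc
  have hxy := (inferInstance : IsMulCommutative A).is_comm.comm
    (⟨x, hXA (Subgroup.mem_zpowers x)⟩ : A) ⟨y, hYA (Subgroup.mem_zpowers y)⟩
  exact congrArg Subtype.val hxy

/-- An automorphism of order dividing `p` of an abelian `q`-group (`p ≠ q`) which fixes all
elements of order dividing `q` is trivial. -/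
theorem commute_of_commute_omega {G : Type*} [Group G] {p q : ℕ} (hp : p.Prime) (hq : q.Prime)
    (hpq : p ≠ q) (Q : Subgroup G)
    (hQc : ∀ a ∈ Q, ∀ b ∈ Q, a * b = b * a) (hQq : ∀ a ∈ Q, ∃ k : ℕ, a ^ (q ^ k) = 1)
    (x : G) (hxp : x ^ p = 1) (hxQ : ∀ a ∈ Q, x * a * x⁻¹ ∈ Q)
    (hom : ∀ a ∈ Q, a ^ q = 1 → x * a = a * x) : ∀ a ∈ Q, x * a = a * x := by
  have key : ∀ k : ℕ, ∀ a ∈ Q, a ^ (q ^ k) = 1 → x * a = a * x := by
    intro k
    induction k with
    | zero =>
      intro a _ ha
      rw [pow_zero, pow_one] at ha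
      rw [ha]; simp
    | succ k ih =>
      intro a haQ ha
      have h1 : x * a ^ q = a ^ q * x := by
        apply ih (a ^ q) (pow_mem haQ q)
        rw [← pow_mul, ← pow_succ']
        exact ha
      obtain ⟨c, hc⟩ : ∃ c, c = x * a * x⁻¹ * a⁻¹ := ⟨_, rfl⟩
      have hcQ : c ∈ Q := hc ▸ mul_mem (hxQ a haQ) (inv_mem haQ)
      have hcq : c ^ q = 1 := by
        have hcm : Commute (x * a * x⁻¹) a⁻¹ := hQc _ (hxQ a haQ) _ (inv_mem haQ)
        rw [hc, hcm.mul_pow, conj_pow, inv_pow, h1]
        group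
      have hxc : Commute x c := hom c hcQ hcq
      have hiter : ∀ n : ℕ, x ^ n * a * (x ^ n)⁻¹ = c ^ n * a := by
        intro n
        induction n with
        | zero => simp
        | succ n ihn =>
          have hxcn : x * c ^ n = c ^ n * x := (hxc.pow_right n).eq
          calc x ^ (n + 1) * a * (x ^ (n + 1))⁻¹ = x * (x ^ n * a * (x ^ n)⁻¹) * x⁻¹ := by
                rw [pow_succ']; group
            _ = x * (c ^ n * a) * x⁻¹ := by rw [ihn]
            _ = (x * c ^ n) * a * x⁻¹ := by group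
            _ = c ^ n * (x * a * x⁻¹ * a⁻¹) * a := by rw [hxcn]; group
            _ = c ^ (n + 1) * a := by rw [← hc, pow_succ]
      have hcp : c ^ p = 1 := by
        have := hiter p
        rw [hxp] at this
        simpa using this.symm
      have hc1 : c = 1 := by
        have h2 := orderOf_dvd_of_pow_eq_one hcp
        have h3 := orderOf_dvd_of_pow_eq_one hcq
        have hcop : Nat.Coprime p q := (Nat.coprime_primes hp hq).mpr hpq
        have := Nat.eq_one_of_dvd_coprimes hcop h2 h3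
        exact orderOf_eq_one_iff.mp this
      rw [hc1] at hc
      calc x * a = (x * a * x⁻¹ * a⁻¹) * a * x := by group
        _ = a * x := by rw [← hc]; group
  intro a ha
  obtain ⟨k, hk⟩ := hQq a ha
  exact key k a ha hk

/-- An element normalizing a cyclic subgroup normalizes each of its cyclic subgroups. -/
theorem conj_mem_zpowers_of_cyclic {G : Type*} [Group G] (Q : Subgroup G) [hQ : IsCyclic Q]
    (x : G) (hxQ : ∀ a ∈ Q, x * a * x⁻¹ ∈ Q) : ∀ z ∈ Q, x * z * x⁻¹ ∈ Subgroup.zpowers z := by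
  obtain ⟨g, hg⟩ := IsCyclic.exists_generator (α := Q)
  intro z hz
  obtain ⟨k, hk⟩ := Subgroup.mem_zpowers_iff.mp (hg ⟨z, hz⟩)
  obtain ⟨r, hr⟩ := Subgroup.mem_zpowers_iff.mp (hg ⟨x * (g : G) * x⁻¹, hxQ g g.2⟩)
  have hk' : (g : G) ^ k = z := by
    have := congrArg Subtype.val hk
    simpa using this
  have hr' : (g : G) ^ r = x * (g : G) * x⁻¹ := by
    have := congrArg Subtype.val hr
    simpa using this
  rw [Subgroup.mem_zpowers_iff]
  refine ⟨r, ?_⟩
  rw [← hk', ← conj_zpow, ← hr', ← zpow_mul, ← zpow_mul, mul_comm]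

/-- The odd order case. -/
theorem odd_case {G : Type*} [Group G] [Finite G] (K H : Subgroup G) [K.Normal]
    (hc : Subgroup.IsComplement' K H) (hK : K ≠ ⊥) (hH : H ≠ ⊥)
    (hfpf : ∀ h ∈ H, h ≠ 1 → K ⊓ Subgroup.centralizer {h} = ⊥) (hodd : ¬ 2 ∣ Nat.card H) :
    Subgroup.center H ≠ ⊥ := by
  classical
  have hn1 : Nat.card H ≠ 1 := fun h => hH (Subgroup.card_eq_one.mp h)
  obtain ⟨p, hp⟩ : ∃ p : ℕ, (Nat.card H).minFac = p := ⟨_, rfl⟩
  have hpp : p.Prime := hp ▸ Nat.minFac_prime hn1
  haveI : Fact p.Prime := ⟨hpp⟩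
  have hpdvd : p ∣ Nat.card H := hp ▸ Nat.minFac_dvd _
  -- all Sylow subgroups of `H` are cyclic
  have hcyc : ∀ (q : ℕ) [Fact q.Prime] (S : Sylow q H), IsCyclic S := by
    intro q _ S
    rcases Cfsg.Agent.S0040.result K H hc hK hfpf q S with h | ⟨n, ⟨e⟩⟩
    · exact h
    · exfalso
      have h1 : Nat.card S = 4 * 2 ^ n := by
        rw [Nat.card_congr e.toEquiv, Nat.card_eq_fintype_card, QuaternionGroup.card]
      have h2 : Nat.card S ∣ Nat.card H := Subgroup.card_subgroup_dvd_card _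
      apply hodd
      exact dvd_trans ⟨2 * 2 ^ n, by rw [h1]; ring⟩ h2
  obtain ⟨P⟩ : Nonempty (Sylow p H) := inferInstance
  have hPc : IsCyclic P := hcyc p P
  have hcompl := IsCyclic.isComplement' hp hPc
  obtain ⟨M, hMdef⟩ : ∃ M : Subgroup H,
      M = (MonoidHom.transferSylow P (hPc.normalizer_le_centralizer hp)).ker := ⟨_, rfl⟩
  rw [← hMdef] at hcompl
  haveI hMn : M.Normal := by rw [hMdef]; infer_instance
  have hMp : ¬ p ∣ Nat.card M := by
    rw [hMdef]; exact MonoidHom.not_dvd_card_ker_transferSylow P _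
  -- an element of order `p`
  obtain ⟨x0, hx0⟩ := exists_prime_orderOf_dvd_card' (G := P) p (P.dvd_card_of_dvd_card hpdvd)
  obtain ⟨x, hxdef⟩ : ∃ x : H, x = (x0 : H) := ⟨_, rfl⟩
  have hxP : x ∈ (P : Subgroup H) := hxdef ▸ x0.2
  have hxo : orderOf x = p := by rw [hxdef, Subgroup.orderOf_coe, hx0]
  have hxoG : orderOf (x : G) = p := by rw [Subgroup.orderOf_coe, hxo]
  have hx1 : x ≠ 1 := by
    rintro h
    rw [h, orderOf_one] at hxo
    exact hpp.one_lt.ne hxo
  have hxp : x ^ p = 1 := hxo ▸ pow_orderOf_eq_one x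
  -- main claim
  have hMC : M ≤ Subgroup.centralizer {x} := by
    obtain ⟨A, hAdef⟩ : ∃ A : Subgroup H, A = Subgroup.zpowers x := ⟨_, rfl⟩
    have hAs : Group.IsSolvable A := by
      rw [hAdef]
      refine Group.isSolvable_of_comm (fun a b => ?_)
      obtain ⟨a, ha⟩ := a
      obtain ⟨b, hb⟩ := b
      obtain ⟨i, rfl⟩ := Subgroup.mem_zpowers_iff.mp ha
      obtain ⟨j, rfl⟩ := Subgroup.mem_zpowers_iff.mp hb
      apply Subtype.ext
      exact (Commute.zpow_zpow (Commute.refl x) i j).eq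
    have hAcard : Nat.card A = p := by rw [hAdef, Nat.card_zpowers, hxo]
    have hcop : (Nat.card A).Coprime (Nat.card M) := by
      rw [hAcard]; exact (Nat.Prime.coprime_iff_not_dvd hpp).mpr hMp
    have hxA : x ∈ A := hAdef ▸ Subgroup.mem_zpowers x
    -- for each prime `q` a Sylow `q`-subgroup of `M` centralized by `x`
    have hsyl : ∀ (q : ℕ) [Fact q.Prime], ∃ Q₀ : Sylow q M,
        (Q₀ : Subgroup M) ≤ (Subgroup.centralizer {x}).subgroupOf M := by
      intro q hqf
      have hq : q.Prime := hqf.out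
      obtain ⟨Q₀, hQ₀⟩ := Cfsg.Agent.Lib.Helper24.exists_invariant_sylow (p := q) A M
        Subgroup.le_normalizer_of_normal hcop (Or.inl hAs)
      refine ⟨Q₀, ?_⟩
      obtain ⟨Q, hQdef⟩ : ∃ Q : Subgroup H, Q = (Q₀ : Subgroup M).map M.subtype := ⟨_, rfl⟩
      rw [← hQdef] at hQ₀
      have hQq : IsPGroup q Q := by rw [hQdef]; exact Q₀.2.map _
      have hQM : Q ≤ M := by rw [hQdef]; exact Subgroup.map_subtype_le _
      suffices hQC : Q ≤ Subgroup.centralizer {x} by
        intro a ha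
        rw [Subgroup.mem_subgroupOf]
        apply hQC
        rw [hQdef]
        exact Subgroup.mem_map.mpr ⟨a, ha, rfl⟩
      by_cases hqp : q = p
      · -- then `Q` is trivial
        have hQ1 : Q = ⊥ := by
          rw [← Subgroup.card_eq_one]
          obtain ⟨k, hk⟩ := hQq.exists_card_eq
          rcases Nat.eq_zero_or_pos k with h0 | h0
          · rw [hk, h0, pow_zero]
          · exfalso
            apply hMp
            have h1 : q ∣ Nat.card Q := by rw [hk]; exact dvd_pow_self q h0.ne'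
            exact hqp ▸ h1.trans (Subgroup.card_dvd_of_le hQM)
        rw [hQ1]; exact bot_le
      · obtain ⟨S, hS⟩ := hQq.exists_le_sylow
        haveI : IsCyclic S := hcyc q S
        haveI hQcyc : IsCyclic Q := Subgroup.isCyclic_of_le hS
        have hxQ : ∀ a ∈ Q, x * a * x⁻¹ ∈ Q := by
          intro a ha
          exact (Subgroup.mem_normalizer_iff.mp (hQ₀ hxA) a).mp ha
        have hz := conj_mem_zpowers_of_cyclic Q x hxQ
        have hQcomm : ∀ a ∈ Q, ∀ b ∈ Q, a * b = b * a := by
          intro a ha b hb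
          have := (inferInstance : IsMulCommutative Q).is_comm.comm ⟨a, ha⟩ ⟨b, hb⟩
          exact congrArg Subtype.val this
        have hQpow : ∀ a ∈ Q, ∃ k : ℕ, a ^ (q ^ k) = 1 := by
          intro a ha
          obtain ⟨k, hk⟩ := hQq ⟨a, ha⟩
          exact ⟨k, by simpa using congrArg Subtype.val hk⟩
        have hom : ∀ a ∈ Q, a ^ q = 1 → x * a = a * x := by
          intro a ha haq
          by_cases ha1 : a = 1
          · rw [ha1]; simp
          · have hao : orderOf a = q := orderOf_eq_prime haq ha1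
            have haoG : orderOf (a : G) = q := by rw [Subgroup.orderOf_coe, hao]
            have hnG : (x : G) * (a : G) * (x : G)⁻¹ ∈ Subgroup.zpowers (a : G) := by
              obtain ⟨k, hk⟩ := Subgroup.mem_zpowers_iff.mp (hz a ha)
              rw [Subgroup.mem_zpowers_iff]
              refine ⟨k, ?_⟩
              have := congrArg Subtype.val hk
              simpa using this
            have := commute_of_pq K H hK hfpf hpp hq (Ne.symm hqp) x.2 a.2 hxoG haoG hnG
            exact Subtype.ext this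
        have hall := commute_of_commute_omega hpp hq (Ne.symm hqp) Q hQcomm hQpow x hxp hxQ hom
        intro a ha
        rw [Subgroup.mem_centralizer_singleton_iff]
        exact (hall a ha).symm
    -- counting
    have hdvd : Nat.card M ∣ Nat.card ((Subgroup.centralizer {x}).subgroupOf M) := by
      rw [Nat.dvd_iff_prime_pow_dvd_dvd]
      intro q k hq hqk
      haveI : Fact q.Prime := ⟨hq⟩
      obtain ⟨Q₀, hQ₀⟩ := hsyl q
      have h1 : Nat.card (Q₀ : Subgroup M) = q ^ (Nat.card M).factorization q :=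
        Q₀.card_eq_multiplicity
      have h2 : k ≤ (Nat.card M).factorization q :=
        (hq.pow_dvd_iff_le_factorization Nat.card_pos.ne').mp hqk
      calc q ^ k ∣ q ^ (Nat.card M).factorization q := pow_dvd_pow q h2
        _ = Nat.card (Q₀ : Subgroup M) := h1.symm
        _ ∣ _ := Subgroup.card_dvd_of_le hQ₀
    have htop : (Subgroup.centralizer {x}).subgroupOf M = ⊤ :=
      Subgroup.eq_top_of_le_card _ (Nat.le_of_dvd Nat.card_pos hdvd)
    exact Subgroup.subgroupOf_eq_top.mp htop
  -- `x` is central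
  have hxZ : x ∈ Subgroup.center H := by
    rw [Subgroup.mem_center_iff]
    intro g
    obtain ⟨⟨m, u⟩, hmu⟩ := hcompl.2 g
    have hmu' : (m : H) * (u : H) = g := hmu
    have h1 : (m : H) * x = x * (m : H) :=
      Subgroup.mem_centralizer_singleton_iff.mp (hMC m.2)
    have h2 : (u : H) * x = x * (u : H) := by
      haveI := hPc
      have := (inferInstance : IsMulCommutative (P : Subgroup H)).is_comm.comm u ⟨x, hxP⟩
      exact congrArg Subtype.val this
    rw [← hmu']
    calc (m : H) * (u : H) * x = (m : H) * ((u : H) * x) := by group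
      _ = (m : H) * (x * (u : H)) := by rw [h2]
      _ = ((m : H) * x) * (u : H) := by group
      _ = x * ((m : H) * (u : H)) := by rw [h1]; group
  intro hbot
  rw [hbot, Subgroup.mem_bot] at hxZ
  exact hx1 hxZ

/-- A Frobenius complement has nontrivial centre: if H ≠ 1 complements a nontrivial normal subgroup K and every nonidentity element of H has trivial centraliser in K, then the centre of H is nontrivial. -/
theorem result {G : Type*} [Group G] [Finite G] (K H : Subgroup G) [K.Normal]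
    (hc : Subgroup.IsComplement' K H) (hK : K ≠ ⊥) (hH : H ≠ ⊥) (hfpf : ∀ h ∈ H, h ≠ 1 → K ⊓ Subgroup.centralizer {h} = ⊥) :
    Subgroup.center H ≠ ⊥ := by
  by_cases heven : 2 ∣ Nat.card H
  · obtain ⟨⟨s, hsH, hs2, huniq, -⟩, -⟩ := Cfsg.Agent.S0068.result K H hc hK hfpf heven
    have hmem : (⟨s, hsH⟩ : H) ∈ Subgroup.center H := by
      rw [Subgroup.mem_center_iff]
      intro g
      have h1 : orderOf ((g : G) * s * (g : G)⁻¹) = 2 := by
        have := (MulAut.conj (g : G)).orderOf_eq s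
        rw [MulAut.conj_apply] at this
        rw [this, hs2]
      have h2 : (g : G) * s * (g : G)⁻¹ ∈ H := H.mul_mem (H.mul_mem g.2 hsH) (H.inv_mem g.2)
      have h3 := huniq _ h2 h1
      apply Subtype.ext
      show (g : G) * s = s * (g : G)
      calc (g : G) * s = ((g : G) * s * (g : G)⁻¹) * (g : G) := by group
        _ = s * (g : G) := by rw [h3]
    intro hbot
    rw [hbot, Subgroup.mem_bot] at hmem
    have : s = 1 := congrArg Subtype.val hmem
    rw [this, orderOf_one] at hs2
    omega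
  · exact odd_case K H hc hK hH hfpf heven

end Cfsg.Agent.S0069
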