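import Cfsg.Statements.S0584
import Mathlib

set_option autoImplicit false
open Cfsg

namespace Cfsg.Agent.S0584

/-- Let B ≤ A be normal subgroups of a finite group G with B contained in the Frattini subgroup of G. If A modulo B is nilpotent then A is nilpotent. -/
theorem result {G : Type*} [Group G] [Finite G] (A B : Subgroup G) [A.Normal] [B.Normal] (hBA : B ≤ A) (hB : B ≤ frattini G) (h : Group.IsNilpotent (↥A ⧸ B.subgroupOf A)) : Group.IsNilpotent A := by
  have q := (Group.isNilpotent_of_finite_tfae (G := A)).out 0 3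
  rw [q]; clear q
  intro p hp P
  set Bq : Subgroup A := B.subgroupOf A with hBq
  -- image of `P` in the quotient is a normal Sylow subgroup
  let Pbar : Sylow p (↥A ⧸ Bq) := P.mapSurjective (QuotientGroup.mk'_surjective Bq)
  have hPbar : (Pbar : Subgroup (↥A ⧸ Bq)).Normal := inferInstance
  set T : Subgroup A := (Pbar : Subgroup (↥A ⧸ Bq)).comap (QuotientGroup.mk' Bq) with hT
  have hTn : T.Normal := inferInstance
  have hTeq : T = (P : Subgroup A) ⊔ Bq := by
    rw [hT, Sylow.coe_mapSurjective, Subgroup.comap_map_eq, QuotientGroup.ker_mk']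
  have hPT : (P : Subgroup A) ≤ T := by rw [hTeq]; exact le_sup_left
  -- Frattini argument inside `A`
  have h1 : Subgroup.normalizer ((P : Subgroup A) : Set A) ⊔ T = ⊤ :=
    Sylow.normalizer_sup_eq_top' P hPT
  have h2 : Subgroup.normalizer ((P : Subgroup A) : Set A) ⊔ Bq = ⊤ := by
    rw [eq_top_iff, ← h1, hTeq]
    apply sup_le le_sup_left
    apply sup_le _ le_sup_right
    exact Subgroup.le_normalizer.trans le_sup_left
  -- Frattini argument in `G`
  have h3 : Subgroup.normalizer (((P : Subgroup A).map A.subtype : Subgroup G) : Set G) ⊔ A = ⊤ :=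
    Sylow.normalizer_sup_eq_top P
  set NG := Subgroup.normalizer (((P : Subgroup A).map A.subtype : Subgroup G) : Set G) with hNG
  have h4 : (Subgroup.normalizer ((P : Subgroup A) : Set A)).map A.subtype ≤ NG := by
    rintro _ ⟨a, ha, rfl⟩
    apply Subgroup.mem_normalizer_fintype
    rintro _ ⟨x, hx, rfl⟩
    refine ⟨a * x * a⁻¹, ?_, by simp⟩
    exact (Subgroup.mem_normalizer_iff.mp ha x).mp hx
  have h5 : A ≤ NG ⊔ B := by
    have e : ((Subgroup.normalizer ((P : Subgroup A) : Set A)) ⊔ Bq).map A.subtype = A := by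
      rw [h2, ← MonoidHom.range_eq_map, Subgroup.range_subtype]
    rw [Subgroup.map_sup, hBq, Subgroup.subgroupOf_map_subtype] at e
    calc A = (Subgroup.normalizer ((P : Subgroup A) : Set A)).map A.subtype ⊔ B ⊓ A := e.symm
      _ ≤ NG ⊔ B := sup_le_sup h4 inf_le_left
  have h6 : NG ⊔ frattini G = ⊤ := by
    rw [eq_top_iff, ← h3]
    apply sup_le le_sup_left
    exact h5.trans (sup_le_sup le_rfl hB)
  have h7 : NG = ⊤ := frattini_nongenerating h6
  have h8 : ((P : Subgroup A).map A.subtype).Normal := Subgroup.normalizer_eq_top_iff.mp h7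
  exact h8.of_map_subtype

end Cfsg.Agent.S0584
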