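import Cfsg.Statements.S0070
import Cfsg.Agent.S0584
import Mathlib

set_option autoImplicit false
open Cfsg

namespace Cfsg.Agent.S0070

/-- The Fitting subgroup commutes with passing to the Frattini quotient: the Fitting subgroup of G modulo its Frattini subgroup is the image of the Fitting subgroup of G. -/
theorem result {G : Type*} [Group G] [Finite G] :
    Cfsg.fittingSubgroup (G ⧸ frattini G) = (Cfsg.fittingSubgroup G).map (QuotientGroup.mk' (frattini G)) := by
  set π := QuotientGroup.mk' (frattini G) with hπ
  have hsurj : Function.Surjective π := QuotientGroup.mk'_surjective _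
  apply le_antisymm
  · unfold Cfsg.fittingSubgroup
    refine sSup_le ?_
    rintro N ⟨hNn, hNnil⟩
    set A : Subgroup G := N.comap π with hA
    haveI hAn : A.Normal := hNn.comap π
    have hΦA : frattini G ≤ A := by
      intro x hx
      rw [hA, Subgroup.mem_comap]
      have : π x = 1 := by
        rw [hπ, QuotientGroup.mk'_apply, QuotientGroup.eq_one_iff]; exact hx
      rw [this]; exact N.one_mem
    -- the restricted map A → N
    let g : A →* N := (π.comp A.subtype).codRestrict N (fun a => a.2)
    have hgsurj : Function.Surjective g := by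
      rintro ⟨y, hy⟩
      obtain ⟨x, rfl⟩ := hsurj y
      exact ⟨⟨x, hy⟩, rfl⟩
    have hker : g.ker = (frattini G).subgroupOf A := by
      ext a
      rw [MonoidHom.mem_ker, Subgroup.mem_subgroupOf]
      constructor
      · intro h
        have h1 : π (a : G) = 1 := congrArg Subtype.val h
        rwa [hπ, QuotientGroup.mk'_apply, QuotientGroup.eq_one_iff] at h1
      · intro h
        apply Subtype.ext
        show π (a : G) = 1
        rw [hπ, QuotientGroup.mk'_apply, QuotientGroup.eq_one_iff]; exact h
    have e1 : A ⧸ g.ker ≃* N := QuotientGroup.quotientKerEquivOfSurjective g hgsurj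
    have e2 : A ⧸ g.ker ≃* A ⧸ (frattini G).subgroupOf A := QuotientGroup.quotientMulEquivOfEq hker
    have hnilq : Group.IsNilpotent (↥A ⧸ (frattini G).subgroupOf A) :=
      (Group.isNilpotent_congr (e2.symm.trans e1)).mpr hNnil
    have hAnil : Group.IsNilpotent A := Cfsg.Agent.S0584.result A (frattini G) hΦA le_rfl hnilq
    have hAle : A ≤ sSup {N : Subgroup G | N.Normal ∧ Group.IsNilpotent N} := le_sSup ⟨hAn, hAnil⟩
    calc N = A.map π := (Subgroup.map_comap_eq_self_of_surjective hsurj N).symm
      _ ≤ _ := Subgroup.map_mono hAle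
  · rw [Subgroup.map_le_iff_le_comap]
    unfold Cfsg.fittingSubgroup
    refine sSup_le ?_
    rintro N ⟨hNn, hNnil⟩
    rw [← Subgroup.map_le_iff_le_comap]
    apply le_sSup
    refine ⟨hNn.map π hsurj, ?_⟩
    haveI := hNnil
    exact Group.nilpotent_of_surjective (π.subgroupMap N) (π.subgroupMap_surjective N)

end Cfsg.Agent.S0070
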