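import Cfsg.Statements.S0073
import Cfsg.Agent.Lib.Helper2.FixedPoints
import Cfsg.Agent.Lib.Helper2.PComplement

set_option autoImplicit false
open Cfsg

namespace Cfsg.Agent.S0073

open Cfsg.Agent.Lib.Helper2

theorem comm_of_card_le_sq {P : Type*} [Group P] [Finite P] {p k : ℕ} [hp : Fact p.Prime]
    (hk : k ≤ 2) (hc : Nat.card P = p ^ k) : IsMulCommutative P := by
  interval_cases k
  · rw [pow_zero] at hc
    haveI : Subsingleton P := (Nat.card_eq_one_iff_unique.mp hc).1
    exact ⟨⟨fun a b => Subsingleton.elim _ _⟩⟩
  · rw [pow_one] at hc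
    have : IsCyclic P := isCyclic_of_prime_card hc
    exact IsCyclic.isMulCommutative
  · exact IsPGroup.isMulCommutative_of_card_eq_prime_sq hc

/-- For a finite non-abelian simple group, either the cube of the least prime divisor of the order divides the order, or 12 does. -/
theorem result {G : Type*} [Group G] [Finite G] [IsSimpleGroup G] (hG : ∃ x y : G, x * y ≠ y * x) : (Nat.card G).minFac ^ 3 ∣ Nat.card G ∨ 12 ∣ Nat.card G := by
  by_contra hcon
  rw [not_or] at hcon
  obtain ⟨hn3, hn12⟩ := hcon
  have hnt : Nontrivial G := IsSimpleGroup.toNontrivial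
  have hn1 : Nat.card G ≠ 1 := (Finite.one_lt_card_iff_nontrivial.mpr hnt).ne'
  set p := (Nat.card G).minFac with hp_def
  have hp : p.Prime := Nat.minFac_prime hn1
  haveI : Fact p.Prime := ⟨hp⟩
  have hpG : p ∣ Nat.card G := Nat.minFac_dvd _
  let P : Sylow p G := default
  obtain ⟨k, hk⟩ := P.2.exists_card_eq
  have hkG : p ^ k ∣ Nat.card G := hk ▸ Subgroup.card_subgroup_dvd_card _
  have hk2 : k ≤ 2 := by
    by_contra h
    have : 3 ≤ k := by omega
    exact hn3 ((pow_dvd_pow p this).trans hkG)
  have hcomm : IsMulCommutative (P : Subgroup G) := comm_of_card_le_sq hk2 hk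
  have hNC : Subgroup.normalizer ((P : Subgroup G) : Set G) ≤
      Subgroup.centralizer ((P : Subgroup G) : Set G) := by
    apply normalizer_le_centralizer_of_fixedPoints P hcomm
    intro r hr hrp hrG d hd hcong
    rw [hk] at hd hcong ⊢
    have hpr : p ≤ r := Nat.minFac_le_of_dvd hr.two_le hrG
    have hpr' : p < r := lt_of_le_of_ne hpr (Ne.symm hrp)
    obtain ⟨i, hi, rfl⟩ := (Nat.dvd_prime_pow hp).mp hd
    by_contra hne
    have hik : i < k := lt_of_le_of_ne hi (fun h => hne (by rw [h]))
    have hle : p ^ i ≤ p ^ k := Nat.pow_le_pow_right hp.pos hi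
    have hdvd : r ∣ p ^ k - p ^ i := (Nat.modEq_iff_dvd' hle).mp hcong.symm
    have hnot1 : ¬ r ∣ p - 1 := by
      intro h
      have h0 : 0 < p - 1 := by have := hp.two_le; omega
      have := Nat.le_of_dvd h0 h
      omega
    have hnotp : ¬ r ∣ p := by
      intro h
      exact hrp ((Nat.prime_dvd_prime_iff_eq hr hp).mp h)
    have hp2 := hp.two_le
    interval_cases k
    · omega
    · have hi0 : i = 0 := by omega
      subst hi0
      simp only [pow_one, pow_zero] at hdvd
      exact hnot1 hdvd
    · have : i = 0 ∨ i = 1 := by omega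
      rcases this with rfl | rfl
      · simp only [pow_zero] at hdvd
        have e : p ^ 2 - 1 = (p - 1) * (p + 1) := by
          have : 1 ≤ p := by omega
          zify [this, Nat.one_le_pow 2 p (by omega)]
          ring
        rw [e] at hdvd
        rcases (Nat.Prime.dvd_mul hr).mp hdvd with h | h
        · exact hnot1 h
        · have hle2 := Nat.le_of_dvd (by omega) h
          have hrp1 : r = p + 1 := by omega
          -- p and p+1 both prime forces p = 2
          have hp2' : p = 2 := by
            rcases Nat.Prime.eq_two_or_odd hp with h2 | hodd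
            · exact h2
            · exfalso
              have hreven : 2 ∣ r := by omega
              have := (Nat.prime_dvd_prime_iff_eq Nat.prime_two hr).mp hreven
              omega
          apply hn12
          have h4 : 4 ∣ Nat.card G := by
            have := hkG
            rw [hp2'] at this
            exact this
          have h3 : 3 ∣ Nat.card G := by
            have : r = 3 := by omega
            rw [← this]; exact hrG
          exact Nat.Coprime.mul_dvd_of_dvd_of_dvd (by norm_num : Nat.Coprime 4 3) h4 h3
      · simp only [pow_one] at hdvd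
        have e : p ^ 2 - p = p * (p - 1) := by
          have : 1 ≤ p := by omega
          have h2 : p ≤ p ^ 2 := by nlinarith
          zify [this, h2]
          ring
        rw [e] at hdvd
        rcases (Nat.Prime.dvd_mul hr).mp hdvd with h | h
        · exact hnotp h
        · exact hnot1 h
  obtain ⟨N, hN, hc⟩ := (hasNormalPComplement_iff P).mp
    (hasNormalPComplement_of_normalizer_le_centralizer P hNC)
  have hmul := hc.card_mul_card
  rcases hN.eq_bot_or_eq_top with hbot | htop
  · rw [hbot, Subgroup.card_bot, one_mul] at hmul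
    have hPtop : (P : Subgroup G) = ⊤ := Subgroup.eq_top_of_card_eq _ hmul
    obtain ⟨x, y, hxy⟩ := hG
    apply hxy
    have hx : x ∈ (P : Subgroup G) := by rw [hPtop]; trivial
    have hy : y ∈ (P : Subgroup G) := by rw [hPtop]; trivial
    have := hcomm.is_comm.comm ⟨x, hx⟩ ⟨y, hy⟩
    exact congrArg Subtype.val this
  · rw [htop, Subgroup.card_top] at hmul
    have hP1 : Nat.card (P : Subgroup G) = 1 := by
      have hpos : 0 < Nat.card G := Nat.card_pos
      nlinarith [Nat.eq_of_mul_eq_mul_left hpos (by rw [hmul, mul_one] : Nat.card G * Nat.card (P : Subgroup G) = Nat.card G * 1)]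
    have := P.ne_bot_of_dvd_card hpG
    exact this (Subgroup.card_eq_one.mp hP1)

end Cfsg.Agent.S0073
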