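import Cfsg.Statements.S0076
import Cfsg.Agent.Lib.Helper2.Basic

set_option autoImplicit false
open Cfsg

namespace Cfsg.Agent.S0076

open Cfsg.Agent.Lib.Helper2

theorem conj_image_mul {G : Type*} [Group G] (a b : G) (S : Set G) :
    (fun y => (a * b) * y * (a * b)⁻¹) '' S = (fun y => a * y * a⁻¹) '' ((fun y => b * y * b⁻¹) '' S) := by
  rw [Set.image_image]
  apply Set.image_congr
  intro y _
  group

theorem mem_setNormalizer_iff {G : Type*} [Group G] (g : G) (S : Set G) :
    g ∈ Subgroup.normalizer S ↔ (fun y => g * y * g⁻¹) '' S = S := by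
  rw [Subgroup.mem_normalizer_iff_conj_image_eq]
  have : (MulAut.conj g : G → G) = (fun y => g * y * g⁻¹) := by
    funext y; simp
  rw [this]

/-- Two P-invariant subsets of a Sylow p-subgroup P that are conjugate in G are conjugate under the normalizer of P. -/
theorem result {G : Type*} [Group G] [Finite G] {p : ℕ} [Fact p.Prime] (P : Sylow p G) (X Y : Set G) (hXP : X ⊆ P) (hYP : Y ⊆ P) (hX : ∀ x ∈ P, (fun y => x * y * x⁻¹) '' X = X) (hY : ∀ x ∈ P, (fun y => x * y * x⁻¹) '' Y = Y) (g : G) (hg : (fun y => g * y * g⁻¹) '' X = Y) : ∃ n ∈ Subgroup.normalizer (P : Set G), (fun y => n * y * n⁻¹) '' X = Y := by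
  have h1 : (P : Subgroup G) ≤ Subgroup.normalizer Y := by
    intro x hx
    rw [mem_setNormalizer_iff]
    exact hY x hx
  have h2 : ((g • P : Sylow p G) : Subgroup G) ≤ Subgroup.normalizer Y := by
    intro z hz
    rw [mem_setNormalizer_iff]
    have hz' : g⁻¹ * z * g ∈ P := (mem_smul_sylow_iff P g z).mp hz
    have e : z = (g * (g⁻¹ * z * g)) * g⁻¹ := by group
    rw [← hg]
    conv_lhs => rw [e]
    have e2 : (fun y => (g * (g⁻¹ * z * g)) * g⁻¹ * y * ((g * (g⁻¹ * z * g)) * g⁻¹)⁻¹) '' ((fun y => g * y * g⁻¹) '' X)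
        = (fun y => (g * (g⁻¹ * z * g)) * y * (g * (g⁻¹ * z * g))⁻¹) '' X := by
      rw [Set.image_image]
      apply Set.image_congr
      intro y _
      group
    rw [e2, conj_image_mul, hX _ hz']
  obtain ⟨c, hc, hcP⟩ := sylow_conj_in_subgroup P (g • P) _ h1 h2
  rw [smul_smul] at hcP
  refine ⟨c * g, Sylow.smul_eq_iff_mem_normalizer.mp hcP, ?_⟩
  rw [conj_image_mul, hg]
  exact (mem_setNormalizer_iff c Y).mp hc

end Cfsg.Agent.S0076
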