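import Cfsg.Statements.S0079
import Cfsg.Agent.Lib.Helper35.HallFusion

set_option autoImplicit false
open Cfsg

namespace Cfsg.Agent.S0079

/-- A nilpotent Hall subgroup has a normal complement iff it controls its own fusion. -/
theorem result {G : Type*} [Group G] [Finite G] (H : Subgroup G) (hH : Group.IsNilpotent H) (hHall : Nat.Coprime (Nat.card H) H.index) : (∃ N : Subgroup G, N.Normal ∧ N.IsComplement' H) ↔ ∀ x ∈ H, ∀ y ∈ H, (∃ g : G, g * x * g⁻¹ = y) → ∃ h ∈ H, h * x * h⁻¹ = y := by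
  constructor
  · rintro ⟨N, hNn, hNc⟩ x hx y hy ⟨g, hg⟩
    obtain ⟨⟨n, h⟩, hnh, -⟩ := hNc.existsUnique g
    simp only at hnh
    refine ⟨h, h.2, ?_⟩
    -- `x' = h x h⁻¹`
    set x' : G := h * x * (h : G)⁻¹ with hx'
    have hx'H : x' ∈ H := H.mul_mem (H.mul_mem h.2 hx) (H.inv_mem h.2)
    have hy' : y = n * x' * (n : G)⁻¹ := by
      rw [← hg, ← hnh, hx']; group
    have hmemN : y * x'⁻¹ ∈ N := by
      have : y * x'⁻¹ = n * (x' * (n : G)⁻¹ * x'⁻¹) := by rw [hy']; group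
      rw [this]
      exact N.mul_mem n.2 (hNn.conj_mem _ (N.inv_mem n.2) x')
    have hmemH : y * x'⁻¹ ∈ H := H.mul_mem hy (H.inv_mem hx'H)
    have h1 : y * x'⁻¹ = 1 := by
      have hd : Disjoint N H := hNc.disjoint
      exact (Subgroup.disjoint_def.mp hd) hmemN hmemH
    exact (mul_inv_eq_one.mp h1).symm
  · intro hfus
    exact Cfsg.Agent.Lib.Helper35.exists_normal_complement_of_hall_fusion H hH hHall hfus

end Cfsg.Agent.S0079
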