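import Cfsg.Statements.S0080

set_option autoImplicit false
open Cfsg

namespace Cfsg.Agent.S0080

open Subgroup
open scoped IsMulCommutative

/-- When the index of H is prime to the order of H/H', the focal subgroup of H is G' ∩ H, and H/(G' ∩ H) has a normal complement. -/
theorem result {G : Type*} [Group G] [Finite G] (H : Subgroup G) (h : Nat.Coprime H.index (⁅H, H⁆.relIndex H)) : Subgroup.focalSubgroup H = commutator G ⊓ H ∧ ∃ N : Subgroup G, N.Normal ∧ N ⊓ H = commutator G ⊓ H ∧ N ⊔ H = ⊤ := by
  have hcardQ : Nat.card (H ⧸ H.focalSubgroupOf) = H.focalSubgroup.relIndex H := rfl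
  have hdvd : H.focalSubgroup.relIndex H ∣ ⁅H, H⁆.relIndex H :=
    Subgroup.relIndex_dvd_of_le_left H H.commutator_le_focalSubgroup
  have hcop : (Nat.card (H ⧸ H.focalSubgroupOf)).Coprime H.index := by
    rw [hcardQ]
    exact (Nat.Coprime.coprime_dvd_right hdvd h).symm
  -- the power map is bijective on H / H*
  have hbij : Function.Bijective (fun y : H ⧸ H.focalSubgroupOf => y ^ H.index) :=
    (powCoprime hcop).bijective
  have hker : H.transferFocal.ker ⊓ H = H.focalSubgroup := by
    ext g
    constructor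
    · rintro ⟨hgk, hgH⟩
      have h1 : H.transferFocal (⟨g, hgH⟩ : H) = 1 := hgk
      rw [Subgroup.transferFocal_eq_pow] at h1
      have h2 : ((⟨g, hgH⟩ : H) : H ⧸ H.focalSubgroupOf) = 1 := by
        apply hbij.1
        show ((⟨g, hgH⟩ : H) : H ⧸ H.focalSubgroupOf) ^ H.index = 1 ^ H.index
        rw [h1, one_pow]
      have h3 : (⟨g, hgH⟩ : H) ∈ H.focalSubgroupOf := (QuotientGroup.eq_one_iff _).mp h2
      rw [Subgroup.focalSubgroupOf_def, Subgroup.mem_subgroupOf] at h3
      exact h3
    · intro hg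
      have hgH : g ∈ H := H.focalSubgroup_le hg
      refine ⟨?_, hgH⟩
      show H.transferFocal (⟨g, hgH⟩ : H) = 1
      rw [Subgroup.transferFocal_eq_pow]
      have h3 : (⟨g, hgH⟩ : H) ∈ H.focalSubgroupOf := by
        rw [Subgroup.focalSubgroupOf_def, Subgroup.mem_subgroupOf]
        exact hg
      have h2 : ((⟨g, hgH⟩ : H) : H ⧸ H.focalSubgroupOf) = 1 := (QuotientGroup.eq_one_iff _).mpr h3
      rw [h2, one_pow]
  have hfoc : Subgroup.focalSubgroup H = commutator G ⊓ H := by
    apply le_antisymm
    · exact le_inf H.focalSubgroup_le_commutator H.focalSubgroup_le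
    · rw [← hker]
      exact inf_le_inf_right _ (Abelianization.commutator_subset_ker H.transferFocal)
  refine ⟨hfoc, H.transferFocal.ker, inferInstance, ?_, ?_⟩
  · rw [hker, hfoc]
  · rw [eq_top_iff]
    intro g _
    obtain ⟨y, hy⟩ := hbij.2 (H.transferFocal g)
    obtain ⟨x, rfl⟩ := QuotientGroup.mk_surjective y
    have h1 : H.transferFocal (x : G) = H.transferFocal g := by
      rw [Subgroup.transferFocal_eq_pow]; exact hy
    have h2 : g * (x : G)⁻¹ ∈ H.transferFocal.ker := by
      rw [MonoidHom.mem_ker, map_mul, map_inv, h1, mul_inv_cancel]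
    have : g = (g * (x : G)⁻¹) * x := by group
    rw [this]
    exact Subgroup.mul_mem_sup h2 x.2

end Cfsg.Agent.S0080
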