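import Cfsg.Statements.S0082
import Cfsg.Agent.Lib.Helper2.PResidual
import Cfsg.Agent.Lib.Helper2.FixedPoints
import Cfsg.Agent.Lib.Helper2.PComplement
import Mathlib.NumberTheory.Basic
import Mathlib.RingTheory.Coprime.Lemmas
import Mathlib.RingTheory.PrincipalIdealDomain
import Mathlib.RingTheory.Int.Basic

set_option autoImplicit false
open Cfsg

namespace Cfsg.Agent.S0082

open Cfsg.Agent.Lib.Helper2

/-- Iterated conjugation acts on powers. -/
theorem conj_pow_zpow {G : Type*} [Group G] (y g : G) (k : ℤ) (h : y * g * y⁻¹ = g ^ k) (j : ℕ) :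
    y ^ j * g * (y ^ j)⁻¹ = g ^ (k ^ j) := by
  induction j with
  | zero => simp
  | succ j ih =>
    have h1 : y ^ (j + 1) * g * (y ^ (j + 1))⁻¹ = y * (y ^ j * g * (y ^ j)⁻¹) * y⁻¹ := by
      rw [pow_succ']; group
    rw [h1, ih]
    have h2 : y * g ^ (k ^ j) * y⁻¹ = (y * g * y⁻¹) ^ (k ^ j) := by
      have := (MulAut.conj y).toMonoidHom.map_zpow g (k ^ j)
      simpa [MulAut.conj_apply] using this
    rw [h2, h, ← zpow_mul, pow_succ']

/-- Commuting with two coprime powers of `y` means commuting with `y`. -/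
theorem commute_of_coprime_pow {G : Type*} [Group G] (y g : G) (a b : ℕ) (hab : Nat.Coprime a b)
    (ha : Commute (y ^ a) g) (hb : Commute (y ^ b) g) : Commute y g := by
  have hbez := Nat.gcd_eq_gcd_ab a b
  rw [hab] at hbez
  have hy : y = (y ^ a) ^ (Nat.gcdA a b) * (y ^ b) ^ (Nat.gcdB a b) := by
    rw [← zpow_natCast y a, ← zpow_natCast y b, ← zpow_mul, ← zpow_mul, ← zpow_add, ← hbez]
    simp
  rw [hy]
  exact (ha.zpow_left _).mul_left (hb.zpow_left _)

theorem key {G : Type*} [Group G] {p : ℕ} [hp : Fact p.Prime] (y g : G) (k : ℤ) (n : ℕ)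
    (hg : orderOf g = p ^ n) (hy : Nat.Coprime (orderOf y) p) (hy0 : orderOf y ≠ 0)
    (h : y * g * y⁻¹ = g ^ k)
    (hk : (p : ℤ) ∣ k - 1) : Commute y g := by
  have h1 : ((p : ℤ) ^ (n + 1)) ∣ k ^ p ^ n - 1 ^ p ^ n := dvd_sub_pow_of_dvd_sub hk n
  rw [one_pow] at h1
  have h2 : ((p : ℤ) ^ n) ∣ k ^ p ^ n - 1 := (pow_dvd_pow _ (Nat.le_succ n)).trans h1
  have h3 : g ^ (k ^ p ^ n) = g ^ (1 : ℤ) := by
    rw [zpow_eq_zpow_iff_modEq, hg]
    push_cast
    exact (Int.modEq_iff_dvd.mpr h2).symm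
  have h4 := conj_pow_zpow y g k h (p ^ n)
  rw [h3, zpow_one] at h4
  have hc1 : Commute (y ^ p ^ n) g := by
    unfold Commute SemiconjBy
    calc y ^ p ^ n * g = (y ^ p ^ n * g * (y ^ p ^ n)⁻¹) * y ^ p ^ n := by group
      _ = g * y ^ p ^ n := by rw [h4]
  have hc2 : Commute (y ^ orderOf y) g := by
    rw [pow_orderOf_eq_one]; exact Commute.one_left g
  exact commute_of_coprime_pow y g (p ^ n) (orderOf y) (Nat.Coprime.pow_left n hy.symm) hc1 hc2

/-- With a cyclic Sylow p-subgroup, either there is a normal p-complement or the elements of order prime to p generate the whole group. -/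
theorem result {G : Type*} [Group G] [Finite G] {p : ℕ} [Fact p.Prime] (P : Sylow p G) (hP : IsCyclic P) : Cfsg.HasNormalPComplement p G ∨ Cfsg.pResidual p G = ⊤ := by
  have hp : p.Prime := Fact.out
  obtain ⟨g, hg⟩ := hP.exists_generator
  obtain ⟨n, hn⟩ := (IsPGroup.iff_card.mp P.isPGroup')
  have hog : orderOf (g : G) = p ^ n := by
    rw [Subgroup.orderOf_coe, orderOf_eq_card_of_forall_mem_zpowers hg]
    exact hn
  have hPg : ∀ x ∈ (P : Subgroup G), ∃ i : ℤ, x = (g : G) ^ i := by
    intro x hx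
    obtain ⟨i, hi⟩ := Subgroup.mem_zpowers_iff.mp (hg ⟨x, hx⟩)
    refine ⟨i, ?_⟩
    have := congrArg (Subtype.val) hi
    simpa using this.symm
  by_cases hA : ∀ y ∈ Subgroup.normalizer ((P : Subgroup G) : Set G),
      Nat.Coprime (orderOf y) p → Commute y (g : G)
  · left
    apply hasNormalPComplement_of_normalizer_le_centralizer P
    apply le_of_primePow_mem
    intro y hy r k hr hyr
    have hcomm_g : ∀ z : G, Commute z (g : G) →
        z ∈ Subgroup.centralizer ((P : Subgroup G) : Set G) := by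
      intro z hz
      rw [Subgroup.mem_centralizer_iff]
      intro x hx
      obtain ⟨i, rfl⟩ := hPg x hx
      exact ((hz.zpow_right i).eq).symm
    by_cases hrp : r = p
    · subst hrp
      have hyP : y ∈ (P : Subgroup G) := mem_sylow_of_mem_normalizer_of_pow P y hy hyr
      obtain ⟨i, rfl⟩ := hPg y hyP
      exact hcomm_g _ ((Commute.refl (g : G)).zpow_left i)
    · apply hcomm_g
      apply hA y hy
      have ho : orderOf y ∣ r ^ k := orderOf_dvd_of_pow_eq_one hyr
      have : Nat.Coprime (r ^ k) p :=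
        Nat.Coprime.pow_left k ((Nat.coprime_primes hr hp).mpr hrp)
      exact Nat.Coprime.coprime_dvd_left ho this
  · right
    push Not at hA
    obtain ⟨y, hyN, hyc, hyg⟩ := hA
    have := pResidual_normal (G := G) p
    have hconj : y * (g : G) * y⁻¹ ∈ (P : Subgroup G) :=
      (Subgroup.mem_normalizer_iff.mp hyN (g : G)).mp g.2
    obtain ⟨k, hk⟩ := hPg _ hconj
    have hndvd : ¬ (p : ℤ) ∣ k - 1 := by
      intro hdvd
      exact hyg (key y (g : G) k n hog hyc (orderOf_pos y).ne' hk hdvd)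
    -- g ^ (k - 1) ∈ pResidual
    have hmem : (g : G) ^ (k - 1) ∈ Cfsg.pResidual p G := by
      have h1 : (g : G) ^ (k - 1) = y * ((g : G) * y⁻¹ * (g : G)⁻¹) := by
        rw [zpow_sub, zpow_one, ← hk]; group
      rw [h1]
      apply Subgroup.mul_mem _ (mem_pResidual_of_coprime hyc)
      apply mem_pResidual_of_coprime
      rw [orderOf_conj_eq, orderOf_inv]
      exact hyc
    have hcop : IsCoprime (k - 1) ((p : ℤ) ^ n) := by
      apply IsCoprime.pow_right
      have hpi : Prime (p : ℤ) := Nat.prime_iff_prime_int.mp hp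
      exact ((hpi.irreducible.coprime_iff_not_dvd).mpr hndvd).symm
    obtain ⟨a, b, hab⟩ := hcop
    have hgmem : (g : G) ∈ Cfsg.pResidual p G := by
      have h2 : (g : G) = ((g : G) ^ (k - 1)) ^ a * ((g : G) ^ ((p : ℤ) ^ n)) ^ b := by
        rw [← zpow_mul, ← zpow_mul, ← zpow_add, mul_comm (k - 1) a, mul_comm ((p : ℤ) ^ n) b, hab,
          zpow_one]
      have h3 : (g : G) ^ ((p : ℤ) ^ n) = 1 := by
        have : ((p : ℤ) ^ n) = ((p ^ n : ℕ) : ℤ) := by push_cast; rfl
        rw [this, zpow_natCast, ← hog, pow_orderOf_eq_one]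
      rw [h3, one_zpow, mul_one] at h2
      rw [h2]
      exact Subgroup.zpow_mem _ hmem a
    have hPle : (P : Subgroup G) ≤ Cfsg.pResidual p G := by
      intro x hx
      obtain ⟨i, rfl⟩ := hPg x hx
      exact Subgroup.zpow_mem _ hgmem i
    rw [← Subgroup.index_eq_one]
    have hQ := isPGroup_quotient_pResidual (G := G) p
    obtain ⟨e, he⟩ := IsPGroup.iff_card.mp hQ
    have hidx : (Cfsg.pResidual p G).index = p ^ e := by
      rw [Subgroup.index_eq_card]; exact he
    have hdvd : (Cfsg.pResidual p G).index ∣ (P : Subgroup G).index :=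
      Subgroup.index_dvd_of_le hPle
    have hnd : ¬ p ∣ (P : Subgroup G).index := P.not_dvd_index
    rw [hidx] at hdvd ⊢
    by_cases he0 : e = 0
    · rw [he0, pow_zero]
    · exfalso
      exact hnd ((dvd_pow_self p he0).trans hdvd)

end Cfsg.Agent.S0082
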