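import Cfsg.Statements.S0083
import Cfsg.Agent.Lib.Helper2.PComplement

set_option autoImplicit false
open Cfsg

namespace Cfsg.Agent.S0083

open Cfsg.Agent.Lib.Helper2

/-- For an abelian Sylow p-subgroup P, a normal p-complement exists exactly when the normalizer of P is an internal direct product of P with some subgroup. -/
theorem result {G : Type*} [Group G] [Finite G] {p : ℕ} [Fact p.Prime] (P : Sylow p G) (hP : IsMulCommutative P) : Cfsg.HasNormalPComplement p G ↔ ∃ Q : Subgroup G, Q ≤ Subgroup.centralizer (P : Set G) ∧ Q ⊓ (P : Subgroup G) = ⊥ ∧ Q ⊔ (P : Subgroup G) = Subgroup.normalizer (P : Set G) := by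
  constructor
  · intro h
    obtain ⟨N, hN, hc⟩ := (hasNormalPComplement_iff P).mp h
    have hdisj : N ⊓ (P : Subgroup G) = ⊥ := disjoint_iff.mp hc.disjoint
    refine ⟨N ⊓ Subgroup.normalizer (P : Set G), ?_, ?_, ?_⟩
    · rintro q ⟨hqN, hqn⟩
      rw [Subgroup.mem_centralizer_iff]
      intro x hx
      have hxP : x ∈ (P : Subgroup G) := hx
      have h1 : q * x * q⁻¹ * x⁻¹ ∈ N ⊓ (P : Subgroup G) := by
        refine Subgroup.mem_inf.mpr ⟨?_, ?_⟩
        · have : q * x * q⁻¹ * x⁻¹ = q * (x * q⁻¹ * x⁻¹) := by group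
          rw [this]
          exact N.mul_mem hqN (hN.conj_mem _ (N.inv_mem hqN) x)
        · have h2 : q * x * q⁻¹ ∈ (P : Subgroup G) := ((Subgroup.mem_normalizer_iff.mp hqn) x).mp hxP
          exact (P : Subgroup G).mul_mem h2 ((P : Subgroup G).inv_mem hxP)
      rw [hdisj, Subgroup.mem_bot] at h1
      have h3 : q * x * q⁻¹ = x := by
        have := mul_inv_eq_one.mp h1
        exact this
      calc x * q = (q * x * q⁻¹) * q := by rw [h3]
        _ = q * x := by group
    · rw [eq_bot_iff, ← hdisj]
      exact inf_le_inf_right _ inf_le_left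
    · have hle : (P : Subgroup G) ≤ Subgroup.normalizer (P : Set G) := Subgroup.le_normalizer
      apply le_antisymm (sup_le inf_le_right hle)
      intro g hg
      have hgtop : g ∈ N ⊔ (P : Subgroup G) := by rw [hc.sup_eq_top]; trivial
      have hgmul : g ∈ ((N ⊔ (P : Subgroup G) : Subgroup G) : Set G) := hgtop
      rw [Subgroup.normal_mul] at hgmul
      obtain ⟨n, hn, x, hx, rfl⟩ := hgmul
      have hxn : x ∈ Subgroup.normalizer (P : Set G) := hle hx
      have hnn : n ∈ Subgroup.normalizer (P : Set G) := by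
        have : n = (n * x) * x⁻¹ := by group
        rw [this]
        exact Subgroup.mul_mem _ hg (Subgroup.inv_mem _ hxn)
      exact Subgroup.mul_mem_sup (Subgroup.mem_inf.mpr ⟨hn, hnn⟩) hx
  · rintro ⟨Q, hQC, -, hQP⟩
    apply hasNormalPComplement_of_normalizer_le_centralizer P
    have hPC : (P : Subgroup G) ≤ Subgroup.centralizer (P : Set G) := Subgroup.le_centralizer _
    calc Subgroup.normalizer (P : Set G) = Q ⊔ (P : Subgroup G) := hQP.symm
      _ ≤ Subgroup.centralizer (P : Set G) := sup_le hQC hPC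

end Cfsg.Agent.S0083
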