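import Cfsg.Statements.S0084
import Cfsg.Agent.Lib.Helper2.FixedPoints
import Cfsg.Agent.Lib.Helper2.PComplement

set_option autoImplicit false
open Cfsg

namespace Cfsg.Agent.S0084

open Cfsg.Agent.Lib.Helper2

/-- A group whose Sylow 2-subgroups are Klein four-groups and whose order is prime to 3 has a normal 2-complement. -/
theorem result {G : Type*} [Group G] [Finite G] (T : Sylow 2 G) (hT : IsKleinFour T) (h3 : ¬ 3 ∣ Nat.card G) : Cfsg.HasNormalPComplement 2 G := by
  haveI : Fact (Nat.Prime 2) := ⟨Nat.prime_two⟩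
  have hcomm : IsMulCommutative (T : Subgroup G) := IsKleinFour.isMulCommutative
  have hcard : Nat.card (T : Subgroup G) = 4 := IsKleinFour.card_four
  apply hasNormalPComplement_of_normalizer_le_centralizer T
  apply normalizer_le_centralizer_of_fixedPoints T hcomm
  intro r hr hr2 hrG d hd hcong
  rw [hcard] at hd hcong ⊢
  have hr3 : r ≠ 3 := fun h => h3 (h ▸ hrG)
  have hdle : d ≤ 4 := Nat.le_of_dvd (by norm_num) hd
  have hdvd : r ∣ 4 - d := (Nat.modEq_iff_dvd' hdle).mp hcong.symm
  interval_cases d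
  · omega
  · exfalso
    exact hr3 ((Nat.prime_dvd_prime_iff_eq hr Nat.prime_three).mp hdvd)
  · exfalso
    exact hr2 ((Nat.prime_dvd_prime_iff_eq hr Nat.prime_two).mp hdvd)
  · omega
  · rfl

end Cfsg.Agent.S0084
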