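import Cfsg.Statements.S0085
import Cfsg.Agent.Lib.Helper2.FixedPoints
import Cfsg.Agent.Lib.Helper2.PComplement

set_option autoImplicit false
open Cfsg

namespace Cfsg.Agent.S0085

open Cfsg.Agent.Lib.Helper2

/-- A group whose Sylow 2-subgroups are elementary abelian of order 8 and whose order is prime to 3 and to 7 has a normal 2-complement. -/
theorem result {G : Type*} [Group G] [Finite G] (T : Sylow 2 G) (h8 : Nat.card T = 8) (he : ∀ x : T, x * x = 1) (h3 : ¬ 3 ∣ Nat.card G) (h7 : ¬ 7 ∣ Nat.card G) : Cfsg.HasNormalPComplement 2 G := by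
  haveI : Fact (Nat.Prime 2) := ⟨Nat.prime_two⟩
  have hinv : ∀ x : (T : Subgroup G), x⁻¹ = x := fun x => inv_eq_of_mul_eq_one_left (he x)
  have hcomm : IsMulCommutative (T : Subgroup G) := by
    refine ⟨⟨fun a b => ?_⟩⟩
    have h1 : (a * b)⁻¹ = a * b := hinv (a * b)
    rw [mul_inv_rev, hinv a, hinv b] at h1
    exact h1.symm
  have hcard : Nat.card (T : Subgroup G) = 8 := h8
  apply hasNormalPComplement_of_normalizer_le_centralizer T
  apply normalizer_le_centralizer_of_fixedPoints T hcomm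
  intro r hr hr2 hrG d hd hcong
  rw [hcard] at hd hcong ⊢
  have hr3 : r ≠ 3 := fun h => h3 (h ▸ hrG)
  have hr7 : r ≠ 7 := fun h => h7 (h ▸ hrG)
  have hdle : d ≤ 8 := Nat.le_of_dvd (by norm_num) hd
  have hdvd : r ∣ 8 - d := (Nat.modEq_iff_dvd' hdle).mp hcong.symm
  have p7 : Nat.Prime 7 := by decide
  interval_cases d
  · omega
  · exfalso
    exact hr7 ((Nat.prime_dvd_prime_iff_eq hr p7).mp hdvd)
  · exfalso
    have : r ∣ 2 * 3 := hdvd
    rcases (Nat.Prime.dvd_mul hr).mp this with h | h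
    · exact hr2 ((Nat.prime_dvd_prime_iff_eq hr Nat.prime_two).mp h)
    · exact hr3 ((Nat.prime_dvd_prime_iff_eq hr Nat.prime_three).mp h)
  · omega
  · exfalso
    have : r ∣ 2 * 2 := hdvd
    rcases (Nat.Prime.dvd_mul hr).mp this with h | h
    · exact hr2 ((Nat.prime_dvd_prime_iff_eq hr Nat.prime_two).mp h)
    · exact hr2 ((Nat.prime_dvd_prime_iff_eq hr Nat.prime_two).mp h)
  · omega
  · omega
  · omega
  · rfl

end Cfsg.Agent.S0085
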