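import Cfsg.Statements.S0090
import Cfsg.Agent.S0055

set_option autoImplicit false
open Cfsg

namespace Cfsg.Agent.S0090

open Subgroup

open scoped IsMulCommutative commutatorElement in
/-- For an abelian normal Hall subgroup `A` of `G`: `[A, G] = G' ∩ A` and `A = (G' ∩ A) × (Z(G) ∩ A)`. -/
theorem result {G : Type*} [Group G] [Finite G] (A : Subgroup G) [A.Normal] (hc : IsMulCommutative A) (hHall : Nat.Coprime (Nat.card A) A.index) : ⁅A, (⊤ : Subgroup G)⁆ = commutator G ⊓ A ∧ (commutator G ⊓ A) ⊓ (Subgroup.center G ⊓ A) = ⊥ ∧ (commutator G ⊓ A) ⊔ (Subgroup.center G ⊓ A) = A := by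
  have hcomm : ∀ x ∈ A, ∀ y ∈ A, x * y = y * x := fun x hx y hy =>
    congrArg Subtype.val (mul_comm (⟨x, hx⟩ : A) ⟨y, hy⟩)
  obtain ⟨K, hK⟩ := Subgroup.exists_right_complement'_of_coprime hHall
  have hKcard : Nat.card K = A.index := hK.symm.index_eq_card.symm
  have hKA : K ≤ normalizer (A : Set G) := by rw [normalizer_eq_top]; exact le_top
  have hdecomp : ∀ g : G, ∃ a ∈ A, ∃ k ∈ K, g = a * k := by
    intro g
    obtain ⟨x, hx, -⟩ := hK.existsUnique g
    exact ⟨x.1, x.1.2, x.2, x.2.2, hx.symm⟩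
  obtain ⟨h1, h2⟩ := Cfsg.Agent.S0055.result K A hKA (by rw [hKcard]; exact hHall.symm)
  have hZ : A ⊓ centralizer (K : Set G) = center G ⊓ A := by
    apply le_antisymm
    · intro x hx
      obtain ⟨hxA, hxK⟩ := hx
      refine ⟨?_, hxA⟩
      show x ∈ center G
      rw [mem_center_iff]
      intro g
      obtain ⟨a, ha, k, hk, rfl⟩ := hdecomp g
      have e1 := hxK k hk
      have e2 := hcomm a ha x hxA
      rw [mul_assoc, e1, ← mul_assoc, e2, mul_assoc]
    · intro x hx
      obtain ⟨hxZ, hxA⟩ := hx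
      refine ⟨hxA, ?_⟩
      intro k _
      exact (mem_center_iff.mp hxZ k)
  have hD : ⁅A, K⁆ = ⁅A, (⊤ : Subgroup G)⁆ := by
    apply le_antisymm
    · exact commutator_mono le_rfl le_top
    · rw [commutator_le]
      intro a ha g _
      obtain ⟨a', ha', k, hk, rfl⟩ := hdecomp g
      have hak : ⁅a, k⁆ ∈ A := by
        rw [commutatorElement_def]
        have : a * k * a⁻¹ * k⁻¹ = a * (k * a⁻¹ * k⁻¹) := by group
        rw [this]
        exact A.mul_mem ha (‹A.Normal›.conj_mem _ (A.inv_mem ha) k)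
      have e : ⁅a, a' * k⁆ = ⁅a, k⁆ := by
        have e1 : ⁅a, a' * k⁆ = (a * a') * k * a⁻¹ * k⁻¹ * a'⁻¹ := by
          rw [commutatorElement_def]; group
        have e2 : (a' * a) * k * a⁻¹ * k⁻¹ * a'⁻¹ = a' * ⁅a, k⁆ * a'⁻¹ := by
          rw [commutatorElement_def]; group
        rw [e1, hcomm a ha a' ha', e2, hcomm a' ha' _ hak, mul_inv_cancel_right]
      rw [e]
      exact commutator_mem_commutator ha hk
  rw [hZ, hD] at h1 h2
  set D := ⁅A, (⊤ : Subgroup G)⁆ with hDdef
  have hDA : D ≤ A := commutator_le_left A ⊤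
  have hDG : D ≤ commutator G := by
    rw [_root_.commutator_def]; exact commutator_mono le_top le_rfl
  -- the key: G' ∩ A ≤ D via the transfer
  have hkey : commutator G ⊓ A ≤ D := by
    intro x hx
    obtain ⟨hxG, hxA⟩ := hx
    have hxsup : x ∈ (center G ⊓ A) ⊔ D := by rw [h2]; exact hxA
    have hDn : D.Normal := by rw [hDdef]; infer_instance
    rw [← SetLike.mem_coe, mul_normal, Set.mem_mul] at hxsup
    obtain ⟨z, hz, c, hc', rfl⟩ := hxsup
    have hzZ : z ∈ center G := hz.1
    have hzA : z ∈ A := hz.2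
    have hzG : z ∈ commutator G := by
      have : z = z * c * c⁻¹ := by group
      rw [this]
      exact (commutator G).mul_mem hxG ((commutator G).inv_mem (hDG hc'))
    -- transfer
    let T : G →* A := MonoidHom.transfer (MonoidHom.id A)
    have hT1 : T z = 1 := by
      have : commutator G ≤ T.ker := Abelianization.commutator_subset_ker T
      exact this hzG
    have hT2 : (T z : G) = z ^ A.index := by
      have key : ∀ (k : ℕ) (g₀ : G), g₀⁻¹ * z ^ k * g₀ ∈ A → g₀⁻¹ * z ^ k * g₀ = z ^ k := by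
        intro k g₀ _
        have : z ^ k ∈ center G := (center G).pow_mem hzZ k
        rw [mul_assoc, ← mem_center_iff.mp this g₀, inv_mul_cancel_left]
      have := MonoidHom.transfer_eq_pow (MonoidHom.id A) z key
      rw [show T z = _ from this]; rfl
    rw [hT1] at hT2
    have hz1 : z = 1 := by
      have h3 : z ^ Nat.card A = 1 := by
        have := pow_card_eq_one' (G := A) (x := ⟨z, hzA⟩)
        exact congrArg Subtype.val this
      have h4 : orderOf z ∣ Nat.gcd (Nat.card A) A.index :=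
        Nat.dvd_gcd (orderOf_dvd_of_pow_eq_one h3) (orderOf_dvd_of_pow_eq_one hT2.symm)
      rw [hHall.gcd_eq_one, Nat.dvd_one, orderOf_eq_one_iff] at h4
      exact h4
    rw [hz1, one_mul]
    exact hc'
  have hDeq : D = commutator G ⊓ A := le_antisymm (le_inf hDG hDA) hkey
  refine ⟨hDeq, ?_, ?_⟩
  · rw [← hDeq, inf_comm]; exact h1
  · rw [← hDeq, sup_comm]; exact h2

end Cfsg.Agent.S0090
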