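import Cfsg.Statements.S0092
import Cfsg.Agent.S0075
import Cfsg.Agent.Lib.Helper2.PResidual2
import Cfsg.Agent.Lib.Helper24.CoprimeAbelian
import Cfsg.Agent.Lib.Helper24.RelSZ
import Cfsg.Agent.Lib.Helper72.SylowProd
import Cfsg.Agent.Lib.Helper32.PPrimeP

set_option autoImplicit false
open Cfsg

namespace Cfsg.Agent.S0092

open Cfsg.Agent.Lib.Helper2
open Cfsg.Agent.Lib.Helper24
open Cfsg.Agent.Lib.Helper33
open scoped commutatorElement

/-- Splitting criterion: if `N ⊴ G`, `G = P N` for a Sylow `p`-subgroup `P`, `Q = P ∩ N` is abelian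
and `Q = [Q, N_N(Q)]`, then `G` splits over `N`. -/
theorem splits_of_eq_commutator {G : Type*} [Group G] [Finite G] {p : ℕ} [Fact p.Prime]
    (N : Subgroup G) [hN : N.Normal] (P : Sylow p G) (hPN : (P : Subgroup G) ⊔ N = ⊤)
    (hcomm : ∀ x ∈ (P : Subgroup G) ⊓ N, ∀ y ∈ (P : Subgroup G) ⊓ N, x * y = y * x)
    (hQ : (P : Subgroup G) ⊓ N =
      ⁅(P : Subgroup G) ⊓ N, Subgroup.normalizer (((P : Subgroup G) ⊓ N : Subgroup G) : Set G) ⊓ N⁆) :
    ∃ K : Subgroup G, K.IsComplement' N := by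
  have hp : p.Prime := Fact.out
  set Q : Subgroup G := (P : Subgroup G) ⊓ N with hQdef
  set L : Subgroup G := Subgroup.normalizer (Q : Set G) ⊓ N with hLdef
  have hQL : Q ≤ L := le_inf Subgroup.le_normalizer inf_le_right
  have hLnorm : L ≤ Subgroup.normalizer (Q : Set G) := inf_le_left
  haveI hQc : IsMulCommutative Q := ⟨⟨fun a b => Subtype.ext (hcomm a a.2 b b.2)⟩⟩
  have hQp : IsPGroup p Q := P.2.to_le inf_le_left
  obtain ⟨n, hn⟩ := IsPGroup.iff_card.mp hQp
  have hcop0 : (Nat.card Q).Coprime (Q.relIndex L) := by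
    rw [hn]
    apply Nat.Coprime.pow_left
    rw [Nat.Prime.coprime_iff_not_dvd hp]
    intro hdvd
    have h1 : Q.relIndex L ∣ Q.relIndex N :=
      Dvd.intro _ (Subgroup.relIndex_mul_relIndex Q L N hQL inf_le_right)
    exact Cfsg.Agent.Lib.Helper32.not_dvd_relIndex_inf_normal P N (hdvd.trans h1)
  obtain ⟨H, hHL, hHcard, hHQ, hHsup⟩ := rel_sz_exists Q L hQL hLnorm hcop0
  have hHN : H ≤ Subgroup.normalizer (Q : Set G) := hHL.trans hLnorm
  have hcop : (Nat.card H).Coprime (Nat.card Q) := by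
    rw [hHcard]; exact hcop0.symm
  have hsolvQ : Group.IsSolvable Q := by
    let _ : CommGroup Q := { mul_comm := hQc.is_comm.comm }
    infer_instance
  -- [Q, L] ≤ [Q, H]
  have h4 : ⁅Q, L⁆ ≤ ⁅Q, H⁆ := by
    rw [Subgroup.commutator_le]
    intro t ht y hy
    have hy' : y ∈ ((H ⊔ Q : Subgroup G) : Set G) := by
      rw [hHsup]; exact hy
    rw [Subgroup.coe_mul_of_left_le_normalizer_right H Q hHN] at hy'
    obtain ⟨h, hh, s, hs, rfl⟩ := hy'
    have e2 : s * t⁻¹ = t⁻¹ * s := hcomm s hs t⁻¹ (Q.inv_mem ht)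
    have e3 : ⁅t, h * s⁆ = ⁅t, h⁆ := by
      rw [commutatorElement_def, commutatorElement_def]
      calc t * (h * s) * t⁻¹ * (h * s)⁻¹ = t * h * (s * t⁻¹) * s⁻¹ * h⁻¹ := by group
        _ = t * h * (t⁻¹ * s) * s⁻¹ * h⁻¹ := by rw [e2]
        _ = t * h * t⁻¹ * h⁻¹ := by group
    rw [e3]
    exact Subgroup.commutator_mem_commutator ht hh
  have h2 : ⁅Q, H⁆ ⊓ Subgroup.centralizer (H : Set G) = ⊥ :=
    commutator_inf_centralizer_eq_bot_of_abelian Q H hHN hcop
  have hQCH : Q ⊓ Subgroup.centralizer (H : Set G) = ⊥ := by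
    rw [eq_bot_iff, ← h2]
    exact inf_le_inf_right _ (hQ.le.trans h4)
  -- Frattini: every element of N(Q) lies in Q * N(H)
  have hfrat : ∀ r ∈ Subgroup.normalizer (Q : Set G), ∃ q ∈ Q,
      q⁻¹ * r ∈ Subgroup.normalizer (H : Set G) := by
    intro r hr
    have hle : cj r H ≤ H ⊔ Q := by
      rw [hHsup]
      intro y hy
      rw [mem_cj] at hy
      have hyL : r⁻¹ * y * r ∈ L := hHL hy
      have e : y = r * (r⁻¹ * y * r) * r⁻¹ := by group
      refine Subgroup.mem_inf.mpr ⟨?_, ?_⟩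
      · rw [e]
        exact Subgroup.mul_mem _ (Subgroup.mul_mem _ hr (Subgroup.mem_inf.mp hyL).1)
          (Subgroup.inv_mem _ hr)
      · rw [e]
        exact hN.conj_mem _ (Subgroup.mem_inf.mp hyL).2 r
    obtain ⟨q, hq, hconj⟩ := rel_sz_conj Q H (cj r H) hHN hcop (Or.inl hsolvQ) hle (card_cj r H)
    refine ⟨q, hq, ?_⟩
    rw [← cj_eq_self_iff, cj_mul, ← hconj, cj_inv_cj]
  have hPnorm : (P : Subgroup G) ≤ Subgroup.normalizer (Q : Set G) := by
    intro x hx
    rw [Subgroup.mem_normalizer_iff]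
    intro y
    constructor
    · intro hy
      obtain ⟨hy1, hy2⟩ := Subgroup.mem_inf.mp hy
      exact Subgroup.mem_inf.mpr
        ⟨Subgroup.mul_mem _ (Subgroup.mul_mem _ hx hy1) (Subgroup.inv_mem _ hx),
          hN.conj_mem _ hy2 x⟩
    · intro hy
      obtain ⟨hy1, hy2⟩ := Subgroup.mem_inf.mp hy
      have e : y = x⁻¹ * (x * y * x⁻¹) * x := by group
      refine Subgroup.mem_inf.mpr ⟨?_, ?_⟩
      · rw [e]
        exact Subgroup.mul_mem _ (Subgroup.mul_mem _ (Subgroup.inv_mem _ hx) hy1) hx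
      · have := hN.conj_mem _ hy2 x⁻¹
        rw [e]; simpa using this
  refine ⟨(P : Subgroup G) ⊓ Subgroup.normalizer (H : Set G), ?_⟩
  apply Subgroup.isComplement'_of_disjoint_and_mul_eq_univ
  · rw [disjoint_iff, eq_bot_iff, ← hQCH]
    intro x hx
    obtain ⟨hx1, hxN⟩ := Subgroup.mem_inf.mp hx
    obtain ⟨hxP, hxH⟩ := Subgroup.mem_inf.mp hx1
    have hxQ : x ∈ Q := Subgroup.mem_inf.mpr ⟨hxP, hxN⟩
    refine Subgroup.mem_inf.mpr ⟨hxQ, ?_⟩
    rw [Subgroup.mem_centralizer_iff]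
    intro h hh
    -- ⁅x, h⁆ ∈ H ⊓ Q = ⊥
    have h1 : ⁅x, h⁆ ∈ H := by
      rw [commutatorElement_def]
      have : x * h * x⁻¹ ∈ H := (Subgroup.mem_normalizer_iff.mp hxH h).mp hh
      exact H.mul_mem this (H.inv_mem hh)
    have h3 : ⁅x, h⁆ ∈ Q := by
      rw [commutatorElement_def]
      have : h * x⁻¹ * h⁻¹ ∈ Q := (Subgroup.mem_normalizer_iff.mp (hHN hh) x⁻¹).mp (Q.inv_mem hxQ)
      have e : x * h * x⁻¹ * h⁻¹ = x * (h * x⁻¹ * h⁻¹) := by group
      rw [e]
      exact Q.mul_mem hxQ this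
    have h5 : ⁅x, h⁆ ∈ H ⊓ Q := Subgroup.mem_inf.mpr ⟨h1, h3⟩
    rw [hHQ, Subgroup.mem_bot, commutatorElement_eq_one_iff_commute] at h5
    exact h5.eq.symm
  · rw [← Subgroup.mul_normal]
    have : ((P : Subgroup G) ⊓ Subgroup.normalizer (H : Set G)) ⊔ N = ⊤ := by
      rw [eq_top_iff, ← hPN]
      apply sup_le _ le_sup_right
      intro x hx
      obtain ⟨q, hq, hqx⟩ := hfrat x (hPnorm hx)
      have e : x = (q⁻¹ * x) * (x⁻¹ * q * x) := by group
      rw [e]
      apply Subgroup.mul_mem_sup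
      · exact Subgroup.mem_inf.mpr
          ⟨Subgroup.mul_mem _ (Subgroup.inv_mem _ (Subgroup.mem_inf.mp hq).1) hx, hqx⟩
      · have := hN.conj_mem _ (Subgroup.mem_inf.mp hq).2 x⁻¹
        simpa [mul_assoc] using this
    rw [this]; rfl

/-- `O^p(O^p(G)) = O^p(G)`. -/
theorem pResidual_pResidual_eq_top {G : Type*} [Group G] (p : ℕ) [Fact p.Prime] :
    Cfsg.pResidual p (Cfsg.pResidual p G) = ⊤ := by
  rw [eq_top_iff]
  intro x _
  have h1 := pResidual_le_map_pResidual (p := p) (Cfsg.pResidual p G)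
    (fun g hg => mem_pResidual_of_coprime hg) x.2
  obtain ⟨y, hy, hyx⟩ := h1
  have : y = x := Subtype.ext hyx
  rwa [← this]

/-- If the Sylow p-subgroups of O^p(G) are abelian then G splits over O^p(G). -/
theorem result {G : Type*} [Group G] [Finite G] {p : ℕ} [Fact p.Prime] (h : ∀ Q : Sylow p (Cfsg.pResidual p G), IsMulCommutative Q) : ∃ K : Subgroup G, K.IsComplement' (Cfsg.pResidual p G) := by
  have hN := pResidual_normal (G := G) p
  obtain ⟨P⟩ : Nonempty (Sylow p G) := inferInstance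
  set N := Cfsg.pResidual p G with hNdef
  let T : Sylow p N := Cfsg.Agent.Lib.Helper72.sylowInfNormal N P
  have hT : IsMulCommutative T := h T
  have hTcoe : (T : Subgroup N) = ((P : Subgroup G) ⊓ N).subgroupOf N :=
    Cfsg.Agent.Lib.Helper72.coe_sylowInfNormal N P
  have h75 := Cfsg.Agent.S0075.result T hT
  rw [pResidual_pResidual_eq_top, inf_top_eq] at h75
  apply splits_of_eq_commutator N P (sylow_sup_pResidual P)
  · intro x hx y hy
    have hx' : (⟨x, (Subgroup.mem_inf.mp hx).2⟩ : N) ∈ (T : Subgroup N) := by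
      rw [hTcoe, Subgroup.mem_subgroupOf]; exact hx
    have hy' : (⟨y, (Subgroup.mem_inf.mp hy).2⟩ : N) ∈ (T : Subgroup N) := by
      rw [hTcoe, Subgroup.mem_subgroupOf]; exact hy
    have := hT.is_comm.comm (⟨_, hx'⟩ : (T : Subgroup N)) ⟨_, hy'⟩
    have := congrArg (fun z : (T : Subgroup N) => ((z : N) : G)) this
    simpa using this
  · have h1 := congrArg (Subgroup.map N.subtype) h75
    rw [Subgroup.map_commutator] at h1
    have e1 : (T : Subgroup N).map N.subtype = (P : Subgroup G) ⊓ N := by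
      rw [hTcoe, Subgroup.subgroupOf_map_subtype, inf_assoc, inf_idem]
    have e2 : (Subgroup.normalizer (T : Set N)).map N.subtype =
        Subgroup.normalizer ((((P : Subgroup G) ⊓ N : Subgroup G)) : Set G) ⊓ N := by
      change (Subgroup.normalizer (((T : Subgroup N)) : Set N)).map N.subtype = _
      rw [hTcoe, ← Subgroup.subgroupOf_normalizer_eq inf_le_right, Subgroup.subgroupOf_map_subtype]
    rw [e1, e2] at h1
    exact h1

end Cfsg.Agent.S0092
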