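import Cfsg.Statements.S0094
import Cfsg.Agent.Lib.Helper2.PGroup

set_option autoImplicit false
open Cfsg

namespace Cfsg.Agent.S0094

open Cfsg.Agent.Lib.Helper2
open scoped commutatorElement

/-- In a special p-group every central element has order dividing p. -/
theorem result {P : Type*} [Group P] [Finite P] {p : ℕ} [Fact p.Prime] (h : Cfsg.IsSpecial p P) (z : P) (hz : z ∈ Subgroup.center P) : z ^ p = 1 := by
  obtain ⟨hP, hfr, hcomm⟩ := h
  rw [← hcomm, commutator_eq_closure] at hz
  have hcl : Subgroup.closure (commutatorSet P) = Subgroup.center P := by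
    rw [← commutator_eq_closure, hcomm]
  induction hz using Subgroup.closure_induction with
  | mem x hx =>
    obtain ⟨a, b, rfl⟩ := hx
    have hab : ⁅a, b⁆ ∈ Subgroup.center P := by
      rw [← hcl]; exact Subgroup.subset_closure ⟨a, b, rfl⟩
    have hc : Commute ⁅a, b⁆ a := by
      rw [Subgroup.mem_center_iff] at hab
      exact (hab a).symm
    rw [← commutator_pow_left a b hc p]
    have hap : a ^ p ∈ Subgroup.center P := by
      rw [← hfr]; exact pow_mem_frattini hP a
    rw [Subgroup.mem_center_iff] at hap
    rw [commutatorElement_eq_one_iff_mul_comm]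
    exact (hap b).symm
  | one => simp
  | mul x y hx hy ihx ihy =>
    have hxc : x ∈ Subgroup.center P := by rw [← hcl]; exact hx
    rw [Subgroup.mem_center_iff] at hxc
    have : Commute x y := (hxc y).symm
    rw [this.mul_pow, ihx, ihy, one_mul]
  | inv x hx ih =>
    rw [inv_pow, ih, inv_one]

end Cfsg.Agent.S0094
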