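import Cfsg.Statements.S0096
import Cfsg.Agent.Lib.Helper2.ClassTwo

set_option autoImplicit false
open Cfsg

namespace Cfsg.Agent.S0096

open Cfsg.Agent.Lib.Helper2
open scoped commutatorElement

theorem commutator_central {P : Type*} [Group P] (h2 : ⁅commutator P, (⊤ : Subgroup P)⁆ = ⊥)
    (a b z : P) : Commute ⁅a, b⁆ z := by
  have h1 : ⁅a, b⁆ ∈ commutator P :=
    Subgroup.commutator_mem_commutator (Subgroup.mem_top a) (Subgroup.mem_top b)
  have h3 : ⁅⁅a, b⁆, z⁆ ∈ ⁅commutator P, (⊤ : Subgroup P)⁆ :=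
    Subgroup.commutator_mem_commutator h1 (Subgroup.mem_top z)
  rw [h2, Subgroup.mem_bot, commutatorElement_eq_one_iff_mul_comm] at h3
  exact h3

theorem pow_eq_one_of_mem_closure {P : Type*} [Group P] {p : ℕ} (hp : p.Prime) (hp2 : p ≠ 2)
    (h2 : ⁅commutator P, (⊤ : Subgroup P)⁆ = ⊥) (g : P)
    (hg : g ∈ Subgroup.closure {x : P | x ^ p = 1}) : g ^ p = 1 := by
  induction hg using Subgroup.closure_induction with
  | mem x hx => exact hx
  | one => simp
  | mul x y _ _ ihx ihy =>
    have hc : ⁅y, x⁆ ^ p = 1 := by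
      rw [← commutator_pow_right y x (commutator_central h2 y x x) p, ihx]
      simp
    rw [mul_pow_prime_of_commutator_central hp hp2 x y (commutator_central h2 y x x)
      (commutator_central h2 y x y) hc, ihx, ihy, one_mul]
  | inv x _ ih => rw [inv_pow, ih, inv_one]

/-- For odd p, in a p-group of class at most two the elements of order dividing p generate a subgroup of exponent dividing p. -/
theorem result {P : Type*} [Group P] [Finite P] {p : ℕ} [Fact p.Prime] (hp : p ≠ 2) (hP : IsPGroup p P) (h2 : ⁅commutator P, (⊤ : Subgroup P)⁆ = ⊥) (g : P) (hg : g ∈ Subgroup.closure {x : P | x ^ p = 1}) : g ^ p = 1 :=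
  pow_eq_one_of_mem_closure Fact.out hp h2 g hg

end Cfsg.Agent.S0096
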