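import Cfsg.Statements.S0097
import Cfsg.Agent.S0096
import Cfsg.Agent.S0094

set_option autoImplicit false
open Cfsg

namespace Cfsg.Agent.S0097

open Cfsg.Agent.Lib.Helper2
open scoped commutatorElement

/-- For odd p and E extraspecial, the subgroup generated by the elements of order dividing p has exponent dividing p and index at most p. -/
theorem result {E : Type*} [Group E] [Finite E] {p : ℕ} [Fact p.Prime] (hp : p ≠ 2) (h : Cfsg.IsExtraspecial p E) : (Subgroup.closure {x : E | x ^ p = 1}).index ≤ p ∧ ∀ g ∈ Subgroup.closure {x : E | x ^ p = 1}, g ^ p = 1 := by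
  obtain ⟨hsp, hcard⟩ := h
  have hsp' := hsp
  obtain ⟨hP, hfr, hcomm⟩ := hsp
  have hpp : p.Prime := Fact.out
  have h2 : ⁅commutator E, (⊤ : Subgroup E)⁆ = ⊥ := by
    rw [hcomm, eq_bot_iff, Subgroup.commutator_le]
    intro z hz g _
    rw [Subgroup.mem_bot, commutatorElement_eq_one_iff_mul_comm]
    exact ((Subgroup.mem_center_iff.mp hz) g).symm
  refine ⟨?_, fun g hg => Cfsg.Agent.S0096.pow_eq_one_of_mem_closure hpp hp h2 g hg⟩
  -- the p-th power homomorphism into the centre
  have hpow_mem : ∀ x : E, x ^ p ∈ Subgroup.center E := fun x => by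
    rw [← hfr]; exact pow_mem_frattini hP x
  have hmul : ∀ x y : E, (x * y) ^ p = x ^ p * y ^ p := by
    intro x y
    have hc : ⁅y, x⁆ ^ p = 1 := by
      apply Cfsg.Agent.S0094.result hsp'
      rw [← hcomm]
      exact Subgroup.commutator_mem_commutator (Subgroup.mem_top y) (Subgroup.mem_top x)
    exact mul_pow_prime_of_commutator_central hpp hp x y
      (Cfsg.Agent.S0096.commutator_central h2 y x x) (Cfsg.Agent.S0096.commutator_central h2 y x y) hc
  let φ : E →* Subgroup.center E :=
    { toFun := fun x => ⟨x ^ p, hpow_mem x⟩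
      map_one' := by apply Subtype.ext; simp
      map_mul' := fun x y => by apply Subtype.ext; exact hmul x y }
  have hker : φ.ker ≤ Subgroup.closure {x : E | x ^ p = 1} := by
    intro x hx
    apply Subgroup.subset_closure
    have : φ x = 1 := hx
    exact congrArg Subtype.val this
  have h1 : (Subgroup.closure {x : E | x ^ p = 1}).index ∣ φ.ker.index :=
    Subgroup.index_dvd_of_le hker
  have h3 : φ.ker.index = Nat.card φ.range := Subgroup.index_ker φ
  have h4 : Nat.card φ.range ≤ Nat.card (Subgroup.center E) :=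
    Nat.card_le_card_of_injective _ (Subgroup.subtype_injective _)
  have h5 : φ.ker.index ≠ 0 := Subgroup.index_ne_zero_of_finite
  have h6 := Nat.le_of_dvd (Nat.pos_of_ne_zero h5) h1
  omega

end Cfsg.Agent.S0097
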