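import Cfsg.Statements.S0098
import Cfsg.Agent.Lib.Helper2.Extra2

set_option autoImplicit false
open Cfsg

namespace Cfsg.Agent.S0098

theorem like_of_extraspecial {E : Type*} [Group E] {p : ℕ} (h : Cfsg.IsExtraspecial p E)
    (he : Monoid.exponent E = p) : Cfsg.Agent.Lib.Helper2.Extra.Like p E := by
  refine ⟨fun x => ?_, h.2, h.1.2.2.le⟩
  rw [← he]
  exact Monoid.pow_exponent_eq_one x

/-- For odd p, extraspecial p-groups of exponent p are determined up to isomorphism by their order. -/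
theorem result {E₁ : Type*} {E₂ : Type*} [Group E₁] [Group E₂] [Finite E₁] [Finite E₂] {p : ℕ} [Fact p.Prime] (hp : p ≠ 2) (h₁ : Cfsg.IsExtraspecial p E₁) (h₂ : Cfsg.IsExtraspecial p E₂) (he₁ : Monoid.exponent E₁ = p) (he₂ : Monoid.exponent E₂ = p) (hc : Nat.card E₁ = Nat.card E₂) : Nonempty (E₁ ≃* E₂) := by
  exact Cfsg.Agent.Lib.Helper2.Extra.nonempty_mulEquiv_of_like (like_of_extraspecial h₁ he₁)
    (like_of_extraspecial h₂ he₂) hc

end Cfsg.Agent.S0098
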