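import Cfsg.Statements.S0100
import Mathlib
import Cfsg.Agent.Lib.Helper32.PGroupCenter
import Cfsg.Agent.Lib.Helper68.Omega
import Cfsg.Agent.Lib.Helper29.PGroupNormal

set_option autoImplicit false
set_option linter.style.haveILetI false
open Cfsg

namespace Cfsg.Agent.S0100

open scoped commutatorElement
open scoped Pointwise

section alperin
variable {P : Type*} [Group P]

/-- depth subgroups: preimages of the upper central series of `P ⧸ A`. -/
def dep (A : Subgroup P) [A.Normal] (j : ℕ) : Subgroup P :=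
  (Subgroup.upperCentralSeries (P ⧸ A) j).comap (QuotientGroup.mk' A)

theorem mem_dep_zero (A : Subgroup P) [A.Normal] {x : P} : x ∈ dep A 0 ↔ x ∈ A := by
  unfold dep
  rw [Subgroup.upperCentralSeries_zero, MonoidHom.comap_bot, QuotientGroup.ker_mk']

theorem mem_dep_succ (A : Subgroup P) [A.Normal] {j : ℕ} {x : P} :
    x ∈ dep A (j + 1) ↔ ∀ g : P, x * g * x⁻¹ * g⁻¹ ∈ dep A j := by
  unfold dep
  rw [Subgroup.mem_comap, Subgroup.mem_upperCentralSeries_succ_iff]
  constructor
  · intro h g
    have := h (QuotientGroup.mk' A g)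
    rw [Subgroup.mem_comap]
    rw [commutatorElement_def] at this
    simpa using this
  · intro h y
    obtain ⟨g, rfl⟩ := QuotientGroup.mk'_surjective A y
    have := h g
    rw [Subgroup.mem_comap] at this
    rw [commutatorElement_def]
    simpa using this

instance dep_normal (A : Subgroup P) [A.Normal] (j : ℕ) : (dep A j).Normal := by
  unfold dep
  infer_instance

theorem exists_dep_eq_top [Finite P] {p : ℕ} [Fact p.Prime] (hP : IsPGroup p P) (A : Subgroup P)
    [A.Normal] : ∃ n, dep A n = ⊤ := by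
  have hQ : IsPGroup p (P ⧸ A) := hP.to_quotient A
  haveI : Group.IsNilpotent (P ⧸ A) := hQ.isNilpotent
  obtain ⟨n, hn⟩ := Group.IsNilpotent.nilpotent (G := P ⧸ A)
  refine ⟨n, ?_⟩
  unfold dep
  rw [hn, Subgroup.comap_top]

/-- Alperin's theorem for exponent `p`, `p` odd. -/
theorem alperin [Finite P] {p : ℕ} [hpf : Fact p.Prime] (hodd : p ≠ 2) (hP : IsPGroup p P)
    (A : Subgroup P) [hAn : A.Normal]
    (hAc : ∀ a ∈ A, ∀ b ∈ A, a * b = b * a) (hAe : ∀ a ∈ A, a ^ p = 1)
    (hmax : ∀ B : Subgroup P, B.Normal → (∀ a ∈ B, ∀ b ∈ B, a * b = b * a) →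
      (∀ b ∈ B, b ^ p = 1) → A ≤ B → B = A)
    (x : P) (hx : x ∈ Subgroup.centralizer (A : Set P)) (hxp : x ^ p = 1) : x ∈ A := by
  have hp : p.Prime := hpf.out
  -- commuting facts
  have hcomm : ∀ c ∈ Subgroup.centralizer (A : Set P), ∀ a ∈ A, a * c = c * a := by
    intro c hc a ha
    exact Subgroup.mem_centralizer_iff.mp hc a ha
  -- (STAR)
  have star : ∀ x ∈ Subgroup.centralizer (A : Set P), x ^ p = 1 →
      (∀ g : P, x * g * x⁻¹ * g⁻¹ ∈ A) → x ∈ A := by
    intro x hxC hxp hxg
    have hset : ((A ⊔ Subgroup.zpowers x : Subgroup P) : Set P) = (A : Set P) * (Subgroup.zpowers x : Set P) :=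
      Subgroup.normal_mul A (Subgroup.zpowers x)
    have hmem : ∀ b ∈ A ⊔ Subgroup.zpowers x, ∃ a ∈ A, ∃ k : ℤ, b = a * x ^ k := by
      intro b hb
      have hb' : b ∈ ((A ⊔ Subgroup.zpowers x : Subgroup P) : Set P) := hb
      rw [hset, Set.mem_mul] at hb'
      obtain ⟨a, ha, z, hz, rfl⟩ := hb'
      obtain ⟨k, rfl⟩ := Subgroup.mem_zpowers_iff.mp hz
      exact ⟨a, ha, k, rfl⟩
    have hxk : ∀ k : ℤ, x ^ k ∈ Subgroup.centralizer (A : Set P) :=
      fun k => Subgroup.zpow_mem _ hxC k
    have hB : A ⊔ Subgroup.zpowers x = A := by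
      apply hmax
      · -- normal
        constructor
        intro b hb g
        obtain ⟨a, ha, k, rfl⟩ := hmem b hb
        have h1 : g * (a * x ^ k) * g⁻¹ = (g * a * g⁻¹) * (g * x * g⁻¹) ^ k := by
          rw [conj_zpow]; group
        rw [h1]
        apply mul_mem ((le_sup_left : A ≤ A ⊔ Subgroup.zpowers x) (hAn.conj_mem a ha g))
        apply Subgroup.zpow_mem
        have h2 : g * x * g⁻¹ = (x * g * x⁻¹ * g⁻¹)⁻¹ * x := by group
        rw [h2]
        exact mul_mem ((le_sup_left : A ≤ A ⊔ Subgroup.zpowers x) (A.inv_mem (hxg g)))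
          ((le_sup_right : Subgroup.zpowers x ≤ A ⊔ Subgroup.zpowers x) (Subgroup.mem_zpowers x))
      · -- commutative
        intro b hb b' hb'
        obtain ⟨a, ha, k, rfl⟩ := hmem b hb
        obtain ⟨a', ha', k', rfl⟩ := hmem b' hb'
        have e1 : a * x ^ k' = x ^ k' * a := hcomm _ (hxk k') a ha
        have e2 : a' * x ^ k = x ^ k * a' := hcomm _ (hxk k) a' ha'
        have e3 : x ^ k * x ^ k' = x ^ k' * x ^ k := (Commute.zpow_zpow (Commute.refl x) k k').eq
        calc a * x ^ k * (a' * x ^ k') = a * (x ^ k * a') * x ^ k' := by group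
          _ = a * (a' * x ^ k) * x ^ k' := by rw [e2]
          _ = (a * a') * (x ^ k * x ^ k') := by group
          _ = (a' * a) * (x ^ k' * x ^ k) := by rw [hAc a ha a' ha', e3]
          _ = a' * (a * x ^ k') * x ^ k := by group
          _ = a' * (x ^ k' * a) * x ^ k := by rw [e1]
          _ = a' * x ^ k' * (a * x ^ k) := by group
      · -- exponent
        intro b hb
        obtain ⟨a, ha, k, rfl⟩ := hmem b hb
        have hc : Commute a (x ^ k) := hcomm _ (hxk k) a ha
        rw [hc.mul_pow, hAe a ha, one_mul, ← zpow_natCast, ← zpow_mul, mul_comm, zpow_mul,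
          zpow_natCast, hxp, one_zpow]
      · exact le_sup_left
    rw [← hB]
    exact (le_sup_right : Subgroup.zpowers x ≤ A ⊔ Subgroup.zpowers x) (Subgroup.mem_zpowers x)
  -- the main induction
  have key : ∀ m : ℕ, ∀ x ∈ Subgroup.centralizer (A : Set P), x ^ p = 1 → ∀ g : P,
      (x ∈ dep A m ∨ g ∈ dep A m) → x⁻¹ * g * x * g⁻¹ ∈ A := by
    intro m
    induction m with
    | zero =>
      intro x hxC _ g hor
      rcases hor with h | h
      · rw [mem_dep_zero] at h
        have : x⁻¹ * g * x * g⁻¹ = x⁻¹ * (g * x * g⁻¹) := by group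
        rw [this]
        exact A.mul_mem (A.inv_mem h) (hAn.conj_mem x h g)
      · rw [mem_dep_zero] at h
        have e := hcomm x hxC g h
        have : x⁻¹ * g * x * g⁻¹ = 1 := by
          calc x⁻¹ * g * x * g⁻¹ = x⁻¹ * (g * x) * g⁻¹ := by group
            _ = x⁻¹ * (x * g) * g⁻¹ := by rw [e]
            _ = 1 := by group
        rw [this]; exact A.one_mem
    | succ m ih =>
      -- T(m)
      have T : ∀ x ∈ Subgroup.centralizer (A : Set P), x ^ p = 1 → x ∈ dep A m → x ∈ A := by
        intro x hxC hxp hxD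
        apply star x hxC hxp
        intro g
        have h1 := ih x⁻¹ (Subgroup.inv_mem _ hxC) (by rw [inv_pow, hxp, inv_one]) g
          (Or.inl ((dep A m).inv_mem hxD))
        rwa [inv_inv] at h1
      intro x hxC hxp g hor
      obtain ⟨y, hy⟩ : ∃ y, y = x⁻¹ * g * x * g⁻¹ := ⟨_, rfl⟩
      rw [← hy]
      have hCn : (Subgroup.centralizer (A : Set P)).Normal := inferInstance
      have hyC : y ∈ Subgroup.centralizer (A : Set P) := by
        have : y = x⁻¹ * (g * x * g⁻¹) := by rw [hy]; group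
        rw [this]
        exact Subgroup.mul_mem _ (Subgroup.inv_mem _ hxC) (hCn.conj_mem x hxC g)
      have hyD : y ∈ dep A m := by
        rcases hor with h | h
        · have h1 := (mem_dep_succ A).mp ((dep A (m + 1)).inv_mem h) g
          rw [inv_inv] at h1
          rw [hy]; exact h1
        · have h1 := (mem_dep_succ A).mp h x
          have h2 := (dep_normal A m).conj_mem _ h1 x⁻¹
          have : y = x⁻¹ * (g * x * g⁻¹ * x⁻¹) * x⁻¹⁻¹ := by rw [hy]; group
          rw [this]; exact h2
      have hxy := ih x hxC hxp y (Or.inr hyD)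
      have hcA : ⁅y, x⁆ ∈ A := by
        have : ⁅y, x⁆ = x * (x⁻¹ * y * x * y⁻¹) * x⁻¹ := by
          rw [commutatorElement_def]; group
        rw [this]
        exact hAn.conj_mem _ hxy x
      have hcx : Commute ⁅y, x⁆ x := hcomm x hxC _ hcA
      have hcy : Commute ⁅y, x⁆ y := hcomm y hyC _ hcA
      have hform := Cfsg.Agent.Lib.Helper68.mul_pow_class2 x y hcx hcy p
      have hxyg : x * y = g * x * g⁻¹ := by rw [hy]; group
      have h1 : (x * y) ^ p = 1 := by
        rw [hxyg, conj_pow, hxp]; group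
      have hsum : ∃ t : ℕ, ∑ i ∈ Finset.range p, i = p * t := by
        have h2 := Finset.sum_range_id_mul_two p
        obtain ⟨t, ht⟩ : ∃ t, p - 1 = 2 * t := by
          have := hp.eq_one_or_self_of_dvd 2
          rcases Nat.even_or_odd p with he | ho
          · exfalso
            have := (Nat.Prime.even_iff hp).mp he
            exact hodd this
          · obtain ⟨s, hs⟩ := ho
            exact ⟨s, by omega⟩
        refine ⟨t, ?_⟩
        have h3 : (∑ i ∈ Finset.range p, i) * 2 = (p * t) * 2 := by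
          rw [h2, ht]; ring
        exact Nat.eq_of_mul_eq_mul_right (by norm_num) h3
      obtain ⟨t, ht⟩ := hsum
      have hcp : ⁅y, x⁆ ^ (∑ i ∈ Finset.range p, i) = 1 := by
        rw [ht, pow_mul, hAe _ hcA, one_pow]
      rw [h1, hxp, hcp, one_mul, mul_one] at hform
      exact T y hyC hform.symm hyD
  obtain ⟨n, hn⟩ := exists_dep_eq_top hP A
  apply star x hx hxp
  intro g
  have h1 := key n x⁻¹ (Subgroup.inv_mem _ hx) (by rw [inv_pow, hxp, inv_one]) g
    (Or.inl (hn ▸ Subgroup.mem_top _))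
  rwa [inv_inv] at h1

end alperin

section main
variable {P : Type*} [Group P] [Finite P] {p : ℕ} [hpf : Fact p.Prime]

/-- normal subgroups of all smaller orders inside a normal subgroup of a `p`-group -/
theorem exists_normal_le_card (hP : IsPGroup p P) :
    ∀ n : ℕ, ∀ T : Subgroup P, T.Normal → Nat.card T = p ^ n → ∀ k ≤ n,
      ∃ M : Subgroup P, M.Normal ∧ M ≤ T ∧ Nat.card M = p ^ k := by
  have hp : p.Prime := hpf.out
  intro n
  induction n with
  | zero =>
    intro T hT hc k hk
    have : k = 0 := by omega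
    exact ⟨T, hT, le_rfl, by rw [hc, this]⟩
  | succ n ih =>
    intro T hT hc k hk
    by_cases hkn : k = n + 1
    · exact ⟨T, hT, le_rfl, hkn ▸ hc⟩
    · have hT1 : T ≠ ⊥ := by
        intro h
        rw [h, Subgroup.card_bot] at hc
        have h1 : 1 < p ^ (n + 1) := Nat.one_lt_pow (Nat.succ_ne_zero n) hp.one_lt
        rw [← hc] at h1
        exact lt_irrefl _ h1
      haveI := hT
      obtain ⟨M, hMn, hMT, hMi⟩ := Cfsg.Agent.Lib.Helper29.exists_normal_relIndex_prime hP T hT1
      have hMc : Nat.card M = p ^ n := by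
        have h1 := Subgroup.relIndex_mul_relIndex (⊥ : Subgroup P) M T bot_le hMT.le
        rw [Subgroup.relIndex_bot_left, Subgroup.relIndex_bot_left, hMi, hc, pow_succ] at h1
        exact Nat.eq_of_mul_eq_mul_right hp.pos h1
      obtain ⟨M', h1, h2, h3⟩ := ih M hMn hMc k (by omega)
      exact ⟨M', h1, h2.trans hMT.le, h3⟩

omit [Finite P] hpf in
theorem index_centralizer_eq (x : P) :
    (Subgroup.centralizer ({x} : Set P)).index = (ConjClasses.mk x).carrier.ncard := by
  have h1 := Subgroup.index_comap_of_surjective (MulAction.stabilizer (ConjAct P) x)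
    (f := (ConjAct.toConjAct (G := P)).toMonoidHom) (ConjAct.toConjAct (G := P)).surjective
  refine (congrArg Subgroup.index (Subgroup.centralizer_eq_comap_stabilizer x)).trans
    (h1.trans ?_)
  rw [MulAction.index_stabilizer, ConjAct.orbit_eq_carrier_conjClasses]

omit [Finite P] hpf in
theorem lt_pow_imp {k : ℕ} (hp : p.Prime) (h : p < p ^ k) : 2 ≤ k := by
  by_contra hk
  push Not at hk
  have h1 : p ^ k ≤ p ^ 1 := Nat.pow_le_pow_right hp.pos (by omega)
  rw [pow_one] at h1
  omega

end main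

/-- For odd p, a p-group without normal elementary abelian subgroups of order p^3 has p-rank at most 2. -/
theorem result {P : Type*} [Group P] [Finite P] {p : ℕ} [Fact p.Prime] (hp : p ≠ 2) (hP : IsPGroup p P) (h : ∀ A : Subgroup P, A.Normal → IsMulCommutative A → (∀ a ∈ A, a ^ p = 1) → Nat.card A ≠ p ^ 3) (E : Subgroup P) (hE : IsMulCommutative E) (hEe : ∀ e ∈ E, e ^ p = 1) : Nat.card E ≤ p ^ 2 := by
  classical
  have hpp : p.Prime := Fact.out
  -- a maximal normal abelian subgroup of exponent `p`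
  have hbot : (fun B : Subgroup P => B.Normal ∧ (∀ a ∈ B, ∀ b ∈ B, a * b = b * a) ∧
      ∀ b ∈ B, b ^ p = 1) ⊥ := by
    refine ⟨inferInstance, ?_, ?_⟩
    · intro a ha b hb
      rw [Subgroup.mem_bot] at ha hb
      rw [ha, hb]
    · intro b hb
      rw [Subgroup.mem_bot] at hb
      rw [hb, one_pow]
  obtain ⟨A, -, ⟨hAn, hAc, hAe⟩, hAmax⟩ := Finite.exists_le_maximal
    (p := fun B : Subgroup P => B.Normal ∧ (∀ a ∈ B, ∀ b ∈ B, a * b = b * a) ∧
      ∀ b ∈ B, b ^ p = 1) hbot
  haveI := hAn
  have hmax : ∀ B : Subgroup P, B.Normal → (∀ a ∈ B, ∀ b ∈ B, a * b = b * a) →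
      (∀ b ∈ B, b ^ p = 1) → A ≤ B → B = A :=
    fun B h1 h2 h3 h4 => le_antisymm (hAmax ⟨h1, h2, h3⟩ h4) h4
  have halp : ∀ x ∈ Subgroup.centralizer (A : Set P), x ^ p = 1 → x ∈ A :=
    fun x hx hxp => alperin hp hP A hAc hAe hmax x hx hxp
  obtain ⟨k, hk⟩ := (hP.to_subgroup A).exists_card_eq
  have hk2 : k ≤ 2 := by
    by_contra hk3
    push Not at hk3
    obtain ⟨M, hMn, hMA, hMc⟩ := exists_normal_le_card hP k A hAn hk 3 hk3
    exact h M hMn ⟨⟨fun a b => Subtype.ext (hAc a (hMA a.2) b (hMA b.2))⟩⟩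
      (fun a ha => hAe a (hMA ha)) hMc
  have hEC : E ≤ Subgroup.centralizer (A : Set P) → Nat.card E ≤ p ^ 2 := by
    intro hle
    have hEA : E ≤ A := fun e he => halp e (hle he) (hEe e he)
    calc Nat.card E ≤ Nat.card A := Subgroup.card_le_of_le hEA
      _ = p ^ k := hk
      _ ≤ p ^ 2 := Nat.pow_le_pow_right hpp.pos hk2
  have hEcomm : ∀ a ∈ E, ∀ b ∈ E, a * b = b * a := by
    intro a ha b hb
    have := hE.is_comm.comm ⟨a, ha⟩ ⟨b, hb⟩
    exact congrArg Subtype.val this
  by_cases hAZ : A ≤ Subgroup.center P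
  · apply hEC
    intro e _
    rw [Subgroup.mem_centralizer_iff]
    intro a ha
    exact (Subgroup.mem_center_iff.mp (hAZ ha) e).symm
  · obtain ⟨a₁, ha₁, ha₁Z⟩ := SetLike.not_le_iff_exists.mp hAZ
    have hA1 : A ≠ ⊥ := by
      rintro rfl
      exact ha₁Z ((Subgroup.mem_bot.mp ha₁) ▸ Subgroup.one_mem _)
    obtain ⟨a₀, ha₀A, ha₀Z, ha₀1⟩ :=
      Cfsg.Agent.Lib.Helper32.exists_ne_one_mem_normal_inf_center hP A hA1
    have ha₀o : orderOf a₀ = p := orderOf_eq_prime (hAe a₀ ha₀A) ha₀1
    have hZ₀c : Nat.card (Subgroup.zpowers a₀) = p := by rw [Nat.card_zpowers, ha₀o]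
    have hZ₀Z : Subgroup.zpowers a₀ ≤ Subgroup.center P := (Subgroup.zpowers_le).mpr ha₀Z
    have ha₁Z₀ : a₁ ∉ Subgroup.zpowers a₀ := fun h => ha₁Z (hZ₀Z h)
    have hZ₀A : Subgroup.zpowers a₀ ≤ A := Subgroup.zpowers_le.mpr ha₀A
    have hk2' : k = 2 := by
      have hlt : Nat.card (Subgroup.zpowers a₀) < Nat.card A := by
        by_contra hge
        push Not at hge
        have := Subgroup.eq_of_le_of_card_ge hZ₀A hge
        exact ha₁Z₀ (this ▸ ha₁)
      rw [hZ₀c, hk] at hlt
      have := lt_pow_imp hpp hlt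
      omega
    have hAcard : Nat.card A = p ^ 2 := by rw [hk, hk2']
    have hgen : A = Subgroup.zpowers a₀ ⊔ Subgroup.zpowers a₁ := by
      symm
      apply Subgroup.eq_of_le_of_card_ge (sup_le hZ₀A (Subgroup.zpowers_le.mpr ha₁))
      have h2 : Nat.card (Subgroup.zpowers a₀) <
          Nat.card (Subgroup.zpowers a₀ ⊔ Subgroup.zpowers a₁ : Subgroup P) := by
        by_contra hge
        push Not at hge
        have := Subgroup.eq_of_le_of_card_ge
          (le_sup_left : Subgroup.zpowers a₀ ≤ Subgroup.zpowers a₀ ⊔ Subgroup.zpowers a₁) hge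
        apply ha₁Z₀
        rw [this]
        exact (le_sup_right : Subgroup.zpowers a₁ ≤ Subgroup.zpowers a₀ ⊔ Subgroup.zpowers a₁)
          (Subgroup.mem_zpowers a₁)
      obtain ⟨j, hj⟩ := (hP.to_subgroup
        (Subgroup.zpowers a₀ ⊔ Subgroup.zpowers a₁ : Subgroup P)).exists_card_eq
      rw [hZ₀c, hj] at h2
      rw [hAcard, hj]
      exact Nat.pow_le_pow_right hpp.pos (lt_pow_imp hpp h2)
    have hC' : Subgroup.centralizer ({a₁} : Set P) ≤ Subgroup.centralizer (A : Set P) := by
      intro g hg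
      rw [Subgroup.mem_centralizer_iff]
      intro a ha
      have hle : A ≤ Subgroup.centralizer ({g} : Set P) := by
        rw [hgen]
        apply sup_le
        · rw [Subgroup.zpowers_le, Subgroup.mem_centralizer_singleton_iff]
          exact (Subgroup.mem_center_iff.mp ha₀Z g).symm
        · rw [Subgroup.zpowers_le, Subgroup.mem_centralizer_singleton_iff]
          exact (Subgroup.mem_centralizer_singleton_iff.mp hg).symm
      exact Subgroup.mem_centralizer_singleton_iff.mp (hle ha)
    have hidx : (Subgroup.centralizer ({a₁} : Set P)).index ≤ p := by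
      have hsub : (ConjClasses.mk a₁).carrier ⊆
          (A : Set P) \ (Subgroup.zpowers a₀ : Set P) := by
        intro y hy
        rw [ConjClasses.mem_carrier_iff_mk_eq, ConjClasses.mk_eq_mk_iff_isConj, isConj_iff] at hy
        obtain ⟨c, hc⟩ := hy
        constructor
        · have h3 : c⁻¹ * a₁ * c⁻¹⁻¹ ∈ A := hAn.conj_mem a₁ ha₁ c⁻¹
          have h4 : c⁻¹ * a₁ * c⁻¹⁻¹ = y := by rw [← hc]; group
          rw [← h4]; exact h3
        · intro hyZ
          apply ha₁Z
          have hyc : y ∈ Subgroup.center P := hZ₀Z hyZ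
          have : a₁ = y := by
            rw [← hc]
            have := Subgroup.mem_center_iff.mp hyc c
            calc c * y * c⁻¹ = (y * c) * c⁻¹ := by rw [this]
              _ = y := by group
          rw [this]; exact hyc
      have hcard : ((A : Set P) \ (Subgroup.zpowers a₀ : Set P)).ncard = p ^ 2 - p := by
        rw [Set.ncard_sdiff (by exact_mod_cast hZ₀A) (Set.toFinite _)]
        rw [← _root_.Nat.card_coe_set_eq, ← _root_.Nat.card_coe_set_eq]
        show Nat.card A - Nat.card (Subgroup.zpowers a₀) = _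
        rw [hAcard, hZ₀c]
      have h1 := Set.ncard_le_ncard hsub (Set.toFinite _)
      rw [hcard, ← index_centralizer_eq] at h1
      obtain ⟨j, hj⟩ := hP.index (Subgroup.centralizer ({a₁} : Set P))
      rw [hj] at h1 ⊢
      have hj1 : j ≤ 1 := by
        by_contra hj2
        push Not at hj2
        have : p ^ 2 ≤ p ^ j := Nat.pow_le_pow_right hpp.pos hj2
        have hp0 := hpp.pos
        have : p ≤ p ^ 2 := by nlinarith
        omega
      calc p ^ j ≤ p ^ 1 := Nat.pow_le_pow_right hpp.pos hj1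
        _ = p := pow_one p
    by_contra hgt
    push Not at hgt
    obtain ⟨E₁, hE₁def⟩ : ∃ E₁ : Subgroup P, E₁ = E ⊓ Subgroup.centralizer ({a₁} : Set P) := ⟨_, rfl⟩
    have hE₁E : E₁ ≤ E := hE₁def ▸ inf_le_left
    have hE₁A : E₁ ≤ A := by
      intro e he
      rw [hE₁def] at he
      exact halp e (hC' he.2) (hEe e he.1)
    have hrel : E₁.relIndex E ≤ p := by
      rw [hE₁def, Subgroup.inf_relIndex_left]
      have h1 := Subgroup.relIndex_le_of_le_right (H := Subgroup.centralizer ({a₁} : Set P))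
        (le_top : E ≤ ⊤) (by rw [Subgroup.relIndex_top_right]; exact Subgroup.index_ne_zero_of_finite)
      rw [Subgroup.relIndex_top_right] at h1
      exact h1.trans hidx
    have hmul : Nat.card E₁ * E₁.relIndex E = Nat.card E := by
      have h1 := Subgroup.relIndex_mul_relIndex (⊥ : Subgroup P) E₁ E bot_le hE₁E
      rwa [Subgroup.relIndex_bot_left, Subgroup.relIndex_bot_left] at h1
    obtain ⟨e, he⟩ := (hP.to_subgroup E).exists_card_eq
    have he3 : 3 ≤ e := by
      by_contra he2
      push Not at he2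
      have : p ^ e ≤ p ^ 2 := Nat.pow_le_pow_right hpp.pos (by omega)
      omega
    have hE3 : p ^ 3 ≤ Nat.card E := by
      rw [he]; exact Nat.pow_le_pow_right hpp.pos he3
    have hE₁c : p ^ 2 ≤ Nat.card E₁ := by
      have h1 : Nat.card E ≤ Nat.card E₁ * p := by
        rw [← hmul]; exact Nat.mul_le_mul_left _ hrel
      have h2 : p ^ 3 = p ^ 2 * p := by ring
      have h3 : p ^ 2 * p ≤ Nat.card E₁ * p := by omega
      exact Nat.le_of_mul_le_mul_right h3 hpp.pos
    have hE₁eq : E₁ = A := Subgroup.eq_of_le_of_card_ge hE₁A (by rw [hAcard]; exact hE₁c)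
    have hAE : A ≤ E := hE₁eq ▸ hE₁E
    have := hEC (by
      intro e he
      rw [Subgroup.mem_centralizer_iff]
      intro a ha
      exact hEcomm a (hAE ha) e he)
    omega

end Cfsg.Agent.S0100
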