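import Cfsg.Statements.S0102
import Cfsg.Agent.S0101
import Cfsg.Agent.S0088
import Mathlib.GroupTheory.Perm.Cycle.Type

set_option autoImplicit false
open Cfsg

namespace Cfsg.Agent.S0102

/-- A finite perfect group with cyclic Sylow p-subgroups has no perfect central extension whose kernel has order divisible by p. -/
theorem result {G : Type*} {H : Type*} [Group G] [Group H] [Finite G] [Finite H] (hG : commutator G = ⊤) {p : ℕ} [Fact p.Prime] (hcyc : ∀ P : Sylow p G, IsCyclic P) (σ : H →* G) (hσ : Function.Surjective σ) (hz : σ.ker ≤ Subgroup.center H) (hH : commutator H = ⊤) : ¬ p ∣ Nat.card σ.ker := by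
  intro hdvd
  have hp : p.Prime := Fact.out
  obtain ⟨⟨z, hzk⟩, hzo⟩ := exists_prime_orderOf_dvd_card' (G := σ.ker) p hdvd
  have hzo' : orderOf z = p := by
    rw [← hzo, ← Subgroup.orderOf_coe]
  have hpg : IsPGroup p (Subgroup.zpowers z) := by
    apply IsPGroup.of_card (n := 1)
    rw [Nat.card_zpowers, hzo', pow_one]
  obtain ⟨P, hP⟩ := hpg.exists_le_sylow
  have hzP : z ∈ (P : Subgroup H) := hP (Subgroup.mem_zpowers z)
  -- P is cyclic
  have hQcyc : IsCyclic (P.mapSurjective hσ) := hcyc _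
  obtain ⟨⟨g, hgQ⟩, hg⟩ := hQcyc.exists_generator
  have hgQ' : g ∈ (P : Subgroup H).map σ := hgQ
  obtain ⟨x₀, hx₀P, hx₀⟩ := hgQ'
  have hfr : ∀ y : H, ∀ hy : y ∈ σ.ker ⊓ (P : Subgroup H),
      (⟨y, hy.2⟩ : (P : Subgroup H)) ∈ frattini (P : Subgroup H) := by
    intro y hy
    obtain ⟨w, hw, hwy⟩ := Cfsg.Agent.S0101.result σ hσ hz hH P hy
    have : w = ⟨y, hy.2⟩ := Subtype.ext hwy
    rw [← this]; exact hw
  have hgen : Subgroup.zpowers (⟨x₀, hx₀P⟩ : (P : Subgroup H)) ⊔ frattini (P : Subgroup H) = ⊤ := by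
    rw [eq_top_iff]
    rintro ⟨y, hyP⟩ -
    have hyQ : σ y ∈ (P.mapSurjective hσ) := ⟨y, hyP, rfl⟩
    obtain ⟨k, hk⟩ := Subgroup.mem_zpowers_iff.mp (hg ⟨σ y, hyQ⟩)
    have hk' : g ^ k = σ y := by
      have := congrArg Subtype.val hk
      rw [SubgroupClass.coe_zpow] at this
      exact this
    have hker : x₀ ^ (-k) * y ∈ σ.ker ⊓ (P : Subgroup H) := by
      refine Subgroup.mem_inf.mpr ⟨?_, (P : Subgroup H).mul_mem ((P : Subgroup H).zpow_mem hx₀P _) hyP⟩
      rw [MonoidHom.mem_ker, map_mul, map_zpow, hx₀, ← hk', zpow_neg, inv_mul_cancel]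
    have h1 := hfr _ hker
    have e : (⟨y, hyP⟩ : (P : Subgroup H)) =
        (⟨x₀, hx₀P⟩ : (P : Subgroup H)) ^ k * ⟨x₀ ^ (-k) * y, hker.2⟩ := by
      apply Subtype.ext
      simp [zpow_neg]
    rw [e]
    exact Subgroup.mul_mem_sup (Subgroup.zpow_mem _ (Subgroup.mem_zpowers _) k) h1
  have htop := frattini_nongenerating hgen
  have hPcyc : IsCyclic (P : Subgroup H) := isCyclic_iff_exists_zpowers_eq_top.mpr ⟨_, htop⟩
  have hPcomm : IsMulCommutative (P : Subgroup H) := IsCyclic.isMulCommutative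
  have h88 := Cfsg.Agent.S0088.result (P : Subgroup H) hPcomm P.card_coprime_index
  have hz1 : z ∈ (P : Subgroup H) ⊓ commutator H ⊓ Subgroup.center H :=
    ⟨⟨hzP, by rw [hH]; trivial⟩, hz hzk⟩
  rw [h88, Subgroup.mem_bot] at hz1
  rw [hz1, orderOf_one] at hzo'
  exact hp.one_lt.ne hzo'

end Cfsg.Agent.S0102
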