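import Cfsg.Statements.S0104
import Cfsg.Agent.Lib.Helper2.Basic

set_option autoImplicit false
open Cfsg

namespace Cfsg.Agent.S0104

open Cfsg.Agent.Lib.Helper2

/-- A subgroup Z of a Sylow p-subgroup P that is normalized by N_G(P) is weakly closed in P exactly when it is normal in every Sylow p-subgroup containing it. -/
theorem result {G : Type*} [Group G] [Finite G] {p : ℕ} [Fact p.Prime] (P : Sylow p G) (Z : Subgroup G) (hZP : Z ≤ (P : Subgroup G)) (hZN : Subgroup.normalizer (P : Set G) ≤ Subgroup.normalizer (Z : Set G)) : Cfsg.IsWeaklyClosed Z P ↔ ∀ R : Sylow p G, Z ≤ (R : Subgroup G) → (R : Subgroup G) ≤ Subgroup.normalizer (Z : Set G) := by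
  constructor
  · rintro ⟨-, hW⟩ R hZR
    have hPN : (P : Subgroup G) ≤ Subgroup.normalizer (Z : Set G) := by
      intro x hx
      apply Subgroup.mem_normalizer_iff_map_conj_eq.mpr
      apply hW x
      intro y hy
      rw [mem_map_conj_iff] at hy
      have h1 : y = x * (x⁻¹ * y * x) * x⁻¹ := by group
      rw [h1]
      exact Subgroup.mul_mem _ (Subgroup.mul_mem _ hx (hZP hy)) (Subgroup.inv_mem _ hx)
    obtain ⟨g, hg⟩ := MulAction.exists_smul_eq G P R
    have hginv : g⁻¹ ∈ Subgroup.normalizer (Z : Set G) := by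
      apply Subgroup.mem_normalizer_iff_map_conj_eq.mpr
      apply hW g⁻¹
      intro y hy
      rw [mem_map_conj_iff] at hy
      have h2 := hZR hy
      rw [← hg] at h2
      have h3 := (mem_smul_sylow_iff P g _).mp h2
      have h3' : y ∈ P := by simpa [mul_assoc] using h3
      exact h3'
    have hgN : g ∈ Subgroup.normalizer (Z : Set G) := by
      simpa using Subgroup.inv_mem _ hginv
    intro r hr
    have hr' : r ∈ g • P := by rw [hg]; exact hr
    have h3 := hPN ((mem_smul_sylow_iff P g _).mp hr')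
    have h4 : r = g * (g⁻¹ * r * g) * g⁻¹ := by group
    rw [h4]
    exact Subgroup.mul_mem _ (Subgroup.mul_mem _ hgN h3) hginv
  · intro h
    refine ⟨hZP, ?_⟩
    intro g hg
    have hPN := h P hZP
    have hZR : Z ≤ ((g⁻¹ • P : Sylow p G) : Subgroup G) := by
      intro z hz
      apply (mem_smul_sylow_iff P g⁻¹ z).mpr
      apply hg
      rw [mem_map_conj_iff]
      simpa [mul_assoc] using hz
    have hRN := h _ hZR
    obtain ⟨c, hc, hcR⟩ := sylow_conj_in_subgroup P (g⁻¹ • P) _ hPN hRN
    rw [smul_smul] at hcR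
    have h5 : c * g⁻¹ ∈ Subgroup.normalizer (Z : Set G) :=
      hZN (Sylow.smul_eq_iff_mem_normalizer.mp hcR)
    have h6 : g⁻¹ ∈ Subgroup.normalizer (Z : Set G) := by
      have : g⁻¹ = c⁻¹ * (c * g⁻¹) := by group
      rw [this]
      exact Subgroup.mul_mem _ (Subgroup.inv_mem _ hc) h5
    have h7 : g ∈ Subgroup.normalizer (Z : Set G) := by
      simpa using Subgroup.inv_mem _ h6
    exact Subgroup.mem_normalizer_iff_map_conj_eq.mp h7

end Cfsg.Agent.S0104
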