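import Cfsg.Statements.S0106
import Cfsg.Agent.S0071
import Cfsg.Agent.Lib.Helper2.PComplement
import Cfsg.Agent.Lib.Helper20.QuatSec4
-- import your own Cfsg.Agent.* helpers here

set_option autoImplicit false
set_option linter.style.haveILetI false
set_option linter.unusedSimpArgs false
open Cfsg
open Cfsg.Agent.Lib.Helper20

namespace Cfsg.Agent.S0106

/-- A finite group with generalized quaternion Sylow 2-subgroups either has a normal 2-complement or has a section isomorphic to SL(2,3). -/
theorem result {G : Type*} [Group G] [Finite G] (T : Sylow 2 G) (n : ℕ) (hn : 1 ≤ n) (hT : Nonempty ((T : Subgroup G) ≃* QuaternionGroup (2 ^ n))) : Cfsg.HasNormalPComplement 2 G ∨ ∃ (H K : Subgroup G) (hK : (K.subgroupOf H).Normal), Nonempty ((H ⧸ K.subgroupOf H) ≃* Matrix.SpecialLinearGroup (Fin 2) (ZMod 3)) := by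
  by_cases hnc : Cfsg.HasNormalPComplement 2 G
  · left; exact hnc
  · right
    obtain ⟨e⟩ := hT
    haveI : NeZero (2 ^ n) := ⟨by positivity⟩
    obtain ⟨A, z, hgq⟩ := QuatSec.gq_of_equiv (T : Subgroup G) (2 ^ n) e
    rw [Cfsg.Agent.Lib.Helper2.hasNormalPComplement_iff T, Cfsg.Agent.S0071.result T] at hnc
    push Not at hnc
    obtain ⟨Q, hQT, g, hg, hcop, hgc⟩ := hnc
    have hodd : Odd (orderOf g) := Nat.coprime_two_right.mp hcop
    have hnc' : ¬ ∀ q ∈ Q, g * q * g⁻¹ = q := by
      intro h
      apply hgc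
      rw [Subgroup.mem_centralizer_iff]
      intro q hq
      have := h q hq
      calc q * g = (g * q * g⁻¹) * g := by rw [this]
        _ = g * q := by group
    obtain ⟨i, r⟩ := QuatSec.exists_rel hgq T.2 Q hQT g hg hodd hnc'
    exact QuatSec.section_of_rel r hodd

end Cfsg.Agent.S0106
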