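import Cfsg.Statements.S0107
import Cfsg.Agent.Lib.Helper53.Transfer

set_option autoImplicit false
open Cfsg

namespace Cfsg.Agent.S0107

/-- A rotation of order two in a dihedral group of `2`-power degree is unique. -/
theorem rot_invol_unique {n : ℕ} {i j : ZMod (2 ^ n)} (hi : i + i = 0) (hi0 : i ≠ 0)
    (hj : j + j = 0) (hj0 : j ≠ 0) : i = j := by
  have hpos : 0 < 2 ^ n := by positivity
  have : NeZero (2 ^ n) := ⟨hpos.ne'⟩
  have key : ∀ k : ZMod (2 ^ n), k + k = 0 → k ≠ 0 → k.val + k.val = 2 ^ n := by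
    intro k hk hk0
    have h1 : (k + k).val = 0 := by rw [hk]; exact ZMod.val_zero
    rw [ZMod.val_add] at h1
    have hdvd : 2 ^ n ∣ k.val + k.val := Nat.dvd_of_mod_eq_zero h1
    have hlt : k.val < 2 ^ n := ZMod.val_lt k
    have hne : k.val ≠ 0 := fun h => hk0 ((ZMod.val_eq_zero k).mp h)
    exact Nat.eq_of_dvd_of_lt_two_mul (by omega) hdvd (by omega)
  have h1 := key i hi hi0
  have h2 := key j hj hj0
  apply ZMod.val_injective
  omega

/-- A finite group with no nontrivial 2-group quotient and dihedral Sylow 2-subgroups of order at least 8 has a single class of involutions. -/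
theorem result {G : Type*} [Group G] [Finite G] (T : Sylow 2 G) (n : ℕ) (hn : 2 ≤ n) (hT : Nonempty ((T : Subgroup G) ≃* DihedralGroup (2 ^ n))) (hO : Cfsg.pResidual 2 G = ⊤) (x y : G) (hx : orderOf x = 2) (hy : orderOf y = 2) : ∃ g : G, g * x * g⁻¹ = y := by
  obtain ⟨e⟩ := hT
  have hpos : 0 < 2 ^ n := by positivity
  have : NeZero (2 ^ n) := ⟨hpos.ne'⟩
  -- the rotation subgroup
  set R : Subgroup (DihedralGroup (2 ^ n)) := Subgroup.zpowers (DihedralGroup.r 1) with hR
  set M₀ : Subgroup (T : Subgroup G) := R.comap e.toMonoidHom with hM₀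
  set M : Subgroup G := M₀.map (T : Subgroup G).subtype with hM
  have hRidx : R.index = 2 := by
    have h1 := Subgroup.card_mul_index R
    rw [DihedralGroup.nat_card, hR, Nat.card_zpowers, DihedralGroup.orderOf_r_one] at h1
    have : 2 ^ n * R.index = 2 ^ n * 2 := by rw [h1]; ring
    exact Nat.eq_of_mul_eq_mul_left hpos this
  have hM₀idx : M₀.index = 2 := by
    rw [hM₀, Subgroup.index_comap_of_surjective _ e.surjective]; exact hRidx
  have hMrel : M.relIndex (T : Subgroup G) = 2 := by
    rw [Subgroup.relIndex, Subgroup.subgroupOf, hM,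
      Subgroup.comap_map_eq_self_of_injective (Subgroup.subtype_injective _)]
    exact hM₀idx
  have hord : ∀ z ∈ (T : Subgroup G), z ∉ M → 2 ^ (1 - 1) < orderOf z := by
    intro z _ hzM
    have hz1 : z ≠ 1 := fun h => hzM (h ▸ M.one_mem)
    have h1 : orderOf z ≠ 1 := fun h => hz1 (orderOf_eq_one_iff.mp h)
    have h2 : 0 < orderOf z := orderOf_pos z
    simp only [Nat.sub_self, pow_zero]
    omega
  have hconj : ∀ w : G, orderOf w = 2 → ∃ g : G, g * w * g⁻¹ ∈ M := by
    intro w hw
    by_contra hcon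
    push Not at hcon
    obtain ⟨N, hN1, hN2, hN3⟩ := Cfsg.Agent.Lib.Helper53.thompson_transfer T M hMrel 1 le_rfl hord w
      (by rw [hw, pow_one]) hcon
    -- contradiction with hO
    have hNt : N ≠ ⊤ := by
      intro h
      rw [h, Subgroup.index_top] at hN2
      omega
    apply hNt
    rw [eq_top_iff, ← hO]
    unfold Cfsg.pResidual
    rw [Subgroup.closure_le]
    intro g hg
    have hg' : Nat.Coprime (orderOf g) 2 := hg
    have h2 : g ^ 2 ∈ N := by
      haveI := hN1
      have := Subgroup.pow_index_mem N g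
      rwa [hN2] at this
    have hordg : g ^ orderOf g ∈ N := by rw [pow_orderOf_eq_one]; exact N.one_mem
    have hb := Nat.gcd_eq_gcd_ab (orderOf g) 2
    rw [Nat.Coprime.gcd_eq_one hg'] at hb
    have : g = (g ^ orderOf g) ^ (Nat.gcdA (orderOf g) 2) * (g ^ 2) ^ (Nat.gcdB (orderOf g) 2) := by
      rw [← zpow_natCast, ← zpow_natCast, ← zpow_mul, ← zpow_mul, ← zpow_add]
      have : ((orderOf g : ℕ) : ℤ) * Nat.gcdA (orderOf g) 2 + ((2 : ℕ) : ℤ) * Nat.gcdB (orderOf g) 2 = 1 := by
        rw [← hb]; rfl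
      rw [this, zpow_one]
    show g ∈ N
    rw [this]
    exact N.mul_mem (N.zpow_mem hordg _) (N.zpow_mem h2 _)
  -- any involution in M is the unique rotation involution
  have hMinv : ∀ a b : G, a ∈ M → b ∈ M → orderOf a = 2 → orderOf b = 2 → a = b := by
    intro a b ha hb ha2 hb2
    obtain ⟨a', ha', rfl⟩ := ha
    obtain ⟨b', hb', rfl⟩ := hb
    have ha'' : e a' ∈ R := ha'
    have hb'' : e b' ∈ R := hb'
    obtain ⟨ka, hka⟩ := Subgroup.mem_zpowers_iff.mp ha''
    obtain ⟨kb, hkb⟩ := Subgroup.mem_zpowers_iff.mp hb''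
    rw [DihedralGroup.r_one_zpow] at hka hkb
    have hoa : orderOf a' = 2 := by
      rw [← Subgroup.orderOf_coe]; exact ha2
    have hob : orderOf b' = 2 := by
      rw [← Subgroup.orderOf_coe]; exact hb2
    have hea : orderOf (e a') = 2 := by rw [MulEquiv.orderOf_eq]; exact hoa
    have heb : orderOf (e b') = 2 := by rw [MulEquiv.orderOf_eq]; exact hob
    rw [← hka] at hea
    rw [← hkb] at heb
    have h1 : ((ka : ZMod (2 ^ n)) + ka = 0) ∧ (ka : ZMod (2 ^ n)) ≠ 0 := by
      constructor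
      · have := pow_orderOf_eq_one (DihedralGroup.r (ka : ZMod (2 ^ n)))
        rw [hea, pow_two, DihedralGroup.r_mul_r, DihedralGroup.one_def] at this
        exact DihedralGroup.r.inj this
      · intro h
        rw [h, DihedralGroup.r_zero, orderOf_one] at hea
        omega
    have h2 : ((kb : ZMod (2 ^ n)) + kb = 0) ∧ (kb : ZMod (2 ^ n)) ≠ 0 := by
      constructor
      · have := pow_orderOf_eq_one (DihedralGroup.r (kb : ZMod (2 ^ n)))
        rw [heb, pow_two, DihedralGroup.r_mul_r, DihedralGroup.one_def] at this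
        exact DihedralGroup.r.inj this
      · intro h
        rw [h, DihedralGroup.r_zero, orderOf_one] at heb
        omega
    have h3 := rot_invol_unique h1.1 h1.2 h2.1 h2.2
    have h4 : e a' = e b' := by rw [← hka, ← hkb, h3]
    have h5 : a' = b' := e.injective h4
    rw [h5]
  obtain ⟨g, hg⟩ := hconj x hx
  obtain ⟨h, hh⟩ := hconj y hy
  have hgx : orderOf (g * x * g⁻¹) = 2 := by
    have : g * x * g⁻¹ = MulAut.conj g x := by simp [MulAut.conj_apply]
    rw [this, MulEquiv.orderOf_eq, hx]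
  have hhy : orderOf (h * y * h⁻¹) = 2 := by
    have : h * y * h⁻¹ = MulAut.conj h y := by simp [MulAut.conj_apply]
    rw [this, MulEquiv.orderOf_eq, hy]
  have heq := hMinv _ _ hg hh hgx hhy
  refine ⟨h⁻¹ * g, ?_⟩
  calc h⁻¹ * g * x * (h⁻¹ * g)⁻¹ = h⁻¹ * (g * x * g⁻¹) * h := by group
    _ = h⁻¹ * (h * y * h⁻¹) * h := by rw [heq]
    _ = y := by group

end Cfsg.Agent.S0107
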