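import Cfsg.Statements.S0607
import Mathlib
import Cfsg.Agent.S0606
import Cfsg.Agent.Lib.Helper10.Replacement2

set_option autoImplicit false
open Cfsg

namespace Cfsg.Agent.S0607

open scoped commutatorElement
open Cfsg.Agent.Lib.Helper10

/-- The replacement Theorem for the Thompson subgroup: from A of maximal order among elementary abelian p-subgroups one obtains A₀ = [V, A] C_A([V, A]) of the same kind, quadratic on V and nontrivial on V when A is. -/
theorem result {G : Type*} [Group G] [Finite G] {p : ℕ} [Fact p.Prime] (V : Subgroup G) [V.Normal] (hV : Cfsg.IsElementaryAbelian p V) (A : Subgroup G) (hA : A ∈ Cfsg.maxElementaryAbelianSubgroups p G) : (⁅V, A⁆ ⊔ (A ⊓ Subgroup.centralizer ((⁅V, A⁆ : Subgroup G) : Set G))) ∈ Cfsg.maxElementaryAbelianSubgroups p G ∧ ⁅⁅V, ⁅V, A⁆ ⊔ (A ⊓ Subgroup.centralizer ((⁅V, A⁆ : Subgroup G) : Set G))⁆, ⁅V, A⁆ ⊔ (A ⊓ Subgroup.centralizer ((⁅V, A⁆ : Subgroup G) : Set G))⁆ = ⊥ ∧ (⁅V, A⁆ ≠ ⊥ → ⁅V,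 ⁅V, A⁆ ⊔ (A ⊓ Subgroup.centralizer ((⁅V, A⁆ : Subgroup G) : Set G))⁆ ≠ ⊥) := by
  have hAc := elemAb_comm hA.1
  have hVc := elemAb_comm hV
  have hVn : Subgroup.normalizer (V : Set G) = ⊤ :=
    Subgroup.normalizer_eq_top_iff.mpr inferInstance
  have hAA : ⁅A, A⁆ = ⊥ := by
    rw [Subgroup.commutator_eq_bot_iff_le_centralizer]
    intro a ha
    rw [Subgroup.mem_centralizer_iff]
    intro b hb
    exact hAc b hb a ha
  have hctx : ReplCtx V A := ⟨hVc, by rw [hVn]; exact le_top, by rw [hAA]; exact bot_le⟩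
  have hbest := Cfsg.Agent.S0606.result V hV A hA
  have hmax : ∀ B : Subgroup G, B ≤ A → offVal V B ≤ offVal V A := hbest.1
  obtain ⟨r1, r2⟩ := hctx.replProp_of_max hmax (le_refl V)
  have hXV : ⁅V, A⁆ ≤ V := hctx.commutator_le le_rfl
  have hAnX : A ≤ Subgroup.normalizer ((⁅V, A⁆ : Subgroup G) : Set G) :=
    Subgroup.normalizer_commutator_ge_right V A
  set X : Subgroup G := ⁅V, A⁆ with hX
  set B : Subgroup G := A ⊓ Subgroup.centralizer (X : Set G) with hB
  set W : Subgroup G := V ⊓ Subgroup.centralizer (A : Set G) with hW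
  have hWA : W ≤ A :=
    le_of_maxElemAb_of_le_centralizer hA (elemAb_of_le hV inf_le_left) inf_le_right
  have hXB : X ⊓ B = X ⊓ W := by
    apply le_antisymm
    · intro x hx
      have hxX : x ∈ X := (Subgroup.mem_inf.mp hx).1
      have hxA : x ∈ A := (Subgroup.mem_inf.mp (Subgroup.mem_inf.mp hx).2).1
      have hxC : x ∈ Subgroup.centralizer (A : Set G) := by
        rw [Subgroup.mem_centralizer_iff]
        intro a ha
        exact hAc a ha x hxA
      exact Subgroup.mem_inf.mpr ⟨hxX, Subgroup.mem_inf.mpr ⟨hXV hxX, hxC⟩⟩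
    · intro x hx
      have hxX : x ∈ X := (Subgroup.mem_inf.mp hx).1
      have hxC : x ∈ Subgroup.centralizer (X : Set G) := by
        rw [Subgroup.mem_centralizer_iff]
        intro y hy
        exact hVc y (hXV hy) x (hXV hxX)
      exact Subgroup.mem_inf.mpr ⟨hxX, Subgroup.mem_inf.mpr ⟨hWA (Subgroup.mem_inf.mp hx).2, hxC⟩⟩
  have hXe : IsElementaryAbelian p X := elemAb_of_le hV hXV
  have hBe : IsElementaryAbelian p B := elemAb_of_le hA.1 inf_le_left
  have hXBcomm : ∀ x ∈ X, ∀ b ∈ B, x * b = b * x := fun x hx b hb =>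
    Subgroup.mem_centralizer_iff.mp hb.2 x hx
  have hA₀e : IsElementaryAbelian p (X ⊔ B) := elemAb_sup hXe hBe hXBcomm
  have hXCB : X ≤ Subgroup.centralizer (B : Set G) := by
    rw [Subgroup.le_centralizer_iff]; exact inf_le_right
  have hcard : Nat.card ↥(X ⊔ B) = Nat.card A := by
    have h1 : Nat.card ↥(X ⊔ B) * Nat.card ↥(X ⊓ B) = Nat.card X * Nat.card B :=
      card_sup_mul_card_inf (hXCB.trans (Subgroup.centralizer_le_normalizer _))
    have h2 : Nat.card ↥(X ⊔ W) * Nat.card ↥(X ⊓ W) = Nat.card X * Nat.card W :=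
      card_sup_mul_card_inf (commuting_le_normalizer hVc hXV inf_le_left)
    unfold offVal at r2
    rw [r1] at r2
    rw [hXB] at h1
    have hpos : 0 < Nat.card ↥(X ⊓ W) * Nat.card ↥(X ⊔ W) := Nat.mul_pos Nat.card_pos Nat.card_pos
    have : Nat.card ↥(X ⊔ B) * (Nat.card ↥(X ⊓ W) * Nat.card ↥(X ⊔ W)) =
        Nat.card A * (Nat.card ↥(X ⊓ W) * Nat.card ↥(X ⊔ W)) := by
      calc Nat.card ↥(X ⊔ B) * (Nat.card ↥(X ⊓ W) * Nat.card ↥(X ⊔ W))
          = (Nat.card ↥(X ⊔ B) * Nat.card ↥(X ⊓ W)) * Nat.card ↥(X ⊔ W) := by ring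
        _ = Nat.card X * (Nat.card B * Nat.card ↥(X ⊔ W)) := by rw [h1]; ring
        _ = Nat.card X * (Nat.card A * Nat.card W) := by rw [← r2]
        _ = Nat.card A * (Nat.card X * Nat.card W) := by ring
        _ = Nat.card A * (Nat.card ↥(X ⊓ W) * Nat.card ↥(X ⊔ W)) := by rw [← h2]; ring
    exact Nat.eq_of_mul_eq_mul_right hpos this
  have hVA₀ : ⁅V, X ⊔ B⁆ ≤ X := by
    rw [Subgroup.commutator_le]
    intro v hv g hg
    have hmem : g ∈ ((B ⊔ X : Subgroup G) : Set G) := by rw [sup_comm]; exact hg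
    rw [← mul_set_eq_sup_of_le_normalizer ((inf_le_left : B ≤ A).trans hAnX)] at hmem
    obtain ⟨b, hb, x, hx, rfl⟩ := hmem
    have hxv : x * v⁻¹ = v⁻¹ * x := hVc x (hXV hx) v⁻¹ (V.inv_mem hv)
    have e : ⁅v, b * x⁆ = ⁅v, b⁆ := by
      simp only [commutatorElement_def]
      calc v * (b * x) * v⁻¹ * (b * x)⁻¹ = v * b * (x * v⁻¹) * x⁻¹ * b⁻¹ := by group
        _ = v * b * (v⁻¹ * x) * x⁻¹ * b⁻¹ := by rw [hxv]
        _ = v * b * v⁻¹ * b⁻¹ := by group
    rw [e]
    exact Subgroup.commutator_mem_commutator hv hb.1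
  have hXA₀ : ⁅X, X ⊔ B⁆ = ⊥ := by
    rw [Subgroup.commutator_eq_bot_iff_le_centralizer, Subgroup.le_centralizer_iff]
    apply sup_le
    · intro x hx
      rw [Subgroup.mem_centralizer_iff]
      intro y hy
      exact hVc y (hXV hy) x (hXV hx)
    · exact inf_le_right
  refine ⟨⟨hA₀e, fun C hC => (hA.2 C hC).trans (le_of_eq hcard.symm)⟩, ?_, ?_⟩
  · rw [eq_bot_iff, ← hXA₀]
    exact Subgroup.commutator_mono hVA₀ le_rfl
  · intro hXne hbot
    apply hXne
    have hVB : ⁅V, B⁆ = ⊥ := by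
      rw [eq_bot_iff, ← hbot]
      exact Subgroup.commutator_mono le_rfl le_sup_right
    rw [Subgroup.commutator_eq_bot_iff_le_centralizer] at hVB
    have hVle : V ≤ X ⊔ W := by
      rw [← r1]
      exact le_inf le_rfl hVB
    exact hctx.commutator_eq_bot_of_sup_fix (elemAb_isPGroup hV) (elemAb_isPGroup hA.1) le_rfl
      (fun x _ a ha => ⟨a, ha, rfl⟩) hVle

end Cfsg.Agent.S0607
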