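import Cfsg.Statements.S0109
import Cfsg.Agent.S0601
import Cfsg.Agent.S0607
import Cfsg.Agent.S0608
import Cfsg.Agent.Lib.Helper35.PStabSection
import Cfsg.Agent.Lib.Helper53.SolvPSolv

set_option autoImplicit false
open Cfsg

namespace Cfsg.Agent.S0109

open Cfsg.Agent.Lib.Helper35 Cfsg.Agent.Lib.Helper35.PStab Cfsg.Agent.Lib.Helper76
  Cfsg.Agent.Lib.Helper22 Cfsg.Agent.Lib.Helper30
open scoped commutatorElement

/-- The Thompson factorization Theorem for solvable groups states that, with p odd (and abelian Sylow 2-subgroups when p = 3) and no nontrivial normal subgroup of order prime to p, every element of G is a product of an element normalizing J(P) and an element centralizing the elements of order dividing p in the centre of P. -/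
theorem result {G : Type*} [Group G] [Finite G] {p : ℕ} [Fact p.Prime] (hp : p ≠ 2) (hs : Group.IsSolvable G) (h3 : p = 3 → ∀ T : Sylow 2 G, IsMulCommutative T) (hF : ∀ N : Subgroup G, N.Normal → Nat.Coprime (Nat.card N) p → N = ⊥) (P : Sylow p G) (g : G) : ∃ a ∈ Subgroup.normalizer (Cfsg.thompsonSubgroupOf p (P : Subgroup G) : Set G), ∃ c ∈ Subgroup.centralizer {x : G | x ∈ (P : Subgroup G) ∧ (∀ y ∈ (P : Subgroup G), x * y = y * x) ∧ x ^ p = 1}, g = a * c := by
  have hO : pPrimeCore p G = ⊥ := hF _ inferInstance (pPrimeCore_card_coprime p)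
  have hsol : IsPSolvable p G := Cfsg.Agent.Lib.Helper53.isPSolvable_of_isSolvable p hs
  have hNo : NoSL p G := fun h => noSL_of_sylow (h3 h) h
  have hc := centralizer_pCore_le_of_isPSolvable hsol hO
  obtain ⟨hVn, hVe, hVD⟩ := Cfsg.Agent.S0601.result (G := G) (p := p) hc
  obtain ⟨V, hV⟩ : ∃ V : Subgroup G, V = ⨆ S : Sylow p G,
      omegaOne p ((S : Subgroup G) ⊓ Subgroup.centralizer ((S : Subgroup G) : Set G)) := ⟨_, rfl⟩
  rw [← hV] at hVn hVe hVD
  have hVp : IsPGroup p V := by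
    rintro ⟨v, hv⟩
    refine ⟨1, ?_⟩
    apply Subtype.ext
    simp only [Subgroup.coe_pow, Subgroup.coe_one, pow_one]
    exact hVe.2 v hv
  -- quadratic elements centralize `V`
  have hquad : ∀ a : G, (∀ v ∈ V, ⁅a, ⁅a, v⁆⁆ = 1) → a ∈ Subgroup.centralizer (V : Set G) := by
    intro a hq
    obtain ⟨D, hDn, hCD, haD, k, hk⟩ := pstable_relIndex hp hsol hNo V hVp a hq
    rw [hVD D hDn hCD ⟨k, hk⟩] at haD
    exact haD
  -- `J(G)` centralizes `V`
  have hJ : thompsonSubgroup p G ≤ Subgroup.centralizer (V : Set G) := by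
    unfold thompsonSubgroup
    apply sSup_le
    intro A hA
    obtain ⟨-, h2, h3'⟩ := Cfsg.Agent.S0607.result V hVe A hA
    obtain ⟨A₀, hA₀⟩ : ∃ A₀ : Subgroup G, A₀ = ⁅V, A⁆ ⊔
        (A ⊓ Subgroup.centralizer ((⁅V, A⁆ : Subgroup G) : Set G)) := ⟨_, rfl⟩
    rw [← hA₀] at h2 h3'
    have h4 : A₀ ≤ Subgroup.centralizer (V : Set G) := by
      intro a ha
      exact hquad a (quad_of_commutator V A₀ h2 a ha)
    have h5 : ⁅V, A₀⁆ = ⊥ := by
      rw [Subgroup.commutator_eq_bot_iff_le_centralizer]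
      intro v hv
      rw [Subgroup.mem_centralizer_iff]
      intro a ha
      have := (Subgroup.mem_centralizer_iff.mp (h4 ha)) v hv
      exact this.symm
    have h6 : ⁅V, A⁆ = ⊥ := by
      by_contra hne
      exact h3' hne h5
    rw [Subgroup.commutator_comm, Subgroup.commutator_eq_bot_iff_le_centralizer] at h6
    exact h6
  have hTF : IsThompsonFactorizable p G := by
    rw [Cfsg.Agent.S0608.result hO, ← hV]
    exact hJ
  obtain ⟨x, hx, c, hc', n, hn, hg⟩ := hTF P g⁻¹
  rw [hO, Subgroup.mem_bot] at hx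
  refine ⟨n⁻¹, inv_mem hn, c⁻¹, ?_, ?_⟩
  · apply inv_mem
    rw [Subgroup.mem_centralizer_iff] at hc' ⊢
    intro y hy
    apply hc'
    apply Subgroup.subset_closure
    refine ⟨?_, hy.2.2⟩
    rw [Subgroup.mem_inf, Subgroup.mem_centralizer_iff]
    refine ⟨hy.1, fun z hz => ?_⟩
    exact (hy.2.1 z hz).symm
  · rw [← mul_inv_rev, ← inv_eq_iff_eq_inv, hg, hx, one_mul]

end Cfsg.Agent.S0109
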