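import Cfsg.Statements.S0110
import Cfsg.Agent.Lib.Helper29.Extraspecial

set_option autoImplicit false
open Cfsg
open Cfsg.Agent.Lib.Helper29

namespace Cfsg.Agent.S0110

/-- In a p-group G, an extraspecial subgroup E with [G, E] ≤ Z(E) satisfies G = E C_G(E). -/
theorem result {G : Type*} [Group G] [Finite G] {p : ℕ} [Fact p.Prime] (hG : IsPGroup p G) (E : Subgroup G) (hE : Cfsg.IsExtraspecial p E) (h : ⁅(⊤ : Subgroup G), E⁆ ≤ E ⊓ Subgroup.centralizer (E : Set G)) : E ⊔ Subgroup.centralizer (E : Set G) = ⊤ := by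
  classical
  obtain ⟨⟨_, _, hcomm⟩, hc⟩ := hE
  have hle : commutator ↥E ≤ Subgroup.center ↥E := hcomm.le
  rw [Subgroup.eq_top_iff']
  intro g
  -- commutators `[g, e]` lie in `E` and centralise `E`
  have hmem : ∀ e : ↥E, cm g (e : G) ∈ E ⊓ Subgroup.centralizer (E : Set G) := fun e =>
    h (Subgroup.commutator_mem_commutator (Subgroup.mem_top g) e.2)
  have hcen : ∀ e : ↥E, (⟨cm g (e : G), (hmem e).1⟩ : ↥E) ∈ Subgroup.center ↥E := by
    intro e
    rw [Subgroup.mem_center_iff]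
    intro f
    apply Subtype.ext
    exact (Subgroup.mem_centralizer_iff.1 (hmem e).2) f f.2
  let lam : ↥E →* ↥(Subgroup.center ↥E) :=
    { toFun := fun e => ⟨⟨cm g (e : G), (hmem e).1⟩, hcen e⟩
      map_one' := by
        apply Subtype.ext; apply Subtype.ext
        exact cm_one_right g
      map_mul' := fun e e' => by
        apply Subtype.ext; apply Subtype.ext
        show cm g ((e : G) * (e' : G)) = cm g e * cm g e'
        apply cm_mul_right'
        exact (Subgroup.mem_centralizer_iff.1 (hmem e').2) e e.2 }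
  obtain ⟨x, hx⟩ := exists_eq_cm_of_hom hc hcomm lam
  have hx' : ∀ e : ↥E, cm g (e : G) = cm (e : G) (x : G) := by
    intro e
    have := congrArg Subtype.val (hx e)
    exact this
  have hxg : (x : G) * g ∈ Subgroup.centralizer (E : Set G) := by
    rw [Subgroup.mem_centralizer_iff]
    intro e he
    have h1 := hx' ⟨e, he⟩
    simp only [cm] at h1
    -- g e g⁻¹ e⁻¹ = e x e⁻¹ x⁻¹
    have h2 : g * e * g⁻¹ = e * x * e⁻¹ * (x : G)⁻¹ * e := by
      calc g * e * g⁻¹ = (g * e * g⁻¹ * e⁻¹) * e := by group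
        _ = e * x * e⁻¹ * (x : G)⁻¹ * e := by rw [h1]
    -- the right side commutator is central in `E`, so it equals x⁻¹ e x
    have h3 : e * (x : G) * e⁻¹ * (x : G)⁻¹ * e = (x : G)⁻¹ * e * x := by
      have hc1 : cm (⟨e, he⟩ : ↥E) x ∈ Subgroup.center ↥E := cm_mem_center hle _ _
      have hc2 := Subgroup.mem_center_iff.1 hc1 x⁻¹
      have hc3 : (x : G)⁻¹ * (e * (x : G) * e⁻¹ * (x : G)⁻¹) = (e * (x : G) * e⁻¹ * (x : G)⁻¹) * (x : G)⁻¹ :=
        congrArg Subtype.val hc2
      calc e * (x : G) * e⁻¹ * (x : G)⁻¹ * e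
          = ((e * (x : G) * e⁻¹ * (x : G)⁻¹) * (x : G)⁻¹) * (x * e) := by group
        _ = ((x : G)⁻¹ * (e * (x : G) * e⁻¹ * (x : G)⁻¹)) * (x * e) := by rw [hc3]
        _ = (x : G)⁻¹ * e * x := by group
    rw [h3] at h2
    calc e * ((x : G) * g) = x * ((x : G)⁻¹ * e * x) * g := by group
      _ = x * (g * e * g⁻¹) * g := by rw [h2]
      _ = (x : G) * g * e := by group
  have : g = (x : G)⁻¹ * ((x : G) * g) := by group
  rw [this]
  exact Subgroup.mul_mem_sup (E.inv_mem x.2) hxg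

end Cfsg.Agent.S0110
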