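import Mathlib
import Cfsg.Statements.S0114
import Cfsg.Agent.Lib.Helper29.MaxClass
import Cfsg.Agent.Lib.Helper73.CyclicMax

set_option autoImplicit false
open Cfsg

namespace Cfsg.Agent.S0114

theorem mem_center_of_comm_gens {X : Type*} [Group X] {a b : X}
    (hgen : Subgroup.closure ({b, a} : Set X) = ⊤) (z : X) (hza : a * z = z * a)
    (hzb : b * z = z * b) : z ∈ Subgroup.center X := by
  rw [Subgroup.mem_center_iff]
  intro g
  have hle : Subgroup.closure ({b, a} : Set X) ≤ Subgroup.centralizer ({z} : Set X) := by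
    rw [Subgroup.closure_le]
    rintro x (rfl | rfl)
    · exact Subgroup.mem_centralizer_singleton_iff.mpr hzb
    · exact Subgroup.mem_centralizer_singleton_iff.mpr hza
  have hg : g ∈ Subgroup.centralizer ({z} : Set X) := hle (hgen ▸ Subgroup.mem_top g)
  exact Subgroup.mem_centralizer_singleton_iff.mp hg

theorem result {X : Type*} [Group X] [Finite X] (n : ℕ) (hn : 3 ≤ n) (hX : Nat.card X = 2 ^ n) (hc : Group.nilpotencyClass X = n - 1) : Nonempty (X ⧸ Subgroup.center X ≃* DihedralGroup (2 ^ (n - 2))) := by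
  have hf2 : Fact (Nat.Prime 2) := ⟨Nat.prime_two⟩
  have hPG : IsPGroup 2 X := IsPGroup.of_card hX
  obtain ⟨hidx, -⟩ := Cfsg.Agent.Lib.Helper29.index_commutator_of_maxClass (p := 2) n hn hX hc
  have hidx4 : (commutator X).index = 4 := by rw [hidx]; norm_num
  have hcardc : Nat.card (commutator X) * 4 = 2 ^ n := by
    rw [← hX, ← hidx4]; exact Subgroup.card_mul_index _
  have h8 : 2 ^ n = 4 * 2 ^ (n - 2) := by
    obtain ⟨k, rfl⟩ : ∃ k, n = k + 2 := ⟨n - 2, by omega⟩
    rw [pow_add]; simp [mul_comm]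
  have hcc : Nat.card (commutator X) = 2 ^ (n - 2) := by omega
  have hna : commutator X ≠ ⊥ := by
    intro h
    rw [h, Subgroup.card_bot] at hcc
    have : 2 ^ 1 ≤ 2 ^ (n - 2) := Nat.pow_le_pow_right (by norm_num) (by omega)
    omega
  obtain ⟨a, b, m, hm, hG4, hm2, ha, hb, hcases⟩ :=
    Cfsg.Agent.Lib.Helper73.exists_generators hPG hidx4 hna
  have hmn : m = 2 ^ (n - 2) := by omega
  obtain ⟨j, hj⟩ : ∃ j, n - 2 = j + 1 := ⟨n - 3, by omega⟩
  have hmj : m = 2 ^ (j + 1) := by rw [hmn, hj]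
  have hgen := Cfsg.Agent.Lib.Helper73.closure_pair_eq_top ha hb
  have ha2m : a ^ (2 * m) = 1 := by rw [← hm]; exact pow_orderOf_eq_one a
  have ham1 : a ^ m ≠ 1 := by
    intro h
    have h3 : orderOf a ∣ m := orderOf_dvd_of_pow_eq_one h
    rw [hm] at h3
    have := Nat.le_of_dvd (by omega) h3
    omega
  -- not commutative
  have hab : a * b ≠ b * a := by
    intro h
    apply hna
    rw [eq_bot_iff, commutator_def, Subgroup.commutator_le]
    intro x _ y _
    rw [Subgroup.mem_bot, commutatorElement_def,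
      Cfsg.Agent.Lib.Helper73.comm_of_closure_pair hgen h x y]
    group
  -- conjugation by b inverts even powers of a
  have hcp : ∀ k : ℕ, 2 ∣ k → b * a ^ k * b⁻¹ = (a ^ k)⁻¹ := by
    intro k hk
    rw [← conj_pow]
    rcases hcases with ⟨hconj, -⟩ | ⟨hconj, -⟩ | ⟨hconj, -, -⟩
    · rw [hconj, inv_pow]
    · rw [hconj, inv_pow]
    · rw [hconj]
      have hcomm : Commute a⁻¹ (a ^ m) := (Commute.refl a).inv_left.pow_right m
      rw [hcomm.mul_pow, inv_pow]
      obtain ⟨k', rfl⟩ := hk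
      have : (a ^ m) ^ (2 * k') = 1 := by
        rw [← pow_mul, ← mul_assoc, mul_comm m 2, pow_mul, ha2m, one_pow]
      rw [this, mul_one]
  -- the half power
  have hhalf : b * a ^ (2 ^ j) * b⁻¹ = (a ^ (2 ^ j))⁻¹ := by
    rcases hcases with ⟨hconj, -⟩ | ⟨hconj, -⟩ | ⟨hconj, -, hm4⟩
    · rw [← conj_pow, hconj, inv_pow]
    · rw [← conj_pow, hconj, inv_pow]
    · apply hcp
      have hj1 : 1 ≤ j := by
        by_contra h
        have : j = 0 := by omega
        rw [this] at hmj
        norm_num at hmj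
        omega
      exact dvd_pow_self 2 (by omega)
  set Z := Subgroup.center X with hZ
  -- a^m central
  have hamZ : a ^ m ∈ Z := by
    apply mem_center_of_comm_gens hgen
    · rw [← pow_succ', ← pow_succ]
    · have h1 := hcp m (by rw [hmj, pow_succ]; exact dvd_mul_left 2 _)
      have h2 : (a ^ m)⁻¹ = a ^ m := by
        rw [inv_eq_iff_mul_eq_one, ← pow_add, ← two_mul, ha2m]
      rw [h2] at h1
      calc b * a ^ m = (b * a ^ m * b⁻¹) * b := by group
        _ = a ^ m * b := by rw [h1]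
  have hbbZ : b * b ∈ Z := by
    rcases hcases with ⟨-, hbb⟩ | ⟨-, hbb⟩ | ⟨-, hbb, -⟩
    · rw [hbb]; exact Z.one_mem
    · rw [hbb]; exact hamZ
    · rw [hbb]; exact Z.one_mem
  have hconjZ : (b * a * b⁻¹)⁻¹ * a⁻¹ ∈ Z := by
    rcases hcases with ⟨hconj, -⟩ | ⟨hconj, -⟩ | ⟨hconj, -, -⟩
    · rw [hconj]; simp
    · rw [hconj]; simp
    · rw [hconj]
      have : (a⁻¹ * a ^ m)⁻¹ * a⁻¹ = (a ^ m)⁻¹ := by
        have hcomm : Commute a⁻¹ (a ^ m) := (Commute.refl a).inv_left.pow_right m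
        rw [mul_inv_rev, inv_inv, mul_assoc, mul_inv_cancel, mul_one]
      rw [this]; exact Z.inv_mem hamZ
  -- quotient
  set π := QuotientGroup.mk' Z with hπ
  have hπs : Function.Surjective π := QuotientGroup.mk'_surjective Z
  have hbb' : π b * π b = 1 := by
    rw [← map_mul]; exact (QuotientGroup.eq_one_iff _).mpr hbbZ
  have hbinv : (π b)⁻¹ = π b := inv_eq_of_mul_eq_one_right hbb'
  have hsx : π b * π a * π b = (π a)⁻¹ := by
    have h1 : π (b * a * b⁻¹) = π a⁻¹ := by
      rw [hπ, QuotientGroup.mk'_apply, QuotientGroup.mk'_apply, QuotientGroup.eq]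
      exact hconjZ
    rw [map_mul, map_mul, map_inv, map_inv, hbinv] at h1
    exact h1
  have hns : π b ∉ Subgroup.zpowers (π a) := by
    intro h
    obtain ⟨k, hk⟩ := Subgroup.mem_zpowers_iff.mp h
    rw [← map_zpow] at hk
    have h1 : (a ^ k)⁻¹ * b ∈ Z := by
      rw [hπ, QuotientGroup.mk'_apply, QuotientGroup.mk'_apply, QuotientGroup.eq] at hk
      exact hk
    have h2 := (Subgroup.mem_center_iff.mp h1) a
    apply hab
    have h3 : a * (a ^ k)⁻¹ = (a ^ k)⁻¹ * a := by
      rw [← zpow_neg, ← zpow_one_add, ← zpow_add_one, add_comm]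
    calc a * b = a ^ k * (a * ((a ^ k)⁻¹ * b)) := by rw [← mul_assoc a, h3]; group
      _ = a ^ k * ((a ^ k)⁻¹ * b * a) := by rw [h2]
      _ = b * a := by group
  have hgen' : Subgroup.closure ({π b, π a} : Set (X ⧸ Z)) = ⊤ := by
    have h1 : (Subgroup.closure ({b, a} : Set X)).map π = ⊤ := by
      rw [hgen]; exact Subgroup.map_top_of_surjective π hπs
    rw [MonoidHom.map_closure, Set.image_pair] at h1
    exact h1
  -- order of π a
  have hord : orderOf (π a) = 2 ^ (j + 1) := by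
    apply orderOf_eq_prime_pow
    · intro h
      rw [← map_pow] at h
      have h1 : a ^ 2 ^ j ∈ Z := (QuotientGroup.eq_one_iff _).mp h
      have h2 := (Subgroup.mem_center_iff.mp h1) b
      have h3 : b * a ^ 2 ^ j * b⁻¹ = a ^ 2 ^ j := by rw [h2]; group
      rw [hhalf, inv_eq_iff_mul_eq_one, ← pow_add, ← two_mul, ← pow_succ', ← hmj] at h3
      exact ham1 h3
    · rw [← map_pow, ← hmj]
      exact (QuotientGroup.eq_one_iff _).mpr hamZ
  have e := Cfsg.Agent.Lib.Helper61.dihedralEquiv (π b) (π a) hbb' hsx hns hgen'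
  rw [hord, ← hj] at e
  exact ⟨e.symm⟩

end Cfsg.Agent.S0114
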