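import Mathlib
import Cfsg.Statements.S0115
import Cfsg.Agent.Lib.Helper29.MaxClass
import Cfsg.Agent.Lib.Helper73.CyclicMax

set_option autoImplicit false
open Cfsg
open scoped commutatorElement

namespace Cfsg.Agent.S0115

/-- a non-cyclic group of order four has exponent two -/
theorem isKleinFour_of_card_four_of_not_isCyclic {Q : Type*} [Group Q] (hcard : Nat.card Q = 4)
    (hnc : ¬ IsCyclic Q) : IsKleinFour Q := by
  have : Finite Q := Nat.finite_of_card_ne_zero (by rw [hcard]; norm_num)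
  refine ⟨hcard, ?_⟩
  have hsq : ∀ x : Q, x ^ 2 = 1 := by
    intro x
    have h1 : orderOf x ∣ 2 ^ 2 := by
      have := orderOf_dvd_natCard x
      rwa [hcard] at this
    obtain ⟨j, hj, hj2⟩ := (Nat.dvd_prime_pow Nat.prime_two).mp h1
    interval_cases j
    · rw [pow_zero, orderOf_eq_one_iff] at hj2; rw [hj2, one_pow]
    · rw [pow_one] at hj2; rw [← hj2, pow_orderOf_eq_one]
    · exfalso
      apply hnc
      apply isCyclic_of_orderOf_eq_card x
      rw [hj2, hcard]; norm_num
  have h2 : Monoid.exponent Q ∣ 2 := Monoid.exponent_dvd_of_forall_pow_eq_one hsq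
  rcases (Nat.dvd_prime Nat.prime_two).mp h2 with h | h
  · exfalso
    rw [Monoid.exp_eq_one_iff] at h
    have := Nat.card_eq_one_iff_unique.mpr ⟨h, ⟨1⟩⟩
    omega
  · exact h

theorem class_of_index_four {X : Type*} [Group X] [Finite X] (n : ℕ) (hn : 3 ≤ n)
    (hX : Nat.card X = 2 ^ n) (hidx : (commutator X).index = 4) :
    Group.nilpotencyClass X = n - 1 := by
  have hf2 : Fact (Nat.Prime 2) := ⟨Nat.prime_two⟩
  have hPG : IsPGroup 2 X := IsPGroup.of_card hX
  have hnil : Group.IsNilpotent X := hPG.isNilpotent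
  have hcardc : Nat.card (commutator X) * 4 = 2 ^ n := by
    rw [← hX, ← hidx]; exact Subgroup.card_mul_index _
  have h8 : 2 ^ n = 4 * 2 ^ (n - 2) := by
    obtain ⟨k, rfl⟩ : ∃ k, n = k + 2 := ⟨n - 2, by omega⟩
    rw [pow_add]; simp [mul_comm]
  have hcc : Nat.card (commutator X) = 2 ^ (n - 2) := by omega
  have hna : commutator X ≠ ⊥ := by
    intro h
    rw [h, Subgroup.card_bot] at hcc
    have : 2 ^ 1 ≤ 2 ^ (n - 2) := Nat.pow_le_pow_right (by norm_num) (by omega)
    omega
  obtain ⟨a, b, m, hm, hG4, hm2, ha, hb, hcases⟩ :=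
    Cfsg.Agent.Lib.Helper73.exists_generators hPG hidx hna
  have hmn : m = 2 ^ (n - 2) := by omega
  -- upper bound
  have hupper : Group.nilpotencyClass X ≤ n - 1 := by
    by_contra hlt
    push Not at hlt
    have h1 := Cfsg.Agent.Lib.Helper29.pow_le_card_lcs hPG (Group.nilpotencyClass X - 1) (by omega)
    have h2 : Group.nilpotencyClass X - (Group.nilpotencyClass X - 1) = 1 := by omega
    rw [h2] at h1
    have h3 : (⊤ : Subgroup X).lowerCentralSeries 1 = commutator X := rfl
    rw [h3, hcc] at h1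
    have := (Nat.pow_le_pow_iff_right (by norm_num : 1 < 2)).mp h1
    omega
  -- conjugation by b inverts a^(2^i), i ≥ 1
  have hinv : ∀ i : ℕ, 1 ≤ i → b * a ^ (2 ^ i) * b⁻¹ = (a ^ (2 ^ i))⁻¹ := by
    intro i hi
    rw [← conj_pow]
    rcases hcases with ⟨hconj, -⟩ | ⟨hconj, -⟩ | ⟨hconj, -, -⟩
    · rw [hconj, inv_pow]
    · rw [hconj, inv_pow]
    · rw [hconj]
      have hcomm : Commute a⁻¹ (a ^ m) := (Commute.refl a).inv_left.pow_right m
      rw [hcomm.mul_pow, inv_pow]
      have : (a ^ m) ^ 2 ^ i = 1 := by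
        obtain ⟨k, rfl⟩ : ∃ k, i = k + 1 := ⟨i - 1, by omega⟩
        have e : m * 2 ^ (k + 1) = (2 * m) * 2 ^ k := by rw [pow_succ]; ring
        rw [← pow_mul, e, pow_mul, ← hm, pow_orderOf_eq_one, one_pow]
      rw [this, mul_one]
  -- a^2 ∈ commutator
  have hA2 : (Subgroup.zpowers a).Normal := Subgroup.normal_of_index_eq_two ha
  have hcA : commutator X ≤ Subgroup.zpowers a := by
    have hcyc : IsCyclic (X ⧸ Subgroup.zpowers a) := by
      apply isCyclic_of_prime_card (p := 2)
      rw [← Subgroup.index_eq_card, ha]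
    let _ : CommGroup (X ⧸ Subgroup.zpowers a) := IsCyclic.commGroup
    have := Abelianization.commutator_subset_ker (QuotientGroup.mk' (Subgroup.zpowers a))
    rwa [QuotientGroup.ker_mk'] at this
  have hrel : (commutator X).relIndex (Subgroup.zpowers a) = 2 := by
    have := Subgroup.relIndex_mul_index hcA
    rw [ha, hidx] at this
    omega
  have hbase : a ^ 2 ∈ commutator X := by
    have hn' : ((commutator X).subgroupOf (Subgroup.zpowers a)).Normal := inferInstance
    have := ((commutator X).subgroupOf (Subgroup.zpowers a)).pow_index_mem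
      (⟨a, Subgroup.mem_zpowers a⟩ : Subgroup.zpowers a)
    have hidx2 : ((commutator X).subgroupOf (Subgroup.zpowers a)).index = 2 := hrel
    rw [hidx2, Subgroup.mem_subgroupOf] at this
    simpa using this
  -- induction
  have hmem : ∀ i : ℕ, 1 ≤ i → a ^ (2 ^ i) ∈ (⊤ : Subgroup X).lowerCentralSeries i := by
    intro i hi
    induction i, hi using Nat.le_induction with
    | base =>
      have h3 : (⊤ : Subgroup X).lowerCentralSeries 1 = commutator X := rfl
      rw [h3, pow_one]; exact hbase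
    | succ i hi ih =>
      rw [Subgroup.lowerCentralSeries_succ]
      have h1 : ⁅a ^ (2 ^ i), b⁆ ∈ ⁅(⊤ : Subgroup X).lowerCentralSeries i, (⊤ : Subgroup X)⁆ :=
        Subgroup.commutator_mem_commutator ih (Subgroup.mem_top b)
      have h2 : ⁅a ^ (2 ^ i), b⁆ = a ^ (2 ^ (i + 1)) := by
        rw [commutatorElement_def]
        have h3 := hinv i hi
        have h4 : b * (a ^ 2 ^ i)⁻¹ * b⁻¹ = a ^ 2 ^ i := by
          have : b * (a ^ 2 ^ i)⁻¹ * b⁻¹ = (b * a ^ 2 ^ i * b⁻¹)⁻¹ := by group
          rw [this, h3, inv_inv]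
        calc a ^ 2 ^ i * b * (a ^ 2 ^ i)⁻¹ * b⁻¹ = a ^ 2 ^ i * (b * (a ^ 2 ^ i)⁻¹ * b⁻¹) := by group
          _ = a ^ 2 ^ i * a ^ 2 ^ i := by rw [h4]
          _ = a ^ 2 ^ (i + 1) := by rw [← pow_add, pow_succ, mul_two]
      rw [← h2]; exact h1
  -- lower bound
  have hlower : ¬ Group.nilpotencyClass X ≤ n - 2 := by
    intro hle
    have h1 := Subgroup.lowerCentralSeries_eq_bot_iff_nilpotencyClass_le.mpr hle
    have h2 := hmem (n - 2) (by omega)
    rw [h1, Subgroup.mem_bot, ← hmn] at h2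
    have h3 : orderOf a ∣ m := orderOf_dvd_of_pow_eq_one h2
    rw [hm] at h3
    have := Nat.le_of_dvd (by omega) h3
    omega
  omega

theorem result {X : Type*} [Group X] [Finite X] (n : ℕ) (hn : 3 ≤ n) (hX : Nat.card X = 2 ^ n) : Group.nilpotencyClass X = n - 1 ↔ IsKleinFour (X ⧸ commutator X) := by
  have hf2 : Fact (Nat.Prime 2) := ⟨Nat.prime_two⟩
  constructor
  · intro hc
    obtain ⟨hidx, hnc⟩ := Cfsg.Agent.Lib.Helper29.index_commutator_of_maxClass (p := 2) n hn hX hc
    apply isKleinFour_of_card_four_of_not_isCyclic _ hnc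
    rw [← Subgroup.index_eq_card, hidx]; norm_num
  · intro hK
    apply class_of_index_four n hn hX
    rw [Subgroup.index_eq_card]
    exact hK.card_four

end Cfsg.Agent.S0115
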