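import Cfsg.Statements.S0117
import Cfsg.Agent.Lib.Helper11.PStabAbelian
import Cfsg.Agent.Lib.Helper11.ThompsonCrit
import Cfsg.Agent.Lib.Helper11.NPC
import Cfsg.Agent.Lib.Helper11.ZJe.Thm

set_option autoImplicit false
open Cfsg

namespace Cfsg.Agent.S0117

open Cfsg.Agent.Lib.Helper11 Cfsg.Agent.Lib.Helper11.ZJe

/-- The Glauberman–Thompson Theorem states that for odd p, a single p-local subgroup, the normalizer of the centre of the Thompson subgroup of a Sylow p-subgroup, decides whether G has a normal p-complement. -/
theorem result {G : Type*} [Group G] [Finite G] {p : ℕ} [Fact p.Prime] (hp : p ≠ 2) (P : Sylow p G) : Cfsg.HasNormalPComplement p G ↔ Cfsg.HasNormalPComplement p (Subgroup.normalizer (Cfsg.centerThompsonOf p (P : Subgroup G) : Set G)) := by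
  constructor
  · intro h
    exact hasNPC_subgroup _ h
  · intro hN
    refine thompson_criterion p (WZ p) (isCharPFunctor_WZ p) (fun _ _ => True) (fun _ _ _ _ => trivial)
      (fun _ _ _ _ _ => trivial) ?_ _ G trivial rfl P (by rw [inducedFunctor_WZ]; exact hN)
    intro X _ _ _ hc hq T hT
    rw [inducedFunctor_WZ, centerThompsonOf_eq_zE]
    have h := zE_characteristic hp T
      (fun V _ hV => isPStableOn_of_coatom hp hq T hT V hV) hc
    exact Subgroup.normal_of_characteristic _

end Cfsg.Agent.S0117
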