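import Cfsg.Statements.S3071
import Cfsg.Agent.Lib.Helper11.LocFusion.Master

set_option autoImplicit false
open Cfsg

namespace Cfsg.Agent.S3071

open Cfsg.Agent.Lib.Helper11.LocFusion Cfsg.Agent.Lib.Helper33 Cfsg.Agent.Lib.Helper11.Dickson

universe u

/-- a section of a subgroup is a section of the group, inside that subgroup -/
theorem exists_section_le {T : Type*} [Group T] {G : Type u} [Group G] (N : Subgroup G)
    (h : Involves T ↥N) : ∃ (H K : Subgroup G) (_ : (K.subgroupOf H).Normal), H ≤ N ∧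
      Nonempty ((H ⧸ K.subgroupOf H) ≃* T) := by
  obtain ⟨K', R', hR', ⟨e⟩⟩ := h
  have := normal_subgroupOf_map_of_injective N.subtype N.subtype_injective K' R'
  obtain ⟨e'⟩ := exists_quotient_equiv N.subtype K' R' (R'.map N.subtype) (by
    intro k _
    constructor
    · intro hk
      exact ⟨k, hk, rfl⟩
    · rintro ⟨r, hr, hrk⟩
      have : r = k := N.subtype_injective hrk
      rw [← this]; exact hr)
  exact ⟨K'.map N.subtype, R'.map N.subtype, inferInstance, Subgroup.map_subtype_le _,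
    ⟨e'.symm.trans e⟩⟩

/-- All steps of a chain lie in a subgroup containing the relevant normalizers. -/
theorem chain_mem_of_forall' {Y : Type*} [Group Y] {𝓥 : Set (Subgroup Y → Subgroup Y)}
    {H T0 L : Subgroup Y}
    (hL : ∀ V ∈ 𝓥, Subgroup.normalizer ((V T0 : Subgroup Y) : Set Y) ≤ L) {A : Set Y} {g : Y}
    (h : Chain 𝓥 H T0 A g) : g ∈ L := by
  induction h with
  | nil A => exact L.one_mem
  | cons A y g hy _ _ ih =>
    obtain ⟨V, hV, hyV⟩ := hy
    exact L.mul_mem (hL V hV hyV.2) ih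

theorem main {G : Type u} [Group G] [Finite G] {p : ℕ} [Fact p.Prime]
    (hp : p ≠ 2) (S : Sylow p G)
    (hfree : ∀ P : Subgroup G, (S : Subgroup G) ⊓ Subgroup.centralizer ((S : Subgroup G) : Set G) ≤ P → P ≤ S →
      ¬ ∃ (H K : Subgroup G) (hK : (K.subgroupOf H).Normal), H ≤ Subgroup.normalizer (P : Set G) ∧
        Nonempty ((H ⧸ K.subgroupOf H) ≃* Matrix.SpecialLinearGroup (Fin 2) (ZMod p))) :
    ∀ x ∈ S, ∀ y ∈ S, (∃ g : G, g * x * g⁻¹ = y) →
      ∃ n ∈ Subgroup.normalizer (Cfsg.centerThompsonAOf (S : Subgroup G) : Set G), n * x * n⁻¹ = y := by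
  have hLH : LH p (S : Subgroup G) := by
    intro R hZR hRS hinv
    exact hfree R hZR hRS (exists_section_le _ hinv)
  have hctl := loc_master hp _ G S rfl hLH
  intro x hx y hy ⟨g, hg⟩
  have hA : ({y} : Set G) ⊆ ((S : Subgroup G) : Set G) := by
    intro a ha
    rw [Set.mem_singleton_iff] at ha
    rw [ha]; exact hy
  have hAg : rc g ({y} : Set G) ⊆ ((S : Subgroup G) : Set G) := by
    rintro _ ⟨a, ha, rfl⟩
    rw [Set.mem_singleton_iff] at ha
    rw [ha, ← hg]
    have : g⁻¹ * (g * x * g⁻¹) * g = x := by group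
    show g⁻¹ * (g * x * g⁻¹) * g ∈ (S : Subgroup G)
    rw [this]; exact hx
  obtain ⟨g', hch, hag⟩ := hctl {y} g hA hAg
  have hmem : g' ∈ Subgroup.normalizer
      ((Cfsg.inducedFunctor Cfsg.Agent.S0659.WA (S : Subgroup G) : Subgroup G) : Set G) := by
    apply chain_mem_of_forall' ?_ hch
    rintro V ⟨W', hW', rfl⟩
    unfold famA at hW'
    rw [Set.mem_singleton_iff] at hW'
    rw [hW']
  rw [Cfsg.Agent.S0659.inducedFunctor_WA] at hmem
  refine ⟨g', hmem, ?_⟩
  have h1 := hag y (Set.mem_singleton y)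
  have h2 : g⁻¹ * y * g = x := by rw [← hg]; group
  rw [h2] at h1
  rw [← h1]; group

/-- Let p be an odd prime and S a Sylow p-subgroup of the finite group G such that, for every subgroup P with Z(S) ≤ P ≤ S, the normalizer N_G(P) has no section isomorphic to SL₂(p). Let J(S) be the subgroup generated by the abelian subgroups of S of largest order. Then two elements of S are conjugate in G if and only if they are conjugate in N_G(Z(J(S))). -/
theorem result {G : Type*} [Group G] [Finite G] {p : ℕ} [Fact p.Prime]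
    (hp : p ≠ 2) (S : Sylow p G)
    (hfree : ∀ P : Subgroup G, (S : Subgroup G) ⊓ Subgroup.centralizer ((S : Subgroup G) : Set G) ≤ P → P ≤ S →
      ¬ ∃ (H K : Subgroup G) (hK : (K.subgroupOf H).Normal), H ≤ Subgroup.normalizer (P : Set G) ∧
        Nonempty ((H ⧸ K.subgroupOf H) ≃* Matrix.SpecialLinearGroup (Fin 2) (ZMod p))) :
    ∀ x ∈ S, ∀ y ∈ S, (∃ g : G, g * x * g⁻¹ = y) ↔
      ∃ n ∈ Subgroup.normalizer (Cfsg.centerThompsonAOf (S : Subgroup G) : Set G), n * x * n⁻¹ = y := by
  intro x hx y hy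
  constructor
  · exact main hp S hfree x hx y hy
  · rintro ⟨n, -, hn⟩
    exact ⟨n, hn⟩

end Cfsg.Agent.S3071
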