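import Cfsg.Statements.S0118
import Cfsg.Agent.Lib.Helper11.LocFusion.Master
import Cfsg.Agent.Lib.Helper11.ZJe.Thm
import Cfsg.Agent.S3071

set_option autoImplicit false
open Cfsg

namespace Cfsg.Agent.S0118

open Cfsg.Agent.Lib.Helper11.LocFusion Cfsg.Agent.Lib.Helper33 Cfsg.Agent.Lib.Helper11.Dickson
  Cfsg.Agent.Lib.Helper11.ZJe Subgroup
open scoped MatrixGroups

universe u

/-- the singleton family of the `Z(J_e)` functor -/
def famZ (p : ℕ) : Set (∀ (Q : Type u) [Group Q], Subgroup Q) := {WZ p}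

theorem famZ_char (p : ℕ) [Fact p.Prime] : ∀ W ∈ famZ.{u} p, IsCharPFunctor.{u} p W := by
  intro W hW
  unfold famZ at hW
  rw [Set.mem_singleton_iff] at hW
  rw [hW]
  exact isCharPFunctor_WZ p

/-- control in groups not involving `SL₂(p)` -/
theorem ctl_of_noSL2_Z {p : ℕ} [Fact p.Prime] (hp : p ≠ 2) {X : Type u} [Group X] [Finite X]
    (hX : NoSL2 p X) : FamilyControlsStrongFusionIn p (indFam (famZ.{u} p) X) ⊤ := by
  have h𝓦 := famZ_char.{u} p
  have hloc' : ∀ (X' : Type u) [Group X'] [Finite X'], Sec X X' →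
      centralizer ((pCore p X' : Subgroup X') : Set X') ≤ pCore p X' →
      FamilyControlsStrongFusionIn p (indFam (famZ.{u} p) X') ⊤ := by
    intro X' _ _ hX' hc
    have hfree' : NoSL2 p X' := by
      intro hinv
      obtain ⟨K', R', hR', ⟨e⟩⟩ := hX'
      apply hX
      have h2 : Involves SL(2, ZMod p) (↥K' ⧸ R'.subgroupOf K') :=
        Cfsg.Agent.Lib.Helper51.involves_of_injective e.toMonoidHom e.injective hinv
      exact Cfsg.Agent.Lib.Helper51.involves_of_injective K'.subtype K'.subtype_injective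
        (Cfsg.Agent.Lib.Helper51.involves_of_surjective (QuotientGroup.mk' (R'.subgroupOf K'))
          (QuotientGroup.mk'_surjective _) h2)
    obtain ⟨T'⟩ : Nonempty (Sylow p X') := inferInstance
    apply fcsf_of_ctlAt T'.isPGroup' T'.not_dvd_index
    intro A g _ hAg
    refine ⟨g, Chain.single
      ⟨inducedFunctor (WZ p), ⟨WZ p, rfl, rfl⟩,
        ⟨Subgroup.mem_top _, ?_⟩⟩ hAg, fun _ _ => rfl⟩
    rw [inducedFunctor_WZ, centerThompsonOf_eq_zE]
    have hchar := zE_characteristic hp T'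
      (fun V _ hV => isPStableOn_of_noSL2 hp hfree' V hV) hc
    haveI : (zE (Qe p) (T' : Subgroup X')).Normal := Subgroup.normal_of_characteristic _
    rw [Subgroup.normalizer_eq_top (zE (Qe p) (T' : Subgroup X'))]
    exact Subgroup.mem_top _
  exact sec_master h𝓦 hloc' _ X rfl (Sec.refl X)

/-- Glauberman's ZJ-Theorem, in the case of groups with no section isomorphic to SL(2,p), p odd: conjugation of subsets of a Sylow p-subgroup P inside P is always induced from the normalizer of Z(J(P)). -/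
theorem result {G : Type*} [Group G] [Finite G] {p : ℕ} [Fact p.Prime] (hp : p ≠ 2) (hfree : ¬ ∃ (H K : Subgroup G) (hK : (K.subgroupOf H).Normal), Nonempty ((H ⧸ K.subgroupOf H) ≃* Matrix.SpecialLinearGroup (Fin 2) (ZMod p))) (P : Sylow p G) (A : Set G) (hA : A ⊆ (P : Set G)) (g : G) (hAg : (fun a => g⁻¹ * a * g) '' A ⊆ (P : Set G)) : ∃ n ∈ Subgroup.normalizer (Cfsg.centerThompsonOf p (P : Subgroup G) : Set G), ∀ a ∈ A, n⁻¹ * a * n = g⁻¹ * a * g := by
  have hX : NoSL2 p G := hfree
  have h𝓦X := indFam_conj (famZ_char p) G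
  have hctl : CtlAt (indFam (famZ p) G) (P : Subgroup G) :=
    ctlAt_of_fcsf h𝓦X (ctl_of_noSL2_Z hp hX) P.isPGroup' P.not_dvd_index
  obtain ⟨g', hch, hag⟩ := hctl A g hA hAg
  have hmem : g' ∈ Subgroup.normalizer
      ((Cfsg.inducedFunctor (WZ p) (P : Subgroup G) : Subgroup G) : Set G) := by
    apply Cfsg.Agent.S3071.chain_mem_of_forall' ?_ hch
    rintro V ⟨W', hW', rfl⟩
    unfold famZ at hW'
    rw [Set.mem_singleton_iff] at hW'
    rw [hW']
  rw [inducedFunctor_WZ] at hmem
  exact ⟨g', hmem, hag⟩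

end Cfsg.Agent.S0118
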