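import Cfsg.Statements.S0119
import Cfsg.Agent.Lib.Helper53.CenterMeet
import Cfsg.Agent.Lib.Helper47.Frattini
import Cfsg.Agent.Lib.Helper24.Omega1
import Cfsg.Agent.Lib.Helper29.Extraspecial

set_option autoImplicit false
open Cfsg

namespace Cfsg.Agent.S0119

open Subgroup
open scoped commutatorElement

section aux

variable {G : Type*} [Group G]

/-- characteristic abelian subgroups fixed pointwise by `A` are central when `G = [G, A]` -/
theorem le_center_of_fixed (A : Subgroup (MulAut G))
    (hGA : Subgroup.closure {x : G | ∃ g : G, ∃ a ∈ A, x = g⁻¹ * a g} = ⊤)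
    (H : Subgroup G) (hHn : H.Normal) (hfix : ∀ a ∈ A, ∀ h ∈ H, a h = h) :
    H ≤ center G := by
  intro h hh
  have hle : Subgroup.closure {x : G | ∃ g : G, ∃ a ∈ A, x = g⁻¹ * a g} ≤
      centralizer ({h} : Set G) := by
    rw [Subgroup.closure_le]
    rintro x ⟨g, a, ha, rfl⟩
    show g⁻¹ * a g ∈ centralizer ({h} : Set G)
    rw [mem_centralizer_singleton_iff]
    have e1 : a (g * h * g⁻¹) = g * h * g⁻¹ := hfix a ha _ (hHn.conj_mem h hh g)
    rw [map_mul, map_mul, map_inv, hfix a ha h hh] at e1
    calc g⁻¹ * a g * h = g⁻¹ * (a g * h * (a g)⁻¹) * a g := by group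
      _ = g⁻¹ * (g * h * g⁻¹) * a g := by rw [e1]
      _ = h * (g⁻¹ * a g) := by group
  rw [hGA] at hle
  rw [mem_center_iff]
  intro g
  have := hle (mem_top g)
  rw [mem_centralizer_singleton_iff] at this
  exact this

/-- `[G', Z_2(G)] = 1` -/
theorem commutator_le_centralizer_Z2 :
    commutator G ≤ centralizer (Subgroup.upperCentralSeries G 2 : Set G) := by
  have h1 : ⁅Subgroup.upperCentralSeries G 2, (⊤ : Subgroup G)⁆ ≤ center G := by
    rw [Subgroup.commutator_le]
    intro x hx y _
    have := (Subgroup.mem_upperCentralSeries_succ_iff (n := 1)).mp hx y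
    rwa [Subgroup.upperCentralSeries_one] at this
  have h2 : ⁅⁅Subgroup.upperCentralSeries G 2, (⊤ : Subgroup G)⁆, (⊤ : Subgroup G)⁆ = ⊥ := by
    rw [Subgroup.commutator_eq_bot_iff_le_centralizer]
    refine h1.trans ?_
    intro z hz
    rw [mem_centralizer_iff]
    intro g _
    exact (mem_center_iff.mp hz g)
  have h3 : ⁅⁅(⊤ : Subgroup G), Subgroup.upperCentralSeries G 2⁆, (⊤ : Subgroup G)⁆ = ⊥ := by
    rw [Subgroup.commutator_comm (⊤ : Subgroup G) (Subgroup.upperCentralSeries G 2)]
    exact h2
  have h4 : ⁅⁅(⊤ : Subgroup G), (⊤ : Subgroup G)⁆, Subgroup.upperCentralSeries G 2⁆ = ⊥ :=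
    Subgroup.commutator_commutator_eq_bot_of_rotate h3 h2
  rw [Subgroup.commutator_eq_bot_iff_le_centralizer] at h4
  exact h4

end aux

section main

variable {G : Type*} [Group G] [Finite G] {p : ℕ} [hp : Fact p.Prime]

theorem commutator_le_center (hG : IsPGroup p G)
    (hcentral : ∀ H : Subgroup G, H.Characteristic → IsMulCommutative H → H ≤ center G) :
    commutator G ≤ center G := by
  have hMchar : (commutator G ⊓ Subgroup.upperCentralSeries G 2).Characteristic := by
    rw [characteristic_iff_le_comap]
    intro φ x hx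
    obtain ⟨hx1, hx2⟩ := mem_inf.mp hx
    have hc1 : (commutator G).Characteristic := inferInstance
    have hc2 : (Subgroup.upperCentralSeries G 2).Characteristic := inferInstance
    rw [mem_comap]
    refine mem_inf.mpr ⟨?_, ?_⟩
    · have := (characteristic_iff_le_comap.mp hc1) φ hx1
      exact this
    · have := (characteristic_iff_le_comap.mp hc2) φ hx2
      exact this
  have hMab : IsMulCommutative ↥(commutator G ⊓ Subgroup.upperCentralSeries G 2) := by
    refine ⟨⟨fun a b => ?_⟩⟩
    apply Subtype.ext
    have ha : (a : G) ∈ commutator G := (mem_inf.mp a.2).1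
    have hb : (b : G) ∈ Subgroup.upperCentralSeries G 2 := (mem_inf.mp b.2).2
    have := mem_centralizer_iff.mp (commutator_le_centralizer_Z2 ha) (b : G) hb
    exact this.symm
  have hM := hcentral _ hMchar hMab
  by_contra hcon
  have hZn : (center G).Normal := inferInstance
  have hNn : ((commutator G).map (QuotientGroup.mk' (center G))).Normal :=
    Subgroup.Normal.map inferInstance _ (QuotientGroup.mk'_surjective _)
  have hNne : (commutator G).map (QuotientGroup.mk' (center G)) ≠ ⊥ := by
    intro h
    apply hcon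
    intro x hx
    have : QuotientGroup.mk' (center G) x ∈ (commutator G).map (QuotientGroup.mk' (center G)) :=
      mem_map_of_mem _ hx
    rw [h, mem_bot] at this
    rwa [QuotientGroup.mk'_apply, QuotientGroup.eq_one_iff] at this
  have hQp : IsPGroup p (G ⧸ center G) := hG.to_quotient (center G)
  obtain ⟨b, hbN, hb1, hbZ⟩ :=
    Cfsg.Agent.Lib.Helper53.normal_meets_center hQp _ hNne
  obtain ⟨x, hx, rfl⟩ := mem_map.mp hbN
  have hxZ2 : x ∈ Subgroup.upperCentralSeries G 2 := by
    rw [Subgroup.mem_upperCentralSeries_succ_iff (n := 1)]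
    intro y
    rw [Subgroup.upperCentralSeries_one]
    have h1 := mem_center_iff.mp hbZ (QuotientGroup.mk' (center G) y)
    have h2 : QuotientGroup.mk' (center G) ⁅x, y⁆ = 1 := by
      rw [commutatorElement_def, map_mul, map_mul, map_mul, map_inv, map_inv, ← h1]
      group
    rwa [QuotientGroup.mk'_apply, QuotientGroup.eq_one_iff] at h2
  have hxZ : x ∈ center G := hM (mem_inf.mpr ⟨hx, hxZ2⟩)
  apply hb1
  rw [QuotientGroup.mk'_apply, QuotientGroup.eq_one_iff]
  exact hxZ

omit hp in
/-- elements fixed by `A` lie in the commutator subgroup -/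
theorem fixed_mem_commutator (hG : IsPGroup p G) (A : Subgroup (MulAut G))
    (hA : Nat.Coprime (Nat.card A) p)
    (hGA : Subgroup.closure {x : G | ∃ g : G, ∃ a ∈ A, x = g⁻¹ * a g} = ⊤)
    (g : G) (hg : ∀ a ∈ A, a g = g) : g ∈ commutator G := by
  classical
  have hfin : Finite (MulAut G) :=
    Finite.of_injective (fun a : MulAut G => (a : G → G)) DFunLike.coe_injective
  have hfinA : Finite ↥A := inferInstance
  let _ : Fintype ↥A := Fintype.ofFinite ↥A
  let N : G →* Abelianization G :=
    { toFun := fun x => ∏ a : ↥A, Abelianization.of ((a : MulAut G) x)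
      map_one' := by simp
      map_mul' := fun x y => by simp [Finset.prod_mul_distrib] }
  have hN1 : ∀ x ∈ {x : G | ∃ g : G, ∃ a ∈ A, x = g⁻¹ * a g}, N x = 1 := by
    rintro x ⟨g, b, hb, rfl⟩
    show ∏ a : ↥A, Abelianization.of ((a : MulAut G) (g⁻¹ * b g)) = 1
    simp only [map_mul, map_inv]
    rw [Finset.prod_mul_distrib, Finset.prod_inv_distrib]
    have : ∏ a : ↥A, Abelianization.of ((a : MulAut G) (b g)) =
        ∏ a : ↥A, Abelianization.of ((a : MulAut G) g) := by
      refine Fintype.prod_equiv (Equiv.mulRight (⟨b, hb⟩ : ↥A))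
        (fun a => Abelianization.of ((a : MulAut G) (b g)))
        (fun a => Abelianization.of ((a : MulAut G) g)) (fun a => ?_)
      simp [MulAut.mul_apply]
    rw [this, inv_mul_cancel]
  have hker : Subgroup.closure {x : G | ∃ g : G, ∃ a ∈ A, x = g⁻¹ * a g} ≤ N.ker := by
    rw [closure_le]
    intro x hx
    exact MonoidHom.mem_ker.mpr (hN1 x hx)
  rw [hGA] at hker
  have hNg : N g = 1 := MonoidHom.mem_ker.mp (hker (mem_top g))
  have hNg' : N g = Abelianization.of g ^ Nat.card ↥A := by
    show ∏ a : ↥A, Abelianization.of ((a : MulAut G) g) = _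
    rw [Finset.prod_congr rfl (fun a _ => by rw [hg a a.2]), Finset.prod_const, Finset.card_univ,
      Nat.card_eq_fintype_card]
  rw [hNg'] at hNg
  have hVp : IsPGroup p (Abelianization G) := hG.to_quotient (commutator G)
  have hinj := (hVp.powEquiv hA.symm).injective
  have h1 : Abelianization.of g = 1 := by
    apply hinj
    rw [IsPGroup.powEquiv_apply, IsPGroup.powEquiv_apply, hNg, one_pow]
  rw [← Abelianization.ker_of]
  exact MonoidHom.mem_ker.mpr h1

omit [Finite G] hp in
/-- In class two, if `k ^ p` is central then `k` commutes with every `x ^ p`. -/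
theorem commute_pow_of_pow_central (hcomm : commutator G ≤ center G) {k : G}
    (hk : k ^ p ∈ center G) (x : G) : x ^ p * k = k * x ^ p := by
  rw [← Cfsg.Agent.Lib.Helper29.cm_eq_one_iff, Cfsg.Agent.Lib.Helper29.cm_pow_left hcomm x k p]
  have h1 : Cfsg.Agent.Lib.Helper29.cm (k ^ p) x = 1 :=
    (Cfsg.Agent.Lib.Helper29.cm_eq_one_iff _ _).mpr ((mem_center_iff.mp hk x).symm)
  rw [Cfsg.Agent.Lib.Helper29.cm_pow_left hcomm k x p] at h1
  rw [← Cfsg.Agent.Lib.Helper29.cm_inv_swap k x, inv_pow, h1, inv_one]

omit [Finite G] in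
theorem pow_mem_commutator (hG : IsPGroup p G)
    (hcentral : ∀ H : Subgroup G, H.Characteristic → IsMulCommutative H → H ≤ center G)
    (hDZ : commutator G = center G) : ∀ x : G, x ^ p ∈ commutator G := by
  have hcomm : commutator G ≤ center G := hDZ.le
  have hfK : ∀ x : G, x ∈ ((powMonoidHom p).comp (Abelianization.of (G := G))).ker ↔
      x ^ p ∈ commutator G := by
    intro x
    rw [MonoidHom.mem_ker]
    show (Abelianization.of x) ^ p = 1 ↔ _
    rw [← map_pow, ← MonoidHom.mem_ker, Abelianization.ker_of]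
  have hc1 : (commutator G).Characteristic := inferInstance
  have hNchar : (((powMonoidHom p).comp (Abelianization.of (G := G))).ker ⊓
      (Subgroup.closure {y : G | ∃ x : G, y = x ^ p} ⊔ commutator G)).Characteristic := by
    rw [characteristic_iff_le_comap]
    intro φ x hx
    obtain ⟨hx1, hx2⟩ := mem_inf.mp hx
    rw [mem_comap]
    refine mem_inf.mpr ⟨?_, ?_⟩
    · rw [hfK] at hx1 ⊢
      have := (characteristic_iff_le_comap.mp hc1) φ hx1
      rw [mem_comap] at this
      simpa [map_pow] using this
    · have hle : (Subgroup.closure {y : G | ∃ x : G, y = x ^ p} ⊔ commutator G) ≤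
          (Subgroup.closure {y : G | ∃ x : G, y = x ^ p} ⊔ commutator G).comap φ.toMonoidHom := by
        apply sup_le
        · rw [closure_le]
          rintro y ⟨x, rfl⟩
          show φ.toMonoidHom (x ^ p) ∈
            (Subgroup.closure {y : G | ∃ x : G, y = x ^ p} ⊔ commutator G)
          rw [map_pow]
          exact mem_sup_left (Subgroup.subset_closure ⟨_, rfl⟩)
        · intro d hd
          exact mem_sup_right ((characteristic_iff_le_comap.mp hc1) φ hd)
      exact hle hx2
  have hNab : IsMulCommutative ↥(((powMonoidHom p).comp (Abelianization.of (G := G))).ker ⊓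
      (Subgroup.closure {y : G | ∃ x : G, y = x ^ p} ⊔ commutator G)) := by
    refine ⟨⟨fun a b => ?_⟩⟩
    apply Subtype.ext
    have ha : (a : G) ∈ ((powMonoidHom p).comp (Abelianization.of (G := G))).ker :=
      (mem_inf.mp a.2).1
    have hb : (b : G) ∈ (Subgroup.closure {y : G | ∃ x : G, y = x ^ p} ⊔ commutator G) :=
      (mem_inf.mp b.2).2
    have hapow : (a : G) ^ p ∈ center G := hcomm ((hfK _).mp ha)
    have hTle : (Subgroup.closure {y : G | ∃ x : G, y = x ^ p} ⊔ commutator G) ≤
        centralizer ({(a : G)} : Set G) := by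
      apply sup_le
      · rw [closure_le]
        rintro y ⟨x, rfl⟩
        show x ^ p ∈ centralizer ({(a : G)} : Set G)
        rw [mem_centralizer_singleton_iff]
        exact commute_pow_of_pow_central hcomm hapow x
      · intro d hd
        rw [mem_centralizer_singleton_iff]
        exact (mem_center_iff.mp (hcomm hd) _).symm
    have := hTle hb
    rw [mem_centralizer_singleton_iff] at this
    exact this.symm
  have hN := hcentral _ hNchar hNab
  intro x
  by_contra hx
  have hVp : IsPGroup p (Abelianization G) := hG.to_quotient (commutator G)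
  obtain ⟨m, hm⟩ := (IsPGroup.iff_orderOf.mp hVp) (Abelianization.of x)
  have hx' : (Abelianization.of x) ^ p ≠ 1 := by
    intro h
    apply hx
    rw [← Abelianization.ker_of, MonoidHom.mem_ker, map_pow]
    exact h
  have hm2 : 2 ≤ m := by
    by_contra hlt
    have hcases : m = 0 ∨ m = 1 := by omega
    rcases hcases with rfl | rfl
    · rw [pow_zero, orderOf_eq_one_iff] at hm
      exact hx' (by rw [hm, one_pow])
    · rw [pow_one] at hm
      exact hx' (by rw [← hm]; exact pow_orderOf_eq_one _)
  obtain ⟨m', rfl⟩ : ∃ m', m = m' + 2 := ⟨m - 2, by omega⟩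
  have hyK : x ^ (p ^ (m' + 1)) ∈ ((powMonoidHom p).comp (Abelianization.of (G := G))).ker := by
    rw [hfK, ← Abelianization.ker_of, MonoidHom.mem_ker, ← pow_mul, ← pow_succ, map_pow, ← hm]
    exact pow_orderOf_eq_one _
  have hyT : x ^ (p ^ (m' + 1)) ∈
      (Subgroup.closure {y : G | ∃ x : G, y = x ^ p} ⊔ commutator G) := by
    apply mem_sup_left
    apply Subgroup.subset_closure
    exact ⟨x ^ (p ^ m'), by rw [← pow_mul, ← pow_succ]⟩
  have hyZ : x ^ (p ^ (m' + 1)) ∈ center G := hN (mem_inf.mpr ⟨hyK, hyT⟩)
  have hyD : x ^ (p ^ (m' + 1)) ∈ commutator G := hDZ ▸ hyZ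
  have h1 : (Abelianization.of x) ^ (p ^ (m' + 1)) = 1 := by
    rw [← map_pow, ← MonoidHom.mem_ker, Abelianization.ker_of]
    exact hyD
  have hdvd := orderOf_dvd_of_pow_eq_one h1
  rw [hm] at hdvd
  have := (Nat.pow_dvd_pow_iff_le_right hp.out.one_lt).mp hdvd
  omega

end main

/-- If a p'-group A of automorphisms of a p-group G satisfies G = [G, A] and acts trivially on every characteristic abelian subgroup, then G is special with centre equal to the fixed points of A. -/
theorem result {G : Type*} [Group G] [Finite G] {p : ℕ} [Fact p.Prime] (hG : IsPGroup p G) (A : Subgroup (MulAut G)) (hA : Nat.Coprime (Nat.card A) p) (hGA : Subgroup.closure {x : G | ∃ g : G, ∃ a ∈ A, x = g⁻¹ * a g} = ⊤) (hchar : ∀ H : Subgroup G, H.Characteristic → IsMulCommutative H → ∀ a ∈ A, ∀ h ∈ H, a h = h) : Cfsg.IsSpecial p G ∧ (∀ g : G, (g ∈ Subgroup.center G ↔ ∀ a ∈ A, a g = g)) := by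
  have hcentral : ∀ H : Subgroup G, H.Characteristic → IsMulCommutative H → H ≤ center G := by
    intro H hHc hHa
    have hHn : H.Normal := inferInstance
    exact le_center_of_fixed A hGA H hHn (hchar H hHc hHa)
  have hcomm : commutator G ≤ center G := commutator_le_center hG hcentral
  have hZfix : ∀ a ∈ A, ∀ h ∈ center G, a h = h :=
    hchar (center G) inferInstance inferInstance
  have hZD : center G ≤ commutator G := fun z hz =>
    fixed_mem_commutator hG A hA hGA z (fun a ha => hZfix a ha z hz)
  have hDZ : commutator G = center G := le_antisymm hcomm hZD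
  have hpow := pow_mem_commutator hG hcentral hDZ
  refine ⟨⟨hG, ?_, hDZ⟩, ?_⟩
  · apply le_antisymm
    · apply Cfsg.Agent.Lib.Helper47.frattini_le_of_elementary_abelian_quotient p (center G)
      · intro x y
        exact hcomm (Subgroup.commutator_mem_commutator (mem_top x) (mem_top y))
      · intro x
        exact hcomm (hpow x)
    · rw [← hDZ]
      exact Cfsg.Agent.Lib.Helper24.commutator_le_frattini_of_isPGroup hG
  · intro g
    constructor
    · intro hg a ha
      exact hZfix a ha g hg
    · intro hg
      exact hcomm (fixed_mem_commutator hG A hA hGA g hg)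

end Cfsg.Agent.S0119
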