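import Mathlib
import Cfsg.Statements.S0123
import Cfsg.Agent.Lib.Helper29.ClassTwo
import Cfsg.Agent.Lib.Helper29.ClassThree

set_option autoImplicit false
open Cfsg
open Cfsg.Agent.Lib.Helper29

namespace Cfsg.Agent.S0123

theorem result {R : Type*} [Group R] [Finite R] {p : ℕ} [Fact p.Prime] (hR : IsPGroup p R) (hcl : (p ≠ 2 ∧ ⁅commutator R, (⊤ : Subgroup R)⁆ = ⊥) ∨ (3 < p ∧ ⁅⁅commutator R, (⊤ : Subgroup R)⁆, (⊤ : Subgroup R)⁆ = ⊥)) (hder : commutator R ≤ Subgroup.closure {x : R | x ^ p = 1}) (x y : R) : (x * y) ^ p = x ^ p * y ^ p := by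
  have hpp : p.Prime := Fact.out
  rcases hcl with ⟨hp2, h2⟩ | ⟨hp3, h3⟩
  · have hle : commutator R ≤ Subgroup.center R := by
      have := Subgroup.commutator_eq_bot_iff_le_centralizer.mp h2
      rwa [Subgroup.coe_top, Subgroup.centralizer_univ] at this
    have hc : (cm y x) ^ p = 1 :=
      pow_prime_eq_one_of_mem_closure hle hpp hp2 _ (hder (cm_mem_commutator y x))
    exact mul_pow_prime_classTwo hle hpp hp2 x y hc
  · -- every element of the derived subgroup has order dividing p
    have hexp : ∀ z ∈ commutator R, z ^ p = 1 := fun z hz =>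
      pow_prime_eq_one_of_mem_closure_classThree hpp hp3 h3 z (hder hz)
    have key : ∀ u v : R, (u * v) ^ p = v ^ p * u ^ p := by
      intro u v
      have ha := cm_mem_center_of_classThree h3 u _ (cm_mem_commutator u v)
      have hb := cm_mem_center_of_classThree h3 v _ (cm_mem_commutator u v)
      refine mul_pow_prime_classThree hpp hp3 ha hb (hexp _ (cm_mem_commutator u v)) ?_ ?_
      · have hm : cm u (cm u v) ∈ commutator R := cm_mem_commutator _ _
        exact hexp _ hm
      · have hm : cm v (cm u v) ∈ commutator R := cm_mem_commutator _ _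
        exact hexp _ hm
    -- (x y)^p = x (y x)^p x⁻¹ = x x^p y^p x⁻¹ = x^p (x y x⁻¹)^p = x^p (z y)^p = x^p y^p z^p
    have h1 : (x * y) ^ p = x * (y * x) ^ p * x⁻¹ := by
      have : x * y = x * (y * x) * x⁻¹ := by group
      rw [this, conj_pow]
    have h2 : x * y * x⁻¹ = cm x y * y := by simp only [cm]; group
    have h4 : (x * y * x⁻¹) ^ p = y ^ p := by
      rw [h2, key, hexp _ (cm_mem_commutator x y), mul_one]
    calc (x * y) ^ p = x * (y * x) ^ p * x⁻¹ := h1
      _ = x * (x ^ p * y ^ p) * x⁻¹ := by rw [key]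
      _ = x ^ p * (x * y * x⁻¹) ^ p := by
        rw [conj_pow]
        have : x * x ^ p = x ^ p * x := by rw [← pow_succ, ← pow_succ']
        calc x * (x ^ p * y ^ p) * x⁻¹ = (x * x ^ p) * y ^ p * x⁻¹ := by simp only [mul_assoc]
          _ = x ^ p * (x * y ^ p * x⁻¹) := by rw [this]; simp only [mul_assoc]
      _ = x ^ p * y ^ p := by rw [h4]

end Cfsg.Agent.S0123
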