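import Mathlib
import Cfsg.Statements.S0125

set_option autoImplicit false
open Cfsg

namespace Cfsg.Agent.S0125

theorem relIndex_dvd_index_of_normal_right' {G : Type*} [Group G] [Finite G]
    (T N : Subgroup G) [N.Normal] : T.relIndex N ∣ T.index := by
  have h1 : (T ⊓ N).relIndex T * T.relIndex (T ⊔ N) = (T ⊓ N).relIndex (T ⊔ N) :=
    Subgroup.relIndex_mul_relIndex _ _ _ inf_le_left le_sup_left
  have h2 : (T ⊓ N).relIndex N * N.relIndex (T ⊔ N) = (T ⊓ N).relIndex (T ⊔ N) :=
    Subgroup.relIndex_mul_relIndex _ _ _ inf_le_right le_sup_right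
  rw [Subgroup.inf_relIndex_left] at h1
  rw [Subgroup.inf_relIndex_right, Subgroup.relIndex_sup_right] at h2
  have h3 : N.relIndex T ≠ 0 := Subgroup.index_ne_zero_of_finite
  have h4 : T.relIndex (T ⊔ N) = T.relIndex N := by
    have : N.relIndex T * T.relIndex (T ⊔ N) = N.relIndex T * T.relIndex N := by
      rw [h1, ← h2, mul_comm]
    exact Nat.eq_of_mul_eq_mul_left (Nat.pos_of_ne_zero h3) this
  rw [← h4]
  exact Subgroup.relIndex_dvd_index_of_le le_sup_left

theorem not_dvd_relIndex_of_le_normalizer {G : Type*} [Group G] [Finite G] {p : ℕ} [Fact p.Prime]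
    (T : Sylow p G) (N : Subgroup G)
    (h : (T : Subgroup G) ≤ Subgroup.normalizer (N : Set G)) :
    ¬ p ∣ (T : Subgroup G).relIndex N := by
  set K : Subgroup G := (T : Subgroup G) ⊔ N with hK
  have hNK : N ≤ K := le_sup_right
  have hTK : (T : Subgroup G) ≤ K := le_sup_left
  have : (N.subgroupOf K).Normal :=
    (Subgroup.normal_subgroupOf_iff_le_normalizer hNK).mpr (sup_le h Subgroup.le_normalizer)
  let T' : Sylow p ↥K := T.subtype hTK
  have h1 : (T' : Subgroup ↥K).relIndex (N.subgroupOf K) ∣ (T' : Subgroup ↥K).index :=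
    relIndex_dvd_index_of_normal_right' _ _
  have h2 : (T' : Subgroup ↥K).relIndex (N.subgroupOf K) = (T : Subgroup G).relIndex N := by
    rw [Sylow.coe_subtype]
    exact Subgroup.relIndex_subgroupOf hNK
  rw [h2] at h1
  intro hd
  exact T'.not_dvd_index (dvd_trans hd h1)

theorem result {G : Type*} [Group G] [Finite G] {p : ℕ} [Fact p.Prime] (R : Sylow p G) (A : Subgroup G) (hAR : A ≤ (R : Subgroup G)) (hAn : (R : Subgroup G) ≤ Subgroup.normalizer (A : Set G)) (hC : (R : Subgroup G) ⊓ Subgroup.centralizer (A : Set G) = A) : ∃ H : Subgroup G, H ≤ Subgroup.centralizer (A : Set G) ∧ Nat.Coprime (Nat.card H) p ∧ Subgroup.centralizer (A : Set G) ≤ Subgroup.normalizer (H : Set G) ∧ H ⊓ A = ⊥ ∧ H ⊔ A = Subgroup.centralizer (A : Set G) := by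
  have hp : p.Prime := Fact.out
  set C : Subgroup G := Subgroup.centralizer (A : Set G) with hCdef
  have hAC : A ≤ C := by rw [← hC]; exact inf_le_right
  -- R normalizes C
  have hRC : (R : Subgroup G) ≤ Subgroup.normalizer (C : Set G) := by
    intro r hr
    have hrA := hAn hr
    rw [Subgroup.mem_normalizer_iff] at hrA ⊢
    have key : ∀ (s : G), (∀ a, a ∈ A ↔ s * a * s⁻¹ ∈ A) → ∀ c ∈ C, s * c * s⁻¹ ∈ C := by
      intro s hs c hc
      rw [hCdef, Subgroup.mem_centralizer_iff] at hc ⊢
      intro a ha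
      have ha' : s⁻¹ * a * s ∈ A := by
        rw [hs]; simpa [mul_assoc] using ha
      have := hc _ ha'
      calc a * (s * c * s⁻¹) = s * ((s⁻¹ * a * s) * c) * s⁻¹ := by group
        _ = s * (c * (s⁻¹ * a * s)) * s⁻¹ := by rw [this]
        _ = s * c * s⁻¹ * a := by group
    intro c
    constructor
    · exact key r hrA c
    · intro hc
      have hinv : ∀ a, a ∈ A ↔ r⁻¹ * a * r⁻¹⁻¹ ∈ A := by
        intro a
        rw [hrA (r⁻¹ * a * r⁻¹⁻¹)]
        simp [mul_assoc]
      have := key r⁻¹ hinv _ hc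
      simpa [mul_assoc] using this
  have hidx : ¬ p ∣ (A.subgroupOf C).index := by
    have := not_dvd_relIndex_of_le_normalizer R C hRC
    rwa [← Subgroup.inf_relIndex_right, hC] at this
  have hPG : IsPGroup p ↥(A.subgroupOf C) := (R.2.to_le hAR).comap_subtype
  let P : Sylow p ↥C := hPG.toSylow hidx
  have hPcoe : (P : Subgroup ↥C) = A.subgroupOf C := IsPGroup.toSylow_coe hPG hidx
  have hPcent : Subgroup.normalizer ((P : Subgroup ↥C) : Set ↥C) ≤
      Subgroup.centralizer ((P : Subgroup ↥C) : Set ↥C) := by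
    intro c _
    rw [Subgroup.mem_centralizer_iff]
    intro a ha
    rw [SetLike.mem_coe, hPcoe, Subgroup.mem_subgroupOf] at ha
    have hc : (c : G) ∈ Subgroup.centralizer (A : Set G) := c.2
    rw [Subgroup.mem_centralizer_iff] at hc
    exact Subtype.ext (hc _ ha)
  have hcompl := MonoidHom.ker_transferSylow_isComplement' P hPcent
  have hnd := MonoidHom.not_dvd_card_ker_transferSylow P hPcent
  set K : Subgroup ↥C := (MonoidHom.transferSylow P hPcent).ker with hKdef
  refine ⟨K.map C.subtype, Subgroup.map_subtype_le K, ?_, ?_, ?_, ?_⟩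
  · rw [Subgroup.card_map_of_injective C.subtype_injective]
    exact ((Nat.Prime.coprime_iff_not_dvd hp).mpr hnd).symm
  · have h1 : (Subgroup.normalizer (K : Set ↥C)).map C.subtype ≤
        Subgroup.normalizer ((K.map C.subtype : Subgroup G) : Set G) :=
      Subgroup.le_normalizer_map C.subtype
    have hKn : K.Normal := by rw [hKdef]; infer_instance
    have h2 : Subgroup.normalizer (K : Set ↥C) = ⊤ := Subgroup.normalizer_eq_top K
    rw [h2, ← MonoidHom.range_eq_map, Subgroup.range_subtype] at h1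
    exact h1
  · rw [eq_bot_iff]
    intro x hx
    obtain ⟨hxH, hxA⟩ := Subgroup.mem_inf.mp hx
    obtain ⟨k, hk, rfl⟩ := Subgroup.mem_map.mp hxH
    have : k ∈ K ⊓ (P : Subgroup ↥C) := by
      refine Subgroup.mem_inf.mpr ⟨hk, ?_⟩
      rw [hPcoe, Subgroup.mem_subgroupOf]
      exact hxA
    rw [hcompl.disjoint.eq_bot] at this
    rw [Subgroup.mem_bot] at this ⊢
    rw [this]; rfl
  · have h1 : A = (P : Subgroup ↥C).map C.subtype := by
      rw [hPcoe, Subgroup.subgroupOf_map_subtype]
      exact (inf_eq_left.mpr hAC).symm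
    conv_lhs => rw [h1]
    rw [← Subgroup.map_sup, hcompl.sup_eq_top, ← MonoidHom.range_eq_map, Subgroup.range_subtype]

end Cfsg.Agent.S0125
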