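import Mathlib
import Cfsg.Statements.S0131

set_option autoImplicit false
open Cfsg

namespace Cfsg.Agent.S0131

theorem fwd {G : Type*} [Group G] (P N : Subgroup G) [N.Normal]
    (h1 : N ⊓ P = ⁅P, P⁆) (h2 : N ⊔ P = ⊤) : commutator G ≤ N := by
  have hker : (QuotientGroup.mk' N).ker = N := QuotientGroup.ker_mk' N
  have hmapP : P.map (QuotientGroup.mk' N) = ⊤ := by
    have : (N ⊔ P).map (QuotientGroup.mk' N) = ⊤ := by
      rw [h2]; exact Subgroup.map_top_of_surjective _ (QuotientGroup.mk'_surjective N)
    rw [Subgroup.map_sup] at this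
    have hN : N.map (QuotientGroup.mk' N) = ⊥ := by
      rw [Subgroup.map_eq_bot_iff, hker]
    rwa [hN, bot_sup_eq] at this
  have hcomm : (commutator G).map (QuotientGroup.mk' N) = ⊥ := by
    have : (commutator G).map (QuotientGroup.mk' N) ≤ ⁅P, P⁆.map (QuotientGroup.mk' N) := by
      rw [commutator_def, Subgroup.map_commutator, Subgroup.map_commutator, hmapP]
      exact Subgroup.commutator_mono le_top le_top
    have h3 : ⁅P, P⁆.map (QuotientGroup.mk' N) = ⊥ := by
      rw [Subgroup.map_eq_bot_iff, hker, ← h1]; exact inf_le_left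
    rw [h3] at this
    exact le_bot_iff.mp this
  rw [Subgroup.map_eq_bot_iff, hker] at hcomm
  exact hcomm

theorem result {G : Type*} [Group G] [Finite G] {p : ℕ} [Fact p.Prime] (P : Sylow p G) : (∃ N : Subgroup G, N.Normal ∧ N ⊓ (P : Subgroup G) = ⁅(P : Subgroup G), (P : Subgroup G)⁆ ∧ N ⊔ (P : Subgroup G) = ⊤) ↔ commutator G ⊓ (P : Subgroup G) = ⁅(P : Subgroup G), (P : Subgroup G)⁆ := by
  have hp : p.Prime := Fact.out
  have hPP : ⁅(P : Subgroup G), (P : Subgroup G)⁆ ≤ commutator G ⊓ (P : Subgroup G) := by
    refine le_inf ?_ ?_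
    · rw [commutator_def]; exact Subgroup.commutator_mono le_top le_top
    · exact Subgroup.commutator_le_self _
  constructor
  · rintro ⟨N, hN, h1, h2⟩
    refine le_antisymm ?_ hPP
    rw [← h1]
    have := hN
    exact inf_le_inf_right _ (fwd (P : Subgroup G) N h1 h2)
  · intro h
    set k := (Nat.card G).factorization p with hk
    set m := Nat.card G / p ^ k with hm
    have hcard : p ^ k * m = Nat.card G := Nat.ordProj_mul_ordCompl_eq_self (Nat.card G) p
    have hcop : Nat.Coprime p m := Nat.coprime_ordCompl hp Nat.card_pos.ne'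
    let f : G →* Abelianization G := (powMonoidHom m).comp Abelianization.of
    have hmem : ∀ g : G, g ∈ f.ker ↔ g ^ m ∈ commutator G := by
      intro g
      rw [MonoidHom.mem_ker, ← Abelianization.ker_of, MonoidHom.mem_ker]
      simp [f]
    refine ⟨f.ker, inferInstance, ?_, ?_⟩
    · refine le_antisymm ?_ ?_
      · rw [← h]
        rintro g ⟨hg1, hg2⟩
        refine ⟨?_, hg2⟩
        have hgm := (hmem g).mp hg1
        obtain ⟨j, hj⟩ := (IsPGroup.iff_orderOf.mp P.2) ⟨g, hg2⟩
        have hord : orderOf g = p ^ j := by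
          rw [← hj]; exact (Subgroup.orderOf_mk g hg2).symm
        have hc : Nat.Coprime m (orderOf g) := by
          rw [hord]; exact (Nat.Coprime.pow_left j hcop).symm
        obtain ⟨t, ht⟩ := exists_pow_eq_self_of_coprime hc
        rw [← ht]
        exact Subgroup.pow_mem _ hgm t
      · refine le_trans hPP ?_
        refine inf_le_inf_right _ ?_
        intro g hg
        rw [hmem]
        exact Subgroup.pow_mem _ hg m
    · -- index argument
      have hidx : (f.ker ⊔ (P : Subgroup G)).index = 1 := by
        have h1 : (f.ker ⊔ (P : Subgroup G)).index ∣ (P : Subgroup G).index :=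
          Subgroup.index_dvd_of_le le_sup_right
        have h2 : (f.ker ⊔ (P : Subgroup G)).index ∣ f.ker.index :=
          Subgroup.index_dvd_of_le le_sup_left
        have hPG : IsPGroup p (G ⧸ f.ker) := by
          intro x
          induction x using QuotientGroup.induction_on with
          | H g =>
            refine ⟨k, ?_⟩
            rw [← QuotientGroup.mk_pow, QuotientGroup.eq_one_iff, hmem, ← pow_mul, hcard]
            rw [pow_card_eq_one']
            exact one_mem _
        obtain ⟨n, hn⟩ := IsPGroup.iff_card.mp hPG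
        rw [← Subgroup.index_eq_card] at hn
        rw [hn] at h2
        have h3 : ¬ p ∣ (P : Subgroup G).index := P.not_dvd_index
        obtain ⟨i, hi, hi2⟩ := (Nat.dvd_prime_pow hp).mp h2
        rcases Nat.eq_zero_or_pos i with h0 | hpos
        · rw [hi2, h0, pow_zero]
        · exfalso
          apply h3
          refine dvd_trans ?_ h1
          rw [hi2]
          exact dvd_pow_self p hpos.ne'
      exact Subgroup.index_eq_one.mp hidx

end Cfsg.Agent.S0131
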