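import Cfsg.Statements.S0139
import Cfsg.Agent.Lib.Helper3.Eigen

set_option autoImplicit false
open Cfsg

namespace Cfsg.Agent.S0139

/-- The kernel of a complex representation of a finite group is the set of elements where the character equals the degree. -/
theorem result {G : Type*} [Group G] [Finite G] {V : Type*} [AddCommGroup V] [Module ℂ V] [FiniteDimensional ℂ V] (ρ : Representation ℂ G V) (g : G) : ρ.character g = (Module.finrank ℂ V : ℂ) ↔ ρ g = LinearMap.id := by
  classical
  constructor
  · intro h
    obtain ⟨b, μ, h1, h2⟩ := Cfsg.Agent.Lib.Helper3.exists_eigenbasis_rep ρ g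
    rw [Cfsg.Agent.Lib.Helper3.character_eq_sum_eigen ρ g b μ h1] at h
    have hcard : (Module.finrank ℂ V : ℂ) = (Fintype.card (Fin (Module.finrank ℂ V)) : ℂ) := by simp
    rw [hcard] at h
    have hone := Cfsg.Agent.Lib.Helper3.eq_one_of_norm_one_of_sum_eq_card μ
      (fun i => Complex.norm_eq_one_of_pow_eq_one (h2 i) (orderOf_pos g).ne') h
    apply b.ext
    intro i
    rw [h1 i, hone i, one_smul, LinearMap.id_apply]
  · intro h
    rw [Representation.character, h]
    exact LinearMap.trace_id ℂ V

end Cfsg.Agent.S0139
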