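import Cfsg.Statements.S0154
import Cfsg.Agent.Lib.Helper79.Classes

set_option autoImplicit false
open Cfsg

namespace Cfsg.Agent.S0154

open Cfsg.Agent.Lib.Helper79

/-- The linear irreducible character attached to a homomorphism. -/
noncomputable def lin {G : Type*} [Group G] (φ : G →* ℂˣ) :
    {χ : Cfsg.IrrCharacter G // (χ : G → ℂ) 1 = 1} :=
  ⟨⟨fun g => ((φ g : ℂˣ) : ℂ), isIrrCharacter_of_monoidHom φ⟩, by simp⟩

theorem lin_bijective {G : Type*} [Group G] [Finite G] :
    Function.Bijective (lin : (G →* ℂˣ) → {χ : Cfsg.IrrCharacter G // (χ : G → ℂ) 1 = 1}) := by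
  constructor
  · intro φ ψ h
    ext g
    have := congrArg (fun χ : {χ : Cfsg.IrrCharacter G // (χ : G → ℂ) 1 = 1} =>
      ((χ : Cfsg.IrrCharacter G) : G → ℂ) g) h
    exact this
  · rintro ⟨χ, h1⟩
    obtain ⟨φ, hφ⟩ := exists_monoidHom_of_isCharacter_of_one
      (Cfsg.Agent.Lib.Helper3.IsIrrCharacter.isCharacter χ.2) h1
    refine ⟨φ, ?_⟩
    apply Subtype.ext
    apply Subtype.ext
    funext g
    exact (hφ g).symm

/-- A finite group has exactly as many irreducible complex characters of degree 1 as the index of its commutator subgroup. -/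
theorem result {G : Type*} [Group G] [Finite G] : Nat.card {χ : Cfsg.IrrCharacter G // (χ : G → ℂ) 1 = 1} = (commutator G).index := by
  rw [← Nat.card_congr (Equiv.ofBijective _ (lin_bijective (G := G)))]
  rw [Nat.card_congr (Abelianization.lift (G := G) (A := ℂˣ))]
  rw [CommGroup.card_monoidHom_of_hasEnoughRootsOfUnity (Abelianization G) ℂ]
  rfl

end Cfsg.Agent.S0154
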