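import Cfsg.Statements.S0161
import Cfsg.Agent.S0160

set_option autoImplicit false
open Cfsg
open Cfsg.Agent.Lib.Helper81

namespace Cfsg.Agent.S0161

theorem eq_one_of_isConj_inv {G : Type*} [Group G] [Finite G] (hodd : Odd (Nat.card G)) {g : G}
    (h : IsConj g g⁻¹) : g = 1 := by
  obtain ⟨x, hx⟩ := isConj_iff.1 h
  -- x² commutes with g
  have h2 : (x * x) * g * (x * x)⁻¹ = g := by
    calc (x * x) * g * (x * x)⁻¹ = x * (x * g * x⁻¹) * x⁻¹ := by group
      _ = x * g⁻¹ * x⁻¹ := by rw [hx]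
      _ = (x * g * x⁻¹)⁻¹ := by group
      _ = g := by rw [hx, inv_inv]
  have hcomm2 : Commute (x * x) g := by
    have : (x * x) * g = g * (x * x) := by
      calc (x * x) * g = ((x * x) * g * (x * x)⁻¹) * (x * x) := by group
        _ = g * (x * x) := by rw [h2]
    exact this
  -- x is a power of x²
  have hox : Odd (orderOf x) := by
    have hdvd : orderOf x ∣ Nat.card G := orderOf_dvd_natCard x
    exact Odd.of_dvd_nat hodd hdvd
  obtain ⟨j, hj⟩ := hox
  have hx' : x = (x * x) ^ (j + 1) := by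
    calc x = x ^ (orderOf x) * x := by rw [pow_orderOf_eq_one, one_mul]
      _ = (x * x) ^ (j + 1) := by
        rw [hj, ← pow_two, ← pow_mul, ← pow_succ]
        rfl
  have hcomm : Commute x g := by
    rw [hx']
    exact hcomm2.pow_left _
  have hg : g = g⁻¹ := by
    calc g = x * g * x⁻¹ := by rw [hcomm.eq]; group
      _ = g⁻¹ := hx
  have hg2 : g ^ 2 = 1 := by
    rw [pow_two]
    nth_rewrite 2 [hg]
    exact mul_inv_cancel g
  have hog : orderOf g ∣ 2 := orderOf_dvd_of_pow_eq_one hg2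
  have hog' : Odd (orderOf g) := Odd.of_dvd_nat hodd (orderOf_dvd_natCard g)
  have : orderOf g = 1 := by
    rcases (Nat.dvd_prime Nat.prime_two).1 hog with h1 | h1
    · exact h1
    · rw [h1] at hog'
      exact absurd hog' (by decide)
  exact orderOf_eq_one_iff.1 this

theorem card_real_irr_eq_one {G : Type*} [Group G] [Finite G] (hodd : Odd (Nat.card G)) :
    Nat.card {χ : Cfsg.IrrCharacter G // ∀ g : G, ((χ : G → ℂ) g).im = 0} = 1 := by
  rw [Cfsg.Agent.S0160.result]
  rw [Nat.card_eq_one_iff_unique]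
  refine ⟨⟨?_⟩, ⟨⟨ConjClasses.mk 1, ?_⟩⟩⟩
  · rintro ⟨C, hC⟩ ⟨D, hD⟩
    apply Subtype.ext
    obtain ⟨g, rfl⟩ := ConjClasses.exists_rep C
    obtain ⟨h, rfl⟩ := ConjClasses.exists_rep D
    have hg1 : g = 1 := eq_one_of_isConj_inv hodd (hC g rfl)
    have hh1 : h = 1 := eq_one_of_isConj_inv hodd (hD h rfl)
    show ConjClasses.mk g = ConjClasses.mk h
    rw [hg1, hh1]
  · intro g hg
    rw [ConjClasses.mk_eq_mk_iff_isConj, isConj_one_left] at hg
    rw [hg, inv_one]

/-- In a finite group of odd order, a real-valued irreducible complex character is the trivial character. -/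
theorem result {G : Type*} [Group G] [Finite G] (hodd : Odd (Nat.card G)) (χ : Cfsg.IrrCharacter G) (hreal : ∀ g : G, ((χ : G → ℂ) g).im = 0) : (χ : G → ℂ) = fun _ => 1 := by
  have hcard := card_real_irr_eq_one hodd
  rw [Nat.card_eq_one_iff_unique] at hcard
  obtain ⟨hsub, _⟩ := hcard
  have h1 : (⟨χ, hreal⟩ : {χ : Cfsg.IrrCharacter G // ∀ g : G, ((χ : G → ℂ) g).im = 0}) =
      ⟨oneIrr G, fun g => by rw [oneIrr_apply]; simp⟩ := Subsingleton.elim _ _
  have h2 := congrArg (fun a => (a.1 : G → ℂ)) h1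
  exact h2

end Cfsg.Agent.S0161
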