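import Cfsg.Statements.S0162
import Cfsg.Agent.S0161
import Cfsg.Agent.Lib.Helper80.Integral

set_option autoImplicit false
open Cfsg
open Cfsg.Agent.Lib.Helper81

namespace Cfsg.Agent.S0162

theorem charDegree_dvd_card {G : Type*} [Group G] [Finite G] (χ : Cfsg.IrrCharacter G) :
    charDegree (χ : G → ℂ) ∣ Nat.card G := by
  obtain ⟨_, n, ρ, hρ, rfl⟩ := χ
  have := hρ
  have : Fintype G := Fintype.ofFinite G
  have h := Cfsg.Agent.Lib.Helper80.finrank_dvd_card ρ
  have h1 : ρ.character 1 = ((Module.finrank ℂ (Fin n → ℂ) : ℕ) : ℂ) := Representation.char_one ρ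
  rw [charDegree_eq_of_apply_one h1]
  exact h

theorem zmod16_aux : ∀ x : ZMod 16, x.val % 2 = 1 → (x ^ 2 - 1) + (x ^ 2 - 1) = 0 := by decide

/-- If a finite group has odd order, its order is congruent to its number of conjugacy classes modulo 16. -/
theorem result {G : Type*} [Group G] [Finite G] (hodd : Odd (Nat.card G)) : Nat.card G ≡ Nat.card (ConjClasses G) [MOD 16] := by
  classical
  have := finite_irrCharacter (G := G)
  have : Fintype (IrrCharacter G) := Fintype.ofFinite _
  rw [← card_irrCharacter_eq_card_conjClasses]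
  -- |G| = Σ d²
  have hsum := sum_irr_deg_mul_one (G := G)
  have hsumN : ∑ χ : IrrCharacter G, (charDegree (χ : G → ℂ)) ^ 2 = Nat.card G := by
    have : ((∑ χ : IrrCharacter G, (charDegree (χ : G → ℂ)) ^ 2 : ℕ) : ℂ) = (Nat.card G : ℂ) := by
      rw [← hsum]
      push_cast
      refine Finset.sum_congr rfl fun χ _ => ?_
      rw [irr_apply_one_eq_charDegree, pow_two]
    exact_mod_cast this
  rw [← ZMod.natCast_eq_natCast_iff, ← sub_eq_zero, ← hsumN, Nat.card_eq_fintype_card]
  have hk : ((Fintype.card (IrrCharacter G) : ℕ) : ZMod 16) = ∑ _χ : IrrCharacter G, (1 : ZMod 16) := by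
    simp
  rw [hk]
  push_cast
  rw [← Finset.sum_sub_distrib]
  have hdeg : ∀ χ : IrrCharacter G, charDegree ((irrConj G χ : IrrCharacter G) : G → ℂ) =
      charDegree (χ : G → ℂ) := by
    intro χ
    apply charDegree_eq_of_apply_one
    rw [irrConj_apply, irr_apply_one_eq_charDegree]
    simp
  have hoddd : ∀ χ : IrrCharacter G, ((charDegree (χ : G → ℂ) : ℕ) : ZMod 16).val % 2 = 1 := by
    intro χ
    have h1 : Odd (charDegree (χ : G → ℂ)) := Odd.of_dvd_nat hodd (charDegree_dvd_card χ)
    rw [ZMod.val_natCast]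
    have : charDegree (χ : G → ℂ) % 16 % 2 = charDegree (χ : G → ℂ) % 2 :=
      Nat.mod_mod_of_dvd _ (by norm_num)
    rw [this]
    exact Nat.odd_iff.1 h1
  refine Finset.sum_involution (fun χ _ => irrConj G χ) ?_ ?_ (fun _ _ => Finset.mem_univ _) ?_
  · intro χ _
    rw [hdeg χ]
    exact zmod16_aux _ (hoddd χ)
  · intro χ _ hne heq
    apply hne
    rw [irrConj_eq_self_iff] at heq
    have h1 := Cfsg.Agent.S0161.result hodd χ heq
    have h2 : (χ : G → ℂ) 1 = ((1 : ℕ) : ℂ) := by
      rw [h1]; simp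
    rw [charDegree_eq_of_apply_one h2]
    simp
  · intro χ _
    apply Subtype.ext
    funext g
    simp only [irrConj_apply, Complex.conj_conj]
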