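import Cfsg.Statements.S0163
import Cfsg.Agent.Lib.Helper81.Imprim

set_option autoImplicit false
open Cfsg

namespace Cfsg.Agent.S0163

/-- Brauer's induction Theorem: every character of a finite group is a ℤ-linear combination of functions induced from linear characters (homomorphisms to ℂˣ) of elementary subgroups. -/
theorem result {G : Type*} [Group G] [Fintype G] (χ : G → ℂ) (hχ : Cfsg.IsCharacter G χ) : ∃ l : List ((E : Subgroup G) × ((E →* ℂˣ) × ℤ)), (∀ t ∈ l, ∃ p : ℕ, p.Prime ∧ Cfsg.IsElementary p t.1) ∧ χ = (l.map fun t => (t.2.2 : ℂ) • Cfsg.indFun t.1 (fun e => (t.2.1 e : ℂ))).sum := by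
  classical
  have key : ∀ f ∈ Cfsg.Agent.Lib.Helper81.brauerSpan G,
      ∃ l : List ((E : Subgroup G) × ((E →* ℂˣ) × ℤ)),
        (∀ t ∈ l, ∃ p : ℕ, p.Prime ∧ Cfsg.IsElementary p t.1) ∧
        f = (l.map fun t => (t.2.2 : ℂ) • Cfsg.indFun t.1 (fun e => (t.2.1 e : ℂ))).sum := by
    have hneg : ∀ la : List ((E : Subgroup G) × ((E →* ℂˣ) × ℤ)),
        -(la.map fun t => (t.2.2 : ℂ) • Cfsg.indFun t.1 (fun e => (t.2.1 e : ℂ))).sum =
        (la.map ((fun t : (E : Subgroup G) × ((E →* ℂˣ) × ℤ) =>
          (t.2.2 : ℂ) • Cfsg.indFun t.1 (fun e => (t.2.1 e : ℂ))) ∘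
          (fun t => ⟨t.1, t.2.1, -t.2.2⟩))).sum := by
      intro la
      induction la with
      | nil => simp
      | cons t la ih =>
        rw [List.map_cons, List.sum_cons, List.map_cons, List.sum_cons, neg_add, ih]
        congr 1
        simp only [Function.comp_apply, Int.cast_neg, neg_smul]
    intro f hf
    induction hf using AddSubgroup.closure_induction with
    | mem f hf =>
      obtain ⟨E, lam, hE, rfl⟩ := hf
      refine ⟨[⟨E, lam, 1⟩], ?_, ?_⟩
      · intro t ht
        rw [List.mem_singleton] at ht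
        subst ht
        exact hE
      · simp
    | zero => exact ⟨[], by simp, by simp⟩
    | add a b _ _ iha ihb =>
      obtain ⟨la, hla, rfl⟩ := iha
      obtain ⟨lb, hlb, rfl⟩ := ihb
      refine ⟨la ++ lb, ?_, ?_⟩
      · intro t ht
        rcases List.mem_append.1 ht with h | h
        · exact hla t h
        · exact hlb t h
      · rw [List.map_append, List.sum_append]
    | neg a _ iha =>
      obtain ⟨la, hla, rfl⟩ := iha
      refine ⟨la.map (fun t => ⟨t.1, t.2.1, -t.2.2⟩), ?_, ?_⟩
      · intro t ht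
        obtain ⟨s, hs, rfl⟩ := List.mem_map.1 ht
        exact hla s hs
      · rw [List.map_map]
        exact hneg la
  exact key χ (Cfsg.Agent.Lib.Helper81.mem_brauerSpan_of_isCharacter
    Cfsg.Agent.Lib.Helper81.imprimHyp χ hχ)

end Cfsg.Agent.S0163
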