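import Cfsg.Statements.S0164
import Cfsg.Agent.Lib.Helper81.Imprim

set_option autoImplicit false
open Cfsg

namespace Cfsg.Agent.S0164

/-- Brauer's characterisation of characters: a class function on a finite group whose restriction to every elementary subgroup is a generalized character is a generalized character. -/
theorem result {G : Type*} [Group G] [Finite G] (θ : G → ℂ) (hθ : Cfsg.IsClassFunction G θ) (hE : ∀ (E : Subgroup G) (p : ℕ), p.Prime → Cfsg.IsElementary p E → Cfsg.IsGeneralizedCharacter E (fun e : E => θ e)) : Cfsg.IsGeneralizedCharacter G θ := by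
  classical
  have : Fintype G := Fintype.ofFinite G
  have h1 : (fun _ : G => (1 : ℂ)) ∈ Cfsg.Agent.Lib.Helper81.brauerSpan G :=
    Cfsg.Agent.Lib.Helper81.mem_brauerSpan_of_isCharacter Cfsg.Agent.Lib.Helper81.imprimHyp _
      Cfsg.Agent.Lib.Helper3.IsCharacter.one
  have key : ∀ f ∈ Cfsg.Agent.Lib.Helper81.brauerSpan G,
      Cfsg.IsGeneralizedCharacter G (f * θ) := by
    intro f hf
    induction hf using AddSubgroup.closure_induction with
    | mem f hf =>
      obtain ⟨E, lam, ⟨p, hp, hEl⟩, rfl⟩ := hf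
      obtain ⟨α, β, hα, hβ, hαβ⟩ := hE E p hp hEl
      rw [← Cfsg.Agent.Lib.Helper3.indFun_mul_restrict E _ hθ]
      have hlam : Cfsg.IsCharacter E (fun e => ((lam e : ℂˣ) : ℂ)) :=
        Cfsg.Agent.Lib.Helper3.IsIrrCharacter.isCharacter
          (Cfsg.Agent.Lib.Helper79.isIrrCharacter_of_monoidHom lam)
      refine ⟨Cfsg.indFun E ((fun e => ((lam e : ℂˣ) : ℂ)) * α),
        Cfsg.indFun E ((fun e => ((lam e : ℂˣ) : ℂ)) * β),
        Cfsg.Agent.Lib.Helper3.isCharacter_indFun E (Cfsg.Agent.Lib.Helper3.IsCharacter.mul hlam hα),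
        Cfsg.Agent.Lib.Helper3.isCharacter_indFun E (Cfsg.Agent.Lib.Helper3.IsCharacter.mul hlam hβ), ?_⟩
      rw [← Cfsg.Agent.Lib.Helper3.indFun_sub]
      congr 1
      funext e
      have h2 := congrFun hαβ e
      simp only [Pi.mul_apply, Pi.sub_apply] at h2 ⊢
      rw [h2]
      ring
    | zero =>
      rw [zero_mul]
      exact ⟨0, 0, Cfsg.Agent.Lib.Helper3.IsCharacter.zero,
        Cfsg.Agent.Lib.Helper3.IsCharacter.zero, by simp⟩
    | add a b _ _ iha ihb =>
      obtain ⟨a1, a2, ha1, ha2, ha⟩ := iha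
      obtain ⟨b1, b2, hb1, hb2, hb⟩ := ihb
      refine ⟨a1 + b1, a2 + b2, Cfsg.Agent.Lib.Helper3.IsCharacter.add ha1 hb1,
        Cfsg.Agent.Lib.Helper3.IsCharacter.add ha2 hb2, ?_⟩
      rw [add_mul, ha, hb]
      abel
    | neg a _ iha =>
      obtain ⟨a1, a2, ha1, ha2, ha⟩ := iha
      refine ⟨a2, a1, ha2, ha1, ?_⟩
      rw [neg_mul, ha]
      abel
  have h3 := key _ h1
  have h2 : (fun _ : G => (1 : ℂ)) * θ = θ := by
    funext g
    simp
  rwa [h2] at h3

end Cfsg.Agent.S0164
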