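import Cfsg.Statements.S0166
import Cfsg.Agent.Lib.Helper76.KRep
import Cfsg.Agent.Lib.Helper76.KInd
import Cfsg.Agent.Lib.Helper76.KIrr
import Cfsg.Agent.Lib.Helper76.KNilp
import Cfsg.Agent.Lib.Helper3.Brauer
import Cfsg.Agent.Lib.Helper3.Decomp
import Cfsg.Agent.Lib.Helper79.Basic

set_option autoImplicit false
open Cfsg

set_option linter.style.haveILetI false

namespace Cfsg.Agent.S0166

open Cfsg.Agent.Lib.Helper3 Cfsg.Agent.Lib.Helper76

universe u w

/-- `K` (embedded by `ι`) contains all complex `m`-th roots of unity. -/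
def HasRoots {K : Type w} [Field K] (ι : K →+* ℂ) (m : ℕ) : Prop :=
  ∀ z : ℂ, z ^ m = 1 → z ∈ Set.range ι

theorem HasRoots.of_dvd {K : Type w} [Field K] {ι : K →+* ℂ} {m d : ℕ} (h : HasRoots ι m)
    (hd : d ∣ m) : HasRoots ι d := by
  intro z hz
  apply h
  obtain ⟨k, rfl⟩ := hd
  rw [pow_mul, hz, one_pow]

theorem exponent_subgroup_dvd {G : Type u} [Group G] (H : Subgroup G) :
    Monoid.exponent H ∣ Monoid.exponent G := by
  apply Monoid.exponent_dvd_of_forall_pow_eq_one
  intro h
  apply Subtype.ext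
  rw [Subgroup.coe_pow, Monoid.pow_exponent_eq_one]
  rfl

theorem exponent_quotient_dvd {G : Type u} [Group G] (N : Subgroup G) [N.Normal] :
    Monoid.exponent (G ⧸ N) ∣ Monoid.exponent G := by
  apply Monoid.exponent_dvd_of_forall_pow_eq_one
  intro q
  obtain ⟨g, rfl⟩ := QuotientGroup.mk_surjective q
  rw [← QuotientGroup.mk_pow, Monoid.pow_exponent_eq_one]
  rfl

/-- **Main induction**: over a field containing the `exp(G)`-th roots of unity every
irreducible character is realizable. -/
theorem kReal_irr {K : Type w} [Field K] [CharZero K] (ι : K →+* ℂ) :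
    ∀ (n : ℕ) (G : Type u) [Group G] [Finite G], Nat.card G = n →
      HasRoots ι (Monoid.exponent G) → ∀ χ : G → ℂ, IsIrrCharacter G χ → KReal ι G χ := by
  intro n
  induction n using Nat.strong_induction_on with
  | _ n ih =>
    intro G _ _ hn hroots χ hχ
    classical
    letI : Fintype G := Fintype.ofFinite G
    have hχc := IsIrrCharacter.isCharacter hχ
    -- all characters of smaller groups of exponent dividing that of `G`
    have stepA : ∀ (H : Type u) [Group H] [Finite H], Nat.card H < n →
        Monoid.exponent H ∣ Monoid.exponent G → ∀ θ : H → ℂ, IsCharacter H θ → KReal ι H θ := by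
      intro H _ _ hlt hexp θ hθ
      letI : Fintype H := Fintype.ofFinite H
      letI : Fintype (IrrCharacter H) := Fintype.ofFinite _
      obtain ⟨m, -, hsum⟩ := IsCharacter.exists_mult hθ
      rw [hsum]
      apply KReal.sum
      intro ψ _
      exact (ih _ hlt H rfl (hroots.of_dvd hexp) ψ.1 ψ.2).nsmul _
    have hsub : ∀ T : Subgroup G, T ≠ ⊤ → Nat.card T < n := by
      intro T hT
      rw [← hn]
      apply lt_of_le_of_ne (Subgroup.card_le_card_group T)
      intro h
      exact hT (T.eq_top_of_card_eq h)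
    by_cases h1 : χ 1 = 1
    · -- linear characters
      have hlin : IsCharacter G χ ∧ χ 1 = 1 := ⟨hχc, h1⟩
      apply KReal.of_linear hlin
      intro g
      apply hroots
      have h2 := map_pow (Cfsg.Agent.Lib.Helper15.linCharHom hlin) g (Monoid.exponent G)
      rw [Monoid.pow_exponent_eq_one, map_one, Cfsg.Agent.Lib.Helper15.linCharHom_apply] at h2
      exact h2.symm
    by_cases hind : ∃ (T : Subgroup G) (ψ : T → ℂ), T ≠ ⊤ ∧ IsIrrCharacter T ψ ∧ indFun T ψ = χ
    · obtain ⟨T, ψ, hT, hψ, rfl⟩ := hind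
      apply KReal.ind
      exact stepA T (hsub T hT) (exponent_subgroup_dvd T) ψ (IsIrrCharacter.isCharacter hψ)
    by_cases hker : Cfsg.Agent.Lib.Helper79.charKer hχc = ⊥
    swap
    · -- not faithful: pass to the quotient
      obtain ⟨ψ, hψ, hψχ⟩ := Cfsg.Agent.Lib.Helper79.isIrrCharacter_deflate hχ
        (Cfsg.Agent.Lib.Helper79.charKer hχc)
        (fun x hx => (Cfsg.Agent.Lib.Helper79.mem_charKer hχc x).1 hx)
      have hlt : Nat.card (G ⧸ Cfsg.Agent.Lib.Helper79.charKer hχc) < n := by
        have h2 := Subgroup.card_eq_card_quotient_mul_card_subgroup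
          (Cfsg.Agent.Lib.Helper79.charKer hχc)
        have h3 : 1 < Nat.card (Cfsg.Agent.Lib.Helper79.charKer hχc) :=
          (Subgroup.one_lt_card_iff_ne_bot _).mpr hker
        have h4 : 0 < Nat.card (G ⧸ Cfsg.Agent.Lib.Helper79.charKer hχc) := Nat.card_pos
        rw [hn] at h2
        nlinarith
      have h5 := (ih _ hlt (G ⧸ Cfsg.Agent.Lib.Helper79.charKer hχc) rfl
        (hroots.of_dvd (exponent_quotient_dvd _)) ψ hψ).comp_hom
        (QuotientGroup.mk' (Cfsg.Agent.Lib.Helper79.charKer hχc))
      have h6 : (fun x => ψ (QuotientGroup.mk' (Cfsg.Agent.Lib.Helper79.charKer hχc) x)) = χ := by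
        funext g
        exact hψχ g
      rwa [h6] at h5
    -- faithful
    have hfaith : ∀ g, χ g = χ 1 → g = 1 := by
      intro g hg
      have : g ∈ Cfsg.Agent.Lib.Helper79.charKer hχc :=
        (Cfsg.Agent.Lib.Helper79.mem_charKer hχc g).2 hg
      rw [hker] at this
      exact Subgroup.mem_bot.mp this
    have hnel : ∀ p : ℕ, p.Prime → ¬ IsElementary p G := by
      intro p hp hE
      exact hind (exists_proper_induced_of_isElementary hp hE hχ hfaith h1)
    -- Brauer's induction theorem
    have hmem := mem_indSpan_of_one_mem (one_mem_indSpan_elementary (G := G)) hχc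
    obtain ⟨l, hl, hsum⟩ := exists_list_of_mem_indSpan hmem
    apply KReal.of_irr_of_list hχ (l.map fun t => (indFun t.1 t.2.1, t.2.2))
    · intro t ht
      obtain ⟨s, hs, rfl⟩ := List.mem_map.mp ht
      obtain ⟨⟨p, hp, hE⟩, hθ⟩ := hl s hs
      apply KReal.ind
      have hne : s.1 ≠ ⊤ := by
        intro htop
        apply hnel p hp
        rw [htop] at hE
        exact IsElementary.of_mulEquiv Subgroup.topEquiv hE
      exact stepA s.1 (hsub s.1 hne) (exponent_subgroup_dvd s.1) s.2.1 hθ
    · rw [hsum, List.map_map]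
      rfl

/-- Brauer's splitting field Theorem: a complex representation of a finite group of exponent m is equivalent to a representation by matrices with entries in ℚ adjoined exp(2πi/m). -/
theorem result {G : Type*} [Group G] [Finite G] (n : ℕ) (ρ : Representation ℂ G (Fin n → ℂ)) : ∃ σ : Representation ℂ G (Fin n → ℂ), Nonempty (ρ.Equiv σ) ∧ ∀ g : G, ∀ i j : Fin n, LinearMap.toMatrix' (σ g) i j ∈ Algebra.adjoin ℚ ({Complex.exp (2 * Real.pi * Complex.I / (Monoid.exponent G : ℂ))} : Set ℂ) := by
  classical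
  set m := Monoid.exponent G with hmdef
  have hm : m ≠ 0 := Monoid.exponent_ne_zero_of_finite
  set ζ : ℂ := Complex.exp (2 * Real.pi * Complex.I / (m : ℂ)) with hζdef
  have hprim : IsPrimitiveRoot ζ m := Complex.isPrimitiveRoot_exp m hm
  let K : IntermediateField ℚ ℂ := IntermediateField.adjoin ℚ {ζ}
  let ι : K →+* ℂ := algebraMap K ℂ
  have hζK : ζ ∈ K := IntermediateField.mem_adjoin_simple_self ℚ ζ
  haveI : NeZero m := ⟨hm⟩
  have hroots : HasRoots ι m := by
    intro z hz
    obtain ⟨i, -, hi⟩ := hprim.eq_pow_of_pow_eq_one hz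
    refine ⟨⟨ζ ^ i, pow_mem hζK i⟩, ?_⟩
    rw [← hi]
    rfl
  letI : Fintype G := Fintype.ofFinite G
  letI : Fintype (IrrCharacter G) := Fintype.ofFinite _
  have hρ := isCharacter_character ρ
  obtain ⟨mult, -, hsum⟩ := IsCharacter.exists_mult hρ
  have hK : KReal ι G ρ.character := by
    rw [hsum]
    apply KReal.sum
    intro ψ _
    exact (kReal_irr ι _ G rfl hroots ψ.1 ψ.2).nsmul _
  obtain ⟨n', ρK, hρK⟩ := hK
  have hnn : n' = n := by
    have h1 := hρK 1
    rw [Representation.char_one, Representation.char_one, map_natCast] at h1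
    simp only [Module.finrank_fin_fun] at h1
    exact_mod_cast h1.symm
  subst hnn
  refine ⟨cplx ι ρK, ?_, ?_⟩
  · apply nonempty_equiv_of_character_eq
    funext g
    rw [cplx_character, hρK g]
  · intro g i j
    rw [cplx_toMatrix']
    have halg : IsAlgebraic ℚ ζ :=
      ((hprim.isIntegral (Nat.pos_of_ne_zero hm)).tower_top (A := ℚ)).isAlgebraic
    have hKeq : K.toSubalgebra = Algebra.adjoin ℚ {ζ} :=
      IntermediateField.adjoin_simple_toSubalgebra_of_isAlgebraic halg
    rw [← hKeq]
    exact (LinearMap.toMatrix' (ρK g) i j).2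

end Cfsg.Agent.S0166
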