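import Cfsg.Statements.S0167
import Cfsg.Agent.Lib.Helper80.Main

set_option autoImplicit false
open Cfsg

namespace Cfsg.Agent.S0167

/-- An element g of a finite group is a commutator if and only if the sum over the irreducible characters χ of χ g / χ 1 is nonzero. -/
theorem result {G : Type*} [Group G] [Finite G] (g : G) : (∃ a b : G, g = a * b * a⁻¹ * b⁻¹) ↔ ∑ᶠ χ : Cfsg.IrrCharacter G, (χ : G → ℂ) g / (χ : G → ℂ) 1 ≠ 0 := by
  have hcount := Cfsg.Agent.Lib.Helper80.commutator_count g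
  have hG : (Nat.card G : ℂ) ≠ 0 := by
    have : 0 < Nat.card G := Nat.card_pos
    exact_mod_cast this.ne'
  constructor
  · rintro ⟨a, b, hab⟩ hzero
    rw [hzero, mul_zero] at hcount
    have h0 : Nat.card {xy : G × G // xy.1 * xy.2 * xy.1⁻¹ * xy.2⁻¹ = g} = 0 := by
      exact_mod_cast hcount
    have hfin : Finite {xy : G × G // xy.1 * xy.2 * xy.1⁻¹ * xy.2⁻¹ = g} := inferInstance
    rw [Nat.card_eq_zero] at h0
    rcases h0 with h0 | h0
    · exact h0.false ⟨(a, b), hab.symm⟩
    · exact not_finite {xy : G × G // xy.1 * xy.2 * xy.1⁻¹ * xy.2⁻¹ = g}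
  · intro hne
    by_contra hcon
    have h0 : Nat.card {xy : G × G // xy.1 * xy.2 * xy.1⁻¹ * xy.2⁻¹ = g} = 0 := by
      rw [Nat.card_eq_zero]
      left
      constructor
      rintro ⟨⟨a, b⟩, hab⟩
      exact hcon ⟨a, b, hab.symm⟩
    rw [h0, Nat.cast_zero] at hcount
    rcases mul_eq_zero.mp hcount.symm with h | h
    · exact hG h
    · exact hne h

end Cfsg.Agent.S0167
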