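import Cfsg.Statements.S0168
import Cfsg.Agent.Lib.Helper3.CharOps
import Cfsg.Agent.S0139

set_option autoImplicit false
open Cfsg

namespace Cfsg.Agent.S0168

open scoped ComplexConjugate
open Cfsg.Agent.Lib.Helper3

/-- The Burnside–Brauer Theorem. Let χ be the character of a faithful complex representation of a finite group, taking m distinct values. Then every irreducible character has nonzero inner product with χ ^ i for some i < m. -/
theorem result {G : Type*} [Group G] [Fintype G] {V : Type*} [AddCommGroup V] [Module ℂ V] [FiniteDimensional ℂ V] (ρ : Representation ℂ G V) (hfaithful : Function.Injective ρ) (ψ : G → ℂ) (hψ : Cfsg.IsIrrCharacter G ψ) : ∃ i : ℕ, i < Nat.card (Set.range ρ.character) ∧ Cfsg.classInner (fun g => ρ.character g ^ i) ψ ≠ 0 := by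
  classical
  have hcard : (Nat.card G : ℂ) ≠ 0 := by exact_mod_cast Nat.card_pos.ne'
  have hfin : Finite (Set.range ρ.character) := Set.finite_range _
  have := Fintype.ofFinite (Set.range ρ.character)
  set m := Nat.card (Set.range ρ.character) with hm
  have hmc : Fintype.card (Set.range ρ.character) = m := by
    rw [hm, Nat.card_eq_fintype_card]
  let e : Set.range ρ.character ≃ Fin m := Fintype.equivFinOfCardEq hmc
  let v : Fin m → ℂ := fun j => ((e.symm j : Set.range ρ.character) : ℂ)
  have hv : Function.Injective v := by
    intro a b hab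
    have : e.symm a = e.symm b := Subtype.ext hab
    exact e.symm.injective this
  by_contra hcon
  push Not at hcon
  let B : Fin m → ℂ := fun j => ∑ g : G, if ρ.character g = v j then conj (ψ g) else 0
  have hkey : ∀ i : Fin m, ∑ j : Fin m, B j * v j ^ (i : ℕ) = 0 := by
    intro i
    have h1 := hcon i i.2
    unfold classInner at h1
    have h2 : ∑ g : G, ρ.character g ^ (i : ℕ) * conj (ψ g) = 0 := by
      rcases mul_eq_zero.mp h1 with h3 | h3
      · exact absurd (inv_eq_zero.mp h3) hcard
      · exact h3
    rw [← h2]
    simp only [B, Finset.sum_mul]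
    rw [Finset.sum_comm]
    apply Finset.sum_congr rfl
    intro g _
    rw [Finset.sum_eq_single (e ⟨ρ.character g, Set.mem_range_self g⟩)]
    · have : v (e ⟨ρ.character g, Set.mem_range_self g⟩) = ρ.character g := by
        simp [v]
      rw [this, if_pos rfl, mul_comm]
    · intro j _ hj
      rw [if_neg, zero_mul]
      intro h
      apply hj
      apply e.symm.injective
      rw [Equiv.symm_apply_apply]
      exact Subtype.ext h.symm
    · intro h
      exact absurd (Finset.mem_univ _) h
  have hvm : Matrix.vecMul B (Matrix.vandermonde v) = 0 := by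
    funext i
    simp only [Matrix.vecMul, dotProduct, Matrix.vandermonde_apply, Pi.zero_apply]
    exact hkey i
  have hdet : (Matrix.vandermonde v).det ≠ 0 := Matrix.det_vandermonde_ne_zero_iff.mpr hv
  have hB : B = 0 := Matrix.eq_zero_of_vecMul_eq_zero hdet hvm
  -- evaluate at the index of χ(1)
  let j₁ := e ⟨ρ.character 1, Set.mem_range_self 1⟩
  have hj₁ : v j₁ = ρ.character 1 := by simp [v, j₁]
  have hB1 : B j₁ = conj (ψ 1) := by
    simp only [B]
    rw [Finset.sum_eq_single (1 : G)]
    · rw [hj₁, if_pos rfl]
    · intro g _ hg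
      rw [if_neg]
      intro h
      apply hg
      rw [hj₁, Representation.char_one] at h
      have h2 := (Cfsg.Agent.S0139.result ρ g).mp h
      apply hfaithful
      rw [h2, map_one]
      rfl
    · intro h
      exact absurd (Finset.mem_univ _) h
  have hψ1 : ψ 1 ≠ 0 := by
    obtain ⟨k, τ, hτ, rfl⟩ := hψ
    have hτV : Nontrivial (Fin k → ℂ) := ((isIrreducible_iff τ).mp hτ).1
    rw [Representation.char_one]
    exact_mod_cast (Module.finrank_pos (R := ℂ) (M := Fin k → ℂ)).ne'
  have h0 : B j₁ = 0 := by rw [hB]; rfl
  rw [hB1] at h0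
  exact hψ1 ((map_eq_zero _).mp h0)

end Cfsg.Agent.S0168
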