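import Cfsg.Statements.S0198
import Cfsg.Agent.Lib.Helper25.NormTwo
import Cfsg.Agent.Lib.Helper81.OneIrr

set_option autoImplicit false
open Cfsg

namespace Cfsg.Agent.S0198

open Cfsg.Agent.Lib.Helper25 Cfsg.Agent.Lib.Helper81

theorem pair_lemma {G : Type*} [Group G] [Fintype G] {a b c d : G → ℂ}
    (ha : IsIrrCharacter G a) (hb : IsIrrCharacter G b) (hc : IsIrrCharacter G c)
    (hd : IsIrrCharacter G d) (hab : a ≠ b) (hcd : c ≠ d)
    (h : classInner (a - b) (c - d) = 1) : (a = c ∧ b ≠ d) ∨ (a ≠ c ∧ b = d) := by
  rw [classInner_sub_left, classInner_sub_right, classInner_sub_right,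
    Cfsg.Agent.Lib.Helper3.classInner_irr ha hc, Cfsg.Agent.Lib.Helper3.classInner_irr ha hd,
    Cfsg.Agent.Lib.Helper3.classInner_irr hb hc, Cfsg.Agent.Lib.Helper3.classInner_irr hb hd] at h
  by_cases h1 : a = c
  · subst h1
    rw [if_pos rfl, if_neg hcd, if_neg hab.symm] at h
    by_cases h2 : b = d
    · rw [if_pos h2] at h
      norm_num at h
    · exact Or.inl ⟨rfl, h2⟩
  · by_cases h2 : b = d
    · exact Or.inr ⟨h1, h2⟩
    · rw [if_neg h1, if_neg h2] at h
      by_cases h3 : a = d <;> by_cases h4 : b = c <;> simp only [h3, h4, if_true, if_false] at h <;>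
        norm_num at h

/-- The isometry lemma behind exceptional characters. Let τ be a family of generalized characters of a finite group G indexed by Fin n, with τ i₀ = 0, every τ i vanishing at the identity, and inner products ⟨τ i, τ j⟩ = 2 if i = j and 1 otherwise for i, j ≠ i₀. Then there are a sign ε and pairwise distinct irreducible characters μ i with τ i = ε (μ i − μ i₀) for all i. -/
theorem result {G : Type*} [Group G] [Fintype G] (n : ℕ) (i₀ : Fin n) (τ : Fin n → (G → ℂ)) (h0 : τ i₀ = 0) (hgen : ∀ i, Cfsg.IsGeneralizedCharacter G (τ i)) (hone : ∀ i, τ i 1 = 0) (hgram : ∀ i j, i ≠ i₀ → j ≠ i₀ → Cfsg.classInner (τ i) (τ j) = if i = j then 2 else 1) : ∃ ε : ℂ, (ε = 1 ∨ ε = -1) ∧ ∃ μ : Fin n → (G → ℂ), (∀ i, Cfsg.IsIrrCharacter G (μ i)) ∧ Function.Injective μ ∧ ∀ i, τ i = ε • (μ i - μ i₀) := by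
  classical
  have hex : ∀ i : Fin n, ∃ a b : G → ℂ, IsIrrCharacter G a ∧ IsIrrCharacter G b ∧
      (i ≠ i₀ → a ≠ b ∧ τ i = a - b) := by
    intro i
    by_cases hi : i = i₀
    · exact ⟨fun _ => 1, fun _ => 1, isIrrCharacter_one, isIrrCharacter_one, fun h => absurd hi h⟩
    · have h2 : classInner (τ i) (τ i) = 2 := by rw [hgram i i hi hi, if_pos rfl]
      obtain ⟨a, b, ha, hb, hab, hτ⟩ := genChar_norm_two (hgen i) h2 (hone i)
      exact ⟨a, b, ha, hb, fun _ => ⟨hab, hτ⟩⟩
  choose a b ha hb hab using hex
  have hpair : ∀ i j, i ≠ i₀ → j ≠ i₀ → i ≠ j →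
      (a i = a j ∧ b i ≠ b j) ∨ (a i ≠ a j ∧ b i = b j) := by
    intro i j hi hj hij
    apply pair_lemma (ha i) (hb i) (ha j) (hb j) (hab i hi).1 (hab j hj).1
    rw [← (hab i hi).2, ← (hab j hj).2, hgram i j hi hj, if_neg hij]
  by_cases hI : ∃ i₁, i₁ ≠ i₀
  · obtain ⟨i₁, hi₁⟩ := hI
    by_cases hA : ∀ j, j ≠ i₀ → a j = a i₁
    · -- all the `a`'s agree
      refine ⟨-1, Or.inr rfl, fun i => if i = i₀ then a i₁ else b i, ?_, ?_, ?_⟩
      · intro i
        by_cases hi : i = i₀
        · simp only [hi, if_true]; exact ha i₁
        · simp only [hi, if_false]; exact hb i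
      · intro i j hij
        by_cases hi : i = i₀
        · by_cases hj : j = i₀
          · rw [hi, hj]
          · exfalso
            simp only [hi, hj, if_true, if_false] at hij
            apply (hab j hj).1
            rw [hA j hj, hij]
        · by_cases hj : j = i₀
          · exfalso
            simp only [hi, hj, if_true, if_false] at hij
            apply (hab i hi).1
            rw [hA i hi, ← hij]
          · simp only [hi, hj, if_false] at hij
            by_contra hne
            rcases hpair i j hi hj hne with h | h
            · exact h.2 hij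
            · exact h.1 (by rw [hA i hi, hA j hj])
      · intro i
        by_cases hi : i = i₀
        · subst hi
          simp only [if_true, sub_self, smul_zero]
          exact h0
        · simp only [hi, if_false, if_true]
          rw [(hab i hi).2, hA i hi]
          funext g
          simp
    · -- all the `b`'s agree
      push Not at hA
      obtain ⟨j₁, hj₁, hj₁a⟩ := hA
      have hj₁i₁ : j₁ ≠ i₁ := fun h => hj₁a (by rw [h])
      have hb₁ : b j₁ = b i₁ := by
        rcases hpair j₁ i₁ hj₁ hi₁ hj₁i₁ with h | h
        · exact absurd h.1 hj₁a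
        · exact h.2
      have hB : ∀ k, k ≠ i₀ → b k = b i₁ := by
        intro k hk
        by_cases hki : k = i₁
        · rw [hki]
        · rcases hpair k i₁ hk hi₁ hki with h | h
          · exfalso
            have hkj : k ≠ j₁ := fun h' => hj₁a (by rw [← h', h.1])
            rcases hpair k j₁ hk hj₁ hkj with h' | h'
            · exact hj₁a (by rw [← h'.1, h.1])
            · exact h.2 (by rw [h'.2, hb₁])
          · exact h.2
      refine ⟨1, Or.inl rfl, fun i => if i = i₀ then b i₁ else a i, ?_, ?_, ?_⟩
      · intro i
        by_cases hi : i = i₀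
        · simp only [hi, if_true]; exact hb i₁
        · simp only [hi, if_false]; exact ha i
      · intro i j hij
        by_cases hi : i = i₀
        · by_cases hj : j = i₀
          · rw [hi, hj]
          · exfalso
            simp only [hi, hj, if_true, if_false] at hij
            apply (hab j hj).1
            rw [hB j hj, hij]
        · by_cases hj : j = i₀
          · exfalso
            simp only [hi, hj, if_true, if_false] at hij
            apply (hab i hi).1
            rw [hB i hi, ← hij]
          · simp only [hi, hj, if_false] at hij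
            by_contra hne
            rcases hpair i j hi hj hne with h | h
            · exact h.2 (by rw [hB i hi, hB j hj])
            · exact h.1 hij
      · intro i
        by_cases hi : i = i₀
        · subst hi
          simp only [if_true, sub_self, smul_zero]
          exact h0
        · simp only [hi, if_false, if_true, one_smul]
          rw [(hab i hi).2, hB i hi]
  · push Not at hI
    refine ⟨1, Or.inl rfl, fun _ => (fun _ => 1), fun _ => isIrrCharacter_one, ?_, ?_⟩
    · intro i j _
      rw [hI i, hI j]
    · intro i
      rw [hI i, h0]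
      simp

end Cfsg.Agent.S0198
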