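import Cfsg.Statements.S0170
import Cfsg.Agent.S0150
import Cfsg.Agent.S0198
import Cfsg.Agent.Lib.Helper3.Induced

set_option autoImplicit false
open Cfsg

namespace Cfsg.Agent.S0170

open Cfsg.Agent.Lib.Helper25

theorem indFun_one_of_one_eq_zero {G : Type*} [Group G] [Fintype G] (H : Subgroup G) (ψ : H → ℂ)
    (h : ψ 1 = 0) : indFun H ψ 1 = 0 := by
  rw [indFun_apply]
  have h1 : ∀ x : G, extendByZero H ψ (x⁻¹ * 1 * x) = 0 := by
    intro x
    have h2 : x⁻¹ * 1 * x = ((1 : H) : G) := by simp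
    rw [h2, extendByZero_coe, h]
  simp only [h1, Finset.sum_const_zero, mul_zero]

/-- Exceptional characters. Let S be a subset of a finite group contained in its normalizer N and meeting its conjugates by elements outside N only in the identity. Given n ≥ 2 distinct irreducible characters of N of equal degree that vanish on N away from S, there exist a sign ε and n distinct irreducible characters θ_i of G such that inducing χ_i − χ_j to G gives ε (θ_i − θ_j) for all i, j. -/
theorem result {G : Type*} [Group G] [Fintype G] (S : Set G) (hSN : S ⊆ Subgroup.normalizer S) (hTI : ∀ g : G, g ∉ Subgroup.normalizer S → ∀ s ∈ S, g * s * g⁻¹ ∈ S → s = 1) (n : ℕ) (hn : 2 ≤ n) (χ : Fin n → (Subgroup.normalizer S → ℂ)) (hirr : ∀ i, Cfsg.IsIrrCharacter (Subgroup.normalizer S) (χ i)) (hinj : Function.Injective χ) (hvan : ∀ i, ∀ x : Subgroup.normalizer S, (x : G) ∉ S → χ i x = 0) (hdeg : ∀ i j, χ i 1 = χ j 1) : ∃ ε : ℂ, (ε = 1 ∨ ε = -1) ∧ ∃ θ : Fin n → (G → ℂ), (∀ i, Cfsg.IsIrrCharacter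 G (θ i)) ∧ Function.Injective θ ∧ ∀ i j, Cfsg.indFun (Subgroup.normalizer S) (χ i) - Cfsg.indFun (Subgroup.normalizer S) (χ j) = ε • (θ i - θ j) := by
  classical
  have : Fintype (Subgroup.normalizer S) := Fintype.ofFinite _
  let i₀ : Fin n := ⟨0, by omega⟩
  let τ : Fin n → (G → ℂ) := fun i =>
    indFun (Subgroup.normalizer S) (χ i) - indFun (Subgroup.normalizer S) (χ i₀)
  have hτ : ∀ i, τ i = indFun (Subgroup.normalizer S) (χ i - χ i₀) := by
    intro i
    rw [indFun_sub]
  have hchar : ∀ i, IsCharacter (Subgroup.normalizer S) (χ i) := fun i =>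
    Cfsg.Agent.Lib.Helper3.IsIrrCharacter.isCharacter (hirr i)
  have hcf : ∀ i, IsClassFunction (Subgroup.normalizer S) (χ i - χ i₀) := fun i =>
    Cfsg.Agent.Lib.Helper3.isClassFunction_sub
      (Cfsg.Agent.Lib.Helper3.IsCharacter.isClassFunction (hchar i))
      (Cfsg.Agent.Lib.Helper3.IsCharacter.isClassFunction (hchar i₀))
  have hvan' : ∀ i, ∀ x : Subgroup.normalizer S, (x : G) ∉ S → (χ i - χ i₀) x = 0 := by
    intro i x hx
    rw [Pi.sub_apply, hvan i x hx, hvan i₀ x hx, sub_zero]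
  have hone' : ∀ i, (χ i - χ i₀) 1 = 0 := by
    intro i
    rw [Pi.sub_apply, hdeg i i₀, sub_self]
  obtain ⟨ε, hε, μ, hμirr, hμinj, hμ⟩ := Cfsg.Agent.S0198.result n i₀ τ
    (by simp only [τ, sub_self])
    (fun i => ⟨_, _, Cfsg.Agent.Lib.Helper3.isCharacter_indFun _ (hchar i),
      Cfsg.Agent.Lib.Helper3.isCharacter_indFun _ (hchar i₀), rfl⟩)
    (fun i => by rw [hτ i]; exact indFun_one_of_one_eq_zero _ _ (hone' i))
    (by
      intro i j hi hj
      rw [hτ i, hτ j, Cfsg.Agent.S0150.result S hTI hSN _ _ (hcf i) (hcf j) (hvan' i) (hvan' j)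
        (hone' i)]
      rw [classInner_sub_left, classInner_sub_right, classInner_sub_right,
        Cfsg.Agent.Lib.Helper3.classInner_irr (hirr i) (hirr j),
        Cfsg.Agent.Lib.Helper3.classInner_irr (hirr i) (hirr i₀),
        Cfsg.Agent.Lib.Helper3.classInner_irr (hirr i₀) (hirr j),
        Cfsg.Agent.Lib.Helper3.classInner_irr (hirr i₀) (hirr i₀)]
      have h1 : χ i ≠ χ i₀ := fun h => hi (hinj h)
      have h2 : χ i₀ ≠ χ j := fun h => hj (hinj h).symm
      rw [if_neg h1, if_neg h2, if_pos rfl]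
      by_cases hij : i = j
      · rw [if_pos hij, if_pos (by rw [hij])]
        norm_num
      · rw [if_neg hij, if_neg (fun h => hij (hinj h))]
        norm_num)
  refine ⟨ε, hε, μ, hμirr, hμinj, ?_⟩
  intro i j
  have h1 : indFun (Subgroup.normalizer S) (χ i) - indFun (Subgroup.normalizer S) (χ j) =
      τ i - τ j := by
    simp only [τ]
    abel
  rw [h1, hμ i, hμ j, ← smul_sub]
  congr 1
  abel

end Cfsg.Agent.S0170
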