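import Cfsg.Statements.S0171
import Cfsg.Agent.Lib.Helper81.FixedIrr
import Cfsg.Agent.Lib.Helper25.IndNormal
import Cfsg.Agent.Lib.Helper3.Induced
import Cfsg.Agent.Lib.Helper15.IrrCrit

set_option autoImplicit false
open Cfsg

namespace Cfsg.Agent.S0171

open Cfsg.Agent.Lib.Helper25 Cfsg.Agent.Lib.Helper81
open scoped Pointwise

/-- In a Frobenius group `G = K H`, an element outside the kernel `K` commutes with no
non-identity element of `K`. -/
theorem frob_centralizer {G : Type*} [Group G] [Finite G] (K H : Subgroup G) [hKn : K.Normal]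
    (hKH' : K ⊔ H = ⊤)
    (hfpf : ∀ h ∈ H, h ≠ 1 → ∀ k ∈ K, h * k = k * h → k = 1)
    (g : G) (hg : g ∉ K) (k : G) (hk : k ∈ K) (hcomm : g * k = k * g) : k = 1 := by
  have hgmem : g ∈ ((K ⊔ H : Subgroup G) : Set G) := by
    rw [hKH']
    exact Set.mem_univ g
  rw [Subgroup.normal_mul, Set.mem_mul] at hgmem
  obtain ⟨k₀, hk₀, h, hh, rfl⟩ := hgmem
  have hh1 : h ≠ 1 := by
    rintro rfl
    apply hg
    simpa using hk₀
  -- the map c ↦ c⁻¹ h c h⁻¹ on K is injective, hence surjective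
  let φ : K → K := fun c => ⟨(c : G)⁻¹ * (h * c * h⁻¹), K.mul_mem (K.inv_mem c.2)
    (hKn.conj_mem c c.2 h)⟩
  have hinj : Function.Injective φ := by
    intro c d hcd
    have h1 : (c : G)⁻¹ * (h * c * h⁻¹) = (d : G)⁻¹ * (h * d * h⁻¹) := congrArg Subtype.val hcd
    have h2 : h * ((c : G) * (d : G)⁻¹) = ((c : G) * (d : G)⁻¹) * h := by
      have h3 : h * (c : G) * h⁻¹ = (c : G) * (d : G)⁻¹ * (h * d * h⁻¹) := by
        rw [mul_assoc (c : G), ← h1]; group
      calc h * ((c : G) * (d : G)⁻¹) = (h * c * h⁻¹) * (h * (d : G)⁻¹) := by group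
        _ = (c : G) * (d : G)⁻¹ * (h * d * h⁻¹) * (h * (d : G)⁻¹) := by rw [h3]
        _ = ((c : G) * (d : G)⁻¹) * h := by group
    have h4 := hfpf h hh hh1 ((c : G) * (d : G)⁻¹) (K.mul_mem c.2 (K.inv_mem d.2)) h2
    apply Subtype.ext
    exact mul_inv_eq_one.1 h4
  have hsurj : Function.Surjective φ := Finite.injective_iff_surjective.1 hinj
  obtain ⟨c, hc⟩ := hsurj ⟨k₀, hk₀⟩
  have hc' : (c : G)⁻¹ * (h * c * h⁻¹) = k₀ := congrArg Subtype.val hc
  have hg' : k₀ * h = (c : G)⁻¹ * h * c := by rw [← hc']; group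
  rw [hg'] at hcomm
  have h5 : h * ((c : G) * k * (c : G)⁻¹) = ((c : G) * k * (c : G)⁻¹) * h := by
    calc h * ((c : G) * k * (c : G)⁻¹) = (c : G) * ((c : G)⁻¹ * h * c * k) * (c : G)⁻¹ := by group
      _ = (c : G) * (k * ((c : G)⁻¹ * h * c)) * (c : G)⁻¹ := by rw [hcomm]
      _ = ((c : G) * k * (c : G)⁻¹) * h := by group
  have h6 := hfpf h hh hh1 _ (hKn.conj_mem k hk c) h5
  have : k = (c : G)⁻¹ * ((c : G) * k * (c : G)⁻¹) * c := by group
  rw [this, h6]
  group

theorem conjOn_eq_iff {G : Type*} [Group G] [Finite G] (K H : Subgroup G) [hKn : K.Normal]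
    (hKH' : K ⊔ H = ⊤)
    (hfpf : ∀ h ∈ H, h ≠ 1 → ∀ k ∈ K, h * k = k * h → k = 1) (τ : K → ℂ)
    (hτ : Cfsg.IsIrrCharacter K τ) (hτ1 : τ ≠ fun _ => 1) (x : G) :
    τ = conjOn K τ x ↔ x ∈ K := by
  constructor
  · intro heq
    by_contra hx
    apply hτ1
    let α : K ≃* K := MulAut.conjNormal x
    have hα : ∀ k : K, IsConj (α k) k → k = 1 := by
      intro k hk
      obtain ⟨y, hy⟩ := isConj_iff.1 hk
      have hy' : (y : G) * (x * k * x⁻¹) * (y : G)⁻¹ = k := by
        have := congrArg Subtype.val hy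
        simpa [α] using this
      have hyx : (y : G) * x ∉ K := by
        intro hmem
        apply hx
        have : x = (y : G)⁻¹ * ((y : G) * x) := by group
        rw [this]
        exact K.mul_mem (K.inv_mem y.2) hmem
      have hcomm : ((y : G) * x) * k = k * ((y : G) * x) := by
        calc ((y : G) * x) * k = ((y : G) * (x * k * x⁻¹) * (y : G)⁻¹) * ((y : G) * x) := by group
          _ = k * ((y : G) * x) := by rw [hy']
      have := frob_centralizer K H hKH' hfpf _ hyx k k.2 hcomm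
      exact Subtype.ext this
    have hcomp : ((⟨τ, hτ⟩ : IrrCharacter K) : K → ℂ) ∘ α = τ := by
      funext k
      have := congrFun heq k
      rw [this]
      rfl
    exact irr_eq_one_of_comp_eq α hα ⟨τ, hτ⟩ hcomp
  · intro hx
    funext k
    rw [conjOn_apply]
    have hcf := (Cfsg.Agent.Lib.Helper3.IsCharacter.isClassFunction
      (Cfsg.Agent.Lib.Helper3.IsIrrCharacter.isCharacter hτ)) k ⟨x, hx⟩
    rw [← hcf]
    rfl

/-- Let G = K H with K normal, K ⊓ H trivial, and no non-identity element of H commuting with a non-identity element of K (a Frobenius group with kernel K and complement H). Then every non-principal irreducible character of K induces to an irreducible character of G. -/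
theorem result {G : Type*} [Group G] [Fintype G] (K H : Subgroup G) [K.Normal] (hKH : K ⊓ H = ⊥) (hKH' : K ⊔ H = ⊤) (hfpf : ∀ h ∈ H, h ≠ 1 → ∀ k ∈ K, h * k = k * h → k = 1) (τ : K → ℂ) (hτ : Cfsg.IsIrrCharacter K τ) (hτ1 : τ ≠ fun _ => 1) : Cfsg.IsIrrCharacter G (Cfsg.indFun K τ) := by
  classical
  have : Fintype K := Fintype.ofFinite K
  apply Cfsg.Agent.Lib.Helper15.isIrrCharacter_of_norm_one
    (Cfsg.Agent.Lib.Helper3.isCharacter_indFun K
      (Cfsg.Agent.Lib.Helper3.IsIrrCharacter.isCharacter hτ))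
  rw [frobenius_reciprocity' K τ _ (indFun_isClassFunction K τ)]
  have hres : (fun k : K => indFun K τ k) =
      ∑ x : G, (Nat.card K : ℂ)⁻¹ • conjOn K τ x := by
    funext h
    rw [indFun_restrict_normal, Finset.sum_apply, Finset.mul_sum]
    rfl
  rw [hres, classInner_sum_left]
  have hterm : ∀ x : G, classInner ((Nat.card K : ℂ)⁻¹ • conjOn K τ x) τ =
      (Nat.card K : ℂ)⁻¹ * (if x ∈ K then 1 else 0) := by
    intro x
    rw [classInner_smul_left, Cfsg.Agent.Lib.Helper3.classInner_irr (conjOn_isIrr K hτ x) hτ]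
    congr 1
    have := conjOn_eq_iff K H hKH' hfpf τ hτ hτ1 x
    by_cases hx : x ∈ K
    · rw [if_pos hx, if_pos (this.2 hx).symm]
    · rw [if_neg hx, if_neg (fun h => hx (this.1 h.symm))]
  simp only [hterm]
  rw [← Finset.mul_sum, Finset.sum_boole]
  have hcard : (Finset.univ.filter (fun x : G => x ∈ K)).card = Nat.card K := by
    rw [Nat.card_eq_fintype_card, Fintype.card_subtype]
  rw [hcard]
  have hK : (Nat.card K : ℂ) ≠ 0 := card_ne_zero_complex
  field_simp

end Cfsg.Agent.S0171
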