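import Cfsg.Statements.S0177
import Cfsg.Agent.Lib.Helper3.Artin
-- Template for statement S0177 (row 177; see /opt/grader/pristine/manifest.json for weights).
-- Copy to Cfsg/Agent/S0177.lean and replace the sorry. The statement below is byte-identical to the frozen
-- statement Cfsg.CfsgFrozen.S0177 (Cfsg/Statements/S0177.lean; the theorem Cfsg.artin_induction);
-- the grader kernel-checks Cfsg.Agent.S0177.result against that frozen type. Keep the theorem IN THIS FILE
-- (a `result` declared elsewhere and merely imported here is not credited); helpers may live anywhere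
-- under Cfsg/Agent/.
-- import your own Cfsg.Agent.* helpers here

set_option autoImplicit false
open Cfsg

namespace Cfsg.Agent.S0177

open Cfsg.Agent.Lib.Helper3 in
/-- The Artin induction Theorem: for a character χ of a finite group, |G| • χ is a ℤ-linear combination of functions induced from homomorphisms of cyclic subgroups into ℂˣ. -/
theorem result {G : Type*} [Group G] [Fintype G] (χ : G → ℂ) (hχ : Cfsg.IsCharacter G χ) : ∃ l : List ((A : Subgroup G) × ((A →* ℂˣ) × ℤ)), (∀ t ∈ l, IsCyclic t.1) ∧ (Nat.card G : ℂ) • χ = (l.map fun t => (t.2.2 : ℂ) • Cfsg.indFun t.1 (fun a => (t.2.1 a : ℂ))).sum := by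
  classical
  have : Fintype (Subgroup G) := Fintype.ofFinite _
  have : ∀ A : Subgroup G, Fintype (IrrCharacter A) := fun A => Fintype.ofFinite _
  obtain ⟨z, hz⟩ := artin_induction_sum hχ
  have hhom : ∀ (A : Subgroup G) (μ : IrrCharacter A), IsCyclic A →
      ∃ φ : A →* ℂˣ, ∀ a, (μ : A → ℂ) a = (φ a : ℂ) := by
    intro A μ hA
    have : IsMulCommutative A := IsCyclic.isMulCommutative
    exact Cfsg.Agent.Lib.Helper79.exists_monoidHom_of_isCharacter_of_one
      (IsIrrCharacter.isCharacter μ.2) (Cfsg.Agent.Lib.Helper79.irr_one_eq_one_of_comm μ)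
  let φ : (A : Subgroup G) → IrrCharacter A → (A →* ℂˣ) := fun A μ =>
    if h : IsCyclic A then Classical.choose (hhom A μ h) else 1
  have hφ : ∀ (A : Subgroup G) (μ : IrrCharacter A), IsCyclic A →
      (fun a => ((φ A μ a : ℂˣ) : ℂ)) = (μ : A → ℂ) := by
    intro A μ hA
    funext a
    simp only [φ, dif_pos hA]
    exact (Classical.choose_spec (hhom A μ hA) a).symm
  let g : (Σ A : Subgroup G, IrrCharacter A) → ((A : Subgroup G) × ((A →* ℂˣ) × ℤ)) :=
    fun i => ⟨i.1, (φ i.1 i.2, z i.1 i.2)⟩
  refine ⟨((Finset.univ : Finset (Σ A : Subgroup G, IrrCharacter A)).filter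
    (fun i => IsCyclic i.1)).toList.map g, ?_, ?_⟩
  · intro t ht
    rw [List.mem_map] at ht
    obtain ⟨i, hi, rfl⟩ := ht
    rw [Finset.mem_toList, Finset.mem_filter] at hi
    exact hi.2
  · rw [hz, List.map_map, Finset.sum_map_toList, Finset.sum_filter, ← Finset.univ_sigma_univ,
      Finset.sum_sigma]
    refine Finset.sum_congr rfl fun A _ => Finset.sum_congr rfl fun μ _ => ?_
    by_cases hA : IsCyclic A
    · simp only [if_pos hA, Function.comp_apply, g]
      rw [hφ A μ hA]
    · simp only [if_neg hA]

end Cfsg.Agent.S0177
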