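import Cfsg.Statements.S0178
import Cfsg.Agent.Lib.Helper79.Abelian

set_option autoImplicit false
open Cfsg

namespace Cfsg.Agent.S0178

open Cfsg.Agent.Lib.Helper79

/-- The degree of an irreducible complex representation of a finite group is at most the index of any abelian subgroup. -/
theorem result {G : Type*} [Group G] [Finite G] {V : Type*} [AddCommGroup V] [Module ℂ V] [FiniteDimensional ℂ V] (ρ : Representation ℂ G V) [ρ.IsIrreducible] (A : Subgroup G) (hA : ∀ a ∈ A, ∀ b ∈ A, a * b = b * a) : Module.finrank ℂ V ≤ A.index := by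
  have hirr : (Cfsg.Agent.Lib.Helper3.finRep ρ).IsIrreducible :=
    Cfsg.Agent.Lib.Helper3.isIrreducible_of_equiv (Cfsg.Agent.Lib.Helper3.finRepEquiv ρ) inferInstance
  have hcomm : IsMulCommutative A := ⟨⟨fun a b => Subtype.ext (hA a.1 a.2 b.1 b.2)⟩⟩
  have h := card_comm_subgroup_mul_degree_le (Cfsg.Agent.Lib.Helper3.finRep ρ) hirr A
  rw [← A.card_mul_index] at h
  exact Nat.le_of_mul_le_mul_left h Nat.card_pos

end Cfsg.Agent.S0178
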