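import Cfsg.Statements.S0180
import Cfsg.Agent.Lib.Helper75.GaloisNorm
import Cfsg.Agent.S0136

set_option autoImplicit false
open Cfsg

namespace Cfsg.Agent.S0180

open Cfsg.Agent.Lib.Helper3 Cfsg.Agent.Lib.Helper75

/-- Every irreducible complex character of a finite group takes only rational values if and only if g is conjugate to g ^ m for every element g and every m coprime to the group order. -/
theorem result {G : Type*} [Group G] [Finite G] : (∀ χ : Cfsg.IrrCharacter G, ∀ g : G, ∃ q : ℚ, (χ : G → ℂ) g = (q : ℂ)) ↔ ∀ m : ℕ, m.Coprime (Nat.card G) → ∀ g : G, IsConj g (g ^ m) := by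
  constructor
  · intro hrat m hm g
    rw [Cfsg.Agent.S0136.result]
    intro χ
    obtain ⟨σ, hσ⟩ := exists_ringEquiv_character_pow (G := G) m hm
    obtain ⟨n, ρ, _, hρ⟩ := χ.2
    obtain ⟨q, hq⟩ := hrat χ g
    have h1 := hσ n ρ g
    rw [hρ, hq] at h1
    rw [← h1, hq]
    simp
  · intro hconj χ g
    obtain ⟨n, ρ, hirr, hρ⟩ := χ.2
    have hχ : IsCharacter G (χ : G → ℂ) := IsIrrCharacter.isCharacter χ.2
    have hint : IsIntegral ℤ ((χ : G → ℂ) g) := IsCharacter.isIntegral hχ g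
    have halg : IsAlgebraic ℚ ((χ : G → ℂ) g) := (hint.tower_top (A := ℚ)).isAlgebraic
    have hfix : ∀ τ : ℂ ≃+* ℂ, τ ((χ : G → ℂ) g) = (χ : G → ℂ) g := by
      intro τ
      obtain ⟨j, hj, hτ⟩ := exists_pow_of_ringEquiv τ (Nat.card G) Nat.card_pos
      have h1 := ringEquiv_character_eq_pow ρ τ (Nat.card G) j hτ g pow_card_eq_one'
      rw [hρ] at h1
      rw [h1]
      exact (IsClassFunction.eq_of_isConj (IsCharacter.isClassFunction hχ) (hconj j hj g)).symm
    obtain ⟨q, hq⟩ := exists_rat_eq_of_forall_ringEquiv_eq _ halg hfix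
    exact ⟨q, hq.symm⟩

end Cfsg.Agent.S0180
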