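import Cfsg.Statements.S0181
import Cfsg.Agent.Lib.Helper3.Omega

set_option autoImplicit false
open Cfsg

namespace Cfsg.Agent.S0181

open scoped ComplexConjugate
open Cfsg.Agent.Lib.Helper3

theorem exists_conj_eq_mul {G : Type*} [Group G] [Finite G] (H : Subgroup G) [H.Normal] (g : G)
    (hg : ∀ h ∈ H, h * g = g * h → h = 1) (h : G) (hh : h ∈ H) :
    ∃ k ∈ H, k⁻¹ * g * k = g * h := by
  let φ : H → H := fun k => ⟨g⁻¹ * (k : G)⁻¹ * g * k, by
    have h1 : g⁻¹ * (k : G)⁻¹ * g ∈ H := by
      have := Subgroup.Normal.conj_mem ‹H.Normal› (k : G)⁻¹ (H.inv_mem k.2) g⁻¹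
      simpa using this
    exact H.mul_mem h1 k.2⟩
  have hinj : Function.Injective φ := by
    intro k k' hkk
    have h1 : g⁻¹ * (k : G)⁻¹ * g * k = g⁻¹ * (k' : G)⁻¹ * g * k' := congrArg Subtype.val hkk
    have h2 : ((k' : G) * (k : G)⁻¹) * g = g * ((k' : G) * (k : G)⁻¹) := by
      have h3 : (k : G)⁻¹ * g * k = (k' : G)⁻¹ * g * k' := by
        have := congrArg (fun x => g * x) h1
        simpa [mul_assoc] using this
      calc ((k' : G) * (k : G)⁻¹) * g = (k' : G) * ((k : G)⁻¹ * g * k) * (k : G)⁻¹ := by group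
        _ = (k' : G) * ((k' : G)⁻¹ * g * k') * (k : G)⁻¹ := by rw [h3]
        _ = g * ((k' : G) * (k : G)⁻¹) := by group
    have h4 := hg _ (H.mul_mem k'.2 (H.inv_mem k.2)) h2
    apply Subtype.ext
    have : (k' : G) = k := by
      calc (k' : G) = ((k' : G) * (k : G)⁻¹) * k := by group
        _ = k := by rw [h4, one_mul]
    exact this.symm
  have hsurj : Function.Surjective φ := Finite.surjective_of_injective hinj
  obtain ⟨k, hk⟩ := hsurj ⟨h, hh⟩
  refine ⟨k, k.2, ?_⟩
  have h1 : g⁻¹ * (k : G)⁻¹ * g * k = h := congrArg Subtype.val hk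
  rw [← h1]
  group

/-- Let H be a normal subgroup of a finite group G and ρ an irreducible complex representation whose kernel does not contain H. If g commutes with no non-identity element of H, then the character of ρ vanishes at g. -/
theorem result {G : Type*} [Group G] [Finite G] {V : Type*} [AddCommGroup V] [Module ℂ V] [FiniteDimensional ℂ V] (ρ : Representation ℂ G V) [ρ.IsIrreducible] (H : Subgroup G) [H.Normal] (hker : ∃ h ∈ H, ρ h ≠ LinearMap.id) (g : G) (hg : ∀ h ∈ H, h * g = g * h → h = 1) : ρ.character g = 0 := by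
  classical
  have := Fintype.ofFinite G
  let f : G → ℂ := fun x => if x ∈ H then 1 else 0
  have hf : IsClassFunction G f := by
    intro x y
    have : y * x * y⁻¹ ∈ H ↔ x ∈ H := by
      constructor
      · intro h
        have := Subgroup.Normal.conj_mem ‹H.Normal› _ h y⁻¹
        simpa [mul_assoc] using this
      · intro h
        exact Subgroup.Normal.conj_mem ‹H.Normal› _ h y
    simp only [f, this]
  obtain ⟨c, hc, _⟩ := wsum_eq_smul_id_of_irreducible ρ hf
  -- ρ h₀ ∘ A = A
  have hA : ∀ h₀ ∈ H, (ρ h₀ : Module.End ℂ V) * wsum ρ f = wsum ρ f := by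
    intro h₀ hh₀
    unfold wsum
    rw [Finset.mul_sum]
    rw [← Equiv.sum_comp (Equiv.mulLeft h₀) (fun x => f x • ρ x)]
    apply Finset.sum_congr rfl
    intro x _
    simp only [Equiv.coe_mulLeft]
    have h1 : f (h₀ * x) = f x := by
      have : h₀ * x ∈ H ↔ x ∈ H := by
        constructor
        · intro h
          have := H.mul_mem (H.inv_mem hh₀) h
          simpa using this
        · intro h
          exact H.mul_mem hh₀ h
      simp only [f, this]
    rw [h1, mul_smul_comm, map_mul]
  have hc0 : c = 0 := by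
    obtain ⟨h₀, hh₀, hne⟩ := hker
    by_contra hcne
    apply hne
    have h1 := hA h₀ hh₀
    rw [hc] at h1
    have h2 : c • ρ h₀ = c • LinearMap.id := by
      rw [← h1, mul_smul_comm]
      rfl
    exact smul_right_injective _ hcne h2
  have hA0 : wsum ρ f = 0 := by rw [hc, hc0, zero_smul]
  -- trace computation
  have htr : LinearMap.trace ℂ V ((ρ g : Module.End ℂ V) * wsum ρ f) =
      ∑ x : G, f x * ρ.character (g * x) := by
    unfold wsum
    rw [Finset.mul_sum, map_sum]
    apply Finset.sum_congr rfl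
    intro x _
    rw [mul_smul_comm, map_smul, smul_eq_mul, Representation.character, map_mul ρ g x]
  rw [hA0, mul_zero, map_zero] at htr
  have hconst : ∀ x : G, f x * ρ.character (g * x) = f x * ρ.character g := by
    intro x
    by_cases hx : x ∈ H
    · obtain ⟨k, _, hk⟩ := exists_conj_eq_mul H g hg x hx
      rw [← hk]
      have := Representation.char_conj ρ g k⁻¹
      rw [inv_inv] at this
      rw [this]
    · simp [f, hx]
  rw [Finset.sum_congr rfl (fun x _ => hconst x), ← Finset.sum_mul] at htr
  have hsum : ∑ x : G, f x = (Nat.card H : ℂ) := by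
    simp only [f]
    rw [Finset.sum_ite, Finset.sum_const_zero, add_zero, Finset.sum_const, nsmul_eq_mul, mul_one]
    congr 1
    rw [Nat.card_eq_fintype_card, Fintype.card_subtype]
  rw [hsum] at htr
  have hH : (Nat.card H : ℂ) ≠ 0 := by exact_mod_cast Nat.card_pos.ne'
  rcases mul_eq_zero.mp htr.symm with h | h
  · exact absurd h hH
  · exact h

end Cfsg.Agent.S0181
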