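import Cfsg.Statements.S1520
import Cfsg.Agent.S1519

set_option autoImplicit false
open Cfsg
open Cfsg.Agent.Lib.Helper25
open scoped ComplexConjugate

namespace Cfsg.Agent.S1520

section

set_option linter.unusedSectionVars false

variable {L : Type*} [Group L] [Fintype L] {G : Type*} [Group G] [Fintype G]

/-- Coherence of `S(N)` passes to `S(M)` for `N ≤ M < K`. -/
theorem isCoherent_inducedIrrAbove_of_le (K : Subgroup L) [hK : K.Normal]
    (hsolv : Group.IsSolvable K) {τ : (L → ℂ) → (G → ℂ)} {R : (L → ℂ) → Finset (G → ℂ)}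
    (hS : IsCoherenceSystem (inducedIrrAbove K ⊥) τ R) {N M : Subgroup L} [M.Normal]
    (hNM : N ≤ M) (hMK : M < K) (hcoh : IsCoherent (inducedIrrAbove K N) ({1}ᶜ : Set L) τ) :
    IsCoherent (inducedIrrAbove K M) ({1}ᶜ : Set L) τ := by
  obtain ⟨χ, hχ, -⟩ := Cfsg.Agent.S1519.exists_linear_mem K hsolv M hMK
  have hSM : inducedIrrAbove K M ⊆ inducedIrrAbove K ⊥ := inducedIrrAbove_mono K bot_le
  apply isCoherent_of_subset (inducedIrrAbove_mono K hNM) hcoh
  refine ⟨χ - conjFun χ, Cfsg.Agent.S1516.sub_conj_mem hS hSM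
    (fun φ hφ => inducedIrrAbove_conj K M hφ) hχ, ?_⟩
  intro h
  exact hS.conj_ne χ (hSM hχ) (sub_eq_zero.mp h).symm

/-- A nilpotent quotient `H/M`: the lower central series of `H` reaches `M`. -/
theorem exists_lowerCentralSeries_le (M H : Subgroup L) [(M.subgroupOf H).Normal]
    (hnil : Group.IsNilpotent (↥H ⧸ M.subgroupOf H)) :
    ∃ n : ℕ, H.lowerCentralSeries n ≤ M := by
  obtain ⟨n, hn⟩ := Subgroup.nilpotent_iff_lowerCentralSeries.mp hnil
  refine ⟨n, ?_⟩
  have h1 := Subgroup.map_lowerCentralSeries (⊤ : Subgroup H) (QuotientGroup.mk' (M.subgroupOf H)) n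
  rw [← MonoidHom.range_eq_map, MonoidHom.range_eq_top.mpr (QuotientGroup.mk'_surjective _), hn]
    at h1
  have h2 : (⊤ : Subgroup H).lowerCentralSeries n ≤ M.subgroupOf H := by
    rw [← QuotientGroup.ker_mk' (M.subgroupOf H), ← Subgroup.map_eq_bot_iff]
    exact h1
  rw [← Subgroup.top_subtype_lowerCentralSeries]
  intro x hx
  obtain ⟨y, hy, rfl⟩ := hx
  exact h2 hy

end

/-- Let K be a solvable normal subgroup of the finite group L and (S, τ, R) a coherence system from L to G with S the functions induced from non-principal irreducible characters of K; S(A) the members of S induced from characters whose kernel contains A. Let M ≤ H₁ ≤ H ≤ K be normal subgroups of L such that every term of the lower central series of H eventually lies in M (H/M nilpotent), S(H₁) is coherent and [H:H₁] > 4 * [L:K]^2 + 1. Then S(M) is coherent. -/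
theorem result {L : Type*} [Group L] [Fintype L] {G : Type*} [Group G] [Fintype G] (K : Subgroup L) [hK : K.Normal] (hsolv : Group.IsSolvable K) (τ : (L → ℂ) → (G → ℂ)) (R : (L → ℂ) → Finset (G → ℂ)) (hS : Cfsg.IsCoherenceSystem (Cfsg.inducedIrrAbove K ⊥) τ R) (M H₁ H : Subgroup L) [M.Normal] [H₁.Normal] [H.Normal] (hMH₁ : M ≤ H₁) (hH₁H : H₁ ≤ H) (hHK : H ≤ K) [(M.subgroupOf H).Normal] (hnil : Group.IsNilpotent (↥H ⧸ M.subgroupOf H)) (hcoh : Cfsg.IsCoherent (Cfsg.inducedIrrAbove K H₁) {1}ᶜ τ) (hbig : 4 * K.index ^ 2 + 1 < H₁.relIndex H) : Cfsg.IsCoherent (Cfsg.inducedIrrAbove K M) {1}ᶜ τ := by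
  obtain ⟨n, hn⟩ := exists_lowerCentralSeries_le M H hnil
  -- H₁ < K
  have hH₁K : H₁ < K := by
    refine lt_of_le_of_ne (hH₁H.trans hHK) ?_
    intro h
    have hHH₁ : H ≤ H₁ := h ▸ hHK
    have : H₁.relIndex H = 1 := Subgroup.relIndex_eq_one.mpr hHH₁
    omega
  have hMK : M < K := lt_of_le_of_lt hMH₁ hH₁K
  have key : ∀ i : ℕ, IsCoherent (inducedIrrAbove K (H₁ ⊓ H.lowerCentralSeries i)) ({1}ᶜ : Set L) τ := by
    intro i
    induction i with
    | zero =>
      rw [Subgroup.lowerCentralSeries_zero, inf_eq_left.mpr hH₁H]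
      exact hcoh
    | succ i ih =>
      have hle : H₁ ⊓ H.lowerCentralSeries i ≤ H₁ := inf_le_left
      have hle' : H₁ ⊓ H.lowerCentralSeries (i + 1) ≤ H₁ := inf_le_left
      refine Cfsg.Agent.S1519.result K hsolv τ R hS (H₁ ⊓ H.lowerCentralSeries i)
        (H₁ ⊓ H.lowerCentralSeries (i + 1)) H (H₁ ⊓ H.lowerCentralSeries i)
        (lt_of_le_of_lt hle hH₁K) (lt_of_le_of_lt hle' hH₁K)
        (inf_le_inf_left _ (Subgroup.lowerCentralSeries_antitone H (Nat.le_succ i)))
        (hle.trans hH₁H) hHK ?_ ih ?_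
      · intro x hx y hy
        rw [← commutatorElement_def]
        refine ⟨?_, ?_⟩
        · rw [commutatorElement_def, mul_assoc, mul_assoc]
          apply Subgroup.mul_mem _ hx.1
          have := (inferInstance : H₁.Normal).conj_mem x⁻¹ (H₁.inv_mem hx.1) y
          simpa [mul_assoc] using this
        · rw [Subgroup.lowerCentralSeries_succ]
          exact Subgroup.commutator_mem_commutator hx.2 hy
      · -- arithmetic
        set B := H₁ ⊓ H.lowerCentralSeries i with hB
        have e1 : H.relIndex K * K.index = H.index := Subgroup.relIndex_mul_index hHK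
        have e2 : B.relIndex H * H.relIndex K = B.relIndex K :=
          Subgroup.relIndex_mul_relIndex B H K (hle.trans hH₁H) hHK
        have e3 : B.relIndex H₁ * H₁.relIndex H = B.relIndex H :=
          Subgroup.relIndex_mul_relIndex B H₁ H hle hH₁H
        have hk : 1 ≤ H.relIndex K :=
          Nat.pos_of_ne_zero (Subgroup.index_ne_zero_of_finite (H := H.subgroupOf K))
        have hb : 1 ≤ B.relIndex H₁ :=
          Nat.pos_of_ne_zero (Subgroup.index_ne_zero_of_finite (H := B.subgroupOf H₁))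
        rw [← e1, ← e2, ← e3]
        generalize H.relIndex K = k at hk
        generalize B.relIndex H₁ = b at hb
        generalize H₁.relIndex H = h₁ at hbig
        generalize K.index = e at hbig
        have hh : 4 * e ^ 2 + 2 ≤ b * h₁ := by nlinarith
        generalize b * h₁ = h at hh
        have hX : 1 ≤ h * k := by nlinarith
        zify [hX]
        have hh' : (4 * (e:ℤ) ^ 2 + 2 ≤ h) := by exact_mod_cast hh
        have hk' : (1 : ℤ) ≤ k := by exact_mod_cast hk
        have h0 : (0:ℤ) ≤ h := by positivity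
        have h1 : 4 * ((k:ℤ) * e) ^ 2 * h ≤ (k:ℤ) ^ 2 * h * (h - 2) := by
          have : 4 * (e:ℤ)^2 ≤ h - 2 := by linarith
          have h3 : (0:ℤ) ≤ (k:ℤ) ^ 2 * h := by positivity
          nlinarith
        nlinarith
  exact isCoherent_inducedIrrAbove_of_le K hsolv hS (inf_le_right.trans hn) hMK (key n)

end Cfsg.Agent.S1520
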