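import Cfsg.Statements.S1521
import Cfsg.Agent.Lib.Helper25.FrobQuot
import Cfsg.Agent.Lib.Helper25.CohAbelian
import Cfsg.Agent.S1520

set_option autoImplicit false
open Cfsg
open Cfsg.Agent.Lib.Helper25
open scoped ComplexConjugate

namespace Cfsg.Agent.S1521

theorem two_mul_add_one_le {e a : ℕ} (he : Odd e) (ha : Odd a) (ha1 : a ≠ 1) (h1 : e ∣ a - 1) :
    2 * e + 1 ≤ a := by
  obtain ⟨m, hm⟩ := h1
  have hapos : 1 ≤ a := ha.pos
  have hev : Even (a - 1) := by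
    obtain ⟨k, hk⟩ := ha
    exact ⟨k, by omega⟩
  rw [hm, Nat.even_mul] at hev
  have hme : Even m := by
    rcases hev with h | h
    · exact absurd h (Nat.not_even_iff_odd.mpr he)
    · exact h
  have hm0 : m ≠ 0 := by
    intro h0
    rw [h0, mul_zero] at hm
    omega
  obtain ⟨k, hk⟩ := hme
  have hk1 : 1 ≤ k := by omega
  have : e * m = e * k + e * k := by rw [hk]; ring
  have h2 : e * k ≥ e := Nat.le_mul_of_pos_right e hk1
  omega

theorem arith_a {e a b : ℕ} (he : Odd e) (ha : Odd a) (hb : Odd b) (ha1 : a ≠ 1) (hb1 : b ≠ 1)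
    (h1 : e ∣ a - 1) (h2 : e ∣ a * b - 1) : 4 * e ^ 2 + 1 < a * b := by
  have hapos : 1 ≤ a := ha.pos
  have hbpos : 1 ≤ b := hb.pos
  have h3 : e ∣ b - 1 := by
    have e1 : a * b - 1 = (a - 1) * b + (b - 1) := by
      have : a * b = (a - 1) * b + b := by
        conv_lhs => rw [show a = (a - 1) + 1 by omega]
        ring
      omega
    rw [e1] at h2
    exact (Nat.dvd_add_right (Dvd.dvd.mul_right h1 b)).mp h2
  have ha2 := two_mul_add_one_le he ha ha1 h1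
  have hb2 := two_mul_add_one_le he hb hb1 h3
  have hepos : 1 ≤ e := he.pos
  have h4 := Nat.mul_le_mul ha2 hb2
  nlinarith

theorem arith_e {e p j : ℕ} (he : Odd e) (hp : p.Prime) (hpo : Odd p) (hdvd : e ∣ p - 1)
    (hj : 2 ≤ j) : 4 * e ^ 2 + 1 < p ^ j := by
  have hp3 : 3 ≤ p := by
    have := hp.two_le
    rcases this.lt_or_eq with h | h
    · omega
    · exfalso
      rw [← h] at hpo
      exact absurd hpo (by decide)
  have h2 : 2 ∣ p - 1 := by
    obtain ⟨k, hk⟩ := hpo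
    exact ⟨k, by omega⟩
  have hcop : Nat.Coprime 2 e := (Nat.coprime_two_left).mpr he
  have h3 : 2 * e ∣ p - 1 := hcop.mul_dvd_of_dvd_of_dvd h2 hdvd
  have h4 : 2 * e ≤ p - 1 := Nat.le_of_dvd (by omega) h3
  have h5 : p ^ 2 ≤ p ^ j := Nat.pow_le_pow_right hp.pos hj
  have h6 : (2 * e) ^ 2 ≤ (p - 1) ^ 2 := Nat.pow_le_pow_left h4 2
  have h7 : (p - 1) ^ 2 + 1 < p ^ 2 := by
    obtain ⟨q, hq⟩ : ∃ q, p = q + 1 := ⟨p - 1, by omega⟩
    rw [hq]
    have : q + 1 - 1 = q := by omega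
    rw [this]
    nlinarith
  calc 4 * e ^ 2 + 1 = (2 * e) ^ 2 + 1 := by ring
    _ ≤ (p - 1) ^ 2 + 1 := by omega
    _ < p ^ 2 := h7
    _ ≤ p ^ j := h5

/-- Let K be a solvable normal subgroup of the finite group L of odd order and (S, τ, R) a coherence system from L to G with S the functions induced from non-principal irreducible characters of K; S(A) as before. Let M ≤ K be normal in L with K/M nilpotent, H₁ = [K, K] ⊔ M, H₁ < K < L, and suppose every element of K outside H₁ is centralised modulo H₁ only from inside K (L/H₁ is a Frobenius group with kernel K/H₁). Suppose one of the following: some normal subgroup of L lies strictly between H₁ and K; or [K:H₁] > 4[L:K]^2 + 1; or [K:M] is not a prime power; or [K,K] ≤ M; or [K:M] is a power of a prime p with [L:K] dividing p − 1. Then S(M) is coherent. -/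
theorem result {L : Type*} [Group L] [Fintype L] {G : Type*} [Group G] [Fintype G] (K : Subgroup L) [hK : K.Normal] (hsolv : Group.IsSolvable K) (τ : (L → ℂ) → (G → ℂ)) (R : (L → ℂ) → Finset (G → ℂ)) (hS : Cfsg.IsCoherenceSystem (Cfsg.inducedIrrAbove K ⊥) τ R) (hodd : Odd (Nat.card L)) (M : Subgroup L) [M.Normal] (hMK : M ≤ K) [(M.subgroupOf K).Normal] (hnil : Group.IsNilpotent (↥K ⧸ M.subgroupOf K)) (H₁ : Subgroup L) (hH₁ : H₁ = ⁅K, K⁆ ⊔ M) (hH₁K : H₁ < K) (hKL : K < ⊤) (hfrob : ∀ k ∈ K, k ∉ H₁ → ∀ x : L, x * k * x⁻¹ * k⁻¹ ∈ H₁ → x ∈ K) (hgood : (∃ N : Subgroup L, N.Normal ∧ H₁ < N ∧ N < K) ∨ 4 * K.index ^ 2 + 1 < H₁.relIndex K ∨ (¬ ∃ p m : ℕ, p.Prime ∧ M.relIndex K = p ^ m) ∨ ⁅K, K⁆ ≤ M ∨ (∃ p m : ℕ, p.Prime ∧ M.relIndex K = p ^ m ∧ K.index ∣ p - 1)) : Cfsg.IsCoherent (Cfsg.inducedIrrAbove K M) {1}ᶜ τ := by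
  subst hH₁
  have hH₁n : (⁅K, K⁆ ⊔ M).Normal := inferInstance
  have hcommle : ⁅K, K⁆ ≤ ⁅K, K⁆ ⊔ M := le_sup_left
  have hMH₁ : M ≤ ⁅K, K⁆ ⊔ M := le_sup_right
  have hcohH₁ := coherent_of_commutator_le K hsolv hS (⁅K, K⁆ ⊔ M) hH₁K hcommle
  have hne1 : (⁅K, K⁆ ⊔ M).relIndex K ≠ 1 := by
    intro h
    exact hH₁K.not_ge (Subgroup.relIndex_eq_one.mp h)
  have hoddK : Odd (Nat.card K) := hodd.of_dvd_nat (Subgroup.card_subgroup_dvd_card K)
  have hodde : Odd K.index := hodd.of_dvd_nat (Subgroup.index_dvd_card K)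
  -- case (b)
  have caseB : 4 * K.index ^ 2 + 1 < (⁅K, K⁆ ⊔ M).relIndex K →
      IsCoherent (inducedIrrAbove K M) ({1}ᶜ : Set L) τ := fun hb =>
    Cfsg.Agent.S1520.result K hsolv τ R hS M (⁅K, K⁆ ⊔ M) K hMH₁ hH₁K.le le_rfl hnil hcohH₁ hb
  -- case (a)
  have caseA : (∃ N : Subgroup L, N.Normal ∧ ⁅K, K⁆ ⊔ M < N ∧ N < K) →
      IsCoherent (inducedIrrAbove K M) ({1}ᶜ : Set L) τ := by
    rintro ⟨N, hNn, hH₁N, hNK⟩
    apply caseB
    have h1 := frob_index_dvd_relIndex_sub_one K (⁅K, K⁆ ⊔ M) N hH₁K.le hNK.le hcommle hfrob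
    have h2 := frob_index_dvd_relIndex_sub_one K (⁅K, K⁆ ⊔ M) K hH₁K.le le_rfl hcommle hfrob
    have hab := Subgroup.relIndex_mul_relIndex (⁅K, K⁆ ⊔ M) N K hH₁N.le hNK.le
    rw [← hab] at h2 ⊢
    have hoa : Odd ((⁅K, K⁆ ⊔ M).relIndex N) :=
      hodd.of_dvd_nat ((Subgroup.relIndex_dvd_card _ N).trans (Subgroup.card_subgroup_dvd_card N))
    have hob : Odd (N.relIndex K) :=
      hodd.of_dvd_nat ((Subgroup.relIndex_dvd_card _ K).trans (Subgroup.card_subgroup_dvd_card K))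
    have ha1 : (⁅K, K⁆ ⊔ M).relIndex N ≠ 1 := fun h =>
      hH₁N.not_ge (Subgroup.relIndex_eq_one.mp h)
    have hb1 : N.relIndex K ≠ 1 := fun h => hNK.not_ge (Subgroup.relIndex_eq_one.mp h)
    exact arith_a hodde hoa hob ha1 hb1 h1 h2
  -- case (d)
  have caseD : ⁅K, K⁆ ≤ M → IsCoherent (inducedIrrAbove K M) ({1}ᶜ : Set L) τ := by
    intro h
    have e : ⁅K, K⁆ ⊔ M = M := sup_eq_right.mpr h
    rw [e] at hcohH₁
    exact hcohH₁
  rcases hgood with ha | hb | hc | hd | he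
  · exact caseA ha
  · exact caseB hb
  · apply caseA
    apply exists_intermediate_of_not_prime_pow K (⁅K, K⁆ ⊔ M) hH₁K.le hcommle hne1
    rintro ⟨p, j, hp, hj⟩
    apply hc
    have hn0 : M.relIndex K ≠ 0 := Subgroup.index_ne_zero_of_finite (H := M.subgroupOf K)
    refine ⟨p, _, hp, Nat.eq_prime_pow_of_unique_prime_dvd hn0 ?_⟩
    intro q hq hqd
    have h1 := prime_dvd_relIndex_commutator_sup K M hMK hnil q hq hqd
    rw [hj] at h1
    exact (Nat.prime_dvd_prime_iff_eq hq hp).mp (hq.dvd_of_dvd_pow h1)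
  · exact caseD hd
  · obtain ⟨p, m, hp, hpm, hdvd⟩ := he
    have h1 : (⁅K, K⁆ ⊔ M).relIndex K ∣ M.relIndex K := Subgroup.relIndex_dvd_of_le_left K hMH₁
    rw [hpm] at h1
    obtain ⟨j, -, hj⟩ := (Nat.dvd_prime_pow hp).mp h1
    have hj0 : j ≠ 0 := by
      intro h0
      rw [h0, pow_zero] at hj
      exact hne1 hj
    rcases Nat.lt_or_ge j 2 with hj2 | hj2
    · have hj1 : j = 1 := by omega
      rw [hj1, pow_one] at hj
      exact caseD (commutator_le_of_relIndex_prime K M hMK hnil p hp hj)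
    · apply caseB
      rw [hj]
      have hpo : Odd p := by
        have h3 : p ∣ (⁅K, K⁆ ⊔ M).relIndex K := by
          rw [hj]
          exact dvd_pow_self p hj0
        exact hoddK.of_dvd_nat (h3.trans (Subgroup.relIndex_dvd_card _ K))
      exact arith_e hodde hp hpo hdvd hj2

end Cfsg.Agent.S1521
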