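import Cfsg.Statements.S1522
import Cfsg.Agent.Lib.Helper25.PCount
import Cfsg.Agent.Lib.Helper25.ZKer
import Cfsg.Agent.Lib.Helper25.CohMaxRanked
import Cfsg.Agent.Lib.Helper79.FaithfulIrr
import Cfsg.Agent.S1521

set_option autoImplicit false
open Cfsg
open Cfsg.Agent.Lib.Helper25
open scoped ComplexConjugate

namespace Cfsg.Agent.S1522

section

set_option linter.unusedSectionVars false

variable {L : Type*} [Group L] [Fintype L] (K : Subgroup L) [hK : K.Normal]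

/-- Some irreducible character of `K` is nontrivial on `Z ≠ ⊥`. -/
theorem exists_irr_nontrivial_on (Z : Subgroup L) (hZ1 : Z ≠ ⊥) (hZK : Z ≤ K) :
    ∃ θ : K → ℂ, IsIrrCharacter K θ ∧ ¬ ∀ z : K, (z : L) ∈ Z → θ z = θ 1 := by
  obtain ⟨z, hz, hz1⟩ : ∃ z ∈ Z, z ≠ 1 := by
    by_contra hcon
    push Not at hcon
    exact hZ1 ((Subgroup.eq_bot_iff_forall _).mpr hcon)
  have hz' : (⟨z, hZK hz⟩ : K) ≠ 1 := fun h => hz1 (congrArg Subtype.val h)
  obtain ⟨n, ρ, hirr, hρ⟩ := Cfsg.Agent.Lib.Helper79.exists_irr_rep_not_mem_ker hz'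
  refine ⟨ρ.character, ⟨n, ρ, hirr, rfl⟩, ?_⟩
  intro h
  apply hρ
  have := (Cfsg.Agent.Lib.Helper79.rep_mem_ker_iff ρ ⟨z, hZK hz⟩).mpr (h _ hz)
  exact this

open Classical in
theorem irrNotAbove_filter_fibre [Fintype (IrrCharacter K)] (Z : Subgroup L) [hZ : Z.Normal]
    (deg : IrrCharacter K → ℕ) (hdeg : ∀ θ : IrrCharacter K, (θ : K → ℂ) 1 = (deg θ : ℂ)) (c : ℕ)
    (θ' : IrrCharacter K) (hθ' : θ' ∈ (irrNotAbove K Z).filter (fun θ' => deg θ' < c))
    (θ'' : IrrCharacter K) (h : indFun K (θ'' : K → ℂ) = indFun K (θ' : K → ℂ)) :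
    θ'' ∈ (irrNotAbove K Z).filter (fun θ' => deg θ' < c) := by
  rw [Finset.mem_filter] at hθ' ⊢
  refine ⟨irrNotAbove_fibre K Z θ' hθ'.1 θ'' h, ?_⟩
  have h1 := degree_eq_of_ind_eq K h
  rw [hdeg, hdeg] at h1
  have : deg θ'' = deg θ' := by exact_mod_cast h1
  rw [this]; exact hθ'.2

end

/-- Let K be a nilpotent normal subgroup of the finite group L of odd order with [K,K] < K < L and L/[K,K] a Frobenius group with kernel K/[K,K] (elements of K outside [K,K] are centralised modulo [K,K] only from inside K); let (S, τ, R) be a coherence system from L to G with S the functions induced from non-principal irreducible characters of K. Let Z be a nontrivial normal subgroup of L contained in the centre of K, and suppose every member of S outside S(Z) is an irreducible character of L. Then S minus S(Z) is the set of irreducible characters χ of L with χ z ≠ χ 1 for some z ∈ Z, and it is coherent. -/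
theorem result {L : Type*} [Group L] [Fintype L] {G : Type*} [Group G] [Fintype G] (K : Subgroup L) [hK : K.Normal] (hsolv : Group.IsSolvable K) (τ : (L → ℂ) → (G → ℂ)) (R : (L → ℂ) → Finset (G → ℂ)) (hS : Cfsg.IsCoherenceSystem (Cfsg.inducedIrrAbove K ⊥) τ R) (hodd : Odd (Nat.card L)) (hnil : Group.IsNilpotent K) (hH₁K : ⁅K, K⁆ < K) (hKL : K < ⊤) (hfrob : ∀ k ∈ K, k ∉ ⁅K, K⁆ → ∀ x : L, x * k * x⁻¹ * k⁻¹ ∈ ⁅K, K⁆ → x ∈ K) (Z : Subgroup L) [Z.Normal] (hZ1 : Z ≠ ⊥) (hZK : Z ≤ K) (hZc : ∀ z ∈ Z, ∀ k ∈ K, z * k = k * z) (hirr : ∀ χ ∈ Cfsg.inducedIrrAbove K ⊥ \ Cfsg.inducedIrrAbove K Z, Cfsg.IsIrrCharacter L χ) : Cfsg.inducedIrrAbove K ⊥ \ Cfsg.inducedIrrAbove K Z = {χ | Cfsg.IsIrrCharacter L χ ∧ ∃ z ∈ Z, χ z ≠ χ 1} ∧ Cfsg.IsCoherent (Cfsg.inducedIrrAbove K ⊥ \ Cfsg.inducedIrrAbove K Z) {1}ᶜ τ := by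
  classical
  have : Fintype K := Fintype.ofFinite _
  have : Fintype (IrrCharacter K) := Fintype.ofFinite _
  refine ⟨diff_inducedIrrAbove_eq K Z hZK hirr, ?_⟩
  have hXS : inducedIrrAbove K ⊥ \ inducedIrrAbove K Z ⊆ inducedIrrAbove K ⊥ := Set.sdiff_subset
  have hXc : ∀ φ ∈ inducedIrrAbove K ⊥ \ inducedIrrAbove K Z,
      conjFun φ ∈ inducedIrrAbove K ⊥ \ inducedIrrAbove K Z := by
    rintro φ ⟨h1, h2⟩
    refine ⟨inducedIrrAbove_conj K ⊥ h1, fun h => h2 ?_⟩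
    have := inducedIrrAbove_conj K Z h
    rwa [conjFun_conjFun] at this
  obtain ⟨θ₁, hθ₁, hθ₁nk⟩ := exists_irr_nontrivial_on K Z hZ1 hZK
  have hXne : (inducedIrrAbove K ⊥ \ inducedIrrAbove K Z).Nonempty :=
    ⟨indFun K θ₁, (mem_diff_inducedIrrAbove_iff K Z hZK _).mpr ⟨θ₁, hθ₁, hθ₁nk, rfl⟩⟩
  by_cases hpp : ∃ p m : ℕ, p.Prime ∧ Nat.card K = p ^ m
  swap
  · -- `S` itself is coherent by PF 6.3
    have hnil' : Group.IsNilpotent (↥K ⧸ (⊥ : Subgroup L).subgroupOf K) := inferInstance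
    have hcoh : IsCoherent (inducedIrrAbove K ⊥) ({1}ᶜ : Set L) τ :=
      Cfsg.Agent.S1521.result K hsolv τ R hS hodd ⊥ bot_le hnil' ⁅K, K⁆ (sup_bot_eq _).symm hH₁K hKL
        hfrob (Or.inr (Or.inr (Or.inl (by rwa [Subgroup.relIndex_bot_left]))))
    obtain ⟨χ, hχ⟩ := hXne
    apply isCoherent_of_subset hXS hcoh
    refine ⟨χ - conjFun χ, Cfsg.Agent.S1516.sub_conj_mem hS hXS hXc hχ, ?_⟩
    intro h
    exact hS.conj_ne χ (hXS hχ) (sub_eq_zero.mp h).symm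
  · obtain ⟨p, m, hp, hcard⟩ := hpp
    have hepos : 0 < K.index := Nat.pos_of_ne_zero Subgroup.index_ne_zero_of_finite
    -- `p ≥ 3`
    have hrelK' : ⁅K, K⁆.relIndex K ∣ p ^ m := by
      rw [← hcard]; exact Subgroup.relIndex_dvd_card _ K
    obtain ⟨i, -, hi⟩ := (Nat.dvd_prime_pow hp).mp hrelK'
    have hi0 : i ≠ 0 := by
      intro h0
      rw [h0, pow_zero] at hi
      exact hH₁K.not_ge (Subgroup.relIndex_eq_one.mp hi)
    have hpdvd : p ∣ ⁅K, K⁆.relIndex K := by rw [hi]; exact dvd_pow_self p hi0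
    have hpodd : Odd p := hodd.of_dvd_nat
      ((hpdvd.trans (Subgroup.relIndex_dvd_card _ K)).trans (Subgroup.card_subgroup_dvd_card K))
    have hp3 : 3 ≤ p := by
      have := hp.two_le
      rcases this.lt_or_eq with h | h
      · omega
      · exfalso
        rw [← h] at hpodd
        exact absurd hpodd (by decide)
    -- coprimality
    have hcop : Nat.Coprime K.index p := by
      have h1 := frob_index_dvd_relIndex_sub_one K ⁅K, K⁆ K hH₁K.le le_rfl le_rfl hfrob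
      apply Nat.Coprime.symm
      rw [Nat.Prime.coprime_iff_not_dvd hp]
      intro hpe
      have h2 : p ∣ ⁅K, K⁆.relIndex K - 1 := hpe.trans h1
      have hpos : 1 ≤ ⁅K, K⁆.relIndex K := by rw [hi]; exact Nat.one_le_pow _ _ hp.pos
      have h3 : p ∣ 1 := by
        have := (Nat.dvd_sub hpdvd h2)
        rwa [Nat.sub_sub_self hpos] at this
      exact hp.one_lt.ne' (Nat.dvd_one.mp h3)
    -- degrees
    have hdegex : ∀ θ : IrrCharacter K, ∃ k : ℕ, (θ : K → ℂ) 1 = (k : ℂ) := by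
      intro θ
      obtain ⟨k, _, hk⟩ := irr_degree θ.2
      exact ⟨k, hk⟩
    choose deg hdeg using hdegex
    have hpow : ∀ θ' : IrrCharacter K, ∃ b : ℕ, deg θ' = p ^ b := by
      intro θ'
      obtain ⟨n, hn1, hn2, -⟩ := Cfsg.Agent.Lib.Helper3.IsIrrCharacter.apply_one_dvd_card θ'.2
      rw [hdeg] at hn1
      have : deg θ' = n := by exact_mod_cast hn1
      rw [hcard] at hn2
      obtain ⟨b, -, hb⟩ := (Nat.dvd_prime_pow hp).mp hn2
      exact ⟨b, by rw [this, hb]⟩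
    -- membership
    have hmemX : ∀ θ : IrrCharacter K, θ ∈ irrNotAbove K Z →
        indFun K (θ : K → ℂ) ∈ inducedIrrAbove K ⊥ \ inducedIrrAbove K Z := by
      intro θ hθ
      exact (mem_diff_inducedIrrAbove_iff K Z hZK _).mpr
        ⟨θ.1, θ.2, (mem_irrNotAbove K Z θ).mp hθ, rfl⟩
    have hnorm : ∀ θ ∈ irrNotAbove K Z,
        classInner (indFun K (θ : K → ℂ)) (indFun K (θ : K → ℂ)) = 1 := by
      intro θ hθ
      have h1 := hirr _ (hmemX θ hθ)
      rw [Cfsg.Agent.Lib.Helper3.classInner_irr h1 h1, if_pos rfl]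
    -- minimal degree
    have hTne : (irrNotAbove K Z).Nonempty :=
      ⟨⟨θ₁, hθ₁⟩, (mem_irrNotAbove K Z _).mpr hθ₁nk⟩
    obtain ⟨θ₀, hθ₀T, hmin⟩ := Finset.exists_min_image (irrNotAbove K Z) deg hTne
    -- degree and norm functions
    have hdex : ∀ φ ∈ inducedIrrAbove K ⊥, ∃ k : ℕ, φ 1 = (k : ℂ) :=
      fun φ hφ => char_degree (hS.isCharacter φ hφ)
    have hnex : ∀ φ ∈ inducedIrrAbove K ⊥, ∃ k : ℕ, classInner φ φ = (k : ℂ) := by
      intro φ hφ
      obtain ⟨k, _, hk⟩ := Cfsg.Agent.S1517.norm_pos hS hφ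
      exact ⟨k, hk⟩
    let d : (L → ℂ) → ℕ := fun φ => if h : ∃ k : ℕ, φ 1 = (k : ℂ) then h.choose else 0
    let n : (L → ℂ) → ℕ := fun φ => if h : ∃ k : ℕ, classInner φ φ = (k : ℂ) then h.choose else 0
    have hd : ∀ φ ∈ inducedIrrAbove K ⊥, φ 1 = (d φ : ℂ) := by
      intro φ hφ
      have h := hdex φ hφ
      simp only [d, dif_pos h]
      exact h.choose_spec
    have hn : ∀ φ ∈ inducedIrrAbove K ⊥, classInner φ φ = (n φ : ℂ) := by
      intro φ hφ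
      have h := hnex φ hφ
      simp only [n, dif_pos h]
      exact h.choose_spec
    have hdval : ∀ θ : IrrCharacter K, θ ∈ irrNotAbove K Z →
        d (indFun K (θ : K → ℂ)) = K.index * deg θ := by
      intro θ hθ
      have h1 := hd _ (hXS (hmemX θ hθ))
      rw [indIrr_apply_one, hdeg] at h1
      exact_mod_cast h1.symm
    -- the starting set
    set X₀ : Set (L → ℂ) := {φ | φ ∈ inducedIrrAbove K ⊥ \ inducedIrrAbove K Z ∧
      φ 1 = ((K.index * deg θ₀ : ℕ) : ℂ)} with hX₀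
    have hX₀X : X₀ ⊆ inducedIrrAbove K ⊥ \ inducedIrrAbove K Z := fun φ hφ => hφ.1
    have hX₀S : X₀ ⊆ inducedIrrAbove K ⊥ := fun φ hφ => hXS hφ.1
    have hφ₀ : indFun K (θ₀ : K → ℂ) ∈ X₀ := by
      refine ⟨hmemX θ₀ hθ₀T, ?_⟩
      rw [indIrr_apply_one, hdeg]
      push_cast; ring
    have hX₀c : ∀ φ ∈ X₀, conjFun φ ∈ X₀ := by
      rintro φ ⟨h1, h2⟩
      refine ⟨hXc φ h1, ?_⟩
      rw [conjFun_apply, h2, Complex.conj_natCast]
    have hcoh₀ : IsCoherent X₀ ({1}ᶜ : Set L) τ := by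
      have hsub := IsCoherenceSystem.subset hS hX₀S ⟨_, hφ₀⟩ hX₀c
      apply Cfsg.Agent.S1517.result _ τ R hsub
      intro φ hφ ψ hψ
      rw [hφ.2, hψ.2]
    apply coherent_by_maximality_ranked hS (inducedIrrAbove_finite K ⊥) X₀ hX₀S hX₀c hcoh₀
      (inducedIrrAbove K ⊥ \ inducedIrrAbove K Z) hXS hXc hXne d
    intro S₁ h0 h1 h2 h3 χ hχX hχ hcχ hlow
    obtain ⟨θv, hθv, hθnk, hχθ⟩ := (mem_diff_inducedIrrAbove_iff K Z hZK χ).mp hχX
    set θ : IrrCharacter K := ⟨θv, hθv⟩ with hθdef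
    have hθT : θ ∈ irrNotAbove K Z := (mem_irrNotAbove K Z θ).mpr hθnk
    have hχeq : χ = indFun K (θ : K → ℂ) := hχθ
    have hφ₀S₁ : indFun K (θ₀ : K → ℂ) ∈ S₁ := Finset.mem_coe.mp (h0 hφ₀)
    have hdχ : d χ = K.index * deg θ := by rw [hχeq]; exact hdval θ hθT
    have hdχ₁ : d (indFun K (θ₀ : K → ℂ)) = K.index * deg θ₀ := hdval θ₀ hθ₀T
    have hle : deg θ₀ ≤ deg θ := hmin θ hθT
    have hne : deg θ ≠ deg θ₀ := by
      intro heq
      apply hχ
      apply Finset.mem_coe.mp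
      apply h0
      refine ⟨hχX, ?_⟩
      rw [hχeq, indIrr_apply_one, hdeg, heq]
      push_cast; ring
    have hlt : deg θ₀ < deg θ := lt_of_le_of_ne hle (Ne.symm hne)
    -- divisibility
    have hdvd : d (indFun K (θ₀ : K → ℂ)) ∣ d χ := by
      rw [hdχ, hdχ₁]
      apply Nat.mul_dvd_mul_left
      obtain ⟨a, ha⟩ := hpow θ
      obtain ⟨a₀, ha₀⟩ := hpow θ₀
      rw [ha, ha₀] at hle ⊢
      exact pow_dvd_pow p ((Nat.pow_le_pow_iff_right hp.one_lt).mp hle)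
    -- inequality
    have hcount := pgroup_count K Z hZc p m hp hp3 hcard hcop deg hdeg hnorm θ θ₀ hθ₀T hlt
    have hsum := sum_image_ind K ((irrNotAbove K Z).filter (fun θ' => deg θ' < deg θ))
      (irrNotAbove_filter_fibre K Z deg hdeg (deg θ)) d n deg hdeg
      (fun θ' hθ' => hd _ (hXS (hmemX θ' (Finset.mem_filter.mp hθ').1)))
      (fun θ' hθ' => hn _ (hXS (hmemX θ' (Finset.mem_filter.mp hθ').1)))
    have hsub : ((irrNotAbove K Z).filter (fun θ' => deg θ' < deg θ)).image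
        (fun θ' : IrrCharacter K => indFun K (θ' : K → ℂ)) ⊆ S₁ := by
      intro φ hφ
      obtain ⟨θ', hθ', rfl⟩ := Finset.mem_image.mp hφ
      obtain ⟨hθ'T, hθ'lt⟩ := Finset.mem_filter.mp hθ'
      apply hlow _ (hmemX θ' hθ'T)
      rw [hdval θ' hθ'T, hdχ]
      exact Nat.mul_lt_mul_of_pos_left hθ'lt hepos
    have hle2 : (K.index : ℝ) * ∑ θ' ∈ (irrNotAbove K Z).filter (fun θ' => deg θ' < deg θ),
        (deg θ' : ℝ) ^ 2 ≤ ∑ φ ∈ S₁, ((d φ : ℝ) ^ 2 / (n φ : ℝ)) := by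
      rw [← hsum]
      apply Finset.sum_le_sum_of_subset_of_nonneg hsub
      intro φ _ _
      positivity
    have hineq : (2 * d χ * d (indFun K (θ₀ : K → ℂ)) : ℝ) <
        ∑ φ ∈ S₁, ((d φ : ℝ) ^ 2 / (n φ : ℝ)) := by
      apply lt_of_lt_of_le _ hle2
      rw [hdχ, hdχ₁]
      have hc' : ((2 * K.index * deg θ * deg θ₀ : ℕ) : ℝ) <
          ((∑ θ' ∈ (irrNotAbove K Z).filter (fun θ' => deg θ' < deg θ), deg θ' ^ 2 : ℕ) : ℝ) := by
        exact_mod_cast hcount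
      push_cast at hc' ⊢
      have hk : (0 : ℝ) < K.index := by exact_mod_cast hepos
      nlinarith
    exact Cfsg.Agent.S1516.result (inducedIrrAbove K ⊥) τ R hS d n hd hn S₁ h1 h2 h3 χ
      (hXS hχX) hχ hcχ _ hφ₀S₁ hdvd hineq

end Cfsg.Agent.S1522
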