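import Cfsg.Statements.S1524
import Cfsg.Agent.Lib.Helper25.SibleyE
import Cfsg.Agent.Lib.Helper25.FrobIrr
import Cfsg.Agent.Lib.Helper25.ExtDeg
import Cfsg.Agent.Lib.Helper25.CohAbelian
import Cfsg.Agent.S1514
import Cfsg.Agent.S1522

set_option autoImplicit false
set_option linter.style.haveILetI false
open Cfsg

namespace Cfsg.Agent.S1524

open Cfsg.Agent.Lib.Helper25
open scoped ComplexConjugate Pointwise

/-- the derived subgroup of a non-trivial solvable subgroup is proper -/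
theorem commutator_lt_of_solvable {L : Type*} [Group L] (K : Subgroup L) [Group.IsSolvable K]
    (hK : K ≠ ⊥) : ⁅K, K⁆ < K := by
  rw [← Subgroup.nontrivial_iff_ne_bot] at hK
  rw [← K.range_subtype, MonoidHom.range_eq_map, ← Subgroup.map_commutator,
    Subgroup.map_subtype_lt_map_subtype]
  exact Group.IsSolvable.commutator_lt_top_of_nontrivial K

set_option maxHeartbeats 1000000 in
/-- Let G be a finite group and H ≤ L subgroups with L of odd order, H ≠ ⊥ nilpotent and normal in L with a nontrivial complement W₁ in L (H ⊓ W₁ = ⊥, H ⊔ W₁ = L) acting on H without non-identity fixed points (L is a Frobenius group with kernel H), and suppose the underlying set of H is a TI-subset of G whose normaliser is L. Let S be the set of functions on L induced from the non-principal irreducible characters of H. Then (S, L minus 1, induction to G) is coherent. -/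
theorem result {G : Type*} [Group G] [Fintype G] (H L W₁ : Subgroup G) [Fintype L] (hodd : Odd (Nat.card L)) (hHL : H ≤ L) (hW₁L : W₁ ≤ L) (hH1 : H ≠ ⊥) (hW1 : W₁ ≠ ⊥) (hnil : Group.IsNilpotent H) (hHn : ∀ x ∈ L, ∀ h ∈ H, x * h * x⁻¹ ∈ H) (hinf : H ⊓ W₁ = ⊥) (hsup : H ⊔ W₁ = L) (hfpf : ∀ w ∈ W₁, w ≠ 1 → ∀ h ∈ H, w * h = h * w → h = 1) (hTI : Cfsg.IsTISubset (H : Set G)) (hN : Subgroup.normalizer (H : Set G) = L) : Cfsg.IsCoherent (Cfsg.inducedIrrAbove (H.subgroupOf L) ⊥) {1}ᶜ (fun α : L → ℂ => Cfsg.indFun L α) := by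
  classical
  set K := H.subgroupOf L with hK
  set W := W₁.subgroupOf L with hW
  haveI hKn : K.Normal := ⟨fun n hn g => by
    rw [hK, Subgroup.mem_subgroupOf] at hn ⊢
    have := hHn g g.2 n hn
    simpa using this⟩
  have hinf' : K ⊓ W = ⊥ := by
    rw [eq_bot_iff]
    intro x hx
    rw [Subgroup.mem_bot]
    have h1 : (x : G) ∈ H ⊓ W₁ :=
      ⟨Subgroup.mem_subgroupOf.mp hx.1, Subgroup.mem_subgroupOf.mp hx.2⟩
    rw [hinf, Subgroup.mem_bot] at h1
    exact Subtype.ext h1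
  have hsup' : K ⊔ W = ⊤ := by
    rw [hK, hW, ← Subgroup.subgroupOf_sup hHL hW₁L, hsup, Subgroup.subgroupOf_self]
  have hfpf' : ∀ w ∈ W, w ≠ 1 → ∀ k ∈ K, w * k = k * w → k = 1 := by
    intro w hw hw1 k hk hwk
    have := hfpf w (Subgroup.mem_subgroupOf.mp hw) (fun h => hw1 (Subtype.ext h)) k
      (Subgroup.mem_subgroupOf.mp hk) (congrArg Subtype.val hwk)
    exact Subtype.ext this
  have hKnil : Group.IsNilpotent K := by
    haveI := hnil
    exact Group.nilpotent_of_mulEquiv (Subgroup.subgroupOfEquivOfLe hHL).symm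
  haveI := hKnil
  have hsolv : Group.IsSolvable K := inferInstance
  have hK1 : K ≠ ⊥ := by
    intro h
    apply hH1
    rw [eq_bot_iff]
    intro x hx
    have : (⟨x, hHL hx⟩ : L) ∈ K := Subgroup.mem_subgroupOf.mpr hx
    rw [h, Subgroup.mem_bot] at this
    rw [Subgroup.mem_bot]
    exact congrArg Subtype.val this
  have hW1' : W ≠ ⊥ := by
    intro h
    apply hW1
    rw [eq_bot_iff]
    intro x hx
    have : (⟨x, hW₁L hx⟩ : L) ∈ W := Subgroup.mem_subgroupOf.mpr hx
    rw [h, Subgroup.mem_bot] at this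
    rw [Subgroup.mem_bot]
    exact congrArg Subtype.val this
  have hKtop : K ≠ ⊤ := by
    intro h
    apply hW1'
    rw [h, top_inf_eq] at hinf'
    exact hinf'
  -- cardinalities
  have hmul : (K : Set L) * (W : Set L) = Set.univ := by
    rw [← Subgroup.normal_mul, hsup', Subgroup.coe_top]
  have hcompl : Subgroup.IsComplement' K W :=
    Subgroup.isComplement'_of_disjoint_and_mul_eq_univ (disjoint_iff.mpr hinf') hmul
  have hindex : K.index = Nat.card W := hcompl.symm.index_eq_card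
  have hcop : (Nat.card W).Coprime (Nat.card K) := frob_coprime K W hfpf'
  have hcardKH : Nat.card K = Nat.card H :=
    Nat.card_congr (Subgroup.subgroupOfEquivOfLe hHL).toEquiv
  have hWodd : Odd (Nat.card W) := hodd.of_dvd_nat (Subgroup.card_subgroup_dvd_card W)
  have he3 : 3 ≤ Nat.card W := by
    have h1 : Nat.card W ≠ 1 := fun h => hW1' (Subgroup.card_eq_one.mp h)
    have h0 : 0 < Nat.card W := Nat.card_pos
    obtain ⟨j, hj⟩ := hWodd
    omega
  -- the Hall property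
  have hHall : ∀ v ∈ H, ∀ x : G, x⁻¹ * v * x ∈ L → x⁻¹ * v * x ∈ H := by
    intro v hv x hx
    have hpow : (⟨x⁻¹ * v * x, hx⟩ : L) ^ Nat.card K = 1 := by
      apply Subtype.ext
      rw [Subgroup.coe_pow, Subgroup.coe_one]
      show (x⁻¹ * v * x) ^ Nat.card K = 1
      have h1 : v ^ Nat.card H = 1 := by
        have := pow_card_eq_one' (G := H) (x := ⟨v, hv⟩)
        have h2 := congrArg Subtype.val this
        rwa [Subgroup.coe_pow, Subgroup.coe_one] at h2
      have h3 : x⁻¹ * v * x = x⁻¹ * v * x⁻¹⁻¹ := by rw [inv_inv]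
      rw [hcardKH, h3, conj_pow, h1]
      simp
    have := mem_of_pow_card_eq_one K (by rw [hindex]; exact hcop.symm) hpow
    exact Subgroup.mem_subgroupOf.mp this
  -- irreducibility and the coherence system
  have hirr : ∀ χ ∈ inducedIrrAbove K ⊥, IsIrrCharacter L χ := by
    rintro χ ⟨θ, hθ, hne, -, rfl⟩
    exact frob_ind_irr K W hinf' hsup' hfpf' hθ hne
  have hconj : ∀ χ ∈ inducedIrrAbove K ⊥,
      conjFun χ ∈ inducedIrrAbove K ⊥ ∧ conjFun χ ≠ χ := fun χ hχ =>
    ⟨inducedIrrAbove_conj K ⊥ hχ, induced_conj_ne K hodd hKtop hχ (hirr χ hχ)⟩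
  have hK'K : ⁅K, K⁆ < K := commutator_lt_of_solvable K hK1
  obtain ⟨ψ, hψ, hψ1⟩ := Cfsg.Agent.S1519.exists_linear_mem K hsolv ⁅K, K⁆ hK'K
  have hψS : ψ ∈ inducedIrrAbove K ⊥ := inducedIrrAbove_mono K bot_le hψ
  obtain ⟨hτiso, hτ1⟩ := ti_isometryOn H L hTI hN
  obtain ⟨R, hS⟩ := Cfsg.Agent.S1514.result (inducedIrrAbove K ⊥) ⟨ψ, hψS⟩ hirr hconj
    (fun α : L → ℂ => indFun L α) hτiso hτ1
  by_cases hab : ⁅K, K⁆ = ⊥
  · exact coherent_of_commutator_le K hsolv hS ⊥ (bot_lt_iff_ne_bot.mpr hK1) (le_of_eq hab)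
  · obtain ⟨Z, hZn, hZ1, hZK', hZc⟩ := exists_central_le_commutator K hKnil hab
    haveI := hZn
    have hZK : Z ≤ K := hZK'.trans hK'K.le
    have hψZ : ψ ∈ inducedIrrAbove K Z := inducedIrrAbove_mono K hZK' hψ
    have hfrob : ∀ k ∈ K, k ∉ ⁅K, K⁆ → ∀ x : L, x * k * x⁻¹ * k⁻¹ ∈ ⁅K, K⁆ → x ∈ K :=
      fun k hk hkN x hx => frob_quot K W hsup' hfpf' ⁅K, K⁆ hK'K.le hk hkN x hx
    obtain ⟨hS₂eq, ⟨-, τ₂, hτ₂, hag⟩⟩ := Cfsg.Agent.S1522.result K hsolv
      (fun α : L → ℂ => indFun L α) R hS hodd hKnil hK'K (lt_top_iff_ne_top.mpr hKtop) hfrob Z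
      hZ1 hZK hZc (fun χ hχ => hirr χ hχ.1)
    -- numbers
    have hqdvd : Nat.card W ∣ Nat.card Z - 1 := frob_dvd_card_sub_one K W hfpf' Z hZK
    have hZodd : Odd (Nat.card Z) := hodd.of_dvd_nat (Subgroup.card_subgroup_dvd_card Z)
    have hZ2 : 2 ≤ Nat.card Z := by
      have h1 : Nat.card Z ≠ 1 := fun h => hZ1 (Subgroup.card_eq_one.mp h)
      have h0 : 0 < Nat.card Z := Nat.card_pos
      omega
    have heq : 2 * Nat.card W + 1 ≤ Nat.card Z := by
      obtain ⟨c, hc⟩ := hqdvd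
      obtain ⟨j, hj⟩ := hZodd
      have hc0 : c ≠ 0 := by
        rintro rfl
        omega
      have hceven : Even c := by
        by_contra hcodd
        rw [Nat.not_even_iff_odd] at hcodd
        have : Odd (Nat.card W * c) := hWodd.mul hcodd
        rw [← hc] at this
        obtain ⟨t, ht⟩ := this
        omega
      obtain ⟨t, ht⟩ := hceven
      have ht1 : 1 ≤ t := by omega
      have : Nat.card W * 2 ≤ Nat.card W * c := Nat.mul_le_mul_left _ (by omega)
      omega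
    have hNq : 2 * Nat.card Z ≤ Nat.card K := by
      have hdvd : Nat.card Z ∣ Nat.card K := Subgroup.card_dvd_of_le hZK
      obtain ⟨c, hc⟩ := hdvd
      have hc0 : c ≠ 0 := by
        rintro rfl
        have : 0 < Nat.card K := Nat.card_pos
        omega
      have hc1 : c ≠ 1 := by
        rintro rfl
        rw [mul_one] at hc
        have hZeqK : Z = K := Subgroup.eq_of_le_of_card_ge hZK (le_of_eq hc)
        have : K ≤ ⁅K, K⁆ := hZeqK ▸ hZK'
        exact hK'K.not_ge this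
      have : Nat.card Z * 2 ≤ Nat.card Z * c := Nat.mul_le_mul_left _ (by omega)
      omega
    have hψ1' : ψ 1 = ((Nat.card W : ℕ) : ℂ) := by rw [hψ1, hindex]
    obtain ⟨Φ, hΦg, hΦ1, hΦ⟩ := sibley_core H L hHL hTI hN hodd hHall hirr R hS Z hZ1 hZK hZc
      hS₂eq τ₂ hτ₂ hag ψ hψZ (Nat.card W) (Nat.card K) (Nat.card Z) hindex rfl rfl hψ1' he3 heq
      hNq
    have hψirr := hirr ψ hψS
    have hmem : ψ - conjFun ψ ∈ zspanOn (inducedIrrAbove K ⊥) ({1}ᶜ : Set L) :=
      Cfsg.Agent.S1516.sub_conj_mem hS subset_rfl (fun φ hφ => hS.conj_mem φ hφ) hψS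
    refine ⟨⟨ψ - conjFun ψ, hmem, sub_ne_zero.mpr (hS.conj_ne ψ hψS).symm⟩, ?_⟩
    have hec : ((Nat.card W : ℕ) : ℂ) ≠ 0 := by
      have : 0 < Nat.card W := Nat.card_pos
      exact_mod_cast this.ne'
    have hdeg : ∀ χ ∈ inducedIrrAbove K ⊥, ∃ a : ℤ, χ 1 = (a : ℂ) * ((Nat.card W : ℕ) : ℂ) := by
      intro χ hχ
      obtain ⟨a, -, ha, -⟩ := induced_degree K Z hZK hZc hχ
      exact ⟨a, by rw [ha, hindex]; push_cast; ring⟩
    have h1 : ∀ χ ∈ inducedIrrAbove K ⊥,
        classInner Φ ((fun α : L → ℂ => indFun L α) (χ - (χ 1 / ((Nat.card W : ℕ) : ℂ)) • ψ)) =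
          classInner ψ (χ - (χ 1 / ((Nat.card W : ℕ) : ℂ)) • ψ) := by
      intro χ hχ
      have := hΦ χ hχ
      rw [hψ1'] at this
      exact this
    refine exists_extension_of_vector_deg hec hψS hψ1' hdeg hS.isometry Φ hΦg ?_ h1 ?_
    · rw [hΦ1, Cfsg.Agent.Lib.Helper3.classInner_irr hψirr hψirr, if_pos rfl]
    · intro χ hχ
      rw [← classInner_conj_symm, h1 χ hχ, classInner_conj_symm]

end Cfsg.Agent.S1524
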