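import Cfsg.Statements.S0183
import Cfsg.Agent.S0182
import Cfsg.Agent.S1524
import Cfsg.Agent.Lib.Helper78.CNSibley
import Cfsg.Agent.Lib.Helper78.CNQuot

set_option autoImplicit false
set_option linter.style.haveILetI false
open Cfsg

namespace Cfsg.Agent.S0183

open Cfsg.Agent.Lib.Helper78.CNMin Cfsg.Agent.Lib.Helper78.CNChar Cfsg.Agent.Lib.Helper3

/-- A minimal simple CN-group of odd order does not exist. -/
theorem minsimple_cn_false {G : Type*} [Group G] [Finite G] (hG : IsMinSimpleOddOrder G)
    (hCN : IsCNGroup G) : False := by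
  classical
  haveI : Fintype G := Fintype.ofFinite G
  obtain ⟨ι, hι, hne, K, hK, hcop, hcover⟩ := exists_family hG hCN
  haveI := hι
  haveI := hne
  haveI : ∀ i, Fintype ↥(Subgroup.normalizer (K i : Set G)) := fun i => Fintype.ofFinite _
  have hcoh : ∀ i, IsCoherent
      (inducedIrrAbove ((K i).subgroupOf (Subgroup.normalizer (K i : Set G))) ⊥)
      ({1}ᶜ : Set ↥(Subgroup.normalizer (K i : Set G)))
      (fun α : ↥(Subgroup.normalizer (K i : Set G)) → ℂ =>
        indFun (Subgroup.normalizer (K i : Set G)) α) := by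
    intro i
    obtain ⟨E, hF⟩ := (hK i).exists_frobIn hG hCN
    have hoddL : Odd (Nat.card (Subgroup.normalizer (K i : Set G))) :=
      Odd.of_dvd_nat hG.1 (Subgroup.card_subgroup_dvd_card _)
    have hsup : K i ⊔ E = Subgroup.normalizer (K i : Set G) := by
      apply le_antisymm
      · exact sup_le hF.K_le hF.E_le
      · intro m hm
        obtain ⟨a, ha, b, hb, rfl⟩ := hF.prod m hm
        exact Subgroup.mul_mem_sup ha hb
    exact Cfsg.Agent.S1524.result (K i) (Subgroup.normalizer (K i : Set G)) E hoddL hF.K_le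
      hF.E_le hF.K_ne hF.E_ne hF.K_nil hF.K_norm hF.disj hsup hF.fpf
      ((hK i).ti_form hG hCN) rfl
  exact family_false K hG.1 (fun i => (hK i).ti_form hG hCN)
    (fun i => (hK i).lt_normalizer hG hCN) (fun i => (hK i).cent_le hG hCN)
    (fun i => by haveI := (hK i).1; infer_instance) (fun i => (hK i).ne_bot hG) hcoh hcop hcover

/-- The reduction: a CN-group with a proper nontrivial normal subgroup, all of whose
proper subgroups are solvable and all of whose proper CN quotients are solvable, is solvable. -/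
theorem solvable_of_normal_cn {G : Type*} [Group G] [Finite G] (hCN : IsCNGroup G)
    (hprop : ∀ H : Subgroup G, H ≠ ⊤ → Group.IsSolvable H)
    (hquot : ∀ (A : Subgroup G) [A.Normal], A ≠ ⊥ → IsCNGroup (G ⧸ A) →
      Group.IsSolvable (G ⧸ A))
    (N : Subgroup G) (hN : N.Normal) (hN1 : N ≠ ⊥) (hNt : N ≠ ⊤) : Group.IsSolvable G := by
  classical
  obtain ⟨B, hB, hB1, hBab⟩ :=
    Cfsg.Agent.S0182.exists_abelian_normal (Nat.card N) N rfl hN hN1 (hprop N hNt)
  -- a prime dividing the order of `B`
  have hBcard : Nat.card B ≠ 1 := fun h => hB1 (Subgroup.card_eq_one.mp h)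
  obtain ⟨p, hp, hpB⟩ := Nat.exists_prime_and_dvd hBcard
  haveI : Fact p.Prime := ⟨hp⟩
  obtain ⟨x, hx⟩ := exists_prime_orderOf_dvd_card' p hpB
  -- the subgroup of elements of order dividing `p`
  let A : Subgroup G :=
    { carrier := {b | b ∈ B ∧ b ^ p = 1}
      one_mem' := ⟨B.one_mem, one_pow p⟩
      mul_mem' := by
        rintro a b ⟨ha, hap⟩ ⟨hb, hbp⟩
        refine ⟨B.mul_mem ha hb, ?_⟩
        have hc : Commute a b := hBab a ha b hb
        rw [hc.mul_pow, hap, hbp, one_mul]
      inv_mem' := by
        rintro a ⟨ha, hap⟩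
        exact ⟨B.inv_mem ha, by rw [inv_pow, hap, inv_one]⟩ }
  have hAmem : ∀ a : G, a ∈ A ↔ a ∈ B ∧ a ^ p = 1 := fun a => Iff.rfl
  haveI hAn : A.Normal := by
    refine ⟨fun a ha g => ?_⟩
    rw [hAmem] at ha ⊢
    refine ⟨hB.conj_mem a ha.1 g, ?_⟩
    rw [conj_pow, ha.2]
    group
  have hAp : IsPGroup p A := by
    intro a
    refine ⟨1, ?_⟩
    apply Subtype.ext
    have := ((hAmem a).mp a.2).2
    simpa using this
  have hAab : ∀ a ∈ A, ∀ b ∈ A, a * b = b * a := fun a ha b hb =>
    hBab a ((hAmem a).mp ha).1 b ((hAmem b).mp hb).1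
  have hA1 : A ≠ ⊥ := by
    intro h
    have hxA : (x : G) ∈ A := by
      rw [hAmem]
      refine ⟨x.2, ?_⟩
      have h1 : x ^ p = 1 := by rw [← hx]; exact pow_orderOf_eq_one x
      have := congrArg Subtype.val h1
      simpa using this
    rw [h, Subgroup.mem_bot] at hxA
    have hx1 : x = 1 := Subtype.ext hxA
    rw [hx1, orderOf_one] at hx
    exact hp.one_lt.ne hx
  haveI hQs : Group.IsSolvable (G ⧸ A) :=
    hquot A hA1 (Cfsg.Agent.Lib.Helper78.cn_quotient_of_abelian_pgroup hCN A hAp hAab)
  haveI hAs : Group.IsSolvable A :=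
    Group.isSolvable_of_comm (fun a a' => Subtype.ext (hAab a a.2 a' a'.2))
  apply Group.isSolvable_of_ker_le_range A.subtype (QuotientGroup.mk' A)
  rw [QuotientGroup.ker_mk', Subgroup.range_subtype]

/-- The CN-Theorem for odd order: a finite group of odd order in which every non-identity element has a nilpotent centralizer (a CN-group) is solvable. -/
theorem result {G : Type*} [Group G] [Finite G] (hodd : Odd (Nat.card G)) (hCN : Cfsg.IsCNGroup G) : Group.IsSolvable G := by
  induction hn : Nat.card G using Nat.strong_induction_on generalizing G with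
  | _ n ih =>
    -- all proper subgroups are solvable
    have hprop : ∀ H : Subgroup G, H ≠ ⊤ → Group.IsSolvable H := by
      intro H hH
      have hcard : Nat.card H < n := by
        rw [← hn]
        exact (Cfsg.Agent.S0182.card_lt_of_lt (lt_top_iff_ne_top.mpr hH)).trans_eq
          Subgroup.card_top
      have hoddH : Odd (Nat.card H) := Odd.of_dvd_nat hodd (Subgroup.card_subgroup_dvd_card H)
      exact ih (Nat.card H) hcard hoddH (Cfsg.Agent.Lib.Helper78.isCN_subgroup hCN H) rfl
    -- all proper CN quotients are solvable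
    have hquot : ∀ (A : Subgroup G) [A.Normal], A ≠ ⊥ → IsCNGroup (G ⧸ A) →
        Group.IsSolvable (G ⧸ A) := by
      intro A _ hA1 hCNq
      have hmul := Subgroup.card_eq_card_quotient_mul_card_subgroup A
      have hA2 : 1 < Nat.card A := by
        have h0 : 0 < Nat.card A := Nat.card_pos
        have h1 : Nat.card A ≠ 1 := fun h => hA1 (Subgroup.card_eq_one.mp h)
        omega
      have hq0 : 0 < Nat.card (G ⧸ A) := Nat.card_pos
      have hcard : Nat.card (G ⧸ A) < n := by
        rw [← hn, hmul]
        nlinarith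
      have hoddq : Odd (Nat.card (G ⧸ A)) :=
        Odd.of_dvd_nat hodd ⟨Nat.card A, hmul⟩
      exact ih (Nat.card (G ⧸ A)) hcard hoddq hCNq rfl
    by_contra hns
    -- then `G` is simple
    have hsimple : IsSimpleGroup G := by
      haveI : Nontrivial G := by
        by_contra h
        rw [not_nontrivial_iff_subsingleton] at h
        exact hns inferInstance
      refine ⟨fun N hN => ?_⟩
      by_contra hcon
      push Not at hcon
      exact hns (solvable_of_normal_cn hCN hprop hquot N hN hcon.1 hcon.2)
    have hnc : ¬ IsMulCommutative G := by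
      intro h
      exact hns (Group.isSolvable_of_comm (fun a b => h.is_comm.comm a b))
    exact minsimple_cn_false ⟨hodd, hsimple, hnc, hprop⟩ hCN

end Cfsg.Agent.S0183
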