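import Cfsg.Statements.S0185
import Cfsg.Agent.Lib.Helper3.OddOrder
import Cfsg.Agent.Lib.Helper15.LinearChar
import Cfsg.Agent.Lib.Helper80.Kernel
import Cfsg.Agent.Lib.Helper81.Irr

set_option autoImplicit false
open Cfsg

namespace Cfsg.Agent.S0185

/-- If a finite group has a faithful complex representation of degree less than the smallest prime dividing its order, the group is abelian. -/
theorem result {G : Type*} [Group G] [Finite G] {V : Type*} [AddCommGroup V] [Module ℂ V] [FiniteDimensional ℂ V] (ρ : Representation ℂ G V) (hfaithful : Function.Injective ρ) (hdeg : ∀ p : ℕ, p.Prime → p ∣ Nat.card G → Module.finrank ℂ V < p) (a b : G) : a * b = b * a := by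
  classical
  have := Fintype.ofFinite G
  have : Finite (Cfsg.IrrCharacter G) := Cfsg.Agent.Lib.Helper81.finite_irrCharacter
  have := Fintype.ofFinite (Cfsg.IrrCharacter G)
  have hχ : IsCharacter G ρ.character := Cfsg.Agent.Lib.Helper3.isCharacter_character ρ
  obtain ⟨m, hm, hsum⟩ := Cfsg.Agent.Lib.Helper3.IsCharacter.exists_mult hχ
  choose d hd1 hddvd hd0 using fun ψ : Cfsg.IrrCharacter G =>
    Cfsg.Agent.Lib.Helper3.IsIrrCharacter.apply_one_dvd_card ψ.2
  -- degree equation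
  have hdegsum : Module.finrank ℂ V = ∑ ψ : Cfsg.IrrCharacter G, m ψ * d ψ := by
    have h1 : ρ.character 1 = (Module.finrank ℂ V : ℂ) := Representation.char_one ρ
    have h2 := congrFun hsum 1
    rw [h1] at h2
    have h3 : (Module.finrank ℂ V : ℂ) = ((∑ ψ : Cfsg.IrrCharacter G, m ψ * d ψ : ℕ) : ℂ) := by
      rw [h2, Finset.sum_apply]
      push_cast
      refine Finset.sum_congr rfl fun ψ _ => ?_
      rw [Pi.smul_apply, smul_eq_mul, hd1 ψ]
    exact_mod_cast h3
  have hlin : ∀ ψ : Cfsg.IrrCharacter G, m ψ ≠ 0 → d ψ = 1 := by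
    intro ψ hmψ
    by_contra hne
    obtain ⟨p, hp, hpd⟩ := Nat.exists_prime_and_dvd hne
    have hlt := hdeg p hp (hpd.trans (hddvd ψ))
    have hple : p ≤ d ψ := Nat.le_of_dvd (Nat.pos_of_ne_zero (hd0 ψ)) hpd
    have hle : d ψ ≤ Module.finrank ℂ V := by
      rw [hdegsum]
      calc d ψ ≤ m ψ * d ψ := Nat.le_mul_of_pos_left _ (Nat.pos_of_ne_zero hmψ)
        _ ≤ ∑ ψ : Cfsg.IrrCharacter G, m ψ * d ψ :=
          Finset.single_le_sum (f := fun ψ => m ψ * d ψ) (fun _ _ => Nat.zero_le _)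
            (Finset.mem_univ ψ)
    omega
  -- the commutator is in the kernel
  have hker : ρ (a * b * (b * a)⁻¹) = 1 := by
    rw [← Cfsg.Agent.Lib.Helper80.char_eq_finrank_iff, ← Representation.char_one ρ]
    rw [hsum, Finset.sum_apply, Finset.sum_apply]
    refine Finset.sum_congr rfl fun ψ _ => ?_
    rw [Pi.smul_apply, Pi.smul_apply]
    by_cases hmψ : m ψ = 0
    · rw [hmψ]; simp
    · have h1 : (ψ : G → ℂ) 1 = 1 := by rw [hd1 ψ, hlin ψ hmψ]; simp
      have hl : IsCharacter G (ψ : G → ℂ) ∧ (ψ : G → ℂ) 1 = 1 :=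
        ⟨Cfsg.Agent.Lib.Helper3.IsIrrCharacter.isCharacter ψ.2, h1⟩
      congr 1
      have e1 := Cfsg.Agent.Lib.Helper15.linChar_mul hl (a * b) (b * a)⁻¹
      have e2 := Cfsg.Agent.Lib.Helper15.linChar_mul hl a b
      have e3 := Cfsg.Agent.Lib.Helper15.linChar_mul hl b a
      have e4 := Cfsg.Agent.Lib.Helper15.linChar_mul hl (b * a) (b * a)⁻¹
      rw [mul_inv_cancel, h1] at e4
      rw [e1, h1, e2, mul_comm ((ψ : G → ℂ) a), ← e3, ← e4]
  have h2 : ρ (a * b) = ρ (b * a) := by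
    have h3 : ρ (a * b * (b * a)⁻¹) * ρ (b * a) = ρ (b * a) := by rw [hker, one_mul]
    rw [← map_mul, inv_mul_cancel_right] at h3
    exact h3
  exact hfaithful h2

end Cfsg.Agent.S0185
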