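import Cfsg.Statements.S0186
import Cfsg.Agent.S0185
import Cfsg.Agent.Lib.Helper81.ProdIrr
import Cfsg.Agent.Lib.Helper81.ClassTable
import Cfsg.Agent.Lib.Helper81.OneIrr

set_option autoImplicit false
open Cfsg

namespace Cfsg.Agent.S0186

open Cfsg.Agent.Lib.Helper81

/-- In a finite simple group whose Sylow `p`-subgroup contains two non-commuting elements, every
non-trivial irreducible character has degree at least `p`. -/
theorem le_charDegree {G : Type*} [Group G] [Finite G] [IsSimpleGroup G] (p : ℕ) [Fact p.Prime]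
    (P : Sylow p G) (a b : G) (ha : a ∈ P) (hb : b ∈ P) (hab : a * b ≠ b * a)
    (χ : IrrCharacter G) (hχ : (χ : G → ℂ) ≠ fun _ => 1) : p ≤ charDegree (χ : G → ℂ) := by
  classical
  have : Fintype G := Fintype.ofFinite G
  obtain ⟨χf, n, ρ, hρ, rfl⟩ := χ
  have hdeg : charDegree ρ.character = n := by
    apply charDegree_eq_of_apply_one
    rw [Representation.char_one]
    simp
  change p ≤ charDegree ρ.character
  rw [hdeg]
  have hn : n ≠ 0 := dim_ne_zero_of_isIrreducible ρ hρ
  rcases (MonoidHom.normal_ker (ρ : G →* _)).eq_bot_or_eq_top with hK | hK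
  · -- faithful
    rw [MonoidHom.ker_eq_bot_iff] at hK
    by_contra hlt
    push Not at hlt
    let ρ' : Representation ℂ P (Fin n → ℂ) := ρ.comp (P : Subgroup G).subtype
    have hinj : Function.Injective ρ' := by
      intro x y hxy
      have : ρ (x : G) = ρ (y : G) := hxy
      exact Subtype.ext (hK this)
    have hq : ∀ q : ℕ, q.Prime → q ∣ Nat.card P → Module.finrank ℂ (Fin n → ℂ) < q := by
      intro q hq hqd
      obtain ⟨k, hk⟩ := (P.isPGroup').exists_card_eq
      rw [hk] at hqd
      have : q = p := (Nat.prime_dvd_prime_iff_eq hq Fact.out).1 (hq.dvd_of_dvd_pow hqd)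
      rw [this]
      simpa using hlt
    have := Cfsg.Agent.S0185.result ρ' hinj hq ⟨a, ha⟩ ⟨b, hb⟩
    exact hab (congrArg Subtype.val this)
  · -- trivial kernel is everything: impossible for a non-trivial irreducible character
    exfalso
    have hone : ∀ g : G, ρ.character g = (n : ℂ) := by
      intro g
      have hg : g ∈ MonoidHom.ker (ρ : G →* _) := by rw [hK]; exact Subgroup.mem_top g
      rw [MonoidHom.mem_ker] at hg
      rw [Representation.character, hg]
      simp
    have hsum := irr_sum_eq_zero_of_ne_one ⟨ρ.character, n, ρ, hρ, rfl⟩ hχ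
    simp only [hone, Finset.sum_const, Finset.card_univ, nsmul_eq_mul] at hsum
    rcases mul_eq_zero.1 hsum with h | h
    · have : Fintype.card G ≠ 0 := Fintype.card_ne_zero
      exact this (by exact_mod_cast h)
    · exact hn (by exact_mod_cast h)

/-- Let G be a finite simple group of order n and p a prime dividing n. If G has more than n / p^2 conjugacy classes, then every Sylow p-subgroup of G is abelian. -/
theorem result {G : Type*} [Group G] [Finite G] [IsSimpleGroup G] (p : ℕ) [Fact p.Prime] (hp : p ∣ Nat.card G) (hmany : Nat.card G < p ^ 2 * Nat.card (ConjClasses G)) (P : Sylow p G) (a b : G) (ha : a ∈ P) (hb : b ∈ P) : a * b = b * a := by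
  classical
  by_contra hab
  have := finite_irrCharacter (G := G)
  have : Fintype (IrrCharacter G) := Fintype.ofFinite _
  -- p^2 divides |G|
  have hp2 : p ^ 2 ∣ Nat.card G := by
    obtain ⟨k, hk⟩ := (P.isPGroup').exists_card_eq
    have hk3 : 2 ≤ k := by
      by_contra hlt
      push Not at hlt
      have hcomm : ∀ x y : P, x * y = y * x := by
        interval_cases k
        · intro x y
          have : Subsingleton P := (Nat.card_eq_one_iff_unique.1 (by simpa using hk)).1
          exact Subsingleton.elim _ _
        · have : IsCyclic P := isCyclic_of_prime_card (p := p) (by simpa using hk)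
          intro x y
          exact IsCyclic.commGroup.mul_comm x y
      exact hab (congrArg Subtype.val (hcomm ⟨a, ha⟩ ⟨b, hb⟩))
    have hk2 : k ≠ 2 := by
      intro h2
      rw [h2] at hk
      have := IsPGroup.isMulCommutative_of_card_eq_prime_sq hk
      exact hab (congrArg Subtype.val (this.is_comm.comm (⟨a, ha⟩ : P) ⟨b, hb⟩))
    have hdvd : p ^ 2 ∣ Nat.card P := by
      rw [hk]
      exact pow_dvd_pow p hk3
    exact hdvd.trans (Subgroup.card_subgroup_dvd_card (P : Subgroup G))
  obtain ⟨t, ht⟩ := hp2
  -- the degree sum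
  have hsum := sum_charDegree_sq (G := G)
  rw [← Finset.add_sum_erase Finset.univ _ (Finset.mem_univ (oneIrr G))] at hsum
  have h1 : charDegree ((oneIrr G : IrrCharacter G) : G → ℂ) = 1 := by
    apply charDegree_eq_of_apply_one
    rw [oneIrr_apply]
    simp
  rw [h1] at hsum
  have hle : (Finset.univ.erase (oneIrr G)).card * p ^ 2 ≤
      ∑ χ ∈ Finset.univ.erase (oneIrr G), charDegree (χ : G → ℂ) ^ 2 := by
    rw [← smul_eq_mul, ← Finset.sum_const]
    apply Finset.sum_le_sum
    intro χ hχ
    have hne : χ ≠ oneIrr G := (Finset.mem_erase.1 hχ).1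
    have hne' : (χ : G → ℂ) ≠ fun _ => 1 := fun h => hne (Subtype.ext h)
    exact Nat.pow_le_pow_left (le_charDegree p P a b ha hb hab χ hne') 2
  rw [Finset.card_erase_of_mem (Finset.mem_univ _), Finset.card_univ,
    ← Nat.card_eq_fintype_card, card_irrCharacter_eq_card_conjClasses] at hle
  set k := Nat.card (ConjClasses G) with hk
  rw [ht] at hmany hsum
  have htk : t < k := Nat.lt_of_mul_lt_mul_left hmany
  have h2 : (k - 1) * p ^ 2 + 1 ≤ p ^ 2 * t := by omega
  have h3 : p ^ 2 * t ≤ p ^ 2 * (k - 1) := Nat.mul_le_mul_left _ (by omega)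
  rw [mul_comm (p ^ 2) (k - 1)] at h3
  omega

end Cfsg.Agent.S0186
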