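import Cfsg.Statements.S0187
import Cfsg.Agent.Lib.Helper81.ClassTable

set_option autoImplicit false
open Cfsg
open Cfsg.Agent.Lib.Helper81

namespace Cfsg.Agent.S0187

/-- A finite group is commutative if and only if every irreducible complex character has degree 1. -/
theorem result {G : Type*} [Group G] [Finite G] : (∀ a b : G, a * b = b * a) ↔ ∀ χ : Cfsg.IrrCharacter G, (χ : G → ℂ) 1 = 1 := by
  classical
  constructor
  · intro hcomm χ
    haveI : IsMulCommutative G := ⟨⟨fun a b => hcomm a b⟩⟩
    obtain ⟨_, n, ρ, hρ, rfl⟩ := χ
    have := hρ
    have h1 := Representation.IsIrreducible.finrank_eq_one_of_isMulCommutative ρ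
    simp only [Representation.char_one, h1, Nat.cast_one]
  · intro h
    have := finite_irrCharacter (G := G)
    have : Fintype (IrrCharacter G) := Fintype.ofFinite _
    have hsum := sum_irr_deg_mul_one (G := G)
    simp only [h, mul_one, Finset.sum_const, Finset.card_univ, nsmul_eq_mul] at hsum
    have hcard : Nat.card (IrrCharacter G) = Nat.card G := by
      rw [Nat.card_eq_fintype_card]
      exact_mod_cast hsum
    rw [card_irrCharacter_eq_card_conjClasses] at hcard
    have hbij : Function.Bijective (ConjClasses.mk : G → ConjClasses G) := by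
      have : Fintype G := Fintype.ofFinite G
      have : Fintype (ConjClasses G) := Fintype.ofFinite _
      rw [Fintype.bijective_iff_surjective_and_card]
      refine ⟨ConjClasses.mk_surjective, ?_⟩
      rw [← Nat.card_eq_fintype_card, ← Nat.card_eq_fintype_card, hcard]
    intro a b
    have h1 : ConjClasses.mk (a * b * a⁻¹) = ConjClasses.mk b := by
      rw [ConjClasses.mk_eq_mk_iff_isConj, isConj_comm, isConj_iff]
      exact ⟨a, rfl⟩
    have h2 := hbij.1 h1
    calc a * b = a * b * a⁻¹ * a := by group
      _ = b * a := by rw [h2]

end Cfsg.Agent.S0187
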