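import Cfsg.Statements.S0189
import Mathlib

set_option autoImplicit false
open Cfsg

namespace Cfsg.Agent.S0189

/-- Restriction of a representation to a subgroup. -/
def resRep {G V : Type*} [Group G] [AddCommGroup V] [Module ℂ V] (ρ : Representation ℂ G V)
    (K : Subgroup G) : Representation ℂ K V := ρ.comp K.subtype

theorem resRep_character {G V : Type*} [Group G] [AddCommGroup V] [Module ℂ V]
    (ρ : Representation ℂ G V) (K : Subgroup G) (x : K) :
    (resRep ρ K).character x = ρ.character (x : G) := rfl

/-- The average of a character over a subgroup is the dimension of the fixed space. -/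
theorem sum_character_subgroup {G V : Type*} [Group G] [AddCommGroup V] [Module ℂ V]
    [FiniteDimensional ℂ V] (ρ : Representation ℂ G V) (K : Subgroup G) [Fintype K] :
    (Nat.card K : ℂ)⁻¹ * ∑ x : K, ρ.character (x : G) =
      (Module.finrank ℂ (Representation.invariants (resRep ρ K)) : ℂ) := by
  haveI : Invertible (Nat.card K : ℂ) :=
    invertibleOfNonzero (by exact_mod_cast (Nat.card_pos (α := K)).ne')
  exact Representation.card_inv_mul_sum_char_eq_finrank (resRep ρ K)

/-- If a complex character of a finite group vanishes at every non-identity element of a Sylow p-subgroup P, then |P| divides its degree. -/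
theorem result {G : Type*} [Group G] [Finite G] (p : ℕ) [Fact p.Prime] (P : Sylow p G) (χ : G → ℂ) (hχ : Cfsg.IsCharacter G χ) (hvan : ∀ g : G, g ∈ P → g ≠ 1 → χ g = 0) : ∃ k : ℕ, χ 1 = (Nat.card P : ℂ) * k := by
  classical
  obtain ⟨n, ρ, rfl⟩ := hχ
  haveI : Fintype (P : Subgroup G) := Fintype.ofFinite _
  have key := sum_character_subgroup ρ (P : Subgroup G)
  refine ⟨Module.finrank ℂ (Representation.invariants (resRep ρ (P : Subgroup G))), ?_⟩
  rw [← key]
  have hsum : ∑ x : (P : Subgroup G), ρ.character (x : G) = ρ.character 1 := by
    rw [Finset.sum_eq_single (1 : (P : Subgroup G))]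
    · rfl
    · intro x _ hx
      apply hvan _ x.2
      intro h
      apply hx
      exact Subtype.ext h
    · intro h
      exact absurd (Finset.mem_univ _) h
  rw [hsum]
  have hpos : (Nat.card (P : Subgroup G) : ℂ) ≠ 0 := by
    exact_mod_cast (Nat.card_pos (α := (P : Subgroup G))).ne'
  field_simp

end Cfsg.Agent.S0189
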