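import Cfsg.Statements.S0191
import Mathlib
import Cfsg.Agent.Lib.Helper75.GaloisNorm
import Cfsg.Agent.Lib.Helper3.CharBasic

set_option autoImplicit false
open Cfsg

namespace Cfsg.Agent.S0191

open Cfsg.Agent.Lib.Helper3 Cfsg.Agent.Lib.Helper75
open scoped ComplexConjugate

/-- AM-GM in the form: nonnegative reals with product at least one have sum at least their number. -/
theorem card_le_sum_of_one_le_prod {ι : Type*} (s : Finset ι) (z : ι → ℝ)
    (hz : ∀ i ∈ s, 0 ≤ z i) (h : 1 ≤ ∏ i ∈ s, z i) : (s.card : ℝ) ≤ ∑ i ∈ s, z i := by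
  rcases s.eq_empty_or_nonempty with rfl | hne
  · simp
  have hc : (0 : ℝ) < s.card := by exact_mod_cast hne.card_pos
  have key := Real.geom_mean_le_arith_mean_weighted s (fun _ => (s.card : ℝ)⁻¹) z
    (fun _ _ => (inv_pos.2 hc).le) (by simp [hc.ne']) hz
  rw [Real.finsetProd_rpow s z hz, ← Finset.mul_sum] at key
  have h1 : (1 : ℝ) ≤ (∏ i ∈ s, z i) ^ (s.card : ℝ)⁻¹ := Real.one_le_rpow h (inv_pos.2 hc).le
  have h2 : (1 : ℝ) ≤ (s.card : ℝ)⁻¹ * ∑ i ∈ s, z i := h1.trans key
  rw [inv_mul_eq_div, le_div_iff₀ hc, one_mul] at h2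
  exact h2

theorem result {G : Type*} [Group G] [Finite G] {V : Type*} [AddCommGroup V] [Module ℂ V] [FiniteDimensional ℂ V] (ρ : Representation ℂ G V) [ρ.IsIrreducible] (hdeg : 1 < Module.finrank ℂ V) : ∃ g : G, ρ.character g = 0 := by
  classical
  by_contra hne
  simp only [not_exists] at hne
  have hirr : IsIrrCharacter G ρ.character := isIrrCharacter_character ρ inferInstance
  have hchar : IsCharacter G ρ.character := Cfsg.Agent.Lib.Helper3.IsIrrCharacter.isCharacter hirr
  have hχ1 : ρ.character 1 = (Module.finrank ℂ V : ℂ) := Representation.char_one ρ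
  set χ := ρ.character with hχdef
  have := Fintype.ofFinite G
  have hN : NeZero (Nat.card G) := ⟨Nat.card_pos.ne'⟩
  set N := Nat.card G with hNdef
  let a : G → ℝ := fun g => Complex.normSq (χ g)
  -- first orthogonality
  have horth : ∑ g : G, a g = (N : ℝ) := by
    have h1 := classInner_irr hirr hirr
    rw [if_pos rfl] at h1
    unfold classInner at h1
    have hN0 : (Nat.card G : ℂ) ≠ 0 := by exact_mod_cast Nat.card_pos.ne'
    rw [inv_mul_eq_div, div_eq_iff hN0, one_mul] at h1
    have h2 : ((∑ g : G, a g : ℝ) : ℂ) = (N : ℂ) := by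
      rw [← h1]
      push_cast
      apply Finset.sum_congr rfl
      intro g _
      simp only [a]
      rw [Complex.mul_conj]
    exact_mod_cast h2
  -- the key inequality for each g
  have hkey : ∀ g : G, (Fintype.card (ZMod N)ˣ : ℝ) ≤
      ∑ u : (ZMod N)ˣ, a (g ^ (u : ZMod N).val) := by
    intro g
    have h1 := card_le_sum_of_one_le_prod (Finset.univ : Finset (ZMod N)ˣ)
      (fun u => a (g ^ (u : ZMod N).val)) (fun _ _ => Complex.normSq_nonneg _) ?_
    · simpa using h1
    · obtain ⟨z, hz⟩ := exists_int_eq_galProd hchar g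
      have hprod : ∏ u : (ZMod N)ˣ, a (g ^ (u : ZMod N).val) = Complex.normSq (galProd χ g) := by
        unfold galProd
        rw [map_prod]
      rw [hprod, ← hz]
      have hz0 : z ≠ 0 := by
        intro h0
        rw [h0, Int.cast_zero] at hz
        have := hz.symm
        unfold galProd at this
        rw [Finset.prod_eq_zero_iff] at this
        obtain ⟨u, _, hu⟩ := this
        exact hne _ hu
      rw [Complex.normSq_intCast]
      have : (1 : ℤ) ≤ z * z := by
        have := Int.one_le_abs hz0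
        nlinarith [abs_mul_abs_self z]
      exact_mod_cast this
  -- power maps permute G
  have hperm : ∀ u : (ZMod N)ˣ, ∑ g : G, a (g ^ (u : ZMod N).val) = ∑ g : G, a g := by
    intro u
    have hc : (Nat.card G).Coprime (u : ZMod N).val := (ZMod.val_coe_unit_coprime u).symm
    exact Equiv.sum_comp (powCoprime hc) a
  -- double counting
  have hS : ∑ g : G, ∑ u : (ZMod N)ˣ, a (g ^ (u : ZMod N).val) =
      (Fintype.card (ZMod N)ˣ : ℝ) * N := by
    rw [Finset.sum_comm]
    simp only [hperm, horth]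
    simp
  have hφ : (0 : ℝ) < Fintype.card (ZMod N)ˣ := by exact_mod_cast Fintype.card_pos
  have ha1 : a 1 = (Module.finrank ℂ V : ℝ) ^ 2 := by
    simp only [a]
    rw [hχ1, Complex.normSq_natCast, sq]
  have hS2 : (Fintype.card (ZMod N)ˣ : ℝ) * (Module.finrank ℂ V : ℝ) ^ 2 +
      (Fintype.card (ZMod N)ˣ : ℝ) * ((N : ℝ) - 1) ≤
      ∑ g : G, ∑ u : (ZMod N)ˣ, a (g ^ (u : ZMod N).val) := by
    rw [← Finset.add_sum_erase Finset.univ _ (Finset.mem_univ (1 : G))]
    apply add_le_add
    · simp only [one_pow, ha1]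
      simp
    · have hcard : ((Finset.univ.erase (1 : G)).card : ℝ) = (N : ℝ) - 1 := by
        rw [Finset.card_erase_of_mem (Finset.mem_univ _), Finset.card_univ, hNdef,
          Nat.card_eq_fintype_card]
        have : 1 ≤ Fintype.card G := Fintype.card_pos
        push_cast [Nat.cast_sub this]
        ring
      rw [← hcard, mul_comm, ← nsmul_eq_mul]
      exact Finset.card_nsmul_le_sum _ _ _ (fun g _ => hkey g)
  rw [hS] at hS2
  have hd : (2 : ℝ) ≤ (Module.finrank ℂ V : ℝ) := by exact_mod_cast hdeg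
  have hd2 : (0 : ℝ) < (Module.finrank ℂ V : ℝ) ^ 2 - 1 := by nlinarith
  nlinarith [mul_pos hφ hd2]

end Cfsg.Agent.S0191
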