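import Cfsg.Statements.S0192
import Cfsg.Agent.S0189
import Cfsg.Agent.Lib.Helper3.RepBasic

set_option autoImplicit false
open Cfsg

namespace Cfsg.Agent.S0192

open Cfsg.Agent.S0189 Cfsg.Agent.Lib.Helper3
open scoped ComplexConjugate

/-- inner product of a restricted character with the principal character -/
theorem classInner_res_one {G V : Type*} [Group G] [AddCommGroup V] [Module ℂ V]
    [FiniteDimensional ℂ V] (ρ : Representation ℂ G V) (K : Subgroup G) [Fintype K] :
    Cfsg.classInner (fun x : K => ρ.character (x : G)) (fun _ => 1) =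
      (Module.finrank ℂ (Representation.invariants (resRep ρ K)) : ℂ) := by
  rw [← sum_character_subgroup ρ K]
  unfold Cfsg.classInner
  simp

theorem mem_inv_iff {G V : Type*} [Group G] [AddCommGroup V] [Module ℂ V]
    (ρ : Representation ℂ G V) (K : Subgroup G) (v : V) :
    v ∈ Representation.invariants (resRep ρ K) ↔ ∀ g ∈ K, ρ g v = v := by
  rw [Representation.mem_invariants]
  constructor
  · intro h g hg
    exact h ⟨g, hg⟩
  · intro h g
    exact h g.1 g.2

/-- Brauer's generation criterion. Let G be a finite simple group, H₁ and H₂ subgroups, and χ a non-principal irreducible character. If the multiplicity of the principal character in χ restricted to H₁ ⊓ H₂ is less than the sum of the corresponding multiplicities for H₁ and H₂, then H₁ and H₂ do not generate G. -/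
theorem result {G : Type*} [Group G] [Fintype G] [IsSimpleGroup G] (H₁ H₂ : Subgroup G) [Fintype H₁] [Fintype H₂] [Fintype ↥(H₁ ⊓ H₂)] (χ : G → ℂ) (hχ : Cfsg.IsIrrCharacter G χ) (hχ1 : χ ≠ fun _ => 1) (hlt : (Cfsg.classInner (fun x : ↥(H₁ ⊓ H₂) => χ x) (fun _ => 1)).re < (Cfsg.classInner (fun x : H₁ => χ x) (fun _ => 1)).re + (Cfsg.classInner (fun x : H₂ => χ x) (fun _ => 1)).re) : H₁ ⊔ H₂ ≠ ⊤ := by
  obtain ⟨n, ρ, hρ, rfl⟩ := hχ
  intro htop
  rw [classInner_res_one ρ H₁, classInner_res_one ρ H₂, classInner_res_one ρ (H₁ ⊓ H₂)] at hlt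
  simp only [Complex.natCast_re] at hlt
  set I₁ := Representation.invariants (resRep ρ H₁) with hI₁
  set I₂ := Representation.invariants (resRep ρ H₂) with hI₂
  set I₁₂ := Representation.invariants (resRep ρ (H₁ ⊓ H₂)) with hI₁₂
  have hsup : I₁ ⊔ I₂ ≤ I₁₂ := by
    apply sup_le
    · intro v hv
      rw [hI₁, mem_inv_iff] at hv
      rw [hI₁₂, mem_inv_iff]
      intro g hg
      exact hv g hg.1
    · intro v hv
      rw [hI₂, mem_inv_iff] at hv
      rw [hI₁₂, mem_inv_iff]
      intro g hg
      exact hv g hg.2
  obtain ⟨hnt, hirr⟩ := (isIrreducible_iff ρ).1 hρ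
  have hinf : I₁ ⊓ I₂ = ⊥ := by
    rw [eq_bot_iff]
    intro v hv
    obtain ⟨hv1, hv2⟩ := hv
    rw [SetLike.mem_coe, hI₁, mem_inv_iff] at hv1
    rw [SetLike.mem_coe, hI₂, mem_inv_iff] at hv2
    -- v is fixed by all of G
    have hall : ∀ g : G, ρ g v = v := by
      let S : Subgroup G :=
        { carrier := {g | ρ g v = v}
          one_mem' := by simp
          mul_mem' := by
            intro x y hx hy
            simp only [Set.mem_ofPred_eq] at hx hy ⊢
            rw [map_mul, Module.End.mul_apply, hy, hx]
          inv_mem' := by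
            intro x hx
            simp only [Set.mem_ofPred_eq] at hx ⊢
            have : ρ x⁻¹ (ρ x v) = v := by
              rw [← Module.End.mul_apply, ← map_mul, inv_mul_cancel, map_one, Module.End.one_apply]
            rwa [hx] at this }
      have h1 : H₁ ≤ S := fun g hg => hv1 g hg
      have h2 : H₂ ≤ S := fun g hg => hv2 g hg
      have h3 : H₁ ⊔ H₂ ≤ S := sup_le h1 h2
      intro g
      have hg : g ∈ H₁ ⊔ H₂ := by rw [htop]; exact Subgroup.mem_top g
      exact h3 hg
    -- invariants of ρ
    rcases hirr (Representation.invariants ρ) (by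
      intro g w hw
      rw [Representation.mem_invariants] at hw ⊢
      intro h
      rw [hw g, hw h]) with h0 | h1
    · have : v ∈ Representation.invariants ρ := (Representation.mem_invariants ρ v).2 hall
      rw [h0] at this
      exact this
    · exfalso
      -- ρ is trivial
      have htriv : ∀ g : G, ∀ w : Fin n → ℂ, ρ g w = w := by
        intro g w
        have : w ∈ Representation.invariants ρ := by rw [h1]; exact Submodule.mem_top
        exact (Representation.mem_invariants ρ w).1 this g
      obtain ⟨w, hw⟩ := exists_ne (0 : Fin n → ℂ)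
      have hspan : Submodule.span ℂ {w} = ⊤ := by
        rcases hirr (Submodule.span ℂ {w}) (by
          intro g u hu
          rw [htriv g u]
          exact hu) with h | h
        · exfalso
          rw [Submodule.span_singleton_eq_bot] at h
          exact hw h
        · exact h
      have hrank : Module.finrank ℂ (Fin n → ℂ) = 1 := by
        rw [← finrank_top ℂ (Fin n → ℂ), ← hspan, finrank_span_singleton hw]
      apply hχ1
      funext g
      have : ρ g = LinearMap.id := by
        apply LinearMap.ext
        intro u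
        exact htriv g u
      show LinearMap.trace ℂ _ (ρ g) = 1
      rw [this, LinearMap.trace_id, hrank]
      simp
  have hdim := Submodule.finrank_sup_add_finrank_inf_eq I₁ I₂
  rw [hinf, finrank_bot, add_zero] at hdim
  have hle : Module.finrank ℂ ↥(I₁ ⊔ I₂) ≤ Module.finrank ℂ ↥I₁₂ := Submodule.finrank_mono hsup
  have : (Module.finrank ℂ ↥I₁₂ : ℝ) < (Module.finrank ℂ ↥I₁ + Module.finrank ℂ ↥I₂ : ℕ) := by
    push_cast
    exact hlt
  have h2 : Module.finrank ℂ ↥I₁₂ < Module.finrank ℂ ↥I₁ + Module.finrank ℂ ↥I₂ := by
    exact_mod_cast this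
  omega

end Cfsg.Agent.S0192
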