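import Cfsg.Statements.S0194
import Cfsg.Agent.S0161
import Cfsg.Agent.Lib.Helper25.IndNormal

set_option autoImplicit false
open scoped ComplexConjugate
open Cfsg

namespace Cfsg.Agent.S0194

open Cfsg.Agent.Lib.Helper25 Cfsg.Agent.Lib.Helper81

theorem extendByZero_conj {G : Type*} [Group G] (H : Subgroup G) (θ : H → ℂ) (z : G) :
    conj (extendByZero H θ z) = extendByZero H (fun h => conj (θ h)) z := by
  by_cases hz : z ∈ H
  · rw [extendByZero_of_mem H _ hz, extendByZero_of_mem H _ hz]
  · rw [extendByZero_of_not_mem H _ hz, extendByZero_of_not_mem H _ hz, map_zero]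

theorem indFun_conj {G : Type*} [Group G] [Fintype G] (H : Subgroup G) (θ : H → ℂ) (g : G) :
    conj (indFun H θ g) = indFun H (fun h => conj (θ h)) g := by
  rw [indFun_apply, indFun_apply, map_mul, map_sum, map_inv₀, Complex.conj_natCast]
  simp only [extendByZero_conj]

theorem conjOn_conj {G : Type*} [Group G] (H : Subgroup G) [H.Normal] (θ : H → ℂ) (x : G) :
    conjOn H (fun h => conj (θ h)) x = fun h => conj (conjOn H θ x h) := rfl

theorem conjOn_pow {G : Type*} [Group G] (H : Subgroup G) [H.Normal] (θ : H → ℂ) (x : G)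
    (h : conjOn H θ x = θ) (n : ℕ) : conjOn H θ (x ^ n) = θ := by
  induction n with
  | zero => rw [pow_zero, conjOn_one]
  | succ n ih => rw [pow_succ, ← conjOn_mul, ih, h]

theorem conj_ne_conjOn {G : Type*} [Group G] [Finite G] (hodd : Odd (Nat.card G)) (H : Subgroup G)
    [H.Normal] (θ : H → ℂ) (hθ : Cfsg.IsIrrCharacter H θ) (hθ1 : θ ≠ fun _ => 1) (x : G) :
    (fun h => conj (θ h)) ≠ conjOn H θ x := by
  intro heq
  -- θ^(x*x) = θ
  have h2 : conjOn H θ (x * x) = θ := by
    rw [← conjOn_mul, ← heq, conjOn_conj, ← heq]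
    funext h
    simp only [Complex.conj_conj]
  have hox : Odd (orderOf x) := Odd.of_dvd_nat hodd (orderOf_dvd_natCard x)
  obtain ⟨j, hj⟩ := hox
  have hx' : x = (x * x) ^ (j + 1) := by
    calc x = x ^ (orderOf x) * x := by rw [pow_orderOf_eq_one, one_mul]
      _ = (x * x) ^ (j + 1) := by
        rw [hj, ← pow_two, ← pow_mul, ← pow_succ]
        rfl
  have h1 : conjOn H θ x = θ := by
    rw [hx']
    exact conjOn_pow H θ (x * x) h2 (j + 1)
  rw [h1] at heq
  -- θ is real
  have hreal : ∀ h : H, (θ h).im = 0 := by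
    intro h
    exact Complex.conj_eq_iff_im.1 (congrFun heq h)
  have hoddH : Odd (Nat.card H) := Odd.of_dvd_nat hodd (Subgroup.card_subgroup_dvd_card H)
  have := Cfsg.Agent.S0161.result hoddH ⟨θ, hθ⟩ hreal
  exact hθ1 this

/-- Let G have odd order, H be a normal subgroup and θ a non-principal irreducible character of H. Then the function induced from θ is orthogonal to its complex conjugate. -/
theorem result {G : Type*} [Group G] [Fintype G] (hodd : Odd (Nat.card G)) (H : Subgroup G) [H.Normal] (θ : H → ℂ) (hθ : Cfsg.IsIrrCharacter H θ) (hθ1 : θ ≠ fun _ => 1) : Cfsg.classInner (fun g => conj (Cfsg.indFun H θ g)) (Cfsg.indFun H θ) = 0 := by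
  classical
  have hfun : (fun g => conj (Cfsg.indFun H θ g)) = indFun H (fun h => conj (θ h)) := by
    funext g
    exact indFun_conj H θ g
  rw [hfun, frobenius_reciprocity H _ _ (indFun_isClassFunction H θ)]
  have hres : (fun h : H => indFun H θ h) =
      ∑ x : G, (Nat.card H : ℂ)⁻¹ • conjOn H θ x := by
    funext h
    rw [indFun_restrict_normal, Finset.sum_apply, Finset.mul_sum]
    rfl
  rw [hres, classInner_sum_right]
  refine Finset.sum_eq_zero fun x _ => ?_
  rw [classInner_smul_right]
  have hirr1 : IsIrrCharacter H (fun h => conj (θ h)) := isIrrCharacter_conj hθ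
  have hirr2 : IsIrrCharacter H (conjOn H θ x) := conjOn_isIrr H hθ x
  rw [Cfsg.Agent.Lib.Helper3.classInner_irr hirr1 hirr2,
    if_neg (conj_ne_conjOn hodd H θ hθ hθ1 x), mul_zero]

end Cfsg.Agent.S0194
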