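import Cfsg.Statements.S0196
import Mathlib

set_option autoImplicit false
open Cfsg

namespace Cfsg.Agent.S0196

theorem index_dvd_card_of_stabilizer_eq {N X : Type*} [Group N] [MulAction N X] [Finite N] [Finite X]
    (S : Subgroup N) (h : ∀ x : X, MulAction.stabilizer N x = S) : S.index ∣ Nat.card X := by
  classical
  have e := MulAction.selfEquivSigmaOrbitsQuotientStabilizer N X
  have e2 : (Σ ω : Quotient (MulAction.orbitRel N X), N ⧸ MulAction.stabilizer N ω.out) ≃
      Quotient (MulAction.orbitRel N X) × (N ⧸ S) :=
    (Equiv.sigmaCongrRight fun ω => Subgroup.quotientEquivOfEq (h _)).trans (Equiv.sigmaEquivProd _ _)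
  rw [Nat.card_congr (e.trans e2), Nat.card_prod]
  exact Dvd.intro_left _ rfl

/-- Let A be a subgroup of a finite group G that equals the centralizer of each of its non-identity elements, and let N be its normalizer. Then the index of A in N divides |A| − 1 (N/A permutes the non-identity elements of A in orbits of full length). -/
theorem result {G : Type*} [Group G] [Finite G] (A : Subgroup G) (hA : ∀ x ∈ A, x ≠ 1 → Subgroup.centralizer ({x} : Set G) = A) : (A.subgroupOf (Subgroup.normalizer (A : Set G))).index ∣ Nat.card A - 1 := by
  classical
  let X := {a : G // a ∈ A ∧ a ≠ 1}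
  letI act : MulAction (Subgroup.normalizer (A : Set G)) X :=
    { smul := fun n a => ⟨n.1 * a.1 * n.1⁻¹, (Subgroup.mem_normalizer_iff.1 n.2 a.1).1 a.2.1, fun h => a.2.2 (by
        have := congrArg (fun z => n.1⁻¹ * z * n.1) h
        simpa [mul_assoc] using this)⟩
      one_smul := by
        intro a
        apply Subtype.ext
        show (1 : G) * a.1 * (1 : G)⁻¹ = a.1
        simp
      mul_smul := by
        intro m n a
        apply Subtype.ext
        show (m.1 * n.1) * a.1 * (m.1 * n.1)⁻¹ = m.1 * (n.1 * a.1 * n.1⁻¹) * m.1⁻¹
        simp [mul_assoc] }
  have hstab : ∀ a : X, MulAction.stabilizer (Subgroup.normalizer (A : Set G)) a =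
      A.subgroupOf (Subgroup.normalizer (A : Set G)) := by
    intro a
    ext n
    rw [MulAction.mem_stabilizer_iff, Subgroup.mem_subgroupOf]
    have e1 : (n • a = a) ↔ n.1 * a.1 * n.1⁻¹ = a.1 := by
      constructor
      · intro h; exact congrArg Subtype.val h
      · intro h; exact Subtype.ext h
    rw [e1]
    have e2 : (n : G) ∈ A ↔ (n : G) ∈ Subgroup.centralizer ({a.1} : Set G) := by
      rw [hA a.1 a.2.1 a.2.2]
    rw [e2, Subgroup.mem_centralizer_singleton_iff]
    constructor
    · intro h
      have := congrArg (· * n.1) h
      simpa [mul_assoc] using this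
    · intro h
      rw [h, mul_assoc, mul_inv_cancel, mul_one]
  have hdvd := index_dvd_card_of_stabilizer_eq _ hstab
  have hcard : Nat.card X = Nat.card A - 1 := by
    have e : A ≃ Option X :=
      { toFun := fun a => if h : (a : G) = 1 then none else some ⟨a.1, a.2, h⟩
        invFun := fun o => match o with
          | none => 1
          | some x => ⟨x.1, x.2.1⟩
        left_inv := by
          intro a
          by_cases h : (a : G) = 1
          · simp only [h, dite_true]
            exact Subtype.ext h.symm
          · simp only [h, dite_false]
        right_inv := by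
          intro o
          cases o with
          | none => simp
          | some x =>
            have : (x.1 : G) ≠ 1 := x.2.2
            simp [this] }
    rw [Nat.card_congr e, Finite.card_option]
    simp
  rw [← hcard]
  exact hdvd

end Cfsg.Agent.S0196
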