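import Cfsg.Statements.S0203
import Cfsg.Agent.Lib.Helper55.KleinFourSylow

set_option autoImplicit false
set_option linter.style.haveILetI false
open Cfsg

namespace Cfsg.Agent.S0203

open Cfsg.Agent.Lib.Helper55

/-- If a Sylow 2-subgroup P of a finite group G is a Klein four-group, then G has three classes of involutions if and only if P has a normal complement in G. -/
theorem result {G : Type*} [Group G] [Finite G] (P : Sylow 2 G) (hP : IsKleinFour (P : Subgroup G)) : Nat.card {C : ConjClasses G // ∃ t : G, orderOf t = 2 ∧ ConjClasses.mk t = C} = 3 ↔ ∃ N : Subgroup G, N.Normal ∧ Subgroup.IsComplement' N (P : Subgroup G) := by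
  haveI : Fact (Nat.Prime 2) := ⟨Nat.prime_two⟩
  haveI : IsMulCommutative ↥(P : Subgroup G) := IsKleinFour.isMulCommutative
  obtain ⟨a, b, ha, hb, ha1, hb1, hab⟩ := klein_exists P hP
  have habP : a * b ∈ (P : Subgroup G) := mul_mem ha hb
  have haa := klein_sq P hP a ha
  have hbb := klein_sq P hP b hb
  have hab1 : a ≠ a * b := by
    intro h
    apply hb1
    calc b = a⁻¹ * (a * b) := by group
      _ = 1 := by rw [← h]; group
  have hab2 : b ≠ a * b := by
    intro h
    apply ha1
    calc a = (a * b) * b⁻¹ := by group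
      _ = 1 := by rw [← h]; group
  constructor
  · intro h3
    have hnc : ¬ (IsConj a b ∨ IsConj a (a * b) ∨ IsConj b (a * b)) := by
      intro h
      have h1 := klein_card_one P hP a b ha hb ha1 hb1 hab h
      have : Nat.card (InvClasses G) = 3 := h3
      omega
    push Not at hnc
    obtain ⟨h1, h2, h3'⟩ := hnc
    -- distinct elements of P are not conjugate
    have key : ∀ u v : G, u ∈ (P : Subgroup G) → v ∈ (P : Subgroup G) → IsConj u v → u = v := by
      intro u v hu hv huv
      by_contra hne
      have hu1 : u ≠ 1 := by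
        rintro rfl
        exact hne (isConj_one_right.mp huv).symm
      have hv1 : v ≠ 1 := by
        rintro rfl
        exact hne (isConj_one_left.mp huv)
      rcases klein_cases P hP a b ha hb ha1 hb1 hab u hu with hu' | hu' | hu' | hu' <;>
      rcases klein_cases P hP a b ha hb ha1 hb1 hab v hv with hv' | hv' | hv' | hv' <;>
      rw [hu', hv'] at huv hne
      all_goals first
        | exact absurd rfl hne
        | exact absurd hu' hu1
        | exact absurd hv' hv1
        | exact h1 huv
        | exact h1 huv.symm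
        | exact h2 huv
        | exact h2 huv.symm
        | exact h3' huv
        | exact h3' huv.symm
    have hNC : Subgroup.normalizer ((P : Subgroup G) : Set G) ≤
        Subgroup.centralizer ((P : Subgroup G) : Set G) := by
      intro n hn
      rw [Subgroup.mem_centralizer_iff]
      intro u hu
      have hmem : n * u * n⁻¹ ∈ (P : Subgroup G) := (Subgroup.mem_normalizer_iff.mp hn u).mp hu
      have := key u (n * u * n⁻¹) hu hmem (isConj_iff.mpr ⟨n, rfl⟩)
      calc u * n = (n * u * n⁻¹) * n := by rw [← this]
        _ = n * u := by group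
    exact ⟨_, inferInstance, MonoidHom.ker_transferSylow_isComplement' P hNC⟩
  · rintro ⟨N, hN, hc⟩
    haveI := hN
    apply klein_card_three P hP a b ha hb ha1 hb1 hab
    -- the quotient by N is commutative
    have hrep : ∀ x : G, ∃ u ∈ (P : Subgroup G), (QuotientGroup.mk x : G ⧸ N) = QuotientGroup.mk u := by
      intro x
      obtain ⟨⟨⟨n, hn⟩, ⟨u, hu⟩⟩, hx, _⟩ := (Subgroup.isComplement'_def.mp hc).existsUnique x
      refine ⟨u, hu, ?_⟩
      simp only at hx
      rw [← hx, QuotientGroup.mk_mul, (QuotientGroup.eq_one_iff n).mpr hn, one_mul]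
    have hcomm : ∀ x y : G ⧸ N, x * y = y * x := by
      intro x y
      obtain ⟨x, rfl⟩ := QuotientGroup.mk_surjective x
      obtain ⟨y, rfl⟩ := QuotientGroup.mk_surjective y
      obtain ⟨u, hu, hxu⟩ := hrep x
      obtain ⟨v, hv, hyv⟩ := hrep y
      rw [hxu, hyv, ← QuotientGroup.mk_mul, ← QuotientGroup.mk_mul, setLike_mul_comm hu hv]
    have key : ∀ u v : G, u ∈ (P : Subgroup G) → v ∈ (P : Subgroup G) → IsConj u v → u = v := by
      intro u v hu hv huv
      obtain ⟨g, hg⟩ := isConj_iff.mp huv
      have h1 : (QuotientGroup.mk u : G ⧸ N) = QuotientGroup.mk v := by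
        rw [← hg, QuotientGroup.mk_mul, QuotientGroup.mk_mul, hcomm, ← mul_assoc,
          ← QuotientGroup.mk_mul, inv_mul_cancel, QuotientGroup.mk_one, one_mul]
      have h2 : u⁻¹ * v ∈ N := QuotientGroup.eq.mp h1
      have h3 : u⁻¹ * v ∈ (P : Subgroup G) := mul_mem (inv_mem hu) hv
      have h4 : u⁻¹ * v ∈ N ⊓ (P : Subgroup G) := ⟨h2, h3⟩
      rw [hc.disjoint.eq_bot, Subgroup.mem_bot] at h4
      exact (inv_mul_eq_one.mp h4)
    rintro (h | h | h)
    · exact hab (key a b ha hb h)
    · exact hab1 (key a (a * b) ha habP h)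
    · exact hab2 (key b (a * b) hb habP h)

end Cfsg.Agent.S0203
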