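import Cfsg.Statements.S0210
import Cfsg.Agent.Lib.Helper4.Dihedral

set_option autoImplicit false
open Cfsg

namespace Cfsg.Agent.S0210

open Cfsg.Agent.Lib.Helper4

/-- If x, y are involutions whose product has even order, no element of the subgroup generated by x and y conjugates x to y. -/
theorem result {G : Type*} [Group G] [Finite G] (x y : G) (hx : orderOf x = 2) (hy : orderOf y = 2) (heven : Even (orderOf (x * y))) (d : G) (hd : d ∈ Subgroup.closure ({x, y} : Set G)) : d * x * d⁻¹ ≠ y := by
  have hx' := mul_self_of_orderOf_two hx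
  have hy' := mul_self_of_orderOf_two hy
  intro h
  obtain ⟨j, hj⟩ := conj_x_of_mem_closure hx' hy' hd
  rw [h] at hj
  -- (x*y)^(2j) = y * x = (x*y)⁻¹
  have h1 : (x * y) ^ (2 * j) = (x * y)⁻¹ := by
    have : (x * y) ^ (2 * j) = y * x := by
      have h0 := congrArg (· * x) hj
      simp only [mul_assoc, hx', mul_one] at h0
      exact h0.symm
    rw [this, mul_inv_rev, inv_eq_self_of_mul_self hx', inv_eq_self_of_mul_self hy']
  have h2 : (x * y) ^ (2 * j + 1) = 1 := by
    rw [zpow_add_one, h1, inv_mul_cancel]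
  have h3 := orderOf_dvd_iff_zpow_eq_one.2 h2
  obtain ⟨k, hk⟩ := heven
  rw [hk] at h3
  have : (2 : ℤ) ∣ 2 * j + 1 := by
    refine dvd_trans ⟨k, ?_⟩ h3
    push_cast; ring
  omega

end Cfsg.Agent.S0210
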