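import Cfsg.Statements.S0211
import Cfsg.Agent.Lib.Helper4.Dihedral

set_option autoImplicit false
open Cfsg

namespace Cfsg.Agent.S0211

open Cfsg.Agent.Lib.Helper4

/-- Let x, y be involutions with xy of even order n and z = (xy)^(n/2). Then xz is conjugate to x by an element of the subgroup generated by x, y if and only if 4 divides n. -/
theorem result {G : Type*} [Group G] [Finite G] (x y : G) (hx : orderOf x = 2) (hy : orderOf y = 2) (heven : Even (orderOf (x * y))) : (∃ d ∈ Subgroup.closure ({x, y} : Set G), d * x * d⁻¹ = x * (x * y) ^ (orderOf (x * y) / 2)) ↔ 4 ∣ orderOf (x * y) := by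
  have hx' := mul_self_of_orderOf_two hx
  have hy' := mul_self_of_orderOf_two hy
  obtain ⟨k, hk⟩ := heven
  have hk2 : orderOf (x * y) / 2 = k := by omega
  rw [hk2]
  have hxz : x * (x * y) ^ k = (x * y) ^ (-(k : ℤ)) * x := by
    rw [← zpow_natCast, x_mul_a_zpow hx' hy']
  constructor
  · rintro ⟨d, hd, h⟩
    obtain ⟨j, hj⟩ := conj_x_of_mem_closure hx' hy' hd
    rw [h, hxz] at hj
    have h1 : (x * y) ^ (-(k : ℤ)) = (x * y) ^ (2 * j) := mul_right_cancel hj
    have h2 : (x * y) ^ (2 * j + k) = 1 := by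
      rw [zpow_add, ← h1, ← zpow_add, neg_add_cancel, zpow_zero]
    have h3 := orderOf_dvd_iff_zpow_eq_one.2 h2
    rw [hk] at h3
    have : (2 : ℤ) ∣ 2 * j + k := by
      refine dvd_trans ⟨k, ?_⟩ h3
      push_cast; ring
    have h4 : (2 : ℤ) ∣ k := by omega
    have h5 : 2 ∣ k := by exact_mod_cast h4
    omega
  · intro h4
    obtain ⟨m, hm⟩ := h4
    have hkm : k = 2 * m := by omega
    refine ⟨(x * y) ^ (m : ℤ), ?_, ?_⟩
    · rw [mem_closure_pair_iff hx' hy']
      exact Or.inl ⟨m, rfl⟩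
    · rw [conj_x_by_zpow hx' hy', hxz]
      congr 1
      have h1 : (x * y) ^ ((4 : ℤ) * m) = 1 := by
        have : ((4 : ℤ) * m) = ((orderOf (x * y) : ℕ) : ℤ) := by rw [hm]; push_cast; ring
        rw [this, zpow_natCast, pow_orderOf_eq_one]
      have h2 : ((2 : ℤ) * m) = -(k : ℤ) + 4 * m := by rw [hkm]; push_cast; ring
      rw [h2, zpow_add, h1, mul_one]

end Cfsg.Agent.S0211
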