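import Mathlib
import Cfsg.Statements.S0213

set_option autoImplicit false
open Cfsg

namespace Cfsg.Agent.S0213

open Finset

section aux

variable {G : Type*} [Group G]

lemma card_class_mul_card_centralizer [Finite G] (x : G) :
    Nat.card {h : G // IsConj x h} * Nat.card (Subgroup.centralizer ({x} : Set G)) = Nat.card G := by
  rw [Subgroup.nat_card_centralizer_nat_card_stabilizer, mul_comm]
  have h1 := Subgroup.card_mul_index (MulAction.stabilizer (ConjAct G) x)
  rw [MulAction.index_stabilizer] at h1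
  have h2 : (MulAction.orbit (ConjAct G) x).ncard = Nat.card {h : G // IsConj x h} := by
    rw [← Nat.card_coe_set_eq]
    apply Nat.card_congr
    apply Equiv.subtypeEquivRight
    intro h
    rw [ConjAct.mem_orbit_conjAct, isConj_comm]
  rw [h2] at h1
  rw [h1]
  exact Nat.card_congr ConjAct.ofConjAct.toEquiv

lemma orderOf_conj' (g x : G) : orderOf (g * x * g⁻¹) = orderOf x :=
  (MulAut.conj g).orderOf_eq x

/-- conjugation preserves membership in cyclic subgroups -/
lemma conj_mem_zpowers {a b : G} (g : G) (h : a ∈ Subgroup.zpowers b) :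
    g * a * g⁻¹ ∈ Subgroup.zpowers (g * b * g⁻¹) := by
  obtain ⟨k, rfl⟩ := h
  exact ⟨k, by simp only [conj_zpow]⟩

/-- the unique involution in a cyclic group generated by an element of even order -/
lemma involution_in_zpowers [Finite G] (w z : G) (hz : orderOf z = 2) (hzw : z ∈ Subgroup.zpowers w) :
    z = w ^ (orderOf w / 2) ∧ 2 ∣ orderOf w := by
  have hwpos : 0 < orderOf w := orderOf_pos w
  rw [← mem_powers_iff_mem_zpowers] at hzw
  obtain ⟨i, hi⟩ := hzw
  have hi' : w ^ i = z := hi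
  subst hi'
  have h1 : (w ^ i) ^ 2 = 1 := by rw [← hz]; exact pow_orderOf_eq_one _
  have hne : w ^ i ≠ 1 := by
    intro h
    rw [h, orderOf_one] at hz
    norm_num at hz
  rw [← pow_mul] at h1
  have h2 : orderOf w ∣ i * 2 := orderOf_dvd_of_pow_eq_one h1
  have hnd : ¬ orderOf w ∣ i := fun h => hne (orderOf_dvd_iff_pow_eq_one.mp h)
  -- orderOf w is even
  have heven : 2 ∣ orderOf w := by
    by_contra hodd
    have hcop : Nat.Coprime (orderOf w) 2 := by
      rw [Nat.coprime_comm, Nat.Prime.coprime_iff_not_dvd Nat.prime_two]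
      exact hodd
    exact hnd (hcop.dvd_of_dvd_mul_right h2)
  refine ⟨?_, heven⟩
  obtain ⟨k, hk⟩ := heven
  have hk0 : 0 < k := by omega
  have hki : k ∣ i := by
    rw [hk, mul_comm i 2] at h2
    exact (Nat.mul_dvd_mul_iff_left (by norm_num : 0 < 2)).mp h2
  obtain ⟨j, rfl⟩ := hki
  have hdiv : orderOf w / 2 = k := by rw [hk]; simp
  rw [hdiv]
  have hy2 : (w ^ k) ^ 2 = 1 := by
    rw [← pow_mul, mul_comm, ← hk]; exact pow_orderOf_eq_one w
  rcases Nat.even_or_odd' j with ⟨c, hc | hc⟩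
  · exfalso
    apply hne
    rw [hc, pow_mul, pow_mul, hy2, one_pow]
  · rw [hc, pow_mul, pow_succ, pow_mul, hy2, one_pow, one_mul]

end aux

theorem result {G : Type*} [Group G] [Finite G] (x₁ x₂ : G) (h₁ : orderOf x₁ = 2) (h₂ : orderOf x₂ = 2) (hnc : ¬ IsConj x₁ x₂) (hall : ∀ t : G, orderOf t = 2 → IsConj x₁ t ∨ IsConj x₂ t) : Nat.card G = Nat.card (Subgroup.centralizer ({x₂} : Set G)) * Nat.card {p : G × G // IsConj x₁ p.1 ∧ IsConj x₂ p.2 ∧ x₁ ∈ Subgroup.zpowers (p.1 * p.2)} + Nat.card (Subgroup.centralizer ({x₁} : Set G)) * Nat.card {p : G × G // IsConj x₁ p.1 ∧ IsConj x₂ p.2 ∧ x₂ ∈ Subgroup.zpowers (p.1 * p.2)} := by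
  classical
  have := Fintype.ofFinite G
  set K₁ : Finset G := univ.filter (fun u => IsConj x₁ u) with hK₁
  set K₂ : Finset G := univ.filter (fun u => IsConj x₂ u) with hK₂
  set P : Finset (G × G) := K₁ ×ˢ K₂ with hP
  let N : G → Finset (G × G) := fun z => P.filter (fun p => z ∈ Subgroup.zpowers (p.1 * p.2))
  have hmemK₁ : ∀ u, u ∈ K₁ ↔ IsConj x₁ u := fun u => by simp [hK₁]
  have hmemK₂ : ∀ u, u ∈ K₂ ↔ IsConj x₂ u := fun u => by simp [hK₂]
  have hord₁ : ∀ u ∈ K₁, orderOf u = 2 := by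
    intro u hu
    obtain ⟨g, hg⟩ := isConj_iff.mp ((hmemK₁ u).mp hu)
    rw [← hg, orderOf_conj', h₁]
  have hord₂ : ∀ u ∈ K₂, orderOf u = 2 := by
    intro u hu
    obtain ⟨g, hg⟩ := isConj_iff.mp ((hmemK₂ u).mp hu)
    rw [← hg, orderOf_conj', h₂]
  have hdisj : Disjoint K₁ K₂ := by
    rw [Finset.disjoint_left]
    intro u hu1 hu2
    exact hnc (((hmemK₁ u).mp hu1).trans ((hmemK₂ u).mp hu2).symm)
  have hunion : ∀ z, z ∈ K₁ ∪ K₂ ↔ orderOf z = 2 := by
    intro z
    rw [Finset.mem_union]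
    constructor
    · rintro (h | h)
      · exact hord₁ z h
      · exact hord₂ z h
    · intro h
      rcases hall z h with h' | h'
      · exact Or.inl ((hmemK₁ z).mpr h')
      · exact Or.inr ((hmemK₂ z).mpr h')
  -- Step A
  have hA : ∀ p ∈ P, (K₁.filter (fun z => z ∈ Subgroup.zpowers (p.1 * p.2))).card +
      (K₂.filter (fun z => z ∈ Subgroup.zpowers (p.1 * p.2))).card = 1 := by
    rintro ⟨u, v⟩ hp
    rw [hP, Finset.mem_product] at hp
    obtain ⟨hu, hv⟩ := hp
    simp only at hu hv ⊢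
    set w := u * v with hw
    rw [← Finset.card_union_of_disjoint (Finset.disjoint_filter_filter hdisj), ← Finset.filter_union]
    rw [Finset.card_eq_one]
    have hu2 : u * u = 1 := by
      have := pow_orderOf_eq_one u
      rw [hord₁ u hu, sq] at this; exact this
    have hv2 : v * v = 1 := by
      have := pow_orderOf_eq_one v
      rw [hord₂ v hv, sq] at this; exact this
    have huinv : u⁻¹ = u := inv_eq_of_mul_eq_one_left hu2
    have hvinv : v⁻¹ = v := inv_eq_of_mul_eq_one_left hv2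
    -- orderOf w is even
    have heven : 2 ∣ orderOf w := by
      by_contra hodd
      apply hnc
      have hcop : Nat.Coprime 2 (orderOf w) := (Nat.Prime.coprime_iff_not_dvd Nat.prime_two).mpr hodd
      -- c with c ^ 2 = w
      have hoddw : Odd (orderOf w) := Nat.odd_iff.mpr (by omega)
      obtain ⟨m, hm⟩ := hoddw
      set c := w ^ (m + 1) with hc
      have hc2 : c * c = w := by
        rw [hc, ← pow_add]
        have : m + 1 + (m + 1) = orderOf w + 1 := by omega
        rw [this, pow_succ, pow_orderOf_eq_one, one_mul]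
      have hinv : u * w * u = w⁻¹ := by
        rw [hw, mul_inv_rev, huinv, hvinv, ← mul_assoc, hu2, one_mul]
      have hinvc : u * c * u = c⁻¹ := by
        have h3 : u * c * u⁻¹ = (u * w * u⁻¹) ^ (m + 1) := by rw [hc, conj_pow]
        rw [huinv, hinv, inv_pow] at h3
        rw [h3]
      have hconj : c⁻¹ * u * c⁻¹⁻¹ = v := by
        rw [inv_inv]
        have h4 : u * c = c⁻¹ * u := by
          have := congrArg (fun t => t * u) hinvc
          simp only [mul_assoc, hu2, mul_one] at this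
          exact this
        rw [mul_assoc, h4, ← mul_assoc, ← mul_inv_rev, hc2, hw, mul_inv_rev, huinv, hvinv,
          mul_assoc, hu2, mul_one]
      have h5 : IsConj u v := isConj_iff.mpr ⟨c⁻¹, hconj⟩
      exact ((hmemK₁ u).mp hu).trans (h5.trans ((hmemK₂ v).mp hv).symm)
    refine ⟨w ^ (orderOf w / 2), ?_⟩
    ext z
    rw [Finset.mem_filter, hunion, Finset.mem_singleton]
    constructor
    · rintro ⟨hz2, hzw⟩
      exact (involution_in_zpowers w z hz2 hzw).1
    · rintro rfl
      obtain ⟨k, hk⟩ := heven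
      have hk0 : 0 < k := by
        have := orderOf_pos w; omega
      have hdiv : orderOf w / 2 = k := by rw [hk]; simp
      rw [hdiv]
      refine ⟨?_, ⟨(k : ℤ), by simp⟩⟩
      apply orderOf_eq_prime
      · rw [← pow_mul, mul_comm, ← hk]; exact pow_orderOf_eq_one w
      · exact pow_ne_one_of_lt_orderOf hk0.ne' (by omega)
  -- Step B
  have hB : P.card = ∑ z ∈ K₁, (N z).card + ∑ z ∈ K₂, (N z).card := by
    have h1 : P.card = ∑ p ∈ P, ((K₁.filter (fun z => z ∈ Subgroup.zpowers (p.1 * p.2))).card +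
        (K₂.filter (fun z => z ∈ Subgroup.zpowers (p.1 * p.2))).card) := by
      rw [Finset.sum_congr rfl hA]; simp
    rw [h1, Finset.sum_add_distrib]
    simp only [N, Finset.card_filter]
    rw [Finset.sum_comm, Finset.sum_comm (s := P) (t := K₂)]
  -- Step C
  have hC : ∀ (x z : G), IsConj x z → (N z).card = (N x).card := by
    intro x z hxz
    obtain ⟨g, hg⟩ := isConj_iff.mp hxz
    symm
    refine Finset.card_bij' (fun p _ => (g * p.1 * g⁻¹, g * p.2 * g⁻¹))
      (fun p _ => (g⁻¹ * p.1 * g⁻¹⁻¹, g⁻¹ * p.2 * g⁻¹⁻¹)) ?_ ?_ ?_ ?_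
    · rintro ⟨u, v⟩ hp
      simp only [N, Finset.mem_filter, hP, Finset.mem_product, hmemK₁, hmemK₂] at hp ⊢
      refine ⟨⟨hp.1.1.trans (isConj_iff.mpr ⟨g, rfl⟩), hp.1.2.trans (isConj_iff.mpr ⟨g, rfl⟩)⟩, ?_⟩
      have := conj_mem_zpowers g hp.2
      rw [hg] at this
      convert this using 2
      group
    · rintro ⟨u, v⟩ hp
      simp only [N, Finset.mem_filter, hP, Finset.mem_product, hmemK₁, hmemK₂] at hp ⊢
      refine ⟨⟨hp.1.1.trans (isConj_iff.mpr ⟨g⁻¹, rfl⟩), hp.1.2.trans (isConj_iff.mpr ⟨g⁻¹, rfl⟩)⟩, ?_⟩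
      have := conj_mem_zpowers g⁻¹ hp.2
      rw [← hg] at this
      convert this using 2
      · group
      · group
    · rintro ⟨u, v⟩ _
      simp only [Prod.mk.injEq]
      constructor <;> group
    · rintro ⟨u, v⟩ _
      simp only [Prod.mk.injEq]
      constructor <;> group
  -- Step D
  have hD₁ : K₁.card * Nat.card (Subgroup.centralizer ({x₁} : Set G)) = Nat.card G := by
    rw [← card_class_mul_card_centralizer x₁, Nat.card_eq_fintype_card (α := {h : G // IsConj x₁ h}),
      Fintype.card_subtype]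
  have hD₂ : K₂.card * Nat.card (Subgroup.centralizer ({x₂} : Set G)) = Nat.card G := by
    rw [← card_class_mul_card_centralizer x₂, Nat.card_eq_fintype_card (α := {h : G // IsConj x₂ h}),
      Fintype.card_subtype]
  -- Step E
  have hE : ∀ x : G, Nat.card {p : G × G // IsConj x₁ p.1 ∧ IsConj x₂ p.2 ∧ x ∈ Subgroup.zpowers (p.1 * p.2)} =
      (N x).card := by
    intro x
    rw [Nat.card_eq_fintype_card, Fintype.card_subtype]
    congr 1
    ext p
    simp only [N, Finset.mem_filter, Finset.mem_univ, true_and, hP, Finset.mem_product, hmemK₁, hmemK₂,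
      and_assoc]
  rw [hE, hE]
  -- final arithmetic
  have hsum₁ : ∑ z ∈ K₁, (N z).card = K₁.card * (N x₁).card := by
    rw [Finset.sum_congr rfl (fun z hz => hC x₁ z ((hmemK₁ z).mp hz)), Finset.sum_const, smul_eq_mul]
  have hsum₂ : ∑ z ∈ K₂, (N z).card = K₂.card * (N x₂).card := by
    rw [Finset.sum_congr rfl (fun z hz => hC x₂ z ((hmemK₂ z).mp hz)), Finset.sum_const, smul_eq_mul]
  rw [hsum₁, hsum₂, hP, Finset.card_product] at hB
  set c₁ := Nat.card (Subgroup.centralizer ({x₁} : Set G))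
  set c₂ := Nat.card (Subgroup.centralizer ({x₂} : Set G))
  set g := Nat.card G
  have hgpos : 0 < g := Nat.card_pos
  have hmain : g * g = g * (c₂ * (N x₁).card + c₁ * (N x₂).card) := by
    calc g * g = (K₁.card * c₁) * (K₂.card * c₂) := by rw [hD₁, hD₂]
      _ = (K₁.card * K₂.card) * (c₁ * c₂) := by ring
      _ = (K₁.card * (N x₁).card + K₂.card * (N x₂).card) * (c₁ * c₂) := by rw [hB]
      _ = (K₁.card * c₁) * (c₂ * (N x₁).card) + (K₂.card * c₂) * (c₁ * (N x₂).card) := by ring
      _ = g * (c₂ * (N x₁).card + c₁ * (N x₂).card) := by rw [hD₁, hD₂]; ring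
  exact Nat.eq_of_mul_eq_mul_left hgpos hmain

end Cfsg.Agent.S0213
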