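import Mathlib
import Cfsg.Statements.S0233

set_option autoImplicit false
open Cfsg

namespace Cfsg.Agent.S0233

open Finset

section aux

variable {G : Type*} [Group G]

lemma conj_mul' (x y g : G) : (x * y) * g * (x * y)⁻¹ = x * (y * g * y⁻¹) * x⁻¹ := by group

lemma conj_inv' (x g : G) : x * g⁻¹ * x⁻¹ = (x * g * x⁻¹)⁻¹ := by group

/-- The extended centralizer: elements centralizing or inverting `g`. -/
def extC (g : G) : Subgroup G where
  carrier := {x | x * g * x⁻¹ = g ∨ x * g * x⁻¹ = g⁻¹}
  one_mem' := Or.inl (by simp)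
  mul_mem' := by
    rintro x y hx hy
    simp only [Set.mem_ofPred_eq] at hx hy ⊢
    rw [conj_mul']
    rcases hy with hy | hy
    · rw [hy]; exact hx
    · rw [hy, conj_inv']
      rcases hx with hx | hx
      · rw [hx]; exact Or.inr rfl
      · rw [hx, inv_inv]; exact Or.inl rfl
  inv_mem' := by
    rintro x hx
    simp only [Set.mem_ofPred_eq] at hx ⊢
    rcases hx with hx | hx
    · left
      have : x⁻¹ * (x * g * x⁻¹) * x⁻¹⁻¹ = x⁻¹ * g * x⁻¹⁻¹ := by rw [hx]
      rw [← this]; group
    · right
      have h3 : g = x * g⁻¹ * x⁻¹ := by rw [conj_inv', hx, inv_inv]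
      have h4 : x⁻¹ * g * x⁻¹⁻¹ = x⁻¹ * (x * g⁻¹ * x⁻¹) * x⁻¹⁻¹ := by rw [← h3]
      rw [h4]; group

lemma mem_extC (g x : G) : x ∈ extC g ↔ x * g * x⁻¹ = g ∨ x * g * x⁻¹ = g⁻¹ := Iff.rfl

end aux

theorem result {G : Type*} [Group G] [Finite G] (heven : Even (Nat.card G)) (hZ : Odd (Nat.card (Subgroup.center G))) : ∃ H : Subgroup G, H ≠ ⊤ ∧ (H.index = 2 ∨ 2 * H.index * (Nat.card {t : G // orderOf t = 2}) ^ 2 < Nat.card G * (Nat.card G + Nat.card {t : G // orderOf t = 2})) := by
  classical
  have := Fintype.ofFinite G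
  have hNcard : Nat.card G = Fintype.card G := Nat.card_eq_fintype_card
  set N := Nat.card G with hN
  set I : Finset G := univ.filter (fun t => orderOf t = 2) with hI
  have hn : Nat.card {t : G // orderOf t = 2} = I.card := by
    rw [Nat.card_eq_fintype_card, Fintype.card_subtype]
  rw [hn]
  set n := I.card with hndef
  have hmemI : ∀ t, t ∈ I ↔ orderOf t = 2 := fun t => by simp [hI]
  have hnontriv : Nontrivial G := by
    rw [← Finite.one_lt_card_iff_nontrivial]
    have hpos : 0 < Nat.card G := Nat.card_pos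
    obtain ⟨k, hk⟩ := heven
    omega
  -- minimal index
  have hex : ∃ k, ∃ H : Subgroup G, H ≠ ⊤ ∧ H.index = k := ⟨_, ⊥, bot_ne_top, rfl⟩
  set m := Nat.find hex with hm
  obtain ⟨H, hH, hHm⟩ := Nat.find_spec hex
  have hmin : ∀ L : Subgroup G, L ≠ ⊤ → m ≤ L.index := fun L hL => Nat.find_min' hex ⟨L, hL, rfl⟩
  refine ⟨H, hH, ?_⟩
  rw [hHm]
  by_cases h2 : m = 2
  · left; exact h2
  right
  have hm2 : 2 ≤ m := by
    have h0 : H.index ≠ 0 := Subgroup.index_ne_zero_of_finite
    have h1 : H.index ≠ 1 := fun h => hH (Subgroup.index_eq_one.mp h)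
    omega
  have hm3 : 3 ≤ m := by omega
  -- card * index
  have hci : ∀ L : Subgroup G, Nat.card L * L.index = N := fun L => L.card_mul_index
  have hcardL : ∀ (L : Subgroup G), Nat.card L = (univ.filter (fun x => x ∈ L)).card := by
    intro L
    rw [Nat.card_eq_fintype_card, Fintype.card_subtype]
  -- beta
  let β : G → ℕ := fun g => ((I ×ˢ I).filter (fun p => p.1 * p.2 = g)).card
  have hsum : n ^ 2 = ∑ g, β g := by
    have := Finset.card_eq_sum_card_fiberwise (f := fun p : G × G => p.1 * p.2) (s := I ×ˢ I)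
      (t := univ) (fun _ _ => mem_univ _)
    rw [Finset.card_product] at this
    rw [sq]; exact this
  -- facts on a pair in a fiber
  have hsq : ∀ u ∈ I, u * u = 1 := by
    intro u hu
    have := pow_orderOf_eq_one u
    rw [(hmemI u).mp hu, sq] at this; exact this
  have hinvI : ∀ u ∈ I, u⁻¹ = u := fun u hu => inv_eq_of_mul_eq_one_left (hsq u hu)
  have hne1 : ∀ u ∈ I, u ≠ 1 := by
    rintro u hu rfl
    rw [hmemI, orderOf_one] at hu; norm_num at hu
  have hfib : ∀ g : G, ∀ p ∈ (I ×ˢ I).filter (fun p => p.1 * p.2 = g),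
      p.1 ∈ I ∧ p.2 ∈ I ∧ p.1 * g * p.1⁻¹ = g⁻¹ ∧ p.2 = p.1⁻¹ * g := by
    rintro g ⟨u, v⟩ hp
    rw [Finset.mem_filter, Finset.mem_product] at hp
    obtain ⟨⟨hu, hv⟩, rfl⟩ := hp
    simp only at hu hv ⊢
    refine ⟨hu, hv, ?_, by group⟩
    rw [mul_inv_rev, hinvI u hu, hinvI v hv, ← mul_assoc, hsq u hu, one_mul]
  have hinj : ∀ g : G, Set.InjOn (fun p : G × G => p.1) ((I ×ˢ I).filter (fun p => p.1 * p.2 = g) : Set (G × G)) := by
    intro g p hp q hq hpq
    have h1 := (hfib g p (by simpa using hp)).2.2.2
    have h2 := (hfib g q (by simpa using hq)).2.2.2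
    simp only at hpq
    ext
    · exact hpq
    · rw [h1, h2, hpq]
  -- bound at 1
  have hβ1 : β 1 ≤ n := by
    apply Finset.card_le_card_of_injOn (fun p => p.1) _ (hinj 1)
    intro p hp
    exact (hfib 1 p hp).1
  -- bound at involutions
  have hβI : ∀ g ∈ I, m * (β g + 2) ≤ N := by
    intro g hg
    have hginv : g⁻¹ = g := hinvI g hg
    have hne : extC g ≠ ⊤ := by
      intro htop
      have hcen : g ∈ Subgroup.center G := by
        rw [Subgroup.mem_center_iff]
        intro x
        have hx : x ∈ extC g := by rw [htop]; trivial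
        rw [mem_extC, hginv, or_self] at hx
        calc x * g = (x * g * x⁻¹) * x := by group
          _ = g * x := by rw [hx]
      have hdvd : orderOf (⟨g, hcen⟩ : Subgroup.center G) ∣ Nat.card (Subgroup.center G) :=
        orderOf_dvd_natCard _
      have : orderOf (⟨g, hcen⟩ : Subgroup.center G) = 2 := by
        rw [← (hmemI g).mp hg]
        exact (Subgroup.orderOf_mk g hcen)
      rw [this] at hdvd
      exact (Nat.not_even_iff_odd.mpr hZ) (even_iff_two_dvd.mpr hdvd)
    have hidx := hmin _ hne
    have hcard : β g + 2 ≤ Nat.card (extC g) := by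
      rw [hcardL]
      have hsub : (((I ×ˢ I).filter (fun p => p.1 * p.2 = g)).image (fun p => p.1)) ⊆
          ((univ.filter (fun x => x ∈ extC g)).erase 1).erase g := by
        intro u hu
        rw [Finset.mem_image] at hu
        obtain ⟨p, hp, rfl⟩ := hu
        obtain ⟨h1, h2, h3, h4⟩ := hfib g p hp
        rw [Finset.mem_erase, Finset.mem_erase, Finset.mem_filter]
        refine ⟨?_, hne1 _ h1, mem_univ _, Or.inr h3⟩
        intro h5
        rw [h5, inv_mul_cancel] at h4
        exact hne1 _ h2 h4
      have h6 := Finset.card_le_card hsub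
      rw [Finset.card_image_of_injOn (hinj g)] at h6
      have h7 : g ∈ (univ.filter (fun x => x ∈ extC g)).erase 1 := by
        rw [Finset.mem_erase, Finset.mem_filter]
        exact ⟨hne1 g hg, mem_univ _, Or.inl (by group)⟩
      have h8 : (1 : G) ∈ univ.filter (fun x => x ∈ extC g) := by
        rw [Finset.mem_filter]; exact ⟨mem_univ _, one_mem _⟩
      rw [Finset.card_erase_of_mem h7, Finset.card_erase_of_mem h8] at h6
      have h9 : 2 ≤ (univ.filter (fun x => x ∈ extC g)).card := by
        have : ({1, g} : Finset G) ⊆ univ.filter (fun x => x ∈ extC g) := by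
          intro x hx
          rw [Finset.mem_insert, Finset.mem_singleton] at hx
          rcases hx with rfl | rfl
          · exact h8
          · exact Finset.mem_of_mem_erase h7
        have h10 := Finset.card_le_card this
        rw [Finset.card_pair (hne1 g hg).symm] at h10
        exact h10
      show ((I ×ˢ I).filter (fun p => p.1 * p.2 = g)).card + 2 ≤ _
      omega
    calc m * (β g + 2) ≤ (extC g).index * Nat.card (extC g) := Nat.mul_le_mul hidx hcard
      _ = N := by rw [mul_comm]; exact hci _
  -- bound at other elements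
  have hβO : ∀ g : G, g ≠ 1 → g ∉ I → 2 * m * β g ≤ N := by
    intro g hg1 hgI
    by_cases hβ0 : β g = 0
    · rw [hβ0]; simp
    have hgg : g ≠ g⁻¹ := by
      intro h
      apply hgI
      rw [hmemI]
      apply orderOf_eq_prime
      · rw [sq]
        nth_rewrite 1 [h]
        exact inv_mul_cancel g
      · exact hg1
    obtain ⟨p, hp⟩ : ((I ×ˢ I).filter (fun p => p.1 * p.2 = g)).Nonempty :=
      Finset.card_pos.mp (Nat.pos_of_ne_zero hβ0)
    obtain ⟨hu, -, huinv, -⟩ := hfib g p hp
    set u := p.1 with hu'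
    -- the centralizing and inverting parts
    set Cf : Finset G := univ.filter (fun x => x * g * x⁻¹ = g) with hCf
    set Vf : Finset G := univ.filter (fun x => x * g * x⁻¹ = g⁻¹) with hVf
    have hdisj : Disjoint Cf Vf := by
      rw [Finset.disjoint_left]
      intro x hx1 hx2
      rw [hCf, Finset.mem_filter] at hx1
      rw [hVf, Finset.mem_filter] at hx2
      exact hgg (hx1.2.symm.trans hx2.2)
    have hCV : Cf.card = Vf.card := by
      refine Finset.card_bij' (fun x _ => u * x) (fun x _ => u⁻¹ * x) ?_ ?_ ?_ ?_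
      · intro x hx
        rw [hCf, Finset.mem_filter] at hx
        rw [hVf, Finset.mem_filter]
        refine ⟨mem_univ _, ?_⟩
        rw [conj_mul', hx.2, huinv]
      · intro x hx
        rw [hVf, Finset.mem_filter] at hx
        rw [hCf, Finset.mem_filter]
        refine ⟨mem_univ _, ?_⟩
        rw [conj_mul', hx.2]
        have : u⁻¹ * (u * g * u⁻¹) * u⁻¹⁻¹ = g := by group
        rw [huinv] at this
        exact this
      · intro x _; group
      · intro x _; group
    have hext : (univ.filter (fun x => x ∈ extC g)) = Cf ∪ Vf := by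
      ext x
      simp only [Finset.mem_filter, mem_univ, true_and, Finset.mem_union, hCf, hVf, mem_extC]
    have hcardext : Nat.card (extC g) = 2 * Vf.card := by
      rw [hcardL, hext, Finset.card_union_of_disjoint hdisj, hCV]; ring
    have hβV : β g ≤ Vf.card := by
      apply Finset.card_le_card_of_injOn (fun p => p.1) _ (hinj g)
      intro q hq
      rw [hVf]
      simp only [Finset.coe_filter, mem_univ, true_and, Set.mem_ofPred_eq]
      exact (hfib g q hq).2.2.1
    have hne : extC g ≠ ⊤ := by
      intro htop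
      -- then the centralizer has index 2
      have hK : Nat.card (Subgroup.centralizer ({g} : Set G)) = Cf.card := by
        rw [hcardL]
        congr 1
        ext x
        simp only [Finset.mem_filter, mem_univ, true_and, hCf, Subgroup.mem_centralizer_singleton_iff]
        rw [mul_inv_eq_iff_eq_mul]
      have h1 : Nat.card (extC g) = N := by rw [htop]; simp [hN]
      have h2 := hci (Subgroup.centralizer ({g} : Set G))
      rw [hK, hCV] at h2
      rw [hcardext] at h1
      have hVpos : 0 < Vf.card := by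
        apply Finset.card_pos.mpr
        exact ⟨u, by rw [hVf, Finset.mem_filter]; exact ⟨mem_univ _, huinv⟩⟩
      have hidx2 : (Subgroup.centralizer ({g} : Set G)).index = 2 := by
        have : Vf.card * (Subgroup.centralizer ({g} : Set G)).index = Vf.card * 2 := by
          rw [h2, ← h1]; ring
        exact Nat.eq_of_mul_eq_mul_left hVpos this
      have hKne : Subgroup.centralizer ({g} : Set G) ≠ ⊤ := by
        intro h
        rw [h, Subgroup.index_top] at hidx2
        norm_num at hidx2
      have := hmin _ hKne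
      omega
    have hidx := hmin _ hne
    calc 2 * m * β g = m * (2 * β g) := by ring
      _ ≤ (extC g).index * (2 * Vf.card) := Nat.mul_le_mul hidx (by omega)
      _ = N := by rw [← hcardext, mul_comm]; exact hci _
  -- splitting the sum
  set O : Finset G := (univ.filter (fun t : G => ¬ orderOf t = 2)).erase 1 with hO
  have h1mem : (1 : G) ∈ univ.filter (fun t : G => ¬ orderOf t = 2) := by
    rw [Finset.mem_filter]; refine ⟨mem_univ _, ?_⟩
    rw [orderOf_one]; norm_num
  have hsplit : ∀ f : G → ℕ, ∑ g, f g = ∑ g ∈ I, f g + (f 1 + ∑ g ∈ O, f g) := by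
    intro f
    rw [← Finset.sum_filter_add_sum_filter_not univ (fun t : G => orderOf t = 2) f,
      Finset.add_sum_erase _ f h1mem]
  have hcount : 1 + n + O.card = N := by
    have h1 : n + (univ.filter (fun t : G => ¬ orderOf t = 2)).card = N := by
      have h0 := Finset.card_filter_add_card_filter_not (s := (univ : Finset G))
        (fun t : G => orderOf t = 2)
      rw [Finset.card_univ, ← hNcard] at h0
      exact h0
    have h2 : O.card + 1 = (univ.filter (fun t : G => ¬ orderOf t = 2)).card :=
      Finset.card_erase_add_one h1mem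
    omega
  have hmemO : ∀ g ∈ O, g ≠ 1 ∧ g ∉ I := by
    intro g hg
    rw [hO, Finset.mem_erase, Finset.mem_filter] at hg
    exact ⟨hg.1, fun h => hg.2.2 ((hmemI g).mp h)⟩
  -- the main estimate
  have hmain : 2 * m * n ^ 2 + 4 * m * n ≤ 2 * m * n + 2 * N * n + N * O.card := by
    have e1 : 2 * m * n ^ 2 = ∑ g ∈ I, 2 * m * β g + (2 * m * β 1 + ∑ g ∈ O, 2 * m * β g) := by
      rw [hsum, Finset.mul_sum, hsplit]
    have e2 : ∑ g ∈ I, 2 * m * β g + 4 * m * n ≤ 2 * N * n := by
      have : ∑ g ∈ I, (2 * m * β g + 4 * m) ≤ ∑ g ∈ I, 2 * N := by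
        apply Finset.sum_le_sum
        intro g hg
        have := hβI g hg
        nlinarith
      rw [Finset.sum_add_distrib, Finset.sum_const, Finset.sum_const, smul_eq_mul, smul_eq_mul] at this
      nlinarith
    have e3 : ∑ g ∈ O, 2 * m * β g ≤ N * O.card := by
      have : ∑ g ∈ O, 2 * m * β g ≤ ∑ g ∈ O, N := by
        apply Finset.sum_le_sum
        intro g hg
        exact hβO g (hmemO g hg).1 (hmemO g hg).2
      rw [Finset.sum_const, smul_eq_mul] at this
      nlinarith
    have e4 : 2 * m * β 1 ≤ 2 * m * n := Nat.mul_le_mul_left _ hβ1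
    omega
  have hfinal : 2 * m * n ^ 2 ≤ 2 * N * n + N * O.card := by nlinarith
  calc 2 * m * n ^ 2 ≤ 2 * N * n + N * O.card := hfinal
    _ < N * (N + n) := by
      have hNpos : 0 < N := Nat.card_pos
      nlinarith

end Cfsg.Agent.S0233
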