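import Mathlib
import Cfsg.Statements.S0212
import Cfsg.Agent.S0213
import Cfsg.Agent.S0233

set_option autoImplicit false
open Cfsg

namespace Cfsg.Agent.S0212

/-- A simple group with a proper subgroup of index `k` has order at most `k!`. -/
lemma card_le_factorial_index {G : Type*} [Group G] [Finite G] [IsSimpleGroup G] (H : Subgroup G)
    (hH : H ≠ ⊤) : Nat.card G ≤ Nat.factorial H.index := by
  have hker : (MulAction.toPermHom G (G ⧸ H)).ker = ⊥ := by
    rw [← Subgroup.normalCore_eq_ker]
    rcases IsSimpleGroup.eq_bot_or_eq_top_of_normal H.normalCore inferInstance with h | h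
    · exact h
    · exfalso
      apply hH
      rw [eq_top_iff, ← h]
      exact Subgroup.normalCore_le H
  have hinj : Function.Injective (MulAction.toPermHom G (G ⧸ H)) :=
    (MonoidHom.ker_eq_bot_iff _).mp hker
  have := Nat.card_le_card_of_injective _ hinj
  rw [Nat.card_perm, ← Subgroup.index_eq_card] at this
  exact this

theorem result {G : Type*} [Group G] [Finite G] [IsSimpleGroup G] (t : G) (ht : orderOf t = 2) : Nat.card G ≤ Nat.factorial (2 * (Nat.card (Subgroup.centralizer ({t} : Set G))) ^ 2) := by
  classical
  set N := Nat.card G with hN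
  set c := Nat.card (Subgroup.centralizer ({t} : Set G)) with hc
  have hcpos : 0 < c := Nat.card_pos
  have hNpos : 0 < N := Nat.card_pos
  -- it suffices to find k ≤ 2c² with N ≤ k!
  have hsuff : ∀ k, k ≤ 2 * c ^ 2 → N ≤ Nat.factorial k → N ≤ Nat.factorial (2 * c ^ 2) :=
    fun k hk hNk => hNk.trans (Nat.factorial_le hk)
  -- the class of t
  have hclass := Cfsg.Agent.S0213.card_class_mul_card_centralizer t
  set n := Nat.card {s : G // orderOf s = 2} with hn
  have hcln : Nat.card {h : G // IsConj t h} ≤ n := by
    apply Nat.card_le_card_of_injective (fun h : {h : G // IsConj t h} =>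
      (⟨h.1, by
        obtain ⟨g, hg⟩ := isConj_iff.mp h.2
        rw [← hg, Cfsg.Agent.S0213.orderOf_conj', ht]⟩ : {s : G // orderOf s = 2}))
    intro a b hab
    simp only [Subtype.mk.injEq] at hab
    exact Subtype.ext hab
  have hNcn : N ≤ n * c := by
    have hclass' : Nat.card {h : G // IsConj t h} * c = N := hclass
    calc N = Nat.card {h : G // IsConj t h} * c := hclass'.symm
      _ ≤ n * c := Nat.mul_le_mul_right _ hcln
  have hnpos : 0 < n := by
    rcases Nat.eq_zero_or_pos n with h | h
    · rw [h, zero_mul] at hNcn; omega
    · exact h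
  -- the center
  rcases IsSimpleGroup.eq_bot_or_eq_top_of_normal (Subgroup.center G) inferInstance with hZ | hZ
  · -- trivial center
    have hZodd : Odd (Nat.card (Subgroup.center G)) := by
      rw [hZ]; simp
    have heven : Even (Nat.card G) := by
      rw [even_iff_two_dvd, ← ht]; exact orderOf_dvd_natCard t
    obtain ⟨H, hH, hcase⟩ := Cfsg.Agent.S0233.result heven hZodd
    rcases hcase with h2 | hlt
    · -- index two: normal, so trivial
      have hnorm : H.Normal := Subgroup.normal_of_index_eq_two h2
      rcases IsSimpleGroup.eq_bot_or_eq_top_of_normal H hnorm with hb | htop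
      · have h3 := H.card_mul_index
        rw [h2, hb] at h3
        simp only [Subgroup.card_bot, one_mul] at h3
        apply hsuff 2
        · nlinarith
        · rw [hN, ← h3]; decide
      · exact absurd htop hH
    · apply hsuff H.index
      · -- 2 * idx * n^2 < N (N + n) ≤ c (c+1) n^2
        have h4 : N * (N + n) ≤ (n * c) * (n * c + n) := Nat.mul_le_mul hNcn (by omega)
        have h5 : 2 * H.index * n ^ 2 < c * (c + 1) * n ^ 2 := by
          calc 2 * H.index * n ^ 2 < N * (N + n) := hlt
            _ ≤ (n * c) * (n * c + n) := h4
            _ = c * (c + 1) * n ^ 2 := by ring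
        have h6 : 2 * H.index < c * (c + 1) := Nat.lt_of_mul_lt_mul_right h5
        nlinarith
      · exact card_le_factorial_index H hH
  · -- t central: c = N
    have hcN : c = N := by
      have : Subgroup.centralizer ({t} : Set G) = ⊤ := by
        rw [eq_top_iff]
        intro x _
        rw [Subgroup.mem_centralizer_singleton_iff]
        have ht' : t ∈ Subgroup.center G := by rw [hZ]; trivial
        rw [Subgroup.mem_center_iff] at ht'
        exact ht' x
      rw [hc, this]; simp [hN]
    apply hsuff N
    · rw [hcN]; nlinarith
    · exact Nat.self_le_factorial N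

end Cfsg.Agent.S0212
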