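import Cfsg.Statements.S0214
import Cfsg.Agent.Lib.Helper97.StrEmb

set_option autoImplicit false
open Cfsg

namespace Cfsg.Agent.S0214

open Cfsg.Agent.Lib.Helper97 Cfsg.Agent.Lib.Helper48

/-- Let H be a proper subgroup of the finite group G and P a nontrivial Sylow 2-subgroup of H. Then H is strongly embedded in G if and only if N_G(X) ≤ H for every nontrivial subgroup X of P. -/
theorem result {G : Type*} [Group G] [Finite G] (H : Subgroup G) (hH : H ≠ ⊤) (P : Sylow 2 ↥H) (hP : (P : Subgroup ↥H) ≠ ⊥) : Cfsg.IsStronglyEmbedded H ↔ (∀ X : Subgroup ↥H, X ≤ (P : Subgroup ↥H) → X ≠ ⊥ → Subgroup.normalizer ((X.map H.subtype : Subgroup G) : Set G) ≤ H) := by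
  have : Fact (Nat.Prime 2) := ⟨Nat.prime_two⟩
  constructor
  · intro hSE X hXP hXne
    set X' : Subgroup G := X.map H.subtype with hX'
    have hX'H : X' ≤ H := by
      rintro _ ⟨x, _, rfl⟩; exact x.2
    have hX'ne : X' ≠ ⊥ := by
      intro h
      apply hXne
      rw [hX', Subgroup.map_eq_bot_iff_of_injective _ H.subtype_injective] at h
      exact h
    have hX'p : IsPGroup 2 X' := (P.2.to_le hXP).map _
    obtain ⟨t, htX, ht⟩ := exists_orderOf_eq_of_ne_bot hX'p hX'ne
    intro g hg
    have hg' : g⁻¹ ∈ Subgroup.normalizer (X' : Set G) := Subgroup.inv_mem _ hg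
    have := (Subgroup.mem_normalizer_iff.mp hg' t).mp htX
    rw [inv_inv] at this
    exact mem_of_conj_mem hSE ht (hX'H htX) (hX'H this)
  · intro hN
    have hNP := hN (P : Subgroup H) le_rfl hP
    obtain ⟨Q, hQ⟩ := exists_sylow_eq_map_of_normalizer_le P hNP
    have hQH : (Q : Subgroup G) ≤ H := by
      rw [hQ]; rintro _ ⟨x, _, rfl⟩; exact x.2
    have hQne : (Q : Subgroup G) ≠ ⊥ := by
      rw [hQ]
      intro h
      apply hP
      rw [Subgroup.map_eq_bot_iff_of_injective _ H.subtype_injective] at h
      exact h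
    have hd : SEData 2 H Q := by
      refine ⟨hQH, hQne, ?_, ?_⟩
      · rw [hQ]; exact hNP
      · intro x hx hx2
        have hxH : x ∈ H := hQH hx
        have hX := hN (Subgroup.zpowers (⟨x, hxH⟩ : H)) ?_ ?_
        · rw [MonoidHom.map_zpowers] at hX
          exact (centralizer_singleton_le_normalizer_zpowers x).trans hX
        · rw [Subgroup.zpowers_le]
          rw [hQ] at hx
          obtain ⟨y, hy, hyx⟩ := hx
          have : y = ⟨x, hxH⟩ := Subtype.ext hyx
          rw [← this]; exact hy
        · intro h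
          rw [Subgroup.zpowers_eq_bot] at h
          have h1 : x = 1 := congrArg Subtype.val h
          rw [h1, orderOf_one] at hx2
          omega
    refine ⟨hH, ?_, ?_⟩
    · rw [even_iff_two_dvd]
      have h1 : 2 ∣ Nat.card (P : Subgroup H) := by
        rcases P.2.card_eq_or_dvd with h | h
        · exact absurd (Subgroup.card_eq_one.mp h) hP
        · exact h
      exact h1.trans (Subgroup.card_subgroup_dvd_card _)
    · intro g hg
      by_contra hodd
      rw [Nat.not_odd_iff_even, even_iff_two_dvd] at hodd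
      obtain ⟨x, hx⟩ := exists_prime_orderOf_dvd_card' 2 hodd
      have hx2 : orderOf (x : G) = 2 := by rw [Subgroup.orderOf_coe]; exact hx
      have hxH := x.2.1
      obtain ⟨y, hyH, hyx⟩ := x.2.2
      simp only [MulEquiv.coe_toMonoidHom, MulAut.conj_apply] at hyx
      have hy2 : orderOf y = 2 := by
        have : y = g⁻¹ * (x : G) * g := by rw [← hyx]; group
        rw [this]
        have := orderOf_conj_two hx2 g⁻¹
        rwa [inv_inv] at this
      apply hg
      apply hd.mem_of_conj_mem hy2 hyH
      rw [hyx]; exact hxH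

end Cfsg.Agent.S0214
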