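import Cfsg.Statements.S0216
import Cfsg.Agent.Lib.Helper4.Dihedral
import Cfsg.Agent.Lib.Helper4.SylowConj
import Cfsg.Agent.S0206
import Cfsg.Agent.S0210

set_option autoImplicit false
open Cfsg

namespace Cfsg.Agent.S0216

open Cfsg.Agent.Lib.Helper4

theorem orderOf_conj' {G : Type*} [Group G] (g u : G) : orderOf (g * u * g⁻¹) = orderOf u := by
  have := orderOf_injective (MulAut.conj g).toMonoidHom (MulAut.conj g).injective u
  simpa using this

/-- Key step: if `u` is isolated in `P` and `v` is a conjugate of `u`, then `u * v` has odd order. -/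
theorem odd_of_isolated {G : Type*} [Group G] [Finite G] (P : Sylow 2 G) (u : G) (hu : orderOf u = 2)
    (hiso : ∀ g : G, g * u * g⁻¹ ∈ P → g * u * g⁻¹ = u) (g : G) :
    Odd (orderOf (u * (g * u * g⁻¹))) := by
  haveI : Fact (Nat.Prime 2) := ⟨Nat.prime_two⟩
  set v := g * u * g⁻¹ with hv
  have hvord : orderOf v = 2 := by rw [hv, orderOf_conj', hu]
  have hu' := mul_self_of_orderOf_two hu
  have hv' := mul_self_of_orderOf_two hvord
  by_contra hodd
  rw [Nat.not_odd_iff_even] at hodd
  set a := u * v with ha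
  set n := orderOf a with hn
  have hnpos : 0 < n := orderOf_pos a
  set k := n.factorization 2 with hk
  set m := n / 2 ^ k with hm
  have hnm : 2 ^ k * m = n := Nat.ordProj_mul_ordCompl_eq_self n 2
  have hmodd : Odd m := by
    rw [← Nat.not_even_iff_odd, even_iff_two_dvd]
    exact Nat.not_dvd_ordCompl Nat.prime_two hnpos.ne'
  obtain ⟨j0, hj0⟩ := hmodd
  -- j = j0 + 1, 2 j = m + 1
  set d := a ^ ((j0 : ℤ) + 1) with hd
  set v' := d * v * d⁻¹ with hv'def
  have hv'ord : orderOf v' = 2 := by rw [hv'def, orderOf_conj', hvord]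
  have hv'' := mul_self_of_orderOf_two hv'ord
  have hvua : v = u * a := by rw [ha, ← mul_assoc, hu', one_mul]
  have huv' : u * v' = a ^ (-(m : ℤ)) := by
    have h1 : u * d = d⁻¹ * u := by
      rw [hd, ← zpow_neg]
      exact x_mul_a_zpow hu' hv' _
    calc u * v' = (u * d) * v * d⁻¹ := by rw [hv'def]; simp [mul_assoc]
      _ = d⁻¹ * (u * v) * d⁻¹ := by rw [h1]; simp [mul_assoc]
      _ = a ^ (-((j0 : ℤ) + 1)) * a ^ (1 : ℤ) * a ^ (-((j0 : ℤ) + 1)) := by
          rw [hd, ← zpow_neg, zpow_one]
      _ = a ^ (-(m : ℤ)) := by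
          rw [← zpow_add, ← zpow_add]
          congr 1
          rw [hj0]; push_cast; ring
  have hord : orderOf (u * v') = 2 ^ k := by
    rw [huv', zpow_neg, orderOf_inv, zpow_natCast, orderOf_pow, ← hn]
    have : n.gcd m = m := Nat.gcd_eq_right ⟨2 ^ k, by rw [← hnm, mul_comm]⟩
    rw [this, ← hnm, Nat.mul_div_cancel _ (Nat.pos_of_ne_zero (by rintro h; rw [h] at hnm; omega))]
  have hdmem : d ∈ Subgroup.closure ({u, v} : Set G) := by
    rw [mem_closure_pair_iff hu' hv']
    exact Or.inl ⟨_, rfl⟩
  -- show v' = u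
  have hkey : v' = u := by
    by_cases huv : u = v'
    · exact huv.symm
    · obtain ⟨e⟩ := Cfsg.Agent.S0206.result u v' hu hv'ord huv
      have hcard : Nat.card (Subgroup.closure ({u, v'} : Set G)) = 2 ^ (k + 1) := by
        rw [Nat.card_congr e.toEquiv, DihedralGroup.nat_card, hord, pow_succ, mul_comm]
      have hE : IsPGroup 2 (Subgroup.closure ({u, v'} : Set G)) := IsPGroup.of_card hcard
      obtain ⟨h, hh⟩ := exists_conj_mem_sylow P _ hE
      have h1 := hh u (Subgroup.subset_closure (by simp))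
      have h2 := hh v' (Subgroup.subset_closure (by simp))
      have e1 : h⁻¹ * u * h = u := by
        have := hiso h⁻¹ (by rw [inv_inv]; exact h1)
        rwa [inv_inv] at this
      have e2 : h⁻¹ * v' * h = u := by
        have hrw : h⁻¹ * v' * h = (h⁻¹ * d * g) * u * (h⁻¹ * d * g)⁻¹ := by
          rw [hv'def, hv]; simp [mul_assoc]
        rw [hrw]
        apply hiso
        rw [← hrw]
        exact h2
      have := e1.trans e2.symm
      exact (mul_left_cancel (mul_right_cancel this)).symm
  -- contradiction with S0210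
  have hcontra := Cfsg.Agent.S0210.result u v hu hvord hodd d⁻¹ (Subgroup.inv_mem _ hdmem)
  apply hcontra
  rw [inv_inv, ← hkey, hv'def]
  simp [mul_assoc]

/-- For an involution u in a Sylow 2-subgroup P of a finite group G, the following are equivalent: no G-conjugate of u other than u lies in P; every commutator of u with an element of G has odd order. -/
theorem result {G : Type*} [Group G] [Finite G] (P : Sylow 2 G) (u : G) (hu : orderOf u = 2) (huP : u ∈ P) : (∀ g : G, g * u * g⁻¹ ∈ P → g * u * g⁻¹ = u) ↔ (∀ g : G, Odd (orderOf (u * g * u⁻¹ * g⁻¹))) := by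
  have hu' := mul_self_of_orderOf_two hu
  have huinv := inv_eq_self_of_orderOf_two hu
  have hrw : ∀ g : G, u * g * u⁻¹ * g⁻¹ = u * (g * u * g⁻¹) := by
    intro g; rw [huinv]; simp [mul_assoc]
  constructor
  · intro hiso g
    rw [hrw]
    exact odd_of_isolated P u hu hiso g
  · intro hodd g hg
    have h1 := hodd g
    rw [hrw] at h1
    have hmem : u * (g * u * g⁻¹) ∈ (P : Subgroup G) := Subgroup.mul_mem _ huP hg
    obtain ⟨r, hr⟩ := (IsPGroup.iff_orderOf.1 P.isPGroup') ⟨_, hmem⟩
    rw [Subgroup.orderOf_mk] at hr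
    rw [hr] at h1
    have hr0 : r = 0 := by
      by_contra h
      have : Even (2 ^ r) := (Nat.even_pow.2 ⟨even_two, h⟩)
      exact (Nat.not_odd_iff_even.2 this) h1
    rw [hr0, pow_zero, orderOf_eq_one_iff] at hr
    have : g * u * g⁻¹ = u⁻¹ := by
      exact eq_inv_of_mul_eq_one_right hr
    rw [this, huinv]

end Cfsg.Agent.S0216
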