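import Cfsg.Statements.S0218
import Cfsg.Agent.Lib.Helper4.Dihedral

set_option autoImplicit false
open Cfsg

namespace Cfsg.Agent.S0218

open Cfsg.Agent.Lib.Helper4 QuaternionGroup

theorem natCast_ne_zero (m : ℕ) [NeZero m] : (m : ZMod (2 * m)) ≠ 0 := by
  intro h
  rw [ZMod.natCast_eq_zero_iff] at h
  have hm : 0 < m := Nat.pos_of_ne_zero (NeZero.ne m)
  have := Nat.le_of_dvd hm h
  omega

theorem add_self_eq_zero_iff (m : ℕ) [NeZero m] (i : ZMod (2 * m)) :
    i + i = 0 ↔ i = 0 ∨ i = (m : ZMod (2 * m)) := by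
  have hm : 0 < m := Nat.pos_of_ne_zero (NeZero.ne m)
  constructor
  · intro h
    have hi : i = ((i.val : ℕ) : ZMod (2 * m)) := (ZMod.natCast_zmod_val i).symm
    have hlt : i.val < 2 * m := ZMod.val_lt i
    rw [hi] at h
    rw [← Nat.cast_add, ZMod.natCast_eq_zero_iff] at h
    obtain ⟨k, hk⟩ := h
    have hk' : k = 0 ∨ k = 1 := by
      rcases k with _ | _ | k
      · left; rfl
      · right; rfl
      · exfalso
        have : 2 * m * (k + 1 + 1) ≥ 2 * m * 2 := Nat.mul_le_mul_left _ (by omega)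
        omega
    rcases hk' with rfl | rfl
    · left
      rw [hi]
      have : i.val = 0 := by omega
      rw [this]; simp
    · right
      rw [hi]
      have : i.val = m := by omega
      rw [this]
  · rintro (rfl | rfl)
    · simp
    · rw [← Nat.cast_add, ZMod.natCast_eq_zero_iff]
      exact ⟨1, by ring⟩

theorem orderOf_eq_two_iff (m : ℕ) [NeZero m] (x : QuaternionGroup m) :
    orderOf x = 2 ↔ x = a (m : ZMod (2 * m)) := by
  rw [orderOf_two_iff]
  constructor
  · rintro ⟨h1, h2⟩
    cases x with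
    | a i =>
      rw [a_mul_a, one_def] at h2
      have h3 : i + i = 0 := by
        injection h2
      rcases (add_self_eq_zero_iff m i).1 h3 with rfl | rfl
      · exact absurd a_zero h1
      · rfl
    | xa i =>
      rw [xa_mul_xa, one_def] at h2
      have h3 : (m : ZMod (2 * m)) + i - i = 0 := by
        injection h2
      rw [add_sub_cancel_right] at h3
      exact absurd h3 (natCast_ne_zero m)
  · rintro rfl
    refine ⟨?_, ?_⟩
    · rw [one_def]
      intro h
      have : (m : ZMod (2 * m)) = 0 := by injection h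
      exact natCast_ne_zero m this
    · rw [a_mul_a, one_def]
      congr 1
      exact (add_self_eq_zero_iff m _).2 (Or.inr rfl)

/-- The generalized quaternion group of order 2^(n+3) contains exactly one element of order 2. -/
theorem result (n : ℕ) : Nat.card {x : QuaternionGroup (2 ^ (n + 1)) // orderOf x = 2} = 1 := by
  haveI : NeZero (2 ^ (n + 1)) := ⟨by positivity⟩
  rw [Nat.card_eq_one_iff_unique]
  refine ⟨⟨?_⟩, ⟨⟨a ((2 ^ (n + 1) : ℕ) : ZMod (2 * 2 ^ (n + 1))), (orderOf_eq_two_iff _ _).2 rfl⟩⟩⟩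
  rintro ⟨x, hx⟩ ⟨y, hy⟩
  rw [Subtype.mk.injEq, (orderOf_eq_two_iff _ x).1 hx, (orderOf_eq_two_iff _ y).1 hy]

end Cfsg.Agent.S0218
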