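import Cfsg.Statements.S0219
import Cfsg.Agent.Lib.Helper4.CayleySign

set_option autoImplicit false
open Cfsg

namespace Cfsg.Agent.S0219

open Cfsg.Agent.Lib.Helper4

/-- A cyclic Sylow 2-subgroup of an even order group yields a subgroup of index two. -/
theorem index_two_of_cyclic_sylow {G : Type*} [Group G] [Finite G] (heven : Even (Nat.card G))
    (T : Sylow 2 G) (hT : IsCyclic (T : Subgroup G)) : ∃ H : Subgroup G, H.index = 2 := by
  obtain ⟨g, hg⟩ := hT.exists_generator
  have hord : orderOf g = Nat.card (T : Subgroup G) := orderOf_eq_card_of_forall_mem_zpowers hg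
  have hord' : orderOf (g : G) = Nat.card (T : Subgroup G) := by
    rw [← hord, Subgroup.orderOf_coe]
  haveI : Fact (Nat.Prime 2) := ⟨Nat.prime_two⟩
  have hcard : Nat.card (T : Subgroup G) = 2 ^ (Nat.card G).factorization 2 :=
    Sylow.card_eq_multiplicity T
  have hpos : 0 < (Nat.card G).factorization 2 := by
    apply Nat.Prime.factorization_pos_of_dvd Nat.prime_two Nat.card_pos.ne'
    exact even_iff_two_dvd.1 heven
  apply exists_index_two_of_elt (g : G)
  · rw [hord', hcard]
    exact (Nat.even_pow.2 ⟨even_two, hpos.ne'⟩)
  · rw [hord', hcard]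
    rw [← Nat.not_even_iff_odd, even_iff_two_dvd]
    exact Nat.not_dvd_ordCompl Nat.prime_two Nat.card_pos.ne'

/-- If a finite group has even order and a cyclic Sylow 2-subgroup, then it has a subgroup of index 2 (consider the parity of permutations in the regular representation). -/
theorem result {G : Type*} [Group G] [Finite G] (heven : Even (Nat.card G)) (T : Sylow 2 G) (hT : IsCyclic (T : Subgroup G)) : ∃ H : Subgroup G, H.index = 2 :=
  index_two_of_cyclic_sylow heven T hT

end Cfsg.Agent.S0219
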