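import Cfsg.Statements.S0220
import Cfsg.Agent.Lib.Helper4.Dihedral
import Cfsg.Agent.S0219

set_option autoImplicit false
open Cfsg

namespace Cfsg.Agent.S0220

open Cfsg.Agent.Lib.Helper4

/-- In a cyclic group there is at most one element of order two. -/
theorem involution_unique_of_cyclic {S : Type*} [Group S] [Finite S] [IsCyclic S] (a b : S)
    (ha : orderOf a = 2) (hb : orderOf b = 2) : a = b := by
  classical
  haveI := Fintype.ofFinite S
  by_contra hab
  have hle := IsCyclic.card_pow_eq_one_le (α := S) (n := 2) (by norm_num)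
  have hsub : ({1, a, b} : Finset S) ⊆ Finset.univ.filter (fun c : S => c ^ 2 = 1) := by
    intro c hc
    simp only [Finset.mem_insert, Finset.mem_singleton] at hc
    simp only [Finset.mem_filter, Finset.mem_univ, true_and]
    rcases hc with rfl | rfl | rfl
    · simp
    · rw [pow_two]; exact mul_self_of_orderOf_two ha
    · rw [pow_two]; exact mul_self_of_orderOf_two hb
  have hcard : ({1, a, b} : Finset S).card = 3 := by
    rw [Finset.card_insert_of_notMem, Finset.card_insert_of_notMem, Finset.card_singleton]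
    · simpa using hab
    · simp only [Finset.mem_insert, Finset.mem_singleton, not_or]
      exact ⟨(ne_one_of_orderOf_two ha).symm, (ne_one_of_orderOf_two hb).symm⟩
  have := Finset.card_le_card hsub
  omega

theorem aux {G : Type*} [Group G] [Finite G] (x : G) (hx : orderOf x = 2) (C : Subgroup G)
    (hC : ∀ t : G, t ∈ C ↔ t * x = x * t)
    (S : Sylow 2 ↥C) (hS : IsCyclic (S : Subgroup ↥C)) : ∃ H : Subgroup G, H.index = 2 := by
  classical
  haveI : Fact (Nat.Prime 2) := ⟨Nat.prime_two⟩
  have hx' := mul_self_of_orderOf_two hx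
  have hxC : x ∈ C := (hC x).2 rfl
  let xC : C := ⟨x, hxC⟩
  have hxCord : orderOf xC = 2 := by rw [Subgroup.orderOf_mk, hx]
  -- step 1
  have hcentral : ∀ c : C, c * xC = xC * c :=
    fun c => Subtype.ext ((hC c.1).1 c.2)
  have hnormal : (Subgroup.zpowers xC).Normal := by
    constructor
    intro n hn c
    obtain ⟨k, rfl⟩ := Subgroup.mem_zpowers_iff.1 hn
    have : c * xC ^ k * c⁻¹ = xC ^ k := by
      have hcomm : Commute c xC := hcentral c
      rw [(hcomm.zpow_right k).eq, mul_assoc, mul_inv_cancel, mul_one]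
    rw [this]
    exact Subgroup.zpow_mem_zpowers _ _
  have hzp : IsPGroup 2 (Subgroup.zpowers xC) := by
    apply IsPGroup.of_card (n := 1)
    rw [Nat.card_zpowers, hxCord, pow_one]
  have hsup : IsPGroup 2 ((S : Subgroup C) ⊔ Subgroup.zpowers xC : Subgroup C) :=
    S.isPGroup'.to_sup_of_normal_right hzp
  have hxS : xC ∈ (S : Subgroup C) := by
    have h := S.is_maximal' hsup le_sup_left
    have h2 : xC ∈ ((S : Subgroup C) ⊔ Subgroup.zpowers xC : Subgroup C) :=
      (le_sup_right : Subgroup.zpowers xC ≤ _) (Subgroup.mem_zpowers xC)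
    rwa [h] at h2
  -- step 2
  have hS' : IsPGroup 2 ((S : Subgroup C).map C.subtype) := S.isPGroup'.map _
  obtain ⟨T, hT⟩ := hS'.exists_le_sylow
  have hxT : x ∈ (T : Subgroup G) := hT ⟨xC, hxS, rfl⟩
  -- step 3
  have hQ : IsPGroup 2 ((T : Subgroup G).subgroupOf C) := T.isPGroup'.comap_subtype
  have hSQ : (S : Subgroup C) ≤ (T : Subgroup G).subgroupOf C := by
    intro s hs
    rw [Subgroup.mem_subgroupOf]
    exact hT ⟨s, hs, rfl⟩
  have hQS : (T : Subgroup G).subgroupOf C = (S : Subgroup C) := S.is_maximal' hQ hSQ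
  have hstep3 : ∀ t : G, t ∈ (T : Subgroup G) → ∀ htC : t ∈ C, (⟨t, htC⟩ : C) ∈ (S : Subgroup C) := by
    intro t ht htC
    rw [← hQS, Subgroup.mem_subgroupOf]
    exact ht
  -- step 4
  haveI : Nontrivial (T : Subgroup G) :=
    ⟨⟨⟨x, hxT⟩, 1, fun h => ne_one_of_orderOf_two hx (congrArg Subtype.val h)⟩⟩
  haveI : Nontrivial (Subgroup.center (T : Subgroup G)) := T.isPGroup'.center_nontrivial
  have hcenP : IsPGroup 2 (Subgroup.center (T : Subgroup G)) := T.isPGroup'.to_subgroup _
  have h2dvd : 2 ∣ Nat.card (Subgroup.center (T : Subgroup G)) := by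
    rcases hcenP.card_eq_or_dvd with h | h
    · exact absurd h (Finite.one_lt_card).ne'
    · exact h
  obtain ⟨z, hz⟩ := exists_prime_orderOf_dvd_card' 2 h2dvd
  have hzG : orderOf ((z : (T : Subgroup G)) : G) = 2 := by
    rw [Subgroup.orderOf_coe, Subgroup.orderOf_coe, hz]
  have hzT : ((z : (T : Subgroup G)) : G) ∈ (T : Subgroup G) := (z : (T : Subgroup G)).2
  have hzcomm : ∀ t : G, t ∈ (T : Subgroup G) → t * ((z : (T : Subgroup G)) : G) = ((z : (T : Subgroup G)) : G) * t := by
    intro t ht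
    have := Subgroup.mem_center_iff.1 z.2 ⟨t, ht⟩
    exact congrArg Subtype.val this
  have hzC : ((z : (T : Subgroup G)) : G) ∈ C :=
    (hC _).2 (hzcomm x hxT).symm
  have hzS := hstep3 _ hzT hzC
  -- step 5
  have hxz : (⟨xC, hxS⟩ : (S : Subgroup C)) = ⟨⟨_, hzC⟩, hzS⟩ := by
    apply involution_unique_of_cyclic
    · rw [Subgroup.orderOf_mk, hxCord]
    · rw [Subgroup.orderOf_mk, Subgroup.orderOf_mk, hzG]
  have hxz' : x = ((z : (T : Subgroup G)) : G) := by
    have := congrArg (fun s : (S : Subgroup C) => ((s : C) : G)) hxz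
    exact this
  -- step 6
  have hTC : ∀ t : G, t ∈ (T : Subgroup G) → t ∈ C := by
    intro t ht
    rw [hC, hxz']
    exact hzcomm t ht
  -- step 7
  obtain ⟨s, hs⟩ := hS.exists_generator
  have hgT : ((s : C) : G) ∈ (T : Subgroup G) := hT ⟨s, s.2, rfl⟩
  have hcyc : IsCyclic (T : Subgroup G) := by
    refine ⟨⟨⟨((s : C) : G), hgT⟩, fun t => ?_⟩⟩
    have htS := hstep3 t.1 t.2 (hTC t.1 t.2)
    obtain ⟨k, hk⟩ := Subgroup.mem_zpowers_iff.1 (hs ⟨_, htS⟩)
    refine ⟨k, ?_⟩
    apply Subtype.ext
    have := congrArg (fun s : (S : Subgroup C) => ((s : C) : G)) hk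
    simpa using this
  have heven : Even (Nat.card G) := by
    rw [even_iff_two_dvd, ← hx]
    exact orderOf_dvd_natCard x
  exact Cfsg.Agent.S0219.index_two_of_cyclic_sylow heven T hcyc

/-- If x is an involution of a finite group G and a Sylow 2-subgroup of the centralizer of x is cyclic, then G has a subgroup of index 2; in particular G is not simple unless it has order 2. -/
theorem result {G : Type*} [Group G] [Finite G] (x : G) (hx : orderOf x = 2) (S : Sylow 2 ↥(Subgroup.centralizer ({x} : Set G))) (hS : IsCyclic (S : Subgroup ↥(Subgroup.centralizer ({x} : Set G)))) : ∃ H : Subgroup G, H.index = 2 :=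
  aux x hx _ (fun _ => Subgroup.mem_centralizer_singleton_iff) S hS

end Cfsg.Agent.S0220
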