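import Cfsg.Statements.S0221
import Cfsg.Agent.Lib.Helper55.TwoRank3
import Cfsg.Agent.Lib.Helper53.Transfer

set_option autoImplicit false
open Cfsg

namespace Cfsg.Agent.S0221

/-- Let G be a finite group with no subgroup of index 2 whose 2-rank is at least 3 (it contains an elementary abelian subgroup of order 8). Then the centralizer of every involution of G also contains an elementary abelian subgroup of order 8. -/
theorem result {G : Type*} [Group G] [Finite G] (hno : ∀ H : Subgroup G, H.index ≠ 2) (hrank : ∃ E : Subgroup G, Nat.card E = 8 ∧ ∀ e ∈ E, e ^ 2 = 1) (x : G) (hx : orderOf x = 2) : ∃ E : Subgroup G, E ≤ Subgroup.centralizer ({x} : Set G) ∧ Nat.card E = 8 ∧ ∀ e ∈ E, e ^ 2 = 1 := by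
  classical
  haveI : Fact (Nat.Prime 2) := ⟨Nat.prime_two⟩
  obtain ⟨E, hE8, hEexp⟩ := hrank
  have hEp : IsPGroup 2 E := by
    apply IsPGroup.of_card (n := 3)
    rw [hE8]; norm_num
  obtain ⟨P, hEP⟩ := hEp.exists_le_sylow
  -- work inside P
  have hPp : IsPGroup 2 (P : Subgroup G) := P.isPGroup'
  set E₀ : Subgroup (P : Subgroup G) := E.subgroupOf (P : Subgroup G) with hE₀
  have hE₀8 : Nat.card E₀ = 8 := by
    rw [hE₀, Nat.card_congr (Subgroup.subgroupOfEquivOfLe hEP).toEquiv, hE8]
  have hE₀exp : ∀ e ∈ E₀, e ^ 2 = 1 := by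
    intro e he
    rw [hE₀, Subgroup.mem_subgroupOf] at he
    have := hEexp _ he
    apply Subtype.ext
    simpa using this
  obtain ⟨T, hTidx, hTmain⟩ := Cfsg.Agent.Lib.Helper55.twoGroup_main hPp E₀ hE₀8 hE₀exp
  set M : Subgroup G := T.map (P : Subgroup G).subtype with hM
  have hMP : M ≤ (P : Subgroup G) := by
    rw [hM]; exact Subgroup.map_subtype_le T
  -- x is conjugate into M
  have hconj : ∃ g : G, g * x * g⁻¹ ∈ M := by
    rcases hTidx with htop | h2
    · -- M = P
      have hMeq : M = (P : Subgroup G) := by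
        rw [hM, htop, ← MonoidHom.range_eq_map, Subgroup.range_subtype]
      have hpg : IsPGroup 2 (Subgroup.zpowers x) := by
        apply IsPGroup.of_card (n := 1)
        rw [Nat.card_zpowers, hx, pow_one]
      obtain ⟨Q, hQ⟩ := hpg.exists_le_sylow
      obtain ⟨g, rfl⟩ := MulAction.exists_smul_eq G P Q
      have htQ : x ∈ ((g • P : Sylow 2 G) : Subgroup G) := hQ (Subgroup.mem_zpowers x)
      rw [Sylow.coe_subgroup_smul, Subgroup.mem_pointwise_smul_iff_inv_smul_mem, MulAut.smul_def,
        ← map_inv, MulAut.conj_apply, inv_inv] at htQ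
      refine ⟨g⁻¹, ?_⟩
      rw [hMeq, inv_inv]; exact htQ
    · by_contra hcon
      push Not at hcon
      have hrel : M.relIndex (P : Subgroup G) = 2 := by
        rw [Subgroup.relIndex, hM, Subgroup.subgroupOf,
          Subgroup.comap_map_eq_self_of_injective (Subgroup.subtype_injective _)]
        exact h2
      have hord : ∀ y ∈ (P : Subgroup G), y ∉ M → 2 ^ (1 - 1) < orderOf y := by
        intro y _ hyM
        have hy1 : y ≠ 1 := fun h => hyM (h ▸ M.one_mem)
        have hpos : 0 < orderOf y := orderOf_pos y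
        have hne : orderOf y ≠ 1 := fun h => hy1 (orderOf_eq_one_iff.mp h)
        simp only [Nat.sub_self, pow_zero]
        omega
      obtain ⟨N, -, hN2, -⟩ := Cfsg.Agent.Lib.Helper53.thompson_transfer P M hrel 1 le_rfl hord x
        (by rw [hx, pow_one]) hcon
      exact hno N hN2
  obtain ⟨g, hg⟩ := hconj
  rw [hM, Subgroup.mem_map] at hg
  obtain ⟨y, hyT, hyx⟩ := hg
  have hy2 : y ^ 2 = 1 := by
    apply Subtype.ext
    have : ((y : G)) ^ 2 = 1 := by
      have h1 : (y : G) = g * x * g⁻¹ := hyx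
      rw [h1, conj_pow, ← hx, pow_orderOf_eq_one]; group
    simpa using this
  obtain ⟨E', hE'8, hE'exp, hE'comm⟩ := hTmain y hyT hy2
  let f : (P : Subgroup G) →* G :=
    (MulAut.conj g⁻¹).toMonoidHom.comp (P : Subgroup G).subtype
  have hfinj : Function.Injective f := by
    intro a b hab
    have : (MulAut.conj g⁻¹) (a : G) = (MulAut.conj g⁻¹) (b : G) := hab
    exact Subtype.ext ((MulAut.conj g⁻¹).injective this)
  have hfy : f y = x := by
    change (MulAut.conj g⁻¹) ((P : Subgroup G).subtype y) = x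
    rw [hyx, MulAut.conj_apply]; group
  refine ⟨E'.map f, ?_, ?_, ?_⟩
  · intro e he
    rw [Subgroup.mem_map] at he
    obtain ⟨e', he', rfl⟩ := he
    rw [Subgroup.mem_centralizer_iff]
    intro h hh
    rw [Set.mem_singleton_iff] at hh
    rw [hh, ← hfy, ← map_mul, ← map_mul, hE'comm e' he']
  · rw [Subgroup.card_map_of_injective hfinj, hE'8]
  · intro e he
    rw [Subgroup.mem_map] at he
    obtain ⟨e', he', rfl⟩ := he
    rw [← map_pow, hE'exp e' he', map_one]

end Cfsg.Agent.S0221
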