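import Cfsg.Statements.S0223
import Cfsg.Agent.Lib.Helper4.StronglyEmbedded
import Cfsg.Agent.Lib.Helper4.Conj

set_option autoImplicit false
open Cfsg

namespace Cfsg.Agent.S0223

open Cfsg.Agent.Lib.Helper4

/-- Let H be a proper subgroup of even order of the finite group G. Then H is strongly embedded if and only if (i) C_G(t) ≤ H for every involution t of H and (ii) H controls fusion of its involutions: involutions of H conjugate in G are conjugate in H. -/
theorem result {G : Type*} [Group G] [Finite G] (H : Subgroup G) (hH : H ≠ ⊤) (heven : Even (Nat.card H)) : Cfsg.IsStronglyEmbedded H ↔ ((∀ t ∈ H, orderOf t = 2 → Subgroup.centralizer ({t} : Set G) ≤ H) ∧ (∀ t ∈ H, ∀ s ∈ H, orderOf t = 2 → orderOf s = 2 → IsConj t s → ∃ h ∈ H, h * t * h⁻¹ = s)) := by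
  rw [stronglyEmbedded_iff]
  constructor
  · rintro ⟨_, _, hse⟩
    refine ⟨?_, ?_⟩
    · intro t htH ht c hc
      by_contra hcH
      apply hse c hcH t ht htH
      have h1 : c * t = t * c := Subgroup.mem_centralizer_singleton_iff.1 hc
      have : c⁻¹ * t * c = t := by
        rw [mul_assoc, ← h1, ← mul_assoc, inv_mul_cancel, one_mul]
      rw [this]
      exact htH
    · intro t htH s hsH ht hs hconj
      obtain ⟨g, hg⟩ := isConj_iff.1 hconj
      refine ⟨g, ?_, hg⟩
      by_contra hgH
      apply hse g hgH s hs hsH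
      have : g⁻¹ * s * g = t := by rw [← hg]; simp [mul_assoc]
      rw [this]
      exact htH
  · rintro ⟨hi, hii⟩
    refine ⟨hH, heven, ?_⟩
    intro g hgH s hs hsH hgs
    -- t = g⁻¹ s g ∈ H is an involution conjugate to s
    set t := g⁻¹ * s * g with ht
    have htord : orderOf t = 2 := by
      have := orderOf_conj g⁻¹ s
      rw [inv_inv] at this
      rw [ht, this, hs]
    have hconj : IsConj t s := isConj_iff.2 ⟨g, by rw [ht]; simp [mul_assoc]⟩
    obtain ⟨h, hhH, hh⟩ := hii t hgs s hsH htord hs hconj
    -- g⁻¹ h centralizes t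
    have hc : g⁻¹ * h ∈ Subgroup.centralizer ({t} : Set G) := by
      rw [Subgroup.mem_centralizer_singleton_iff]
      have h1 : h * t = s * h := by
        rw [← hh]; simp [mul_assoc]
      rw [mul_assoc, h1, ht]
      simp [mul_assoc]
    have := hi t hgs htord hc
    have h2 : g⁻¹ ∈ H := by
      have := H.mul_mem this (H.inv_mem hhH)
      simpa [mul_assoc] using this
    exact hgH (by simpa using H.inv_mem h2)

end Cfsg.Agent.S0223
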