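import Cfsg.Statements.S0224
import Cfsg.Agent.Lib.Helper4.StronglyEmbedded
import Cfsg.Agent.Lib.Helper4.Conj

set_option autoImplicit false
open Cfsg

namespace Cfsg.Agent.S0224

open Cfsg.Agent.Lib.Helper4

theorem fix_iff {G : Type*} [Group G] (H : Subgroup G) (t g : G) :
    t • (g : G ⧸ H) = (g : G ⧸ H) ↔ g⁻¹ * t * g ∈ H := by
  have h1 : t • (g : G ⧸ H) = ((t * g : G) : G ⧸ H) := rfl
  rw [h1, QuotientGroup.eq]
  rw [← H.inv_mem_iff]
  have : ((t * g)⁻¹ * g)⁻¹ = g⁻¹ * t * g := by simp [mul_assoc]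
  rw [this]

/-- Let H be a proper subgroup of even order of the finite group G. Then H is strongly embedded if and only if each involution of H fixes exactly one point (namely the coset H) in the action of G on the cosets of H. -/
theorem result {G : Type*} [Group G] [Finite G] (H : Subgroup G) (hH : H ≠ ⊤) (heven : Even (Nat.card H)) : Cfsg.IsStronglyEmbedded H ↔ ∀ t ∈ H, orderOf t = 2 → Nat.card {c : G ⧸ H // t • c = c} = 1 := by
  rw [stronglyEmbedded_iff]
  constructor
  · rintro ⟨_, _, hse⟩ t htH ht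
    rw [Nat.card_eq_one_iff_unique]
    refine ⟨⟨?_⟩, ⟨⟨((1 : G) : G ⧸ H), ?_⟩⟩⟩
    · rintro ⟨c, hc⟩ ⟨c', hc'⟩
      rw [Subtype.mk.injEq]
      induction c using QuotientGroup.induction_on with
      | H g =>
      induction c' using QuotientGroup.induction_on with
      | H g' =>
      rw [fix_iff] at hc hc'
      have hg : g ∈ H := by
        by_contra hgH
        exact hse g hgH t ht htH hc
      have hg' : g' ∈ H := by
        by_contra hgH
        exact hse g' hgH t ht htH hc'
      rw [QuotientGroup.eq]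
      exact H.mul_mem (H.inv_mem hg) hg'
    · rw [fix_iff]
      simpa using htH
  · intro h
    refine ⟨hH, heven, ?_⟩
    intro g hgH s hs hsH hgs
    have h1 := h s hsH hs
    rw [Nat.card_eq_one_iff_unique] at h1
    obtain ⟨hsub, _⟩ := h1
    have e1 : s • ((1 : G) : G ⧸ H) = ((1 : G) : G ⧸ H) := by
      rw [fix_iff]; simpa using hsH
    have e2 : s • (g : G ⧸ H) = (g : G ⧸ H) := by
      rw [fix_iff]; exact hgs
    have := hsub.elim ⟨_, e1⟩ ⟨_, e2⟩
    rw [Subtype.mk.injEq, QuotientGroup.eq] at this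
    apply hgH
    simpa using this

end Cfsg.Agent.S0224
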