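import Cfsg.Statements.S0226
import Mathlib

set_option autoImplicit false
open Cfsg

namespace Cfsg.Agent.S0226

theorem orderOf_eq_two_iff' {G : Type*} [Group G] (t : G) : orderOf t = 2 ↔ t ≠ 1 ∧ t⁻¹ = t := by
  constructor
  · intro h
    refine ⟨?_, ?_⟩
    · rintro rfl; simp at h
    · have := pow_orderOf_eq_one t
      rw [h, pow_two] at this
      exact inv_eq_of_mul_eq_one_left this
  · rintro ⟨h1, h2⟩
    apply orderOf_eq_prime
    · rw [pow_two]; nth_rewrite 1 [← h2]; exact inv_mul_cancel t
    · exact h1

/-- A finite group of even order has an odd number of involutions. -/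
theorem result {G : Type*} [Group G] [Finite G] (heven : Even (Nat.card G)) : Odd (Nat.card {t : G // orderOf t = 2}) := by
  classical
  haveI := Fintype.ofFinite G
  let f : Function.End G := fun g => g⁻¹
  have hf : f ^ 2 ^ 1 = 1 := by
    rw [pow_one, pow_two]
    funext g
    show (g⁻¹)⁻¹ = g
    simp
  haveI : Fact (Nat.Prime 2) := ⟨Nat.prime_two⟩
  have key := Equiv.Perm.card_fixedPoints_modEq (p := 2) (n := 1) hf
  rw [← Nat.card_eq_fintype_card, ← Nat.card_eq_fintype_card] at key
  -- fixed points = {1} ∪ involutions
  have hcard : Nat.card (Function.fixedPoints f) = Nat.card {t : G // orderOf t = 2} + 1 := by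
    have e : Function.fixedPoints f ≃ Option {t : G // orderOf t = 2} :=
      { toFun := fun g => if h : (g : G) = 1 then none else
          some ⟨g, (orderOf_eq_two_iff' _).2 ⟨h, g.2⟩⟩
        invFun := fun o => match o with
          | none => ⟨1, by show (1 : G)⁻¹ = 1; simp⟩
          | some t => ⟨t, ((orderOf_eq_two_iff' _).1 t.2).2⟩
        left_inv := by
          intro g
          by_cases h : (g : G) = 1
          · simp only [h, dite_true]
            exact Subtype.ext h.symm
          · simp only [h, dite_false]
        right_inv := by
          intro o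
          cases o with
          | none => simp
          | some t =>
            have : (t : G) ≠ 1 := ((orderOf_eq_two_iff' _).1 t.2).1
            simp [this] }
    rw [Nat.card_congr e, Finite.card_option]
  rw [hcard] at key
  have h2 : (Nat.card {t : G // orderOf t = 2} + 1) % 2 = 0 := by
    have := key.symm
    unfold Nat.ModEq at this
    rw [this]
    exact Nat.even_iff.1 heven
  rw [Nat.odd_iff]
  omega

end Cfsg.Agent.S0226
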