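import Cfsg.Statements.S0229
import Cfsg.Agent.Lib.Helper4.Dihedral
import Cfsg.Agent.Lib.Helper4.SylowConj
import Cfsg.Agent.Lib.Helper4.Conj
import Cfsg.Agent.S0206
import Cfsg.Agent.S0208
import Cfsg.Agent.S0209
import Cfsg.Agent.S0211

set_option autoImplicit false
open Cfsg

namespace Cfsg.Agent.S0229

open Cfsg.Agent.Lib.Helper4

/-- Let t be an involution of a Sylow 2-subgroup S of a finite group G, conjugate in G to no other element of S, and let s be an involution of G not conjugate to t. Then the order of st is twice an odd number. -/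
theorem result {G : Type*} [Group G] [Finite G] (S : Sylow 2 G) (t : G) (ht : orderOf t = 2) (htS : t ∈ S) (hiso : ∀ g : G, g * t * g⁻¹ ∈ S → g * t * g⁻¹ = t) (s : G) (hs : orderOf s = 2) (hns : ¬ IsConj s t) : orderOf (s * t) % 4 = 2 := by
  haveI : Fact (Nat.Prime 2) := ⟨Nat.prime_two⟩
  have ht' := mul_self_of_orderOf_two ht
  have hs' := mul_self_of_orderOf_two hs
  have hcomm : orderOf (s * t) = orderOf (t * s) := orderOf_mul_comm' s t
  -- even
  have heven : Even (orderOf (t * s)) := by
    by_contra hodd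
    rw [Nat.not_even_iff_odd, ← hcomm] at hodd
    obtain ⟨d, _, hd⟩ := Cfsg.Agent.S0208.result s t hs ht hodd
    exact hns (isConj_iff.2 ⟨d, hd⟩)
  have hnot4 : ¬ 4 ∣ orderOf (t * s) := by
    intro h4
    obtain ⟨d, _, hd⟩ := (Cfsg.Agent.S0211.result t s ht hs heven).2 h4
    obtain ⟨hzord, hzt, _⟩ := Cfsg.Agent.S0209.result t s ht hs heven
    set z := (t * s) ^ (orderOf (t * s) / 2) with hz
    have hz' := mul_self_of_orderOf_two hzord
    have hword : orderOf (t * z) = 2 := by rw [← hd, orderOf_conj, ht]
    have htw : t * (t * z) = z := by rw [← mul_assoc, ht', one_mul]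
    have hcard : Nat.card (Subgroup.closure ({t, t * z} : Set G)) = 2 ^ 2 := by
      rw [Cfsg.Agent.S0206.card_closure_pair t (t * z) ht hword, htw, hzord]; norm_num
    have hE : IsPGroup 2 (Subgroup.closure ({t, t * z} : Set G)) := IsPGroup.of_card hcard
    obtain ⟨h, hh⟩ := exists_conj_mem_sylow S _ hE
    have h1 := hh t (Subgroup.subset_closure (by simp))
    have h2 := hh (t * z) (Subgroup.subset_closure (by simp))
    have e1 : h⁻¹ * t * h = t := by
      have := hiso h⁻¹ (by rw [inv_inv]; exact h1)
      rwa [inv_inv] at this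
    have e2 : h⁻¹ * (t * z) * h = t := by
      have hrw : h⁻¹ * (t * z) * h = (h⁻¹ * d) * t * (h⁻¹ * d)⁻¹ := by
        rw [← hd]; simp [mul_assoc]
      rw [hrw]
      apply hiso
      rw [← hrw]
      exact h2
    have h3 : t = t * z := mul_left_cancel (mul_right_cancel (e1.trans e2.symm))
    have h4' : z = 1 := by
      have := mul_left_cancel (a := t) (b := 1) (c := z) (by rw [mul_one]; exact h3)
      exact this.symm
    exact ne_one_of_orderOf_two hzord h4'
  rw [hcomm]
  obtain ⟨k, hk⟩ := heven
  omega

end Cfsg.Agent.S0229
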