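import Cfsg.Statements.S0230
import Cfsg.Agent.Lib.Helper4.Dihedral
import Cfsg.Agent.Lib.Helper4.Conj
import Cfsg.Agent.Lib.Helper4.ClassCount
import Cfsg.Agent.S0208
import Cfsg.Agent.S0209

set_option autoImplicit false
open Cfsg

namespace Cfsg.Agent.S0230

open Cfsg.Agent.Lib.Helper4

/-- Let G be a finite group with two non-conjugate involutions, and let t be an involution whose centralizer has maximal order among centralizers of involutions. Then |G| < |C_G(t)|^3. -/
theorem result {G : Type*} [Group G] [Finite G] (s t : G) (hs : orderOf s = 2) (ht : orderOf t = 2) (hnc : ¬ IsConj s t) (hmax : ∀ u : G, orderOf u = 2 → Nat.card (Subgroup.centralizer ({u} : Set G)) ≤ Nat.card (Subgroup.centralizer ({t} : Set G))) : Nat.card G < Nat.card (Subgroup.centralizer ({t} : Set G)) ^ 3 := by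
  classical
  haveI := Fintype.ofFinite G
  set m := Nat.card (Subgroup.centralizer ({t} : Set G)) with hm
  have hmpos : 0 < m := Nat.card_pos
  let zf : G → G := fun v => (s * v) ^ (orderOf (s * v) / 2)
  let clt : Finset G := Finset.univ.filter (fun v => IsConj t v)
  let Z : Finset G := Finset.univ.filter (fun z => z ∈ Subgroup.centralizer ({s} : Set G) ∧ z ≠ 1)
  have hprop : ∀ v ∈ clt, orderOf (zf v) = 2 ∧ Commute (zf v) s ∧ Commute (zf v) v := by
    intro v hv
    have hv' : IsConj t v := (Finset.mem_filter.1 hv).2
    have hvord : orderOf v = 2 := by rw [← orderOf_of_isConj hv', ht]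
    have heven : Even (orderOf (s * v)) := by
      by_contra hodd
      rw [Nat.not_even_iff_odd] at hodd
      obtain ⟨d, _, hd⟩ := Cfsg.Agent.S0208.result s v hs hvord hodd
      exact hnc ((isConj_iff.2 ⟨d, hd⟩).trans hv'.symm)
    exact Cfsg.Agent.S0209.result s v hs hvord heven
  have hmaps : ∀ v ∈ clt, zf v ∈ Z := by
    intro v hv
    obtain ⟨h1, h2, _⟩ := hprop v hv
    refine Finset.mem_filter.2 ⟨Finset.mem_univ _, ?_, ne_one_of_orderOf_two h1⟩
    rw [Subgroup.mem_centralizer_singleton_iff]
    exact h2.eq
  have hcard := Finset.card_eq_sum_card_fiberwise hmaps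
  have hfiber : ∀ z ∈ Z, (clt.filter (fun v => zf v = z)).card ≤ m := by
    intro z _
    by_cases hne : (clt.filter (fun v => zf v = z)).Nonempty
    · obtain ⟨v₀, hv₀⟩ := hne
      rw [Finset.mem_filter] at hv₀
      have hzord : orderOf z = 2 := by rw [← hv₀.2]; exact (hprop v₀ hv₀.1).1
      have hsub : clt.filter (fun v => zf v = z) ⊆
          Finset.univ.filter (fun v => v ∈ Subgroup.centralizer ({z} : Set G)) := by
        intro v hv
        rw [Finset.mem_filter] at hv
        refine Finset.mem_filter.2 ⟨Finset.mem_univ _, ?_⟩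
        rw [Subgroup.mem_centralizer_singleton_iff, ← hv.2]
        exact ((hprop v hv.1).2.2).eq.symm
      calc (clt.filter (fun v => zf v = z)).card
          ≤ (Finset.univ.filter (fun v => v ∈ Subgroup.centralizer ({z} : Set G))).card :=
            Finset.card_le_card hsub
        _ = Nat.card (Subgroup.centralizer ({z} : Set G)) := by
            rw [Nat.card_eq_fintype_card, Fintype.card_subtype]
        _ ≤ m := hmax z hzord
    · rw [Finset.not_nonempty_iff_eq_empty] at hne
      rw [hne, Finset.card_empty]
      exact Nat.zero_le _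
  have hZcard : Z.card + 1 = Nat.card (Subgroup.centralizer ({s} : Set G)) := by
    rw [Nat.card_eq_fintype_card, Fintype.card_subtype]
    have : Finset.univ.filter (fun z => z ∈ Subgroup.centralizer ({s} : Set G)) = insert 1 Z := by
      ext z
      simp only [Finset.mem_filter, Finset.mem_univ, true_and, Finset.mem_insert, Z]
      constructor
      · intro h
        by_cases h1 : z = 1
        · left; exact h1
        · right; exact ⟨h, h1⟩
      · rintro (rfl | h)
        · exact Subgroup.one_mem _
        · exact h.1
    rw [this, Finset.card_insert_of_notMem]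
    simp [Z]
  have hZlt : Z.card < m := by
    have := hmax s hs
    omega
  have hclt : clt.card < m * m := by
    calc clt.card = ∑ z ∈ Z, (clt.filter (fun v => zf v = z)).card := hcard
      _ ≤ ∑ _z ∈ Z, m := Finset.sum_le_sum hfiber
      _ = Z.card * m := by rw [Finset.sum_const, smul_eq_mul]
      _ < m * m := Nat.mul_lt_mul_of_pos_right hZlt hmpos
  have hcl : clt.card = Nat.card {v : G // IsConj t v} := by
    rw [Nat.card_eq_fintype_card, Fintype.card_subtype]
  have horb := card_conj_mul_card_centralizer t
  rw [← hcl, ← hm] at horb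
  rw [← horb]
  calc clt.card * m < m * m * m := Nat.mul_lt_mul_of_pos_right hclt hmpos
    _ = m ^ 3 := by ring

end Cfsg.Agent.S0230
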