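import Cfsg.Statements.S0231
import Cfsg.Agent.Lib.Helper4.Dihedral
import Cfsg.Agent.Lib.Helper4.SylowConj
import Cfsg.Agent.Lib.Helper4.InvPair
import Cfsg.Agent.S0208
import Cfsg.Agent.S0209

set_option autoImplicit false
open Cfsg
open scoped Pointwise

namespace Cfsg.Agent.S0231

open Cfsg.Agent.Lib.Helper4

section
variable {G : Type*} [Group G] [Finite G] (T : Sylow 2 G)
  (hTI : ∀ g : G, MulAut.conj g • (T : Subgroup G) ≠ T → MulAut.conj g • (T : Subgroup G) ⊓ T = ⊥)

include hTI

/-- The TI property for any two distinct Sylow 2-subgroups. -/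
theorem ti_pair (Q₁ Q₂ : Sylow 2 G) (x : G) (h1 : x ∈ (Q₁ : Subgroup G)) (h2 : x ∈ (Q₂ : Subgroup G))
    (hx : x ≠ 1) : Q₁ = Q₂ := by
  haveI : Fact (Nat.Prime 2) := ⟨Nat.prime_two⟩
  by_contra hne
  obtain ⟨a, ha⟩ := MulAction.exists_smul_eq G T Q₁
  obtain ⟨b, hb⟩ := MulAction.exists_smul_eq G T Q₂
  rw [← ha] at h1
  rw [← hb] at h2
  rw [mem_sylow_smul_iff] at h1 h2
  have hne' : MulAut.conj (a⁻¹ * b) • (T : Subgroup G) ≠ T := by
    intro h
    apply hne
    rw [← ha, ← hb]
    have h' : ((a⁻¹ * b) • T : Sylow 2 G) = T := by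
      apply Sylow.ext
      rw [Sylow.coe_subgroup_smul]
      exact h
    rw [mul_smul, inv_smul_eq_iff] at h'
    exact h'.symm
  have hbot := hTI _ hne'
  have hmem : a⁻¹ * x * a ∈ MulAut.conj (a⁻¹ * b) • (T : Subgroup G) ⊓ T := by
    refine ⟨?_, h1⟩
    rw [← Sylow.coe_subgroup_smul]
    show a⁻¹ * x * a ∈ (((a⁻¹ * b) • T : Sylow 2 G) : Subgroup G)
    rw [mem_sylow_smul_iff]
    have : (a⁻¹ * b)⁻¹ * (a⁻¹ * x * a) * (a⁻¹ * b) = b⁻¹ * x * b := by simp [mul_assoc]
    rw [this]
    exact h2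
  rw [hbot, Subgroup.mem_bot] at hmem
  apply hx
  have := congrArg (fun y => a * y * a⁻¹) hmem
  simpa [mul_assoc] using this

/-- Two involutions not in a common Sylow 2-subgroup are conjugate. -/
theorem conj_of_not_common (s t : G) (hs : orderOf s = 2) (ht : orderOf t = 2)
    (hnc : ∀ Q : Sylow 2 G, s ∈ (Q : Subgroup G) → t ∈ (Q : Subgroup G) → False) : IsConj s t := by
  by_cases hodd : Odd (orderOf (s * t))
  · obtain ⟨d, _, hd⟩ := Cfsg.Agent.S0208.result s t hs ht hodd
    exact isConj_iff.2 ⟨d, hd⟩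
  · exfalso
    rw [Nat.not_odd_iff_even] at hodd
    obtain ⟨hzord, hzs, hzt⟩ := Cfsg.Agent.S0209.result s t hs ht hodd
    set z := (s * t) ^ (orderOf (s * t) / 2) with hz
    obtain ⟨Q₁, hs1, hz1⟩ := exists_sylow_of_commuting_involutions s z hs hzord hzs.symm
    obtain ⟨Q₂, ht2, hz2⟩ := exists_sylow_of_commuting_involutions t z ht hzord hzt.symm
    have := ti_pair T hTI Q₁ Q₂ z hz1 hz2 (ne_one_of_orderOf_two hzord)
    subst this
    exact hnc Q₁ hs1 ht2

end

/-- Let T be a Sylow 2-subgroup of the finite group G which is not normal and which intersects every other Sylow 2-subgroup trivially. Then G has a single conjugacy class of involutions. -/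
theorem result {G : Type*} [Group G] [Finite G] (T : Sylow 2 G) (hnn : ¬ (T : Subgroup G).Normal) (hTI : ∀ g : G, MulAut.conj g • (T : Subgroup G) ≠ T → MulAut.conj g • (T : Subgroup G) ⊓ T = ⊥) (s t : G) (hs : orderOf s = 2) (ht : orderOf t = 2) : IsConj s t := by
  haveI : Fact (Nat.Prime 2) := ⟨Nat.prime_two⟩
  by_cases hcommon : ∃ Q : Sylow 2 G, s ∈ (Q : Subgroup G) ∧ t ∈ (Q : Subgroup G)
  · obtain ⟨Q, hsQ, htQ⟩ := hcommon
    -- another Sylow subgroup
    have hex : ∃ Q' : Sylow 2 G, Q' ≠ Q := by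
      by_contra hall
      push_neg at hall
      apply hnn
      haveI : Subsingleton (Sylow 2 G) := ⟨fun A B => (hall A).trans (hall B).symm⟩
      exact Sylow.normal_of_subsingleton T
    obtain ⟨Q', hQ'⟩ := hex
    -- Q' contains an involution
    have h2dvd : 2 ∣ Nat.card (Q' : Subgroup G) := by
      rcases Q'.isPGroup'.card_eq_or_dvd with h | h
      · exfalso
        rw [Sylow.card_eq_multiplicity] at h
        have h2 : Nat.card (Q : Subgroup G) = 1 := by rw [Sylow.card_eq_multiplicity, h]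
        rw [Subgroup.card_eq_one] at h2
        rw [h2, Subgroup.mem_bot] at hsQ
        exact ne_one_of_orderOf_two hs hsQ
      · exact h
    obtain ⟨u, hu⟩ := exists_prime_orderOf_dvd_card' 2 h2dvd
    have hu' : orderOf (u : G) = 2 := by rw [Subgroup.orderOf_coe, hu]
    have h1 : IsConj s (u : G) := by
      apply conj_of_not_common T hTI s u hs hu'
      intro R hsR huR
      have e1 := ti_pair T hTI R Q s hsR hsQ (ne_one_of_orderOf_two hs)
      have e2 := ti_pair T hTI R Q' u huR u.2 (ne_one_of_orderOf_two hu')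
      exact hQ' (e2.symm.trans e1)
    have h2 : IsConj t (u : G) := by
      apply conj_of_not_common T hTI t u ht hu'
      intro R htR huR
      have e1 := ti_pair T hTI R Q t htR htQ (ne_one_of_orderOf_two ht)
      have e2 := ti_pair T hTI R Q' u huR u.2 (ne_one_of_orderOf_two hu')
      exact hQ' (e2.symm.trans e1)
    exact h1.trans h2.symm
  · push_neg at hcommon
    exact conj_of_not_common T hTI s t hs ht (fun Q h1 h2 => hcommon Q h1 h2)

end Cfsg.Agent.S0231
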