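import Mathlib
import Cfsg.Statements.S0232
import Cfsg.Agent.S0213
import Cfsg.Agent.S0233

set_option autoImplicit false
open Cfsg

namespace Cfsg.Agent.S0232

universe u

lemma index_two_case {G : Type u} [Group G] [Finite G] (N : ℕ) (hN : Nat.card G = N) (hgt : 2 < N)
    (K : Subgroup G) (hK : K.index = 2) : ∃ H : Subgroup G, H ≠ ⊤ ∧ N < (Nat.card H) ^ 3 := by
  refine ⟨K, ?_, ?_⟩
  · intro h
    rw [h, Subgroup.index_top] at hK
    norm_num at hK
  · have h1 := K.card_mul_index
    rw [hK, hN] at h1
    set k := Nat.card K
    have hk : 2 ≤ k := by omega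
    have h2 : 4 ≤ k ^ 2 := by nlinarith
    have h3 : k ^ 3 = k * k ^ 2 := by ring
    nlinarith

theorem aux : ∀ N : ℕ, ∀ (G : Type u) [Group G] [Finite G], Nat.card G = N → Even N → 2 < N →
    ∃ H : Subgroup G, H ≠ ⊤ ∧ N < (Nat.card H) ^ 3 := by
  intro N
  induction N using Nat.strong_induction_on with
  | _ N ih =>
    intro G _ _ hN heven hgt
    classical
    by_cases hidx2 : ∃ K : Subgroup G, K.index = 2
    · obtain ⟨K, hK⟩ := hidx2
      exact index_two_case N hN hgt K hK
    push Not at hidx2
    have hNpos : 0 < N := by omega
    have h2dvd : 2 ∣ Nat.card G := by rw [hN]; exact even_iff_two_dvd.mp heven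
    by_cases hZ : Odd (Nat.card (Subgroup.center G))
    · -- odd centre
      obtain ⟨H, hH, hcase⟩ := Cfsg.Agent.S0233.result (G := G) (by rw [hN]; exact heven) hZ
      rcases hcase with h2 | hlt
      · exact absurd h2 (hidx2 H)
      rw [hN] at hlt
      set n := Nat.card {s : G // orderOf s = 2} with hn
      by_cases hbig : ∃ t : G, orderOf t = 2 ∧ N < (Nat.card (Subgroup.centralizer ({t} : Set G))) ^ 3
      · obtain ⟨t, ht, hlt'⟩ := hbig
        refine ⟨Subgroup.centralizer ({t} : Set G), ?_, hlt'⟩
        intro htop
        have hcen : t ∈ Subgroup.center G := by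
          rw [Subgroup.mem_center_iff]
          intro x
          have hx : x ∈ Subgroup.centralizer ({t} : Set G) := by rw [htop]; trivial
          rw [Subgroup.mem_centralizer_singleton_iff] at hx
          exact hx
        have hdvd : orderOf (⟨t, hcen⟩ : Subgroup.center G) ∣ Nat.card (Subgroup.center G) :=
          orderOf_dvd_natCard _
        have : orderOf (⟨t, hcen⟩ : Subgroup.center G) = 2 := by
          rw [← ht]; exact Subgroup.orderOf_mk t hcen
        rw [this] at hdvd
        exact (Nat.not_even_iff_odd.mpr hZ) (even_iff_two_dvd.mpr hdvd)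
      · push Not at hbig
        have : Fact (Nat.Prime 2) := ⟨Nat.prime_two⟩
        obtain ⟨t, ht⟩ := exists_prime_orderOf_dvd_card' (G := G) 2 h2dvd
        set c := Nat.card (Subgroup.centralizer ({t} : Set G)) with hc
        have hc3 : c ^ 3 ≤ N := hbig t ht
        have hcpos : 0 < c := Nat.card_pos
        have hclass : Nat.card {h : G // IsConj t h} * c = N := by
          rw [← hN]; exact Cfsg.Agent.S0213.card_class_mul_card_centralizer t
        have hcln : Nat.card {h : G // IsConj t h} ≤ n := by
          apply Nat.card_le_card_of_injective (fun h : {h : G // IsConj t h} =>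
            (⟨h.1, by
              obtain ⟨g, hg⟩ := isConj_iff.mp h.2
              rw [← hg, Cfsg.Agent.S0213.orderOf_conj', ht]⟩ : {s : G // orderOf s = 2}))
          intro a b hab
          simp only [Subtype.mk.injEq] at hab
          exact Subtype.ext hab
        have hNcn : N ≤ n * c := by
          calc N = Nat.card {h : G // IsConj t h} * c := hclass.symm
            _ ≤ n * c := Nat.mul_le_mul_right _ hcln
        have hnpos : 0 < n := by
          rcases Nat.eq_zero_or_pos n with h | h
          · rw [h, zero_mul] at hNcn; omega
          · exact h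
        have h4 : N * (N + n) ≤ (n * c) * (n * c + n) := Nat.mul_le_mul hNcn (by omega)
        have h5 : 2 * H.index * n ^ 2 < c * (c + 1) * n ^ 2 := by
          calc 2 * H.index * n ^ 2 < N * (N + n) := hlt
            _ ≤ (n * c) * (n * c + n) := h4
            _ = c * (c + 1) * n ^ 2 := by ring
        have h6 : 2 * H.index < c * (c + 1) := Nat.lt_of_mul_lt_mul_right h5
        set i := H.index with hi
        set h := Nat.card H with hh
        have hhi : h * i = N := by rw [← hN]; exact H.card_mul_index
        have hic : i < c ^ 2 := by nlinarith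
        have h7 : i ^ 3 < (c ^ 2) ^ 3 := Nat.pow_lt_pow_left hic (by norm_num)
        have h8 : (c ^ 2) ^ 3 = (c ^ 3) ^ 2 := by ring
        have h9 : (c ^ 3) ^ 2 ≤ N ^ 2 := Nat.pow_le_pow_left hc3 2
        have h10 : i ^ 3 < N ^ 2 := by omega
        refine ⟨H, hH, ?_⟩
        by_contra hle
        push Not at hle
        have h11 : N ^ 3 = h ^ 3 * i ^ 3 := by rw [← hhi]; ring
        have h12 : h ^ 3 * i ^ 3 ≤ N * i ^ 3 := Nat.mul_le_mul_right _ hle
        have h13 : N * i ^ 3 < N * N ^ 2 := Nat.mul_lt_mul_of_pos_left h10 hNpos
        have h14 : N * N ^ 2 = N ^ 3 := by ring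
        omega
    · -- even centre
      have hZeven : 2 ∣ Nat.card (Subgroup.center G) := by
        rw [← even_iff_two_dvd]; exact Nat.not_odd_iff_even.mp hZ
      have : Fact (Nat.Prime 2) := ⟨Nat.prime_two⟩
      obtain ⟨z', hz'⟩ := exists_prime_orderOf_dvd_card' (G := Subgroup.center G) 2 hZeven
      set z : G := (z' : G) with hzdef
      have hz : orderOf z = 2 := by rw [hzdef, Subgroup.orderOf_coe, hz']
      have hzc : z ∈ Subgroup.center G := z'.2
      have hnormal : (Subgroup.zpowers z).Normal := by
        constructor
        intro x hx g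
        have hxc : x ∈ Subgroup.center G := (Subgroup.zpowers_le.mpr hzc) hx
        rw [Subgroup.mem_center_iff] at hxc
        rw [hxc g]
        simpa using hx
      have hcardZ : Nat.card (Subgroup.zpowers z) = 2 := by rw [Nat.card_zpowers, hz]
      set Q := G ⧸ Subgroup.zpowers z with hQ
      set M := Nat.card Q with hM
      have hMN : M * 2 = N := by
        have := Subgroup.card_eq_card_quotient_mul_card_subgroup (Subgroup.zpowers z)
        rw [hcardZ, hN] at this
        exact this.symm
      have hidxZ : (Subgroup.zpowers z).index = M := Subgroup.index_eq_card _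
      rcases Nat.even_or_odd M with hMe | hMo
      · -- induction on the quotient
        have hM2 : M ≠ 2 := by
          intro h
          exact hidx2 (Subgroup.zpowers z) (by rw [hidxZ, h])
        have hMgt : 2 < M := by
          obtain ⟨k, hk⟩ := hMe
          omega
        obtain ⟨Hb, hHb, hlt⟩ := ih M (by omega) Q rfl hMe hMgt
        have hsurj : Function.Surjective (QuotientGroup.mk' (Subgroup.zpowers z)) :=
          QuotientGroup.mk'_surjective _
        refine ⟨Hb.comap (QuotientGroup.mk' (Subgroup.zpowers z)), ?_, ?_⟩
        · intro htop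
          apply hHb
          have := Subgroup.map_comap_eq_self_of_surjective hsurj Hb
          rw [htop, Subgroup.map_top_of_surjective _ hsurj] at this
          exact this.symm
        · have hidx : (Hb.comap (QuotientGroup.mk' (Subgroup.zpowers z))).index = Hb.index :=
            Subgroup.index_comap_of_surjective Hb hsurj
          have h1 := (Hb.comap (QuotientGroup.mk' (Subgroup.zpowers z))).card_mul_index
          have h2 := Hb.card_mul_index
          rw [hidx, hN] at h1
          rw [← hM] at h2
          set a := Nat.card (Hb.comap (QuotientGroup.mk' (Subgroup.zpowers z)))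
          set b := Nat.card Hb
          set j := Hb.index
          have hjpos : 0 < j := by
            rcases Nat.eq_zero_or_pos j with h | h
            · rw [h, mul_zero] at h2; omega
            · exact h
          have hab : a = 2 * b := by
            have : a * j = (2 * b) * j := by rw [h1, ← hMN, ← h2]; ring
            exact Nat.eq_of_mul_eq_mul_right hjpos this
          rw [hab]
          have : (2 * b) ^ 3 = 8 * b ^ 3 := by ring
          omega
      · -- Sylow 2-subgroup of order 2: normal complement of index 2
        exfalso
        have hminFac : (Nat.card G).minFac = 2 := (Nat.minFac_eq_two_iff _).mpr h2dvd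
        obtain ⟨P⟩ : Nonempty (Sylow 2 G) := inferInstance
        have hPcard : Nat.card P = 2 := by
          rw [Sylow.card_eq_multiplicity, hN, ← hMN]
          have hM0 : M ≠ 0 := by
            rintro h; rw [h] at hMN; omega
          rw [Nat.factorization_mul hM0 (by norm_num)]
          simp only [Finsupp.coe_add, Pi.add_apply]
          rw [Nat.factorization_eq_zero_of_not_dvd (by
            rw [← even_iff_two_dvd, Nat.not_even_iff_odd]; exact hMo)]
          rw [Nat.Prime.factorization_self Nat.prime_two]
          norm_num
        have hPcyc : IsCyclic P := isCyclic_of_prime_card hPcard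
        have hcomp := IsCyclic.isComplement' hminFac hPcyc
        have hidx := hcomp.symm.index_eq_card
        rw [hPcard] at hidx
        exact hidx2 _ hidx

theorem result {G : Type*} [Group G] [Finite G] (heven : Even (Nat.card G)) (hgt : 2 < Nat.card G) : ∃ H : Subgroup G, H ≠ ⊤ ∧ Nat.card G < (Nat.card H) ^ 3 :=
  aux (Nat.card G) G rfl heven hgt

end Cfsg.Agent.S0232
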