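import Mathlib
import Cfsg.Statements.S0234
import Cfsg.Agent.S0233
import Cfsg.Agent.Lib.Helper17.SylowTools
import Cfsg.Agent.Lib.Helper5.Order60

set_option autoImplicit false
open Cfsg

namespace Cfsg.Agent.S0234

open Cfsg.Agent.Lib.Helper17

lemma card_involutions_alt5 :
    Nat.card {σ : alternatingGroup (Fin 5) // orderOf σ = 2} = 15 := by
  have e : {σ : alternatingGroup (Fin 5) // orderOf σ = 2} ≃
      {τ : Equiv.Perm (Fin 5) // Equiv.Perm.sign τ = 1 ∧ τ * τ = 1 ∧ τ ≠ 1} :=
    { toFun := fun σ => ⟨σ.1.1, Equiv.Perm.mem_alternatingGroup.mp σ.1.2, by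
        have h := pow_orderOf_eq_one σ.1
        rw [σ.2, sq] at h
        exact congrArg Subtype.val h, by
        intro h1
        have : σ.1 = 1 := Subtype.ext h1
        have h2 := σ.2
        rw [this, orderOf_one] at h2
        norm_num at h2⟩
      invFun := fun τ => ⟨⟨τ.1, Equiv.Perm.mem_alternatingGroup.mpr τ.2.1⟩, by
        apply orderOf_eq_prime
        · rw [sq]; exact Subtype.ext τ.2.2.1
        · intro h; exact τ.2.2.2 (congrArg Subtype.val h)⟩
      left_inv := fun σ => rfl
      right_inv := fun τ => rfl }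
  rw [Nat.card_congr e, Nat.card_eq_fintype_card, Fintype.card_subtype]
  decide

/-- A non-commutative simple group has no proper subgroup of small index compared to its order. -/
lemma no_subgroup {G : Type*} [Group G] [Finite G] [IsSimpleGroup G] (hG : ¬ IsMulCommutative G)
    (K : Subgroup G) (j : ℕ) (hK : K.index = j) (hj : 1 < j) (hnd : ¬ 2 * Nat.card G ∣ j.factorial) :
    False := by
  apply hnd
  rw [← hK]
  apply two_mul_card_dvd_factorial_of_simple hG K
  intro h
  rw [h, Subgroup.index_top] at hK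
  omega

lemma cauchy_subgroup {G : Type*} [Group G] [Finite G] (p : ℕ) [Fact p.Prime] (N j : ℕ)
    (hN : Nat.card G = N) (hNp : N = p * j) : ∃ K : Subgroup G, K.index = j := by
  obtain ⟨x, hx⟩ := exists_prime_orderOf_dvd_card' (G := G) p (by rw [hN, hNp]; exact Dvd.intro _ rfl)
  refine ⟨Subgroup.zpowers x, ?_⟩
  have h1 := (Subgroup.zpowers x).card_mul_index
  rw [Nat.card_zpowers, hx, hN, hNp] at h1
  exact Nat.eq_of_mul_eq_mul_left (Fact.out : p.Prime).pos h1

theorem result {G : Type*} [Group G] [Finite G] [IsSimpleGroup G] (heven : Even (Nat.card G)) (hgt : 2 < Nat.card G) : 3 * Nat.card {t : G // orderOf t = 2} < Nat.card G := by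
  classical
  by_contra hle
  push Not at hle
  set N := Nat.card G with hN
  set n := Nat.card {t : G // orderOf t = 2} with hn
  have h2dvd : 2 ∣ N := even_iff_two_dvd.mp heven
  have hnp : ¬ N.Prime := by
    intro hp
    rcases hp.eq_one_or_self_of_dvd 2 h2dvd with h | h
    · norm_num at h
    · omega
  have hG : ¬ IsMulCommutative G := not_comm_of_simple_of_not_prime hnp
  have hZ : Subgroup.center G = ⊥ := by
    rcases IsSimpleGroup.eq_bot_or_eq_top_of_normal (Subgroup.center G) inferInstance with h | h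
    · exact h
    · exfalso
      apply hG
      refine ⟨⟨fun a b => ?_⟩⟩
      have ha : a ∈ Subgroup.center G := by rw [h]; trivial
      rw [Subgroup.mem_center_iff] at ha
      exact (ha b).symm
  have hZodd : Odd (Nat.card (Subgroup.center G)) := by rw [hZ]; simp
  obtain ⟨H, hH, hcase⟩ := Cfsg.Agent.S0233.result heven hZodd
  have hnpos : 0 < n := by
    rcases Nat.eq_zero_or_pos n with h | h
    · rw [h] at hle; omega
    · exact h
  have hidx5 : H.index ≤ 5 := by
    rcases hcase with h | h
    · omega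
    · have h' : 2 * H.index * n ^ 2 < N * (N + n) := h
      by_contra h6
      push Not at h6
      have h1 : N * (N + n) ≤ (3 * n) * (3 * n + n) := Nat.mul_le_mul hle (by omega)
      have h2 : 2 * 6 * n ^ 2 ≤ 2 * H.index * n ^ 2 := by
        apply Nat.mul_le_mul_right; omega
      have h3 : (3 * n) * (3 * n + n) = 12 * n ^ 2 := by ring
      have h4 : 12 * n ^ 2 < 12 * n ^ 2 :=
        calc 12 * n ^ 2 = 2 * 6 * n ^ 2 := by ring
          _ ≤ 2 * H.index * n ^ 2 := h2
          _ < N * (N + n) := h'
          _ ≤ (3 * n) * (3 * n + n) := h1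
          _ = 12 * n ^ 2 := h3
      exact lt_irrefl _ h4
  have hdvd : 2 * N ∣ (H.index).factorial := two_mul_card_dvd_factorial_of_simple hG H hH
  have hdvd120 : 2 * N ∣ 120 := by
    have : (H.index).factorial ∣ (5 : ℕ).factorial := Nat.factorial_dvd_factorial hidx5
    exact hdvd.trans this
  have hN60 : N ∣ 60 := by
    exact Nat.dvd_of_mul_dvd_mul_left (show 0 < 2 by norm_num) (show 2 * N ∣ 2 * 60 from hdvd120)
  have hcases : N = 4 ∨ N = 6 ∨ N = 10 ∨ N = 12 ∨ N = 20 ∨ N = 30 ∨ N = 60 := by
    obtain ⟨k, hk⟩ := hN60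
    obtain ⟨l, hl⟩ := h2dvd
    have hk0 : 0 < k := by
      rcases Nat.eq_zero_or_pos k with h | h
      · rw [h] at hk; omega
      · exact h
    have hk60 : k ≤ 60 := Nat.le_of_dvd (by norm_num) ⟨N, by rw [hk]; ring⟩
    interval_cases k <;> omega
  have htwo : Fact (Nat.Prime 2) := ⟨Nat.prime_two⟩
  have hthree : Fact (Nat.Prime 3) := ⟨Nat.prime_three⟩
  have hfive : Fact (Nat.Prime 5) := ⟨Nat.prime_five⟩
  rcases hcases with h | h | h | h | h | h | h
  · -- 4
    obtain ⟨K, hK⟩ := cauchy_subgroup (G := G) 2 N 2 rfl (by omega)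
    exact no_subgroup hG K 2 hK (by norm_num) (by rw [← hN, h]; decide)
  · -- 6
    obtain ⟨K, hK⟩ := cauchy_subgroup (G := G) 3 N 2 rfl (by omega)
    exact no_subgroup hG K 2 hK (by norm_num) (by rw [← hN, h]; decide)
  · -- 10
    obtain ⟨K, hK⟩ := cauchy_subgroup (G := G) 5 N 2 rfl (by omega)
    exact no_subgroup hG K 2 hK (by norm_num) (by rw [← hN, h]; decide)
  · -- 12
    obtain ⟨P⟩ : Nonempty (Sylow 2 G) := inferInstance
    have hidx : (P : Subgroup G).index = 3 :=
      index_sylow_of_card_eq (k := 2) (m := 3) P (by rw [← hN, h]; norm_num) (by norm_num)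
    exact no_subgroup hG (P : Subgroup G) 3 hidx (by norm_num) (by rw [← hN, h]; decide)
  · -- 20
    obtain ⟨K, hK⟩ := cauchy_subgroup (G := G) 5 N 4 rfl (by omega)
    exact no_subgroup hG K 4 hK (by norm_num) (by rw [← hN, h]; decide)
  · -- 30
    obtain ⟨P⟩ : Nonempty (Sylow 2 G) := inferInstance
    have hPcard : Nat.card P = 2 := by
      have := card_sylow_of_card_eq (k := 1) (m := 15) P (by rw [← hN, h]; norm_num) (by norm_num)
      simpa using this
    have hminFac : (Nat.card G).minFac = 2 := (Nat.minFac_eq_two_iff _).mpr h2dvd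
    have hPcyc : IsCyclic P := isCyclic_of_prime_card hPcard
    have hcomp := IsCyclic.isComplement' hminFac hPcyc
    have hidx := hcomp.symm.index_eq_card
    rw [hPcard] at hidx
    exact no_subgroup hG _ 2 hidx (by norm_num) (by rw [← hN, h]; decide)
  · -- 60
    obtain ⟨e⟩ := Cfsg.Agent.Lib.Helper5.mulEquiv_alternatingGroup_five_of_card_eq_sixty (G := G) (by rw [← hN, h])
    have hn15 : n = 15 := by
      rw [← card_involutions_alt5, hn]
      apply Nat.card_congr
      exact
        { toFun := fun t => ⟨e t.1, by rw [MulEquiv.orderOf_eq]; exact t.2⟩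
          invFun := fun s => ⟨e.symm s.1, by rw [MulEquiv.orderOf_eq]; exact s.2⟩
          left_inv := fun t => by simp
          right_inv := fun s => by simp }
    omega

end Cfsg.Agent.S0234
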