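import Cfsg.Statements.S0236
import Cfsg.Agent.Lib.Helper4.Dihedral

set_option autoImplicit false
open Cfsg

namespace Cfsg.Agent.S0236

open Cfsg.Agent.Lib.Helper4

/-- If x is an involution, the number of ordered pairs (u, v) of involutions with uv = x, plus one, equals the number of involutions in the centralizer of x. -/
theorem result {G : Type*} [Group G] [Finite G] (x : G) (hx : orderOf x = 2) : Nat.card {p : G × G // orderOf p.1 = 2 ∧ orderOf p.2 = 2 ∧ p.1 * p.2 = x} + 1 = Nat.card {t : G // orderOf t = 2 ∧ Commute t x} := by
  classical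
  have hx' := mul_self_of_orderOf_two hx
  have hxinv := inv_eq_self_of_orderOf_two hx
  rw [← Finite.card_option]
  apply Nat.card_congr
  refine
    { toFun := fun o => match o with
        | none => ⟨x, hx, Commute.refl x⟩
        | some p => ⟨p.1.1, p.2.1, ?_⟩
      invFun := fun t => if h : t.1 = x then none else some ⟨(t.1, t.1 * x), t.2.1, ?_, ?_⟩
      left_inv := ?_
      right_inv := ?_ }
  · obtain ⟨⟨u, v⟩, hu, hv, huv⟩ := p
    simp only at hu hv huv ⊢
    show u * x = x * u
    have h1 : x = v * u := by
      rw [← hxinv, ← huv, mul_inv_rev, inv_eq_self_of_orderOf_two hu, inv_eq_self_of_orderOf_two hv]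
    have h2 : u * x = v := by rw [← huv, ← mul_assoc, mul_self_of_orderOf_two hu, one_mul]
    have h3 : x * u = v := by rw [h1, mul_assoc, mul_self_of_orderOf_two hu, mul_one]
    rw [h2, h3]
  · obtain ⟨t, ht, htx⟩ := t
    simp only at h ⊢
    rw [orderOf_two_iff]
    have ht' := mul_self_of_orderOf_two ht
    refine ⟨?_, ?_⟩
    · intro h1
      apply h
      have := congrArg (t * ·) h1
      simp only [← mul_assoc, ht', one_mul, mul_one] at this
      exact this.symm
    · rw [htx.eq, mul_assoc, ← mul_assoc t x t, htx.eq, mul_assoc, ht', mul_one, hx']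
  · obtain ⟨t, ht, htx⟩ := t
    simp only
    rw [← mul_assoc, mul_self_of_orderOf_two ht, one_mul]
  · rintro (_ | ⟨⟨u, v⟩, hu, hv, huv⟩)
    · simp
    · simp only at hu hv huv ⊢
      have hne : u ≠ x := by
        intro h
        rw [h] at huv
        have : v = 1 := by
          have := congrArg (x * ·) huv
          simp only [← mul_assoc, hx', one_mul] at this
          exact this
        exact ne_one_of_orderOf_two hv this
      simp only [hne, dite_false]
      congr 2
      rw [Prod.mk.injEq]
      refine ⟨rfl, ?_⟩
      rw [← huv, ← mul_assoc, mul_self_of_orderOf_two hu, one_mul]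
  · rintro ⟨t, ht, htx⟩
    by_cases h : t = x
    · subst h
      simp
    · simp [h]

end Cfsg.Agent.S0236
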