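import Cfsg.Statements.S0237
import Mathlib

set_option autoImplicit false
open Cfsg

namespace Cfsg.Agent.S0237

/-- If x is real (conjugate to x⁻¹) in a finite group G, the number of g with g x g⁻¹ = x⁻¹ equals |C_G(x)|. -/
theorem result {G : Type*} [Group G] [Finite G] (x : G) (hreal : IsConj x x⁻¹) : Nat.card {g : G // g * x * g⁻¹ = x⁻¹} = Nat.card (Subgroup.centralizer ({x} : Set G)) := by
  obtain ⟨g₀, hg₀⟩ := isConj_iff.1 hreal
  symm
  apply Nat.card_congr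
  refine
    { toFun := fun c => ⟨g₀ * c, ?_⟩
      invFun := fun g => ⟨g₀⁻¹ * g, ?_⟩
      left_inv := ?_
      right_inv := ?_ }
  · have hc := Subgroup.mem_centralizer_singleton_iff.1 c.2
    calc g₀ * ↑c * x * (g₀ * ↑c)⁻¹ = g₀ * (↑c * x) * (↑c)⁻¹ * g₀⁻¹ := by simp [mul_assoc]
      _ = g₀ * (x * ↑c) * (↑c)⁻¹ * g₀⁻¹ := by rw [hc]
      _ = g₀ * x * g₀⁻¹ := by simp [mul_assoc]
      _ = x⁻¹ := hg₀
  · rw [Subgroup.mem_centralizer_singleton_iff]
    have hg := g.2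
    have h1 : x = g₀⁻¹ * x⁻¹ * g₀ := by rw [← hg₀]; simp [mul_assoc]
    have h2 : (g : G) * x = x⁻¹ * g := by
      have := congrArg (· * (g : G)) hg
      simpa [mul_assoc] using this
    calc g₀⁻¹ * ↑g * x = g₀⁻¹ * (↑g * x) := by rw [mul_assoc]
      _ = g₀⁻¹ * (x⁻¹ * g) := by rw [h2]
      _ = (g₀⁻¹ * x⁻¹ * g₀) * (g₀⁻¹ * g) := by simp [mul_assoc]
      _ = x * (g₀⁻¹ * ↑g) := by rw [← h1]
  · intro c; ext; simp
  · intro g; ext; simp

end Cfsg.Agent.S0237
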