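import Cfsg.Statements.S0238
import Cfsg.Agent.Lib.Helper4.Dihedral
import Cfsg.Agent.S0237

set_option autoImplicit false
open Cfsg

namespace Cfsg.Agent.S0238

open Cfsg.Agent.Lib.Helper4

theorem inverts_of_pair {G : Type*} [Group G] {x u v : G} (hu : orderOf u = 2) (hv : orderOf v = 2)
    (huv : u * v = x) : u * x * u⁻¹ = x⁻¹ := by
  rw [← huv, mul_inv_rev, inv_eq_self_of_orderOf_two hu, inv_eq_self_of_orderOf_two hv,
      ← mul_assoc, mul_self_of_orderOf_two hu, one_mul]

/-- For every x in a finite group G, the number c of ordered pairs (u, v) of involutions with uv = x is at most |C_G(x)|; c = 0 when x is not conjugate to x⁻¹; and c + 2 ≤ |C_G(x)| when x is an involution. -/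
theorem result {G : Type*} [Group G] [Finite G] (x : G) : Nat.card {p : G × G // orderOf p.1 = 2 ∧ orderOf p.2 = 2 ∧ p.1 * p.2 = x} ≤ Nat.card (Subgroup.centralizer ({x} : Set G)) ∧ (¬ IsConj x x⁻¹ → Nat.card {p : G × G // orderOf p.1 = 2 ∧ orderOf p.2 = 2 ∧ p.1 * p.2 = x} = 0) ∧ (orderOf x = 2 → Nat.card {p : G × G // orderOf p.1 = 2 ∧ orderOf p.2 = 2 ∧ p.1 * p.2 = x} + 2 ≤ Nat.card (Subgroup.centralizer ({x} : Set G))) := by
  classical
  have hempty : ¬ IsConj x x⁻¹ → IsEmpty {p : G × G // orderOf p.1 = 2 ∧ orderOf p.2 = 2 ∧ p.1 * p.2 = x} := by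
    intro h
    refine ⟨fun p => h ?_⟩
    obtain ⟨⟨u, v⟩, hu, hv, huv⟩ := p
    exact isConj_iff.2 ⟨u, inverts_of_pair hu hv huv⟩
  -- the injection
  let f : {p : G × G // orderOf p.1 = 2 ∧ orderOf p.2 = 2 ∧ p.1 * p.2 = x} →
      {g : G // g * x * g⁻¹ = x⁻¹} := fun p => ⟨p.1.1, inverts_of_pair p.2.1 p.2.2.1 p.2.2.2⟩
  have hf : Function.Injective f := by
    rintro ⟨⟨u, v⟩, hu, hv, huv⟩ ⟨⟨u', v'⟩, hu', hv', huv'⟩ h
    simp only [f, Subtype.mk.injEq] at h
    subst h
    have : v = v' := by
      have := huv.trans huv'.symm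
      exact mul_left_cancel this
    subst this
    rfl
  refine ⟨?_, ?_, ?_⟩
  · by_cases h : IsConj x x⁻¹
    · rw [← Cfsg.Agent.S0237.result x h]
      exact Nat.card_le_card_of_injective f hf
    · have := hempty h
      simp
  · intro h
    have := hempty h
    simp
  · intro hx
    have hx' := mul_self_of_orderOf_two hx
    have hxinv := inv_eq_self_of_orderOf_two hx
    have hreal : IsConj x x⁻¹ := by rw [hxinv]
    rw [← Cfsg.Agent.S0237.result x hreal]
    have : Nat.card {p : G × G // orderOf p.1 = 2 ∧ orderOf p.2 = 2 ∧ p.1 * p.2 = x} + 2 =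
        Nat.card (Option (Option {p : G × G // orderOf p.1 = 2 ∧ orderOf p.2 = 2 ∧ p.1 * p.2 = x})) := by
      rw [Finite.card_option, Finite.card_option]
    rw [this]
    let g : Option (Option {p : G × G // orderOf p.1 = 2 ∧ orderOf p.2 = 2 ∧ p.1 * p.2 = x}) →
        {g : G // g * x * g⁻¹ = x⁻¹} := fun o => match o with
      | none => ⟨1, by simp [hxinv]⟩
      | some none => ⟨x, by simp [hxinv, hx']⟩
      | some (some p) => f p
    apply Nat.card_le_card_of_injective g
    have hne1 : ∀ p, (f p).1 ≠ 1 := fun p => ne_one_of_orderOf_two p.2.1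
    have hnex : ∀ p, (f p).1 ≠ x := by
      rintro ⟨⟨u, v⟩, hu, hv, huv⟩ h
      simp only [f] at h
      subst h
      have : v = 1 := by
        have := congrArg (u * ·) huv
        simp only [← mul_assoc, hx', one_mul] at this
        exact this
      exact ne_one_of_orderOf_two hv this
    have hx1 : x ≠ 1 := ne_one_of_orderOf_two hx
    rintro (_ | _ | p) (_ | _ | q) h
    · rfl
    · simp only [g, Subtype.mk.injEq] at h
      exact absurd h.symm hx1
    · simp only [g] at h
      exact absurd (congrArg Subtype.val h).symm (hne1 q)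
    · simp only [g, Subtype.mk.injEq] at h
      exact absurd h hx1
    · rfl
    · simp only [g] at h
      exact absurd (congrArg Subtype.val h).symm (hnex q)
    · simp only [g] at h
      exact absurd (congrArg Subtype.val h) (hne1 p)
    · simp only [g] at h
      exact absurd (congrArg Subtype.val h) (hnex p)
    · simp only [g] at h
      rw [hf h]

end Cfsg.Agent.S0238
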