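import Cfsg.Statements.S0239
import Mathlib

set_option autoImplicit false
open Cfsg

namespace Cfsg.Agent.S0239

theorem even_orderOf_of_inverts {G : Type*} [Group G] [Finite G] (x g : G) (hx : x ≠ x⁻¹)
    (hg : g * x * g⁻¹ = x⁻¹) : Even (orderOf g) := by
  by_contra hodd
  rw [Nat.not_even_iff_odd] at hodd
  obtain ⟨k, hk⟩ := hodd
  -- g^2 commutes with x
  have h2 : Commute (g ^ 2) x := by
    have h1 : g * x = x⁻¹ * g := by
      have := congrArg (· * g) hg
      simpa [mul_assoc] using this
    have h1' : g * x⁻¹ = x * g := by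
      have : g * x⁻¹ * g⁻¹ = x := by
        have := congrArg (·⁻¹) hg
        simpa [mul_assoc] using this
      have := congrArg (· * g) this
      simpa [mul_assoc] using this
    show g ^ 2 * x = x * g ^ 2
    rw [pow_two, mul_assoc, h1, ← mul_assoc, h1', mul_assoc]
  have h3 : Commute ((g ^ 2) ^ (k + 1)) x := h2.pow_left _
  have h4 : (g ^ 2) ^ (k + 1) = g := by
    rw [← pow_mul]
    have : 2 * (k + 1) = orderOf g + 1 := by omega
    rw [this, pow_succ, pow_orderOf_eq_one, one_mul]
  rw [h4] at h3
  apply hx
  rw [← hg, h3.eq, mul_assoc, mul_inv_cancel, mul_one]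

/-- If some nontrivial element x of a finite group G is conjugate to x⁻¹, then |G| is even. -/
theorem result {G : Type*} [Group G] [Finite G] (x : G) (hx : x ≠ 1) (hreal : IsConj x x⁻¹) : Even (Nat.card G) := by
  by_cases h : x = x⁻¹
  · have h2 : orderOf x = 2 := by
      apply orderOf_eq_prime
      · rw [pow_two]; nth_rewrite 2 [h]; exact mul_inv_cancel x
      · exact hx
    have := orderOf_dvd_natCard x
    rw [h2] at this
    exact (even_iff_two_dvd).2 this
  · obtain ⟨g, hg⟩ := isConj_iff.1 hreal
    have := even_orderOf_of_inverts x g h hg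
    exact this.trans_dvd (orderOf_dvd_natCard g)

end Cfsg.Agent.S0239
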