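import Cfsg.Statements.S0240
import Cfsg.Agent.Lib.Helper4.Dihedral

set_option autoImplicit false
open Cfsg

namespace Cfsg.Agent.S0240

open Cfsg.Agent.Lib.Helper4

/-- Let G be a finite group with n involutions and H a subgroup with |H|·(n+1) > |G|. Then some nontrivial h ∈ H is strongly real in G: an involution t of G satisfies t h t⁻¹ = h⁻¹. -/
theorem result {G : Type*} [Group G] [Finite G] (H : Subgroup G) (hH : Nat.card G < Nat.card H * (Nat.card {t : G // orderOf t = 2} + 1)) : ∃ h : G, h ∈ H ∧ h ≠ 1 ∧ ∃ t : G, orderOf t = 2 ∧ t * h * t⁻¹ = h⁻¹ := by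
  classical
  let φ : Option {t : G // orderOf t = 2} → G := fun o => match o with
    | none => 1
    | some t => t.1
  let f : Option {t : G // orderOf t = 2} → G ⧸ H := fun o => (φ o : G ⧸ H)
  have hcard : Nat.card (G ⧸ H) < Nat.card (Option {t : G // orderOf t = 2}) := by
    rw [Finite.card_option]
    have h1 : H.index * Nat.card H = Nat.card G := Subgroup.index_mul_card H
    have h2 : Nat.card (G ⧸ H) = H.index := rfl
    rw [h2]
    have hpos : 0 < Nat.card H := Nat.card_pos
    rw [← h1, mul_comm] at hH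
    exact Nat.lt_of_mul_lt_mul_left hH
  haveI := Fintype.ofFinite (G ⧸ H)
  haveI := Fintype.ofFinite (Option {t : G // orderOf t = 2})
  rw [Nat.card_eq_fintype_card, Nat.card_eq_fintype_card] at hcard
  obtain ⟨a, b, hab, hfab⟩ := Fintype.exists_ne_map_eq_of_card_lt f hcard
  have hmem : (φ a)⁻¹ * φ b ∈ H := QuotientGroup.eq.1 hfab
  rcases a with _ | ⟨s, hs⟩ <;> rcases b with _ | ⟨t, ht⟩
  · exact absurd rfl hab
  · simp only [φ, inv_one, one_mul] at hmem
    refine ⟨t, hmem, ne_one_of_orderOf_two ht, t, ht, ?_⟩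
    rw [mul_self_of_orderOf_two ht, one_mul]
  · simp only [φ, mul_one] at hmem
    rw [inv_eq_self_of_orderOf_two hs] at hmem
    refine ⟨s, hmem, ne_one_of_orderOf_two hs, s, hs, ?_⟩
    rw [mul_self_of_orderOf_two hs, one_mul]
  · simp only [φ] at hmem
    rw [inv_eq_self_of_orderOf_two hs] at hmem
    have hs' := mul_self_of_orderOf_two hs
    have ht' := mul_self_of_orderOf_two ht
    refine ⟨s * t, hmem, ?_, s, hs, ?_⟩
    · intro h
      apply hab
      have : t = s := by
        have := congrArg (s * ·) h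
        simp only [← mul_assoc, hs', one_mul, mul_one] at this
        exact this
      subst this
      rfl
    · rw [mul_inv_rev, inv_eq_self_of_orderOf_two hs, inv_eq_self_of_orderOf_two ht, ← mul_assoc,
        hs', one_mul]

end Cfsg.Agent.S0240
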