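import Cfsg.Statements.S0241
import Cfsg.Agent.Lib.Helper4.Dihedral

set_option autoImplicit false
open Cfsg

namespace Cfsg.Agent.S0241

open Cfsg.Agent.Lib.Helper4

/-- If x ≠ 1 is conjugate to x⁻¹ in a finite group G and |C_G(x)| is odd, then some involution t satisfies t x t⁻¹ = x⁻¹. -/
theorem result {G : Type*} [Group G] [Finite G] (x : G) (hx : x ≠ 1) (hreal : IsConj x x⁻¹) (hodd : Odd (Nat.card (Subgroup.centralizer ({x} : Set G)))) : ∃ t : G, orderOf t = 2 ∧ t * x * t⁻¹ = x⁻¹ := by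
  obtain ⟨g, hg⟩ := isConj_iff.1 hreal
  obtain ⟨k, hk⟩ := hodd
  have h1 : g * x = x⁻¹ * g := by
    have := congrArg (· * g) hg
    simpa [mul_assoc] using this
  have h1' : g * x⁻¹ = x * g := by
    have : g * x⁻¹ * g⁻¹ = x := by
      have := congrArg (·⁻¹) hg
      simpa [mul_assoc] using this
    have := congrArg (· * g) this
    simpa [mul_assoc] using this
  have h2 : Commute (g ^ 2) x := by
    show g ^ 2 * x = x * g ^ 2
    rw [pow_two, mul_assoc, h1, ← mul_assoc, h1', mul_assoc]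
  have hmem : g ^ 2 ∈ Subgroup.centralizer ({x} : Set G) :=
    Subgroup.mem_centralizer_singleton_iff.2 h2.eq
  have hpow : (g ^ 2) ^ (2 * k + 1) = 1 := by
    have := pow_card_eq_one' (G := Subgroup.centralizer ({x} : Set G)) (x := ⟨g ^ 2, hmem⟩)
    rw [hk] at this
    have := congrArg Subtype.val this
    simpa using this
  have h3 : Commute ((g ^ 2) ^ k) x := h2.pow_left k
  refine ⟨g ^ (2 * k + 1), ?_, ?_⟩
  · rw [orderOf_two_iff]
    refine ⟨?_, ?_⟩
    · intro h
      -- then g = (g^2)^(-k), commutes with x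
      have hgk : g = ((g ^ 2) ^ k)⁻¹ := by
        rw [pow_succ, pow_mul] at h
        exact eq_inv_of_mul_eq_one_right h
      have hcomm : Commute g x := by
        rw [hgk]
        exact h3.inv_left
      have hxx : x = x⁻¹ := by
        rw [← hg, hcomm.eq, mul_assoc, mul_inv_cancel, mul_one]
      have hx2 : orderOf x = 2 := by
        rw [orderOf_two_iff]
        refine ⟨hx, ?_⟩
        nth_rewrite 2 [hxx]
        exact mul_inv_cancel x
      have hxmem : x ∈ Subgroup.centralizer ({x} : Set G) :=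
        Subgroup.mem_centralizer_singleton_iff.2 rfl
      have hdvd := orderOf_dvd_natCard (⟨x, hxmem⟩ : Subgroup.centralizer ({x} : Set G))
      rw [Subgroup.orderOf_mk, hx2, hk] at hdvd
      omega
    · rw [← pow_add, ← two_mul, pow_mul]
      exact hpow
  · rw [pow_succ, pow_mul, mul_inv_rev]
    calc (g ^ 2) ^ k * g * x * (g⁻¹ * ((g ^ 2) ^ k)⁻¹)
        = (g ^ 2) ^ k * (g * x * g⁻¹) * ((g ^ 2) ^ k)⁻¹ := by simp [mul_assoc]
      _ = (g ^ 2) ^ k * x⁻¹ * ((g ^ 2) ^ k)⁻¹ := by rw [hg]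
      _ = x⁻¹ := by rw [h3.inv_right.eq, mul_assoc, mul_inv_cancel, mul_one]

end Cfsg.Agent.S0241
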