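import Cfsg.Statements.S0250
import Cfsg.Agent.S0243
import Mathlib

set_option autoImplicit false
open Cfsg

namespace Cfsg.Agent.S0250

open scoped LinearAlgebra.Projectivization

/-- SL_2(2) is isomorphic to S_3. -/
theorem result {F : Type*} [Field F] [Fintype F] (hF : Fintype.card F = 2) : Nonempty (Matrix.SpecialLinearGroup (Fin 2) F ≃* Equiv.Perm (Fin 3)) := by
  have hcard := Cfsg.Agent.S0242.result hF 2 (by norm_num)
  have h6 : Nat.card (Matrix.SpecialLinearGroup (Fin 2) F) = 6 := by
    rw [Fin.prod_univ_two] at hcard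
    norm_num at hcard
    omega
  have hcenter : Nat.card (Subgroup.center (Matrix.SpecialLinearGroup (Fin 2) F)) = 1 := by
    rw [Cfsg.Agent.S0243.card_center 2 (by norm_num), hF]
    rfl
  classical
  have hP : Nat.card (ℙ F (Fin 2 → F)) = 3 := by
    rw [Projectivization.card_of_finrank_two F (Fin 2 → F) (by simp), Nat.card_eq_fintype_card, hF]
  have hfin : Finite (ℙ F (Fin 2 → F)) := Nat.finite_of_card_ne_zero (by rw [hP]; norm_num)
  have : Fintype (ℙ F (Fin 2 → F)) := Fintype.ofFinite _
  have hcardP : Fintype.card (ℙ F (Fin 2 → F)) = 3 := by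
    rw [← Nat.card_eq_fintype_card, hP]
  let φ : Matrix.SpecialLinearGroup (Fin 2) F →* Equiv.Perm (ℙ F (Fin 2 → F)) :=
    MulAction.toPermHom _ _
  have hinj : Function.Injective φ := by
    rw [← MonoidHom.ker_eq_bot_iff, Projectivization.SL_mulAction_ker]
    exact Subgroup.card_eq_one.1 hcenter
  have hbij : Function.Bijective φ := by
    rw [Nat.bijective_iff_injective_and_card]
    refine ⟨hinj, ?_⟩
    rw [h6, Nat.card_perm, hP]
    rfl
  let e : (ℙ F (Fin 2 → F)) ≃ Fin 3 := Fintype.equivFinOfCardEq hcardP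
  exact ⟨(MulEquiv.ofBijective φ hbij).trans e.permCongrHom⟩

end Cfsg.Agent.S0250
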