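import Cfsg.Statements.S0251
import Cfsg.Agent.S0243
import Mathlib

set_option autoImplicit false
open Cfsg

namespace Cfsg.Agent.S0251

open scoped LinearAlgebra.Projectivization

/-- PSL_2(3) is isomorphic to A_4. -/
theorem result {F : Type*} [Field F] [Fintype F] (hF : Fintype.card F = 3) : Nonempty (Matrix.ProjectiveSpecialLinearGroup (Fin 2) F ≃* alternatingGroup (Fin 4)) := by
  have hcard := Cfsg.Agent.S0243.result hF 2 le_rfl
  have h12 : Nat.card (Matrix.ProjectiveSpecialLinearGroup (Fin 2) F) = 12 := by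
    rw [Fin.prod_univ_two] at hcard
    norm_num at hcard
    omega
  classical
  have hP : Nat.card (ℙ F (Fin 2 → F)) = 4 := by
    rw [Projectivization.card_of_finrank_two F (Fin 2 → F) (by simp), Nat.card_eq_fintype_card, hF]
  have hfin : Finite (ℙ F (Fin 2 → F)) := Nat.finite_of_card_ne_zero (by rw [hP]; norm_num)
  have : Fintype (ℙ F (Fin 2 → F)) := Fintype.ofFinite _
  have hcardP : Fintype.card (ℙ F (Fin 2 → F)) = 4 := by
    rw [← Nat.card_eq_fintype_card, hP]
  let φ : Matrix.ProjectiveSpecialLinearGroup (Fin 2) F →* Equiv.Perm (ℙ F (Fin 2 → F)) :=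
    Projectivization.PSLAction.toPermHom
  have hinj : Function.Injective φ := Matrix.ProjectiveSpecialLinearGroup.toPermHom_injective
  have hrcard : Nat.card φ.range = 12 := by
    rw [← h12]
    exact (Nat.card_congr (MonoidHom.ofInjective hinj).toEquiv).symm
  have hidx : φ.range.index = 2 := by
    have h := φ.range.card_mul_index
    rw [hrcard, Nat.card_perm, hP] at h
    norm_num [Nat.factorial] at h
    omega
  have hrange : φ.range = alternatingGroup (ℙ F (Fin 2 → F)) :=
    Equiv.Perm.eq_alternatingGroup_of_index_eq_two hidx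
  let e : (ℙ F (Fin 2 → F)) ≃ Fin 4 := Fintype.equivFinOfCardEq hcardP
  exact ⟨(MonoidHom.ofInjective hinj).trans
    ((MulEquiv.subgroupCongr hrange).trans (Equiv.altCongrHom e))⟩

end Cfsg.Agent.S0251
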