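import Cfsg.Statements.S0254
import Cfsg.Agent.Lib.Helper5.Order60
import Cfsg.Agent.S0243
import Cfsg.Agent.Lib.Helper89.A5Iso

set_option autoImplicit false
open Cfsg

namespace Cfsg.Agent.S0254

variable {F : Type*} [Field F]

/-- an element of order 3 -/
def xM (c : F) : Matrix.SpecialLinearGroup (Fin 2) F := ⟨!![1, 0; c, 1], by simp [Matrix.det_fin_two]⟩

/-- an element of order 5 -/
def yM (t : F) : Matrix.SpecialLinearGroup (Fin 2) F := ⟨!![0, -1; 1, t], by simp [Matrix.det_fin_two]⟩

theorem xM_val (c : F) : (xM c : Matrix (Fin 2) (Fin 2) F) = !![1, 0; c, 1] := rfl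

theorem yM_val (t : F) : (yM t : Matrix (Fin 2) (Fin 2) F) = !![0, -1; 1, t] := rfl

theorem xM_pow (c : F) (h3 : (3 : F) = 0) : xM c ^ 3 = 1 := by
  apply Subtype.ext
  simp only [Matrix.SpecialLinearGroup.coe_mul, Matrix.SpecialLinearGroup.coe_one, xM_val, pow_succ, pow_zero, one_mul]
  rw [Matrix.one_fin_two, Matrix.mul_fin_two, Matrix.mul_fin_two]
  ext i j
  fin_cases i <;> fin_cases j <;> simp
  linear_combination c * h3

theorem yM_pow (t : F) (ht : t * t = 1 - t) : yM t ^ 5 = 1 := by
  apply Subtype.ext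
  simp only [Matrix.SpecialLinearGroup.coe_mul, Matrix.SpecialLinearGroup.coe_one, yM_val, pow_succ, pow_zero, one_mul]
  rw [Matrix.one_fin_two, Matrix.mul_fin_two, Matrix.mul_fin_two, Matrix.mul_fin_two, Matrix.mul_fin_two]
  ext i j
  fin_cases i <;> fin_cases j <;> simp <;> grind

theorem xyM_sq (t : F) : (xM t * yM t) ^ 2 = -1 := by
  apply Subtype.ext
  simp only [Matrix.SpecialLinearGroup.coe_mul, Matrix.SpecialLinearGroup.coe_neg,
    Matrix.SpecialLinearGroup.coe_one, xM_val, yM_val, pow_succ, pow_zero, one_mul]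
  rw [Matrix.one_fin_two, Matrix.mul_fin_two, Matrix.mul_fin_two]
  ext i j
  fin_cases i <;> fin_cases j <;> simp


theorem neg_one_mem_center : (-1 : Matrix.SpecialLinearGroup (Fin 2) F) ∈
    Subgroup.center (Matrix.SpecialLinearGroup (Fin 2) F) := by
  rw [Subgroup.mem_center_iff]
  intro g
  rw [mul_neg, neg_mul, mul_one, one_mul]

theorem xM_not_mem_center (c : F) (hc : c ≠ 0) :
    xM c ∉ Subgroup.center (Matrix.SpecialLinearGroup (Fin 2) F) := by
  intro h
  rw [Matrix.SpecialLinearGroup.mem_center_iff] at h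
  obtain ⟨r, -, hr⟩ := h
  have h10 := congrFun (congrFun hr 1) 0
  rw [xM_val] at h10
  simp at h10
  exact hc h10.symm

/-- PSL_2(9) is isomorphic to A_6. -/
theorem result {F : Type*} [Field F] [Fintype F] (hF : Fintype.card F = 9) : Nonempty (Matrix.ProjectiveSpecialLinearGroup (Fin 2) F ≃* alternatingGroup (Fin 6)) := by
  classical
  have h9 : (9 : F) = 0 := by
    have := Nat.cast_card_eq_zero F
    rw [hF] at this
    exact_mod_cast this
  have h3 : (3 : F) = 0 := by
    have : (3 : F) * 3 = 0 := by rw [← h9]; norm_num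
    exact mul_self_eq_zero.mp this
  obtain ⟨ω, hω⟩ : IsSquare (-1 : F) := by
    rw [FiniteField.isSquare_neg_one_iff, hF]
    decide
  set t : F := 1 + ω with ht_def
  have ht : t * t = 1 - t := by
    rw [ht_def]
    linear_combination ω * h3 - hω
  have ht0 : t ≠ 0 := by
    intro h0
    have h1 : (1 : F) = 0 := by
      have hω1 : ω = -1 := by rw [ht_def] at h0; linear_combination h0
      rw [hω1] at hω
      linear_combination h3 + hω
    exact one_ne_zero h1
  let Xb : (Matrix.ProjectiveSpecialLinearGroup (Fin 2) F) := QuotientGroup.mk (xM t)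
  let Yb : (Matrix.ProjectiveSpecialLinearGroup (Fin 2) F) := QuotientGroup.mk (yM t)
  have hX3 : Xb ^ 3 = 1 := by
    show (QuotientGroup.mk (xM t) : (Matrix.ProjectiveSpecialLinearGroup (Fin 2) F)) ^ 3 = 1
    rw [← QuotientGroup.mk_pow, xM_pow t h3]
    rfl
  have hY5 : Yb ^ 5 = 1 := by
    show (QuotientGroup.mk (yM t) : (Matrix.ProjectiveSpecialLinearGroup (Fin 2) F)) ^ 5 = 1
    rw [← QuotientGroup.mk_pow, yM_pow t ht]
    rfl
  have hXY2 : (Xb * Yb) ^ 2 = 1 := by
    show ((QuotientGroup.mk (xM t) : (Matrix.ProjectiveSpecialLinearGroup (Fin 2) F)) * QuotientGroup.mk (yM t)) ^ 2 = 1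
    rw [← QuotientGroup.mk_mul, ← QuotientGroup.mk_pow, xyM_sq t, QuotientGroup.eq_one_iff]
    exact neg_one_mem_center
  have hX1 : Xb ≠ 1 := by
    intro h
    exact xM_not_mem_center t ht0 ((QuotientGroup.eq_one_iff _).mp h)
  have hrel : ∀ r ∈ Cfsg.Agent.Lib.Helper89.A5Iso.rels, FreeGroup.lift ![Xb, Yb] r = 1 := by
    intro r hr
    rcases hr with rfl | rfl | rfl
    · simpa using hX3
    · simpa using hY5
    · simpa using hXY2
  let ψ : PresentedGroup Cfsg.Agent.Lib.Helper89.A5Iso.rels →* (Matrix.ProjectiveSpecialLinearGroup (Fin 2) F) := PresentedGroup.toGroup hrel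
  have hψX : ψ Cfsg.Agent.Lib.Helper89.A5Iso.X = Xb := PresentedGroup.toGroup.of hrel
  let e : PresentedGroup Cfsg.Agent.Lib.Helper89.A5Iso.rels ≃* alternatingGroup (Fin 5) :=
    MulEquiv.ofBijective Cfsg.Agent.Lib.Helper89.A5Iso.phi Cfsg.Agent.Lib.Helper89.A5Iso.phi_bijective
  let ψ' : alternatingGroup (Fin 5) →* (Matrix.ProjectiveSpecialLinearGroup (Fin 2) F) := ψ.comp e.symm.toMonoidHom
  have hsimple5 : IsSimpleGroup (alternatingGroup (Fin 5)) := alternatingGroup.isSimpleGroup (by simp)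
  have hinj : Function.Injective ψ' := by
    rw [← MonoidHom.ker_eq_bot_iff]
    rcases (MonoidHom.normal_ker ψ').eq_bot_or_eq_top with h | h
    · exact h
    · exfalso
      apply hX1
      have : e Cfsg.Agent.Lib.Helper89.A5Iso.X ∈ MonoidHom.ker ψ' := by rw [h]; trivial
      rw [MonoidHom.mem_ker] at this
      rw [← hψX, ← this]
      show ψ Cfsg.Agent.Lib.Helper89.A5Iso.X = ψ (e.symm (e Cfsg.Agent.Lib.Helper89.A5Iso.X))
      rw [MulEquiv.symm_apply_apply]
  have hsimple : IsSimpleGroup (Matrix.ProjectiveSpecialLinearGroup (Fin 2) F) :=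
    Matrix.ProjectiveSpecialLinearGroup.rank_two_simple (by
      rw [Nat.card_eq_fintype_card, hF]; norm_num)
  have hcard := Cfsg.Agent.S0243.result hF 2 le_rfl
  have hfin : Finite (Matrix.ProjectiveSpecialLinearGroup (Fin 2) F) := inferInstance
  have h360 : Nat.card (Matrix.ProjectiveSpecialLinearGroup (Fin 2) F) = 360 := by
    rw [Fin.prod_univ_two] at hcard
    norm_num at hcard
    rw [Nat.card_eq_fintype_card]
    omega
  have h60 : Nat.card (alternatingGroup (Fin 5)) = 60 := by
    rw [Nat.card_eq_fintype_card]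
    have h := two_mul_card_alternatingGroup (α := Fin 5)
    rw [Fintype.card_perm, Fintype.card_fin] at h
    have : (5 : ℕ).factorial = 120 := by decide
    omega
  have hrange : Nat.card ψ'.range = 60 := by
    rw [← h60]
    exact (Nat.card_congr (MonoidHom.ofInjective hinj).toEquiv).symm
  have hidx : ψ'.range.index = 6 := by
    have := Subgroup.card_mul_index ψ'.range
    rw [hrange, h360] at this
    omega
  exact Cfsg.Agent.Lib.Helper5.mulEquiv_alternatingGroup_of_index 6 ψ'.range hidx (by rw [h360]; norm_num)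
    (by rw [h360]; decide)

end Cfsg.Agent.S0254
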