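import Cfsg.Statements.S0255
import Cfsg.Agent.S0243
import Cfsg.Agent.Lib.Helper5.PSLSimple
import Cfsg.Agent.Lib.Helper89.L27
import Cfsg.Agent.Lib.Helper89.PSL2Sub

set_option autoImplicit false
set_option linter.unusedVariables false
set_option linter.unusedTactic false
set_option linter.unreachableTactic false
set_option linter.unnecessarySeqFocus false
open Cfsg

namespace Cfsg.Agent.S0255

open Cfsg.Agent.Lib.Helper89

/-! ### the generators of `PSL₂(7)` -/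

section seven
variable {F : Type*} [Field F]

theorem sl2_pow_four_of_trace_sq_two (A : Matrix.SpecialLinearGroup (Fin 2) F) (t : F)
    (ht : t * t = 2) (h : (A : Matrix (Fin 2) (Fin 2) F).trace = t) : A ^ 4 = -1 := by
  obtain ⟨a, b, c, d, hA, hdet⟩ := sl2_entries A
  rw [sl2_trace A a b c d hA] at h
  apply Subtype.ext
  simp only [Matrix.SpecialLinearGroup.coe_mul, Matrix.SpecialLinearGroup.coe_neg,
    Matrix.SpecialLinearGroup.coe_one, hA, pow_succ, pow_zero, one_mul]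
  rw [Matrix.one_fin_two, Matrix.mul_fin_two, Matrix.mul_fin_two, Matrix.mul_fin_two]
  ext i j
  fin_cases i <;> fin_cases j <;> simp <;> grind

/-- the element of order 2 -/
def x7 : Matrix.SpecialLinearGroup (Fin 2) F :=
  ⟨!![0, -1; 1, 0], by rw [Matrix.det_fin_two_of]; ring⟩

/-- the element of order 3 -/
def y7 : Matrix.SpecialLinearGroup (Fin 2) F :=
  ⟨!![0, -1; 1, 1], by rw [Matrix.det_fin_two_of]; ring⟩

theorem x7_val : (x7 : Matrix.SpecialLinearGroup (Fin 2) F).1 = !![0, -1; 1, 0] := rfl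

theorem y7_val : (y7 : Matrix.SpecialLinearGroup (Fin 2) F).1 = !![0, -1; 1, 1] := rfl

theorem xy7_val : ((x7 * y7 : Matrix.SpecialLinearGroup (Fin 2) F)).1 = !![-1, -1; 0, -1] := by
  rw [Matrix.SpecialLinearGroup.coe_mul]
  show (x7 : Matrix.SpecialLinearGroup (Fin 2) F).1 * (y7 : Matrix.SpecialLinearGroup (Fin 2) F).1 = _
  rw [x7_val, y7_val, Matrix.mul_fin_two]
  ext i j
  fin_cases i <;> fin_cases j <;> simp

theorem xy7_pow (h7 : (7 : F) = 0) : (x7 * y7 : Matrix.SpecialLinearGroup (Fin 2) F) ^ 7 = -1 := by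
  apply Subtype.ext
  rw [Matrix.SpecialLinearGroup.coe_pow]
  show ((x7 * y7 : Matrix.SpecialLinearGroup (Fin 2) F)).1 ^ 7 = _
  rw [xy7_val]
  simp only [Matrix.SpecialLinearGroup.coe_neg, Matrix.SpecialLinearGroup.coe_one, pow_succ, pow_zero,
    one_mul]
  rw [Matrix.one_fin_two]
  simp only [Matrix.mul_fin_two]
  ext i j
  fin_cases i <;> fin_cases j <;> simp <;> grind

theorem w7_trace : (((x7 * y7 * x7 * y7 * y7 : Matrix.SpecialLinearGroup (Fin 2) F)).1).trace = 3 := by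
  simp only [Matrix.SpecialLinearGroup.coe_mul]
  show ((x7 : Matrix.SpecialLinearGroup (Fin 2) F).1 * (y7 : Matrix.SpecialLinearGroup (Fin 2) F).1 *
    (x7 : Matrix.SpecialLinearGroup (Fin 2) F).1 * (y7 : Matrix.SpecialLinearGroup (Fin 2) F).1 *
    (y7 : Matrix.SpecialLinearGroup (Fin 2) F).1).trace = 3
  rw [x7_val, y7_val]
  simp only [Matrix.mul_fin_two, Matrix.trace_fin_two_of]
  ring

end seven

/-! ### the generators of `PSL₃(2)` -/

section two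
variable {K : Type*} [Field K]

theorem p0 (h2 : (2 : K) = 0) : (!![0, 0, 1; 0, 1, 0; 1, 0, 0] : Matrix (Fin 3) (Fin 3) K) * !![0, 0, 1; 0, 1, 0; 1, 0, 0] = !![1, 0, 0; 0, 1, 0; 0, 0, 1] := by
  rw [Matrix.mul_fin_three]
  ext i j
  fin_cases i <;> fin_cases j <;> simp <;> grind

theorem p1 (h2 : (2 : K) = 0) : (!![0, 1, 0; 1, 1, 0; 0, 0, 1] : Matrix (Fin 3) (Fin 3) K) * !![0, 1, 0; 1, 1, 0; 0, 0, 1] = !![1, 1, 0; 1, 0, 0; 0, 0, 1] := by
  rw [Matrix.mul_fin_three]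
  ext i j
  fin_cases i <;> fin_cases j <;> simp <;> grind

theorem p2 (h2 : (2 : K) = 0) : (!![1, 1, 0; 1, 0, 0; 0, 0, 1] : Matrix (Fin 3) (Fin 3) K) * !![0, 1, 0; 1, 1, 0; 0, 0, 1] = !![1, 0, 0; 0, 1, 0; 0, 0, 1] := by
  rw [Matrix.mul_fin_three]
  ext i j
  fin_cases i <;> fin_cases j <;> simp <;> grind

theorem p3 (h2 : (2 : K) = 0) : (!![0, 0, 1; 0, 1, 0; 1, 0, 0] : Matrix (Fin 3) (Fin 3) K) * !![0, 1, 0; 1, 1, 0; 0, 0, 1] = !![0, 0, 1; 1, 1, 0; 0, 1, 0] := by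
  rw [Matrix.mul_fin_three]
  ext i j
  fin_cases i <;> fin_cases j <;> simp <;> grind

theorem p4 (h2 : (2 : K) = 0) : (!![0, 0, 1; 1, 1, 0; 0, 1, 0] : Matrix (Fin 3) (Fin 3) K) * !![0, 0, 1; 1, 1, 0; 0, 1, 0] = !![0, 1, 0; 1, 1, 1; 1, 1, 0] := by
  rw [Matrix.mul_fin_three]
  ext i j
  fin_cases i <;> fin_cases j <;> simp <;> grind

theorem p5 (h2 : (2 : K) = 0) : (!![0, 1, 0; 1, 1, 1; 1, 1, 0] : Matrix (Fin 3) (Fin 3) K) * !![0, 0, 1; 1, 1, 0; 0, 1, 0] = !![1, 1, 0; 1, 0, 1; 1, 1, 1] := by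
  rw [Matrix.mul_fin_three]
  ext i j
  fin_cases i <;> fin_cases j <;> simp <;> grind

theorem p6 (h2 : (2 : K) = 0) : (!![1, 1, 0; 1, 0, 1; 1, 1, 1] : Matrix (Fin 3) (Fin 3) K) * !![0, 0, 1; 1, 1, 0; 0, 1, 0] = !![1, 1, 1; 0, 1, 1; 1, 0, 1] := by
  rw [Matrix.mul_fin_three]
  ext i j
  fin_cases i <;> fin_cases j <;> simp <;> grind

theorem p7 (h2 : (2 : K) = 0) : (!![1, 1, 1; 0, 1, 1; 1, 0, 1] : Matrix (Fin 3) (Fin 3) K) * !![0, 0, 1; 1, 1, 0; 0, 1, 0] = !![1, 0, 1; 1, 0, 0; 0, 1, 1] := by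
  rw [Matrix.mul_fin_three]
  ext i j
  fin_cases i <;> fin_cases j <;> simp <;> grind

theorem p8 (h2 : (2 : K) = 0) : (!![1, 0, 1; 1, 0, 0; 0, 1, 1] : Matrix (Fin 3) (Fin 3) K) * !![0, 0, 1; 1, 1, 0; 0, 1, 0] = !![0, 1, 1; 0, 0, 1; 1, 0, 0] := by
  rw [Matrix.mul_fin_three]
  ext i j
  fin_cases i <;> fin_cases j <;> simp <;> grind

theorem p9 (h2 : (2 : K) = 0) : (!![0, 1, 1; 0, 0, 1; 1, 0, 0] : Matrix (Fin 3) (Fin 3) K) * !![0, 0, 1; 1, 1, 0; 0, 1, 0] = !![1, 0, 0; 0, 1, 0; 0, 0, 1] := by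
  rw [Matrix.mul_fin_three]
  ext i j
  fin_cases i <;> fin_cases j <;> simp <;> grind

theorem p10 (h2 : (2 : K) = 0) : (!![0, 0, 1; 1, 1, 0; 0, 1, 0] : Matrix (Fin 3) (Fin 3) K) * !![0, 0, 1; 0, 1, 0; 1, 0, 0] = !![1, 0, 0; 0, 1, 1; 0, 1, 0] := by
  rw [Matrix.mul_fin_three]
  ext i j
  fin_cases i <;> fin_cases j <;> simp <;> grind

theorem p11 (h2 : (2 : K) = 0) : (!![1, 0, 0; 0, 1, 1; 0, 1, 0] : Matrix (Fin 3) (Fin 3) K) * !![0, 1, 0; 1, 1, 0; 0, 0, 1] = !![0, 1, 0; 1, 1, 1; 1, 1, 0] := by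
  rw [Matrix.mul_fin_three]
  ext i j
  fin_cases i <;> fin_cases j <;> simp <;> grind

theorem p12 (h2 : (2 : K) = 0) : (!![0, 1, 0; 1, 1, 1; 1, 1, 0] : Matrix (Fin 3) (Fin 3) K) * !![0, 1, 0; 1, 1, 0; 0, 0, 1] = !![1, 1, 0; 1, 0, 1; 1, 0, 0] := by
  rw [Matrix.mul_fin_three]
  ext i j
  fin_cases i <;> fin_cases j <;> simp <;> grind

theorem p13 (h2 : (2 : K) = 0) : (!![1, 1, 0; 1, 0, 1; 1, 0, 0] : Matrix (Fin 3) (Fin 3) K) * !![1, 1, 0; 1, 0, 1; 1, 0, 0] = !![0, 1, 1; 0, 1, 0; 1, 1, 0] := by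
  rw [Matrix.mul_fin_three]
  ext i j
  fin_cases i <;> fin_cases j <;> simp <;> grind

theorem p14 (h2 : (2 : K) = 0) : (!![0, 1, 1; 0, 1, 0; 1, 1, 0] : Matrix (Fin 3) (Fin 3) K) * !![1, 1, 0; 1, 0, 1; 1, 0, 0] = !![0, 0, 1; 1, 0, 1; 0, 1, 1] := by
  rw [Matrix.mul_fin_three]
  ext i j
  fin_cases i <;> fin_cases j <;> simp <;> grind

theorem p15 (h2 : (2 : K) = 0) : (!![0, 0, 1; 1, 0, 1; 0, 1, 1] : Matrix (Fin 3) (Fin 3) K) * !![1, 1, 0; 1, 0, 1; 1, 0, 0] = !![1, 0, 0; 0, 1, 0; 0, 0, 1] := by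
  rw [Matrix.mul_fin_three]
  ext i j
  fin_cases i <;> fin_cases j <;> simp <;> grind


/-- the element of order 2 -/
def x2 (h2 : (2 : K) = 0) : Matrix.SpecialLinearGroup (Fin 3) K :=
  ⟨!![0, 0, 1; 0, 1, 0; 1, 0, 0], by
    rw [Matrix.det_fin_three]
    simp
    linear_combination (-1) * h2⟩

/-- the element of order 3 -/
def y2 (h2 : (2 : K) = 0) : Matrix.SpecialLinearGroup (Fin 3) K :=
  ⟨!![0, 1, 0; 1, 1, 0; 0, 0, 1], by
    rw [Matrix.det_fin_three]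
    simp
    linear_combination (-1) * h2⟩

theorem x2_val (h2 : (2 : K) = 0) : (x2 h2).1 = !![0, 0, 1; 0, 1, 0; 1, 0, 0] := rfl

theorem y2_val (h2 : (2 : K) = 0) : (y2 h2).1 = !![0, 1, 0; 1, 1, 0; 0, 0, 1] := rfl

theorem x2_sq (h2 : (2 : K) = 0) : x2 h2 ^ 2 = 1 := by
  apply Subtype.ext
  simp only [Matrix.SpecialLinearGroup.coe_mul, Matrix.SpecialLinearGroup.coe_one, pow_succ, pow_zero,
    one_mul]
  show (x2 h2).1 * (x2 h2).1 = 1
  rw [x2_val, p0 h2, Matrix.one_fin_three]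

theorem y2_cube (h2 : (2 : K) = 0) : y2 h2 ^ 3 = 1 := by
  apply Subtype.ext
  simp only [Matrix.SpecialLinearGroup.coe_mul, Matrix.SpecialLinearGroup.coe_one, pow_succ, pow_zero,
    one_mul]
  show (y2 h2).1 * (y2 h2).1 * (y2 h2).1 = 1
  rw [y2_val, p1 h2, p2 h2, Matrix.one_fin_three]

theorem xy2_pow (h2 : (2 : K) = 0) : (x2 h2 * y2 h2) ^ 7 = 1 := by
  apply Subtype.ext
  simp only [Matrix.SpecialLinearGroup.coe_mul, Matrix.SpecialLinearGroup.coe_one, pow_succ, pow_zero,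
    one_mul]
  show (x2 h2).1 * (y2 h2).1 * ((x2 h2).1 * (y2 h2).1) * ((x2 h2).1 * (y2 h2).1) *
    ((x2 h2).1 * (y2 h2).1) * ((x2 h2).1 * (y2 h2).1) * ((x2 h2).1 * (y2 h2).1) *
    ((x2 h2).1 * (y2 h2).1) = 1
  rw [x2_val, y2_val, p3 h2, p4 h2, p5 h2, p6 h2, p7 h2, p8 h2, p9 h2, Matrix.one_fin_three]

theorem w2_pow (h2 : (2 : K) = 0) : (x2 h2 * y2 h2 * x2 h2 * y2 h2 * y2 h2) ^ 4 = 1 := by
  apply Subtype.ext
  simp only [Matrix.SpecialLinearGroup.coe_mul, Matrix.SpecialLinearGroup.coe_one, pow_succ, pow_zero,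
    one_mul]
  show (x2 h2).1 * (y2 h2).1 * (x2 h2).1 * (y2 h2).1 * (y2 h2).1 *
    ((x2 h2).1 * (y2 h2).1 * (x2 h2).1 * (y2 h2).1 * (y2 h2).1) *
    ((x2 h2).1 * (y2 h2).1 * (x2 h2).1 * (y2 h2).1 * (y2 h2).1) *
    ((x2 h2).1 * (y2 h2).1 * (x2 h2).1 * (y2 h2).1 * (y2 h2).1) = 1
  rw [x2_val, y2_val, p3 h2, p10 h2, p11 h2, p12 h2, p13 h2, p14 h2, p15 h2, Matrix.one_fin_three]

theorem sl3_not_mem_center (A : Matrix.SpecialLinearGroup (Fin 3) K) (i j : Fin 3) (hij : i ≠ j)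
    (h : A.1 i j ≠ 0) : A ∉ Subgroup.center (Matrix.SpecialLinearGroup (Fin 3) K) := by
  intro hA
  rw [Matrix.SpecialLinearGroup.mem_center_iff] at hA
  obtain ⟨r, -, hr⟩ := hA
  apply h
  rw [← hr]
  simp [Matrix.scalar_apply, Matrix.diagonal_apply_ne _ hij]

end two

/-- PSL_2(7) is isomorphic to PSL_3(2). -/
theorem result {F K : Type*} [Field F] [Fintype F] [Field K] [Fintype K] (hF : Fintype.card F = 7) (hK : Fintype.card K = 2) : Nonempty (Matrix.ProjectiveSpecialLinearGroup (Fin 2) F ≃* Matrix.ProjectiveSpecialLinearGroup (Fin 3) K) := by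
  classical
  have h7 : (7 : F) = 0 := by
    have := Nat.cast_card_eq_zero F
    rw [hF] at this
    exact_mod_cast this
  have h2 : (2 : K) = 0 := by
    have := Nat.cast_card_eq_zero K
    rw [hK] at this
    exact_mod_cast this
  have hs1 : IsSimpleGroup (Matrix.ProjectiveSpecialLinearGroup (Fin 2) F) :=
    Matrix.ProjectiveSpecialLinearGroup.rank_two_simple (by
      rw [Nat.card_eq_fintype_card, hF]; norm_num)
  have hs2 : IsSimpleGroup (Matrix.ProjectiveSpecialLinearGroup (Fin 3) K) :=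
    Cfsg.Agent.Lib.Helper5.PSL_isSimpleGroup_of_three_le (by simp)
  have hc1 : Nat.card (Matrix.ProjectiveSpecialLinearGroup (Fin 2) F) = 168 := by
    have hcard := Cfsg.Agent.S0243.result hF 2 le_rfl
    rw [Fin.prod_univ_two] at hcard
    norm_num at hcard
    rw [Nat.card_eq_fintype_card]
    omega
  have hc2 : Nat.card (Matrix.ProjectiveSpecialLinearGroup (Fin 3) K) = 168 := by
    have hcard := Cfsg.Agent.S0243.result hK 3 (by norm_num)
    rw [Fin.prod_univ_three] at hcard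
    norm_num at hcard
    rw [Nat.card_eq_fintype_card]
    omega
  have hf1 : Finite (Matrix.ProjectiveSpecialLinearGroup (Fin 2) F) := inferInstance
  have hf2 : Finite (Matrix.ProjectiveSpecialLinearGroup (Fin 3) K) := inferInstance
  have hone2 : ∀ A : Matrix.SpecialLinearGroup (Fin 2) F,
      A ∈ Subgroup.center (Matrix.SpecialLinearGroup (Fin 2) F) →
      (QuotientGroup.mk A : Matrix.ProjectiveSpecialLinearGroup (Fin 2) F) = 1 :=
    fun A hA => (QuotientGroup.eq_one_iff A).mpr hA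
  have hne2 : ∀ A : Matrix.SpecialLinearGroup (Fin 2) F,
      A ∉ Subgroup.center (Matrix.SpecialLinearGroup (Fin 2) F) →
      (QuotientGroup.mk A : Matrix.ProjectiveSpecialLinearGroup (Fin 2) F) ≠ 1 :=
    fun A hA h => hA ((QuotientGroup.eq_one_iff A).mp h)
  have hne3 : ∀ A : Matrix.SpecialLinearGroup (Fin 3) K,
      A ∉ Subgroup.center (Matrix.SpecialLinearGroup (Fin 3) K) →
      (QuotientGroup.mk A : Matrix.ProjectiveSpecialLinearGroup (Fin 3) K) ≠ 1 :=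
    fun A hA h => hA ((QuotientGroup.eq_one_iff A).mp h)
  apply Cfsg.Agent.Lib.Helper89.L27.mulEquiv_of_gens hc1 hc2
    (QuotientGroup.mk x7 : Matrix.ProjectiveSpecialLinearGroup (Fin 2) F) (QuotientGroup.mk y7)
    ?_ ?_ ?_ ?_ ?_ ?_ ?_
    (QuotientGroup.mk (x2 h2) : Matrix.ProjectiveSpecialLinearGroup (Fin 3) K) (QuotientGroup.mk (y2 h2))
  · rw [← QuotientGroup.mk_pow, x2_sq h2]; rfl
  · rw [← QuotientGroup.mk_pow, y2_cube h2]; rfl
  · rw [← QuotientGroup.mk_mul, ← QuotientGroup.mk_pow, xy2_pow h2]; rfl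
  · rw [← QuotientGroup.mk_mul, ← QuotientGroup.mk_mul, ← QuotientGroup.mk_mul, ← QuotientGroup.mk_mul,
      ← QuotientGroup.mk_pow, w2_pow h2]; rfl
  · apply hne3
    apply sl3_not_mem_center _ 0 2 (by decide)
    rw [x2_val]
    simp
  · apply hne3
    apply sl3_not_mem_center _ 0 1 (by decide)
    rw [y2_val]
    simp
  · rw [← QuotientGroup.mk_mul]
    apply hne3
    apply sl3_not_mem_center _ 0 2 (by decide)
    rw [Matrix.SpecialLinearGroup.coe_mul]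
    show ((x2 h2).1 * (y2 h2).1) 0 2 ≠ 0
    rw [x2_val, y2_val, p3 h2]
    simp
  · rw [← QuotientGroup.mk_pow]
    apply hone2
    rw [sl2_sq_of_trace_zero]
    · exact sl2_neg_one_mem_center
    · show Matrix.trace (x7 : Matrix.SpecialLinearGroup (Fin 2) F).1 = 0
      rw [x7_val, Matrix.trace_fin_two_of]; ring
  · rw [← QuotientGroup.mk_pow]
    apply hone2
    rw [sl2_cube_of_trace_one]
    · exact sl2_neg_one_mem_center
    · show Matrix.trace (y7 : Matrix.SpecialLinearGroup (Fin 2) F).1 = 1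
      rw [y7_val, Matrix.trace_fin_two_of]; ring
  · rw [← QuotientGroup.mk_mul, ← QuotientGroup.mk_pow]
    apply hone2
    rw [xy7_pow h7]
    exact sl2_neg_one_mem_center
  · rw [← QuotientGroup.mk_mul, ← QuotientGroup.mk_mul, ← QuotientGroup.mk_mul, ← QuotientGroup.mk_mul,
      ← QuotientGroup.mk_pow]
    apply hone2
    rw [sl2_pow_four_of_trace_sq_two _ 3 (by linear_combination h7) w7_trace]
    exact sl2_neg_one_mem_center
  · apply hne2
    apply sl2_not_mem_center_of_ne_zero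
    show (x7 : Matrix.SpecialLinearGroup (Fin 2) F).1 1 0 ≠ 0
    rw [x7_val]
    simp
  · apply hne2
    apply sl2_not_mem_center_of_ne_zero
    show (y7 : Matrix.SpecialLinearGroup (Fin 2) F).1 1 0 ≠ 0
    rw [y7_val]
    simp
  · rw [← QuotientGroup.mk_mul]
    apply hne2
    apply sl2_not_mem_center_of_ne_zero'
    show ((x7 * y7 : Matrix.SpecialLinearGroup (Fin 2) F)).1 0 1 ≠ 0
    rw [xy7_val]
    simp

end Cfsg.Agent.S0255
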