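import Cfsg.Statements.S0257
import Cfsg.Agent.S0242
import Cfsg.Agent.S0243

set_option autoImplicit false
open Cfsg

namespace Cfsg.Agent.S0257

open Matrix

/-- `2 × 2` matrices over `ZMod 3`. -/
abbrev M3 := Matrix (Fin 2) (Fin 2) (ZMod 3)

def mI : M3 := !![0, -1; 1, 0]
def mJ : M3 := !![1, 1; 1, -1]

/-- The embedding of `Q₈` into `2 × 2` matrices over `ZMod 3`. -/
def fm : QuaternionGroup 2 → M3
  | .a k => mI ^ k.val
  | .xa k => mJ * mI ^ k.val

lemma fm_mul : ∀ x y : QuaternionGroup 2, fm (x * y) = fm x * fm y := by decide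

lemma fm_one : fm 1 = 1 := by decide

lemma fm_det : ∀ x : QuaternionGroup 2,
    (fm x) 0 0 * (fm x) 1 1 - (fm x) 0 1 * (fm x) 1 0 = 1 := by decide

lemma fm_inj : ∀ x y : QuaternionGroup 2, fm x = fm y → x = y := by decide

lemma pow_four : ∀ x : QuaternionGroup 2, x ^ 4 = 1 := by decide

set_option maxRecDepth 100000 in
lemma brute : ∀ a b c d : ZMod 3, a * d - b * c = 1 → (!![a, b; c, d] : M3) ^ 4 = 1 →
    ∃ x : QuaternionGroup 2, fm x = !![a, b; c, d] := by decide

/-- The embedding of `Q₈` into `SL₂(3)`. -/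
def f : QuaternionGroup 2 →* SpecialLinearGroup (Fin 2) (ZMod 3) where
  toFun x := ⟨fm x, by rw [Matrix.det_fin_two]; exact fm_det x⟩
  map_one' := Subtype.ext fm_one
  map_mul' x y := Subtype.ext (fm_mul x y)

lemma f_injective : Function.Injective f := by
  intro x y h
  exact fm_inj x y (congrArg Subtype.val h)

lemma mem_range_iff (g : SpecialLinearGroup (Fin 2) (ZMod 3)) : g ∈ f.range ↔ g ^ 4 = 1 := by
  constructor
  · rintro ⟨x, rfl⟩
    rw [← map_pow, pow_four, map_one]
  · intro h
    have hdet : g.1 0 0 * g.1 1 1 - g.1 0 1 * g.1 1 0 = 1 := by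
      rw [← Matrix.det_fin_two]; exact g.2
    have h4 : (!![g.1 0 0, g.1 0 1; g.1 1 0, g.1 1 1] : M3) ^ 4 = 1 := by
      rw [← Matrix.eta_fin_two g.1]
      have := congrArg Subtype.val h
      simpa using this
    obtain ⟨x, hx⟩ := brute _ _ _ _ hdet h4
    refine ⟨x, Subtype.ext ?_⟩
    show fm x = g.1
    rw [hx, ← Matrix.eta_fin_two g.1]

lemma range_normal : (f.range).Normal := by
  constructor
  intro n hn g
  rw [mem_range_iff] at hn ⊢
  rw [conj_pow, hn, mul_one, mul_inv_cancel]

lemma card_range : Nat.card f.range = 8 := by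
  rw [← Nat.card_congr (MonoidHom.ofInjective f_injective).toEquiv, Nat.card_eq_fintype_card,
    QuaternionGroup.card]

/-- Transport of `SL₂` along a ring isomorphism. -/
def slEquiv {R S : Type*} [CommRing R] [CommRing S] (e : R ≃+* S) :
    SpecialLinearGroup (Fin 2) R ≃* SpecialLinearGroup (Fin 2) S where
  toFun := SpecialLinearGroup.map e.toRingHom
  invFun := SpecialLinearGroup.map e.symm.toRingHom
  left_inv g := by
    ext i j
    simp [SpecialLinearGroup.map_apply_coe]
  right_inv g := by
    ext i j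
    simp [SpecialLinearGroup.map_apply_coe]
  map_mul' := map_mul _

/-- SL_2(3) has a normal subgroup of index 3 isomorphic to the quaternion group of order 8, and its centre has order 2. -/
theorem result {F : Type*} [Field F] [Fintype F] (hF : Fintype.card F = 3) : (∃ Q : Subgroup (Matrix.SpecialLinearGroup (Fin 2) F), Q.Normal ∧ Q.index = 3 ∧ Nonempty (Q ≃* QuaternionGroup 2)) ∧ Nat.card (Subgroup.center (Matrix.SpecialLinearGroup (Fin 2) F)) = 2 := by
  have : Fact (Nat.Prime 3) := ⟨Nat.prime_three⟩
  have hcard := Cfsg.Agent.S0242.result hF 2 (by norm_num)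
  have h24 : Nat.card (Matrix.SpecialLinearGroup (Fin 2) F) = 24 := by
    rw [Fin.prod_univ_two] at hcard
    norm_num at hcard
    omega
  constructor
  · let e : F ≃+* ZMod 3 := (ZMod.ringEquivOfPrime F Nat.prime_three hF).symm
    let E := slEquiv e
    refine ⟨f.range.map E.symm.toMonoidHom, ?_, ?_, ?_⟩
    · exact range_normal.map _ E.symm.surjective
    · have hc : Nat.card (f.range.map E.symm.toMonoidHom) = 8 := by
        rw [← card_range]
        exact (Nat.card_congr (E.symm.subgroupMap f.range).toEquiv).symm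
      have := (f.range.map E.symm.toMonoidHom).card_mul_index
      rw [hc, h24] at this
      omega
    · exact ⟨((E.symm.subgroupMap f.range).symm).trans (MonoidHom.ofInjective f_injective).symm⟩
  · rw [Cfsg.Agent.S0243.card_center 2 (by norm_num), hF]
    rfl

end Cfsg.Agent.S0257
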