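import Cfsg.Statements.S0264
import Cfsg.Agent.Lib.Helper5.SLGen

set_option autoImplicit false
open Cfsg

namespace Cfsg.Agent.S0264

open Matrix Matrix.SpecialLinearGroup
open scoped commutatorElement

lemma toGL_mem_commutator_of_mem {ι F : Type*} [DecidableEq ι] [Fintype ι] [Field F]
    {A : SpecialLinearGroup ι F} (hA : A ∈ commutator (SpecialLinearGroup ι F)) :
    toGL A ∈ commutator (GeneralLinearGroup ι F) := by
  have h1 : toGL A ∈ Subgroup.map toGL (commutator (SpecialLinearGroup ι F)) :=
    Subgroup.mem_map_of_mem _ hA
  rw [commutator_def, Subgroup.map_commutator] at h1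
  exact Subgroup.commutator_mono le_top le_top h1

lemma transvection_two_mem {F : Type*} [Field F] {a : F} (ha0 : a ≠ 0) (ha1 : a ≠ 1)
    {i j : Fin 2} (hij : i ≠ j) (c : F) :
    toGL (transvection hij c) ∈ commutator (GeneralLinearGroup (Fin 2) F) := by
  have ha1' : a - 1 ≠ 0 := sub_ne_zero.2 ha1
  fin_cases i <;> fin_cases j
  · exact absurd rfl hij
  · -- (0,1)
    set D : GeneralLinearGroup (Fin 2) F :=
      GeneralLinearGroup.mkOfDetNeZero !![a, 0; 0, 1] (by simp [Matrix.det_fin_two, ha0]) with hD
    have key : ⁅D, toGL (transvection hij (c / (a - 1)))⁆ = toGL (transvection hij c) := by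
      rw [commutatorElement_def, mul_inv_eq_iff_eq_mul, mul_inv_eq_iff_eq_mul]
      apply Units.ext
      ext k l
      fin_cases k <;> fin_cases l <;>
        simp [hD, transvection_coe, Matrix.mul_apply, Fin.sum_univ_two, Matrix.single_apply,
          Matrix.one_apply] <;> field_simp <;> ring
    rw [← key]
    exact Subgroup.commutator_mem_commutator (Subgroup.mem_top _) (Subgroup.mem_top _)
  · -- (1,0)
    set D : GeneralLinearGroup (Fin 2) F :=
      GeneralLinearGroup.mkOfDetNeZero !![1, 0; 0, a] (by simp [Matrix.det_fin_two, ha0]) with hD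
    have key : ⁅D, toGL (transvection hij (c / (a - 1)))⁆ = toGL (transvection hij c) := by
      rw [commutatorElement_def, mul_inv_eq_iff_eq_mul, mul_inv_eq_iff_eq_mul]
      apply Units.ext
      ext k l
      fin_cases k <;> fin_cases l <;>
        simp [hD, transvection_coe, Matrix.mul_apply, Fin.sum_univ_two, Matrix.single_apply,
          Matrix.one_apply] <;> field_simp <;> ring
    rw [← key]
    exact Subgroup.commutator_mem_commutator (Subgroup.mem_top _) (Subgroup.mem_top _)
  · exact absurd rfl hij

/-- GL_n(F)' = SL_n(F) (as the kernel of det), for every field F and every n, except n = 2 over the field of two elements. -/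
theorem result {F : Type*} [Field F] (n : ℕ) (h : n = 2 → ∃ a : F, a ≠ 0 ∧ a ≠ 1) : commutator (Matrix.GeneralLinearGroup (Fin n) F) = (Matrix.GeneralLinearGroup.det : Matrix.GeneralLinearGroup (Fin n) F →* Fˣ).ker := by
  apply le_antisymm
  · exact Abelianization.commutator_subset_ker _
  · intro g hg
    have hdet : g.1.det = 1 := by
      have := congrArg Units.val (MonoidHom.mem_ker.1 hg)
      simpa using this
    have hgA : g = toGL (⟨g.1, hdet⟩ : SpecialLinearGroup (Fin n) F) := by
      apply Units.ext; rfl
    rw [hgA]
    refine Cfsg.Agent.Lib.Helper5.transvection_induction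
      (fun A ↦ toGL A ∈ commutator (GeneralLinearGroup (Fin n) F)) ?_ ?_ ?_ _
    · simp
    · intro i j hij c
      by_cases h3 : 3 ≤ n
      · exact toGL_mem_commutator_of_mem
          (Cfsg.Agent.Lib.Helper5.transvection_mem_commutator_of_three hij (by simpa using h3) c)
      · have hn2 : n = 2 := by
          have hi := i.2
          have hj := j.2
          have : (i : ℕ) ≠ j := fun hh ↦ hij (Fin.ext hh)
          omega
        subst hn2
        obtain ⟨a, ha0, ha1⟩ := h rfl
        exact transvection_two_mem ha0 ha1 hij c
    · intro A B hA hB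
      rw [map_mul]
      exact mul_mem hA hB

end Cfsg.Agent.S0264
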