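import Cfsg.Statements.S0268
import Mathlib

set_option autoImplicit false
open Cfsg

namespace Cfsg.Agent.S0268

/-- For q odd, -1 is the unique involution of SL_2(q). -/
theorem result {F : Type*} [Field F] [Fintype F] (hF : Odd (Fintype.card F)) (g : Matrix.SpecialLinearGroup (Fin 2) F) (h1 : g ≠ 1) (h2 : g * g = 1) : (g : Matrix (Fin 2) (Fin 2) F) = -1 := by
  have h2ne : (2 : F) ≠ 0 := by
    intro h
    have hchar : ringChar F = 2 := by
      have hdvd : ringChar F ∣ 2 := by
        have := (ringChar.spec F 2).1 (by exact_mod_cast h)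
        exact this
      have hp : (ringChar F).Prime := CharP.char_is_prime F (ringChar F)
      exact (Nat.prime_dvd_prime_iff_eq hp Nat.prime_two).1 hdvd
    have hcard : ringChar F ∣ Fintype.card F := by
      have : CharP F (ringChar F) := ringChar.charP F
      obtain ⟨n, _, hn⟩ := FiniteField.card F (ringChar F)
      rw [hn]
      exact dvd_pow_self _ (PNat.ne_zero _)
    rw [hchar] at hcard
    exact (Nat.not_even_iff_odd.2 hF) (even_iff_two_dvd.2 hcard)
  have hinv : g⁻¹ = g := by
    rw [inv_eq_iff_mul_eq_one]; exact h2
  have hadj := Matrix.SpecialLinearGroup.coe_inv g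
  rw [hinv, Matrix.adjugate_fin_two] at hadj
  have hdet := g.det_coe
  rw [Matrix.det_fin_two] at hdet
  have e00 := congrFun (congrFun hadj 0) 0
  have e01 := congrFun (congrFun hadj 0) 1
  have e10 := congrFun (congrFun hadj 1) 0
  simp at e00 e01 e10
  have hb : (g : Matrix (Fin 2) (Fin 2) F) 0 1 = 0 := by
    have : (2 : F) * (g : Matrix (Fin 2) (Fin 2) F) 0 1 = 0 := by linear_combination e01
    rcases mul_eq_zero.1 this with h | h
    · exact absurd h h2ne
    · exact h
  have hc : (g : Matrix (Fin 2) (Fin 2) F) 1 0 = 0 := by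
    have : (2 : F) * (g : Matrix (Fin 2) (Fin 2) F) 1 0 = 0 := by linear_combination e10
    rcases mul_eq_zero.1 this with h | h
    · exact absurd h h2ne
    · exact h
  have hsq : ((g : Matrix (Fin 2) (Fin 2) F) 0 0 - 1) * ((g : Matrix (Fin 2) (Fin 2) F) 0 0 + 1) = 0 := by
    rw [hb, hc, ← e00] at hdet
    linear_combination hdet
  rcases mul_eq_zero.1 hsq with h | h
  · exfalso
    apply h1
    ext i j
    fin_cases i <;> fin_cases j
    · simp; linear_combination h
    · simpa using hb
    · simpa using hc
    · simp; rw [← e00]; linear_combination h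
  · ext i j
    fin_cases i <;> fin_cases j
    · simp; linear_combination h
    · simpa using hb
    · simpa using hc
    · simp; rw [← e00]; linear_combination h

end Cfsg.Agent.S0268
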