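import Cfsg.Statements.S0273
import Cfsg.Agent.Lib.Helper86.GL2

set_option autoImplicit false
open Cfsg

namespace Cfsg.Agent.S0273

/-- In GL_2(q) the centraliser of a non-trivial element of a Sylow p-subgroup (p the characteristic) has order q (q-1): the Sylow subgroup times the scalars. -/
theorem result {F : Type*} [Field F] [Fintype F] {q : ℕ} (hF : Fintype.card F = q) (p : ℕ) [Fact p.Prime] [CharP F p] (P : Sylow p (Matrix.GeneralLinearGroup (Fin 2) F)) (a : Matrix.GeneralLinearGroup (Fin 2) F) (ha : a ∈ P) (ha1 : a ≠ 1) : Nat.card (Subgroup.centralizer ({a} : Set (Matrix.GeneralLinearGroup (Fin 2) F))) = q * (q - 1) := by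
  obtain ⟨g, hg⟩ := MulAction.exists_smul_eq (Matrix.GeneralLinearGroup (Fin 2) F)
    (Cfsg.Agent.Lib.Helper86.GL2.USylow p) P
  have ha' : a ∈ (P : Subgroup (Matrix.GeneralLinearGroup (Fin 2) F)) := ha
  rw [← hg, Cfsg.Agent.Lib.Helper86.GL2.mem_smul_USylow] at ha'
  obtain ⟨s, hs⟩ := Cfsg.Agent.Lib.Helper86.GL2.mem_U.mp ha'
  have hs0 : s ≠ 0 := by
    rintro rfl
    apply ha1
    have h0 : Cfsg.Agent.Lib.Helper86.GL2.uE (0 : F) = 1 := AddChar.map_zero_eq_one _
    rw [h0] at hs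
    have : a = g * (g⁻¹ * a * g) * g⁻¹ := by group
    rw [this, ← hs]; group
  have e : a = g * Cfsg.Agent.Lib.Helper86.GL2.uE s * g⁻¹ := by rw [hs]; group
  rw [e, Cfsg.Agent.Lib.Helper86.GL2.card_centralizer_conj,
    Cfsg.Agent.Lib.Helper86.GL2.card_centralizer_uE s hs0, Nat.card_eq_fintype_card, hF, mul_comm]

end Cfsg.Agent.S0273
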