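import Cfsg.Statements.S0275
import Cfsg.Agent.Lib.Helper35.GenInternal
import Cfsg.Agent.Lib.Helper11.Quad
import Cfsg.Agent.Lib.Helper21.Rank
import Cfsg.Agent.S0199
import Cfsg.Agent.S0016
import Cfsg.Agent.S0268

set_option autoImplicit false
open Cfsg

namespace Cfsg.Agent.S0275

open Cfsg.Agent.Lib.Helper35.GenQuad Module

/-- A finite group with more than one Sylow `p`-subgroup has a `p`-element `a` and a
conjugate of it generating, together with `a`, a subgroup that is not a `p`-group. -/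
theorem exists_pair {G : Type*} [Group G] [Finite G] {p : ℕ} [Fact p.Prime]
    (h : 1 < Nat.card (Sylow p G)) :
    ∃ a g : G, (∃ k : ℕ, a ^ p ^ k = 1) ∧ ¬ IsPGroup p
      ↥(Subgroup.zpowers a ⊔ (Subgroup.zpowers a).map (MulAut.conj g).toMonoidHom) := by
  by_contra hcon
  push Not at hcon
  have key : ∀ P Q : Sylow p G, (P : Subgroup G) ≤ Q := by
    intro P Q a ha
    obtain ⟨k, hk⟩ := P.2 ⟨a, ha⟩
    have hk' : a ^ p ^ k = 1 := by simpa using congrArg Subtype.val hk
    have hX : IsPGroup p ↥(Subgroup.zpowers a) := by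
      rintro ⟨x, hx⟩
      obtain ⟨n, rfl⟩ := Subgroup.mem_zpowers_iff.mp hx
      refine ⟨k, ?_⟩
      apply Subtype.ext
      simp only [Subgroup.coe_pow, Subgroup.coe_one]
      rw [← zpow_natCast, ← zpow_mul, mul_comm, zpow_mul, zpow_natCast, hk', one_zpow]
    obtain ⟨N, hNn, hNp, hXN⟩ := Cfsg.Agent.S0199.result (Subgroup.zpowers a) hX
      (fun g => hcon a g ⟨k, hk'⟩)
    exact Cfsg.Agent.Lib.Helper11.normal_pGroup_le_sylow hNn hNp Q
      (hXN (Subgroup.mem_zpowers a))
  have hss : Subsingleton (Sylow p G) :=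
    ⟨fun P Q => Sylow.ext (le_antisymm (key P Q) (key Q P))⟩
  have := Finite.card_le_one_iff_subsingleton.mpr hss
  omega

variable {F : Type*} [Field F]

/-- the matrix representation over the algebraic closure, as a ring hom -/
noncomputable def Phi : Matrix (Fin 2) (Fin 2) F →+* End (AlgebraicClosure F) (Fin 2 → AlgebraicClosure F) :=
  ((Matrix.toLinAlgEquiv' : Matrix (Fin 2) (Fin 2) (AlgebraicClosure F) ≃ₐ[AlgebraicClosure F] _) :
      Matrix (Fin 2) (Fin 2) (AlgebraicClosure F) →+* _).comp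
    (algebraMap F (AlgebraicClosure F)).mapMatrix

theorem Phi_injective : Function.Injective (Phi (F := F)) := by
  intro x y h
  unfold Phi at h
  simp only [RingHom.coe_comp, Function.comp_apply] at h
  have h1 := (Matrix.toLinAlgEquiv' : Matrix (Fin 2) (Fin 2) (AlgebraicClosure F) ≃ₐ[AlgebraicClosure F] _).injective h
  exact Matrix.map_injective (algebraMap F (AlgebraicClosure F)).injective h1

/-- the coercion of `SL₂` to matrices, as a monoid hom -/
def slCoe : Matrix.SpecialLinearGroup (Fin 2) F →* Matrix (Fin 2) (Fin 2) F where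
  toFun g := g.1
  map_one' := rfl
  map_mul' _ _ := rfl

theorem sq_zero_of_pow {K V : Type*} [Field K] [AddCommGroup V] [Module K V]
    [FiniteDimensional K V] (h2 : finrank K V = 2) (f : End K V) (m : ℕ) (hf : f ^ m = 0) :
    f * f = 0 := by
  have h := Module.End.ker_pow_le_ker_pow_finrank f m
  rw [hf, h2] at h
  have : LinearMap.ker (f ^ 2) = ⊤ := by
    rw [eq_top_iff]
    refine le_trans ?_ h
    intro x _
    simp
  rw [← pow_two]
  exact LinearMap.ker_eq_top.mp this

theorem quat_one_comm : ∀ x y : QuaternionGroup 1, x * y = y * x := by decide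

/-- nilpotency of `x - 1` for a `p`-element -/
theorem sub_one_pow_eq_zero' {p : ℕ} [Fact p.Prime] [CharP F p]
    (x : Matrix.SpecialLinearGroup (Fin 2) F) (k : ℕ) (hx : x ^ p ^ k = 1) :
    ((x : Matrix (Fin 2) (Fin 2) F) - 1) ^ p ^ k = 0 := by
  have h1 : (x : Matrix (Fin 2) (Fin 2) F) ^ p ^ k = 1 := by
    have := congrArg Subtype.val hx
    simpa using this
  rw [sub_pow_char_pow_of_commute p k (Commute.one_right _), h1, one_pow, sub_self]

/-- If p is odd and H is a subgroup of SL_2(q), q a power of p, with more than one Sylow p-subgroup, then the Sylow 2-subgroups of H are generalised quaternion. -/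
theorem result {F : Type*} [Field F] [Fintype F] (p : ℕ) [Fact p.Prime] [CharP F p] (hp : p ≠ 2) (H : Subgroup (Matrix.SpecialLinearGroup (Fin 2) F)) (hH : 1 < Nat.card (Sylow p H)) (S : Sylow 2 H) : ∃ k : ℕ, 1 ≤ k ∧ Nonempty ((S : Subgroup H) ≃* QuaternionGroup (2 ^ k)) := by
  classical
  have h2 : Fact (Nat.Prime 2) := ⟨Nat.prime_two⟩
  obtain ⟨a', g, ⟨k, hak⟩, hnp⟩ := exists_pair hH
  obtain ⟨a, ha⟩ : ∃ a : Matrix.SpecialLinearGroup (Fin 2) F, a = (a' : _) := ⟨_, rfl⟩
  obtain ⟨b, hb⟩ : ∃ b : Matrix.SpecialLinearGroup (Fin 2) F, b = ((g * a' * g⁻¹ : ↥H) : _) :=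
    ⟨_, rfl⟩
  obtain ⟨H₁, hH₁⟩ : ∃ H₁ : Subgroup (Matrix.SpecialLinearGroup (Fin 2) F),
    H₁ = Subgroup.closure {a, b} := ⟨_, rfl⟩
  have haH : a ∈ H := ha ▸ a'.2
  have hbH : b ∈ H := hb ▸ (g * a' * g⁻¹).2
  have haH₁ : a ∈ H₁ := by rw [hH₁]; exact Subgroup.subset_closure (by simp)
  have hbH₁ : b ∈ H₁ := by rw [hH₁]; exact Subgroup.subset_closure (by simp)
  have hH₁H : H₁ ≤ H := by
    rw [hH₁, Subgroup.closure_le]
    rintro x (rfl | hx)
    · exact haH
    · rw [Set.mem_singleton_iff] at hx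
      rw [hx]; exact hbH
  have hD : Subgroup.zpowers a' ⊔ (Subgroup.zpowers a').map (MulAut.conj g).toMonoidHom =
      Subgroup.closure {a', g * a' * g⁻¹} := by
    rw [MonoidHom.map_zpowers, Subgroup.zpowers_eq_closure, Subgroup.zpowers_eq_closure,
      ← Subgroup.closure_union]
    rfl
  have hmapD : (Subgroup.closure {a', g * a' * g⁻¹}).map H.subtype = H₁ := by
    rw [MonoidHom.map_closure, Set.image_pair, hH₁, hb, ha]
    rfl
  have hnp₁ : ¬ IsPGroup p ↥H₁ := by
    intro h
    apply hnp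
    rw [hD]
    rintro ⟨d, hd⟩
    have hdH₁ : ((d : ↥H) : Matrix.SpecialLinearGroup (Fin 2) F) ∈ H₁ := by
      rw [← hmapD]
      exact ⟨d, hd, rfl⟩
    obtain ⟨j, hj⟩ := h ⟨(d : _), hdH₁⟩
    refine ⟨j, ?_⟩
    apply Subtype.ext
    apply Subtype.ext
    have := congrArg Subtype.val hj
    simpa using this
  have hak' : a ^ p ^ k = 1 := by
    rw [ha]
    have := congrArg Subtype.val hak
    simpa using this
  have hbk' : b ^ p ^ k = 1 := by
    rw [hb]
    have h1 : (g * a' * g⁻¹) ^ p ^ k = 1 := by rw [conj_pow, hak, mul_one, mul_inv_cancel]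
    have := congrArg Subtype.val h1
    simpa using this
  -- the representation
  have hcK : CharP (AlgebraicClosure F) p :=
    charP_of_injective_algebraMap (algebraMap F (AlgebraicClosure F)).injective p
  obtain ⟨ρ, hρ⟩ : ∃ ρ : ↥H₁ →* End (AlgebraicClosure F) (Fin 2 → AlgebraicClosure F),
      ρ = (((Phi (F := F)) : _ →* _).comp slCoe).comp H₁.subtype := ⟨_, rfl⟩
  have hρd : ∀ d : ↥H₁, ρ d - 1 = Phi (((d : Matrix.SpecialLinearGroup (Fin 2) F) :
      Matrix (Fin 2) (Fin 2) F) - 1) := by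
    intro d
    rw [hρ, map_sub, map_one]
    rfl
  have hfr : finrank (AlgebraicClosure F) (Fin 2 → AlgebraicClosure F) = 2 := by simp
  have hq : ∀ x : ↥H₁, (x : Matrix.SpecialLinearGroup (Fin 2) F) ^ p ^ k = 1 →
      (ρ x - 1) * (ρ x - 1) = 0 := by
    intro x hx
    apply sq_zero_of_pow hfr _ (p ^ k)
    rw [hρd, ← map_pow, sub_one_pow_eq_zero' _ k hx, map_zero]
  obtain ⟨T₁⟩ : Nonempty (Sylow 2 ↥H₁) := inferInstance
  rcases gen_core hp ρ ⟨a, haH₁⟩ ⟨b, hbH₁⟩ (closure_pair_eq_top H₁ a b hH₁ haH₁ hbH₁)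
    (hq ⟨a, haH₁⟩ hak') (hq ⟨b, hbH₁⟩ hbk') T₁ with ⟨j, hj⟩ | ⟨x, hx, y, hy, hxy⟩
  · exfalso
    apply hnp₁
    intro d
    refine ⟨j, ?_⟩
    have h1 := hj d
    rw [hρd, ← map_pow] at h1
    have h3 : (((d : Matrix.SpecialLinearGroup (Fin 2) F) : Matrix (Fin 2) (Fin 2) F) - 1) ^ j
        = 0 := Phi_injective (by rw [h1, map_zero])
    have hjp : j ≤ p ^ j := (Nat.lt_pow_self (Fact.out : p.Prime).one_lt).le
    have h4 : (((d : Matrix.SpecialLinearGroup (Fin 2) F) : Matrix (Fin 2) (Fin 2) F) - 1)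
        ^ p ^ j = 0 := pow_eq_zero_of_le hjp h3
    rw [sub_pow_char_pow_of_commute p j (Commute.one_right _), one_pow, sub_eq_zero] at h4
    apply Subtype.ext
    apply Subtype.ext
    simpa using h4
  · -- transfer to `S`
    obtain ⟨h, hhH, hconj⟩ := Cfsg.Agent.Lib.Helper21.exists_conj_le_sylow_of_le S
      (Q := (T₁ : Subgroup ↥H₁).map H₁.subtype) (T₁.2.map _)
      ((Subgroup.map_subtype_le _).trans hH₁H)
    obtain ⟨sx, hsx, hsx'⟩ := hconj (x : _) ⟨x, hx, rfl⟩
    obtain ⟨sy, hsy, hsy'⟩ := hconj (y : _) ⟨y, hy, rfl⟩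
    have hne : sx * sy ≠ sy * sx := by
      intro hc
      apply hxy
      have h1 := congrArg (fun z : ↥H => (z : Matrix.SpecialLinearGroup (Fin 2) F)) hc
      simp only [Subgroup.coe_mul] at h1
      have hsx'' : (sx : Matrix.SpecialLinearGroup (Fin 2) F) = h * x * h⁻¹ := hsx'
      have hsy'' : (sy : Matrix.SpecialLinearGroup (Fin 2) F) = h * y * h⁻¹ := hsy'
      rw [hsx'', hsy''] at h1
      apply Subtype.ext
      simp only [Subgroup.coe_mul]
      have h5 : h * ((x : Matrix.SpecialLinearGroup (Fin 2) F) * y) * h⁻¹ =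
          h * ((y : Matrix.SpecialLinearGroup (Fin 2) F) * x) * h⁻¹ := by
        calc h * ((x : Matrix.SpecialLinearGroup (Fin 2) F) * y) * h⁻¹
            = (h * x * h⁻¹) * (h * y * h⁻¹) := by group
          _ = (h * y * h⁻¹) * (h * x * h⁻¹) := h1
          _ = h * ((y : Matrix.SpecialLinearGroup (Fin 2) F) * x) * h⁻¹ := by group
      exact mul_left_cancel (mul_right_cancel h5)
    -- unique involution
    have hFodd : Odd (Fintype.card F) := by
      obtain ⟨n, _, hn⟩ := FiniteField.card F p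
      rw [hn]
      exact ((Fact.out : p.Prime).odd_of_ne_two hp).pow
    have hU : Cfsg.Agent.S0016.UniqP 2 ↥(S : Subgroup ↥H) := by
      intro u v hu hu2 hv2
      by_cases hv : v = 1
      · rw [hv]; exact one_mem _
      have key : ∀ w : ↥(S : Subgroup ↥H), w ≠ 1 → w ^ 2 = 1 →
          (((w : ↥H) : Matrix.SpecialLinearGroup (Fin 2) F) : Matrix (Fin 2) (Fin 2) F) = -1 := by
        intro w hw hw2
        apply Cfsg.Agent.S0268.result hFodd
        · intro h1
          apply hw
          apply Subtype.ext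
          apply Subtype.ext
          exact h1
        · have := congrArg (fun z : ↥(S : Subgroup ↥H) =>
            ((z : ↥H) : Matrix.SpecialLinearGroup (Fin 2) F)) hw2
          simpa [pow_two] using this
      have huv : v = u := by
        apply Subtype.ext
        apply Subtype.ext
        apply Subtype.ext
        rw [key u hu hu2, key v hv hv2]
      rw [huv]
      exact Subgroup.mem_zpowers u
    rcases Cfsg.Agent.S0016.two_case S.2 hU with hc | ⟨n, ⟨e⟩⟩
    · exfalso
      obtain ⟨c, hc'⟩ := hc.exists_generator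
      have hcomm : ∀ u v : ↥(S : Subgroup ↥H), u * v = v * u := by
        intro u v
        obtain ⟨i, rfl⟩ := Subgroup.mem_zpowers_iff.mp (hc' u)
        obtain ⟨j, rfl⟩ := Subgroup.mem_zpowers_iff.mp (hc' v)
        rw [← zpow_add, ← zpow_add, add_comm]
      apply hne
      have := hcomm ⟨sx, hsx⟩ ⟨sy, hsy⟩
      exact congrArg Subtype.val this
    · refine ⟨n, ?_, ⟨e⟩⟩
      by_contra hn
      have hn0 : n = 0 := by omega
      subst hn0
      rw [pow_zero] at e
      apply hne
      have h1 := quat_one_comm (e ⟨sx, hsx⟩) (e ⟨sy, hsy⟩)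
      rw [← map_mul, ← map_mul] at h1
      exact congrArg Subtype.val (e.injective h1)

end Cfsg.Agent.S0275
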