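import Cfsg.Statements.S0290
import Cfsg.Agent.Lib.Helper5.DotCount

set_option autoImplicit false
open Cfsg

namespace Cfsg.Agent.S0290

open Matrix

/-- The minus-type quadratic form on F^(2m), m at least 1, has q^(2m-1) + q^(m-1) - q^m zeros (that is, (q^m + 1)(q^(m-1) - 1) non-zero isotropic vectors). -/
theorem result {F : Type*} [Field F] [Fintype F] {q : ℕ} (hF : Fintype.card F = q) (m : ℕ) (hm : 1 ≤ m) (a b : F) (hab : ∀ z₁ z₂ : F, z₁ ^ 2 + a * z₁ * z₂ + b * z₂ ^ 2 = 0 → z₁ = 0 ∧ z₂ = 0) : Nat.card {v : (Fin (m - 1) ⊕ Fin (m - 1)) ⊕ Fin 2 → F // Cfsg.quadFormMinus (m - 1) F a b v = 0} = q ^ (2 * m - 1) + q ^ (m - 1) - q ^ m := by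
  classical
  obtain ⟨k, rfl⟩ : ∃ k, m = k + 1 := ⟨m - 1, by omega⟩
  change Nat.card {v : (Fin k ⊕ Fin k) ⊕ Fin 2 → F // Cfsg.quadFormMinus k F a b v = 0} =
    q ^ (2 * (k + 1) - 1) + q ^ k - q ^ (k + 1)
  let g : (Fin 2 → F) → F := fun z ↦ z 0 ^ 2 + a * z 0 * z 1 + b * z 1 ^ 2
  let e0 : ((Fin k ⊕ Fin k) ⊕ Fin 2 → F) ≃ (Fin 2 → F) × ((Fin k → F) × (Fin k → F)) :=
    ((Equiv.sumArrowEquivProdArrow (Fin k ⊕ Fin k) (Fin 2) F).trans
      (Equiv.prodCongr (Equiv.sumArrowEquivProdArrow (Fin k) (Fin k) F)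
        (Equiv.refl _))).trans (Equiv.prodComm _ _)
  have e : {v : (Fin k ⊕ Fin k) ⊕ Fin 2 → F // Cfsg.quadFormMinus k F a b v = 0} ≃
      {p : (Fin 2 → F) × ((Fin k → F) × (Fin k → F)) // g p.1 + p.2.1 ⬝ᵥ p.2.2 = 0} :=
    e0.subtypeEquiv (fun v ↦ by
      simp only [e0, g, Cfsg.quadFormMinus, dotProduct, Equiv.sumArrowEquivProdArrow,
        Equiv.trans_apply, Equiv.coe_fn_mk, Equiv.prodCongr_apply, Equiv.prodComm_apply,
        Prod.swap_prod_mk, Prod.map_apply, Equiv.refl_apply, Function.comp_apply]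
      rw [add_comm])
  rw [Nat.card_congr e,
    Cfsg.Agent.Lib.Helper5.card_extra_add_dotProduct_eq_zero (n := Fin k) g,
    Fintype.card_fin, Fintype.card_fun, Fintype.card_fin, hF]
  have h1 : Nat.card {z : Fin 2 → F // g z = 0} = 1 := by
    have : {z : Fin 2 → F // g z = 0} ≃ Unit :=
      { toFun := fun _ ↦ ()
        invFun := fun _ ↦ ⟨0, by simp [g]⟩
        left_inv := fun ⟨z, hz⟩ ↦ by
          apply Subtype.ext
          obtain ⟨h0, h1⟩ := hab (z 0) (z 1) hz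
          funext i
          fin_cases i
          · exact h0.symm
          · exact h1.symm
        right_inv := fun _ ↦ rfl }
    rw [Nat.card_congr this]; simp
  rw [h1, one_mul]
  have hq : 1 ≤ q := by rw [← hF]; exact Fintype.card_pos
  rcases Nat.eq_zero_or_pos k with rfl | hk
  · simp
  · obtain ⟨j, rfl⟩ : ∃ j, k = j + 1 := ⟨k - 1, by omega⟩
    simp only [Nat.add_sub_cancel]
    have hexp : 2 * (j + 1 + 1) - 1 = (j + 1) + (j + 1 + 1) := by omega
    have h2 : q ^ 2 * ((q ^ (j + 1) - 1) * q ^ j) = (q ^ (j + 1) - 1) * q ^ (j + 1 + 1) := by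
      rw [pow_succ q (j + 1), pow_succ q j]; ring
    have h3 : q ^ (j + 1 + (j + 1 + 1)) = q ^ (j + 1) * q ^ (j + 1 + 1) := pow_add _ _ _
    rw [h2, hexp, h3]
    have hN : 1 ≤ q ^ (j + 1) := Nat.one_le_pow _ _ hq
    generalize q ^ (j + 1 + 1) = K
    generalize q ^ (j + 1) = N at hN ⊢
    obtain ⟨M, rfl⟩ : ∃ M, N = M + 1 := ⟨N - 1, by omega⟩
    rw [Nat.add_sub_cancel]
    have : (M + 1) * K + (M + 1) - K = M * K + (M + 1) := by
      have : (M + 1) * K = M * K + K := by ring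
      omega
    omega

end Cfsg.Agent.S0290
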