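import Cfsg.Statements.S0291
import Cfsg.Agent.Lib.Helper5.DotCount

set_option autoImplicit false
open Cfsg

namespace Cfsg.Agent.S0291

open Matrix

/-- For q odd, the form x_0^2 + sum_{i<m} x_i y_i on F^(2m+1) has exactly q^(2m) zeros. -/
theorem result {F : Type*} [Field F] [Fintype F] {q : ℕ} (hF : Fintype.card F = q) (hodd : Odd q) (m : ℕ) : Nat.card {v : Unit ⊕ (Fin m ⊕ Fin m) → F // Cfsg.quadFormOdd m F v = 0} = q ^ (2 * m) := by
  classical
  let e0 : (Unit ⊕ (Fin m ⊕ Fin m) → F) ≃ F × ((Fin m → F) × (Fin m → F)) :=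
    (Equiv.sumArrowEquivProdArrow Unit (Fin m ⊕ Fin m) F).trans
      (Equiv.prodCongr (Equiv.funUnique Unit F) (Equiv.sumArrowEquivProdArrow (Fin m) (Fin m) F))
  have e : {v : Unit ⊕ (Fin m ⊕ Fin m) → F // Cfsg.quadFormOdd m F v = 0} ≃
      {p : F × ((Fin m → F) × (Fin m → F)) // (fun x : F ↦ x ^ 2) p.1 + p.2.1 ⬝ᵥ p.2.2 = 0} :=
    e0.subtypeEquiv (fun v ↦ by
      simp [e0, Cfsg.quadFormOdd, dotProduct, Equiv.sumArrowEquivProdArrow])
  rw [Nat.card_congr e,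
    Cfsg.Agent.Lib.Helper5.card_extra_add_dotProduct_eq_zero (n := Fin m) (fun x : F ↦ x ^ 2),
    Fintype.card_fin, hF]
  have h1 : Nat.card {x : F // x ^ 2 = 0} = 1 := by
    have : {x : F // x ^ 2 = 0} ≃ Unit :=
      { toFun := fun _ ↦ ()
        invFun := fun _ ↦ ⟨0, by simp⟩
        left_inv := fun ⟨x, hx⟩ ↦ by
          apply Subtype.ext
          exact (pow_eq_zero_iff two_ne_zero).1 hx |>.symm
        right_inv := fun _ ↦ rfl }
    rw [Nat.card_congr this]; simp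
  rw [h1, one_mul]
  have hq : 1 ≤ q := by rw [← hF]; exact Fintype.card_pos
  rcases Nat.eq_zero_or_pos m with rfl | hm
  · simp
  · obtain ⟨k, rfl⟩ : ∃ k, m = k + 1 := ⟨m - 1, by omega⟩
    simp only [Nat.add_sub_cancel]
    have hk : 1 ≤ q ^ (k + 1) := Nat.one_le_pow _ _ hq
    have : q * ((q ^ (k + 1) - 1) * q ^ k) = (q ^ (k + 1) - 1) * q ^ (k + 1) := by
      rw [pow_succ q k]; ring
    have h3 : q ^ (2 * (k + 1)) = q ^ (k + 1) * q ^ (k + 1) := by rw [two_mul, pow_add]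
    rw [this, h3]
    generalize q ^ (k + 1) = N at hk ⊢
    obtain ⟨M, rfl⟩ : ∃ M, N = M + 1 := ⟨N - 1, by omega⟩
    rw [Nat.add_sub_cancel]
    ring

end Cfsg.Agent.S0291
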