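import Cfsg.Statements.S0295
import Cfsg.Agent.Lib.Helper8.OmegaIwasawa
import Cfsg.Agent.Lib.Helper43.OrthCardForms

set_option autoImplicit false
open Cfsg

namespace Cfsg.Agent.S0295

/-- PΩ_{2m+1}(q) is simple for q odd and m at least 3. -/
theorem result {F : Type*} [Field F] [Fintype F] (hodd : Odd (Fintype.card F)) (m : ℕ) (hm : 3 ≤ m) : IsSimpleGroup (Cfsg.POmega F (Cfsg.quadFormOdd m F)) := by
  have h2 : (2 : F) ≠ 0 := by
    intro h2
    have hch : ringChar F = 2 :=
      CharP.ringChar_of_prime_eq_zero Nat.prime_two (by exact_mod_cast h2)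
    have := FiniteField.even_card_of_char_two hch
    rw [Nat.odd_iff] at hodd
    omega
  have hfr : Module.finrank F (Unit ⊕ (Fin m ⊕ Fin m) → F) = 1 + (m + m) := by simp
  have hnd : (QuadraticMap.polarBilin (Cfsg.Agent.Lib.Helper43.oddForm m F)).Nondegenerate :=
    (Cfsg.Agent.Lib.Helper43.odd_family m F).nondegenerate
      (Cfsg.Agent.Lib.Helper43.sq_nondegenerate F h2)
  have h := Cfsg.Agent.Lib.Helper8.pomega_simple (Cfsg.Agent.Lib.Helper43.oddForm m F)
    hnd (by omega) (fun h => absurd h h2)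
  rw [← Cfsg.Agent.Lib.Helper43.oddForm_coe] at h
  exact h

end Cfsg.Agent.S0295
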