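import Cfsg.Statements.S0296
import Cfsg.Agent.Lib.Helper8.OmegaIwasawa
import Cfsg.Agent.Lib.Helper8.OrthForms

set_option autoImplicit false
open Cfsg

namespace Cfsg.Agent.S0296

/-- PΩ^+_{2m}(q) is simple for m at least 4. -/
theorem result {F : Type*} [Field F] [Fintype F] (m : ℕ) (hm : 4 ≤ m) : IsSimpleGroup (Cfsg.POmega F (Cfsg.quadFormPlus m F)) := by
  have hfr : Module.finrank F (Fin m ⊕ Fin m → F) = m + m := by simp
  have h := Cfsg.Agent.Lib.Helper8.pomega_simple (Cfsg.Agent.Lib.Helper8.plusForm m F)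
    (Cfsg.Agent.Lib.Helper8.plusForm_nondegenerate m F) (by omega) (fun _ => by omega)
  rw [← Cfsg.Agent.Lib.Helper8.plusForm_coe] at h
  exact h

end Cfsg.Agent.S0296
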