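import Cfsg.Statements.S0297
import Cfsg.Agent.Lib.Helper8.OmegaIwasawa
import Cfsg.Agent.Lib.Helper43.OrthCardMinus

set_option autoImplicit false
open Cfsg

namespace Cfsg.Agent.S0297

/-- PΩ^-_{2m}(q) is simple for m at least 4 (the form is quadFormMinus (m-1) with anisotropic binary part). -/
theorem result {F : Type*} [Field F] [Fintype F] (m : ℕ) (hm : 4 ≤ m) (a b : F) (hab : ∀ z₁ z₂ : F, z₁ ^ 2 + a * z₁ * z₂ + b * z₂ ^ 2 = 0 → z₁ = 0 ∧ z₂ = 0) : IsSimpleGroup (Cfsg.POmega F (Cfsg.quadFormMinus (m - 1) F a b)) := by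
  have hfr : Module.finrank F ((Fin (m - 1) ⊕ Fin (m - 1)) ⊕ Fin 2 → F) = (m - 1) + (m - 1) + 2 := by
    simp
  have hnd : (QuadraticMap.polarBilin
      (Cfsg.Agent.Lib.Helper8.minusForm (m - 1) F a b)).Nondegenerate :=
    (Cfsg.Agent.Lib.Helper43.minus_family (m - 1) F a b).nondegenerate
      (Cfsg.Agent.Lib.Helper43.minusForm_zero_nondegenerate F a b hab)
  have h := Cfsg.Agent.Lib.Helper8.pomega_simple (Cfsg.Agent.Lib.Helper8.minusForm (m - 1) F a b)
    hnd (by omega) (fun _ => by omega)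
  rw [← Cfsg.Agent.Lib.Helper8.minusForm_coe] at h
  exact h

end Cfsg.Agent.S0297
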