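import Cfsg.Statements.S0307
-- import your own Cfsg.Agent.* helpers here

set_option autoImplicit false
open Cfsg

namespace Cfsg.Agent.S0307


open Matrix MatrixGroups in


/-- PSL_n(q) is normal in PGL_n(q) with cyclic quotient of order gcd(n, q-1): the image of the natural map PSL_n → PGL_n is the kernel of a surjective homomorphism onto the cyclic group of that order. -/
theorem result {F : Type*} [Field F] [Fintype F] {q : ℕ} (hF : Fintype.card F = q) (n : ℕ) (hn : 1 ≤ n) : ∃ g : Matrix.ProjGenLinGroup (Fin n) F →* Multiplicative (ZMod (Nat.gcd n (q - 1))), Function.Surjective g ∧ g.ker = (Matrix.ProjectiveSpecialLinearGroup.toPGL : Matrix.ProjectiveSpecialLinearGroup (Fin n) F →* Matrix.ProjGenLinGroup (Fin n) F).range := by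
  classical
  have : Nonempty (Fin n) := ⟨⟨0, hn⟩⟩
  -- the subgroup of n-th powers
  set P : Subgroup Fˣ := (powMonoidHom n : Fˣ →* Fˣ).range with hP
  have hcardU : Nat.card Fˣ = q - 1 := by
    rw [Nat.card_eq_fintype_card, Fintype.card_units, hF]
  have hidx : P.index = Nat.gcd n (q - 1) := by
    rw [hP, IsCyclic.index_powMonoidHom_range, hcardU, Nat.gcd_comm]
  have hdpos : 0 < Nat.gcd n (q - 1) := Nat.gcd_pos_of_pos_left _ hn
  have : NeZero (Nat.gcd n (q - 1)) := ⟨hdpos.ne'⟩
  -- the quotient is cyclic of order d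
  have : IsCyclic (Fˣ ⧸ P) := isCyclic_of_surjective (QuotientGroup.mk' P) (QuotientGroup.mk'_surjective P)
  have hcardQ : Nat.card (Fˣ ⧸ P) = Nat.card (Multiplicative (ZMod (Nat.gcd n (q - 1)))) := by
    rw [← Subgroup.index_eq_card, hidx, Nat.card_eq_fintype_card, Fintype.card_multiplicative,
      ZMod.card]
  let iso : (Fˣ ⧸ P) ≃* Multiplicative (ZMod (Nat.gcd n (q - 1))) := mulEquivOfCyclicCardEq hcardQ
  -- the determinant map modulo n-th powers
  let ψ : GL (Fin n) F →* Fˣ ⧸ P := (QuotientGroup.mk' P).comp Matrix.GeneralLinearGroup.det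
  have hker : Subgroup.center (GL (Fin n) F) ≤ ψ.ker := by
    intro A hA
    rw [Matrix.GeneralLinearGroup.center_eq_range_scalar] at hA
    obtain ⟨u, rfl⟩ := hA
    rw [MonoidHom.mem_ker]
    simp only [ψ, MonoidHom.coe_comp, Function.comp_apply, QuotientGroup.mk'_apply,
      QuotientGroup.eq_one_iff]
    refine ⟨u, ?_⟩
    ext
    simp [Matrix.GeneralLinearGroup.scalar]
  let g0 : Matrix.ProjGenLinGroup (Fin n) F →* Fˣ ⧸ P :=
    QuotientGroup.lift (Subgroup.center (GL (Fin n) F)) ψ hker
  have hg0mk : ∀ A : GL (Fin n) F, g0 (Matrix.ProjGenLinGroup.mk A) =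
      QuotientGroup.mk' P (Matrix.GeneralLinearGroup.det A) := fun A => rfl
  refine ⟨iso.toMonoidHom.comp g0, ?_, ?_⟩
  · apply iso.surjective.comp
    intro x
    obtain ⟨u, rfl⟩ := QuotientGroup.mk'_surjective P x
    obtain ⟨A, rfl⟩ := Matrix.GeneralLinearGroup.det_surjective (n := Fin n) u
    exact ⟨Matrix.ProjGenLinGroup.mk A, hg0mk A⟩
  · ext x
    rw [MonoidHom.mem_ker, MonoidHom.mem_range]
    simp only [MonoidHom.coe_comp, MulEquiv.coe_toMonoidHom, Function.comp_apply,
      EmbeddingLike.map_eq_one_iff]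
    induction x using Matrix.ProjGenLinGroup.induction_on with | mk A =>
    rw [hg0mk]
    simp only [QuotientGroup.mk'_apply, QuotientGroup.eq_one_iff]
    constructor
    · rintro ⟨k, hk⟩
      have hk' : k ^ n = Matrix.GeneralLinearGroup.det A := hk
      have hr : (k⁻¹) ^ Fintype.card (Fin n) * Matrix.GeneralLinearGroup.det A = 1 := by
        rw [Fintype.card_fin, ← hk', inv_pow, inv_mul_cancel]
      simp only [Units.ext_iff, Units.val_mul, Units.val_pow_eq_pow_val,
        Matrix.GeneralLinearGroup.val_det_apply, ← Matrix.det_smul A.1 (k⁻¹).1, Units.val_one] at hr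
      let X : Matrix.SpecialLinearGroup (Fin n) F := ⟨(k⁻¹).1 • A.1, hr⟩
      refine ⟨QuotientGroup.mk X, ?_⟩
      simp only [Matrix.ProjectiveSpecialLinearGroup.toPGL_mk, Matrix.ProjGenLinGroup.mk_eq_mk_iff]
      refine ⟨k, Units.ext ?_⟩
      simp only [Units.val_mul, Matrix.SpecialLinearGroup.coe_GL_coe_matrix,
        Matrix.GeneralLinearGroup.coe_scalar]
      show ((k⁻¹ : Fˣ) : F) • A.1 * Matrix.diagonal (fun _ => (k : F)) = A.1
      ext i j
      rw [Matrix.mul_diagonal, Matrix.smul_apply, smul_eq_mul, Units.val_inv_eq_inv_val]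
      have hk0 : (k : F) ≠ 0 := k.ne_zero
      field_simp
    · rintro ⟨X, hX⟩
      induction X using QuotientGroup.induction_on with | H X =>
      rw [Matrix.ProjectiveSpecialLinearGroup.toPGL_mk, Matrix.ProjGenLinGroup.mk_eq_mk_iff] at hX
      obtain ⟨u, hu⟩ := hX
      refine ⟨u, ?_⟩
      have := congrArg Matrix.GeneralLinearGroup.det hu
      rw [map_mul] at this
      rw [← this]
      ext
      simp [Matrix.GeneralLinearGroup.scalar]

end Cfsg.Agent.S0307
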