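import Cfsg.Statements.S0316
import Cfsg.Agent.Lib.Helper6.BN2

set_option autoImplicit false
open Cfsg

namespace Cfsg.Agent.S0316

/-- The map `J ↦ P_J` is a lattice isomorphism from the power set of the set of distinguished generators onto the
subgroups containing `B`. -/
theorem result {G : Type*} [Group G] (P : Cfsg.BNPair G) :
    ∃ e : Set P.S ≃o {M : Subgroup G // P.B ≤ M},
      ∀ J : Set P.S, ((e J : {M : Subgroup G // P.B ≤ M}) : Subgroup G) = P.parabolic (Subtype.val '' J) := by
  have hsub : ∀ J : Set P.S, Subtype.val '' J ⊆ P.S := by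
    rintro J x ⟨y, _, rfl⟩; exact y.2
  refine ⟨{ toFun := fun J => ⟨P.parabolic (Subtype.val '' J), Cfsg.Agent.Lib.Helper6.B_le_parabolic _⟩
            invFun := fun M => {s : P.S | (s : G) ∈ M.1}
            left_inv := ?_
            right_inv := ?_
            map_rel_iff' := ?_ }, fun J => rfl⟩
  · intro J
    ext s
    constructor
    · intro hs
      have := Cfsg.Agent.Lib.Helper6.mem_of_mem_parabolic (hsub J) s.2 hs
      obtain ⟨y, hy, hys⟩ := this
      have : y = s := Subtype.ext hys
      exact this ▸ hy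
    · intro hs
      exact Cfsg.Agent.Lib.Helper6.subset_parabolic _ ⟨s, hs, rfl⟩
  · rintro ⟨M, hM⟩
    apply Subtype.ext
    have h := Cfsg.Agent.Lib.Helper6.overgroup_eq_parabolic hM
    have e : Subtype.val '' {s : P.S | (s : G) ∈ M} = P.S ∩ (M : Set G) := by
      ext x
      constructor
      · rintro ⟨y, hy, rfl⟩; exact ⟨y.2, hy⟩
      · rintro ⟨hx1, hx2⟩; exact ⟨⟨x, hx1⟩, hx2, rfl⟩
    show P.parabolic (Subtype.val '' {s : P.S | (s : G) ∈ M}) = M
    rw [e]; exact h.symm
  · intro J K
    show P.parabolic (Subtype.val '' J) ≤ P.parabolic (Subtype.val '' K) ↔ J ≤ K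
    rw [Cfsg.Agent.Lib.Helper6.parabolic_le_iff (hsub J) (hsub K)]
    exact Set.image_subset_image_iff Subtype.val_injective

end Cfsg.Agent.S0316
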