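import Cfsg.Statements.S0322
import Cfsg.Agent.Lib.Helper6.BN2

set_option autoImplicit false
open Cfsg

namespace Cfsg.Agent.S0322

/-- A group with a (B,N)-pair of rank one acts doubly transitively on the left cosets of `B`. -/
theorem result {G : Type*} [Group G] (P : Cfsg.BNPair G) (h : P.rank = 1) : MulAction.IsMultiplyPretransitive G (G ⧸ P.B) 2 := by
  classical
  obtain ⟨hsub, ⟨⟨s, hs⟩⟩⟩ := Nat.card_eq_one_iff_unique.1 h
  have hS : P.S = {s} := by
    ext x
    constructor
    · intro hx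
      have := congrArg Subtype.val (hsub.elim ⟨x, hx⟩ ⟨s, hs⟩)
      exact this
    · intro hx; rw [Set.mem_singleton_iff] at hx; exact hx ▸ hs
  have hcases : ∀ g : G, g ∈ P.B ∨ g ∈ Cfsg.Agent.Lib.Helper6.C P s := by
    intro g
    have hg : g ∈ P.parabolic P.S := by rw [Cfsg.Agent.Lib.Helper6.parabolic_S]; trivial
    rw [hS] at hg
    exact (Cfsg.Agent.Lib.Helper6.mem_parabolic_singleton hs).1 hg
  rw [MulAction.is_two_pretransitive_iff]
  intro a b c d hab hcd
  induction a using QuotientGroup.induction_on with | H x => ?_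
  induction b using QuotientGroup.induction_on with | H y => ?_
  induction c using QuotientGroup.induction_on with | H z => ?_
  induction d using QuotientGroup.induction_on with | H w => ?_
  have h1 : x⁻¹ * y ∉ P.B := fun hh => hab (QuotientGroup.eq.2 hh)
  have h2 : z⁻¹ * w ∉ P.B := fun hh => hcd (QuotientGroup.eq.2 hh)
  have h3 := (hcases _).resolve_left h1
  have h4 := (hcases _).resolve_left h2
  rw [Cfsg.Agent.Lib.Helper6.mem_C] at h3 h4
  obtain ⟨b1, hb1, b2, hb2, e1⟩ := h3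
  obtain ⟨b3, hb3, b4, hb4, e2⟩ := h4
  refine ⟨z * b3 * b1⁻¹ * x⁻¹, ?_, ?_⟩
  · rw [MulAction.Quotient.smul_mk, QuotientGroup.eq, smul_eq_mul]
    have e : (z * b3 * b1⁻¹ * x⁻¹ * x)⁻¹ * z = b1 * b3⁻¹ := by group
    rw [e]
    exact P.B.mul_mem hb1 (P.B.inv_mem hb3)
  · rw [MulAction.Quotient.smul_mk, QuotientGroup.eq, smul_eq_mul]
    have hy : y = x * (b1 * s * b2) := by rw [← e1]; group
    have hw : w = z * (b3 * s * b4) := by rw [← e2]; group
    have e : (z * b3 * b1⁻¹ * x⁻¹ * y)⁻¹ * w = b2⁻¹ * b4 := by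
      rw [hy, hw]; group
    rw [e]
    exact P.B.mul_mem (P.B.inv_mem hb2) hb4

end Cfsg.Agent.S0322
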