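import Cfsg.Statements.S0323
import Cfsg.Agent.Lib.Helper6.BN2

set_option autoImplicit false
open scoped Pointwise
open Cfsg

namespace Cfsg.Agent.S0323

/-- A doubly transitive action on a set with at least three points yields a (B,N)-pair of rank one:
`B` is the stabiliser of a point `x`, `N` the setwise stabiliser of a pair `{x, y}`. -/
theorem result {G Ω : Type*} [Group G] [MulAction G Ω]
    (h2 : MulAction.IsMultiplyPretransitive G Ω 2) {x y z : Ω} (hxy : x ≠ y) (hyz : y ≠ z) (hxz : x ≠ z) :
    ∃ P : Cfsg.BNPair G, P.B = MulAction.stabilizer G x ∧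
      P.N = MulAction.stabilizer G ({x, y} : Set Ω) ∧ P.rank = 1 := by
  classical
  rw [MulAction.is_two_pretransitive_iff] at h2
  obtain ⟨s, hsx, hsy⟩ := h2 hxy hxy.symm
  have hsinvx : s⁻¹ • x = y := by rw [inv_smul_eq_iff, hsy]
  have hsinvy : s⁻¹ • y = x := by rw [inv_smul_eq_iff, hsx]
  -- membership in N
  have memN : ∀ n : G, n ∈ MulAction.stabilizer G ({x, y} : Set Ω) →
      (n • x = x ∧ n • y = y) ∨ (n • x = y ∧ n • y = x) := by
    intro n hn
    rw [MulAction.mem_stabilizer_iff] at hn
    have h1 : n • x ∈ ({x, y} : Set Ω) := by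
      rw [← hn]; exact Set.smul_mem_smul_set (by simp)
    have h2' : n • y ∈ ({x, y} : Set Ω) := by
      rw [← hn]; exact Set.smul_mem_smul_set (by simp)
    have hne : n • x ≠ n • y := fun h => hxy (MulAction.injective n h)
    simp only [Set.mem_insert_iff, Set.mem_singleton_iff] at h1 h2'
    rcases h1 with h1 | h1 <;> rcases h2' with h2' | h2'
    · exact absurd (h1.trans h2'.symm) hne
    · exact Or.inl ⟨h1, h2'⟩
    · exact Or.inr ⟨h1, h2'⟩
    · exact absurd (h1.trans h2'.symm) hne
  have memN' : ∀ n : G, ((n • x = x ∧ n • y = y) ∨ (n • x = y ∧ n • y = x)) →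
      n ∈ MulAction.stabilizer G ({x, y} : Set Ω) := by
    intro n hn
    rw [MulAction.mem_stabilizer_iff, Set.smul_set_insert, Set.smul_set_singleton]
    rcases hn with ⟨h1, h2'⟩ | ⟨h1, h2'⟩
    · rw [h1, h2']
    · rw [h1, h2', Set.pair_comm]
  have hsN : s ∈ MulAction.stabilizer G ({x, y} : Set Ω) := memN' s (Or.inr ⟨hsx, hsy⟩)
  -- double coset lemma
  have dc : ∀ g m : G, (g • x = x ↔ m • x = x) →
      g ∈ DoubleCoset.doubleCoset m (MulAction.stabilizer G x : Set G) (MulAction.stabilizer G x) := by
    intro g m hgm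
    rw [DoubleCoset.mem_doubleCoset]
    by_cases hg : g • x = x
    · have hm := hgm.1 hg
      refine ⟨g, hg, m⁻¹, ?_, by group⟩
      show m⁻¹ • x = x
      rw [inv_smul_eq_iff, hm]
    · have hm : m • x ≠ x := fun h => hg (hgm.2 h)
      obtain ⟨b, hbx, hbm⟩ := h2 (Ne.symm hm) (Ne.symm hg)
      refine ⟨b, hbx, (b * m)⁻¹ * g, ?_, by group⟩
      show ((b * m)⁻¹ * g) • x = x
      rw [mul_smul, inv_smul_eq_iff, mul_smul, hbm]
  refine ⟨{ B := MulAction.stabilizer G x
            N := MulAction.stabilizer G ({x, y} : Set Ω)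
            S := {s}
            sup_eq_top := ?_
            conj_mem := ?_
            subset := ?_
            sq_mem := ?_
            inj := ?_
            closure_sup := ?_
            mul_mem_union := ?_
            conj_ne := ?_ }, rfl, rfl, ?_⟩
  · -- sup_eq_top
    rw [eq_top_iff]
    intro g _
    by_cases hg : g • x = x
    · exact Subgroup.mem_sup_left hg
    · have := dc g s ⟨fun h => absurd h hg, fun h => absurd (hsx.symm.trans h) hxy.symm⟩
      rw [DoubleCoset.mem_doubleCoset] at this
      obtain ⟨a, ha, c, hc, rfl⟩ := this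
      exact Subgroup.mul_mem _ (Subgroup.mul_mem _ (Subgroup.mem_sup_left ha)
        (Subgroup.mem_sup_right hsN)) (Subgroup.mem_sup_left hc)
  · -- conj_mem
    rintro n hn t ⟨htB, htN⟩
    have htx : t • x = x := htB
    have hty : t • y = y := by
      rcases memN t htN with ⟨_, h⟩ | ⟨h, _⟩
      · exact h
      · exact absurd (htx.symm.trans h) hxy
    show (n * t * n⁻¹) • x = x
    have hn' := memN n⁻¹ (Subgroup.inv_mem _ hn)
    rw [mul_smul, mul_smul]
    rcases hn' with ⟨h1, _⟩ | ⟨h1, _⟩
    · rw [h1, htx]
      rw [inv_smul_eq_iff] at h1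
      exact h1.symm
    · rw [h1, hty]
      rw [inv_smul_eq_iff] at h1
      exact h1.symm
  · -- subset
    intro a ha
    rw [Set.mem_singleton_iff] at ha
    subst ha
    exact hsN
  · -- sq_mem
    intro a ha
    rw [Set.mem_singleton_iff] at ha
    subst ha
    show (a * a) • x = x
    rw [mul_smul, hsx, hsy]
  · -- inj
    intro a ha a' ha' _
    rw [Set.mem_singleton_iff] at ha ha'
    rw [ha, ha']
  · -- closure_sup
    apply le_antisymm
    · apply sup_le
      · rw [Subgroup.closure_le]
        intro a ha
        rw [Set.mem_singleton_iff] at ha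
        subst ha
        exact hsN
      · exact inf_le_right
    · intro n hn
      rcases memN n hn with ⟨h1, _⟩ | ⟨h1, _⟩
      · exact Subgroup.mem_sup_right ⟨h1, hn⟩
      · have e : n = s * (s⁻¹ * n) := by group
        rw [e]
        refine Subgroup.mul_mem _ (Subgroup.mem_sup_left (Subgroup.subset_closure rfl))
          (Subgroup.mem_sup_right ⟨?_, Subgroup.mul_mem _ (Subgroup.inv_mem _ hsN) hn⟩)
        show (s⁻¹ * n) • x = x
        rw [mul_smul, h1, hsinvy]
  · -- mul_mem_union
    intro a ha n hn b hb
    rw [Set.mem_singleton_iff] at ha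
    subst ha
    have hbx : b • x = x := hb
    rcases memN n hn with ⟨h1, _⟩ | ⟨h1, h1'⟩
    · left
      apply dc
      rw [mul_smul, mul_smul, h1, hbx, hsx, mul_smul, h1, hsx]
    · by_cases hby : b • y = y
      · left
        apply dc
        rw [mul_smul, mul_smul, h1, hby, hsy, mul_smul, h1, hsy]
      · right
        apply dc
        rw [mul_smul, mul_smul, h1]
        constructor
        · intro h
          exfalso
          apply hby
          have : b • y = a⁻¹ • x := by rw [eq_inv_smul_iff]; exact h
          rw [this, hsinvx]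
        · intro h
          exact absurd h hxy.symm
  · -- conj_ne
    intro a ha
    rw [Set.mem_singleton_iff] at ha
    subst ha
    obtain ⟨b, hbx, hby⟩ := h2 hxy hxz
    intro heq
    have hmem : a * b * a ∈ (fun b : G => a * b * a) '' (MulAction.stabilizer G x : Set G) :=
      ⟨b, hbx, rfl⟩
    rw [heq] at hmem
    have h1 : (a * b * a) • x = x := hmem
    rw [mul_smul, mul_smul, hsx, hby] at h1
    have : z = y := by
      have h3 : a • z = a • y := h1.trans hsy.symm
      exact MulAction.injective a h3
    exact hyz this.symm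
  · -- rank
    show Nat.card ({s} : Set G) = 1
    simp

end Cfsg.Agent.S0323
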