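import Cfsg.Statements.S0324
import Cfsg.Agent.Lib.Helper6.SzBridge

set_option autoImplicit false
open Cfsg

namespace Cfsg.Agent.S0324


open Cfsg.Agent.Lib.Helper6.Sz
open scoped Pointwise

lemma card_of_eq {F : Type*} [Field F] [CharP F 2] [Finite F] (s : F →+* F)
    (hs : ∀ x, s (s x) = x ^ 2) (hnt : ∃ y : F, s y ≠ y ^ 2)
    {O : Set (Projectivization F (Fin 4 → F))} (hO : O = Ov s) :
    Nat.card (MulAction.stabilizer (Matrix.SpecialLinearGroup (Fin 4) F) O) =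
      (Nat.card F ^ 2 + 1) * (Nat.card F ^ 2 * (Nat.card F - 1)) := by
  subst hO
  exact card_G s hs hnt


/-- The Suzuki group over a field with `q = 2^(2m+1)` elements, `m ≥ 1`, has order `q² (q² + 1) (q - 1)`. -/
theorem result {F : Type*} [Field F] [Fintype F] {m : ℕ} (hm : 1 ≤ m)
    (hF : Fintype.card F = 2 ^ (2 * m + 1)) :
    Nat.card (Cfsg.Sz F m) = (2 ^ (2 * m + 1)) ^ 2 * ((2 ^ (2 * m + 1)) ^ 2 + 1) * (2 ^ (2 * m + 1) - 1) := by
  haveI := charP_two hF
  have h := card_of_eq (sig F m) (sig_sig hF) (sig_nt hm hF) (ovoid_eq (F := F) m)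
  rw [Nat.card_eq_fintype_card (α := F), hF] at h
  rw [h]
  ring

end Cfsg.Agent.S0324
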