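import Cfsg.Statements.S0325
import Cfsg.Agent.Lib.Helper6.SzSimple
import Cfsg.Agent.Lib.Helper6.SzBridge

set_option autoImplicit false
open Cfsg

namespace Cfsg.Agent.S0325


open Cfsg.Agent.Lib.Helper6.Sz
open scoped Pointwise

lemma simple_of_eq {F : Type*} [Field F] [CharP F 2] [Finite F] (s : F →+* F)
    (hs : ∀ x, s (s x) = x ^ 2) (hnt : ∃ y : F, s y ≠ y ^ 2)
    {O : Set (Projectivization F (Fin 4 → F))} (hO : O = Ov s) :
    IsSimpleGroup (MulAction.stabilizer (Matrix.SpecialLinearGroup (Fin 4) F) O) := by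
  subst hO
  exact isSimpleGroup s hs hnt


/-- The Suzuki group over a field with `2^(2m+1)` elements, `m ≥ 1`, is a simple group. -/
theorem result {F : Type*} [Field F] [Fintype F] {m : ℕ} (hm : 1 ≤ m)
    (hF : Fintype.card F = 2 ^ (2 * m + 1)) :
    IsSimpleGroup (Cfsg.Sz F m) := by
  have := charP_two hF
  exact simple_of_eq (sig F m) (sig_sig hF) (sig_nt hm hF) (ovoid_eq (F := F) m)

end Cfsg.Agent.S0325
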