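import Cfsg.Statements.S0328
import Cfsg.Agent.Lib.Helper6.SzForm
import Cfsg.Agent.Lib.Helper6.SzBridge

set_option autoImplicit false
open Cfsg

namespace Cfsg.Agent.S0328


open Cfsg.Agent.Lib.Helper6.Sz
open scoped Pointwise

lemma iso_of_eq {F : Type*} [Field F] [CharP F 2] [Finite F] (s : F →+* F)
    (hs : ∀ x, s (s x) = x ^ 2) (hnt : ∃ y : F, s y ≠ y ^ 2)
    {O : Set (Projectivization F (Fin 4 → F))} (hO : O = Ov s)
    {p0 : Projectivization F (Fin 4 → F)} (hp0 : p0 = pt s 0 0) :
    Nonempty (↥(MulAction.stabilizer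
      (MulAction.stabilizer (Matrix.SpecialLinearGroup (Fin 4) F) O)
        (pinf : Projectivization F (Fin 4 → F)) ⊓
      MulAction.stabilizer
      (MulAction.stabilizer (Matrix.SpecialLinearGroup (Fin 4) F) O) p0) ≃* Fˣ) := by
  subst hO hp0
  exact ⟨(MulEquiv.ofBijective (torusHom s hs) (torusHom_bijective s hs hnt)).symm⟩


/-- The stabiliser in the Suzuki group of the two ovoid points spanned by `(1,0,0,0)` and `(0,0,0,1)` is
isomorphic to the multiplicative group of the field (cyclic of order `q - 1`). -/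
theorem result {F : Type*} [Field F] [Fintype F] {m : ℕ} (hm : 1 ≤ m)
    (hF : Fintype.card F = 2 ^ (2 * m + 1)) :
    Nonempty (↥(MulAction.stabilizer (Cfsg.Sz F m) (Cfsg.suzukiPointInfinity F) ⊓
        MulAction.stabilizer (Cfsg.Sz F m) (Cfsg.suzukiPointZero F)) ≃* Fˣ) := by
  have := charP_two hF
  exact iso_of_eq (sig F m) (sig_sig hF) (sig_nt hm hF) (ovoid_eq (F := F) m)
    (pt00_eq (sig F m)).symm

end Cfsg.Agent.S0328
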