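import Cfsg.Statements.S0330
import Cfsg.Agent.Lib.Helper6.SzSylow
import Cfsg.Agent.Lib.Helper6.SzBridge

set_option autoImplicit false
open Cfsg

namespace Cfsg.Agent.S0330


open Cfsg.Agent.Lib.Helper6.Sz
open scoped Pointwise

lemma syl_of_eq {F : Type*} [Field F] [CharP F 2] [Finite F] (s : F →+* F)
    (hs : ∀ x, s (s x) = x ^ 2) (hnt : ∃ y : F, s y ≠ y ^ 2) {k : ℕ}
    (hk : Nat.card F = 2 ^ k)
    {O : Set (Projectivization F (Fin 4 → F))} (hO : O = Ov s)
    (P : Sylow 2 (MulAction.stabilizer (Matrix.SpecialLinearGroup (Fin 4) F) O)) :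
    Nat.card P = Nat.card F ^ 2 ∧ Monoid.exponent P = 4 ∧
      Subgroup.center P = commutator P ∧ Nat.card (Subgroup.center P) = Nat.card F := by
  subst hO
  exact sylow_two_structure s hs hnt hk P


/-- A Sylow 2-subgroup `P` of the Suzuki group (field with `q = 2^(2m+1)` elements, `m ≥ 1`) has order `q²` and
exponent `4`; its centre coincides with its commutator subgroup and has order `q`. -/
theorem result {F : Type*} [Field F] [Fintype F] {m : ℕ} (hm : 1 ≤ m)
    (hF : Fintype.card F = 2 ^ (2 * m + 1)) (P : Sylow 2 (Cfsg.Sz F m)) :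
    Nat.card P = (2 ^ (2 * m + 1)) ^ 2 ∧ Monoid.exponent P = 4 ∧
      Subgroup.center P = commutator P ∧ Nat.card (Subgroup.center P) = 2 ^ (2 * m + 1) := by
  have := charP_two hF
  have hk : Nat.card F = 2 ^ (2 * m + 1) := by rw [Nat.card_eq_fintype_card, hF]
  have h := syl_of_eq (sig F m) (sig_sig hF) (sig_nt hm hF) hk (ovoid_eq (F := F) m) P
  rw [hk] at h
  exact h

end Cfsg.Agent.S0330
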