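import Cfsg.Statements.S0333
import Cfsg.Agent.Lib.Helper6.SzTori3
import Cfsg.Agent.Lib.Helper6.SzBridge

set_option autoImplicit false
open Cfsg

namespace Cfsg.Agent.S0333


open Cfsg.Agent.Lib.Helper6.Sz
open scoped Pointwise

lemma tori_of_eq {F : Type*} [Field F] [CharP F 2] [Finite F] (s : F →+* F)
    (hs : ∀ x, s (s x) = x ^ 2) (hnt : ∃ y : F, s y ≠ y ^ 2) {m : ℕ} (hm : 1 ≤ m)
    (hk : Nat.card F = 2 ^ (2 * m + 1))
    {O : Set (Projectivization F (Fin 4 → F))} (hO : O = Ov s) :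
    ∀ k ∈ ({2 ^ (2 * m + 1) + 2 ^ (m + 1) + 1, 2 ^ (2 * m + 1) - 2 ^ (m + 1) + 1} : Set ℕ),
      ∃ U : Subgroup (MulAction.stabilizer (Matrix.SpecialLinearGroup (Fin 4) F) O),
        IsCyclic U ∧ Nat.card U = k ∧
        (∀ u ∈ U, u ≠ 1 → Subgroup.centralizer {u} = U) ∧
        Nat.card (Subgroup.normalizer (U : Set (MulAction.stabilizer
          (Matrix.SpecialLinearGroup (Fin 4) F) O))) = 4 * k := by
  subst hO
  obtain ⟨g₁, g₂, hg₁, hg₂, hc₁, hc₂, hN₁, hN₂, -⟩ := tori_classification s hs hnt hm hk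
  have hle : 2 ^ (m + 1) ≤ 2 ^ (2 * m + 1) := Nat.pow_le_pow_right (by norm_num) (by omega)
  intro k hk'
  rcases hk' with rfl | rfl
  · refine ⟨Subgroup.centralizer ({g₁} : Set (G s)), isCyclic_centralizer_fpf s hs hnt hk hg₁,
      hc₁, ?_, ?_⟩
    · intro u hu hu1
      exact (centralizer_eq_of_mem s hs hnt hk hg₁ hu hu1).2
    · rw [hN₁, hc₁]
  · have hc₂' : Nat.card (Subgroup.centralizer ({g₂} : Set (G s))) =
        2 ^ (2 * m + 1) - 2 ^ (m + 1) + 1 := by omega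
    refine ⟨Subgroup.centralizer ({g₂} : Set (G s)), isCyclic_centralizer_fpf s hs hnt hk hg₂,
      hc₂', ?_, ?_⟩
    · intro u hu hu1
      exact (centralizer_eq_of_mem s hs hnt hk hg₂ hu hu1).2
    · rw [hN₂, hc₂']


/-- With `q = 2^(2m+1)` and `r = 2^m`, the Suzuki group has cyclic subgroups of orders `q + 2r + 1` and
`q - 2r + 1`; each is the centraliser of each of its non-identity elements and has index `4` in its normaliser. -/
theorem result {F : Type*} [Field F] [Fintype F] {m : ℕ} (hm : 1 ≤ m)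
    (hF : Fintype.card F = 2 ^ (2 * m + 1)) :
    ∀ k ∈ ({2 ^ (2 * m + 1) + 2 ^ (m + 1) + 1, 2 ^ (2 * m + 1) - 2 ^ (m + 1) + 1} : Set ℕ),
      ∃ U : Subgroup (Cfsg.Sz F m), IsCyclic U ∧ Nat.card U = k ∧
        (∀ u ∈ U, u ≠ 1 → Subgroup.centralizer {u} = U) ∧ Nat.card (Subgroup.normalizer (U : Set (Cfsg.Sz F m))) = 4 * k := by
  have := charP_two hF
  have hk : Nat.card F = 2 ^ (2 * m + 1) := by rw [Nat.card_eq_fintype_card, hF]
  exact tori_of_eq (sig F m) (sig_sig hF) (sig_nt hm hF) hm hk (ovoid_eq (F := F) m)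

end Cfsg.Agent.S0333
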