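import Cfsg.Statements.S0335
-- import your own Cfsg.Agent.* helpers here

set_option autoImplicit false
open Cfsg

namespace Cfsg.Agent.S0335


/-- the ovoid function -/
def ff {F : Type*} [Field F] (s : F →+* F) (x y : F) : F := x * y + s x * x ^ 2 + s y

lemma tangent {F : Type*} [Field F] [CharP F 2] (s : F →+* F) (hs : ∀ x, s (s x) = x ^ 2)
    {x y : F} (h : ff s x y = 0) : x = 0 ∧ y = 0 := by
  have h2 : (2 : F) = 0 := CharTwo.two_eq_zero
  by_cases hx : x = 0
  · subst hx
    simp [ff] at h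
    exact ⟨rfl, h⟩
  · exfalso
    have hsx : s x ≠ 0 := by simpa using hx
    set t := y / (s x * x) with ht
    have hy : y = t * (s x * x) := by rw [ht, div_mul_cancel₀ _ (mul_ne_zero hsx hx)]
    have e1 : ff s x y = s x * x ^ 2 * (t + 1 + s t) := by
      rw [ff, hy, map_mul, map_mul, hs]; ring
    rw [e1] at h
    have h3 : t + 1 + s t = 0 := by
      rcases mul_eq_zero.1 h with h | h
      · exfalso; exact (mul_ne_zero hsx (pow_ne_zero 2 hx)) h
      · exact h
    have h4 : s t + 1 + t ^ 2 = 0 := by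
      have := congrArg s h3
      simpa [map_add, hs] using this
    have h5 : t * (t + 1) = 0 := by linear_combination h3 + h4 - (s t + 1) * h2
    rcases mul_eq_zero.1 h5 with h6 | h6
    · rw [h6] at h3; simp at h3
    · have h7 : t = 1 := by linear_combination h6 - h2
      rw [h7, map_one] at h3
      have : (1 : F) = 0 := by linear_combination h3 - h2
      exact one_ne_zero this

lemma inv_identity {F : Type*} [Field F] [CharP F 2] (s : F →+* F) (hs : ∀ x, s (s x) = x ^ 2)
    (x y : F) :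
    x * y * s (ff s x y) + s y * y ^ 2 + s x * (ff s x y) ^ 2 = ff s x y * s (ff s x y) := by
  have h2 : (2 : F) = 0 := CharTwo.two_eq_zero
  have e : s (ff s x y) = s x * s y + x ^ 2 * (s x) ^ 2 + y ^ 2 := by
    simp only [ff, map_add, map_mul, map_pow, hs]
  rw [e]
  simp only [ff]
  linear_combination (x ^ 3 * y * (s x) ^ 2 + x * y * s x * s y) * h2

lemma core {F : Type*} [Field F] [CharP F 2] (s : F →+* F) (hs : ∀ x, s (s x) = x ^ 2)
    {μ u w : F} (hμ0 : μ ≠ 0) (hμ1 : μ ≠ 1) (h : ff s (μ * u) (μ * w) = μ * ff s u w) :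
    u = 0 ∧ w = 0 := by
  by_contra hne
  have hz : ff s u w ≠ 0 := fun h0 => hne (tangent s hs h0)
  have i1 := inv_identity s hs u w
  have i2 := inv_identity s hs (μ * u) (μ * w)
  rw [h] at i2
  simp only [map_mul] at i2
  have h3 : μ * s μ * (μ - 1) * (ff s u w * s (ff s u w)) = 0 := by
    linear_combination i2 - μ ^ 2 * s μ * i1
  have hsμ : s μ ≠ 0 := by simpa using hμ0
  have hsz : s (ff s u w) ≠ 0 := by simpa using hz
  have hμ1' : μ - 1 ≠ 0 := sub_ne_zero.2 hμ1
  exact (mul_ne_zero (mul_ne_zero (mul_ne_zero hμ0 hsμ) hμ1') (mul_ne_zero hz hsz)) h3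

lemma translate {F : Type*} [Field F] [CharP F 2] (s : F →+* F) (hs : ∀ x, s (s x) = x ^ 2)
    (x1 y1 x y : F) :
    ff s x y + ff s x1 y1 = x1 * (y1 + y) + (x1 + x) * y1 +
      ff s (x1 + x) ((y1 + y) + s x1 * (x1 + x)) := by
  have h2 : (2 : F) = 0 := CharTwo.two_eq_zero
  simp only [ff, map_add, map_mul, hs]
  linear_combination -(x1*y1 + x1*y + x*y1 + s x1*x1^2 + 2*s x1*x1*x + s x1*x^2 + s x*x1^2
    + s x*x1*x) * h2

lemma two_pt {F : Type*} [Field F] {b c x2 y2 x3 y3 : F} (h : ¬(x2 = x3 ∧ y2 = y3))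
    (e3 : b + c = 0) (e2 : b * x2 + c * x3 = 0) (e1 : b * y2 + c * y3 = 0) : b = 0 ∧ c = 0 := by
  have hc : c = -b := by linear_combination e3
  subst hc
  by_cases hb : b = 0
  · subst hb; simp
  · exfalso
    apply h
    constructor
    · have : b * (x2 - x3) = 0 := by linear_combination e2
      rcases mul_eq_zero.1 this with h' | h'
      · exact absurd h' hb
      · exact sub_eq_zero.1 h'
    · have : b * (y2 - y3) = 0 := by linear_combination e1
      rcases mul_eq_zero.1 this with h' | h'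
      · exact absurd h' hb
      · exact sub_eq_zero.1 h'

lemma affine3 {F : Type*} [Field F] [CharP F 2] (s : F →+* F) (hs : ∀ x, s (s x) = x ^ 2)
    {a b c x1 y1 x2 y2 x3 y3 : F}
    (h12 : ¬(x1 = x2 ∧ y1 = y2)) (h13 : ¬(x1 = x3 ∧ y1 = y3)) (h23 : ¬(x2 = x3 ∧ y2 = y3))
    (e3 : a + b + c = 0) (e2 : a * x1 + b * x2 + c * x3 = 0) (e1 : a * y1 + b * y2 + c * y3 = 0)
    (e0 : a * ff s x1 y1 + b * ff s x2 y2 + c * ff s x3 y3 = 0) : a = 0 ∧ b = 0 ∧ c = 0 := by
  have h2 : (2 : F) = 0 := CharTwo.two_eq_zero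
  by_cases ha : a = 0
  · subst ha
    have := two_pt (b := b) (c := c) h23 (by linear_combination e3) (by linear_combination e2)
      (by linear_combination e1)
    exact ⟨rfl, this⟩
  by_cases hb : b = 0
  · subst hb
    have := two_pt (b := a) (c := c) h13 (by linear_combination e3) (by linear_combination e2)
      (by linear_combination e1)
    exact ⟨this.1, rfl, this.2⟩
  by_cases hc : c = 0
  · subst hc
    have := two_pt (b := a) (c := b) h12 (by linear_combination e3) (by linear_combination e2)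
      (by linear_combination e1)
    exact ⟨this.1, this.2, rfl⟩
  exfalso
  have ha' : a = b + c := by linear_combination e3 - (b + c) * h2
  subst ha'
  set u2 := x1 + x2 with hu2
  set u3 := x1 + x3 with hu3
  set w2 := (y1 + y2) + s x1 * (x1 + x2) with hw2
  set w3 := (y1 + y3) + s x1 * (x1 + x3) with hw3
  have t2 := translate s hs x1 y1 x2 y2
  have t3 := translate s hs x1 y1 x3 y3
  have E2 : b * u2 + c * u3 = 0 := by
    rw [hu2, hu3]; linear_combination e2
  have E1 : b * (y1 + y2) + c * (y1 + y3) = 0 := by linear_combination e1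
  have Ew : b * w2 + c * w3 = 0 := by
    rw [hw2, hw3]; linear_combination E1 + s x1 * E2
  have E0 : b * ff s u2 w2 + c * ff s u3 w3 = 0 := by
    linear_combination e0 - b * t2 - c * t3 - x1 * E1 - y1 * E2
  set μ := b / c with hμ
  have hb' : b = μ * c := by rw [hμ, div_mul_cancel₀ _ hc]
  have hu : u3 = μ * u2 := by
    have : c * (u3 - μ * u2) = 0 := by
      rw [hb'] at E2; linear_combination E2 - (μ * c * u2) * h2
    rcases mul_eq_zero.1 this with h' | h'
    · exact absurd h' hc
    · exact sub_eq_zero.1 h'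
  have hw : w3 = μ * w2 := by
    have : c * (w3 - μ * w2) = 0 := by
      rw [hb'] at Ew; linear_combination Ew - (μ * c * w2) * h2
    rcases mul_eq_zero.1 this with h' | h'
    · exact absurd h' hc
    · exact sub_eq_zero.1 h'
  have hf : ff s u3 w3 = μ * ff s u2 w2 := by
    have : c * (ff s u3 w3 - μ * ff s u2 w2) = 0 := by
      rw [hb'] at E0; linear_combination E0 - (μ * c * ff s u2 w2) * h2
    rcases mul_eq_zero.1 this with h' | h'
    · exact absurd h' hc
    · exact sub_eq_zero.1 h'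
  rw [hu, hw] at hf
  have hμ0 : μ ≠ 0 := div_ne_zero hb hc
  have hμ1 : μ ≠ 1 := by
    intro h1
    rw [h1, one_mul] at hb'
    apply ha
    rw [hb']
    linear_combination c * h2
  obtain ⟨k1, k2⟩ := core s hs hμ0 hμ1 hf
  apply h12
  have hx : x1 = x2 := by
    rw [hu2] at k1
    linear_combination k1 - x2 * h2
  refine ⟨hx, ?_⟩
  rw [hw2, ← hu2, k1] at k2
  linear_combination k2 - y2 * h2

lemma infty_case {F : Type*} [Field F] {a b c z1 x1 y1 z2 x2 y2 : F}
    (h : ¬(x1 = x2 ∧ y1 = y2))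
    (e3 : b + c = 0) (e2 : b * x1 + c * x2 = 0) (e1 : b * y1 + c * y2 = 0)
    (e0 : a + b * z1 + c * z2 = 0) : a = 0 ∧ b = 0 ∧ c = 0 := by
  obtain ⟨hb, hc⟩ := two_pt (b := b) (c := c) h e3 e2 e1
  subst hb hc
  refine ⟨?_, rfl, rfl⟩
  linear_combination e0


/-- The Suzuki–Tits point set is an ovoid: any three distinct points of it are projectively independent
(no line of projective 3-space meets it in more than two points). -/
theorem result {F : Type*} [Field F] [Fintype F] {m : ℕ} (hm : 1 ≤ m)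
    (hF : Fintype.card F = 2 ^ (2 * m + 1)) (p : Fin 3 ↪ Cfsg.suzukiOvoid F m) :
    Projectivization.Independent (fun i => (p i : Projectivization F (Fin 4 → F))) := by
  classical
  have : Fact (Nat.Prime 2) := ⟨Nat.prime_two⟩
  have : CharP F 2 := charP_of_card_eq_prime_pow hF
  let s : F →+* F := iterateFrobenius F 2 (m + 1)
  have hs_apply : ∀ x, s x = x ^ (2 ^ (m + 1)) := fun x => iterateFrobenius_def 2 (m + 1) x
  have hs : ∀ x, s (s x) = x ^ 2 := by
    intro x
    rw [hs_apply, hs_apply, ← pow_mul]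
    have e : 2 ^ (m + 1) * 2 ^ (m + 1) = 2 ^ (2 * m + 1) * 2 := by
      rw [← pow_add, ← pow_succ]; congr 1; omega
    rw [e, pow_mul, ← hF, FiniteField.pow_card]
  have hf : ∀ x y : F, x * y + x ^ (2 ^ (m + 1) + 2) + y ^ (2 ^ (m + 1)) = ff s x y := by
    intro x y
    simp only [ff, hs_apply, pow_add]
  have hmem : ∀ i, ∃ (v : Fin 4 → F) (hv : v ≠ 0),
      (p i : Projectivization F (Fin 4 → F)) = Projectivization.mk F v hv ∧
      (v = ![1, 0, 0, 0] ∨ ∃ x y : F, v = ![ff s x y, y, x, 1]) := by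
    intro i
    obtain ⟨v, hv, h1, h2⟩ := (p i).2
    refine ⟨v, hv, h1, ?_⟩
    rcases h2 with h2 | ⟨x, y, h2⟩
    · exact Or.inl h2
    · exact Or.inr ⟨x, y, by rw [h2, hf]⟩
  choose v hv hpv hvv using hmem
  have hfun : (fun i => ((p i : Projectivization F (Fin 4 → F)))) =
      fun i => Projectivization.mk F (v i) (hv i) := funext hpv
  rw [hfun]
  apply Projectivization.Independent.mk
  have hne : ∀ i j, i ≠ j → v i ≠ v j := by
    intro i j hij h
    apply hij
    apply p.injective
    apply Subtype.ext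
    rw [hpv i, hpv j]
    congr 1
  rw [Fintype.linearIndependent_iff]
  intro g hg
  rw [Fin.sum_univ_three] at hg
  have h01 := hne 0 1 (by decide)
  have h02 := hne 0 2 (by decide)
  have h12 := hne 1 2 (by decide)
  have q0 := congr_fun hg 0
  have q1 := congr_fun hg 1
  have q2 := congr_fun hg 2
  have q3 := congr_fun hg 3
  have key : g 0 = 0 ∧ g 1 = 0 ∧ g 2 = 0 := by
    rcases hvv 0 with e0 | ⟨x0, y0, e0⟩ <;> rcases hvv 1 with e1 | ⟨x1, y1, e1⟩ <;>
      rcases hvv 2 with e2 | ⟨x2, y2, e2⟩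
    · exact absurd (e0.trans e1.symm) h01
    · exact absurd (e0.trans e1.symm) h01
    · exact absurd (e0.trans e2.symm) h02
    · -- 0 infinite
      rw [e0, e1, e2] at q0 q1 q2 q3
      simp at q0 q1 q2 q3
      have hd : ¬(x1 = x2 ∧ y1 = y2) := by
        rintro ⟨rfl, rfl⟩
        exact h12 (e1.trans e2.symm)
      exact infty_case hd q3 q2 q1 q0
    · exact absurd (e1.trans e2.symm) h12
    · -- 1 infinite
      rw [e0, e1, e2] at q0 q1 q2 q3
      simp at q0 q1 q2 q3
      have hd : ¬(x0 = x2 ∧ y0 = y2) := by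
        rintro ⟨rfl, rfl⟩
        exact h02 (e0.trans e2.symm)
      have := infty_case (a := g 1) (z1 := ff s x0 y0) (z2 := ff s x2 y2) hd q3 q2 q1
        (by linear_combination q0)
      exact ⟨this.2.1, this.1, this.2.2⟩
    · -- 2 infinite
      rw [e0, e1, e2] at q0 q1 q2 q3
      simp at q0 q1 q2 q3
      have hd : ¬(x0 = x1 ∧ y0 = y1) := by
        rintro ⟨rfl, rfl⟩
        exact h01 (e0.trans e1.symm)
      have := infty_case (a := g 2) (z1 := ff s x0 y0) (z2 := ff s x1 y1) hd q3 q2 q1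
        (by linear_combination q0)
      exact ⟨this.2.1, this.2.2, this.1⟩
    · rw [e0, e1, e2] at q0 q1 q2 q3
      simp at q0 q1 q2 q3
      have hd01 : ¬(x0 = x1 ∧ y0 = y1) := by
        rintro ⟨rfl, rfl⟩
        exact h01 (e0.trans e1.symm)
      have hd02 : ¬(x0 = x2 ∧ y0 = y2) := by
        rintro ⟨rfl, rfl⟩
        exact h02 (e0.trans e2.symm)
      have hd12 : ¬(x1 = x2 ∧ y1 = y2) := by
        rintro ⟨rfl, rfl⟩
        exact h12 (e1.trans e2.symm)
      exact affine3 s hs hd01 hd02 hd12 q3 q2 q1 q0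
  intro i
  fin_cases i
  · exact key.1
  · exact key.2.1
  · exact key.2.2

end Cfsg.Agent.S0335
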