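import Cfsg.Statements.S0338
import Cfsg.Agent.Lib.Helper97.Zass

set_option autoImplicit false
open Cfsg

namespace Cfsg.Agent.S0338

open Cfsg.Agent.Lib.Helper97.Zass

/-- A Zassenhaus group of odd degree is a simple group. -/
theorem result {G Ω : Type*} [Group G] [MulAction G Ω] [Fintype Ω]
    (hZ : Cfsg.IsZassenhausGroup G Ω) (hodd : Odd (Fintype.card Ω)) : IsSimpleGroup G := by
  have hy := hyp_of_zass hZ
  have hfin := finite_of_hyp hy
  obtain ⟨g0, hg0, -⟩ := hy.h4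
  have : Nontrivial G := ⟨⟨g0, 1, hg0⟩⟩
  refine ⟨fun N hNn => ?_⟩
  by_cases hN : N = ⊥
  · left; exact hN
  right
  rw [eq_top_iff]
  intro g _
  obtain ⟨hK, hN2⟩ := core hy N hN
  obtain ⟨α, β, γ, hαβ, -, -⟩ := hy.three
  -- involutions lie in N
  have hinv : ∀ u : G, orderOf u = 2 → u ∈ N := by
    intro u hu
    have h1 := (Cfsg.Agent.S0740.inv_fixed hy.h3 u hu).1 hodd
    rw [Nat.card_eq_one_iff_unique] at h1
    obtain ⟨hsub, ⟨δ, hδ⟩⟩ := h1
    exact hK u δ hδ (fun c hc => congrArg Subtype.val (hsub.elim ⟨c, hc⟩ ⟨δ, hδ⟩))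
  have hgαβ : g • α ≠ g • β := fun h => hαβ (smul_left_cancel g h)
  obtain ⟨x, hxN, hxα, hxβ⟩ := hN2 hαβ hgαβ
  have hhα : (x⁻¹ * g) • α = α := by rw [mul_smul, ← hxα, inv_smul_smul]
  have hhβ : (x⁻¹ * g) • β = β := by rw [mul_smul, ← hxβ, inv_smul_smul]
  suffices hsuff : x⁻¹ * g ∈ N by
    have h0 : g = x * (x⁻¹ * g) := by group
    rw [h0]
    exact N.mul_mem hxN hsuff
  obtain ⟨⟨t, ht2, htα, htβ⟩, -, -⟩ := Cfsg.Agent.S0740.result hZ hαβ
  have htt : t * t = 1 := by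
    rw [← sq, ← ht2]; exact pow_orderOf_eq_one t
  have htinv : t⁻¹ = t := inv_eq_of_mul_eq_one_right htt
  -- the unique fixed point of t
  have h1 := (Cfsg.Agent.S0740.inv_fixed hy.h3 t ht2).1 hodd
  rw [Nat.card_eq_one_iff_unique] at h1
  obtain ⟨hsub, ⟨γ₀, hγ₀⟩⟩ := h1
  have hγ₀' : t • γ₀ = γ₀ := hγ₀
  have hγα : γ₀ ≠ α := by
    intro h; rw [h, htα] at hγ₀'; exact hαβ hγ₀'.symm
  have hγβ : γ₀ ≠ β := by
    intro h; rw [h, htβ] at hγ₀'; exact hαβ hγ₀'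
  -- t inverts the two point stabiliser
  have hinvert : ∀ h : G, h • α = α → h • β = β → t * h * t⁻¹ = h⁻¹ := by
    have hnorm : ∀ y : G, y • α = α → y • β = β →
        (t * y * t⁻¹) • α = α ∧ (t * y * t⁻¹) • β = β := by
      intro y hyα hyβ
      rw [htinv]
      constructor
      · rw [mul_smul, mul_smul, htα, hyβ, htβ]
      · rw [mul_smul, mul_smul, htβ, hyα, htα]
    let H : Subgroup G := MulAction.stabilizer G α ⊓ MulAction.stabilizer G β
    have hmemH : ∀ y : G, y ∈ H ↔ y • α = α ∧ y • β = β := by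
      intro y
      show y ∈ MulAction.stabilizer G α ⊓ MulAction.stabilizer G β ↔ _
      rw [Subgroup.mem_inf, MulAction.mem_stabilizer_iff, MulAction.mem_stabilizer_iff]
    let f : H → H := fun y => ⟨(y : G)⁻¹ * (t * y * t⁻¹),
      H.mul_mem (H.inv_mem y.2)
        ((hmemH _).mpr (hnorm y ((hmemH _).mp y.2).1 ((hmemH _).mp y.2).2))⟩
    have hinj : Function.Injective f := by
      intro y y' hyy
      have e1 : (y : G)⁻¹ * (t * y * t⁻¹) = (y' : G)⁻¹ * (t * y' * t⁻¹) :=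
        congrArg Subtype.val hyy
      have e2 : ((y' : G) * (y : G)⁻¹) * t = t * ((y' : G) * (y : G)⁻¹) := by
        calc ((y' : G) * (y : G)⁻¹) * t
            = (y' : G) * ((y : G)⁻¹ * (t * y * t⁻¹)) * t * (y : G)⁻¹ := by group
          _ = (y' : G) * ((y' : G)⁻¹ * (t * y' * t⁻¹)) * t * (y : G)⁻¹ := by rw [e1]
          _ = t * ((y' : G) * (y : G)⁻¹) := by group
      have hd : (y' : G) * (y : G)⁻¹ ∈ H := H.mul_mem y'.2 (H.inv_mem y.2)
      obtain ⟨hdα, hdβ⟩ := (hmemH _).mp hd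
      have e3 : t • (((y' : G) * (y : G)⁻¹) • γ₀) = ((y' : G) * (y : G)⁻¹) • γ₀ := by
        rw [← mul_smul, ← e2, mul_smul, hγ₀']
      have e4 : ((y' : G) * (y : G)⁻¹) • γ₀ = γ₀ :=
        congrArg Subtype.val (hsub.elim ⟨_, e3⟩ ⟨γ₀, hγ₀⟩)
      have e5 : (y' : G) * (y : G)⁻¹ = 1 :=
        hy.h3 _ α β γ₀ hαβ (Ne.symm hγβ) (Ne.symm hγα) hdα hdβ e4
      apply Subtype.ext
      rw [mul_inv_eq_one] at e5
      exact e5.symm
    have hsurj := Finite.injective_iff_surjective.mp hinj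
    intro h hhα hhβ
    obtain ⟨y, hy'⟩ := hsurj ⟨h, (hmemH h).mpr ⟨hhα, hhβ⟩⟩
    have e1 : (y : G)⁻¹ * (t * y * t⁻¹) = h := congrArg Subtype.val hy'
    rw [← e1, htinv]
    have l : t * ((y : G)⁻¹ * (t * y * t)) * t = t * (y : G)⁻¹ * t * y := by
      calc t * ((y : G)⁻¹ * (t * y * t)) * t = t * (y : G)⁻¹ * t * y * (t * t) := by group
        _ = t * (y : G)⁻¹ * t * y := by rw [htt, mul_one]
    have r : ((y : G)⁻¹ * (t * y * t))⁻¹ = t * (y : G)⁻¹ * t * y := by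
      calc ((y : G)⁻¹ * (t * y * t))⁻¹ = t⁻¹ * (y : G)⁻¹ * t⁻¹ * y := by group
        _ = t * (y : G)⁻¹ * t * y := by rw [htinv]
    rw [l, r]
  have e1 := hinvert _ hhα hhβ
  have e2 : (t * (x⁻¹ * g)) * (t * (x⁻¹ * g)) = 1 := by
    calc (t * (x⁻¹ * g)) * (t * (x⁻¹ * g))
        = (t * (x⁻¹ * g) * t⁻¹) * (t * t) * (x⁻¹ * g) := by group
      _ = 1 := by rw [e1, htt]; group
  have e3 : t * (x⁻¹ * g) ≠ 1 := by
    intro h
    have h2 : (t * (x⁻¹ * g)) • α = β := by rw [mul_smul, hhα, htα]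
    rw [h, one_smul] at h2
    exact hαβ h2
  have e4 : orderOf (t * (x⁻¹ * g)) = 2 := by
    apply orderOf_eq_prime
    · rw [sq]; exact e2
    · exact e3
  have e5 : x⁻¹ * g = t * (t * (x⁻¹ * g)) := by
    rw [← mul_assoc, htt, one_mul]
  rw [e5]
  exact N.mul_mem (hinv t ht2) (hinv _ e4)

end Cfsg.Agent.S0338
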