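import Cfsg.Statements.S0344
import Cfsg.Agent.Lib.Helper3.ZT17
import Cfsg.Agent.S0346
import Cfsg.Agent.S0729
import Cfsg.Agent.S0738
import Cfsg.Agent.S0741

set_option autoImplicit false
open Cfsg

namespace Cfsg.Agent.S0344

/-- A finite simple Zassenhaus group with a two-point stabiliser of even order is isomorphic to `PSL₂(F)` for a finite
field `F` with more than three elements. -/
theorem result {G Ω : Type*} [Group G] [Finite G] [MulAction G Ω] [Finite Ω]
    (hZ : Cfsg.IsZassenhausGroup G Ω) [IsSimpleGroup G]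
    {a b : Ω} (hab : a ≠ b) (heven : Even (Nat.card ↥(MulAction.stabilizer G a ⊓ MulAction.stabilizer G b))) :
    ∃ (F : Type) (_ : Field F) (_ : Fintype F), 3 < Fintype.card F ∧ Nonempty (G ≃* Matrix.ProjectiveSpecialLinearGroup (Fin 2) F) := by
  classical
  have : Fintype Ω := Fintype.ofFinite Ω
  have hge := Cfsg.Agent.S0741.result hZ hab heven
  obtain ⟨F, hFle, hFn, -, hreg, -⟩ := Cfsg.Agent.S0346.exists_kernel_data hZ hab
  obtain ⟨hFab, -⟩ := Cfsg.Agent.S0738.result hZ hab hge F hFle hFn hreg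
  have hcomm : ∀ u ∈ F, ∀ v ∈ F, u * v = v * u := fun u hu v hv =>
    congrArg Subtype.val (hFab.is_comm.comm (⟨u, hu⟩ : F) ⟨v, hv⟩)
  have hE : Nat.card (Cfsg.Agent.Lib.Helper3.ZassOdd.twoStab G a b) =
      Nat.card ↥(MulAction.stabilizer G a ⊓ MulAction.stabilizer G b) := rfl
  have hepos : 0 < Nat.card ↥(MulAction.stabilizer G a ⊓ MulAction.stabilizer G b) :=
    Nat.card_pos
  obtain ⟨r, hr⟩ := heven
  rcases Cfsg.Agent.Lib.Helper3.ZT.zassenhaus_abelian_full hZ hab hFle hFn hcomm hreg with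
    ⟨h1e, h3, hsharp⟩ | ⟨h2e, -, -, K, fK, ftK, -, hcard, hiso⟩
  · exfalso
    have hevenΩ : Even (Fintype.card Ω) := ⟨r + 1, by omega⟩
    exact Cfsg.Agent.Lib.Helper3.ZT.sharp_case_false (by omega) (by omega) h3 hsharp
      (fun G' h3' hsharp' h6 a b c hab hac hbc s hsa hsb hsc =>
        Cfsg.Agent.S0729.result hevenΩ h6 G' h3' hsharp' hab hac hbc s hsa hsb hsc)
  · exact ⟨K, fK, ftK, by omega, hiso⟩

end Cfsg.Agent.S0344
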