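import Cfsg.Statements.S0340
import Cfsg.Agent.Lib.Helper3.SzMain
import Cfsg.Agent.Lib.Helper3.SzSharp
import Cfsg.Agent.Lib.Helper3.ZT17
import Cfsg.Agent.S0344
import Cfsg.Agent.S0346
import Cfsg.Agent.S0738
import Cfsg.Agent.S0885

set_option autoImplicit false
open Cfsg

namespace Cfsg.Agent.S0340

/-- Classification of Zassenhaus groups, simple case, order-level form: a finite simple Zassenhaus group is
isomorphic to `PSL₂(F)` for some finite field `F` or is simple of Suzuki order. -/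
theorem result {G Ω : Type*} [Group G] [Finite G] [MulAction G Ω]
    [Finite Ω] (hZ : Cfsg.IsZassenhausGroup G Ω) [IsSimpleGroup G] :
    (∃ (F : Type) (_ : Field F) (_ : Fintype F), Nonempty (G ≃* Matrix.ProjectiveSpecialLinearGroup (Fin 2) F)) ∨ Cfsg.IsSuzuki G := by
  classical
  have : Fintype Ω := Fintype.ofFinite Ω
  have hy := Cfsg.Agent.Lib.Helper97.Zass.hyp_of_zass hZ
  obtain ⟨a, b, -, hab, -, -⟩ := hy.three
  by_cases heven : Even (Nat.card ↥(MulAction.stabilizer G a ⊓ MulAction.stabilizer G b))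
  · obtain ⟨F, fF, ftF, -, hiso⟩ := Cfsg.Agent.S0344.result hZ hab heven
    exact Or.inl ⟨F, fF, ftF, hiso⟩
  · have hodd := Nat.not_even_iff_odd.mp heven
    obtain ⟨Q, hQle, hQn, hfix, hreg, hcard⟩ := Cfsg.Agent.S0346.exists_kernel_data hZ hab
    have hpos : 0 < Fintype.card Ω := by omega
    rcases Cfsg.Agent.S0885.result hZ hab (Fintype.card Ω - 1) _ (by omega) rfl hodd Q hQle hcard
      hfix with hle | ⟨hQ2, hna, -⟩
    · have hd : Fintype.card Ω - 2 ≤
          2 * Nat.card ↥(MulAction.stabilizer G a ⊓ MulAction.stabilizer G b) := by omega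
      obtain ⟨hQab, p, f, hp, -, hΩ⟩ := Cfsg.Agent.S0738.result hZ hab hd Q hQle hQn hreg
      have hcomm : ∀ u ∈ Q, ∀ v ∈ Q, u * v = v * u := fun u hu v hv =>
        congrArg Subtype.val (hQab.is_comm.comm (⟨u, hu⟩ : Q) ⟨v, hv⟩)
      rcases Cfsg.Agent.Lib.Helper3.ZT.zassenhaus_abelian_full hZ hab hQle hQn hcomm hreg with
        ⟨h1e, h3, hsharp⟩ | ⟨-, -, -, K, fK, ftK, -, -, hiso⟩
      · left
        have hE : Nat.card (Cfsg.Agent.Lib.Helper3.ZassOdd.twoStab G a b) =
            Nat.card ↥(MulAction.stabilizer G a ⊓ MulAction.stabilizer G b) := rfl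
        obtain ⟨r, hr⟩ := hodd
        have hpe : Even (p ^ f) := ⟨r + 1, by omega⟩
        have hf0 : f ≠ 0 := by
          rintro rfl
          simp at hpe
        have hp2 : p = 2 := (Nat.Prime.even_iff hp).mp ((Nat.even_pow.mp hpe).1)
        rw [hp2] at hΩ
        exact Cfsg.Agent.Lib.Helper3.Sz.psl_of_sharp (Nat.one_le_iff_ne_zero.mpr hf0) hΩ h3 hsharp
      · exact Or.inl ⟨K, fK, ftK, hiso⟩
    · right
      obtain ⟨m, hm, c, hQc⟩ := Cfsg.Agent.Lib.Helper3.Sz.main hZ hab hQle hQn hQ2 hna hreg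
      refine ⟨inferInstance, m, hm, ?_⟩
      rw [c.card_G, hQc]
      ring

end Cfsg.Agent.S0340
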