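import Cfsg.Statements.S0341
import Cfsg.Agent.Lib.Helper86.TwoTrans

set_option autoImplicit false
open Cfsg

namespace Cfsg.Agent.S0341

open Cfsg.Agent.Lib.Helper86

/-- If a finite group acts faithfully and doubly transitively, no non-identity element fixes three points, some
non-identity element fixes two points, and some normal subgroup acts regularly, then the number of points
is `2^p` with `p` prime. -/
theorem result {G Ω : Type*} [Group G]
    [MulAction G Ω] [Fintype Ω] [FaithfulSMul G Ω] (h2 : MulAction.IsMultiplyPretransitive G Ω 2)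
    (h3 : ∀ g : G, ∀ a b c : Ω, a ≠ b → b ≠ c → a ≠ c → g • a = a → g • b = b → g • c = c → g = 1)
    (hfix : ∃ g : G, g ≠ 1 ∧ ∃ a b : Ω, a ≠ b ∧ g • a = a ∧ g • b = b)
    (N : Subgroup G) [N.Normal] (hNt : MulAction.IsPretransitive N Ω)
    (hNr : ∀ a : Ω, MulAction.stabilizer N a = ⊥) :
    ∃ p : ℕ, p.Prime ∧ Fintype.card Ω = 2 ^ p := by
  classical
  have hfaith : ∀ g : G, (∀ a : Ω, g • a = a) → g = 1 := by
    intro g hg
    apply FaithfulSMul.eq_of_smul_eq_smul (α := Ω)
    intro a
    rw [hg a, one_smul]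
  haveI : Finite G := by
    have hinj : Function.Injective (MulAction.toPermHom G Ω) := by
      rw [injective_iff_map_eq_one]
      intro g hg
      apply hfaith
      intro a
      have := congrArg (fun σ : Equiv.Perm Ω => σ a) hg
      simpa using this
    exact Finite.of_injective _ hinj
  rw [MulAction.is_two_pretransitive_iff] at h2
  have hy : TwoTrans.Hyp G Ω := ⟨hfaith, @h2, h3⟩
  have hN : TwoTrans.Reg Ω N := by
    refine ⟨?_, ?_⟩
    · intro a b
      obtain ⟨n, hn⟩ := hNt.exists_smul_eq a b
      exact ⟨n.1, n.2, hn⟩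
    · intro n hn a hna
      have h1 : (⟨n, hn⟩ : N) ∈ MulAction.stabilizer N a := hna
      rw [hNr a, Subgroup.mem_bot] at h1
      exact congrArg Subtype.val h1
  obtain ⟨g, hg1, a, b, hab, hga, hgb⟩ := hfix
  exact TwoTrans.main hy N hN hg1 hab hga hgb

end Cfsg.Agent.S0341
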