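import Cfsg.Statements.S0347
import Cfsg.Agent.Lib.Helper3.SzMain

set_option autoImplicit false
open Cfsg

namespace Cfsg.Agent.S0347

/-- If in a finite simple Zassenhaus group the stabiliser of a point `x` has a normal `2`-subgroup `U` which is
non-abelian and acts regularly on the points other than `x`, then the group is simple of Suzuki order (order-level
predicate `IsSuzuki`). -/
theorem result {G Ω : Type*} [Group G] [Finite G] [MulAction G Ω] [Finite Ω]
    (hZ : Cfsg.IsZassenhausGroup G Ω) [IsSimpleGroup G]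
    (x : Ω) (U : Subgroup G) (hUle : U ≤ MulAction.stabilizer G x) (hUn : (U.subgroupOf (MulAction.stabilizer G x)).Normal)
    (hU2 : IsPGroup 2 U) (hUna : ∃ u v : U, u * v ≠ v * u)
    (hreg : ∀ y z : Ω, y ≠ x → z ≠ x → ∃! u : U, (u : G) • y = z) :
    Cfsg.IsSuzuki G := by
  classical
  have : Fintype Ω := Fintype.ofFinite Ω
  have hy := Cfsg.Agent.Lib.Helper97.Zass.hyp_of_zass hZ
  obtain ⟨b, hb⟩ := Cfsg.Agent.Lib.Helper97.Zass.exists_ne hy x
  obtain ⟨m, hm, c, hQ⟩ := Cfsg.Agent.Lib.Helper3.Sz.main hZ hb.symm hUle hUn hU2 hUna hreg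
  refine ⟨inferInstance, m, hm, ?_⟩
  rw [c.card_G, hQ]
  ring

end Cfsg.Agent.S0347
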