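import Cfsg.Statements.S0350
-- import your own Cfsg.Agent.* helpers here

set_option autoImplicit false
open Cfsg

namespace Cfsg.Agent.S0350

/-- Counting pairs (t-subset, block containing it) in two ways: the number of blocks of a Steiner system with parameters (t, k, v), multiplied by C(k, t), equals C(v, t). -/
theorem result {α : Type*} [Fintype α] [DecidableEq α] {t k : ℕ} {B : Set (Finset α)} (hB : Cfsg.IsSteinerSystem t k B) : B.ncard * Nat.choose k t = Nat.choose (Fintype.card α) t := by
  classical
  obtain ⟨hcard, huniq⟩ := hB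
  have hfin : B.Finite := Set.toFinite B
  set Bf : Finset (Finset α) := hfin.toFinset with hBf
  have hmemBf : ∀ b, b ∈ Bf ↔ b ∈ B := fun b => by simp [hBf]
  rw [Set.ncard_eq_toFinset_card B hfin]
  -- the t-subsets
  set T : Finset (Finset α) := Finset.powersetCard t Finset.univ with hT
  have hTcard : T.card = Nat.choose (Fintype.card α) t := by
    rw [hT, Finset.card_powersetCard, Finset.card_univ]
  rw [← hTcard]
  -- the block map
  have hex : ∀ s : Finset α, s ∈ T → ∃ b, b ∈ B ∧ s ⊆ b := by
    intro s hs
    rw [hT, Finset.mem_powersetCard] at hs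
    exact (huniq s hs.2).exists
  let f : Finset α → Finset α := fun s => if h : s ∈ T then (hex s h).choose else ∅
  have hf : ∀ s ∈ T, f s ∈ B ∧ s ⊆ f s := by
    intro s hs
    simp only [f, dif_pos hs]
    exact (hex s hs).choose_spec
  have hmaps : ∀ s ∈ T, f s ∈ Bf := fun s hs => (hmemBf _).2 (hf s hs).1
  rw [Finset.card_eq_sum_card_fiberwise hmaps]
  have hfib : ∀ b ∈ Bf, (T.filter (fun s => f s = b)).card = Nat.choose k t := by
    intro b hb
    have hbB := (hmemBf b).1 hb
    have : T.filter (fun s => f s = b) = Finset.powersetCard t b := by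
      ext s
      simp only [Finset.mem_filter, Finset.mem_powersetCard]
      constructor
      · rintro ⟨hs, rfl⟩
        refine ⟨(hf s hs).2, ?_⟩
        rw [hT, Finset.mem_powersetCard] at hs
        exact hs.2
      · rintro ⟨hsb, hsc⟩
        have hs : s ∈ T := by
          rw [hT, Finset.mem_powersetCard]; exact ⟨Finset.subset_univ _, hsc⟩
        refine ⟨hs, ?_⟩
        exact (huniq s hsc).unique (hf s hs) ⟨hbB, hsb⟩
    rw [this, Finset.card_powersetCard, hcard b hbB]
  rw [Finset.sum_congr rfl hfib, Finset.sum_const, smul_eq_mul]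

end Cfsg.Agent.S0350
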