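import Cfsg.Statements.S0352
import Cfsg.Agent.Lib.Helper6.Steiner

set_option autoImplicit false
open Cfsg

namespace Cfsg.Agent.S0352


open Cfsg.Agent.Lib.Helper6.Steiner in


/-- In a Steiner system S(5, 8, 24), two distinct blocks intersect in 0, 2 or 4 points. -/
theorem result {α : Type*} [Fintype α] [DecidableEq α] (hα : Fintype.card α = 24) {B : Set (Finset α)} (hB : Cfsg.IsSteinerSystem 5 8 B) {b c : Finset α} (hb : b ∈ B) (hc : c ∈ B) (hbc : b ≠ c) : (b ∩ c).card = 0 ∨ (b ∩ c).card = 2 ∨ (b ∩ c).card = 4 := by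
  have e0 := sum_nInter hB hb 0 (by norm_num)
  have e1 := sum_nInter hB hb 1 (by norm_num)
  have e2 := sum_nInter hB hb 2 (by norm_num)
  have e3 := sum_nInter hB hb 3 (by norm_num)
  have e4 := sum_nInter hB hb 4 (by norm_num)
  have h8 := nInter_k hB hb (by norm_num)
  have h5 := nInter_eq_zero hB hb (i := 5) (by norm_num) (by norm_num)
  have h6 := nInter_eq_zero hB hb (i := 6) (by norm_num) (by norm_num)
  have h7 := nInter_eq_zero hB hb (i := 7) (by norm_num) (by norm_num)
  have hpos := nInter_pos (B := B) (b := b) hc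
  have hlt := inter_card_lt hB hb hc hbc.symm
  rw [hα] at e0 e1 e2 e3 e4
  simp only [Finset.sum_range_succ, Finset.sum_range_zero, h5, h6, h7, h8] at e0 e1 e2 e3 e4
  norm_num [Nat.choose] at e0 e1 e2 e3 e4
  rw [Finset.inter_comm]
  have h1 : nInter B b 1 = 0 := by omega
  have h3 : nInter B b 3 = 0 := by omega
  have : (c ∩ b).card ≠ 1 := fun h => by rw [h, h1] at hpos; exact lt_irrefl _ hpos
  have : (c ∩ b).card ≠ 3 := fun h => by rw [h, h3] at hpos; exact lt_irrefl _ hpos
  omega

end Cfsg.Agent.S0352
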