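import Cfsg.Statements.S0353
import Cfsg.Agent.S0352

set_option autoImplicit false
open Cfsg

namespace Cfsg.Agent.S0353


section
variable {α : Type*} [Fintype α] [DecidableEq α] (hα : Fintype.card α = 24) {B : Set (Finset α)}
  (hB : Cfsg.IsSteinerSystem 5 8 B)
include hα hB

lemma inter_eq_of_subset {d d' X : Finset α} (hd : d ∈ B) (hd' : d' ∈ B) (hne : d ≠ d')
    (hX : X ⊆ d ∩ d') (hX4 : X.card = 4) : d ∩ d' = X := by
  have h1 := Cfsg.Agent.S0352.result hα hB hd hd' hne
  have h2 := Finset.card_le_card hX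
  exact (Finset.eq_of_subset_of_card_le hX (by omega)).symm

lemma inter_card_of_three {d d' X : Finset α} (hd : d ∈ B) (hd' : d' ∈ B) (hne : d ≠ d')
    (hX : X ⊆ d ∩ d') (hX3 : X.card = 3) : (d ∩ d').card = 4 := by
  have h1 := Cfsg.Agent.S0352.result hα hB hd hd' hne
  have h2 := Finset.card_le_card hX
  omega

omit hα [Fintype α] [DecidableEq α] in
lemma exists_block (s : Finset α) (hs : s.card = 5) : ∃ d ∈ B, s ⊆ d := by
  obtain ⟨d, ⟨hd, hsd⟩, _⟩ := hB.2 s hs
  exact ⟨d, hd, hsd⟩

end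

lemma inter_split {α : Type*} [DecidableEq α] (f b c : Finset α) :
    f ∩ b = (f ∩ (b ∩ c)) ∪ (f ∩ (b \ c)) := by
  ext x
  simp only [Finset.mem_inter, Finset.mem_union, Finset.mem_sdiff]
  tauto


/-- In an S(5, 8, 24), the symmetric difference of two blocks meeting in four points is a block. -/
theorem result {α : Type*} [Fintype α] [DecidableEq α] (hα : Fintype.card α = 24) {B : Set (Finset α)} (hB : Cfsg.IsSteinerSystem 5 8 B) {b c : Finset α} (hb : b ∈ B) (hc : c ∈ B) (h4 : (b ∩ c).card = 4) : symmDiff b c ∈ B := by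
  have hbcard : b.card = 8 := hB.1 b hb
  have hccard : c.card = 8 := hB.1 c hc
  have hbc : b ≠ c := by
    intro h; rw [h, Finset.inter_self] at h4; omega
  -- the three tetrads
  have hT2 : (b \ c).card = 4 := by
    have := Finset.card_sdiff_add_card_inter b c; omega
  have hT3 : (c \ b).card = 4 := by
    have := Finset.card_sdiff_add_card_inter c b
    rw [Finset.inter_comm] at this; omega
  obtain ⟨r, hr⟩ : (c \ b).Nonempty := by rw [← Finset.card_pos]; omega
  rw [Finset.mem_sdiff] at hr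
  obtain ⟨hrc, hrb⟩ := hr
  -- the block e through T2 ∪ {r}
  have hrT2 : r ∉ b \ c := fun h => hrb (Finset.mem_sdiff.1 h).1
  obtain ⟨e, he, hse⟩ := exists_block hB (insert r (b \ c))
    (by rw [Finset.card_insert_of_notMem hrT2, hT2])
  have hre : r ∈ e := hse (Finset.mem_insert_self _ _)
  have hT2e : b \ c ⊆ e := fun x hx => hse (Finset.mem_insert_of_mem hx)
  have heb : e ≠ b := fun h => hrb (h ▸ hre)
  have heb_inter : e ∩ b = b \ c :=
    inter_eq_of_subset hα hB he hb heb
      (fun x hx => Finset.mem_inter.2 ⟨hT2e hx, (Finset.mem_sdiff.1 hx).1⟩) hT2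
  -- e is disjoint from T = b ∩ c
  have heT : ∀ x, x ∈ e → x ∈ b → x ∉ c := by
    intro x hxe hxb
    have : x ∈ e ∩ b := Finset.mem_inter.2 ⟨hxe, hxb⟩
    rw [heb_inter] at this
    exact (Finset.mem_sdiff.1 this).2
  obtain ⟨u, hu⟩ : (b \ c).Nonempty := by rw [← Finset.card_pos]; omega
  have hec : e ≠ c := fun h => (Finset.mem_sdiff.1 hu).2 (h ▸ hT2e hu)
  have hec_sub : e ∩ c ⊆ c \ b := by
    intro x hx
    rw [Finset.mem_inter] at hx
    rw [Finset.mem_sdiff]
    exact ⟨hx.2, fun hxb => heT x hx.1 hxb hx.2⟩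
  have hec_card := Cfsg.Agent.S0352.result hα hB he hc hec
  have hrec : r ∈ e ∩ c := Finset.mem_inter.2 ⟨hre, hrc⟩
  have hec_pos : 0 < (e ∩ c).card := Finset.card_pos.2 ⟨r, hrec⟩
  rcases hec_card with h0 | h2 | h4'
  · omega
  · -- the bad case
    exfalso
    -- the two remaining points of e
    have hY : (e \ (b ∪ c)).card = 2 := by
      have h1 := Finset.card_sdiff_add_card_inter e (b ∪ c)
      have h3 : e ∩ (b ∪ c) = (e ∩ b) ∪ (e ∩ c) := Finset.inter_union_distrib_left e b c
      have hdisj : Disjoint (e ∩ b) (e ∩ c) := by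
        rw [Finset.disjoint_left]
        intro x hx hx'
        rw [Finset.mem_inter] at hx hx'
        exact heT x hx.1 hx.2 hx'.2
      rw [h3, Finset.card_union_of_disjoint hdisj, heb_inter, hT2, h2, hB.1 e he] at h1
      omega
    obtain ⟨y1, hy1⟩ : (e \ (b ∪ c)).Nonempty := by rw [← Finset.card_pos]; omega
    have hy1' := hy1
    rw [Finset.mem_sdiff, Finset.mem_union, not_or] at hy1'
    obtain ⟨hy1e, hy1b, hy1c⟩ := hy1'
    -- the block c2 through T ∪ {y1}
    have hy1T : y1 ∉ b ∩ c := fun h => hy1b (Finset.mem_inter.1 h).1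
    obtain ⟨c2, hc2, hsc2⟩ := exists_block hB (insert y1 (b ∩ c))
      (by rw [Finset.card_insert_of_notMem hy1T, h4])
    have hy1c2 : y1 ∈ c2 := hsc2 (Finset.mem_insert_self _ _)
    have hTc2 : b ∩ c ⊆ c2 := fun x hx => hsc2 (Finset.mem_insert_of_mem hx)
    have hc2b : c2 ≠ b := fun h => hy1b (h ▸ hy1c2)
    have hc2c : c2 ≠ c := fun h => hy1c (h ▸ hy1c2)
    have hc2b_inter : c2 ∩ b = b ∩ c :=
      inter_eq_of_subset hα hB hc2 hb hc2b
        (fun x hx => Finset.mem_inter.2 ⟨hTc2 hx, (Finset.mem_inter.1 hx).1⟩) h4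
    have hc2c_inter : c2 ∩ c = b ∩ c :=
      inter_eq_of_subset hα hB hc2 hc hc2c
        (fun x hx => Finset.mem_inter.2 ⟨hTc2 hx, (Finset.mem_inter.1 hx).2⟩) h4
    -- a 3-subset P of T
    obtain ⟨P, hPT, hP3⟩ := Finset.exists_subset_card_eq (s := b ∩ c) (n := 3) (by omega)
    have hPb : ∀ x ∈ P, x ∈ b := fun x hx => (Finset.mem_inter.1 (hPT hx)).1
    have hPc : ∀ x ∈ P, x ∈ c := fun x hx => (Finset.mem_inter.1 (hPT hx)).2
    have hy1P : y1 ∉ P := fun h => hy1b (hPb y1 h)
    have hrP : r ∉ P := fun h => hrb (hPb r h)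
    have hry1 : r ≠ y1 := fun h => hy1c (h ▸ hrc)
    have hrF : r ∉ insert y1 P := by
      rw [Finset.mem_insert, not_or]; exact ⟨hry1, hrP⟩
    obtain ⟨f, hf, hsf⟩ := exists_block hB (insert r (insert y1 P))
      (by rw [Finset.card_insert_of_notMem hrF, Finset.card_insert_of_notMem hy1P, hP3])
    have hrf : r ∈ f := hsf (Finset.mem_insert_self _ _)
    have hy1f : y1 ∈ f := hsf (Finset.mem_insert_of_mem (Finset.mem_insert_self _ _))
    have hPf : P ⊆ f := fun x hx => hsf (Finset.mem_insert_of_mem (Finset.mem_insert_of_mem hx))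
    have hfc : f ≠ c := fun h => hy1c (h ▸ hy1f)
    have hfc_inter : f ∩ c = insert r P :=
      inter_eq_of_subset hα hB hf hc hfc
        (by
          intro x hx
          rw [Finset.mem_insert] at hx
          rcases hx with rfl | hx
          · exact Finset.mem_inter.2 ⟨hrf, hrc⟩
          · exact Finset.mem_inter.2 ⟨hPf hx, hPc x hx⟩)
        (by rw [Finset.card_insert_of_notMem hrP, hP3])
    have hrc2 : r ∉ c2 := by
      intro h
      have : r ∈ c2 ∩ c := Finset.mem_inter.2 ⟨h, hrc⟩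
      rw [hc2c_inter] at this
      exact hrb (Finset.mem_inter.1 this).1
    have hfc2 : f ≠ c2 := fun h => hrc2 (h ▸ hrf)
    have hfc2_inter : f ∩ c2 = insert y1 P :=
      inter_eq_of_subset hα hB hf hc2 hfc2
        (by
          intro x hx
          rw [Finset.mem_insert] at hx
          rcases hx with rfl | hx
          · exact Finset.mem_inter.2 ⟨hy1f, hy1c2⟩
          · exact Finset.mem_inter.2 ⟨hPf hx, hTc2 (hPT hx)⟩)
        (by rw [Finset.card_insert_of_notMem hy1P, hP3])
    have hfb : f ≠ b := fun h => hrb (h ▸ hrf)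
    have hfb_card : (f ∩ b).card = 4 :=
      inter_card_of_three hα hB hf hb hfb
        (fun x hx => Finset.mem_inter.2 ⟨hPf hx, hPb x hx⟩) hP3
    obtain ⟨p, hp⟩ : P.Nonempty := by rw [← Finset.card_pos]; omega
    have hpe : p ∉ e := fun h => heT p h (hPb p hp) (hPc p hp)
    have hfe : f ≠ e := fun h => hpe (h ▸ hPf hp)
    have hfe_card := Cfsg.Agent.S0352.result hα hB hf he hfe
    -- e ∩ c2 = Y
    have hec2 : e ≠ c2 := fun h => hpe (h ▸ hTc2 (hPT hp))
    have hec2_sub : e ∩ c2 ⊆ e \ (b ∪ c) := by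
      intro x hx
      rw [Finset.mem_inter] at hx
      rw [Finset.mem_sdiff, Finset.mem_union, not_or]
      refine ⟨hx.1, ?_, ?_⟩
      · intro hxb
        have : x ∈ c2 ∩ b := Finset.mem_inter.2 ⟨hx.2, hxb⟩
        rw [hc2b_inter] at this
        exact heT x hx.1 hxb (Finset.mem_inter.1 this).2
      · intro hxc
        have : x ∈ c2 ∩ c := Finset.mem_inter.2 ⟨hx.2, hxc⟩
        rw [hc2c_inter] at this
        exact heT x hx.1 (Finset.mem_inter.1 this).1 hxc
    have hec2_card := Cfsg.Agent.S0352.result hα hB he hc2 hec2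
    have hec2_pos : 0 < (e ∩ c2).card := Finset.card_pos.2 ⟨y1, Finset.mem_inter.2 ⟨hy1e, hy1c2⟩⟩
    have hec2_le := Finset.card_le_card hec2_sub
    have hec2_eq : e ∩ c2 = e \ (b ∪ c) := Finset.eq_of_subset_of_card_le hec2_sub (by omega)
    -- the three pieces of f ∩ e
    have hfT : f ∩ (b ∩ c) = P := by
      ext x
      rw [Finset.mem_inter]
      constructor
      · rintro ⟨hxf, hxT⟩
        have : x ∈ f ∩ c := Finset.mem_inter.2 ⟨hxf, (Finset.mem_inter.1 hxT).2⟩
        rw [hfc_inter, Finset.mem_insert] at this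
        rcases this with rfl | h
        · exact absurd (Finset.mem_inter.1 hxT).1 hrb
        · exact h
      · intro hx
        exact ⟨hPf hx, hPT hx⟩
    have hA1 : (f ∩ (b \ c)).card = 1 := by
      have h1 : f ∩ b = (f ∩ (b ∩ c)) ∪ (f ∩ (b \ c)) := by
        exact inter_split f b c
      have hdisj : Disjoint (f ∩ (b ∩ c)) (f ∩ (b \ c)) := by
        rw [Finset.disjoint_left]
        intro x hx hx'
        rw [Finset.mem_inter] at hx hx'
        exact (Finset.mem_sdiff.1 hx'.2).2 (Finset.mem_inter.1 hx.2).2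
      have h3 := congrArg Finset.card h1
      rw [Finset.card_union_of_disjoint hdisj, hfb_card, hfT, hP3] at h3
      omega
    have hA2 : f ∩ (e ∩ c) = {r} := by
      ext x
      rw [Finset.mem_inter, Finset.mem_inter, Finset.mem_singleton]
      constructor
      · rintro ⟨hxf, hxe, hxc⟩
        have : x ∈ f ∩ c := Finset.mem_inter.2 ⟨hxf, hxc⟩
        rw [hfc_inter, Finset.mem_insert] at this
        rcases this with rfl | h
        · rfl
        · exact absurd hxc (heT x hxe (hPb x h))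
      · rintro rfl
        exact ⟨hrf, hre, hrc⟩
    have hA3 : f ∩ (e \ (b ∪ c)) = {y1} := by
      ext x
      rw [Finset.mem_inter, Finset.mem_singleton]
      constructor
      · rintro ⟨hxf, hxY⟩
        have hxc2 : x ∈ c2 := by
          rw [← hec2_eq] at hxY
          exact (Finset.mem_inter.1 hxY).2
        have : x ∈ f ∩ c2 := Finset.mem_inter.2 ⟨hxf, hxc2⟩
        rw [hfc2_inter, Finset.mem_insert] at this
        rcases this with rfl | h
        · rfl
        · exfalso
          rw [Finset.mem_sdiff, Finset.mem_union, not_or] at hxY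
          exact hxY.2.1 (hPb x h)
      · rintro rfl
        exact ⟨hy1f, hy1⟩
    have hdecomp : f ∩ e = (f ∩ (b \ c)) ∪ (f ∩ (e ∩ c)) ∪ (f ∩ (e \ (b ∪ c))) := by
      ext x
      simp only [Finset.mem_inter, Finset.mem_union, Finset.mem_sdiff]
      constructor
      · rintro ⟨hxf, hxe⟩
        by_cases hxb : x ∈ b
        · exact Or.inl (Or.inl ⟨hxf, hxb, heT x hxe hxb⟩)
        · by_cases hxc : x ∈ c
          · exact Or.inl (Or.inr ⟨hxf, hxe, hxc⟩)
          · exact Or.inr ⟨hxf, hxe, fun h => h.elim hxb hxc⟩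
      · rintro ((⟨hxf, hxb, hxc⟩ | ⟨hxf, hxe, _⟩) | ⟨hxf, hxe, _⟩)
        · exact ⟨hxf, hT2e (Finset.mem_sdiff.2 ⟨hxb, hxc⟩)⟩
        · exact ⟨hxf, hxe⟩
        · exact ⟨hxf, hxe⟩
    have hd1 : Disjoint (f ∩ (b \ c)) (f ∩ (e ∩ c)) := by
      rw [Finset.disjoint_left]
      intro x hx hx'
      simp only [Finset.mem_inter, Finset.mem_sdiff] at hx hx'
      exact hx.2.2 hx'.2.2
    have hd2 : Disjoint ((f ∩ (b \ c)) ∪ (f ∩ (e ∩ c))) (f ∩ (e \ (b ∪ c))) := by
      rw [Finset.disjoint_left]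
      intro x hx hx'
      simp only [Finset.mem_inter, Finset.mem_union, Finset.mem_sdiff] at hx hx'
      rcases hx with hx | hx
      · exact hx'.2.2 (Or.inl hx.2.1)
      · exact hx'.2.2 (Or.inr hx.2.2)
    have hcard3 : (f ∩ e).card = 3 := by
      rw [hdecomp, Finset.card_union_of_disjoint hd2, Finset.card_union_of_disjoint hd1, hA1, hA2,
        hA3, Finset.card_singleton, Finset.card_singleton]
    omega
  · -- e ∩ c = T3, so e = T2 ∪ T3
    have hT3e : c \ b ⊆ e := by
      have : e ∩ c = c \ b := Finset.eq_of_subset_of_card_le hec_sub (by omega)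
      intro x hx
      rw [← this] at hx
      exact (Finset.mem_inter.1 hx).1
    have hsub : symmDiff b c ⊆ e := by
      intro x hx
      rw [Finset.mem_symmDiff] at hx
      rcases hx with ⟨h1, h2⟩ | ⟨h1, h2⟩
      · exact hT2e (Finset.mem_sdiff.2 ⟨h1, h2⟩)
      · exact hT3e (Finset.mem_sdiff.2 ⟨h1, h2⟩)
    have hcard : e.card ≤ (symmDiff b c).card := by
      have hdisj : Disjoint (b \ c) (c \ b) := by
        rw [Finset.disjoint_left]
        intro x hx hx'
        exact (Finset.mem_sdiff.1 hx').2 (Finset.mem_sdiff.1 hx).1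
      have : symmDiff b c = (b \ c) ∪ (c \ b) := rfl
      rw [this, Finset.card_union_of_disjoint hdisj, hT2, hT3, hB.1 e he]
    rw [Finset.eq_of_subset_of_card_le hsub hcard]
    exact he

end Cfsg.Agent.S0353
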