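import Cfsg.Statements.S0354
import Cfsg.Agent.Lib.Helper6.Steiner

set_option autoImplicit false
open Cfsg

namespace Cfsg.Agent.S0354


open Cfsg.Agent.Lib.Helper6.Steiner in


/-- In an S(5, 8, 24), each block is disjoint from exactly 30 blocks. -/
theorem result {α : Type*} [Fintype α] [DecidableEq α] (hα : Fintype.card α = 24) {B : Set (Finset α)} (hB : Cfsg.IsSteinerSystem 5 8 B) {b : Finset α} (hb : b ∈ B) : {c : Finset α | c ∈ B ∧ Disjoint b c}.ncard = 30 := by
  have e0 := sum_nInter hB hb 0 (by norm_num)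
  have e1 := sum_nInter hB hb 1 (by norm_num)
  have e2 := sum_nInter hB hb 2 (by norm_num)
  have e3 := sum_nInter hB hb 3 (by norm_num)
  have e4 := sum_nInter hB hb 4 (by norm_num)
  have h8 := nInter_k hB hb (by norm_num)
  have h5 := nInter_eq_zero hB hb (i := 5) (by norm_num) (by norm_num)
  have h6 := nInter_eq_zero hB hb (i := 6) (by norm_num) (by norm_num)
  have h7 := nInter_eq_zero hB hb (i := 7) (by norm_num) (by norm_num)
  rw [hα] at e0 e1 e2 e3 e4
  simp only [Finset.sum_range_succ, Finset.sum_range_zero, h5, h6, h7, h8] at e0 e1 e2 e3 e4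
  norm_num [Nat.choose] at e0 e1 e2 e3 e4
  have h0 : nInter B b 0 = 30 := by omega
  rw [ncard_sep_eq (B := B) (fun c => Disjoint b c), ← h0]
  unfold nInter
  congr 1
  ext c
  simp only [Finset.mem_filter, Finset.card_eq_zero]
  rw [Finset.disjoint_iff_inter_eq_empty, Finset.inter_comm]

end Cfsg.Agent.S0354
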