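import Cfsg.Statements.S0357
import Cfsg.Agent.Lib.Helper6.Steiner

set_option autoImplicit false
open Cfsg

namespace Cfsg.Agent.S0357


open Cfsg.Agent.Lib.Helper6.Steiner in


/-- In a Steiner system S(5, 6, 12), the complement of every block is again a block. -/
theorem result {α : Type*} [Fintype α] [DecidableEq α] (hα : Fintype.card α = 12) {B : Set (Finset α)} (hB : Cfsg.IsSteinerSystem 5 6 B) {b : Finset α} (hb : b ∈ B) : bᶜ ∈ B := by
  have e0 := sum_nInter hB hb 0 (by norm_num)
  have e1 := sum_nInter hB hb 1 (by norm_num)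
  have e2 := sum_nInter hB hb 2 (by norm_num)
  have e3 := sum_nInter hB hb 3 (by norm_num)
  have e4 := sum_nInter hB hb 4 (by norm_num)
  have h6 := nInter_k hB hb (by norm_num)
  have h5 := nInter_eq_zero hB hb (i := 5) (by norm_num) (by norm_num)
  rw [hα] at e0 e1 e2 e3 e4
  simp only [Finset.sum_range_succ, Finset.sum_range_zero, h5, h6] at e0 e1 e2 e3 e4
  norm_num [Nat.choose] at e0 e1 e2 e3 e4
  have h0 : nInter B b 0 = 1 := by omega
  unfold nInter at h0
  have hne : (Finset.filter (fun c => (c ∩ b).card = 0) (blocks B)).Nonempty := by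
    rw [← Finset.card_pos, h0]; exact Nat.one_pos
  obtain ⟨c, hc⟩ := hne
  rw [Finset.mem_filter, mem_blocks, Finset.card_eq_zero] at hc
  obtain ⟨hcB, hcb⟩ := hc
  have hsub : c ⊆ bᶜ := by
    intro x hx
    rw [Finset.mem_compl]
    intro hxb
    have : x ∈ c ∩ b := Finset.mem_inter.2 ⟨hx, hxb⟩
    rw [hcb] at this
    exact absurd this (Finset.notMem_empty x)
  have hcard : bᶜ.card ≤ c.card := by
    rw [Finset.card_compl, hα, hB.1 b hb, hB.1 c hcB]
  have := Finset.eq_of_subset_of_card_le hsub hcard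
  rw [← this]
  exact hcB

end Cfsg.Agent.S0357
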