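import Cfsg.Statements.S0362
import Cfsg.Agent.Lib.Helper8.Golay

set_option autoImplicit false
open Pointwise
open Cfsg

namespace Cfsg.Agent.S0362

/-- The length-24 binary code generated by the 23 translates of the set of squares modulo 23 and the all-ones word is self-orthogonal: any two code words have an even number of common 1's. -/
theorem result (v w : Cfsg.GolayPt → ZMod 2) (hv : v ∈ Cfsg.golayCode) (hw : w ∈ Cfsg.golayCode) : ∑ i, v i * w i = 0 := by
  exact Cfsg.Agent.Lib.Helper8.golay_orth hv hw

end Cfsg.Agent.S0362
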