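import Cfsg.Statements.S0369
import Cfsg.Agent.Lib.Helper7.GolayWeights

set_option autoImplicit false
open Cfsg

namespace Cfsg.Agent.S0369

open Cfsg.Agent.Lib.Helper7
open scoped Pointwise

theorem finOf_xor (a b : ℕ) : finOf (a ^^^ b) = symmDiff (finOf a) (finOf b) := by
  rw [← support₂_wordOf, wordOf_xor, support₂_add, support₂_wordOf, support₂_wordOf]

theorem finOf_zero : finOf 0 = ∅ := by
  rw [← support₂_wordOf, wordOf_zero, support₂_zero]

theorem smul_symmDiff (σ : Equiv.Perm GolayPt) (s t : Finset GolayPt) :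
    σ • symmDiff s t = symmDiff (σ • s) (σ • t) := by
  ext p
  simp only [Finset.mem_smul_finset, Finset.mem_symmDiff]
  constructor
  · rintro ⟨q, (⟨h1, h2⟩ | ⟨h1, h2⟩), rfl⟩
    · exact Or.inl ⟨⟨q, h1, rfl⟩, fun ⟨q', h3, h4⟩ => h2 (by rwa [← (MulAction.injective σ) h4])⟩
    · exact Or.inr ⟨⟨q, h1, rfl⟩, fun ⟨q', h3, h4⟩ => h2 (by rwa [← (MulAction.injective σ) h4])⟩
  · rintro (⟨⟨q, h1, rfl⟩, h2⟩ | ⟨⟨q, h1, rfl⟩, h2⟩)
    · exact ⟨q, Or.inl ⟨h1, fun h3 => h2 ⟨q, h3, rfl⟩⟩, rfl⟩
    · exact ⟨q, Or.inr ⟨h1, fun h3 => h2 ⟨q, h3, rfl⟩⟩, rfl⟩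

theorem basis_octads : ∀ b ∈ golayBasis, b < 2 ^ 24 ∧ b = encode (b % 4096) ∧ popc b = 8 := by
  decide +kernel

theorem smul_comb_mem (σ : Equiv.Perm GolayPt) (B : List ℕ)
    (hB : ∀ b ∈ B, σ • finOf b ∈ supports (golayCode : Set (GolayPt → ZMod 2))) (c : ℕ) :
    σ • finOf (comb B c) ∈ supports (golayCode : Set (GolayPt → ZMod 2)) := by
  have hempty : σ • finOf 0 ∈ supports (golayCode : Set (GolayPt → ZMod 2)) := by
    rw [finOf_zero, Finset.smul_finset_empty]
    exact ⟨0, Submodule.zero_mem _, support₂_zero⟩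
  induction B generalizing c with
  | nil => simpa [comb] using hempty
  | cons b bs ih =>
    simp only [comb, finOf_xor, smul_symmDiff]
    apply symmDiff_mem_supports
    · split
      · exact hB b List.mem_cons_self
      · exact hempty
    · exact ih (fun b' hb' => hB b' (List.mem_cons_of_mem _ hb')) _

/-- The group of the length-24 code coincides with the automorphism group of its octad system. -/
theorem result : Cfsg.M24 = Cfsg.setSystemAut Cfsg.octads := by
  ext σ
  constructor
  · intro hσ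
    unfold setSystemAut
    rw [MulAction.mem_stabilizer_set_iff_smul_set_subset (Set.toFinite _)]
    rintro _ ⟨o, ho, rfl⟩
    exact smul_mem_octads hσ ho
  · intro hσ
    have hoct : ∀ o ∈ octads, σ • o ∈ octads := by
      intro o ho
      have h1 : σ • octads = octads := hσ
      rw [← h1]
      exact Set.smul_mem_smul_set ho
    show σ ∈ setSystemAut (supports (golayCode : Set (GolayPt → ZMod 2)))
    unfold setSystemAut
    rw [MulAction.mem_stabilizer_set_iff_smul_set_subset (Set.toFinite _)]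
    rintro _ ⟨s, hs, rfl⟩
    obtain ⟨c, _, rfl⟩ := (mem_supports_golayCode_iff s).1 hs
    show σ • finOf (comb golayBasis c) ∈ supports (golayCode : Set (GolayPt → ZMod 2))
    apply smul_comb_mem
    intro b hb
    obtain ⟨h1, h2, h3⟩ := basis_octads b hb
    have : finOf b ∈ octads := by
      refine ⟨?_, by rw [card_finOf, h3]⟩
      rw [h2]
      exact ⟨wordOf (encode (b % 4096)), wordOf_encode_mem _, support₂_wordOf _⟩
    exact (hoct _ this).1

end Cfsg.Agent.S0369
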