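import Cfsg.Statements.S0371
import Cfsg.Agent.Lib.Helper7.GolayBasic

set_option autoImplicit false
open Cfsg

namespace Cfsg.Agent.S0371

open Cfsg.Agent.Lib.Helper7

/-- Multiplication by a nonzero square residue modulo 23, fixing the extra point, lies in the group of the length-24 code. -/
theorem result (u : (ZMod 23)ˣ) (hu : IsSquare u) : Equiv.optionCongr (Units.mulLeft u) ∈ Cfsg.M24 := by
  obtain ⟨s, rfl⟩ := hu
  apply mem_M24_of_gens _ _ (one_comp_mem _)
  intro t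
  rw [qrWord_comp_optionCongr _ t (((s * s : (ZMod 23)ˣ) : ZMod 23) * t)]
  · exact qrWord_mem _
  · intro x
    have hs : (Units.mulLeft (s * s)).symm x = ((s * s)⁻¹ : (ZMod 23)ˣ) * x := by
      simp [Units.mulLeft_symm]
    rw [hs]
    have h1 : ((s⁻¹ : (ZMod 23)ˣ) : ZMod 23) * (s : ZMod 23) = 1 := by
      rw [← Units.val_mul]; simp
    constructor
    · rintro ⟨r, hr⟩
      refine ⟨(s : ZMod 23) * r, ?_⟩
      have : x = ((s * s : (ZMod 23)ˣ) : ZMod 23) * ((((s * s)⁻¹ : (ZMod 23)ˣ) : ZMod 23) * x) := by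
        rw [← mul_assoc, ← Units.val_mul]; simp
      rw [this, hr]
      push_cast
      ring
    · rintro ⟨r, hr⟩
      refine ⟨((s⁻¹ : (ZMod 23)ˣ) : ZMod 23) * r, ?_⟩
      rw [hr]
      have h2 : (((s * s)⁻¹ : (ZMod 23)ˣ) : ZMod 23) * ((s * s : (ZMod 23)ˣ) : ZMod 23) = 1 := by
        rw [← Units.val_mul]; simp
      have h3 : (((s * s)⁻¹ : (ZMod 23)ˣ) : ZMod 23) =
          ((s⁻¹ : (ZMod 23)ˣ) : ZMod 23) * ((s⁻¹ : (ZMod 23)ˣ) : ZMod 23) := by
        rw [← Units.val_mul]; congr 1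
      rw [mul_add, ← mul_assoc _ _ t, h2, one_mul, h3]
      ring

end Cfsg.Agent.S0371
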