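import Cfsg.Statements.S0380
-- import your own Cfsg.Agent.* helpers here
import Cfsg.Agent.Lib.Helper93.PSL34B

set_option autoImplicit false
open Cfsg

namespace Cfsg.Agent.S0380

open Cfsg.Agent.Lib.Helper93.Golay Cfsg.Agent.Lib.Helper93.PSL34

/-- `PSL(3, 4)`, over the concrete field, is the pointwise stabiliser of the three base points -/
noncomputable def pslEquiv : Matrix.ProjectiveSpecialLinearGroup (Fin 3) K ≃* ↥(Hfix 7) :=
  (QuotientGroup.quotientMulEquivOfEq ker_eq.symm).trans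
    ((QuotientGroup.quotientKerEquivRange toPermHom).trans (MulEquiv.subgroupCongr range_eq))

theorem map_center_equiv {G H : Type*} [Group G] [Group H] (e : G ≃* H) :
    (Subgroup.center G).map e.toMonoidHom = Subgroup.center H := by
  ext y
  constructor
  · rintro ⟨x, hx, rfl⟩
    have hx' : ∀ g, g * x = x * g := Subgroup.mem_center_iff.1 hx
    refine Subgroup.mem_center_iff.2 fun g => ?_
    obtain ⟨g', rfl⟩ := e.surjective g
    show e g' * e x = e x * e g'
    rw [← map_mul, ← map_mul, hx' g']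
  · intro hy
    have hy' : ∀ g, g * y = y * g := Subgroup.mem_center_iff.1 hy
    refine ⟨e.symm y, Subgroup.mem_center_iff.2 fun g => ?_, by simp⟩
    apply e.injective
    rw [map_mul, map_mul, e.apply_symm_apply]
    exact hy' (e g)

/-- the special linear groups over isomorphic rings -/
def slEquiv {R S : Type*} [CommRing R] [CommRing S] (e : R ≃+* S) :
    Matrix.SpecialLinearGroup (Fin 3) R ≃* Matrix.SpecialLinearGroup (Fin 3) S where
  toFun := Matrix.SpecialLinearGroup.map e.toRingHom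
  invFun := Matrix.SpecialLinearGroup.map e.symm.toRingHom
  left_inv g := by
    apply Subtype.ext
    ext i j
    exact e.symm_apply_apply _
  right_inv g := by
    apply Subtype.ext
    ext i j
    exact e.apply_symm_apply _
  map_mul' := map_mul _

noncomputable def pslCongr {R S : Type*} [CommRing R] [CommRing S] (e : R ≃+* S) :
    Matrix.ProjectiveSpecialLinearGroup (Fin 3) R ≃* Matrix.ProjectiveSpecialLinearGroup (Fin 3) S :=
  QuotientGroup.congr _ _ (slEquiv e) (map_center_equiv (slEquiv e))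

theorem mem_fset7 : ∀ x : GolayPt, x ∈ fset 7 → x = P 0 ∨ x = P 1 ∨ x = P 2 := by
  intro x hx
  rw [mem_fset] at hx
  have h : ∀ i : Fin 24, (7 : ℕ).testBit i = true → i = 0 ∨ i = 1 ∨ i = 2 := by decide
  rcases h _ hx with h | h | h
  · left; rw [← ptOf_ptIdx x, h]; rfl
  · right; left; rw [← ptOf_ptIdx x, h]; rfl
  · right; right; rw [← ptOf_ptIdx x, h]; rfl

/-- conjugation onto the standard stabiliser -/
def stabEquiv {p q r : GolayPt} {g : Equiv.Perm GolayPt} (hg : g ∈ M24) (h0 : g (P 0) = p)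
    (h1 : g (P 1) = q) (h2 : g (P 2) = r) :
    ↥(MulAction.stabilizer Cfsg.M24 p ⊓ MulAction.stabilizer Cfsg.M24 q ⊓
      MulAction.stabilizer Cfsg.M24 r) ≃* ↥(Hfix 7) where
  toFun x := ⟨g⁻¹ * (x.1 : Equiv.Perm GolayPt) * g, by
    have hx := x.2
    rw [Subgroup.mem_inf, Subgroup.mem_inf, MulAction.mem_stabilizer_iff,
      MulAction.mem_stabilizer_iff, MulAction.mem_stabilizer_iff] at hx
    have hp : (x.1 : Equiv.Perm GolayPt) p = p := hx.1.1
    have hq : (x.1 : Equiv.Perm GolayPt) q = q := hx.1.2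
    have hr : (x.1 : Equiv.Perm GolayPt) r = r := hx.2
    refine ⟨M24.mul_mem (M24.mul_mem (M24.inv_mem hg) x.1.2) hg, fun y hy => ?_⟩
    rw [Equiv.Perm.mul_apply, Equiv.Perm.mul_apply, Equiv.Perm.inv_eq_iff_eq]
    rcases mem_fset7 y hy with rfl | rfl | rfl
    · rw [h0, hp]
    · rw [h1, hq]
    · rw [h2, hr]⟩
  invFun y := ⟨⟨g * y.1 * g⁻¹, M24.mul_mem (M24.mul_mem hg y.2.1) (M24.inv_mem hg)⟩, by
    have f0 := y.2.2 _ P0_mem
    have f1 := y.2.2 _ P1_mem
    have f2 := y.2.2 _ P2_mem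
    refine Subgroup.mem_inf.2 ⟨Subgroup.mem_inf.2 ⟨MulAction.mem_stabilizer_iff.2 ?_,
      MulAction.mem_stabilizer_iff.2 ?_⟩, MulAction.mem_stabilizer_iff.2 ?_⟩
    · show (g * y.1 * g⁻¹) p = p
      rw [Equiv.Perm.mul_apply, Equiv.Perm.mul_apply, ← h0, ← Equiv.Perm.mul_apply g⁻¹ g, inv_mul_cancel, Equiv.Perm.one_apply, f0]
    · show (g * y.1 * g⁻¹) q = q
      rw [Equiv.Perm.mul_apply, Equiv.Perm.mul_apply, ← h1, ← Equiv.Perm.mul_apply g⁻¹ g, inv_mul_cancel, Equiv.Perm.one_apply, f1]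
    · show (g * y.1 * g⁻¹) r = r
      rw [Equiv.Perm.mul_apply, Equiv.Perm.mul_apply, ← h2, ← Equiv.Perm.mul_apply g⁻¹ g, inv_mul_cancel, Equiv.Perm.one_apply, f2]⟩
  left_inv x := by
    apply Subtype.ext
    apply Subtype.ext
    show g * (g⁻¹ * (x.1 : Equiv.Perm GolayPt) * g) * g⁻¹ = x.1
    group
  right_inv y := by
    apply Subtype.ext
    show g⁻¹ * (g * y.1 * g⁻¹) * g = y.1
    group
  map_mul' x y := by
    apply Subtype.ext
    show g⁻¹ * ((x.1 : Equiv.Perm GolayPt) * (y.1 : Equiv.Perm GolayPt)) * g =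
      (g⁻¹ * (x.1 : Equiv.Perm GolayPt) * g) * (g⁻¹ * (y.1 : Equiv.Perm GolayPt) * g)
    group


/-- A three-point stabiliser in the group of the length-24 code is isomorphic to PSL(3, F) for the field F with 4 elements. -/
theorem result (p q r : Cfsg.GolayPt) (hpq : p ≠ q) (hpr : p ≠ r) (hqr : q ≠ r) (F : Type) [Field F] [Fintype F] (hF : Fintype.card F = 4) : Nonempty (↥(MulAction.stabilizer Cfsg.M24 p ⊓ MulAction.stabilizer Cfsg.M24 q ⊓ MulAction.stabilizer Cfsg.M24 r) ≃* Matrix.ProjectiveSpecialLinearGroup (Fin 3) F) := by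
  obtain ⟨s, hsp, hsq, hsr⟩ := exists_ne3 p q r
  obtain ⟨g, hg, hgq⟩ := exists_M24_map4 (list5 p q r s s)
    (list5_inj4 hpq hpr hsp.symm hqr hsq.symm hsr.symm)
  have h0 : g (P 0) = p := hgq 0 (by norm_num)
  have h1 : g (P 1) = q := hgq 1 (by norm_num)
  have h2 : g (P 2) = r := hgq 2 (by norm_num)
  have e : K ≃+* F := FiniteField.ringEquivOfCardEq (by rw [card_K, hF])
  exact ⟨(stabEquiv hg h0 h1 h2).trans (pslEquiv.symm.trans (pslCongr e))⟩

end Cfsg.Agent.S0380
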