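import Mathlib
import Cfsg.Statements.S0388
import Cfsg.Agent.S0387
import Cfsg.Agent.Lib.Helper95.PrimeDegree
import Cfsg.Agent.Lib.Helper95.Dodecad

set_option autoImplicit false
open Cfsg
open scoped Pointwise

namespace Cfsg.Agent.S0388

open Cfsg.Agent.Lib.Helper95 MulAction

/-- the 11 points of the dodecad other than `p` -/
abbrev Pts (d : Finset GolayPt) (p : GolayPt) : Type := {q : GolayPt // q ∈ d ∧ q ≠ p}

theorem smul_mem (d : Finset GolayPt) (p : GolayPt)
    (g : ↥(MulAction.stabilizer Cfsg.M24 d ⊓ MulAction.stabilizer Cfsg.M24 p)) (q : GolayPt)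
    (hq : q ∈ d ∧ q ≠ p) :
    (g.1.1 : Equiv.Perm GolayPt) q ∈ d ∧ (g.1.1 : Equiv.Perm GolayPt) q ≠ p := by
  have h1 : g.1 • d = d := MulAction.mem_stabilizer_iff.mp g.2.1
  have h2 : (g.1.1 : Equiv.Perm GolayPt) p = p := MulAction.mem_stabilizer_iff.mp g.2.2
  constructor
  · have : g.1 • q ∈ g.1 • d := Finset.smul_mem_smul_finset hq.1
    rw [h1] at this
    exact this
  · intro h
    apply hq.2
    exact g.1.1.injective (h.trans h2.symm)

instance instAct (d : Finset GolayPt) (p : GolayPt) :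
    MulAction ↥(MulAction.stabilizer Cfsg.M24 d ⊓ MulAction.stabilizer Cfsg.M24 p) (Pts d p) where
  smul g x := ⟨g.1.1 x.1, smul_mem d p g x.1 x.2⟩
  one_smul _ := Subtype.ext rfl
  mul_smul _ _ _ := Subtype.ext rfl

theorem faithful (d : Finset GolayPt) (hd : d ∈ dodecads) (p : GolayPt) :
    FaithfulSMul ↥(MulAction.stabilizer Cfsg.M24 d ⊓ MulAction.stabilizer Cfsg.M24 p) (Pts d p) := by
  refine ⟨fun {m₁ m₂} h => ?_⟩
  have hp1 : (m₁.1.1 : Equiv.Perm GolayPt) p = p := MulAction.mem_stabilizer_iff.mp m₁.2.2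
  have hp2 : (m₂.1.1 : Equiv.Perm GolayPt) p = p := MulAction.mem_stabilizer_iff.mp m₂.2.2
  have key : (m₂.1.1 : Equiv.Perm GolayPt)⁻¹ * m₁.1.1 = 1 := by
    apply dodecad_rigid d hd (M24.mul_mem (M24.inv_mem m₂.1.2) m₁.1.2)
    intro q hq
    rw [Equiv.Perm.mul_apply, Equiv.Perm.inv_eq_iff_eq]
    by_cases hqp : q = p
    · rw [hqp, hp1, hp2]
    · have := h ⟨q, hq, hqp⟩
      exact congrArg Subtype.val this
  apply Subtype.ext
  apply Subtype.ext
  exact (inv_mul_eq_one.mp key).symm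

theorem card_pts (d : Finset GolayPt) (hd : d ∈ dodecads) (p : GolayPt) (hp : p ∈ d) :
    Nat.card (Pts d p) = 11 := by
  have hcard : d.card = 12 := hd.2
  rw [Nat.card_eq_fintype_card, Fintype.card_subtype]
  have : (Finset.univ.filter fun q : GolayPt => q ∈ d ∧ q ≠ p) = d.erase p := by
    ext q
    simp [and_comm]
  rw [this, Finset.card_erase_of_mem hp, hcard]

/-- The stabiliser of a dodecad and a point on it is simple. -/
theorem result (d : Finset Cfsg.GolayPt) (hd : d ∈ Cfsg.dodecads) (p : Cfsg.GolayPt) (hp : p ∈ d) : IsSimpleGroup ↥(MulAction.stabilizer Cfsg.M24 d ⊓ MulAction.stabilizer Cfsg.M24 p) := by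
  have hcard : Nat.card ↥(MulAction.stabilizer Cfsg.M24 d ⊓ MulAction.stabilizer Cfsg.M24 p) = 7920 :=
    Cfsg.Agent.S0387.result d hd p hp
  have hX := card_pts d hd p hp
  have hfaith := faithful d hd p
  have : Fact (Nat.Prime 11) := ⟨by norm_num⟩
  obtain ⟨P⟩ : Nonempty (Sylow 11 ↥(MulAction.stabilizer Cfsg.M24 d ⊓ MulAction.stabilizer Cfsg.M24 p)) :=
    inferInstance
  have hP : Nat.card (P : Subgroup ↥(MulAction.stabilizer Cfsg.M24 d ⊓ MulAction.stabilizer Cfsg.M24 p)) = 11 := by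
    have := Cfsg.Agent.Lib.Helper17.card_sylow_of_card_eq (k := 1) (m := 720) P
      (by rw [hcard]; norm_num) (by norm_num)
    simpa using this
  obtain ⟨e, he, hN, hmul, hmod⟩ := card_normalizer_of_prime_degree (X := Pts d p) hX P hP
  have he5 : e = 5 := by
    have hmem : e ∈ Nat.divisors 10 := Nat.mem_divisors.mpr ⟨he, by norm_num⟩
    have hdiv : Nat.divisors 10 = {1, 2, 5, 10} := by decide
    rw [hdiv] at hmem
    simp only [Finset.mem_insert, Finset.mem_singleton] at hmem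
    rw [hcard] at hmul
    rcases hmem with rfl | rfl | rfl | rfl <;> omega
  rw [he5] at hN
  exact isSimpleGroup_of_prime_degree (X := Pts d p) (r := 5) (by norm_num) hX P hP hN
    (by rw [hcard]; norm_num)

end Cfsg.Agent.S0388
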