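import Mathlib
import Cfsg.Statements.S0383
import Cfsg.Agent.S0387
import Cfsg.Agent.S0388
import Cfsg.Agent.Lib.Helper95.PrimeDegree
import Cfsg.Agent.Lib.Helper95.Dodecad

set_option autoImplicit false
open scoped Pointwise
open Cfsg

namespace Cfsg.Agent.S0383

open Cfsg.Agent.Lib.Helper95 Cfsg.Agent.Lib.Helper7 MulAction

/-- the 12 points of the dodecad -/
abbrev Pts (d : Finset GolayPt) : Type := {q : GolayPt // q ∈ d}

theorem smul_mem (d : Finset GolayPt) (g : ↥(MulAction.stabilizer Cfsg.M24 d)) (q : GolayPt)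
    (hq : q ∈ d) : (g.1.1 : Equiv.Perm GolayPt) q ∈ d := by
  have h1 : g.1 • d = d := MulAction.mem_stabilizer_iff.mp g.2
  have : g.1 • q ∈ g.1 • d := Finset.smul_mem_smul_finset hq
  rw [h1] at this
  exact this

instance instAct (d : Finset GolayPt) :
    MulAction ↥(MulAction.stabilizer Cfsg.M24 d) (Pts d) where
  smul g x := ⟨g.1.1 x.1, smul_mem d g x.1 x.2⟩
  one_smul _ := Subtype.ext rfl
  mul_smul _ _ _ := Subtype.ext rfl

theorem smul_val (d : Finset GolayPt) (g : ↥(MulAction.stabilizer Cfsg.M24 d)) (x : Pts d) :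
    (g • x).1 = (g.1.1 : Equiv.Perm GolayPt) x.1 := rfl

theorem faithful (d : Finset GolayPt) (hd : d ∈ dodecads) :
    FaithfulSMul ↥(MulAction.stabilizer Cfsg.M24 d) (Pts d) := by
  refine ⟨fun {m₁ m₂} h => ?_⟩
  have key : (m₂.1.1 : Equiv.Perm GolayPt)⁻¹ * m₁.1.1 = 1 := by
    apply dodecad_rigid d hd (M24.mul_mem (M24.inv_mem m₂.1.2) m₁.1.2)
    intro q hq
    rw [Equiv.Perm.mul_apply, Equiv.Perm.inv_eq_iff_eq]
    have := h ⟨q, hq⟩
    exact congrArg Subtype.val this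
  apply Subtype.ext
  apply Subtype.ext
  exact (inv_mul_eq_one.mp key).symm

theorem card_pts (d : Finset GolayPt) (hd : d ∈ dodecads) : Nat.card (Pts d) = 12 := by
  have hcard : d.card = 12 := hd.2
  rw [Nat.card_eq_fintype_card, Fintype.card_coe, hcard]

theorem not_isPrimePow_12 : ¬ IsPrimePow 12 := by
  rw [isPrimePow_nat_iff]
  rintro ⟨p, k, hp, hk, h⟩
  have h2 : 2 ∣ p ^ k := by rw [h]; norm_num
  have h3 : 3 ∣ p ^ k := by rw [h]; norm_num
  have h2' := (Nat.prime_dvd_prime_iff_eq Nat.prime_two hp).mp (Nat.Prime.dvd_of_dvd_pow Nat.prime_two h2)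
  have h3' := (Nat.prime_dvd_prime_iff_eq Nat.prime_three hp).mp (Nat.Prime.dvd_of_dvd_pow Nat.prime_three h3)
  omega

/-- the point stabiliser in the action on the dodecad is the two-fold stabiliser -/
def stabEquiv (d : Finset GolayPt) (p : GolayPt) (hp : p ∈ d) :
    ↥(MulAction.stabilizer ↥(MulAction.stabilizer Cfsg.M24 d) (⟨p, hp⟩ : Pts d)) ≃*
      ↥(MulAction.stabilizer Cfsg.M24 d ⊓ MulAction.stabilizer Cfsg.M24 p) where
  toFun g := ⟨g.1.1, g.1.2,
    MulAction.mem_stabilizer_iff.mpr (congrArg Subtype.val (MulAction.mem_stabilizer_iff.mp g.2))⟩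
  invFun k := ⟨⟨k.1, k.2.1⟩,
    MulAction.mem_stabilizer_iff.mpr (Subtype.ext (MulAction.mem_stabilizer_iff.mp k.2.2))⟩
  left_inv _ := rfl
  right_inv _ := rfl
  map_mul' _ _ := rfl

/-- A dodecad stabiliser in the group of the length-24 code is simple. -/
theorem result (d : Finset Cfsg.GolayPt) (hd : d ∈ Cfsg.dodecads) : IsSimpleGroup (MulAction.stabilizer Cfsg.M24 d) := by
  have hfaith := faithful d hd
  have inv_self : ∀ (f : Equiv.Perm GolayPt) x, f⁻¹ (f x) = x := fun f x => f.symm_apply_apply x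
  have self_inv : ∀ (f : Equiv.Perm GolayPt) x, f (f⁻¹ x) = x := fun f x => f.apply_symm_apply x
  have hcard : d.card = 12 := hd.2
  obtain ⟨p, hp⟩ : ∃ p, p ∈ d := by
    apply Finset.card_pos.mp
    rw [hcard]; norm_num
  obtain ⟨g1, hg1, hg1d, hg1p⟩ := Cfsg.Agent.S0387.exists_transport d hd p hp
  have hs : IsSimpleGroup
      ↥(MulAction.stabilizer ↥(MulAction.stabilizer Cfsg.M24 d) (⟨p, hp⟩ : Pts d)) :=
    @MulEquiv.isSimpleGroup _ _ _ _ (Cfsg.Agent.S0388.result d hd p hp) (stabEquiv d p hp)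
  refine isSimpleGroup_of_two_transitive (X := Pts d) (⟨p, hp⟩ : Pts d) ?_ ?_ hs ?_
  · -- transitive
    rintro ⟨q, hq⟩
    obtain ⟨g2, hg2, hg2d, hg2q⟩ := Cfsg.Agent.S0387.exists_transport d hd q hq
    have hmem : g2 * g1⁻¹ ∈ M24 := M24.mul_mem hg2 (M24.inv_mem hg1)
    have hst : (⟨g2 * g1⁻¹, hmem⟩ : ↥M24) ∈ MulAction.stabilizer ↥M24 d := by
      rw [MulAction.mem_stabilizer_iff]
      show (g2 * g1⁻¹) • d = d
      have h1 : g1⁻¹ • d = finOf baseDod := by rw [← hg1d, inv_smul_smul]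
      rw [mul_smul, h1, hg2d]
    refine ⟨⟨⟨g2 * g1⁻¹, hmem⟩, hst⟩, ?_⟩
    apply Subtype.ext
    show (g2 * g1⁻¹) p = q
    rw [Equiv.Perm.mul_apply, ← hg1p, inv_self, hg2q]
  · -- 2-transitive
    rintro ⟨y, hy⟩ ⟨z, hz⟩ hyp hzp
    have hyp' : y ≠ p := fun h => hyp (Subtype.ext h)
    have hzp' : z ≠ p := fun h => hzp (Subtype.ext h)
    have key : ∀ w ∈ d, w ≠ p → ∃ σ ∈ fixIn (stabD baseDod) [0], σ (pt 2) = g1⁻¹ w := by
      intro w hw hwp
      have hq : g1⁻¹ w ∈ finOf baseDod := by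
        have : g1⁻¹ w ∈ g1⁻¹ • d := Finset.smul_mem_smul_finset hw
        rwa [← hg1d, inv_smul_smul] at this
      rw [mem_finOf] at hq
      have hne : idx (g1⁻¹ w) ≠ 0 := by
        intro h0
        apply hwp
        have : pt (idx (g1⁻¹ w)) = pt 0 := by rw [h0]
        rw [pt_idx] at this
        rw [Equiv.Perm.inv_eq_iff_eq] at this
        rw [this, hg1p]
      have hmem : idx (g1⁻¹ w) ∈ m12Tr1.map Prod.fst := by
        have : ∀ s < 24, baseDod.testBit s = true → s ≠ 0 → s ∈ m12Tr1.map Prod.fst := by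
          decide +kernel
        exact this _ (idx_lt _) hq hne
      obtain ⟨τ, hτ, h2⟩ := m12_lower [0] 2 m12Tr1 (by decide +kernel) (by decide +kernel)
        (by decide +kernel) _ hmem
      rw [pt_idx] at h2
      exact ⟨τ, hτ, h2⟩
    obtain ⟨σy, hσy, hσy2⟩ := key y hy hyp'
    obtain ⟨σz, hσz, hσz2⟩ := key z hz hzp'
    rw [mem_fixIn, mem_stabD] at hσy hσz
    obtain ⟨⟨hσyM, hσyd⟩, hσy0⟩ := hσy
    obtain ⟨⟨hσzM, hσzd⟩, hσz0⟩ := hσz
    have hσy0' : σy (pt 0) = pt 0 := hσy0 0 (by simp)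
    have hσz0' : σz (pt 0) = pt 0 := hσz0 0 (by simp)
    have hmem : g1 * σz * σy⁻¹ * g1⁻¹ ∈ M24 :=
      M24.mul_mem (M24.mul_mem (M24.mul_mem hg1 hσzM) (M24.inv_mem hσyM)) (M24.inv_mem hg1)
    have hst : (⟨g1 * σz * σy⁻¹ * g1⁻¹, hmem⟩ : ↥M24) ∈ MulAction.stabilizer ↥M24 d := by
      rw [MulAction.mem_stabilizer_iff]
      show (g1 * σz * σy⁻¹ * g1⁻¹) • d = d
      have h1 : g1⁻¹ • d = finOf baseDod := by rw [← hg1d, inv_smul_smul]
      rw [mul_smul, mul_smul, mul_smul, h1, inv_smul_eq_iff.mpr hσyd.symm, hσzd, hg1d]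
    refine ⟨⟨⟨g1 * σz * σy⁻¹ * g1⁻¹, hmem⟩, hst⟩, ?_, ?_⟩
    · apply Subtype.ext
      show (g1 * σz * σy⁻¹ * g1⁻¹) p = p
      simp only [Equiv.Perm.mul_apply]
      rw [← hg1p, inv_self, Equiv.Perm.inv_eq_iff_eq.mpr hσy0'.symm, hσz0']
    · apply Subtype.ext
      show (g1 * σz * σy⁻¹ * g1⁻¹) y = z
      simp only [Equiv.Perm.mul_apply]
      rw [← hσy2, inv_self, hσz2, self_inv]
  · rw [card_pts d hd]
    exact not_isPrimePow_12

end Cfsg.Agent.S0383
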