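import Cfsg.Statements.S0384
import Cfsg.Agent.Lib.Helper7.M12Trans

set_option autoImplicit false
open Cfsg
open scoped Pointwise

namespace Cfsg.Agent.S0384

open Cfsg.Agent.Lib.Helper7

/-- A dodecad stabiliser is sharply 5-transitive on the dodecad. -/
theorem result (d : Finset Cfsg.GolayPt) (hd : d ∈ Cfsg.dodecads) (x y : Fin 5 ↪ Cfsg.GolayPt) (hx : ∀ i, x i ∈ d) (hy : ∀ i, y i ∈ d) : ∃! g : MulAction.stabilizer Cfsg.M24 d, ∀ i, ((g : Cfsg.M24) : Equiv.Perm Cfsg.GolayPt) (x i) = y i := by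
  obtain ⟨g0, hg0, h1⟩ := dodecad_trans (finOf baseDod) d baseDod_mem hd
  -- pull the tuples back to the base configuration
  have pull : ∀ z : Fin 5 ↪ GolayPt, (∀ i, z i ∈ d) →
      ∃ σ ∈ stabD baseDod, ∀ i : Fin 5,
        g0 (σ (pt (([0, 2, 3, 4, 6] : List ℕ).getD i 0))) = z i := by
    intro z hz
    obtain ⟨σ, hσ, h3⟩ := m12_five_trans
      (fun i => if h : i < 5 then g0⁻¹ (z ⟨i, h⟩) else pt 0)
      (by
        intro i hi
        simp only [hi, dite_true]
        have : g0⁻¹ (z ⟨i, hi⟩) ∈ g0⁻¹ • d := Finset.smul_mem_smul_finset (hz _)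
        rwa [← h1, inv_smul_smul] at this)
      (by
        intro i hi j hj hij
        simp only [hi, hj, dite_true] at hij
        have := z.injective (g0⁻¹.injective hij)
        simpa using congrArg Fin.val this)
    refine ⟨σ, hσ, fun i => ?_⟩
    have := h3 i.1 i.2
    simp only [i.2, dite_true] at this
    rw [this]
    simp
  obtain ⟨σx, hσx, hx'⟩ := pull x hx
  obtain ⟨σy, hσy, hy'⟩ := pull y hy
  have hk : σy * σx⁻¹ ∈ stabD baseDod := Subgroup.mul_mem _ hσy (Subgroup.inv_mem _ hσx)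
  rw [mem_stabD] at hk
  obtain ⟨hkM, hkd⟩ := hk
  have hmem : g0 * (σy * σx⁻¹) * g0⁻¹ ∈ M24 := M24.mul_mem (M24.mul_mem hg0 hkM) (M24.inv_mem hg0)
  have hstab : (⟨g0 * (σy * σx⁻¹) * g0⁻¹, hmem⟩ : M24) ∈ MulAction.stabilizer M24 d := by
    rw [MulAction.mem_stabilizer_iff, Subgroup.smul_def]
    show (g0 * (σy * σx⁻¹) * g0⁻¹) • d = d
    rw [mul_smul, mul_smul, ← h1, inv_smul_smul, hkd]
  refine ⟨⟨⟨g0 * (σy * σx⁻¹) * g0⁻¹, hmem⟩, hstab⟩, ?_, ?_⟩
  · intro i
    show (g0 * (σy * σx⁻¹) * g0⁻¹) (x i) = y i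
    rw [← hx' i, ← hy' i]
    simp
  · rintro ⟨⟨h', hh'M⟩, hh'stab⟩ hh'
    have hh'' : ∀ i, h' (x i) = y i := hh'
    have hh'd : h' • d = d := by
      have := MulAction.mem_stabilizer_iff.1 hh'stab
      rwa [Subgroup.smul_def] at this
    -- the conjugate of `h'` back at the base configuration agrees with `σy * σx⁻¹`
    have key : (σy⁻¹ * (g0⁻¹ * h' * g0) * σx) ∈ fixIn (stabD baseDod) [6, 4, 3, 2, 0] := by
      rw [mem_fixIn, mem_stabD]
      have hσx' := (mem_stabD _ _).1 hσx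
      have hσy' := (mem_stabD _ _).1 hσy
      refine ⟨⟨?_, ?_⟩, ?_⟩
      · exact M24.mul_mem (M24.mul_mem (M24.inv_mem hσy'.1)
          (M24.mul_mem (M24.mul_mem (M24.inv_mem hg0) hh'M) hg0)) hσx'.1
      · rw [mul_smul, mul_smul, mul_smul, mul_smul, hσx'.2, h1, hh'd, ← h1, inv_smul_smul,
          inv_smul_eq_iff, hσy'.2]
      · intro b hb
        have hb' : ∃ i : Fin 5, ([0, 2, 3, 4, 6] : List ℕ).getD i 0 = b := by
          simp only [List.mem_cons, List.not_mem_nil, or_false] at hb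
          rcases hb with rfl | rfl | rfl | rfl | rfl
          · exact ⟨4, rfl⟩
          · exact ⟨3, rfl⟩
          · exact ⟨2, rfl⟩
          · exact ⟨1, rfl⟩
          · exact ⟨0, rfl⟩
        obtain ⟨i, rfl⟩ := hb'
        simp only [Equiv.Perm.mul_apply]
        rw [hx' i, hh'' i, ← hy' i]
        simp
    rw [m12_fix5_eq_bot, Subgroup.mem_bot] at key
    have : h' = g0 * (σy * σx⁻¹) * g0⁻¹ := by
      have h5 : g0⁻¹ * h' * g0 = σy * σx⁻¹ := by
        have h6 : σy * (σy⁻¹ * (g0⁻¹ * h' * g0) * σx) * σx⁻¹ = σy * 1 * σx⁻¹ := by rw [key]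
        simpa [mul_assoc] using h6
      rw [← h5]
      group
    subst this
    rfl

end Cfsg.Agent.S0384
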