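import Cfsg.Statements.S0385
import Cfsg.Agent.Lib.Helper7.GolaySteiner

set_option autoImplicit false
open Cfsg

namespace Cfsg.Agent.S0385

open Cfsg.Agent.Lib.Helper7

/-- The 6-point intersections of octads with a fixed dodecad form a Steiner system S(5, 6, 12) on the dodecad. -/
theorem result (d : Finset Cfsg.GolayPt) (hd : d ∈ Cfsg.dodecads) : Cfsg.IsSteinerSystem 5 6 {h : Finset {p : Cfsg.GolayPt // p ∈ d} | ∃ o ∈ Cfsg.octads, (o ∩ d).card = 6 ∧ h = Finset.subtype (fun p => p ∈ d) o} := by
  constructor
  · rintro h ⟨o, _, hcard, rfl⟩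
    rw [Finset.card_subtype, ← hcard]
    congr 1
  · intro s hs
    -- the five points as a subset of the 24 points
    have hmap : (s.map (Function.Embedding.subtype fun p => p ∈ d)).card = 5 := by
      rw [Finset.card_map, hs]
    have hsub : s.map (Function.Embedding.subtype fun p => p ∈ d) ⊆ d := by
      intro p hp
      rw [Finset.mem_map] at hp
      obtain ⟨q, _, rfl⟩ := hp
      exact q.2
    obtain ⟨o, ho, hto⟩ := exists_octad_of_card_eq_five _ hmap
    have hsub' : ∀ o' : Finset GolayPt, s.map (Function.Embedding.subtype fun p => p ∈ d) ⊆ o' →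
        s ⊆ Finset.subtype (fun p => p ∈ d) o' := by
      intro o' ho' q hq
      rw [Finset.mem_subtype]
      exact ho' (Finset.mem_map_of_mem _ hq)
    have hsub'' : ∀ o' : Finset GolayPt, s ⊆ Finset.subtype (fun p => p ∈ d) o' →
        s.map (Function.Embedding.subtype fun p => p ∈ d) ⊆ o' := by
      intro o' ho' p hp
      rw [Finset.mem_map] at hp
      obtain ⟨q, hq, rfl⟩ := hp
      have := ho' hq
      rwa [Finset.mem_subtype] at this
    refine ⟨Finset.subtype (fun p => p ∈ d) o, ⟨⟨o, ho, ?_, rfl⟩, hsub' o hto⟩, ?_⟩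
    · have h5 : 5 ≤ (o ∩ d).card := by
        rw [← hmap]
        exact Finset.card_le_card (Finset.subset_inter hto hsub)
      rcases card_octad_inter_dodecad ho hd with h | h | h <;> omega
    · rintro h' ⟨⟨o', ho', _, rfl⟩, hs'⟩
      have : o' = o := by
        apply octad_eq_of_card_inter ho' ho
        rw [← hmap]
        exact Finset.card_le_card (Finset.subset_inter (hsub'' o' hs') hto)
      rw [this]

end Cfsg.Agent.S0385
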