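import Cfsg.Statements.S0386
import Cfsg.Agent.Lib.Helper7.GolaySteiner

set_option autoImplicit false
open Cfsg

namespace Cfsg.Agent.S0386

open Cfsg.Agent.Lib.Helper7

/-- octads meeting `d` in `k` points -/
noncomputable def T (d : Finset GolayPt) (k : ℕ) : Finset (Finset GolayPt) :=
  (weightFinset 8).filter fun o => (o ∩ d).card = k

theorem mem_T (d : Finset GolayPt) (k : ℕ) (o : Finset GolayPt) :
    o ∈ T d k ↔ o ∈ octads ∧ (o ∩ d).card = k := by
  rw [T, Finset.mem_filter, mem_weightFinset_8]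

theorem coe_T (d : Finset GolayPt) (k : ℕ) :
    {o : Finset GolayPt | o ∈ octads ∧ (o ∩ d).card = k} = ↑(T d k) := by
  ext o
  rw [Finset.mem_coe, mem_T]
  rfl

theorem card_T6 (d : Finset GolayPt) (hd : d ∈ dodecads) : (T d 6).card = 132 := by
  classical
  have key := Finset.sum_card_bipartiteAbove_eq_sum_card_bipartiteBelow
    (s := Finset.powersetCard 5 d) (t := T d 6) (fun (t o : Finset GolayPt) => t ⊆ o)
  have hL : ∀ t ∈ Finset.powersetCard 5 d,
      ((T d 6).bipartiteAbove (fun (t o : Finset GolayPt) => t ⊆ o) t).card = 1 := by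
    intro t ht
    rw [Finset.mem_powersetCard] at ht
    obtain ⟨o, ho, hto⟩ := exists_octad_of_card_eq_five t ht.2
    rw [Finset.card_eq_one]
    refine ⟨o, ?_⟩
    ext o'
    rw [Finset.bipartiteAbove, Finset.mem_filter, Finset.mem_singleton, mem_T]
    constructor
    · rintro ⟨⟨ho', _⟩, hto'⟩
      apply octad_eq_of_card_inter ho' ho
      rw [← ht.2]
      exact Finset.card_le_card (Finset.subset_inter hto' hto)
    · rintro rfl
      refine ⟨⟨ho, ?_⟩, hto⟩
      have h5 : 5 ≤ (o' ∩ d).card := by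
        rw [← ht.2]
        exact Finset.card_le_card (Finset.subset_inter hto ht.1)
      rcases card_octad_inter_dodecad ho hd with h | h | h <;> omega
  have hR : ∀ o ∈ T d 6,
      ((Finset.powersetCard 5 d).bipartiteBelow (fun (t o : Finset GolayPt) => t ⊆ o) o).card = 6 := by
    intro o ho
    rw [mem_T] at ho
    have : (Finset.powersetCard 5 d).bipartiteBelow (fun (t o : Finset GolayPt) => t ⊆ o) o =
        Finset.powersetCard 5 (o ∩ d) := by
      ext t
      rw [Finset.bipartiteBelow, Finset.mem_filter, Finset.mem_powersetCard,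
        Finset.mem_powersetCard, Finset.subset_inter_iff]
      tauto
    rw [this, Finset.card_powersetCard, ho.2]
    norm_num [Nat.choose]
  rw [Finset.sum_congr rfl hL, Finset.sum_congr rfl hR, Finset.sum_const, Finset.sum_const,
    Finset.card_powersetCard, hd.2, smul_eq_mul, smul_eq_mul] at key
  have h792 : Nat.choose 12 5 = 792 := by norm_num [Nat.choose]
  rw [h792] at key
  omega

theorem compl_mem_dodecads {d : Finset GolayPt} (hd : d ∈ dodecads) : dᶜ ∈ dodecads := by
  obtain ⟨⟨w, hw, rfl⟩, hcard⟩ := hd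
  refine ⟨⟨w + 1, Submodule.add_mem _ hw one_mem_golayCode, support₂_add_one w⟩, ?_⟩
  rw [Finset.card_compl, hcard, card_golayPt']

theorem card_inter_compl {o d : Finset GolayPt} (ho : o ∈ octads) :
    (o ∩ d).card + (o ∩ dᶜ).card = 8 := by
  rw [← ho.2, ← Finset.sdiff_eq_inter_compl]
  exact Finset.card_inter_add_card_sdiff o d

theorem T2_eq (d : Finset GolayPt) : T d 2 = T dᶜ 6 := by
  ext o
  rw [mem_T, mem_T]
  constructor
  · rintro ⟨ho, h⟩
    exact ⟨ho, by have := card_inter_compl (d := d) ho; omega⟩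
  · rintro ⟨ho, h⟩
    exact ⟨ho, by have := card_inter_compl (d := d) ho; omega⟩

theorem card_T_sum (d : Finset GolayPt) (hd : d ∈ dodecads) :
    (T d 2).card + (T d 4).card + (T d 6).card = 759 := by
  classical
  have h := Finset.card_eq_sum_card_fiberwise (s := weightFinset 8) (t := ({2, 4, 6} : Finset ℕ))
    (f := fun o => (o ∩ d).card) (by
      intro o ho
      have ho' := (mem_weightFinset_8 o).1 ho
      simp only [Finset.coe_insert, Finset.coe_singleton, Set.mem_insert_iff, Set.mem_singleton_iff]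
      exact card_octad_inter_dodecad ho' hd)
  rw [card_octadFinset] at h
  rw [h]
  simp [T, add_assoc]

/-- For a fixed dodecad, 132 octads meet it in 6 points, 132 in 2 points and 495 in 4 points. -/
theorem result (d : Finset Cfsg.GolayPt) (hd : d ∈ Cfsg.dodecads) : {o : Finset Cfsg.GolayPt | o ∈ Cfsg.octads ∧ (o ∩ d).card = 6}.ncard = 132 ∧ {o : Finset Cfsg.GolayPt | o ∈ Cfsg.octads ∧ (o ∩ d).card = 2}.ncard = 132 ∧ {o : Finset Cfsg.GolayPt | o ∈ Cfsg.octads ∧ (o ∩ d).card = 4}.ncard = 495 := by
  have h6 := card_T6 d hd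
  have h2 : (T d 2).card = 132 := by rw [T2_eq, card_T6 _ (compl_mem_dodecads hd)]
  have hs := card_T_sum d hd
  rw [coe_T, coe_T, coe_T, Set.ncard_coe_finset, Set.ncard_coe_finset, Set.ncard_coe_finset]
  refine ⟨h6, h2, by omega⟩

end Cfsg.Agent.S0386
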