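import Cfsg.Statements.S0389
import Cfsg.Agent.Lib.Helper7.M12Trans

set_option autoImplicit false
open Cfsg
open scoped Pointwise

namespace Cfsg.Agent.S0389

open Cfsg.Agent.Lib.Helper7

/-- The stabiliser of a dodecad and a point on it is 3-transitive on the complementary dodecad. -/
theorem result (d : Finset Cfsg.GolayPt) (hd : d ∈ Cfsg.dodecads) (p : Cfsg.GolayPt) (hp : p ∈ d) (x y : Fin 3 ↪ Cfsg.GolayPt) (hx : ∀ i, x i ∉ d) (hy : ∀ i, y i ∉ d) : ∃ g ∈ MulAction.stabilizer Cfsg.M24 d ⊓ MulAction.stabilizer Cfsg.M24 p, ∀ i, (g : Equiv.Perm Cfsg.GolayPt) (x i) = y i := by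
  obtain ⟨g0, hg0, h1, h2⟩ := exists_transport d hd p hp
  -- pull the tuples back to the base configuration
  have pull : ∀ z : Fin 3 ↪ GolayPt, (∀ i, z i ∉ d) →
      ∃ σ ∈ fixIn (stabD baseDod) [0], ∀ i : Fin 3,
        g0 (σ (pt (([1, 5, 12] : List ℕ).getD i 0))) = z i := by
    intro z hz
    obtain ⟨σ, hσ, h3⟩ := m11_three_trans
      (fun i => if h : i < 3 then g0⁻¹ (z ⟨i, h⟩) else pt 0)
      (by
        intro i hi
        simp only [hi, dite_true]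
        rw [finOf_xor_all, Finset.mem_compl]
        intro hmem
        apply hz ⟨i, hi⟩
        rw [← h1]
        have : g0 (g0⁻¹ (z ⟨i, hi⟩)) ∈ g0 • finOf baseDod := Finset.smul_mem_smul_finset hmem
        simpa using this)
      (by
        intro i hi j hj hij
        simp only [hi, hj, dite_true] at hij
        have := z.injective (g0⁻¹.injective hij)
        simpa using congrArg Fin.val this)
    refine ⟨σ, hσ, fun i => ?_⟩
    have := h3 i.1 i.2
    simp only [i.2, dite_true] at this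
    rw [this]
    simp
  obtain ⟨σx, hσx, hx'⟩ := pull x hx
  obtain ⟨σy, hσy, hy'⟩ := pull y hy
  have hk : σy * σx⁻¹ ∈ fixIn (stabD baseDod) [0] := Subgroup.mul_mem _ hσy (Subgroup.inv_mem _ hσx)
  rw [mem_fixIn, mem_stabD] at hk
  obtain ⟨⟨hkM, hkd⟩, hk0⟩ := hk
  have hmem : g0 * (σy * σx⁻¹) * g0⁻¹ ∈ M24 := M24.mul_mem (M24.mul_mem hg0 hkM) (M24.inv_mem hg0)
  refine ⟨⟨g0 * (σy * σx⁻¹) * g0⁻¹, hmem⟩, ⟨?_, ?_⟩, ?_⟩
  · show (⟨g0 * (σy * σx⁻¹) * g0⁻¹, hmem⟩ : M24) ∈ MulAction.stabilizer M24 d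
    rw [MulAction.mem_stabilizer_iff, Subgroup.smul_def]
    show (g0 * (σy * σx⁻¹) * g0⁻¹) • d = d
    rw [mul_smul, mul_smul, ← h1, inv_smul_smul, hkd]
  · show (⟨g0 * (σy * σx⁻¹) * g0⁻¹, hmem⟩ : M24) ∈ MulAction.stabilizer M24 p
    rw [MulAction.mem_stabilizer_iff, Subgroup.smul_def]
    show (g0 * (σy * σx⁻¹) * g0⁻¹) p = p
    rw [Equiv.Perm.mul_apply, Equiv.Perm.mul_apply, ← h2]
    have : g0⁻¹ (g0 (pt 0)) = pt 0 := by simp
    rw [this, hk0 0 List.mem_cons_self]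
  · intro i
    show (g0 * (σy * σx⁻¹) * g0⁻¹) (x i) = y i
    rw [← hx' i, ← hy' i]
    simp

end Cfsg.Agent.S0389
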