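import Cfsg.Statements.S0403
import Cfsg.Agent.Lib.Helper27.Co3Simple
import Cfsg.Agent.Lib.Helper26.HSRank3
import Cfsg.Agent.S1640

set_option autoImplicit false
open Cfsg

namespace Cfsg.Agent.S0403

/-- Stabiliser of a vector of sum of squares 48 is simple of order 495766656000. -/
theorem result (v : Cfsg.leechLattice) (hv : Cfsg.sqNorm (v : Cfsg.GolayPt → ℤ) = 48) : Cfsg.IsCo3 (MulAction.stabilizer Cfsg.Co0 v) := by
  exact Cfsg.Agent.Lib.Helper27.Co3S.isCo3
    (fun a b ha hb hab => Cfsg.Agent.Lib.Conway.HS.isHS_of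
      (fun u hu => (Cfsg.Agent.S1640.result u hu).2) Cfsg.Agent.Lib.Helper26.HSD.h83
      Cfsg.Agent.Lib.Helper26.HSD.h84 a b ha hb hab) v hv

end Cfsg.Agent.S0403
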