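import Cfsg.Statements.S0407
import Cfsg.Agent.Lib.Helper7.SteinerUniq
import Cfsg.Agent.Lib.Helper7.Steiner5824Cert

set_option autoImplicit false
open Cfsg

namespace Cfsg.Agent.S0407

open Cfsg.Agent.Lib.Helper7

theorem good : Good 16777215 5 8 (derivedSys 16777215 0 8) [] :=
  good_of_check 16777215 16777215 0 8 0 5 8 s5824B0l s5824Tree (by decide) (by norm_num)
    hw_full (by decide) (by norm_num) (by decide) (by norm_num) (by norm_num) (by norm_num)
    (by decide +kernel) s5824_check

/-- Uniqueness of the Steiner system S(5, 8, 24) up to isomorphism. -/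
theorem result {α β : Type*} [Fintype α] [DecidableEq α] [Fintype β] [DecidableEq β] (hα : Fintype.card α = 24) (hβ : Fintype.card β = 24) {B : Set (Finset α)} {B' : Set (Finset β)} (hB : Cfsg.IsSteinerSystem 5 8 B) (hB' : Cfsg.IsSteinerSystem 5 8 B') : Cfsg.SetSystemIso B B' := by
  have hp : popc 16777215 = 24 := by decide
  exact setSystemIso_of_good good (by rw [hα, hp]) (by rw [hβ, hp]) hB hB'

end Cfsg.Agent.S0407
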