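import Cfsg.Statements.S0409
import Cfsg.Agent.Lib.Helper7.SteinerUniq
import Cfsg.Agent.Lib.Helper7.Steiner4723Cert

set_option autoImplicit false
open Cfsg

namespace Cfsg.Agent.S0409

open Cfsg.Agent.Lib.Helper7

theorem good : Good 8388607 4 7 (derivedSys 16777215 8388608 8) [] :=
  good_of_check 8388607 16777215 8388608 8 1 4 7 s4723B0l s4723Tree (by decide) (by norm_num)
    hw_full (by decide) (by norm_num) (by decide) (by norm_num) (by norm_num) (by norm_num)
    (by decide +kernel) s4723_check

/-- Uniqueness of the Steiner system S(4, 7, 23) up to isomorphism. -/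
theorem result {α β : Type*} [Fintype α] [DecidableEq α] [Fintype β] [DecidableEq β] (hα : Fintype.card α = 23) (hβ : Fintype.card β = 23) {B : Set (Finset α)} {B' : Set (Finset β)} (hB : Cfsg.IsSteinerSystem 4 7 B) (hB' : Cfsg.IsSteinerSystem 4 7 B') : Cfsg.SetSystemIso B B' := by
  have hp : popc 8388607 = 23 := by decide
  exact setSystemIso_of_good good (by rw [hα, hp]) (by rw [hβ, hp]) hB hB'

end Cfsg.Agent.S0409
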