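import Cfsg.Statements.S0410
import Cfsg.Agent.Lib.Helper7.SteinerUniq
import Cfsg.Agent.Lib.Helper7.Steiner3622Cert

set_option autoImplicit false
open Cfsg

namespace Cfsg.Agent.S0410

open Cfsg.Agent.Lib.Helper7

theorem good : Good 4194303 3 6 (derivedSys 16777215 12582912 8) [] :=
  good_of_check 4194303 16777215 12582912 8 2 3 6 s3622B0l s3622Tree (by decide) (by norm_num)
    hw_full (by decide) (by norm_num) (by decide) (by norm_num) (by norm_num) (by norm_num)
    (by decide +kernel) s3622_check

/-- Uniqueness of the Steiner system S(3, 6, 22) up to isomorphism. -/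
theorem result {α β : Type*} [Fintype α] [DecidableEq α] [Fintype β] [DecidableEq β] (hα : Fintype.card α = 22) (hβ : Fintype.card β = 22) {B : Set (Finset α)} {B' : Set (Finset β)} (hB : Cfsg.IsSteinerSystem 3 6 B) (hB' : Cfsg.IsSteinerSystem 3 6 B') : Cfsg.SetSystemIso B B' := by
  have hp : popc 4194303 = 22 := by decide
  exact setSystemIso_of_good good (by rw [hα, hp]) (by rw [hβ, hp]) hB hB'

end Cfsg.Agent.S0410
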