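import Cfsg.Statements.S0412
import Cfsg.Agent.S0407
import Cfsg.Agent.S0365
import Cfsg.Agent.S0366
import Cfsg.Agent.Lib.Helper7.AutTransport
import Cfsg.Agent.Lib.Helper7.AutOctads
import Cfsg.Agent.Lib.Helper7.M24Order

set_option autoImplicit false
open Cfsg

namespace Cfsg.Agent.S0412

open Cfsg.Agent.Lib.Helper7

/-- Aut of an S(5, 8, 24) is simple of order 244823040 and 5-transitive on points. -/
theorem result {α : Type*} [Fintype α] [DecidableEq α] (hα : Fintype.card α = 24) {B : Set (Finset α)} (hB : Cfsg.IsSteinerSystem 5 8 B) : Cfsg.IsM24 (Cfsg.setSystemAut B) ∧ MulAction.IsMultiplyPretransitive (Cfsg.setSystemAut B) α 5 := by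
  have hp : popc 16777215 = 24 := by decide
  obtain ⟨e, he⟩ : SetSystemIso B octads :=
    setSystemIso_of_good Cfsg.Agent.S0407.good (by rw [hα, hp]) (by rw [card_golayPt', hp]) hB
      isSteinerSystem_octads
  let φ : setSystemAut B ≃* M24 :=
    (autEquiv e he).trans (MulEquiv.subgroupCongr setSystemAut_octads)
  have hsimple : IsSimpleGroup M24 := Cfsg.Agent.S0365.result
  refine ⟨⟨φ.isSimpleGroup, ?_⟩, ?_⟩
  · rw [Nat.card_congr φ.toEquiv]
    exact card_M24
  · apply isMultiplyPretransitive_of_iso e he 5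
    rw [setSystemAut_octads]
    exact Cfsg.Agent.S0366.result

end Cfsg.Agent.S0412
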