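import Cfsg.Statements.S0413
import Cfsg.Agent.S0409
import Cfsg.Agent.S0366
import Cfsg.Agent.S0376
import Cfsg.Agent.S0377
import Cfsg.Agent.Lib.Helper7.W23Aut

set_option autoImplicit false
open Cfsg

namespace Cfsg.Agent.S0413

open Cfsg.Agent.Lib.Helper7

/-- Aut of an S(4, 7, 23) is simple of order 10200960 and 4-transitive. -/
theorem result {α : Type*} [Fintype α] [DecidableEq α] (hα : Fintype.card α = 23) {B : Set (Finset α)} (hB : Cfsg.IsSteinerSystem 4 7 B) : Cfsg.IsM23 (Cfsg.setSystemAut B) ∧ MulAction.IsMultiplyPretransitive (Cfsg.setSystemAut B) α 4 := by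
  have hp : popc 8388607 = 23 := by decide
  obtain ⟨e, he⟩ : SetSystemIso B W23 :=
    setSystemIso_of_good Cfsg.Agent.S0409.good (by rw [hα, hp]) (by rw [ZMod.card, hp]) hB
      isSteinerSystem_W23
  let φ : setSystemAut B ≃* MulAction.stabilizer M24 (none : GolayPt) :=
    (autEquiv e he).trans w23Equiv
  have hsimple : IsSimpleGroup (MulAction.stabilizer M24 (none : GolayPt)) :=
    Cfsg.Agent.S0377.result none
  refine ⟨⟨φ.isSimpleGroup, ?_⟩, ?_⟩
  · rw [Nat.card_congr φ.toEquiv]
    exact Cfsg.Agent.S0376.result none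
  · exact isMultiplyPretransitive_of_iso e he 4 (w23_four_trans Cfsg.Agent.S0366.result)

end Cfsg.Agent.S0413
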