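import Cfsg.Statements.S0414
import Cfsg.Agent.S0410
import Cfsg.Agent.S0366
import Cfsg.Agent.S0378
import Cfsg.Agent.S0379
import Cfsg.Agent.Lib.Helper7.W22Aut

set_option autoImplicit false
open Cfsg

namespace Cfsg.Agent.S0414

open Cfsg.Agent.Lib.Helper7

/-- Aut of an S(3, 6, 22) has order 887040, is 3-transitive, and contains a simple subgroup of index 2. -/
theorem result {α : Type*} [Fintype α] [DecidableEq α] (hα : Fintype.card α = 22) {B : Set (Finset α)} (hB : Cfsg.IsSteinerSystem 3 6 B) : Nat.card (Cfsg.setSystemAut B) = 887040 ∧ MulAction.IsMultiplyPretransitive (Cfsg.setSystemAut B) α 3 ∧ ∃ H : Subgroup (Cfsg.setSystemAut B), H.index = 2 ∧ Cfsg.IsM22 H := by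
  have hp : popc 4194303 = 22 := by decide
  obtain ⟨e, he⟩ : SetSystemIso B W22 :=
    setSystemIso_of_good Cfsg.Agent.S0410.good (by rw [hα, hp]) (by rw [card_Pt22, hp]) hB
      isSteinerSystem_W22
  have hne : (none : GolayPt) ≠ some 22 := by simp
  have hcard : Nat.card stab2 = 443520 := Cfsg.Agent.S0378.result none (some 22) hne
  have hsimple : IsSimpleGroup stab2 := Cfsg.Agent.S0379.result none (some 22) hne
  refine ⟨?_, ?_, ?_⟩
  · rw [Nat.card_congr (autEquiv e he).toEquiv]
    exact card_aut_W22 extProp hcard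
  · exact isMultiplyPretransitive_of_iso e he 3 (w22_three_trans Cfsg.Agent.S0366.result)
  · refine ⟨autPlus.map (autEquiv e he).symm.toMonoidHom, ?_, ?_⟩
    · have h1 := Subgroup.index_map_equiv autPlus (autEquiv e he).symm
      rw [index_autPlus extProp] at h1
      exact h1
    · let ψ : ↥(autPlus.map (autEquiv e he).symm.toMonoidHom) ≃* stab2 :=
        (((autEquiv e he).symm.subgroupMap autPlus).symm).trans autPlusEquiv
      refine ⟨ψ.isSimpleGroup, ?_⟩
      rw [Nat.card_congr ψ.toEquiv]
      exact hcard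

end Cfsg.Agent.S0414
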