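import Cfsg.Statements.S0415
import Cfsg.Agent.S0708
import Mathlib

set_option autoImplicit false
set_option linter.unusedVariables false
open Cfsg

namespace Cfsg.Agent.S0415

open MulAction
open Cfsg.Agent.S0708 (D4 mk4 exists_map eq_one_of_fix)

section
variable {G : Type*} [Group G] {Ω : Type*} [MulAction G Ω]

/-- Fixed point congruence for an element with `g ^ p = 1`. -/
theorem card_modEq_fix [Finite Ω] (p : ℕ) [Fact p.Prime] (g : G) (hg : g ^ p = 1) :
    Nat.card Ω ≡ Nat.card {ω : Ω | g • ω = ω} [MOD p] := by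
  have hP : IsPGroup p (Subgroup.zpowers g) := by
    rintro ⟨h, hh⟩
    obtain ⟨i, rfl⟩ := Subgroup.mem_zpowers_iff.mp hh
    refine ⟨1, ?_⟩
    apply Subtype.ext
    simp only [pow_one, Subgroup.coe_pow, Subgroup.coe_one]
    rw [← zpow_natCast, ← zpow_mul, mul_comm, zpow_mul, zpow_natCast, hg, one_zpow]
  have h := hP.card_modEq_card_fixedPoints Ω
  have e : (MulAction.fixedPoints (Subgroup.zpowers g) Ω) = {ω : Ω | g • ω = ω} := by
    ext ω
    simp only [MulAction.mem_fixedPoints, Set.mem_ofPred_eq]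
    constructor
    · intro h; exact h ⟨g, Subgroup.mem_zpowers g⟩
    · rintro h ⟨x, hx⟩
      obtain ⟨i, rfl⟩ := Subgroup.mem_zpowers_iff.mp hx
      change g ^ i • ω = ω
      exact MulAction.mem_stabilizer_iff.mp
        (Subgroup.zpow_mem _ (MulAction.mem_stabilizer_iff.mpr h) i)
  rw [e] at h
  exact h

/-- Two elements agreeing on four distinct points are equal. -/
theorem eq_of_agree (hsharp : ∀ x : Fin 4 ↪ Ω, MulAction.stabilizer G x = ⊥)
    {p0 p1 p2 p3 : Ω} (hp : D4 p0 p1 p2 p3) (g h : G)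
    (h0 : g • p0 = h • p0) (h1 : g • p1 = h • p1) (h2 : g • p2 = h • p2)
    (h3 : g • p3 = h • p3) : g = h := by
  have : h⁻¹ * g = 1 := by
    apply eq_one_of_fix hsharp hp
    · rw [mul_smul, inv_smul_eq_iff, h0]
    · rw [mul_smul, inv_smul_eq_iff, h1]
    · rw [mul_smul, inv_smul_eq_iff, h2]
    · rw [mul_smul, inv_smul_eq_iff, h3]
  have := congrArg (h * ·) this
  simpa using this

/-- Uniqueness of the involution fixing three given points. -/
theorem invol_unique (h4 : IsMultiplyPretransitive G Ω 4)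
    (hsharp : ∀ x : Fin 4 ↪ Ω, MulAction.stabilizer G x = ⊥)
    {a1 a2 a3 d0 : Ω} (hD : D4 a1 a2 a3 d0) (κ κ' : G)
    (hκ : κ * κ = 1) (hκ' : κ' * κ' = 1) (hκ1 : κ ≠ 1) (hκ'1 : κ' ≠ 1)
    (f1 : κ • a1 = a1) (f2 : κ • a2 = a2) (f3 : κ • a3 = a3)
    (f1' : κ' • a1 = a1) (f2' : κ' • a2 = a2) (f3' : κ' • a3 = a3) : κ = κ' := by
  obtain ⟨h12, h13, h1d, h23, h2d, h3d⟩ := id hD
  have inv : ∀ ω : Ω, κ • κ • ω = ω := fun ω => by rw [← mul_smul, hκ, one_smul]
  have inv' : ∀ ω : Ω, κ' • κ' • ω = ω := fun ω => by rw [← mul_smul, hκ', one_smul]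
  -- fixed points are exactly a1 a2 a3
  have fixκ : ∀ (τ : G), τ ≠ 1 → τ • a1 = a1 → τ • a2 = a2 → τ • a3 = a3 → ∀ ω : Ω, τ • ω = ω →
      ω = a1 ∨ ω = a2 ∨ ω = a3 := by
    intro τ hτ g1 g2 g3 ω hω
    by_contra hcon
    simp only [not_or] at hcon
    obtain ⟨c1, c2, c3⟩ := hcon
    exact hτ (eq_one_of_fix hsharp (p0 := a1) (p1 := a2) (p2 := a3) (p3 := ω)
      ⟨h12, h13, Ne.symm c1, h23, Ne.symm c2, Ne.symm c3⟩ τ g1 g2 g3 hω)
  have key : ∀ δ : Ω, δ ≠ a1 → δ ≠ a2 → δ ≠ a3 → κ • δ = κ' • δ := by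
    intro δ d1 d2 d3
    by_contra hne
    -- ε = κ δ, ε' = κ' δ
    have e1 : κ • δ ≠ a1 := fun h => d1 (by rw [← inv δ, h, f1])
    have e2 : κ • δ ≠ a2 := fun h => d2 (by rw [← inv δ, h, f2])
    have e1' : κ' • δ ≠ a1 := fun h => d1 (by rw [← inv' δ, h, f1'])
    have e2' : κ' • δ ≠ a2 := fun h => d2 (by rw [← inv' δ, h, f2'])
    have ed : κ • δ ≠ δ := by
      intro h
      rcases fixκ κ hκ1 f1 f2 f3 δ h with h | h | h
      · exact d1 h
      · exact d2 h
      · exact d3 h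
    have ed' : κ' • δ ≠ δ := by
      intro h
      rcases fixκ κ' hκ'1 f1' f2' f3' δ h with h | h | h
      · exact d1 h
      · exact d2 h
      · exact d3 h
    have hD1 : D4 a1 a2 δ (κ • δ) := ⟨h12, Ne.symm d1, Ne.symm e1, Ne.symm d2, Ne.symm e2, Ne.symm ed⟩
    have hD2 : D4 a1 a2 δ (κ' • δ) :=
      ⟨h12, Ne.symm d1, Ne.symm e1', Ne.symm d2, Ne.symm e2', Ne.symm ed'⟩
    obtain ⟨g, g1, g2, gd, ge⟩ := exists_map h4 hD1 hD2
    have hconj : g * κ * g⁻¹ = κ' := by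
      apply eq_of_agree hsharp hD2
      · rw [mul_smul, mul_smul, f1', inv_smul_eq_iff.mpr g1.symm, f1, g1]
      · rw [mul_smul, mul_smul, f2', inv_smul_eq_iff.mpr g2.symm, f2, g2]
      · rw [mul_smul, mul_smul, inv_smul_eq_iff.mpr gd.symm, ge]
      · rw [mul_smul, mul_smul, inv_smul_eq_iff.mpr ge.symm, inv, gd, inv']
    have hg3 : κ' • (g • a3) = g • a3 := by
      rw [← hconj, mul_smul, mul_smul, inv_smul_smul, f3]
    have hga3 : g • a3 = a3 := by
      rcases fixκ κ' hκ'1 f1' f2' f3' _ hg3 with h | h | h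
      · exfalso
        rw [← g1] at h
        exact h13 (MulAction.injective g h).symm
      · exfalso
        rw [← g2] at h
        exact h23 (MulAction.injective g h).symm
      · exact h
    have hg1 : g = 1 := eq_one_of_fix hsharp (p0 := a1) (p1 := a2) (p2 := a3) (p3 := δ)
      ⟨h12, h13, Ne.symm d1, h23, Ne.symm d2, Ne.symm d3⟩ g g1 g2 hga3 gd
    rw [hg1, one_smul] at ge
    exact hne ge
  apply eq_of_agree hsharp hD
  · rw [f1, f1']
  · rw [f2, f2']
  · rw [f3, f3']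
  · exact key d0 (Ne.symm h1d) (Ne.symm h2d) (Ne.symm h3d)

/-- A finite set described by a list. -/
theorem ncard_fix_two [Finite Ω] (s : G) (b c : Ω) (hbc : b ≠ c) (hb : s • b = b) (hc : s • c = c)
    (h : ∀ ω : Ω, s • ω = ω → ω = b ∨ ω = c) : Nat.card {ω : Ω | s • ω = ω} = 2 := by
  have : {ω : Ω | s • ω = ω} = {b, c} := by
    ext ω
    simp only [Set.mem_ofPred_eq, Set.mem_insert_iff, Set.mem_singleton_iff]
    constructor
    · exact h ω
    · rintro (rfl | rfl) <;> assumption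
  rw [this, Nat.card_coe_set_eq]
  exact Set.ncard_eq_two.mpr ⟨b, c, hbc, rfl⟩

/-- In odd degree, the degree is `2` modulo `3`. -/
theorem odd_mod3 [Finite Ω] (h4 : IsMultiplyPretransitive G Ω 4)
    (hsharp : ∀ x : Fin 4 ↪ Ω, MulAction.stabilizer G x = ⊥)
    (hne : Nonempty (Fin 4 ↪ Ω)) (hodd : Odd (Nat.card Ω)) : Nat.card Ω % 3 = 2 := by
  classical
  obtain ⟨x0⟩ := hne
  obtain ⟨a1, a2, b4, b5, hD⟩ : ∃ a0 a1 a2 a3 : Ω, D4 a0 a1 a2 a3 :=
    ⟨x0 0, x0 1, x0 2, x0 3, x0.injective.ne (by decide), x0.injective.ne (by decide),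
      x0.injective.ne (by decide), x0.injective.ne (by decide), x0.injective.ne (by decide),
      x0.injective.ne (by decide)⟩
  obtain ⟨h12, h14, h15, h24, h25, h45⟩ := id hD
  have hD' : D4 a1 a2 b5 b4 := ⟨h12, h15, h14, h25, h24, Ne.symm h45⟩
  obtain ⟨κ, k1, k2, k4, k5⟩ := exists_map h4 hD hD'
  have hκ : κ * κ = 1 := eq_one_of_fix hsharp hD (κ * κ)
    (by rw [mul_smul, k1, k1]) (by rw [mul_smul, k2, k2])
    (by rw [mul_smul, k4, k5]) (by rw [mul_smul, k5, k4])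
  have hκ1 : κ ≠ 1 := by
    intro h
    rw [h, one_smul] at k4
    exact h45 k4
  have inv : ∀ ω : Ω, κ • κ • ω = ω := fun ω => by rw [← mul_smul, hκ, one_smul]
  have : Fact (Nat.Prime 2) := ⟨Nat.prime_two⟩
  have : Fact (Nat.Prime 3) := ⟨Nat.prime_three⟩
  -- a third fixed point of κ
  obtain ⟨a3, k3, h13, h23⟩ : ∃ a3 : Ω, κ • a3 = a3 ∧ a1 ≠ a3 ∧ a2 ≠ a3 := by
    by_contra hcon
    push Not at hcon
    have hmod := card_modEq_fix (Ω := Ω) 2 κ (by rw [pow_two, hκ])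
    have h2 : Nat.card {ω : Ω | κ • ω = ω} = 2 := by
      apply ncard_fix_two κ a1 a2 h12 k1 k2
      intro ω hω
      by_contra hc
      rw [not_or] at hc
      exact hc.2 (hcon ω hω (Ne.symm hc.1)).symm
    rw [h2] at hmod
    have : Nat.card Ω % 2 = 0 := hmod
    rcases hodd with ⟨r, hr⟩
    omega
  have h34 : a3 ≠ b4 := by
    intro h
    rw [h, k4] at k3
    exact h45 k3.symm
  have h35 : a3 ≠ b5 := by
    intro h
    rw [h, k5] at k3
    exact h45 k3
  have hDa : D4 a1 a2 a3 b4 := ⟨h12, h13, h14, h23, h24, h34⟩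
  have hDs : D4 a2 a3 a1 b4 := ⟨h23, Ne.symm h12, h24, Ne.symm h13, h34, h14⟩
  obtain ⟨s, s1, s2, s3, s4⟩ := exists_map h4 hDa hDs
  have hs3 : s ^ 3 = 1 := by
    apply eq_one_of_fix hsharp hDa
    · rw [pow_succ, pow_two, mul_smul, mul_smul, s1, s2, s3]
    · rw [pow_succ, pow_two, mul_smul, mul_smul, s2, s3, s1]
    · rw [pow_succ, pow_two, mul_smul, mul_smul, s3, s1, s2]
    · rw [pow_succ, pow_two, mul_smul, mul_smul, s4, s4, s4]
  have hs1 : s ≠ 1 := by
    intro h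
    rw [h, one_smul] at s1
    exact h12 s1
  -- conjugate involution
  have hconj : s * κ * s⁻¹ = κ := by
    apply invol_unique h4 hsharp hDa (s * κ * s⁻¹) κ _ hκ _ hκ1 _ _ _ k1 k2 k3
    · calc s * κ * s⁻¹ * (s * κ * s⁻¹) = s * (κ * κ) * s⁻¹ := by group
        _ = 1 := by rw [hκ]; group
    · intro h
      apply hκ1
      have := congrArg (fun z => s⁻¹ * z * s) h
      simp only [mul_one, inv_mul_cancel] at this
      rw [← this]; group
    · rw [mul_smul, mul_smul, inv_smul_eq_iff.mpr s3.symm, k3, s3]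
    · rw [mul_smul, mul_smul, inv_smul_eq_iff.mpr s1.symm, k1, s1]
    · rw [mul_smul, mul_smul, inv_smul_eq_iff.mpr s2.symm, k2, s2]
  have hcomm : s * κ = κ * s := by
    calc s * κ = (s * κ * s⁻¹) * s := by group
      _ = κ * s := by rw [hconj]
  have fixκ : ∀ ω : Ω, κ • ω = ω → ω = a1 ∨ ω = a2 ∨ ω = a3 := by
    intro ω hω
    by_contra hcon
    simp only [not_or] at hcon
    obtain ⟨c1, c2, c3⟩ := hcon
    exact hκ1 (eq_one_of_fix hsharp (p0 := a1) (p1 := a2) (p2 := a3) (p3 := ω)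
      ⟨h12, h13, Ne.symm c1, h23, Ne.symm c2, Ne.symm c3⟩ κ k1 k2 k3 hω)
  have sfix : ∀ ω : Ω, s • ω = ω → s • (κ • ω) = κ • ω := by
    intro ω hω
    rw [← mul_smul, hcomm, mul_smul, hω]
  have smove : ∀ ω : Ω, s • ω = ω → κ • ω ≠ ω := by
    intro ω hω h
    rcases fixκ ω h with h | h | h
    · rw [h, s1] at hω; exact h12 hω.symm
    · rw [h, s2] at hω; exact h23 hω.symm
    · rw [h, s3] at hω; exact h13 hω
  have hfs : Nat.card {ω : Ω | s • ω = ω} = 2 := by
    apply ncard_fix_two s b4 (κ • b4) (Ne.symm (smove b4 s4)) s4 (sfix b4 s4)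
    intro ω hω
    by_contra hc
    rw [not_or] at hc
    obtain ⟨c1, c2⟩ := hc
    apply hs1
    have hDf : D4 b4 (κ • b4) ω (κ • ω) := by
      refine ⟨Ne.symm (smove b4 s4), Ne.symm c1, ?_, Ne.symm c2, ?_, Ne.symm (smove ω hω)⟩
      · intro h
        apply c2
        rw [h, inv]
      · intro h
        exact c1 (MulAction.injective κ h).symm
    exact eq_one_of_fix hsharp hDf s s4 (sfix b4 s4) hω (sfix ω hω)
  have hmod := card_modEq_fix (Ω := Ω) 3 s hs3
  rw [hfs] at hmod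
  exact hmod

/-- Jordan: the degree of a sharply 4-transitive group is 4, 5, 6 or 11. -/
theorem jordan4 [Finite Ω] (h4 : IsMultiplyPretransitive G Ω 4)
    (hsharp : ∀ x : Fin 4 ↪ Ω, MulAction.stabilizer G x = ⊥)
    (hn : 4 ≤ Nat.card Ω) :
    Nat.card Ω = 4 ∨ Nat.card Ω = 5 ∨ Nat.card Ω = 6 ∨ Nat.card Ω = 11 := by
  have hne : Nonempty (Fin 4 ↪ Ω) := by
    have := Fintype.ofFinite Ω
    apply Function.Embedding.nonempty_of_card_le
    rw [Fintype.card_fin, ← Nat.card_eq_fintype_card]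
    exact hn
  obtain ⟨_, h11, heven⟩ := Cfsg.Agent.S0708.result h4 hsharp hne
  rcases Nat.even_or_odd (Nat.card Ω) with he | ho
  · have h6 := heven he
    rcases he with ⟨r, hr⟩
    omega
  · have h3 := odd_mod3 h4 hsharp hne ho
    rcases ho with ⟨r, hr⟩
    omega

end

theorem result {α : Type*} [Fintype α] [DecidableEq α] (G : Subgroup (Equiv.Perm α)) (h4 : 4 ≤ Fintype.card α) [MulAction.IsMultiplyPretransitive G α 4] (hsharp : ∀ x : Fin 4 ↪ α, MulAction.stabilizer G x = ⊥) : Fintype.card α = 4 ∨ Fintype.card α = 5 ∨ Fintype.card α = 6 ∨ Fintype.card α = 11 := by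
  have := jordan4 (G := G) (Ω := α) inferInstance hsharp (by rw [Nat.card_eq_fintype_card]; exact h4)
  rw [Nat.card_eq_fintype_card] at this
  exact this

end Cfsg.Agent.S0415
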