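import Cfsg.Statements.S0416
import Cfsg.Agent.S0415
import Mathlib

set_option autoImplicit false
set_option linter.unusedVariables false
open Cfsg

namespace Cfsg.Agent.S0416

open MulAction

universe u v

/-- Sharp `k`-transitivity of an action. -/
def Sharp (G : Type*) [Group G] (Ω : Type*) [MulAction G Ω] (k : ℕ) : Prop :=
  IsMultiplyPretransitive G Ω k ∧ ∀ x : Fin k ↪ Ω, MulAction.stabilizer G x = ⊥

section
variable {G : Type*} [Group G] {Ω : Type*} [MulAction G Ω]

/-- The point stabilizer of a sharply `(k+1)`-transitive action is sharply `k`-transitive. -/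
theorem sharp_desc [Finite Ω] {k : ℕ} (h : Sharp G Ω (k + 1)) (hn : k + 1 ≤ Nat.card Ω) (a : Ω) :
    Sharp (stabilizer G a) (SubMulAction.ofStabilizer G a) k := by
  obtain ⟨htr, hsh⟩ := h
  have h1 : IsMultiplyPretransitive G Ω 1 :=
    isMultiplyPretransitive_of_le (n := k + 1) (by omega) hn
  have hpt : IsPretransitive G Ω := is_one_pretransitive_iff.mp h1
  refine ⟨SubMulAction.ofStabilizer.isMultiplyPretransitive.mp htr, ?_⟩
  intro y
  rw [eq_bot_iff]
  intro h hh
  rw [Subgroup.mem_bot]
  have : (h : G) ∈ stabilizer G (SubMulAction.ofStabilizer.snoc y) := by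
    rw [mem_stabilizer_iff]
    ext i
    rcases Fin.eq_castSucc_or_eq_last i with ⟨i, rfl⟩ | rfl
    · rw [Function.Embedding.smul_apply, SubMulAction.ofStabilizer.snoc_castSucc]
      have := congrArg (fun f => ((f i : SubMulAction.ofStabilizer G a) : Ω))
        (mem_stabilizer_iff.mp hh)
      simp only [Function.Embedding.smul_apply, SubMulAction.val_smul] at this
      exact this
    · rw [Function.Embedding.smul_apply, SubMulAction.ofStabilizer.snoc_last]
      exact h.2
  rw [hsh] at this
  exact Subtype.ext (Subgroup.mem_bot.mp this)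

end

/-- Jordan: a sharply `k`-transitive group, `k ≥ 4`, has degree `k`, `k+1`, `k+2` or `k+7`. -/
theorem jordan_general : ∀ (k : ℕ), 4 ≤ k → ∀ (G : Type u) [Group G] (Ω : Type v) [MulAction G Ω]
    [Finite Ω], Sharp G Ω k → k ≤ Nat.card Ω →
    Nat.card Ω = k ∨ Nat.card Ω = k + 1 ∨ Nat.card Ω = k + 2 ∨ Nat.card Ω = k + 7 := by
  intro k hk
  induction k, hk using Nat.le_induction with
  | base =>
    intro G _ Ω _ _ h hn
    exact Cfsg.Agent.S0415.jordan4 h.1 h.2 hn
  | succ k hk ih =>
    intro G _ Ω _ _ h hn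
    have hpos : 0 < Nat.card Ω := by omega
    have : Nonempty Ω := (Nat.card_pos_iff.mp hpos).1
    obtain ⟨a⟩ := this
    have hd := sharp_desc h hn a
    have hc := SubMulAction.nat_card_ofStabilizer_add_one_eq G a
    have := ih (stabilizer G a) (SubMulAction.ofStabilizer G a) hd (by omega)
    omega

theorem result {α : Type*} [Fintype α] [DecidableEq α] (G : Subgroup (Equiv.Perm α)) (h5 : 5 ≤ Fintype.card α) [MulAction.IsMultiplyPretransitive G α 5] (hsharp : ∀ x : Fin 5 ↪ α, MulAction.stabilizer G x = ⊥) : Fintype.card α = 5 ∨ Fintype.card α = 6 ∨ Fintype.card α = 7 ∨ Fintype.card α = 12 := by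
  have := jordan_general 5 (by norm_num) G α ⟨inferInstance, hsharp⟩
    (by rw [Nat.card_eq_fintype_card]; exact h5)
  rw [Nat.card_eq_fintype_card] at this
  exact this

end Cfsg.Agent.S0416
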