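import Cfsg.Statements.S0417
import Cfsg.Agent.S0416
import Mathlib

set_option autoImplicit false
set_option linter.unusedVariables false
open Cfsg

namespace Cfsg.Agent.S0417

open MulAction
open Cfsg.Agent.S0416 (Sharp sharp_desc jordan_general)
open Cfsg.Agent.S0415 (card_modEq_fix)

universe u v

section
variable {G : Type*} [Group G] {Ω : Type*} [MulAction G Ω]

/-- The embedding attached to a duplicate-free list. -/
def embL (l : List Ω) (hl : l.Nodup) {k : ℕ} (len : l.length = k) : Fin k ↪ Ω :=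
  ⟨fun i => l.get (i.cast len.symm), fun i j h => by
    have := (List.nodup_iff_injective_get.mp hl) h
    exact Fin.cast_injective _ this⟩

theorem exists_mapL {k : ℕ} (htr : IsMultiplyPretransitive G Ω k) (l l' : List Ω) (hl : l.Nodup)
    (hl' : l'.Nodup) (len : l.length = k) (len' : l'.length = k) :
    ∃ g : G, l.map (fun ω => g • ω) = l' := by
  obtain ⟨g, hg⟩ := htr.exists_smul_eq (embL l hl len) (embL l' hl' len')
  refine ⟨g, ?_⟩
  apply List.ext_get
  · simp [len, len']
  · intro i h1 h2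
    have hi : i < k := by rw [← len']; exact h2
    have := congrArg (fun f : Fin k ↪ Ω => f ⟨i, hi⟩) hg
    simpa [embL] using this

theorem eq_one_of_fixL {k : ℕ} (hsharp : ∀ x : Fin k ↪ Ω, stabilizer G x = ⊥) (l : List Ω)
    (hl : l.Nodup) (len : l.length = k) (g : G) (h : ∀ ω ∈ l, g • ω = ω) : g = 1 := by
  have : g ∈ stabilizer G (embL l hl len) := by
    rw [mem_stabilizer_iff]
    ext i
    exact h _ (List.get_mem _ _)
  rw [hsharp] at this
  exact Subgroup.mem_bot.mp this

theorem eq_of_agreeL {k : ℕ} (hsharp : ∀ x : Fin k ↪ Ω, stabilizer G x = ⊥) (l : List Ω)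
    (hl : l.Nodup) (len : l.length = k) (g h : G) (hgh : ∀ ω ∈ l, g • ω = h • ω) : g = h := by
  have : h⁻¹ * g = 1 := by
    apply eq_one_of_fixL hsharp l hl len
    intro ω hω
    rw [mul_smul, inv_smul_eq_iff, hgh ω hω]
  have := congrArg (h * ·) this
  simpa using this

theorem fix_card_lt [Fintype Ω] [DecidableEq Ω] {k : ℕ}
    (hsharp : ∀ x : Fin k ↪ Ω, stabilizer G x = ⊥) (g : G) (hg : g ≠ 1) :
    (Finset.univ.filter (fun ω : Ω => g • ω = ω)).card < k := by
  by_contra hcon
  push Not at hcon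
  apply hg
  apply eq_one_of_fixL hsharp ((Finset.univ.filter (fun ω : Ω => g • ω = ω)).toList.take k)
    ((Finset.nodup_toList _).sublist (List.take_sublist _ _)) (by simp [hcon]) g
  intro ω hω
  have := List.mem_of_mem_take hω
  rw [Finset.mem_toList, Finset.mem_filter] at this
  exact this.2

/-- There is no sharply 6-transitive action of degree 13. -/
theorem no_6_13 [Finite Ω] (h : Sharp G Ω 6) : Nat.card Ω ≠ 13 := by
  classical
  intro hcard
  obtain ⟨htr, hsh⟩ := h
  have := Fintype.ofFinite Ω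
  have : Fact (Nat.Prime 5) := ⟨by norm_num⟩
  have : Fact (Nat.Prime 3) := ⟨Nat.prime_three⟩
  have hne : Nonempty (Fin 6 ↪ Ω) := by
    apply Function.Embedding.nonempty_of_card_le
    rw [Fintype.card_fin, ← Nat.card_eq_fintype_card, hcard]
    norm_num
  obtain ⟨x0⟩ := hne
  obtain ⟨c, a1, a2, a3, a4, a5, hB⟩ :
      ∃ c a1 a2 a3 a4 a5 : Ω, [c, a1, a2, a3, a4, a5].Nodup := by
    refine ⟨x0 0, x0 1, x0 2, x0 3, x0 4, x0 5, ?_⟩
    simp [x0.injective.eq_iff]
  have hL5 : [a1, a2, a3, a4, a5].Nodup := (List.nodup_cons.mp hB).2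
  have hc5 : c ∉ [a1, a2, a3, a4, a5] := (List.nodup_cons.mp hB).1
  have hBs := hB
  simp only [List.nodup_cons, List.mem_cons, List.not_mem_nil, or_false, not_or, List.nodup_nil,
    and_true, not_false_eq_true] at hBs
  obtain ⟨⟨hc1, hc2, hc3, hc4, hc5'⟩, ⟨h12, h13, h14, h15⟩, ⟨h23, h24, h25⟩, ⟨h34, h35⟩, h45⟩ := hBs
  -- the 5-cycle
  have hL5' : [a2, a3, a4, a5, a1].Nodup :=
    (List.perm_middle (a := a1) (l₁ := [a2, a3, a4, a5]) (l₂ := [])).nodup_iff.mpr hL5
  have hB' : [c, a2, a3, a4, a5, a1].Nodup := by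
    refine List.nodup_cons.mpr ⟨?_, hL5'⟩
    simp only [List.mem_cons, List.not_mem_nil, or_false, not_or]
    exact ⟨hc2, hc3, hc4, hc5', hc1⟩
  obtain ⟨u, hu⟩ := exists_mapL htr _ _ hB hB' rfl rfl
  simp only [List.map_cons, List.map_nil, List.cons.injEq, and_true] at hu
  obtain ⟨uc, u1, u2, u3, u4, u5⟩ := hu
  have hu5 : u ^ 5 = 1 := by
    apply eq_one_of_fixL hsh _ hB rfl
    intro ω hω
    simp only [List.mem_cons, List.not_mem_nil, or_false] at hω
    rcases hω with rfl | rfl | rfl | rfl | rfl | rfl <;>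
      simp only [pow_succ, pow_zero, one_mul, mul_smul, uc, u1, u2, u3, u4, u5]
  have hu1 : u ≠ 1 := by
    intro h
    rw [h, one_smul] at u1
    exact h12 u1
  have hu_inv : ∀ {x y : Ω}, u • x = y → u⁻¹ • y = x := fun {x y} h => by
    rw [inv_smul_eq_iff, h]
  -- fixed points of u
  set F := Finset.univ.filter (fun ω : Ω => u • ω = ω) with hF
  have memF : ∀ ω : Ω, ω ∈ F ↔ u • ω = ω := by
    intro ω
    rw [hF, Finset.mem_filter]
    simp
  have hFcard : F.card = 3 := by
    have hlt := fix_card_lt hsh u hu1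
    have hmod := card_modEq_fix (Ω := Ω) 5 u hu5
    have hF' : Nat.card {ω : Ω | u • ω = ω} = F.card := by
      rw [Nat.card_eq_fintype_card, hF]
      exact Fintype.card_subtype _
    rw [hF', hcard] at hmod
    have : 13 % 5 = F.card % 5 := hmod
    have hlt' : F.card < 6 := hlt
    omega
  have hcF : c ∈ F := (memF c).mpr uc
  obtain ⟨e, e', hee', hFe⟩ : ∃ e e' : Ω, e ≠ e' ∧ F.erase c = {e, e'} := by
    apply Finset.card_eq_two.mp
    rw [Finset.card_erase_of_mem hcF, hFcard]
  have heF : e ∈ F.erase c := by rw [hFe]; simp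
  have he'F : e' ∈ F.erase c := by rw [hFe]; simp
  have hec : e ≠ c := (Finset.mem_erase.mp heF).1
  have he'c : e' ≠ c := (Finset.mem_erase.mp he'F).1
  have ue : u • e = e := (memF e).mp (Finset.mem_erase.mp heF).2
  have ue' : u • e' = e' := (memF e').mp (Finset.mem_erase.mp he'F).2
  have fixu : ∀ ω : Ω, u • ω = ω → ω = c ∨ ω = e ∨ ω = e' := by
    intro ω hω
    by_cases hωc : ω = c
    · exact Or.inl hωc
    · right
      have : ω ∈ F.erase c := Finset.mem_erase.mpr ⟨hωc, (memF ω).mpr hω⟩
      rw [hFe] at this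
      simpa using this
  -- fixed points of u are not among a1..a5
  have notL5 : ∀ ω : Ω, u • ω = ω → ω ∉ [a1, a2, a3, a4, a5] := by
    intro ω hω hmem
    simp only [List.mem_cons, List.not_mem_nil, or_false] at hmem
    rcases hmem with rfl | rfl | rfl | rfl | rfl
    · rw [u1] at hω; exact h12 hω.symm
    · rw [u2] at hω; exact h23 hω.symm
    · rw [u3] at hω; exact h34 hω.symm
    · rw [u4] at hω; exact h45 hω.symm
    · rw [u5] at hω; exact h15 hω
  -- the element k
  have hBe : [e, a1, a2, a3, a4, a5].Nodup := List.nodup_cons.mpr ⟨notL5 e ue, hL5⟩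
  obtain ⟨k, hk⟩ := exists_mapL htr _ _ hB hBe rfl rfl
  simp only [List.map_cons, List.map_nil, List.cons.injEq, and_true] at hk
  obtain ⟨kc, k1, k2, k3, k4, k5⟩ := hk
  have hk1 : k ≠ 1 := by
    intro h
    rw [h, one_smul] at kc
    exact hec kc.symm
  have hconj : u * k * u⁻¹ = k := by
    apply eq_of_agreeL hsh _ hB rfl
    intro ω hω
    simp only [List.mem_cons, List.not_mem_nil, or_false] at hω
    rcases hω with rfl | rfl | rfl | rfl | rfl | rfl
    · rw [mul_smul, mul_smul, hu_inv uc, kc, ue]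
    · rw [mul_smul, mul_smul, hu_inv u5, k5, u5, k1]
    · rw [mul_smul, mul_smul, hu_inv u1, k1, u1, k2]
    · rw [mul_smul, mul_smul, hu_inv u2, k2, u2, k3]
    · rw [mul_smul, mul_smul, hu_inv u3, k3, u3, k4]
    · rw [mul_smul, mul_smul, hu_inv u4, k4, u4, k5]
  have hcomm : u * k = k * u := by
    calc u * k = (u * k * u⁻¹) * u := by group
      _ = k * u := by rw [hconj]
  have kfixu : ∀ ω : Ω, u • ω = ω → u • (k • ω) = k • ω := by
    intro ω hω
    rw [← mul_smul, hcomm, mul_smul, hω]
  have kL5 : ∀ ω ∈ [a1, a2, a3, a4, a5], k • ω = ω := by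
    intro ω hω
    simp only [List.mem_cons, List.not_mem_nil, or_false] at hω
    rcases hω with rfl | rfl | rfl | rfl | rfl <;> assumption
  have knofix : ∀ ω : Ω, ω ∉ [a1, a2, a3, a4, a5] → k • ω ≠ ω := by
    intro ω hω hfix
    apply hk1
    apply eq_one_of_fixL hsh (ω :: [a1, a2, a3, a4, a5]) (List.nodup_cons.mpr ⟨hω, hL5⟩) rfl
    intro ω' hω'
    rcases List.mem_cons.mp hω' with rfl | h
    · exact hfix
    · exact kL5 ω' h
  have kinj : ∀ {x y : Ω}, k • x = k • y → x = y := fun {x y} h => MulAction.injective k h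
  -- k e = e'
  have ke : k • e = e' := by
    rcases fixu _ (kfixu e ue) with h | h | h
    · exfalso
      -- k e = c, then k e' is a fixed point
      rcases fixu _ (kfixu e' ue') with h' | h' | h'
      · exact hee' (kinj (h.trans h'.symm))
      · rw [← kc] at h'
        exact he'c (kinj h')
      · exact knofix e' (notL5 e' ue') h'
    · exact absurd h (knofix e (notL5 e ue))
    · exact h
  have ke' : k • e' = c := by
    rcases fixu _ (kfixu e' ue') with h | h | h
    · exact h
    · exfalso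
      rw [← kc] at h
      exact he'c (kinj h)
    · exact absurd h (knofix e' (notL5 e' ue'))
  have hk3 : k ^ 3 = 1 := by
    apply eq_one_of_fixL hsh _ hB rfl
    intro ω hω
    simp only [List.mem_cons, List.not_mem_nil, or_false] at hω
    rcases hω with rfl | rfl | rfl | rfl | rfl | rfl <;>
      simp only [pow_succ, pow_zero, one_mul, mul_smul, kc, ke, ke', k1, k2, k3, k4, k5]
  -- count fixed points of k
  have hfk : Nat.card {ω : Ω | k • ω = ω} = 5 := by
    have : {ω : Ω | k • ω = ω} = ↑([a1, a2, a3, a4, a5].toFinset) := by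
      ext ω
      simp only [Set.mem_ofPred_eq, Finset.mem_coe, List.mem_toFinset]
      constructor
      · intro hω
        by_contra hmem
        exact knofix ω hmem hω
      · intro hω
        exact kL5 ω hω
    rw [this, Nat.card_coe_set_eq, Set.ncard_coe_finset, List.toFinset_card_of_nodup hL5]
    rfl
  have hmod := card_modEq_fix (Ω := Ω) 3 k hk3
  rw [hfk, hcard] at hmod
  exact absurd hmod (by decide)

end

/-- For `k ≥ 6` the degree `k + 7` does not occur. -/
theorem no_big : ∀ (k : ℕ), 6 ≤ k → ∀ (G : Type u) [Group G] (Ω : Type v) [MulAction G Ω]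
    [Finite Ω], Sharp G Ω k → Nat.card Ω ≠ k + 7 := by
  intro k hk
  induction k, hk using Nat.le_induction with
  | base =>
    intro G _ Ω _ _ h
    exact no_6_13 h
  | succ k hk ih =>
    intro G _ Ω _ _ h hn
    have hpos : 0 < Nat.card Ω := by omega
    have : Nonempty Ω := (Nat.card_pos_iff.mp hpos).1
    obtain ⟨a⟩ := this
    have hd := sharp_desc h (by omega) a
    have hc := SubMulAction.nat_card_ofStabilizer_add_one_eq G a
    exact ih (stabilizer G a) (SubMulAction.ofStabilizer G a) hd (by omega)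

theorem result {α : Type*} [Fintype α] [DecidableEq α] (G : Subgroup (Equiv.Perm α)) (k : ℕ) (hk : 6 ≤ k) (hn : k ≤ Fintype.card α) [MulAction.IsMultiplyPretransitive G α k] (hsharp : ∀ x : Fin k ↪ α, MulAction.stabilizer G x = ⊥) : Fintype.card α = k ∨ Fintype.card α = k + 1 ∨ Fintype.card α = k + 2 := by
  have hS : Sharp G α k := ⟨inferInstance, hsharp⟩
  have h1 := jordan_general k (by omega) G α hS (by rw [Nat.card_eq_fintype_card]; exact hn)
  have h2 := no_big k hk G α hS
  rw [Nat.card_eq_fintype_card] at h1 h2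
  omega

end Cfsg.Agent.S0417
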