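import Cfsg.Statements.S0418
import Cfsg.Agent.Lib.Helper7.PrimeDegree

set_option autoImplicit false
open Cfsg

namespace Cfsg.Agent.S0418

open Cfsg.Agent.Lib.Helper7 MulAction

/-- A sharply 4-transitive group of degree 11 is simple of order 7920. -/
theorem result {α : Type*} [Fintype α] [DecidableEq α] (hα : Fintype.card α = 11) (G : Subgroup (Equiv.Perm α)) [MulAction.IsMultiplyPretransitive G α 4] (hsharp : ∀ x : Fin 4 ↪ α, MulAction.stabilizer G x = ⊥) : Cfsg.IsM11 G := by
  have hcard : Nat.card G = 7920 := by
    have hne : Nonempty (Fin 4 ↪ α) := by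
      rw [← Fintype.card_pos_iff, Fintype.card_embedding_eq, hα]
      decide
    obtain ⟨x0⟩ := hne
    have h1 := Subgroup.card_mul_index (stabilizer G x0)
    have h2 : (stabilizer G x0).index = Nat.card (Fin 4 ↪ α) :=
      @index_stabilizer_of_transitive _ _ _ _ x0
        ⟨fun x y => (inferInstance : IsMultiplyPretransitive G α 4).exists_smul_eq x y⟩
    rw [h2, hsharp x0, Subgroup.card_bot, one_mul,
      Nat.card_eq_fintype_card, Fintype.card_embedding_eq, hα] at h1
    rw [← h1]
    decide
  refine ⟨?_, hcard⟩
  have h1 : IsMultiplyPretransitive G α 1 :=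
    isMultiplyPretransitive_of_le (n := 4) (by norm_num)
      (by rw [Nat.card_eq_fintype_card, hα]; norm_num)
  have htrans : IsPretransitive G α := is_one_pretransitive_iff.1 h1
  apply isSimpleGroup_of_prime_degree (Ω := α) 11 5 720 (by norm_num) (by norm_num) hα
    (by rw [hcard]) (by norm_num) (by norm_num)
  intro r hr1 hr2 hr3
  have hr : r ≤ 10 := Nat.le_of_dvd (by norm_num) hr1
  interval_cases r <;> simp_all

end Cfsg.Agent.S0418
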