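import Cfsg.Statements.S0423
import Cfsg.Agent.Lib.Helper98.J2Data

set_option autoImplicit false
open Cfsg

namespace Cfsg.Agent.S0423

/-- Existence of a simple group of order 604800. -/
theorem result : ∃ G : Subgroup (Equiv.Perm (Fin 100)), Cfsg.IsJ2 G := by
  open Cfsg.Agent.Lib.Helper89 Cfsg.Agent.Lib.Helper89.TableChain2
    Cfsg.Agent.Lib.Helper89.NormChain Cfsg.Agent.Lib.Helper98.PermChain
    Cfsg.Agent.Lib.Helper98.J2Data in
  have hT : TabOK 100 5 tab tabI := tabOK_of_check tab_ok
  have l0 : Data.LevelOK (data hT) 5 3 0 T0 E0 :=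
    Data.levelOK_of_check (D := data hT) (le_refl 5) (show (0 : ℕ) < 100 by decide) level0
  have l1 : Data.LevelOK (data hT) 3 2 37 T1 E1 :=
    Data.levelOK_of_check (D := data hT) (show (3 : ℕ) ≤ 5 by decide) (show (37 : ℕ) < 100 by decide) level1
  have l2 : Data.LevelOK (data hT) 2 1 41 T2 E2 :=
    Data.levelOK_of_check (D := data hT) (show (2 : ℕ) ≤ 5 by decide) (show (41 : ℕ) < 100 by decide) level2
  have l3 : Data.LevelOK (data hT) 1 0 1 T3 E3 :=
    Data.levelOK_of_check (D := data hT) (show (1 : ℕ) ≤ 5 by decide) (show (1 : ℕ) < 100 by decide) level3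
  have o0 : OrbOK (data hT) 5 (fun _ => 0) W0 := orbOK_of_check (D := data hT) (le_refl 5) orb0
  have o1 : OrbOK (data hT) 3 lab W := orbOK_of_check (D := data hT) (show (3 : ℕ) ≤ 5 by decide) orb1
  have hcard : Nat.card ((data hT).H 5) = 100 * 6048 := by
    rw [l0.card, l1.card, l2.card, l3.card, Data.card_H_zero]
    decide
  refine ⟨(data hT).H 5, ?_, hcard⟩
  exact isSimpleGroup_of_certs hT 3 l0 o0 o1 1 37 (by decide +kernel) (by decide) (by decide)
    (by decide +kernel) (by decide +kernel) 5 6048 hcard (by norm_num) (by norm_num) [3, 4] GW gen_ok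

end Cfsg.Agent.S0423
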