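import Mathlib
import Cfsg.Statements.S0425
import Cfsg.Agent.Lib.Helper95.SteinerAbstract

set_option autoImplicit false
open Cfsg

namespace Cfsg.Agent.S0425

open Cfsg.Agent.Lib.Helper95.Steiner MulAction

theorem not_isPrimePow_twelve : ¬ IsPrimePow 12 := by
  rw [isPrimePow_nat_iff]
  rintro ⟨p, k, hp, hk, h⟩
  have h2 : 2 ∣ p ^ k := by rw [h]; norm_num
  have h3 : 3 ∣ p ^ k := by rw [h]; norm_num
  have h2' := (Nat.prime_dvd_prime_iff_eq Nat.prime_two hp).mp
    (Nat.Prime.dvd_of_dvd_pow Nat.prime_two h2)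
  have h3' := (Nat.prime_dvd_prime_iff_eq Nat.prime_three hp).mp
    (Nat.Prime.dvd_of_dvd_pow Nat.prime_three h3)
  omega

/-- Aut of an S(5, 6, 12) is simple of order 95040 and sharply 5-transitive on points. -/
theorem result {α : Type*} [Fintype α] [DecidableEq α] (hα : Fintype.card α = 12) {B : Set (Finset α)} (hB : Cfsg.IsSteinerSystem 5 6 B) : Cfsg.IsM12 (Cfsg.setSystemAut B) ∧ MulAction.IsMultiplyPretransitive (Cfsg.setSystemAut B) α 5 ∧ ∀ x : Fin 5 ↪ α, MulAction.stabilizer (Cfsg.setSystemAut B) x = ⊥ := by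
  have hB' : Cfsg.IsSteinerSystem 5 (5 + 1) B := hB
  have hcard : Nat.card (Cfsg.setSystemAut B) = 95040 := by
    rw [aut_card normData12 hα hB']
    decide
  have hα' : Nat.card α = 12 := by rw [Nat.card_eq_fintype_card, hα]
  have htrans : IsMultiplyPretransitive (Cfsg.setSystemAut B) α 5 :=
    aut_pretransitive normData12 hα hB'
  refine ⟨⟨?_, hcard⟩, htrans, aut_stabilizer_eq_bot normData12 hα hB'⟩
  have h2t : IsMultiplyPretransitive (Cfsg.setSystemAut B) α 2 :=
    @isMultiplyPretransitive_of_le _ _ _ _ 2 5 htrans (by norm_num) (by rw [hα']; norm_num) _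
  have h1t : IsPretransitive (Cfsg.setSystemAut B) α :=
    @isPretransitive_of_is_two_pretransitive _ _ _ _ h2t
  obtain ⟨x⟩ : Nonempty α := Fintype.card_pos_iff.mp (by rw [hα]; norm_num)
  refine Cfsg.Agent.Lib.Helper95.isSimpleGroup_of_two_transitive (X := α) x
    (fun y => exists_smul_eq _ x y) ?_ ?_ ?_
  · intro y z hy hz
    have h2 : ∀ {a b c d : α} (_ : a ≠ b) (_ : c ≠ d),
        ∃ g : Cfsg.setSystemAut B, g • a = c ∧ g • b = d := is_two_pretransitive_iff.mp h2t
    obtain ⟨g, hg1, hg2⟩ := @h2 x y x z (Ne.symm hy) (Ne.symm hz)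
    exact ⟨g, hg1, hg2⟩
  · apply isSimpleGroup_of_card_7920
      (X := SubMulAction.ofStabilizer (Cfsg.setSystemAut B) x)
    · rw [SubMulAction.nat_card_ofStabilizer_eq, hα']
    · have h1 := index_stabilizer_of_transitive (Cfsg.setSystemAut B) x
      have h2 := Subgroup.card_mul_index (stabilizer (Cfsg.setSystemAut B) x)
      rw [h1, hα', hcard] at h2
      omega
  · rw [hα']
    exact not_isPrimePow_twelve

end Cfsg.Agent.S0425
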