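import Cfsg.Statements.S0427
import Cfsg.Agent.Lib.Helper61.S3622

set_option autoImplicit false
set_option linter.unusedVariables false
set_option linter.unusedSectionVars false
open Cfsg

namespace Cfsg.Agent.S0427

open Finset Cfsg.Agent.Lib.Helper6.Steiner Cfsg.Agent.Lib.Helper61.S3622

section
variable {α : Type*} [Fintype α] [DecidableEq α] {B : Set (Finset α)}

theorem adj_iff (hB : IsSteinerSystem 3 6 B) (v w : ↥B) :
    (blockGraph B).Adj v w ↔ Disjoint (w : Finset α) (v : Finset α) := by
  unfold blockGraph
  rw [SimpleGraph.fromRel_adj]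
  constructor
  · rintro ⟨-, h | h⟩
    · exact h.symm
    · exact h
  · intro h
    refine ⟨?_, Or.inr h⟩
    intro hvw
    rw [hvw, disjoint_self] at h
    have := hB.1 w w.2
    rw [h] at this
    simp at this

end

theorem result {α : Type*} [Fintype α] (hα : Fintype.card α = 22) {B : Set (Finset α)} (hB : Cfsg.IsSteinerSystem 3 6 B) [Fintype B] [DecidableRel (Cfsg.blockGraph B).Adj] : (Cfsg.blockGraph B).IsSRGWith 77 16 0 4 := by
  classical
  refine ⟨?_, ?_, ?_, ?_⟩
  · rw [← Nat.card_eq_fintype_card, Nat.card_coe_set_eq, ncard_eq_card_blocks]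
    exact card_blocks hα hB
  · intro v
    rw [← SimpleGraph.card_neighborSet_eq_degree, ← Nat.card_eq_fintype_card]
    have : Nat.card ((blockGraph B).neighborSet v) =
        Nat.card {w : ↥B // Disjoint (w : Finset α) (v : Finset α)} := by
      apply Nat.card_congr
      apply Equiv.subtypeEquivRight
      intro w
      rw [SimpleGraph.mem_neighborSet]
      exact adj_iff hB v w
    rw [this, card_blocks_subtype (fun c => Disjoint c (v : Finset α))]
    exact card_disjoint hα hB v.2
  · intro v w hvw
    rw [← Nat.card_eq_fintype_card]
    have : IsEmpty ((blockGraph B).commonNeighbors v w) := by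
      constructor
      rintro ⟨u, hu⟩
      rw [SimpleGraph.mem_commonNeighbors] at hu
      have h1 := (adj_iff hB v u).mp hu.1
      have h2 := (adj_iff hB w u).mp hu.2
      have h3 := (adj_iff hB v w).mp hvw
      -- w disjoint from v, u disjoint from v and from w
      have huw : (u : Finset α) ≠ (w : Finset α) := by
        intro h
        rw [h, disjoint_self] at h2
        have := hB.1 w w.2
        rw [h2] at this
        simp at this
      exact not_disjoint_of_disjoint hα hB v.2 w.2 u.2 h3 h1 huw h2
    exact Nat.card_of_isEmpty
  · intro v w hvw hnadj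
    rw [← Nat.card_eq_fintype_card]
    have hnd : ¬ Disjoint (w : Finset α) (v : Finset α) := fun h => hnadj ((adj_iff hB v w).mpr h)
    have hne : (w : Finset α) ≠ (v : Finset α) := fun h => hvw (Subtype.ext h.symm)
    have : Nat.card ((blockGraph B).commonNeighbors v w) =
        Nat.card {u : ↥B // Disjoint (u : Finset α) (v : Finset α) ∧
          Disjoint (u : Finset α) (w : Finset α)} := by
      apply Nat.card_congr
      apply Equiv.subtypeEquivRight
      intro u
      rw [SimpleGraph.mem_commonNeighbors, adj_iff hB v u, adj_iff hB w u]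
    rw [this, card_blocks_subtype (fun c => Disjoint c (v : Finset α) ∧ Disjoint c (w : Finset α))]
    exact card_disjoint_both hα hB v.2 w.2 hne hnd

end Cfsg.Agent.S0427
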