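import Cfsg.Statements.S0431
import Cfsg.Agent.S0410
import Cfsg.Agent.S0366
import Cfsg.Agent.S0378
import Cfsg.Agent.S0379
import Cfsg.Agent.Lib.Helper7.HSGroup
import Cfsg.Agent.Lib.Helper7.HSTransport

set_option autoImplicit false
open Cfsg

namespace Cfsg.Agent.S0431

open Cfsg.Agent.Lib.Helper7

/-- Aut of the point-block graph of an S(3, 6, 22) contains a simple subgroup of order 44352000. -/
theorem result {α : Type*} [Fintype α] (hα : Fintype.card α = 22) {B : Set (Finset α)} (hB : Cfsg.IsSteinerSystem 3 6 B) : ∃ H : Subgroup (Cfsg.pointBlockGraph B ≃g Cfsg.pointBlockGraph B), Cfsg.IsHS H := by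
  classical
  have hp : popc 4194303 = 22 := by decide
  obtain ⟨e, he⟩ : SetSystemIso B W22 :=
    setSystemIso_of_good Cfsg.Agent.S0410.good (by rw [hα, hp]) (by rw [card_Pt22, hp]) hB
      isSteinerSystem_W22
  have hne : (none : GolayPt) ≠ some 22 := by simp
  have hcard : Nat.card stab2 = 443520 := Cfsg.Agent.S0378.result none (some 22) hne
  have hsimple : IsSimpleGroup stab2 := Cfsg.Agent.S0379.result none (some 22) hne
  have hHS : IsHS HSH := isHS_HSH Cfsg.Agent.S0366.result hcard hsimple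
  let Φ : (pointBlockGraph B ≃g pointBlockGraph B) ≃* HSA := autCongr (pbgIso e he)
  refine ⟨HSH.map Φ.symm.toMonoidHom, ?_⟩
  let χ : ↥(HSH.map Φ.symm.toMonoidHom) ≃* HSH := (Φ.symm.subgroupMap HSH).symm
  have hs : IsSimpleGroup HSH := hHS.1
  refine ⟨χ.isSimpleGroup, ?_⟩
  rw [Nat.card_congr χ.toEquiv]
  exact hHS.2

end Cfsg.Agent.S0431
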