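import Cfsg.Statements.S0432
import Mathlib

set_option autoImplicit false
open Cfsg

namespace Cfsg.Agent.S0432

open scoped Pointwise

theorem result (σ : Equiv.Perm Cfsg.GolayPt) (hσ : σ ∈ Cfsg.M24) (x : Cfsg.GolayPt → ℤ) (hx : x ∈ Cfsg.leechLattice) : (fun i => x (σ i)) ∈ Cfsg.leechLattice := by
  let f : (GolayPt → ℤ) →+ (GolayPt → ℤ) :=
    { toFun := fun x i => x (σ i), map_zero' := rfl, map_add' := fun _ _ => rfl }
  show f x ∈ leechLattice
  have hle : leechLattice ≤ leechLattice.comap f := by
    rw [leechLattice, AddSubgroup.closure_le]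
    intro y hy
    apply AddSubgroup.subset_closure
    obtain ⟨m, h1, h2, h3⟩ := hy
    refine ⟨m, fun i => h1 (σ i), ?_, fun k => ?_⟩
    · have : ∑ i, f y i = ∑ i, y i := Equiv.sum_comp σ y
      rw [this]; exact h2
    · have hk := h3 k
      have hinv : σ⁻¹ ∈ M24 := inv_mem hσ
      rw [MulAction.mem_stabilizer_iff] at hinv
      have hmem : σ⁻¹ • (Finset.univ.filter fun i => y i ≡ k [ZMOD 4]) ∈
          σ⁻¹ • supports (golayCode : Set (GolayPt → ZMod 2)) := Set.smul_mem_smul_set hk
      rw [hinv] at hmem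
      convert hmem using 1
      ext i
      simp only [Finset.mem_filter, Finset.mem_univ, true_and, Finset.mem_smul_finset]
      constructor
      · intro h
        exact ⟨σ i, h, by simp⟩
      · rintro ⟨j, hj, rfl⟩
        simpa [f] using hj
  exact hle hx

end Cfsg.Agent.S0432
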