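import Cfsg.Statements.S0433
import Cfsg.Agent.Lib.Helper8.Golay
import Mathlib

set_option autoImplicit false
open Cfsg

namespace Cfsg.Agent.S0433

open Cfsg.Agent.Lib.Helper8

/-- the sum of the coordinates of a vector of `leechSet` over a codeword is divisible by 4 -/
theorem sum_over_codeword (x : GolayPt → ℤ) (m : ℤ) (h1 : ∀ i, x i ≡ m [ZMOD 2])
    (h3 : ∀ k : ℤ, (Finset.univ.filter fun i => x i ≡ k [ZMOD 4]) ∈
      supports (golayCode : Set (GolayPt → ZMod 2)))
    (w : GolayPt → ZMod 2) (hw : w ∈ golayCode) :
    (4 : ℤ) ∣ ∑ i ∈ support₂ w, x i := by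
  obtain ⟨u, hu, hC⟩ := h3 (m + 2)
  have hA : ∀ i, ((x i : ℤ) : ZMod 4) = (m : ZMod 4) + (if i ∈ support₂ u then 2 else 0) := by
    intro i
    have hmem : i ∈ support₂ u ↔ x i ≡ m + 2 [ZMOD 4] := by
      rw [hC]; simp
    by_cases hi : i ∈ support₂ u
    · rw [if_pos hi]
      have := (ZMod.intCast_eq_intCast_iff (x i) (m + 2) 4).2 (hmem.1 hi)
      rw [this]; push_cast; ring
    · rw [if_neg hi, add_zero]
      apply (ZMod.intCast_eq_intCast_iff (x i) m 4).2
      have h2 : ¬ x i ≡ m + 2 [ZMOD 4] := fun h => hi (hmem.2 h)
      have h1' := h1 i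
      unfold Int.ModEq at *
      push_cast at *
      omega
  have hcast : (((∑ i ∈ support₂ w, x i : ℤ)) : ZMod 4) = 0 := by
    push_cast
    rw [Finset.sum_congr rfl (fun i _ => hA i), Finset.sum_add_distrib, Finset.sum_const,
      Finset.sum_ite_mem, Finset.sum_const]
    obtain ⟨a, ha⟩ := golay_doubly_even hw
    obtain ⟨b, hb⟩ := even_card_inter hw hu
    rw [ha, hb]
    simp only [nsmul_eq_mul]
    push_cast
    have h4 : (4 : ZMod 4) = 0 := by decide
    have h22 : (2 : ZMod 4) * 2 = 0 := by decide
    rw [h4, zero_mul, zero_mul, zero_add, mul_assoc, mul_comm (b : ZMod 4), ← mul_assoc, h22,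
      zero_mul]
  exact (ZMod.intCast_zmod_eq_zero_iff_dvd _ 4).1 hcast

theorem leechSet_sign_change (w : GolayPt → ZMod 2) (hw : w ∈ golayCode) (x : GolayPt → ℤ)
    (hx : x ∈ leechSet) : (fun i => if i ∈ support₂ w then -x i else x i) ∈ leechSet := by
  obtain ⟨m, h1, h2, h3⟩ := hx
  refine ⟨m, ?_, ?_, ?_⟩
  · intro i
    have h1' := h1 i
    by_cases hi : i ∈ support₂ w
    · simp only [if_pos hi]
      unfold Int.ModEq at *
      omega
    · simp only [if_neg hi]; exact h1'
  · have hsum : ∑ i, (if i ∈ support₂ w then -x i else x i)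
        = ∑ i, x i - 2 * ∑ i ∈ support₂ w, x i := by
      have : ∀ i, (if i ∈ support₂ w then -x i else x i)
          = x i - 2 * (if i ∈ support₂ w then x i else 0) := by
        intro i; split_ifs <;> ring
      rw [Finset.sum_congr rfl (fun i _ => this i), Finset.sum_sub_distrib, ← Finset.mul_sum,
        Finset.sum_ite_mem, Finset.univ_inter]
    rw [hsum]
    obtain ⟨a, ha⟩ := sum_over_codeword x m h1 h3 w hw
    rw [ha]
    unfold Int.ModEq at *
    omega
  · intro k
    rcases Int.emod_two_eq_zero_or_one m with hm | hm
    · -- all coordinates even: residues mod 4 unchanged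
      have : (Finset.univ.filter fun i => (if i ∈ support₂ w then -x i else x i) ≡ k [ZMOD 4])
          = (Finset.univ.filter fun i => x i ≡ k [ZMOD 4]) := by
        apply Finset.filter_congr
        intro i _
        have h1' := h1 i
        by_cases hi : i ∈ support₂ w
        · simp only [if_pos hi]
          unfold Int.ModEq at *
          omega
        · simp only [if_neg hi]
      rw [this]; exact h3 k
    · rcases Int.emod_two_eq_zero_or_one k with hk | hk
      · -- empty set
        refine ⟨0, Submodule.zero_mem _, ?_⟩
        ext i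
        have h1' := h1 i
        have hz : i ∉ support₂ (0 : GolayPt → ZMod 2) := by simp [mem_support₂]
        simp only [hz, Finset.mem_filter, Finset.mem_univ, true_and, false_iff]
        by_cases hi : i ∈ support₂ w
        · rw [if_pos hi]
          unfold Int.ModEq at *
          omega
        · rw [if_neg hi]
          unfold Int.ModEq at *
          omega
      · obtain ⟨u, hu, hC⟩ := h3 k
        refine ⟨u + w, Submodule.add_mem _ hu hw, ?_⟩
        ext i
        have hmem : i ∈ support₂ u ↔ x i ≡ k [ZMOD 4] := by
          rw [hC]; simp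
        have h1' := h1 i
        have hadd : i ∈ support₂ (u + w) ↔ ¬ (i ∈ support₂ u ↔ i ∈ support₂ w) := by
          simp only [mem_support₂, Pi.add_apply]
          rcases zmod2_cases (u i) with h | h <;> rcases zmod2_cases (w i) with h' | h' <;>
            simp [h, h']
          decide
        rw [hadd, hmem]
        simp only [Finset.mem_filter, Finset.mem_univ, true_and]
        by_cases hi : i ∈ support₂ w
        · rw [if_pos hi]
          simp only [hi, iff_true]
          unfold Int.ModEq at *
          omega
        · rw [if_neg hi]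
          simp only [hi, iff_false, not_not]

theorem result (c : Finset Cfsg.GolayPt) (hc : c ∈ Cfsg.supports (Cfsg.golayCode : Set (Cfsg.GolayPt → ZMod 2))) (x : Cfsg.GolayPt → ℤ) (hx : x ∈ Cfsg.leechLattice) : (fun i => if i ∈ c then -x i else x i) ∈ Cfsg.leechLattice := by
  obtain ⟨w, hw, rfl⟩ := hc
  let f : (GolayPt → ℤ) →+ (GolayPt → ℤ) :=
    { toFun := fun x i => if i ∈ support₂ w then -x i else x i
      map_zero' := by ext i; simp
      map_add' := fun a b => by
        ext i
        simp only [Pi.add_apply]
        split_ifs <;> ring }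
  show f x ∈ leechLattice
  have hle : leechLattice ≤ leechLattice.comap f := by
    rw [leechLattice, AddSubgroup.closure_le]
    intro y hy
    apply AddSubgroup.subset_closure
    exact leechSet_sign_change w hw y hy
  exact hle hx

end Cfsg.Agent.S0433
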