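import Cfsg.Statements.S0436
import Mathlib

set_option autoImplicit false
open Cfsg

namespace Cfsg.Agent.S0436

theorem sq_one_of_mem {G : Type*} [Group G] {E : Set G} (hE : Cfsg.IsThreeTranspositionSet E)
    {d : G} (hd : d ∈ E) : d * d = 1 := by
  have h := hE.1 d hd
  rw [← sq, ← h]; exact pow_orderOf_eq_one d

theorem inv_eq_of_mem {G : Type*} [Group G] {E : Set G} (hE : Cfsg.IsThreeTranspositionSet E)
    {d : G} (hd : d ∈ E) : d⁻¹ = d := by
  rw [inv_eq_iff_mul_eq_one]; exact sq_one_of_mem hE hd

theorem commute_or_braid {G : Type*} [Group G] {E : Set G} (hE : Cfsg.IsThreeTranspositionSet E)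
    {d e : G} (hd : d ∈ E) (he : e ∈ E) : Commute d e ∨ d * e * d = e * d * e := by
  have hd1 := inv_eq_of_mem hE hd
  have he1 := inv_eq_of_mem hE he
  rcases hE.2 d hd e he with h | h
  · left
    show d * e = e * d
    have : d * e = (d * e)⁻¹ := by
      rw [eq_inv_iff_mul_eq_one, ← sq]; exact h
    rw [this, mul_inv_rev, hd1, he1]
  · right
    have : d * e * d = (e * d * e)⁻¹ := by
      rw [eq_inv_iff_mul_eq_one]
      have : d * e * d * (e * d * e) = (d * e) ^ 3 := by
        rw [pow_succ, pow_succ, pow_one]; simp only [mul_assoc]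
      rw [this, h]
    rw [this, mul_inv_rev, mul_inv_rev, hd1, he1, mul_assoc]

theorem result {G : Type*} [Group G] {E : Set G} (hE : Cfsg.IsThreeTranspositionSet E) {a b e : G} (ha : a ∈ E) (hb : b ∈ E) (he : e ∈ E) (hab : a ≠ b) (hcomm : Commute a b) : Commute e (a * b) ↔ (Commute e a ∧ Commute e b) := by
  constructor
  · intro h
    have ha1 := inv_eq_of_mem hE ha
    have hb1 := inv_eq_of_mem hE hb
    have he1 := inv_eq_of_mem hE he
    have haa := sq_one_of_mem hE ha
    have hbb := sq_one_of_mem hE hb
    have hee := sq_one_of_mem hE he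
    rcases commute_or_braid hE he ha with h1 | h1
    · refine ⟨h1, ?_⟩
      have : b = a⁻¹ * (a * b) := by group
      rw [this]
      exact (h1.inv_right).mul_right h
    rcases commute_or_braid hE he hb with h2 | h2
    · refine ⟨?_, h2⟩
      have : a = (a * b) * b⁻¹ := by group
      rw [this]
      exact h.mul_right h2.inv_right
    exfalso
    apply hab
    have h' : e * (a * b) = a * b * e := h
    -- e a b e = a b
    have h3 : e * a * e * (e * b * e) = a * b := by
      have : e * a * e * (e * b * e) = e * a * (e * e) * b * e := by simp only [mul_assoc]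
      rw [this, hee, mul_one, mul_assoc e a b, h', mul_assoc, hee, mul_one]
    -- e a e = a e a, e b e = b e b
    have h1' : e * a * e = a * e * a := h1
    have h2' : e * b * e = b * e * b := h2
    rw [h1', h2'] at h3
    -- a e a b e b = a b -> e a b e = 1
    have h4 : e * (a * b) * e = 1 := by
      have : a * e * a * (b * e * b) = a * (e * (a * b) * e) * b := by simp only [mul_assoc]
      rw [this] at h3
      have h5 : a * (e * (a * b) * e) = a := by
        have := congrArg (· * b) h3
        simp only [mul_assoc, hbb, mul_one] at this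
        simpa [mul_assoc] using this
      have := congrArg (a * ·) h5
      simp only [← mul_assoc, haa, one_mul] at this
      simpa [mul_assoc] using this
    have h6 : a * b = 1 := by
      have : a * b = e⁻¹ * (e * (a * b) * e) * e⁻¹ := by group
      rw [this, h4, he1, mul_one, hee]
    rw [← hb1]; exact eq_inv_of_mul_eq_one_left h6
  · rintro ⟨h1, h2⟩
    exact h1.mul_right h2

end Cfsg.Agent.S0436
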