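import Cfsg.Statements.S0437
import Cfsg.Agent.S0436
import Mathlib

set_option autoImplicit false
open Cfsg

namespace Cfsg.Agent.S0437

open Cfsg.Agent.S0436 in
theorem key {G : Type*} [Group G] {E : Set G} (hE : Cfsg.IsThreeTranspositionSet E) {a b c e : G} (ha : a ∈ E) (hb : b ∈ E) (hc : c ∈ E) (he : e ∈ E) (h₁ : Commute a b) (h₂ : Commute a c) (h₃ : Commute b c) (h : Commute e (a * b * c)) : Commute e a ∨ Commute e b ∨ Commute e c := by
  have ha1 := inv_eq_of_mem hE ha
  have hb1 := inv_eq_of_mem hE hb
  have hc1 := inv_eq_of_mem hE hc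
  have he1 := inv_eq_of_mem hE he
  have haa := sq_one_of_mem hE ha
  have hbb := sq_one_of_mem hE hb
  have hcc := sq_one_of_mem hE hc
  have hee := sq_one_of_mem hE he
  rcases commute_or_braid hE he ha with h1 | h1
  · exact Or.inl h1
  rcases commute_or_braid hE he hb with h2 | h2
  · exact Or.inr (Or.inl h2)
  rcases commute_or_braid hE he hc with h3 | h3
  · exact Or.inr (Or.inr h3)
  left
  have h' : e * (a * b * c) = a * b * c * e := h
  -- Step A
  have hA : e * a * e * (e * b * e) * (e * c * e) = a * b * c := by
    have : e * a * e * (e * b * e) * (e * c * e) = e * a * (e * e) * b * (e * e) * c * e := by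
      simp only [mul_assoc]
    rw [this, hee, mul_one, mul_one]
    have : e * a * b * c * e = e * (a * b * c) * e := by simp only [mul_assoc]
    rw [this, h', mul_assoc, hee, mul_one]
  rw [h1, h2, h3] at hA
  -- Step C
  have hC : e * a * b * e * b * c * e = b := by
    have : e * a * b * e * b * c * e = a⁻¹ * (a * e * a * (b * e * b) * (c * e * c)) * c⁻¹ := by group
    rw [this, hA]; group
  -- Step D
  have hD : a * b * e * b * c = b * e * b := by
    have : a * b * e * b * c = e⁻¹ * (e * a * b * e * b * c * e) * e⁻¹ := by group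
    rw [this, hC, he1, h2]
  have hD2 : a * e * c = e := by
    have e1 : a * e * c = b⁻¹ * (a * b * e * b * c) * b⁻¹ := by
      have hab : a * b = b * a := h₁
      have hbc : b * c = c * b := h₃
      calc a * e * c = b⁻¹ * (b * a) * e * (c * b) * b⁻¹ := by group
        _ = b⁻¹ * (a * b) * e * (b * c) * b⁻¹ := by rw [hab, hbc]
        _ = b⁻¹ * (a * b * e * b * c) * b⁻¹ := by group
    rw [e1, hD]; group
  -- Step E
  have hE' : c = e * a * e := by
    have : c = e⁻¹ * a⁻¹ * (a * e * c) := by group
    rw [this, hD2, he1, ha1]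
  -- Step F
  have hF : a * (a * e * a) = (a * e * a) * a := by
    rw [← h1, ← hE']; exact h₂
  show e * a = a * e
  have l : a * (a * e * a) = e * a := by rw [← mul_assoc, ← mul_assoc, haa, one_mul]
  have r : (a * e * a) * a = a * e := by rw [mul_assoc, haa, mul_one]
  exact l.symm.trans (hF.trans r)

theorem result {G : Type*} [Group G] {E : Set G} (hE : Cfsg.IsThreeTranspositionSet E) {a b c e : G} (ha : a ∈ E) (hb : b ∈ E) (hc : c ∈ E) (he : e ∈ E) (hab : a ≠ b) (hac : a ≠ c) (hbc : b ≠ c) (h₁ : Commute a b) (h₂ : Commute a c) (h₃ : Commute b c) : Commute e (a * b * c) ↔ (Commute e a ∧ Commute e b ∧ Commute e c) := by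
  constructor
  · intro h
    rcases key hE ha hb hc he h₁ h₂ h₃ h with h1 | h1 | h1
    · -- e commutes with a, hence with b * c
      have hbc' : Commute e (b * c) := by
        have : b * c = a⁻¹ * (a * b * c) := by group
        rw [this]; exact h1.inv_right.mul_right h
      have := (Cfsg.Agent.S0436.result hE hb hc he hbc h₃).1 hbc'
      exact ⟨h1, this.1, this.2⟩
    · have hac' : Commute e (a * c) := by
        have : a * c = b⁻¹ * (a * b * c) := by
          have hab' : a * b = b * a := h₁
          rw [hab']; group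
        rw [this]; exact h1.inv_right.mul_right h
      have := (Cfsg.Agent.S0436.result hE ha hc he hac h₂).1 hac'
      exact ⟨this.1, h1, this.2⟩
    · have hab' : Commute e (a * b) := by
        have : a * b = (a * b * c) * c⁻¹ := by group
        rw [this]; exact h.mul_right h1.inv_right
      have := (Cfsg.Agent.S0436.result hE ha hb he hab h₁).1 hab'
      exact ⟨this.1, this.2, h1⟩
  · rintro ⟨h1, h2, h3⟩
    exact (h1.mul_right h2).mul_right h3

end Cfsg.Agent.S0437
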