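import Cfsg.Statements.S0439
import Mathlib

set_option autoImplicit false
open Cfsg

namespace Cfsg.Agent.S0439

open Equiv Equiv.Perm

theorem swap_mul_swap_pow {α : Type*} [DecidableEq α] [Fintype α] (a b c c' : α) (hab : a ≠ b) (hcc' : c ≠ c') :
    (swap a b * swap c c') ^ 2 = 1 ∨ (swap a b * swap c c') ^ 3 = 1 := by
  have three : ∀ x y z : α, x ≠ y → x ≠ z → y ≠ z → (swap x y * swap x z) ^ 3 = 1 := by
    intro x y z hxy hxz hyz
    have h := isThreeCycle_swap_mul_swap_same hxy hxz hyz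
    rw [← h.orderOf]; exact pow_orderOf_eq_one _
  by_cases h1 : c = a
  · subst h1
    by_cases h2 : c' = b
    · subst h2; left; simp
    · right; exact three c b c' hab hcc' (Ne.symm h2)
  by_cases h2 : c = b
  · subst h2
    by_cases h3 : c' = a
    · subst h3; left; rw [swap_comm]; simp
    · right; rw [swap_comm a c]; exact three c a c' (Ne.symm hab) hcc' (Ne.symm h3)
  by_cases h3 : c' = a
  · subst h3
    right; rw [swap_comm c c']; exact three c' b c hab (Ne.symm hcc') (Ne.symm h2)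
  by_cases h4 : c' = b
  · subst h4
    right; rw [swap_comm c c', swap_comm a c']; exact three c' a c (Ne.symm hab) (Ne.symm hcc') (Ne.symm h1)
  left
  have hd : Perm.Disjoint (swap a b) (swap c c') := by
    apply disjoint_swap_swap
    simp only [List.nodup_cons, List.mem_cons, List.not_mem_nil, or_false, not_or,
      List.nodup_nil, and_true, not_false_eq_true]
    exact ⟨⟨hab, Ne.symm h1, Ne.symm h3⟩, ⟨Ne.symm h2, Ne.symm h4⟩, hcc'⟩
  rw [hd.commute.mul_pow, sq, sq, swap_mul_self, swap_mul_self, one_mul]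

theorem result (n : ℕ) (hn : 2 ≤ n) : Cfsg.IsThreeTranspositionClass {σ : Equiv.Perm (Fin n) | σ.IsSwap} := by
  refine ⟨⟨?_, ?_⟩, ?_, ?_⟩
  · intro d hd
    exact IsSwap.orderOf hd
  · rintro d ⟨a, b, hab, rfl⟩ e ⟨c, c', hcc', rfl⟩
    exact swap_mul_swap_pow a b c c' hab hcc'
  · have h01 : (⟨0, by omega⟩ : Fin n) ≠ ⟨1, by omega⟩ := by
      intro h; simp [Fin.ext_iff] at h
    refine ⟨swap ⟨0, by omega⟩ ⟨1, by omega⟩, ⟨_, _, h01, rfl⟩, ?_⟩
    ext σ
    constructor
    · rintro ⟨c, c', hcc', rfl⟩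
      exact isConj_swap h01 hcc'
    · intro h
      have h : IsConj _ σ := h
      rw [isConj_iff] at h
      obtain ⟨g, rfl⟩ := h
      refine ⟨g ⟨0, by omega⟩, g ⟨1, by omega⟩, fun h => h01 (g.injective h), ?_⟩
      rw [← swap_apply_apply]
  · exact closure_isSwap

end Cfsg.Agent.S0439
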