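import Cfsg.Statements.S0440
import Cfsg.Agent.Lib.Helper8.SpGen
import Cfsg.Agent.Lib.Helper8.SpTransv
import Mathlib

set_option autoImplicit false
open Cfsg

namespace Cfsg.Agent.S0440

open Matrix Cfsg.Agent.Lib.Helper13 Cfsg.Agent.Lib.Helper8

theorem zmod2_ne_zero : ∀ c : ZMod 2, c ≠ 0 → c = 1 := by decide

theorem zmod2_neg : ∀ c : ZMod 2, -c = c := by decide

theorem zmod2_add_self : (1 : ZMod 2) + 1 = 0 := by decide

theorem zmod2_cases : ∀ c : ZMod 2, c = 0 ∨ c = 1 := by decide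

variable (n : ℕ)

/-- the set in the statement -/
def D : Set (Matrix.symplecticGroup (Fin n) (ZMod 2)) :=
  {g | ((g : Matrix (Fin n ⊕ Fin n) (Fin n ⊕ Fin n) (ZMod 2)) - 1).rank = 1}

theorem mem_D_iff (g : Matrix.symplecticGroup (Fin n) (ZMod 2)) :
    g ∈ D n ↔ ∃ w : Fin n ⊕ Fin n → ZMod 2, w ≠ 0 ∧ g = sympTransvElt n w 1 := by
  constructor
  · intro hg
    obtain ⟨a, c, ha, hc, h⟩ := exists_sympTransvection_of_rank_one n _ g.2 hg
    refine ⟨a, ha, ?_⟩
    apply Subtype.ext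
    rw [coe_sympTransvElt, h, zmod2_ne_zero c hc]
  · rintro ⟨w, hw, rfl⟩
    show (((sympTransvElt n w 1 : Matrix.symplecticGroup (Fin n) (ZMod 2)) :
      Matrix (Fin n ⊕ Fin n) (Fin n ⊕ Fin n) (ZMod 2)) - 1).rank = 1
    rw [coe_sympTransvElt]
    exact rank_sympTransvection_sub_one n w 1 hw one_ne_zero

theorem t_mul_self (w : Fin n ⊕ Fin n → ZMod 2) :
    sympTransvElt n w (1 : ZMod 2) * sympTransvElt n w 1 = 1 := by
  rw [sympTransvElt_mul, zmod2_add_self, sympTransvElt_zero]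

theorem t_inv (w : Fin n ⊕ Fin n → ZMod 2) :
    (sympTransvElt n w (1 : ZMod 2))⁻¹ = sympTransvElt n w 1 := by
  rw [inv_eq_iff_mul_eq_one]; exact t_mul_self n w

theorem t_ne_one (w : Fin n ⊕ Fin n → ZMod 2) (hw : w ≠ 0) : sympTransvElt n w (1 : ZMod 2) ≠ 1 := by
  intro h
  have h1 : sympTransvElt n w (1 : ZMod 2) ∈ D n := (mem_D_iff n _).2 ⟨w, hw, rfl⟩
  rw [h] at h1
  have : ((1 : Matrix.symplecticGroup (Fin n) (ZMod 2)) : Matrix (Fin n ⊕ Fin n) (Fin n ⊕ Fin n) (ZMod 2)) - 1 = 0 := by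
    simp
  have h2 : (((1 : Matrix.symplecticGroup (Fin n) (ZMod 2)) : Matrix (Fin n ⊕ Fin n) (Fin n ⊕ Fin n) (ZMod 2)) - 1).rank = 1 := h1
  rw [this, Matrix.rank_zero] at h2
  exact zero_ne_one h2

theorem t_conj (u v : Fin n ⊕ Fin n → ZMod 2) :
    sympTransvElt n u (1 : ZMod 2) * sympTransvElt n v 1 * sympTransvElt n u 1 =
      sympTransvElt n (v + Cfsg.sympForm n (ZMod 2) v u • u) 1 := by
  have := conj_sympTransvElt n (sympTransvElt n u (1 : ZMod 2)) v 1
  rw [t_inv, coe_sympTransvElt, sympTransvection_mulVec, one_mul] at this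
  exact this

theorem pow_cases (u v : Fin n ⊕ Fin n → ZMod 2) :
    (sympTransvElt n u (1 : ZMod 2) * sympTransvElt n v 1) ^ 2 = 1 ∨
      (sympTransvElt n u (1 : ZMod 2) * sympTransvElt n v 1) ^ 3 = 1 := by
  set a := sympTransvElt n u (1 : ZMod 2) with ha
  set b := sympTransvElt n v (1 : ZMod 2) with hb
  have haa : a * a = 1 := t_mul_self n u
  have hbb : b * b = 1 := t_mul_self n v
  rcases Cfsg.Agent.S0440.zmod2_cases (Cfsg.sympForm n (ZMod 2) v u) with h | h
  · left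
    have h1 : a * b * a = b := by
      rw [ha, hb, t_conj, h, zero_smul, add_zero]
    have hcomm : a * b = b * a := by
      calc a * b = a * b * (a * a) := by rw [haa, mul_one]
        _ = (a * b * a) * a := by simp only [mul_assoc]
        _ = b * a := by rw [h1]
    rw [sq]
    calc a * b * (a * b) = a * (b * a) * b := by simp only [mul_assoc]
      _ = a * (a * b) * b := by rw [hcomm]
      _ = (a * a) * (b * b) := by simp only [mul_assoc]
      _ = 1 := by rw [haa, hbb, one_mul]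
  · right
    have h' : Cfsg.sympForm n (ZMod 2) u v = 1 := by
      rw [sympForm_swap, h]; exact zmod2_neg 1
    have h1 : a * b * a = sympTransvElt n (v + u) 1 := by
      rw [ha, hb, t_conj, h, one_smul]
    have h2 : b * a * b = sympTransvElt n (v + u) 1 := by
      rw [ha, hb, t_conj, h', one_smul, add_comm]
    rw [pow_succ, pow_succ, pow_one]
    calc a * b * (a * b) * (a * b) = (a * b * a) * (b * a * b) := by simp only [mul_assoc]
      _ = 1 := by rw [h1, h2, t_mul_self]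

theorem result (n : ℕ) (hn : 1 ≤ n) : Cfsg.IsThreeTranspositionClass {g : Matrix.symplecticGroup (Fin n) (ZMod 2) | ((g : Matrix (Fin n ⊕ Fin n) (Fin n ⊕ Fin n) (ZMod 2)) - 1).rank = 1} := by
  show Cfsg.IsThreeTranspositionClass (D n)
  refine ⟨⟨?_, ?_⟩, ?_, ?_⟩
  · intro d hd
    obtain ⟨w, hw, rfl⟩ := (mem_D_iff n d).1 hd
    have : Fact (Nat.Prime 2) := ⟨Nat.prime_two⟩
    apply orderOf_eq_prime
    · rw [sq]; exact t_mul_self n w
    · exact t_ne_one n w hw
  · intro d hd e he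
    obtain ⟨u, hu, rfl⟩ := (mem_D_iff n d).1 hd
    obtain ⟨v, hv, rfl⟩ := (mem_D_iff n e).1 he
    exact pow_cases n u v
  · let e0 : Fin n ⊕ Fin n → ZMod 2 := Pi.single (Sum.inl ⟨0, by omega⟩) 1
    have he0 : e0 ≠ 0 := by
      intro h
      have := congrFun h (Sum.inl ⟨0, by omega⟩)
      simp [e0] at this
    refine ⟨sympTransvElt n e0 1, (mem_D_iff n _).2 ⟨e0, he0, rfl⟩, ?_⟩
    ext g
    constructor
    · intro hg
      obtain ⟨w, hw, rfl⟩ := (mem_D_iff n g).1 hg
      obtain ⟨A, -, hA⟩ := exists_transv_of_ne_zero n e0 w he0 hw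
      show IsConj _ _
      rw [isConj_iff]
      refine ⟨A, ?_⟩
      rw [conj_sympTransvElt, hA]
    · intro hg
      have hg' : IsConj (sympTransvElt n e0 1) g := hg
      rw [isConj_iff] at hg'
      obtain ⟨A, rfl⟩ := hg'
      rw [conj_sympTransvElt]
      exact (mem_D_iff n _).2 ⟨_, mulVec_ne_zero_of_symp n A e0 he0, rfl⟩
  · rw [eq_top_iff, ← sympTransvSubgroup_eq_top n]
    unfold sympTransvSubgroup
    rw [Subgroup.closure_le]
    rintro A ⟨w, c, hA⟩
    have hA' : A = sympTransvElt n w c := Subtype.ext hA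
    by_cases hw : w = 0
    · rw [hA', hw, sympTransvElt_zero_vec]; exact Subgroup.one_mem _
    by_cases hc : c = 0
    · rw [hA', hc, sympTransvElt_zero]; exact Subgroup.one_mem _
    apply Subgroup.subset_closure
    rw [hA', zmod2_ne_zero c hc]
    exact (mem_D_iff n _).2 ⟨w, hw, rfl⟩

end Cfsg.Agent.S0440
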