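import Cfsg.Statements.S0442
import Mathlib

set_option autoImplicit false
open Cfsg

namespace Cfsg.Agent.S0442

theorem inv_of_order_two {G : Type*} [Group G] (a : G) (ha : orderOf a = 2) : a⁻¹ = a := by
  have h : a ^ 2 = 1 := by rw [← ha]; exact pow_orderOf_eq_one a
  rw [inv_eq_iff_mul_eq_one, ← sq]; exact h

/-- if `a * c * a = c⁻¹` with `a` an involution then `a * c^m * a = (c^m)⁻¹`. -/
theorem conj_pow_inv {G : Type*} [Group G] (a c : G) (ha : a * a = 1) (h : a * c * a = c⁻¹) (m : ℕ) :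
    a * c ^ m * a = (c ^ m)⁻¹ := by
  have ha' : a⁻¹ = a := by rw [inv_eq_iff_mul_eq_one]; exact ha
  have : a * c ^ m * a⁻¹ = (a * c * a⁻¹) ^ m := by rw [_root_.conj_pow]
  rw [ha'] at this
  rw [this, h, inv_pow]

/-- A standard trick for producing elements of an involution centraliser: for an involution a and an element g, let b be the conjugate g⁻¹ * a * g. If a * b has odd order 2m + 1 then g * (a * b) ^ m commutes with a; if a * b has even order 2m then (a * b) ^ m and (a * (g * a * g⁻¹)) ^ m commute with a. -/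
theorem result {G : Type*} [Group G] (a g : G) (ha : orderOf a = 2) : (∀ m : ℕ, orderOf (a * (g⁻¹ * a * g)) = 2 * m + 1 → Commute (g * (a * (g⁻¹ * a * g)) ^ m) a) ∧ (∀ m : ℕ, orderOf (a * (g⁻¹ * a * g)) = 2 * m → Commute ((a * (g⁻¹ * a * g)) ^ m) a ∧ Commute ((a * (g * a * g⁻¹)) ^ m) a) := by
  have hinv : a⁻¹ = a := inv_of_order_two a ha
  have haa : a * a = 1 := by rw [← sq, ← ha]; exact pow_orderOf_eq_one a
  have hbb : (g⁻¹ * a * g) * (g⁻¹ * a * g) = 1 := by
    have : (g⁻¹ * a * g) * (g⁻¹ * a * g) = g⁻¹ * (a * a) * g := by group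
    rw [this, haa]; group
  have hb'b' : (g * a * g⁻¹) * (g * a * g⁻¹) = 1 := by
    have : (g * a * g⁻¹) * (g * a * g⁻¹) = g * (a * a) * g⁻¹ := by group
    rw [this, haa]; group
  have hbinv : (g⁻¹ * a * g)⁻¹ = g⁻¹ * a * g := by rw [inv_eq_iff_mul_eq_one]; exact hbb
  have hb'inv : (g * a * g⁻¹)⁻¹ = g * a * g⁻¹ := by rw [inv_eq_iff_mul_eq_one]; exact hb'b'
  -- a c a = c⁻¹
  have hc : a * (a * (g⁻¹ * a * g)) * a = (a * (g⁻¹ * a * g))⁻¹ := by
    rw [mul_inv_rev, hinv, hbinv, ← mul_assoc a a, haa, one_mul]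
  have hd : a * (a * (g * a * g⁻¹)) * a = (a * (g * a * g⁻¹))⁻¹ := by
    rw [mul_inv_rev, hinv, hb'inv, ← mul_assoc a a, haa, one_mul]
  refine ⟨fun m hm => ?_, fun m hm => ⟨?_, ?_⟩⟩
  · set c := a * (g⁻¹ * a * g) with hcdef
    have hcm := conj_pow_inv a c haa hc m
    have hpow : c ^ (2 * m + 1) = 1 := by rw [← hm]; exact pow_orderOf_eq_one c
    -- c^m a = b c^m ... show g c^m a = a g c^m
    -- c^m * a = a * (c^m)⁻¹
    have h1 : c ^ m * a = a * (c ^ m)⁻¹ := by
      rw [← hcm, ← mul_assoc, ← mul_assoc, haa, one_mul]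
    -- (c^m)⁻¹ = c^(m+1)
    have h2 : (c ^ m)⁻¹ = c ^ (m + 1) := by
      rw [inv_eq_iff_mul_eq_one, ← pow_add]
      have : m + (m + 1) = 2 * m + 1 := by ring
      rw [this, hpow]
    -- a * c = b
    have h3 : a * c = g⁻¹ * a * g := by rw [hcdef, ← mul_assoc, haa, one_mul]
    show g * c ^ m * a = a * (g * c ^ m)
    rw [mul_assoc, h1, h2, pow_succ', ← mul_assoc a, h3]
    group
  · set c := a * (g⁻¹ * a * g) with hcdef
    have hcm := conj_pow_inv a c haa hc m
    have hpow : c ^ (2 * m) = 1 := by rw [← hm]; exact pow_orderOf_eq_one c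
    have h2 : (c ^ m)⁻¹ = c ^ m := by
      rw [inv_eq_iff_mul_eq_one, ← pow_add]
      have : m + m = 2 * m := by ring
      rw [this, hpow]
    show c ^ m * a = a * c ^ m
    rw [h2] at hcm
    calc c ^ m * a = (a * c ^ m * a) * a := by rw [hcm]
      _ = a * c ^ m := by rw [mul_assoc, haa, mul_one]
  · set c := a * (g⁻¹ * a * g) with hcdef
    set d := a * (g * a * g⁻¹) with hddef
    have hdm := conj_pow_inv a d haa hd m
    have hpow : c ^ (2 * m) = 1 := by rw [← hm]; exact pow_orderOf_eq_one c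
    have hdc : d = g * c⁻¹ * g⁻¹ := by
      rw [hcdef, hddef, mul_inv_rev, hbinv, hinv]; group
    have hdpow : d ^ (2 * m) = 1 := by
      rw [hdc, _root_.conj_pow, inv_pow, hpow]; group
    have h2 : (d ^ m)⁻¹ = d ^ m := by
      rw [inv_eq_iff_mul_eq_one, ← pow_add]
      have : m + m = 2 * m := by ring
      rw [this, hdpow]
    show d ^ m * a = a * d ^ m
    rw [h2] at hdm
    calc d ^ m * a = (a * d ^ m * a) * a := by rw [hdm]
      _ = a * d ^ m := by rw [mul_assoc, haa, mul_one]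

end Cfsg.Agent.S0442
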