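import Cfsg.Statements.S0443
import Mathlib

set_option autoImplicit false
open Cfsg

namespace Cfsg.Agent.S0443

/-- An element of order 2 centralising a Sylow 2-subgroup lies in it. -/
theorem mem_sylow_of_centralizes {G : Type*} [Group G] (t : G) (ht : orderOf t = 2)
    (P : Sylow 2 G) (hP : ∀ x ∈ P, x * t = t * x) : t ∈ P := by
  have hK : IsPGroup 2 (Subgroup.zpowers t) := by
    apply IsPGroup.of_card (n := 1)
    rw [Nat.card_zpowers, ht, pow_one]
  have hnorm : Subgroup.zpowers t ≤ Subgroup.normalizer ((P : Subgroup G) : Set G) := by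
    rw [Subgroup.zpowers_le]
    rw [Subgroup.mem_normalizer_iff]
    intro x
    constructor
    · intro hx
      have h1 : t * x * t⁻¹ = x := by
        rw [← hP x hx]; group
      rw [h1]; exact hx
    · intro hx
      have h2 := hP _ hx
      have h3 : x = t * x * t⁻¹ := by
        have : t * x * t⁻¹ * t = t * (t * x * t⁻¹) := h2
        have h4 : t * x = t * (t * x * t⁻¹) := by
          rw [← this]; group
        exact mul_left_cancel h4
      rw [h3]; exact hx
  have hsup : IsPGroup 2 ((P : Subgroup G) ⊔ Subgroup.zpowers t : Subgroup G) :=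
    IsPGroup.to_sup_of_normal_left' P.isPGroup' hK hnorm
  have := P.is_maximal' hsup le_sup_left
  have ht' : t ∈ ((P : Subgroup G) ⊔ Subgroup.zpowers t : Subgroup G) :=
    (le_sup_right : Subgroup.zpowers t ≤ _) (Subgroup.mem_zpowers t)
  rw [this] at ht'
  exact ht'

theorem result {G : Type*} [Group G] [Finite G] (t : G) (ht : orderOf t = 2) : Cfsg.IsTwoCentralInvolution t ↔ ∃ P : Sylow 2 G, (P : Subgroup G) ≤ Subgroup.centralizer ({t} : Set G) := by
  constructor
  · rintro ⟨_, P, _, hP⟩
    refine ⟨P, fun x hx => ?_⟩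
    rw [Subgroup.mem_centralizer_iff]
    intro h hh
    rw [Set.mem_singleton_iff] at hh
    subst hh
    exact (hP x hx).symm
  · rintro ⟨P, hP⟩
    have hP' : ∀ x ∈ P, x * t = t * x := by
      intro x hx
      have := hP hx
      rw [Subgroup.mem_centralizer_iff] at this
      exact (this t rfl).symm
    exact ⟨ht, P, mem_sylow_of_centralizes t ht P hP', hP'⟩

end Cfsg.Agent.S0443
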