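import Cfsg.Statements.S0444
import Cfsg.Agent.S0436
import Mathlib

set_option autoImplicit false
open Cfsg

namespace Cfsg.Agent.S0444

open Cfsg.Agent.S0436 in
theorem result {G : Type*} [Group G] {E : Set G} (hE : Cfsg.IsThreeTranspositionSet E) {d e : G} (hd : d ∈ E) (he : e ∈ E) (h : ¬ Commute d e) : Nonempty (Subgroup.closure ({d, e} : Set G) ≃* Equiv.Perm (Fin 3)) := by
  classical
  have hd1 := inv_eq_of_mem hE hd
  have he1 := inv_eq_of_mem hE he
  have hdd := sq_one_of_mem hE hd
  have hee := sq_one_of_mem hE he
  have hbraid : d * e * d = e * d * e := by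
    rcases commute_or_braid hE hd he with h1 | h1
    · exact absurd h1 h
    · exact h1
  have hdd' : ∀ x : G, d * (d * x) = x := fun x => by rw [← mul_assoc, hdd, one_mul]
  have hee' : ∀ x : G, e * (e * x) = x := fun x => by rw [← mul_assoc, hee, one_mul]
  have hbr' : ∀ x : G, e * (d * (e * x)) = d * (e * (d * x)) := fun x => by
    have : e * (d * (e * x)) = (e * d * e) * x := by simp only [mul_assoc]
    rw [this, ← hbraid]; simp only [mul_assoc]
  have hbr0 : e * (d * e) = d * (e * d) := by
    have := hbr' 1; simpa using this
  set H := Subgroup.closure ({d, e} : Set G) with hH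
  have hdH : d ∈ H := Subgroup.subset_closure (by simp)
  have heH : e ∈ H := Subgroup.subset_closure (by simp)
  have hsub : ∀ x ∈ H, x = 1 ∨ x = d ∨ x = e ∨ x = d * (e * d) ∨ x = d * e ∨ x = e * d := by
    intro x hx
    induction hx using Subgroup.closure_induction_left with
    | one => exact Or.inl rfl
    | mul_left g hg y hy ih =>
      rcases hg with rfl | rfl
      · rcases ih with rfl | rfl | rfl | rfl | rfl | rfl
        · simp
        · simp [hdd]
        · simp
        · simp [hdd']
        · simp [hdd']
        · simp
      · rcases ih with rfl | rfl | rfl | rfl | rfl | rfl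
        · simp
        · simp
        · simp [hee]
        · rw [hbr', hdd]; simp
        · rw [hbr0]; simp
        · simp [hee']
    | inv_mul_cancel g hg y hy ih =>
      rcases hg with rfl | rfl
      · rw [hd1]
        rcases ih with rfl | rfl | rfl | rfl | rfl | rfl
        · simp
        · simp [hdd]
        · simp
        · simp [hdd']
        · simp [hdd']
        · simp
      · rw [he1]
        rcases ih with rfl | rfl | rfl | rfl | rfl | rfl
        · simp
        · simp
        · simp [hee]
        · rw [hbr', hdd]; simp
        · rw [hbr0]; simp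
        · simp [hee']
  have hsubset : (H : Set G) ⊆ (({1, d, e, d * (e * d), d * e, e * d} : Finset G) : Set G) := by
    intro x hx
    have := hsub x hx
    simpa using this
  have hfin : (H : Set G).Finite := (Finset.finite_toSet _).subset hsubset
  have : Finite H := hfin.to_subtype
  have hle : Nat.card H ≤ 6 := by
    have h1 : Nat.card H = (H : Set G).ncard := rfl
    rw [h1]
    refine (Set.ncard_le_ncard hsubset (Finset.finite_toSet _)).trans ?_
    rw [Set.ncard_coe_finset]
    exact Finset.card_le_six
  have hd2 : orderOf d = 2 := hE.1 d hd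
  have hde3 : orderOf (d * e) = 3 := by
    have : Fact (Nat.Prime 3) := ⟨Nat.prime_three⟩
    apply orderOf_eq_prime
    · rw [pow_succ, pow_succ, pow_one]
      have : d * e * (d * e) * (d * e) = (d * e * d) * (e * d * e) := by simp only [mul_assoc]
      rw [this, ← hbraid]
      simp only [mul_assoc, hdd', hee', hdd]
    · intro h1
      apply h
      have : d = e := by
        rw [← he1]; exact eq_inv_of_mul_eq_one_left h1
      rw [this]
  have h2dvd : 2 ∣ Nat.card H := by
    rw [← hd2]; exact Subgroup.orderOf_dvd_natCard H hdH
  have h3dvd : 3 ∣ Nat.card H := by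
    rw [← hde3]; exact Subgroup.orderOf_dvd_natCard H (H.mul_mem hdH heH)
  have hpos : 0 < Nat.card H := Nat.card_pos
  have hcard : Nat.card H = 6 := by omega
  -- the subgroup K
  let d' : H := ⟨d, hdH⟩
  let e' : H := ⟨e, heH⟩
  let K : Subgroup H := Subgroup.zpowers d'
  have hd'2 : orderOf d' = 2 := by rw [Subgroup.orderOf_mk]; exact hd2
  have hK : Nat.card K = 2 := by rw [Nat.card_zpowers]; exact hd'2
  have hidx : K.index = 3 := by
    have := K.card_mul_index
    rw [hK, hcard] at this
    omega
  have hKmem : ∀ x : H, x ∈ K → x = 1 ∨ x = d' := by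
    intro x hx
    rw [Subgroup.mem_zpowers_iff] at hx
    obtain ⟨k, rfl⟩ := hx
    have hsq : d' ^ (2 : ℤ) = 1 := by
      have : d' ^ 2 = 1 := by rw [← hd'2]; exact pow_orderOf_eq_one d'
      exact_mod_cast this
    rcases Int.emod_two_eq_zero_or_one k with hk | hk
    · left
      have : k = 2 * (k / 2) := by omega
      rw [this, zpow_mul, hsq, one_zpow]
    · right
      have : k = 2 * (k / 2) + 1 := by omega
      rw [this, zpow_add, zpow_mul, hsq, one_zpow, one_mul, zpow_one]
  let φ := MulAction.toPermHom H (H ⧸ K)
  have hker : φ.ker = ⊥ := by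
    rw [← Subgroup.normalCore_eq_ker, eq_bot_iff]
    intro x hx
    have hxK : x ∈ K := Subgroup.normalCore_le K hx
    rcases hKmem x hxK with rfl | rfl
    · exact Subgroup.mem_bot.2 rfl
    · exfalso
      have hn : (K.normalCore).Normal := Subgroup.normalCore_normal K
      have h1 : e' * d' * e'⁻¹ ∈ K := Subgroup.normalCore_le K (hn.conj_mem d' hx e')
      rcases hKmem _ h1 with h2 | h2
      · have h3 := congrArg Subtype.val h2
        simp only [d', e', Subgroup.coe_mul, Subgroup.coe_inv, Subgroup.coe_one] at h3
        have : d = 1 := by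
          have : d = e⁻¹ * (e * d * e⁻¹) * e := by group
          rw [this, h3]; group
        apply h; rw [this]; exact Commute.one_left e
      · have h3 := congrArg Subtype.val h2
        simp only [d', e', Subgroup.coe_mul, Subgroup.coe_inv] at h3
        apply h
        show d * e = e * d
        have : e * d = (e * d * e⁻¹) * e := by group
        rw [this, h3]
  have hinj : Function.Injective φ := (MonoidHom.ker_eq_bot_iff φ).1 hker
  have : Finite (H ⧸ K) := by
    apply Nat.finite_of_card_ne_zero
    rw [← Subgroup.index_eq_card, hidx]; norm_num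
  have hbij : Function.Bijective φ := by
    rw [Nat.bijective_iff_injective_and_card]
    refine ⟨hinj, ?_⟩
    rw [Nat.card_perm, ← Subgroup.index_eq_card, hidx, hcard]
    rfl
  have hq : Nat.card (H ⧸ K) = 3 := by rw [← Subgroup.index_eq_card, hidx]
  exact ⟨(MulEquiv.ofBijective φ hbij).trans (Equiv.permCongrHom (Finite.equivFinOfCardEq hq))⟩

end Cfsg.Agent.S0444
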