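import Cfsg.Statements.S0445
import Mathlib

set_option autoImplicit false
open Cfsg

namespace Cfsg.Agent.S0445

open Matrix

theorem comm_iff_shape (M : Matrix (Fin 5) (Fin 5) (ZMod 2)) :
    M * Matrix.transvection 0 1 1 = Matrix.transvection 0 1 1 * M ↔
    ((∀ i, i ≠ 0 → M i 0 = 0) ∧ (∀ j, j ≠ 1 → M 1 j = 0) ∧ M 0 0 = M 1 1) := by
  constructor
  · intro h
    have key : ∀ i j, (M * Matrix.transvection 0 1 1 : Matrix (Fin 5) (Fin 5) (ZMod 2)) i j
        = (Matrix.transvection 0 1 1 * M : Matrix (Fin 5) (Fin 5) (ZMod 2)) i j := by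
      intro i j; rw [h]
    refine ⟨?_, ?_, ?_⟩
    · intro i hi
      have := key i 1
      fin_cases i <;> simp_all [Matrix.mul_apply, Fin.sum_univ_five, Matrix.transvection, Matrix.single_apply]
    · intro j hj
      have := key 0 j
      fin_cases j <;> simp_all [Matrix.mul_apply, Fin.sum_univ_five, Matrix.transvection, Matrix.single_apply]
    · have := key 0 1
      simp [Matrix.mul_apply, Fin.sum_univ_five, Matrix.transvection, Matrix.single_apply] at this
      rw [add_comm] at this; exact add_left_cancel this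
  · rintro ⟨h1, h2, h3⟩
    have a1 := h1 1 (by decide)
    have a2 := h1 2 (by decide)
    have a3 := h1 3 (by decide)
    have a4 := h1 4 (by decide)
    have b2 := h2 2 (by decide)
    have b3 := h2 3 (by decide)
    have b4 := h2 4 (by decide)
    ext i j
    fin_cases i <;> fin_cases j <;> simp [Matrix.mul_apply, Fin.sum_univ_five, Matrix.transvection, Matrix.single_apply, a1, a2, a3, a4, b2, b3, b4, h3] <;> ring

theorem det_of_shape (M : Matrix (Fin 5) (Fin 5) (ZMod 2))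
    (h1 : ∀ i, i ≠ 0 → M i 0 = 0) (h2 : ∀ j, j ≠ 1 → M 1 j = 0) :
    M.det = M 0 0 * M 1 1 * (M.submatrix (fun i : Fin 3 => i.succ.succ) (fun i : Fin 3 => i.succ.succ)).det := by
  rw [Matrix.det_succ_column_zero, Fin.sum_univ_succ]
  have hz : ∀ i : Fin 4, M i.succ 0 = 0 := fun i => h1 _ (Fin.succ_ne_zero i)
  simp only [hz, mul_zero, zero_mul, Finset.sum_const_zero, add_zero, Fin.val_zero, pow_zero, one_mul,
    Fin.succAbove_zero]
  rw [Matrix.det_succ_row_zero, Fin.sum_univ_succ]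
  have hz' : ∀ j : Fin 3, M 1 j.succ.succ = 0 := fun j => h2 _ (by
    intro h; have := congrArg Fin.val h; simp at this)
  simp only [submatrix_apply, Fin.succ_zero_eq_one, hz', mul_zero, zero_mul, Finset.sum_const_zero, add_zero, Fin.val_zero, pow_zero, one_mul,
    Fin.succAbove_zero, submatrix_submatrix]
  rw [mul_assoc]
  rfl

theorem unit_eq_one : ∀ x : ZMod 2, IsUnit x → x = 1 := by decide

theorem mul_eq_one_zmod2 : ∀ a b c : ZMod 2, a * b * c = 1 → a = 1 ∧ b = 1 ∧ c = 1 := by decide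

/-- the matrix with prescribed entries -/
def mk (r : Fin 4 → ZMod 2) (c : Fin 3 → ZMod 2) (A : Matrix (Fin 3) (Fin 3) (ZMod 2)) :
    Matrix (Fin 5) (Fin 5) (ZMod 2) :=
  !![1, r 0, r 1, r 2, r 3;
     0, 1, 0, 0, 0;
     0, c 0, A 0 0, A 0 1, A 0 2;
     0, c 1, A 1 0, A 1 1, A 1 2;
     0, c 2, A 2 0, A 2 1, A 2 2]

theorem mk_shape1 (r : Fin 4 → ZMod 2) (c : Fin 3 → ZMod 2) (A : Matrix (Fin 3) (Fin 3) (ZMod 2)) :
    ∀ i, i ≠ 0 → mk r c A i 0 = 0 := by
  intro i hi
  fin_cases i <;> simp_all [mk]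

theorem mk_shape2 (r : Fin 4 → ZMod 2) (c : Fin 3 → ZMod 2) (A : Matrix (Fin 3) (Fin 3) (ZMod 2)) :
    ∀ j, j ≠ 1 → mk r c A 1 j = 0 := by
  intro j hj
  fin_cases j <;> simp_all [mk]

theorem mk_sub (r : Fin 4 → ZMod 2) (c : Fin 3 → ZMod 2) (A : Matrix (Fin 3) (Fin 3) (ZMod 2)) :
    (mk r c A).submatrix (fun i : Fin 3 => i.succ.succ) (fun i : Fin 3 => i.succ.succ) = A := by
  ext i j
  fin_cases i <;> fin_cases j <;> rfl

theorem mk_det (r : Fin 4 → ZMod 2) (c : Fin 3 → ZMod 2) (A : Matrix (Fin 3) (Fin 3) (ZMod 2)) :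
    (mk r c A).det = A.det := by
  rw [det_of_shape _ (mk_shape1 r c A) (mk_shape2 r c A), mk_sub]
  simp [mk]

theorem mk_of_shape (M : Matrix (Fin 5) (Fin 5) (ZMod 2))
    (h1 : ∀ i, i ≠ 0 → M i 0 = 0) (h2 : ∀ j, j ≠ 1 → M 1 j = 0) (h0 : M 0 0 = 1) (h11 : M 1 1 = 1) :
    mk (fun j => M 0 j.succ) (fun i => M i.succ.succ 1)
      (M.submatrix (fun i : Fin 3 => i.succ.succ) (fun i : Fin 3 => i.succ.succ)) = M := by
  have a1 := h1 1 (by decide)
  have a2 := h1 2 (by decide)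
  have a3 := h1 3 (by decide)
  have a4 := h1 4 (by decide)
  have b2 := h2 2 (by decide)
  have b3 := h2 3 (by decide)
  have b4 := h2 4 (by decide)
  ext i j
  fin_cases i <;> fin_cases j <;> simp [mk, h0, h11, a1, a2, a3, a4, b2, b3, b4]

/-- the element of the special linear group with prescribed entries -/
def mkSL (r : Fin 4 → ZMod 2) (c : Fin 3 → ZMod 2) (A : GL (Fin 3) (ZMod 2)) :
    Matrix.SpecialLinearGroup (Fin 5) (ZMod 2) :=
  ⟨mk r c A, by rw [mk_det]; exact unit_eq_one _ (Matrix.isUnits_det_units A)⟩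

theorem result (s : Matrix.SpecialLinearGroup (Fin 5) (ZMod 2)) (hs : (s : Matrix (Fin 5) (Fin 5) (ZMod 2)) = Matrix.transvection 0 1 1) : Nat.card (Subgroup.centralizer ({s} : Set (Matrix.SpecialLinearGroup (Fin 5) (ZMod 2)))) = 21504 := by
  let T := (Fin 4 → ZMod 2) × (Fin 3 → ZMod 2) × GL (Fin 3) (ZMod 2)
  have hdetA : ∀ A : GL (Fin 3) (ZMod 2), (A : Matrix (Fin 3) (Fin 3) (ZMod 2)).det = 1 :=
    fun A => unit_eq_one _ (Matrix.isUnits_det_units A)
  have hmem : ∀ g : Matrix.SpecialLinearGroup (Fin 5) (ZMod 2),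
      g ∈ Subgroup.centralizer ({s} : Set (Matrix.SpecialLinearGroup (Fin 5) (ZMod 2))) ↔
      (g : Matrix (Fin 5) (Fin 5) (ZMod 2)) * Matrix.transvection 0 1 1
        = Matrix.transvection 0 1 1 * (g : Matrix (Fin 5) (Fin 5) (ZMod 2)) := by
    intro g
    rw [Subgroup.mem_centralizer_iff]
    constructor
    · intro h
      have := h s rfl
      have h2 := congrArg (fun x : Matrix.SpecialLinearGroup (Fin 5) (ZMod 2) =>
        (x : Matrix (Fin 5) (Fin 5) (ZMod 2))) this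
      simp only [Matrix.SpecialLinearGroup.coe_mul, hs] at h2
      exact h2.symm
    · intro h t ht
      rw [Set.mem_singleton_iff] at ht
      subst ht
      apply Subtype.ext
      simp only [Matrix.SpecialLinearGroup.coe_mul, hs]
      exact h.symm
  let Φ : T → Subgroup.centralizer ({s} : Set (Matrix.SpecialLinearGroup (Fin 5) (ZMod 2))) :=
    fun t => ⟨mkSL t.1 t.2.1 t.2.2, by
      rw [hmem, comm_iff_shape]
      exact ⟨mk_shape1 _ _ _, mk_shape2 _ _ _, by simp [mkSL, mk]⟩⟩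
  have hΦ : ∀ t : T, ((Φ t : Matrix.SpecialLinearGroup (Fin 5) (ZMod 2)) :
      Matrix (Fin 5) (Fin 5) (ZMod 2)) = mk t.1 t.2.1 t.2.2 := fun t => rfl
  have hinj : Function.Injective Φ := by
    rintro ⟨r, c, A⟩ ⟨r', c', A'⟩ h
    have h1 : mk r c A = mk r' c' A' := by
      have := congrArg (fun x : Subgroup.centralizer ({s} : Set (Matrix.SpecialLinearGroup (Fin 5) (ZMod 2))) => ((x : Matrix.SpecialLinearGroup (Fin 5) (ZMod 2)) :
        Matrix (Fin 5) (Fin 5) (ZMod 2))) h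
      simpa [hΦ] using this
    have e : ∀ i j, mk r c A i j = mk r' c' A' i j := fun i j => by rw [h1]
    have hr : r = r' := by
      ext j
      fin_cases j
      · exact e 0 1
      · exact e 0 2
      · exact e 0 3
      · exact e 0 4
    have hc : c = c' := by
      ext i
      fin_cases i
      · exact e 2 1
      · exact e 3 1
      · exact e 4 1
    have hA : A = A' := by
      apply Units.ext
      have := congrArg (fun M : Matrix (Fin 5) (Fin 5) (ZMod 2) =>
        M.submatrix (fun i : Fin 3 => i.succ.succ) (fun i : Fin 3 => i.succ.succ)) h1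
      simpa [mk_sub] using this
    rw [hr, hc, hA]
  have hsurj : Function.Surjective Φ := by
    rintro ⟨g, hg⟩
    rw [hmem, comm_iff_shape] at hg
    obtain ⟨h1, h2, h3⟩ := hg
    have hdet : (g : Matrix (Fin 5) (Fin 5) (ZMod 2)).det = 1 := g.2
    rw [det_of_shape _ h1 h2] at hdet
    obtain ⟨h00, h11, hA⟩ := mul_eq_one_zmod2 _ _ _ hdet
    let A : GL (Fin 3) (ZMod 2) := Matrix.GeneralLinearGroup.mkOfDetNeZero
      ((g : Matrix (Fin 5) (Fin 5) (ZMod 2)).submatrix (fun i : Fin 3 => i.succ.succ) (fun i : Fin 3 => i.succ.succ))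
      (by rw [hA]; exact one_ne_zero)
    refine ⟨(fun j => (g : Matrix (Fin 5) (Fin 5) (ZMod 2)) 0 j.succ,
      fun i => (g : Matrix (Fin 5) (Fin 5) (ZMod 2)) i.succ.succ 1, A), ?_⟩
    apply Subtype.ext
    apply Subtype.ext
    rw [hΦ]
    exact mk_of_shape _ h1 h2 h00 h11
  rw [← Nat.card_congr (Equiv.ofBijective Φ ⟨hinj, hsurj⟩)]
  show Nat.card ((Fin 4 → ZMod 2) × (Fin 3 → ZMod 2) × GL (Fin 3) (ZMod 2)) = 21504
  rw [Nat.card_prod, Nat.card_prod, Nat.card_fun, Nat.card_fun, Matrix.card_GL_field]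
  simp [Nat.card_zmod, Fin.prod_univ_succ]

end Cfsg.Agent.S0445
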