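import Cfsg.Statements.S0447
import Cfsg.Agent.Lib.Helper65.SpinCover
import Cfsg.Agent.Lib.Helper65.StemLemmas

set_option autoImplicit false
open Cfsg

namespace Cfsg.Agent.S0447


open Cfsg.Agent.Lib.Helper65 Cfsg.Agent.Lib.Helper65.SpinCover Equiv

/-- A central subgroup contained in the commutator subgroup has no complement. -/
theorem no_complement_of_le_commutator {H : Type*} [Group H] [Finite H] (Z : Subgroup H)
    (hZ2 : Nat.card Z = 2) (z : H) (hzZ : z ∈ Z) (hz1 : z ≠ 1) (hzc : z ∈ commutator H)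
    (L : Subgroup H) : ¬ Z.IsComplement' L := by
  intro hc
  have hidx : L.index = 2 := by
    rw [← hZ2]
    exact hc.index_eq_card
  have hLn : L.Normal := Subgroup.normal_of_index_eq_two hidx
  have hcard : Nat.card (H ⧸ L) = 2 := by rw [← Subgroup.index_eq_card]; exact hidx
  have hp : Fact (Nat.Prime 2) := ⟨Nat.prime_two⟩
  have hcyc : IsCyclic (H ⧸ L) := isCyclic_of_prime_card hcard
  let _ : CommGroup (H ⧸ L) := IsCyclic.commGroup
  have hle : commutator H ≤ (QuotientGroup.mk' L).ker := Abelianization.commutator_subset_ker _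
  rw [QuotientGroup.ker_mk'] at hle
  have hzL : z ∈ L := hle hzc
  have hdis := hc.disjoint
  have : z ∈ Z ⊓ L := ⟨hzZ, hzL⟩
  rw [hdis.eq_bot] at this
  exact hz1 (Subgroup.mem_bot.1 this)

section

variable {n : ℕ} {A : Type*} [Ring A] (S : CSys n A)

theorem center_Γs (hn : 4 ≤ n) : Subgroup.center S.Γs = Subgroup.zpowers S.zΓ := by
  apply le_antisymm
  · intro c hc
    rw [← S.ψ_ker, MonoidHom.mem_ker]
    have h1 : S.ψ c ∈ Subgroup.center (alternatingGroup (Fin n)) := by
      rw [Subgroup.mem_center_iff]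
      intro g
      obtain ⟨g', rfl⟩ := S.ψ_surj g
      rw [← map_mul, ← map_mul, (Subgroup.mem_center_iff.1 hc) g']
    rw [alternatingGroup.center_eq_bot (by simpa using hn)] at h1
    exact Subgroup.mem_bot.1 h1
  · rw [Subgroup.zpowers_le]
    exact S.zΓ_center

theorem nonsplit_Γs (hn : 4 ≤ n) :
    Cfsg.IsNonsplitDoubleCover S.Γs (alternatingGroup (Fin n)) := by
  have hfin := S.finite_Γs
  have hcen := center_Γs S hn
  have hcard : Nat.card (Subgroup.center S.Γs) = 2 := by
    rw [hcen, Nat.card_zpowers, S.orderOf_zΓ]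
  refine ⟨hcard, ?_, ?_⟩
  · exact ⟨(QuotientGroup.quotientMulEquivOfEq (hcen.trans S.ψ_ker.symm)).trans
      (QuotientGroup.quotientKerEquivOfSurjective S.ψ S.ψ_surj)⟩
  · intro L
    exact no_complement_of_le_commutator _ hcard S.zΓ S.zΓ_center S.zΓ_ne
      (S.zΓ_mem_commutator hn) L

end

set_option linter.unusedSimpArgs false in
/-- four pairwise "anticommuting" elements with square `z`: the product is an involution -/
theorem sq_four {G : Type*} [Group G] (z a b c d : G) (hz : ∀ g, z * g = g * z) (hzz : z * z = 1)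
    (ha : a * a = z) (hb : b * b = z) (hc : c * c = z) (hd : d * d = z)
    (hba : b * a = z * a * b) (hca : c * a = z * a * c) (hda : d * a = z * a * d)
    (hcb : c * b = z * b * c) (hdb : d * b = z * b * d) (hdc : d * c = z * c * d) :
    (a * b * c * d) * (a * b * c * d) = 1 := by
  have z1 : ∀ w, z * (z * w) = w := fun w => by rw [← mul_assoc, hzz, one_mul]
  have az : a * z = z * a := (hz a).symm
  have bz : b * z = z * b := (hz b).symm
  have cz : c * z = z * c := (hz c).symm
  have dz : d * z = z * d := (hz d).symm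
  have az' : ∀ w, a * (z * w) = z * (a * w) := fun w => by rw [← mul_assoc, az, mul_assoc]
  have bz' : ∀ w, b * (z * w) = z * (b * w) := fun w => by rw [← mul_assoc, bz, mul_assoc]
  have cz' : ∀ w, c * (z * w) = z * (c * w) := fun w => by rw [← mul_assoc, cz, mul_assoc]
  have dz' : ∀ w, d * (z * w) = z * (d * w) := fun w => by rw [← mul_assoc, dz, mul_assoc]
  have aa' : ∀ w, a * (a * w) = z * w := fun w => by rw [← mul_assoc, ha]
  have bb' : ∀ w, b * (b * w) = z * w := fun w => by rw [← mul_assoc, hb]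
  have cc' : ∀ w, c * (c * w) = z * w := fun w => by rw [← mul_assoc, hc]
  have dd' : ∀ w, d * (d * w) = z * w := fun w => by rw [← mul_assoc, hd]
  have ba : b * a = z * (a * b) := by rw [hba, mul_assoc]
  have ca : c * a = z * (a * c) := by rw [hca, mul_assoc]
  have da : d * a = z * (a * d) := by rw [hda, mul_assoc]
  have cb : c * b = z * (b * c) := by rw [hcb, mul_assoc]
  have db : d * b = z * (b * d) := by rw [hdb, mul_assoc]
  have dc : d * c = z * (c * d) := by rw [hdc, mul_assoc]
  have ba' : ∀ w, b * (a * w) = z * (a * (b * w)) := fun w => by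
    rw [← mul_assoc, ba, mul_assoc, mul_assoc]
  have ca' : ∀ w, c * (a * w) = z * (a * (c * w)) := fun w => by
    rw [← mul_assoc, ca, mul_assoc, mul_assoc]
  have da' : ∀ w, d * (a * w) = z * (a * (d * w)) := fun w => by
    rw [← mul_assoc, da, mul_assoc, mul_assoc]
  have cb' : ∀ w, c * (b * w) = z * (b * (c * w)) := fun w => by
    rw [← mul_assoc, cb, mul_assoc, mul_assoc]
  have db' : ∀ w, d * (b * w) = z * (b * (d * w)) := fun w => by
    rw [← mul_assoc, db, mul_assoc, mul_assoc]
  have dc' : ∀ w, d * (c * w) = z * (c * (d * w)) := fun w => by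
    rw [← mul_assoc, dc, mul_assoc, mul_assoc]
  simp only [mul_assoc, az, bz, cz, dz, az', bz', cz', dz', ha, hb, hc, hd, aa', bb', cc', dd',
    ba, ca, da, cb, db, dc, ba', ca', da', cb', db', dc', hzz, z1]


theorem part2 : ∃ (H : Type) (_ : Group H) (_ : Finite H),
    Cfsg.IsNonsplitDoubleCover H (alternatingGroup (Fin 8)) ∧
      ∃ x y : H, x ≠ y ∧ orderOf x = 2 ∧ orderOf y = 2 := by
  obtain ⟨S, hS⟩ : ∃ S : CSys 8 (CliffordAlgebra (Qf 8)), S = cliffSys 8 := ⟨_, rfl⟩
  refine ⟨S.Γs, inferInstance, S.finite_Γs, nonsplit_Γs S (by norm_num), ?_⟩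
  have h01 : (0 : Fin 8) ≠ 1 := by decide
  have h23 : (2 : Fin 8) ≠ 3 := by decide
  have h45 : (4 : Fin 8) ≠ 5 := by decide
  have h67 : (6 : Fin 8) ≠ 7 := by decide
  have rel : ∀ {i j k l : Fin 8} (hij : i ≠ j) (hkl : k ≠ l), swap i j k = k → swap i j l = l →
      S.τ i j * S.τ k l = S.z * S.τ k l * S.τ i j := by
    intro i j k l hij hkl e1 e2
    rw [S.τ_mul_τ hij hkl, e1, e2]
  obtain ⟨x₀, hx₀def⟩ : ∃ x₀ : S.G₀, x₀ = S.τ 0 1 * S.τ 2 3 * S.τ 4 5 * S.τ 6 7 := ⟨_, rfl⟩
  have hx₀ : x₀ ∈ S.Γs := by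
    rw [S.mem_Γs, hx₀def]
    refine ⟨mul_mem (mul_mem (mul_mem (S.τ_mem h01 (by decide) (by decide))
      (S.τ_mem h23 (by decide) (by decide))) (S.τ_mem h45 (by decide) (by decide)))
      (S.τ_mem h67 (by decide) (by decide)), ?_⟩
    show swap (0 : Fin 8) 1 * swap 2 3 * swap 4 5 * swap 6 7 ∈ alternatingGroup (Fin 8)
    rw [Equiv.Perm.mem_alternatingGroup, map_mul, map_mul, map_mul, Equiv.Perm.sign_swap h01,
      Equiv.Perm.sign_swap h23, Equiv.Perm.sign_swap h45, Equiv.Perm.sign_swap h67]
    rfl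
  have hsq : x₀ * x₀ = 1 := by
    rw [hx₀def]
    exact sq_four S.z (S.τ 0 1) (S.τ 2 3) (S.τ 4 5) (S.τ 6 7) S.z_comm S.z_mul_z
      (S.τ_mul_self h01) (S.τ_mul_self h23) (S.τ_mul_self h45) (S.τ_mul_self h67)
      (rel h23 h01 (by decide) (by decide)) (rel h45 h01 (by decide) (by decide))
      (rel h67 h01 (by decide) (by decide)) (rel h45 h23 (by decide) (by decide))
      (rel h67 h23 (by decide) (by decide)) (rel h67 h45 (by decide) (by decide))
  have hx2 : x₀.2 ≠ 1 := by
    rw [hx₀def]
    show swap (0 : Fin 8) 1 * swap 2 3 * swap 4 5 * swap 6 7 ≠ 1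
    decide
  have hxne : (⟨x₀, hx₀⟩ : S.Γs) ≠ 1 := by
    intro h
    apply hx2
    have := congrArg (fun g : S.Γs => g.1.2) h
    exact this
  refine ⟨⟨x₀, hx₀⟩, S.zΓ, ?_, ?_, S.orderOf_zΓ⟩
  · intro h
    apply hx2
    have := congrArg (fun g : S.Γs => g.1.2) h
    exact this
  · apply orderOf_eq_prime
    · rw [pow_two]
      exact Subtype.ext hsq
    · exact hxne

theorem dswap_mem {n : ℕ} {a b c d : Fin n} (hab : a ≠ b) (hcd : c ≠ d) :
    swap a b * swap c d ∈ alternatingGroup (Fin n) := by
  rw [Equiv.Perm.mem_alternatingGroup, map_mul, Equiv.Perm.sign_swap hab, Equiv.Perm.sign_swap hcd]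
  rfl

theorem card_alt (n : ℕ) (hn : 2 ≤ n) :
    Nat.card (alternatingGroup (Fin n)) = n.factorial / 2 := by
  have : Nontrivial (Fin n) := Fin.nontrivial_iff_two_le.2 hn
  rw [nat_card_alternatingGroup, Nat.card_eq_fintype_card, Fintype.card_fin]


/-- Gaschütz-type splitting by transfer: an odd-index subgroup `P` in which a central involution
`z` avoids a subgroup `D` of index two yields an index-two subgroup of `H` avoiding `z`. -/
theorem exists_index_two_avoiding {H : Type*} [Group H] [Finite H] (z : H)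
    (hzc : z ∈ Subgroup.center H) (hz2 : z ^ 2 = 1) (P D : Subgroup H)
    (hzD : z ∉ D) (hodd : Odd P.index) (hrel : D.relIndex P = 2) :
    ∃ L : Subgroup H, L.index = 2 ∧ z ∉ L := by
  have hidx : (D.subgroupOf P).index = 2 := hrel
  have hnorm : (D.subgroupOf P).Normal := Subgroup.normal_of_index_eq_two hidx
  have hcard : Nat.card (P ⧸ D.subgroupOf P) = 2 := by
    rw [← Subgroup.index_eq_card]; exact hidx
  have hp : Fact (Nat.Prime 2) := ⟨Nat.prime_two⟩
  have hcyc : IsCyclic (P ⧸ D.subgroupOf P) := isCyclic_of_prime_card hcard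
  let _ : CommGroup (P ⧸ D.subgroupOf P) := IsCyclic.commGroup
  let ϕ : P →* P ⧸ D.subgroupOf P := QuotientGroup.mk' (D.subgroupOf P)
  have key : ∀ (k : ℕ) (g₀ : H), g₀⁻¹ * z ^ k * g₀ ∈ P → g₀⁻¹ * z ^ k * g₀ = z ^ k := by
    intro k g₀ _
    have hzk : z ^ k ∈ Subgroup.center H := pow_mem hzc k
    rw [Subgroup.mem_center_iff] at hzk
    rw [mul_assoc, ← hzk g₀, ← mul_assoc, inv_mul_cancel, one_mul]
  have h1 := MonoidHom.transfer_eq_pow (ϕ := ϕ) z key
  have hzpow : z ^ P.index = z := by
    obtain ⟨k, hk⟩ := hodd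
    rw [hk, pow_succ, pow_mul, hz2, one_pow, one_mul]
  have h2 : MonoidHom.transfer ϕ z ≠ 1 := by
    rw [h1]
    intro h
    have h3 : (⟨z ^ P.index, MonoidHom.transfer_eq_pow_aux z key⟩ : P) ∈ D.subgroupOf P := by
      rw [← QuotientGroup.eq_one_iff]
      exact h
    rw [Subgroup.mem_subgroupOf] at h3
    simp only [hzpow] at h3
    exact hzD h3
  refine ⟨(MonoidHom.transfer ϕ).ker, ?_, ?_⟩
  · rw [Subgroup.index_ker]
    have hdvd : Nat.card (MonoidHom.transfer ϕ).range ∣ 2 := by
      rw [← hcard]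
      exact Subgroup.card_subgroup_dvd_card _
    have hne : Nat.card (MonoidHom.transfer ϕ).range ≠ 1 := by
      intro h
      rw [Subgroup.card_eq_one] at h
      apply h2
      have : MonoidHom.transfer ϕ z ∈ (MonoidHom.transfer ϕ).range := ⟨z, rfl⟩
      rw [h] at this
      exact Subgroup.mem_bot.1 this
    rcases (Nat.dvd_prime Nat.prime_two).1 hdvd with h | h
    · exact absurd h hne
    · exact h
  · rw [MonoidHom.mem_ker]
    exact h2



/-- a group generated by two involutions whose product has `m`-th power one has order at most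
`2 m` -/
theorem card_closure_pair_le {K : Type*} [Group K] [Finite K] (u v : K) (hu : u * u = 1)
    (hv : v * v = 1) (m : ℕ) (hm : 0 < m) (huv : (u * v) ^ m = 1) :
    Nat.card (Subgroup.closure ({u, v} : Set K)) ≤ 2 * m := by
  have hui : u⁻¹ = u := inv_eq_of_mul_eq_one_right hu
  have hvi : v⁻¹ = v := inv_eq_of_mul_eq_one_right hv
  have huu : ∀ w, u * (u * w) = w := fun w => by rw [← mul_assoc, hu, one_mul]
  obtain ⟨C, hC⟩ : ∃ C : Subgroup K, C = Subgroup.zpowers (u * v) := ⟨_, rfl⟩
  have hCcard : Nat.card C ≤ m := by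
    rw [hC, Nat.card_zpowers]
    exact orderOf_le_of_pow_eq_one hm huv
  have hnorm : u ∈ Subgroup.normalizer (C : Set K) := by
    rw [hC]
    apply mem_normalizer_zpowers_of_conj_inv
    rw [mul_inv_rev, hui, hvi, ← mul_assoc, hu, one_mul]
  have hconj : ∀ c ∈ C, u * c * u ∈ C := by
    intro c hc
    have := (Subgroup.mem_normalizer_iff.1 hnorm c).1 hc
    rwa [hui] at this
  let N : Subgroup K :=
    { carrier := {g | g ∈ C ∨ g * u ∈ C}
      one_mem' := Or.inl (one_mem C)
      mul_mem' := by
        rintro g h (hg | hg) (hh | hh)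
        · exact Or.inl (mul_mem hg hh)
        · right
          rw [mul_assoc]
          exact mul_mem hg hh
        · right
          have : g * h * u = (g * u) * (u * h * u) := by
            simp only [mul_assoc, huu]
          rw [this]
          exact mul_mem hg (hconj h hh)
        · left
          have : g * h = (g * u) * (u * (h * u) * u) := by
            simp only [mul_assoc, huu, hu, mul_one]
          rw [this]
          exact mul_mem hg (hconj _ hh)
      inv_mem' := by
        rintro g (hg | hg)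
        · exact Or.inl (inv_mem hg)
        · right
          have : g⁻¹ * u = u * (g * u)⁻¹ * u := by
            simp only [mul_inv_rev, hui, huu]
          rw [this]
          exact hconj _ (inv_mem hg) }
  have hle : Subgroup.closure ({u, v} : Set K) ≤ N := by
    rw [Subgroup.closure_le]
    rintro x (rfl | rfl)
    · right
      show x * x ∈ C
      rw [hu]; exact one_mem C
    · right
      show x * u ∈ C
      have : x * u = (u * x)⁻¹ := by rw [mul_inv_rev, hui, hvi]
      rw [this, hC]
      exact inv_mem (Subgroup.mem_zpowers _)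
  have hNcard : Nat.card N ≤ 2 * Nat.card C := by
    have hsub : (N : Set K) ⊆ (C : Set K) ∪ (fun c => c * u) '' (C : Set K) := by
      rintro g (hg | hg)
      · exact Or.inl hg
      · right
        exact ⟨g * u, hg, by show g * u * u = g; rw [mul_assoc, hu, mul_one]⟩
    have h1 : (N : Set K).ncard ≤ ((C : Set K) ∪ (fun c => c * u) '' (C : Set K)).ncard :=
      Set.ncard_le_ncard hsub (Set.toFinite _)
    have h2 := Set.ncard_union_le (C : Set K) ((fun c => c * u) '' (C : Set K))
    have h3 := Set.ncard_image_le (f := fun c => c * u) (Set.toFinite (C : Set K))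
    have e1 : Nat.card N = (N : Set K).ncard := (Nat.card_coe_set_eq _)
    have e2 : Nat.card C = (C : Set K).ncard := (Nat.card_coe_set_eq _)
    omega
  calc Nat.card (Subgroup.closure ({u, v} : Set K)) ≤ Nat.card N :=
        Subgroup.card_le_of_le hle
    _ ≤ 2 * Nat.card C := hNcard
    _ ≤ 2 * m := by omega



open Equiv.Perm in
theorem cycleType_of_order_two {n : ℕ} (hn : n ≤ 7) (s : Perm (Fin n))
    (hs : s ∈ alternatingGroup (Fin n)) (ho : orderOf s = 2) : s.cycleType = {2, 2} := by
  have h1 : ∀ k ∈ s.cycleType, k = 2 := by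
    intro k hk
    have h2 := two_le_of_mem_cycleType hk
    have h3 := dvd_of_mem_cycleType hk
    rw [ho] at h3
    have := Nat.le_of_dvd (by norm_num) h3
    omega
  have h2 := Multiset.eq_replicate_card.2 h1
  obtain ⟨c, hc⟩ : ∃ c, c = Multiset.card s.cycleType := ⟨_, rfl⟩
  rw [← hc] at h2
  have hsum : s.cycleType.sum = 2 * c := by
    rw [h2, Multiset.sum_replicate, smul_eq_mul, mul_comm]
  have hle : 2 * c ≤ 7 := by
    have := sum_cycleType_le s
    rw [hsum, Fintype.card_fin] at this
    omega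
  have hsign : sign s = 1 := mem_alternatingGroup.1 hs
  rw [sign_of_cycleType, hsum, ← hc] at hsign
  have heven : Even (2 * c + c) := by
    have hne : (-1 : ℤˣ) ≠ 1 := by decide
    exact (neg_one_pow_eq_one_iff_even hne).1 hsign
  have hc0 : c ≠ 0 := by
    intro h
    rw [h] at hc
    have : s = 1 := card_cycleType_eq_zero.1 hc.symm
    rw [this, orderOf_one] at ho
    omega
  have hc2 : c = 2 := by
    rcases heven with ⟨k, hk⟩
    omega
  rw [h2, hc2]
  rfl

open Equiv.Perm in
theorem conj_of_order_two {n : ℕ} (hn : n ≤ 7) (s t : alternatingGroup (Fin n))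
    (hs : orderOf s = 2) (ht : orderOf t = 2) :
    ∃ g : alternatingGroup (Fin n), g * s * g⁻¹ = t := by
  have hs' : orderOf (s : Perm (Fin n)) = 2 := by rw [Subgroup.orderOf_coe]; exact hs
  have ht' : orderOf (t : Perm (Fin n)) = 2 := by rw [Subgroup.orderOf_coe]; exact ht
  have hcs := cycleType_of_order_two hn s.1 s.2 hs'
  have hct := cycleType_of_order_two hn t.1 t.2 ht'
  have hconj : IsConj (s : Perm (Fin n)) (t : Perm (Fin n)) := by
    rw [isConj_iff_cycleType_eq, hcs, hct]
  obtain ⟨σ, hσ⟩ := isConj_iff.1 hconj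
  rcases Int.units_eq_one_or (sign σ) with h | h
  · refine ⟨⟨σ, mem_alternatingGroup.2 h⟩, ?_⟩
    apply Subtype.ext
    simpa using hσ
  · -- fix the parity
    have hs1 : (s : Perm (Fin n)) ≠ 1 := by
      intro h1
      rw [h1, orderOf_one] at hs'
      omega
    obtain ⟨a, ha⟩ : ∃ a, (s : Perm (Fin n)) a ≠ a := by
      by_contra hcon
      push Not at hcon
      exact hs1 (Equiv.ext hcon)
    have hss : (s : Perm (Fin n)) ((s : Perm (Fin n)) a) = a := by
      have h2 : (s : Perm (Fin n)) ^ 2 = 1 := by rw [← hs']; exact pow_orderOf_eq_one _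
      have := congrArg (fun f : Perm (Fin n) => f a) h2
      simpa [pow_two] using this
    have hcomm : (s : Perm (Fin n)) * swap a ((s : Perm (Fin n)) a)
        = swap a ((s : Perm (Fin n)) a) * (s : Perm (Fin n)) := by
      rw [Equiv.mul_swap_eq_swap_mul, hss, swap_comm]
    have hsw : sign (swap a ((s : Perm (Fin n)) a)) = -1 := sign_swap (Ne.symm ha)
    refine ⟨⟨σ * swap a ((s : Perm (Fin n)) a), ?_⟩, ?_⟩
    · rw [mem_alternatingGroup, map_mul, h, hsw]
      rfl
    · apply Subtype.ext
      show σ * swap a ((s : Perm (Fin n)) a) * (s : Perm (Fin n))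
        * (σ * swap a ((s : Perm (Fin n)) a))⁻¹ = (t : Perm (Fin n))
      rw [mul_inv_rev, swap_inv, ← hσ]
      calc σ * swap a ((s : Perm (Fin n)) a) * (s : Perm (Fin n))
            * (swap a ((s : Perm (Fin n)) a) * σ⁻¹)
          = σ * (swap a ((s : Perm (Fin n)) a) * (s : Perm (Fin n))
            * swap a ((s : Perm (Fin n)) a)) * σ⁻¹ := by simp only [mul_assoc]
        _ = σ * ((s : Perm (Fin n)) * (swap a ((s : Perm (Fin n)) a)
            * swap a ((s : Perm (Fin n)) a))) * σ⁻¹ := by rw [← hcomm]; simp only [mul_assoc]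
        _ = σ * (s : Perm (Fin n)) * σ⁻¹ := by rw [swap_mul_self, mul_one]

theorem main_case {n : ℕ} (hn : n ≤ 7) (m q : ℕ) (hm : 0 < m) (u v : alternatingGroup (Fin n))
    (hu : u * u = 1) (hv : v * v = 1) (huv : orderOf (u * v) = m)
    (hhalf : ∃ k, m = 2 * k ∧ orderOf ((u * v) ^ k) = 2)
    (hunot : u ∉ Subgroup.zpowers (u * v))
    (hq : Odd q) (hcardA : Nat.card (alternatingGroup (Fin n)) = 2 * m * q)
    (H : Type) [Group H] [Finite H]
    (hcov : Cfsg.IsNonsplitDoubleCover H (alternatingGroup (Fin n))) (x y : H)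
    (hx : orderOf x = 2) (hy : orderOf y = 2) : x = y := by
  obtain ⟨hcard, ⟨e⟩, hns⟩ := hcov
  have hq0 : 0 < q := hq.pos
  -- the subgroup P
  obtain ⟨P, hP⟩ : ∃ P : Subgroup (alternatingGroup (Fin n)),
      P = Subgroup.closure ({u, v} : Set (alternatingGroup (Fin n))) := ⟨_, rfl⟩
  have huP : u ∈ P := by rw [hP]; exact Subgroup.subset_closure (by simp)
  have hvP : v ∈ P := by rw [hP]; exact Subgroup.subset_closure (by simp)
  have hPle : Nat.card P ≤ 2 * m := by
    rw [hP]
    exact card_closure_pair_le u v hu hv m hm (by rw [← huv]; exact pow_orderOf_eq_one _)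
  have hCP : Subgroup.zpowers (u * v) ≤ P := by
    rw [Subgroup.zpowers_le]; exact mul_mem huP hvP
  have hPcard : Nat.card P = 2 * m := by
    have h1 : Nat.card (Subgroup.zpowers (u * v)) = m := by rw [Nat.card_zpowers, huv]
    have h2 : m ∣ Nat.card P := by rw [← h1]; exact Subgroup.card_dvd_of_le hCP
    obtain ⟨j, hj⟩ := h2
    have hj1 : j ≠ 1 := by
      intro h
      rw [h, mul_one] at hj
      have : Subgroup.zpowers (u * v) = P :=
        Subgroup.eq_of_le_of_card_ge hCP (by rw [h1, hj])
      exact hunot (this ▸ huP)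
    have hj0 : j ≠ 0 := by
      intro h
      rw [h, mul_zero] at hj
      have := Nat.card_pos (α := P)
      omega
    have hj2 : j ≤ 2 := by
      by_contra hcon
      push Not at hcon
      have : m * 3 ≤ m * j := Nat.mul_le_mul_left m hcon
      omega
    have : j = 2 := by omega
    rw [hj, this, mul_comm]
  have hPidx : P.index = q := by
    have := P.card_mul_index
    rw [hPcard, hcardA] at this
    exact Nat.eq_of_mul_eq_mul_left (by omega : 0 < 2 * m) this
  -- the projection
  obtain ⟨π, hπ⟩ : ∃ π : H →* alternatingGroup (Fin n),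
      π = e.toMonoidHom.comp (QuotientGroup.mk' (Subgroup.center H)) := ⟨_, rfl⟩
  have hπs : Function.Surjective π := by
    rw [hπ]
    exact e.surjective.comp (QuotientGroup.mk'_surjective _)
  have hπk : π.ker = Subgroup.center H := by
    rw [hπ]
    ext g
    rw [MonoidHom.mem_ker, MonoidHom.comp_apply, MulEquiv.coe_toMonoidHom,
      MulEquiv.map_eq_one_iff, QuotientGroup.mk'_apply, QuotientGroup.eq_one_iff]
  -- the central involution
  obtain ⟨z, hz1, hzu⟩ := (Nat.card_eq_two_iff' (1 : Subgroup.center H)).1 hcard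
  have hzZ : ∀ w ∈ Subgroup.center H, w = 1 ∨ w = (z : H) := by
    intro w hw
    by_cases h : (⟨w, hw⟩ : Subgroup.center H) = 1
    · left; exact congrArg Subtype.val h
    · right; exact congrArg Subtype.val (hzu _ h)
  have hz1' : (z : H) ≠ 1 := fun h => hz1 (Subtype.ext h)
  have hz2 : (z : H) ^ 2 = 1 := by
    rcases hzZ _ (pow_mem z.2 2) with h | h
    · exact h
    · exfalso
      apply hz1'
      rw [pow_two] at h
      exact mul_left_cancel (h.trans (mul_one _).symm)
  have hcH : Nat.card H = 2 * (2 * m * q) := by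
    rw [Subgroup.card_eq_card_quotient_mul_card_subgroup (Subgroup.center H), hcard,
      Nat.card_congr e.toEquiv, hcardA, mul_comm]
  by_contra hxy
  -- a noncentral involution
  obtain ⟨w, hw2, hwz⟩ : ∃ w : H, orderOf w = 2 ∧ w ≠ (z : H) := by
    by_cases h : x = (z : H)
    · exact ⟨y, hy, fun h' => hxy (h.trans h'.symm)⟩
    · exact ⟨x, hx, h⟩
  have hw1 : w ≠ 1 := by
    intro h; rw [h, orderOf_one] at hw2; omega
  have hwsq : w * w = 1 := by
    have := pow_orderOf_eq_one w
    rwa [hw2, pow_two] at this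
  have hwZ : w ∉ Subgroup.center H := fun h => by
    rcases hzZ w h with h | h
    · exact hw1 h
    · exact hwz h
  have hπw : orderOf (π w) = 2 := by
    apply orderOf_eq_prime
    · rw [pow_two, ← map_mul, hwsq, map_one]
    · intro h
      apply hwZ
      rw [← hπk]
      exact h
  -- all lifts of involutions are involutions
  have hlift : ∀ t : alternatingGroup (Fin n), orderOf t = 2 → ∀ t' : H, π t' = t →
      t' * t' = 1 := by
    intro t ht t' ht'
    obtain ⟨g, hg⟩ := conj_of_order_two hn (π w) t hπw ht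
    obtain ⟨g', rfl⟩ := hπs g
    have h1 : π (g' * w * g'⁻¹) = t := by rw [map_mul, map_mul, map_inv, hg]
    have h2 : (g' * w * g'⁻¹) * (g' * w * g'⁻¹) = 1 := by
      calc (g' * w * g'⁻¹) * (g' * w * g'⁻¹) = g' * (w * w) * g'⁻¹ := by group
        _ = 1 := by rw [hwsq]; group
    have h3 : t' * (g' * w * g'⁻¹)⁻¹ ∈ Subgroup.center H := by
      rw [← hπk, MonoidHom.mem_ker, map_mul, map_inv, h1, ht', mul_inv_cancel]
    obtain ⟨c, hc⟩ : ∃ c, c = t' * (g' * w * g'⁻¹)⁻¹ := ⟨_, rfl⟩
    rw [← hc] at h3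
    have h4 : t' = c * (g' * w * g'⁻¹) := by rw [hc]; group
    have hcc : c * c = 1 := by
      rcases hzZ c h3 with h | h
      · rw [h, one_mul]
      · rw [h, ← pow_two, hz2]
    have hcomm := Subgroup.mem_center_iff.1 h3
    rw [h4]
    calc c * (g' * w * g'⁻¹) * (c * (g' * w * g'⁻¹))
        = c * ((g' * w * g'⁻¹) * c) * (g' * w * g'⁻¹) := by simp only [mul_assoc]
      _ = (c * c) * ((g' * w * g'⁻¹) * (g' * w * g'⁻¹)) := by
          rw [hcomm (g' * w * g'⁻¹)]; simp only [mul_assoc]
      _ = 1 := by rw [hcc, h2, one_mul]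
  -- lifts of u, v
  obtain ⟨u', hu'⟩ := hπs u
  obtain ⟨v', hv'⟩ := hπs v
  have hu1 : u ≠ 1 := by
    intro h
    apply hunot
    rw [h]; exact one_mem _
  have hu2 : orderOf u = 2 := orderOf_eq_prime (by rw [pow_two, hu]) hu1
  have hv1 : v ≠ 1 := by
    intro h
    obtain ⟨k, hk, hk2⟩ := hhalf
    rw [h, mul_one] at huv hk2
    rw [hu2] at huv
    have : k = 1 := by omega
    rw [this, pow_one] at hk2
    apply hunot
    rw [h, mul_one]
    exact Subgroup.mem_zpowers u
  have hv2 : orderOf v = 2 := orderOf_eq_prime (by rw [pow_two, hv]) hv1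
  have hu's : u' * u' = 1 := hlift u hu2 u' hu'
  have hv's : v' * v' = 1 := hlift v hv2 v' hv'
  have huv' : (u' * v') ^ m = 1 := by
    obtain ⟨k, hk, hk2⟩ := hhalf
    have := hlift ((u * v) ^ k) hk2 ((u' * v') ^ k) (by rw [map_pow, map_mul, hu', hv'])
    rw [hk, mul_comm, pow_mul, pow_two]
    exact this
  obtain ⟨D, hD⟩ : ∃ D : Subgroup H, D = Subgroup.closure ({u', v'} : Set H) := ⟨_, rfl⟩
  have hDle : Nat.card D ≤ 2 * m := by
    rw [hD]; exact card_closure_pair_le u' v' hu's hv's m hm huv'
  have hDmap : D.map π = P := by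
    rw [hD, hP, MonoidHom.map_closure]
    congr 1
    simp [Set.image_pair, hu', hv']
  -- π is injective on D
  have hker : (π.comp D.subtype).ker = ⊥ := by
    have h1 : (π.comp D.subtype).range = P := by
      rw [MonoidHom.range_comp, Subgroup.range_subtype, hDmap]
    have h2 := (π.comp D.subtype).ker.card_mul_index
    rw [Subgroup.index_ker, h1, hPcard] at h2
    have h3 : Nat.card (π.comp D.subtype).ker = 1 := by
      have hpos := Nat.card_pos (α := (π.comp D.subtype).ker)
      by_contra hne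
      have : 2 ≤ Nat.card (π.comp D.subtype).ker := by omega
      have : 2 * (2 * m) ≤ Nat.card (π.comp D.subtype).ker * (2 * m) :=
        Nat.mul_le_mul_right _ this
      omega
    exact Subgroup.card_eq_one.1 h3
  have hDcard : Nat.card D = 2 * m := by
    have h1 : (π.comp D.subtype).range = P := by
      rw [MonoidHom.range_comp, Subgroup.range_subtype, hDmap]
    have h2 := (π.comp D.subtype).ker.card_mul_index
    rw [Subgroup.index_ker, h1, hPcard, hker, Subgroup.card_bot, one_mul] at h2
    exact h2.symm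
  have hzD : (z : H) ∉ D := by
    intro h
    have h1 : (⟨z, h⟩ : D) ∈ (π.comp D.subtype).ker := by
      rw [MonoidHom.mem_ker]
      show π z = 1
      rw [← MonoidHom.mem_ker, hπk]
      exact z.2
    rw [hker, Subgroup.mem_bot] at h1
    exact hz1' (congrArg Subtype.val h1)
  -- the preimage of P
  obtain ⟨P', hP'⟩ : ∃ P' : Subgroup H, P' = P.comap π := ⟨_, rfl⟩
  have hP'idx : P'.index = q := by rw [hP', P.index_comap_of_surjective hπs, hPidx]
  have hDP' : D ≤ P' := by
    rw [hP', ← Subgroup.map_le_iff_le_comap, hDmap]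
  have hrel : D.relIndex P' = 2 := by
    have h1 := Subgroup.relIndex_mul_index hDP'
    have h2 := D.card_mul_index
    rw [hDcard, hcH] at h2
    have h3 : D.index = 2 * q := by
      have : 2 * m * D.index = 2 * m * (2 * q) := by rw [h2]; ring
      exact Nat.eq_of_mul_eq_mul_left (by omega : 0 < 2 * m) this
    rw [hP'idx, h3] at h1
    exact Nat.eq_of_mul_eq_mul_right hq0 h1
  obtain ⟨L, hL2, hzL⟩ := exists_index_two_avoiding (z : H) z.2 hz2 P' D hzD
    (by rw [hP'idx]; exact hq) hrel
  apply hns L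
  apply Subgroup.isComplement'_of_card_mul_and_disjoint
  · have := L.card_mul_index
    rw [hL2] at this
    rw [hcard, ← this, mul_comm]
  · rw [Subgroup.disjoint_def]
    intro g hgZ hgL
    rcases hzZ g hgZ with h | h
    · exact h
    · exact absurd (h ▸ hgL) hzL

def u4 : alternatingGroup (Fin 4) := ⟨swap 0 1 * swap 2 3, dswap_mem (by decide) (by decide)⟩
def v4 : alternatingGroup (Fin 4) := ⟨swap 0 2 * swap 1 3, dswap_mem (by decide) (by decide)⟩

theorem case4 (H : Type) [Group H] [Finite H]
    (hcov : Cfsg.IsNonsplitDoubleCover H (alternatingGroup (Fin 4))) (x y : H)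
    (hx : orderOf x = 2) (hy : orderOf y = 2) : x = y := by
  have hord : orderOf (u4 * v4) = 2 := by
    apply orderOf_eq_prime
    · decide
    · decide
  refine main_case (by norm_num) 2 3 (by norm_num) u4 v4 (by decide) (by decide) hord
    ⟨1, by norm_num, ?_⟩ ?_ (by decide) ?_ H hcov x y hx hy
  · apply orderOf_eq_prime
    · decide
    · decide
  · rw [mem_zpowers_iff_mem_range_orderOf, hord]
    decide
  · rw [card_alt 4 (by norm_num)]
    decide

def u5 : alternatingGroup (Fin 5) := ⟨swap 0 1 * swap 2 3, dswap_mem (by decide) (by decide)⟩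
def v5 : alternatingGroup (Fin 5) := ⟨swap 0 2 * swap 1 3, dswap_mem (by decide) (by decide)⟩

theorem case5 (H : Type) [Group H] [Finite H]
    (hcov : Cfsg.IsNonsplitDoubleCover H (alternatingGroup (Fin 5))) (x y : H)
    (hx : orderOf x = 2) (hy : orderOf y = 2) : x = y := by
  have hord : orderOf (u5 * v5) = 2 := by
    apply orderOf_eq_prime
    · decide
    · decide
  refine main_case (by norm_num) 2 15 (by norm_num) u5 v5 (by decide) (by decide) hord
    ⟨1, by norm_num, ?_⟩ ?_ (by decide) ?_ H hcov x y hx hy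
  · apply orderOf_eq_prime
    · decide
    · decide
  · rw [mem_zpowers_iff_mem_range_orderOf, hord]
    decide
  · rw [card_alt 5 (by norm_num)]
    decide

def u6 : alternatingGroup (Fin 6) := ⟨swap 0 1 * swap 4 5, dswap_mem (by decide) (by decide)⟩
def v6 : alternatingGroup (Fin 6) := ⟨swap 0 2 * swap 1 3, dswap_mem (by decide) (by decide)⟩

theorem case6 (H : Type) [Group H] [Finite H]
    (hcov : Cfsg.IsNonsplitDoubleCover H (alternatingGroup (Fin 6))) (x y : H)
    (hx : orderOf x = 2) (hy : orderOf y = 2) : x = y := by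
  have hord : orderOf (u6 * v6) = 4 := by
    have h1 : ¬ (u6 * v6) ^ 2 ^ 1 = 1 := by decide
    have h2 : (u6 * v6) ^ 2 ^ (1 + 1) = 1 := by decide
    exact orderOf_eq_prime_pow h1 h2
  refine main_case (by norm_num) 4 45 (by norm_num) u6 v6 (by decide) (by decide) hord
    ⟨2, by norm_num, ?_⟩ ?_ (by decide) ?_ H hcov x y hx hy
  · apply orderOf_eq_prime
    · decide
    · decide
  · rw [mem_zpowers_iff_mem_range_orderOf, hord]
    decide
  · rw [card_alt 6 (by norm_num)]
    decide

def u7 : alternatingGroup (Fin 7) := ⟨swap 0 1 * swap 4 5, dswap_mem (by decide) (by decide)⟩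
def v7 : alternatingGroup (Fin 7) := ⟨swap 0 2 * swap 1 3, dswap_mem (by decide) (by decide)⟩

theorem case7 (H : Type) [Group H] [Finite H]
    (hcov : Cfsg.IsNonsplitDoubleCover H (alternatingGroup (Fin 7))) (x y : H)
    (hx : orderOf x = 2) (hy : orderOf y = 2) : x = y := by
  have hord : orderOf (u7 * v7) = 4 := by
    have h1 : ¬ (u7 * v7) ^ 2 ^ 1 = 1 := by decide
    have h2 : (u7 * v7) ^ 2 ^ (1 + 1) = 1 := by decide
    exact orderOf_eq_prime_pow h1 h2
  refine main_case (by norm_num) 4 315 (by norm_num) u7 v7 (by decide) (by decide) hord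
    ⟨2, by norm_num, ?_⟩ ?_ (by decide) ?_ H hcov x y hx hy
  · apply orderOf_eq_prime
    · decide
    · decide
  · rw [mem_zpowers_iff_mem_range_orderOf, hord]
    decide
  · rw [card_alt 7 (by norm_num)]
    decide

theorem case_small (n : ℕ) (hn : n ≤ 3) (H : Type) [Group H] [Finite H]
    (hcov : Cfsg.IsNonsplitDoubleCover H (alternatingGroup (Fin n))) (x y : H)
    (hx : orderOf x = 2) (hy : orderOf y = 2) : x = y := by
  obtain ⟨hcard, ⟨e⟩, -⟩ := hcov
  have hcyc : IsCyclic (alternatingGroup (Fin n)) :=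
    alternatingGroup.isCyclic_of_card_le_three (by simpa using hn)
  have hcomm : ∀ a b : H, a * b = b * a := by
    apply commutative_of_cyclic_center_quotient
      (e.toMonoidHom.comp (QuotientGroup.mk' (Subgroup.center H)))
    intro g hg
    rw [MonoidHom.mem_ker, MonoidHom.comp_apply, MulEquiv.coe_toMonoidHom,
      MulEquiv.map_eq_one_iff, QuotientGroup.mk'_apply, QuotientGroup.eq_one_iff] at hg
    exact hg
  have htop : Subgroup.center H = ⊤ := by
    rw [eq_top_iff]
    intro g _
    rw [Subgroup.mem_center_iff]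
    intro h
    exact hcomm h g
  have hH : Nat.card H = 2 := by
    rw [← hcard, htop, Subgroup.card_top]
  obtain ⟨w, -, hw⟩ := (Nat.card_eq_two_iff' (1 : H)).1 hH
  have hx1 : x ≠ 1 := by
    intro h; rw [h, orderOf_one] at hx; omega
  have hy1 : y ≠ 1 := by
    intro h; rw [h, orderOf_one] at hy; omega
  rw [hw x hx1, hw y hy1]

/-- Involutions in double covers of alternating groups: for n ≤ 7, a finite non-split double cover of the alternating group of degree n has exactly one element of order 2 (the central one); for degree 8 there is a non-split double cover with two distinct involutions. -/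
theorem result : (∀ (n : ℕ) (H : Type) (_ : Group H) (_ : Finite H), n ≤ 7 → Cfsg.IsNonsplitDoubleCover H (alternatingGroup (Fin n)) → ∀ x y : H, orderOf x = 2 → orderOf y = 2 → x = y) ∧ ∃ (H : Type) (_ : Group H) (_ : Finite H), Cfsg.IsNonsplitDoubleCover H (alternatingGroup (Fin 8)) ∧ ∃ x y : H, x ≠ y ∧ orderOf x = 2 ∧ orderOf y = 2 := by
  refine ⟨?_, part2⟩
  intro n H _ _ hn hcov x y hx hy
  by_cases h3 : n ≤ 3
  · exact case_small n h3 H hcov x y hx hy
  · have h4 : 4 ≤ n := by omega
    interval_cases n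
    · exact case4 H hcov x y hx hy
    · exact case5 H hcov x y hx hy
    · exact case6 H hcov x y hx hy
    · exact case7 H hcov x y hx hy

end Cfsg.Agent.S0447
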