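import Cfsg.Statements.S0458
import Cfsg.Agent.Lib.Helper57.J3SubGrp
import Cfsg.Agent.Lib.Helper57.PermRepAbs
import Cfsg.Agent.Lib.Helper95.J3.CertAll

set_option autoImplicit false
open Cfsg

namespace Cfsg.Agent.S0458

open Cfsg.Spor Cfsg.Agent.Lib.Helper57.Hexa Cfsg.Agent.Lib.Helper57.J3 in
/-- the action on the cosets of the subgroup of order 24480 -/
theorem aux : ∃ H : Subgroup (Equiv.Perm (Fin 6156)), IsSimpleGroup H ∧ Nat.card H = 50232960 ∧
    MulAction.IsPretransitive H (Fin 6156) ∧
    6156 * Nat.card (MulAction.stabilizer H (0 : Fin 6156)) = 50232960 := by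
  classical
  have hw : w ^ 2 + w + 1 = 0 := by decide +kernel
  obtain ⟨hZ, hG, hJ, hsimple⟩ := Cfsg.Agent.Lib.Helper95.J3.threeJ3_main card_K w hw
  haveI : Finite (threeJ3 K w) := Nat.finite_of_card_ne_zero (by rw [hG]; norm_num)
  -- the subgroup of order 24480
  let M' : Subgroup (threeJ3 K w) := subM.subgroupOf (threeJ3 K w)
  have hM' : Nat.card M' = 24480 := by
    rw [Nat.card_congr (Subgroup.subgroupOfEquivOfLe subM_le).toEquiv, card_subM]
  have hidx : M'.index = 6156 := by
    have h := Subgroup.card_mul_index M'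
    rw [hM', hG] at h
    omega
  have hX : Nat.card (threeJ3 K w ⧸ M') = 6156 := hidx
  haveI : Finite (threeJ3 K w ⧸ M') := Nat.finite_of_card_ne_zero (by rw [hX]; norm_num)
  let e : Fin 6156 ≃ (threeJ3 K w ⧸ M') := (Finite.equivFinOfCardEq hX).symm
  letI act : MulAction (threeJ3 K w) (Fin 6156) := e.mulAction (threeJ3 K w)
  have hact : ∀ (g : threeJ3 K w) (a : Fin 6156), g • a = e.symm (g • e a) := fun g a => rfl
  haveI : MulAction.IsPretransitive (threeJ3 K w) (Fin 6156) := by
    constructor
    intro a b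
    obtain ⟨g, hg⟩ := MulAction.exists_smul_eq (threeJ3 K w) (e a) (e b)
    exact ⟨g, by rw [hact, hg, Equiv.symm_apply_apply]⟩
  -- the scalar
  obtain ⟨zG, hzM, hzS⟩ := exists_scalar
  let z : threeJ3 K w := ⟨zG, subM_le hzM⟩
  have hzc : z ∈ Subgroup.center (threeJ3 K w) := by
    rw [Subgroup.mem_center_iff]
    intro g
    apply Subtype.ext
    apply Units.ext
    show ((g : GL F9 K) : Matrix F9 F9 K) * (zG : Matrix F9 F9 K) =
      (zG : Matrix F9 F9 K) * ((g : GL F9 K) : Matrix F9 F9 K)
    rw [hzS, mS_comm]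
  have hz1 : z ≠ 1 := by
    intro h
    have h1 : (zG : Matrix F9 F9 K) = 1 := by
      have := congrArg (fun x : threeJ3 K w => ((x : GL F9 K) : Matrix F9 F9 K)) h
      exact this
    rw [hzS] at h1
    exact mS_ne_one h1
  have hzt : ∀ a : Fin 6156, z • a = a := by
    intro a
    rw [hact]
    have : z • e a = e a := by
      induction e a using QuotientGroup.induction_on with
      | H g =>
        show ((z * g : threeJ3 K w) : threeJ3 K w ⧸ M') = g
        rw [← (Subgroup.mem_center_iff.mp hzc) g]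
        apply Eq.symm
        rw [QuotientGroup.eq, inv_mul_cancel_left]
        exact hzM
    rw [this, Equiv.symm_apply_apply]
  haveI : IsSimpleGroup (threeJ3 K w ⧸ Subgroup.center (threeJ3 K w)) := hsimple
  exact Cfsg.Agent.Lib.Helper57.PermRep.exists_perm_rep z hzc hz1 hzt
    (by rw [hZ]; norm_num) (by rw [hZ]; norm_num) 50232960 hJ

/-- Janko's third group exists as a transitive permutation group of degree 6156 with point stabiliser of order 8160: a simple group of order 50232960. -/
theorem result : ∃ H : Subgroup (Equiv.Perm (Fin 6156)), Cfsg.IsJ3 H ∧ MulAction.IsPretransitive H (Fin 6156) ∧ Nat.card (MulAction.stabilizer H (0 : Fin 6156)) = 8160 := by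
  obtain ⟨H, h1, h2, h3, h4⟩ := aux
  exact ⟨H, ⟨h1, h2⟩, h3, by omega⟩

end Cfsg.Agent.S0458
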