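import Cfsg.Statements.S0460
import Cfsg.Agent.S1692
import Cfsg.Agent.Lib.Helper57.ONJ1
import Cfsg.Agent.Lib.Helper57.ONM11

set_option autoImplicit false
open Cfsg

namespace Cfsg.Agent.S0460

open Cfsg.Spor Cfsg.Agent.Lib.Helper28 Cfsg.Agent.Lib.Helper28.ONOrderC
open Cfsg.Agent.Lib.Helper57.CayMatch

/-- transport of a subgroup along an isomorphism onto a subgroup of the symmetric group -/
theorem exists_transport {Γ : Type*} [Group Γ] {Δ : Type*} [Group Δ] (e : Γ ≃* Δ)
    (K : Subgroup Γ) : ∃ K' : Subgroup Δ, Nonempty (K' ≃* K) :=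
  ⟨K.map e.toMonoidHom, ⟨(e.subgroupMap K).symm⟩⟩

/-- The O'Nan group exists as a transitive permutation group of degree 122760: simple of order 460815505920, point stabiliser of order 3753792, and containing simple subgroups of orders 175560 and 7920. -/
theorem result : ∃ H : Subgroup (Equiv.Perm (Fin 122760)), Cfsg.IsON H ∧ MulAction.IsPretransitive H (Fin 122760) ∧ Nat.card (MulAction.stabilizer H (0 : Fin 122760)) = 3753792 ∧ (∃ K : Subgroup H, Cfsg.IsJ1 K) ∧ (∃ K : Subgroup H, Cfsg.IsM11 K) := by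
  obtain ⟨φ, hS⟩ := Cfsg.Agent.S1692.setup
  have : Finite G := (cardG hS).1
  have : IsSimpleGroup G := Cfsg.Agent.Lib.Helper28.ONSimple.simple hS
  have hcard : Nat.card G = 460815505920 := (cardG hS).2
  have hidx : (ONOrderC.H).index = 122760 := hS.index_eq
  have : NeZero 122760 := ⟨by norm_num⟩
  obtain ⟨P, e, htr, hst⟩ := exists_perm_group (ONOrderC.H) hidx (by norm_num)
  refine ⟨P, ⟨e.symm.isSimpleGroup, by rw [← Nat.card_congr e.toEquiv, hcard]⟩, htr, ?_, ?_, ?_⟩
  · rw [hcard] at hst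
    omega
  · obtain ⟨K, hK⟩ := Cfsg.Agent.Lib.Helper57.ONJ1.exists_J1 hS
    obtain ⟨K', ⟨f⟩⟩ := exists_transport e K
    have := hK.1
    exact ⟨K', f.isSimpleGroup, by rw [Nat.card_congr f.toEquiv]; exact hK.2⟩
  · obtain ⟨K, hK⟩ := Cfsg.Agent.Lib.Helper57.ONM11.exists_M11 hS
    obtain ⟨K', ⟨f⟩⟩ := exists_transport e K
    have := hK.1
    exact ⟨K', f.isSimpleGroup, by rw [Nat.card_congr f.toEquiv]; exact hK.2⟩

end Cfsg.Agent.S0460
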