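import Cfsg.Statements.S1682
import Cfsg.Agent.Lib.Helper28.Sp44Alpha
import Cfsg.Agent.Lib.Helper28.Sp44Beta

set_option autoImplicit false
open Cfsg

namespace Cfsg.Agent.S1682

open Cfsg.Spor Cfsg.Agent.Lib.Helper28

/-- In the presented Held group, the subgroup H generated by the images of a, c, d, e, f, (ab)^2 and (bcde)^7 has a normal subgroup of index 2 isomorphic to the 4-dimensional symplectic group over a field with four elements. -/
theorem result : ∃ (N : Subgroup (((Subgroup.closure ({Cfsg.Spor.He.a, Cfsg.Spor.He.c, Cfsg.Spor.He.d, Cfsg.Spor.He.e, Cfsg.Spor.He.f, (Cfsg.Spor.He.a * Cfsg.Spor.He.b) ^ 2, (Cfsg.Spor.He.b * Cfsg.Spor.He.c * Cfsg.Spor.He.d * Cfsg.Spor.He.e) ^ 7} : Set (FreeGroup Cfsg.Spor.He.Gen))).map (PresentedGroup.mk (Cfsg.Spor.coxRelators Cfsg.Spor.He.edges ∪ {r | r ∈ Cfsg.Spor.He.extra}))))) (K : Type) (_ : Field K) (_ : Fintype K), N.Normal ∧ N.index = 2 ∧ Fintype.card K = 4 ∧ Nonempty (N ≃*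 Matrix.symplecticGroup (Fin 2) K) := by
  obtain ⟨φ, hS⟩ := Cfsg.Agent.S1683.setup
  obtain ⟨hsimple, hcardQ, hfinQ⟩ := Sp44Q.main
  have := hfinQ
  have hle : (Sp44Alpha.α hS).range ≤ HeOrder.H2 := Sp44Alpha.range_le hS
  have e1 : ((Sp44Alpha.α hS).range.subgroupOf HeOrder.H2) ≃* (Sp44Alpha.α hS).range :=
    Subgroup.subgroupOfEquivOfLe hle
  have e2 : Sp44Q.Q ≃* (Sp44Alpha.α hS).range :=
    MonoidHom.ofInjective (Sp44Alpha.α_injective hS hsimple)
  have e3 : Sp44Q.Q ≃* Sp44Mat.S :=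
    MulEquiv.ofBijective Sp44Beta.β (Sp44Beta.β_bijective hsimple hcardQ)
  have hcardN : Nat.card ((Sp44Alpha.α hS).range.subgroupOf HeOrder.H2) = 979200 := by
    rw [Nat.card_congr e1.toEquiv, ← Nat.card_congr e2.toEquiv, hcardQ]
  have hcardH : Nat.card HeOrder.H2 = 1958400 := (HeOrder.cardG hS).2
  have hidx : ((Sp44Alpha.α hS).range.subgroupOf HeOrder.H2).index = 2 := by
    have := Subgroup.card_mul_index ((Sp44Alpha.α hS).range.subgroupOf HeOrder.H2)
    rw [hcardN, hcardH] at this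
    omega
  exact ⟨(Sp44Alpha.α hS).range.subgroupOf HeOrder.H2, Sp44F4.F4, inferInstance, inferInstance,
    Subgroup.normal_of_index_eq_two hidx, hidx, Sp44F4.F4.card_eq,
    ⟨e1.trans (e2.symm.trans e3)⟩⟩

end Cfsg.Agent.S1682
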