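import Cfsg.Statements.S0462
import Cfsg.Agent.S1682
import Cfsg.Agent.S1683
import Cfsg.Agent.S1695
import Cfsg.Agent.Lib.Helper57.CayStab

set_option autoImplicit false
open Cfsg

namespace Cfsg.Agent.S0462

/-- The Held group exists as a transitive permutation group of degree 2058: simple of order 4030387200, with point stabiliser containing, with index 2, a copy of the 4-dimensional symplectic group over the field with four elements. -/
theorem result : ∃ H : Subgroup (Equiv.Perm (Fin 2058)), Cfsg.IsHe H ∧ MulAction.IsPretransitive H (Fin 2058) ∧ ∃ (F : Type) (_ : Field F) (_ : Fintype F), Fintype.card F = 4 ∧ ∃ N : Subgroup (MulAction.stabilizer H (0 : Fin 2058)), N.index = 2 ∧ Nonempty (N ≃* Matrix.symplecticGroup (Fin 2) F) := by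
  obtain ⟨hsimple, hcard⟩ := Cfsg.Agent.S1695.result
  have hidx := Cfsg.Agent.S1683.result.1
  obtain ⟨N0, K, iK, iK', hN0n, hN0i, hK4, ⟨f0⟩⟩ := Cfsg.Agent.S1682.result
  have : IsSimpleGroup Cfsg.Spor.He := hsimple
  have : Finite Cfsg.Spor.He := Nat.finite_of_card_ne_zero (by rw [hcard]; norm_num)
  have : NeZero 2058 := ⟨by norm_num⟩
  obtain ⟨P, e, htr, ⟨ψ⟩⟩ :=
    Cfsg.Agent.Lib.Helper57.CayMatch.exists_perm_group_stab _ hidx (by norm_num)
  refine ⟨P, ⟨e.symm.isSimpleGroup, by rw [← Nat.card_congr e.toEquiv, hcard]⟩, htr, K, iK, iK', hK4,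
    N0.map ψ.toMonoidHom, ?_, ⟨(ψ.subgroupMap N0).symm.trans f0⟩⟩
  exact (Subgroup.index_map_equiv N0 ψ).trans hN0i

end Cfsg.Agent.S0462
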