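import Mathlib
import Cfsg.Statements.S0478
import Cfsg.Agent.Lib.Helper95.J3.SU

set_option autoImplicit false
open Cfsg

namespace Cfsg.Agent.S0478

theorem exists_omega_of_card_four (F : Type) [Field F] [Fintype F] (hF : Fintype.card F = 4) :
    ∃ ω : F, ω ^ 2 + ω + 1 = 0 := by
  classical
  have hex : ∃ a : F, a ≠ 0 ∧ a ≠ 1 := by
    by_contra hcon
    have hall : ∀ a : F, a ≠ 0 → a = 1 := by
      intro a ha
      by_contra h1
      exact hcon ⟨a, ha, h1⟩
    have hle : Fintype.card F ≤ 2 := by
      calc Fintype.card F = (Finset.univ : Finset F).card := rfl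
        _ ≤ ({0, 1} : Finset F).card := by
          apply Finset.card_le_card
          intro a _
          by_cases h : a = 0
          · simp [h]
          · simp [hall a h]
        _ ≤ 2 := Finset.card_le_two
    omega
  obtain ⟨a, ha0, ha1⟩ := hex
  have h3 : a ^ 3 = 1 := by
    have := FiniteField.pow_card_sub_one_eq_one a ha0
    rwa [hF] at this
  refine ⟨a, ?_⟩
  have hprod : (a - 1) * (a ^ 2 + a + 1) = 0 := by
    have : (a - 1) * (a ^ 2 + a + 1) = a ^ 3 - 1 := by ring
    rw [this, h3, sub_self]
  rcases mul_eq_zero.mp hprod with h | h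
  · exact absurd (sub_eq_zero.mp h) ha1
  · exact h

/-- A triple cover of Janko's third group inside a unitary group: for a field F with four elements, the special unitary group of dimension 9 (with respect to the form with q = 2) has a subgroup whose centre has order 3 and whose quotient by its centre is simple of order 50232960. -/
theorem result : ∃ (F : Type) (_ : Field F) (_ : Fintype F), Fintype.card F = 4 ∧ ∃ H : Subgroup (Cfsg.SU 9 F 2), Nat.card (Subgroup.center H) = 3 ∧ Cfsg.IsJ3 (H ⧸ Subgroup.center H) := by
  haveI : Fact (Nat.Prime 2) := ⟨Nat.prime_two⟩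
  letI : Fintype (GaloisField 2 2) := Fintype.ofFinite (GaloisField 2 2)
  have hF : Fintype.card (GaloisField 2 2) = 4 := by
    rw [← Nat.card_eq_fintype_card, GaloisField.card 2 2 (by norm_num)]
    norm_num
  obtain ⟨ω, hω⟩ := exists_omega_of_card_four (GaloisField 2 2) hF
  exact ⟨GaloisField 2 2, inferInstance, inferInstance, hF,
    Cfsg.Agent.Lib.Helper95.J3.exists_in_SU hF ω hω⟩

end Cfsg.Agent.S0478
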