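import Cfsg.Statements.S0481
import Cfsg.Agent.S0443
import Mathlib

set_option autoImplicit false
open Cfsg

namespace Cfsg.Agent.S0481

theorem result {G : Type*} [Group G] [Finite G] (z : G) (hz : orderOf z = 2) (Q : Subgroup G) (hQC : Q ≤ Subgroup.centralizer ({z} : Set G)) (hQn : ∀ g ∈ Subgroup.centralizer ({z} : Set G), ∀ q ∈ Q, g * q * g⁻¹ ∈ Q) (hQ2 : IsPGroup 2 Q) (hZ : Nat.card (Subgroup.center Q) = 2) (hsq : ∀ x : Q, x ^ 2 ∈ Subgroup.center Q) (hlarge : Subgroup.centralizer (Q : Set G) ≤ Q) : (∃ P : Sylow 2 G, (P : Subgroup G) ≤ Subgroup.centralizer ({z} : Set G)) ∧ ∀ u : G, orderOf u = 2 → (∃ P : Sylow 2 G, (P : Subgroup G) ≤ Subgroup.centralizer ({u} : Set G)) → IsConj z u := by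
  have : Fact (Nat.Prime 2) := ⟨Nat.prime_two⟩
  have hz1 : z ≠ 1 := by
    intro h; rw [h, orderOf_one] at hz; omega
  -- z commutes with Q
  have hzQcomm : ∀ q ∈ Q, q * z = z * q := by
    intro q hq
    have := hQC hq
    rw [Subgroup.mem_centralizer_iff] at this
    exact (this z rfl).symm
  have hzQ : z ∈ Q := by
    apply hlarge
    rw [Subgroup.mem_centralizer_iff]
    intro q hq
    exact hzQcomm q hq
  -- elements of Q commuting with Q are 1 or z
  have hcen : ∀ x ∈ Q, (∀ q ∈ Q, q * x = x * q) → x = 1 ∨ x = z := by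
    intro x hx hxc
    by_contra hcon
    push Not at hcon
    obtain ⟨y, -, hy⟩ := (Nat.card_eq_two_iff' (1 : Subgroup.center Q)).1 hZ
    have hx' : (⟨x, hx⟩ : Q) ∈ Subgroup.center Q := by
      rw [Subgroup.mem_center_iff]
      rintro ⟨q, hq⟩
      exact Subtype.ext (hxc q hq)
    have hz' : (⟨z, hzQ⟩ : Q) ∈ Subgroup.center Q := by
      rw [Subgroup.mem_center_iff]
      rintro ⟨q, hq⟩
      exact Subtype.ext (hzQcomm q hq)
    have e1 := hy ⟨⟨x, hx⟩, hx'⟩ (by
      intro h; apply hcon.1
      have := congrArg (fun w : Subgroup.center Q => ((w : Q) : G)) h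
      simpa using this)
    have e2 := hy ⟨⟨z, hzQ⟩, hz'⟩ (by
      intro h; apply hz1
      have := congrArg (fun w : Subgroup.center Q => ((w : Q) : G)) h
      simpa using this)
    apply hcon.2
    have := congrArg (fun w : Subgroup.center Q => ((w : Q) : G)) (e1.trans e2.symm)
    simpa using this
  obtain ⟨P, hQP⟩ := hQ2.exists_le_sylow
  -- central elements of P are 1 or z
  have hPcen : ∀ x ∈ P, (∀ y ∈ P, y * x = x * y) → x = 1 ∨ x = z := by
    intro x hx hxc
    have hxQ : x ∈ Q := by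
      apply hlarge
      rw [Subgroup.mem_centralizer_iff]
      intro q hq
      exact hxc q (hQP hq)
    exact hcen x hxQ (fun q hq => hxc q (hQP hq))
  have hzP : z ∈ P := hQP hzQ
  have hzPc : ∀ y ∈ P, y * z = z * y := by
    have : Nontrivial (P : Subgroup G) := by
      rw [Subgroup.nontrivial_iff_ne_bot]
      intro h
      apply hz1
      have : z ∈ (⊥ : Subgroup G) := h ▸ hzP
      exact Subgroup.mem_bot.1 this
    have : Nontrivial (Subgroup.center (P : Subgroup G)) := P.isPGroup'.center_nontrivial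
    obtain ⟨w, hw⟩ := exists_ne (1 : Subgroup.center (P : Subgroup G))
    have hwc : ∀ y ∈ P, y * ((w : (P : Subgroup G)) : G) = ((w : (P : Subgroup G)) : G) * y := by
      intro y hy
      have := (Subgroup.mem_center_iff.1 w.2) ⟨y, hy⟩
      have h2 := congrArg Subtype.val this
      simpa using h2
    rcases hPcen _ (w : (P : Subgroup G)).2 hwc with h1 | h1
    · exfalso; apply hw
      apply Subtype.ext; apply Subtype.ext
      simpa using h1
    · rw [← h1]; exact hwc
  refine ⟨⟨P, ?_⟩, ?_⟩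
  · intro y hy
    rw [Subgroup.mem_centralizer_iff]
    intro h hh
    rw [Set.mem_singleton_iff] at hh
    subst hh
    exact (hzPc y hy).symm
  · intro u hu ⟨P', hP'⟩
    have hu1 : u ≠ 1 := by
      intro h; rw [h, orderOf_one] at hu; omega
    have hP'c : ∀ x ∈ P', x * u = u * x := by
      intro x hx
      have := hP' hx
      rw [Subgroup.mem_centralizer_iff] at this
      exact (this u rfl).symm
    have huP' : u ∈ P' := Cfsg.Agent.S0443.mem_sylow_of_centralizes u hu P' hP'c
    obtain ⟨g, hg⟩ := MulAction.exists_smul_eq G P P'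
    have hmem : ∀ x : G, x ∈ P' ↔ g⁻¹ * x * g ∈ P := by
      intro x
      rw [← hg]
      show x ∈ ((g • P : Sylow 2 G) : Subgroup G) ↔ _
      rw [Sylow.smul_def, Sylow.pointwise_smul_def, Subgroup.mem_pointwise_smul_iff_inv_smul_mem]
      simp [MulAut.smul_def]
      rfl
    have h1 : g⁻¹ * u * g ∈ P := (hmem u).1 huP'
    have h2 : ∀ y ∈ P, y * (g⁻¹ * u * g) = (g⁻¹ * u * g) * y := by
      intro y hy
      have hy' : g * y * g⁻¹ ∈ P' := by
        rw [hmem]
        have : g⁻¹ * (g * y * g⁻¹) * g = y := by group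
        rw [this]; exact hy
      have := hP'c _ hy'
      calc y * (g⁻¹ * u * g) = g⁻¹ * (g * y * g⁻¹ * u) * g := by group
        _ = g⁻¹ * (u * (g * y * g⁻¹)) * g := by rw [this]
        _ = (g⁻¹ * u * g) * y := by group
    rw [isConj_iff]
    refine ⟨g, ?_⟩
    rcases hPcen _ h1 h2 with h3 | h3
    · exfalso; apply hu1
      have : u = g * (g⁻¹ * u * g) * g⁻¹ := by group
      rw [this, h3]; group
    · rw [← h3]; group

end Cfsg.Agent.S0481
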