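import Cfsg.Statements.S0499
import Cfsg.Agent.S0071
import Cfsg.Agent.Lib.Helper4.ConjPerm

set_option autoImplicit false
open Cfsg

namespace Cfsg.Agent.S0499

open Cfsg.Agent.Lib.Helper4

/-- A non-abelian finite simple group of even order has order divisible by 12, 16 or 56. -/
theorem result {G : Type*} [Group G] [Finite G] [IsSimpleGroup G]
    (hG : ¬ IsMulCommutative G) (h2 : Even (Nat.card G)) :
    12 ∣ Nat.card G ∨ 16 ∣ Nat.card G ∨ 56 ∣ Nat.card G := by
  by_contra hcon
  push_neg at hcon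
  obtain ⟨h12, h16, h56⟩ := hcon
  haveI : Fact (Nat.Prime 2) := ⟨Nat.prime_two⟩
  obtain ⟨P⟩ : Nonempty (Sylow 2 G) := inferInstance
  have hPcard := P.card_eq_multiplicity
  set k := (Nat.card G).factorization 2 with hk
  have hPdvd : Nat.card (P : Subgroup G) ∣ Nat.card G := Subgroup.card_subgroup_dvd_card _
  have hk1 : 1 ≤ k := by
    have h2' : 2 ∣ Nat.card G := even_iff_two_dvd.mp h2
    exact (Nat.Prime.dvd_iff_one_le_factorization Nat.prime_two Nat.card_pos.ne').mp h2'
  have hk3 : k ≤ 3 := by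
    by_contra h
    push_neg at h
    apply h16
    have : (2 : ℕ) ^ 4 ∣ 2 ^ k := pow_dvd_pow 2 h
    exact (this.trans (hPcard ▸ hPdvd))
  -- Frobenius condition
  have hfrob : ∀ Q : Subgroup G, Q ≤ (P : Subgroup G) → ∀ g ∈ Subgroup.normalizer (Q : Set G),
      Nat.Coprime (orderOf g) 2 → g ∈ Subgroup.centralizer (Q : Set G) := by
    intro Q hQP g hg hgo
    by_contra hnc
    have hQdvd : Nat.card Q ∣ Nat.card (P : Subgroup G) := Subgroup.card_dvd_of_le hQP
    have hQ8 : Nat.card Q ∣ 8 := by
      refine hQdvd.trans ?_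
      rw [hPcard]
      exact pow_dvd_pow 2 hk3
    have hodd : Odd (orderOf g) := Nat.Coprime.odd_of_right hgo
    have hog : orderOf g ∣ Nat.card G := orderOf_dvd_natCard g
    have hQG : Nat.card Q ∣ Nat.card G := Subgroup.card_subgroup_dvd_card Q
    rcases small_two_group_odd_aut Q hQ8 g hg hodd hnc with ⟨h3, h4⟩ | ⟨h7, h8⟩
    · apply h12
      have : Nat.Coprime 3 4 := by norm_num
      exact this.mul_dvd_of_dvd_of_dvd (h3.trans hog) (h4.trans hQG)
    · apply h56
      have : Nat.Coprime 7 8 := by norm_num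
      exact this.mul_dvd_of_dvd_of_dvd (h7.trans hog) (h8 ▸ hQG)
  obtain ⟨N, hN, hc⟩ := (Cfsg.Agent.S0071.result P).mpr hfrob
  rcases IsSimpleGroup.eq_bot_or_eq_top_of_normal N hN with h | h
  · -- P = ⊤, G is a 2-group, hence abelian
    rw [h, Subgroup.isComplement'_bot_left] at hc
    have hG2 : IsPGroup 2 G := by
      have := P.2
      rw [hc] at this
      exact IsPGroup.of_equiv this Subgroup.topEquiv
    haveI := hG2.center_nontrivial
    have hcen : Subgroup.center G = ⊤ := by
      rcases IsSimpleGroup.eq_bot_or_eq_top_of_normal (Subgroup.center G) inferInstance with h' | h'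
      · exfalso
        exact (Subgroup.nontrivial_iff_ne_bot _).mp inferInstance h'
      · exact h'
    apply hG
    refine ⟨⟨fun a b => ?_⟩⟩
    have : a ∈ Subgroup.center G := hcen ▸ Subgroup.mem_top a
    exact (Subgroup.mem_center_iff.mp this b).symm
  · rw [h, Subgroup.isComplement'_top_left] at hc
    rw [hc, Subgroup.card_bot] at hPcard
    have : 2 ^ 1 ≤ 2 ^ k := Nat.pow_le_pow_right (by norm_num) hk1
    omega

end Cfsg.Agent.S0499
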