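import Cfsg.Statements.S0502
import Cfsg.Agent.Lib.Helper30.TwoGroupConn

set_option autoImplicit false
open Cfsg

namespace Cfsg.Agent.S0502

open Cfsg.Agent.Lib.Helper30 in
/-- If a finite 2-group has a normal elementary abelian subgroup of order at least 8, then any two of its Klein
four-subgroups are joined by a chain of Klein four-subgroups with consecutive members commuting elementwise. -/
theorem result {P : Type*} [Group P] [Finite P] (hP : IsPGroup 2 P)
    (E : Subgroup P) [E.Normal] (hE : IsMulCommutative E) (hE2 : ∀ e ∈ E, e ^ 2 = 1) (hE8 : 8 ≤ Nat.card E) :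
    Cfsg.IsFourConnected P := by
  have hEA : EA2 E := by
    refine ⟨fun a ha b hb => ?_, hE2⟩
    have := hE.is_comm.comm (⟨a, ha⟩ : ↥E) ⟨b, hb⟩
    exact congrArg Subtype.val this
  intro U V hU hV
  have hU' := (isKleinFour_iff U).mp hU
  have hV' := (isKleinFour_iff V).mp hV
  have hchain := adj2_connected_four hEA hE8 U V hU'.1 hU'.2 hV'.1 hV'.2
  refine Relation.ReflTransGen.mono ?_ _ _ hchain
  intro A B hAB
  exact ⟨(isKleinFour_iff A).mpr hAB.1, (isKleinFour_iff B).mpr hAB.2.1, hAB.2.2⟩

end Cfsg.Agent.S0502
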