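import Cfsg.Statements.S0505
import Mathlib
import Cfsg.Agent.Lib.Helper22.CharP

set_option autoImplicit false
open Cfsg

namespace Cfsg.Agent.S0505

/-- Let G be a finite group of even order in which the centralizer of every involution is solvable and has trivial
core (no nontrivial normal subgroup of odd order). Then G is of characteristic 2 type. -/
theorem result {G : Type*} [Group G] [Finite G]
    (h2 : Even (Nat.card G))
    (hs : ∀ t : G, orderOf t = 2 → Group.IsSolvable (Subgroup.centralizer ({t} : Set G)))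
    (hc : ∀ t : G, orderOf t = 2 → Cfsg.oddCore (Subgroup.centralizer ({t} : Set G)) = ⊥) :
    Cfsg.IsCharacteristicTwoType G := by
  refine ⟨h2, ?_⟩
  intro T hT hT1
  have : Fact (Nat.Prime 2) := ⟨Nat.prime_two⟩
  unfold Cfsg.IsOfCharacteristicTwo
  rw [← Cfsg.Agent.Lib.Helper22.generalizedFitting_eq_pCore_iff 2]
  apply Cfsg.Agent.Lib.Helper22.generalizedFitting_local_eq_pCore 2 _ T hT hT1
  intro t ht
  have := hs t ht
  apply Cfsg.Agent.Lib.Helper22.generalizedFitting_eq_pCore_of 2
  · unfold Cfsg.layer
    rw [eq_bot_iff]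
    apply sSup_le
    intro L hL
    exfalso
    have : Group.IsSolvable ↥L := inferInstance
    exact Cfsg.Agent.Lib.Helper21.quasisimple_not_solvable hL.2 this
  · intro q hq hq2
    have : Fact q.Prime := ⟨hq⟩
    rw [eq_bot_iff, ← hc t ht]
    apply Cfsg.Agent.Lib.Helper22.le_pPrimeCore' (Cfsg.Agent.Lib.Helper22.pCore_normal' q _)
    have hpg := Cfsg.Agent.Lib.Helper22.pCore_isPGroup' q ↥(Subgroup.centralizer ({t} : Set G))
    obtain ⟨n, hn⟩ := IsPGroup.iff_card.mp hpg
    rw [hn]
    apply Nat.Coprime.pow_left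
    exact (Nat.coprime_primes hq Nat.prime_two).mpr hq2

end Cfsg.Agent.S0505
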