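import Cfsg.Statements.S0521
import Cfsg.Agent.Lib.Helper54.CyclicDerived2

set_option autoImplicit false
open Cfsg

namespace Cfsg.Agent.S0521

/-- Let X be a finite solvable group of odd order, p a prime and S a Sylow p-subgroup of X whose commutator subgroup is
cyclic. Then the product of the largest normal subgroup of X of order prime to p with S is a normal subgroup of X. -/
theorem result {X : Type*} [Group X] [Finite X] [Group.IsSolvable X]
    (hX : Odd (Nat.card X)) (p : ℕ) [Fact p.Prime] (S : Sylow p X) (hS : IsCyclic (commutator (S : Subgroup X))) :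
    (Cfsg.pPrimeCore p X ⊔ (S : Subgroup X)).Normal :=
  by
  classical
  by_cases hp2 : p = 2
  · subst hp2
    have h1 : (⊤ : Subgroup X) ≤ Cfsg.pPrimeCore 2 X := by
      apply Cfsg.Agent.Lib.Helper55.le_pPrimeCore 2 ⊤
      rw [Subgroup.card_top]
      exact Nat.coprime_two_right.mpr hX
    have h2 : Cfsg.pPrimeCore 2 X ⊔ (S : Subgroup X) = ⊤ := by
      rw [eq_top_iff]; exact h1.trans le_sup_left
    rw [h2]
    infer_instance
  · exact Cfsg.Agent.Lib.Helper54.cyclic_derived_aux p hp2 _ X rfl inferInstance hX S hS

end Cfsg.Agent.S0521
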