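import Cfsg.Statements.S0522
import Cfsg.Agent.Lib.Helper23.TransData
import Cfsg.Agent.Lib.Helper23.TransLocal
import Cfsg.Agent.Lib.Helper54.Balance
import Cfsg.Agent.Lib.Helper33.SylowSub

set_option autoImplicit false
open Cfsg

namespace Cfsg.Agent.S0522

open Subgroup Cfsg.Agent.Lib.Helper23 Cfsg.Agent.Lib.Helper33 Cfsg.Agent.Lib.Helper24

theorem centralizer_singleton_le_normalizer_zpowers {G : Type*} [Group G] (a : G) :
    centralizer ({a} : Set G) ≤ normalizer ((zpowers a : Subgroup G) : Set G) := by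
  intro x hx
  have hxa : x * a = a * x := (mem_centralizer_singleton_iff.mp hx)
  have hcomm : ∀ y ∈ zpowers a, x * y * x⁻¹ = y := by
    intro y hy
    obtain ⟨n, rfl⟩ := mem_zpowers_iff.mp hy
    have : Commute x (a ^ n) := (show Commute x a from hxa).zpow_right n
    rw [this.eq, mul_inv_cancel_right]
  rw [mem_normalizer_iff]
  intro y
  constructor
  · intro hy
    rw [hcomm y hy]
    exact hy
  · intro hy
    have h1 := hcomm _ hy
    have h4 : x * y * x⁻¹ = y := mul_left_cancel (mul_right_cancel h1)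
    rw [← h4]
    exact hy

/-- `B` normal in the Sylow subgroup `P` with `C_P(B) = B`: `B` contains every `p`-element
of `C(B)`. -/
theorem mem_of_mem_centralizer {X : Type*} [Group X] [Finite X] {p : ℕ} [Fact p.Prime]
    (P : Sylow p X) (B : Subgroup X) (hBP : B ≤ (P : Subgroup X))
    (hBn : ∀ x ∈ (P : Subgroup X), ∀ b ∈ B, x * b * x⁻¹ ∈ B)
    (hBc : (P : Subgroup X) ⊓ Subgroup.centralizer (B : Set X) = B)
    {x : X} (hx : x ∈ centralizer (B : Set X)) (hxo : orderOf x = p) : x ∈ B := by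
  have hpp : p.Prime := Fact.out
  have hBp : IsPGroup p B := P.2.to_le hBP
  have hPN : (P : Subgroup X) ≤ normalizer (B : Set X) := by
    intro g hg
    rw [mem_normalizer_iff]
    intro b
    refine ⟨fun hb => hBn g hg b hb, fun hb => ?_⟩
    have := hBn g⁻¹ (inv_mem hg) _ hb
    have e : g⁻¹ * (g * b * g⁻¹) * g⁻¹⁻¹ = b := by group
    rwa [e] at this
  have hxN : zpowers x ≤ normalizer (B : Set X) := by
    rw [zpowers_le]
    exact centralizer_le_normalizer _ hx
  have hSN : zpowers x ⊔ B ≤ normalizer (B : Set X) := sup_le hxN le_normalizer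
  have hSp : IsPGroup p (zpowers x ⊔ B : Subgroup X) := by
    have hdvd := card_sup_dvd_of_le_normalizer (zpowers x) B hxN
    obtain ⟨k, hk⟩ := IsPGroup.iff_card.mp hBp
    rw [Nat.card_zpowers, hxo, hk, ← pow_succ'] at hdvd
    obtain ⟨j, -, hj⟩ := (Nat.dvd_prime_pow hpp).mp hdvd
    exact IsPGroup.of_card hj
  have hPi : ¬ p ∣ (P : Subgroup X).relIndex (normalizer (B : Set X)) := by
    intro h
    apply P.not_dvd_index
    rw [← relIndex_mul_index hPN]
    exact h.mul_right _
  obtain ⟨c, hc, hle⟩ := sylow_sub hPN P.2 hPi hSN hSp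
  have hcB : cj c B = B := cj_eq_self_iff.mpr hc
  have hx' : c * x * c⁻¹ ∈ (P : Subgroup X) :=
    hle (conj_mem_cj (mem_sup_left (mem_zpowers x)))
  have hx'c : c * x * c⁻¹ ∈ centralizer (B : Set X) := by
    have : c * x * c⁻¹ ∈ cj c (centralizer (B : Set X)) := conj_mem_cj hx
    rwa [← centralizer_cj, hcB] at this
  have hx'B : c * x * c⁻¹ ∈ B := by
    rw [← hBc]
    exact ⟨hx', hx'c⟩
  have : c * x * c⁻¹ ∈ cj c B := by rw [hcB]; exact hx'B
  exact conj_mem_cj_iff.mp this

/-- Transitivity Theorem (odd-order setting). Let X be a finite group of odd order in which the normalizer of every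
nontrivial p-subgroup is solvable, P a Sylow p-subgroup, and B an abelian subgroup of P, normalized by P, with
C_P(B) = B and containing an elementary abelian subgroup of order p^3. Then for every prime q ≠ p, any two q-subgroups
that are maximal among the q-subgroups normalized by B are conjugate by an element of the centralizer of B. -/
theorem result {X : Type*} [Group X] [Finite X] (hX : Odd (Nat.card X)) (p : ℕ)
    [Fact p.Prime] (hloc : ∀ T : Subgroup X, IsPGroup p T → T ≠ ⊥ → Group.IsSolvable (Subgroup.normalizer (T : Set X)))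
    (P : Sylow p X) (B : Subgroup X) (hBP : B ≤ (P : Subgroup X))
    (hBn : ∀ x ∈ (P : Subgroup X), ∀ b ∈ B, x * b * x⁻¹ ∈ B) (hBa : IsMulCommutative B)
    (hBc : (P : Subgroup X) ⊓ Subgroup.centralizer (B : Set X) = B)
    (hB3 : ∃ E : Subgroup X, E ≤ B ∧ (∀ e ∈ E, e ^ p = 1) ∧ p ^ 3 ≤ Nat.card E)
    (q : ℕ) [Fact q.Prime] (hqp : q ≠ p) (Q₁ Q₂ : Subgroup X)
    (h₁ : IsPGroup q Q₁ ∧ B ≤ Subgroup.normalizer (Q₁ : Set X) ∧
      ∀ R : Subgroup X, IsPGroup q R → B ≤ Subgroup.normalizer (R : Set X) → Q₁ ≤ R → R = Q₁)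
    (h₂ : IsPGroup q Q₂ ∧ B ≤ Subgroup.normalizer (Q₂ : Set X) ∧
      ∀ R : Subgroup X, IsPGroup q R → B ≤ Subgroup.normalizer (R : Set X) → Q₂ ≤ R → R = Q₂) :
    ∃ c ∈ Subgroup.centralizer (B : Set X), Q₂ = Q₁.map (MulAut.conj c).toMonoidHom := by
  classical
  have hpp : p.Prime := Fact.out
  have hqq : q.Prime := Fact.out
  obtain ⟨E, hEB, hEp, hEcard⟩ := hB3
  have hBp : IsPGroup p B := P.2.to_le hBP
  have hBcomm : ∀ x ∈ B, ∀ y ∈ B, x * y = y * x := by
    intro x hx y hy
    have := hBa.is_comm.comm (⟨x, hx⟩ : B) ⟨y, hy⟩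
    have h2 := congrArg Subtype.val this
    simpa using h2
  -- `p` is odd
  have hp2 : p ≠ 2 := by
    rintro rfl
    have h1 : 2 ∣ Nat.card E := by
      have : 2 ∣ 2 ^ 3 := ⟨4, by norm_num⟩
      obtain ⟨k, hk⟩ := IsPGroup.iff_card.mp (hBp.to_le hEB)
      rw [hk] at hEcard ⊢
      rcases Nat.eq_zero_or_pos k with h0 | h0
      · rw [h0] at hEcard; norm_num at hEcard
      · exact dvd_pow_self 2 h0.ne'
    have h2 : 2 ∣ Nat.card X := h1.trans (card_subgroup_dvd_card E)
    exact (Nat.not_even_iff_odd.mpr hX) (even_iff_two_dvd.mpr h2)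
  obtain ⟨A₀, hA₀E, hA₀card⟩ : ∃ A₀ : Subgroup X, A₀ ≤ E ∧ Nat.card A₀ = p ^ 3 := by
    have hEpg : IsPGroup p E := hBp.to_le hEB
    obtain ⟨k, hk⟩ := IsPGroup.iff_card.mp hEpg
    have hk3 : 3 ≤ k := by
      by_contra hcon
      push Not at hcon
      have : p ^ k < p ^ 3 := Nat.pow_lt_pow_right hpp.one_lt hcon
      omega
    have hdvd : p ^ 3 ∣ Nat.card E := by
      rw [hk]
      exact pow_dvd_pow p hk3
    obtain ⟨K, hK⟩ := Sylow.exists_subgroup_card_pow_prime p hdvd
    exact ⟨K.map E.subtype, map_subtype_le _, by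
      rw [card_map_of_injective E.subtype_injective, hK]⟩
  have hA₀B : A₀ ≤ B := hA₀E.trans hEB
  have hΩ : ∀ x ∈ centralizer (B : Set X), orderOf x = p → x ∈ B :=
    fun x hx ho => mem_of_mem_centralizer P B hBP hBn hBc hx ho
  have hnotdvd : ∀ Y : Subgroup X, IsPGroup q Y → ¬ p ∣ Nat.card Y := by
    intro Y hY hdvd
    obtain ⟨k, hk⟩ := IsPGroup.iff_card.mp hY
    rw [hk] at hdvd
    exact hqp ((Nat.prime_dvd_prime_iff_eq hpp hqq).mp (hpp.dvd_of_dvd_pow hdvd)).symm
  have hBHa : ∀ a ∈ A₀, B ≤ normalizer ((zpowers a : Subgroup X) : Set X) := by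
    intro a ha e he
    apply centralizer_singleton_le_normalizer_zpowers a
    rw [mem_centralizer_singleton_iff]
    exact hBcomm e he a (hA₀B ha)
  have hLp : ∀ a : X, ¬ p ∣ Nat.card ((Cfsg.pPrimeCore p
      (normalizer ((zpowers a : Subgroup X) : Set X))).map
      (normalizer ((zpowers a : Subgroup X) : Set X)).subtype) := by
    intro a
    rw [card_map_of_injective (subtype_injective _)]
    exact (Nat.Prime.coprime_iff_not_dvd hpp).mp
      (Cfsg.Agent.Lib.Helper33.pPrimeCore_card_coprime' p).symm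
  have hdata : TransData p q B A₀ (centralizer (B : Set X))
      {Y | IsPGroup q Y ∧ B ≤ normalizer (Y : Set X)}
      (fun a => (Cfsg.pPrimeCore p (normalizer ((zpowers a : Subgroup X) : Set X))).map
        (normalizer ((zpowers a : Subgroup X) : Set X)).subtype) := by
    refine
      { hA := hBp
        hA₀A := hA₀B
        hA₀c := fun a ha b hb => hBcomm a (hA₀B ha) b hb
        hA₀p := fun a ha => hEp a (hA₀E ha)
        hA₀card := hA₀card
        hqp := hqp
        hFq := fun Y hY => hY.1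
        hFA := fun Y hY => hY.2
        hFsub := fun Y hY T hTY hBT => ⟨hY.1.to_le hTY, hBT⟩
        hFconj := ?_
        hL1 := fun a _ _ => hLp a
        hL2 := ?_
        hL3 := ?_
        hLW := fun a ha ha1 D hD => ⟨fun T _ hTq hBT => ⟨hTq, hBT⟩, inf_le_right⟩ }
    · intro Y hY c hc
      refine ⟨isPGroup_cj hY.1, ?_⟩
      rw [normalizer_cj]
      intro e he
      have : c * e * c⁻¹ = e := by
        rw [← mem_centralizer_iff.mp hc e he, mul_inv_cancel_right]
      rw [← this]
      exact conj_mem_cj (hY.2 he)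
    · intro a ha _
      have := Cfsg.Agent.Lib.Helper33.pPrimeCore_normal p
        (normalizer ((zpowers a : Subgroup X) : Set X))
      exact (hBHa a ha).trans (le_normalizer_map_subtype_of_normal _ _)
    · intro a ha ha1 Y hY
      have hsolv : Group.IsSolvable (normalizer ((zpowers a : Subgroup X) : Set X)) := by
        apply hloc
        · apply isPGroup_zpowers_of_pow_eq_one (k := 1)
          rw [pow_one]
          exact hEp a (hA₀E ha)
        · intro hbot
          apply ha1
          have : a ∈ (zpowers a : Subgroup X) := mem_zpowers a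
          rw [hbot] at this
          exact mem_bot.mp this
      have hcons : Cfsg.IsPConstrained p (normalizer ((zpowers a : Subgroup X) : Set X)) :=
        (Cfsg.Agent.Lib.Helper22.isPConstrained_iff_centralizer_le p).mpr
          (Cfsg.Agent.Lib.Helper54.centralizer_pCore_quotient_le_of_isSolvable p)
      exact signalizer_le_map_pPrimeCore_odd hp2 hcons (hBHa a ha) hBp hΩ
        (inf_le_right.trans (centralizer_singleton_le_normalizer_zpowers a))
        (hnotdvd _ (hY.1.to_le inf_le_left))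
        (le_normalizer_inf' hY.2
          (le_normalizer_centralizer_singleton (fun b hb => hBcomm a (hA₀B ha) b hb)))
  have hm₁ : IsMaxIn {Y | IsPGroup q Y ∧ B ≤ normalizer (Y : Set X)} Q₁ :=
    ⟨⟨h₁.1, h₁.2.1⟩, fun R hR hle => h₁.2.2 R hR.1 hR.2 hle⟩
  have hm₂ : IsMaxIn {Y | IsPGroup q Y ∧ B ≤ normalizer (Y : Set X)} Q₂ :=
    ⟨⟨h₂.1, h₂.2.1⟩, fun R hR hle => h₂.2.2 R hR.1 hR.2 hle⟩
  obtain ⟨c, hc, hcQ⟩ := hdata.transitive Q₁ Q₂ hm₁ hm₂
  exact ⟨c, hc, hcQ⟩

end Cfsg.Agent.S0522
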