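import Cfsg.Statements.S0527
import Mathlib
import Cfsg.Agent.Lib.Helper9.Supersolvable3

set_option autoImplicit false
open Cfsg

namespace Cfsg.Agent.S0527

open Cfsg.Agent.Lib.Helper9 in
theorem coatom_index_prime_aux : ∀ (n : ℕ) (G : Type*) [Group G] [Finite G],
    Nat.card G = n → Cfsg.IsSupersolvable G → ∀ M : Subgroup G, IsCoatom M → M.index.Prime := by
  intro n
  induction n using Nat.strong_induction_on with
  | _ n ih =>
    intro G _ _ hcard hG M hM
    rcases subsingleton_or_nontrivial G with hsub | hnt
    · exact absurd (Subsingleton.elim M ⊤) hM.1
    obtain ⟨A, hAn, hAp⟩ := exists_normal_prime_card_of_isSupersolvable hG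
    by_cases hAM : A ≤ M
    · -- pass to the quotient
      have hQ : Cfsg.IsSupersolvable (G ⧸ A) := isSupersolvable_quotient A hG
      have hcardQ : Nat.card (G ⧸ A) < n := by
        have h1 : Nat.card (G ⧸ A) * Nat.card A = Nat.card G := by
          rw [← Subgroup.index_eq_card, Subgroup.index_mul_card]
        have h2 : 2 ≤ Nat.card A := hAp.two_le
        have h3 : 0 < Nat.card (G ⧸ A) := Nat.card_pos
        rw [← hcard, ← h1]
        nlinarith
      set π := QuotientGroup.mk' A with hπ
      have hsurj : Function.Surjective π := QuotientGroup.mk'_surjective A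
      have hker : π.ker = A := QuotientGroup.ker_mk' A
      have hcm : (M.map π).comap π = M := by
        rw [Subgroup.comap_map_eq, hker, sup_eq_left.mpr hAM]
      have hcoat : IsCoatom (M.map π) := by
        constructor
        · intro htop
          apply hM.1
          rw [← hcm, htop, Subgroup.comap_top]
        · intro X hX
          have h1 : M ≤ X.comap π := by
            rw [← hcm]; exact Subgroup.comap_mono hX.le
          have h2 : M ≠ X.comap π := by
            intro h
            have : M.map π = X := by
              rw [h, Subgroup.map_comap_eq_self_of_surjective hsurj]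
            exact hX.ne this
          have h3 := hM.2 _ (lt_of_le_of_ne h1 h2)
          rw [← Subgroup.map_comap_eq_self_of_surjective hsurj X, h3,
            Subgroup.map_top_of_surjective π hsurj]
      have := ih _ hcardQ (G ⧸ A) rfl hQ (M.map π) hcoat
      rwa [Subgroup.index_map_eq M hsurj (by rw [hker]; exact hAM)] at this
    · -- A is a complement to M
      have hsup : M ⊔ A = ⊤ := by
        by_contra hne
        have h1 : M ≤ M ⊔ A := le_sup_left
        rcases eq_or_lt_of_le h1 with h2 | h2
        · apply hAM; rw [h2]; exact le_sup_right
        · exact hne (hM.2 _ h2)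
      have hinf : A ⊓ M = ⊥ := by
        have hfact : Fact (Nat.card A).Prime := ⟨hAp⟩
        rcases Subgroup.eq_bot_or_eq_top_of_prime_card ((A ⊓ M).subgroupOf A) with h | h
        · rw [Subgroup.subgroupOf_eq_bot] at h
          rw [disjoint_iff] at h
          rwa [inf_assoc, inf_comm M A, ← inf_assoc, inf_idem] at h
        · rw [Subgroup.subgroupOf_eq_top] at h
          exact absurd (h.trans inf_le_right) hAM
      have hcomp : Subgroup.IsComplement' A M := by
        apply Subgroup.isComplement'_of_disjoint_and_mul_eq_univ
        · rw [disjoint_iff]; exact hinf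
        · rw [← Subgroup.normal_mul, sup_comm, hsup]; rfl
      rw [hcomp.index_eq_card]
      exact hAp


/-- In a finite supersolvable group the index of any maximal subgroup is a prime number. -/
theorem result {G : Type*} [Group G] [Finite G] (hG : Cfsg.IsSupersolvable G) (M : Subgroup G) (hM : IsCoatom M) : M.index.Prime := by
  exact coatom_index_prime_aux _ G rfl hG M hM

end Cfsg.Agent.S0527
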