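import Cfsg.Statements.S0529
import Mathlib
import Cfsg.Agent.Lib.Helper9.Supersolvable4

set_option autoImplicit false
open Cfsg

namespace Cfsg.Agent.S0529

open Cfsg.Agent.Lib.Helper9 in
theorem chain_aux : ∀ (n : ℕ) (G : Type*) [Group G] [Finite G],
    Nat.card G = n → Cfsg.IsSupersolvable G →
    ∃ (m : ℕ) (H : Fin (m + 1) → Subgroup G), H 0 = ⊥ ∧ H (Fin.last m) = ⊤ ∧ (∀ i, (H i).Normal) ∧
      (∀ i : Fin m, H i.castSucc ≤ H i.succ ∧ ((H i.castSucc).relIndex (H i.succ)).Prime) ∧
      ∀ i j : Fin m, i ≤ j →
        (H j.castSucc).relIndex (H j.succ) ≤ (H i.castSucc).relIndex (H i.succ) := by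
  intro n
  induction n using Nat.strong_induction_on with
  | _ n ih =>
    intro G _ _ hcard hG
    rcases subsingleton_or_nontrivial G with hsub | hnt
    · refine ⟨0, fun _ => ⊥, rfl, Subsingleton.elim _ _, fun _ => inferInstance,
        fun i => i.elim0, fun i => i.elim0⟩
    have h1 : 1 < Nat.card G := Finite.one_lt_card_iff_nontrivial.mpr hnt
    obtain ⟨p, hp, hpd, hmax⟩ := exists_largest_prime_factor h1
    obtain ⟨A, hAn, hAcard⟩ := exists_normal_card_eq_largest_prime _ G rfl hG p hp hpd hmax
    have hQ : Cfsg.IsSupersolvable (G ⧸ A) := isSupersolvable_quotient A hG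
    have hcardQ : Nat.card (G ⧸ A) < n := by
      rw [← hcard]; exact card_quotient_lt A (by rw [hAcard]; exact hp.two_le)
    obtain ⟨m, Hbar, hb0, hbl, hbn, hbs, hbm⟩ := ih _ hcardQ (G ⧸ A) rfl hQ
    set π := QuotientGroup.mk' A with hπ
    have hsurj : Function.Surjective π := QuotientGroup.mk'_surjective A
    set H : Fin (m + 1 + 1) → Subgroup G :=
      Fin.cons (α := fun _ => Subgroup G) ⊥ (fun i => (Hbar i).comap π) with hH
    have hH0 : H 0 = ⊥ := by rw [hH, Fin.cons_zero]
    have hHs : ∀ i : Fin (m + 1), H i.succ = (Hbar i).comap π := by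
      intro i; rw [hH, Fin.cons_succ]
    have hrel : ∀ X Y : Subgroup (G ⧸ A), (X.comap π).relIndex (Y.comap π) = X.relIndex Y := by
      intro X Y
      rw [Subgroup.relIndex_comap, Subgroup.map_comap_eq_self_of_surjective hsurj]
    -- the relative indices
    have hr0 : (H (0 : Fin (m + 1)).castSucc).relIndex (H (0 : Fin (m + 1)).succ) = p := by
      rw [hHs, Fin.castSucc_zero, hH0, Subgroup.relIndex_bot_left, hb0, MonoidHom.comap_bot,
        hπ, QuotientGroup.ker_mk', hAcard]
    have hrs : ∀ j : Fin m, (H j.succ.castSucc).relIndex (H j.succ.succ) =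
        (Hbar j.castSucc).relIndex (Hbar j.succ) := by
      intro j
      rw [← Fin.succ_castSucc, hHs, hHs, hrel]
    have hprime : ∀ i : Fin (m + 1), ((H i.castSucc).relIndex (H i.succ)).Prime := by
      intro i
      induction i using Fin.cases with
      | zero => rw [hr0]; exact hp
      | succ j => rw [hrs]; exact (hbs j).2
    refine ⟨m + 1, H, hH0, ?_, ?_, ?_, ?_⟩
    · rw [← Fin.succ_last, hHs, hbl, Subgroup.comap_top]
    · intro i
      induction i using Fin.cases with
      | zero => rw [hH0]; infer_instance
      | succ j => rw [hHs]; exact (hbn j).comap π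
    · intro i
      refine ⟨?_, hprime i⟩
      induction i using Fin.cases with
      | zero => rw [Fin.castSucc_zero, hH0]; exact bot_le
      | succ j =>
        rw [← Fin.succ_castSucc, hHs, hHs]
        exact Subgroup.comap_mono (hbs j).1
    · intro i j hij
      induction i using Fin.cases with
      | zero =>
        rw [hr0]
        apply hmax _ (hprime j)
        exact (Subgroup.relIndex_dvd_card _ _).trans (Subgroup.card_subgroup_dvd_card _)
      | succ i' =>
        induction j using Fin.cases with
        | zero => exact absurd hij (by simp [Fin.succ_ne_zero])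
        | succ j' =>
          rw [hrs, hrs]
          exact hbm i' j' (Fin.succ_le_succ_iff.mp hij)


/-- A finite supersolvable group has a chain of normal subgroups, from the trivial subgroup to the whole group, in which every step has prime index and the primes occurring are non-increasing as one goes up the chain. -/
theorem result {G : Type*} [Group G] [Finite G] (hG : Cfsg.IsSupersolvable G) : ∃ (n : ℕ) (H : Fin (n + 1) → Subgroup G), H 0 = ⊥ ∧ H (Fin.last n) = ⊤ ∧ (∀ i, (H i).Normal) ∧ (∀ i : Fin n, H i.castSucc ≤ H i.succ ∧ ((H i.castSucc).relIndex (H i.succ)).Prime) ∧ ∀ i j : Fin n, i ≤ j → (H j.castSucc).relIndex (H j.succ) ≤ (H i.castSucc).relIndex (H i.succ) := by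
  exact chain_aux _ G rfl hG

end Cfsg.Agent.S0529
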