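import Cfsg.Statements.S0530
import Mathlib
import Cfsg.Agent.Lib.Helper9.Supersolvable5

set_option autoImplicit false
open Cfsg

namespace Cfsg.Agent.S0530

open Cfsg.Agent.Lib.Helper9 in
theorem exists_normal_card_p {G : Type*} [Group G] [Finite G] (p n : ℕ) (hp : p.Prime)
    (hp2 : p ≠ 2) (hn : 0 < n) (hG : Nat.card G = 2 * p ^ n) :
    ∃ A : Subgroup G, A.Normal ∧ Nat.card A = p := by
  have hfact : Fact p.Prime := ⟨hp⟩
  obtain ⟨P⟩ : Nonempty (Sylow p G) := inferInstance
  have hfac : (Nat.card G).factorization p = n := by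
    rw [hG, Nat.factorization_mul (by norm_num) (pow_ne_zero _ hp.ne_zero)]
    have h2 : (2 : ℕ).factorization p = 0 := by
      apply Nat.factorization_eq_zero_of_not_dvd
      intro hd
      have := (Nat.prime_dvd_prime_iff_eq hp Nat.prime_two).mp hd
      exact hp2 this
    simp [h2, hp.factorization_pow]
  have hPcard : Nat.card P = p ^ n := by rw [P.card_eq_multiplicity, hfac]
  have hidx : (P : Subgroup G).index = 2 := by
    have := Subgroup.index_mul_card (P : Subgroup G)
    rw [hPcard, hG] at this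
    exact Nat.eq_of_mul_eq_mul_right (pow_pos hp.pos n) this
  have hPn : (P : Subgroup G).Normal := Subgroup.normal_of_index_eq_two hidx
  have hPnt : Nontrivial P := by
    rw [← Finite.one_lt_card_iff_nontrivial, hPcard]
    exact Nat.one_lt_pow hn.ne' hp.one_lt
  have hcnt : Nontrivial (Subgroup.center P) := P.isPGroup'.center_nontrivial
  have hcpg : IsPGroup p (Subgroup.center P) := P.isPGroup'.to_subgroup _
  have hdvd : p ∣ Nat.card (Subgroup.center P) := by
    rcases hcpg.card_eq_or_dvd with h1 | h1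
    · exact absurd h1 (Finite.one_lt_card_iff_nontrivial.mpr hcnt).ne'
    · exact h1
  obtain ⟨z₀, hz₀⟩ := exists_prime_orderOf_dvd_card' p hdvd
  set z : G := ((z₀ : P) : G) with hz
  have hzord : orderOf z = p := by
    rw [hz, Subgroup.orderOf_coe, Subgroup.orderOf_coe, hz₀]
  have hzP : z ∈ (P : Subgroup G) := (z₀ : P).2
  have hz_comm : ∀ x ∈ (P : Subgroup G), x * z = z * x := by
    intro x hx
    have h1 := Subgroup.mem_center_iff.mp z₀.2 ⟨x, hx⟩
    have h2 := congrArg (Subtype.val) h1
    simpa using h2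
  have htex : ∃ t : G, t ∉ (P : Subgroup G) := by
    by_contra hall
    push Not at hall
    have : (P : Subgroup G) = ⊤ := by
      ext g; simp [hall g]
    rw [this, Subgroup.index_top] at hidx
    omega
  obtain ⟨t, ht⟩ := htex
  set z' : G := t * z * t⁻¹ with hz'
  have hz'P : z' ∈ (P : Subgroup G) := hPn.conj_mem z hzP t
  have hz'_comm : ∀ x ∈ (P : Subgroup G), x * z' = z' * x := by
    intro x hx
    have hy : t⁻¹ * x * t ∈ (P : Subgroup G) := by
      have := hPn.conj_mem x hx t⁻¹
      simpa using this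
    have h1 := hz_comm _ hy
    calc x * z' = t * ((t⁻¹ * x * t) * z) * t⁻¹ := by rw [hz']; group
      _ = t * (z * (t⁻¹ * x * t)) * t⁻¹ := by rw [h1]
      _ = z' * x := by rw [hz']; group
  have httP : t * t ∈ (P : Subgroup G) := by
    rw [Subgroup.mul_mem_iff_of_index_two hidx]
  have hzz' : z' * z = z * z' := hz_comm z' hz'P
  by_cases hw : z * z' = 1
  · refine ⟨Subgroup.zpowers z, ?_, ?_⟩
    · apply zpowers_normal_of_index_two (P : Subgroup G) hidx z t ht hz_comm
      have : t * z * t⁻¹ = z⁻¹ := by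
        rw [← hz']
        exact (eq_inv_of_mul_eq_one_right hw)
      rw [this]
      exact Subgroup.inv_mem _ (Subgroup.mem_zpowers z)
    · rw [Nat.card_zpowers, hzord]
  · set w := z * z' with hwdef
    have hw_comm : ∀ x ∈ (P : Subgroup G), x * w = w * x := by
      intro x hx
      rw [hwdef, ← mul_assoc, hz_comm x hx, mul_assoc, hz'_comm x hx, ← mul_assoc]
    have htw : t * w * t⁻¹ = w := by
      have h1 : t * z' * t⁻¹ = z := by
        have h2 := hz_comm _ httP
        calc t * z' * t⁻¹ = ((t * t) * z) * (t * t)⁻¹ := by rw [hz']; group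
          _ = (z * (t * t)) * (t * t)⁻¹ := by rw [h2]
          _ = z := by group
      calc t * w * t⁻¹ = (t * z * t⁻¹) * (t * z' * t⁻¹) := by rw [hwdef]; group
        _ = z' * z := by rw [h1]
        _ = w := by rw [hzz']
    have hwp : w ^ p = 1 := by
      have hc : Commute z z' := hzz'.symm
      rw [hwdef, hc.mul_pow]
      have h1 : z ^ p = 1 := by rw [← hzord]; exact pow_orderOf_eq_one z
      have h2 : z' ^ p = 1 := by rw [hz', conj_pow, h1]; group
      rw [h1, h2, one_mul]
    have hword : orderOf w = p := orderOf_eq_prime hwp hw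
    refine ⟨Subgroup.zpowers w, ?_, ?_⟩
    · apply zpowers_normal_of_index_two (P : Subgroup G) hidx w t ht hw_comm
      rw [htw]
      exact Subgroup.mem_zpowers w
    · rw [Nat.card_zpowers, hword]

open Cfsg.Agent.Lib.Helper9 in
theorem ss_aux (p : ℕ) (hp : p.Prime) (hp2 : p ≠ 2) : ∀ (n : ℕ) (G : Type*) [Group G] [Finite G],
    Nat.card G = 2 * p ^ n → Cfsg.IsSupersolvable G := by
  intro n
  induction n with
  | zero =>
    intro G _ _ hG
    have : Fact (Nat.Prime 2) := ⟨Nat.prime_two⟩
    have hpg : IsPGroup 2 G := IsPGroup.of_card (n := 1) (by rw [hG]; norm_num)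
    exact isSupersolvable_of_isPGroup 2 _ G rfl hpg
  | succ n ih =>
    intro G _ _ hG
    obtain ⟨A, hAn, hAcard⟩ := exists_normal_card_p p (n + 1) hp hp2 (Nat.succ_pos n) hG
    have hcyc : IsCyclic A := by
      have : Fact p.Prime := ⟨hp⟩
      exact isCyclic_of_prime_card hAcard
    have hQ : Nat.card (G ⧸ A) = 2 * p ^ n := by
      have := card_quotient_mul_card A
      rw [hAcard, hG, pow_succ, ← mul_assoc] at this
      exact Nat.eq_of_mul_eq_mul_right hp.pos this
    exact isSupersolvable_of_cyclic_normal_quotient A (ih (G ⧸ A) hQ)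


/-- A finite group whose order is twice a prime power is supersolvable. -/
theorem result {G : Type*} [Group G] [Finite G] (p n : ℕ) (hp : p.Prime) (hG : Nat.card G = 2 * p ^ n) : Cfsg.IsSupersolvable G := by
  by_cases hp2 : p = 2
  · subst hp2
    have : Fact (Nat.Prime 2) := ⟨Nat.prime_two⟩
    have hpg : IsPGroup 2 G := IsPGroup.of_card (n := n + 1) (by rw [hG, pow_succ, mul_comm])
    exact Cfsg.Agent.Lib.Helper9.isSupersolvable_of_isPGroup 2 _ G rfl hpg
  · exact ss_aux p hp hp2 n G hG

end Cfsg.Agent.S0530
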