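import Cfsg.Statements.S0534
import Mathlib
import Cfsg.Agent.Lib.Helper9.HallSplit
import Cfsg.Agent.Lib.Helper9.Supersolvable
import Cfsg.Agent.Lib.Helper9.Basic
import Cfsg.Agent.S0531
import Cfsg.Agent.S0003

set_option autoImplicit false
open Cfsg

namespace Cfsg.Agent.S0534

open Cfsg.Agent.Lib.Helper9 in
theorem isSupersolvable_of_comm : ∀ (n : ℕ) (A : Type*) [Group A] [Finite A],
    Nat.card A = n → (∀ x y : A, x * y = y * x) → Cfsg.IsSupersolvable A := by
  intro n
  induction n using Nat.strong_induction_on with
  | _ n ih =>
    intro A _ _ hcard hcomm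
    rcases subsingleton_or_nontrivial A with hsub | hnt
    · exact isSupersolvable_of_subsingleton
    obtain ⟨z, hz1⟩ := exists_ne (1 : A)
    have hN : (Subgroup.zpowers z).Normal := by
      constructor
      intro y hy g
      rw [hcomm g y, mul_inv_cancel_right]
      exact hy
    have hcardN : 2 ≤ Nat.card (Subgroup.zpowers z) := by
      rw [Nat.card_zpowers]
      have h1 : orderOf z ≠ 1 := fun h => hz1 (orderOf_eq_one_iff.mp h)
      have h0 : 0 < orderOf z := orderOf_pos z
      omega
    have hQc : ∀ x y : A ⧸ Subgroup.zpowers z, x * y = y * x := by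
      intro x y
      induction x using QuotientGroup.induction_on with
      | H x =>
        induction y using QuotientGroup.induction_on with
        | H y =>
          rw [← QuotientGroup.mk_mul, ← QuotientGroup.mk_mul, hcomm]
    have hQ : Cfsg.IsSupersolvable (A ⧸ Subgroup.zpowers z) :=
      ih _ (by rw [← hcard]; exact card_quotient_lt _ hcardN) _ rfl hQc
    exact isSupersolvable_of_cyclic_normal_quotient (Subgroup.zpowers z) hQ


/-- Let G be a finite solvable group and A a finite abelian group such that every prime dividing the order of A divides the order of G and, for each prime p dividing the order of G, the exponent of p in the order of A is one less than its exponent in the order of G. Then G × A has a subgroup of every order dividing its order. -/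
theorem result {G A : Type*} [Group G] [CommGroup A] [Finite G] [Finite A] [Group.IsSolvable G] (hA : ∀ p : ℕ, p.Prime → p ∣ Nat.card A → p ∣ Nat.card G) (hexp : ∀ p : ℕ, p.Prime → p ∣ Nat.card G → (Nat.card A).factorization p + 1 = (Nat.card G).factorization p) : Cfsg.HasSubgroupOfEveryOrder (G × A) := by
  intro d hd
  have hcardGA : Nat.card (G × A) = Nat.card G * Nat.card A := Nat.card_prod G A
  rw [hcardGA] at hd
  obtain ⟨m, k, b, hdmb, hnmk, hcop, hba⟩ := Cfsg.Agent.Lib.Helper9.hall_split (Nat.card G)
    (Nat.card A) d Nat.card_pos.ne' Nat.card_pos.ne' hd hexp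
  obtain ⟨H, hH⟩ := Cfsg.Agent.S0003.result (G := G) m k hnmk hcop
  have hAss : Cfsg.IsSupersolvable A := isSupersolvable_of_comm _ A rfl mul_comm
  obtain ⟨B, hB⟩ := Cfsg.Agent.S0531.result hAss b hba
  refine ⟨H.prod B, ?_⟩
  rw [Nat.card_congr (Subgroup.prodEquiv H B).toEquiv, Nat.card_prod, hH, hB, hdmb]

end Cfsg.Agent.S0534
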