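import Cfsg.Statements.S0535
import Cfsg.Agent.Lib.Helper55.HallConverse

set_option autoImplicit false
set_option linter.style.haveILetI false
open Cfsg

namespace Cfsg.Agent.S0535

open Cfsg.Agent.Lib.Helper55

theorem aux {G : Type*} [Group G] [Finite G] (h : ∀ H : Subgroup G, H ≠ ⊥ → ∀ p : ℕ, p.Prime → p ∣ Nat.card H → ∃ K : Subgroup H, K ≠ ⊤ ∧ ∃ k : ℕ, K.index = p ^ k) (p : ℕ) (hp : p.Prime) :
    ∀ (m : ℕ) (H : Subgroup G), Nat.card H = m →
      ∃ K : Subgroup G, K ≤ H ∧ (Nat.card K).Coprime p ∧ ∃ k : ℕ, K.relIndex H = p ^ k := by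
  intro m
  induction m using Nat.strong_induction_on with
  | _ m ih =>
  intro H hm
  by_cases hpd : p ∣ Nat.card H
  · have hH1 : H ≠ ⊥ := by
      intro hbot
      rw [hbot, Subgroup.card_bot] at hpd
      exact hp.one_lt.ne' (Nat.dvd_one.mp hpd)
    obtain ⟨K', hK'top, k, hK'k⟩ := h H hH1 p hp hpd
    set K₁ : Subgroup G := K'.map H.subtype with hK₁
    have hK₁H : K₁ ≤ H := Subgroup.map_subtype_le K'
    have hcardK₁ : Nat.card K₁ = Nat.card K' :=
      Subgroup.card_map_of_injective H.subtype_injective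
    have hrel : K₁.relIndex H = K'.index := by
      rw [Subgroup.relIndex, hK₁, Subgroup.subgroupOf,
        Subgroup.comap_map_eq_self_of_injective H.subtype_injective]
    have hlt : Nat.card K₁ < m := by
      rw [hcardK₁, ← hm]
      have h1 := K'.card_mul_index
      have h2 : 1 < K'.index := by
        have h3 : K'.index ≠ 1 := fun h3 => hK'top (Subgroup.index_eq_one.mp h3)
        have h4 : K'.index ≠ 0 := Subgroup.index_ne_zero_of_finite
        omega
      have h5 : 0 < Nat.card K' := Nat.card_pos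
      nlinarith
    obtain ⟨K, hKK₁, hKcop, j, hKj⟩ := ih _ hlt K₁ rfl
    refine ⟨K, hKK₁.trans hK₁H, hKcop, j + k, ?_⟩
    rw [← Subgroup.relIndex_mul_relIndex K K₁ H hKK₁ hK₁H, hKj, hrel, hK'k, pow_add]
  · refine ⟨H, le_rfl, ?_, 0, ?_⟩
    · exact (Nat.Prime.coprime_iff_not_dvd hp).mpr hpd |>.symm
    · rw [Subgroup.relIndex_self, pow_zero]

/-- Suppose that for every nontrivial subgroup H of a finite group and every prime p dividing the order of H there is a proper subgroup of H whose index in H is a power of p. Then the group is solvable. -/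
theorem result {G : Type*} [Group G] [Finite G] (h : ∀ H : Subgroup G, H ≠ ⊥ → ∀ p : ℕ, p.Prime → p ∣ Nat.card H → ∃ K : Subgroup H, K ≠ ⊤ ∧ ∃ k : ℕ, K.index = p ^ k) : Group.IsSolvable G := by
  apply isSolvable_of_hasCompls (Nat.card G) G rfl
  intro p hp
  obtain ⟨K, -, hKcop, k, hKk⟩ := aux h p hp _ ⊤ rfl
  refine ⟨K, hKcop, k, ?_⟩
  rwa [Subgroup.relIndex_top_right] at hKk

end Cfsg.Agent.S0535
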