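import Cfsg.Statements.S0537
import Mathlib
import Cfsg.Agent.Lib.Helper96.Schmidt2

set_option autoImplicit false
open Cfsg

namespace Cfsg.Agent.S0537

open Cfsg.Agent.Lib.Helper96

/-- A finite non-abelian group in which every proper subgroup is abelian is either of prime-power order, or is generated by a cyclic Sylow p-subgroup and a normal Sylow q-subgroup that is elementary abelian, for distinct primes p and q. -/
theorem result {G : Type*} [Group G] [Finite G] (hna : ¬ IsMulCommutative G) (h : ∀ H : Subgroup G, H ≠ ⊤ → IsMulCommutative H) : (∃ p : ℕ, p.Prime ∧ IsPGroup p G) ∨ ∃ p q : ℕ, p.Prime ∧ q.Prime ∧ p ≠ q ∧ ∃ (P : Sylow p G) (Q : Sylow q G), IsCyclic P ∧ (Q : Subgroup G).Normal ∧ Cfsg.IsElementaryAbelian q (Q : Subgroup G) ∧ (P : Subgroup G) ⊔ Q = ⊤ := by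
  by_cases hnil : Group.IsNilpotent G
  · left
    by_contra hcon
    push Not at hcon
    apply hna
    obtain ⟨e⟩ := ((Group.isNilpotent_of_finite_tfae (G := G)).out 0 4).mp hnil
    have hS : ∀ (p : (Nat.card G).primeFactors) (P : Sylow p G),
        IsMulCommutative (P : Subgroup G) := by
      intro p P
      apply h
      intro htop
      have hp : (p : ℕ).Prime := Nat.prime_of_mem_primeFactors p.2
      apply hcon p hp
      have hP := P.2
      rw [htop] at hP
      exact hP.of_equiv Subgroup.topEquiv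
    refine ⟨⟨fun a b => ?_⟩⟩
    apply e.symm.injective
    rw [map_mul, map_mul]
    funext p P
    simp only [Pi.mul_apply]
    haveI := hS p P
    exact mul_comm' _ _
  · right
    have hmin : ∀ H : Subgroup G, H ≠ ⊤ → Group.IsNilpotent H := by
      intro H hH
      haveI := h H hH
      exact isNilpotent_of_isMulCommutative
    obtain ⟨p, q, hp, hq, hpq, P, Q, hcyc, hQn, htop, hPn, hnc⟩ := schmidt_structure hnil hmin
    have hdisj : (P : Subgroup G) ⊓ Q = ⊥ :=
      disjoint_iff.mp (IsPGroup.disjoint_of_ne p q hpq _ _ P.2 Q.2)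
    have hQtop : (Q : Subgroup G) ≠ ⊤ := by
      intro hQ
      apply hPn
      rw [hQ, inf_top_eq] at hdisj
      rw [hdisj]; infer_instance
    haveI hQcomm : IsMulCommutative (Q : Subgroup G) := h _ hQtop
    have hQc : ∀ a ∈ (Q : Subgroup G), ∀ b ∈ (Q : Subgroup G), a * b = b * a :=
      fun a ha b hb => Subgroup.mul_comm_of_mem_isMulCommutative _ ha hb
    refine ⟨p, q, hp.1, hq.1, hpq, P, Q, hcyc, hQn, ⟨hQcomm, ?_⟩, htop⟩
    by_cases htop1 : (P : Subgroup G) ⊔ omegaSub (Q : Subgroup G) hQc q = ⊤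
    · intro a ha
      have := le_of_sup_eq_top_of_inf_eq_bot (P : Subgroup G) (omegaSub (Q : Subgroup G) hQc q)
        (Q : Subgroup G) (omegaSub_le _ hQc q) hdisj htop1 ha
      exact this.2
    · exfalso
      apply hnc
      haveI := h _ htop1
      intro x hx y hy
      obtain ⟨k, hk⟩ := P.2 ⟨x, hx⟩
      have hk' : x ^ p ^ k = 1 := by simpa using congrArg Subtype.val hk
      obtain ⟨l, hl⟩ := Q.2 ⟨y, hy⟩
      have hl' : y ^ q ^ l = 1 := by simpa using congrArg Subtype.val hl
      refine commute_of_commute_omega (Q : Subgroup G) hQc hp.1 hq.1 hpq x hk' ?_ l y hy hl'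
      intro z hzQ hzq
      exact Subgroup.mul_comm_of_mem_isMulCommutative
        ((P : Subgroup G) ⊔ omegaSub (Q : Subgroup G) hQc q)
        ((le_sup_left : (P : Subgroup G) ≤ _) hx)
        ((le_sup_right : omegaSub (Q : Subgroup G) hQc q ≤ _) ⟨hzQ, hzq⟩)

end Cfsg.Agent.S0537
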