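import Cfsg.Statements.S0546
import Mathlib
import Cfsg.Agent.Lib.Helper9.ComplementSystemQuot

set_option autoImplicit false
open Cfsg

namespace Cfsg.Agent.S0546

open scoped commutatorElement

open Cfsg.Agent.Lib.Helper9 in
theorem systemNormalizer_ne_bot {Q : Type*} [Group Q] [Finite Q] [Group.IsSolvable Q]
    [Nontrivial Q] (K : Nat.Primes → Subgroup Q) (hK : Cfsg.IsComplementSystem K) :
    Cfsg.systemNormalizer K ≠ ⊥ := by
  intro hbot
  have hlt : commutator Q < ⊤ := Group.IsSolvable.commutator_lt_top_of_nontrivial Q
  have h1 := systemNormalizer_map K hK (commutator Q)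
  rw [hbot, Subgroup.map_bot] at h1
  have h2 : Cfsg.systemNormalizer (fun p => (K p).map (QuotientGroup.mk' (commutator Q))) = ⊤ := by
    unfold Cfsg.systemNormalizer
    rw [eq_top_iff]
    intro x _
    rw [Subgroup.mem_iInf]
    intro p
    have hn : ((K p).map (QuotientGroup.mk' (commutator Q))).Normal := by
      constructor
      intro n hn g
      have hc : g * n = n * g := by
        induction g using QuotientGroup.induction_on with
        | H g =>
          induction n using QuotientGroup.induction_on with
          | H n =>
            rw [← QuotientGroup.mk_mul, ← QuotientGroup.mk_mul, QuotientGroup.eq]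
            have : (g * n)⁻¹ * (n * g) = ⁅n⁻¹, g⁻¹⁆ := by
              rw [commutatorElement_def]; group
            rw [this]
            exact Subgroup.commutator_mem_commutator (Subgroup.mem_top _) (Subgroup.mem_top _)
      rw [hc, mul_inv_cancel_right]
      exact hn
    rw [Subgroup.normalizer_eq_top_iff.mpr hn]
    trivial
  rw [h2] at h1
  have hsub : Subsingleton (Q ⧸ commutator Q) := by
    constructor
    intro a b
    have ha : a ∈ (⊤ : Subgroup (Q ⧸ commutator Q)) := Subgroup.mem_top a
    have hb : b ∈ (⊤ : Subgroup (Q ⧸ commutator Q)) := Subgroup.mem_top b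
    rw [h1, Subgroup.mem_bot] at ha hb
    rw [ha, hb]
  exact hlt.ne (QuotientGroup.subgroup_eq_top_of_subsingleton _ hsub)


/-- The normal closure of a system normalizer of a finite solvable group is the whole group. -/
theorem result {G : Type*} [Group G] [Finite G] [Group.IsSolvable G] (K : Nat.Primes → Subgroup G) (hK : Cfsg.IsComplementSystem K) : Subgroup.normalClosure ((Cfsg.systemNormalizer K : Subgroup G) : Set G) = ⊤ := by
  set M := Subgroup.normalClosure ((Cfsg.systemNormalizer K : Subgroup G) : Set G) with hM
  by_contra hne
  have hnt : Nontrivial (G ⧸ M) := by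
    by_contra hns
    rw [not_nontrivial_iff_subsingleton] at hns
    exact hne (QuotientGroup.subgroup_eq_top_of_subsingleton _ hns)
  have hK' := Cfsg.Agent.Lib.Helper9.isComplementSystem_map K hK M
  have h1 := Cfsg.Agent.Lib.Helper9.systemNormalizer_map K hK M
  have h2 : (Cfsg.systemNormalizer K).map (QuotientGroup.mk' M) = ⊥ := by
    rw [Subgroup.map_eq_bot_iff, QuotientGroup.ker_mk']
    exact Subgroup.le_normalClosure
  rw [h2] at h1
  exact systemNormalizer_ne_bot _ hK' h1

end Cfsg.Agent.S0546
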