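import Cfsg.Statements.S0548
import Mathlib
import Cfsg.Agent.Lib.Helper9.PrimitiveSolvable

set_option autoImplicit false
open Cfsg

namespace Cfsg.Agent.S0548

open scoped Pointwise

/-- Let a finite solvable group G act faithfully and primitively on a set, let M be a minimal normal subgroup and H the stabilizer of a point. Then H is a complement to M, no non-identity element of H centralizes M, and the only subgroups of M normalized by H are the trivial subgroup and M. -/
theorem result {G : Type*} [Group G] [Finite G] [Group.IsSolvable G] {Ω : Type*} [MulAction G Ω] [FaithfulSMul G Ω] (hprim : MulAction.IsPreprimitive G Ω) (M : Subgroup G) [M.Normal] (hM : M ≠ ⊥) (hmin : ∀ K : Subgroup G, K.Normal → K ≤ M → K = ⊥ ∨ K = M) (ω : Ω) : Subgroup.IsComplement' M (MulAction.stabilizer G ω) ∧ MulAction.stabilizer G ω ⊓ Subgroup.centralizer (M : Set G) = ⊥ ∧ ∀ K : Subgroup G, K ≤ M → MulAction.stabilizer G ω ≤ Subgroup.normalizer (K : Set G) → K = ⊥ ∨ K = M := by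
  have hMt := Cfsg.Agent.Lib.Helper9.minimal_normal_isPretransitive hprim M hM
  have hstab := Cfsg.Agent.Lib.Helper9.minimal_normal_stabilizer_eq_bot hprim M hM hmin ω
  have hcomm := Cfsg.Agent.Lib.Helper9.minimal_normal_comm M hM hmin
  have hmul : (M : Set G) * (MulAction.stabilizer G ω : Set G) = Set.univ := by
    rw [Set.eq_univ_iff_forall]
    intro g
    obtain ⟨m, hm⟩ := MulAction.exists_smul_eq M ω (g • ω)
    refine ⟨(m : G), m.2, (m : G)⁻¹ * g, ?_, by group⟩
    rw [SetLike.mem_coe, MulAction.mem_stabilizer_iff, mul_smul, ← hm, Subgroup.smul_def,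
      inv_smul_smul]
  refine ⟨?_, ?_, ?_⟩
  · apply Subgroup.isComplement'_of_disjoint_and_mul_eq_univ _ hmul
    rw [disjoint_iff, eq_bot_iff]
    intro x hx
    have h1 : (⟨x, hx.1⟩ : M) ∈ MulAction.stabilizer M ω := by
      rw [MulAction.mem_stabilizer_iff]
      exact MulAction.mem_stabilizer_iff.mp hx.2
    rw [hstab, Subgroup.mem_bot] at h1
    rw [Subgroup.mem_bot]
    exact congrArg Subtype.val h1
  · rw [eq_bot_iff]
    intro h hh
    rw [Subgroup.mem_bot]
    apply Cfsg.Agent.Lib.Helper9.minimal_normal_smul_eq_of_comm M h _ ω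
      (MulAction.mem_stabilizer_iff.mp hh.1)
    intro m hm
    exact ((Subgroup.mem_centralizer_iff.mp hh.2) m hm).symm
  · intro K hKM hKH
    apply hmin K _ hKM
    rw [← Subgroup.normalizer_eq_top_iff, eq_top_iff]
    intro g _
    have hg : g ∈ (M : Set G) * (MulAction.stabilizer G ω : Set G) := by rw [hmul]; trivial
    obtain ⟨m, hm, h, hh, rfl⟩ := hg
    apply Subgroup.mul_mem _ _ (hKH hh)
    rw [Subgroup.mem_normalizer_iff]
    intro k
    constructor
    · intro hk
      have : m * k * m⁻¹ = k := by
        rw [hcomm m hm k (hKM hk), mul_inv_cancel_right]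
      rw [this]; exact hk
    · intro hk
      have hk' : m * k * m⁻¹ ∈ M := hKM hk
      have : k = m * k * m⁻¹ := by
        have h1 := hcomm m⁻¹ (M.inv_mem hm) _ hk'
        calc k = m⁻¹ * (m * k * m⁻¹) * m := by group
          _ = (m * k * m⁻¹) * m⁻¹ * m := by rw [h1]
          _ = m * k * m⁻¹ := by group
      rw [this]; exact hk

end Cfsg.Agent.S0548
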