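import Mathlib
import Cfsg.Statements.S0549

set_option autoImplicit false
open Cfsg

namespace Cfsg.Agent.S0549

open scoped Pointwise in
theorem sup_eq_top_of_normal_ne_bot {G : Type*} [Group G] (U : Subgroup G) (hU : IsCoatom U)
    (hcore : U.normalCore = ⊥) (K : Subgroup G) (hKn : K.Normal) (hK : K ≠ ⊥) : U ⊔ K = ⊤ := by
  by_contra hne
  have hle : K ≤ U := by
    have h1 : U ≤ U ⊔ K := le_sup_left
    rcases eq_or_lt_of_le h1 with h2 | h2
    · rw [h2]; exact le_sup_right
    · exact absurd (hU.2 _ h2) hne
  have : K ≤ U.normalCore := Subgroup.normal_le_normalCore.mpr hle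
  rw [hcore] at this
  exact hK (le_bot_iff.mp this)

/-- Let U be a maximal subgroup of a finite group G whose normal core is trivial, and N a nontrivial normal subgroup with centralizer C. Then C ∩ U = 1, and either C = 1 or C is a minimal normal subgroup of G. -/
theorem result {G : Type*} [Group G] [Finite G] (U : Subgroup G) (hU : IsCoatom U) (hcore : U.normalCore = ⊥) (N : Subgroup G) [N.Normal] (hN : N ≠ ⊥) : Subgroup.centralizer (N : Set G) ⊓ U = ⊥ ∧ (Subgroup.centralizer (N : Set G) = ⊥ ∨ (Subgroup.centralizer (N : Set G) ≠ ⊥ ∧ ∀ K : Subgroup G, K.Normal → K ≤ Subgroup.centralizer (N : Set G) → K = ⊥ ∨ K = Subgroup.centralizer (N : Set G))) := by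
  have hCn : (Subgroup.centralizer (N : Set G)).Normal := inferInstance
  have hUN : U ⊔ N = ⊤ := sup_eq_top_of_normal_ne_bot U hU hcore N inferInstance hN
  have h1 : Subgroup.centralizer (N : Set G) ⊓ U = ⊥ := by
    set D := Subgroup.centralizer (N : Set G) ⊓ U with hD
    have hUD : U ≤ Subgroup.normalizer (D : Set G) := by
      intro u hu
      rw [Subgroup.mem_normalizer_iff]
      intro d
      constructor
      · intro hd
        exact ⟨hCn.conj_mem d hd.1 u, U.mul_mem (U.mul_mem hu hd.2) (U.inv_mem hu)⟩
      · intro hd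
        have h2 := hCn.conj_mem _ hd.1 u⁻¹
        have h3 : u⁻¹ * (u * d * u⁻¹) * u⁻¹⁻¹ = d := by group
        rw [h3] at h2
        have h4 := U.mul_mem (U.mul_mem (U.inv_mem hu) hd.2) hu
        have h5 : u⁻¹ * (u * d * u⁻¹) * u = d := by group
        rw [h5] at h4
        exact ⟨h2, h4⟩
    have hND : N ≤ Subgroup.normalizer (D : Set G) := by
      intro n hn
      rw [Subgroup.mem_normalizer_iff]
      intro d
      have key : ∀ d ∈ D, n * d * n⁻¹ = d := by
        intro d hd
        have := (Subgroup.mem_centralizer_iff.mp hd.1) n hn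
        rw [this]; group
      constructor
      · intro hd
        rw [key d hd]; exact hd
      · intro hd
        have h2 : n⁻¹ * (n * d * n⁻¹) * n = d := by group
        have h3 : n⁻¹ * (n * d * n⁻¹) * n = n * d * n⁻¹ := by
          have := (Subgroup.mem_centralizer_iff.mp hd.1) n hn
          calc n⁻¹ * (n * d * n⁻¹) * n = n⁻¹ * ((n * d * n⁻¹) * n) := by group
            _ = n⁻¹ * (n * (n * d * n⁻¹)) := by rw [this]
            _ = n * d * n⁻¹ := by group
        rw [← h2, h3]; exact hd
    have hDn : D.Normal := by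
      rw [← Subgroup.normalizer_eq_top_iff]
      apply le_antisymm le_top
      rw [← hUN]
      exact sup_le hUD hND
    have : D ≤ U.normalCore := Subgroup.normal_le_normalCore.mpr inf_le_right
    rw [hcore] at this
    exact le_bot_iff.mp this
  refine ⟨h1, ?_⟩
  by_cases hC : Subgroup.centralizer (N : Set G) = ⊥
  · exact Or.inl hC
  · refine Or.inr ⟨hC, ?_⟩
    intro K hKn hKC
    by_cases hK : K = ⊥
    · exact Or.inl hK
    · refine Or.inr (le_antisymm hKC ?_)
      have hUK : U ⊔ K = ⊤ := sup_eq_top_of_normal_ne_bot U hU hcore K hKn hK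
      intro c hc
      have hc' : c ∈ ((U ⊔ K : Subgroup G) : Set G) := by rw [hUK]; trivial
      rw [Subgroup.mul_normal] at hc'
      obtain ⟨u, hu, k, hk, rfl⟩ := hc'
      have hu' : u ∈ Subgroup.centralizer (N : Set G) := by
        have := (Subgroup.centralizer (N : Set G)).mul_mem hc
          ((Subgroup.centralizer (N : Set G)).inv_mem (hKC hk))
        simpa using this
      have : u ∈ Subgroup.centralizer (N : Set G) ⊓ U := ⟨hu', hu⟩
      rw [h1] at this
      rw [Subgroup.mem_bot.mp this]
      simpa using hk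

end Cfsg.Agent.S0549
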