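import Cfsg.Statements.S0550
import Cfsg.Agent.S0549
import Cfsg.Agent.Lib.Helper10.Card

set_option autoImplicit false
open Cfsg

namespace Cfsg.Agent.S0550

open Cfsg.Agent.Lib.Helper10

open Pointwise in
theorem isComplement'_of_normal_sup_inf {G : Type*} [Group G] {A H : Subgroup G} [A.Normal]
    (hsup : A ⊔ H = ⊤) (hinf : A ⊓ H = ⊥) : Subgroup.IsComplement' A H := by
  apply Subgroup.isComplement'_of_disjoint_and_mul_eq_univ (disjoint_iff.mpr hinf)
  rw [← Subgroup.normal_mul, hsup]
  rfl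

theorem sup_eq_top_of_normal_ne_bot {G : Type*} [Group G] (U : Subgroup G) (hU : IsCoatom U)
    (hcore : U.normalCore = ⊥) (K : Subgroup G) (hKn : K.Normal) (hK : K ≠ ⊥) : U ⊔ K = ⊤ := by
  by_contra hne
  have hle : K ≤ U := by
    by_contra hnle
    exact hne (hU.2 _ (left_lt_sup.mpr hnle))
  have : K ≤ U.normalCore := Subgroup.normal_le_normalCore.mpr hle
  rw [hcore] at this
  exact hK (le_bot_iff.mp this)

/-- two subgroups meeting a normal subgroup `N` trivially and having the same product with `N`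
are isomorphic -/
theorem equiv_of_sup_eq {G : Type*} [Group G] (N : Subgroup G) [N.Normal] (X Y : Subgroup G)
    (hX : X ⊓ N = ⊥) (hY : Y ⊓ N = ⊥) (h : X ⊔ N = Y ⊔ N) : Nonempty (X ≃* Y) := by
  let π : G →* G ⧸ N := QuotientGroup.mk' N
  have hinj : ∀ Z : Subgroup G, Z ⊓ N = ⊥ → Function.Injective (π.comp Z.subtype) := by
    intro Z hZ
    rw [injective_iff_map_eq_one]
    intro z hz
    have h1 : (z : G) ∈ N := (QuotientGroup.eq_one_iff (z : G)).mp hz
    have h2 : (z : G) ∈ Z ⊓ N := ⟨z.2, h1⟩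
    rw [hZ, Subgroup.mem_bot] at h2
    exact Subtype.ext h2
  have hrange : ∀ Z : Subgroup G, (π.comp Z.subtype).range = Z.map π := by
    intro Z
    rw [MonoidHom.range_comp, Subgroup.range_subtype]
  have hmap : X.map π = Y.map π := by
    rw [Subgroup.map_eq_map_iff, QuotientGroup.ker_mk']
    exact h
  have heq : (π.comp X.subtype).range = (π.comp Y.subtype).range := by
    rw [hrange, hrange, hmap]
  exact ⟨(MonoidHom.ofInjective (hinj X hX)).trans
    ((MulEquiv.subgroupCongr heq).trans (MonoidHom.ofInjective (hinj Y hY)).symm)⟩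

/-- Let U be a maximal subgroup with trivial normal core in a finite group G, and A ≠ B two minimal normal subgroups. Then A is the centralizer of B and B that of A, U complements each of them, A and B are non-abelian, and A, B and (A ⊔ B) ∩ U are pairwise isomorphic. -/
theorem result {G : Type*} [Group G] [Finite G] (U : Subgroup G) (hU : IsCoatom U) (hcore : U.normalCore = ⊥) (A B : Subgroup G) [A.Normal] [B.Normal] (hA : A ≠ ⊥) (hB : B ≠ ⊥) (hAmin : ∀ K : Subgroup G, K.Normal → K ≤ A → K = ⊥ ∨ K = A) (hBmin : ∀ K : Subgroup G, K.Normal → K ≤ B → K = ⊥ ∨ K = B) (hAB : A ≠ B) : Subgroup.centralizer (B : Set G) = A ∧ Subgroup.centralizer (A : Set G) = B ∧ Subgroup.IsComplement' A U ∧ Subgroup.IsComplement' B U ∧ ¬ IsMulCommutative A ∧ Nonempty (A ≃* B) ∧ Nonempty (A ≃* ↥((A ⊔ B) ⊓ U)) := by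
  have hCAU : Subgroup.centralizer (A : Set G) ⊓ U = ⊥ := (Cfsg.Agent.S0549.result U hU hcore A hA).1
  have hCBU : Subgroup.centralizer (B : Set G) ⊓ U = ⊥ := (Cfsg.Agent.S0549.result U hU hcore B hB).1
  have hUA : U ⊔ A = ⊤ := sup_eq_top_of_normal_ne_bot U hU hcore A inferInstance hA
  have hUB : U ⊔ B = ⊤ := sup_eq_top_of_normal_ne_bot U hU hcore B inferInstance hB
  -- A ∩ B = 1
  have hABinf : A ⊓ B = ⊥ := by
    rcases hAmin (A ⊓ B) inferInstance inf_le_left with h | h
    · exact h
    · exfalso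
      have hAleB : A ≤ B := by rw [← h]; exact inf_le_right
      rcases hBmin A inferInstance hAleB with h' | h'
      · exact hA h'
      · exact hAB h'
  have hcomm : ⁅A, B⁆ = ⊥ := by
    rw [eq_bot_iff, ← hABinf]
    exact Subgroup.commutator_le_inf A B
  have hA_le : A ≤ Subgroup.centralizer (B : Set G) :=
    Subgroup.commutator_eq_bot_iff_le_centralizer.mp hcomm
  have hB_le : B ≤ Subgroup.centralizer (A : Set G) :=
    Subgroup.le_centralizer_iff.mp hA_le
  -- counting
  have cardG : ∀ N : Subgroup G, N.Normal → U ⊔ N = ⊤ →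
      Nat.card G * Nat.card ↥(U ⊓ N) = Nat.card U * Nat.card N := by
    intro N hN hUN
    have h1 := card_sup_mul_card_inf (H := U) (K := N) (by
      rw [Subgroup.normalizer_eq_top_iff.mpr hN]; exact le_top)
    rw [hUN, Subgroup.card_top] at h1
    exact h1
  have hcardle : ∀ (N C : Subgroup G), N.Normal → U ⊔ N = ⊤ → C ⊓ U = ⊥ →
      Nat.card C ≤ Nat.card N := by
    intro N C hN hUN hCU
    have h1 := card_mul_card_le_of_disjoint hCU
    have h2 := cardG N hN hUN
    have hpos : 0 < Nat.card U := Nat.card_pos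
    have h3 : Nat.card G ≤ Nat.card U * Nat.card N := by
      rw [← h2]
      exact Nat.le_mul_of_pos_right _ Nat.card_pos
    have h4 : Nat.card C * Nat.card U ≤ Nat.card N * Nat.card U := by
      rw [mul_comm (Nat.card N)]
      exact h1.trans h3
    exact Nat.le_of_mul_le_mul_right h4 hpos
  have hCB : Subgroup.centralizer (B : Set G) = A :=
    (Subgroup.eq_of_le_of_card_ge hA_le (hcardle A _ inferInstance hUA hCBU)).symm
  have hCA : Subgroup.centralizer (A : Set G) = B :=
    (Subgroup.eq_of_le_of_card_ge hB_le (hcardle B _ inferInstance hUB hCAU)).symm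
  have hAU : A ⊓ U = ⊥ := by rw [← hCB]; exact hCBU
  have hBU : B ⊓ U = ⊥ := by rw [← hCA]; exact hCAU
  refine ⟨hCB, hCA, ?_, ?_, ?_, ?_, ?_⟩
  · exact isComplement'_of_normal_sup_inf (by rw [sup_comm]; exact hUA) hAU
  · exact isComplement'_of_normal_sup_inf (by rw [sup_comm]; exact hUB) hBU
  · intro hc
    have h1 : A ≤ Subgroup.centralizer (A : Set G) := Subgroup.le_centralizer_iff_isMulCommutative.mpr hc
    rw [hCA] at h1
    have : A ≤ A ⊓ B := le_inf le_rfl h1
    rw [hABinf] at this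
    exact hA (le_bot_iff.mp this)
  all_goals
    set D : Subgroup G := (A ⊔ B) ⊓ U with hD
    have hDA : D ⊓ A = ⊥ := by
      rw [eq_bot_iff, ← hAU]
      exact le_inf inf_le_right (inf_le_left.trans inf_le_right)
    have hDB : D ⊓ B = ⊥ := by
      rw [eq_bot_iff, ← hBU]
      exact le_inf inf_le_right (inf_le_left.trans inf_le_right)
    -- Dedekind
    have hDsup : ∀ N : Subgroup G, N.Normal → N ≤ A ⊔ B → U ⊔ N = ⊤ → D ⊔ N = A ⊔ B := by
      intro N hN hNle hUN
      apply le_antisymm (sup_le inf_le_left hNle)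
      intro x hx
      have hx' : x ∈ ((U ⊔ N : Subgroup G) : Set G) := by rw [hUN]; trivial
      haveI := hN
      rw [Subgroup.mul_normal] at hx'
      obtain ⟨u, hu, n, hn, rfl⟩ := hx'
      have hu' : u ∈ A ⊔ B := by
        have := (A ⊔ B).mul_mem hx ((A ⊔ B).inv_mem (hNle hn))
        simpa using this
      exact Subgroup.mul_mem _ ((le_sup_left : D ≤ D ⊔ N) ⟨hu', hu⟩) ((le_sup_right : N ≤ D ⊔ N) hn)
    have hDsupA := hDsup A inferInstance le_sup_left hUA
    have hDsupB := hDsup B inferInstance le_sup_right hUB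
    -- A ≃ D via G/B, B ≃ D via G/A
    have e1 : Nonempty (A ≃* D) := equiv_of_sup_eq B A D hABinf hDB hDsupB.symm
    have e2 : Nonempty (B ≃* D) :=
      equiv_of_sup_eq A B D (by rw [inf_comm]; exact hABinf) hDA (by rw [hDsupA, sup_comm])
  · obtain ⟨f⟩ := e1
    obtain ⟨g⟩ := e2
    exact ⟨f.trans g.symm⟩
  · exact e1

end Cfsg.Agent.S0550
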