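import Cfsg.Statements.S0552
import Mathlib
import Cfsg.Agent.Lib.Helper10.FittingCent

set_option autoImplicit false
open Cfsg

namespace Cfsg.Agent.S0552

open Cfsg.Agent.Lib.Helper10

theorem pow_apply_of_fixed {G : Type*} [Group G] (σ : MulAut G) (g c : G) (h1 : σ g = g * c)
    (h2 : σ c = c) (k : ℕ) : (σ ^ k) g = g * c ^ k := by
  induction k with
  | zero => simp
  | succ k ih =>
    rw [pow_succ', MulAut.mul_apply, ih, map_mul, map_pow, h1, h2, pow_succ', mul_assoc]

/-- Let σ be an automorphism of a finite solvable group G fixing every element of the Fitting subgroup. If σ is not the identity then the order of σ and the order of G have a common prime factor. -/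
theorem result {G : Type*} [Group G] [Finite G] [Group.IsSolvable G] (σ : G ≃* G) (hσ : ∀ x ∈ Cfsg.fittingSubgroup G, σ x = x) (hne : σ ≠ MulEquiv.refl G) : ¬ (orderOf σ).Coprime (Nat.card G) := by
  intro hcop
  apply hne
  have hFn : (Cfsg.fittingSubgroup G).Normal := fitting_normal
  have hCF := centralizer_fitting_le (G := G)
  ext g
  show σ g = g
  set c := g⁻¹ * σ g with hc
  have hcC : c ∈ Subgroup.centralizer (Cfsg.fittingSubgroup G : Set G) := by
    rw [Subgroup.mem_centralizer_iff]
    intro x hx
    have h1 : g * x * g⁻¹ ∈ Cfsg.fittingSubgroup G := hFn.conj_mem x hx g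
    have h2 := hσ _ h1
    rw [map_mul, map_mul, hσ x hx, map_inv] at h2
    -- σ g * x * (σ g)⁻¹ = g * x * g⁻¹
    rw [hc]
    have : x * (g⁻¹ * σ g) = g⁻¹ * (g * x * g⁻¹) * σ g := by group
    rw [this, ← h2]; group
  have hcF : c ∈ Cfsg.fittingSubgroup G := hCF hcC
  have hσc : σ c = c := hσ c hcF
  have hσg : σ g = g * c := by rw [hc]; group
  have hpow := pow_apply_of_fixed σ g c hσg hσc (orderOf σ)
  rw [pow_orderOf_eq_one, MulAut.one_apply] at hpow
  have hc1 : c ^ orderOf σ = 1 := by
    have : g * c ^ orderOf σ = g * 1 := by rw [← hpow, mul_one]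
    exact mul_left_cancel this
  have hd1 : orderOf c ∣ orderOf σ := orderOf_dvd_of_pow_eq_one hc1
  have hd2 : orderOf c ∣ Nat.card G := orderOf_dvd_natCard c
  have : orderOf c = 1 := Nat.eq_one_of_dvd_coprimes hcop hd1 hd2
  rw [orderOf_eq_one_iff] at this
  rw [hσg, this, mul_one]

end Cfsg.Agent.S0552
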