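import Cfsg.Statements.S0553
import Mathlib
import Cfsg.Agent.Lib.Helper10.MinNormal

set_option autoImplicit false
open Cfsg

namespace Cfsg.Agent.S0553

open Cfsg.Agent.Lib.Helper10

universe u

theorem isComplement'_of_normal_sup_inf' {G : Type*} [Group G] {A H : Subgroup G} [A.Normal]
    (hsup : A ⊔ H = ⊤) (hinf : A ⊓ H = ⊥) : Subgroup.IsComplement' A H := by
  apply Subgroup.isComplement'_of_disjoint_and_mul_eq_univ (disjoint_iff.mpr hinf)
  rw [← Subgroup.normal_mul, hsup]
  rfl

theorem all_sylow_normal_of_one {G : Type*} [Group G] [Finite G] {p : ℕ} [Fact p.Prime]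
    (R : Sylow p G) (hR : (R : Subgroup G).Normal) (P : Sylow p G) : (P : Subgroup G).Normal := by
  obtain ⟨g, hg⟩ := MulAction.exists_smul_eq G R P
  haveI := hR
  rw [Sylow.smul_eq_of_normal] at hg
  rw [← hg]; exact hR

theorem main : ∀ n : ℕ, ∀ (G : Type u) [Group G] [Finite G] [Group.IsSolvable G] [Nontrivial G],
    Nat.card G = n → (∀ M : Subgroup G, IsCoatom M → (Nat.card M).Coprime M.index) →
    ∃ p : ℕ, p.Prime ∧ p ∣ Nat.card G ∧ ∀ P : Sylow p G, (P : Subgroup G).Normal := by
  intro n
  induction n using Nat.strong_induction_on with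
  | _ n ih =>
  intro G _ _ _ _ hn h
  obtain ⟨q, N, hq, hNn, hNne, hNp, hNc, hqdvd, hNmin⟩ :=
    exists_min_normal_pgroup_of_solvable (G := G)
  haveI := hNn
  haveI : Fact q.Prime := ⟨hq⟩
  by_cases hNtop : N = ⊤
  · refine ⟨q, hq, hqdvd, ?_⟩
    intro P
    have h1 : N ≤ P := hNp.le_sylow_of_normal P
    have h2 : (P : Subgroup G) = ⊤ := by
      rw [eq_top_iff, ← hNtop]; exact h1
    rw [h2]; infer_instance
  · -- quotient
    let π := QuotientGroup.mk' N
    have hπ : Function.Surjective π := QuotientGroup.mk'_surjective N
    have hidx1 : N.index ≠ 1 := fun h1 => hNtop (Subgroup.index_eq_one.mp h1)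
    have hcardQ : Nat.card (G ⧸ N) = N.index := (Subgroup.index_eq_card N).symm
    haveI : Nontrivial (G ⧸ N) := by
      rw [← Finite.one_lt_card_iff_nontrivial, hcardQ]
      have : N.index ≠ 0 := Subgroup.index_ne_zero_of_finite
      omega
    have hNcard : 1 < Nat.card N := by
      rw [Finite.one_lt_card_iff_nontrivial]
      exact (Subgroup.nontrivial_iff_ne_bot N).mpr hNne
    have hlt : Nat.card (G ⧸ N) < n := by
      rw [← hn, hcardQ, ← Subgroup.card_mul_index N]
      have : 0 < N.index := Nat.pos_of_ne_zero Subgroup.index_ne_zero_of_finite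
      nlinarith
    have hQ : ∀ M : Subgroup (G ⧸ N), IsCoatom M → (Nat.card M).Coprime M.index := by
      intro M hM
      have h1 := h (M.comap π) (Subgroup.isCoatom_comap_of_surjective hπ hM)
      rw [Subgroup.index_comap_of_surjective M hπ] at h1
      have h2 : Nat.card M ∣ Nat.card (M.comap π) := by
        have := Subgroup.card_map_dvd (M.comap π) π
        rwa [Subgroup.map_comap_eq_self_of_surjective hπ] at this
      exact Nat.Coprime.coprime_dvd_left h2 h1
    obtain ⟨r, hr, hrdvd, hrn⟩ := ih _ hlt (G ⧸ N) rfl hQ
    haveI : Fact r.Prime := ⟨hr⟩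
    have hrG : r ∣ Nat.card G := by
      rw [← Subgroup.card_mul_index N, ← hcardQ]
      exact Dvd.dvd.mul_left hrdvd _
    by_cases hrq : r = q
    · subst hrq
      refine ⟨r, hr, hrG, ?_⟩
      intro P
      have h1 := hrn (P.mapSurjective hπ)
      rw [Sylow.coe_mapSurjective] at h1
      have h2 : ((P : Subgroup G).map π).comap π = P := by
        rw [Subgroup.comap_map_eq, QuotientGroup.ker_mk']
        exact sup_eq_left.mpr (hNp.le_sylow_of_normal P)
      rw [← h2]
      exact h1.comap π
    · -- r ≠ q
      obtain ⟨R⟩ : Nonempty (Sylow r G) := inferInstance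
      have h1 := hrn (R.mapSurjective hπ)
      rw [Sylow.coe_mapSurjective] at h1
      have hT : ((R : Subgroup G).map π).comap π = (R : Subgroup G) ⊔ N := by
        rw [Subgroup.comap_map_eq, QuotientGroup.ker_mk']
      haveI hTn : ((R : Subgroup G) ⊔ N).Normal := by
        rw [← hT]; exact h1.comap π
      have hfr := Sylow.normalizer_sup_eq_top' R (N := (R : Subgroup G) ⊔ N) le_sup_left
      have hfr2 : Subgroup.normalizer ((R : Subgroup G) : Set G) ⊔ N = ⊤ := by
        rw [eq_top_iff, ← hfr]
        refine sup_le le_sup_left (sup_le ?_ le_sup_right)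
        exact le_trans Subgroup.le_normalizer le_sup_left
      by_cases hRn : Subgroup.normalizer ((R : Subgroup G) : Set G) = ⊤
      · refine ⟨r, hr, hrG, ?_⟩
        exact all_sylow_normal_of_one R (Subgroup.normalizer_eq_top_iff.mp hRn)
      · obtain ⟨M, hM, hRM⟩ := (eq_top_or_exists_le_coatom _).resolve_left hRn
        have hsup : M ⊔ N = ⊤ := by
          rw [eq_top_iff, ← hfr2]
          exact sup_le_sup_right hRM N
        haveI hinfn : (N ⊓ M).Normal := inf_normal_of_abelian_normal_sup_eq_top N M hNc hsup
        have hinf : N ⊓ M = ⊥ := by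
          rcases hNmin (N ⊓ M) hinfn inf_le_left with h0 | h0
          · exact h0
          · exfalso
            have : N ≤ M := by rw [← h0]; exact inf_le_right
            rw [sup_eq_left.mpr this] at hsup
            exact hM.1 hsup
        have hcompl : Subgroup.IsComplement' N M :=
          isComplement'_of_normal_sup_inf' (by rw [sup_comm]; exact hsup) hinf
        have hidx : M.index = Nat.card N := hcompl.index_eq_card
        have hcop := h M hM
        rw [hidx] at hcop
        refine ⟨q, hq, hqdvd, ?_⟩
        -- N is a Sylow q-subgroup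
        have hNS : ¬ q ∣ N.index := by
          intro hdvd
          -- card G = card N * card M; index N = card M
          have hMN : N.index = Nat.card M := by
            have := hcompl.symm.index_eq_card
            exact this
          rw [hMN] at hdvd
          have hqN : q ∣ Nat.card N := by
            obtain ⟨k, hk⟩ := IsPGroup.iff_card.mp hNp
            rw [hk] at hNcard ⊢
            have : k ≠ 0 := by
              rintro rfl
              simp at hNcard
            exact dvd_pow_self q this
          have := Nat.eq_one_of_dvd_coprimes hcop hdvd hqN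
          exact hq.one_lt.ne' this
        have hS : ((hNp.toSylow hNS : Sylow q G) : Subgroup G).Normal := by
          rw [IsPGroup.toSylow_coe]; exact hNn
        exact all_sylow_normal_of_one (hNp.toSylow hNS) hS

theorem result {G : Type*} [Group G] [Finite G] [Group.IsSolvable G] [Nontrivial G] (h : ∀ M : Subgroup G, IsCoatom M → (Nat.card M).Coprime M.index) : ∃ p : ℕ, p.Prime ∧ p ∣ Nat.card G ∧ ∀ P : Sylow p G, (P : Subgroup G).Normal := by
  exact main _ G rfl h

end Cfsg.Agent.S0553
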