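import Cfsg.Statements.S0554
import Cfsg.Agent.Lib.Helper10.Solvable

set_option autoImplicit false
open Cfsg

namespace Cfsg.Agent.S0554

open Pointwise
open Cfsg.Agent.Lib.Helper10

universe u

theorem absorb {G : Type*} [Group G] (N : Subgroup G) [N.Normal] :
    ∀ l : List (Set G), (∃ X ∈ l, X * (N : Set G) = X) → l.prod * (N : Set G) = l.prod
  | [], h => by
    obtain ⟨X, hX, _⟩ := h
    exact absurd hX (List.not_mem_nil)
  | X :: l', h => by
    obtain ⟨Y, hY, hYN⟩ := h
    rw [List.prod_cons, mul_assoc]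
    rcases List.mem_cons.mp hY with rfl | hY'
    · rw [Subgroup.set_mul_normal_comm, ← mul_assoc, hYN]
    · rw [absorb N l' ⟨Y, hY', hYN⟩]

theorem main : ∀ n : ℕ, ∀ (G : Type u) [Group G] [Finite G] [Group.IsSolvable G], Nat.card G = n →
    ∀ (t : ℕ) (p : Fin t → ℕ) (hp : ∀ i, (p i).Prime)
      (_hall : ∀ q : ℕ, q.Prime → q ∣ Nat.card G → ∃ i, p i = q) (S : (i : Fin t) → Sylow (p i) G),
      (List.ofFn fun i => ((S i : Subgroup G) : Set G)).prod = Set.univ := by
  intro n
  induction n using Nat.strong_induction_on with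
  | _ n ih =>
  intro G _ _ _ hn t p hp hall S
  by_cases h1 : Nat.card G = 1
  · haveI : Subsingleton G := (Nat.card_eq_one_iff_unique.mp h1).1
    rw [Set.eq_univ_iff_forall]
    intro g
    rw [Set.mem_prod_list_ofFn]
    refine ⟨fun i => ⟨1, (S i : Subgroup G).one_mem⟩, ?_⟩
    rw [Subsingleton.elim g 1]
    simp
  · haveI : Nontrivial G := by
      rw [← not_subsingleton_iff_nontrivial]
      intro hs
      exact h1 (Nat.card_eq_one_iff_unique.mpr ⟨hs, ⟨1⟩⟩)
    obtain ⟨q, N, hq, hNn, hNne, hNp, -, hqdvd⟩ := exists_normal_pgroup_of_solvable (G := G)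
    haveI := hNn
    obtain ⟨j, hj⟩ := hall q hq hqdvd
    have hNp' : IsPGroup (p j) N := by rw [hj]; exact hNp
    have hNS : N ≤ (S j : Subgroup G) := hNp'.le_sylow_of_normal (S j)
    -- the quotient
    have hcard : Nat.card G = Nat.card (G ⧸ N) * Nat.card N :=
      Subgroup.card_eq_card_quotient_mul_card_subgroup N
    have hNcard : 1 < Nat.card N := by
      have : Nat.card N ≠ 1 := fun h => hNne (Subgroup.card_eq_one.mp h)
      have : 0 < Nat.card N := Nat.card_pos
      omega
    have hlt : Nat.card (G ⧸ N) < n := by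
      rw [← hn, hcard]
      have : 0 < Nat.card (G ⧸ N) := Nat.card_pos
      nlinarith
    have hall' : ∀ q' : ℕ, q'.Prime → q' ∣ Nat.card (G ⧸ N) → ∃ i, p i = q' := by
      intro q' hq' hdvd
      exact hall q' hq' (hdvd.trans (Subgroup.card_quotient_dvd_card N))
    let Sbar : (i : Fin t) → Sylow (p i) (G ⧸ N) := fun i =>
      haveI : Fact (p i).Prime := ⟨hp i⟩
      (S i).mapSurjective (QuotientGroup.mk'_surjective N)
    have hIH := ih (Nat.card (G ⧸ N)) hlt (G ⧸ N) rfl t p hp hall' Sbar
    set X : Set G := (List.ofFn fun i => ((S i : Subgroup G) : Set G)).prod with hX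
    have himg : (QuotientGroup.mk' N) '' X = Set.univ := by
      rw [hX, Set.image_list_prod, List.map_ofFn, ← hIH]
      congr 1
    have hXN : X * (N : Set G) = Set.univ := by
      rw [Set.eq_univ_iff_forall]
      intro g
      have hg : (QuotientGroup.mk' N) g ∈ (QuotientGroup.mk' N) '' X := by rw [himg]; trivial
      obtain ⟨x, hx, hxg⟩ := hg
      have hmem : x⁻¹ * g ∈ N := QuotientGroup.eq.mp hxg
      exact ⟨x, hx, x⁻¹ * g, hmem, by group⟩
    rw [← hXN]
    symm
    apply absorb N
    refine ⟨((S j : Subgroup G) : Set G), List.mem_ofFn.mpr ⟨j, rfl⟩, ?_⟩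
    ext y
    constructor
    · rintro ⟨a, ha, b, hb, rfl⟩
      exact (S j : Subgroup G).mul_mem ha (hNS hb)
    · intro hy
      exact ⟨y, hy, 1, N.one_mem, mul_one y⟩

/-- Let G be a finite solvable group and let S assign to each of t distinct primes, including every prime divisor of the order of G, a Sylow subgroup of G. Then every element of G is a product s_0 s_1 ⋯ s_(t-1) with s_i in S i, the factors taken in the given order. -/
theorem result {G : Type*} [Group G] [Finite G] [Group.IsSolvable G] (t : ℕ) (p : Fin t → ℕ) (hp : ∀ i, (p i).Prime) (hinj : Function.Injective p) (hall : ∀ q : ℕ, q.Prime → q ∣ Nat.card G → ∃ i, p i = q) (S : (i : Fin t) → Sylow (p i) G) : ∀ g : G, ∃ s : (i : Fin t) → G, (∀ i, s i ∈ (S i : Subgroup G)) ∧ g = (List.ofFn s).prod := by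
  intro g
  have h := main (Nat.card G) G rfl t p hp hall S
  have hg : g ∈ (List.ofFn fun i => ((S i : Subgroup G) : Set G)).prod := by rw [h]; trivial
  rw [Set.mem_prod_list_ofFn] at hg
  obtain ⟨f, hf⟩ := hg
  exact ⟨fun i => (f i : G), fun i => (f i).2, hf.symm⟩

end Cfsg.Agent.S0554
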