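import Cfsg.Statements.S0555
import Mathlib

set_option autoImplicit false
open Cfsg

namespace Cfsg.Agent.S0555

open scoped commutatorElement

/-- generator of a cyclic section -/
theorem exists_gen_of_cyclic_section {G : Type*} [Group G] (H K : Subgroup G)
    [(K.subgroupOf H).Normal] (hc : IsCyclic (↥H ⧸ K.subgroupOf H)) :
    ∃ d ∈ H, ∀ x ∈ H, ∃ k : ℤ, (d ^ k)⁻¹ * x ∈ K := by
  obtain ⟨g, hg⟩ := hc.exists_generator
  obtain ⟨d, rfl⟩ := QuotientGroup.mk_surjective g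
  refine ⟨d, d.2, ?_⟩
  intro x hx
  obtain ⟨k, hk⟩ := Subgroup.mem_zpowers_iff.mp (hg (QuotientGroup.mk ⟨x, hx⟩))
  refine ⟨k, ?_⟩
  rw [← QuotientGroup.mk_zpow, QuotientGroup.eq, Subgroup.mem_subgroupOf] at hk
  simpa using hk

/-- Let i ≥ 1. If in the derived series of a group the quotient of the i-th term by the (i+1)-st and the quotient of the (i+1)-st by the (i+2)-nd are both cyclic, then the (i+1)-st and (i+2)-nd terms coincide. -/
theorem result {G : Type*} [Group G] (i : ℕ) (hi : 1 ≤ i) (h₁ : IsCyclic (↥(derivedSeries G i) ⧸ (derivedSeries G (i + 1)).subgroupOf (derivedSeries G i))) (h₂ : IsCyclic (↥(derivedSeries G (i + 1)) ⧸ (derivedSeries G (i + 2)).subgroupOf (derivedSeries G (i + 1)))) : derivedSeries G (i + 1) = derivedSeries G (i + 2) := by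
  set D0 := derivedSeries G i with hD0
  set D1 := derivedSeries G (i + 1) with hD1
  set D2 := derivedSeries G (i + 2) with hD2
  haveI hD2n : D2.Normal := derivedSeries_normal G (i + 2)
  haveI hD1n : D1.Normal := derivedSeries_normal G (i + 1)
  have hD21 : D2 ≤ D1 := derivedSeries_antitone G (by omega)
  have hD0G' : D0 ≤ commutator G := by
    have : derivedSeries G i ≤ derivedSeries G 1 := derivedSeries_antitone G hi
    rwa [derivedSeries_one] at this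
  obtain ⟨d₀, hd₀, hgen₀⟩ := exists_gen_of_cyclic_section D0 D1 h₁
  obtain ⟨d₁, hd₁, hgen₁⟩ := exists_gen_of_cyclic_section D1 D2 h₂
  let π : G →* G ⧸ D2 := QuotientGroup.mk' D2
  have hker : ∀ x : G, π x = 1 ↔ x ∈ D2 := fun x => QuotientGroup.eq_one_iff x
  set t₁ := π d₁ with ht₁
  set t₀ := π d₀ with ht₀
  -- images of elements of D1 are powers of t₁
  have himg₁ : ∀ x ∈ D1, ∃ k : ℤ, π x = t₁ ^ k := by
    intro x hx
    obtain ⟨k, hk⟩ := hgen₁ x hx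
    refine ⟨k, ?_⟩
    have := (hker _).mpr hk
    rw [map_mul, map_inv, map_zpow, inv_mul_eq_one] at this
    exact this.symm
  -- every conjugate of t₁ is a power of t₁
  have hconj : ∀ q : G ⧸ D2, ∃ k : ℤ, q * t₁ * q⁻¹ = t₁ ^ k := by
    intro q
    obtain ⟨x, rfl⟩ := QuotientGroup.mk'_surjective D2 q
    have hx : x * d₁ * x⁻¹ ∈ D1 := hD1n.conj_mem d₁ hd₁ x
    obtain ⟨k, hk⟩ := himg₁ _ hx
    refine ⟨k, ?_⟩
    rw [← hk]
    simp [ht₁, π]
  -- commutators centralize t₁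
  have hcent : commutator (G ⧸ D2) ≤ Subgroup.centralizer ({t₁} : Set (G ⧸ D2)) := by
    rw [commutator_eq_closure, Subgroup.closure_le]
    rintro _ ⟨x, y, rfl⟩
    rw [SetLike.mem_coe, Subgroup.mem_centralizer_singleton_iff]
    obtain ⟨k, hk⟩ := hconj x⁻¹
    obtain ⟨l, hl⟩ := hconj y⁻¹
    rw [inv_inv] at hk hl
    have e1 : (x⁻¹ * y⁻¹) * t₁ * (x⁻¹ * y⁻¹)⁻¹ = t₁ ^ (l * k) := by
      calc (x⁻¹ * y⁻¹) * t₁ * (x⁻¹ * y⁻¹)⁻¹ = x⁻¹ * (y⁻¹ * t₁ * y) * x := by group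
        _ = x⁻¹ * t₁ ^ l * x := by rw [hl]
        _ = (x⁻¹ * t₁ * x) ^ l := by
          have := map_zpow (MulAut.conj x⁻¹) t₁ l
          simpa [MulAut.conj_apply] using this
        _ = t₁ ^ (l * k) := by rw [hk, ← zpow_mul, mul_comm]
    have e2 : (y⁻¹ * x⁻¹) * t₁ * (y⁻¹ * x⁻¹)⁻¹ = t₁ ^ (l * k) := by
      calc (y⁻¹ * x⁻¹) * t₁ * (y⁻¹ * x⁻¹)⁻¹ = y⁻¹ * (x⁻¹ * t₁ * x) * y := by group
        _ = y⁻¹ * t₁ ^ k * y := by rw [hk]
        _ = (y⁻¹ * t₁ * y) ^ k := by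
          have := map_zpow (MulAut.conj y⁻¹) t₁ k
          simpa [MulAut.conj_apply] using this
        _ = t₁ ^ (l * k) := by rw [hl, ← zpow_mul]
    have e3 : (x⁻¹ * y⁻¹) * t₁ * (x⁻¹ * y⁻¹)⁻¹ = (y⁻¹ * x⁻¹) * t₁ * (y⁻¹ * x⁻¹)⁻¹ := by
      rw [e1, e2]
    rw [commutatorElement_def]
    calc x * y * x⁻¹ * y⁻¹ * t₁
        = (x * y) * ((x⁻¹ * y⁻¹) * t₁ * (x⁻¹ * y⁻¹)⁻¹) * (x⁻¹ * y⁻¹) := by group
      _ = (x * y) * ((y⁻¹ * x⁻¹) * t₁ * (y⁻¹ * x⁻¹)⁻¹) * (x⁻¹ * y⁻¹) := by rw [e3]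
      _ = t₁ * (x * y * x⁻¹ * y⁻¹) := by group
  -- images of D0 lie in the commutator subgroup of the quotient
  have hD0comm : ∀ x ∈ D0, π x ∈ commutator (G ⧸ D2) := by
    intro x hx
    have h1 : x ∈ commutator G := hD0G' hx
    rw [commutator_def] at h1 ⊢
    have h2 : π x ∈ (⁅(⊤ : Subgroup G), (⊤ : Subgroup G)⁆ : Subgroup G).map π := Subgroup.mem_map_of_mem π h1
    rw [Subgroup.map_commutator] at h2
    exact Subgroup.commutator_mono le_top le_top h2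
  have ht₀t₁ : t₀ * t₁ = t₁ * t₀ := by
    have := hcent (hD0comm d₀ hd₀)
    rw [Subgroup.mem_centralizer_singleton_iff] at this
    exact this
  -- images of elements of D0
  have himg₀ : ∀ x ∈ D0, ∃ k l : ℤ, π x = t₀ ^ k * t₁ ^ l := by
    intro x hx
    obtain ⟨k, hk⟩ := hgen₀ x hx
    obtain ⟨l, hl⟩ := himg₁ _ hk
    refine ⟨k, l, ?_⟩
    rw [map_mul, map_inv, map_zpow, ← ht₀] at hl
    rw [← hl]; group
  apply le_antisymm _ hD21
  have : D1 = ⁅D0, D0⁆ := derivedSeries_succ G i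
  rw [this, Subgroup.commutator_le]
  intro x hx y hy
  rw [← hker, map_commutatorElement, commutatorElement_eq_one_iff_commute]
  obtain ⟨k, l, hxk⟩ := himg₀ x hx
  obtain ⟨k', l', hyk⟩ := himg₀ y hy
  rw [hxk, hyk]
  have c : Commute t₀ t₁ := ht₀t₁
  exact Commute.mul_left (Commute.mul_right ((Commute.refl t₀).zpow_zpow k k') (c.zpow_zpow k l'))
    (Commute.mul_right ((c.symm).zpow_zpow l k') ((Commute.refl t₁).zpow_zpow l l'))

end Cfsg.Agent.S0555
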