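import Cfsg.Statements.S0557
import Mathlib

set_option autoImplicit false
open Cfsg

namespace Cfsg.Agent.S0557

open scoped commutatorElement

universe u

theorem foc_mono_sub {G : Type*} [Group G] (K : Subgroup G) (A : Subgroup K) (B : Subgroup G)
    (h : A.map K.subtype ≤ B) :
    (Subgroup.focalSubgroup A).map K.subtype ≤ Subgroup.focalSubgroup B := by
  rw [Subgroup.focalSubgroup_def, MonoidHom.map_closure, Subgroup.closure_le]
  rintro _ ⟨g, ⟨hgA, x, hxA, u, rfl⟩, rfl⟩
  apply Subgroup.subset_closure
  refine ⟨h ⟨_, hgA, rfl⟩, x, h ⟨x, hxA, rfl⟩, u, ?_⟩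
  simp [commutatorElement_def]

theorem foc_iter_sub {G : Type*} [Group G] (K : Subgroup G) (n : ℕ) :
    ∀ (A : Subgroup K) (B : Subgroup G), A.map K.subtype ≤ B →
      ((fun X : Subgroup K => Subgroup.focalSubgroup X)^[n] A).map K.subtype ≤
        (fun X : Subgroup G => Subgroup.focalSubgroup X)^[n] B := by
  induction n with
  | zero => intro A B h; simpa using h
  | succ n ih =>
    intro A B h
    rw [Function.iterate_succ_apply, Function.iterate_succ_apply]
    exact ih _ _ (foc_mono_sub K A B h)

/-- a normal Hall subgroup is the set of elements of order dividing its order -/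
theorem mem_normal_hall_iff {K : Type*} [Group K] [Finite K] (N : Subgroup K) [N.Normal]
    (m : ℕ) (hm : Nat.card N = m) (hcop : (N.index).Coprime m) (x : K) :
    x ∈ N ↔ x ^ m = 1 := by
  constructor
  · intro hx
    have := pow_card_eq_one' (G := N) (x := ⟨x, hx⟩)
    rw [hm] at this
    exact congrArg Subtype.val this
  · intro hx
    have h1 : (QuotientGroup.mk' N x) ^ m = 1 := by rw [← map_pow, hx, map_one]
    have hd1 : orderOf (QuotientGroup.mk' N x) ∣ m := orderOf_dvd_of_pow_eq_one h1
    have hd2 : orderOf (QuotientGroup.mk' N x) ∣ N.index := by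
      rw [Subgroup.index_eq_card]; exact orderOf_dvd_natCard _
    have : orderOf (QuotientGroup.mk' N x) = 1 := Nat.eq_one_of_dvd_coprimes hcop hd2 hd1
    rw [orderOf_eq_one_iff] at this
    exact (QuotientGroup.eq_one_iff x).mp this

theorem main : ∀ (n : ℕ) (G : Type u) [Group G] [Finite G] (H : Subgroup G),
    (Nat.card H).Coprime H.index →
    (fun K : Subgroup G => Subgroup.focalSubgroup K)^[n] H = ⊥ →
    ∃ N : Subgroup G, N.Normal ∧ Subgroup.IsComplement' N H := by
  intro n
  induction n with
  | zero =>
    intro G _ _ H _ hfoc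
    simp only [Function.iterate_zero, id_eq] at hfoc
    subst hfoc
    exact ⟨⊤, inferInstance, Subgroup.isComplement'_top_bot⟩
  | succ n ih =>
    intro G _ _ H hHall hfoc
    rw [Function.iterate_succ_apply] at hfoc
    set F := H.focalSubgroup with hF
    have hFH : F ≤ H := H.focalSubgroup_le
    set m := H.index with hm
    let V := H.transferFocal
    set K := V.ker with hK
    have hcopQ : (Nat.card (H ⧸ H.focalSubgroupOf)).Coprime m :=
      Nat.Coprime.coprime_dvd_left (Subgroup.card_quotient_dvd_card _) hHall
    -- surjectivity of the transfer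
    have hVsurj : Function.Surjective V := by
      intro y
      obtain ⟨z, hz⟩ := (powCoprime hcopQ).surjective y
      obtain ⟨x, rfl⟩ := QuotientGroup.mk'_surjective _ z
      refine ⟨x, ?_⟩
      rw [← hz]
      exact H.transferFocal_eq_pow x
    -- F ≤ K
    have hFK : F ≤ K := by
      intro x hx
      rw [hK, MonoidHom.mem_ker]
      have hxH : x ∈ H := hFH hx
      have h1 := H.transferFocal_eq_pow ⟨x, hxH⟩
      have h2 : ((⟨x, hxH⟩ : H) : H ⧸ H.focalSubgroupOf) = 1 := by
        rw [QuotientGroup.eq_one_iff, Subgroup.focalSubgroupOf_def, Subgroup.mem_subgroupOf]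
        exact hx
      rw [h2, one_pow] at h1
      exact h1
    -- cardinalities
    have hcardQ : Nat.card (H ⧸ H.focalSubgroupOf) * Nat.card F = Nat.card H := by
      have h1 := Subgroup.card_eq_card_quotient_mul_card_subgroup H.focalSubgroupOf
      have h2 : Nat.card H.focalSubgroupOf = Nat.card F :=
        Nat.card_congr (Subgroup.subgroupOfEquivOfLe hFH).toEquiv
      rw [h2] at h1
      exact h1.symm
    have hKidx : K.index = Nat.card (H ⧸ H.focalSubgroupOf) := by
      rw [hK, Subgroup.index_ker, MonoidHom.range_eq_top.mpr hVsurj, Subgroup.card_top]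
    have hcardK : Nat.card K = Nat.card F * m := by
      have h1 := Subgroup.card_mul_index K
      have h2 := Subgroup.card_mul_index H
      rw [hKidx] at h1
      rw [← hm, ← hcardQ] at h2
      have hpos : 0 < Nat.card (H ⧸ H.focalSubgroupOf) := Nat.card_pos
      have : Nat.card (H ⧸ H.focalSubgroupOf) * Nat.card K =
          Nat.card (H ⧸ H.focalSubgroupOf) * (Nat.card F * m) := by
        rw [mul_comm, h1, ← h2]; ring
      exact Nat.eq_of_mul_eq_mul_left hpos this
    -- the Hall subgroup `F` of `K`
    set F' : Subgroup K := F.subgroupOf K with hF'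
    have hcardF' : Nat.card F' = Nat.card F :=
      Nat.card_congr (Subgroup.subgroupOfEquivOfLe hFK).toEquiv
    have hF'idx : F'.index = m := by
      have h1 := Subgroup.card_mul_index F'
      rw [hcardF', hcardK] at h1
      have hpos : 0 < Nat.card F := Nat.card_pos
      exact Nat.eq_of_mul_eq_mul_left hpos h1
    have hcopF : (Nat.card F).Coprime m :=
      Nat.Coprime.coprime_dvd_left (Subgroup.card_dvd_of_le hFH) hHall
    have hHall' : (Nat.card F').Coprime F'.index := by
      rw [hcardF', hF'idx]; exact hcopF
    have hfoc' : (fun X : Subgroup K => Subgroup.focalSubgroup X)^[n] F' = ⊥ := by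
      have h1 := foc_iter_sub K n F' F (by
        rw [hF', Subgroup.subgroupOf_map_subtype]; exact inf_le_left)
      rw [hfoc, le_bot_iff] at h1
      exact (Subgroup.map_eq_bot_iff_of_injective _ K.subtype_injective).mp h1
    obtain ⟨N', hN'n, hN'c⟩ := ih K F' hHall' hfoc'
    haveI := hN'n
    have hcardN' : Nat.card N' = m := by
      rw [← hF'idx]; exact hN'c.index_eq_card.symm
    have hN'idx : N'.index = Nat.card F := by
      rw [← hcardF']; exact hN'c.symm.index_eq_card
    have hchar : ∀ x : K, x ∈ N' ↔ x ^ m = 1 :=
      mem_normal_hall_iff N' m hcardN' (by rw [hN'idx]; exact hcopF)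
    have hKn : K.Normal := by rw [hK]; infer_instance
    refine ⟨N'.map K.subtype, ⟨?_⟩, ?_⟩
    · rintro _ ⟨x, hx, rfl⟩ g
      have hxK : g * (x : G) * g⁻¹ ∈ K := hKn.conj_mem _ x.2 g
      refine ⟨⟨_, hxK⟩, ?_, rfl⟩
      rw [SetLike.mem_coe, hchar]
      have h1 := (hchar x).mp hx
      apply Subtype.ext
      have h2 : ((x : G)) ^ m = 1 := by
        have := congrArg Subtype.val h1
        simpa using this
      simp only [Subgroup.coe_pow, Subgroup.coe_one]
      rw [conj_pow, h2, mul_one, mul_inv_cancel]
    · have hcN : Nat.card (N'.map K.subtype) = m := by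
        rw [Subgroup.card_map_of_injective K.subtype_injective, hcardN']
      apply Subgroup.isComplement'_of_coprime
      · rw [hcN, hm, mul_comm]; exact Subgroup.card_mul_index H
      · rw [hcN]; exact hHall.symm

/-- Let H be a subgroup of a finite group G with order coprime to its index. If iterating the focal-subgroup construction starting from H reaches the trivial subgroup after finitely many steps, then H has a normal complement in G. -/
theorem result {G : Type*} [Group G] [Finite G] (H : Subgroup G) (hHall : (Nat.card H).Coprime H.index) (n : ℕ) (hfoc : (fun K : Subgroup G => Subgroup.focalSubgroup K)^[n] H = ⊥) : ∃ N : Subgroup G, N.Normal ∧ Subgroup.IsComplement' N H := by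
  exact main n G H hHall hfoc

end Cfsg.Agent.S0557
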