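import Cfsg.Statements.S0558
import Cfsg.Agent.Lib.Helper35.HallFusion

set_option autoImplicit false
open Cfsg

namespace Cfsg.Agent.S0558

open Subgroup
open Cfsg.Agent.Lib.Helper33 Cfsg.Agent.Lib.Helper35

/-- If a non-Sylow subgroup `H` is the normalizer of each of its Sylow subgroups, then `H` has a
normal complement. -/
theorem result {G : Type*} [Group G] [Finite G] (H : Subgroup G) (hnot : ∀ p : ℕ, p.Prime → ∀ P : Sylow p G, (P : Subgroup G) ≠ H) (hnorm : ∀ p : ℕ, p.Prime → p ∣ Nat.card H → ∀ P : Sylow p H, Subgroup.normalizer (((P : Subgroup H).map H.subtype : Subgroup G) : Set G) = H) : ∃ N : Subgroup G, N.Normal ∧ Subgroup.IsComplement' N H := by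
  classical
  -- Step 1: all Sylow subgroups of `H` are normal, so `H` is nilpotent
  have hSylN : ∀ (p : ℕ) (_ : Fact p.Prime) (P : Sylow p H), (P : Subgroup H).Normal := by
    intro p hp P
    by_cases hpd : p ∣ Nat.card H
    · have hN := hnorm p hp.out hpd P
      refine ⟨fun x hx n => ?_⟩
      have hn : (n : G) ∈ normalizer (((P : Subgroup H).map H.subtype : Subgroup G) : Set G) := by
        rw [hN]; exact n.2
      have hx' : (x : G) ∈ (P : Subgroup H).map H.subtype := ⟨x, hx, rfl⟩
      obtain ⟨z, hz, hzx⟩ := (mem_normalizer_iff.mp hn (x : G)).mp hx'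
      have : z = n * x * n⁻¹ := Subtype.ext (by simpa using hzx)
      rw [← this]; exact hz
    · have hcard : Nat.card (P : Subgroup H) = 1 := by
        rw [P.card_eq_multiplicity, Nat.factorization_eq_zero_of_not_dvd hpd, pow_zero]
      have : (P : Subgroup H) = ⊥ := (Subgroup.card_eq_one).mp hcard
      rw [this]; infer_instance
  have hnil : Group.IsNilpotent H :=
    ((Group.isNilpotent_of_finite_tfae (G := H)).out 0 3).mpr hSylN
  -- Step 2: the Sylow subgroups of `H` are Sylow in `G`
  have hSylG : ∀ (p : ℕ) (_ : Fact p.Prime), p ∣ Nat.card H → ∀ P : Sylow p H,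
      ¬ p ∣ ((P : Subgroup H).map H.subtype).index := by
    intro p hp hpd P
    set P0 := (P : Subgroup H).map H.subtype with hP0
    have hP0p : IsPGroup p P0 := P.2.map _
    obtain ⟨P', hP'⟩ := hP0p.exists_le_sylow
    have heq : P0 = (P' : Subgroup G) := by
      by_contra hne
      have hlt : P0 < (P' : Subgroup G) := lt_of_le_of_ne hP' hne
      have hgrow := normalizer_growth P'.2 hlt
      rw [hnorm p hp.out hpd P] at hgrow
      -- `K' = P' ⊓ H` is a `p`-subgroup of `H` containing `P`
      have hK'p : IsPGroup p (((P' : Subgroup G) ⊓ H).subgroupOf H) :=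
        (P'.2.to_le inf_le_left).comap_subtype
      have hle : (P : Subgroup H) ≤ ((P' : Subgroup G) ⊓ H).subgroupOf H := by
        intro x hx
        rw [mem_subgroupOf]
        exact hgrow.le ⟨x, hx, rfl⟩
      have hmax := P.is_maximal' hK'p hle
      apply (not_le_of_gt hgrow)
      intro y hy
      have : (⟨y, hy.2⟩ : H) ∈ ((P' : Subgroup G) ⊓ H).subgroupOf H := by
        rw [mem_subgroupOf]; exact hy
      rw [hmax] at this
      exact ⟨⟨y, hy.2⟩, this, rfl⟩
    rw [heq]
    exact P'.not_dvd_index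
  -- Hall
  have hHall : Nat.Coprime (Nat.card H) H.index := by
    apply Nat.Coprime.symm
    apply Nat.coprime_of_dvd
    intro p hp hpi hpc
    have : Fact p.Prime := ⟨hp⟩
    let P : Sylow p H := default
    have := hSylG p ⟨hp⟩ hpc P
    rw [index_map_subtype] at this
    exact this (Dvd.dvd.mul_left hpi _)
  -- Step 3: two primes
  have htwo : ∀ p : ℕ, p.Prime → p ∣ Nat.card H → ∃ q : ℕ, q.Prime ∧ q ≠ p ∧ q ∣ Nat.card H := by
    intro p hp hpd
    by_contra hcon
    push Not at hcon
    have : Fact p.Prime := ⟨hp⟩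
    let P : Sylow p H := default
    -- `H` is a `p`-group
    have hHp : IsPGroup p H := by
      obtain ⟨k, hk⟩ : ∃ k, Nat.card H = p ^ k := by
        refine ⟨(Nat.card H).factorization p, ?_⟩
        apply Nat.eq_pow_of_factorization_eq_single Nat.card_pos.ne'
        ext q
        by_cases hq : q = p
        · subst hq; simp
        · rw [Finsupp.single_apply, if_neg (Ne.symm hq)]
          by_cases hqp : q.Prime
          · apply Nat.factorization_eq_zero_of_not_dvd
            intro hqd
            exact hcon q hqp hq hqd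
          · exact Nat.factorization_eq_zero_of_not_prime _ hqp
      exact IsPGroup.of_card hk
    have hPtop : (P : Subgroup H) = ⊤ := by
      have := P.is_maximal' (Q := ⊤) (hHp.to_subgroup ⊤) le_top
      exact this.symm
    have h1 := hSylG p ⟨hp⟩ hpd P
    have hmap : (P : Subgroup H).map H.subtype = H := by
      rw [hPtop, ← MonoidHom.range_eq_map, range_subtype]
    rw [hmap] at h1
    have hHpG : IsPGroup p H := hHp
    exact hnot p hp (hHpG.toSylow h1) rfl
  -- Step 4: local control of fusion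
  apply exists_normal_complement_of_hall_local_fusion H hnil hHall
  intro p hp hpd x hxH y hyH ⟨k, hxk⟩ ⟨g, hg⟩
  obtain ⟨q, hq, hqp, hqd⟩ := htwo p hp hpd
  have : Fact q.Prime := ⟨hq⟩
  have : Fact p.Prime := ⟨hp⟩
  let Q : Sylow q H := default
  set Q0 := (Q : Subgroup H).map H.subtype with hQ0
  have hQ0q : IsPGroup q Q0 := Q.2.map _
  have hQ0i : ¬ q ∣ Q0.index := hSylG q ⟨hq⟩ hqd Q
  have hQ0N : normalizer (Q0 : Set G) = H := hnorm q hq hqd Q
  have hQ0H : Q0 ≤ H := by
    rintro _ ⟨z, -, rfl⟩; exact z.2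
  -- `Q0` centralizes the `p`-elements of `H`
  have hcent : ∀ w ∈ H, (∃ k : ℕ, w ^ p ^ k = 1) → Q0 ≤ centralizer ({w} : Set G) := by
    rintro w hwH ⟨j, hwj⟩ _ ⟨z, hz, rfl⟩
    rw [mem_centralizer_singleton_iff]
    obtain ⟨l, hl⟩ := Q.2 ⟨z, hz⟩
    have hzl : (z : H) ^ q ^ l = 1 := by
      have := congrArg Subtype.val hl
      simpa using this
    have hc := commute_of_coprime_of_isNilpotent H (⟨w, hwH⟩ : H) z (p ^ j) (q ^ l)
      (Subtype.ext (by simpa using hwj)) hzl
      (Nat.Coprime.pow _ _ ((Nat.coprime_primes hp hq).mpr hqp.symm))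
    have := congrArg Subtype.val hc.eq
    simpa using this.symm
  have hyk : y ^ p ^ k = 1 := by
    rw [← hg, conj_pow, hxk]; group
  set K := centralizer ({y} : Set G) with hK
  have hQ0K : Q0 ≤ K := hcent y hyH ⟨k, hyk⟩
  have hgQ0K : cj g Q0 ≤ K := by
    intro w hw
    rw [mem_cj] at hw
    have h1 := hcent x hxH ⟨k, hxk⟩ hw
    rw [mem_centralizer_singleton_iff] at h1
    rw [hK, mem_centralizer_singleton_iff, ← hg]
    -- (g⁻¹ w g) x = x (g⁻¹ w g)
    have : w * (g * x * g⁻¹) = g * ((g⁻¹ * w * g) * x) * g⁻¹ := by group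
    rw [this, h1]; group
  have hrel : ¬ q ∣ Q0.relIndex K := by
    intro h
    apply hQ0i
    rw [← relIndex_mul_index hQ0K]
    exact Dvd.dvd.mul_right h _
  obtain ⟨c, hcK, hc⟩ := sylow_sub hQ0K hQ0q hrel hgQ0K (isPGroup_cj hQ0q)
  rw [← cj_mul] at hc
  have heq : cj (c * g) Q0 = Q0 :=
    Subgroup.eq_of_le_of_card_ge hc (by rw [card_cj])
  have hcgH : c * g ∈ H := by
    rw [← hQ0N]; exact cj_eq_self_iff.mp heq
  refine ⟨c * g, hcgH, ?_⟩
  rw [hK, mem_centralizer_singleton_iff] at hcK
  calc c * g * x * (c * g)⁻¹ = c * (g * x * g⁻¹) * c⁻¹ := by group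
    _ = c * y * c⁻¹ := by rw [hg]
    _ = y := by rw [hcK]; group

end Cfsg.Agent.S0558
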