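import Cfsg.Statements.S0563
import Mathlib
import Cfsg.Agent.Lib.Helper96.KW.Main
import Cfsg.Agent.Lib.Helper9.HallFactor

set_option autoImplicit false
set_option linter.style.haveILetI false
open Pointwise
open Cfsg

namespace Cfsg.Agent.S0563

theorem sylow_hall {G : Type*} [Group G] [Finite G] (A B : Subgroup G)
    (hA : Group.IsNilpotent A) (hcop : (Nat.card A).Coprime (Nat.card B))
    (hAB : ∀ g : G, ∃ a ∈ A, ∃ b ∈ B, g = a * b) (p : ℕ) [hp : Fact p.Prime] (P : Sylow p A) :
    ((P : Subgroup A).map A.subtype ≤ A) ∧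
    (((P : Subgroup A).map A.subtype).subgroupOf A).Normal ∧
    (Nat.card ((P : Subgroup A).map A.subtype)).Coprime ((P : Subgroup A).map A.subtype).index := by
  haveI := hA
  refine ⟨Subgroup.map_subtype_le _, ?_, ?_⟩
  · have : ((P : Subgroup A).map A.subtype).subgroupOf A = (P : Subgroup A) :=
      Subgroup.comap_map_eq_self_of_injective A.subtype_injective _
    rw [this]
    infer_instance
  · have hcompl : Subgroup.IsComplement' A B := by
      apply Subgroup.isComplement'_of_disjoint_and_mul_eq_univ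
        (Subgroup.disjoint_of_coprime_natCard hcop)
      ext g
      simp only [Set.mem_univ, iff_true]
      obtain ⟨a, ha, b, hb, h⟩ := hAB g
      exact Set.mem_mul.mpr ⟨a, ha, b, hb, h.symm⟩
    have hAidx : A.index = Nat.card B := hcompl.symm.index_eq_card
    rw [Subgroup.card_map_of_injective A.subtype_injective, Subgroup.index_map_subtype, hAidx]
    obtain ⟨n, hn⟩ := IsPGroup.iff_card.mp P.2
    rw [hn]
    rcases Nat.eq_zero_or_pos n with h0 | h0
    · rw [h0, pow_zero]; exact Nat.coprime_one_left _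
    · apply Nat.Coprime.pow_left
      rw [Nat.Prime.coprime_iff_not_dvd hp.out]
      intro h
      rcases (Nat.Prime.dvd_mul hp.out).mp h with h1 | h1
      · exact P.not_dvd_index h1
      · have hpA : p ∣ Nat.card A := by
          have : p ∣ Nat.card (P : Subgroup A) := by rw [hn]; exact dvd_pow_self p h0.ne'
          exact this.trans (Subgroup.card_subgroup_dvd_card _)
        have := Nat.dvd_gcd hpA h1
        rw [hcop.gcd_eq_one] at this
        exact hp.out.one_lt.ne' (Nat.dvd_one.mp this)

/-- If a finite group G is the product AB of two nilpotent subgroups of coprime orders, then G is solvable, and for every Sylow p-subgroup P of A and Sylow q-subgroup Q of B the product set PQ is a subgroup. -/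
theorem result {G : Type*} [Group G] [Finite G] (A B : Subgroup G) (hA : Group.IsNilpotent A) (hB : Group.IsNilpotent B) (hcop : (Nat.card A).Coprime (Nat.card B)) (hAB : ∀ g : G, ∃ a ∈ A, ∃ b ∈ B, g = a * b) : Group.IsSolvable G ∧ ∀ (p q : ℕ) [Fact p.Prime] [Fact q.Prime] (P : Sylow p A) (Q : Sylow q B), ∃ S : Subgroup G, (S : Set G) = (((P : Subgroup A).map A.subtype : Subgroup G) : Set G) * (((Q : Subgroup B).map B.subtype : Subgroup G) : Set G) := by
  have hsolv : Group.IsSolvable G :=
    Cfsg.Agent.Lib.Helper96.KW.coprime_solvable A B hA hB hcop hAB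
  refine ⟨hsolv, ?_⟩
  intro p q _ _ P Q
  have hBA : ∀ g : G, ∃ b ∈ B, ∃ a ∈ A, g = b * a := by
    intro g
    obtain ⟨a, ha, b, hb, h⟩ := hAB g⁻¹
    exact ⟨b⁻¹, B.inv_mem hb, a⁻¹, A.inv_mem ha, by rw [← mul_inv_rev, ← h, inv_inv]⟩
  obtain ⟨h1, h2, h3⟩ := sylow_hall A B hA hcop hAB p P
  obtain ⟨h4, h5, h6⟩ := sylow_hall B A hB hcop.symm hBA q Q
  obtain ⟨S, hS⟩ := Cfsg.Agent.Lib.Helper9.hall_factor_permute A B _ _ hAB h1 h2 h4 h5 h3 h6 1 1
  refine ⟨S, ?_⟩
  rw [hS, map_one, one_smul, one_smul]

end Cfsg.Agent.S0563
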