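import Cfsg.Statements.S0567
import Mathlib

set_option autoImplicit false
open Cfsg

namespace Cfsg.Agent.S0567

open scoped commutatorElement

theorem conj_mem_sup_commutator {G : Type*} [Group G] (H K : Subgroup G) {k : G} (hk : k ∈ K) :
    ∀ x ∈ H ⊔ ⁅K, H⁆, k * x * k⁻¹ ∈ H ⊔ ⁅K, H⁆ := by
  have hle : H ⊔ ⁅K, H⁆ ≤ (H ⊔ ⁅K, H⁆).comap (MulAut.conj k).toMonoidHom := by
    apply sup_le
    · intro h hh
      simp only [Subgroup.mem_comap, MulEquiv.coe_toMonoidHom, MulAut.conj_apply]
      have e : k * h * k⁻¹ = ⁅k, h⁆ * h := by rw [commutatorElement_def]; group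
      rw [e]
      exact Subgroup.mul_mem _
        ((le_sup_right : ⁅K, H⁆ ≤ H ⊔ ⁅K, H⁆) (Subgroup.commutator_mem_commutator hk hh))
        ((le_sup_left : H ≤ H ⊔ ⁅K, H⁆) hh)
    · intro c hc
      simp only [Subgroup.mem_comap, MulEquiv.coe_toMonoidHom, MulAut.conj_apply]
      apply (le_sup_right : ⁅K, H⁆ ≤ H ⊔ ⁅K, H⁆)
      have := Subgroup.normalizer_commutator_ge_left (H₁ := K) (H₂ := H) hk
      exact (Subgroup.mem_normalizer_iff.mp this c).mp hc
  intro x hx
  have := hle hx
  simpa [Subgroup.mem_comap] using this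

/-- A subgroup H of a group G is subnormal exactly when, for some m, the subgroup obtained from G by taking the commutator with H m times in succession is contained in H. -/
theorem result {G : Type*} [Group G] (H : Subgroup G) : H.IsSubnormal ↔ ∃ m : ℕ, (fun K : Subgroup G => ⁅K, H⁆)^[m] ⊤ ≤ H := by
  constructor
  · intro h
    induction h with
    | top => exact ⟨0, le_rfl⟩
    | step H K hle hK hN ih =>
      obtain ⟨m, hm⟩ := ih
      refine ⟨m + 1, ?_⟩
      have hmono : ∀ j : ℕ, (fun L : Subgroup G => ⁅L, H⁆)^[j] ⊤ ≤ (fun L : Subgroup G => ⁅L, K⁆)^[j] ⊤ := by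
        intro j
        induction j with
        | zero => exact le_rfl
        | succ j ihj =>
          rw [Function.iterate_succ_apply', Function.iterate_succ_apply']
          exact Subgroup.commutator_mono ihj hle
      rw [Function.iterate_succ_apply']
      have h1 : K ≤ Subgroup.normalizer (H : Set G) :=
        (Subgroup.normal_subgroupOf_iff_le_normalizer hle).mp hN
      have h2 : ⁅K, H⁆ ≤ H := Subgroup.le_normalizer_iff_commutator_le_right.mp h1
      exact (Subgroup.commutator_mono ((hmono m).trans hm) le_rfl).trans h2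
  · rintro ⟨m, hm⟩
    have key : ∀ i : ℕ, (H ⊔ (fun K : Subgroup G => ⁅K, H⁆)^[i] ⊤).IsSubnormal := by
      intro i
      induction i with
      | zero => simp
      | succ i ih =>
        set K := (fun K : Subgroup G => ⁅K, H⁆)^[i] ⊤ with hK
        rw [Function.iterate_succ_apply', ← hK]
        have hle : H ⊔ ⁅K, H⁆ ≤ H ⊔ K := by
          apply sup_le le_sup_left
          exact (Subgroup.commutator_le_sup K H).trans (by rw [sup_comm])
        refine Subgroup.IsSubnormal.step _ _ hle ih ?_
        rw [Subgroup.normal_subgroupOf_iff_le_normalizer hle]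
        apply sup_le
        · exact (le_sup_left : H ≤ H ⊔ ⁅K, H⁆).trans Subgroup.le_normalizer
        · intro k hk
          rw [Subgroup.mem_normalizer_iff]
          intro x
          constructor
          · exact conj_mem_sup_commutator H K hk x
          · intro hx
            have := conj_mem_sup_commutator H K (K.inv_mem hk) _ hx
            have e : k⁻¹ * (k * x * k⁻¹) * k⁻¹⁻¹ = x := by group
            rwa [e] at this
    have := key m
    rwa [sup_eq_left.mpr hm] at this

end Cfsg.Agent.S0567
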