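import Cfsg.Statements.S0568
import Mathlib
import Cfsg.Agent.Lib.Helper9.SystemNormalizerCover

set_option autoImplicit false
open Cfsg

namespace Cfsg.Agent.S0568

open Cfsg.Agent.Lib.Helper9
open scoped commutatorElement

/-- Let D be the system normalizer of a Hall complement system of a finite solvable group G, and let A < B be normal subgroups with no normal subgroup of G strictly between them (a chief factor). If G centralizes B modulo A then B ≤ A ⊔ D (D covers the factor); otherwise B ∩ D ≤ A (D avoids it). -/
theorem result {G : Type*} [Group G] [Finite G] [Group.IsSolvable G] (K : Nat.Primes → Subgroup G) (hK : Cfsg.IsComplementSystem K) (A B : Subgroup G) [A.Normal] [B.Normal] (hAB : A < B) (hchief : ∀ N : Subgroup G, N.Normal → A ≤ N → N ≤ B → N = A ∨ N = B) : (⁅B, (⊤ : Subgroup G)⁆ ≤ A → B ≤ A ⊔ Cfsg.systemNormalizer K) ∧ (¬ ⁅B, (⊤ : Subgroup G)⁆ ≤ A → B ⊓ Cfsg.systemNormalizer K ≤ A) := by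
  classical
  set D := Cfsg.systemNormalizer K with hD
  set π := QuotientGroup.mk' A with hπ
  have hπs : Function.Surjective π := QuotientGroup.mk'_surjective A
  have hker : π.ker = A := QuotientGroup.ker_mk' A
  have hKb := isComplementSystem_map K hK A
  have hDb := systemNormalizer_map K hK A
  have hBn : (B.map π).Normal := Subgroup.Normal.map inferInstance π hπs
  have hBne : B.map π ≠ ⊥ := by
    intro h
    rw [Subgroup.map_eq_bot_iff, hker] at h
    exact absurd h (not_le_of_gt hAB)
  have hcm : (B.map π).comap π = B := by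
    rw [Subgroup.comap_map_eq, hker, sup_eq_left.mpr hAB.le]
  have hmin : ∀ N : Subgroup (G ⧸ A), N.Normal → N ≤ B.map π → N = ⊥ ∨ N = B.map π := by
    intro N hN hle
    have h1 : (N.comap π).Normal := hN.comap π
    have h2 : A ≤ N.comap π := hker.symm.le.trans (Subgroup.ker_le_comap π N)
    have h3 : N.comap π ≤ B := by
      rw [← hcm]; exact Subgroup.comap_mono hle
    rcases hchief _ h1 h2 h3 with h | h
    · left
      rw [← Subgroup.map_comap_eq_self_of_surjective hπs N, h]
      rw [Subgroup.map_eq_bot_iff, hker]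
    · right
      rw [← Subgroup.map_comap_eq_self_of_surjective hπs N, h]
  have hcentral : ⁅B, (⊤ : Subgroup G)⁆ ≤ A ↔ B.map π ≤ Subgroup.center (G ⧸ A) := by
    rw [Subgroup.commutator_le]
    constructor
    · intro h
      rintro _ ⟨b, hb, rfl⟩
      rw [Subgroup.mem_center_iff]
      intro y
      obtain ⟨g, rfl⟩ := hπs y
      have h1 := h b hb g (Subgroup.mem_top g)
      have h2 : π ⁅b, g⁆ = 1 := by
        rw [hπ]; exact (QuotientGroup.eq_one_iff _).mpr h1
      rw [map_commutatorElement, commutatorElement_eq_one_iff_mul_comm] at h2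
      exact h2.symm
    · intro h b hb g _
      have h1 := h (Subgroup.mem_map_of_mem π hb)
      rw [Subgroup.mem_center_iff] at h1
      have h2 : π ⁅b, g⁆ = 1 := by
        rw [map_commutatorElement, commutatorElement_eq_one_iff_mul_comm]
        exact (h1 (π g)).symm
      rw [hπ] at h2
      exact (QuotientGroup.eq_one_iff _).mp h2
  constructor
  · intro hc
    have h1 : B.map π ≤ D.map π := by
      rw [← hDb]
      exact (hcentral.mp hc).trans (center_le_systemNormalizer _)
    have h2 := Subgroup.comap_mono (f := π) h1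
    rw [hcm, Subgroup.comap_map_eq, hker, sup_comm] at h2
    exact h2
  · intro hc
    have hecc : ¬ B.map π ≤ Subgroup.center (G ⧸ A) := fun h => hc (hcentral.mpr h)
    have h1 := minimal_normal_inf_systemNormalizer_eq_bot _ hKb (B.map π) hBne hmin hecc
    rw [hDb] at h1
    intro x hx
    have h2 : π x ∈ B.map π ⊓ D.map π :=
      ⟨Subgroup.mem_map_of_mem π hx.1, Subgroup.mem_map_of_mem π hx.2⟩
    rw [h1, Subgroup.mem_bot, hπ] at h2
    exact (QuotientGroup.eq_one_iff _).mp h2

end Cfsg.Agent.S0568
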