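import Cfsg.Statements.S0569
import Mathlib
import Cfsg.Agent.Lib.Helper9.CarterSystem2

set_option autoImplicit false
open Cfsg

namespace Cfsg.Agent.S0569

open Cfsg.Agent.Lib.Helper9
open scoped Pointwise

/-- In a finite solvable group: each nilpotent self-normalizing subgroup contains the system normalizer of some Hall complement system, and the system normalizer of any Hall complement system lies in some nilpotent self-normalizing subgroup. -/
theorem result {G : Type*} [Group G] [Finite G] [Group.IsSolvable G] : (∀ C : Subgroup G, Cfsg.IsCarterSubgroup C → ∃ K : Nat.Primes → Subgroup G, Cfsg.IsComplementSystem K ∧ Cfsg.systemNormalizer K ≤ C) ∧ ∀ K : Nat.Primes → Subgroup G, Cfsg.IsComplementSystem K → ∃ C : Subgroup G, Cfsg.IsCarterSubgroup C ∧ Cfsg.systemNormalizer K ≤ C := by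
  have ha : ∀ C : Subgroup G, Cfsg.IsCarterSubgroup C → ∃ K : Nat.Primes → Subgroup G,
      Cfsg.IsComplementSystem K ∧ Cfsg.systemNormalizer K ≤ C := by
    intro C hC
    exact exists_systemNormalizer_le_carter _ G rfl C hC.1 hC.2
  refine ⟨ha, ?_⟩
  intro K hK
  obtain ⟨⟨C₀, hC₀n, hC₀s⟩, -⟩ := Cfsg.Agent.S0045.result (G := G)
  obtain ⟨K₀, hK₀, hle⟩ := ha C₀ ⟨hC₀n, hC₀s⟩
  obtain ⟨n, -, hn⟩ := complement_system_rel_conj ⊤ K K₀ hK hK₀
    (fun p => by rw [sup_top_eq, sup_top_eq])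
  have hCn : Cfsg.Agent.Lib.Helper1.IsCarter (MulAut.conj n • C₀) :=
    Cfsg.Agent.Lib.Helper1.IsCarter.conj ⟨hC₀n, hC₀s⟩ n
  refine ⟨MulAut.conj n • C₀, ⟨hCn.1, hCn.2⟩, ?_⟩
  have h1 : K = fun p => MulAut.conj n • K₀ p := by
    funext p
    exact (hn p).symm
  rw [h1, systemNormalizer_conj]
  exact Subgroup.pointwise_smul_le_pointwise_smul_iff.mpr hle

end Cfsg.Agent.S0569
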