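import Cfsg.Statements.S0572
import Mathlib

set_option autoImplicit false
open Cfsg

namespace Cfsg.Agent.S0572

open scoped commutatorElement

section
variable {G : Type*} [Group G]

/-- conjugating `⁅a, y⁆` by `a₁` commuting with `a` -/
theorem L1 {a a₁ : G} (h : a₁ * a = a * a₁) (y : G) :
    a₁ * ⁅a, y⁆ * a₁⁻¹ = ⁅a, a₁ * y * a₁⁻¹⁆ := by
  rw [conjugate_commutatorElement]
  have : a₁ * a * a₁⁻¹ = a := by rw [h]; group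
  rw [this]

theorem L1' {b b₁ : G} (h : b₁ * b = b * b₁) (x : G) :
    b₁ * ⁅x, b⁆ * b₁⁻¹ = ⁅b₁ * x * b₁⁻¹, b⁆ := by
  rw [conjugate_commutatorElement]
  have : b₁ * b * b₁⁻¹ = b := by rw [h]; group
  rw [this]

theorem L2 {a a₂ : G} (h : a₂ * a = a * a₂) (y : G) : ⁅a, y * a₂⁆ = ⁅a, y⁆ := by
  rw [commutatorElement_mul_right_eq_mul_conj]
  have : ⁅a, a₂⁆ = 1 := by
    rw [commutatorElement_eq_one_iff_mul_comm]; exact h.symm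
  rw [this]; group

theorem L2' {b b₃ : G} (h : b₃ * b = b * b₃) (x : G) : ⁅x * b₃, b⁆ = ⁅x, b⁆ := by
  rw [commutatorElement_mul_left_eq_conj_mul]
  have : ⁅b₃, b⁆ = 1 := by
    rw [commutatorElement_eq_one_iff_mul_comm]; exact h
  rw [this]; group

end

/-- Itô's Theorem: if a group G is the product AB of two abelian subgroups, then the commutator subgroup of G is abelian, i.e. the second term of the derived series is trivial. -/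
theorem result {G : Type*} [Group G] (A B : Subgroup G) [IsMulCommutative A] [IsMulCommutative B] (hAB : ∀ g : G, ∃ a ∈ A, ∃ b ∈ B, g = a * b) : derivedSeries G 2 = ⊥ := by
  have hA : ∀ x ∈ A, ∀ y ∈ A, x * y = y * x := isMulCommutative_iff_of_setLike.mp inferInstance
  have hB : ∀ x ∈ B, ∀ y ∈ B, x * y = y * x := isMulCommutative_iff_of_setLike.mp inferInstance
  -- also G = BA
  have hBA : ∀ g : G, ∃ b ∈ B, ∃ a ∈ A, g = b * a := by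
    intro g
    obtain ⟨a, ha, b, hb, h⟩ := hAB g⁻¹
    refine ⟨b⁻¹, B.inv_mem hb, a⁻¹, A.inv_mem ha, ?_⟩
    have : g = (a * b)⁻¹ := by rw [← h, inv_inv]
    rw [this]; group
  -- the key conjugation identity
  have key : ∀ a ∈ A, ∀ b ∈ B, ∀ a₁ ∈ A, ∀ b₁ ∈ B,
      (b₁ * a₁) * ⁅a, b⁆ * (b₁ * a₁)⁻¹ = (a₁ * b₁) * ⁅a, b⁆ * (a₁ * b₁)⁻¹ := by
    intro a ha b hb a₁ ha₁ b₁ hb₁
    obtain ⟨b₂, hb₂, a₂, ha₂, e1⟩ := hBA (a₁ * b * a₁⁻¹)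
    obtain ⟨a₃, ha₃, b₃, hb₃, e2⟩ := hAB (b₁ * a * b₁⁻¹)
    have X : (b₁ * a₁) * ⁅a, b⁆ * (b₁ * a₁)⁻¹ = ⁅a₃, b₂⁆ := by
      calc (b₁ * a₁) * ⁅a, b⁆ * (b₁ * a₁)⁻¹ = b₁ * (a₁ * ⁅a, b⁆ * a₁⁻¹) * b₁⁻¹ := by group
        _ = b₁ * ⁅a, b₂ * a₂⁆ * b₁⁻¹ := by rw [L1 (hA a₁ ha₁ a ha), e1]
        _ = b₁ * ⁅a, b₂⁆ * b₁⁻¹ := by rw [L2 (hA a₂ ha₂ a ha)]
        _ = ⁅a₃ * b₃, b₂⁆ := by rw [L1' (hB b₁ hb₁ b₂ hb₂), e2]
        _ = ⁅a₃, b₂⁆ := by rw [L2' (hB b₃ hb₃ b₂ hb₂)]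
    have Y : (a₁ * b₁) * ⁅a, b⁆ * (a₁ * b₁)⁻¹ = ⁅a₃, b₂⁆ := by
      calc (a₁ * b₁) * ⁅a, b⁆ * (a₁ * b₁)⁻¹ = a₁ * (b₁ * ⁅a, b⁆ * b₁⁻¹) * a₁⁻¹ := by group
        _ = a₁ * ⁅a₃ * b₃, b⁆ * a₁⁻¹ := by rw [L1' (hB b₁ hb₁ b hb), e2]
        _ = a₁ * ⁅a₃, b⁆ * a₁⁻¹ := by rw [L2' (hB b₃ hb₃ b hb)]
        _ = ⁅a₃, b₂ * a₂⁆ := by rw [L1 (hA a₁ ha₁ a₃ ha₃), e1]
        _ = ⁅a₃, b₂⁆ := by rw [L2 (hA a₂ ha₂ a₃ ha₃)]
    rw [X, Y]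
  -- commutators ⁅a,b⁆ pairwise commute
  have hcomm : ∀ a ∈ A, ∀ b ∈ B, ∀ a' ∈ A, ∀ b' ∈ B, ⁅a, b⁆ * ⁅a', b'⁆ = ⁅a', b'⁆ * ⁅a, b⁆ := by
    intro a ha b hb a' ha' b' hb'
    have h := key a ha b hb a'⁻¹ (A.inv_mem ha') b'⁻¹ (B.inv_mem hb')
    have e : ⁅a', b'⁆ = ((a'⁻¹ * b'⁻¹)⁻¹ * (b'⁻¹ * a'⁻¹))⁻¹ := by
      rw [commutatorElement_def]; group
    rw [e]
    set c := ⁅a, b⁆ with hc
    have hw : c * ((a'⁻¹ * b'⁻¹)⁻¹ * (b'⁻¹ * a'⁻¹)) = ((a'⁻¹ * b'⁻¹)⁻¹ * (b'⁻¹ * a'⁻¹)) * c := by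
      calc c * ((a'⁻¹ * b'⁻¹)⁻¹ * (b'⁻¹ * a'⁻¹))
          = (a'⁻¹ * b'⁻¹)⁻¹ * ((a'⁻¹ * b'⁻¹) * c * (a'⁻¹ * b'⁻¹)⁻¹) * (b'⁻¹ * a'⁻¹) := by group
        _ = (a'⁻¹ * b'⁻¹)⁻¹ * ((b'⁻¹ * a'⁻¹) * c * (b'⁻¹ * a'⁻¹)⁻¹) * (b'⁻¹ * a'⁻¹) := by rw [h]
        _ = (a'⁻¹ * b'⁻¹)⁻¹ * (b'⁻¹ * a'⁻¹) * c := by group
    set w := (a'⁻¹ * b'⁻¹)⁻¹ * (b'⁻¹ * a'⁻¹) with hwdef
    calc c * w⁻¹ = w⁻¹ * (w * c) * w⁻¹ := by group
      _ = w⁻¹ * (c * w) * w⁻¹ := by rw [hw]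
      _ = w⁻¹ * c := by group
  -- N = ⁅A, B⁆ is commutative
  have hNc : IsMulCommutative (⁅A, B⁆ : Subgroup G) := by
    rw [Subgroup.commutator_def]
    apply Subgroup.isMulCommutative_closure
    rintro _ ⟨a, ha, b, hb, rfl⟩ _ ⟨a', ha', b', hb', rfl⟩
    exact hcomm a ha b hb a' ha' b' hb'
  -- N is normal
  have hNn : (⁅A, B⁆ : Subgroup G).Normal := by
    have : Subgroup.normalizer ((⁅A, B⁆ : Subgroup G) : Set G) = ⊤ := by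
      rw [eq_top_iff]
      intro g _
      obtain ⟨a, ha, b, hb, rfl⟩ := hAB g
      exact Subgroup.mul_mem _ (Subgroup.normalizer_commutator_ge_left A B ha)
        (Subgroup.normalizer_commutator_ge_right A B hb)
    exact Subgroup.normalizer_eq_top_iff.mp this
  -- G' ≤ N
  have hG' : derivedSeries G 1 ≤ ⁅A, B⁆ := by
    rw [derivedSeries_succ, derivedSeries_zero, Subgroup.commutator_le]
    intro g₁ _ g₂ _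
    obtain ⟨a₁, ha₁, b₁, hb₁, rfl⟩ := hAB g₁
    obtain ⟨a₂, ha₂, b₂, hb₂, rfl⟩ := hAB g₂
    rw [commutatorElement_mul_left_eq_conj_mul]
    apply Subgroup.mul_mem
    · apply hNn.conj_mem
      rw [commutatorElement_mul_right_eq_mul_conj]
      have : ⁅b₁, b₂⁆ = 1 := by
        rw [commutatorElement_eq_one_iff_mul_comm]; exact hB b₁ hb₁ b₂ hb₂
      rw [this]
      have e : ⁅b₁, a₂⁆ * a₂ * 1 * a₂⁻¹ = ⁅a₂, b₁⁆⁻¹ := by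
        rw [commutatorElement_inv]; group
      rw [e]
      exact Subgroup.inv_mem _ (Subgroup.commutator_mem_commutator ha₂ hb₁)
    · rw [commutatorElement_mul_right_eq_mul_conj]
      have : ⁅a₁, a₂⁆ = 1 := by
        rw [commutatorElement_eq_one_iff_mul_comm]; exact hA a₁ ha₁ a₂ ha₂
      rw [this, one_mul]
      exact hNn.conj_mem _ (Subgroup.commutator_mem_commutator ha₁ hb₂) a₂
  have : derivedSeries G 2 ≤ ⁅(⁅A, B⁆ : Subgroup G), ⁅A, B⁆⁆ := by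
    rw [derivedSeries_succ]
    exact Subgroup.commutator_mono hG' hG'
  rw [Subgroup.commutator_self_eq_bot_iff.mpr hNc] at this
  exact le_bot_iff.mp this

end Cfsg.Agent.S0572
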