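import Cfsg.Statements.S0573
import Mathlib
import Cfsg.Agent.S0572
import Cfsg.Agent.Lib.Helper10.MinNormal

set_option autoImplicit false
open Cfsg

namespace Cfsg.Agent.S0573

open scoped commutatorElement

/-- two maps with the same kernel have ranges of equal cardinality -/
theorem card_range_eq_of_ker_eq {α β γ : Type*} (f : α → β) (f' : α → γ)
    (h : ∀ x y, f x = f y ↔ f' x = f' y) : Nat.card (Set.range f) = Nat.card (Set.range f') := by
  classical
  let φ : Set.range f → Set.range f' := fun y => ⟨f' y.2.choose, Set.mem_range_self _⟩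
  apply Nat.card_eq_of_bijective φ
  constructor
  · intro y₁ y₂ h12
    have h1 : f' y₁.2.choose = f' y₂.2.choose := congrArg Subtype.val h12
    have h2 := (h _ _).mpr h1
    rw [y₁.2.choose_spec, y₂.2.choose_spec] at h2
    exact Subtype.ext h2
  · rintro ⟨_, x, rfl⟩
    refine ⟨⟨f x, Set.mem_range_self x⟩, ?_⟩
    apply Subtype.ext
    show f' _ = f' x
    apply (h _ _).mp
    exact Exists.choose_spec (⟨f x, Set.mem_range_self x⟩ : Set.range f).2

/-- the orbit of `x` under conjugation by the subgroup `X` -/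
def orb {G : Type*} [Group G] (X : Subgroup G) (x : G) : Set G :=
  Set.range (fun g : X => (g : G) * x * (g : G)⁻¹)

theorem card_orb_inv {G : Type*} [Group G] (X : Subgroup G) (x : G) :
    Nat.card (orb X x⁻¹) = Nat.card (orb X x) := by
  apply card_range_eq_of_ker_eq
  intro g g'
  have h1 : ∀ k : G, k * x⁻¹ * k⁻¹ = (k * x * k⁻¹)⁻¹ := by intro k; group
  show (g : G) * x⁻¹ * (g : G)⁻¹ = (g' : G) * x⁻¹ * (g' : G)⁻¹ ↔ _
  rw [h1, h1, inv_inj]

/-- the counting lemma -/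
theorem cnt {G : Type*} [Group G] [Finite G] (A B N : Subgroup G) [hN : N.Normal]
    (hA : ∀ x ∈ A, ∀ y ∈ A, x * y = y * x) (hB : ∀ x ∈ B, ∀ y ∈ B, x * y = y * x)
    (hAB : ∀ a ∈ A, ∀ b ∈ B, ∃ b' ∈ B, ∃ a' ∈ A, a * b = b' * a')
    (hF : ∀ a ∈ A, ∀ x ∈ N, x ≠ 1 → a * x = x * a → ∀ y ∈ N, a * y = y * a)
    (l c n : G) (hl : l ∈ A) (hc : c ∈ B) (hn : n ∈ N) (hn1 : n ≠ 1) (hlcn : l = c * n)
    (b₀ : G) (hb₀ : b₀ ∈ B) (hb₀n : b₀ * n ≠ n * b₀) :
    Nat.card (orb A n) + 1 ≤ Nat.card (orb B n) := by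
  -- the basic identity
  have h1 : ∀ b ∈ B, n⁻¹ * (b * n * b⁻¹) = l⁻¹ * (b * l * b⁻¹) := by
    intro b hb
    have hcb := hB c hc b hb
    rw [hlcn]
    calc n⁻¹ * (b * n * b⁻¹) = n⁻¹ * (c⁻¹ * (c * b)) * n * b⁻¹ := by group
      _ = n⁻¹ * (c⁻¹ * (b * c)) * n * b⁻¹ := by rw [hcb]
      _ = (c * n)⁻¹ * (b * (c * n) * b⁻¹) := by group
  have hrel : ∀ a ∈ A, ∀ b ∈ B, ∀ b' ∈ B, ∀ a' ∈ A, a * b = b' * a' →
      a * (n⁻¹ * (b * n * b⁻¹)) * a⁻¹ = n⁻¹ * (b' * n * b'⁻¹) := by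
    intro a ha b hb b' hb' a' ha' hab
    rw [h1 b hb, h1 b' hb']
    have e1 : a * l⁻¹ = l⁻¹ * a := hA a ha l⁻¹ (A.inv_mem hl)
    have e2 : a' * l = l * a' := hA a' ha' l hl
    calc a * (l⁻¹ * (b * l * b⁻¹)) * a⁻¹ = (a * l⁻¹) * b * l * b⁻¹ * a⁻¹ := by group
      _ = (l⁻¹ * a) * b * l * b⁻¹ * a⁻¹ := by rw [e1]
      _ = l⁻¹ * (a * b) * l * (a * b)⁻¹ := by group
      _ = l⁻¹ * (b' * a') * l * (b' * a')⁻¹ := by rw [hab]
      _ = l⁻¹ * b' * (a' * l) * a'⁻¹ * b'⁻¹ := by group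
      _ = l⁻¹ * b' * (l * a') * a'⁻¹ * b'⁻¹ := by rw [e2]
      _ = l⁻¹ * (b' * l * b'⁻¹) := by group
  -- D
  set D : Set G := (fun y => n⁻¹ * y) '' orb B n with hD
  have hDcard : D.ncard = (orb B n).ncard :=
    Set.ncard_image_of_injective _ (mul_right_injective n⁻¹)
  have h1D : (1 : G) ∈ D := by
    refine ⟨n, ⟨⟨1, B.one_mem⟩, by simp⟩, by simp⟩
  set d₀ := n⁻¹ * (b₀ * n * b₀⁻¹) with hd₀
  have hd₀N : d₀ ∈ N := N.mul_mem (N.inv_mem hn) (hN.conj_mem n hn b₀)
  have hd₀1 : d₀ ≠ 1 := by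
    intro h
    apply hb₀n
    have h2 : b₀ * n * b₀⁻¹ = n := by
      have := congrArg (fun z => n * z) h
      simpa [hd₀] using this
    calc b₀ * n = b₀ * n * b₀⁻¹ * b₀ := by group
      _ = n * b₀ := by rw [h2]
  have hsub : orb A d₀ ⊆ D \ {1} := by
    rintro _ ⟨⟨a, ha⟩, rfl⟩
    refine ⟨?_, ?_⟩
    · obtain ⟨b', hb', a', ha', hab⟩ := hAB a ha b₀ hb₀
      refine ⟨b' * n * b'⁻¹, ⟨⟨b', hb'⟩, rfl⟩, ?_⟩
      exact (hrel a ha b₀ hb₀ b' hb' a' ha' hab).symm
    · intro h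
      apply hd₀1
      have h2 : a * d₀ * a⁻¹ = 1 := h
      calc d₀ = a⁻¹ * (a * d₀ * a⁻¹) * a := by group
        _ = 1 := by rw [h2]; group
  -- all orbits of nonidentity elements of `N` under `A` have the same size
  have key : ∀ x ∈ N, x ≠ 1 → ∀ g g' : A,
      ((g : G) * x * (g : G)⁻¹ = (g' : G) * x * (g' : G)⁻¹ ↔
        ∀ y ∈ N, ((g' : G)⁻¹ * g) * y = y * ((g' : G)⁻¹ * g)) := by
    intro x hx hx1 g g'
    constructor
    · intro h
      apply hF _ (A.mul_mem (A.inv_mem g'.2) g.2) x hx hx1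
      calc (g' : G)⁻¹ * g * x = (g' : G)⁻¹ * ((g : G) * x * (g : G)⁻¹) * g := by group
        _ = (g' : G)⁻¹ * ((g' : G) * x * (g' : G)⁻¹) * g := by rw [h]
        _ = x * ((g' : G)⁻¹ * g) := by group
    · intro h
      have h2 := h x hx
      calc (g : G) * x * (g : G)⁻¹ = (g' : G) * ((g' : G)⁻¹ * g * x) * (g : G)⁻¹ := by group
        _ = (g' : G) * (x * ((g' : G)⁻¹ * g)) * (g : G)⁻¹ := by rw [h2]
        _ = (g' : G) * x * (g' : G)⁻¹ := by group
  have hker : Nat.card (orb A d₀) = Nat.card (orb A n) := by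
    apply card_range_eq_of_ker_eq
    intro g g'
    exact (key d₀ hd₀N hd₀1 g g').trans (key n hn hn1 g g').symm
  have h3 : (orb A d₀).ncard ≤ (D \ {1}).ncard := Set.ncard_le_ncard hsub (Set.toFinite _)
  have h4 : (D \ {1}).ncard + 1 = D.ncard := Set.ncard_sdiff_singleton_add_one h1D (Set.toFinite _)
  rw [← hker, Nat.card_coe_set_eq, Nat.card_coe_set_eq, ← hDcard]
  omega

/-- If a nontrivial finite group G is the product AB of abelian subgroups A and B, then some nontrivial normal subgroup of G is contained in A or in B. -/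
theorem result {G : Type*} [Group G] [Finite G] [Nontrivial G] (A B : Subgroup G) [IsMulCommutative A] [IsMulCommutative B] (hAB : ∀ g : G, ∃ a ∈ A, ∃ b ∈ B, g = a * b) : ∃ N : Subgroup G, N.Normal ∧ N ≠ ⊥ ∧ (N ≤ A ∨ N ≤ B) := by
  have hA : ∀ x ∈ A, ∀ y ∈ A, x * y = y * x := isMulCommutative_iff_of_setLike.mp inferInstance
  have hB : ∀ x ∈ B, ∀ y ∈ B, x * y = y * x := isMulCommutative_iff_of_setLike.mp inferInstance
  have hBA : ∀ g : G, ∃ b ∈ B, ∃ a ∈ A, g = b * a := by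
    intro g
    obtain ⟨a, ha, b, hb, h⟩ := hAB g⁻¹
    refine ⟨b⁻¹, B.inv_mem hb, a⁻¹, A.inv_mem ha, ?_⟩
    have : g = (a * b)⁻¹ := by rw [← h, inv_inv]
    rw [this]; group
  -- an element commuting with `A` and `B` is central
  have hcentral : ∀ x : G, (∀ a ∈ A, a * x = x * a) → (∀ b ∈ B, b * x = x * b) →
      x ∈ Subgroup.center G := by
    intro x h1 h2
    rw [Subgroup.mem_center_iff]
    intro g
    obtain ⟨a, ha, b, hb, rfl⟩ := hAB g
    calc a * b * x = a * (b * x) := by group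
      _ = a * (x * b) := by rw [h2 b hb]
      _ = (a * x) * b := by group
      _ = (x * a) * b := by rw [h1 a ha]
      _ = x * (a * b) := by group
  -- subgroups generated by a central element are normal
  have hzn : ∀ x ∈ Subgroup.center G, (Subgroup.zpowers x).Normal := by
    intro x hx
    refine ⟨fun y hy g => ?_⟩
    have hy' : y ∈ Subgroup.center G := (Subgroup.zpowers_le.mpr hx) hy
    have : g * y * g⁻¹ = y := by
      rw [Subgroup.mem_center_iff.mp hy' g]; group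
    rw [this]; exact hy
  by_cases hZ : Subgroup.center G = ⊥
  swap
  · -- the centre is nontrivial
    obtain ⟨z, hz, hz1⟩ : ∃ z ∈ Subgroup.center G, z ≠ 1 := by
      by_contra hcon
      push Not at hcon
      exact hZ ((Subgroup.eq_bot_iff_forall _).mpr hcon)
    obtain ⟨a, ha, b, hb, hzab⟩ := hAB z
    have hzc := Subgroup.mem_center_iff.mp hz
    have hac : a ∈ Subgroup.center G := by
      apply hcentral a (fun a' ha' => hA a' ha' a ha)
      intro b' hb'
      have e1 : a = z * b⁻¹ := by rw [hzab]; group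
      rw [e1]
      calc b' * (z * b⁻¹) = (b' * z) * b⁻¹ := by group
        _ = (z * b') * b⁻¹ := by rw [hzc b']
        _ = z * (b' * b⁻¹) := by group
        _ = z * (b⁻¹ * b') := by rw [hB b' hb' b⁻¹ (B.inv_mem hb)]
        _ = z * b⁻¹ * b' := by group
    have hbc : b ∈ Subgroup.center G := by
      have e1 : b = a⁻¹ * z := by rw [hzab]; group
      rw [e1]
      exact Subgroup.mul_mem _ (Subgroup.inv_mem _ hac) hz
    by_cases ha1 : a = 1
    · have hb1 : b ≠ 1 := by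
        intro hb1
        apply hz1
        rw [hzab, ha1, hb1, one_mul]
      refine ⟨Subgroup.zpowers b, hzn b hbc, ?_, Or.inr (Subgroup.zpowers_le.mpr hb)⟩
      intro h
      exact hb1 (Subgroup.zpowers_eq_bot.mp h)
    · refine ⟨Subgroup.zpowers a, hzn a hac, ?_, Or.inl (Subgroup.zpowers_le.mpr ha)⟩
      intro h
      exact ha1 (Subgroup.zpowers_eq_bot.mp h)
  -- the centre is trivial
  have hCA : ∀ x : G, (∀ a ∈ A, a * x = x * a) → x ∈ A := by
    intro x hx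
    obtain ⟨a, ha, b, hb, hxab⟩ := hAB x
    have hbc : b ∈ Subgroup.center G := by
      apply hcentral b _ (fun b' hb' => hB b' hb' b hb)
      intro a' ha'
      have e1 : b = a⁻¹ * x := by rw [hxab]; group
      rw [e1]
      calc a' * (a⁻¹ * x) = (a' * a⁻¹) * x := by group
        _ = (a⁻¹ * a') * x := by rw [hA a' ha' a⁻¹ (A.inv_mem ha)]
        _ = a⁻¹ * (a' * x) := by group
        _ = a⁻¹ * (x * a') := by rw [hx a' ha']
        _ = a⁻¹ * x * a' := by group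
    rw [hZ, Subgroup.mem_bot] at hbc
    rw [hxab, hbc, mul_one]; exact ha
  have hCB : ∀ x : G, (∀ b ∈ B, b * x = x * b) → x ∈ B := by
    intro x hx
    obtain ⟨b, hb, a, ha, hxba⟩ := hBA x
    have hac : a ∈ Subgroup.center G := by
      apply hcentral a (fun a' ha' => hA a' ha' a ha)
      intro b' hb'
      have e1 : a = b⁻¹ * x := by rw [hxba]; group
      rw [e1]
      calc b' * (b⁻¹ * x) = (b' * b⁻¹) * x := by group
        _ = (b⁻¹ * b') * x := by rw [hB b' hb' b⁻¹ (B.inv_mem hb)]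
        _ = b⁻¹ * (b' * x) := by group
        _ = b⁻¹ * (x * b') := by rw [hx b' hb']
        _ = b⁻¹ * x * b' := by group
    rw [hZ, Subgroup.mem_bot] at hac
    rw [hxba, hac, mul_one]; exact hb
  -- the derived subgroup is abelian and nontrivial
  have hd2 : derivedSeries G 2 = ⊥ := Cfsg.Agent.S0572.result A B hAB
  have hMab : ∀ x ∈ commutator G, ∀ y ∈ commutator G, x * y = y * x := by
    have h1 : derivedSeries G 2 = ⁅derivedSeries G 1, derivedSeries G 1⁆ := derivedSeries_succ G 1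
    rw [h1, derivedSeries_one, Subgroup.commutator_eq_bot_iff_le_centralizer] at hd2
    intro x hx y hy
    exact ((Subgroup.mem_centralizer_iff.mp (hd2 hx)) y hy).symm
  have hMne : commutator G ≠ ⊥ := by
    intro h
    rw [commutator_eq_bot_iff_center_eq_top, hZ] at h
    exact bot_ne_top h
  obtain ⟨N, hNn, hNne, hNM, hNmin⟩ := Cfsg.Agent.Lib.Helper10.exists_minimal_normal_le
    (commutator G) hMne
  haveI := hNn
  -- property (F)
  have hF : ∀ g : G, ∀ x ∈ N, x ≠ 1 → g * x = x * g → ∀ y ∈ N, g * y = y * g := by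
    intro g x hx hx1 hgx
    have hCn : (N ⊓ Subgroup.centralizer {g}).Normal := by
      refine ⟨fun y hy h => ?_⟩
      obtain ⟨hyN, hyg⟩ := Subgroup.mem_inf.mp hy
      rw [Subgroup.mem_centralizer_singleton_iff] at hyg
      refine Subgroup.mem_inf.mpr ⟨hNn.conj_mem y hyN h, ?_⟩
      rw [Subgroup.mem_centralizer_singleton_iff]
      have hk : g * h * g⁻¹ * h⁻¹ ∈ commutator G := by
        rw [commutator_def, ← commutatorElement_def]
        exact Subgroup.commutator_mem_commutator (Subgroup.mem_top g) (Subgroup.mem_top h)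
      have hw : h * y * h⁻¹ ∈ commutator G := hNM (hNn.conj_mem y hyN h)
      have hkw := hMab _ hk _ hw
      symm
      calc g * (h * y * h⁻¹) = (g * h * g⁻¹ * h⁻¹) * h * (g * y) * h⁻¹ := by group
        _ = (g * h * g⁻¹ * h⁻¹) * h * (y * g) * h⁻¹ := by rw [hyg]
        _ = ((g * h * g⁻¹ * h⁻¹) * (h * y * h⁻¹)) * (h * g * h⁻¹) := by group
        _ = ((h * y * h⁻¹) * (g * h * g⁻¹ * h⁻¹)) * (h * g * h⁻¹) := by rw [hkw]
        _ = h * y * h⁻¹ * g := by group
    rcases hNmin _ hCn inf_le_left with h | h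
    · exfalso
      apply hx1
      have : x ∈ N ⊓ Subgroup.centralizer {g} :=
        Subgroup.mem_inf.mpr ⟨hx, Subgroup.mem_centralizer_singleton_iff.mpr hgx.symm⟩
      rw [h, Subgroup.mem_bot] at this
      exact this
    · intro y hy
      have : y ∈ N ⊓ Subgroup.centralizer {g} := by rw [h]; exact hy
      exact (Subgroup.mem_centralizer_singleton_iff.mp (Subgroup.mem_inf.mp this).2).symm
  by_cases hAc : ∀ a ∈ A, ∀ y ∈ N, a * y = y * a
  · exact ⟨N, hNn, hNne, Or.inl fun y hy => hCA y fun a ha => hAc a ha y hy⟩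
  by_cases hBc : ∀ b ∈ B, ∀ y ∈ N, b * y = y * b
  · exact ⟨N, hNn, hNne, Or.inr fun y hy => hCB y fun b hb => hBc b hb y hy⟩
  exfalso
  push Not at hAc hBc
  obtain ⟨a₀, ha₀, y₁, hy₁, hne₁⟩ := hAc
  obtain ⟨b₀, hb₀, y₂, hy₂, hne₂⟩ := hBc
  obtain ⟨n, hn, hn1⟩ : ∃ n ∈ N, n ≠ 1 := by
    by_contra hcon
    push Not at hcon
    exact hNne ((Subgroup.eq_bot_iff_forall _).mpr hcon)
  have hni : n⁻¹ ∈ N := N.inv_mem hn
  have hni1 : n⁻¹ ≠ 1 := inv_ne_one.mpr hn1
  have hb₀n : b₀ * n ≠ n * b₀ := fun h => hne₂ (hF b₀ n hn hn1 h y₂ hy₂)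
  have ha₀n : a₀ * n⁻¹ ≠ n⁻¹ * a₀ := fun h => hne₁ (hF a₀ n⁻¹ hni hni1 h y₁ hy₁)
  obtain ⟨b, hb, a, ha, hnba⟩ := hBA n
  have hl : a = b⁻¹ * n := by rw [hnba]; group
  have hc : b⁻¹ = a * n⁻¹ := by rw [hnba]; group
  have c1 := cnt A B N hA hB (fun a ha b hb => hBA (a * b)) (fun a _ => hF a) a b⁻¹ n ha
    (B.inv_mem hb) hn hn1 hl b₀ hb₀ hb₀n
  have c2 := cnt B A N hB hA (fun b hb a ha => hAB (b * a)) (fun b _ => hF b) b⁻¹ a n⁻¹
    (B.inv_mem hb) ha hni hni1 hc a₀ ha₀ ha₀n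
  rw [card_orb_inv, card_orb_inv] at c2
  omega

end Cfsg.Agent.S0573
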