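import Cfsg.Statements.S0574
import Mathlib
import Cfsg.Agent.S0572
import Cfsg.Agent.Lib.Helper96.KW.Kegel

set_option autoImplicit false
open Cfsg

namespace Cfsg.Agent.S0574

open scoped commutatorElement

universe u

section
variable {G : Type*} [Group G]

/-- Elementwise factorization data: `A` abelian, `B` of class at most two, `G = AB`. -/
structure Fac (A B : Subgroup G) : Prop where
  hA : ∀ x ∈ A, ∀ y ∈ A, x * y = y * x
  hB : ∀ x ∈ B, ∀ y ∈ B, ∀ w ∈ B, ⁅x, y⁆ * w = w * ⁅x, y⁆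
  hAB : ∀ g : G, ∃ a ∈ A, ∃ b ∈ B, g = a * b

theorem Fac.hBA {A B : Subgroup G} (F : Fac A B) : ∀ g : G, ∃ b ∈ B, ∃ a ∈ A, g = b * a := by
  intro g
  obtain ⟨a, ha, b, hb, h⟩ := F.hAB g⁻¹
  refine ⟨b⁻¹, B.inv_mem hb, a⁻¹, A.inv_mem ha, ?_⟩
  have : g = (a * b)⁻¹ := by rw [← h, inv_inv]
  rw [this]; group

/-- The Itô-type identity: for `z, ζ` central in `B` and `a, a₁ ∈ A`, the commutator of
`⁅ζ⁻¹, a₁⁻¹⁆` and `⁅a, z⁆` is conjugate to a commutator of two elements of `B`. -/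
theorem key {A B : Subgroup G} (F : Fac A B) {a a₁ z ζ : G} (ha : a ∈ A) (ha₁ : a₁ ∈ A)
    (_hz : z ∈ B) (hζ : ζ ∈ B) (hzc : ∀ w ∈ B, z * w = w * z) (hζc : ∀ w ∈ B, ζ * w = w * ζ) :
    ∃ b₃ ∈ B, ∃ b₂ ∈ B, ∃ k : G, ⁅⁅ζ⁻¹, a₁⁻¹⁆, ⁅a, z⁆⁆ = k * ⁅b₃, b₂⁆ * k⁻¹ := by
  obtain ⟨b₂, hb₂, a₂, ha₂, e1⟩ := F.hBA (a₁ * z * a₁⁻¹)
  obtain ⟨a₃, ha₃, b₃, hb₃, e2⟩ := F.hAB (ζ * a * ζ⁻¹)
  have hA := F.hA
  have Y : (a₁ * ζ) * ⁅a, z⁆ * (a₁ * ζ)⁻¹ = ⁅a₃, b₂⁆ := by
    calc (a₁ * ζ) * ⁅a, z⁆ * (a₁ * ζ)⁻¹ = a₁ * (ζ * ⁅a, z⁆ * ζ⁻¹) * a₁⁻¹ := by group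
      _ = a₁ * ⁅a₃ * b₃, z⁆ * a₁⁻¹ := by rw [S0572.L1' (hzc ζ hζ).symm, e2]
      _ = a₁ * ⁅a₃, z⁆ * a₁⁻¹ := by rw [S0572.L2' (hzc b₃ hb₃).symm]
      _ = ⁅a₃, b₂ * a₂⁆ := by rw [S0572.L1 (hA a₁ ha₁ a₃ ha₃), e1]
      _ = ⁅a₃, b₂⁆ := by rw [S0572.L2 (hA a₂ ha₂ a₃ ha₃)]
  have X : (ζ * a₁) * ⁅a, z⁆ * (ζ * a₁)⁻¹ = a₃ * ⁅b₃, b₂⁆ * a₃⁻¹ * ⁅a₃, b₂⁆ := by
    calc (ζ * a₁) * ⁅a, z⁆ * (ζ * a₁)⁻¹ = ζ * (a₁ * ⁅a, z⁆ * a₁⁻¹) * ζ⁻¹ := by group
      _ = ζ * ⁅a, b₂ * a₂⁆ * ζ⁻¹ := by rw [S0572.L1 (hA a₁ ha₁ a ha), e1]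
      _ = ζ * ⁅a, b₂⁆ * ζ⁻¹ := by rw [S0572.L2 (hA a₂ ha₂ a ha)]
      _ = ⁅a₃ * b₃, b₂⁆ := by rw [S0572.L1' (hζc b₂ hb₂), e2]
      _ = a₃ * ⁅b₃, b₂⁆ * a₃⁻¹ * ⁅a₃, b₂⁆ := commutatorElement_mul_left_eq_conj_mul a₃ b₃ b₂
  refine ⟨b₃, hb₃, b₂, hb₂, (a₁ * ζ)⁻¹ * a₃, ?_⟩
  have e : ⁅⁅ζ⁻¹, a₁⁻¹⁆, ⁅a, z⁆⁆
      = (a₁ * ζ)⁻¹ * ((ζ * a₁) * ⁅a, z⁆ * (ζ * a₁)⁻¹) * ((a₁ * ζ) * ⁅a, z⁆ * (a₁ * ζ)⁻¹)⁻¹ * (a₁ * ζ) := by
    generalize ⁅a, z⁆ = c
    simp only [commutatorElement_def]; group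
  rw [e, X, Y]
  generalize ⁅a₃, b₂⁆ = c
  generalize ⁅b₃, b₂⁆ = d
  group


/-- `P` is a subgroup of `B`, central in `B`. -/
structure Cen (B P : Subgroup G) : Prop where
  le : P ≤ B
  comm : ∀ z ∈ P, ∀ w ∈ B, z * w = w * z

theorem cen_of_le_comm {A B : Subgroup G} (F : Fac A B) {P : Subgroup G}
    (hP : P ≤ (⁅B, B⁆ : Subgroup G)) : Cen B P := by
  refine ⟨hP.trans (Subgroup.commutator_le_self B), ?_⟩
  have h : (⁅B, B⁆ : Subgroup G) ≤ Subgroup.centralizer (B : Set G) := by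
    rw [Subgroup.commutator_le]
    intro x hx y hy
    rw [Subgroup.mem_centralizer_iff]
    intro w hw
    exact (F.hB x hx y hy w hw).symm
  intro z hz w hw
  have := Subgroup.mem_centralizer_iff.mp (h (hP hz)) w hw
  exact this.symm

theorem comm_mem {A B : Subgroup G} (F : Fac A B) {P : Subgroup G} (hP : Cen B P) (g : G)
    {z : G} (hz : z ∈ P) : ⁅g, z⁆ ∈ (⁅A, P⁆ : Subgroup G) := by
  obtain ⟨a, ha, b, hb, rfl⟩ := F.hAB g
  rw [S0572.L2' (hP.comm z hz b hb).symm]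
  exact Subgroup.commutator_mem_commutator ha hz

theorem M_normal {A B : Subgroup G} (F : Fac A B) {P : Subgroup G} (hP : Cen B P) :
    (⁅A, P⁆ : Subgroup G).Normal := by
  have hb : ∀ b ∈ B, ∀ n ∈ (⁅A, P⁆ : Subgroup G), b * n * b⁻¹ ∈ (⁅A, P⁆ : Subgroup G) := by
    intro b hb n hn
    have : (⁅A, P⁆ : Subgroup G) ≤ (⁅A, P⁆ : Subgroup G).comap (MulAut.conj b).toMonoidHom := by
      rw [Subgroup.commutator_le]
      intro a ha z hz
      show b * ⁅a, z⁆ * b⁻¹ ∈ (⁅A, P⁆ : Subgroup G)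
      rw [S0572.L1' (hP.comm z hz b hb).symm]
      exact comm_mem F hP _ hz
    exact this hn
  have ha : ∀ a ∈ A, ∀ n ∈ (⁅A, P⁆ : Subgroup G), a * n * a⁻¹ ∈ (⁅A, P⁆ : Subgroup G) := by
    intro a ha n hn
    exact (Subgroup.mem_normalizer_iff.mp (Subgroup.normalizer_commutator_ge_left A P ha) n).mp hn
  constructor
  intro n hn g
  obtain ⟨a, ha', b, hb', rfl⟩ := F.hAB g
  have := ha a ha' _ (hb b hb' n hn)
  convert this using 1; group

theorem comm_N_le {A B : Subgroup G} (F : Fac A B) {P : Subgroup G} (hP : Cen B P) :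
    (⁅Subgroup.normalClosure (P : Set G), Subgroup.normalClosure (P : Set G)⁆ : Subgroup G)
      ≤ ⁅A, P⁆ := by
  have := M_normal F hP
  set M : Subgroup G := ⁅A, P⁆ with hM
  set π := QuotientGroup.mk' M with hπ
  set Q : Subgroup G := (P.map π).comap π with hQ
  have hQn : Q.Normal := by
    constructor
    intro n hn g
    rw [hQ, Subgroup.mem_comap] at hn ⊢
    obtain ⟨z, hz, hzn⟩ := hn
    refine ⟨z, hz, ?_⟩
    rw [map_mul, map_mul, ← hzn, ← map_mul, ← map_mul]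
    symm
    rw [hπ, QuotientGroup.mk'_apply, QuotientGroup.mk'_apply, QuotientGroup.eq]
    have h1 : (g * z * g⁻¹)⁻¹ * z = ⁅g, z⁻¹⁆ := by rw [commutatorElement_def]; group
    rw [h1]
    exact comm_mem F hP g (P.inv_mem hz)
  have hNQ : Subgroup.normalClosure (P : Set G) ≤ Q := by
    apply Subgroup.normalClosure_le_normal
    intro z hz
    rw [hQ]
    exact Subgroup.mem_comap.mpr (Subgroup.mem_map_of_mem π hz)
  refine (Subgroup.commutator_mono hNQ hNQ).trans ?_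
  rw [Subgroup.commutator_le]
  intro x hx y hy
  rw [hQ, Subgroup.mem_comap] at hx hy
  obtain ⟨z, hz, hzx⟩ := hx
  obtain ⟨z', hz', hzy⟩ := hy
  have : π ⁅x, y⁆ = 1 := by
    rw [map_commutatorElement, ← hzx, ← hzy, ← map_commutatorElement]
    have : ⁅z, z'⁆ = 1 := by
      rw [commutatorElement_eq_one_iff_mul_comm]
      exact hP.comm z hz z' (hP.le hz')
    rw [this, map_one]
  rw [hπ, QuotientGroup.mk'_apply, QuotientGroup.eq_one_iff] at this
  exact this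


/-- If `⁅A, P⁆` is not abelian, its derived subgroup contains a nontrivial element of `⁅B, B⁆`. -/
theorem descent {A B : Subgroup G} (F : Fac A B) {P : Subgroup G} (hP : Cen B P)
    (hne : (⁅(⁅A, P⁆ : Subgroup G), ⁅A, P⁆⁆ : Subgroup G) ≠ ⊥) :
    ∃ c ∈ (⁅B, B⁆ : Subgroup G), c ≠ 1 ∧ c ∈ (⁅(⁅A, P⁆ : Subgroup G), ⁅A, P⁆⁆ : Subgroup G) := by
  have hMn := M_normal F hP
  by_contra hcon
  push Not at hcon
  apply hne
  have hcomm : IsMulCommutative (⁅A, P⁆ : Subgroup G) := by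
    rw [Subgroup.commutator_def]
    apply Subgroup.isMulCommutative_closure
    rintro _ ⟨a, ha, z, hz, rfl⟩ _ ⟨a', ha', z', hz', rfl⟩
    obtain ⟨b₃, hb₃, b₂, hb₂, k, hk⟩ := key F ha (A.inv_mem ha') (hP.le hz)
      (B.inv_mem (hP.le hz')) (hP.comm z hz) (hP.comm z'⁻¹ (P.inv_mem hz'))
    rw [inv_inv, inv_inv] at hk
    have hm1 : ⁅z', a'⁆ ∈ (⁅A, P⁆ : Subgroup G) := by
      rw [← commutatorElement_inv]
      exact Subgroup.inv_mem _ (Subgroup.commutator_mem_commutator ha' hz')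
    have hm2 : ⁅a, z⁆ ∈ (⁅A, P⁆ : Subgroup G) := Subgroup.commutator_mem_commutator ha hz
    have hmem : ⁅⁅z', a'⁆, ⁅a, z⁆⁆ ∈ (⁅(⁅A, P⁆ : Subgroup G), ⁅A, P⁆⁆ : Subgroup G) :=
      Subgroup.commutator_mem_commutator hm1 hm2
    have hc : ⁅b₃, b₂⁆ = k⁻¹ * ⁅⁅z', a'⁆, ⁅a, z⁆⁆ * k⁻¹⁻¹ := by rw [hk]; group
    have hcm : ⁅b₃, b₂⁆ ∈ (⁅(⁅A, P⁆ : Subgroup G), ⁅A, P⁆⁆ : Subgroup G) := by
      rw [hc]
      exact (inferInstance : (⁅(⁅A, P⁆ : Subgroup G), ⁅A, P⁆⁆ : Subgroup G).Normal).conj_mem _ hmem _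
    have h1 : ⁅b₃, b₂⁆ = 1 := by
      by_contra h
      exact hcon _ (Subgroup.commutator_mem_commutator hb₃ hb₂) h hcm
    rw [h1, mul_one, mul_inv_cancel, commutatorElement_eq_one_iff_mul_comm] at hk
    -- ⁅z', a'⁆ commutes with ⁅a, z⁆; so does its inverse ⁅a', z'⁆
    have e : ⁅a', z'⁆ = ⁅z', a'⁆⁻¹ := (commutatorElement_inv z' a').symm
    rw [e]
    set c := ⁅a, z⁆
    set d := ⁅z', a'⁆
    calc c * d⁻¹ = d⁻¹ * (d * c) * d⁻¹ := by group
      _ = d⁻¹ * (c * d) * d⁻¹ := by rw [hk]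
      _ = d⁻¹ * c := by group
  exact Subgroup.commutator_self_eq_bot_iff.mpr hcomm

/-- Using solvability: some nontrivial `P ≤ ⁅B, B⁆` has `⁅A, P⁆` abelian. -/
theorem exists_good [Finite G] [Group.IsSolvable G] {A B : Subgroup G} (F : Fac A B)
    (hne : (⁅B, B⁆ : Subgroup G) ≠ ⊥) :
    ∃ P : Subgroup G, P ≠ ⊥ ∧ P ≤ (⁅B, B⁆ : Subgroup G) ∧
      (⁅(⁅A, P⁆ : Subgroup G), ⁅A, P⁆⁆ : Subgroup G) = ⊥ := by
  obtain ⟨P, hPS, hmin⟩ := Set.exists_min_image {P : Subgroup G | P ≠ ⊥ ∧ P ≤ (⁅B, B⁆ : Subgroup G)}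
    (fun P => Nat.card (Subgroup.normalClosure (P : Set G))) (Set.toFinite _) ⟨⁅B, B⁆, hne, le_rfl⟩
  refine ⟨P, hPS.1, hPS.2, ?_⟩
  by_contra hM
  have hP : Cen B P := cen_of_le_comm F hPS.2
  have hMn := M_normal F hP
  obtain ⟨c, hcB, hc1, hcM⟩ := descent F hP hM
  set N := Subgroup.normalClosure (P : Set G) with hN
  have hPN : P ≤ N := Subgroup.le_normalClosure
  have hMN : (⁅A, P⁆ : Subgroup G) ≤ N := by
    rw [Subgroup.commutator_le]
    intro a _ z hz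
    rw [commutatorElement_def]
    exact N.mul_mem (Subgroup.normalClosure_normal.conj_mem _ (hPN hz) a) (N.inv_mem (hPN hz))
  have hmem : Subgroup.zpowers c ∈ {P : Subgroup G | P ≠ ⊥ ∧ P ≤ (⁅B, B⁆ : Subgroup G)} :=
    ⟨by rwa [Ne, Subgroup.zpowers_eq_bot], by rwa [Subgroup.zpowers_le]⟩
  have h2 : Subgroup.normalClosure ((Subgroup.zpowers c : Subgroup G) : Set G)
      ≤ (⁅N, N⁆ : Subgroup G) := by
    refine le_trans ?_ (Subgroup.commutator_mono hMN hMN)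
    apply Subgroup.normalClosure_le_normal
    intro x hx
    have : Subgroup.zpowers c ≤ (⁅(⁅A, P⁆ : Subgroup G), ⁅A, P⁆⁆ : Subgroup G) := by
      rwa [Subgroup.zpowers_le]
    exact this hx
  have hNne : N ≠ ⊥ := by
    intro h
    apply hPS.1
    rw [eq_bot_iff, ← h]; exact hPN
  have hlt : (⁅N, N⁆ : Subgroup G) < N := Group.IsSolvable.commutator_lt_of_ne_bot hNne
  have h3 := hmin _ hmem
  have h4 : Subgroup.normalClosure ((Subgroup.zpowers c : Subgroup G) : Set G) = N :=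
    Subgroup.eq_of_le_of_card_ge (h2.trans hlt.le) h3
  rw [h4] at h2
  exact absurd (lt_of_le_of_lt h2 hlt) (lt_irrefl _)

theorem two_step {A B : Subgroup G} (F : Fac A B) {P : Subgroup G}
    (hP : P ≤ (⁅B, B⁆ : Subgroup G))
    (hM : (⁅(⁅A, P⁆ : Subgroup G), ⁅A, P⁆⁆ : Subgroup G) = ⊥) :
    (⁅(⁅Subgroup.normalClosure (P : Set G), Subgroup.normalClosure (P : Set G)⁆ : Subgroup G),
      ⁅Subgroup.normalClosure (P : Set G), Subgroup.normalClosure (P : Set G)⁆⁆ : Subgroup G) = ⊥ := by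
  have h := comm_N_le F (cen_of_le_comm F hP)
  have := Subgroup.commutator_mono h h
  rw [hM] at this
  exact le_bot_iff.mp this


theorem Fac.map {A B : Subgroup G} (F : Fac A B) {G' : Type*} [Group G'] (f : G →* G')
    (hf : Function.Surjective f) : Fac (A.map f) (B.map f) := by
  refine ⟨?_, ?_, ?_⟩
  · rintro _ ⟨x, hx, rfl⟩ _ ⟨y, hy, rfl⟩
    rw [← map_mul, ← map_mul, F.hA x hx y hy]
  · rintro _ ⟨x, hx, rfl⟩ _ ⟨y, hy, rfl⟩ _ ⟨w, hw, rfl⟩
    rw [← map_commutatorElement, ← map_mul, ← map_mul, F.hB x hx y hy w hw]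
  · intro g
    obtain ⟨g₀, rfl⟩ := hf g
    obtain ⟨a, ha, b, hb, rfl⟩ := F.hAB g₀
    exact ⟨f a, Subgroup.mem_map_of_mem f ha, f b, Subgroup.mem_map_of_mem f hb, map_mul f a b⟩

theorem abelian_case {A B : Subgroup G} (F : Fac A B) (h : (⁅B, B⁆ : Subgroup G) = ⊥) (k : ℕ) :
    derivedSeries G (2 * (1 + k)) = ⊥ := by
  have hB : ∀ x ∈ B, ∀ y ∈ B, x * y = y * x := by
    intro x hx y hy
    have : ⁅x, y⁆ ∈ (⁅B, B⁆ : Subgroup G) := Subgroup.commutator_mem_commutator hx hy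
    rw [h, Subgroup.mem_bot, commutatorElement_eq_one_iff_mul_comm] at this
    exact this
  have : IsMulCommutative A := isMulCommutative_iff_of_setLike.mpr F.hA
  have : IsMulCommutative B := isMulCommutative_iff_of_setLike.mpr hB
  have h2 := S0572.result A B F.hAB
  have : derivedSeries G (2 * (1 + k)) ≤ derivedSeries G 2 := derivedSeries_antitone G (by omega)
  rw [h2] at this
  exact le_bot_iff.mp this

/-- The number of prime factors of the image of `H` drops when the kernel meets `H`. -/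
theorem omega_drop [Finite G] (H N : Subgroup G) [N.Normal] {c : G} (hcH : c ∈ H) (hcN : c ∈ N)
    (hc1 : c ≠ 1) :
    (Nat.card (H.map (QuotientGroup.mk' N))).primeFactorsList.length + 1
      ≤ (Nat.card H).primeFactorsList.length := by
  have h1 : Nat.card (N.subgroupOf H) * (N.subgroupOf H).index = Nat.card H :=
    (N.subgroupOf H).card_mul_index
  have h2 : (N.subgroupOf H).index = Nat.card (H.map (QuotientGroup.mk' N)) := by
    have := Subgroup.relIndex_ker (K := H) (QuotientGroup.mk' N)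
    rw [QuotientGroup.ker_mk'] at this
    exact this
  have h3 : 2 ≤ Nat.card (N.subgroupOf H) := by
    have : Nontrivial (N.subgroupOf H) := by
      refine ⟨⟨⟨c, hcH⟩, Subgroup.mem_subgroupOf.mpr hcN⟩, 1, ?_⟩
      intro h
      apply hc1
      have := congrArg (fun x : N.subgroupOf H => ((x : H) : G)) h
      simpa using this
    exact Finite.one_lt_card
  rw [h2] at h1
  have hr : Nat.card (H.map (QuotientGroup.mk' N)) ≠ 0 := Nat.card_pos.ne'
  have hk : Nat.card (N.subgroupOf H) ≠ 0 := by omega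
  rw [← h1]
  have hperm := Nat.perm_primeFactorsList_mul hk hr
  rw [hperm.length_eq, List.length_append]
  have : (Nat.card (N.subgroupOf H)).primeFactorsList ≠ [] := by
    intro h
    rcases (Nat.primeFactorsList_eq_nil _).mp h with h | h <;> omega
  have := List.length_pos_of_ne_nil this
  omega

end

/-- The induction on the number of prime factors of `|⁅B, B⁆|`. -/
theorem main (n : ℕ) : ∀ (G : Type u) [Group G] [Finite G] [Group.IsSolvable G]
    (A B : Subgroup G), Fac A B →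
    (Nat.card (⁅B, B⁆ : Subgroup G)).primeFactorsList.length ≤ n →
    derivedSeries G (2 * (1 + n)) = ⊥ := by
  induction n with
  | zero =>
    intro G _ _ _ A B F hn
    apply abelian_case F
    have h0 : (Nat.card (⁅B, B⁆ : Subgroup G)).primeFactorsList = [] :=
      List.length_eq_zero_iff.mp (Nat.le_zero.mp hn)
    have hpos : Nat.card (⁅B, B⁆ : Subgroup G) ≠ 0 := Nat.card_pos.ne'
    rcases (Nat.primeFactorsList_eq_nil _).mp h0 with h | h
    · exact absurd h hpos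
    · exact Subgroup.card_eq_one.mp h
  | succ m ih =>
    intro G _ _ _ A B F hn
    by_cases hne : (⁅B, B⁆ : Subgroup G) = ⊥
    · exact abelian_case F hne (m + 1)
    · obtain ⟨P, hP1, hP2, hP3⟩ := exists_good F hne
      have h2 := two_step F hP2 hP3
      set N := Subgroup.normalClosure (P : Set G) with hN
      have hPN : P ≤ N := Subgroup.le_normalClosure
      obtain ⟨c, hcP, hc1⟩ := (P.bot_or_exists_ne_one).resolve_left hP1
      have hcard : (Nat.card (⁅B.map (QuotientGroup.mk' N), B.map (QuotientGroup.mk' N)⁆ :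
          Subgroup (G ⧸ N))).primeFactorsList.length ≤ m := by
        rw [← Subgroup.map_commutator]
        have := omega_drop (⁅B, B⁆ : Subgroup G) N (hP2 hcP) (hPN hcP) hc1
        omega
      have h3 := ih (G ⧸ N) (A.map (QuotientGroup.mk' N)) (B.map (QuotientGroup.mk' N))
        (F.map _ (QuotientGroup.mk'_surjective N)) hcard
      have h4 : derivedSeries G (2 * (1 + m)) ≤ N := by
        have := map_derivedSeries_eq (f := QuotientGroup.mk' N) (QuotientGroup.mk'_surjective N)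
          (2 * (1 + m))
        rw [h3, Subgroup.map_eq_bot_iff, QuotientGroup.ker_mk'] at this
        exact this
      have e : 2 * (1 + (m + 1)) = (2 * (1 + m)) + 1 + 1 := by ring
      rw [e, derivedSeries_succ, derivedSeries_succ]
      have h5 := Subgroup.commutator_mono h4 h4
      have h6 := Subgroup.commutator_mono h5 h5
      rw [h2] at h6
      exact le_bot_iff.mp h6

/-- Let the finite group G be the product AB of an abelian subgroup A and a subgroup B of nilpotency class at most two, and let Ω be the number of prime factors, with multiplicity, of the order of the commutator subgroup of B. Then the term of index 2(1 + Ω) of the derived series of G is trivial. -/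
theorem result {G : Type*} [Group G] [Finite G] (A B : Subgroup G) [IsMulCommutative A] (hB : commutator ↥B ≤ Subgroup.center ↥B) (hAB : ∀ g : G, ∃ a ∈ A, ∃ b ∈ B, g = a * b) : derivedSeries G (2 * (1 + (Nat.card ↥(commutator ↥B)).primeFactorsList.length)) = ⊥ := by
  have hcomm : ∀ x ∈ A, ∀ y ∈ A, x * y = y * x := isMulCommutative_iff_of_setLike.mp inferInstance
  have hBc : ∀ x ∈ B, ∀ y ∈ B, ∀ w ∈ B, ⁅x, y⁆ * w = w * ⁅x, y⁆ := by
    intro x hx y hy w hw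
    have h1 : ⁅(⟨x, hx⟩ : B), ⟨y, hy⟩⁆ ∈ commutator B := by
      rw [commutator_def]
      exact Subgroup.commutator_mem_commutator (Subgroup.mem_top _) (Subgroup.mem_top _)
    have h2 := Subgroup.mem_center_iff.mp (hB h1) ⟨w, hw⟩
    have h3 := congrArg Subtype.val h2
    have h4 : ((⁅(⟨x, hx⟩ : B), ⟨y, hy⟩⁆ : B) : G) = ⁅x, y⁆ := by
      simp [commutatorElement_def]
    rw [Subgroup.coe_mul, Subgroup.coe_mul, h4] at h3
    exact h3.symm
  have F : Fac A B := ⟨hcomm, hBc, hAB⟩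
  have hAn : Group.IsNilpotent A := by
    rw [Subgroup.nilpotent_iff_lowerCentralSeries]
    refine ⟨1, Subgroup.lowerCentralSeries_succ_eq_bot ⊤ ?_⟩
    rw [Subgroup.center_eq_top]
    exact le_top
  have hBn : Group.IsNilpotent B := by
    rw [Subgroup.nilpotent_iff_lowerCentralSeries]
    refine ⟨2, Subgroup.lowerCentralSeries_succ_eq_bot ⊤ ?_⟩
    rw [Subgroup.top_lowerCentralSeries_one]
    exact hB
  have : Group.IsSolvable G := Cfsg.Agent.Lib.Helper96.KW.kegel_wielandt A B hAn hBn hAB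
  have hcard : Nat.card ↥(commutator ↥B) = Nat.card (⁅B, B⁆ : Subgroup G) := by
    have h1 : (commutator ↥B).map B.subtype = (⁅B, B⁆ : Subgroup G) := by
      rw [commutator_def, Subgroup.map_commutator, ← MonoidHom.range_eq_map, Subgroup.range_subtype]
    rw [← h1, Subgroup.card_map_of_injective B.subtype_injective]
  rw [hcard]
  exact main _ G A B F le_rfl

end Cfsg.Agent.S0574
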