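import Cfsg.Statements.S0576
import Mathlib

set_option autoImplicit false
open Cfsg

namespace Cfsg.Agent.S0576

theorem conj_range_normal (H : Type*) [Group H] : (MulAut.conj : H →* MulAut H).range.Normal := by
  constructor
  rintro _ ⟨h, rfl⟩ φ
  refine ⟨φ h, ?_⟩
  ext x
  simp [MulAut.conj_apply]

/-- Let H be a normal subgroup of a finite group G with H contained in the Frattini subgroup of G. Then the group of inner automorphisms of H is contained in the Frattini subgroup of the automorphism group of H. -/
theorem result {G : Type*} [Group G] [Finite G] (H : Subgroup G) [H.Normal] (hH : H ≤ frattini G) : (MulAut.conj : ↥H →* MulAut ↥H).range ≤ frattini (MulAut ↥H) := by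
  haveI := conj_range_normal H
  unfold frattini Order.radical
  apply le_iInf₂
  intro U hU
  by_contra hIU
  have htop : U ⊔ (MulAut.conj : ↥H →* MulAut ↥H).range = ⊤ := hU.2 _ (left_lt_sup.mpr hIU)
  let κ : G →* MulAut H := MulAut.conjNormal
  have key : U.comap κ ⊔ frattini G = ⊤ := by
    rw [eq_top_iff]
    intro g _
    have h1 : κ g ∈ U ⊔ (MulAut.conj : ↥H →* MulAut ↥H).range := by
      rw [htop]; exact Subgroup.mem_top _
    rw [← SetLike.mem_coe, Subgroup.mul_normal] at h1
    obtain ⟨u, hu, _, ⟨h, rfl⟩, hmn⟩ := Set.mem_mul.mp h1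
    have e1 : MulAut.conj h = κ (h : G) := (MulAut.conjNormal_val (h := h)).symm
    have e2 : κ (g * (h : G)⁻¹) = u := by
      rw [map_mul, map_inv, ← e1, ← hmn]
      group
    have e3 : g = (g * (h : G)⁻¹) * h := by group
    rw [e3]
    apply Subgroup.mul_mem
    · apply (le_sup_left : U.comap κ ≤ U.comap κ ⊔ frattini G)
      rw [Subgroup.mem_comap, e2]
      exact hu
    · exact (le_sup_right : frattini G ≤ U.comap κ ⊔ frattini G) (hH h.2)
  have h2 := frattini_nongenerating key
  apply hIU
  rintro _ ⟨h, rfl⟩
  have e1 : MulAut.conj h = κ (h : G) := (MulAut.conjNormal_val (h := h)).symm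
  rw [e1]
  have : (h : G) ∈ U.comap κ := by rw [h2]; exact Subgroup.mem_top _
  exact this

end Cfsg.Agent.S0576
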