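import Cfsg.Statements.S0577
import Mathlib
import Cfsg.Agent.Lib.Helper96.Schmidt3

set_option autoImplicit false
open Cfsg

namespace Cfsg.Agent.S0577

open Cfsg.Agent.Lib.Helper96
open scoped commutatorElement

/-- Let G be a finite minimal non-nilpotent group and Q a normal Sylow q-subgroup of G, and let D be the commutator subgroup of Q regarded in G (a normal subgroup). Then G modulo D is non-abelian and all its proper subgroups are abelian. -/
theorem result {G : Type*} [Group G] [Finite G] (hG : Cfsg.IsMinimalNonNilpotent G) (q : ℕ) [Fact q.Prime] (hq : q ∣ Nat.card G) (Q : Sylow q G) (hQ : (Q : Subgroup G).Normal) (D : Subgroup G) [D.Normal] (hD : D = (commutator ↥(Q : Subgroup G)).map (Q : Subgroup G).subtype) : ¬ IsMulCommutative (G ⧸ D) ∧ ∀ K : Subgroup (G ⧸ D), K ≠ ⊤ → IsMulCommutative K := by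
  obtain ⟨p, q₀, hp, hq₀, hpq₀, P, Q₀, hcyc, hQ₀n, htop₀, hPn, hnc⟩ := schmidt_structure hG.1 hG.2
  obtain ⟨α, β, hcard⟩ := card_eq_of_sup_eq_top P Q₀ hQ₀n htop₀
  -- identify q
  have hqp : q ≠ p := by
    rintro rfl
    apply hPn
    haveI := Sylow.unique_of_normal Q hQ
    have : P = Q := Subsingleton.elim _ _
    rw [this]; exact hQ
  have hqq₀ : q = q₀ := by
    rw [hcard] at hq
    have hqprime : q.Prime := Fact.out
    rcases (Nat.Prime.dvd_mul hqprime).mp hq with h | h
    · exact absurd ((Nat.prime_dvd_prime_iff_eq hqprime hp.1).mp (hqprime.dvd_of_dvd_pow h)) hqp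
    · exact (Nat.prime_dvd_prime_iff_eq hqprime hq₀.1).mp (hqprime.dvd_of_dvd_pow h)
  subst hqq₀
  have hQQ₀ : Q₀ = Q := by
    haveI := Sylow.unique_of_normal Q hQ
    exact Subsingleton.elim _ _
  subst hQQ₀
  have hpq : p ≠ q := hpq₀
  have hdisj : (P : Subgroup G) ⊓ Q₀ = ⊥ :=
    disjoint_iff.mp (IsPGroup.disjoint_of_ne p q hpq _ _ P.2 Q₀.2)
  have hDQ : D ≤ (Q₀ : Subgroup G) := by
    rw [hD]
    rintro _ ⟨y, _, rfl⟩
    exact y.2
  have hcommD : ∀ u ∈ (Q₀ : Subgroup G), ∀ v ∈ (Q₀ : Subgroup G), ⁅u, v⁆ ∈ D := by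
    intro u hu v hv
    rw [hD]
    refine Subgroup.mem_map.mpr ⟨⁅(⟨u, hu⟩ : (Q₀ : Subgroup G)), ⟨v, hv⟩⁆, ?_, ?_⟩
    · rw [commutator_def]
      exact Subgroup.commutator_mem_commutator (Subgroup.mem_top _) (Subgroup.mem_top _)
    · rw [map_commutatorElement]; rfl
  constructor
  · -- G / D is not commutative
    intro hcomm
    apply hPn
    -- K := P ⊔ D is normal
    have hKn : ((P : Subgroup G) ⊔ D).Normal := by
      refine ⟨fun n hn g => ?_⟩
      have h1 : ⁅g, n⁆ ∈ D := by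
        rw [← QuotientGroup.eq_one_iff, commutatorElement_def]
        simp only [QuotientGroup.mk_mul, QuotientGroup.mk_inv]
        rw [mul_comm' (g : G ⧸ D) (n : G ⧸ D)]
        group
      have h2 : g * n * g⁻¹ = ⁅g, n⁆ * n := by
        rw [commutatorElement_def]; group
      rw [h2]
      exact Subgroup.mul_mem _ ((le_sup_right : D ≤ _) h1) hn
    have hKne : (P : Subgroup G) ⊔ D ≠ ⊤ := by
      intro hKtop
      have hQD : (Q₀ : Subgroup G) ≤ D :=
        le_of_sup_eq_top_of_inf_eq_bot (P : Subgroup G) D (Q₀ : Subgroup G) hDQ hdisj hKtop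
      -- then commutator Q = ⊤, impossible for a nontrivial q-group
      haveI hnil : Group.IsNilpotent (Q₀ : Subgroup G) := Q₀.2.isNilpotent
      haveI : Nontrivial (Q₀ : Subgroup G) := by
        rw [Subgroup.nontrivial_iff_ne_bot]
        intro hbot
        have h1 := Q₀.not_dvd_index
        rw [hbot, Subgroup.index_bot] at h1
        exact h1 hq
      have hlt : commutator (Q₀ : Subgroup G) < ⊤ :=
        Group.IsSolvable.commutator_lt_top_of_nontrivial _
      apply hlt.ne
      rw [eq_top_iff]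
      intro y _
      have hy : (y : G) ∈ D := hQD y.2
      rw [hD] at hy
      obtain ⟨y', hy', hyy'⟩ := Subgroup.mem_map.mp hy
      have : y' = y := Subtype.ext hyy'
      rw [← this]; exact hy'
    have hKnil : Group.IsNilpotent ((P : Subgroup G) ⊔ D : Subgroup G) := hG.2 _ hKne
    have hle : (P : Subgroup G) ≤ (P : Subgroup G) ⊔ D := le_sup_left
    have h3 : ∀ (p : ℕ) (_ : Fact p.Prime) (S : Sylow p ((P : Subgroup G) ⊔ D : Subgroup G)),
        (S : Subgroup ((P : Subgroup G) ⊔ D : Subgroup G)).Normal :=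
      ((Group.isNilpotent_of_finite_tfae (G := ((P : Subgroup G) ⊔ D : Subgroup G))).out 0 3).mp hKnil
    have hPKn := h3 p hp (P.subtype hle)
    haveI hchar := Sylow.characteristic_of_normal (P.subtype hle) hPKn
    have hnorm := ConjAct.normal_of_characteristic_of_normal
      (H := (P : Subgroup G) ⊔ D) (K := ((P.subtype hle : Sylow p _) : Subgroup _))
    rw [Sylow.coe_subtype, Subgroup.map_subgroupOf_eq_of_le hle] at hnorm
    exact hnorm
  · -- proper subgroups are commutative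
    intro Kbar hKbar
    set K : Subgroup G := Kbar.comap (QuotientGroup.mk' D) with hK
    have hKne : K ≠ ⊤ := by
      intro hKtop
      apply hKbar
      rw [eq_top_iff]
      intro y _
      obtain ⟨g, rfl⟩ := QuotientGroup.mk'_surjective D y
      have : g ∈ K := by rw [hKtop]; trivial
      exact this
    have hKnil : Group.IsNilpotent K := hG.2 K hKne
    refine ⟨⟨?_⟩⟩
    rintro ⟨u, hu⟩ ⟨v, hv⟩
    apply Subtype.ext
    change u * v = v * u
    obtain ⟨a, rfl⟩ := QuotientGroup.mk'_surjective D u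
    obtain ⟨b, rfl⟩ := QuotientGroup.mk'_surjective D v
    have haK : a ∈ K := hu
    have hbK : b ∈ K := hv
    obtain ⟨a₁, a₂, ha₁, ha₂, rfl, ha₁p, ha₂q⟩ := exists_decomp_of_card hp.1 hq₀.1 hpq hcard a
    obtain ⟨b₁, b₂, hb₁, hb₂, rfl, hb₁p, hb₂q⟩ := exists_decomp_of_card hp.1 hq₀.1 hpq hcard b
    have hzK : ∀ {c d : G}, c ∈ K → d ∈ Subgroup.zpowers c → d ∈ K := by
      intro c d hc hd
      exact (Subgroup.zpowers_le.mpr hc) hd
    have ha₁K := hzK haK ha₁
    have ha₂K := hzK haK ha₂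
    have hb₁K := hzK hbK hb₁
    have hb₂K := hzK hbK hb₂
    have h11 : a₁ * b₁ = b₁ * a₁ :=
      mul_comm_of_isNilpotent_subgroup_of_isCyclic_sylow P hcyc K hKnil ha₁K hb₁K ha₁p hb₁p
    have h12 : a₁ * b₂ = b₂ * a₁ :=
      (commute_of_isNilpotent_subgroup K hKnil hpq ha₁K hb₂K ha₁p hb₂q).eq
    have h21 : a₂ * b₁ = b₁ * a₂ :=
      (commute_of_isNilpotent_subgroup K hKnil hpq hb₁K ha₂K hb₁p ha₂q).eq.symm
    have ha₂Q : a₂ ∈ (Q₀ : Subgroup G) := mem_of_pow_eq_one_of_normal_sylow Q₀ hQ ha₂q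
    have hb₂Q : b₂ ∈ (Q₀ : Subgroup G) := mem_of_pow_eq_one_of_normal_sylow Q₀ hQ hb₂q
    have h22 : (QuotientGroup.mk' D) a₂ * (QuotientGroup.mk' D) b₂ =
        (QuotientGroup.mk' D) b₂ * (QuotientGroup.mk' D) a₂ := by
      rw [← map_mul, ← map_mul]
      simp only [QuotientGroup.mk'_apply]
      rw [QuotientGroup.eq]
      have := hcommD _ (Subgroup.inv_mem _ hb₂Q) _ (Subgroup.inv_mem _ ha₂Q)
      rw [commutatorElement_def] at this
      have e : (a₂ * b₂)⁻¹ * (b₂ * a₂) = b₂⁻¹ * a₂⁻¹ * b₂⁻¹⁻¹ * a₂⁻¹⁻¹ := by group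
      rw [e]; exact this
    have c11 : Commute ((QuotientGroup.mk' D) a₁) ((QuotientGroup.mk' D) b₁) := by
      change _ * _ = _ * _
      rw [← map_mul, ← map_mul, h11]
    have c12 : Commute ((QuotientGroup.mk' D) a₁) ((QuotientGroup.mk' D) b₂) := by
      change _ * _ = _ * _
      rw [← map_mul, ← map_mul, h12]
    have c21 : Commute ((QuotientGroup.mk' D) a₂) ((QuotientGroup.mk' D) b₁) := by
      change _ * _ = _ * _
      rw [← map_mul, ← map_mul, h21]
    have c22 : Commute ((QuotientGroup.mk' D) a₂) ((QuotientGroup.mk' D) b₂) := h22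
    rw [map_mul, map_mul]
    exact ((c11.mul_right c12).mul_left (c21.mul_right c22)).eq

end Cfsg.Agent.S0577
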