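import Cfsg.Statements.S0578
import Mathlib

set_option autoImplicit false
open Cfsg

namespace Cfsg.Agent.S0578

universe u

/-- a group generated by a central subgroup and a commutative subgroup is commutative -/
theorem comm_of_sup_eq_top {G : Type*} [Group G] (K P : Subgroup G)
    (hK : K ≤ Subgroup.center G) (hP : ∀ x ∈ P, ∀ y ∈ P, x * y = y * x) (h : K ⊔ P = ⊤) :
    IsMulCommutative G := by
  have h1 : K ⊔ P = Subgroup.closure ((K : Set G) ∪ (P : Set G)) := by
    rw [Subgroup.closure_union, Subgroup.closure_eq, Subgroup.closure_eq]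
  have h2 : IsMulCommutative (Subgroup.closure ((K : Set G) ∪ (P : Set G))) := by
    apply Subgroup.isMulCommutative_closure
    rintro a (ha | ha) b (hb | hb)
    · exact (Subgroup.mem_center_iff.mp (hK hb) a)
    · exact (Subgroup.mem_center_iff.mp (hK ha) b).symm
    · exact (Subgroup.mem_center_iff.mp (hK hb) a)
    · exact hP a ha b hb
  rw [← h1, h] at h2
  have h3 := isMulCommutative_iff_of_setLike.mp h2
  exact ⟨⟨fun a b => h3 a (Subgroup.mem_top a) b (Subgroup.mem_top b)⟩⟩

/-- the hypothesis passes to subgroups -/
theorem hyp_subgroup {G : Type*} [Group G] [Finite G]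
    (h : ∀ A : Subgroup G, IsMulCommutative A → Subgroup.normalizer (A : Set G) = Subgroup.centralizer (A : Set G))
    (H : Subgroup G) (A : Subgroup H) (hA : IsMulCommutative A) :
    Subgroup.normalizer (A : Set H) = Subgroup.centralizer (A : Set H) := by
  apply le_antisymm _ (Subgroup.centralizer_le_normalizer _)
  intro x hx
  have hA' : IsMulCommutative (A.map H.subtype) := inferInstance
  have h1 : (x : G) ∈ Subgroup.normalizer ((A.map H.subtype : Subgroup G) : Set G) := by
    apply Subgroup.mem_normalizer_fintype
    rintro _ ⟨a, ha, rfl⟩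
    exact ⟨x * a * x⁻¹, (Subgroup.mem_normalizer_iff.mp hx a).mp ha, by simp⟩
  rw [h _ hA', Subgroup.mem_centralizer_iff] at h1
  rw [Subgroup.mem_centralizer_iff]
  intro a ha
  apply Subtype.ext
  exact h1 a ⟨a, ha, rfl⟩

theorem aux : ∀ n : ℕ, ∀ (G : Type u) [Group G] [Finite G], Nat.card G = n →
    (∀ A : Subgroup G, IsMulCommutative A → Subgroup.normalizer (A : Set G) = Subgroup.centralizer (A : Set G)) →
    IsMulCommutative G := by
  intro n
  induction n using Nat.strong_induction_on with
  | _ n ih =>
  intro G _ _ hn h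
  -- proper subgroups are abelian
  have hprop : ∀ H : Subgroup G, H ≠ ⊤ → IsMulCommutative H := by
    intro H hH
    have hlt : Nat.card H < n := by
      rw [← hn]
      by_contra hge
      exact hH (Subgroup.eq_top_of_le_card H (not_lt.mp hge))
    exact ih (Nat.card H) hlt H rfl (hyp_subgroup h H)
  -- proper normal subgroups are central
  have hcentral : ∀ M : Subgroup G, M.Normal → M ≠ ⊤ → M ≤ Subgroup.center G := by
    intro M hMn hM
    have h1 := h M (hprop M hM)
    rw [Subgroup.normalizer_eq_top_iff.mpr hMn] at h1
    intro m hm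
    rw [Subgroup.mem_center_iff]
    intro g
    have : g ∈ Subgroup.centralizer (M : Set G) := by rw [← h1]; exact Subgroup.mem_top g
    exact (Subgroup.mem_centralizer_iff.mp this m hm).symm
  by_cases h1 : Nat.card G = 1
  · haveI : Subsingleton G := (Nat.card_eq_one_iff_unique.mp h1).1
    exact ⟨⟨fun a b => Subsingleton.elim _ _⟩⟩
  obtain ⟨p, hp, hpdvd⟩ := Nat.exists_prime_and_dvd h1
  haveI : Fact p.Prime := ⟨hp⟩
  obtain ⟨P⟩ := (Sylow.nonempty : Nonempty (Sylow p G))
  by_cases hPtop : (P : Subgroup G) = ⊤
  · -- G is a p-group, hence nilpotent: maximal subgroups are normal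
    have hpg : IsPGroup p G := by
      have := P.2
      rw [hPtop] at this
      exact IsPGroup.of_equiv this Subgroup.topEquiv
    have hnil : Group.IsNilpotent G := hpg.isNilpotent
    have hcoat := (Group.isNilpotent_of_finite_tfae (G := G)).out 0 2 |>.mp hnil
    haveI : Nontrivial G := by
      rw [← not_subsingleton_iff_nontrivial]
      intro hs
      exact h1 (Nat.card_eq_one_iff_unique.mpr ⟨hs, ⟨1⟩⟩)
    obtain ⟨M, hM⟩ := (eq_top_or_exists_le_coatom (⊥ : Subgroup G)).resolve_left bot_ne_top
    have hMn : M.Normal := hcoat M hM.1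
    have hMc := hcentral M hMn hM.1.1
    obtain ⟨g, hg⟩ : ∃ g : G, g ∉ M := by
      by_contra hall
      exact hM.1.1 (eq_top_iff.mpr fun x _ => by
        by_contra hx
        exact hall ⟨x, hx⟩)
    have hsup : M ⊔ Subgroup.zpowers g = ⊤ := by
      apply hM.1.2
      apply left_lt_sup.mpr
      intro hle
      exact hg (hle (Subgroup.mem_zpowers g))
    apply comm_of_sup_eq_top M (Subgroup.zpowers g) hMc _ hsup
    intro x hx y hy
    obtain ⟨k, rfl⟩ := Subgroup.mem_zpowers_iff.mp hx
    obtain ⟨l, rfl⟩ := Subgroup.mem_zpowers_iff.mp hy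
    exact (Commute.refl g).zpow_zpow k l
  · -- Burnside transfer
    have hPab := hprop P hPtop
    have hNC : Subgroup.normalizer ((P : Subgroup G) : Set G) ≤ Subgroup.centralizer ((P : Subgroup G) : Set G) :=
      (h P hPab).le
    have hcompl := MonoidHom.ker_transferSylow_isComplement' P hNC
    set K := (MonoidHom.transferSylow P hNC).ker with hK
    have hKn : K.Normal := inferInstance
    have hKtop : K ≠ ⊤ := by
      intro hKt
      have h2 := hcompl.card_mul_card
      rw [hKt, Subgroup.card_top] at h2
      have h3 : Nat.card (P : Subgroup G) = 1 := by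
        have hpos : 0 < Nat.card G := Nat.card_pos
        nlinarith [Nat.eq_of_mul_eq_mul_left hpos (by rw [h2, mul_one] : Nat.card G * Nat.card (P : Subgroup G) = Nat.card G * 1)]
      have h4 := P.card_eq_multiplicity
      rw [h3] at h4
      have h5 : (Nat.card G).factorization p = 0 := by
        by_contra hne
        have : 1 < p ^ (Nat.card G).factorization p := Nat.one_lt_pow hne hp.one_lt
        omega
      have h6 := (hp.dvd_iff_one_le_factorization Nat.card_pos.ne').mp hpdvd
      omega
    have hKc := hcentral K hKn hKtop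
    exact comm_of_sup_eq_top K P hKc (isMulCommutative_iff_of_setLike.mp hPab) hcompl.sup_eq_top

/-- If in a finite group the normalizer of each abelian subgroup coincides with its centralizer, then the group is abelian. -/
theorem result {G : Type*} [Group G] [Finite G] (h : ∀ A : Subgroup G, IsMulCommutative A → Subgroup.normalizer (A : Set G) = Subgroup.centralizer (A : Set G)) : IsMulCommutative G :=
  aux (Nat.card G) G rfl h

end Cfsg.Agent.S0578
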