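import Cfsg.Statements.S0585
import Cfsg.Agent.Lib.Helper10.Frattini

set_option autoImplicit false
open Cfsg

namespace Cfsg.Agent.S0585

open Cfsg.Agent.Lib.Helper10

open Pointwise in
theorem isComplement'_of_normal_sup_inf {G : Type*} [Group G] {A H : Subgroup G} [A.Normal]
    (hsup : A ⊔ H = ⊤) (hinf : A ⊓ H = ⊥) : Subgroup.IsComplement' A H := by
  apply Subgroup.isComplement'_of_disjoint_and_mul_eq_univ (disjoint_iff.mpr hinf)
  rw [← Subgroup.normal_mul, hsup]
  rfl

/-- a minimal supplement `H` of a normal subgroup `A` meets `A` inside `Φ(H)` -/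
theorem inf_le_frattini_of_minimal_supplement {G : Type*} [Group G] [Finite G] (A H : Subgroup G)
    [A.Normal] (hsup : A ⊔ H = ⊤)
    (hmin : ∀ K : Subgroup G, A ⊔ K = ⊤ → Nat.card H ≤ Nat.card K) :
    A ⊓ H ≤ (frattini H).map H.subtype := by
  have h0 : (A ⊓ H).subgroupOf H ≤ frattini H := by
    unfold frattini Order.radical
    apply le_iInf₂
    intro M hM
    by_contra hNM
    have htop : M ⊔ (A ⊓ H).subgroupOf H = ⊤ := sup_eq_top_of_coatom_not_le hM hNM
    have h1 : (M ⊔ (A ⊓ H).subgroupOf H).map H.subtype = H := by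
      rw [htop, ← MonoidHom.range_eq_map, Subgroup.range_subtype]
    rw [Subgroup.map_sup, Subgroup.subgroupOf_map_subtype] at h1
    have h2 : A ⊔ M.map H.subtype = ⊤ := by
      rw [eq_top_iff, ← hsup]
      apply sup_le le_sup_left
      calc H = M.map H.subtype ⊔ A ⊓ H ⊓ H := h1.symm
        _ ≤ A ⊔ M.map H.subtype := by
          apply sup_le le_sup_right
          exact (inf_le_left.trans inf_le_left).trans le_sup_left
    have h3 := hmin _ h2
    rw [Subgroup.card_map_of_injective H.subtype_injective] at h3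
    exact hM.1 (Subgroup.eq_top_of_le_card _ h3)
  intro x hx
  exact ⟨⟨x, hx.2⟩, h0 (by rw [Subgroup.mem_subgroupOf]; exact hx), rfl⟩

/-- If the Frattini subgroup of a finite group G is trivial, then every abelian normal subgroup of G has a complement in G. -/
theorem result {G : Type*} [Group G] [Finite G] (hΦ : frattini G = ⊥) (A : Subgroup G) [A.Normal] [IsMulCommutative A] : ∃ H : Subgroup G, Subgroup.IsComplement' A H := by
  obtain ⟨H, hH, hmin⟩ := Set.exists_min_image {H : Subgroup G | A ⊔ H = ⊤}
    (fun H => Nat.card H) (Set.toFinite _) ⟨⊤, sup_top_eq A⟩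
  refine ⟨H, isComplement'_of_normal_sup_inf hH ?_⟩
  have hle := inf_le_frattini_of_minimal_supplement A H hH hmin
  have hcomm : ∀ x ∈ A, ∀ y ∈ A, x * y = y * x :=
    isMulCommutative_iff_of_setLike.mp inferInstance
  haveI : (A ⊓ H).Normal := by
    have : Subgroup.normalizer ((A ⊓ H : Subgroup G) : Set G) = ⊤ := by
      rw [eq_top_iff, ← hH]
      apply sup_le
      · intro a ha
        apply Subgroup.mem_normalizer_fintype
        intro n hn
        have : a * n * a⁻¹ = n := by rw [hcomm a ha n hn.1]; group
        rw [this]; exact hn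
      · intro h hh
        apply Subgroup.mem_normalizer_fintype
        intro n hn
        exact ⟨(inferInstance : A.Normal).conj_mem n hn.1 h, H.mul_mem (H.mul_mem hh hn.2) (H.inv_mem hh)⟩
    exact Subgroup.normalizer_eq_top_iff.mp this
  have := le_frattini_of_normal_le_frattini_sub H (A ⊓ H) hle
  rw [hΦ] at this
  exact le_bot_iff.mp this

end Cfsg.Agent.S0585
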