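import Cfsg.Statements.S0586
import Cfsg.Agent.Lib.Helper10.Nilpotent
import Cfsg.Agent.S0585

set_option autoImplicit false
open Cfsg

namespace Cfsg.Agent.S0586

open Cfsg.Agent.Lib.Helper10

theorem isNilpotent_of_comm {K : Type*} [Group K] (h : IsMulCommutative K) : Group.IsNilpotent K :=
  ⟨⟨1, Subgroup.upperCentralSeries_one_eq_top_iff.mpr h⟩⟩

/-- below a nontrivial normal subgroup of a finite group there is a minimal normal subgroup -/
theorem exists_minimal_normal_le {G : Type*} [Group G] [Finite G] (D : Subgroup G) [hD : D.Normal]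
    (hne : D ≠ ⊥) : ∃ K : Subgroup G, K.Normal ∧ K ≠ ⊥ ∧ K ≤ D ∧
      ∀ L : Subgroup G, L.Normal → L ≤ K → L = ⊥ ∨ L = K := by
  obtain ⟨K, hK, hmin⟩ := Set.exists_min_image {K : Subgroup G | K.Normal ∧ K ≠ ⊥ ∧ K ≤ D}
    (fun K => Nat.card K) (Set.toFinite _) ⟨D, hD, hne, le_rfl⟩
  refine ⟨K, hK.1, hK.2.1, hK.2.2, ?_⟩
  intro L hL hLK
  by_cases hLb : L = ⊥
  · exact Or.inl hLb
  · right
    exact Subgroup.eq_of_le_of_card_ge hLK (hmin L ⟨hL, hLb, hLK.trans hK.2.2⟩)

/-- If the Frattini subgroup of a finite group G is trivial, then the Fitting subgroup of G equals the join of all abelian minimal normal subgroups of G. -/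
theorem result {G : Type*} [Group G] [Finite G] (hΦ : frattini G = ⊥) : Cfsg.fittingSubgroup G = sSup {N : Subgroup G | N.Normal ∧ N ≠ ⊥ ∧ IsMulCommutative N ∧ ∀ K : Subgroup G, K.Normal → K ≤ N → K = ⊥ ∨ K = N} := by
  set 𝒮 : Set (Subgroup G) := {N : Subgroup G | N.Normal ∧ N ≠ ⊥ ∧ IsMulCommutative N ∧ ∀ K : Subgroup G, K.Normal → K ≤ N → K = ⊥ ∨ K = N} with h𝒮
  set S : Subgroup G := sSup 𝒮 with hS
  apply le_antisymm
  · -- every normal nilpotent subgroup lies in the abelian socle
    have hSn : S.Normal := Subgroup.sSup_normal 𝒮 (fun K hK => hK.1)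
    -- normal nilpotent subgroups centralize `S`
    have hcent : ∀ N : Subgroup G, N.Normal → Group.IsNilpotent N → S ≤ Subgroup.centralizer (N : Set G) := by
      intro N hNn hN
      apply sSup_le
      intro K hK
      rw [Subgroup.le_centralizer_iff]
      haveI := hNn
      haveI := hK.1
      exact normal_nilpotent_le_centralizer_of_minimal_normal N K hN hK.2.1 hK.2.2.2
    have hSS : S ≤ Subgroup.centralizer (S : Set G) := by
      apply sSup_le
      intro K hK
      rw [Subgroup.le_centralizer_iff]
      exact hcent K hK.1 (isNilpotent_of_comm hK.2.2.1)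
    haveI hSc : IsMulCommutative S := Subgroup.le_centralizer_iff_isMulCommutative.mp hSS
    obtain ⟨H, hH⟩ := Cfsg.Agent.S0585.result hΦ S
    have hinf : S ⊓ H = ⊥ := disjoint_iff.mp hH.disjoint
    have hsup : S ⊔ H = ⊤ := hH.sup_eq_top
    apply sSup_le
    rintro N ⟨hNn, hN⟩
    haveI := hNn
    have hSN := hcent N hNn hN
    set D : Subgroup G := (N ⊔ S) ⊓ H with hD
    have hNSn : (N ⊔ S).Normal := inferInstance
    -- `S` centralizes `N ⊔ S`
    have hScent : S ≤ Subgroup.centralizer ((N ⊔ S : Subgroup G) : Set G) := by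
      rw [Subgroup.le_centralizer_iff]
      exact sup_le (Subgroup.le_centralizer_iff.mp hSN) hSS
    have hDn : D.Normal := by
      have : Subgroup.normalizer ((D : Subgroup G) : Set G) = ⊤ := by
        rw [eq_top_iff, ← hsup]
        apply sup_le
        · intro s hs
          apply Subgroup.mem_normalizer_fintype
          intro n hn
          have h1 := Subgroup.mem_centralizer_iff.mp (hScent hs) n hn.1
          have : s * n * s⁻¹ = n := by rw [← h1]; group
          rw [this]; exact hn
        · intro h hh
          apply Subgroup.mem_normalizer_fintype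
          intro n hn
          exact ⟨hNSn.conj_mem n hn.1 h, H.mul_mem (H.mul_mem hh hn.2) (H.inv_mem hh)⟩
      exact Subgroup.normalizer_eq_top_iff.mp this
    have hDbot : D = ⊥ := by
      by_contra hne
      obtain ⟨K, hKn, hKne, hKD, hKmin⟩ := exists_minimal_normal_le D hne
      haveI := hKn
      have hKab : K ≤ Subgroup.centralizer (K : Set G) := by
        have hKN : (K ⊓ N).Normal := inferInstance
        rcases hKmin (K ⊓ N) hKN inf_le_left with h | h
        · -- `K ∩ N = 1`: `K` centralizes `N` and `S`, hence `N ⊔ S ⊇ K`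
          have h1 : K ≤ Subgroup.centralizer (N : Set G) := by
            rw [← Subgroup.commutator_eq_bot_iff_le_centralizer, eq_bot_iff, ← h]
            exact Subgroup.commutator_le_inf K N
          have h2 : K ≤ Subgroup.centralizer (S : Set G) := by
            rw [Subgroup.le_centralizer_iff]
            exact hScent.trans (Subgroup.centralizer_le (hKD.trans inf_le_left))
          have h3 : N ⊔ S ≤ Subgroup.centralizer (K : Set G) :=
            sup_le (Subgroup.le_centralizer_iff.mp h1) (Subgroup.le_centralizer_iff.mp h2)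
          exact (hKD.trans inf_le_left).trans h3
        · have hKN' : K ≤ N := by rw [← h]; exact inf_le_right
          have := normal_nilpotent_le_centralizer_of_minimal_normal N K hN hKne hKmin
          exact hKN'.trans this
      have hKc : IsMulCommutative K := Subgroup.le_centralizer_iff_isMulCommutative.mp hKab
      have hKS : K ≤ S := le_sSup ⟨hKn, hKne, hKc, hKmin⟩
      have : K ≤ S ⊓ H := le_inf hKS (hKD.trans inf_le_right)
      rw [hinf] at this
      exact hKne (le_bot_iff.mp this)
    intro n hn
    have h1 : n ∈ S ⊔ H := by rw [hsup]; exact Subgroup.mem_top n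
    rw [← SetLike.mem_coe, Subgroup.normal_mul] at h1
    obtain ⟨s, hs, h, hh, hsh⟩ := Set.mem_mul.mp h1
    have hhD : h ∈ D := by
      refine ⟨?_, hh⟩
      have : h = s⁻¹ * n := by rw [← hsh]; group
      rw [this]
      exact Subgroup.mul_mem _ (Subgroup.inv_mem _ ((le_sup_right : S ≤ N ⊔ S) hs))
        ((le_sup_left : N ≤ N ⊔ S) hn)
    rw [hDbot, Subgroup.mem_bot] at hhD
    rw [← hsh, hhD, mul_one]
    exact hs
  · apply sSup_le
    intro K hK
    exact le_sSup ⟨hK.1, isNilpotent_of_comm hK.2.2.1⟩

end Cfsg.Agent.S0586
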