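import Cfsg.Statements.S0587
import Mathlib
import Cfsg.Agent.S0551
import Cfsg.Prelude.Def_PLocal
import Cfsg.Agent.Lib.Helper10.MinNormal
import Cfsg.Agent.Lib.Helper10.Nilpotent
import Cfsg.Agent.Lib.Helper10.Thompson
import Cfsg.Agent.Lib.Helper10.FixedPts
import Cfsg.Agent.Lib.Helper10.Frattini

set_option autoImplicit false
open Cfsg

namespace Cfsg.Agent.S0587

open Cfsg.Agent.Lib.Helper10

/-- the elements of order dividing `p` of an abelian normal subgroup generate a normal subgroup -/
theorem omegaOne_normal {G : Type*} [Group G] (p : ℕ) (L : Subgroup G) [hL : L.Normal] :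
    (Cfsg.omegaOne p L).Normal := by
  constructor
  intro n hn g
  unfold Cfsg.omegaOne at hn ⊢
  induction hn using Subgroup.closure_induction with
  | mem x hx =>
    apply Subgroup.subset_closure
    refine ⟨hL.conj_mem x hx.1 g, ?_⟩
    rw [conj_pow, hx.2]; group
  | one => simp
  | mul x y _ _ ihx ihy =>
    have : g * (x * y) * g⁻¹ = (g * x * g⁻¹) * (g * y * g⁻¹) := by group
    rw [this]; exact Subgroup.mul_mem _ ihx ihy
  | inv x _ ih =>
    have : g * x⁻¹ * g⁻¹ = (g * x * g⁻¹)⁻¹ := by group
    rw [this]; exact Subgroup.inv_mem _ ih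

/-- Let G be a finite group whose largest normal p-subgroup L is nontrivial, and M a maximal subgroup of G with trivial normal core. Then L is elementary abelian, M is a complement to L, L is a minimal normal subgroup of G, the centralizer of L is L, and for every prime q such that the largest normal q-subgroup of M is nontrivial, the order of L is congruent to 1 modulo q and q ≠ p. -/
theorem result {G : Type*} [Group G] [Finite G] (p : ℕ) [Fact p.Prime] (hL : Cfsg.pCore p G ≠ ⊥) (M : Subgroup G) (hM : IsCoatom M) (hcore : M.normalCore = ⊥) : Cfsg.IsElementaryAbelian p (Cfsg.pCore p G) ∧ Subgroup.IsComplement' (Cfsg.pCore p G) M ∧ (∀ K : Subgroup G, K.Normal → K ≤ Cfsg.pCore p G → K = ⊥ ∨ K = Cfsg.pCore p G) ∧ Subgroup.centralizer ((Cfsg.pCore p G : Subgroup G) : Set G) = Cfsg.pCore p G ∧ ∀ (q : ℕ) [Fact q.Prime], Cfsg.pCore q ↥M ≠ ⊥ → Nat.card (Cfsg.pCore p G) % q = 1 % q ∧ q ≠ p := by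
  have hp : p.Prime := Fact.out
  have hLn : (Cfsg.pCore p G).Normal := Subgroup.sSup_normal _ (fun _ h => h.1)
  have hLp : IsPGroup p (Cfsg.pCore p G) :=
    Sylow.sSup_of_normal _ (fun _ h => h.2) (fun _ h => h.1)
  have hLmax : ∀ K : Subgroup G, K.Normal → IsPGroup p K → K ≤ Cfsg.pCore p G :=
    fun K hKn hKp => le_sSup ⟨hKn, hKp⟩
  set L := Cfsg.pCore p G with hLdef
  haveI := hLn
  -- a minimal normal subgroup inside L
  obtain ⟨N, hNn, hNne, hNL, hNmin⟩ := exists_minimal_normal_le L hL
  haveI := hNn
  have hLnil : Group.IsNilpotent L := hLp.isNilpotent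
  have hLCN : L ≤ Subgroup.centralizer (N : Set G) :=
    normal_nilpotent_le_centralizer_of_minimal_normal L N hLnil hNne hNmin
  have hNc : IsMulCommutative N := by
    apply IsMulCommutative.of_setLike_mul_comm
    intro a ha b hb
    exact (Subgroup.mem_centralizer_iff.mp (hLCN (hNL hb)) a ha)
  obtain ⟨hsup, hinf⟩ := Cfsg.Agent.S0551.compl_of_corefree_coatom N M hNc hNne hNmin hM hcore
  have hCN := Cfsg.Agent.S0551.centralizer_le_of_corefree N M hNc hsup hcore
  have hLN : L = N := le_antisymm (hLCN.trans hCN) hNL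
  have hLc : ∀ x ∈ L, ∀ y ∈ L, x * y = y * x := by
    rw [hLN]; exact isMulCommutative_iff_of_setLike.mp hNc
  have hmin : ∀ K : Subgroup G, K.Normal → K ≤ L → K = ⊥ ∨ K = L := by
    rw [hLN]; exact hNmin
  have hinfL : L ⊓ M = ⊥ := by rw [hLN]; exact hinf
  have hsupL : M ⊔ L = ⊤ := by rw [hLN]; exact hsup
  have hcent : Subgroup.centralizer (L : Set G) = L := by
    apply le_antisymm
    · rw [hLN]; exact hCN
    · intro x hx
      rw [Subgroup.mem_centralizer_iff]
      intro y hy
      exact hLc y hy x hx
  refine ⟨?_, ?_, hmin, hcent, ?_⟩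
  · -- elementary abelian
    have hΩn : (Cfsg.omegaOne p L).Normal := omegaOne_normal p L
    have hΩle : Cfsg.omegaOne p L ≤ L := by
      unfold Cfsg.omegaOne
      rw [Subgroup.closure_le]
      intro x hx; exact hx.1
    have hΩe : IsElementaryAbelian p (Cfsg.omegaOne p L) := by
      unfold Cfsg.omegaOne
      apply elemAb_closure
      · intro x hx y hy; exact hLc x hx.1 y hy.1
      · intro x hx; exact hx.2
    have hΩne : Cfsg.omegaOne p L ≠ ⊥ := by
      have hnt : Nontrivial L := (Subgroup.nontrivial_iff_ne_bot L).mpr hL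
      obtain ⟨k, hk0, hk⟩ := (hLp.nontrivial_iff_card).mp hnt
      have hdvd : p ∣ Nat.card L := by rw [hk]; exact dvd_pow_self p (Nat.pos_iff_ne_zero.mp hk0)
      obtain ⟨x, hx⟩ := exists_prime_orderOf_dvd_card' p hdvd
      intro hbot
      have hxmem : (x : G) ∈ Cfsg.omegaOne p L := by
        unfold Cfsg.omegaOne
        apply Subgroup.subset_closure
        refine ⟨x.2, ?_⟩
        have := pow_orderOf_eq_one x
        rw [hx] at this
        have := congrArg Subtype.val this
        simpa using this
      rw [hbot, Subgroup.mem_bot] at hxmem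
      have hx1 : x = 1 := Subtype.ext hxmem
      rw [hx1, orderOf_one] at hx
      exact hp.one_lt.ne hx
    rcases hmin _ hΩn hΩle with h0 | h0
    · exact absurd h0 hΩne
    · rw [← h0]; exact hΩe
  · apply Subgroup.isComplement'_of_disjoint_and_mul_eq_univ (disjoint_iff.mpr hinfL)
    rw [← Subgroup.normal_mul, sup_comm, hsupL]
    rfl
  · intro q hq hQ
    have hqp : q.Prime := hq.out
    set Q₀ := Cfsg.pCore q ↥M with hQ₀
    have hQ₀n : Q₀.Normal := Subgroup.sSup_normal _ (fun _ h => h.1)
    have hQ₀p : IsPGroup q Q₀ := Sylow.sSup_of_normal _ (fun _ h => h.2) (fun _ h => h.1)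
    set Q : Subgroup G := Q₀.map M.subtype with hQdef
    have hQM : Q ≤ M := Subgroup.map_subtype_le _
    have hQp : IsPGroup q Q := hQ₀p.map _
    have hQne : Q ≠ ⊥ := by
      intro hb
      apply hQ
      exact (Subgroup.map_eq_bot_iff_of_injective _ M.subtype_injective).mp hb
    have hMNQ : M ≤ Subgroup.normalizer (Q : Set G) := by
      intro m hm
      apply Subgroup.mem_normalizer_fintype
      rintro _ ⟨x, hx, rfl⟩
      exact ⟨(⟨m, hm⟩ : M) * x * (⟨m, hm⟩ : M)⁻¹, hQ₀n.conj_mem x hx ⟨m, hm⟩, by simp⟩
    have hNQ : Subgroup.normalizer (Q : Set G) = M := by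
      rcases hM.le_iff.mp hMNQ with h1 | h1
      · exfalso
        have hQn : Q.Normal := Subgroup.normalizer_eq_top_iff.mp h1
        have := Subgroup.normal_le_normalCore.mpr hQM
        rw [hcore] at this
        exact hQne (le_bot_iff.mp this)
      · exact h1
    constructor
    · have hfix : L ⊓ Subgroup.centralizer (Q : Set G) = ⊥ := by
        rw [eq_bot_iff, ← hinfL]
        apply inf_le_inf_left
        exact (Subgroup.centralizer_le_normalizer _).trans (le_of_eq hNQ)
      exact card_modEq_one_of_fixedPoints_trivial Q L hQp hfix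
    · rintro rfl
      -- L ⊔ Q is a normal q-subgroup
      have hLQp : IsPGroup q (L ⊔ Q : Subgroup G) := hLp.to_sup_of_normal_left hQp
      have hLQn : (L ⊔ Q : Subgroup G).Normal := by
        have : Subgroup.normalizer ((L ⊔ Q : Subgroup G) : Set G) = ⊤ := by
          rw [eq_top_iff, ← hsupL]
          apply sup_le
          · intro m hm
            apply Subgroup.mem_normalizer_fintype
            intro x hx
            have hx' : x ∈ (L ⊔ Q : Subgroup G) := hx
            have hmap : (L ⊔ Q).map (MulAut.conj m).toMonoidHom ≤ L ⊔ Q := by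
              rw [Subgroup.map_sup]
              apply sup_le_sup
              · rintro _ ⟨y, hy, rfl⟩
                exact hLn.conj_mem y hy m
              · rintro _ ⟨y, hy, rfl⟩
                exact (Subgroup.mem_normalizer_iff.mp (hMNQ hm) y).mp hy
            exact hmap ⟨x, hx', rfl⟩
          · exact le_sup_left.trans Subgroup.le_normalizer
        exact Subgroup.normalizer_eq_top_iff.mp this
      have h1 : L ⊔ Q ≤ L := hLmax _ hLQn hLQp
      have h2 : Q ≤ L ⊓ M := le_inf (le_sup_right.trans h1) hQM
      rw [hinfL] at h2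
      exact hQne (le_bot_iff.mp h2)

end Cfsg.Agent.S0587
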