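import Cfsg.Statements.S0590
import Mathlib

set_option autoImplicit false
open Cfsg

namespace Cfsg.Agent.S0590

open scoped commutatorElement

/-- Quadratic action on an elementary abelian p-group forces the acting group modulo the kernel of the action to be elementary abelian. -/
theorem result {G : Type*} [Group G] [Finite G] {p : ℕ} [Fact p.Prime] (V H : Subgroup G) (hV : Cfsg.IsElementaryAbelian p V) (hHV : H ≤ Subgroup.normalizer (V : Set G)) (hq : ⁅⁅V, H⁆, H⁆ = ⊥) : ⁅H, H⁆ ≤ Subgroup.centralizer (V : Set G) ∧ ∀ a ∈ H, a ^ p ∈ Subgroup.centralizer (V : Set G) := by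
  obtain ⟨hVc, hVp⟩ := hV
  have hcomm : ∀ x ∈ V, ∀ y ∈ V, x * y = y * x := by
    intro x hx y hy
    have := hVc.is_comm.comm ⟨x, hx⟩ ⟨y, hy⟩
    simpa [Subtype.ext_iff] using this
  -- conjugation by elements of H preserves V
  have hconj : ∀ a ∈ H, ∀ v ∈ V, a * v * a⁻¹ ∈ V := by
    intro a ha v hv
    exact (Subgroup.mem_normalizer_iff.mp (hHV ha) v).mp hv
  -- w a v = a v a⁻¹ v⁻¹ is in V and centralized by H
  have hwV : ∀ a ∈ H, ∀ v ∈ V, a * v * a⁻¹ * v⁻¹ ∈ V := by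
    intro a ha v hv
    exact V.mul_mem (hconj a ha v hv) (V.inv_mem hv)
  have hwC : ∀ a ∈ H, ∀ v ∈ V, ∀ b ∈ H, b * (a * v * a⁻¹ * v⁻¹) = (a * v * a⁻¹ * v⁻¹) * b := by
    intro a ha v hv b hb
    have h1 : ⁅v, a⁆ ∈ ⁅V, H⁆ := Subgroup.commutator_mem_commutator hv ha
    have h2 : ⁅V, H⁆ ≤ Subgroup.centralizer (H : Set G) :=
      Subgroup.commutator_eq_bot_iff_le_centralizer.mp hq
    have h3 := Subgroup.mem_centralizer_iff.mp (h2 h1) b hb
    have h4 : a * v * a⁻¹ * v⁻¹ = ⁅v, a⁆⁻¹ := by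
      simp [commutatorElement_def, mul_assoc]
    rw [h4]
    have : b * ⁅v, a⁆⁻¹ = ⁅v, a⁆⁻¹ * (⁅v, a⁆ * b) * ⁅v, a⁆⁻¹ := by group
    rw [this, ← h3]; group
  have key : ∀ a ∈ H, ∀ b ∈ H, ∀ v ∈ V, (a * b) * v * (a * b)⁻¹ = (b * a) * v * (b * a)⁻¹ := by
    intro a ha b hb v hv
    have e1 : (a * b) * v * (a * b)⁻¹ = (a * (b * v * b⁻¹ * v⁻¹) * a⁻¹) * (a * v * a⁻¹ * v⁻¹) * v := by
      group
    have e2 : (b * a) * v * (b * a)⁻¹ = (b * (a * v * a⁻¹ * v⁻¹) * b⁻¹) * (b * v * b⁻¹ * v⁻¹) * v := by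
      group
    have c1 : a * (b * v * b⁻¹ * v⁻¹) * a⁻¹ = b * v * b⁻¹ * v⁻¹ := by
      rw [hwC b hb v hv a ha]; group
    have c2 : b * (a * v * a⁻¹ * v⁻¹) * b⁻¹ = a * v * a⁻¹ * v⁻¹ := by
      rw [hwC a ha v hv b hb]; group
    rw [e1, e2, c1, c2, hcomm _ (hwV b hb v hv) _ (hwV a ha v hv)]
  constructor
  · rw [Subgroup.commutator_le]
    intro a ha b hb
    rw [Subgroup.mem_centralizer_iff]
    intro v hv
    have hv' : (b * a)⁻¹ * v * (b * a) ∈ V := by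
      have := hconj (b * a)⁻¹ (H.inv_mem (H.mul_mem hb ha)) v hv
      simpa using this
    have := key a ha b hb _ hv'
    have e : b * a * ((b * a)⁻¹ * v * (b * a)) * (b * a)⁻¹ = v := by group
    rw [e] at this
    have e2 : ⁅a, b⁆ = (a * b) * (b * a)⁻¹ := by
      simp [commutatorElement_def, mul_assoc]
    rw [e2]
    calc v * (a * b * (b * a)⁻¹) = (a * b * ((b * a)⁻¹ * v * (b * a)) * (a * b)⁻¹) * (a * b * (b * a)⁻¹) := by
          rw [this]
      _ = a * b * (b * a)⁻¹ * v := by group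
  · intro a ha
    rw [Subgroup.mem_centralizer_iff]
    intro v hv
    have hpow : ∀ n : ℕ, a ^ n * v * (a ^ n)⁻¹ = (a * v * a⁻¹ * v⁻¹) ^ n * v := by
      intro n
      induction n with
      | zero => simp
      | succ n ih =>
        have e1 : a ^ (n + 1) * v * (a ^ (n + 1))⁻¹ = a * (a ^ n * v * (a ^ n)⁻¹) * a⁻¹ := by
          rw [pow_succ']; group
        rw [e1, ih]
        have c : a * (a * v * a⁻¹ * v⁻¹) ^ n = (a * v * a⁻¹ * v⁻¹) ^ n * a := by
          have := hwC a ha v hv a ha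
          exact (Commute.pow_right (show Commute a (a * v * a⁻¹ * v⁻¹) from this) n)
        calc a * ((a * v * a⁻¹ * v⁻¹) ^ n * v) * a⁻¹
            = (a * (a * v * a⁻¹ * v⁻¹) ^ n) * v * a⁻¹ := by group
          _ = (a * v * a⁻¹ * v⁻¹) ^ n * a * v * a⁻¹ := by rw [c]
          _ = (a * v * a⁻¹ * v⁻¹) ^ n * (a * v * a⁻¹ * v⁻¹) * v := by group
          _ = (a * v * a⁻¹ * v⁻¹) ^ (n + 1) * v := by rw [pow_succ]
    have h1 := hpow p
    rw [hVp _ (hwV a ha v hv), one_mul] at h1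
    calc v * a ^ p = (a ^ p * v * (a ^ p)⁻¹) * a ^ p := by rw [h1]
      _ = a ^ p * v := by group

end Cfsg.Agent.S0590
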