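import Cfsg.Statements.S0591
import Mathlib

set_option autoImplicit false
open Cfsg

namespace Cfsg.Agent.S0591

open scoped commutatorElement

theorem centralizer_zpowers {G : Type*} [Group G] (a : G) :
    Subgroup.centralizer (Subgroup.zpowers a : Set G) = Subgroup.centralizer {a} := by
  rw [Subgroup.zpowers_eq_closure, Subgroup.centralizer_closure]

/-- For a quadratically acting element a on an elementary abelian p-group V, the fixed points C_V(a) have order at least the square root of the order of V. -/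
theorem result {G : Type*} [Group G] [Finite G] {p : ℕ} [Fact p.Prime] (V : Subgroup G) (hV : Cfsg.IsElementaryAbelian p V) (a : G) (ha : a ∈ Subgroup.normalizer (V : Set G)) (hq : ⁅⁅V, Subgroup.zpowers a⁆, Subgroup.zpowers a⁆ = ⊥) : Nat.card V ≤ Nat.card ↥(V ⊓ Subgroup.centralizer (Subgroup.zpowers a : Set G)) ^ 2 := by
  obtain ⟨hVc, hVp⟩ := hV
  have hcomm : ∀ x ∈ V, ∀ y ∈ V, x * y = y * x := isMulCommutative_iff_of_setLike.mp hVc
  have hconj : ∀ v ∈ V, a * v * a⁻¹ ∈ V := fun v hv => (Subgroup.mem_normalizer_iff.mp ha v).mp hv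
  have hwV : ∀ v ∈ V, a * v * a⁻¹ * v⁻¹ ∈ V := fun v hv => V.mul_mem (hconj v hv) (V.inv_mem hv)
  rw [centralizer_zpowers] at *
  -- the homomorphism v ↦ [a, v]
  let f : V →* V :=
    { toFun := fun v => ⟨a * v * a⁻¹ * (v : G)⁻¹, hwV v v.2⟩
      map_one' := by apply Subtype.ext; simp
      map_mul' := by
        intro v w
        apply Subtype.ext
        show a * ((v : G) * w) * a⁻¹ * ((v : G) * w)⁻¹ = (a * v * a⁻¹ * (v : G)⁻¹) * (a * w * a⁻¹ * (w : G)⁻¹)
        have e1 : a * ((v : G) * w) * a⁻¹ * ((v : G) * w)⁻¹ = (a * v * a⁻¹) * ((a * w * a⁻¹ * (w : G)⁻¹) * (v : G)⁻¹) := by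
          group
        rw [e1, hcomm _ (hwV w w.2) _ (V.inv_mem v.2)]
        group }
  have hker : f.ker.map V.subtype ≤ V ⊓ Subgroup.centralizer ({a} : Set G) := by
    rintro _ ⟨v, hv, rfl⟩
    refine ⟨v.2, ?_⟩
    show (v : G) ∈ Subgroup.centralizer ({a} : Set G)
    rw [Subgroup.mem_centralizer_singleton_iff]
    have h1 : a * v * a⁻¹ * (v : G)⁻¹ = 1 := congrArg Subtype.val (MonoidHom.mem_ker.mp hv)
    have h2 : a * (v : G) = (a * v * a⁻¹ * (v : G)⁻¹) * v * a := by group
    rw [h2, h1, one_mul]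
  have hrange : f.range.map V.subtype ≤ V ⊓ Subgroup.centralizer ({a} : Set G) := by
    rintro _ ⟨_, ⟨v, rfl⟩, rfl⟩
    refine ⟨hwV v v.2, ?_⟩
    show a * v * a⁻¹ * (v : G)⁻¹ ∈ Subgroup.centralizer ({a} : Set G)
    have h1 : ⁅(v : G), a⁆ ∈ ⁅V, Subgroup.zpowers a⁆ :=
      Subgroup.commutator_mem_commutator v.2 (Subgroup.mem_zpowers a)
    have h2 : ⁅V, Subgroup.zpowers a⁆ ≤ Subgroup.centralizer (Subgroup.zpowers a : Set G) :=
      Subgroup.commutator_eq_bot_iff_le_centralizer.mp hq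
    have h3 := h2 h1
    rw [centralizer_zpowers] at h3
    have h4 : a * v * a⁻¹ * (v : G)⁻¹ = ⁅(v : G), a⁆⁻¹ := by
      simp [commutatorElement_def, mul_assoc]
    rw [h4]
    exact Subgroup.inv_mem _ h3
  have c1 : Nat.card f.ker ≤ Nat.card ↥(V ⊓ Subgroup.centralizer ({a} : Set G)) := by
    rw [← Subgroup.card_map_of_injective (K := f.ker) V.subtype_injective]
    exact Subgroup.card_le_of_le hker
  have c2 : Nat.card f.range ≤ Nat.card ↥(V ⊓ Subgroup.centralizer ({a} : Set G)) := by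
    rw [← Subgroup.card_map_of_injective (K := f.range) V.subtype_injective]
    exact Subgroup.card_le_of_le hrange
  have c3 : Nat.card f.ker * Nat.card f.range = Nat.card V := by
    rw [← Subgroup.index_ker]
    exact Subgroup.card_mul_index _
  rw [← c3, pow_two]
  exact Nat.mul_le_mul c1 c2

end Cfsg.Agent.S0591
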