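import Cfsg.Statements.S0594
import Cfsg.Agent.Lib.Helper35.GenFinal
import Cfsg.Agent.Lib.Helper35.PStabMain
import Cfsg.Agent.Lib.Helper53.SolvPSolv
import Cfsg.Agent.Lib.Helper54.PSolvExt

set_option autoImplicit false
open Cfsg

namespace Cfsg.Agent.S0594

open Cfsg.Agent.Lib.Helper35 Cfsg.Agent.Lib.Helper35.PStab Cfsg.Agent.Lib.Helper35.GenQuad
  Cfsg.Agent.Lib.Helper76 Cfsg.Agent.Lib.Helper22
open scoped commutatorElement

/-- For odd p, two quadratic generators of a faithful group that is not a p-group, one of which acts nontrivially on a normal subgroup of order prime to p, force p = 3 and a section isomorphic to SL(2,3). -/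
theorem result {G : Type*} [Group G] [Finite G] {p : ℕ} [Fact p.Prime] (hp : p ≠ 2) (V H : Subgroup G) (hV : Cfsg.IsElementaryAbelian p V) (hHV : H ≤ Subgroup.normalizer (V : Set G)) (hf : H ⊓ Subgroup.centralizer (V : Set G) = ⊥) (a b : G) (hab : H = Subgroup.closure {a, b}) (ha : ⁅⁅V, Subgroup.zpowers a⁆, Subgroup.zpowers a⁆ = ⊥) (hb : ⁅⁅V, Subgroup.zpowers b⁆, Subgroup.zpowers b⁆ = ⊥) (hnp : ¬ IsPGroup p H) (Q : Subgroup G) (hQH : Q ≤ H) (hQn : H ≤ Subgroup.normalizer (Q : Set G)) (hQ : (Nat.card Q).Coprime p) (hQa : ⁅Q, Subgroup.zpowers a⁆ ≠ ⊥) : p = 3 ∧ ∃ (K L : Subgroup G) (hL : (L.subgroupOf K).Normal), K ≤ H ∧ Nonempty ((K ⧸ L.subgroupOf K) ≃* Matrix.SpecialLinearGroup (Fin 2) (ZMod 3)) := by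
  have haH : a ∈ H := by rw [hab]; exact Subgroup.subset_closure (by simp)
  have haq := quad_of_commutator V (Subgroup.zpowers a) ha a (Subgroup.mem_zpowers a)
  have hap : a ^ p = 1 := pow_eq_one_of_quad V H hV hHV hf a haH haq
  -- an element of `Q` not commuting with `a`
  obtain ⟨x₀, hx₀, hx₀a⟩ : ∃ x₀ ∈ Q, x₀ * a ≠ a * x₀ := by
    by_contra hcon
    push Not at hcon
    apply hQa
    rw [Subgroup.commutator_eq_bot_iff_le_centralizer]
    intro x hx
    rw [Subgroup.mem_centralizer_iff]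
    intro y hy
    obtain ⟨k, rfl⟩ := Subgroup.mem_zpowers_iff.mp hy
    exact ((Commute.zpow_right (hcon x hx) k).eq).symm
  obtain ⟨b', hb'⟩ : ∃ b' : G, b' = x₀ * a * x₀⁻¹ := ⟨_, rfl⟩
  obtain ⟨H₁, hH₁⟩ : ∃ H₁ : Subgroup G, H₁ = Subgroup.closure {a, b'} := ⟨_, rfl⟩
  have hx₀H : x₀ ∈ H := hQH hx₀
  have hb'H : b' ∈ H := by rw [hb']; exact H.mul_mem (H.mul_mem hx₀H haH) (H.inv_mem hx₀H)
  have hH₁H : H₁ ≤ H := by
    rw [hH₁, Subgroup.closure_le]
    rintro x (rfl | hx)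
    · exact haH
    · rw [Set.mem_singleton_iff] at hx
      rw [hx]; exact hb'H
  have hb'q : ∀ v ∈ V, ⁅b', ⁅b', v⁆⁆ = 1 := by
    rw [hb']
    exact quad_conj V x₀ a (hHV hx₀H) haq
  have haH₁ : a ∈ H₁ := by rw [hH₁]; exact Subgroup.subset_closure (by simp)
  have hb'H₁ : b' ∈ H₁ := by rw [hH₁]; exact Subgroup.subset_closure (by simp)
  -- the element `c = b' a⁻¹` of `Q`
  obtain ⟨c, hc⟩ : ∃ c : G, c = b' * a⁻¹ := ⟨_, rfl⟩
  have hcQ : c ∈ Q := by
    have h1 : a * x₀⁻¹ * a⁻¹ ∈ Q :=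
      (Subgroup.mem_normalizer_iff.mp (hQn haH) _).mp (Q.inv_mem hx₀)
    have : c = x₀ * (a * x₀⁻¹ * a⁻¹) := by rw [hc, hb']; group
    rw [this]
    exact Q.mul_mem hx₀ h1
  have hcH₁ : c ∈ H₁ := by rw [hc]; exact H₁.mul_mem hb'H₁ (H₁.inv_mem haH₁)
  have hc1 : c ≠ 1 := by
    intro h
    apply hx₀a
    have h1 : b' = a := by
      have : b' = c * a := by rw [hc]; group
      rw [this, h, one_mul]
    rw [hb'] at h1
    calc x₀ * a = (x₀ * a * x₀⁻¹) * x₀ := by group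
      _ = a * x₀ := by rw [h1]
  have hcord : (orderOf c).Coprime p := by
    have h1 : orderOf c ∣ Nat.card Q := by
      have := orderOf_dvd_natCard (⟨c, hcQ⟩ : Q)
      rwa [Subgroup.orderOf_mk] at this
    exact Nat.Coprime.coprime_dvd_left h1 hQ
  have hnp₁ : ¬ IsPGroup p ↥H₁ := by
    intro h
    obtain ⟨k, hk⟩ := h ⟨c, hcH₁⟩
    have hk' : c ^ (p ^ k) = 1 := by
      have := congrArg Subtype.val hk
      simpa using this
    have h1 : orderOf c ∣ p ^ k := orderOf_dvd_of_pow_eq_one hk'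
    have h2 : orderOf c = 1 :=
      Nat.eq_one_of_dvd_coprimes (Nat.Coprime.pow_right k hcord) dvd_rfl h1
    exact hc1 (orderOf_eq_one_iff.mp h2)
  -- `H₁` is `p`-solvable
  have hsol : IsPSolvable p ↥H₁ := by
    obtain ⟨M, hM⟩ : ∃ M : Subgroup ↥H₁, M = Q.subgroupOf H₁ := ⟨_, rfl⟩
    have hMn : M.Normal := by
      rw [hM]
      constructor
      intro n hn g
      rw [Subgroup.mem_subgroupOf] at hn ⊢
      have := (Subgroup.mem_normalizer_iff.mp (hQn (hH₁H g.2)) _).mp hn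
      simpa using this
    have hMc : (Nat.card M).Coprime p := by
      have h1 : Nat.card M ∣ Nat.card Q := by
        rw [hM]
        let f : ↥(Q.subgroupOf H₁) →* Q := MonoidHom.codRestrict
          (H₁.subtype.comp (Q.subgroupOf H₁).subtype) Q (fun n => Subgroup.mem_subgroupOf.mp n.2)
        apply Subgroup.card_dvd_of_injective f
        intro n n' h
        have h2 := congrArg Subtype.val h
        exact Subtype.ext (Subtype.ext h2)
      exact Nat.Coprime.coprime_dvd_left h1 hQ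
    have hgen₁ := closure_pair_eq_top H₁ a b' hH₁ haH₁ hb'H₁
    have hπ : Function.Surjective (QuotientGroup.mk' M) := QuotientGroup.mk'_surjective M
    have hπc : QuotientGroup.mk' M ⟨c, hcH₁⟩ = 1 := by
      rw [QuotientGroup.mk'_apply, QuotientGroup.eq_one_iff, hM, Subgroup.mem_subgroupOf]
      exact hcQ
    have hπb : QuotientGroup.mk' M ⟨b', hb'H₁⟩ = QuotientGroup.mk' M ⟨a, haH₁⟩ := by
      have : (⟨b', hb'H₁⟩ : ↥H₁) = ⟨c, hcH₁⟩ * ⟨a, haH₁⟩ := by
        apply Subtype.ext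
        show b' = c * a
        rw [hc]; group
      rw [this, map_mul, hπc, one_mul]
    have htop : Subgroup.zpowers (QuotientGroup.mk' M ⟨a, haH₁⟩) = ⊤ := by
      have h1 := MonoidHom.map_closure (QuotientGroup.mk' M) {⟨a, haH₁⟩, ⟨b', hb'H₁⟩}
      rw [hgen₁, Subgroup.map_top_of_surjective _ hπ, Set.image_pair, hπb, Set.pair_eq_singleton,
        ← Subgroup.zpowers_eq_closure] at h1
      exact h1.symm
    have hπap : (QuotientGroup.mk' M ⟨a, haH₁⟩) ^ p = 1 := by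
      rw [← map_pow]
      have : (⟨a, haH₁⟩ : ↥H₁) ^ p = 1 := by
        apply Subtype.ext
        simpa using hap
      rw [this, map_one]
    have hQp : IsPGroup p (↥H₁ ⧸ M) := by
      intro y
      have hy : y ∈ Subgroup.zpowers (QuotientGroup.mk' M ⟨a, haH₁⟩) := by
        rw [htop]; exact Subgroup.mem_top y
      obtain ⟨k, rfl⟩ := Subgroup.mem_zpowers_iff.mp hy
      refine ⟨1, ?_⟩
      rw [pow_one, ← zpow_natCast, ← zpow_mul, mul_comm, zpow_mul, zpow_natCast, hπap, one_zpow]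
    exact Cfsg.Agent.Lib.Helper53.isPSolvable_of_normal_quotient M (Or.inr hMc)
      (Cfsg.Agent.Lib.Helper54.isPSolvable_of_isPGroup p hQp)
  have hf₁ : H₁ ⊓ Subgroup.centralizer (V : Set G) = ⊥ := by
    rw [eq_bot_iff, ← hf]
    exact inf_le_inf_right _ hH₁H
  obtain ⟨h3, K, L, hL, hK, hiso⟩ := two_quad_psolv_internal hp V H₁ hV (hH₁H.trans hHV) hf₁ a b'
    hH₁ haq hb'q hnp₁ hsol
  exact ⟨h3, K, L, hL, hK.trans hH₁H, hiso⟩

end Cfsg.Agent.S0594
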