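import Cfsg.Statements.S0596
import Cfsg.Agent.Lib.Helper35.GenFinal
import Cfsg.Agent.S0199
import Cfsg.Agent.Lib.Helper35.PStabMain

set_option autoImplicit false
open Cfsg

namespace Cfsg.Agent.S0596

open Cfsg.Agent.Lib.Helper35 Cfsg.Agent.Lib.Helper35.PStab Cfsg.Agent.Lib.Helper35.GenQuad
  Cfsg.Agent.Lib.Helper76 Cfsg.Agent.Lib.Helper22
open scoped commutatorElement

/-- For odd p, a p-separable group with a faithful action on an elementary abelian p-group that is not p-stable has p = 3 and involves SL(2,3). -/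
theorem result {G : Type*} [Group G] [Finite G] {p : ℕ} [Fact p.Prime] (hp : p ≠ 2) (V H : Subgroup G) (hV : Cfsg.IsElementaryAbelian p V) (hHV : H ≤ Subgroup.normalizer (V : Set G)) (hf : H ⊓ Subgroup.centralizer (V : Set G) = ⊥) (hsep : Cfsg.IsPSolvable p H) (a : G) (haH : a ∈ H) (hq : ⁅⁅V, Subgroup.zpowers a⁆, Subgroup.zpowers a⁆ = ⊥) (hna : a ∉ (Cfsg.pCore p H).map H.subtype) : p = 3 ∧ ∃ (K L : Subgroup G) (hL : (L.subgroupOf K).Normal), K ≤ H ∧ Nonempty ((K ⧸ L.subgroupOf K) ≃* Matrix.SpecialLinearGroup (Fin 2) (ZMod 3)) := by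
  have ha := quad_of_commutator V (Subgroup.zpowers a) hq a (Subgroup.mem_zpowers a)
  have hap : a ^ p = 1 := pow_eq_one_of_quad V H hV hHV hf a haH ha
  -- Baer–Suzuki inside `H`
  obtain ⟨a', ha'⟩ : ∃ a' : ↥H, a' = ⟨a, haH⟩ := ⟨_, rfl⟩
  have ha'p : a' ^ p = 1 := by
    rw [ha']
    apply Subtype.ext
    simpa using hap
  have hX₀ : IsPGroup p ↥(Subgroup.zpowers a') := by
    rintro ⟨x, hx⟩
    obtain ⟨k, rfl⟩ := Subgroup.mem_zpowers_iff.mp hx
    refine ⟨1, ?_⟩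
    apply Subtype.ext
    simp only [Subgroup.coe_pow, Subgroup.coe_one, pow_one]
    rw [← zpow_natCast, ← zpow_mul, mul_comm, zpow_mul, zpow_natCast, ha'p, one_zpow]
  have hBS : ∃ g : ↥H, ¬ IsPGroup p
      ↥(Subgroup.zpowers a' ⊔ (Subgroup.zpowers a').map (MulAut.conj g).toMonoidHom) := by
    by_contra hcon
    push Not at hcon
    obtain ⟨N, hNn, hNp, hXN⟩ := Cfsg.Agent.S0199.result (Subgroup.zpowers a') hX₀ hcon
    have h1 : N ≤ pCore p ↥H := le_pCore' hNn hNp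
    apply hna
    exact ⟨a', h1 (hXN (Subgroup.mem_zpowers a')), by rw [ha']; rfl⟩
  obtain ⟨g, hg⟩ := hBS
  obtain ⟨b, hb⟩ : ∃ b : G, b = (g : G) * a * (g : G)⁻¹ := ⟨_, rfl⟩
  obtain ⟨H₁, hH₁⟩ : ∃ H₁ : Subgroup G, H₁ = Subgroup.closure {a, b} := ⟨_, rfl⟩
  have hbH : b ∈ H := by rw [hb]; exact H.mul_mem (H.mul_mem g.2 haH) (H.inv_mem g.2)
  have hH₁H : H₁ ≤ H := by
    rw [hH₁, Subgroup.closure_le]
    rintro x (rfl | hx)
    · exact haH
    · rw [Set.mem_singleton_iff] at hx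
      rw [hx]; exact hbH
  have hbq : ∀ v ∈ V, ⁅b, ⁅b, v⁆⁆ = 1 := by
    rw [hb]
    exact quad_conj V (g : G) a (hHV g.2) ha
  -- `H₁` is not a `p`-group
  have hD : Subgroup.zpowers a' ⊔ (Subgroup.zpowers a').map (MulAut.conj g).toMonoidHom =
      Subgroup.closure {a', g * a' * g⁻¹} := by
    rw [MonoidHom.map_zpowers, Subgroup.zpowers_eq_closure, Subgroup.zpowers_eq_closure,
      ← Subgroup.closure_union]
    rfl
  have hmapD : (Subgroup.closure {a', g * a' * g⁻¹}).map H.subtype = H₁ := by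
    rw [MonoidHom.map_closure, Set.image_pair, hH₁, hb, ha']
    rfl
  have hnp : ¬ IsPGroup p ↥H₁ := by
    intro h
    apply hg
    rw [hD]
    rintro ⟨d, hd⟩
    have hdH₁ : ((d : ↥H) : G) ∈ H₁ := by
      rw [← hmapD]
      exact ⟨d, hd, rfl⟩
    obtain ⟨k, hk⟩ := h ⟨(d : G), hdH₁⟩
    refine ⟨k, ?_⟩
    apply Subtype.ext
    apply Subtype.ext
    have := congrArg Subtype.val hk
    simpa using this
  have hsol : IsPSolvable p ↥H₁ :=
    isPSolvable_of_mulEquiv (Subgroup.subgroupOfEquivOfLe hH₁H)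
      (isPSolvable_subgroup (H₁.subgroupOf H) hsep)
  have hf₁ : H₁ ⊓ Subgroup.centralizer (V : Set G) = ⊥ := by
    rw [eq_bot_iff, ← hf]
    exact inf_le_inf_right _ hH₁H
  obtain ⟨h3, K, L, hL, hK, hiso⟩ := two_quad_psolv_internal hp V H₁ hV (hH₁H.trans hHV) hf₁ a b
    hH₁ ha hbq hnp hsol
  exact ⟨h3, K, L, hL, hK.trans hH₁H, hiso⟩

end Cfsg.Agent.S0596
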