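import Cfsg.Statements.S0597
import Mathlib
import Cfsg.Agent.Lib.Helper46.Subnormal
import Cfsg.Agent.Lib.Helper91.Wielandt

set_option autoImplicit false
open Cfsg

namespace Cfsg.Agent.S0597

open scoped commutatorElement

/-- the commutator of two subgroups is normalised by the first -/
theorem commutator_le_normalizer_left {G : Type*} [Group G] (A B : Subgroup G) :
    A ≤ Subgroup.normalizer ((⁅A, B⁆ : Subgroup G) : Set G) := by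
  apply Cfsg.Agent.Lib.Helper46.le_normalizer_of_conj_mem
  intro a ha x hx
  have hle : (⁅A, B⁆ : Subgroup G) ≤ (⁅A, B⁆ : Subgroup G).comap (MulAut.conj a).toMonoidHom := by
    rw [Subgroup.commutator_le]
    intro a' ha' b hb
    rw [Subgroup.mem_comap]
    show a * ⁅a', b⁆ * a⁻¹ ∈ ⁅A, B⁆
    have e : a * ⁅a', b⁆ * a⁻¹ = ⁅a * a', b⁆ * ⁅a, b⁆⁻¹ := by
      simp only [commutatorElement_def]; group
    rw [e]
    exact Subgroup.mul_mem _ (Subgroup.commutator_mem_commutator (A.mul_mem ha ha') hb)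
      (Subgroup.inv_mem _ (Subgroup.commutator_mem_commutator ha hb))
  exact hle hx

/-- the commutator of two subgroups is normalised by the second -/
theorem commutator_le_normalizer_right {G : Type*} [Group G] (A B : Subgroup G) :
    B ≤ Subgroup.normalizer ((⁅A, B⁆ : Subgroup G) : Set G) := by
  rw [Subgroup.commutator_comm]
  exact commutator_le_normalizer_left B A

/-- the stabiliser of the chain `V ≥ W ≥ 1` -/
def chainStab {G : Type*} [Group G] (V W : Subgroup G) : Subgroup G where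
  carrier := {g | (∀ v ∈ V, g * v * g⁻¹ * v⁻¹ ∈ W) ∧ ∀ w ∈ W, g * w = w * g}
  one_mem' := by
    refine ⟨fun v _ => ?_, fun w _ => by simp⟩
    have : (1 : G) * v * 1⁻¹ * v⁻¹ = 1 := by group
    rw [this]; exact W.one_mem
  mul_mem' := by
    rintro g h ⟨hg1, hg2⟩ ⟨hh1, hh2⟩
    refine ⟨fun v hv => ?_, fun w hw => ?_⟩
    · have e : g * h * v * (g * h)⁻¹ * v⁻¹ =
          (g * (h * v * h⁻¹ * v⁻¹) * g⁻¹) * (g * v * g⁻¹ * v⁻¹) := by group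
      rw [e]
      have e2 : g * (h * v * h⁻¹ * v⁻¹) * g⁻¹ = h * v * h⁻¹ * v⁻¹ := by
        rw [hg2 _ (hh1 v hv)]; group
      rw [e2]
      exact W.mul_mem (hh1 v hv) (hg1 v hv)
    · calc g * h * w = g * (h * w) := by group
        _ = g * (w * h) := by rw [hh2 w hw]
        _ = (g * w) * h := by group
        _ = (w * g) * h := by rw [hg2 w hw]
        _ = w * (g * h) := by group
  inv_mem' := by
    rintro g ⟨hg1, hg2⟩
    have hinv : ∀ w ∈ W, g⁻¹ * w = w * g⁻¹ := by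
      intro w hw
      calc g⁻¹ * w = g⁻¹ * (w * g) * g⁻¹ := by group
        _ = g⁻¹ * (g * w) * g⁻¹ := by rw [hg2 w hw]
        _ = w * g⁻¹ := by group
    refine ⟨fun v hv => ?_, hinv⟩
    have hu : (g * v * g⁻¹ * v⁻¹)⁻¹ ∈ W := W.inv_mem (hg1 v hv)
    have e : g⁻¹ * v * g⁻¹⁻¹ * v⁻¹ = g⁻¹ * (g * v * g⁻¹ * v⁻¹)⁻¹ * g := by group
    rw [e, hinv _ hu]
    have e2 : (g * v * g⁻¹ * v⁻¹)⁻¹ * g⁻¹ * g = (g * v * g⁻¹ * v⁻¹)⁻¹ := by group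
    rw [e2]; exact hu

theorem mem_chainStab {G : Type*} [Group G] (V W : Subgroup G) (g : G) :
    g ∈ chainStab V W ↔ (∀ v ∈ V, g * v * g⁻¹ * v⁻¹ ∈ W) ∧ ∀ w ∈ W, g * w = w * g := Iff.rfl

theorem pow_conj_of_mem_chainStab {G : Type*} [Group G] (V W : Subgroup G) (x : G)
    (hx : x ∈ chainStab V W) (v : G) (hv : v ∈ V) (k : ℕ) :
    x ^ k * v * (x ^ k)⁻¹ = (x * v * x⁻¹ * v⁻¹) ^ k * v := by
  obtain ⟨h1, h2⟩ := hx
  have hw := h1 v hv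
  have hwk : ∀ k : ℕ, x * (x * v * x⁻¹ * v⁻¹) ^ k = (x * v * x⁻¹ * v⁻¹) ^ k * x := by
    intro k
    exact h2 _ (W.pow_mem hw k)
  induction k with
  | zero => simp
  | succ k ih =>
    calc x ^ (k + 1) * v * (x ^ (k + 1))⁻¹ = x * (x ^ k * v * (x ^ k)⁻¹) * x⁻¹ := by
          rw [pow_succ']; group
      _ = x * ((x * v * x⁻¹ * v⁻¹) ^ k * v) * x⁻¹ := by rw [ih]
      _ = (x * (x * v * x⁻¹ * v⁻¹) ^ k) * v * x⁻¹ := by group
      _ = ((x * v * x⁻¹ * v⁻¹) ^ k * x) * v * x⁻¹ := by rw [hwk k]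
      _ = (x * v * x⁻¹ * v⁻¹) ^ k * (x * v * x⁻¹ * v⁻¹) * v := by group
      _ = (x * v * x⁻¹ * v⁻¹) ^ (k + 1) * v := by rw [pow_succ]

/-- If two subnormal subgroups of a faithful group on an elementary abelian p-group satisfy [V, E₁, E₂] = 1, then their commutator lies in the largest normal p-subgroup. -/
theorem result {G : Type*} [Group G] [Finite G] {p : ℕ} [Fact p.Prime] (V H : Subgroup G) (hV : Cfsg.IsElementaryAbelian p V) (hHV : H ≤ Subgroup.normalizer (V : Set G)) (hf : H ⊓ Subgroup.centralizer (V : Set G) = ⊥) (E₁ E₂ : Subgroup G) (h₁ : E₁ ≤ H) (h₂ : E₂ ≤ H) (hs₁ : (E₁.subgroupOf H).IsSubnormal) (hs₂ : (E₂.subgroupOf H).IsSubnormal) (hc : ⁅⁅V, E₁⁆, E₂⁆ = ⊥) : ⁅E₁, E₂⁆ ≤ (Cfsg.pCore p H).map H.subtype := by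
  obtain ⟨hVc, hVp⟩ := hV
  set W : Subgroup G := ⁅V, E₁⁆ with hW
  have hNV : ∀ h ∈ H, ∀ v ∈ V, h * v * h⁻¹ ∈ V := fun h hh v hv =>
    Cfsg.Agent.Lib.Helper46.conj_mem_of_le_normalizer hHV hh hv
  have hWV : W ≤ V := by
    rw [hW, Subgroup.commutator_le]
    intro v hv e he
    rw [commutatorElement_def]
    have := hNV e (h₁ he) v⁻¹ (V.inv_mem hv)
    have e1 : v * e * v⁻¹ * e⁻¹ = v * (e * v⁻¹ * e⁻¹) := by group
    rw [e1]; exact V.mul_mem hv this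
  have hE₁W : ∀ e ∈ E₁, ∀ w ∈ W, e * w * e⁻¹ ∈ W := fun e he w hw =>
    Cfsg.Agent.Lib.Helper46.conj_mem_of_le_normalizer (commutator_le_normalizer_right V E₁) he hw
  have hE₂W : ∀ e ∈ E₂, ∀ w ∈ W, e * w = w * e := by
    have := Subgroup.commutator_eq_bot_iff_le_centralizer.mp hc
    intro e he w hw
    exact (Subgroup.mem_centralizer_iff.mp (this hw)) e he
  have hcomW : ∀ e ∈ E₁, ∀ v ∈ V, e * v * e⁻¹ * v⁻¹ ∈ W := by
    intro e he v hv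
    rw [hW, Subgroup.commutator_comm, ← commutatorElement_def]
    exact Subgroup.commutator_mem_commutator he hv
  -- the commutators lie in the chain stabiliser
  have hgen : ∀ e₁ ∈ E₁, ∀ e₂ ∈ E₂, ⁅e₁, e₂⁆ ∈ chainStab V W := by
    intro e₁ he₁ e₂ he₂
    rw [mem_chainStab, commutatorElement_def]
    constructor
    · intro v hv
      have hv' : e₂⁻¹ * v * e₂⁻¹⁻¹ ∈ V := hNV e₂⁻¹ (H.inv_mem (h₂ he₂)) v hv
      have hu : e₁⁻¹ * (e₂⁻¹ * v * e₂⁻¹⁻¹) * e₁⁻¹⁻¹ * (e₂⁻¹ * v * e₂⁻¹⁻¹)⁻¹ ∈ W :=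
        hcomW e₁⁻¹ (E₁.inv_mem he₁) _ hv'
      have hu2 : e₂ * (e₁⁻¹ * (e₂⁻¹ * v * e₂⁻¹⁻¹) * e₁⁻¹⁻¹ * (e₂⁻¹ * v * e₂⁻¹⁻¹)⁻¹) * e₂⁻¹
          = e₁⁻¹ * (e₂⁻¹ * v * e₂⁻¹⁻¹) * e₁⁻¹⁻¹ * (e₂⁻¹ * v * e₂⁻¹⁻¹)⁻¹ := by
        rw [hE₂W e₂ he₂ _ hu]; group
      have e : e₁ * e₂ * e₁⁻¹ * e₂⁻¹ * v * (e₁ * e₂ * e₁⁻¹ * e₂⁻¹)⁻¹ * v⁻¹ =
          (e₁ * (e₂ * (e₁⁻¹ * (e₂⁻¹ * v * e₂⁻¹⁻¹) * e₁⁻¹⁻¹ * (e₂⁻¹ * v * e₂⁻¹⁻¹)⁻¹) * e₂⁻¹) * e₁⁻¹)
            * (e₁ * v * e₁⁻¹ * v⁻¹) := by group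
      rw [e, hu2]
      exact W.mul_mem (hE₁W e₁ he₁ _ hu) (hcomW e₁ he₁ v hv)
    · intro w hw
      have hw' : e₁⁻¹ * w * e₁⁻¹⁻¹ ∈ W := hE₁W e₁⁻¹ (E₁.inv_mem he₁) w hw
      have c1 : e₂⁻¹ * w = w * e₂⁻¹ := hE₂W e₂⁻¹ (E₂.inv_mem he₂) w hw
      have c2 : e₂ * (e₁⁻¹ * w * e₁⁻¹⁻¹) = (e₁⁻¹ * w * e₁⁻¹⁻¹) * e₂ := hE₂W e₂ he₂ _ hw'
      calc e₁ * e₂ * e₁⁻¹ * e₂⁻¹ * w = e₁ * e₂ * e₁⁻¹ * (e₂⁻¹ * w) := by group
        _ = e₁ * e₂ * e₁⁻¹ * (w * e₂⁻¹) := by rw [c1]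
        _ = e₁ * (e₂ * (e₁⁻¹ * w * e₁⁻¹⁻¹)) * e₁⁻¹ * e₂⁻¹ := by group
        _ = e₁ * ((e₁⁻¹ * w * e₁⁻¹⁻¹) * e₂) * e₁⁻¹ * e₂⁻¹ := by rw [c2]
        _ = w * (e₁ * e₂ * e₁⁻¹ * e₂⁻¹) := by group
  have hDX : ⁅E₁, E₂⁆ ≤ chainStab V W := Subgroup.commutator_le.mpr hgen
  have hDH : ⁅E₁, E₂⁆ ≤ H := by
    rw [Subgroup.commutator_le]
    intro a ha b hb
    rw [commutatorElement_def]
    exact H.mul_mem (H.mul_mem (H.mul_mem (h₁ ha) (h₂ hb)) (H.inv_mem (h₁ ha))) (H.inv_mem (h₂ hb))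
  have hDp : ∀ d ∈ ⁅E₁, E₂⁆, d ^ p = 1 := by
    intro d hd
    have hmem : d ^ p ∈ H ⊓ Subgroup.centralizer (V : Set G) := by
      refine Subgroup.mem_inf.mpr ⟨H.pow_mem (hDH hd) p, ?_⟩
      rw [Subgroup.mem_centralizer_iff]
      intro v hv
      have h1 := pow_conj_of_mem_chainStab V W d (hDX hd) v hv p
      have h2 : (d * v * d⁻¹ * v⁻¹) ^ p = 1 := hVp _ (hWV ((hDX hd).1 v hv))
      rw [h2, one_mul] at h1
      calc v * d ^ p = (d ^ p * v * (d ^ p)⁻¹)⁻¹⁻¹ * d ^ p := by rw [h1]; group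
        _ = d ^ p * v := by group
    rw [hf, Subgroup.mem_bot] at hmem
    exact hmem
  -- pass to the group `H`
  have hK : (E₁.subgroupOf H ⊔ E₂.subgroupOf H).IsSubnormal :=
    Cfsg.Agent.Lib.Helper91.isSubnormal_sup hs₁ hs₂
  have hD'K : ⁅E₁.subgroupOf H, E₂.subgroupOf H⁆ ≤ E₁.subgroupOf H ⊔ E₂.subgroupOf H := by
    rw [Subgroup.commutator_le]
    intro a ha b hb
    rw [commutatorElement_def]
    have ha' : a ∈ E₁.subgroupOf H ⊔ E₂.subgroupOf H := (le_sup_left : E₁.subgroupOf H ≤ _) ha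
    have hb' : b ∈ E₁.subgroupOf H ⊔ E₂.subgroupOf H := (le_sup_right : E₂.subgroupOf H ≤ _) hb
    exact Subgroup.mul_mem _ (Subgroup.mul_mem _ (Subgroup.mul_mem _ ha' hb')
      (Subgroup.inv_mem _ ha')) (Subgroup.inv_mem _ hb')
  have hnorm : ((⁅E₁.subgroupOf H, E₂.subgroupOf H⁆ : Subgroup H).subgroupOf
      (E₁.subgroupOf H ⊔ E₂.subgroupOf H)).Normal := by
    rw [Subgroup.normal_subgroupOf_iff_le_normalizer hD'K]
    exact sup_le (commutator_le_normalizer_left _ _) (commutator_le_normalizer_right _ _)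
  have hmap : (⁅E₁.subgroupOf H, E₂.subgroupOf H⁆ : Subgroup H).map H.subtype = ⁅E₁, E₂⁆ := by
    rw [Subgroup.map_commutator, Subgroup.map_subgroupOf_eq_of_le h₁,
      Subgroup.map_subgroupOf_eq_of_le h₂]
  have hpg : IsPGroup p (⁅E₁.subgroupOf H, E₂.subgroupOf H⁆ : Subgroup H) := by
    intro g
    refine ⟨1, ?_⟩
    have hg : ((g : H) : G) ∈ ⁅E₁, E₂⁆ := by
      rw [← hmap]
      exact Subgroup.mem_map_of_mem _ g.2
    have := hDp _ hg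
    rw [pow_one]
    apply Subtype.ext
    apply Subtype.ext
    simpa using this
  have hle := Cfsg.Agent.Lib.Helper46.subnormal_pGroup_aux (p := p) _ hK _ hD'K hnorm hpg
  rw [← hmap]
  exact Subgroup.map_mono hle

end Cfsg.Agent.S0597
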