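import Cfsg.Statements.S0599
import Mathlib
import Cfsg.Agent.Lib.Helper10.Replacement2

set_option autoImplicit false
open Cfsg

namespace Cfsg.Agent.S0599

open scoped commutatorElement
open Cfsg.Agent.Lib.Helper10

/-- if `A` acts on `V` as an elementary abelian `p`-group, a Sylow `p`-subgroup of `A` induces all
commutators `[x,a]` -/
theorem exists_pgroup_inducing {G : Type*} [Group G] [Finite G] {p : ℕ} [Fact p.Prime]
    (V A : Subgroup G) (hab : ⁅A, A⁆ ≤ Subgroup.centralizer (V : Set G))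
    (hpow : ∀ a ∈ A, a ^ p ∈ Subgroup.centralizer (V : Set G)) :
    ∃ P : Subgroup G, IsPGroup p P ∧ P ≤ A ∧
      ∀ x ∈ V, ∀ a ∈ A, ∃ y ∈ P, ⁅x, a⁆ = ⁅x, y⁆ := by
  set K : Subgroup A := (Subgroup.centralizer (V : Set G)).subgroupOf A with hK
  haveI hKn : K.Normal := by
    constructor
    intro k hk a
    rw [hK, Subgroup.mem_subgroupOf] at hk ⊢
    have h1 : ⁅(a : G), (k : G)⁆ ∈ Subgroup.centralizer (V : Set G) :=
      hab (Subgroup.commutator_mem_commutator a.2 k.2)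
    have e : ((a * k * a⁻¹ : A) : G) = ⁅(a : G), (k : G)⁆ * (k : G) := by
      simp only [Subgroup.coe_mul, Subgroup.coe_inv, commutatorElement_def]; group
    rw [e]
    exact Subgroup.mul_mem _ h1 hk
  have hQ : IsPGroup p (A ⧸ K) := by
    intro g
    obtain ⟨a, rfl⟩ := QuotientGroup.mk'_surjective K g
    refine ⟨1, ?_⟩
    rw [pow_one, ← map_pow]
    apply (QuotientGroup.eq_one_iff _).mpr
    rw [hK, Subgroup.mem_subgroupOf]
    simpa using hpow a a.2
  obtain ⟨P₀⟩ : Nonempty (Sylow p A) := inferInstance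
  have hπ : Function.Surjective (QuotientGroup.mk' K) := QuotientGroup.mk'_surjective K
  have htop : ((P₀.mapSurjective hπ : Sylow p (A ⧸ K)) : Subgroup (A ⧸ K)) = ⊤ :=
    ((P₀.mapSurjective hπ).is_maximal' (hQ.to_subgroup ⊤) le_top).symm
  rw [Sylow.coe_mapSurjective] at htop
  refine ⟨(P₀ : Subgroup A).map A.subtype, P₀.2.map _, Subgroup.map_subtype_le _, ?_⟩
  intro x hx a ha
  have hmem : QuotientGroup.mk' K ⟨a, ha⟩ ∈ (P₀ : Subgroup A).map (QuotientGroup.mk' K) := by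
    rw [htop]; exact Subgroup.mem_top _
  obtain ⟨y, hy, hya⟩ := hmem
  have hk : y⁻¹ * ⟨a, ha⟩ ∈ K := QuotientGroup.eq.mp hya
  rw [hK, Subgroup.mem_subgroupOf] at hk
  refine ⟨(y : G), ⟨y, hy, rfl⟩, ?_⟩
  have hk' : (y : G)⁻¹ * a ∈ Subgroup.centralizer (V : Set G) := by simpa using hk
  have hcomm : x⁻¹ * ((y : G)⁻¹ * a) = ((y : G)⁻¹ * a) * x⁻¹ :=
    Subgroup.mem_centralizer_iff.mp hk' x⁻¹ (V.inv_mem hx)
  simp only [commutatorElement_def]
  calc x * a * x⁻¹ * a⁻¹ = x * (y : G) * (((y : G)⁻¹ * a) * x⁻¹) * a⁻¹ := by group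
    _ = x * (y : G) * (x⁻¹ * ((y : G)⁻¹ * a)) * a⁻¹ := by rw [hcomm]
    _ = x * (y : G) * x⁻¹ * (y : G)⁻¹ := by group

/-- The Timmesfeld replacement Theorem: replacing a best offender A by C_A([U, A]) gives a best offender with fixed points [U, A]C_V(A), still nontrivial on V if A was. -/
theorem result {G : Type*} [Group G] [Finite G] {p : ℕ} [Fact p.Prime] (V A : Subgroup G) (hV : Cfsg.IsElementaryAbelian p V) (hAV : A ≤ Subgroup.normalizer (V : Set G)) (hA : Cfsg.IsBestOffenderOn p V A) (U : Subgroup G) (hU : U ≤ V) : Cfsg.IsBestOffenderOn p V (A ⊓ Subgroup.centralizer ((⁅U, A⁆ : Subgroup G) : Set G)) ∧ V ⊓ Subgroup.centralizer ((A ⊓ Subgroup.centralizer ((⁅U, A⁆ : Subgroup G) : Set G) : Subgroup G) : Set G) = ⁅U, A⁆ ⊔ (V ⊓ Subgroup.centralizer (A : Set G)) ∧ (⁅V, A⁆ ≠ ⊥ → ⁅V, A ⊓ Subgroup.centralizer ((⁅U, A⁆ : Subgroup G) : Set G)⁆ ≠ ⊥) := by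
  obtain ⟨hmax', hab, hpow⟩ := hA
  have hctx : ReplCtx V A := ⟨elemAb_comm hV, hAV, hab⟩
  have hmax : ∀ B : Subgroup G, B ≤ A → offVal V B ≤ offVal V A := hmax'
  obtain ⟨r1, r2⟩ := hctx.replProp_of_max hmax hU
  set B : Subgroup G := A ⊓ Subgroup.centralizer ((⁅U, A⁆ : Subgroup G) : Set G) with hB
  have hBA : B ≤ A := inf_le_left
  refine ⟨⟨?_, ?_, ?_⟩, r1, ?_⟩
  · intro B' hB'
    have := hmax B' (hB'.trans hBA)
    unfold offVal at this r2
    rw [r2] at this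
    exact this
  · exact (Subgroup.commutator_mono hBA hBA).trans hab
  · intro b hb
    exact hpow b (hBA hb)
  · intro hXne hbot
    apply hXne
    rw [Subgroup.commutator_eq_bot_iff_le_centralizer] at hbot
    have hVle : V ≤ ⁅V, A⁆ ⊔ (V ⊓ Subgroup.centralizer (A : Set G)) := by
      have h1 : V ≤ V ⊓ Subgroup.centralizer (B : Set G) := le_inf le_rfl hbot
      rw [r1] at h1
      exact h1.trans (sup_le_sup_right (Subgroup.commutator_mono hU le_rfl) _)
    obtain ⟨P, hP, hPA, hred⟩ := exists_pgroup_inducing V A hab hpow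
    exact hctx.commutator_eq_bot_of_sup_fix (elemAb_isPGroup hV) hP hPA hred hVle

end Cfsg.Agent.S0599
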