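import Cfsg.Statements.S0605
import Cfsg.Agent.Lib.Helper10.Thompson

set_option autoImplicit false
open Cfsg

namespace Cfsg.Agent.S0605

open Cfsg.Agent.Lib.Helper10

/-- Elements of order p in the centralizer of the Thompson subgroup belong to the Thompson subgroup (so to its centre). -/
theorem result {G : Type*} [Group G] [Finite G] {p : ℕ} [Fact p.Prime] (x : G) (hx : x ∈ Subgroup.centralizer (Cfsg.thompsonSubgroup p G : Set G)) (ho : orderOf x = p) : x ∈ Cfsg.thompsonSubgroup p G := by
  obtain ⟨A, hA⟩ := exists_maxElemAb (G := G) p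
  have hAJ : A ≤ thompsonSubgroup p G := maxElemAb_le_thompson hA
  have hxc : ∀ a ∈ A, a * x = x * a := fun a ha =>
    Subgroup.mem_centralizer_iff.mp hx a (hAJ ha)
  have hxp : x ^ p = 1 := by rw [← ho]; exact pow_orderOf_eq_one x
  have hB := elemAb_sup_zpowers hA.1 hxc hxp
  have hcard := hA.2 _ hB
  have hle : A ≤ A ⊔ Subgroup.zpowers x := le_sup_left
  have heq : A = A ⊔ Subgroup.zpowers x := Subgroup.eq_of_le_of_card_ge hle hcard
  apply hAJ
  rw [heq]
  exact (le_sup_right : Subgroup.zpowers x ≤ A ⊔ Subgroup.zpowers x) (Subgroup.mem_zpowers x)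

end Cfsg.Agent.S0605
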