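import Cfsg.Statements.S0609
import Mathlib
import Cfsg.Agent.Lib.Helper10.TFQuot
import Cfsg.Agent.Lib.Helper10.OmegaZ
import Cfsg.Agent.Lib.Helper55.Cores

set_option autoImplicit false
open Cfsg

namespace Cfsg.Agent.S0609

open Cfsg.Agent.Lib.Helper10

/-- Thompson factorizability passes to and from the quotient by the largest normal subgroup of order prime to p. -/
theorem result {G : Type*} [Group G] [Finite G] {p : ℕ} [Fact p.Prime] : Cfsg.IsThompsonFactorizable p G ↔ Cfsg.IsThompsonFactorizable p (G ⧸ Cfsg.pPrimeCore p G) := by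
  have hN : (Nat.card (Cfsg.pPrimeCore p G)).Coprime p :=
    Cfsg.Agent.Lib.Helper55.pPrimeCore_card_coprime p
  have hbot : Cfsg.pPrimeCore p (G ⧸ Cfsg.pPrimeCore p G) = ⊥ :=
    Cfsg.Agent.Lib.Helper55.pPrimeCore_quotient_eq_bot p
  have hsurj := QuotientGroup.mk'_surjective (Cfsg.pPrimeCore p G)
  -- injectivity on Sylow subgroups
  have hinj : ∀ S : Sylow p G, ∀ x ∈ (S : Subgroup G),
      QuotientGroup.mk' (Cfsg.pPrimeCore p G) x = 1 → x = 1 := fun S =>
    eq_one_of_mem_pgroup_of_mk_eq_one _ hN S.isPGroup'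
  constructor
  · intro h Sb gb
    obtain ⟨S, rfl⟩ := Sylow.mapSurjective_surjective hsurj p Sb
    obtain ⟨g, rfl⟩ := hsurj gb
    obtain ⟨x, hx, c, hc, n, hn, rfl⟩ := h S g
    refine ⟨1, Subgroup.one_mem _, QuotientGroup.mk' _ c, ?_, QuotientGroup.mk' _ n, ?_, ?_⟩
    · rw [Sylow.coe_mapSurjective, ← map_omegaZ_of_injOn p (hinj S)]
      have h1 := Subgroup.map_centralizer_le_centralizer_image
        ((omegaOne p ((S : Subgroup G) ⊓ Subgroup.centralizer ((S : Subgroup G) : Set G)) :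
          Subgroup G) : Set G) (QuotientGroup.mk' (Cfsg.pPrimeCore p G))
      exact h1 (Subgroup.mem_map_of_mem _ hc)
    · rw [Sylow.coe_mapSurjective, ← map_thompsonSubgroupOf_of_injOn p (hinj S)]
      exact Subgroup.le_normalizer_map _ (Subgroup.mem_map_of_mem _ hn)
    · have hx1 : QuotientGroup.mk' (Cfsg.pPrimeCore p G) x = 1 := by
        rw [QuotientGroup.mk'_apply, QuotientGroup.eq_one_iff]; exact hx
      rw [map_mul, map_mul, hx1]
  · intro h S g
    obtain ⟨xb, hxb, cb, hcb, nb, hnb, hg⟩ := h (S.mapSurjective hsurj)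
      (QuotientGroup.mk' _ g)
    rw [hbot, Subgroup.mem_bot] at hxb
    rw [Sylow.coe_mapSurjective, ← map_omegaZ_of_injOn p (hinj S)] at hcb
    rw [Sylow.coe_mapSurjective, ← map_thompsonSubgroupOf_of_injOn p (hinj S)] at hnb
    have hE1 : IsPGroup p (omegaOne p ((S : Subgroup G) ⊓
        Subgroup.centralizer ((S : Subgroup G) : Set G)) : Subgroup G) :=
      S.isPGroup'.to_le ((omegaOne_le p _).trans inf_le_left)
    have hE2 : IsPGroup p (thompsonSubgroupOf p (S : Subgroup G)) :=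
      S.isPGroup'.to_le (thompsonSubgroupOf_le_self p _)
    obtain ⟨c, hc, hcc⟩ := exists_mem_centralizer_mk_eq _ hN hE1 cb hcb
    obtain ⟨n, hn, hnn⟩ := exists_mem_normalizer_mk_eq _ hN hE2 nb hnb
    refine ⟨g * (c * n)⁻¹, ?_, c, hc, n, hn, by group⟩
    rw [← QuotientGroup.eq_one_iff, ← QuotientGroup.mk'_apply, map_mul, map_inv, map_mul, hg, hxb,
      hcc, hnn]
    group

end Cfsg.Agent.S0609
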