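import Cfsg.Statements.S0615
import Mathlib
import Cfsg.Agent.Lib.Helper10.SubnPair
import Cfsg.Agent.Lib.Helper46.Subnormal

set_option autoImplicit false
open Cfsg

namespace Cfsg.Agent.S0615

open scoped commutatorElement
open Cfsg.Agent.Lib.Helper10

/-- a normal `p`-subgroup of a subnormal subgroup of `E` is trivial when `O_p(E) = 1` -/
theorem core_of_subnormal {G : Type*} [Group G] [Finite G] {p : ℕ} [Fact p.Prime]
    {E E₁ : Subgroup G} (hE₁E : E₁ ≤ E) (hs : (E₁.subgroupOf E).IsSubnormal)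
    (hOp : Cfsg.pCore p ↥E = ⊥) (P : Subgroup G) (hP : P ≤ E₁) (hPp : IsPGroup p P)
    (hn : E₁ ≤ Subgroup.normalizer (P : Set G)) : P = ⊥ := by
  have hN : ((P.subgroupOf E).subgroupOf (E₁.subgroupOf E)).Normal := by
    refine ⟨fun n hn' g => ?_⟩
    rw [Subgroup.mem_subgroupOf, Subgroup.mem_subgroupOf] at hn' ⊢
    have hg : ((g : ↥E) : G) ∈ E₁ := Subgroup.mem_subgroupOf.mp g.2
    have := (Subgroup.mem_normalizer_iff.mp (hn hg) _).mp hn'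
    simpa using this
  have hle : P.subgroupOf E ≤ E₁.subgroupOf E := by
    intro x hx
    rw [Subgroup.mem_subgroupOf] at hx ⊢
    exact hP hx
  have hD : (P.subgroupOf E).IsSubnormal := Subgroup.IsSubnormal.step _ _ hle hs hN
  have hDp : IsPGroup p ↥(P.subgroupOf E) :=
    hPp.comap_of_injective E.subtype (Subgroup.subtype_injective E)
  have h1 := Cfsg.Agent.Lib.Helper46.subnormal_pGroup_le_pCore (P.subgroupOf E) hD hDp
  rw [hOp] at h1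
  rw [eq_bot_iff]
  intro x hx
  have h2 : (⟨x, hE₁E (hP hx)⟩ : ↥E) ∈ P.subgroupOf E := Subgroup.mem_subgroupOf.mpr hx
  have h3 := Subgroup.mem_bot.mp (h1 h2)
  rw [Subgroup.mem_bot]
  exact congrArg Subtype.val h3

/-- Two subnormal subgroups acting irreducibly on their incomparable commutator modules, in a faithful group with trivial largest normal p-subgroup, generate their direct product, and the commutator module splits accordingly. -/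
theorem result {G : Type*} [Group G] [Finite G] {p : ℕ} [Fact p.Prime] (V E E₁ E₂ : Subgroup G) (hV : Cfsg.IsElementaryAbelian p V) (hEV : E ≤ Subgroup.normalizer (V : Set G)) (hf : E ⊓ Subgroup.centralizer (V : Set G) = ⊥) (hgen : E = E₁ ⊔ E₂) (hs₁ : (E₁.subgroupOf E).IsSubnormal) (hs₂ : (E₂.subgroupOf E).IsSubnormal) (hOp : Cfsg.pCore p ↥E = ⊥) (hirr₁ : (∀ U : Subgroup G, U ≤ ⁅V, E₁⁆ → E₁ ≤ Subgroup.normalizer (U : Set G) → U = ⊥ ∨ U = ⁅V, E₁⁆)) (hirr₂ : (∀ U : Subgroup G, U ≤ ⁅V, E₂⁆ → E₂ ≤ Subgroup.normalizer (U : Set G) → U = ⊥ ∨ U = ⁅V, E₂⁆)) (h12 : ¬ ⁅V, E₁⁆ ≤ ⁅V, E₂⁆) (h21 : ¬ ⁅V, E₂⁆ ≤ ⁅V, E₁⁆) (hc₁ : 2 < Nat.card E₁) (hc₂ : 2 < Nat.card E₂) : ⁅E₁, E₂⁆ = ⊥ ∧ E₁ ⊓ E₂ = ⊥ ∧ ⁅V, E₁⁆ ⊓ ⁅V, E₂⁆ = ⊥ ∧ ⁅V, E⁆ = ⁅V, E₁⁆ ⊔ ⁅V, E₂⁆ := by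
  subst hgen
  have h1E : E₁ ≤ E₁ ⊔ E₂ := le_sup_left
  have h2E : E₂ ≤ E₁ ⊔ E₂ := le_sup_right
  have hfaith : ∀ X : Subgroup G, X ≤ E₁ ⊔ E₂ → X ⊓ Subgroup.centralizer (V : Set G) = ⊥ := by
    intro X hX
    rw [eq_bot_iff, ← hf]
    exact inf_le_inf_right _ hX
  have hG₁ : SPGood p V E₁ := ⟨h1E.trans hEV, hfaith _ h1E,
    core_of_subnormal h1E hs₁ hOp, hirr₁, hc₁⟩
  have hG₂ : SPGood p V E₂ := ⟨h2E.trans hEV, hfaith _ h2E,
    core_of_subnormal h2E hs₂ hOp, hirr₂, hc₂⟩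
  obtain ⟨hn21, hn12⟩ := pair_normalizes hV hG₁ hG₂ hs₁ hs₂ h12 h21
  -- hn21 : E₂ ≤ N(W₁), hn12 : E₁ ≤ N(W₂)
  have hW₁V : ⁅V, E₁⁆ ≤ V := hG₁.comm_le
  have hW₂V : ⁅V, E₂⁆ ≤ V := hG₂.comm_le
  have hinf : ⁅V, E₁⁆ ⊓ ⁅V, E₂⁆ = ⊥ := by
    have hn : E₁ ≤ Subgroup.normalizer ((⁅V, E₁⁆ ⊓ ⁅V, E₂⁆ : Subgroup G) : Set G) :=
      fun a ha => mem_normalizer_inf (hG₁.le_normalizer_comm ha) (hn12 ha)
    rcases hirr₁ _ inf_le_left hn with h | h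
    · exact h
    · exfalso
      apply h12
      calc ⁅V, E₁⁆ = ⁅V, E₁⁆ ⊓ ⁅V, E₂⁆ := h.symm
        _ ≤ ⁅V, E₂⁆ := inf_le_right
  have hc12 : ⁅⁅V, E₁⁆, E₂⁆ = ⊥ := by
    rw [eq_bot_iff, ← hinf]
    apply le_inf
    · exact Cfsg.Agent.Lib.Helper24.commutator_le_of_le_normalizer _ _ hn21
    · exact Subgroup.commutator_mono hW₁V le_rfl
  have hc21 : ⁅⁅V, E₂⁆, E₁⁆ = ⊥ := by
    rw [eq_bot_iff, ← hinf]
    apply le_inf
    · exact Subgroup.commutator_mono hW₂V le_rfl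
    · exact Cfsg.Agent.Lib.Helper24.commutator_le_of_le_normalizer _ _ hn12
  have hcomm : ⁅E₁, E₂⁆ = ⊥ := by
    have h3 : ⁅⁅E₁, E₂⁆, V⁆ = ⊥ := by
      apply Subgroup.commutator_commutator_eq_bot_of_rotate
      · rw [Subgroup.commutator_comm E₂ V]; exact hc21
      · exact hc12
    rw [Subgroup.commutator_eq_bot_iff_le_centralizer] at h3
    rw [eq_bot_iff, ← hf]
    apply le_inf _ h3
    rw [Subgroup.commutator_le]
    intro x hx y hy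
    rw [commutatorElement_def]
    exact Subgroup.mul_mem _ (Subgroup.mul_mem _ (Subgroup.mul_mem _ (h1E hx) (h2E hy))
      (Subgroup.inv_mem _ (h1E hx))) (Subgroup.inv_mem _ (h2E hy))
  have hcap : E₁ ⊓ E₂ = ⊥ := by
    rw [eq_bot_iff, ← hf]
    apply le_inf (inf_le_left.trans h1E)
    intro x hx
    obtain ⟨hx1, hx2⟩ := Subgroup.mem_inf.mp hx
    rw [Subgroup.mem_centralizer_iff]
    intro v hv
    have h3 : ⁅v, x⁆ ∈ ⁅V, E₁⁆ ⊓ ⁅V, E₂⁆ := Subgroup.mem_inf.mpr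
      ⟨Subgroup.commutator_mem_commutator hv hx1, Subgroup.commutator_mem_commutator hv hx2⟩
    rw [hinf, Subgroup.mem_bot, commutatorElement_def] at h3
    calc v * x = (v * x * v⁻¹ * x⁻¹) * (x * v) := by group
      _ = x * v := by rw [h3, one_mul]
  refine ⟨hcomm, hcap, hinf, ?_⟩
  apply le_antisymm
  · apply commutator_sup_le (sup_le hW₁V hW₂V) le_sup_left le_sup_right
  · exact sup_le (Subgroup.commutator_mono le_rfl h1E) (Subgroup.commutator_mono le_rfl h2E)
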