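import Cfsg.Statements.S0619
import Mathlib
import Cfsg.Agent.S0606
import Cfsg.Agent.Lib.Helper10.Faithful
import Cfsg.Agent.Lib.Helper10.ThompsonSub
import Cfsg.Agent.Lib.Helper10.Card
import Cfsg.Agent.Lib.Helper10.Replacement2

set_option autoImplicit false
open Cfsg

namespace Cfsg.Agent.S0619

open scoped commutatorElement
open Cfsg.Agent.Lib.Helper10

theorem mem_comap_centralizer_mk_iff {G : Type*} [Group G] (N : Subgroup G) [N.Normal] (x y : G) :
    x ∈ (Subgroup.centralizer {(QuotientGroup.mk y : G ⧸ N)}).comap (QuotientGroup.mk' N) ↔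
      ⁅x, y⁆ ∈ N := by
  rw [Subgroup.mem_comap, Subgroup.mem_centralizer_iff]
  simp only [Set.mem_singleton_iff, forall_eq, QuotientGroup.mk'_apply]
  rw [← QuotientGroup.eq_one_iff, commutatorElement_def]
  simp only [QuotientGroup.mk_mul, QuotientGroup.mk_inv]
  set a : G ⧸ N := QuotientGroup.mk x
  set b : G ⧸ N := QuotientGroup.mk y
  constructor
  · intro h
    calc a * b * a⁻¹ * b⁻¹ = (b * a) * a⁻¹ * b⁻¹ := by rw [h]
      _ = 1 := by group
  · intro h
    calc b * a = (a * b * a⁻¹ * b⁻¹)⁻¹ * (a * b) := by group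
      _ = a * b := by rw [h]; group

theorem mem_comap_centralizer_mk_iff' {G : Type*} [Group G] (N : Subgroup G) [N.Normal] (x y : G) :
    y ∈ (Subgroup.centralizer {(QuotientGroup.mk x : G ⧸ N)}).comap (QuotientGroup.mk' N) ↔
      ⁅x, y⁆ ∈ N := by
  rw [mem_comap_centralizer_mk_iff]
  have : ⁅y, x⁆ = ⁅x, y⁆⁻¹ := by rw [commutatorElement_inv]
  rw [this, inv_mem_iff]

/-- generators commuting modulo a normal subgroup -/
theorem commutator_closure_sSup_le {G : Type*} [Group G] (N : Subgroup G) [N.Normal] (S : Set G)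
    (𝒜 : Set (Subgroup G)) (h : ∀ s ∈ S, ∀ A ∈ 𝒜, ∀ a ∈ A, ⁅s, a⁆ ∈ N) :
    ⁅Subgroup.closure S, sSup 𝒜⁆ ≤ N := by
  rw [Subgroup.commutator_le]
  intro x hx y hy
  have h1 : ∀ s ∈ S, ∀ y ∈ sSup 𝒜, ⁅s, y⁆ ∈ N := by
    intro s hs y hy
    rw [← mem_comap_centralizer_mk_iff']
    refine (sSup_le ?_ : sSup 𝒜 ≤ _) hy
    intro A hA a ha
    rw [mem_comap_centralizer_mk_iff']
    exact h s hs A hA a ha
  rw [← mem_comap_centralizer_mk_iff]
  refine (Subgroup.closure_le _).mpr ?_ hx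
  intro s hs
  rw [SetLike.mem_coe, mem_comap_centralizer_mk_iff]
  exact h1 s hs y hy

/-- For a p-separable group and a normal elementary abelian p-subgroup V with no nontrivial normal p-subgroup modulo its centralizer C, the Thompson subgroup J(G) moves Ω₁(Z(J(C))) only inside V. -/
theorem result {G : Type*} [Group G] [Finite G] {p : ℕ} [Fact p.Prime] (hsep : Cfsg.IsPSolvable p G) (V : Subgroup G) [V.Normal] (hV : Cfsg.IsElementaryAbelian p V) (hO : Cfsg.pCore p (G ⧸ Subgroup.centralizer (V : Set G)) = ⊥) : ⁅Cfsg.omegaOne p (Cfsg.centerThompsonOf p (Subgroup.centralizer (V : Set G))), Cfsg.thompsonSubgroup p G⁆ ≤ V := by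
  have hVc := elemAb_comm hV
  set C := Subgroup.centralizer (V : Set G) with hC
  have hVC : V ≤ C := by
    intro v hv
    rw [hC, Subgroup.mem_centralizer_iff]
    intro w hw
    exact hVc w hw v hv
  have hff := ffHyp_map_holπ V hV hsep hO ⊤
  -- key
  have key : ∀ A ∈ maxElementaryAbelianSubgroups p G, ∀ z ∈ centerThompsonOf p C, z ^ p = 1 →
      z ∈ (A ⊓ C) ⊔ V := by
    intro A hA z hz hzp
    have hAc := elemAb_comm hA.1
    have hBO : IsBestOffenderOn p V A := Cfsg.Agent.S0606.result V hV A hA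
    have hBO' := isBestOffenderOn_map_holπ V hBO
    have hAH : A.map (holπ V) ≤ (⊤ : Subgroup G).map (holπ V) := Subgroup.map_mono le_top
    have hval := hff.offVal_eq_card _ _ rfl hAH hBO'
    have e1 := offVal_map_holπ V A
    rw [hval, card_holV] at e1
    -- e1 : card V * card (A ⊓ C) = offVal V A
    have hVA : V ⊓ Subgroup.centralizer (A : Set G) = (A ⊓ C) ⊓ V := by
      apply le_antisymm
      · have h1 : V ⊓ Subgroup.centralizer (A : Set G) ≤ A :=
          le_of_maxElemAb_of_le_centralizer hA (elemAb_of_le hV inf_le_left) inf_le_right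
        exact le_inf (le_inf h1 (inf_le_left.trans hVC)) inf_le_left
      · intro x hx
        obtain ⟨hx1, hxV⟩ := Subgroup.mem_inf.mp hx
        obtain ⟨hxA, -⟩ := Subgroup.mem_inf.mp hx1
        refine Subgroup.mem_inf.mpr ⟨hxV, ?_⟩
        rw [Subgroup.mem_centralizer_iff]
        intro a ha
        exact hAc a ha x hxA
    have hcomm : ∀ a ∈ A ⊓ C, ∀ v ∈ V, a * v = v * a := by
      intro a ha v hv
      have := Subgroup.mem_centralizer_iff.mp (Subgroup.mem_inf.mp ha).2 v hv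
      exact this.symm
    have hA₀e : IsElementaryAbelian p ((A ⊓ C) ⊔ V) :=
      elemAb_sup (elemAb_of_le hA.1 inf_le_left) hV hcomm
    have hnorm : A ⊓ C ≤ Subgroup.normalizer (V : Set G) := by
      rw [Subgroup.normalizer_eq_top_iff.mpr inferInstance]; exact le_top
    have hcard : Nat.card ↥((A ⊓ C) ⊔ V) = Nat.card A := by
      have h1 := card_sup_mul_card_inf hnorm
      rw [← hVA] at h1
      unfold offVal at e1
      have hpos : 0 < Nat.card ↥(V ⊓ Subgroup.centralizer (A : Set G)) := Nat.card_pos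
      apply Nat.eq_of_mul_eq_mul_right hpos
      rw [h1, ← e1]; ring
    have hA₀ : (A ⊓ C) ⊔ V ∈ maxElementaryAbelianSubgroups p G :=
      ⟨hA₀e, fun B hB => (hA.2 B hB).trans (le_of_eq hcard.symm)⟩
    have hA₀C : (A ⊓ C) ⊔ V ≤ C := sup_le inf_le_right hVC
    have hA₀J := maxElemAb_le_thompsonSubgroupOf hA₀ hA₀C
    have hzc : z ∈ Subgroup.centralizer ((thompsonSubgroupOf p C : Subgroup G) : Set G) :=
      (Subgroup.mem_inf.mp hz).2
    have hzA₀ : Subgroup.zpowers z ≤ Subgroup.centralizer (((A ⊓ C) ⊔ V : Subgroup G) : Set G) := by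
      rw [Subgroup.zpowers_le, Subgroup.mem_centralizer_iff]
      intro a ha
      exact Subgroup.mem_centralizer_iff.mp hzc a (hA₀J ha)
    have hze : IsElementaryAbelian p (Subgroup.zpowers z) := by
      have := elemAb_sup_zpowers (elemAb_bot p (G := G)) (x := z)
        (fun a ha => by rw [Subgroup.mem_bot.mp ha]; simp) hzp
      rwa [bot_sup_eq] at this
    exact le_of_maxElemAb_of_le_centralizer hA₀ hze hzA₀ (Subgroup.mem_zpowers z)
  unfold omegaOne thompsonSubgroup
  apply commutator_closure_sSup_le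
  rintro z ⟨hz, hzp⟩ A hA a ha
  have hAc := elemAb_comm hA.1
  have hzm := key A hA z hz hzp
  have hcomm : ∀ x ∈ A ⊓ C, ∀ v ∈ V, x * v = v * x := by
    intro x hx v hv
    have := Subgroup.mem_centralizer_iff.mp (Subgroup.mem_inf.mp hx).2 v hv
    exact this.symm
  obtain ⟨a₀, ha₀, v, hv, rfl⟩ := exists_mul_of_mem_sup_comm hcomm hzm
  have hVn : V.Normal := inferInstance
  have e : ⁅a₀ * v, a⁆ = a₀ * (v * (a * v⁻¹ * a⁻¹)) * a₀⁻¹ := by
    rw [commutatorElement_def]
    have h1 : a₀ * a = a * a₀ := hAc a₀ (Subgroup.mem_inf.mp ha₀).1 a ha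
    calc a₀ * v * a * (a₀ * v)⁻¹ * a⁻¹ = a₀ * v * a * v⁻¹ * (a₀⁻¹ * a⁻¹) := by group
      _ = a₀ * v * a * v⁻¹ * (a * a₀)⁻¹ := by group
      _ = a₀ * v * a * v⁻¹ * (a₀ * a)⁻¹ := by rw [h1]
      _ = a₀ * (v * (a * v⁻¹ * a⁻¹)) * a₀⁻¹ := by group
  rw [e]
  exact hVn.conj_mem _ (V.mul_mem hv (hVn.conj_mem _ (V.inv_mem hv) a)) a₀
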