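import Cfsg.Statements.S0621
import Cfsg.Agent.Lib.Helper10.CoprimeSL2

set_option autoImplicit false
open Cfsg

namespace Cfsg.Agent.S0621

open Cfsg.Agent.Lib.Helper10

/-- Let K be p-separable with O_p'(K) = 1, normalized by an elementary abelian q-group X for a prime q not dividing the order of K. If the Thompson factorization fails in K, then p is 2 or 3 and the fixed points of X contain a plane W of order p² and a subgroup inducing SL(2, p) on it. -/
theorem result {G : Type*} [Group G] [Finite G] {p : ℕ} [Fact p.Prime] {q : ℕ} [Fact q.Prime] (K X : Subgroup G) (hXK : X ≤ Subgroup.normalizer (K : Set G)) (hX : Cfsg.IsElementaryAbelian q X) (hq : ¬ q ∣ Nat.card K) (hsep : Cfsg.IsPSolvable p ↥K) (hO : Cfsg.pPrimeCore p ↥K = ⊥) (hnf : ¬ Cfsg.IsThompsonFactorizable p ↥K) : (p = 2 ∨ p = 3) ∧ ∃ W D : Subgroup G, W ≤ K ⊓ Subgroup.centralizer (X : Set G) ∧ D ≤ K ⊓ Subgroup.centralizer (X : Set G) ∧ Cfsg.IsElementaryAbelian p W ∧ Nat.card W = p ^ 2 ∧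 D ≤ Subgroup.normalizer (W : Set G) ∧ ∃ hn : ((Subgroup.centralizer (W : Set G)).subgroupOf D).Normal, Nonempty ((↥D ⧸ (Subgroup.centralizer (W : Set G)).subgroupOf D) ≃* Matrix.SpecialLinearGroup (Fin 2) (ZMod p)) := by
  obtain ⟨hp23, W₁, D₁, hW₁f, hD₁f, hW₁e, hcard, hDN, hn, ⟨e⟩⟩ := sl2_of_coprime (K := ↥K) hsep hO
    (opGroup K X) (isPGroup_opGroup K X hX) hq hnf
  rw [fixSub_opGroup K X hXK] at hW₁f hD₁f
  let e₁ : ↥D₁ ≃* ↥(D₁.map K.subtype) := D₁.equivMapOfInjective K.subtype K.subtype_injective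
  have he : ((Subgroup.centralizer (W₁ : Set ↥K)).subgroupOf D₁).map
      (e₁ : ↥D₁ →* ↥(D₁.map K.subtype)) =
      (Subgroup.centralizer ((W₁.map K.subtype : Subgroup G) : Set G)).subgroupOf
        (D₁.map K.subtype) := by
    ext y
    rw [Subgroup.mem_map, Subgroup.mem_subgroupOf]
    constructor
    · rintro ⟨d, hd, rfl⟩
      rw [Subgroup.mem_subgroupOf, Subgroup.mem_centralizer_iff] at hd
      rw [Subgroup.mem_centralizer_iff]
      rintro _ ⟨w, hw, rfl⟩
      have h1 := hd w hw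
      exact congrArg Subtype.val h1
    · intro hy
      obtain ⟨d, hd, hdy⟩ := y.2
      refine ⟨⟨d, hd⟩, ?_, Subtype.ext hdy⟩
      rw [Subgroup.mem_subgroupOf, Subgroup.mem_centralizer_iff]
      intro w hw
      have h1 := Subgroup.mem_centralizer_iff.mp hy (w : G) ⟨w, hw, rfl⟩
      apply Subtype.ext
      rw [← hdy] at h1
      exact h1
  have hn' : ((Subgroup.centralizer ((W₁.map K.subtype : Subgroup G) : Set G)).subgroupOf
        (D₁.map K.subtype)).Normal := by
    rw [← he]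
    exact Subgroup.Normal.map hn _ e₁.surjective
  refine ⟨hp23, W₁.map K.subtype, D₁.map K.subtype, ?_, ?_, elemAb_map hW₁e _, ?_, ?_, hn', ?_⟩
  · rintro _ ⟨w, hw, rfl⟩
    exact ⟨w.2, hW₁f hw⟩
  · rintro _ ⟨d, hd, rfl⟩
    exact ⟨d.2, hD₁f hd⟩
  · rw [Subgroup.card_map_of_injective K.subtype_injective]; exact hcard
  · exact (Subgroup.map_mono hDN).trans (Subgroup.le_normalizer_map _)
  · exact ⟨(QuotientGroup.congr _ _ e₁ he).symm.trans e⟩

end Cfsg.Agent.S0621
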