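import Cfsg.Statements.S0622
import Cfsg.Agent.S0655
import Cfsg.Agent.Lib.Helper11.Stable

set_option autoImplicit false
universe u
open Cfsg

namespace Cfsg.Agent.S0622

open Cfsg.Agent.Lib.Helper11

/-- transport of stable embeddings along an isomorphism of the source -/
theorem isStableEmbedding_comp_symm (p : ℕ) {S S' H : Type u} [Group S] [Group S'] [Group H]
    (η : S ≃* S') (τ : S →* H) (hτ : IsStableEmbedding p τ) :
    IsStableEmbedding p (τ.comp η.symm.toMonoidHom) := by
  obtain ⟨h1, h2, ⟨P, hP⟩, h4, h5, h6⟩ := hτ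
  have hmap : ∀ K : Subgroup S, (K.map η.toMonoidHom).map (τ.comp η.symm.toMonoidHom) = K.map τ := by
    intro K
    rw [Subgroup.map_map]
    congr 1
    ext x
    simp
  refine ⟨?_, h2, ⟨P, ?_⟩, h4, ?_, ?_⟩
  · exact h1.comp η.symm.injective
  · rw [hP]
    ext y
    constructor
    · rintro ⟨x, rfl⟩
      exact ⟨η x, by simp⟩
    · rintro ⟨x, rfl⟩
      exact ⟨η.symm x, by simp⟩
  · rw [← map_thompsonSubgroup_equiv p η, hmap]
    exact h5
  · intro V hV hle
    rw [← map_omegaCenterThompson_equiv p η, hmap] at hle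
    exact h6 V hle

/-- the family defining the stable normal closure -/
def fam (p : ℕ) (S : Type u) [Group S] : Set (Subgroup S) :=
  {W : Subgroup S | omegaOne p (Subgroup.center S) ≤ W ∧
    ∀ (H : Type u) [Group H] (τ : S →* H), IsStableEmbedding p τ → (W.map τ).Normal}

theorem stableNormalClosure_eq (p : ℕ) (S : Type u) [Group S] :
    stableNormalClosure p S = sInf (fam p S) := rfl

theorem comap_mem_fam (p : ℕ) {S S' : Type u} [Group S] [Group S'] (η : S ≃* S')
    (W' : Subgroup S') (hW' : W' ∈ fam p S') : W'.comap η.toMonoidHom ∈ fam p S := by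
  obtain ⟨h1, h2⟩ := hW'
  refine ⟨?_, ?_⟩
  · rw [← Subgroup.map_le_iff_le_comap, map_omegaOne_center_equiv]
    exact h1
  · intro H _ τ hτ
    have := h2 H (τ.comp η.symm.toMonoidHom) (isStableEmbedding_comp_symm p η τ hτ)
    have heq : (W'.comap η.toMonoidHom).map τ = W'.map (τ.comp η.symm.toMonoidHom) := by
      ext y
      constructor
      · rintro ⟨x, hx, rfl⟩
        exact ⟨η x, hx, by simp⟩
      · rintro ⟨x, hx, rfl⟩
        exact ⟨η.symm x, by simpa using hx, by simp⟩
    rw [heq]
    exact this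

theorem map_stableNormalClosure_le (p : ℕ) {S S' : Type u} [Group S] [Group S'] (η : S ≃* S') :
    (stableNormalClosure p S).map η.toMonoidHom ≤ stableNormalClosure p S' := by
  rw [stableNormalClosure_eq, stableNormalClosure_eq]
  apply le_sInf
  intro W' hW'
  rw [Subgroup.map_le_iff_le_comap]
  exact sInf_le (comap_mem_fam p η W' hW')

theorem map_stableNormalClosure (p : ℕ) {S S' : Type u} [Group S] [Group S'] (η : S ≃* S') :
    (stableNormalClosure p S).map η.toMonoidHom = stableNormalClosure p S' := by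
  apply le_antisymm (map_stableNormalClosure_le p η)
  have := map_stableNormalClosure_le p η.symm
  have h2 := Subgroup.map_mono (f := η.toMonoidHom) this
  rw [map_symm_map_equiv] at h2
  exact h2

theorem omegaOne_center_le_omegaCenterThompson (p : ℕ) (S : Type u) [Group S] [Finite S]
    [Fact p.Prime] (hS : IsPGroup p S) :
    omegaOne p (Subgroup.center S) ≤ omegaCenterThompson p S := by
  rw [← (Cfsg.Agent.S0655.result hS).1]
  unfold omegaOne
  rw [Subgroup.closure_le]
  rintro x ⟨hx, hxp⟩
  rw [SetLike.mem_coe, Subgroup.mem_sInf]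
  intro A hA
  apply Cfsg.Agent.S0655.mem_of_mem_centralizer p A hA x _ hxp
  exact Subgroup.center_le_centralizer _ hx

theorem omegaCenterThompson_mem_fam (p : ℕ) (S : Type u) [Group S] [Finite S]
    [Fact p.Prime] (hS : IsPGroup p S) : omegaCenterThompson p S ∈ fam p S := by
  refine ⟨omegaOne_center_le_omegaCenterThompson p S hS, ?_⟩
  intro H _ τ hτ
  exact map_omegaCenterThompson_normal p τ hτ.1 hτ.2.2.2.2.1

theorem omegaOne_center_ne_bot (p : ℕ) (S : Type u) [Group S] [Finite S]
    [Fact p.Prime] (hS : IsPGroup p S) [Nontrivial S] :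
    omegaOne p (Subgroup.center S) ≠ ⊥ := by
  haveI := hS.center_nontrivial
  have hZ : IsPGroup p (Subgroup.center S) := hS.to_subgroup _
  obtain ⟨n, hn⟩ := IsPGroup.iff_card.mp hZ
  have hn0 : n ≠ 0 := by
    rintro rfl
    rw [pow_zero] at hn
    have := (Subgroup.card_eq_one).mp hn
    exact (Subgroup.nontrivial_iff_ne_bot _).mp ‹_› this
  have hdvd : p ∣ Nat.card (Subgroup.center S) := by
    rw [hn]; exact dvd_pow_self p hn0
  obtain ⟨z, hz⟩ := exists_prime_orderOf_dvd_card' p hdvd
  intro hbot
  have hmem : (z : S) ∈ omegaOne p (Subgroup.center S) := by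
    apply Subgroup.subset_closure
    refine ⟨z.2, ?_⟩
    have : z ^ p = 1 := by rw [← hz]; exact pow_orderOf_eq_one z
    have h2 := congrArg Subtype.val this
    simpa using h2
  rw [hbot, Subgroup.mem_bot] at hmem
  have : z = 1 := Subtype.ext hmem
  rw [this, orderOf_one] at hz
  exact (Fact.out : p.Prime).one_lt.ne hz

theorem result {S : Type u} [Group S] [Finite S] {p : ℕ} [Fact p.Prime] (hS : IsPGroup p S) : (Cfsg.stableNormalClosure p S).Characteristic ∧ Cfsg.omegaOne p (Subgroup.center S) ≤ Cfsg.stableNormalClosure p S ∧ Cfsg.stableNormalClosure p S ≤ Cfsg.omegaCenterThompson p S ∧ (Nontrivial S → Cfsg.stableNormalClosure p S ≠ ⊥) ∧ ∀ (S' : Type u) [Group S'] (η : S ≃* S'), (Cfsg.stableNormalClosure p S).map η.toMonoidHom = Cfsg.stableNormalClosure p S' := by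
  have h2 : Cfsg.omegaOne p (Subgroup.center S) ≤ Cfsg.stableNormalClosure p S := by
    rw [stableNormalClosure_eq]
    apply le_sInf
    intro W hW
    exact hW.1
  refine ⟨?_, h2, ?_, ?_, ?_⟩
  · rw [Subgroup.characteristic_iff_map_eq]
    intro ϕ
    exact map_stableNormalClosure p ϕ
  · rw [stableNormalClosure_eq]
    exact sInf_le (omegaCenterThompson_mem_fam p S hS)
  · intro hnt hbot
    have := omegaOne_center_ne_bot p S hS
    apply this
    rw [← le_bot_iff, ← hbot]
    exact h2
  · intro S' _ η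
    exact map_stableNormalClosure p η

end Cfsg.Agent.S0622
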