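import Cfsg.Statements.S0623
import Cfsg.Agent.S0622
import Cfsg.Agent.Lib.Helper11.Stable
import Cfsg.Agent.Lib.Helper11.Quad

set_option autoImplicit false
open Cfsg
open scoped commutatorElement

namespace Cfsg.Agent.S0623

open Cfsg.Agent.Lib.Helper11
open Cfsg.Agent.S0622 (fam stableNormalClosure_eq omegaCenterThompson_mem_fam)

universe u

/-- the stable normal closure itself has normal image under stable embeddings -/
theorem map_stableNormalClosure_normal (p : ℕ) {S H : Type u} [Group S] [Finite S] [Group H]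
    [Fact p.Prime] (hS : IsPGroup p S) (τ : S →* H) (hτ : IsStableEmbedding p τ) :
    ((stableNormalClosure p S).map τ).Normal := by
  constructor
  rintro _ ⟨w, hw, rfl⟩ g
  rw [stableNormalClosure_eq] at hw ⊢
  have h0 := omegaCenterThompson_mem_fam p S hS
  have hn0 := h0.2 H τ hτ
  obtain ⟨w₀, -, hw₀⟩ := hn0.conj_mem (τ w) (Subgroup.mem_map_of_mem τ ((sInf_le h0) hw)) g
  refine ⟨w₀, ?_, hw₀⟩
  rw [SetLike.mem_coe, Subgroup.mem_sInf]
  intro W' hW'
  have hn := hW'.2 H τ hτ
  obtain ⟨w₁, hw₁, hw₁'⟩ := hn.conj_mem (τ w) (Subgroup.mem_map_of_mem τ ((sInf_le hW') hw)) g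
  have : w₁ = w₀ := hτ.1 (hw₁'.trans hw₀.symm)
  rw [← this]; exact hw₁

/-- the key step -/
theorem step (p : ℕ) {S H : Type u} [Group S] [Finite S] [Group H] [Fact p.Prime]
    (hS : IsPGroup p S) (τ : S →* H) (hτ : IsStableEmbedding p τ) (U : Subgroup S)
    (hUW : U ≤ stableNormalClosure p S)
    (hU : ∀ y : S, QuadOn U y → y ∈ Subgroup.centralizer (U : Set S)) :
    (Subgroup.normalClosure ((U.map τ : Subgroup H) : Set H)) ≤ (stableNormalClosure p S).map τ ∧
    ∀ y : S, QuadOn ((Subgroup.normalClosure ((U.map τ : Subgroup H) : Set H)).comap τ) y →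
      y ∈ Subgroup.centralizer
        (((Subgroup.normalClosure ((U.map τ : Subgroup H) : Set H)).comap τ : Subgroup S) : Set S) := by
  set V : Subgroup H := Subgroup.normalClosure ((U.map τ : Subgroup H) : Set H) with hVdef
  have hinj := hτ.1
  haveI hfin : Finite H := hτ.2.1
  obtain ⟨P, hP⟩ := hτ.2.2.1
  have hWn := map_stableNormalClosure_normal p hS τ hτ
  have hVW : V ≤ (stableNormalClosure p S).map τ := by
    haveI := hWn
    apply Subgroup.normalClosure_le_normal
    exact Subgroup.map_mono hUW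
  refine ⟨hVW, ?_⟩
  have hVn : V.Normal := Subgroup.normalClosure_normal
  have hUV : U.map τ ≤ V := Subgroup.le_normalClosure
  have hVJ : V ≤ (omegaCenterThompson p S).map τ := by
    refine hVW.trans (Subgroup.map_mono ?_)
    rw [stableNormalClosure_eq]
    exact sInf_le (omegaCenterThompson_mem_fam p S hS)
  have hstab : @IsPStableOn H _ p V hVn := @hτ.2.2.2.2.2 V hVn hVJ
  intro y hy
  set a := τ y with ha
  -- step 1
  have hmapcomap : (V.comap τ).map τ = V := by
    apply le_antisymm (Subgroup.map_comap_le _ _)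
    intro v hv
    obtain ⟨w, -, rfl⟩ := hVW hv
    exact ⟨w, hv, rfl⟩
  have hQa : QuadOn V a := by
    rw [← hmapcomap]
    exact (quadOn_map_iff τ hinj _ y).mpr hy
  have hQa' := commutator_eq_bot_of_quadOn V a hQa
  haveI := hVn
  have hcore := hstab a hQa'
  set C := Subgroup.centralizer (V : Set H) with hC
  -- step 4
  have hdecomp : ∀ h : H, ∃ s' : S, ∃ c ∈ C, h⁻¹ * a * h⁻¹⁻¹ = τ s' * c := by
    intro h
    have hn : (pCore p (H ⧸ C)).Normal := inferInstance
    have h1 := hn.conj_mem _ hcore ((QuotientGroup.mk h⁻¹ : H ⧸ C))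
    have hsurj : Function.Surjective (QuotientGroup.mk' C) := QuotientGroup.mk'_surjective C
    have h2 := pCore_le_sylow (P.mapSurjective hsurj) h1
    rw [Sylow.coe_mapSurjective] at h2
    obtain ⟨s, hs, hs'⟩ := h2
    have hs2 : s ∈ τ.range := by rw [← hP]; exact hs
    obtain ⟨s', rfl⟩ := hs2
    refine ⟨s', (τ s')⁻¹ * (h⁻¹ * a * h⁻¹⁻¹), ?_, by group⟩
    have : (QuotientGroup.mk (τ s') : H ⧸ C) = QuotientGroup.mk (h⁻¹ * a * h⁻¹⁻¹) := by
      rw [QuotientGroup.mk'_apply] at hs'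
      rw [hs']
      rfl
    exact QuotientGroup.eq.mp this
  -- a commutes with all conjugates of elements of τ U
  have hcomm : ∀ h : H, ∀ u ∈ U, Commute a (h * τ u * h⁻¹) := by
    intro h u hu
    obtain ⟨s', c, hc, hsc⟩ := hdecomp h
    have hQ1 : QuadOn V (h⁻¹ * a * h⁻¹⁻¹) := hQa.conj hVn h⁻¹
    rw [hsc] at hQ1
    have hQ2 : QuadOn V (τ s') := hQ1.of_mul_centralizer hVn hc
    have hQ3 : QuadOn (U.map τ) (τ s') := hQ2.mono hUV
    have hQ4 : QuadOn U s' := (quadOn_map_iff τ hinj U s').mp hQ3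
    have hs'U := hU s' hQ4
    have h1 : Commute (τ s') (τ u) := by
      change τ s' * τ u = τ u * τ s'
      rw [← map_mul, ← map_mul, hs'U u hu]
    have h2 : Commute c (τ u) := (hc (τ u) (hUV (Subgroup.mem_map_of_mem τ hu))).symm
    have h3 : Commute (h⁻¹ * a * h⁻¹⁻¹) (τ u) := by
      rw [hsc]; exact h1.mul_left h2
    change a * (h * τ u * h⁻¹) = h * τ u * h⁻¹ * a
    calc a * (h * τ u * h⁻¹) = h * ((h⁻¹ * a * h⁻¹⁻¹) * τ u) * h⁻¹ := by group
      _ = h * (τ u * (h⁻¹ * a * h⁻¹⁻¹)) * h⁻¹ := by rw [h3.eq]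
      _ = h * τ u * h⁻¹ * a := by group
  have haV : a ∈ Subgroup.centralizer (V : Set H) := by
    rw [hVdef, Subgroup.normalClosure, Subgroup.centralizer_closure]
    intro x hx
    rw [Group.mem_conjugatesOfSet_iff] at hx
    obtain ⟨u₀, hu₀, hconj⟩ := hx
    obtain ⟨u, hu, rfl⟩ := hu₀
    obtain ⟨h, rfl⟩ := isConj_iff.mp hconj
    exact (hcomm h u hu).symm.eq
  intro u' hu'
  apply hinj
  rw [map_mul, map_mul]
  exact haV (τ u') hu'

theorem result {S : Type*} [Group S] [Finite S] {p : ℕ} [Fact p.Prime] (hS : IsPGroup p S) (x : S) (hq : ⁅⁅Cfsg.stableNormalClosure p S, Subgroup.zpowers x⁆, Subgroup.zpowers x⁆ = ⊥) : ⁅Cfsg.stableNormalClosure p S, Subgroup.zpowers x⁆ = ⊥ := by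
  set W := Cfsg.stableNormalClosure p S with hW
  let Pr : Subgroup S → Prop := fun U =>
    omegaOne p (Subgroup.center S) ≤ U ∧ U ≤ W ∧
      ∀ y : S, QuadOn U y → y ∈ Subgroup.centralizer (U : Set S)
  have h622 := Cfsg.Agent.S0622.result hS
  have hbase : Pr (omegaOne p (Subgroup.center S)) := by
    refine ⟨le_rfl, h622.2.1, ?_⟩
    intro y _
    have : omegaOne p (Subgroup.center S) ≤ Subgroup.centralizer ({y} : Set S) := by
      refine (omegaOne_le p _).trans ?_
      exact Subgroup.center_le_centralizer _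
    rw [← Subgroup.zpowers_le, ← Subgroup.le_centralizer_iff,
      Subgroup.zpowers_eq_closure, Subgroup.centralizer_closure]
    exact this
  obtain ⟨U₀, -, hmax⟩ := Finite.exists_le_maximal (p := Pr) hbase
  have hPr0 : Pr U₀ := hmax.prop
  have hfam : U₀ ∈ fam p S := by
    refine ⟨hPr0.1, ?_⟩
    intro H _ τ hτ
    obtain ⟨hVW, hstep⟩ := step p hS τ hτ U₀ hPr0.2.1 hPr0.2.2
    set V : Subgroup H := Subgroup.normalClosure ((U₀.map τ : Subgroup H) : Set H) with hVdef
    have hUV : U₀.map τ ≤ V := Subgroup.le_normalClosure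
    have hle : U₀ ≤ V.comap τ := Subgroup.map_le_iff_le_comap.mp hUV
    have hPr' : Pr (V.comap τ) := by
      refine ⟨hPr0.1.trans hle, ?_, hstep⟩
      intro u hu
      obtain ⟨w, hw, hwu⟩ := hVW hu
      have : w = u := hτ.1 hwu
      rw [← this]; exact hw
    have heq : V.comap τ ≤ U₀ := hmax.le_of_ge hPr' hle
    have : U₀.map τ = V := by
      apply le_antisymm hUV
      intro v hv
      obtain ⟨w, -, rfl⟩ := hVW hv
      exact ⟨w, heq hv, rfl⟩
    rw [this]
    exact Subgroup.normalClosure_normal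
  have hWU : W ≤ U₀ := by
    rw [hW, stableNormalClosure_eq]
    exact sInf_le hfam
  have hUW : U₀ = W := le_antisymm hPr0.2.1 hWU
  rw [hUW] at hPr0
  rw [mem_centralizer_iff_commutator_zpowers_eq_bot]
  exact hPr0.2.2 x (quadOn_of_commutator_eq_bot W x hq)

end Cfsg.Agent.S0623
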