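import Cfsg.Statements.S0624
import Cfsg.Agent.S0623
import Cfsg.Agent.S0607
import Cfsg.Agent.Lib.Helper11.Quad
import Cfsg.Agent.Lib.Helper11.Stable
import Cfsg.Agent.Lib.Helper11.ZJ
import Cfsg.Agent.Lib.Helper24.Coprime
import Cfsg.Agent.Lib.Helper10.Thompson
import Cfsg.Agent.Lib.Helper10.ThompsonIn
import Cfsg.Agent.Lib.Helper10.ThompsonSub
import Cfsg.Agent.Lib.Helper10.SylowIn
import Cfsg.Agent.Lib.Helper10.TFQuot

set_option autoImplicit false
open Cfsg
open scoped commutatorElement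
open Pointwise

namespace Cfsg.Agent.S0624

open Cfsg.Agent.Lib.Helper11 Cfsg.Agent.Lib.Helper10

universe u

variable {G : Type u} [Group G] {p : ℕ}

/-- `W(S)` viewed inside `G` -/
def Wof (p : ℕ) (S : Subgroup G) : Subgroup G :=
  (stableNormalClosure p ↥S).map S.subtype

theorem Wof_le (S : Subgroup G) : Wof p S ≤ S := Subgroup.map_subtype_le _

/-- `Ω₁(Z(J(P)))` is elementary abelian -/
theorem elemAb_omegaCenterThompson (P : Type u) [Group P] :
    IsElementaryAbelian p (omegaCenterThompson p P) := by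
  unfold omegaCenterThompson omegaOne
  apply elemAb_closure
  · rintro x ⟨hx, -⟩ y ⟨hy, -⟩
    have h1 := (Subgroup.mem_inf.mp hx).2
    have h2 := (Subgroup.mem_inf.mp hy).1
    exact (Subgroup.mem_centralizer_iff.mp h1 y h2).symm
  · rintro x ⟨-, hx⟩
    exact hx

variable [Finite G] [Fact p.Prime]

theorem elemAb_Wof (S : Sylow p G) : IsElementaryAbelian p (Wof p (S : Subgroup G)) := by
  have h := (Cfsg.Agent.S0622.result (p := p) S.isPGroup').2.2.1
  exact elemAb_map (elemAb_of_le (elemAb_omegaCenterThompson _) h) _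

theorem Wof_le_omega (S : Sylow p G) :
    Wof p (S : Subgroup G) ≤ (omegaCenterThompson p ↥(S : Subgroup G)).map (S : Subgroup G).subtype :=
  Subgroup.map_mono (Cfsg.Agent.S0622.result (p := p) S.isPGroup').2.2.1

/-- `W(S)` is normal in `S` -/
theorem Wof_conj_mem (S : Sylow p G) {s w : G} (hs : s ∈ (S : Subgroup G))
    (hw : w ∈ Wof p (S : Subgroup G)) : s * w * s⁻¹ ∈ Wof p (S : Subgroup G) := by
  obtain ⟨w', hw', rfl⟩ := hw
  have hchar := (Cfsg.Agent.S0622.result (p := p) S.isPGroup').1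
  haveI := hchar
  have hn : (stableNormalClosure p ↥(S : Subgroup G)).Normal := Subgroup.normal_of_characteristic _
  refine ⟨⟨s, hs⟩ * w' * ⟨s, hs⟩⁻¹, hn.conj_mem w' hw' ⟨s, hs⟩, ?_⟩
  simp

/-- S0623 inside `G` -/
theorem mem_centralizer_Wof_of_quadOn (S : Sylow p G) {x : G} (hx : x ∈ (S : Subgroup G))
    (hq : QuadOn (Wof p (S : Subgroup G)) x) :
    x ∈ Subgroup.centralizer (Wof p (S : Subgroup G) : Set G) := by
  have hinj : Function.Injective (S : Subgroup G).subtype := Subtype.coe_injective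
  have hq' : QuadOn (stableNormalClosure p ↥(S : Subgroup G)) (⟨x, hx⟩ : ↥(S : Subgroup G)) :=
    (quadOn_map_iff (S : Subgroup G).subtype hinj _ ⟨x, hx⟩).mp hq
  have h1 := Cfsg.Agent.S0623.result S.isPGroup' ⟨x, hx⟩ ((quadOn_iff _ _).mp hq')
  rw [mem_centralizer_iff_commutator_zpowers_eq_bot] at h1
  rintro _ ⟨w, hw, rfl⟩
  have := h1 w hw
  exact congrArg Subtype.val this


omit [Finite G] [Fact p.Prime] in
/-- `S ≤ N_G(J(S))` -/
theorem le_normalizer_thompson (S : Subgroup G) :
    S ≤ Subgroup.normalizer (thompsonSubgroupOf p S : Set G) := by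
  intro s hs
  rw [Subgroup.mem_normalizer_iff]
  have hn : (thompsonSubgroup p ↥S).Normal := by
    have : (thompsonSubgroup p ↥S).Characteristic := by
      rw [Subgroup.characteristic_iff_map_eq]
      intro ϕ
      exact map_thompsonSubgroup_equiv p ϕ
    exact Subgroup.normal_of_characteristic _
  intro x
  constructor
  · rintro ⟨x', hx', rfl⟩
    exact ⟨⟨s, hs⟩ * x' * ⟨s, hs⟩⁻¹, hn.conj_mem x' hx' ⟨s, hs⟩, by simp⟩
  · rintro ⟨y', hy', hy⟩
    have hxS : x ∈ S := by
      have h1 : s * x * s⁻¹ ∈ S := by rw [← hy]; exact y'.2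
      have h2 := S.mul_mem (S.mul_mem (S.inv_mem hs) h1) hs
      have h3 : s⁻¹ * (s * x * s⁻¹) * s = x := by group
      rwa [h3] at h2
    refine ⟨⟨s, hs⟩⁻¹ * y' * ⟨s, hs⟩, ?_, ?_⟩
    · have := hn.conj_mem y' hy' (⟨s, hs⟩⁻¹)
      simpa using this
    · simp only [Subgroup.subtype_apply, Subgroup.coe_mul, Subgroup.coe_inv] at hy ⊢
      rw [hy]; group

/-- the inclusion of `S` in `N_G(J(S))` is a stable embedding -/
theorem isStableEmbedding_inclusion (hst : IsActionPStable p G)
    (hc : Subgroup.centralizer (pCore p G : Set G) ≤ pCore p G) (S : Sylow p G) :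
    IsStableEmbedding p (Subgroup.inclusion (le_normalizer_thompson (p := p) (S : Subgroup G))) := by
  set N := Subgroup.normalizer (thompsonSubgroupOf p (S : Subgroup G) : Set G) with hN
  have hSN : (S : Subgroup G) ≤ N := le_normalizer_thompson (S : Subgroup G)
  have hcomp : ∀ X : Subgroup ↥(S : Subgroup G),
      (X.map (Subgroup.inclusion hSN)).map N.subtype = X.map (S : Subgroup G).subtype := by
    intro X
    rw [Subgroup.map_map, Subgroup.subtype_comp_inclusion]
  refine ⟨Subgroup.inclusion_injective hSN, inferInstance, ⟨S.subtype hSN, ?_⟩, ?_, ?_, ?_⟩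
  · rw [Sylow.coe_subtype, Subgroup.inclusion_range]
  · -- `C_N(O_p(N)) ≤ O_p(N)`
    have hQS : pCore p G ≤ (S : Subgroup G) := pCore_le_sylow S
    have hQ' : (pCore p G).subgroupOf N ≤ pCore p ↥N := by
      apply le_pCore
      · infer_instance
      · exact (pCore_isPGroup p G).comap_subtype
    intro x hx
    apply hQ'
    rw [Subgroup.mem_subgroupOf]
    apply hc
    intro q hq
    have hqN : q ∈ N := hSN (hQS hq)
    have h1 := hx ⟨q, hqN⟩ (hQ' (by rw [Subgroup.mem_subgroupOf]; exact hq))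
    exact congrArg Subtype.val h1
  · -- `J(S)` is normal in `N`
    have h1 : (thompsonSubgroup p ↥(S : Subgroup G)).map (Subgroup.inclusion hSN) =
        (thompsonSubgroupOf p (S : Subgroup G)).subgroupOf N := by
      rw [Subgroup.subgroupOf, thompsonSubgroupOf, ← hcomp,
        Subgroup.comap_map_eq_self_of_injective N.subtype_injective]
    rw [h1]
    exact Subgroup.normal_in_normalizer
  · intro V hV hle
    refine @hst.2.2 S V hV ?_
    have := Subgroup.map_mono (f := N.subtype) hle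
    rwa [hcomp] at this

/-- `N_G(J(S))` normalizes `W(S)` -/
theorem conj_mem_Wof_of_mem_normalizer (hst : IsActionPStable p G)
    (hc : Subgroup.centralizer (pCore p G : Set G) ≤ pCore p G) (S : Sylow p G) {n w : G}
    (hn : n ∈ Subgroup.normalizer (thompsonSubgroupOf p (S : Subgroup G) : Set G))
    (hw : w ∈ Wof p (S : Subgroup G)) : n * w * n⁻¹ ∈ Wof p (S : Subgroup G) := by
  have hSN := le_normalizer_thompson (p := p) (S : Subgroup G)
  have hnorm := Cfsg.Agent.S0623.map_stableNormalClosure_normal p S.isPGroup'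
    (Subgroup.inclusion hSN) (isStableEmbedding_inclusion hst hc S)
  obtain ⟨w', hw', rfl⟩ := hw
  have h1 := hnorm.conj_mem (Subgroup.inclusion hSN w') (Subgroup.mem_map_of_mem _ hw') ⟨n, hn⟩
  obtain ⟨w'', hw'', h2⟩ := h1
  refine ⟨w'', hw'', ?_⟩
  have h3 := congrArg Subtype.val h2
  simpa using h3


omit [Finite G] [Fact p.Prime] in
theorem mem_sectionKernel_iff {K N : Subgroup G} [N.Normal] {g : G} :
    g ∈ sectionKernel K N ↔ ∀ k ∈ K, ⁅k, g⁆ ∈ N := by
  unfold sectionKernel
  rw [Subgroup.mem_comap, Subgroup.mem_centralizer_iff]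
  constructor
  · intro h k hk
    have h1 := h _ (Subgroup.mem_map_of_mem _ hk)
    have h2 : (QuotientGroup.mk' N) (k * g * k⁻¹ * g⁻¹) = 1 := by
      rw [map_mul, map_mul, map_mul, map_inv, map_inv, h1]; group
    rw [commutatorElement_def]
    exact (QuotientGroup.eq_one_iff _).mp h2
  · rintro h _ ⟨k, hk, rfl⟩
    have h1 : (QuotientGroup.mk' N) (k * g * k⁻¹ * g⁻¹) = 1 :=
      (QuotientGroup.eq_one_iff _).mpr (h k hk)
    rw [map_mul, map_mul, map_mul, map_inv, map_inv] at h1
    calc (QuotientGroup.mk' N) k * (QuotientGroup.mk' N) g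
        = ((QuotientGroup.mk' N) k * (QuotientGroup.mk' N) g * ((QuotientGroup.mk' N) k)⁻¹ *
            ((QuotientGroup.mk' N) g)⁻¹) * ((QuotientGroup.mk' N) g * (QuotientGroup.mk' N) k) := by
          group
      _ = (QuotientGroup.mk' N) g * (QuotientGroup.mk' N) k := by rw [h1, one_mul]

/-- nongenerator property of `Φ(Q)` inside `G` -/
theorem le_of_frattini_sup_eq {Q M : Subgroup G}
    (h : (frattini ↥Q).map Q.subtype ⊔ (Q ⊓ M) = Q) : Q ≤ M := by
  have key : (Q ⊓ M).subgroupOf Q ⊔ frattini ↥Q = ⊤ := by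
    apply Subgroup.map_injective Q.subtype_injective
    rw [Subgroup.map_sup, Subgroup.map_subgroupOf_eq_of_le inf_le_left, sup_comm, h,
      ← MonoidHom.range_eq_map, Subgroup.range_subtype]
  have h2 := frattini_nongenerating key
  intro q hq
  have : (⟨q, hq⟩ : ↥Q) ∈ (Q ⊓ M).subgroupOf Q := by rw [h2]; exact Subgroup.mem_top _
  rw [Subgroup.mem_subgroupOf] at this
  exact (Subgroup.mem_inf.mp this).2

/-- the kernel of the action on `Q/Φ(Q)`, `Q = O_p(G)`, is a `p`-group when `C_G(Q) ≤ Q` -/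
theorem isPGroup_sectionKernel
    (hc : Subgroup.centralizer (pCore p G : Set G) ≤ pCore p G) :
    IsPGroup p (sectionKernel (pCore p G) ((frattini ↥(pCore p G)).map (pCore p G).subtype)) := by
  have hp : p.Prime := Fact.out
  set Q := pCore p G with hQ
  set Φ := (frattini ↥Q).map Q.subtype with hΦ
  have hQp : IsPGroup p Q := pCore_isPGroup p G
  rintro ⟨y, hy⟩
  obtain ⟨n, m, hm, hord⟩ := Nat.exists_eq_pow_mul_and_not_dvd (orderOf_pos y).ne' p hp.ne_one
  refine ⟨n, ?_⟩
  apply Subtype.ext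
  show y ^ p ^ n = 1
  set x := y ^ p ^ n with hx
  have hxK : x ∈ sectionKernel Q Φ := Subgroup.pow_mem _ hy _
  have hxm : x ^ m = 1 := by
    rw [hx, ← pow_mul, ← hord]; exact pow_orderOf_eq_one y
  have hmcop : m.Coprime p := (Nat.Prime.coprime_iff_not_dvd hp).mpr hm |>.symm
  set A := Subgroup.zpowers x with hA
  have hAK : A ≤ sectionKernel Q Φ := (Subgroup.zpowers_le).mpr hxK
  have hcardA : Nat.card A ∣ m := by
    rw [hA, Nat.card_zpowers]; exact orderOf_dvd_of_pow_eq_one hxm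
  obtain ⟨k, hk⟩ := IsPGroup.iff_card.mp hQp
  have hcop : (Nat.card A).Coprime (Nat.card Q) := by
    rw [hk]
    exact Nat.Coprime.pow_right _ (Nat.Coprime.coprime_dvd_left hcardA hmcop)
  have hAN : A ≤ Subgroup.normalizer (Q : Set G) := by
    rw [Subgroup.normalizer_eq_top]; exact le_top
  haveI : Group.IsNilpotent ↥Q := hQp.isNilpotent
  have h1 := Cfsg.Agent.Lib.Helper24.commutator_sup_centralizer_eq A Q hAN hcop (Or.inr inferInstance)
  have h2 : ⁅Q, A⁆ ≤ Φ := by
    rw [Subgroup.commutator_le]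
    intro q hq a ha
    exact mem_sectionKernel_iff.mp (hAK ha) q hq
  have hΦQ : Φ ≤ Q := Subgroup.map_subtype_le _
  have h3 : Φ ⊔ (Q ⊓ Subgroup.centralizer (A : Set G)) = Q := by
    apply le_antisymm (sup_le hΦQ inf_le_left)
    exact h1.symm.le.trans (sup_le_sup_right h2 _)
  have h4 : Q ≤ Subgroup.centralizer (A : Set G) := le_of_frattini_sup_eq h3
  have h5 : x ∈ Subgroup.centralizer (Q : Set G) := by
    intro q hq
    exact (h4 hq x (Subgroup.mem_zpowers x)).symm
  have h6 : x ∈ Q := hc h5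
  obtain ⟨j, hj⟩ := hQp ⟨x, h6⟩
  have hj' : x ^ p ^ j = 1 := congrArg Subtype.val hj
  have h7 : orderOf x ∣ Nat.gcd (p ^ j) m :=
    Nat.dvd_gcd (orderOf_dvd_of_pow_eq_one hj') (orderOf_dvd_of_pow_eq_one hxm)
  have h8 : Nat.gcd (p ^ j) m = 1 := Nat.Coprime.pow_left _ hmcop.symm
  rw [h8, Nat.dvd_one, orderOf_eq_one_iff] at h7
  exact h7

/-- `W(S) ≤ O_p(G)` -/
theorem Wof_le_pCore (hst : IsActionPStable p G)
    (hc : Subgroup.centralizer (pCore p G : Set G) ≤ pCore p G) (S : Sylow p G) :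
    Wof p (S : Subgroup G) ≤ pCore p G := by
  intro a ha
  have hQS : pCore p G ≤ (S : Subgroup G) := pCore_le_sylow S
  have hquad : QuadOn (pCore p G) a := by
    intro v hv
    have h1 : ⁅v, a⁆ ∈ Wof p (S : Subgroup G) := by
      rw [commutatorElement_def]
      exact (Wof p (S : Subgroup G)).mul_mem (Wof_conj_mem S (hQS hv) ha)
        ((Wof p (S : Subgroup G)).inv_mem ha)
    exact elemAb_comm (elemAb_Wof S) a ha _ h1
  have h2 := commutator_eq_bot_of_quadOn _ a hquad
  obtain ⟨D, hDn, hKD, ⟨k, hk⟩, haD⟩ := hst.2.1 a (by rw [h2]; exact bot_le)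
  have hKp := isPGroup_sectionKernel (p := p) hc
  obtain ⟨j, hj⟩ := IsPGroup.iff_card.mp hKp
  have hDp : IsPGroup p D := by
    apply IsPGroup.of_card (n := k + j)
    rw [← relIndex_mul_card_of_le hKD, hk, hj, pow_add]
  exact le_pCore hDn hDp haD


/-- a conjugate of an element of `W(S)` centralizes `W(S)` -/
theorem commute_conj_Wof (hst : IsActionPStable p G)
    (hc : Subgroup.centralizer (pCore p G : Set G) ≤ pCore p G) (S : Sylow p G) {w w' : G}
    (hw : w ∈ Wof p (S : Subgroup G)) (hw' : w' ∈ Wof p (S : Subgroup G)) (g : G) :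
    w * (g * w' * g⁻¹) = g * w' * g⁻¹ * w := by
  have hWQ := Wof_le_pCore hst hc S
  have hQS : pCore p G ≤ (S : Subgroup G) := pCore_le_sylow S
  have hQn : (pCore p G).Normal := inferInstance
  have hx : g * w' * g⁻¹ ∈ pCore p G := hQn.conj_mem _ (hWQ hw') g
  have hab := elemAb_comm (elemAb_Wof S)
  have hquad : QuadOn (Wof p (S : Subgroup G)) (g * w' * g⁻¹) := by
    intro v hv
    have hv' : g⁻¹ * v * g ∈ (S : Subgroup G) := by
      have := hQn.conj_mem _ (hWQ hv) g⁻¹
      rw [inv_inv] at this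
      exact hQS this
    have h1 : ⁅g⁻¹ * v * g, w'⁆ ∈ Wof p (S : Subgroup G) := by
      rw [commutatorElement_def]
      exact (Wof p (S : Subgroup G)).mul_mem (Wof_conj_mem S hv' hw')
        ((Wof p (S : Subgroup G)).inv_mem hw')
    have h2 : ⁅v, g * w' * g⁻¹⁆ = g * ⁅g⁻¹ * v * g, w'⁆ * g⁻¹ := by
      rw [commutatorElement_def, commutatorElement_def]; group
    rw [h2]
    have h3 := hab w' hw' _ h1
    change g * w' * g⁻¹ * (g * ⁅g⁻¹ * v * g, w'⁆ * g⁻¹) = g * ⁅g⁻¹ * v * g, w'⁆ * g⁻¹ * (g * w' * g⁻¹)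
    calc g * w' * g⁻¹ * (g * ⁅g⁻¹ * v * g, w'⁆ * g⁻¹)
        = g * (w' * ⁅g⁻¹ * v * g, w'⁆) * g⁻¹ := by group
      _ = g * (⁅g⁻¹ * v * g, w'⁆ * w') * g⁻¹ := by rw [h3]
      _ = g * ⁅g⁻¹ * v * g, w'⁆ * g⁻¹ * (g * w' * g⁻¹) := by group
  exact mem_centralizer_Wof_of_quadOn S (hQS hx) hquad w hw

/-- `V = ⟨W(S)^G⟩` is elementary abelian -/
theorem elemAb_normalClosure_Wof (hst : IsActionPStable p G)
    (hc : Subgroup.centralizer (pCore p G : Set G) ≤ pCore p G) (S : Sylow p G) :
    IsElementaryAbelian p (Subgroup.normalClosure (Wof p (S : Subgroup G) : Set G)) := by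
  unfold Subgroup.normalClosure
  apply elemAb_closure
  · intro x hx y hy
    rw [Group.mem_conjugatesOfSet_iff] at hx hy
    obtain ⟨w, hw, hwx⟩ := hx
    obtain ⟨w', hw', hwy⟩ := hy
    obtain ⟨g, rfl⟩ := isConj_iff.mp hwx
    obtain ⟨h, rfl⟩ := isConj_iff.mp hwy
    have h1 := commute_conj_Wof hst hc S hw hw' (g⁻¹ * h)
    calc g * w * g⁻¹ * (h * w' * h⁻¹)
        = g * (w * (g⁻¹ * h * w' * (g⁻¹ * h)⁻¹)) * g⁻¹ := by group
      _ = g * (g⁻¹ * h * w' * (g⁻¹ * h)⁻¹ * w) * g⁻¹ := by rw [h1]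
      _ = h * w' * h⁻¹ * (g * w * g⁻¹) := by group
  · intro x hx
    rw [Group.mem_conjugatesOfSet_iff] at hx
    obtain ⟨w, hw, hwx⟩ := hx
    obtain ⟨g, rfl⟩ := isConj_iff.mp hwx
    rw [conj_pow, (elemAb_Wof S).2 w hw]; group

/-- an element of `maxElemAbIn p S` has maximal order in `G` -/
theorem maxElemAb_of_maxElemAbIn (S : Sylow p G) {A : Subgroup G}
    (hA : A ∈ maxElemAbIn p (S : Subgroup G)) : A ∈ maxElementaryAbelianSubgroups p G := by
  obtain ⟨A₀, hA₀, hA₀S⟩ := exists_maxElemAb_le_sylow S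
  refine ⟨hA.2.1, fun B hB => ?_⟩
  exact (hA₀.2 B hB).trans (hA.2.2 A₀ hA₀S hA₀.1)

/-- key step: every `A ∈ 𝒜(S)` centralizes `V = ⟨W(S)^G⟩` -/
theorem le_centralizer_normalClosure_Wof (hst : IsActionPStable p G)
    (hc : Subgroup.centralizer (pCore p G : Set G) ≤ pCore p G) (S : Sylow p G) {A : Subgroup G}
    (hA : A ∈ maxElemAbIn p (S : Subgroup G)) :
    A ≤ Subgroup.centralizer (Subgroup.normalClosure (Wof p (S : Subgroup G) : Set G) : Set G) := by
  set W := Wof p (S : Subgroup G) with hW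
  set V := Subgroup.normalClosure (W : Set G) with hV
  have hVn : V.Normal := Subgroup.normalClosure_normal
  haveI := hVn
  have hVe : IsElementaryAbelian p V := elemAb_normalClosure_Wof hst hc S
  have hWV : W ≤ V := Subgroup.le_normalClosure
  have hQS : pCore p G ≤ (S : Subgroup G) := pCore_le_sylow S
  have hVQ : V ≤ pCore p G := Subgroup.normalClosure_le_normal (Wof_le_pCore hst hc S)
  have hAG := maxElemAb_of_maxElemAbIn S hA
  obtain ⟨h1, h2, h3⟩ := Cfsg.Agent.S0607.result V hVe A hAG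
  set A' := ⁅V, A⁆ ⊔ (A ⊓ Subgroup.centralizer ((⁅V, A⁆ : Subgroup G) : Set G)) with hA'
  have hA'S : A' ≤ (S : Subgroup G) := by
    apply sup_le
    · exact (Subgroup.commutator_le_left V A).trans (hVQ.trans hQS)
    · exact inf_le_left.trans hA.1
  -- every element of `A'` centralizes `V`
  have hcent : A' ≤ Subgroup.centralizer (V : Set G) := by
    intro a ha
    have hq : QuadOn V a := by
      intro v hv
      rw [Subgroup.commutator_eq_bot_iff_le_centralizer] at h2
      have h4 : ⁅v, a⁆ ∈ ⁅V, A'⁆ := Subgroup.commutator_mem_commutator hv ha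
      exact h2 h4 a ha
    have hcore := hst.1 V hVe a (commutator_eq_bot_of_quadOn V a hq)
    set C := Subgroup.centralizer (V : Set G) with hC
    have hcomm : ∀ g : G, ∀ w ∈ W, (g⁻¹ * a * g) * w = w * (g⁻¹ * a * g) := by
      intro g w hw
      have hn : (pCore p (G ⧸ C)).Normal := inferInstance
      have h5 := hn.conj_mem _ hcore ((QuotientGroup.mk g⁻¹ : G ⧸ C))
      have h6 : (QuotientGroup.mk (g⁻¹ * a * g⁻¹⁻¹) : G ⧸ C) ∈ pCore p (G ⧸ C) := h5
      obtain ⟨s, hs, hsc⟩ := exists_sylow_mul_of_mem_pCore_quotient S C h6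
      set c := s⁻¹ * (g⁻¹ * a * g⁻¹⁻¹) with hc'
      have hsc' : g⁻¹ * a * g⁻¹⁻¹ = s * c := by rw [hc']; group
      have hQ1 : QuadOn V (g⁻¹ * a * g⁻¹⁻¹) := hq.conj hVn g⁻¹
      rw [hsc'] at hQ1
      have hQ2 : QuadOn V s := hQ1.of_mul_centralizer hVn hsc
      have hQ3 : QuadOn W s := hQ2.mono hWV
      have hsW := mem_centralizer_Wof_of_quadOn S hs hQ3
      have e1 : w * s = s * w := hsW w hw
      have e2 : w * c = c * w := hsc w (hWV hw)
      have e3 : g⁻¹ * a * g = s * c := by rw [← hsc', inv_inv]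
      rw [e3]
      calc s * c * w = s * (c * w) := by group
        _ = s * (w * c) := by rw [e2]
        _ = (s * w) * c := by group
        _ = (w * s) * c := by rw [e1]
        _ = w * (s * c) := by group
    rw [hC, hV, Subgroup.normalClosure, Subgroup.centralizer_closure]
    intro x hx
    rw [Group.mem_conjugatesOfSet_iff] at hx
    obtain ⟨w, hw, hwx⟩ := hx
    obtain ⟨g, rfl⟩ := isConj_iff.mp hwx
    have := hcomm g w hw
    calc g * w * g⁻¹ * a = g * (w * (g⁻¹ * a * g)) * g⁻¹ := by group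
      _ = g * ((g⁻¹ * a * g) * w) * g⁻¹ := by rw [this]
      _ = a * (g * w * g⁻¹) := by group
  have h4 : ⁅V, A'⁆ = ⊥ := by
    rw [Subgroup.commutator_eq_bot_iff_le_centralizer, Subgroup.le_centralizer_iff]
    exact hcent
  by_contra hcon
  apply h3 _ h4
  intro h5
  apply hcon
  rw [Subgroup.commutator_eq_bot_iff_le_centralizer, Subgroup.le_centralizer_iff] at h5
  exact h5


omit [Finite G] [Fact p.Prime] in
/-- `N_G(T) ≤ N_G(J(T))` -/
theorem normalizer_le_normalizer_thompson (T : Subgroup G) :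
    Subgroup.normalizer (T : Set G) ≤ Subgroup.normalizer (thompsonSubgroupOf p T : Set G) := by
  intro n hn
  apply mem_normalizer_of_conj_smul_eq
  have h2 := map_thompsonSubgroupOf p T (MulAut.conj n)
  have h3 : T.map (MulAut.conj n).toMonoidHom = T := by
    ext x
    constructor
    · rintro ⟨t, ht, rfl⟩
      exact (Subgroup.mem_normalizer_iff.mp hn t).mp ht
    · intro hx
      refine ⟨n⁻¹ * x * n, ?_, by simp [mul_assoc]⟩
      have := (Subgroup.mem_normalizer_iff.mp (Subgroup.inv_mem _ hn) x).mp hx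
      simpa using this
  rw [h3] at h2
  exact h2

/-- The analogue of the ZJ-Theorem: in an action-p-stable group whose largest normal p-subgroup contains its centralizer, the characteristic subgroup W(S) of a Sylow p-subgroup S is normal. -/
theorem result {G : Type*} [Group G] [Finite G] {p : ℕ} [Fact p.Prime] (hst : Cfsg.IsActionPStable p G) (hc : Subgroup.centralizer (Cfsg.pCore p G : Set G) ≤ Cfsg.pCore p G) (S : Sylow p G) : (((Cfsg.stableNormalClosure p ↥(S : Subgroup G)).map (S : Subgroup G).subtype)).Normal := by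
  change (Wof p (S : Subgroup G)).Normal
  set W := Wof p (S : Subgroup G) with hW
  set V := Subgroup.normalClosure (W : Set G) with hV
  have hVn : V.Normal := Subgroup.normalClosure_normal
  have hWV : W ≤ V := Subgroup.le_normalClosure
  set C := Subgroup.centralizer (V : Set G) with hC
  haveI hCn : C.Normal := inferInstance
  have hJC : thompsonSubgroupOf p (S : Subgroup G) ≤ C := by
    rw [thompsonSubgroupOf_eq_sSup]
    exact sSup_le fun A hA => le_centralizer_normalClosure_Wof hst hc S hA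
  have hJ : thompsonSubgroupOf p ((S : Subgroup G) ⊓ C) = thompsonSubgroupOf p (S : Subgroup G) :=
    thompsonSubgroupOf_eq_of_le p (le_inf (thompsonSubgroupOf_le_self p _) hJC) inf_le_left
  have hfr := frattini_inf S C
  have hNle : Subgroup.normalizer (((S : Subgroup G) ⊓ C : Subgroup G) : Set G) ≤
      Subgroup.normalizer (thompsonSubgroupOf p (S : Subgroup G) : Set G) := by
    have := normalizer_le_normalizer_thompson (p := p) ((S : Subgroup G) ⊓ C)
    rwa [hJ] at this
  constructor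
  intro w hw g
  have hg : g ∈ Subgroup.normalizer (((S : Subgroup G) ⊓ C : Subgroup G) : Set G) ⊔ C := by
    rw [hfr]; exact Subgroup.mem_top g
  rw [← SetLike.mem_coe, Subgroup.mul_normal] at hg
  obtain ⟨n, hn, c, hcC, rfl⟩ := Set.mem_mul.mp hg
  have h1 : c * w * c⁻¹ = w := by
    have := hcC w (hWV hw)
    rw [← this]; group
  have h2 : n * c * w * (n * c)⁻¹ = n * (c * w * c⁻¹) * n⁻¹ := by group
  rw [h2, h1]
  exact conj_mem_Wof_of_mem_normalizer hst hc S (hNle hn) hw

end Cfsg.Agent.S0624
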