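import Cfsg.Statements.S0625
import Cfsg.Agent.Lib.Helper35.PStabSection

set_option autoImplicit false
open Cfsg

namespace Cfsg.Agent.S0625

open Cfsg.Agent.Lib.Helper35 Cfsg.Agent.Lib.Helper35.PStab Cfsg.Agent.Lib.Helper76 Cfsg.Agent.Lib.Helper22

/-- A p-separable group with p at least 5 is p-stable in the action sense. -/
theorem result {G : Type*} [Group G] [Finite G] {p : ℕ} [Fact p.Prime] (hp : 5 ≤ p) (hsep : Cfsg.IsPSolvable p G) : Cfsg.IsActionPStable p G := by
  have hp2 : p ≠ 2 := by omega
  have hp3 : p ≠ 3 := by omega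
  refine ⟨?_, ?_, ?_⟩
  · intro V hVn hV a ha
    have hVp : IsPGroup p V := by
      rintro ⟨v, hv⟩
      refine ⟨1, ?_⟩
      apply Subtype.ext
      simp only [Subgroup.coe_pow, Subgroup.coe_one, pow_one]
      exact hV.2 v hv
    exact mem_pCore_quotient hp2 hsep (noSL_of_ne_three G hp3) V hVp a
      (quad_of_commutator V (Subgroup.zpowers a) ha a (Subgroup.mem_zpowers a))
  · exact pstable_section hp2 hsep (noSL_of_ne_three G hp3) _ _ (pCore_isPGroup' p G)
  · intro S V hVn hV a ha
    have hVp : IsPGroup p V := by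
      rintro ⟨v, hv⟩
      have h1 : (v : G) ∈ (S : Subgroup G) := by
        have h2 := hV (Subgroup.mem_map_of_mem _ hv)
        obtain ⟨s, -, hs⟩ := h2
        rw [← show ((S : Subgroup G).subtype s) = (v : G) from hs]
        exact s.2
      obtain ⟨k, hk⟩ := S.2 ⟨(v : G), h1⟩
      refine ⟨k, ?_⟩
      apply Subtype.ext
      apply Subtype.ext
      have := congrArg Subtype.val hk
      simpa using this
    exact mem_pCore_quotient hp2 (isPSolvable_subgroup _ hsep) (noSL_of_ne_three _ hp3) V hVp a
      (quad_of_commutator V (Subgroup.zpowers a) ha a (Subgroup.mem_zpowers a))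

end Cfsg.Agent.S0625
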