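import Cfsg.Statements.S0626
import Cfsg.Agent.Lib.Helper35.A2Class

set_option autoImplicit false
open Cfsg

namespace Cfsg.Agent.S0626

open Cfsg.Agent.Lib.Helper35 Cfsg.Agent.Lib.Helper35.PStab Cfsg.Agent.Lib.Helper22

/-- For odd p, groups whose Sylow 2-subgroups are abelian are p-stable in the action sense. -/
theorem result {G : Type*} [Group G] [Finite G] {p : ℕ} [Fact p.Prime] (hp : p ≠ 2) (hab : ∀ T : Sylow 2 G, IsMulCommutative T) : Cfsg.IsActionPStable p G := by
  have hC := stabClass_A2 (p := p) hp
  have hA2 : NoSL 3 G := noSL_of_sylow hab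
  refine ⟨?_, ?_, ?_⟩
  · intro V hVn hV a ha
    have hVp : IsPGroup p V := by
      rintro ⟨v, hv⟩
      refine ⟨1, ?_⟩
      apply Subtype.ext
      simp only [Subgroup.coe_pow, Subgroup.coe_one, pow_one]
      exact hV.2 v hv
    exact hC.mem_pCore_quotient (X := G) hA2 V hVp a
      (quad_of_commutator V (Subgroup.zpowers a) ha a (Subgroup.mem_zpowers a))
  · exact hC.pstable_section (X := G) hA2 _ _ (pCore_isPGroup' p G)
  · intro S V hVn hV a ha
    have hVp : IsPGroup p V := by
      rintro ⟨v, hv⟩
      have h1 : (v : G) ∈ (S : Subgroup G) := by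
        have h2 := hV (Subgroup.mem_map_of_mem _ hv)
        obtain ⟨s, -, hs⟩ := h2
        rw [← show ((S : Subgroup G).subtype s) = (v : G) from hs]
        exact s.2
      obtain ⟨k, hk⟩ := S.2 ⟨(v : G), h1⟩
      refine ⟨k, ?_⟩
      apply Subtype.ext
      apply Subtype.ext
      have := congrArg Subtype.val hk
      simpa using this
    exact hC.mem_pCore_quotient (X := ↥(Subgroup.normalizer
        (thompsonSubgroupOf p (S : Subgroup G) : Set G))) (hA2.subgroup _) V hVp a
      (quad_of_commutator V (Subgroup.zpowers a) ha a (Subgroup.mem_zpowers a))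

end Cfsg.Agent.S0626
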