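import Cfsg.Statements.S0628
import Cfsg.Agent.S0624
import Cfsg.Agent.Lib.Helper11.PStabAbelian
import Cfsg.Agent.Lib.Helper11.ThompsonCrit
import Cfsg.Agent.Lib.Helper11.PStable
import Cfsg.Agent.Lib.Helper11.NPC

set_option autoImplicit false
open Cfsg
open scoped commutatorElement
open Pointwise

namespace Cfsg.Agent.S0628

open Cfsg.Agent.Lib.Helper11 Cfsg.Agent.Lib.Helper10

universe u

/-- a finite `p`-group acts `p`-stably on every normal subgroup -/
theorem isPStableOn_of_isPGroup {Y : Type*} [Group Y] {p : ℕ} (hY : IsPGroup p Y)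
    (V : Subgroup Y) [V.Normal] : IsPStableOn p V := by
  intro a _
  have h : pCore p (Y ⧸ Subgroup.centralizer (V : Set Y)) = ⊤ := by
    apply top_le_iff.mp
    apply le_pCore (inferInstance : (⊤ : Subgroup (Y ⧸ Subgroup.centralizer (V : Set Y))).Normal)
    exact (hY.to_quotient _).to_subgroup ⊤
  rw [h]; exact Subgroup.mem_top _

/-- image of a coatom containing the kernel -/
theorem isCoatom_map_of_ker_le' {X Y : Type*} [Group X] [Group Y] (f : X →* Y)
    (hf : Function.Surjective f) {M : Subgroup X} (hM : IsCoatom M) (hker : f.ker ≤ M) :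
    IsCoatom (M.map f) := by
  have hcm : (M.map f).comap f = M := by
    rw [Subgroup.comap_map_eq, sup_eq_left.mpr hker]
  constructor
  · intro h
    apply hM.1
    rw [← hcm, h, Subgroup.comap_top]
  · intro L hL
    have h1 : M < L.comap f := by
      refine lt_of_le_of_ne ?_ ?_
      · rw [← hcm]; exact Subgroup.comap_mono hL.le
      · intro h
        apply hL.ne
        rw [h, Subgroup.map_comap_eq_self_of_surjective hf]
    have h2 := hM.2 _ h1
    rw [← Subgroup.map_comap_eq_self_of_surjective hf L, h2, Subgroup.map_top_of_surjective f hf]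

variable {X : Type u} [Group X] [Finite X] {p : ℕ} [Fact p.Prime]

/-- every Sylow `p`-subgroup is a coatom if one is -/
theorem isCoatom_sylow (T S : Sylow p X) (hT : IsCoatom (T : Subgroup X)) :
    IsCoatom (S : Subgroup X) := by
  obtain ⟨g, hg⟩ := MulAction.exists_smul_eq X T S
  have h1 : (S : Subgroup X) = (MulAut.conj g).mapSubgroup (T : Subgroup X) := by
    rw [← hg]; rfl
  rw [h1, OrderIso.isCoatom_iff]
  exact hT

/-- clause 3 of action `p`-stability, general form -/
theorem clause_three_aux (hp2 : p ≠ 2) (hq : HasNormalPComplement p (X ⧸ pCore p X)) (T : Sylow p X)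
    (hT : IsCoatom (T : Subgroup X)) (S : Sylow p X) (N : Subgroup X)
    (hN : N = ⊤ ∨ N = (S : Subgroup X)) (V : Subgroup ↥N) [hVn : V.Normal]
    (hle : V.map N.subtype ≤ (S : Subgroup X)) :
    IsPStableOn p V := by
  rcases hN with h | h
  · -- `N = X`
    have hVn' : (V.map N.subtype).Normal := by
      constructor
      rintro _ ⟨v, hv, rfl⟩ x
      have hx : x ∈ N := by rw [h]; exact Subgroup.mem_top x
      exact ⟨⟨x, hx⟩ * v * ⟨x, hx⟩⁻¹, hVn.conj_mem v hv ⟨x, hx⟩, by simp⟩
    have hVp : IsPGroup p (V.map N.subtype) := S.isPGroup'.to_le hle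
    have hstab := @isPStableOn_of_coatom X _ _ p _ hp2 hq T hT (V.map N.subtype) hVn' hVp
    intro a ha
    have hinj : Function.Injective N.subtype := Subtype.coe_injective
    have hsurj : Function.Surjective N.subtype := by
      intro x
      exact ⟨⟨x, by rw [h]; exact Subgroup.mem_top x⟩, rfl⟩
    have hq1 : QuadOn V a := (quadOn_iff V a).mpr ha
    have hq2 : QuadOn (V.map N.subtype) (N.subtype a) := (quadOn_map_iff N.subtype hinj V a).mpr hq1
    have h3 := @hstab (N.subtype a) ((quadOn_iff _ _).mp hq2)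
    haveI := hVn'
    refine (quotient_pCore_transfer p N.subtype hsurj (Subgroup.centralizer (V : Set ↥N))
      (Subgroup.centralizer ((V.map N.subtype : Subgroup X) : Set X)) ?_ a).mpr h3
    intro x
    constructor
    · rintro hx _ ⟨v, hv, rfl⟩
      have := hx v hv
      exact congrArg Subtype.val this
    · intro hx v hv
      have := hx (N.subtype v) (Subgroup.mem_map_of_mem _ hv)
      exact Subtype.ext this
  · -- `N = S`
    have hNp : IsPGroup p ↥N := S.isPGroup'.to_le (le_of_eq h)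
    exact isPStableOn_of_isPGroup hNp V

/-- clause 3 of action `p`-stability -/
theorem clause_three (hp2 : p ≠ 2) (hq : HasNormalPComplement p (X ⧸ pCore p X)) (T : Sylow p X)
    (hT : IsCoatom (T : Subgroup X)) (S : Sylow p X)
    (V : Subgroup ↥(Subgroup.normalizer (thompsonSubgroupOf p (S : Subgroup X) : Set X)))
    [hVn : V.Normal]
    (hle : V.map (Subgroup.normalizer (thompsonSubgroupOf p (S : Subgroup X) : Set X)).subtype ≤
        (omegaCenterThompson p ↥(S : Subgroup X)).map (S : Subgroup X).subtype) :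
    IsPStableOn p V := by
  have hS : IsCoatom (S : Subgroup X) := isCoatom_sylow T S hT
  have hSN := Cfsg.Agent.S0624.le_normalizer_thompson (p := p) (S : Subgroup X)
  exact clause_three_aux hp2 hq T hT S _ (hS.le_iff.mp hSN) V
    (hle.trans (Subgroup.map_subtype_le _))


/-- clause 2 of action `p`-stability, for any normal `Φ ≤ O_p(X)` -/
theorem isPStableOnSection_of_coatom (hp2 : p ≠ 2)
    (hq : HasNormalPComplement p (X ⧸ pCore p X)) (T : Sylow p X)
    (hT : IsCoatom (T : Subgroup X)) (Φ : Subgroup X) [hΦ : Φ.Normal] (hΦQ : Φ ≤ pCore p X) :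
    IsPStableOnSection p (pCore p X) Φ := by
  have hπ : Function.Surjective (QuotientGroup.mk' Φ) := QuotientGroup.mk'_surjective Φ
  have hQp : IsPGroup p (pCore p X) := pCore_isPGroup p X
  have hker : (QuotientGroup.mk' Φ).ker = Φ := QuotientGroup.ker_mk' Φ
  have hQbn : ((pCore p X).map (QuotientGroup.mk' Φ)).Normal :=
    Subgroup.Normal.map inferInstance _ hπ
  have hQbp : IsPGroup p ((pCore p X).map (QuotientGroup.mk' Φ)) := hQp.map _
  have hmax : ∀ R : Subgroup (X ⧸ Φ), R.Normal → IsPGroup p R →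
      R ≤ (pCore p X).map (QuotientGroup.mk' Φ) := by
    intro R hRn hRp
    have h1 : IsPGroup p (R.comap (QuotientGroup.mk' Φ)) :=
      hRp.comap_of_ker_isPGroup _ (by rw [hker]; exact hQp.to_le hΦQ)
    have h2 : R.comap (QuotientGroup.mk' Φ) ≤ pCore p X := le_pCore (hRn.comap _) h1
    rw [← Subgroup.map_comap_eq_self_of_surjective hπ R]
    exact Subgroup.map_mono h2
  have hq' : HasNormalPComplement p ((X ⧸ Φ) ⧸ (pCore p X).map (QuotientGroup.mk' Φ)) :=
    hasNPC_of_mulEquiv (QuotientGroup.quotientQuotientEquivQuotient Φ (pCore p X) hΦQ).symm hq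
  obtain ⟨Mb, hMb⟩ := exists_wit_of_hasNPC hq'
  have hTb : IsCoatom ((T.mapSurjective hπ : Sylow p (X ⧸ Φ)) : Subgroup (X ⧸ Φ)) := by
    rw [Sylow.coe_mapSurjective]
    apply isCoatom_map_of_ker_le' _ hπ hT
    rw [hker]
    exact hΦQ.trans (pCore_le_sylow T)
  have hstab := @isPStableOn_of_coatom_aux (X ⧸ Φ) _ _ p _ hp2
    ((pCore p X).map (QuotientGroup.mk' Φ)) hQbn hQbp hmax Mb hMb (T.mapSurjective hπ) hTb
    ((pCore p X).map (QuotientGroup.mk' Φ)) hQbn hQbp
  intro a ha
  have hquad : QuadOn ((pCore p X).map (QuotientGroup.mk' Φ)) ((QuotientGroup.mk' Φ) a) := by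
    rintro _ ⟨v, hv, rfl⟩
    rw [← map_commutatorElement]
    have h1 : ⁅⁅v, a⁆, a⁆ ∈ Φ := by
      apply ha
      exact Subgroup.commutator_mem_commutator
        (Subgroup.commutator_mem_commutator hv (Subgroup.mem_zpowers a)) (Subgroup.mem_zpowers a)
    have h2 : (QuotientGroup.mk' Φ) (⁅v, a⁆ * a * ⁅v, a⁆⁻¹ * a⁻¹) = 1 := by
      rw [← commutatorElement_def]
      exact (QuotientGroup.eq_one_iff _).mpr h1
    rw [map_mul, map_mul, map_mul, map_inv, map_inv] at h2
    change (QuotientGroup.mk' Φ) a * (QuotientGroup.mk' Φ) ⁅v, a⁆ =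
      (QuotientGroup.mk' Φ) ⁅v, a⁆ * (QuotientGroup.mk' Φ) a
    calc (QuotientGroup.mk' Φ) a * (QuotientGroup.mk' Φ) ⁅v, a⁆
        = ((QuotientGroup.mk' Φ) ⁅v, a⁆ * (QuotientGroup.mk' Φ) a * ((QuotientGroup.mk' Φ) ⁅v, a⁆)⁻¹ *
            ((QuotientGroup.mk' Φ) a)⁻¹)⁻¹ *
            ((QuotientGroup.mk' Φ) ⁅v, a⁆ * (QuotientGroup.mk' Φ) a) := by group
      _ = (QuotientGroup.mk' Φ) ⁅v, a⁆ * (QuotientGroup.mk' Φ) a := by rw [h2, inv_one, one_mul]
  have h3 := @hstab ((QuotientGroup.mk' Φ) a) ((quadOn_iff _ _).mp hquad)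
  set Cb := Subgroup.centralizer
    (((pCore p X).map (QuotientGroup.mk' Φ) : Subgroup (X ⧸ Φ)) : Set (X ⧸ Φ)) with hCb
  haveI hCbn : Cb.Normal := by
    haveI := hQbn
    rw [hCb]; infer_instance
  set ψ : X →* (X ⧸ Φ) ⧸ Cb := (QuotientGroup.mk' Cb).comp (QuotientGroup.mk' Φ) with hψ
  have hψs : Function.Surjective ψ := (QuotientGroup.mk'_surjective Cb).comp hπ
  have hK : sectionKernel (pCore p X) Φ = (⊥ : Subgroup ((X ⧸ Φ) ⧸ Cb)).comap ψ := by
    ext x
    unfold sectionKernel
    rw [Subgroup.mem_comap, Subgroup.mem_comap, Subgroup.mem_bot, hψ, MonoidHom.comp_apply,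
      QuotientGroup.mk'_apply (N := Cb), QuotientGroup.eq_one_iff]
  refine ⟨(pCore p ((X ⧸ Φ) ⧸ Cb)).comap ψ, Subgroup.Normal.comap inferInstance _, ?_, ?_, h3⟩
  · rw [hK]
    exact Subgroup.comap_mono bot_le
  · have hP : IsPGroup p (pCore p ((X ⧸ Φ) ⧸ Cb)) := pCore_isPGroup p _
    obtain ⟨k, hk⟩ := IsPGroup.iff_card.mp hP
    refine ⟨k, ?_⟩
    rw [hK, Subgroup.relIndex_comap, Subgroup.map_comap_eq_self_of_surjective hψs,
      Subgroup.relIndex_bot_left, hk]

/-- a group with `X / O_p(X)` having a normal `p`-complement and a maximal Sylow `p`-subgroup is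
`p`-stable in the action sense (`p` odd) -/
theorem isActionPStable_of_coatom (hp2 : p ≠ 2)
    (hq : HasNormalPComplement p (X ⧸ pCore p X)) (T : Sylow p X)
    (hT : IsCoatom (T : Subgroup X)) : IsActionPStable p X := by
  refine ⟨?_, ?_, ?_⟩
  · intro V hVn hV
    exact isPStableOn_of_coatom hp2 hq T hT V (elemAb_isPGroup hV)
  · apply isPStableOnSection_of_coatom hp2 hq T hT
    exact Subgroup.map_subtype_le _
  · intro S V hVn hle
    exact clause_three hp2 hq T hT S V hle


/-- `S ↦ W(S)` is an isomorphism-invariant `p`-group functor -/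
theorem isCharPFunctor_W (p : ℕ) [Fact p.Prime] :
    IsCharPFunctor.{u} p (fun (Q : Type u) [Group Q] => stableNormalClosure p Q) := by
  refine ⟨?_, ?_⟩
  · intro Q _ _ hQ hnt
    exact (Cfsg.Agent.S0622.result hQ).2.2.2.1 hnt
  · intro Q R _ _ _ hQ φ
    exact (Cfsg.Agent.S0622.result hQ).2.2.2.2 R φ

/-- The normal p-complement Theorem of Thompson in the form with W(S): for odd p, G has a normal p-complement as soon as the normalizer of the characteristic subgroup W(S) of a Sylow p-subgroup S has one. -/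
theorem result {G : Type*} [Group G] [Finite G] {p : ℕ} [Fact p.Prime] (hp : p ≠ 2) (S : Sylow p G) (hN : Cfsg.HasNormalPComplement p ↥(Subgroup.normalizer (((Cfsg.stableNormalClosure p ↥(S : Subgroup G)).map (S : Subgroup G).subtype) : Set G))) : Cfsg.HasNormalPComplement p G := by
  refine thompson_criterion p (fun (Q : Type _) [Group Q] => stableNormalClosure p Q)
    (isCharPFunctor_W p) (fun _ _ => True) (fun _ _ _ _ => trivial)
    (fun _ _ _ _ _ => trivial) ?_ _ G trivial rfl S hN
  intro X _ _ _ hc hq T hT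
  exact Cfsg.Agent.S0624.result (isActionPStable_of_coatom hp hq T hT) hc T

end Cfsg.Agent.S0628
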