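import Cfsg.Statements.S0627
import Cfsg.Agent.S0624
import Cfsg.Agent.S0625
import Cfsg.Agent.S0628
import Cfsg.Agent.Lib.Helper11.CharFunctor
import Cfsg.Agent.Lib.Helper11.PConstrained
import Cfsg.Agent.Lib.Helper54.PConstr3
import Cfsg.Agent.Lib.Helper55.Cores
import Cfsg.Agent.Lib.Helper76.PSolvable

set_option autoImplicit false
open Cfsg

namespace Cfsg.Agent.S0627

open Cfsg.Agent.Lib.Helper11

/-- In a p-separable group with p at least 5, the normalizer of W(S) supplements the largest normal subgroup of order prime to p. -/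
theorem result {G : Type*} [Group G] [Finite G] {p : ℕ} [Fact p.Prime] (hp : 5 ≤ p) (hsep : Cfsg.IsPSolvable p G) (S : Sylow p G) : Cfsg.pPrimeCore p G ⊔ Subgroup.normalizer (((Cfsg.stableNormalClosure p ↥(S : Subgroup G)).map (S : Subgroup G).subtype) : Set G) = ⊤ := by
  set K := pPrimeCore p G with hK
  set π := QuotientGroup.mk' K with hπdef
  have hπ : Function.Surjective π := QuotientGroup.mk'_surjective K
  have hker : π.ker = K := QuotientGroup.ker_mk' K
  have hKcop : (Nat.card K).Coprime p := Cfsg.Agent.Lib.Helper55.pPrimeCore_card_coprime p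
  -- the quotient
  have hsol : IsPSolvable p (G ⧸ K) := Cfsg.Agent.Lib.Helper76.isPSolvable_quotient K hsep
  have hO : pPrimeCore p (G ⧸ K) = ⊥ := Cfsg.Agent.Lib.Helper55.pPrimeCore_quotient_eq_bot p
  have hc : Subgroup.centralizer (pCore p (G ⧸ K) : Set (G ⧸ K)) ≤ pCore p (G ⧸ K) := by
    apply le_pCore_of_isPSolvable_of_le_centralizer hO
    · exact Cfsg.Agent.Lib.Helper76.isPSolvable_subgroup _ hsol
    · exact le_rfl
  have hst : IsActionPStable p (G ⧸ K) := Cfsg.Agent.S0625.result hp hsol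
  have hnorm := Cfsg.Agent.S0624.result hst hc (S.mapSurjective hπ)
  -- identify `W` of the image
  have hinj : (S : Subgroup G) ⊓ π.ker = ⊥ := by
    rw [hker, eq_bot_iff]
    intro x hx
    obtain ⟨hxS, hxK⟩ := Subgroup.mem_inf.mp hx
    rw [Subgroup.mem_bot]
    obtain ⟨n, hn⟩ := (IsPGroup.iff_orderOf.mp S.isPGroup') ⟨x, hxS⟩
    have h1 : orderOf x = p ^ n := by rw [← hn]; exact (Subgroup.orderOf_mk x hxS).symm
    have h2 : orderOf x ∣ Nat.card K := by
      have := orderOf_dvd_natCard (⟨x, hxK⟩ : ↥K)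
      rwa [Subgroup.orderOf_mk] at this
    have h3 : (orderOf x).Coprime (p ^ n) := (Nat.Coprime.coprime_dvd_left h2 hKcop).pow_right n
    rw [h1] at h3
    have h4 : p ^ n = 1 := (Nat.coprime_self _).mp h3
    rw [h4] at h1
    exact orderOf_eq_one_iff.mp h1
  have hmap := inducedFunctor_map (fun (Q : Type _) [Group Q] => stableNormalClosure p Q)
    (Cfsg.Agent.S0628.isCharPFunctor_W p) π (S : Subgroup G) S.isPGroup' hinj
  have hWeq : (stableNormalClosure p ↥((S.mapSurjective hπ : Sylow p (G ⧸ K)) : Subgroup (G ⧸ K))).map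
      ((S.mapSurjective hπ : Sylow p (G ⧸ K)) : Subgroup (G ⧸ K)).subtype =
      ((stableNormalClosure p ↥(S : Subgroup G)).map (S : Subgroup G).subtype).map π := by
    have h1 : ((S.mapSurjective hπ : Sylow p (G ⧸ K)) : Subgroup (G ⧸ K)) = (S : Subgroup G).map π :=
      Sylow.coe_mapSurjective hπ S
    rw [h1]
    exact hmap
  rw [hWeq] at hnorm
  set W := (stableNormalClosure p ↥(S : Subgroup G)).map (S : Subgroup G).subtype with hW
  have hWp : IsPGroup p W := S.isPGroup'.to_le (Subgroup.map_subtype_le _)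
  rw [eq_top_iff]
  intro g _
  have hg' : π g ∈ Subgroup.normalizer ((W.map π : Subgroup (G ⧸ K)) : Set (G ⧸ K)) := by
    rw [Subgroup.normalizer_eq_top]; exact Subgroup.mem_top _
  obtain ⟨n, hn, hng⟩ := Cfsg.Agent.Lib.Helper54.exists_mem_normalizer_map_eq p π hπ
    (by rw [hker]; exact hKcop) W hWp (π g) hg'
  have h1 : g * n⁻¹ ∈ K := by
    rw [← hker, MonoidHom.mem_ker, map_mul, map_inv, hng, mul_inv_cancel]
  have h2 : g = (g * n⁻¹) * n := by group
  rw [h2]
  exact Subgroup.mul_mem _ (Subgroup.mem_sup_left h1) (Subgroup.mem_sup_right hn)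

end Cfsg.Agent.S0627
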