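import Cfsg.Statements.S0631
import Cfsg.Agent.Lib.Helper54.PConstr3
import Cfsg.Agent.Lib.Helper54.PConstr5

set_option autoImplicit false
set_option linter.style.haveILetI false
set_option linter.unusedSectionVars false
open Cfsg

namespace Cfsg.Agent.S0631

open Cfsg.Agent.Lib.Helper54 Cfsg.Agent.Lib

section centralizer

variable {Y : Type*} [Group Y] [Finite Y] (p : ℕ) [hp : Fact p.Prime]
  (h0 : pPrimeCore p Y = ⊥)
  (hc : Subgroup.centralizer (pCore p Y : Set Y) ≤ pCore p Y)
  (Q : Subgroup Y) (hQ : IsPGroup p Q)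

include h0 hc hQ

theorem pPrimeCore_centralizer_eq_bot :
    pPrimeCore p (Subgroup.centralizer (Q : Set Y)) = ⊥ := by
  obtain ⟨N, hN⟩ : ∃ N, N = Subgroup.centralizer (Q : Set Y) := ⟨_, rfl⟩
  rw [← hN]
  haveI : (pCore p Y).Normal := Helper55.pCore_normal' p
  have hRp : IsPGroup p (pCore p Y) := Helper55.pCore_isPGroup p
  obtain ⟨KN, hKN⟩ : ∃ KN, KN = pPrimeCore p N := ⟨_, rfl⟩
  rw [← hKN]
  haveI hKNn : KN.Normal := hKN ▸ Helper55.pPrimeCore_normal' p
  have hKNc : (Nat.card KN).Coprime p := hKN ▸ Helper55.pPrimeCore_card_coprime p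
  haveI hRNn : ((pCore p Y).subgroupOf N).Normal := Subgroup.Normal.subgroupOf inferInstance N
  have hRNp : IsPGroup p ((pCore p Y).subgroupOf N) := hRp.comap_subtype
  have hdisj : ∀ (M : Subgroup N), IsPGroup p M → Disjoint KN M := by
    intro M hM
    apply Subgroup.disjoint_of_coprime_natCard
    obtain ⟨j, hj⟩ := IsPGroup.iff_card.mp hM
    rw [hj]
    exact Nat.Coprime.pow_right j hKNc
  have hcard : Nat.card (KN.map N.subtype) = Nat.card KN :=
    Nat.card_congr (Subgroup.equivMapOfInjective KN N.subtype N.subtype_injective).symm.toEquiv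
  have hbot : KN.map N.subtype = ⊥ := by
    apply eq_bot_of_centralizes p h0 hc Q hQ
    · rw [hcard]; exact hKNc
    · intro q hq
      rw [Subgroup.mem_centralizer_iff]
      rintro _ ⟨k, hk, rfl⟩
      have hkN : (k : Y) ∈ Subgroup.centralizer (Q : Set Y) := hN ▸ k.2
      rw [Subgroup.mem_centralizer_iff] at hkN
      exact (hkN q hq).symm
    · intro r hr
      rw [Subgroup.mem_centralizer_iff]
      rintro _ ⟨k, hk, rfl⟩
      have hrN : r ∈ N := by
        rw [hN]; exact hr.2
      have := Subgroup.commute_of_normal_of_disjoint KN _ hKNn hRNn (hdisj _ hRNp) k ⟨r, hrN⟩ hk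
        (Subgroup.mem_subgroupOf.mpr hr.1)
      exact congrArg Subtype.val this.eq
  rw [eq_bot_iff]
  intro k hk
  have : (k : Y) ∈ KN.map N.subtype := ⟨k, hk, rfl⟩
  rw [hbot, Subgroup.mem_bot] at this
  rw [Subgroup.mem_bot]
  exact Subtype.ext this

theorem centralizer_pCore_centralizer_le :
    Subgroup.centralizer (pCore p (Subgroup.centralizer (Q : Set Y)) :
      Set (Subgroup.centralizer (Q : Set Y))) ≤ pCore p (Subgroup.centralizer (Q : Set Y)) := by
  obtain ⟨N, hN⟩ : ∃ N, N = Subgroup.centralizer (Q : Set Y) := ⟨_, rfl⟩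
  rw [← hN]
  haveI : (pCore p Y).Normal := Helper55.pCore_normal' p
  have hRp : IsPGroup p (pCore p Y) := Helper55.pCore_isPGroup p
  obtain ⟨P₁, hP₁⟩ : ∃ P₁, P₁ = pCore p N := ⟨_, rfl⟩
  rw [← hP₁]
  haveI hP₁n : P₁.Normal := hP₁ ▸ Helper55.pCore_normal' p
  haveI hRNn : ((pCore p Y).subgroupOf N).Normal := Subgroup.Normal.subgroupOf inferInstance N
  have hRP₁ : (pCore p Y).subgroupOf N ≤ P₁ :=
    hP₁ ▸ Helper55.le_pCore p _ (hRp.comap_subtype)
  obtain ⟨W, hW⟩ : ∃ W, W = Subgroup.centralizer (P₁ : Set N) := ⟨_, rfl⟩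
  rw [← hW]
  haveI hWn : W.Normal := hW ▸ Subgroup.normal_centralizer
  have hWp : IsPGroup p W := by
    apply isPGroup_of_forall_coprime_eq_one
    intro w hw hcop
    rw [hW, Subgroup.mem_centralizer_iff] at hw
    have hbot : Subgroup.zpowers (w : Y) = ⊥ := by
      apply eq_bot_of_centralizes p h0 hc Q hQ
      · rw [Nat.card_zpowers, Subgroup.orderOf_coe]; exact hcop
      · intro q hq
        rw [Subgroup.mem_centralizer_iff]
        intro a ha
        rw [SetLike.mem_coe, Subgroup.mem_zpowers_iff] at ha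
        obtain ⟨n, rfl⟩ := ha
        have hwN : (w : Y) ∈ Subgroup.centralizer (Q : Set Y) := hN ▸ w.2
        rw [Subgroup.mem_centralizer_iff] at hwN
        have h2 : q * (w : Y) = (w : Y) * q := hwN q hq
        exact ((Commute.zpow_right (show Commute q (w : Y) from h2) n).eq).symm
      · intro r hr
        rw [Subgroup.mem_centralizer_iff]
        intro a ha
        rw [SetLike.mem_coe, Subgroup.mem_zpowers_iff] at ha
        obtain ⟨n, rfl⟩ := ha
        have hrN : r ∈ N := by
          rw [hN]; exact hr.2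
        have h1 := hw ⟨r, hrN⟩ (hRP₁ (Subgroup.mem_subgroupOf.mpr hr.1))
        have h2 : r * (w : Y) = (w : Y) * r := congrArg Subtype.val h1
        exact ((Commute.zpow_right (show Commute r (w : Y) from h2) n).eq).symm
    have : (w : Y) ∈ Subgroup.zpowers (w : Y) := Subgroup.mem_zpowers _
    rw [hbot, Subgroup.mem_bot] at this
    exact Subtype.ext this
  exact hP₁ ▸ Helper55.le_pCore p W hWp

theorem isPConstrained_centralizer_of_charP :
    IsPConstrained p (Subgroup.centralizer (Q : Set Y)) :=
  isPConstrained_of_charP p (pPrimeCore_centralizer_eq_bot p h0 hc Q hQ)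
    (centralizer_pCore_centralizer_le p h0 hc Q hQ)

end centralizer

/-- p-constraint is inherited by centralizers of p-subgroups. -/
theorem isPConstrained_centralizer {H : Type*} [Group H] [Finite H] (p : ℕ) [Fact p.Prime]
    (h : IsPConstrained p H) (Q : Subgroup H) (hQ : IsPGroup p Q) :
    IsPConstrained p (Subgroup.centralizer (Q : Set H)) := by
  obtain ⟨K, hK⟩ : ∃ K, K = pPrimeCore p H := ⟨_, rfl⟩
  haveI hKn : K.Normal := hK ▸ Helper55.pPrimeCore_normal' p
  have hKc : (Nat.card K).Coprime p := hK ▸ Helper55.pPrimeCore_card_coprime p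
  have hsurj : Function.Surjective (QuotientGroup.mk' K) := QuotientGroup.mk'_surjective K
  have hker : (Nat.card (QuotientGroup.mk' K).ker).Coprime p := by
    rw [QuotientGroup.ker_mk']; exact hKc
  have h0 : pPrimeCore p (H ⧸ K) = ⊥ := by
    subst hK; exact Helper55.pPrimeCore_quotient_eq_bot p
  have hbar : IsPConstrained p (H ⧸ K) := isPConstrained_map p _ hsurj hker h
  have hc := charP_of_isPConstrained p h0 hbar
  have hQbar : IsPGroup p (Q.map (QuotientGroup.mk' K)) := hQ.map _
  have hN := isPConstrained_centralizer_of_charP p h0 hc _ hQbar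
  let φ : Subgroup.centralizer (Q : Set H) →*
      Subgroup.centralizer ((Q.map (QuotientGroup.mk' K) : Subgroup (H ⧸ K)) : Set (H ⧸ K)) :=
    ((QuotientGroup.mk' K).comp (Subgroup.centralizer (Q : Set H)).subtype).codRestrict _ (by
      intro n
      rw [Subgroup.mem_centralizer_iff]
      rintro _ ⟨q, hq, rfl⟩
      have hn := n.2
      rw [Subgroup.mem_centralizer_iff] at hn
      have := hn q hq
      show (QuotientGroup.mk' K) q * (QuotientGroup.mk' K) (n : H) =
        (QuotientGroup.mk' K) (n : H) * (QuotientGroup.mk' K) q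
      rw [← map_mul, ← map_mul, this])
  have hφsurj : Function.Surjective φ := by
    rintro ⟨n', hn'⟩
    obtain ⟨n, hn, hfn⟩ := exists_mem_centralizer_map_eq p (QuotientGroup.mk' K) hker Q hQ n' hn'
      (by rw [MonoidHom.range_eq_top.mpr hsurj]; trivial)
    exact ⟨⟨n, hn⟩, Subtype.ext hfn⟩
  have hφker : (Nat.card φ.ker).Coprime p := by
    let ι : φ.ker →* K :=
      { toFun := fun x => ⟨((x : Subgroup.centralizer (Q : Set H)) : H), by
          have h1 : φ (x : Subgroup.centralizer (Q : Set H)) = 1 := x.2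
          have h2 : (QuotientGroup.mk' K) ((x : Subgroup.centralizer (Q : Set H)) : H) = 1 :=
            congrArg Subtype.val h1
          rwa [QuotientGroup.mk'_apply, QuotientGroup.eq_one_iff] at h2⟩
        map_one' := rfl
        map_mul' := fun _ _ => rfl }
    have hι : Function.Injective ι := by
      intro x y hxy
      have : ((x : Subgroup.centralizer (Q : Set H)) : H) = ((y : Subgroup.centralizer (Q : Set H)) : H) :=
        congrArg (fun z : K => (z : H)) hxy
      exact Subtype.ext (Subtype.ext this)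
    exact Nat.Coprime.coprime_dvd_left (Subgroup.card_dvd_of_injective ι hι) hKc
  exact isPConstrained_of_map p φ hφsurj hφker hN

/-- In a p-constrained group the normalizer and the centralizer of any p-subgroup are again p-constrained. -/
theorem result {G : Type*} [Group G] [Finite G] {p : ℕ} [Fact p.Prime] (hG : Cfsg.IsPConstrained p G) (P : Subgroup G) (hP : IsPGroup p P) : Cfsg.IsPConstrained p ↥(Subgroup.normalizer (P : Set G)) ∧ Cfsg.IsPConstrained p ↥(Subgroup.centralizer (P : Set G)) := by
  exact ⟨isPConstrained_normalizer p hG P hP, isPConstrained_centralizer p hG P hP⟩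

end Cfsg.Agent.S0631
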