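import Cfsg.Statements.S0633
import Cfsg.Agent.Lib.Helper66.HHThmB3
import Cfsg.Agent.Lib.Helper66.PSolvDual
import Cfsg.Agent.Lib.Helper66.SylowGen
import Cfsg.Agent.Lib.Helper24.SylowInv

set_option autoImplicit false
open Cfsg

namespace Cfsg.Agent.S0633

open Cfsg.Agent.Lib.Helper66.HHCrit Cfsg.Agent.Lib.Helper66.HHThmB Module
open Cfsg.Agent.Lib.Helper55

/-- group-theoretic part: an invariant Sylow subgroup of `O_{p'}(G)` not centralised by
`x^(p^(n-1))` -/
theorem exists_inv_sylow_not_centralized {G : Type*} [Group G] [Finite G] {p : ℕ} [Fact p.Prime]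
    (hsol : IsPSolvable p G) (hOp : pCore p G = ⊥) (x : G) (n : ℕ) (hn : 1 ≤ n)
    (hx : orderOf x = p ^ n) :
    ∃ (q : ℕ) (_ : q.Prime) (S : Subgroup G), q ≠ p ∧ IsPGroup q S ∧
      x ∈ Subgroup.normalizer (S : Set G) ∧
      ∃ g ∈ S, x ^ (p ^ (n - 1)) * g ≠ g * x ^ (p ^ (n - 1)) := by
  have hp : p.Prime := Fact.out
  have hNn : (pPrimeCore p G).Normal := pPrimeCore_normal' p
  have hNcop : (Nat.card (pPrimeCore p G)).Coprime p := pPrimeCore_card_coprime p
  have hcent := Cfsg.Agent.Lib.Helper66.PSolvDual.centralizer_pPrimeCore_le_of_isPSolvable hsol hOp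
  set N := pPrimeCore p G with hN
  set y := x ^ (p ^ (n - 1)) with hy
  have hyord : orderOf y = p := by
    rw [hy, orderOf_pow_of_dvd (pow_pos hp.pos _).ne' (by rw [hx]; exact pow_dvd_pow p (by omega)),
      hx]
    have : p ^ n = p ^ (n - 1) * p := by rw [← pow_succ]; congr 1; omega
    rw [this, Nat.mul_div_cancel_left _ (pow_pos hp.pos _)]
  have hyN : y ∉ N := by
    intro hmem
    have h1 : orderOf y ∣ Nat.card N := Subgroup.orderOf_dvd_natCard N hmem
    rw [hyord] at h1
    exact (Nat.Prime.coprime_iff_not_dvd hp).mp hNcop.symm h1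
  have hAN : Subgroup.zpowers x ≤ Subgroup.normalizer (N : Set G) := by
    rw [Subgroup.normalizer_eq_top]; exact le_top
  have hcop : (Nat.card (Subgroup.zpowers x)).Coprime (Nat.card N) := by
    rw [Nat.card_zpowers, hx]
    exact (Nat.Coprime.pow_right n hNcop).symm
  have hsolv : Group.IsSolvable (Subgroup.zpowers x) ∨ Group.IsSolvable N :=
    Or.inl inferInstance
  by_contra hcon
  push Not at hcon
  apply hyN
  apply hcent
  rw [Subgroup.mem_centralizer_iff]
  have hM : (Subgroup.centralizer ({y} : Set G)).subgroupOf N = ⊤ := by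
    apply Cfsg.Agent.Lib.Helper66.eq_top_of_forall_sylow_le
    intro q hq
    obtain ⟨P, hP⟩ := Cfsg.Agent.Lib.Helper24.exists_invariant_sylow (p := q)
      (Subgroup.zpowers x) N hAN hcop hsolv
    refine ⟨P, ?_⟩
    intro g hg
    rw [Subgroup.mem_subgroupOf, Subgroup.mem_centralizer_singleton_iff]
    have hgS : (g : G) ∈ (P : Subgroup N).map N.subtype := ⟨g, hg, rfl⟩
    by_contra hne
    have hqp : q ≠ p := by
      rintro rfl
      -- g is a p-element of N, hence trivial
      obtain ⟨k, hk⟩ := P.2 ⟨g, hg⟩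
      have hk' : g ^ (q ^ k) = 1 := by
        have := congrArg Subtype.val hk
        simpa using this
      have h1 : orderOf g ∣ q ^ k := orderOf_dvd_of_pow_eq_one hk'
      have h2 : orderOf g ∣ Nat.card N := orderOf_dvd_natCard g
      have hcop' : Nat.Coprime (q ^ k) (Nat.card N) := (Nat.Coprime.pow_right k hNcop).symm
      have h3 : orderOf g = 1 := by
        have := Nat.dvd_gcd h1 h2
        rw [hcop'.gcd_eq_one] at this
        exact Nat.dvd_one.mp this
      rw [orderOf_eq_one_iff] at h3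
      apply hne
      rw [h3]; simp
    exact hne (hcon q hq.out _ hqp (P.2.map _) (hP (Subgroup.mem_zpowers x)) (g : G) hgS).symm
  intro h hh
  have : (⟨h, hh⟩ : N) ∈ (Subgroup.centralizer ({y} : Set G)).subgroupOf N := by
    rw [hM]; trivial
  rw [Subgroup.mem_subgroupOf, Subgroup.mem_centralizer_singleton_iff] at this
  exact this


/-- Theorem B of Hall and Higman on the minimal polynomial of a p-element of order p^n in a p-solvable linear group on a nonzero vector space in characteristic p with no nontrivial normal p-subgroup: its degree is p^n, except when some p^n₀ - 1 (n₀ ≤ n) is a power of a prime q for which the Sylow q-subgroups are non-abelian, in which case the degree is at least p^(n-n₀)(p^n₀ - 1). -/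
theorem result {F : Type*} [Field F] {p : ℕ} [Fact p.Prime] [CharP F p] {V : Type*} [AddCommGroup V] [Module F V] [FiniteDimensional F V] [Nontrivial V] (H : Subgroup (V ≃ₗ[F] V)) [Finite H] (hsol : Cfsg.IsPSolvable p H) (hOp : Cfsg.pCore p H = ⊥) (x : V ≃ₗ[F] V) (hx : x ∈ H) (n : ℕ) (hn : orderOf x = p ^ n) (r : ℕ) (hr : minpoly F (x : Module.End F V) = (Polynomial.X - 1) ^ r) : r = p ^ n ∨ ∃ n₀ q m : ℕ, 1 ≤ n₀ ∧ n₀ ≤ n ∧ q.Prime ∧ 1 ≤ m ∧ p ^ n₀ - 1 = q ^ m ∧ (∀ Q : Sylow q H, ¬ IsMulCommutative Q) ∧ p ^ (n - n₀) * (p ^ n₀ - 1) ≤ r := by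
  classical
  have hp : p.Prime := Fact.out
  let toLin : (V ≃ₗ[F] V) →* Module.End F V := LinearEquiv.automorphismGroup.toLinearMapMonoidHom
  have htoLin : ∀ e : V ≃ₗ[F] V, toLin e = (e : Module.End F V) := fun e => rfl
  have htoLin_inj : Function.Injective toLin := by
    intro a b hab
    exact LinearEquiv.toLinearMap_injective hab
  set xe : Module.End F V := (x : Module.End F V) with hxe
  have hr0 : (xe - 1) ^ r = 0 := by
    have := minpoly.aeval F xe
    rw [hr] at this
    simpa using this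
  have hxpow : xe ^ (p ^ n) = 1 := by
    have h1 : x ^ (p ^ n) = 1 := by rw [← hn]; exact pow_orderOf_eq_one x
    rw [hxe, ← htoLin, ← map_pow, h1, map_one]
  have hrle : r ≤ p ^ n := by
    have h1 : (xe - 1) ^ (p ^ n) = 0 := by
      rw [alg_sub_one_pow F xe n, hxpow, sub_self]
    have h2 : Polynomial.aeval xe ((Polynomial.X - 1 : Polynomial F) ^ (p ^ n)) = 0 := by
      simpa using h1
    have h3 := minpoly.dvd F xe h2
    rw [hr] at h3
    have hX1 : (Polynomial.X - 1 : Polynomial F) = Polynomial.X - Polynomial.C 1 := by simp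
    rw [hX1] at h3
    exact (pow_dvd_pow_iff (Polynomial.X_sub_C_ne_zero 1) (Polynomial.not_isUnit_X_sub_C 1)).mp h3
  have hr1 : r ≠ 0 := by
    rintro rfl
    rw [pow_zero] at hr0
    exact one_ne_zero hr0
  suffices hmain : p ^ n ≤ r ∨ ∃ n₀ q m : ℕ, 1 ≤ n₀ ∧ n₀ ≤ n ∧ q.Prime ∧ 1 ≤ m ∧
      p ^ n₀ - 1 = q ^ m ∧ (∀ Q : Sylow q H, ¬ IsMulCommutative Q) ∧
      p ^ (n - n₀) * (p ^ n₀ - 1) ≤ r by
    rcases hmain with h | h
    · exact Or.inl (le_antisymm hrle h)
    · exact Or.inr h
  rcases Nat.eq_zero_or_pos n with hn0 | hnpos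
  · left
    rw [hn0, pow_zero]; omega
  -- the group
  let xH : H := ⟨x, hx⟩
  have hxHord : orderOf xH = p ^ n := by rw [Subgroup.orderOf_mk]; exact hn
  obtain ⟨q, hq, S, hqp, hS, hxS, g, hgS, hgne⟩ :=
    exists_inv_sylow_not_centralized hsol hOp xH n hnpos hxHord
  have : Fact q.Prime := ⟨hq⟩
  -- the field
  let K := AlgebraicClosure F
  have : CharP K p := charP_of_injective_algebraMap (algebraMap F K).injective p
  let VK := TensorProduct F K V
  have : Nontrivial VK := by
    apply Module.nontrivial_of_finrank_pos (R := K)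
    rw [Module.finrank_baseChange]
    exact Module.finrank_pos
  let Φ : Module.End F V →ₐ[F] Module.End K VK := Module.End.baseChangeHom F K V
  have hΦinj : Function.Injective Φ := LinearMap.baseChangeHom_injective F V K
  let ρ : H →* Module.End K VK :=
    (Φ : Module.End F V →* Module.End K VK).comp (toLin.comp H.subtype)
  have hρ : ∀ h : H, ρ h = Φ ((h : V ≃ₗ[F] V) : Module.End F V) := fun h => rfl
  have hρinj : Function.Injective ρ := by
    intro a b hab
    rw [hρ, hρ] at hab
    exact Subtype.ext (htoLin_inj (hΦinj hab))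
  let r' : S →* Module.End K VK := ρ.comp S.subtype
  have hr' : ∀ u : S, r' u = ρ (u : H) := fun u => rfl
  let α : MulAut S := S.normalizerMonoidHom ⟨xH, hxS⟩
  have hα : ∀ u : S, ((α u : S) : H) = xH * u * xH⁻¹ := fun u => rfl
  have hαpow : ∀ (i : ℕ) (u : S), (((α ^ i) u : S) : H) = xH ^ i * u * (xH ^ i)⁻¹ := by
    intro i u
    have : α ^ i = S.normalizerMonoidHom (⟨xH, hxS⟩ ^ i) := (map_pow _ _ i).symm
    rw [this]; rfl
  have hcfg : Cfg p n r' α (ρ xH) := by
    refine ⟨?_, ?_, ?_, hnpos⟩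
    · rw [← map_pow, ← hxHord, pow_orderOf_eq_one, map_one]
    · intro u
      rw [hr', hr', hα, ← map_mul, ← map_mul]
      congr 1
      group
    · refine ⟨⟨g, hgS⟩, ?_⟩
      rw [hr', hr', hαpow]
      intro heq
      have := hρinj heq
      apply hgne
      calc xH ^ (p ^ (n - 1)) * g
          = (xH ^ (p ^ (n - 1)) * g * (xH ^ (p ^ (n - 1)))⁻¹) * xH ^ (p ^ (n - 1)) := by group
        _ = g * xH ^ (p ^ (n - 1)) := by rw [this]
  have hconcl := thmB (K := K) (p := p) (q := q) (Ne.symm hqp) hS hcfg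
  have hXr : (ρ xH - 1) ^ r = 0 := by
    have : ρ xH - 1 = Φ (xe - 1) := by rw [map_sub, map_one]; rfl
    rw [this, ← map_pow, hr0, map_zero]
  rcases hconcl r hXr with h1 | ⟨n₀, m, h1, h2, h3, h4, ⟨u, v, huv⟩, h6⟩
  · exact Or.inl h1
  · right
    refine ⟨n₀, q, m, h1, h2, hq, h3, h4, ?_, h6⟩
    intro Q' hcomm
    have huv' : (u : H) * v ≠ v * u := by
      intro h
      apply huv
      rw [hr', hr', ← map_mul, ← map_mul, h]
    obtain ⟨R, hSR⟩ := hS.exists_le_sylow
    obtain ⟨c, hc⟩ := MulAction.exists_smul_eq H Q' R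
    have huR : (u : H) ∈ (R : Subgroup H) := hSR u.2
    have hvR : (v : H) ∈ (R : Subgroup H) := hSR v.2
    rw [← hc, Sylow.coe_subgroup_smul, Subgroup.mem_pointwise_smul_iff_inv_smul_mem,
      MulAut.smul_def, MulAut.conj_inv_apply] at huR hvR
    have := hcomm.is_comm.comm ⟨_, huR⟩ ⟨_, hvR⟩
    have h3 := congrArg Subtype.val this
    simp only [Subgroup.coe_mul] at h3
    apply huv'
    calc (u : H) * v = c * ((c⁻¹ * u * c) * (c⁻¹ * v * c)) * c⁻¹ := by group
      _ = c * ((c⁻¹ * v * c) * (c⁻¹ * u * c)) * c⁻¹ := by rw [h3]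
      _ = v * u := by group

end Cfsg.Agent.S0633
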