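import Cfsg.Statements.S0634
import Cfsg.Agent.Lib.Helper76.PSolvable
import Cfsg.Agent.Lib.Helper30.PPrimeCore
import Cfsg.Agent.Lib.Helper63.PLength

set_option autoImplicit false
open Cfsg

namespace Cfsg.Agent.S0634

open Cfsg.Agent.Lib.Helper76 Cfsg.Agent.Lib.Helper30

theorem upper_succ_even {G : Type*} [Group G] (p n : ℕ) (h : Even n) :
    (upperPSeries p G (n + 1)).1 =
      (pPrimeCore p (G ⧸ (upperPSeries p G n).1)).comap (QuotientGroup.mk' _) :=
  Cfsg.Agent.Lib.Helper63.ups_succ_even p h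

theorem upper_succ_odd {G : Type*} [Group G] (p n : ℕ) (h : ¬ Even n) :
    (upperPSeries p G (n + 1)).1 =
      (pCore p (G ⧸ (upperPSeries p G n).1)).comap (QuotientGroup.mk' _) :=
  Cfsg.Agent.Lib.Helper63.ups_succ_odd p h

/-- `O_{p'}(G/U) = 1` when `U/W = O_{p'}(G/W)`. -/
theorem pPrimeCore_quot_comap_eq_bot {G : Type*} [Group G] [Finite G] (p : ℕ) (W U : Subgroup G)
    [W.Normal] [U.Normal]
    (hU : U = (pPrimeCore p (G ⧸ W)).comap (QuotientGroup.mk' W)) :
    pPrimeCore p (G ⧸ U) = ⊥ := by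
  set N' := pPrimeCore p (G ⧸ U) with hN'
  set N := N'.comap (QuotientGroup.mk' U) with hN
  have hWU : W ≤ U := by rw [hU]; exact le_comap_mk' _ _
  have hUN : U ≤ N := le_comap_mk' _ _
  have hWN : W ≤ N := hWU.trans hUN
  have hN'n : N'.Normal := by
    rw [hN']; infer_instance
  have hNn : N.Normal := hN'n.comap _
  set M := N.map (QuotientGroup.mk' W) with hM
  have hMn : M.Normal := hNn.map _ (QuotientGroup.mk'_surjective W)
  have hNM : N = M.comap (QuotientGroup.mk' W) := by
    rw [hM, Subgroup.comap_map_eq_self]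
    rw [QuotientGroup.ker_mk']; exact hWN
  have c1 : Nat.card N = Nat.card U * Nat.card N' := card_comap_mk' U N'
  have c2 : Nat.card U = Nat.card W * Nat.card (pPrimeCore p (G ⧸ W)) := by
    rw [hU]; exact card_comap_mk' W _
  have c3 : Nat.card N = Nat.card W * Nat.card M := by
    conv_lhs => rw [hNM]
    exact card_comap_mk' W M
  have c4 : Nat.card M = Nat.card (pPrimeCore p (G ⧸ W)) * Nat.card N' := by
    have : Nat.card W * Nat.card M = Nat.card W * (Nat.card (pPrimeCore p (G ⧸ W)) * Nat.card N') := by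
      rw [← c3, c1, c2, mul_assoc]
    exact Nat.eq_of_mul_eq_mul_left Nat.card_pos this
  have hMc : (Nat.card M).Coprime p := by
    rw [c4]
    exact Nat.Coprime.mul_left (pPrimeCore_card_coprime p) (pPrimeCore_card_coprime p)
  have hMle : M ≤ pPrimeCore p (G ⧸ W) := le_pPrimeCore p M hMc
  have hNU : N ≤ U := by
    rw [hNM, hU]
    exact Subgroup.comap_mono hMle
  rw [eq_bot_iff]
  intro x hx
  obtain ⟨y, rfl⟩ := QuotientGroup.mk'_surjective U x
  have hy : y ∈ N := hx
  rw [Subgroup.mem_bot]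
  exact (QuotientGroup.eq_one_iff y).mpr (hNU hy)

/-- In a p-soluble group each p-factor of the upper p-series contains its own centralizer in the corresponding quotient. -/
theorem result {G : Type*} [Group G] [Finite G] {p : ℕ} [Fact p.Prime] (hsol : Cfsg.IsPSolvable p G) (k : ℕ) : Subgroup.centralizer ((((Cfsg.upperPSeries p G (2 * k + 2)).1.map (QuotientGroup.mk' (Cfsg.upperPSeries p G (2 * k + 1)).1)) : Subgroup (G ⧸ (Cfsg.upperPSeries p G (2 * k + 1)).1)) : Set (G ⧸ (Cfsg.upperPSeries p G (2 * k + 1)).1)) ≤ (Cfsg.upperPSeries p G (2 * k + 2)).1.map (QuotientGroup.mk' (Cfsg.upperPSeries p G (2 * k + 1)).1) := by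
  have hodd : ¬ Even (2 * k + 1) := by
    rw [Nat.not_even_iff_odd]; exact ⟨k, rfl⟩
  have h2 : (upperPSeries p G (2 * k + 2)).1 =
      (pCore p (G ⧸ (upperPSeries p G (2 * k + 1)).1)).comap (QuotientGroup.mk' _) :=
    upper_succ_odd p (2 * k + 1) hodd
  have h1 : (upperPSeries p G (2 * k + 1)).1 =
      (pPrimeCore p (G ⧸ (upperPSeries p G (2 * k)).1)).comap (QuotientGroup.mk' _) :=
    upper_succ_even p (2 * k) ⟨k, by ring⟩
  have hmap : (upperPSeries p G (2 * k + 2)).1.map (QuotientGroup.mk' (upperPSeries p G (2 * k + 1)).1)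
      = pCore p (G ⧸ (upperPSeries p G (2 * k + 1)).1) := by
    rw [h2]
    exact Subgroup.map_comap_eq_self_of_surjective (QuotientGroup.mk'_surjective _) _
  rw [hmap]
  apply centralizer_pCore_le_of_isPSolvable (isPSolvable_quotient _ hsol)
  exact pPrimeCore_quot_comap_eq_bot p (upperPSeries p G (2 * k)).1 _ h1

end Cfsg.Agent.S0634
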