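import Mathlib
import Cfsg.Statements.S0638
import Cfsg.Agent.Lib.Helper29.CyclicMax

set_option autoImplicit false
open Cfsg

namespace Cfsg.Agent.S0638

open Cfsg.Agent.Lib.Helper29

/-- order of the image in a quotient -/
theorem card_eq_card_map_mul {G : Type*} [Group G] [Finite G] (N : Subgroup G) [N.Normal]
    (H : Subgroup G) (hNH : N ≤ H) :
    Nat.card H = Nat.card (H.map (QuotientGroup.mk' N)) * Nat.card N := by
  have hcomap : (H.map (QuotientGroup.mk' N)).comap (QuotientGroup.mk' N) = H :=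
    Subgroup.comap_map_eq_self (by rw [QuotientGroup.ker_mk']; exact hNH)
  have hi : H.index = (H.map (QuotientGroup.mk' N)).index := by
    conv_lhs => rw [← hcomap]
    exact Subgroup.index_comap_of_surjective _ (QuotientGroup.mk'_surjective N)
  have e1 := Subgroup.card_mul_index H
  have e2 := Subgroup.card_mul_index (H.map (QuotientGroup.mk' N))
  have e3 := Subgroup.card_eq_card_quotient_mul_card_subgroup N
  have hi0 : 0 < H.index := Nat.pos_of_ne_zero Subgroup.index_ne_zero_of_finite
  rw [← hi] at e2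
  have : Nat.card H * H.index = (Nat.card (H.map (QuotientGroup.mk' N)) * Nat.card N) * H.index := by
    rw [e1, e3, ← e2]; ring
  exact Nat.eq_of_mul_eq_mul_right hi0 this

/-- in a finite cyclic group of order divisible by `p`, the elements with `y ^ p = 1` lie in a
subgroup of order `p` -/
theorem exists_subgroup_card_prime_of_cyclic {Q : Type*} [Group Q] [Finite Q] [hQ : IsCyclic Q]
    (p : ℕ) [Fact p.Prime] (hdvd : p ∣ Nat.card Q) :
    ∃ Kbar : Subgroup Q, Nat.card Kbar = p ∧ ∀ y : Q, y ^ p = 1 → y ∈ Kbar := by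
  have hp : p.Prime := Fact.out
  obtain ⟨g, hg⟩ := hQ.exists_generator
  have hord : orderOf g = Nat.card Q := orderOf_eq_card_of_forall_mem_zpowers hg
  obtain ⟨m, hm⟩ := hdvd
  have hm0 : m ≠ 0 := by
    intro h
    rw [h, mul_zero] at hm
    exact Nat.card_pos.ne' hm
  refine ⟨Subgroup.zpowers (g ^ m), ?_, ?_⟩
  · rw [Nat.card_zpowers, orderOf_pow_of_dvd hm0 (by rw [hord, hm]; exact dvd_mul_left m p), hord, hm]
    exact Nat.mul_div_cancel _ (Nat.pos_of_ne_zero hm0)
  · intro y hy
    obtain ⟨i, rfl⟩ := Subgroup.mem_zpowers_iff.mp (hg y)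
    rw [← zpow_natCast, ← zpow_mul] at hy
    have h1 : ((orderOf g : ℕ) : ℤ) ∣ i * (p : ℤ) := orderOf_dvd_iff_zpow_eq_one.mpr hy
    rw [hord, hm] at h1
    push_cast at h1
    have h2 : (m : ℤ) ∣ i := by
      have hp0 : (p : ℤ) ≠ 0 := by exact_mod_cast hp.ne_zero
      rw [mul_comm i] at h1
      exact (mul_dvd_mul_iff_left hp0).mp h1
    obtain ⟨j, rfl⟩ := h2
    rw [Subgroup.mem_zpowers_iff]
    refine ⟨j, ?_⟩
    rw [← zpow_natCast, ← zpow_mul]

theorem normal_of_cyclic {Q : Type*} [Group Q] [hQ : IsCyclic Q] (H : Subgroup Q) : H.Normal := by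
  have hc := isMulCommutative_iff.mp (IsCyclic.isMulCommutative (α := Q))
  constructor
  intro n hn g
  rw [hc g n, mul_inv_cancel_right]
  exact hn

/-- For odd p, in a non-cyclic metacyclic p-group the elements of order dividing p generate an elementary abelian subgroup of order p². -/
theorem result {R : Type*} [Group R] [Finite R] {p : ℕ} [Fact p.Prime] (hp : p ≠ 2) (hR : IsPGroup p R) (hm : Cfsg.IsMetacyclic R) (hnc : ¬ IsCyclic R) : Cfsg.IsElementaryAbelian p (Cfsg.omegaOne p (⊤ : Subgroup R)) ∧ Nat.card ↥(Cfsg.omegaOne p (⊤ : Subgroup R)) = p ^ 2 := by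
  have hpp : p.Prime := Fact.out
  obtain ⟨N0, hN0n, hN0c, hN0q⟩ := hm
  -- a maximal such `N`
  obtain ⟨N, -, hNmax⟩ := Finite.exists_le_maximal
    (p := fun N : Subgroup R => ∃ _ : N.Normal, IsCyclic N ∧ IsCyclic (R ⧸ N)) (a := N0)
    ⟨hN0n, hN0c, hN0q⟩
  obtain ⟨⟨hNn, hNc, hNq⟩, hNmax'⟩ := hNmax
  -- the quotient is nontrivial
  have hQp : IsPGroup p (R ⧸ N) := hR.to_quotient N
  obtain ⟨k, hk⟩ := IsPGroup.iff_card.mp hQp
  have hk0 : k ≠ 0 := by
    intro h0
    rw [h0, pow_zero] at hk
    apply hnc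
    have htop : N = ⊤ := by
      rw [← Subgroup.index_eq_one, Subgroup.index_eq_card, hk]
    have e : N ≃* R := (MulEquiv.subgroupCongr htop).trans Subgroup.topEquiv
    exact isCyclic_of_surjective e e.surjective
  have hdvd : p ∣ Nat.card (R ⧸ N) := by rw [hk]; exact dvd_pow_self p hk0
  obtain ⟨Kbar, hcKbar, hKbar⟩ := exists_subgroup_card_prime_of_cyclic p hdvd
  have hKbarn : Kbar.Normal := normal_of_cyclic Kbar
  set K : Subgroup R := Kbar.comap (QuotientGroup.mk' N) with hK
  have hKn : K.Normal := Subgroup.Normal.comap hKbarn _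
  have hNK : N ≤ K := by
    intro x hx
    rw [hK, Subgroup.mem_comap]
    have : (QuotientGroup.mk' N) x = 1 := by
      rw [QuotientGroup.mk'_apply, QuotientGroup.eq_one_iff]; exact hx
    rw [this]; exact Kbar.one_mem
  have hKmap : K.map (QuotientGroup.mk' N) = Kbar :=
    Subgroup.map_comap_eq_self_of_surjective (QuotientGroup.mk'_surjective N) Kbar
  have hcK : Nat.card K = p * Nat.card N := by
    rw [card_eq_card_map_mul N K hNK, hKmap, hcKbar]
  -- R ⧸ K is cyclic
  have hKq : IsCyclic (R ⧸ K) := by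
    have hle : N ≤ K.comap (MonoidHom.id R) := by rwa [Subgroup.comap_id]
    have hsurj : Function.Surjective (QuotientGroup.map N K (MonoidHom.id R) hle) := by
      intro y
      obtain ⟨x, rfl⟩ := QuotientGroup.mk_surjective y
      exact ⟨(x : R ⧸ N), rfl⟩
    exact isCyclic_of_surjective _ hsurj
  -- K is not cyclic
  have hKnc : ¬ IsCyclic K := by
    intro hKc
    have hle : K ≤ N := hNmax' ⟨hKn, hKc, hKq⟩ hNK
    have h1 : Nat.card K ≤ Nat.card N := Subgroup.card_le_of_le hle
    rw [hcK] at h1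
    have h2 : 0 < Nat.card N := Nat.card_pos
    have h3 : 2 ≤ p := hpp.two_le
    nlinarith
  -- apply the cyclic-maximal-subgroup lemma inside K
  have hKp : IsPGroup p K := hR.to_subgroup K
  have hCc : IsCyclic (N.subgroupOf K) := by
    have e : N.subgroupOf K ≃* N := Subgroup.subgroupOfEquivOfLe hNK
    exact isCyclic_of_surjective e.symm e.symm.surjective
  have hCi : (N.subgroupOf K).index = p := by
    have h1 := Subgroup.card_mul_index (N.subgroupOf K)
    have h2 : Nat.card (N.subgroupOf K) = Nat.card N :=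
      Nat.card_congr (Subgroup.subgroupOfEquivOfLe hNK).toEquiv
    rw [h2, hcK, mul_comm] at h1
    have h0 : 0 < Nat.card N := Nat.card_pos
    exact Nat.eq_of_mul_eq_mul_right h0 h1
  obtain ⟨W, hW, hcW⟩ := exists_omega_card_sq hp hKp hKnc (N.subgroupOf K) hCc hCi
  -- transport to R
  set W' : Subgroup R := W.map K.subtype with hW'
  have hcW' : Nat.card W' = p ^ 2 := by
    rw [hW', Subgroup.card_map_of_injective K.subtype_injective, hcW]
  have hmemW' : ∀ x : R, x ∈ W' ↔ x ^ p = 1 := by
    intro x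
    constructor
    · rintro ⟨w, hw, rfl⟩
      have := (hW w).mp hw
      have h2 := congrArg Subtype.val this
      simpa using h2
    · intro hx
      have hxK : x ∈ K := by
        rw [hK, Subgroup.mem_comap]
        apply hKbar
        rw [← map_pow, hx, map_one]
      refine ⟨⟨x, hxK⟩, ?_, rfl⟩
      rw [SetLike.mem_coe, hW]
      apply Subtype.ext
      simpa using hx
  have hOm : Cfsg.omegaOne p (⊤ : Subgroup R) = W' := by
    unfold Cfsg.omegaOne
    apply le_antisymm
    · rw [Subgroup.closure_le]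
      intro x hx
      exact (hmemW' x).mpr hx.2
    · intro x hx
      apply Subgroup.subset_closure
      exact ⟨Subgroup.mem_top x, (hmemW' x).mp hx⟩
  rw [hOm]
  refine ⟨⟨IsPGroup.isMulCommutative_of_card_eq_prime_sq hcW', ?_⟩, hcW'⟩
  intro a ha
  exact (hmemW' a).mp ha

end Cfsg.Agent.S0638
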