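import Cfsg.Statements.S0642

set_option autoImplicit false
open Cfsg
open scoped commutatorElement

namespace Cfsg.Agent.S0642

theorem powerClosure_mono {G : Type*} [Group G] (p n : ℕ) {K L : Subgroup G} (h : K ≤ L) :
    Cfsg.powerClosure p n K ≤ Cfsg.powerClosure p n L := by
  unfold Cfsg.powerClosure
  apply Subgroup.closure_mono
  rintro _ ⟨x, hx, rfl⟩
  exact ⟨x, h hx, rfl⟩

theorem powerClosure_le {G : Type*} [Group G] (p n : ℕ) (K : Subgroup G) :
    Cfsg.powerClosure p n K ≤ K := by
  unfold Cfsg.powerClosure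
  rw [Subgroup.closure_le]
  rintro _ ⟨x, hx, rfl⟩
  exact pow_mem hx _

theorem powerClosure_normal {G : Type*} [Group G] (p n : ℕ) (K : Subgroup G) [hK : K.Normal] :
    (Cfsg.powerClosure p n K).Normal := by
  constructor
  intro m hm g
  unfold Cfsg.powerClosure at hm ⊢
  induction hm using Subgroup.closure_induction with
  | mem y hy =>
    obtain ⟨x, hx, rfl⟩ := hy
    apply Subgroup.subset_closure
    refine ⟨g * x * g⁻¹, hK.conj_mem x hx g, ?_⟩
    rw [conj_pow]
  | one => simp
  | mul y z _ _ ihy ihz =>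
    have : g * (y * z) * g⁻¹ = (g * y * g⁻¹) * (g * z * g⁻¹) := by group
    rw [this]
    exact mul_mem ihy ihz
  | inv y _ ihy =>
    have : g * y⁻¹ * g⁻¹ = (g * y * g⁻¹)⁻¹ := by group
    rw [this]
    exact inv_mem ihy

/-- A finite nontrivial 2-group is not generated by squares. -/
theorem powerClosure_lt_of_ne_bot {G : Type*} [Group G] [Finite G] (hG : IsPGroup 2 G)
    (D : Subgroup G) (hD : D ≠ ⊥) : Cfsg.powerClosure 2 1 D ≠ D := by
  intro heq
  have hDp : IsPGroup 2 D := hG.to_subgroup D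
  obtain ⟨n, hn⟩ := IsPGroup.iff_card.mp hDp
  have hn0 : n ≠ 0 := by
    rintro rfl
    rw [pow_zero] at hn
    apply hD
    exact (Subgroup.card_eq_one).mp hn
  obtain ⟨m, rfl⟩ := Nat.exists_eq_succ_of_ne_zero hn0
  haveI : Fact (Nat.Prime 2) := ⟨Nat.prime_two⟩
  obtain ⟨K, hK⟩ := Sylow.exists_subgroup_card_pow_prime (G := D) 2 (n := m)
    (by rw [hn]; exact pow_dvd_pow 2 (Nat.le_succ m))
  have hidx : K.index = 2 := by
    have h1 := K.card_mul_index
    rw [hK, hn, pow_succ] at h1
    exact Nat.eq_of_mul_eq_mul_left (pow_pos (by norm_num) m) h1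
  have hsq : ∀ x : D, x ^ 2 ∈ K := fun x => Subgroup.sq_mem_of_index_two hidx x
  have hle : Cfsg.powerClosure 2 1 D ≤ K.map D.subtype := by
    unfold Cfsg.powerClosure
    rw [Subgroup.closure_le]
    rintro _ ⟨x, hx, rfl⟩
    refine ⟨(⟨x, hx⟩ : D) ^ 2, hsq ⟨x, hx⟩, ?_⟩
    simp
  rw [heq] at hle
  have h2 : Nat.card D ≤ Nat.card (K.map D.subtype) :=
    Subgroup.card_le_of_le hle
  rw [Subgroup.card_map_of_injective D.subtype_injective, hK, hn] at h2
  exact absurd h2 (by rw [pow_succ]; have := pow_pos (show 0 < 2 by norm_num) m; omega)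

theorem result {G : Type*} [Group G] [Finite G] (hG : IsPGroup 2 G) : Cfsg.IsRegularPGroup 2 G ↔ ∀ a b : G, a * b = b * a := by
  constructor
  · rintro ⟨-, hreg⟩
    set D : Subgroup G := commutator G with hD
    set M : Subgroup G := Cfsg.powerClosure 2 1 D with hM
    haveI : D.Normal := by rw [hD]; infer_instance
    haveI hMn : M.Normal := powerClosure_normal 2 1 D
    have hcomm : ∀ x y : G, ⁅x, y⁆ ∈ M := by
      intro x y
      obtain ⟨c, hc, hceq⟩ := hreg y⁻¹ x⁻¹ 1
      have hcM : c ∈ M := by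
        refine powerClosure_mono 2 1 ?_ hc
        rw [hD, commutator_def]
        exact Subgroup.commutator_mono le_top le_top
      have : ⁅x, y⁆ = x⁻¹ * c * x⁻¹⁻¹ := by
        have hc' : c = (y⁻¹ ^ 2 ^ 1 * x⁻¹ ^ 2 ^ 1)⁻¹ * (y⁻¹ * x⁻¹) ^ 2 ^ 1 := by
          rw [hceq]; group
        rw [hc', commutatorElement_def]
        simp only [pow_one, pow_two]
        group
      rw [this]
      exact hMn.conj_mem c hcM x⁻¹
    have hDM : D ≤ M := by
      rw [hD, commutator_def, Subgroup.commutator_le]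
      intro x _ y _
      exact hcomm x y
    have hMD : M = D := le_antisymm (powerClosure_le 2 1 D) hDM
    have hDbot : D = ⊥ := by
      by_contra h
      exact powerClosure_lt_of_ne_bot hG D h hMD
    intro a b
    have : ⁅a, b⁆ ∈ D := by
      rw [hD, commutator_def]
      exact Subgroup.commutator_mem_commutator (Subgroup.mem_top a) (Subgroup.mem_top b)
    rw [hDbot, Subgroup.mem_bot] at this
    exact commutatorElement_eq_one_iff_mul_comm.mp this
  · intro h
    refine ⟨hG, fun a b n => ⟨1, one_mem _, ?_⟩⟩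
    rw [mul_one, (show Commute a b from h a b).mul_pow]

end Cfsg.Agent.S0642
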