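import Mathlib
import Cfsg.Statements.S0645
import Cfsg.Agent.Lib.Helper29.CyclicMax

set_option autoImplicit false
open Cfsg
open Cfsg.Agent.Lib.Helper29

namespace Cfsg.Agent.S0645

theorem result {G : Type*} [Group G] [Finite G] {p : ℕ} [Fact p.Prime] (hp : p ≠ 2) (n : ℕ) (hn : 3 ≤ n) (hG : Nat.card G = p ^ n) (C : Subgroup G) (hC : IsCyclic C) (hCi : C.index = p) (hna : ∃ x y : G, x * y ≠ y * x) : ∃ a b : G, orderOf a = p ^ (n - 1) ∧ orderOf b = p ∧ b ∉ Subgroup.zpowers a ∧ b * a * b⁻¹ = a ^ (1 + p ^ (n - 2)) := by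
  have hpp : p.Prime := Fact.out
  have hR : IsPGroup p G := IsPGroup.of_card hG
  obtain ⟨x0, y0, hxy⟩ := hna
  have hnc : ¬ IsCyclic G := by
    intro h
    exact hxy ((IsCyclic.isMulCommutative : IsMulCommutative G).is_comm.comm x0 y0)
  obtain ⟨hnorm, c, m, hc, hord, hcard⟩ := exists_generator_of_cyclic_index_prime hR C hC hCi
  have hmn : m + 1 = n := Nat.pow_right_injective hpp.two_le (hcard.symm.trans hG)
  obtain ⟨hle, hcm⟩ := classTwo_of_cyclic_index_prime hp hR C hC hCi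
  obtain ⟨W, hW, hWc⟩ := exists_omega_card_sq hp hR hnc C hC hCi
  -- W is not contained in C
  have hWC : ¬ W ≤ C := by
    intro h
    have := card_dvd_of_le_zpowers_of_pow_eq_one W c (hc ▸ h) (fun x hx => (hW x).mp hx)
    rw [hWc] at this
    have h2 : p ^ 2 ≤ p := Nat.le_of_dvd hpp.pos this
    have : p * p ≤ p * 1 := by rw [mul_one, ← sq]; exact h2
    have := Nat.le_of_mul_le_mul_left this hpp.pos
    have := hpp.one_lt
    omega
  obtain ⟨b0, hb0W, hb0C⟩ := SetLike.not_le_iff_exists.mp hWC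
  have hb0p : b0 ^ p = 1 := (hW b0).mp hb0W
  -- b0 does not commute with c
  have hb0c : b0 * c ≠ c * b0 := by
    intro h
    exact hxy (comm_of_commute_of_index_prime C c hc hCi b0 hb0C h x0 y0)
  set z0 := cm b0 c with hz0
  have hz01 : z0 ≠ 1 := by
    intro h
    exact hb0c ((cm_eq_one_iff b0 c).mp h)
  have hz0p : z0 ^ p = 1 := hcm b0 c
  have hcC : c ∈ C := hc ▸ Subgroup.mem_zpowers c
  have hz0C : z0 ∈ C := by
    have : z0 = (b0 * c * b0⁻¹) * c⁻¹ := rfl
    rw [this]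
    exact C.mul_mem (hnorm.conj_mem c hcC b0) (C.inv_mem hcC)
  -- t = c^(p^(m-1)) has order p
  have hm1 : 1 ≤ m := by omega
  set t := c ^ (p ^ (m - 1)) with ht
  have htp : t ^ p = 1 := by
    rw [ht, ← pow_mul, ← pow_succ, Nat.sub_add_cancel hm1, ← hord, pow_orderOf_eq_one]
  have hab : ∀ x ∈ C, ∀ y ∈ C, x * y = y * x := hc ▸ zpowers_comm c
  -- Z0 = Ω₁(C) has order dividing p, z0 generates it
  have hZ0card : Nat.card (omegaSub C hab p) ∣ p :=
    card_dvd_of_le_zpowers_of_pow_eq_one _ c (fun x hx => hc ▸ (mem_omegaSub.mp hx).1)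
      (fun x hx => (mem_omegaSub.mp hx).2)
  have hz0Z : Subgroup.zpowers z0 ≤ omegaSub C hab p := by
    rw [Subgroup.zpowers_le]; exact mem_omegaSub.mpr ⟨hz0C, hz0p⟩
  have hz0ord : orderOf z0 = p := orderOf_eq_prime hz0p hz01
  have hzeq : Subgroup.zpowers z0 = omegaSub C hab p := by
    apply Subgroup.eq_of_le_of_card_ge hz0Z
    rw [Nat.card_zpowers, hz0ord]
    exact Nat.le_of_dvd hpp.pos hZ0card
  have htZ : t ∈ Subgroup.zpowers z0 := by
    rw [hzeq]
    exact mem_omegaSub.mpr ⟨C.pow_mem hcC _, htp⟩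
  rw [← mem_powers_iff_mem_zpowers] at htZ
  obtain ⟨j, hj⟩ := htZ
  change z0 ^ j = t at hj
  set b := b0 ^ j with hb
  have hcmb : cm b c = t := by
    rw [hb, cm_pow_left hle, hj]
  have ht1 : t ≠ 1 := by
    intro h
    have h1 : orderOf c ∣ p ^ (m - 1) := orderOf_dvd_of_pow_eq_one h
    rw [hord] at h1
    have := (Nat.pow_dvd_pow_iff_le_right hpp.one_lt).mp h1
    omega
  have hbp : b ^ p = 1 := by
    rw [hb, ← pow_mul, mul_comm, pow_mul, hb0p, one_pow]
  have hb1 : b ≠ 1 := by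
    intro h
    rw [h, cm_one_left] at hcmb
    exact ht1 hcmb.symm
  refine ⟨c, b, ?_, orderOf_eq_prime hbp hb1, ?_, ?_⟩
  · rw [hord]; congr 1; omega
  · intro hbC
    rw [hc] at hbC
    have : cm b c = 1 := (cm_eq_one_iff b c).mpr (hab b hbC c hcC)
    rw [hcmb] at this
    exact ht1 this
  · have h1 : b * c * b⁻¹ = cm b c * c := by simp only [cm]; group
    have : n - 2 = m - 1 := by omega
    rw [h1, hcmb, ht, this, add_comm, pow_succ]

end Cfsg.Agent.S0645
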