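import Cfsg.Statements.S0646
import Mathlib

set_option autoImplicit false
set_option linter.style.haveILetI false
open Cfsg

namespace Cfsg.Agent.S0646

/-- Square roots of `1` modulo `2^(m+1)`. -/
theorem sqrt_one_mod (m : ℕ) (hm : 1 ≤ m) (r : ℤ) (h : r * r ≡ 1 [ZMOD 2 ^ (m + 1)]) :
    ∃ u : ℤ, r = 2 ^ m * u + 1 ∨ r = 2 ^ m * u - 1 := by
  obtain ⟨m', rfl⟩ : ∃ m', m = m' + 1 := ⟨m - 1, by omega⟩
  have hdvd : (2 : ℤ) ^ (m' + 1 + 1) ∣ r * r - 1 := Int.modEq_iff_dvd.mp h.symm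
  rcases Int.even_or_odd r with ⟨w, hw⟩ | ⟨t, ht⟩
  · exfalso
    have h2 : (2 : ℤ) ∣ r * r - 1 := dvd_trans (dvd_pow_self 2 (by omega)) hdvd
    rw [hw] at h2
    have h3 : (2 : ℤ) ∣ (w + w) * (w + w) := ⟨w * (w + w), by ring⟩
    have h4 := dvd_sub h3 h2
    have h5 : (w + w) * (w + w) - ((w + w) * (w + w) - 1) = 1 := by ring
    rw [h5] at h4
    omega
  · have h4 : r * r - 1 = 4 * (t * (t + 1)) := by rw [ht]; ring
    have h4' : (2 : ℤ) ^ (m' + 1 + 1) = 4 * 2 ^ m' := by ring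
    rw [h4, h4'] at hdvd
    have h5 : (2 : ℤ) ^ m' ∣ t * (t + 1) := (mul_dvd_mul_iff_left (by norm_num)).mp hdvd
    rcases Int.even_or_odd t with hte | hto
    · have hnd : ¬ (2 : ℤ) ∣ t + 1 := by
        rcases hte with ⟨v, hv⟩; omega
      obtain ⟨v, hv⟩ := Int.prime_two.pow_dvd_of_dvd_mul_right m' hnd h5
      refine ⟨v, Or.inl ?_⟩
      rw [ht, hv]; ring
    · have hnd : ¬ (2 : ℤ) ∣ t := by
        rcases hto with ⟨v, hv⟩; omega
      obtain ⟨v, hv⟩ := Int.prime_two.pow_dvd_of_dvd_mul_left m' hnd h5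
      refine ⟨v, Or.inr ?_⟩
      have : t = 2 ^ m' * v - 1 := by linarith
      rw [ht, this]; ring

/-- Classification of non-abelian 2-groups with a cyclic maximal subgroup: dihedral, generalized quaternion, and for order at least 16 the modular group and the semidihedral group, each given by generators a (of index 2) and b with the stated relations. -/
theorem result {G : Type*} [Group G] [Finite G] (n : ℕ) (hn : 3 ≤ n) (hG : Nat.card G = 2 ^ n) (C : Subgroup G) (hC : IsCyclic C) (hCi : C.index = 2) (hna : ∃ x y : G, x * y ≠ y * x) : ∃ a b : G, orderOf a = 2 ^ (n - 1) ∧ b ∉ Subgroup.zpowers a ∧ ((b ^ 2 = 1 ∧ b * a * b⁻¹ = a⁻¹) ∨ (b ^ 2 = a ^ (2 ^ (n - 2)) ∧ b * a * b⁻¹ = a⁻¹) ∨ (4 ≤ n ∧ b ^ 2 = 1 ∧ b * a * b⁻¹ = a ^ (1 + 2 ^ (n - 2))) ∨ (4 ≤ n ∧ b ^ 2 = 1 ∧ b * a * b⁻¹ = a ^ (2 ^ (n - 2) - 1))) := by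
  classical
  obtain ⟨m, rfl⟩ : ∃ m, n = m + 2 := ⟨n - 2, by omega⟩
  have hm : 1 ≤ m := by omega
  have e1 : m + 2 - 1 = m + 1 := by omega
  have e2 : m + 2 - 2 = m := by omega
  rw [e1, e2]
  haveI hCn : C.Normal := Subgroup.normal_of_index_eq_two hCi
  have hCcard : Nat.card C = 2 ^ (m + 1) := by
    have := C.card_mul_index
    rw [hCi, hG] at this
    have h2 : (2 : ℕ) ^ (m + 2) = 2 ^ (m + 1) * 2 := by ring
    omega
  haveI := hC
  obtain ⟨g, hg⟩ := IsCyclic.exists_generator (α := C)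
  obtain ⟨a, hadef⟩ : ∃ a : G, a = (g : G) := ⟨_, rfl⟩
  have haC : ∀ x : G, x ∈ C ↔ x ∈ Subgroup.zpowers a := by
    intro x
    constructor
    · intro hx
      obtain ⟨k, hk⟩ := Subgroup.mem_zpowers_iff.mp (hg ⟨x, hx⟩)
      rw [Subgroup.mem_zpowers_iff]
      refine ⟨k, ?_⟩
      have := congrArg Subtype.val hk
      rw [hadef]; simpa using this
    · intro hx
      obtain ⟨k, rfl⟩ := Subgroup.mem_zpowers_iff.mp hx
      rw [hadef]; exact C.zpow_mem g.2 k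
  have hao : orderOf a = 2 ^ (m + 1) := by
    rw [hadef, Subgroup.orderOf_coe, orderOf_eq_card_of_forall_mem_zpowers hg, hCcard]
  obtain ⟨b, hbC⟩ : ∃ b : G, b ∉ C := by
    by_contra hall
    push Not at hall
    have : C = ⊤ := (Subgroup.eq_top_iff' C).mpr hall
    rw [this, Subgroup.index_top] at hCi
    omega
  have hbb : b * b ∈ C := Subgroup.mul_self_mem_of_index_two hCi b
  have hcC : b * a * b⁻¹ ∈ C := hCn.conj_mem a ((haC a).mpr (Subgroup.mem_zpowers a)) b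
  obtain ⟨r, hr⟩ := Subgroup.mem_zpowers_iff.mp ((haC _).mp hcC)
  obtain ⟨s, hs⟩ := Subgroup.mem_zpowers_iff.mp ((haC _).mp hbb)
  -- basic facts
  have F1 : ∀ k : ℤ, b * a ^ k * b⁻¹ = a ^ (r * k) := by
    intro k
    rw [← conj_zpow, ← hr, ← zpow_mul]
  have F2 : a ^ (r * r) = a ^ (1 : ℤ) := by
    rw [← F1 r, hr, zpow_one]
    have h1 : b * (b * a * b⁻¹) * b⁻¹ = (b * b) * a * (b * b)⁻¹ := by group
    rw [h1, ← hs]
    have hc : Commute (a ^ s) a := (Commute.refl a).zpow_left s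
    rw [hc.eq]
    group
  have F3 : a ^ (r * s) = a ^ s := by
    rw [← F1 s, hs]; group
  have F4 : ∀ k : ℤ, (b * a ^ k) ^ 2 = a ^ (r * k + s + k) := by
    intro k
    have h1 : (b * a ^ k) ^ 2 = (b * a ^ k * b⁻¹) * (b * b) * a ^ k := by rw [pow_two]; group
    rw [h1, F1, ← hs, ← zpow_add, ← zpow_add]
  have F5 : ∀ k : ℤ, (b * a ^ k) * a * (b * a ^ k)⁻¹ = a ^ r := by
    intro k
    rw [hr]
    have hc : Commute (a ^ k) a := (Commute.refl a).zpow_left k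
    calc (b * a ^ k) * a * (b * a ^ k)⁻¹ = b * (a ^ k * a) * (a ^ k)⁻¹ * b⁻¹ := by group
      _ = b * (a * a ^ k) * (a ^ k)⁻¹ * b⁻¹ := by rw [hc.eq]
      _ = b * a * b⁻¹ := by group
  have F6 : ∀ k : ℤ, b * a ^ k ∉ Subgroup.zpowers a := by
    intro k hmem
    apply hbC
    rw [haC]
    have h2 : b = (b * a ^ k) * (a ^ k)⁻¹ := by group
    rw [h2]
    exact mul_mem hmem (inv_mem (Subgroup.zpow_mem_zpowers a k))
  have hM : ((orderOf a : ℕ) : ℤ) = 2 ^ (m + 1) := by rw [hao]; push_cast; rfl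
  have Fpow : ∀ i j : ℤ, a ^ i = a ^ j ↔ (2 : ℤ) ^ (m + 1) ∣ j - i := by
    intro i j
    rw [zpow_eq_zpow_iff_modEq, hM, Int.modEq_iff_dvd]
  have Fone : ∀ i : ℤ, (2 : ℤ) ^ (m + 1) ∣ i → a ^ i = 1 := by
    intro i hi
    rw [← zpow_zero a, Fpow]
    simpa using hi
  have hrr : r * r ≡ 1 [ZMOD 2 ^ (m + 1)] := by
    have := zpow_eq_zpow_iff_modEq.mp F2
    rwa [hM] at this
  obtain ⟨u, hu⟩ := sqrt_one_mod m hm r hrr
  have hrs : (2 : ℤ) ^ (m + 1) ∣ (r - 1) * s := by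
    have := (Fpow _ _).mp F3
    have h2 : (r - 1) * s = -(s - r * s) := by ring
    rw [h2]; exact (dvd_neg).mpr this
  -- non-abelian
  have hnc : a ^ r ≠ a := by
    intro hra
    obtain ⟨x, y, hxy⟩ := hna
    apply hxy
    have hab : Commute b a := by
      have h1 : b * a * b⁻¹ = a := hr ▸ hra
      calc b * a = (b * a * b⁻¹) * b := by group
        _ = a * b := by rw [h1]
    have hform : ∀ x : G, ∃ i : ℤ, x = a ^ i ∨ x = b * a ^ i := by
      intro x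
      by_cases hx : x ∈ C
      · obtain ⟨i, hi⟩ := Subgroup.mem_zpowers_iff.mp ((haC x).mp hx)
        exact ⟨i, Or.inl hi.symm⟩
      · have h1 : b⁻¹ * x ∈ C := by
          rw [Subgroup.mul_mem_iff_of_index_two hCi]
          constructor
          · intro h; exact absurd (C.inv_mem_iff.mp h) hbC
          · intro h; exact absurd h hx
        obtain ⟨i, hi⟩ := Subgroup.mem_zpowers_iff.mp ((haC _).mp h1)
        exact ⟨i, Or.inr (by rw [hi]; group)⟩
    have hxa : ∀ x : G, Commute x a ∧ Commute x b := by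
      intro x
      obtain ⟨i, hi | hi⟩ := hform x
      · rw [hi]; exact ⟨(Commute.refl a).zpow_left i, (hab.symm).zpow_left i⟩
      · rw [hi]
        exact ⟨hab.mul_left ((Commute.refl a).zpow_left i),
          (Commute.refl b).mul_left ((hab.symm).zpow_left i)⟩
    obtain ⟨j, hj | hj⟩ := hform y
    · rw [hj]; exact ((hxa x).1.zpow_right j).eq
    · rw [hj]; exact ((hxa x).2.mul_right ((hxa x).1.zpow_right j)).eq
  have hnc' : ¬ (2 : ℤ) ^ (m + 1) ∣ r - 1 := by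
    intro h
    apply hnc
    have : a ^ r = a ^ (1 : ℤ) := by
      rw [Fpow]
      have h2 : (1 : ℤ) - r = -(r - 1) := by ring
      rw [h2]; exact (dvd_neg).mpr h
    rw [this, zpow_one]
  -- the three cases
  have hcases : ((2 : ℤ) ^ (m + 1) ∣ r + 1) ∨ (2 ≤ m ∧ (2 : ℤ) ^ (m + 1) ∣ r - 1 - 2 ^ m) ∨
      (2 ≤ m ∧ (2 : ℤ) ^ (m + 1) ∣ r + 1 - 2 ^ m) := by
    rcases hu with hu | hu
    · rcases Int.even_or_odd u with ⟨w, hw⟩ | ⟨w, hw⟩
      · exfalso
        apply hnc'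
        refine ⟨w, ?_⟩
        rw [hu, hw]; ring
      · by_cases hm2 : 2 ≤ m
        · right; left
          refine ⟨hm2, w, ?_⟩
          rw [hu, hw]; ring
        · left
          have hm1 : m = 1 := by omega
          subst hm1
          refine ⟨w + 1, ?_⟩
          rw [hu, hw]; ring
    · rcases Int.even_or_odd u with ⟨w, hw⟩ | ⟨w, hw⟩
      · left
        refine ⟨w, ?_⟩
        rw [hu, hw]; ring
      · by_cases hm2 : 2 ≤ m
        · right; right
          refine ⟨hm2, w, ?_⟩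
          rw [hu, hw]; ring
        · exfalso
          have hm1 : m = 1 := by omega
          subst hm1
          apply hnc'
          refine ⟨w, ?_⟩
          rw [hu, hw]; ring
  have hfin : ∀ k : ℤ, (2 : ℤ) ^ (m + 1) ∣ r * k + s + k → (b * a ^ k) ^ 2 = 1 := by
    intro k hk
    rw [F4]; exact Fone _ hk
  refine ⟨a, ?_⟩
  rcases hcases with hA | ⟨hm2, hB⟩ | ⟨hm2, hCc⟩
  · -- inverting case
    have hinv : a ^ r = a⁻¹ := by
      rw [← zpow_neg_one, Fpow]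
      have h2 : (-1 : ℤ) - r = -(r + 1) := by ring
      rw [h2]; exact (dvd_neg).mpr hA
    have h2s : (2 : ℤ) ^ (m + 1) ∣ 2 * s := by
      have h3 : 2 * s = (r + 1) * s - (r - 1) * s := by ring
      rw [h3]
      exact dvd_sub (Dvd.dvd.mul_right hA s) hrs
    have hms : (2 : ℤ) ^ m ∣ s := by
      have h3 : (2 : ℤ) ^ (m + 1) = 2 * 2 ^ m := by ring
      rw [h3] at h2s
      exact (mul_dvd_mul_iff_left (by norm_num)).mp h2s
    obtain ⟨v, hv⟩ := hms
    refine ⟨b, hao, hbC ∘ (haC b).mpr, ?_⟩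
    rcases Int.even_or_odd v with ⟨w, hw⟩ | ⟨w, hw⟩
    · left
      refine ⟨?_, by rw [← hr, hinv]⟩
      rw [pow_two, ← hs]
      apply Fone
      refine ⟨w, ?_⟩
      rw [hv, hw]; ring
    · right; left
      refine ⟨?_, by rw [← hr, hinv]⟩
      rw [pow_two, ← hs, ← zpow_natCast, Fpow]
      refine ⟨-w, ?_⟩
      rw [hv, hw]; push_cast; ring
  · -- modular case
    have hconj : a ^ r = a ^ (1 + 2 ^ m) := by
      rw [← zpow_natCast, Fpow]
      have h2 : (((1 + 2 ^ m : ℕ) : ℤ)) - r = -(r - 1 - 2 ^ m) := by push_cast; ring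
      rw [h2]; exact (dvd_neg).mpr hB
    have h2s : (2 : ℤ) ^ (m + 1) ∣ 2 ^ m * s := by
      have h3 : 2 ^ m * s = (r - 1) * s - (r - 1 - 2 ^ m) * s := by ring
      rw [h3]
      exact dvd_sub hrs (Dvd.dvd.mul_right hB s)
    have hs2 : (2 : ℤ) ∣ s := by
      have h3 : (2 : ℤ) ^ (m + 1) = 2 ^ m * 2 := by ring
      rw [h3] at h2s
      exact (mul_dvd_mul_iff_left (by positivity)).mp h2s
    obtain ⟨s', hs'⟩ := hs2
    obtain ⟨m'', rfl⟩ : ∃ m'', m = m'' + 2 := ⟨m - 2, by omega⟩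
    refine ⟨b * a ^ (-(s' * (1 + 2 ^ (m'' + 1))) : ℤ), hao, F6 _, ?_⟩
    right; right; left
    refine ⟨by omega, ?_, ?_⟩
    · apply hfin
      obtain ⟨c, hc⟩ := hB
      refine ⟨c * (-(s' * (1 + 2 ^ (m'' + 1)))) - s' * (1 + 2 ^ m''), ?_⟩
      have hr' : r = 2 ^ (m'' + 2 + 1) * c + 1 + 2 ^ (m'' + 2) := by linarith
      rw [hr', hs']; ring
    · rw [F5, hconj]
  · -- semidihedral case
    have hconj : a ^ r = a ^ (2 ^ m - 1) := by
      rw [← zpow_natCast, Fpow]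
      have h2 : (((2 ^ m - 1 : ℕ) : ℤ)) - r = -(r + 1 - 2 ^ m) := by
        rw [Nat.cast_sub Nat.one_le_two_pow]; push_cast; ring
      rw [h2]; exact (dvd_neg).mpr hCc
    obtain ⟨m'', rfl⟩ : ∃ m'', m = m'' + 2 := ⟨m - 2, by omega⟩
    have h2s : (2 : ℤ) ^ (m'' + 2 + 1) ∣ (2 * (2 ^ (m'' + 1) - 1)) * s := by
      have h3 : (2 * (2 ^ (m'' + 1) - 1)) * s = (r - 1) * s - (r + 1 - 2 ^ (m'' + 2)) * s := by ring
      rw [h3]
      exact dvd_sub hrs (Dvd.dvd.mul_right hCc s)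
    have hms : (2 : ℤ) ^ (m'' + 2) ∣ s := by
      have h3 : (2 : ℤ) ^ (m'' + 2 + 1) = 2 * 2 ^ (m'' + 2) := by ring
      have h4 : (2 * ((2 : ℤ) ^ (m'' + 1) - 1)) * s = 2 * ((2 ^ (m'' + 1) - 1) * s) := by ring
      rw [h3, h4] at h2s
      have h5 : (2 : ℤ) ^ (m'' + 2) ∣ (2 ^ (m'' + 1) - 1) * s :=
        (mul_dvd_mul_iff_left (by norm_num)).mp h2s
      have hnd : ¬ (2 : ℤ) ∣ 2 ^ (m'' + 1) - 1 := by
        intro hd
        have h6 : (2 : ℤ) ∣ 2 ^ (m'' + 1) := dvd_pow_self 2 (by omega)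
        have h7 := dvd_sub h6 hd
        have h8 : (2 : ℤ) ^ (m'' + 1) - (2 ^ (m'' + 1) - 1) = 1 := by ring
        rw [h8] at h7
        omega
      exact Int.prime_two.pow_dvd_of_dvd_mul_left _ hnd h5
    obtain ⟨v, hv⟩ := hms
    rcases Int.even_or_odd v with ⟨w, hw⟩ | ⟨w, hw⟩
    · refine ⟨b, hao, hbC ∘ (haC b).mpr, ?_⟩
      right; right; right
      refine ⟨by omega, ?_, by rw [← hr, hconj]⟩
      rw [pow_two, ← hs]
      apply Fone
      refine ⟨w, ?_⟩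
      rw [hv, hw]; ring
    · refine ⟨b * a ^ (1 : ℤ), hao, F6 _, ?_⟩
      right; right; right
      refine ⟨by omega, ?_, ?_⟩
      · apply hfin
        obtain ⟨c, hc⟩ := hCc
        refine ⟨c + w + 1, ?_⟩
        have hr' : r = 2 ^ (m'' + 2 + 1) * c - 1 + 2 ^ (m'' + 2) := by linarith
        rw [hr', hv, hw]; ring
      · rw [F5, hconj]

end Cfsg.Agent.S0646
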