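import Cfsg.Statements.S0650
import Cfsg.Agent.Lib.Helper11.Glauberman

set_option autoImplicit false
open Cfsg

namespace Cfsg.Agent.S0650

open Cfsg.Agent.Lib.Helper11

theorem setup_of {S : Type*} [Group S] (B : Subgroup S) [hBn : B.Normal] (A : Subgroup S)
    (hA : IsMulCommutative A) (hBA : ⁅B, B⁆ ≤ A) (b : S) (hb : b ∈ B)
    (hbN : b ∈ Subgroup.normalizer ((Subgroup.normalizer (A : Set S)) : Set S)) :
    RSetup A B b := by
  refine ⟨hBn, ?_, hBA, hb, hbN⟩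
  intro x hx y hy
  exact (Subgroup.le_centralizer_iff_isMulCommutative.mpr hA hy x hx)

theorem result {S : Type*} [Group S] [Finite S] {p : ℕ} [Fact p.Prime] (hS : IsPGroup p S) (B : Subgroup S) [B.Normal] (hB2 : p = 2 → IsMulCommutative B) (A : Subgroup S) (hA : IsMulCommutative A) (hBA : ⁅B, B⁆ ≤ A) (hnot : ¬ B ≤ Subgroup.normalizer (A : Set S)) (b : S) (hb : b ∈ B) (hbN : b ∈ Subgroup.normalizer ((Subgroup.normalizer (A : Set S)) : Set S)) (hbA : b ∉ Subgroup.normalizer (A : Set S)) : Nat.card ↥((A ⊓ A.map (MulAut.conj (b⁻¹)).toMonoidHom) ⊔ Subgroup.closure {g : S | ∃ a ∈ A, g = a * b⁻¹ * a⁻¹ * b}) = Nat.card A ∧ IsMulCommutative ↥((A ⊓ A.map (MulAut.conj (b⁻¹)).toMonoidHom) ⊔ Subgroup.closure {g : S | ∃ a ∈ A, g = a * b⁻¹ * a⁻¹ * b}) ∧ ⁅B, B⁆ ≤ ((A ⊓ A.map (MulAut.conj (b⁻¹)).toMonoidHom) ⊔ Subgroup.closure {g : S | ∃ a ∈ A, g = a * b⁻¹ * a⁻¹ * b}) ∧ A ⊓ B < ((A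 ⊓ A.map (MulAut.conj (b⁻¹)).toMonoidHom) ⊔ Subgroup.closure {g : S | ∃ a ∈ A, g = a * b⁻¹ * a⁻¹ * b}) ⊓ B ∧ ((A ⊓ A.map (MulAut.conj (b⁻¹)).toMonoidHom) ⊔ Subgroup.closure {g : S | ∃ a ∈ A, g = a * b⁻¹ * a⁻¹ * b}) ⊓ B < B ∧ A ≤ Subgroup.normalizer (((A ⊓ A.map (MulAut.conj (b⁻¹)).toMonoidHom) ⊔ Subgroup.closure {g : S | ∃ a ∈ A, g = a * b⁻¹ * a⁻¹ * b} : Subgroup S) : Set S) ∧ ((A ⊓ A.map (MulAut.conj (b⁻¹)).toMonoidHom) ⊔ Subgroup.closure {g : S | ∃ a ∈ A, g = a * b⁻¹ * a⁻¹ * b}) ≤ Subgroup.normalizer (A : Set S) ∧ b ∈ Subgroup.normalizer (((A ⊓ A.map (MulAut.conj (b⁻¹)).toMonoidHom) ⊔ Subgroup.closure {g : S | ∃ a ∈ A, g = a * b⁻¹ * a⁻¹ * b} : Subgroup S) : Set S) ∧ Subgroup.normalizer (A : Set S) < Subgroup.normalizer (((A ⊓ A.map (MulAut.conj (b⁻¹)).toMonoidHom) ⊔ Subgroup.closure {g : S | ∃ a ∈ A, g = a * b⁻¹ * a⁻¹ * b} : Subgroup S) : Set S) ∧ (p ≠ 2 → Monoid.exponent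 ↥((A ⊓ A.map (MulAut.conj (b⁻¹)).toMonoidHom) ⊔ Subgroup.closure {g : S | ∃ a ∈ A, g = a * b⁻¹ * a⁻¹ * b}) ∣ Monoid.exponent A) := by
  have h : RSetup A B b := setup_of B A hA hBA b hb hbN
  change Nat.card (rStar A b) = Nat.card A ∧ IsMulCommutative (rStar A b) ∧
    ⁅B, B⁆ ≤ rStar A b ∧ A ⊓ B < rStar A b ⊓ B ∧ rStar A b ⊓ B < B ∧
    A ≤ Subgroup.normalizer ((rStar A b : Subgroup S) : Set S) ∧
    rStar A b ≤ Subgroup.normalizer (A : Set S) ∧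
    b ∈ Subgroup.normalizer ((rStar A b : Subgroup S) : Set S) ∧
    Subgroup.normalizer (A : Set S) < Subgroup.normalizer ((rStar A b : Subgroup S) : Set S) ∧
    (p ≠ 2 → Monoid.exponent (rStar A b) ∣ Monoid.exponent A)
  refine ⟨h.card_rStar, h.rStar_comm hS hB2, h.commutator_le_rZ.trans le_sup_left, ?_, ?_,
    Subgroup.le_normalizer.trans h.N_le_normalizer_rStar, h.rStar_le_N,
    h.b_mem_normalizer_rStar, ?_, h.exponent_rStar_dvd hS hB2⟩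
  · obtain ⟨g, hg, hgA⟩ := h.exists_rGens_not_mem hbA
    apply lt_of_le_of_ne
    · exact le_inf (h.inf_le_rZ.trans le_sup_left) inf_le_right
    · intro heq
      apply hgA
      have hgK : g ∈ rK A b := Subgroup.subset_closure hg
      have : g ∈ rStar A b ⊓ B :=
        Subgroup.mem_inf.mpr ⟨le_sup_right (a := rZ A b) hgK, h.rK_le_B hgK⟩
      rw [← heq] at this
      exact (Subgroup.mem_inf.mp this).1
  · apply lt_of_le_of_ne inf_le_right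
    intro heq
    apply hnot
    have : B ≤ rStar A b := by
      rw [← heq]; exact inf_le_left
    exact this.trans h.rStar_le_N
  · apply lt_of_le_of_ne h.N_le_normalizer_rStar
    intro heq
    apply hbA
    rw [heq]
    exact h.b_mem_normalizer_rStar

end Cfsg.Agent.S0650
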