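import Cfsg.Statements.S0657
import Cfsg.Agent.Lib.Helper11.Dickson.NPS3

set_option autoImplicit false
open Cfsg

namespace Cfsg.Agent.S0657

/-- For odd p, a group that fails to be p-stable modulo its largest normal subgroup of order prime to p, and whose upper p-series does not stop there, has a section isomorphic to SL(2, p). -/
theorem result {G : Type*} [Group G] [Finite G] {p : ℕ} [Fact p.Prime] (hp : p ≠ 2) (hO : Cfsg.pPrimeCore p G < Cfsg.pPrimePCore p G) (hns : ¬ Cfsg.IsPStable p (G ⧸ Cfsg.pPrimeCore p G)) : ∃ (K L : Subgroup G) (hL : (L.subgroupOf K).Normal), K ≤ ⊤ ∧ Nonempty ((K ⧸ L.subgroupOf K) ≃* Matrix.SpecialLinearGroup (Fin 2) (ZMod p)) := by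
  by_contra hcon
  have hG : Cfsg.Agent.Lib.Helper11.Dickson.NoSL2 p G := by
    intro hinv
    obtain ⟨K, R, hn, e⟩ := hinv
    exact hcon ⟨K, R, hn, le_top, e⟩
  have hQ : Cfsg.Agent.Lib.Helper11.Dickson.NoSL2 p (G ⧸ Cfsg.pPrimeCore p G) := by
    intro hinv
    exact hG (Cfsg.Agent.Lib.Helper51.involves_of_surjective
      (QuotientGroup.mk' (Cfsg.pPrimeCore p G)) (QuotientGroup.mk'_surjective _) hinv)
  apply hns
  apply Cfsg.Agent.Lib.Helper11.Dickson.isPStable_of_noSL2 hp hQ
  intro hbot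
  have h1 : Cfsg.pPrimePCore p G ≤ Cfsg.pPrimeCore p G := by
    intro x hx
    unfold Cfsg.pPrimePCore at hx
    rw [Subgroup.mem_comap, hbot, Subgroup.mem_bot] at hx
    exact (QuotientGroup.eq_one_iff x).mp hx
  exact (not_le_of_gt hO) h1

end Cfsg.Agent.S0657
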