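import Cfsg.Statements.S0662
import Cfsg.Agent.Lib.Helper29.MaxClass
import Cfsg.Agent.S0063

set_option autoImplicit false
open Cfsg

namespace Cfsg.Agent.S0662

open Cfsg.Agent.Lib.Helper29
open scoped commutatorElement

section aux

variable {G : Type*} [Group G]

theorem normal_of_commutator_le' {H : Subgroup G} (h : commutator G ≤ H) : H.Normal := by
  refine ⟨fun x hx g => ?_⟩
  have h1 : ⁅g, x⁆ ∈ commutator G := by
    rw [commutator_def]
    exact Subgroup.commutator_mem_commutator (Subgroup.mem_top g) (Subgroup.mem_top x)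
  have h2 : g * x * g⁻¹ = ⁅g, x⁆ * x := by rw [commutatorElement_def]; group
  rw [h2]; exact mul_mem (h h1) hx

theorem commutator_le_of_index_prime [Finite G] {p : ℕ} [hp : Fact p.Prime] (N : Subgroup G)
    [hN : N.Normal] (hNi : N.index = p) : commutator G ≤ N := by
  rw [← Subgroup.Normal.quotient_commutative_iff_commutator_le]
  have hc : Nat.card (G ⧸ N) = p := by rw [← Subgroup.index_eq_card]; exact hNi
  have hcyc : IsCyclic (G ⧸ N) := isCyclic_of_prime_card hc
  exact ⟨⟨fun a b => (IsCyclic.commGroup (α := G ⧸ N)).mul_comm a b⟩⟩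

theorem eq_of_le_of_index_eq [Finite G] {M N : Subgroup G} (h : M ≤ N) (hi : M.index = N.index) :
    M = N := by
  apply le_antisymm h
  rw [← Subgroup.relIndex_eq_one]
  have h1 := Subgroup.relIndex_mul_index h
  rw [hi] at h1
  have hpos : 0 < N.index := Nat.pos_of_ne_zero Subgroup.index_ne_zero_of_finite
  have : M.relIndex N * N.index = 1 * N.index := by rw [h1, one_mul]
  exact Nat.eq_of_mul_eq_mul_right hpos this

theorem index_sup_zpowers [Finite G] {p : ℕ} [hp : Fact p.Prime]
    (hDi : (commutator G).index = p ^ 2)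
    (hnc : ¬ IsCyclic (G ⧸ commutator G)) {y : G} (hy : y ∉ commutator G) :
    (commutator G ⊔ Subgroup.zpowers y).index = p := by
  obtain ⟨M, hM⟩ : ∃ M, M = commutator G ⊔ Subgroup.zpowers y := ⟨_, rfl⟩
  rw [← hM]
  have hDM : commutator G ≤ M := hM ▸ le_sup_left
  have hyM : y ∈ M := hM ▸ (le_sup_right : Subgroup.zpowers y ≤ _) (Subgroup.mem_zpowers y)
  have h1 := Subgroup.relIndex_mul_index hDM
  rw [hDi] at h1
  have h2 : M.index ∣ p ^ 2 := Dvd.intro_left _ h1
  obtain ⟨k, hk2, hk⟩ := (Nat.dvd_prime_pow hp.out).1 h2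
  have hk0 : k ≠ 0 := by
    intro h0
    rw [h0, pow_zero, Subgroup.index_eq_one] at hk
    apply hnc
    refine ⟨⟨(QuotientGroup.mk y : G ⧸ commutator G), fun q => ?_⟩⟩
    obtain ⟨g, rfl⟩ := QuotientGroup.mk_surjective q
    have hg : g ∈ commutator G ⊔ Subgroup.zpowers y := by rw [← hM, hk]; trivial
    rw [← SetLike.mem_coe, Subgroup.normal_mul] at hg
    obtain ⟨d, hd, z, hz, rfl⟩ := Set.mem_mul.mp hg
    obtain ⟨j, rfl⟩ := Subgroup.mem_zpowers_iff.mp hz
    refine Subgroup.mem_zpowers_iff.mpr ⟨j, ?_⟩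
    rw [QuotientGroup.mk_mul, (QuotientGroup.eq_one_iff d).mpr hd, one_mul, QuotientGroup.mk_zpow]
  have hk2' : k ≠ 2 := by
    intro h2'
    rw [h2'] at hk
    rw [hk] at h1
    have h3 : (commutator G).relIndex M = 1 := by
      have : (commutator G).relIndex M * p ^ 2 = 1 * p ^ 2 := by rw [h1, one_mul]
      exact Nat.eq_of_mul_eq_mul_right (pow_pos hp.out.pos 2) this
    rw [Subgroup.relIndex_eq_one] at h3
    exact hy (h3 hyM)
  have hk1 : k = 1 := by omega
  rw [hk, hk1, pow_one]

theorem card_normal_index_prime [Finite G] {p : ℕ} [hp : Fact p.Prime]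
    (hDi : (commutator G).index = p ^ 2)
    (hnc : ¬ IsCyclic (G ⧸ commutator G)) :
    Nat.card {N : Subgroup G // N.Normal ∧ N.index = p} = p + 1 := by
  classical
  let 𝔅 := {N : Subgroup G // N.Normal ∧ N.index = p}
  let Y := {y : G // y ∉ commutator G}
  let f : Y → 𝔅 := fun y => ⟨commutator G ⊔ Subgroup.zpowers y.1,
    normal_of_commutator_le' le_sup_left, index_sup_zpowers hDi hnc y.2⟩
  have hDle : ∀ B : 𝔅, commutator G ≤ B.1 := fun B => by
    have := B.2.1
    exact commutator_le_of_index_prime B.1 B.2.2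
  have hf : ∀ (y : Y) (B : 𝔅), f y = B ↔ y.1 ∈ B.1 := by
    intro y B
    constructor
    · intro h
      rw [← h]
      exact (le_sup_right : Subgroup.zpowers y.1 ≤ _) (Subgroup.mem_zpowers y.1)
    · intro h
      apply Subtype.ext
      apply eq_of_le_of_index_eq
      · exact sup_le (hDle B) ((Subgroup.zpowers_le).2 h)
      · rw [B.2.2]; exact index_sup_zpowers hDi hnc y.2
  obtain ⟨z, hz⟩ : ∃ z, z = Nat.card (commutator G) := ⟨_, rfl⟩
  have hzpos : 0 < z := hz ▸ Nat.card_pos
  have hScard : Nat.card G = p ^ 2 * z := by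
    rw [← Subgroup.card_mul_index (commutator G), hDi, hz, mul_comm]
  have hfiber : ∀ B : 𝔅, Nat.card {y : Y // f y = B} = p * z - z := by
    intro B
    have hZB : commutator G ≤ B.1 := hDle B
    have hBcard : Nat.card B.1 = p * z := by
      have h1 : Nat.card B.1 * B.1.index = Nat.card G := Subgroup.card_mul_index _
      rw [B.2.2, hScard] at h1
      have h2 : Nat.card B.1 * p = (p * z) * p := by rw [h1]; ring
      exact Nat.eq_of_mul_eq_mul_right hp.out.pos h2
    have e : {y : Y // f y = B} ≃ ↥((B.1 : Set G) \ (commutator G : Set G)) :=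
      { toFun := fun y => ⟨y.1.1, (hf y.1 B).1 y.2, y.1.2⟩
        invFun := fun y => ⟨⟨y.1, y.2.2⟩, (hf _ B).2 y.2.1⟩
        left_inv := fun y => rfl
        right_inv := fun y => rfl }
    rw [Nat.card_congr e, Nat.card_coe_set_eq, Set.ncard_sdiff (by exact hZB)]
    rw [← Nat.card_coe_set_eq, ← Nat.card_coe_set_eq]
    change Nat.card B.1 - Nat.card (commutator G) = _
    rw [hBcard, hz]
  have hYcard : Nat.card Y = p ^ 2 * z - z := by
    have : Nat.card Y = ((commutator G : Set G)ᶜ).ncard := by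
      rw [← Nat.card_coe_set_eq]; rfl
    rw [this, Set.ncard_compl, hScard, ← Nat.card_coe_set_eq, hz]
    rfl
  have hsum : Nat.card Y = Nat.card 𝔅 * (p * z - z) := by
    have : Fintype 𝔅 := Fintype.ofFinite 𝔅
    rw [← Nat.card_congr (Equiv.sigmaFiberEquiv f), Nat.card_sigma]
    simp only [hfiber, Finset.sum_const, Finset.card_univ, smul_eq_mul, Nat.card_eq_fintype_card]
  rw [hYcard] at hsum
  have hp1 := hp.out.one_lt
  obtain ⟨q, rfl⟩ : ∃ q, p = q + 1 := ⟨p - 1, by omega⟩
  have hq : 0 < q := by omega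
  have e1 : (q + 1) ^ 2 * z - z = (q + 2) * (q * z) := by
    have : (q + 1) ^ 2 * z = (q + 2) * (q * z) + z := by ring
    rw [this]; omega
  have e2 : (q + 1) * z - z = q * z := by
    have : (q + 1) * z = q * z + z := by ring
    rw [this]; omega
  rw [e1, e2] at hsum
  have h := Nat.eq_of_mul_eq_mul_right (Nat.mul_pos hq hzpos) hsum
  exact h.symm

end aux

/-- In a p-group of maximal class of order at least p³ the normal subgroups of index at least p² are exactly the terms of the lower central series, and there are exactly p + 1 normal subgroups of index p. -/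
theorem result {G : Type*} [Group G] [Finite G] {p : ℕ} [Fact p.Prime] (n : ℕ) (hG : Nat.card G = p ^ n) (hcl : Group.nilpotencyClass G = n - 1) (hn : 3 ≤ n) : (∀ (N : Subgroup G) [N.Normal] (r : ℕ), 2 ≤ r → N.index = p ^ r → N = (⊤ : Subgroup G).lowerCentralSeries (r - 1)) ∧ Nat.card {N : Subgroup G // N.Normal ∧ N.index = p} = p + 1 := by
  have hp : p.Prime := Fact.out
  have hpG : IsPGroup p G := IsPGroup.of_card hG
  have hnil : Group.IsNilpotent G := hpG.isNilpotent
  obtain ⟨hDi, hnc⟩ := index_commutator_of_maxClass n hn hG hcl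
  refine ⟨?_, card_normal_index_prime hDi hnc⟩
  intro N hN r hr hNi
  -- r ≤ n
  have hrn : r ≤ n := by
    have h1 : N.index ∣ Nat.card G := Subgroup.index_dvd_card N
    rw [hNi, hG] at h1
    exact (Nat.pow_dvd_pow_iff_le_right hp.one_lt).mp h1
  -- the quotient has class ≤ r - 1
  have hQcard : Nat.card (G ⧸ N) = p ^ r := by rw [← Subgroup.index_eq_card]; exact hNi
  have hQcl : Group.nilpotencyClass (G ⧸ N) ≤ r - 1 :=
    Cfsg.Agent.S0063.aux p r (by omega) (G ⧸ N) hQcard
  have hQbot : (⊤ : Subgroup (G ⧸ N)).lowerCentralSeries (r - 1) = ⊥ :=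
    Subgroup.lowerCentralSeries_eq_bot_iff_nilpotencyClass_le.mpr hQcl
  have hle : (⊤ : Subgroup G).lowerCentralSeries (r - 1) ≤ N := by
    have h1 := Subgroup.map_lowerCentralSeries (S := (⊤ : Subgroup G)) (QuotientGroup.mk' N) (r - 1)
    rw [← MonoidHom.range_eq_map, MonoidHom.range_eq_top.mpr (QuotientGroup.mk'_surjective N),
      hQbot] at h1
    rw [Subgroup.map_eq_bot_iff, QuotientGroup.ker_mk'] at h1
    exact h1
  -- cardinalities
  have hNcard : Nat.card N = p ^ (n - r) := by
    have h1 : Nat.card N * N.index = Nat.card G := Subgroup.card_mul_index N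
    rw [hNi, hG] at h1
    have h2 : p ^ n = p ^ (n - r) * p ^ r := by rw [← pow_add]; congr 1; omega
    rw [h2] at h1
    exact Nat.eq_of_mul_eq_mul_right (pow_pos hp.pos r) h1
  have hk : n - r ≤ Group.nilpotencyClass G := by rw [hcl]; omega
  have h3 := pow_le_card_lcs hpG (n - r) hk
  have h4 : Group.nilpotencyClass G - (n - r) = r - 1 := by rw [hcl]; omega
  rw [h4] at h3
  symm
  apply Subgroup.eq_of_le_of_card_ge hle
  rw [hNcard]; exact h3

end Cfsg.Agent.S0662
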