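import Cfsg.Statements.S0668
import Mathlib.LinearAlgebra.Dimension.Constructions
import Mathlib.LinearAlgebra.FiniteDimensional.Defs
import Mathlib.LinearAlgebra.Dimension.Free

set_option autoImplicit false
open Cfsg

namespace Cfsg.Agent.S0668

section

variable {G : Type*} [Group G] {K : Type*} [Field K] {Ω₁ Ω₂ : Type*} [Fintype Ω₁] [Fintype Ω₂]
  [MulAction G Ω₁] [MulAction G Ω₂]

/-- the orbit of a pair -/
def mkQ (x : Ω₁) (y : Ω₂) : MulAction.orbitRel.Quotient G (Ω₁ × Ω₂) :=
  Quotient.mk (MulAction.orbitRel G (Ω₁ × Ω₂)) (x, y)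

theorem mkQ_smul (g : G) (x : Ω₁) (y : Ω₂) : (mkQ (g • x) (g • y) : MulAction.orbitRel.Quotient G (Ω₁ × Ω₂)) = mkQ x y := by
  apply Quotient.sound
  show (g • x, g • y) ∈ MulAction.orbit G (x, y)
  exact ⟨g, rfl⟩

/-- the equivariant map attached to a function on orbits -/
noncomputable def Ψ : (MulAction.orbitRel.Quotient G (Ω₁ × Ω₂) → K) →ₗ[K]
    ((Ω₁ → K) →ₗ[K] (Ω₂ → K)) where
  toFun c :=
    { toFun := fun v y => ∑ x, c (mkQ x y) * v x
      map_add' := fun v w => by
        funext y
        simp only [Pi.add_apply, mul_add, Finset.sum_add_distrib]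
      map_smul' := fun a v => by
        funext y
        simp only [Pi.smul_apply, smul_eq_mul, RingHom.id_apply, Finset.mul_sum]
        exact Finset.sum_congr rfl (fun x _ => by ring) }
  map_add' := fun c d => by
    ext v y
    simp only [LinearMap.coe_mk, AddHom.coe_mk, Pi.add_apply, LinearMap.add_apply, add_mul,
      Finset.sum_add_distrib]
  map_smul' := fun a c => by
    ext v y
    simp only [LinearMap.coe_mk, AddHom.coe_mk, Pi.smul_apply, smul_eq_mul, RingHom.id_apply,
      LinearMap.smul_apply, Finset.mul_sum]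
    exact Finset.sum_congr rfl (fun x _ => by ring)

theorem Ψ_apply (c : MulAction.orbitRel.Quotient G (Ω₁ × Ω₂) → K) (v : Ω₁ → K) (y : Ω₂) :
    Ψ c v y = ∑ x, c (mkQ x y) * v x := rfl

theorem Ψ_single [DecidableEq Ω₁] (c : MulAction.orbitRel.Quotient G (Ω₁ × Ω₂) → K) (x : Ω₁) (y : Ω₂) :
    Ψ c (Pi.single x 1) y = c (mkQ x y) := by
  rw [Ψ_apply]
  simp [Pi.single_apply]

theorem Ψ_injective : Function.Injective (Ψ : (MulAction.orbitRel.Quotient G (Ω₁ × Ω₂) → K) →ₗ[K]
    ((Ω₁ → K) →ₗ[K] (Ω₂ → K))) := by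
  classical
  intro c d h
  funext q
  induction q using Quotient.inductionOn with
  | h xy =>
    obtain ⟨x, y⟩ := xy
    have h1 := Ψ_single c x y
    have h2 := Ψ_single d x y
    rw [h] at h1
    exact h1.symm.trans h2

theorem range_Ψ : LinearMap.range (Ψ : (MulAction.orbitRel.Quotient G (Ω₁ × Ω₂) → K) →ₗ[K]
    ((Ω₁ → K) →ₗ[K] (Ω₂ → K))) =
    ((Cfsg.permRep K G Ω₁).linHom (Cfsg.permRep K G Ω₂)).invariants := by
  classical
  apply le_antisymm
  · rintro _ ⟨c, rfl⟩
    rw [Representation.mem_invariants]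
    intro g
    rw [Representation.linHom_apply]
    apply LinearMap.ext
    intro v
    funext y
    show Ψ c (fun x => v ((g⁻¹)⁻¹ • x)) (g⁻¹ • y) = Ψ c v y
    rw [Ψ_apply, Ψ_apply, inv_inv]
    apply Fintype.sum_equiv (MulAction.toPerm g)
    intro x
    show c (mkQ x (g⁻¹ • y)) * v (g • x) = c (mkQ (g • x) y) * v (g • x)
    rw [← mkQ_smul g x (g⁻¹ • y), smul_inv_smul]
  · intro f hf
    rw [Representation.mem_invariants] at hf
    have hf' : ∀ (g : G) (v : Ω₁ → K) (y : Ω₂), f (fun x => v (g • x)) (g⁻¹ • y) = f v y := by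
      intro g v y
      have := congrFun (LinearMap.congr_fun (hf g) v) y
      rw [Representation.linHom_apply] at this
      have h2 : ((Cfsg.permRep K G Ω₂) g ∘ₗ f ∘ₗ (Cfsg.permRep K G Ω₁) g⁻¹) v y =
          f (fun x => v ((g⁻¹)⁻¹ • x)) (g⁻¹ • y) := rfl
      rw [h2, inv_inv] at this
      exact this
    have hwd : ∀ a b : Ω₁ × Ω₂, (MulAction.orbitRel G (Ω₁ × Ω₂)) a b →
        f (Pi.single a.1 1) a.2 = f (Pi.single b.1 1) b.2 := by
      rintro ⟨x', y'⟩ ⟨x, y⟩ ⟨g, hg⟩
      have hx : g • x = x' := congrArg Prod.fst hg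
      have hy : g • y = y' := congrArg Prod.snd hg
      subst hx hy
      have := hf' g (Pi.single (g • x) 1) (g • y)
      rw [inv_smul_smul] at this
      have he : (fun z => (Pi.single (g • x) (1 : K) : Ω₁ → K) (g • z)) = Pi.single x 1 := by
        funext z
        simp only [Pi.single_apply]
        by_cases hz : z = x
        · subst hz; simp
        · rw [if_neg hz, if_neg]
          intro h; exact hz (smul_left_cancel g h)
      rw [he] at this
      exact this.symm
    refine ⟨Quotient.lift (fun xy : Ω₁ × Ω₂ => f (Pi.single xy.1 1) xy.2) hwd, ?_⟩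
    apply LinearMap.ext
    intro v
    funext y
    rw [Ψ_apply]
    have hv : v = ∑ x, v x • (Pi.single x 1 : Ω₁ → K) := by
      funext z
      simp [Finset.sum_apply, Pi.single_apply]
    conv_rhs => rw [hv]
    rw [map_sum, Finset.sum_apply]
    apply Finset.sum_congr rfl
    intro x _
    rw [map_smul, Pi.smul_apply, smul_eq_mul, mul_comm]
    rfl

end

/-- The equivariant linear maps between the permutation modules of two finite `G`-sets form a space whose dimension is the number of `G`-orbits on the product of the two sets. -/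
theorem result {G : Type*} [Group G] {K : Type*} [Field K] {Ω₁ Ω₂ : Type*} [Fintype Ω₁] [Fintype Ω₂] [MulAction G Ω₁] [MulAction G Ω₂] : Module.finrank K ((Cfsg.permRep K G Ω₁).linHom (Cfsg.permRep K G Ω₂)).invariants = Nat.card (MulAction.orbitRel.Quotient G (Ω₁ × Ω₂)) := by
  classical
  have hfin : Finite (MulAction.orbitRel.Quotient G (Ω₁ × Ω₂)) :=
    Finite.of_surjective (Quotient.mk (MulAction.orbitRel G (Ω₁ × Ω₂))) Quotient.mk_surjective
  have : Fintype (MulAction.orbitRel.Quotient G (Ω₁ × Ω₂)) := Fintype.ofFinite _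
  rw [← range_Ψ, LinearMap.finrank_range_of_inj Ψ_injective, Module.finrank_fintype_fun_eq_card,
    Nat.card_eq_fintype_card]

end Cfsg.Agent.S0668
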