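import Cfsg.Statements.S0669

set_option autoImplicit false
open Cfsg

namespace Cfsg.Agent.S0669

theorem result {G : Type*} [Group G] {Ω : Type*} [Finite Ω] [MulAction G Ω] [MulAction.IsPretransitive G Ω] (a : Ω) : Nat.card (MulAction.orbitRel.Quotient G (Ω × Ω)) = Nat.card (MulAction.orbitRel.Quotient (MulAction.stabilizer G a) Ω) := by
  symm
  let f : MulAction.orbitRel.Quotient (MulAction.stabilizer G a) Ω →
      MulAction.orbitRel.Quotient G (Ω × Ω) :=
    Quotient.map' (s₁ := MulAction.orbitRel (MulAction.stabilizer G a) Ω)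
      (s₂ := MulAction.orbitRel G (Ω × Ω)) (fun b => (a, b)) (by
      intro b b' h
      rw [MulAction.orbitRel_apply, MulAction.mem_orbit_iff] at h ⊢
      obtain ⟨g, hg⟩ := h
      refine ⟨(g : G), ?_⟩
      have h1 : (g : G) • a = a := g.2
      have h2 : (g : G) • b' = b := hg
      simp [Prod.smul_mk, h1, h2])
  have hf : Function.Bijective f := by
    constructor
    · intro x y
      induction x using Quotient.inductionOn'
      induction y using Quotient.inductionOn'
      rename_i b b'
      intro h
      have h' := Quotient.exact' h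
      apply Quotient.sound'
      change (MulAction.orbitRel G (Ω × Ω)) (a, b) (a, b') at h'
      change (MulAction.orbitRel (MulAction.stabilizer G a) Ω) b b'
      rw [MulAction.orbitRel_apply, MulAction.mem_orbit_iff] at h' ⊢
      obtain ⟨g, hg⟩ := h'
      rw [Prod.smul_mk, Prod.mk.injEq] at hg
      exact ⟨⟨g, hg.1⟩, hg.2⟩
    · intro y
      induction y using Quotient.inductionOn'
      rename_i cd
      obtain ⟨c, d⟩ := cd
      obtain ⟨g, hg⟩ := MulAction.exists_smul_eq G c a
      refine ⟨Quotient.mk'' (g • d), ?_⟩
      apply Quotient.sound'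
      change (MulAction.orbitRel G (Ω × Ω)) (a, g • d) (c, d)
      rw [MulAction.orbitRel_apply, MulAction.mem_orbit_iff]
      exact ⟨g, by simp [Prod.smul_mk, hg]⟩
  exact Nat.card_congr (Equiv.ofBijective f hf)

end Cfsg.Agent.S0669
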