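import Cfsg.Statements.S0677
import Cfsg.Agent.Lib.Helper12.PrimeDegree

set_option autoImplicit false
open Cfsg

namespace Cfsg.Agent.S0677

open Cfsg.Agent.Lib.Helper12.PrimeDegree

/-- In a transitive permutation group of prime degree `p` whose Sylow `p`-normaliser has even order, the point stabilisers are the only subgroups of index `p`. -/
theorem result {α : Type*} [Fintype α] [DecidableEq α] {p : ℕ} [Fact p.Prime] (hα : Fintype.card α = p) (G : Subgroup (Equiv.Perm α)) [MulAction.IsPretransitive G α] (P : Sylow p G) (heven : Even (Nat.card (Subgroup.normalizer ((P : Subgroup G) : Set G)))) (H : Subgroup G) (hH : H.index = p) : ∃ a : α, H = MulAction.stabilizer G a := by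
  have hp : p.Prime := Fact.out
  have hne : Nonempty α := by
    rw [← Fintype.card_pos_iff, hα]
    exact hp.pos
  obtain ⟨x₀⟩ := hne
  have hdvd : p ∣ Nat.card G := by
    have h1 := MulAction.index_stabilizer_of_transitive G x₀
    rw [Nat.card_eq_fintype_card, hα] at h1
    rw [← h1]
    exact Subgroup.index_dvd_card _
  have hGfact : Nat.card G ∣ p.factorial := by
    have h1 := Subgroup.card_subgroup_dvd_card G
    rwa [Nat.card_eq_fintype_card (α := Equiv.Perm α), Fintype.card_perm, hα] at h1
  have hp2G : ¬ p ^ 2 ∣ Nat.card G := by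
    intro h
    have h1 : p ^ 2 ∣ p.factorial := h.trans hGfact
    rw [← Nat.mul_factorial_pred hp.ne_zero, pow_two] at h1
    have h2 : p ∣ (p - 1).factorial := (Nat.mul_dvd_mul_iff_left hp.pos).1 h1
    rw [hp.dvd_factorial] at h2
    have := hp.pos
    omega
  have hGH : Nat.card G = p * Nat.card H := by
    rw [← hH, Subgroup.index_mul_card]
  have hpH : ¬ p ∣ Nat.card H := by
    intro h
    apply hp2G
    rw [hGH, pow_two]
    exact Nat.mul_dvd_mul_left p h
  -- the Sylow subgroup has order `p`
  have hPcard : Nat.card (P : Subgroup G) = p := by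
    obtain ⟨n, hn⟩ := IsPGroup.iff_card.1 P.isPGroup'
    have hn0 : n ≠ 0 := by
      intro h0
      rw [h0, pow_zero] at hn
      exact P.ne_bot_of_dvd_card hdvd (Subgroup.eq_bot_of_card_eq _ hn)
    have hn2 : n < 2 := by
      by_contra hcon
      apply hp2G
      have h1 : p ^ 2 ∣ p ^ n := pow_dvd_pow p (by omega)
      rw [← hn] at h1
      exact h1.trans (Subgroup.card_subgroup_dvd_card _)
    have hn1 : n = 1 := by omega
    rw [hn, hn1, pow_one]
  have hcyc : IsCyclic (P : Subgroup G) := isCyclic_of_prime_card hPcard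
  obtain ⟨g, hg⟩ := hcyc.exists_generator
  have hgord : orderOf g = p := by
    rw [orderOf_eq_card_of_forall_mem_zpowers hg, hPcard]
  set x : G := (g : G) with hx
  have hxord : orderOf x = p := by
    rw [hx, Subgroup.orderOf_coe, hgord]
  -- an involution in the normalizer
  have h2dvd : 2 ∣ Nat.card (Subgroup.normalizer ((P : Subgroup G) : Set G)) :=
    even_iff_two_dvd.1 heven
  obtain ⟨t', ht'⟩ := exists_prime_orderOf_dvd_card' 2 h2dvd
  set t : G := (t' : G) with ht
  have htord : orderOf t = 2 := by
    rw [ht, Subgroup.orderOf_coe, ht']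
  have hnorm : t * x * t⁻¹ ∈ Subgroup.zpowers x := by
    have h1 : t * x * t⁻¹ ∈ (P : Subgroup G) := by
      have h2 := (Subgroup.mem_normalizer_iff.1 t'.2 x).1 g.2
      exact h2
    obtain ⟨k, hk⟩ := Subgroup.mem_zpowers_iff.1 (hg ⟨t * x * t⁻¹, h1⟩)
    rw [Subgroup.mem_zpowers_iff]
    refine ⟨k, ?_⟩
    have h3 := congrArg (Subtype.val) hk
    rw [Subgroup.coe_zpow] at h3
    exact h3
  -- `H` fixes a point
  have hfix : ∃ a : α, ∀ h ∈ H, (h : G) • a = a := by
    by_cases hp3 : p ≤ 3
    · obtain ⟨e, he⟩ := affine_small hα hp3 G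
      exact affine_fixed_point e G he H hpH
    · have hp5 : 5 ≤ p := by
        have h4 : p ≠ 4 := by
          intro h4
          rw [h4] at hp
          exact absurd hp (by decide)
        omega
      rcases affine_or_two_trans hα hp5 G with haff | h2t
      · obtain ⟨e, he⟩ := haff
        exact affine_fixed_point e G he H hpH
      · exact design_fixed_point hα (by omega) G h2t H hH hpH x t hxord htord hnorm
  obtain ⟨a, ha⟩ := hfix
  refine ⟨a, ?_⟩
  have hle : H ≤ MulAction.stabilizer G a := by
    intro h hh
    rw [MulAction.mem_stabilizer_iff]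
    exact ha h hh
  have hidx : (MulAction.stabilizer G a).index = p := by
    rw [MulAction.index_stabilizer_of_transitive, Nat.card_eq_fintype_card, hα]
  have h1 := Subgroup.relIndex_mul_index hle
  rw [hidx, hH] at h1
  have h2 : H.relIndex (MulAction.stabilizer G a) = 1 := by
    have := hp.pos
    exact Nat.eq_of_mul_eq_mul_right this (by rw [h1, one_mul])
  exact le_antisymm hle (Subgroup.relIndex_eq_one.1 h2)

end Cfsg.Agent.S0677
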