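import Mathlib
import Cfsg.Statements.S0681

set_option autoImplicit false
open Cfsg

namespace Cfsg.Agent.S0681

variable {F : Type*} [Cfsg.NearField F]

theorem nf_zero_mul (a : F) : (0 : F) * a = 0 := by
  have h := NearField.right_distrib (0 : F) 0 a
  rw [add_zero] at h
  exact left_eq_add.1 h

theorem nf_neg_mul (x a : F) : (-x) * a = -(x * a) := by
  have h := NearField.right_distrib (-x) x a
  rw [neg_add_cancel, nf_zero_mul] at h
  exact eq_neg_of_add_eq_zero_left h.symm

theorem nf_sub_mul (x y a : F) : (x - y) * a = x * a - y * a := by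
  rw [sub_eq_add_neg, NearField.right_distrib, nf_neg_mul, ← sub_eq_add_neg]

theorem nf_mul_ne_zero {a c : F} (ha : a ≠ 0) (hc : c ≠ 0) : a * c ≠ 0 := by
  intro h
  obtain ⟨c', hc1, _⟩ := NearField.exists_inv c hc
  apply ha
  calc a = a * (c * c') := by rw [hc1, mul_one]
    _ = (a * c) * c' := by rw [mul_assoc]
    _ = 0 := by rw [h, nf_zero_mul]

/-- the affine subgroup -/
def affSub (F : Type*) [Cfsg.NearField F] : Subgroup (Equiv.Perm F) where
  carrier := {σ | ∃ a b : F, a ≠ 0 ∧ ∀ x : F, σ x = x * a + b}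
  one_mem' := ⟨1, 0, fun h => NearField.zero_ne_one h.symm, fun x => by simp⟩
  mul_mem' := by
    rintro σ τ ⟨a, b, ha, hσ⟩ ⟨c, d, hc, hτ⟩
    refine ⟨c * a, d * a + b, nf_mul_ne_zero hc ha, fun x => ?_⟩
    simp only [Equiv.Perm.coe_mul, Function.comp_apply, hτ, hσ, NearField.right_distrib,
      mul_assoc, add_assoc]
  inv_mem' := by
    rintro σ ⟨a, b, ha, hσ⟩
    obtain ⟨a', h1, h2⟩ := NearField.exists_inv a ha
    have ha' : a' ≠ 0 := by
      intro h0
      rw [h0, NearField.mul_zero] at h1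
      exact NearField.zero_ne_one h1
    refine ⟨a', (-b) * a', ha', fun x => ?_⟩
    apply σ.injective
    rw [Equiv.Perm.inv_def, Equiv.apply_symm_apply, hσ, NearField.right_distrib, mul_assoc,
      mul_assoc, h2, mul_one, mul_one, add_assoc, neg_add_cancel, add_zero]

theorem mem_affSub (σ : Equiv.Perm F) :
    σ ∈ affSub F ↔ ∃ a b : F, a ≠ 0 ∧ ∀ x : F, σ x = x * a + b := Iff.rfl

/-- The affine maps `x ↦ x * a + b`, `a ≠ 0`, of a near-field form a sharply doubly transitive permutation group. -/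
theorem result {F : Type*} [Cfsg.NearField F] : ∃ H : Subgroup (Equiv.Perm F), (∀ σ : Equiv.Perm F, σ ∈ H ↔ ∃ a b : F, a ≠ 0 ∧ ∀ x : F, σ x = x * a + b) ∧ MulAction.IsMultiplyPretransitive H F 2 ∧ ∀ x : Fin 2 ↪ F, MulAction.stabilizer H x = ⊥ := by
  refine ⟨affSub F, mem_affSub, ?_, ?_⟩
  · rw [MulAction.is_two_pretransitive_iff]
    intro x1 x2 y1 y2 hx hy
    have hu : x1 - x2 ≠ 0 := sub_ne_zero.2 hx
    have hv : y1 - y2 ≠ 0 := sub_ne_zero.2 hy
    obtain ⟨u', hu1, hu2⟩ := NearField.exists_inv (x1 - x2) hu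
    have hu' : u' ≠ 0 := by
      intro h0
      rw [h0, NearField.mul_zero] at hu1
      exact NearField.zero_ne_one hu1
    -- inverse of the map
    obtain ⟨a', ha1, ha2⟩ := NearField.exists_inv (u' * (y1 - y2)) (nf_mul_ne_zero hu' hv)
    let a : F := u' * (y1 - y2)
    let b : F := -(x2 * a) + y2
    have hfun : ∀ x : F, ((x + -b) * a') * a + b = x := by
      intro x
      rw [mul_assoc, ha2, mul_one, add_assoc, neg_add_cancel, add_zero]
    have hfun' : ∀ x : F, ((x * a + b) + -b) * a' = x := by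
      intro x
      rw [add_assoc, add_neg_cancel, add_zero, mul_assoc, ha1, mul_one]
    let σ : Equiv.Perm F :=
      { toFun := fun x => x * a + b
        invFun := fun y => (y + -b) * a'
        left_inv := hfun'
        right_inv := hfun }
    have hσ : σ ∈ affSub F := ⟨a, b, nf_mul_ne_zero hu' hv, fun x => rfl⟩
    refine ⟨⟨σ, hσ⟩, ?_, ?_⟩
    · show x1 * a + b = y1
      have : x1 * a + b = (x1 - x2) * a + y2 := by
        rw [nf_sub_mul]
        simp only [b, sub_eq_add_neg, add_assoc]
      rw [this]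
      show (x1 - x2) * (u' * (y1 - y2)) + y2 = y1
      rw [← mul_assoc, hu1, one_mul, sub_add_cancel]
    · show x2 * a + b = y2
      simp only [b]
      rw [← add_assoc, add_neg_cancel, zero_add]
  · intro x
    rw [Subgroup.eq_bot_iff_forall]
    intro g hg
    rw [MulAction.mem_stabilizer_iff] at hg
    obtain ⟨a, b, ha, hgab⟩ := g.2
    have h0 : (g : Equiv.Perm F) (x 0) = x 0 := by
      have := congrArg (fun e : Fin 2 ↪ F => e 0) hg
      exact this
    have h1 : (g : Equiv.Perm F) (x 1) = x 1 := by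
      have := congrArg (fun e : Fin 2 ↪ F => e 1) hg
      exact this
    rw [hgab] at h0 h1
    have hne : x 0 - x 1 ≠ 0 := sub_ne_zero.2 (x.injective.ne (by decide))
    have hua : (x 0 - x 1) * a = x 0 - x 1 := by
      rw [nf_sub_mul]
      nth_rewrite 2 [← h0]
      nth_rewrite 2 [← h1]
      simp only [sub_eq_add_neg, neg_add_rev, add_assoc]
      rw [add_neg_cancel_left]
    obtain ⟨u', hu1, hu2⟩ := NearField.exists_inv (x 0 - x 1) hne
    have ha1 : a = 1 := by
      calc a = (u' * (x 0 - x 1)) * a := by rw [hu2, one_mul]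
        _ = u' * ((x 0 - x 1) * a) := by rw [mul_assoc]
        _ = 1 := by rw [hua, hu2]
    have hb0 : b = 0 := by
      rw [ha1, mul_one] at h0
      exact left_eq_add.1 h0.symm |> fun h => h
    apply Subtype.ext
    ext y
    rw [hgab, ha1, hb0, mul_one, add_zero]
    rfl

end Cfsg.Agent.S0681
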