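import Mathlib
import Cfsg.Statements.S0682

set_option autoImplicit false
open Cfsg

namespace Cfsg.Agent.S0682

variable {F : Type*} [Cfsg.NearField F]

theorem nf_zero_mul (a : F) : (0 : F) * a = 0 := by
  have h := NearField.right_distrib (0 : F) 0 a
  rw [add_zero] at h
  exact left_eq_add.1 h

/-- right multiplication as an additive hom -/
def mulR (a : F) : F →+ F where
  toFun x := x * a
  map_zero' := nf_zero_mul a
  map_add' x y := NearField.right_distrib x y a

theorem nsmul_mul (n : ℕ) (x a : F) : (n • x) * a = n • (x * a) :=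
  map_nsmul (mulR a) n x

/-- every nonzero y is z * a for nonzero a given nonzero z -/
theorem exists_mul_eq {z y : F} (hz : z ≠ 0) (hy : y ≠ 0) :
    ∃ a a' : F, z * a = y ∧ a' * a = 1 := by
  obtain ⟨z', hz1, hz2⟩ := NearField.exists_inv z hz
  obtain ⟨y', hy1, hy2⟩ := NearField.exists_inv y hy
  refine ⟨z' * y, y' * z, ?_, ?_⟩
  · rw [← mul_assoc, hz1, one_mul]
  · calc y' * z * (z' * y) = y' * ((z * z') * y) := by simp only [mul_assoc]
      _ = 1 := by rw [hz1, one_mul, hy2]

/-- A finite near-field has prime-power order; its additive group is commutative of prime exponent. -/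
theorem result {F : Type*} [Cfsg.NearField F] [Finite F] : ∃ p j : ℕ, p.Prime ∧ 1 ≤ j ∧ Nat.card F = p ^ j ∧ (∀ x y : F, x + y = y + x) ∧ ∀ x : F, p • x = 0 := by
  have hnt : Nontrivial F := ⟨⟨0, 1, NearField.zero_ne_one⟩⟩
  have hcard : 1 < Nat.card F := Finite.one_lt_card
  obtain ⟨p, hp, hpd⟩ := Nat.exists_prime_and_dvd (ne_of_gt hcard)
  have : Fact p.Prime := ⟨hp⟩
  obtain ⟨z, hz⟩ := exists_prime_addOrderOf_dvd_card' (G := F) p hpd
  have hz0 : z ≠ 0 := by
    intro h
    rw [h, addOrderOf_zero] at hz
    exact hp.one_lt.ne hz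
  have hpz : p • z = 0 := by
    rw [← hz]; exact addOrderOf_nsmul_eq_zero z
  have hexp : ∀ x : F, p • x = 0 := by
    intro x
    by_cases hx : x = 0
    · rw [hx, smul_zero]
    · obtain ⟨a, a', rfl, _⟩ := exists_mul_eq hz0 hx
      rw [← nsmul_mul, hpz, nf_zero_mul]
  have hpg : IsPGroup p (Multiplicative F) := by
    intro g
    refine ⟨1, ?_⟩
    rw [pow_one]
    exact congrArg Multiplicative.ofAdd (hexp g.toAdd)
  obtain ⟨j, hj⟩ := (IsPGroup.iff_card (p := p) (G := Multiplicative F)).1 hpg
  have hj' : Nat.card F = p ^ j := by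
    rw [← hj]; rfl
  have hj1 : 1 ≤ j := by
    rcases Nat.eq_zero_or_pos j with h | h
    · rw [h, pow_zero] at hj'
      omega
    · exact h
  -- commutativity
  have hcen : Nontrivial (Subgroup.center (Multiplicative F)) := hpg.center_nontrivial
  obtain ⟨⟨c, hc⟩, hc1⟩ := exists_ne (1 : Subgroup.center (Multiplicative F))
  have hc0 : c.toAdd ≠ 0 := by
    intro h
    apply hc1
    apply Subtype.ext
    exact congrArg Multiplicative.ofAdd h
  have hccomm : ∀ x : F, x + c.toAdd = c.toAdd + x := by
    intro x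
    have := (Subgroup.mem_center_iff.1 hc) (Multiplicative.ofAdd x)
    exact congrArg Multiplicative.toAdd this
  have hcomm : ∀ x y : F, x + y = y + x := by
    intro x y
    by_cases hy : y = 0
    · rw [hy, add_zero, zero_add]
    · obtain ⟨a, a', hya, haa'⟩ := exists_mul_eq hc0 hy
      have hx : x = (x * a') * a := by
        rw [mul_assoc, haa', mul_one]
      calc x + y = (x * a') * a + c.toAdd * a := by rw [← hx, hya]
        _ = (x * a' + c.toAdd) * a := (NearField.right_distrib _ _ _).symm
        _ = (c.toAdd + x * a') * a := by rw [hccomm]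
        _ = c.toAdd * a + (x * a') * a := NearField.right_distrib _ _ _
        _ = y + x := by rw [← hx, hya]
  exact ⟨p, j, hp, hj1, hj', hcomm, hexp⟩

end Cfsg.Agent.S0682
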