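import Cfsg.Statements.S0683
import Cfsg.Agent.S0680
import Mathlib

set_option autoImplicit false
set_option linter.unusedVariables false
set_option linter.unusedSectionVars false
open Cfsg

namespace Cfsg.Agent.S0683

open MulAction Equiv

/-- Data extracted from a sharply 2-transitive group with a regular normal subgroup. -/
structure Data (α : Type*) where
  H : Subgroup (Equiv.Perm α)
  K : Subgroup (Equiv.Perm α)
  o : α
  e : α
  hoe : o ≠ e
  hKH : K ≤ H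
  hnorm : ∀ h ∈ H, ∀ k ∈ K, h * k * h⁻¹ ∈ K
  τ : α → Equiv.Perm α
  τ_mem : ∀ x, τ x ∈ K
  τ_o : ∀ x, τ x o = x
  τ_uniq : ∀ k ∈ K, k = τ (k o)
  μ : α → Equiv.Perm α
  μ_mem : ∀ a, a ≠ o → μ a ∈ H
  μ_o : ∀ a, a ≠ o → μ a o = o
  μ_e : ∀ a, a ≠ o → μ a e = a
  μ_uniq : ∀ h ∈ H, h o = o → h = μ (h e)

namespace Data

variable {α : Type*} [DecidableEq α] (D : Data α)

def add (x y : α) : α := D.τ y x
def neg (x : α) : α := (D.τ x)⁻¹ D.o
def mul (x a : α) : α := if a = D.o then D.o else D.μ a x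

theorem τ_mul (y z : α) : D.τ (D.τ z y) = D.τ z * D.τ y := by
  have := D.τ_uniq (D.τ z * D.τ y) (D.K.mul_mem (D.τ_mem z) (D.τ_mem y))
  rw [Perm.mul_apply, D.τ_o] at this
  exact this.symm

theorem τ_zero : D.τ D.o = 1 := by
  have := D.τ_uniq 1 D.K.one_mem
  rw [Perm.one_apply] at this
  exact this.symm

theorem μ_ne (b : α) (hb : b ≠ D.o) (a : α) (ha : a ≠ D.o) : D.μ b a ≠ D.o :=
  fun h => ha ((D.μ b).injective (h.trans (D.μ_o b hb).symm))

theorem μ_mul (a b : α) (ha : a ≠ D.o) (hb : b ≠ D.o) : D.μ (D.μ b a) = D.μ b * D.μ a := by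
  have := D.μ_uniq (D.μ b * D.μ a) (D.H.mul_mem (D.μ_mem b hb) (D.μ_mem a ha))
    (by rw [Perm.mul_apply, D.μ_o a ha, D.μ_o b hb])
  rw [Perm.mul_apply, D.μ_e a ha] at this
  exact this.symm

theorem μ_one : D.μ D.e = 1 := by
  have := D.μ_uniq 1 D.H.one_mem (Perm.one_apply _)
  rw [Perm.one_apply] at this
  exact this.symm

theorem μ_inv_o (c : α) (hc : c ≠ D.o) : (D.μ c)⁻¹ D.o = D.o := by
  rw [Perm.inv_eq_iff_eq, D.μ_o c hc]

theorem conj_τ (c : α) (hc : c ≠ D.o) (y : α) :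
    D.μ c * D.τ y * (D.μ c)⁻¹ = D.τ (D.μ c y) := by
  have := D.τ_uniq _ (D.hnorm (D.μ c) (D.μ_mem c hc) (D.τ y) (D.τ_mem y))
  rw [Perm.mul_apply, Perm.mul_apply, D.μ_inv_o c hc, D.τ_o] at this
  exact this

theorem add_assoc' (x y z : α) : D.add (D.add x y) z = D.add x (D.add y z) := by
  unfold add
  rw [D.τ_mul, Perm.mul_apply]

theorem zero_add' (x : α) : D.add D.o x = x := D.τ_o x

theorem neg_add' (x : α) : D.add (D.neg x) x = D.o := by
  unfold add neg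
  simp

theorem mul_zero' (a : α) : D.mul a D.o = D.o := by
  unfold mul
  rw [if_pos rfl]

theorem mul_of_ne (x a : α) (ha : a ≠ D.o) : D.mul x a = D.μ a x := by
  unfold mul
  rw [if_neg ha]

theorem one_mul' (a : α) : D.mul D.e a = a := by
  by_cases ha : a = D.o
  · rw [ha, D.mul_zero']
  · rw [D.mul_of_ne _ _ ha, D.μ_e a ha]

theorem mul_one' (x : α) : D.mul x D.e = x := by
  rw [D.mul_of_ne _ _ (Ne.symm D.hoe), D.μ_one, Perm.one_apply]

theorem zero_mul' (b : α) : D.mul D.o b = D.o := by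
  by_cases hb : b = D.o
  · rw [hb, D.mul_zero']
  · rw [D.mul_of_ne _ _ hb, D.μ_o b hb]

theorem mul_assoc' (x a b : α) : D.mul (D.mul x a) b = D.mul x (D.mul a b) := by
  by_cases hb : b = D.o
  · rw [hb, D.mul_zero', D.mul_zero', D.mul_zero']
  · by_cases ha : a = D.o
    · rw [ha, D.mul_zero', D.zero_mul', D.mul_zero']
    · rw [D.mul_of_ne x a ha, D.mul_of_ne _ b hb, D.mul_of_ne a b hb,
        D.mul_of_ne _ _ (D.μ_ne b hb a ha), D.μ_mul a b ha hb, Perm.mul_apply]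

theorem right_distrib' (x y c : α) :
    D.mul (D.add x y) c = D.add (D.mul x c) (D.mul y c) := by
  by_cases hc : c = D.o
  · rw [hc, D.mul_zero', D.mul_zero', D.mul_zero', D.zero_add']
  · rw [D.mul_of_ne _ c hc, D.mul_of_ne _ c hc, D.mul_of_ne _ c hc]
    unfold add
    rw [← D.conj_τ c hc y]
    simp

theorem exists_inv' (a : α) (ha : a ≠ D.o) : ∃ b, D.mul a b = D.e ∧ D.mul b a = D.e := by
  have hb : (D.μ a)⁻¹ D.e ≠ D.o := by
    intro h
    rw [Perm.inv_eq_iff_eq, D.μ_o a ha] at h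
    exact D.hoe h.symm
  have hμ : D.μ ((D.μ a)⁻¹ D.e) = (D.μ a)⁻¹ := by
    have := D.μ_uniq (D.μ a)⁻¹ (D.H.inv_mem (D.μ_mem a ha)) (D.μ_inv_o a ha)
    exact this.symm
  refine ⟨(D.μ a)⁻¹ D.e, ?_, ?_⟩
  · rw [D.mul_of_ne _ _ hb, hμ, Perm.inv_eq_iff_eq, D.μ_e a ha]
  · rw [D.mul_of_ne _ _ ha]
    simp

theorem mem_iff (σ : Equiv.Perm α) :
    σ ∈ D.H ↔ ∃ a b : α, a ≠ D.o ∧ ∀ x : α, σ x = D.add (D.mul x a) b := by
  constructor
  · intro hσ
    set b := σ D.o with hb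
    set h := (D.τ b)⁻¹ * σ with hh
    have hhH : h ∈ D.H := D.H.mul_mem (D.H.inv_mem (D.hKH (D.τ_mem b))) hσ
    have hho : h D.o = D.o := by
      rw [hh, Perm.mul_apply, Perm.inv_eq_iff_eq, D.τ_o]
    have hhe : h D.e ≠ D.o := by
      intro hcon
      rw [← hho] at hcon
      exact D.hoe (h.injective hcon).symm
    have hμ := D.μ_uniq h hhH hho
    refine ⟨h D.e, b, hhe, fun x => ?_⟩
    rw [D.mul_of_ne _ _ hhe, ← hμ]
    unfold add
    rw [hh]
    simp
  · rintro ⟨a, b, ha, hσ⟩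
    have : σ = D.τ b * D.μ a := by
      ext x
      rw [hσ x, D.mul_of_ne _ _ ha]
      rfl
    rw [this]
    exact D.H.mul_mem (D.hKH (D.τ_mem b)) (D.μ_mem a ha)

/-- The additive group structure. -/
@[reducible] def addGroup : AddGroup α :=
  letI : Add α := ⟨D.add⟩
  letI : Neg α := ⟨D.neg⟩
  letI : Zero α := ⟨D.o⟩
  AddGroup.ofLeftAxioms D.add_assoc' D.zero_add' D.neg_add'

/-- The multiplicative monoid structure. -/
@[reducible] def monoid : Monoid α where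
  mul := D.mul
  one := D.e
  mul_assoc := D.mul_assoc'
  one_mul := D.one_mul'
  mul_one := D.mul_one'

/-- The near-field structure. -/
@[reducible] def nearField : Cfsg.NearField α :=
  { D.addGroup, D.monoid with
    right_distrib := D.right_distrib'
    mul_zero := D.mul_zero'
    zero_ne_one := D.hoe
    exists_inv := D.exists_inv' }

theorem nearField_mem_iff (σ : Equiv.Perm α) :
    σ ∈ D.H ↔ ∃ a b : α, a ≠ (D.nearField.toAddGroup.toZero.zero) ∧
      ∀ x : α, σ x = D.nearField.toAddGroup.toAdd.add (D.nearField.toMonoid.toMul.mul x a) b :=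
  D.mem_iff σ

end Data

/-- Build the data from Perm-level facts. -/
theorem exists_data {α : Type*} (H K : Subgroup (Equiv.Perm α)) (o e : α) (hoe : o ≠ e)
    (hKH : K ≤ H) (hnorm : ∀ h ∈ H, ∀ k ∈ K, h * k * h⁻¹ ∈ K)
    (KT : ∀ x y : α, ∃ k ∈ K, k x = y) (KF : ∀ k ∈ K, ∀ a : α, k a = a → k = 1)
    (T2 : ∀ a b c d : α, a ≠ b → c ≠ d → ∃ g ∈ H, g a = c ∧ g b = d)
    (S2 : ∀ g ∈ H, ∀ a b : α, a ≠ b → g a = a → g b = b → g = 1) :
    ∃ D : Data α, D.H = H ∧ D.o = o := by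
  classical
  choose τ hτK hτo using fun x => KT o x
  have hμex : ∀ a : α, ∃ h : Equiv.Perm α, a ≠ o → h ∈ H ∧ h o = o ∧ h e = a := by
    intro a
    by_cases ha : a = o
    · exact ⟨1, fun h => absurd ha h⟩
    · obtain ⟨g, hg, h1, h2⟩ := T2 o e o a hoe (Ne.symm ha)
      exact ⟨g, fun _ => ⟨hg, h1, h2⟩⟩
  choose μ hμ using hμex
  refine ⟨{ H := H, K := K, o := o, e := e, hoe := hoe, hKH := hKH, hnorm := hnorm,
            τ := τ, τ_mem := hτK, τ_o := hτo, τ_uniq := ?_,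
            μ := μ, μ_mem := fun a ha => (hμ a ha).1, μ_o := fun a ha => (hμ a ha).2.1,
            μ_e := fun a ha => (hμ a ha).2.2, μ_uniq := ?_ }, rfl, rfl⟩
  · intro k hk
    have h1 : ((τ (k o))⁻¹ * k) o = o := by
      rw [Perm.mul_apply, Perm.inv_eq_iff_eq, hτo]
    have h2 := KF _ (K.mul_mem (K.inv_mem (hτK (k o))) hk) o h1
    have := congrArg (τ (k o) * ·) h2
    simpa using this
  · intro h hh hho
    have hhe : h e ≠ o := by
      intro hcon
      rw [← hho] at hcon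
      exact hoe (h.injective hcon).symm
    obtain ⟨m1, m2, m3⟩ := hμ (h e) hhe
    have h1 : ((μ (h e))⁻¹ * h) o = o := by
      rw [Perm.mul_apply, Perm.inv_eq_iff_eq, hho, m2]
    have h2 : ((μ (h e))⁻¹ * h) e = e := by
      rw [Perm.mul_apply, Perm.inv_eq_iff_eq, m3]
    have h3 := S2 _ (H.mul_mem (H.inv_mem m1) hh) o e hoe h1 h2
    have := congrArg (μ (h e) * ·) h3
    simpa using this

theorem result {α : Type*} [Fintype α] [DecidableEq α] (H : Subgroup (Equiv.Perm α)) [MulAction.IsMultiplyPretransitive H α 2] (hsharp : ∀ x : Fin 2 ↪ α, MulAction.stabilizer H x = ⊥) (h2 : 2 ≤ Fintype.card α) : ∃ _ : Cfsg.NearField α, ∀ σ : Equiv.Perm α, σ ∈ H ↔ ∃ a b : α, a ≠ 0 ∧ ∀ x : α, σ x = x * a + b := by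
  have htr : MulAction.IsMultiplyPretransitive H α 2 := inferInstance
  obtain ⟨p, j, hpp, hj, hcard, hmain⟩ := Cfsg.Agent.S0680.main (G := H) (Ω := α) htr hsharp h2
  have hpF : Fact p.Prime := ⟨hpp⟩
  obtain ⟨P⟩ : Nonempty (Sylow p H) := inferInstance
  obtain ⟨hN, _, _, hT, hF, _⟩ := hmain hpF P
  obtain ⟨o, e, hoe⟩ : ∃ o e : α, o ≠ e := by
    have : 1 < Fintype.card α := by omega
    exact Fintype.exists_pair_of_one_lt_card this
  have T2 : ∀ a b c d : α, a ≠ b → c ≠ d → ∃ g ∈ H, g a = c ∧ g b = d := by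
    intro a b c d hab hcd
    obtain ⟨g, h1, h2⟩ := Cfsg.Agent.S0680.exists_map2 htr hab hcd
    exact ⟨(g : Equiv.Perm α), g.2, h1, h2⟩
  have S2 : ∀ g ∈ H, ∀ a b : α, a ≠ b → g a = a → g b = b → g = 1 := by
    intro g hg a b hab ha hb
    have := Cfsg.Agent.S0680.eq_one_of_fix2 hsharp hab (⟨g, hg⟩ : H) ha hb
    exact congrArg Subtype.val this
  set K : Subgroup (Equiv.Perm α) := (P : Subgroup H).map H.subtype with hK
  have hKH : K ≤ H := Subgroup.map_subtype_le _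
  have hnorm : ∀ h ∈ H, ∀ k ∈ K, h * k * h⁻¹ ∈ K := by
    intro h hh k hk
    obtain ⟨k', hk', rfl⟩ := Subgroup.mem_map.mp hk
    refine Subgroup.mem_map.mpr ⟨⟨h, hh⟩ * k' * ⟨h, hh⟩⁻¹, hN.conj_mem k' hk' ⟨h, hh⟩, rfl⟩
  have KT : ∀ x y : α, ∃ k ∈ K, k x = y := by
    intro x y
    obtain ⟨k, hk⟩ := hT.exists_smul_eq x y
    exact ⟨((k : H) : Equiv.Perm α), Subgroup.mem_map.mpr ⟨(k : H), k.2, rfl⟩, hk⟩
  have KF : ∀ k ∈ K, ∀ a : α, k a = a → k = 1 := by
    intro k hk a ha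
    obtain ⟨k', hk', rfl⟩ := Subgroup.mem_map.mp hk
    have : (⟨k', hk'⟩ : (P : Subgroup H)) ∈ MulAction.stabilizer (P : Subgroup H) a := by
      rw [MulAction.mem_stabilizer_iff]
      exact ha
    rw [hF a, Subgroup.mem_bot] at this
    have h1 : k' = 1 := congrArg Subtype.val this
    rw [h1]
    rfl
  obtain ⟨D, hDH, hDo⟩ := exists_data H K o e hoe hKH hnorm KT KF T2 S2
  refine ⟨D.nearField, fun σ => ?_⟩
  rw [← hDH]
  exact D.nearField_mem_iff σ

end Cfsg.Agent.S0683
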