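import Cfsg.Statements.S0690
import Cfsg.Agent.Lib.Helper12.ZTop

set_option autoImplicit false
open Cfsg
open Cfsg.Agent.Lib.Helper12

namespace Cfsg.Agent.S0690

/-- Zassenhaus: a perfect non-trivial group of fixed-point-free automorphisms of a finite group is isomorphic to `SL(2,5)`. -/
theorem result {K : Type*} [Group K] [Finite K] (G : Subgroup (MulAut K)) (hfpf : ∀ φ ∈ G, φ ≠ 1 → ∀ k : K, φ k = k → k = 1) (hperf : commutator G = ⊤) (hne : G ≠ ⊥) : Nonempty (G ≃* Matrix.SpecialLinearGroup (Fin 2) (ZMod 5)) := by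
  classical
  have hfinA : Finite (MulAut K) := Finite.of_injective (fun f : MulAut K => (f : K → K))
    (fun f g hfg => by ext x; exact congrFun hfg x)
  have hntG : Nontrivial G := (Subgroup.nontrivial_iff_ne_bot G).mpr hne
  have hntK : Nontrivial K := by
    by_contra hK
    rw [not_nontrivial_iff_subsingleton] at hK
    apply hne
    rw [eq_bot_iff]
    intro φ _
    rw [Subgroup.mem_bot]
    ext k
    exact Subsingleton.elim _ _
  have hφ : ∀ g : G, g ≠ 1 → ∀ n : K, G.subtype g n = n → n = 1 := by
    intro g hg n hn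
    refine hfpf g.1 g.2 ?_ n hn
    intro e
    exact hg (Subtype.ext e)
  have heven : 2 ∣ Nat.card G :=
    ZT.even_card (fun p _ P => ZF.sylow_cases G.subtype hφ p P) hperf
  have hcomm := (ZF.involution G.subtype hφ heven).2
  let iC : CommGroup K := { (inferInstance : Group K) with mul_comm := hcomm }
  have hF : ZF.IsFpf G := ⟨K, iC, inferInstance, G.subtype, hntK, hφ⟩
  exact ZT.zassenhaus hF hperf

end Cfsg.Agent.S0690
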