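import Mathlib
import Cfsg.Agent.Lib.Helper12.Mat2
import Cfsg.Statements.S0691

set_option autoImplicit false
open Cfsg

namespace Cfsg.Agent.S0691

open Cfsg.Agent.Lib.Helper12 Cfsg.Agent.Lib.Helper12.M2

def gens : List M2 := [⟨2, 0, 0, 3⟩, ⟨0, 4, 1, 0⟩, ⟨1, 2, 1, 3⟩]

def L : List M2 := [⟨1, 0, 0, 1⟩, ⟨2, 0, 0, 3⟩, ⟨0, 4, 1, 0⟩, ⟨1, 2, 1, 3⟩, ⟨4, 0, 0, 4⟩, ⟨0, 2, 2, 0⟩, ⟨2, 1, 2, 4⟩, ⟨0, 3, 3, 0⟩, ⟨2, 4, 3, 4⟩, ⟨4, 2, 1, 2⟩, ⟨3, 3, 4, 1⟩, ⟨3, 0, 0, 2⟩, ⟨0, 1, 4, 0⟩, ⟨4, 3, 4, 2⟩, ⟨3, 1, 2, 1⟩, ⟨1, 4, 3, 3⟩, ⟨1, 3, 4, 3⟩, ⟨3, 2, 1, 1⟩, ⟨3, 4, 3, 1⟩, ⟨1, 1, 2, 3⟩, ⟨2, 2, 1, 4⟩, ⟨2, 3, 4, 4⟩, ⟨4, 4, 3, 2⟩, ⟨4, 1, 2, 2⟩]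

theorem hone : M2.one ∈ L := by decide
theorem hcl : ∀ g ∈ gens, ∀ m ∈ L, M2.mul 5 g m ∈ L := by decide
theorem hchk : M2.chk 5 gens [] L = true := by decide
theorem hwf : ∀ m ∈ L, M2.wf 5 m = true := by decide
theorem hnd : (L.map M2.col1).Nodup := by decide

instance fact5 : Fact (Nat.Prime 5) := ⟨by norm_num⟩

/-- An exceptional sharply doubly transitive group of degree 5^2: the listed matrices generate a subgroup of GL(2,5) of order 24 acting regularly on the non-zero vectors. -/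
theorem result (A : Matrix.GeneralLinearGroup (Fin 2) (ZMod 5)) (B : Matrix.GeneralLinearGroup (Fin 2) (ZMod 5)) (C : Matrix.GeneralLinearGroup (Fin 2) (ZMod 5)) (hA : (A : Matrix (Fin 2) (Fin 2) (ZMod 5)) = !![2, 0; 0, -2]) (hB : (B : Matrix (Fin 2) (Fin 2) (ZMod 5)) = !![0, -1; 1, 0]) (hC : (C : Matrix (Fin 2) (Fin 2) (ZMod 5)) = !![1, 2; 1, -2]) : Nat.card (Subgroup.closure ({A, B, C} : Set (Matrix.GeneralLinearGroup (Fin 2) (ZMod 5)))) = 24 ∧ ∀ v w : Fin 2 → ZMod 5, v ≠ 0 → w ≠ 0 → ∃! h : Subgroup.closure ({A, B, C} : Set (Matrix.GeneralLinearGroup (Fin 2) (ZMod 5))), Matrix.mulVec ((h : Matrix.GeneralLinearGroup (Fin 2) (ZMod 5)) : Matrix (Fin 2) (Fin 2) (ZMod 5)) v = w := by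
  have hA' : (A : Matrix (Fin 2) (Fin 2) (ZMod 5)) = M2.toMat 5 ⟨2, 0, 0, 3⟩ := by
    rw [hA]; ext i j; fin_cases i <;> fin_cases j <;> simp [M2.toMat] <;> decide
  have hB' : (B : Matrix (Fin 2) (Fin 2) (ZMod 5)) = M2.toMat 5 ⟨0, 4, 1, 0⟩ := by
    rw [hB]; ext i j; fin_cases i <;> fin_cases j <;> simp [M2.toMat] <;> decide
  have hC' : (C : Matrix (Fin 2) (Fin 2) (ZMod 5)) = M2.toMat 5 ⟨1, 2, 1, 3⟩ := by
    rw [hC]; ext i j; fin_cases i <;> fin_cases j <;> simp [M2.toMat] <;> decide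
  have hS1 : ∀ x ∈ ({A, B, C} : Set (Matrix.GeneralLinearGroup (Fin 2) (ZMod 5))), ∃ g ∈ gens,
      (x : Matrix (Fin 2) (Fin 2) (ZMod 5)) = M2.toMat 5 g := by
    intro x hx
    simp only [Set.mem_insert_iff, Set.mem_singleton_iff] at hx
    rcases hx with rfl | rfl | rfl
    · exact ⟨_, by simp [gens], hA'⟩
    · exact ⟨_, by simp [gens], hB'⟩
    · exact ⟨_, by simp [gens], hC'⟩
  have hS2 : ∀ g ∈ gens, ∃ x ∈ ({A, B, C} : Set (Matrix.GeneralLinearGroup (Fin 2) (ZMod 5))),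
      (x : Matrix (Fin 2) (Fin 2) (ZMod 5)) = M2.toMat 5 g := by
    intro g hg
    simp only [gens, List.mem_cons, List.not_mem_nil, or_false] at hg
    rcases hg with rfl | rfl | rfl
    · exact ⟨A, by simp, hA'⟩
    · exact ⟨B, by simp, hB'⟩
    · exact ⟨C, by simp, hC'⟩
  obtain ⟨hcard, hinj⟩ := card_closure 5 _ gens L hS1 hS2 hone hcl hchk hwf hnd
  have hlen : L.length = 24 := by decide
  rw [hlen] at hcard
  exact ⟨hcard, regular_of_card 5 _ (by rw [hcard]; norm_num) hinj⟩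

end Cfsg.Agent.S0691
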