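import Mathlib
import Cfsg.Agent.Lib.Helper12.Mat2
import Cfsg.Agent.Lib.Helper12.Mat2Reg
import Cfsg.Statements.S0693

set_option autoImplicit false
open Cfsg

namespace Cfsg.Agent.S0693

open Cfsg.Agent.Lib.Helper12 Cfsg.Agent.Lib.Helper12.M2

def gens0 : List M2 := [⟨0, 58, 1, 0⟩, ⟨9, 15, 49, 49⟩]

def L0 : List M2 := [⟨1, 0, 0, 1⟩, ⟨0, 58, 1, 0⟩, ⟨9, 15, 49, 49⟩, ⟨58, 0, 0, 58⟩, ⟨15, 50, 49, 10⟩, ⟨10, 10, 9, 15⟩, ⟨49, 44, 10, 9⟩, ⟨0, 1, 58, 0⟩, ⟨50, 44, 10, 10⟩, ⟨10, 49, 15, 50⟩, ⟨44, 10, 9, 49⟩, ⟨48, 20, 46, 45⟩, ⟨49, 50, 49, 44⟩, ⟨44, 9, 10, 49⟩, ⟨49, 49, 50, 44⟩, ⟨10, 15, 49, 50⟩, ⟨20, 11, 45, 13⟩, ⟨50, 10, 44, 10⟩, ⟨13, 14, 48, 20⟩, ⟨1, 29, 4, 58⟩, ⟨55, 48, 23, 4⟩, ⟨49, 10, 44, 9⟩, ⟨15, 49, 50, 10⟩, ⟨11, 39, 13, 14⟩, ⟨10, 9, 10, 15⟩, ⟨14, 46, 20, 11⟩, ⟨29, 58, 58, 55⟩, ⟨48, 4, 4, 36⟩, ⟨11, 13, 39, 14⟩, ⟨55, 1, 1, 29⟩, ⟨36, 55, 55, 48⟩, ⟨14, 20, 46, 11⟩,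 ⟨39, 48, 14, 46⟩, ⟨9, 49, 15, 49⟩, ⟨46, 45, 11, 39⟩, ⟨58, 30, 55, 1⟩, ⟨4, 11, 36, 55⟩, ⟨13, 48, 14, 20⟩, ⟨1, 4, 29, 58⟩, ⟨55, 23, 48, 4⟩, ⟨20, 45, 11, 13⟩, ⟨35, 32, 31, 25⟩, ⟨38, 31, 30, 54⟩, ⟨28, 35, 34, 32⟩, ⟨45, 13, 39, 48⟩, ⟨30, 1, 1, 4⟩, ⟨11, 55, 55, 23⟩, ⟨48, 46, 20, 45⟩, ⟨4, 58, 58, 30⟩, ⟨23, 4, 4, 11⟩, ⟨45, 39, 13, 48⟩, ⟨32, 24, 25, 28⟩, ⟨31, 21, 54, 29⟩, ⟨35, 31, 32, 25⟩, ⟨28, 34, 35, 32⟩, ⟨29, 5, 38, 31⟩, ⟨25, 27, 28, 35⟩, ⟨54, 28, 29, 38⟩, ⟨46, 11, 45, 39⟩, ⟨58, 55, 30, 1⟩, ⟨4, 36, 11, 55⟩, ⟨39, 14, 48, 46⟩, ⟨24, 27, 28, 34⟩, ⟨21, 28, 29, 5⟩, ⟨31, 24, 25, 27⟩, ⟨34, 31, 32, 24⟩, ⟨5, 30, 31, 21⟩, ⟨27, 34, 35, 31⟩, ⟨28, 5, 38, 30⟩, ⟨10, 19, 19, 48⟩, ⟨5, 38, 38, 53⟩, ⟨30, 21, 54, 28⟩, ⟨27, 35, 34, 31⟩, ⟨28, 38, 5, 30⟩, ⟨24, 28, 27, 34⟩, ⟨31, 25, 24, 27⟩, ⟨30, 54, 21, 28⟩, ⟨34, 32, 31, 24⟩, ⟨5, 31, 30, 21⟩, ⟨19, 49, 48, 40⟩, ⟨38, 54, 53, 21⟩, ⟨21, 29, 28,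 5⟩, ⟨40, 11, 10, 19⟩, ⟨21, 6, 5, 38⟩, ⟨25, 16, 42, 34⟩, ⟨18, 19, 45, 41⟩, ⟨25, 28, 27, 35⟩, ⟨54, 29, 28, 38⟩, ⟨32, 25, 24, 28⟩, ⟨31, 54, 21, 29⟩, ⟨49, 40, 40, 11⟩, ⟨54, 21, 21, 6⟩, ⟨29, 38, 5, 31⟩, ⟨11, 19, 19, 49⟩, ⟨6, 38, 38, 54⟩, ⟨16, 34, 34, 17⟩, ⟨19, 41, 41, 14⟩, ⟨38, 30, 31, 54⟩, ⟨17, 25, 25, 16⟩, ⟨14, 18, 18, 19⟩, ⟨40, 10, 11, 19⟩, ⟨21, 5, 6, 38⟩, ⟨19, 48, 49, 40⟩, ⟨38, 53, 54, 21⟩, ⟨34, 43, 17, 25⟩, ⟨41, 40, 14, 18⟩, ⟨25, 42, 16, 34⟩, ⟨18, 45, 19, 41⟩, ⟨40, 18, 18, 45⟩, ⟨56, 52, 52, 3⟩, ⟨42, 34, 34, 43⟩, ⟨48, 40, 40, 10⟩, ⟨53, 21, 21, 5⟩, ⟨43, 25, 25, 42⟩, ⟨45, 41, 41, 40⟩, ⟨52, 3, 3, 7⟩, ⟨34, 17, 43, 25⟩, ⟨41, 14, 40, 18⟩, ⟨7, 56, 56, 52⟩, ⟨3, 7, 7, 56⟩]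

def Sc : List ℕ := [1, 4, 16, 5, 20, 21, 25, 41, 46, 7, 28, 53, 35, 22, 29, 57, 51, 27, 49, 19, 17, 9, 36, 26, 45, 3, 12, 48, 15]

theorem hone : M2.one ∈ L0 := by decide
set_option maxRecDepth 100000 in
theorem hcl : ∀ g ∈ gens0, ∀ m ∈ L0, M2.mul 59 g m ∈ L0 := by decide
set_option maxRecDepth 100000 in
theorem hchk : M2.chk 59 gens0 [] L0 = true := by decide
set_option maxRecDepth 100000 in
theorem hwf : ∀ m ∈ L0, M2.wf 59 m = true := by decide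
set_option maxRecDepth 100000 in
theorem hnd : (L0.map M2.col1).Nodup := by decide
theorem hSc1 : 1 ∈ Sc := by decide
theorem hSc4 : ∀ s ∈ Sc, (4 * s) % 59 ∈ Sc := by decide
set_option maxRecDepth 100000 in
theorem hdet : ∀ s ∈ Sc, ∀ m ∈ L0, (s = 1 ∧ m = M2.one) ∨
    ((s * m.a + 58) * (s * m.d + 58) + 58 * (s * m.b) * (s * m.c)) % 59 ≠ 0 := by decide

instance fact59 : Fact (Nat.Prime 59) := ⟨by norm_num⟩

theorem det_model (s : ℕ) (m : M2) :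
    ((s : ZMod 59) • M2.toMat 59 m - 1).det =
      (((s * m.a + 58) * (s * m.d + 58) + 58 * (s * m.b) * (s * m.c) : ℕ) : ZMod 59) := by
  have h58 : (58 : ZMod 59) = -1 := by decide
  rw [Matrix.det_fin_two]
  simp [M2.toMat]
  rw [h58]
  ring

theorem card_subtype_mem_list_le {α : Type*} [DecidableEq α] (l : List α) :
    Nat.card {x // x ∈ l} ≤ l.length := by
  have hequiv : {m // m ∈ l} ≃ {m // m ∈ l.toFinset} :=
    Equiv.subtypeEquivRight (fun x => by simp)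
  rw [Nat.card_congr hequiv, Nat.card_eq_fintype_card, Fintype.card_coe]
  exact List.toFinset_card_le l

/-- An exceptional sharply doubly transitive group of degree 59^2: the listed matrices generate a subgroup of GL(2,59) of order 3480 acting regularly on the non-zero vectors. -/
theorem result (A : Matrix.GeneralLinearGroup (Fin 2) (ZMod 59)) (B : Matrix.GeneralLinearGroup (Fin 2) (ZMod 59)) (C : Matrix.GeneralLinearGroup (Fin 2) (ZMod 59)) (hA : (A : Matrix (Fin 2) (Fin 2) (ZMod 59)) = !![0, -1; 1, 0]) (hB : (B : Matrix (Fin 2) (Fin 2) (ZMod 59)) = !![9, 15; -10, -10]) (hC : (C : Matrix (Fin 2) (Fin 2) (ZMod 59)) = !![4, 0; 0, 4]) : Nat.card (Subgroup.closure ({A, B, C} : Set (Matrix.GeneralLinearGroup (Fin 2) (ZMod 59)))) = 3480 ∧ ∀ v w : Fin 2 → ZMod 59, v ≠ 0 → w ≠ 0 → ∃! h : Subgroup.closure ({A, B, C} : Set (Matrix.GeneralLinearGroup (Fin 2) (ZMod 59))),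 Matrix.mulVec ((h : Matrix.GeneralLinearGroup (Fin 2) (ZMod 59)) : Matrix (Fin 2) (Fin 2) (ZMod 59)) v = w := by
  have hA' : (A : Matrix (Fin 2) (Fin 2) (ZMod 59)) = M2.toMat 59 ⟨0, 58, 1, 0⟩ := by
    rw [hA]; ext i j; fin_cases i <;> fin_cases j <;> simp [M2.toMat] <;> decide
  have hB' : (B : Matrix (Fin 2) (Fin 2) (ZMod 59)) = M2.toMat 59 ⟨9, 15, 49, 49⟩ := by
    rw [hB]; ext i j; fin_cases i <;> fin_cases j <;> simp [M2.toMat] <;> decide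
  have hC' : (C : Matrix (Fin 2) (Fin 2) (ZMod 59)) = (4 : ZMod 59) • (1 : Matrix (Fin 2) (Fin 2) (ZMod 59)) := by
    rw [hC]; ext i j; fin_cases i <;> fin_cases j <;> simp
  have hS1 : ∀ x ∈ ({A, B} : Set (Matrix.GeneralLinearGroup (Fin 2) (ZMod 59))), ∃ g ∈ gens0,
      (x : Matrix (Fin 2) (Fin 2) (ZMod 59)) = M2.toMat 59 g := by
    intro x hx
    simp only [Set.mem_insert_iff, Set.mem_singleton_iff] at hx
    rcases hx with rfl | rfl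
    · exact ⟨_, by simp [gens0], hA'⟩
    · exact ⟨_, by simp [gens0], hB'⟩
  have hS2 : ∀ g ∈ gens0, ∃ x ∈ ({A, B} : Set (Matrix.GeneralLinearGroup (Fin 2) (ZMod 59))),
      (x : Matrix (Fin 2) (Fin 2) (ZMod 59)) = M2.toMat 59 g := by
    intro g hg
    simp only [gens0, List.mem_cons, List.not_mem_nil, or_false] at hg
    rcases hg with rfl | rfl
    · exact ⟨A, by simp, hA'⟩
    · exact ⟨B, by simp, hB'⟩
  obtain ⟨hcard0, -⟩ := card_closure 59 _ gens0 L0 hS1 hS2 hone hcl hchk hwf hnd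
  have hlen : L0.length = 120 := by decide
  have hlenS : Sc.length = 29 := by decide
  -- form of the elements
  have hform : ∀ h ∈ Subgroup.closure ({A, B, C} : Set (Matrix.GeneralLinearGroup (Fin 2) (ZMod 59))),
      ∃ s ∈ Sc, ∃ m ∈ L0, (h : Matrix (Fin 2) (Fin 2) (ZMod 59)) = (s : ZMod 59) • M2.toMat 59 m := by
    intro h hh
    have hh' : h ∈ Submonoid.closure ({A, B, C} : Set (Matrix.GeneralLinearGroup (Fin 2) (ZMod 59))) := by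
      rw [← Subgroup.closure_toSubmonoid_of_finite]
      exact hh
    induction hh' using Submonoid.closure_induction_left with
    | one => exact ⟨1, hSc1, M2.one, hone, by rw [M2.toMat_one]; simp⟩
    | mul_left x hx y hy ih =>
      obtain ⟨s, hs, m, hm, hym⟩ := ih (by
        rw [← Subgroup.mem_toSubmonoid, Subgroup.closure_toSubmonoid_of_finite]; exact hy)
      simp only [Set.mem_insert_iff, Set.mem_singleton_iff] at hx
      rcases hx with rfl | rfl | rfl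
      · refine ⟨s, hs, M2.mul 59 ⟨0, 58, 1, 0⟩ m, hcl ⟨0, 58, 1, 0⟩ (by simp [gens0]) m hm, ?_⟩
        rw [Units.val_mul, hA', hym, M2.toMat_mul, Matrix.mul_smul]
      · refine ⟨s, hs, M2.mul 59 ⟨9, 15, 49, 49⟩ m, hcl ⟨9, 15, 49, 49⟩ (by simp [gens0]) m hm, ?_⟩
        rw [Units.val_mul, hB', hym, M2.toMat_mul, Matrix.mul_smul]
      · refine ⟨(4 * s) % 59, hSc4 s hs, m, hm, ?_⟩
        rw [Units.val_mul, hC', hym]
        simp [ZMod.natCast_mod, smul_smul, mul_comm]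
  -- upper bound
  have hle : Nat.card (Subgroup.closure ({A, B, C} : Set (Matrix.GeneralLinearGroup (Fin 2) (ZMod 59)))) ≤ 29 * 120 := by
    choose fs hfs fm hfm hfeq using
      (fun h : Subgroup.closure ({A, B, C} : Set (Matrix.GeneralLinearGroup (Fin 2) (ZMod 59))) => hform h h.2)
    let f : Subgroup.closure ({A, B, C} : Set (Matrix.GeneralLinearGroup (Fin 2) (ZMod 59))) →
        {s // s ∈ Sc} × {m // m ∈ L0} := fun h => (⟨fs h, hfs h⟩, ⟨fm h, hfm h⟩)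
    have hfinj : Function.Injective f := by
      intro h h' hh
      have h1 : fs h = fs h' := congrArg (fun x => x.1.1) hh
      have h2 : fm h = fm h' := congrArg (fun x => x.2.1) hh
      apply Subtype.ext
      apply Units.ext
      rw [hfeq h, hfeq h', h1, h2]
    have := Nat.card_le_card_of_injective f hfinj
    rw [Nat.card_prod] at this
    calc _ ≤ _ := this
      _ ≤ 29 * 120 := by
        have h1 := card_subtype_mem_list_le Sc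
        have h2 := card_subtype_mem_list_le L0
        rw [hlenS] at h1
        rw [hlen] at h2
        exact Nat.mul_le_mul h1 h2
  -- lower bound
  have h120 : 120 ∣ Nat.card (Subgroup.closure ({A, B, C} : Set (Matrix.GeneralLinearGroup (Fin 2) (ZMod 59)))) := by
    have hle0 : Subgroup.closure ({A, B} : Set (Matrix.GeneralLinearGroup (Fin 2) (ZMod 59))) ≤
        Subgroup.closure ({A, B, C} : Set (Matrix.GeneralLinearGroup (Fin 2) (ZMod 59))) := by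
      apply Subgroup.closure_mono
      intro x hx
      simp only [Set.mem_insert_iff, Set.mem_singleton_iff] at hx ⊢
      rcases hx with rfl | rfl
      · exact Or.inl rfl
      · exact Or.inr (Or.inl rfl)
    have := Subgroup.card_dvd_of_le hle0
    rwa [hcard0, hlen] at this
  have h29 : 29 ∣ Nat.card (Subgroup.closure ({A, B, C} : Set (Matrix.GeneralLinearGroup (Fin 2) (ZMod 59)))) := by
    have hCmem : C ∈ Subgroup.closure ({A, B, C} : Set (Matrix.GeneralLinearGroup (Fin 2) (ZMod 59))) :=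
      Subgroup.subset_closure (by simp)
    have hC29 : C ^ 29 = 1 := by
      apply Units.ext
      rw [Units.val_pow_eq_pow_val, hC', smul_pow, one_pow]
      have : (4 : ZMod 59) ^ 29 = 1 := by
        have h : ((4 ^ 29 : ℕ) : ZMod 59) = ((1 : ℕ) : ZMod 59) := by
          rw [ZMod.natCast_eq_natCast_iff']; norm_num
        simpa only [Nat.cast_pow, Nat.cast_ofNat, Nat.cast_one] using h
      rw [this, one_smul]
      rfl
    have hC1 : C ≠ 1 := by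
      intro h
      have h2 := congrArg (fun g : Matrix.GeneralLinearGroup (Fin 2) (ZMod 59) =>
        (g : Matrix (Fin 2) (Fin 2) (ZMod 59)) 0 0) h
      simp only [hC'] at h2
      simp at h2
      revert h2
      decide
    have : Fact (Nat.Prime 29) := ⟨by norm_num⟩
    have hord : orderOf C = 29 := orderOf_eq_prime hC29 hC1
    have hord' : orderOf (⟨C, hCmem⟩ : Subgroup.closure ({A, B, C} : Set (Matrix.GeneralLinearGroup (Fin 2) (ZMod 59)))) = 29 := by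
      rw [← hord]
      exact Subgroup.orderOf_mk C hCmem
    rw [← hord']
    exact orderOf_dvd_natCard _
  have hcard : Nat.card (Subgroup.closure ({A, B, C} : Set (Matrix.GeneralLinearGroup (Fin 2) (ZMod 59)))) = 3480 := by
    have h3480 : 29 * 120 ∣ Nat.card (Subgroup.closure ({A, B, C} : Set (Matrix.GeneralLinearGroup (Fin 2) (ZMod 59)))) :=
      Nat.Coprime.mul_dvd_of_dvd_of_dvd (by norm_num) h29 h120
    have hpos : 0 < Nat.card (Subgroup.closure ({A, B, C} : Set (Matrix.GeneralLinearGroup (Fin 2) (ZMod 59)))) :=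
      Nat.card_pos
    have := Nat.le_of_dvd hpos h3480
    omega
  -- semiregular
  have hsemi : ∀ h : Subgroup.closure ({A, B, C} : Set (Matrix.GeneralLinearGroup (Fin 2) (ZMod 59))),
      ∀ v : Fin 2 → ZMod 59, v ≠ 0 →
      ((h : Matrix.GeneralLinearGroup (Fin 2) (ZMod 59)) : Matrix (Fin 2) (Fin 2) (ZMod 59)).mulVec v = v →
        h = 1 := by
    intro h v hv hhv
    obtain ⟨s, hs, m, hm, hhm⟩ := hform h h.2
    rcases hdet s hs m hm with ⟨rfl, rfl⟩ | hne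
    · apply Subtype.ext
      apply Units.ext
      rw [hhm]
      simp [M2.toMat_one]
    · exfalso
      have hdet0 : ((s : ZMod 59) • M2.toMat 59 m - 1).det = 0 := by
        rw [← Matrix.exists_mulVec_eq_zero_iff]
        refine ⟨v, hv, ?_⟩
        rw [Matrix.sub_mulVec, ← hhm, hhv, Matrix.one_mulVec, sub_self]
      rw [det_model, ZMod.natCast_eq_zero_iff] at hdet0
      exact hne (Nat.mod_eq_zero_of_dvd hdet0)
  exact ⟨hcard, regular_of_semiregular 59 _ (by rw [hcard]; norm_num) hsemi⟩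

end Cfsg.Agent.S0693
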