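import Mathlib
import Cfsg.Statements.S0694

set_option autoImplicit false
open Cfsg

namespace Cfsg.Agent.S0694

/-- geometric sum `1 + q + ... + q^(i-1)` -/
def gs (q i : ℕ) : ℕ := ∑ j ∈ Finset.range i, q ^ j

theorem gs_zero (q : ℕ) : gs q 0 = 0 := by simp [gs]

theorem gs_succ (q i : ℕ) : gs q (i + 1) = gs q i + q ^ i := by
  simp [gs, Finset.sum_range_succ]

theorem gs_pos (q i : ℕ) (hq : 1 ≤ q) (hi : 1 ≤ i) : 0 < gs q i := by
  obtain ⟨j, rfl⟩ : ∃ j, i = j + 1 := ⟨i - 1, by omega⟩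
  rw [gs_succ]
  have : 0 < q ^ j := Nat.pow_pos (by omega)
  omega

theorem gs_mul (q i : ℕ) (hq : 1 ≤ q) : (q - 1) * gs q i = q ^ i - 1 := by
  induction i with
  | zero => simp [gs_zero]
  | succ i ih =>
    rw [gs_succ, mul_add, ih, pow_succ]
    have h1 : 1 ≤ q ^ i := Nat.one_le_pow _ _ (by omega)
    obtain ⟨m, rfl⟩ : ∃ m, q = m + 1 := ⟨q - 1, by omega⟩
    rw [Nat.add_sub_cancel]
    zify [h1, Nat.one_le_pow (i + 1) (m + 1) (by omega),
      show 1 ≤ (m + 1) ^ i * (m + 1) from Nat.mul_pos (by omega) (by omega)]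
    ring

theorem modEq_iff (q n i : ℕ) (hq : 2 ≤ q) (hn : 0 < n) :
    q ^ i ≡ 1 [MOD n * (q - 1)] ↔ n ∣ gs q i := by
  have h1 : 1 ≤ q ^ i := Nat.one_le_pow _ _ (by omega)
  rw [Nat.ModEq.comm, Nat.modEq_iff_dvd' h1, ← gs_mul q i (by omega), mul_comm n]
  exact Nat.mul_dvd_mul_iff_left (by omega)

theorem gs_mul_index (q a b : ℕ) (hq : 2 ≤ q) (ha : 1 ≤ a) :
    gs q (a * b) = gs q a * gs (q ^ a) b := by
  have h2 : 2 ≤ q ^ a := by
    calc 2 ≤ q := hq
      _ = q ^ 1 := (pow_one q).symm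
      _ ≤ q ^ a := Nat.pow_le_pow_right (by omega) ha
  have e1 := gs_mul q (a * b) (by omega)
  have e2 := gs_mul (q ^ a) b (by omega)
  have e3 := gs_mul q a (by omega)
  have : (q - 1) * gs q (a * b) = (q - 1) * (gs q a * gs (q ^ a) b) := by
    rw [e1, ← mul_assoc, e3, e2, pow_mul]
  exact Nat.eq_of_mul_eq_mul_left (by omega) this

theorem gs_modEq (q i r : ℕ) (h : q ≡ 1 [MOD r]) : gs q i ≡ i [MOD r] := by
  induction i with
  | zero => rw [gs_zero]
  | succ i ih =>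
    rw [gs_succ]
    have h1 : q ^ i ≡ 1 [MOD r] := by
      have := h.pow i
      rwa [one_pow] at this
    exact ih.add h1

theorem modEq_one_of_dvd_sub {q r : ℕ} (hq : 1 ≤ q) (h : r ∣ q - 1) : q ≡ 1 [MOD r] := by
  rw [Nat.ModEq.comm, Nat.modEq_iff_dvd' hq]
  exact h

theorem dvd_sub_of_modEq_one {q r : ℕ} (hq : 1 ≤ q) (h : q ≡ 1 [MOD r]) : r ∣ q - 1 := by
  rw [Nat.ModEq.comm, Nat.modEq_iff_dvd' hq] at h
  exact h


/-- valuation of the geometric sum at an odd prime dividing `q - 1` -/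
theorem val_gs_odd {r q i : ℕ} (hr : r.Prime) (hodd : Odd r) (hq : 2 ≤ q) (hrq : r ∣ q - 1)
    (hi : 1 ≤ i) : padicValNat r (gs q i) = padicValNat r i := by
  have : Fact r.Prime := ⟨hr⟩
  have hnq : ¬ r ∣ q := by
    intro h
    have h1 : r ∣ q - (q - 1) := Nat.dvd_sub h hrq
    have h2 : q - (q - 1) = 1 := by omega
    rw [h2] at h1
    exact hr.one_lt.ne' (Nat.dvd_one.1 h1)
  have h1 := padicValNat.pow_sub_pow hodd (show 1 < q by omega) hrq hnq (show i ≠ 0 by omega)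
  rw [one_pow, ← gs_mul q i (by omega),
    padicValNat.mul (by omega) (gs_pos q i (by omega) hi).ne'] at h1
  omega

theorem gs_odd_of_odd {q i : ℕ} (hq : Odd q) (hi : Odd i) : Odd (gs q i) := by
  have h1 : q ≡ 1 [MOD 2] := Nat.odd_iff.1 hq
  have h2 := gs_modEq q i 2 h1
  rw [Nat.odd_iff, h2, Nat.odd_iff.1 hi]

theorem val_gs_two_even {q i : ℕ} (hq : 2 ≤ q) (hqodd : Odd q) (hi : 1 ≤ i) (hieven : Even i) :
    padicValNat 2 (gs q i) + 1 = padicValNat 2 (q + 1) + padicValNat 2 i := by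
  have hnq : ¬ 2 ∣ q := by
    rw [← even_iff_two_dvd, Nat.not_even_iff_odd]; exact hqodd
  have h1 := padicValNat.pow_two_sub_one (show 1 < q by omega) hnq (show i ≠ 0 by omega) hieven
  rw [← gs_mul q i (by omega),
    padicValNat.mul (by omega) (gs_pos q i (by omega) hi).ne'] at h1
  omega

theorem val_gs_two {q i : ℕ} (hq : 2 ≤ q) (h4 : 4 ∣ q - 1) (hi : 1 ≤ i) :
    padicValNat 2 (gs q i) = padicValNat 2 i := by
  have hqodd : Odd q := by
    obtain ⟨c, hc⟩ := h4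
    rw [Nat.odd_iff]; omega
  rcases Nat.even_or_odd i with he | ho
  · have h1 := val_gs_two_even hq hqodd hi he
    have h2 : padicValNat 2 (q + 1) = 1 := by
      obtain ⟨c, hc⟩ := h4
      have : q + 1 = 2 * (2 * c + 1) := by omega
      rw [this, padicValNat.mul (by norm_num) (by omega), padicValNat_self]
      have : ¬ 2 ∣ 2 * c + 1 := by omega
      rw [padicValNat.eq_zero_of_not_dvd this]
    omega
  · have h1 := gs_odd_of_odd hqodd ho
    have h2 : ¬ 2 ∣ gs q i := by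
      rw [← even_iff_two_dvd, Nat.not_even_iff_odd]; exact h1
    have h3 : ¬ 2 ∣ i := by
      rw [← even_iff_two_dvd, Nat.not_even_iff_odd]; exact ho
    rw [padicValNat.eq_zero_of_not_dvd h2, padicValNat.eq_zero_of_not_dvd h3]


/-- under the Dickson condition, prime powers dividing `n` divide `gs q i` iff they divide `i` -/
theorem pow_dvd_gs_iff {q n i r k : ℕ} (hq : 2 ≤ q) (hD1 : ∀ r : ℕ, r.Prime → r ∣ n → r ∣ q - 1)
    (hD2 : 4 ∣ n → 4 ∣ q - 1) (hi : 1 ≤ i) (hr : r.Prime) (hk : r ^ k ∣ n) :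
    r ^ k ∣ gs q i ↔ r ^ k ∣ i := by
  have : Fact r.Prime := ⟨hr⟩
  rcases Nat.eq_zero_or_pos k with rfl | hkpos
  · simp
  have hrn : r ∣ n := (dvd_pow_self r hkpos.ne').trans hk
  have hrq := hD1 r hr hrn
  have hgs := (gs_pos q i (by omega) hi).ne'
  rcases hr.eq_two_or_odd' with rfl | hodd
  · by_cases h4 : 4 ∣ q - 1
    · rw [padicValNat_dvd_iff_le hgs, padicValNat_dvd_iff_le (by omega), val_gs_two hq h4 hi]
    · have hk1 : k = 1 := by
        by_contra hne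
        have h2 : 2 ≤ k := by omega
        have : (4 : ℕ) ∣ n := by
          have : (2 : ℕ) ^ 2 ∣ 2 ^ k := pow_dvd_pow 2 h2
          exact (by norm_num : (4 : ℕ) = 2 ^ 2) ▸ this.trans hk
        exact h4 (hD2 this)
      subst hk1
      rw [pow_one]
      have h1 : q ≡ 1 [MOD 2] := modEq_one_of_dvd_sub (by omega) hrq
      have h2 := gs_modEq q i 2 h1
      rw [Nat.dvd_iff_mod_eq_zero, Nat.dvd_iff_mod_eq_zero, h2]
  · rw [padicValNat_dvd_iff_le hgs, padicValNat_dvd_iff_le (by omega),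
      val_gs_odd hr hodd hq hrq hi]

theorem dvd_gs_iff {q n i : ℕ} (hq : 2 ≤ q) (hD1 : ∀ r : ℕ, r.Prime → r ∣ n → r ∣ q - 1)
    (hD2 : 4 ∣ n → 4 ∣ q - 1) (hi : 1 ≤ i) : n ∣ gs q i ↔ n ∣ i := by
  rw [Nat.dvd_iff_prime_pow_dvd_dvd, Nat.dvd_iff_prime_pow_dvd_dvd i n]
  constructor
  · intro h r k hr hk
    exact (pow_dvd_gs_iff hq hD1 hD2 hi hr hk).1 (h r k hr hk)
  · intro h r k hr hk
    exact (pow_dvd_gs_iff hq hD1 hD2 hi hr hk).2 (h r k hr hk)

theorem forward (q n : ℕ) (hq : 2 ≤ q) (hn : 1 < n)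
    (hD1 : ∀ r : ℕ, r.Prime → r ∣ n → r ∣ q - 1) (hD2 : 4 ∣ n → 4 ∣ q - 1) :
    q ^ n ≡ 1 [MOD n * (q - 1)] ∧ ∀ i : ℕ, 0 < i → i < n → ¬ q ^ i ≡ 1 [MOD n * (q - 1)] := by
  constructor
  · rw [modEq_iff q n n hq (by omega), dvd_gs_iff hq hD1 hD2 (by omega)]
  · intro i hi hin h
    rw [modEq_iff q n i hq (by omega), dvd_gs_iff hq hD1 hD2 hi] at h
    have := Nat.le_of_dvd hi h
    omega


theorem two_le_pow {q i : ℕ} (hq : 2 ≤ q) (hi : 1 ≤ i) : 2 ≤ q ^ i :=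
  calc 2 ≤ q := hq
    _ = q ^ 1 := (pow_one q).symm
    _ ≤ q ^ i := Nat.pow_le_pow_right (by omega) hi

theorem cast_pow_eq_one_of_dvd {Q s p : ℕ} (hQ : 1 ≤ Q) (h : p ∣ gs Q s) :
    ((Q : ZMod p)) ^ s = 1 := by
  have h1 : p ∣ Q ^ s - 1 := by
    rw [← gs_mul Q s hQ]
    exact h.mul_left _
  have h2 : ((Q ^ s - 1 : ℕ) : ZMod p) = 0 := (ZMod.natCast_eq_zero_iff _ _).2 h1
  rw [Nat.cast_sub (Nat.one_le_pow _ _ hQ), Nat.cast_pow, Nat.cast_one, sub_eq_zero] at h2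
  exact h2

theorem dvd_sub_one_of_cast_eq_one {Q p : ℕ} (hQ : 1 ≤ Q) (h : (Q : ZMod p) = 1) : p ∣ Q - 1 := by
  rw [← ZMod.natCast_eq_zero_iff, Nat.cast_sub hQ, Nat.cast_one, h, sub_self]

theorem cast_eq_one_of_dvd_sub_one {Q p : ℕ} (hQ : 1 ≤ Q) (h : p ∣ Q - 1) : (Q : ZMod p) = 1 := by
  have h2 : ((Q - 1 : ℕ) : ZMod p) = 0 := (ZMod.natCast_eq_zero_iff _ _).2 h
  rw [Nat.cast_sub hQ, Nat.cast_one, sub_eq_zero] at h2
  exact h2

/-- a prime `p ≠ s` dividing `gs (q^i) s` is a bad prime larger than `s` -/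
theorem case_ne {q i s p : ℕ} (hq : 2 ≤ q) (hi : 1 ≤ i) (hs : s.Prime) (hp : p.Prime)
    (hps : p ≠ s) (hmax : ¬ p ∣ q - 1 → p ≤ s) : ¬ p ∣ gs (q ^ i) s := by
  intro hdiv
  have : Fact p.Prime := ⟨hp⟩
  have hQ : 2 ≤ q ^ i := two_le_pow hq hi
  by_cases hQ1 : p ∣ q ^ i - 1
  · have h1 := gs_modEq (q ^ i) s p (modEq_one_of_dvd_sub (by omega) hQ1)
    have h2 : p ∣ s := by
      rw [Nat.dvd_iff_mod_eq_zero, ← h1, ← Nat.dvd_iff_mod_eq_zero]
      exact hdiv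
    exact hps ((Nat.prime_dvd_prime_iff_eq hp hs).1 h2)
  · have hbad : ¬ p ∣ q - 1 := by
      intro h
      apply hQ1
      rw [← gs_mul q i (by omega)]
      exact h.mul_right _
    have hle := hmax hbad
    have hlt : p < s := lt_of_le_of_ne hle hps
    have hpow := cast_pow_eq_one_of_dvd (p := p) (show 1 ≤ q ^ i by omega) hdiv
    have hne1 : ((q ^ i : ℕ) : ZMod p) ≠ 1 := by
      intro h
      exact hQ1 (dvd_sub_one_of_cast_eq_one (by omega) h)
    have : Fact s.Prime := ⟨hs⟩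
    have hord : orderOf ((q ^ i : ℕ) : ZMod p) = s := orderOf_eq_prime hpow hne1
    have hne0 : ((q ^ i : ℕ) : ZMod p) ≠ 0 := by
      intro h
      rw [h, zero_pow hs.ne_zero] at hpow
      exact zero_ne_one hpow
    have hdvd := ZMod.orderOf_dvd_card_sub_one hne0
    rw [hord] at hdvd
    have := Nat.le_of_dvd (by have := hp.two_le; omega) hdvd
    omega

/-- the prime `s` itself -/
theorem case_eq {q n i s k : ℕ} (hq : 2 ≤ q) (hs : s.Prime) (hsq : ¬ s ∣ q - 1)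
    (hn : n = s * i) (hi : 1 ≤ i) (hgs : n ∣ gs q n) (hk : s ^ k ∣ n) : s ^ k ∣ gs q i := by
  have : Fact s.Prime := ⟨hs⟩
  rcases Nat.eq_zero_or_pos k with rfl | hkpos
  · simp
  obtain ⟨k', rfl⟩ : ∃ k', k = k' + 1 := ⟨k - 1, by omega⟩
  have hki : s ^ k' ∣ i := by
    rw [hn, pow_succ, mul_comm] at hk
    exact (Nat.mul_dvd_mul_iff_left hs.pos).1 hk
  obtain ⟨i', hi'⟩ := hki
  have hi'pos : 1 ≤ i' := by
    rcases Nat.eq_zero_or_pos i' with h0 | h0
    · rw [h0, mul_zero] at hi'; omega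
    · exact h0
  have hsn : s ∣ n := ⟨i, hn⟩
  have hqn : (q : ZMod s) ^ n = 1 := cast_pow_eq_one_of_dvd (by omega) (hsn.trans hgs)
  have hn' : n = i' * s ^ (k' + 1) := by
    rw [hn, hi', pow_succ]; ring
  have hqi' : (q : ZMod s) ^ i' = 1 := by
    rw [hn', pow_mul, ZMod.pow_card_pow] at hqn
    exact hqn
  have hQ : 2 ≤ q ^ i' := two_le_pow hq hi'pos
  have hdvd1 : s ∣ q ^ i' - 1 := by
    apply dvd_sub_one_of_cast_eq_one (by omega)
    rw [Nat.cast_pow]; exact hqi'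
  have hsodd : Odd s := by
    rcases hs.eq_two_or_odd' with rfl | h
    · exfalso
      have hqe : (2 : ℕ) ∣ q := by
        by_contra hne
        apply hsq
        omega
      have h0 : (q : ZMod 2) = 0 := (ZMod.natCast_eq_zero_iff _ _).2 hqe
      rw [h0, zero_pow (by omega)] at hqi'
      exact zero_ne_one hqi'
    · exact h
  have hnd : ¬ s ∣ q ^ i' := by
    intro h
    have h0 : ((q ^ i' : ℕ) : ZMod s) = 0 := (ZMod.natCast_eq_zero_iff _ _).2 h
    rw [Nat.cast_pow, hqi'] at h0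
    exact one_ne_zero h0
  have hlte := padicValNat.pow_sub_pow hsodd (show 1 < q ^ i' by omega) hdvd1 hnd
    (show s ^ k' ≠ 0 from (Nat.pow_pos hs.pos).ne')
  rw [one_pow, padicValNat.prime_pow, ← pow_mul, mul_comm i', ← hi'] at hlte
  have h1 : 1 ≤ padicValNat s (q ^ i' - 1) := by
    rw [← padicValNat_dvd_iff_le (by omega), pow_one]
    exact hdvd1
  have hQi : 2 ≤ q ^ i := two_le_pow hq hi
  have h2 : padicValNat s (q ^ i - 1) = padicValNat s (gs q i) := by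
    rw [← gs_mul q i (by omega), padicValNat.mul (by omega) (gs_pos q i (by omega) hi).ne',
      padicValNat.eq_zero_of_not_dvd hsq, zero_add]
  rw [padicValNat_dvd_iff_le (gs_pos q i (by omega) hi).ne', ← h2, hlte]
  omega


theorem back1 (q n : ℕ) (hq : 2 ≤ q) (hn : 1 < n) (h1 : n ∣ gs q n)
    (h2 : ∀ i : ℕ, 0 < i → i < n → ¬ n ∣ gs q i) :
    ∀ r : ℕ, r.Prime → r ∣ n → r ∣ q - 1 := by
  by_contra hcon
  simp only [not_forall] at hcon
  obtain ⟨r0, hr0, hr0n, hr0q⟩ := hcon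
  classical
  let B : Finset ℕ := (Finset.range (n + 1)).filter (fun r => r.Prime ∧ r ∣ n ∧ ¬ r ∣ q - 1)
  have hB : B.Nonempty := ⟨r0, by
    simp only [B, Finset.mem_filter, Finset.mem_range]
    exact ⟨Nat.lt_succ_of_le (Nat.le_of_dvd (by omega) hr0n), hr0, hr0n, hr0q⟩⟩
  obtain ⟨s, hsB, hsmax⟩ := Finset.exists_max_image B id hB
  simp only [B, Finset.mem_filter, Finset.mem_range, id] at hsB hsmax
  obtain ⟨_, hs, hsn, hsq⟩ := hsB
  obtain ⟨i, hi⟩ := hsn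
  have hipos : 1 ≤ i := by
    rcases Nat.eq_zero_or_pos i with h0 | h0
    · rw [h0, mul_zero] at hi; omega
    · exact h0
  have hilt : i < n := by
    rw [hi]
    have := hs.two_le
    nlinarith
  apply h2 i hipos hilt
  rw [Nat.dvd_iff_prime_pow_dvd_dvd]
  intro p k hp hpk
  by_cases hps : p = s
  · subst hps
    exact case_eq hq hp hsq hi hipos h1 hpk
  · rcases Nat.eq_zero_or_pos k with rfl | hkpos
    · simp
    have hpn : p ∣ n := (dvd_pow_self p hkpos.ne').trans hpk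
    have hmax : ¬ p ∣ q - 1 → p ≤ s := by
      intro hbad
      exact hsmax p ⟨Nat.lt_succ_of_le (Nat.le_of_dvd (by omega) hpn), hp, hpn, hbad⟩
    have hnd := case_ne hq hipos hs hp hps hmax
    have hfac : gs q n = gs q i * gs (q ^ i) s := by
      rw [hi, mul_comm s i]
      exact gs_mul_index q i s hq hipos
    have hcop : Nat.Coprime (p ^ k) (gs (q ^ i) s) :=
      Nat.Coprime.pow_left k ((Nat.Prime.coprime_iff_not_dvd hp).2 hnd)
    have hdvd : p ^ k ∣ gs q i * gs (q ^ i) s := by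
      rw [← hfac]; exact hpk.trans h1
    exact hcop.dvd_of_dvd_mul_right hdvd

theorem back2 (q n : ℕ) (hq : 2 ≤ q) (hn : 1 < n) (h1 : n ∣ gs q n)
    (h2 : ∀ i : ℕ, 0 < i → i < n → ¬ n ∣ gs q i)
    (hD1 : ∀ r : ℕ, r.Prime → r ∣ n → r ∣ q - 1) : 4 ∣ n → 4 ∣ q - 1 := by
  intro h4n
  by_contra h4q
  have h2n : 2 ∣ n := (by norm_num : (2 : ℕ) ∣ 4).trans h4n
  have h2q := hD1 2 Nat.prime_two h2n
  have hqodd : Odd q := by
    obtain ⟨c, hc⟩ := h2q
    rw [Nat.odd_iff]; omega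
  obtain ⟨j, hj⟩ := h4n
  have hjpos : 1 ≤ j := by omega
  have hieven : Even (2 * j) := even_two_mul j
  have hn2 : n = 2 * (2 * j) := by omega
  apply h2 (2 * j) (by omega) (by omega)
  rw [Nat.dvd_iff_prime_pow_dvd_dvd]
  intro p k hp hpk
  rcases Nat.eq_zero_or_pos k with rfl | hkpos
  · simp
  have hpn : p ∣ n := (dvd_pow_self p hkpos.ne').trans hpk
  have hfac : gs q n = gs q (2 * j) * gs (q ^ (2 * j)) 2 := by
    rw [hn2, mul_comm 2 (2 * j)]
    exact gs_mul_index q (2 * j) 2 hq (by omega)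
  have hgs2 : gs (q ^ (2 * j)) 2 = 1 + q ^ (2 * j) := by
    simp [gs, Finset.sum_range_succ]
  rcases hp.eq_two_or_odd' with rfl | hodd
  · -- the prime 2
    have : Fact (Nat.Prime 2) := ⟨Nat.prime_two⟩
    obtain ⟨k', rfl⟩ : ∃ k', k = k' + 1 := ⟨k - 1, by omega⟩
    have hki : 2 ^ k' ∣ 2 * j := by
      rw [hn2, pow_succ, mul_comm] at hpk
      exact (Nat.mul_dvd_mul_iff_left (by norm_num)).1 hpk
    have hv := val_gs_two_even hq hqodd (show 1 ≤ 2 * j by omega) hieven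
    have h4 : 4 ∣ q + 1 := by
      obtain ⟨c, hc⟩ := h2q
      have hc' : q = 2 * c + 1 := by omega
      rcases Nat.even_or_odd c with ⟨d, hd⟩ | ⟨d, hd⟩
      · exfalso
        apply h4q
        exact ⟨d, by omega⟩
      · exact ⟨d + 1, by omega⟩
    have hv2 : 2 ≤ padicValNat 2 (q + 1) := by
      rw [← padicValNat_dvd_iff_le (by omega)]
      exact h4
    have hv3 : k' ≤ padicValNat 2 (2 * j) := by
      rw [← padicValNat_dvd_iff_le (by omega)]
      exact hki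
    rw [padicValNat_dvd_iff_le (gs_pos q (2 * j) (by omega) (by omega)).ne']
    omega
  · -- odd primes
    have hpq := hD1 p hp hpn
    have hq1 : q ≡ 1 [MOD p] := modEq_one_of_dvd_sub (by omega) hpq
    have hq2 : q ^ (2 * j) ≡ 1 [MOD p] := by
      have := hq1.pow (2 * j)
      rwa [one_pow] at this
    have hnd : ¬ p ∣ gs (q ^ (2 * j)) 2 := by
      rw [hgs2]
      intro hd
      have h3 : 1 + q ^ (2 * j) ≡ 1 + 1 [MOD p] := Nat.ModEq.add_left 1 hq2
      have h4 : p ∣ 2 := by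
        rw [Nat.dvd_iff_mod_eq_zero, show (2 : ℕ) = 1 + 1 from rfl, ← h3,
          ← Nat.dvd_iff_mod_eq_zero]
        exact hd
      have := (Nat.prime_dvd_prime_iff_eq hp Nat.prime_two).1 h4
      rw [this] at hodd
      exact absurd hodd (by decide)
    have hcop : Nat.Coprime (p ^ k) (gs (q ^ (2 * j)) 2) :=
      Nat.Coprime.pow_left k ((Nat.Prime.coprime_iff_not_dvd hp).2 hnd)
    have hdvd : p ^ k ∣ gs q (2 * j) * gs (q ^ (2 * j)) 2 := by
      rw [← hfac]; exact hpk.trans h1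
    exact hcop.dvd_of_dvd_mul_right hdvd

/-- The Dickson pair condition: for a prime power `q` and `n > 1`, (every prime factor of `n` divides `q - 1`, and `4 ∣ n → 4 ∣ q - 1`) holds exactly when `q ^ n ≡ 1` modulo `n * (q - 1)` but `q ^ i` is not, for `0 < i < n`. -/
theorem result (q n : ℕ) (hq : IsPrimePow q) (hn : 1 < n) : ((∀ r : ℕ, r.Prime → r ∣ n → r ∣ q - 1) ∧ (4 ∣ n → 4 ∣ q - 1)) ↔ (q ^ n ≡ 1 [MOD n * (q - 1)] ∧ ∀ i : ℕ, 0 < i → i < n → ¬ q ^ i ≡ 1 [MOD n * (q - 1)]) := by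
  have hq2 : 2 ≤ q := hq.two_le
  constructor
  · rintro ⟨hD1, hD2⟩
    exact forward q n hq2 hn hD1 hD2
  · rintro ⟨h1, h2⟩
    rw [modEq_iff q n n hq2 (by omega)] at h1
    have h2' : ∀ i : ℕ, 0 < i → i < n → ¬ n ∣ gs q i := by
      intro i hi hin h
      apply h2 i hi hin
      rw [modEq_iff q n i hq2 (by omega)]
      exact h
    have hD1 := back1 q n hq2 hn h1 h2'
    exact ⟨hD1, back2 q n hq2 hn h1 h2' hD1⟩

end Cfsg.Agent.S0694
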