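import Cfsg.Statements.S0699
import Cfsg.Agent.S0417
import Mathlib

set_option autoImplicit false
set_option linter.unusedVariables false
open Cfsg

namespace Cfsg.Agent.S0699

open MulAction
open scoped Pointwise

section
variable {G Ω : Type*} [Group G] [MulAction G Ω]

/-- The core of Wagner's theorem: if `N` is a 2-transitive normal subgroup and the degree is odd,
then the two-point stabilizer of `N` is transitive on the remaining points as soon as that of `G`
is. -/
theorem wagner_core [Finite G] [Finite Ω]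
    (hodd : Odd (Nat.card Ω))
    (N : Subgroup G) [hNn : N.Normal]
    (hN2 : ∀ a b c d : Ω, a ≠ b → c ≠ d → ∃ ν ∈ N, ν • a = c ∧ ν • b = d)
    (x y : Ω) (hxy : x ≠ y)
    (hG3 : ∀ c c' : Ω, c ≠ x → c ≠ y → c' ≠ x → c' ≠ y →
      ∃ g : G, g • x = x ∧ g • y = y ∧ g • c = c') :
    ∀ c c' : Ω, c ≠ x → c ≠ y → c' ≠ x → c' ≠ y →
      ∃ ν ∈ N, ν • x = x ∧ ν • y = y ∧ ν • c = c' := by
  classical
  have : Fact (Nat.Prime 2) := ⟨Nat.prime_two⟩
  set R : Subgroup G := N ⊓ stabilizer G ({x, y} : Set Ω) with hR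
  have memR : ∀ g : G, g ∈ R ↔
      g ∈ N ∧ ((g • x = x ∧ g • y = y) ∨ (g • x = y ∧ g • y = x)) := by
    intro g
    rw [hR, Subgroup.mem_inf, mem_stabilizer_iff, Set.smul_set_insert, Set.smul_set_singleton,
      Set.pair_eq_pair_iff]
  set K : Subgroup R := stabilizer R x ⊓ stabilizer R y with hK
  have memK : ∀ k : R, k ∈ K ↔ (k : G) • x = x ∧ (k : G) • y = y := by
    intro k
    rw [hK, Subgroup.mem_inf, mem_stabilizer_iff, mem_stabilizer_iff]
    rfl
  -- an element of N swapping x and y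
  obtain ⟨ν0, hν0N, hν0x, hν0y⟩ := hN2 x y y x hxy hxy.symm
  have hν0R : ν0 ∈ R := (memR ν0).mpr ⟨hν0N, Or.inr ⟨hν0x, hν0y⟩⟩
  have hKidx : K.index = 2 := by
    rw [Subgroup.index_eq_two_iff]
    refine ⟨⟨ν0, hν0R⟩, fun b => ?_⟩
    have hb := (memR b.1).mp b.2
    rcases hb.2 with ⟨hbx, hby⟩ | ⟨hbx, hby⟩
    · right
      refine ⟨(memK b).mpr ⟨hbx, hby⟩, ?_⟩
      intro h
      have := ((memK _).mp h).1
      simp only [Subgroup.coe_mul, mul_smul, hν0x, hby] at this
      exact hxy this.symm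
    · left
      refine ⟨(memK _).mpr ⟨?_, ?_⟩, ?_⟩
      · simp only [Subgroup.coe_mul, mul_smul, hν0x, hby]
      · simp only [Subgroup.coe_mul, mul_smul, hν0y, hbx]
      · intro h
        have := ((memK b).mp h).1
        rw [hbx] at this
        exact hxy this.symm
  -- a Sylow 2-subgroup of R
  obtain ⟨P⟩ : Nonempty (Sylow 2 R) := inferInstance
  have hPK : ¬ ((P : Subgroup R) ≤ K) := by
    intro h
    have := Subgroup.index_dvd_of_le h
    rw [hKidx] at this
    exact P.not_dvd_index this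
  obtain ⟨u, huP, huK⟩ := SetLike.not_le_iff_exists.mp hPK
  have huswap : (u : G) • x = y ∧ (u : G) • y = x := by
    rcases ((memR u.1).mp u.2).2 with h | h
    · exact absurd ((memK u).mpr h) huK
    · exact h
  -- a fixed point of P
  obtain ⟨c, hc⟩ : ∃ c : Ω, ∀ p : R, p ∈ (P : Subgroup R) → (p : G) • c = c := by
    by_contra hcon
    push Not at hcon
    have hmod := (P.2).card_modEq_card_fixedPoints Ω
    have hempty : IsEmpty (fixedPoints (P : Subgroup R) Ω) := by
      constructor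
      rintro ⟨c, hc⟩
      obtain ⟨p, hp, hpc⟩ := hcon c
      exact hpc (hc ⟨p, hp⟩)
    have h0 : Nat.card (fixedPoints (P : Subgroup R) Ω) = 0 := Nat.card_of_isEmpty
    rw [h0] at hmod
    rcases hodd with ⟨r, hr⟩
    have : Nat.card Ω % 2 = 0 % 2 := hmod
    omega
  have hcx : c ≠ x := by
    intro h
    have := hc u huP
    rw [h, huswap.1] at this
    exact hxy this.symm
  have hcy : c ≠ y := by
    intro h
    have := hc u huP
    rw [h, huswap.2] at this
    exact hxy this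
  -- cardinalities
  have hK2 : 2 * Nat.card K = Nat.card R := by
    have := K.index_mul_card
    rw [hKidx] at this
    exact this
  have hPcard : Nat.card (P : Subgroup R) = 2 ^ (Nat.card R).factorization 2 :=
    P.card_eq_multiplicity
  -- uniqueness of the fixed point
  have huniq : ∀ c' : Ω, (∀ p : R, p ∈ (P : Subgroup R) → (p : G) • c' = c') → c' = c := by
    intro c' hc'
    by_contra hne
    obtain ⟨ν, hνN, hνc, hνc'⟩ := hN2 c c' x y (Ne.symm hne) hxy
    have hνinvx : ν⁻¹ • x = c := by rw [inv_smul_eq_iff, hνc]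
    have hνinvy : ν⁻¹ • y = c' := by rw [inv_smul_eq_iff, hνc']
    have hconjx : ∀ p : R, p ∈ (P : Subgroup R) → (ν * (p : G) * ν⁻¹) • x = x := by
      intro p hp
      rw [mul_smul, mul_smul, hνinvx, hc p hp, hνc]
    have hconjy : ∀ p : R, p ∈ (P : Subgroup R) → (ν * (p : G) * ν⁻¹) • y = y := by
      intro p hp
      rw [mul_smul, mul_smul, hνinvy, hc' p hp, hνc']
    have hconjR : ∀ p : R, p ∈ (P : Subgroup R) → ν * (p : G) * ν⁻¹ ∈ R := by
      intro p hp
      refine (memR _).mpr ⟨?_, Or.inl ⟨hconjx p hp, hconjy p hp⟩⟩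
      exact N.mul_mem (N.mul_mem hνN ((memR p.1).mp p.2).1) (N.inv_mem hνN)
    let f : (P : Subgroup R) →* K := MonoidHom.mk'
      (fun p => ⟨⟨ν * (p.1 : G) * ν⁻¹, hconjR p.1 p.2⟩,
        (memK _).mpr ⟨hconjx p.1 p.2, hconjy p.1 p.2⟩⟩)
      (fun p q => by
        apply Subtype.ext
        apply Subtype.ext
        simp only [Subgroup.coe_mul]
        group)
    have hf : Function.Injective f := by
      intro p q hpq
      have h1 : ν * (p.1 : G) * ν⁻¹ = ν * (q.1 : G) * ν⁻¹ :=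
        congrArg (fun z : K => ((z : R) : G)) hpq
      have h2 : (p.1 : G) = (q.1 : G) := by
        have := congrArg (fun z => ν⁻¹ * z * ν) h1
        simpa [mul_assoc] using this
      exact Subtype.ext (Subtype.ext h2)
    have hdvd := Subgroup.card_dvd_of_injective f hf
    rw [hPcard] at hdvd
    have hdvd2 : 2 ^ ((Nat.card R).factorization 2 + 1) ∣ Nat.card R := by
      have h3 : 2 ^ ((Nat.card R).factorization 2 + 1) ∣ 2 * Nat.card K := by
        rw [pow_succ, mul_comm]
        exact Nat.mul_dvd_mul_left 2 hdvd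
      rw [hK2] at h3
      exact h3
    exact Nat.pow_succ_factorization_not_dvd (Nat.card_pos.ne') Nat.prime_two hdvd2
  -- the orbit of c under R has odd size
  have hPstab : (P : Subgroup R) ≤ stabilizer R c := by
    intro p hp
    rw [mem_stabilizer_iff]
    exact hc p hp
  have hPodd : ¬ 2 ∣ (P : Subgroup R).index := P.not_dvd_index
  have horb_c : ¬ 2 ∣ (orbit R c).ncard := by
    intro h
    apply hPodd
    have h1 := Subgroup.index_dvd_of_le hPstab
    rw [MulAction.index_stabilizer] at h1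
    exact dvd_trans h h1
  -- all points are in the orbit of c
  have hall : ∀ c' : Ω, c' ≠ x → c' ≠ y → ∃ ν ∈ N, ν • x = x ∧ ν • y = y ∧ ν • c = c' := by
    intro c' hc'x hc'y
    obtain ⟨g, hgx, hgy, hgc⟩ := hG3 c c' hcx hcy hc'x hc'y
    have hginvx : g⁻¹ • x = x := by rw [inv_smul_eq_iff, hgx]
    have hginvy : g⁻¹ • y = y := by rw [inv_smul_eq_iff, hgy]
    -- g normalizes R
    have hgR : ∀ ρ : G, ρ ∈ R → g * ρ * g⁻¹ ∈ R := by
      intro ρ hρ
      obtain ⟨hρN, hρ2⟩ := (memR ρ).mp hρ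
      refine (memR _).mpr ⟨hNn.conj_mem ρ hρN g, ?_⟩
      rcases hρ2 with ⟨h1, h2⟩ | ⟨h1, h2⟩
      · left
        constructor
        · rw [mul_smul, mul_smul, hginvx, h1, hgx]
        · rw [mul_smul, mul_smul, hginvy, h2, hgy]
      · right
        constructor
        · rw [mul_smul, mul_smul, hginvx, h1, hgy]
        · rw [mul_smul, mul_smul, hginvy, h2, hgx]
    have hgR' : ∀ ρ : G, ρ ∈ R → g⁻¹ * ρ * g ∈ R := by
      intro ρ hρ
      obtain ⟨hρN, hρ2⟩ := (memR ρ).mp hρ
      refine (memR _).mpr ⟨?_, ?_⟩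
      · have := hNn.conj_mem ρ hρN g⁻¹
        simpa using this
      rcases hρ2 with ⟨h1, h2⟩ | ⟨h1, h2⟩
      · left
        constructor
        · rw [mul_smul, mul_smul, hgx, h1, hginvx]
        · rw [mul_smul, mul_smul, hgy, h2, hginvy]
      · right
        constructor
        · rw [mul_smul, mul_smul, hgx, h1, hginvy]
        · rw [mul_smul, mul_smul, hgy, h2, hginvx]
    have horb_eq : orbit R c' = (fun z => g • z) '' (orbit R c) := by
      ext z
      constructor
      · rintro ⟨ρ, rfl⟩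
        refine ⟨(⟨g⁻¹ * (ρ : G) * g, hgR' ρ.1 ρ.2⟩ : R) • c, ⟨_, rfl⟩, ?_⟩
        change g • ((g⁻¹ * (ρ : G) * g) • c) = (ρ : G) • c'
        rw [mul_smul, mul_smul, smul_inv_smul, hgc]
      · rintro ⟨_, ⟨ρ, rfl⟩, rfl⟩
        refine ⟨⟨g * (ρ : G) * g⁻¹, hgR ρ.1 ρ.2⟩, ?_⟩
        change (g * (ρ : G) * g⁻¹) • c' = g • ((ρ : G) • c)
        rw [mul_smul, mul_smul, ← hgc, inv_smul_smul]
    have horb_c' : ¬ 2 ∣ (orbit R c').ncard := by
      rw [horb_eq, Set.ncard_image_of_injective _ (MulAction.injective g)]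
      exact horb_c
    -- P has a fixed point in the orbit of c'
    have hmod := (P.2).card_modEq_card_fixedPoints (orbit R c')
    have hne : Nonempty (fixedPoints (P : Subgroup R) (orbit R c')) := by
      by_contra hcon
      rw [not_nonempty_iff] at hcon
      have h0 : Nat.card (fixedPoints (P : Subgroup R) (orbit R c')) = 0 := Nat.card_of_isEmpty
      rw [h0, Nat.card_coe_set_eq] at hmod
      apply horb_c'
      exact Nat.dvd_of_mod_eq_zero hmod
    obtain ⟨⟨⟨z, hz⟩, hzfix⟩⟩ := hne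
    have hzc : z = c := by
      apply huniq
      intro p hp
      have := hzfix ⟨p, hp⟩
      exact congrArg Subtype.val this
    rw [hzc] at hz
    obtain ⟨ρ, hρ⟩ := hz
    have hρ' : (ρ : G) • c' = c := hρ
    have hρinv : (ρ : G)⁻¹ • c = c' := by rw [inv_smul_eq_iff, hρ']
    obtain ⟨hρN, hρ2⟩ := (memR ρ.1).mp ρ.2
    rcases hρ2 with ⟨h1, h2⟩ | ⟨h1, h2⟩
    · refine ⟨(ρ : G)⁻¹, N.inv_mem hρN, ?_, ?_, hρinv⟩
      · rw [inv_smul_eq_iff, h1]
      · rw [inv_smul_eq_iff, h2]
    · refine ⟨(ρ : G)⁻¹ * (u : G), N.mul_mem (N.inv_mem hρN) ((memR u.1).mp u.2).1, ?_, ?_, ?_⟩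
      · rw [mul_smul, huswap.1, inv_smul_eq_iff, h1]
      · rw [mul_smul, huswap.2, inv_smul_eq_iff, h2]
      · rw [mul_smul, hc u huP, hρinv]
  intro c1 c2 h1x h1y h2x h2y
  obtain ⟨ν1, hν1N, hν1x, hν1y, hν1c⟩ := hall c1 h1x h1y
  obtain ⟨ν2, hν2N, hν2x, hν2y, hν2c⟩ := hall c2 h2x h2y
  refine ⟨ν2 * ν1⁻¹, N.mul_mem hν2N (N.inv_mem hν1N), ?_, ?_, ?_⟩
  · rw [mul_smul, inv_smul_eq_iff.mpr hν1x.symm, hν2x]
  · rw [mul_smul, inv_smul_eq_iff.mpr hν1y.symm, hν2y]
  · rw [mul_smul, inv_smul_eq_iff.mpr hν1c.symm, hν2c]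

end

section faithful
variable {G Ω : Type*} [Group G] [MulAction G Ω]

theorem exists_map3 (h3 : IsMultiplyPretransitive G Ω 3) {a b c a' b' c' : Ω}
    (hab : a ≠ b) (hac : a ≠ c) (hbc : b ≠ c) (hab' : a' ≠ b') (hac' : a' ≠ c') (hbc' : b' ≠ c') :
    ∃ g : G, g • a = a' ∧ g • b = b' ∧ g • c = c' := by
  obtain ⟨g, hg⟩ := Cfsg.Agent.S0417.exists_mapL h3 [a, b, c] [a', b', c']
    (by simp [hab, hac, hbc]) (by simp [hab', hac', hbc']) rfl rfl
  simp only [List.map_cons, List.map_nil, List.cons.injEq, and_true] at hg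
  exact ⟨g, hg⟩

/-- A non-trivial normal subgroup of a 3-transitive group of odd degree at least 5 is
2-transitive. -/
theorem normal_two_trans [FaithfulSMul G Ω] [Finite Ω] (h3 : IsMultiplyPretransitive G Ω 3)
    (hodd : Odd (Nat.card Ω)) (h4 : 4 ≤ Nat.card Ω) (N : Subgroup G) [hNn : N.Normal]
    (hN : N ≠ ⊥) :
    ∀ a b c d : Ω, a ≠ b → c ≠ d → ∃ ν ∈ N, ν • a = c ∧ ν • b = d := by
  classical
  have := Fintype.ofFinite Ω
  have : Fact (Nat.Prime 2) := ⟨Nat.prime_two⟩
  have h2 : IsMultiplyPretransitive G Ω 2 :=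
    isMultiplyPretransitive_of_le (n := 3) (by norm_num) (by omega)
  have hprim : IsPreprimitive G Ω := isPreprimitive_of_is_two_pretransitive h2
  have hcardU : (Finset.univ : Finset Ω).card = Nat.card Ω := by
    rw [Finset.card_univ, Nat.card_eq_fintype_card]
  -- N is transitive
  have hNtr : ∀ a b : Ω, ∃ ν ∈ N, ν • a = b := by
    have hfp : fixedPoints N Ω ≠ Set.univ := by
      intro h
      apply hN
      rw [Subgroup.eq_bot_iff_forall]
      intro k hk
      apply FaithfulSMul.eq_of_smul_eq_smul (α := Ω)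
      intro z
      have hz : z ∈ fixedPoints N Ω := by rw [h]; trivial
      rw [one_smul]
      exact hz ⟨k, hk⟩
    have hq : IsQuasiPreprimitive G Ω := inferInstance
    have hpt : IsPretransitive N Ω := hq.isPretransitive_of_normal hfp
    intro a b
    obtain ⟨k, hk⟩ := hpt.exists_smul_eq a b
    exact ⟨k.1, k.2, hk⟩
  -- point stabilizers in N are non-trivial
  have hNa : ∀ a : Ω, ∃ ν ∈ N, ν • a = a ∧ ν ≠ 1 := by
    intro a
    by_contra hcon
    push Not at hcon
    have hsemi : ∀ ν ∈ N, ∀ z : Ω, ν • z = z → ν = 1 := by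
      intro ν hνN z hz
      obtain ⟨μ, hμN, hμ⟩ := hNtr a z
      have h1 : μ⁻¹ * ν * μ = 1 :=
        hcon _ (N.mul_mem (N.mul_mem (N.inv_mem hμN) hνN) hμN)
          (by rw [mul_smul, mul_smul, hμ, hz, inv_smul_eq_iff, hμ])
      have := congrArg (fun t => μ * t * μ⁻¹) h1
      simpa [mul_assoc] using this
    obtain ⟨b, -, hb⟩ : ∃ b ∈ (Finset.univ : Finset Ω), b ∉ ({a} : Finset Ω) := by
      apply Finset.exists_mem_notMem_of_card_lt_card
      rw [hcardU, Finset.card_singleton]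
      omega
    have hba : b ≠ a := by simpa using hb
    obtain ⟨ν, hνN, hνa⟩ := hNtr a b
    have hν1 : ν ≠ 1 := by
      rintro rfl
      rw [one_smul] at hνa
      exact hba hνa.symm
    by_cases hsq : ν • b = a
    · have h1 : ν * ν = 1 := hcon (ν * ν) (N.mul_mem hνN hνN) (by rw [mul_smul, hνa, hsq])
      have hmod := Cfsg.Agent.S0415.card_modEq_fix (Ω := Ω) 2 ν (by rw [pow_two, h1])
      have hempty : {ω : Ω | ν • ω = ω} = ∅ := by
        ext z
        simp only [Set.mem_ofPred_eq, Set.mem_empty_iff_false, iff_false]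
        intro hz
        exact hν1 (hsemi ν hνN z hz)
      rw [hempty] at hmod
      have h0 : Nat.card (∅ : Set Ω) = 0 := by simp
      rw [h0] at hmod
      rcases hodd with ⟨r, hr⟩
      have : Nat.card Ω % 2 = 0 % 2 := hmod
      omega
    · have hcb : ν • b ≠ b := fun h => hν1 (hsemi ν hνN b h)
      obtain ⟨d, -, hd⟩ : ∃ d ∈ (Finset.univ : Finset Ω), d ∉ ({a, b, ν • b} : Finset Ω) := by
        apply Finset.exists_mem_notMem_of_card_lt_card
        rw [hcardU]
        have := Finset.card_le_three (a := a) (b := b) (c := ν • b)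
        omega
      simp only [Finset.mem_insert, Finset.mem_singleton, not_or] at hd
      obtain ⟨hda, hdb, hdc⟩ := hd
      obtain ⟨g, hga, hgb, hgc⟩ := exists_map3 h3 (Ne.symm hba) (Ne.symm hsq) (Ne.symm hcb)
        (Ne.symm hba) (Ne.symm hda) (Ne.symm hdb)
      have hginva : g⁻¹ • a = a := by rw [inv_smul_eq_iff, hga]
      have h1 : ν⁻¹ * (g * ν * g⁻¹) = 1 := by
        apply hcon _ (N.mul_mem (N.inv_mem hνN) (hNn.conj_mem ν hνN g))
        rw [mul_smul, mul_smul, mul_smul, hginva, hνa, hgb, inv_smul_eq_iff, hνa]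
      have hcomm : g * ν = ν * g := by
        have := congrArg (fun t => ν * t * g) h1
        simpa [mul_assoc] using this
      apply hdc
      rw [← hgc, ← mul_smul, hcomm, mul_smul, hgb]
  -- point stabilizers in N are transitive on the remaining points
  have hNa_tr : ∀ a b c : Ω, b ≠ a → c ≠ a → ∃ ν ∈ N, ν • a = a ∧ ν • b = c := by
    intro a b c hb hc
    have hpt : IsPretransitive G Ω := hprim.toIsPretransitive
    have h2' : IsMultiplyPretransitive (stabilizer G a) (SubMulAction.ofStabilizer G a) 2 :=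
      SubMulAction.ofStabilizer.isMultiplyPretransitive.mp h3
    have hprim' : IsPreprimitive (stabilizer G a) (SubMulAction.ofStabilizer G a) :=
      isPreprimitive_of_is_two_pretransitive h2'
    let M : Subgroup (stabilizer G a) := N.subgroupOf (stabilizer G a)
    have hMn : M.Normal := hNn.subgroupOf _
    have hfp : fixedPoints M (SubMulAction.ofStabilizer G a) ≠ Set.univ := by
      intro h
      obtain ⟨ν, hνN, hνa, hν1⟩ := hNa a
      apply hν1
      apply FaithfulSMul.eq_of_smul_eq_smul (α := Ω)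
      intro z
      rw [one_smul]
      by_cases hz : z = a
      · rw [hz, hνa]
      · have hzmem : (⟨z, hz⟩ : SubMulAction.ofStabilizer G a) ∈
            fixedPoints M (SubMulAction.ofStabilizer G a) := by rw [h]; trivial
        have := hzmem ⟨⟨ν, hνa⟩, hνN⟩
        exact congrArg Subtype.val this
    have hq : IsQuasiPreprimitive (stabilizer G a) (SubMulAction.ofStabilizer G a) :=
      inferInstance
    have hpt' : IsPretransitive M (SubMulAction.ofStabilizer G a) :=
      hq.isPretransitive_of_normal hfp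
    obtain ⟨m, hm⟩ := hpt'.exists_smul_eq ⟨b, hb⟩ ⟨c, hc⟩
    exact ⟨m.1.1, m.2, m.1.2, congrArg Subtype.val hm⟩
  intro a b c d hab hcd
  obtain ⟨ν1, hν1N, hν1⟩ := hNtr a c
  have hne : ν1 • b ≠ c := by
    rw [← hν1]
    intro h
    exact hab (MulAction.injective ν1 h).symm
  obtain ⟨ν2, hν2N, hν2c, hν2⟩ := hNa_tr c (ν1 • b) d hne (Ne.symm hcd)
  refine ⟨ν2 * ν1, N.mul_mem hν2N hν1N, ?_, ?_⟩
  · rw [mul_smul, hν1, hν2c]
  · rw [mul_smul, hν2]

end faithful

theorem result {α : Type*} [Fintype α] [DecidableEq α] (G : Subgroup (Equiv.Perm α)) (hodd : Odd (Fintype.card α)) (h5 : 5 ≤ Fintype.card α) (hG : MulAction.IsMultiplyPretransitive G α 3) (N : Subgroup G) [N.Normal] (hN : N ≠ ⊥) : MulAction.IsMultiplyPretransitive N α 3 := by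
  have hcard : Nat.card α = Fintype.card α := Nat.card_eq_fintype_card
  have hodd' : Odd (Nat.card α) := by rw [hcard]; exact hodd
  have h2t := normal_two_trans (G := G) (Ω := α) hG hodd' (by omega) N hN
  constructor
  intro e e'
  have he01 : e 0 ≠ e 1 := e.injective.ne (by decide)
  have he02 : e 0 ≠ e 2 := e.injective.ne (by decide)
  have he12 : e 1 ≠ e 2 := e.injective.ne (by decide)
  have he'01 : e' 0 ≠ e' 1 := e'.injective.ne (by decide)
  have he'02 : e' 0 ≠ e' 2 := e'.injective.ne (by decide)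
  have he'12 : e' 1 ≠ e' 2 := e'.injective.ne (by decide)
  obtain ⟨ν1, hν1N, h1a, h1b⟩ := h2t (e 0) (e 1) (e' 0) (e' 1) he01 he'01
  have hc1 : ν1 • e 2 ≠ e' 0 := by
    rw [← h1a]
    intro h
    exact he02 (MulAction.injective ν1 h).symm
  have hc2 : ν1 • e 2 ≠ e' 1 := by
    rw [← h1b]
    intro h
    exact he12 (MulAction.injective ν1 h).symm
  have hG3 : ∀ c c' : α, c ≠ e' 0 → c ≠ e' 1 → c' ≠ e' 0 → c' ≠ e' 1 →
      ∃ g : G, g • e' 0 = e' 0 ∧ g • e' 1 = e' 1 ∧ g • c = c' := by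
    intro c c' h1 h2 h3 h4
    exact exists_map3 hG he'01 (Ne.symm h1) (Ne.symm h2) he'01 (Ne.symm h3) (Ne.symm h4)
  obtain ⟨ν2, hν2N, h2x, h2y, h2c⟩ := wagner_core hodd' N h2t (e' 0) (e' 1) he'01 hG3
    (ν1 • e 2) (e' 2) hc1 hc2 (Ne.symm he'02) (Ne.symm he'12)
  refine ⟨⟨ν2 * ν1, N.mul_mem hν2N hν1N⟩, ?_⟩
  ext i
  rw [Function.Embedding.smul_apply]
  fin_cases i
  · show (ν2 * ν1) • e 0 = e' 0
    rw [mul_smul, h1a, h2x]
  · show (ν2 * ν1) • e 1 = e' 1
    rw [mul_smul, h1b, h2y]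
  · show (ν2 * ν1) • e 2 = e' 2
    rw [mul_smul, h2c]

end Cfsg.Agent.S0699
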