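import Cfsg.Statements.S0701

set_option autoImplicit false
open Cfsg

namespace Cfsg.Agent.S0701

theorem eq_of_smul_eq {α : Type*} (G : Subgroup (Equiv.Perm α))
    (hreg : ∀ a : α, MulAction.stabilizer G a = ⊥) {g h : G} {a : α} (hgh : g • a = h • a) :
    g = h := by
  have : h⁻¹ * g ∈ MulAction.stabilizer G a := by
    rw [MulAction.mem_stabilizer_iff, mul_smul, hgh, inv_smul_smul]
  rw [hreg a, Subgroup.mem_bot] at this
  have := congrArg (fun x => h * x) this
  simpa using this

/-- The centraliser in the full symmetric group of a transitive permutation group `G` is semiregular, and it is transitive if and only if `G` is regular. -/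
theorem result {α : Type*} (G : Subgroup (Equiv.Perm α)) [MulAction.IsPretransitive G α] : (∀ c ∈ Subgroup.centralizer (G : Set (Equiv.Perm α)), ∀ a : α, c a = a → c = 1) ∧ (MulAction.IsPretransitive (Subgroup.centralizer (G : Set (Equiv.Perm α))) α ↔ ∀ a : α, MulAction.stabilizer G a = ⊥) := by
  refine ⟨?_, ?_, ?_⟩
  · intro c hc a hca
    ext x
    obtain ⟨g, rfl⟩ := MulAction.exists_smul_eq G a x
    have h1 := hc (g : Equiv.Perm α) g.2
    have h2 : c ((g : Equiv.Perm α) a) = (g : Equiv.Perm α) (c a) := by
      have := congrArg (fun σ : Equiv.Perm α => σ a) h1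
      simpa using this.symm
    rw [hca] at h2
    exact h2
  · intro hC a
    rw [Subgroup.eq_bot_iff_forall]
    intro g hg
    rw [MulAction.mem_stabilizer_iff] at hg
    apply Subtype.ext
    ext x
    obtain ⟨c, rfl⟩ := MulAction.exists_smul_eq (Subgroup.centralizer (G : Set (Equiv.Perm α))) a x
    have h1 := c.2 (g : Equiv.Perm α) g.2
    have h2 := congrArg (fun σ : Equiv.Perm α => σ a) h1
    have hg' : (g : Equiv.Perm α) a = a := hg
    simp only [Equiv.Perm.coe_mul, Function.comp_apply, hg'] at h2
    exact h2
  · intro hreg
    refine ⟨fun a b => ?_⟩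
    have hex : ∀ (u x : α), ∃ g : G, g • u = x := fun u x => MulAction.exists_smul_eq G u x
    choose f hf using hex
    -- the permutation sending `g • a` to `g • b`
    let c : Equiv.Perm α :=
      { toFun := fun x => f a x • b
        invFun := fun y => f b y • a
        left_inv := by
          intro x
          have h1 : f b (f a x • b) = f a x := eq_of_smul_eq G hreg (hf b _)
          simp only [h1, hf]
        right_inv := by
          intro y
          have h1 : f a (f b y • a) = f b y := eq_of_smul_eq G hreg (hf a _)
          simp only [h1, hf] }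
    have hc : c ∈ Subgroup.centralizer (G : Set (Equiv.Perm α)) := by
      intro h hh
      ext x
      show h (f a x • b) = f a (h x) • b
      have h1 : f a (h x) = (⟨h, hh⟩ : G) * f a x := by
        apply eq_of_smul_eq G hreg (a := a)
        rw [hf, mul_smul, hf]
        rfl
      rw [h1, mul_smul]
      rfl
    refine ⟨⟨c, hc⟩, ?_⟩
    show f a a • b = b
    have h1 : f a a = 1 := eq_of_smul_eq G hreg (a := a) (by rw [hf, one_smul])
    rw [h1, one_smul]

end Cfsg.Agent.S0701
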