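import Mathlib
import Cfsg.Statements.S0702

set_option autoImplicit false
open Cfsg

namespace Cfsg.Agent.S0702

open MulAction

section

variable {α : Type*} (G : Subgroup (Equiv.Perm α)) [MulAction.IsPretransitive G α] (a : α)

/-- the map `g a ↦ g n⁻¹ a` -/
noncomputable def cf (n : G) (x : α) : α :=
  (Classical.choose (exists_smul_eq G a x)) • (n⁻¹ • a)

theorem cf_spec (n : G)
    (hn : n ∈ Subgroup.normalizer ((stabilizer G a : Subgroup G) : Set G)) (g : G) :
    cf G a n (g • a) = g • n⁻¹ • a := by
  have h0 : (Classical.choose (exists_smul_eq G a (g • a))) • a = g • a :=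
    Classical.choose_spec (exists_smul_eq G a (g • a))
  set g0 := Classical.choose (exists_smul_eq G a (g • a)) with hg0
  show g0 • n⁻¹ • a = g • n⁻¹ • a
  have h1 : g⁻¹ * g0 ∈ stabilizer G a := by
    rw [mem_stabilizer_iff, mul_smul, h0, inv_smul_smul]
  have h2 := (Subgroup.mem_normalizer_iff.1 hn (g⁻¹ * g0)).1 h1
  rw [mem_stabilizer_iff] at h2
  have h3 : g0 • n⁻¹ • a = g • n⁻¹ • ((n * (g⁻¹ * g0) * n⁻¹) • a) := by
    simp [mul_smul]
  rw [h3, h2]

/-- the permutation attached to an element of the normalizer of the stabilizer -/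
noncomputable def cperm (n : Subgroup.normalizer ((stabilizer G a : Subgroup G) : Set G)) :
    Equiv.Perm α where
  toFun := cf G a n
  invFun := cf G a (n : G)⁻¹
  left_inv x := by
    obtain ⟨g, rfl⟩ := exists_smul_eq G a x
    rw [cf_spec G a n n.2, ← mul_smul, cf_spec G a _ (inv_mem n.2)]
    simp [mul_smul]
  right_inv x := by
    obtain ⟨g, rfl⟩ := exists_smul_eq G a x
    rw [cf_spec G a _ (inv_mem n.2), ← mul_smul, cf_spec G a n n.2]
    simp [mul_smul]

theorem cperm_apply (n : Subgroup.normalizer ((stabilizer G a : Subgroup G) : Set G)) (g : G) :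
    cperm G a n (g • a) = g • (n : G)⁻¹ • a := cf_spec G a n n.2 g

theorem cperm_mem (n : Subgroup.normalizer ((stabilizer G a : Subgroup G) : Set G)) :
    cperm G a n ∈ Subgroup.centralizer (G : Set (Equiv.Perm α)) := by
  rw [Subgroup.mem_centralizer_iff]
  intro h hh
  ext x
  obtain ⟨g, rfl⟩ := exists_smul_eq G a x
  show h (cperm G a n (g • a)) = cperm G a n (h (g • a))
  have e1 : h (g • a) = ((⟨h, hh⟩ : G) * g) • a := by rw [mul_smul]; rfl
  rw [e1, cperm_apply, cperm_apply, mul_smul]
  rfl

/-- the homomorphism from the normalizer of the stabilizer to the centralizer -/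
noncomputable def chom : Subgroup.normalizer ((stabilizer G a : Subgroup G) : Set G) →*
    Subgroup.centralizer (G : Set (Equiv.Perm α)) where
  toFun n := ⟨cperm G a n, cperm_mem G a n⟩
  map_one' := by
    apply Subtype.ext
    ext x
    obtain ⟨g, rfl⟩ := exists_smul_eq G a x
    show cperm G a 1 (g • a) = g • a
    rw [cperm_apply]
    simp
  map_mul' n m := by
    apply Subtype.ext
    ext x
    obtain ⟨g, rfl⟩ := exists_smul_eq G a x
    show cperm G a (n * m) (g • a) = cperm G a n (cperm G a m (g • a))
    have e : cperm G a m (g • a) = (g * (m : G)⁻¹) • a := by rw [cperm_apply, mul_smul]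
    rw [e, cperm_apply, cperm_apply]
    simp [mul_smul]

theorem chom_apply (n : Subgroup.normalizer ((stabilizer G a : Subgroup G) : Set G)) (g : G) :
    ((chom G a n : Subgroup.centralizer (G : Set (Equiv.Perm α))) : Equiv.Perm α) (g • a)
      = g • (n : G)⁻¹ • a := cperm_apply G a n g

theorem chom_ker : (chom G a).ker = (stabilizer G a).subgroupOf
    (Subgroup.normalizer ((stabilizer G a : Subgroup G) : Set G)) := by
  ext n
  rw [MonoidHom.mem_ker, Subgroup.mem_subgroupOf, mem_stabilizer_iff]
  constructor
  · intro h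
    have h1 := chom_apply G a n 1
    rw [h, one_smul, one_smul] at h1
    have h2 : (n : G)⁻¹ • a = a := by
      rw [← h1]; rfl
    rw [inv_smul_eq_iff] at h2
    exact h2.symm
  · intro h
    apply Subtype.ext
    ext x
    obtain ⟨g, rfl⟩ := exists_smul_eq G a x
    rw [chom_apply]
    have h2 : (n : G)⁻¹ • a = a := by rw [inv_smul_eq_iff, h]
    rw [h2]
    rfl

omit [MulAction.IsPretransitive G α] in
/-- an element of the centralizer is determined by its value at `a` -/
theorem centralizer_apply {c : Equiv.Perm α} (hc : c ∈ Subgroup.centralizer (G : Set (Equiv.Perm α)))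
    (g : G) (x : α) : c (g • x) = g • c x := by
  rw [Subgroup.mem_centralizer_iff] at hc
  have := hc g g.2
  have h2 := congrArg (fun σ : Equiv.Perm α => σ x) this
  simp only [Equiv.Perm.coe_mul, Function.comp_apply] at h2
  exact h2.symm

theorem mem_normalizer_of_stab_eq (m : G) (h : stabilizer G (m • a) = stabilizer G a) :
    m ∈ Subgroup.normalizer ((stabilizer G a : Subgroup G) : Set G) := by
  rw [Subgroup.mem_normalizer_iff]
  intro k
  constructor
  · intro hk
    rw [← h, mem_stabilizer_iff]
    rw [mem_stabilizer_iff] at hk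
    simp [mul_smul, hk]
  · intro hk
    rw [← h, mem_stabilizer_iff] at hk
    rw [mem_stabilizer_iff]
    have : (m * k * m⁻¹) • m • a = m • k • a := by simp [mul_smul]
    rw [this] at hk
    exact smul_left_cancel m hk

theorem chom_surj : Function.Surjective (chom G a) := by
  intro c
  obtain ⟨m, hm⟩ := exists_smul_eq G a ((c : Equiv.Perm α) a)
  have hstab : stabilizer G (m • a) = stabilizer G a := by
    ext k
    rw [mem_stabilizer_iff, mem_stabilizer_iff, hm, ← centralizer_apply G c.2]
    exact (c : Equiv.Perm α).injective.eq_iff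
  have hmN := mem_normalizer_of_stab_eq G a m hstab
  refine ⟨⟨m, hmN⟩⁻¹, ?_⟩
  apply Subtype.ext
  ext x
  obtain ⟨g, rfl⟩ := exists_smul_eq G a x
  rw [chom_apply, centralizer_apply G c.2, ← hm]
  simp

end

/-- For a transitive permutation group `G` on a finite set, the centraliser of `G` in the symmetric group is isomorphic to `N_G(G_ω)/G_ω`, and its orbit of `ω` is the set of fixed points of `G_ω`. -/
theorem result {α : Type*} [Finite α] (G : Subgroup (Equiv.Perm α)) [MulAction.IsPretransitive G α] (a : α) : Nonempty (Subgroup.centralizer (G : Set (Equiv.Perm α)) ≃* Subgroup.normalizer ((MulAction.stabilizer G a : Subgroup G) : Set G) ⧸ (MulAction.stabilizer G a).subgroupOf (Subgroup.normalizer ((MulAction.stabilizer G a : Subgroup G) : Set G))) ∧ MulAction.orbit (Subgroup.centralizer (G : Set (Equiv.Perm α))) a = MulAction.fixedPoints (MulAction.stabilizer G a) α := by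
  refine ⟨⟨?_⟩, ?_⟩
  · exact ((QuotientGroup.quotientMulEquivOfEq (chom_ker G a)).symm.trans
      (QuotientGroup.quotientKerEquivOfSurjective (chom G a) (chom_surj G a))).symm
  · ext b
    constructor
    · rintro ⟨c, rfl⟩
      intro k
      show (k : G) • ((c : Equiv.Perm α) a) = (c : Equiv.Perm α) a
      rw [← centralizer_apply G c.2]
      have : (k : G) • a = a := k.2
      rw [this]
    · intro hb
      obtain ⟨m, hm⟩ := exists_smul_eq G a b
      have hle : stabilizer G a ≤ stabilizer G (m • a) := by
        intro k hk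
        rw [mem_stabilizer_iff, hm]
        exact hb ⟨k, hk⟩
      have hstab : stabilizer G (m • a) = stabilizer G a := by
        symm
        apply Subgroup.eq_of_le_of_card_ge hle
        rw [stabilizer_smul_eq_stabilizer_map_conj]
        exact le_of_eq (Subgroup.card_map_of_injective (MulAut.conj m).injective)
      have hmN := mem_normalizer_of_stab_eq G a m hstab
      refine ⟨chom G a ⟨m, hmN⟩⁻¹, ?_⟩
      show ((chom G a ⟨m, hmN⟩⁻¹ : Subgroup.centralizer (G : Set (Equiv.Perm α))) : Equiv.Perm α) a = b
      have := chom_apply G a (⟨m, hmN⟩⁻¹) 1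
      rw [one_smul, one_smul] at this
      rw [this, ← hm]
      simp

end Cfsg.Agent.S0702
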