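import Cfsg.Statements.S0703
import Mathlib

set_option autoImplicit false
open Cfsg

namespace Cfsg.Agent.S0703

open Equiv MulAction

section general

variable {α : Type*}

/-- Transitivity of a subgroup of `Perm α` in elementary terms. -/
def Trans (P : Subgroup (Perm α)) : Prop := ∀ a b : α, ∃ p ∈ P, p a = b

/-- An element centralizing a transitive group and fixing a point is trivial. -/
theorem centralizer_semiregular (P : Subgroup (Perm α)) (hP : Trans P) (σ : Perm α)
    (hσ : σ ∈ Subgroup.centralizer (P : Set (Perm α))) (a : α) (ha : σ a = a) : σ = 1 := by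
  ext b
  obtain ⟨p, hp, rfl⟩ := hP a b
  have hc : p * σ = σ * p := hσ p hp
  have : σ (p a) = p (σ a) := by
    have := congrArg (fun f : Perm α => f a) hc
    simpa using this.symm
  rw [this, ha]; rfl

/-- If `Q` centralizes the transitive group `P` and is itself transitive, it is the full
centralizer. -/
theorem centralizer_eq_of_trans (P Q : Subgroup (Perm α)) (hP : Trans P) (hQ : Trans Q)
    (hQP : Q ≤ Subgroup.centralizer (P : Set (Perm α))) [Nonempty α] :
    Subgroup.centralizer (P : Set (Perm α)) = Q := by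
  apply le_antisymm _ hQP
  intro σ hσ
  obtain ⟨a⟩ := ‹Nonempty α›
  obtain ⟨q, hq, hqa⟩ := hQ a (σ a)
  have h1 : q⁻¹ * σ ∈ Subgroup.centralizer (P : Set (Perm α)) :=
    Subgroup.mul_mem _ (Subgroup.inv_mem _ (hQP hq)) hσ
  have h2 : (q⁻¹ * σ) a = a := by
    rw [Perm.mul_apply, ← hqa]; simp
  have h3 := centralizer_semiregular P hP _ h1 a h2
  have : σ = q := by
    have := congrArg (fun f => q * f) h3
    simpa using this
  rw [this]; exact hq

variable (G : Subgroup (Perm α))

theorem trans_map (M : Subgroup G) (hM : IsPretransitive M α) : Trans (M.map G.subtype) := by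
  intro a b
  obtain ⟨m, hm⟩ := hM.exists_smul_eq a b
  exact ⟨((m : G) : Perm α), ⟨(m : G), m.2, rfl⟩, hm⟩

theorem stabilizer_eq_bot_of_map_le (M : Subgroup G) (P : Subgroup (Perm α)) (hP : Trans P)
    (hMP : M.map G.subtype ≤ Subgroup.centralizer (P : Set (Perm α))) (a : α) :
    stabilizer M a = ⊥ := by
  rw [Subgroup.eq_bot_iff_forall]
  intro m hm
  rw [mem_stabilizer_iff] at hm
  have h1 : ((m : G) : Perm α) ∈ Subgroup.centralizer (P : Set (Perm α)) :=
    hMP ⟨(m : G), m.2, rfl⟩
  have h2 := centralizer_semiregular P hP _ h1 a hm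
  apply Subtype.ext
  apply Subtype.ext
  exact h2

/-- Normal subgroups of `G` meeting trivially commute elementwise. -/
theorem map_le_centralizer_of_inf_eq_bot (L M : Subgroup G) [L.Normal] [M.Normal]
    (h : L ⊓ M = ⊥) :
    L.map G.subtype ≤ Subgroup.centralizer ((M.map G.subtype : Subgroup (Perm α)) : Set (Perm α)) := by
  rintro _ ⟨l, hl, rfl⟩ _ ⟨m, hm, rfl⟩
  have hcomm : m * l = l * m := by
    have h1 : m * l * m⁻¹ * l⁻¹ ∈ L ⊓ M := by
      constructor
      · exact L.mul_mem (Subgroup.Normal.conj_mem inferInstance l hl m) (L.inv_mem hl)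
      · have : m * l * m⁻¹ * l⁻¹ = m * (l * m⁻¹ * l⁻¹) := by group
        rw [this]
        exact M.mul_mem hm (Subgroup.Normal.conj_mem inferInstance m⁻¹ (M.inv_mem hm) l)
    rw [h, Subgroup.mem_bot] at h1
    have : m * l = (m * l * m⁻¹ * l⁻¹) * (l * m) := by group
    rw [this, h1, one_mul]
  have := congrArg (fun x : G => (x : Perm α)) hcomm
  simpa using this

theorem le_of_map_le_map (L M : Subgroup G) (h : L.map G.subtype ≤ M.map G.subtype) : L ≤ M := by
  intro l hl
  obtain ⟨m, hm, hml⟩ := h ⟨l, hl, rfl⟩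
  have : m = l := Subtype.ext hml
  rw [← this]; exact hm

end general

/-- An abelian transitive minimal normal subgroup `M` of a permutation group on a finite set is self-centralising in the symmetric group, regular, elementary abelian, and is the unique minimal normal subgroup. -/
theorem result {α : Type*} [Finite α] (G : Subgroup (Equiv.Perm α)) (M : Subgroup G) [M.Normal] (hM : M ≠ ⊥) (hmin : ∀ L : Subgroup G, L.Normal → L ≤ M → L = ⊥ ∨ L = M) (hab : IsMulCommutative M) (htrans : MulAction.IsPretransitive M α) : Subgroup.centralizer ((M.map G.subtype : Subgroup (Equiv.Perm α)) : Set (Equiv.Perm α)) = M.map G.subtype ∧ (∀ a : α, MulAction.stabilizer M a = ⊥) ∧ (∃ p : ℕ, p.Prime ∧ ∀ m ∈ M, m ^ p = 1) ∧ ∀ L : Subgroup G, L.Normal → L ≠ ⊥ → (∀ L' : Subgroup G, L'.Normal → L' ≤ L → L' = ⊥ ∨ L' = L) → L = M := by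
  classical
  have hT : Trans (M.map G.subtype) := trans_map G M htrans
  -- α is nonempty
  have hne : Nonempty α := by
    by_contra h
    rw [not_nonempty_iff] at h
    apply hM
    rw [Subgroup.eq_bot_iff_forall]
    intro m _
    apply Subtype.ext
    apply Equiv.ext
    intro a; exact (h.false a).elim
  -- M is abelian: M' ≤ centralizer M'
  have hMc : M.map G.subtype ≤
      Subgroup.centralizer ((M.map G.subtype : Subgroup (Perm α)) : Set (Perm α)) := by
    rintro _ ⟨m, hm, rfl⟩ _ ⟨m', hm', rfl⟩
    have h1 : (⟨m', hm'⟩ : M) * ⟨m, hm⟩ = ⟨m, hm⟩ * ⟨m', hm'⟩ := hab.is_comm.comm _ _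
    have h2 : m' * m = m * m' := congrArg Subtype.val h1
    have := congrArg (fun x : G => (x : Perm α)) h2
    simpa using this
  have hcent := centralizer_eq_of_trans _ _ hT hT hMc
  have hreg : ∀ a : α, stabilizer M a = ⊥ :=
    fun a => stabilizer_eq_bot_of_map_le G M _ hT hMc a
  refine ⟨hcent, hreg, ?_, ?_⟩
  · -- elementary abelian
    have hMfin : Finite M := inferInstance
    have hMnt : Nontrivial M := by
      rw [← Subgroup.nontrivial_iff_ne_bot] at hM; exact hM
    have hcard : 1 < Nat.card M := Finite.one_lt_card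
    obtain ⟨p, hp, hpd⟩ := Nat.exists_prime_and_dvd (ne_of_gt hcard)
    have := Fact.mk hp
    obtain ⟨y, hy⟩ := exists_prime_orderOf_dvd_card' (G := M) p hpd
    refine ⟨p, hp, ?_⟩
    -- the subgroup of elements of M killed by p
    let L : Subgroup G :=
      { carrier := {x | x ∈ M ∧ x ^ p = 1}
        one_mem' := ⟨M.one_mem, one_pow p⟩
        mul_mem' := by
          rintro a b ⟨ha, ha'⟩ ⟨hb, hb'⟩
          refine ⟨M.mul_mem ha hb, ?_⟩
          have h1 : (⟨a, ha⟩ : M) * ⟨b, hb⟩ = ⟨b, hb⟩ * ⟨a, ha⟩ := hab.is_comm.comm _ _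
          have h2 : a * b = b * a := congrArg Subtype.val h1
          rw [(Commute.mul_pow h2 p), ha', hb', one_mul]
        inv_mem' := by
          rintro a ⟨ha, ha'⟩
          exact ⟨M.inv_mem ha, by rw [inv_pow, ha', inv_one]⟩ }
    have hLn : L.Normal := by
      constructor
      rintro n ⟨hn, hn'⟩ g
      refine ⟨Subgroup.Normal.conj_mem inferInstance n hn g, ?_⟩
      rw [conj_pow, hn', mul_one, mul_inv_cancel]
    have hLM : L ≤ M := fun x hx => hx.1
    rcases hmin L hLn hLM with h | h
    · exfalso
      have hyL : (y : G) ∈ L := by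
        refine ⟨y.2, ?_⟩
        have : y ^ p = 1 := by rw [← hy]; exact pow_orderOf_eq_one y
        have := congrArg Subtype.val this
        simpa using this
      rw [h, Subgroup.mem_bot] at hyL
      have hy1 : y = 1 := Subtype.ext hyL
      rw [hy1, orderOf_one] at hy
      exact hp.one_lt.ne hy
    · intro m hm
      have : m ∈ L := by rw [h]; exact hm
      exact this.2
  · -- uniqueness
    intro L hLn hL hLmin
    have hinf : (L ⊓ M).Normal := Subgroup.normal_inf_normal L M
    rcases hmin (L ⊓ M) hinf inf_le_right with h | h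
    · exfalso
      have h1 := map_le_centralizer_of_inf_eq_bot G L M h
      rw [hcent] at h1
      have h2 : L ≤ M := le_of_map_le_map G L M h1
      have : L ⊓ M = L := inf_eq_left.mpr h2
      rw [this] at h
      exact hL h
    · have hML : M ≤ L := by rw [← h]; exact inf_le_left
      rcases hLmin M inferInstance hML with h' | h'
      · exact absurd h' hM
      · exact h'.symm

end Cfsg.Agent.S0703
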