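import Cfsg.Statements.S0704
import Cfsg.Agent.S0703

set_option autoImplicit false
open Cfsg

namespace Cfsg.Agent.S0704

open Equiv MulAction Cfsg.Agent.S0703

/-- Two distinct transitive minimal normal subgroups `M`, `N` of a permutation group are regular, non-abelian, isomorphic, each other's centraliser in the symmetric group, and the only minimal normal subgroups. -/
theorem result {α : Type*} (G : Subgroup (Equiv.Perm α)) (M N : Subgroup G) [M.Normal] [N.Normal] (hM : M ≠ ⊥) (hN : N ≠ ⊥) (hMmin : ∀ L : Subgroup G, L.Normal → L ≤ M → L = ⊥ ∨ L = M) (hNmin : ∀ L : Subgroup G, L.Normal → L ≤ N → L = ⊥ ∨ L = N) (hMN : M ≠ N) (hMt : MulAction.IsPretransitive M α) (hNt : MulAction.IsPretransitive N α) : (∀ a : α, MulAction.stabilizer M a = ⊥) ∧ (∀ a : α, MulAction.stabilizer N a = ⊥) ∧ ¬ IsMulCommutative M ∧ Nonempty (M ≃* N) ∧ Subgroup.centralizer ((M.map G.subtype : Subgroup (Equiv.Perm α)) : Set (Equiv.Perm α)) = N.map G.subtype ∧ Subgroup.centralizer ((N.map G.subtype : Subgroup (Equiv.Perm α)) : Set (Equiv.Perm α))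 = M.map G.subtype ∧ ∀ L : Subgroup G, L.Normal → L ≠ ⊥ → (∀ L' : Subgroup G, L'.Normal → L' ≤ L → L' = ⊥ ∨ L' = L) → L = M ∨ L = N := by
  classical
  have hTM : Trans (M.map G.subtype) := trans_map G M hMt
  have hTN : Trans (N.map G.subtype) := trans_map G N hNt
  have hne : Nonempty α := by
    by_contra h
    rw [not_nonempty_iff] at h
    apply hM
    rw [Subgroup.eq_bot_iff_forall]
    intro m _
    apply Subtype.ext
    apply Equiv.ext
    intro a; exact (h.false a).elim
  -- M ⊓ N = ⊥
  have hinfn : (M ⊓ N).Normal := Subgroup.normal_inf_normal M N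
  have hinf : M ⊓ N = ⊥ := by
    rcases hMmin (M ⊓ N) hinfn inf_le_left with h | h
    · exact h
    · exfalso
      have hMN' : M ≤ N := by rw [← h]; exact inf_le_right
      rcases hNmin M inferInstance hMN' with h' | h'
      · exact hM h'
      · exact hMN h'
  have hinf' : N ⊓ M = ⊥ := by rw [inf_comm]; exact hinf
  have hMcN := map_le_centralizer_of_inf_eq_bot G M N hinf
  have hNcM := map_le_centralizer_of_inf_eq_bot G N M hinf'
  have hcM := centralizer_eq_of_trans _ _ hTM hTN hNcM
  have hcN := centralizer_eq_of_trans _ _ hTN hTM hMcN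
  have hregM : ∀ a : α, stabilizer M a = ⊥ :=
    fun a => stabilizer_eq_bot_of_map_le G M _ hTN hMcN a
  have hregN : ∀ a : α, stabilizer N a = ⊥ :=
    fun a => stabilizer_eq_bot_of_map_le G N _ hTM hNcM a
  have hcommMN : ∀ (m : M) (n : N) (b : α), m • n • b = n • m • b := by
    intro m n b
    have h1 : ((m : G) : Perm α) ∈ Subgroup.centralizer
        ((N.map G.subtype : Subgroup (Perm α)) : Set (Perm α)) := hMcN ⟨(m : G), m.2, rfl⟩
    have h2 := h1 ((n : G) : Perm α) ⟨(n : G), n.2, rfl⟩
    have := congrArg (fun f : Perm α => f b) h2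
    simp only [Perm.mul_apply] at this
    exact this.symm
  refine ⟨hregM, hregN, ?_, ?_, hcM, hcN, ?_⟩
  · -- M is not abelian
    intro hab
    have hMc : M.map G.subtype ≤
        Subgroup.centralizer ((M.map G.subtype : Subgroup (Perm α)) : Set (Perm α)) := by
      rintro _ ⟨m, hm, rfl⟩ _ ⟨m', hm', rfl⟩
      have h1 : (⟨m', hm'⟩ : M) * ⟨m, hm⟩ = ⟨m, hm⟩ * ⟨m', hm'⟩ := hab.is_comm.comm _ _
      have h2 : m' * m = m * m' := congrArg Subtype.val h1
      have := congrArg (fun x : G => (x : Perm α)) h2
      simpa using this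
    rw [hcM] at hMc
    have h2 : M ≤ N := le_of_map_le_map G M N hMc
    have : M ⊓ N = M := inf_eq_left.mpr h2
    rw [this] at hinf
    exact hM hinf
  · -- the isomorphism
    obtain ⟨a⟩ := hne
    have hex : ∀ m : M, ∃ n : N, n • a = m⁻¹ • a := fun m => hNt.exists_smul_eq a (m⁻¹ • a)
    choose φ hφ using hex
    have huniq : ∀ n n' : N, n • a = n' • a → n = n' := by
      intro n n' h
      have h1 : (n'⁻¹ * n) ∈ stabilizer N a := by
        rw [mem_stabilizer_iff, mul_smul, h, inv_smul_smul]
      rw [hregN a, Subgroup.mem_bot] at h1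
      have := congrArg (fun x => n' * x) h1
      simpa using this
    have huniqM : ∀ m m' : M, m • a = m' • a → m = m' := by
      intro m m' h
      have h1 : (m'⁻¹ * m) ∈ stabilizer M a := by
        rw [mem_stabilizer_iff, mul_smul, h, inv_smul_smul]
      rw [hregM a, Subgroup.mem_bot] at h1
      have := congrArg (fun x => m' * x) h1
      simpa using this
    have hmul : ∀ m1 m2 : M, φ (m1 * m2) = φ m1 * φ m2 := by
      intro m1 m2
      apply huniq
      rw [hφ, mul_smul, hφ, mul_inv_rev, mul_smul, ← hcommMN, hφ]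
    refine ⟨MulEquiv.ofBijective (MonoidHom.mk' φ hmul) ⟨?_, ?_⟩⟩
    · intro m m' h
      have h1 : φ m = φ m' := h
      have h2 : m⁻¹ • a = m'⁻¹ • a := by rw [← hφ m, ← hφ m', h1]
      have h3 := huniqM _ _ h2
      exact inv_injective h3
    · intro n
      obtain ⟨m, hm⟩ := hMt.exists_smul_eq a (n • a)
      refine ⟨m⁻¹, ?_⟩
      show φ m⁻¹ = n
      apply huniq
      rw [hφ, inv_inv, hm]
  · -- uniqueness
    intro L hLn hL hLmin
    by_cases hLM : L = M
    · left; exact hLM
    · right
      have hLMinf : L ⊓ M = ⊥ := by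
        have hn : (L ⊓ M).Normal := Subgroup.normal_inf_normal L M
        rcases hMmin (L ⊓ M) hn inf_le_right with h | h
        · exact h
        · exfalso
          have hML : M ≤ L := by rw [← h]; exact inf_le_left
          rcases hLmin M inferInstance hML with h' | h'
          · exact hM h'
          · exact hLM h'.symm
      have h1 := map_le_centralizer_of_inf_eq_bot G L M hLMinf
      rw [hcM] at h1
      have h2 : L ≤ N := le_of_map_le_map G L N h1
      rcases hNmin L hLn h2 with h | h
      · exact absurd h hL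
      · exact h

end Cfsg.Agent.S0704
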