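import Mathlib
import Cfsg.Statements.S0705

set_option autoImplicit false
open Cfsg

namespace Cfsg.Agent.S0705

open MulAction SubMulAction
open scoped Pointwise

/-- generous transitivity, in a convenient form -/
def Gen (G α : Type*) [Group G] [MulAction G α] (k : ℕ) : Prop :=
  ∀ s : Finset α, s.card = k + 1 → ∀ τ : Equiv.Perm α, (∀ x, τ x ∈ s ↔ x ∈ s) →
    ∃ g : G, ∀ x ∈ s, g • x = τ x

theorem gen_trans {G α : Type*} [Group G] [MulAction G α] [Finite α] (k : ℕ)
    (hk : k < Nat.card α) (H : Gen G α k) : IsMultiplyPretransitive G α k := by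
  classical
  induction k generalizing G α with
  | zero => exact is_zero_pretransitive'
  | succ k ih =>
    have : Fintype α := Fintype.ofFinite α
    rw [Nat.card_eq_fintype_card] at hk
    -- transitivity
    have htr : IsPretransitive G α := by
      refine ⟨fun a b => ?_⟩
      by_cases hab : a = b
      · exact ⟨1, by rw [one_smul, hab]⟩
      · have hcard : ({a, b} : Finset α).card ≤ k + 1 + 1 := by
          rw [Finset.card_pair hab]; omega
        obtain ⟨u, hsu, _, hu⟩ := Finset.exists_subsuperset_card_eq
          (Finset.subset_univ ({a, b} : Finset α)) hcard (by rw [Finset.card_univ]; omega)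
        have ha : a ∈ u := hsu (by simp)
        have hb : b ∈ u := hsu (by simp)
        obtain ⟨g, hg⟩ := H u hu (Equiv.swap a b) (fun x => by
          by_cases hxa : x = a
          · subst hxa; simp [ha, hb]
          · by_cases hxb : x = b
            · subst hxb; simp [ha, hb]
            · rw [Equiv.swap_apply_of_ne_of_ne hxa hxb])
        exact ⟨g, by rw [hg a ha, Equiv.swap_apply_left]⟩
    have hne : Nonempty α := by
      rw [← Fintype.card_pos_iff]; omega
    obtain ⟨a⟩ := hne
    rw [ofStabilizer.isMultiplyPretransitive (a := a)]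
    apply ih
    · have := nat_card_ofStabilizer_add_one_eq G a
      rw [Nat.card_eq_fintype_card (α := α)] at this
      omega
    · -- generous transitivity of the stabilizer
      intro s' hs' τ' hτ'
      let emb : ofStabilizer G a ↪ α := ⟨Subtype.val, Subtype.val_injective⟩
      let s : Finset α := insert a (s'.map emb)
      have has : a ∉ s'.map emb := by
        intro h
        rw [Finset.mem_map] at h
        obtain ⟨x, _, hx⟩ := h
        exact x.2 hx
      have hs : s.card = k + 1 + 1 := by
        rw [Finset.card_insert_of_notMem has, Finset.card_map, hs']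
      let τ : Equiv.Perm α := Equiv.Perm.ofSubtype (p := fun x => x ∈ ofStabilizer G a) τ'
      have hτa : τ a = a := Equiv.Perm.ofSubtype_apply_of_not_mem _ (fun h => h rfl)
      have hτx : ∀ x : ofStabilizer G a, τ (x : α) = τ' x := fun x =>
        Equiv.Perm.ofSubtype_apply_coe _ x
      have hmem : ∀ x : ofStabilizer G a, (x : α) ∈ s ↔ x ∈ s' := by
        intro x
        simp only [s, Finset.mem_insert, Finset.mem_map]
        constructor
        · rintro (h | ⟨y, hy, hyx⟩)
          · exact absurd h x.2
          · have : y = x := Subtype.ext hyx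
            rwa [← this]
        · intro h
          exact Or.inr ⟨x, h, rfl⟩
      have hτs : ∀ x, τ x ∈ s ↔ x ∈ s := by
        intro x
        by_cases hxa : x = a
        · subst hxa; rw [hτa]
        · have := hτx ⟨x, hxa⟩
          simp only at this
          rw [this, hmem (τ' ⟨x, hxa⟩), hτ' ⟨x, hxa⟩, ← hmem ⟨x, hxa⟩]
      obtain ⟨g, hg⟩ := H s hs τ hτs
      have hga : g • a = a := by
        rw [hg a (Finset.mem_insert_self _ _), hτa]
      refine ⟨⟨g, hga⟩, fun x hx => ?_⟩
      apply Subtype.ext
      have h1 : ((⟨g, hga⟩ : stabilizer G a) • x : ofStabilizer G a) = g • (x : α) := rfl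
      rw [h1, hg (x : α) ((hmem x).2 hx), hτx x]

/-- A generously `k`-transitive permutation group (every `(k+1)`-subset has its full symmetric group induced by the setwise stabiliser) of degree greater than `k` is `k`-transitive, and for a `k`-subset the setwise and pointwise stabilisers have the same orbits outside it. -/
theorem result {α : Type*} [Fintype α] [DecidableEq α] (G : Subgroup (Equiv.Perm α)) {k : ℕ} (hk : k < Fintype.card α) (hgen : ∀ s : Finset α, s.card = k + 1 → ∀ σ : Equiv.Perm ↥s, ∃ g ∈ G, ∀ x : ↥s, g (x : α) = σ x) : MulAction.IsMultiplyPretransitive G α k ∧ ∀ s : Finset α, s.card = k → ∀ a b : α, a ∉ s → b ∉ s → (∃ g ∈ G, g • s = s ∧ g a = b) → ∃ g ∈ G, (∀ x ∈ s, g x = x) ∧ g a = b := by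
  have H : ∀ s : Finset α, s.card = k + 1 → ∀ τ : Equiv.Perm α, (∀ x, τ x ∈ s ↔ x ∈ s) →
      ∃ g ∈ G, ∀ x ∈ s, g x = τ x := by
    intro s hs τ hτ
    obtain ⟨g, hg, hgσ⟩ := hgen s hs (τ.subtypePerm hτ)
    exact ⟨g, hg, fun x hx => by simpa using hgσ ⟨x, hx⟩⟩
  refine ⟨?_, ?_⟩
  · apply gen_trans k (by rw [Nat.card_eq_fintype_card]; exact hk)
    intro s hs τ hτ
    obtain ⟨g, hg, hgτ⟩ := H s hs τ hτ
    exact ⟨⟨g, hg⟩, hgτ⟩
  · intro s hs a b ha hb ⟨g, hg, hgs, hgab⟩
    by_cases hab : a = b
    · exact ⟨1, G.one_mem, fun x _ => rfl, by simpa using hab⟩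
    · -- g preserves s
      have hgs' : ∀ x, x ∈ s ↔ g x ∈ s := by
        intro x
        constructor
        · intro hx
          rw [← hgs]
          exact Finset.smul_mem_smul_finset hx
        · intro hx
          rw [← hgs] at hx
          obtain ⟨y, hy, hyx⟩ := Finset.mem_smul_finset.1 hx
          have : y = x := g.injective hyx
          rwa [← this]
      have hginv : ∀ x, x ∈ s ↔ g⁻¹ x ∈ s := by
        intro x
        rw [hgs' (g⁻¹ x)]
        simp
      let t : Finset α := insert b s
      have ht : t.card = k + 1 := by
        rw [Finset.card_insert_of_notMem hb, hs]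
      let τ : Equiv.Perm α := Equiv.swap a b * g⁻¹
      have hτs : ∀ x ∈ s, τ x = g⁻¹ x := by
        intro x hx
        have h1 : g⁻¹ x ∈ s := (hginv x).1 hx
        show Equiv.swap a b (g⁻¹ x) = g⁻¹ x
        apply Equiv.swap_apply_of_ne_of_ne
        · rintro h; rw [h] at h1; exact ha h1
        · rintro h; rw [h] at h1; exact hb h1
      have hginvb : g⁻¹ b = a := by
        rw [← hgab]; simp
      have hτb : τ b = b := by
        show Equiv.swap a b (g⁻¹ b) = b
        rw [hginvb, Equiv.swap_apply_left]
      have hτt : ∀ x, τ x ∈ t ↔ x ∈ t := by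
        intro x
        by_cases hxb : x = b
        · subst hxb; rw [hτb]
        · by_cases hxs : x ∈ s
          · rw [hτs x hxs]
            simp only [t, Finset.mem_insert]
            constructor
            · intro _; exact Or.inr hxs
            · intro _; exact Or.inr ((hginv x).1 hxs)
          · simp only [t, Finset.mem_insert, hxb, hxs, or_self, iff_false]
            rintro (h | h)
            · have : x = b := τ.injective (h.trans hτb.symm)
              exact hxb this
            · -- τ x ∈ s, so x = τ⁻¹ (τ x), and τ⁻¹ y = g (swap y) = g y ∈ s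
              have h2 : Equiv.swap a b (τ x) = τ x := by
                apply Equiv.swap_apply_of_ne_of_ne
                · rintro h'; rw [h'] at h; exact ha h
                · rintro h'; rw [h'] at h; exact hb h
              have h3 : Equiv.swap a b (τ x) = g⁻¹ x := by
                show Equiv.swap a b (Equiv.swap a b (g⁻¹ x)) = g⁻¹ x
                simp
              rw [h2] at h3
              rw [h3] at h
              exact hxs ((hginv x).2 h)
      obtain ⟨h, hh, hhτ⟩ := H t ht τ hτt
      refine ⟨h * g, G.mul_mem hh hg, ?_, ?_⟩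
      · intro x hx
        have hgx : g x ∈ s := (hgs' x).1 hx
        show h (g x) = x
        rw [hhτ (g x) (Finset.mem_insert_of_mem hgx), hτs (g x) hgx]
        simp
      · show h (g a) = b
        rw [hgab, hhτ b (Finset.mem_insert_self _ _), hτb]

end Cfsg.Agent.S0705
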