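import Cfsg.Statements.S0706
import Mathlib

set_option autoImplicit false
open Cfsg

namespace Cfsg.Agent.S0706

set_option linter.unusedSectionVars false

variable {α : Type*} [Fintype α] [DecidableEq α]

/-- The generosity hypothesis. -/
def Gen (G : Subgroup (Equiv.Perm α)) (k : ℕ) : Prop :=
  ∀ s : Finset α, s.card = k + 1 → ∀ σ : Equiv.Perm ↥s, ∃ g ∈ G, ∀ x : ↥s, g (x : α) = σ x

lemma gen_perm {G : Subgroup (Equiv.Perm α)} {k : ℕ} (hgen : Gen G k) (s : Finset α)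
    (hs : s.card = k + 1) (τ : Equiv.Perm α) (hτ : ∀ x, τ x ∈ s ↔ x ∈ s) :
    ∃ g ∈ G, ∀ x ∈ s, g x = τ x := by
  obtain ⟨g, hg, h⟩ := hgen s hs (τ.subtypePerm hτ)
  refine ⟨g, hg, fun x hx => ?_⟩
  have := h ⟨x, hx⟩
  simpa using this

lemma agree_mem_iff {s : Finset α} {g τ : Equiv.Perm α} (h : ∀ x ∈ s, g x = τ x)
    {A A' : Finset α} (hA : A ⊆ s) (hτ : ∀ x, τ x ∈ A' ↔ x ∈ A) (x : α) :
    g x ∈ A' ↔ x ∈ A := by
  constructor
  · intro hx
    have hy : τ⁻¹ (g x) ∈ A := by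
      rw [← hτ]; simpa using hx
    have h1 : g (τ⁻¹ (g x)) = g x := by
      rw [h _ (hA hy)]; simp
    have h2 := g.injective h1
    rw [← h2]; exact hy
  · intro hx
    rw [h x (hA hx)]; exact (hτ x).2 hx

lemma swap_mem_iff {A : Finset α} {a b : α} (ha : a ∈ A) (hb : b ∈ A) (x : α) :
    Equiv.swap a b x ∈ A ↔ x ∈ A := by
  by_cases hxa : x = a
  · subst hxa; simp [ha, hb]
  · by_cases hxb : x = b
    · subst hxb; simp [ha, hb]
    · rw [Equiv.swap_apply_of_ne_of_ne hxa hxb]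

/-- pointwise stabiliser inside `G`, as a subgroup of `Perm α`. -/
def pfix (G : Subgroup (Equiv.Perm α)) (A : Finset α) : Subgroup (Equiv.Perm α) where
  carrier := {g | g ∈ G ∧ ∀ x ∈ A, g x = x}
  one_mem' := ⟨G.one_mem, fun _ _ => rfl⟩
  mul_mem' := fun {a b} ha hb =>
    ⟨G.mul_mem ha.1 hb.1, fun x hx => by simp [hb.2 x hx, ha.2 x hx]⟩
  inv_mem' := fun {a} ha => ⟨G.inv_mem ha.1, fun x hx => by
    rw [Equiv.Perm.inv_eq_iff_eq]; exact (ha.2 x hx).symm⟩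

lemma mem_pfix {G : Subgroup (Equiv.Perm α)} {A : Finset α} {g : Equiv.Perm α} :
    g ∈ pfix G A ↔ g ∈ G ∧ ∀ x ∈ A, g x = x := Iff.rfl

/-- fixes `A` pointwise and `B` setwise. -/
def kc (G : Subgroup (Equiv.Perm α)) (A B : Finset α) : Subgroup (Equiv.Perm α) where
  carrier := {g | g ∈ G ∧ (∀ x ∈ A, g x = x) ∧ ∀ x, g x ∈ B ↔ x ∈ B}
  one_mem' := ⟨G.one_mem, fun _ _ => rfl, fun _ => Iff.rfl⟩
  mul_mem' := fun {a b} ha hb =>
    ⟨G.mul_mem ha.1 hb.1, fun x hx => by simp [hb.2.1 x hx, ha.2.1 x hx], fun x => by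
      rw [Equiv.Perm.mul_apply, ha.2.2, hb.2.2]⟩
  inv_mem' := fun {a} ha => ⟨G.inv_mem ha.1, fun x hx => by
    rw [Equiv.Perm.inv_eq_iff_eq]; exact (ha.2.1 x hx).symm, fun x => by
      rw [← ha.2.2 (a⁻¹ x)]; simp⟩

lemma mem_kc {G : Subgroup (Equiv.Perm α)} {A B : Finset α} {g : Equiv.Perm α} :
    g ∈ kc G A B ↔ g ∈ G ∧ (∀ x ∈ A, g x = x) ∧ ∀ x, g x ∈ B ↔ x ∈ B := Iff.rfl


lemma move_by_pfix {G : Subgroup (Equiv.Perm α)} {k : ℕ} (hgen : Gen G k) (Γ : Finset α)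
    (hΓ : Γ.card = k) (g : Equiv.Perm α) (hg : g ∈ G) (hgΓ : ∀ x, g x ∈ Γ ↔ x ∈ Γ)
    (x : α) (hx : x ∉ Γ) : ∃ h ∈ pfix G Γ, h x = g x := by
  have hinv : ∀ y, g⁻¹ y ∈ Γ ↔ y ∈ Γ := fun y => by
    rw [← hgΓ (g⁻¹ y)]; simp
  set τ : Equiv.Perm α := Equiv.Perm.ofSubtype (g⁻¹.subtypePerm hinv) with hτ
  have hτin : ∀ y ∈ Γ, τ y = g⁻¹ y := fun y hy => by
    rw [hτ, Equiv.Perm.ofSubtype_apply_of_mem _ hy]; rfl
  have hτout : ∀ y, y ∉ Γ → τ y = y := fun y hy => by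
    rw [hτ, Equiv.Perm.ofSubtype_apply_of_not_mem _ hy]
  have hs : (insert x Γ).card = k + 1 := by rw [Finset.card_insert_of_notMem hx, hΓ]
  have hτs : ∀ y, τ y ∈ insert x Γ ↔ y ∈ insert x Γ := by
    intro y
    by_cases hy : y ∈ Γ
    · rw [hτin y hy]
      have h1 : g⁻¹ y ∈ Γ := (hinv y).2 hy
      simp only [Finset.mem_insert, hy, h1, or_true]
    · rw [hτout y hy]
  obtain ⟨g', hg', hag⟩ := gen_perm hgen _ hs τ hτs
  refine ⟨g * g', ⟨G.mul_mem hg hg', fun y hy => ?_⟩, ?_⟩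
  · rw [Equiv.Perm.mul_apply, hag y (Finset.mem_insert_of_mem hy), hτin y hy]; simp
  · rw [Equiv.Perm.mul_apply, hag x (Finset.mem_insert_self _ _), hτout x hx]

lemma kc_trans {G : Subgroup (Equiv.Perm α)} {k : ℕ} (hgen : Gen G k) (Γ₀ Γ₁ : Finset α)
    (hdisj : Disjoint Γ₀ Γ₁) (hcard : (Γ₀ ∪ Γ₁).card = k) (hk : k < Fintype.card α)
    {a b : α} (ha : a ∈ Γ₁) (hb : b ∈ Γ₁) : ∃ g ∈ kc G Γ₀ Γ₁, g a = b := by
  obtain ⟨d, hd⟩ : ∃ d, d ∉ Γ₀ ∪ Γ₁ := by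
    by_contra hcon
    rw [not_exists] at hcon
    have : Γ₀ ∪ Γ₁ = Finset.univ := Finset.eq_univ_iff_forall.2 fun x => not_not.1 (hcon x)
    rw [this, Finset.card_univ] at hcard
    omega
  have hs : (insert d (Γ₀ ∪ Γ₁)).card = k + 1 := by
    rw [Finset.card_insert_of_notMem hd, hcard]
  have ha' : a ∈ insert d (Γ₀ ∪ Γ₁) := by simp [ha]
  have hb' : b ∈ insert d (Γ₀ ∪ Γ₁) := by simp [hb]
  obtain ⟨g, hg, hag⟩ := gen_perm hgen _ hs (Equiv.swap a b) (swap_mem_iff ha' hb')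
  refine ⟨g, ⟨hg, fun x hx => ?_, ?_⟩, ?_⟩
  · rw [hag x (by simp [hx])]
    apply Equiv.swap_apply_of_ne_of_ne
    · rintro rfl; exact Finset.disjoint_left.1 hdisj hx ha
    · rintro rfl; exact Finset.disjoint_left.1 hdisj hx hb
  · exact agree_mem_iff hag (by intro y hy; simp [hy]) (swap_mem_iff ha hb)
  · rw [hag a ha', Equiv.swap_apply_left]

lemma homog {G : Subgroup (Equiv.Perm α)} {k : ℕ} (hgen : Gen G k) :
    ∀ n : ℕ, ∀ A B : Finset α, A.card = k → B.card = k → (A \ B).card = n →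
      ∃ g ∈ G, ∀ x, g x ∈ B ↔ x ∈ A := by
  intro n
  induction n with
  | zero =>
    intro A B hA hB h0
    have hsub : A ⊆ B := by
      rw [Finset.card_eq_zero, Finset.sdiff_eq_empty_iff_subset] at h0; exact h0
    have : A = B := Finset.eq_of_subset_of_card_le hsub (by rw [hA, hB])
    exact ⟨1, G.one_mem, fun x => by simp [this]⟩
  | succ n ih =>
    intro A B hA hB hn
    obtain ⟨a, ha⟩ : (A \ B).Nonempty := by rw [← Finset.card_pos]; omega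
    have hBA : (B \ A).card = n + 1 := by
      rw [← hn]; exact Finset.card_sdiff_comm (by rw [hA, hB])
    obtain ⟨b, hb⟩ : (B \ A).Nonempty := by rw [← Finset.card_pos]; omega
    rw [Finset.mem_sdiff] at ha hb
    have hab : a ≠ b := by rintro rfl; exact ha.2 hb.1
    have hs : (insert b A).card = k + 1 := by rw [Finset.card_insert_of_notMem hb.2, hA]
    obtain ⟨g₁, hg₁, hag⟩ := gen_perm hgen _ hs (Equiv.swap a b)
      (swap_mem_iff (by simp [ha.1]) (by simp))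
    set A' := insert b (A.erase a) with hA'
    have hswap : ∀ x, Equiv.swap a b x ∈ A' ↔ x ∈ A := by
      intro x
      by_cases hxa : x = a
      · subst hxa; simp [hA', ha.1]
      · by_cases hxb : x = b
        · subst hxb; simp [hA', hb.2, hab]
        · rw [Equiv.swap_apply_of_ne_of_ne hxa hxb]; simp [hA', hxa, hxb]
    have h1 : ∀ x, g₁ x ∈ A' ↔ x ∈ A := agree_mem_iff hag (Finset.subset_insert _ _) hswap
    have hA'card : A'.card = k := by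
      rw [hA', Finset.card_insert_of_notMem, Finset.card_erase_of_mem ha.1, hA]
      · have : 0 < k := by rw [← hA]; exact Finset.card_pos.2 ⟨a, ha.1⟩
        omega
      · simp [hb.2]
    have hdiff : (A' \ B).card = n := by
      have : A' \ B = (A \ B).erase a := by
        ext x
        by_cases hxb : x = b
        · subst hxb; simp [hA', hb.1]
        · simp [hA', hxb]; tauto
      rw [this, Finset.card_erase_of_mem (Finset.mem_sdiff.2 ha), hn]; rfl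
    obtain ⟨g₂, hg₂, h2⟩ := ih A' B hA'card hB hdiff
    exact ⟨g₂ * g₁, G.mul_mem hg₂ hg₁, fun x => by rw [Equiv.Perm.mul_apply, h2, h1]⟩

lemma card_pfix_dvd {G : Subgroup (Equiv.Perm α)} {A B : Finset α} {g : Equiv.Perm α}
    (hg : g ∈ G) (h : ∀ x, g x ∈ B ↔ x ∈ A) (S : Subgroup (Equiv.Perm α))
    (hS : S ≤ pfix G B) : Nat.card S ∣ Nat.card (pfix G A) := by
  have hle : S.map (MulAut.conj g⁻¹).toMonoidHom ≤ pfix G A := by
    rintro _ ⟨s, hs, rfl⟩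
    have hs' := hS hs
    refine ⟨?_, fun x hx => ?_⟩
    · simp only [MulEquiv.coe_toMonoidHom, MulAut.conj_apply, inv_inv]
      exact G.mul_mem (G.mul_mem (G.inv_mem hg) hs'.1) hg
    · simp only [MulEquiv.coe_toMonoidHom, MulAut.conj_apply, inv_inv, Equiv.Perm.mul_apply]
      rw [hs'.2 (g x) ((h x).2 hx)]; simp
  have hcard : Nat.card (S.map (MulAut.conj g⁻¹).toMonoidHom) = Nat.card S :=
    Subgroup.card_map_of_injective (MulAut.conj g⁻¹).injective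
  rw [← hcard]
  exact Subgroup.card_dvd_of_le hle

lemma pfix_le_kc (G : Subgroup (Equiv.Perm α)) (Γ₀ Γ₁ : Finset α) :
    pfix G (Γ₀ ∪ Γ₁) ≤ kc G Γ₀ Γ₁ := by
  intro g hg
  refine ⟨hg.1, fun x hx => hg.2 x (by simp [hx]), fun x => ⟨fun hx => ?_, fun hx => ?_⟩⟩
  · have h1 : g (g x) = g x := hg.2 (g x) (by simp [hx])
    have h2 := g.injective h1
    rw [← h2]; exact hx
  · rw [hg.2 x (by simp [hx])]; exact hx

lemma kc_pres {G : Subgroup (Equiv.Perm α)} {Γ₀ Γ₁ : Finset α} {g : Equiv.Perm α}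
    (hg : g ∈ kc G Γ₀ Γ₁) (x : α) : g x ∈ Γ₀ ∪ Γ₁ ↔ x ∈ Γ₀ ∪ Γ₁ := by
  rw [Finset.mem_union, Finset.mem_union]
  constructor
  · rintro (hx | hx)
    · left
      have h1 : g (g x) = g x := hg.2.1 (g x) hx
      have h2 := g.injective h1
      rw [← h2]; exact hx
    · right; exact (hg.2.2 x).1 hx
  · rintro (hx | hx)
    · left; rw [hg.2.1 x hx]; exact hx
    · right; exact (hg.2.2 x).2 hx

lemma p_mul_dvd {G : Subgroup (Equiv.Perm α)} {k : ℕ} (hgen : Gen G k) (Γ₀ Γ₁ : Finset α)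
    (hdisj : Disjoint Γ₀ Γ₁) (hcard : (Γ₀ ∪ Γ₁).card = k) (hk : k < Fintype.card α)
    (hne : Γ₁.Nonempty) :
    Γ₁.card * Nat.card (pfix G (Γ₀ ∪ Γ₁)) ∣ Nat.card (kc G Γ₀ Γ₁) := by
  obtain ⟨a, ha⟩ := hne
  have horb : MulAction.orbit (kc G Γ₀ Γ₁) a = (Γ₁ : Set α) := by
    ext b
    constructor
    · rintro ⟨⟨g, hg⟩, rfl⟩
      exact (hg.2.2 a).2 ha
    · intro hb
      obtain ⟨g, hg, hgab⟩ := kc_trans hgen Γ₀ Γ₁ hdisj hcard hk ha hb
      exact ⟨⟨g, hg⟩, hgab⟩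
  have hidx : (MulAction.stabilizer (kc G Γ₀ Γ₁) a).index = Γ₁.card := by
    rw [MulAction.index_stabilizer, horb, Set.ncard_coe_finset]
  have hle : (pfix G (Γ₀ ∪ Γ₁)).subgroupOf (kc G Γ₀ Γ₁) ≤
      MulAction.stabilizer (kc G Γ₀ Γ₁) a := by
    intro g hg
    rw [Subgroup.mem_subgroupOf] at hg
    rw [MulAction.mem_stabilizer_iff]
    exact hg.2 a (by simp [ha])
  have hcardeq : Nat.card ((pfix G (Γ₀ ∪ Γ₁)).subgroupOf (kc G Γ₀ Γ₁)) =
      Nat.card (pfix G (Γ₀ ∪ Γ₁)) :=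
    Nat.card_congr (Subgroup.subgroupOfEquivOfLe (pfix_le_kc G Γ₀ Γ₁)).toEquiv
  have h1 := Subgroup.card_dvd_of_le hle
  have h2 := Subgroup.card_mul_index (MulAction.stabilizer (kc G Γ₀ Γ₁) a)
  rw [hidx] at h2
  rw [hcardeq] at h1
  rw [← h2, mul_comm]
  exact Nat.mul_dvd_mul_right h1 _

lemma pgroup_fixed_point {X : Type*} [Group X] [MulAction X α] {p : ℕ} [Fact p.Prime]
    (hX : IsPGroup p X) (A : Set α) (hA : ∀ (x : X), ∀ a ∈ A, x • a ∈ A)
    (hcard : ¬ p ∣ Nat.card A) : ∃ a ∈ A, ∀ x : X, x • a = a := by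
  let B : SubMulAction X α := ⟨A, fun x a ha => hA x a ha⟩
  have hne : (MulAction.fixedPoints X B).Nonempty :=
    hX.nonempty_fixed_point_of_prime_not_dvd_card B hcard
  obtain ⟨⟨a, ha⟩, hfix⟩ := hne
  refine ⟨a, ha, fun x => ?_⟩
  have := hfix x
  exact congrArg Subtype.val this


/-- In a generously `k`-transitive permutation group, for a prime `p ≤ k` and a `k`-set `Γ`, there are no `p` points outside `Γ` lying in distinct orbits of the pointwise stabiliser of `Γ` all of length prime to `p` (at most `p - 1` such orbits). -/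
theorem result {α : Type*} [Fintype α] [DecidableEq α] (G : Subgroup (Equiv.Perm α)) {k : ℕ} (hk : k < Fintype.card α) (hgen : ∀ s : Finset α, s.card = k + 1 → ∀ σ : Equiv.Perm ↥s, ∃ g ∈ G, ∀ x : ↥s, g (x : α) = σ x) {p : ℕ} (hp : p.Prime) (hpk : p ≤ k) (Γ : Finset α) (hΓ : Γ.card = k) (f : Fin p → α) (hf : ∀ i, f i ∉ Γ) (hdist : ∀ i j, i ≠ j → f j ∉ MulAction.orbit (fixingSubgroup G (Γ : Set α)) (f i)) : ∃ i, p ∣ Nat.card (MulAction.orbit (fixingSubgroup G (Γ : Set α)) (f i)) := by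
  classical
  by_contra hcon
  rw [not_exists] at hcon
  have : Fact p.Prime := ⟨hp⟩
  have hgen' : Gen G k := hgen
  obtain ⟨Γ₁, hΓ₁sub, hΓ₁card⟩ := Finset.exists_subset_card_eq (hΓ ▸ hpk : p ≤ Γ.card)
  set Γ₀ := Γ \ Γ₁ with hΓ₀
  have hdisj : Disjoint Γ₀ Γ₁ := Finset.sdiff_disjoint
  have hunion : Γ₀ ∪ Γ₁ = Γ := Finset.sdiff_union_of_subset hΓ₁sub
  have hcard : (Γ₀ ∪ Γ₁).card = k := by rw [hunion, hΓ]
  set H₀ := fixingSubgroup G (Γ : Set α) with hH₀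
  set Ω : Fin p → Set α := fun i => MulAction.orbit H₀ (f i) with hΩ
  -- invariance under `pfix G Γ`
  have hΩH : ∀ i, ∀ h ∈ pfix G Γ, ∀ x ∈ Ω i, h x ∈ Ω i := by
    rintro i h hh x ⟨m, rfl⟩
    have hm : (⟨h, hh.1⟩ : G) ∈ H₀ := by
      rw [hH₀, mem_fixingSubgroup_iff]
      intro y hy
      exact hh.2 y hy
    exact ⟨⟨⟨h, hh.1⟩, hm⟩ * m, by simp only [mul_smul]; rfl⟩
  have hΩΓ : ∀ i, ∀ x ∈ Ω i, x ∉ Γ := by
    rintro i x ⟨m, rfl⟩ hx
    change m • f i ∈ Γ at hx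
    have hm : (m : G) ∈ fixingSubgroup G (Γ : Set α) := m.2
    rw [mem_fixingSubgroup_iff] at hm
    have h1 : (m : G) • ((m : G) • f i) = (m : G) • f i := hm _ hx
    have h2 : (m : G) • f i = f i := smul_left_cancel _ h1
    have h3 : m • f i = f i := h2
    rw [h3] at hx
    exact hf i hx
  have hΩdisj : ∀ i j, i ≠ j → ∀ x, x ∈ Ω i → x ∉ Ω j := by
    intro i j hij x hxi hxj
    have h1 : MulAction.orbit H₀ x = MulAction.orbit H₀ (f i) := MulAction.orbit_eq_iff.2 hxi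
    have h2 : MulAction.orbit H₀ x = MulAction.orbit H₀ (f j) := MulAction.orbit_eq_iff.2 hxj
    have h3 : f j ∈ MulAction.orbit H₀ (f i) := by
      rw [← h1, h2]; exact MulAction.mem_orbit_self _
    exact hdist i j hij h3
  -- invariance under `kc`
  have hΩK : ∀ i, ∀ g ∈ kc G Γ₀ Γ₁, ∀ x ∈ Ω i, g x ∈ Ω i := by
    intro i g hg x hx
    have hpres : ∀ y, g y ∈ Γ ↔ y ∈ Γ := by
      intro y; have := kc_pres hg y; rwa [hunion] at this
    obtain ⟨h, hh, hhx⟩ := move_by_pfix hgen' Γ hΓ g hg.1 hpres x (hΩΓ i x hx)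
    rw [← hhx]
    exact hΩH i h hh x hx
  -- Sylow subgroup of kc
  obtain ⟨S⟩ := (inferInstance : Nonempty (Sylow p (kc G Γ₀ Γ₁)))
  have hfixpt : ∀ i, ∃ d ∈ Ω i, ∀ s : (S : Subgroup (kc G Γ₀ Γ₁)), s • d = d := by
    intro i
    apply pgroup_fixed_point S.isPGroup' (Ω i)
    · intro s a ha
      exact hΩK i (s : kc G Γ₀ Γ₁) (s : kc G Γ₀ Γ₁).2 a ha
    · exact hcon i
  choose δ hδΩ hδfix using hfixpt
  have hδinj : Function.Injective δ := by
    intro i j hij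
    by_contra hne
    exact hΩdisj i j hne (δ i) (hδΩ i) (hij ▸ hδΩ j)
  set Γ'' := Γ₀ ∪ Finset.univ.image δ with hΓ''
  have hΓ''card : Γ''.card = k := by
    rw [hΓ'', Finset.card_union_of_disjoint, Finset.card_image_of_injective _ hδinj,
      Finset.card_univ, Fintype.card_fin, hΓ₀, Finset.card_sdiff_of_subset hΓ₁sub, hΓ, hΓ₁card]
    · omega
    · rw [Finset.disjoint_left]
      intro x hx hx'
      obtain ⟨i, -, rfl⟩ := Finset.mem_image.1 hx'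
      exact hΩΓ i _ (hδΩ i) (Finset.sdiff_subset hx)
  set S' : Subgroup (Equiv.Perm α) := (S : Subgroup (kc G Γ₀ Γ₁)).map (kc G Γ₀ Γ₁).subtype
    with hS'
  have hS'le : S' ≤ pfix G Γ'' := by
    rintro _ ⟨s, hs, rfl⟩
    refine ⟨s.2.1, fun x hx => ?_⟩
    rw [hΓ'', Finset.mem_union] at hx
    rcases hx with hx | hx
    · exact s.2.2.1 x hx
    · obtain ⟨i, -, rfl⟩ := Finset.mem_image.1 hx
      exact hδfix i ⟨s, hs⟩
  have hS'card : Nat.card S' = p ^ (Nat.card (kc G Γ₀ Γ₁)).factorization p := by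
    rw [hS', Subgroup.card_map_of_injective (Subgroup.subtype_injective _)]
    exact S.card_eq_multiplicity
  obtain ⟨g, hg, hgΓ⟩ := homog hgen' _ Γ Γ'' hΓ hΓ''card rfl
  have hdvd1 : Nat.card S' ∣ Nat.card (pfix G Γ) := card_pfix_dvd hg hgΓ S' hS'le
  have hdvd2 : p * Nat.card (pfix G Γ) ∣ Nat.card (kc G Γ₀ Γ₁) := by
    have := p_mul_dvd hgen' Γ₀ Γ₁ hdisj hcard hk
      (by rw [← Finset.card_pos, hΓ₁card]; exact hp.pos)
    rwa [hunion, hΓ₁card] at this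
  have hN : Nat.card (pfix G Γ) ≠ 0 := Nat.card_pos.ne'
  have hK : Nat.card (kc G Γ₀ Γ₁) ≠ 0 := Nat.card_pos.ne'
  have h1 : p ^ ((Nat.card (pfix G Γ)).factorization p + 1) ∣ Nat.card (kc G Γ₀ Γ₁) := by
    refine dvd_trans ?_ hdvd2
    rw [pow_succ']
    exact Nat.mul_dvd_mul_left p (Nat.ordProj_dvd _ p)
  have h2 : (Nat.card (pfix G Γ)).factorization p + 1 ≤
      (Nat.card (kc G Γ₀ Γ₁)).factorization p :=
    (hp.pow_dvd_iff_le_factorization hK).1 h1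
  have h3 : p ^ ((Nat.card (pfix G Γ)).factorization p + 1) ∣ Nat.card (pfix G Γ) := by
    refine dvd_trans ?_ hdvd1
    rw [hS'card]
    exact pow_dvd_pow p h2
  exact Nat.pow_succ_factorization_not_dvd hN hp h3

end Cfsg.Agent.S0706
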