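import Mathlib
import Cfsg.Statements.S0707

set_option autoImplicit false
open Cfsg

namespace Cfsg.Agent.S0707

theorem prime_card_of_isCoatom_bot {G : Type*} [Group G] (h : IsCoatom (⊥ : Subgroup G)) :
    (Nat.card G).Prime := by
  have hnt : Nontrivial G := by
    by_contra hcon
    rw [not_nontrivial_iff_subsingleton] at hcon
    exact h.1 (Subsingleton.elim _ _)
  obtain ⟨g, hg⟩ := exists_ne (1 : G)
  have hz : Subgroup.zpowers g = ⊤ := by
    apply h.2
    exact bot_lt_iff_ne_bot.2 (Subgroup.zpowers_ne_bot.2 hg)
  have hcyc : IsCyclic G := ⟨⟨g, (Subgroup.eq_top_iff' _).1 hz⟩⟩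
  letI : CommGroup G := IsCyclic.commGroup
  have hs : IsSimpleGroup G := by
    refine ⟨fun H _ => ?_⟩
    by_cases hH : H = ⊥
    · exact Or.inl hH
    · exact Or.inr (h.2 H (bot_lt_iff_ne_bot.2 hH))
  exact IsSimpleGroup.prime_card

/-- In a primitive permutation group, distinct points have distinct stabilisers unless the group is regular of prime degree. -/
theorem result {α : Type*} (G : Subgroup (Equiv.Perm α)) [MulAction.IsPreprimitive G α] (h : ¬ (Nat.card α).Prime ∨ ∃ a : α, MulAction.stabilizer G a ≠ ⊥) {a b : α} (hab : a ≠ b) : MulAction.stabilizer G a ≠ MulAction.stabilizer G b := by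
  intro heq
  have hnt : Nontrivial α := ⟨⟨a, b, hab⟩⟩
  have hco : IsCoatom (MulAction.stabilizer G a) :=
    MulAction.IsPreprimitive.isCoatom_stabilizer_of_isPreprimitive (G := G) (X := α) a
  obtain ⟨g, hg⟩ := MulAction.exists_smul_eq G a b
  -- g normalizes the stabilizer
  have hconj : (MulAction.stabilizer G a).map (MulAut.conj g).toMonoidHom = MulAction.stabilizer G a := by
    rw [← MulAction.stabilizer_smul_eq_stabilizer_map_conj, hg, ← heq]
  have hgN : g ∈ Subgroup.normalizer ((MulAction.stabilizer G a : Subgroup G) : Set G) := by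
    rw [Subgroup.mem_normalizer_iff]
    intro k
    constructor
    · intro hk
      rw [← hconj]
      exact ⟨k, hk, rfl⟩
    · intro hk
      rw [← hconj] at hk
      obtain ⟨k', hk', hkk⟩ := hk
      have : k' = k := by
        simpa using hkk
      rwa [← this]
  have hgK : g ∉ MulAction.stabilizer G a := by
    intro hgK
    rw [MulAction.mem_stabilizer_iff] at hgK
    exact hab (hgK.symm.trans hg)
  have hNtop : Subgroup.normalizer ((MulAction.stabilizer G a : Subgroup G) : Set G) = ⊤ := by
    apply hco.2
    exact lt_of_le_of_ne Subgroup.le_normalizer (fun hc => hgK (hc ▸ hgN))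
  have hnorm : (MulAction.stabilizer G a).Normal := Subgroup.normalizer_eq_top_iff.1 hNtop
  have hall : ∀ x : α, MulAction.stabilizer G x = MulAction.stabilizer G a := by
    intro x
    obtain ⟨k, rfl⟩ := MulAction.exists_smul_eq G a x
    rw [MulAction.stabilizer_smul_eq_stabilizer_map_conj]
    apply le_antisymm
    · rintro _ ⟨y, hy, rfl⟩
      exact hnorm.conj_mem y hy k
    · intro y hy
      refine ⟨k⁻¹ * y * k, ?_, by simp [mul_assoc]⟩
      have := hnorm.conj_mem y hy k⁻¹
      simpa using this
  have hbot : MulAction.stabilizer G a = ⊥ := by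
    rw [Subgroup.eq_bot_iff_forall]
    intro k hk
    apply Subtype.ext
    ext x
    have : k ∈ MulAction.stabilizer G x := by rw [hall x]; exact hk
    exact this
  rcases h with h | ⟨c, hc⟩
  · apply h
    rw [← MulAction.index_stabilizer_of_transitive G a, hbot, Subgroup.index_bot]
    apply prime_card_of_isCoatom_bot
    rw [← hbot]
    exact hco
  · exact hc ((hall c).trans hbot)

end Cfsg.Agent.S0707
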