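import Cfsg.Statements.S0709
import Mathlib

set_option autoImplicit false
set_option linter.unusedVariables false
open Cfsg

namespace Cfsg.Agent.S0709

section
variable {α : Type*}


/-- list-based `j`-transitivity of a permutation group on a subset. -/
def TransL (L : Subgroup (Equiv.Perm α)) (S : Set α) (j : ℕ) : Prop :=
  ∀ l1 l2 : List α, l1.length = j → l2.length = j → l1.Nodup → l2.Nodup →
    (∀ a ∈ l1, a ∈ S) → (∀ a ∈ l2, a ∈ S) → ∃ g ∈ L, l1.map (⇑g) = l2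

theorem transL_zero (L : Subgroup (Equiv.Perm α)) (S : Set α) : TransL L S 0 := by
  intro l1 l2 h1 h2 _ _ _ _
  rw [List.length_eq_zero_iff] at h1 h2
  subst h1; subst h2
  exact ⟨1, L.one_mem, rfl⟩

theorem map_inv_aux (M : Subgroup (Equiv.Perm α)) (S : Set α) (inf : α)
    (hMpres : ∀ m ∈ M, ∀ x, x ∈ insert inf S → m x ∈ insert inf S)
    (m : Equiv.Perm α) (hm : m ∈ M) (z : α) (zs : List α) (hz : m inf = z)
    (hnd : (z :: zs).Nodup) (hS : ∀ a ∈ z :: zs, a ∈ insert inf S) :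
    (zs.map (⇑m⁻¹)).Nodup ∧ (∀ a ∈ zs.map (⇑m⁻¹), a ∈ S) ∧ (zs.map (⇑m⁻¹)).map (⇑m) = zs := by
  rw [List.nodup_cons] at hnd
  refine ⟨hnd.2.map (Equiv.injective _), ?_, ?_⟩
  · intro a ha
    rw [List.mem_map] at ha
    obtain ⟨w, hw, rfl⟩ := ha
    have h1 : m⁻¹ w ∈ insert inf S :=
      hMpres m⁻¹ (M.inv_mem hm) w (hS w (List.mem_cons_of_mem _ hw))
    rcases h1 with h1 | h1
    · exfalso
      apply hnd.1
      have : w = z := by
        rw [← hz, ← h1]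
        simp
      rw [← this]
      exact hw
    · exact h1
  · rw [List.map_map]
    conv_rhs => rw [← List.map_id zs]
    apply List.map_congr_left
    intro a _
    simp

theorem transL_step (L M : Subgroup (Equiv.Perm α)) (S : Set α) (inf : α)
    (hLM : L ≤ M) (hLfix : ∀ l ∈ L, l inf = inf)
    (hMpres : ∀ m ∈ M, ∀ x, x ∈ insert inf S → m x ∈ insert inf S)
    (hMtr : ∀ b ∈ insert inf S, ∃ m ∈ M, m inf = b)
    (j : ℕ) (hL : TransL L S j) : TransL M (insert inf S) (j + 1) := by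
  intro l1 l2 h1 h2 n1 n2 s1 s2
  match l1, l2, h1, h2, n1, n2, s1, s2 with
  | [], _, h1, _, _, _, _, _ => simp at h1
  | _ :: _, [], _, h2, _, _, _, _ => simp at h2
  | x :: xs, y :: ys, h1, h2, n1, n2, s1, s2 =>
    obtain ⟨m1, hm1, e1⟩ := hMtr x (s1 x (by simp))
    obtain ⟨m2, hm2, e2⟩ := hMtr y (s2 y (by simp))
    obtain ⟨a1, a2, a3⟩ := map_inv_aux M S inf hMpres m1 hm1 x xs e1 n1 s1
    obtain ⟨b1, b2, b3⟩ := map_inv_aux M S inf hMpres m2 hm2 y ys e2 n2 s2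
    have len1 : (xs.map (⇑m1⁻¹)).length = j := by simpa using h1
    have len2 : (ys.map (⇑m2⁻¹)).length = j := by simpa using h2
    obtain ⟨l, hl, e⟩ := hL _ _ len1 len2 a1 b1 a2 b2
    refine ⟨m2 * l * m1⁻¹, M.mul_mem (M.mul_mem hm2 (hLM hl)) (M.inv_mem hm1), ?_⟩
    rw [List.map_cons]
    congr 1
    · have : m1⁻¹ x = inf := by rw [← e1]; simp
      simp only [Equiv.Perm.coe_mul, Function.comp_apply]
      rw [this, hLfix l hl, e2]
    · have : xs.map (⇑(m2 * l * m1⁻¹)) = ((xs.map (⇑m1⁻¹)).map (⇑l)).map (⇑m2) := by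
        rw [List.map_map, List.map_map]
        apply List.map_congr_left
        intro a _
        simp
      rw [this, e, b3]



theorem decomp (L : Subgroup (Equiv.Perm α)) (S : Set α) (a : α) (g : Equiv.Perm α)
    (hg : g ∈ L) (ha : a ∈ S) (hga : g a ≠ a)
    (hpres : ∀ m ∈ L, ∀ x ∈ S, m x ∈ S)
    (h2 : ∀ a b c d, a ∈ S → b ∈ S → c ∈ S → d ∈ S → a ≠ b → c ≠ d →
      ∃ m ∈ L, m a = c ∧ m b = d) :
    ∀ x ∈ L, x a = a ∨ ∃ u ∈ L, ∃ v ∈ L, u a = a ∧ v a = a ∧ x = u * g * v := by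
  intro x hx
  by_cases hxa : x a = a
  · exact Or.inl hxa
  · right
    obtain ⟨u, hu, hua, hug⟩ := h2 a (g a) a (x a) ha (hpres g hg a ha) ha (hpres x hx a ha)
      (Ne.symm hga) (Ne.symm hxa)
    refine ⟨u, hu, (u * g)⁻¹ * x, L.mul_mem (L.inv_mem (L.mul_mem hu hg)) hx, hua, ?_, by group⟩
    rw [Equiv.Perm.mul_apply, Equiv.Perm.inv_eq_iff_eq, Equiv.Perm.mul_apply, hug]

theorem ext_lemma (L : Subgroup (Equiv.Perm α)) (h g : Equiv.Perm α) (a : α)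
    (hdec : ∀ x ∈ L, x a = a ∨ ∃ u ∈ L, ∃ v ∈ L, u a = a ∧ v a = a ∧ x = u * g * v)
    (hnorm : ∀ x ∈ L, x a = a → h * x * h⁻¹ ∈ L)
    (hh2 : h ^ 2 ∈ L)
    (hghg : ∃ u ∈ L, ∃ v ∈ L, h * g * h = u * h * v) :
    ∀ m ∈ Subgroup.closure ((L : Set (Equiv.Perm α)) ∪ {h}),
      m ∈ L ∨ ∃ u ∈ L, ∃ v ∈ L, m = u * h * v := by
  -- left multiplication by elements of L
  have hL : ∀ x ∈ L, ∀ y, (y ∈ L ∨ ∃ u ∈ L, ∃ v ∈ L, y = u * h * v) →
      (x * y ∈ L ∨ ∃ u ∈ L, ∃ v ∈ L, x * y = u * h * v) := by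
    intro x hx y hy
    rcases hy with hy | ⟨u, hu, v, hv, rfl⟩
    · exact Or.inl (L.mul_mem hx hy)
    · exact Or.inr ⟨x * u, L.mul_mem hx hu, v, hv, by group⟩
  have hconj' : ∀ x ∈ L, x a = a → h⁻¹ * x * h ∈ L := by
    intro x hx hxa
    have : h⁻¹ * x * h = (h ^ 2)⁻¹ * (h * x * h⁻¹) * h ^ 2 := by group
    rw [this]
    exact L.mul_mem (L.mul_mem (L.inv_mem hh2) (hnorm x hx hxa)) hh2
  -- left multiplication by h
  have hH : ∀ y, (y ∈ L ∨ ∃ u ∈ L, ∃ v ∈ L, y = u * h * v) →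
      (h * y ∈ L ∨ ∃ u ∈ L, ∃ v ∈ L, h * y = u * h * v) := by
    intro y hy
    rcases hy with hy | ⟨u, hu, v, hv, rfl⟩
    · exact Or.inr ⟨1, L.one_mem, y, hy, by group⟩
    · rcases hdec u hu with hua | ⟨u1, hu1, u2, hu2, hu1a, hu2a, rfl⟩
      · left
        have : h * (u * h * v) = (h * u * h⁻¹) * h ^ 2 * v := by group
        rw [this]
        exact L.mul_mem (L.mul_mem (hnorm u hu hua) hh2) hv
      · right
        obtain ⟨u', hu', v', hv', e⟩ := hghg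
        have e1 : h * (u1 * g * u2 * h * v) =
            (h * u1 * h⁻¹) * (h * g * h) * ((h⁻¹ * u2 * h) * v) := by group
        rw [e1, e]
        refine ⟨(h * u1 * h⁻¹) * u', L.mul_mem (hnorm u1 hu1 hu1a) hu',
          v' * ((h⁻¹ * u2 * h) * v), L.mul_mem hv' (L.mul_mem (hconj' u2 hu2 hu2a) hv), ?_⟩
        group
  intro m hm
  induction hm using Subgroup.closure_induction_left with
  | one => exact Or.inl L.one_mem
  | mul_left x hx y hy ih =>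
    rcases hx with hx | hx
    · exact hL x hx y ih
    · rw [Set.mem_singleton_iff] at hx
      subst hx
      exact hH y ih
  | inv_mul_cancel x hx y hy ih =>
    rcases hx with hx | hx
    · exact hL x⁻¹ (L.inv_mem hx) y ih
    · rw [Set.mem_singleton_iff] at hx
      subst hx
      have : x⁻¹ * y = (x ^ 2)⁻¹ * (x * y) := by group
      rw [this]
      exact hL _ (L.inv_mem hh2) _ (hH y ih)



/-- The hypotheses of Witt's lemma. -/
structure Hyp (t : ℕ) (q : ℕ → α) (G : Subgroup (Equiv.Perm α)) (s : ℕ → Equiv.Perm α)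
    (H : Subgroup (Equiv.Perm α)) : Prop where
  ht : 2 ≤ t
  hq : ∀ i j : ℕ, 1 ≤ i → i ≤ t → 1 ≤ j → j ≤ t → q i = q j → i = j
  hfix : ∀ g ∈ G, ∀ i : ℕ, 3 ≤ i → i ≤ t → g (q i) = q i
  h2 : ∀ a b c d : α, (∀ i, 3 ≤ i → i ≤ t → a ≠ q i ∧ b ≠ q i ∧ c ≠ q i ∧ d ≠ q i) → a ≠ b →
    c ≠ d → ∃ g ∈ G, g a = c ∧ g b = d
  hs1 : s 1 ∈ G
  hs1q : s 1 (q 1) = q 2 ∧ s 1 (q 2) = q 1
  hsq : ∀ i : ℕ, 2 ≤ i → i + 1 ≤ t → s i (q i) = q (i + 1) ∧ s i (q (i + 1)) = q i ∧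
    ∀ j : ℕ, 1 ≤ j → j ≤ t → j ≠ i → j ≠ i + 1 → s i (q j) = q j
  hH : H = G ⊓ MulAction.stabilizer (Equiv.Perm α) (q 1) ⊓
    MulAction.stabilizer (Equiv.Perm α) (q 2)
  hsq2 : ∀ i : ℕ, 1 ≤ i → i + 1 ≤ t → s i ^ 2 ∈ H
  hbraid : ∀ i : ℕ, 1 ≤ i → i + 2 ≤ t → (s i * s (i + 1)) ^ 3 ∈ H
  hcomm : ∀ i j : ℕ, 1 ≤ i → i + 2 ≤ j → j + 1 ≤ t → (s i * s j) ^ 2 ∈ H ∧ (s j * s i) ^ 2 ∈ H
  hnorm : ∀ i : ℕ, 2 ≤ i → i + 1 ≤ t → ∀ g ∈ G ⊓ MulAction.stabilizer (Equiv.Perm α) (q 2),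
    s i * g * (s i)⁻¹ ∈ G ⊓ MulAction.stabilizer (Equiv.Perm α) (q 2)

/-- The group generated by `G` and `s 2, …, s (k-1)`. -/
def Lk (G : Subgroup (Equiv.Perm α)) (s : ℕ → Equiv.Perm α) (k : ℕ) : Subgroup (Equiv.Perm α) :=
  Subgroup.closure ((G : Set (Equiv.Perm α)) ∪ {x | ∃ i : ℕ, 2 ≤ i ∧ i + 1 ≤ k ∧ x = s i})

/-- The points other than `q (k+1), …, q t`. -/
def Om (t : ℕ) (q : ℕ → α) (k : ℕ) : Set α := {x | ∀ j, k < j → j ≤ t → x ≠ q j}

variable {t : ℕ} {q : ℕ → α} {G : Subgroup (Equiv.Perm α)} {s : ℕ → Equiv.Perm α}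
  {H : Subgroup (Equiv.Perm α)}

theorem G_le_Lk (k : ℕ) : G ≤ Lk G s k := by
  intro x hx
  exact Subgroup.subset_closure (Or.inl hx)

theorem s_mem_Lk (k i : ℕ) (h1 : 2 ≤ i) (h2 : i + 1 ≤ k) : s i ∈ Lk G s k :=
  Subgroup.subset_closure (Or.inr ⟨i, h1, h2, rfl⟩)

theorem Lk_mono {k k' : ℕ} (h : k ≤ k') : Lk G s k ≤ Lk G s k' := by
  unfold Lk
  apply Subgroup.closure_mono
  apply Set.union_subset_union_right
  rintro x ⟨i, h1, h2, rfl⟩
  exact ⟨i, h1, le_trans h2 h, rfl⟩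

theorem Lk_two : Lk G s 2 = G := by
  unfold Lk
  have : {x | ∃ i : ℕ, 2 ≤ i ∧ i + 1 ≤ 2 ∧ x = s i} = (∅ : Set (Equiv.Perm α)) := by
    ext x
    simp only [Set.mem_ofPred_eq, Set.mem_empty_iff_false, iff_false]
    rintro ⟨i, h1, h2, -⟩
    omega
  rw [this, Set.union_empty, Subgroup.closure_eq]

theorem Lk_succ (k : ℕ) (hk : 2 ≤ k) :
    Lk G s (k + 1) = Subgroup.closure ((Lk G s k : Set (Equiv.Perm α)) ∪ {s k}) := by
  apply le_antisymm
  · unfold Lk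
    rw [Subgroup.closure_le]
    rintro x (hx | ⟨i, h1, h2, rfl⟩)
    · exact Subgroup.subset_closure (Or.inl (Subgroup.subset_closure (Or.inl hx)))
    · by_cases hik : i = k
      · subst hik
        exact Subgroup.subset_closure (Or.inr rfl)
      · apply Subgroup.subset_closure
        left
        apply Subgroup.subset_closure
        right
        exact ⟨i, h1, by omega, rfl⟩
  · rw [Subgroup.closure_le]
    rintro x (hx | hx)
    · exact Lk_mono (Nat.le_succ k) hx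
    · rw [Set.mem_singleton_iff] at hx
      subst hx
      exact s_mem_Lk (k + 1) k hk le_rfl

theorem H_le_G (hyp : Hyp t q G s H) : H ≤ G := by
  rw [hyp.hH]
  exact le_trans inf_le_left inf_le_left

theorem Lk_fix (hyp : Hyp t q G s H) (k : ℕ) (hk : 2 ≤ k) :
    ∀ m ∈ Lk G s k, ∀ j, k < j → j ≤ t → m (q j) = q j := by
  intro m hm
  unfold Lk at hm
  induction hm using Subgroup.closure_induction with
  | mem x hx =>
    rcases hx with hx | ⟨i, h1, h2, rfl⟩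
    · intro j hj1 hj2
      exact hyp.hfix x hx j (by omega) hj2
    · intro j hj1 hj2
      exact (hyp.hsq i h1 (by omega)).2.2 j (by omega) hj2 (by omega) (by omega)
  | one => intro j _ _; rfl
  | mul x y _ _ ihx ihy =>
    intro j hj1 hj2
    rw [Equiv.Perm.mul_apply, ihy j hj1 hj2, ihx j hj1 hj2]
  | inv x _ ih =>
    intro j hj1 hj2
    rw [Equiv.Perm.inv_eq_iff_eq, ih j hj1 hj2]

theorem Lk_pres (hyp : Hyp t q G s H) (k : ℕ) (hk : 2 ≤ k) :
    ∀ m ∈ Lk G s k, ∀ x ∈ Om t q k, m x ∈ Om t q k := by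
  intro m hm x hx j hj1 hj2 hcon
  apply hx j hj1 hj2
  have := Lk_fix hyp k hk m hm j hj1 hj2
  rw [← this] at hcon
  exact m.injective hcon

theorem Om_succ (hyp : Hyp t q G s H) (k : ℕ) (hk : 1 ≤ k) (hkt : k + 1 ≤ t) :
    Om t q (k + 1) = insert (q (k + 1)) (Om t q k) := by
  ext x
  simp only [Om, Set.mem_ofPred_eq, Set.mem_insert_iff]
  constructor
  · intro h
    by_cases hx : x = q (k + 1)
    · exact Or.inl hx
    · right
      intro j hj1 hj2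
      by_cases hj : j = k + 1
      · subst hj; exact hx
      · exact h j (by omega) hj2
  · rintro (h | h)
    · intro j hj1 hj2 hcon
      rw [h] at hcon
      have := hyp.hq (k + 1) j (by omega) hkt (by omega) hj2 hcon
      omega
    · intro j hj1 hj2
      exact h j (by omega) hj2

theorem q_notMem_Om (k : ℕ) (hkt : k + 1 ≤ t) : q (k + 1) ∉ Om t q k := by
  intro h
  exact h (k + 1) (Nat.lt_succ_self k) hkt rfl

theorem q_mem_Om (hyp : Hyp t q G s H) (k i : ℕ) (hi1 : 1 ≤ i) (hik : i ≤ k) (hkt : k ≤ t) :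
    q i ∈ Om t q k := by
  intro j hj1 hj2 hcon
  have := hyp.hq i j hi1 (by omega) (by omega) hj2 hcon
  omega


theorem G_two_trans (hyp : Hyp t q G s H) :
    ∀ a b c d, a ∈ Om t q 2 → b ∈ Om t q 2 → c ∈ Om t q 2 → d ∈ Om t q 2 → a ≠ b → c ≠ d →
      ∃ m ∈ G, m a = c ∧ m b = d := by
  intro a b c d ha hb hc hd hab hcd
  apply hyp.h2 a b c d _ hab hcd
  intro i hi1 hi2
  exact ⟨ha i (by omega) hi2, hb i (by omega) hi2, hc i (by omega) hi2, hd i (by omega) hi2⟩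

theorem G_pres (hyp : Hyp t q G s H) : ∀ m ∈ G, ∀ x ∈ Om t q 2, m x ∈ Om t q 2 := by
  intro m hm
  apply Lk_pres hyp 2 le_rfl m
  rw [Lk_two]
  exact hm

theorem q_ne (hyp : Hyp t q G s H) (i j : ℕ) (hi1 : 1 ≤ i) (hi2 : i ≤ t) (hj1 : 1 ≤ j)
    (hj2 : j ≤ t) (hij : i ≠ j) : q i ≠ q j := fun h => hij (hyp.hq i j hi1 hi2 hj1 hj2 h)

theorem G_decomp (hyp : Hyp t q G s H) :
    ∀ x ∈ G, x (q 2) = q 2 ∨
      ∃ u ∈ G, ∃ v ∈ G, u (q 2) = q 2 ∧ v (q 2) = q 2 ∧ x = u * s 1 * v := by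
  have ht := hyp.ht
  apply decomp G (Om t q 2) (q 2) (s 1) hyp.hs1 (q_mem_Om hyp 2 2 (by omega) le_rfl ht) ?_
    (G_pres hyp) (G_two_trans hyp)
  rw [hyp.hs1q.2]
  exact q_ne hyp 1 2 le_rfl (by omega) (by omega) ht (by omega)

theorem conj_G (hyp : Hyp t q G s H) (i : ℕ) (hi1 : 3 ≤ i) (hi2 : i + 1 ≤ t) :
    ∀ x ∈ G, s i * x * (s i)⁻¹ ∈ G := by
  have hstab : ∀ x ∈ G, x (q 2) = q 2 → s i * x * (s i)⁻¹ ∈ G := by
    intro x hx hxa
    have : x ∈ G ⊓ MulAction.stabilizer (Equiv.Perm α) (q 2) :=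
      Subgroup.mem_inf.mpr ⟨hx, MulAction.mem_stabilizer_iff.mpr hxa⟩
    exact (Subgroup.mem_inf.mp (hyp.hnorm i (by omega) hi2 x this)).1
  intro x hx
  rcases G_decomp hyp x hx with hxa | ⟨u, hu, v, hv, hua, hva, rfl⟩
  · exact hstab x hx hxa
  · have e : s i * (u * s 1 * v) * (s i)⁻¹ =
        (s i * u * (s i)⁻¹) * ((s 1)⁻¹ * (s 1 * s i) ^ 2 * (s i ^ 2)⁻¹) * (s i * v * (s i)⁻¹) := by
      simp only [pow_succ, pow_zero, one_mul]
      group
    rw [e]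
    have h1 : (s 1 * s i) ^ 2 ∈ G := H_le_G hyp (hyp.hcomm 1 i le_rfl (by omega) hi2).1
    have h2 : s i ^ 2 ∈ G := H_le_G hyp (hyp.hsq2 i (by omega) hi2)
    exact G.mul_mem (G.mul_mem (hstab u hu hua)
      (G.mul_mem (G.mul_mem (G.inv_mem hyp.hs1) h1) (G.inv_mem h2))) (hstab v hv hva)

theorem conj_Lk (hyp : Hyp t q G s H) (k : ℕ) (hk : 2 ≤ k) (hkt : k + 2 ≤ t) :
    ∀ x ∈ Lk G s k, s (k + 1) * x * (s (k + 1))⁻¹ ∈ Lk G s k := by
  intro x hx
  have hx' := hx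
  unfold Lk at hx'
  induction hx' using Subgroup.closure_induction with
  | mem x hx1 =>
    rcases hx1 with hx1 | ⟨i, h1, h2, rfl⟩
    · exact G_le_Lk k (conj_G hyp (k + 1) (by omega) hkt x hx1)
    · have e : s (k + 1) * s i * (s (k + 1))⁻¹ =
          (s i)⁻¹ * (s i * s (k + 1)) ^ 2 * (s (k + 1) ^ 2)⁻¹ := by
        simp only [pow_succ, pow_zero, one_mul]
        group
      rw [e]
      have h3 : (s i * s (k + 1)) ^ 2 ∈ Lk G s k :=
        G_le_Lk k (H_le_G hyp (hyp.hcomm i (k + 1) (by omega) (by omega) hkt).1)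
      have h4 : s (k + 1) ^ 2 ∈ Lk G s k :=
        G_le_Lk k (H_le_G hyp (hyp.hsq2 (k + 1) (by omega) hkt))
      exact (Lk G s k).mul_mem ((Lk G s k).mul_mem ((Lk G s k).inv_mem (s_mem_Lk k i h1 h2)) h3)
        ((Lk G s k).inv_mem h4)
  | one =>
    have : s (k + 1) * 1 * (s (k + 1))⁻¹ = 1 := by group
    rw [this]
    exact (Lk G s k).one_mem
  | mul x y hx1 hy1 ihx ihy =>
    have e : s (k + 1) * (x * y) * (s (k + 1))⁻¹ =
        (s (k + 1) * x * (s (k + 1))⁻¹) * (s (k + 1) * y * (s (k + 1))⁻¹) := by group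
    rw [e]
    exact (Lk G s k).mul_mem (ihx hx1) (ihy hy1)
  | inv x hx1 ih =>
    have e : s (k + 1) * x⁻¹ * (s (k + 1))⁻¹ = (s (k + 1) * x * (s (k + 1))⁻¹)⁻¹ := by group
    rw [e]
    exact (Lk G s k).inv_mem (ih hx1)

/-- The induction statement. -/
def P (t : ℕ) (q : ℕ → α) (G : Subgroup (Equiv.Perm α)) (s : ℕ → Equiv.Perm α)
    (H : Subgroup (Equiv.Perm α)) (k : ℕ) : Prop :=
  (∀ j ≤ k + 1, TransL (Lk G s (k + 1)) (Om t q (k + 1)) j) ∧
  (∀ m ∈ Lk G s (k + 1), (∀ j, 1 ≤ j → j ≤ k + 1 → m (q j) = q j) → m ∈ H) ∧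
  (2 ≤ k → ∀ m ∈ Lk G s (k + 1), m (q (k + 1)) = q (k + 1) → m ∈ Lk G s k)

theorem exists_ne_in_Om (hyp : Hyp t q G s H) (a : α) : ∃ b ∈ Om t q 2, b ≠ a := by
  have ht := hyp.ht
  by_cases h : a = q 1
  · refine ⟨q 2, q_mem_Om hyp 2 2 (by omega) le_rfl ht, ?_⟩
    rw [h]
    exact q_ne hyp 2 1 (by omega) ht le_rfl (by omega) (by omega)
  · exact ⟨q 1, q_mem_Om hyp 2 1 le_rfl (by omega) ht, fun h' => h h'.symm⟩

theorem P_base (hyp : Hyp t q G s H) : P t q G s H 1 := by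
  have ht := hyp.ht
  refine ⟨?_, ?_, ?_⟩
  · intro j hj
    show TransL (Lk G s 2) (Om t q 2) j
    rw [Lk_two]
    have hj' : j = 0 ∨ j = 1 ∨ j = 2 := by omega
    rcases hj' with rfl | rfl | rfl
    · exact transL_zero _ _
    · intro l1 l2 h1 h2 n1 n2 s1 s2
      rw [List.length_eq_one_iff] at h1 h2
      obtain ⟨a, rfl⟩ := h1
      obtain ⟨c, rfl⟩ := h2
      obtain ⟨b, hb, hba⟩ := exists_ne_in_Om hyp a
      obtain ⟨d, hd, hdc⟩ := exists_ne_in_Om hyp c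
      obtain ⟨g, hg, hga, -⟩ := G_two_trans hyp a b c d (s1 a (by simp)) hb (s2 c (by simp)) hd
        (Ne.symm hba) (Ne.symm hdc)
      exact ⟨g, hg, by simp [hga]⟩
    · intro l1 l2 h1 h2 n1 n2 s1 s2
      rw [List.length_eq_two] at h1 h2
      obtain ⟨a, b, rfl⟩ := h1
      obtain ⟨c, d, rfl⟩ := h2
      have hab : a ≠ b := by
        intro h; subst h; simp at n1
      have hcd : c ≠ d := by
        intro h; subst h; simp at n2
      obtain ⟨g, hg, hga, hgb⟩ := G_two_trans hyp a b c d (s1 a (by simp)) (s1 b (by simp))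
        (s2 c (by simp)) (s2 d (by simp)) hab hcd
      exact ⟨g, hg, by simp [hga, hgb]⟩
  · intro m hm hfix
    change m ∈ Lk G s 2 at hm
    rw [Lk_two] at hm
    rw [hyp.hH]
    refine Subgroup.mem_inf.mpr ⟨Subgroup.mem_inf.mpr ⟨hm, ?_⟩, ?_⟩
    · exact MulAction.mem_stabilizer_iff.mpr (hfix 1 le_rfl (by omega))
    · exact MulAction.mem_stabilizer_iff.mpr (hfix 2 (by omega) le_rfl)
  · intro h; omega

theorem P_step (hyp : Hyp t q G s H) (k : ℕ) (hk : 1 ≤ k) (hkt : k + 2 ≤ t)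
    (ih : P t q G s H k) : P t q G s H (k + 1) := by
  obtain ⟨ih1, ih2, ih3⟩ := ih
  have hgL : s k ∈ Lk G s (k + 1) := by
    by_cases hk1 : k = 1
    · subst hk1
      exact G_le_Lk _ hyp.hs1
    · exact s_mem_Lk (k + 1) k (by omega) le_rfl
  have hga : s k (q (k + 1)) = q k := by
    by_cases hk1 : k = 1
    · subst hk1
      exact hyp.hs1q.2
    · exact (hyp.hsq k (by omega) (by omega)).2.1
  have hga_ne : s k (q (k + 1)) ≠ q (k + 1) := by
    rw [hga]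
    exact q_ne hyp k (k + 1) hk (by omega) (by omega) (by omega) (by omega)
  have htwo : ∀ a b c d, a ∈ Om t q (k + 1) → b ∈ Om t q (k + 1) → c ∈ Om t q (k + 1) →
      d ∈ Om t q (k + 1) → a ≠ b → c ≠ d → ∃ m ∈ Lk G s (k + 1), m a = c ∧ m b = d := by
    intro a b c d ha hb hc hd hab hcd
    obtain ⟨g, hg, e⟩ := ih1 2 (by omega) [a, b] [c, d] rfl rfl (by simp [hab]) (by simp [hcd])
      (by
        intro x hx
        simp only [List.mem_cons, List.not_mem_nil, or_false] at hx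
        rcases hx with rfl | rfl
        · exact ha
        · exact hb)
      (by
        intro x hx
        simp only [List.mem_cons, List.not_mem_nil, or_false] at hx
        rcases hx with rfl | rfl
        · exact hc
        · exact hd)
    simp only [List.map_cons, List.map_nil, List.cons.injEq, and_true] at e
    exact ⟨g, hg, e.1, e.2⟩
  have hdec := decomp (Lk G s (k + 1)) (Om t q (k + 1)) (q (k + 1)) (s k) hgL
    (q_mem_Om hyp (k + 1) (k + 1) (by omega) le_rfl (by omega)) hga_ne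
    (Lk_pres hyp (k + 1) (by omega)) htwo
  have hnorm' : ∀ x ∈ Lk G s (k + 1), x (q (k + 1)) = q (k + 1) →
      s (k + 1) * x * (s (k + 1))⁻¹ ∈ Lk G s (k + 1) := by
    intro x hx hxa
    by_cases hk1 : k = 1
    · subst hk1
      change x ∈ Lk G s 2 at hx
      show _ ∈ Lk G s 2
      rw [Lk_two] at hx ⊢
      have : x ∈ G ⊓ MulAction.stabilizer (Equiv.Perm α) (q 2) :=
        Subgroup.mem_inf.mpr ⟨hx, MulAction.mem_stabilizer_iff.mpr hxa⟩
      exact (Subgroup.mem_inf.mp (hyp.hnorm 2 le_rfl (by omega) x this)).1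
    · have hx' : x ∈ Lk G s k := ih3 (by omega) x hx hxa
      exact Lk_mono (Nat.le_succ k) (conj_Lk hyp k (by omega) hkt x hx')
  have hh2 : s (k + 1) ^ 2 ∈ Lk G s (k + 1) :=
    G_le_Lk _ (H_le_G hyp (hyp.hsq2 (k + 1) (by omega) hkt))
  have hghg : ∃ u ∈ Lk G s (k + 1), ∃ v ∈ Lk G s (k + 1),
      s (k + 1) * s k * s (k + 1) = u * s (k + 1) * v := by
    have hy : (s k * s (k + 1)) ^ 3 ∈ Lk G s (k + 1) :=
      G_le_Lk _ (H_le_G hyp (hyp.hbraid k hk hkt))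
    refine ⟨(s k)⁻¹ * (s k * s (k + 1)) ^ 3 * (s (k + 1) ^ 2)⁻¹, ?_, (s k)⁻¹, ?_, by
      simp only [pow_succ, pow_zero, one_mul]
      group⟩
    · exact Subgroup.mul_mem _ (Subgroup.mul_mem _ (Subgroup.inv_mem _ hgL) hy)
        (Subgroup.inv_mem _ hh2)
    · exact Subgroup.inv_mem _ hgL
  have hext := ext_lemma (Lk G s (k + 1)) (s (k + 1)) (s k) (q (k + 1)) hdec hnorm' hh2 hghg
  rw [← Lk_succ (k + 1) (by omega)] at hext
  have hLfix : ∀ l ∈ Lk G s (k + 1), l (q (k + 2)) = q (k + 2) := by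
    intro l hl
    exact Lk_fix hyp (k + 1) (by omega) l hl (k + 2) (by omega) hkt
  have hsinf : s (k + 1) (q (k + 2)) = q (k + 1) := (hyp.hsq (k + 1) (by omega) hkt).2.1
  have key : ∀ m ∈ Lk G s (k + 2), m (q (k + 2)) = q (k + 2) → m ∈ Lk G s (k + 1) := by
    intro m hm hminf
    rcases hext m hm with h | ⟨u, hu, v, hv, rfl⟩
    · exact h
    · exfalso
      rw [Equiv.Perm.mul_apply, Equiv.Perm.mul_apply, hLfix v hv, hsinf] at hminf
      have h1 := hLfix u hu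
      rw [← h1] at hminf
      have := u.injective hminf
      exact q_ne hyp (k + 1) (k + 2) (by omega) (by omega) (by omega) hkt (by omega) this
  have hOm := Om_succ hyp (k + 1) (by omega) hkt
  refine ⟨?_, ?_, ?_⟩
  · intro j hj
    show TransL (Lk G s (k + 2)) (Om t q (k + 2)) j
    rcases j with _ | j
    · exact transL_zero _ _
    · rw [hOm]
      apply transL_step (Lk G s (k + 1)) (Lk G s (k + 2)) (Om t q (k + 1)) (q (k + 2))
        (Lk_mono (Nat.le_succ _)) hLfix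
      · rw [← hOm]
        exact Lk_pres hyp (k + 2) (by omega)
      · intro b hb
        rcases hb with rfl | hb
        · exact ⟨1, Subgroup.one_mem _, rfl⟩
        · obtain ⟨l, hl, e⟩ := ih1 1 (by omega) [q (k + 1)] [b] rfl rfl (by simp) (by simp)
            (by
              intro x hx
              simp only [List.mem_cons, List.not_mem_nil, or_false] at hx
              subst hx
              exact q_mem_Om hyp (k + 1) (k + 1) (by omega) le_rfl (by omega))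
            (by
              intro x hx
              simp only [List.mem_cons, List.not_mem_nil, or_false] at hx
              subst hx
              exact hb)
          simp only [List.map_cons, List.map_nil, List.cons.injEq, and_true] at e
          refine ⟨l * s (k + 1), Subgroup.mul_mem _ (Lk_mono (Nat.le_succ _) hl)
            (s_mem_Lk (k + 2) (k + 1) (by omega) le_rfl), ?_⟩
          rw [Equiv.Perm.mul_apply, hsinf, e]
      · exact ih1 j (by omega)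
  · intro m hm hfix
    have hm' := key m hm (hfix (k + 2) (by omega) le_rfl)
    exact ih2 m hm' (fun j hj1 hj2 => hfix j hj1 (by omega))
  · intro _ m hm hminf
    exact key m hm hminf

theorem P_all (hyp : Hyp t q G s H) : ∀ k, 1 ≤ k → k + 1 ≤ t → P t q G s H k := by
  intro k hk
  induction k, hk using Nat.le_induction with
  | base => intro _; exact P_base hyp
  | succ k hk ih =>
    intro hkt
    exact P_step hyp k hk hkt (ih (by omega))

end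

theorem result {α : Type*} [Fintype α] [DecidableEq α] (t : ℕ) (ht : 2 ≤ t) (q : ℕ → α) (hq : ∀ i j : ℕ, 1 ≤ i → i ≤ t → 1 ≤ j → j ≤ t → q i = q j → i = j) (G : Subgroup (Equiv.Perm α)) (hfix : ∀ g ∈ G, ∀ i : ℕ, 3 ≤ i → i ≤ t → g (q i) = q i) (h2 : ∀ a b c d : α, (∀ i, 3 ≤ i → i ≤ t → a ≠ q i ∧ b ≠ q i ∧ c ≠ q i ∧ d ≠ q i) → a ≠ b → c ≠ d → ∃ g ∈ G, g a = c ∧ g b = d) (s : ℕ → Equiv.Perm α) (hs1 : s 1 ∈ G) (hs1q : s 1 (q 1) = q 2 ∧ s 1 (q 2) = q 1) (hsq : ∀ i : ℕ, 2 ≤ i → i + 1 ≤ t → s i (q i) = q (i + 1) ∧ s i (q (i + 1)) = q i ∧ ∀ j : ℕ, 1 ≤ j → j ≤ t → j ≠ i → j ≠ i + 1 → s i (q j) = q j) (H : Subgroup (Equiv.Perm α)) (hH : H = G ⊓ MulAction.stabilizer (Equiv.Perm α) (q 1) ⊓ MulAction.stabilizer (Equiv.Perm α) (q 2)) (hsq2 : ∀ i : ℕ, 1 ≤ i → i + 1 ≤ t → s i ^ 2 ∈ H) (hbraid : ∀ i : ℕ, 1 ≤ i → i + 2 ≤ t → (s i * s (i + 1)) ^ 3 ∈ H) (hcomm : ∀ i j : ℕ, 1 ≤ i → i + 2 ≤ j → j + 1 ≤ t → (s i *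 s j) ^ 2 ∈ H ∧ (s j * s i) ^ 2 ∈ H) (hnorm : ∀ i : ℕ, 2 ≤ i → i + 1 ≤ t → ∀ g ∈ G ⊓ MulAction.stabilizer (Equiv.Perm α) (q 2), s i * g * (s i)⁻¹ ∈ G ⊓ MulAction.stabilizer (Equiv.Perm α) (q 2)) : MulAction.IsMultiplyPretransitive ↥(Subgroup.closure ((G : Set (Equiv.Perm α)) ∪ {x | ∃ i : ℕ, 2 ≤ i ∧ i + 1 ≤ t ∧ x = s i})) α t ∧ Subgroup.closure ((G : Set (Equiv.Perm α)) ∪ {x | ∃ i : ℕ, 2 ≤ i ∧ i + 1 ≤ t ∧ x = s i}) ⊓ fixingSubgroup (Equiv.Perm α) {x | ∃ i : ℕ, 1 ≤ i ∧ i ≤ t ∧ x = q i} = H := by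
  have hyp : Hyp t q G s H :=
    ⟨ht, hq, hfix, h2, hs1, hs1q, hsq, hH, hsq2, hbraid, hcomm, hnorm⟩
  obtain ⟨k, rfl⟩ : ∃ k, t = k + 1 := ⟨t - 1, by omega⟩
  obtain ⟨p1, p2, -⟩ := P_all hyp k (by omega) le_rfl
  change MulAction.IsMultiplyPretransitive ↥(Lk G s (k + 1)) α (k + 1) ∧
    Lk G s (k + 1) ⊓ fixingSubgroup (Equiv.Perm α) {x | ∃ i : ℕ, 1 ≤ i ∧ i ≤ k + 1 ∧ x = q i} = H
  constructor
  · refine ⟨fun x y => ?_⟩
    obtain ⟨g, hg, e⟩ := p1 (k + 1) le_rfl (List.ofFn x) (List.ofFn y) (List.length_ofFn)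
      (List.length_ofFn) (List.nodup_ofFn.mpr x.injective) (List.nodup_ofFn.mpr y.injective)
      (by intro a _ j hj1 hj2; omega) (by intro a _ j hj1 hj2; omega)
    rw [List.map_ofFn] at e
    have e' := List.ofFn_injective e
    refine ⟨⟨g, hg⟩, ?_⟩
    ext i
    exact congrFun e' i
  · apply le_antisymm
    · rintro m ⟨hm1, hm2⟩
      apply p2 m hm1
      intro j hj1 hj2
      exact (mem_fixingSubgroup_iff _).mp hm2 (q j) ⟨j, hj1, hj2, rfl⟩
    · intro m hm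
      refine Subgroup.mem_inf.mpr ⟨G_le_Lk _ (H_le_G hyp hm), ?_⟩
      rw [mem_fixingSubgroup_iff]
      rintro y ⟨i, hi1, hi2, rfl⟩
      rw [hH] at hm
      obtain ⟨⟨hmG, hm1⟩, hm2⟩ := hm
      by_cases h1 : i = 1
      · subst h1; exact hm1
      · by_cases h2' : i = 2
        · subst h2'; exact hm2
        · exact hfix m hmG i (by omega) hi2

end Cfsg.Agent.S0709
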