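import Mathlib
import Cfsg.Statements.S0710

set_option autoImplicit false
open Cfsg

namespace Cfsg.Agent.S0710

open Subgroup MulAction

/-- A subgroup of prime order `p` of a permutation group of degree `p` is self-centralizing. -/
theorem centralizer_eq_of_card {α : Type*} [Fintype α] [DecidableEq α] {p : ℕ} [Fact p.Prime]
    (hα : Fintype.card α = p) (G : Subgroup (Equiv.Perm α)) (P : Subgroup G) (hP : Nat.card P = p) :
    centralizer (P : Set G) = P := by
  have hp : p.Prime := Fact.out
  have hcyc : IsCyclic P := isCyclic_of_prime_card hP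
  have hPcomm : ∀ x ∈ P, ∀ y ∈ P, x * y = y * x := by
    intro x hx y hy
    let _ : CommGroup P := IsCyclic.commGroup
    have := mul_comm (⟨x, hx⟩ : P) ⟨y, hy⟩
    exact Subtype.ext_iff.1 this
  -- a nontrivial element and a point moved by it
  have hnt : Nontrivial P := by
    rw [← Finite.one_lt_card_iff_nontrivial, hP]; exact hp.one_lt
  obtain ⟨⟨σ, hσP⟩, hσ1⟩ := exists_ne (1 : P)
  have hσ1' : σ ≠ 1 := fun h => hσ1 (Subtype.ext h)
  have hσ1'' : (σ : Equiv.Perm α) ≠ 1 := fun h => hσ1' (Subtype.ext h)
  obtain ⟨a, ha⟩ : ∃ a : α, (σ : Equiv.Perm α) a ≠ a := by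
    by_contra hcon
    simp only [not_exists, not_not] at hcon
    exact hσ1'' (Equiv.ext hcon)
  -- the orbit of a under P is everything
  have horb : orbit P a = Set.univ := by
    have hdvd : Nat.card (orbit P a) ∣ p := by
      rw [Nat.card_coe_set_eq, ← index_stabilizer, ← hP]
      exact Subgroup.index_dvd_card _
    have hne1 : Nat.card (orbit P a) ≠ 1 := by
      intro h1
      rw [Nat.card_eq_one_iff_unique] at h1
      obtain ⟨hss, _⟩ := h1
      have h2 : (⟨a, mem_orbit_self a⟩ : orbit P a) = ⟨(⟨σ, hσP⟩ : P) • a, mem_orbit a _⟩ :=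
        Subsingleton.elim _ _
      have h3 := congrArg Subtype.val h2
      exact ha h3.symm
    have hcard : Nat.card (orbit P a) = p := by
      rcases (Nat.dvd_prime hp).1 hdvd with h | h
      · exact absurd h hne1
      · exact h
    rw [Set.eq_univ_iff_ncard, ← Nat.card_coe_set_eq, hcard, Nat.card_eq_fintype_card, hα]
  apply le_antisymm
  · intro c hc
    rw [mem_centralizer_iff] at hc
    -- find x ∈ P with x a = c a
    have hca : c • a ∈ orbit P a := by rw [horb]; exact Set.mem_univ _
    obtain ⟨⟨x, hx⟩, hxa⟩ := hca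
    have hxa' : x • a = c • a := hxa
    -- y = x⁻¹ c fixes everything
    have hy : x⁻¹ * c = 1 := by
      apply Subtype.ext
      ext b
      have hb : b ∈ orbit P a := by rw [horb]; exact Set.mem_univ _
      obtain ⟨⟨z, hz⟩, hzb⟩ := hb
      have hzb' : z • a = b := hzb
      show (x⁻¹ * c) • b = b
      rw [← hzb', ← mul_smul, mul_assoc, ← hc z hz, ← mul_assoc,
        ← hPcomm z hz x⁻¹ (P.inv_mem hx), mul_assoc, mul_smul, mul_smul, ← hxa', inv_smul_smul]
    have : c = x := by
      have := congrArg (fun t => x * t) hy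
      simpa using this
    rw [this]; exact hx
  · intro x hx
    rw [mem_centralizer_iff]
    intro y hy
    exact hPcomm y hy x hx

/-- No transitive permutation group on 13 points has order `13 * 12 * 11 * 10 * 9 * 8`. -/
theorem result {α : Type*} [Fintype α] [DecidableEq α] (hα : Fintype.card α = 13) (G : Subgroup (Equiv.Perm α)) [MulAction.IsPretransitive G α] : Nat.card G ≠ 13 * 12 * 11 * 10 * 9 * 8 := by
  intro hcard
  have : Fact (Nat.Prime 13) := ⟨by norm_num⟩
  obtain ⟨P⟩ : Nonempty (Sylow 13 G) := inferInstance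
  have hP13 : Nat.card P = 13 := by
    rw [P.card_eq_multiplicity, hcard]
    have h1 : 13 * 12 * 11 * 10 * 9 * 8 = 13 ^ 1 * 95040 := by norm_num
    rw [h1, Nat.factorization_mul (by norm_num) (by norm_num),
      Nat.Prime.factorization_pow (by norm_num)]
    simp [Nat.factorization_eq_zero_of_not_dvd (show ¬ 13 ∣ 95040 by norm_num)]
  have key := card_dvd_of_injective _ (QuotientGroup.kerLift_injective (P : Subgroup G).normalizerMonoidHom)
  rw [normalizerMonoidHom_ker, ← index, ← relIndex] at key
  have hcyc : IsCyclic (P : Subgroup G) := isCyclic_of_prime_card hP13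
  rw [hcyc.card_mulAut, hP13, Nat.totient_prime (by norm_num)] at key
  rw [centralizer_eq_of_card hα G (P : Subgroup G) hP13] at key
  -- cardinalities
  have h1 : (P : Subgroup G).relIndex (normalizer ((P : Subgroup G) : Set G)) * Nat.card (P : Subgroup G) =
      Nat.card (normalizer ((P : Subgroup G) : Set G)) := by
    have h := Subgroup.card_mul_index ((P : Subgroup G).subgroupOf (normalizer ((P : Subgroup G) : Set G)))
    rw [Nat.card_congr (Subgroup.subgroupOfEquivOfLe (le_normalizer (H := (P : Subgroup G)))).toEquiv] at h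
    rw [mul_comm]
    exact h
  have h2 : Nat.card (normalizer ((P : Subgroup G) : Set G)) * Nat.card (Sylow 13 G) = Nat.card G := by
    rw [P.card_eq_index_normalizer]
    exact Subgroup.card_mul_index _
  have h3 : Nat.card (Sylow 13 G) ≡ 1 [MOD 13] := card_sylow_modEq_one 13 G
  set d := (P : Subgroup G).relIndex (normalizer ((P : Subgroup G) : Set G)) with hd
  set n := Nat.card (Sylow 13 G) with hn
  rw [← h1, hP13, hcard] at h2
  have hd12 : d ≤ 12 := Nat.le_of_dvd (by norm_num) key
  have hd0 : 0 < d := Nat.pos_of_dvd_of_pos key (by norm_num)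
  unfold Nat.ModEq at h3
  interval_cases d <;> omega

end Cfsg.Agent.S0710
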