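import Cfsg.Statements.S0711
import Mathlib

set_option autoImplicit false
set_option linter.unusedSectionVars false
open Cfsg

namespace Cfsg.Agent.S0711

open Equiv Equiv.Perm MulAction

section

variable {α : Type*} [Fintype α] [DecidableEq α] (G : Subgroup (Perm α))

/-- From `k`-transitivity: an element fixing `F` pointwise and moving `c` to `d`. -/
theorem exists_fixing {k : ℕ} (hG : IsMultiplyPretransitive G α k) (hkn : k ≤ Fintype.card α)
    (F : Finset α) (hF : F.card + 1 ≤ k) (c d : α) (hc : c ∉ F) (hd : d ∉ F) :
    ∃ t ∈ G, (∀ v ∈ F, t v = v) ∧ t c = d := by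
  have h1 : IsMultiplyPretransitive (fixingSubgroup G (F : Set α))
      (SubMulAction.ofFixingSubgroup G (F : Set α)) 1 := by
    apply SubMulAction.ofFixingSubgroup.isMultiplyPretransitive' (n := k) (F : Set α)
    · rw [Set.ncard_coe_finset]; exact hF
    · rw [ENat.card_eq_coe_fintype_card]; exact_mod_cast hkn
  rw [is_one_pretransitive_iff] at h1
  have hc' : c ∈ SubMulAction.ofFixingSubgroup G (F : Set α) := by
    rw [SubMulAction.mem_ofFixingSubgroup_iff]; exact hc
  have hd' : d ∈ SubMulAction.ofFixingSubgroup G (F : Set α) := by
    rw [SubMulAction.mem_ofFixingSubgroup_iff]; exact hd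
  obtain ⟨t, ht⟩ := h1.exists_smul_eq (⟨c, hc'⟩ : SubMulAction.ofFixingSubgroup G (F : Set α))
    ⟨d, hd'⟩
  refine ⟨((t : G) : Perm α), (t : G).2, ?_, ?_⟩
  · intro v hv
    have := (mem_fixingSubgroup_iff G).mp t.2 v hv
    exact this
  · have := congrArg Subtype.val ht
    exact this

/-- The exit count of `F` under `g`. -/
def exits (g : Perm α) (F : Finset α) : ℕ := (F.filter (fun v => g v ∉ F)).card

theorem core {k : ℕ} (hG : IsMultiplyPretransitive G α k) (hkn : k ≤ Fintype.card α)
    (g : Perm α) (hg : g ∈ G) (F : Finset α) (hFs : F ⊆ g.support) (hFk : F.card + 1 = k)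
    (u : α) (hu : u ∈ F) (hgu : g u ∉ F) (hm : k + 1 ≤ g.support.card)
    (hb : 2 * g.support.card + 1 + exits g F < g.support.card + 2 * k) :
    ∃ z ∈ G, z ≠ 1 ∧ z.support.card < g.support.card := by
  set s := g.support with hs
  have hus : u ∈ s := hFs hu
  have hcs : g u ∈ s := by rw [hs]; exact (Perm.apply_mem_support).mpr hus
  -- a point d in s \ F different from c
  have hsd : (s \ F).card = s.card - F.card := Finset.card_sdiff_of_subset hFs
  have hcsF : g u ∈ s \ F := Finset.mem_sdiff.mpr ⟨hcs, hgu⟩
  obtain ⟨d, hd⟩ : ((s \ F).erase (g u)).Nonempty := by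
    rw [← Finset.card_pos, Finset.card_erase_of_mem hcsF]
    omega
  have hdc : d ≠ g u := Finset.ne_of_mem_erase hd
  have hdsF : d ∈ s \ F := Finset.mem_of_mem_erase hd
  have hds : d ∈ s := (Finset.mem_sdiff.mp hdsF).1
  have hdF : d ∉ F := (Finset.mem_sdiff.mp hdsF).2
  obtain ⟨t, htG, htF, htc⟩ := exists_fixing G hG hkn F (by omega) (g u) d hgu hdF
  have htinv : ∀ v ∈ F, t⁻¹ v = v := by
    intro v hv
    rw [Perm.inv_eq_iff_eq, htF v hv]
  refine ⟨t * g * t⁻¹ * g⁻¹, ?_, ?_, ?_⟩
  · exact G.mul_mem (G.mul_mem (G.mul_mem htG hg) (G.inv_mem htG)) (G.inv_mem hg)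
  · intro h1
    have := congrArg (fun f : Perm α => f (g u)) h1
    simp only [Perm.mul_apply, Perm.one_apply] at this
    have hgi : g⁻¹ (g u) = u := by simp
    rw [hgi, htinv u hu, htc] at this
    exact hdc this
  · set ts := s.image t with hts
    set A := F.filter (fun v => g v ∈ F) with hA
    set B := (s ∪ ts) \ A with hB
    have hsub : (t * g * t⁻¹ * g⁻¹).support ⊆ B.image g := by
      intro ω hω
      rw [Perm.mem_support] at hω
      rw [Finset.mem_image]
      refine ⟨g⁻¹ ω, ?_, by simp⟩
      by_contra hv
      apply hω
      set v := g⁻¹ ω with hvdef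
      have hωv : ω = g v := by simp [hvdef]
      simp only [Perm.mul_apply]
      rw [← hvdef]
      rw [hB, Finset.mem_sdiff, not_and_or, not_not] at hv
      rcases hv with hv | hv
      · -- v ∉ s ∪ ts
        rw [Finset.mem_union, not_or] at hv
        obtain ⟨hv1, hv2⟩ := hv
        have hgv : g v = v := by
          rw [hs, Perm.mem_support, not_not] at hv1; exact hv1
        have htv : t⁻¹ v ∉ s := by
          intro h
          apply hv2
          rw [hts, Finset.mem_image]
          exact ⟨t⁻¹ v, h, by simp⟩
        have hgtv : g (t⁻¹ v) = t⁻¹ v := by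
          rw [hs, Perm.mem_support, not_not] at htv; exact htv
        rw [hgtv, hωv, hgv]; simp
      · -- v ∈ A
        rw [hA, Finset.mem_filter] at hv
        obtain ⟨hvF, hgvF⟩ := hv
        rw [htinv v hvF, htF _ hgvF, hωv]
    have h1 : (t * g * t⁻¹ * g⁻¹).support.card ≤ B.card :=
      (Finset.card_le_card hsub).trans Finset.card_image_le
    have hAs : A ⊆ s ∪ ts := by
      intro v hv
      rw [hA, Finset.mem_filter] at hv
      exact Finset.mem_union_left _ (hFs hv.1)
    have h2 : B.card = (s ∪ ts).card - A.card := Finset.card_sdiff_of_subset hAs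
    have h3 : (s ∪ ts).card + (s ∩ ts).card = s.card + ts.card :=
      Finset.card_union_add_card_inter s ts
    have h4 : ts.card = s.card := Finset.card_image_of_injective s t.injective
    have h5 : insert d F ⊆ s ∩ ts := by
      intro v hv
      rw [Finset.mem_insert] at hv
      rw [Finset.mem_inter, hts, Finset.mem_image]
      rcases hv with rfl | hv
      · exact ⟨hds, g u, hcs, htc⟩
      · exact ⟨hFs hv, v, hFs hv, htF v hv⟩
    have h6 : (insert d F).card = F.card + 1 := Finset.card_insert_of_notMem hdF
    have h7 : F.card + 1 ≤ (s ∩ ts).card := by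
      rw [← h6]; exact Finset.card_le_card h5
    have h8 : A.card + exits g F = F.card := by
      rw [hA, exits]
      exact Finset.card_filter_add_card_filter_not (fun v => g v ∈ F)
    omega

/-- Sets with at most one exit exist in every size. -/
theorem exists_nice (g : Perm α) (f : ℕ) (hf : f ≤ g.support.card) :
    ∃ F : Finset α, F ⊆ g.support ∧ F.card = f ∧ exits g F ≤ 1 := by
  induction f with
  | zero => exact ⟨∅, Finset.empty_subset _, rfl, by simp [exits]⟩
  | succ f ih =>
    obtain ⟨F, hFs, hFc, hFe⟩ := ih (by omega)
    by_cases he : exits g F = 0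
    · -- invariant: add any point
      have : (g.support \ F).Nonempty := by
        rw [← Finset.card_pos, Finset.card_sdiff_of_subset hFs]; omega
      obtain ⟨p, hp⟩ := this
      obtain ⟨hps, hpF⟩ := Finset.mem_sdiff.mp hp
      refine ⟨insert p F, ?_, ?_, ?_⟩
      · intro v hv
        rcases Finset.mem_insert.mp hv with rfl | hv
        · exact hps
        · exact hFs hv
      · rw [Finset.card_insert_of_notMem hpF, hFc]
      · have hsub : (insert p F).filter (fun v => g v ∉ insert p F) ⊆ {p} := by
          intro v hv
          rw [Finset.mem_filter] at hv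
          obtain ⟨hv1, hv2⟩ := hv
          rw [Finset.mem_singleton]
          rcases Finset.mem_insert.mp hv1 with h | h
          · exact h
          · exfalso
            have h0 : F.filter (fun v => g v ∉ F) = ∅ := Finset.card_eq_zero.mp he
            have : v ∉ F.filter (fun v => g v ∉ F) := by rw [h0]; simp
            apply this
            rw [Finset.mem_filter]
            exact ⟨h, fun hg => hv2 (Finset.mem_insert_of_mem hg)⟩
        calc exits g (insert p F) ≤ ({p} : Finset α).card := Finset.card_le_card hsub
          _ = 1 := Finset.card_singleton p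
    · -- one exit: add its image
      have he1 : exits g F = 1 := by omega
      obtain ⟨u, hu⟩ := Finset.card_eq_one.mp he1
      have humem : u ∈ F.filter (fun v => g v ∉ F) := by rw [hu]; simp
      obtain ⟨huF, hguF⟩ := Finset.mem_filter.mp humem
      have hgus : g u ∈ g.support := (Perm.apply_mem_support).mpr (hFs huF)
      refine ⟨insert (g u) F, ?_, ?_, ?_⟩
      · intro v hv
        rcases Finset.mem_insert.mp hv with rfl | hv
        · exact hgus
        · exact hFs hv
      · rw [Finset.card_insert_of_notMem hguF, hFc]
      · have hsub : (insert (g u) F).filter (fun v => g v ∉ insert (g u) F) ⊆ {g u} := by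
          intro v hv
          rw [Finset.mem_filter] at hv
          obtain ⟨hv1, hv2⟩ := hv
          rw [Finset.mem_singleton]
          rcases Finset.mem_insert.mp hv1 with h | h
          · exact h
          · exfalso
            have hvex : v ∈ F.filter (fun v => g v ∉ F) := by
              rw [Finset.mem_filter]
              exact ⟨h, fun hg => hv2 (Finset.mem_insert_of_mem hg)⟩
            rw [hu, Finset.mem_singleton] at hvex
            apply hv2
            rw [hvex]
            exact Finset.mem_insert_self _ _
        calc exits g (insert (g u) F) ≤ ({g u} : Finset α).card := Finset.card_le_card hsub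
          _ = 1 := Finset.card_singleton _

theorem invariant_of_exits_zero (g : Perm α) (F : Finset α) (he : exits g F = 0) :
    (∀ v ∈ F, g v ∈ F) ∧ ∀ v, g v ∈ F → v ∈ F := by
  have h0 : F.filter (fun v => g v ∉ F) = ∅ := Finset.card_eq_zero.mp he
  have h1 : ∀ v ∈ F, g v ∈ F := by
    intro v hv
    by_contra hg
    have : v ∈ F.filter (fun v => g v ∉ F) := Finset.mem_filter.mpr ⟨hv, hg⟩
    rw [h0] at this
    simp at this
  refine ⟨h1, ?_⟩
  have himg : F.image g = F := by
    apply Finset.eq_of_subset_of_card_le
    · intro w hw
      obtain ⟨v, hv, rfl⟩ := Finset.mem_image.mp hw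
      exact h1 v hv
    · rw [Finset.card_image_of_injective F g.injective]
  intro v hv
  rw [← himg] at hv
  obtain ⟨w, hw, hwv⟩ := Finset.mem_image.mp hv
  rw [← g.injective hwv]; exact hw

/-- The reduction step. -/
theorem reduce {k : ℕ} (hG : IsMultiplyPretransitive G α k) (hkn : k + 3 ≤ Fintype.card α)
    (g : Perm α) (hg : g ∈ G) (h4 : 4 ≤ g.support.card) (hlt : g.support.card + 3 ≤ 2 * k) :
    ∃ z ∈ G, z ≠ 1 ∧ z.support.card < g.support.card := by
  set s := g.support with hs
  set m := s.card with hm
  have hgs : g.support.card = m := rfl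
  by_cases hmk : m ≤ k
  · -- Case A
    obtain ⟨c, hc⟩ : s.Nonempty := by rw [← Finset.card_pos]; omega
    set F := s.erase c with hF
    have hFc : F.card = m - 1 := Finset.card_erase_of_mem hc
    have hcF : c ∉ F := Finset.notMem_erase c s
    obtain ⟨d, hd⟩ : ∃ d, d ∉ s := by
      by_contra hcon
      push Not at hcon
      have : s = Finset.univ := Finset.eq_univ_iff_forall.mpr hcon
      rw [this, Finset.card_univ] at hm
      omega
    have hdF : d ∉ F := fun h => hd (Finset.mem_of_mem_erase h)
    obtain ⟨t, htG, htF, htc⟩ := exists_fixing G hG (by omega) F (by omega) c d hcF hdF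
    have htinv : ∀ v ∈ F, t⁻¹ v = v := by
      intro v hv
      rw [Perm.inv_eq_iff_eq, htF v hv]
    have hgc : g c ≠ c := by rw [hs, Perm.mem_support] at hc; exact hc
    have hcd : c ≠ d := fun h => hd (h ▸ hc)
    -- e = t⁻¹ c is outside s
    have api : ∀ (z : Perm α) (ω : α), z (z⁻¹ ω) = ω := fun z ω => by simp
    have iap : ∀ (z : Perm α) (ω : α), z⁻¹ (z ω) = ω := fun z ω => by simp
    have he1 : t⁻¹ c ∉ F := by
      intro h
      have h5 := htF _ h
      rw [api] at h5
      rw [← h5] at h
      exact hcF h
    have he2 : t⁻¹ c ≠ c := by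
      intro h
      have h5 := api t c
      rw [h, htc] at h5
      exact hcd h5.symm
    have he3 : t⁻¹ c ∉ s := by
      intro h
      exact he1 (Finset.mem_erase.mpr ⟨he2, h⟩)
    have hge : g (t⁻¹ c) = t⁻¹ c := by
      rw [hs, Perm.mem_support, not_not] at he3; exact he3
    refine ⟨t * g * t⁻¹ * g⁻¹, ?_, ?_, ?_⟩
    · exact G.mul_mem (G.mul_mem (G.mul_mem htG hg) (G.inv_mem htG)) (G.inv_mem hg)
    · intro h1
      have := congrArg (fun f : Perm α => f (g c)) h1
      simp only [Perm.mul_apply, Perm.one_apply] at this
      rw [iap, hge, api] at this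
      exact hgc this.symm
    · have hsub : (t * g * t⁻¹ * g⁻¹).support ⊆ {c, g c, d} := by
        intro ω hω
        rw [Perm.mem_support] at hω
        by_contra hnot
        simp only [Finset.mem_insert, Finset.mem_singleton, not_or] at hnot
        obtain ⟨hω1, hω2, hω3⟩ := hnot
        apply hω
        simp only [Perm.mul_apply]
        by_cases hωs : ω ∈ s
        · have h1 : g⁻¹ ω ∈ s := by
            rw [hs, Perm.mem_support] at hωs ⊢
            intro h
            apply hωs
            rw [api] at h
            have h6 : g ω = ω := by
              conv_lhs => rw [h]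
              exact api g ω
            exact h6
          have h2 : g⁻¹ ω ≠ c := by
            intro h
            apply hω2
            rw [← h, api]
          have h3 : g⁻¹ ω ∈ F := Finset.mem_erase.mpr ⟨h2, h1⟩
          have h4 : ω ∈ F := Finset.mem_erase.mpr ⟨hω1, hωs⟩
          rw [htinv _ h3, api]
          exact htF ω h4
        · have h1 : g⁻¹ ω = ω := by
            rw [hs, Perm.mem_support, not_not] at hωs
            rw [Perm.inv_eq_iff_eq, hωs]
          rw [h1]
          have h2 : t⁻¹ ω ∉ s := by
            intro h
            by_cases h3 : t⁻¹ ω = c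
            · apply hω3
              have h5 := api t ω
              rw [h3, htc] at h5
              exact h5.symm
            · have h4 : t⁻¹ ω ∈ F := Finset.mem_erase.mpr ⟨h3, h⟩
              have h5 := htF _ h4
              rw [api] at h5
              rw [← h5] at h4
              exact hωs (Finset.mem_of_mem_erase h4)
          have h3 : g (t⁻¹ ω) = t⁻¹ ω := by
            rw [hs, Perm.mem_support, not_not] at h2; exact h2
          rw [h3, api]
      calc (t * g * t⁻¹ * g⁻¹).support.card ≤ ({c, g c, d} : Finset α).card :=
            Finset.card_le_card hsub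
        _ ≤ 3 := Finset.card_le_three
        _ < m := by omega
  · -- Case B
    have hmk' : k + 1 ≤ m := by omega
    obtain ⟨F, hFs, hFc, hFe⟩ := exists_nice g (k - 1) (by omega)
    by_cases he : exits g F = 1
    · obtain ⟨u, hu⟩ := Finset.card_eq_one.mp he
      have humem : u ∈ F.filter (fun v => g v ∉ F) := by rw [hu]; simp
      obtain ⟨huF, hguF⟩ := Finset.mem_filter.mp humem
      exact core G hG (by omega) g hg F hFs (by omega) u huF hguF hmk' (by omega)
    · have he0 : exits g F = 0 := by omega
      obtain ⟨hinv1, hinv2⟩ := invariant_of_exits_zero g F he0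
      have hFne : F.Nonempty := by rw [← Finset.card_pos]; omega
      obtain ⟨p, hp⟩ := hFne
      have hgp : g p ≠ p := by
        have := hFs hp
        rw [Perm.mem_support] at this; exact this
      by_cases hm2 : m + 4 ≤ 2 * k
      · -- swap a point of F for a point outside
        obtain ⟨q, hq⟩ : (s \ F).Nonempty := by
          rw [← Finset.card_pos, Finset.card_sdiff_of_subset hFs]; omega
        obtain ⟨hqs, hqF⟩ := Finset.mem_sdiff.mp hq
        set F' := insert q (F.erase p) with hF'
        have hqF' : q ∉ F.erase p := fun h => hqF (Finset.mem_of_mem_erase h)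
        have hF'c : F'.card = k - 1 := by
          rw [hF', Finset.card_insert_of_notMem hqF', Finset.card_erase_of_mem hp, hFc]
          omega
        have hF's : F' ⊆ s := by
          intro v hv
          rcases Finset.mem_insert.mp hv with rfl | hv
          · exact hqs
          · exact hFs (Finset.mem_of_mem_erase hv)
        have hgq : g q ≠ q := by rw [hs, Perm.mem_support] at hqs; exact hqs
        have hgqF' : g q ∉ F' := by
          intro h
          rcases Finset.mem_insert.mp h with h | h
          · exact hgq h
          · exact hqF (hinv2 q (Finset.mem_of_mem_erase h))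
        have hex : exits g F' ≤ 2 := by
          have hsub : F'.filter (fun v => g v ∉ F') ⊆ {q, g⁻¹ p} := by
            intro v hv
            obtain ⟨hv1, hv2⟩ := Finset.mem_filter.mp hv
            simp only [Finset.mem_insert, Finset.mem_singleton]
            rcases Finset.mem_insert.mp hv1 with h | h
            · left; exact h
            · right
              have hvF : v ∈ F := Finset.mem_of_mem_erase h
              have hgvF : g v ∈ F := hinv1 v hvF
              by_contra hne
              apply hv2
              apply Finset.mem_insert_of_mem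
              rw [Finset.mem_erase]
              refine ⟨?_, hgvF⟩
              intro hgv
              apply hne
              rw [← hgv]; simp
          calc exits g F' ≤ ({q, g⁻¹ p} : Finset α).card := Finset.card_le_card hsub
            _ ≤ 2 := Finset.card_le_two
        exact core G hG (by omega) g hg F' hF's (by omega) q (Finset.mem_insert_self _ _) hgqF'
          hmk' (by omega)
      · -- m = 2k - 3: use the complement plus one point
        have hm3 : m + 3 = 2 * k := by omega
        set R := s \ F with hR
        have hRc : R.card = m - (k - 1) := by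
          rw [hR, Finset.card_sdiff_of_subset hFs, hFc]
        have hpR : p ∉ R := fun h => (Finset.mem_sdiff.mp h).2 hp
        set F' := insert p R with hF'
        have hF'c : F'.card = k - 1 := by
          rw [hF', Finset.card_insert_of_notMem hpR, hRc]; omega
        have hF's : F' ⊆ s := by
          intro v hv
          rcases Finset.mem_insert.mp hv with rfl | hv
          · exact hFs hp
          · exact (Finset.mem_sdiff.mp hv).1
        have hgpF' : g p ∉ F' := by
          intro h
          rcases Finset.mem_insert.mp h with h | h
          · exact hgp h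
          · exact (Finset.mem_sdiff.mp h).2 (hinv1 p hp)
        have hex : exits g F' ≤ 1 := by
          have hsub : F'.filter (fun v => g v ∉ F') ⊆ {p} := by
            intro v hv
            obtain ⟨hv1, hv2⟩ := Finset.mem_filter.mp hv
            rw [Finset.mem_singleton]
            rcases Finset.mem_insert.mp hv1 with h | h
            · exact h
            · exfalso
              apply hv2
              apply Finset.mem_insert_of_mem
              obtain ⟨hvs, hvF⟩ := Finset.mem_sdiff.mp h
              rw [hR, Finset.mem_sdiff]
              refine ⟨(Perm.apply_mem_support).mpr hvs, fun hgv => hvF (hinv2 v hgv)⟩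
          calc exits g F' ≤ ({p} : Finset α).card := Finset.card_le_card hsub
            _ = 1 := Finset.card_singleton p
        exact core G hG (by omega) g hg F' hF's (by omega) p (Finset.mem_insert_self _ _) hgpF'
          hmk' (by omega)

end

/-- A `k`-transitive permutation group (`k ≥ 3`) with a non-identity element of support smaller than `2k - 2` contains a non-identity element of support at most 3, and therefore contains the alternating group. -/
theorem result {α : Type*} [Fintype α] [DecidableEq α] (G : Subgroup (Equiv.Perm α)) {k : ℕ} (hk : 3 ≤ k) (hkn : k ≤ Fintype.card α) (hG : MulAction.IsMultiplyPretransitive G α k) (g : Equiv.Perm α) (hg : g ∈ G) (hg1 : g ≠ 1) (hsupp : g.support.card < 2 * k - 2) : (∃ h : Equiv.Perm α, h ∈ G ∧ h ≠ 1 ∧ h.support.card ≤ 3) ∧ alternatingGroup α ≤ G := by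
  have hcardα : (k : ENat) ≤ ENat.card α := by
    rw [ENat.card_eq_coe_fintype_card]; exact_mod_cast hkn
  have h2 : IsMultiplyPretransitive G α 2 :=
    isMultiplyPretransitive_of_le' (n := k) (by omega) hcardα
  have hprim : IsPreprimitive G α := isPreprimitive_of_is_two_pretransitive h2
  have key : ∀ h : Perm α, h ∈ G → h ≠ 1 → h.support.card ≤ 3 → alternatingGroup α ≤ G := by
    intro h hhG hh1 hh3
    have h0 : h.support.card ≠ 0 := by
      rw [Ne, Perm.card_support_eq_zero]; exact hh1
    have h1 : h.support.card ≠ 1 := Perm.card_support_ne_one h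
    have h23 : h.support.card = 2 ∨ h.support.card = 3 := by omega
    rcases h23 with h23 | h23
    · have hsw : h.IsSwap := Perm.card_support_eq_two.mp h23
      have := subgroup_eq_top_of_isPreprimitive_of_isSwap_mem hprim h hsw hhG
      rw [this]; exact le_top
    · have h3c : h.IsThreeCycle := card_support_eq_three_iff.mp h23
      exact alternatingGroup_le_of_isPreprimitive_of_isThreeCycle_mem hprim h3c hhG
  suffices hex : ∃ h : Perm α, h ∈ G ∧ h ≠ 1 ∧ h.support.card ≤ 3 by
    obtain ⟨h, hhG, hh1, hh3⟩ := hex
    exact ⟨⟨h, hhG, hh1, hh3⟩, key h hhG hh1 hh3⟩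
  by_cases hn : Fintype.card α ≤ k + 2
  · have hnk : IsMultiplyPretransitive G α (Nat.card α - 2) := by
      apply isMultiplyPretransitive_of_le' (n := k) _ hcardα
      rw [Nat.card_eq_fintype_card]; omega
    have hA : alternatingGroup α ≤ G := _root_.IsMultiplyPretransitive.alternatingGroup_le α G hnk
    have h3 : 2 < Fintype.card α := by omega
    obtain ⟨a, b, c, hab, hac, hbc⟩ := Fintype.two_lt_card_iff.mp h3
    have h3c : (swap a b * swap a c).IsThreeCycle := isThreeCycle_swap_mul_swap_same hab hac hbc
    refine ⟨swap a b * swap a c, hA h3c.mem_alternatingGroup, ?_, ?_⟩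
    · intro h1
      have := h3c.card_support
      rw [h1] at this
      simp at this
    · rw [h3c.card_support]
  · have hn' : k + 3 ≤ Fintype.card α := by omega
    have hind : ∀ m : ℕ, ∀ g : Perm α, g ∈ G → g ≠ 1 → g.support.card = m → m + 3 ≤ 2 * k →
        ∃ h : Perm α, h ∈ G ∧ h ≠ 1 ∧ h.support.card ≤ 3 := by
      intro m
      induction m using Nat.strong_induction_on with
      | _ m ih =>
        intro g hg hg1 hgm hm
        by_cases h3 : m ≤ 3
        · exact ⟨g, hg, hg1, by omega⟩
        · obtain ⟨z, hzG, hz1, hzlt⟩ := reduce G hG hn' g hg (by omega) (by omega)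
          exact ih z.support.card (by omega) z hzG hz1 rfl (by omega)
    exact hind g.support.card g hg hg1 rfl (by omega)

end Cfsg.Agent.S0711
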