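import Mathlib
import Cfsg.Statements.S0713

set_option autoImplicit false
open Cfsg

namespace Cfsg.Agent.S0713

open Equiv MulAction

variable {α : Type*} [Fintype α] [DecidableEq α]

/-- If `t` commutes with the cycle `g` and agrees outside the support of `g` with a permutation `τ`
fixing the support of `g` pointwise, then `τ` is `t` times a power of `g`. -/
theorem eq_zpow_mul_of_commute {g t τ : Perm α} (hgc : g.IsCycle) (hcomm : t * g = g * t)
    (hout : ∀ z, z ∉ g.support → t z = τ z) (hin : ∀ z, z ∈ g.support → τ z = z) :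
    ∃ m : ℤ, τ = g ^ (-m) * t := by
  obtain ⟨γ0, hγ0, _⟩ := hgc
  have hcomm_zpow : ∀ l : ℤ, t * g ^ l = g ^ l * t := by
    intro l
    have : Commute t g := hcomm
    exact (this.zpow_right l).eq
  -- t preserves the support
  have htγ0 : g (t γ0) ≠ t γ0 := by
    intro h
    have h1 : t (g γ0) = t γ0 := by
      have := congrArg (fun σ : Perm α => σ γ0) hcomm
      simp only [Perm.coe_mul, Function.comp_apply] at this
      rw [this, h]
    exact hγ0 (t.injective h1)
  have hgc' : g.IsCycle := ⟨γ0, hγ0, fun y hy => by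
    obtain ⟨i, hi⟩ := (‹∀ ⦃y : α⦄, g y ≠ y → g.SameCycle γ0 y›) hy
    exact ⟨i, hi⟩⟩
  obtain ⟨m, hm⟩ := hgc'.exists_zpow_eq hγ0 htγ0
  refine ⟨m, ?_⟩
  ext z
  by_cases hz : z ∈ g.support
  · rw [hin z hz]
    have hz' : g z ≠ z := Perm.mem_support.1 hz
    obtain ⟨l, hl⟩ := hgc'.exists_zpow_eq hγ0 hz'
    have h1 : t z = (g ^ m) z := by
      rw [← hl]
      have := congrArg (fun σ : Perm α => σ γ0) (hcomm_zpow l)
      simp only [Perm.coe_mul, Function.comp_apply] at this
      rw [this, ← hm, ← Perm.mul_apply, ← Perm.mul_apply, ← zpow_add, ← zpow_add, add_comm]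
    show z = (g ^ (-m)) (t z)
    rw [h1, ← Perm.mul_apply, ← zpow_add, neg_add_cancel, zpow_zero, Perm.one_apply]
  · rw [← hout z hz]
    show t z = (g ^ (-m)) (t z)
    -- t z is not in the support
    have htz : t z ∉ g.support := by
      intro h
      have h' : g (t z) ≠ t z := Perm.mem_support.1 h
      apply h'
      have := congrArg (fun σ : Perm α => σ z) hcomm
      simp only [Perm.coe_mul, Function.comp_apply] at this
      rw [← this, Perm.notMem_support.1 hz]
    have : (g ^ (-m)) (t z) = t z := by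
      apply Perm.zpow_apply_eq_self_of_apply_eq_self
      exact Perm.notMem_support.1 htz
    rw [this]

/-- the pointwise stabilizer of the fixed points of a `p`-cycle has order dividing `p!` -/
theorem card_fixing_dvd (G : Subgroup (Perm α)) {g : Perm α} {p : ℕ} (hgp : g.support.card = p) :
    Nat.card (fixingSubgroup G ((g.support : Set α)ᶜ)) ∣ p.factorial := by
  have hinj : Function.Injective (MulAction.toPermHom (fixingSubgroup G ((g.support : Set α)ᶜ))
      (SubMulAction.ofFixingSubgroup G ((g.support : Set α)ᶜ))) := by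
    rw [injective_iff_map_eq_one]
    intro f hf
    apply Subtype.ext
    apply Subtype.ext
    ext z
    by_cases hz : z ∈ ((g.support : Set α)ᶜ)
    · exact (mem_fixingSubgroup_iff G).1 f.2 z hz
    · have hz' : z ∈ SubMulAction.ofFixingSubgroup G ((g.support : Set α)ᶜ) := hz
      have := congrArg (fun σ => σ ⟨z, hz'⟩) hf
      simp only [MulAction.toPermHom_apply, MulAction.toPerm_apply, Perm.one_apply] at this
      exact congrArg Subtype.val this
  have h1 := Subgroup.card_dvd_of_injective _ hinj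
  have hcard : Nat.card (SubMulAction.ofFixingSubgroup G ((g.support : Set α)ᶜ)) = p := by
    classical
    rw [Nat.card_eq_fintype_card, Fintype.card_subtype, ← hgp]
    apply congr_arg
    ext x
    simp [SubMulAction.mem_ofFixingSubgroup_iff]
  rwa [Nat.card_perm, hcard] at h1

theorem not_sq_dvd_factorial {p : ℕ} (hp : p.Prime) : ¬ p ^ 2 ∣ p.factorial := by
  intro h
  obtain ⟨m, hm⟩ : ∃ m, p = m + 1 := ⟨p - 1, by have := hp.pos; omega⟩
  rw [hm, Nat.factorial_succ, pow_two] at h
  have h2 : (m + 1) ∣ m.factorial := Nat.dvd_of_mul_dvd_mul_left (Nat.succ_pos m) h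
  rw [← hm] at h2
  have := (hp.dvd_factorial).1 h2
  omega

/-- a subgroup of order `p` of a group of order dividing `p!` is a Sylow subgroup -/
theorem exists_sylow_eq {F : Type*} [Group F] [Finite F] {p : ℕ} [hp : Fact p.Prime]
    (hF : Nat.card F ∣ p.factorial) (x : F) (hx : orderOf x = p) :
    ∃ Q : Sylow p F, (Q : Subgroup F) = Subgroup.zpowers x := by
  have hcardP : Nat.card (Subgroup.zpowers x) = p := by rw [Nat.card_zpowers, hx]
  have hP : IsPGroup p (Subgroup.zpowers x) := IsPGroup.of_card (n := 1) (by rw [hcardP, pow_one])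
  obtain ⟨Q, hPQ⟩ := hP.exists_le_sylow
  refine ⟨Q, ?_⟩
  symm
  apply Subgroup.eq_of_le_of_card_ge hPQ
  obtain ⟨e, he⟩ := IsPGroup.exists_card_eq Q.2
  rw [hcardP, he]
  have hdvd : p ^ e ∣ p.factorial := by
    rw [← he]
    exact (Subgroup.card_subgroup_dvd_card _).trans hF
  have he1 : e ≤ 1 := by
    by_contra hcon
    have : 2 ≤ e := by omega
    exact not_sq_dvd_factorial hp.out ((pow_dvd_pow p this).trans hdvd)
  calc p ^ e ≤ p ^ 1 := Nat.pow_le_pow_right hp.out.pos he1
    _ = p := pow_one p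

theorem witt (G : Subgroup (Perm α)) {g : Perm α} (hgc : g.IsCycle) (hg : g ∈ G) {p : ℕ}
    (hp : p.Prime) (hgp : g.support.card = p) {k : ℕ} (hk : (g.supportᶜ : Finset α).card = k)
    (hGk : IsMultiplyPretransitive G α k) (π : Perm α) (hπ : ∀ x ∈ g.support, π x = x) :
    ∃ u ∈ G, (∃ j : ℤ, u * g * u⁻¹ = g ^ j) ∧ ∀ z, z ∉ g.support → u z = π z := by
  have : Fact p.Prime := ⟨hp⟩
  -- enumeration of the complement of the support
  let e : (g.supportᶜ : Finset α) ≃ Fin k := Finset.equivFinOfCardEq hk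
  let x : Fin k ↪ α := e.symm.toEmbedding.trans (Function.Embedding.subtype _)
  let y : Fin k ↪ α := x.trans π.toEmbedding
  obtain ⟨h, hh⟩ := hGk.exists_smul_eq x y
  have hhz : ∀ z, z ∉ g.support → (h : Perm α) z = π z := by
    intro z hz
    have hz' : z ∈ (g.supportᶜ : Finset α) := Finset.mem_compl.2 hz
    have h1 : x (e ⟨z, hz'⟩) = z := by simp [x]
    have h2 := congrArg (fun f : Fin k ↪ α => f (e ⟨z, hz'⟩)) hh
    simp only [Function.Embedding.smul_apply] at h2
    rw [h1] at h2
    rw [show (h : Perm α) z = h • z from rfl, h2]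
    simp [y, h1]
  have hπΔ : ∀ z, z ∉ g.support → π z ∉ g.support := by
    intro z hz h1
    have := hπ _ h1
    have h2 : π z = z := π.injective this
    rw [h2] at h1
    exact hz h1
  have hπinvΔ : ∀ z, z ∉ g.support → π⁻¹ z ∉ g.support := by
    intro z hz h1
    have := hπ _ h1
    have h3 : π (π⁻¹ z) = z := by simp
    rw [h3] at this
    rw [← this] at h1
    exact hz h1
  have hhinv : ∀ z, z ∉ g.support → (h : Perm α)⁻¹ z = π⁻¹ z := by
    intro z hz
    rw [Perm.inv_eq_iff_eq, hhz _ (hπinvΔ z hz)]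
    simp
  -- the conjugate of g by h fixes the complement of the support
  have hg'mem : (h : Perm α) * g * (h : Perm α)⁻¹ ∈ G := G.mul_mem (G.mul_mem h.2 hg) (G.inv_mem h.2)
  have hg'fix : ∀ z, z ∉ g.support → ((h : Perm α) * g * (h : Perm α)⁻¹) z = z := by
    intro z hz
    simp only [Perm.coe_mul, Function.comp_apply]
    rw [hhinv z hz, Perm.notMem_support.1 (hπinvΔ z hz), ← hhinv z hz]
    simp
  have hgF : (⟨g, hg⟩ : G) ∈ fixingSubgroup G ((g.support : Set α)ᶜ) := by
    rw [mem_fixingSubgroup_iff]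
    intro z hz
    exact Perm.notMem_support.1 (by simpa using hz)
  have hg'F : (⟨(h : Perm α) * g * (h : Perm α)⁻¹, hg'mem⟩ : G) ∈
      fixingSubgroup G ((g.support : Set α)ᶜ) := by
    rw [mem_fixingSubgroup_iff]
    intro z hz
    exact hg'fix z (by simpa using hz)
  set F := fixingSubgroup G ((g.support : Set α)ᶜ) with hF
  have hFcard : Nat.card F ∣ p.factorial := card_fixing_dvd G hgp
  let gF : F := ⟨⟨g, hg⟩, hgF⟩
  let g'F : F := ⟨⟨(h : Perm α) * g * (h : Perm α)⁻¹, hg'mem⟩, hg'F⟩
  have hord : orderOf gF = p := by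
    have h1 : orderOf gF = orderOf (gF : G) := (Subgroup.orderOf_coe gF).symm
    have h2 : orderOf ((gF : G) : Perm α) = orderOf (gF : G) := Subgroup.orderOf_coe (gF : G)
    rw [h1, ← h2]
    show orderOf g = p
    rw [hgc.orderOf, hgp]
  have hord' : orderOf g'F = p := by
    have h1 : orderOf g'F = orderOf (g'F : G) := (Subgroup.orderOf_coe g'F).symm
    have h2 : orderOf ((g'F : G) : Perm α) = orderOf (g'F : G) := Subgroup.orderOf_coe (g'F : G)
    rw [h1, ← h2]
    show orderOf ((h : Perm α) * g * (h : Perm α)⁻¹) = p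
    have h3 := MulEquiv.orderOf_eq (MulAut.conj (h : Perm α)) g
    rw [MulAut.conj_apply] at h3
    rw [h3, hgc.orderOf, hgp]
  obtain ⟨Q, hQ⟩ := exists_sylow_eq hFcard gF hord
  obtain ⟨Q', hQ'⟩ := exists_sylow_eq hFcard g'F hord'
  obtain ⟨f, hf⟩ := MulAction.exists_smul_eq F Q' Q
  have hmem : f * g'F * f⁻¹ ∈ (Q : Subgroup F) := by
    rw [← hf, Sylow.coe_subgroup_smul]
    have h1 : g'F ∈ (Q' : Subgroup F) := by rw [hQ']; exact Subgroup.mem_zpowers _
    have := Subgroup.smul_mem_pointwise_smul g'F (MulAut.conj f) (Q' : Subgroup F) h1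
    simpa [MulAut.smul_def] using this
  rw [hQ, Subgroup.mem_zpowers_iff] at hmem
  obtain ⟨j, hj⟩ := hmem
  refine ⟨((f : G) : Perm α) * (h : Perm α), G.mul_mem (f : G).2 h.2, ⟨j, ?_⟩, ?_⟩
  · have h1 := congrArg (fun t : F => ((t : G) : Perm α)) hj
    simp only [Subgroup.coe_zpow, Subgroup.coe_mul, Subgroup.coe_inv] at h1
    rw [mul_inv_rev]
    calc ((f : G) : Perm α) * (h : Perm α) * g * ((h : Perm α)⁻¹ * ((f : G) : Perm α)⁻¹)
        = ((f : G) : Perm α) * ((h : Perm α) * g * (h : Perm α)⁻¹) * ((f : G) : Perm α)⁻¹ := by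
          simp only [mul_assoc]
      _ = g ^ j := h1.symm
  · intro z hz
    show ((f : G) : Perm α) ((h : Perm α) z) = π z
    rw [hhz z hz]
    have := (mem_fixingSubgroup_iff G).1 f.2 (π z) (by simpa using hπΔ z hz)
    exact this


theorem conj_comm_of_zpow {g u v : Perm α} {i j : ℤ} (hu : u * g * u⁻¹ = g ^ i)
    (hv : v * g * v⁻¹ = g ^ j) : (u⁻¹ * v⁻¹ * u * v) * g = g * (u⁻¹ * v⁻¹ * u * v) := by
  have huv : (u * v) * g * (u * v)⁻¹ = g ^ (j * i) := by
    calc (u * v) * g * (u * v)⁻¹ = u * (v * g * v⁻¹) * u⁻¹ := by group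
      _ = u * g ^ j * u⁻¹ := by rw [hv]
      _ = (u * g * u⁻¹) ^ j := by rw [conj_zpow]
      _ = g ^ (j * i) := by rw [hu, ← zpow_mul, mul_comm]
  have hvu : (v * u) * g * (v * u)⁻¹ = g ^ (j * i) := by
    calc (v * u) * g * (v * u)⁻¹ = v * (u * g * u⁻¹) * v⁻¹ := by group
      _ = v * g ^ i * v⁻¹ := by rw [hu]
      _ = (v * g * v⁻¹) ^ i := by rw [conj_zpow]
      _ = g ^ (j * i) := by rw [hv, ← zpow_mul]
  have h := huv.trans hvu.symm
  -- (u v) g (u v)⁻¹ = (v u) g (v u)⁻¹
  have h2 : (v * u)⁻¹ * (u * v) * g = g * ((v * u)⁻¹ * (u * v)) := by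
    calc (v * u)⁻¹ * (u * v) * g = (v * u)⁻¹ * ((u * v) * g * (u * v)⁻¹) * (u * v) := by group
      _ = (v * u)⁻¹ * ((v * u) * g * (v * u)⁻¹) * (u * v) := by rw [h]
      _ = g * ((v * u)⁻¹ * (u * v)) := by group
  have h3 : (v * u)⁻¹ * (u * v) = u⁻¹ * v⁻¹ * u * v := by group
  rw [h3] at h2
  exact h2

/-- Jordan's Theorem: a primitive permutation group of degree `n ≥ 5` containing a `p`-cycle for a prime `p ≤ n - 3` contains the alternating group. -/
theorem result {α : Type*} [Fintype α] [DecidableEq α] (G : Subgroup (Equiv.Perm α)) (hG : MulAction.IsPreprimitive G α) {p : ℕ} (hp : p.Prime) (hn : 5 ≤ Fintype.card α) (hpn : p + 3 ≤ Fintype.card α) {g : Equiv.Perm α} (hgc : g.IsCycle) (hgp : g.support.card = p) (hg : g ∈ G) : alternatingGroup α ≤ G := by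
  classical
  have hcardα : Nat.card α = Fintype.card α := Nat.card_eq_fintype_card
  have hkp : (g.supportᶜ : Finset α).card + p = Fintype.card α := by
    rw [← hgp, add_comm]
    exact Finset.card_add_card_compl g.support
  set k := (g.supportᶜ : Finset α).card with hk
  have hk3 : 3 ≤ k := by omega
  have hp2 : 2 ≤ p := hp.two_le
  obtain ⟨n, hn'⟩ : ∃ n, k = n + 1 := ⟨k - 1, by omega⟩
  have hprim : IsMultiplyPreprimitive G α (n + 2) := by
    apply hG.isMultiplyPreprimitive (s := ((g.support : Set α)ᶜ))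
    · apply Nat.add_left_cancel
      rw [Set.ncard_add_ncard_compl, Set.ncard_coe_finset, hgp, hcardα, ← hkp, hn', add_comm]
    · rw [hcardα]; omega
    have := Equiv.Perm.isPretransitive_of_isCycle_mem hgc hg
    apply IsPreprimitive.of_prime_card
    convert hp
    rw [Nat.card_eq_fintype_card, Fintype.card_subtype, ← hgp]
    apply congr_arg
    ext x
    simp [SubMulAction.mem_ofFixingSubgroup_iff]
  have htrans1 : IsMultiplyPretransitive G α (n + 2) :=
    IsMultiplyPreprimitive.isMultiplyPretransitive ..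
  have hGk : IsMultiplyPretransitive G α k :=
    isMultiplyPretransitive_of_le (n := n + 2) (by omega) (by rw [hcardα]; omega)
  -- three points off the support
  obtain ⟨a, b, c, ha, hb, hc, hab, hac, hbc⟩ := Finset.two_lt_card_iff.1 (show 2 < (g.supportᶜ : Finset α).card by omega)
  rw [Finset.mem_compl] at ha hb hc
  have hswap_fix : ∀ {x y : α}, x ∉ g.support → y ∉ g.support → ∀ z ∈ g.support, swap x y z = z := by
    intro x y hx hy z hz
    apply swap_apply_of_ne_of_ne
    · rintro rfl; exact hx hz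
    · rintro rfl; exact hy hz
  have hswap_off : ∀ {x y : α}, x ∉ g.support → y ∉ g.support → ∀ z, z ∉ g.support →
      swap x y z ∉ g.support := by
    intro x y hx hy z hz h1
    have h2 := hswap_fix hx hy _ h1
    rw [swap_apply_self] at h2
    rw [← h2] at h1
    exact hz h1
  have hinv_off : ∀ {x y : α} {u : Perm α}, x ∉ g.support → y ∉ g.support →
      (∀ z, z ∉ g.support → u z = swap x y z) → ∀ z, z ∉ g.support → u⁻¹ z = swap x y z := by
    intro x y u hx hy hu z hz
    rw [Perm.inv_eq_iff_eq, hu _ (hswap_off hx hy z hz), swap_apply_self]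
  obtain ⟨u, huG, ⟨i, hui⟩, huz⟩ := witt G hgc hg hp hgp hk.symm hGk (swap a b) (hswap_fix ha hb)
  obtain ⟨v, hvG, ⟨j, hvj⟩, hvz⟩ := witt G hgc hg hp hgp hk.symm hGk (swap b c) (hswap_fix hb hc)
  have hcomm := conj_comm_of_zpow hui hvj
  have hout : ∀ z, z ∉ g.support → (u⁻¹ * v⁻¹ * u * v) z =
      (swap a b * swap b c * swap a b * swap b c) z := by
    intro z hz
    simp only [Perm.coe_mul, Function.comp_apply]
    have h1 := hswap_off hb hc z hz
    have h2 := hswap_off ha hb _ h1
    have h3 := hswap_off hb hc _ h2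
    rw [hvz z hz, huz _ h1, hinv_off hb hc hvz _ h2, hinv_off ha hb huz _ h3]
  have hin : ∀ z, z ∈ g.support → (swap a b * swap b c * swap a b * swap b c) z = z := by
    intro z hz
    simp only [Perm.coe_mul, Function.comp_apply]
    rw [hswap_fix hb hc z hz, hswap_fix ha hb z hz, hswap_fix hb hc z hz, hswap_fix ha hb z hz]
  obtain ⟨m, hm⟩ := eq_zpow_mul_of_commute hgc hcomm hout hin
  have hτG : swap a b * swap b c * swap a b * swap b c ∈ G := by
    rw [hm]
    exact G.mul_mem (G.zpow_mem hg _)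
      (G.mul_mem (G.mul_mem (G.mul_mem (G.inv_mem huG) (G.inv_mem hvG)) huG) hvG)
  have hσ : (swap a b * swap b c).IsThreeCycle := by
    rw [swap_comm a b]
    exact Equiv.Perm.isThreeCycle_swap_mul_swap_same hab.symm hbc hac
  have hτ3 : (swap a b * swap b c * swap a b * swap b c).IsThreeCycle := by
    have := hσ.isThreeCycle_sq
    rwa [← mul_assoc] at this
  exact Equiv.Perm.alternatingGroup_le_of_isPreprimitive_of_isThreeCycle_mem hG hτ3 hτG

end Cfsg.Agent.S0713
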