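import Mathlib
import Cfsg.Statements.S0714

set_option autoImplicit false
open Cfsg

namespace Cfsg.Agent.S0714

open Equiv

variable {α : Type*} [Fintype α] [DecidableEq α] {K : Type*} [Field K]

set_option linter.unusedSectionVars false

theorem rho_apply (g : alternatingGroup α) (f : α → K) (x : α) :
    Cfsg.permRep K (alternatingGroup α) α g f x = f ((g : Perm α)⁻¹ x) := rfl

/-- 3-cycle x → y → z → x -/
def c3 (x y z : α) : Perm α := swap x y * swap y z

theorem c3_mem {x y z : α} (hxy : x ≠ y) (hyz : y ≠ z) : c3 x y z ∈ alternatingGroup α := by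
  rw [Equiv.Perm.mem_alternatingGroup, c3, Equiv.Perm.sign_mul, Equiv.Perm.sign_swap hxy,
    Equiv.Perm.sign_swap hyz]
  rfl

theorem c3_apply_1 {x y z : α} (hxy : x ≠ y) (hxz : x ≠ z) : c3 x y z x = y := by
  simp [c3, Equiv.swap_apply_of_ne_of_ne hxy hxz]

theorem c3_apply_2 {x y z : α} (hxz : x ≠ z) (hyz : y ≠ z) : c3 x y z y = z := by
  simp [c3, Equiv.swap_apply_of_ne_of_ne hxz.symm hyz.symm]

theorem c3_apply_3 (x y z : α) : c3 x y z z = x := by
  simp [c3]

theorem c3_apply_other {x y z w : α} (hx : w ≠ x) (hy : w ≠ y) (hz : w ≠ z) : c3 x y z w = w := by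
  simp [c3, Equiv.swap_apply_of_ne_of_ne hy hz, Equiv.swap_apply_of_ne_of_ne hx hy]

/-- acting by the inverse of σ: `(ρ σ⁻¹ f) x = f (σ x)` -/
theorem rho_inv_apply (σ : Perm α) (hσ : σ ∈ alternatingGroup α) (f : α → K) (x : α) :
    Cfsg.permRep K (alternatingGroup α) α (⟨σ, hσ⟩ : alternatingGroup α)⁻¹ f x = f (σ x) := by
  rw [rho_apply]
  simp

theorem rho_single (g : alternatingGroup α) (a : α) :
    Cfsg.permRep K (alternatingGroup α) α g (Pi.single a (1 : K)) = Pi.single ((g : Perm α) a) 1 := by
  funext x
  rw [rho_apply]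
  simp only [Pi.single_apply]
  by_cases h : x = (g : Perm α) a
  · subst h; simp
  · have : ¬ ((g : Perm α)⁻¹ x = a) := by
      intro h'
      apply h
      rw [← h']; simp
    rw [if_neg h, if_neg this]

/-- from a nonconstant element, get a difference of two basis vectors -/
theorem exists_single_sub (hα : 5 ≤ Fintype.card α)
    (W : Subrepresentation (Cfsg.permRep K (alternatingGroup α) α))
    (f : α → K) (hf : f ∈ W.toSubmodule) (a b : α) (hab : f a ≠ f b) :
    ∃ u v : α, u ≠ v ∧ (Pi.single u (1 : K) - Pi.single v 1 : α → K) ∈ W.toSubmodule := by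
  have hab' : a ≠ b := fun h => hab (by rw [h])
  -- choose c, d, e
  obtain ⟨c, hc⟩ : (({a, b} : Finset α)ᶜ).Nonempty := by
    rw [← Finset.card_pos, Finset.card_compl]
    have : ({a, b} : Finset α).card ≤ 2 := Finset.card_le_two
    omega
  simp only [Finset.mem_compl, Finset.mem_insert, Finset.mem_singleton, not_or] at hc
  obtain ⟨d, hd⟩ : (({a, b, c} : Finset α)ᶜ).Nonempty := by
    rw [← Finset.card_pos, Finset.card_compl]
    have : ({a, b, c} : Finset α).card ≤ 3 := Finset.card_le_three
    omega
  simp only [Finset.mem_compl, Finset.mem_insert, Finset.mem_singleton, not_or] at hd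
  obtain ⟨e, he⟩ : (({a, b, c, d} : Finset α)ᶜ).Nonempty := by
    rw [← Finset.card_pos, Finset.card_compl]
    have : ({a, b, c, d} : Finset α).card ≤ 4 := Finset.card_le_four
    omega
  simp only [Finset.mem_compl, Finset.mem_insert, Finset.mem_singleton, not_or] at he
  -- σ : a → b → c → a
  have hσ : c3 a b c ∈ alternatingGroup α := c3_mem hab' (Ne.symm hc.2)
  let g : α → K := f - Cfsg.permRep K (alternatingGroup α) α (⟨c3 a b c, hσ⟩ : alternatingGroup α)⁻¹ f
  have hgW : g ∈ W.toSubmodule :=
    W.toSubmodule.sub_mem hf (W.apply_mem_toSubmodule _ hf)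
  have hg : ∀ x, g x = f x - f (c3 a b c x) := by
    intro x
    show f x - _ = _
    rw [rho_inv_apply]
  have hga : g a ≠ 0 := by
    rw [hg, c3_apply_1 hab' (Ne.symm hc.1)]
    exact sub_ne_zero.2 hab
  have hg0 : ∀ x, x ≠ a → x ≠ b → x ≠ c → g x = 0 := by
    intro x h1 h2 h3
    rw [hg, c3_apply_other h1 h2 h3, sub_self]
  -- τ : e → a → d → e, so that τ a = d, τ d = e, τ e = a
  have hτ : c3 e a d ∈ alternatingGroup α := c3_mem he.1 (Ne.symm hd.1)
  let h : α → K := g - Cfsg.permRep K (alternatingGroup α) α (⟨c3 e a d, hτ⟩ : alternatingGroup α)⁻¹ g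
  have hhW : h ∈ W.toSubmodule :=
    W.toSubmodule.sub_mem hgW (W.apply_mem_toSubmodule _ hgW)
  have hh : ∀ x, h x = g x - g (c3 e a d x) := by
    intro x
    show g x - _ = _
    rw [rho_inv_apply]
  have hgd : g d = 0 := hg0 d hd.1 hd.2.1 hd.2.2
  have hge : g e = 0 := hg0 e he.1 he.2.1 he.2.2.1
  have hheq : h = g a • (Pi.single a (1 : K) - Pi.single e 1) := by
    funext x
    rw [hh]
    simp only [Pi.smul_apply, Pi.sub_apply, Pi.single_apply, smul_eq_mul]
    by_cases hxa : x = a
    · subst hxa
      rw [c3_apply_2 he.2.2.2 (Ne.symm hd.1), hgd]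
      simp [Ne.symm he.1]
    · by_cases hxe : x = e
      · subst hxe
        rw [c3_apply_1 he.1 he.2.2.2, hge]
        simp [he.1]
      · by_cases hxd : x = d
        · subst hxd
          rw [c3_apply_3, hgd, hge]
          simp [hxa, hxe]
        · rw [c3_apply_other hxe hxa hxd]
          simp [hxa, hxe]
  refine ⟨a, e, Ne.symm he.1, ?_⟩
  have : (Pi.single a (1 : K) - Pi.single e 1 : α → K) = (g a)⁻¹ • h := by
    rw [hheq, smul_smul, inv_mul_cancel₀ hga, one_smul]
  rw [this]
  exact W.toSubmodule.smul_mem _ hhW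

/-- all differences of basis vectors -/
theorem all_single_sub (hα : 5 ≤ Fintype.card α)
    (W : Subrepresentation (Cfsg.permRep K (alternatingGroup α) α))
    (u v : α) (huv : u ≠ v) (h : (Pi.single u (1 : K) - Pi.single v 1 : α → K) ∈ W.toSubmodule)
    (x y : α) : (Pi.single x (1 : K) - Pi.single y 1 : α → K) ∈ W.toSubmodule := by
  by_cases hxy : x = y
  · rw [hxy, sub_self]; exact W.toSubmodule.zero_mem
  · have h1 := alternatingGroup.isMultiplyPretransitive α
    have h2 : MulAction.IsMultiplyPretransitive (alternatingGroup α) α 2 := by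
      apply MulAction.isMultiplyPretransitive_of_le (n := Nat.card α - 2)
      · rw [Nat.card_eq_fintype_card]; omega
      · omega
    rw [MulAction.is_two_pretransitive_iff] at h2
    obtain ⟨g, hgu, hgv⟩ := h2 huv hxy
    have := W.apply_mem_toSubmodule g h
    rw [map_sub, rho_single, rho_single] at this
    have hgu' : (g : Perm α) u = x := hgu
    have hgv' : (g : Perm α) v = y := hgv
    rwa [hgu', hgv'] at this

/-- Over any field, the permutation module of the alternating group of degree at least 5 has exactly four invariant subspaces: zero, the constant functions, the functions with coordinate sum zero, and everything. -/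
theorem result {α : Type*} [Fintype α] [DecidableEq α] (hα : 5 ≤ Fintype.card α) {K : Type*} [Field K] (W : Subrepresentation (Cfsg.permRep K (alternatingGroup α) α)) : W.toSubmodule = ⊥ ∨ W = Cfsg.permConstants K (alternatingGroup α) α ∨ W = Cfsg.permSumZero K (alternatingGroup α) α ∨ W.toSubmodule = ⊤ := by
  have hne : Nonempty α := by
    rw [← Fintype.card_pos_iff]; omega
  obtain ⟨x0⟩ := hne
  by_cases hconst : ∀ f ∈ W.toSubmodule, ∀ x y, f x = f y
  · by_cases hbot : W.toSubmodule = ⊥
    · exact Or.inl hbot
    · right; left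
      apply Subrepresentation.toSubmodule_injective
      show W.toSubmodule = Submodule.span K {fun _ => 1}
      have hform : ∀ f ∈ W.toSubmodule, f = f x0 • (fun _ => (1 : K)) := by
        intro f hf
        funext x
        simp [hconst f hf x x0]
      apply le_antisymm
      · intro f hf
        rw [hform f hf]
        exact Submodule.smul_mem _ _ (Submodule.subset_span rfl)
      · rw [Submodule.span_le]
        rintro _ rfl
        obtain ⟨f, hf, hf0⟩ := (Submodule.ne_bot_iff _).1 hbot
        have hfx0 : f x0 ≠ 0 := by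
          intro h0
          apply hf0
          rw [hform f hf, h0, zero_smul]
        have : (fun _ => (1 : K)) = (f x0)⁻¹ • f := by
          nth_rewrite 2 [hform f hf]
          rw [smul_smul, inv_mul_cancel₀ hfx0, one_smul]
        show (fun _ => (1 : K)) ∈ W.toSubmodule
        rw [this]
        exact W.toSubmodule.smul_mem _ hf
  · right; right
    simp only [not_forall] at hconst
    obtain ⟨f, hf, a, b, hab⟩ := hconst
    obtain ⟨u, v, huv, huvW⟩ := exists_single_sub hα W f hf a b hab
    have hall := all_single_sub hα W u v huv huvW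
    -- sum-zero functions are in W
    have hsz : (Cfsg.permSumZero K (alternatingGroup α) α).toSubmodule ≤ W.toSubmodule := by
      intro f hf
      have hf0 : ∑ x, f x = 0 := hf
      have : f = ∑ x, f x • (Pi.single x (1 : K) - Pi.single x0 1 : α → K) := by
        funext y
        simp only [Finset.sum_apply, Pi.smul_apply, Pi.sub_apply, Pi.single_apply, smul_eq_mul,
          mul_sub, Finset.sum_sub_distrib, mul_ite, mul_one, mul_zero]
        rw [Finset.sum_ite_eq Finset.univ y f]
        simp only [Finset.mem_univ, if_true]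
        by_cases hy : y = x0
        · simp [hy, hf0]
        · simp [hy]
      rw [this]
      exact Submodule.sum_mem _ (fun x _ => W.toSubmodule.smul_mem _ (hall x x0))
    by_cases hle : W.toSubmodule ≤ (Cfsg.permSumZero K (alternatingGroup α) α).toSubmodule
    · left
      apply Subrepresentation.toSubmodule_injective
      exact le_antisymm hle hsz
    · right
      rw [SetLike.not_le_iff_exists] at hle
      obtain ⟨f0, hf0W, hf0s⟩ := hle
      have hs : ∑ x, f0 x ≠ 0 := hf0s
      rw [eq_top_iff]
      intro u _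
      have hdecomp : u = (u - ((∑ x, u x) / (∑ x, f0 x)) • f0) + ((∑ x, u x) / (∑ x, f0 x)) • f0 := by
        rw [sub_add_cancel]
      rw [hdecomp]
      apply W.toSubmodule.add_mem
      · apply hsz
        show ∑ x, (u - ((∑ x, u x) / (∑ x, f0 x)) • f0) x = 0
        simp only [Pi.sub_apply, Pi.smul_apply, smul_eq_mul, Finset.sum_sub_distrib, ← Finset.mul_sum]
        rw [div_mul_cancel₀ _ hs, sub_self]
      · exact W.toSubmodule.smul_mem _ hf0W

end Cfsg.Agent.S0714
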