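import Mathlib
import Cfsg.Agent.Lib.Helper12.PermChar
import Cfsg.Statements.S0715

set_option autoImplicit false
open Cfsg

namespace Cfsg.Agent.S0715

open Cfsg.Agent.Lib.Helper12.PermChar

/-- If a natural number `f` divides the degree of every non-principal irreducible constituent of the permutation character of a transitive group, then `f` divides every non-trivial subdegree. -/
theorem result {G : Type*} [Group G] [Fintype G] {Ω : Type*} [Fintype Ω] [MulAction G Ω] [MulAction.IsPretransitive G Ω] (f : ℕ) (hf : ∀ χ : G → ℂ, Cfsg.IsIrrCharacter G χ → χ ≠ (fun _ => 1) → Cfsg.classInner (fun g : G => (Nat.card (MulAction.fixedBy Ω g) : ℂ)) χ ≠ 0 → ∃ m : ℕ, χ 1 = (f : ℂ) * m) (a b : Ω) (hab : b ≠ a) : f ∣ Nat.card (MulAction.orbit (MulAction.stabilizer G a) b) := by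
  classical
  let Δ : Finset Ω := Finset.univ.filter (fun c => c ∈ MulAction.orbit (MulAction.stabilizer G a) b)
  have hcard : Nat.card (MulAction.orbit (MulAction.stabilizer G a) b) = Δ.card := by
    rw [Nat.card_eq_fintype_card, Fintype.card_subtype]
  rw [hcard]
  apply dvd_card_of_dvd_degrees f hf a Δ
  · intro h hh c hc
    simp only [Δ, Finset.mem_filter, Finset.mem_univ, true_and] at hc ⊢
    obtain ⟨k, rfl⟩ := hc
    have hh' : h ∈ MulAction.stabilizer G a := hh
    refine ⟨⟨h, hh'⟩ * k, ?_⟩
    show ((⟨h, hh'⟩ * k : MulAction.stabilizer G a) : G) • b = h • ((k : G) • b)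
    rw [Subgroup.coe_mul, mul_smul]
  · intro ha
    simp only [Δ, Finset.mem_filter, Finset.mem_univ, true_and] at ha
    obtain ⟨k, hk⟩ := ha
    apply hab
    have hk' : (k : G) • b = a := hk
    have hka : (k : G) • a = a := k.2
    have : (k : G) • b = (k : G) • a := by rw [hk', hka]
    exact smul_left_cancel _ this

end Cfsg.Agent.S0715
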