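import Cfsg.Statements.S0718
import Cfsg.Agent.Lib.Helper3.Decomp
-- import your own Cfsg.Agent.* helpers here

set_option autoImplicit false
open Cfsg

namespace Cfsg.Agent.S0718

open Representation Cfsg.Agent.Lib.Helper3

section General

variable {k G V W : Type*} [Field k] [Group G] [AddCommGroup V] [Module k V]
  [AddCommGroup W] [Module k W]

/-- Invariants of `linHom` are exactly the linear maps commuting with the actions. -/
theorem mem_invariants_linHom_iff (ρ : Representation k G V) (σ : Representation k G W)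
    (f : V →ₗ[k] W) :
    f ∈ (ρ.linHom σ).invariants ↔ ∀ g, f ∘ₗ ρ g = σ g ∘ₗ f := by
  rw [Representation.mem_invariants]
  constructor
  · intro h g
    have h1 := h g
    rw [Representation.linHom_apply] at h1
    apply LinearMap.ext
    intro v
    have h2 := LinearMap.congr_fun h1 (ρ g v)
    simp only [LinearMap.comp_apply] at h2 ⊢
    rw [Representation.inv_self_apply] at h2
    exact h2.symm
  · intro h g
    rw [Representation.linHom_apply]
    apply LinearMap.ext
    intro v
    have h2 := LinearMap.congr_fun (h g) (ρ g⁻¹ v)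
    simp only [LinearMap.comp_apply] at h2 ⊢
    rw [Representation.self_inv_apply] at h2
    exact h2.symm

/-- Maschke: an injective intertwining map has an equivariant left inverse. -/
theorem exists_left_inverse [Fintype G] [NeZero (Nat.card G : k)]
    (τ : Representation k G W) (ρ : Representation k G V) (f : IntertwiningMap τ ρ)
    (hf : Function.Injective f) :
    ∃ r : IntertwiningMap ρ τ, ∀ w, r (f w) = w := by
  obtain ⟨r₀, hr₀⟩ := LinearMap.exists_leftInverse_of_injective f.toLinearMap
    (LinearMap.ker_eq_bot.mpr hf)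
  have hr₀' : ∀ w, r₀ (f w) = w := fun w => LinearMap.congr_fun hr₀ w
  let A : V →ₗ[k] W := ∑ g : G, τ g⁻¹ ∘ₗ r₀ ∘ₗ ρ g
  have hA : ∀ v, A v = ∑ g : G, τ g⁻¹ (r₀ (ρ g v)) := by
    intro v
    simp [A, LinearMap.sum_apply]
  have hcard : (Nat.card G : k) ≠ 0 := NeZero.ne _
  refine ⟨⟨(Nat.card G : k)⁻¹ • A, ?_⟩, ?_⟩
  · intro h
    apply LinearMap.ext
    intro v
    simp only [LinearMap.comp_apply, LinearMap.smul_apply, map_smul]
    congr 1
    rw [hA, hA, map_sum]
    apply Fintype.sum_equiv (Equiv.mulRight h)
    intro g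
    simp only [Equiv.coe_mulRight]
    rw [← Module.End.mul_apply (ρ g) (ρ h), ← map_mul]
    have : τ h (τ (g * h)⁻¹ (r₀ (ρ (g * h) v))) = τ g⁻¹ (r₀ (ρ (g * h) v)) := by
      rw [← Module.End.mul_apply (τ h), ← map_mul]
      congr 2
      group
    rw [this]
  · intro w
    show ((Nat.card G : k)⁻¹ • A) (f w) = w
    rw [LinearMap.smul_apply, hA]
    have : ∀ g : G, τ g⁻¹ (r₀ (ρ g (f w))) = w := by
      intro g
      rw [← f.isIntertwining, hr₀', Representation.inv_self_apply]
    rw [Finset.sum_congr rfl (fun g _ => this g), Finset.sum_const, Finset.card_univ,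
      ← Nat.card_eq_fintype_card, ← Nat.cast_smul_eq_nsmul k, smul_smul,
      inv_mul_cancel₀ hcard, one_smul]

end General

section Perm

variable {G : Type*} [Group G] {Ω : Type*} [Fintype Ω] [MulAction G Ω]

/-- The character of the permutation representation counts fixed points. -/
theorem permRep_character (g : G) :
    (Cfsg.permRep ℂ G Ω).character g = (Nat.card (MulAction.fixedBy Ω g) : ℂ) := by
  classical
  show LinearMap.trace ℂ (Ω → ℂ) (Cfsg.permRep ℂ G Ω g) = _
  rw [LinearMap.trace_eq_matrix_trace ℂ (Pi.basisFun ℂ Ω), Matrix.trace]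
  have h1 : ∀ x : Ω, Matrix.diag (LinearMap.toMatrix (Pi.basisFun ℂ Ω) (Pi.basisFun ℂ Ω)
      (Cfsg.permRep ℂ G Ω g)) x = if g • x = x then 1 else 0 := by
    intro x
    rw [Matrix.diag_apply, LinearMap.toMatrix_apply, Pi.basisFun_repr, Pi.basisFun_apply]
    show (Pi.single x (1 : ℂ) : Ω → ℂ) (g⁻¹ • x) = _
    rw [Pi.single_apply]
    by_cases h : g • x = x
    · rw [if_pos h, if_pos]
      rw [inv_smul_eq_iff, h]
    · rw [if_neg h, if_neg]
      intro h'
      apply h
      rw [inv_smul_eq_iff] at h'
      exact h'.symm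
  rw [Finset.sum_congr rfl (fun x _ => h1 x), Finset.sum_boole, Nat.card_eq_fintype_card]
  congr 1
  rw [Fintype.card_subtype]
  rfl

end Perm

section Complex

variable {G : Type*} [Group G] [Fintype G] {V W : Type*} [AddCommGroup V] [Module ℂ V]
  [AddCommGroup W] [Module ℂ W]

instance neZeroCard : NeZero (Nat.card G : ℂ) :=
  ⟨by exact_mod_cast Nat.card_pos.ne'⟩

/-- If the equivariant endomorphisms of `ρ` commute, every irreducible occurs at most once. -/
theorem finrank_le_one_of_comm [FiniteDimensional ℂ W] (ρ : Representation ℂ G V)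
    (τ : Representation ℂ G W) [τ.IsIrreducible]
    (hcomm : ∀ S T : IntertwiningMap ρ ρ, ∀ v, S (T v) = T (S v)) :
    Module.finrank ℂ (IntertwiningMap τ ρ) ≤ 1 := by
  by_cases h : ∀ f : IntertwiningMap τ ρ, f = 0
  · have : Subsingleton (IntertwiningMap τ ρ) := ⟨fun a b => (h a).trans (h b).symm⟩
    rw [Module.finrank_zero_of_subsingleton]
    exact Nat.zero_le 1
  · rw [not_forall] at h
    obtain ⟨f₁, hf₁⟩ := h
    have hinj : Function.Injective f₁ :=
      (Representation.IsIrreducible.injective_or_eq_zero f₁).resolve_right hf₁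
    obtain ⟨r₁, hr₁⟩ := exists_left_inverse τ ρ f₁ hinj
    apply finrank_le_one f₁
    intro f₂
    obtain ⟨c, hc⟩ :=
      (Representation.IsIrreducible.algebraMap_intertwiningMap_bijective_of_isAlgClosed
        (ρ := τ)).2 (r₁.comp f₂)
    refine ⟨c, ?_⟩
    apply IntertwiningMap.ext
    apply LinearMap.ext
    intro w
    have h1 := hcomm (f₁.comp r₁) (f₂.comp r₁) (f₁ w)
    simp only [IntertwiningMap.comp_apply, hr₁] at h1
    have h2 : r₁ (f₂ w) = c • w := by
      have := congrArg (fun φ : IntertwiningMap τ τ => φ w) hc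
      simp only [IntertwiningMap.algebraMap_apply, IntertwiningMap.smul_apply,
        IntertwiningMap.comp_apply] at this
      rw [← this]
      rfl
    rw [h2, map_smul] at h1
    show (c • f₁) w = f₂ w
    rw [IntertwiningMap.smul_apply]
    exact h1

end Complex

section Converse

variable {G : Type*} [Group G] [Fintype G] {V : Type*} [AddCommGroup V] [Module ℂ V]
  [FiniteDimensional ℂ V]

/-- The inclusion of a subrepresentation as an intertwining map. -/
def subIncl {ρ : Representation ℂ G V} (X : Subrepresentation ρ) :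
    IntertwiningMap X.toRepresentation ρ :=
  ⟨X.toSubmodule.subtype, fun g => by
    apply LinearMap.ext
    intro v
    rfl⟩

theorem subIncl_apply {ρ : Representation ℂ G V} (X : Subrepresentation ρ)
    (v : X.toSubmodule) : subIncl X v = (v : V) := rfl

/-- If every irreducible occurs at most once in `ρ` then any equivariant endomorphism acts as a
scalar on the image of any intertwining map from an irreducible. -/
theorem scalar_on_image (ρ : Representation ℂ G V) {n : ℕ}
    (τ : Representation ℂ G (Fin n → ℂ))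
    (hle : Module.finrank ℂ (IntertwiningMap τ ρ) ≤ 1)
    (S : IntertwiningMap ρ ρ) (f : IntertwiningMap τ ρ) :
    ∃ c : ℂ, ∀ w, S (f w) = c • f w := by
  by_cases hf : f = 0
  · refine ⟨0, fun w => ?_⟩
    rw [hf]
    simp
  · have h1 : Module.finrank ℂ (IntertwiningMap τ ρ) = 1 := by
      have h0 : 0 < Module.finrank ℂ (IntertwiningMap τ ρ) :=
        Module.finrank_pos_iff_exists_ne_zero.mpr ⟨f, hf⟩
      omega
    obtain ⟨c, hc⟩ := (finrank_eq_one_iff_of_nonzero' f hf).mp h1 (S.comp f)
    refine ⟨c, fun w => ?_⟩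
    have := congrArg (fun φ : IntertwiningMap τ ρ => φ w) hc
    simp only [IntertwiningMap.smul_apply, IntertwiningMap.comp_apply] at this
    exact this.symm

theorem comm_of_mult_free (ρ : Representation ℂ G V)
    (hle : ∀ (n : ℕ) (τ : Representation ℂ G (Fin n → ℂ)), τ.IsIrreducible →
      Module.finrank ℂ (IntertwiningMap τ ρ) ≤ 1)
    (S T : IntertwiningMap ρ ρ) (v : V) : S (T v) = T (S v) := by
  -- the equalizer of `S T` and `T S` as a subrepresentation
  let X : Subrepresentation ρ :=
    { toSubmodule := LinearMap.eqLocus (S.toLinearMap ∘ₗ T.toLinearMap)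
        (T.toLinearMap ∘ₗ S.toLinearMap)
      apply_mem_toSubmodule := by
        intro g v hv
        rw [LinearMap.mem_eqLocus] at hv ⊢
        simp only [LinearMap.comp_apply, IntertwiningMap.toLinearMap_apply] at hv ⊢
        rw [T.isIntertwining, S.isIntertwining, S.isIntertwining, T.isIntertwining, hv] }
  have hX : ∀ u, u ∈ X.toSubmodule ↔ S (T u) = T (S u) := fun u => Iff.rfl
  obtain ⟨X', hX'⟩ := exists_isCompl X
  have hc := isCompl_toSubmodule hX'
  have hbot : X'.toSubmodule = ⊥ := by
    by_contra hne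
    have hnt : Nontrivial X'.toSubmodule := Submodule.nontrivial_iff_ne_bot.mpr hne
    have hχ0 : X'.toRepresentation.character ≠ 0 := by
      intro h0
      have h1 := congrFun h0 1
      rw [Representation.char_one, Pi.zero_apply] at h1
      have h2 : Module.finrank ℂ X'.toSubmodule = 0 := by exact_mod_cast h1
      exact (Module.finrank_pos (R := ℂ) (M := X'.toSubmodule)).ne' h2
    obtain ⟨ψ, hψ, hne0⟩ := exists_irr_classInner_ne_zero
      (IsCharacter.isClassFunction (isCharacter_character X'.toRepresentation)) hχ0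
    obtain ⟨m, τ, hτ, rfl⟩ := hψ
    have hne1 : Module.finrank ℂ (IntertwiningMap τ X'.toRepresentation) ≠ 0 := by
      intro h0
      apply hne0
      rw [classInner_character_eq_finrank, h0]
      simp
    obtain ⟨f', hf'⟩ := (Module.finrank_pos_iff_exists_ne_zero (R := ℂ)).mp
      (Nat.pos_of_ne_zero hne1)
    apply hf'
    apply IntertwiningMap.ext
    apply LinearMap.ext
    intro w
    show f' w = 0
    obtain ⟨cS, hcS⟩ := scalar_on_image ρ τ (hle m τ hτ) S ((subIncl X').comp f')
    obtain ⟨cT, hcT⟩ := scalar_on_image ρ τ (hle m τ hτ) T ((subIncl X').comp f')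
    have hmemX : ((f' w : X'.toSubmodule) : V) ∈ X.toSubmodule := by
      rw [hX]
      have e : ((f' w : X'.toSubmodule) : V) = ((subIncl X').comp f') w := rfl
      rw [e]
      calc S (T (((subIncl X').comp f') w))
          = cT • cS • ((subIncl X').comp f') w := by rw [hcT, map_smul, hcS]
        _ = cS • cT • ((subIncl X').comp f') w := smul_comm _ _ _
        _ = T (S (((subIncl X').comp f') w)) := by rw [hcS, map_smul, hcT]
    have hmemX' : ((f' w : X'.toSubmodule) : V) ∈ X'.toSubmodule := (f' w).2
    have hmem : ((f' w : X'.toSubmodule) : V) ∈ X.toSubmodule ⊓ X'.toSubmodule :=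
      Submodule.mem_inf.mpr ⟨hmemX, hmemX'⟩
    rw [hc.inf_eq_bot, Submodule.mem_bot] at hmem
    exact Subtype.ext hmem
  have htop : X.toSubmodule = ⊤ := by
    have := hc.sup_eq_top
    rwa [hbot, sup_bot_eq] at this
  have : v ∈ X.toSubmodule := by rw [htop]; exact Submodule.mem_top
  exact (hX v).mp this

end Converse

/-- Multiplicity-freeness of the permutation character is equivalent to commutativity of the centraliser ring, i.e. of the algebra of `G`-equivariant endomorphisms of the complex permutation module. -/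
theorem result {G : Type*} [Group G] [Fintype G] {Ω : Type*} [Fintype Ω] [MulAction G Ω] : (∀ χ : G → ℂ, Cfsg.IsIrrCharacter G χ → Cfsg.classInner (fun g : G => (Nat.card (MulAction.fixedBy Ω g) : ℂ)) χ = 0 ∨ Cfsg.classInner (fun g : G => (Nat.card (MulAction.fixedBy Ω g) : ℂ)) χ = 1) ↔ ∀ S T : (Ω → ℂ) →ₗ[ℂ] (Ω → ℂ), S ∈ ((Cfsg.permRep ℂ G Ω).linHom (Cfsg.permRep ℂ G Ω)).invariants → T ∈ ((Cfsg.permRep ℂ G Ω).linHom (Cfsg.permRep ℂ G Ω)).invariants → S ∘ₗ T = T ∘ₗ S := by
  classical
  have hπ : (fun g : G => (Nat.card (MulAction.fixedBy Ω g) : ℂ)) =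
      (Cfsg.permRep ℂ G Ω).character := by
    funext g
    exact (permRep_character g).symm
  rw [hπ]
  constructor
  · intro hmult S T hS hT
    rw [mem_invariants_linHom_iff] at hS hT
    have hle : ∀ (n : ℕ) (τ : Representation ℂ G (Fin n → ℂ)), τ.IsIrreducible →
        Module.finrank ℂ (IntertwiningMap τ (Cfsg.permRep ℂ G Ω)) ≤ 1 := by
      intro n τ hτ
      have h := hmult τ.character ⟨n, τ, hτ, rfl⟩
      rw [classInner_character_eq_finrank] at h
      rcases h with h | h
      · have : Module.finrank ℂ (IntertwiningMap τ (Cfsg.permRep ℂ G Ω)) = 0 := by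
          exact_mod_cast h
        omega
      · have : Module.finrank ℂ (IntertwiningMap τ (Cfsg.permRep ℂ G Ω)) = 1 := by
          exact_mod_cast h
        omega
    apply LinearMap.ext
    intro v
    exact comm_of_mult_free (Cfsg.permRep ℂ G Ω) hle ⟨S, hS⟩ ⟨T, hT⟩ v
  · intro hcomm χ hχ
    obtain ⟨n, τ, hτ, rfl⟩ := hχ
    rw [classInner_character_eq_finrank]
    have hle : Module.finrank ℂ (IntertwiningMap τ (Cfsg.permRep ℂ G Ω)) ≤ 1 := by
      haveI := hτ
      apply finrank_le_one_of_comm
      intro S T v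
      have hS : S.toLinearMap ∈
          ((Cfsg.permRep ℂ G Ω).linHom (Cfsg.permRep ℂ G Ω)).invariants := by
        rw [mem_invariants_linHom_iff]
        exact S.isIntertwining'
      have hT : T.toLinearMap ∈
          ((Cfsg.permRep ℂ G Ω).linHom (Cfsg.permRep ℂ G Ω)).invariants := by
        rw [mem_invariants_linHom_iff]
        exact T.isIntertwining'
      exact LinearMap.congr_fun (hcomm S.toLinearMap T.toLinearMap hS hT) v
    rcases Nat.le_one_iff_eq_zero_or_eq_one.mp hle with h | h
    · left
      rw [h]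
      simp
    · right
      rw [h]
      simp

end Cfsg.Agent.S0718
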