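import Cfsg.Statements.S0719
import Cfsg.Agent.Lib.Helper12.PermChar6
import Cfsg.Agent.Lib.Helper12.WielandtDioph
import Cfsg.Agent.Lib.Helper12.Rank3

set_option autoImplicit false
open Cfsg

namespace Cfsg.Agent.S0719

open Cfsg.Agent.Lib.Helper12.PermChar Cfsg.Agent.Lib.Helper12.Rank3

/-- Groups of Wielandt type: if a primitive group of degree `2m` has rank 3 and permutation character `1 + χ₁ + χ₂` with irreducible `χ₁, χ₂` of degrees `m - 1` and `m`, then `m = 2a² + 2a + 1` for some positive integer `a` and the two non-trivial subdegrees are `a(2a+1)` and `(a+1)(2a+1)`. -/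
theorem result {G : Type*} [Group G] [Fintype G] {Ω : Type*} [Fintype Ω] [MulAction G Ω] (hprim : MulAction.IsPreprimitive G Ω) {m : ℕ} (hm : Fintype.card Ω = 2 * m) (a₀ : Ω) (hrank : Nat.card (MulAction.orbitRel.Quotient (MulAction.stabilizer G a₀) Ω) = 3) (χ₁ χ₂ : G → ℂ) (h₁ : Cfsg.IsIrrCharacter G χ₁) (h₂ : Cfsg.IsIrrCharacter G χ₂) (hπ : (fun g : G => (Nat.card (MulAction.fixedBy Ω g) : ℂ)) = fun g => 1 + χ₁ g + χ₂ g) (hd₁ : χ₁ 1 = (m : ℂ) - 1) (hd₂ : χ₂ 1 = m) : ∃ a : ℕ, 0 < a ∧ m = 2 * a ^ 2 + 2 * a + 1 ∧ ∀ b : Ω, b ≠ a₀ → Nat.card (MulAction.orbit (MulAction.stabilizer G a₀) b) = a * (2 * a + 1) ∨ Nat.card (MulAction.orbit (MulAction.stabilizer G a₀) b) = (a + 1) * (2 * a + 1) := by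
  classical
  have hpt : MulAction.IsPretransitive G Ω := hprim.toIsPretransitive
  have hπ' : permChar G Ω = fun g => 1 + χ₁ g + χ₂ g := hπ
  have hdeg : χ₁ 1 ≠ χ₂ 1 := by
    rw [hd₁, hd₂]
    intro h
    have : (m : ℂ) - 1 - m = 0 := by rw [h]; ring
    norm_num at this
  -- consequences of the rank
  have hR1 : ∀ b : Ω, ∃ c : Ω, c ≠ a₀ ∧ c ∉ MulAction.orbit (MulAction.stabilizer G a₀) b := by
    intro b
    by_contra hcon
    simp only [not_exists, not_and, not_not] at hcon
    have h := card_quot_le_two (H := MulAction.stabilizer G a₀) a₀ b (fun c => by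
      by_cases hc : c = a₀
      · exact Or.inl hc
      · exact Or.inr (hcon c hc))
    omega
  have hR2 : ¬ (∀ h : G, h • a₀ = a₀ → ∀ x : Ω, h • x = x) := by
    intro htriv
    have h := card_quot_of_trivial (H := MulAction.stabilizer G a₀) (Ω := Ω)
      (fun k x => htriv k.1 k.2 x)
    rw [hrank, Nat.card_eq_fintype_card, hm] at h
    omega
  have hnofix : ∀ c : Ω, c ≠ a₀ → ¬ (∀ h : G, h • a₀ = a₀ → h • c = c) := by
    intro c hc hfix
    exact hR2 (stab_trivial_of_fix hprim a₀ c hc hfix)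
  -- the main claim for each point
  have main : ∀ b : Ω, b ≠ a₀ → ∃ a : ℕ, 0 < a ∧ m = 2 * a ^ 2 + 2 * a + 1 ∧
      (Nat.card (MulAction.orbit (MulAction.stabilizer G a₀) b) = a * (2 * a + 1) ∨
        Nat.card (MulAction.orbit (MulAction.stabilizer G a₀) b) = (a + 1) * (2 * a + 1)) := by
    intro b hb
    let Δ : Finset Ω := Finset.univ.filter (fun c => c ∈ MulAction.orbit (MulAction.stabilizer G a₀) b)
    have hmemΔ : ∀ c, c ∈ Δ ↔ c ∈ MulAction.orbit (MulAction.stabilizer G a₀) b := by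
      intro c; simp [Δ]
    have hΔ : ∀ h : G, h • a₀ = a₀ → ∀ c ∈ Δ, h • c ∈ Δ := by
      intro h hh c hc
      rw [hmemΔ] at hc ⊢
      obtain ⟨k, rfl⟩ := hc
      exact ⟨(⟨h, hh⟩ : MulAction.stabilizer G a₀) * k, mul_smul _ _ _⟩
    have ha : a₀ ∉ Δ := by
      rw [hmemΔ]
      rintro ⟨k, hk⟩
      apply hb
      have hk' : (k : G) • b = a₀ := hk
      have hk2 : (k : G) • a₀ = a₀ := k.2
      exact smul_left_cancel (k : G) (hk'.trans hk2.symm)
    have hcardΔ : Nat.card (MulAction.orbit (MulAction.stabilizer G a₀) b) = Δ.card := by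
      rw [Nat.card_eq_fintype_card]
      exact Fintype.card_of_subtype Δ (fun x => hmemΔ x)
    have hbΔ : b ∈ Δ := (hmemΔ b).2 (MulAction.mem_orbit_self b)
    have hk1 : 1 ≤ Δ.card := Finset.card_pos.2 ⟨b, hbΔ⟩
    obtain ⟨c, hca, hcΔ'⟩ := hR1 b
    have hcΔ : c ∉ Δ := fun h => hcΔ' ((hmemΔ c).1 h)
    have hk2 : Δ.card + 2 ≤ 2 * m := by
      have hsub : insert a₀ (insert c Δ) ⊆ Finset.univ := Finset.subset_univ _
      have h1 := Finset.card_le_card hsub
      rw [Finset.card_insert_of_notMem, Finset.card_insert_of_notMem hcΔ, Finset.card_univ, hm] at h1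
      · omega
      · simp only [Finset.mem_insert, not_or]
        exact ⟨fun h => hca h.symm, ha⟩
    have hm2 : 2 ≤ m := by omega
    obtain ⟨r, s, t, hrs, he1, he2⟩ := rank3_eqs (G := G) a₀ χ₁ χ₂ h₁ h₂ hπ' hdeg Δ hΔ ha
    rw [hd₁, hd₂] at he1 he2
    rw [hm] at he2
    have hres := wielandt_dioph m Δ.card hm2 hk1 hk2 r s t hrs he1 he2
    rcases hres with h | h | ⟨a, ha0, hma, hka⟩
    · -- the orbit is a fixed point
      exfalso
      obtain ⟨x, hx⟩ := Finset.card_eq_one.1 h
      have hbx : b = x := by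
        have := hbΔ
        rw [hx, Finset.mem_singleton] at this
        exact this
      apply hnofix b hb
      intro k hk
      have := hΔ k hk b hbΔ
      rw [hx, Finset.mem_singleton] at this
      rw [this, hbx]
    · -- the complement is a fixed point
      exfalso
      let Γ : Finset Ω := Finset.univ \ (insert a₀ Δ)
      have hΓcard : Γ.card = 1 := by
        rw [Finset.card_sdiff_of_subset (Finset.subset_univ _), Finset.card_univ, hm,
          Finset.card_insert_of_notMem ha]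
        omega
      have hmemΓ : ∀ x, x ∈ Γ ↔ x ≠ a₀ ∧ x ∉ Δ := by
        intro x
        simp [Γ]
      obtain ⟨x, hx⟩ := Finset.card_eq_one.1 hΓcard
      have hcΓ : c ∈ Γ := (hmemΓ c).2 ⟨hca, hcΔ⟩
      have hcx : c = x := by
        have := hcΓ
        rw [hx, Finset.mem_singleton] at this
        exact this
      apply hnofix c hca
      intro k hk
      have hk' : k⁻¹ • a₀ = a₀ := by rw [inv_smul_eq_iff, hk]
      have : k • c ∈ Γ := by
        rw [hmemΓ]
        constructor
        · intro h'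
          apply hca
          rw [← hk] at h'
          exact smul_left_cancel _ h'
        · intro h'
          apply hcΔ
          have := hΔ k⁻¹ hk' _ h'
          rwa [inv_smul_smul] at this
      rw [hx, Finset.mem_singleton] at this
      rw [this, hcx]
    · exact ⟨a, ha0, hma, by rw [hcardΔ]; exact hka⟩
  -- choose a base point different from `a₀`
  obtain ⟨b₁, hb₁, _⟩ := hR1 a₀
  obtain ⟨a, ha0, hma, _⟩ := main b₁ hb₁
  refine ⟨a, ha0, hma, ?_⟩
  intro b hb
  obtain ⟨a', ha0', hma', hka'⟩ := main b hb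
  have haa : a' = a := by
    have h : 2 * a' ^ 2 + 2 * a' + 1 = 2 * a ^ 2 + 2 * a + 1 := by rw [← hma, ← hma']
    rcases lt_trichotomy a' a with hlt | heq | hgt
    · exfalso; nlinarith
    · exact heq
    · exfalso; nlinarith
  rw [haa] at hka'
  exact hka'

end Cfsg.Agent.S0719
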