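import Mathlib
import Cfsg.Agent.S5914
import Cfsg.Statements.S0721

set_option autoImplicit false
open Cfsg

namespace Cfsg.Agent.S0721

/-- A minimal normal subgroup of a finite group is isomorphic to a direct power `T ^ m` of a simple group `T` (possibly of prime order). -/
theorem result {H : Type*} [Group H] [Finite H] (N : Subgroup H) [N.Normal] (hN : N ≠ ⊥) (hmin : ∀ M : Subgroup H, M.Normal → M ≤ N → M = ⊥ ∨ M = N) : ∃ (T : Type) (_ : Group T) (m : ℕ), IsSimpleGroup T ∧ 0 < m ∧ Nonempty (N ≃* (Fin m → T)) := by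
  have hnt : Nontrivial N := (Subgroup.nontrivial_iff_ne_bot N).2 hN
  have hchar : ∀ C : Subgroup N, C.Characteristic → C = ⊥ ∨ C = ⊤ := by
    intro C hC
    have hnorm : (C.map N.subtype).Normal := ConjAct.normal_of_characteristic_of_normal
    have hle : C.map N.subtype ≤ N := by
      rintro _ ⟨x, _, rfl⟩
      exact x.2
    rcases hmin _ hnorm hle with h | h
    · left
      exact (Subgroup.map_eq_bot_iff_of_injective C N.subtype_injective).1 h
    · right
      apply Subgroup.map_injective N.subtype_injective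
      rw [h, ← MonoidHom.range_eq_map, Subgroup.range_subtype]
  obtain ⟨S, hS1, hS2, n, hn, ⟨e⟩⟩ := Cfsg.Agent.S5914.forward hchar
  exact ⟨S, hS1, n, hS2, hn, ⟨e⟩⟩

end Cfsg.Agent.S0721
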