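import Cfsg.Statements.S0722

set_option autoImplicit false
open Cfsg

namespace Cfsg.Agent.S0722

/-- In a primitive group `H`, with `N` a minimal normal subgroup and `K` a point stabiliser, `K ⊓ N` is maximal among proper `K`-invariant subgroups of `N`. -/
theorem result {α : Type*} [Finite α] (H : Subgroup (Equiv.Perm α)) [MulAction.IsPreprimitive H α] (N : Subgroup H) [N.Normal] (hN : N ≠ ⊥) (hmin : ∀ M : Subgroup H, M.Normal → M ≤ N → M = ⊥ ∨ M = N) (a : α) (X : Subgroup H) (hX : X ≤ N) (hKX : MulAction.stabilizer H a ⊓ N ≤ X) (hinv : MulAction.stabilizer H a ≤ Subgroup.normalizer (X : Set H)) : X = MulAction.stabilizer H a ⊓ N ∨ X = N := by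
  have hnt : Nontrivial α := by
    by_contra hcon
    rw [not_nontrivial_iff_subsingleton] at hcon
    apply hN
    rw [Subgroup.eq_bot_iff_forall]
    intro x _
    apply Subtype.ext
    exact Subsingleton.elim _ _
  have hco : IsCoatom (MulAction.stabilizer H a) :=
    MulAction.IsPreprimitive.isCoatom_stabilizer_of_isPreprimitive (G := H) (X := α) a
  rcases eq_or_ne (MulAction.stabilizer H a ⊔ X) ⊤ with htop | hne
  · right
    have hnorm : X.Normal := by
      rw [← Subgroup.normalizer_eq_top_iff]
      apply top_le_iff.1
      rw [← htop]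
      exact sup_le hinv Subgroup.le_normalizer
    rcases hmin X hnorm hX with h | h
    · exfalso
      rw [h, sup_bot_eq] at htop
      rw [htop, top_inf_eq, h] at hKX
      exact hN (le_bot_iff.1 hKX)
    · exact h
  · left
    have h1 : MulAction.stabilizer H a ⊔ X = MulAction.stabilizer H a := by
      by_contra hcon
      exact hne (hco.2 _ (lt_of_le_of_ne le_sup_left (Ne.symm hcon)))
    have h2 : X ≤ MulAction.stabilizer H a := by
      rw [← h1]; exact le_sup_right
    exact le_antisymm (le_inf h2 hX) hKX

end Cfsg.Agent.S0722
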