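import Cfsg.Statements.S0723
import Cfsg.Agent.S5914
import Cfsg.Agent.Lib.Helper12.TwoTransSocle
import Cfsg.Agent.Lib.Helper12.PiSimple3

set_option autoImplicit false
open Cfsg

namespace Cfsg.Agent.S0723

open Cfsg.Agent.Lib.Helper12.PiSimple

/-- a nontrivial normal subgroup of a primitive permutation group is transitive -/
theorem normal_trans' {α : Type*} (H : Subgroup (Equiv.Perm α))
    [MulAction.IsPreprimitive H α] (N : Subgroup H) [N.Normal] (hN : N ≠ ⊥) :
    MulAction.IsPretransitive N α := by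
  apply MulAction.IsQuasiPreprimitive.isPretransitive_of_normal (G := H)
  intro h
  apply hN
  rw [eq_bot_iff]
  intro n hn
  rw [Subgroup.mem_bot]
  apply Subtype.ext
  apply Equiv.ext
  intro x
  have hx : x ∈ MulAction.fixedPoints N α := by rw [h]; exact Set.mem_univ x
  exact hx ⟨n, hn⟩

/-- a power of a commutative group is commutative: used to see that the simple factor is
nonabelian. -/
theorem not_comm_of_iso {N S : Type*} [Group N] [Group S] {m : ℕ} (e : N ≃* (Fin m → S))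
    (hnab : ¬ IsMulCommutative N) : ¬ IsMulCommutative S := by
  intro hS
  apply hnab
  refine ⟨⟨fun x y => ?_⟩⟩
  apply e.injective
  rw [map_mul, map_mul]
  funext i
  exact hS.is_comm.comm _ _

/-- The concrete-to-abstract reduction. -/
theorem reduction {α : Type*} [Finite α] (H : Subgroup (Equiv.Perm α))
    [MulAction.IsPreprimitive H α] (N : Subgroup H) [N.Normal] (hN : N ≠ ⊥)
    (hmin : ∀ M : Subgroup H, M.Normal → M ≤ N → M = ⊥ ∨ M = N) (a : α)
    {S : Type*} [Group S] [IsSimpleGroup S] [Finite S] (hnab : ¬ IsMulCommutative S) {m : ℕ}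
    (hm : 0 < m) (e₀ : N ≃* (Fin m → S)) :
    ∃ e' : (Fin m → S) ≃* (Fin m → S),
      (∃ K : Fin m → Subgroup S, (∀ i, K i ≠ ⊤) ∧
        ∀ n : N, (n : H) ∈ MulAction.stabilizer H a ↔ ∀ i, e' (e₀ n) i ∈ K i) ∨
      (∃ (k : ℕ) (c : Fin m → Fin m), 2 ≤ k ∧
        (∀ j, Nat.card {i // c i = j} = k ∨ Nat.card {i // c i = j} = 0) ∧
        ∀ n : N, (n : H) ∈ MulAction.stabilizer H a ↔
          ∀ i j, c i = c j → e' (e₀ n) i = e' (e₀ n) j) := by
  classical
  let Ka : Subgroup H := MulAction.stabilizer H a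
  let ρ : H →* MulAut (Fin m → S) :=
    (MulAut.congr e₀).toMonoidHom.comp (MulAut.conjNormal (H := N))
  have hρ : ∀ (h : H) (n : N), ρ h (e₀ n) = e₀ (MulAut.conjNormal h n) := by
    intro h n
    change e₀ (MulAut.conjNormal h (e₀.symm (e₀ n))) = _
    rw [MulEquiv.symm_apply_apply]
  let D : Subgroup (Fin m → S) := (Ka.subgroupOf N).map e₀.toMonoidHom
  have hD : ∀ n : N, e₀ n ∈ D ↔ (n : H) ∈ Ka := by
    intro n
    constructor
    · rintro ⟨n', hn', hnn'⟩
      have : n' = n := e₀.injective hnn'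
      rw [← this]
      exact hn'
    · intro h
      exact ⟨n, h, rfl⟩
  -- minimality
  have hmin' : ∀ Q : Subgroup (Fin m → S), (∀ g f, f ∈ Q → ρ g f ∈ Q) → Q = ⊥ ∨ Q = ⊤ := by
    intro Q hQ
    let M : Subgroup H := (Q.comap e₀.toMonoidHom).map N.subtype
    have hM : ∀ x : H, x ∈ M ↔ ∃ n : N, e₀ n ∈ Q ∧ (n : H) = x := by
      intro x
      constructor
      · rintro ⟨n, hn, rfl⟩
        exact ⟨n, hn, rfl⟩
      · rintro ⟨n, hn, rfl⟩
        exact ⟨n, hn, rfl⟩
    have hMn : M.Normal := by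
      refine ⟨?_⟩
      intro x hx h
      rw [hM] at hx ⊢
      obtain ⟨n, hn, rfl⟩ := hx
      refine ⟨MulAut.conjNormal h n, ?_, rfl⟩
      rw [← hρ]
      exact hQ h _ hn
    have hMN : M ≤ N := by
      intro x hx
      rw [hM] at hx
      obtain ⟨n, _, rfl⟩ := hx
      exact n.2
    rcases hmin M hMn hMN with h0 | h1
    · left
      rw [eq_bot_iff]
      intro f hf
      rw [Subgroup.mem_bot]
      obtain ⟨n, rfl⟩ := e₀.surjective f
      have : (n : H) ∈ M := (hM _).mpr ⟨n, hf, rfl⟩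
      rw [h0, Subgroup.mem_bot] at this
      have h2 : n = 1 := Subtype.ext this
      rw [h2, map_one]
    · right
      rw [eq_top_iff]
      intro f _
      obtain ⟨n, rfl⟩ := e₀.surjective f
      have : (n : H) ∈ M := by rw [h1]; exact n.2
      obtain ⟨n', hn', hnf⟩ := (hM _).mp this
      have : n' = n := Subtype.ext hnf
      rw [← this]
      exact hn'
  -- inner automorphisms
  have hNtrans : MulAction.IsPretransitive N α := normal_trans' H N hN
  have hρN : ∀ (n : N) f, ρ (n : H) f = e₀ n * f * (e₀ n)⁻¹ := by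
    intro n f
    obtain ⟨n', rfl⟩ := e₀.surjective f
    rw [hρ]
    have : MulAut.conjNormal (n : H) n' = n * n' * n⁻¹ := Subtype.ext rfl
    rw [this, map_mul, map_mul, map_inv]
  have hinner : ∀ g : H, ∃ k ∈ Ka, ∃ x : Fin m → S, ∀ f, ρ g f = x * ρ k f * x⁻¹ := by
    intro g
    obtain ⟨n, hn⟩ := MulAction.exists_smul_eq N a (g • a)
    have hn' : (n : H) • a = g • a := hn
    refine ⟨(n : H)⁻¹ * g, ?_, e₀ n, ?_⟩
    · change (n : H)⁻¹ * g ∈ MulAction.stabilizer H a
      rw [MulAction.mem_stabilizer_iff, mul_smul, ← hn', inv_smul_smul]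
    · intro f
      have hg : g = (n : H) * ((n : H)⁻¹ * g) := by group
      conv_lhs => rw [hg, map_mul, MulAut.mul_apply, hρN]
  -- invariance of D
  have hinv : ∀ (k : Ka) f, f ∈ D → (ρ.comp Ka.subtype) k f ∈ D := by
    intro k f hf
    obtain ⟨n, rfl⟩ := e₀.surjective f
    rw [hD] at hf
    change ρ (k : H) (e₀ n) ∈ D
    rw [hρ, hD]
    change (k : H) * n * (k : H)⁻¹ ∈ Ka
    exact Ka.mul_mem (Ka.mul_mem k.2 hf) (Ka.inv_mem k.2)
  -- maximality
  have hαnt : Nontrivial α := by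
    by_contra hα
    rw [not_nontrivial_iff_subsingleton] at hα
    apply hN
    rw [eq_bot_iff]
    intro n _
    rw [Subgroup.mem_bot]
    apply Subtype.ext
    apply Equiv.ext
    intro x
    exact Subsingleton.elim _ _
  have hcoatom : IsCoatom Ka :=
    MulAction.IsPreprimitive.isCoatom_stabilizer_of_isPreprimitive (G := H) (X := α) a
  have hmax : ∀ Q : Subgroup (Fin m → S),
      (∀ (k : Ka) f, f ∈ Q → (ρ.comp Ka.subtype) k f ∈ Q) → D ≤ Q → Q = D ∨ Q = ⊤ := by
    intro Q hQ hDQ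
    have hQ' : ∀ k ∈ Ka, ∀ n : N, e₀ n ∈ Q → e₀ (MulAut.conjNormal k n) ∈ Q := by
      intro k hk n hn
      rw [← hρ]
      exact hQ ⟨k, hk⟩ _ hn
    let KM : Subgroup H :=
      { carrier := {h | ∃ k ∈ Ka, ∃ n : N, e₀ n ∈ Q ∧ h = k * n}
        one_mem' := ⟨1, Ka.one_mem, 1, by rw [map_one]; exact Q.one_mem, by simp⟩
        mul_mem' := by
          rintro _ _ ⟨k, hk, n, hn, rfl⟩ ⟨k', hk', n', hn', rfl⟩
          refine ⟨k * k', Ka.mul_mem hk hk', MulAut.conjNormal k'⁻¹ n * n', ?_, ?_⟩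
          · rw [map_mul]
            exact Q.mul_mem (hQ' _ (Ka.inv_mem hk') _ hn) hn'
          · rw [Subgroup.coe_mul, MulAut.conjNormal_apply]
            group
        inv_mem' := by
          rintro _ ⟨k, hk, n, hn, rfl⟩
          refine ⟨k⁻¹, Ka.inv_mem hk, MulAut.conjNormal k n⁻¹, ?_, ?_⟩
          · apply hQ' _ hk
            rw [map_inv]
            exact Q.inv_mem hn
          · rw [MulAut.conjNormal_apply, Subgroup.coe_inv]
            group }
    have hKM : ∀ h, h ∈ KM ↔ ∃ k ∈ Ka, ∃ n : N, e₀ n ∈ Q ∧ h = k * n := fun h => Iff.rfl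
    have hKa : Ka ≤ KM := fun k hk =>
      (hKM k).mpr ⟨k, hk, 1, by rw [map_one]; exact Q.one_mem, by simp⟩
    by_cases hle : KM ≤ Ka
    · left
      apply le_antisymm _ hDQ
      intro f hf
      obtain ⟨n, rfl⟩ := e₀.surjective f
      rw [hD]
      apply hle
      exact (hKM _).mpr ⟨1, Ka.one_mem, n, hf, by simp⟩
    · right
      have hlt : Ka < KM := lt_of_le_not_ge hKa hle
      have htop := hcoatom.2 KM hlt
      rw [eq_top_iff]
      intro f _
      obtain ⟨n, rfl⟩ := e₀.surjective f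
      have : (n : H) ∈ KM := by rw [htop]; trivial
      obtain ⟨k, hk, n', hn', hnk⟩ := (hKM _).mp this
      have hkN : k ∈ N := by
        have : k = (n : H) * (n' : H)⁻¹ := by rw [hnk]; group
        rw [this]
        exact N.mul_mem n.2 (N.inv_mem n'.2)
      have h1 : e₀ ⟨k, hkN⟩ ∈ Q := hDQ ((hD _).mpr hk)
      have h2 : n = ⟨k, hkN⟩ * n' := Subtype.ext hnk
      rw [h2, map_mul]
      exact Q.mul_mem h1 hn'
  -- properness
  have hne : D ≠ ⊤ := by
    intro hDtop
    apply hN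
    rw [eq_bot_iff]
    intro n hn
    rw [Subgroup.mem_bot]
    apply Subtype.ext
    apply Equiv.ext
    intro b
    obtain ⟨h, rfl⟩ := MulAction.exists_smul_eq H a b
    have hmem : h⁻¹ * n * h ∈ N := by
      have := (inferInstance : N.Normal).conj_mem n hn h⁻¹
      simpa using this
    have h2 : e₀ ⟨h⁻¹ * n * h, hmem⟩ ∈ D := by rw [hDtop]; trivial
    rw [hD] at h2
    have h3 : (h⁻¹ * n * h) • a = a := h2
    have h4 : n • (h • a) = h • ((h⁻¹ * n * h) • a) := by
      simp only [mul_smul, smul_inv_smul]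
    rw [h3] at h4
    exact h4
  have htrans := trans_of_minimal hnab ρ Ka hmin' hinner
  have htrans' : ∀ i j, ∃ (g : Ka) (s : S),
      (ρ.comp Ka.subtype) g (Pi.mulSingle i s) j ≠ 1 := by
    intro i j
    obtain ⟨k, hk, s, h⟩ := htrans i j
    exact ⟨⟨k, hk⟩, s, h⟩
  obtain ⟨e', h⟩ := abstract_main hnab hm (ρ.comp Ka.subtype) D hinv hmax hne htrans'
  refine ⟨e', ?_⟩
  rcases h with ⟨K, hK1, hK2⟩ | ⟨k, c, hk, hc, hD2⟩
  · left
    exact ⟨K, hK1, fun n => by rw [← hD, hK2]⟩
  · right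
    exact ⟨k, c, hk, hc, fun n => by rw [← hD, hD2]⟩

/-- The core of the O'Nan–Scott Theorem. Let `H` be a primitive permutation group on a finite set whose unique minimal normal subgroup `N` is non-abelian, and `K` a point stabiliser. Then there are a non-abelian simple group `T` and an isomorphism `N ≃* T^m` (`m ≥ 1`) under which `K ⊓ N` becomes either a product `∏ K_i` of proper subgroups `K_i < T`, or the set of functions constant on each block of a partition of the index set into blocks of one common size `k ≥ 2`. -/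
theorem result {α : Type*} [Finite α] (H : Subgroup (Equiv.Perm α)) [MulAction.IsPreprimitive H α] (N : Subgroup H) [N.Normal] (hN : N ≠ ⊥) (hmin : ∀ M : Subgroup H, M.Normal → M ≤ N → M = ⊥ ∨ M = N) (huniq : ∀ L : Subgroup H, L.Normal → L ≠ ⊥ → (∀ M : Subgroup H, M.Normal → M ≤ L → M = ⊥ ∨ M = L) → L = N) (hnab : ¬ IsMulCommutative N) (a : α) : ∃ (T : Type) (_ : Group T) (m : ℕ) (e : N ≃* (Fin m → T)), IsSimpleGroup T ∧ ¬ IsMulCommutative T ∧ 0 < m ∧ ((∃ K : Fin m → Subgroup T, (∀ i, K i ≠ ⊤) ∧ ∀ n : N, (n : H) ∈ MulAction.stabilizer H a ↔ ∀ i, e n i ∈ K i) ∨ (∃ (k : ℕ) (c : Fin m → Fin m), 2 ≤ k ∧ (∀ j : Fin m, Nat.card {i : Fin m // c i = j} = k ∨ Nat.card {i : Fin m // c i = j} = 0) ∧ ∀ n : N, (n : H) ∈ MulAction.stabilizer H a ↔ ∀ i j : Fin m, c i = c j → e n i = e n j)) := by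
  have hNnt : Nontrivial N := (Subgroup.nontrivial_iff_ne_bot N).mpr hN
  have hchar : ∀ K : Subgroup N, K.Characteristic → K = ⊥ ∨ K = ⊤ := fun K hK =>
    Cfsg.Agent.Lib.Helper12.TwoTransSocle.char_of_minimal N hmin K
  obtain ⟨S, hSg, hSs, m, hm, ⟨e₀⟩⟩ := Cfsg.Agent.S5914.forward hchar
  have hnabS := not_comm_of_iso e₀ hnab
  have hfinS : Finite S :=
    Finite.of_injective (fun s => e₀.symm (Pi.mulSingle (⟨0, hm⟩ : Fin m) s))
      (e₀.symm.injective.comp (Pi.mulSingle_injective _))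
  obtain ⟨e', h⟩ := reduction H N hN hmin a hnabS hm e₀
  exact ⟨S, hSg, m, e₀.trans e', hSs, hnabS, hm, h⟩

end Cfsg.Agent.S0723
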