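import Mathlib
import Cfsg.Statements.S0724

set_option autoImplicit false
open Cfsg

namespace Cfsg.Agent.S0724

open MulAction

/-- number of fixed points on `k`-tuples is the `k`-th power of the number of fixed points -/
theorem card_fixedBy_pi {G α : Type*} [Group G] [MulAction G α] [Finite α] (k : ℕ) (g : G) :
    Nat.card (fixedBy (Fin k → α) g) = Nat.card (fixedBy α g) ^ k := by
  have e : fixedBy (Fin k → α) g ≃ (Fin k → fixedBy α g) :=
    (Equiv.subtypeEquivRight (fun f => by
      simp only [mem_fixedBy, funext_iff, Pi.smul_apply])).trans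
      (Equiv.subtypePiEquivPi (β := fun _ : Fin k => α) (p := fun _ a => g • a = a))
  rw [Nat.card_congr e, Nat.card_fun, Nat.card_fin]

/-- Burnside: the order of the group divides the sum of powers of fixed point numbers -/
theorem card_dvd_sum_pow {G α : Type*} [Group G] [Fintype G] [MulAction G α] [Finite α] (k : ℕ) :
    (Nat.card G : ℤ) ∣ ∑ g : G, ((Nat.card (fixedBy α g) : ℕ) : ℤ) ^ k := by
  classical
  have : Fintype α := Fintype.ofFinite α
  have h := sum_card_fixedBy_eq_card_orbits_mul_card_group G (Fin k → α)
  have h2 : ∑ g : G, ((Nat.card (fixedBy α g) : ℕ) : ℤ) ^ k =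
      ((∑ g : G, Fintype.card (fixedBy (Fin k → α) g) : ℕ) : ℤ) := by
    push_cast
    apply Finset.sum_congr rfl
    intro g _
    rw [← Nat.card_eq_fintype_card, card_fixedBy_pi]
    push_cast
    rfl
  rw [h2, h, Nat.card_eq_fintype_card]
  push_cast
  exact Dvd.intro_left _ rfl

/-- Blichfeldt's Theorem: if a finite set `L` of natural numbers contains the number of fixed points of every non-identity element of a permutation group `G` of degree `n`, then the order of `G` divides `∏ (n - l)` over `l ∈ L`. -/
theorem result {α : Type*} [Fintype α] [DecidableEq α] (G : Subgroup (Equiv.Perm α)) (L : Finset ℕ) (hL : ∀ g ∈ G, g ≠ 1 → Nat.card (MulAction.fixedBy α g) ∈ L) : Nat.card G ∣ ∏ l ∈ L, (Fintype.card α - l) := by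
  classical
  by_cases hbig : ∃ l ∈ L, Fintype.card α ≤ l
  · obtain ⟨l, hl, hle⟩ := hbig
    have : ∏ l ∈ L, (Fintype.card α - l) = 0 := by
      apply Finset.prod_eq_zero hl
      omega
    rw [this]
    exact dvd_zero _
  · simp only [not_exists, not_and, not_le] at hbig
    have : Fintype G := Fintype.ofFinite G
    -- the integer-valued sum
    have key : (Nat.card G : ℤ) ∣ ∑ g : G, ∏ l ∈ L, (((Nat.card (fixedBy α g) : ℕ) : ℤ) + (-(l : ℤ))) := by
      simp_rw [Finset.prod_add]
      rw [Finset.sum_comm]
      apply Finset.dvd_sum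
      intro t _
      simp_rw [Finset.prod_const]
      rw [← Finset.sum_mul]
      exact Dvd.dvd.mul_right (card_dvd_sum_pow (G := G) (α := α) t.card) _
    have hsum : ∑ g : G, ∏ l ∈ L, (((Nat.card (fixedBy α g) : ℕ) : ℤ) + (-(l : ℤ))) =
        ((∏ l ∈ L, (Fintype.card α - l) : ℕ) : ℤ) := by
      rw [Finset.sum_eq_single (1 : G)]
      · push_cast
        apply Finset.prod_congr rfl
        intro l hl
        have h1 : Nat.card (fixedBy α (1 : G)) = Fintype.card α := by
          rw [← Nat.card_eq_fintype_card]
          apply Nat.card_congr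
          exact (Equiv.subtypeUnivEquiv (fun x => by simp))
        rw [h1, Nat.cast_sub (hbig l hl).le]
        ring
      · intro g _ hg
        have hg' : (g : Equiv.Perm α) ≠ 1 := fun h => hg (Subtype.ext h)
        have hmem := hL g g.2 hg'
        apply Finset.prod_eq_zero hmem
        have : Nat.card (fixedBy α (g : Equiv.Perm α)) = Nat.card (fixedBy α g) := rfl
        rw [this]
        ring
      · intro h; exact absurd (Finset.mem_univ _) h
    rw [hsum] at key
    exact_mod_cast key

end Cfsg.Agent.S0724
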