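import Cfsg.Statements.S0726

set_option autoImplicit false
open Cfsg

namespace Cfsg.Agent.S0726

theorem mem_cent_iff {G : Type*} [Group G] (c : Equiv.Perm G) :
    c ∈ Subgroup.centralizer ((MulAction.toPermHom G G).range : Set (Equiv.Perm G)) ↔
      ∀ x : G, c x = x * c 1 := by
  constructor
  · intro hc x
    have h1 := hc (MulAction.toPermHom G G x) ⟨x, rfl⟩
    have h2 := congrArg (fun σ : Equiv.Perm G => σ 1) h1
    simp only [Equiv.Perm.coe_mul, Function.comp_apply, MulAction.toPermHom_apply,
      MulAction.toPerm_apply, smul_eq_mul, mul_one] at h2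
    exact h2.symm
  · intro hc σ hσ
    obtain ⟨g, rfl⟩ := hσ
    ext x
    simp only [Equiv.Perm.coe_mul, Function.comp_apply, MulAction.toPermHom_apply,
      MulAction.toPerm_apply, smul_eq_mul]
    rw [hc x, hc (g * x), mul_assoc]

theorem mem_right_iff {G : Type*} [Group G] (c : Equiv.Perm G) :
    c ∈ (MulAction.toPermHom Gᵐᵒᵖ G).range ↔ ∀ x : G, c x = x * c 1 := by
  constructor
  · rintro ⟨m, rfl⟩ x
    simp [MulAction.toPermHom_apply, MulAction.toPerm_apply]
  · intro hc
    refine ⟨MulOpposite.op (c 1), ?_⟩
    ext x
    simp only [MulAction.toPermHom_apply, MulAction.toPerm_apply, MulOpposite.smul_eq_mul_unop,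
      MulOpposite.unop_op]
    exact (hc x).symm

/-- The left and right regular permutation representations of a group are each other's centralisers in the symmetric group: the centraliser of the left regular image is the right regular image, and a transitive subgroup centralising the left regular image is the whole right regular image. -/
theorem result {G : Type*} [Group G] : Subgroup.centralizer ((MulAction.toPermHom G G).range : Set (Equiv.Perm G)) = (MulAction.toPermHom Gᵐᵒᵖ G).range ∧ ∀ H : Subgroup (Equiv.Perm G), H ≤ Subgroup.centralizer ((MulAction.toPermHom G G).range : Set (Equiv.Perm G)) → MulAction.IsPretransitive H G → H = (MulAction.toPermHom Gᵐᵒᵖ G).range := by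
  have h1 : Subgroup.centralizer ((MulAction.toPermHom G G).range : Set (Equiv.Perm G)) = (MulAction.toPermHom Gᵐᵒᵖ G).range := by
    ext c
    rw [mem_cent_iff, mem_right_iff]
  refine ⟨h1, ?_⟩
  intro H hH htr
  rw [h1] at hH
  apply le_antisymm hH
  intro r hr
  rw [mem_right_iff] at hr
  obtain ⟨h, hh⟩ := MulAction.exists_smul_eq H (1 : G) (r 1)
  have hh' : (h : Equiv.Perm G) 1 = r 1 := hh
  have h2 := (mem_right_iff (h : Equiv.Perm G)).1 (hH h.2)
  have : r = (h : Equiv.Perm G) := by
    ext x
    rw [hr x, h2 x, hh']
  rw [this]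
  exact h.2

end Cfsg.Agent.S0726
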