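import Cfsg.Statements.S0730
import Cfsg.Agent.Lib.Helper3.ZQ1
import Cfsg.Agent.Lib.Helper3.ZQ2
import Cfsg.Agent.S0727
import Cfsg.Agent.S0729

set_option autoImplicit false
open Cfsg

namespace Cfsg.Agent.S0730

/-- A sharply triply transitive group of degree `p^f + 1`, `p` an odd prime and `f` odd, is isomorphic to the projective general linear group of degree 2 over the field with `p^f` elements (for even `f` there is a second, twisted, group). -/
theorem result {α : Type*} [Fintype α] [DecidableEq α] {p f : ℕ} (hp : p.Prime) (hp2 : p ≠ 2) (hfo : Odd f) (hα : Fintype.card α = p ^ f + 1) (G : Subgroup (Equiv.Perm α)) (h3 : MulAction.IsMultiplyPretransitive G α 3) (hsharp : ∀ x : Fin 3 ↪ α, MulAction.stabilizer G x = ⊥) : ∃ (F : Type) (_ : Field F) (_ : Fintype F), Fintype.card F = p ^ f ∧ Nonempty (G ≃* Matrix.ProjGenLinGroup (Fin 2) F) := by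
  classical
  have : Fact p.Prime := ⟨hp⟩
  have hqodd : Odd (p ^ f) := (hp.odd_of_ne_two hp2).pow
  have hq3 : 3 ≤ p ^ f := by
    have h1 : p ≤ p ^ f := by
      obtain ⟨r, hr⟩ := hfo
      calc p = p ^ 1 := (pow_one p).symm
        _ ≤ p ^ f := Nat.pow_le_pow_right hp.pos (by omega)
    have h2 := hp.two_le
    omega
  have h4 : 4 ≤ Fintype.card α := by omega
  have h3α : 3 ≤ Fintype.card α := by omega
  have heven : Even (Fintype.card α) := by
    rw [hα]
    exact hqodd.add_one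
  have h5 : Fintype.card α ≠ 5 := by
    intro h
    rw [h] at heven
    exact absurd heven (by decide)
  have hfix3 := Cfsg.Agent.Lib.Helper3.ZT.fix3_of_sharp hsharp
  obtain ⟨a, b, c, hab, hac, hbc⟩ : ∃ a b c : α, a ≠ b ∧ a ≠ c ∧ b ≠ c :=
    Fintype.two_lt_card_iff.mp (by omega)
  obtain ⟨F, hFle, hFn, hcomm, hreg⟩ :=
    Cfsg.Agent.Lib.Helper3.ZT.kernel_of_sharp3 G h3 hsharp h3α a
  have hcardG := Cfsg.Agent.S0727.card_G h3 hsharp h3α
  have : MulAction.IsPretransitive G α :=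
    Cfsg.Agent.S0727.pretrans_of (Cfsg.Agent.S0727.trans3_of h3) h3α
  have hcardG' : Nat.card G = (p ^ f + 1) * p ^ f * (p ^ f - 1) := by
    rw [hcardG, hα]
    have e1 : p ^ f + 1 - 1 = p ^ f := by omega
    have e2 : p ^ f + 1 - 2 = p ^ f - 1 := by omega
    rw [e1, e2]
  have hEcard : Nat.card ↥(MulAction.stabilizer G a ⊓ MulAction.stabilizer G b) = p ^ f - 1 := by
    apply Cfsg.Agent.Lib.Helper3.ZT.card_twoStab_gen hFle hreg hab
    rw [hcardG', hα]
    have e1 : p ^ f + 1 - 1 = p ^ f := by omega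
    rw [e1]
  -- the homomorphism onto a group of order two
  obtain ⟨ψ, h₀, h₀a, h₀b, hψ⟩ := Cfsg.Agent.Lib.Helper3.ZT.sharp_hom_at G h4 h3 hsharp
    (fun h6 a b c hab hac hbc s hsa hsb hsc =>
      Cfsg.Agent.S0729.result heven h6 G h3 hsharp hab hac hbc s hsa hsb hsc) h5 hab hac hbc
  have hψ₀ : ψ h₀ = -1 := by
    rcases Int.units_eq_one_or (ψ h₀) with h | h
    · exact absurd h hψ
    · exact h
  -- an involution in the kernel interchanging `a` and `b`
  obtain ⟨t, htt, hta, htb, hψt⟩ : ∃ t : G, t * t = 1 ∧ t • a = b ∧ t • b = a ∧ ψ t = 1 := by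
    have hL2 : 2 * Nat.card ↥(ψ.ker ⊓ ⊤) = Nat.card (⊤ : Subgroup G) :=
      Cfsg.Agent.Lib.Helper3.ZT.card_ker_inf ψ ⊤ (Subgroup.mem_top h₀) hψ
    rw [inf_top_eq, Subgroup.card_top, hcardG'] at hL2
    have h2dvd : 2 ∣ Nat.card ψ.ker := by
      obtain ⟨r, hr⟩ := hqodd
      refine ⟨(r + 1) * (2 * r + 1) * r, ?_⟩
      have h1 : 2 * Nat.card ψ.ker = 2 * (2 * ((r + 1) * (2 * r + 1) * r)) := by
        rw [hL2, hr]
        have e1 : 2 * r + 1 - 1 = 2 * r := by omega
        rw [e1]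
        ring
      exact Nat.eq_of_mul_eq_mul_left (by norm_num) h1
    have : Fact (Nat.Prime 2) := ⟨Nat.prime_two⟩
    obtain ⟨u, hu⟩ := exists_prime_orderOf_dvd_card' (G := ψ.ker) 2 h2dvd
    have huu : (u : G) * (u : G) = 1 := by
      have h1 := pow_orderOf_eq_one u
      rw [hu, pow_two] at h1
      exact congrArg Subtype.val h1
    have hu1 : (u : G) ≠ 1 := by
      intro h
      have : u = 1 := Subtype.ext h
      rw [this, orderOf_one] at hu
      omega
    obtain ⟨x, hx⟩ : ∃ x : α, (u : G) • x ≠ x := by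
      by_contra hcon
      push Not at hcon
      apply hu1
      apply Subtype.ext
      apply Equiv.ext
      intro x
      exact hcon x
    set y := (u : G) • x with hy
    have huy : (u : G) • y = x := by
      rw [hy, ← mul_smul, huu, one_smul]
    obtain ⟨z, hzx, hzy⟩ := Cfsg.Agent.S0727.exists_third h3α x y
    obtain ⟨g₀, hg₀x, hg₀y, -⟩ := Cfsg.Agent.Lib.Helper3.ZT.trans3_of_pretransitive h3
      (Ne.symm hx) hzx.symm hzy.symm hab hac hbc
    obtain ⟨g, hgx, hgy, hψg⟩ : ∃ g : G, g • x = a ∧ g • y = b ∧ ψ g = 1 := by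
      rcases Int.units_eq_one_or (ψ g₀) with h | h
      · exact ⟨g₀, hg₀x, hg₀y, h⟩
      · refine ⟨h₀ * g₀, ?_, ?_, ?_⟩
        · rw [mul_smul, hg₀x, h₀a]
        · rw [mul_smul, hg₀y, h₀b]
        · rw [map_mul, h, hψ₀]
          rfl
    refine ⟨g * (u : G) * g⁻¹, ?_, ?_, ?_, ?_⟩
    · calc g * (u : G) * g⁻¹ * (g * (u : G) * g⁻¹) = g * ((u : G) * (u : G)) * g⁻¹ := by group
        _ = 1 := by rw [huu]; group
    · rw [mul_smul, mul_smul, inv_smul_eq_iff.mpr hgx.symm, ← hy, hgy]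
    · rw [mul_smul, mul_smul, inv_smul_eq_iff.mpr hgy.symm, huy, hgx]
    · rw [map_mul, map_mul, map_inv, hψg, MonoidHom.mem_ker.mp u.2]
      rfl
  have hcard : Nat.card G = p ^ f * ((p ^ f) ^ 2 - 1) := by
    rw [hcardG']
    obtain ⟨k, hk⟩ : ∃ k, p ^ f = k + 1 := ⟨p ^ f - 1, by omega⟩
    rw [hk]
    have h1 : (k + 1) ^ 2 - 1 = (k + 1 + 1) * k := by
      apply Nat.sub_eq_of_eq_add
      ring
    rw [h1, Nat.add_sub_cancel]
    ring
  exact Cfsg.Agent.Lib.Helper3.ZT.pgl_of_sharp3_odd hp2 hfo hα hfix3 hab hFle hFn hcomm hreg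
    hEcard ψ h₀a h₀b hψ htt htb hψt hcard

end Cfsg.Agent.S0730
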