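import Cfsg.Statements.S0732
import Cfsg.Agent.Lib.Helper3.ZP2
import Cfsg.Agent.Lib.Helper3.ZP5
import Cfsg.Agent.S0727

set_option autoImplicit false
open Cfsg

namespace Cfsg.Agent.S0732

/-- A transitive permutation group on `p + 1` points (`p` prime) of order `(p+1) p d` with `d < p` is isomorphic to `PGL(2,p)` with `d = p - 1`, or to `PSL(2,p)` with `2d = p - 1`, or else `p + 1 = 2^q` for a prime `q`, `d = 1` or `d = q`, and the group is permutation-isomorphic to a group of semi-affine maps `x ↦ a φ(x) + b` of the field with `2^q` elements. -/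
theorem result {α : Type*} [Fintype α] [DecidableEq α] {p d : ℕ} (hp : p.Prime) (hα : Fintype.card α = p + 1) (G : Subgroup (Equiv.Perm α)) [MulAction.IsPretransitive G α] (hG : Nat.card G = (p + 1) * p * d) (hd : d < p) : (d = p - 1 ∧ Nonempty (G ≃* Matrix.ProjGenLinGroup (Fin 2) (ZMod p))) ∨ (2 * d = p - 1 ∧ Nonempty (G ≃* Matrix.ProjectiveSpecialLinearGroup (Fin 2) (ZMod p))) ∨ (∃ q : ℕ, q.Prime ∧ p + 1 = 2 ^ q ∧ (d = 1 ∨ d = q) ∧ ∃ e : α ≃ GaloisField 2 q, ∀ g : G, (e.symm.trans (((g : Equiv.Perm α)).trans e)) ∈ Cfsg.semiaffineGroup (GaloisField 2 q)) := by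
  classical
  have hd0 : 0 < d := by
    rcases Nat.eq_zero_or_pos d with h | h
    · rw [h, mul_zero] at hG
      have : 0 < Nat.card G := Nat.card_pos
      omega
    · exact h
  by_cases hp2 : p = 2
  · subst hp2
    have hd1 : d = 1 := by omega
    left
    refine ⟨by omega, ?_⟩
    have hcardPerm : Nat.card (Equiv.Perm α) = 6 := by
      rw [Nat.card_eq_fintype_card, Fintype.card_perm, hα]
      rfl
    have hGtop : G = ⊤ := Subgroup.eq_top_of_card_eq G (by rw [hG, hd1, hcardPerm])
    obtain ⟨e⟩ := Cfsg.Agent.S0727.pgl2_two_equiv (β := α) hα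
    exact ⟨((MulEquiv.subgroupCongr hGtop).trans Subgroup.topEquiv).trans e⟩
  · by_cases hreg : ∃ N : Subgroup G, N.Normal ∧ MulAction.IsPretransitive N α ∧
        ∀ x : α, MulAction.stabilizer N x = ⊥
    · right
      right
      obtain ⟨N, hNn, hNt, hNs⟩ := hreg
      obtain ⟨q, hq, hpq, hdq, e, he⟩ :=
        Cfsg.Agent.Lib.Helper3.ZP.semiaffine_case hp hp2 hα hG hd hNn hNt hNs
      refine ⟨q, hq, hpq, hdq, e, fun g => ?_⟩
      obtain ⟨c, t, σ, h⟩ := he g
      refine ⟨c, t, σ, fun x => ?_⟩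
      have h1 := h (e.symm x)
      rw [Equiv.apply_symm_apply] at h1
      exact h1
    · have hd1 : 1 < d := by
        by_contra hle
        have h1 : d = 1 := by omega
        subst h1
        exact hreg (Cfsg.Agent.Lib.Helper3.ZP.regular_normal_of_sharp hp hα hG)
      have hnoreg : ∀ N : Subgroup G, N.Normal → MulAction.IsPretransitive N α →
          ∃ x : α, MulAction.stabilizer N x ≠ ⊥ := by
        intro N hNn hNt
        by_contra hcon
        push Not at hcon
        exact hreg ⟨N, hNn, hNt, hcon⟩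
      rcases Cfsg.Agent.Lib.Helper3.ZP.zass_case hp hα hG hd hd1 hnoreg with h | h
      · exact Or.inl h
      · exact Or.inr (Or.inl h)

end Cfsg.Agent.S0732
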