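import Cfsg.Statements.S0733
import Mathlib.Algebra.Module.ZMod

set_option autoImplicit false
open Cfsg

namespace Cfsg.Agent.S0733

open MulAction
open scoped Pointwise

/-- A permutation group of affine type — generated by the translations of a finite vector space `V` over `ZMod p` together with a group `G₀` of linear automorphisms — is primitive on `V` if and only if `G₀` is irreducible on `V`. -/
theorem result {p : ℕ} [Fact p.Prime] {V : Type*} [AddCommGroup V] [Module (ZMod p) V] [Finite V] [Nontrivial V] (G₀ : Subgroup (V ≃ₗ[ZMod p] V)) (G : Subgroup (Equiv.Perm V)) (hG : ∀ σ : Equiv.Perm V, σ ∈ G ↔ ∃ g ∈ G₀, ∃ b : V, ∀ x : V, σ x = (g : V ≃ₗ[ZMod p] V) x + b) : MulAction.IsPreprimitive G V ↔ ∀ W : Submodule (ZMod p) V, (∀ g ∈ G₀, ∀ v ∈ W, (g : V ≃ₗ[ZMod p] V) v ∈ W) → W = ⊥ ∨ W = ⊤ := by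
  -- translations
  have htransl : ∀ b : V, ∃ τ : G, ∀ x : V, τ • x = x + b := by
    intro b
    refine ⟨⟨Equiv.addRight b, ?_⟩, ?_⟩
    · rw [hG]
      exact ⟨1, G₀.one_mem, b, fun x => rfl⟩
    · intro x; rfl
  have hlin : ∀ g ∈ G₀, ∃ τ : G, ∀ x : V, τ • x = (g : V ≃ₗ[ZMod p] V) x := by
    intro g hg
    refine ⟨⟨g.toEquiv, ?_⟩, ?_⟩
    · rw [hG]
      exact ⟨g, hg, 0, fun x => by simp⟩
    · intro x; rfl
  have hform : ∀ σ : G, ∃ g ∈ G₀, ∃ b : V, ∀ x : V, σ • x = (g : V ≃ₗ[ZMod p] V) x + b := by
    intro σ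
    exact (hG σ.1).mp σ.2
  constructor
  · intro hprim W hW
    have hblock : IsBlock G (W : Set V) := by
      rw [isBlock_iff_smul_eq_of_mem]
      intro σ a ha hσa
      obtain ⟨g, hg, b, hσ⟩ := hform σ
      have hb : b ∈ W := by
        have h1 : (g : V ≃ₗ[ZMod p] V) a ∈ W := hW g hg a ha
        have h2 : (g : V ≃ₗ[ZMod p] V) a + b ∈ W := by rw [← hσ]; exact hσa
        have := W.sub_mem h2 h1
        simpa using this
      ext w
      constructor
      · rintro ⟨w', hw', rfl⟩
        change σ • w' ∈ W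
        rw [hσ]
        exact W.add_mem (hW g hg w' hw') hb
      · intro hw
        refine ⟨(g⁻¹ : V ≃ₗ[ZMod p] V) (w - b), ?_, ?_⟩
        · exact hW g⁻¹ (G₀.inv_mem hg) _ (W.sub_mem hw hb)
        · change σ • _ = w
          rw [hσ]
          have : (g : V ≃ₗ[ZMod p] V) ((g⁻¹ : V ≃ₗ[ZMod p] V) (w - b)) = w - b := by
            change (g * g⁻¹) (w - b) = w - b
            rw [mul_inv_cancel]
            rfl
          rw [this]
          abel
    rcases hprim.isTrivialBlock_of_isBlock hblock with h | h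
    · left
      rw [Submodule.eq_bot_iff]
      intro x hx
      exact h hx W.zero_mem
    · right
      rw [Submodule.eq_top_iff']
      intro x
      have : x ∈ (W : Set V) := by rw [h]; exact Set.mem_univ x
      exact this
  · intro hirr
    have htrans : IsPretransitive G V := by
      constructor
      intro a b
      obtain ⟨τ, hτ⟩ := htransl (b - a)
      exact ⟨τ, by rw [hτ]; abel⟩
    refine { toIsPretransitive := htrans, isTrivialBlock_of_isBlock := ?_ }
    intro B hB
    rcases Set.eq_empty_or_nonempty B with hBe | ⟨v, hv⟩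
    · left
      rw [hBe]
      exact Set.subsingleton_empty
    obtain ⟨τ, hτ⟩ := htransl (-v)
    have hB' : IsBlock G (τ • B) := hB.translate τ
    have h0 : (0 : V) ∈ τ • B := by
      refine ⟨v, hv, ?_⟩
      change τ • v = 0
      rw [hτ]; abel
    have hadd : ∀ x ∈ τ • B, ∀ y ∈ τ • B, x + y ∈ τ • B := by
      intro x hx y hy
      obtain ⟨τy, hτy⟩ := htransl y
      have h1 : τy • (τ • B) = τ • B := hB'.smul_eq_of_mem h0 (by rw [hτy, zero_add]; exact hy)
      rw [← h1]
      refine ⟨x, hx, ?_⟩
      change τy • x = x + y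
      rw [hτy]
    have hneg : ∀ x ∈ τ • B, -x ∈ τ • B := by
      intro x hx
      obtain ⟨τx, hτx⟩ := htransl x
      have h1 : τx • (τ • B) = τ • B := hB'.smul_eq_of_mem h0 (by rw [hτx, zero_add]; exact hx)
      have h2 : (0 : V) ∈ τx • (τ • B) := by rw [h1]; exact h0
      obtain ⟨y, hy, hy0⟩ := h2
      have hy0' : τx • y = 0 := hy0
      rw [hτx] at hy0'
      have : y = -x := eq_neg_of_add_eq_zero_left hy0'
      rw [← this]
      exact hy
    let A : AddSubgroup V :=
      { carrier := τ • B
        add_mem' := fun {x y} hx hy => hadd x hx y hy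
        zero_mem' := h0
        neg_mem' := fun {x} hx => hneg x hx }
    have hinv : ∀ g ∈ G₀, ∀ w ∈ AddSubgroup.toZModSubmodule p A,
        (g : V ≃ₗ[ZMod p] V) w ∈ AddSubgroup.toZModSubmodule p A := by
      intro g hg w hw
      obtain ⟨σ, hσ⟩ := hlin g hg
      have hw' : w ∈ τ • B := hw
      have h1 : σ • (τ • B) = τ • B := hB'.smul_eq_of_mem h0 (by rw [hσ, map_zero]; exact h0)
      change (g : V ≃ₗ[ZMod p] V) w ∈ τ • B
      rw [← h1, ← hσ]
      exact Set.smul_mem_smul_set hw'
    have hBeq : B = τ⁻¹ • (τ • B) := by rw [inv_smul_smul]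
    rcases hirr _ hinv with h | h
    · left
      have hsub : (τ • B).Subsingleton := by
        intro x hx y hy
        have hx' : x ∈ AddSubgroup.toZModSubmodule p A := hx
        have hy' : y ∈ AddSubgroup.toZModSubmodule p A := hy
        rw [h, Submodule.mem_bot] at hx' hy'
        rw [hx', hy']
      intro x hx y hy
      have := hsub (Set.smul_mem_smul_set (a := τ) hx) (Set.smul_mem_smul_set (a := τ) hy)
      exact smul_left_cancel τ this
    · right
      have huniv : τ • B = Set.univ := by
        apply Set.eq_univ_of_forall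
        intro x
        have : x ∈ AddSubgroup.toZModSubmodule p A := by rw [h]; exact Submodule.mem_top
        exact this
      rw [hBeq, huniv]
      exact Set.smul_set_univ

end Cfsg.Agent.S0733
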