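import Cfsg.Statements.S0734

set_option autoImplicit false
open Cfsg

namespace Cfsg.Agent.S0734

open MulAction
open scoped Pointwise

/-- Higman's criterion for primitivity: a transitive action on a finite set is primitive if and only if every non-trivial orbital graph (edges = images of a fixed pair of distinct points) is connected. -/
theorem result {G : Type*} [Group G] {Ω : Type*} [Finite Ω] [MulAction G Ω] [MulAction.IsPretransitive G Ω] [Nontrivial Ω] : MulAction.IsPreprimitive G Ω ↔ ∀ a b : Ω, a ≠ b → (SimpleGraph.fromRel fun x y : Ω => ∃ g : G, g • a = x ∧ g • b = y).Connected := by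
  constructor
  · intro hprim a b hab
    obtain ⟨Γ, hΓ⟩ : ∃ Γ : SimpleGraph Ω,
      Γ = SimpleGraph.fromRel fun x y : Ω => ∃ g : G, g • a = x ∧ g • b = y := ⟨_, rfl⟩
    rw [← hΓ]
    have hadj : ∀ (g : G) (x y : Ω), Γ.Adj x y → Γ.Adj (g • x) (g • y) := by
      intro g x y hxy
      rw [hΓ, SimpleGraph.fromRel_adj] at hxy ⊢
      obtain ⟨hne, h | h⟩ := hxy
      · refine ⟨fun h' => hne (smul_left_cancel g h'), Or.inl ?_⟩
        obtain ⟨k, hk1, hk2⟩ := h
        exact ⟨g * k, by rw [mul_smul, hk1], by rw [mul_smul, hk2]⟩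
      · refine ⟨fun h' => hne (smul_left_cancel g h'), Or.inr ?_⟩
        obtain ⟨k, hk1, hk2⟩ := h
        exact ⟨g * k, by rw [mul_smul, hk1], by rw [mul_smul, hk2]⟩
    have hreach : ∀ (g : G) (x y : Ω), Γ.Reachable x y → Γ.Reachable (g • x) (g • y) := by
      intro g x y hxy
      let f : Γ →g Γ := ⟨fun z => g • z, fun {x y} h => hadj g x y h⟩
      exact hxy.map f
    have hadjab : Γ.Adj a b := by
      rw [hΓ, SimpleGraph.fromRel_adj]
      exact ⟨hab, Or.inl ⟨1, one_smul _ _, one_smul _ _⟩⟩
    have hblock : IsBlock G {x | Γ.Reachable a x} := by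
      rw [isBlock_iff_smul_eq_of_mem]
      intro g x hx hgx
      simp only [Set.mem_setOf_eq] at hx hgx
      have h1 : Γ.Reachable a (g • a) := hgx.trans (hreach g a x hx).symm
      ext y
      constructor
      · rintro ⟨y', hy', rfl⟩
        exact h1.trans (hreach g a y' hy')
      · intro hy
        refine ⟨g⁻¹ • y, ?_, smul_inv_smul g y⟩
        have h2 : Γ.Reachable (g⁻¹ • a) a := by
          have := hreach g⁻¹ a (g • a) h1
          rw [inv_smul_smul] at this
          exact this
        exact h2.symm.trans (hreach g⁻¹ a y hy)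
    rcases hprim.isTrivialBlock_of_isBlock hblock with h | h
    · exfalso
      apply hab
      apply h
      · exact SimpleGraph.Reachable.refl a
      · exact hadjab.reachable
    · have hall : ∀ x, Γ.Reachable a x := by
        intro x
        have : x ∈ {x | Γ.Reachable a x} := by rw [h]; exact Set.mem_univ x
        exact this
      exact { preconnected := fun x y => (hall x).symm.trans (hall y), nonempty := inferInstance }
  · intro hconn
    refine { toIsPretransitive := inferInstance, isTrivialBlock_of_isBlock := ?_ }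
    intro B hB
    by_contra hnt
    unfold IsTrivialBlock at hnt
    push Not at hnt
    obtain ⟨hns, hnu⟩ := hnt
    obtain ⟨a, ha, b, hb, hab⟩ := hns
    have hc := hconn a b hab
    obtain ⟨Γ, hΓ⟩ : ∃ Γ : SimpleGraph Ω,
      Γ = SimpleGraph.fromRel fun x y : Ω => ∃ g : G, g • a = x ∧ g • b = y := ⟨_, rfl⟩
    rw [← hΓ] at hc
    have hstep : ∀ x y : Ω, Γ.Adj x y → x ∈ B → y ∈ B := by
      intro x y hxy hx
      rw [hΓ, SimpleGraph.fromRel_adj] at hxy
      obtain ⟨_, ⟨k, hk1, hk2⟩ | ⟨k, hk1, hk2⟩⟩ := hxy
      · have h1 : k • B = B := hB.smul_eq_of_mem ha (by rw [hk1]; exact hx)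
        rw [← h1, ← hk2]
        exact Set.smul_mem_smul_set hb
      · have h1 : k • B = B := hB.smul_eq_of_mem hb (by rw [hk2]; exact hx)
        rw [← h1, ← hk1]
        exact Set.smul_mem_smul_set ha
    apply hnu
    apply Set.eq_univ_of_forall
    intro x
    have hr : Γ.Reachable a x := hc.preconnected a x
    rw [SimpleGraph.reachable_iff_reflTransGen] at hr
    induction hr with
    | refl => exact ha
    | tail _ hyz ih => exact hstep _ _ hyz ih

end Cfsg.Agent.S0734
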