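import Cfsg.Statements.S0735

set_option autoImplicit false
open Cfsg

namespace Cfsg.Agent.S0735

open MulAction
open scoped Pointwise

theorem pair_map {α : Type*} [Fintype α] [DecidableEq α] (G : Subgroup (Equiv.Perm α))
    (h2 : MulAction.IsPretransitive G (Set.powersetCard α 2)) (a b c d : α) (hab : a ≠ b)
    (hcd : c ≠ d) : ∃ g : G, (g • a = c ∧ g • b = d) ∨ (g • a = d ∧ g • b = c) := by
  let s : Set.powersetCard α 2 := ⟨{a, b}, Finset.card_pair hab⟩
  let t : Set.powersetCard α 2 := ⟨{c, d}, Finset.card_pair hcd⟩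
  obtain ⟨g, hg⟩ := h2.exists_smul_eq s t
  refine ⟨g, ?_⟩
  have h1 : g • ({a, b} : Finset α) = {c, d} := by
    have := congrArg (fun x : Set.powersetCard α 2 => (x : Finset α)) hg
    have e := Set.powersetCard.coe_smul (g := g) (s := s)
    exact e.symm.trans this
  have ha : g • a ∈ ({c, d} : Finset α) := by
    rw [← h1]
    exact Finset.smul_mem_smul_finset (by simp)
  have hb : g • b ∈ ({c, d} : Finset α) := by
    rw [← h1]
    exact Finset.smul_mem_smul_finset (by simp)
  have hne : g • a ≠ g • b := fun h => hab (smul_left_cancel g h)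
  simp only [Finset.mem_insert, Finset.mem_singleton] at ha hb
  rcases ha with ha | ha <;> rcases hb with hb | hb
  · exact absurd (ha.trans hb.symm) hne
  · exact Or.inl ⟨ha, hb⟩
  · exact Or.inr ⟨ha, hb⟩
  · exact absurd (ha.trans hb.symm) hne

/-- A 2-homogeneous permutation group (transitive on 2-subsets) of even order is doubly transitive; a non-trivial 2-homogeneous group is primitive. -/
theorem result {α : Type*} [Fintype α] [DecidableEq α] (G : Subgroup (Equiv.Perm α)) (h2 : MulAction.IsPretransitive G (Set.powersetCard α 2)) (hα : 3 ≤ Fintype.card α) : (Even (Nat.card G) → MulAction.IsMultiplyPretransitive G α 2) ∧ (G ≠ ⊥ → MulAction.IsPreprimitive G α) := by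
  have hthird : ∀ a b : α, ∃ c : α, c ≠ a ∧ c ≠ b := by
    intro a b
    by_contra hcon
    push Not at hcon
    have hsub : (Finset.univ : Finset α) ⊆ {a, b} := by
      intro c _
      by_cases hca : c = a
      · simp [hca]
      · simp [hcon c hca]
    have h1 := Finset.card_le_card hsub
    have h2 : ({a, b} : Finset α).card ≤ 2 := Finset.card_le_two
    rw [Finset.card_univ] at h1
    omega
  constructor
  · intro heven
    have : Fact (Nat.Prime 2) := ⟨Nat.prime_two⟩
    obtain ⟨t, ht⟩ := exists_prime_orderOf_dvd_card' (G := G) 2 heven.two_dvd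
    have ht1 : t ≠ 1 := by
      intro h
      rw [h, orderOf_one] at ht
      omega
    have htt : t * t = 1 := by
      rw [← sq, ← ht]
      exact pow_orderOf_eq_one t
    obtain ⟨a, ha⟩ : ∃ a : α, t • a ≠ a := by
      by_contra hcon
      push Not at hcon
      apply ht1
      apply Subtype.ext
      apply Equiv.ext
      intro x
      exact hcon x
    obtain ⟨b, hb⟩ : ∃ b, b = t • a := ⟨_, rfl⟩
    have htb : t • b = a := by
      rw [hb, ← mul_smul, htt, one_smul]
    have hab : a ≠ b := by
      rw [hb]; exact fun h => ha h.symm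
    have key : ∀ x y : α, x ≠ y → ∃ g : G, g • x = a ∧ g • y = b := by
      intro x y hxy
      obtain ⟨g, hg | hg⟩ := pair_map G h2 x y a b hxy hab
      · exact ⟨g, hg⟩
      · refine ⟨t * g, ?_, ?_⟩
        · rw [mul_smul, hg.1, htb]
        · rw [mul_smul, hg.2, hb]
    rw [is_two_pretransitive_iff]
    intro x y x' y' hxy hxy'
    obtain ⟨g1, hg1x, hg1y⟩ := key x y hxy
    obtain ⟨g2, hg2x, hg2y⟩ := key x' y' hxy'
    refine ⟨g2⁻¹ * g1, ?_, ?_⟩
    · rw [mul_smul, hg1x, inv_smul_eq_iff, hg2x]
    · rw [mul_smul, hg1y, inv_smul_eq_iff, hg2y]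
  · intro _
    have htrans : IsPretransitive G α := by
      constructor
      intro a b
      by_contra hnot
      have hsymm : ∀ x y : α, (∃ g : G, g • x = y) → ∃ g : G, g • y = x := by
        rintro x y ⟨g, hg⟩
        exact ⟨g⁻¹, by rw [inv_smul_eq_iff, hg]⟩
      have htr : ∀ x y z : α, (∃ g : G, g • x = y) → (∃ g : G, g • y = z) → ∃ g : G, g • x = z := by
        rintro x y z ⟨g, hg⟩ ⟨g', hg'⟩
        exact ⟨g' * g, by rw [mul_smul, hg, hg']⟩
      have hab : a ≠ b := by
        rintro rfl
        exact hnot ⟨1, one_smul _ _⟩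
      obtain ⟨c, hca, hcb⟩ := hthird a b
      by_cases hc : ∃ g : G, g • c = a
      · obtain ⟨g, hg | hg⟩ := pair_map G h2 a c a b hca.symm hab
        · exact hnot (htr a c b (hsymm c a hc) ⟨g, hg.2⟩)
        · exact hnot ⟨g, hg.1⟩
      · obtain ⟨g, hg | hg⟩ := pair_map G h2 a b a c hab hca.symm
        · obtain ⟨g', hg' | hg'⟩ := pair_map G h2 b c b a hcb.symm hab.symm
          · exact hc ⟨g', hg'.2⟩
          · exact hnot (hsymm b a ⟨g', hg'.1⟩)
        · exact hc (hsymm a c ⟨g, hg.1⟩)
    refine { toIsPretransitive := htrans, isTrivialBlock_of_isBlock := ?_ }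
    intro B hB
    by_contra hnt
    unfold IsTrivialBlock at hnt
    push Not at hnt
    obtain ⟨hns, hnu⟩ := hnt
    obtain ⟨a, ha, b, hb, hab⟩ := hns
    obtain ⟨c, hc⟩ : ∃ c, c ∉ B := by
      by_contra hcon
      push Not at hcon
      exact hnu (Set.eq_univ_of_forall hcon)
    have hac : a ≠ c := by
      rintro rfl
      exact hc ha
    obtain ⟨g, hg | hg⟩ := pair_map G h2 a b a c hab hac
    · have h1 : g • B = B := hB.smul_eq_of_mem ha (by rw [hg.1]; exact ha)
      apply hc
      rw [← hg.2, ← h1]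
      exact Set.smul_mem_smul_set hb
    · have h1 : g • B = B := hB.smul_eq_of_mem hb (by rw [hg.2]; exact ha)
      apply hc
      rw [← hg.1, ← h1]
      exact Set.smul_mem_smul_set ha

end Cfsg.Agent.S0735
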