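import Cfsg.Statements.S0739
import Cfsg.Agent.Lib.Helper3.ZassCount

set_option autoImplicit false
set_option linter.style.haveILetI false
set_option linter.unusedSectionVars false
open Cfsg

namespace Cfsg.Agent.S0739

open MulAction
open Cfsg.Agent.Lib.Helper97.Zass
open Cfsg.Agent.Lib.Helper3.ZassOdd
open scoped commutatorElement

/-- A subgroup containing a Sylow `q`-subgroup for every prime `q` is the whole group. -/
theorem eq_top_of_sylow_le {E : Type*} [Group E] [Finite E] (C : Subgroup E)
    (h : ∀ q : ℕ, ∀ _ : Fact q.Prime, ∀ Q : Sylow q E, (Q : Subgroup E) ≤ C) : C = ⊤ := by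
  have hC0 : Nat.card C ≠ 0 := Nat.card_pos.ne'
  have hE0 : Nat.card E ≠ 0 := Nat.card_pos.ne'
  have hdvd : Nat.card E ∣ Nat.card C := by
    rw [← Nat.factorization_prime_le_iff_dvd hE0 hC0]
    intro q hq
    haveI := Fact.mk hq
    have Q : Sylow q E := default
    have h1 : Nat.card Q ∣ Nat.card C := Subgroup.card_dvd_of_le (h q ‹_› Q)
    rw [Sylow.card_eq_multiplicity] at h1
    exact (hq.pow_dvd_iff_le_factorization hC0).mp h1
  have hle : Nat.card C ≤ Nat.card E := Subgroup.card_le_card_group C
  have heq : Nat.card C = Nat.card E :=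
    le_antisymm hle (Nat.le_of_dvd Nat.card_pos hdvd)
  exact Subgroup.eq_top_of_card_eq C heq

variable {G Ω : Type*} [Group G] [Finite G] [MulAction G Ω] [Fintype Ω]

/-- Under the hypothesis that `G` has no normal `q`-complement for the prime divisors `q` of the
odd order of the two point stabiliser `E`, the group `E` lies in the commutator subgroup. -/
theorem le_commutator (hZ : Cfsg.IsZassenhausGroup G Ω) {a b : Ω} (hab : a ≠ b)
    (hodd : Odd (Nat.card (twoStab G a b)))
    (hnil : ∀ q : ℕ, q.Prime → q ∣ Nat.card (twoStab G a b) →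
      ¬ ∃ N : Subgroup G, N.Normal ∧ N.index = q ^ (Nat.card G).factorization q) :
    twoStab G a b ≤ commutator G := by
  classical
  have hy := hyp_of_zass hZ
  haveI := isZGroup_twoStab hy hab hodd
  have hcop := coprime_card_index hy hab hodd
  have htop : (commutator G).subgroupOf (twoStab G a b) = ⊤ := by
    apply eq_top_of_sylow_le
    intro q hq Q
    by_cases hQ : (Q : Subgroup (twoStab G a b)) = ⊥
    · rw [hQ]; exact bot_le
    -- `q` divides the order of `E`
    have hqdvd : q ∣ Nat.card (twoStab G a b) := by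
      have h1 : Nat.card Q ∣ Nat.card (twoStab G a b) := Subgroup.card_subgroup_dvd_card _
      obtain ⟨k, hk⟩ := Q.2.exists_card_eq
      have hk0 : k ≠ 0 := by
        intro h
        rw [h, pow_zero] at hk
        exact hQ (Subgroup.card_eq_one.mp hk)
      rw [hk] at h1
      exact (dvd_pow_self q hk0).trans h1
    have hfac : (Nat.card (twoStab G a b)).factorization q = (Nat.card G).factorization q := by
      have h1 := Subgroup.card_mul_index (twoStab G a b)
      have hidx0 : (twoStab G a b).index ≠ 0 := Subgroup.index_ne_zero_of_finite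
      have hE0 : Nat.card (twoStab G a b) ≠ 0 := Nat.card_pos.ne'
      rw [← h1, Nat.factorization_mul hE0 hidx0]
      have hnd : ¬ q ∣ (twoStab G a b).index := by
        intro hd
        have := Nat.dvd_gcd hqdvd hd
        rw [hcop] at this
        exact hq.out.one_lt.ne' (Nat.dvd_one.mp this)
      rw [Finsupp.add_apply, Nat.factorization_eq_zero_of_not_dvd hnd, add_zero]
    set Q' : Subgroup G := (Q : Subgroup (twoStab G a b)).map (twoStab G a b).subtype with hQ'
    have hcardQ' : Nat.card Q' = q ^ (Nat.card G).factorization q := by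
      rw [hQ', Subgroup.card_map_of_injective (Subgroup.subtype_injective _),
        Sylow.card_eq_multiplicity, hfac]
    let P : Sylow q G := Sylow.ofCard Q' hcardQ'
    have hPcoe : (P : Subgroup G) = Q' := Sylow.coe_ofCard Q' hcardQ'
    haveI : IsCyclic Q := inferInstance
    haveI : IsCyclic (P : Subgroup G) := by
      have e : (Q : Subgroup (twoStab G a b)) ≃* Q' :=
        Subgroup.equivMapOfInjective _ _ (Subgroup.subtype_injective _)
      have : IsCyclic Q' := isCyclic_of_surjective e e.surjective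
      rw [hPcoe]; exact this
    haveI : IsCyclic P := ‹IsCyclic (P : Subgroup G)›
    rcases Sylow.normalizer_le_centralizer_or_le_commutator P with hP | hP
    · exfalso
      have hcompl := MonoidHom.ker_transferSylow_isComplement' P hP
      have hidx : (MonoidHom.transferSylow P hP).ker.index = Nat.card P :=
        hcompl.symm.index_eq_card
      rw [Sylow.card_eq_multiplicity] at hidx
      exact hnil q hq.out hqdvd ⟨_, MonoidHom.normal_ker _, hidx⟩
    · intro x hx
      rw [Subgroup.mem_subgroupOf]
      apply hP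
      show (x : G) ∈ (P : Subgroup G)
      rw [hPcoe, hQ']
      exact Subgroup.mem_map_of_mem _ hx
  intro x hx
  have : (⟨x, hx⟩ : twoStab G a b) ∈ (commutator G).subgroupOf (twoStab G a b) := by
    rw [htop]; exact Subgroup.mem_top _
  exact Subgroup.mem_subgroupOf.mp this

/-- transfer: every element of `E` lies in the focal subgroup of `E` -/
theorem le_focal (hZ : Cfsg.IsZassenhausGroup G Ω) {a b : Ω} (hab : a ≠ b)
    (hodd : Odd (Nat.card (twoStab G a b)))
    (hnil : ∀ q : ℕ, q.Prime → q ∣ Nat.card (twoStab G a b) →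
      ¬ ∃ N : Subgroup G, N.Normal ∧ N.index = q ^ (Nat.card G).factorization q) :
    twoStab G a b ≤ (twoStab G a b).focalSubgroup := by
  have hy := hyp_of_zass hZ
  intro x hx
  have hxc : x ∈ commutator G := le_commutator hZ hab hodd hnil hx
  have hker : commutator G ≤ (twoStab G a b).transferFocal.ker := by
    rw [commutator_def, Subgroup.commutator_le]
    intro g₁ _ g₂ _
    rw [MonoidHom.mem_ker, map_commutatorElement, commutatorElement_eq_one_iff_mul_comm]
    exact IsMulCommutative.is_comm.comm _ _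
  have h1 : (twoStab G a b).transferFocal x = 1 := hker hxc
  have h2 := (twoStab G a b).transferFocal_eq_pow ⟨x, hx⟩
  rw [h1] at h2
  have h4 : ((⟨x, hx⟩ : twoStab G a b) : twoStab G a b ⧸ (twoStab G a b).focalSubgroupOf) ^
      Nat.card (twoStab G a b) = 1 := by
    rw [← QuotientGroup.mk_pow, pow_card_eq_one', QuotientGroup.mk_one]
  have h5 : orderOf ((⟨x, hx⟩ : twoStab G a b) : twoStab G a b ⧸ (twoStab G a b).focalSubgroupOf)
      = 1 := by
    have d1 := orderOf_dvd_of_pow_eq_one h2.symm
    have d2 := orderOf_dvd_of_pow_eq_one h4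
    have := Nat.dvd_gcd d2 d1
    rw [coprime_card_index hy hab hodd] at this
    exact Nat.dvd_one.mp this
  rw [orderOf_eq_one_iff, QuotientGroup.eq_one_iff, Subgroup.focalSubgroupOf_def,
    Subgroup.mem_subgroupOf] at h5
  exact h5

/-- `E` is abelian (given that it lies in its focal subgroup). -/
theorem comm_of_focal (hZ : Cfsg.IsZassenhausGroup G Ω) {a b : Ω} (hab : a ≠ b)
    (hodd : Odd (Nat.card (twoStab G a b)))
    (hfoc : twoStab G a b ≤ (twoStab G a b).focalSubgroup) :
    ∀ x ∈ twoStab G a b, ∀ y ∈ twoStab G a b, x * y = y * x := by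
  have hTI := (Cfsg.Agent.S0879.result hZ hab).1
  haveI := isZGroup_normalizer hZ hab hodd
  have hle : twoStab G a b ≤ ⁅Subgroup.normalizer ((twoStab G a b : Subgroup G) : Set G),
      Subgroup.normalizer ((twoStab G a b : Subgroup G) : Set G)⁆ :=
    hfoc.trans (focal_le_commutator_normalizer hTI)
  have hcyc : IsCyclic (commutator (Subgroup.normalizer ((twoStab G a b : Subgroup G) : Set G))) :=
    IsZGroup.isCyclic_commutator _
  letI := hcyc.commGroup
  intro x hx y hy'
  have hx' := hle hx
  have hy'' := hle hy'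
  rw [← Subgroup.map_subtype_commutator, Subgroup.mem_map] at hx' hy''
  obtain ⟨x', hx'c, rfl⟩ := hx'
  obtain ⟨y', hy'c, rfl⟩ := hy''
  have h1 := mul_comm (⟨x', hx'c⟩ : commutator (Subgroup.normalizer
    ((twoStab G a b : Subgroup G) : Set G))) ⟨y', hy'c⟩
  have h2 : x' * y' = y' * x' := congrArg Subtype.val h1
  have h3 : ((x' * y' : Subgroup.normalizer ((twoStab G a b : Subgroup G) : Set G)) : G) =
      ((y' * x' : Subgroup.normalizer ((twoStab G a b : Subgroup G) : Set G)) : G) := by
    rw [h2]
  exact h3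

/-- an involution interchanging `a` and `b` inverts the two point stabiliser -/
theorem inv_of_focal (hZ : Cfsg.IsZassenhausGroup G Ω) {a b : Ω} (hab : a ≠ b)
    (hodd : Odd (Nat.card (twoStab G a b)))
    (hfoc : twoStab G a b ≤ (twoStab G a b).focalSubgroup) {t : G} (hta : t • a = b)
    (htb : t • b = a) (ht : t * t = 1) : ∀ y ∈ twoStab G a b, t * y * t⁻¹ = y⁻¹ := by
  have hy := hyp_of_zass hZ
  have hTI := (Cfsg.Agent.S0879.result hZ hab).1
  have hcomm := comm_of_focal hZ hab hodd hfoc
  have htinv : t⁻¹ = t := inv_eq_of_mul_eq_one_left ht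
  obtain ⟨x₀, hx₀, hx₀1⟩ := exists_ne_one_mem_twoStab hy hab
  have hle : (twoStab G a b).focalSubgroup ≤ invSub t (twoStab G a b) hcomm := by
    rw [Subgroup.focalSubgroup_def, Subgroup.closure_le]
    rintro g ⟨hg, x, hx, u, rfl⟩
    rcases focal_gen_mem hTI hx hg with h | h
    · rw [h, commutatorElement_one_left]
      exact Subgroup.one_mem _
    · have hpres := Cfsg.Agent.S0879.preserve_of_conj_mem hy.h3 hab hx₀1 hx₀
        ((Subgroup.mem_normalizer_iff.mp h x₀).mp hx₀)
      rcases hpres with ⟨hua, hub⟩ | ⟨hua, hub⟩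
      · have hu : u ∈ twoStab G a b := mem_twoStab.mpr ⟨hua, hub⟩
        have : ⁅x, u⁆ = 1 := by
          rw [commutatorElement_eq_one_iff_mul_comm]; exact hcomm x hx u hu
        rw [this]; exact Subgroup.one_mem _
      · have hx' : t⁻¹ * u ∈ twoStab G a b := by
          rw [mem_twoStab, mul_smul, mul_smul, hua, hub, htinv, htb, hta]
          exact ⟨rfl, rfl⟩
        have hxinv := Subgroup.inv_mem _ hx
        have hc : (t⁻¹ * u) * x⁻¹ * (t⁻¹ * u)⁻¹ = x⁻¹ := by
          rw [hcomm _ hx' _ hxinv]; group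
        have hw : ⁅x, u⁆ = x * t * x⁻¹ * t⁻¹ := by
          rw [commutatorElement_def]
          calc x * u * x⁻¹ * u⁻¹ = x * t * ((t⁻¹ * u) * x⁻¹ * (t⁻¹ * u)⁻¹) * t⁻¹ := by group
            _ = x * t * x⁻¹ * t⁻¹ := by rw [hc]
        refine ⟨hg, ?_⟩
        rw [hw, htinv]
        calc t * (x * t * x⁻¹ * t) * t = t * x * t * x⁻¹ * (t * t) := by group
          _ = t * x * t * x⁻¹ := by rw [ht, mul_one]
          _ = (x * t * x⁻¹ * t)⁻¹ := by
            rw [mul_inv_rev, mul_inv_rev, mul_inv_rev, inv_inv, htinv]; group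
  intro y hy'
  exact (hle (hfoc hy')).2

/-- In a finite Zassenhaus group whose two-point stabiliser `H = G_{a,b}` has odd order `d`, and which has no normal `q`-complement for any prime `q ∣ d`, `H` is cyclic, `C_G(H) = H`, and every element swapping `a` and `b` inverts each element of `H`. -/
theorem result {G Ω : Type*} [Group G] [Finite G] [MulAction G Ω] [Fintype Ω] (hZ : Cfsg.IsZassenhausGroup G Ω) {a b : Ω} (hab : a ≠ b) (hodd : Odd (Nat.card ↥(MulAction.stabilizer G a ⊓ MulAction.stabilizer G b))) (hnil : ∀ q : ℕ, q.Prime → q ∣ Nat.card ↥(MulAction.stabilizer G a ⊓ MulAction.stabilizer G b) → ¬ ∃ N : Subgroup G, N.Normal ∧ N.index = q ^ (Nat.card G).factorization q) : IsCyclic ↥(MulAction.stabilizer G a ⊓ MulAction.stabilizer G b) ∧ Subgroup.centralizer ((MulAction.stabilizer G a ⊓ MulAction.stabilizer G b : Subgroup G) : Set G) = MulAction.stabilizer G a ⊓ MulAction.stabilizer G b ∧ ∀ s : G, s • a = b → s • b = a → ∀ h ∈ MulAction.stabilizer G a ⊓ MulAction.stabilizer G b, s * h * s⁻¹ = h⁻¹ := by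
  classical
  have hy := hyp_of_zass hZ
  have hodd' : Odd (Nat.card (twoStab G a b)) := hodd
  have hfoc := le_focal hZ hab hodd' hnil
  have hcomm := comm_of_focal hZ hab hodd' hfoc
  haveI hZG : IsZGroup (twoStab G a b) := isZGroup_twoStab hy hab hodd'
  -- inversion by arbitrary swapping elements
  have hinv : ∀ s : G, s • a = b → s • b = a → ∀ h ∈ twoStab G a b, s * h * s⁻¹ = h⁻¹ := by
    intro s hsa hsb h hh
    obtain ⟨k, hk⟩ := hodd'
    have hss : s * s ∈ twoStab G a b := by
      rw [mem_twoStab, mul_smul, mul_smul, hsa, hsb, hsa]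
      exact ⟨rfl, rfl⟩
    have hpow : (s * s) ^ (2 * k + 1) = 1 := by
      have h1 : (⟨s * s, hss⟩ : twoStab G a b) ^ Nat.card (twoStab G a b) = 1 := pow_card_eq_one'
      have h2 := congrArg Subtype.val h1
      rw [Subgroup.coe_pow, hk] at h2
      exact h2
    set t := s ^ (2 * k + 1) with ht
    have htt : t * t = 1 := by
      rw [ht, ← (Commute.refl s).mul_pow]; exact hpow
    obtain ⟨hta, htb⟩ := pow_odd_smul hsa hsb k
    rw [← ht] at hta htb
    have htinv : t⁻¹ = t := inv_eq_of_mul_eq_one_left htt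
    have he : t⁻¹ * s ∈ twoStab G a b := by
      rw [mem_twoStab, mul_smul, mul_smul, hsa, hsb, htinv, hta, htb]
      exact ⟨rfl, rfl⟩
    have h1 := inv_of_focal hZ hab (by rw [hk]; exact ⟨k, rfl⟩) hfoc hta htb htt h hh
    have h2 : (t⁻¹ * s) * h * (t⁻¹ * s)⁻¹ = h := by
      rw [hcomm _ he _ hh]; group
    calc s * h * s⁻¹ = t * ((t⁻¹ * s) * h * (t⁻¹ * s)⁻¹) * t⁻¹ := by group
      _ = h⁻¹ := by rw [h2, h1]
  refine ⟨?_, ?_, hinv⟩
  · -- cyclic
    letI : CommGroup (twoStab G a b) :=
      { (inferInstance : Group (twoStab G a b)) with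
        mul_comm := fun x y => Subtype.ext (hcomm x x.2 y y.2) }
    haveI : Group.IsNilpotent (twoStab G a b) := CommGroup.isNilpotent
    exact inferInstance
  · -- self-centralising
    apply le_antisymm
    · intro g hg
      obtain ⟨x₀, hx₀, hx₀1⟩ := exists_ne_one_mem_twoStab hy hab
      have hgx : g * x₀ * g⁻¹ = x₀ := by
        have := hg x₀ hx₀
        rw [← this]; group
      have hpres := Cfsg.Agent.S0879.preserve_of_conj_mem hy.h3 hab hx₀1 hx₀
        (by rw [hgx]; exact hx₀)
      rcases hpres with ⟨hga, hgb⟩ | ⟨hga, hgb⟩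
      · exact mem_twoStab.mpr ⟨hga, hgb⟩
      · exfalso
        have h1 := hinv g hga hgb x₀ hx₀
        rw [hgx] at h1
        -- `x₀ = x₀⁻¹`, so `x₀ ^ 2 = 1`, impossible in a group of odd order
        have hsq : x₀ * x₀ = 1 := by
          have := congrArg (fun t => t * x₀) h1
          simpa using this
        exact inv_fix_unique hodd' hx₀1 hsq (mem_twoStab.mp hx₀).1 (mem_twoStab.mp hx₀).2
    · intro g hg
      rw [Subgroup.mem_centralizer_iff]
      intro x hx
      exact hcomm x hx g hg

end Cfsg.Agent.S0739
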