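import Cfsg.Statements.S0742
import Cfsg.Agent.Lib.Helper3.ZT14
import Cfsg.Agent.S0346
import Cfsg.Agent.S0738
import Cfsg.Agent.S0741

set_option autoImplicit false
open Cfsg

namespace Cfsg.Agent.S0742

/-- A finite Zassenhaus group of degree `n + 1` with two-point stabilisers of even order `d` satisfying `2d ≤ n - 1` has `n = p^f` for an odd prime `p` and is isomorphic to `PSL(2, p^f)`. -/
theorem result {G Ω : Type*} [Group G] [Finite G] [MulAction G Ω] [Fintype Ω] (hZ : Cfsg.IsZassenhausGroup G Ω) {a b : Ω} (hab : a ≠ b) (heven : Even (Nat.card ↥(MulAction.stabilizer G a ⊓ MulAction.stabilizer G b))) (hd : 2 * Nat.card ↥(MulAction.stabilizer G a ⊓ MulAction.stabilizer G b) ≤ Fintype.card Ω - 2) : ∃ (p f : ℕ) (K : Type) (_ : Field K) (_ : Fintype K), p.Prime ∧ p ≠ 2 ∧ Fintype.card K = p ^ f ∧ Fintype.card Ω = p ^ f + 1 ∧ Nonempty (G ≃* Matrix.ProjectiveSpecialLinearGroup (Fin 2) K) := by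
  classical
  have hy := Cfsg.Agent.Lib.Helper97.Zass.hyp_of_zass hZ
  have h3 : 3 ≤ Fintype.card Ω := by
    obtain ⟨x, y, z, hxy, hyz, hxz⟩ := hy.three
    have : 2 < Fintype.card Ω := Fintype.two_lt_card_iff.mpr ⟨x, y, z, hxy, hxz, hyz⟩
    omega
  have hge := Cfsg.Agent.S0741.result hZ hab heven
  obtain ⟨F, hFle, hFn, -, hreg, -⟩ := Cfsg.Agent.S0346.exists_kernel_data hZ hab
  obtain ⟨hFab, -⟩ := Cfsg.Agent.S0738.result hZ hab hge F hFle hFn hreg
  have hcomm : ∀ u ∈ F, ∀ v ∈ F, u * v = v * u := fun u hu v hv =>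
    congrArg Subtype.val (hFab.is_comm.comm (⟨u, hu⟩ : F) ⟨v, hv⟩)
  have h2e : 2 * Nat.card (Cfsg.Agent.Lib.Helper3.ZassOdd.twoStab G a b) + 2 = Fintype.card Ω := by
    have h1 : Nat.card (Cfsg.Agent.Lib.Helper3.ZassOdd.twoStab G a b) =
      Nat.card ↥(MulAction.stabilizer G a ⊓ MulAction.stabilizer G b) := rfl
    omega
  obtain ⟨K, fK, ftK, hodd, hcard, hiso⟩ :=
    Cfsg.Agent.Lib.Helper3.ZT.psl_case hZ hab hFle hFn hcomm hreg h2e
  letI := fK
  letI := ftK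
  obtain ⟨p, hp⟩ := CharP.exists K
  obtain ⟨n, hpp, hn⟩ := FiniteField.card K p
  refine ⟨p, n, K, fK, ftK, hpp, ?_, hn, ?_, hiso⟩
  · intro hp2
    rw [hn, hp2] at hodd
    have h4 : Even (2 ^ (n : ℕ)) := (Nat.even_pow' n.ne_zero).mpr even_two
    exact (Nat.not_odd_iff_even.mpr h4) hodd
  · rw [← hn]
    exact hcard.symm

end Cfsg.Agent.S0742
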