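import Cfsg.Statements.S0744
import Cfsg.Agent.S0743

set_option autoImplicit false
open Cfsg

namespace Cfsg.Agent.S0744

open MulAction

/-- If for some `k > 1` the pointwise stabilisers of all `(k-1)`-subsets have the same order `> 1` and those of all `k`-subsets have the same order, then the group is `(k-1)`-transitive. -/
theorem result {α : Type*} [Fintype α] [DecidableEq α] (G : Subgroup (Equiv.Perm α)) {k : ℕ} (hk : 1 < k) (hkn : k ≤ Fintype.card α) (l m : ℕ) (hl : 1 < l) (hkm1 : ∀ s : Finset α, s.card = k - 1 → Nat.card (fixingSubgroup G (s : Set α)) = l) (hkm : ∀ s : Finset α, s.card = k → Nat.card (fixingSubgroup G (s : Set α)) = m) : MulAction.IsMultiplyPretransitive G α (k - 1) := by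
  classical
  have hmemfix : ∀ (s : Finset α) (g : G), g ∈ fixingSubgroup G (s : Set α) ↔ ∀ d ∈ s, g • d = d := by
    intro s g
    rw [mem_fixingSubgroup_iff]
    simp
  -- an initial (k-1)-subset
  obtain ⟨s0, hs0⟩ : ∃ s0 : Finset α, s0.card = k - 1 := by
    obtain ⟨s0, _, hs0⟩ := Finset.exists_subset_card_eq (s := (Finset.univ : Finset α))
      (n := k - 1) (by rw [Finset.card_univ]; omega)
    exact ⟨s0, hs0⟩
  -- nontrivial element
  have hl0 := hkm1 s0 hs0
  have hnontriv : ∃ g : G, g ∈ fixingSubgroup G (s0 : Set α) ∧ g ≠ 1 := by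
    by_contra hcon
    push Not at hcon
    have hbot : fixingSubgroup G (s0 : Set α) = ⊥ := by
      rw [Subgroup.eq_bot_iff_forall]
      exact hcon
    rw [hbot, Subgroup.card_bot] at hl0
    omega
  obtain ⟨g, hg, hg1⟩ := hnontriv
  obtain ⟨c, hc⟩ : ∃ c : α, g • c ≠ c := by
    by_contra hcon
    push Not at hcon
    apply hg1
    apply Subtype.ext
    apply Equiv.ext
    intro x
    exact hcon x
  have hcs0 : c ∉ s0 := by
    intro hcs
    exact hc ((hmemfix s0 g).mp hg c hcs)
  have hm0 := hkm (insert c s0) (by rw [Finset.card_insert_of_notMem hcs0]; omega)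
  have hle : fixingSubgroup G ((insert c s0 : Finset α) : Set α) ≤ fixingSubgroup G (s0 : Set α) := by
    intro x hx
    rw [hmemfix] at hx ⊢
    intro d hd
    exact hx d (Finset.mem_insert_of_mem hd)
  have hmpos : 0 < m := by
    rw [← hm0]
    exact Nat.card_pos
  have hml : m < l := by
    have h1 : m ≤ l := by
      rw [← hm0, ← hl0]
      exact Subgroup.card_le_of_le hle
    rcases Nat.lt_or_ge m l with h2 | h2
    · exact h2
    · exfalso
      have heq := Subgroup.eq_of_le_of_card_ge hle (by rw [hm0, hl0]; exact h2)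
      rw [← heq] at hg
      rw [hmemfix] at hg
      exact hc (hg c (Finset.mem_insert_self c s0))
  have hndvd : ¬ l ∣ m := fun hd => absurd (Nat.le_of_dvd hmpos hd) (by omega)
  obtain ⟨p, hp, hpfac⟩ : ∃ p : ℕ, p.Prime ∧ m.factorization p < l.factorization p := by
    by_contra hcon
    push Not at hcon
    exact hndvd ((Nat.factorization_prime_le_iff_dvd (by omega) (by omega)).mp hcon)
  have : Fact p.Prime := ⟨hp⟩
  apply Cfsg.Agent.S0743.result G hp (by omega) (by omega)
  intro s hs
  have hls := hkm1 s hs
  obtain ⟨P0⟩ : Nonempty (Sylow p (fixingSubgroup G (s : Set α))) := inferInstance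
  have hP0card : Nat.card P0 = p ^ l.factorization p := by
    rw [Sylow.card_eq_multiplicity, hls]
  refine ⟨(P0 : Subgroup (fixingSubgroup G (s : Set α))).map (fixingSubgroup G (s : Set α)).subtype,
    P0.isPGroup'.map _, ?_⟩
  have hPcard : Nat.card ((P0 : Subgroup (fixingSubgroup G (s : Set α))).map
      (fixingSubgroup G (s : Set α)).subtype) = p ^ l.factorization p := by
    rw [Subgroup.card_map_of_injective (Subgroup.subtype_injective _)]
    exact hP0card
  have hPle : (P0 : Subgroup (fixingSubgroup G (s : Set α))).map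
      (fixingSubgroup G (s : Set α)).subtype ≤ fixingSubgroup G (s : Set α) := by
    rintro x ⟨y, _, rfl⟩
    exact y.2
  ext x
  constructor
  · intro hx
    by_contra hxs
    have hxs' : x ∉ s := hxs
    have hle2 : (P0 : Subgroup (fixingSubgroup G (s : Set α))).map
      (fixingSubgroup G (s : Set α)).subtype ≤ fixingSubgroup G ((insert x s : Finset α) : Set α) := by
      intro y hy
      rw [hmemfix]
      intro d hd
      rcases Finset.mem_insert.mp hd with rfl | hd
      · exact hx ⟨y, hy⟩
      · exact (hmemfix s y).mp (hPle hy) d hd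
    have hdvd := Subgroup.card_dvd_of_le hle2
    rw [hPcard, hkm (insert x s) (by rw [Finset.card_insert_of_notMem hxs']; omega)] at hdvd
    have := (hp.pow_dvd_iff_le_factorization (by omega)).mp hdvd
    omega
  · intro hx g
    exact (hmemfix s g).mp (hPle g.2) x hx

end Cfsg.Agent.S0744
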