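import Cfsg.Statements.S0745
import Cfsg.Agent.Lib.Helper61.LW10
import Cfsg.Agent.Lib.Helper61.LW13

set_option autoImplicit false
open Cfsg

namespace Cfsg.Agent.S0745

/-- Let `G` have degree `n` and `3 ≤ k ≤ n`; suppose `G` is `(k-2)`-transitive but not `(k-1)`-transitive, and is `(k-1)`-homogeneous and `k`-homogeneous. Then `k = n` and `G` is the alternating group, or `n = 5, k = 4, |G| = 20`, or `n = 6, k = 5, |G| = 120`, or `n = 9, k = 5, |G| ∈ {504, 1512}`. -/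
theorem result {α : Type*} [Fintype α] [DecidableEq α] (G : Subgroup (Equiv.Perm α)) {k : ℕ} (hk : 3 ≤ k) (hkn : k ≤ Fintype.card α) (ht : MulAction.IsMultiplyPretransitive G α (k - 2)) (hnt : ¬ MulAction.IsMultiplyPretransitive G α (k - 1)) (hh1 : MulAction.IsPretransitive G (Set.powersetCard α (k - 1))) (hh : MulAction.IsPretransitive G (Set.powersetCard α k)) : (k = Fintype.card α ∧ G = alternatingGroup α) ∨ (Fintype.card α = 5 ∧ k = 4 ∧ Nat.card G = 20) ∨ (Fintype.card α = 6 ∧ k = 5 ∧ Nat.card G = 120) ∨ (Fintype.card α = 9 ∧ k = 5 ∧ (Nat.card G = 504 ∨ Nat.card G = 1512)) := by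
  have hE : Cfsg.Agent.Lib.Helper61.Miller.Ext G (k - 2) :=
    Cfsg.Agent.Lib.Helper61.Miller.ext_of_pretransitive G (k - 2) ht (by omega)
  have hnE : ¬ Cfsg.Agent.Lib.Helper61.Miller.Ext G (k - 2 + 1) := by
    intro hE'
    apply hnt
    have := Cfsg.Agent.Lib.Helper61.KAlt.pretransitive_of_ext G (k - 2 + 1) hE'
    rwa [show k - 2 + 1 = k - 1 by omega] at this
  have hH1 : Cfsg.Agent.Lib.Helper61.LW.Hom G (k - 2 + 1) := by
    rw [show k - 2 + 1 = k - 1 by omega]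
    exact Cfsg.Agent.Lib.Helper61.LW.hom_of_pretrans hh1
  have hH2 : Cfsg.Agent.Lib.Helper61.LW.Hom G (k - 2 + 2) := by
    rw [show k - 2 + 2 = k by omega]
    exact Cfsg.Agent.Lib.Helper61.LW.hom_of_pretrans hh
  rcases Cfsg.Agent.Lib.Helper61.LW.lw_full (t := k - 2) (by omega) hE hnE hH1 hH2 (by omega) with
    ⟨h1, h2⟩ | ⟨h0, h1, h2⟩ | ⟨h0, h1, h2⟩ | ⟨h0, h1, h2⟩
  · exact Or.inl ⟨by omega, h2⟩
  · exact Or.inr (Or.inl ⟨h1, by omega, h2⟩)
  · exact Or.inr (Or.inr (Or.inl ⟨h1, by omega, h2⟩))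
  · exact Or.inr (Or.inr (Or.inr ⟨h1, by omega, h2⟩))

end Cfsg.Agent.S0745
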