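import Cfsg.Statements.S0748
import Cfsg.Agent.Lib.Helper61.HC12
import Cfsg.Agent.Lib.Helper61.LW10

set_option autoImplicit false
open Cfsg

namespace Cfsg.Agent.S0748

open Cfsg.Agent.Lib.Helper61.Miller Cfsg.Agent.Lib.Helper61.KAlt Cfsg.Agent.Lib.Helper61.LW
  Cfsg.Agent.Lib.Helper61.HC

/-- The Livingstone–Wagner Theorem: a `k`-homogeneous permutation group of degree `n` with `10 ≤ 2k ≤ n` is `k`-transitive. -/
theorem result {α : Type*} [Fintype α] [DecidableEq α] (G : Subgroup (Equiv.Perm α)) {k : ℕ} (hk : 5 ≤ k) (hkn : 2 * k ≤ Fintype.card α) (hh : MulAction.IsPretransitive G (Set.powersetCard α k)) : MulAction.IsMultiplyPretransitive G α k := by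
  classical
  have hH : Hom G k := hom_of_pretrans hh
  have hE : Ext G (k - 1) := lw_first k (by omega) hkn hH
  apply pretransitive_of_ext G k
  by_contra hnE
  have hk1 : k - 1 + 1 = k := by omega
  have hnE' : ¬ Ext G (k - 1 + 1) := by rw [hk1]; exact hnE
  have hH' : Hom G (k - 1 + 1) := by rw [hk1]; exact hH
  obtain ⟨hNT, q, hq, hqodd, horb⟩ :=
    hallconf (t := k - 1) (by omega) hE hnE' hH' (by omega)
  have S : Setting G (k - 1) q := ⟨by omega, hE, hNT, hq, hqodd, horb⟩
  exact S.hall_core (by omega)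

end Cfsg.Agent.S0748
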