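import Cfsg.Statements.S0749
import Cfsg.Agent.Lib.Helper8.WittAlt

set_option autoImplicit false
open Cfsg

namespace Cfsg.Agent.S0749

/-- Witt's Lemma for alternating forms. If B is a non-degenerate alternating bilinear form on a finite-dimensional vector space V (over any field) and φ is a linear equivalence between subspaces X and Y of V preserving B, then φ extends to a B-preserving linear automorphism of V. -/
theorem result {F V : Type*} [Field F] [AddCommGroup V] [Module F V] [FiniteDimensional F V] (B : LinearMap.BilinForm F V) (hB : B.Nondegenerate) (hA : B.IsAlt) (X Y : Submodule F V) (φ : X ≃ₗ[F] Y) (hφ : ∀ x x' : X, B (φ x : V) (φ x' : V) = B (x : V) (x' : V)) : ∃ g : V ≃ₗ[F] V, (∀ u v : V, B (g u) (g v) = B u v) ∧ ∀ x : X, g (x : V) = (φ x : V) := by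
  classical
  let b := Module.finBasis F X
  have hx : LinearIndependent F (fun i => ((b i : X) : V)) :=
    b.linearIndependent.map' X.subtype (Submodule.ker_subtype X)
  have hy : LinearIndependent F (fun i => ((φ (b i) : Y) : V)) :=
    (b.map φ).linearIndependent.map' Y.subtype (Submodule.ker_subtype Y)
  obtain ⟨g, hg1, hg2⟩ := Cfsg.Agent.Lib.Helper8.witt_family B hB hA _ _ _ hx hy
    (fun i j => hφ (b i) (b j))
  refine ⟨g, hg1, ?_⟩
  have heq : (g : V →ₗ[F] V).comp X.subtype = Y.subtype.comp (φ : X →ₗ[F] Y) := by
    apply b.ext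
    intro i
    simp only [LinearMap.comp_apply, Submodule.subtype_apply, LinearEquiv.coe_coe]
    exact hg2 i
  intro x
  have := congrArg (fun L : X →ₗ[F] V => L x) heq
  simpa using this

end Cfsg.Agent.S0749
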