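import Cfsg.Statements.S0752

set_option autoImplicit false
open Cfsg

namespace Cfsg.Agent.S0752

open Module

theorem main_aux {F : Type*} [Field F] :
    ∀ (d : ℕ) (V : Type*) [AddCommGroup V] [Module F V] [FiniteDimensional F V]
      (B : LinearMap.BilinForm F V), B.IsAlt → Module.finrank F V = d →
      ∃ (m k : ℕ) (e f : Fin m → V) (r : Fin k → V),
        (∀ i j, B (e i) (f j) = if i = j then 1 else 0) ∧
        (∀ i j, B (e i) (e j) = 0) ∧ (∀ i j, B (f i) (f j) = 0) ∧
        (∀ j x, B (r j) x = 0) ∧ LinearIndependent F r ∧ 2 * m + k = d := by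
  intro d
  induction d using Nat.strong_induction_on with
  | _ d ih =>
    intro V _ _ _ B hA hd
    have hneg : ∀ x y, B x y = - B y x := fun x y => (hA.neg_eq y x).symm
    by_cases hB0 : B = 0
    · -- the form vanishes: everything is radical
      refine ⟨0, d, Fin.elim0, Fin.elim0, fun j => (Module.finBasisOfFinrankEq F V hd) j, ?_, ?_, ?_,
        ?_, ?_, by omega⟩
      · intro i; exact Fin.elim0 i
      · intro i; exact Fin.elim0 i
      · intro i; exact Fin.elim0 i
      · intro j x; rw [hB0]; rfl
      · exact (Module.finBasisOfFinrankEq F V hd).linearIndependent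
    · -- pick a hyperbolic pair
      have hex : ∃ u v, B u v ≠ 0 := by
        by_contra hcon
        push Not at hcon
        apply hB0
        ext x y
        exact hcon x y
      obtain ⟨u, v₀, huv₀⟩ := hex
      obtain ⟨v, hv_def⟩ : ∃ v : V, v = (B u v₀)⁻¹ • v₀ := ⟨_, rfl⟩
      have huv : B u v = 1 := by
        rw [hv_def, map_smul, smul_eq_mul, inv_mul_cancel₀ huv₀]
      have hvu : B v u = -1 := by rw [hneg, huv]
      have huu : B u u = 0 := hA.self_eq_zero u
      have hvv : B v v = 0 := hA.self_eq_zero v
      let φ : V →ₗ[F] F × F := (B u).prod (B v)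
      let W : Submodule F V := LinearMap.ker φ
      have hWmem : ∀ x, x ∈ W ↔ B u x = 0 ∧ B v x = 0 := by
        intro x
        change (B u x, B v x) = 0 ↔ _
        rw [Prod.mk_eq_zero]
      have hWu : ∀ x ∈ W, B x u = 0 := by
        intro x hx
        rw [hneg, ((hWmem x).mp hx).1, neg_zero]
      have hWv : ∀ x ∈ W, B x v = 0 := by
        intro x hx
        rw [hneg, ((hWmem x).mp hx).2, neg_zero]
      have hsurj : LinearMap.range φ = ⊤ := by
        rw [LinearMap.range_eq_top]
        rintro ⟨a, b⟩
        refine ⟨a • v - b • u, ?_⟩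
        change (B u (a • v - b • u), B v (a • v - b • u)) = (a, b)
        simp only [map_sub, map_smul, smul_eq_mul, huv, huu, hvv, hvu]
        ext <;> simp
      have hdimW : 2 + finrank F W = d := by
        have h1 := LinearMap.finrank_range_add_finrank_ker φ
        rw [hsurj, finrank_top, Module.finrank_prod, Module.finrank_self, hd] at h1
        exact h1
      have hproj : ∀ x : V, x + (B v x) • u - (B u x) • v ∈ W := by
        intro x
        rw [hWmem]
        constructor
        · simp only [map_add, map_sub, map_smul, smul_eq_mul, huu, huv]; ring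
        · simp only [map_add, map_sub, map_smul, smul_eq_mul, hvu, hvv]; ring
      have hAW : (B.restrict W).IsAlt := fun x => hA.self_eq_zero (x : V)
      obtain ⟨m', k', e', f', r', h1, h2, h3, h4, h5, h6⟩ :=
        ih (finrank F W) (by omega) W (B.restrict W) hAW rfl
      refine ⟨m' + 1, k', Fin.cons u (fun i => (e' i : V)), Fin.cons v (fun i => (f' i : V)),
        fun j => (r' j : V), ?_, ?_, ?_, ?_, ?_, by omega⟩
      · intro i j
        refine Fin.cases ?_ (fun i => ?_) i <;> refine Fin.cases ?_ (fun j => ?_) j <;>
          simp only [Fin.cons_zero, Fin.cons_succ]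
        · simp [huv]
        · rw [((hWmem _).mp (f' j).2).1]
          simp [Fin.succ_ne_zero, eq_comm]
        · rw [hWv _ (e' i).2]
          simp [Fin.succ_ne_zero]
        · have : B (e' i : V) (f' j : V) = if i = j then 1 else 0 := h1 i j
          rw [this]
          simp [Fin.succ_inj]
      · intro i j
        refine Fin.cases ?_ (fun i => ?_) i <;> refine Fin.cases ?_ (fun j => ?_) j <;>
          simp only [Fin.cons_zero, Fin.cons_succ]
        · exact huu
        · exact ((hWmem _).mp (e' j).2).1
        · exact hWu _ (e' i).2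
        · exact h2 i j
      · intro i j
        refine Fin.cases ?_ (fun i => ?_) i <;> refine Fin.cases ?_ (fun j => ?_) j <;>
          simp only [Fin.cons_zero, Fin.cons_succ]
        · exact hvv
        · exact ((hWmem _).mp (f' j).2).2
        · exact hWv _ (f' i).2
        · exact h3 i j
      · intro j x
        have hx : x = (x + (B v x) • u - (B u x) • v) - (B v x) • u + (B u x) • v := by abel
        rw [hx, map_add, map_sub, map_smul, map_smul, hWu _ (r' j).2, hWv _ (r' j).2, smul_zero,
          smul_zero, sub_zero, add_zero]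
        exact h4 j ⟨_, hproj x⟩
      · exact h5.map' W.subtype (Submodule.ker_subtype W)

theorem linearIndependent_of_relations {F V : Type*} [Field F] [AddCommGroup V] [Module F V]
    (B : LinearMap.BilinForm F V) (hA : B.IsAlt) {m k : ℕ} (e f : Fin m → V) (r : Fin k → V)
    (h1 : ∀ i j, B (e i) (f j) = if i = j then 1 else 0)
    (h2 : ∀ i j, B (e i) (e j) = 0) (h3 : ∀ i j, B (f i) (f j) = 0)
    (h4 : ∀ j x, B (r j) x = 0) (h5 : LinearIndependent F r) :
    LinearIndependent F (Sum.elim (Sum.elim e f) r) := by
  have hneg : ∀ x y, B x y = - B y x := fun x y => (hA.neg_eq y x).symm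
  rw [Fintype.linearIndependent_iff]
  intro c hc
  simp only [Fintype.sum_sum_type, Sum.elim_inl, Sum.elim_inr] at hc
  have hr : ∀ j x, B x (r j) = 0 := by
    intro j x
    rw [hneg, h4, neg_zero]
  -- coefficients of f
  have hcf : ∀ j, c (Sum.inl (Sum.inr j)) = 0 := by
    intro j
    have := congrArg (B (e j)) hc
    simp only [map_add, map_sum, map_smul, smul_eq_mul, h1, h2, hr, mul_zero,
      Finset.sum_const_zero, map_zero, zero_add, add_zero, mul_ite, mul_one,
      Finset.sum_ite_eq, Finset.mem_univ, if_true] at this
    exact this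
  have hce : ∀ j, c (Sum.inl (Sum.inl j)) = 0 := by
    intro j
    have := congrArg (B (f j)) hc
    have h1' : ∀ i, B (f j) (e i) = if i = j then -1 else 0 := by
      intro i
      rw [hneg, h1]
      split_ifs <;> simp
    simp only [map_add, map_sum, map_smul, smul_eq_mul, h1', h3, hr, mul_zero,
      Finset.sum_const_zero, map_zero, zero_add, add_zero, mul_ite, mul_neg, mul_one,
      Finset.sum_ite_eq', Finset.mem_univ, if_true, neg_eq_zero] at this
    exact this
  have hcr : ∀ j, c (Sum.inr j) = 0 := by
    simp only [hce, hcf, zero_smul, Finset.sum_const_zero, zero_add] at hc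
    exact Fintype.linearIndependent_iff.mp h5 _ hc
  rintro ((i | i) | j)
  · exact hce i
  · exact hcf i
  · exact hcr j

/-- Classification of alternating forms: for an alternating bilinear form B on a finite-dimensional space over any field there is a basis indexed by (Fin m ⊕ Fin m) ⊕ Fin k such that B (e_i, f_j) = δ_ij, the e's are pairwise orthogonal, the f's are pairwise orthogonal, and the last k basis vectors are orthogonal to everything (they span the radical). -/
theorem result {F V : Type*} [Field F] [AddCommGroup V] [Module F V] [FiniteDimensional F V] (B : LinearMap.BilinForm F V) (hA : B.IsAlt) : ∃ (m k : ℕ) (b : Module.Basis ((Fin m ⊕ Fin m) ⊕ Fin k) F V), (∀ i j : Fin m, B (b (Sum.inl (Sum.inl i))) (b (Sum.inl (Sum.inr j))) = if i = j then 1 else 0) ∧ (∀ i j : Fin m, B (b (Sum.inl (Sum.inl i))) (b (Sum.inl (Sum.inl j))) = 0) ∧ (∀ i j : Fin m, B (b (Sum.inl (Sum.inr i))) (b (Sum.inl (Sum.inr j))) = 0) ∧ (∀ (j : Fin k) (v : V), B (b (Sum.inr j)) v = 0) := by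
  obtain ⟨m, k, e, f, r, h1, h2, h3, h4, h5, h6⟩ := main_aux (Module.finrank F V) V B hA rfl
  have hli := linearIndependent_of_relations B hA e f r h1 h2 h3 h4 h5
  have hcard : Fintype.card ((Fin m ⊕ Fin m) ⊕ Fin k) = Module.finrank F V := by
    simp only [Fintype.card_sum, Fintype.card_fin]
    omega
  refine ⟨m, k, basisOfLinearIndependentOfCardEqFinrank' _ hli hcard, ?_, ?_, ?_, ?_⟩ <;>
    rw [coe_basisOfLinearIndependentOfCardEqFinrank']
  · exact h1
  · exact h2
  · exact h3
  · exact h4

end Cfsg.Agent.S0752
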