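import Cfsg.Statements.S0754


set_option autoImplicit false
open Cfsg

namespace Cfsg.Agent.S0754

/-- In a field F with q^2 elements, every non-zero μ with μ^q = μ (that is, μ in the subfield of order q) has exactly q + 1 solutions λ of λ^(q+1) = μ. -/
theorem result {F : Type*} [Field F] [Fintype F] {q : ℕ} (hF : Fintype.card F = q ^ 2) (μ : F) (hμ : μ ≠ 0) (hμq : μ ^ q = μ) : Nat.card {x : F // x ^ (q + 1) = μ} = q + 1 := by
  classical
  have hq2 : 2 ≤ q := by
    have h1 : 1 < Fintype.card F := Fintype.one_lt_card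
    rw [hF] at h1
    by_contra hcon
    push Not at hcon
    interval_cases q <;> simp at h1
  have hfac : q ^ 2 - 1 = (q - 1) * (q + 1) := by
    obtain ⟨k, rfl⟩ : ∃ k, q = k + 2 := ⟨q - 2, by omega⟩
    have : (k + 2) ^ 2 = (k + 1) * (k + 2 + 1) + 1 := by ring
    rw [this]
    simp
  have hcardU : Nat.card Fˣ = (q - 1) * (q + 1) := by
    rw [Nat.card_units, Nat.card_eq_fintype_card, hF, hfac]
  have hker : Nat.card (powMonoidHom (q + 1) : Fˣ →* Fˣ).ker = q + 1 := by
    rw [IsCyclic.card_powMonoidHom_ker, hcardU]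
    exact Nat.gcd_mul_left_left _ _
  have hrange : Nat.card (powMonoidHom (q + 1) : Fˣ →* Fˣ).range = q - 1 := by
    rw [IsCyclic.card_powMonoidHom_range, hcardU, Nat.gcd_mul_left_left]
    exact Nat.mul_div_cancel _ (by omega)
  have hkerP : Nat.card (powMonoidHom (q - 1) : Fˣ →* Fˣ).ker = q - 1 := by
    rw [IsCyclic.card_powMonoidHom_ker, hcardU]
    exact Nat.gcd_mul_right_left _ _
  have hle : (powMonoidHom (q + 1) : Fˣ →* Fˣ).range ≤ (powMonoidHom (q - 1) : Fˣ →* Fˣ).ker := by
    rintro _ ⟨x, rfl⟩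
    rw [MonoidHom.mem_ker, powMonoidHom_apply, powMonoidHom_apply, ← pow_mul, mul_comm, ← hcardU]
    exact pow_card_eq_one'
  have heq : (powMonoidHom (q + 1) : Fˣ →* Fˣ).range = (powMonoidHom (q - 1) : Fˣ →* Fˣ).ker := by
    apply Subgroup.eq_of_le_of_card_ge hle
    rw [hrange, hkerP]
  have hμ1 : (Units.mk0 μ hμ) ^ (q - 1) = 1 := by
    apply Units.ext
    rw [Units.val_pow_eq_pow_val, Units.val_mk0, Units.val_one]
    have h1 : μ ^ (q - 1) * μ = μ := by
      rw [← pow_succ]
      have : q - 1 + 1 = q := by omega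
      rw [this, hμq]
    have h2 : (μ ^ (q - 1) - 1) * μ = 0 := by rw [sub_mul, h1, one_mul, sub_self]
    rcases mul_eq_zero.mp h2 with h | h
    · exact sub_eq_zero.mp h
    · exact absurd h hμ
  have hmem : Units.mk0 μ hμ ∈ (powMonoidHom (q + 1) : Fˣ →* Fˣ).range := by
    rw [heq, MonoidHom.mem_ker, powMonoidHom_apply]
    exact hμ1
  obtain ⟨x₀, hx₀⟩ := hmem
  rw [powMonoidHom_apply] at hx₀
  have hx₀' : (x₀ : F) ^ (q + 1) = μ := by
    have := congrArg Units.val hx₀
    simpa using this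
  have hne : ∀ x : {x : F // x ^ (q + 1) = μ}, x.1 ≠ 0 := by
    rintro ⟨x, hx⟩ h
    simp only at h
    apply hμ
    rw [← hx, h, zero_pow (by omega)]
  have e : {x : F // x ^ (q + 1) = μ} ≃ (powMonoidHom (q + 1) : Fˣ →* Fˣ).ker :=
    { toFun := fun x => ⟨Units.mk0 x.1 (hne x) * x₀⁻¹, by
        rw [MonoidHom.mem_ker, powMonoidHom_apply, mul_pow, inv_pow, hx₀]
        apply Units.ext
        simp only [Units.val_mul, Units.val_pow_eq_pow_val, Units.val_mk0, Units.val_one]
        rw [x.2]
        simp [hμ]⟩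
      invFun := fun k => ⟨((k.1 * x₀ : Fˣ) : F), by
        have hk := k.2
        rw [MonoidHom.mem_ker, powMonoidHom_apply] at hk
        rw [← Units.val_pow_eq_pow_val, mul_pow, hk, one_mul, Units.val_pow_eq_pow_val, hx₀']⟩
      left_inv := by
        intro x
        apply Subtype.ext
        simp
      right_inv := by
        intro k
        apply Subtype.ext
        apply Units.ext
        simp }
  rw [Nat.card_congr e, hker]

end Cfsg.Agent.S0754
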