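import Cfsg.Statements.S0755
import Cfsg.Agent.Lib.Helper13.Involution
import Cfsg.Agent.S0753

set_option autoImplicit false
open Cfsg

namespace Cfsg.Agent.S0755

open Module

theorem aux {F : Type*} [Field F] [Finite F] (σ : F →+* F) (hσ : σ ≠ RingHom.id F)
    (hσ2 : ∀ a : F, σ (σ a) = a) :
    ∀ (d : ℕ) (V : Type*) [AddCommGroup V] [Module F V] [FiniteDimensional F V]
      (B : V →ₛₗ[σ] V →ₗ[F] F), B.IsSymm → B.Nondegenerate → Module.finrank F V = d →
      ∃ b : Module.Basis (Fin d) F V, ∀ i j, B (b i) (b j) = if i = j then 1 else 0 := by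
  classical
  haveI : Fintype F := Fintype.ofFinite F
  intro d
  induction d with
  | zero =>
    intro V _ _ _ B hS hB hd
    exact ⟨basisOfFinrankZero hd, fun i => Fin.elim0 i⟩
  | succ d ih =>
    intro V _ _ _ B hS hB hd
    -- there is a vector with B x x ≠ 0
    have hpos : 0 < finrank F V := by omega
    obtain ⟨v₀, hv₀⟩ := Module.finrank_pos_iff_exists_ne_zero.mp hpos
    have hBne : B ≠ 0 := by
      intro h0
      apply hv₀
      apply hB.1 v₀
      intro y
      rw [h0]; rfl
    have hex : ∃ x, B x x ≠ 0 := by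
      by_contra hcon
      push Not at hcon
      exact hBne (Cfsg.Agent.S0753.result σ hσ B hS hcon)
    obtain ⟨x₀, hx₀⟩ := hex
    have hcfix : σ (B x₀ x₀) = B x₀ x₀ := hS.eq x₀ x₀
    have hcinv : σ (B x₀ x₀)⁻¹ = (B x₀ x₀)⁻¹ := by rw [map_inv₀, hcfix]
    obtain ⟨a, ha⟩ := Cfsg.Agent.Lib.Helper13.exists_mul_conj_eq σ hσ hσ2 (B x₀ x₀)⁻¹
      (inv_ne_zero hx₀) hcinv
    obtain ⟨x, hx_def⟩ : ∃ x : V, x = a • x₀ := ⟨_, rfl⟩
    have hxx : B x x = 1 := by
      have h1 : B (a • x₀) = σ a • B x₀ := LinearMap.map_smulₛₗ B a x₀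
      rw [hx_def, h1, LinearMap.smul_apply, map_smul, smul_eq_mul, smul_eq_mul,
        ← mul_assoc, mul_comm (σ a) a, ha, inv_mul_cancel₀ hx₀]
    -- the orthogonal complement of x
    let W : Submodule F V := LinearMap.ker (B x)
    have hWmem : ∀ y, y ∈ W ↔ B x y = 0 := fun y => LinearMap.mem_ker
    have hWmem' : ∀ y, y ∈ W → B y x = 0 := by
      intro y hy
      rw [← hS.eq x y, (hWmem y).mp hy, map_zero]
    have hproj : ∀ v : V, v - (B x v) • x ∈ W := by
      intro v
      rw [hWmem, map_sub, map_smul, smul_eq_mul, hxx, mul_one, sub_self]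
    have hdimW : finrank F W = d := by
      have h1 := LinearMap.finrank_range_add_finrank_ker (B x)
      have h2 : LinearMap.range (B x) = ⊤ := by
        rw [LinearMap.range_eq_top]
        intro c
        exact ⟨c • x, by rw [map_smul, smul_eq_mul, hxx, mul_one]⟩
      rw [h2, finrank_top, Module.finrank_self] at h1
      change 1 + finrank F W = finrank F V at h1
      omega
    let B' : W →ₛₗ[σ] W →ₗ[F] F := B.domRestrict₁₂ W W
    have hS' : B'.IsSymm := hS.domRestrict W
    have hB' : B'.Nondegenerate := by
      constructor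
      · intro w hw
        apply Subtype.ext
        apply hB.1 (w : V)
        intro v
        have hv : v = (v - (B x v) • x) + (B x v) • x := by abel
        rw [hv, map_add, map_smul, hWmem' w w.2, smul_zero, add_zero]
        exact hw ⟨_, hproj v⟩
      · intro w hw
        apply Subtype.ext
        apply hB.2 (w : V)
        intro v
        have hv : v = (v - (B x v) • x) + (B x v) • x := by abel
        rw [hv, map_add, LinearMap.add_apply, map_smulₛₗ, LinearMap.smul_apply,
          (hWmem w).mp w.2, smul_zero, add_zero]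
        exact hw ⟨_, hproj v⟩
    obtain ⟨b', hb'⟩ := ih W B' hS' hB' hdimW
    let b : Basis (Fin (d + 1)) F V :=
      Basis.mkFinCons x b'
        (by
          intro c y hy hc
          have h1 := congrArg (B x) hc
          rw [map_add, map_smul, smul_eq_mul, hxx, mul_one, (hWmem y).mp hy, add_zero,
            map_zero] at h1
          exact h1)
        (by
          intro z
          refine ⟨-B x z, ?_⟩
          have := hproj z
          rwa [sub_eq_add_neg, ← neg_smul] at this)
    have hb_coe : (b : Fin (d + 1) → V) = Fin.cons x ((↑) ∘ b') := Basis.coe_mkFinCons _ _ _ _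
    refine ⟨b, ?_⟩
    rw [hb_coe]
    intro i j
    refine Fin.cases ?_ (fun i => ?_) i <;> refine Fin.cases ?_ (fun j => ?_) j <;>
      simp only [Fin.cons_zero, Fin.cons_succ, Function.comp_apply]
    · simp [hxx]
    · rw [(hWmem _).mp (b' j).2]
      simp [Fin.succ_ne_zero, eq_comm]
    · rw [hWmem' _ (b' i).2]
      simp [Fin.succ_ne_zero]
    · have := hb' i j
      rw [LinearMap.domRestrict₁₂_apply] at this
      rw [this]
      simp [Fin.succ_inj]

/-- Classification of Hermitian forms over finite fields: if σ is a non-identity involutive automorphism of the finite field F and B is a non-degenerate conjugate-symmetric σ-sesquilinear form on the finite-dimensional space V, then V has a B-orthonormal basis. -/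
theorem result {F V : Type*} [Field F] [Finite F] [AddCommGroup V] [Module F V] [FiniteDimensional F V] (σ : F →+* F) (hσ : σ ≠ RingHom.id F) (hσ2 : ∀ a : F, σ (σ a) = a) (B : V →ₛₗ[σ] V →ₗ[F] F) (hS : B.IsSymm) (hB : B.Nondegenerate) : ∃ b : Module.Basis (Fin (Module.finrank F V)) F V, ∀ i j, B (b i) (b j) = if i = j then 1 else 0 := by
  exact aux σ hσ hσ2 _ V B hS hB rfl

end Cfsg.Agent.S0755
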