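import Cfsg.Statements.S0757

set_option autoImplicit false
open Cfsg

namespace Cfsg.Agent.S0757

theorem toMatrix'_wss {F : Type*} [Field F] [Invertible (2 : F)] {ι : Type*} [Fintype ι] [DecidableEq ι]
    (w : ι → F) :
    QuadraticForm.toMatrix' (QuadraticMap.weightedSumSquares F w) = Matrix.diagonal w := by
  ext i j
  rw [QuadraticForm.toMatrix', LinearMap.toMatrix₂'_apply, QuadraticMap.associated_apply]
  simp only [QuadraticMap.weightedSumSquares_apply, Pi.add_apply, smul_eq_mul]
  rw [← Finset.sum_sub_distrib, ← Finset.sum_sub_distrib]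
  have h2 : (2 : F) ≠ 0 := Invertible.ne_zero 2
  have : ∀ k : ι, (w k * (((Pi.single i 1 : ι → F) k + (Pi.single j 1 : ι → F) k) * ((Pi.single i 1 : ι → F) k + (Pi.single j 1 : ι → F) k)) -
            w k * ((Pi.single i 1 : ι → F) k * (Pi.single i 1 : ι → F) k) -
          w k * ((Pi.single j 1 : ι → F) k * (Pi.single j 1 : ι → F) k)) = 2 * (w k * ((Pi.single i 1 : ι → F) k * (Pi.single j 1 : ι → F) k)) := by
    intro k; ring
  simp only [this]
  rw [← Finset.mul_sum, Finset.sum_eq_single i]
  · simp only [Pi.single_eq_same, one_mul, Matrix.diagonal_apply, Pi.single_apply]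
    have h3 : ∀ y : F, (2 : F) * y = (2 : Module.End F F) • y := by
      intro y
      rw [Module.End.smul_def, Module.End.ofNat_apply, two_mul, two_smul]
    rw [h3, invOf_smul_smul]
    by_cases hij : i = j
    · simp [hij]
    · simp [hij]
  · intro k _ hk
    simp [hk]
  · simp


/-- The two diagonal forms Σ x_i^2 and Σ_(i<n) x_i^2 + α x_n^2 on F^(n+1), with α a non-square and 2 ≠ 0 in F, are inequivalent quadratic forms (so over a finite field of odd order there are exactly two classes of non-singular symmetric bilinear forms in each dimension). -/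
theorem result {F : Type*} [Field F] (h2 : (2 : F) ≠ 0) (n : ℕ) (α : F) (hα : ¬ IsSquare α) : ¬ (QuadraticMap.weightedSumSquares F (fun _ : Fin (n + 1) => (1 : F))).Equivalent (QuadraticMap.weightedSumSquares F (fun i : Fin (n + 1) => if i = Fin.last n then α else (1 : F))) := by
  rintro ⟨e⟩
  haveI : Invertible (2 : F) := invertibleOfNonzero h2
  have hcomp : QuadraticMap.weightedSumSquares F (fun _ : Fin (n + 1) => (1 : F))
      = (QuadraticMap.weightedSumSquares F
          (fun i : Fin (n + 1) => if i = Fin.last n then α else (1 : F))).comp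
          e.toLinearEquiv.toLinearMap := by
    ext x
    rw [QuadraticMap.comp_apply]
    exact (e.map_app x).symm
  have hd := QuadraticForm.discr'_comp (Q := QuadraticMap.weightedSumSquares F
          (fun i : Fin (n + 1) => if i = Fin.last n then α else (1 : F))) e.toLinearEquiv.toLinearMap
  rw [← hcomp] at hd
  rw [QuadraticForm.discr', QuadraticForm.discr', toMatrix'_wss, toMatrix'_wss, Matrix.det_diagonal,
    Matrix.det_diagonal] at hd
  simp only [Finset.prod_const_one] at hd
  rw [Finset.prod_ite_eq' ] at hd
  simp only [Finset.mem_univ, if_true] at hd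
  set d := (LinearMap.toMatrix' (e.toLinearEquiv : (Fin (n + 1) → F) →ₗ[F] (Fin (n + 1) → F))).det
    with hd_def
  have hd0 : d ≠ 0 := by
    intro h0
    rw [h0] at hd
    simp at hd
  apply hα
  refine ⟨d⁻¹, ?_⟩
  field_simp
  linear_combination (-1 : F) * hd

end Cfsg.Agent.S0757
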