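import Cfsg.Statements.S0759

set_option autoImplicit false
open Cfsg

namespace Cfsg.Agent.S0759

open Matrix Module

/-- From a matrix `N` with `Nᵀ N = -1` we get a totally singular subspace (graph of `N`). -/
theorem exists_W_of_N {F : Type*} [Field F] {ι : Type*} [Fintype ι] [DecidableEq ι]
    (N : Matrix ι ι F) (hN : Nᵀ * N = -1) (k : ℕ) (e : ι ⊕ ι ≃ Fin k) :
    ∃ W : Submodule F (Fin k → F), Module.finrank F W = Fintype.card ι ∧
      ∀ w ∈ W, ∑ i, w i ^ 2 = 0 := by
  let φ : (ι → F) →ₗ[F] (Fin k → F) :=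
    { toFun := fun x j => Sum.elim x (N *ᵥ x) (e.symm j)
      map_add' := by
        intro x y
        ext j
        simp only [Pi.add_apply]
        generalize e.symm j = s
        cases s <;> simp [Matrix.mulVec_add]
      map_smul' := by
        intro c x
        ext j
        simp only [Pi.smul_apply, RingHom.id_apply]
        generalize e.symm j = s
        cases s <;> simp [Matrix.mulVec_smul] }
  have hφ : ∀ x j, φ x j = Sum.elim x (N *ᵥ x) (e.symm j) := fun x j => rfl
  have hinj : Function.Injective φ := by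
    intro x y hxy
    ext t
    have := congrFun hxy (e (Sum.inl t))
    rw [hφ, hφ, Equiv.symm_apply_apply] at this
    exact this
  refine ⟨LinearMap.range φ, ?_, ?_⟩
  · rw [LinearMap.finrank_range_of_inj hinj, Module.finrank_fintype_fun_eq_card]
  · rintro w ⟨x, rfl⟩
    have h1 : ∑ i, φ x i ^ 2 = ∑ s : ι ⊕ ι, (Sum.elim x (N *ᵥ x) s) ^ 2 := by
      rw [← Equiv.sum_comp e.symm (fun s => (Sum.elim x (N *ᵥ x) s) ^ 2)]
      rfl
    rw [h1, Fintype.sum_sum_type]
    simp only [Sum.elim_inl, Sum.elim_inr]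
    have h2 : ∑ t, (N *ᵥ x) t ^ 2 = (N *ᵥ x) ⬝ᵥ (N *ᵥ x) := by
      unfold dotProduct
      apply Finset.sum_congr rfl
      intro t _
      ring
    have h3 : ∑ t, x t ^ 2 = x ⬝ᵥ x := by
      unfold dotProduct
      apply Finset.sum_congr rfl
      intro t _
      ring
    rw [h2, h3]
    have h4 : (N *ᵥ x) ⬝ᵥ (N *ᵥ x) = x ⬝ᵥ ((Nᵀ * N) *ᵥ x) := by
      rw [← Matrix.mulVec_mulVec, Matrix.dotProduct_mulVec x, Matrix.vecMul_transpose]
    rw [h4, hN, Matrix.neg_mulVec, Matrix.one_mulVec, dotProduct_neg, add_neg_cancel]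

theorem det_swap_blocks {F : Type*} [Field F] (m : ℕ) :
    (Matrix.fromBlocks (0 : Matrix (Fin m) (Fin m) F) (1 : Matrix (Fin m) (Fin m) F)
        (1 : Matrix (Fin m) (Fin m) F) (0 : Matrix (Fin m) (Fin m) F)).det = (-1) ^ m := by
  have h1 : Matrix.fromBlocks (1 : Matrix (Fin m) (Fin m) F) (1 : Matrix (Fin m) (Fin m) F)
        (0 : Matrix (Fin m) (Fin m) F) (1 : Matrix (Fin m) (Fin m) F) *
      Matrix.fromBlocks (0 : Matrix (Fin m) (Fin m) F) (1 : Matrix (Fin m) (Fin m) F)
        (1 : Matrix (Fin m) (Fin m) F) (0 : Matrix (Fin m) (Fin m) F)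
      = Matrix.fromBlocks (1 : Matrix (Fin m) (Fin m) F) (1 : Matrix (Fin m) (Fin m) F)
        (1 : Matrix (Fin m) (Fin m) F) (0 : Matrix (Fin m) (Fin m) F) := by
    rw [Matrix.fromBlocks_multiply]
    simp
  have h2 := congrArg Matrix.det h1
  rw [Matrix.det_mul, Matrix.det_fromBlocks_zero₂₁, Matrix.det_one, one_mul, one_mul,
    Matrix.det_fromBlocks_one₁₁] at h2
  rw [h2]
  simp [Matrix.det_neg]

theorem det_fromBlocks_zero_11 {F : Type*} [Field F] (m : ℕ) (A C D : Matrix (Fin m) (Fin m) F) :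
    (Matrix.fromBlocks 0 A C D).det = (-1) ^ m * (A.det * C.det) := by
  have h1 : Matrix.fromBlocks 0 A C D = Matrix.fromBlocks A 0 D C *
      Matrix.fromBlocks (0 : Matrix (Fin m) (Fin m) F) (1 : Matrix (Fin m) (Fin m) F)
        (1 : Matrix (Fin m) (Fin m) F) (0 : Matrix (Fin m) (Fin m) F) := by
    rw [Matrix.fromBlocks_multiply]
    simp
  rw [h1, Matrix.det_mul, Matrix.det_fromBlocks_zero₁₂, det_swap_blocks]
  ring

theorem isSquare_of_W {F : Type*} [Field F] (h2 : (2 : F) ≠ 0) (m : ℕ)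
    (W : Submodule F (Fin (2 * m) → F)) (hWm : Module.finrank F W = m)
    (hQ : ∀ w ∈ W, ∑ i, w i ^ 2 = 0) : IsSquare ((-1 : F) ^ m) := by
  classical
  -- polarisation
  have hpol : ∀ w ∈ W, ∀ w' ∈ W, w ⬝ᵥ w' = 0 := by
    intro w hw w' hw'
    have h1 := hQ (w + w') (W.add_mem hw hw')
    have h3 : ∑ i, (w + w') i ^ 2 = ∑ i, w i ^ 2 + 2 * (w ⬝ᵥ w') + ∑ i, w' i ^ 2 := by
      unfold dotProduct
      rw [Finset.mul_sum, ← Finset.sum_add_distrib, ← Finset.sum_add_distrib]
      apply Finset.sum_congr rfl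
      intro i _
      simp only [Pi.add_apply]
      ring
    rw [h3, hQ w hw, hQ w' hw', zero_add, add_zero] at h1
    rcases mul_eq_zero.mp h1 with h | h
    · exact absurd h h2
    · exact h
  obtain ⟨W', hc⟩ := Submodule.exists_isCompl W
  have hW'm : Module.finrank F W' = m := by
    have := Submodule.finrank_add_eq_of_isCompl hc
    rw [hWm, Module.finrank_fintype_fun_eq_card, Fintype.card_fin] at this
    omega
  let bW : Basis (Fin m) F W := Module.finBasisOfFinrankEq F W hWm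
  let bW' : Basis (Fin m) F W' := Module.finBasisOfFinrankEq F W' hW'm
  let b : Basis (Fin m ⊕ Fin m) F (Fin (2 * m) → F) :=
    (bW.prod bW').map (Submodule.prodEquivOfIsCompl W W' hc)
  have hbl : ∀ i, b (Sum.inl i) ∈ W := by
    intro i
    have : b (Sum.inl i) = (bW i : Fin (2 * m) → F) := by
      simp [b, Submodule.coe_prodEquivOfIsCompl']
    rw [this]
    exact (bW i).2
  have hmm : m + m = 2 * m := by omega
  let e : Fin m ⊕ Fin m ≃ Fin (2 * m) := finSumFinEquiv.trans (finCongr hmm)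
  let P : Matrix (Fin m ⊕ Fin m) (Fin m ⊕ Fin m) F := fun s s' => b s (e s')
  let c : Basis (Fin m ⊕ Fin m) F (Fin (2 * m) → F) := (Pi.basisFun F (Fin (2 * m))).reindex e.symm
  have hPc : P = (c.toMatrix b)ᵀ := by
    ext s s'
    simp [P, c, Basis.toMatrix_apply]
  have hPdet : P.det ≠ 0 := by
    have h1 := Basis.toMatrix_mul_toMatrix_flip c b
    have h2 := congrArg Matrix.det h1
    rw [Matrix.det_mul, Matrix.det_one] at h2
    rw [hPc, Matrix.det_transpose]
    exact left_ne_zero_of_mul_eq_one h2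
  have hG : ∀ s t, (P * Pᵀ) s t = b s ⬝ᵥ b t := by
    intro s t
    rw [Matrix.mul_apply]
    unfold dotProduct
    exact Equiv.sum_comp e (fun j => b s j * b t j)
  have hG11 : (P * Pᵀ).toBlocks₁₁ = 0 := by
    ext i j
    simp only [Matrix.toBlocks₁₁, Matrix.of_apply, Matrix.zero_apply]
    rw [hG]
    exact hpol _ (hbl i) _ (hbl j)
  have hGeq : P * Pᵀ = Matrix.fromBlocks 0 (P * Pᵀ).toBlocks₁₂ (P * Pᵀ).toBlocks₂₁ (P * Pᵀ).toBlocks₂₂ := by
    rw [← hG11, Matrix.fromBlocks_toBlocks]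
  have h21 : (P * Pᵀ).toBlocks₂₁ = ((P * Pᵀ).toBlocks₁₂)ᵀ := by
    ext i j
    simp only [Matrix.toBlocks₂₁, Matrix.toBlocks₁₂, Matrix.of_apply, Matrix.transpose_apply]
    rw [hG, hG, dotProduct_comm]
  have hdet := congrArg Matrix.det hGeq
  rw [det_fromBlocks_zero_11, h21, Matrix.det_transpose, Matrix.det_mul, Matrix.det_transpose] at hdet
  obtain ⟨a, ha⟩ : ∃ a, a = ((P * Pᵀ).toBlocks₁₂).det := ⟨_, rfl⟩
  rw [← ha] at hdet
  have ha0 : a ≠ 0 := by
    intro h0
    rw [h0, mul_zero, mul_zero] at hdet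
    exact hPdet (mul_self_eq_zero.mp hdet)
  refine ⟨P.det / a, ?_⟩
  field_simp
  linear_combination -hdet

/-- Type of the orthonormal form: over a finite field of odd order q and for m ≥ 1, the quadratic form Σ_(i<2m) x_i² on F^(2m) admits an m-dimensional subspace on which it vanishes identically if and only if it is not the case that q ≡ 3 (mod 4) and m is odd. -/
theorem result {F : Type*} [Field F] [Fintype F] (h2 : (2 : F) ≠ 0) (m : ℕ) (hm : 1 ≤ m) : (∃ W : Submodule F (Fin (2 * m) → F), Module.finrank F W = m ∧ ∀ w ∈ W, ∑ i, w i ^ 2 = 0) ↔ ¬ (Fintype.card F % 4 = 3 ∧ Odd m) := by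
  classical
  constructor
  · rintro ⟨W, hWm, hQ⟩ ⟨hq, hodd⟩
    have h1 := isSquare_of_W h2 m W hWm hQ
    rw [hodd.neg_one_pow] at h1
    exact (FiniteField.isSquare_neg_one_iff.mp h1) hq
  · intro hcond
    by_cases hq : Fintype.card F % 4 = 3
    · have heven : Even m := by
        rw [← Nat.not_odd_iff_even]
        exact fun ho => hcond ⟨hq, ho⟩
      obtain ⟨r, hr⟩ := heven
      obtain ⟨p, hp⟩ := CharP.exists F
      have := hp
      have : NeZero p := ⟨CharP.char_ne_zero_of_finite F p⟩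
      obtain ⟨a', b', hab'⟩ := CharP.sq_add_sq F p (-1)
      obtain ⟨a, ha⟩ : ∃ a : F, a = (a' : F) := ⟨_, rfl⟩
      obtain ⟨b, hb⟩ : ∃ b : F, b = (b' : F) := ⟨_, rfl⟩
      have hab : a ^ 2 + b ^ 2 = -1 := by
        rw [ha, hb, hab']
        simp
      let N : Matrix (Fin r ⊕ Fin r) (Fin r ⊕ Fin r) F :=
        Matrix.fromBlocks (a • (1 : Matrix (Fin r) (Fin r) F)) (-(b • (1 : Matrix (Fin r) (Fin r) F)))
          (b • (1 : Matrix (Fin r) (Fin r) F)) (a • (1 : Matrix (Fin r) (Fin r) F))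
      have hN : Nᵀ * N = -1 := by
        have e1 : ∀ x y : F, (x • (1 : Matrix (Fin r) (Fin r) F))ᵀ * (y • (1 : Matrix (Fin r) (Fin r) F))
            = (x * y) • (1 : Matrix (Fin r) (Fin r) F) := by
          intro x y
          rw [Matrix.transpose_smul, Matrix.transpose_one, Matrix.smul_mul, Matrix.one_mul, smul_smul]
        have e2 : ∀ x y : F, (-(x • (1 : Matrix (Fin r) (Fin r) F)))ᵀ * (y • (1 : Matrix (Fin r) (Fin r) F))
            = (-(x * y)) • (1 : Matrix (Fin r) (Fin r) F) := by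
          intro x y
          rw [Matrix.transpose_neg, Matrix.neg_mul, e1, neg_smul]
        have e3 : ∀ x y : F, (x • (1 : Matrix (Fin r) (Fin r) F))ᵀ * (-(y • (1 : Matrix (Fin r) (Fin r) F)))
            = (-(x * y)) • (1 : Matrix (Fin r) (Fin r) F) := by
          intro x y
          rw [Matrix.mul_neg, e1, neg_smul]
        have e4 : ∀ x y : F, (-(x • (1 : Matrix (Fin r) (Fin r) F)))ᵀ * (-(y • (1 : Matrix (Fin r) (Fin r) F)))
            = (x * y) • (1 : Matrix (Fin r) (Fin r) F) := by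
          intro x y
          rw [Matrix.transpose_neg, Matrix.neg_mul, Matrix.mul_neg, neg_neg, e1]
        change (Matrix.fromBlocks (a • (1 : Matrix (Fin r) (Fin r) F)) (-(b • (1 : Matrix (Fin r) (Fin r) F)))
          (b • (1 : Matrix (Fin r) (Fin r) F)) (a • (1 : Matrix (Fin r) (Fin r) F)))ᵀ *
          Matrix.fromBlocks (a • (1 : Matrix (Fin r) (Fin r) F)) (-(b • (1 : Matrix (Fin r) (Fin r) F)))
          (b • (1 : Matrix (Fin r) (Fin r) F)) (a • (1 : Matrix (Fin r) (Fin r) F)) = -1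
        rw [Matrix.fromBlocks_transpose, Matrix.fromBlocks_multiply]
        simp only [e1, e2, e3, e4]
        rw [← add_smul, ← add_smul, ← add_smul, ← add_smul, ← Matrix.fromBlocks_one, Matrix.fromBlocks_neg]
        have h1 : a * a + b * b = -1 := by rw [← hab]; ring
        have h2 : -(a * b) + b * a = 0 := by ring
        have h3 : -(b * a) + a * b = 0 := by ring
        have h4 : b * b + a * a = -1 := by rw [← hab]; ring
        rw [h1, h2, h3, h4, zero_smul, neg_smul, one_smul, neg_zero]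
      have hcard : Fintype.card ((Fin r ⊕ Fin r) ⊕ (Fin r ⊕ Fin r)) = 2 * m := by
        simp only [Fintype.card_sum, Fintype.card_fin]
        omega
      obtain ⟨W, hW1, hW2⟩ := exists_W_of_N N hN (2 * m) (Fintype.equivFinOfCardEq hcard)
      refine ⟨W, ?_, hW2⟩
      rw [hW1]
      simp only [Fintype.card_sum, Fintype.card_fin]
      omega
    · have hsq : IsSquare (-1 : F) := FiniteField.isSquare_neg_one_iff.mpr hq
      obtain ⟨i, hi⟩ := hsq
      let N : Matrix (Fin m) (Fin m) F := i • (1 : Matrix (Fin m) (Fin m) F)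
      have hN : Nᵀ * N = -1 := by
        simp only [N, Matrix.transpose_smul, Matrix.transpose_one, Matrix.mul_smul,
          Matrix.mul_one, smul_smul]
        rw [← hi, neg_smul, one_smul]
      have hcard : Fintype.card (Fin m ⊕ Fin m) = 2 * m := by
        simp only [Fintype.card_sum, Fintype.card_fin]
        omega
      obtain ⟨W, hW1, hW2⟩ := exists_W_of_N N hN (2 * m) (Fintype.equivFinOfCardEq hcard)
      refine ⟨W, ?_, hW2⟩
      rw [hW1, Fintype.card_fin]

end Cfsg.Agent.S0759
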