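import Cfsg.Statements.S0760

set_option autoImplicit false
open Cfsg

namespace Cfsg.Agent.S0760

open LinearMap.BilinForm

/-- Adding a singular vector orthogonal to a totally singular subspace keeps it totally singular;
with maximality this shows the vector already lies in the subspace. -/
theorem mem_of_maximal {F V : Type*} [Field F] [AddCommGroup V] [Module F V]
    (Q : QuadraticForm F V) (W : Submodule F V) (hW : ∀ w ∈ W, Q w = 0)
    (hmax : ∀ W' : Submodule F V, W ≤ W' → (∀ w ∈ W', Q w = 0) → W' = W)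
    (x : V) (hx : Q x = 0) (hxW : ∀ w ∈ W, QuadraticMap.polar Q w x = 0) : x ∈ W := by
  have h := hmax (W ⊔ Submodule.span F {x}) le_sup_left (by
    intro y hy
    obtain ⟨w, hw, z, hz, rfl⟩ := Submodule.mem_sup.mp hy
    obtain ⟨c, rfl⟩ := Submodule.mem_span_singleton.mp hz
    rw [QuadraticMap.map_add (⇑Q), hW w hw, QuadraticMap.map_smul, hx,
      QuadraticMap.polar_smul_right, hxW w hw]
    simp)
  rw [← h]
  exact Submodule.mem_sup_right (Submodule.mem_span_singleton_self x)

/-- Witt index is well defined: if Q is a quadratic form on a finite-dimensional space V over a finite field with non-degenerate polar form, and W₁, W₂ are subspaces on which Q vanishes that are maximal with this property, then W₁ and W₂ have the same dimension, and twice this dimension is at most dim V. -/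
theorem result {F V : Type*} [Field F] [Finite F] [AddCommGroup V] [Module F V] [FiniteDimensional F V] (Q : QuadraticForm F V) (hQ : (QuadraticMap.polarBilin Q).Nondegenerate) (W₁ W₂ : Submodule F V) (h₁ : ∀ w ∈ W₁, Q w = 0) (h₂ : ∀ w ∈ W₂, Q w = 0) (hmax₁ : ∀ W : Submodule F V, W₁ ≤ W → (∀ w ∈ W, Q w = 0) → W = W₁) (hmax₂ : ∀ W : Submodule F V, W₂ ≤ W → (∀ w ∈ W, Q w = 0) → W = W₂) : Module.finrank F W₁ = Module.finrank F W₂ ∧ 2 * Module.finrank F W₁ ≤ Module.finrank F V := by
  set B : LinearMap.BilinForm F V := QuadraticMap.polarBilin Q with hB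
  have hBapp : ∀ x y, B x y = QuadraticMap.polar Q x y := fun x y => rfl
  have hsymm : ∀ x y, B x y = B y x := by
    intro x y
    rw [hBapp, hBapp, QuadraticMap.polar_comm]
  have hrefl : B.IsRefl := by
    intro x y h
    rw [hsymm]; exact h
  -- totally singular subspaces are totally isotropic
  have hiso : ∀ (W : Submodule F V), (∀ w ∈ W, Q w = 0) → W ≤ B.orthogonal W := by
    intro W hW x hx
    rw [mem_orthogonal_iff]
    intro n hn
    rw [hBapp]
    unfold QuadraticMap.polar
    rw [hW _ (W.add_mem hn hx), hW n hn, hW x hx]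
    simp
  have hle₁ := hiso W₁ h₁
  have hle₂ := hiso W₂ h₂
  have hfr₁ := finrank_orthogonal hQ W₁
  have hfr₂ := finrank_orthogonal hQ W₂
  have hWle₁ : Module.finrank F W₁ ≤ Module.finrank F V := Submodule.finrank_le W₁
  have hWle₂ : Module.finrank F W₂ ≤ Module.finrank F V := Submodule.finrank_le W₂
  have hmono₁ := Submodule.finrank_mono hle₁
  refine ⟨?_, by omega⟩
  -- the key identities
  have hD₁ : B.orthogonal W₁ ⊓ W₂ = W₁ ⊓ W₂ := by
    apply le_antisymm
    · rintro x ⟨hx1, hx2⟩
      refine ⟨?_, hx2⟩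
      apply mem_of_maximal Q W₁ h₁ hmax₁ x (h₂ x hx2)
      intro w hw
      exact hx1 w hw
    · rintro x ⟨hx1, hx2⟩
      exact ⟨hle₁ hx1, hx2⟩
  have hD₂ : W₁ ⊓ B.orthogonal W₂ = W₁ ⊓ W₂ := by
    apply le_antisymm
    · rintro x ⟨hx1, hx2⟩
      refine ⟨hx1, ?_⟩
      apply mem_of_maximal Q W₂ h₂ hmax₂ x (h₁ x hx1)
      intro w hw
      exact hx2 w hw
    · rintro x ⟨hx1, hx2⟩
      exact ⟨hx1, hle₂ hx2⟩
  have horth : B.orthogonal (B.orthogonal W₁ ⊔ W₂) = W₁ ⊓ B.orthogonal W₂ := by
    ext x
    have key : ∀ N : Submodule F V, x ∈ B.orthogonal N ↔ N ≤ LinearMap.ker (B.flip x) := by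
      intro N
      rw [mem_orthogonal_iff]
      constructor
      · intro h n hn
        rw [LinearMap.mem_ker, LinearMap.BilinForm.flip_apply]
        exact h n hn
      · intro h n hn
        have := h hn
        rw [LinearMap.mem_ker, LinearMap.BilinForm.flip_apply] at this
        exact this
    rw [key, sup_le_iff, ← key, ← key, orthogonal_orthogonal hQ hrefl, Submodule.mem_inf]
  have h1 := finrank_orthogonal hQ (B.orthogonal W₁ ⊔ W₂)
  rw [horth, hD₂] at h1
  have h2 := Submodule.finrank_sup_add_finrank_inf_eq (B.orthogonal W₁) W₂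
  rw [hD₁] at h2
  have h3 : Module.finrank F ↥(B.orthogonal W₁ ⊔ W₂) ≤ Module.finrank F V := Submodule.finrank_le _
  have h4 : Module.finrank F ↥(W₁ ⊓ W₂) ≤ Module.finrank F W₁ := Submodule.finrank_mono inf_le_left
  omega

end Cfsg.Agent.S0760
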