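import Cfsg.Statements.S0761


set_option autoImplicit false
open Cfsg

namespace Cfsg.Agent.S0761

/-- Hyperbolic partners: let B be a non-degenerate bilinear form on a finite-dimensional space, either alternating, or symmetric with 2 ≠ 0. If Z is a subspace on which B vanishes, x ∉ Z is isotropic and orthogonal to Z, then there is an isotropic y with B x y = 1 which is orthogonal to Z. -/
theorem result {F V : Type*} [Field F] [AddCommGroup V] [Module F V] [FiniteDimensional F V] (B : LinearMap.BilinForm F V) (hB : B.Nondegenerate) (hform : B.IsAlt ∨ (B.IsSymm ∧ (2 : F) ≠ 0)) (x : V) (Z : Submodule F V) (hxZ : x ∉ Z) (hx : B x x = 0) (hxz : ∀ z ∈ Z, B x z = 0) (hZ : ∀ z ∈ Z, ∀ z' ∈ Z, B z z' = 0) : ∃ y : V, B y y = 0 ∧ B x y = 1 ∧ ∀ z ∈ Z, B z y = 0 := by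
  obtain ⟨φ, hφx, hφZ⟩ := Submodule.exists_le_ker_of_notMem hxZ
  -- normalise so that the functional takes value 1 at x
  let ψ : V →ₗ[F] F := (φ x)⁻¹ • φ
  have hψx : ψ x = 1 := by
    simp [ψ, hφx]
  have hψZ : ∀ z ∈ Z, ψ z = 0 := by
    intro z hz
    have : φ z = 0 := hφZ hz
    simp [ψ, this]
  have hBf : (LinearMap.BilinForm.flip B).Nondegenerate := LinearMap.BilinForm.Nondegenerate.flip hB
  let y₀ : V := ((LinearMap.BilinForm.flip B).toDual hBf).symm ψ
  have hy₀ : ∀ w : V, B w y₀ = ψ w := by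
    intro w
    have := LinearMap.BilinForm.apply_toDual_symm_apply (B := LinearMap.BilinForm.flip B)
      (hB := hBf) ψ w
    rw [LinearMap.BilinForm.flip_apply] at this
    exact this
  have hzx : ∀ z ∈ Z, B z x = 0 := by
    intro z hz
    rcases hform with hA | ⟨hS, _⟩
    · exact (hA.eq_iff).mp (hxz z hz)
    · exact (hS.eq_iff).mp (hxz z hz)
  rcases hform with hA | ⟨hS, h2⟩
  · refine ⟨y₀, hA.self_eq_zero y₀, ?_, ?_⟩
    · rw [hy₀, hψx]
    · intro z hz
      rw [hy₀, hψZ z hz]
  · refine ⟨y₀ + (-(B y₀ y₀) / 2) • x, ?_, ?_, ?_⟩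
    · have hs : B y₀ x = B x y₀ := by
        have := hS.eq x y₀
        simpa using this.symm
      simp only [map_add, map_smul, LinearMap.add_apply, LinearMap.smul_apply, smul_eq_mul, hx,
        hs, hy₀ x, hψx]
      field_simp
      ring
    · simp only [map_add, map_smul, smul_eq_mul, hx, hy₀ x, hψx]
      ring
    · intro z hz
      simp only [map_add, map_smul, smul_eq_mul, hzx z hz, hy₀ z, hψZ z hz]
      ring

end Cfsg.Agent.S0761
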