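import Cfsg.Statements.S0762


set_option autoImplicit false
open Cfsg

namespace Cfsg.Agent.S0762

/-- In characteristic two over a finite field, a quadratic form on a space of dimension at least 3 vanishes on some non-zero vector. -/
theorem result {F V : Type*} [Field F] [Finite F] [CharP F 2] [AddCommGroup V] [Module F V] [FiniteDimensional F V] (Q : QuadraticForm F V) (h3 : 3 ≤ Module.finrank F V) : ∃ v : V, v ≠ 0 ∧ Q v = 0 := by
  classical
  have hpos : 0 < Module.finrank F V := by omega
  obtain ⟨v, hv⟩ := Module.finrank_pos_iff_exists_ne_zero.mp hpos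
  by_cases hQv : Q v = 0
  · exact ⟨v, hv, hQv⟩
  let f : V →ₗ[F] F := QuadraticMap.polarBilin Q v
  have hrk := LinearMap.finrank_range_add_finrank_ker f
  have hrange : Module.finrank F (LinearMap.range f) ≤ 1 := by
    have := Submodule.finrank_le (LinearMap.range f)
    rwa [Module.finrank_self] at this
  have hker : 2 ≤ Module.finrank F (LinearMap.ker f) := by omega
  have hnle : ¬ (LinearMap.ker f ≤ Submodule.span F {v}) := by
    intro hle
    have h1 := Submodule.finrank_mono hle
    have h2 : Module.finrank F (Submodule.span F {v}) = 1 := finrank_span_singleton hv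
    omega
  obtain ⟨w, hwker, hwspan⟩ := Set.not_subset.mp hnle
  have hfw : QuadraticMap.polar (⇑Q) v w = 0 := by
    have : f w = 0 := hwker
    simpa [f] using this
  have hchar : ringChar F = 2 := ringChar.eq F 2
  haveI : Fintype F := Fintype.ofFinite F
  obtain ⟨a, ha⟩ := FiniteField.isSquare_of_char_two hchar (Q w / Q v)
  refine ⟨a • v + w, ?_, ?_⟩
  · intro h
    apply hwspan
    have : w = (-a) • v := by
      rw [neg_smul]
      exact eq_neg_of_add_eq_zero_right h
    rw [this]
    exact Submodule.smul_mem _ _ (Submodule.mem_span_singleton_self v)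
  · rw [QuadraticMap.map_add (⇑Q), QuadraticMap.map_smul, QuadraticMap.polar_smul_left, hfw,
      smul_zero, add_zero, smul_eq_mul, ← ha]
    have h2 : (2 : F) = 0 := CharTwo.two_eq_zero
    field_simp
    linear_combination (Q w) * h2

end Cfsg.Agent.S0762
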