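import Cfsg.Statements.S0763

set_option autoImplicit false
open Cfsg

namespace Cfsg.Agent.S0763

theorem linIndep_of_polar {F V : Type*} [Field F] [CharP F 2] [AddCommGroup V] [Module F V]
    (Q : QuadraticForm F V) (v w : V) (h : QuadraticMap.polar Q v w = 1) :
    LinearIndependent F ![v, w] := by
  have h2 : (2 : F) = 0 := CharTwo.two_eq_zero
  have hvv : QuadraticMap.polar Q v v = 0 := by
    rw [QuadraticMap.polar_self, two_smul]
    have : Q v + Q v = 2 * Q v := by ring
    rw [this, h2, zero_mul]
  have hww : QuadraticMap.polar Q w w = 0 := by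
    rw [QuadraticMap.polar_self, two_smul]
    have : Q w + Q w = 2 * Q w := by ring
    rw [this, h2, zero_mul]
  rw [LinearIndependent.pair_iff]
  intro s t hst
  have h1 : QuadraticMap.polar Q v (s • v + t • w) = 0 := by
    rw [hst, QuadraticMap.polar_zero_right]
  have h3 : QuadraticMap.polar Q (s • v + t • w) w = 0 := by
    rw [hst, QuadraticMap.polar_zero_left]
  rw [QuadraticMap.polar_add_right, QuadraticMap.polar_smul_right, QuadraticMap.polar_smul_right,
    hvv, h, smul_eq_mul, smul_eq_mul, mul_zero, zero_add, mul_one] at h1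
  rw [QuadraticMap.polar_add_left, QuadraticMap.polar_smul_left, QuadraticMap.polar_smul_left,
    hww, h, smul_eq_mul, smul_eq_mul, mul_zero, add_zero, mul_one] at h3
  exact ⟨h3, h1⟩

theorem exists_partner {F V : Type*} [Field F] [AddCommGroup V] [Module F V]
    (Q : QuadraticForm F V) (hQ : (QuadraticMap.polarBilin Q).Nondegenerate) (v : V) (hv : v ≠ 0) :
    ∃ w : V, QuadraticMap.polar Q v w = 1 := by
  have : ∃ y, QuadraticMap.polar Q v y ≠ 0 := by
    by_contra hcon
    push Not at hcon
    exact hv (hQ.1 v (fun y => by simpa using hcon y))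
  obtain ⟨y, hy⟩ := this
  refine ⟨(QuadraticMap.polar Q v y)⁻¹ • y, ?_⟩
  rw [QuadraticMap.polar_smul_right, smul_eq_mul, inv_mul_cancel₀ hy]

/-- Binary quadratic forms in characteristic two over a finite field: if Q is a quadratic form on a 2-dimensional space whose polar form is non-degenerate, then either there are vectors v, w with Q v = Q w = 0 and polar value 1 (Q is xy in these coordinates), or there are v, w and μ with Q v = 1, Q w = μ, polar value 1 and x² + x + μ without roots in F (Q is x² + xy + μy²). -/
theorem result {F V : Type*} [Field F] [Finite F] [CharP F 2] [AddCommGroup V] [Module F V] (Q : QuadraticForm F V) (h2 : Module.finrank F V = 2) (hQ : (QuadraticMap.polarBilin Q).Nondegenerate) : (∃ v w : V, LinearIndependent F ![v, w] ∧ Q v = 0 ∧ Q w = 0 ∧ QuadraticMap.polar Q v w = 1) ∨ (∃ (v w : V) (μ : F), LinearIndependent F ![v, w] ∧ (∀ x : F, x ^ 2 + x + μ ≠ 0) ∧ Q v = 1 ∧ Q w = μ ∧ QuadraticMap.polar Q v w = 1) := by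
  classical
  have htwo : (2 : F) = 0 := CharTwo.two_eq_zero
  have hpolar_self : ∀ v : V, QuadraticMap.polar Q v v = 0 := by
    intro v
    rw [QuadraticMap.polar_self, two_smul]
    have : Q v + Q v = 2 * Q v := by ring
    rw [this, htwo, zero_mul]
  have hadd_self : ∀ a : F, a + a = 0 := by
    intro a
    have : a + a = 2 * a := by ring
    rw [this, htwo, zero_mul]
  by_cases hiso : ∃ v : V, v ≠ 0 ∧ Q v = 0
  · left
    obtain ⟨v, hv, hQv⟩ := hiso
    obtain ⟨w', hw'⟩ := exists_partner Q hQ v hv
    refine ⟨v, w' + Q w' • v, ?_, hQv, ?_, ?_⟩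
    · apply linIndep_of_polar Q
      rw [QuadraticMap.polar_add_right, QuadraticMap.polar_smul_right, hpolar_self, hw']
      simp
    · rw [QuadraticMap.map_add (⇑Q), QuadraticMap.map_smul, hQv, QuadraticMap.polar_smul_right,
        QuadraticMap.polar_comm, hw']
      simp only [smul_eq_mul, mul_zero, add_zero, mul_one]
      exact hadd_self _
    · rw [QuadraticMap.polar_add_right, QuadraticMap.polar_smul_right, hpolar_self, hw']
      simp
  · right
    push Not at hiso
    have hpos : 0 < Module.finrank F V := by omega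
    haveI : Module.Finite F V := Module.finite_of_finrank_pos hpos
    obtain ⟨v₀, hv₀⟩ := Module.finrank_pos_iff_exists_ne_zero.mp hpos
    have hQv₀ : Q v₀ ≠ 0 := hiso v₀ hv₀
    have hchar : ringChar F = 2 := ringChar.eq F 2
    haveI : Fintype F := Fintype.ofFinite F
    obtain ⟨s, hs⟩ := FiniteField.isSquare_of_char_two hchar (Q v₀)
    have hs0 : s ≠ 0 := by
      rintro rfl
      apply hQv₀
      rw [hs, mul_zero]
    set v := s⁻¹ • v₀ with hv_def
    have hv : v ≠ 0 := smul_ne_zero (inv_ne_zero hs0) hv₀
    have hQv : Q v = 1 := by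
      rw [hv_def, QuadraticMap.map_smul, hs, smul_eq_mul]
      field_simp
    obtain ⟨w, hw⟩ := exists_partner Q hQ v hv
    refine ⟨v, w, Q w, linIndep_of_polar Q v w hw, ?_, hQv, rfl, hw⟩
    intro x hx
    have hli := linIndep_of_polar Q v w hw
    have hne : x • v + w ≠ 0 := by
      intro h0
      have := (LinearIndependent.pair_iff.mp hli) x 1 (by rw [one_smul]; exact h0)
      exact one_ne_zero this.2
    apply hiso _ hne
    rw [QuadraticMap.map_add (⇑Q), QuadraticMap.map_smul, hQv, QuadraticMap.polar_smul_left, hw]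
    simp only [smul_eq_mul, mul_one]
    linear_combination hx

end Cfsg.Agent.S0763
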