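import Cfsg.Statements.S0767
import Cfsg.Agent.Lib.Helper13.Symp

set_option autoImplicit false
open Cfsg

namespace Cfsg.Agent.S0767

open Matrix in
/-- The root group of a point: T_v(c) T_v(d) = T_v(c + d), and for A in the symplectic group with A v = a v, the conjugate A T_v(c) A⁻¹ is again some T_v(d). -/
theorem result {F : Type*} [Field F] (m : ℕ) (v : Fin m ⊕ Fin m → F) : (∀ c d : F, Cfsg.sympTransvection m v c * Cfsg.sympTransvection m v d = Cfsg.sympTransvection m v (c + d)) ∧ ∀ (A : Matrix (Fin m ⊕ Fin m) (Fin m ⊕ Fin m) F) (a : F), A ∈ Matrix.symplecticGroup (Fin m) F → A.mulVec v = a • v → ∀ c : F, ∃ d : F, A * Cfsg.sympTransvection m v c * A⁻¹ = Cfsg.sympTransvection m v d := by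
  refine ⟨fun c d => Cfsg.Agent.Lib.Helper13.sympTransvection_mul m v c d, ?_⟩
  intro A a hA hAv c
  refine ⟨c * a ^ 2, ?_⟩
  have hdet : IsUnit A.det := SymplecticGroup.symplectic_det hA
  have hdetT : IsUnit Aᵀ.det := by rw [det_transpose]; exact hdet
  have hA' := (SymplecticGroup.mem_iff').mp hA
  have h1 : (Aᵀ)⁻¹ * J (Fin m) F = J (Fin m) F * A := by
    have : (Aᵀ)⁻¹ * (Aᵀ * J (Fin m) F * A) = (Aᵀ)⁻¹ * J (Fin m) F := by rw [hA']
    rw [← this, Matrix.mul_assoc, ← Matrix.mul_assoc, Matrix.nonsing_inv_mul _ hdetT,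
      Matrix.one_mul]
  have h2 : (J (Fin m) F *ᵥ v) ᵥ* A⁻¹ = a • (J (Fin m) F *ᵥ v) := by
    rw [← mulVec_transpose, transpose_nonsing_inv, mulVec_mulVec, h1, ← mulVec_mulVec, hAv,
      mulVec_smul]
  unfold Cfsg.sympTransvection
  rw [mul_add, add_mul, mul_one, Matrix.mul_nonsing_inv _ hdet, Matrix.mul_smul, Matrix.smul_mul,
    mul_vecMulVec, vecMulVec_mul, hAv, h2, smul_vecMulVec, vecMulVec_smul, smul_smul, smul_smul]
  congr 2
  ring

end Cfsg.Agent.S0767
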