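import Cfsg.Statements.S0769

set_option autoImplicit false
open Cfsg

namespace Cfsg.Agent.S0769

theorem card_lower_pairs (n : ℕ) :
    Nat.card {p : Fin n × Fin n // p.2 < p.1} = n * (n - 1) / 2 := by
  have e : {p : Fin n × Fin n // p.2 < p.1} ≃ Σ i : Fin n, Fin (i : ℕ) :=
    { toFun := fun p => ⟨p.1.1, ⟨(p.1.2 : ℕ), p.2⟩⟩
      invFun := fun s => ⟨(s.1, ⟨(s.2 : ℕ), s.2.2.trans s.1.2⟩), s.2.2⟩
      left_inv := by
        rintro ⟨⟨i, j⟩, h⟩
        rfl
      right_inv := by
        rintro ⟨i, j⟩
        rfl }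
  rw [Nat.card_congr e, Nat.card_sigma]
  simp only [Nat.card_eq_fintype_card, Fintype.card_fin]
  rw [Fin.sum_univ_eq_sum_range (fun i => i) n, Finset.sum_range_id]

/-- Order of the Borel subgroup of GL_n(q): the invertible lower-triangular n × n matrices over a field with q elements number q^(n(n-1)/2) (q-1)^n (unitriangular part times the diagonal torus). -/
theorem result {F : Type*} [Field F] [Fintype F] {q : ℕ} (hF : Fintype.card F = q) (n : ℕ) : Nat.card {g : Matrix.GeneralLinearGroup (Fin n) F // ∀ i j : Fin n, i < j → (g : Matrix (Fin n) (Fin n) F) i j = 0} = q ^ (n * (n - 1) / 2) * (q - 1) ^ n := by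
  classical
  have hdiag : ∀ g : {g : Matrix.GeneralLinearGroup (Fin n) F //
      ∀ i j : Fin n, i < j → (g : Matrix (Fin n) (Fin n) F) i j = 0},
      ∀ i, (g.1 : Matrix (Fin n) (Fin n) F) i i ≠ 0 := by
    intro g i
    have hdet : (g.1 : Matrix (Fin n) (Fin n) F).det = ∏ i, (g.1 : Matrix (Fin n) (Fin n) F) i i :=
      Matrix.det_of_isLowerTriangular _ (fun i j hij => g.2 i j hij)
    have hunit : IsUnit (g.1 : Matrix (Fin n) (Fin n) F).det :=
      (Matrix.isUnit_iff_isUnit_det _).mp g.1.isUnit
    rw [hdet] at hunit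
    exact (Finset.prod_ne_zero_iff.mp hunit.ne_zero) i (Finset.mem_univ i)
  let Φ : {g : Matrix.GeneralLinearGroup (Fin n) F //
      ∀ i j : Fin n, i < j → (g : Matrix (Fin n) (Fin n) F) i j = 0} →
      (Fin n → Fˣ) × ({p : Fin n × Fin n // p.2 < p.1} → F) :=
    fun g => (fun i => Units.mk0 _ (hdiag g i),
      fun p => (g.1 : Matrix (Fin n) (Fin n) F) p.1.1 p.1.2)
  have hinj : Function.Injective Φ := by
    intro g h hgh
    apply Subtype.ext
    apply Units.ext
    ext i j
    rcases lt_trichotomy i j with hij | hij | hij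
    · rw [g.2 i j hij, h.2 i j hij]
    · subst hij
      have := congrFun (congrArg Prod.fst hgh) i
      simp only [Φ] at this
      exact congrArg Units.val this
    · have := congrFun (congrArg Prod.snd hgh) ⟨(i, j), hij⟩
      simpa [Φ] using this
  have hsurj : Function.Surjective Φ := by
    rintro ⟨d, s⟩
    let M : Matrix (Fin n) (Fin n) F := fun i j =>
      if h : j < i then s ⟨(i, j), h⟩ else if i = j then (d i : F) else 0
    have hM : ∀ i j : Fin n, i < j → M i j = 0 := by
      intro i j hij
      simp only [M]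
      rw [dif_neg (not_lt.mpr hij.le), if_neg hij.ne]
    have hMdiag : ∀ i, M i i = (d i : F) := by
      intro i
      simp only [M]
      rw [dif_neg (lt_irrefl i)]
      simp
    have hdet : M.det = ∏ i, M i i :=
      Matrix.det_of_isLowerTriangular _ (fun i j hij => hM i j hij)
    have hdet0 : M.det ≠ 0 := by
      rw [hdet, Finset.prod_ne_zero_iff]
      intro i _
      rw [hMdiag]
      exact (d i).ne_zero
    refine ⟨⟨Matrix.GeneralLinearGroup.mkOfDetNeZero M hdet0, hM⟩, ?_⟩
    apply Prod.ext
    · funext i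
      apply Units.ext
      simp only [Φ, Units.val_mk0]
      exact hMdiag i
    · funext p
      simp only [Φ]
      change M p.1.1 p.1.2 = s p
      simp only [M]
      rw [dif_pos p.2]
  rw [Nat.card_congr (Equiv.ofBijective Φ ⟨hinj, hsurj⟩), Nat.card_prod, Nat.card_fun, Nat.card_fun,
    card_lower_pairs, Nat.card_units, Nat.card_eq_fintype_card, Nat.card_eq_fintype_card, hF,
    Fintype.card_fin, mul_comm]

end Cfsg.Agent.S0769
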