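import Cfsg.Statements.S0770

set_option autoImplicit false
open Cfsg

namespace Cfsg.Agent.S0770

open Matrix

variable {F : Type*} [Field F] {n : ℕ}

/-- The diagonal torus. -/
abbrev torus (F : Type*) [Field F] (n : ℕ) : Subgroup (Matrix.GeneralLinearGroup (Fin n) F) :=
  (Units.map (Matrix.diagonalRingHom (Fin n) F).toMonoidHom).range

/-- A unit of the function ring from a nowhere-vanishing function. -/
def unitOfNe (d : Fin n → F) (hd : ∀ i, d i ≠ 0) : (Fin n → F)ˣ where
  val := d
  inv := fun i => (d i)⁻¹
  val_inv := by
    funext i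
    simp [hd i]
  inv_val := by
    funext i
    simp [hd i]

theorem coe_map_unitOfNe (d : Fin n → F) (hd : ∀ i, d i ≠ 0) :
    ((Units.map (Matrix.diagonalRingHom (Fin n) F).toMonoidHom (unitOfNe d hd) :
      Matrix.GeneralLinearGroup (Fin n) F) : Matrix (Fin n) (Fin n) F) = Matrix.diagonal d := rfl

theorem mem_torus_iff (t : Matrix.GeneralLinearGroup (Fin n) F) :
    t ∈ torus F n ↔ ∃ d : Fin n → F, (∀ i, d i ≠ 0) ∧
      (t : Matrix (Fin n) (Fin n) F) = Matrix.diagonal d := by
  constructor
  · rintro ⟨u, rfl⟩
    refine ⟨(u : Fin n → F), ?_, rfl⟩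
    intro i hi
    have h1 := congrFun u.val_inv i
    simp only [Pi.mul_apply, Pi.one_apply, hi, zero_mul] at h1
    exact zero_ne_one h1
  · rintro ⟨d, hd, ht⟩
    refine ⟨unitOfNe d hd, ?_⟩
    apply Units.ext
    rw [coe_map_unitOfNe, ht]

/-- For a field with at least 3 elements, an invertible matrix normalises the subgroup of invertible diagonal matrices of GL_n if and only if it is monomial (exactly one non-zero entry in each row). -/
theorem result {F : Type*} [Field F] (hF : ∃ a : F, a ≠ 0 ∧ a ≠ 1) (n : ℕ) (g : Matrix.GeneralLinearGroup (Fin n) F) : g ∈ Subgroup.normalizer ((Units.map (Matrix.diagonalRingHom (Fin n) F).toMonoidHom).range : Subgroup (Matrix.GeneralLinearGroup (Fin n) F)) ↔ ∀ i : Fin n, ∃! j : Fin n, (g : Matrix (Fin n) (Fin n) F) i j ≠ 0 := by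
  classical
  change g ∈ Subgroup.normalizer (torus F n : Subgroup (Matrix.GeneralLinearGroup (Fin n) F)) ↔ _
  have hdet : (g : Matrix (Fin n) (Fin n) F).det ≠ 0 := by
    have := (Matrix.isUnit_iff_isUnit_det _).mp g.isUnit
    exact this.ne_zero
  constructor
  · intro hg
    rw [Subgroup.mem_normalizer_iff] at hg
    intro i
    have hex : ∃ j, (g : Matrix (Fin n) (Fin n) F) i j ≠ 0 := by
      by_contra hcon
      push Not at hcon
      exact hdet (Matrix.det_eq_zero_of_row_eq_zero i hcon)
    obtain ⟨j, hj⟩ := hex
    refine ⟨j, hj, ?_⟩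
    intro k hk
    by_contra hkj
    obtain ⟨a, ha0, ha1⟩ := hF
    -- the diagonal matrix with `a` at position `j`
    let d : Fin n → F := Function.update (fun _ => (1 : F)) j a
    have hd : ∀ i, d i ≠ 0 := by
      intro i
      by_cases hij : i = j
      · simp [d, hij, ha0]
      · simp [d, hij]
    let t : Matrix.GeneralLinearGroup (Fin n) F :=
      Units.map (Matrix.diagonalRingHom (Fin n) F).toMonoidHom (unitOfNe d hd)
    have ht : t ∈ torus F n := ⟨unitOfNe d hd, rfl⟩
    have ht' := (hg t).mp ht
    obtain ⟨d', _, hd'⟩ := (mem_torus_iff _).mp ht'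
    -- g * t = t' * g
    have hcomm : (g : Matrix (Fin n) (Fin n) F) * Matrix.diagonal d
        = Matrix.diagonal d' * (g : Matrix (Fin n) (Fin n) F) := by
      rw [← hd']
      have : g * t = (g * t * g⁻¹) * g := by group
      have h2 := congrArg Units.val this
      rw [Units.val_mul, Units.val_mul (g * t * g⁻¹) g] at h2
      exact h2
    have h1 := congrFun (congrFun hcomm i) j
    have h2 := congrFun (congrFun hcomm i) k
    rw [Matrix.mul_diagonal, Matrix.diagonal_mul] at h1 h2
    have hdj : d j = a := by simp [d]
    have hdk : d k = 1 := by simp [d, hkj]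
    rw [hdj] at h1
    rw [hdk, mul_one] at h2
    have h3 : d' i = a := by
      have : (g : Matrix (Fin n) (Fin n) F) i j * (a - d' i) = 0 := by linear_combination h1
      rcases mul_eq_zero.mp this with h | h
      · exact absurd h hj
      · exact (sub_eq_zero.mp h).symm
    have h4 : d' i = 1 := by
      have : (g : Matrix (Fin n) (Fin n) F) i k * (1 - d' i) = 0 := by linear_combination h2
      rcases mul_eq_zero.mp this with h | h
      · exact absurd h hk
      · exact (sub_eq_zero.mp h).symm
    exact ha1 (h3.symm.trans h4)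
  · intro hmon
    choose π hπ hπuniq using hmon
    have hzero : ∀ i j, j ≠ π i → (g : Matrix (Fin n) (Fin n) F) i j = 0 := by
      intro i j hj
      by_contra h
      exact hj (hπuniq i j h)
    -- π is surjective, hence bijective
    have hsurj : Function.Surjective π := by
      intro j
      by_contra hcon
      push Not at hcon
      apply hdet
      apply Matrix.det_eq_zero_of_column_eq_zero j
      intro i
      exact hzero i j (fun h => hcon i h.symm)
    have hbij : Function.Bijective π := (Finite.injective_iff_surjective.mpr hsurj) |> fun hi => ⟨hi, hsurj⟩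
    -- key commutation
    have hcomm : ∀ d : Fin n → F, (g : Matrix (Fin n) (Fin n) F) * Matrix.diagonal d
        = Matrix.diagonal (d ∘ π) * (g : Matrix (Fin n) (Fin n) F) := by
      intro d
      ext i j
      rw [Matrix.mul_diagonal, Matrix.diagonal_mul]
      by_cases hj : j = π i
      · rw [hj, Function.comp_apply, mul_comm]
      · rw [hzero i j hj, zero_mul, mul_zero]
    rw [Subgroup.mem_normalizer_iff]
    intro h
    constructor
    · intro hh
      obtain ⟨d, hd, hhd⟩ := (mem_torus_iff h).mp hh
      rw [mem_torus_iff]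
      refine ⟨d ∘ π, fun i => hd (π i), ?_⟩
      have h1 : (g * h * g⁻¹ : Matrix.GeneralLinearGroup (Fin n) F)
          = Units.map (Matrix.diagonalRingHom (Fin n) F).toMonoidHom
              (unitOfNe (d ∘ π) (fun i => hd (π i))) := by
        rw [mul_inv_eq_iff_eq_mul]
        apply Units.ext
        rw [Units.val_mul, Units.val_mul, coe_map_unitOfNe, hhd]
        exact hcomm d
      rw [h1, coe_map_unitOfNe]
    · intro hh
      obtain ⟨d', hd', hhd'⟩ := (mem_torus_iff _).mp hh
      let e := Equiv.ofBijective π hbij
      let d : Fin n → F := d' ∘ e.symm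
      have hdπ : d ∘ π = d' := by
        funext i
        simp only [d, Function.comp_apply]
        congr 1
        exact e.symm_apply_apply i
      have hd : ∀ i, d i ≠ 0 := fun i => hd' _
      rw [mem_torus_iff]
      refine ⟨d, hd, ?_⟩
      have h1 : h = Units.map (Matrix.diagonalRingHom (Fin n) F).toMonoidHom (unitOfNe d hd) := by
        have h2 : g * Units.map (Matrix.diagonalRingHom (Fin n) F).toMonoidHom (unitOfNe d hd)
            = (g * h * g⁻¹) * g := by
          apply Units.ext
          rw [Units.val_mul, Units.val_mul, coe_map_unitOfNe, hhd', hcomm d, hdπ]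
        have h3 : (g * h * g⁻¹) * g = g * h := by group
        rw [h3] at h2
        exact (mul_left_cancel h2).symm
      rw [h1, coe_map_unitOfNe]

end Cfsg.Agent.S0770
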