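import Cfsg.Statements.S0771
import Cfsg.Agent.Lib.Helper13.Parabolic

set_option autoImplicit false
open Cfsg

namespace Cfsg.Agent.S0771

open Matrix Cfsg.Agent.Lib.Helper13

theorem card_matrix_aux {F : Type*} [Field F] [Fintype F] (a b : ℕ) :
    Nat.card (Matrix (Fin a) (Fin b) F) = Fintype.card F ^ (a * b) := by
  have : Nat.card (Matrix (Fin a) (Fin b) F) = Nat.card (Fin a → Fin b → F) := rfl
  rw [this, Nat.card_eq_fintype_card, Fintype.card_fun, Fintype.card_fun, Fintype.card_fin,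
    Fintype.card_fin, ← pow_mul, mul_comm]

/-- Maximal parabolic of GL_n(q): the stabiliser of the coordinate subspace spanned by the first k basis vectors has order q^(k(n-k)) · |GL_k(q)| · |GL_(n-k)(q)| (unipotent radical of order q^(k(n-k)) and Levi complement GL_k × GL_(n-k)). -/
theorem result {F : Type*} [Field F] [Fintype F] {q : ℕ} (hF : Fintype.card F = q) (n k : ℕ) (hk : k ≤ n) : Nat.card ↥(Cfsg.stabilizing (Cfsg.glToMat (Fin n) F) {v : Fin n → F | ∀ i : Fin n, k ≤ (i : ℕ) → v i = 0}) = q ^ (k * (n - k)) * (∏ i : Fin k, (q ^ k - q ^ (i : ℕ))) * ∏ i : Fin (n - k), (q ^ (n - k) - q ^ (i : ℕ)) := by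
  classical
  have hkn : k + (n - k) = n := by omega
  let e : Fin k ⊕ Fin (n - k) ≃ Fin n := finSumFinEquiv.trans (finCongr hkn)
  have hel : ∀ a : Fin k, ((e (Sum.inl a) : Fin n) : ℕ) = a := by
    intro a
    simp [e]
  have her : ∀ b : Fin (n - k), ((e (Sum.inr b) : Fin n) : ℕ) = k + b := by
    intro b
    simp [e]
  have hsymm_l : ∀ j : Fin n, (j : ℕ) < k → ∃ a, e.symm j = Sum.inl a := by
    intro j hj
    rcases h : e.symm j with a | b
    · exact ⟨a, rfl⟩
    · exfalso
      have : j = e (Sum.inr b) := by rw [← h, Equiv.apply_symm_apply]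
      rw [this, her] at hj
      omega
  have hsymm_r : ∀ i : Fin n, k ≤ (i : ℕ) → ∃ b, e.symm i = Sum.inr b := by
    intro i hi
    rcases h : e.symm i with a | b
    · exfalso
      have : i = e (Sum.inl a) := by rw [← h, Equiv.apply_symm_apply]
      rw [this, hel] at hi
      have := a.2
      omega
    · exact ⟨b, rfl⟩
  have hdetGL : ∀ (r : ℕ) (A : GL (Fin r) F), (A : Matrix (Fin r) (Fin r) F).det ≠ 0 :=
    fun r A => (Matrix.isUnits_det_units A).ne_zero
  have hdet : ∀ (A : GL (Fin k) F) (B : Matrix (Fin k) (Fin (n - k)) F) (D : GL (Fin (n - k)) F),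
      (Matrix.reindex e e (Matrix.fromBlocks (A : Matrix (Fin k) (Fin k) F) B 0
        (D : Matrix (Fin (n - k)) (Fin (n - k)) F))).det ≠ 0 := by
    intro A B D
    rw [Matrix.det_reindex_self, Matrix.det_fromBlocks_zero₂₁]
    exact mul_ne_zero (hdetGL _ A) (hdetGL _ D)
  let Ψ : GL (Fin k) F × Matrix (Fin k) (Fin (n - k)) F × GL (Fin (n - k)) F →
      ↥(Cfsg.stabilizing (Cfsg.glToMat (Fin n) F)
        {v : Fin n → F | ∀ i : Fin n, k ≤ (i : ℕ) → v i = 0}) :=
    fun x => ⟨Matrix.GeneralLinearGroup.mkOfDetNeZero _ (hdet x.1 x.2.1 x.2.2), by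
      rw [mem_stabilizing_coord_iff]
      intro i j hi hj
      obtain ⟨a, ha⟩ := hsymm_l j hj
      obtain ⟨b, hb⟩ := hsymm_r i hi
      rw [Matrix.GeneralLinearGroup.val_mkOfDetNeZero]
      simp [ha, hb]⟩
  have hΨval : ∀ x, ((Ψ x : Matrix.GeneralLinearGroup (Fin n) F) : Matrix (Fin n) (Fin n) F)
      = Matrix.reindex e e (Matrix.fromBlocks (x.1 : Matrix (Fin k) (Fin k) F) x.2.1 0
        (x.2.2 : Matrix (Fin (n - k)) (Fin (n - k)) F)) := by
    intro x
    rfl
  have hbij : Function.Bijective Ψ := by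
    constructor
    · rintro ⟨A, B, D⟩ ⟨A', B', D'⟩ h
      have h1 := congrArg (fun y : ↥(Cfsg.stabilizing (Cfsg.glToMat (Fin n) F)
        {v : Fin n → F | ∀ i : Fin n, k ≤ (i : ℕ) → v i = 0}) =>
        ((y : Matrix.GeneralLinearGroup (Fin n) F) : Matrix (Fin n) (Fin n) F)) h
      simp only [hΨval] at h1
      have h2 := (Matrix.reindex e e).injective h1
      rw [Matrix.fromBlocks_inj] at h2
      obtain ⟨hA, hB, _, hD⟩ := h2
      have hA' : A = A' := Units.ext hA
      have hD' : D = D' := Units.ext hD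
      rw [hA', hB, hD']
    · rintro ⟨M, hM⟩
      rw [mem_stabilizing_coord_iff] at hM
      obtain ⟨X, hX⟩ : ∃ X, X = Matrix.reindex e.symm e.symm (M : Matrix (Fin n) (Fin n) F) :=
        ⟨_, rfl⟩
      have hX21 : X.toBlocks₂₁ = 0 := by
        ext b a
        rw [hX]
        simp only [Matrix.toBlocks₂₁, Matrix.reindex_apply, Equiv.symm_symm, Matrix.submatrix_apply,
          Matrix.of_apply, Matrix.zero_apply]
        apply hM
        · rw [her]; omega
        · rw [hel]; exact a.2
      have hXdet : X.det ≠ 0 := by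
        rw [hX, Matrix.det_reindex_self]
        exact hdetGL _ M
      have hXeq : X = Matrix.fromBlocks X.toBlocks₁₁ X.toBlocks₁₂ 0 X.toBlocks₂₂ := by
        rw [← hX21, Matrix.fromBlocks_toBlocks]
      rw [hXeq, Matrix.det_fromBlocks_zero₂₁] at hXdet
      have hA := left_ne_zero_of_mul hXdet
      have hD := right_ne_zero_of_mul hXdet
      refine ⟨(Matrix.GeneralLinearGroup.mkOfDetNeZero _ hA, X.toBlocks₁₂,
        Matrix.GeneralLinearGroup.mkOfDetNeZero _ hD), ?_⟩
      apply Subtype.ext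
      apply Units.ext
      rw [hΨval]
      simp only [Matrix.GeneralLinearGroup.val_mkOfDetNeZero]
      rw [← hXeq, hX]
      ext i j
      simp
  rw [← Nat.card_eq_of_bijective Ψ hbij, Nat.card_prod, Nat.card_prod, Matrix.card_GL_field,
    Matrix.card_GL_field, card_matrix_aux, hF]
  ring

end Cfsg.Agent.S0771
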