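import Cfsg.Statements.S0772
import Cfsg.Agent.Lib.Helper13.Parabolic

set_option autoImplicit false
open Cfsg

namespace Cfsg.Agent.S0772

open Matrix Cfsg.Agent.Lib.Helper13

variable {F : Type*} [Field F]

/-- The parabolic subgroup. -/
abbrev Pk (F : Type*) [Field F] (n k : ℕ) : Subgroup (GL (Fin n) F) :=
  Cfsg.stabilizing (Cfsg.glToMat (Fin n) F) {v : Fin n → F | ∀ i : Fin n, k ≤ (i : ℕ) → v i = 0}

theorem det_updateCol_one (n : ℕ) (i : Fin n) (a : Fin n → F) :
    ((1 : Matrix (Fin n) (Fin n) F).updateCol i a).det = a i := by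
  rw [← Matrix.cramer_apply, Matrix.cramer_one]
  rfl

/-- the matrix `1` with column `i` replaced by `a`, when `a i ≠ 0`. -/
noncomputable def colGL (n : ℕ) (i : Fin n) (a : Fin n → F) (ha : a i ≠ 0) : GL (Fin n) F :=
  Matrix.GeneralLinearGroup.mkOfDetNeZero ((1 : Matrix (Fin n) (Fin n) F).updateCol i a)
    (by rw [det_updateCol_one]; exact ha)

theorem colGL_val (n : ℕ) (i : Fin n) (a : Fin n → F) (ha : a i ≠ 0) :
    ((colGL n i a ha : GL (Fin n) F) : Matrix (Fin n) (Fin n) F)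
      = (1 : Matrix (Fin n) (Fin n) F).updateCol i a := rfl

theorem colGL_mulVec (n : ℕ) (i : Fin n) (a : Fin n → F) (ha : a i ≠ 0) :
    ((colGL n i a ha : GL (Fin n) F) : Matrix (Fin n) (Fin n) F) *ᵥ Pi.single i 1 = a := by
  rw [colGL_val, Matrix.mulVec_single_one]
  ext j
  simp [Matrix.col_apply]

theorem colGL_mem (n k : ℕ) (i : Fin n) (hi : k ≤ (i : ℕ)) (a : Fin n → F) (ha : a i ≠ 0) :
    colGL n i a ha ∈ Pk F n k := by
  rw [mem_stabilizing_coord_iff]
  intro i' j' hi' hj'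
  rw [colGL_val, Matrix.updateCol_apply]
  have h1 : j' ≠ i := by
    intro h; rw [h] at hj'; omega
  have h2 : i' ≠ j' := by
    intro h; rw [h] at hi'; omega
  rw [if_neg h1, Matrix.one_apply_ne h2]

/-- `P` is transitive on vectors with a common non-zero coordinate outside the block. -/
theorem trans_same (n k : ℕ) (i : Fin n) (hi : k ≤ (i : ℕ)) (v a : Fin n → F) (hv : v i ≠ 0)
    (ha : a i ≠ 0) : ∃ p ∈ Pk F n k, (p : Matrix (Fin n) (Fin n) F) *ᵥ v = a := by
  refine ⟨colGL n i a ha * (colGL n i v hv)⁻¹, (Pk F n k).mul_mem (colGL_mem n k i hi a ha)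
    ((Pk F n k).inv_mem (colGL_mem n k i hi v hv)), ?_⟩
  have h1 : (((colGL n i v hv)⁻¹ : GL (Fin n) F) : Matrix (Fin n) (Fin n) F) *ᵥ v = Pi.single i 1 := by
    have h0 := congrArg (fun z => (((colGL n i v hv)⁻¹ : GL (Fin n) F) :
      Matrix (Fin n) (Fin n) F) *ᵥ z) (colGL_mulVec n i v hv)
    simp only [Matrix.mulVec_mulVec] at h0
    rw [← Units.val_mul, inv_mul_cancel, Units.val_one, Matrix.one_mulVec] at h0
    exact h0.symm
  rw [Units.val_mul, ← Matrix.mulVec_mulVec, h1, colGL_mulVec]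

theorem trans_outside (n k : ℕ) (v a : Fin n → F)
    (hv : ∃ i : Fin n, k ≤ (i : ℕ) ∧ v i ≠ 0) (ha : ∃ i : Fin n, k ≤ (i : ℕ) ∧ a i ≠ 0) :
    ∃ p ∈ Pk F n k, (p : Matrix (Fin n) (Fin n) F) *ᵥ v = a := by
  obtain ⟨i₀, hi₀, hv₀⟩ := hv
  obtain ⟨i₁, hi₁, ha₁⟩ := ha
  by_cases h1 : a i₀ = 0
  · by_cases h2 : v i₁ = 0
    · have hc0 : (v + a) i₀ ≠ 0 := by
        rw [Pi.add_apply, h1, add_zero]; exact hv₀
      have hc1 : (v + a) i₁ ≠ 0 := by
        rw [Pi.add_apply, h2, zero_add]; exact ha₁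
      obtain ⟨p, hp, hpv⟩ := trans_same n k i₀ hi₀ v (v + a) hv₀ hc0
      obtain ⟨p', hp', hpv'⟩ := trans_same n k i₁ hi₁ (v + a) a hc1 ha₁
      refine ⟨p' * p, (Pk F n k).mul_mem hp' hp, ?_⟩
      rw [Units.val_mul, ← Matrix.mulVec_mulVec, hpv, hpv']
    · exact trans_same n k i₁ hi₁ v a h2 ha₁
  · exact trans_same n k i₀ hi₀ v a hv₀ h1

noncomputable def transvGL (n : ℕ) (i j : Fin n) (hij : i ≠ j) (c : F) : GL (Fin n) F :=
  Matrix.GeneralLinearGroup.mkOfDetNeZero (Matrix.transvection i j c)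
    (by rw [Matrix.det_transvection_of_ne _ _ hij]; exact one_ne_zero)

theorem transvGL_val (n : ℕ) (i j : Fin n) (hij : i ≠ j) (c : F) :
    ((transvGL n i j hij c : GL (Fin n) F) : Matrix (Fin n) (Fin n) F)
      = Matrix.transvection i j c := rfl

theorem transvection_mulVec (n : ℕ) (i j : Fin n) (c : F) (y : Fin n → F) :
    Matrix.transvection i j c *ᵥ y = y + (c * y j) • Pi.single i (1 : F) := by
  unfold Matrix.transvection
  rw [Matrix.add_mulVec, Matrix.one_mulVec, Matrix.single_mulVec_eq]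

theorem GL_inv_mulVec (n : ℕ) (g : GL (Fin n) F) (x y : Fin n → F)
    (h : (g : Matrix (Fin n) (Fin n) F) *ᵥ x = y) :
    ((g⁻¹ : GL (Fin n) F) : Matrix (Fin n) (Fin n) F) *ᵥ y = x := by
  rw [← h, Matrix.mulVec_mulVec, ← Units.val_mul, inv_mul_cancel, Units.val_one, Matrix.one_mulVec]

/-- Key step: if `H` contains `P` and an element outside `P`, it contains all transvections. -/
theorem transv_mem (n k : ℕ) (hkn : k < n) (H : Subgroup (GL (Fin n) F)) (hPH : Pk F n k ≤ H)
    (h : GL (Fin n) F) (hH : h ∈ H) (hP : h ∉ Pk F n k) (i j : Fin n) (hij : i ≠ j) (c : F) :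
    transvGL n i j hij c ∈ H := by
  classical
  rw [mem_stabilizing_coord_iff] at hP
  push Not at hP
  obtain ⟨i₀, j₀, hi₀, hj₀, hne⟩ := hP
  obtain ⟨w₀, hw₀⟩ : ∃ w₀, w₀ = (h : Matrix (Fin n) (Fin n) F) *ᵥ Pi.single j₀ 1 := ⟨_, rfl⟩
  have hw₀i : w₀ i₀ ≠ 0 := by
    rw [hw₀, Matrix.mulVec_single_one, Matrix.col_apply]
    exact hne
  -- every basis vector is the image of a vector of `W` under an element of `H`
  have hkey : ∃ g ∈ H, ∃ x : Fin n → F, (∀ i' : Fin n, k ≤ (i' : ℕ) → x i' = 0) ∧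
      (g : Matrix (Fin n) (Fin n) F) *ᵥ x = Pi.single i 1 := by
    by_cases hik : (i : ℕ) < k
    · refine ⟨1, H.one_mem, Pi.single i 1, ?_, ?_⟩
      · intro i' hi'
        have : i' ≠ i := by
          intro h'; rw [h'] at hi'; omega
        rw [Pi.single_apply, if_neg this]
      · rw [Units.val_one, Matrix.one_mulVec]
    · obtain ⟨p, hp, hpw⟩ := trans_outside n k w₀ (Pi.single i 1) ⟨i₀, hi₀, hw₀i⟩
        ⟨i, by omega, by simp⟩
      refine ⟨p * h, H.mul_mem (hPH hp) hH, Pi.single j₀ 1, ?_, ?_⟩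
      · intro i' hi'
        have : i' ≠ j₀ := by
          intro h'; rw [h'] at hi'; omega
        rw [Pi.single_apply, if_neg this]
      · rw [Units.val_mul, ← Matrix.mulVec_mulVec, ← hw₀, hpw]
  obtain ⟨g, hg, x, hx, hgx⟩ := hkey
  have hginv := GL_inv_mulVec n g x _ hgx
  -- the conjugate lies in `P`
  have hQ : g⁻¹ * transvGL n i j hij c * g ∈ Pk F n k := by
    rw [mem_stabilizing_coord_iff]
    intro i' j' hi' hj'
    have h1 : ((g⁻¹ * transvGL n i j hij c * g : GL (Fin n) F) : Matrix (Fin n) (Fin n) F) i' j'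
        = (((g⁻¹ * transvGL n i j hij c * g : GL (Fin n) F) : Matrix (Fin n) (Fin n) F)
            *ᵥ Pi.single j' 1) i' := by
      rw [Matrix.mulVec_single_one, Matrix.col_apply]
    rw [h1, Units.val_mul, Units.val_mul, ← Matrix.mulVec_mulVec, ← Matrix.mulVec_mulVec,
      transvGL_val, transvection_mulVec, Matrix.mulVec_add, Matrix.mulVec_smul, hginv,
      Matrix.mulVec_mulVec, ← Units.val_mul, inv_mul_cancel, Units.val_one, Matrix.one_mulVec,
      Pi.add_apply, Pi.smul_apply, hx i' hi', smul_zero, add_zero, Pi.single_apply]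
    have : i' ≠ j' := by
      intro h'; rw [h'] at hi'; omega
    rw [if_neg this]
  have heq : transvGL n i j hij c = g * (g⁻¹ * transvGL n i j hij c * g) * g⁻¹ := by group
  rw [heq]
  exact H.mul_mem (H.mul_mem hg (hPH hQ)) (H.inv_mem hg)

/-- Maximal parabolics are maximal: over a finite field, for 0 < k < n the stabiliser in GL_n of the span of the first k coordinate vectors is a maximal proper subgroup. -/
theorem result {F : Type*} [Field F] [Finite F] (n k : ℕ) (hk0 : 0 < k) (hkn : k < n) : IsCoatom (Cfsg.stabilizing (Cfsg.glToMat (Fin n) F) {v : Fin n → F | ∀ i : Fin n, k ≤ (i : ℕ) → v i = 0}) := by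
  classical
  constructor
  · intro htop
    have hne : (⟨k, hkn⟩ : Fin n) ≠ ⟨0, by omega⟩ := by
      intro h
      have := congrArg Fin.val h
      simp at this
      omega
    have hmem : transvGL n (⟨k, hkn⟩ : Fin n) ⟨0, by omega⟩ hne (1 : F) ∈ Pk F n k := by
      change _ ∈ Cfsg.stabilizing (Cfsg.glToMat (Fin n) F)
        {v : Fin n → F | ∀ i : Fin n, k ≤ (i : ℕ) → v i = 0}
      rw [htop]; exact Subgroup.mem_top _
    rw [mem_stabilizing_coord_iff] at hmem
    have h1 := hmem ⟨k, hkn⟩ ⟨0, by omega⟩ le_rfl hk0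
    rw [transvGL_val] at h1
    simp [Matrix.transvection, Matrix.one_apply_ne hne] at h1
  · intro H hlt
    obtain ⟨h, hH, hP⟩ := SetLike.exists_of_lt hlt
    rw [eq_top_iff]
    intro M _
    have key : ∃ g : GL (Fin n) F, g ∈ H ∧ (g : Matrix (Fin n) (Fin n) F)
        = (M : Matrix (Fin n) (Fin n) F) := by
      apply Matrix.diagonal_transvection_induction_of_det_ne_zero
        (fun N => ∃ g : GL (Fin n) F, g ∈ H ∧ (g : Matrix (Fin n) (Fin n) F) = N)
        (M : Matrix (Fin n) (Fin n) F) ((Matrix.isUnits_det_units M).ne_zero)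
      · intro D hD
        refine ⟨Matrix.GeneralLinearGroup.mkOfDetNeZero (Matrix.diagonal D) hD, ?_, rfl⟩
        apply hlt.le
        rw [mem_stabilizing_coord_iff]
        intro i j hi hj
        rw [Matrix.GeneralLinearGroup.val_mkOfDetNeZero]
        have : i ≠ j := by
          intro h'; rw [h'] at hi; omega
        exact Matrix.diagonal_apply_ne _ this
      · intro t
        exact ⟨transvGL n t.i t.j t.hij t.c, transv_mem n k hkn H hlt.le h hH hP _ _ _ _, rfl⟩
      · rintro A B _ _ ⟨gA, hgA, rfl⟩ ⟨gB, hgB, rfl⟩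
        exact ⟨gA * gB, H.mul_mem hgA hgB, rfl⟩
    obtain ⟨g, hg, hgM⟩ := key
    have : g = M := Units.ext hgM
    rw [← this]
    exact hg

end Cfsg.Agent.S0772
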