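import Cfsg.Statements.S0773
import Cfsg.Agent.S0772

set_option autoImplicit false
open Cfsg

namespace Cfsg.Agent.S0773

open Matrix Cfsg.Agent.Lib.Helper13 Cfsg.Agent.S0772

section A
variable {F : Type*} [Field F]

/-- extension by zero as a linear map -/
def extLin (F : Type*) [Field F] (n k : ℕ) : (Fin k → F) →ₗ[F] (Fin n → F) where
  toFun x := fun i => if h : (i : ℕ) < k then x ⟨i, h⟩ else 0
  map_add' := by
    intro x y
    ext i
    by_cases h : (i : ℕ) < k <;> simp [h]
  map_smul' := by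
    intro c x
    ext i
    by_cases h : (i : ℕ) < k <;> simp [h]

theorem extLin_apply (n k : ℕ) (x : Fin k → F) (i : Fin n) :
    extLin F n k x i = if h : (i : ℕ) < k then x ⟨i, h⟩ else 0 := rfl

theorem extLin_mem (n k : ℕ) (x : Fin k → F) (i : Fin n) (hi : k ≤ (i : ℕ)) :
    extLin F n k x i = 0 := by
  rw [extLin_apply, dif_neg (by omega)]

theorem extLin_injective (n k : ℕ) (hk : k ≤ n) : Function.Injective (extLin F n k) := by
  intro x y hxy
  ext j
  have := congrFun hxy ⟨j, by omega⟩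
  rw [extLin_apply, extLin_apply, dif_pos j.2, dif_pos j.2] at this
  exact this

theorem coord_le (n k m : ℕ) (hk : k ≤ n) (hm : m ≤ n) (A : Matrix (Fin n) (Fin n) F)
    (hinj : Function.Injective A.mulVec)
    (hA : ∀ w : Fin n → F, (∀ i : Fin n, k ≤ (i : ℕ) → w i = 0) →
      ∀ i : Fin n, m ≤ (i : ℕ) → (A *ᵥ w) i = 0) : k ≤ m := by
  let φ : (Fin k → F) →ₗ[F] (Fin m → F) :=
    (LinearMap.funLeft F F (Fin.castLE hm)).comp ((Matrix.mulVecLin A).comp (extLin F n k))
  have hφ : ∀ x j, φ x j = (A *ᵥ extLin F n k x) (Fin.castLE hm j) := fun x j => rfl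
  have hinjφ : Function.Injective φ := by
    intro x y hxy
    apply extLin_injective n k hk
    apply hinj
    ext i
    by_cases hi : (i : ℕ) < m
    · have := congrFun hxy ⟨i, hi⟩
      rw [hφ, hφ] at this
      exact this
    · rw [hA _ (extLin_mem n k x) i (by omega), hA _ (extLin_mem n k y) i (by omega)]
  have := LinearMap.finrank_le_finrank_of_injective hinjφ
  simpa using this

/-- A proper subspace invariant under the parabolic `P_m` lies inside the coordinate subspace. -/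
theorem inv_sub (n m : ℕ) (U : Submodule F (Fin n → F))
    (hinv : ∀ p ∈ Pk F n m, ∀ u ∈ U, (p : Matrix (Fin n) (Fin n) F) *ᵥ u ∈ U) (hne : U ≠ ⊤) :
    ∀ u ∈ U, ∀ i : Fin n, m ≤ (i : ℕ) → u i = 0 := by
  intro u hu i hi
  by_contra hui
  apply hne
  have hout : ∀ a : Fin n → F, (∃ i' : Fin n, m ≤ (i' : ℕ) ∧ a i' ≠ 0) → a ∈ U := by
    intro a ha
    obtain ⟨p, hp, hpu⟩ := trans_outside n m u a ⟨i, hi, hui⟩ ha
    rw [← hpu]
    exact hinv p hp u hu
  rw [eq_top_iff]
  intro v _
  by_cases hv : ∃ i' : Fin n, m ≤ (i' : ℕ) ∧ v i' ≠ 0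
  · exact hout v hv
  · push Not at hv
    have h1 : v + u ∈ U := by
      apply hout
      refine ⟨i, hi, ?_⟩
      rw [Pi.add_apply, hv i hi, zero_add]
      exact hui
    have : v = (v + u) - u := by abel
    rw [this]
    exact U.sub_mem h1 hu

theorem half (n k m : ℕ) (hk : k < n) (hm : m < n) (g : GL (Fin n) F)
    (h : ∀ p ∈ Pk F n m, g⁻¹ * p * g ∈ Pk F n k) : k ≤ m := by
  have hginj : Function.Injective ((g : Matrix (Fin n) (Fin n) F).mulVec) := by
    intro x y hxy
    have h1 := GL_inv_mulVec n g x _ rfl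
    have h2 := GL_inv_mulVec n g y _ rfl
    rw [← h1, ← h2]
    exact congrArg _ hxy
  let U : Submodule F (Fin n → F) :=
    (coordSubmodule F n k).map (Matrix.toLin' (g : Matrix (Fin n) (Fin n) F))
  have hU : ∀ u, u ∈ U ↔ ∃ w : Fin n → F, (∀ i : Fin n, k ≤ (i : ℕ) → w i = 0) ∧
      (g : Matrix (Fin n) (Fin n) F) *ᵥ w = u := by
    intro u
    simp only [U, Submodule.mem_map, Matrix.toLin'_apply]
    rfl
  have hinv : ∀ p ∈ Pk F n m, ∀ u ∈ U, (p : Matrix (Fin n) (Fin n) F) *ᵥ u ∈ U := by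
    intro p hp u hu
    rw [hU] at hu ⊢
    obtain ⟨w, hw, rfl⟩ := hu
    have hq := h p hp
    refine ⟨((g⁻¹ * p * g : GL (Fin n) F) : Matrix (Fin n) (Fin n) F) *ᵥ w, ?_, ?_⟩
    · exact (hq w).mp hw
    · rw [Matrix.mulVec_mulVec, ← Units.val_mul, Matrix.mulVec_mulVec, ← Units.val_mul]
      congr 2
      group
  have hne : U ≠ ⊤ := by
    intro htop
    have h1 : (g : Matrix (Fin n) (Fin n) F) *ᵥ Pi.single ⟨n - 1, by omega⟩ 1 ∈ U := by
      rw [htop]; exact Submodule.mem_top
    rw [hU] at h1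
    obtain ⟨w, hw, hgw⟩ := h1
    have h2 := hginj hgw
    have h3 := hw ⟨n - 1, by omega⟩ (by simp only; omega)
    rw [h2] at h3
    simp at h3
  have hsub := inv_sub n m U hinv hne
  apply coord_le n k m hk.le hm.le (g : Matrix (Fin n) (Fin n) F) hginj
  intro w hw i hi
  apply hsub _ _ i hi
  rw [hU]
  exact ⟨w, hw, rfl⟩

end A

section C
variable {F : Type*}

/-- the matrix `(Aᵀ)` with rows and columns reversed -/
def revT {n : ℕ} (A : Matrix (Fin n) (Fin n) F) : Matrix (Fin n) (Fin n) F :=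
  Aᵀ.submatrix (Fin.revPerm : Equiv.Perm (Fin n)) (Fin.revPerm : Equiv.Perm (Fin n))

theorem revT_apply {n : ℕ} (A : Matrix (Fin n) (Fin n) F) (i j : Fin n) :
    revT A i j = A (Fin.rev j) (Fin.rev i) := rfl

variable [Field F]

theorem revT_mul {n : ℕ} (A B : Matrix (Fin n) (Fin n) F) : revT (A * B) = revT B * revT A := by
  unfold revT
  rw [Matrix.transpose_mul, Matrix.submatrix_mul_equiv]

theorem revT_one {n : ℕ} : revT (1 : Matrix (Fin n) (Fin n) F) = 1 := by
  unfold revT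
  rw [Matrix.transpose_one, Matrix.submatrix_one_equiv]

omit [Field F] in
theorem revT_revT {n : ℕ} (A : Matrix (Fin n) (Fin n) F) : revT (revT A) = A := by
  ext i j
  simp [revT_apply]

/-- The automorphism `M ↦ rev (M⁻¹)ᵀ rev` of `GL_n`. -/
def psi (F : Type*) [Field F] (n : ℕ) : GL (Fin n) F →* GL (Fin n) F where
  toFun M := ⟨revT ((M⁻¹ : GL (Fin n) F) : Matrix (Fin n) (Fin n) F),
    revT (M : Matrix (Fin n) (Fin n) F),
    by rw [← revT_mul, ← Units.val_mul, mul_inv_cancel, Units.val_one, revT_one],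
    by rw [← revT_mul, ← Units.val_mul, inv_mul_cancel, Units.val_one, revT_one]⟩
  map_one' := by
    apply Units.ext
    simp [revT_one]
  map_mul' := by
    intro A B
    apply Units.ext
    change revT ((((A * B)⁻¹ : GL (Fin n) F)) : Matrix (Fin n) (Fin n) F)
      = revT ((A⁻¹ : GL (Fin n) F) : Matrix (Fin n) (Fin n) F)
        * revT ((B⁻¹ : GL (Fin n) F) : Matrix (Fin n) (Fin n) F)
    rw [_root_.mul_inv_rev, Units.val_mul, revT_mul]

theorem psi_val (n : ℕ) (M : GL (Fin n) F) :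
    ((psi F n M : GL (Fin n) F) : Matrix (Fin n) (Fin n) F)
      = revT ((M⁻¹ : GL (Fin n) F) : Matrix (Fin n) (Fin n) F) := rfl

theorem psi_inv_val (n : ℕ) (M : GL (Fin n) F) :
    (((psi F n M)⁻¹ : GL (Fin n) F) : Matrix (Fin n) (Fin n) F)
      = revT (M : Matrix (Fin n) (Fin n) F) := rfl

theorem psi_psi (n : ℕ) (M : GL (Fin n) F) : psi F n (psi F n M) = M := by
  apply Units.ext
  rw [psi_val, psi_inv_val, revT_revT]

def psiEquiv (F : Type*) [Field F] (n : ℕ) : GL (Fin n) F ≃* GL (Fin n) F :=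
  { psi F n with
    invFun := psi F n
    left_inv := psi_psi n
    right_inv := psi_psi n }

theorem psiEquiv_apply (n : ℕ) (M : GL (Fin n) F) : psiEquiv F n M = psi F n M := rfl

theorem psi_mem (n k m : ℕ) (hkm : k + m = n) (M : GL (Fin n) F) (hM : M ∈ Pk F n k) :
    psi F n M ∈ Pk F n m := by
  have hinv : M⁻¹ ∈ Pk F n k := (Pk F n k).inv_mem hM
  rw [mem_stabilizing_coord_iff] at hinv ⊢
  intro i j hi hj
  rw [psi_val, revT_apply]
  apply hinv
  · rw [Fin.val_rev]; omega
  · rw [Fin.val_rev]; omega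

theorem map_psi (n k m : ℕ) (hkm : k + m = n) :
    (Pk F n k).map (psiEquiv F n).toMonoidHom = Pk F n m := by
  ext M
  constructor
  · rintro ⟨N, hN, rfl⟩
    exact psi_mem n k m hkm N hN
  · intro hM
    refine ⟨psi F n M, psi_mem n m k (by omega) M hM, ?_⟩
    exact psi_psi n M

end C

/-- The stabilisers in GL_n(F), F finite, of the coordinate subspaces of dimensions k and n − k are isomorphic groups, but when 2k ≠ n (and 0 < k < n) no element of GL_n conjugates one onto the other. -/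
theorem result {F : Type*} [Field F] [Finite F] (n k : ℕ) (hk0 : 0 < k) (hkn : k < n) (h2 : 2 * k ≠ n) : Nonempty (↥(Cfsg.stabilizing (Cfsg.glToMat (Fin n) F) {v : Fin n → F | ∀ i : Fin n, k ≤ (i : ℕ) → v i = 0}) ≃* ↥(Cfsg.stabilizing (Cfsg.glToMat (Fin n) F) {v : Fin n → F | ∀ i : Fin n, n - k ≤ (i : ℕ) → v i = 0})) ∧ ∀ g : Matrix.GeneralLinearGroup (Fin n) F, (Cfsg.stabilizing (Cfsg.glToMat (Fin n) F) {v : Fin n → F | ∀ i : Fin n, k ≤ (i : ℕ) → v i = 0}).map (MulAut.conj g).toMonoidHom ≠ Cfsg.stabilizing (Cfsg.glToMat (Fin n) F) {v : Fin n → F | ∀ i : Fin n, n - k ≤ (i : ℕ) → v i = 0} := by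
  have hkm : k + (n - k) = n := by omega
  constructor
  · exact ⟨((psiEquiv F n).subgroupMap (Pk F n k)).trans
      (MulEquiv.subgroupCongr (map_psi n k (n - k) hkm))⟩
  · intro g hconj
    have h1 : k ≤ n - k := by
      apply half n k (n - k) hkn (by omega) g
      intro p hp
      change p ∈ Cfsg.stabilizing (Cfsg.glToMat (Fin n) F)
        {v : Fin n → F | ∀ i : Fin n, n - k ≤ (i : ℕ) → v i = 0} at hp
      rw [← hconj] at hp
      obtain ⟨y, hy, rfl⟩ := hp
      have : g⁻¹ * (MulAut.conj g).toMonoidHom y * g = y := by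
        simp only [MulEquiv.toMonoidHom_eq_coe, MonoidHom.coe_coe, MulAut.conj_apply]
        group
      rw [this]
      exact hy
    have h3 : n - k ≤ k := by
      apply half n (n - k) k (by omega) hkn g⁻¹
      intro p hp
      rw [inv_inv]
      change _ ∈ Cfsg.stabilizing (Cfsg.glToMat (Fin n) F)
        {v : Fin n → F | ∀ i : Fin n, n - k ≤ (i : ℕ) → v i = 0}
      rw [← hconj]
      exact ⟨p, hp, rfl⟩
    omega

end Cfsg.Agent.S0773
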