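import Cfsg.Statements.S0775
import Mathlib
import Cfsg.Agent.Lib.Helper13.SpParabolic
import Cfsg.Agent.Lib.Helper13.Borel

set_option autoImplicit false
open Cfsg

namespace Cfsg.Agent.S0775

open Matrix Module Cfsg.Agent.Lib.Helper13

theorem fixes_span {F : Type*} [Field F] {ι : Type*} [Fintype ι] [DecidableEq ι] (M : Matrix ι ι F)
    {k : ℕ} (s : Fin k → (ι → F)) (hs : ∀ i, M *ᵥ s i = s i) (v : ι → F)
    (hv : v ∈ Submodule.span F (Set.range s)) : M *ᵥ v = v := by
  induction hv using Submodule.span_induction with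
  | mem x hx => obtain ⟨i, rfl⟩ := hx; exact hs i
  | zero => simp
  | add x y _ _ hx hy => rw [Matrix.mulVec_add, hx, hy]
  | smul a x _ hx => rw [Matrix.mulVec_smul, hx]

theorem maps_span {F : Type*} [Field F] {ι : Type*} [Fintype ι] [DecidableEq ι] (M : Matrix ι ι F)
    (W : Submodule F (ι → F))
    {k : ℕ} (s : Fin k → (ι → F)) (hs : ∀ i, M *ᵥ s i ∈ W) (v : ι → F)
    (hv : v ∈ Submodule.span F (Set.range s)) : M *ᵥ v ∈ W := by
  induction hv using Submodule.span_induction with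
  | mem x hx => obtain ⟨i, rfl⟩ := hx; exact hs i
  | zero => simp
  | add x y _ _ hx hy => rw [Matrix.mulVec_add]; exact W.add_mem hx hy
  | smul a x _ hx => rw [Matrix.mulVec_smul]; exact W.smul_mem a hx

/-- Maximal parabolics of the symplectic group: if W is a k-dimensional subspace of F^(2m) on which the symplectic form vanishes identically, its stabiliser in Sp_2m(q) has order q^(k(k+1)/2 + 2k(m−k)) · |Sp_(2m−2k)(q)| · |GL_k(q)|. -/
theorem result {F : Type*} [Field F] [Fintype F] {q : ℕ} (hF : Fintype.card F = q) (m k : ℕ) (hk : k ≤ m) (W : Submodule F (Fin m ⊕ Fin m → F)) (hWk : Module.finrank F W = k) (hW : ∀ u ∈ W, ∀ v ∈ W, Cfsg.sympForm m F u v = 0) : Nat.card ↥(Cfsg.stabilizing (Cfsg.spToMat m F) (W : Set (Fin m ⊕ Fin m → F))) = q ^ (k * (k + 1) / 2 + 2 * k * (m - k)) * (q ^ ((m - k) ^ 2) * ∏ i ∈ Finset.range (m - k), (q ^ (2 * (i + 1)) - 1)) * ∏ i : Fin k, (q ^ k - q ^ (i : ℕ)) := by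
  classical
  subst hF
  let b : Basis (Fin k) F W := Module.finBasisOfFinrankEq F W hWk
  let s₀ : Fin k → (Fin m ⊕ Fin m → F) := fun i => ((b i : W) : Fin m ⊕ Fin m → F)
  have hs₀W : ∀ i, s₀ i ∈ W := fun i => (b i).2
  have hs₀li : LinearIndependent F s₀ := b.linearIndependent.map' W.subtype (Submodule.ker_subtype W)
  have hs₀span : Submodule.span F (Set.range s₀) = W := by
    have h1 : Set.range s₀ = W.subtype '' Set.range b := by
      rw [← Set.range_comp]; rfl
    rw [h1, ← Submodule.map_span, b.span_eq, Submodule.map_subtype_top]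
  obtain ⟨Q, hQ⟩ := exists_sp_frame m k
    (fun i => (Pi.single (Sum.inl (Fin.castLE hk i)) 1 : Fin m ⊕ Fin m → F)) s₀
    (linearIndependent_single_inl m k hk) hs₀li (by
      intro i j
      rw [hW _ (hs₀W i) _ (hs₀W j), sympForm_single_inl_left]
      simp)
  have hmemH : ∀ g : Matrix.symplecticGroup (Fin m) F,
      (∀ i, (g : Matrix (Fin m ⊕ Fin m) (Fin m ⊕ Fin m) F) *ᵥ s₀ i ∈ W) →
      g ∈ Cfsg.stabilizing (Cfsg.spToMat m F) (W : Set (Fin m ⊕ Fin m → F)) := by
    intro g hg v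
    apply mem_iff_mulVec_mem_of_mapsTo W _ (symplectic_mulVec_injective m g)
    intro w hw
    rw [← hs₀span] at hw
    exact maps_span _ W s₀ hg w hw
  rw [card_subgroup_eq_orbit_mul_stab (Cfsg.stabilizing (Cfsg.spToMat m F)
    (W : Set (Fin m ⊕ Fin m → F))) s₀]
  have horbit : Nat.card {y : Fin k → (Fin m ⊕ Fin m → F) //
      ∃ h ∈ Cfsg.stabilizing (Cfsg.spToMat m F) (W : Set (Fin m ⊕ Fin m → F)), h • s₀ = y}
      = ∏ i : Fin k, (Fintype.card F ^ k - Fintype.card F ^ (i : ℕ)) := by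
    have h1 := card_linearIndependent (K := F) (V := W) (k := k) (le_of_eq hWk.symm)
    rw [hWk] at h1
    rw [← h1]
    symm
    let f : {s : Fin k → W // LinearIndependent F s} → {y : Fin k → (Fin m ⊕ Fin m → F) //
      ∃ h ∈ Cfsg.stabilizing (Cfsg.spToMat m F) (W : Set (Fin m ⊕ Fin m → F)), h • s₀ = y} :=
      fun s => ⟨fun i => ((s.1 i : W) : Fin m ⊕ Fin m → F), by
        have hsli : LinearIndependent F (fun i => ((s.1 i : W) : Fin m ⊕ Fin m → F)) :=
          s.2.map' W.subtype (Submodule.ker_subtype W)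
        obtain ⟨Q', hQ'⟩ := exists_sp_frame m k s₀ (fun i => ((s.1 i : W) : Fin m ⊕ Fin m → F))
          hs₀li hsli (by
            intro i j
            rw [hW _ (hs₀W i) _ (hs₀W j), hW _ (s.1 i).2 _ (s.1 j).2])
        refine ⟨Q', hmemH Q' ?_, ?_⟩
        · intro i
          rw [hQ' i]
          exact (s.1 i).2
        · funext i
          exact hQ' i⟩
    apply Nat.card_congr (Equiv.ofBijective f ⟨?_, ?_⟩)
    · intro s t hst
      apply Subtype.ext
      funext i
      apply Subtype.ext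
      exact congrFun (congrArg Subtype.val hst) i
    · rintro ⟨y, h, hh, hy⟩
      have hyW : ∀ i, y i ∈ W := by
        intro i
        rw [← hy]
        exact (hh (s₀ i)).1 (hs₀W i)
      have hyli : LinearIndependent F y := by
        have h2 := hs₀li.map' (Matrix.toLin' (h : Matrix (Fin m ⊕ Fin m) (Fin m ⊕ Fin m) F))
          (LinearMap.ker_eq_bot.2 (by
            intro a b hab
            rw [Matrix.toLin'_apply, Matrix.toLin'_apply] at hab
            exact symplectic_mulVec_injective m h hab))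
        have e3 : (h • s₀) = ⇑(Matrix.toLin' (h : Matrix (Fin m ⊕ Fin m) (Fin m ⊕ Fin m) F)) ∘ s₀ := by
          funext i
          simp only [Function.comp_apply, Matrix.toLin'_apply]
          rfl
        rw [← hy, e3]
        exact h2
      refine ⟨⟨fun i => ⟨y i, hyW i⟩, ?_⟩, ?_⟩
      · apply LinearIndependent.of_comp W.subtype
        exact hyli
      · apply Subtype.ext
        rfl
  have hstab : Nat.card {h : Matrix.symplecticGroup (Fin m) F //
      h ∈ Cfsg.stabilizing (Cfsg.spToMat m F) (W : Set (Fin m ⊕ Fin m → F)) ∧ h • s₀ = s₀}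
      = Nat.card (fixFirst F m k) := by
    have hQinv : ∀ i : Fin k, ((Q⁻¹ : Matrix.symplecticGroup (Fin m) F) :
        Matrix (Fin m ⊕ Fin m) (Fin m ⊕ Fin m) F) *ᵥ s₀ i
          = Pi.single (Sum.inl (Fin.castLE hk i)) 1 := by
      intro i
      rw [← hQ i, Matrix.mulVec_mulVec]
      have : ((Q⁻¹ : Matrix.symplecticGroup (Fin m) F) :
        Matrix (Fin m ⊕ Fin m) (Fin m ⊕ Fin m) F) * (Q : Matrix _ _ F) = 1 := by
        have := congrArg Subtype.val (inv_mul_cancel Q)
        exact this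
      rw [this, Matrix.one_mulVec]
    apply Nat.card_congr
    refine
      { toFun := fun h => ⟨Q⁻¹ * h.1 * Q, ?_⟩
        invFun := fun g => ⟨Q * g.1 * Q⁻¹, ?_⟩
        left_inv := ?_
        right_inv := ?_ }
    · intro i hi
      have hfix : (h.1 : Matrix (Fin m ⊕ Fin m) (Fin m ⊕ Fin m) F) *ᵥ s₀ ⟨i, hi⟩ = s₀ ⟨i, hi⟩ :=
        congrFun h.2.2 ⟨i, hi⟩
      have hi' : Fin.castLE hk ⟨i, hi⟩ = i := by
        apply Fin.ext; rfl
      have e1 := hQ ⟨i, hi⟩
      have e2 := hQinv ⟨i, hi⟩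
      rw [hi'] at e1 e2
      change (((Q⁻¹ : Matrix.symplecticGroup (Fin m) F) :
        Matrix (Fin m ⊕ Fin m) (Fin m ⊕ Fin m) F) * (h.1 : Matrix _ _ F) * (Q : Matrix _ _ F)) *ᵥ _ = _
      rw [← Matrix.mulVec_mulVec, ← Matrix.mulVec_mulVec, e1, hfix, e2]
    · have hfix : ∀ i : Fin k, ((Q * g.1 * Q⁻¹ : Matrix.symplecticGroup (Fin m) F) :
          Matrix (Fin m ⊕ Fin m) (Fin m ⊕ Fin m) F) *ᵥ s₀ i = s₀ i := by
        intro i
        change ((Q : Matrix (Fin m ⊕ Fin m) (Fin m ⊕ Fin m) F) * (g.1 : Matrix _ _ F) *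
          ((Q⁻¹ : Matrix.symplecticGroup (Fin m) F) : Matrix _ _ F)) *ᵥ _ = _
        rw [← Matrix.mulVec_mulVec, ← Matrix.mulVec_mulVec, hQinv i,
          g.2 (Fin.castLE hk i) (by simp), hQ i]
      refine ⟨hmemH _ ?_, ?_⟩
      · intro i
        rw [hfix i]
        exact hs₀W i
      · funext i
        exact hfix i
    · intro h
      apply Subtype.ext
      simp only
      group
    · intro g
      apply Subtype.ext
      simp only
      group
  rw [horbit, hstab, card_fixFirst m k hk]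
  ring

end Cfsg.Agent.S0775
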