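import Cfsg.Statements.S0776
import Cfsg.Agent.Lib.Helper13.SpWitt

set_option autoImplicit false
open Cfsg

namespace Cfsg.Agent.S0776

open Matrix Cfsg.Agent.Lib.Helper13

/-- If W ≤ F^(2m) is a 2k-dimensional subspace on which the symplectic form is non-degenerate, then the stabiliser of W in Sp_2m(F) is isomorphic to Sp_2k(F) × Sp_(2m−2k)(F). -/
theorem result {F : Type*} [Field F] (m k : ℕ) (hk : k ≤ m) (W : Submodule F (Fin m ⊕ Fin m → F)) (hWk : Module.finrank F W = 2 * k) (hW : ∀ u ∈ W, (∀ v ∈ W, Cfsg.sympForm m F u v = 0) → u = 0) : Nonempty (↥(Cfsg.stabilizing (Cfsg.spToMat m F) (W : Set (Fin m ⊕ Fin m → F))) ≃* Matrix.symplecticGroup (Fin k) F × Matrix.symplecticGroup (Fin (m - k)) F) := by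
  obtain ⟨Q, hQ⟩ := exists_sp_map_stdW m k hk W hWk hW
  have hQinv : ∀ w : Fin m ⊕ Fin m → F,
      (Q : Matrix (Fin m ⊕ Fin m) (Fin m ⊕ Fin m) F) *ᵥ
        (((Q⁻¹ : Matrix.symplecticGroup (Fin m) F) :
          Matrix (Fin m ⊕ Fin m) (Fin m ⊕ Fin m) F) *ᵥ w) = w := by
    intro w
    rw [Matrix.mulVec_mulVec]
    have : (Q : Matrix (Fin m ⊕ Fin m) (Fin m ⊕ Fin m) F) *
        ((Q⁻¹ : Matrix.symplecticGroup (Fin m) F) :
          Matrix (Fin m ⊕ Fin m) (Fin m ⊕ Fin m) F) = 1 :=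
      congrArg Subtype.val (mul_inv_cancel Q)
    rw [this, Matrix.one_mulVec]
  have hmap : (Cfsg.stabilizing (Cfsg.spToMat m F)
      (stdW F m k hk : Set (Fin m ⊕ Fin m → F))).map (MulAut.conj Q).toMonoidHom
      = Cfsg.stabilizing (Cfsg.spToMat m F) (W : Set (Fin m ⊕ Fin m → F)) := by
    ext A
    constructor
    · rintro ⟨B, hB, rfl⟩ w
      change w ∈ W ↔ ((Q * B * Q⁻¹ : Matrix.symplecticGroup (Fin m) F) :
        Matrix (Fin m ⊕ Fin m) (Fin m ⊕ Fin m) F) *ᵥ w ∈ W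
      have h1 : ((Q * B * Q⁻¹ : Matrix.symplecticGroup (Fin m) F) :
          Matrix (Fin m ⊕ Fin m) (Fin m ⊕ Fin m) F) *ᵥ w
          = (Q : Matrix (Fin m ⊕ Fin m) (Fin m ⊕ Fin m) F) *ᵥ
            ((B : Matrix (Fin m ⊕ Fin m) (Fin m ⊕ Fin m) F) *ᵥ
              (((Q⁻¹ : Matrix.symplecticGroup (Fin m) F) :
                Matrix (Fin m ⊕ Fin m) (Fin m ⊕ Fin m) F) *ᵥ w)) := by
        rw [Matrix.mulVec_mulVec, Matrix.mulVec_mulVec]
        rfl
      rw [h1, ← hQ]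
      have h2 := hB (((Q⁻¹ : Matrix.symplecticGroup (Fin m) F) :
                Matrix (Fin m ⊕ Fin m) (Fin m ⊕ Fin m) F) *ᵥ w)
      change _ ∈ stdW F m k hk ↔ (B : Matrix (Fin m ⊕ Fin m) (Fin m ⊕ Fin m) F) *ᵥ _ ∈ stdW F m k hk at h2
      rw [← h2, hQ, hQinv]
    · intro hA
      refine ⟨Q⁻¹ * A * Q, ?_, ?_⟩
      · intro v
        change v ∈ stdW F m k hk ↔ ((Q⁻¹ * A * Q : Matrix.symplecticGroup (Fin m) F) :
          Matrix (Fin m ⊕ Fin m) (Fin m ⊕ Fin m) F) *ᵥ v ∈ stdW F m k hk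
        have h1 : ((Q⁻¹ * A * Q : Matrix.symplecticGroup (Fin m) F) :
            Matrix (Fin m ⊕ Fin m) (Fin m ⊕ Fin m) F) *ᵥ v
            = ((Q⁻¹ : Matrix.symplecticGroup (Fin m) F) :
                Matrix (Fin m ⊕ Fin m) (Fin m ⊕ Fin m) F) *ᵥ
              ((A : Matrix (Fin m ⊕ Fin m) (Fin m ⊕ Fin m) F) *ᵥ
                ((Q : Matrix (Fin m ⊕ Fin m) (Fin m ⊕ Fin m) F) *ᵥ v)) := by
          rw [Matrix.mulVec_mulVec, Matrix.mulVec_mulVec]
          rfl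
        rw [h1, hQ, hQ, hQinv]
        exact hA _
      · change Q * (Q⁻¹ * A * Q) * Q⁻¹ = A
        group
  let e1 := (MulAut.conj Q).subgroupMap (Cfsg.stabilizing (Cfsg.spToMat m F)
      (stdW F m k hk : Set (Fin m ⊕ Fin m → F)))
  let e2 := MulEquiv.subgroupCongr hmap
  let e3 := MulEquiv.ofBijective (spEmbed F m k hk) (spEmbed_bijective m k hk)
  exact ⟨(e3.trans (e1.trans e2)).symm⟩

end Cfsg.Agent.S0776
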