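import Cfsg.Statements.S0778

set_option autoImplicit false
open Cfsg

namespace Cfsg.Agent.S0778

open Matrix

variable {F : Type*} [Field F] (m : ℕ)

theorem blockDiag_mem (X : Matrix.GeneralLinearGroup (Fin m) F) :
    fromBlocks (X : Matrix (Fin m) (Fin m) F) 0 0
      ((X⁻¹ : Matrix.GeneralLinearGroup (Fin m) F) : Matrix (Fin m) (Fin m) F)ᵀ
      ∈ Matrix.symplecticGroup (Fin m) F := by
  rw [SymplecticGroup.mem_iff, Matrix.J, fromBlocks_multiply, fromBlocks_transpose,
    fromBlocks_multiply]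
  simp only [Matrix.mul_zero, Matrix.zero_mul, add_zero, zero_add, Matrix.mul_one,
    Matrix.mul_neg, Matrix.transpose_zero, Matrix.transpose_transpose, Matrix.neg_mul]
  have h1 : (X : Matrix (Fin m) (Fin m) F) *
      ((X⁻¹ : Matrix.GeneralLinearGroup (Fin m) F) : Matrix (Fin m) (Fin m) F) = 1 := by
    rw [← Units.val_mul, mul_inv_cancel]; rfl
  have h2 : ((X⁻¹ : Matrix.GeneralLinearGroup (Fin m) F) : Matrix (Fin m) (Fin m) F)ᵀ *
      (X : Matrix (Fin m) (Fin m) F)ᵀ = 1 := by
    rw [← Matrix.transpose_mul, h1, Matrix.transpose_one]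
  rw [h1, h2, neg_zero]

/-- The block-diagonal embedding of `GL_m` into `Sp_2m`. -/
def blockHom : Matrix.GeneralLinearGroup (Fin m) F →* Matrix.symplecticGroup (Fin m) F where
  toFun X := ⟨fromBlocks (X : Matrix (Fin m) (Fin m) F) 0 0
      ((X⁻¹ : Matrix.GeneralLinearGroup (Fin m) F) : Matrix (Fin m) (Fin m) F)ᵀ, blockDiag_mem m X⟩
  map_one' := by
    apply Subtype.ext
    simp [fromBlocks_one]
  map_mul' X Y := by
    apply Subtype.ext
    rw [Submonoid.coe_mul]
    simp only [fromBlocks_multiply, Matrix.mul_zero, Matrix.zero_mul, add_zero, zero_add,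
      _root_.mul_inv_rev, Units.val_mul, Matrix.transpose_mul]

theorem blockHom_injective : Function.Injective (blockHom (F := F) m) := by
  intro X Y h
  have h1 := congrArg Subtype.val h
  simp only [blockHom, MonoidHom.coe_mk, OneHom.coe_mk] at h1
  rw [fromBlocks_inj] at h1
  exact Units.ext h1.1

theorem blockHom_coe (X : Matrix.GeneralLinearGroup (Fin m) F) :
    ((blockHom m X : Matrix.symplecticGroup (Fin m) F) : Matrix (Fin m ⊕ Fin m) (Fin m ⊕ Fin m) F)
      = fromBlocks (X : Matrix (Fin m) (Fin m) F) 0 0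
      ((X⁻¹ : Matrix.GeneralLinearGroup (Fin m) F) : Matrix (Fin m) (Fin m) F)ᵀ := rfl

theorem blockHom_range :
    (blockHom (F := F) m).range =
      Cfsg.stabilizing (Cfsg.spToMat m F) {v : Fin m ⊕ Fin m → F | ∀ i : Fin m, v (Sum.inr i) = 0} ⊓
      Cfsg.stabilizing (Cfsg.spToMat m F) {v : Fin m ⊕ Fin m → F | ∀ i : Fin m, v (Sum.inl i) = 0} := by
  ext A
  constructor
  · rintro ⟨X, rfl⟩
    have hX1 : (X : Matrix (Fin m) (Fin m) F) *
        ((X⁻¹ : Matrix.GeneralLinearGroup (Fin m) F) : Matrix (Fin m) (Fin m) F) = 1 := by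
      rw [← Units.val_mul, mul_inv_cancel]; rfl
    have hX2 : ((X⁻¹ : Matrix.GeneralLinearGroup (Fin m) F) : Matrix (Fin m) (Fin m) F) *
        (X : Matrix (Fin m) (Fin m) F) = 1 := by
      rw [← Units.val_mul, inv_mul_cancel]; rfl
    constructor
    · intro v
      change (∀ i, v (Sum.inr i) = 0) ↔
        ∀ i, ((blockHom m X : Matrix.symplecticGroup (Fin m) F) :
          Matrix (Fin m ⊕ Fin m) (Fin m ⊕ Fin m) F).mulVec v (Sum.inr i) = 0
      rw [blockHom_coe, fromBlocks_mulVec]
      simp only [Sum.elim_inr, Matrix.zero_mulVec, zero_add]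
      constructor
      · intro h i
        have : v ∘ Sum.inr = 0 := funext h
        rw [this, Matrix.mulVec_zero]; rfl
      · intro h
        have h0 : ((X⁻¹ : Matrix.GeneralLinearGroup (Fin m) F) :
            Matrix (Fin m) (Fin m) F)ᵀ *ᵥ (v ∘ Sum.inr) = 0 := funext h
        have h3 := congrArg (fun w => (X : Matrix (Fin m) (Fin m) F)ᵀ *ᵥ w) h0
        simp only [Matrix.mulVec_mulVec, Matrix.mulVec_zero] at h3
        rw [← Matrix.transpose_mul, hX2, Matrix.transpose_one, Matrix.one_mulVec] at h3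
        intro i
        exact congrFun h3 i
    · intro v
      change (∀ i, v (Sum.inl i) = 0) ↔
        ∀ i, ((blockHom m X : Matrix.symplecticGroup (Fin m) F) :
          Matrix (Fin m ⊕ Fin m) (Fin m ⊕ Fin m) F).mulVec v (Sum.inl i) = 0
      rw [blockHom_coe, fromBlocks_mulVec]
      simp only [Sum.elim_inl, Matrix.zero_mulVec, add_zero]
      constructor
      · intro h i
        have : v ∘ Sum.inl = 0 := funext h
        rw [this, Matrix.mulVec_zero]; rfl
      · intro h
        have h0 : (X : Matrix (Fin m) (Fin m) F) *ᵥ (v ∘ Sum.inl) = 0 := funext h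
        have h3 := congrArg (fun w => ((X⁻¹ : Matrix.GeneralLinearGroup (Fin m) F) :
            Matrix (Fin m) (Fin m) F) *ᵥ w) h0
        simp only [Matrix.mulVec_mulVec, Matrix.mulVec_zero] at h3
        rw [hX2, Matrix.one_mulVec] at h3
        intro i
        exact congrFun h3 i
  · rintro ⟨hW, hU⟩
    -- the off-diagonal blocks vanish
    have hA := A.2
    set M : Matrix (Fin m ⊕ Fin m) (Fin m ⊕ Fin m) F :=
      (A : Matrix (Fin m ⊕ Fin m) (Fin m ⊕ Fin m) F) with hM
    have h21 : M.toBlocks₂₁ = 0 := by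
      ext i j
      have := (hW (Pi.single (Sum.inl j) 1)).mp (by
        intro i; simp)
      have h := this i
      change (M *ᵥ Pi.single (Sum.inl j) 1) (Sum.inr i) = 0 at h
      rw [Matrix.mulVec_single_one] at h
      exact h
    have h12 : M.toBlocks₁₂ = 0 := by
      ext i j
      have := (hU (Pi.single (Sum.inr j) 1)).mp (by
        intro i; simp)
      have h := this i
      change (M *ᵥ Pi.single (Sum.inr j) 1) (Sum.inl i) = 0 at h
      rw [Matrix.mulVec_single_one] at h
      exact h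
    have hMblocks : M = fromBlocks M.toBlocks₁₁ 0 0 M.toBlocks₂₂ := by
      conv_lhs => rw [← fromBlocks_toBlocks M, h12, h21]
    rw [SymplecticGroup.mem_iff] at hA
    rw [hMblocks, Matrix.J, fromBlocks_multiply, fromBlocks_transpose, fromBlocks_multiply,
      fromBlocks_inj] at hA
    simp only [Matrix.mul_zero, Matrix.zero_mul, add_zero, zero_add, Matrix.mul_one,
      Matrix.mul_neg, Matrix.transpose_zero, Matrix.neg_mul, neg_inj] at hA
    obtain ⟨-, h1, h2, -⟩ := hA
    -- h1 : M₁₁ * M₂₂ᵀ = 1 ; h2 : M₂₂ * M₁₁ᵀ = 1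
    have h3 : M.toBlocks₂₂ᵀ * M.toBlocks₁₁ = 1 := by
      have := congrArg Matrix.transpose h2
      rw [Matrix.transpose_mul, Matrix.transpose_transpose, Matrix.transpose_one] at this
      exact mul_eq_one_comm.mp this
    let X : Matrix.GeneralLinearGroup (Fin m) F := ⟨M.toBlocks₁₁, M.toBlocks₂₂ᵀ, h1, h3⟩
    refine ⟨X, ?_⟩
    apply Subtype.ext
    rw [blockHom_coe]
    change fromBlocks M.toBlocks₁₁ 0 0 (M.toBlocks₂₂ᵀ)ᵀ = M
    rw [Matrix.transpose_transpose]
    exact hMblocks.symm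


/-- The elements of Sp_2m(F) stabilising both W = ⟨e_1..e_m⟩ and U = ⟨f_1..f_m⟩ form a subgroup isomorphic to GL_m(F) (block-diagonal matrices diag(X, X^(−ᵀ)) up to the sign convention of J), for m ≥ 1 or m = 0 alike. -/
theorem result {F : Type*} [Field F] (m : ℕ) : Nonempty (↥(Cfsg.stabilizing (Cfsg.spToMat m F) {v : Fin m ⊕ Fin m → F | ∀ i : Fin m, v (Sum.inr i) = 0} ⊓ Cfsg.stabilizing (Cfsg.spToMat m F) {v : Fin m ⊕ Fin m → F | ∀ i : Fin m, v (Sum.inl i) = 0}) ≃* Matrix.GeneralLinearGroup (Fin m) F) := by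
  refine ⟨MulEquiv.symm ?_⟩
  exact (MonoidHom.ofInjective (blockHom_injective m)).trans
    (MulEquiv.subgroupCongr (blockHom_range m))

end Cfsg.Agent.S0778
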