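import Cfsg.Statements.S0783
import Cfsg.Agent.Lib.Helper13.GU

set_option autoImplicit false
open Cfsg

namespace Cfsg.Agent.S0783

open Matrix Cfsg.Agent.Lib.Helper13

theorem exists_iso_of_cyclic {Q : Type*} [Group Q] (hQ : IsCyclic Q) (d : ℕ) (hd : Nat.card Q = d) :
    Nonempty (Multiplicative (ZMod d) ≃* Q) := by
  subst hd
  exact ⟨zmodCyclicMulEquiv hQ⟩

/-- PGU_n(q)/PSU_n(q) is cyclic of order (n, q+1): for n ≥ 2 and |F| = q² there is a surjective homomorphism from GU_n(q) onto the cyclic group of order gcd(n, q + 1) whose kernel is generated by the determinant-one elements together with the centre. -/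
theorem result {F : Type*} [Field F] [Fintype F] {q : ℕ} (hF : Fintype.card F = q ^ 2) (n : ℕ) (hn : 2 ≤ n) : ∃ φ : ↥(Cfsg.GU n F q) →* Multiplicative (ZMod (Nat.gcd n (q + 1))), Function.Surjective φ ∧ φ.ker = (Matrix.GeneralLinearGroup.det : Matrix.GeneralLinearGroup (Fin n) F →* Fˣ).ker.subgroupOf (Cfsg.GU n F q) ⊔ Subgroup.center ↥(Cfsg.GU n F q) := by
  classical
  obtain ⟨D, hDdef⟩ : ∃ D : ↥(Cfsg.GU n F q) →* Fˣ,
      D = (Matrix.GeneralLinearGroup.det : Matrix.GeneralLinearGroup (Fin n) F →* Fˣ).comp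
        (Cfsg.GU n F q).subtype := ⟨_, rfl⟩
  have hDval : ∀ g : ↥(Cfsg.GU n F q), ((D g : Fˣ) : F)
      = ((g : GL (Fin n) F) : Matrix (Fin n) (Fin n) F).det := by
    intro g
    rw [hDdef]
    rfl
  have hDmem : ∀ g : ↥(Cfsg.GU n F q), D g ∈ normOne F q := by
    intro g
    rw [mem_normOne]
    apply Units.ext
    rw [Units.val_pow_eq_pow_val, hDval, Units.val_one]
    exact GU_det_pow hF n g g.2
  have hK : (Matrix.GeneralLinearGroup.det : Matrix.GeneralLinearGroup (Fin n) F →* Fˣ).ker.subgroupOf
      (Cfsg.GU n F q) = D.ker := by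
    rw [hDdef]
    rfl
  rw [hK]
  obtain ⟨D', hD'def⟩ : ∃ D' : ↥(Cfsg.GU n F q) →* ↥(normOne F q),
      D' = D.codRestrict (normOne F q) hDmem := ⟨_, rfl⟩
  have hD'val : ∀ g, ((D' g : Fˣ)) = D g := by
    intro g
    rw [hD'def]
    rfl
  have hkerD' : D'.ker = D.ker := by
    ext g
    rw [MonoidHom.mem_ker, MonoidHom.mem_ker, ← hD'val]
    constructor
    · intro h; rw [h]; rfl
    · intro h; exact Subtype.ext h
  have hnpos : 0 < n := by omega
  have hsurj : Function.Surjective D' := by
    rintro ⟨x, hx⟩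
    rw [mem_normOne] at hx
    have hxF : (x : F) ^ (q + 1) = 1 := by
      rw [← Units.val_pow_eq_pow_val, hx, Units.val_one]
    have hd : ∀ k, (Function.update (fun _ => (1 : F)) (⟨0, hnpos⟩ : Fin n) (x : F)) k ^ (q + 1) = 1 := by
      intro k
      by_cases hk : k = ⟨0, hnpos⟩
      · subst hk; simp [hxF]
      · simp [Function.update_of_ne hk]
    refine ⟨diagGU n q _ hd, ?_⟩
    apply Subtype.ext
    apply Units.ext
    rw [hD'val, hDval, diagGU_val, Matrix.det_diagonal]
    rw [Finset.prod_eq_single (⟨0, hnpos⟩ : Fin n)]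
    · simp
    · intro b _ hb
      simp [Function.update_of_ne hb]
    · intro h; exact absurd (Finset.mem_univ _) h
  -- the subgroup N
  obtain ⟨N, hN⟩ : ∃ N : Subgroup ↥(Cfsg.GU n F q), N = D.ker ⊔ Subgroup.center ↥(Cfsg.GU n F q) :=
    ⟨_, rfl⟩
  have hNnormal : N.Normal := by
    rw [hN]
    infer_instance
  have hkerN : D'.ker ≤ N := by
    rw [hkerD', hN]
    exact le_sup_left
  -- image of N
  have hmap : N.map D' = (powMonoidHom n : ↥(normOne F q) →* ↥(normOne F q)).range := by
    apply le_antisymm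
    · rw [hN, Subgroup.map_sup]
      apply sup_le
      · rw [← hkerD']
        intro y hy
        obtain ⟨g, hg, rfl⟩ := hy
        rw [SetLike.mem_coe, MonoidHom.mem_ker] at hg
        rw [hg]
        exact Subgroup.one_mem _
      · rintro y ⟨z, hz, rfl⟩
        obtain ⟨c, hc⟩ := center_GU_scalar hF n z hz
        -- c has norm one
        have hcdet : ((D z : Fˣ) : F) = c ^ n := by
          rw [hDval, hc, Matrix.det_smul, Matrix.det_one, mul_one, Fintype.card_fin]
        have hcnorm : c ^ (q + 1) = 1 := by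
          have h1 := (mem_GU_iff n q (z : GL (Fin n) F)).mp z.2
            (Pi.single ⟨0, hnpos⟩ 1) (Pi.single ⟨0, hnpos⟩ 1)
          rw [hc, Matrix.smul_mulVec, Matrix.one_mulVec, hermForm_smul_left, hermForm_smul_right,
            hermForm_single_single n q (by have := two_le_q hF; omega), if_pos rfl, mul_one] at h1
          rw [pow_succ, mul_comm]
          exact h1
        have hc0 : c ≠ 0 := by
          intro h0
          rw [h0, zero_pow (by omega)] at hcnorm
          exact zero_ne_one hcnorm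
        refine ⟨⟨Units.mk0 c hc0, ?_⟩, ?_⟩
        · rw [mem_normOne]
          apply Units.ext
          rw [Units.val_pow_eq_pow_val, Units.val_mk0, hcnorm, Units.val_one]
        · apply Subtype.ext
          apply Units.ext
          rw [powMonoidHom_apply, hD'val, hcdet]
          simp
    · rintro y ⟨x, rfl⟩
      obtain ⟨x, hx⟩ := x
      have hx' := (mem_normOne q x).mp hx
      have hxF : (x : F) ^ (q + 1) = 1 := by
        rw [← Units.val_pow_eq_pow_val, hx', Units.val_one]
      have hd : ∀ k : Fin n, (fun _ => (x : F)) k ^ (q + 1) = 1 := fun _ => hxF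
      refine ⟨diagGU n q _ hd, ?_, ?_⟩
      · rw [hN]
        apply Subgroup.mem_sup_right
        rw [Subgroup.mem_center_iff]
        intro g
        apply Subtype.ext
        apply Units.ext
        simp only [Subgroup.coe_mul, Units.val_mul, diagGU_val]
        have : Matrix.diagonal (fun _ : Fin n => (x : F)) = (x : F) • (1 : Matrix (Fin n) (Fin n) F) := by
          ext i j
          simp [Matrix.diagonal_apply, Matrix.one_apply]
        rw [this, Matrix.mul_smul, Matrix.smul_mul, Matrix.mul_one, Matrix.one_mul]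
      · apply Subtype.ext
        apply Units.ext
        rw [hD'val, hDval, diagGU_val, Matrix.det_diagonal, powMonoidHom_apply]
        simp
  have hindex : N.index = Nat.gcd n (q + 1) := by
    rw [← Subgroup.index_map_eq N hsurj hkerN, hmap, IsCyclic.index_powMonoidHom_range,
      card_normOne hF, Nat.gcd_comm]
  have hcardQ : Nat.card (↥(Cfsg.GU n F q) ⧸ N) = Nat.gcd n (q + 1) := by
    rw [← hindex, Subgroup.index_eq_card]
  have hcyc : IsCyclic (↥(Cfsg.GU n F q) ⧸ N) := by
    let f1 : ↥(normOne F q) ≃* (↥(Cfsg.GU n F q) ⧸ D'.ker) :=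
      (QuotientGroup.quotientKerEquivOfSurjective D' hsurj).symm
    let f2 : (↥(Cfsg.GU n F q) ⧸ D'.ker) →* (↥(Cfsg.GU n F q) ⧸ N) :=
      QuotientGroup.map D'.ker N (MonoidHom.id _) (by
        intro x hx
        exact hkerN hx)
    have hf2 : Function.Surjective f2 := by
      intro y
      obtain ⟨g, rfl⟩ := QuotientGroup.mk_surjective y
      exact ⟨QuotientGroup.mk g, rfl⟩
    exact isCyclic_of_surjective (f2.comp f1.toMonoidHom) (hf2.comp f1.surjective)
  obtain ⟨iso⟩ := exists_iso_of_cyclic hcyc _ hcardQ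
  refine ⟨iso.symm.toMonoidHom.comp (QuotientGroup.mk' N), ?_, ?_⟩
  · exact iso.symm.surjective.comp (QuotientGroup.mk'_surjective N)
  · rw [← hN]
    ext g
    rw [MonoidHom.mem_ker, MonoidHom.comp_apply]
    simp only [MulEquiv.coe_toMonoidHom]
    rw [MulEquiv.map_eq_one_iff, QuotientGroup.mk'_apply, QuotientGroup.eq_one_iff]

end Cfsg.Agent.S0783
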