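import Cfsg.Statements.S0787
import Cfsg.Agent.Lib.Helper8.UniqueIndexTwo
import Cfsg.Agent.Lib.Helper8.Dickson
import Cfsg.Agent.S0788

set_option autoImplicit false
open Cfsg

namespace Cfsg.Agent.S0787

/-- Existence and uniqueness of Ω: if F is finite, n ≥ 2, Q is a quadratic form on F^n with non-degenerate polar form and (|F|, n) ≠ (2, 4), then the group of isometries of determinant one has a unique subgroup of index 2. -/
theorem result {F : Type*} [Field F] [Fintype F] {n : ℕ} (hn : 2 ≤ n) (Q : QuadraticForm F (Fin n → F)) (hQ : (QuadraticMap.polarBilin Q).Nondegenerate) (h : Fintype.card F ≠ 2 ∨ n ≠ 4) : ∃! H : Subgroup ↥(Cfsg.specialIsometryGroup F ⇑Q), H.index = 2 := by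
  have hcard : Fintype.card F ≠ 2 ∨ Module.finrank F (Fin n → F) ≠ 4 := by
    rw [Module.finrank_fin_fun]; exact h
  have hgen := Cfsg.Agent.Lib.Helper8.closure_reflSet_eq_top' Q hQ hcard
  have hex : ∃ v, Q v ≠ 0 := by
    by_contra hcon
    push Not at hcon
    have hzero : ∀ x : Fin n → F, x = 0 := by
      intro x
      apply hQ.1
      intro y
      show QuadraticMap.polar (⇑Q) x y = 0
      simp [QuadraticMap.polar, hcon]
    have := hzero (Pi.single ⟨0, by omega⟩ 1)
    have h1 := congrFun this ⟨0, by omega⟩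
    simp at h1
  apply Cfsg.Agent.Lib.Helper8.existsUnique_index_two Q hgen
  have hle : commutator ↥(Cfsg.isometryGroup F ⇑Q) ≤ Cfsg.specialIsometryGroup F ⇑Q := by
    unfold Cfsg.specialIsometryGroup
    exact Abelianization.commutator_subset_ker _
  have hmul := Subgroup.relIndex_mul_index hle
  have hdet : ∀ g : ↥(Cfsg.isometryGroup F ⇑Q),
      Cfsg.Agent.Lib.Helper8.isoDet Q g = 1 ∨ Cfsg.Agent.Lib.Helper8.isoDet Q g = -1 := by
    intro g
    exact Cfsg.Agent.Lib.Helper13.det_eq_one_or_neg_one_of_preserves Q hQ _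
      (Cfsg.Agent.Lib.Helper8.isoElt_preserves Q g)
  show (commutator ↥(Cfsg.isometryGroup F ⇑Q)).relIndex (Cfsg.specialIsometryGroup F ⇑Q) = 2
  by_cases h2 : (2 : F) = 0
  · have hi := Cfsg.Agent.Lib.Helper8.commutator_index_two_char2 h2 Q hQ hcard hex
    have htop : Cfsg.specialIsometryGroup F ⇑Q = ⊤ := by
      rw [eq_top_iff]
      intro g _
      rw [Cfsg.Agent.Lib.Helper8.mem_specialIsometryGroup_iff]
      rcases hdet g with hd | hd
      · exact hd
      · rw [hd]
        exact Cfsg.Agent.Lib.Helper8.char2_neg h2 1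
    rw [htop, Subgroup.index_top, mul_one] at hmul
    rw [htop, hmul, hi]
  · have hi : (commutator ↥(Cfsg.isometryGroup F ⇑Q)).index = 4 :=
      Cfsg.Agent.S0788.result h2 hn Q hQ
    obtain ⟨v0, hv0⟩ := hex
    have hSO : (Cfsg.specialIsometryGroup F ⇑Q).index = 2 := by
      rw [Subgroup.index_eq_two_iff]
      refine ⟨Cfsg.Agent.Lib.Helper8.reflElt Q v0 hv0, fun b => ?_⟩
      rw [Cfsg.Agent.Lib.Helper8.mem_specialIsometryGroup_iff,
        Cfsg.Agent.Lib.Helper8.mem_specialIsometryGroup_iff,
        Cfsg.Agent.Lib.Helper8.isoDet_mul,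
        Cfsg.Agent.Lib.Helper8.isoDet_refl Q _
          (Cfsg.Agent.Lib.Helper8.reflElt_mem_reflSet Q v0 hv0)]
      have hne : (1 : F) ≠ -1 := by
        intro h1
        apply h2
        linear_combination h1
      rcases hdet b with hd | hd
      · rw [hd]
        right
        refine ⟨rfl, ?_⟩
        rw [one_mul]
        exact fun h => hne h.symm
      · rw [hd]
        left
        refine ⟨by ring, ?_⟩
        exact fun h => hne h.symm
    rw [hSO, hi] at hmul
    omega

end Cfsg.Agent.S0787
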