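import Cfsg.Statements.S0792
import Cfsg.Agent.Lib.Helper8.CartanDieudonne

set_option autoImplicit false
open Cfsg

namespace Cfsg.Agent.S0792

open Cfsg.Agent.Lib.Helper8 in
/-- For q odd and Q with non-degenerate polar form on F^n, the determinant-one isometries form the subgroup generated by all products r_u r_v of two reflections (Q(u), Q(v) ≠ 0). -/
theorem result {F : Type*} [Field F] [Fintype F] (h2 : (2 : F) ≠ 0) {n : ℕ} (Q : QuadraticForm F (Fin n → F)) (hQ : (QuadraticMap.polarBilin Q).Nondegenerate) : Cfsg.specialIsometryGroup F ⇑Q = Subgroup.closure {g : ↥(Cfsg.isometryGroup F ⇑Q) | ∃ u v : Fin n → F, Q u ≠ 0 ∧ Q v ≠ 0 ∧ ((g : Matrix.GeneralLinearGroup (Fin n) F) : Matrix (Fin n) (Fin n) F) = Cfsg.reflectionMatrix ⇑Q u * Cfsg.reflectionMatrix ⇑Q v} := by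
  change Cfsg.specialIsometryGroup F ⇑Q = Subgroup.closure (reflPairSet Q)
  apply le_antisymm
  · intro g hg
    rw [mem_specialIsometryGroup_iff] at hg
    have hcl : g ∈ Subgroup.closure (reflSet Q) := by
      rw [closure_reflSet_eq_top h2 Q hQ]; trivial
    exact (parity_aux h2 Q g hcl).1 hg
  · rw [Subgroup.closure_le]
    rintro g ⟨u, v, hu, hv, hg⟩
    rw [SetLike.mem_coe, mem_specialIsometryGroup_iff, isoDet, hg, Matrix.det_mul,
      Cfsg.Agent.Lib.Helper13.reflectionMatrix_det Q u hu,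
      Cfsg.Agent.Lib.Helper13.reflectionMatrix_det Q v hv]
    ring

end Cfsg.Agent.S0792
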