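import Cfsg.Statements.S0794
import Cfsg.Agent.S0793
import Cfsg.Agent.Lib.Helper13.Orth

set_option autoImplicit false
open Cfsg

namespace Cfsg.Agent.S0794
open Matrix Cfsg.Agent.Lib.Helper13 QuadraticMap

variable {F : Type*} [Field F] {n : ℕ}

/-- the matrix of `x ↦ x - 2 f(u',x) u - 2 f(u,x) u'` -/
def hypMat (Q : QuadraticForm F (Fin n → F)) (u u' : Fin n → F) : Matrix (Fin n) (Fin n) F :=
  1 - (2 : F) • (vecMulVec u (Cfsg.polarVec ⇑Q u') + vecMulVec u' (Cfsg.polarVec ⇑Q u))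

theorem hypMat_mulVec (Q : QuadraticForm F (Fin n → F)) (u u' x : Fin n → F) :
    hypMat Q u u' *ᵥ x = x - (2 * polar ⇑Q u' x) • u - (2 * polar ⇑Q u x) • u' := by
  unfold hypMat
  rw [sub_mulVec, one_mulVec, smul_mulVec, add_mulVec, vecMulVec_mulVec, vecMulVec_mulVec,
    polarVec_dotProduct, polarVec_dotProduct]
  ext i
  simp only [Pi.add_apply, Pi.sub_apply, Pi.smul_apply, MulOpposite.smul_eq_mul_unop,
    MulOpposite.unop_op, smul_eq_mul]
  ring

section hyp
variable (Q : QuadraticForm F (Fin n → F)) (u u' : Fin n → F)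
  (hu : Q u = 0) (hu' : Q u' = 0) (huu' : polar ⇑Q u u' = 1)
include hu hu' huu'

theorem hypMat_preserves (x : Fin n → F) : Q (hypMat Q u u' *ᵥ x) = Q x := by
  rw [hypMat_mulVec, sub_eq_add_neg, sub_eq_add_neg, ← neg_smul, ← neg_smul]
  rw [QuadraticMap.map_add (⇑Q), QuadraticMap.map_add (⇑Q), QuadraticMap.map_smul,
    QuadraticMap.map_smul, hu, hu']
  simp only [polar_add_left, polar_smul_left, polar_smul_right, smul_eq_mul, huu']
  rw [polar_comm (⇑Q) x u, polar_comm (⇑Q) x u']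
  ring

theorem hypMat_polar_u (x : Fin n → F) : polar ⇑Q u (hypMat Q u u' *ᵥ x) = - polar ⇑Q u x := by
  rw [hypMat_mulVec]
  simp only [polar_sub_right, polar_smul_right, smul_eq_mul, huu']
  rw [polar_self, hu]
  simp only [smul_zero, mul_zero, sub_zero, mul_one]
  ring

theorem hypMat_polar_u' (x : Fin n → F) : polar ⇑Q u' (hypMat Q u u' *ᵥ x) = - polar ⇑Q u' x := by
  rw [hypMat_mulVec]
  simp only [polar_sub_right, polar_smul_right, smul_eq_mul]
  rw [polar_self, hu', polar_comm (⇑Q) u' u, huu']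
  simp only [smul_zero, mul_zero, sub_zero, mul_one]
  ring

theorem hypMat_sq : hypMat Q u u' * hypMat Q u u' = 1 := by
  rw [Matrix.ext_iff_mulVec]
  intro x
  rw [← mulVec_mulVec, one_mulVec]
  conv_lhs => rw [hypMat_mulVec]
  rw [hypMat_polar_u Q u u' hu hu' huu', hypMat_polar_u' Q u u' hu hu' huu', hypMat_mulVec]
  ext i
  simp only [Pi.sub_apply, Pi.smul_apply, smul_eq_mul]
  ring

theorem hypMat_u : hypMat Q u u' *ᵥ u = -u := by
  rw [hypMat_mulVec, polar_self, hu, polar_comm (⇑Q) u' u, huu']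
  ext i
  simp only [Pi.sub_apply, Pi.smul_apply, smul_eq_mul, Pi.neg_apply]
  ring

omit hu hu' huu' in
theorem hypMat_v (v : Fin n → F) (h1 : polar ⇑Q u v = 0) (h2 : polar ⇑Q u' v = 0) :
    hypMat Q u u' *ᵥ v = v := by
  rw [hypMat_mulVec, h1, h2]
  simp

end hyp

theorem siegel_zero (Q : QuadraticForm F (Fin n → F)) (u v : Fin n → F) :
    Cfsg.siegelMatrix ⇑Q u v 0 = 1 := by
  simp [Cfsg.siegelMatrix]

/-- conjugating the Siegel matrix by the hyperbolic involution inverts the parameter -/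
theorem conj_siegel (Q : QuadraticForm F (Fin n → F)) (u u' v : Fin n → F)
    (hu : Q u = 0) (hu' : Q u' = 0) (huu' : polar ⇑Q u u' = 1)
    (huv : polar ⇑Q u v = 0) (hu'v : polar ⇑Q u' v = 0) (c : F) :
    hypMat Q u u' * Cfsg.siegelMatrix ⇑Q u v c * hypMat Q u u' = Cfsg.siegelMatrix ⇑Q u v (-c) := by
  rw [Matrix.ext_iff_mulVec]
  intro x
  rw [← mulVec_mulVec, ← mulVec_mulVec, siegelMatrix_mulVec, siegelMatrix_mulVec]
  have h1 := hypMat_polar_u Q u u' hu hu' huu' x
  have hHv := hypMat_v Q u u' v huv hu'v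
  have h2 : polar ⇑Q v (hypMat Q u u' *ᵥ x) = polar ⇑Q v x := by
    conv_lhs => rw [← hHv]
    exact polar_mulVec_of_preserves Q _ (hypMat_preserves Q u u' hu hu' huu') v x
  rw [h1, h2, mulVec_sub, mulVec_add, mulVec_smul, mulVec_smul, hHv,
    hypMat_u Q u u' hu hu' huu']
  have hsq := hypMat_sq Q u u' hu hu' huu'
  rw [mulVec_mulVec, hsq, one_mulVec]
  ext i
  simp only [Pi.add_apply, Pi.sub_apply, Pi.smul_apply, smul_eq_mul, Pi.neg_apply]
  ring

/-- degenerate case: the Siegel matrix is the identity -/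
theorem siegel_eq_one (Q : QuadraticForm F (Fin n → F))
    (hQ : (QuadraticMap.polarBilin Q).Nondegenerate) (u v : Fin n → F)
    (hex : ¬ ∃ y, polar ⇑Q u y = 1 ∧ polar ⇑Q v y = 0) (c : F) :
    Cfsg.siegelMatrix ⇑Q u v c = 1 := by
  rw [Matrix.ext_iff_mulVec]
  intro x
  rw [siegelMatrix_mulVec, one_mulVec]
  -- key: f(v,y) = 0 → f(u,y) = 0
  have key : ∀ y, polar ⇑Q v y = 0 → polar ⇑Q u y = 0 := by
    intro y hy
    by_contra hne
    apply hex
    refine ⟨(polar ⇑Q u y)⁻¹ • y, ?_, ?_⟩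
    · rw [polar_smul_right, smul_eq_mul, inv_mul_cancel₀ hne]
    · rw [polar_smul_right, hy, smul_zero]
  by_cases hv : ∀ y, polar ⇑Q v y = 0
  · -- v = 0
    have hu0 : ∀ y, polar ⇑Q u y = 0 := fun y => key y (hv y)
    rw [hv x, hu0 x]; simp
  · push Not at hv
    obtain ⟨y₀, hy₀⟩ := hv
    -- normalise
    set y₁ := (polar ⇑Q v y₀)⁻¹ • y₀ with hy₁def
    have hy₁ : polar ⇑Q v y₁ = 1 := by
      rw [hy₁def, polar_smul_right, smul_eq_mul, inv_mul_cancel₀ hy₀]
    obtain ⟨t, ht⟩ : ∃ t, t = polar ⇑Q u y₁ := ⟨_, rfl⟩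
    have hlin : ∀ y, polar ⇑Q u y = t * polar ⇑Q v y := by
      intro y
      have h0 : polar ⇑Q v (y - polar ⇑Q v y • y₁) = 0 := by
        rw [polar_sub_right, polar_smul_right, hy₁]; simp
      have := key _ h0
      rw [polar_sub_right, polar_smul_right, smul_eq_mul, ← ht] at this
      linear_combination this
    have huv : u = t • v := by
      have hsep := hQ.1
      have : u - t • v = 0 := by
        apply hsep
        intro y
        rw [QuadraticMap.polarBilin_apply_apply, polar_sub_left, polar_smul_left, hlin y]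
        simp
      exact sub_eq_zero.mp this
    rw [hlin x]
    conv_lhs => rw [huv]
    ext i
    simp only [Pi.add_apply, Pi.sub_apply, Pi.smul_apply, smul_eq_mul]
    ring

/-- For q odd, n ≥ 5 and Q with non-degenerate polar form: an isometry whose matrix is a Siegel transformation T_(u,v)(c) (u, v singular and orthogonal) is a commutator in the isometry group, so lies in Ω. -/
theorem result {F : Type*} [Field F] [Fintype F] (h2 : (2 : F) ≠ 0) {n : ℕ} (hn : 5 ≤ n) (Q : QuadraticForm F (Fin n → F)) (hQ : (QuadraticMap.polarBilin Q).Nondegenerate) (u v : Fin n → F) (hu : Q u = 0) (hv : Q v = 0) (huv : QuadraticMap.polar ⇑Q u v = 0) (c : F) (g : ↥(Cfsg.isometryGroup F ⇑Q)) (hg : ((g : Matrix.GeneralLinearGroup (Fin n) F) : Matrix (Fin n) (Fin n) F) = Cfsg.siegelMatrix ⇑Q u v c) : g ∈ commutatorSet ↥(Cfsg.isometryGroup F ⇑Q) ∧ g ∈ Cfsg.Omega F ⇑Q := by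
  suffices hcs : g ∈ commutatorSet ↥(Cfsg.isometryGroup F ⇑Q) by
    refine ⟨hcs, ?_⟩
    show g ∈ commutator _
    rw [commutator_eq_closure]
    exact Subgroup.subset_closure hcs
  by_cases hex : ∃ y, polar ⇑Q u y = 1 ∧ polar ⇑Q v y = 0
  · obtain ⟨y, hy1, hy2⟩ := hex
    obtain ⟨hT1, _, hT3⟩ := Cfsg.Agent.S0793.result Q u v hu hv huv
    -- the hyperbolic partner
    set u' := y - Q y • u with hu'def
    have huu : polar ⇑Q u u = 0 := by rw [polar_self, hu, smul_zero]
    have hQu' : Q u' = 0 := by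
      rw [hu'def, sub_eq_add_neg, ← neg_smul, QuadraticMap.map_add (⇑Q), QuadraticMap.map_smul, hu,
        polar_smul_right, polar_comm (⇑Q) y u, hy1]
      simp
    have huu' : polar ⇑Q u u' = 1 := by
      rw [hu'def, polar_sub_right, polar_smul_right, huu, hy1]; simp
    have hu'v : polar ⇑Q u' v = 0 := by
      rw [hu'def, polar_sub_left, polar_smul_left, huv, polar_comm (⇑Q) y v, hy2]; simp
    have hsq := hypMat_sq Q u u' hu hQu' huu'
    -- the group elements
    let hU : Matrix.GeneralLinearGroup (Fin n) F := ⟨hypMat Q u u', hypMat Q u u', hsq, hsq⟩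
    have hTinv : ∀ d, Cfsg.siegelMatrix ⇑Q u v d * Cfsg.siegelMatrix ⇑Q u v (-d) = 1 := by
      intro d; rw [hT3, add_neg_cancel, siegel_zero]
    have hTinv' : ∀ d, Cfsg.siegelMatrix ⇑Q u v (-d) * Cfsg.siegelMatrix ⇑Q u v d = 1 := by
      intro d; rw [hT3, neg_add_cancel, siegel_zero]
    let tU : Matrix.GeneralLinearGroup (Fin n) F :=
      ⟨Cfsg.siegelMatrix ⇑Q u v (-c / 2), Cfsg.siegelMatrix ⇑Q u v (-(-c / 2)), hTinv _, hTinv' _⟩
    have hUmem : hU ∈ Cfsg.isometryGroup F ⇑Q := by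
      rw [mem_isometryGroup_iff]
      exact hypMat_preserves Q u u' hu hQu' huu'
    have tUmem : tU ∈ Cfsg.isometryGroup F ⇑Q := by
      rw [mem_isometryGroup_iff]
      exact hT1 _
    refine ⟨⟨hU, hUmem⟩, ⟨tU, tUmem⟩, ?_⟩
    apply Subtype.ext
    apply Units.ext
    rw [hg, commutatorElement_def]
    show hypMat Q u u' * Cfsg.siegelMatrix ⇑Q u v (-c / 2) * hypMat Q u u'
      * Cfsg.siegelMatrix ⇑Q u v (-(-c / 2)) = Cfsg.siegelMatrix ⇑Q u v c
    rw [conj_siegel Q u u' v hu hQu' huu' huv hu'v, hT3]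
    congr 1
    field_simp
    ring
  · have h1 := siegel_eq_one Q hQ u v hex c
    have : g = 1 := by
      apply Subtype.ext
      apply Units.ext
      rw [hg, h1]; rfl
    rw [this]
    exact ⟨1, 1, by simp⟩

end Cfsg.Agent.S0794
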