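import Cfsg.Statements.S0796
import Mathlib

set_option autoImplicit false
open Cfsg

namespace Cfsg.Agent.S0796

/-- If G is finite and acts faithfully and primitively on X, H is the stabiliser of a point, A is a normal subgroup of H whose normal closure in G is G, then for every non-trivial normal subgroup K of G the quotient G ⧸ K is isomorphic to A ⧸ B for some normal subgroup B of A. -/
theorem result {G X : Type*} [Group G] [Finite G] [MulAction G X] [FaithfulSMul G X] (hprim : MulAction.IsPreprimitive G X) (x : X) (A : Subgroup G) (hA : A ≤ MulAction.stabilizer G x) (hAn : (A.subgroupOf (MulAction.stabilizer G x)).Normal) (hgen : Subgroup.normalClosure (A : Set G) = ⊤) (K : Subgroup G) [K.Normal] (hK : K ≠ ⊥) : ∃ (B : Subgroup A) (_ : B.Normal), Nonempty (G ⧸ K ≃* A ⧸ B) := by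
  -- K acts nontrivially
  have hfix : MulAction.fixedPoints K X ≠ Set.univ := by
    intro hfix
    apply hK
    rw [Subgroup.eq_bot_iff_forall]
    intro k hk
    apply FaithfulSMul.eq_of_smul_eq_smul (α := X)
    intro y
    rw [one_smul]
    have hy : y ∈ MulAction.fixedPoints K X := by rw [hfix]; exact Set.mem_univ y
    exact hy ⟨k, hk⟩
  have htrans : MulAction.IsPretransitive K X :=
    MulAction.IsQuasiPreprimitive.isPretransitive_of_normal hfix
  -- every element is k * h with k ∈ K, h ∈ stabilizer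
  have hdecomp : ∀ c : G, ∃ k ∈ K, ∃ h ∈ MulAction.stabilizer G x, c = k * h := by
    intro c
    obtain ⟨k, hk⟩ := MulAction.exists_smul_eq K x (c • x)
    refine ⟨k, k.2, (k : G)⁻¹ * c, ?_, by group⟩
    rw [MulAction.mem_stabilizer_iff, mul_smul, ← hk]
    show (k : G)⁻¹ • ((k : G) • x) = x
    rw [inv_smul_smul]
  -- K ⊔ A = ⊤
  have hsup : K ⊔ A = ⊤ := by
    rw [eq_top_iff, ← hgen, Subgroup.normalClosure]
    rw [Subgroup.closure_le]
    intro a ha
    rw [Group.mem_conjugatesOfSet_iff] at ha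
    obtain ⟨b, hb, hconj⟩ := ha
    rw [isConj_iff] at hconj
    obtain ⟨c, rfl⟩ := hconj
    obtain ⟨k, hk, h, hh, rfl⟩ := hdecomp c
    have hbA : h * b * h⁻¹ ∈ A := by
      have := hAn.conj_mem ⟨b, hA hb⟩ (by simpa [Subgroup.mem_subgroupOf] using hb) ⟨h, hh⟩
      simpa [Subgroup.mem_subgroupOf] using this
    have : k * h * b * (k * h)⁻¹ = k * (h * b * h⁻¹) * k⁻¹ := by group
    rw [SetLike.mem_coe, this]
    exact (K ⊔ A).mul_mem ((K ⊔ A).mul_mem (Subgroup.mem_sup_left hk) (Subgroup.mem_sup_right hbA))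
      ((K ⊔ A).inv_mem (Subgroup.mem_sup_left hk))
  -- the map A → G ⧸ K is surjective
  let φ : A →* G ⧸ K := (QuotientGroup.mk' K).comp A.subtype
  have hφ : Function.Surjective φ := by
    intro y
    obtain ⟨g, rfl⟩ := QuotientGroup.mk'_surjective K y
    have hg : g ∈ K ⊔ A := by rw [hsup]; exact Subgroup.mem_top g
    rw [sup_comm, Subgroup.mem_sup_of_normal_right] at hg
    obtain ⟨a, ha, k, hk, rfl⟩ := hg
    refine ⟨⟨a, ha⟩, ?_⟩
    show (QuotientGroup.mk' K) a = (QuotientGroup.mk' K) (a * k)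
    rw [map_mul]
    have : (QuotientGroup.mk' K) k = 1 := by
      rw [QuotientGroup.mk'_apply, QuotientGroup.eq_one_iff]; exact hk
    rw [this, mul_one]
  exact ⟨φ.ker, MonoidHom.normal_ker φ, ⟨(QuotientGroup.quotientKerEquivOfSurjective φ hφ).symm⟩⟩

end Cfsg.Agent.S0796
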