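import Cfsg.Statements.S0814
import Cfsg.Agent.Lib.Helper45.SpAutCard

set_option autoImplicit false
open Cfsg

namespace Cfsg.Agent.S0814



/-- |Aut(PSp_2m(q))| = gcd(2, q−1) · f · |PSp_2m(q)| for q = p^f, m ≥ 2, (m, q) ≠ (2, 2), with an extra factor 2 exactly when m = 2 and p = 2. -/
theorem result {F : Type*} [Field F] [Fintype F] (p f : ℕ) [Fact p.Prime] (hf : 1 ≤ f) (hF : Fintype.card F = p ^ f) (m : ℕ) (hm : 2 ≤ m) (h22 : m = 2 → 3 ≤ p ^ f) : Nat.card (MulAut (Cfsg.PSp m F)) = (if m = 2 ∧ p = 2 then 2 else 1) * Nat.gcd 2 (p ^ f - 1) * f * Nat.card (Cfsg.PSp m F) := by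
  have : NeZero m := ⟨by omega⟩
  have : CharP F p := charP_of_card_eq_prime_pow hF
  by_cases h : m = 2 ∧ p = 2
  · obtain ⟨rfl, rfl⟩ := h
    rw [if_pos ⟨rfl, rfl⟩]
    obtain ⟨-, hout⟩ := Cfsg.Agent.Lib.Helper45.Sp4.out_psp4 hf hF
    have h1 := Subgroup.card_eq_card_quotient_mul_card_subgroup (Cfsg.Inn (Cfsg.PSp 2 F))
    rw [h1, Cfsg.Agent.Lib.Helper45.SpAut.card_Inn (le_refl 2)]
    have h2 : Nat.card (MulAut (Cfsg.PSp 2 F) ⧸ Cfsg.Inn (Cfsg.PSp 2 F)) = 2 * f := hout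
    rw [h2]
    have h3 : Nat.gcd 2 (2 ^ f - 1) = 1 := by
      have hodd : Odd (2 ^ f - 1) := by
        apply Nat.Even.sub_odd Nat.one_le_two_pow _ odd_one
        exact (Nat.even_pow' (by omega)).2 even_two
      exact Nat.coprime_two_left.mpr hodd
    rw [h3]
  · rw [if_neg h, one_mul]
    have h4 : m = 2 → p ≠ 2 := fun hm2 hp2 => h ⟨hm2, hp2⟩
    have hA : Cfsg.Agent.Lib.Helper45.SpAut.StepA m F :=
      fun β v hv => Cfsg.Agent.Lib.Helper45.SpAut.exists_rel hm p h4 β hv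
    rw [Cfsg.Agent.Lib.Helper45.SpAut.card_aut_of_stepA hm p hF hA, hF]

end Cfsg.Agent.S0814
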