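import Cfsg.Statements.S0819
-- import your own Cfsg.Agent.* helpers here

set_option autoImplicit false
open Cfsg

namespace Cfsg.Agent.S0819

open Matrix Polynomial

section identities
variable {R : Type*} [CommRing R]

theorem id_b2 (a b x : R) (h2 : (2 : R) = 0) (ha3 : a ^ 3 = 1) (hE : a + a ^ 2 * b + b ^ 2 = 0) :
    x ^ 5 - (a ^ 2 + b) = (x ^ 3 + a * x ^ 2 + b * x + 1) * (x ^ 2 + a * x + (a ^ 2 + b)) := by
  linear_combination ((-1) * x) * hE + ((-1) * x^2) * ha3 + ((-1) * a^2 + (-1) * a^2 * x^3 + (-1) * a * b * x^2 + (-1) * a * x^4 + (-1) * b + (-1) * b * x^3 + (-1) * x^2) * h2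

theorem id_b1 (a x : R) (h2 : (2 : R) = 0) (ha3 : a ^ 3 = 1) :
    x ^ 4 - a = (x ^ 3 + a * x ^ 2 + a ^ 2 * x + 1) * (x + a) := by
  linear_combination ((-1) * x) * ha3 + ((-1) * a + (-1) * a^2 * x^2 + (-1) * a * x^3 + (-1) * x) * h2

theorem id_c1 (b x : R) (h2 : (2 : R) = 0) (hb3 : b ^ 3 = 1) :
    x ^ 15 - b * x = (x ^ 3 + b * x + 1) * (b^2 * x^2 + b^2 * x^5 + b^2 * x^8 + b * x + b * x^10 + x^3 + x^9 + x^12) := by
  linear_combination ((-1) * x^3 + (-1) * x^6 + (-1) * x^9) * hb3 + ((-1) * b^2 * x^2 + (-1) * b^2 * x^5 + (-1) * b^2 * x^8 + (-1) * b^2 * x^11 + (-1) * b * x + (-1) * b * x^4 + (-1) * b * x^10 + (-1) * b * x^13 + (-1) * x^3 + (-1) * x^6 + (-1) * x^9 + (-1) * x^12) * h2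

theorem id_c2 (a x : R) (h2 : (2 : R) = 0) (ha3 : a ^ 3 = 1) :
    x ^ 15 - a ^ 2 * x = (x ^ 3 + a * x ^ 2 + 1) * (a^2 * x + a^2 * x^4 + a^2 * x^10 + a * x^5 + a * x^8 + a * x^11 + x^3 + x^12) := by
  linear_combination ((-1) * x^3 + (-1) * x^6 + (-1) * x^12) * ha3 + ((-1) * a^2 * x + (-1) * a^2 * x^4 + (-1) * a^2 * x^7 + (-1) * a^2 * x^10 + (-1) * a^2 * x^13 + (-1) * a * x^5 + (-1) * a * x^8 + (-1) * a * x^11 + (-1) * a * x^14 + (-1) * x^3 + (-1) * x^6 + (-1) * x^12) * h2

end identities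

variable {F : Type*} [Field F]

/-- trace of a 3 × 3 matrix -/
def c1 (M : Matrix (Fin 3) (Fin 3) F) : F := M 0 0 + M 1 1 + M 2 2

/-- second coefficient of the characteristic polynomial -/
def c2 (M : Matrix (Fin 3) (Fin 3) F) : F :=
  (M 0 0 * M 1 1 - M 0 1 * M 1 0) + (M 0 0 * M 2 2 - M 0 2 * M 2 0) + (M 1 1 * M 2 2 - M 1 2 * M 2 1)

theorem cayley_hamilton3 (M : Matrix (Fin 3) (Fin 3) F) :
    M * M * M = c1 M • (M * M) - c2 M • M + M.det • (1 : Matrix (Fin 3) (Fin 3) F) := by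
  ext i j
  fin_cases i <;> fin_cases j <;>
    simp [c1, c2, Matrix.det_fin_three, Matrix.mul_apply, Fin.sum_univ_three] <;> ring

theorem aeval_charpoly3 (h2 : (2 : F) = 0) (M : Matrix (Fin 3) (Fin 3) F) (hdet : M.det = 1) :
    aeval M (X ^ 3 + C (c1 M) * X ^ 2 + C (c2 M) * X + 1 : F[X]) = 0 := by
  have h := cayley_hamilton3 M
  rw [hdet, one_smul] at h
  simp only [map_add, map_mul, map_pow, aeval_X, aeval_C, map_one, Algebra.algebraMap_eq_smul_one,
    smul_mul_assoc, one_mul]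
  have h3 : M ^ 3 = M * M * M := by simp only [pow_succ, pow_zero, one_mul]
  have h2' : M ^ 2 = M * M := pow_two M
  rw [h3, h2', h]
  ext i j
  simp only [Matrix.add_apply, Matrix.sub_apply, Matrix.smul_apply, smul_eq_mul, Matrix.zero_apply]
  linear_combination (c1 M * (M * M) i j + (1 : Matrix (Fin 3) (Fin 3) F) i j) * h2

theorem aeval_of_eq_mul (M : Matrix (Fin 3) (Fin 3) F) (P Q R : F[X]) (hP : aeval M P = 0)
    (h : R = P * Q) : aeval M R = 0 := by
  rw [h, map_mul, hP, zero_mul]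

theorem key (hF : ∀ c : F, c ^ 4 = c) (h2 : (2 : F) = 0) (M : Matrix (Fin 3) (Fin 3) F)
    (hdet : M.det = 1) (r : F) (h15 : M ^ 15 = r • (1 : Matrix (Fin 3) (Fin 3) F)) :
    (∃ κ : F, M ^ 1 = κ • (1 : Matrix (Fin 3) (Fin 3) F)) ∨ (∃ κ : F, M ^ 3 = κ • (1 : Matrix (Fin 3) (Fin 3) F)) ∨
    (∃ κ : F, M ^ 4 = κ • (1 : Matrix (Fin 3) (Fin 3) F)) ∨ (∃ κ : F, M ^ 5 = κ • (1 : Matrix (Fin 3) (Fin 3) F)) := by
  have hcube : ∀ c : F, c ≠ 0 → c ^ 3 = 1 := by
    intro c hc
    have h4 := hF c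
    have : c * (c ^ 3 - 1) = 0 := by linear_combination h4
    rcases mul_eq_zero.mp this with h | h
    · exact absurd h hc
    · linear_combination h
  have h2X : (2 : F[X]) = 0 := by
    rw [← map_ofNat (C : F →+* F[X]) 2, h2, map_zero]
  have hP := aeval_charpoly3 h2 M hdet
  set a := c1 M with ha_def
  set b := c2 M with hb_def
  by_cases ha : a = 0
  · by_cases hb : b = 0
    · -- M^3 = 1
      right; left
      refine ⟨-1, ?_⟩
      rw [ha, hb] at hP
      simp only [map_add, map_mul, map_pow, aeval_X, aeval_C, map_one, map_zero, zero_mul, add_zero] at hP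
      rw [neg_smul, one_smul]
      exact eq_neg_of_add_eq_zero_left hP
    · -- M^15 = b M
      left
      have hb3 := hcube b hb
      have hb3X : (C b : F[X]) ^ 3 = 1 := by rw [← C_pow, hb3, C_1]
      have hid := id_c1 (C b : F[X]) X h2X hb3X
      have hP' : aeval M (X ^ 3 + C b * X + 1 : F[X]) = 0 := by
        rw [ha] at hP
        simpa using hP
      have h := aeval_of_eq_mul M _ _ _ hP' hid
      simp only [map_sub, map_mul, map_pow, aeval_X, aeval_C, Algebra.algebraMap_eq_smul_one,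
        smul_mul_assoc, one_mul] at h
      have h' : M ^ 15 = b • M := sub_eq_zero.mp h
      rw [h15] at h'
      refine ⟨b⁻¹ * r, ?_⟩
      rw [pow_one, mul_smul, h', smul_smul, inv_mul_cancel₀ hb, one_smul]
  · by_cases hb : b = 0
    · -- M^15 = a^2 M
      left
      have ha3 := hcube a ha
      have ha3X : (C a : F[X]) ^ 3 = 1 := by rw [← C_pow, ha3, C_1]
      have hid := id_c2 (C a : F[X]) X h2X ha3X
      have hP' : aeval M (X ^ 3 + C a * X ^ 2 + 1 : F[X]) = 0 := by
        rw [hb] at hP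
        simpa using hP
      have h := aeval_of_eq_mul M _ _ _ hP' hid
      simp only [map_sub, map_mul, map_pow, aeval_X, aeval_C, Algebra.algebraMap_eq_smul_one,
        smul_mul_assoc, one_mul, _root_.smul_pow, one_pow] at h
      have h' : M ^ 15 = a ^ 2 • M := sub_eq_zero.mp h
      rw [h15] at h'
      have ha2 : a ^ 2 ≠ 0 := pow_ne_zero 2 ha
      refine ⟨(a ^ 2)⁻¹ * r, ?_⟩
      rw [pow_one, mul_smul, h', smul_smul, inv_mul_cancel₀ ha2, one_smul]
    · have ha3 := hcube a ha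
      have hb3 := hcube b hb
      have ha3X : (C a : F[X]) ^ 3 = 1 := by rw [← C_pow, ha3, C_1]
      by_cases hba : b = a ^ 2
      · -- M^4 = a
        right; right; left
        have hid := id_b1 (C a : F[X]) X h2X ha3X
        have hP' : aeval M (X ^ 3 + C a * X ^ 2 + C a ^ 2 * X + 1 : F[X]) = 0 := by
          rw [hba] at hP
          simpa using hP
        have h := aeval_of_eq_mul M _ _ _ hP' hid
        simp only [map_sub, map_pow, aeval_X, aeval_C, Algebra.algebraMap_eq_smul_one] at h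
        exact ⟨a, sub_eq_zero.mp h⟩
      · -- M^5 = a^2 + b
        right; right; right
        have hE : a + a ^ 2 * b + b ^ 2 = 0 := by
          have : (b - a ^ 2) * (a + a ^ 2 * b + b ^ 2) = 0 := by
            linear_combination hb3 - ha3 - a * b * ha3
          rcases mul_eq_zero.mp this with h | h
          · exact absurd (sub_eq_zero.mp h) hba
          · exact h
        have hEX : (C a : F[X]) + C a ^ 2 * C b + C b ^ 2 = 0 := by
          rw [← C_pow, ← C_pow, ← C_mul, ← C_add, ← C_add, hE, C_0]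
        have hid := id_b2 (C a : F[X]) (C b) X h2X ha3X hEX
        have h := aeval_of_eq_mul M _ _ _ hP hid
        simp only [map_sub, map_add, map_pow, aeval_X, aeval_C, Algebra.algebraMap_eq_smul_one] at h
        refine ⟨a ^ 2 + b, ?_⟩
        rw [add_smul]
        simp only [_root_.smul_pow, one_pow] at h
        exact sub_eq_zero.mp h

/-- No element of PSL_3(4) has order 15. -/
theorem result {F : Type*} [Field F] [Fintype F] (hF : Fintype.card F = 4) (g : Matrix.ProjectiveSpecialLinearGroup (Fin 3) F) : orderOf g ≠ 15 := by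
  intro h15
  have h2 : (2 : F) = 0 := by
    have h := Nat.cast_card_eq_zero F
    rw [hF] at h
    have h4 : (2 : F) ^ 2 = 0 := by
      have : ((4 : ℕ) : F) = (2 : F) ^ 2 := by norm_num
      rw [← this]; exact h
    exact pow_eq_zero_iff (by norm_num) |>.mp h4
  have hpow4 : ∀ c : F, c ^ 4 = c := by
    intro c
    have := FiniteField.pow_card c
    rwa [hF] at this
  obtain ⟨G, rfl⟩ := QuotientGroup.mk_surjective g
  have hpow : ((QuotientGroup.mk G : Matrix.ProjectiveSpecialLinearGroup (Fin 3) F)) ^ 15 = 1 := by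
    rw [← h15]; exact pow_orderOf_eq_one _
  rw [← QuotientGroup.mk_pow, QuotientGroup.eq_one_iff, Matrix.SpecialLinearGroup.mem_center_iff] at hpow
  obtain ⟨r, _, hrG⟩ := hpow
  have hM15 : (G : Matrix (Fin 3) (Fin 3) F) ^ 15 = r • (1 : Matrix (Fin 3) (Fin 3) F) := by
    rw [← Matrix.SpecialLinearGroup.coe_pow, ← hrG]
    simp [Matrix.smul_one_eq_diagonal]
  have hkey := key hpow4 h2 (G : Matrix (Fin 3) (Fin 3) F) G.2 r hM15
  have hfin : ∀ k : ℕ, (∃ κ : F, (G : Matrix (Fin 3) (Fin 3) F) ^ k = κ • (1 : Matrix (Fin 3) (Fin 3) F)) →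
      15 ∣ k := by
    intro k ⟨κ, hκ⟩
    have hκ3 : κ ^ 3 = 1 := by
      have hd := congrArg Matrix.det hκ
      rw [Matrix.det_pow, G.2, one_pow, Matrix.det_smul, Matrix.det_one, mul_one, Fintype.card_fin] at hd
      exact hd.symm
    have hmem : G ^ k ∈ Subgroup.center (Matrix.SpecialLinearGroup (Fin 3) F) := by
      rw [Matrix.SpecialLinearGroup.mem_center_iff]
      refine ⟨κ, by simpa using hκ3, ?_⟩
      rw [Matrix.SpecialLinearGroup.coe_pow, hκ]
      simp [Matrix.smul_one_eq_diagonal]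
    have h1 : ((QuotientGroup.mk G : Matrix.ProjectiveSpecialLinearGroup (Fin 3) F)) ^ k = 1 := by
      rw [← QuotientGroup.mk_pow, QuotientGroup.eq_one_iff]
      exact hmem
    have := orderOf_dvd_of_pow_eq_one h1
    rwa [h15] at this
  rcases hkey with h | h | h | h
  · have := hfin 1 h; omega
  · have := hfin 3 h; omega
  · have := hfin 4 h; omega
  · have := hfin 5 h; omega

end Cfsg.Agent.S0819
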