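import Mathlib
import Cfsg.Statements.S0820

set_option autoImplicit false
open Matrix
open Cfsg

namespace Cfsg.Agent.S0820

theorem exists_basis {F : Type*} [Field F] (N : Matrix (Fin 3) (Fin 3) F) (hN : N ≠ 0) (hNN : N * N = 0) :
    ∃ g : Matrix (Fin 3) (Fin 3) F, g.det = 1 ∧ N * g = g * Matrix.single 0 1 1 := by
  classical
  have hw : ∃ w : Fin 3 → F, N *ᵥ w ≠ 0 := by
    by_contra hcon
    push Not at hcon
    apply hN
    ext i j
    have := congrFun (hcon (Pi.single j 1)) i
    simpa using this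
  obtain ⟨w, hw⟩ := hw
  set u := N *ᵥ w with hu
  have hNu : N *ᵥ u = 0 := by
    rw [hu, Matrix.mulVec_mulVec, hNN, Matrix.zero_mulVec]
  let f : (Fin 3 → F) →ₗ[F] (Fin 3 → F) := Matrix.mulVecLin N
  have hrk : LinearMap.range f ≤ LinearMap.ker f := by
    rintro _ ⟨v, rfl⟩
    simp [f, LinearMap.mem_ker, Matrix.mulVec_mulVec, hNN]
  have hdim := LinearMap.finrank_range_add_finrank_ker f
  have h3 : Module.finrank F (Fin 3 → F) = 3 := by simp
  have hle := Submodule.finrank_mono hrk
  have hker2 : 2 ≤ Module.finrank F (LinearMap.ker f) := by omega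
  have hz : ∃ z ∈ LinearMap.ker f, z ∉ Submodule.span F {u} := by
    by_contra hcon
    push Not at hcon
    have hsub : LinearMap.ker f ≤ Submodule.span F {u} := hcon
    have h1 := Submodule.finrank_mono hsub
    have h2 : Module.finrank F (Submodule.span F {u}) = 1 := finrank_span_singleton hw
    omega
  obtain ⟨z, hzker, hzspan⟩ := hz
  have hNz : N *ᵥ z = 0 := by simpa [f, LinearMap.mem_ker] using hzker
  -- the matrix with columns u, w, z
  have hdet : ((Matrix.of ![u, w, z])ᵀ).det ≠ 0 := by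
    intro hdet
    obtain ⟨v, hv, hv0⟩ := Matrix.exists_mulVec_eq_zero_iff.mpr hdet
    have hcomb : v 0 • u + v 1 • w + v 2 • z = 0 := by
      rw [← hv0]
      ext i
      simp [Matrix.mulVec, dotProduct, Fin.sum_univ_three]
      ring
    have h1 : v 1 = 0 := by
      have := congrArg (fun t => N *ᵥ t) hcomb
      simp only [Matrix.mulVec_add, Matrix.mulVec_smul, hNu, hNz, smul_zero, zero_add, add_zero, Matrix.mulVec_zero] at this
      rw [← hu] at this
      rcases smul_eq_zero.mp this with h | h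
      · exact h
      · exact absurd h hw
    rw [h1, zero_smul, add_zero] at hcomb
    have h2 : v 2 = 0 := by
      by_contra h2
      apply hzspan
      rw [Submodule.mem_span_singleton]
      refine ⟨-(v 2)⁻¹ * v 0, ?_⟩
      have : v 2 • z = -(v 0 • u) := by
        rw [eq_neg_iff_add_eq_zero, add_comm]; exact hcomb
      calc (-(v 2)⁻¹ * v 0) • u = -((v 2)⁻¹ • (v 0 • u)) := by rw [neg_mul, neg_smul, mul_smul]
        _ = (v 2)⁻¹ • (v 2 • z) := by rw [this, smul_neg]
        _ = z := by rw [smul_smul, inv_mul_cancel₀ h2, one_smul]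
    rw [h2, zero_smul, add_zero] at hcomb
    have h0 : v 0 = 0 := by
      rcases smul_eq_zero.mp hcomb with h | h
      · exact h
      · exact absurd h hw
    apply hv
    ext i
    fin_cases i
    · exact h0
    · exact h1
    · exact h2
  set d := ((Matrix.of ![u, w, z])ᵀ).det with hd
  refine ⟨(Matrix.of ![u, w, d⁻¹ • z])ᵀ, ?_, ?_⟩
  · have : ((Matrix.of ![u, w, d⁻¹ • z])ᵀ).det = d⁻¹ * d := by
      rw [hd, Matrix.det_fin_three, Matrix.det_fin_three]
      simp
      ring
    rw [this, inv_mul_cancel₀ hdet]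
  · have e1 : ∀ i, ∑ k, N i k * u k = 0 := fun i => by
      have := congrFun hNu i
      simpa [Matrix.mulVec, dotProduct] using this
    have e2 : ∀ i, ∑ k, N i k * w k = u i := fun i => by
      have := congrFun hu i
      simpa [Matrix.mulVec, dotProduct] using this.symm
    have e3 : ∀ i, ∑ k, N i k * z k = 0 := fun i => by
      have := congrFun hNz i
      simpa [Matrix.mulVec, dotProduct] using this
    ext i j
    fin_cases j
    · simp [Matrix.mul_apply, Fin.sum_univ_three, Matrix.single] 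
      have := e1 i
      rw [Fin.sum_univ_three] at this
      exact this
    · simp [Matrix.mul_apply, Fin.sum_univ_three, Matrix.single]
      have := e2 i
      rw [Fin.sum_univ_three] at this
      exact this
    · simp [Matrix.mul_apply, Fin.sum_univ_three, Matrix.single]
      have := e3 i
      rw [Fin.sum_univ_three] at this
      linear_combination d⁻¹ * this


noncomputable def T (F : Type*) [Field F] : Matrix.SpecialLinearGroup (Fin 3) F :=
  ⟨Matrix.transvection 0 1 1, Matrix.det_transvection_of_ne 0 1 (by decide) 1⟩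

theorem conj_std {F : Type*} [Field F] (h2 : (2 : F) = 0) (a : Matrix.SpecialLinearGroup (Fin 3) F)
    (ha : a.1 * a.1 = 1) (ha1 : a.1 ≠ 1) :
    ∃ g : Matrix.SpecialLinearGroup (Fin 3) F, a = g * T F * g⁻¹ := by
  have h2M : (2 : Matrix (Fin 3) (Fin 3) F) = 0 := by
    have : (2 : Matrix (Fin 3) (Fin 3) F) = (2 : F) • (1 : Matrix (Fin 3) (Fin 3) F) := by
      rw [two_smul, one_add_one_eq_two]
    rw [this, h2, zero_smul]
  have hneg : (-1 : Matrix (Fin 3) (Fin 3) F) = 1 := by
    rw [neg_eq_iff_add_eq_zero, one_add_one_eq_two, h2M]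
  have hN : a.1 + 1 ≠ 0 := by
    intro h
    apply ha1
    rw [← hneg]
    exact eq_neg_of_add_eq_zero_left h
  have hNN : (a.1 + 1) * (a.1 + 1) = 0 := by
    calc (a.1 + 1) * (a.1 + 1) = a.1 * a.1 + 2 * a.1 + 1 := by noncomm_ring
      _ = 0 := by rw [ha, h2M, zero_mul, add_zero, one_add_one_eq_two, h2M]
  obtain ⟨g, hg, hNg⟩ := exists_basis (a.1 + 1) hN hNN
  obtain ⟨G, hG⟩ : ∃ G : Matrix.SpecialLinearGroup (Fin 3) F, G.1 = g := ⟨⟨g, hg⟩, rfl⟩
  refine ⟨G, ?_⟩
  rw [eq_mul_inv_iff_mul_eq]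
  apply Subtype.ext
  simp only [Matrix.SpecialLinearGroup.coe_mul]
  rw [hG]
  change a.1 * g = g * Matrix.transvection 0 1 1
  have hgg : g + g = 0 := by rw [← two_mul, h2M, zero_mul]
  rw [Matrix.transvection, mul_add, mul_one, ← hNg, add_mul, one_mul, add_comm g, add_assoc, hgg, add_zero]

theorem lift_involution {F : Type*} [Field F]
    (x : Matrix.ProjectiveSpecialLinearGroup (Fin 3) F) (hx : orderOf x = 2) :
    ∃ a : Matrix.SpecialLinearGroup (Fin 3) F,
      (a : Matrix.ProjectiveSpecialLinearGroup (Fin 3) F) = x ∧ a.1 * a.1 = 1 ∧ a.1 ≠ 1 := by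
  obtain ⟨a0, rfl⟩ := QuotientGroup.mk_surjective x
  have hx2 : ((a0 : Matrix.ProjectiveSpecialLinearGroup (Fin 3) F)) ^ 2 = 1 := by
    rw [← hx]; exact pow_orderOf_eq_one _
  have hc : a0 ^ 2 ∈ Subgroup.center (Matrix.SpecialLinearGroup (Fin 3) F) := by
    rw [← QuotientGroup.eq_one_iff, QuotientGroup.mk_pow]
    exact hx2
  rw [Matrix.SpecialLinearGroup.mem_center_iff] at hc
  obtain ⟨r, hr, hrx⟩ := hc
  have hr3 : r ^ 3 = 1 := by simpa using hr
  have hsq : a0.1 * a0.1 = r • (1 : Matrix (Fin 3) (Fin 3) F) := by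
    rw [← pow_two, ← Matrix.SpecialLinearGroup.coe_pow, ← hrx, Matrix.scalar_apply, Matrix.smul_one_eq_diagonal]
  have hzdet : (r • (1 : Matrix (Fin 3) (Fin 3) F)).det = 1 := by
    rw [Matrix.det_smul, Matrix.det_one, mul_one]
    simpa using hr3
  let z : Matrix.SpecialLinearGroup (Fin 3) F := ⟨r • 1, hzdet⟩
  have hzc : z ∈ Subgroup.center (Matrix.SpecialLinearGroup (Fin 3) F) := by
    rw [Matrix.SpecialLinearGroup.mem_center_iff]
    refine ⟨r, hr, ?_⟩
    have hz1 : z.1 = r • (1 : Matrix (Fin 3) (Fin 3) F) := rfl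
    rw [hz1, Matrix.scalar_apply, Matrix.smul_one_eq_diagonal]
  refine ⟨z * a0, ?_, ?_, ?_⟩
  · rw [QuotientGroup.mk_mul, (QuotientGroup.eq_one_iff z).mpr hzc, one_mul]
  · change (r • (1 : Matrix (Fin 3) (Fin 3) F) * a0.1) * (r • (1 : Matrix (Fin 3) (Fin 3) F) * a0.1) = 1
    rw [Matrix.smul_mul, one_mul, Matrix.smul_mul, Matrix.mul_smul, hsq, smul_smul, smul_smul]
    have : r * r * r = 1 := by rw [← hr3]; ring
    rw [this, one_smul]
  · intro h1
    have : z * a0 = 1 := Subtype.ext h1
    have hx1 : ((a0 : Matrix.ProjectiveSpecialLinearGroup (Fin 3) F)) = 1 := by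
      have h : (QuotientGroup.mk (z * a0) : Matrix.ProjectiveSpecialLinearGroup (Fin 3) F) = QuotientGroup.mk 1 := by
        rw [this]
      rw [QuotientGroup.mk_mul, (QuotientGroup.eq_one_iff z).mpr hzc, one_mul] at h
      exact h
    rw [hx1, orderOf_one] at hx
    omega

/-- Any two elements of order 2 of PSL_3(4) are conjugate. -/
theorem result {F : Type*} [Field F] [Fintype F] (hF : Fintype.card F = 4) (x y : Matrix.ProjectiveSpecialLinearGroup (Fin 3) F) (hx : orderOf x = 2) (hy : orderOf y = 2) : IsConj x y := by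
  have h2 : (2 : F) = 0 := by
    have hchar : ringChar F = 2 := by
      rw [FiniteField.even_card_iff_char_two, hF]
    have : CharP F 2 := by rw [← hchar]; exact ringChar.charP F
    exact CharTwo.two_eq_zero
  obtain ⟨a, rfl, ha, ha1⟩ := lift_involution x hx
  obtain ⟨b, rfl, hb, hb1⟩ := lift_involution y hy
  obtain ⟨g, hg⟩ := conj_std h2 a ha ha1
  obtain ⟨h, hh⟩ := conj_std h2 b hb hb1
  have hab : IsConj a b := by
    rw [isConj_iff]
    refine ⟨h * g⁻¹, ?_⟩
    rw [hg, hh]
    group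
  exact (QuotientGroup.mk' _).map_isConj hab

end Cfsg.Agent.S0820
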