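-- Statement S0821: PSp_2m(q) is not isomorphic to POmega_(2m+1)(q) for q odd, m >= 3.
-- Proof: the largest order of an elementary abelian 2-subgroup distinguishes the two groups.
import Cfsg.Statements.S0821
import Cfsg.Agent.Lib.Helper39.TwoRkG
import Cfsg.Agent.Lib.Helper39.TwoRkJ

set_option autoImplicit false
open Cfsg

namespace Cfsg.Agent.S0821

open Cfsg.Agent.Lib.Helper39.TwoRk Cfsg.Agent.Lib.Helper43

/-- PSp_2m(q) ≇ PΩ_(2m+1)(q) for q odd and m ≥ 3 (they have the same order). -/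
theorem result {F : Type*} [Field F] [Fintype F] (hodd : Odd (Fintype.card F)) (m : ℕ) (hm : 3 ≤ m) : IsEmpty (Cfsg.PSp m F ≃* Cfsg.POmega F (Cfsg.quadFormOdd m F)) := by
  rw [oddForm_coe]
  constructor
  intro φ
  have h2 : (2 : F) ≠ 0 := two_ne_zero_of_odd_card hodd
  obtain ⟨E, hEsq, hEcard⟩ := exists_big_elemAb m F h2 hm
  have hsq' : ∀ x ∈ E.map φ.symm.toMonoidHom, x * x = 1 := by
    rintro _ ⟨x, hx, rfl⟩
    rw [← map_mul, hEsq x hx, map_one]
  have hcard' : Nat.card (E.map φ.symm.toMonoidHom) = Nat.card E :=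
    Nat.card_congr (E.equivMapOfInjective _ φ.symm.injective).symm.toEquiv
  have hle := card_le_of_sq_eq_one hodd hm (E.map φ.symm.toMonoidHom) hsq'
  rw [hcard'] at hle
  have hlt : 2 ^ (2 * m - 2) < 2 ^ (2 * m - 1) :=
    Nat.pow_lt_pow_right (by norm_num) (by omega)
  omega

end Cfsg.Agent.S0821
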