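import Cfsg.Statements.S0824
import Cfsg.Agent.Lib.Helper89.FieldTransfer

set_option autoImplicit false
open Cfsg

namespace Cfsg.Agent.S0824

open Matrix

/-- index type -/
abbrev I4 := (Fin 1 ⊕ Fin 1) ⊕ Fin 2

/-- the prime field -/
abbrev K2 := ZMod 2

/-- the form -/
abbrev Q4 : (I4 → K2) → K2 := quadFormMinus 1 K2 1 1

/-- singular vectors -/
abbrev IsSing (v : I4 → K2) : Prop := v ≠ 0 ∧ Q4 v = 0

instance : DecidablePred IsSing := fun v => by
  unfold IsSing Q4 quadFormMinus; infer_instance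

/-- the set of nonzero singular vectors -/
abbrev Sing := {v : I4 → K2 // IsSing v}

set_option maxRecDepth 100000 in
theorem card_sing : Fintype.card Sing = 5 := by
  rw [Fintype.card_subtype]
  decide

/-- the reflection (orthogonal transvection) in `u` -/
def reflM (u : I4 → K2) : Matrix I4 I4 K2 :=
  1 + vecMulVec u (fun j => Q4 (u + Pi.single j 1) + Q4 u + Q4 (Pi.single j 1))

set_option maxRecDepth 100000 in
theorem span_fact : ∀ k : I4, ∃ s t : I4 → K2, IsSing s ∧ IsSing t ∧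
    (Pi.single k 1 = s ∨ Pi.single k 1 = s + t) := by
  decide

set_option maxRecDepth 100000 in
theorem swap_fact1 : ∀ s t : I4 → K2, (IsSing s ∧ IsSing t ∧ s ≠ t) →
    reflM (s + t) * reflM (s + t) = 1 := by
  decide

set_option synthInstance.maxSize 2000 in
set_option synthInstance.maxHeartbeats 400000 in
set_option maxRecDepth 100000 in
theorem swap_fact2 : ∀ s t : I4 → K2, (IsSing s ∧ IsSing t ∧ s ≠ t) →
    ∀ x, Q4 (reflM (s + t) *ᵥ x) = Q4 x := by
  decide

set_option maxRecDepth 100000 in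
theorem swap_fact3 : ∀ s t : I4 → K2, (IsSing s ∧ IsSing t ∧ s ≠ t) →
    reflM (s + t) *ᵥ s = t ∧ reflM (s + t) *ᵥ t = s := by
  decide

set_option synthInstance.maxSize 2000 in
set_option synthInstance.maxHeartbeats 400000 in
set_option maxRecDepth 100000 in
theorem swap_fact4 : ∀ s t : I4 → K2, (IsSing s ∧ IsSing t ∧ s ≠ t) →
    ∀ x, (IsSing x ∧ x ≠ s ∧ x ≠ t) → reflM (s + t) *ᵥ x = x := by
  decide

/-- the isometry group -/
abbrev G4 : Subgroup (Matrix.GeneralLinearGroup I4 K2) := isometryGroup K2 Q4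

theorem mem_G4 (g : Matrix.GeneralLinearGroup I4 K2) :
    g ∈ G4 ↔ ∀ u, Q4 ((g : Matrix I4 I4 K2) *ᵥ u) = Q4 u :=
  ⟨fun h u => h u u, fun h u _ => h u⟩

theorem inv_mulVec_mulVec (g : Matrix.GeneralLinearGroup I4 K2) (v : I4 → K2) :
    ((g⁻¹ : Matrix.GeneralLinearGroup I4 K2) : Matrix I4 I4 K2) *ᵥ ((g : Matrix I4 I4 K2) *ᵥ v) = v := by
  rw [Matrix.mulVec_mulVec, ← Units.val_mul, inv_mul_cancel, Units.val_one, Matrix.one_mulVec]

/-- the action on singular vectors -/
def act (g : G4) (v : Sing) : Sing :=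
  ⟨(g.1 : Matrix I4 I4 K2) *ᵥ v.1, by
    constructor
    · intro h0
      apply v.2.1
      have := inv_mulVec_mulVec g.1 v.1
      rw [h0, Matrix.mulVec_zero] at this
      exact this.symm
    · rw [(mem_G4 g.1).mp g.2 v.1]
      exact v.2.2⟩

theorem act_val (g : G4) (v : Sing) : (act g v).1 = (g.1 : Matrix I4 I4 K2) *ᵥ v.1 := rfl

instance instMulActionSing : MulAction G4 Sing where
  smul := act
  one_smul v := by
    apply Subtype.ext
    show (act 1 v).1 = v.1
    rw [act_val]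
    show (1 : Matrix I4 I4 K2) *ᵥ v.1 = v.1
    exact Matrix.one_mulVec _
  mul_smul g h v := by
    apply Subtype.ext
    show (act (g * h) v).1 = (act g (act h v)).1
    rw [act_val, act_val, act_val, Matrix.mulVec_mulVec]
    rfl

theorem smul_val (g : G4) (v : Sing) : (g • v).1 = (g.1 : Matrix I4 I4 K2) *ᵥ v.1 := rfl

/-- the permutation representation on singular vectors -/
def rho : G4 →* Equiv.Perm Sing := MulAction.toPermHom G4 Sing

theorem rho_injective : Function.Injective rho := by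
  rw [← MonoidHom.ker_eq_bot_iff, eq_bot_iff]
  intro g hg
  rw [MonoidHom.mem_ker] at hg
  have hfix : ∀ s : I4 → K2, IsSing s → (g.1 : Matrix I4 I4 K2) *ᵥ s = s := by
    intro s hs
    have := congrArg (fun σ : Equiv.Perm Sing => (σ ⟨s, hs⟩).1) hg
    exact this
  rw [Subgroup.mem_bot]
  apply Subtype.ext
  apply Units.ext
  ext i k
  show (g.1 : Matrix I4 I4 K2) i k = (1 : Matrix I4 I4 K2) i k
  have hk : (g.1 : Matrix I4 I4 K2) *ᵥ Pi.single k 1 = Pi.single k 1 := by
    obtain ⟨s, t, hs, ht, h | h⟩ := span_fact k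
    · rw [h, hfix s hs]
    · rw [h, Matrix.mulVec_add, hfix s hs, hfix t ht]
  have := congrFun hk i
  rw [Matrix.mulVec_single_one] at this
  rw [Matrix.one_apply, ← Pi.single_apply]
  exact this

/-- the reflection as an element of the isometry group -/
def reflG (s t : I4 → K2) (h : IsSing s ∧ IsSing t ∧ s ≠ t) : G4 :=
  ⟨⟨reflM (s + t), reflM (s + t), swap_fact1 s t h, swap_fact1 s t h⟩,
    (mem_G4 _).mpr (swap_fact2 s t h)⟩

theorem rho_reflG (s t : I4 → K2) (h : IsSing s ∧ IsSing t ∧ s ≠ t) :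
    rho (reflG s t h) = Equiv.swap ⟨s, h.1⟩ ⟨t, h.2.1⟩ := by
  ext1 x
  apply Subtype.ext
  have hx : ((rho (reflG s t h)) x).1 = reflM (s + t) *ᵥ x.1 := rfl
  rw [hx]
  by_cases hxs : x = ⟨s, h.1⟩
  · rw [hxs, Equiv.swap_apply_left]
    exact (swap_fact3 s t h).1
  · by_cases hxt : x = ⟨t, h.2.1⟩
    · rw [hxt, Equiv.swap_apply_right]
      exact (swap_fact3 s t h).2
    · rw [Equiv.swap_apply_of_ne_of_ne hxs hxt]
      apply swap_fact4 s t h x.1
      refine ⟨x.2, fun hx => hxs (Subtype.ext hx), fun hx => hxt (Subtype.ext hx)⟩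

theorem rho_surjective : Function.Surjective rho := by
  rw [← MonoidHom.range_eq_top, eq_top_iff, ← Equiv.Perm.closure_isSwap, Subgroup.closure_le]
  rintro σ ⟨x, y, hxy, rfl⟩
  refine ⟨reflG x.1 y.1 ⟨x.2, y.2, fun h => hxy (Subtype.ext h)⟩, ?_⟩
  rw [rho_reflG]

theorem main2 : Nonempty (G4 ≃* Equiv.Perm (Fin 5)) :=
  ⟨(MulEquiv.ofBijective rho ⟨rho_injective, rho_surjective⟩).trans
    (Fintype.equivFinOfCardEq card_sing).permCongrHom⟩

/-- O⁻_4(2) ≅ S_5: the isometry group of the form x y + z_1² + z_1 z_2 + z_2² over the field with 2 elements is isomorphic to the symmetric group on 5 letters. -/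
theorem result {F : Type*} [Field F] [Fintype F] (hF : Fintype.card F = 2) : Nonempty (↥(Cfsg.isometryGroup F (Cfsg.quadFormMinus 1 F 1 1)) ≃* Equiv.Perm (Fin 5)) := by
  obtain ⟨e⟩ := main2
  let σ : F ≃+* ZMod 2 := (ZMod.ringEquivOfPrime F Nat.prime_two hF).symm
  refine ⟨(Cfsg.Agent.Lib.Helper89.isometryGroupCongr σ (Cfsg.quadFormMinus 1 F 1 1) Q4 ?_).trans e⟩
  intro v
  simp [Q4, quadFormMinus, map_add, map_mul, map_pow]

end Cfsg.Agent.S0824
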