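import Cfsg.Statements.S0826
import Cfsg.Agent.Lib.Helper39.DarbouxCopy

set_option autoImplicit false
set_option linter.unusedSectionVars false
set_option linter.unusedSimpArgs false
open Cfsg

namespace Cfsg.Agent.S0826

open Function

variable {ι : Type*} [Fintype ι] [DecidableEq ι]

theorem z2_mul_self (x : ZMod 2) : x * x = x := by revert x; decide
theorem z2_add_self (x : ZMod 2) : x + x = 0 := by revert x; decide
theorem z2_cases (x : ZMod 2) : x = 0 ∨ x = 1 := by revert x; decide

/-- vectors of sum zero vanishing at `L`. -/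
def W (L : ι) : Submodule (ZMod 2) (ι → ZMod 2) where
  carrier := {v | ∑ i, v i = 0 ∧ v L = 0}
  add_mem' {a b} ha hb := by
    refine ⟨?_, ?_⟩
    · simp only [Pi.add_apply, Finset.sum_add_distrib, ha.1, hb.1, add_zero]
    · simp only [Pi.add_apply, ha.2, hb.2, add_zero]
  zero_mem' := ⟨by simp, rfl⟩
  smul_mem' c {a} ha := by
    refine ⟨?_, ?_⟩
    · simp only [Pi.smul_apply, smul_eq_mul, ← Finset.mul_sum, ha.1, mul_zero]
    · simp only [Pi.smul_apply, smul_eq_mul, ha.2, mul_zero]

theorem mem_W {L : ι} {v : ι → ZMod 2} : v ∈ W L ↔ ∑ i, v i = 0 ∧ v L = 0 := Iff.rfl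

/-- the twisted permutation action. -/
def act (L : ι) (g : Equiv.Perm ι) (v : ι → ZMod 2) : ι → ZMod 2 :=
  fun i => v (g⁻¹ i) + v (g⁻¹ L)

theorem card_cast_zero (hcard : Even (Fintype.card ι)) : ((Fintype.card ι : ℕ) : ZMod 2) = 0 := by
  rw [ZMod.natCast_eq_zero_iff]
  exact hcard.two_dvd

theorem act_mem (hcard : Even (Fintype.card ι)) (L : ι) (g : Equiv.Perm ι) {v : ι → ZMod 2}
    (hv : v ∈ W L) : act L g v ∈ W L := by
  rw [mem_W] at hv ⊢
  refine ⟨?_, ?_⟩
  · unfold act
    rw [Finset.sum_add_distrib, Equiv.sum_comp g⁻¹ v, hv.1]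
    simp [card_cast_zero hcard]
  · unfold act
    exact z2_add_self _

theorem act_mul (L : ι) (g h : Equiv.Perm ι) (v : ι → ZMod 2) :
    act L (g * h) v = act L g (act L h v) := by
  funext i
  unfold act
  simp only [mul_inv_rev, Equiv.Perm.coe_mul, comp_apply]
  have := z2_add_self (v (h⁻¹ L))
  linear_combination -this

theorem act_one (L : ι) {v : ι → ZMod 2} (hv : v ∈ W L) : act L 1 v = v := by
  funext i
  unfold act
  simp [hv.2]

/-- the action as linear maps. -/
def T (hcard : Even (Fintype.card ι)) (L : ι) (g : Equiv.Perm ι) : W L →ₗ[ZMod 2] W L where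
  toFun w := ⟨act L g w.1, act_mem hcard L g w.2⟩
  map_add' a b := by
    apply Subtype.ext
    funext i
    simp only [act, Submodule.coe_add, Pi.add_apply]
    ring
  map_smul' c a := by
    apply Subtype.ext
    funext i
    simp only [act, Submodule.coe_smul, Pi.smul_apply, smul_eq_mul, RingHom.id_apply]
    ring

/-- the representation. -/
def ρ (hcard : Even (Fintype.card ι)) (L : ι) : Equiv.Perm ι →* Module.End (ZMod 2) (W L) where
  toFun := T hcard L
  map_one' := by
    apply LinearMap.ext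
    intro w
    apply Subtype.ext
    exact act_one L w.2
  map_mul' g h := by
    apply LinearMap.ext
    intro w
    apply Subtype.ext
    exact act_mul L g h w.1

/-- the form. -/
def ω (L : ι) : LinearMap.BilinForm (ZMod 2) (W L) :=
  LinearMap.mk₂ (ZMod 2) (fun u v => ∑ i, u.1 i * v.1 i)
    (fun a b c => by simp [add_mul, Finset.sum_add_distrib])
    (fun c a b => by simp [Finset.mul_sum, mul_assoc])
    (fun a b c => by simp [mul_add, Finset.sum_add_distrib])
    (fun c a b => by simp [Finset.mul_sum, mul_left_comm])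

theorem ω_apply (L : ι) (u v : W L) : ω L u v = ∑ i, u.1 i * v.1 i := rfl

theorem ω_alt (L : ι) : (ω L).IsAlt := by
  intro u
  rw [ω_apply]
  simp only [z2_mul_self]
  exact u.2.1

theorem ω_act (hcard : Even (Fintype.card ι)) (L : ι) (g : Equiv.Perm ι) (u v : W L) :
    ω L (ρ hcard L g u) (ρ hcard L g v) = ω L u v := by
  rw [ω_apply, ω_apply]
  show ∑ i, act L g u.1 i * act L g v.1 i = _
  unfold act
  have h1 : ∀ i, (u.1 (g⁻¹ i) + u.1 (g⁻¹ L)) * (v.1 (g⁻¹ i) + v.1 (g⁻¹ L)) =
      u.1 (g⁻¹ i) * v.1 (g⁻¹ i) + u.1 (g⁻¹ i) * v.1 (g⁻¹ L) + u.1 (g⁻¹ L) * v.1 (g⁻¹ i) +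
        u.1 (g⁻¹ L) * v.1 (g⁻¹ L) := fun i => by ring
  simp only [h1, Finset.sum_add_distrib, ← Finset.sum_mul, ← Finset.mul_sum]
  rw [Equiv.sum_comp g⁻¹ (fun i => u.1 i * v.1 i), Equiv.sum_comp g⁻¹ u.1, Equiv.sum_comp g⁻¹ v.1,
    u.2.1, v.2.1]
  simp [card_cast_zero hcard]

/-- `e_i + e_j`. -/
def pv (i j : ι) : ι → ZMod 2 := Pi.single i 1 + Pi.single j 1

theorem pv_mem {L i j : ι} (hi : i ≠ L) (hj : j ≠ L) : pv i j ∈ W L := by
  rw [mem_W]
  refine ⟨?_, ?_⟩
  · simp only [pv, Pi.add_apply, Finset.sum_add_distrib, Finset.sum_pi_single', Finset.mem_univ,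
      if_true]
    decide
  · simp [pv, Pi.single_apply, hi.symm, hj.symm]

theorem sum_mul_pv (u : ι → ZMod 2) (i j : ι) : ∑ k, u k * pv i j k = u i + u j := by
  simp [pv, mul_add, Finset.sum_add_distrib, Pi.single_apply]

theorem ω_sep (hcard : Even (Fintype.card ι)) (L : ι) (u : W L) (hu : ∀ v : W L, ω L u v = 0) :
    u = 0 := by
  by_contra hne
  have : ∃ i, u.1 i ≠ 0 := by
    by_contra hcon
    push Not at hcon
    apply hne
    apply Subtype.ext
    funext i
    exact hcon i
  obtain ⟨i, hi⟩ := this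
  have hiL : i ≠ L := by
    rintro rfl
    exact hi u.2.2
  have hi1 : u.1 i = 1 := (z2_cases _).resolve_left hi
  -- some j ≠ L with u j = 0
  have : ∃ j, j ≠ L ∧ u.1 j = 0 := by
    by_contra hcon
    push Not at hcon
    have hall : ∀ j, u.1 j = if j = L then 0 else 1 := by
      intro j
      by_cases hj : j = L
      · rw [if_pos hj, hj]; exact u.2.2
      · rw [if_neg hj]; exact (z2_cases _).resolve_left (hcon j hj)
    have hsum := u.2.1
    simp only [hall] at hsum
    rw [Finset.sum_ite, Finset.sum_const_zero, zero_add, Finset.sum_const, nsmul_eq_mul, mul_one,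
      Finset.filter_not, Finset.filter_eq', if_pos (Finset.mem_univ _),
      Finset.card_sdiff_of_subset (Finset.singleton_subset_iff.mpr (Finset.mem_univ _)),
      Finset.card_singleton, Finset.card_univ, ZMod.natCast_eq_zero_iff] at hsum
    obtain ⟨k, hk⟩ := hcard
    have hpos : 0 < Fintype.card ι := Fintype.card_pos_iff.mpr ⟨L⟩
    omega
  obtain ⟨j, hjL, hj0⟩ := this
  have := hu ⟨pv i j, pv_mem hiL hjL⟩
  rw [ω_apply] at this
  simp only [sum_mul_pv, hi1, hj0, add_zero] at this
  exact one_ne_zero this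

theorem ω_nondeg (hcard : Even (Fintype.card ι)) (L : ι) : (ω L).Nondegenerate := by
  refine ⟨ω_sep hcard L, ?_⟩
  intro v hv
  apply ω_sep hcard L v
  intro u
  rw [ω_apply]
  have := hv u
  rw [ω_apply] at this
  simpa [mul_comm] using this


theorem finrank_W (L j : ι) (hj : j ≠ L) :
    Module.finrank (ZMod 2) (W L) + 2 = Fintype.card ι := by
  let φ : (ι → ZMod 2) →ₗ[ZMod 2] (ZMod 2 × ZMod 2) :=
    LinearMap.prod (∑ i, LinearMap.proj i) (LinearMap.proj L)
  have hφ : ∀ v, φ v = (∑ i, v i, v L) := by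
    intro v
    simp [φ, LinearMap.sum_apply]
  have hker : LinearMap.ker φ = W L := by
    ext v
    rw [LinearMap.mem_ker, hφ, mem_W, Prod.ext_iff]
    rfl
  have hsurj : Surjective φ := by
    rintro ⟨a, b⟩
    refine ⟨Pi.single L b + Pi.single j (a + b), ?_⟩
    rw [hφ]
    apply Prod.ext
    · show ∑ i, (Pi.single L b + Pi.single j (a + b) : ι → ZMod 2) i = a
      simp only [Pi.add_apply, Finset.sum_add_distrib, Finset.sum_pi_single', Finset.mem_univ,
        if_true]
      have := z2_add_self b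
      linear_combination this
    · show (Pi.single L b + Pi.single j (a + b) : ι → ZMod 2) L = b
      simp [hj.symm]
  have := LinearMap.finrank_range_add_finrank_ker φ
  rw [LinearMap.range_eq_top.2 hsurj, finrank_top, hker, Module.finrank_prod, Module.finrank_self,
    Module.finrank_fintype_fun_eq_card] at this
  omega

theorem ρ_injective (hcard : Even (Fintype.card ι)) (h5 : 5 ≤ Fintype.card ι) (L a b c d : ι)
    (hab : a ≠ b) (hac : a ≠ c) (had : a ≠ d) (hbc : b ≠ c) (hbd : b ≠ d)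
    (haL : a ≠ L) (hbL : b ≠ L) (hcL : c ≠ L) (hdL : d ≠ L) : Injective (ρ hcard L) := by
  rw [← MonoidHom.ker_eq_bot_iff]
  by_contra hne
  have hnt : Nontrivial (ρ hcard L).ker := (Subgroup.nontrivial_iff_ne_bot _).mpr hne
  have hle := Equiv.Perm.alternatingGroup_le_of_normal (α := ι) (by simpa using h5) hnt
  set cyc : Equiv.Perm ι := Equiv.swap a b * Equiv.swap a c with hcyc
  have hc : cyc ∈ alternatingGroup ι := by
    rw [Equiv.Perm.mem_alternatingGroup, hcyc, map_mul, Equiv.Perm.sign_swap hab,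
      Equiv.Perm.sign_swap hac]
    decide
  have h1 := hle hc
  rw [MonoidHom.mem_ker] at h1
  have h2 : ((ρ hcard L cyc) ⟨pv a d, pv_mem haL hdL⟩ : W L).1 a =
      ((1 : Module.End (ZMod 2) (W L)) ⟨pv a d, pv_mem haL hdL⟩ : W L).1 a := by rw [h1]
  have hcb : cyc⁻¹ a = b := by
    rw [Equiv.Perm.inv_eq_iff_eq, hcyc, Equiv.Perm.mul_apply,
      Equiv.swap_apply_of_ne_of_ne hab.symm hbc, Equiv.swap_apply_right]
  have hcL' : cyc⁻¹ L = L := by
    rw [Equiv.Perm.inv_eq_iff_eq, hcyc, Equiv.Perm.mul_apply,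
      Equiv.swap_apply_of_ne_of_ne haL.symm hcL.symm, Equiv.swap_apply_of_ne_of_ne haL.symm hbL.symm]
  have h3 : ((ρ hcard L cyc) ⟨pv a d, pv_mem haL hdL⟩ : W L).1 a =
      pv a d (cyc⁻¹ a) + pv a d (cyc⁻¹ L) := rfl
  rw [h3, hcb, hcL'] at h2
  simp [pv, Pi.single_apply, hab, hab.symm, hbd, hbd.symm, had, had.symm, haL, haL.symm, hdL,
    hdL.symm] at h2

/-- S_2n ≤ Sp_(2n−2)(2) for n ≥ 3: there is an injective homomorphism from the symmetric group on 2n letters into the symplectic group of degree 2n − 2 over the field with two elements. -/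
theorem result (n : ℕ) (hn : 3 ≤ n) : ∃ f : Equiv.Perm (Fin (2 * n)) →* Matrix.symplecticGroup (Fin (n - 1)) (ZMod 2), Function.Injective f := by
  have hcard : Even (Fintype.card (Fin (2 * n))) := by
    rw [Fintype.card_fin]
    exact even_two_mul n
  let L : Fin (2 * n) := ⟨5, by omega⟩
  let a : Fin (2 * n) := ⟨0, by omega⟩
  let b : Fin (2 * n) := ⟨1, by omega⟩
  let c : Fin (2 * n) := ⟨2, by omega⟩
  let d : Fin (2 * n) := ⟨3, by omega⟩
  have hfr : Module.finrank (ZMod 2) (W L) = 2 * (n - 1) := by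
    have := finrank_W L a (by simp [a, L, Fin.ext_iff])
    rw [Fintype.card_fin] at this
    omega
  refine Cfsg.Agent.Lib.Helper39.DarbouxCopy.exists_hom_to_Sp (ω L) (ω_alt L) (ω_nondeg hcard L) (n - 1) hfr
    (ρ hcard L) (ω_act hcard L) ?_
  apply ρ_injective hcard (by rw [Fintype.card_fin]; omega) L a b c d <;>
    simp [a, b, c, d, L, Fin.ext_iff]

end Cfsg.Agent.S0826
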