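import Cfsg.Statements.S0828
import Cfsg.Agent.Lib.Helper5.TwoSubspaces
import Cfsg.Agent.Lib.Helper5.DotCount
import Cfsg.Agent.Lib.Helper13.Symp
import Cfsg.Agent.Lib.Helper13.SympTrans

set_option autoImplicit false
open Cfsg

namespace Cfsg.Agent.S0828

open Cfsg.Agent.Lib.Helper5 Cfsg.Agent.Lib.Helper13 Module Matrix

section aux

variable {F : Type*} [Field F] [Fintype F]

/-- total isotropy on a span -/
lemma ti_span_symp (S : Set (Fin 2 ⊕ Fin 2 → F))
    (hS : ∀ u ∈ S, ∀ v ∈ S, Cfsg.sympForm 2 F u v = 0) :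
    ∀ u ∈ Submodule.span F S, ∀ v ∈ Submodule.span F S, Cfsg.sympForm 2 F u v = 0 := by
  apply ti_span (B := Cfsg.sympForm 2 F) (sympForm_zero_left 2) (sympForm_zero_right 2)
    (sympForm_add_left 2) (sympForm_add_right 2) _ _ S hS
  · intro a u v h
    rw [sympForm_smul_left, h, mul_zero]
  · intro a u v h
    rw [sympForm_smul_right, h, mul_zero]

lemma ti_pair_iff (u w : Fin 2 ⊕ Fin 2 → F) :
    (∀ x ∈ Submodule.span F {u, w}, ∀ y ∈ Submodule.span F {u, w}, Cfsg.sympForm 2 F x y = 0) ↔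
      Cfsg.sympForm 2 F u w = 0 := by
  constructor
  · intro h
    exact h u (Submodule.subset_span (Set.mem_insert _ _)) w
      (Submodule.subset_span (Set.mem_insert_of_mem _ rfl))
  · intro h
    apply ti_span_symp
    rintro x (rfl | rfl) y (rfl | rfl)
    · exact sympForm_self 2 _
    · exact h
    · rw [sympForm_swap, h, neg_zero]
    · exact sympForm_self 2 _

lemma card_perp (u : Fin 2 ⊕ Fin 2 → F) (hu : u ≠ 0) :
    Nat.card {w : Fin 2 ⊕ Fin 2 → F // Cfsg.sympForm 2 F u w = 0} = Fintype.card F ^ 3 := by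
  have h1 : ∀ w, Cfsg.sympForm 2 F u w = (u ᵥ* Matrix.J (Fin 2) F) ⬝ᵥ w := by
    intro w
    rw [sympForm_def, Matrix.dotProduct_mulVec]
  have hne : u ᵥ* Matrix.J (Fin 2) F ≠ 0 := by
    intro h0
    obtain ⟨a, ha⟩ := exists_sympForm_ne_zero 2 u hu
    apply ha
    rw [h1, h0, zero_dotProduct]
  have := card_dotProduct_eq (u ᵥ* Matrix.J (Fin 2) F) hne 0
  simp only [Fintype.card_sum, Fintype.card_fin] at this
  rw [← this]
  apply Nat.card_congr
  apply Equiv.subtypeEquivRight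
  intro w
  rw [h1]

lemma card_perp_not_span (u : Fin 2 ⊕ Fin 2 → F) (hu : u ≠ 0) :
    Nat.card {w : Fin 2 ⊕ Fin 2 → F // w ∉ Submodule.span F {u} ∧ Cfsg.sympForm 2 F u w = 0} +
      Fintype.card F = Fintype.card F ^ 3 := by
  rw [← card_perp u hu]
  apply card_not_mem_span_add u hu
  intro a
  rw [sympForm_smul_right, sympForm_self, mul_zero]

end aux

/-- The symplectic generalised quadrangle over a field with q elements: the number of 2-dimensional subspaces of F^4 on which the symplectic form vanishes is (q + 1)(q² + 1), and every non-zero vector lies in exactly q + 1 of them. -/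
theorem result {F : Type*} [Field F] [Fintype F] {q : ℕ} (hF : Fintype.card F = q) : Nat.card {W : Submodule F (Fin 2 ⊕ Fin 2 → F) // Module.finrank F W = 2 ∧ ∀ u ∈ W, ∀ v ∈ W, Cfsg.sympForm 2 F u v = 0} = (q + 1) * (q ^ 2 + 1) ∧ ∀ v : Fin 2 ⊕ Fin 2 → F, v ≠ 0 → Nat.card {W : Submodule F (Fin 2 ⊕ Fin 2 → F) // Module.finrank F W = 2 ∧ v ∈ W ∧ ∀ u ∈ W, ∀ w ∈ W, Cfsg.sympForm 2 F u w = 0} = q + 1 := by
  have hq : 2 ≤ q := by
    rw [← hF]
    exact Fintype.one_lt_card
  constructor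
  · have h1 := card_two_subspaces (F := F) (V := Fin 2 ⊕ Fin 2 → F)
      (fun W => ∀ u ∈ W, ∀ v ∈ W, Cfsg.sympForm 2 F u v = 0)
    have h2 : Nat.card {s : Fin 2 → (Fin 2 ⊕ Fin 2 → F) // LinearIndependent F s ∧
        ∀ u ∈ Submodule.span F (Set.range s), ∀ v ∈ Submodule.span F (Set.range s),
          Cfsg.sympForm 2 F u v = 0} =
        Nat.card {s : Fin 2 → (Fin 2 ⊕ Fin 2 → F) // LinearIndependent F s ∧
          Cfsg.sympForm 2 F (s 0) (s 1) = 0} := by
      apply Nat.card_congr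
      apply Equiv.subtypeEquivRight
      intro s
      have : Set.range s = {s 0, s 1} := by
        have : s = ![s 0, s 1] := by
          funext i; fin_cases i <;> rfl
        conv_lhs => rw [this]
        rw [Matrix.range_cons_cons_empty]
      rw [this, ti_pair_iff]
    have h3 := card_pairs (F := F) (V := Fin 2 ⊕ Fin 2 → F)
      (fun u w => Cfsg.sympForm 2 F u w = 0) (fun _ => True) (q ^ 3 - q)
      (fun _ _ _ => trivial) (by
        intro u hu _
        have := card_perp_not_span u hu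
        rw [hF] at this
        omega)
    have h4 : Nat.card {u : Fin 2 ⊕ Fin 2 → F // u ≠ 0 ∧ True} = q ^ 4 - 1 := by
      have h := card_not_mem_add (F := F) (V := Fin 2 ⊕ Fin 2 → F) ⊥ (fun _ => True)
        (fun _ _ => trivial)
      have h5 : Nat.card {w : Fin 2 ⊕ Fin 2 → F // True} = q ^ 4 := by
        rw [Nat.card_congr (Equiv.subtypeUnivEquiv (fun _ => trivial)), Nat.card_eq_fintype_card,
          Fintype.card_fun, hF]
        simp
      rw [h5] at h
      have h6 : Nat.card (⊥ : Submodule F (Fin 2 ⊕ Fin 2 → F)) = 1 := by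
        simp
      rw [h6] at h
      have h7 : Nat.card {u : Fin 2 ⊕ Fin 2 → F // u ≠ 0 ∧ True} =
          Nat.card {w : Fin 2 ⊕ Fin 2 → F // w ∉ (⊥ : Submodule F (Fin 2 ⊕ Fin 2 → F)) ∧ True} := by
        apply Nat.card_congr
        apply Equiv.subtypeEquivRight
        intro w
        simp
      omega
    rw [h2, h3, h4, hF] at h1
    -- (q^4-1)(q^3-q) = N (q^2-1)(q^2-q)
    have hpos : 0 < (q ^ 2 - 1) * (q ^ 2 - q) := by
      apply Nat.mul_pos
      · have : 4 ≤ q ^ 2 := by nlinarith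
        omega
      · have : q * 2 ≤ q ^ 2 := by nlinarith
        have : q ^ 2 - q ≥ q := by omega
        omega
    apply Nat.eq_of_mul_eq_mul_right hpos
    rw [← h1]
    obtain ⟨k, rfl⟩ : ∃ k, q = k + 2 := ⟨q - 2, by omega⟩
    have e1 : (k + 2) ^ 4 - 1 = ((k + 2) ^ 2 + 1) * ((k + 2) ^ 2 - 1) := by
      have : (k + 2) ^ 2 - 1 = k ^ 2 + 4 * k + 3 := by
        have : (k + 2) ^ 2 = k ^ 2 + 4 * k + 4 := by ring
        omega
      rw [this]
      have : (k + 2) ^ 4 = ((k + 2) ^ 2 + 1) * (k ^ 2 + 4 * k + 3) + 1 := by ring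
      omega
    have e2 : (k + 2) ^ 3 - (k + 2) = (k + 2 + 1) * ((k + 2) ^ 2 - (k + 2)) := by
      have : (k + 2) ^ 2 - (k + 2) = k ^ 2 + 3 * k + 2 := by
        have : (k + 2) ^ 2 = k ^ 2 + 3 * k + 2 + (k + 2) := by ring
        omega
      rw [this]
      have : (k + 2) ^ 3 = (k + 2 + 1) * (k ^ 2 + 3 * k + 2) + (k + 2) := by ring
      omega
    rw [e1, e2]
    ring
  · intro v hv
    have h1 := card_two_subspaces_through (F := F) v hv
      (fun W => ∀ u ∈ W, ∀ w ∈ W, Cfsg.sympForm 2 F u w = 0)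
    have h2 : Nat.card {w : Fin 2 ⊕ Fin 2 → F // w ∉ Submodule.span F {v} ∧
        ∀ x ∈ Submodule.span F {v, w}, ∀ y ∈ Submodule.span F {v, w},
          Cfsg.sympForm 2 F x y = 0} =
        Nat.card {w : Fin 2 ⊕ Fin 2 → F // w ∉ Submodule.span F {v} ∧
          Cfsg.sympForm 2 F v w = 0} := by
      apply Nat.card_congr
      apply Equiv.subtypeEquivRight
      intro w
      rw [ti_pair_iff]
    have h3 := card_perp_not_span v hv
    rw [h2, hF] at h1
    rw [hF] at h3
    have hpos : 0 < q ^ 2 - q := by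
      have : q * 2 ≤ q ^ 2 := by nlinarith
      omega
    apply Nat.eq_of_mul_eq_mul_right hpos
    rw [← h1]
    obtain ⟨k, rfl⟩ : ∃ k, q = k + 2 := ⟨q - 2, by omega⟩
    have e2 : (k + 2) ^ 3 - (k + 2) = (k + 2 + 1) * ((k + 2) ^ 2 - (k + 2)) := by
      have : (k + 2) ^ 2 - (k + 2) = k ^ 2 + 3 * k + 2 := by
        have : (k + 2) ^ 2 = k ^ 2 + 3 * k + 2 + (k + 2) := by ring
        omega
      rw [this]
      have : (k + 2) ^ 3 = (k + 2 + 1) * (k ^ 2 + 3 * k + 2) + (k + 2) := by ring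
      omega
    omega

end Cfsg.Agent.S0828
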