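import Cfsg.Statements.S0829
import Cfsg.Agent.Lib.Helper5.HermPerp

set_option autoImplicit false
open Cfsg

namespace Cfsg.Agent.S0829

open Cfsg.Agent.Lib.Helper5

/-- The unitary quadrangle of PSU_4(q): with |F| = q², the number of 2-dimensional subspaces of F^4 on which the Hermitian form Σ x_i y_i^q vanishes is (q + 1)(q³ + 1). -/
theorem result {F : Type*} [Field F] [Fintype F] {q : ℕ} (hF : Fintype.card F = q ^ 2) : Nat.card {W : Submodule F (Fin 4 → F) // Module.finrank F W = 2 ∧ ∀ u ∈ W, ∀ v ∈ W, Cfsg.hermForm 4 F q u v = 0} = (q + 1) * (q ^ 3 + 1) := by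
  have hq := two_le_of_card hF
  have hI := card_hermForm_eq_zero hF 4
  rw [if_pos (by decide)] at hI
  have h1 : 1 ≤ q ^ 2 := Nat.one_le_pow _ _ (by omega)
  have h2 : 1 ≤ q ^ 4 := Nat.one_le_pow _ _ (by omega)
  have h3 : 1 ≤ (q ^ 2) ^ 2 := Nat.one_le_pow _ _ (by omega)
  have h4 : q ^ 2 ≤ (q ^ 2) ^ 2 := by nlinarith
  have key := card_herm_ti_lines (n := 4) hF (q ^ 2 * (q + 1) * (q ^ 2 - 1)) (by
    rw [hI]
    zify [h1, h2]
    ring)
  rw [hI] at key
  have hpos : 0 < ((q ^ 2) ^ 2 - 1) * ((q ^ 2) ^ 2 - q ^ 2) := by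
    apply Nat.mul_pos
    · have : 4 ≤ (q ^ 2) ^ 2 := by nlinarith
      omega
    · have h5 : 4 ≤ q ^ 2 := by nlinarith
      have : q ^ 2 * 2 ≤ (q ^ 2) ^ 2 := by nlinarith
      omega
  apply Nat.eq_of_mul_eq_mul_right hpos
  rw [key]
  simp only [Nat.add_sub_cancel]
  zify [h1, h2, h3, h4]
  ring

end Cfsg.Agent.S0829
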