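import Cfsg.Statements.S0834
import Cfsg.Agent.Lib.Helper14.FiniteQuad2

set_option autoImplicit false
open Cfsg

namespace Cfsg.Agent.S0834

open Cfsg.Agent.Lib.Helper14 in
/-- Over a finite field with 2 ≠ 0: if B₁ on U (dim 2k, k ≥ 1) and B₂ on W (dim 2l, l ≥ 1) are non-degenerate symmetric forms admitting no totally isotropic subspaces of dimensions k, resp. l (minus type), then B₁ ⊗ B₂ admits a totally isotropic subspace of dimension 2kl (plus type). -/
theorem result {F U W : Type*} [Field F] [Fintype F] [AddCommGroup U] [Module F U] [FiniteDimensional F U] [AddCommGroup W] [Module F W] [FiniteDimensional F W] (h2 : (2 : F) ≠ 0) (B₁ : LinearMap.BilinForm F U) (B₂ : LinearMap.BilinForm F W) (h₁ : B₁.Nondegenerate) (h₂ : B₂.Nondegenerate) (hS₁ : B₁.IsSymm) (hS₂ : B₂.IsSymm) (k l : ℕ) (hk : 1 ≤ k) (hl : 1 ≤ l) (hU : Module.finrank F U = 2 * k) (hW : Module.finrank F W = 2 * l) (hm₁ : ¬ (∃ X : Submodule F (U), Module.finrank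 F X = k ∧ ∀ x ∈ X, ∀ y ∈ X, (B₁) x y = 0)) (hm₂ : ¬ (∃ X : Submodule F (W), Module.finrank F X = l ∧ ∀ x ∈ X, ∀ y ∈ X, (B₂) x y = 0)) : (∃ X : Submodule F (TensorProduct F U W), Module.finrank F X = 2 * k * l ∧ ∀ x ∈ X, ∀ y ∈ X, (B₁.tmul B₂) x y = 0) := by
  classical
  let b := Module.finBasisOfFinrankEq F U hU
  let c := Module.finBasisOfFinrankEq F W hW
  have hTS := tmul_isSymm' B₁ B₂ hS₁ hS₂
  have hTN := Cfsg.Agent.S0833.tmul_nondegenerate B₁ B₂ h₁ h₂
  have hδ₁ : (LinearMap.BilinForm.toMatrix b B₁).det ≠ 0 :=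
    (LinearMap.BilinForm.nondegenerate_iff_det_ne_zero b).mp h₁
  have hδ₂ : (LinearMap.BilinForm.toMatrix c B₂).det ≠ 0 :=
    (LinearMap.BilinForm.nondegenerate_iff_det_ne_zero c).mp h₂
  have hdet := det_toMatrix_tmul b c B₁ B₂
  rw [Fintype.card_fin, Fintype.card_fin] at hdet
  have hpos : 1 ≤ 2 * k * l := by
    have : 1 ≤ k * l := Nat.mul_le_mul hk hl
    rw [mul_assoc]; omega
  refine exists_lagrangian_of_disc h2 (B₁.tmul B₂) hTS hTN (2 * k * l) hpos (b.tensorProduct c) ?_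
    ((LinearMap.BilinForm.toMatrix b B₁).det ^ l * (LinearMap.BilinForm.toMatrix c B₂).det ^ k)
    (mul_ne_zero (pow_ne_zero _ hδ₁) (pow_ne_zero _ hδ₂)) ?_
  · rw [Fintype.card_prod, Fintype.card_fin, Fintype.card_fin]; ring
  · rw [hdet]
    have : ((-1 : F)) ^ (2 * k * l) = 1 := by
      rw [mul_assoc, pow_mul]; simp
    rw [this]
    ring

end Cfsg.Agent.S0834
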