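import Cfsg.Statements.S0835
import Cfsg.Agent.Lib.Helper14.FiniteQuad3

set_option autoImplicit false
open Cfsg

namespace Cfsg.Agent.S0835

open Cfsg.Agent.Lib.Helper14 in
/-- Over a finite field with 2 ≠ 0: if B₁ on U (dim 2k, k ≥ 1) is non-degenerate symmetric of minus type (no totally isotropic k-subspace) and B₂ on W (dim 2l + 1) is non-degenerate symmetric, then B₁ ⊗ B₂ (dimension 2k(2l+1)) admits no totally isotropic subspace of dimension k(2l+1) (minus type). -/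
theorem result {F U W : Type*} [Field F] [Fintype F] [AddCommGroup U] [Module F U] [FiniteDimensional F U] [AddCommGroup W] [Module F W] [FiniteDimensional F W] (h2 : (2 : F) ≠ 0) (B₁ : LinearMap.BilinForm F U) (B₂ : LinearMap.BilinForm F W) (h₁ : B₁.Nondegenerate) (h₂ : B₂.Nondegenerate) (hS₁ : B₁.IsSymm) (hS₂ : B₂.IsSymm) (k l : ℕ) (hk : 1 ≤ k) (hU : Module.finrank F U = 2 * k) (hW : Module.finrank F W = 2 * l + 1) (hm₁ : ¬ (∃ X : Submodule F (U), Module.finrank F X = k ∧ ∀ x ∈ X, ∀ y ∈ X, (B₁) x y = 0)) : ¬ (∃ X : Submodule F (TensorProduct F U W), Module.finrank F X = k * (2 * l + 1) ∧ ∀ x ∈ X, ∀ y ∈ X, (B₁.tmul B₂) x y = 0) := by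
  classical
  rintro ⟨X, hX, hXti⟩
  apply hm₁
  let b := Module.finBasisOfFinrankEq F U hU
  let c := Module.finBasisOfFinrankEq F W hW
  have hTS := tmul_isSymm' B₁ B₂ hS₁ hS₂
  have hTN := Cfsg.Agent.S0833.tmul_nondegenerate B₁ B₂ h₁ h₂
  have hδ₁ : (LinearMap.BilinForm.toMatrix b B₁).det ≠ 0 :=
    (LinearMap.BilinForm.nondegenerate_iff_det_ne_zero b).mp h₁
  have hδ₂ : (LinearMap.BilinForm.toMatrix c B₂).det ≠ 0 :=
    (LinearMap.BilinForm.nondegenerate_iff_det_ne_zero c).mp h₂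
  have hdet := det_toMatrix_tmul b c B₁ B₂
  rw [Fintype.card_fin, Fintype.card_fin] at hdet
  have hfr : Module.finrank F (TensorProduct F U W) = 2 * (k * (2 * l + 1)) := by
    rw [Module.finrank_tensorProduct, hU, hW]; ring
  obtain ⟨β, p, hp, hβ⟩ := disc_of_lagrangian (B₁.tmul B₂) hTS hTN (k * (2 * l + 1)) hfr X hX hXti
  have hcard : Fintype.card (Fin (k * (2 * l + 1)) ⊕ Fin (k * (2 * l + 1)))
      = Fintype.card (Fin (2 * k) × Fin (2 * l + 1)) := by
    rw [Fintype.card_sum, Fintype.card_prod, Fintype.card_fin, Fintype.card_fin, Fintype.card_fin]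
    ring
  let e := Fintype.equivOfCardEq hcard
  have hch := disc_change (B₁.tmul B₂) (b.tensorProduct c) (β.reindex e)
  rw [det_toMatrix_reindex, hβ, hdet] at hch
  set q := ((b.tensorProduct c).toMatrix (β.reindex e)).det with hq
  set δ₁ := (LinearMap.BilinForm.toMatrix b B₁).det with hδ₁def
  set δ₂ := (LinearMap.BilinForm.toMatrix c B₂).det with hδ₂def
  have hq0 : q ≠ 0 := by
    intro h0
    rw [h0] at hch
    have : ((-1 : F)) ^ (k * (2 * l + 1)) * p ^ 2 ≠ 0 :=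
      mul_ne_zero (pow_ne_zero _ (by simp)) (pow_ne_zero _ hp)
    apply this
    rw [hch]; ring
  have hd0 : q * δ₁ ^ l * δ₂ ^ k ≠ 0 :=
    mul_ne_zero (mul_ne_zero hq0 (pow_ne_zero _ hδ₁)) (pow_ne_zero _ hδ₂)
  rw [pow_mul] at hch
  have hε : ((-1 : F) ^ k) ^ 2 = 1 := by
    rw [← pow_mul, mul_comm, pow_mul]; simp
  have key : δ₁ * (q * δ₁ ^ l * δ₂ ^ k) ^ 2 = (p * ((-1 : F) ^ k) ^ l) ^ 2 * (-1) ^ k := by
    linear_combination (-1 : F) * hch
  refine exists_lagrangian_of_disc h2 B₁ hS₁ h₁ k hk b (by simp)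
    (p * ((-1 : F) ^ k) ^ l / (q * δ₁ ^ l * δ₂ ^ k)) ?_ ?_
  · exact div_ne_zero (mul_ne_zero hp (pow_ne_zero _ (pow_ne_zero _ (by simp)))) hd0
  · rw [div_pow, div_mul_eq_mul_div, eq_div_iff (pow_ne_zero _ hd0)]
    exact key

end Cfsg.Agent.S0835
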