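import Cfsg.Statements.S0836
import Mathlib

set_option autoImplicit false
open Cfsg
open scoped commutatorElement

namespace Cfsg.Agent.S0836

theorem mem_commSet_of_mul_eq {G : Type*} [Group G] (t a b : G) (h : a * b = t * b * a) :
    t ∈ commutatorSet G := by
  rw [mem_commutatorSet_iff]
  refine ⟨a, b, ?_⟩
  rw [commutatorElement_def, h]
  group

theorem exists_third {n : ℕ} (hn : 3 ≤ n) (i j : Fin n) : ∃ k : Fin n, k ≠ i ∧ k ≠ j := by
  by_contra hcon
  push Not at hcon
  have hsub : (Finset.univ : Finset (Fin n)) ⊆ {i, j} := by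
    intro k _
    by_cases hk : k = i
    · simp [hk]
    · simp [hcon k hk]
  have := Finset.card_le_card hsub
  have h2 : ({i, j} : Finset (Fin n)).card ≤ 2 := Finset.card_le_two
  simp at this
  omega

theorem mat_id_three {F : Type*} [Field F] {n : ℕ} (i j k : Fin n) (hij : i ≠ j) (hki : k ≠ i)
    (hkj : k ≠ j) (c : F) :
    Matrix.transvection i k c * Matrix.transvection k j 1 =
      Matrix.transvection i j c * Matrix.transvection k j 1 * Matrix.transvection i k c := by
  have e1 : Matrix.single i j c * Matrix.single k j (1 : F) = 0 :=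
    Matrix.single_mul_single_of_ne c i j k hkj.symm 1
  have e2 : Matrix.single i j c * Matrix.single i k c = 0 :=
    Matrix.single_mul_single_of_ne c i j i hij.symm c
  have e3 : Matrix.single k j (1 : F) * Matrix.single i k c = 0 :=
    Matrix.single_mul_single_of_ne 1 k j i hij.symm c
  simp only [Matrix.transvection, add_mul, mul_add, one_mul, mul_one,
    Matrix.single_mul_single_same, e1, e2, e3, mul_one, add_zero, zero_mul]
  abel

theorem mat_id_two {F : Type*} [Field F] (i j : Fin 2) (hij : i ≠ j) (c x : F) (hx0 : x ≠ 0)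
    (hx2 : x ^ 2 - 1 ≠ 0) :
    Matrix.diagonal (fun a => if a = i then x else x⁻¹) * Matrix.transvection i j (c / (x ^ 2 - 1)) =
      Matrix.transvection i j c * Matrix.transvection i j (c / (x ^ 2 - 1)) *
        Matrix.diagonal (fun a => if a = i then x else x⁻¹) := by
  have key : c / (x ^ 2 - 1) * x = (c + c / (x ^ 2 - 1)) * x⁻¹ := by
    field_simp
    ring
  have key' : x * (c / (x ^ 2 - 1)) = (c + c / (x ^ 2 - 1)) * x⁻¹ := by
    rw [mul_comm]; exact key
  fin_cases i <;> fin_cases j
  · exact absurd rfl hij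
  · ext a b
    fin_cases a <;> fin_cases b <;>
      simp [Matrix.transvection, Matrix.mul_apply, Fin.sum_univ_two, Matrix.single_apply,
        Matrix.diagonal_apply, Matrix.one_apply, key'] <;>
      first | (left; ring) | ring
  · ext a b
    fin_cases a <;> fin_cases b <;>
      simp [Matrix.transvection, Matrix.mul_apply, Fin.sum_univ_two, Matrix.single_apply,
        Matrix.diagonal_apply, Matrix.one_apply, key'] <;>
      first | (left; ring) | ring
  · exact absurd rfl hij

/-- For i ≠ j and any scalar c, the elementary transvection 1 + c E_ij is a commutator ⁅g, h⁆ of two elements of SL_n(F) provided n ≥ 3, or n = 2 and F contains x ≠ 0 with x² ≠ 1. -/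
theorem result {F : Type*} [Field F] (n : ℕ) (hn : 3 ≤ n ∨ (n = 2 ∧ ∃ x : F, x ≠ 0 ∧ x ^ 2 ≠ 1)) (i j : Fin n) (hij : i ≠ j) (c : F) (t : Matrix.SpecialLinearGroup (Fin n) F) (ht : (t : Matrix (Fin n) (Fin n) F) = Matrix.transvection i j c) : t ∈ commutatorSet (Matrix.SpecialLinearGroup (Fin n) F) := by
  rcases hn with hn | ⟨rfl, x, hx0, hx1⟩
  · obtain ⟨k, hki, hkj⟩ := exists_third hn i j
    let A : Matrix.SpecialLinearGroup (Fin n) F :=
      ⟨Matrix.transvection i k c, Matrix.det_transvection_of_ne i k (Ne.symm hki) c⟩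
    let B : Matrix.SpecialLinearGroup (Fin n) F :=
      ⟨Matrix.transvection k j 1, Matrix.det_transvection_of_ne k j hkj 1⟩
    apply mem_commSet_of_mul_eq t A B
    apply Subtype.ext
    show A.1 * B.1 = t.1 * B.1 * A.1
    rw [ht]
    exact mat_id_three i j k hij hki hkj c
  · have hx2 : x ^ 2 - 1 ≠ 0 := sub_ne_zero.mpr hx1
    let Dm : Matrix (Fin 2) (Fin 2) F := Matrix.diagonal (fun a => if a = i then x else x⁻¹)
    have hD : Dm.det = 1 := by
      simp only [Dm, Matrix.det_diagonal, Fin.prod_univ_two]
      fin_cases i <;> fin_cases j <;> simp_all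
    let D : Matrix.SpecialLinearGroup (Fin 2) F := ⟨Dm, hD⟩
    let B : Matrix.SpecialLinearGroup (Fin 2) F :=
      ⟨Matrix.transvection i j (c / (x ^ 2 - 1)), Matrix.det_transvection_of_ne i j hij _⟩
    apply mem_commSet_of_mul_eq t D B
    apply Subtype.ext
    show D.1 * B.1 = t.1 * B.1 * D.1
    rw [ht]
    exact mat_id_two i j hij c x hx0 hx2

end Cfsg.Agent.S0836
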