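import Cfsg.Statements.S0837
import Cfsg.Agent.Lib.Helper44.HermSplit

set_option autoImplicit false
open Cfsg

namespace Cfsg.Agent.S0837

/-- If W ≤ F^n (|F| = q²) is a k-dimensional subspace on which the Hermitian form Σ x_i y_i^q is non-degenerate, then the stabiliser of W in GU_n(q) is isomorphic to GU_k(q) × GU_(n−k)(q). -/
theorem result {F : Type*} [Field F] [Fintype F] {q : ℕ} (hF : Fintype.card F = q ^ 2) (n k : ℕ) (hk : k ≤ n) (W : Submodule F (Fin n → F)) (hWk : Module.finrank F W = k) (hW : ∀ u ∈ W, (∀ v ∈ W, Cfsg.hermForm n F q u v = 0) → u = 0) : Nonempty (↥((Cfsg.stabilizing (Cfsg.glToMat (Fin n) F) (W : Set (Fin n → F))).subgroupOf (Cfsg.GU n F q)) ≃* ↥(Cfsg.GU k F q) × ↥(Cfsg.GU (n - k) F q)) := by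
  classical
  have hq2 := Cfsg.Agent.Lib.Helper44.two_le_q_of_card hF
  have hH₀ := Cfsg.Agent.Lib.Helper44.isHermSpace_std hF n
  have hsymm : ∀ a b : Fin n → F, Cfsg.hermForm n F q a b = 0 → Cfsg.hermForm n F q b a = 0 := by
    intro a b h
    rw [← hH₀.conj, h, zero_pow (by omega)]
  have hW' : ∀ w ∈ W, (∀ u ∈ W, Cfsg.hermForm n F q u w = 0) → w = 0 :=
    fun w hw h => hW w hw (fun v hv => hsymm _ _ (h v hv))
  obtain ⟨h1, h2, hdim, ⟨ψ⟩⟩ := Cfsg.Agent.Lib.Helper44.split_stabilizer hF hH₀ W hW'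
  have hdim' : Module.finrank F ↥(Cfsg.Agent.Lib.Helper44.hermOrth hH₀ W) = n - k := by
    rw [hWk, Module.finrank_fin_fun] at hdim
    omega
  obtain ⟨φ₁⟩ := Cfsg.Agent.Lib.Helper44.exists_mulEquiv_GU hF ↥W _ h1 k hWk
  obtain ⟨φ₂⟩ := Cfsg.Agent.Lib.Helper44.exists_mulEquiv_GU hF
    ↥(Cfsg.Agent.Lib.Helper44.hermOrth hH₀ W) _ h2 (n - k) hdim'
  have hex : ∃ φ₀ : ↥(Cfsg.Agent.Lib.Helper44.absPreserving F (Cfsg.hermForm n F q)) ≃*
      ↥(Cfsg.GU n F q), ∀ (g : ↥(Cfsg.Agent.Lib.Helper44.absPreserving F (Cfsg.hermForm n F q)))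
      (u : Fin n → F), ((φ₀ g : ↥(Cfsg.GU n F q)) : (Matrix (Fin n) (Fin n) F)ˣ).val.mulVec u
        = (g : (Fin n → F) ≃ₗ[F] (Fin n → F)) u := by
    obtain ⟨φ₀, hφ₀⟩ := Cfsg.Agent.Lib.Helper44.exists_mulEquiv_preserving
      (Cfsg.hermForm n F q) (Cfsg.hermForm n F q) (LinearEquiv.refl F (Fin n → F)) (fun u v => rfl)
    exact ⟨φ₀, fun g u => hφ₀ g u⟩
  obtain ⟨φ₀, hφ₀⟩ := hex
  have hset : (Cfsg.stabilizing (Cfsg.glToMat (Fin n) F) (W : Set (Fin n → F))).subgroupOf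
      (Cfsg.GU n F q)
      = (Cfsg.Agent.Lib.Helper44.stabSub (Cfsg.hermForm n F q) W).map φ₀.toMonoidHom := by
    ext y
    rw [Subgroup.mem_subgroupOf, Subgroup.mem_map]
    constructor
    · intro hy
      refine ⟨φ₀.symm y, ?_, by simp⟩
      intro v
      have h3 := hφ₀ (φ₀.symm y) v
      simp only [MulEquiv.apply_symm_apply] at h3
      rw [← h3]
      exact hy v
    · rintro ⟨g, hg, rfl⟩
      intro v
      have h3 := hφ₀ g v
      show v ∈ (W : Set (Fin n → F)) ↔ _ ∈ (W : Set (Fin n → F))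
      have h4 := hg v
      rw [← h3] at h4
      exact h4
  have e1 : ↥((Cfsg.stabilizing (Cfsg.glToMat (Fin n) F) (W : Set (Fin n → F))).subgroupOf
      (Cfsg.GU n F q)) ≃* ↥(Cfsg.Agent.Lib.Helper44.stabSub (Cfsg.hermForm n F q) W) :=
    (MulEquiv.subgroupCongr hset).trans
      (φ₀.subgroupMap (Cfsg.Agent.Lib.Helper44.stabSub (Cfsg.hermForm n F q) W)).symm
  exact ⟨e1.trans (ψ.trans (MulEquiv.prodCongr φ₁ φ₂))⟩

end Cfsg.Agent.S0837
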