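import Cfsg.Statements.S0838
import Mathlib
import Cfsg.Agent.Lib.Helper14.FiniteQuad

set_option autoImplicit false
open Cfsg
open Cfsg.Agent.Lib.Helper14
open Module

namespace Cfsg.Agent.S0838

/-- Over a finite field with 2 ≠ 0 and n odd: two quadratic forms Q₁, Q₂ on F^n with non-degenerate polar forms are similar — there are an invertible linear map g and a scalar c ≠ 0 with Q₂ (g v) = c · Q₁ v for all v. -/
theorem result {F : Type*} [Field F] [Fintype F] (h2 : (2 : F) ≠ 0) {n : ℕ} (hn : Odd n) (Q₁ Q₂ : QuadraticForm F (Fin n → F)) (h₁ : (QuadraticMap.polarBilin Q₁).Nondegenerate) (h₂ : (QuadraticMap.polarBilin Q₂).Nondegenerate) : ∃ (g : (Fin n → F) ≃ₗ[F] (Fin n → F)) (c : F), c ≠ 0 ∧ ∀ v, Q₂ (g v) = c * Q₁ v := by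
  obtain ⟨r, rfl⟩ := hn
  set B₁ : LinearMap.BilinForm F (Fin (2 * r + 1) → F) := QuadraticMap.polarBilin Q₁ with hB₁
  set B₂ : LinearMap.BilinForm F (Fin (2 * r + 1) → F) := QuadraticMap.polarBilin Q₂ with hB₂
  have hS₁ : B₁.IsSymm := ⟨fun x y => QuadraticMap.polar_comm _ x y⟩
  have hS₂ : B₂.IsSymm := ⟨fun x y => QuadraticMap.polar_comm _ x y⟩
  let b₀ : Basis (Fin (2 * r + 1)) F (Fin (2 * r + 1) → F) := Pi.basisFun F _
  set δ₁ := (LinearMap.BilinForm.toMatrix b₀ B₁).det with hδ₁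
  set δ₂ := (LinearMap.BilinForm.toMatrix b₀ B₂).det with hδ₂
  have hδ₁0 : δ₁ ≠ 0 := (LinearMap.BilinForm.nondegenerate_iff_det_ne_zero b₀).mp h₁
  have hδ₂0 : δ₂ ≠ 0 := (LinearMap.BilinForm.nondegenerate_iff_det_ne_zero b₀).mp h₂
  set c := δ₁ * δ₂ with hc
  have hc0 : c ≠ 0 := mul_ne_zero hδ₁0 hδ₂0
  have hScB : (c • B₁).IsSymm := hS₁.smul c
  have hdetc : (LinearMap.BilinForm.toMatrix b₀ (c • B₁)).det = c ^ (2 * r + 1) * δ₁ := by
    rw [map_smul, Matrix.det_smul, Fintype.card_fin]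
  have hNcB : (c • B₁).Nondegenerate := by
    refine (LinearMap.BilinForm.nondegenerate_iff_det_ne_zero b₀).mpr ?_
    rw [hdetc]
    exact mul_ne_zero (pow_ne_zero _ hc0) hδ₁0
  have hdisc : (LinearMap.BilinForm.toMatrix b₀ (c • B₁)).det
      = (c ^ r * δ₁) ^ 2 * (LinearMap.BilinForm.toMatrix b₀ B₂).det := by
    rw [hdetc, ← hδ₂, hc]; ring
  obtain ⟨g, hg⟩ := exists_isometry_of_disc h2 (2 * r) (c • B₁) hScB hNcB B₂ hS₂ h₂ b₀ b₀
    (c ^ r * δ₁) (mul_ne_zero (pow_ne_zero _ hc0) hδ₁0) hdisc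
  refine ⟨g, c, hc0, ?_⟩
  intro v
  have h := hg v v
  simp only [LinearMap.smul_apply, smul_eq_mul, hB₁, hB₂, QuadraticMap.polarBilin_apply_apply,
    QuadraticMap.polar_self] at h
  -- h : 2 • Q₂ (g v) = c * 2 • Q₁ v
  have h' : (2 : F) * Q₂ (g v) = 2 * (c * Q₁ v) := by
    simp only [nsmul_eq_mul, Nat.cast_ofNat] at h
    linear_combination h
  exact mul_left_cancel₀ h2 h'

end Cfsg.Agent.S0838
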