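import Cfsg.Statements.S0839
import Mathlib

set_option autoImplicit false
open Cfsg

namespace Cfsg.Agent.S0839

theorem exists_vecMulVec_of_rank_one {F : Type*} [Field F] {m : Type*} [Fintype m] [DecidableEq m]
    (M : Matrix m m F) (h : M.rank = 1) : ∃ u w : m → F, M = Matrix.vecMulVec u w := by
  rw [Matrix.rank] at h
  obtain ⟨v, hv0, hv⟩ := finrank_eq_one_iff'.mp h
  have : ∀ j, ∃ c : F, c • v = ⟨M.mulVecLin (Pi.single j 1), ⟨Pi.single j 1, rfl⟩⟩ := fun j => hv _
  choose c hc using this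
  refine ⟨(v : m → F), c, ?_⟩
  ext i j
  have := congrArg (fun x : LinearMap.range M.mulVecLin => (x : m → F) i) (hc j)
  simp at this
  rw [Matrix.vecMulVec_apply, mul_comm]
  exact this.symm

theorem exists_SL_row_aux {F : Type*} [Field F] (n : ℕ) (w : Fin (n+2) → F) (hw : w 0 ≠ 0) :
    ∃ h : Matrix.SpecialLinearGroup (Fin (n+2)) F,
      ∀ j, (h : Matrix (Fin (n+2)) (Fin (n+2)) F) 0 j = w j := by
  let A : Matrix (Fin (n+2)) (Fin (n+2)) F := Matrix.of fun i j =>
    if i = 0 then w j else if i = 1 then (if j = 1 then (w 0)⁻¹ else 0) else if i = j then 1 else 0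
  have htri : A.IsUpperTriangular := by
    intro i j hij
    simp only [id] at hij
    have hi0 : i ≠ 0 := by
      intro h; rw [h] at hij; exact absurd hij (Fin.not_lt_zero j)
    simp only [A, Matrix.of_apply, hi0, if_false]
    by_cases hi1 : i = 1
    · have hj : j ≠ 1 := by
        intro h; rw [hi1, h] at hij; exact lt_irrefl _ hij
      simp [hi1, hj]
    · simp [hi1, hij.ne']
  have hdet : A.det = 1 := by
    rw [Matrix.det_of_isUpperTriangular htri, Fin.prod_univ_succ, Fin.prod_univ_succ]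
    simp [A, Fin.succ_ne_zero, Fin.succ_succ_ne_one, hw]
  exact ⟨⟨A, hdet⟩, fun j => by simp [A]⟩

theorem exists_SL_row {F : Type*} [Field F] (n : ℕ) (w : Fin (n+2) → F) (hw : w ≠ 0) :
    ∃ h : Matrix.SpecialLinearGroup (Fin (n+2)) F,
      ∀ j, (h : Matrix (Fin (n+2)) (Fin (n+2)) F) 0 j = w j := by
  by_cases h0 : w 0 ≠ 0
  · exact exists_SL_row_aux n w h0
  · push Not at h0
    have : ∃ k, w k ≠ 0 := by
      by_contra hcon
      push Not at hcon
      exact hw (funext hcon)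
    obtain ⟨k, hk⟩ := this
    have hk0 : k ≠ 0 := by
      intro h; rw [h] at hk; exact hk h0
    let T : Matrix (Fin (n+2)) (Fin (n+2)) F := Matrix.transvection k 0 1
    let Ti : Matrix (Fin (n+2)) (Fin (n+2)) F := Matrix.transvection k 0 (-1)
    have hTTi : T * Ti = 1 := by
      simp only [T, Ti]
      rw [Matrix.transvection_mul_transvection_same k 0 hk0]
      simp
    let w' := Matrix.vecMul w T
    have hw'0 : w' 0 ≠ 0 := by
      simp only [w', T, Matrix.transvection, Matrix.vecMul_add, Matrix.vecMul_one, Pi.add_apply]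
      rw [h0, zero_add]
      simp [Matrix.vecMul, dotProduct, Matrix.single_apply, hk]
    obtain ⟨h', hh'⟩ := exists_SL_row_aux n w' hw'0
    let TiSL : Matrix.SpecialLinearGroup (Fin (n+2)) F :=
      ⟨Ti, Matrix.det_transvection_of_ne k 0 hk0 (-1)⟩
    refine ⟨h' * TiSL, ?_⟩
    intro j
    have hrow : (h' : Matrix (Fin (n+2)) (Fin (n+2)) F) 0 = w' := funext hh'
    show ((h' : Matrix (Fin (n+2)) (Fin (n+2)) F) * Ti) 0 j = w j
    rw [Matrix.mul_apply_eq_vecMul, hrow]
    simp only [w']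
    rw [Matrix.vecMul_vecMul, hTTi, Matrix.vecMul_one]

/-- Every transvection t ∈ SL_(n+2)(F) (rank(t − 1) = 1, (t − 1)² = 0) is conjugate in SL_(n+2)(F) to 1 + v·e_0ᵀ for some column vector v with v_0 = 0 (the group A of matrices that are the identity except in the first column below the diagonal); the dimension is written n + 2 ≥ 2. -/
theorem result {F : Type*} [Field F] (n : ℕ) (t : Matrix.SpecialLinearGroup (Fin (n + 2)) F) (ht : Cfsg.IsTransvection (t : Matrix (Fin (n + 2)) (Fin (n + 2)) F)) : ∃ (g : Matrix.SpecialLinearGroup (Fin (n + 2)) F) (v : Fin (n + 2) → F), v 0 = 0 ∧ ((g⁻¹ * t * g : Matrix.SpecialLinearGroup (Fin (n + 2)) F) : Matrix (Fin (n + 2)) (Fin (n + 2)) F) = 1 + Matrix.vecMulVec v (Pi.single 0 1) := by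
  obtain ⟨hrank, hsq⟩ := ht
  obtain ⟨u, w, huw⟩ := exists_vecMulVec_of_rank_one _ hrank
  have hM0 : Matrix.vecMulVec u w ≠ 0 := by
    intro h
    rw [← huw] at h
    rw [h, Matrix.rank_zero] at hrank
    exact zero_ne_one hrank
  have hu0 : u ≠ 0 := by
    intro h; apply hM0; rw [h]; simp
  have hw0 : w ≠ 0 := by
    intro h; apply hM0; rw [h]; simp
  -- w ⬝ u = 0
  have hwu : w ⬝ᵥ u = 0 := by
    rw [huw] at hsq
    have h1 : Matrix.vecMulVec u w * Matrix.vecMulVec u w = (w ⬝ᵥ u) • Matrix.vecMulVec u w := by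
      ext i j
      simp only [Matrix.mul_apply, Matrix.vecMulVec_apply, Matrix.smul_apply, smul_eq_mul,
        dotProduct, Finset.sum_mul]
      apply Finset.sum_congr rfl
      intro x _
      ring
    rw [h1] at hsq
    rcases smul_eq_zero.mp hsq with h | h
    · exact h
    · exact absurd h hM0
  obtain ⟨h, hh⟩ := exists_SL_row n w hw0
  have hrow : (h : Matrix (Fin (n+2)) (Fin (n+2)) F) 0 = w := funext hh
  refine ⟨h⁻¹, Matrix.mulVec (h : Matrix (Fin (n+2)) (Fin (n+2)) F) u, ?_, ?_⟩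
  · show (fun j => (h : Matrix (Fin (n+2)) (Fin (n+2)) F) 0 j) ⬝ᵥ u = 0
    have : (fun j => (h : Matrix (Fin (n+2)) (Fin (n+2)) F) 0 j) = w := funext hh
    rw [this, hwu]
  · rw [inv_inv]
    have hHHi : (h : Matrix (Fin (n+2)) (Fin (n+2)) F) * ((h⁻¹ : Matrix.SpecialLinearGroup (Fin (n + 2)) F) : Matrix (Fin (n+2)) (Fin (n+2)) F) = 1 := by
      rw [← Matrix.SpecialLinearGroup.coe_mul, mul_inv_cancel, Matrix.SpecialLinearGroup.coe_one]
    have ht' : (t : Matrix (Fin (n + 2)) (Fin (n + 2)) F) = 1 + Matrix.vecMulVec u w := by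
      rw [← huw]; abel
    show (h : Matrix (Fin (n+2)) (Fin (n+2)) F) * (t : Matrix (Fin (n + 2)) (Fin (n + 2)) F) * ((h⁻¹ : Matrix.SpecialLinearGroup (Fin (n + 2)) F) : Matrix (Fin (n+2)) (Fin (n+2)) F) = _
    rw [ht', mul_add, add_mul, mul_one, hHHi]
    congr 1
    -- H * vecMulVec u w * Hi = vecMulVec (H u) (e0)
    have hwHi : Matrix.vecMul w ((h⁻¹ : Matrix.SpecialLinearGroup (Fin (n + 2)) F) : Matrix (Fin (n+2)) (Fin (n+2)) F) = Pi.single 0 1 := by
      rw [← hrow, ← Matrix.mul_apply_eq_vecMul, hHHi]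
      ext j
      simp [Matrix.one_apply, Pi.single_apply, eq_comm]
    rw [Matrix.mul_vecMulVec, Matrix.vecMulVec_mul, hwHi]

end Cfsg.Agent.S0839
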