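import Cfsg.Statements.S0845
import Cfsg.Agent.Lib.Helper3.BrauerSuzuki2

set_option autoImplicit false
open Cfsg

namespace Cfsg.Agent.S0845

/-- Suppose a Sylow 2-subgroup S of the finite group G is generalized quaternion of order at least 16. Then G has a normal subgroup M of even order such that G / M is non-abelian, that is, M does not contain the commutator subgroup of G. -/
theorem result {G : Type*} [Group G] [Finite G] (S : Sylow 2 G) (n : ℕ) (e : (S : Subgroup G) ≃* QuaternionGroup (2 ^ (n + 2))) : ∃ M : Subgroup G, M.Normal ∧ Even (Nat.card M) ∧ ¬ commutator G ≤ M := by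
  classical
  haveI : Fintype G := Fintype.ofFinite G
  obtain ⟨α, z, h, _, hoz, hz⟩ := Cfsg.Agent.Lib.Helper3.bs_data S n e
  obtain ⟨χ₁, χ₂, h1, h2, _, _, hdeg, hval, _⟩ := Cfsg.Agent.Lib.Helper3.bs_pair h
  obtain ⟨K₁, K₂, hn1, _, _, _, hzK, _, hcomm⟩ :=
    Cfsg.Agent.Lib.Helper3.bs_kernels S z hz hoz χ₁ χ₂ h1 h2 hdeg hval
  refine ⟨K₁, hn1, ?_, hcomm⟩
  have ho : orderOf (⟨z, hzK⟩ : K₁) = 2 := by rw [Subgroup.orderOf_mk, hoz]
  have hd := orderOf_dvd_natCard (⟨z, hzK⟩ : K₁)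
  rw [ho] at hd
  exact even_iff_two_dvd.mpr hd

end Cfsg.Agent.S0845
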