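import Cfsg.Statements.S0846
import Cfsg.Agent.Lib.Helper3.BrauerSuzuki3

set_option autoImplicit false
open Cfsg

namespace Cfsg.Agent.S0846

/-- Suppose a Sylow 2-subgroup S of the finite group G is generalized quaternion of order at least 16. Then every Sylow 2-subgroup of the subgroup generated by the involutions of G is cyclic. -/
theorem result {G : Type*} [Group G] [Finite G] (S : Sylow 2 G) (n : ℕ) (e : (S : Subgroup G) ≃* QuaternionGroup (2 ^ (n + 2))) (Q : Sylow 2 ↥(Subgroup.closure {g : G | orderOf g = 2})) : IsCyclic Q := by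
  obtain ⟨α, z, M, hMn, h, _, _, _, hLM, hSM⟩ :=
    Cfsg.Agent.Lib.Helper3.bs_involution_subgroup S n e
  haveI := hMn
  exact Cfsg.Agent.Lib.Helper3.isCyclic_sylow_of_inter_le S α M hSM _ hLM Q

end Cfsg.Agent.S0846
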