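import Cfsg.Statements.S0849
import Mathlib

set_option autoImplicit false
open Cfsg

namespace Cfsg.Agent.S0849

theorem isConj_conj_iff {G : Type*} [Group G] (w a x : G) :
    IsConj w (x⁻¹ * a * x) ↔ IsConj w a := by
  constructor
  · intro h
    exact h.trans (isConj_iff.mpr ⟨x, by group⟩)
  · intro h
    exact h.trans (isConj_iff.mpr ⟨x⁻¹, by group⟩)

theorem sq_eq_one_of_isConj {G : Type*} [Group G] (u a : G) (hu : orderOf u = 2) (h : IsConj u a) :
    a * a = 1 := by
  obtain ⟨c, rfl⟩ := isConj_iff.mp h
  have hu2 : u * u = 1 := by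
    have := pow_orderOf_eq_one u
    rw [hu, pow_two] at this
    exact this
  calc c * u * c⁻¹ * (c * u * c⁻¹) = c * (u * u) * c⁻¹ := by group
    _ = 1 := by rw [hu2]; group

/-- Let H be a subgroup of a finite group G and S a subset of H that is mapped to itself under conjugation by H, is disjoint from its conjugate by any element outside H, and is closed under inverses. Let φ be a class function of H vanishing on H away from S, and let u, v be involutions of G. Then the sum of the induced function of φ over all products a * b with a conjugate to u and b conjugate to v equals the index of H times the sum of φ (a * b) over such pairs with a and b in H. -/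
theorem result {G : Type*} [Group G] [Fintype G] (H : Subgroup G) (S : Set G) (hSH : S ⊆ H) (hHS : ∀ h ∈ H, ∀ s ∈ S, h * s * h⁻¹ ∈ S) (hTI : ∀ g : G, g ∉ H → ∀ s ∈ S, g * s * g⁻¹ ∉ S) (hinv : ∀ s ∈ S, s⁻¹ ∈ S) (φ : H → ℂ) (hφ : Cfsg.IsClassFunction H φ) (hφS : ∀ x : H, (x : G) ∉ S → φ x = 0) (u v : G) (hu : orderOf u = 2) (hv : orderOf v = 2) : ∑ᶠ p ∈ {p : G × G | IsConj u p.1 ∧ IsConj v p.2}, Cfsg.indFun H φ (p.1 * p.2) = (H.index : ℂ) * ∑ᶠ p ∈ {p : H × H | IsConj u (p.1 : G) ∧ IsConj v (p.2 : G)}, φ (p.1 * p.2) := by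
  classical
  have : Fintype H := Fintype.ofFinite H
  set C : Set (G × G) := {p | IsConj u p.1 ∧ IsConj v p.2} with hC
  set CH : Set (H × H) := {p | IsConj u (p.1 : G) ∧ IsConj v (p.2 : G)} with hCH
  rw [finsum_mem_def, finsum_mem_def, finsum_eq_sum_of_fintype, finsum_eq_sum_of_fintype]
  set ext := extendByZero H φ with hext
  set F : G × G → ℂ := C.indicator (fun p => ext (p.1 * p.2)) with hF
  -- conjugation equivalence
  let e : G → (G × G ≃ G × G) := fun x =>
    { toFun := fun p => (x⁻¹ * p.1 * x, x⁻¹ * p.2 * x)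
      invFun := fun p => (x * p.1 * x⁻¹, x * p.2 * x⁻¹)
      left_inv := fun p => by ext <;> simp [mul_assoc]
      right_inv := fun p => by ext <;> simp [mul_assoc] }
  have claim1 : ∀ x : G,
      ∑ p : G × G, C.indicator (fun p => ext (x⁻¹ * (p.1 * p.2) * x)) p = ∑ p : G × G, F p := by
    intro x
    rw [← Equiv.sum_comp (e x) F]
    apply Finset.sum_congr rfl
    intro p _
    have hmem : (e x p ∈ C) ↔ p ∈ C := by
      simp only [hC, Set.mem_ofPred_eq, e, Equiv.coe_fn_mk, isConj_conj_iff]
    have hprod : (e x p).1 * (e x p).2 = x⁻¹ * (p.1 * p.2) * x := by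
      simp only [e, Equiv.coe_fn_mk]; group
    simp only [hF, Set.indicator_apply, hmem, hprod]
  -- left-hand side
  have hL : ∑ p : G × G, C.indicator (fun p => indFun H φ (p.1 * p.2)) p
      = (Nat.card H : ℂ)⁻¹ * ((Nat.card G : ℂ) * ∑ p : G × G, F p) := by
    have h1 : ∀ p : G × G, C.indicator (fun p => indFun H φ (p.1 * p.2)) p
        = (Nat.card H : ℂ)⁻¹ * ∑ x : G, C.indicator (fun p => ext (x⁻¹ * (p.1 * p.2) * x)) p := by
      intro p
      simp only [Set.indicator_apply, indFun]
      split_ifs
      · rfl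
      · simp
    simp_rw [h1]
    rw [← Finset.mul_sum, Finset.sum_comm]
    simp_rw [claim1]
    rw [Finset.sum_const, Finset.card_univ, nsmul_eq_mul, ← Nat.card_eq_fintype_card]
  rw [hL]
  -- the sum over G × G reduces to H × H
  have hT : ∑ p : H × H, CH.indicator (fun p => φ (p.1 * p.2)) p = ∑ p : G × G, F p := by
    apply Fintype.sum_of_injective (Prod.map Subtype.val Subtype.val)
      (Function.Injective.prodMap Subtype.val_injective Subtype.val_injective)
    · intro p hp
      simp only [hF, Set.indicator_apply]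
      split_ifs with hpC
      · by_cases hH : p.1 * p.2 ∈ H
        · by_cases hS : p.1 * p.2 ∈ S
          · exfalso
            apply hp
            have h1 : p.1 * p.1 = 1 := sq_eq_one_of_isConj u p.1 hu hpC.1
            have h2 : p.2 * p.2 = 1 := sq_eq_one_of_isConj v p.2 hv hpC.2
            have h1' : p.1⁻¹ = p.1 := inv_eq_of_mul_eq_one_left h1
            have h2' : p.2⁻¹ = p.2 := inv_eq_of_mul_eq_one_left h2
            have hp1 : p.1 ∈ H := by
              by_contra hcon
              apply hTI p.1 hcon (p.1 * p.2) hS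
              have : p.1 * (p.1 * p.2) * p.1⁻¹ = (p.1 * p.2)⁻¹ := by
                calc p.1 * (p.1 * p.2) * p.1⁻¹ = (p.1 * p.1) * p.2 * p.1⁻¹ := by group
                  _ = p.2 * p.1 := by rw [h1, one_mul, h1']
                  _ = (p.1 * p.2)⁻¹ := by rw [mul_inv_rev, h1', h2']
              rw [this]
              exact hinv _ hS
            have hp2 : p.2 ∈ H := by
              have : p.2 = p.1⁻¹ * (p.1 * p.2) := by group
              rw [this]
              exact H.mul_mem (H.inv_mem hp1) hH
            exact ⟨(⟨p.1, hp1⟩, ⟨p.2, hp2⟩), rfl⟩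
          · have : ext (p.1 * p.2) = φ ⟨p.1 * p.2, hH⟩ := by
              rw [hext, extendByZero]
              exact Subtype.val_injective.extend_apply φ 0 ⟨p.1 * p.2, hH⟩
            rw [this]
            exact hφS _ hS
        · rw [hext, extendByZero, Function.extend_apply']
          · rfl
          · rintro ⟨a, ha⟩
            exact hH (ha ▸ a.2)
      · rfl
    · intro p
      have hmem : (Prod.map Subtype.val Subtype.val p ∈ C) ↔ p ∈ CH := by
        simp only [hC, hCH, Set.mem_ofPred_eq, Prod.map_fst, Prod.map_snd]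
      simp only [hF, Set.indicator_apply, hmem]
      split_ifs
      · have : ext ((Prod.map Subtype.val Subtype.val p).1 * (Prod.map Subtype.val Subtype.val p).2)
            = φ (p.1 * p.2) := by
          rw [hext, extendByZero]
          exact Subtype.val_injective.extend_apply φ 0 (p.1 * p.2)
        rw [this]
      · rfl
  rw [hT]
  have hidx : (H.index : ℂ) = (Nat.card H : ℂ)⁻¹ * (Nat.card G : ℂ) := by
    have hne : (Nat.card H : ℂ) ≠ 0 := by
      exact_mod_cast (Nat.card_pos (α := H)).ne'
    have := H.index_mul_card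
    rw [eq_comm, inv_mul_eq_iff_eq_mul₀ hne, ← this]
    push_cast
    ring
  rw [hidx, mul_assoc]

end Cfsg.Agent.S0849
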