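import Cfsg.Statements.S0856
import Cfsg.Agent.Lib.Helper15.IndMul
import Cfsg.Agent.Lib.Helper15.IrrCrit
import Cfsg.Agent.Lib.Helper3.Induced
import Cfsg.Agent.Lib.Helper3.CharOps
import Cfsg.Agent.Lib.Helper80.IrrApi

set_option autoImplicit false
open Cfsg
open scoped ComplexConjugate

namespace Cfsg.Agent.S0856

open Cfsg.Agent.Lib.Helper3 Cfsg.Agent.Lib.Helper15

theorem classInner_self_ne_zero {G : Type*} [Group G] [Fintype G] {f : G → ℂ} (h : f 1 ≠ 0) :
    classInner f f ≠ 0 := by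
  unfold classInner
  have h1 : ∑ g : G, f g * conj (f g) = ((∑ g : G, Complex.normSq (f g) : ℝ) : ℂ) := by
    push_cast
    exact Finset.sum_congr rfl (fun g _ => Complex.mul_conj (f g))
  rw [h1]
  apply mul_ne_zero
  · apply inv_ne_zero
    exact_mod_cast Nat.card_pos.ne'
  · have h2 : 0 < ∑ g : G, Complex.normSq (f g) := by
      apply Finset.sum_pos'
      · intro g _
        exact Complex.normSq_nonneg _
      · exact ⟨1, Finset.mem_univ _, Complex.normSq_pos.2 h⟩
    exact_mod_cast h2.ne'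

/-- Let N be a normal subgroup of the finite group G and φ, ϑ irreducible characters of N that are invariant under conjugation by G, such that the pointwise product φ * ϑ is irreducible and ϑ is the restriction of an irreducible character χ of G. Then multiplication by χ is a bijection from the set of irreducible characters of G having nonzero inner product with the function induced from φ onto the set of those having nonzero inner product with the function induced from φ * ϑ. -/
theorem result {G : Type*} [Group G] [Fintype G] (N : Subgroup G) [hN : N.Normal] (φ ϑ : N → ℂ) (hφ : Cfsg.IsIrrCharacter N φ) (hϑ : Cfsg.IsIrrCharacter N ϑ) (hφinv : ∀ (g : G) (n : N), φ ⟨g * n * g⁻¹, hN.conj_mem (n : G) n.2 g⟩ = φ n) (hϑinv : ∀ (g : G) (n : N), ϑ ⟨g * n * g⁻¹, hN.conj_mem (n : G) n.2 g⟩ = ϑ n) (hprod : Cfsg.IsIrrCharacter N (φ * ϑ)) (χ : G → ℂ) (hχ : Cfsg.IsIrrCharacter G χ) (hext : ∀ n : N, χ n = ϑ n) : Set.BijOn (fun β : G → ℂ => β * χ) {β : G → ℂ | Cfsg.IsIrrCharacter G β ∧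 Cfsg.classInner (Cfsg.indFun N φ) β ≠ 0} {ψ : G → ℂ | Cfsg.IsIrrCharacter G ψ ∧ Cfsg.classInner (Cfsg.indFun N (φ * ϑ)) ψ ≠ 0} := by
  classical
  have : Fintype N := Fintype.ofFinite N
  have : Fintype (IrrCharacter G) := Fintype.ofFinite _
  have hχc : IsCharacter G χ := IsIrrCharacter.isCharacter hχ
  have hχcf : IsClassFunction G χ := IsCharacter.isClassFunction hχc
  -- the induced of the product
  have h1 : indFun N (φ * ϑ) = indFun N φ * χ := by
    rw [← indFun_mul_restrict N φ hχcf]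
    congr 1
    funext n
    rw [Pi.mul_apply, hext]
  -- decomposition of Ind φ
  obtain ⟨e, he, hdec⟩ := exists_nat_decomp (isCharacter_indFun N (IsIrrCharacter.isCharacter hφ))
  have h2 : indFun N (φ * ϑ) = ∑ β : IrrCharacter G, (e β : ℂ) • ((β : G → ℂ) * χ) := by
    rw [h1]
    conv_lhs => rw [hdec]
    rw [Finset.sum_mul]
    refine Finset.sum_congr rfl (fun β _ => ?_)
    rw [smul_mul_assoc]
  -- the Gram matrix of the products
  have hmulchar : ∀ β : IrrCharacter G, IsCharacter G ((β : G → ℂ) * χ) :=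
    fun β => IsCharacter.mul (IsIrrCharacter.isCharacter β.2) hχc
  have hcex : ∀ β β' : IrrCharacter G, ∃ m : ℕ,
      classInner ((β : G → ℂ) * χ) ((β' : G → ℂ) * χ) = (m : ℂ) :=
    fun β β' => exists_nat_classInner (hmulchar β) (hmulchar β')
  choose c hc using hcex
  have hc1 : ∀ β : IrrCharacter G, 1 ≤ c β β := by
    intro β
    rw [Nat.one_le_iff_ne_zero]
    intro h0
    have h3 := hc β β
    rw [h0, Nat.cast_zero] at h3
    refine classInner_self_ne_zero ?_ h3
    rw [Pi.mul_apply]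
    exact mul_ne_zero (Cfsg.Agent.Lib.Helper80.irr_one_ne_zero β)
      (Cfsg.Agent.Lib.Helper80.irr_one_ne_zero ⟨χ, hχ⟩)
  -- the two norms
  have hnormφ : classInner (indFun N φ) (indFun N φ) = (N.index : ℂ) := by
    rw [classInner_indFun_self_of_invariant N φ hφinv, classInner_irr hφ hφ, if_pos rfl, mul_one]
  have hprodinv : ∀ (g : G) (n : N),
      (φ * ϑ) ⟨g * n * g⁻¹, hN.conj_mem (n : G) n.2 g⟩ = (φ * ϑ) n := by
    intro g n
    rw [Pi.mul_apply, Pi.mul_apply, hφinv, hϑinv]
  have hnormprod : classInner (indFun N (φ * ϑ)) (indFun N (φ * ϑ)) = (N.index : ℂ) := by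
    rw [classInner_indFun_self_of_invariant N (φ * ϑ) hprodinv, classInner_irr hprod hprod,
      if_pos rfl, mul_one]
  have hsum1 : ((∑ β : IrrCharacter G, e β ^ 2 : ℕ) : ℂ) = (N.index : ℂ) := by
    rw [← hnormφ]
    conv_rhs => rw [hdec]
    rw [classInner_sum_sum]
    push_cast
    refine Finset.sum_congr rfl (fun β _ => ?_)
    rw [Complex.conj_natCast, sq]
  have hsum2 : ((∑ β : IrrCharacter G, ∑ β' : IrrCharacter G, e β * e β' * c β β' : ℕ) : ℂ)
      = (N.index : ℂ) := by
    rw [← hnormprod]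
    conv_rhs => rw [h2]
    rw [classInner_sum_left]
    push_cast
    refine Finset.sum_congr rfl (fun β _ => ?_)
    rw [classInner_smul_left, classInner_sum_right, Finset.mul_sum]
    refine Finset.sum_congr rfl (fun β' _ => ?_)
    rw [classInner_smul_right, hc, Complex.conj_natCast]
    ring
  have hsumeq : ∑ p : IrrCharacter G × IrrCharacter G, (if p.1 = p.2 then e p.1 ^ 2 else 0)
      = ∑ p : IrrCharacter G × IrrCharacter G, e p.1 * e p.2 * c p.1 p.2 := by
    rw [Fintype.sum_prod_type, Fintype.sum_prod_type]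
    have h3 : ∀ β : IrrCharacter G, ∑ β' : IrrCharacter G, (if β = β' then e β ^ 2 else 0)
        = e β ^ 2 := by
      intro β
      rw [Finset.sum_ite_eq]
      simp
    simp only [h3]
    have := hsum1.trans hsum2.symm
    exact_mod_cast this
  have hle : ∀ p ∈ (Finset.univ : Finset (IrrCharacter G × IrrCharacter G)),
      (if p.1 = p.2 then e p.1 ^ 2 else 0) ≤ e p.1 * e p.2 * c p.1 p.2 := by
    intro p _
    split_ifs with hp
    · rw [← hp, sq]
      exact Nat.le_mul_of_pos_right _ (hc1 p.1)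
    · exact Nat.zero_le _
  have hpt := (Finset.sum_eq_sum_iff_of_le hle).1 hsumeq
  have hP1 : ∀ β : IrrCharacter G, e β ≠ 0 → c β β = 1 := by
    intro β hβ
    have := hpt (β, β) (Finset.mem_univ _)
    simp only [if_true] at this
    have h3 : e β ^ 2 * 1 = e β ^ 2 * c β β := by
      rw [mul_one]
      conv_lhs => rw [this]
      rw [sq]
    exact (Nat.eq_of_mul_eq_mul_left (pow_pos (Nat.pos_of_ne_zero hβ) 2) h3).symm
  have hP2 : ∀ β β' : IrrCharacter G, β ≠ β' → e β ≠ 0 → e β' ≠ 0 → c β β' = 0 := by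
    intro β β' hne hβ hβ'
    have := hpt (β, β') (Finset.mem_univ _)
    simp only [if_neg hne] at this
    rcases Nat.mul_eq_zero.1 this.symm with h3 | h3
    · rcases Nat.mul_eq_zero.1 h3 with h4 | h4
      · exact absurd h4 hβ
      · exact absurd h4 hβ'
    · exact h3
  have hirr : ∀ β : IrrCharacter G, e β ≠ 0 → IsIrrCharacter G ((β : G → ℂ) * χ) := by
    intro β hβ
    apply isIrrCharacter_of_norm_one (hmulchar β)
    rw [hc, hP1 β hβ, Nat.cast_one]
  have hmult : ∀ β : IrrCharacter G, e β ≠ 0 →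
      classInner (indFun N (φ * ϑ)) ((β : G → ℂ) * χ) = (e β : ℂ) := by
    intro β hβ
    rw [h2, classInner_sum_left, Finset.sum_eq_single β]
    · rw [classInner_smul_left, hc, hP1 β hβ, Nat.cast_one, mul_one]
    · intro β' _ hne
      rw [classInner_smul_left, hc]
      by_cases hβ' : e β' = 0
      · rw [hβ', Nat.cast_zero, zero_mul]
      · rw [hP2 β' β hne hβ' hβ, Nat.cast_zero, mul_zero]
    · intro h
      exact absurd (Finset.mem_univ _) h
  have he' : ∀ (β : G → ℂ) (hβ : IsIrrCharacter G β), classInner (indFun N φ) β ≠ 0 →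
      e ⟨β, hβ⟩ ≠ 0 := by
    intro β hβ hne h0
    apply hne
    have := he ⟨β, hβ⟩
    rw [h0, Nat.cast_zero] at this
    exact this
  refine ⟨?_, ?_, ?_⟩
  · -- MapsTo
    rintro β ⟨hβ, hne⟩
    have h3 := he' β hβ hne
    refine ⟨hirr ⟨β, hβ⟩ h3, ?_⟩
    show classInner (indFun N (φ * ϑ)) (β * χ) ≠ 0
    rw [hmult ⟨β, hβ⟩ h3]
    exact_mod_cast h3
  · -- InjOn
    rintro β ⟨hβ, hne⟩ β' ⟨hβ', hne'⟩ heq
    by_contra hbb
    have h3 := he' β hβ hne
    have h3' := he' β' hβ' hne'
    have hne2 : (⟨β, hβ⟩ : IrrCharacter G) ≠ ⟨β', hβ'⟩ := fun h => hbb (congrArg Subtype.val h)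
    have h4 := hc ⟨β, hβ⟩ ⟨β', hβ'⟩
    have h5 := hc ⟨β, hβ⟩ ⟨β, hβ⟩
    rw [hP2 _ _ hne2 h3 h3'] at h4
    rw [hP1 _ h3] at h5
    have heq' : β * χ = β' * χ := heq
    simp only at h4 h5
    rw [← heq', h5] at h4
    simp at h4
  · -- SurjOn
    rintro ψ ⟨hψ, hne⟩
    rw [h2, classInner_sum_left] at hne
    obtain ⟨β, _, hβne⟩ := Finset.exists_ne_zero_of_sum_ne_zero hne
    rw [classInner_smul_left] at hβne
    have h3 : e β ≠ 0 := by
      intro h0
      apply hβne
      rw [h0, Nat.cast_zero, zero_mul]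
    have h4 : classInner ((β : G → ℂ) * χ) ψ ≠ 0 := by
      intro h0
      apply hβne
      rw [h0, mul_zero]
    rw [classInner_irr (hirr β h3) hψ] at h4
    have h5 : (β : G → ℂ) * χ = ψ := by
      by_contra h
      rw [if_neg h] at h4
      exact h4 rfl
    refine ⟨β, ⟨β.2, ?_⟩, h5⟩
    rw [he β]
    exact_mod_cast h3

end Cfsg.Agent.S0856
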