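import Cfsg.Statements.S0864
import Cfsg.Agent.Lib.Helper15.TransferLin

set_option autoImplicit false
open Cfsg

namespace Cfsg.Agent.S0864

open Cfsg.Agent.Lib.Helper15 MonoidHom Subgroup

variable {G : Type*} [Group G]

/-- Transfer from `H ≥ N` (`N` normal in `G`) of a hom whose restriction to `N` is `G`-invariant. -/
theorem transfer_eq_pow_of_invariant' {N H : Subgroup G} [hN : N.Normal] [H.FiniteIndex]
    (hNH : N ≤ H) {A : Type*} [CommGroup A] (ν : H →* A)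
    (hinv : ∀ (g : G) (n : N), ν ⟨g * n * g⁻¹, hNH (hN.conj_mem (n : G) n.2 g)⟩ = ν ⟨n, hNH n.2⟩)
    (n : N) :
    transfer ν (n : G) = ν ⟨n, hNH n.2⟩ ^ H.index := by
  classical
  have : Fintype (Quotient (MulAction.orbitRel (zpowers (n : G)) (G ⧸ H))) := Fintype.ofFinite _
  rw [transfer_eq_prod_quotient_orbitRel_zpowers_quot]
  have key : ∀ (x : G) (k : ℕ) (hx : x⁻¹ * (n : G) ^ k * x ∈ H),
      ν ⟨x⁻¹ * (n : G) ^ k * x, hx⟩ = ν ⟨n, hNH n.2⟩ ^ k := by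
    intro x k hx
    have h1 := hinv x⁻¹ (n ^ k)
    have h2 : ν ⟨((n ^ k : N) : G), hNH (n ^ k).2⟩ = ν ⟨n, hNH n.2⟩ ^ k := by
      rw [← map_pow]
      congr 1
    rw [← h2, ← h1]
    congr 1
    apply Subtype.ext
    simp
  simp_rw [key]
  rw [Finset.prod_pow_eq_pow_sum, ← index_eq_sum_minimalPeriod]

theorem result {G : Type*} [Group G] [Finite G] (N : Subgroup G) [hN : N.Normal] (lam : N → ℂ) (hlam : Cfsg.IsCharacter N lam ∧ lam 1 = 1) (hinv : ∀ (g : G) (n : N), lam ⟨g * n * g⁻¹, hN.conj_mem (n : G) n.2 g⟩ = lam n) (hsyl : ∀ p : ℕ, p.Prime → p ∣ orderOf lam → ∃ (H : Subgroup G) (hNH : N ≤ H) (ν : H → ℂ), Nat.Coprime H.index p ∧ (∃ k : ℕ, N.relIndex H = p ^ k) ∧ Cfsg.IsCharacter H ν ∧ ν 1 = 1 ∧ ∀ n : N, ν ⟨(n : G), hNH n.2⟩ = lam n) : ∃ μ : G → ℂ, Cfsg.IsCharacter G μ ∧ μ 1 = 1 ∧ ∀ n : N, μ n = lam n := by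
  classical
  set o := orderOf lam with ho
  let φ : N →* ℂˣ := linCharUnitsHom hlam
  have hφ : ∀ n : N, ((φ n : ℂˣ) : ℂ) = lam n := fun n => rfl
  have hlamo : ∀ n : N, lam n ^ o = 1 := by
    intro n
    have := congrFun (pow_orderOf_eq_one lam) n
    simpa using this
  have hφo : ∀ n : N, φ n ^ o = 1 := by
    intro n
    apply Units.ext
    rw [Units.val_pow_eq_pow_val, hφ, hlamo, Units.val_one]
  -- the subgroup of exponents `k` such that `φ ^ k` extends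
  let I : AddSubgroup ℤ :=
    { carrier := {k | ∃ μ : G →* ℂˣ, ∀ n : N, μ (n : G) = φ n ^ k}
      zero_mem' := ⟨1, fun n => by simp⟩
      add_mem' := by
        rintro k l ⟨μ, hμ⟩ ⟨μ', hμ'⟩
        exact ⟨μ * μ', fun n => by rw [MonoidHom.mul_apply, hμ, hμ', zpow_add]⟩
      neg_mem' := by
        rintro k ⟨μ, hμ⟩
        exact ⟨μ⁻¹, fun n => by rw [MonoidHom.inv_apply, hμ, zpow_neg]⟩ }
  have hoI : (o : ℤ) ∈ I := ⟨1, fun n => by rw [zpow_natCast, hφo]; rfl⟩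
  have hpI : ∀ p : ℕ, p.Prime → p ∣ o → ∃ m : ℕ, Nat.Coprime m p ∧ (m : ℤ) ∈ I := by
    intro p hp hpo
    obtain ⟨H, hNH, ν, hcop, -, hν, hν1, hνN⟩ := hsyl p hp hpo
    refine ⟨H.index, hcop, ?_⟩
    let νu : H →* ℂˣ := linCharUnitsHom ⟨hν, hν1⟩
    have hνu : ∀ h : H, ((νu h : ℂˣ) : ℂ) = ν h := fun h => rfl
    have hνuN : ∀ n : N, νu ⟨n, hNH n.2⟩ = φ n := by
      intro n
      apply Units.ext
      rw [hνu, hφ, hνN]
    refine ⟨transfer νu, fun n => ?_⟩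
    rw [transfer_eq_pow_of_invariant' hNH νu ?_ n, hνuN, zpow_natCast]
    intro g n
    have := hνuN ⟨g * n * g⁻¹, hN.conj_mem (n : G) n.2 g⟩
    simp only at this
    rw [this, hνuN]
    apply Units.ext
    rw [hφ, hφ, hinv]
  obtain ⟨d, hd⟩ := Int.subgroup_cyclic I
  have hdvd : ∀ k ∈ I, d ∣ k := by
    intro k hk
    rw [hd, AddSubgroup.mem_closure_singleton] at hk
    obtain ⟨n, hn⟩ := hk
    exact ⟨n, by rw [← hn]; simp [mul_comm]⟩
  have hd1 : d.natAbs = 1 := by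
    by_contra hne
    obtain ⟨q, hq, hqd⟩ := Nat.exists_prime_and_dvd hne
    have hqd' : (q : ℤ) ∣ d := Int.natCast_dvd.mpr hqd
    have hqo : q ∣ o := Int.natCast_dvd_natCast.mp (hqd'.trans (hdvd _ hoI))
    obtain ⟨m, hcop, hm⟩ := hpI q hq hqo
    have hqm : q ∣ m := Int.natCast_dvd_natCast.mp (hqd'.trans (hdvd _ hm))
    have : q ∣ Nat.gcd m q := Nat.dvd_gcd hqm dvd_rfl
    rw [hcop] at this
    exact hq.one_lt.ne' (Nat.dvd_one.mp this)
  have hdI : d ∈ I := by rw [hd]; exact AddSubgroup.mem_closure_singleton_self d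
  have h1I : (1 : ℤ) ∈ I := by
    rcases Int.natAbs_eq d with h' | h'
    · rw [h', hd1] at hdI; exact hdI
    · have := I.neg_mem hdI
      rw [h', hd1] at this; simpa using this
  obtain ⟨μ, hμ⟩ := h1I
  let ψ : G →* ℂ := (Units.coeHom ℂ).comp μ
  have hψ := isCharacter_of_hom ψ
  refine ⟨fun g => ψ g, hψ.1, hψ.2, fun n => ?_⟩
  show ((μ (n : G) : ℂˣ) : ℂ) = lam n
  rw [hμ, zpow_one, hφ]

end Cfsg.Agent.S0864
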