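import Cfsg.Statements.S0868
import Cfsg.Agent.Lib.Helper15.Gallagher

set_option autoImplicit false
open Cfsg
open scoped ComplexConjugate

namespace Cfsg.Agent.S0868

open Cfsg.Agent.Lib.Helper15 in
/-- Let N be a normal subgroup of the finite group G, χ an irreducible character of G whose restriction ϑ to N is irreducible, and ψ an irreducible character of G. Define η on G by η g = (1 / order of N) * Σ over n in N of ψ (n * g) * conj (χ (n * g)). Then: if the restriction of ψ to N has nonzero inner product with ϑ, η is an irreducible character of G; if that inner product is zero, η vanishes identically; and if ψ = χ then η is identically 1. -/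
theorem result {G : Type*} [Group G] [Fintype G] (N : Subgroup G) [N.Normal] [Fintype N] (χ : G → ℂ) (hχ : Cfsg.IsIrrCharacter G χ) (hχN : Cfsg.IsIrrCharacter N (fun n : N => χ n)) (ψ : G → ℂ) (hψ : Cfsg.IsIrrCharacter G ψ) (η : G → ℂ) (hη : η = fun g => (Nat.card N : ℂ)⁻¹ * ∑ n : N, ψ ((n : G) * g) * conj (χ ((n : G) * g))) : (Cfsg.classInner (fun n : N => ψ n) (fun n : N => χ n) ≠ 0 → Cfsg.IsIrrCharacter G η) ∧ (Cfsg.classInner (fun n : N => ψ n) (fun n : N => χ n) = 0 → η = 0) ∧ (ψ = χ → η = fun _ => 1) := by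
  have hη' : η = cosetAvg N ψ χ := hη
  refine ⟨?_, ?_, ?_⟩
  · intro hne
    obtain ⟨φ, hφ, _, _, h⟩ := exists_mul_ext N hχ hχN hψ hne
    rw [hη', h]
    exact hφ
  · intro h0
    rcases cosetAvg_irr N hχ hχN hψ with ⟨φ, hφ, _, _, h⟩ | h
    · exfalso
      have h1 : cosetAvg N ψ χ 1 = 0 := by rw [cosetAvg_one, h0]
      rw [h] at h1
      obtain ⟨d, ρ, hρ, rfl⟩ := hφ
      have := hρ
      rw [Representation.char_one] at h1
      exact Cfsg.Agent.Lib.Helper80.finrank_ne_zero_of_irreducible ρ h1
    · rw [hη', h]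
  · intro heq
    rw [hη, heq]
    funext g
    rw [coset_sum_norm N hχ hχN g]
    exact inv_mul_cancel₀ (card_ne_zero_complex N)

end Cfsg.Agent.S0868
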