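import Cfsg.Statements.S0869
import Mathlib.GroupTheory.Archimedean
import Mathlib.Algebra.BigOperators.Pi
import Mathlib.Data.Nat.Prime.Int
import Mathlib.Data.Fintype.EquivFin

set_option autoImplicit false
open Cfsg

namespace Cfsg.Agent.S0869

theorem one_sub_prod_mem {S : Type*} (R : AddSubgroup (S → ℤ))
    (hmul : ∀ f ∈ R, ∀ g ∈ R, f * g ∈ R) {ι : Type*} (s : Finset ι) (F : ι → (S → ℤ))
    (hF : ∀ i ∈ s, F i ∈ R) : 1 - ∏ i ∈ s, (1 - F i) ∈ R := by
  classical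
  induction s using Finset.induction_on with
  | empty => simp
  | insert a s ha ih =>
    rw [Finset.prod_insert ha]
    have hQ : 1 - ∏ i ∈ s, (1 - F i) ∈ R := ih (fun i hi => hF i (Finset.mem_insert_of_mem hi))
    have hFa : F a ∈ R := hF a (Finset.mem_insert_self a s)
    have : 1 - (1 - F a) * ∏ i ∈ s, (1 - F i)
        = (1 - ∏ i ∈ s, (1 - F i)) + F a - F a * (1 - ∏ i ∈ s, (1 - F i)) := by ring
    rw [this]
    exact R.sub_mem (R.add_mem hQ hFa) (hmul _ hFa _ hQ)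

theorem exists_eval_one {S : Type*} (R : AddSubgroup (S → ℤ)) (x : S)
    (h : ∀ p : ℕ, p.Prime → ∃ f ∈ R, ¬ (p : ℤ) ∣ f x) : ∃ f ∈ R, f x = 1 := by
  obtain ⟨a, ha⟩ := Int.subgroup_cyclic (R.map (Pi.evalAddMonoidHom (fun _ : S => ℤ) x))
  have hmem : ∀ f ∈ R, a ∣ f x := by
    intro f hf
    have : f x ∈ R.map (Pi.evalAddMonoidHom (fun _ : S => ℤ) x) := ⟨f, hf, rfl⟩
    rw [ha, AddSubgroup.mem_closure_singleton] at this
    obtain ⟨n, hn⟩ := this
    exact ⟨n, by rw [← hn]; simp [mul_comm]⟩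
  have ha1 : a.natAbs = 1 := by
    by_contra hne
    obtain ⟨p, hp, hpa⟩ := Nat.exists_prime_and_dvd hne
    obtain ⟨f, hf, hpf⟩ := h p hp
    exact hpf ((Int.natCast_dvd.mpr hpa).trans (hmem f hf))
  have ha_mem : a ∈ R.map (Pi.evalAddMonoidHom (fun _ : S => ℤ) x) := by
    rw [ha]; exact AddSubgroup.mem_closure_singleton_self a
  obtain ⟨f, hf, hfa⟩ := ha_mem
  rcases Int.natAbs_eq a with h' | h'
  · exact ⟨f, hf, by rw [show f x = a from hfa, h', ha1]; rfl⟩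
  · refine ⟨-f, R.neg_mem hf, ?_⟩
    rw [Pi.neg_apply, show f x = a from hfa, h', ha1]; rfl

theorem result {S : Type*} [Finite S] [Nonempty S] (R : AddSubgroup (S → ℤ)) (hmul : ∀ f ∈ R, ∀ g ∈ R, f * g ∈ R) (h1 : (1 : S → ℤ) ∉ R) : ∃ (x : S) (p : ℕ), p.Prime ∧ ∀ f ∈ R, (p : ℤ) ∣ f x := by
  classical
  by_contra hcon
  push Not at hcon
  have key : ∀ x : S, ∃ f ∈ R, f x = 1 := fun x => exists_eval_one R x (hcon x)
  choose F hFR hF1 using key
  have := Fintype.ofFinite S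
  have hmem := one_sub_prod_mem R hmul (Finset.univ : Finset S) F (fun i _ => hFR i)
  have hzero : ∏ i ∈ (Finset.univ : Finset S), (1 - F i) = 0 := by
    funext x
    rw [Finset.prod_apply]
    apply Finset.prod_eq_zero (Finset.mem_univ x)
    simp [hF1 x]
  rw [hzero, sub_zero] at hmem
  exact h1 hmem

end Cfsg.Agent.S0869
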