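import Cfsg.Statements.S0875
import Cfsg.Agent.Lib.Helper81.AlgSpan

set_option autoImplicit false
open Cfsg

namespace Cfsg.Agent.S0875

/-- Let G be a finite group of order m * n with m and n coprime, and g an element whose order is coprime to m. Every x in G factors uniquely as x = u * v with u, v commuting, the order of u coprime to n and the order of v coprime to m; let ϑ be the function on G equal to n at those x whose factor v is conjugate to g and equal to 0 elsewhere. Then ϑ is a linear combination of the irreducible characters of G with algebraic-integer coefficients. -/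
theorem result {G : Type*} [Group G] [Fintype G] (m n : ℕ) (hmn : Nat.card G = m * n) (hcop : Nat.Coprime m n) (g : G) (hg : Nat.Coprime (orderOf g) m) (ϑ : G → ℂ) (hϑ1 : ∀ x : G, (∃ v : G, IsConj v g ∧ (∃ u : G, x = u * v ∧ Commute u v ∧ Nat.Coprime (orderOf u) n ∧ Nat.Coprime (orderOf v) m)) → ϑ x = n) (hϑ0 : ∀ x : G, (¬ ∃ v : G, IsConj v g ∧ (∃ u : G, x = u * v ∧ Commute u v ∧ Nat.Coprime (orderOf u) n ∧ Nat.Coprime (orderOf v) m)) → ϑ x = 0) : ∃ c : Cfsg.IrrCharacter G → ℂ, (∀ χ, c χ ∈ Cfsg.AlgInt) ∧ ϑ = ∑ᶠ χ : Cfsg.IrrCharacter G, c χ • (χ : G → ℂ) := by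
  classical
  have hcardpos : 0 < m * n := by
    rw [← hmn]
    exact Nat.card_pos
  obtain ⟨N, hN1, hN0⟩ : ∃ N : ℕ, (∃ j : ℕ, N = 1 + n * j) ∧ m ∣ N := by
    obtain ⟨k, hk1, hk0⟩ := Nat.chineseRemainder hcop.symm 1 0
    refine ⟨k + n * m, ?_, ?_⟩
    · have h1 : 1 ≤ k + n * m := by
        have : 0 < n * m := by rw [mul_comm]; exact hcardpos
        omega
      have h2 : 1 ≡ k + n * m [MOD n] := by
        have h3 : k + n * m ≡ k [MOD n] := by
          have : n * m ≡ 0 [MOD n] := (Nat.modEq_zero_iff_dvd).mpr (dvd_mul_right _ _)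
          simpa using Nat.ModEq.add_left k this
        exact (h3.trans hk1).symm
      obtain ⟨j, hj⟩ := (Nat.modEq_iff_dvd' h1).mp h2
      exact ⟨j, by omega⟩
    · have h1 : m ∣ k := (Nat.modEq_zero_iff_dvd).mp hk0
      exact Dvd.dvd.add h1 (dvd_mul_left _ _)
  have hpowG : ∀ x : G, x ^ (m * n) = 1 := by
    intro x
    rw [← hmn]
    exact pow_card_eq_one'
  have hchar : ∀ x : G, (∃ v : G, IsConj v g ∧ (∃ u : G, x = u * v ∧ Commute u v ∧
      Nat.Coprime (orderOf u) n ∧ Nat.Coprime (orderOf v) m)) ↔ IsConj (x ^ N) g := by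
    intro x
    constructor
    · rintro ⟨v, hvg, u, rfl, hcomm, hu, hv⟩
      have hou : orderOf u ∣ m := by
        have h1 : orderOf u ∣ m * n := orderOf_dvd_of_pow_eq_one (hpowG u)
        exact hu.dvd_of_dvd_mul_right h1
      have hov : orderOf v ∣ n := by
        have h1 : orderOf v ∣ m * n := orderOf_dvd_of_pow_eq_one (hpowG v)
        exact hv.dvd_of_dvd_mul_left h1
      have huN : u ^ N = 1 := orderOf_dvd_iff_pow_eq_one.mp (hou.trans hN0)
      have hvN : v ^ N = v := by
        obtain ⟨j, hj⟩ := hN1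
        have h1 : v ^ n = 1 := orderOf_dvd_iff_pow_eq_one.mp hov
        rw [hj, pow_add, pow_one, pow_mul, h1, one_pow, mul_one]
      rw [hcomm.mul_pow, huN, hvN, one_mul]
      exact hvg
    · intro h
      refine ⟨x ^ N, h, x * (x ^ N)⁻¹, ?_, ?_, ?_, ?_⟩
      · rw [inv_mul_cancel_right]
      · have h1 : Commute x (x ^ N) := (Commute.refl x).pow_right N
        exact h1.mul_left ((Commute.refl (x ^ N)).inv_left)
      · have h1 : (x * (x ^ N)⁻¹) ^ m = 1 := by
          have hc : Commute x (x ^ N)⁻¹ := ((Commute.refl x).pow_right N).inv_right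
          rw [hc.mul_pow, inv_pow, ← pow_mul]
          obtain ⟨j, hj⟩ := hN1
          have h2 : N * m = m + m * n * j := by rw [hj]; ring
          rw [h2, pow_add, pow_mul (x) (m * n), hpowG, one_pow, mul_one, mul_inv_cancel]
        exact Nat.Coprime.coprime_dvd_left (orderOf_dvd_of_pow_eq_one h1) hcop
      · have h1 : (x ^ N) ^ n = 1 := by
          obtain ⟨t, ht⟩ := hN0
          have h2 : N * n = m * n * t := by rw [ht]; ring
          rw [← pow_mul, h2, pow_mul, hpowG, one_pow]
        exact Nat.Coprime.coprime_dvd_left (orderOf_dvd_of_pow_eq_one h1) hcop.symm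
  have hϑ : ϑ = fun x => if IsConj (x ^ N) g then (n : ℂ) else 0 := by
    funext x
    split_ifs with h
    · exact hϑ1 x ((hchar x).2 h)
    · exact hϑ0 x (fun hh => h ((hchar x).1 hh))
  rw [hϑ]
  exact Cfsg.Agent.Lib.Helper81.exists_coeff_of_mem_algSpan
    (Cfsg.Agent.Lib.Helper81.section_indicator_mem_algSpan hmn hcop hN1 hN0 g)

end Cfsg.Agent.S0875
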