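import Cfsg.Statements.S0876
import Cfsg.Agent.Lib.Helper81.PSection

set_option autoImplicit false
open Cfsg

namespace Cfsg.Agent.S0876

/-- Let G be a finite group, p a prime and M a maximal ideal of the ring of algebraic integers containing p. Let x, y be elements with p-parts a and b (so a⁻¹ * x and b⁻¹ * y are their p-regular parts). Then a⁻¹ * x and b⁻¹ * y are conjugate in G if and only if, for every irreducible character χ, the difference χ x - χ y lies in the local ideal at M. -/
theorem result {G : Type*} [Group G] [Finite G] (p : ℕ) (M : Ideal Cfsg.AlgInt) (hM : Cfsg.IsPModular p M) (x y a b : G) (ha : Cfsg.IsPPart p x a) (hb : Cfsg.IsPPart p y b) : IsConj (a⁻¹ * x) (b⁻¹ * y) ↔ ∀ χ : Cfsg.IrrCharacter G, Cfsg.MemLocalIdeal M ((χ : G → ℂ) x - (χ : G → ℂ) y) := by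
  classical
  have hMp : M.IsPrime := Cfsg.Agent.Lib.Helper81.isPrime_of_isPModular hM
  have hp : p.Prime := hM.1
  obtain ⟨x', hx1, hx2, hx3, hx4⟩ := ha
  obtain ⟨y', hy1, hy2, hy3, hy4⟩ := hb
  have hx' : a⁻¹ * x = x' := by rw [← hx1]; group
  have hy' : b⁻¹ * y = y' := by rw [← hy1]; group
  rw [hx', hy']
  constructor
  · intro hconj χ
    have hχc : Cfsg.IsCharacter G χ.1 := Cfsg.Agent.Lib.Helper3.IsIrrCharacter.isCharacter χ.2
    have h1 := Cfsg.Agent.Lib.Helper81.memLocalIdeal_char_mul_sub hM hχc a x' hx2.eq hx3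
    have h2 := Cfsg.Agent.Lib.Helper81.memLocalIdeal_char_mul_sub hM hχc b y' hy2.eq hy3
    rw [hx1] at h1
    rw [hy1] at h2
    have h3 : χ.1 x' = χ.1 y' :=
      Cfsg.Agent.Lib.Helper3.IsClassFunction.eq_of_isConj
        (Cfsg.Agent.Lib.Helper3.IsCharacter.isClassFunction hχc) hconj
    have h4 : (χ : G → ℂ) x - (χ : G → ℂ) y =
        ((χ : G → ℂ) x - (χ : G → ℂ) x') - ((χ : G → ℂ) y - (χ : G → ℂ) y') := by
      rw [h3]
      ring
    rw [h4]
    exact Cfsg.Agent.Lib.Helper81.memLocalIdeal_sub hMp h1 h2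
  · intro h
    by_contra hnc
    have : Fintype G := Fintype.ofFinite G
    set v := (Nat.card G).factorization p with hv
    set m := p ^ v with hm
    set n := Nat.card G / m with hn
    have hmn : Nat.card G = m * n := (Nat.mul_div_cancel' (Nat.ordProj_dvd _ p)).symm
    have hpn : Nat.Coprime p n := Nat.coprime_ordCompl hp Nat.card_pos.ne'
    have hcop : Nat.Coprime m n := Nat.Coprime.pow_left _ hpn
    have hcardpos : 0 < m * n := by
      rw [← hmn]
      exact Nat.card_pos
    obtain ⟨N, hN1, hN0⟩ : ∃ N : ℕ, (∃ j : ℕ, N = 1 + n * j) ∧ m ∣ N := by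
      obtain ⟨k, hk1, hk0⟩ := Nat.chineseRemainder hcop.symm 1 0
      refine ⟨k + n * m, ?_, ?_⟩
      · have h1 : 1 ≤ k + n * m := by
          have : 0 < n * m := by rw [mul_comm]; exact hcardpos
          omega
        have h2 : 1 ≡ k + n * m [MOD n] := by
          have h3 : k + n * m ≡ k [MOD n] := by
            have : n * m ≡ 0 [MOD n] := (Nat.modEq_zero_iff_dvd).mpr (dvd_mul_right _ _)
            simpa using Nat.ModEq.add_left k this
          exact (h3.trans hk1).symm
        obtain ⟨j, hj⟩ := (Nat.modEq_iff_dvd' h1).mp h2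
        exact ⟨j, by omega⟩
      · have h1 : m ∣ k := (Nat.modEq_zero_iff_dvd).mp hk0
        exact Dvd.dvd.add h1 (dvd_mul_left _ _)
    have hpowG : ∀ z : G, z ^ (m * n) = 1 := by
      intro z
      rw [← hmn]
      exact pow_card_eq_one'
    -- the `N`-th power of an element is its `p`-regular part
    have hpart : ∀ (z c z' : G), c * z' = z → Commute c z' → (∃ k : ℕ, orderOf c = p ^ k) →
        ¬ p ∣ orderOf z' → z ^ N = z' := by
      intro z c z' hz1 hz2 hz3 hz4
      obtain ⟨k, hk⟩ := hz3
      have hc : c ^ N = 1 := by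
        have h1 : orderOf c ∣ m := by
          rw [hk, hm]
          apply pow_dvd_pow
          have h2 : p ^ k ∣ Nat.card G := by
            rw [← hk]
            exact orderOf_dvd_natCard c
          exact (hp.pow_dvd_iff_le_factorization Nat.card_pos.ne').1 h2
        exact orderOf_dvd_iff_pow_eq_one.mp (h1.trans hN0)
      have hz' : z' ^ N = z' := by
        have h1 : orderOf z' ∣ n := by
          have h2 : orderOf z' ∣ m * n := orderOf_dvd_of_pow_eq_one (hpowG z')
          have h3 : Nat.Coprime (orderOf z') m :=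
            Nat.Coprime.pow_right _ ((Nat.Prime.coprime_iff_not_dvd hp).2 hz4).symm
          exact h3.dvd_of_dvd_mul_left h2
        obtain ⟨j, hj⟩ := hN1
        have h2 : z' ^ n = 1 := orderOf_dvd_iff_pow_eq_one.mp h1
        rw [hj, pow_add, pow_one, pow_mul, h2, one_pow, mul_one]
      rw [← hz1, hz2.mul_pow, hc, hz', one_mul]
    have hxN : x ^ N = x' := hpart x a x' hx1 hx2 hx3 hx4
    have hyN : y ^ N = y' := hpart y b y' hy1 hy2 hy3 hy4
    have hf := Cfsg.Agent.Lib.Helper81.section_indicator_mem_algSpan hmn hcop hN1 hN0 x'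
    have hdiff := Cfsg.Agent.Lib.Helper81.memLocalIdeal_sub_of_mem_algSpan hMp h hf
    simp only [hxN, hyN] at hdiff
    rw [if_pos (IsConj.refl x'), if_neg (fun hh => hnc hh.symm), sub_zero] at hdiff
    have h5 := (Cfsg.Agent.Lib.Helper81.memLocalIdeal_natCast_iff hM n).1 hdiff
    exact (Nat.Prime.coprime_iff_not_dvd hp).1 hpn h5

end Cfsg.Agent.S0876
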