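import Cfsg.Statements.S0877
import Cfsg.Agent.Lib.Helper81.HallCompl

set_option autoImplicit false
open Cfsg

namespace Cfsg.Agent.S0877

/-- Let H be a subgroup of the finite group G whose order is coprime to its index. Suppose that elements of H conjugate in G are conjugate in H, and that every subgroup E of G that is elementary for some prime (in the sense used for Brauer's characterisation of characters) and whose order divides the order of H is conjugate to a subgroup of H. Then there is a normal subgroup K with K ⊔ H = ⊤ and K ⊓ H trivial. -/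
theorem result {G : Type*} [Group G] [Finite G] (H : Subgroup G) (hHall : Nat.Coprime (Nat.card H) H.index) (hfus : ∀ x ∈ H, ∀ y ∈ H, IsConj x y → ∃ h ∈ H, h * x * h⁻¹ = y) (helem : ∀ (E : Subgroup G) (p : ℕ), p.Prime → Cfsg.IsElementary p E → Nat.card E ∣ Nat.card H → ∃ g : G, E.map (MulAut.conj g).toMonoidHom ≤ H) : ∃ K : Subgroup G, K.Normal ∧ K ⊔ H = ⊤ ∧ K ⊓ H = ⊥ := by
  classical
  have : Fintype G := Fintype.ofFinite G
  have : Fintype H := Fintype.ofFinite H
  obtain ⟨N, hN1, hN0⟩ : ∃ N : ℕ, (∃ j : ℕ, N = 1 + Nat.card H * j) ∧ H.index ∣ N := by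
    obtain ⟨k, hk1, hk0⟩ := Nat.chineseRemainder hHall 1 0
    have hpos : 0 < Nat.card H * H.index := by
      rw [H.card_mul_index]
      exact Nat.card_pos
    refine ⟨k + Nat.card H * H.index, ?_, ?_⟩
    · have h1 : 1 ≤ k + Nat.card H * H.index := by omega
      have h2 : 1 ≡ k + Nat.card H * H.index [MOD Nat.card H] := by
        have h3 : k + Nat.card H * H.index ≡ k [MOD Nat.card H] := by
          have : Nat.card H * H.index ≡ 0 [MOD Nat.card H] :=
            (Nat.modEq_zero_iff_dvd).mpr (dvd_mul_right _ _)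
          simpa using Nat.ModEq.add_left k this
        exact (h3.trans hk1).symm
      obtain ⟨j, hj⟩ := (Nat.modEq_iff_dvd' h1).mp h2
      exact ⟨j, by omega⟩
    · have h1 : H.index ∣ k := (Nat.modEq_zero_iff_dvd).mp hk0
      exact Dvd.dvd.add h1 (dvd_mul_left _ _)
  have hyp : Cfsg.Agent.Lib.Helper81.BSHyp H N :=
    ⟨hHall, hfus, fun E p hp hE hc => by
      obtain ⟨g, hg⟩ := helem E p hp hE hc
      exact ⟨g, fun e he => hg ⟨e, he, rfl⟩⟩, hN1, hN0⟩
  exact hyp.exists_normal_complement

end Cfsg.Agent.S0877
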