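import Cfsg.Statements.S0882
import Cfsg.Agent.Lib.Helper3.ZassCount

set_option autoImplicit false
open Cfsg

namespace Cfsg.Agent.S0882

/-- Let G be a finite simple Zassenhaus group on Ω with n = h + 1 points whose two-point stabilizer E has odd order e with 2e < h - 1. Then any two involutions of G are conjugate, and the number of involutions is e * (h + 1) if h is even and e * h if h is odd. -/
theorem result {G Ω : Type*} [Group G] [Finite G] [MulAction G Ω] [Fintype Ω] (hZ : Cfsg.IsZassenhausGroup G Ω) {a b : Ω} (hab : a ≠ b) [IsSimpleGroup G] (h e : ℕ) (hh : Fintype.card Ω = h + 1) (he : Nat.card ↥(MulAction.stabilizer G a ⊓ MulAction.stabilizer G b : Subgroup G) = e) (hodd : Odd e) (hlt : 2 * e < h - 1) : (∀ x y : G, orderOf x = 2 → orderOf y = 2 → IsConj x y) ∧ Nat.card {x : G // orderOf x = 2} = (if Even h then e * (h + 1) else e * h) := by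
  classical
  have := Fintype.ofFinite G
  have hodd' : Odd (Nat.card (Cfsg.Agent.Lib.Helper3.ZassOdd.twoStab G a b)) := by
    rw [show Nat.card (Cfsg.Agent.Lib.Helper3.ZassOdd.twoStab G a b) = e from he]; exact hodd
  have he' : Nat.card (Cfsg.Agent.Lib.Helper3.ZassOdd.twoStab G a b) = e := he
  haveI : Fact (Nat.Prime 2) := ⟨Nat.prime_two⟩
  have hiff : ∀ x : G, orderOf x = 2 ↔ x ∈ Cfsg.Agent.Lib.Helper3.ZassOdd.invs G := by
    intro x
    rw [Cfsg.Agent.Lib.Helper3.ZassOdd.mem_invs, orderOf_eq_prime_iff, pow_two]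
    exact And.comm
  constructor
  · intro x y hx hy
    exact Cfsg.Agent.Lib.Helper3.ZassOdd.isConj_invs hZ hab hodd' ((hiff x).mp hx) ((hiff y).mp hy)
  · have hcard : Nat.card {x : G // orderOf x = 2} =
        (Cfsg.Agent.Lib.Helper3.ZassOdd.invs G).card := by
      rw [Nat.card_eq_fintype_card, Fintype.card_subtype]
      congr 1
      ext x
      rw [Finset.mem_filter]
      simp only [Finset.mem_univ, true_and]
      exact hiff x
    rw [hcard]
    obtain ⟨h1, h2⟩ := Cfsg.Agent.Lib.Helper3.ZassOdd.card_invs hZ hab hodd'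
    by_cases hev : Even h
    · rw [if_pos hev]
      have hn : Odd (Fintype.card Ω) := by rw [hh]; exact hev.add_one
      rw [(h2 hn).1, hh, he', mul_comm]
    · rw [if_neg hev]
      have hn : Even (Fintype.card Ω) := by
        rw [hh]; exact (Nat.not_even_iff_odd.mp hev).add_one
      rw [(h1 hn).1, hh, he', mul_comm]
      rfl

end Cfsg.Agent.S0882
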