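import Cfsg.Statements.S0883
import Cfsg.Agent.Lib.Helper3.ZassKer

set_option autoImplicit false
open Cfsg

namespace Cfsg.Agent.S0883

/-- Let G be a finite simple Zassenhaus group on Ω with h + 1 points whose two-point stabilizer E has odd order e with 2e < h - 1, and let H be the subgroup of the stabilizer of a consisting of the identity and the elements fixing no point other than a (given here as a subgroup of the stabilizer of order one less than the number of points whose non-identity elements fix only a; it is the Frobenius kernel of the stabilizer). If a non-identity element u of H is a product of two involutions of G, then u is an involution. -/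
theorem result {G Ω : Type*} [Group G] [Finite G] [MulAction G Ω] [Fintype Ω] (hZ : Cfsg.IsZassenhausGroup G Ω) {a b : Ω} (hab : a ≠ b) [IsSimpleGroup G] (h e : ℕ) (hh : Fintype.card Ω = h + 1) (he : Nat.card ↥(MulAction.stabilizer G a ⊓ MulAction.stabilizer G b : Subgroup G) = e) (hodd : Odd e) (hlt : 2 * e < h - 1) (H : Subgroup G) (hHa : H ≤ MulAction.stabilizer G a) (hHcard : Nat.card H + 1 = Fintype.card Ω) (hHfix : ∀ u ∈ H, u ≠ 1 → ∀ c : Ω, u • c = c → c = a) (u : G) (hu : u ∈ H) (hu1 : u ≠ 1) (x y : G) (hx : orderOf x = 2) (hy : orderOf y = 2) (hxy : x * y = u) : orderOf u = 2 := by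
  have hodd' : Odd (Nat.card (Cfsg.Agent.Lib.Helper3.ZassOdd.twoStab G a b)) := by
    rw [show Nat.card (Cfsg.Agent.Lib.Helper3.ZassOdd.twoStab G a b) = e from he]; exact hodd
  haveI : Fact (Nat.Prime 2) := ⟨Nat.prime_two⟩
  obtain ⟨hx2, hx1⟩ := (orderOf_eq_prime_iff).mp hx
  obtain ⟨hy2, hy1⟩ := (orderOf_eq_prime_iff).mp hy
  rw [pow_two] at hx2 hy2
  have hxinv : x⁻¹ = x := inv_eq_of_mul_eq_one_left hx2
  have hyinv : y⁻¹ = y := inv_eq_of_mul_eq_one_left hy2
  have hua : u • a = a := hHa hu
  have hconj : x * u * x⁻¹ = u⁻¹ := by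
    rw [← hxy, mul_inv_rev, hxinv, hyinv]
    calc x * (x * y) * x = (x * x) * y * x := by group
      _ = y * x := by rw [hx2, one_mul]
  have huinv : u⁻¹ ∈ H := H.inv_mem hu
  have huinv1 : u⁻¹ ≠ 1 := by
    intro h; exact hu1 (inv_eq_one.mp h)
  have hxa : x • a = a := by
    apply hHfix u⁻¹ huinv huinv1
    rw [← hconj, mul_smul, mul_smul, inv_smul_smul, hua]
  have hya : y • a = a := by
    have : y = x * u := by rw [← hxy, ← mul_assoc, hx2, one_mul]
    rw [this, mul_smul, hua, hxa]
  obtain ⟨-, hxc⟩ := Cfsg.Agent.Lib.Helper3.ZassOdd.kernel_commute_inv hZ hab hodd' H hHa hHcard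
    hHfix hx1 hx2 hxa
  obtain ⟨hyH, -⟩ := Cfsg.Agent.Lib.Helper3.ZassOdd.kernel_commute_inv hZ hab hodd' H hHa hHcard
    hHfix hy1 hy2 hya
  have hcomm : y * x = x * y := hxc y hyH
  apply orderOf_eq_prime
  · rw [pow_two, ← hxy]
    calc x * y * (x * y) = x * (y * x) * y := by group
      _ = x * (x * y) * y := by rw [hcomm]
      _ = (x * x) * (y * y) := by group
      _ = 1 := by rw [hx2, hy2, one_mul]
  · exact hu1

end Cfsg.Agent.S0883
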