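import Cfsg.Statements.S0890
import Cfsg.Agent.Lib.Helper15.BergerCore
import Cfsg.Agent.Lib.Helper15.PrimSolv
import Cfsg.Agent.Lib.Helper15.IrrCrit
import Cfsg.Agent.Lib.Helper25.IndNormal

set_option autoImplicit false
open Cfsg

namespace Cfsg.Agent.S0890

open Cfsg.Agent.Lib.Helper15
open scoped ComplexConjugate

/-- Restriction to an intermediate subgroup stays irreducible. -/
theorem irr_restrict_intermediate {G : Type*} [Group G] [Fintype G] (H L L₀ : Subgroup G)
    (hLL₀ : L ≤ L₀) (hL₀H : L₀ ≤ H) (ϑ : H → ℂ) (hϑ : IsIrrCharacter H ϑ)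
    (hϑL : IsIrrCharacter L (fun x : L => ϑ ⟨(x : G), (hLL₀.trans hL₀H) x.2⟩)) :
    IsIrrCharacter L₀ (fun x : L₀ => ϑ ⟨(x : G), hL₀H x.2⟩) := by
  classical
  haveI : Fintype L := Fintype.ofFinite _
  haveI : Fintype L₀ := Fintype.ofFinite _
  have hchar : IsCharacter L₀ (fun x : L₀ => ϑ ⟨(x : G), hL₀H x.2⟩) :=
    Cfsg.Agent.Lib.Helper25.IsCharacter.comp_hom (Subgroup.inclusion hL₀H)
      (Cfsg.Agent.Lib.Helper3.IsIrrCharacter.isCharacter hϑ)
  apply isIrrCharacter_of_norm_one hchar
  unfold classInner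
  rw [sum_normSq_subgroup H L L₀ hLL₀ hL₀H ϑ hϑ hϑL]
  exact inv_mul_cancel₀ (card_ne_zero_complex L₀)

theorem relIndex_comap_bot {G Q : Type*} [Group G] [Group Q] (π : G →* Q)
    (hπ : Function.Surjective π) (V : Subgroup Q) :
    ((⊥ : Subgroup Q).comap π).relIndex (V.comap π) = Nat.card V := by
  rw [Subgroup.relIndex_comap, Subgroup.map_comap_eq_self_of_surjective hπ,
    Subgroup.relIndex_bot_left]

/-- Let L ≤ H < G with L normal in G, H a maximal subgroup and G / L solvable. Let ϑ be an irreducible character of H whose restriction to L is irreducible and whose induction χ to G is irreducible. Then there is a normal subgroup M of G containing L such that the restriction of χ to M is not a natural-number multiple of a single irreducible character of M. -/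
theorem result {G : Type*} [Group G] [Fintype G] (L H : Subgroup G) [L.Normal] (hLH : L ≤ H) (hmax : IsCoatom H) (hsolv : Group.IsSolvable (G ⧸ L)) (ϑ : H → ℂ) (hϑ : Cfsg.IsIrrCharacter H ϑ) (hϑL : Cfsg.IsIrrCharacter L (fun x : L => ϑ ⟨(x : G), hLH x.2⟩)) (hind : Cfsg.IsIrrCharacter G (Cfsg.indFun H ϑ)) : ∃ M : Subgroup G, M.Normal ∧ L ≤ M ∧ ¬ ∃ (φ : M → ℂ) (e : ℕ), Cfsg.IsIrrCharacter M φ ∧ (fun m : M => Cfsg.indFun H ϑ m) = (e : ℂ) • φ := by
  classical
  by_contra hcon
  have hhom : ∀ M : Subgroup G, M.Normal → L ≤ M → ∃ (φ : M → ℂ) (e : ℕ),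
      IsIrrCharacter M φ ∧ (fun m : M => indFun H ϑ m) = (e : ℂ) • φ := by
    intro M hM hLM
    by_contra h
    exact hcon ⟨M, hM, hLM, h⟩
  set L₀ : Subgroup G := H.normalCore with hL₀
  have hL₀n : L₀.Normal := inferInstance
  have hLL₀ : L ≤ L₀ := Subgroup.normal_le_normalCore.2 hLH
  have hL₀H : L₀ ≤ H := Subgroup.normalCore_le H
  have hϑL₀ := irr_restrict_intermediate H L L₀ hLL₀ hL₀H ϑ hϑ hϑL
  have hhomL₀ := hhom L₀ hL₀n hLL₀
  by_cases hHL₀ : H = L₀
  · -- `H` is normal
    have hHn : H.Normal := hHL₀ ▸ hL₀n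
    have hϑH : IsIrrCharacter H (fun x : H => ϑ ⟨(x : G), (le_refl H) x.2⟩) := hϑ
    have hφ : IsIrrCharacter (⊤ : Subgroup G) (fun m : (⊤ : Subgroup G) => indFun H ϑ m) :=
      (irrComp (Subgroup.topEquiv : (⊤ : Subgroup G) ≃* G) ⟨_, hind⟩).2
    have h1 := berger_core_deg H ⊤ H (le_refl H) (top_inf_eq H) (top_sup_eq H) ϑ hϑ hϑH
      (hhom H hHn hLH) (φ := fun m : (⊤ : Subgroup G) => indFun H ϑ m) (e := 1) hφ
      (by rw [Nat.cast_one, one_smul])
    rw [one_mul, one_mul, Subgroup.card_top] at h1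
    exact hmax.1 ((Subgroup.card_eq_iff_eq_top H).1 h1)
  · -- the primitive quotient
    let π : G →* G ⧸ L₀ := QuotientGroup.mk' L₀
    have hπs : Function.Surjective π := QuotientGroup.mk'_surjective L₀
    have hker : π.ker = L₀ := QuotientGroup.ker_mk' L₀
    have hbotc : (⊥ : Subgroup (G ⧸ L₀)).comap π = L₀ := (MonoidHom.comap_bot π).trans hker
    haveI : Group.IsSolvable (G ⧸ L₀) := by
      haveI := hsolv
      apply Group.isSolvable_of_surjective (f := QuotientGroup.map L L₀ (MonoidHom.id G) hLL₀)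
      intro x
      obtain ⟨g, rfl⟩ := QuotientGroup.mk_surjective x
      exact ⟨QuotientGroup.mk g, rfl⟩
    set Hb : Subgroup (G ⧸ L₀) := H.map π with hHb
    have hcomapHb : Hb.comap π = H := by
      rw [hHb, Subgroup.comap_map_eq, hker, sup_eq_left.2 hL₀H]
    have hmaxb : IsCoatom Hb := by
      constructor
      · intro h
        apply hmax.1
        rw [← hcomapHb, h, Subgroup.comap_top]
      · intro X hX
        have h1 : H ≤ X.comap π := by
          rw [← hcomapHb]
          exact Subgroup.comap_mono hX.le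
        rcases eq_or_lt_of_le h1 with h2 | h2
        · exfalso
          have : X = Hb := by
            rw [hHb, h2, Subgroup.map_comap_eq_self_of_surjective hπs]
          exact hX.ne this.symm
        · have h3 := hmax.2 _ h2
          rw [← Subgroup.map_comap_eq_self_of_surjective hπs X, h3,
            Subgroup.map_top_of_surjective π hπs]
    have hcoreb : Hb.normalCore = ⊥ := by
      rw [eq_bot_iff]
      have h1 : (Hb.normalCore.comap π) ≤ H := by
        rw [← hcomapHb]
        exact Subgroup.comap_mono (Subgroup.normalCore_le Hb)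
      have h2 : (Hb.normalCore.comap π) ≤ L₀ := Subgroup.normal_le_normalCore.2 h1
      rw [← Subgroup.map_comap_eq_self_of_surjective hπs Hb.normalCore]
      exact (Subgroup.map_mono h2).trans (le_of_eq (QuotientGroup.map_mk'_self L₀))
    have hHbne : Hb ≠ ⊥ := by
      intro h
      apply hHL₀
      apply le_antisymm _ hL₀H
      rw [← hcomapHb, h]
      exact le_of_eq hbotc
    obtain ⟨V, B, hVn, hBH, hinf, hsup, hVBn, hcop, v, hv, b, hb, hvb⟩ :=
      exists_primitive_data Hb hmaxb hcoreb hHbne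
    haveI := hVn
    haveI := hVBn
    set M : Subgroup G := V.comap π with hM
    set N : Subgroup G := B.comap π with hN
    set K : Subgroup G := (V ⊔ B).comap π with hK
    haveI hMn : M.Normal := by rw [hM]; infer_instance
    haveI hKn : K.Normal := by rw [hK]; infer_instance
    have hL₀N : L₀ ≤ N := by
      calc L₀ = (⊥ : Subgroup (G ⧸ L₀)).comap π := hbotc.symm
        _ ≤ N := Subgroup.comap_mono bot_le
    have hL₀M : L₀ ≤ M := by
      calc L₀ = (⊥ : Subgroup (G ⧸ L₀)).comap π := hbotc.symm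
        _ ≤ M := Subgroup.comap_mono bot_le
    have hNH : N ≤ H := by
      rw [hN, ← hcomapHb]
      exact Subgroup.comap_mono hBH
    have hMH : M ⊓ H = L₀ := by
      rw [hM]
      nth_rewrite 1 [← hcomapHb]
      rw [← Subgroup.comap_inf, hinf]
      exact hbotc
    have hsup' : M ⊔ H = ⊤ := by
      rw [hM]
      nth_rewrite 1 [← hcomapHb]
      rw [Subgroup.comap_sup_eq π _ _ hπs, hsup, Subgroup.comap_top]
    have hKdef : K = M ⊔ N := by
      rw [hK, hM, hN, Subgroup.comap_sup_eq π _ _ hπs]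
    have hϑL₀' : IsIrrCharacter L₀ (fun x : L₀ => ϑ ⟨(x : G), (hL₀N.trans hNH) x.2⟩) := hϑL₀
    obtain ⟨φ, e, hφ, heM⟩ := hhom M hMn (hLL₀.trans hL₀M)
    obtain ⟨ξ, c, hξ, hcK⟩ := hhom K hKn (hLL₀.trans (hL₀M.trans (hKdef ▸ le_sup_left)))
    have hee := berger_core_deg L₀ M H hL₀H hMH hsup' ϑ hϑ hϑL₀ hhomL₀ hφ heM
    -- index computations
    have hL₀bot : L₀ = (⊥ : Subgroup (G ⧸ L₀)).comap π := hbotc.symm
    have hrelM : L₀.relIndex M = Nat.card V := by
      have := relIndex_comap_bot π hπs V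
      rwa [hbotc] at this
    have hrelN : L₀.relIndex N = Nat.card B := by
      have := relIndex_comap_bot π hπs B
      rwa [hbotc] at this
    have hMN : M ⊓ N = L₀ := by
      apply le_antisymm
      · rw [← hMH]
        exact inf_le_inf_left M hNH
      · exact le_inf hL₀M hL₀N
    have hrelK : M.relIndex K = Nat.card B := by
      rw [hKdef, Subgroup.relIndex_sup_left, ← Subgroup.inf_relIndex_right, hMN, hrelN]
    have heeV : e * e = Nat.card V := by
      have h3 : Nat.card L₀ * L₀.relIndex M = Nat.card M := by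
        have := Subgroup.relIndex_mul_relIndex (⊥ : Subgroup G) L₀ M bot_le hL₀M
        rwa [Subgroup.relIndex_bot_left, Subgroup.relIndex_bot_left] at this
      have hpos : 0 < Nat.card L₀ := Nat.card_pos
      have : Nat.card L₀ * (e * e) = Nat.card L₀ * L₀.relIndex M := by
        rw [h3, ← hee]
        ring
      rw [← hrelM]
      exact Nat.eq_of_mul_eq_mul_left hpos this
    have hcop' : Nat.Coprime e (M.relIndex K) := by
      rw [hrelK]
      rw [← heeV] at hcop
      exact Nat.Coprime.coprime_mul_left hcop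
    have hχ1 : indFun H ϑ 1 ≠ 0 := by
      obtain ⟨n, hn, -, hn0⟩ := Cfsg.Agent.Lib.Helper3.IsIrrCharacter.apply_one_dvd_card hind
      rw [hn]
      exact_mod_cast hn0
    have hce : c = e :=
      berger_core_mult M K (hKdef ▸ le_sup_left) (indFun H ϑ) hχ1 hφ heM hξ hcK hcop'
    subst hce
    have hnorm := berger_core_norm L₀ M N H K hL₀N hNH hMH hsup' hKdef ϑ hϑ hϑL₀' hξ hcK hee
    obtain ⟨m, rfl⟩ := hπs v
    obtain ⟨n, rfl⟩ := hπs b
    have h5 := hnorm m hv n hb
    apply hvb
    rw [hHb]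
    exact Subgroup.mem_map.2 ⟨m⁻¹ * n * m, h5, by simp⟩

end Cfsg.Agent.S0890
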