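import Cfsg.Statements.S0892
import Cfsg.Agent.S0447
import Cfsg.Agent.Lib.Helper65.MultBounds
import Cfsg.Agent.Lib.Helper65.AltCentral

set_option autoImplicit false
open Cfsg

namespace Cfsg.Agent.S0892

open Cfsg.Agent.Lib.Helper65 Equiv

universe u

/-- the subgroup generated by two involutions `u, v` with `u ∉ ⟨uv⟩` has order `2 |uv|` -/
theorem card_closure_dihedral {K : Type*} [Group K] [Finite K] (u v : K) (hu : u * u = 1)
    (hv : v * v = 1) (m : ℕ) (hm : 0 < m) (hord : orderOf (u * v) = m)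
    (hne : u ∉ Subgroup.zpowers (u * v)) :
    Nat.card (Subgroup.closure ({u, v} : Set K)) = 2 * m := by
  set H := Subgroup.closure ({u, v} : Set K) with hH
  have hle : Nat.card H ≤ 2 * m :=
    Cfsg.Agent.S0447.card_closure_pair_le u v hu hv m hm (by rw [← hord]; exact pow_orderOf_eq_one _)
  have huH : u ∈ H := Subgroup.subset_closure (by simp)
  have hvH : v ∈ H := Subgroup.subset_closure (by simp)
  have hZle : Subgroup.zpowers (u * v) ≤ H := by
    rw [Subgroup.zpowers_le]; exact mul_mem huH hvH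
  have hZc : Nat.card (Subgroup.zpowers (u * v)) = m := by rw [Nat.card_zpowers, hord]
  obtain ⟨k, hk⟩ : m ∣ Nat.card H := by rw [← hZc]; exact Subgroup.card_dvd_of_le hZle
  have hk1 : k ≠ 1 := by
    intro h1
    rw [h1, mul_one] at hk
    have : Subgroup.zpowers (u * v) = H := by
      apply Subgroup.eq_of_le_of_card_ge hZle
      rw [hZc, hk]
    apply hne
    rw [this]
    exact huH
  have hk0 : k ≠ 0 := by
    intro h0
    rw [h0, mul_zero] at hk
    have : 0 < Nat.card H := Nat.card_pos
    omega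
  have hk2 : k ≤ 2 := by
    by_contra hcon
    push Not at hcon
    have : m * 3 ≤ m * k := Nat.mul_le_mul_left m hcon
    omega
  have : k = 2 := by omega
  rw [hk, this, mul_comm]

/-- the generators generate, inside the generated subgroup -/
theorem closure_pair_top {K : Type*} [Group K] (u v : K) :
    Subgroup.closure ({⟨u, Subgroup.subset_closure (by simp)⟩,
      ⟨v, Subgroup.subset_closure (by simp)⟩} : Set (Subgroup.closure ({u, v} : Set K))) = ⊤ := by
  have h := Subgroup.closure_closure_coe_preimage (k := ({u, v} : Set K))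
  rw [← h]
  congr 1
  ext x
  simp only [Set.mem_insert_iff, Set.mem_singleton_iff, Set.mem_preimage]
  constructor
  · rintro (rfl | rfl)
    · left; rfl
    · right; rfl
  · rintro (h | h)
    · left; exact Subtype.ext h
    · right; exact Subtype.ext h

/-- the multiplier has order at most two under Sylow bounds -/
theorem two_of_bounds (G : Type u) [Group G] [Finite G]
    (H2 : Subgroup G) (hH2 : Nat.Coprime 2 H2.index) (h2 : Nat.card (multSub H2) ≤ 2)
    (hp : ∀ p : ℕ, p.Prime → p ≠ 2 → ¬ p ^ 2 ∣ Nat.card G) :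
    Nat.card (multSub G) ≤ 2 := by
  classical
  have hn0 : 0 < Nat.card (multSub G) := Nat.card_pos
  have n4 : ¬ 4 ∣ Nat.card (multSub G) := by
    intro h
    have : Fact (Nat.Prime 2) := ⟨Nat.prime_two⟩
    let P : Sylow 2 (multSub G) := default
    have h1 : 2 ^ 2 ∣ Nat.card P := P.pow_dvd_card_of_pow_dvd_card (by norm_num; exact h)
    have h2' := card_sylow_multSub_le G H2 2 hH2 P
    have := Nat.le_of_dvd Nat.card_pos h1
    omega
  have np : ∀ p : ℕ, p.Prime → p ≠ 2 → ¬ p ∣ Nat.card (multSub G) := by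
    intro p hpp hp2 hd
    have : Fact p.Prime := ⟨hpp⟩
    let R : Sylow p G := default
    let P : Sylow p (multSub G) := default
    have h1 : p ^ 1 ∣ Nat.card P := P.pow_dvd_card_of_pow_dvd_card (by rwa [pow_one])
    have hcyc : IsCyclic (R : Subgroup G) := by
      obtain ⟨k, hk⟩ := IsPGroup.iff_card.1 R.isPGroup'
      have hk1 : k ≤ 1 := by
        by_contra hcon
        push Not at hcon
        apply hp p hpp hp2
        calc p ^ 2 ∣ p ^ k := pow_dvd_pow p hcon
          _ = Nat.card (R : Subgroup G) := hk.symm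
          _ ∣ Nat.card G := Subgroup.card_subgroup_dvd_card _
      interval_cases k
      · have hs : Subsingleton (R : Subgroup G) :=
          (Nat.card_eq_one_iff_unique.1 (by simpa using hk)).1
        exact isCyclic_of_subsingleton
      · exact isCyclic_of_prime_card (p := p) (by simpa using hk)
    have hsub := multSub_subsingleton_of_isCyclic (R : Subgroup G)
    have hb := card_sylow_multSub_le G (R : Subgroup G) p
      ((Nat.Prime.coprime_iff_not_dvd hpp).2 R.not_dvd_index) P
    have h1c : Nat.card (multSub (R : Subgroup G)) = 1 :=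
      Nat.card_eq_one_iff_unique.2 ⟨hsub, ⟨1⟩⟩
    have h1' := Nat.le_of_dvd Nat.card_pos h1
    have := hpp.two_le
    rw [pow_one] at h1'
    omega
  by_contra hcon
  push Not at hcon
  have hne1 : Nat.card (multSub G) ≠ 1 := by omega
  obtain ⟨q, hq, hqk⟩ := Nat.exists_prime_and_dvd hne1
  have hq2 : q = 2 := by
    by_contra hq2
    exact np q hq hq2 hqk
  subst hq2
  obtain ⟨j, hj⟩ := hqk
  have hj1 : j ≠ 1 := by
    intro h
    rw [h] at hj
    omega
  obtain ⟨q', hq', hqj⟩ := Nat.exists_prime_and_dvd hj1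
  obtain ⟨i, hi⟩ := hqj
  by_cases hq'2 : q' = 2
  · apply n4
    subst hq'2
    exact ⟨i, by rw [hj, hi]; ring⟩
  · exact np q' hq' hq'2 ⟨2 * i, by rw [hj, hi]; ring⟩

/-- the common argument for `A₄` and `A₅` -/
theorem small_case (n : ℕ) (N : ℕ)
    (hcard : Nat.card (alternatingGroup (Fin n)) = 4 * N)
    (hN2 : ¬ 2 ∣ N)
    (hp : ∀ p : ℕ, p.Prime → p ≠ 2 → ¬ p ^ 2 ∣ 4 * N)
    (u v : alternatingGroup (Fin n)) (hu : u * u = 1) (hv : v * v = 1)
    (h2 : (u * v) ^ 2 = 1) (h1 : u * v ≠ 1) (hne : ∀ k < 2, u ≠ (u * v) ^ k) :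
    Nat.card (multSub (alternatingGroup (Fin n))) ≤ 2 := by
  classical
  have : Fact (Nat.Prime 2) := ⟨Nat.prime_two⟩
  have hord : orderOf (u * v) = 2 := orderOf_eq_prime h2 h1
  have hnz : u ∉ Subgroup.zpowers (u * v) := by
    rw [(isOfFinOrder_of_finite (u * v)).mem_zpowers_iff_mem_range_orderOf, hord]
    simp only [Finset.mem_image, Finset.mem_range, not_exists, not_and]
    intro k hk h
    exact hne k hk h.symm
  have hc4 := card_closure_dihedral u v hu hv 2 (by norm_num) hord hnz
  set H2 := Subgroup.closure ({u, v} : Set (alternatingGroup (Fin n))) with hH2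
  have hidx : H2.index = N := by
    have h := H2.index_mul_card
    rw [hc4, hcard] at h
    have : H2.index * 4 = N * 4 := by rw [show (4 : ℕ) = 2 * 2 by norm_num, h]; ring
    exact Nat.eq_of_mul_eq_mul_right (by norm_num) this
  have hcop : Nat.Coprime 2 H2.index := by
    rw [hidx, Nat.Prime.coprime_iff_not_dvd Nat.prime_two]
    exact hN2
  have hm2 : Nat.card (multSub H2) ≤ 2 := by
    apply card_multSub_le_two_of_two_involutions H2
      ⟨u, Subgroup.subset_closure (by simp)⟩ ⟨v, Subgroup.subset_closure (by simp)⟩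
    · apply Subtype.ext
      rw [pow_two]
      exact hu
    · apply Subtype.ext
      rw [pow_two]
      exact hv
    · exact closure_pair_top u v
  apply two_of_bounds (alternatingGroup (Fin n)) H2 hcop hm2
  rw [hcard]
  exact hp

theorem no_sq_dvd (N : ℕ) (hN : N = 3 ∨ N = 15) :
    ∀ p : ℕ, p.Prime → p ≠ 2 → ¬ p ^ 2 ∣ 4 * N := by
  intro p hpp h2 hd
  have hle : p ^ 2 ≤ 4 * N := Nat.le_of_dvd (by rcases hN with rfl | rfl <;> norm_num) hd
  have hp8 : p < 8 := by
    by_contra hcon
    push Not at hcon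
    have : 8 * 8 ≤ p * p := Nat.mul_le_mul hcon hcon
    rcases hN with rfl | rfl <;> nlinarith
  rcases hN with rfl | rfl
  · interval_cases p <;> revert hpp hd h2 <;> decide
  · interval_cases p <;> revert hpp hd h2 <;> decide

theorem alt4 : Nat.card (multSub (alternatingGroup (Fin 4))) ≤ 2 := by
  apply small_case 4 3 (by rw [Cfsg.Agent.S0447.card_alt 4 (by norm_num)]; decide)
    (by decide) (no_sq_dvd 3 (Or.inl rfl))
    ⟨swap 0 1 * swap 2 3, Cfsg.Agent.S0447.dswap_mem (by decide) (by decide)⟩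
    ⟨swap 0 2 * swap 1 3, Cfsg.Agent.S0447.dswap_mem (by decide) (by decide)⟩
  · decide
  · decide
  · decide
  · decide
  · decide

theorem alt5 : Nat.card (multSub (alternatingGroup (Fin 5))) ≤ 2 := by
  apply small_case 5 15 (by rw [Cfsg.Agent.S0447.card_alt 5 (by norm_num)]; decide)
    (by decide) (no_sq_dvd 15 (Or.inr rfl))
    ⟨swap 0 1 * swap 2 3, Cfsg.Agent.S0447.dswap_mem (by decide) (by decide)⟩
    ⟨swap 0 2 * swap 1 3, Cfsg.Agent.S0447.dswap_mem (by decide) (by decide)⟩
  · decide
  · decide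
  · decide
  · decide
  · decide

/-- Let n ≥ 4 with n ≠ 6 and n ≠ 7, and let Γ be a finite group with a subgroup Z contained in both the centre and the commutator subgroup of Γ such that Γ / Z is isomorphic to the alternating group on n letters. Then Z has order at most 2. -/
theorem result (n : ℕ) (hn : 4 ≤ n) (h6 : n ≠ 6) (h7 : n ≠ 7) {Γ : Type*} [Group Γ] [Finite Γ] (Z : Subgroup Γ) [Z.Normal] (hZc : Z ≤ Subgroup.center Γ) (hZd : Z ≤ commutator Γ) (e : Γ ⧸ Z ≃* alternatingGroup (Fin n)) : Nat.card Z ≤ 2 := by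
  classical
  obtain ⟨σ, hσdef⟩ : ∃ σ : Γ →* alternatingGroup (Fin n),
      σ = e.toMonoidHom.comp (QuotientGroup.mk' Z) := ⟨_, rfl⟩
  have hker : σ.ker = Z := by
    ext g
    rw [MonoidHom.mem_ker, hσdef, MonoidHom.comp_apply, MulEquiv.coe_toMonoidHom,
      MulEquiv.map_eq_one_iff, QuotientGroup.mk'_apply, QuotientGroup.eq_one_iff]
  have hsurj : Function.Surjective σ := by
    rw [hσdef]
    exact e.surjective.comp (QuotientGroup.mk'_surjective Z)
  have hstem : Cfsg.IsStemExtension σ := ⟨hsurj, by rw [hker]; exact hZc, by rw [hker]; exact hZd⟩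
  have hcases : n = 4 ∨ n = 5 ∨ 8 ≤ n := by omega
  rw [← hker]
  rcases hcases with rfl | rfl | h8
  · have hd := card_ker_dvd_card_multSub σ hstem
    exact le_trans (Nat.le_of_dvd Nat.card_pos hd) alt4
  · have hd := card_ker_dvd_card_multSub σ hstem
    exact le_trans (Nat.le_of_dvd Nat.card_pos hd) alt5
  · obtain ⟨m, rfl⟩ : ∃ m, n = m + 2 := ⟨n - 2, by omega⟩
    exact AltCentral.card_ker_le_two σ hstem.2.1 hstem.2.2 (by omega) hsurj

end Cfsg.Agent.S0892
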