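import Cfsg.Statements.S0893
import Cfsg.Agent.Lib.Helper15.IrrCrit
import Cfsg.Agent.Lib.Helper15.LinearChar
import Cfsg.Agent.Lib.Helper3.Induced

set_option autoImplicit false
open Cfsg

namespace Cfsg.Agent.S0893

open Cfsg.Agent.Lib.Helper15 Cfsg.Agent.Lib.Helper3 Subgroup
open scoped ComplexConjugate commutatorElement

variable {P : Type*} [Group P]

/-- in a group whose centre has prime order, a nontrivial central element generates the centre -/
theorem center_le_of_mem {p : ℕ} [Fact p.Prime] (hZ : Nat.card (center P) = p) {A : Subgroup P}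
    {a : P} (haZ : a ∈ center P) (ha1 : a ≠ 1) (haA : a ∈ A) : center P ≤ A := by
  intro z hz
  have htop : zpowers (⟨a, haZ⟩ : center P) = ⊤ :=
    zpowers_eq_top_of_prime_card hZ (fun h => ha1 (congrArg Subtype.val h))
  have : (⟨z, hz⟩ : center P) ∈ zpowers (⟨a, haZ⟩ : center P) := by rw [htop]; trivial
  obtain ⟨k, hk⟩ := this
  have hk' : a ^ k = z := by
    have := congrArg Subtype.val hk
    simpa using this
  rw [← hk']
  exact A.zpow_mem haA k

theorem extendByZero_mul_central {A : Subgroup P} (lam : A → ℂ)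
    (hlam : IsCharacter A lam ∧ lam 1 = 1) (y z : P) (hz : z ∈ A) :
    extendByZero A lam (y * z) = extendByZero A lam y * lam ⟨z, hz⟩ := by
  by_cases hy : y ∈ A
  · rw [extendByZero_apply_mem A (A.mul_mem hy hz), extendByZero_apply_mem A hy, ← linChar_mul hlam]
    rfl
  · have hyz : y * z ∉ A := by
      intro h
      apply hy
      have : y = y * z * z⁻¹ := by group
      rw [this]
      exact A.mul_mem h (A.inv_mem hz)
    rw [extendByZero_apply_not_mem A hyz, extendByZero_apply_not_mem A hy, zero_mul]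

theorem result {P : Type*} [Group P] [Fintype P] (p n : ℕ) [Fact p.Prime] (hP : Cfsg.IsExtraspecial p P) (hcard : Nat.card P = p ^ (2 * n + 1)) (A : Subgroup P) (hab : ∀ a ∈ A, ∀ b ∈ A, a * b = b * a) (hA : Nat.card A = p ^ (n + 1)) (lam : A → ℂ) (hlam : Cfsg.IsCharacter A lam ∧ lam 1 = 1) (hZ : ∃ a : A, (a : P) ∈ Subgroup.center P ∧ lam a ≠ 1) : Cfsg.IsIrrCharacter P (Cfsg.indFun A lam) ∧ ∀ x : P, x ∉ Subgroup.center P → Cfsg.indFun A lam x = 0 := by
  classical
  have hp : p.Prime := Fact.out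
  obtain ⟨⟨-, -, hcomm⟩, hZcard⟩ := hP
  obtain ⟨a, haZ, hla⟩ := hZ
  have ha1 : (a : P) ≠ 1 := by
    intro h
    apply hla
    have : a = 1 := Subtype.ext h
    rw [this, hlam.2]
  have hZA : center P ≤ A := center_le_of_mem hZcard haZ ha1 a.2
  -- lam is nontrivial at every nonidentity central element
  have hfaith : ∀ z : P, ∀ hz : z ∈ center P, z ≠ 1 → lam ⟨z, hZA hz⟩ ≠ 1 := by
    intro z hz hz1 h
    have htop : zpowers (⟨z, hz⟩ : center P) = ⊤ :=
      zpowers_eq_top_of_prime_card hZcard (fun h => hz1 (congrArg Subtype.val h))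
    have : (⟨a, haZ⟩ : center P) ∈ zpowers (⟨z, hz⟩ : center P) := by rw [htop]; trivial
    obtain ⟨k, hk⟩ := this
    have hk' : (⟨z, hZA hz⟩ : A) ^ k = a := by
      apply Subtype.ext
      have := congrArg Subtype.val hk
      simpa using this
    apply hla
    rw [← hk', ← linCharUnitsHom_apply hlam, map_zpow, Units.val_zpow_eq_zpow_val,
      linCharUnitsHom_apply, h, one_zpow]
  -- vanishing off the centre
  have hvanish : ∀ x : P, x ∉ center P → indFun A lam x = 0 := by
    intro x hx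
    have : ∃ s : P, s * x ≠ x * s := by
      by_contra hcon
      push Not at hcon
      exact hx (mem_center_iff.mpr hcon)
    obtain ⟨s, hs⟩ := this
    set z₀ : P := x⁻¹ * s⁻¹ * x * s with hz₀
    have hz₀Z : z₀ ∈ center P := by
      rw [← hcomm, commutator_def]
      have : z₀ = ⁅x⁻¹, s⁻¹⁆ := by
        rw [hz₀, commutatorElement_def]; group
      rw [this]
      exact commutator_mem_commutator (mem_top _) (mem_top _)
    have hz₀1 : z₀ ≠ 1 := by
      intro h
      apply hs
      have : s * x = x * s * z₀⁻¹ := by rw [hz₀]; group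
      rw [this, h, inv_one, mul_one]
    have hlz : lam ⟨z₀, hZA hz₀Z⟩ ≠ 1 := hfaith z₀ hz₀Z hz₀1
    set S := ∑ t : P, extendByZero A lam (t⁻¹ * x * t) with hS
    have hS2 : S = S * lam ⟨z₀, hZA hz₀Z⟩ := by
      have h1 : S = ∑ t : P, extendByZero A lam ((s * t)⁻¹ * x * (s * t)) :=
        (Fintype.sum_equiv (Equiv.mulLeft s) _ _ (fun t => rfl)).symm
      conv_lhs => rw [h1]
      rw [hS, Finset.sum_mul]
      refine Finset.sum_congr rfl (fun t _ => ?_)
      rw [← extendByZero_mul_central lam hlam]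
      congr 1
      have hc : ∀ g : P, g * z₀ = z₀ * g := mem_center_iff.mp hz₀Z
      calc (s * t)⁻¹ * x * (s * t) = t⁻¹ * (x * z₀) * t := by rw [hz₀]; group
        _ = t⁻¹ * x * (z₀ * t) := by group
        _ = t⁻¹ * x * (t * z₀) := by rw [hc t]
        _ = t⁻¹ * x * t * z₀ := by group
    have hS0 : S = 0 := by
      have : S * (1 - lam ⟨z₀, hZA hz₀Z⟩) = 0 := by
        rw [mul_sub, mul_one, ← hS2, sub_self]
      rcases mul_eq_zero.mp this with h | h
      · exact h
      · exact absurd (sub_eq_zero.mp h).symm hlz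
    show (Nat.card A : ℂ)⁻¹ * S = 0
    rw [hS0, mul_zero]
  refine ⟨?_, hvanish⟩
  -- values on the centre
  have hvalZ : ∀ z : P, ∀ hz : z ∈ center P,
      indFun A lam z = (p : ℂ) ^ n * lam ⟨z, hZA hz⟩ := by
    intro z hz
    show (Nat.card A : ℂ)⁻¹ * ∑ t : P, extendByZero A lam (t⁻¹ * z * t) = _
    have h1 : ∀ t : P, extendByZero A lam (t⁻¹ * z * t) = lam ⟨z, hZA hz⟩ := by
      intro t
      have : t⁻¹ * z * t = z := by
        rw [mul_assoc, ← mem_center_iff.mp hz t, ← mul_assoc, inv_mul_cancel, one_mul]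
      rw [this, extendByZero_apply_mem A (hZA hz)]
    rw [Finset.sum_congr rfl (fun t _ => h1 t), Finset.sum_const, Finset.card_univ,
      ← Nat.card_eq_fintype_card, hcard, hA, nsmul_eq_mul]
    have hp0 : (p : ℂ) ≠ 0 := by exact_mod_cast hp.ne_zero
    push_cast
    field_simp
    ring
  have hnorm1 : ∀ z : P, ∀ hz : z ∈ center P,
      lam ⟨z, hZA hz⟩ * conj (lam ⟨z, hZA hz⟩) = 1 := by
    intro z hz
    have hA' : Finite A := inferInstance
    rw [← IsCharacter.inv hlam.1, linChar_inv hlam, mul_inv_cancel₀ (linChar_ne_zero hlam _)]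
  apply isIrrCharacter_of_norm_one (isCharacter_indFun A hlam.1)
  unfold classInner
  have hterm : ∀ g : P, indFun A lam g * conj (indFun A lam g) =
      if g ∈ center P then ((p : ℂ) ^ n) ^ 2 else 0 := by
    intro g
    split_ifs with hg
    · rw [hvalZ g hg, map_mul, map_pow, Complex.conj_natCast]
      have := hnorm1 g hg
      calc (p : ℂ) ^ n * lam ⟨g, hZA hg⟩ * ((p : ℂ) ^ n * conj (lam ⟨g, hZA hg⟩))
          = ((p : ℂ) ^ n) ^ 2 * (lam ⟨g, hZA hg⟩ * conj (lam ⟨g, hZA hg⟩)) := by ring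
        _ = ((p : ℂ) ^ n) ^ 2 := by rw [this, mul_one]
    · rw [hvanish g hg, zero_mul]
  rw [Finset.sum_congr rfl (fun g _ => hterm g), Finset.sum_ite, Finset.sum_const_zero, add_zero,
    Finset.sum_const, nsmul_eq_mul]
  have hcardZ : (Finset.univ.filter (fun g : P => g ∈ center P)).card = p := by
    rw [← hZcard, Nat.card_eq_fintype_card, Fintype.card_subtype]
  rw [hcardZ, hcard]
  have hp0 : (p : ℂ) ≠ 0 := by exact_mod_cast hp.ne_zero
  push_cast
  field_simp
  ring

end Cfsg.Agent.S0893
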