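import Mathlib
import Cfsg.Statements.S0901
import Cfsg.Agent.Lib.Helper81.LocalRing

set_option autoImplicit false
open Cfsg

namespace Cfsg.Agent.S0901

open Cfsg.Agent.Lib.Helper81 IntermediateField Polynomial

theorem part1 (p : ℕ) [Fact p.Prime] (M : Ideal Cfsg.AlgInt) (hM : Cfsg.IsPModular p M)
    (ε₁ ε₂ : Cfsg.AlgInt) (h1 : ∃ m : ℕ, ¬ p ∣ m ∧ (ε₁ : ℂ) ^ m = 1)
    (h2 : ∃ m : ℕ, ¬ p ∣ m ∧ (ε₂ : ℂ) ^ m = 1) (hmem : ε₁ - ε₂ ∈ M) : ε₁ = ε₂ := by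
  obtain ⟨m₁, hm₁, he₁⟩ := h1
  obtain ⟨m₂, hm₂, he₂⟩ := h2
  have hp : p.Prime := Fact.out
  set m := m₁ * m₂ with hm
  have hpm : ¬ p ∣ m := fun h => (hp.dvd_mul.mp h).elim hm₁ hm₂
  have hm0 : m ≠ 0 := fun h => hpm (h ▸ dvd_zero p)
  have e1 : ε₁ ^ m = 1 := by
    apply Subtype.ext
    push_cast
    rw [hm, pow_mul, he₁, one_pow]
  have e2 : ε₂ ^ m = 1 := by
    apply Subtype.ext
    push_cast
    rw [hm, mul_comm, pow_mul, he₂, one_pow]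
  by_contra hne
  -- ε = ε₂ * ε₁^(m-1)
  set ε : AlgInt := ε₂ * ε₁ ^ (m - 1) with hε
  have hε1 : ε₁ * ε₁ ^ (m - 1) = 1 := by
    rw [← pow_succ', Nat.sub_add_cancel (Nat.pos_of_ne_zero hm0), e1]
  have hεm : ε ^ m = 1 := by
    rw [hε, mul_pow, e2, one_mul, ← pow_mul, mul_comm, pow_mul, e1, one_pow]
  have hεne : ε ≠ 1 := by
    intro h
    apply hne
    have : ε₂ * (ε₁ * ε₁ ^ (m - 1)) = ε₁ * (ε₂ * ε₁ ^ (m - 1)) := by ring
    rw [hε1, ← hε, h, mul_one, mul_one] at this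
    exact this.symm
  have hεM : ε - 1 ∈ M := by
    have : ε - 1 = -(ε₁ - ε₂) * ε₁ ^ (m - 1) := by
      rw [hε, neg_sub, sub_mul, hε1]
    rw [this]
    exact M.mul_mem_right _ (M.neg_mem hmem)
  have hgeom : (∑ i ∈ Finset.range m, ε ^ i) * (ε - 1) = 0 := by
    rw [geom_sum_mul, hεm, sub_self]
  have hsum0 : ∑ i ∈ Finset.range m, ε ^ i = 0 := by
    rcases mul_eq_zero.mp hgeom with h | h
    · exact h
    · exact absurd (sub_eq_zero.mp h) hεne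
  have hmk : Ideal.Quotient.mk M ε = 1 := by
    rw [← sub_eq_zero, ← map_one (Ideal.Quotient.mk M), ← map_sub]
    exact Ideal.Quotient.eq_zero_iff_mem.mpr hεM
  have hmM : (m : AlgInt) ∈ M := by
    rw [← Ideal.Quotient.eq_zero_iff_mem, map_natCast]
    have := congrArg (Ideal.Quotient.mk M) hsum0
    rw [map_sum, map_zero] at this
    simp only [map_pow, hmk, one_pow, Finset.sum_const, Finset.card_range, nsmul_eq_mul,
      mul_one] at this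
    exact this
  exact hpm ((natCast_mem_iff hM m).mp hmM)

theorem exists_pow_sub_one_mem (p : ℕ) [Fact p.Prime] (M : Ideal Cfsg.AlgInt)
    (hM : Cfsg.IsPModular p M) (a : AlgInt) (ha : a ∉ M) :
    ∃ n : ℕ, ¬ p ∣ n ∧ a ^ n - 1 ∈ M := by
  classical
  have hp : p.Prime := Fact.out
  have hmax : M.IsMaximal := hM.2.1
  let _ : Field (AlgInt ⧸ M) := Ideal.Quotient.field M
  have hchar : CharP (AlgInt ⧸ M) p := by
    rw [CharP.charP_iff_prime_eq_zero hp]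
    have := hM.2.2
    rw [← Ideal.Quotient.eq_zero_iff_mem, map_natCast] at this
    exact this
  let _ := ZMod.algebra (AlgInt ⧸ M) p
  set a' : AlgInt ⧸ M := Ideal.Quotient.mk M a with ha'
  have ha0 : a' ≠ 0 := by
    rw [ha', Ne, Ideal.Quotient.eq_zero_iff_mem]; exact ha
  have hint : IsIntegral (ZMod p) a' := by
    have h1 : IsIntegral ℤ a := integralClosure.isIntegral a
    have h2 : IsIntegral ℤ a' := h1.map (Ideal.Quotient.mkₐ ℤ M)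
    exact h2.tower_top
  have hfd : FiniteDimensional (ZMod p) (ZMod p)⟮a'⟯ := IntermediateField.adjoin.finiteDimensional hint
  have hfin : Finite (ZMod p)⟮a'⟯ := Module.finite_of_finite (ZMod p)
  have hft : Fintype (ZMod p)⟮a'⟯ := Fintype.ofFinite _
  have hcp : CharP (ZMod p)⟮a'⟯ p := inferInstance
  obtain ⟨d, -, hd⟩ := FiniteField.card (ZMod p)⟮a'⟯ p
  let b : (ZMod p)⟮a'⟯ := ⟨a', IntermediateField.mem_adjoin_simple_self _ _⟩
  have hb0 : b ≠ 0 := by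
    intro h
    apply ha0
    exact congrArg Subtype.val h
  have hb := FiniteField.pow_card_sub_one_eq_one b hb0
  refine ⟨Fintype.card (ZMod p)⟮a'⟯ - 1, ?_, ?_⟩
  · rw [hd]
    intro hdvd
    have h1 : p ∣ p ^ (d : ℕ) := dvd_pow_self p d.pos.ne'
    have h2 : 1 ≤ p ^ (d : ℕ) := Nat.one_le_pow _ _ hp.pos
    have := (Nat.dvd_sub_iff_right h2 h1).mp hdvd
    exact hp.one_lt.ne' (Nat.dvd_one.mp this)
  · rw [← Ideal.Quotient.eq_zero_iff_mem, map_sub, map_pow, map_one, sub_eq_zero]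
    have := congrArg Subtype.val hb
    simpa using this

theorem exists_root_of_unity (M : Ideal Cfsg.AlgInt) (hM : M.IsPrime) (a : AlgInt) (n : ℕ)
    (hn : 0 < n) (ha : a ^ n - 1 ∈ M) :
    ∃ ε : AlgInt, (ε : ℂ) ^ n = 1 ∧ a - ε ∈ M := by
  classical
  have hζ := Complex.isPrimitiveRoot_exp n hn.ne'
  have hprod := X_pow_sub_one_eq_prod hn hζ
  have hint : ∀ z ∈ nthRootsFinset n (1 : ℂ), z ∈ AlgInt := by
    intro z hz
    rw [mem_nthRootsFinset hn] at hz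
    refine ⟨X ^ n - 1, monic_X_pow_sub_C 1 hn.ne', ?_⟩
    simp [hz]
  have key : a ^ n - 1 = ∏ z ∈ (nthRootsFinset n (1 : ℂ)).attach, (a - ⟨z.1, hint z.1 z.2⟩) := by
    apply Subtype.ext
    have h1 := congrArg (Polynomial.eval (a : ℂ)) hprod
    rw [eval_prod] at h1
    simp only [eval_sub, eval_pow, eval_X, eval_one, eval_C] at h1
    push_cast
    rw [h1, ← Finset.prod_attach]
  rw [key, Ideal.IsPrime.prod_mem_iff] at ha
  obtain ⟨z, -, hz⟩ := ha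
  refine ⟨⟨z.1, hint z.1 z.2⟩, ?_, hz⟩
  exact (mem_nthRootsFinset hn 1).mp z.2

theorem result (p : ℕ) [Fact p.Prime] (M : Ideal Cfsg.AlgInt) (hM : Cfsg.IsPModular p M) : (∀ ε₁ ε₂ : Cfsg.AlgInt, (∃ m : ℕ, ¬ p ∣ m ∧ (ε₁ : ℂ) ^ m = 1) → (∃ m : ℕ, ¬ p ∣ m ∧ (ε₂ : ℂ) ^ m = 1) → ε₁ - ε₂ ∈ M → ε₁ = ε₂) ∧ (∀ a : Cfsg.AlgInt, a ∉ M → ∃ ε : Cfsg.AlgInt, (∃ m : ℕ, ¬ p ∣ m ∧ (ε : ℂ) ^ m = 1) ∧ a - ε ∈ M) := by
  refine ⟨fun ε₁ ε₂ h1 h2 h => part1 p M hM ε₁ ε₂ h1 h2 h, ?_⟩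
  intro a ha
  obtain ⟨n, hpn, hn⟩ := exists_pow_sub_one_mem p M hM a ha
  have hn0 : 0 < n := Nat.pos_of_ne_zero (fun h => hpn (h ▸ dvd_zero p))
  obtain ⟨ε, hε, hεM⟩ := exists_root_of_unity M (isPrime_of_isPModular hM) a n hn0 hn
  exact ⟨ε, ⟨n, hpn, hε⟩, hεM⟩

end Cfsg.Agent.S0901
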