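import Cfsg.Statements.S0903

set_option autoImplicit false
open Cfsg

namespace Cfsg.Agent.S0903

variable {G : Type*} [Group G]

/-- The set of pairs. -/
def pairSet (g h c : G) : Set (G × G) :=
  {xy | IsConj g xy.1 ∧ IsConj h xy.2 ∧ xy.1 * xy.2 = c}

/-- Simultaneous conjugation action of `P` on the pair set. -/
@[instance_reducible] def pairAction (P : Subgroup G) (g h c : G) (hc : c ∈ Subgroup.centralizer (P : Set G)) :
    MulAction P (pairSet g h c) where
  smul t xy := ⟨((t : G) * xy.1.1 * (t : G)⁻¹, (t : G) * xy.1.2 * (t : G)⁻¹), by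
    obtain ⟨⟨x, y⟩, h1, h2, h3⟩ := xy
    refine ⟨?_, ?_, ?_⟩
    · exact h1.trans (isConj_iff.mpr ⟨t, rfl⟩)
    · exact h2.trans (isConj_iff.mpr ⟨t, rfl⟩)
    · simp only at h3 ⊢
      have := hc (t : G) t.2
      calc (t : G) * x * (t : G)⁻¹ * ((t : G) * y * (t : G)⁻¹) = (t : G) * (x * y) * (t : G)⁻¹ := by group
        _ = (t : G) * c * (t : G)⁻¹ := by rw [h3]
        _ = c := by rw [this]; group⟩
  one_smul xy := by
    apply Subtype.ext
    show (((1 : P) : G) * xy.1.1 * ((1 : P) : G)⁻¹, ((1 : P) : G) * xy.1.2 * ((1 : P) : G)⁻¹) = xy.1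
    simp
  mul_smul s t xy := by
    apply Subtype.ext
    show (((s * t : P) : G) * xy.1.1 * ((s * t : P) : G)⁻¹, ((s * t : P) : G) * xy.1.2 * ((s * t : P) : G)⁻¹) =
      ((s : G) * ((t : G) * xy.1.1 * (t : G)⁻¹) * (s : G)⁻¹, (s : G) * ((t : G) * xy.1.2 * (t : G)⁻¹) * (s : G)⁻¹)
    simp [mul_assoc]

theorem result {G : Type*} [Group G] [Finite G] (p : ℕ) [Fact p.Prime] (P : Subgroup G) (hP : IsPGroup p P) (c : G) (hc : c ∈ Subgroup.centralizer (P : Set G)) (g h : G) : Nat.card {xy : G × G // IsConj g xy.1 ∧ IsConj h xy.2 ∧ xy.1 * xy.2 = c} ≡ Nat.card {xy : G × G // IsConj g xy.1 ∧ IsConj h xy.2 ∧ xy.1 * xy.2 = c ∧ xy.1 ∈ Subgroup.centralizer (P : Set G) ∧ xy.2 ∈ Subgroup.centralizer (P : Set G)} [MOD p] := by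
  let _ := pairAction P g h c hc
  have key := hP.card_modEq_card_fixedPoints (pairSet g h c)
  have e : (MulAction.fixedPoints P (pairSet g h c)) ≃ {xy : G × G // IsConj g xy.1 ∧ IsConj h xy.2 ∧ xy.1 * xy.2 = c ∧ xy.1 ∈ Subgroup.centralizer (P : Set G) ∧ xy.2 ∈ Subgroup.centralizer (P : Set G)} :=
    { toFun := fun z => ⟨z.1.1, z.1.2.1, z.1.2.2.1, z.1.2.2.2, by
        intro t ht
        have := congrArg (fun w => w.1.1) (z.2 ⟨t, ht⟩)
        have h' : t * z.1.1.1 * t⁻¹ = z.1.1.1 := this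
        calc t * z.1.1.1 = t * z.1.1.1 * t⁻¹ * t := by group
          _ = z.1.1.1 * t := by rw [h'], by
        intro t ht
        have := congrArg (fun w => w.1.2) (z.2 ⟨t, ht⟩)
        have h' : t * z.1.1.2 * t⁻¹ = z.1.1.2 := this
        calc t * z.1.1.2 = t * z.1.1.2 * t⁻¹ * t := by group
          _ = z.1.1.2 * t := by rw [h']⟩
      invFun := fun z => ⟨⟨z.1, z.2.1, z.2.2.1, z.2.2.2.1⟩, by
        intro t
        apply Subtype.ext
        show ((t : G) * z.1.1 * (t : G)⁻¹, (t : G) * z.1.2 * (t : G)⁻¹) = z.1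
        have h1 := z.2.2.2.2.1 (t : G) t.2
        have h2 := z.2.2.2.2.2 (t : G) t.2
        ext
        · simp only; rw [h1]; group
        · simp only; rw [h2]; group⟩
      left_inv := fun z => by rfl
      right_inv := fun z => by rfl }
  rw [Nat.card_congr e] at key
  exact key

end Cfsg.Agent.S0903
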