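import Cfsg.Statements.S0905
import Cfsg.Agent.Lib.Helper77.Nilpotent
import Cfsg.Agent.Lib.Helper84.PCore

set_option autoImplicit false
open Cfsg

namespace Cfsg.Agent.S0905

/-- Let F be a field of characteristic p and let g be an element of the finite group G no conjugate of which centralizes O_p(G). Then the class sum of g is a nilpotent element of the group algebra F[G]. -/
theorem result {G : Type*} [Group G] [Finite G] (p : ℕ) [Fact p.Prime] (F : Type*) [Field F] [CharP F p] (g : G) (hg : ∀ x : G, IsConj g x → x ∉ Subgroup.centralizer (Cfsg.pCore p G : Set G)) : IsNilpotent (∑ᶠ x ∈ ConjClasses.carrier (ConjClasses.mk g), MonoidAlgebra.single x (1 : F) : MonoidAlgebra F G) := by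
  classical
  have := Fintype.ofFinite G
  have hN : (Cfsg.pCore p G).Normal := Cfsg.Agent.Lib.Helper84.pCore_normal p G
  have hNp : IsPGroup p (Cfsg.pCore p G) := Cfsg.Agent.Lib.Helper84.pCore_isPGroup p G
  have hnil := Cfsg.Agent.Lib.Helper77.isNilpotent_classSum (Cfsg.pCore p G) hNp
    (hg g (IsConj.refl g))
  have hmap := hnil.map (MonoidAlgebra.mapRingHom G (ZMod.castHom (dvd_refl p) F))
  rw [Cfsg.Agent.Lib.Helper77.map_classSum] at hmap
  convert hmap using 1
  unfold Cfsg.Agent.Lib.Helper77.classSum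
  rw [finsum_eq_sum_of_fintype]
  refine Finset.sum_congr rfl fun x _ => ?_
  rw [finsum_eq_if]
  by_cases h : IsConj g x
  · rw [Cfsg.Agent.Lib.Helper77.classTerm_pos F h, if_pos]
    exact ConjClasses.mem_carrier_iff_mk_eq.mpr (ConjClasses.mk_eq_mk_iff_isConj.mpr h.symm)
  · rw [Cfsg.Agent.Lib.Helper77.classTerm_neg F h, if_neg]
    intro h'
    exact h (ConjClasses.mk_eq_mk_iff_isConj.mp (ConjClasses.mem_carrier_iff_mk_eq.mp h')).symm

end Cfsg.Agent.S0905
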