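import Cfsg.Statements.S0910
import Cfsg.Agent.Lib.Helper3.Burnside
import Cfsg.Agent.Lib.Helper81.LocalRing

set_option autoImplicit false
open Cfsg

namespace Cfsg.Agent.S0910

open Cfsg.Agent.Lib.Helper81

/-- Let G be a non-abelian finite simple group and p a prime. If an irreducible character χ lies in the principal block (relative to a maximal ideal of the algebraic integers containing p) and χ 1 is a power of p, then χ is the principal character. -/
theorem result {G : Type*} [Group G] [Finite G] (p : ℕ) [Fact p.Prime] (M : Ideal Cfsg.AlgInt) (hM : Cfsg.IsPModular p M) [IsSimpleGroup G] (hna : ∃ a b : G, a * b ≠ b * a) (χ : Cfsg.IrrCharacter G) (hχ : χ ∈ Cfsg.principalBlock M G) (k : ℕ) (hdeg : (χ : G → ℂ) 1 = (p : ℂ) ^ k) : (χ : G → ℂ) = fun _ => 1 := by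
  classical
  have := Fintype.ofFinite G
  have hMp : M.IsPrime := isPrime_of_isPModular hM
  have hp : p.Prime := Fact.out
  by_contra hχ1
  obtain ⟨a₀, b₀, hab⟩ := hna
  -- centre is trivial
  have hZ : Subgroup.center G = ⊥ := by
    rcases (inferInstance : (Subgroup.center G).Normal).eq_bot_or_eq_top with h | h
    · exact h
    · exfalso
      apply hab
      have ha : a₀ ∈ Subgroup.center G := by rw [h]; trivial
      exact (Subgroup.mem_center_iff.mp ha b₀).symm
  obtain ⟨n, ρ, hρ, hχρ⟩ := χ.2
  have hfr : Module.finrank ℂ (Fin n → ℂ) = n := by simp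
  have hn : (n : ℂ) = (p : ℂ) ^ k := by
    rw [← hdeg, ← hχρ, Representation.char_one, hfr]
  have hn' : n = p ^ k := by exact_mod_cast hn
  -- vanishing
  have hvan : ∀ g : G, g ≠ 1 → ¬ p ∣ (Subgroup.centralizer ({g} : Set G)).index →
      (χ : G → ℂ) g = 0 := by
    intro g hg hpi
    have hcop : Nat.Coprime (Module.finrank ℂ (Fin n → ℂ))
        (Subgroup.centralizer ({g} : Set G)).index := by
      rw [hfr, hn']
      exact Nat.Coprime.pow_left k ((Nat.Prime.coprime_iff_not_dvd hp).mpr hpi)
    have := hρ
    rcases Cfsg.Agent.Lib.Helper3.character_eq_zero_or_norm_eq_of_coprime ρ g hcop with h0 | h1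
    · rw [← hχρ, h0]
    · exfalso
      obtain ⟨ω, hω⟩ := (Cfsg.Agent.S0138.result ρ g).mp h1
      let N : Subgroup G := (ρ : G →* Module.End ℂ (Fin n → ℂ)).ker
      have hN : N = ⊥ ∨ N = ⊤ :=
        (MonoidHom.normal_ker (ρ : G →* Module.End ℂ (Fin n → ℂ))).eq_bot_or_eq_top
      rcases hN with hN | hN
      · apply hg
        have hgZ : g ∈ Subgroup.center G := by
          rw [Subgroup.mem_center_iff]
          intro x
          have h2 : ρ (x * g) = ρ (g * x) := by
            rw [map_mul, map_mul, hω]
            ext v
            simp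
          have h3 : (x * g) * (g * x)⁻¹ ∈ N := by
            rw [MonoidHom.mem_ker, map_mul, h2, ← map_mul, mul_inv_cancel, map_one]
          rw [hN, Subgroup.mem_bot] at h3
          exact mul_inv_eq_one.mp h3
        rw [hZ, Subgroup.mem_bot] at hgZ
        exact hgZ
      · apply hχ1
        rw [← hχρ]
        apply Cfsg.Agent.Lib.Helper3.character_eq_one_of_forall_eq_id ρ hρ
        intro y
        have hy : y ∈ N := by rw [hN]; trivial
        exact MonoidHom.mem_ker.mp hy
  -- no nontrivial class of size prime to p
  have hno : ∀ g : G, g ≠ 1 → p ∣ (Subgroup.centralizer ({g} : Set G)).index := by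
    intro g hg
    by_contra hpi
    have h1 := (mem_principalBlock_iff χ).mp hχ g
    unfold Cfsg.centralChar at h1
    rw [hvan g hg hpi, mul_zero, zero_div, sub_zero, memLocalIdeal_natCast_iff hM] at h1
    exact hpi h1
  -- but a Sylow subgroup centralizes some nontrivial element
  obtain ⟨P⟩ : Nonempty (Sylow p G) := inferInstance
  have hex : ∃ g : G, g ≠ 1 ∧ (P : Subgroup G) ≤ Subgroup.centralizer ({g} : Set G) := by
    by_cases hP : Nontrivial (P : Subgroup G)
    · have hcn := IsPGroup.center_nontrivial (P.isPGroup')
      obtain ⟨z, hz⟩ := exists_ne (1 : Subgroup.center (P : Subgroup G))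
      refine ⟨((z : (P : Subgroup G)) : G), ?_, ?_⟩
      · intro h1
        apply hz
        apply Subtype.ext
        apply Subtype.ext
        simpa using h1
      · intro w hw
        rw [Subgroup.mem_centralizer_iff]
        intro v hv
        rw [Set.mem_singleton_iff] at hv
        subst hv
        have h2 := Subgroup.mem_center_iff.mp z.2 ⟨w, hw⟩
        have h3 := congrArg (Subtype.val) h2
        exact Eq.symm (by simpa using h3)
    · refine ⟨a₀, ?_, ?_⟩
      · rintro rfl
        exact hab (by simp)
      · intro w hw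
        have : w = 1 := by
          by_contra hne
          apply hP
          exact ⟨⟨⟨w, hw⟩, 1, fun h => hne (by simpa using congrArg Subtype.val h)⟩⟩
        rw [this]
        exact one_mem _
  obtain ⟨g, hg1, hPg⟩ := hex
  have h1 := hno g hg1
  have h2 : (Subgroup.centralizer ({g} : Set G)).index ∣ (P : Subgroup G).index :=
    Subgroup.index_dvd_of_le hPg
  exact P.not_dvd_index (dvd_trans h1 h2)

end Cfsg.Agent.S0910
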