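import Cfsg.Statements.S0921
import Cfsg.Agent.S0964
import Cfsg.Agent.S0914
import Cfsg.Agent.Lib.Helper30.PPrimeCore
import Cfsg.Agent.Lib.Helper22.Fitting

set_option autoImplicit false
open Cfsg

namespace Cfsg.Agent.S0921

/-- Let N = O_p'(G) be the largest normal subgroup of the finite group G of order prime to p, and fix a maximal ideal M of the algebraic integers containing p. If two irreducible characters χ, ψ of G lie in the same block relative to M, then an irreducible character of N occurs in the restriction of χ exactly when it occurs in the restriction of ψ. -/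
theorem result {G : Type*} [Group G] [Finite G] (p : ℕ) [Fact p.Prime] (M : Ideal Cfsg.AlgInt) (hM : Cfsg.IsPModular p M) [Fintype G] (χ ψ : Cfsg.IrrCharacter G) (h : Cfsg.SameBlock M (χ : G → ℂ) (ψ : G → ℂ)) (θ : Cfsg.IrrCharacter (Cfsg.pPrimeCore p G)) [Fintype (Cfsg.pPrimeCore p G)] : Cfsg.classInner (fun n : Cfsg.pPrimeCore p G => (χ : G → ℂ) n) (θ : Cfsg.pPrimeCore p G → ℂ) ≠ 0 ↔ Cfsg.classInner (fun n : Cfsg.pPrimeCore p G => (ψ : G → ℂ) n) (θ : Cfsg.pPrimeCore p G → ℂ) ≠ 0 := by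
  classical
  have hKn : (Cfsg.pPrimeCore p G).Normal := Cfsg.Agent.Lib.Helper22.pPrimeCore_normal' p G
  have hMp : M.IsPrime := Cfsg.Agent.Lib.Helper81.isPrime_of_isPModular hM
  have hcop : (Nat.card (Cfsg.pPrimeCore p G)).Coprime p :=
    Cfsg.Agent.Lib.Helper30.pPrimeCore_card_coprime p
  have hpK : ¬ p ∣ Nat.card (Cfsg.pPrimeCore p G) := by
    intro hd
    have := Nat.Coprime.eq_one_of_dvd hcop.symm hd
    exact (Fact.out : p.Prime).one_lt.ne' this
  have hb : Cfsg.blockOf M (θ : Cfsg.pPrimeCore p G → ℂ) = {θ} := by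
    rw [← Cfsg.Agent.S0914.result p M hM θ]
    intro hd
    exact hpK (dvd_trans hd (Nat.div_dvd_of_dvd
      (by
        obtain ⟨d, _, _, hd2, hd3⟩ := Cfsg.Agent.Lib.Helper16.irr_degree_spec θ
        rw [hd2]; exact hd3)))
  -- key: for same-block characters, one direction
  have key : ∀ χ ψ : Cfsg.IrrCharacter G, Cfsg.SameBlock M (χ : G → ℂ) (ψ : G → ℂ) →
      Cfsg.classInner (fun n : Cfsg.pPrimeCore p G => (χ : G → ℂ) n)
        (θ : Cfsg.pPrimeCore p G → ℂ) ≠ 0 →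
      Cfsg.classInner (fun n : Cfsg.pPrimeCore p G => (ψ : G → ℂ) n)
        (θ : Cfsg.pPrimeCore p G → ℂ) ≠ 0 := by
    intro χ ψ h hcon
    obtain ⟨φ, hφ⟩ := Cfsg.Agent.Lib.Helper16.exists_constituent (Cfsg.pPrimeCore p G) ψ
    obtain ⟨g, θ', hθ', hg⟩ := Cfsg.Agent.S0964.result p M hM (Cfsg.pPrimeCore p G)
      (Cfsg.blockOf M (χ : G → ℂ)) ⟨χ, rfl⟩ (Cfsg.blockOf M (θ : Cfsg.pPrimeCore p G → ℂ))
      ⟨θ, rfl⟩ χ (Cfsg.Agent.Lib.Helper77.self_mem_blockOf hMp χ) θ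
      (Cfsg.Agent.Lib.Helper77.self_mem_blockOf hMp θ) hcon ψ h φ hφ
    rw [hb] at hθ'
    have hθ'' : θ' = θ := hθ'
    subst hθ''
    have e1 : (φ : Cfsg.pPrimeCore p G → ℂ) =
        Cfsg.Agent.Lib.Helper75.conjFun (Cfsg.pPrimeCore p G) g (θ' : _ → ℂ) := by
      funext n
      rw [Cfsg.Agent.Lib.Helper75.conjFun_apply]
      exact hg n
    have e2 := Cfsg.Agent.Lib.Helper75.classInner_conjFun (Cfsg.pPrimeCore p G) g
      (fun n : Cfsg.pPrimeCore p G => (ψ : G → ℂ) n) (θ' : _ → ℂ)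
    rw [Cfsg.Agent.Lib.Helper75.conjFun_restrict (Cfsg.pPrimeCore p G) g
      (Cfsg.Agent.Lib.Helper77.isClassFunction_of_isCharacter ψ.2), ← e1] at e2
    rw [← e2]
    exact hφ
  exact ⟨key χ ψ h, key ψ χ (Cfsg.Agent.Lib.Helper81.sameBlock_symm h)⟩

end Cfsg.Agent.S0921
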