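import Cfsg.Statements.S0925
import Cfsg.Agent.Lib.Helper77.StrongOrth
import Cfsg.Agent.Lib.Helper77.IndPart
import Cfsg.Agent.Lib.Helper74.PReg1

set_option autoImplicit false
open Cfsg

namespace Cfsg.Agent.S0925

/-- (i) Let ϑ be a class function on the finite group G and x a p-element, and suppose ϑ vanishes at every element whose p-part is conjugate to x. Then for every block B (relative to a maximal ideal M of the algebraic integers containing p) the B-part of ϑ — the sum over χ ∈ B of the inner product of ϑ with χ, times χ — also vanishes at every such element. (ii) Block orthogonality, its corollary: if the p-parts of g and h are not conjugate, then the sum over χ ∈ B of χ g * χ h⁻¹ is zero for every block B. -/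
theorem result {G : Type*} [Group G] [Finite G] (p : ℕ) [Fact p.Prime] (M : Ideal Cfsg.AlgInt) (hM : Cfsg.IsPModular p M) : (∀ (ϑ : G → ℂ), Cfsg.IsClassFunction G ϑ → ∀ x : G, (∃ k : ℕ, orderOf x = p ^ k) → (∀ u z : G, Cfsg.IsPPart p u z → IsConj x z → ϑ u = 0) → ∀ B : Set (Cfsg.IrrCharacter G), Cfsg.IsPBlock M B → ∀ u z : G, Cfsg.IsPPart p u z → IsConj x z → Cfsg.blockPart B ϑ u = 0) ∧ (∀ g h x y : G, Cfsg.IsPPart p g x → Cfsg.IsPPart p h y → ¬ IsConj x y → ∀ B : Set (Cfsg.IrrCharacter G), Cfsg.IsPBlock M B → ∑ᶠ χ ∈ B, (χ : G → ℂ) g * (χ : G → ℂ) h⁻¹ = 0) := by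
  classical
  have := Fintype.ofFinite G
  have := Fintype.ofFinite (Cfsg.IrrCharacter G)
  have hp : p.Prime := Fact.out
  obtain ⟨K, r, N, hcard, hpr, hrN, hN1⟩ := Cfsg.Agent.Lib.Helper77.exists_ppart_exponent G p hp
  have hsbo : ∀ B : Set (Cfsg.IrrCharacter G), Cfsg.IsPBlock M B → ∀ g h x y : G,
      Cfsg.IsPPart p g x → Cfsg.IsPPart p h y → ¬ IsConj x y →
      ∑ χ ∈ Finset.univ.filter (fun χ : Cfsg.IrrCharacter G => χ ∈ B),
        (χ : G → ℂ) g * (starRingEnd ℂ) ((χ : G → ℂ) h) = 0 := by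
    rintro B ⟨χ₀, rfl⟩ g h x y hx hy hxy
    have := Cfsg.Agent.Lib.Helper77.IdemTrace.strong_block_orthogonality_finset hM χ₀ hx hy hxy
    convert this using 2
  constructor
  · intro ϑ hϑ x hx hvan B hB u z huz hxz
    rw [Cfsg.Agent.Lib.Helper77.blockPart_eq_sum]
    have h1 : ∀ χ : Cfsg.IrrCharacter G, Cfsg.classInner ϑ (χ : G → ℂ) * (χ : G → ℂ) u =
        ∑ g : G, (Nat.card G : ℂ)⁻¹ * ϑ g *
          ((χ : G → ℂ) u * (starRingEnd ℂ) ((χ : G → ℂ) g)) := by
      intro χ
      unfold Cfsg.classInner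
      rw [Finset.mul_sum, Finset.sum_mul]
      refine Finset.sum_congr rfl fun g _ => ?_
      ring
    rw [Finset.sum_congr rfl fun χ _ => h1 χ, Finset.sum_comm]
    refine Finset.sum_eq_zero fun g _ => ?_
    rw [← Finset.mul_sum]
    by_cases hg : IsConj x (g ^ N)
    · rw [hvan g (g ^ N) (Cfsg.Agent.Lib.Helper77.isPPart_pow hp hcard hpr hrN hN1 g) hg]
      simp
    · rw [hsbo B hB u g z (g ^ N) huz
        (Cfsg.Agent.Lib.Helper77.isPPart_pow hp hcard hpr hrN hN1 g)
        (fun h => hg (hxz.trans h)), mul_zero]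
  · intro g h x y hx hy hxy B hB
    rw [Cfsg.Agent.Lib.Helper74.finsum_mem_set_eq_sum_filter]
    rw [← hsbo B hB g h x y hx hy hxy]
    refine Finset.sum_congr rfl fun χ _ => ?_
    rw [Cfsg.Agent.Lib.Helper80.irr_conj_inv]

end Cfsg.Agent.S0925
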