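import Cfsg.Statements.S0927
import Cfsg.Agent.Lib.Helper16.DefectVal
import Cfsg.Agent.Lib.Helper81.PSection

set_option autoImplicit false
open Cfsg

namespace Cfsg.Agent.S0927

open Cfsg.Agent.Lib.Helper16 Cfsg.Agent.Lib.Helper77 Cfsg.Agent.Lib.Helper80 Cfsg.Agent.Lib.Helper81

/-- Let B be a block of the finite group G relative to a maximal ideal M of the algebraic integers containing p, let y represent a defect class of B and let P be a Sylow p-subgroup of the centralizer of y. (a) If x ∈ P and χ ∈ B has height zero, then χ (x * y) is not in the local ideal at M. (b) If x lies in the centre of P, then for every χ ∈ B the central character of χ at x * y is not in the local ideal at M. -/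
theorem result {G : Type*} [Group G] [Finite G] (p : ℕ) [Fact p.Prime] (M : Ideal Cfsg.AlgInt) (hM : Cfsg.IsPModular p M) (B : Set (Cfsg.IrrCharacter G)) (hB : Cfsg.IsPBlock M B) (y : G) (hy : Cfsg.IsDefectClass M B y) (P : Sylow p (Subgroup.centralizer ({y} : Set G))) (x : Subgroup.centralizer ({y} : Set G)) (hx : x ∈ (P : Subgroup (Subgroup.centralizer ({y} : Set G)))) : (∀ χ ∈ B, Cfsg.blockHeight p B (χ : G → ℂ) = 0 → ¬ Cfsg.MemLocalIdeal M ((χ : G → ℂ) ((x : G) * y))) ∧ ((∀ w ∈ (P : Subgroup (Subgroup.centralizer ({y} : Set G))), x * w = w * x) → ∀ χ ∈ B, ¬ Cfsg.MemLocalIdeal M (Cfsg.centralChar (χ : G → ℂ) ((x : G) * y))) := by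
  classical
  have := Fintype.ofFinite G
  have hMp : M.IsPrime := isPrime_of_isPModular hM
  have hp : p.Prime := Fact.out
  have hxp : ∃ k : ℕ, orderOf (x : G) = p ^ k := by
    obtain ⟨k, hk⟩ := P.isPGroup' ⟨x, hx⟩
    have h1 : (x : G) ^ (p ^ k) = 1 := by
      have := congrArg (fun z : (P : Subgroup (Subgroup.centralizer ({y} : Set G))) => ((z : (Subgroup.centralizer ({y} : Set G))) : G)) hk
      simpa using this
    obtain ⟨j, _, hj⟩ := (Nat.dvd_prime_pow hp).mp (orderOf_dvd_of_pow_eq_one h1)
    exact ⟨j, hj⟩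
  have hxy : (x : G) * y = y * (x : G) := by
    have := x.2
    rw [Subgroup.mem_centralizer_iff] at this
    exact (this y rfl).symm
  have hvy := val_index_of_isDefectClass p M hM hB hy
  have partA : ∀ χ ∈ B, Cfsg.blockHeight p B (χ : G → ℂ) = 0 →
      ¬ Cfsg.MemLocalIdeal M ((χ : G → ℂ) ((x : G) * y)) := by
    intro χ hχ h0 hmem
    have hv := val_eq_of_height_zero p hχ h0
    have h1 : ¬ Cfsg.MemLocalIdeal M (Cfsg.centralChar (χ : G → ℂ) y) := hy.2.2 χ hχ
    rw [memLocalIdeal_centralChar_iff p M hM χ y (hvy.trans hv.symm)] at h1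
    apply h1
    have h2 := memLocalIdeal_char_mul_sub hM
      (Cfsg.Agent.Lib.Helper3.IsIrrCharacter.isCharacter χ.2) (x : G) y hxy hxp
    have e : (χ : G → ℂ) y = (χ : G → ℂ) ((x : G) * y) -
        ((χ : G → ℂ) ((x : G) * y) - (χ : G → ℂ) y) := by ring
    rw [e]
    exact memLocalIdeal_sub hMp hmem h2
  refine ⟨partA, ?_⟩
  intro hcent χ hχ
  have hne : B.Nonempty := ⟨χ, hχ⟩
  obtain ⟨χ₁, hχ₁B, hχ₁v⟩ := exists_minDegVal p hne
  have h0 : Cfsg.blockHeight p B (χ₁ : G → ℂ) = 0 := by
    rw [blockHeight_eq, hχ₁v]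
    simp
  have hA := partA χ₁ hχ₁B h0
  -- the centralizer of x * y
  set C' := Subgroup.centralizer ({(x : G) * y} : Set G) with hC'
  have hyreg := isPRegular_of_isDefectClass p M hM hB hy
  have hcop : (orderOf (x : G)).Coprime (orderOf y) := by
    obtain ⟨k, hk⟩ := hxp
    rw [hk]
    exact Nat.Coprime.pow_left k ((Nat.Prime.coprime_iff_not_dvd hp).mpr hyreg)
  have hCle : C' ≤ (Subgroup.centralizer ({y} : Set G)) := by
    intro z hz
    rw [hC', Subgroup.mem_centralizer_iff] at hz
    rw [Subgroup.mem_centralizer_iff]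
    intro w hw
    rw [Set.mem_singleton_iff] at hw
    subst hw
    have h1 : Commute z ((x : G) * w) := (hz _ rfl).symm
    exact (commute_right_of_commute_mul hxy hcop h1).eq.symm
  have hPC' : (P : Subgroup (Subgroup.centralizer ({y} : Set G))).map (Subgroup.centralizer ({y} : Set G)).subtype ≤ C' := by
    rintro _ ⟨w, hw, rfl⟩
    rw [hC', Subgroup.mem_centralizer_iff]
    intro v hv
    rw [Set.mem_singleton_iff] at hv
    subst hv
    have h1 : (x : G) * (w : G) = (w : G) * (x : G) := by
      have := congrArg (Subtype.val) (hcent w hw)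
      simpa using this
    have h2 : (w : G) * y = y * (w : G) := by
      have := w.2
      rw [Subgroup.mem_centralizer_iff] at this
      exact (this y rfl).symm
    show (x : G) * y * (w : G) = (w : G) * ((x : G) * y)
    rw [mul_assoc, ← h2, ← mul_assoc, h1, mul_assoc]
  have hcardP : Nat.card ((P : Subgroup (Subgroup.centralizer ({y} : Set G))).map (Subgroup.centralizer ({y} : Set G)).subtype) =
      p ^ (Nat.card (Subgroup.centralizer ({y} : Set G))).factorization p := by
    rw [Subgroup.card_map_of_injective (Subgroup.subtype_injective _),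
      Sylow.card_eq_multiplicity]
  have hv1 : (Nat.card (Subgroup.centralizer ({y} : Set G))).factorization p ≤ (Nat.card C').factorization p := by
    have hd := Subgroup.card_dvd_of_le hPC'
    rw [hcardP] at hd
    exact (Nat.Prime.pow_dvd_iff_le_factorization hp Nat.card_pos.ne').mp hd
  have hv2 : (Nat.card C').factorization p ≤ (Nat.card (Subgroup.centralizer ({y} : Set G))).factorization p :=
    (Nat.factorization_le_iff_dvd Nat.card_pos.ne' Nat.card_pos.ne').mpr
      (Subgroup.card_dvd_of_le hCle) p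
  have hGC : (Nat.card G).factorization p =
      (Nat.card (Subgroup.centralizer ({y} : Set G))).factorization p + ((Subgroup.centralizer ({y} : Set G)).index).factorization p := by
    conv_lhs => rw [← Subgroup.card_mul_index (Subgroup.centralizer ({y} : Set G))]
    rw [Nat.factorization_mul Nat.card_pos.ne' Subgroup.index_ne_zero_of_finite]
    rfl
  have hGC' : (Nat.card G).factorization p =
      (Nat.card C').factorization p + (C'.index).factorization p := by
    conv_lhs => rw [← Subgroup.card_mul_index C']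
    rw [Nat.factorization_mul Nat.card_pos.ne' Subgroup.index_ne_zero_of_finite]
    rfl
  have hvxy : (C'.index).factorization p = minDegVal p B := by
    rw [← hvy]
    omega
  have h3 : ¬ Cfsg.MemLocalIdeal M (Cfsg.centralChar (χ₁ : G → ℂ) ((x : G) * y)) := by
    rw [memLocalIdeal_centralChar_iff p M hM χ₁ ((x : G) * y) (hvxy.trans hχ₁v.symm)]
    exact hA
  have hsame : Cfsg.SameBlock M (χ₁ : G → ℂ) (χ : G → ℂ) := by
    obtain ⟨χ₀, rfl⟩ := hB
    exact sameBlock_trans hMp (sameBlock_symm hχ₁B) hχ
  intro hmem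
  apply h3
  have h4 := hsame ((x : G) * y)
  have e : Cfsg.centralChar (χ₁ : G → ℂ) ((x : G) * y) =
      (Cfsg.centralChar (χ₁ : G → ℂ) ((x : G) * y) - Cfsg.centralChar (χ : G → ℂ) ((x : G) * y)) +
        Cfsg.centralChar (χ : G → ℂ) ((x : G) * y) := by ring
  rw [e]
  exact memLocalIdeal_add hMp h4 hmem

end Cfsg.Agent.S0927
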