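import Cfsg.Statements.S0926
import Cfsg.Agent.S0924
import Cfsg.Agent.S0927
import Cfsg.Agent.Lib.Helper16.DefectVal
import Cfsg.Agent.Lib.Helper16.RegularDet
import Cfsg.Agent.Lib.Helper77.DefectConj

set_option autoImplicit false
open Cfsg

namespace Cfsg.Agent.S0926

open Cfsg.Agent.Lib.Helper16 Cfsg.Agent.Lib.Helper77 Cfsg.Agent.Lib.Helper80 Cfsg.Agent.Lib.Helper81

/-- Let B be a block of the finite group G with defect group D (relative to a maximal ideal M of the algebraic integers containing p), let χ ∈ B have height zero, and let x be a p-element. Then some conjugate of x lies in D if and only if χ does not vanish on the whole p-section of x (the elements whose p-part is conjugate to x). -/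
theorem result {G : Type*} [Group G] [Finite G] (p : ℕ) [Fact p.Prime] (M : Ideal Cfsg.AlgInt) (hM : Cfsg.IsPModular p M) (B : Set (Cfsg.IrrCharacter G)) (hB : Cfsg.IsPBlock M B) (D : Subgroup G) (hD : Cfsg.IsDefectGroup p M B D) (χ : Cfsg.IrrCharacter G) (hχ : χ ∈ B) (h0 : Cfsg.blockHeight p B (χ : G → ℂ) = 0) (x : G) (hx : ∃ k : ℕ, orderOf x = p ^ k) : (∃ g : G, g * x * g⁻¹ ∈ D) ↔ ∃ u : G, (∃ z : G, Cfsg.IsPPart p u z ∧ IsConj x z) ∧ (χ : G → ℂ) u ≠ 0 := by
  classical
  have := Fintype.ofFinite G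
  have hMp : M.IsPrime := isPrime_of_isPModular hM
  have hp : p.Prime := Fact.out
  constructor
  · rintro ⟨g, hg⟩
    obtain ⟨y, hy, P, rfl⟩ := hD
    obtain ⟨x'', hx''P, hx''⟩ := Subgroup.mem_map.mp hg
    have h1 := (Cfsg.Agent.S0927.result p M hM B hB y hy P x'' hx''P).1 χ hχ h0
    have hx''c : ((Subgroup.centralizer ({y} : Set G)).subtype x'' : G) = (x'' : G) := rfl
    rw [hx''c] at hx''
    rw [hx''] at h1
    refine ⟨g * x * g⁻¹ * y, ⟨g * x * g⁻¹, ⟨y, rfl, ?_, ?_, ?_⟩, ?_⟩, ?_⟩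
    · have h2 := x''.2
      rw [Subgroup.mem_centralizer_iff] at h2
      have h3 := h2 y (Set.mem_singleton y)
      rw [hx''] at h3
      exact h3.symm
    · obtain ⟨k, hk⟩ := hx
      refine ⟨k, ?_⟩
      rw [← hk]
      have := orderOf_injective (MulAut.conj g).toMonoidHom (MulAut.conj g).injective x
      simpa [MulAut.conj_apply] using this
    · exact isPRegular_of_isDefectClass p M hM hB hy
    · exact isConj_iff.mpr ⟨g, rfl⟩
    · intro h0'
      apply h1
      rw [h0']
      exact memLocalIdeal_zero hMp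
  · rintro ⟨u, ⟨z, hz, hxz⟩, hne⟩
    have hBeq : B = blockOf M (χ : G → ℂ) := eq_blockOf_of_mem hMp hB hχ
    by_contra hcon
    apply hne
    refine Cfsg.Agent.S0924.result p M hM χ u z hz ?_
    intro D' hD' hzD'
    apply hcon
    rw [hBeq] at hD
    obtain ⟨c, hc⟩ := exists_conj_le_of_isDefectGroup hM χ hD hD'
    obtain ⟨a, ha⟩ := isConj_iff.mp hxz
    refine ⟨c * a, ?_⟩
    have h1 : c * z * c⁻¹ ∈ D := by
      apply hc
      rw [Subgroup.mem_pointwise_smul_iff_inv_smul_mem]
      simpa [MulAut.smul_def, MulAut.conj_apply, mul_assoc] using hzD'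
    rw [← ha] at h1
    have h2 : c * a * x * (c * a)⁻¹ = c * (a * x * a⁻¹) * c⁻¹ := by group
    rw [h2]
    exact h1

end Cfsg.Agent.S0926
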