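import Cfsg.Statements.S0928
import Cfsg.Agent.Lib.Helper16.NormalDefect
import Cfsg.Agent.S0918
import Cfsg.Agent.S0920
import Cfsg.Agent.S0908
import Cfsg.Agent.Lib.Helper77.DefectConj
import Cfsg.Agent.Lib.Helper74.Osima5
import Cfsg.Agent.Lib.Helper1.OrderPCount

set_option autoImplicit false
open Cfsg

namespace Cfsg.Agent.S0928

open Cfsg.Agent.Lib.Helper16 Cfsg.Agent.Lib.Helper77 Cfsg.Agent.Lib.Helper80 Cfsg.Agent.Lib.Helper81
open Cfsg.Agent.Lib.Helper1

theorem orderOf_eq_of_isConj' {G : Type*} [Group G] {g h : G} (hc : IsConj g h) :
    orderOf g = orderOf h := by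
  obtain ⟨c, hc⟩ := hc
  exact hc.orderOf_eq _

/-- Let χ be an irreducible character of the finite group G and p a prime. If χ g = 0 for every element g of order p, then the exponent of p in the degree χ(1) equals the exponent of p in the order of G (χ has p-defect zero). -/
theorem result {G : Type*} [Group G] [Finite G] (p : ℕ) [Fact p.Prime] (χ : Cfsg.IrrCharacter G) (hvan : ∀ g : G, orderOf g = p → (χ : G → ℂ) g = 0) : (Cfsg.charDegree (χ : G → ℂ)).factorization p = (Nat.card G).factorization p := by
  classical
  have := Fintype.ofFinite G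
  have hp : p.Prime := Fact.out
  obtain ⟨M, hM⟩ := Cfsg.Agent.Lib.Helper74.exists_isPModular hp
  have hMp : M.IsPrime := isPrime_of_isPModular hM
  have hB : IsPBlock M (blockOf M (χ : G → ℂ)) := ⟨χ, rfl⟩
  have hχB : χ ∈ blockOf M (χ : G → ℂ) := self_mem_blockOf hMp χ
  obtain ⟨D, hD⟩ := exists_isDefectGroup hM χ
  have hcardD := Cfsg.Agent.S0908.result p M hM _ hB D hD
  by_cases hd : blockDefect p (blockOf M (χ : G → ℂ)) = 0
  · rw [blockDefect_eq] at hd
    have h1 := minDegVal_le p hχB
    obtain ⟨d, hd0, _, hd2, hd3⟩ := irr_degree_spec χ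
    have h2 : (charDegree (χ : G → ℂ)).factorization p ≤ (Nat.card G).factorization p := by
      rw [hd2]
      exact (Nat.factorization_le_iff_dvd hd0.ne' Nat.card_pos.ne').mpr hd3 p
    omega
  · exfalso
    have hDbot : D ≠ ⊥ := by
      intro h
      rw [h, Subgroup.card_bot] at hcardD
      have : blockDefect p (blockOf M (χ : G → ℂ)) = 0 := by
        by_contra hne
        have := Nat.one_lt_pow hne hp.one_lt
        omega
      exact hd this
    have hPp : IsPGroup p D := isPGroup_of_isDefectGroup hD
    obtain ⟨b, ⟨hb, hbD, hbind⟩, -⟩ := (Cfsg.Agent.S0920.result p M hM D hPp).2 _ hB hD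
    have hcong := (Cfsg.Agent.S0918.result p M hM D (Subgroup.normalizer (D : Set G)) hPp
      Subgroup.le_normalizer (Subgroup.centralizer_le_normalizer _) le_rfl b hb _ hB).mp hbind
    have : (D.subgroupOf (Subgroup.normalizer (D : Set G))).Normal :=
      Subgroup.normal_in_normalizer
    obtain ⟨ξ, hξb, hξker, hξdeg⟩ := exists_ker_height_zero p M hM
      (D.subgroupOf (Subgroup.normalizer (D : Set G))) b hb hbD
    have hξ1 : (ξ : Subgroup.normalizer (D : Set G) → ℂ) 1 ≠ 0 := by
      obtain ⟨d, hd0, hd1, _, _⟩ := irr_degree_spec ξ
      rw [hd1]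
      exact Nat.cast_ne_zero.mpr hd0.ne'
    have := Fintype.ofFinite (Subgroup.normalizer (D : Set G))
    -- the count attached to `g`
    have hcount : ∀ g : G, orderOf g = p →
        p ∣ (Finset.univ.filter (fun h : Subgroup.normalizer (D : Set G) =>
          IsConj g (h : G) ∧ (h : G) ∈ Subgroup.centralizer (D : Set G) ∧ (h : G) ∈ D)).card := by
      intro g hg
      have h1 := hcong ξ hξb χ hχB g
      have h0 : Cfsg.centralChar (χ : G → ℂ) g = 0 := by
        unfold Cfsg.centralChar
        rw [hvan g hg, mul_zero, zero_div]
      rw [h0, sub_zero] at h1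
      have hval : Cfsg.brauerCentralChar D (Subgroup.normalizer (D : Set G))
          (ξ : Subgroup.normalizer (D : Set G) → ℂ) g =
          (((Finset.univ.filter (fun h : Subgroup.normalizer (D : Set G) =>
          IsConj g (h : G) ∧ (h : G) ∈ Subgroup.centralizer (D : Set G) ∧ (h : G) ∈ D)).card : ℕ) : ℂ) := by
        unfold Cfsg.brauerCentralChar
        have hset : {h : Subgroup.normalizer (D : Set G) | IsConj g (h : G) ∧
            (h : G) ∈ Subgroup.centralizer (D : Set G)} =
            ((Finset.univ.filter (fun h : Subgroup.normalizer (D : Set G) =>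
              IsConj g (h : G) ∧ (h : G) ∈ Subgroup.centralizer (D : Set G)) :
              Finset (Subgroup.normalizer (D : Set G))) : Set (Subgroup.normalizer (D : Set G))) := by
          ext h
          simp
        rw [hset, finsum_mem_coe_finset]
        have hterm : ∀ h ∈ (Finset.univ.filter (fun h : Subgroup.normalizer (D : Set G) =>
              IsConj g (h : G) ∧ (h : G) ∈ Subgroup.centralizer (D : Set G))),
            (ξ : Subgroup.normalizer (D : Set G) → ℂ) h / (ξ : Subgroup.normalizer (D : Set G) → ℂ) 1 =
              if (h : G) ∈ D then (1 : ℂ) else 0 := by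
          intro h hh
          rw [Finset.mem_filter] at hh
          obtain ⟨-, hconj, hcent⟩ := hh
          by_cases hhD : (h : G) ∈ D
          · rw [if_pos hhD, hξker h (Subgroup.mem_subgroupOf.mpr hhD), div_self hξ1]
          · rw [if_neg hhD]
            have hz : (ξ : Subgroup.normalizer (D : Set G) → ℂ) h = 0 := by
              by_contra hne
              have hord : orderOf h = p := by
                rw [← Subgroup.orderOf_coe, ← orderOf_eq_of_isConj' hconj, hg]
              have hpp : Cfsg.IsPPart p h h :=
                ⟨1, mul_one h, Commute.one_right h, ⟨1, by rw [hord, pow_one]⟩, by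
                  rw [orderOf_one]; exact hp.one_lt.ne' ∘ Nat.dvd_one.mp⟩
              have := ppart_mem_of_ne_zero p (D.subgroupOf (Subgroup.normalizer (D : Set G))) ξ
                hξker hξdeg h hne h hpp
              exact hhD (Subgroup.mem_subgroupOf.mp this)
            rw [hz, zero_div]
        rw [Finset.sum_congr rfl hterm, Finset.sum_ite, Finset.sum_const_zero, add_zero,
          Finset.sum_const, nsmul_eq_mul, mul_one, Finset.filter_filter]
        congr 2
        apply Finset.filter_congr
        intro h _
        tauto
      rw [hval] at h1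
      exact (memLocalIdeal_natCast_iff hM _).mp h1
    -- the set of elements of order `p` in `Z(D)`
    set A : Finset (Subgroup.normalizer (D : Set G)) :=
      Finset.univ.filter (fun h : Subgroup.normalizer (D : Set G) =>
        h ∈ (D ⊓ Subgroup.centralizer (D : Set G)).subgroupOf (Subgroup.normalizer (D : Set G)) ∧
          orderOf h = p) with hA
    have hdvd : p ∣ A.card := by
      apply dvd_card_of_dvd_conj_fibers p (fun h : Subgroup.normalizer (D : Set G) => (h : G)) A
      intro h₀ hh₀ _
      rw [hA, Finset.mem_filter] at hh₀
      obtain ⟨-, hh₀Z, hh₀o⟩ := hh₀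
      have hg : orderOf (h₀ : G) = p := by rw [Subgroup.orderOf_coe, hh₀o]
      have := hcount (h₀ : G) hg
      convert this using 2
      rw [hA, Finset.filter_filter]
      ext h
      simp only [Finset.mem_filter, Finset.mem_univ, true_and]
      rw [Subgroup.mem_subgroupOf, Subgroup.mem_inf]
      constructor
      · rintro ⟨⟨⟨h1, h2⟩, -⟩, h3⟩
        exact ⟨h3, h2, h1⟩
      · rintro ⟨h3, h2, h1⟩
        refine ⟨⟨⟨h1, h2⟩, ?_⟩, h3⟩
        rw [← Subgroup.orderOf_coe, ← orderOf_eq_of_isConj' h3, hg]
    have hnot : ¬ p ∣ A.card := by
      rw [hA]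
      apply not_dvd_card_orderOf_eq_prime p
      · -- p-group
        have hle : (D ⊓ Subgroup.centralizer (D : Set G)).subgroupOf (Subgroup.normalizer (D : Set G)) ≤
            D.subgroupOf (Subgroup.normalizer (D : Set G)) := by
          intro h hh
          rw [Subgroup.mem_subgroupOf] at hh ⊢
          exact hh.1
        have hDN : IsPGroup p (D.subgroupOf (Subgroup.normalizer (D : Set G))) := by
          have := hPp.comap_of_injective (Subgroup.normalizer (D : Set G)).subtype
            (Subgroup.subtype_injective _)
          exact this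
        exact hDN.to_le hle
      · -- nontrivial
        intro hbot
        have : Nontrivial D := by
          rw [Subgroup.nontrivial_iff_ne_bot]
          exact hDbot
        have := Fintype.ofFinite D
        have hcen := IsPGroup.center_nontrivial (G := D) (p := p)
          (by
            intro x
            obtain ⟨k, hk⟩ := hPp x
            exact ⟨k, hk⟩)
        obtain ⟨z, hz⟩ := exists_ne (1 : Subgroup.center D)
        have hzN : ((z : D) : G) ∈ Subgroup.normalizer (D : Set G) :=
          Subgroup.le_normalizer (z : D).2
        have hzmem : (⟨((z : D) : G), hzN⟩ : Subgroup.normalizer (D : Set G)) ∈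
            (D ⊓ Subgroup.centralizer (D : Set G)).subgroupOf (Subgroup.normalizer (D : Set G)) := by
          rw [Subgroup.mem_subgroupOf, Subgroup.mem_inf]
          refine ⟨(z : D).2, ?_⟩
          rw [Subgroup.mem_centralizer_iff]
          intro w hw
          have := Subgroup.mem_center_iff.mp z.2 ⟨w, hw⟩
          exact congrArg (fun t : D => (t : G)) this
        rw [hbot, Subgroup.mem_bot] at hzmem
        apply hz
        apply Subtype.ext
        apply Subtype.ext
        exact congrArg (fun t : Subgroup.normalizer (D : Set G) => (t : G)) hzmem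
      · -- commutative
        intro a ha c hc
        rw [Subgroup.mem_subgroupOf, Subgroup.mem_inf] at ha hc
        apply Subtype.ext
        have := Subgroup.mem_centralizer_iff.mp ha.2 (c : G) hc.1
        exact this.symm
    exact hnot hdvd

end Cfsg.Agent.S0928
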