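import Cfsg.Statements.S0930
import Cfsg.Agent.S0929
import Cfsg.Agent.S0927
import Cfsg.Agent.S0933

set_option autoImplicit false
open Cfsg

namespace Cfsg.Agent.S0930

open Cfsg.Agent.Lib.Helper16 Cfsg.Agent.Lib.Helper77 Cfsg.Agent.Lib.Helper80 Cfsg.Agent.Lib.Helper81

/-- Let H be a subgroup of the finite group G and fix a maximal ideal M of the algebraic integers containing the prime p. If the block b of H with defect group D induces the block B of G with defect group P, then every element of the centre of P is conjugate in G to an element of the centre of D. -/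
theorem result {G : Type*} [Group G] [Finite G] (p : ℕ) [Fact p.Prime] (M : Ideal Cfsg.AlgInt) (hM : Cfsg.IsPModular p M) (H : Subgroup G) (b : Set (Cfsg.IrrCharacter H)) (B : Set (Cfsg.IrrCharacter G)) (hind : Cfsg.IsInducedBlock M H b B) (D : Subgroup H) (hD : Cfsg.IsDefectGroup p M b D) (P : Subgroup G) (hP : Cfsg.IsDefectGroup p M B P) (x : G) (hx : x ∈ P) (hxc : ∀ w ∈ P, x * w = w * x) : ∃ g : G, g * x * g⁻¹ ∈ D.map H.subtype ∧ ∀ w ∈ D.map H.subtype, (g * x * g⁻¹) * w = w * (g * x * g⁻¹) := by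
  classical
  have := Fintype.ofFinite G
  have := Fintype.ofFinite H
  have hMp : M.IsPrime := isPrime_of_isPModular hM
  have hp : p.Prime := Fact.out
  obtain ⟨hb, hB, hcong⟩ := hind
  obtain ⟨y, hy, Q, hPQ⟩ := hP
  -- x as an element of the centralizer of y, lying in Q
  have hxQ : x ∈ (Q : Subgroup (Subgroup.centralizer ({y} : Set G))).map
      (Subgroup.centralizer ({y} : Set G)).subtype := hPQ ▸ hx
  obtain ⟨x', hx'Q, hx'x⟩ := hxQ
  have hx'x' : (x' : G) = x := hx'x
  have hcent : ∀ w ∈ (Q : Subgroup (Subgroup.centralizer ({y} : Set G))), x' * w = w * x' := by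
    intro w hw
    apply Subtype.ext
    have hwP : (w : G) ∈ P := by
      rw [hPQ]
      exact ⟨w, hw, rfl⟩
    have := hxc (w : G) hwP
    simpa [hx'x'] using this
  have h927 := (Cfsg.Agent.S0927.result p M hM B hB y hy Q x' hx'Q).2 hcent
  rw [hx'x'] at h927
  have hbne : b.Nonempty := by
    obtain ⟨ξ₀, rfl⟩ := hb
    exact ⟨ξ₀, self_mem_blockOf hMp ξ₀⟩
  have hBne : B.Nonempty := by
    obtain ⟨χ₀, rfl⟩ := hB
    exact ⟨χ₀, self_mem_blockOf hMp χ₀⟩
  obtain ⟨ξ, hξ⟩ := hbne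
  obtain ⟨χ, hχ⟩ := hBne
  have h1 := hcong ξ hξ χ hχ (x * y)
  have h2 : ¬ Cfsg.MemLocalIdeal M (Cfsg.inducedCentralChar H (ξ : H → ℂ) (x * y)) := by
    intro hmem
    apply h927 χ hχ
    have e : Cfsg.centralChar (χ : G → ℂ) (x * y) =
        Cfsg.inducedCentralChar H (ξ : H → ℂ) (x * y) -
        (Cfsg.inducedCentralChar H (ξ : H → ℂ) (x * y) -
          Cfsg.centralChar (χ : G → ℂ) (x * y)) := by ring
    rw [e]
    exact memLocalIdeal_sub hMp hmem h1
  -- some H-class in the G-class of x * y has central character outside the local ideal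
  obtain ⟨k, hkconj, hkcc⟩ : ∃ k : H, IsConj (x * y) (k : G) ∧
      ¬ Cfsg.MemLocalIdeal M (Cfsg.centralChar (ξ : H → ℂ) k) := by
    by_contra hcon
    push Not at hcon
    apply h2
    rw [Cfsg.Agent.S0933.icc_eq_omega, omega_eq_sum_conjClasses
      (isClassFunction_of_isCharacter ξ.2)]
    · refine memLocalIdeal_sum hMp _ _ fun c _ => ?_
      by_cases hc : IsConj (x * y) ((Quotient.out c : H) : G)
      · rw [if_pos hc, one_mul]
        exact hcon _ hc
      · rw [if_neg hc, zero_mul]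
        exact memLocalIdeal_zero hMp
    · intro k t
      have hiff : IsConj (x * y) ((t * k * t⁻¹ : H) : G) ↔ IsConj (x * y) (k : G) := by
        have hconj : IsConj (k : G) ((t * k * t⁻¹ : H) : G) :=
          isConj_iff.mpr ⟨(t : G), by simp⟩
        exact ⟨fun h => h.trans hconj.symm, fun h => h.trans hconj⟩
      beta_reduce
      by_cases hk : IsConj (x * y) (k : G)
      · rw [if_pos hk, if_pos (hiff.mpr hk)]
      · rw [if_neg hk, if_neg (fun h => hk (hiff.mp h))]
  obtain ⟨k', hkk', hk'D, hk'part⟩ := Cfsg.Agent.S0929.result p M hM b hb D hD k ⟨ξ, hξ, hkcc⟩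
  -- conjugating element in G
  have hconjG : IsConj (x * y) (k' : G) := by
    refine hkconj.trans ?_
    obtain ⟨t, ht⟩ := isConj_iff.mp hkk'
    exact isConj_iff.mpr ⟨(t : G), by rw [← ht]; simp⟩
  obtain ⟨t, ht⟩ := isConj_iff.mp hconjG
  -- p-part of x * y
  have hxp : ∃ j : ℕ, orderOf x = p ^ j := by
    obtain ⟨j, hj⟩ := Q.isPGroup' ⟨x', hx'Q⟩
    have h1 : x ^ (p ^ j) = 1 := by
      have := congrArg (fun z : (Q : Subgroup (Subgroup.centralizer ({y} : Set G))) =>
        ((z : Subgroup.centralizer ({y} : Set G)) : G)) hj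
      simpa [hx'x'] using this
    obtain ⟨i, _, hi⟩ := (Nat.dvd_prime_pow hp).mp (orderOf_dvd_of_pow_eq_one h1)
    exact ⟨i, hi⟩
  have hyreg := isPRegular_of_isDefectClass p M hM hB hy
  have hxy : Commute x y := by
    have := x'.2
    rw [Subgroup.mem_centralizer_iff] at this
    have h3 := (this y rfl).symm
    rw [hx'x'] at h3
    exact h3
  have hpart : Cfsg.IsPPart p (k' : G) (t * x * t⁻¹) := by
    obtain ⟨j, hj⟩ := hxp
    refine ⟨t * y * t⁻¹, ?_, ?_, ⟨j, ?_⟩, ?_⟩
    · rw [← ht]; group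
    · show t * x * t⁻¹ * (t * y * t⁻¹) = t * y * t⁻¹ * (t * x * t⁻¹)
      calc t * x * t⁻¹ * (t * y * t⁻¹) = t * (x * y) * t⁻¹ := by group
        _ = t * (y * x) * t⁻¹ := by rw [hxy.eq]
        _ = t * y * t⁻¹ * (t * x * t⁻¹) := by group
    · rw [← hj]
      exact orderOf_injective (MulAut.conj t).toMonoidHom (MulAut.conj t).injective x
    · have : orderOf (t * y * t⁻¹) = orderOf y :=
        orderOf_injective (MulAut.conj t).toMonoidHom (MulAut.conj t).injective y
      rw [this]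
      exact hyreg
  have hzpow := mem_zpowers_of_isPPart hpart
  have hzH : t * x * t⁻¹ ∈ H := (Subgroup.zpowers_le.mpr k'.2) hzpow
  have hpart' : Cfsg.IsPPart p k' (⟨t * x * t⁻¹, hzH⟩ : H) := by
    obtain ⟨y₁, hzy, hcomm, ⟨j, hj⟩, hy₁⟩ := hpart
    have hyH : y₁ ∈ H := by
      have : y₁ = (t * x * t⁻¹)⁻¹ * (k' : G) := by rw [← hzy]; group
      rw [this]
      exact mul_mem (inv_mem hzH) k'.2
    refine ⟨⟨y₁, hyH⟩, Subtype.ext hzy, Subtype.ext hcomm.eq, ⟨j, ?_⟩, ?_⟩
    · rw [← hj]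
      exact Subgroup.orderOf_mk _ hzH
    · rw [Subgroup.orderOf_mk y₁ hyH]
      exact hy₁
  obtain ⟨hzD, hzcomm⟩ := hk'part _ hpart'
  refine ⟨t, ⟨⟨t * x * t⁻¹, hzH⟩, hzD, rfl⟩, ?_⟩
  rintro _ ⟨w, hw, rfl⟩
  have := congrArg Subtype.val (hzcomm w hw)
  simpa using this

end Cfsg.Agent.S0930
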