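import Cfsg.Statements.S0931
import Cfsg.Agent.S0927
import Cfsg.Agent.S0933
import Cfsg.Agent.Lib.Helper74.DZ4

set_option autoImplicit false
open Cfsg

namespace Cfsg.Agent.S0931

open Cfsg.Agent.Lib.Helper16 Cfsg.Agent.Lib.Helper77 Cfsg.Agent.Lib.Helper80 Cfsg.Agent.Lib.Helper81

/-- Let H be a subgroup of the finite group G and fix a maximal ideal M of the algebraic integers containing the prime p. If the block b of H induces the block B of G, then b has defect 0 if and only if B has defect 0. -/
theorem result {G : Type*} [Group G] [Finite G] (p : ℕ) [Fact p.Prime] (M : Ideal Cfsg.AlgInt) (hM : Cfsg.IsPModular p M) (H : Subgroup G) (b : Set (Cfsg.IrrCharacter H)) (B : Set (Cfsg.IrrCharacter G)) (hind : Cfsg.IsInducedBlock M H b B) : Cfsg.blockDefect p b = 0 ↔ Cfsg.blockDefect p B = 0 := by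
  classical
  have := Fintype.ofFinite G
  have := Fintype.ofFinite H
  have hMp : M.IsPrime := isPrime_of_isPModular hM
  have hp : p.Prime := Fact.out
  obtain ⟨hb, hB, hcong⟩ := hind
  have hbne : b.Nonempty := by
    obtain ⟨ξ₀, rfl⟩ := hb
    exact ⟨ξ₀, self_mem_blockOf hMp ξ₀⟩
  have hBne : B.Nonempty := by
    obtain ⟨χ₀, rfl⟩ := hB
    exact ⟨χ₀, self_mem_blockOf hMp χ₀⟩
  obtain ⟨ψ, hψ⟩ := hBne
  -- a defect class of B
  obtain ⟨y, hy⟩ : ∃ y : G, Cfsg.IsDefectClass M B y := by
    obtain ⟨χ₀, rfl⟩ := hB
    exact exists_isDefectClass hM χ₀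
  have hvalC := val_centralizer_of_isDefectClass p M hM hB hy
  rw [← blockDefect_eq] at hvalC
  obtain ⟨ξ₁, hξ₁b, hξ₁v⟩ := exists_minDegVal p hbne
  have hle := minDegVal_le_card p hbne
  constructor
  · intro hb0
    rw [blockDefect_eq] at hb0
    have hmin : minDegVal p b = (Nat.card H).factorization p := by omega
    -- ξ₁ vanishes on p-singular elements
    have hvan : ∀ k : H, p ∣ orderOf k → (ξ₁ : H → ℂ) k = 0 := by
      intro k hk
      apply Cfsg.Agent.Lib.Helper74.dz_vanish ξ₁ p hp _ k hk
      rw [← hmin, ← hξ₁v]
      exact Nat.ordProj_dvd _ _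
    -- central characters of B vanish mod J on p-singular elements
    have hsing : ∀ g : G, p ∣ orderOf g →
        Cfsg.MemLocalIdeal M (Cfsg.centralChar (ψ : G → ℂ) g) := by
      intro g hg
      have h1 := hcong ξ₁ hξ₁b ψ hψ g
      have h2 : Cfsg.inducedCentralChar H (ξ₁ : H → ℂ) g = 0 := by
        unfold Cfsg.inducedCentralChar
        apply finsum_mem_eq_zero_of_forall_eq_zero
        intro k hk
        have hk' : IsConj g (k : G) := hk
        have hord : orderOf k = orderOf g := by
          rw [← Subgroup.orderOf_coe]
          obtain ⟨c, hc⟩ := isConj_iff.mp hk'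
          rw [← hc]
          exact orderOf_injective (MulAut.conj c).toMonoidHom (MulAut.conj c).injective g
        rw [hvan k (hord ▸ hg), zero_div]
      rw [h2, zero_sub] at h1
      have := memLocalIdeal_neg h1
      rwa [neg_neg] at this
    -- the Sylow subgroup of the centralizer of y is trivial
    obtain ⟨P⟩ : Nonempty (Sylow p (Subgroup.centralizer ({y} : Set G))) := inferInstance
    by_contra hne
    have hPnt : Nontrivial (P : Subgroup (Subgroup.centralizer ({y} : Set G))) := by
      by_contra hnt
      rw [not_nontrivial_iff_subsingleton] at hnt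
      apply hne
      rw [← hvalC]
      have hcard : Nat.card (P : Subgroup (Subgroup.centralizer ({y} : Set G))) = 1 :=
        Nat.card_eq_one_iff_unique.mpr ⟨hnt, ⟨1⟩⟩
      rw [Sylow.card_eq_multiplicity] at hcard
      exact (Nat.pow_eq_one.mp hcard).resolve_left hp.ne_one
    have hcn := IsPGroup.center_nontrivial (P.isPGroup')
    obtain ⟨z, hz⟩ := exists_ne
      (1 : Subgroup.center (P : Subgroup (Subgroup.centralizer ({y} : Set G))))
    have hzP := (z : (P : Subgroup (Subgroup.centralizer ({y} : Set G)))).2
    have hres := (Cfsg.Agent.S0927.result p M hM B hB y hy P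
      ((z : (P : Subgroup (Subgroup.centralizer ({y} : Set G)))) :
        Subgroup.centralizer ({y} : Set G)) hzP).2
    have hcomm : ∀ w ∈ (P : Subgroup (Subgroup.centralizer ({y} : Set G))),
        ((z : (P : Subgroup (Subgroup.centralizer ({y} : Set G)))) :
          Subgroup.centralizer ({y} : Set G)) * w =
        w * ((z : (P : Subgroup (Subgroup.centralizer ({y} : Set G)))) :
          Subgroup.centralizer ({y} : Set G)) := by
      intro w hw
      have h2 := Subgroup.mem_center_iff.mp z.2 ⟨w, hw⟩
      have h3 := congrArg (Subtype.val) h2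
      exact Eq.symm (by simpa using h3)
    apply hres hcomm ψ hψ
    apply hsing
    -- the order of z * y
    set zG : G := (((z : (P : Subgroup (Subgroup.centralizer ({y} : Set G)))) :
        Subgroup.centralizer ({y} : Set G)) : G) with hzG
    have hzG1 : zG ≠ 1 := by
      intro h1
      apply hz
      apply Subtype.ext
      apply Subtype.ext
      apply Subtype.ext
      simpa [hzG] using h1
    have hzGp : ∃ k : ℕ, orderOf zG = p ^ k := by
      obtain ⟨k, hk⟩ := P.isPGroup' (z : (P : Subgroup (Subgroup.centralizer ({y} : Set G))))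
      have h1 : zG ^ (p ^ k) = 1 := by
        have := congrArg (fun w : (P : Subgroup (Subgroup.centralizer ({y} : Set G))) =>
          ((w : Subgroup.centralizer ({y} : Set G)) : G)) hk
        simpa using this
      obtain ⟨j, _, hj⟩ := (Nat.dvd_prime_pow hp).mp (orderOf_dvd_of_pow_eq_one h1)
      exact ⟨j, hj⟩
    obtain ⟨k, hk⟩ := hzGp
    have hk0 : k ≠ 0 := by
      intro h0
      rw [h0, pow_zero, orderOf_eq_one_iff] at hk
      exact hzG1 hk
    have hyreg := isPRegular_of_isDefectClass p M hM hB hy
    have hcm : Commute zG y := by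
      have := ((z : (P : Subgroup (Subgroup.centralizer ({y} : Set G)))) :
        Subgroup.centralizer ({y} : Set G)).2
      rw [Subgroup.mem_centralizer_iff] at this
      exact (this y rfl).symm
    have hcop : (orderOf zG).Coprime (orderOf y) := by
      rw [hk]
      exact Nat.Coprime.pow_left k ((Nat.Prime.coprime_iff_not_dvd hp).mpr hyreg)
    rw [hcm.orderOf_mul_eq_mul_orderOf_of_coprime hcop, hk]
    exact dvd_mul_of_dvd_left (dvd_pow_self p hk0) _
  · intro hB0
    rw [hB0] at hvalC
    by_contra hne
    rw [blockDefect_eq] at hne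
    have hlt : (Cfsg.charDegree (ξ₁ : H → ℂ)).factorization p < (Nat.card H).factorization p := by
      omega
    have key : ∀ k₀ : H, IsConj y (k₀ : G) →
        (Cfsg.charDegree (ξ₁ : H → ℂ)).factorization p <
          ((Subgroup.centralizer ({k₀} : Set H)).index).factorization p := by
      intro k₀ hc
      refine lt_of_lt_of_le hlt ?_
      have hcard : (Nat.card (Subgroup.centralizer ({k₀} : Set H))).factorization p = 0 := by
        have hinj : Nat.card (Subgroup.centralizer ({k₀} : Set H)) ∣
            Nat.card (Subgroup.centralizer ({(k₀ : G)} : Set G)) := by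
          have hmap : (Subgroup.centralizer ({k₀} : Set H)).map H.subtype ≤
              Subgroup.centralizer ({(k₀ : G)} : Set G) := by
            rintro _ ⟨k, hk, rfl⟩
            have hk' := Subgroup.mem_centralizer_iff.mp hk k₀ rfl
            rw [Subgroup.mem_centralizer_iff]
            intro v hv
            rw [Set.mem_singleton_iff] at hv
            subst hv
            have := congrArg Subtype.val hk'
            simpa using this
          have := Subgroup.card_dvd_of_le hmap
          rwa [Subgroup.card_map_of_injective (Subgroup.subtype_injective _)] at this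
        have hcardG : Nat.card (Subgroup.centralizer ({(k₀ : G)} : Set G)) =
            Nat.card (Subgroup.centralizer ({y} : Set G)) := by
          obtain ⟨t, ht⟩ := isConj_iff.mp hc
          rw [← ht]
          have : Subgroup.centralizer ({t * y * t⁻¹} : Set G) =
              (Subgroup.centralizer ({y} : Set G)).map (MulAut.conj t).toMonoidHom := by
            ext v
            simp only [Subgroup.mem_centralizer_iff, Set.mem_singleton_iff, forall_eq,
              Subgroup.mem_map, MulEquiv.coe_toMonoidHom, MulAut.conj_apply]
            constructor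
            · intro hv
              refine ⟨t⁻¹ * v * t, ?_, by group⟩
              have : t⁻¹ * (t * y * t⁻¹ * v) * t = t⁻¹ * (v * (t * y * t⁻¹)) * t := by
                rw [hv]
              calc y * (t⁻¹ * v * t) = t⁻¹ * (t * y * t⁻¹ * v) * t := by group
                _ = t⁻¹ * (v * (t * y * t⁻¹)) * t := this
                _ = t⁻¹ * v * t * y := by group
            · rintro ⟨u, hu, rfl⟩
              calc t * y * t⁻¹ * (t * u * t⁻¹) = t * (y * u) * t⁻¹ := by group
                _ = t * (u * y) * t⁻¹ := by rw [hu]
                _ = t * u * t⁻¹ * (t * y * t⁻¹) := by group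
          rw [this, Subgroup.card_map_of_injective (MulAut.conj t).injective]
        have h3 : (Nat.card (Subgroup.centralizer ({k₀} : Set H))).factorization p ≤
            (Nat.card (Subgroup.centralizer ({y} : Set G))).factorization p := by
          rw [← hcardG]
          exact (Nat.factorization_le_iff_dvd Nat.card_pos.ne' Nat.card_pos.ne').mpr hinj p
        omega
      have hHC : (Nat.card H).factorization p =
          (Nat.card (Subgroup.centralizer ({k₀} : Set H))).factorization p +
          ((Subgroup.centralizer ({k₀} : Set H)).index).factorization p := by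
        conv_lhs => rw [← Subgroup.card_mul_index (Subgroup.centralizer ({k₀} : Set H))]
        rw [Nat.factorization_mul Nat.card_pos.ne' Subgroup.index_ne_zero_of_finite]
        rfl
      omega
    apply hy.2.2 ψ hψ
    have h1 := hcong ξ₁ hξ₁b ψ hψ y
    have h2 : Cfsg.MemLocalIdeal M (Cfsg.inducedCentralChar H (ξ₁ : H → ℂ) y) := by
      rw [Cfsg.Agent.S0933.icc_eq_omega, omega_eq_sum_conjClasses
        (isClassFunction_of_isCharacter ξ₁.2)]
      · refine memLocalIdeal_sum hMp _ _ fun c _ => ?_
        by_cases hc : IsConj y ((Quotient.out c : H) : G)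
        · rw [if_pos hc, one_mul]
          apply memLocalIdeal_centralChar_of_lt p M hM
          exact key _ hc
        · rw [if_neg hc, zero_mul]
          exact memLocalIdeal_zero hMp
      · intro k t
        have hiff : IsConj y ((t * k * t⁻¹ : H) : G) ↔ IsConj y (k : G) := by
          have hconj : IsConj (k : G) ((t * k * t⁻¹ : H) : G) :=
            isConj_iff.mpr ⟨(t : G), by simp⟩
          exact ⟨fun h => h.trans hconj.symm, fun h => h.trans hconj⟩
        beta_reduce
        by_cases hk : IsConj y (k : G)
        · rw [if_pos hk, if_pos (hiff.mpr hk)]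
        · rw [if_neg hk, if_neg (fun h => hk (hiff.mp h))]
    have e : Cfsg.centralChar (ψ : G → ℂ) y = Cfsg.inducedCentralChar H (ξ₁ : H → ℂ) y -
        (Cfsg.inducedCentralChar H (ξ₁ : H → ℂ) y - Cfsg.centralChar (ψ : G → ℂ) y) := by ring
    rw [e]
    exact memLocalIdeal_sub hMp h2 h1

end Cfsg.Agent.S0931
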