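import Cfsg.Statements.S0934
import Cfsg.Agent.Lib.Helper77.InducedOmega

set_option autoImplicit false
open Cfsg

namespace Cfsg.Agent.S0934

/-- Let H be a subgroup of the finite group G and fix a maximal ideal M of the algebraic integers containing the prime p. If the block b of H induces the block B of G and ξ ∈ b, then there is χ ∈ B whose restriction to H has nonzero inner product with ξ. -/
theorem result {G : Type*} [Group G] [Fintype G] (p : ℕ) [Fact p.Prime] (M : Ideal Cfsg.AlgInt) (hM : Cfsg.IsPModular p M) (H : Subgroup G) [Fintype H] (b : Set (Cfsg.IrrCharacter H)) (B : Set (Cfsg.IrrCharacter G)) (hind : Cfsg.IsInducedBlock M H b B) (ξ : Cfsg.IrrCharacter H) (hξ : ξ ∈ b) : ∃ χ ∈ B, Cfsg.classInner (fun h : H => (χ : G → ℂ) h) (ξ : H → ℂ) ≠ 0 := by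
  classical
  have := Fintype.ofFinite (Cfsg.IrrCharacter G)
  have hMp : M.IsPrime := Cfsg.Agent.Lib.Helper81.isPrime_of_isPModular hM
  obtain ⟨χ₀, rfl⟩ := hind.2.1
  have hχ₀ : χ₀ ∈ Cfsg.blockOf M (χ₀ : G → ℂ) := Cfsg.Agent.Lib.Helper81.sameBlock_refl hMp _
  have heZ := Cfsg.Agent.Lib.Helper77.ZS.blockCoeff hM χ₀
  have h1 := Cfsg.Agent.Lib.Helper77.memLocalIdeal_omega_restrict_sub hMp H hind hξ hχ₀ heZ
  rw [Cfsg.Agent.Lib.Helper77.omega_blockCoeff, if_pos hχ₀] at h1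
  have h2 : Cfsg.Agent.Lib.Helper77.omega (ξ : H → ℂ)
      (fun h : H => Cfsg.blockCoeff (Cfsg.blockOf M (χ₀ : G → ℂ)) (h : G)) ≠ 0 := by
    intro h0
    rw [h0, zero_sub] at h1
    exact Cfsg.Agent.Lib.Helper81.not_memLocalIdeal_one hMp
      (by simpa using Cfsg.Agent.Lib.Helper81.memLocalIdeal_neg h1)
  have h3 : ∑ h : H, Cfsg.blockCoeff (Cfsg.blockOf M (χ₀ : G → ℂ)) (h : G) * (ξ : H → ℂ) h ≠ 0 := by
    intro h0
    apply h2
    unfold Cfsg.Agent.Lib.Helper77.omega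
    rw [h0, zero_div]
  rw [Cfsg.Agent.Lib.Helper77.sum_blockCoeff_mul] at h3
  have h4 : ∑ χ ∈ Finset.univ.filter (fun χ : Cfsg.IrrCharacter G =>
      χ ∈ Cfsg.blockOf M (χ₀ : G → ℂ)), (χ : G → ℂ) 1 *
        ∑ h : H, (starRingEnd ℂ) ((χ : G → ℂ) h) * (ξ : H → ℂ) h ≠ 0 := by
    intro h0
    apply h3
    rw [h0, mul_zero]
  obtain ⟨χ, hχ, hne⟩ := Finset.exists_ne_zero_of_sum_ne_zero h4
  rw [Finset.mem_filter] at hχ
  refine ⟨χ, hχ.2, ?_⟩
  intro h0
  apply hne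
  unfold Cfsg.classInner at h0
  have hcard : (Nat.card H : ℂ)⁻¹ ≠ 0 := by
    apply inv_ne_zero
    exact_mod_cast Nat.card_pos.ne'
  have h5 := (mul_eq_zero.mp h0).resolve_left hcard
  have h6 := congrArg (starRingEnd ℂ) h5
  rw [map_sum, map_zero] at h6
  simp only [map_mul, Complex.conj_conj] at h6
  rw [h6, mul_zero]

end Cfsg.Agent.S0934
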