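import Cfsg.Statements.S0937
import Cfsg.Agent.Lib.Helper16.HeightRestrict
import Cfsg.Agent.Lib.Helper16.RegularDet
import Cfsg.Agent.Lib.Helper79.Basic
import Cfsg.Agent.S4431

set_option autoImplicit false
open Cfsg

namespace Cfsg.Agent.S0937

open Cfsg.Agent.Lib.Helper16 Cfsg.Agent.Lib.Helper77 Cfsg.Agent.Lib.Helper80 Cfsg.Agent.Lib.Helper81

/-- Let H be a subgroup of the finite group G and fix a maximal ideal M of the algebraic integers containing the prime p. If the block b of H induces the block B of G and χ ∈ B has height zero, then there is ξ ∈ b of height zero whose multiplicity in the restriction of χ to H is a natural number not divisible by p. -/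
theorem result {G : Type*} [Group G] [Fintype G] (p : ℕ) [Fact p.Prime] (M : Ideal Cfsg.AlgInt) (hM : Cfsg.IsPModular p M) (H : Subgroup G) [Fintype H] (b : Set (Cfsg.IrrCharacter H)) (B : Set (Cfsg.IrrCharacter G)) (hind : Cfsg.IsInducedBlock M H b B) (χ : Cfsg.IrrCharacter G) (hχ : χ ∈ B) (h0 : Cfsg.blockHeight p B (χ : G → ℂ) = 0) : ∃ ξ ∈ b, Cfsg.blockHeight p b (ξ : H → ℂ) = 0 ∧ ∃ n : ℕ, Cfsg.classInner (fun h : H => (χ : G → ℂ) h) (ξ : H → ℂ) = (n : ℂ) ∧ ¬ p ∣ n := by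
  classical
  have hp : p.Prime := Fact.out
  have hMp : M.IsPrime := isPrime_of_isPModular hM
  have hb : IsPBlock M b := hind.1
  obtain ⟨ξ₀, hξ₀⟩ := hb
  have hξ₀b : ξ₀ ∈ b := by rw [hξ₀]; exact sameBlock_refl hMp _
  obtain ⟨ψ, hψb, hψmin⟩ := exists_minDegVal p (B := b) ⟨ξ₀, hξ₀b⟩
  have hψ0 : blockHeight p b (ψ : H → ℂ) = 0 := by rw [blockHeight_eq, hψmin]; simp
  have hbeq : b = blockOf M (ψ : H → ℂ) := eq_blockOf_of_mem hMp ⟨ξ₀, hξ₀⟩ hψb
  have h := (Cfsg.Agent.S4431.result p M hM H b B hind χ ψ hψb).2 hχ h0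
  have hchar : IsCharacter H (fun h : H => (χ : G → ℂ) h) :=
    Cfsg.Agent.Lib.Helper79.isCharacter_comp
      (Cfsg.Agent.Lib.Helper3.IsIrrCharacter.isCharacter χ.2) H.subtype
  exact exists_height_zero_constituent p M hM b (fun h : H => (χ : G → ℂ) h) hchar ψ hψb hbeq
    hψ0 h

end Cfsg.Agent.S0937
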