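import Cfsg.Statements.S0935
import Cfsg.Agent.S0937
import Cfsg.Agent.Lib.Helper74.PReg4
import Cfsg.Agent.Lib.Helper3.CharBasic

set_option autoImplicit false
open Cfsg

namespace Cfsg.Agent.S0935

open Cfsg.Agent.Lib.Helper16 Cfsg.Agent.Lib.Helper77 Cfsg.Agent.Lib.Helper80 Cfsg.Agent.Lib.Helper81

/-- Let H be a subgroup of the finite group G and χ an irreducible character of G whose restriction to H is irreducible; fix a maximal ideal M of the algebraic integers containing the prime p and suppose χ and its restriction have height zero in their blocks B and b. If e is a block of H whose induced block is defined, then e induces B if and only if e = b. -/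
theorem result {G : Type*} [Group G] [Finite G] (p : ℕ) [Fact p.Prime] (M : Ideal Cfsg.AlgInt) (hM : Cfsg.IsPModular p M) (H : Subgroup G) (χ : Cfsg.IrrCharacter G) (hres : Cfsg.IsIrrCharacter H (fun h : H => (χ : G → ℂ) h)) (hχ0 : Cfsg.blockHeight p (Cfsg.blockOf M (χ : G → ℂ)) (χ : G → ℂ) = 0) (hψ0 : Cfsg.blockHeight p (Cfsg.blockOf M (fun h : H => (χ : G → ℂ) h)) (fun h : H => (χ : G → ℂ) h) = 0) (e : Set (Cfsg.IrrCharacter H)) (he : Cfsg.InducedBlockDefined M H e) : Cfsg.IsInducedBlock M H e (Cfsg.blockOf M (χ : G → ℂ)) ↔ e = Cfsg.blockOf M (fun h : H => (χ : G → ℂ) h) := by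
  classical
  have := Fintype.ofFinite G
  have := Fintype.ofFinite H
  have := Fintype.ofFinite (IrrCharacter H)
  have hp : p.Prime := Fact.out
  have hMp : M.IsPrime := isPrime_of_isPModular hM
  set ψ₀ : IrrCharacter H := ⟨fun h : H => (χ : G → ℂ) h, hres⟩ with hψ₀
  constructor
  · intro hind
    have hχB : χ ∈ blockOf M (χ : G → ℂ) := sameBlock_refl hMp _
    obtain ⟨ξ, hξe, -, n, hn, hpn⟩ :=
      Cfsg.Agent.S0937.result p M hM H e (blockOf M (χ : G → ℂ)) hind χ hχB hχ0
    have h1 := Cfsg.Agent.Lib.Helper3.classInner_irr hres ξ.2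
    rw [h1] at hn
    have hξeq : (fun h : H => (χ : G → ℂ) h) = (ξ : H → ℂ) := by
      by_contra hne
      rw [if_neg hne] at hn
      have : n = 0 := by exact_mod_cast hn.symm
      rw [this] at hpn
      exact hpn (dvd_zero p)
    have hξψ : ξ = ψ₀ := Subtype.ext hξeq.symm
    rw [hξψ] at hξe
    exact eq_blockOf_of_mem hMp hind.1 hξe
  · intro heq
    obtain ⟨B', hind⟩ := he
    have hχB' : χ ∈ B' := by
      by_contra hχ
      have hψe : ψ₀ ∈ e := by rw [heq]; exact sameBlock_refl hMp _
      have h1 := (Cfsg.Agent.S4431.result p M hM H e B' hind χ ψ₀ hψe).1 hχ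
      have hmem : ψ₀ ∈ blockOf M (ψ₀ : H → ℂ) := sameBlock_refl hMp _
      have h2 := Cfsg.Agent.Lib.Helper74.pTilde_unit_of_height_zero hM ψ₀ ψ₀ hmem hψ0 ψ₀ hmem
      exact h2 h1
    have hB' : B' = blockOf M (χ : G → ℂ) := eq_blockOf_of_mem hMp hind.2.1 hχB'
    rw [← hB']
    exact hind

end Cfsg.Agent.S0935
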