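import Cfsg.Statements.S0939
import Cfsg.Agent.S0938
import Cfsg.Agent.Lib.Helper16.RegularDet
import Cfsg.Agent.Lib.Helper30.PPrimeCore
import Cfsg.Agent.Lib.Helper22.Fitting
import Cfsg.Agent.Lib.Helper80.Conv
import Cfsg.Agent.Lib.Helper77.DefectClass

set_option autoImplicit false
open Cfsg

namespace Cfsg.Agent.S0939

open Cfsg.Agent.Lib.Helper16 Cfsg.Agent.Lib.Helper77 Cfsg.Agent.Lib.Helper80 Cfsg.Agent.Lib.Helper81

/-- Let G be a finite group with a normal p-complement (the largest normal subgroup O_p'(G) of order prime to p has p-power index). Then, relative to any maximal ideal M of the algebraic integers containing p, the principal block of G is the set of irreducible characters χ with χ n = χ 1 for every n ∈ O_p'(G). -/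
theorem result {G : Type*} [Group G] [Finite G] (p : ℕ) [Fact p.Prime] (M : Ideal Cfsg.AlgInt) (hM : Cfsg.IsPModular p M) (hnc : ∃ k : ℕ, (Cfsg.pPrimeCore p G).index = p ^ k) : Cfsg.principalBlock M G = {χ : Cfsg.IrrCharacter G | ∀ n ∈ Cfsg.pPrimeCore p G, (χ : G → ℂ) n = (χ : G → ℂ) 1} := by
  classical
  have := Fintype.ofFinite G
  have hMp : M.IsPrime := isPrime_of_isPModular hM
  have hKn : (Cfsg.pPrimeCore p G).Normal := Cfsg.Agent.Lib.Helper22.pPrimeCore_normal' p G
  have hcop : (Nat.card (Cfsg.pPrimeCore p G)).Coprime p :=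
    Cfsg.Agent.Lib.Helper30.pPrimeCore_card_coprime p
  have hpK : ¬ p ∣ Nat.card (Cfsg.pPrimeCore p G) := by
    intro hd
    have := Nat.Coprime.eq_one_of_dvd hcop.symm hd
    exact (Fact.out : p.Prime).one_lt.ne' this
  obtain ⟨k, hk⟩ := hnc
  set T : Cfsg.IrrCharacter G := Cfsg.Agent.Lib.Helper80.trivIrr G with hT
  have hTeq : (T : G → ℂ) = fun _ : G => (1 : ℂ) := rfl
  unfold Cfsg.principalBlock
  rw [← hTeq]
  ext χ
  constructor
  · intro hχ
    obtain ⟨K, _, hK, _, _, hKmax⟩ := Cfsg.Agent.S0938.result p M hM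
      (Cfsg.blockOf M (T : G → ℂ)) ⟨T, rfl⟩ T (self_mem_blockOf hMp T)
    have hNK : Cfsg.pPrimeCore p G ≤ K := hKmax _ hKn hpK fun g _ => rfl
    intro n hn
    have : n ∈ (K : Set G) := hNK hn
    rw [hK] at this
    exact this χ hχ
  · intro hχ
    show Cfsg.SameBlock M (T : G → ℂ) (χ : G → ℂ)
    apply sameBlock_of_regular hM
    intro g hg
    have hgN : g ∈ Cfsg.pPrimeCore p G := mem_of_regular_of_index _ hk hg
    have h1 := irr_one_ne_zero χ
    have : Cfsg.centralChar (T : G → ℂ) g - Cfsg.centralChar (χ : G → ℂ) g = 0 := by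
      unfold Cfsg.centralChar
      rw [hχ g hgN, hTeq]
      field_simp
      ring
    rw [this]
    exact memLocalIdeal_zero hMp

end Cfsg.Agent.S0939
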