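import Cfsg.Statements.S0940
import Cfsg.Agent.Lib.Helper77.Kulshammer

set_option autoImplicit false
open Cfsg

namespace Cfsg.Agent.S0940

/-- Let G be a finite group and M a maximal ideal of the algebraic integers containing the prime p. For every p-regular g, the idempotent coefficient of the principal block at g (the inverse of the group order times the sum over χ in the principal block of χ 1 * conj (χ g)) is congruent modulo the local ideal at M to N / R, where N is the number of pairs (x, y) with x of p-power order, y of order prime to p and x * y = g, and R is the number of elements of G of order prime to p. -/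
theorem result {G : Type*} [Group G] [Finite G] (p : ℕ) [Fact p.Prime] (M : Ideal Cfsg.AlgInt) (hM : Cfsg.IsPModular p M) (g : G) (hg : ¬ p ∣ orderOf g) : Cfsg.MemLocalIdeal M (Cfsg.blockCoeff (Cfsg.principalBlock M G) g - (Nat.card {xy : G × G // (∃ k : ℕ, orderOf xy.1 = p ^ k) ∧ ¬ p ∣ orderOf xy.2 ∧ xy.1 * xy.2 = g} : ℂ) / (Nat.card {y : G // ¬ p ∣ orderOf y} : ℂ)) := by
  classical
  have := Fintype.ofFinite G
  have hp : p.Prime := Fact.out
  have hMp : M.IsPrime := Cfsg.Agent.Lib.Helper81.isPrime_of_isPModular hM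
  have hcore := Cfsg.Agent.Lib.Helper77.kulshammer_core hM hg
  -- the number of pairs
  have hN : (Nat.card {xy : G × G // (∃ k : ℕ, orderOf xy.1 = p ^ k) ∧ ¬ p ∣ orderOf xy.2 ∧
      xy.1 * xy.2 = g} : ℂ) =
      Cfsg.Agent.Lib.Helper77.conv (Cfsg.Agent.Lib.Helper77.pEltInd p)
        (Cfsg.Agent.Lib.Helper77.regInd p) g := by
    have e : {xy : G × G // (∃ k : ℕ, orderOf xy.1 = p ^ k) ∧ ¬ p ∣ orderOf xy.2 ∧
        xy.1 * xy.2 = g} ≃ {x : G // (∃ k : ℕ, orderOf x = p ^ k) ∧ ¬ p ∣ orderOf (x⁻¹ * g)} :=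
      { toFun := fun xy => ⟨xy.1.1, xy.2.1, by
          have h1 := xy.2.2.1
          have h2 : xy.1.2 = xy.1.1⁻¹ * g := eq_inv_mul_of_mul_eq xy.2.2.2
          rwa [h2] at h1⟩
        invFun := fun x => ⟨(x.1, x.1⁻¹ * g), x.2.1, x.2.2, by group⟩
        left_inv := by
          rintro ⟨⟨x, y⟩, h1, h2, h3⟩
          apply Subtype.ext
          simp only [Prod.mk.injEq, true_and]
          rw [← h3]
          group
        right_inv := by
          rintro ⟨x, h⟩
          rfl }
    rw [Nat.card_congr e, Nat.card_eq_fintype_card, Fintype.card_subtype]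
    unfold Cfsg.Agent.Lib.Helper77.conv Cfsg.Agent.Lib.Helper77.pEltInd
      Cfsg.Agent.Lib.Helper77.regInd
    rw [Finset.card_filter]
    push_cast
    refine Finset.sum_congr rfl fun x _ => ?_
    by_cases h1 : ∃ k : ℕ, orderOf x = p ^ k <;> by_cases h2 : p ∣ orderOf (x⁻¹ * g) <;>
      simp [h1, h2]
  have hR : (Nat.card {y : G // ¬ p ∣ orderOf y} : ℂ) =
      (Cfsg.Agent.Lib.Helper77.regCount p G : ℂ) := by
    rw [Nat.card_eq_fintype_card, Fintype.card_subtype]
    unfold Cfsg.Agent.Lib.Helper77.regCount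
    congr 2
  rw [hN, hR]
  have hnd : ¬ p ∣ Cfsg.Agent.Lib.Helper77.regCount p G :=
    Cfsg.Agent.Lib.Helper77.not_dvd_regCount hM
  have hRinv := Cfsg.Agent.Lib.Helper81.memLocalRing_inv_natCast hM hnd
  have hR0 : (Cfsg.Agent.Lib.Helper77.regCount p G : ℂ) ≠ 0 := by
    intro h0
    apply hnd
    have : Cfsg.Agent.Lib.Helper77.regCount p G = 0 := by exact_mod_cast h0
    rw [this]
    exact dvd_zero p
  have h1 := Cfsg.Agent.Lib.Helper81.memLocalIdeal_neg
    (Cfsg.Agent.Lib.Helper81.memLocalIdeal_mul_left hMp hRinv hcore)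
  convert h1 using 1
  field_simp
  ring

end Cfsg.Agent.S0940
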