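import Cfsg.Statements.S0944

set_option autoImplicit false
open Cfsg

namespace Cfsg.Agent.S0944

theorem trace_invol {n : ℕ} (T : (Fin n → ℂ) →ₗ[ℂ] (Fin n → ℂ)) (hT : T * T = 1) :
    ∃ r : ℕ, LinearMap.trace ℂ (Fin n → ℂ) T = 2 * (r : ℂ) - (n : ℂ) := by
  set P : (Fin n → ℂ) →ₗ[ℂ] (Fin n → ℂ) := (2⁻¹ : ℂ) • (1 + T) with hP
  have hPid : IsIdempotentElem P := by
    unfold IsIdempotentElem
    rw [hP, smul_mul_smul_comm, mul_add, add_mul, add_mul, hT]
    simp only [mul_one, one_mul]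
    rw [show (1 : (Fin n → ℂ) →ₗ[ℂ] (Fin n → ℂ)) + T + (T + 1) = (2 : ℂ) • (1 + T) by
      rw [two_smul]; abel]
    rw [smul_smul]
    norm_num
  have htr := (LinearMap.IsIdempotentElem.isProj_range P hPid).trace
  refine ⟨Module.finrank ℂ (LinearMap.range P), ?_⟩
  rw [← htr, hP]
  simp only [map_smul, map_add, LinearMap.trace_one, smul_eq_mul, Module.finrank_fin_fun]
  ring

/-- Let χ be an irreducible character of the finite group G and u an involution. Then χ u is a rational integer n with n ≡ χ 1 (mod 2). -/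
theorem result {G : Type*} [Group G] [Finite G] (χ : Cfsg.IrrCharacter G) (u : G) (hu : orderOf u = 2) : ∃ n : ℤ, (χ : G → ℂ) u = (n : ℂ) ∧ (2 : ℤ) ∣ (Cfsg.charDegree (χ : G → ℂ) : ℤ) - n := by
  obtain ⟨χ, n, ρ, hirr, rfl⟩ := χ
  have huu : u * u = 1 := by
    have := pow_orderOf_eq_one u
    rw [hu, pow_two] at this
    exact this
  have hT : ρ u * ρ u = 1 := by
    rw [← map_mul, huu, map_one]
  obtain ⟨r, hr⟩ := trace_invol (ρ u) hT
  have hdeg : Cfsg.charDegree (ρ.character) = n := by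
    unfold Cfsg.charDegree
    rw [Representation.char_one]
    simp
  refine ⟨2 * (r : ℤ) - (n : ℤ), ?_, ?_⟩
  · show ρ.character u = _
    unfold Representation.character
    rw [hr]
    push_cast
    ring
  · show (2 : ℤ) ∣ (Cfsg.charDegree (ρ.character) : ℤ) - _
    rw [hdeg]
    exact ⟨(n : ℤ) - r, by ring⟩

end Cfsg.Agent.S0944
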