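import Cfsg.Statements.S0946
import Cfsg.Agent.Lib.Helper90.HomocyclicSylow
import Cfsg.Agent.Lib.Helper90.SylowConj

set_option autoImplicit false
open Cfsg


namespace Cfsg.Agent.S0946

open Cfsg.Agent.Lib.Helper90

theorem exists_conj_involution_mem {G : Type*} [Group G] [Finite G] (P : Sylow 2 G) (s : G)
    (hs : orderOf s = 2) : ∃ d : G, d⁻¹ * s * d ∈ (P : Subgroup G) ∧ orderOf (d⁻¹ * s * d) = 2 := by
  have hK : IsPGroup 2 (Subgroup.zpowers s) := by
    apply isPGroup_zpowers_of_pow s 1
    rw [pow_one, ← hs]; exact pow_orderOf_eq_one s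
  obtain ⟨d, hd⟩ := exists_conj_mem_sylow P _ hK
  refine ⟨d, hd s (Subgroup.mem_zpowers s), ?_⟩
  have : d⁻¹ * s * d = MulAut.conj d⁻¹ s := by simp
  rw [this, MulEquiv.orderOf_eq]; exact hs

/-- Let P be a Sylow 2-subgroup of the finite group G isomorphic to Z/2^m × Z/2^m with m ≥ 1. Then either P has a normal complement in G, or all involutions of G are conjugate. -/
theorem result {G : Type*} [Group G] [Finite G] (P : Sylow 2 G) (m : ℕ) (hm : 1 ≤ m) (e : (P : Subgroup G) ≃* Multiplicative (ZMod (2 ^ m) × ZMod (2 ^ m))) : (∃ N : Subgroup G, N.Normal ∧ Subgroup.IsComplement' N (P : Subgroup G)) ∨ ∀ s t : G, orderOf s = 2 → orderOf t = 2 → IsConj s t := by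
  have h := (threeInv_homocyclic m hm).of_equiv e
  rcases relIndex_eq_one_or_three h with h1 | h3
  · left
    have hP : Subgroup.normalizer ((P : Subgroup G) : Set G) ≤
        Subgroup.centralizer ((P : Subgroup G) : Set G) := Subgroup.relIndex_eq_one.mp h1
    exact ⟨(MonoidHom.transferSylow P hP).ker, inferInstance,
      MonoidHom.ker_transferSylow_isComplement' P hP⟩
  · right
    rw [← card_range_normalizerMonoidHom] at h3
    -- a nontrivial element of the range
    obtain ⟨φ, hφr, hφ1⟩ : ∃ φ ∈ (P : Subgroup G).normalizerMonoidHom.range, φ ≠ 1 := by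
      by_contra hne
      push Not at hne
      have : (P : Subgroup G).normalizerMonoidHom.range = ⊥ := by
        rw [eq_bot_iff]
        intro φ hφ
        rw [Subgroup.mem_bot]
        exact hne φ hφ
      rw [this, Subgroup.card_bot] at h3
      omega
    obtain ⟨n, rfl⟩ := hφr
    have hodd := odd_card_range h
    have hpow := range_pow_card h _ (⟨n, rfl⟩ : (P : Subgroup G).normalizerMonoidHom n ∈
      (P : Subgroup G).normalizerMonoidHom.range)
    intro s t hs ht
    obtain ⟨d, hdP, hdo⟩ := exists_conj_involution_mem P s hs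
    obtain ⟨d', hd'P, hd'o⟩ := exists_conj_involution_mem P t ht
    have hso : orderOf (⟨d⁻¹ * s * d, hdP⟩ : (P : Subgroup G)) = 2 := by
      rw [Subgroup.orderOf_mk]; exact hdo
    have hto : orderOf (⟨d'⁻¹ * t * d', hd'P⟩ : (P : Subgroup G)) = 2 := by
      rw [Subgroup.orderOf_mk]; exact hd'o
    obtain ⟨i, hi⟩ := h.exists_pow_apply_eq _ _ hodd hpow hφ1 _ _ hso hto
    rw [← map_pow] at hi
    have hi' := congrArg Subtype.val hi
    rw [Subgroup.normalizerMonoidHom_apply_apply_coe] at hi'
    rw [isConj_iff]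
    refine ⟨d' * ((n ^ i : Subgroup.normalizer ((P : Subgroup G) : Set G)) : G) * d⁻¹, ?_⟩
    have e1 : d'⁻¹ * t * d' = ((n ^ i : Subgroup.normalizer ((P : Subgroup G) : Set G)) : G) *
        (d⁻¹ * s * d) * ((n ^ i : Subgroup.normalizer ((P : Subgroup G) : Set G)) : G)⁻¹ := hi'.symm
    have e2 : t = d' * (d'⁻¹ * t * d') * d'⁻¹ := by group
    rw [e2, e1]
    group

end Cfsg.Agent.S0946
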