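import Cfsg.Statements.S0947
import Cfsg.Agent.S0923
import Cfsg.Agent.Lib.Helper77.SectionNorm
import Cfsg.Agent.Lib.Helper77.BlockDecomp2
import Cfsg.Agent.Lib.Helper77.PNilpotentBlock
import Cfsg.Agent.Lib.Helper77.ThirdMain

set_option autoImplicit false
open Cfsg

namespace Cfsg.Agent.S0947

open Classical in
theorem finsum_mem_eq_sum_filter_real {ι : Type*} [Fintype ι] (B : Set ι) (f : ι → ℝ) :
    ∑ᶠ ψ ∈ B, f ψ = ∑ ψ ∈ Finset.univ.filter (fun ψ => ψ ∈ B), f ψ := by
  apply finsum_mem_eq_sum_of_inter_support_eq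
  congr 1
  ext χ
  simp

open Cfsg.Agent.Lib.Helper77 Cfsg.Agent.Lib.Helper81 in
open Classical in
/-- The complex form of the first part. -/
theorem main_complex {G : Type*} [Group G] [Fintype G] [Fintype (Cfsg.IrrCharacter G)]
    (p : ℕ) [Fact p.Prime] (M : Ideal Cfsg.AlgInt) (hM : Cfsg.IsPModular p M) (z : G)
    (hz : ∃ k : ℕ, orderOf z = p ^ k)
    [Fintype (Subgroup.centralizer ({z} : Set G))]
    [Fintype (Cfsg.IrrCharacter (Subgroup.centralizer ({z} : Set G)))]
    (y : Subgroup.centralizer ({z} : Set G)) (hy : ¬ p ∣ orderOf y) :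
    ∑ ζ ∈ Finset.univ.filter (fun ζ : Cfsg.IrrCharacter G => ζ ∈ Cfsg.principalBlock M G),
      (ζ : G → ℂ) (z * (y : G)) * (starRingEnd ℂ) ((ζ : G → ℂ) (z * (y : G))) =
    ∑ χ ∈ Finset.univ.filter (fun χ : Cfsg.IrrCharacter (Subgroup.centralizer ({z} : Set G)) =>
        χ ∈ Cfsg.principalBlock M (Subgroup.centralizer ({z} : Set G))),
      (χ : Subgroup.centralizer ({z} : Set G) → ℂ) y *
        (starRingEnd ℂ) ((χ : Subgroup.centralizer ({z} : Set G) → ℂ) y) := by
  have hMp : M.IsPrime := isPrime_of_isPModular hM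
  have hcommC : ∀ t : Subgroup.centralizer ({z} : Set G), (t : G) * z = z * (t : G) := fun t =>
    Subgroup.mem_centralizer_singleton_iff.mp t.2
  have hϑ : ∀ ζ : Cfsg.IrrCharacter G, Cfsg.IsClassFunction (Subgroup.centralizer ({z} : Set G))
      (fun c : Subgroup.centralizer ({z} : Set G) => (ζ : G → ℂ) (z * (c : G))) := by
    intro ζ c t
    show (ζ : G → ℂ) (z * ((t * c * t⁻¹ : Subgroup.centralizer ({z} : Set G)) : G)) =
      (ζ : G → ℂ) (z * (c : G))
    push_cast
    have e1 : z * ((t : G) * (c : G) * (t : G)⁻¹) = (t : G) * (z * (c : G)) * (t : G)⁻¹ := by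
      rw [← mul_assoc, ← mul_assoc, ← hcommC t]
      group
    rw [e1, isClassFunction_of_isCharacter ζ.2]
  have hb₀ : Cfsg.principalBlock M (Subgroup.centralizer ({z} : Set G)) =
      Cfsg.blockOf M ((oneIrr (Subgroup.centralizer ({z} : Set G)) :
        Cfsg.IrrCharacter (Subgroup.centralizer ({z} : Set G))) :
        Subgroup.centralizer ({z} : Set G) → ℂ) := rfl
  -- members of the principal block
  have hA1 : ∀ ζ : Cfsg.IrrCharacter G, ζ ∈ Cfsg.principalBlock M G →
      (ζ : G → ℂ) (z * (y : G)) =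
      Cfsg.blockPart (Cfsg.principalBlock M (Subgroup.centralizer ({z} : Set G)))
        (fun c : Subgroup.centralizer ({z} : Set G) => (ζ : G → ℂ) (z * (c : G))) y := by
    intro ζ hζ
    rw [hb₀]
    apply eq_blockPart_of_forall_ne hMp (hϑ ζ) y
    intro ξ₀ hne
    apply Cfsg.Agent.S0923.result p M hM z hz (Cfsg.principalBlock M G)
      (isPBlock_principalBlock M) ζ hζ _ ⟨ξ₀, rfl⟩ _ y hy
    intro hind
    apply hne
    rw [← hb₀]
    exact (third_main hM hind).mp rfl
  have hA2 : ∀ ζ : Cfsg.IrrCharacter G, ζ ∉ Cfsg.principalBlock M G →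
      Cfsg.blockPart (Cfsg.principalBlock M (Subgroup.centralizer ({z} : Set G)))
        (fun c : Subgroup.centralizer ({z} : Set G) => (ζ : G → ℂ) (z * (c : G))) y = 0 := by
    intro ζ hζ
    apply Cfsg.Agent.S0923.result p M hM z hz (Cfsg.blockOf M (ζ : G → ℂ)) ⟨ζ, rfl⟩ ζ
      (self_mem_blockOf hMp ζ) _ (isPBlock_principalBlock M) _ y hy
    intro hind
    apply hζ
    rw [← (third_main hM hind).mpr rfl]
    exact self_mem_blockOf hMp ζ
  have h1 := sum_blockPart_mul_conj hM hz (oneIrr (Subgroup.centralizer ({z} : Set G))) y hy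
  rw [← hb₀] at h1
  rw [← h1, Finset.sum_filter]
  refine Finset.sum_congr rfl fun ζ _ => ?_
  by_cases hζ : ζ ∈ Cfsg.principalBlock M G
  · rw [if_pos hζ, ← hA1 ζ hζ]
  · rw [if_neg hζ, hA2 ζ hζ, zero_mul]

/-- Let z ≠ 1 be a p-element of the finite group G with centralizer H, and fix a maximal ideal M of the algebraic integers containing p. (i) For every y ∈ H of order prime to p, the sum over ζ in the principal block of G of |ζ (z * y)|² equals the sum over χ in the principal block of H of |χ y|². (ii) If moreover H has a normal p-complement (its largest normal subgroup of order prime to p has p-power index), that common value is the largest power of p dividing the order of H. -/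
theorem result {G : Type*} [Group G] [Finite G] (p : ℕ) [Fact p.Prime] (M : Ideal Cfsg.AlgInt) (hM : Cfsg.IsPModular p M) (z : G) (hz : ∃ k : ℕ, orderOf z = p ^ k) (hz1 : z ≠ 1) (y : Subgroup.centralizer ({z} : Set G)) (hy : ¬ p ∣ orderOf y) : (∑ᶠ ζ ∈ Cfsg.principalBlock M G, ‖(ζ : G → ℂ) (z * (y : G))‖ ^ 2 = ∑ᶠ χ ∈ Cfsg.principalBlock M (Subgroup.centralizer ({z} : Set G)), ‖(χ : Subgroup.centralizer ({z} : Set G) → ℂ) y‖ ^ 2) ∧ ((∃ k : ℕ, (Cfsg.pPrimeCore p (Subgroup.centralizer ({z} : Set G))).index = p ^ k) → ∑ᶠ ζ ∈ Cfsg.principalBlock M G, ‖(ζ : G → ℂ) (z * (y : G))‖ ^ 2 = ((p ^ (Nat.card (Subgroup.centralizer ({z} : Set G))).factorization p : ℕ) : ℝ)) := by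
  classical
  have := Fintype.ofFinite G
  have := Fintype.ofFinite (Cfsg.IrrCharacter G)
  have := Fintype.ofFinite (Subgroup.centralizer ({z} : Set G))
  have := Fintype.ofFinite (Cfsg.IrrCharacter (Subgroup.centralizer ({z} : Set G)))
  have hnorm : ∀ w : ℂ, ((‖w‖ ^ 2 : ℝ) : ℂ) = w * (starRingEnd ℂ) w := by
    intro w
    rw [Complex.mul_conj, Complex.normSq_eq_norm_sq]
  have hmain := main_complex p M hM z hz y hy
  have part1 : ∑ᶠ ζ ∈ Cfsg.principalBlock M G, ‖(ζ : G → ℂ) (z * (y : G))‖ ^ 2 =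
      ∑ᶠ χ ∈ Cfsg.principalBlock M (Subgroup.centralizer ({z} : Set G)),
        ‖(χ : Subgroup.centralizer ({z} : Set G) → ℂ) y‖ ^ 2 := by
    rw [finsum_mem_eq_sum_filter_real, finsum_mem_eq_sum_filter_real]
    apply Complex.ofReal_injective
    rw [Complex.ofReal_sum, Complex.ofReal_sum]
    simp_rw [hnorm]
    exact hmain
  refine ⟨part1, fun hidx => ?_⟩
  rw [part1, finsum_mem_eq_sum_filter_real]
  apply Complex.ofReal_injective
  rw [Complex.ofReal_sum]
  simp_rw [hnorm]
  rw [Cfsg.Agent.Lib.Helper77.sum_principalBlock_mul_conj_of_pnilpotent hM hidx y hy]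
  push_cast
  rfl

end Cfsg.Agent.S0947
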