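import Cfsg.Statements.S0950
import Cfsg.Agent.S0071
import Cfsg.Agent.Lib.Helper20.KleinAct
import Cfsg.Agent.Lib.Helper20.QuatAct
import Cfsg.Agent.Lib.Helper20.QDQuat

set_option autoImplicit false
set_option linter.style.haveILetI false
open Cfsg

namespace Cfsg.Agent.S0950

open Cfsg.Agent.Lib.Helper20

open QuaternionGroup in
theorem quat2_mul_center : ∀ b ζ : QuaternionGroup 2, (ζ = 1 ∨ ζ = a 2) → b * b ≠ 1 →
    (b * ζ = b ∨ b * ζ = b⁻¹) := by decide

/-- proper subgroups of a quaternion group of order 8 are cyclic -/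
theorem quat2_proper_cyclic {P : Type*} [Group P] (e : P ≃* QuaternionGroup 2) (R : Subgroup P)
    (hR : R ≠ ⊤) : IsCyclic R := by
  haveI := quat2_finite e
  have hcard := quat2_card e
  obtain ⟨-, hexp, huniq, -⟩ := quat2_props (⊤ : Subgroup P) (Subgroup.topEquiv.trans e)
  have hdvd : Nat.card R ∣ 8 := by rw [← hcard]; exact Subgroup.card_subgroup_dvd_card R
  have hne8 : Nat.card R ≠ 8 := by
    intro h8
    apply hR
    apply Subgroup.eq_top_of_card_eq
    rw [h8, hcard]
  have hle := Nat.le_of_dvd (by norm_num) hdvd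
  have hpos : 0 < Nat.card R := Nat.card_pos
  have hcases : Nat.card R = 1 ∨ Nat.card R = 2 ∨ Nat.card R = 4 := by
    interval_cases (Nat.card R) <;> omega
  rcases hcases with h1 | h2 | h4
  · haveI : Subsingleton R := (Nat.card_eq_one_iff_unique.mp h1).1
    exact isCyclic_of_subsingleton
  · haveI : Fact (Nat.Prime 2) := ⟨Nat.prime_two⟩
    exact isCyclic_of_prime_card h2
  · -- some element with t * t ≠ 1
    have hex : ∃ t ∈ R, t * t ≠ 1 := by
      by_contra hall
      push Not at hall
      -- all nonidentity elements coincide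
      have hsub : ∀ s ∈ R, ∀ t ∈ R, s ≠ 1 → t ≠ 1 → s = t := by
        intro s hs t ht hs1 ht1
        exact huniq s (Subgroup.mem_top s) t (Subgroup.mem_top t) (hall s hs) (hall t ht) hs1 ht1
      have hle2 : Nat.card R ≤ 2 := by
        by_cases hne : ∃ s ∈ R, s ≠ 1
        · obtain ⟨s, hs, hs1⟩ := hne
          have hsubset : (Set.univ : Set R) ⊆ {1, ⟨s, hs⟩} := by
            rintro ⟨t, ht⟩ -
            by_cases ht1 : t = 1
            · left; exact Subtype.ext ht1
            · right
              have := hsub t ht s hs ht1 hs1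
              exact Subtype.ext this
          have h1 := Set.ncard_le_ncard hsubset (Set.toFinite _)
          rw [Set.ncard_univ] at h1
          have h2 := Set.ncard_insert_le (1 : R) {⟨s, hs⟩}
          rw [Set.ncard_singleton] at h2
          omega
        · push Not at hne
          have hsubset : (Set.univ : Set R) ⊆ {1} := by
            rintro ⟨t, ht⟩ -
            exact Subtype.ext (hne t ht)
          have h1 := Set.ncard_le_ncard hsubset (Set.toFinite _)
          rw [Set.ncard_univ, Set.ncard_singleton] at h1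
          omega
      omega
    obtain ⟨t, ht, htt⟩ := hex
    have ho : orderOf t = 4 := by
      have h4' : t ^ 4 = 1 := hexp t (Subgroup.mem_top t)
      have := orderOf_eq_prime_pow (x := t) (p := 2) (n := 1) (by
        rw [pow_one, pow_two]; exact htt) (by
        have : (2 : ℕ) ^ (1 + 1) = 4 := by norm_num
        rw [this]; exact h4')
      simpa using this
    apply isCyclic_of_orderOf_eq_card (⟨t, ht⟩ : R)
    rw [Subgroup.orderOf_mk, ho, h4]

/-- subgroups of order four of a quaternion group of order 8 are generated by an element of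
order four -/
theorem quat2_order4_gen {P : Type*} [Group P] (e : P ≃* QuaternionGroup 2) (R : Subgroup P)
    (hR : Nat.card R = 4) : ∃ t : P, t * t ≠ 1 ∧ R = Subgroup.zpowers t := by
  haveI := quat2_finite e
  have hne : R ≠ ⊤ := by
    intro h
    rw [h, Subgroup.card_top, quat2_card e] at hR
    omega
  haveI := quat2_proper_cyclic e R hne
  obtain ⟨g, hg⟩ := IsCyclic.exists_generator (α := R)
  have ho : orderOf g = 4 := by
    rw [orderOf_eq_card_of_forall_mem_zpowers hg, hR]
  refine ⟨g, ?_, ?_⟩
  · intro h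
    have h2 : (g : P) ^ 2 = 1 := by rw [pow_two]; exact h
    have := orderOf_dvd_of_pow_eq_one h2
    rw [Subgroup.orderOf_coe, ho] at this
    omega
  · symm
    apply Subgroup.eq_of_le_of_card_ge
    · exact Subgroup.zpowers_le.mpr g.2
    · rw [Nat.card_zpowers, Subgroup.orderOf_coe, ho, hR]

/-- Let S be a Sylow 2-subgroup of the finite group G that is isomorphic to the quaternion group of order 8, and suppose S has no normal complement in G. Then any two subgroups of order 4 of S are conjugate by an element of the normalizer of S. -/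
theorem result {G : Type*} [Group G] [Finite G] (S : Sylow 2 G) (e : (S : Subgroup G) ≃* QuaternionGroup 2) (hnc : ∀ N : Subgroup G, N.Normal → ¬ Subgroup.IsComplement' N (S : Subgroup G)) (A B : Subgroup G) (hA : A ≤ S) (hB : B ≤ S) (hA4 : Nat.card A = 4) (hB4 : Nat.card B = 4) : ∃ n ∈ Subgroup.normalizer ((S : Subgroup G) : Set G), B = A.map (MulAut.conj n).toMonoidHom := by
  haveI : Fact (Nat.Prime 2) := ⟨Nat.prime_two⟩
  have hfrob : ¬ ∀ Q : Subgroup G, Q ≤ (S : Subgroup G) → ∀ g ∈ Subgroup.normalizer (Q : Set G),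
      Nat.Coprime (orderOf g) 2 → g ∈ Subgroup.centralizer (Q : Set G) := by
    intro hall
    obtain ⟨N, hN, hc⟩ := (Cfsg.Agent.S0071.result S).mpr hall
    exact hnc N hN hc
  push Not at hfrob
  obtain ⟨R, hRS, g, hgN, hgo, hgC⟩ := hfrob
  have hcardS : Nat.card (S : Subgroup G) = 8 := quat2_card e
  -- Step 2: R = S
  have hRS' : R = (S : Subgroup G) := by
    by_contra hne
    have hne' : R.subgroupOf (S : Subgroup G) ≠ ⊤ := by
      intro h
      apply hne
      exact le_antisymm hRS (Subgroup.subgroupOf_eq_top.mp h)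
    haveI hcyc' := quat2_proper_cyclic e _ hne'
    haveI hcyc : IsCyclic R := (Subgroup.subgroupOfEquivOfLe hRS).isCyclic.mp hcyc'
    have hdvd : Nat.card R ∣ 8 := by rw [← hcardS]; exact Subgroup.card_dvd_of_le hRS
    have hcardAut := IsCyclic.card_mulAut R
    set α := R.normalizerMonoidHom ⟨g, hgN⟩ with hα
    have h1 : orderOf α ∣ orderOf g := by
      have := orderOf_map_dvd R.normalizerMonoidHom ⟨g, hgN⟩
      rwa [Subgroup.orderOf_mk] at this
    have h2 : orderOf α ∣ 4 := by
      have h3 : orderOf α ∣ Nat.card (MulAut R) := orderOf_dvd_natCard α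
      rw [hcardAut] at h3
      have hle := Nat.le_of_dvd (by norm_num) hdvd
      have hpos : 0 < Nat.card R := Nat.card_pos
      have : (Nat.card R).totient ∣ 4 := by
        interval_cases (Nat.card R) <;> first | omega | decide
      exact h3.trans this
    have h3 : orderOf α = 1 := by
      have h4 : orderOf α ∣ Nat.gcd (orderOf g) 4 := Nat.dvd_gcd h1 h2
      have h5 : Nat.gcd (orderOf g) 4 = 1 := by
        have : Nat.Coprime (orderOf g) (2 ^ 2) := Nat.Coprime.pow_right 2 hgo
        exact this
      rw [h5] at h4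
      exact Nat.dvd_one.mp h4
    rw [orderOf_eq_one_iff] at h3
    have h4 : (⟨g, hgN⟩ : Subgroup.normalizer (R : Set G)) ∈ R.normalizerMonoidHom.ker :=
      MonoidHom.mem_ker.mpr h3
    rw [Subgroup.normalizerMonoidHom_ker, Subgroup.mem_subgroupOf] at h4
    exact hgC h4
  subst hRS'
  -- Step 3
  haveI := quat2_isKleinFour e
  set g' : Subgroup.normalizer ((S : Subgroup G) : Set G) := ⟨g, hgN⟩ with hg'
  have hodd : ¬ 2 ∣ orderOf g := by
    intro h2
    have := Nat.Coprime.eq_one_of_dvd hgo.symm h2
    omega
  have hψ1 : quatAct (S : Subgroup G) g' ≠ 1 := by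
    intro hone
    obtain ⟨t₀, ht₀, hc⟩ := quatAct_ker_le (S : Subgroup G) e g' hone
    set φ := (S : Subgroup G).normalizerMonoidHom with hφ
    set t₀' : Subgroup.normalizer ((S : Subgroup G) : Set G) := ⟨t₀, Subgroup.le_normalizer ht₀⟩
    set c' : Subgroup.normalizer ((S : Subgroup G) : Set G) :=
      ⟨t₀⁻¹ * g, Subgroup.centralizer_le_normalizer _ hc⟩
    have hgt : g' = t₀' * c' := by
      apply Subtype.ext
      show g = t₀ * (t₀⁻¹ * g)
      group
    have hφc : φ c' = 1 := by
      have : c' ∈ φ.ker := by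
        rw [hφ, Subgroup.normalizerMonoidHom_ker, Subgroup.mem_subgroupOf]
        exact hc
      exact MonoidHom.mem_ker.mp this
    have hφt2 : φ (t₀' * t₀') = 1 := by
      have : t₀' * t₀' ∈ φ.ker := by
        rw [hφ, Subgroup.normalizerMonoidHom_ker, Subgroup.mem_subgroupOf,
          Subgroup.mem_centralizer_iff]
        intro s hs
        have hcen : (⟨t₀, ht₀⟩ * ⟨t₀, ht₀⟩ : (S : Subgroup G)) ∈ Subgroup.center (S : Subgroup G) := by
          rw [quat2_mem_center_iff e]
          rcases quat2_sq (e ⟨t₀, ht₀⟩) with h2 | h2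
          · left
            rw [← map_mul, map_eq_one_iff e e.injective] at h2
            exact h2
          · right
            rw [← map_mul] at h2
            rw [← h2]; simp
        rw [Subgroup.mem_center_iff] at hcen
        have := hcen ⟨s, hs⟩
        exact congrArg Subtype.val this
      exact MonoidHom.mem_ker.mp this
    have hφg : φ g' = φ t₀' := by rw [hgt, map_mul, hφc, mul_one]
    have hsq : φ g' * φ g' = 1 := by rw [hφg, ← map_mul, hφt2]
    have hpow : φ g' ^ orderOf g = 1 := by
      rw [← map_pow]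
      have : g' ^ orderOf g = 1 := by
        apply Subtype.ext
        rw [SubgroupClass.coe_pow]
        exact pow_orderOf_eq_one g
      rw [this, map_one]
    have hone' : φ g' = 1 := by
      have h1 : orderOf (φ g') ∣ 2 := orderOf_dvd_of_pow_eq_one (by rw [pow_two]; exact hsq)
      have h2 : orderOf (φ g') ∣ orderOf g := orderOf_dvd_of_pow_eq_one hpow
      have h3 : orderOf (φ g') ∣ Nat.gcd (orderOf g) 2 := Nat.dvd_gcd h2 h1
      have h4 : Nat.gcd (orderOf g) 2 = 1 := hgo
      rw [h4] at h3
      exact orderOf_eq_one_iff.mp (Nat.dvd_one.mp h3)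
    have h4 : g' ∈ φ.ker := MonoidHom.mem_ker.mpr hone'
    rw [hφ, Subgroup.normalizerMonoidHom_ker, Subgroup.mem_subgroupOf] at h4
    exact hgC h4
  have h3dvd : 3 ∣ (quatAct (S : Subgroup G)).ker.index := by
    rw [Subgroup.index_ker]
    set β := quatAct (S : Subgroup G) g' with hβ
    have h1 : orderOf β ∣ orderOf g := by
      have := orderOf_map_dvd (quatAct (S : Subgroup G)) g'
      rwa [hg', Subgroup.orderOf_mk] at this
    have h2 : orderOf β ∣ 6 :=
      (orderOf_dvd_natCard β).trans (card_mulAut_dvd_six (quat2_card_quot e))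
    have h3 : orderOf β ≠ 1 := fun h => hψ1 (orderOf_eq_one_iff.mp h)
    have h4 : orderOf β = 3 := by
      have hle := Nat.le_of_dvd (by norm_num) h2
      have hpos : 0 < orderOf β := Nat.pos_of_dvd_of_pos h2 (by norm_num)
      have hodd' : ¬ 2 ∣ orderOf β := fun h => hodd (h.trans h1)
      interval_cases (orderOf β) <;> omega
    have hmem : β ∈ (quatAct (S : Subgroup G)).range := MonoidHom.mem_range.mpr ⟨g', rfl⟩
    have h5 : orderOf (⟨β, hmem⟩ : (quatAct (S : Subgroup G)).range) = 3 := by
      rw [Subgroup.orderOf_mk]; exact h4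
    rw [← h5]
    exact orderOf_dvd_natCard _
  -- Step 4
  obtain ⟨a, haa, hAa⟩ := quat2_order4_gen e (A.subgroupOf S)
    (by rw [Nat.card_congr (Subgroup.subgroupOfEquivOfLe hA).toEquiv]; exact hA4)
  obtain ⟨b, hbb, hBb⟩ := quat2_order4_gen e (B.subgroupOf S)
    (by rw [Nat.card_congr (Subgroup.subgroupOfEquivOfLe hB).toEquiv]; exact hB4)
  have hncen : ∀ t : (S : Subgroup G), t * t ≠ 1 → t ∉ Subgroup.center (S : Subgroup G) := by
    intro t htt hcen
    rw [quat2_mem_center_iff e] at hcen
    rcases hcen with h1 | h1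
    · apply htt; rw [h1, mul_one]
    · apply htt
      rw [h1, ← map_mul]
      have : (QuaternionGroup.a 2 : QuaternionGroup 2) * QuaternionGroup.a 2 = 1 := by decide
      rw [this, map_one]
  have hca : (QuotientGroup.mk a : (S : Subgroup G) ⧸ Subgroup.center (S : Subgroup G)) ≠ 1 := by
    rw [Ne, QuotientGroup.eq_one_iff]; exact hncen a haa
  have hcb : (QuotientGroup.mk b : (S : Subgroup G) ⧸ Subgroup.center (S : Subgroup G)) ≠ 1 := by
    rw [Ne, QuotientGroup.eq_one_iff]; exact hncen b hbb
  obtain ⟨w, hw⟩ := kleinAct_transitive (quatAct (S : Subgroup G)) h3dvd _ _ hca hcb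
  rw [quatAct_mk, QuotientGroup.eq] at hw
  set r : (S : Subgroup G) := (S : Subgroup G).normalizerMonoidHom w a with hr
  -- b = r * ζ with ζ central, so b = r or b = r⁻¹ ... work with r⁻¹ * b central
  have hrr : r * r ≠ 1 := by
    intro h
    apply haa
    have h1 : (S : Subgroup G).normalizerMonoidHom w (a * a) = 1 := by rw [map_mul]; exact h
    exact (map_eq_one_iff _ ((S : Subgroup G).normalizerMonoidHom w).injective).mp h1
  have hζ := (quat2_mem_center_iff e _).mp hw
  have hb_cases : b = r ∨ b = r⁻¹ := by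
    have h1 : (e (r⁻¹ * b) = 1 ∨ e (r⁻¹ * b) = QuaternionGroup.a 2) := by
      rcases hζ with h1 | h1
      · left; rw [h1, map_one]
      · right; rw [h1, e.apply_symm_apply]
    have h2 : e r * e r ≠ 1 := by
      rw [← map_mul, Ne, map_eq_one_iff e e.injective]; exact hrr
    rcases quat2_mul_center (e r) (e (r⁻¹ * b)) h1 h2 with h3 | h3
    · left
      apply e.injective
      rw [← h3, ← map_mul]
      congr 1
      group
    · right
      apply e.injective
      rw [map_inv, ← h3, ← map_mul]
      congr 1
      group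
  refine ⟨w, w.2, ?_⟩
  -- B = zpowers b (in G), A = zpowers a
  have hA' : A = Subgroup.zpowers (a : G) := by
    have h1 := congrArg (Subgroup.map (S : Subgroup G).subtype) hAa
    rw [Subgroup.subgroupOf_map_subtype, inf_eq_left.mpr hA, MonoidHom.map_zpowers] at h1
    exact h1
  have hB' : B = Subgroup.zpowers (b : G) := by
    have h1 := congrArg (Subgroup.map (S : Subgroup G).subtype) hBb
    rw [Subgroup.subgroupOf_map_subtype, inf_eq_left.mpr hB, MonoidHom.map_zpowers] at h1
    exact h1
  rw [hA', hB', MonoidHom.map_zpowers]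
  have hrG : (r : G) = (MulAut.conj (w : G)).toMonoidHom (a : G) := rfl
  rw [← hrG]
  rcases hb_cases with h1 | h1
  · rw [h1]
  · rw [h1, Subgroup.coe_inv, Subgroup.zpowers_inv]

end Cfsg.Agent.S0950
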