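import Cfsg.Statements.S0954
import Cfsg.Agent.S0964
import Cfsg.Agent.S0914
import Cfsg.Agent.Lib.Helper16.RegularDet
import Cfsg.Agent.Lib.Helper77.Clifford

set_option autoImplicit false
open Cfsg

namespace Cfsg.Agent.S0954

open Cfsg.Agent.Lib.Helper16 Cfsg.Agent.Lib.Helper77 Cfsg.Agent.Lib.Helper80 Cfsg.Agent.Lib.Helper81

/-- Over a normal subgroup of order prime to `p`, characters in the same block have the same
constituents. -/
theorem constituent_of_sameBlock {G : Type*} [Group G] [Fintype G] (p : ℕ) [Fact p.Prime]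
    (M : Ideal Cfsg.AlgInt) (hM : Cfsg.IsPModular p M) (N : Subgroup G) [N.Normal] [Fintype N]
    (hN : ¬ p ∣ Nat.card N) (χ ψ : Cfsg.IrrCharacter G)
    (h : Cfsg.SameBlock M (χ : G → ℂ) (ψ : G → ℂ)) (θ : Cfsg.IrrCharacter N)
    (hcon : Cfsg.classInner (fun n : N => (χ : G → ℂ) n) (θ : N → ℂ) ≠ 0) :
    Cfsg.classInner (fun n : N => (ψ : G → ℂ) n) (θ : N → ℂ) ≠ 0 := by
  classical
  have hMp : M.IsPrime := isPrime_of_isPModular hM
  have hb : Cfsg.blockOf M (θ : N → ℂ) = {θ} := by
    rw [← Cfsg.Agent.S0914.result p M hM θ]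
    intro hd
    exact hN (dvd_trans hd (Nat.div_dvd_of_dvd
      (by
        obtain ⟨d, _, _, hd2, hd3⟩ := irr_degree_spec θ
        rw [hd2]; exact hd3)))
  obtain ⟨φ, hφ⟩ := exists_constituent N ψ
  obtain ⟨g, θ', hθ', hg⟩ := Cfsg.Agent.S0964.result p M hM N
    (Cfsg.blockOf M (χ : G → ℂ)) ⟨χ, rfl⟩ (Cfsg.blockOf M (θ : N → ℂ))
    ⟨θ, rfl⟩ χ (self_mem_blockOf hMp χ) θ (self_mem_blockOf hMp θ) hcon ψ h φ hφ
  rw [hb] at hθ'
  have hθ'' : θ' = θ := hθ'
  subst hθ''
  have e1 : (φ : N → ℂ) = Cfsg.Agent.Lib.Helper75.conjFun N g (θ' : _ → ℂ) := by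
    funext n
    rw [Cfsg.Agent.Lib.Helper75.conjFun_apply]
    exact hg n
  have e2 := Cfsg.Agent.Lib.Helper75.classInner_conjFun N g
    (fun n : N => (ψ : G → ℂ) n) (θ' : _ → ℂ)
  rw [Cfsg.Agent.Lib.Helper75.conjFun_restrict N g
    (isClassFunction_of_isCharacter ψ.2), ← e1] at e2
  rw [← e2]
  exact hφ

/-- Let N be a normal subgroup of the finite group G of order prime to p and of p-power index (a normal p-complement), and fix a maximal ideal M of the algebraic integers containing p. Then two irreducible characters χ, ψ of G lie in the same block if and only if some irreducible character of N has nonzero inner product with both the restriction of χ and the restriction of ψ. -/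
theorem result {G : Type*} [Group G] [Fintype G] (p : ℕ) [Fact p.Prime] (M : Ideal Cfsg.AlgInt) (hM : Cfsg.IsPModular p M) (N : Subgroup G) [N.Normal] [Fintype N] (hN : ¬ p ∣ Nat.card N) (hidx : ∃ k : ℕ, N.index = p ^ k) (χ ψ : Cfsg.IrrCharacter G) : Cfsg.SameBlock M (χ : G → ℂ) (ψ : G → ℂ) ↔ ∃ θ : Cfsg.IrrCharacter N, Cfsg.classInner (fun n : N => (χ : G → ℂ) n) (θ : N → ℂ) ≠ 0 ∧ Cfsg.classInner (fun n : N => (ψ : G → ℂ) n) (θ : N → ℂ) ≠ 0 := by
  classical
  have hMp : M.IsPrime := isPrime_of_isPModular hM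
  obtain ⟨k, hk⟩ := hidx
  constructor
  · intro h
    obtain ⟨θ, hθ⟩ := exists_constituent N χ
    exact ⟨θ, hθ, constituent_of_sameBlock p M hM N hN χ ψ h θ hθ⟩
  · rintro ⟨θ, hχθ, hψθ⟩
    apply sameBlock_of_regular hM
    intro g hg
    have hgN : g ∈ N := mem_of_regular_of_index N hk hg
    have hsupp : ∀ x, x ∉ N → classInd g x = 0 := by
      intro x hx
      unfold classInd
      rw [if_neg]
      intro hc
      obtain ⟨c, hc⟩ := isConj_iff.mp hc
      apply hx
      rw [← hc]
      exact Subgroup.Normal.conj_mem inferInstance g hgN c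
    have e1 := omega_eq_of_classInner_ne_zero N χ.2 θ.2 hχθ (classInd_isClassFunction g) hsupp
    have e2 := omega_eq_of_classInner_ne_zero N ψ.2 θ.2 hψθ (classInd_isClassFunction g) hsupp
    rw [omega_classInd (isClassFunction_of_isCharacter χ.2)] at e1
    rw [omega_classInd (isClassFunction_of_isCharacter ψ.2)] at e2
    rw [e1, e2, sub_self]
    exact memLocalIdeal_zero hMp

end Cfsg.Agent.S0954
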