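import Cfsg.Statements.S0959
import Cfsg.Agent.Lib.Helper77.MinMax

set_option autoImplicit false
open Cfsg
open scoped Pointwise

namespace Cfsg.Agent.S0959

theorem smul_eq_map {G : Type*} [Group G] (x : G) (H : Subgroup G) :
    (MulAut.conj x • H : Subgroup G) = H.map (MulAut.conj x).toMonoidHom := rfl

/-- Let B be a block of the finite group G with defect group D (relative to a maximal ideal M of the algebraic integers containing the prime p), and let P be a p-subgroup. Then there is an element g whose idempotent coefficient for B is a local integer outside the local ideal at M and which has a conjugate centralizing P, if and only if some conjugate of P is contained in D. -/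
theorem result {G : Type*} [Group G] [Finite G] (p : ℕ) [Fact p.Prime] (M : Ideal Cfsg.AlgInt) (hM : Cfsg.IsPModular p M) (B : Set (Cfsg.IrrCharacter G)) (hB : Cfsg.IsPBlock M B) (D : Subgroup G) (hD : Cfsg.IsDefectGroup p M B D) (P : Subgroup G) (hP : IsPGroup p P) : (∃ g : G, Cfsg.MemLocalRing M (Cfsg.blockCoeff B g) ∧ ¬ Cfsg.MemLocalIdeal M (Cfsg.blockCoeff B g) ∧ ∃ c : G, IsConj g c ∧ c ∈ Subgroup.centralizer (P : Set G)) ↔ ∃ x : G, P.map (MulAut.conj x).toMonoidHom ≤ D := by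
  have := Fintype.ofFinite G
  have hMp : M.IsPrime := Cfsg.Agent.Lib.Helper81.isPrime_of_isPModular hM
  obtain ⟨χ₀, rfl⟩ := hB
  have hχ₀ : χ₀ ∈ Cfsg.blockOf M (χ₀ : G → ℂ) := Cfsg.Agent.Lib.Helper77.self_mem_blockOf hMp χ₀
  obtain ⟨g₀, hg₀, D₀, rfl⟩ := hD
  constructor
  · rintro ⟨g, _, hg, c, hgc, hcP⟩
    have hc : ¬ Cfsg.MemLocalIdeal M (Cfsg.blockCoeff (Cfsg.blockOf M (χ₀ : G → ℂ)) c) := by
      rw [← Cfsg.Agent.Lib.Helper77.isClassFunction_of_isConj
        (Cfsg.Agent.Lib.Helper77.blockCoeff_isClassFunction _) hgc]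
      exact hg
    have hdef := Cfsg.Agent.Lib.Helper77.defLE_of_blockCoeff hM χ₀ g₀ (hg₀.2.2 χ₀ hχ₀) D₀ c hc
    obtain ⟨x, hx⟩ := hdef P hP (by
      intro y hy
      rw [Subgroup.mem_centralizer_singleton_iff]
      exact (hcP y hy))
    exact ⟨x, hx⟩
  · rintro ⟨x, hx⟩
    refine ⟨g₀, hg₀.1, hg₀.2.1, x⁻¹ * g₀ * x⁻¹⁻¹, isConj_iff.mpr ⟨x⁻¹, rfl⟩, ?_⟩
    intro y hy
    have h1 : x * y * x⁻¹ ∈ (D₀ : Subgroup (Subgroup.centralizer ({g₀} : Set G))).map
        (Subgroup.centralizer ({g₀} : Set G)).subtype := by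
      apply hx
      exact ⟨y, hy, rfl⟩
    have h2 : x * y * x⁻¹ ∈ Subgroup.centralizer ({g₀} : Set G) :=
      Subgroup.map_subtype_le _ h1
    rw [Subgroup.mem_centralizer_singleton_iff] at h2
    have : y * (x⁻¹ * g₀ * x⁻¹⁻¹) = x⁻¹ * (x * y * x⁻¹ * g₀) * x := by group
    rw [this, h2]
    group

end Cfsg.Agent.S0959
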