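import Cfsg.Statements.S0961
import Cfsg.Agent.S0164
import Cfsg.Agent.Lib.Helper81.PRegular

set_option autoImplicit false
open Cfsg

namespace Cfsg.Agent.S0961

/-- Let χ be an irreducible character of the finite group G and let p ^ a be the largest power of the prime p dividing the order of G. Then the function equal to p ^ a * χ x at elements x of order prime to p and to 0 elsewhere is a generalized character (a difference of characters). -/
theorem result {G : Type*} [Group G] [Finite G] (p : ℕ) [Fact p.Prime] (χ : Cfsg.IrrCharacter G) : Cfsg.IsGeneralizedCharacter G (fun x : G => if p ∣ orderOf x then 0 else ((p ^ (Nat.card G).factorization p : ℕ) : ℂ) * (χ : G → ℂ) x) := by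
  classical
  have hp : p.Prime := Fact.out
  have hχc : Cfsg.IsCharacter G χ.1 := Cfsg.Agent.Lib.Helper3.IsIrrCharacter.isCharacter χ.2
  have hχcf : Cfsg.IsClassFunction G χ.1 :=
    Cfsg.Agent.Lib.Helper3.IsCharacter.isClassFunction hχc
  apply Cfsg.Agent.S0164.result
  · intro g h
    have h1 : orderOf (h * g * h⁻¹) = orderOf g :=
      orderOf_injective (MulAut.conj h).toMonoidHom (MulAut.conj h).injective g
    simp only [h1, hχcf g h]
  · intro E q hq hEl
    have : Fintype E := Fintype.ofFinite E
    obtain ⟨Q, hQn, hQc, j, hj⟩ :=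
      Cfsg.Agent.Lib.Helper81.exists_normal_pcomplement_of_isElementary hq hEl p
    set a := (Nat.card G).factorization p with ha
    have hja : j ≤ a := by
      have h1 : p ^ j ∣ Nat.card G := by
        rw [← hj]
        exact (Subgroup.index_dvd_card Q).trans (Subgroup.card_subgroup_dvd_card E)
      exact (hp.pow_dvd_iff_le_factorization Nat.card_pos.ne').1 h1
    have hgen : ∀ f : E → ℂ, Cfsg.IsCharacter E f → Cfsg.IsGeneralizedCharacter E f :=
      fun f hf => ⟨f, 0, hf, Cfsg.Agent.Lib.Helper3.IsCharacter.zero, by simp⟩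
    apply hgen
    have hfun : (fun e : E => if p ∣ orderOf (e : G) then 0
          else ((p ^ a : ℕ) : ℂ) * (χ : G → ℂ) e) =
        ((p ^ (a - j) : ℕ) : ℂ) • (Cfsg.indFun Q (fun _ => (1 : ℂ)) * fun e : E => χ.1 e) := by
      funext e
      rw [Pi.smul_apply, Pi.mul_apply, Cfsg.Agent.Lib.Helper81.indFun_one_normal,
        Subgroup.orderOf_coe]
      by_cases he : e ∈ Q
      · have h2 := (Cfsg.Agent.Lib.Helper81.mem_iff_not_dvd_orderOf p Q hQc hj e).1 he
        rw [if_neg h2, if_pos he, hj, smul_eq_mul, ← mul_assoc]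
        congr 1
        rw [← Nat.cast_mul, ← pow_add, Nat.sub_add_cancel hja]
      · have h2 : p ∣ orderOf e := by
          by_contra h3
          exact he ((Cfsg.Agent.Lib.Helper81.mem_iff_not_dvd_orderOf p Q hQc hj e).2 h3)
        rw [if_pos h2, if_neg he, zero_mul, smul_zero]
    rw [hfun]
    exact Cfsg.Agent.Lib.Helper3.IsCharacter.nsmul
      (Cfsg.Agent.Lib.Helper3.IsCharacter.mul
        (Cfsg.Agent.Lib.Helper3.isCharacter_indFun Q Cfsg.Agent.Lib.Helper3.IsCharacter.one)
        (Cfsg.Agent.Lib.Helper3.IsCharacter.restrict hχc E)) _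

end Cfsg.Agent.S0961
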