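import Cfsg.Statements.S0968
import Cfsg.Agent.Lib.Helper16.PC6
import Cfsg.Agent.Lib.Helper3.Ortho

set_option autoImplicit false
open Cfsg

namespace Cfsg.Agent.S0968

open Cfsg.Agent.Lib.Helper16 Cfsg.Agent.Lib.Helper77 Cfsg.Agent.Lib.Helper80 Cfsg.Agent.Lib.Helper81

/-- Let P be a p-subgroup of the finite group G with P ⊔ C_G(P) = G, and let B be a block with defect group P relative to a maximal ideal M of the algebraic integers containing p. Then there is exactly one θ ∈ B with θ x = θ 1 for all x ∈ P; for this θ the exponent of p in θ(1) equals the exponent of p in the index of P; and the number of members of B equals the number of conjugacy classes of P. -/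
theorem result {G : Type*} [Group G] [Finite G] (p : ℕ) [Fact p.Prime] (M : Ideal Cfsg.AlgInt) (hM : Cfsg.IsPModular p M) (P : Subgroup G) (hP : IsPGroup p P) (hG : P ⊔ Subgroup.centralizer (P : Set G) = ⊤) (B : Set (Cfsg.IrrCharacter G)) (hB : Cfsg.IsPBlock M B) (hD : Cfsg.IsDefectGroup p M B P) : (∃! θ : Cfsg.IrrCharacter G, θ ∈ B ∧ ∀ x ∈ P, (θ : G → ℂ) x = (θ : G → ℂ) 1) ∧ (∀ θ ∈ B, (∀ x ∈ P, (θ : G → ℂ) x = (θ : G → ℂ) 1) → (Cfsg.charDegree (θ : G → ℂ)).factorization p = P.index.factorization p) ∧ Nat.card B = Nat.card (ConjClasses P) := by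
  classical
  have := Fintype.ofFinite G
  have := Fintype.ofFinite (IrrCharacter G)
  have := Fintype.ofFinite P
  have := Fintype.ofFinite (IrrCharacter P)
  have hp : p.Prime := Fact.out
  have hMp : M.IsPrime := isPrime_of_isPModular hM
  have hPn : P.Normal := normal_of_sup_centralizer_eq_top P hG
  have hC := exists_index_centralizer_eq_pow p P hP hG
  obtain ⟨θ, hθB, hθker, hθdeg⟩ := exists_ker_height_zero p M hM P B hB hD
  have huniq : ∀ θ' : IrrCharacter G, θ' ∈ B → (∀ x ∈ P, (θ' : G → ℂ) x = (θ' : G → ℂ) 1) →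
      θ' = θ := fun θ' h1 h2 =>
    (ker_unique p M hM P hP hC B hB hD θ θ' hθB h1 hθker h2).symm
  refine ⟨⟨θ, ⟨hθB, hθker⟩, fun θ' h => huniq θ' h.1 h.2⟩, ?_, ?_⟩
  · intro θ' hθ'B hθ'ker
    have h1 := val_degree_of_ker p M hM P B hB hD θ' hθ'B hθ'ker
    have h2 : (Nat.card G).factorization p =
        P.index.factorization p + (Nat.card P).factorization p := by
      rw [← Subgroup.index_mul_card P, Nat.factorization_mul
        (Subgroup.index_ne_zero_of_finite) Nat.card_pos.ne']
      rfl
    omega
  · obtain ⟨χ₀, rfl⟩ := hB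
    have h1 := card_block_eq P hM hP hG χ₀ hD
    have h2 : ((Finset.univ.filter
        (fun χ : IrrCharacter G => χ ∈ blockOf M (χ₀ : G → ℂ))).filter
        (fun χ => LiesOver P χ (trivIrr P))).card = 1 := by
      rw [Finset.card_eq_one]
      refine ⟨θ, ?_⟩
      ext χ
      simp only [Finset.mem_filter, Finset.mem_univ, true_and, Finset.mem_singleton]
      constructor
      · rintro ⟨hχB, hlo⟩
        apply huniq χ hχB
        intro x hx
        have := hlo ⟨x, hx⟩
        have ht : ∀ u : P, ((trivIrr P : IrrCharacter P) : P → ℂ) u = 1 := fun _ => rfl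
        rw [ht, ht, mul_one, one_mul] at this
        exact this
      · rintro rfl
        refine ⟨hθB, ?_⟩
        intro u
        have ht : ∀ u : P, ((trivIrr P : IrrCharacter P) : P → ℂ) u = 1 := fun _ => rfl
        rw [ht, ht, mul_one, one_mul]
        exact hθker u u.2
    rw [h2, mul_one] at h1
    rw [← Cfsg.Agent.Lib.Helper3.card_irrCharacter, Nat.card_eq_fintype_card (α := IrrCharacter P),
      ← h1]
    exact Nat.subtype_card _ (fun χ => by simp)

end Cfsg.Agent.S0968
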