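import Cfsg.Statements.S0969
import Cfsg.Agent.Lib.Helper16.Laradji

set_option autoImplicit false
open Cfsg

namespace Cfsg.Agent.S0969

open Cfsg.Agent.Lib.Helper16 Cfsg.Agent.Lib.Helper77 Cfsg.Agent.Lib.Helper80 Cfsg.Agent.Lib.Helper81

/-- Let D be a central p-subgroup of the finite group G and χ an irreducible character with the exponent of p in χ(1) equal to the exponent of p in the index of D; fix a maximal ideal M of the algebraic integers containing p. Then D is a defect group of the block of χ, and χ g = 0 whenever the p-part of g does not lie in D. -/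
theorem result {G : Type*} [Group G] [Finite G] (p : ℕ) [Fact p.Prime] (M : Ideal Cfsg.AlgInt) (hM : Cfsg.IsPModular p M) (D : Subgroup G) (hD : IsPGroup p D) (hDZ : D ≤ Subgroup.center G) (χ : Cfsg.IrrCharacter G) (hdeg : (Cfsg.charDegree (χ : G → ℂ)).factorization p = D.index.factorization p) : Cfsg.IsDefectGroup p M (Cfsg.blockOf M (χ : G → ℂ)) D ∧ ∀ g x : G, Cfsg.IsPPart p g x → x ∉ D → (χ : G → ℂ) g = 0 := by
  classical
  have := Fintype.ofFinite G
  have := Fintype.ofFinite (Cfsg.IrrCharacter G)
  have hp : p.Prime := Fact.out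
  have hMp : M.IsPrime := Cfsg.Agent.Lib.Helper81.isPrime_of_isPModular hM
  obtain ⟨hvan, hinner⟩ := laradji_aux p D hD hDZ χ hdeg
  have hself : χ ∈ Cfsg.blockOf M (χ : G → ℂ) := self_mem_blockOf hMp χ
  refine ⟨?_, ?_⟩
  · -- height zero
    set e := D.index.factorization p with he
    have ht : Cfsg.classInner (Cfsg.Agent.Lib.Helper74.pTilde p (χ : G → ℂ)) (χ : G → ℂ) =
        (((p ^ e : ℕ) : ℤ) : ℂ) := by
      rw [hinner]; push_cast; rfl
    have hu : ¬ Cfsg.MemLocalIdeal M
        (Cfsg.classInner (Cfsg.Agent.Lib.Helper74.pTilde p (χ : G → ℂ)) (χ : G → ℂ) /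
          (χ : G → ℂ) 1) := by
      rw [Cfsg.Agent.Lib.Helper74.pTilde_unit_iff hM χ χ _ ht, hdeg]
      intro hdv
      have h1 : p ^ (e + 1) ∣ p ^ e := by exact_mod_cast hdv
      have h2 := (Nat.pow_dvd_pow_iff_le_right hp.one_lt).1 h1
      omega
    have hh0 := Cfsg.Agent.Lib.Helper74.height_zero_of_pTilde_unit hM χ χ hself χ hself hu
    have hinf := Cfsg.Agent.Lib.Helper74.sInf_le_of_mem p (Cfsg.blockOf M (χ : G → ℂ)) χ hself
    have hBd : Cfsg.blockDefect p (Cfsg.blockOf M (χ : G → ℂ)) =
        (Nat.card G).factorization p - e := by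
      unfold Cfsg.blockDefect
      unfold Cfsg.blockHeight at hh0
      rw [hdeg] at hh0 hinf
      congr 1
      omega
    obtain ⟨d, hd⟩ := hD.exists_card_eq
    have hcardG : Nat.card G = Nat.card D * D.index := (Subgroup.card_mul_index D).symm
    have hidx0 : D.index ≠ 0 := Subgroup.index_ne_zero_of_finite
    have hae : (Nat.card G).factorization p = d + e := by
      rw [hcardG, Nat.factorization_mul (by rw [hd]; exact (pow_pos hp.pos _).ne') hidx0, hd,
        hp.factorization_pow]
      simp
      rfl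
    have hB : Cfsg.IsPBlock M (Cfsg.blockOf M (χ : G → ℂ)) := ⟨χ, rfl⟩
    obtain ⟨g₀, hg₀⟩ := Cfsg.Agent.S0906.result p M hM _ hB
    obtain ⟨P₀⟩ : Nonempty (Sylow p (Subgroup.centralizer ({g₀} : Set G))) := inferInstance
    have hD₀ : Cfsg.IsDefectGroup p M (Cfsg.blockOf M (χ : G → ℂ))
        ((P₀ : Subgroup (Subgroup.centralizer ({g₀} : Set G))).map
          (Subgroup.centralizer ({g₀} : Set G)).subtype) := ⟨g₀, hg₀, P₀, rfl⟩
    have hcard := Cfsg.Agent.S0908.result p M hM _ hB _ hD₀
    have hcore := Cfsg.Agent.S0912.result p M hM _ hB _ hD₀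
    have hDn : D.Normal := by
      refine ⟨fun n hn g => ?_⟩
      have hc : g * n = n * g := Subgroup.mem_center_iff.1 (hDZ hn) g
      rw [hc, mul_inv_cancel_right]
      exact hn
    have hDle := (Cfsg.Agent.Lib.Helper84.le_pCore hDn hD).trans hcore
    have heq : D = (P₀ : Subgroup (Subgroup.centralizer ({g₀} : Set G))).map
          (Subgroup.centralizer ({g₀} : Set G)).subtype := by
      apply Subgroup.eq_of_le_of_card_ge hDle
      rw [hcard, hBd, hae, hd]
      simp
    rw [heq]
    exact hD₀
  · intro g x hgx hxD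
    apply hvan g
    intro d hd y hy hyd
    apply hxD
    have h1 := isPPart_mul_central p D hD hDZ hd hy
    rw [hyd] at h1
    rw [isPPart_unique p hgx h1]
    exact hd

end Cfsg.Agent.S0969
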