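import Cfsg.Statements.S0972
import Cfsg.Agent.Lib.Helper16.Reynolds1
import Cfsg.Agent.Lib.Helper16.Reynolds2
import Cfsg.Agent.Lib.Helper79.Ito
import Cfsg.Agent.Lib.Helper77.ConjBlocks
import Cfsg.Agent.Lib.Helper77.ExtFirstMain
import Cfsg.Agent.S0973
import Cfsg.Agent.S0971
import Cfsg.Agent.S0934
import Cfsg.Agent.S0908

set_option autoImplicit false
open Cfsg

namespace Cfsg.Agent.S0972

open Cfsg.Agent.Lib.Helper16 Cfsg.Agent.Lib.Helper77 Cfsg.Agent.Lib.Helper80 Cfsg.Agent.Lib.Helper81
open Cfsg.Agent.Lib.Helper79 Cfsg.Agent.Lib.Helper75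

universe u

/-- The direction "all heights zero implies commutative" with the subgroup `L = P C_G(P)`
abstracted. -/
theorem aux {G : Type u} [Group G] [Fintype G] (p : ℕ) [Fact p.Prime] (M : Ideal AlgInt)
    (hM : IsPModular p M) (B : Set (IrrCharacter G)) (hB : IsPBlock M B) (P : Subgroup G)
    [hPn : P.Normal] (hP : IsDefectGroup p M B P) (L : Subgroup G) [Fintype L]
    (hLeq : L = P ⊔ Subgroup.centralizer (P : Set G))
    (b : Set (IrrCharacter L)) (hbD : IsDefectGroup p M b (P.subgroupOf L))
    (hind : IsInducedBlock M L b B)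
    (hcov : ∀ B' : Set (IrrCharacter G), IsPBlock M B' →
      (∃ χ ∈ B', ∃ θ ∈ b, classInner (fun n : L => (χ : G → ℂ) n) (θ : L → ℂ) ≠ 0) →
      IsInducedBlock M L b B')
    (hall : ∀ χ ∈ B, blockHeight p B (χ : G → ℂ) = 0) :
    ∀ a ∈ P, ∀ c ∈ P, a * c = c * a := by
  classical
  by_contra hnc
  have hp : p.Prime := Fact.out
  have hMp : M.IsPrime := isPrime_of_isPModular hM
  have hPL : P ≤ L := by rw [hLeq]; exact le_sup_left
  have hLn : L.Normal := by rw [hLeq]; infer_instance
  have hb : IsPBlock M b := hind.1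
  have hP'n : (P.subgroupOf L).Normal := hPn.subgroupOf L
  have hP'p : IsPGroup p (P.subgroupOf L) := isPGroup_of_isDefectGroup hbD
  have hG' : P.subgroupOf L ⊔
      Subgroup.centralizer ((P.subgroupOf L : Subgroup L) : Set L) = ⊤ := by
    rw [eq_top_iff]
    intro l _
    have hl : (l : G) ∈ P ⊔ Subgroup.centralizer (P : Set G) := by rw [← hLeq]; exact l.2
    obtain ⟨u, hu, c, hc, huc⟩ := Subgroup.mem_sup_of_normal_left.mp hl
    have huL : u ∈ L := hPL hu
    have hcL : c ∈ L := by
      rw [hLeq]; exact (le_sup_right : _ ≤ P ⊔ Subgroup.centralizer (P : Set G)) hc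
    have : l = ⟨u, huL⟩ * ⟨c, hcL⟩ := Subtype.ext huc.symm
    rw [this]
    apply Subgroup.mul_mem_sup
    · exact Subgroup.mem_subgroupOf.mpr hu
    · rw [Subgroup.mem_centralizer_iff]
      intro x hx
      apply Subtype.ext
      exact Subgroup.mem_centralizer_iff.mp hc (x : G) (Subgroup.mem_subgroupOf.mp hx)
  have hnc' : ¬ ∀ a ∈ P.subgroupOf L, ∀ c ∈ P.subgroupOf L, a * c = c * a := by
    intro h
    apply hnc
    intro a ha c hc
    have := h ⟨a, hPL ha⟩ (Subgroup.mem_subgroupOf.mpr ha) ⟨c, hPL hc⟩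
      (Subgroup.mem_subgroupOf.mpr hc)
    exact congrArg Subtype.val this
  obtain ⟨ξ, hξb, hξdeg⟩ :=
    exists_degree_gt_of_not_comm p M hM (P.subgroupOf L) hG' b hb hbD hnc'
  obtain ⟨θ, hθb, hθker, hθdeg⟩ := exists_ker_height_zero p M hM (P.subgroupOf L) b hb hbD
  have hlt : (charDegree (θ : L → ℂ)).factorization p <
      (charDegree (ξ : L → ℂ)).factorization p := by omega
  have hcardP' : Nat.card (P.subgroupOf L) = Nat.card P :=
    Nat.card_congr (Subgroup.subgroupOfEquivOfLe hPL).toEquiv
  have hcardP := Cfsg.Agent.S0908.result p M hM B hB P hP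
  rw [blockDefect_eq] at hcardP
  obtain ⟨χ₀, hχ₀⟩ := hB
  have hχ₀B : χ₀ ∈ B := by rw [hχ₀]; exact sameBlock_refl hMp _
  have hB : IsPBlock M B := ⟨χ₀, hχ₀⟩
  have hmin := minDegVal_le_card p (B := B) ⟨χ₀, hχ₀B⟩
  have hvalB : ∀ χ ∈ B, (charDegree (χ : G → ℂ)).factorization p = minDegVal p B := by
    intro χ hχ
    have h1 := hall χ hχ
    rw [blockHeight_eq] at h1
    have h2 := minDegVal_le p hχ
    omega
  have hνP : (Nat.card P).factorization p =
      (Nat.card G).factorization p - minDegVal p B := by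
    rw [hcardP, hp.factorization_pow]; simp
  have ha : minDegVal p B =
      L.index.factorization p + (charDegree (θ : L → ℂ)).factorization p := by
    have h1 : (Nat.card G).factorization p =
        L.index.factorization p + (Nat.card L).factorization p := by
      rw [← Subgroup.index_mul_card L, Nat.factorization_mul
        (Subgroup.index_ne_zero_of_finite) Nat.card_pos.ne']
      rfl
    rw [hcardP'] at hθdeg
    omega
  have hover : ∀ χ : IrrCharacter G,
      classInner (fun n : L => (χ : G → ℂ) n) (θ : L → ℂ) ≠ 0 →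
      (charDegree (χ : G → ℂ)).factorization p = minDegVal p B := by
    intro χ hχ
    apply hvalB
    have h1 := hcov (blockOf M (χ : G → ℂ)) ⟨χ, rfl⟩ ⟨χ, sameBlock_refl hMp _, θ, hθb, hχ⟩
    have h2 := isInducedBlock_unique hMp hind h1
    rw [h2]; exact sameBlock_refl hMp _
  have hC := exists_index_centralizer_eq_pow p (P.subgroupOf L) hP'p hG'
  have hI : inertia L (ξ : L → ℂ) ≤ inertia L (θ : L → ℂ) := by
    intro g hg
    rw [mem_inertia] at hg ⊢
    have hbeq := eq_blockOf_of_mem hMp hb hξb
    have h1 : conjIrr L g θ ∈ b := by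
      rw [hbeq]
      have h2 : SameBlock M (ξ : L → ℂ) (θ : L → ℂ) := by rw [hbeq] at hθb; exact hθb
      have h3 := sameBlock_conjIrr (M := M) L g h2
      have h4 : conjIrr L g ξ = ξ := by
        apply Subtype.ext
        funext x
        rw [conjIrr_apply]
        exact congrFun hg x
      rw [h4] at h3
      exact h3
    have h5 : ∀ u ∈ P.subgroupOf L,
        (conjIrr L g θ : L → ℂ) u = (conjIrr L g θ : L → ℂ) 1 := by
      intro u hu
      rw [conjIrr_apply, conjIrr_apply]
      have h6 : (⟨g * (u : G) * g⁻¹, hLn.conj_mem u u.2 g⟩ : L) ∈ P.subgroupOf L :=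
        Subgroup.mem_subgroupOf.mpr (hPn.conj_mem _ (Subgroup.mem_subgroupOf.mp hu) g)
      rw [hθker _ h6]
      refine congrArg _ (Subtype.ext ?_)
      simp
    have h7 := ker_unique p M hM (P.subgroupOf L) hP'p hC b hb hbD θ (conjIrr L g θ) hθb h1
      hθker h5
    funext x
    rw [conjFun_apply]
    have h8 : (θ : L → ℂ) x = (conjIrr L g θ : L → ℂ) x := by rw [← h7]
    rw [conjIrr_apply] at h8
    exact h8.symm
  obtain ⟨χ', hχ'B, hχ'ne⟩ := Cfsg.Agent.S0934.result p M hM L b B hind ξ hξb
  have h9 := val_degree_gt_of_over p L θ ξ (minDegVal p B) hI hover ha hlt χ' hχ'ne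
  have h10 := hvalB χ' hχ'B
  omega

/-- Let B be a block of the finite group G (relative to a maximal ideal M of the algebraic integers containing the prime p) with a defect group P that is normal in G. Then P is commutative if and only if every member of B has height zero. -/
theorem result {G : Type*} [Group G] [Finite G] (p : ℕ) [Fact p.Prime] (M : Ideal Cfsg.AlgInt) (hM : Cfsg.IsPModular p M) (B : Set (Cfsg.IrrCharacter G)) (hB : Cfsg.IsPBlock M B) (P : Subgroup G) [P.Normal] (hP : Cfsg.IsDefectGroup p M B P) : (∀ a ∈ P, ∀ c ∈ P, a * c = c * a) ↔ ∀ χ ∈ B, Cfsg.blockHeight p B (χ : G → ℂ) = 0 := by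
  classical
  have := Fintype.ofFinite G
  have hp : p.Prime := Fact.out
  have hMp : M.IsPrime := isPrime_of_isPModular hM
  constructor
  · intro hab χ hχ
    have hcardP := Cfsg.Agent.S0908.result p M hM B hB P hP
    rw [blockDefect_eq] at hcardP
    have hmin := minDegVal_le_card p (B := B) ⟨χ, hχ⟩
    have hνP : (Nat.card P).factorization p =
        (Nat.card G).factorization p - minDegVal p B := by
      rw [hcardP, hp.factorization_pow]; simp
    have h2 : (Nat.card G).factorization p =
        P.index.factorization p + (Nat.card P).factorization p := by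
      rw [← Subgroup.index_mul_card P, Nat.factorization_mul
        (Subgroup.index_ne_zero_of_finite) Nat.card_pos.ne']
      rfl
    obtain ⟨d, hd0, hd1, hdc, -⟩ := irr_degree_spec χ
    have hdvd : d ∣ P.index :=
      Cfsg.Agent.Lib.Helper79.ito_aux (Nat.card G) G rfl P hab χ χ.2 d hd1
    rw [blockHeight_eq, hdc]
    have : d.factorization p ≤ P.index.factorization p :=
      (Nat.factorization_le_iff_dvd hd0.ne' Subgroup.index_ne_zero_of_finite).mpr hdvd p
    omega
  · intro hall
    have := Fintype.ofFinite ↥(P ⊔ Subgroup.centralizer (P : Set G))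
    obtain ⟨⟨b, hbD, hind⟩, -⟩ := Cfsg.Agent.S0973.result p M hM B hB P hP
    have hPp : IsPGroup p P := isPGroup_of_isDefectGroup hP
    have hcov := (Cfsg.Agent.S0971.result p M hM P hPp b hind.1).2
    exact aux p M hM B hB P hP _ rfl b hbD hind hcov hall

end Cfsg.Agent.S0972
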