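import Cfsg.Statements.S0974
import Cfsg.Agent.Lib.Helper69.DihedralNorm
import Cfsg.Agent.Lib.Helper17.SylowTools

set_option autoImplicit false
set_option linter.style.haveILetI false
open Cfsg

namespace Cfsg.Agent.S0974

open Cfsg.Agent.Lib.Helper17 Cfsg.Agent.Lib.Helper69 Subgroup MulAction

/-- No finite simple group has order 3648 = 2^6 * 3 * 19. -/
theorem result {G : Type*} [Group G] [Finite G] [IsSimpleGroup G] : Nat.card G ≠ 3648 := by
  intro hG
  haveI : Fact (Nat.Prime 19) := ⟨by norm_num⟩
  haveI : Fact (Nat.Prime 2) := ⟨Nat.prime_two⟩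
  have hnc : ¬ IsMulCommutative G := not_comm_of_simple_of_not_prime (by rw [hG]; norm_num)
  -- Sylow 19
  obtain ⟨P⟩ : Nonempty (Sylow 19 G) := inferInstance
  have hG19 : Nat.card G = 19 ^ 1 * 192 := by rw [hG]; norm_num
  have hP : Nat.card ↥(P : Subgroup G) = 19 := by
    simpa using card_sylow_of_card_eq P hG19 (by norm_num)
  have hdvd : Nat.card (Sylow 19 G) ∣ 192 := card_sylow_dvd_of_card_eq hG19 (by norm_num)
  have hmod : Nat.card (Sylow 19 G) % 19 = 1 := card_sylow_modEq_one 19 G
  have hcases : ∀ d ∈ Nat.divisors 192, d % 19 = 1 → d = 1 ∨ d = 96 := by decide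
  have hne1 : (P : Subgroup G) ≠ ⊥ := by
    intro h; rw [h, Subgroup.card_bot] at hP; omega
  have hne2 : (P : Subgroup G) ≠ ⊤ := by
    intro h; rw [h, Subgroup.card_top] at hP; omega
  have hlt := one_lt_card_sylow_of_simple P hne1 hne2
  have hn19 : Nat.card (Sylow 19 G) = 96 := by
    rcases hcases _ (Nat.mem_divisors.mpr ⟨hdvd, by norm_num⟩) hmod with h | h
    · omega
    · exact h
  have hN : Nat.card ↥(normalizer ((P : Subgroup G) : Set G)) = 2 * 19 := by
    have := card_normalizer_mul_card_sylow P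
    rw [hn19, hG] at this
    omega
  have hNC := not_normalizer_le_centralizer_of_simple P hne1 hne2
  obtain ⟨t, htN, htt, ht1, hinv⟩ :=
    exists_inverting_involution (p := 19) (by norm_num) (P : Subgroup G) hP hN hNC
  -- general fixed point facts
  have hfix : ∀ (X : Type _) [MulAction G X] [Finite X],
      19 * Nat.card (fixedBy X t) + Nat.card {a : X // ∀ x ∈ (P : Subgroup G), x • a = a} ≤
        Nat.card X + 19 * Nat.card {a : X // ∀ x ∈ (P : Subgroup G), x • a = a} := by
    intro X _ _
    exact card_fixedBy_inverting_le'' (p := 19) (by norm_num) (P : Subgroup G) hP t hinv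
  have hmod4 : ∀ (X : Type _) [MulAction G X] [Finite X],
      Nat.card (fixedBy X t) % 4 = Nat.card X % 4 := by
    intro X _ _
    exact card_fixedBy_modEq_four hnc t htt
  -- no subgroup of index 19
  have hno19 : ∀ H : Subgroup G, H.index ≠ 19 := by
    intro H hH
    have hcardX : Nat.card (G ⧸ H) = 19 := hH
    have hempty : Nat.card {a : G ⧸ H // ∀ x ∈ (P : Subgroup G), x • a = a} = 0 := by
      by_contra hne
      have hpos : 0 < Nat.card {a : G ⧸ H // ∀ x ∈ (P : Subgroup G), x • a = a} :=
        Nat.pos_of_ne_zero hne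
      haveI : Nonempty {a : G ⧸ H // ∀ x ∈ (P : Subgroup G), x • a = a} :=
        (Nat.card_pos_iff.mp hpos).1
      obtain ⟨⟨a, ha⟩⟩ := this
      have hPle : (P : Subgroup G) ≤ stabilizer G a := by
        intro x hx
        exact ha x hx
      have hidx : (stabilizer G a).index = 19 := by
        rw [MulAction.index_stabilizer_of_transitive]; exact hcardX
      have hcs : Nat.card (stabilizer G a) = 192 := by
        have := Subgroup.card_mul_index (stabilizer G a)
        rw [hidx, hG] at this
        omega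
      have := Subgroup.card_dvd_of_le hPle
      rw [hP, hcs] at this
      revert this; decide
    have h1 := hfix (G ⧸ H)
    have h2 := hmod4 (G ⧸ H)
    rw [hempty, hcardX] at h1
    rw [hcardX] at h2
    omega
  -- Sylow 2
  obtain ⟨S₀⟩ : Nonempty (Sylow 2 G) := inferInstance
  have hG2 : Nat.card G = 2 ^ 6 * 57 := by rw [hG]; norm_num
  have hS₀ : ∀ S : Sylow 2 G, Nat.card ↥(S : Subgroup G) = 64 := by
    intro S
    simpa using card_sylow_of_card_eq S hG2 (by norm_num)
  have hdvd2 : Nat.card (Sylow 2 G) ∣ 57 := card_sylow_dvd_of_card_eq hG2 (by norm_num)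
  have hS₀ne1 : (S₀ : Subgroup G) ≠ ⊥ := by
    intro h; have := hS₀ S₀; rw [h, Subgroup.card_bot] at this; omega
  have hS₀ne2 : (S₀ : Subgroup G) ≠ ⊤ := by
    intro h; have := hS₀ S₀; rw [h, Subgroup.card_top] at this; omega
  have hlt2 := one_lt_card_sylow_of_simple S₀ hS₀ne1 hS₀ne2
  have hcases2 : ∀ d ∈ Nat.divisors 57, d = 1 ∨ d = 3 ∨ d = 19 ∨ d = 57 := by decide
  have hn2 : Nat.card (Sylow 2 G) = 57 := by
    rcases hcases2 _ (Nat.mem_divisors.mpr ⟨hdvd2, by norm_num⟩) with h | h | h | h
    · omega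
    · exfalso
      have := card_dvd_factorial_card_sylow (G := G) (p := 2) hlt2
      rw [h, hG] at this
      revert this; decide
    · exfalso
      apply hno19 (normalizer ((S₀ : Subgroup G) : Set G))
      have h0 := S₀.card_eq_index_normalizer
      rw [h] at h0
      exact h0.symm
    · exact h
  have hNS : ∀ S : Sylow 2 G, normalizer ((S : Subgroup G) : Set G) = (S : Subgroup G) := by
    intro S
    symm
    apply Subgroup.eq_of_le_of_card_ge le_normalizer
    have := card_normalizer_mul_card_sylow S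
    rw [hn2, hG] at this
    rw [hS₀ S]
    omega
  -- `t` normalizes exactly one Sylow 2-subgroup
  have hf2 : Nat.card (fixedBy (Sylow 2 G) t) = 1 := by
    have hempty : Nat.card {a : Sylow 2 G // ∀ x ∈ (P : Subgroup G), x • a = a} = 0 := by
      by_contra hne
      have hpos : 0 < Nat.card {a : Sylow 2 G // ∀ x ∈ (P : Subgroup G), x • a = a} :=
        Nat.pos_of_ne_zero hne
      haveI : Nonempty {a : Sylow 2 G // ∀ x ∈ (P : Subgroup G), x • a = a} :=
        (Nat.card_pos_iff.mp hpos).1
      obtain ⟨⟨S, hS⟩⟩ := this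
      have hPle : (P : Subgroup G) ≤ normalizer ((S : Subgroup G) : Set G) := by
        intro x hx
        exact Sylow.smul_eq_iff_mem_normalizer.mp (hS x hx)
      have := Subgroup.card_dvd_of_le hPle
      rw [hNS S, hP, hS₀ S] at this
      revert this; decide
    have h1 := hfix (Sylow 2 G)
    have h2 := hmod4 (Sylow 2 G)
    rw [hempty, hn2] at h1
    rw [hn2] at h2
    omega
  obtain ⟨⟨S, hSfix⟩, hSuniq⟩ := (Nat.card_eq_one_iff_exists.mp hf2)
  have htS : t ∈ (S : Subgroup G) := by
    rw [← hNS S]
    exact (mem_fixedBy_sylow_iff t S).mp hSfix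
  have huniq : ∀ g : G, g⁻¹ * t * g ∈ (S : Subgroup G) → g ∈ (S : Subgroup G) := by
    intro g hg
    have h1 : t ∈ ((g • S : Sylow 2 G) : Subgroup G) := (mem_smul_sylow_iff g t S).mpr hg
    have h2 : (g • S : Sylow 2 G) ∈ fixedBy (Sylow 2 G) t :=
      (mem_fixedBy_sylow_iff t (g • S)).mpr (le_normalizer h1)
    have h3 := hSuniq ⟨g • S, h2⟩
    have h4 : g • S = S := congrArg Subtype.val h3
    rw [← hNS S]
    exact Sylow.smul_eq_iff_mem_normalizer.mp h4
  -- `t` lies in the derived subgroup of `S`
  have hcomm := mem_commutator_sylow_of_unique hnc S t htS htt huniq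
  -- the centralizer of `t` has order at most 12
  have hf19 : Nat.card (fixedBy (Sylow 19 G) t) ≤ 6 := by
    have h1 := hfix (Sylow 19 G)
    have h2 : Nat.card {a : Sylow 19 G // ∀ x ∈ (P : Subgroup G), x • a = a} = 1 := by
      rw [Nat.card_eq_one_iff_exists]
      refine ⟨⟨P, fun x hx => Sylow.smul_eq_iff_mem_normalizer.mpr (le_normalizer hx)⟩, ?_⟩
      rintro ⟨R, hR⟩
      apply Subtype.ext
      change R = P
      have hPR : (P : Subgroup G) ≤ normalizer ((R : Subgroup G) : Set G) := fun x hx =>
        Sylow.smul_eq_iff_mem_normalizer.mp (hR x hx)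
      exact (sylow_eq_of_le_normalizer R P hPR).symm
    rw [h2, hn19] at h1
    omega
  have hC12 : Nat.card (centralizer ({t} : Set G)) ≤ 12 := by
    have := card_centralizer_le_of_inverting (p := 19) (by norm_num) P hP hN t htN hinv
    omega
  -- the centralizer in `S`
  have hSp : IsPGroup 2 ↥(S : Subgroup G) := S.isPGroup'
  have h8 := eight_lt_card_centralizer_of_mem_commutator hSp (by rw [hS₀ S]; norm_num)
    (⟨t, htS⟩ : ↥(S : Subgroup G)) hcomm (by apply Subtype.ext; simpa using htt)
  have hle : Nat.card (centralizer ({(⟨t, htS⟩ : ↥(S : Subgroup G))} : Set ↥(S : Subgroup G))) ≤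
      Nat.card (centralizer ({t} : Set G)) := by
    apply Nat.card_le_card_of_injective
      (fun c : centralizer ({(⟨t, htS⟩ : ↥(S : Subgroup G))} : Set ↥(S : Subgroup G)) =>
        (⟨((c : ↥(S : Subgroup G)) : G), by
          rw [Subgroup.mem_centralizer_iff]
          intro x hx
          rw [Set.mem_singleton_iff] at hx
          subst hx
          have := (Subgroup.mem_centralizer_iff.mp c.2) ⟨x, htS⟩ rfl
          exact congrArg Subtype.val this⟩ : centralizer ({t} : Set G)))
    intro a b hab
    apply Subtype.ext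
    apply Subtype.ext
    exact Subtype.mk.inj hab
  have hdvdC : Nat.card (centralizer ({(⟨t, htS⟩ : ↥(S : Subgroup G))} : Set ↥(S : Subgroup G))) ∣
      64 := by
    rw [← hS₀ S]; exact Subgroup.card_subgroup_dvd_card _
  have hcasesC : ∀ d ∈ Nat.divisors 64, 8 < d → d ≤ 12 → False := by decide
  exact hcasesC _ (Nat.mem_divisors.mpr ⟨hdvdC, by norm_num⟩) h8 (hle.trans hC12)

end Cfsg.Agent.S0974
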