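import Cfsg.Statements.S0975
import Cfsg.Agent.Lib.Helper69.BrauerApply
import Cfsg.Agent.Lib.Helper17.SylowTools

set_option autoImplicit false
set_option linter.style.haveILetI false
open Cfsg

namespace Cfsg.Agent.S0975

open Cfsg.Agent.Lib.Helper17 Cfsg.Agent.Lib.Helper69 Subgroup MulAction

/-- No finite simple group has order 3744 = 2^5 * 3^2 * 13. -/
theorem result {G : Type*} [Group G] [Finite G] [IsSimpleGroup G] : Nat.card G ≠ 3744 := by
  intro hG
  haveI : Fact (Nat.Prime 13) := ⟨by norm_num⟩
  have hnc : ¬ IsMulCommutative G := not_comm_of_simple_of_not_prime (by rw [hG]; norm_num)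
  -- Sylow 13
  obtain ⟨P⟩ : Nonempty (Sylow 13 G) := inferInstance
  have hG13 : Nat.card G = 13 ^ 1 * 288 := by rw [hG]; norm_num
  have hP : Nat.card ↥(P : Subgroup G) = 13 := by
    simpa using card_sylow_of_card_eq P hG13 (by norm_num)
  have hdvd : Nat.card (Sylow 13 G) ∣ 288 := card_sylow_dvd_of_card_eq hG13 (by norm_num)
  have hmod : Nat.card (Sylow 13 G) % 13 = 1 := card_sylow_modEq_one 13 G
  have hcases : ∀ d ∈ Nat.divisors 288, d % 13 = 1 → d = 1 ∨ d = 144 := by decide
  have hcases' : ∀ d ∈ Nat.divisors 288, d % 13 = 12 → d = 12 := by decide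
  have hne1 : (P : Subgroup G) ≠ ⊥ := by
    intro h; rw [h, Subgroup.card_bot] at hP; omega
  have hne2 : (P : Subgroup G) ≠ ⊤ := by
    intro h; rw [h, Subgroup.card_top] at hP; omega
  have hlt := one_lt_card_sylow_of_simple P hne1 hne2
  have hn13 : Nat.card (Sylow 13 G) = 144 := by
    rcases hcases _ (Nat.mem_divisors.mpr ⟨hdvd, by norm_num⟩) hmod with h | h
    · omega
    · exact h
  have hN : Nat.card ↥(normalizer ((P : Subgroup G) : Set G)) = 2 * 13 := by
    have := card_normalizer_mul_card_sylow P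
    rw [hn13, hG] at this
    omega
  have hNC := not_normalizer_le_centralizer_of_simple P hne1 hne2
  obtain ⟨n, m, hn, hm, h1n, h⟩ :=
    TI.simple_degrees_e2 hnc (p := 13) (by norm_num) (P : Subgroup G) hP hN hNC
  rw [hG] at hn hm
  have key : ∀ n : ℕ, n ∣ 3744 → n % 13 ≠ 0 → n ∣ 288 := by
    intro n hn h0
    have hcop : Nat.Coprime n 13 := by
      rw [Nat.coprime_comm]
      exact (Nat.Prime.coprime_iff_not_dvd (by norm_num)).mpr
        (fun h => h0 (Nat.mod_eq_zero_of_dvd h))
    have : n ∣ 13 * 288 := by norm_num; exact hn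
    exact hcop.dvd_of_dvd_mul_left this
  rcases h with ⟨h1, h2⟩ | ⟨h1, h2⟩
  · have hn288 := key n hn (by omega)
    rcases hcases n (Nat.mem_divisors.mpr ⟨hn288, by norm_num⟩) h1 with h | h
    · omega
    · subst h
      subst h2
      revert hm; decide
  · have hn288 := key n hn (by omega)
    have h := hcases' n (Nat.mem_divisors.mpr ⟨hn288, by norm_num⟩) h1
    subst h
    have : m = 11 := by omega
    subst this
    revert hm; decide

end Cfsg.Agent.S0975
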