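import Cfsg.Statements.S0976
import Cfsg.Agent.Lib.Helper69.DihedralApply
import Cfsg.Agent.Lib.Helper69.CentralInvolution
import Cfsg.Agent.Lib.Helper69.ConjCount
import Cfsg.Agent.Lib.Helper32.Transitivity2
import Cfsg.Agent.Lib.Helper17.SylowTools
import Cfsg.Agent.Lib.Helper17.PermNormalizer
import Cfsg.Agent.Lib.Helper17.SylowConj
import Cfsg.Agent.S1017

set_option autoImplicit false
set_option linter.style.haveILetI false
set_option maxHeartbeats 1000000
open Cfsg

namespace Cfsg.Agent.S0976

open Cfsg.Agent.Lib.Helper17 Cfsg.Agent.Lib.Helper69 Subgroup MulAction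

/-- arithmetic for the case `n_7 = 288` -/
theorem num288 (n m I k kθ : ℕ) (δ ε a₀ B : ℤ) (hn : n ∣ 4032) (hm : m ∣ 4032) (h1n : 1 < n)
    (hδ : δ = 1 ∨ δ = -1) (hε : ε = 1 ∨ ε = -1)
    (h1 : ((7 : ℕ) : ℤ) * k = n + (((7 : ℕ) : ℤ) - 1) * δ) (h2 : 1 + δ * n = ε * m)
    (h3 : ((7 : ℕ) : ℤ) * kθ = m - 2 * ε) (h4 : |a₀| ≤ k)
    (h7 : kθ = 1 → B = ((7 : ℕ) : ℤ) - 1)
    (h8 : (((7 : ℕ) : ℤ) - 1) * (7 : ℕ) * (4032 : ℕ) * n * m =
        (I : ℤ) ^ 2 * ((((7 : ℕ) : ℤ) - 1) * (n * m + δ * a₀ ^ 2 * m) - ε * B * n)) : False := by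
  have hcases : ∀ d ∈ Nat.divisors 576, d % 7 = 1 → d = 1 ∨ d = 8 ∨ d = 36 ∨ d = 64 ∨ d = 288 := by
    decide
  have hcases' : ∀ d ∈ Nat.divisors 576, d % 7 = 6 → d = 6 ∨ d = 48 := by decide
  have key : ∀ n : ℕ, n ∣ 4032 → n % 7 ≠ 0 → n ∣ 576 := by
    intro n hn h0
    have hcop : Nat.Coprime n 7 := by
      rw [Nat.coprime_comm]
      exact (Nat.Prime.coprime_iff_not_dvd (by norm_num)).mpr
        (fun h => h0 (Nat.mod_eq_zero_of_dvd h))
    have : n ∣ 7 * 576 := by norm_num; exact hn
    exact hcop.dvd_of_dvd_mul_left this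
  push_cast at h1 h3 h8
  have hmpos : 0 < m := Nat.pos_of_ne_zero (by rintro rfl; simp at hm)
  rcases hδ with rfl | rfl
  · -- `δ = 1`
    have hmod : n % 7 = 1 := by omega
    have hn576 := key n hn (by omega)
    have hε1 : ε = 1 := by
      rcases hε with rfl | rfl
      · rfl
      · exfalso; have : (0 : ℤ) < m := by exact_mod_cast hmpos
        linarith [Int.natCast_nonneg n]
    subst hε1
    have hm1 : m = n + 1 := by omega
    rcases hcases n (Nat.mem_divisors.mpr ⟨hn576, by norm_num⟩) hmod with h | h | h | h | h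
    · omega
    · subst h
      subst hm1
      have hk : k = 2 := by omega
      have hkθ : kθ = 1 := by omega
      have hB := h7 hkθ
      subst hk
      rw [hB] at h8
      have ha : -2 ≤ a₀ ∧ a₀ ≤ 2 := by
        rw [abs_le] at h4
        constructor <;> [linarith [h4.1]; linarith [h4.2]]
      obtain ⟨ha1, ha2⟩ := ha
      set J : ℤ := (I : ℤ) ^ 2 with hJ
      interval_cases a₀
      · norm_num at h8; omega
      · norm_num at h8; omega
      · norm_num at h8
        have hJ2 : J = 31752 := by omega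
        have hI : I ≤ 178 ∨ 179 ≤ I := by omega
        rcases hI with hI | hI
        · have : (I : ℤ) ≤ 178 := by exact_mod_cast hI
          have h0 : (0 : ℤ) ≤ I := Int.natCast_nonneg I
          nlinarith
        · have : (179 : ℤ) ≤ I := by exact_mod_cast hI
          nlinarith
      · norm_num at h8; omega
      · norm_num at h8; omega
    · subst h; subst hm1; revert hm; decide
    · subst h; subst hm1; revert hm; decide
    · subst h; subst hm1; revert hm; decide
  · -- `δ = -1`
    have hmod : n % 7 = 6 := by omega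
    have hn576 := key n hn (by omega)
    have hε1 : ε = -1 := by
      rcases hε with rfl | rfl
      · exfalso
        have : (0 : ℤ) < m := by exact_mod_cast hmpos
        have : (2 : ℤ) ≤ n := by exact_mod_cast h1n
        linarith
      · rfl
    subst hε1
    have hm1 : m + 1 = n := by omega
    rcases hcases' n (Nat.mem_divisors.mpr ⟨hn576, by norm_num⟩) hmod with h | h
    · subst h
      have : m = 5 := by omega
      subst this; revert hm; decide
    · subst h
      have : m = 47 := by omega
      subst this; revert hm; decide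

/-- Arithmetic for the case `n_7 = 36`. -/
theorem num36 (a m c k i : ℕ) (hkc : k * c * 36 = 8 * 4032) (hm1 : 56 ∣ m) (hm2 : m ∣ 112)
    (hac : m * a = c) (ha : a % 7 = 1) (hci : c * i = 4032) (ha1 : a ≠ 1) :
    i = 9 := by
  obtain ⟨q, rfl⟩ := hm1
  have hq : q = 1 ∨ q = 2 := by
    have h1 : 56 * q ≤ 112 := Nat.le_of_dvd (by norm_num) hm2
    have h2 : q ≠ 0 := by
      rintro rfl
      simp at hm2
    omega
  have hkc' : k * c = 896 := by omega
  rcases hq with rfl | rfl
  · have hak : a * k = 16 := by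
      have : 56 * (a * k) = 56 * 16 := by
        calc 56 * (a * k) = k * (56 * 1 * a) := by ring
          _ = 896 := by rw [hac]; exact hkc'
      exact Nat.eq_of_mul_eq_mul_left (by norm_num) this
    have ha16 : a ∣ 16 := Dvd.intro _ hak
    have hale : a ≤ 16 := Nat.le_of_dvd (by norm_num) ha16
    have ha8 : a = 8 ∨ a = 15 := by omega
    rcases ha8 with rfl | rfl
    · subst hac
      omega
    · exfalso; revert ha16; decide
  · have hak : a * k = 8 := by
      have : 112 * (a * k) = 112 * 8 := by
        calc 112 * (a * k) = k * (56 * 2 * a) := by ring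
          _ = 896 := by rw [hac]; exact hkc'
      exact Nat.eq_of_mul_eq_mul_left (by norm_num) this
    have ha8 : a ∣ 8 := Dvd.intro _ hak
    have hale : a ≤ 8 := Nat.le_of_dvd (by norm_num) ha8
    have ha8 : a = 8 := by omega
    subst ha8
    subst hac
    omega

/-- the centralizer of a subgroup is normalized by its normalizer -/
theorem conj_mem_centralizer {G : Type*} [Group G] (R : Subgroup G) {k m : G}
    (hk : k ∈ normalizer (R : Set G)) (hm : m ∈ centralizer (R : Set G)) :
    k * m * k⁻¹ ∈ centralizer (R : Set G) := by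
  rw [mem_centralizer_iff] at hm ⊢
  intro r hr
  have h1 : k⁻¹ * r * k ∈ R := by
    have := (mem_normalizer_iff.mp (inv_mem hk)) r
    simpa using this.mp hr
  have h2 := hm _ h1
  calc r * (k * m * k⁻¹) = k * ((k⁻¹ * r * k) * m) * k⁻¹ := by group
    _ = k * (m * (k⁻¹ * r * k)) * k⁻¹ := by rw [h2]
    _ = k * m * k⁻¹ * r := by group

/-- the case `n_7 = 64` -/
theorem case64 {G : Type*} [Group G] [Finite G] [IsSimpleGroup G] (hG : Nat.card G = 4032)
    (hnc : ¬ IsMulCommutative G) (P : Sylow 7 G) (hP : Nat.card ↥(P : Subgroup G) = 7)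
    (h : Nat.card (Sylow 7 G) = 64) : False := by
  haveI : Fact (Nat.Prime 7) := ⟨by norm_num⟩
  haveI : Fact (Nat.Prime 2) := ⟨Nat.prime_two⟩
  haveI : Fact (Nat.Prime 3) := ⟨Nat.prime_three⟩
  have hne1 : (P : Subgroup G) ≠ ⊥ := by
    intro h; rw [h, Subgroup.card_bot] at hP; omega
  have hne2 : (P : Subgroup G) ≠ ⊤ := by
    intro h; rw [h, Subgroup.card_top] at hP; omega
  have hN : Nat.card ↥(normalizer ((P : Subgroup G) : Set G)) = 63 := by
    have := card_normalizer_mul_card_sylow P
    rw [h, hG] at this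
    omega
  have hC : Nat.card ↥(centralizer ((P : Subgroup G) : Set G)) = 21 ∧
      (centralizer ((P : Subgroup G) : Set G)).relIndex
        (normalizer ((P : Subgroup G) : Set G)) = 3 := by
    have h1 := relIndex_centralizer_normalizer_dvd_pred (p := 7) (by norm_num) (P : Subgroup G) hP
    have h2 := card_inf_mul_relIndex (centralizer ((P : Subgroup G) : Set G))
      (normalizer ((P : Subgroup G) : Set G))
    rw [inf_eq_left.mpr (centralizer_le_normalizer _), hN] at h2
    have h3 : (centralizer ((P : Subgroup G) : Set G)).relIndex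
        (normalizer ((P : Subgroup G) : Set G)) ≠ 1 := by
      intro h4
      exact not_normalizer_le_centralizer_of_simple P hne1 hne2 (relIndex_eq_one.mp h4)
    have h5 : (centralizer ((P : Subgroup G) : Set G)).relIndex
        (normalizer ((P : Subgroup G) : Set G)) ≤ 6 := Nat.le_of_dvd (by norm_num) h1
    have h6 : (centralizer ((P : Subgroup G) : Set G)).relIndex
        (normalizer ((P : Subgroup G) : Set G)) ∣ 63 := Dvd.intro_left _ h2
    generalize (centralizer ((P : Subgroup G) : Set G)).relIndex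
        (normalizer ((P : Subgroup G) : Set G)) = r at *
    interval_cases r <;> simp_all <;> omega
  -- a Sylow 3-subgroup `Q` of `N(P)`
  obtain ⟨Q₀⟩ : Nonempty (Sylow 3 ↥(normalizer ((P : Subgroup G) : Set G))) := inferInstance
  set Q : Subgroup G := (Q₀ : Subgroup ↥(normalizer ((P : Subgroup G) : Set G))).map
    (normalizer ((P : Subgroup G) : Set G)).subtype with hQdef
  have hQcard : Nat.card ↥Q = 3 ^ 2 := by
    rw [hQdef, card_map_subtype]
    exact card_sylow_of_card_eq Q₀ (k := 2) (m := 7) (by rw [hN]; norm_num) (by norm_num)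
  have hQ9 : Nat.card ↥Q = 9 := by rw [hQcard]; norm_num
  have hQN : Q ≤ normalizer ((P : Subgroup G) : Set G) := by
    rw [hQdef]
    exact Subgroup.map_subtype_le _
  have hQcomm := comm_of_card_prime_pow_le_two (p := 3) (e := 2) le_rfl Q hQcard
  -- the element `z`
  have hrel : (centralizer ((P : Subgroup G) : Set G)).relIndex Q ≤ 3 := by
    have := relIndex_le_of_le_right (H := centralizer ((P : Subgroup G) : Set G)) hQN
      (by rw [hC.2]; norm_num)
    rwa [hC.2] at this
  have hcardinf := card_inf_mul_relIndex (centralizer ((P : Subgroup G) : Set G)) Q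
  rw [hQ9] at hcardinf
  have h3dvd : 3 ∣ Nat.card ↥(centralizer ((P : Subgroup G) : Set G) ⊓ Q : Subgroup G) := by
    have hd : Nat.card ↥(centralizer ((P : Subgroup G) : Set G) ⊓ Q : Subgroup G) ∣ 9 :=
      Dvd.intro _ hcardinf
    have hle : Nat.card ↥(centralizer ((P : Subgroup G) : Set G) ⊓ Q : Subgroup G) ≤ 9 :=
      Nat.le_of_dvd (by norm_num) hd
    generalize (centralizer ((P : Subgroup G) : Set G)).relIndex Q = r at *
    generalize Nat.card ↥(centralizer ((P : Subgroup G) : Set G) ⊓ Q : Subgroup G) = c at *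
    interval_cases c <;> interval_cases r <;> omega
  obtain ⟨z', hz'⟩ := exists_prime_orderOf_dvd_card'
    (G := ↥(centralizer ((P : Subgroup G) : Set G) ⊓ Q : Subgroup G)) 3 h3dvd
  set z : G := (z' : G) with hzdef
  have hzC : z ∈ centralizer ((P : Subgroup G) : Set G) := z'.2.1
  have hzQ : z ∈ Q := z'.2.2
  have hzo : orderOf z = 3 := by rw [hzdef, Subgroup.orderOf_coe]; exact hz'
  have hz1 : z ≠ 1 := by
    intro h1
    rw [h1, orderOf_one] at hzo
    omega
  have hz3 : z ^ 3 = 1 := by rw [← hzo]; exact pow_orderOf_eq_one z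
  -- `C(z) = N(P)`
  have hPle : (P : Subgroup G) ≤ centralizer ({z} : Set G) := by
    intro a ha
    rw [mem_centralizer_iff]
    intro s hs
    rw [Set.mem_singleton_iff] at hs
    rw [hs]
    exact (mem_centralizer_iff.mp hzC a ha).symm
  have hQle : Q ≤ centralizer ({z} : Set G) := by
    intro a ha
    rw [mem_centralizer_iff]
    intro s hs
    rw [Set.mem_singleton_iff] at hs
    rw [hs]
    exact hQcomm z hzQ a ha
  have hNle : normalizer ((P : Subgroup G) : Set G) ≤ centralizer ({z} : Set G) := by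
    have h7 : 7 ∣ Nat.card ↥(normalizer ((P : Subgroup G) : Set G) ⊓
        centralizer ({z} : Set G) : Subgroup G) := by
      have := Subgroup.card_dvd_of_le (le_inf (le_normalizer (H := (P : Subgroup G))) hPle)
      rwa [hP] at this
    have h9 : 9 ∣ Nat.card ↥(normalizer ((P : Subgroup G) : Set G) ⊓
        centralizer ({z} : Set G) : Subgroup G) := by
      have := Subgroup.card_dvd_of_le (le_inf hQN hQle)
      rwa [hQ9] at this
    have h63 : 63 ∣ Nat.card ↥(normalizer ((P : Subgroup G) : Set G) ⊓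
        centralizer ({z} : Set G) : Subgroup G) := by
      have : (63 : ℕ) = 7 * 9 := by norm_num
      rw [this]
      exact Nat.Coprime.mul_dvd_of_dvd_of_dvd (by norm_num) h7 h9
    have heq : normalizer ((P : Subgroup G) : Set G) ⊓ centralizer ({z} : Set G) =
        normalizer ((P : Subgroup G) : Set G) := by
      apply Subgroup.eq_of_le_of_card_ge inf_le_left
      rw [hN]
      exact Nat.le_of_dvd Nat.card_pos h63
    rw [← heq]
    exact inf_le_right
  have hCz : Nat.card ↥(centralizer ({z} : Set G)) = 63 := by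
    have ha := relIndex_normalizer_modEq_one P (centralizer ({z} : Set G)) hPle
    have hac := card_inf_mul_relIndex (normalizer ((P : Subgroup G) : Set G))
      (centralizer ({z} : Set G))
    rw [inf_eq_left.mpr hNle, hN] at hac
    have hcidx := (centralizer ({z} : Set G)).card_mul_index
    rw [hG] at hcidx
    rw [Nat.ModEq] at ha
    generalize (normalizer ((P : Subgroup G) : Set G)).relIndex (centralizer ({z} : Set G)) = a
      at *
    have ha64 : a * (centralizer ({z} : Set G)).index = 64 := by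
      rw [← hac] at hcidx
      have : 63 * (a * (centralizer ({z} : Set G)).index) = 63 * 64 := by
        rw [← mul_assoc]; exact hcidx
      exact Nat.eq_of_mul_eq_mul_left (by norm_num) this
    have ha_dvd : a ∣ 64 := Dvd.intro _ ha64
    have hale : a ≤ 64 := Nat.le_of_dvd (by norm_num) ha_dvd
    have hcase : a = 1 ∨ a = 8 ∨ a = 64 := by
      have : ∀ d ∈ Nat.divisors 64, d % 7 = 1 → d = 1 ∨ d = 8 ∨ d = 64 := by decide
      exact this a (Nat.mem_divisors.mpr ⟨ha_dvd, by norm_num⟩) (by simpa using ha)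
    rcases hcase with rfl | rfl | rfl
    · omega
    · exfalso
      have hidx : (centralizer ({z} : Set G)).index = 7 + 1 := by omega
      have := two_mul_card_normalizer_dvd_of_index hnc 7 (by norm_num)
        (centralizer ({z} : Set G)) (Or.inr hidx) P hP
      rw [hN] at this
      revert this; decide
    · exfalso
      have hidx : (centralizer ({z} : Set G)).index = 1 := by omega
      have htop : centralizer ({z} : Set G) = ⊤ := Subgroup.index_eq_one.mp hidx
      have hzc : z ∈ center G := by
        rw [Subgroup.mem_center_iff]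
        intro g
        have : g ∈ centralizer ({z} : Set G) := by rw [htop]; exact Subgroup.mem_top g
        rw [mem_centralizer_iff] at this
        exact (this z rfl).symm
      rw [Cfsg.Agent.Lib.Helper32.center_eq_bot_of_simple hnc, Subgroup.mem_bot] at hzc
      exact hz1 hzc
  have hCzeq : centralizer ({z} : Set G) = normalizer ((P : Subgroup G) : Set G) := by
    symm
    apply Subgroup.eq_of_le_of_card_ge hNle
    rw [hCz, hN]
  have hcomm_mem : ∀ g : G, g * z = z * g → g ∈ normalizer ((P : Subgroup G) : Set G) := by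
    intro g hg
    rw [← hCzeq, mem_centralizer_iff]
    intro s hs
    rw [Set.mem_singleton_iff] at hs
    rw [hs]
    exact hg.symm
  -- an element of `N(P)` whose order is a power of 2, or an element commuting with `z` of
  -- order prime to 63, is trivial
  have hodd : ∀ g : G, g * z = z * g → g * g = 1 → g = 1 := by
    intro g hg hgg
    have hgN := hcomm_mem g hg
    have h1 : orderOf (⟨g, hgN⟩ : ↥(normalizer ((P : Subgroup G) : Set G))) ∣ 63 := by
      rw [← hN]; exact orderOf_dvd_natCard _
    have h2 : orderOf (⟨g, hgN⟩ : ↥(normalizer ((P : Subgroup G) : Set G))) ∣ 2 := by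
      apply orderOf_dvd_of_pow_eq_one
      apply Subtype.ext
      simp [pow_two, hgg]
    have h3 : orderOf (⟨g, hgN⟩ : ↥(normalizer ((P : Subgroup G) : Set G))) ∣ Nat.gcd 63 2 :=
      Nat.dvd_gcd h1 h2
    have h4 : orderOf (⟨g, hgN⟩ : ↥(normalizer ((P : Subgroup G) : Set G))) = 1 := by
      have : Nat.gcd 63 2 = 1 := by norm_num
      rw [this] at h3
      exact Nat.dvd_one.mp h3
    have := orderOf_eq_one_iff.mp h4
    exact congrArg Subtype.val this
  -- `z` is not conjugate to its inverse
  have hnr : ∀ g : G, g * z * g⁻¹ ≠ z⁻¹ := by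
    intro g hg
    -- `g • P ≤ N(P)`
    have hle : ((g • P : Sylow 7 G) : Subgroup G) ≤ normalizer ((P : Subgroup G) : Set G) := by
      intro y hy
      have hy' : g⁻¹ * y * g ∈ (P : Subgroup G) := (mem_smul_sylow_iff g y P).mp hy
      apply hcomm_mem
      have h1 : (g⁻¹ * y * g) * z = z * (g⁻¹ * y * g) := by
        exact mem_centralizer_iff.mp hzC _ hy'
      have h2 : z = g⁻¹ * z⁻¹ * g := by rw [← hg]; group
      -- conjugate back
      have h3 : y * (g * z * g⁻¹) = (g * z * g⁻¹) * y := by
        calc y * (g * z * g⁻¹) = g * ((g⁻¹ * y * g) * z) * g⁻¹ := by group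
          _ = g * (z * (g⁻¹ * y * g)) * g⁻¹ := by rw [h1]
          _ = (g * z * g⁻¹) * y := by group
      rw [hg] at h3
      -- `y` commutes with `z⁻¹`, hence with `z`
      calc y * z = z * (z⁻¹ * y) * z := by group
        _ = z * (y * z⁻¹) * z := by rw [h3]
        _ = z * y := by group
    have heq := sylow_eq_of_le_normalizer P (g • P) hle
    have hgN : g ∈ normalizer ((P : Subgroup G) : Set G) :=
      Sylow.smul_eq_iff_mem_normalizer.mp heq
    rw [← hCzeq, mem_centralizer_iff] at hgN
    have h1 : z * g = g * z := hgN z rfl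
    have h2 : g * z * g⁻¹ = z := by rw [← h1]; group
    rw [h2] at hg
    -- `z = z⁻¹` and `z ^ 3 = 1` force `z = 1`
    apply hz1
    have h3 : z * z = 1 := by
      calc z * z = z * z⁻¹ := by rw [← hg]
        _ = 1 := mul_inv_cancel z
    calc z = z ^ 3 * (z * z)⁻¹ := by group
      _ = 1 := by rw [hz3, h3]; group
  -- `Q` as a Sylow 3-subgroup of `G`
  have hG3 : Nat.card G = 3 ^ 2 * 448 := by rw [hG]; norm_num
  have hG7 : Nat.card G = 7 ^ 1 * 576 := by rw [hG]; norm_num
  have hQ3 : IsPGroup 3 Q := IsPGroup.of_card hQcard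
  obtain ⟨Q₃, hQQ₃⟩ := hQ3.exists_le_sylow
  have hQ₃card : Nat.card ↥(Q₃ : Subgroup G) = 3 ^ 2 :=
    card_sylow_of_card_eq Q₃ hG3 (by norm_num)
  have hQeq : Q = (Q₃ : Subgroup G) :=
    Subgroup.eq_of_le_of_card_ge hQQ₃ (by rw [hQ₃card, hQcard])
  set M := normalizer (Q : Set G) with hM
  have hMn3 : Nat.card ↥M * Nat.card (Sylow 3 G) = 4032 := by
    have := card_normalizer_mul_card_sylow Q₃
    rw [← hQeq, hG] at this
    exact this
  have hdvd3 : Nat.card (Sylow 3 G) ∣ 448 := card_sylow_dvd_of_card_eq hG3 (by norm_num)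
  have hmod3 : Nat.card (Sylow 3 G) % 3 = 1 := card_sylow_modEq_one 3 G
  have hcases3 : ∀ d ∈ Nat.divisors 448, d % 3 = 1 →
      d = 1 ∨ d = 4 ∨ d = 7 ∨ d = 16 ∨ d = 28 ∨ d = 64 ∨ d = 112 ∨ d = 448 := by decide
  -- `7` does not divide `|N(Q)|`
  have h7M : ¬ 7 ∣ Nat.card ↥M := by
    intro h7
    obtain ⟨w', hw'⟩ := exists_prime_orderOf_dvd_card' (G := ↥M) 7 h7
    set w : G := (w' : G) with hwdef
    have hwM : w ∈ M := w'.2
    have hwo : orderOf w = 7 := by rw [hwdef, Subgroup.orderOf_coe]; exact hw'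
    set W := zpowers w with hWdef
    have hWcard : Nat.card ↥W = 7 := by rw [hWdef, Nat.card_zpowers, hwo]
    have hWM : W ≤ M := zpowers_le.mpr hwM
    by_cases hfree : ∀ τ ∈ W, τ * z = z * τ → τ = 1
    · have := (conj_count Q W hQ9 z hzQ hz1 hWM hfree hnr).1
      rw [hWcard] at this
      omega
    · push Not at hfree
      obtain ⟨τ, hτW, hτz, hτ1⟩ := hfree
      have hWeq : zpowers τ = W := zpowers_eq_of_mem_of_card_prime W hWcard τ hτW hτ1
      have hWN : W ≤ normalizer ((P : Subgroup G) : Set G) := by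
        rw [← hWeq, zpowers_le]
        exact hcomm_mem τ hτz
      have hW7 : IsPGroup 7 W := IsPGroup.of_card (n := 1) (by rw [hWcard]; norm_num)
      obtain ⟨R, hWR⟩ := hW7.exists_le_sylow
      have hRcard : Nat.card ↥(R : Subgroup G) = 7 := by
        simpa using card_sylow_of_card_eq R hG7 (by norm_num)
      have hReq : W = (R : Subgroup G) :=
        Subgroup.eq_of_le_of_card_ge hWR (by rw [hRcard, hWcard])
      have hRP : R = P := sylow_eq_of_le_normalizer P R (by rw [← hReq]; exact hWN)
      have hPM : (P : Subgroup G) ≤ M := by rw [← hRP, ← hReq]; exact hWM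
      have hQC : Q ≤ centralizer ((P : Subgroup G) : Set G) := by
        intro q hq
        rw [mem_centralizer_iff]
        intro x hx
        have h1 : x * q * x⁻¹ ∈ Q := (mem_normalizer_iff.mp (hPM hx) q).mp hq
        have h2 : q * x⁻¹ * q⁻¹ ∈ (P : Subgroup G) :=
          (mem_normalizer_iff.mp (hQN hq) x⁻¹).mp (inv_mem hx)
        have h3 : x * q * x⁻¹ * q⁻¹ ∈ ((P : Subgroup G) ⊓ Q : Subgroup G) := by
          refine Subgroup.mem_inf.mpr ⟨?_, ?_⟩
          · have : x * q * x⁻¹ * q⁻¹ = x * (q * x⁻¹ * q⁻¹) := by group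
            rw [this]; exact mul_mem hx h2
          · exact Q.mul_mem h1 (Q.inv_mem hq)
        have hcop : (Nat.card ↥(P : Subgroup G)).Coprime (Nat.card ↥Q) := by
          rw [hP, hQ9]; norm_num
        have hbot : ((P : Subgroup G) ⊓ Q : Subgroup G) = ⊥ :=
          Subgroup.inf_eq_bot_of_coprime hcop
        rw [hbot, Subgroup.mem_bot] at h3
        calc x * q = (x * q * x⁻¹ * q⁻¹) * q * x := by group
          _ = q * x := by rw [h3, one_mul]
      have := Subgroup.card_dvd_of_le hQC
      rw [hQ9, hC.1] at this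
      revert this; decide
  -- `2`-subgroups of `N(Q)` have order at most `2`
  have hTbound : ∀ T : Subgroup G, T ≤ M → IsPGroup 2 T → 4 ≤ Nat.card ↥T → False := by
    intro T hTM hT2 hT4
    have hfree : ∀ τ ∈ T, τ * z = z * τ → τ = 1 := by
      intro τ hτ hτz
      have hτN := hcomm_mem τ hτz
      obtain ⟨k, hk⟩ := hT2 ⟨τ, hτ⟩
      have hk' : τ ^ (2 ^ k) = 1 := by simpa using congrArg Subtype.val hk
      have h1 : orderOf τ ∣ 2 ^ k := orderOf_dvd_of_pow_eq_one hk'
      have h2 : orderOf τ ∣ 63 := by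
        have : orderOf (⟨τ, hτN⟩ : ↥(normalizer ((P : Subgroup G) : Set G))) ∣ 63 := by
          rw [← hN]; exact orderOf_dvd_natCard _
        rwa [← Subgroup.orderOf_coe] at this
      have h3 : orderOf τ ∣ Nat.gcd (2 ^ k) 63 := Nat.dvd_gcd h1 h2
      have h4 : Nat.gcd (2 ^ k) 63 = 1 := Nat.Coprime.pow_left k (by norm_num)
      rw [h4] at h3
      exact orderOf_eq_one_iff.mp (Nat.dvd_one.mp h3)
    obtain ⟨hle, hcov⟩ := conj_count Q T hQ9 z hzQ hz1 hTM hfree hnr
    have hT4' : Nat.card ↥T = 4 := by omega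
    obtain ⟨σ', hσ'⟩ := exists_prime_orderOf_dvd_card' (G := ↥T) 2 (by rw [hT4']; norm_num)
    set σ : G := (σ' : G) with hσdef
    have hσT : σ ∈ T := σ'.2
    have hσσ : σ * σ = 1 := by
      have := pow_orderOf_eq_one σ'
      rw [hσ', pow_two] at this
      exact congrArg Subtype.val this
    have hσ1 : σ ≠ 1 := by
      intro h1
      have : σ' = 1 := Subtype.ext h1
      rw [this, orderOf_one] at hσ'
      omega
    have hσz : σ * z * σ⁻¹ ∈ Q := (mem_normalizer_iff.mp (hTM hσT) z).mp hzQ
    set w := z * (σ * z * σ⁻¹) with hw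
    have hwQ : w ∈ Q := mul_mem hzQ hσz
    have hσw' : σ * w * σ⁻¹ = w := by
      have h1 : σ * w * σ⁻¹ = (σ * z * σ⁻¹) * z := by
        rw [hw]
        calc σ * (z * (σ * z * σ⁻¹)) * σ⁻¹ = (σ * z * σ⁻¹) * ((σ * σ) * z * (σ * σ)⁻¹) := by
              group
          _ = (σ * z * σ⁻¹) * z := by rw [hσσ]; group
      rw [h1, hw]
      exact hQcomm _ hσz _ hzQ
    by_cases hw1 : w = 1
    · apply hnr σ
      exact eq_inv_of_mul_eq_one_right hw1
    · obtain ⟨τ, hτT, hτ⟩ := hcov hT4' w hwQ hw1
      have hss : (τ⁻¹ * σ * τ) * (τ⁻¹ * σ * τ) = 1 := by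
        calc (τ⁻¹ * σ * τ) * (τ⁻¹ * σ * τ) = τ⁻¹ * (σ * σ) * τ := by group
          _ = 1 := by rw [hσσ]; group
      have hcz : (τ⁻¹ * σ * τ) * z = z * (τ⁻¹ * σ * τ) := by
        rcases hτ with hτ | hτ
        · calc (τ⁻¹ * σ * τ) * z = τ⁻¹ * (σ * (τ * z * τ⁻¹) * σ⁻¹) * σ * τ := by group
            _ = τ⁻¹ * (σ * w * σ⁻¹) * σ * τ := by rw [← hτ]
            _ = τ⁻¹ * w * σ * τ := by rw [hσw']
            _ = τ⁻¹ * (τ * z * τ⁻¹) * σ * τ := by rw [← hτ]
            _ = z * (τ⁻¹ * σ * τ) := by group
        · have h1 : (τ⁻¹ * σ * τ) * z⁻¹ = z⁻¹ * (τ⁻¹ * σ * τ) := by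
            calc (τ⁻¹ * σ * τ) * z⁻¹ = τ⁻¹ * (σ * (τ * z⁻¹ * τ⁻¹) * σ⁻¹) * σ * τ := by group
              _ = τ⁻¹ * (σ * w * σ⁻¹) * σ * τ := by rw [← hτ]
              _ = τ⁻¹ * w * σ * τ := by rw [hσw']
              _ = τ⁻¹ * (τ * z⁻¹ * τ⁻¹) * σ * τ := by rw [← hτ]
              _ = z⁻¹ * (τ⁻¹ * σ * τ) := by group
          calc (τ⁻¹ * σ * τ) * z = z * (z⁻¹ * (τ⁻¹ * σ * τ)) * z := by group
            _ = z * ((τ⁻¹ * σ * τ) * z⁻¹) * z := by rw [h1]
            _ = z * (τ⁻¹ * σ * τ) := by group
      have hs1 := hodd _ hcz hss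
      apply hσ1
      calc σ = τ * (τ⁻¹ * σ * τ) * τ⁻¹ := by group
        _ = 1 := by rw [hs1]; group
  have hT : ∀ k : ℕ, Nat.card ↥M = 2 ^ k * 9 → 2 ≤ k → False := by
    intro k hk hk2
    obtain ⟨T₀⟩ : Nonempty (Sylow 2 ↥M) := inferInstance
    have hTcard : Nat.card ↥((T₀ : Subgroup ↥M).map M.subtype) = 2 ^ k := by
      rw [card_map_subtype]
      exact card_sylow_of_card_eq T₀ hk (by norm_num)
    have hTM : (T₀ : Subgroup ↥M).map M.subtype ≤ M := Subgroup.map_subtype_le _
    refine hTbound _ hTM (IsPGroup.of_card hTcard) ?_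
    rw [hTcard]
    calc 4 = 2 ^ 2 := by norm_num
      _ ≤ 2 ^ k := Nat.pow_le_pow_right (by norm_num) hk2
  rcases hcases3 _ (Nat.mem_divisors.mpr ⟨hdvd3, by norm_num⟩) hmod3 with
    h3 | h3 | h3 | h3 | h3 | h3 | h3 | h3
  · apply h7M
    rw [h3] at hMn3
    have : Nat.card ↥M = 4032 := by omega
    rw [this]; norm_num
  · apply h7M
    rw [h3] at hMn3
    have : Nat.card ↥M = 1008 := by omega
    rw [this]; norm_num
  · rw [h3] at hMn3
    exact hT 6 (by omega) (by norm_num)
  · apply h7M
    rw [h3] at hMn3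
    have : Nat.card ↥M = 252 := by omega
    rw [this]; norm_num
  · rw [h3] at hMn3
    exact hT 4 (by omega) (by norm_num)
  · apply h7M
    rw [h3] at hMn3
    have : Nat.card ↥M = 63 := by omega
    rw [this]; norm_num
  · rw [h3] at hMn3
    exact hT 2 (by omega) (by norm_num)
  · -- `N(Q) = Q`: Burnside
    rw [h3] at hMn3
    have hM9 : Nat.card ↥M = 9 := by omega
    have hMQ : Q = M := Subgroup.eq_of_le_of_card_ge le_normalizer (by rw [hM9, hQ9])
    have hQ₃ne1 : (Q₃ : Subgroup G) ≠ ⊥ := by
      intro h; rw [h, Subgroup.card_bot] at hQ₃card; omega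
    have hQ₃ne2 : (Q₃ : Subgroup G) ≠ ⊤ := by
      intro h; rw [h, Subgroup.card_top, hG] at hQ₃card; omega
    apply not_normalizer_le_centralizer_of_simple Q₃ hQ₃ne1 hQ₃ne2
    rw [← hQeq, ← hM, ← hMQ]
    intro a ha
    rw [mem_centralizer_iff]
    intro b hb
    exact hQcomm b hb a ha

/-- No finite simple group has order 4032 = 2^6 * 3^2 * 7. -/
theorem result {G : Type*} [Group G] [Finite G] [IsSimpleGroup G] : Nat.card G ≠ 4032 := by
  intro hG
  haveI : Fact (Nat.Prime 7) := ⟨by norm_num⟩
  haveI : Fact (Nat.Prime 2) := ⟨Nat.prime_two⟩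
  have hnc : ¬ IsMulCommutative G := not_comm_of_simple_of_not_prime (by rw [hG]; norm_num)
  have hG' : Nat.card G = 7 ^ 1 * 576 := by rw [hG]; norm_num
  have hPcard : ∀ P : Sylow 7 G, Nat.card ↥(P : Subgroup G) = 7 := fun P => by
    simpa using card_sylow_of_card_eq P hG' (by norm_num)
  have hdvd : Nat.card (Sylow 7 G) ∣ 576 := card_sylow_dvd_of_card_eq hG' (by norm_num)
  have hmod : Nat.card (Sylow 7 G) % 7 = 1 := card_sylow_modEq_one 7 G
  have hcases : ∀ d ∈ Nat.divisors 576, d % 7 = 1 → d = 1 ∨ d = 8 ∨ d = 36 ∨ d = 64 ∨ d = 288 := by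
    decide
  obtain ⟨P⟩ : Nonempty (Sylow 7 G) := inferInstance
  have hP := hPcard P
  have hne1 : (P : Subgroup G) ≠ ⊥ := by
    intro h; rw [h, Subgroup.card_bot] at hP; omega
  have hne2 : (P : Subgroup G) ≠ ⊤ := by
    intro h; rw [h, Subgroup.card_top] at hP; omega
  have hlt := one_lt_card_sylow_of_simple P hne1 hne2
  have hNC := not_normalizer_le_centralizer_of_simple P hne1 hne2
  rcases hcases _ (Nat.mem_divisors.mpr ⟨hdvd, by norm_num⟩) hmod with h | h | h | h | h
  · omega
  · -- n_7 = 8
    have hN : Nat.card ↥(normalizer ((P : Subgroup G) : Set G)) = 504 := by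
      have := card_normalizer_mul_card_sylow P
      rw [h, hG] at this
      omega
    have hidx : (normalizer ((P : Subgroup G) : Set G)).index = 7 + 1 := by
      have h0 := P.card_eq_index_normalizer
      rw [h] at h0
      exact h0.symm
    have := two_mul_card_normalizer_dvd_of_index hnc 7 (by norm_num)
      (normalizer ((P : Subgroup G) : Set G)) (Or.inr hidx) P hP
    rw [hN] at this
    revert this; decide
  · -- n_7 = 36
    have hN : ∀ R : Sylow 7 G, Nat.card ↥(normalizer ((R : Subgroup G) : Set G)) = 112 := by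
      intro R
      have := card_normalizer_mul_card_sylow R
      rw [h, hG] at this
      omega
    have hRne : ∀ R : Sylow 7 G, (R : Subgroup G) ≠ ⊥ ∧ (R : Subgroup G) ≠ ⊤ := by
      intro R
      have hR := hPcard R
      constructor
      · intro h; rw [h, Subgroup.card_bot] at hR; omega
      · intro h; rw [h, Subgroup.card_top] at hR; omega
    have hC : ∀ R : Sylow 7 G, Nat.card ↥(centralizer ((R : Subgroup G) : Set G)) = 56 ∧
        (centralizer ((R : Subgroup G) : Set G)).relIndex
          (normalizer ((R : Subgroup G) : Set G)) = 2 := by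
      intro R
      have h1 := relIndex_centralizer_normalizer_dvd_pred (p := 7) (by norm_num) (R : Subgroup G)
        (hPcard R)
      have h2 := card_inf_mul_relIndex (centralizer ((R : Subgroup G) : Set G))
        (normalizer ((R : Subgroup G) : Set G))
      rw [inf_eq_left.mpr (centralizer_le_normalizer _), hN R] at h2
      have h3 : (centralizer ((R : Subgroup G) : Set G)).relIndex
          (normalizer ((R : Subgroup G) : Set G)) ≠ 1 := by
        intro h4
        exact not_normalizer_le_centralizer_of_simple R (hRne R).1 (hRne R).2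
          (relIndex_eq_one.mp h4)
      have h5 : (centralizer ((R : Subgroup G) : Set G)).relIndex
          (normalizer ((R : Subgroup G) : Set G)) ≤ 6 := Nat.le_of_dvd (by norm_num) h1
      have h6 : (centralizer ((R : Subgroup G) : Set G)).relIndex
          (normalizer ((R : Subgroup G) : Set G)) ∣ 112 := Dvd.intro_left _ h2
      generalize (centralizer ((R : Subgroup G) : Set G)).relIndex
          (normalizer ((R : Subgroup G) : Set G)) = r at *
      interval_cases r <;> simp_all <;> omega
    have hPcomm : ∀ R : Sylow 7 G, ∀ a ∈ (R : Subgroup G), ∀ b ∈ (R : Subgroup G),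
        a * b = b * a := by
      intro R a ha b hb
      have hcyc : IsCyclic ↥(R : Subgroup G) := isCyclic_of_prime_card (hPcard R)
      exact congrArg Subtype.val (hcyc.isMulCommutative.is_comm.comm ⟨a, ha⟩ ⟨b, hb⟩)
    have hPC : ∀ R : Sylow 7 G, (R : Subgroup G) ≤ centralizer ((R : Subgroup G) : Set G) := by
      intro R a ha
      rw [mem_centralizer_iff]
      intro b hb
      exact hPcomm R b hb a ha
    -- a Sylow 2-subgroup `K` of `C(P)`
    obtain ⟨S⟩ : Nonempty (Sylow 2 ↥(centralizer ((P : Subgroup G) : Set G))) := inferInstance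
    set K : Subgroup G := (S : Subgroup ↥(centralizer ((P : Subgroup G) : Set G))).map
      (centralizer ((P : Subgroup G) : Set G)).subtype with hKdef
    have hKcard : Nat.card ↥K = 2 ^ 3 := by
      rw [hKdef, card_map_subtype]
      have := card_sylow_of_card_eq S (k := 3) (m := 7) (by rw [(hC P).1]; norm_num) (by norm_num)
      simpa using this
    have hKC : K ≤ centralizer ((P : Subgroup G) : Set G) := by
      rw [hKdef]
      exact Subgroup.map_subtype_le _
    have hK2 : IsPGroup 2 K := IsPGroup.of_card hKcard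
    -- Step A
    have stepA : ∀ t : G, t ∈ K → t * t = 1 → t ≠ 1 → (∀ k ∈ K, k * t = t * k) →
        Nat.card (fixedBy (Sylow 7 G) t) = 8 ∧
        centralizer ({t} : Set G) ≤ normalizer ((P : Subgroup G) : Set G) := by
      intro t htK ht ht1 htc
      have hcomm : ∀ a ∈ (P : Subgroup G), a * t = t * a := fun a ha =>
        mem_centralizer_iff.mp (hKC htK) a ha
      obtain ⟨hf1, hf2, hf3, hf4⟩ := involution_sylow_count hnc P (by omega) t ht ht1 hcomm
      rw [h] at hf2 hf3 hf4
      rw [hG] at hf4
      have hf : Nat.card (fixedBy (Sylow 7 G) t) = 8 := by omega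
      refine ⟨hf, ?_⟩
      rw [hf] at hf4
      have hPle : (P : Subgroup G) ≤ centralizer ({t} : Set G) := by
        intro a ha
        rw [mem_centralizer_iff]
        intro s hs
        rw [Set.mem_singleton_iff] at hs
        rw [hs]
        exact (hcomm a ha).symm
      have hKle : K ≤ centralizer ({t} : Set G) := by
        intro a ha
        rw [mem_centralizer_iff]
        intro s hs
        rw [Set.mem_singleton_iff] at hs
        rw [hs]
        exact (htc a ha).symm
      have ha := relIndex_normalizer_modEq_one P (centralizer ({t} : Set G)) hPle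
      have hac := card_inf_mul_relIndex (normalizer ((P : Subgroup G) : Set G))
        (centralizer ({t} : Set G))
      have hm7 : 7 ∣ Nat.card ↥(normalizer ((P : Subgroup G) : Set G) ⊓
          centralizer ({t} : Set G) : Subgroup G) := by
        have := Subgroup.card_dvd_of_le (le_inf (le_normalizer (H := (P : Subgroup G))) hPle)
        rwa [hP] at this
      have hm8 : 8 ∣ Nat.card ↥(normalizer ((P : Subgroup G) : Set G) ⊓
          centralizer ({t} : Set G) : Subgroup G) := by
        have : (8 : ℕ) = 2 ^ 3 := by norm_num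
        rw [this, ← hKcard]
        exact Subgroup.card_dvd_of_le (le_inf (hKC.trans (centralizer_le_normalizer _)) hKle)
      have hm1 : 56 ∣ Nat.card ↥(normalizer ((P : Subgroup G) : Set G) ⊓
          centralizer ({t} : Set G) : Subgroup G) := by
        have : (56 : ℕ) = 7 * 8 := by norm_num
        rw [this]
        exact Nat.Coprime.mul_dvd_of_dvd_of_dvd (by norm_num) hm7 hm8
      have hm2 : Nat.card ↥(normalizer ((P : Subgroup G) : Set G) ⊓ centralizer ({t} : Set G) :
            Subgroup G) ∣ Nat.card ↥(normalizer ((P : Subgroup G) : Set G)) :=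
        Subgroup.card_dvd_of_le inf_le_left
      rw [hN P] at hm2
      have hcidx := (centralizer ({t} : Set G)).card_mul_index
      rw [hG] at hcidx
      by_cases ha1 : (normalizer ((P : Subgroup G) : Set G)).relIndex
          (centralizer ({t} : Set G)) = 1
      · exact relIndex_eq_one.mp ha1
      · exfalso
        have h9 : (centralizer ({t} : Set G)).index = 9 :=
          num36 _ _ _ _ _ hf4 hm1 hm2 hac ha hcidx ha1
        exact Cfsg.Agent.S1017.no_index_nine hnc (P : Subgroup G) hP t ht ht1 hcomm _ h9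
    -- a central involution of `K`
    obtain ⟨x, hx⟩ := exists_prime_orderOf_dvd_card' (G := ↥K) 2 (by rw [hKcard]; norm_num)
    have hx1 : (x : G) ≠ 1 := by
      intro h1
      have : x = 1 := Subtype.ext h1
      rw [this, orderOf_one] at hx
      omega
    obtain ⟨t, -, htK, ht, ht1, htc⟩ := exists_central_involution K ⊤ hKcard
      (fun _ _ _ _ _ => Subgroup.mem_top _) ⟨(x : G), Subgroup.mem_top _, x.2, hx1⟩
    obtain ⟨hf, -⟩ := stepA t htK ht ht1 htc
    have hF := card_fixedBy_modEq_card_inter (X := Sylow 7 G) K hK2 t htc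
    rw [hf] at hF
    have hPmem : P ∈ (fixedBy (Sylow 7 G) t ∩ fixedPoints K (Sylow 7 G) : Set (Sylow 7 G)) := by
      constructor
      · rw [mem_fixedBy_sylow_iff]
        exact centralizer_le_normalizer _ (hKC htK)
      · rw [Subgroup.sylow_mem_fixedPoints_iff]
        exact hKC.trans (centralizer_le_normalizer _)
    obtain ⟨R, hRmem, hRP⟩ : ∃ R ∈ (fixedBy (Sylow 7 G) t ∩ fixedPoints K (Sylow 7 G) :
        Set (Sylow 7 G)), R ≠ P := by
      by_contra hcon
      push Not at hcon
      have hset : (fixedBy (Sylow 7 G) t ∩ fixedPoints K (Sylow 7 G) : Set (Sylow 7 G)) = {P} := by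
        ext Q
        constructor
        · intro hQ
          exact hcon Q hQ
        · rintro rfl
          exact hPmem
      rw [hset] at hF
      simp [Nat.ModEq] at hF
    have hKR : K ≤ normalizer ((R : Subgroup G) : Set G) := by
      have := hRmem.2
      rwa [Subgroup.sylow_mem_fixedPoints_iff] at this
    have hrel : (centralizer ((R : Subgroup G) : Set G)).relIndex K ≤ 2 := by
      have := relIndex_le_of_le_right (H := centralizer ((R : Subgroup G) : Set G)) hKR
        (by rw [(hC R).2]; norm_num)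
      rwa [(hC R).2] at this
    have hcardinf := card_inf_mul_relIndex (centralizer ((R : Subgroup G) : Set G)) K
    rw [hKcard] at hcardinf
    have h2dvd : 2 ∣ Nat.card ↥(centralizer ((R : Subgroup G) : Set G) ⊓ K : Subgroup G) := by
      have hd : Nat.card ↥(centralizer ((R : Subgroup G) : Set G) ⊓ K : Subgroup G) ∣ 8 :=
        Dvd.intro _ hcardinf
      have hle : Nat.card ↥(centralizer ((R : Subgroup G) : Set G) ⊓ K : Subgroup G) ≤ 8 :=
        Nat.le_of_dvd (by norm_num) hd
      generalize (centralizer ((R : Subgroup G) : Set G)).relIndex K = r at *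
      generalize Nat.card ↥(centralizer ((R : Subgroup G) : Set G) ⊓ K : Subgroup G) = c at *
      interval_cases c <;> interval_cases r <;> omega
    obtain ⟨z, hz⟩ := exists_prime_orderOf_dvd_card'
      (G := ↥(centralizer ((R : Subgroup G) : Set G) ⊓ K : Subgroup G)) 2 h2dvd
    have hz1 : (z : G) ≠ 1 := by
      intro h1
      have : z = 1 := Subtype.ext h1
      rw [this, orderOf_one] at hz
      omega
    obtain ⟨y, hyC, hyK, hyy, hy1, hyc⟩ := exists_central_involution K
      (centralizer ((R : Subgroup G) : Set G)) hKcard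
      (fun k hk m hm _ => conj_mem_centralizer (R : Subgroup G) (hKR hk) hm)
      ⟨(z : G), z.2.1, z.2.2, hz1⟩
    obtain ⟨-, hle⟩ := stepA y hyK hyy hy1 hyc
    have hRle : (R : Subgroup G) ≤ centralizer ({y} : Set G) := by
      intro r hr
      rw [mem_centralizer_iff]
      intro s hs
      rw [Set.mem_singleton_iff] at hs
      rw [hs]
      exact (mem_centralizer_iff.mp hyC r hr).symm
    exact hRP (sylow_eq_of_le_normalizer P R (hRle.trans hle))
  · -- n_7 = 64
    exact case64 hG hnc P hP h
  · -- n_7 = 288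
    have hN : Nat.card ↥(normalizer ((P : Subgroup G) : Set G)) = 2 * 7 := by
      have := card_normalizer_mul_card_sylow P
      rw [h, hG] at this
      omega
    obtain ⟨n, m, I, k, kθ, δ, ε, a₀, B, hn, hm, -, h1n, hδ, hε, h1, h2, h3, h4, -, -, h7, h8⟩ :=
      TI.simple_dihedral_equation hnc (p := 7) (by norm_num) (P : Subgroup G) hP hN hNC
    rw [hG] at hn hm h8
    exact num288 n m I k kθ δ ε a₀ B hn hm h1n hδ hε h1 h2 h3 h4 h7 h8

end Cfsg.Agent.S0976
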