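import Cfsg.Statements.S0979
import Cfsg.Agent.Lib.Helper69.BrauerApply3
import Cfsg.Agent.Lib.Helper17.SylowTools

set_option autoImplicit false
set_option linter.style.haveILetI false
open Cfsg

namespace Cfsg.Agent.S0979

open Cfsg.Agent.Lib.Helper17 Cfsg.Agent.Lib.Helper69 Subgroup MulAction

/-- No finite simple group has order 5472 = 2^5 * 3^2 * 19. -/
theorem result {G : Type*} [Group G] [Finite G] [IsSimpleGroup G] : Nat.card G ≠ 5472 := by
  intro hG
  haveI : Fact (Nat.Prime 19) := ⟨by norm_num⟩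
  have hnc : ¬ IsMulCommutative G := not_comm_of_simple_of_not_prime (by rw [hG]; norm_num)
  -- Sylow 19
  obtain ⟨P⟩ : Nonempty (Sylow 19 G) := inferInstance
  have hG19 : Nat.card G = 19 ^ 1 * 288 := by rw [hG]; norm_num
  have hP : Nat.card ↥(P : Subgroup G) = 19 := by
    simpa using card_sylow_of_card_eq P hG19 (by norm_num)
  have hdvd : Nat.card (Sylow 19 G) ∣ 288 := card_sylow_dvd_of_card_eq hG19 (by norm_num)
  have hmod : Nat.card (Sylow 19 G) % 19 = 1 := card_sylow_modEq_one 19 G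
  have hcases : ∀ d ∈ Nat.divisors 288, d % 19 = 1 → d = 1 ∨ d = 96 := by decide
  have hcases' : ∀ d ∈ Nat.divisors 288, d % 19 = 18 → d = 18 := by decide
  have hne1 : (P : Subgroup G) ≠ ⊥ := by
    intro h; rw [h, Subgroup.card_bot] at hP; omega
  have hne2 : (P : Subgroup G) ≠ ⊤ := by
    intro h; rw [h, Subgroup.card_top] at hP; omega
  have hlt := one_lt_card_sylow_of_simple P hne1 hne2
  have hn19 : Nat.card (Sylow 19 G) = 96 := by
    rcases hcases _ (Nat.mem_divisors.mpr ⟨hdvd, by norm_num⟩) hmod with h | h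
    · omega
    · exact h
  have hN : Nat.card ↥(normalizer ((P : Subgroup G) : Set G)) = 3 * 19 := by
    have := card_normalizer_mul_card_sylow P
    rw [hn19, hG] at this
    omega
  have hNC := not_normalizer_le_centralizer_of_simple P hne1 hne2
  obtain ⟨n₂, n₃, m, δ₂, δ₃, ε, a₂, a₃, hn₂, hn₃, hm, h1n₂, h1n₃, hδ₂, hδ₃, hε, hc₂, hc₃, heq⟩ :=
    TI.simple_degrees_e3 hnc (p := 19) (by norm_num) (P : Subgroup G) hP hN hNC
  rw [hG] at hn₂ hn₃ hm
  have key : ∀ n : ℕ, n ∣ 5472 → n % 19 ≠ 0 → n ∣ 288 := by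
    intro n hn h0
    have hcop : Nat.Coprime n 19 := by
      rw [Nat.coprime_comm]
      exact (Nat.Prime.coprime_iff_not_dvd (by norm_num)).mpr
        (fun h => h0 (Nat.mod_eq_zero_of_dvd h))
    have : n ∣ 19 * 288 := by norm_num; exact hn
    exact hcop.dvd_of_dvd_mul_left this
  have hval : ∀ (n : ℕ) (δ a : ℤ), n ∣ 5472 → 1 < n → (δ = 1 ∨ δ = -1) →
      (n : ℤ) = δ + ((19 : ℕ) : ℤ) * a → (δ = 1 ∧ n = 96) ∨ (δ = -1 ∧ n = 18) := by
    intro n δ a hn h1 hδ hc
    rcases hδ with rfl | rfl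
    · left
      have hmod : n % 19 = 1 := by omega
      have h288 := key n hn (by omega)
      rcases hcases n (Nat.mem_divisors.mpr ⟨h288, by norm_num⟩) hmod with h | h
      · omega
      · exact ⟨rfl, h⟩
    · right
      have hmod : n % 19 = 18 := by omega
      have h288 := key n hn (by omega)
      exact ⟨rfl, hcases' n (Nat.mem_divisors.mpr ⟨h288, by norm_num⟩) hmod⟩
  rcases hval n₂ δ₂ a₂ hn₂ h1n₂ hδ₂ hc₂ with ⟨rfl, rfl⟩ | ⟨rfl, rfl⟩ <;>
    rcases hval n₃ δ₃ a₃ hn₃ h1n₃ hδ₃ hc₃ with ⟨rfl, rfl⟩ | ⟨rfl, rfl⟩ <;>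
    rcases hε with rfl | rfl
  · have : m = 193 := by omega
    subst this; revert hm; decide
  · omega
  · have : m = 79 := by omega
    subst this; revert hm; decide
  · omega
  · have : m = 79 := by omega
    subst this; revert hm; decide
  · omega
  · omega
  · have : m = 35 := by omega
    subst this; revert hm; decide

end Cfsg.Agent.S0979
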