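import Cfsg.Statements.S0981
import Cfsg.Agent.S1230
import Cfsg.Agent.Lib.Helper17.Ord4080
import Cfsg.Agent.Lib.Helper49.PSLCongr

set_option autoImplicit false
open Cfsg

namespace Cfsg.Agent.S0981

open Cfsg.Agent.Lib.Helper17 Cfsg.Agent.Lib.Helper49.PSLCongr Subgroup

/-- A simple group of order 4080 is isomorphic to the projective special linear group of dimension 2 over the field with 16 elements. -/
theorem result {G : Type*} [Group G] [Finite G] [IsSimpleGroup G] (h : Nat.card G = 4080) {F : Type*} [Field F] [Fintype F] (hF : Fintype.card F = 16) : Nonempty (G ≃* Matrix.ProjectiveSpecialLinearGroup (Fin 2) F) := by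
  haveI : Fact (Nat.Prime 2) := ⟨Nat.prime_two⟩
  have hnc : ¬ IsMulCommutative G := not_comm_of_simple_of_not_prime (by rw [h]; norm_num)
  obtain ⟨T⟩ : Nonempty (Sylow 2 G) := inferInstance
  have hT16 : Nat.card ↥(T : Subgroup G) = 16 := by
    have := card_sylow_of_card_eq T (by rw [h]; norm_num : Nat.card G = 2 ^ 4 * 255) (by norm_num)
    rw [this]; norm_num
  have hC := o4080_centralizer_invol hnc h
  -- the Sylow 2-subgroup is not cyclic
  have hnc2 : ¬ IsCyclic ↥(T : Subgroup G) := by
    intro hcyc
    obtain ⟨c, hc⟩ := hcyc.exists_generator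
    have hco : orderOf c = 16 := by rw [orderOf_eq_card_of_forall_mem_zpowers hc, hT16]
    have hco' : orderOf (c : G) = 16 := by rw [Subgroup.orderOf_coe, hco]
    have h16 : (c : G) ^ 16 = 1 := by rw [← hco']; exact pow_orderOf_eq_one _
    have h2 := o4080_sq hnc h (c : G) h16
    have := orderOf_dvd_of_pow_eq_one (by rw [pow_two]; exact h2 : (c : G) ^ 2 = 1)
    rw [hco'] at this
    omega
  -- nor normal
  have hnn : ¬ (T : Subgroup G).Normal := by
    intro hn
    rcases hn.eq_bot_or_eq_top with h1 | h1
    · rw [h1, Subgroup.card_bot] at hT16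
      omega
    · rw [h1, Subgroup.card_top, h] at hT16
      omega
  obtain ⟨F₀, _, _, hcard, ⟨e⟩⟩ := Cfsg.Agent.S1230.result T hnc2 hnn hC
  have hcard' : Fintype.card F₀ = Fintype.card F := by rw [hcard, hF]; exact hT16
  exact ⟨e.trans (pslCongr (FiniteField.ringEquivOfCardEq hcard'))⟩

end Cfsg.Agent.S0981
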