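import Cfsg.Statements.S0986
import Cfsg.Agent.Lib.Helper17.PGroupNorm

set_option autoImplicit false
open Cfsg

namespace Cfsg.Agent.S0986

open Cfsg.Agent.Lib.Helper17 Subgroup

/-- Let P and Q be distinct Sylow p-subgroups of a finite group G chosen so that the order of P ∩ Q is as large as possible among intersections of two distinct Sylow p-subgroups, and let N be the normalizer of P ∩ Q. Then N has more than one Sylow p-subgroup, any two distinct Sylow p-subgroups of N intersect exactly in P ∩ Q, and each Sylow p-subgroup of N lies in exactly one Sylow p-subgroup of G. -/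
theorem result {G : Type*} [Group G] [Finite G] (p : ℕ) [Fact p.Prime] (P Q : Sylow p G) (hPQ : P ≠ Q) (hmax : ∀ P' Q' : Sylow p G, P' ≠ Q' → Nat.card ↥((P' : Subgroup G) ⊓ (Q' : Subgroup G)) ≤ Nat.card ↥((P : Subgroup G) ⊓ (Q : Subgroup G))) : 1 < Nat.card (Sylow p ↥(Subgroup.normalizer (((P : Subgroup G) ⊓ (Q : Subgroup G) : Subgroup G) : Set G))) ∧ (∀ S T : Sylow p ↥(Subgroup.normalizer (((P : Subgroup G) ⊓ (Q : Subgroup G) : Subgroup G) : Set G)), S ≠ T → (S : Subgroup _) ⊓ (T : Subgroup _) = ((P : Subgroup G) ⊓ (Q : Subgroup G)).subgroupOf (Subgroup.normalizer (((P : Subgroup G) ⊓ (Q : Subgroup G) : Subgroup G) : Set G))) ∧ ∀ S : Sylow p ↥(Subgroup.normalizer (((P : Subgroup G) ⊓ (Q : Subgroup G) : Subgroup G) : Set G)), ∃! T : Sylow p G, (S : Subgroup _).map (Subgroup.normalizer (((P : Subgroup G) ⊓ (Q : Subgroup G) : Subgroup G) : Set G)).subtype ≤ (T : Subgroup G) := by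
  set D : Subgroup G := (P : Subgroup G) ⊓ (Q : Subgroup G) with hD
  set N : Subgroup G := Subgroup.normalizer (D : Set G) with hN
  have hDN : D ≤ N := le_normalizer
  -- D < P and D < Q
  have hDP : D < (P : Subgroup G) := by
    refine lt_of_le_of_ne inf_le_left ?_
    intro h
    apply hPQ
    have hle : (P : Subgroup G) ≤ (Q : Subgroup G) := by rw [← h]; exact inf_le_right
    exact Sylow.ext (P.is_maximal' Q.2 hle).symm
  have hDQ : D < (Q : Subgroup G) := by
    refine lt_of_le_of_ne inf_le_right ?_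
    intro h
    apply hPQ
    have hle : (Q : Subgroup G) ≤ (P : Subgroup G) := by rw [← h]; exact inf_le_left
    exact Sylow.ext (Q.is_maximal' P.2 hle)
  have hcP : Nat.card ↥D < Nat.card ↥((P : Subgroup G) ⊓ N : Subgroup G) :=
    card_lt_card_inf_normalizer _ D P.2 hDP
  have hcQ : Nat.card ↥D < Nat.card ↥((Q : Subgroup G) ⊓ N : Subgroup G) :=
    card_lt_card_inf_normalizer _ D Q.2 hDQ
  -- every Sylow subgroup of N is larger than D
  have hbig : ∀ S : Sylow p ↥N, Nat.card ↥D < Nat.card ↥(S : Subgroup ↥N) := by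
    intro S
    obtain ⟨S₀, hS₀⟩ := exists_sylow_map_ge N ((P : Subgroup G) ⊓ N) (P.2.to_le inf_le_left) inf_le_right
    have h1 : Nat.card ↥((P : Subgroup G) ⊓ N : Subgroup G) ≤ Nat.card ↥(S₀ : Subgroup ↥N) := by
      rw [← card_map_subtype]
      exact Nat.le_of_dvd Nat.card_pos (Subgroup.card_dvd_of_le hS₀)
    rw [card_sylow_eq_card_sylow S S₀]
    omega
  -- D is contained in every Sylow subgroup of N
  have hDS : ∀ S : Sylow p ↥N, D.subgroupOf N ≤ (S : Subgroup ↥N) := by
    intro S
    haveI : (D.subgroupOf N).Normal := by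
      rw [hN]; exact Subgroup.normal_in_normalizer
    have hpD : IsPGroup p (D.subgroupOf N) := (P.2.to_le inf_le_left).comap_subtype
    exact hpD.le_sylow_of_normal S
  -- uniqueness of the Sylow subgroup of G above a Sylow subgroup of N
  have huniq : ∀ S : Sylow p ↥N, ∀ T₁ T₂ : Sylow p G,
      (S : Subgroup ↥N).map N.subtype ≤ (T₁ : Subgroup G) →
      (S : Subgroup ↥N).map N.subtype ≤ (T₂ : Subgroup G) → T₁ = T₂ := by
    intro S T₁ T₂ h1 h2
    by_contra hne
    have h3 := hmax T₁ T₂ hne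
    have h4 : Nat.card ↥((S : Subgroup ↥N).map N.subtype) ≤
        Nat.card ↥((T₁ : Subgroup G) ⊓ (T₂ : Subgroup G)) :=
      Nat.le_of_dvd Nat.card_pos (Subgroup.card_dvd_of_le (le_inf h1 h2))
    rw [card_map_subtype] at h4
    have := hbig S
    omega
  have hex : ∀ S : Sylow p ↥N, ∃ T : Sylow p G, (S : Subgroup ↥N).map N.subtype ≤ (T : Subgroup G) := by
    intro S
    exact (S.2.map N.subtype).exists_le_sylow
  refine ⟨?_, ?_, ?_⟩
  · -- more than one Sylow subgroup
    by_contra hcon
    have hle : Nat.card (Sylow p ↥N) ≤ 1 := by omega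
    haveI : Subsingleton (Sylow p ↥N) := (Finite.card_le_one_iff_subsingleton).mp hle
    obtain ⟨S₁, hS₁⟩ := exists_sylow_map_ge N ((P : Subgroup G) ⊓ N) (P.2.to_le inf_le_left) inf_le_right
    obtain ⟨S₂, hS₂⟩ := exists_sylow_map_ge N ((Q : Subgroup G) ⊓ N) (Q.2.to_le inf_le_left) inf_le_right
    have hS12 : S₂ = S₁ := Subsingleton.elim _ _
    rw [hS12] at hS₂
    obtain ⟨T, hT⟩ := hex S₁
    have hPT : P = T := by
      by_contra hne
      have h3 := hmax P T hne
      have h4 : Nat.card ↥((P : Subgroup G) ⊓ N : Subgroup G) ≤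
          Nat.card ↥((P : Subgroup G) ⊓ (T : Subgroup G)) :=
        Nat.le_of_dvd Nat.card_pos
          (Subgroup.card_dvd_of_le (le_inf inf_le_left (le_trans hS₁ hT)))
      omega
    have hQT : Q = T := by
      by_contra hne
      have h3 := hmax Q T hne
      have h4 : Nat.card ↥((Q : Subgroup G) ⊓ N : Subgroup G) ≤
          Nat.card ↥((Q : Subgroup G) ⊓ (T : Subgroup G)) :=
        Nat.le_of_dvd Nat.card_pos
          (Subgroup.card_dvd_of_le (le_inf inf_le_left (le_trans hS₂ hT)))
      omega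
    exact hPQ (hPT.trans hQT.symm)
  · -- intersections
    intro S T hST
    obtain ⟨S', hS'⟩ := hex S
    obtain ⟨T', hT'⟩ := hex T
    have hne : S' ≠ T' := by
      intro h
      apply hST
      rw [← h] at hT'
      have e1 := sylow_map_eq_inf N S (S' : Subgroup G) S'.2 hS'
      have e2 := sylow_map_eq_inf N T (S' : Subgroup G) S'.2 hT'
      apply Sylow.ext
      apply Subgroup.map_injective N.subtype_injective
      rw [e1, e2]
    have h3 := hmax S' T' hne
    have hle : D.subgroupOf N ≤ (S : Subgroup ↥N) ⊓ (T : Subgroup ↥N) := le_inf (hDS S) (hDS T)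
    symm
    apply Subgroup.eq_of_le_of_card_ge hle
    rw [card_subgroupOf_of_le hDN, ← card_map_subtype N ((S : Subgroup ↥N) ⊓ (T : Subgroup ↥N))]
    have h5 : ((S : Subgroup ↥N) ⊓ (T : Subgroup ↥N)).map N.subtype ≤
        (S' : Subgroup G) ⊓ (T' : Subgroup G) := by
      apply le_inf
      · exact le_trans (Subgroup.map_mono inf_le_left) hS'
      · exact le_trans (Subgroup.map_mono inf_le_right) hT'
    have h6 := Nat.le_of_dvd Nat.card_pos (Subgroup.card_dvd_of_le h5)
    omega
  · intro S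
    obtain ⟨T, hT⟩ := hex S
    exact ⟨T, hT, fun T' hT' => huniq S T' T hT' hT⟩

end Cfsg.Agent.S0986
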