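import Cfsg.Statements.S0987
import Cfsg.Agent.Lib.Helper17.SylowTools

set_option autoImplicit false
open Cfsg

namespace Cfsg.Agent.S0987

open Cfsg.Agent.Lib.Helper17 Subgroup

/-- In a group of order `q * r` (`q < r` primes)... more generally: if `|M| = q * r` with `q < r`, `r` prime,
then any Sylow `r`-subgroup of `M` is normal. -/
theorem sylow_normal_of_card_lt {M : Type*} [Group M] [Finite M] (q r : ℕ) [hr : Fact r.Prime]
    (hq0 : 0 < q) (hqr : q < r) (hM : Nat.card M = q * r) (R : Sylow r M) :
    (R : Subgroup M).Normal := by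
  have hnd : ¬ r ∣ q := fun h => absurd (Nat.le_of_dvd hq0 h) (by omega)
  have h1 : Nat.card (Sylow r M) ∣ q :=
    card_sylow_dvd_of_card_eq (p := r) (k := 1) (m := q) (by rw [hM]; ring) hnd
  have h2 : Nat.card (Sylow r M) ≡ 1 [MOD r] := card_sylow_modEq_one r M
  have h3 : Nat.card (Sylow r M) ≤ q := Nat.le_of_dvd hq0 h1
  have h4 : Nat.card (Sylow r M) = 1 := by
    have hlt : Nat.card (Sylow r M) < r := by omega
    have := Nat.ModEq.eq_of_lt_of_lt h2 hlt hr.out.one_lt
    exact this
  haveI : Subsingleton (Sylow r M) := (Finite.card_le_one_iff_subsingleton).mp (by omega)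
  exact R.normal_of_subsingleton

/-- If a finite group has order pqr for primes p < q < r, then its Sylow r-subgroups are normal. -/
theorem result {G : Type*} [Group G] [Finite G] (p q r : ℕ) (hp : p.Prime) (hq : q.Prime) [Fact r.Prime] (hpq : p < q) (hqr : q < r) (hG : Nat.card G = p * q * r) (R : Sylow r G) : (R : Subgroup G).Normal := by
  have hr : r.Prime := Fact.out
  haveI : Fact q.Prime := ⟨hq⟩
  have hpr : p < r := lt_trans hpq hqr
  -- r does not divide p * q
  have hnd : ¬ r ∣ p * q := by
    intro h
    rcases (Nat.Prime.dvd_mul hr).mp h with h | h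
    · exact absurd (Nat.le_of_dvd hp.pos h) (by omega)
    · exact absurd (Nat.le_of_dvd hq.pos h) (by omega)
  have hGr : Nat.card G = r ^ 1 * (p * q) := by rw [hG]; ring
  have hRcard : Nat.card ↥(R : Subgroup G) = r := by
    have := card_sylow_of_card_eq R hGr hnd
    simpa using this
  have hdvd : Nat.card (Sylow r G) ∣ p * q := card_sylow_dvd_of_card_eq hGr hnd
  have hmod : Nat.card (Sylow r G) ≡ 1 [MOD r] := card_sylow_modEq_one r G
  -- n_r ∈ {1, p, q, pq}
  have hcases : Nat.card (Sylow r G) = 1 ∨ Nat.card (Sylow r G) = p * q := by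
    obtain ⟨a, b, ha, hb, hab⟩ := (Nat.dvd_mul).mp hdvd
    rcases (Nat.dvd_prime hp).mp ha with rfl | rfl <;> rcases (Nat.dvd_prime hq).mp hb with rfl | rfl
    · left; omega
    · exfalso
      rw [← hab, one_mul] at hmod
      have := Nat.ModEq.eq_of_lt_of_lt hmod hqr hr.one_lt
      have := hq.one_lt
      omega
    · exfalso
      rw [← hab, mul_one] at hmod
      have := Nat.ModEq.eq_of_lt_of_lt hmod hpr hr.one_lt
      have := hp.one_lt
      omega
    · right; exact hab.symm
  rcases hcases with h1 | hpq'
  · haveI : Subsingleton (Sylow r G) := (Finite.card_le_one_iff_subsingleton).mp (by omega)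
    exact R.normal_of_subsingleton
  exfalso
  -- the normalizer of R is R
  have hNcard : Nat.card ↥(normalizer ((R : Subgroup G) : Set G)) = r := by
    have := card_normalizer_mul_card_sylow R
    rw [hpq', hG] at this
    have h0 : 0 < p * q := Nat.mul_pos hp.pos hq.pos
    have : Nat.card ↥(normalizer ((R : Subgroup G) : Set G)) * (p * q) = r * (p * q) := by
      rw [this]; ring
    exact Nat.eq_of_mul_eq_mul_right h0 this
  have hNeq : normalizer ((R : Subgroup G) : Set G) = (R : Subgroup G) := by
    symm
    apply Subgroup.eq_of_le_of_card_ge le_normalizer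
    rw [hNcard, hRcard]
  -- R is commutative, so N(R) ≤ C(R)
  have hRcomm : ∀ a ∈ (R : Subgroup G), ∀ b ∈ (R : Subgroup G), a * b = b * a := by
    intro a ha b hb
    have hcyc : IsCyclic ↥(R : Subgroup G) := isCyclic_of_prime_card (p := r) hRcard
    have := hcyc.isMulCommutative.is_comm.comm ⟨a, ha⟩ ⟨b, hb⟩
    exact congrArg Subtype.val this
  have hNC : normalizer ((R : Subgroup G) : Set G) ≤ centralizer ((R : Subgroup G) : Set G) := by
    rw [hNeq]
    intro a ha
    rw [mem_centralizer_iff]
    intro b hb
    exact hRcomm b hb a ha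
  -- Burnside: normal complement K of order p * q
  set K := (MonoidHom.transferSylow R hNC).ker with hK
  have hcompl : IsComplement' K (R : Subgroup G) := MonoidHom.ker_transferSylow_isComplement' R hNC
  have hKcard : Nat.card ↥K = q * p := by
    have := hcompl.card_mul_card
    rw [hRcard, hG] at this
    have : Nat.card ↥K * r = (q * p) * r := by rw [this]; ring
    exact Nat.eq_of_mul_eq_mul_right hr.pos this
  -- Sylow q of K is normal in K, hence characteristic, hence normal in G
  obtain ⟨Q⟩ : Nonempty (Sylow q ↥K) := inferInstance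
  have hQn : (Q : Subgroup ↥K).Normal := sylow_normal_of_card_lt p q hp.pos hpq (by rw [hKcard]; ring) Q
  haveI : Subsingleton (Sylow q ↥K) := by
    have := Sylow.unique_of_normal Q hQn
    infer_instance
  haveI hchar : (Q : Subgroup ↥K).Characteristic := Sylow.characteristic_of_subsingleton Q
  have hnd2 : ¬ q ∣ p := fun h => absurd (Nat.le_of_dvd hp.pos h) (by omega)
  have hQcard : Nat.card ↥(Q : Subgroup ↥K) = q := by
    have := card_sylow_of_card_eq (k := 1) (m := p) Q (by rw [hKcard]; ring) hnd2
    simpa using this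
  set Q' : Subgroup G := (Q : Subgroup ↥K).map K.subtype with hQ'
  haveI hQ'n : Q'.Normal := ConjAct.normal_of_characteristic_of_normal
  have hQ'card : Nat.card ↥Q' = q := by
    rw [hQ']
    exact ((Nat.card_congr (Subgroup.equivMapOfInjective _ _ K.subtype_injective).toEquiv).symm).trans hQcard
  -- M = R ⊔ Q' has order q * r
  set M : Subgroup G := (R : Subgroup G) ⊔ Q' with hM
  have hinf : (R : Subgroup G) ⊓ Q' = ⊥ := by
    apply disjoint_iff.mp
    apply Subgroup.disjoint_of_coprime_natCard
    rw [hRcard, hQ'card]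
    exact (Nat.coprime_primes hr hq).mpr (by omega)
  have hMcard : Nat.card ↥M = q * r := by
    have h1 : Q'.relIndex M = Q'.relIndex (R : Subgroup G) := Subgroup.relIndex_sup_right _ _
    have h2 : Q'.relIndex (R : Subgroup G) = r := by
      rw [← Subgroup.inf_relIndex_right, inf_comm, hinf, Subgroup.relIndex_bot_left, hRcard]
    have h3 : Q'.relIndex M * Nat.card ↥Q' = Nat.card ↥M := by
      have hle : Q' ≤ M := le_sup_right
      have := Subgroup.card_mul_index (Q'.subgroupOf M)
      rw [← Subgroup.relIndex] at this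
      rw [← this, mul_comm]
      congr 1
      exact (Nat.card_congr (Subgroup.subgroupOfEquivOfLe hle).toEquiv).symm
    rw [← h3, h1, h2, hQ'card]; ring
  -- R is normal in M
  have hRM : (R : Subgroup G) ≤ M := le_sup_left
  have hRMn : ((R.subtype hRM : Sylow r ↥M) : Subgroup ↥M).Normal :=
    sylow_normal_of_card_lt q r hq.pos hqr hMcard _
  rw [Sylow.coe_subtype, Subgroup.normal_subgroupOf_iff_le_normalizer hRM] at hRMn
  have hQ'R : Q' ≤ (R : Subgroup G) := by
    rw [← hNeq]
    exact le_trans le_sup_right hRMn
  have : q ∣ r := by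
    rw [← hQ'card, ← hRcard]
    exact Subgroup.card_dvd_of_le hQ'R
  rcases (Nat.dvd_prime hr).mp this with h | h
  · exact hq.one_lt.ne' h
  · omega

end Cfsg.Agent.S0987
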