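import Cfsg.Statements.S0988
import Cfsg.Agent.Lib.Helper17.NormCent

set_option autoImplicit false
open Cfsg

namespace Cfsg.Agent.S0988

open Cfsg.Agent.Lib.Helper17 Subgroup

variable {G : Type*} [Group G] [Finite G] [IsSimpleGroup G]

/-- Basic Sylow facts in a simple group of order `p^k * m`, `p ∤ m`, `k ≥ 1`, `m > 1`. -/
theorem sylow_facts {p k m : ℕ} [hp : Fact p.Prime] (hG : Nat.card G = p ^ k * m) (hm : ¬ p ∣ m)
    (hk : 1 ≤ k) (hm1 : 1 < m) :
    Nat.card (Sylow p G) ∣ m ∧ Nat.card (Sylow p G) % p = 1 ∧ 1 < Nat.card (Sylow p G) ∧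
      Nat.card G ∣ (Nat.card (Sylow p G)).factorial := by
  obtain ⟨P⟩ : Nonempty (Sylow p G) := inferInstance
  have hP := card_sylow_of_card_eq P hG hm
  have h1 : (P : Subgroup G) ≠ ⊥ := by
    intro h
    rw [h, Subgroup.card_bot] at hP
    have : 1 < p ^ k := Nat.one_lt_pow (by omega) hp.out.one_lt
    omega
  have h2 : (P : Subgroup G) ≠ ⊤ := by
    intro h
    rw [h, Subgroup.card_top, hG] at hP
    have hpk : 0 < p ^ k := pow_pos hp.out.pos k
    have : p ^ k * m = p ^ k * 1 := by rw [hP, mul_one]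
    have := Nat.eq_of_mul_eq_mul_left hpk this
    omega
  have hlt := one_lt_card_sylow_of_simple P h1 h2
  refine ⟨card_sylow_dvd_of_card_eq hG hm, ?_, hlt, card_dvd_factorial_card_sylow hlt⟩
  have := card_sylow_modEq_one p G
  rw [Nat.ModEq, Nat.mod_eq_of_lt (a := 1) hp.out.one_lt] at this
  exact this

/-- A simple group is not a `p`-group of order `p^k`, `k ≥ 2`. -/
theorem not_prime_pow {p k : ℕ} [hp : Fact p.Prime] (hG : Nat.card G = p ^ k) (hk : 2 ≤ k) :
    False := by
  have hnp : ¬ (Nat.card G).Prime := by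
    rw [hG]
    exact Nat.Prime.not_prime_pow hk
  have hnc := not_comm_of_simple_of_not_prime hnp
  have hpg : IsPGroup p G := IsPGroup.of_card hG
  haveI : Nontrivial G := IsSimpleGroup.toNontrivial
  have hcen := hpg.bot_lt_center
  have hn : (center G).Normal := inferInstance
  rcases hn.eq_bot_or_eq_top with h | h
  · exact hcen.ne' h
  · apply hnc
    refine ⟨⟨fun a b => ?_⟩⟩
    have : b ∈ center G := h ▸ mem_top b
    exact mem_center_iff.mp this a

/-- If `q ≡ 1 (mod p)` style: a number `d` with `d % p = 1`, `d` prime, `d < p` is impossible. -/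
theorem lt_of_mod_eq_one {p d : ℕ} (hd : 1 < d) (h : d % p = 1) : p < d := by
  by_contra hc
  push Not at hc
  rcases Nat.lt_or_eq_of_le hc with h1 | h1
  · rw [Nat.mod_eq_of_lt h1] at h; omega
  · rw [h1, Nat.mod_self] at h; omega

/-- If `b` is prime, `b ∣ a^2 - 1`-type condition: `a^2 % b = 1` with `a < b` forces `b = a + 1`. -/
theorem eq_succ_of_sq_mod {a b : ℕ} (hb : b.Prime) (ha : 1 < a) (hab : a < b)
    (h : (a * a) % b = 1) : b = a + 1 := by
  have h1 : b ∣ a * a - 1 := by
    have := Nat.div_add_mod (a * a) b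
    rw [h] at this
    exact ⟨a * a / b, by omega⟩
  have h2 : a * a - 1 = (a - 1) * (a + 1) := by
    obtain ⟨c, rfl⟩ : ∃ c, a = c + 1 := ⟨a - 1, by omega⟩
    simp only [Nat.add_sub_cancel]
    have : (c + 1) * (c + 1) = c * (c + 1 + 1) + 1 := by ring
    rw [this, Nat.add_sub_cancel]
  rw [h2] at h1
  rcases (Nat.Prime.dvd_mul hb).mp h1 with h3 | h3
  · have := Nat.le_of_dvd (by omega) h3
    omega
  · have := Nat.le_of_dvd (by omega) h3
    omega

/-- Consecutive primes are 2 and 3. -/
theorem two_three_of_succ {a b : ℕ} (ha : a.Prime) (hb : b.Prime) (h : b = a + 1) :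
    a = 2 ∧ b = 3 := by
  rcases ha.eq_two_or_odd with h2 | h2
  · subst h2; exact ⟨rfl, h⟩
  · rcases hb.eq_two_or_odd with h3 | h3
    · have := ha.two_le; omega
    · omega

/-- No simple group of order `a^3 * b`. -/
theorem not_cube_mul {a b : ℕ} (ha : a.Prime) (hb : b.Prime) (hab : a ≠ b)
    (hG : Nat.card G = a ^ 3 * b) : False := by
  haveI : Fact a.Prime := ⟨ha⟩
  haveI : Fact b.Prime := ⟨hb⟩
  have hnab : ¬ a ∣ b := fun h => hab ((Nat.prime_dvd_prime_iff_eq ha hb).mp h)
  have hnba : ¬ b ∣ a ^ 3 := fun h => hab ((Nat.prime_dvd_prime_iff_eq hb ha).mp (hb.dvd_of_dvd_pow h)).symm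
  rcases Nat.lt_or_gt_of_ne hab with hlt | hgt
  · -- a < b : look at Sylow b
    have hG' : Nat.card G = b ^ 1 * a ^ 3 := by rw [hG]; ring
    have h1a : 1 < a ^ 3 := Nat.one_lt_pow (by norm_num) ha.one_lt
    obtain ⟨hdvd, hmod, hgt1, hfac⟩ := sylow_facts (p := b) hG' hnba le_rfl h1a
    obtain ⟨j, hj, hnj⟩ := (Nat.dvd_prime_pow ha).mp hdvd
    have hj0 : j ≠ 0 := by
      rintro rfl
      rw [pow_zero] at hnj; omega
    have hj3 : j = 1 ∨ j = 2 ∨ j = 3 := by omega
    rcases hj3 with rfl | rfl | rfl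
    · rw [pow_one] at hnj
      rw [hnj] at hmod
      have := lt_of_mod_eq_one ha.one_lt hmod
      omega
    · rw [hnj, sq] at hmod
      have hba := eq_succ_of_sq_mod hb ha.one_lt hlt hmod
      obtain ⟨rfl, rfl⟩ := two_three_of_succ ha hb hba
      -- order 24
      have hG24 : Nat.card G = 2 ^ 3 * 3 := hG
      obtain ⟨hdvd2, hmod2, hgt2, hfac2⟩ := sylow_facts (p := 2) hG24 (by norm_num) (by norm_num) (by norm_num)
      have h3 : Nat.card (Sylow 2 G) = 3 := by
        rcases (Nat.dvd_prime Nat.prime_three).mp hdvd2 with h | h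
        · omega
        · exact h
      rw [h3, hG24] at hfac2
      revert hfac2; decide
    · -- n_b = a^3 : self-normalizing Sylow subgroup of prime order
      obtain ⟨R⟩ : Nonempty (Sylow b G) := inferInstance
      have hR : Nat.card ↥(R : Subgroup G) = b := by
        simpa using card_sylow_of_card_eq R hG' hnba
      have hN : Nat.card ↥(normalizer ((R : Subgroup G) : Set G)) = b * 1 := by
        have := card_normalizer_mul_card_sylow R
        rw [hnj, hG'] at this
        have h0 : 0 < a ^ 3 := by omega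
        rw [mul_one]
        exact Nat.eq_of_mul_eq_mul_right h0 (by rw [this]; ring)
      have hne : Nat.card G ≠ b := by
        rw [hG']; intro h
        have : b ^ 1 * a ^ 3 = b ^ 1 * 1 := by rw [h, pow_one, mul_one]
        have := Nat.eq_of_mul_eq_mul_left (by rw [pow_one]; exact hb.pos) this
        omega
      exact not_coprime_of_simple R hR hne hN (Nat.coprime_one_left _)
  · -- b < a : Sylow a is normal
    have hb1 : 1 < b := hb.one_lt
    obtain ⟨hdvd, hmod, hgt1, hfac⟩ := sylow_facts (p := a) hG hnab (by norm_num) hb1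
    rcases (Nat.dvd_prime hb).mp hdvd with h | h
    · omega
    · rw [h] at hmod
      have := lt_of_mod_eq_one hb1 hmod
      omega

/-- No simple group of order `a^2 * b^2`, `b < a`. -/
theorem not_sq_mul_sq_aux {a b : ℕ} (ha : a.Prime) (hb : b.Prime) (hba : b < a)
    (hG : Nat.card G = a ^ 2 * b ^ 2) : False := by
  haveI : Fact a.Prime := ⟨ha⟩
  have hnab : ¬ a ∣ b ^ 2 := by
    intro h
    have := (Nat.prime_dvd_prime_iff_eq ha hb).mp (ha.dvd_of_dvd_pow h)
    omega
  have h1b : 1 < b ^ 2 := Nat.one_lt_pow (by norm_num) hb.one_lt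
  obtain ⟨hdvd, hmod, hgt1, hfac⟩ := sylow_facts (p := a) hG hnab (by norm_num) h1b
  obtain ⟨j, hj, hnj⟩ := (Nat.dvd_prime_pow hb).mp hdvd
  have hj0 : j ≠ 0 := by
    rintro rfl
    rw [pow_zero] at hnj; omega
  have hj3 : j = 1 ∨ j = 2 := by omega
  rcases hj3 with rfl | rfl
  · rw [pow_one] at hnj
    rw [hnj] at hmod
    have := lt_of_mod_eq_one hb.one_lt hmod
    omega
  · rw [hnj, sq] at hmod
    have hab := eq_succ_of_sq_mod ha hb.one_lt hba hmod
    obtain ⟨rfl, rfl⟩ := two_three_of_succ hb ha hab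
    rw [hnj, hG] at hfac
    revert hfac; decide

theorem not_sq_mul_sq {a b : ℕ} (ha : a.Prime) (hb : b.Prime) (hab : a ≠ b)
    (hG : Nat.card G = a ^ 2 * b ^ 2) : False := by
  rcases Nat.lt_or_gt_of_ne hab with hlt | hgt
  · exact not_sq_mul_sq_aux hb ha hlt (by rw [hG]; ring)
  · exact not_sq_mul_sq_aux ha hb hgt hG

omit [IsSimpleGroup G] in
theorem fp_lemma {a l : ℕ} (ha : a.Prime) [hl : Fact l.Prime]
    (hal : a ≠ l) (P : Subgroup G) (hP : Nat.card ↥P = a ^ 2) (y : G)
    (hyN : y ∈ normalizer (P : Set G)) (hy : orderOf y = l) (hyC : y ∉ centralizer (P : Set G)) :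
    l ∣ a - 1 ∨ l ∣ a + 1 := by
  classical
  set y' : ↥(normalizer (P : Set G)) := ⟨y, hyN⟩ with hy'
  set L : Subgroup ↥(normalizer (P : Set G)) := zpowers y' with hL
  have hLcard : Nat.card ↥L = l := by
    rw [hL, Nat.card_zpowers, hy', Subgroup.orderOf_mk, hy]
  have hLp : IsPGroup l ↥L := IsPGroup.of_card (n := 1) (by rw [hLcard, pow_one])
  have hmod := hLp.card_modEq_card_fixedPoints (↥P)
  -- the fixed points form a subgroup
  set F : Subgroup ↥P := (centralizer ({y} : Set G)).subgroupOf P with hF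
  have hfix : Nat.card ↥(MulAction.fixedPoints ↥L ↥P) = Nat.card ↥F := by
    apply Nat.card_congr
    refine Equiv.subtypeEquivRight ?_
    intro x
    rw [MulAction.mem_fixedPoints, hF, mem_subgroupOf, mem_centralizer_iff]
    constructor
    · intro h z hz
      rw [Set.mem_singleton_iff] at hz
      subst hz
      have h1 := h ⟨y', mem_zpowers y'⟩
      have h2 : (z * (x : G) * z⁻¹) = (x : G) := congrArg Subtype.val h1
      calc z * (x : G) = (z * (x : G) * z⁻¹) * z := by group
        _ = (x : G) * z := by rw [h2]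
    · intro h
      rintro ⟨g, hg⟩
      obtain ⟨k, rfl⟩ := mem_zpowers_iff.mp hg
      have hc : Commute y (x : G) := h y (Set.mem_singleton y)
      apply Subtype.ext
      show ((y' ^ k : ↥(normalizer (P : Set G))) : G) * (x : G) * ((y' ^ k : ↥(normalizer (P : Set G))) : G)⁻¹ = (x : G)
      have : ((y' ^ k : ↥(normalizer (P : Set G))) : G) = y ^ k := by simp [hy']
      rw [this]
      have hc' : Commute (y ^ k) (x : G) := hc.zpow_left k
      rw [hc'.eq]; group
  rw [hfix, hP] at hmod
  have hFdvd : Nat.card ↥F ∣ a ^ 2 := hP ▸ Subgroup.card_subgroup_dvd_card F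
  have hFtop : F ≠ ⊤ := by
    intro h
    apply hyC
    rw [mem_centralizer_iff]
    intro x hx
    have : (⟨x, hx⟩ : ↥P) ∈ F := h ▸ mem_top _
    rw [hF, mem_subgroupOf, mem_centralizer_iff] at this
    exact (this y (Set.mem_singleton y)).symm
  obtain ⟨j, hj, hFj⟩ := (Nat.dvd_prime_pow ha).mp hFdvd
  have hj2 : j ≠ 2 := by
    rintro rfl
    apply hFtop
    apply Subgroup.eq_top_of_card_eq
    rw [hFj, hP]
  have hlndvd : ¬ l ∣ a := fun h => hal ((Nat.prime_dvd_prime_iff_eq hl.out ha).mp h).symm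
  have ha1 := ha.one_lt
  have hj01 : j = 0 ∨ j = 1 := by omega
  rcases hj01 with rfl | rfl
  · -- a^2 ≡ 1 mod l
    rw [hFj, pow_zero] at hmod
    have h1 : l ∣ a ^ 2 - 1 := (Nat.modEq_iff_dvd' (Nat.one_le_pow _ _ ha.pos)).mp hmod.symm
    have h2 : a ^ 2 - 1 = (a - 1) * (a + 1) := by
      obtain ⟨c, rfl⟩ : ∃ c, a = c + 1 := ⟨a - 1, by omega⟩
      simp only [Nat.add_sub_cancel]
      have : (c + 1) ^ 2 = c * (c + 1 + 1) + 1 := by ring
      rw [this, Nat.add_sub_cancel]
    rw [h2] at h1
    exact (Nat.Prime.dvd_mul hl.out).mp h1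
  · -- a^2 ≡ a mod l
    rw [hFj, pow_one] at hmod
    have hle : a ≤ a ^ 2 := by nlinarith
    have h1 : l ∣ a ^ 2 - a := (Nat.modEq_iff_dvd' hle).mp hmod.symm
    have h2 : a ^ 2 - a = a * (a - 1) := by
      obtain ⟨c, rfl⟩ : ∃ c, a = c + 1 := ⟨a - 1, by omega⟩
      simp only [Nat.add_sub_cancel]
      have : (c + 1) ^ 2 = (c + 1) * c + (c + 1) := by ring
      rw [this, Nat.add_sub_cancel]
    rw [h2] at h1
    rcases (Nat.Prime.dvd_mul hl.out).mp h1 with h3 | h3
    · exact absurd h3 hlndvd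
    · exact Or.inl h3

/-- Burnside for the smallest prime with a Sylow subgroup of prime order. -/
theorem minFac_ne_of_card_sylow_prime {s m : ℕ} [hs : Fact s.Prime] (hG : Nat.card G = s ^ 1 * m)
    (hm : ¬ s ∣ m) (hm1 : 1 < m) : (Nat.card G).minFac ≠ s := by
  intro hmin
  obtain ⟨S⟩ : Nonempty (Sylow s G) := inferInstance
  have hS : Nat.card ↥(S : Subgroup G) = s := by
    simpa using card_sylow_of_card_eq S hG hm
  have hcyc : IsCyclic ↥(S : Subgroup G) := isCyclic_of_prime_card hS
  have hNC := IsCyclic.normalizer_le_centralizer hmin hcyc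
  have h1 : (S : Subgroup G) ≠ ⊥ := by
    intro h
    rw [h, Subgroup.card_bot] at hS
    exact hs.out.one_lt.ne hS
  have h2 : (S : Subgroup G) ≠ ⊤ := by
    intro h
    rw [h, Subgroup.card_top, hG, pow_one] at hS
    have : s * m = s * 1 := by rw [hS, mul_one]
    have := Nat.eq_of_mul_eq_mul_left hs.out.pos this
    omega
  exact not_normalizer_le_centralizer_of_simple S h1 h2 hNC

/-- A simple group of order `a^2 * b * c` with distinct primes has order 60. -/
theorem card_eq_sixty_of_distinct {a b c : ℕ} (ha : a.Prime) (hb : b.Prime) (hc : c.Prime)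
    (hab : a ≠ b) (hac : a ≠ c) (hbc : b ≠ c) (hG : Nat.card G = a ^ 2 * b * c) :
    Nat.card G = 60 := by
  haveI : Fact a.Prime := ⟨ha⟩
  haveI : Fact b.Prime := ⟨hb⟩
  haveI : Fact c.Prime := ⟨hc⟩
  have hnab : ¬ a ∣ b := fun h => hab ((Nat.prime_dvd_prime_iff_eq ha hb).mp h)
  have hnac : ¬ a ∣ c := fun h => hac ((Nat.prime_dvd_prime_iff_eq ha hc).mp h)
  have hnba : ¬ b ∣ a := fun h => hab ((Nat.prime_dvd_prime_iff_eq hb ha).mp h).symm
  have hnca : ¬ c ∣ a := fun h => hac ((Nat.prime_dvd_prime_iff_eq hc ha).mp h).symm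
  have hnbc : ¬ b ∣ c := fun h => hbc ((Nat.prime_dvd_prime_iff_eq hb hc).mp h)
  have hncb : ¬ c ∣ b := fun h => hbc ((Nat.prime_dvd_prime_iff_eq hc hb).mp h).symm
  have ha1 := ha.one_lt
  have hb1 := hb.one_lt
  have hc1 := hc.one_lt
  -- the smallest prime is a
  have hminb : (Nat.card G).minFac ≠ b := by
    apply minFac_ne_of_card_sylow_prime (m := a ^ 2 * c) (by rw [hG]; ring)
    · intro h
      rcases (Nat.Prime.dvd_mul hb).mp h with h1 | h1
      · exact hnba (hb.dvd_of_dvd_pow h1)
      · exact hnbc h1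
    · nlinarith
  have hminc : (Nat.card G).minFac ≠ c := by
    apply minFac_ne_of_card_sylow_prime (m := a ^ 2 * b) (by rw [hG]; ring)
    · intro h
      rcases (Nat.Prime.dvd_mul hc).mp h with h1 | h1
      · exact hnca (hc.dvd_of_dvd_pow h1)
      · exact hncb h1
    · nlinarith
  have hGne1 : Nat.card G ≠ 1 := by
    rw [hG]
    have : 1 < a ^ 2 := Nat.one_lt_pow (by norm_num) ha1
    have : 1 < a ^ 2 * b := by nlinarith
    nlinarith
  have hmina : (Nat.card G).minFac = a := by
    have hpr := Nat.minFac_prime hGne1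
    have hdv := Nat.minFac_dvd (Nat.card G)
    generalize (Nat.card G).minFac = q at hpr hdv hminb hminc ⊢
    rw [hG] at hdv
    rcases (Nat.Prime.dvd_mul hpr).mp hdv with h1 | h1
    · rcases (Nat.Prime.dvd_mul hpr).mp h1 with h2 | h2
      · exact (Nat.prime_dvd_prime_iff_eq hpr ha).mp (hpr.dvd_of_dvd_pow h2)
      · exact absurd ((Nat.prime_dvd_prime_iff_eq hpr hb).mp h2) hminb
    · exact absurd ((Nat.prime_dvd_prime_iff_eq hpr hc).mp h1) hminc
  have hab' : a < b := by
    have h1 : (Nat.card G).minFac ≤ b := Nat.minFac_le_of_dvd hb.two_le (by rw [hG]; exact ⟨a ^ 2 * c, by ring⟩)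
    rw [hmina] at h1
    omega
  have hac' : a < c := by
    have h1 : (Nat.card G).minFac ≤ c := Nat.minFac_le_of_dvd hc.two_le (by rw [hG]; exact ⟨a ^ 2 * b, by ring⟩)
    rw [hmina] at h1
    omega
  -- the Sylow a-subgroup
  obtain ⟨P⟩ : Nonempty (Sylow a G) := inferInstance
  have hG' : Nat.card G = a ^ 2 * (b * c) := by rw [hG]; ring
  have hnabc : ¬ a ∣ b * c := by
    intro h
    rcases (Nat.Prime.dvd_mul ha).mp h with h1 | h1
    · exact hnab h1
    · exact hnac h1
  have hP : Nat.card ↥(P : Subgroup G) = a ^ 2 := card_sylow_of_card_eq P hG' hnabc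
  have hPcomm : ∀ x ∈ (P : Subgroup G), ∀ z ∈ (P : Subgroup G), x * z = z * x := by
    intro x hx z hz
    have := (IsPGroup.isMulCommutative_of_card_eq_prime_sq hP).is_comm.comm ⟨x, hx⟩ ⟨z, hz⟩
    exact congrArg Subtype.val this
  have h1 : (P : Subgroup G) ≠ ⊥ := by
    intro h
    rw [h, Subgroup.card_bot] at hP
    have : 1 < a ^ 2 := Nat.one_lt_pow (by norm_num) ha1
    omega
  have h2 : (P : Subgroup G) ≠ ⊤ := by
    intro h
    rw [h, Subgroup.card_top, hG'] at hP
    have : a ^ 2 * (b * c) = a ^ 2 * 1 := by rw [hP, mul_one]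
    have := Nat.eq_of_mul_eq_mul_left (pow_pos ha.pos 2) this
    nlinarith
  have hBurn := not_normalizer_le_centralizer_of_simple P h1 h2
  set N := normalizer ((P : Subgroup G) : Set G) with hN
  set C := centralizer ((P : Subgroup G) : Set G) with hC
  set r := C.relIndex N with hr
  have hr1 : r ≠ 1 := fun h => hBurn (relIndex_eq_one.mp h)
  have hrdvd : r * a ^ 2 ∣ Nat.card ↥N := by
    have := relIndex_centralizer_normalizer_mul_card_dvd (P : Subgroup G) hPcomm
    rwa [hP] at this
  have hrbc : r ∣ b * c := by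
    have h3 : r * a ^ 2 ∣ a ^ 2 * (b * c) := by
      rw [← hG']; exact dvd_trans hrdvd (Subgroup.card_subgroup_dvd_card N)
    rw [mul_comm] at h3
    exact Nat.dvd_of_mul_dvd_mul_left (pow_pos ha.pos 2) h3
  -- a prime l dividing r
  set l := r.minFac with hl
  have hlp : l.Prime := Nat.minFac_prime hr1
  haveI : Fact l.Prime := ⟨hlp⟩
  have hlr : l ∣ r := Nat.minFac_dvd r
  have hlbc : l = b ∨ l = c := by
    rcases (Nat.Prime.dvd_mul hlp).mp (dvd_trans hlr hrbc) with h3 | h3
    · exact Or.inl ((Nat.prime_dvd_prime_iff_eq hlp hb).mp h3)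
    · exact Or.inr ((Nat.prime_dvd_prime_iff_eq hlp hc).mp h3)
  have hal : a < l := by rcases hlbc with h | h <;> rw [h] <;> assumption
  -- l^2 does not divide |G|
  have hl2 : ¬ l ^ 2 ∣ Nat.card G := by
    intro h
    rw [hG] at h
    have hcop : Nat.Coprime (l ^ 2) (a ^ 2) := by
      apply Nat.Coprime.pow
      rw [Nat.coprime_primes hlp ha]; omega
    have h3 : l ^ 2 ∣ b * c := by
      rw [mul_assoc] at h
      exact hcop.dvd_of_dvd_mul_left h
    rcases hlbc with rfl | rfl
    · rw [sq] at h3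
      have := Nat.dvd_of_mul_dvd_mul_left hlp.pos h3
      exact hnbc this
    · rw [sq, mul_comm b l] at h3
      have := Nat.dvd_of_mul_dvd_mul_left hlp.pos h3
      exact hncb this
  -- an element of order l in N not centralizing P
  have hlN : l ∣ Nat.card ↥N := dvd_trans (dvd_trans hlr (Dvd.intro _ rfl)) hrdvd
  obtain ⟨y, hy⟩ := exists_prime_orderOf_dvd_card' (G := ↥N) l hlN
  have hyC : (y : G) ∉ C := by
    intro hyc
    apply hl2
    have h3 : Nat.card ↥(C.subgroupOf N) * r = Nat.card ↥N := Subgroup.card_mul_index _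
    have h4 : l ∣ Nat.card ↥(C.subgroupOf N) := by
      have h5 : zpowers y ≤ C.subgroupOf N := by
        rw [zpowers_le, mem_subgroupOf]; exact hyc
      have h6 := Subgroup.card_dvd_of_le h5
      rwa [Nat.card_zpowers, hy] at h6
    have h7 : l ^ 2 ∣ Nat.card ↥N := by
      rw [← h3, sq]
      exact Nat.mul_dvd_mul h4 hlr
    exact dvd_trans h7 (Subgroup.card_subgroup_dvd_card N)
  have hyo : orderOf (y : G) = l := by rw [Subgroup.orderOf_coe, hy]
  have hfp := fp_lemma ha (by omega) (P : Subgroup G) hP (y : G) y.2 hyo hyC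
  have hl3 : l = a + 1 := by
    rcases hfp with h3 | h3
    · have := Nat.le_of_dvd (by omega) h3
      omega
    · have := Nat.le_of_dvd (by omega) h3
      omega
  obtain ⟨rfl, hl3'⟩ := two_three_of_succ ha hlp hl3
  -- now a = 2 and {b, c} contains 3
  have key : ∀ d : ℕ, d.Prime → d ≠ 2 → d ≠ 3 → Nat.card G = d ^ 1 * 12 → Nat.card G = 60 := by
    intro d hd hd2 hd3 hGd
    haveI : Fact d.Prime := ⟨hd⟩
    have hd5 : 5 ≤ d := by
      have := hd.two_le
      by_contra hcon
      push Not at hcon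
      interval_cases d
      · exact absurd rfl hd2
      · exact absurd rfl hd3
      · revert hd; decide
    have hnd12 : ¬ d ∣ 12 := by
      intro h
      have h43 : d ∣ 4 * 3 := h
      rcases (Nat.Prime.dvd_mul hd).mp h43 with h4 | h4
      · have h22 : d ∣ 2 ^ 2 := h4
        have := Nat.le_of_dvd (by norm_num) (hd.dvd_of_dvd_pow h22)
        omega
      · have := Nat.le_of_dvd (by norm_num) h4
        omega
    obtain ⟨hdvd, hmod, hgt1, hfac⟩ := sylow_facts (p := d) hGd hnd12 le_rfl (by norm_num)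
    have hcases : ∀ n ∈ Nat.divisors 12, 1 < n → n = 2 ∨ n = 3 ∨ n = 4 ∨ n = 6 ∨ n = 12 := by decide
    have hdd : d ∣ Nat.card (Sylow d G) - 1 := by
      have := Nat.div_add_mod (Nat.card (Sylow d G)) d
      rw [hmod] at this
      exact ⟨Nat.card (Sylow d G) / d, by omega⟩
    rcases hcases _ (Nat.mem_divisors.mpr ⟨hdvd, by norm_num⟩) hgt1 with h | h | h | h | h
    · rw [h] at hdd
      have := Nat.le_of_dvd (by norm_num) hdd
      omega
    · rw [h] at hdd
      have := Nat.le_of_dvd (by norm_num) hdd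
      omega
    · rw [h] at hdd
      have := Nat.le_of_dvd (by norm_num) hdd
      omega
    · rw [h] at hdd
      have hle := Nat.le_of_dvd (by norm_num) hdd
      have : d = 5 := by omega
      rw [hGd, this]; norm_num
    · rw [h] at hdd
      have hle := Nat.le_of_dvd (by norm_num) hdd
      have hd11 : d = 11 := by
        norm_num at hdd
        have := (Nat.prime_dvd_prime_iff_eq hd (by norm_num : Nat.Prime 11)).mp hdd
        exact this
      subst hd11
      exfalso
      obtain ⟨R⟩ : Nonempty (Sylow 11 G) := inferInstance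
      have hR : Nat.card ↥(R : Subgroup G) = 11 := by
        simpa using card_sylow_of_card_eq R hGd hnd12
      have hNR : Nat.card ↥(normalizer ((R : Subgroup G) : Set G)) = 11 * 1 := by
        have := card_normalizer_mul_card_sylow R
        rw [h, hGd] at this
        omega
      exact not_coprime_of_simple R hR (by rw [hGd]; norm_num) hNR (Nat.coprime_one_left _)
  rcases hlbc with h | h
  · -- b = 3
    have hb3 : b = 3 := by rw [← h, hl3']
    apply key c hc (fun h => hac h.symm) (fun h => hbc (by rw [hb3, h]))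
    rw [hG, hb3]; ring
  · have hc3 : c = 3 := by rw [← h, hl3']
    apply key b hb (fun h => hab h.symm) (fun h => hbc (by rw [hc3, h]))
    rw [hG, hc3]; ring

/-- If a finite simple group has order p^2 * q * r with p, q and r prime, then its order is 60. -/
theorem result {G : Type*} [Group G] [Finite G] [IsSimpleGroup G] (p q r : ℕ) (hp : p.Prime) (hq : q.Prime) (hr : r.Prime) (hG : Nat.card G = p ^ 2 * q * r) : Nat.card G = 60 := by
  haveI : Fact p.Prime := ⟨hp⟩
  by_cases hqr : q = r
  · subst hqr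
    by_cases hpq : p = q
    · subst hpq
      exfalso
      exact not_prime_pow (p := p) (k := 4) (by rw [hG]; ring) (by norm_num)
    · exfalso
      exact not_sq_mul_sq hp hq hpq (by rw [hG]; ring)
  · by_cases hpq : p = q
    · subst hpq
      exfalso
      exact not_cube_mul hp hr hqr (by rw [hG]; ring)
    · by_cases hpr : p = r
      · subst hpr
        exfalso
        exact not_cube_mul hp hq hpq (by rw [hG]; ring)
      · exact card_eq_sixty_of_distinct hp hq hr hpq hpr hqr hG

end Cfsg.Agent.S0988
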