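import Cfsg.Statements.S0991
import Cfsg.Agent.Lib.Helper17.Basic

set_option autoImplicit false
open Cfsg

namespace Cfsg.Agent.S0991

open Cfsg.Agent.Lib.Helper17

/-- Embedding Theorem: if a non-abelian finite simple group has a proper subgroup of index n, then it is isomorphic to a subgroup of the alternating group of degree n. -/
theorem result {G : Type*} [Group G] [Finite G] [IsSimpleGroup G] (hG : ¬ IsMulCommutative G) (H : Subgroup G) (hH : H ≠ ⊤) : ∃ f : G →* ↥(alternatingGroup (Fin H.index)), Function.Injective f := by
  classical
  have hcard : Nat.card (G ⧸ H) = H.index := rfl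
  have e : (G ⧸ H) ≃ Fin H.index := Finite.equivFinOfCardEq hcard
  let f : G →* Equiv.Perm (Fin H.index) :=
    e.permCongrHom.toMonoidHom.comp (MulAction.toPermHom G (G ⧸ H))
  have hf : Function.Injective f := by
    have h1 := toPermHom_injective H hH
    exact (e.permCongrHom.injective).comp h1
  exact exists_embedding_alternating hG f hf

end Cfsg.Agent.S0991
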