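import Cfsg.Statements.S0992
import Cfsg.Agent.Lib.Helper17.NormCent

set_option autoImplicit false
open Cfsg

namespace Cfsg.Agent.S0992

open Cfsg.Agent.Lib.Helper17 Subgroup

/-- Let G be a non-abelian finite simple group of even order not divisible by 8, and T a Sylow 2-subgroup. Then T is a Klein four-group and the centralizer of T has index 3 in the normalizer of T. -/
theorem result {G : Type*} [Group G] [Finite G] [IsSimpleGroup G] (hG : ¬ IsMulCommutative G) (h2 : Even (Nat.card G)) (h8 : ¬ 8 ∣ Nat.card G) (T : Sylow 2 G) : IsKleinFour ↥(T : Subgroup G) ∧ (Subgroup.centralizer ((T : Subgroup G) : Set G)).relIndex (Subgroup.normalizer ((T : Subgroup G) : Set G)) = 3 := by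
  haveI : Fact (Nat.Prime 2) := ⟨Nat.prime_two⟩
  have h2' : 2 ∣ Nat.card G := even_iff_two_dvd.mp h2
  -- order of T
  obtain ⟨k, hk⟩ := IsPGroup.iff_card.mp T.2
  have hTdvd : Nat.card ↥(T : Subgroup G) ∣ Nat.card G := Subgroup.card_subgroup_dvd_card _
  have hk2 : k ≤ 2 := by
    by_contra hc
    push Not at hc
    apply h8
    have : (2 : ℕ) ^ 3 ∣ 2 ^ k := pow_dvd_pow 2 hc
    rw [← hk] at this
    exact dvd_trans (by norm_num at this ⊢; exact this) hTdvd
  have hTbot : (T : Subgroup G) ≠ ⊥ := T.ne_bot_of_dvd_card h2'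
  have hTtop : (T : Subgroup G) ≠ ⊤ := by
    intro h
    have hcard : Nat.card G = 2 ^ k := by rw [← hk, h, Subgroup.card_top]
    apply hG
    interval_cases k
    · have : Nat.card G = 1 := by simpa using hcard
      rw [this] at h2'
      omega
    · have : Nat.card G = 2 := by simpa using hcard
      have hcyc : IsCyclic G := isCyclic_of_prime_card this
      exact hcyc.isMulCommutative
    · exact IsPGroup.isMulCommutative_of_card_eq_prime_sq hcard
  have hBurn := not_normalizer_le_centralizer_of_simple T hTbot hTtop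
  -- T is not cyclic
  have hncyc : ¬ IsCyclic ↥(T : Subgroup G) := by
    intro hc
    apply hBurn
    exact IsCyclic.normalizer_le_centralizer ((Nat.minFac_eq_two_iff _).mpr h2') hc
  have hk2' : k = 2 := by
    interval_cases k
    · exfalso
      apply hTbot
      rw [← Subgroup.card_eq_one]
      simpa using hk
    · exfalso
      apply hncyc
      exact isCyclic_of_prime_card (p := 2) (by simpa using hk)
    · rfl
  subst hk2'
  have hT4 : Nat.card ↥(T : Subgroup G) = 4 := by rw [hk]; norm_num
  have hexp : Monoid.exponent ↥(T : Subgroup G) = 2 :=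
    (not_isCyclic_iff_exponent_eq_prime Nat.prime_two hk).mp hncyc
  refine ⟨⟨hT4, hexp⟩, ?_⟩
  set r := (Subgroup.centralizer ((T : Subgroup G) : Set G)).relIndex
    (Subgroup.normalizer ((T : Subgroup G) : Set G)) with hr
  have hTcomm : ∀ a ∈ (T : Subgroup G), ∀ b ∈ (T : Subgroup G), a * b = b * a := by
    intro a ha b hb
    have := (IsPGroup.isMulCommutative_of_card_eq_prime_sq hk).is_comm.comm ⟨a, ha⟩ ⟨b, hb⟩
    exact congrArg Subtype.val this
  -- r divides 24
  have hr24 : r ∣ 24 := by
    have h1 := relIndex_centralizer_normalizer_dvd (T : Subgroup G)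
    have h3 : Nat.card (MulAut ↥(T : Subgroup G)) ∣ Nat.card (Equiv.Perm ↥(T : Subgroup G)) := by
      apply card_dvd_of_injective (MulAut.toPerm ↥(T : Subgroup G))
      intro a b hab
      apply MulEquiv.ext
      intro x
      exact congrArg (fun e : Equiv.Perm ↥(T : Subgroup G) => e x) hab
    have h4 : Nat.card (Equiv.Perm ↥(T : Subgroup G)) = 24 := by
      rw [Nat.card_perm, hT4]; rfl
    rw [h4] at h3
    exact dvd_trans h1 h3
  -- r is odd
  have hodd : ¬ 2 ∣ r := by
    intro h
    have h1 := relIndex_centralizer_normalizer_mul_card_dvd (T : Subgroup G) hTcomm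
    rw [hT4] at h1
    have h3 : r * 4 ∣ Nat.card G := dvd_trans h1 (Subgroup.card_subgroup_dvd_card _)
    apply h8
    obtain ⟨c, hc⟩ := h
    rw [hc] at h3
    exact dvd_trans ⟨c, by ring⟩ h3
  have hr1 : r ≠ 1 := by
    intro h
    exact hBurn (relIndex_eq_one.mp h)
  have hcases : ∀ d ∈ Nat.divisors 24, ¬ 2 ∣ d → d ≠ 1 → d = 3 := by decide
  exact hcases r (Nat.mem_divisors.mpr ⟨hr24, by norm_num⟩) hodd hr1

end Cfsg.Agent.S0992
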