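import Cfsg.Statements.S0995
import Cfsg.Agent.Lib.Helper17.SylowTools
import Cfsg.Agent.Lib.Helper17.Counting

set_option autoImplicit false
open Cfsg

namespace Cfsg.Agent.S0995

open Cfsg.Agent.Lib.Helper17 Subgroup

theorem card_ne {α : Type*} [Finite α] (a : α) : Nat.card {x : α // x ≠ a} = Nat.card α - 1 := by
  classical
  letI : Fintype α := Fintype.ofFinite α
  rw [Nat.card_eq_fintype_card, Nat.card_eq_fintype_card]
  exact Set.card_ne_eq a

theorem orderOf_of_mem {G : Type*} [Group G] [Finite G] {p : ℕ} [hp : Fact p.Prime] (P : Subgroup G)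
    (hP : Nat.card ↥P = p) (w : G) (hw : w ∈ P) (hw1 : w ≠ 1) : orderOf w = p := by
  have h1 : orderOf (⟨w, hw⟩ : ↥P) ∣ p := hP ▸ orderOf_dvd_natCard _
  rw [Subgroup.orderOf_mk] at h1
  rcases (Nat.dvd_prime hp.out).mp h1 with h | h
  · exact absurd (orderOf_eq_one_iff.mp h) hw1
  · exact h

theorem zpowers_eq_of_mem {G : Type*} [Group G] [Finite G] {p : ℕ} [hp : Fact p.Prime] (P : Subgroup G)
    (hP : Nat.card ↥P = p) (w : G) (hw : w ∈ P) (hw1 : w ≠ 1) : zpowers w = P := by
  apply Subgroup.eq_of_le_of_card_ge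
  · rw [zpowers_le]; exact hw
  · rw [Nat.card_zpowers, orderOf_of_mem P hP w hw hw1, hP]

/-- Let G be a finite perfect group containing an element z of prime order p whose centralizer is the cyclic group it generates. Let t be the number of conjugacy classes of elements of order p. Then t divides p - 1, the number of Sylow p-subgroups has the form 1 + n * p, and |G| * t = (p - 1) * p * (1 + n * p). -/
theorem result {G : Type*} [Group G] [Finite G] (hperf : commutator G = ⊤) (p : ℕ) [Fact p.Prime] (z : G) (hz : orderOf z = p) (hC : Subgroup.centralizer ({z} : Set G) = Subgroup.zpowers z) : ∃ n t : ℕ, t = Nat.card {c : ConjClasses G // ∃ g : G, ConjClasses.mk g = c ∧ orderOf g = p} ∧ t ∣ p - 1 ∧ Nat.card (Sylow p G) = 1 + n * p ∧ Nat.card G * t = (p - 1) * p * (1 + n * p) := by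
  classical
  have hp : p.Prime := Fact.out
  have hZcard : Nat.card ↥(zpowers z) = p := by rw [Nat.card_zpowers, hz]
  have hpG : p ∣ Nat.card G := hz ▸ orderOf_dvd_natCard z
  -- p^2 does not divide |G|
  have hp2 : ¬ p ^ 2 ∣ Nat.card G := by
    intro h
    obtain ⟨K, hK, hZK⟩ := Sylow.exists_subgroup_card_pow_succ (n := 1) h (H := zpowers z)
      (by rw [hZcard, pow_one])
    have hKc : K ≤ centralizer ({z} : Set G) := by
      intro x hx
      rw [mem_centralizer_iff]
      intro y hy
      rw [Set.mem_singleton_iff] at hy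
      subst hy
      have hzK : y ∈ K := hZK (mem_zpowers y)
      have := (IsPGroup.isMulCommutative_of_card_eq_prime_sq hK).is_comm.comm ⟨y, hzK⟩ ⟨x, hx⟩
      exact congrArg Subtype.val this
    rw [hC] at hKc
    have := Nat.le_of_dvd Nat.card_pos (Subgroup.card_dvd_of_le hKc)
    rw [hK, hZcard, show 1 + 1 = 2 from rfl, sq] at this
    have h2 := hp.two_le
    nlinarith
  obtain ⟨m, hm⟩ := hpG
  have hpm : ¬ p ∣ m := by
    rintro ⟨m', rfl⟩
    exact hp2 ⟨m', by rw [hm]; ring⟩
  have hm0 : 0 < m := by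
    rcases Nat.eq_zero_or_pos m with h | h
    · exfalso; apply hpm; rw [h]; exact dvd_zero p
    · exact h
  have hG' : Nat.card G = p ^ 1 * m := by rw [hm, pow_one]
  have hcardP : ∀ P : Sylow p G, Nat.card ↥(P : Subgroup G) = p := by
    intro P
    simpa using card_sylow_of_card_eq P hG' hpm
  obtain ⟨P₀, hP₀⟩ := (IsPGroup.of_card (n := 1) (by rw [hZcard, pow_one]) :
    IsPGroup p (zpowers z)).exists_le_sylow
  have hP₀eq : zpowers z = (P₀ : Subgroup G) :=
    Subgroup.eq_of_le_of_card_ge hP₀ (by rw [hcardP, hZcard])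
  have hfac : p ^ (Nat.card G).factorization p = p := by
    rw [← P₀.card_eq_multiplicity, hcardP]
  -- self-centralizing property for all elements of order p
  have hSC : ∀ g : G, orderOf g = p → centralizer ({g} : Set G) = zpowers g := by
    intro g hg
    have hgcard : Nat.card ↥(zpowers g) = p := by rw [Nat.card_zpowers, hg]
    obtain ⟨P, hP⟩ := (IsPGroup.of_card (n := 1) (by rw [hgcard, pow_one]) :
      IsPGroup p (zpowers g)).exists_le_sylow
    have hPeq : zpowers g = (P : Subgroup G) :=
      Subgroup.eq_of_le_of_card_ge hP (by rw [hcardP, hgcard])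
    obtain ⟨a, ha⟩ := MulAction.exists_smul_eq G P₀ P
    have hg1 : g ≠ 1 := by
      intro h; rw [h, orderOf_one] at hg; exact hp.one_lt.ne hg
    have hz1 : z ≠ 1 := by
      intro h; rw [h, orderOf_one] at hz; exact hp.one_lt.ne hz
    -- a⁻¹ g a ∈ zpowers z
    have hga : a⁻¹ * g * a ∈ zpowers z := by
      have hgP : g ∈ (P : Subgroup G) := hP (mem_zpowers g)
      rw [← ha, Sylow.smul_def, Sylow.pointwise_smul_def,
        Subgroup.mem_pointwise_smul_iff_inv_smul_mem] at hgP
      rw [hP₀eq]
      simpa [MulAut.smul_def] using hgP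
    have hga1 : a⁻¹ * g * a ≠ 1 := by
      intro h
      apply hg1
      have : g = a * (a⁻¹ * g * a) * a⁻¹ := by group
      rw [this, h]; group
    have hzw : zpowers (a⁻¹ * g * a) = zpowers z :=
      zpowers_eq_of_mem (zpowers z) hZcard _ hga hga1
    apply le_antisymm
    · intro x hx
      rw [mem_centralizer_iff] at hx
      have hxg : g * x = x * g := hx g (Set.mem_singleton g)
      -- a⁻¹ x a commutes with a⁻¹ g a, hence with z
      have hcomm : Commute (a⁻¹ * x * a) (a⁻¹ * g * a) := by
        show a⁻¹ * x * a * (a⁻¹ * g * a) = a⁻¹ * g * a * (a⁻¹ * x * a)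
        have e1 : a⁻¹ * x * a * (a⁻¹ * g * a) = a⁻¹ * (x * g) * a := by group
        have e2 : a⁻¹ * g * a * (a⁻¹ * x * a) = a⁻¹ * (g * x) * a := by group
        rw [e1, e2, hxg]
      have hzmem : z ∈ zpowers (a⁻¹ * g * a) := hzw ▸ mem_zpowers z
      obtain ⟨k, hk⟩ := mem_zpowers_iff.mp hzmem
      have hcz : Commute (a⁻¹ * x * a) z := hk ▸ hcomm.zpow_right k
      have hxz : a⁻¹ * x * a ∈ centralizer ({z} : Set G) := by
        rw [mem_centralizer_iff]
        intro y hy
        rw [Set.mem_singleton_iff] at hy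
        subst hy
        exact hcz.eq.symm
      rw [hC, ← hzw] at hxz
      obtain ⟨l, hl⟩ := mem_zpowers_iff.mp hxz
      rw [mem_zpowers_iff]
      refine ⟨l, ?_⟩
      have e3 : (a⁻¹ * g * a) ^ l = a⁻¹ * g ^ l * a := by
        have h3 : a⁻¹ * g * a = a⁻¹ * g * a⁻¹⁻¹ := by rw [inv_inv]
        rw [h3, conj_zpow, inv_inv]
      rw [e3] at hl
      have : g ^ l = a * (a⁻¹ * g ^ l * a) * a⁻¹ := by group
      rw [this, hl]; group
    · rw [zpowers_le, mem_centralizer_iff]
      intro y hy
      rw [Set.mem_singleton_iff] at hy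
      subst hy
      rfl
  -- the set of elements of order p
  set E := {g : G // orderOf g = p} with hE
  -- count via Sylow subgroups
  have hE1 : Nat.card E = Nat.card (Sylow p G) * (p - 1) := by
    let f : E → Sylow p G := fun g =>
      Sylow.ofCard (zpowers g.1) (by rw [Nat.card_zpowers, g.2, hfac])
    apply card_eq_mul_of_fibers f
    intro P
    have hc1 := card_ne (1 : ↥(P : Subgroup G))
    rw [hcardP P] at hc1
    rw [← hc1]
    refine Nat.card_congr ⟨fun g => ⟨⟨g.1.1, ?_⟩, ?_⟩, fun x => ⟨⟨x.1.1, ?_⟩, ?_⟩, ?_, ?_⟩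
    · have h9 : zpowers g.1.1 = (P : Subgroup G) := by
        have h8 := g.2
        exact congrArg (fun S : Sylow p G => (S : Subgroup G)) h8
      rw [← h9]
      exact mem_zpowers _
    · intro h
      have h1 : g.1.1 = 1 := congrArg Subtype.val h
      have := g.1.2
      rw [h1, orderOf_one] at this
      exact hp.one_lt.ne this
    · apply orderOf_of_mem (P : Subgroup G) (hcardP P) _ x.1.2
      intro h
      apply x.2
      exact Subtype.ext h
    · apply Sylow.ext
      show zpowers x.1.1 = (P : Subgroup G)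
      apply zpowers_eq_of_mem (P : Subgroup G) (hcardP P) _ x.1.2
      intro h
      apply x.2
      exact Subtype.ext h
    · intro g; rfl
    · intro x; rfl
  -- count via conjugacy classes
  set T := {c : ConjClasses G // ∃ g : G, ConjClasses.mk g = c ∧ orderOf g = p} with hT
  have hE2 : Nat.card E = Nat.card T * m := by
    let f : E → T := fun g => ⟨ConjClasses.mk g.1, g.1, rfl, g.2⟩
    apply card_eq_mul_of_fibers f
    rintro ⟨c, g₀, rfl, hog₀⟩
    have hidx : (centralizer ({g₀} : Set G)).index = m := by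
      have h1 := Subgroup.card_mul_index (centralizer ({g₀} : Set G))
      have hcard : Nat.card ↥(centralizer ({g₀} : Set G)) = p := by
        rw [hSC g₀ hog₀, Nat.card_zpowers, hog₀]
      rw [hcard, hm] at h1
      exact Nat.eq_of_mul_eq_mul_left hp.pos h1
    rw [← hidx, index_centralizer_eq_card_isConj]
    refine Nat.card_congr ⟨fun g => ⟨g.1.1, ?_⟩, fun h => ⟨⟨h.1, ?_⟩, ?_⟩, ?_, ?_⟩
    · have := congrArg Subtype.val g.2
      simp only [f] at this
      rw [ConjClasses.mk_eq_mk_iff_isConj] at this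
      exact this.symm
    · have := h.2
      obtain ⟨b, hb⟩ := isConj_iff.mp this
      rw [← hb]
      have := (MulAut.conj b).orderOf_eq g₀
      rw [← hog₀, ← this]
      simp
    · apply Subtype.ext
      simp only [f]
      rw [ConjClasses.mk_eq_mk_iff_isConj]
      exact h.2.symm
    · intro g; rfl
    · intro h; rfl
  -- n_p = 1 + n p
  have hmod : Nat.card (Sylow p G) % p = 1 % p := card_sylow_modEq_one p G
  rw [Nat.mod_eq_of_lt hp.one_lt] at hmod
  refine ⟨Nat.card (Sylow p G) / p, Nat.card T, rfl, ?_, ?_, ?_⟩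
  · -- t ∣ p - 1
    have hN := card_normalizer_mul_card_sylow P₀
    have hPN : p ∣ Nat.card ↥(normalizer ((P₀ : Subgroup G) : Set G)) := by
      have h7 := Subgroup.card_dvd_of_le (le_normalizer (H := (P₀ : Subgroup G)))
      rwa [hcardP P₀] at h7
    obtain ⟨k, hk⟩ := hPN
    refine ⟨k, ?_⟩
    have h1 : Nat.card T * m = Nat.card (Sylow p G) * (p - 1) := by rw [← hE2, hE1]
    have h2 : p * k * Nat.card (Sylow p G) = p * m := by rw [← hk, hN, hm]
    have h3 : k * Nat.card (Sylow p G) = m := by
      apply Nat.eq_of_mul_eq_mul_left hp.pos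
      rw [← h2]; ring
    have hnp : 0 < Nat.card (Sylow p G) := Nat.card_pos
    rw [← h3] at h1
    have h4 : Nat.card (Sylow p G) * (Nat.card T * k) = Nat.card (Sylow p G) * (p - 1) := by
      rw [← h1]; ring
    exact (Nat.eq_of_mul_eq_mul_left hnp h4).symm
  · have := Nat.div_add_mod (Nat.card (Sylow p G)) p
    rw [hmod] at this
    rw [mul_comm] at this
    omega
  · have h5 : 1 + Nat.card (Sylow p G) / p * p = Nat.card (Sylow p G) := by
      have := Nat.div_add_mod (Nat.card (Sylow p G)) p
      rw [hmod] at this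
      rw [mul_comm] at this
      omega
    rw [h5, hm]
    have h1 : Nat.card T * m = Nat.card (Sylow p G) * (p - 1) := by rw [← hE2, hE1]
    calc p * m * Nat.card T = p * (Nat.card T * m) := by ring
      _ = p * (Nat.card (Sylow p G) * (p - 1)) := by rw [h1]
      _ = (p - 1) * p * Nat.card (Sylow p G) := by ring

end Cfsg.Agent.S0995
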