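import Cfsg.Statements.S1002
import Cfsg.Agent.Lib.Helper17.FixSylow

set_option autoImplicit false
open Cfsg

namespace Cfsg.Agent.S1002

open Cfsg.Agent.Lib.Helper17 Subgroup

theorem num409 (n : ℕ) (h1 : n ∣ 2457) (h2 : n % 409 = 1) : n = 1 ∨ n = 819 := by
  obtain ⟨k, hk⟩ := h1
  have hk1 : k ≤ 2457 := by
    rcases Nat.eq_zero_or_pos n with h | h
    · subst h; omega
    · nlinarith
  by_cases hn : n = 1
  · left; exact hn
  · right
    have hn2 : 410 ≤ n := by omega
    have hk2 : k ≤ 5 := by nlinarith
    interval_cases k <;> omega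

theorem num13 (n : ℕ) (h1 : n ∣ 77301) (h2 : n % 13 = 1) (h3 : 409 ≤ n) : n = 25767 := by
  obtain ⟨k, hk⟩ := h1
  have hk2 : k ≤ 189 := by nlinarith
  interval_cases k <;> omega

theorem num7 (n : ℕ) (h1 : n ∣ 143559) (h2 : n % 7 = 1) (h3 : 409 ≤ n) : n = 47853 := by
  obtain ⟨k, hk⟩ := h1
  have hk2 : k ≤ 351 := by nlinarith
  interval_cases k <;> omega

theorem num1227 (d : ℕ) (h1 : d ∣ 1227) (h2 : ¬ 409 ∣ d) : d ≤ 3 := by
  have hp : Nat.Prime 409 := by norm_num
  have hcop : Nat.Coprime d 409 := ((Nat.Prime.coprime_iff_not_dvd hp).mpr h2).symm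
  have h3 : d ∣ 409 * 3 := by norm_num; exact h1
  have h4 : d ∣ 3 := hcop.dvd_of_dvd_mul_left h3
  exact Nat.le_of_dvd (by norm_num) h4

/-- The sets of elements of pairwise distinct orders are disjoint. -/
theorem sum_card_orderOf_le {G : Type*} [Group G] [Finite G] (s : Finset ℕ) :
    ∑ d ∈ s, Nat.card {g : G // orderOf g = d} ≤ Nat.card G := by
  classical
  let _ : Fintype G := Fintype.ofFinite G
  have hsum := Finset.card_eq_sum_card_fiberwise
    (s := (Finset.univ.filter (fun g : G => orderOf g ∈ s))) (t := s) (f := orderOf) (by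
      intro g hg
      simpa using hg)
  have hconv : ∀ d ∈ s, ((Finset.univ.filter (fun g : G => orderOf g ∈ s)).filter
      (fun g : G => orderOf g = d)).card = Nat.card {g : G // orderOf g = d} := by
    intro d hd
    rw [Nat.card_eq_fintype_card, Fintype.card_subtype, Finset.filter_filter]
    congr 1
    ext g
    simp only [Finset.mem_filter, Finset.mem_univ, true_and]
    constructor
    · intro h; exact h.2
    · intro h; exact ⟨h ▸ hd, h⟩
  rw [Finset.sum_congr rfl hconv] at hsum
  rw [← hsum, Nat.card_eq_fintype_card]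
  exact Finset.card_le_univ _

/-- No finite simple group has order 1004913 = 3^3 * 7 * 13 * 409. -/
theorem result {G : Type*} [Group G] [Finite G] [IsSimpleGroup G] : Nat.card G ≠ 1004913 := by
  intro hG
  have h409 : Fact (Nat.Prime 409) := ⟨by norm_num⟩
  have h13 : Fact (Nat.Prime 13) := ⟨by norm_num⟩
  have h7 : Fact (Nat.Prime 7) := ⟨by norm_num⟩
  have h3 : Fact (Nat.Prime 3) := ⟨by norm_num⟩
  -- minimal index
  have hidx : ∀ H : Subgroup G, H ≠ ⊤ → 409 ≤ H.index := by
    intro H hH
    have h1 := card_dvd_factorial_of_simple H hH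
    have h2 : 409 ∣ (H.index).factorial := dvd_trans (by rw [hG]; norm_num) h1
    exact (Nat.Prime.dvd_factorial h409.out).mp h2
  -- Sylow 409
  obtain ⟨P⟩ : Nonempty (Sylow 409 G) := inferInstance
  have hG409 : Nat.card G = 409 ^ 1 * 2457 := by rw [hG]; norm_num
  have hP : Nat.card ↥(P : Subgroup G) = 409 := by
    simpa using card_sylow_of_card_eq P hG409 (by norm_num)
  have hPne1 : (P : Subgroup G) ≠ ⊥ := by
    intro h; rw [h, Subgroup.card_bot] at hP; omega
  have hPne2 : (P : Subgroup G) ≠ ⊤ := by
    intro h; rw [h, Subgroup.card_top] at hP; omega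
  have hn409 : Nat.card (Sylow 409 G) = 819 := by
    have hdvd : Nat.card (Sylow 409 G) ∣ 2457 := card_sylow_dvd_of_card_eq hG409 (by norm_num)
    have hmod : Nat.card (Sylow 409 G) % 409 = 1 := card_sylow_modEq_one 409 G
    have hlt := one_lt_card_sylow_of_simple P hPne1 hPne2
    rcases num409 _ hdvd hmod with h | h
    · omega
    · exact h
  have hN : Nat.card ↥(normalizer ((P : Subgroup G) : Set G)) = 409 * 3 := by
    have := card_normalizer_mul_card_sylow P
    rw [hn409, hG] at this
    omega
  -- Sylow 13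
  have hG13 : Nat.card G = 13 ^ 1 * 77301 := by rw [hG]; norm_num
  have hcard13 : ∀ Q : Sylow 13 G, Nat.card ↥(Q : Subgroup G) = 13 := by
    intro Q
    simpa using card_sylow_of_card_eq Q hG13 (by norm_num)
  have hn13 : Nat.card (Sylow 13 G) = 25767 := by
    obtain ⟨Q⟩ : Nonempty (Sylow 13 G) := inferInstance
    have hQ := hcard13 Q
    have hQne1 : (Q : Subgroup G) ≠ ⊥ := by
      intro h; rw [h, Subgroup.card_bot] at hQ; omega
    have hQne2 : (Q : Subgroup G) ≠ ⊤ := by
      intro h; rw [h, Subgroup.card_top] at hQ; omega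
    have hdvd : Nat.card (Sylow 13 G) ∣ 77301 := card_sylow_dvd_of_card_eq hG13 (by norm_num)
    have hmod : Nat.card (Sylow 13 G) % 13 = 1 := card_sylow_modEq_one 13 G
    have hlt := one_lt_card_sylow_of_simple Q hQne1 hQne2
    have hge : 409 ≤ Nat.card (Sylow 13 G) := by
      rw [Q.card_eq_index_normalizer] at hlt ⊢
      apply hidx
      intro htop
      rw [htop, Subgroup.index_top] at hlt
      exact lt_irrefl _ hlt
    exact num13 _ hdvd hmod hge
  -- Sylow 7
  have hG7 : Nat.card G = 7 ^ 1 * 143559 := by rw [hG]; norm_num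
  have hcard7 : ∀ Q : Sylow 7 G, Nat.card ↥(Q : Subgroup G) = 7 := by
    intro Q
    simpa using card_sylow_of_card_eq Q hG7 (by norm_num)
  have hn7 : Nat.card (Sylow 7 G) = 47853 := by
    obtain ⟨Q⟩ : Nonempty (Sylow 7 G) := inferInstance
    have hQ := hcard7 Q
    have hQne1 : (Q : Subgroup G) ≠ ⊥ := by
      intro h; rw [h, Subgroup.card_bot] at hQ; omega
    have hQne2 : (Q : Subgroup G) ≠ ⊤ := by
      intro h; rw [h, Subgroup.card_top] at hQ; omega
    have hdvd : Nat.card (Sylow 7 G) ∣ 143559 := card_sylow_dvd_of_card_eq hG7 (by norm_num)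
    have hmod : Nat.card (Sylow 7 G) % 7 = 1 := card_sylow_modEq_one 7 G
    have hlt := one_lt_card_sylow_of_simple Q hQne1 hQne2
    have hge : 409 ≤ Nat.card (Sylow 7 G) := by
      rw [Q.card_eq_index_normalizer] at hlt ⊢
      apply hidx
      intro htop
      rw [htop, Subgroup.index_top] at hlt
      exact lt_irrefl _ hlt
    exact num7 _ hdvd hmod hge
  have hcard409 : ∀ Q : Sylow 409 G, Nat.card ↥(Q : Subgroup G) = 409 := by
    intro Q
    simpa using card_sylow_of_card_eq Q hG409 (by norm_num)
  -- element counts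
  have c409 := card_orderOf_eq_prime hcard409
  have c13 := card_orderOf_eq_prime hcard13
  have c7 := card_orderOf_eq_prime hcard7
  rw [hn409] at c409
  rw [hn13] at c13
  rw [hn7] at c7
  -- C(P) = P
  have hCP : centralizer ((P : Subgroup G) : Set G) = (P : Subgroup G) :=
    centralizer_sylow_eq_of_card_normalizer (by norm_num : Nat.Prime 3) P hP (by omega) hN
  -- an element of order 3 in N(P)
  obtain ⟨x₀, hx₀⟩ := exists_prime_orderOf_dvd_card' (G := ↥(normalizer ((P : Subgroup G) : Set G))) 3
    (by rw [hN]; norm_num)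
  set x : G := (x₀ : G) with hx
  have hxo : orderOf x = 3 := by rw [hx, Subgroup.orderOf_coe]; exact hx₀
  have hxN : x ∈ normalizer ((P : Subgroup G) : Set G) := x₀.2
  have hxP : x ∉ (P : Subgroup G) := by
    intro h
    have h1 : orderOf (⟨x, h⟩ : ↥(P : Subgroup G)) ∣ Nat.card ↥(P : Subgroup G) :=
      orderOf_dvd_natCard _
    rw [Subgroup.orderOf_mk, hxo, hP] at h1
    norm_num at h1
  have hcent := eq_one_of_commute_of_centralizer_eq P hP hCP x hxP
  -- number of Sylow 409-subgroups normalized by x
  have hfix := card_fixed_sylow_le P hP x hxN hcent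
  rw [hn409] at hfix
  have hfix' : Nat.card {Q : Sylow 409 G // x ∈ normalizer ((Q : Subgroup G) : Set G)} ≤ 3 := by
    omega
  -- C(x) ∩ N(P)
  have hinf : Nat.card ↥(centralizer ({x} : Set G) ⊓ normalizer ((P : Subgroup G) : Set G) :
      Subgroup G) ≤ 3 := by
    apply num1227
    · rw [show 1227 = 409 * 3 by norm_num, ← hN]
      exact Subgroup.card_dvd_of_le inf_le_right
    · intro hdvd
      obtain ⟨g, hg⟩ := exists_prime_orderOf_dvd_card' (G := ↥(centralizer ({x} : Set G) ⊓
        normalizer ((P : Subgroup G) : Set G) : Subgroup G)) 409 hdvd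
      have hgo : orderOf (g : G) = 409 := by rw [Subgroup.orderOf_coe]; exact hg
      have hgP : (g : G) ∈ (P : Subgroup G) := by
        let R : Sylow 409 G := Sylow.ofCard (zpowers (g : G)) (by
          rw [Nat.card_zpowers, hgo, hG]
          decide +kernel)
        have hR : (R : Subgroup G) = zpowers (g : G) := rfl
        have hRP : R = P := by
          apply sylow_eq_of_le_normalizer P R
          rw [hR, zpowers_le]
          exact g.2.2
        have hmem : (g : G) ∈ (R : Subgroup G) := by rw [hR]; exact mem_zpowers _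
        have hRP' : (R : Subgroup G) = (P : Subgroup G) := congrArg (fun S : Sylow 409 G => (S : Subgroup G)) hRP
        rw [hRP'] at hmem
        exact hmem
      have hgx : (g : G) * x = x * (g : G) := by
        have := mem_centralizer_iff.mp g.2.1 x (Set.mem_singleton x)
        exact this.symm
      have := hcent _ hgP hgx
      rw [this, orderOf_one] at hgo
      omega
  have hC := card_centralizer_le_of_mem_normalizer P x hxN
  have hC9 : Nat.card ↥(centralizer ({x} : Set G)) ≤ 9 := by
    calc Nat.card ↥(centralizer ({x} : Set G)) ≤ _ := hC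
      _ ≤ 3 * 3 := Nat.mul_le_mul hinf hfix'
  -- class of x
  have hcls : Nat.card {s : G // IsConj x s} * Nat.card ↥(centralizer ({x} : Set G)) =
      Nat.card G := by
    rw [← index_centralizer_eq_card_isConj, mul_comm]
    exact Subgroup.card_mul_index _
  have hcls2 : 111657 ≤ Nat.card {s : G // IsConj x s} := by
    rw [hG] at hcls
    have := Nat.mul_le_mul_left (Nat.card {s : G // IsConj x s}) hC9
    omega
  have hcls3 : Nat.card {s : G // IsConj x s} ≤ Nat.card {g : G // orderOf g = 3} := by
    let f : {s : G // IsConj x s} → {g : G // orderOf g = 3} :=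
      fun s => ⟨s.1, by
        obtain ⟨c, hc⟩ := isConj_iff.mp s.2
        rw [← hc]
        have : c * x * c⁻¹ = MulAut.conj c x := rfl
        rw [this, MulEquiv.orderOf_eq, hxo]⟩
    apply Nat.card_le_card_of_injective f
    intro a b hab
    apply Subtype.ext
    have := congrArg Subtype.val hab
    exact this
  have hsum := sum_card_orderOf_le (G := G) ({3, 7, 13, 409} : Finset ℕ)
  rw [Finset.sum_insert (by decide), Finset.sum_insert (by decide), Finset.sum_insert (by decide),
    Finset.sum_singleton, c409, c13, c7, hG] at hsum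
  omega

end Cfsg.Agent.S1002
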