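import Cfsg.Statements.S1004
import Cfsg.Agent.Lib.Helper17.Order168Sylow
import Cfsg.Agent.Lib.Helper17.SylowConj
import Cfsg.Agent.Lib.Helper61.DihedralLift

set_option autoImplicit false
open Cfsg

namespace Cfsg.Agent.S1004

open Cfsg.Agent.Lib.Helper17 Subgroup MulAction

/-- The Sylow 2-subgroup of a simple group of order 168 is dihedral. -/
theorem sylow_dihedral {G : Type*} [Group G] [Finite G] [IsSimpleGroup G] (h : Nat.card G = 168)
    (T : Sylow 2 G) : Nonempty (↥(T : Subgroup G) ≃* DihedralGroup 4) := by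
  classical
  haveI : Fact (Nat.Prime 2) := ⟨Nat.prime_two⟩
  have hT := O168.card_sylow2 h T
  obtain ⟨v, hvT, hvo, -⟩ := O168.exists_order_four h T
  have hNV := O168.normalizer_zpowers_eq h v hvo T hvT
  have hVcard : Nat.card ↥(zpowers v) = 4 := by rw [Nat.card_zpowers, hvo]
  -- an element of T outside ⟨v⟩
  obtain ⟨s, hsT, hsV⟩ : ∃ s ∈ (T : Subgroup G), s ∉ zpowers v := by
    by_contra hcon
    push Not at hcon
    have hle : (T : Subgroup G) ≤ zpowers v := hcon
    have := Subgroup.card_le_of_le hle
    omega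
  have hs1 : s ≠ 1 := fun h1 => hsV (h1 ▸ one_mem _)
  have hsd : orderOf s ∣ 8 := by
    have := orderOf_dvd_natCard (⟨s, hsT⟩ : ↥(T : Subgroup G))
    rwa [Subgroup.orderOf_mk, hT] at this
  -- s has order 2
  have hso : orderOf s = 2 := by
    rcases O168.orderOf_mem h s with h' | h' | h' | h' | h'
    · exact absurd (orderOf_eq_one_iff.mp h') hs1
    · exact h'
    · rw [h'] at hsd; norm_num at hsd
    · exfalso
      have hconj : IsConj v s := (O168.counts h).2.2.2 v s hvo h'
      obtain ⟨g, hg⟩ := isConj_iff.mp hconj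
      have hsT' : s ∈ ((g • T : Sylow 2 G) : Subgroup G) := by
        rw [mem_smul_sylow_iff, ← hg]
        have : g⁻¹ * (g * v * g⁻¹) * g = v := by group
        rw [this]
        exact hvT
      have heq := O168.sylow_unique_of_mem h s h' T (g • T) hsT hsT'
      have hgN : g ∈ normalizer ((T : Subgroup G) : Set G) :=
        (Sylow.smul_eq_iff_mem_normalizer (g := g) (P := T)).mp heq.symm
      rw [← hNV] at hvT
      have hgNV : g ∈ normalizer ((zpowers v : Subgroup G) : Set G) := by
        rw [hNV, ← O168.normalizer_sylow2 h T]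
        exact hgN
      apply hsV
      rw [← hg]
      exact (mem_normalizer_iff.mp hgNV v).mp (mem_zpowers v)
    · rw [h'] at hsd; norm_num at hsd
  have hss : s * s = 1 := by
    have := pow_orderOf_eq_one s
    rwa [hso, pow_two] at this
  have hsinv : s⁻¹ = s := inv_eq_of_mul_eq_one_right hss
  -- s inverts v
  have hsNV : s ∈ normalizer ((zpowers v : Subgroup G) : Set G) := by rw [hNV]; exact hsT
  have hu : s * v * s⁻¹ ∈ zpowers v := (mem_normalizer_iff.mp hsNV v).mp (mem_zpowers v)
  have huo : orderOf (s * v * s⁻¹) = 4 := by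
    rw [O168.orderOf_eq_of_isConj (isConj_iff.mpr ⟨s, rfl⟩), hvo]
  have hinv : s * v * s⁻¹ = v⁻¹ := by
    have hfin : IsOfFinOrder v := isOfFinOrder_of_finite v
    rw [hfin.mem_zpowers_iff_mem_range_orderOf, hvo] at hu
    simp only [Finset.mem_image, Finset.mem_range] at hu
    obtain ⟨k, hk, hku⟩ := hu
    interval_cases k
    · rw [pow_zero] at hku
      rw [← hku, orderOf_one] at huo
      omega
    · exfalso
      rw [pow_one] at hku
      apply hsV
      rw [← O168.centralizer_eq_zpowers h v hvo, mem_centralizer_iff]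
      intro t ht
      rw [Set.mem_singleton_iff] at ht
      rw [ht]
      calc v * s = s * v * s⁻¹ * s := by rw [← hku]
        _ = s * v := by group
    · exfalso
      rw [← hku, orderOf_pow' v (by norm_num), hvo] at huo
      norm_num at huo
    · rw [← hku]
      apply eq_inv_of_mul_eq_one_left
      rw [← pow_succ]
      have := pow_orderOf_eq_one v
      rwa [hvo] at this
  -- pass to the group T
  set s' : ↥(T : Subgroup G) := ⟨s, hsT⟩ with hs'
  set v' : ↥(T : Subgroup G) := ⟨v, hvT⟩ with hv'
  have hvo' : orderOf v' = 4 := by rw [hv', Subgroup.orderOf_mk, hvo]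
  have e1 : s' * s' = 1 := Subtype.ext hss
  have e2 : s' * v' * s' = v'⁻¹ := by
    apply Subtype.ext
    show s * v * s = v⁻¹
    rw [← hinv, hsinv]
  have e3 : s' ∉ zpowers v' := by
    intro hmem
    obtain ⟨n, hn⟩ := mem_zpowers_iff.mp hmem
    apply hsV
    have : v ^ n = s := by
      have := congrArg Subtype.val hn
      simpa using this
    rw [← this]
    exact zpow_mem (mem_zpowers v) n
  have e4 : Subgroup.closure ({s', v'} : Set ↥(T : Subgroup G)) = ⊤ := by
    set K := Subgroup.closure ({s', v'} : Set ↥(T : Subgroup G)) with hK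
    have hvK : v' ∈ K := Subgroup.subset_closure (by simp)
    have hsK : s' ∈ K := Subgroup.subset_closure (by simp)
    have hle : zpowers v' ≤ K := (zpowers_le).mpr hvK
    have hlt : zpowers v' < K := lt_of_le_of_ne hle (fun heq => e3 (heq ▸ hsK))
    have hc4 : Nat.card ↥(zpowers v') = 4 := by rw [Nat.card_zpowers, hvo']
    have hd1 : Nat.card ↥(zpowers v') ∣ Nat.card ↥K := Subgroup.card_dvd_of_le hle
    have hd2 : Nat.card ↥K ∣ 8 := hT ▸ Subgroup.card_subgroup_dvd_card K
    have hne : Nat.card ↥K ≠ 4 := by
      intro h4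
      exact hlt.ne (Subgroup.eq_of_le_of_card_ge hle (by rw [hc4, h4]))
    have h8 : Nat.card ↥K = 8 := by
      rw [hc4] at hd1
      have hle8 := Nat.le_of_dvd (by norm_num) hd2
      obtain ⟨c, hc⟩ := hd1
      have : c = 1 ∨ c = 2 := by
        rcases hd2 with ⟨d, hd⟩
        have hcpos : 0 < c := by
          rcases Nat.eq_zero_or_pos c with h0 | h0
          · rw [h0, mul_zero] at hc
            have := Nat.card_pos (α := ↥K)
            omega
          · exact h0
        omega
      rcases this with rfl | rfl <;> omega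
    exact Subgroup.eq_top_of_card_eq K (by rw [h8, hT])
  have e := Cfsg.Agent.Lib.Helper61.dihedralEquiv s' v' e1 e2 e3 e4
  rw [hvo'] at e
  exact ⟨e.symm⟩

/-- Let G be a simple group of order 168 and T a Sylow 2-subgroup. Then T is dihedral of order 8, T is its own normalizer, and T is the centralizer of any non-identity element of T that commutes with every element of T. -/
theorem result {G : Type*} [Group G] [Finite G] [IsSimpleGroup G] (h : Nat.card G = 168) (T : Sylow 2 G) : Nonempty (↥(T : Subgroup G) ≃* DihedralGroup 4) ∧ Subgroup.normalizer ((T : Subgroup G) : Set G) = T ∧ ∀ z : G, z ∈ (T : Subgroup G) → z ≠ 1 → (∀ t ∈ (T : Subgroup G), t * z = z * t) → Subgroup.centralizer ({z} : Set G) = T := by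
  refine ⟨sylow_dihedral h T, O168.normalizer_sylow2 h T, ?_⟩
  intro z hzT hz1 hzc
  have hT := O168.card_sylow2 h T
  have hzd : orderOf z ∣ 8 := by
    have := orderOf_dvd_natCard (⟨z, hzT⟩ : ↥(T : Subgroup G))
    rwa [Subgroup.orderOf_mk, hT] at this
  have hzo : orderOf z = 2 ∨ orderOf z = 4 := by
    rcases O168.orderOf_mem h z with h' | h' | h' | h' | h'
    · exact absurd (orderOf_eq_one_iff.mp h') hz1
    · exact Or.inl h'
    · rw [h'] at hzd; norm_num at hzd
    · exact Or.inr h'
    · rw [h'] at hzd; norm_num at hzd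
  have hle : (T : Subgroup G) ≤ centralizer ({z} : Set G) := by
    intro t ht
    rw [mem_centralizer_iff]
    intro s hs
    rw [Set.mem_singleton_iff] at hs
    rw [hs]
    exact (hzc t ht).symm
  have hd := O168.card_centralizer_dvd_eight h z hzo
  exact (Subgroup.eq_of_le_of_card_ge hle (by rw [hT]; exact Nat.le_of_dvd (by norm_num) hd)).symm

end Cfsg.Agent.S1004
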