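import Cfsg.Statements.S1006
import Cfsg.Agent.Lib.Helper17.Order168

set_option autoImplicit false
open Cfsg

namespace Cfsg.Agent.S1006

open Cfsg.Agent.Lib.Helper17 Subgroup MulAction

/-- For an element `y` of prime order `p`, when Sylow `p`-subgroups have order `p` and are
self-centralizing, the centralizer of `y` is the Sylow subgroup containing it. -/
theorem centralizer_singleton_eq {G : Type*} [Group G] [Finite G] {p : ℕ} [hp : Fact p.Prime]
    (hP : ∀ P : Sylow p G, Nat.card ↥(P : Subgroup G) = p)
    (hC : ∀ P : Sylow p G, centralizer ((P : Subgroup G) : Set G) = (P : Subgroup G))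
    (y : G) (hy : orderOf y = p) :
    ∃ P : Sylow p G, centralizer ({y} : Set G) = (P : Subgroup G) ∧ zpowers y = (P : Subgroup G) := by
  have hgrp : IsPGroup p (zpowers y) := by
    apply IsPGroup.of_card (n := 1)
    rw [Nat.card_zpowers, hy, pow_one]
  obtain ⟨P, hPy⟩ := hgrp.exists_le_sylow
  have hy1 : y ≠ 1 := by
    intro h1
    rw [h1, orderOf_one] at hy
    exact hp.out.one_lt.ne hy
  have hzp : zpowers y = (P : Subgroup G) :=
    zpowers_eq_of_mem_of_card_prime (P : Subgroup G) (hP P) y (hPy (mem_zpowers y)) hy1
  refine ⟨P, ?_, hzp⟩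
  apply le_antisymm
  · intro g hg
    rw [← hC P, mem_centralizer_iff]
    intro a ha
    rw [← hzp] at ha
    obtain ⟨n, rfl⟩ := mem_zpowers_iff.mp ha
    have h1 : Commute y g := mem_centralizer_iff.mp hg y rfl
    exact (h1.zpow_left n).eq
  · intro g hg
    rw [mem_centralizer_iff]
    intro s hs
    rw [Set.mem_singleton_iff] at hs
    rw [hs]
    have hgC : g ∈ centralizer ((P : Subgroup G) : Set G) := by rw [hC P]; exact hg
    exact mem_centralizer_iff.mp hgC y (hPy (mem_zpowers y))

/-- In a simple group of order 168 there are 56 elements of order 3, all conjugate; 42 elements of order 4, all conjugate; and 48 elements of order 7 falling into two conjugacy classes of size 24, an element of order 7 not being conjugate to its inverse. -/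
theorem result {G : Type*} [Group G] [Finite G] [IsSimpleGroup G] (h : Nat.card G = 168) : Nat.card {g : G // orderOf g = 3} = 56 ∧ (∀ s t : G, orderOf s = 3 → orderOf t = 3 → IsConj s t) ∧ Nat.card {g : G // orderOf g = 4} = 42 ∧ (∀ s t : G, orderOf s = 4 → orderOf t = 4 → IsConj s t) ∧ Nat.card {g : G // orderOf g = 7} = 48 ∧ ∀ x : G, orderOf x = 7 → Nat.card {g : G // IsConj x g} = 24 ∧ ¬ IsConj x x⁻¹ := by
  haveI : Fact (Nat.Prime 7) := ⟨by norm_num⟩
  haveI : Fact (Nat.Prime 3) := ⟨by norm_num⟩
  have h3 := O168.card_orderOf_three h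
  refine ⟨h3, ?_, (O168.counts h).2.1, (O168.counts h).2.2.2, O168.card_orderOf_seven h, ?_⟩
  · -- all elements of order 3 are conjugate
    have hcl : ∀ y : G, orderOf y = 3 → Nat.card {s : G // IsConj y s} = 56 := by
      intro y hy
      obtain ⟨P, hPc, -⟩ := centralizer_singleton_eq (O168.card_sylow3 h)
        (O168.centralizer_sylow3 h) y hy
      have := O168.card_isConj_mul_card_centralizer y
      rw [hPc, O168.card_sylow3 h P, h] at this
      omega
    intro s t hs ht
    exact O168.isConj_of_card_eq s hs (by rw [h3, hcl s hs]) t ht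
  · intro x hx
    obtain ⟨P, hPc, hzp⟩ := centralizer_singleton_eq (O168.card_sylow7 h)
      (O168.centralizer_sylow7 h) x hx
    have hP := O168.card_sylow7 h P
    constructor
    · have := O168.card_isConj_mul_card_centralizer x
      rw [hPc, hP, h] at this
      omega
    · intro hconj
      obtain ⟨g, hg⟩ := isConj_iff.mp hconj
      have hx1 : x ≠ 1 := by
        intro h1
        rw [h1, orderOf_one] at hx
        omega
      have hxP : x ∈ (P : Subgroup G) := hzp ▸ mem_zpowers x
      -- g normalizes P
      have hgN : g ∈ normalizer ((P : Subgroup G) : Set G) := by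
        apply (Sylow.smul_eq_iff_mem_normalizer (g := g) (P := P)).mp
        have hmem : x⁻¹ ∈ ((g • P : Sylow 7 G) : Subgroup G) := by
          rw [mem_smul_sylow_iff, ← hg]
          have : g⁻¹ * (g * x * g⁻¹) * g = x := by group
          rw [this]
          exact hxP
        have hxinv1 : x⁻¹ ≠ 1 := by
          intro h1
          exact hx1 (inv_eq_one.mp h1)
        have e1 := zpowers_eq_of_mem_of_card_prime ((g • P : Sylow 7 G) : Subgroup G)
          (O168.card_sylow7 h (g • P)) x⁻¹ hmem hxinv1
        have e2 := zpowers_eq_of_mem_of_card_prime (P : Subgroup G) hP x⁻¹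
          ((P : Subgroup G).inv_mem hxP) hxinv1
        exact Sylow.ext (e1.symm.trans e2)
      -- g ^ 21 = 1
      have hN : Nat.card ↥(normalizer ((P : Subgroup G) : Set G)) = 21 := by
        have := card_normalizer_mul_card_sylow P
        rw [(Cfsg.Agent.S1003.result h).2.2, h] at this
        omega
      have hg21 : g ^ 21 = 1 := by
        have := pow_card_eq_one' (G := ↥(normalizer ((P : Subgroup G) : Set G))) (x := ⟨g, hgN⟩)
        rw [hN] at this
        exact congrArg Subtype.val this
      -- g ^ 2 centralizes x, so lies in P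
      have hg2 : g ^ 2 ∈ (P : Subgroup G) := by
        rw [← hPc, mem_centralizer_iff]
        intro s hs
        rw [Set.mem_singleton_iff] at hs
        rw [hs]
        have a1 : g * x = x⁻¹ * g := by rw [← hg]; group
        have a2 : g * x⁻¹ = x * g := by
          have e1 : g * x⁻¹ * g⁻¹ = x := by
            have : g * x⁻¹ * g⁻¹ = (g * x * g⁻¹)⁻¹ := by group
            rw [this, hg, inv_inv]
          calc g * x⁻¹ = g * x⁻¹ * g⁻¹ * g := by group
            _ = x * g := by rw [e1]
        calc x * g ^ 2 = x * g * g := by rw [pow_two, mul_assoc]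
          _ = g * x⁻¹ * g := by rw [a2]
          _ = g * (x⁻¹ * g) := by group
          _ = g * (g * x) := by rw [a1]
          _ = g ^ 2 * x := by rw [pow_two, mul_assoc]
      have hg14 : g ^ 14 = 1 := by
        have := pow_card_eq_one' (G := ↥(P : Subgroup G)) (x := ⟨g ^ 2, hg2⟩)
        rw [hP] at this
        have h2 := congrArg Subtype.val this
        simp only [SubmonoidClass.coe_pow, OneMemClass.coe_one] at h2
        rw [← pow_mul] at h2
        exact h2
      have hg7 : g ^ 7 = 1 := by
        have : g ^ 21 = g ^ 14 * g ^ 7 := by rw [← pow_add]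
        rw [hg21, hg14, one_mul] at this
        exact this.symm
      have hgP : g ∈ (P : Subgroup G) := by
        have : g = (g ^ 2) ^ 4 := by
          rw [← pow_mul]
          have : g ^ (2 * 4) = g ^ 7 * g := by rw [← pow_succ]
          rw [this, hg7, one_mul]
        rw [this]
        exact (P : Subgroup G).pow_mem hg2 4
      have hcomm : g * x = x * g := by
        rw [← hzp] at hgP
        obtain ⟨n, rfl⟩ := mem_zpowers_iff.mp hgP
        exact ((Commute.refl x).zpow_left n).eq
      have hxx : x = x⁻¹ := by
        rw [← hg, hcomm, mul_inv_cancel_right]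
      have hx2 : x ^ 2 = 1 := by
        rw [pow_two]
        nth_rewrite 2 [hxx]
        exact mul_inv_cancel x
      have := orderOf_dvd_of_pow_eq_one hx2
      rw [hx] at this
      norm_num at this

end Cfsg.Agent.S1006
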