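import Cfsg.Statements.S1008
import Cfsg.Agent.Lib.Helper17.Order168Max

set_option autoImplicit false
open Cfsg

namespace Cfsg.Agent.S1008

open Cfsg.Agent.Lib.Helper17 Subgroup MulAction

variable {G : Type*} [Group G] [Finite G] [IsSimpleGroup G]

omit [IsSimpleGroup G] in
theorem ne_top_of_card_lt (h : Nat.card G = 168) (H : Subgroup G) (hc : Nat.card ↥H < 168) :
    H ≠ ⊤ := by
  intro htop
  rw [htop, Subgroup.card_top, h] at hc
  exact lt_irrefl _ hc

/-- A 2-subgroup normalizing... : a 2-subgroup normalized by a Sylow 2-subgroup lies in it. -/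
theorem le_sylow_of_le_normalizer (T : Sylow 2 G) (U : Subgroup G) (hU : IsPGroup 2 ↥U)
    (hTU : (T : Subgroup G) ≤ normalizer (U : Set G)) : U ≤ (T : Subgroup G) := by
  have h1 : IsPGroup 2 ↥((T : Subgroup G) ⊔ U : Subgroup G) :=
    IsPGroup.to_sup_of_normal_right' T.2 hU hTU
  have h2 := T.is_maximal' h1 le_sup_left
  rw [← h2]
  exact le_sup_right

omit [Finite G] [IsSimpleGroup G] in
theorem isPGroup_klein (U : Subgroup G) [hU : IsKleinFour ↥U] : IsPGroup 2 ↥U := by
  apply IsPGroup.of_card (n := 2)
  rw [hU.card_four]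
  norm_num

/-- The centralizer of an involution of a Klein four-subgroup normalizes it. -/
theorem centralizer_le_normalizer_klein (h : Nat.card G = 168) (U : Subgroup G)
    [hU : IsKleinFour ↥U] (t : G) (htU : t ∈ U) (hto : orderOf t = 2) :
    centralizer ({t} : Set G) ≤ normalizer (U : Set G) := by
  have hUC : U ≤ centralizer ({t} : Set G) := by
    intro x hx
    rw [mem_centralizer_iff]
    intro y hy
    rw [Set.mem_singleton_iff] at hy
    rw [hy]
    exact O168.klein_comm U t x htU hx
  rw [← normal_subgroupOf_iff_le_normalizer hUC]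
  apply normal_of_index_eq_two
  have h1 := card_inf_mul_relIndex U (centralizer ({t} : Set G))
  rw [inf_of_le_left hUC, hU.card_four, O168.card_centralizer_involution h t hto] at h1
  show U.relIndex (centralizer ({t} : Set G)) = 2
  omega

/-- The normalizer of a Klein four-subgroup is a maximal subgroup. -/
theorem isCoatom_normalizer_klein (h : Nat.card G = 168) (U : Subgroup G) [hU : IsKleinFour ↥U] :
    IsCoatom (normalizer (U : Set G)) := by
  have hN := O168.card_normalizer_klein h U
  refine ⟨ne_top_of_card_lt h _ (by rw [hN]; norm_num), ?_⟩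
  intro H hlt
  by_contra hH
  have h1 := O168.card_le_of_ne_top h H hH
  have h2 : normalizer (U : Set G) = H :=
    Subgroup.eq_of_le_of_card_ge hlt.le (by rw [hN]; exact h1)
  exact hlt.ne h2

/-- Maximal subgroups have order 21 or 24. -/
theorem coatom_card (h : Nat.card G = 168) (M : Subgroup G) (hM : IsCoatom M) :
    Nat.card ↥M = 21 ∨ Nat.card ↥M = 24 := by
  haveI : Fact (Nat.Prime 2) := ⟨by norm_num⟩
  haveI : Fact (Nat.Prime 3) := ⟨by norm_num⟩
  haveI : Fact (Nat.Prime 7) := ⟨by norm_num⟩
  have hmem := O168.card_mem_of_ne_top h M hM.1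
  simp only [Finset.mem_insert, Finset.mem_singleton] at hmem
  -- 2-groups of order < 8
  have two : ∀ n : ℕ, n < 3 → Nat.card ↥M = 2 ^ n → False := by
    intro n hn hc
    have hp : IsPGroup 2 ↥M := IsPGroup.of_card hc
    obtain ⟨T, hT⟩ := hp.exists_le_sylow
    have hT8 := O168.card_sylow2 h T
    apply O168.not_isCoatom_of_lt M (T : Subgroup G) _ (ne_top_of_card_lt h _ (by rw [hT8]; norm_num)) hM
    apply O168.lt_of_le_of_card_lt M _ hT
    rw [hT8, hc]
    interval_cases n <;> norm_num
  -- via a Klein four normalizer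
  have klein : (∃ U : Subgroup G, IsKleinFour ↥U ∧ M ≤ normalizer (U : Set G)) →
      Nat.card ↥M < 24 → False := by
    rintro ⟨U, hU, hle⟩ hc
    haveI := hU
    have hN := O168.card_normalizer_klein h U
    apply O168.not_isCoatom_of_lt M _ _ (ne_top_of_card_lt h _ (by rw [hN]; norm_num)) hM
    apply O168.lt_of_le_of_card_lt M _ hle
    rw [hN]; exact hc
  rcases hmem with hc | hc | hc | hc | hc | hc | hc | hc | hc | hc | hc
  · exact (two 0 (by norm_num) (by rw [hc]; norm_num)).elim
  · exact (two 1 (by norm_num) (by rw [hc]; norm_num)).elim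
  · -- order 3
    exfalso
    set P : Sylow 3 G := Sylow.ofCard M (by rw [hc, O168.fac3 h]) with hP
    have hN := O168.card_normalizer_sylow3 h P
    have hN' : Nat.card ↥(normalizer (M : Set G)) = 6 := hN
    apply O168.not_isCoatom_of_lt M (normalizer ((P : Subgroup G) : Set G)) _
      (ne_top_of_card_lt h _ (by rw [hN]; norm_num)) hM
    apply O168.lt_of_le_of_card_lt M _ (le_normalizer (H := M))
    rw [hN', hc]; norm_num
  · exact (two 2 (by norm_num) (by rw [hc]; norm_num)).elim
  · exact (klein (O168.le_normalizer_klein_of_card_six h M hc) (by rw [hc]; norm_num)).elim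
  · -- order 7
    exfalso
    set P : Sylow 7 G := Sylow.ofCard M (by rw [hc, O168.fac7 h]) with hP
    have hN := O168.card_normalizer_sylow7 h P
    have hN' : Nat.card ↥(normalizer (M : Set G)) = 21 := hN
    apply O168.not_isCoatom_of_lt M (normalizer ((P : Subgroup G) : Set G)) _
      (ne_top_of_card_lt h _ (by rw [hN]; norm_num)) hM
    apply O168.lt_of_le_of_card_lt M _ (le_normalizer (H := M))
    rw [hN', hc]; norm_num
  · -- order 8
    exfalso
    set T : Sylow 2 G := Sylow.ofCard M (by rw [hc, O168.fac2 h]) with hT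
    obtain ⟨U, hUT, hU⟩ := O168.exists_klein h T
    haveI := hU
    exact klein ⟨U, hU, Cfsg.Agent.S1007.sylow_le_normalizer_klein h T U hUT⟩
      (by rw [hc]; norm_num)
  · exact (klein (O168.le_normalizer_klein_of_card_twelve h M hc) (by rw [hc]; norm_num)).elim
  · exact (O168.card_ne_fourteen h M hc).elim
  · exact Or.inl hc
  · exact Or.inr hc

/-- In a simple group of order 168 every maximal subgroup is either isomorphic to the symmetric group of degree 4 or non-abelian of order 21; the maximal subgroups of order 21 form one conjugacy class and those isomorphic to the symmetric group of degree 4 form exactly two conjugacy classes. -/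
theorem result {G : Type*} [Group G] [Finite G] [IsSimpleGroup G] (h : Nat.card G = 168) : (∀ M : Subgroup G, IsCoatom M → Nonempty (↥M ≃* Equiv.Perm (Fin 4)) ∨ (Nat.card ↥M = 21 ∧ ¬ IsMulCommutative ↥M)) ∧ (∀ M M' : Subgroup G, IsCoatom M → IsCoatom M' → Nat.card ↥M = 21 → Nat.card ↥M' = 21 → ∃ g : G, M' = M.map (MulAut.conj g).toMonoidHom) ∧ ∃ M₁ M₂ : Subgroup G, IsCoatom M₁ ∧ IsCoatom M₂ ∧ Nonempty (↥M₁ ≃* Equiv.Perm (Fin 4)) ∧ Nonempty (↥M₂ ≃* Equiv.Perm (Fin 4)) ∧ (∀ g : G, M₂ ≠ M₁.map (MulAut.conj g).toMonoidHom) ∧ ∀ M : Subgroup G, IsCoatom M → Nonempty (↥M ≃* Equiv.Perm (Fin 4)) → ∃ g : G, M = M₁.map (MulAut.conj g).toMonoidHom ∨ M = M₂.map (MulAut.conj g).toMonoidHom := by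
  haveI : Fact (Nat.Prime 2) := ⟨by norm_num⟩
  haveI : Fact (Nat.Prime 7) := ⟨by norm_num⟩
  refine ⟨?_, ?_, ?_⟩
  · intro M hM
    rcases coatom_card h M hM with hc | hc
    · exact Or.inr ⟨hc, O168.not_comm_of_card_twentyone h M hc⟩
    · left
      apply Cfsg.Agent.S1012.result hc
      intro g hg
      rw [← Subgroup.orderOf_coe] at hg
      rcases O168.orderOf_mem h (g : G) with h' | h' | h' | h' | h' <;> omega
  · intro M M' _ _ hc hc'
    obtain ⟨P, rfl⟩ := O168.eq_normalizer_sylow7_of_card h M hc
    obtain ⟨P', rfl⟩ := O168.eq_normalizer_sylow7_of_card h M' hc'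
    obtain ⟨g, rfl⟩ := MulAction.exists_smul_eq G P P'
    refine ⟨g, ?_⟩
    ext x
    rw [O168.mem_map_conj, O168.mem_normalizer_smul_sylow]
  · obtain ⟨T⟩ : Nonempty (Sylow 2 G) := inferInstance
    have h2 := Cfsg.Agent.S1007.card_klein_in_sylow h T
    rw [Nat.card_eq_two_iff] at h2
    obtain ⟨⟨U₁, h1T, h1K⟩, ⟨U₂, h2T, h2K⟩, hne, huniv⟩ := h2
    have hne' : U₁ ≠ U₂ := fun heq => hne (Subtype.ext heq)
    haveI := h1K
    haveI := h2K
    have hcases : ∀ U : Subgroup G, U ≤ (T : Subgroup G) → IsKleinFour ↥U → U = U₁ ∨ U = U₂ := by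
      intro U hUT hUK
      have : (⟨U, hUT, hUK⟩ : {U : Subgroup G // U ≤ (T : Subgroup G) ∧ IsKleinFour ↥U}) ∈
          (Set.univ : Set _) := Set.mem_univ _
      rw [← huniv] at this
      rcases this with h' | h'
      · left; exact congrArg Subtype.val h'
      · right; exact congrArg Subtype.val h'
    have hnonconj := (Cfsg.Agent.S1007.result h T).2.1
    refine ⟨normalizer (U₁ : Set G), normalizer (U₂ : Set G), isCoatom_normalizer_klein h U₁,
      isCoatom_normalizer_klein h U₂, O168.normalizer_klein_equiv h U₁,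
      O168.normalizer_klein_equiv h U₂, ?_, ?_⟩
    · intro g heq
      rw [Subgroup.map_equiv_normalizer_eq U₁ (MulAut.conj g)] at heq
      set U' : Subgroup G := U₁.map (MulAut.conj g).toMonoidHom with hU'
      haveI hU'K : IsKleinFour ↥U' := O168.isKleinFour_map_conj g U₁
      have hTN : (T : Subgroup G) ≤ normalizer (U' : Set G) := by
        rw [← heq]
        exact Cfsg.Agent.S1007.sylow_le_normalizer_klein h T U₂ h2T
      have hU'T : U' ≤ (T : Subgroup G) := le_sylow_of_le_normalizer T U' (isPGroup_klein U') hTN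
      rcases hcases U' hU'T hU'K with h' | h'
      · -- U' = U₁ : N(U₁) = N(U₂)
        rw [h'] at heq
        -- a ∈ U₁ \\ U₂
        obtain ⟨a, ha1, ha2⟩ : ∃ a ∈ U₁, a ∉ U₂ := by
          by_contra hcon
          push Not at hcon
          have hle : U₁ ≤ U₂ := hcon
          exact hne' (Subgroup.eq_of_le_of_card_ge hle (by rw [h1K.card_four, h2K.card_four]))
        have ha0 : a ≠ 1 := fun h1 => ha2 (h1 ▸ one_mem _)
        have hao := O168.klein_orderOf U₁ a ha1 ha0
        have hCN := centralizer_le_normalizer_klein h U₁ a ha1 hao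
        rw [← heq] at hCN
        set Ta : Sylow 2 G := Sylow.ofCard (centralizer ({a} : Set G)) (by
          rw [O168.card_centralizer_involution h a hao, O168.fac2 h]) with hTa
        have hU₂C : U₂ ≤ centralizer ({a} : Set G) :=
          le_sylow_of_le_normalizer Ta U₂ (isPGroup_klein U₂) hCN
        obtain ⟨v, hvT, hvo, -⟩ := O168.exists_order_four h T
        obtain ⟨b, hb2, hbV⟩ := O168.klein_exists_outside v hvo U₂
        have hU₂eq := O168.klein_eq_inf_centralizer h T v hvT hvo U₂ h2T b hb2 hbV
        apply ha2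
        rw [hU₂eq]
        refine Subgroup.mem_inf.mpr ⟨h1T ha1, ?_⟩
        rw [mem_centralizer_iff]
        intro y hy
        rw [Set.mem_singleton_iff] at hy
        rw [hy]
        have := mem_centralizer_iff.mp (hU₂C hb2) a (Set.mem_singleton a)
        exact this.symm
      · exact hnonconj U₁ U₂ h1T h2T h1K h2K hne' g h'
    · intro M hM ⟨e⟩
      have hc : Nat.card ↥M = 24 := by
        rw [Nat.card_congr e.toEquiv, Nat.card_perm, Nat.card_eq_fintype_card, Fintype.card_fin]
        rfl
      obtain ⟨D, hDK, rfl⟩ := O168.eq_normalizer_klein_of_card h M hc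
      haveI := hDK
      obtain ⟨T', hDT'⟩ := (isPGroup_klein D).exists_le_sylow
      obtain ⟨g, rfl⟩ := MulAction.exists_smul_eq G T T'
      set D' : Subgroup G := D.map (MulAut.conj g⁻¹).toMonoidHom with hD'
      haveI hD'K : IsKleinFour ↥D' := O168.isKleinFour_map_conj g⁻¹ D
      have hD'T : D' ≤ (T : Subgroup G) := by
        intro x hx
        rw [hD', O168.mem_map_conj, inv_inv] at hx
        have := hDT' hx
        rw [mem_smul_sylow_iff] at this
        have e1 : g⁻¹ * (g * x * g⁻¹) * g = x := by group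
        rwa [e1] at this
      have hDeq : D = D'.map (MulAut.conj g).toMonoidHom := by
        ext x
        rw [O168.mem_map_conj, hD', O168.mem_map_conj, inv_inv]
        have e1 : g * (g⁻¹ * x * g) * g⁻¹ = x := by group
        rw [e1]
      refine ⟨g, ?_⟩
      rcases hcases D' hD'T hD'K with h' | h'
      · left
        rw [hDeq, h', Subgroup.map_equiv_normalizer_eq U₁ (MulAut.conj g)]
      · right
        rw [hDeq, h', Subgroup.map_equiv_normalizer_eq U₂ (MulAut.conj g)]

end Cfsg.Agent.S1008
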