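import Cfsg.Statements.S1009
import Mathlib

set_option autoImplicit false
open Cfsg

namespace Cfsg.Agent.S1009

open scoped Pointwise

/-- Sylow in an intermediate subgroup: a `p`-subgroup `K ≤ N` is conjugate by an element of `N` into
a Sylow `p`-subgroup `P ≤ N`. -/
theorem exists_conj_le {G : Type*} [Group G] [Finite G] (p : ℕ) [Fact p.Prime]
    (N K : Subgroup G) (P : Sylow p G) (hPN : (P : Subgroup G) ≤ N) (hK : IsPGroup p K)
    (hKN : K ≤ N) : ∃ n ∈ N, ∀ x ∈ K, n * x * n⁻¹ ∈ (P : Subgroup G) := by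
  have hK' : IsPGroup p (K.subgroupOf N) := hK.comap_subtype
  obtain ⟨S, hS⟩ := hK'.exists_le_sylow
  obtain ⟨n, hn⟩ := MulAction.exists_smul_eq N S (P.subtype hPN)
  refine ⟨n, n.2, fun x hx => ?_⟩
  have hxS : (⟨x, hKN hx⟩ : N) ∈ (S : Subgroup N) := hS (by simpa [Subgroup.mem_subgroupOf] using hx)
  have h1 : n * ⟨x, hKN hx⟩ * n⁻¹ ∈ ((n • S : Sylow p N) : Subgroup N) := by
    rw [Sylow.smul_def, Sylow.pointwise_smul_def]
    exact Subgroup.smul_mem_pointwise_smul _ (MulAut.conj n) _ hxS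
  rw [hn, Sylow.coe_subtype, Subgroup.mem_subgroupOf] at h1
  simpa using h1

/-- Brodkey's Theorem: if a finite group has abelian Sylow p-subgroups, then there are two Sylow p-subgroups whose intersection equals the intersection of all Sylow p-subgroups. -/
theorem result {G : Type*} [Group G] [Finite G] (p : ℕ) [Fact p.Prime] (hab : ∀ P : Sylow p G, IsMulCommutative ↥(P : Subgroup G)) : ∃ P Q : Sylow p G, (P : Subgroup G) ⊓ (Q : Subgroup G) = ⨅ R : Sylow p G, (R : Subgroup G) := by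
  classical
  obtain ⟨PQ, hmin⟩ := Finite.exists_min (fun PQ : Sylow p G × Sylow p G =>
    Nat.card ↥((PQ.1 : Subgroup G) ⊓ (PQ.2 : Subgroup G)))
  obtain ⟨P, Q⟩ := PQ
  simp only at hmin
  refine ⟨P, Q, le_antisymm ?_ ?_⟩
  swap
  · exact le_inf (iInf_le _ P) (iInf_le _ Q)
  set D : Subgroup G := (P : Subgroup G) ⊓ (Q : Subgroup G) with hD
  set N : Subgroup G := Subgroup.normalizer (D : Set G) with hN
  -- abelian Sylow subgroups normalize D
  have hcomm : ∀ S : Sylow p G, D ≤ (S : Subgroup G) → (S : Subgroup G) ≤ N := by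
    intro S hDS g hg
    rw [hN, Subgroup.mem_normalizer_iff]
    intro d
    have key : ∀ d ∈ D, g * d * g⁻¹ = d := by
      intro d hd
      have := (hab S).is_comm.comm ⟨g, hg⟩ ⟨d, hDS hd⟩
      have h2 : g * d = d * g := congrArg Subtype.val this
      rw [h2]; group
    constructor
    · intro hd
      rw [key d hd]; exact hd
    · intro hd
      have := key _ hd
      have h3 : d = g⁻¹ * (g * d * g⁻¹) * g := by group
      have h4 : g * d * g⁻¹ = d := by
        have h5 : g * (g * d * g⁻¹) * g⁻¹ = g * d * g⁻¹ := this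
        have : g * d * g⁻¹ = g⁻¹ * (g * (g * d * g⁻¹) * g⁻¹) * g := by group
        rw [h5] at this
        rw [this]; group
      rw [← h4]; exact hd
  have hPN : (P : Subgroup G) ≤ N := hcomm P inf_le_left
  have hQN : (Q : Subgroup G) ≤ N := hcomm Q inf_le_right
  apply le_iInf
  intro R
  obtain ⟨n, hnN, hn⟩ := exists_conj_le p N ((R : Subgroup G) ⊓ N) P hPN
    (R.2.to_le inf_le_left) inf_le_right
  -- R' = n • R
  have hsub : ((n • R : Sylow p G) : Subgroup G) ⊓ (Q : Subgroup G) ≤ D := by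
    intro y hy
    obtain ⟨hy1, hy2⟩ := Subgroup.mem_inf.mp hy
    rw [Sylow.smul_def, Sylow.pointwise_smul_def, Subgroup.mem_pointwise_smul_iff_inv_smul_mem] at hy1
    have hx : n⁻¹ * y * n ∈ (R : Subgroup G) := by simpa [MulAut.smul_def] using hy1
    have hxN : n⁻¹ * y * n ∈ N := N.mul_mem (N.mul_mem (N.inv_mem hnN) (hQN hy2)) hnN
    have := hn _ (Subgroup.mem_inf.mpr ⟨hx, hxN⟩)
    have h6 : n * (n⁻¹ * y * n) * n⁻¹ = y := by group
    rw [h6] at this
    exact Subgroup.mem_inf.mpr ⟨this, hy2⟩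
  have hcard := hmin (n • R, Q)
  simp only at hcard
  have heq : ((n • R : Sylow p G) : Subgroup G) ⊓ (Q : Subgroup G) = D :=
    Subgroup.eq_of_le_of_card_ge hsub hcard
  intro d hd
  have hd' : n * d * n⁻¹ ∈ D := by
    have := (Subgroup.mem_normalizer_iff.mp hnN d).mp hd
    exact this
  have h7 : n * d * n⁻¹ ∈ ((n • R : Sylow p G) : Subgroup G) := by
    rw [← heq] at hd'
    exact (Subgroup.mem_inf.mp hd').1
  rw [Sylow.smul_def, Sylow.pointwise_smul_def, Subgroup.mem_pointwise_smul_iff_inv_smul_mem] at h7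
  have h8 : (MulAut.conj n)⁻¹ • (n * d * n⁻¹) = d := by
    simp [MulAut.smul_def, mul_assoc]
  rwa [h8] at h7

end Cfsg.Agent.S1009
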