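import Cfsg.Statements.S1010
import Cfsg.Agent.Lib.Helper49.TwoPPlusOne
import Cfsg.Agent.Lib.Helper53.Transfer

set_option autoImplicit false
set_option linter.style.haveILetI false
open Cfsg

/-!
# No finite group has exactly 21 Sylow 5-subgroups (M. Hall)

Elementary proof.  Pass to a "reduced" section `G` (faithful on its 21 Sylow 5-subgroups, no proper
normal subgroup of index prime to 5).  Then `|P| = 5`, every element of `G` is an even permutation
of the 21 Sylow subgroups, so an involution of `C_G(P)` has `≡ 1 (mod 20)` fixed points, i.e.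
exactly one.  A Sylow 2-subgroup `S` normalizes some `P`.  If `S` does not centralize `P`,
the generalized Thompson transfer lemma gives a normal subgroup of index two.  If it does,
`N_G(P) = C_G(P)`, Burnside gives a normal 5-complement, `P` normalizes a Sylow 7-subgroup (of
order 7), hence centralizes it, but an element of order 7 in `C_G(P)` would have `≡ 21 (mod 35)`
fixed points.
-/

namespace Cfsg.Agent.S1010

open MulAction Subgroup Cfsg.Agent.Lib.Helper49.TwoPPlusOne

universe u

section thompson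

variable {G : Type u} [Group G] [Finite G]

/-- Thompson transfer, packaged: if the image under `b` of a Sylow 2-subgroup `S ≤ N` has order
two and no element of `S` outside `ker b` is conjugate into `ker b`, then `G` has a normal
subgroup of index two. -/
theorem exists_index_two_of_hom (S : Sylow 2 G) (N : Subgroup G) (hSN : (S : Subgroup G) ≤ N)
    {B : Type*} [Group B] (b : ↥N →* B)
    (hb2 : Nat.card ↥(b.comp (Subgroup.inclusion hSN)).range = 2)
    (hcon : ∀ x ∈ (S : Subgroup G), ∀ hx : x ∈ N, b ⟨x, hx⟩ ≠ 1 →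
      ∀ g : G, ∀ hy : g * x * g⁻¹ ∈ N, b ⟨g * x * g⁻¹, hy⟩ ≠ 1) :
    ∃ K : Subgroup G, K.Normal ∧ K.index = 2 := by
  classical
  obtain ⟨M, hM⟩ : ∃ M : Subgroup G, M = b.ker.map N.subtype := ⟨_, rfl⟩
  have hmemM : ∀ z : G, z ∈ M ↔ ∃ hz : z ∈ N, b ⟨z, hz⟩ = 1 := by
    intro z
    rw [hM, Subgroup.mem_map]
    constructor
    · rintro ⟨w, hw, rfl⟩
      exact ⟨w.2, MonoidHom.mem_ker.mp hw⟩
    · rintro ⟨hz, h1⟩
      exact ⟨⟨z, hz⟩, MonoidHom.mem_ker.mpr h1, rfl⟩
  have hrel : M.relIndex (S : Subgroup G) = 2 := by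
    have hsub : M.subgroupOf (S : Subgroup G) = (b.comp (Subgroup.inclusion hSN)).ker := by
      ext s
      rw [Subgroup.mem_subgroupOf, hmemM, MonoidHom.mem_ker, MonoidHom.comp_apply]
      constructor
      · rintro ⟨hz, h1⟩
        exact h1
      · intro h1
        exact ⟨hSN s.2, h1⟩
    rw [Subgroup.relIndex, hsub, Subgroup.index_ker, hb2]
  have hex : ∃ k, ∃ x ∈ (S : Subgroup G), x ∉ M ∧ orderOf x = k := by
    by_contra hno
    push Not at hno
    have hle : (S : Subgroup G) ≤ M := fun x hx => by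
      by_contra hxM
      exact hno (orderOf x) x hx hxM rfl
    have := Subgroup.relIndex_eq_one.mpr hle
    omega
  obtain ⟨x, hxS, hxM, hxmin⟩ : ∃ x ∈ (S : Subgroup G), x ∉ M ∧
      ∀ y ∈ (S : Subgroup G), y ∉ M → orderOf x ≤ orderOf y := by
    obtain ⟨x, hxS, hxM, hxo⟩ := Nat.find_spec hex
    refine ⟨x, hxS, hxM, fun y hyS hyM => ?_⟩
    rw [hxo]
    exact Nat.find_min' hex ⟨y, hyS, hyM, rfl⟩
  obtain ⟨n, hn⟩ : ∃ n, orderOf x = 2 ^ n := by
    obtain ⟨k, hk⟩ := (IsPGroup.iff_orderOf.mp S.2) ⟨x, hxS⟩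
    refine ⟨k, ?_⟩
    rw [← hk, ← Subgroup.orderOf_coe]
  have hn1 : 1 ≤ n := by
    rcases Nat.eq_zero_or_pos n with h0 | h0
    · exfalso
      rw [h0, pow_zero, orderOf_eq_one_iff] at hn
      exact hxM (hn ▸ M.one_mem)
    · exact h0
  have hord : ∀ y ∈ (S : Subgroup G), y ∉ M → 2 ^ (n - 1) < orderOf y := by
    intro y hyS hyM
    have h1 := hxmin y hyS hyM
    rw [hn] at h1
    have h2 : 2 ^ (n - 1) < 2 ^ n := Nat.pow_lt_pow_right (by norm_num) (by omega)
    omega
  have hcon' : ∀ g : G, g * x * g⁻¹ ∉ M := by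
    intro g hg
    obtain ⟨hz, h1⟩ := (hmemM _).mp hg
    have hxN : x ∈ N := hSN hxS
    have hbx : b ⟨x, hxN⟩ ≠ 1 := by
      intro h
      exact hxM ((hmemM x).mpr ⟨hxN, h⟩)
    exact hcon x hxS hxN hbx g hz h1
  obtain ⟨K, hKn, hK2, -⟩ :=
    Cfsg.Agent.Lib.Helper53.thompson_transfer S M hrel n hn1 hord x hn hcon'
  exact ⟨K, hKn, hK2⟩

end thompson

section main

variable {G : Type u} [Group G] [Finite G]

theorem fact_prime_five : Fact (Nat.Prime 5) := ⟨by norm_num⟩

/-- In a reduced group with 21 Sylow 5-subgroups these have order 5. -/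
theorem card_sylow_five (hcard : Nat.card (Sylow 5 G) = 21) (hred : Reduced 5 G)
    (P : Sylow 5 G) : Nat.card ↥(P : Subgroup G) = 5 := by
  haveI := fact_prime_five
  have hcore : (P : Subgroup G).normalCore = ⊥ := by
    rw [eq_bot_iff, ← hred.ker_eq_bot]
    intro x hx
    rw [mem_sylKer]
    intro Q
    obtain ⟨g, rfl⟩ := MulAction.exists_smul_eq G P Q
    rw [Sylow.smul_eq_iff_mem_normalizer]
    apply le_normalizer
    have hx' : g⁻¹ * x * g⁻¹⁻¹ ∈ (P : Subgroup G) :=
      Subgroup.normalCore_le _ (((P : Subgroup G).normalCore_normal).conj_mem x hx g⁻¹)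
    rw [Sylow.smul_def, Sylow.pointwise_smul_def, Subgroup.mem_pointwise_smul_iff_inv_smul_mem,
      MulAut.smul_def, ← map_inv, MulAut.conj_apply]
    exact hx'
  have hlt : Nat.card (Sylow 5 G) < 5 ^ 2 := by rw [hcard]; norm_num
  have h1 := Cfsg.Agent.Lib.Helper72.card_sylow_dvd_mul_card_normalCore hlt P
  rw [hcore, Subgroup.card_bot, mul_one] at h1
  rcases (Nat.dvd_prime (by norm_num : Nat.Prime 5)).mp h1 with h1 | h1
  · exfalso
    have hall : ∀ Q : Sylow 5 G, (Q : Subgroup G) = ⊥ := by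
      intro Q
      apply Subgroup.eq_bot_of_card_eq
      rw [Q.card_eq_multiplicity, ← P.card_eq_multiplicity, h1]
    have hsub : Subsingleton (Sylow 5 G) :=
      ⟨fun A B => Sylow.ext ((hall A).trans (hall B).symm)⟩
    have := Finite.card_le_one_iff_subsingleton.mpr hsub
    rw [hcard] at this
    omega
  · exact h1

omit [Finite G] in
/-- All elements act as even permutations of the Sylow 5-subgroups. -/
theorem sign_eq_one (hred : Reduced 5 G) [Fintype (Sylow 5 G)] [DecidableEq (Sylow 5 G)] (g : G) :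
    Equiv.Perm.sign (MulAction.toPermHom G (Sylow 5 G) g) = 1 := by
  have hker : (Equiv.Perm.sign.comp (MulAction.toPermHom G (Sylow 5 G))).ker = ⊤ := by
    apply hred.no_normal _ (MonoidHom.normal_ker _)
    rw [Subgroup.index_ker]
    intro hdvd
    have h3 : Nat.card ↥(Equiv.Perm.sign.comp (MulAction.toPermHom G (Sylow 5 G))).range ∣
        Nat.card ℤˣ := Subgroup.card_subgroup_dvd_card _
    have h4 : Nat.card ℤˣ = 2 := by
      rw [Nat.card_eq_fintype_card]; rfl
    rw [h4] at h3
    have := Nat.le_of_dvd (by norm_num) (hdvd.trans h3)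
    omega
  have hmem : g ∈ (Equiv.Perm.sign.comp (MulAction.toPermHom G (Sylow 5 G))).ker := by
    rw [hker]; exact Subgroup.mem_top _
  exact MonoidHom.mem_ker.mp hmem

/-- Fixed points of an element of `C_G(P)`: congruent to 1 mod 5. -/
theorem card_fixedBy_modEq (P : Sylow 5 G) {c : G}
    (hc : c ∈ centralizer ((P : Subgroup G) : Set G)) :
    Nat.card ↥(fixedBy (Sylow 5 G) c) ≡ 1 [MOD 5] := by
  haveI := fact_prime_five
  have hinv : ∀ a : ↥(P : Subgroup G), ∀ Q ∈ fixedBy (Sylow 5 G) c,
      a • Q ∈ fixedBy (Sylow 5 G) c := by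
    intro a Q hQ
    rw [MulAction.mem_fixedBy] at hQ ⊢
    have hcomm : c * (a : G) = (a : G) * c :=
      (Subgroup.mem_centralizer_iff.mp hc (a : G) a.2).symm
    calc c • (a • Q) = (c * (a : G)) • Q := by rw [mul_smul]; rfl
      _ = ((a : G) * c) • Q := by rw [hcomm]
      _ = a • (c • Q) := by rw [mul_smul]; rfl
      _ = a • Q := by rw [hQ]
  have h := Cfsg.Agent.Lib.Helper17.card_invariant_modEq (A := ↥(P : Subgroup G))
    (X := Sylow 5 G) P.2 (fixedBy (Sylow 5 G) c) hinv
  have hset : (fixedBy (Sylow 5 G) c ∩ fixedPoints ↥(P : Subgroup G) (Sylow 5 G) :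
      Set (Sylow 5 G)) = {P} := by
    ext Q
    rw [Set.mem_inter_iff, Set.mem_singleton_iff]
    constructor
    · rintro ⟨-, hQ⟩
      have hle : (P : Subgroup G) ≤ (Q : Subgroup G) :=
        (IsPGroup.sylow_mem_fixedPoints_iff P.2).mp hQ
      exact (Sylow.ext (P.is_maximal' Q.2 hle)).symm ▸ rfl
    · rintro rfl
      refine ⟨?_, ?_⟩
      · rw [MulAction.mem_fixedBy]
        exact Sylow.smul_eq_iff_mem_normalizer.mpr (Subgroup.centralizer_le_normalizer _ hc)
      · exact (IsPGroup.sylow_mem_fixedPoints_iff Q.2).mpr le_rfl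
  rw [hset] at h
  simpa using h

end main

section main2

variable {G : Type u} [Group G] [Finite G]

/-- Number of fixed points plus size of the support is 21; a nontrivial element has nonempty
support; an involution has support of size divisible by 4. -/
theorem fixedBy_facts (hcard : Nat.card (Sylow 5 G) = 21) (hred : Reduced 5 G) (c : G)
    (hc1 : c ≠ 1) :
    Nat.card ↥(fixedBy (Sylow 5 G) c) < 21 ∧
      (c * c = 1 → 4 ∣ 21 - Nat.card ↥(fixedBy (Sylow 5 G) c)) := by
  classical
  haveI : Fintype (Sylow 5 G) := Fintype.ofFinite _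
  obtain ⟨σ, hσ⟩ : ∃ σ : Equiv.Perm (Sylow 5 G),
      σ = MulAction.toPermHom G (Sylow 5 G) c := ⟨_, rfl⟩
  have hσapp : ∀ R : Sylow 5 G, σ R = c • R := by
    intro R; rw [hσ]; rfl
  have hσ1 : σ ≠ 1 := by
    intro h1'
    have hmem : c ∈ sylKer 5 G := by
      unfold sylKer
      rw [MonoidHom.mem_ker, ← hσ]
      exact h1'
    rw [hred.ker_eq_bot, Subgroup.mem_bot] at hmem
    exact hc1 hmem
  have hF : Nat.card ↥(fixedBy (Sylow 5 G) c) + σ.support.card = 21 := by
    have h1 : Nat.card ↥(fixedBy (Sylow 5 G) c) =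
        (Finset.univ.filter fun Q : Sylow 5 G => c • Q = Q).card := by
      rw [Nat.card_eq_fintype_card, ← Fintype.card_subtype]
      exact Fintype.card_congr (Equiv.subtypeEquivRight (fun _ => Iff.rfl))
    have h2 : σ.support = Finset.univ.filter fun Q : Sylow 5 G => ¬ c • Q = Q := by
      ext R
      rw [Equiv.Perm.mem_support, Finset.mem_filter, hσapp]
      simp
    rw [h1, h2, Finset.card_filter_add_card_filter_not, Finset.card_univ,
      ← Nat.card_eq_fintype_card, hcard]
  have hs0 : σ.support.card ≠ 0 := by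
    intro h0
    rw [Finset.card_eq_zero, Equiv.Perm.support_eq_empty_iff] at h0
    exact hσ1 h0
  refine ⟨by omega, fun hcc => ?_⟩
  have hσ2 : σ ^ 2 = 1 := by
    rw [hσ, ← map_pow, pow_two, hcc, map_one]
  have hσo : orderOf σ = 2 := orderOf_eq_prime hσ2 hσ1
  obtain ⟨n, hn⟩ := Equiv.Perm.cycleType_prime_order (σ := σ)
    (by rw [hσo]; exact Nat.prime_two)
  have hsum := Equiv.Perm.sum_cycleType σ
  rw [hn, hσo, Multiset.sum_replicate, smul_eq_mul] at hsum
  have hsign : Equiv.Perm.sign σ = 1 := by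
    rw [hσ]; exact sign_eq_one hred c
  rw [Equiv.Perm.sign_of_cycleType, hn, hσo, Multiset.sum_replicate,
    Multiset.card_replicate, smul_eq_mul] at hsign
  have heven : Even (n + 1) := by
    by_contra hodd
    rw [Nat.not_even_iff_odd] at hodd
    have hodd' : Odd ((n + 1) * 2 + (n + 1)) := by
      obtain ⟨k, hk⟩ := hodd
      exact ⟨3 * k + 1, by omega⟩
    rw [hodd'.neg_one_pow] at hsign
    exact absurd hsign (by decide)
  obtain ⟨k, hk⟩ := heven
  have : 21 - Nat.card ↥(fixedBy (Sylow 5 G) c) = σ.support.card := by omega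
  rw [this, ← hsum]
  exact ⟨k, by omega⟩

/-- A nontrivial involution centralizing `P` fixes no Sylow 5-subgroup other than `P`. -/
theorem eq_of_invol_smul_eq (hcard : Nat.card (Sylow 5 G) = 21) (hred : Reduced 5 G)
    (P : Sylow 5 G) {c : G} (hc : c ∈ centralizer ((P : Subgroup G) : Set G)) (hc1 : c ≠ 1)
    (hcc : c * c = 1) {Q : Sylow 5 G} (hQ : c • Q = Q) : Q = P := by
  obtain ⟨h1, h2⟩ := fixedBy_facts hcard hred c hc1
  have h3 := card_fixedBy_modEq P hc
  have h4 := h2 hcc
  have h5 : Nat.card ↥(fixedBy (Sylow 5 G) c) = 1 := by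
    have h3' : Nat.card ↥(fixedBy (Sylow 5 G) c) % 5 = 1 := h3
    obtain ⟨k, hk⟩ := h4
    omega
  have hsub : Subsingleton ↥(fixedBy (Sylow 5 G) c) :=
    Finite.card_le_one_iff_subsingleton.mp h5.le
  have hP : P ∈ fixedBy (Sylow 5 G) c := by
    rw [MulAction.mem_fixedBy]
    exact Sylow.smul_eq_iff_mem_normalizer.mpr (Subgroup.centralizer_le_normalizer _ hc)
  have := hsub.elim ⟨Q, hQ⟩ ⟨P, hP⟩
  exact congrArg Subtype.val this

/-- No element of order 7 centralizes a Sylow 5-subgroup. -/
theorem orderOf_ne_seven (hcard : Nat.card (Sylow 5 G) = 21) (hred : Reduced 5 G)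
    (P : Sylow 5 G) {c : G} (hc : c ∈ centralizer ((P : Subgroup G) : Set G)) :
    orderOf c ≠ 7 := by
  intro ho
  haveI : Fact (Nat.Prime 7) := ⟨by norm_num⟩
  have hc1 : c ≠ 1 := by
    intro h
    rw [h, orderOf_one] at ho
    omega
  obtain ⟨h1, -⟩ := fixedBy_facts hcard hred c hc1
  have h3 : Nat.card ↥(fixedBy (Sylow 5 G) c) % 5 = 1 := card_fixedBy_modEq P hc
  have hz : IsPGroup 7 ↥(Subgroup.zpowers c) := by
    apply IsPGroup.of_card (n := 1)
    rw [Nat.card_zpowers, ho, pow_one]
  have h7 := hz.card_modEq_card_fixedPoints (Sylow 5 G)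
  have hset : fixedPoints ↥(Subgroup.zpowers c) (Sylow 5 G) = fixedBy (Sylow 5 G) c := by
    ext Q
    rw [MulAction.mem_fixedPoints, MulAction.mem_fixedBy]
    constructor
    · intro h
      exact h ⟨c, Subgroup.mem_zpowers c⟩
    · intro h z
      have hle : Subgroup.zpowers c ≤ MulAction.stabilizer G Q :=
        Subgroup.zpowers_le.mpr (MulAction.mem_stabilizer_iff.mpr h)
      exact MulAction.mem_stabilizer_iff.mp (hle z.2)
  rw [hset, hcard] at h7
  have h7' : 21 % 7 = Nat.card ↥(fixedBy (Sylow 5 G) c) % 7 := h7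
  omega

end main2


section cases

variable {G : Type u} [Group G] [Finite G]

/-- The Thompson transfer contradiction: a homomorphism `b` on `N_G(P)` whose image on a Sylow
2-subgroup has order two, such that elements of the kernel have `2 ^ e`-th power in `C_G(P)`
while elements outside the kernel have nontrivial `2 ^ e`-th power. -/
theorem thompson_kill (hcard : Nat.card (Sylow 5 G) = 21) (hred : Reduced 5 G)
    (S : Sylow 2 G) (P : Sylow 5 G)
    (hSN : (S : Subgroup G) ≤ normalizer ((P : Subgroup G) : Set G))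
    {B : Type*} [Group B] (b : ↥(normalizer ((P : Subgroup G) : Set G)) →* B) (e : ℕ)
    (hi : ∀ y : ↥(normalizer ((P : Subgroup G) : Set G)), b y = 1 →
      (y : G) ^ (2 ^ e) ∈ centralizer ((P : Subgroup G) : Set G))
    (hii : ∀ x : ↥(normalizer ((P : Subgroup G) : Set G)), b x ≠ 1 → (x : G) ^ (2 ^ e) ≠ 1)
    (hb2 : Nat.card ↥(b.comp (Subgroup.inclusion hSN)).range = 2) : False := by
  have hcon : ∀ x ∈ (S : Subgroup G), ∀ hx : x ∈ normalizer ((P : Subgroup G) : Set G),
      b ⟨x, hx⟩ ≠ 1 → ∀ g : G, ∀ hy : g * x * g⁻¹ ∈ normalizer ((P : Subgroup G) : Set G),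
      b ⟨g * x * g⁻¹, hy⟩ ≠ 1 := by
    intro x hxS hxN hbx g hyN hby
    obtain ⟨n, hn⟩ : ∃ n, orderOf x = 2 ^ n := by
      obtain ⟨k, hk⟩ := (IsPGroup.iff_orderOf.mp S.2) ⟨x, hxS⟩
      exact ⟨k, by rw [← hk, ← Subgroup.orderOf_coe]⟩
    have hne : e < n := by
      by_contra hle
      push Not at hle
      apply hii ⟨x, hxN⟩ hbx
      show x ^ (2 ^ e) = 1
      apply orderOf_dvd_iff_pow_eq_one.mp
      rw [hn]
      exact pow_dvd_pow 2 hle
    obtain ⟨u, hu⟩ : ∃ u, u = x ^ (2 ^ (n - 1)) := ⟨_, rfl⟩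
    have hu1 : u ≠ 1 := by
      intro h
      rw [hu] at h
      have hd := orderOf_dvd_iff_pow_eq_one.mpr h
      rw [hn] at hd
      have h2 : 2 ^ (n - 1) < 2 ^ n := Nat.pow_lt_pow_right (by norm_num) (by omega)
      have := Nat.le_of_dvd (by positivity) hd
      omega
    have huu : u * u = 1 := by
      rw [hu, ← pow_add, ← two_mul, ← pow_succ', (by omega : n - 1 + 1 = n), ← hn,
        pow_orderOf_eq_one]
    have huN : u ∈ normalizer ((P : Subgroup G) : Set G) := by
      rw [hu]; exact Subgroup.pow_mem _ hxN _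
    obtain ⟨w, hw⟩ : ∃ w, w = g * u * g⁻¹ := ⟨_, rfl⟩
    have hwy : w = (g * x * g⁻¹) ^ (2 ^ (n - 1)) := by
      rw [hw, hu, conj_pow]
    have hwC : w ∈ centralizer ((P : Subgroup G) : Set G) := by
      have h1 := hi ⟨g * x * g⁻¹, hyN⟩ hby
      have h2 : w = ((g * x * g⁻¹) ^ (2 ^ e)) ^ (2 ^ (n - 1 - e)) := by
        rw [hwy, ← pow_mul, ← pow_add, (by omega : e + (n - 1 - e) = n - 1)]
      rw [h2]
      exact Subgroup.pow_mem _ h1 _
    have hw1 : w ≠ 1 := by
      intro h
      apply hu1
      rw [hw] at h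
      have := congrArg (fun z => g⁻¹ * z * g) h
      simpa [mul_assoc] using this
    have hww : w * w = 1 := by
      rw [hw]
      calc g * u * g⁻¹ * (g * u * g⁻¹) = g * (u * u) * g⁻¹ := by group
        _ = 1 := by rw [huu]; group
    have hfix : w • (g • P) = g • P := by
      have huP : u • P = P := Sylow.smul_eq_iff_mem_normalizer.mpr huN
      rw [hw, ← mul_smul]
      have : g * u * g⁻¹ * g = g * u := by group
      rw [this, mul_smul, huP]
    have hgP : g • P = P := eq_of_invol_smul_eq hcard hred P hwC hw1 hww hfix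
    have hgN : g ∈ normalizer ((P : Subgroup G) : Set G) :=
      Sylow.smul_eq_iff_mem_normalizer.mp hgP
    apply hbx
    have h3 : (⟨g * x * g⁻¹, hyN⟩ : ↥(normalizer ((P : Subgroup G) : Set G))) =
        ⟨g, hgN⟩ * ⟨x, hxN⟩ * ⟨g, hgN⟩⁻¹ := rfl
    rw [h3, map_mul, map_mul, map_inv] at hby
    have := congrArg (fun z => (b ⟨g, hgN⟩)⁻¹ * z * b ⟨g, hgN⟩) hby
    simpa [mul_assoc] using this
  obtain ⟨K, hKn, hK2⟩ := exists_index_two_of_hom S _ hSN b hb2 hcon
  have := hred.no_normal K hKn (by rw [hK2]; norm_num)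
  rw [this, Subgroup.index_top] at hK2
  omega

omit [Finite G] in
/-- In a finite cyclic group, a nontrivial subgroup of exponent two has order two. -/
theorem card_range_eq_two {A : Type*} [CommGroup A] [Finite A] [IsCyclic A]
    {H : Type*} [Group H] (f : H →* A) (h2 : ∀ s : H, f s ^ 2 = 1) (hne : ∃ s : H, f s ≠ 1) :
    Nat.card ↥f.range = 2 := by
  classical
  haveI : Fintype A := Fintype.ofFinite A
  have hle : Nat.card ↥f.range ≤ 2 := by
    have h1 : Nat.card ↥f.range = (Finset.univ.filter fun d : A => d ∈ f.range).card := by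
      rw [Nat.card_eq_fintype_card, ← Fintype.card_subtype]
    have h3 := IsCyclic.card_pow_eq_one_le (α := A) (n := 2) (by norm_num)
    rw [h1]
    refine (Finset.card_le_card ?_).trans h3
    intro d hd
    rw [Finset.mem_filter] at hd ⊢
    obtain ⟨s, rfl⟩ := hd.2
    exact ⟨Finset.mem_univ _, h2 s⟩
  have hge : 1 < Nat.card ↥f.range := by
    rw [Subgroup.one_lt_card_iff_ne_bot]
    obtain ⟨s, hs⟩ := hne
    intro hbot
    apply hs
    have : f s ∈ f.range := ⟨s, rfl⟩
    rw [hbot, Subgroup.mem_bot] at this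
    exact this
  omega

/-- Case II: a Sylow 2-subgroup of `N_G(P)` does not centralize `P`. -/
theorem case_two (hcard : Nat.card (Sylow 5 G) = 21) (hred : Reduced 5 G)
    (S : Sylow 2 G) (P : Sylow 5 G)
    (hSN : (S : Subgroup G) ≤ normalizer ((P : Subgroup G) : Set G))
    {A : Type*} [CommGroup A] [Finite A] [IsCyclic A] (hA4 : Nat.card A = 4)
    (a : ↥(normalizer ((P : Subgroup G) : Set G)) →* A)
    (hker : ∀ g : ↥(normalizer ((P : Subgroup G) : Set G)),
      a g = 1 ↔ (g : G) ∈ centralizer ((P : Subgroup G) : Set G))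
    (hx : ∃ x ∈ (S : Subgroup G), x ∉ centralizer ((P : Subgroup G) : Set G)) : False := by
  by_cases h4 : ∃ s : ↥(S : Subgroup G), a (Subgroup.inclusion hSN s) ^ 2 ≠ 1
  · refine thompson_kill hcard hred S P hSN ((powMonoidHom 2).comp a) 1 ?_ ?_ ?_
    · intro y hy
      rw [MonoidHom.comp_apply, powMonoidHom_apply, ← map_pow] at hy
      have := (hker (y ^ 2)).mp hy
      simpa using this
    · intro x hx hx2
      apply hx
      rw [MonoidHom.comp_apply, powMonoidHom_apply, ← map_pow]
      have : x ^ 2 = 1 := by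
        apply Subtype.ext
        simpa using hx2
      rw [this, map_one]
    · apply card_range_eq_two
      · intro s
        rw [MonoidHom.comp_apply, MonoidHom.comp_apply, powMonoidHom_apply, ← pow_mul]
        have := pow_card_eq_one' (G := A) (x := a (Subgroup.inclusion hSN s))
        rwa [hA4] at this
      · obtain ⟨s, hs⟩ := h4
        exact ⟨s, hs⟩
  · push Not at h4
    refine thompson_kill hcard hred S P hSN a 0 ?_ ?_ ?_
    · intro y hy
      simpa using (hker y).mp hy
    · intro x hx hx1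
      apply hx
      have : x = 1 := Subtype.ext (by simpa using hx1)
      rw [this, map_one]
    · apply card_range_eq_two
      · intro s; exact h4 s
      · obtain ⟨x, hxS, hxC⟩ := hx
        refine ⟨⟨x, hxS⟩, ?_⟩
        intro h
        exact hxC ((hker _).mp h)

end cases

section final

variable {G : Type u} [Group G] [Finite G]

/-- Case I: a Sylow 2-subgroup of `G` centralizes `P`. -/
theorem case_one (hcard : Nat.card (Sylow 5 G) = 21) (hred : Reduced 5 G)
    (S : Sylow 2 G) (P : Sylow 5 G)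
    (hSN : (S : Subgroup G) ≤ normalizer ((P : Subgroup G) : Set G))
    {A : Type*} [Group A] [Finite A] (hA4 : Nat.card A = 4)
    (a : ↥(normalizer ((P : Subgroup G) : Set G)) →* A)
    (hker : ∀ g : ↥(normalizer ((P : Subgroup G) : Set G)),
      a g = 1 ↔ (g : G) ∈ centralizer ((P : Subgroup G) : Set G))
    (hSC : (S : Subgroup G) ≤ centralizer ((P : Subgroup G) : Set G)) : False := by
  haveI := fact_prime_five
  haveI : Fact (Nat.Prime 2) := ⟨Nat.prime_two⟩
  haveI : Fact (Nat.Prime 7) := ⟨by norm_num⟩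
  have hP5 := card_sylow_five hcard hred P
  -- `N_G(P) ≤ C_G(P)`
  have hNC : normalizer ((P : Subgroup G) : Set G) ≤ centralizer ((P : Subgroup G) : Set G) := by
    have hkereq : a.ker = (centralizer ((P : Subgroup G) : Set G)).subgroupOf
        (normalizer ((P : Subgroup G) : Set G)) := by
      ext g
      rw [MonoidHom.mem_ker, Subgroup.mem_subgroupOf]
      exact hker g
    have h1 : (centralizer ((P : Subgroup G) : Set G)).relIndex
        (normalizer ((P : Subgroup G) : Set G)) ∣ 4 := by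
      rw [Subgroup.relIndex, ← hkereq, Subgroup.index_ker, ← hA4]
      exact Subgroup.card_subgroup_dvd_card _
    have h2 : ¬ 2 ∣ (centralizer ((P : Subgroup G) : Set G)).relIndex
        (normalizer ((P : Subgroup G) : Set G)) := by
      intro hd
      have h3 := Subgroup.relIndex_mul_relIndex (H := (S : Subgroup G))
        (K := centralizer ((P : Subgroup G) : Set G))
        (L := normalizer ((P : Subgroup G) : Set G)) hSC (Subgroup.centralizer_le_normalizer _)
      have h4 := Subgroup.relIndex_mul_index hSN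
      have : 2 ∣ (S : Subgroup G).index := by
        rw [← h4, ← h3]
        exact Dvd.dvd.mul_right (Dvd.dvd.mul_left hd _) _
      exact S.not_dvd_index this
    have h5 : (centralizer ((P : Subgroup G) : Set G)).relIndex
        (normalizer ((P : Subgroup G) : Set G)) = 1 := by
      have hdiv : (centralizer ((P : Subgroup G) : Set G)).relIndex
          (normalizer ((P : Subgroup G) : Set G)) ∈ Nat.divisors 4 :=
        Nat.mem_divisors.mpr ⟨h1, by norm_num⟩
      have : ∀ d ∈ Nat.divisors 4, ¬ 2 ∣ d → d = 1 := by decide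
      exact this _ hdiv h2
    exact Subgroup.relIndex_eq_one.mp h5
  -- Burnside's normal complement
  have hcompl := MonoidHom.ker_transferSylow_isComplement' P hNC
  obtain ⟨K, hK⟩ : ∃ K : Subgroup G, K = (MonoidHom.transferSylow P hNC).ker := ⟨_, rfl⟩
  haveI hKn : K.Normal := by rw [hK]; exact MonoidHom.normal_ker _
  have hKidx : K.index = 5 := by rw [hK, hcompl.symm.index_eq_card, hP5]
  have hKcard := Subgroup.card_mul_index K
  rw [hKidx] at hKcard
  have hK5 : ¬ 5 ∣ Nat.card ↥K := by
    intro hd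
    have h2 := Subgroup.card_mul_index (P : Subgroup G)
    rw [hP5] at h2
    have h3 : Nat.card ↥K = (P : Subgroup G).index := by omega
    rw [h3] at hd
    exact P.not_dvd_index hd
  have hG21 : Nat.card ↥(normalizer ((P : Subgroup G) : Set G)) * 21 = Nat.card G := by
    rw [← hcard, Sylow.card_eq_index_normalizer P]
    exact Subgroup.card_mul_index _
  have h7G : 7 ∣ Nat.card G := by omega
  -- `5 ∤ n_7`
  have hn7 : ¬ 5 ∣ Nat.card (Sylow 7 G) := by
    have h1 : Nat.card (Sylow 7 ↥K) = Nat.card (Sylow 7 G) :=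
      Cfsg.Agent.Lib.Helper72.card_sylow_of_normal_of_not_dvd_index K (by rw [hKidx]; norm_num)
    obtain ⟨Q⟩ : Nonempty (Sylow 7 ↥K) := inferInstance
    have h2 := Q.card_dvd_index
    have h3 : (Q : Subgroup ↥K).index ∣ Nat.card ↥K := Subgroup.index_dvd_card _
    intro hd
    rw [← h1] at hd
    exact hK5 (hd.trans (h2.trans h3))
  obtain ⟨Q7, hQ7⟩ := P.2.nonempty_fixed_point_of_prime_not_dvd_card (Sylow 7 G) hn7
  have hPN7 : (P : Subgroup G) ≤ normalizer ((Q7 : Subgroup G) : Set G) := by
    intro x hx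
    exact Sylow.smul_eq_iff_mem_normalizer.mp (hQ7 ⟨x, hx⟩)
  have hQ7ne : (Q7 : Subgroup G) ≠ ⊥ := Q7.ne_bot_of_dvd_card h7G
  have h7N : ¬ 7 ∣ Nat.card ↥(normalizer ((P : Subgroup G) : Set G)) := by
    intro hd
    obtain ⟨c, hc⟩ := exists_prime_orderOf_dvd_card' 7 hd
    have hco : orderOf (c : G) = 7 := by rw [Subgroup.orderOf_coe]; exact hc
    exact orderOf_ne_seven hcard hred P (hNC c.2) hco
  have hQ7card : Nat.card ↥(Q7 : Subgroup G) = 7 := by
    obtain ⟨k, hk⟩ := Q7.2.exists_card_eq
    have hdvd : 7 ^ k ∣ Nat.card G := hk ▸ Subgroup.card_subgroup_dvd_card _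
    rw [← hG21] at hdvd
    have hcop : Nat.Coprime (7 ^ k) (Nat.card ↥(normalizer ((P : Subgroup G) : Set G))) :=
      Nat.Coprime.pow_left k ((Nat.Prime.coprime_iff_not_dvd (by norm_num)).mpr h7N)
    have h21 : 7 ^ k ∣ 21 := hcop.dvd_of_dvd_mul_left hdvd
    have hk1 : k ≤ 1 := by
      by_contra hlt
      push Not at hlt
      have : 7 ^ 2 ∣ 21 := (pow_dvd_pow 7 hlt).trans h21
      norm_num at this
    have hk0 : k ≠ 0 := by
      intro h0
      rw [h0, pow_zero] at hk
      exact hQ7ne (Subgroup.eq_bot_of_card_eq _ hk)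
    have : k = 1 := by omega
    rw [hk, this, pow_one]
  -- a generator of `P`
  have hPne : (P : Subgroup G) ≠ ⊥ := by
    intro h
    rw [h, Subgroup.card_bot] at hP5
    omega
  obtain ⟨⟨y, hyP⟩, hy1'⟩ := Subgroup.ne_bot_iff_exists_ne_one.mp hPne
  have hy1 : y ≠ 1 := fun h => hy1' (Subtype.ext h)
  have hz : Subgroup.zpowers y = (P : Subgroup G) :=
    Cfsg.Agent.Lib.Helper17.zpowers_eq_of_mem_of_card_prime (P : Subgroup G) hP5 y hyP hy1
  have hyp : IsPGroup 5 ↥(Subgroup.zpowers y) := by rw [hz]; exact P.2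
  have hmod := Cfsg.Agent.Lib.Helper17.card_modEq_card_inf_centralizer (Q7 : Subgroup G) y
    (hPN7 hyP) hyp
  rw [hQ7card] at hmod
  have hdiv : Nat.card ↥((Q7 : Subgroup G) ⊓ centralizer ({y} : Set G)) ∣ 7 := by
    have := Subgroup.card_dvd_of_le
      (inf_le_left : (Q7 : Subgroup G) ⊓ centralizer ({y} : Set G) ≤ (Q7 : Subgroup G))
    rwa [hQ7card] at this
  rcases (Nat.dvd_prime (by norm_num : Nat.Prime 7)).mp hdiv with h1 | h7
  · rw [h1] at hmod
    exact absurd hmod (by decide)
  · have hle : (Q7 : Subgroup G) ≤ centralizer ({y} : Set G) := by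
      have := Subgroup.eq_of_le_of_card_ge
        (inf_le_left : (Q7 : Subgroup G) ⊓ centralizer ({y} : Set G) ≤ Q7)
        (by rw [h7, hQ7card])
      rw [← this]
      exact inf_le_right
    obtain ⟨c, hc⟩ := exists_prime_orderOf_dvd_card' 7
      (by rw [hQ7card] : 7 ∣ Nat.card ↥(Q7 : Subgroup G))
    have hco : orderOf (c : G) = 7 := by rw [Subgroup.orderOf_coe]; exact hc
    have hcy : (c : G) * y = y * (c : G) := by
      have := Subgroup.mem_centralizer_iff.mp (hle c.2) y (Set.mem_singleton y)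
      exact this.symm
    have hcC : (c : G) ∈ centralizer ((P : Subgroup G) : Set G) := by
      rw [← hz]
      exact mem_centralizer_zpowers hcy
    exact orderOf_ne_seven hcard hred P hcC hco

/-- There is no reduced group with exactly 21 Sylow 5-subgroups. -/
theorem no_reduced (G : Type u) [Group G] [Finite G] (hcard : Nat.card (Sylow 5 G) = 21)
    (hred : Reduced 5 G) : False := by
  haveI := fact_prime_five
  haveI : Fact (Nat.Prime 2) := ⟨Nat.prime_two⟩
  obtain ⟨S⟩ : Nonempty (Sylow 2 G) := inferInstance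
  have hfix := S.2.nonempty_fixed_point_of_prime_not_dvd_card (Sylow 5 G)
    (by rw [hcard]; norm_num)
  obtain ⟨P, hP⟩ := hfix
  have hSN : (S : Subgroup G) ≤ normalizer ((P : Subgroup G) : Set G) := by
    intro x hx
    exact Sylow.smul_eq_iff_mem_normalizer.mp (hP ⟨x, hx⟩)
  have hP5 := card_sylow_five hcard hred P
  haveI hPc : IsCyclic ↥(P : Subgroup G) := isCyclic_of_prime_card hP5
  haveI : Fact (Nat.card ↥(P : Subgroup G)).Prime := ⟨by rw [hP5]; norm_num⟩
  obtain ⟨a, ha⟩ : ∃ a : ↥(normalizer ((P : Subgroup G) : Set G)) →*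
      (ZMod (Nat.card ↥(P : Subgroup G)))ˣ,
      a = (IsCyclic.mulAutMulEquiv ↥(P : Subgroup G)).toMonoidHom.comp
        (P : Subgroup G).normalizerMonoidHom := ⟨_, rfl⟩
  have hker : ∀ g : ↥(normalizer ((P : Subgroup G) : Set G)),
      a g = 1 ↔ (g : G) ∈ centralizer ((P : Subgroup G) : Set G) := by
    intro g
    rw [ha, MonoidHom.comp_apply]
    constructor
    · intro h
      have h1 : (P : Subgroup G).normalizerMonoidHom g = 1 := by
        apply (IsCyclic.mulAutMulEquiv ↥(P : Subgroup G)).injective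
        rw [map_one]
        exact h
      have h2 : g ∈ (P : Subgroup G).normalizerMonoidHom.ker := h1
      rw [Subgroup.normalizerMonoidHom_ker, Subgroup.mem_subgroupOf] at h2
      exact h2
    · intro h
      have h2 : g ∈ (P : Subgroup G).normalizerMonoidHom.ker := by
        rw [Subgroup.normalizerMonoidHom_ker, Subgroup.mem_subgroupOf]
        exact h
      have h1 : (P : Subgroup G).normalizerMonoidHom g = 1 := h2
      show (IsCyclic.mulAutMulEquiv ↥(P : Subgroup G)) _ = 1
      rw [h1, map_one]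
  have hA4 : Nat.card (ZMod (Nat.card ↥(P : Subgroup G)))ˣ = 4 := by
    rw [← Nat.card_congr (IsCyclic.mulAutMulEquiv ↥(P : Subgroup G)).toEquiv,
      IsCyclic.card_mulAut, hP5]
    decide
  by_cases hSC : (S : Subgroup G) ≤ centralizer ((P : Subgroup G) : Set G)
  · exact case_one hcard hred S P hSN hA4 a hker hSC
  · have hx : ∃ x ∈ (S : Subgroup G), x ∉ centralizer ((P : Subgroup G) : Set G) := by
      by_contra h
      push Not at h
      exact hSC h
    exact case_two hcard hred S P hSN hA4 a hker hx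

end final

/-- No finite group has exactly twenty-one Sylow 5-subgroups. -/
theorem result {G : Type*} [Group G] [Finite G] : Nat.card (Sylow 5 G) ≠ 21 := by
  intro hG
  haveI := fact_prime_five
  obtain ⟨H, hHg, hHf, hcard, hred⟩ := exists_reduced 5 21 (Nat.card G) G rfl hG
  exact no_reduced H hcard hred

end Cfsg.Agent.S1010
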