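import Cfsg.Statements.S1011
import Cfsg.Agent.S1230
import Cfsg.Agent.Lib.Helper49.O504C
import Cfsg.Agent.Lib.Helper49.PSLCongr

set_option autoImplicit false
open Cfsg

namespace Cfsg.Agent.S1011

open Cfsg.Agent.Lib.Helper49.O504 Cfsg.Agent.Lib.Helper49.PSLCongr Subgroup

/-- A simple group of order 504 is isomorphic to the projective special linear group of dimension 2 over the field with 8 elements. -/
theorem result {G : Type*} [Group G] [Finite G] [IsSimpleGroup G] (h : Nat.card G = 504) {F : Type*} [Field F] [Fintype F] (hF : Fintype.card F = 8) : Nonempty (G ≃* Matrix.ProjectiveSpecialLinearGroup (Fin 2) F) := by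
  have := fact_two
  obtain ⟨T⟩ : Nonempty (Sylow 2 G) := inferInstance
  have hT8 := card_sylow2 h T
  have hC := centralizer_invol h
  -- the Sylow 2-subgroup is not cyclic
  have hnc : ¬ IsCyclic ↥(T : Subgroup G) := by
    intro hcyc
    obtain ⟨c, hc⟩ := hcyc.exists_generator
    have hco : orderOf c = 8 := by rw [orderOf_eq_card_of_forall_mem_zpowers hc, hT8]
    have hco' : orderOf (c : G) = 8 := by rw [Subgroup.orderOf_coe, hco]
    have hto : orderOf ((c : G) ^ 4) = 2 := by
      rw [orderOf_pow_of_dvd (by norm_num) (by rw [hco']; norm_num), hco']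
    have hmem : (c : G) ∈ centralizer ({(c : G) ^ 4} : Set G) := by
      rw [mem_centralizer_iff]
      intro y hy
      rw [Set.mem_singleton_iff] at hy
      subst hy
      rw [← pow_succ, ← pow_succ']
    have h2 := (hC _ hto).2 _ hmem
    have := orderOf_dvd_iff_pow_eq_one.mpr h2
    rw [hco'] at this
    omega
  -- nor normal
  have hnn : ¬ (T : Subgroup G).Normal := by
    intro hn
    rcases hn.eq_bot_or_eq_top with h1 | h1
    · rw [h1, Subgroup.card_bot] at hT8
      omega
    · rw [h1, Subgroup.card_top, h] at hT8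
      omega
  obtain ⟨F₀, _, _, hcard, ⟨e⟩⟩ := Cfsg.Agent.S1230.result T hnc hnn hC
  have hcard' : Fintype.card F₀ = Fintype.card F := by rw [hcard, hF]; exact hT8
  exact ⟨e.trans (pslCongr (FiniteField.ringEquivOfCardEq hcard'))⟩

end Cfsg.Agent.S1011
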