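import Cfsg.Statements.S1013
import Cfsg.Agent.Lib.Helper17.SylowTools

set_option autoImplicit false
open Cfsg

namespace Cfsg.Agent.S1013

open Cfsg.Agent.Lib.Helper17 Subgroup MulAction

/-- A transitive action on a set of size `n` forces `n ∣ |H|`. -/
theorem card_dvd_of_pretransitive {α H : Type*} [Group H] [Finite H] [MulAction H α]
    [IsPretransitive H α] [Nonempty α] : Nat.card α ∣ Nat.card H := by
  obtain ⟨a⟩ : Nonempty α := inferInstance
  rw [← MulAction.index_stabilizer_of_transitive H a]
  exact Subgroup.index_dvd_card _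

/-- `p^2` does not divide the order of a permutation group of degree `p`. -/
theorem card_eq_p_mul {α : Type*} [Fintype α] [DecidableEq α] {p : ℕ} (hp : p.Prime)
    (hα : Fintype.card α = p) (K : Subgroup (Equiv.Perm α)) (hpK : p ∣ Nat.card ↥K) :
    ∃ m, Nat.card ↥K = p ^ 1 * m ∧ ¬ p ∣ m := by
  obtain ⟨m, hm⟩ := hpK
  refine ⟨m, by rw [hm, pow_one], fun hpm => ?_⟩
  have h1 : Nat.card ↥K ∣ p.factorial := by
    have := Subgroup.card_subgroup_dvd_card K
    rwa [Nat.card_perm, Nat.card_eq_fintype_card (α := α), hα] at this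
  obtain ⟨m', rfl⟩ := hpm
  rw [hm] at h1
  have h2 : p * p ∣ p.factorial := dvd_trans ⟨m', by ring⟩ h1
  have h3 : p.factorial = p * (p - 1).factorial := by
    have : p = (p - 1) + 1 := by have := hp.pos; omega
    conv_lhs => rw [this]
    rw [Nat.factorial_succ]
    congr 1
    omega
  rw [h3] at h2
  have h4 : p ∣ (p - 1).factorial := Nat.dvd_of_mul_dvd_mul_left hp.pos h2
  have := (hp.dvd_factorial).mp h4
  have := hp.pos
  omega

/-- A normal subgroup of a faithful transitive group of prime degree whose order is prime to `p`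
is trivial. -/
theorem eq_bot_of_normal_of_not_dvd {α H : Type*} [Fintype α] {p : ℕ} (hp : p.Prime)
    (hα : Fintype.card α = p) [Group H] [Finite H] [MulAction H α] [FaithfulSMul H α]
    [IsPretransitive H α]
    (M : Subgroup H) [M.Normal] (hM : ¬ p ∣ Nat.card ↥M) : M = ⊥ := by
  haveI : IsPreprimitive H α :=
    IsPreprimitive.of_prime_card (by rw [Nat.card_eq_fintype_card, hα]; exact hp)
  by_contra hne
  have hfix : fixedPoints ↥M α ≠ Set.univ := by
    intro h
    apply hne
    rw [eq_bot_iff]
    intro g hg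
    rw [Subgroup.mem_bot]
    apply FaithfulSMul.eq_of_smul_eq_smul (α := α)
    intro a
    have : a ∈ fixedPoints ↥M α := h ▸ Set.mem_univ a
    rw [one_smul]
    exact this ⟨g, hg⟩
  haveI : IsPretransitive ↥M α := IsQuasiPreprimitive.isPretransitive_of_normal hfix
  haveI : Nonempty α := by
    rw [← Fintype.card_pos_iff, hα]; exact hp.pos
  have := card_dvd_of_pretransitive (α := α) (H := ↥M)
  rw [Nat.card_eq_fintype_card, hα] at this
  exact hM this

/-- A nontrivial normal subgroup of a faithful transitive group of prime degree is transitive,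
so its order is divisible by `p`. -/
theorem dvd_card_of_normal_ne_bot {α H : Type*} [Fintype α] {p : ℕ} (hp : p.Prime)
    (hα : Fintype.card α = p) [Group H] [Finite H] [MulAction H α] [FaithfulSMul H α]
    [IsPretransitive H α]
    (M : Subgroup H) [M.Normal] (hM : M ≠ ⊥) : p ∣ Nat.card ↥M ∧ IsPretransitive ↥M α := by
  constructor
  · by_contra h
    exact hM (eq_bot_of_normal_of_not_dvd hp hα M h)
  · haveI : IsPreprimitive H α :=
      IsPreprimitive.of_prime_card (by rw [Nat.card_eq_fintype_card, hα]; exact hp)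
    apply IsQuasiPreprimitive.isPretransitive_of_normal
    intro h
    apply hM
    rw [eq_bot_iff]
    intro g hg
    rw [Subgroup.mem_bot]
    apply FaithfulSMul.eq_of_smul_eq_smul (α := α)
    intro a
    have : a ∈ fixedPoints ↥M α := h ▸ Set.mem_univ a
    rw [one_smul]
    exact this ⟨g, hg⟩

/-- Let G be a transitive permutation group of prime degree p having more than one Sylow p-subgroup, and suppose a Sylow p-subgroup P has prime index in its normalizer. Then G is simple. -/
theorem result {α : Type*} [Fintype α] [DecidableEq α] {p : ℕ} [Fact p.Prime] (hα : Fintype.card α = p) (G : Subgroup (Equiv.Perm α)) [MulAction.IsPretransitive ↥G α] (P : Sylow p ↥G) (hn : 1 < Nat.card (Sylow p ↥G)) (ht : (((P : Subgroup ↥G).subgroupOf (Subgroup.normalizer ((P : Subgroup ↥G) : Set ↥G))).index).Prime) : IsSimpleGroup ↥G := by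
  have hp : p.Prime := Fact.out
  haveI : Nonempty α := by
    rw [← Fintype.card_pos_iff, hα]; exact hp.pos
  haveI hfaith : FaithfulSMul ↥G α := ⟨fun {g h} hgh => by
    ext a; exact hgh a⟩
  -- the order of G and of P
  have hpG : p ∣ Nat.card ↥G := by
    have := card_dvd_of_pretransitive (α := α) (H := ↥G)
    rwa [Nat.card_eq_fintype_card, hα] at this
  obtain ⟨m, hm, hpm⟩ := card_eq_p_mul hp hα G hpG
  have hPcard : Nat.card ↥(P : Subgroup ↥G) = p := by
    simpa using card_sylow_of_card_eq P hm hpm
  have hPcomm : ∀ a ∈ (P : Subgroup ↥G), ∀ b ∈ (P : Subgroup ↥G), a * b = b * a := by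
    intro a ha b hb
    have hcyc : IsCyclic ↥(P : Subgroup ↥G) := isCyclic_of_prime_card hPcard
    have := hcyc.isMulCommutative.is_comm.comm ⟨a, ha⟩ ⟨b, hb⟩
    exact congrArg Subtype.val this
  have hnt : Nontrivial ↥G := by
    by_contra h
    rw [not_nontrivial_iff_subsingleton] at h
    haveI : Subsingleton (Sylow p ↥G) := ⟨fun A B => Sylow.ext (Subsingleton.elim _ _)⟩
    have : Nat.card (Sylow p ↥G) ≤ 1 := Finite.card_le_one_iff_subsingleton.mpr inferInstance
    omega
  refine { exists_pair_ne := hnt.exists_pair_ne, eq_bot_or_eq_top_of_normal := fun K hK => ?_ }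
  by_contra hcon
  push Not at hcon
  obtain ⟨hKbot, hKtop⟩ := hcon
  haveI := hK
  obtain ⟨hpK, hKtrans⟩ := dvd_card_of_normal_ne_bot hp hα K hKbot
  -- P ≤ K
  have hPK : (P : Subgroup ↥G) ≤ K := by
    obtain ⟨P'⟩ : Nonempty (Sylow p ↥K) := inferInstance
    have hP'ne : (P' : Subgroup ↥K) ≠ ⊥ := P'.ne_bot_of_dvd_card hpK
    obtain ⟨Q, hQ⟩ := (P'.2.map K.subtype).exists_le_sylow
    obtain ⟨g, hg⟩ := MulAction.exists_smul_eq ↥G Q P
    have hQcard : Nat.card ↥(Q : Subgroup ↥G) = p := by
      simpa using card_sylow_of_card_eq Q hm hpm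
    have hmapcard : Nat.card ↥((P' : Subgroup ↥K).map K.subtype) = Nat.card ↥(P' : Subgroup ↥K) :=
      (Nat.card_congr (Subgroup.equivMapOfInjective _ _ K.subtype_injective).toEquiv).symm
    have hP'card : Nat.card ↥(P' : Subgroup ↥K) = p := by
      have h1 : Nat.card ↥(P' : Subgroup ↥K) ∣ p := by
        have h0 := Subgroup.card_dvd_of_le hQ
        rw [hmapcard, hQcard] at h0
        exact h0
      rcases (Nat.dvd_prime hp).mp h1 with h | h
      · exact absurd (Subgroup.card_eq_one.mp h) hP'ne
      · exact h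
    have hQeq : (P' : Subgroup ↥K).map K.subtype = (Q : Subgroup ↥G) :=
      Subgroup.eq_of_le_of_card_ge hQ (by rw [hmapcard, hP'card, hQcard])
    have hQK : (Q : Subgroup ↥G) ≤ K := by
      rw [← hQeq]; exact Subgroup.map_subtype_le _
    rw [← hg]
    intro x hx
    rw [Sylow.smul_def, Sylow.pointwise_smul_def, Subgroup.mem_pointwise_smul_iff_inv_smul_mem] at hx
    have h2 := hQK hx
    have h3 := hK.conj_mem _ h2 g
    simpa [MulAut.smul_def, mul_assoc] using h3
  -- Frattini
  set N := Subgroup.normalizer ((P : Subgroup ↥G) : Set ↥G) with hN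
  have hfr : N ⊔ K = ⊤ := by
    have := Sylow.normalizer_sup_eq_top (P.subtype hPK)
    have hmap : (((P.subtype hPK : Sylow p ↥K) : Subgroup ↥K).map K.subtype) = (P : Subgroup ↥G) := by
      rw [Sylow.coe_subtype, Subgroup.subgroupOf_map_subtype, inf_of_le_left hPK]
    rw [hmap] at this
    exact this
  have hPN : (P : Subgroup ↥G) ≤ N := le_normalizer
  have hrel : (P : Subgroup ↥G).relIndex N = ((P : Subgroup ↥G).subgroupOf N).index := rfl
  have hmul : (P : Subgroup ↥G).relIndex (K ⊓ N) * (K ⊓ N).relIndex N = (P : Subgroup ↥G).relIndex N :=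
    Subgroup.relIndex_mul_relIndex _ _ _ (le_inf hPK hPN) inf_le_right
  rw [hrel] at hmul
  have hdv : (K ⊓ N).relIndex N ∣ ((P : Subgroup ↥G).subgroupOf N).index := Dvd.intro_left _ hmul
  rcases (Nat.dvd_prime ht).mp hdv with h1 | h1
  · -- N ≤ K
    have hNK : N ≤ K := by
      have := Subgroup.relIndex_eq_one.mp h1
      exact le_trans this inf_le_left
    apply hKtop
    rw [← hfr]
    exact (sup_eq_right.mpr hNK).symm
  · -- K ⊓ N = P
    rw [h1] at hmul
    have h2 : (P : Subgroup ↥G).relIndex (K ⊓ N) = 1 := by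
      have hpos : 0 < ((P : Subgroup ↥G).subgroupOf N).index := ht.pos
      exact Nat.eq_of_mul_eq_mul_right hpos (by rw [hmul, one_mul])
    have hKN : K ⊓ N = (P : Subgroup ↥G) :=
      le_antisymm (Subgroup.relIndex_eq_one.mp h2) (le_inf hPK hPN)
    -- inside K
    set PK : Sylow p ↥K := P.subtype hPK with hPKdef
    have hnormK : Subgroup.normalizer ((PK : Subgroup ↥K) : Set ↥K) = (PK : Subgroup ↥K) := by
      rw [hPKdef, Sylow.coe_subtype, ← Subgroup.subgroupOf_normalizer_eq hPK,
        ← Subgroup.inf_subgroupOf_right, inf_comm, hKN]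
    have hNC : Subgroup.normalizer ((PK : Subgroup ↥K) : Set ↥K) ≤
        Subgroup.centralizer ((PK : Subgroup ↥K) : Set ↥K) := by
      rw [hnormK]
      intro a ha
      rw [Subgroup.mem_centralizer_iff]
      intro b hb
      rw [hPKdef, Sylow.coe_subtype, SetLike.mem_coe, Subgroup.mem_subgroupOf] at hb
      rw [hPKdef, Sylow.coe_subtype, Subgroup.mem_subgroupOf] at ha
      apply Subtype.ext
      exact hPcomm _ hb _ ha
    set M := (MonoidHom.transferSylow PK hNC).ker with hM
    have hcompl : IsComplement' M (PK : Subgroup ↥K) :=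
      MonoidHom.ker_transferSylow_isComplement' PK hNC
    have hMnd : ¬ p ∣ Nat.card ↥M := MonoidHom.not_dvd_card_ker_transferSylow PK hNC
    haveI : FaithfulSMul ↥K α := ⟨fun {g h} hgh => by
      apply Subtype.ext
      apply hfaith.eq_of_smul_eq_smul
      intro a
      exact hgh a⟩
    haveI := hKtrans
    have hMbot : M = ⊥ := eq_bot_of_normal_of_not_dvd hp hα M hMnd
    rw [hMbot] at hcompl
    have hPKtop : (PK : Subgroup ↥K) = ⊤ := isComplement'_bot_left.mp hcompl
    have hKP : K = (P : Subgroup ↥G) := by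
      apply le_antisymm _ hPK
      intro x hx
      have : (⟨x, hx⟩ : ↥K) ∈ (PK : Subgroup ↥K) := hPKtop ▸ Subgroup.mem_top _
      rw [hPKdef, Sylow.coe_subtype, Subgroup.mem_subgroupOf] at this
      exact this
    have hPnormal : (P : Subgroup ↥G).Normal := hKP ▸ hK
    have := Sylow.unique_of_normal P hPnormal
    have : Nat.card (Sylow p ↥G) = 1 := Nat.card_unique
    omega

end Cfsg.Agent.S1013
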