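import Cfsg.Statements.S1014
import Cfsg.Agent.Lib.Helper17.PermNormalizer

set_option autoImplicit false
open Cfsg

namespace Cfsg.Agent.S1014

open Cfsg.Agent.Lib.Helper17 Subgroup

/-- No finite simple group has order 1104 = 2^4 * 3 * 23. -/
theorem result {G : Type*} [Group G] [Finite G] [IsSimpleGroup G] : Nat.card G ≠ 1104 := by
  intro hG
  haveI : Fact (Nat.Prime 23) := ⟨by norm_num⟩
  have hnc : ¬ IsMulCommutative G := not_comm_of_simple_of_not_prime (by rw [hG]; norm_num)
  obtain ⟨P⟩ : Nonempty (Sylow 23 G) := inferInstance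
  have hG' : Nat.card G = 23 ^ 1 * 48 := by rw [hG]; norm_num
  have hP : Nat.card ↥(P : Subgroup G) = 23 := by
    simpa using card_sylow_of_card_eq P hG' (by norm_num)
  have hdvd : Nat.card (Sylow 23 G) ∣ 48 := card_sylow_dvd_of_card_eq hG' (by norm_num)
  have hmod : Nat.card (Sylow 23 G) % 23 = 1 := card_sylow_modEq_one 23 G
  have hcases : ∀ d ∈ Nat.divisors 48, d % 23 = 1 → d = 1 ∨ d = 24 := by decide
  have hne1 : (P : Subgroup G) ≠ ⊥ := by
    intro h; rw [h, Subgroup.card_bot] at hP; omega
  have hne2 : (P : Subgroup G) ≠ ⊤ := by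
    intro h; rw [h, Subgroup.card_top] at hP; omega
  have hlt := one_lt_card_sylow_of_simple P hne1 hne2
  rcases hcases _ (Nat.mem_divisors.mpr ⟨hdvd, by norm_num⟩) hmod with h | h
  · omega
  · have hN : Nat.card ↥(normalizer ((P : Subgroup G) : Set G)) = 46 := by
      have := card_normalizer_mul_card_sylow P
      rw [h, hG] at this
      omega
    have hidx : (normalizer ((P : Subgroup G) : Set G)).index = 23 + 1 := by
      have h0 := P.card_eq_index_normalizer
      rw [h] at h0
      exact h0.symm
    have := two_mul_card_normalizer_dvd_of_index hnc 23 (by norm_num)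
      (normalizer ((P : Subgroup G) : Set G)) (Or.inr hidx) P hP
    rw [hN] at this
    revert this; decide

end Cfsg.Agent.S1014
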