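import Cfsg.Statements.S1015
import Cfsg.Agent.Lib.Helper17.SylowInter
import Cfsg.Agent.S0985

set_option autoImplicit false
open Cfsg

namespace Cfsg.Agent.S1015

open Cfsg.Agent.Lib.Helper17 Subgroup

/-- No finite simple group has order 1200 = 2^4 * 3 * 5^2. -/
theorem result {G : Type*} [Group G] [Finite G] [IsSimpleGroup G] : Nat.card G ≠ 1200 := by
  intro hG
  haveI : Fact (Nat.Prime 5) := ⟨by norm_num⟩
  have hG' : Nat.card G = 5 ^ 2 * 48 := by rw [hG]; norm_num
  have hcardP : ∀ P : Sylow 5 G, Nat.card ↥(P : Subgroup G) = 25 := by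
    intro P
    have := card_sylow_of_card_eq P hG' (by norm_num)
    simpa using this
  have hdvd : Nat.card (Sylow 5 G) ∣ 48 := card_sylow_dvd_of_card_eq hG' (by norm_num)
  have hmod : Nat.card (Sylow 5 G) % 5 = 1 := card_sylow_modEq_one 5 G
  have hcases : ∀ d ∈ Nat.divisors 48, d % 5 = 1 → d = 1 ∨ d = 6 ∨ d = 16 := by decide
  obtain ⟨P₀⟩ : Nonempty (Sylow 5 G) := inferInstance
  have hne1 : (P₀ : Subgroup G) ≠ ⊥ := by
    intro h; have := hcardP P₀; rw [h, Subgroup.card_bot] at this; omega
  have hne2 : (P₀ : Subgroup G) ≠ ⊤ := by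
    intro h; have := hcardP P₀; rw [h, Subgroup.card_top] at this; omega
  have hlt := one_lt_card_sylow_of_simple P₀ hne1 hne2
  rcases hcases _ (Nat.mem_divisors.mpr ⟨hdvd, by norm_num⟩) hmod with h | h | h
  · omega
  · have := card_dvd_factorial_card_sylow (G := G) (p := 5) hlt
    rw [h, hG] at this
    revert this; decide
  · -- n_5 = 16 is not 1 mod 25
    have hnot : ¬ Nat.card (Sylow 5 G) ≡ 1 [MOD 5 ^ 2] := by
      rw [h]; decide
    obtain ⟨P, R, hPR, hidx⟩ := Cfsg.Agent.S0985.result 5 2 hnot
    set D : Subgroup G := (P : Subgroup G) ⊓ (R : Subgroup G) with hD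
    -- |D| ≥ 5
    have hDcard : 5 ≤ Nat.card ↥D := by
      have h1 : Nat.card ↥((R : Subgroup G).subgroupOf (P : Subgroup G)) *
          ((R : Subgroup G).subgroupOf (P : Subgroup G)).index = Nat.card ↥(P : Subgroup G) :=
        Subgroup.card_mul_index _
      have h2 : Nat.card ↥((R : Subgroup G).subgroupOf (P : Subgroup G)) = Nat.card ↥D := by
        rw [hD, inf_comm, ← Subgroup.subgroupOf_map_subtype]
        exact Nat.card_congr (Subgroup.equivMapOfInjective _ _ (Subgroup.subtype_injective _)).toEquiv
      rw [h2, hcardP P] at h1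
      simp only [Nat.add_one_sub_one, pow_one] at hidx
      nlinarith
    have hPcomm : ∀ S : Sylow 5 G, ∀ a ∈ (S : Subgroup G), ∀ b ∈ (S : Subgroup G), a * b = b * a := by
      intro S a ha b hb
      have h25 : Nat.card ↥(S : Subgroup G) = 5 ^ 2 := by rw [hcardP S]; norm_num
      have := (IsPGroup.isMulCommutative_of_card_eq_prime_sq h25).is_comm.comm ⟨a, ha⟩ ⟨b, hb⟩
      exact congrArg Subtype.val this
    set N := normalizer (D : Set G) with hN
    have hPN : (P : Subgroup G) ≤ N := le_normalizer_of_abelian _ D inf_le_left (hPcomm P)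
    have hRN : (R : Subgroup G) ≤ N := le_normalizer_of_abelian _ D inf_le_right (hPcomm R)
    have hNcard := card_ge_of_two_sylow_le P R hPR N hPN hRN
    rw [hcardP P] at hNcard
    have hidxN : Nat.card ↥N * N.index = 1200 := by rw [← hG]; exact Subgroup.card_mul_index N
    have hidx8 : N.index ≤ 8 := by
      by_contra hc
      push Not at hc
      nlinarith
    by_cases htop : N = ⊤
    · -- D is normal
      have hDn : D.Normal := normalizer_eq_top_iff.mp htop
      rcases hDn.eq_bot_or_eq_top with hb | ht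
      · rw [hb, Subgroup.card_bot] at hDcard; omega
      · have : (P : Subgroup G) = ⊤ := top_le_iff.mp (ht ▸ inf_le_left)
        have h3 := hcardP P
        rw [this, Subgroup.card_top] at h3
        omega
    · have h4 := card_dvd_factorial_of_simple N htop
      have h5 : (N.index).factorial ∣ (8).factorial := Nat.factorial_dvd_factorial hidx8
      have h6 := dvd_trans h4 h5
      rw [hG] at h6
      revert h6; decide

end Cfsg.Agent.S1015
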