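import Cfsg.Statements.S1016
import Cfsg.Agent.Lib.Helper17.InvolTools
import Cfsg.Agent.Lib.Helper17.NormCent
import Cfsg.Agent.Lib.Helper17.SylowConj

set_option autoImplicit false
open Cfsg

namespace Cfsg.Agent.S1016

open Cfsg.Agent.Lib.Helper17 Subgroup MulAction

/-- Arithmetic for the order 1440 argument, case `|C(P)| = 20`. -/
theorem numB (a m c k : ℕ) (hkc : k * c * 36 = 16 * 1440) (hm1 : 20 ∣ m) (hm2 : m ∣ 40)
    (hac : m * a = c) (ha : a % 5 = 1) (hc : c ∣ 1440) : a = 1 := by
  obtain ⟨q, rfl⟩ := hm1
  have hq : q = 1 ∨ q = 2 := by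
    have h1 : 20 * q ≤ 40 := Nat.le_of_dvd (by norm_num) hm2
    have h2 : q ≠ 0 := by
      rintro rfl
      simp at hm2
    omega
  have hkc' : k * c = 640 := by omega
  have hkpos : 0 < k := by
    rcases Nat.eq_zero_or_pos k with hk | hk
    · rw [hk] at hkc'; omega
    · exact hk
  have hc640 : c ≤ 640 := by nlinarith
  obtain ⟨r, hr⟩ := hc
  rcases hq with rfl | rfl
  · norm_num at hac
    have ha32 : a ≤ 32 := by omega
    subst hac
    interval_cases a <;> omega
  · norm_num at hac
    have ha16 : a ≤ 16 := by omega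
    subst hac
    interval_cases a <;> omega

/-- Arithmetic for the order 1440 argument, case `|C(P)| = 10`. -/
theorem numA (a c k : ℕ) (hkc : k * c * 36 = 16 * 1440) (hac : 40 * a = c) (ha : a % 5 = 1)
    (hc : c ∣ 1440) : k = 16 := by
  have hkc' : k * c = 640 := by omega
  have hkpos : 0 < k := by
    rcases Nat.eq_zero_or_pos k with hk | hk
    · rw [hk] at hkc'; omega
    · exact hk
  have hc640 : c ≤ 640 := by nlinarith
  obtain ⟨r, hr⟩ := hc
  have ha16 : a ≤ 16 := by omega
  subst hac
  interval_cases a <;> omega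

/-- The case of 16 Sylow 5-subgroups. -/
theorem case16 {G : Type*} [Group G] [Finite G] [IsSimpleGroup G] (hG : Nat.card G = 1440)
    (h : Nat.card (Sylow 5 G) = 16) : False := by
  haveI : Fact (Nat.Prime 5) := ⟨by norm_num⟩
  haveI : Fact (Nat.Prime 3) := ⟨by norm_num⟩
  have hG' : Nat.card G = 5 ^ 1 * 288 := by rw [hG]; norm_num
  have hPcard : ∀ P : Sylow 5 G, Nat.card ↥(P : Subgroup G) = 5 := fun P => by
    simpa using card_sylow_of_card_eq P hG' (by norm_num)
  obtain ⟨P⟩ : Nonempty (Sylow 5 G) := inferInstance
  have hP := hPcard P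
  have hN : Nat.card ↥(normalizer ((P : Subgroup G) : Set G)) = 90 := by
    have := card_normalizer_mul_card_sylow P
    rw [h, hG] at this
    omega
  have h1 := relIndex_centralizer_normalizer_dvd_pred (p := 5) (by norm_num) (P : Subgroup G) hP
  have h2 := card_inf_mul_relIndex (centralizer ((P : Subgroup G) : Set G))
    (normalizer ((P : Subgroup G) : Set G))
  rw [inf_eq_left.mpr (centralizer_le_normalizer _), hN] at h2
  -- 9 divides |C|
  obtain ⟨m, hm, hm3⟩ : ∃ m, Nat.card ↥(centralizer ((P : Subgroup G) : Set G)) = 3 ^ 2 * m ∧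
      ¬ 3 ∣ m := by
    have h5 : (centralizer ((P : Subgroup G) : Set G)).relIndex
        (normalizer ((P : Subgroup G) : Set G)) ≤ 4 := Nat.le_of_dvd (by norm_num) h1
    generalize (centralizer ((P : Subgroup G) : Set G)).relIndex
        (normalizer ((P : Subgroup G) : Set G)) = r at *
    generalize Nat.card ↥(centralizer ((P : Subgroup G) : Set G)) = c at *
    interval_cases r
    · omega
    · exact ⟨10, by omega, by norm_num⟩
    · exact ⟨5, by omega, by norm_num⟩
    · omega
    · omega
  obtain ⟨S⟩ : Nonempty (Sylow 3 ↥(centralizer ((P : Subgroup G) : Set G))) := inferInstance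
  set Q : Subgroup G := (S : Subgroup ↥(centralizer ((P : Subgroup G) : Set G))).map
    (centralizer ((P : Subgroup G) : Set G)).subtype with hQdef
  have hQcard : Nat.card ↥Q = 9 := by
    rw [hQdef, card_map_subtype]
    have := card_sylow_of_card_eq S hm hm3
    simpa using this
  have hQC : Q ≤ centralizer ((P : Subgroup G) : Set G) := by
    rw [hQdef]
    exact Subgroup.map_subtype_le _
  have hQ3 : IsPGroup 3 Q := IsPGroup.of_card (n := 2) (by rw [hQcard]; norm_num)
  have hfix1 : ∀ y ∈ Q, y ≠ 1 → ∀ R : Sylow 5 G, y • R = R → R = P := by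
    intro y hyQ hy1 R hR
    have hcomm : ∀ a ∈ (P : Subgroup G), a * y = y * a := mem_centralizer_iff.mp (hQC hyQ)
    have hF1 := card_fixedBy_sylow_modEq_one P y hcomm
    have h3grp : IsPGroup 3 (zpowers y) := hQ3.to_le ((zpowers_le).mpr hyQ)
    have hF2 := card_modEq_card_fixedPoints_subgroup (X := Sylow 5 G) (zpowers y) h3grp
    rw [fixedPoints_zpowers_eq, h] at hF2
    have hF3 := card_fixedBy_lt_of_simple (X := Sylow 5 G) (by rw [h]; norm_num) y hy1
    rw [h] at hF3
    have hcard1 : Nat.card (fixedBy (Sylow 5 G) y) = 1 := by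
      rw [Nat.ModEq] at hF1 hF2
      omega
    have hPm : P ∈ fixedBy (Sylow 5 G) y :=
      (mem_fixedBy_sylow_iff y P).mpr (centralizer_le_normalizer _ (hQC hyQ))
    have hRm : R ∈ fixedBy (Sylow 5 G) y := hR
    haveI : Subsingleton (fixedBy (Sylow 5 G) y) := (Nat.card_eq_one_iff_unique.mp hcard1).1
    exact congrArg Subtype.val (Subsingleton.elim (⟨R, hRm⟩ : fixedBy (Sylow 5 G) y) ⟨P, hPm⟩)
  have := card_modEq_one_of_free (X := Sylow 5 G) Q P
    (fun q hq => (Sylow.smul_eq_iff_mem_normalizer).mpr
      (centralizer_le_normalizer _ (hQC hq))) hfix1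
  rw [h, hQcard] at this
  revert this
  decide

/-- The case of 36 Sylow 5-subgroups. -/
theorem case36 {G : Type*} [Group G] [Finite G] [IsSimpleGroup G] (hG : Nat.card G = 1440)
    (h : Nat.card (Sylow 5 G) = 36) : False := by
  haveI : Fact (Nat.Prime 5) := ⟨by norm_num⟩
  haveI : Fact (Nat.Prime 2) := ⟨Nat.prime_two⟩
  have hnc : ¬ IsMulCommutative G := not_comm_of_simple_of_not_prime (by rw [hG]; norm_num)
  have hG' : Nat.card G = 5 ^ 1 * 288 := by rw [hG]; norm_num
  have hPcard : ∀ P : Sylow 5 G, Nat.card ↥(P : Subgroup G) = 5 := fun P => by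
    simpa using card_sylow_of_card_eq P hG' (by norm_num)
  obtain ⟨P⟩ : Nonempty (Sylow 5 G) := inferInstance
  have hP := hPcard P
  have hN : ∀ R : Sylow 5 G, Nat.card ↥(normalizer ((R : Subgroup G) : Set G)) = 40 := by
    intro R
    have := card_normalizer_mul_card_sylow R
    rw [h, hG] at this
    omega
  have hRne : ∀ R : Sylow 5 G, (R : Subgroup G) ≠ ⊥ ∧ (R : Subgroup G) ≠ ⊤ := by
    intro R
    have hR := hPcard R
    constructor
    · intro h; rw [h, Subgroup.card_bot] at hR; omega
    · intro h; rw [h, Subgroup.card_top] at hR; omega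
  have hrel : ∀ R : Sylow 5 G, Nat.card ↥(centralizer ((R : Subgroup G) : Set G)) *
      (centralizer ((R : Subgroup G) : Set G)).relIndex
        (normalizer ((R : Subgroup G) : Set G)) = 40 := by
    intro R
    have h2 := card_inf_mul_relIndex (centralizer ((R : Subgroup G) : Set G))
      (normalizer ((R : Subgroup G) : Set G))
    rwa [inf_eq_left.mpr (centralizer_le_normalizer _), hN R] at h2
  have hCeq : ∀ R : Sylow 5 G, Nat.card ↥(centralizer ((R : Subgroup G) : Set G)) =
      Nat.card ↥(centralizer ((P : Subgroup G) : Set G)) := fun R => card_centralizer_sylow_eq P R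
  have hCcases : Nat.card ↥(centralizer ((P : Subgroup G) : Set G)) = 20 ∨
      Nat.card ↥(centralizer ((P : Subgroup G) : Set G)) = 10 := by
    have h1 := relIndex_centralizer_normalizer_dvd_pred (p := 5) (by norm_num) (P : Subgroup G) hP
    have h2 := hrel P
    have h3 : (centralizer ((P : Subgroup G) : Set G)).relIndex
        (normalizer ((P : Subgroup G) : Set G)) ≠ 1 := by
      intro h4
      exact not_normalizer_le_centralizer_of_simple P (hRne P).1 (hRne P).2
        (relIndex_eq_one.mp h4)
    have h5 : (centralizer ((P : Subgroup G) : Set G)).relIndex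
        (normalizer ((P : Subgroup G) : Set G)) ≤ 4 := Nat.le_of_dvd (by norm_num) h1
    generalize (centralizer ((P : Subgroup G) : Set G)).relIndex
        (normalizer ((P : Subgroup G) : Set G)) = r at *
    generalize Nat.card ↥(centralizer ((P : Subgroup G) : Set G)) = c at *
    interval_cases r <;> omega
  have hPcomm : ∀ a ∈ (P : Subgroup G), ∀ b ∈ (P : Subgroup G), a * b = b * a := by
    intro a ha b hb
    have hcyc : IsCyclic ↥(P : Subgroup G) := isCyclic_of_prime_card hP
    exact congrArg Subtype.val (hcyc.isMulCommutative.is_comm.comm ⟨a, ha⟩ ⟨b, hb⟩)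
  have hPC : (P : Subgroup G) ≤ centralizer ((P : Subgroup G) : Set G) := by
    intro a ha
    rw [mem_centralizer_iff]
    intro b hb
    exact hPcomm b hb a ha
  -- common facts about involutions of C(P)
  have common : ∀ t : G, t ∈ centralizer ((P : Subgroup G) : Set G) → t * t = 1 → t ≠ 1 →
      Nat.card (fixedBy (Sylow 5 G) t) = 16 ∧
      Nat.card {s : G // IsConj t s ∧ s ∈ normalizer ((P : Subgroup G) : Set G)} *
        Nat.card ↥(centralizer ({t} : Set G)) * 36 = 16 * 1440 := by
    intro t htC ht ht1
    have hcomm : ∀ a ∈ (P : Subgroup G), a * t = t * a := fun a ha =>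
      mem_centralizer_iff.mp htC a ha
    obtain ⟨hf1, hf2, hf3, hf4⟩ := involution_sylow_count hnc P (by omega) t ht ht1 hcomm
    rw [h] at hf2 hf3 hf4
    rw [hG] at hf4
    have hf : Nat.card (fixedBy (Sylow 5 G) t) = 16 := by omega
    refine ⟨hf, ?_⟩
    rw [hf] at hf4
    exact hf4
  rcases hCcases with hC20 | hC10
  · -- Case B: |C(P)| = 20
    have hrel2 : ∀ R : Sylow 5 G, (centralizer ((R : Subgroup G) : Set G)).relIndex
        (normalizer ((R : Subgroup G) : Set G)) = 2 := by
      intro R
      have := hrel R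
      rw [hCeq R, hC20] at this
      omega
    have stepA : ∀ t : G, t ∈ centralizer ((P : Subgroup G) : Set G) → t * t = 1 → t ≠ 1 →
        centralizer ({t} : Set G) ≤ normalizer ((P : Subgroup G) : Set G) := by
      intro t htC ht ht1
      have hcomm : ∀ a ∈ (P : Subgroup G), a * t = t * a := fun a ha =>
        mem_centralizer_iff.mp htC a ha
      obtain ⟨-, hf4⟩ := common t htC ht ht1
      have hCle : centralizer ((P : Subgroup G) : Set G) ≤ centralizer ({t} : Set G) := by
        apply le_centralizer_of_involution (centralizer ((P : Subgroup G) : Set G))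
          (P : Subgroup G) hPC (e := 2) (t := t) _ le_rfl _ _ htC ht
        · intro c hc a ha
          exact mem_centralizer_iff.mp hc a ha
        · rw [hC20, hP]; norm_num
        · rw [hP]; norm_num
      have hPle : (P : Subgroup G) ≤ centralizer ({t} : Set G) := hPC.trans hCle
      have ha := relIndex_normalizer_modEq_one P (centralizer ({t} : Set G)) hPle
      have hac := card_inf_mul_relIndex (normalizer ((P : Subgroup G) : Set G))
        (centralizer ({t} : Set G))
      have hm1 : Nat.card ↥(centralizer ((P : Subgroup G) : Set G)) ∣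
          Nat.card ↥(normalizer ((P : Subgroup G) : Set G) ⊓ centralizer ({t} : Set G) :
            Subgroup G) :=
        Subgroup.card_dvd_of_le (le_inf (centralizer_le_normalizer _) hCle)
      have hm2 : Nat.card ↥(normalizer ((P : Subgroup G) : Set G) ⊓ centralizer ({t} : Set G) :
            Subgroup G) ∣ Nat.card ↥(normalizer ((P : Subgroup G) : Set G)) :=
        Subgroup.card_dvd_of_le inf_le_left
      rw [hC20] at hm1
      rw [hN P] at hm2
      have hc1440 : Nat.card ↥(centralizer ({t} : Set G)) ∣ 1440 :=
        hG ▸ Subgroup.card_subgroup_dvd_card _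
      have ha1 := numB _ _ _ _ hf4 hm1 hm2 hac ha hc1440
      exact relIndex_eq_one.mp ha1
    -- Step B: a Sylow 2-subgroup V of C(P)
    obtain ⟨S⟩ : Nonempty (Sylow 2 ↥(centralizer ((P : Subgroup G) : Set G))) := inferInstance
    set V : Subgroup G := (S : Subgroup ↥(centralizer ((P : Subgroup G) : Set G))).map
      (centralizer ((P : Subgroup G) : Set G)).subtype with hVdef
    have hVcard : Nat.card ↥V = 4 := by
      rw [hVdef, card_map_subtype]
      have := card_sylow_of_card_eq S (k := 2) (m := 5) (by rw [hC20]; norm_num) (by norm_num)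
      simpa using this
    have hVC : V ≤ centralizer ((P : Subgroup G) : Set G) := by
      rw [hVdef]
      exact Subgroup.map_subtype_le _
    have hVcomm := comm_of_card_prime_pow_le_two (p := 2) (e := 2) le_rfl V
      (by rw [hVcard]; norm_num)
    have hV2 : IsPGroup 2 V := IsPGroup.of_card (n := 2) (by rw [hVcard]; norm_num)
    -- an involution in V
    obtain ⟨t, htV, ht, ht1⟩ : ∃ t ∈ V, t * t = 1 ∧ t ≠ 1 := by
      obtain ⟨x, hx⟩ := exists_prime_orderOf_dvd_card' (G := ↥V) 2 (by rw [hVcard]; norm_num)
      refine ⟨x.1, x.2, ?_, ?_⟩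
      · have := pow_orderOf_eq_one x
        rw [hx, pow_two] at this
        exact congrArg Subtype.val this
      · intro h1
        have : x = 1 := Subtype.ext h1
        rw [this, orderOf_one] at hx
        omega
    obtain ⟨hf, -⟩ := common t (hVC htV) ht ht1
    have hF := card_fixedBy_modEq_card_inter (X := Sylow 5 G) V hV2 t
      (fun a ha => hVcomm a ha t htV)
    rw [hf] at hF
    have hPmem : P ∈ (fixedBy (Sylow 5 G) t ∩ fixedPoints V (Sylow 5 G) : Set (Sylow 5 G)) := by
      constructor
      · rw [mem_fixedBy_sylow_iff]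
        exact centralizer_le_normalizer _ (hVC htV)
      · rw [Subgroup.sylow_mem_fixedPoints_iff]
        exact hVC.trans (centralizer_le_normalizer _)
    obtain ⟨R, hRmem, hRP⟩ : ∃ R ∈ (fixedBy (Sylow 5 G) t ∩ fixedPoints V (Sylow 5 G) :
        Set (Sylow 5 G)), R ≠ P := by
      by_contra hcon
      push Not at hcon
      have hset : (fixedBy (Sylow 5 G) t ∩ fixedPoints V (Sylow 5 G) : Set (Sylow 5 G)) = {P} := by
        ext Q
        constructor
        · intro hQ
          exact hcon Q hQ
        · rintro rfl
          exact hPmem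
      rw [hset] at hF
      simp [Nat.ModEq] at hF
    have hVR : V ≤ normalizer ((R : Subgroup G) : Set G) := by
      have := hRmem.2
      rwa [Subgroup.sylow_mem_fixedPoints_iff] at this
    have hrelV : (centralizer ((R : Subgroup G) : Set G)).relIndex V ≤ 2 := by
      have := relIndex_le_of_le_right (H := centralizer ((R : Subgroup G) : Set G)) hVR
        (by rw [hrel2 R]; norm_num)
      rwa [hrel2 R] at this
    have hcardinf := card_inf_mul_relIndex (centralizer ((R : Subgroup G) : Set G)) V
    rw [hVcard] at hcardinf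
    have h2dvd : 2 ∣ Nat.card ↥(centralizer ((R : Subgroup G) : Set G) ⊓ V : Subgroup G) := by
      have hd : Nat.card ↥(centralizer ((R : Subgroup G) : Set G) ⊓ V : Subgroup G) ∣ 4 :=
        Dvd.intro _ hcardinf
      have hle : Nat.card ↥(centralizer ((R : Subgroup G) : Set G) ⊓ V : Subgroup G) ≤ 4 :=
        Nat.le_of_dvd (by norm_num) hd
      generalize (centralizer ((R : Subgroup G) : Set G)).relIndex V = r at *
      generalize Nat.card ↥(centralizer ((R : Subgroup G) : Set G) ⊓ V : Subgroup G) = c at *
      interval_cases c <;> interval_cases r <;> omega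
    obtain ⟨y, hy⟩ := exists_prime_orderOf_dvd_card'
      (G := ↥(centralizer ((R : Subgroup G) : Set G) ⊓ V : Subgroup G)) 2 h2dvd
    have hy1 : (y : G) * (y : G) = 1 := by
      have := pow_orderOf_eq_one y
      rw [hy, pow_two] at this
      exact congrArg Subtype.val this
    have hy2 : (y : G) ≠ 1 := by
      intro h1
      have : y = 1 := Subtype.ext h1
      rw [this, orderOf_one] at hy
      omega
    have hyC : (y : G) ∈ centralizer ((R : Subgroup G) : Set G) := y.2.1
    have hyV : (y : G) ∈ V := y.2.2
    have hle := stepA (y : G) (hVC hyV) hy1 hy2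
    have hRle : (R : Subgroup G) ≤ centralizer ({(y : G)} : Set G) := by
      intro r hr
      rw [mem_centralizer_iff]
      intro s hs
      rw [Set.mem_singleton_iff] at hs
      rw [hs]
      exact (mem_centralizer_iff.mp hyC r hr).symm
    exact hRP (sylow_eq_of_le_normalizer P R (hRle.trans hle))
  · -- Case A: |C(P)| = 10
    -- an involution in C(P)
    obtain ⟨t, htC, ht, ht1⟩ : ∃ t ∈ centralizer ((P : Subgroup G) : Set G), t * t = 1 ∧ t ≠ 1 := by
      obtain ⟨x, hx⟩ := exists_prime_orderOf_dvd_card'
        (G := ↥(centralizer ((P : Subgroup G) : Set G))) 2 (by rw [hC10]; norm_num)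
      refine ⟨x.1, x.2, ?_, ?_⟩
      · have := pow_orderOf_eq_one x
        rw [hx, pow_two] at this
        exact congrArg Subtype.val this
      · intro h1
        have : x = 1 := Subtype.ext h1
        rw [this, orderOf_one] at hx
        omega
    have hcomm : ∀ a ∈ (P : Subgroup G), a * t = t * a := fun a ha =>
      mem_centralizer_iff.mp htC a ha
    obtain ⟨hf, hf4⟩ := common t htC ht ht1
    have hcent : ∀ t' ∈ centralizer ((P : Subgroup G) : Set G), t' * t' = 1 →
        centralizer ((P : Subgroup G) : Set G) ≤ centralizer ({t'} : Set G) := by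
      intro t' ht'C ht'
      apply le_centralizer_of_involution (centralizer ((P : Subgroup G) : Set G))
        (P : Subgroup G) hPC (e := 1) (t := t') _ (by norm_num) _ _ ht'C ht'
      · intro c hc a ha
        exact mem_centralizer_iff.mp hc a ha
      · rw [hC10, hP]; norm_num
      · rw [hP]; norm_num
    have hnot4 : ¬ 4 ∣ Nat.card ↥(centralizer ((P : Subgroup G) : Set G)) := by
      rw [hC10]; norm_num
    -- t is central in N(P)
    have hNle : normalizer ((P : Subgroup G) : Set G) ≤ centralizer ({t} : Set G) := by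
      intro n hn
      have h1 : n * t * n⁻¹ ∈ centralizer ((P : Subgroup G) : Set G) :=
        conj_mem_centralizer_of_mem_normalizer (P : Subgroup G) n t hn htC
      have hconj : IsConj t (n * t * n⁻¹) := isConj_iff.mpr ⟨n, rfl⟩
      have h2 := involution_unique_of_card _ hcent hnot4 t (n * t * n⁻¹) htC h1 ht
        (mul_self_eq_one_of_isConj hconj ht) ht1 (ne_one_of_isConj hconj ht1)
      rw [mem_centralizer_iff]
      intro s hs
      rw [Set.mem_singleton_iff] at hs
      rw [hs]
      have : n * t * n⁻¹ * n = t * n := by rw [← h2]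
      rw [← this]
      group
    have hPle : (P : Subgroup G) ≤ centralizer ({t} : Set G) :=
      (hPC.trans (centralizer_le_normalizer _)).trans hNle
    have ha := relIndex_normalizer_modEq_one P (centralizer ({t} : Set G)) hPle
    have hac := card_inf_mul_relIndex (normalizer ((P : Subgroup G) : Set G))
      (centralizer ({t} : Set G))
    rw [inf_eq_left.mpr hNle, hN P] at hac
    have hc1440 : Nat.card ↥(centralizer ({t} : Set G)) ∣ 1440 :=
      hG ▸ Subgroup.card_subgroup_dvd_card _
    have hk := numA _ _ _ hf4 hac ha hc1440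
    -- but at most 11 conjugates of t lie in N(P)
    set A : Set G := {s : G | IsConj t s ∧ s ∈ normalizer ((P : Subgroup G) : Set G)} with hA
    have hkA : A.ncard = 16 := by
      rw [← hk, ← Nat.card_coe_set_eq]
      rfl
    have hAC : ∀ s ∈ A, s ∈ centralizer ((P : Subgroup G) : Set G) → s = t := by
      intro s hs hsC
      exact (involution_unique_of_card _ hcent hnot4 t s htC hsC ht
        (mul_self_eq_one_of_isConj hs.1 ht) ht1 (ne_one_of_isConj hs.1 ht1)).symm
    have hCfin : ((centralizer ((P : Subgroup G) : Set G) : Subgroup G) : Set G).ncard = 10 := by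
      rw [← hC10, ← Nat.card_coe_set_eq]
      rfl
    by_cases hex : ∃ s₀ ∈ A, s₀ ∉ centralizer ((P : Subgroup G) : Set G)
    · obtain ⟨s₀, hs₀A, hs₀C⟩ := hex
      have hsub : A ⊆ insert t ((fun c => s₀ * c) ''
          ((centralizer ((P : Subgroup G) : Set G) : Subgroup G) : Set G)) := by
        intro s hs
        by_cases hsC : s ∈ centralizer ((P : Subgroup G) : Set G)
        · left
          exact hAC s hs hsC
        · right
          refine ⟨s₀⁻¹ * s, ?_, by group⟩
          exact inv_mul_mem_centralizer_of_sq (p := 5) (by norm_num) (P : Subgroup G) hP s₀ s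
            hs₀A.2 hs.2 (mul_self_eq_one_of_isConj hs₀A.1 ht)
            (mul_self_eq_one_of_isConj hs.1 ht) hs₀C hsC
      have h1 := Set.ncard_le_ncard hsub (Set.toFinite _)
      have h2 := Set.ncard_insert_le t ((fun c => s₀ * c) ''
          ((centralizer ((P : Subgroup G) : Set G) : Subgroup G) : Set G))
      have h3 := Set.ncard_image_le (f := fun c => s₀ * c)
        (Set.toFinite ((centralizer ((P : Subgroup G) : Set G) : Subgroup G) : Set G))
      rw [hCfin] at h3
      omega
    · push Not at hex
      have hsub : A ⊆ {t} := by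
        intro s hs
        exact hAC s hs (hex s hs)
      have h1 := Set.ncard_le_ncard hsub (Set.toFinite _)
      rw [Set.ncard_singleton] at h1
      omega

/-- No finite simple group has order 1440 = 2^5 * 3^2 * 5. -/
theorem result {G : Type*} [Group G] [Finite G] [IsSimpleGroup G] : Nat.card G ≠ 1440 := by
  intro hG
  haveI : Fact (Nat.Prime 5) := ⟨by norm_num⟩
  have hG' : Nat.card G = 5 ^ 1 * 288 := by rw [hG]; norm_num
  have hPcard : ∀ P : Sylow 5 G, Nat.card ↥(P : Subgroup G) = 5 := fun P => by
    simpa using card_sylow_of_card_eq P hG' (by norm_num)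
  have hdvd : Nat.card (Sylow 5 G) ∣ 288 := card_sylow_dvd_of_card_eq hG' (by norm_num)
  have hmod : Nat.card (Sylow 5 G) % 5 = 1 := card_sylow_modEq_one 5 G
  have hcases : ∀ d ∈ Nat.divisors 288, d % 5 = 1 →
      d = 1 ∨ d = 6 ∨ d = 16 ∨ d = 36 ∨ d = 96 := by decide
  obtain ⟨P⟩ : Nonempty (Sylow 5 G) := inferInstance
  have hP := hPcard P
  have hne1 : (P : Subgroup G) ≠ ⊥ := by
    intro h; rw [h, Subgroup.card_bot] at hP; omega
  have hne2 : (P : Subgroup G) ≠ ⊤ := by
    intro h; rw [h, Subgroup.card_top] at hP; omega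
  have hlt := one_lt_card_sylow_of_simple P hne1 hne2
  rcases hcases _ (Nat.mem_divisors.mpr ⟨hdvd, by norm_num⟩) hmod with h | h | h | h | h
  · omega
  · have := card_dvd_factorial_card_sylow (G := G) (p := 5) hlt
    rw [h, hG] at this
    revert this; decide
  · exact case16 hG h
  · exact case36 hG h
  · have hN : Nat.card ↥(normalizer ((P : Subgroup G) : Set G)) = 5 * 3 := by
      have := card_normalizer_mul_card_sylow P
      rw [h, hG] at this
      omega
    exact not_coprime_of_simple P hP (by rw [hG]; norm_num) hN (by norm_num)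

end Cfsg.Agent.S1016
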