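import Cfsg.Statements.S1018
import Mathlib

set_option autoImplicit false
open Cfsg

namespace Cfsg.Agent.S1018

open Subgroup MulAction

variable {G : Type*} [Group G]

theorem smul_mk_eq_iff (N : Subgroup G) (g a : G) :
    g • (QuotientGroup.mk a : G ⧸ N) = QuotientGroup.mk a ↔ a⁻¹ * g * a ∈ N := by
  rw [MulAction.Quotient.smul_mk, QuotientGroup.eq, smul_eq_mul]
  have h : (g * a)⁻¹ * a = (a⁻¹ * g * a)⁻¹ := by group
  rw [h, inv_mem_iff]

/-- A `p`-element of `N(P)` lies in `P`. -/
theorem mem_sylow_of_mem_normalizer {p : ℕ} [Fact p.Prime] (P : Sylow p G) (g : G)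
    (hg : g ∈ normalizer ((P : Subgroup G) : Set G)) (ho : orderOf g = p) : g ∈ (P : Subgroup G) := by
  have hz : IsPGroup p (zpowers g) := by
    apply IsPGroup.of_card (n := 1)
    rw [Nat.card_zpowers, ho, pow_one]
  have hle : zpowers g ≤ normalizer ((P : Subgroup G) : Set G) := by
    rw [zpowers_le]; exact hg
  have h1 : zpowers g ⊓ normalizer ((P : Subgroup G) : Set G) = zpowers g ⊓ (P : Subgroup G) :=
    hz.inf_normalizer_sylow P
  rw [inf_of_le_left hle] at h1
  have : g ∈ zpowers g := mem_zpowers g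
  rw [h1] at this
  exact this.2

/-- In a subgroup of prime order every element is a power of any nontrivial element. -/
theorem exists_zpow_eq {p : ℕ} [Fact p.Prime] (P : Subgroup G) (hP : Nat.card ↥P = p)
    (w v : G) (hw : w ∈ P) (hw1 : w ≠ 1) (hv : v ∈ P) : ∃ k : ℤ, w ^ k = v := by
  have hw' : (⟨w, hw⟩ : ↥P) ≠ 1 := by
    intro h; apply hw1; exact congrArg Subtype.val h
  have := mem_zpowers_of_prime_card hP hw' (g' := ⟨v, hv⟩)
  rw [mem_zpowers_iff] at this
  obtain ⟨k, hk⟩ := this
  exact ⟨k, by simpa using congrArg Subtype.val hk⟩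

theorem orderOf_conj' (a g : G) : orderOf (a⁻¹ * g * a) = orderOf g := by
  have := (MulAut.conj a⁻¹).orderOf_eq g
  simpa using this

theorem orderOf_eq_of_mem {p : ℕ} [hp : Fact p.Prime] [Finite G] (P : Subgroup G) (hP : Nat.card ↥P = p)
    (w : G) (hw : w ∈ P) (hw1 : w ≠ 1) : orderOf w = p := by
  have h1 : orderOf (⟨w, hw⟩ : ↥P) ∣ p := hP ▸ orderOf_dvd_natCard _
  rw [Subgroup.orderOf_mk] at h1
  rcases (Nat.dvd_prime hp.out).mp h1 with h | h
  · exact absurd (orderOf_eq_one_iff.mp h) hw1
  · exact h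

/-- Let P be a Sylow p-subgroup of order p of a finite group G, and consider the action of G on the left cosets of the normalizer N of P. Then every element of order p fixes exactly one coset, and an element of N that does not centralize P fixes at most as many cosets as there are orbits of P. -/
theorem result {G : Type*} [Group G] [Finite G] (p : ℕ) [Fact p.Prime] (P : Sylow p G) (hP : Nat.card ↥(P : Subgroup G) = p) : (∀ y : G, orderOf y = p → Nat.card (MulAction.fixedBy (G ⧸ Subgroup.normalizer ((P : Subgroup G) : Set G)) y) = 1) ∧ ∀ x : G, x ∈ Subgroup.normalizer ((P : Subgroup G) : Set G) → x ∉ Subgroup.centralizer ((P : Subgroup G) : Set G) → Nat.card (MulAction.fixedBy (G ⧸ Subgroup.normalizer ((P : Subgroup G) : Set G)) x) ≤ Nat.card (MulAction.orbitRel.Quotient ↥(P : Subgroup G) (G ⧸ Subgroup.normalizer ((P : Subgroup G) : Set G))) := by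
  have hp : p.Prime := Fact.out
  set N := Subgroup.normalizer ((P : Subgroup G) : Set G) with hN
  have hPN : (P : Subgroup G) ≤ N := le_normalizer
  constructor
  · intro y hy
    rw [Nat.card_eq_one_iff_exists]
    -- existence
    have hz : IsPGroup p (zpowers y) := by
      apply IsPGroup.of_card (n := 1)
      rw [Nat.card_zpowers, hy, pow_one]
    obtain ⟨Q, hQ⟩ := hz.exists_le_sylow
    obtain ⟨a, ha⟩ := MulAction.exists_smul_eq G P Q
    have hyQ : y ∈ (Q : Subgroup G) := hQ (mem_zpowers y)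
    have hya : a⁻¹ * y * a ∈ (P : Subgroup G) := by
      rw [← ha, Sylow.smul_def, Sylow.pointwise_smul_def,
        Subgroup.mem_pointwise_smul_iff_inv_smul_mem] at hyQ
      simpa [MulAut.smul_def] using hyQ
    have hfix : (QuotientGroup.mk a : G ⧸ N) ∈ fixedBy (G ⧸ N) y := by
      rw [mem_fixedBy, smul_mk_eq_iff]
      exact hPN hya
    refine ⟨⟨_, hfix⟩, ?_⟩
    rintro ⟨c, hc⟩
    apply Subtype.ext
    show c = QuotientGroup.mk a
    obtain ⟨b, rfl⟩ := QuotientGroup.mk_surjective c
    rw [mem_fixedBy, smul_mk_eq_iff] at hc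
    have hob : orderOf (b⁻¹ * y * b) = p := by
      rw [orderOf_conj', hy]
    have hyb : b⁻¹ * y * b ∈ (P : Subgroup G) := mem_sylow_of_mem_normalizer P _ hc hob
    -- b⁻¹ a normalizes P
    have hy1 : a⁻¹ * y * a ≠ 1 := by
      intro h
      have : y = 1 := by
        have : y = a * (a⁻¹ * y * a) * a⁻¹ := by group
        rw [this, h]; group
      rw [this, orderOf_one] at hy
      exact hp.one_lt.ne hy
    rw [QuotientGroup.eq]
    -- show b⁻¹ * a ∈ N
    rw [hN, mem_normalizer_iff]
    intro v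
    -- conjugation by b⁻¹ a maps w := a⁻¹ y a ∈ P to b⁻¹ y b ∈ P
    have hconj : (b⁻¹ * a) * (a⁻¹ * y * a) * (b⁻¹ * a)⁻¹ = b⁻¹ * y * b := by group
    have key : ∀ v ∈ (P : Subgroup G), (b⁻¹ * a) * v * (b⁻¹ * a)⁻¹ ∈ (P : Subgroup G) := by
      intro v hv
      obtain ⟨k, hk⟩ := exists_zpow_eq (P : Subgroup G) hP _ v hya hy1 hv
      rw [← hk]
      have : (b⁻¹ * a) * (a⁻¹ * y * a) ^ k * (b⁻¹ * a)⁻¹ = (b⁻¹ * y * b) ^ k := by
        rw [← hconj, conj_zpow]
      rw [this]
      exact Subgroup.zpow_mem _ hyb k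
    constructor
    · exact key v
    · intro hv
      -- injective map on finite set: use cardinalities
      have hmap : (P : Subgroup G).map (MulAut.conj (b⁻¹ * a)).toMonoidHom ≤ (P : Subgroup G) := by
        rintro _ ⟨u, hu, rfl⟩
        exact key u hu
      have hcard : Nat.card ↥((P : Subgroup G).map (MulAut.conj (b⁻¹ * a)).toMonoidHom) =
          Nat.card ↥(P : Subgroup G) :=
        (Nat.card_congr (Subgroup.equivMapOfInjective _ _ (MulAut.conj (b⁻¹ * a)).injective).toEquiv).symm
      have heq := Subgroup.eq_of_le_of_card_ge hmap (le_of_eq hcard.symm)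
      rw [← heq] at hv
      obtain ⟨u, hu, hu'⟩ := hv
      have : u = v := by
        have h9 := hu'
        simp only [MulEquiv.coe_toMonoidHom, MulAut.conj_apply] at h9
        exact mul_left_cancel (mul_right_cancel h9)
      exact this ▸ hu
  · intro x hxN hxC
    haveI : Finite (orbitRel.Quotient ↥(P : Subgroup G) (G ⧸ N)) := Quotient.finite _
    apply Nat.card_le_card_of_injective
      (fun c : fixedBy (G ⧸ N) x => (Quotient.mk'' c.1 : orbitRel.Quotient ↥(P : Subgroup G) (G ⧸ N)))
    rintro ⟨c, hc⟩ ⟨c', hc'⟩ hcc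
    apply Subtype.ext
    show c = c'
    have hrel : c ∈ orbit ↥(P : Subgroup G) c' := by
      have := Quotient.exact' hcc
      exact this
    obtain ⟨⟨u, hu⟩, hu'⟩ := hrel
    have hu'' : u • c' = c := hu'
    obtain ⟨a, rfl⟩ := QuotientGroup.mk_surjective c'
    rw [mem_fixedBy, smul_mk_eq_iff] at hc'
    rw [← hu'', mem_fixedBy, ← mul_smul] at hc
    -- x u a N = u a N
    have hc2 : (u⁻¹ * x * u) • (QuotientGroup.mk a : G ⧸ N) = QuotientGroup.mk a := by
      have := congrArg (fun d => u⁻¹ • d) hc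
      simp only [← mul_smul] at this
      have h1 : u⁻¹ * (x * u) = u⁻¹ * x * u := by group
      have h2 : u⁻¹ * u = 1 := by group
      rw [h1, h2, one_smul] at this
      exact this
    rw [smul_mk_eq_iff] at hc2
    rw [← hu'']
    -- w = x⁻¹ u⁻¹ x u
    set w := x⁻¹ * u⁻¹ * x * u with hw
    have hwP : w ∈ (P : Subgroup G) := by
      have h1 : x⁻¹ * u⁻¹ * x ∈ (P : Subgroup G) := by
        have hx' : x⁻¹ ∈ N := N.inv_mem hxN
        have := (mem_normalizer_iff.mp hx' u⁻¹).mp ((P : Subgroup G).inv_mem hu)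
        simpa using this
      exact (P : Subgroup G).mul_mem h1 hu
    have hwa : a⁻¹ * w * a ∈ N := by
      have : a⁻¹ * w * a = (a⁻¹ * x * a)⁻¹ * (a⁻¹ * (u⁻¹ * x * u) * a) := by
        rw [hw]; group
      rw [this]
      exact N.mul_mem (N.inv_mem hc') hc2
    by_cases hw1 : w = 1
    · -- x commutes with u
      by_cases hu1 : u = 1
      · rw [hu1, one_smul]
      · exfalso
        apply hxC
        rw [mem_centralizer_iff]
        intro v hv
        obtain ⟨k, hk⟩ := exists_zpow_eq (P : Subgroup G) hP u v hu hu1 hv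
        have hcomm : Commute x u := by
          show x * u = u * x
          have : x * u = u * x * w := by rw [hw]; group
          rw [this, hw1, mul_one]
        rw [← hk]
        exact ((hcomm.zpow_right k).eq).symm
    · -- w generates P
      have how : orderOf (a⁻¹ * w * a) = p := by
        rw [orderOf_conj']
        exact orderOf_eq_of_mem (P : Subgroup G) hP w hwP hw1
      have hwaP : a⁻¹ * w * a ∈ (P : Subgroup G) := mem_sylow_of_mem_normalizer P _ hwa how
      obtain ⟨k, hk⟩ := exists_zpow_eq (P : Subgroup G) hP w u hwP hw1 hu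
      rw [smul_mk_eq_iff, ← hk]
      have : a⁻¹ * w ^ k * a = (a⁻¹ * w * a) ^ k := by
        have h3 : a⁻¹ * w * a = a⁻¹ * w * a⁻¹⁻¹ := by rw [inv_inv]
        rw [h3, conj_zpow, inv_inv]
      rw [this]
      exact N.zpow_mem (hPN hwaP) k

end Cfsg.Agent.S1018
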