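import Cfsg.Statements.S1019
import Mathlib

set_option autoImplicit false
open Cfsg

namespace Cfsg.Agent.S1019

open MulAction

/-- Fixed point sets of conjugate elements are equinumerous. -/
theorem card_fixedBy_conj {G X : Type*} [Group G] [MulAction G X] (a x : G) :
    Nat.card (fixedBy X (a * x * a⁻¹)) = Nat.card (fixedBy X x) := by
  refine Nat.card_congr ⟨fun c => ⟨a⁻¹ • c.1, ?_⟩, fun c => ⟨a • c.1, ?_⟩, ?_, ?_⟩
  · have := c.2
    rw [mem_fixedBy] at this ⊢
    rw [smul_smul]
    have h2 : x * a⁻¹ = a⁻¹ * (a * x * a⁻¹) := by group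
    rw [h2, mul_smul, this]
  · have := c.2
    rw [mem_fixedBy] at this ⊢
    rw [smul_smul]
    have h2 : a * x * a⁻¹ * a = a * x := by group
    rw [h2, mul_smul, this]
  · intro c; ext; simp
  · intro c; ext; simp

/-- Let H be a subgroup of a finite group G and x an element of H. In the action of G on the left cosets of H, the number of cosets fixed by x, multiplied by the size of the conjugacy class of x, equals the index of H multiplied by the number of conjugates of x that lie in H. -/
theorem result {G : Type*} [Group G] [Finite G] (H : Subgroup G) (x : G) (hx : x ∈ H) : Nat.card (MulAction.fixedBy (G ⧸ H) x) * Nat.card {g : G // IsConj x g} = H.index * Nat.card {g : G // IsConj x g ∧ g ∈ H} := by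
  classical
  -- the set of pairs
  let Pairs := {cy : (G ⧸ H) × {g : G // IsConj x g} // cy.2.1 • cy.1 = cy.1}
  have h1 : Nat.card Pairs = Nat.card {g : G // IsConj x g} * Nat.card (fixedBy (G ⧸ H) x) := by
    have e : Pairs ≃ Σ y : {g : G // IsConj x g}, fixedBy (G ⧸ H) y.1 :=
      { toFun := fun cy => ⟨cy.1.2, ⟨cy.1.1, cy.2⟩⟩
        invFun := fun s => ⟨(s.2.1, s.1), s.2.2⟩
        left_inv := fun _ => rfl
        right_inv := fun _ => rfl }
    rw [Nat.card_congr e]
    letI : Fintype {g : G // IsConj x g} := Fintype.ofFinite _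
    rw [Nat.card_sigma]
    have : ∀ y : {g : G // IsConj x g}, Nat.card (fixedBy (G ⧸ H) y.1) = Nat.card (fixedBy (G ⧸ H) x) := by
      intro y
      obtain ⟨a, ha⟩ := isConj_iff.mp y.2
      rw [← ha]
      exact card_fixedBy_conj a x
    rw [Finset.sum_congr rfl (fun y _ => this y)]
    rw [Finset.sum_const, Finset.card_univ, smul_eq_mul, ← Nat.card_eq_fintype_card]
  have h2 : Nat.card Pairs = H.index * Nat.card {g : G // IsConj x g ∧ g ∈ H} := by
    have e : Pairs ≃ Σ c : G ⧸ H, {y : {g : G // IsConj x g} // y.1 • c = c} :=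
      { toFun := fun cy => ⟨cy.1.1, ⟨cy.1.2, cy.2⟩⟩
        invFun := fun s => ⟨(s.1, s.2.1), s.2.2⟩
        left_inv := fun _ => rfl
        right_inv := fun _ => rfl }
    rw [Nat.card_congr e]
    letI : Fintype (G ⧸ H) := Fintype.ofFinite _
    rw [Nat.card_sigma]
    have : ∀ c : G ⧸ H, Nat.card {y : {g : G // IsConj x g} // y.1 • c = c}
        = Nat.card {g : G // IsConj x g ∧ g ∈ H} := by
      intro c
      obtain ⟨a, rfl⟩ := QuotientGroup.mk_surjective c
      refine Nat.card_congr ⟨fun y => ⟨a⁻¹ * y.1.1 * a, ?_, ?_⟩, fun g => ⟨⟨a * g.1 * a⁻¹, ?_⟩, ?_⟩, ?_, ?_⟩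
      · have := y.1.2
        refine this.trans ?_
        rw [isConj_iff]
        exact ⟨a⁻¹, by group⟩
      · have := y.2
        rw [MulAction.Quotient.smul_mk, QuotientGroup.eq] at this
        have h3 : a⁻¹ * y.1.1 * a = ((y.1.1 • a)⁻¹ * a)⁻¹ := by
          simp only [smul_eq_mul]; group
        rw [h3]
        exact H.inv_mem this
      · refine g.2.1.trans ?_
        rw [isConj_iff]
        exact ⟨a, rfl⟩
      · show (a * g.1 * a⁻¹) • (QuotientGroup.mk a : G ⧸ H) = QuotientGroup.mk a
        rw [MulAction.Quotient.smul_mk, QuotientGroup.eq]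
        have h3 : ((a * g.1 * a⁻¹) • a)⁻¹ * a = (g.1)⁻¹ := by
          simp only [smul_eq_mul]; group
        rw [h3]
        exact H.inv_mem g.2.2
      · intro y; ext; simp only; group
      · intro g; ext; simp only; group
    rw [Finset.sum_congr rfl (fun c _ => this c)]
    rw [Finset.sum_const, Finset.card_univ, smul_eq_mul, Subgroup.index, ← Nat.card_eq_fintype_card]
  rw [mul_comm, ← h1, h2]

end Cfsg.Agent.S1019
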