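import Cfsg.Statements.S1024

set_option autoImplicit false
open Cfsg

namespace Cfsg.Agent.S1024

open Cfsg.Lie Cfsg.Lie.ChevalleyDatum

theorem xMat_zero {F : Type*} [Field F] (D : ChevalleyDatum) (r : Fin D.nroots) :
    D.xMat F r 0 = 1 := by
  ext row col
  rcases col with i | s
  · rcases row with i' | u
    · simp [xMat, Matrix.one_apply]
    · simp [xMat, Matrix.one_apply]
  · by_cases hs : s = r
    · subst hs
      rcases row with i' | u
      · simp [xMat, Matrix.one_apply]
      · simp [xMat, Matrix.one_apply]
    · by_cases hn : s.val = D.negIdx.getD r.val 0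
      · rcases row with i' | u
        · simp [xMat, Matrix.one_apply, hs, hn]
        · by_cases hus : u = s
          · simp [xMat, Matrix.one_apply, hs, hn, hus]
          · simp [xMat, Matrix.one_apply, hs, hn, hus]
      · rcases row with i' | u
        · simp [xMat, Matrix.one_apply, hs, hn]
        · have hsum : ((D.chainCoeff r.val s.val u.val).map fun km => ((km.2 : ℤ) : F) * (0:F) ^ km.1).sum = 0 := by
            apply List.sum_eq_zero
            intro x hx
            rw [List.mem_map] at hx
            obtain ⟨km, hkm, rfl⟩ := hx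
            have : km.1 ≠ 0 := by
              unfold chainCoeff at hkm
              simp only [List.mem_flatMap, List.mem_map, List.mem_filter] at hkm
              obtain ⟨e, _, q, _, rfl⟩ := hkm
              simp
            simp [this]
          simp [xMat, Matrix.one_apply, hs, hn, hsum]

theorem xMat_entry {F : Type*} [Field F] (D : ChevalleyDatum) (r s : Fin D.nroots) (t : F)
    (h1 : s.val = D.negIdx.getD r.val 0) (h2 : s ≠ r) :
    D.xMat F r t (Sum.inr r) (Sum.inr s) = -(t^2) := by
  unfold xMat
  simp only [Matrix.of_apply]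
  rw [if_neg h2, if_pos h1, if_neg (Ne.symm h2)]
  simp

theorem key {F : Type*} [Field F] (D : ChevalleyDatum) (r : ℕ) (hr : r < D.nroots) (t : F)
    (h1 : D.negIdx.getD r 0 < D.nroots) (h2 : D.negIdx.getD r 0 ≠ r) :
    D.x F r t = 1 ↔ t = 0 := by
  unfold x
  rw [dif_pos hr]
  constructor
  · intro h
    have hs : (⟨D.negIdx.getD r 0, h1⟩ : Fin D.nroots) ≠ ⟨r, hr⟩ := by
      intro h; apply h2; exact congrArg Fin.val h
    have := xMat_entry (F := F) D ⟨r, hr⟩ ⟨D.negIdx.getD r 0, h1⟩ t rfl hs
    rw [h] at this
    rw [Matrix.one_apply_ne] at this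
    · have : t^2 = 0 := by
        have := congrArg Neg.neg this
        simpa using this.symm
      exact pow_eq_zero_iff (two_ne_zero) |>.mp this
    · intro h; apply hs; exact (Sum.inr.inj h).symm
  · rintro rfl
    exact xMat_zero D ⟨r, hr⟩

def good (D : ChevalleyDatum) : Prop :=
  ∀ r < D.nroots, D.negIdx.getD r 0 < D.nroots ∧ D.negIdx.getD r 0 ≠ r

instance (D : ChevalleyDatum) : Decidable (good D) := by unfold good; infer_instance

theorem goodG2 : good chevG2 := by decide
theorem goodB2 : good chevB2 := by decide
theorem goodD4 : good chevD4 := by decide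
theorem goodF4 : good chevF4 := by decide
set_option maxRecDepth 100000 in
theorem goodE6 : good chevE6 := by decide +kernel
set_option maxRecDepth 100000 in
theorem goodE7 : good chevE7 := by decide +kernel
set_option maxRecDepth 100000 in
theorem goodE8 : good chevE8 := by decide +kernel

/-- `x_r(0) = 1`, and `x_r(t) = 1` forces `t = 0`: the map `t ↦ x_r(t)` is injective. -/
theorem result {F : Type*} [Field F] (D : Cfsg.Lie.ChevalleyDatum) (hD : D ∈ [Cfsg.Lie.chevG2, Cfsg.Lie.chevB2, Cfsg.Lie.chevD4, Cfsg.Lie.chevF4, Cfsg.Lie.chevE6, Cfsg.Lie.chevE7, Cfsg.Lie.chevE8]) (r : ℕ) (hr : r < D.nroots) (t : F) :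
    D.x F r t = 1 ↔ t = 0 := by
  have hg : good D := by
    simp only [List.mem_cons, List.not_mem_nil, or_false] at hD
    rcases hD with rfl | rfl | rfl | rfl | rfl | rfl | rfl
    · exact goodG2
    · exact goodB2
    · exact goodD4
    · exact goodF4
    · exact goodE6
    · exact goodE7
    · exact goodE8
  exact key D r hr t (hg r hr).1 (hg r hr).2

end Cfsg.Agent.S1024
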