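import Cfsg.Statements.S1033
import Cfsg.Agent.Lib.Helper36.ChevMAll

set_option autoImplicit false
open Cfsg

namespace Cfsg.Agent.S1033

theorem result {F : Type*} [Field F] (D : Cfsg.Lie.ChevalleyDatum) (hD : D ∈ [Cfsg.Lie.chevG2, Cfsg.Lie.chevB2, Cfsg.Lie.chevD4, Cfsg.Lie.chevF4, Cfsg.Lie.chevE6, Cfsg.Lie.chevE7, Cfsg.Lie.chevE8]) (i : ℕ) (hi : i < D.rank) (c : F) (hc : c ≠ 0) :
    D.hMat F (D.simple i) c = Matrix.diagonal (Sum.elim (fun _ => (1 : F)) (fun s : Fin D.nroots => c ^ (D.cartan i s))) :=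
  Cfsg.Agent.Lib.Helper36.hMat_simple D hD i hi c hc

end Cfsg.Agent.S1033
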