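import Cfsg.Statements.S1058
import Cfsg.Agent.Lib.Helper89.TableChain
import Cfsg.Agent.Lib.Helper89.FieldTransfer

set_option autoImplicit false
open Cfsg

namespace Cfsg.Agent.S1058

open Cfsg.Lie Cfsg.Agent.Lib.Helper89 Matrix

/-! `B₂(2) ≅ S₆`: the adjoint Chevalley group over `ZMod 2` acts on the dual module (row vectors)
with an orbit of six vectors; a verified stabilizer chain (data from `tools/helper89/s1058gen.py`)
gives the order 720 and the faithfulness of the action on that orbit. -/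

abbrev K2 := ZMod 2
abbrev I10 := chevB2.Idx
abbrev Γ := GL I10 K2

/-- row vectors, with the dual action `g • w = w * g⁻¹` -/
structure Row where
  /-- the underlying vector -/
  v : I10 → K2

theorem Row.ext' {w w' : Row} (h : w.v = w'.v) : w = w' := by
  cases w; cases w'; simp_all

instance instMulActionRow : MulAction Γ Row where
  smul g w := ⟨Matrix.vecMul w.v ((g⁻¹ : Γ) : Matrix I10 I10 K2)⟩
  one_smul w := by
    apply Row.ext'
    show Matrix.vecMul w.v (((1 : Γ)⁻¹ : Γ) : Matrix I10 I10 K2) = w.v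
    rw [inv_one, Units.val_one, Matrix.vecMul_one]
  mul_smul g h w := by
    apply Row.ext'
    show Matrix.vecMul w.v (((g * h)⁻¹ : Γ) : Matrix I10 I10 K2) =
      Matrix.vecMul (Matrix.vecMul w.v ((h⁻¹ : Γ) : Matrix I10 I10 K2)) ((g⁻¹ : Γ) : Matrix I10 I10 K2)
    rw [_root_.mul_inv_rev, Units.val_mul, Matrix.vecMul_vecMul]

theorem smul_v (g : Γ) (w : Row) : (g • w).v = Matrix.vecMul w.v ((g⁻¹ : Γ) : Matrix I10 I10 K2) := rfl

/-- position of a coordinate -/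
def idx : I10 → ℕ
  | .inl i => i.val
  | .inr u => 2 + u.val

def codes : List ℕ := [98, 102, 518, 550, 582, 610, 44, 84, 124, 672, 684, 758, 766, 832, 852, 878, 894, 992, 1006, 1014, 1020, 99, 111, 119, 127, 517, 557, 597, 637, 677, 685, 739, 751, 837, 853, 867, 887, 995, 997, 1021, 1023]

/-- the `x`-th point -/
def ptv (x : Fin 41) : I10 → K2 := fun i => if (codes.getD x.val 0).testBit (idx i) then 1 else 0

/-- the `x`-th point as a row vector -/
def pt (x : Fin 41) : Row := ⟨ptv x⟩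

set_option maxRecDepth 100000 in
theorem x_sq : ∀ r : Fin chevB2.nroots, chevB2.xMat K2 r 1 * chevB2.xMat K2 r 1 = 1 := by decide

/-- the root elements `x_r(1)` -/
def X (r : Fin chevB2.nroots) : Γ := ⟨chevB2.xMat K2 r 1, chevB2.xMat K2 r 1, x_sq r, x_sq r⟩

/-- reading an index as a root index -/
def toR (j : Fin 8) : Fin chevB2.nroots := ⟨j.val, j.isLt⟩

def gen₀ : Fin 8 → Γ := fun r => X (toR r)

def tab₀L : List (List (Fin 41)) := [
  [5, 1, 2, 3, 4, 0, 10, 14, 20, 9, 6, 19, 16, 13, 7, 18, 12, 17, 15, 11, 8, 21, 32, 36, 40, 25, 30, 34, 39, 29, 26, 31, 22, 33, 27, 35, 23, 37, 38, 28, 24],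
  [5, 3, 4, 1, 2, 0, 15, 7, 16, 9, 18, 11, 20, 13, 14, 6, 8, 17, 10, 19, 12, 35, 26, 36, 28, 33, 22, 34, 24, 38, 32, 37, 30, 25, 27, 21, 23, 31, 29, 40, 39],
  [5, 4, 3, 2, 1, 0, 6, 11, 12, 9, 10, 7, 8, 13, 19, 15, 20, 17, 18, 14, 16, 31, 32, 27, 28, 29, 30, 23, 24, 25, 26, 21, 22, 38, 36, 37, 34, 35, 33, 40, 39],
  [0, 1, 4, 3, 2, 5, 8, 7, 6, 17, 20, 19, 18, 13, 14, 16, 15, 9, 12, 11, 10, 21, 24, 23, 22, 25, 28, 27, 26, 38, 39, 37, 40, 33, 34, 35, 36, 31, 29, 30, 32],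
  [0, 1, 3, 2, 4, 5, 6, 8, 7, 9, 10, 12, 11, 17, 20, 18, 19, 13, 15, 16, 14, 21, 22, 24, 23, 25, 26, 28, 27, 29, 30, 31, 32, 38, 39, 37, 40, 35, 33, 34, 36],
  [1, 0, 4, 5, 2, 3, 6, 7, 8, 11, 12, 9, 10, 13, 14, 15, 16, 19, 20, 17, 18, 23, 24, 21, 22, 27, 28, 25, 26, 31, 32, 29, 30, 34, 33, 36, 35, 38, 37, 40, 39],
  [1, 0, 3, 2, 5, 4, 6, 7, 8, 9, 10, 11, 12, 15, 16, 13, 14, 18, 17, 20, 19, 22, 21, 24, 23, 26, 25, 28, 27, 30, 29, 32, 31, 35, 36, 33, 34, 38, 37, 40, 39],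
  [1, 0, 2, 3, 4, 5, 6, 7, 8, 10, 9, 12, 11, 14, 13, 16, 15, 20, 19, 18, 17, 21, 22, 23, 24, 25, 26, 27, 28, 30, 29, 32, 31, 34, 33, 36, 35, 40, 39, 38, 37]
]

def tab₀ (j : Fin 8) (x : Fin 41) : Fin 41 := (tab₀L.getD j.val []).getD x.val 0

set_option maxRecDepth 100000 in
theorem gen_smul₀' : ∀ (j : Fin 8) (x : Fin 41), Matrix.vecMul (ptv x) (chevB2.xMat K2 (toR j) 1) = ptv (tab₀ j x) := by
  decide
theorem X_inv (r : Fin chevB2.nroots) : (((X r)⁻¹ : Γ) : Matrix I10 I10 K2) = chevB2.xMat K2 r 1 := rfl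

theorem gen_smul₀ (j : Fin 8) (x : Fin 41) : gen₀ j • pt x = pt (tab₀ j x) := by
  apply Row.ext'
  rw [smul_v]
  show Matrix.vecMul (ptv x) (((X (toR j))⁻¹ : Γ) : Matrix I10 I10 K2) = ptv (tab₀ j x)
  rw [X_inv]
  exact gen_smul₀' j x

set_option maxRecDepth 100000 in
theorem pt_inj : Function.Injective pt := by
  have h : Function.Injective ptv := by decide
  intro x y hxy
  exact h (congrArg Row.v hxy)

/-- for each coordinate a list of points whose sum is the basis vector -/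
def spanL : List (List (Fin 41)) := [

  [0, 21],
  [0, 3, 4],
  [0, 1],
  [0, 1, 2, 3, 6],
  [0, 1, 2, 4, 7],
  [2, 3],
  [2, 4],
  [1, 4, 9],
  [1, 3, 13],
  [1, 2, 3, 4]
]

set_option maxRecDepth 100000 in
theorem span_fact : ∀ k : I10, ((spanL.getD (idx k) []).map ptv).sum = Pi.single k 1 := by decide

theorem vecMul_list_sum (M M' : Matrix I10 I10 K2) (l : List (Fin 41))
    (h : ∀ x, Matrix.vecMul (ptv x) M = Matrix.vecMul (ptv x) M') :
    Matrix.vecMul ((l.map ptv).sum) M = Matrix.vecMul ((l.map ptv).sum) M' := by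
  induction l with
  | nil => simp
  | cons x l ih => simp only [List.map_cons, List.sum_cons, Matrix.add_vecMul, ih, h x]

theorem faithful (g g' : Γ) (h : ∀ x, g • pt x = g' • pt x) : g = g' := by
  have h' : ∀ x, Matrix.vecMul (ptv x) ((g⁻¹ : Γ) : Matrix I10 I10 K2) =
      Matrix.vecMul (ptv x) ((g'⁻¹ : Γ) : Matrix I10 I10 K2) := fun x => congrArg Row.v (h x)
  have hinv : g⁻¹ = g'⁻¹ := by
    apply Units.ext
    ext k i
    have := vecMul_list_sum _ _ (spanL.getD (idx k) []) h'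
    rw [span_fact k, Matrix.single_one_vecMul, Matrix.single_one_vecMul] at this
    exact congrFun this i
  exact inv_injective hinv

/-- the data for the root elements -/
def D₀ : TableChain.Data Γ Row 8 41 := ⟨gen₀, pt, tab₀, gen_smul₀, faithful, pt_inj⟩

/-- strong generators as words in the root elements -/
def WL : List (List (Fin 8)) := [

  [2, 7, 2],
  [1, 7, 1],
  [3, 2, 7, 2, 3],
  [3, 2, 7, 3, 2],
  [0],
  [1],
  [2],
  [3],
  [4],
  [5],
  [6],
  [7]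
]

def W (j : Fin 12) : List (Fin 8) := WL.getD j.val []

def tabL : List (List (Fin 41)) := [
  [0, 1, 2, 3, 5, 4, 6, 8, 7, 10, 9, 11, 12, 19, 18, 20, 17, 16, 14, 13, 15, 22, 21, 23, 24, 26, 25, 27, 28, 29, 30, 31, 32, 40, 37, 39, 38, 34, 36, 35, 33],
  [0, 1, 2, 5, 4, 3, 8, 7, 6, 18, 19, 20, 17, 14, 13, 15, 16, 12, 9, 10, 11, 23, 22, 21, 24, 27, 26, 25, 28, 40, 37, 39, 38, 33, 34, 35, 36, 30, 32, 31, 29],
  [0, 1, 5, 3, 4, 2, 7, 6, 8, 15, 16, 13, 14, 11, 12, 9, 10, 20, 18, 19, 17, 24, 22, 23, 21, 28, 26, 27, 25, 36, 35, 34, 33, 32, 31, 30, 29, 37, 38, 39, 40],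
  [0, 3, 4, 1, 5, 2, 18, 12, 14, 15, 9, 19, 8, 11, 6, 16, 17, 20, 7, 13, 10, 30, 35, 23, 39, 32, 33, 27, 40, 38, 22, 37, 26, 28, 31, 24, 29, 34, 36, 21, 25],
  [5, 1, 2, 3, 4, 0, 10, 14, 20, 9, 6, 19, 16, 13, 7, 18, 12, 17, 15, 11, 8, 21, 32, 36, 40, 25, 30, 34, 39, 29, 26, 31, 22, 33, 27, 35, 23, 37, 38, 28, 24],
  [5, 3, 4, 1, 2, 0, 15, 7, 16, 9, 18, 11, 20, 13, 14, 6, 8, 17, 10, 19, 12, 35, 26, 36, 28, 33, 22, 34, 24, 38, 32, 37, 30, 25, 27, 21, 23, 31, 29, 40, 39],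
  [5, 4, 3, 2, 1, 0, 6, 11, 12, 9, 10, 7, 8, 13, 19, 15, 20, 17, 18, 14, 16, 31, 32, 27, 28, 29, 30, 23, 24, 25, 26, 21, 22, 38, 36, 37, 34, 35, 33, 40, 39],
  [0, 1, 4, 3, 2, 5, 8, 7, 6, 17, 20, 19, 18, 13, 14, 16, 15, 9, 12, 11, 10, 21, 24, 23, 22, 25, 28, 27, 26, 38, 39, 37, 40, 33, 34, 35, 36, 31, 29, 30, 32],
  [0, 1, 3, 2, 4, 5, 6, 8, 7, 9, 10, 12, 11, 17, 20, 18, 19, 13, 15, 16, 14, 21, 22, 24, 23, 25, 26, 28, 27, 29, 30, 31, 32, 38, 39, 37, 40, 35, 33, 34, 36],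
  [1, 0, 4, 5, 2, 3, 6, 7, 8, 11, 12, 9, 10, 13, 14, 15, 16, 19, 20, 17, 18, 23, 24, 21, 22, 27, 28, 25, 26, 31, 32, 29, 30, 34, 33, 36, 35, 38, 37, 40, 39],
  [1, 0, 3, 2, 5, 4, 6, 7, 8, 9, 10, 11, 12, 15, 16, 13, 14, 18, 17, 20, 19, 22, 21, 24, 23, 26, 25, 28, 27, 30, 29, 32, 31, 35, 36, 33, 34, 38, 37, 40, 39],
  [1, 0, 2, 3, 4, 5, 6, 7, 8, 10, 9, 12, 11, 14, 13, 16, 15, 20, 19, 18, 17, 21, 22, 23, 24, 25, 26, 27, 28, 30, 29, 32, 31, 34, 33, 36, 35, 40, 39, 38, 37]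
]

def tab (j : Fin 12) (x : Fin 41) : Fin 41 := (tabL.getD j.val []).getD x.val 0

set_option maxRecDepth 100000 in
theorem tab_eq : ∀ (j : Fin 12) (x : Fin 41), tab j x = TableChain.act tab₀ (W j) x := by decide

/-- the chain data -/
def D : TableChain.Data Γ Row 12 41 := D₀.ofWords W tab tab_eq

def T0 : List (List (Fin 12)) := [
  [],
  [9],
  [2, 4],
  [1, 4],
  [0, 4],
  [4]
]

def E0 : List (List (ℕ × List (Fin 12))) := [
  [(0, [0]), (1, [1, 2, 1]), (2, [0, 2, 0]), (3, [0, 1, 0]), (5, []), (4, [])],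
  [(0, [1]), (1, [1]), (2, [1, 2, 1]), (5, []), (4, [0, 1, 0]), (3, [])],
  [(0, [2]), (1, [0, 1, 0]), (5, []), (3, [1, 2, 1]), (4, [0, 2, 0]), (2, [])],
  [(0, [3]), (3, [1, 3, 0, 2, 0, 1]), (4, [3, 2, 0]), (1, [1, 3, 2, 1]), (5, [3, 0]), (2, [3, 0])],
  [(5, []), (1, [3, 2, 0]), (2, [2]), (3, [1]), (4, [0]), (0, [])],
  [(5, [3, 0]), (3, [3, 2, 0, 1]), (4, [3, 0, 2]), (1, [1, 3, 2, 0]), (2, [3]), (0, [3, 0])],
  [(5, [0, 1, 3, 0, 2, 0, 1, 0]), (4, [0, 1, 3, 1, 2, 1]), (3, [0, 1, 3, 1, 0]), (2, [0, 1, 3, 0, 2, 1, 0]), (1, [2, 1, 3, 2, 1, 0]), (0, [0, 1, 3, 0, 2, 0, 1, 0])],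
  [(0, [0, 2, 0]), (1, [0, 2, 0]), (4, [0, 2, 0]), (3, [0, 2, 0]), (2, [0, 2, 0]), (5, [0, 2, 0])],
  [(0, [1, 2, 1]), (1, [0]), (3, [1, 2, 1]), (2, [1, 2, 1]), (4, [1, 2, 1]), (5, [1, 2, 1])],
  [(1, []), (0, []), (4, [1, 3, 0, 2, 1]), (5, [1, 3, 0, 1]), (2, [1, 3, 1]), (3, [1, 3, 0, 1])],
  [(1, [2, 0, 1, 0]), (0, [2, 0, 1, 0]), (3, [1, 3, 1]), (2, [1, 3, 0, 2, 1]), (5, [1, 3, 0, 2, 0, 1]), (4, [1, 3, 0, 2, 0, 1])],
  [(1, [0, 2, 0, 1]), (0, [0, 2, 0, 1]), (2, [1, 3, 2, 0, 1]), (3, [1, 3, 2, 0, 1]), (4, [1, 3, 2, 0, 1]), (5, [1, 3, 2, 0, 1])]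
]

set_option maxRecDepth 100000 in
theorem level0 : TableChain.LevelOK tab 12 4 0 T0 E0 :=
  ⟨by decide, by decide, by decide, by decide, by decide, by decide, by decide⟩

def T1 : List (List (Fin 12)) := [
  [],
  [2, 1, 3],
  [3],
  [0, 1, 3],
  [1, 3]
]

def E1 : List (List (ℕ × List (Fin 12))) := [
  [(0, [0]), (1, [2]), (2, [0, 2, 0]), (4, []), (3, [])],
  [(0, [1]), (1, [0]), (4, []), (3, [0, 2, 0]), (2, [])],
  [(0, [2]), (4, []), (2, [0]), (3, [2]), (1, [])],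
  [(2, []), (3, [0, 1, 0]), (0, [2, 0]), (4, [2, 0, 1, 0]), (1, [2, 0, 1, 0])]
]

set_option maxRecDepth 100000 in
theorem level1 : TableChain.LevelOK tab 4 3 1 T1 E1 :=
  ⟨by decide, by decide, by decide, by decide, by decide, by decide, by decide⟩

def T2 : List (List (Fin 12)) := [
  [],
  [1, 2],
  [0, 2],
  [2]
]

def E2 : List (List (ℕ × List (Fin 12))) := [
  [(0, [0]), (1, [0, 1, 0]), (3, []), (2, [])],
  [(0, [1]), (3, []), (2, [0, 1, 0]), (1, [])],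
  [(3, []), (1, [1]), (2, [0]), (0, [])]
]

set_option maxRecDepth 100000 in
theorem level2 : TableChain.LevelOK tab 3 2 2 T2 E2 :=
  ⟨by decide, by decide, by decide, by decide, by decide, by decide, by decide⟩

def T3 : List (List (Fin 12)) := [
  [],
  [0, 1],
  [1]
]

def E3 : List (List (ℕ × List (Fin 12))) := [
  [(0, [0]), (2, []), (1, [])],
  [(2, []), (1, [0]), (0, [])]
]

set_option maxRecDepth 100000 in
theorem level3 : TableChain.LevelOK tab 2 1 3 T3 E3 :=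
  ⟨by decide, by decide, by decide, by decide, by decide, by decide, by decide⟩

def T4 : List (List (Fin 12)) := [
  [],
  [0]
]

def E4 : List (List (ℕ × List (Fin 12))) := [
  [(1, []), (0, [])]
]

set_option maxRecDepth 100000 in
theorem level4 : TableChain.LevelOK tab 1 0 4 T4 E4 :=
  ⟨by decide, by decide, by decide, by decide, by decide, by decide, by decide⟩

set_option maxRecDepth 100000 in
theorem W_single : ∀ i : Fin 8, ∃ j : Fin 12, W j = [i] := by decide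

theorem H_top : D.H 12 = D₀.H 8 := D₀.ofWords_H_eq W tab tab_eq W_single

theorem card_H : Nat.card (D.H 12) = 720 := by
  rw [TableChain.Data.card (D := D) level0, TableChain.Data.card (D := D) level1,
    TableChain.Data.card (D := D) level2, TableChain.Data.card (D := D) level3,
    TableChain.Data.card (D := D) level4, TableChain.Data.card_H_zero]
  simp [T0, T1, T2, T3, T4]

/-! ### identification with the Chevalley group over `ZMod 2` -/

set_option maxRecDepth 100000 in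
theorem x_zero : ∀ r : Fin chevB2.nroots, chevB2.xMat K2 r 0 = 1 := by decide

theorem K2_cases : ∀ t : K2, t = 0 ∨ t = 1 := by decide

theorem group_eq : chevB2.group K2 = D₀.H 8 := by
  apply le_antisymm
  · rw [ChevalleyDatum.group, Subgroup.closure_le]
    rintro g ⟨r, t, hg⟩
    rcases K2_cases t with rfl | rfl
    · rw [x_zero] at hg
      have : g = 1 := Units.ext hg
      rw [this]
      exact one_mem _
    · have : g = D₀.gen ⟨r.val, r.isLt⟩ := Units.ext hg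
      rw [this]
      exact D₀.gen_mem _ r.isLt
  · rw [TableChain.Data.H, Subgroup.closure_le]
    rintro g ⟨j, -, rfl⟩
    exact Subgroup.subset_closure ⟨toR j, 1, rfl⟩

/-! ### the action on the orbit of six points -/

set_option maxRecDepth 100000 in
theorem base_in_orbit : ∀ b ∈ [(0 : Fin 41), 1, 2, 3, 4],
    ∃ a ∈ List.range T0.length, TableChain.act tab (T0.getD a []) 0 = b := by decide

theorem eq_one_of_fix {g : Γ} (hg : g ∈ D.H 12) (h0 : g • pt 0 = pt 0) (h1 : g • pt 1 = pt 1)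
    (h2 : g • pt 2 = pt 2) (h3 : g • pt 3 = pt 3) (h4 : g • pt 4 = pt 4) : g = 1 := by
  have m4 : g ∈ D.H 4 := by
    rw [← TableChain.Data.inf_stabilizer (D := D) level0]; exact ⟨hg, h0⟩
  have m3 : g ∈ D.H 3 := by
    rw [← TableChain.Data.inf_stabilizer (D := D) level1]; exact ⟨m4, h1⟩
  have m2 : g ∈ D.H 2 := by
    rw [← TableChain.Data.inf_stabilizer (D := D) level2]; exact ⟨m3, h2⟩
  have m1 : g ∈ D.H 1 := by
    rw [← TableChain.Data.inf_stabilizer (D := D) level3]; exact ⟨m2, h3⟩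
  have m0 : g ∈ D.H 0 := by
    rw [← TableChain.Data.inf_stabilizer (D := D) level4]; exact ⟨m1, h4⟩
  rw [TableChain.Data.H_zero] at m0
  exact Subgroup.mem_bot.1 m0

theorem equiv_perm : Nonempty (↥(D.H 12) ≃* Equiv.Perm (Fin 6)) := by
  classical
  have hcO : Nat.card (MulAction.orbit (D.H 12) (pt 0)) = 6 := by
    have h := TableChain.Data.card_orbit D level0
    rw [show T0.length = 6 from rfl] at h
    exact h
  have hmem : ∀ b ∈ [(0 : Fin 41), 1, 2, 3, 4], pt b ∈ MulAction.orbit (D.H 12) (pt 0) := by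
    intro b hb
    obtain ⟨a, ha, hab⟩ := base_in_orbit b hb
    have := TableChain.Data.orbit_eq D level0
    rw [show MulAction.orbit (D.H 12) (pt 0) = MulAction.orbit (D.H 12) (D.pt 0) from rfl, this]
    exact ⟨⟨a, List.mem_range.1 ha⟩, by
      show pt (TableChain.act tab (T0.getD a []) 0) = pt b
      rw [hab]⟩
  let φ : ↥(D.H 12) →* Equiv.Perm (MulAction.orbit (D.H 12) (pt 0)) :=
    MulAction.toPermHom (D.H 12) (MulAction.orbit (D.H 12) (pt 0))
  have hφ : Function.Injective φ := by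
    rw [← MonoidHom.ker_eq_bot_iff, eq_bot_iff]
    rintro ⟨g, hg⟩ hker
    rw [MonoidHom.mem_ker] at hker
    have hfix : ∀ b ∈ [(0 : Fin 41), 1, 2, 3, 4], g • pt b = pt b := by
      intro b hb
      have := congrArg (fun σ : Equiv.Perm (MulAction.orbit (D.H 12) (pt 0)) =>
        ((σ ⟨pt b, hmem b hb⟩ : MulAction.orbit (D.H 12) (pt 0)) : Row)) hker
      exact this
    have := eq_one_of_fix hg (hfix 0 (by simp)) (hfix 1 (by simp)) (hfix 2 (by simp))
      (hfix 3 (by simp)) (hfix 4 (by simp))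
    rw [Subgroup.mem_bot]
    exact Subtype.ext this
  have hfin : Finite (MulAction.orbit (D.H 12) (pt 0)) := Nat.finite_of_card_ne_zero (by rw [hcO]; norm_num)
  have hbij : Function.Bijective φ := by
    apply hφ.bijective_of_nat_card_le
    rw [card_H, Nat.card_perm, hcO]
    decide
  let e : MulAction.orbit (D.H 12) (pt 0) ≃ Fin 6 := Finite.equivFinOfCardEq hcO
  exact ⟨(MulEquiv.ofBijective φ hbij).trans e.permCongrHom⟩

/-! ### transfer to an arbitrary field with two elements -/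

theorem xMat_map {F K : Type*} [Field F] [Field K] (σ : F →+* K) (C : ChevalleyDatum)
    (r : Fin C.nroots) (t : F) : (C.xMat F r t).map σ = C.xMat K r (σ t) := by
  ext row col
  simp only [ChevalleyDatum.xMat, Matrix.map_apply, Matrix.of_apply]
  rcases col with i | s <;> rcases row with i' | u <;> simp only [] <;>
    (try split_ifs) <;> simp [map_mul, map_neg, map_intCast, map_pow, map_list_sum, List.map_map,
      Function.comp_def]

theorem group_map {F : Type*} [Field F] (σ : F ≃+* K2) :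
    (chevB2.group F).map (glCongr σ).toMonoidHom = chevB2.group K2 := by
  rw [ChevalleyDatum.group, MonoidHom.map_closure, ChevalleyDatum.group]
  congr 1
  ext g
  constructor
  · rintro ⟨g₀, ⟨r, t, hg₀⟩, rfl⟩
    refine ⟨r, σ t, ?_⟩
    show ((glCongr σ g₀ : GL I10 K2) : Matrix I10 I10 K2) = _
    rw [glCongr_coe, hg₀]
    exact xMat_map (σ : F →+* K2) chevB2 r t
  · rintro ⟨r, t, hg⟩
    refine ⟨(glCongr σ).symm g, ⟨r, σ.symm t, ?_⟩, ?_⟩
    · rw [glCongr_symm_coe, hg]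
      exact xMat_map (σ.symm : K2 →+* F) chevB2 r t
    · show glCongr σ ((glCongr σ).symm g) = g
      exact (glCongr σ).apply_symm_apply g

/-- B₂(2) ≅ S₆. -/
theorem result {F : Type*} [Field F] [Fintype F] (hF : Fintype.card F = 2) :
    Nonempty (↥(Cfsg.Lie.chevB2.group F) ≃* Equiv.Perm (Fin 6)) := by
  let σ : F ≃+* K2 := (ZMod.ringEquivOfPrime F Nat.prime_two hF).symm
  obtain ⟨e⟩ := equiv_perm
  have h1 : (chevB2.group F).map (glCongr σ).toMonoidHom = D.H 12 := by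
    rw [group_map σ, group_eq, H_top]
  exact ⟨((glCongr σ).subgroupMap (chevB2.group F)).trans ((MulEquiv.subgroupCongr h1).trans e)⟩

end Cfsg.Agent.S1058
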