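import Cfsg.Statements.S1057
import Cfsg.Agent.S1058
import Cfsg.Agent.Lib.Helper89.FieldTransfer
import Cfsg.Agent.Lib.Helper89.SimpleCert
import Cfsg.Agent.Lib.Helper89.G22B

set_option autoImplicit false
open Cfsg

namespace Cfsg.Agent.S1057

open Cfsg.Lie Cfsg.Agent.Lib.Helper89 Cfsg.Agent.Lib.Helper89.ClassicalTransfer Matrix
open Cfsg.Agent.Lib.Helper57.U33 (R9)

/-! `G₂(2)' ≅ PSU₃(3)`: transfer to the concrete fields `ZMod 2` and `R9`, then
`Lib/Helper89/G22A` (the derived subgroup of `G₂(2)` is the explicit subgroup `K₀` of order 6048)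
and `Lib/Helper89/G22B` (`K₀ ≃* SU₃(R9)`, by a verified diagonal subgroup), and the triviality of
the centre of `SU₃(3)` (helper57). -/

abbrev K2 := ZMod 2
abbrev I14 := chevG2.Idx

theorem group_map {F : Type*} [Field F] (σ : F ≃+* K2) :
    (chevG2.group F).map (glCongr σ).toMonoidHom = chevG2.group K2 := by
  rw [ChevalleyDatum.group, MonoidHom.map_closure, ChevalleyDatum.group]
  congr 1
  ext g
  constructor
  · rintro ⟨g₀, ⟨r, t, hg₀⟩, rfl⟩
    refine ⟨r, σ t, ?_⟩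
    show ((glCongr σ g₀ : GL I14 K2) : Matrix I14 I14 K2) = _
    rw [glCongr_coe, hg₀]
    exact Cfsg.Agent.S1058.xMat_map (σ : F →+* K2) chevG2 r t
  · rintro ⟨r, t, hg⟩
    refine ⟨(glCongr σ).symm g, ⟨r, σ.symm t, ?_⟩, ?_⟩
    · rw [glCongr_symm_coe, hg]
      exact Cfsg.Agent.S1058.xMat_map (σ.symm : K2 →+* F) chevG2 r t
    · show glCongr σ ((glCongr σ).symm g) = g
      exact (glCongr σ).apply_symm_apply g

/-- G₂(2)′ ≅ PSU₃(3). -/
theorem result {F K : Type*} [Field F] [Fintype F] [Field K] [Fintype K] (hF : Fintype.card F = 2) (hK : Fintype.card K = 9) :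
    Nonempty (↥(commutator ↥(Cfsg.Lie.chevG2.group F)) ≃* Cfsg.PSU 3 K 3) := by
  let σ : F ≃+* K2 := (ZMod.ringEquivOfPrime F Nat.prime_two hF).symm
  obtain ⟨i, hi⟩ := Cfsg.Agent.Lib.Helper57.U33.exists_i hK
  let τ : R9 ≃+* K := RingEquiv.ofBijective (Cfsg.Agent.Lib.Helper57.U33.phi hK i hi)
    (Cfsg.Agent.Lib.Helper57.U33.phi_bijective hK i hi)
  obtain ⟨e4⟩ := G22B.equiv_K0
  have e1 := SimpleCert.commutatorEquiv ⁅chevG2.group F, chevG2.group F⁆ (chevG2.group F) rfl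
  have e2 := (glCongr σ).subgroupMap ⁅chevG2.group F, chevG2.group F⁆
  have h3 : (⁅chevG2.group F, chevG2.group F⁆).map (glCongr σ).toMonoidHom = G22A.D.H 4 := by
    rw [Subgroup.map_commutator, group_map σ]
    show ⁅chevG2.group G22A.K2, chevG2.group G22A.K2⁆ = _
    rw [G22A.G_eq, G22A.comm_eq]
  have h9 : Fintype.card R9 = 9 := by rw [G22B.card_R9']; norm_num
  have e5 : G22B.G2 ≃* Cfsg.PSU 3 R9 3 :=
    (quotCenterEquivOfEqBot (Cfsg.Agent.Lib.Helper57.U33.center_eq_bot h9)).symm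
  exact ⟨e1.trans (e2.trans ((MulEquiv.subgroupCongr h3).trans (e4.trans (e5.trans (psuCongr τ 3 3)))))⟩

end Cfsg.Agent.S1057
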