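import Cfsg.Statements.S1061
import Cfsg.Agent.Lib.Helper36.ChevOrder
import Cfsg.Agent.Lib.Helper36.ChevPoinD4

set_option autoImplicit false
set_option maxHeartbeats 4000000
set_option maxRecDepth 100000
open Cfsg

namespace Cfsg.Agent.S1061

open Cfsg.Agent.Lib.Helper36 Cfsg.Agent.Lib.Helper18 Cfsg.Lie

/-- `gcd(2, q-1)² · |D₄(q)| = q¹² (q² - 1)(q⁴ - 1)(q⁴ - 1)(q⁶ - 1)`. -/
theorem result {F : Type*} [Field F] [Fintype F] {q : ℕ} (hq : Fintype.card F = q) : Nat.gcd 2 (q - 1) ^ 2 * Nat.card ↥(Cfsg.Lie.chevD4.group F) = q ^ 12 * (q ^ 2 - 1) * (q ^ 4 - 1) * (q ^ 4 - 1) * (q ^ 6 - 1) := by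
  have hq0 : 0 < q := hq ▸ Fintype.card_pos
  have hH := Cfsg.Agent.S1035.result hq (chevD4, Nat.gcd 2 (q - 1) ^ 2) (by simp)
  have hP := PoinD4.poin_univ q hq0
  have h := order_formula chevD4 PoinD4.hD F 4 rfl CoxD4.M CoxD4.A CoxD4.hA PoinD4.hAc PoinD4.finW
    CoxD4.rho_ker Cfsg.Agent.S1039.bD4 q hq (Nat.gcd 2 (q - 1) ^ 2) 12 _ (by decide) hH hP
  rw [h]
  simp only [PoinD4.exps0, PoinD4.exps1, PoinD4.exps2, PoinD4.exps3, List.map_cons, List.map_nil, List.sum_cons, List.sum_nil, pow_zero,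
    pow_one]
  have h1 : 1 ≤ q := hq0
  have h2 : 1 ≤ q ^ 2 := Nat.one_le_pow _ _ hq0
  have h4 : 1 ≤ q ^ 4 := Nat.one_le_pow _ _ hq0
  have h6 : 1 ≤ q ^ 6 := Nat.one_le_pow _ _ hq0
  apply Nat.cast_injective (R := ℤ)
  push_cast [Nat.cast_sub h1, Nat.cast_sub h2, Nat.cast_sub h4, Nat.cast_sub h6]
  ring

end Cfsg.Agent.S1061
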