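import Cfsg.Statements.S1065
import Cfsg.Agent.Lib.Helper36.ChevOrder
import Cfsg.Agent.Lib.Helper36.ChevPoinE8

set_option autoImplicit false
set_option maxHeartbeats 4000000
set_option maxRecDepth 100000
open Cfsg

namespace Cfsg.Agent.S1065

open Cfsg.Agent.Lib.Helper36 Cfsg.Agent.Lib.Helper18 Cfsg.Lie

/-- `|E₈(q)| = q¹²⁰ ∏_{d ∈ {2,8,12,14,18,20,24,30}} (q^d - 1)`. -/
theorem result {F : Type*} [Field F] [Fintype F] {q : ℕ} (hq : Fintype.card F = q) : Nat.card ↥(Cfsg.Lie.chevE8.group F) = q ^ 120 * (q ^ 2 - 1) * (q ^ 8 - 1) * (q ^ 12 - 1) * (q ^ 14 - 1) * (q ^ 18 - 1) * (q ^ 20 - 1) * (q ^ 24 - 1) * (q ^ 30 - 1) := by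
  have hq0 : 0 < q := hq ▸ Fintype.card_pos
  have hH := Cfsg.Agent.S1035.result hq (chevE8, 1) (by simp)
  have hP := PoinE8.poin_univ q hq0
  have h := order_formula chevE8 PoinE8.hD F 8 rfl CoxE8.M CoxE8.A CoxE8.hA PoinE8.hAc PoinE8.finW
    CoxE8.rho_ker Cfsg.Agent.S1039.bE8 q hq (1) 120 _ (by decide) hH hP
  rw [one_mul] at h
  rw [h]
  simp only [PoinE8.exps0, PoinE8.exps1, PoinE8.exps2, PoinE8.exps3, PoinE8.exps4, PoinE8.exps5, PoinE8.exps6, PoinE8.exps7, List.map_cons, List.map_nil, List.sum_cons, List.sum_nil, pow_zero,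
    pow_one]
  have h1 : 1 ≤ q := hq0
  have h2 : 1 ≤ q ^ 2 := Nat.one_le_pow _ _ hq0
  have h8 : 1 ≤ q ^ 8 := Nat.one_le_pow _ _ hq0
  have h12 : 1 ≤ q ^ 12 := Nat.one_le_pow _ _ hq0
  have h14 : 1 ≤ q ^ 14 := Nat.one_le_pow _ _ hq0
  have h18 : 1 ≤ q ^ 18 := Nat.one_le_pow _ _ hq0
  have h20 : 1 ≤ q ^ 20 := Nat.one_le_pow _ _ hq0
  have h24 : 1 ≤ q ^ 24 := Nat.one_le_pow _ _ hq0
  have h30 : 1 ≤ q ^ 30 := Nat.one_le_pow _ _ hq0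
  apply Nat.cast_injective (R := ℤ)
  push_cast [Nat.cast_sub h1, Nat.cast_sub h2, Nat.cast_sub h8, Nat.cast_sub h12, Nat.cast_sub h14, Nat.cast_sub h18, Nat.cast_sub h20, Nat.cast_sub h24, Nat.cast_sub h30]
  ring

end Cfsg.Agent.S1065
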