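import Cfsg.Statements.S1104
import Cfsg.Agent.Lib.Helper36.ChevTwPerf

set_option autoImplicit false
open Cfsg

namespace Cfsg.Agent.S1104

/-- ²E₆(q) equals its derived subgroup. -/
theorem result {K : Type*} [Field K] [Fintype K] {q : ℕ} (hq : IsPrimePow q) (hK : Fintype.card K = q ^ 2) : commutator ↥(Cfsg.Lie.twistedE6 K q) = ⊤ := by
  classical
  have hD : Cfsg.Lie.chevE6 ∈ [Cfsg.Lie.chevG2, Cfsg.Lie.chevB2, Cfsg.Lie.chevD4, Cfsg.Lie.chevF4, Cfsg.Lie.chevE6,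
      Cfsg.Lie.chevE7, Cfsg.Lie.chevE8] := by simp
  obtain ⟨p, k, hp, hk, rfl⟩ := hq
  have hp' : p.Prime := Nat.prime_iff.2 hp
  -- characteristic
  have hpK : (p : K) = 0 := by
    have h0 : ((Fintype.card K : ℕ) : K) = 0 := Nat.cast_card_eq_zero K
    rw [hK, Nat.cast_pow, Nat.cast_pow] at h0
    exact pow_eq_zero_iff (by positivity) |>.1 (pow_eq_zero_iff (by norm_num) |>.1 h0)
  have : CharP K p := (CharP.charP_iff_prime_eq_zero hp').2 hpK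
  have : ExpChar K p := ExpChar.prime hp'
  set q := p ^ k with hqdef
  let φ : K →+* K := iterateFrobenius K p k
  have hφ : ∀ t : K, φ t = t ^ q := fun t => iterateFrobenius_def p k t
  -- the field is large
  have hcard : 4 ≤ Fintype.card K := by
    rw [hK]
    have : 2 ≤ q := by
      rw [hqdef]
      calc 2 ≤ p := hp'.two_le
        _ = p ^ 1 := (pow_one p).symm
        _ ≤ p ^ k := Nat.pow_le_pow_right hp'.pos hk
    calc 4 = 2 ^ 2 := by norm_num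
      _ ≤ q ^ 2 := Nat.pow_le_pow_left this 2
  obtain ⟨s, hs⟩ : ∃ s : K, s ∉ ({0, 1, -1} : Finset K) := by
    by_contra hcon
    push Not at hcon
    have : (Finset.univ : Finset K) ⊆ {0, 1, -1} := fun x _ => hcon x
    have h1 := Finset.card_le_card this
    rw [Finset.card_univ] at h1
    have h2 : ({0, 1, -1} : Finset K).card ≤ 3 := Finset.card_le_three
    omega
  simp only [Finset.mem_insert, Finset.mem_singleton, not_or] at hs
  obtain ⟨hs0, hs1, hs2⟩ := hs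
  have hs2' : s ^ 2 ≠ 1 := by
    intro e
    have : (s - 1) * (s + 1) = 0 := by linear_combination e
    rcases mul_eq_zero.1 this with h | h
    · exact hs1 (sub_eq_zero.1 h)
    · exact hs2 (eq_neg_of_add_eq_zero_left h)
  -- the group
  set T := Cfsg.Lie.twistedE6 K q with hT
  let L1 : List (ℕ × (K →+* K)) := [(56, RingHom.id K), (36, φ)]
  let L2 : List (ℕ × (K →+* K)) := [(42, RingHom.id K), (37, φ)]
  have hL1 : L1.Pairwise fun a b => Cfsg.Agent.Lib.Helper36.SO Cfsg.Lie.chevE6 hD K a.1 b.1 := by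
    simp only [L1, List.pairwise_cons, List.mem_cons, List.not_mem_nil, or_false, forall_eq,
      IsEmpty.forall_iff, implies_true, List.Pairwise.nil, and_true]
    exact Cfsg.Agent.Lib.Helper36.so_of_chk _ hD K 56 36 (by decide +kernel)
  have hL2 : L2.Pairwise fun a b => Cfsg.Agent.Lib.Helper36.SO Cfsg.Lie.chevE6 hD K a.1 b.1 := by
    simp only [L2, List.pairwise_cons, List.mem_cons, List.not_mem_nil, or_false, forall_eq,
      IsEmpty.forall_iff, implies_true, List.Pairwise.nil, and_true]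
    exact Cfsg.Agent.Lib.Helper36.so_of_chk _ hD K 42 37 (by decide +kernel)
  have hL1r : ∀ a ∈ L1, a.1 < Cfsg.Lie.chevE6.nroots := by
    simp only [L1, List.mem_cons, List.not_mem_nil, or_false, forall_eq_or_imp, forall_eq]
    decide
  have hL2r : ∀ a ∈ L2, a.1 < Cfsg.Lie.chevE6.nroots := by
    simp only [L2, List.mem_cons, List.not_mem_nil, or_false, forall_eq_or_imp, forall_eq]
    decide
  have hgen : ∀ w ∈ Cfsg.Lie.e6Words K q, Cfsg.Agent.Lib.Helper36.wordGL Cfsg.Lie.chevE6 hD K w ∈ T := by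
    intro w hw
    exact Subgroup.subset_closure ⟨w, hw, Cfsg.Agent.Lib.Helper36.wordGL_coe _ hD K w⟩
  have n56 : Cfsg.Lie.chevE6.neg 56 = 15 := by decide
  have n36 : Cfsg.Lie.chevE6.neg 36 = 35 := by decide
  have n42 : Cfsg.Lie.chevE6.neg 42 = 29 := by decide
  have n37 : Cfsg.Lie.chevE6.neg 37 = 34 := by decide
  have n46 : Cfsg.Lie.chevE6.neg 46 = 25 := by decide
  have n39 : Cfsg.Lie.chevE6.neg 39 = 32 := by decide
  have hT11 : ∀ t, Cfsg.Agent.Lib.Helper36.bw Cfsg.Lie.chevE6 hD K L1 t ∈ T := by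
    intro t
    have := hgen [(56, t), (36, t ^ q)] (Or.inr ⟨t, (Cfsg.Lie.e6p1, Cfsg.Lie.e6p6), by simp, rfl⟩)
    simpa [Cfsg.Agent.Lib.Helper36.bw, Cfsg.Agent.Lib.Helper36.wordGL, L1, hφ] using this
  have hT12 : ∀ t, Cfsg.Agent.Lib.Helper36.bwN Cfsg.Lie.chevE6 hD K L1 t ∈ T := by
    intro t
    have := hgen [(15, t), (35, t ^ q)] (Or.inr ⟨t, (Cfsg.Lie.e6m1, Cfsg.Lie.e6m6), by simp, rfl⟩)
    simpa [Cfsg.Agent.Lib.Helper36.bwN, Cfsg.Agent.Lib.Helper36.wordGL, L1, hφ, n56, n36] using this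
  have hT21 : ∀ t, Cfsg.Agent.Lib.Helper36.bw Cfsg.Lie.chevE6 hD K L2 t ∈ T := by
    intro t
    have := hgen [(42, t), (37, t ^ q)] (Or.inr ⟨t, (Cfsg.Lie.e6p3, Cfsg.Lie.e6p5), by simp, rfl⟩)
    simpa [Cfsg.Agent.Lib.Helper36.bw, Cfsg.Agent.Lib.Helper36.wordGL, L2, hφ] using this
  have hT22 : ∀ t, Cfsg.Agent.Lib.Helper36.bwN Cfsg.Lie.chevE6 hD K L2 t ∈ T := by
    intro t
    have := hgen [(29, t), (34, t ^ q)] (Or.inr ⟨t, (Cfsg.Lie.e6m3, Cfsg.Lie.e6m5), by simp, rfl⟩)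
    simpa [Cfsg.Agent.Lib.Helper36.bwN, Cfsg.Agent.Lib.Helper36.wordGL, L2, hφ, n42, n37] using this
  have hA : ∀ r ∈ [46, 25, 39, 32], ∀ t, φ t = t → Cfsg.Agent.Lib.Helper36.xGL Cfsg.Lie.chevE6 hD K r t ∈ T := by
    intro r hr t ht
    have := hgen [(r, t)] (Or.inl ⟨t, by rw [← hφ]; exact ht, r, by
      simpa [Cfsg.Lie.e6p2, Cfsg.Lie.e6m2, Cfsg.Lie.e6p4, Cfsg.Lie.e6m4] using hr, rfl⟩)
    simpa [Cfsg.Agent.Lib.Helper36.wordGL] using this
  have hA46 := hA 46 (by simp)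
  have hA25 := hA 25 (by simp)
  have hA39 := hA 39 (by simp)
  have hA32 := hA 32 (by simp)
  -- Weyl elements in T
  have hn2 : Cfsg.Agent.Lib.Helper36.nWordGL Cfsg.Lie.chevE6 hD K [1] ∈ T := by
    have e1 : Cfsg.Lie.chevE6.simple 1 = 46 := by decide
    have : Cfsg.Agent.Lib.Helper36.nWordGL Cfsg.Lie.chevE6 hD K [1] =
        Cfsg.Agent.Lib.Helper36.nGL Cfsg.Lie.chevE6 hD K 46 1 := by
      simp [Cfsg.Agent.Lib.Helper36.nWordGL, e1]
    rw [this, Cfsg.Agent.Lib.Helper36.nGL_eq, n46]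
    refine mul_mem (mul_mem (hA46 1 (map_one φ)) (hA25 _ ?_)) (hA46 1 (map_one φ))
    rw [map_neg, map_inv₀, map_one]
  have hn4 : Cfsg.Agent.Lib.Helper36.nWordGL Cfsg.Lie.chevE6 hD K [3] ∈ T := by
    have e1 : Cfsg.Lie.chevE6.simple 3 = 39 := by decide
    have : Cfsg.Agent.Lib.Helper36.nWordGL Cfsg.Lie.chevE6 hD K [3] =
        Cfsg.Agent.Lib.Helper36.nGL Cfsg.Lie.chevE6 hD K 39 1 := by
      simp [Cfsg.Agent.Lib.Helper36.nWordGL, e1]
    rw [this, Cfsg.Agent.Lib.Helper36.nGL_eq, n39]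
    refine mul_mem (mul_mem (hA39 1 (map_one φ)) (hA32 _ ?_)) (hA39 1 (map_one φ))
    rw [map_neg, map_inv₀, map_one]
  have hrank : Cfsg.Lie.chevE6.rank = 6 := by decide
  -- x_{p2+p4}(t) ∈ T'
  have h47 : ∀ t, φ t = t → Cfsg.Agent.Lib.Helper36.xGL Cfsg.Lie.chevE6 hD K 47 t ∈ ⁅T, T⁆ := by
    intro t ht
    have := Cfsg.Agent.Lib.Helper36.comm_single_mem Cfsg.Lie.chevE6 hD K T 46 39 47 (-1) (by decide) (by decide)
      (by decide) (by decide) (by decide +kernel) 1 t (hA46 _ (map_one φ)) (hA39 t ht)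
    simpa using this
  have hM : ∀ g ∈ T, ∀ c ∈ ⁅T, T⁆, g * c * g⁻¹ ∈ ⁅T, T⁆ :=
    fun g hg c hc => Cfsg.Agent.Lib.Helper36.conj_mem_comm Cfsg.Lie.chevE6 K T g c hg hc
  have hB39 : ∀ t, φ t = t → Cfsg.Agent.Lib.Helper36.xGL Cfsg.Lie.chevE6 hD K 39 t ∈ ⁅T, T⁆ := by
    have e : Cfsg.Agent.Lib.Helper36.wRoot Cfsg.Lie.chevE6 [1] 47 = 39 := by decide +kernel
    rw [← e]
    exact Cfsg.Agent.Lib.Helper36.conj_word_mem Cfsg.Lie.chevE6 hD K T ⁅T, T⁆ hM φ [1]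
      (by rw [hrank]; simp) hn2 47 (by decide) h47
  have hB46 : ∀ t, φ t = t → Cfsg.Agent.Lib.Helper36.xGL Cfsg.Lie.chevE6 hD K 46 t ∈ ⁅T, T⁆ := by
    have e : Cfsg.Agent.Lib.Helper36.wRoot Cfsg.Lie.chevE6 [3] 47 = 46 := by decide +kernel
    rw [← e]
    exact Cfsg.Agent.Lib.Helper36.conj_word_mem Cfsg.Lie.chevE6 hD K T ⁅T, T⁆ hM φ [3]
      (by rw [hrank]; simp) hn4 47 (by decide) h47
  have hB25 : ∀ t, φ t = t → Cfsg.Agent.Lib.Helper36.xGL Cfsg.Lie.chevE6 hD K 25 t ∈ ⁅T, T⁆ := by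
    have e : Cfsg.Agent.Lib.Helper36.wRoot Cfsg.Lie.chevE6 [1] 46 = 25 := by decide +kernel
    rw [← e]
    exact Cfsg.Agent.Lib.Helper36.conj_word_mem Cfsg.Lie.chevE6 hD K T ⁅T, T⁆ hM φ [1]
      (by rw [hrank]; simp) hn2 46 (by decide) hB46
  have hB32 : ∀ t, φ t = t → Cfsg.Agent.Lib.Helper36.xGL Cfsg.Lie.chevE6 hD K 32 t ∈ ⁅T, T⁆ := by
    have e : Cfsg.Agent.Lib.Helper36.wRoot Cfsg.Lie.chevE6 [3] 39 = 32 := by decide +kernel
    rw [← e]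
    exact Cfsg.Agent.Lib.Helper36.conj_word_mem Cfsg.Lie.chevE6 hD K T ⁅T, T⁆ hM φ [3]
      (by rw [hrank]; simp) hn4 39 (by decide) hB39
  have hO1 := Cfsg.Agent.Lib.Helper36.orbit_mem_commutator Cfsg.Lie.chevE6 hD K L1 hL1 hL1r T hT11 hT12 s hs0 hs2'
  have hO2 := Cfsg.Agent.Lib.Helper36.orbit_mem_commutator Cfsg.Lie.chevE6 hD K L2 hL2 hL2r T hT21 hT22 s hs0 hs2'
  -- conclusion
  apply Cfsg.Agent.Lib.Helper36.perfect_of_gens Cfsg.Lie.chevE6 K T _ rfl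
  rintro g ⟨w, hw, hg⟩
  have eg : g = Cfsg.Agent.Lib.Helper36.wordGL Cfsg.Lie.chevE6 hD K w :=
    Units.ext (by rw [hg, Cfsg.Agent.Lib.Helper36.wordGL_coe])
  rw [eg]
  rcases hw with ⟨t, ht, r, hr, rfl⟩ | ⟨t, rs, hrs, rfl⟩
  · have ht' : φ t = t := by rw [hφ]; exact ht
    simp only [Cfsg.Lie.e6p2, Cfsg.Lie.e6m2, Cfsg.Lie.e6p4, Cfsg.Lie.e6m4, List.mem_cons, List.not_mem_nil,
      or_false] at hr
    rcases hr with rfl | rfl | rfl | rfl
    · simpa [Cfsg.Agent.Lib.Helper36.wordGL] using hB46 t ht'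
    · simpa [Cfsg.Agent.Lib.Helper36.wordGL] using hB25 t ht'
    · simpa [Cfsg.Agent.Lib.Helper36.wordGL] using hB39 t ht'
    · simpa [Cfsg.Agent.Lib.Helper36.wordGL] using hB32 t ht'
  · simp only [Cfsg.Lie.e6p1, Cfsg.Lie.e6p6, Cfsg.Lie.e6m1, Cfsg.Lie.e6m6, Cfsg.Lie.e6p3, Cfsg.Lie.e6p5,
      Cfsg.Lie.e6m3, Cfsg.Lie.e6m5, List.mem_cons, List.not_mem_nil, or_false] at hrs
    rcases hrs with rfl | rfl | rfl | rfl
    · have := (hO1 t).1
      simpa [Cfsg.Agent.Lib.Helper36.bw, Cfsg.Agent.Lib.Helper36.wordGL, L1, hφ] using this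
    · have := (hO1 t).2
      simpa [Cfsg.Agent.Lib.Helper36.bwN, Cfsg.Agent.Lib.Helper36.wordGL, L1, hφ, n56, n36] using this
    · have := (hO2 t).1
      simpa [Cfsg.Agent.Lib.Helper36.bw, Cfsg.Agent.Lib.Helper36.wordGL, L2, hφ] using this
    · have := (hO2 t).2
      simpa [Cfsg.Agent.Lib.Helper36.bwN, Cfsg.Agent.Lib.Helper36.wordGL, L2, hφ, n42, n37] using this

end Cfsg.Agent.S1104
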