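import Cfsg.Statements.S1108
import Cfsg.Agent.Lib.Helper36.ChevTwPerf

set_option autoImplicit false
open Cfsg

namespace Cfsg.Agent.S1108

/-- ³D₄(q) equals its derived subgroup. -/
theorem result {K : Type*} [Field K] [Fintype K] {q : ℕ} (hq : IsPrimePow q) (hK : Fintype.card K = q ^ 3) : commutator ↥(Cfsg.Lie.twistedD4 K q) = ⊤ := by
  classical
  have hD : Cfsg.Lie.chevD4 ∈ [Cfsg.Lie.chevG2, Cfsg.Lie.chevB2, Cfsg.Lie.chevD4, Cfsg.Lie.chevF4, Cfsg.Lie.chevE6,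
      Cfsg.Lie.chevE7, Cfsg.Lie.chevE8] := by simp
  obtain ⟨p, k, hp, hk, rfl⟩ := hq
  have hp' : p.Prime := Nat.prime_iff.2 hp
  -- characteristic
  have hpK : (p : K) = 0 := by
    have h0 : ((Fintype.card K : ℕ) : K) = 0 := Nat.cast_card_eq_zero K
    rw [hK, Nat.cast_pow, Nat.cast_pow] at h0
    exact pow_eq_zero_iff (by positivity) |>.1 (pow_eq_zero_iff (by norm_num) |>.1 h0)
  have : CharP K p := (CharP.charP_iff_prime_eq_zero hp').2 hpK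
  have : ExpChar K p := ExpChar.prime hp'
  set q := p ^ k with hqdef
  let φ : K →+* K := iterateFrobenius K p k
  have hφ : ∀ t : K, φ t = t ^ q := fun t => iterateFrobenius_def p k t
  have hφ2 : ∀ t : K, (φ.comp φ) t = t ^ (q ^ 2) := by
    intro t
    rw [RingHom.comp_apply, hφ, hφ, ← pow_mul, sq]
  -- the field is large
  have hcard : 8 ≤ Fintype.card K := by
    rw [hK]
    have : 2 ≤ q := by
      rw [hqdef]
      calc 2 ≤ p := hp'.two_le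
        _ = p ^ 1 := (pow_one p).symm
        _ ≤ p ^ k := Nat.pow_le_pow_right hp'.pos hk
    calc 8 = 2 ^ 3 := by norm_num
      _ ≤ q ^ 3 := Nat.pow_le_pow_left this 3
  obtain ⟨s, hs⟩ : ∃ s : K, s ∉ ({0, 1, -1} : Finset K) := by
    by_contra hcon
    push Not at hcon
    have : (Finset.univ : Finset K) ⊆ {0, 1, -1} := fun x _ => hcon x
    have h1 := Finset.card_le_card this
    rw [Finset.card_univ] at h1
    have h2 : ({0, 1, -1} : Finset K).card ≤ 3 := Finset.card_le_three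
    omega
  simp only [Finset.mem_insert, Finset.mem_singleton, not_or] at hs
  obtain ⟨hs0, hs1, hs2⟩ := hs
  have hs2' : s ^ 2 ≠ 1 := by
    intro e
    have : (s - 1) * (s + 1) = 0 := by linear_combination e
    rcases mul_eq_zero.1 this with h | h
    · exact hs1 (sub_eq_zero.1 h)
    · exact hs2 (eq_neg_of_add_eq_zero_left h)
  -- the group
  set T := Cfsg.Lie.twistedD4 K q with hT
  let L : List (ℕ × (K →+* K)) := [(18, RingHom.id K), (13, φ), (12, φ.comp φ)]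
  have hL : L.Pairwise fun a b => Cfsg.Agent.Lib.Helper36.SO Cfsg.Lie.chevD4 hD K a.1 b.1 := by
    simp only [L, List.pairwise_cons, List.mem_cons, List.not_mem_nil, or_false, forall_eq_or_imp, forall_eq,
      IsEmpty.forall_iff, implies_true, List.Pairwise.nil, and_true]
    exact ⟨⟨Cfsg.Agent.Lib.Helper36.so_of_chk _ hD K 18 13 (by decide),
      Cfsg.Agent.Lib.Helper36.so_of_chk _ hD K 18 12 (by decide)⟩,
      Cfsg.Agent.Lib.Helper36.so_of_chk _ hD K 13 12 (by decide)⟩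
  have hLr : ∀ a ∈ L, a.1 < Cfsg.Lie.chevD4.nroots := by
    simp only [L, List.mem_cons, List.not_mem_nil, or_false, forall_eq_or_imp, forall_eq]
    decide
  have hgen : ∀ w ∈ Cfsg.Lie.d4Words K q, Cfsg.Agent.Lib.Helper36.wordGL Cfsg.Lie.chevD4 hD K w ∈ T := by
    intro w hw
    exact Subgroup.subset_closure ⟨w, hw, Cfsg.Agent.Lib.Helper36.wordGL_coe _ hD K w⟩
  have hT1 : ∀ t, Cfsg.Agent.Lib.Helper36.bw Cfsg.Lie.chevD4 hD K L t ∈ T := by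
    intro t
    have := hgen [(18, t), (13, t ^ q), (12, t ^ (q ^ 2))]
      (Or.inr ⟨t, (Cfsg.Lie.d4p1, Cfsg.Lie.d4p3, Cfsg.Lie.d4p4), by simp, rfl⟩)
    simpa [Cfsg.Agent.Lib.Helper36.bw, Cfsg.Agent.Lib.Helper36.wordGL, L, hφ, hφ2] using this
  have hT2 : ∀ t, Cfsg.Agent.Lib.Helper36.bwN Cfsg.Lie.chevD4 hD K L t ∈ T := by
    intro t
    have := hgen [(5, t), (10, t ^ q), (11, t ^ (q ^ 2))]
      (Or.inr ⟨t, (Cfsg.Lie.d4m1, Cfsg.Lie.d4m3, Cfsg.Lie.d4m4), by simp, rfl⟩)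
    have e1 : Cfsg.Lie.chevD4.neg 18 = 5 := by decide
    have e2 : Cfsg.Lie.chevD4.neg 13 = 10 := by decide
    have e3 : Cfsg.Lie.chevD4.neg 12 = 11 := by decide
    simpa [Cfsg.Agent.Lib.Helper36.bwN, Cfsg.Agent.Lib.Helper36.wordGL, L, hφ, hφ2, e1, e2, e3] using this
  have hA1 : ∀ t, φ t = t → Cfsg.Agent.Lib.Helper36.xGL Cfsg.Lie.chevD4 hD K 14 t ∈ T := by
    intro t ht
    have := hgen [(14, t)] (Or.inl ⟨t, by rw [← hφ]; exact ht, Cfsg.Lie.d4p2, by simp, rfl⟩)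
    simpa [Cfsg.Agent.Lib.Helper36.wordGL] using this
  have hA2 : ∀ t, φ t = t → Cfsg.Agent.Lib.Helper36.xGL Cfsg.Lie.chevD4 hD K 9 t ∈ T := by
    intro t ht
    have := hgen [(9, t)] (Or.inl ⟨t, by rw [← hφ]; exact ht, Cfsg.Lie.d4m2, by simp, rfl⟩)
    simpa [Cfsg.Agent.Lib.Helper36.wordGL] using this
  -- Weyl elements in T
  have hn1 : Cfsg.Agent.Lib.Helper36.nWordGL Cfsg.Lie.chevD4 hD K [0, 2, 3] ∈ T := by
    have h1 := Cfsg.Agent.Lib.Helper36.bw_triple Cfsg.Lie.chevD4 hD K L hL 1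
    have h2 : Cfsg.Agent.Lib.Helper36.nw Cfsg.Lie.chevD4 hD K L 1 =
        Cfsg.Agent.Lib.Helper36.nWordGL Cfsg.Lie.chevD4 hD K [0, 2, 3] := by
      have e1 : Cfsg.Lie.chevD4.simple 0 = 18 := by decide
      have e2 : Cfsg.Lie.chevD4.simple 2 = 13 := by decide
      have e3 : Cfsg.Lie.chevD4.simple 3 = 12 := by decide
      simp [Cfsg.Agent.Lib.Helper36.nw, Cfsg.Agent.Lib.Helper36.nWordGL, L, e1, e2, e3]
    rw [← h2, ← h1]
    exact mul_mem (mul_mem (hT1 _) (hT2 _)) (hT1 _)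
  have hn2 : Cfsg.Agent.Lib.Helper36.nWordGL Cfsg.Lie.chevD4 hD K [1] ∈ T := by
    have e1 : Cfsg.Lie.chevD4.simple 1 = 14 := by decide
    have e2 : Cfsg.Lie.chevD4.neg 14 = 9 := by decide
    have : Cfsg.Agent.Lib.Helper36.nWordGL Cfsg.Lie.chevD4 hD K [1] =
        Cfsg.Agent.Lib.Helper36.nGL Cfsg.Lie.chevD4 hD K 14 1 := by
      simp [Cfsg.Agent.Lib.Helper36.nWordGL, e1]
    rw [this, Cfsg.Agent.Lib.Helper36.nGL_eq, e2]
    refine mul_mem (mul_mem (hA1 1 (map_one φ)) (hA2 _ ?_)) (hA1 1 (map_one φ))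
    rw [map_neg, map_inv₀, map_one]
  have hn3 : Cfsg.Agent.Lib.Helper36.nWordGL Cfsg.Lie.chevD4 hD K [0, 2, 3, 1] ∈ T := by
    have : Cfsg.Agent.Lib.Helper36.nWordGL Cfsg.Lie.chevD4 hD K [0, 2, 3, 1] =
        Cfsg.Agent.Lib.Helper36.nWordGL Cfsg.Lie.chevD4 hD K [0, 2, 3] *
          Cfsg.Agent.Lib.Helper36.nWordGL Cfsg.Lie.chevD4 hD K [1] := by
      simp [Cfsg.Agent.Lib.Helper36.nWordGL, mul_assoc]
    rw [this]
    exact mul_mem hn1 hn2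
  have hrank : Cfsg.Lie.chevD4.rank = 4 := by decide
  -- x_δ(t) ∈ T
  have hδ : ∀ t, φ t = t → Cfsg.Agent.Lib.Helper36.xGL Cfsg.Lie.chevD4 hD K 22 t ∈ T := by
    have e : Cfsg.Agent.Lib.Helper36.wRoot Cfsg.Lie.chevD4 [0, 2, 3] 14 = 22 := by decide
    rw [← e]
    exact Cfsg.Agent.Lib.Helper36.conj_word_mem Cfsg.Lie.chevD4 hD K T T
      (fun g hg c hc => mul_mem (mul_mem hg hc) (inv_mem hg)) φ [0, 2, 3]
      (by rw [hrank]; simp) hn1 14 (by decide) hA1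
  -- x_ρ(t) ∈ T'
  have hρ : ∀ t, φ t = t → Cfsg.Agent.Lib.Helper36.xGL Cfsg.Lie.chevD4 hD K 23 t ∈ ⁅T, T⁆ := by
    intro t ht
    have := Cfsg.Agent.Lib.Helper36.comm_single_mem Cfsg.Lie.chevD4 hD K T 14 22 23 1 (by decide) (by decide)
      (by decide) (by decide) (by decide) (-1) t (hA1 _ (by rw [map_neg, map_one])) (hδ t ht)
    simpa using this
  have hM : ∀ g ∈ T, ∀ c ∈ ⁅T, T⁆, g * c * g⁻¹ ∈ ⁅T, T⁆ :=
    fun g hg c hc => Cfsg.Agent.Lib.Helper36.conj_mem_comm Cfsg.Lie.chevD4 K T g c hg hc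
  have hB1 : ∀ t, φ t = t → Cfsg.Agent.Lib.Helper36.xGL Cfsg.Lie.chevD4 hD K 14 t ∈ ⁅T, T⁆ := by
    have e : Cfsg.Agent.Lib.Helper36.wRoot Cfsg.Lie.chevD4 [0, 2, 3, 1] 23 = 14 := by decide
    rw [← e]
    exact Cfsg.Agent.Lib.Helper36.conj_word_mem Cfsg.Lie.chevD4 hD K T ⁅T, T⁆ hM φ [0, 2, 3, 1]
      (by rw [hrank]; simp) hn3 23 (by decide) hρ
  have hB2 : ∀ t, φ t = t → Cfsg.Agent.Lib.Helper36.xGL Cfsg.Lie.chevD4 hD K 9 t ∈ ⁅T, T⁆ := by
    have e : Cfsg.Agent.Lib.Helper36.wRoot Cfsg.Lie.chevD4 [1] 14 = 9 := by decide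
    rw [← e]
    exact Cfsg.Agent.Lib.Helper36.conj_word_mem Cfsg.Lie.chevD4 hD K T ⁅T, T⁆ hM φ [1]
      (by rw [hrank]; simp) hn2 14 (by decide) hB1
  have hO := Cfsg.Agent.Lib.Helper36.orbit_mem_commutator Cfsg.Lie.chevD4 hD K L hL hLr T hT1 hT2 s hs0 hs2'
  -- conclusion
  apply Cfsg.Agent.Lib.Helper36.perfect_of_gens Cfsg.Lie.chevD4 K T _ rfl
  rintro g ⟨w, hw, hg⟩
  have eg : g = Cfsg.Agent.Lib.Helper36.wordGL Cfsg.Lie.chevD4 hD K w :=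
    Units.ext (by rw [hg, Cfsg.Agent.Lib.Helper36.wordGL_coe])
  rw [eg]
  rcases hw with ⟨t, ht, r, hr, rfl⟩ | ⟨t, rs, hrs, rfl⟩
  · have ht' : φ t = t := by rw [hφ]; exact ht
    simp only [Cfsg.Lie.d4p2, Cfsg.Lie.d4m2, List.mem_cons, List.not_mem_nil, or_false] at hr
    rcases hr with rfl | rfl
    · simpa [Cfsg.Agent.Lib.Helper36.wordGL] using hB1 t ht'
    · simpa [Cfsg.Agent.Lib.Helper36.wordGL] using hB2 t ht'
  · simp only [Cfsg.Lie.d4p1, Cfsg.Lie.d4p3, Cfsg.Lie.d4p4, Cfsg.Lie.d4m1, Cfsg.Lie.d4m3, Cfsg.Lie.d4m4,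
      List.mem_cons, List.not_mem_nil, or_false] at hrs
    rcases hrs with rfl | rfl
    · have := (hO t).1
      simpa [Cfsg.Agent.Lib.Helper36.bw, Cfsg.Agent.Lib.Helper36.wordGL, L, hφ, hφ2] using this
    · have := (hO t).2
      have e1 : Cfsg.Lie.chevD4.neg 18 = 5 := by decide
      have e2 : Cfsg.Lie.chevD4.neg 13 = 10 := by decide
      have e3 : Cfsg.Lie.chevD4.neg 12 = 11 := by decide
      simpa [Cfsg.Agent.Lib.Helper36.bwN, Cfsg.Agent.Lib.Helper36.wordGL, L, hφ, hφ2, e1, e2, e3] using this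

end Cfsg.Agent.S1108
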