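import Cfsg.Statements.S1071
import Cfsg.Agent.Lib.Helper36.ChevTwTab3
import Cfsg.Agent.S1108

set_option autoImplicit false
open Cfsg

namespace Cfsg.Agent.S1071

/-- ³D₄(q) is simple for every `q`. -/
theorem result {K : Type*} [Field K] [Fintype K] {q : ℕ} (hq : IsPrimePow q) (hK : Fintype.card K = q ^ 3) :
    IsSimpleGroup ↥(Cfsg.Lie.twistedD4 K q) ∧ ¬ IsMulCommutative ↥(Cfsg.Lie.twistedD4 K q) := by
  classical
  obtain ⟨φ, hφ⟩ := Cfsg.Agent.Lib.Helper36.exists_frob hq 3 hK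
  have hperf := Cfsg.Agent.S1108.result hq hK
  rw [Cfsg.Agent.Lib.Helper36.twistedD4_eq K q φ hφ hK] at hperf ⊢
  exact Cfsg.Agent.Lib.Helper36.tw_simple Cfsg.Lie.chevD4 Cfsg.Agent.Lib.Helper36.hD4
    Cfsg.Agent.Lib.Helper36.graphD4 Cfsg.Agent.Lib.Helper36.orbsD4 Cfsg.Agent.Lib.Helper36.fundD4
    Cfsg.Agent.Lib.Helper36.stepsD4 Cfsg.Agent.Lib.Helper36.twOK_D4 Cfsg.Agent.Lib.Helper36.chkSgn_D4 K φ
    [0, 1] Cfsg.Agent.Lib.Helper36.chkConnT_D4 hperf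

end Cfsg.Agent.S1071
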