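import Cfsg.Statements.S1075
import Cfsg.Agent.S1011
import Cfsg.Agent.Lib.Helper89.Ree3
import Cfsg.Agent.Lib.Helper89.SimpleCert

set_option autoImplicit false
set_option maxRecDepth 1000000
open Cfsg

namespace Cfsg.Agent.S1075

open Cfsg.Lie Cfsg.Agent.Lib.Helper89 Cfsg.Agent.Lib.Helper89.Ree3 Matrix

/-! ### simplicity of `K₀ = D.H 2` -/

open TableChain2 (act)

theorem D_gen (j : ℕ) : D.gen j = gen j := rfl

theorem ev_replicate (k j : ℕ) : D.ev (List.replicate k j) = gen j ^ k := by
  induction k with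
  | zero => simp [TableChain2.Data.ev]
  | succ k ih => rw [List.replicate_succ, D.ev_cons, ih, pow_succ', D_gen]

theorem ev_single (j : ℕ) : D.ev [j] = gen j := by
  rw [D.ev_cons, D.ev_nil, mul_one, D_gen]

/-- Boolean test of the simplicity certificates -/
def simpCheck : Bool :=
  (List.range 56).all fun a => (List.range 9).all fun b =>
    (Nat.beq a 0 && Nat.beq b 0) ||
    ((SC.getD (a * 9 + b) ([], [], 0)).1.all (fun c => Nat.blt c 2) &&
     (SC.getD (a * 9 + b) ([], [], 0)).2.1.all (fun c => Nat.blt c 2) &&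
     Nat.beq (Nat.gcd (SC.getD (a * 9 + b) ([], [], 0)).2.2 9) 1 &&
     chk.all fun x => Nat.beq
      (act tab ((T0.getD a [] ++ T1.getD b []) ++ (SC.getD (a * 9 + b) ([], [], 0)).1 ++
        (SC.getD (a * 9 + b) ([], [], 0)).2.1) x)
      (act tab ((SC.getD (a * 9 + b) ([], [], 0)).1 ++ (T0.getD a [] ++ T1.getD b []) ++
        (SC.getD (a * 9 + b) ([], [], 0)).2.1 ++
        List.replicate (SC.getD (a * 9 + b) ([], [], 0)).2.2 0) x))

theorem simp_ok : simpCheck = true := by decide +kernel

theorem T0_len : T0.length = 56 := by decide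
theorem T1_len : T1.length = 9 := by decide

theorem lt_of_all_blt {l : List ℕ} {n : ℕ} (h : l.all (fun c => Nat.blt c n) = true) :
    ∀ c ∈ l, c < n := fun c hc => Nat.le_of_ble_eq_true (List.all_eq_true.1 h c hc)

theorem cert (a : ℕ) (ha : a < 56) (b : ℕ) (hb : b < 9) (hab : ¬ (a = 0 ∧ b = 0)) :
    ∃ c u : List ℕ, ∃ k : ℕ, (∀ x ∈ c, x < 2) ∧ (∀ x ∈ u, x < 2) ∧ Nat.Coprime k 9 ∧
      ∀ x ∈ chk, act tab ((T0.getD a [] ++ T1.getD b []) ++ c ++ u) x =
        act tab (c ++ (T0.getD a [] ++ T1.getD b []) ++ u ++ List.replicate k 0) x := by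
  have h := List.all_eq_true.1 (List.all_eq_true.1 simp_ok a (List.mem_range.2 ha)) b
    (List.mem_range.2 hb)
  rw [Bool.or_eq_true] at h
  rcases h with h | h
  · rw [Bool.and_eq_true] at h
    exact absurd ⟨Nat.eq_of_beq_eq_true h.1, Nat.eq_of_beq_eq_true h.2⟩ hab
  · simp only [Bool.and_eq_true] at h
    obtain ⟨⟨⟨h1, h2⟩, h3⟩, h4⟩ := h
    refine ⟨_, _, _, lt_of_all_blt h1, lt_of_all_blt h2, Nat.eq_of_beq_eq_true h3, ?_⟩
    intro x hx
    exact Nat.eq_of_beq_eq_true (List.all_eq_true.1 h4 x hx)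

theorem lt_trans' {l : List ℕ} {n m : ℕ} (h : ∀ c ∈ l, c < n) (hnm : n ≤ m) : ∀ c ∈ l, c < m :=
  fun c hc => lt_of_lt_of_le (h c hc) hnm

theorem pow9_ok : chk.all (fun x => Nat.beq (act tab (List.replicate 9 0) x) x) = true := by
  decide +kernel

theorem gen0_pow : gen 0 ^ 9 = 1 := by
  rw [← ev_replicate, ← D.ev_nil]
  apply D.ev_eq_of_act
  · intro c hc
    rw [List.eq_of_mem_replicate hc]
    show 0 < 54
    norm_num
  · intro c hc
    exact absurd hc (List.not_mem_nil)
  · intro x hx
    exact Nat.eq_of_beq_eq_true (List.all_eq_true.1 pow9_ok x hx)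

theorem s1_ok : chk.all (fun x => Nat.beq (act tab [1, 0, 1] x) (act tab [0, 1, 0] x)) = true := by
  decide +kernel

theorem gen1_conj : gen 1 * D.ev [0, 1] = D.ev [0, 1] * gen 0 := by
  have : D.ev [1, 0, 1] = D.ev [0, 1, 0] := by
    apply D.ev_eq_of_act
    · intro c hc
      show c < 54
      simp only [List.mem_cons, List.not_mem_nil, or_false] at hc
      omega
    · intro c hc
      show c < 54
      simp only [List.mem_cons, List.not_mem_nil, or_false] at hc
      omega
    · intro x hx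
      exact Nat.eq_of_beq_eq_true (List.all_eq_true.1 s1_ok x hx)
  have e1 : D.ev [1, 0, 1] = gen 1 * D.ev [0, 1] := by rw [D.ev_cons, D_gen]
  have e2 : D.ev [0, 1, 0] = D.ev [0, 1] * gen 0 := by
    rw [show ([0, 1, 0] : List ℕ) = [0, 1] ++ [0] from rfl, D.ev_append, ev_single]
  rw [← e1, ← e2, this]

theorem gen0_ne_one : gen 0 ≠ 1 := by
  intro h
  have h1 := gen_smul 0 (by norm_num) 2 (by norm_num)
  rw [h, one_smul] at h1
  have := pt_inj 2 (by norm_num) (tab 0 2) (tab_lt 0 (by norm_num) 2 (by norm_num)) h1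
  revert this
  decide +kernel

theorem gen_comm_ne : gen 0 * gen 1 ≠ gen 1 * gen 0 := by
  intro h
  have h1 : (gen 0 * gen 1) • pt 0 = (gen 1 * gen 0) • pt 0 := by rw [h]
  rw [mul_smul, mul_smul, gen_smul 1 (by norm_num) 0 (by norm_num),
    gen_smul 0 (by norm_num) 0 (by norm_num),
    gen_smul 0 (by norm_num) _ (tab_lt 1 (by norm_num) 0 (by norm_num)),
    gen_smul 1 (by norm_num) _ (tab_lt 0 (by norm_num) 0 (by norm_num))] at h1
  have := pt_inj _ (tab_lt 0 (by norm_num) _ (tab_lt 1 (by norm_num) 0 (by norm_num))) _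
    (tab_lt 1 (by norm_num) _ (tab_lt 0 (by norm_num) 0 (by norm_num))) h1
  revert this
  decide +kernel

instance simpleK0 : IsSimpleGroup ↥(D.H 2) := by
  apply SimpleCert.isSimpleGroup_of_cert (D.H 2) (gen 0) 9 (by norm_num) gen0_pow
  · exact ⟨gen 0, D.gen_mem 0 (by norm_num), gen0_ne_one⟩
  · intro g hg hg1
    obtain ⟨a, h', hh', rfl⟩ := (lvl0.mem_H_iff g).1 hg
    obtain ⟨b, h'', hh'', rfl⟩ := (lvl1.mem_H_iff h').1 hh'
    have h1 : h'' = 1 := by
      rw [D.H_zero] at hh''
      exact Subgroup.mem_bot.1 hh''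
    subst h1
    rw [mul_one] at hg1 ⊢
    have ha : a.val < 56 := lt_of_lt_of_eq a.isLt T0_len
    have hb : b.val < 9 := lt_of_lt_of_eq b.isLt T1_len
    have hab : ¬ (a.val = 0 ∧ b.val = 0) := by
      rintro ⟨h1, h2⟩
      apply hg1
      rw [h1, h2, lvl0.head, lvl1.head, D.ev_nil, mul_one]
    obtain ⟨c, u, k, hc, hu, hk, hact⟩ := cert a.val ha b.val hb hab
    have hwa : ∀ x ∈ T0.getD a.val [], x < 54 := lvl0.word_lt a.val a.isLt
    have hwb : ∀ x ∈ T1.getD b.val [], x < 54 := lvl1.word_lt b.val b.isLt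
    have hw : ∀ x ∈ T0.getD a.val [] ++ T1.getD b.val [], x < 54 := by
      intro x hx
      rcases List.mem_append.1 hx with hx | hx
      · exact hwa x hx
      · exact hwb x hx
    have hc' : ∀ x ∈ c, x < 54 := lt_trans' hc (by norm_num)
    have hu' : ∀ x ∈ u, x < 54 := lt_trans' hu (by norm_num)
    refine ⟨D.ev c, D.ev_mem 2 c hc, D.ev u, D.ev_mem 2 u hu, k, hk, ?_⟩
    have key : D.ev ((T0.getD a.val [] ++ T1.getD b.val []) ++ c ++ u) =
        D.ev (c ++ (T0.getD a.val [] ++ T1.getD b.val []) ++ u ++ List.replicate k 0) := by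
      apply D.ev_eq_of_act
      · intro x hx
        show x < 54
        simp only [List.mem_append] at hx
        rcases hx with (hx | hx) | hx
        · exact hw x (List.mem_append.2 hx)
        · exact hc' x hx
        · exact hu' x hx
      · intro x hx
        show x < 54
        simp only [List.mem_append] at hx
        rcases hx with ((hx | hx) | hx) | hx
        · exact hc' x hx
        · exact hw x (List.mem_append.2 hx)
        · exact hu' x hx
        · rw [List.eq_of_mem_replicate hx]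
          norm_num
      · exact hact
    rw [D.ev_append, D.ev_append, D.ev_append, D.ev_append, D.ev_append, D.ev_append, D.ev_append,
      ev_replicate] at key
    exact key
  · intro M _ hconj h0
    show D.H 2 ≤ M
    rw [TableChain2.Data.H, Subgroup.closure_le]
    rintro g ⟨j, hj, rfl⟩
    rw [D_gen]
    have hj' : j = 0 ∨ j = 1 := by omega
    rcases hj' with rfl | rfl
    · exact h0
    · have hc : D.ev [0, 1] ∈ D.H 2 := D.ev_mem 2 _ (by
        intro c hc
        simp only [List.mem_cons, List.not_mem_nil, or_false] at hc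
        omega)
      have := hconj _ hc _ h0
      have e : D.ev [0, 1] * gen 0 * (D.ev [0, 1])⁻¹ = gen 1 := by
        rw [← gen1_conj]
        group
      rwa [e] at this

/-! ### the normaliser and the remaining generators -/

/-- Boolean test of `z s_j = w_j z` and `s_j z = z w'_j` -/
def zCheck : Bool :=
  chk.all fun x =>
    Nat.beq (act tab [2, 0] x) (act tab (zw0 ++ [2]) x) &&
    Nat.beq (act tab [0, 2] x) (act tab ([2] ++ zw0') x) &&
    Nat.beq (act tab [2, 1] x) (act tab (zw1 ++ [2]) x) &&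
    Nat.beq (act tab [1, 2] x) (act tab ([2] ++ zw1') x)

theorem z_ok : zCheck = true := by decide +kernel

theorem zw_lt : (∀ c ∈ zw0, c < 2) ∧ (∀ c ∈ zw0', c < 2) ∧ (∀ c ∈ zw1, c < 2) ∧
    (∀ c ∈ zw1', c < 2) := by decide

theorem z_rel (j : ℕ) (hj : j < 2) (w w' : List ℕ) (hw : ∀ c ∈ w, c < 2) (hw' : ∀ c ∈ w', c < 2)
    (h1 : ∀ x ∈ chk, act tab [2, j] x = act tab (w ++ [2]) x)
    (h2 : ∀ x ∈ chk, act tab [j, 2] x = act tab ([2] ++ w') x) :
    gen 2 * gen j * (gen 2)⁻¹ ∈ D.H 2 ∧ (gen 2)⁻¹ * gen j * gen 2 ∈ D.H 2 := by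
  have e1 : D.ev [2, j] = D.ev (w ++ [2]) := by
    apply D.ev_eq_of_act
    · intro c hc
      show c < 54
      simp only [List.mem_cons, List.not_mem_nil, or_false] at hc
      omega
    · intro c hc
      show c < 54
      rcases List.mem_append.1 hc with hc | hc
      · exact lt_trans (hw c hc) (by norm_num)
      · simp only [List.mem_cons, List.not_mem_nil, or_false] at hc
        omega
    · exact h1
  have e2 : D.ev [j, 2] = D.ev ([2] ++ w') := by
    apply D.ev_eq_of_act
    · intro c hc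
      show c < 54
      simp only [List.mem_cons, List.not_mem_nil, or_false] at hc
      omega
    · intro c hc
      show c < 54
      rcases List.mem_append.1 hc with hc | hc
      · simp only [List.mem_cons, List.not_mem_nil, or_false] at hc
        omega
      · exact lt_trans (hw' c hc) (by norm_num)
    · exact h2
  rw [D.ev_cons, ev_single, D_gen, D.ev_append, ev_single] at e1
  rw [D.ev_cons, ev_single, D_gen, D.ev_append, ev_single] at e2
  constructor
  · have : gen 2 * gen j * (gen 2)⁻¹ = D.ev w := by rw [e1]; group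
    rw [this]
    exact D.ev_mem 2 w hw
  · have : (gen 2)⁻¹ * gen j * gen 2 = D.ev w' := by
      rw [mul_assoc, e2]
      group
    rw [this]
    exact D.ev_mem 2 w' hw'

theorem z_norm : gen 2 ∈ Subgroup.normalizer ((D.H 2 : Subgroup Γ) : Set Γ) := by
  have hz := z_ok
  unfold zCheck at hz
  have hx := fun x hx => List.all_eq_true.1 hz x hx
  simp only [Bool.and_eq_true] at hx
  have r0 := z_rel 0 (by norm_num) zw0 zw0' zw_lt.1 zw_lt.2.1
    (fun x h => Nat.eq_of_beq_eq_true (hx x h).1.1.1) (fun x h => Nat.eq_of_beq_eq_true (hx x h).1.1.2)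
  have r1 := z_rel 1 (by norm_num) zw1 zw1' zw_lt.2.2.1 zw_lt.2.2.2
    (fun x h => Nat.eq_of_beq_eq_true (hx x h).1.2) (fun x h => Nat.eq_of_beq_eq_true (hx x h).2)
  apply SimpleCert.mem_normalizer_of_gens (D.S 2) (D.H 2) rfl
  · rintro s ⟨j, hj, rfl⟩
    rw [D_gen]
    have hj' : j = 0 ∨ j = 1 := by omega
    rcases hj' with rfl | rfl
    · exact r0.1
    · exact r1.1
  · rintro s ⟨j, hj, rfl⟩
    rw [D_gen]
    have hj' : j = 0 ∨ j = 1 := by omega
    rcases hj' with rfl | rfl
    · exact r0.2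
    · exact r1.2

/-- Boolean test of `gen (i + 3) = z ^ a * w` -/
def gcCheck : Bool :=
  (List.range 51).all fun i =>
    (GC.getD i (0, [])).2.all (fun c => Nat.blt c 2) &&
    chk.all fun x => Nat.beq (act tab [i + 3] x)
      (act tab (List.replicate (GC.getD i (0, [])).1 2 ++ (GC.getD i (0, [])).2) x)

theorem gc_ok : gcCheck = true := by decide +kernel

theorem gen_mem_H3 (j : ℕ) (hj : j < 54) : gen j ∈ D.H 3 := by
  by_cases h3 : j < 3
  · exact D.gen_mem j h3
  · obtain ⟨i, rfl⟩ : ∃ i, j = i + 3 := ⟨j - 3, by omega⟩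
    have hi : i < 51 := by omega
    have h := List.all_eq_true.1 gc_ok i (List.mem_range.2 hi)
    rw [Bool.and_eq_true] at h
    have hw := lt_of_all_blt h.1
    have e : D.ev [i + 3] =
        D.ev (List.replicate (GC.getD i (0, [])).1 2 ++ (GC.getD i (0, [])).2) := by
      apply D.ev_eq_of_act
      · intro c hc
        show c < 54
        simp only [List.mem_cons, List.not_mem_nil, or_false] at hc
        omega
      · intro c hc
        show c < 54
        rcases List.mem_append.1 hc with hc | hc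
        · rw [List.eq_of_mem_replicate hc]
          norm_num
        · exact lt_trans (hw c hc) (by norm_num)
      · intro x hx
        exact Nat.eq_of_beq_eq_true (List.all_eq_true.1 h.2 x hx)
    rw [ev_single] at e
    rw [e]
    apply D.ev_mem
    intro c hc
    rcases List.mem_append.1 hc with hc | hc
    · rw [List.eq_of_mem_replicate hc]
      norm_num
    · exact lt_trans (hw c hc) (by norm_num)

theorem R_eq : twistedG2 K3 1 = D.H 3 := by
  unfold twistedG2 ChevalleyDatum.genSubgroup
  apply le_antisymm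
  · rw [Subgroup.closure_le]
    rintro g ⟨w, ⟨t, u, v, hw⟩, hg⟩
    have key : ∀ j : Fin 54, w = wordOf j.val → g ∈ D.H 3 := by
      intro j hj
      rw [hj, wordMat_eq j.val j.isLt] at hg
      have : g = gen j.val := Units.ext (by rw [hg, gen_val _ j.isLt])
      rw [this]
      exact gen_mem_H3 j.val j.isLt
    rcases hw with rfl | rfl
    · obtain ⟨j, hj⟩ := wordU_cover t u v
      exact key j hj
    · obtain ⟨j, hj⟩ := wordV_cover t u v
      exact key j hj
  · show D.H 3 ≤ _
    rw [TableChain2.Data.H, Subgroup.closure_le]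
    rintro g ⟨j, hj, rfl⟩
    apply Subgroup.subset_closure
    have hj' : j < 54 := by omega
    exact ⟨wordOf j, wordOf_mem j, by rw [D_gen, gen_val j hj', wordMat_eq j hj']⟩

theorem comm_eq : ⁅D.H 3, D.H 3⁆ = D.H 2 := by
  apply SimpleCert.commutator_eq_of_simple (D.H 2) (D.H 3) (gen 2) (D.S 3) rfl
  · rintro s ⟨j, hj, rfl⟩
    rw [D_gen]
    by_cases h2 : j < 2
    · exact Or.inl (D.gen_mem j h2)
    · right
      have : j = 2 := by omega
      rw [this]
  · exact D.gen_mem 2 (by norm_num)
  · exact D.H_mono (by norm_num)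
  · show D.H 3 ≤ _
    rw [TableChain2.Data.H, Subgroup.closure_le]
    rintro g ⟨j, hj, rfl⟩
    rw [D_gen]
    by_cases h2 : j < 2
    · exact Subgroup.le_normalizer (D.gen_mem j h2)
    · have : j = 2 := by omega
      rw [this]
      exact z_norm
  · exact ⟨gen 0, D.gen_mem 0 (by norm_num), gen 1, D.gen_mem 1 (by norm_num), gen_comm_ne⟩

theorem main (R : Subgroup Γ) (hR : R = D.H 3) {L : Type*} [Field L] [Fintype L]
    (hL : Fintype.card L = 8) :
    Nat.card ↥(commutator ↥R) = 504 ∧
      Nonempty (↥(commutator ↥R) ≃* Matrix.ProjectiveSpecialLinearGroup (Fin 2) L) := by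
  subst hR
  obtain ⟨hcard, hs⟩ := SimpleCert.card_and_simple (D.H 2) (D.H 3) comm_eq simpleK0 504 card_K0
  exact ⟨hcard, @Cfsg.Agent.S1011.result _ _ _ hs hcard _ _ _ hL⟩

/-- The derived subgroup of ²G₂(3) (θ = identity over the field with three elements) has order 504 = 1512/3 and is isomorphic to PSL₂ over the field with eight elements. -/
theorem result {L : Type*} [Field L] [Fintype L] (hL : Fintype.card L = 8) :
    Nat.card ↥(commutator ↥(Cfsg.Lie.twistedG2 (ZMod 3) 1)) = 504 ∧
      Nonempty (↥(commutator ↥(Cfsg.Lie.twistedG2 (ZMod 3) 1)) ≃* Matrix.ProjectiveSpecialLinearGroup (Fin 2) L) := by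
  exact main _ R_eq hL

end Cfsg.Agent.S1075
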