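import Cfsg.Statements.S1080

set_option autoImplicit false
open Cfsg

namespace Cfsg.Agent.S1080

open Cfsg.Lie

theorem xMat_map {F : Type*} [Field F] (D : ChevalleyDatum) (f : F →+* F) (r : Fin D.nroots) (t : F) :
    (D.xMat F r t).map f = D.xMat F r (f t) := by
  ext row col
  rcases row with i' | u <;> rcases col with i | s
  · simp only [ChevalleyDatum.xMat, Matrix.map_apply, Matrix.of_apply]
    split_ifs <;> simp
  · simp only [ChevalleyDatum.xMat, Matrix.map_apply, Matrix.of_apply]
    split_ifs <;> simp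
  · simp only [ChevalleyDatum.xMat, Matrix.map_apply, Matrix.of_apply]
    split_ifs <;> simp
  · simp only [ChevalleyDatum.xMat, Matrix.map_apply, Matrix.of_apply]
    split_ifs <;> simp [map_list_sum, List.map_map, Function.comp_def]

theorem coe_map_GL {F : Type*} [Field F] {n : Type*} [Fintype n] [DecidableEq n] (f : F →+* F) (g : GL n F) :
    ((Matrix.GeneralLinearGroup.map f g : GL n F) : Matrix n n F) = (g : Matrix n n F).map f := by
  ext i j
  simp [Matrix.GeneralLinearGroup.map_apply]

/-- the automorphism of `GL` induced by a field automorphism -/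
noncomputable def glEquiv {F : Type*} [Field F] (n : Type*) [Fintype n] [DecidableEq n] (f : F ≃+* F) : GL n F ≃* GL n F where
  toFun := Matrix.GeneralLinearGroup.map (f : F →+* F)
  invFun := Matrix.GeneralLinearGroup.map (f.symm : F →+* F)
  left_inv g := by
    apply Units.ext
    ext i j
    simp [Matrix.GeneralLinearGroup.map_apply]
  right_inv g := by
    apply Units.ext
    ext i j
    simp [Matrix.GeneralLinearGroup.map_apply]
  map_mul' g h := map_mul _ g h

theorem map_group {F : Type*} [Field F] (D : ChevalleyDatum) (f : F ≃+* F) :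
    (D.group F).map (glEquiv D.Idx f).toMonoidHom = D.group F := by
  unfold ChevalleyDatum.group
  rw [MonoidHom.map_closure]
  congr 1
  ext g
  simp only [Set.mem_image, Set.mem_ofPred_eq]
  constructor
  · rintro ⟨g', ⟨r, t, hg'⟩, rfl⟩
    refine ⟨r, f t, ?_⟩
    show ((Matrix.GeneralLinearGroup.map (f : F →+* F) g' : GL D.Idx F) : Matrix D.Idx D.Idx F) = _
    rw [coe_map_GL, hg', xMat_map]
    rfl
  · rintro ⟨r, t, hg⟩
    refine ⟨(glEquiv D.Idx f).symm g, ⟨r, f.symm t, ?_⟩, ?_⟩
    · show ((Matrix.GeneralLinearGroup.map (f.symm : F →+* F) g : GL D.Idx F) : Matrix D.Idx D.Idx F) = _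
      rw [coe_map_GL, hg, xMat_map]
      rfl
    · exact (glEquiv D.Idx f).apply_symm_apply g

/-- Field automorphisms: for every field automorphism `f` there is a group automorphism sending each `x_r(t)` to `x_r(f t)`. -/
theorem result {F : Type*} [Field F] (D : Cfsg.Lie.ChevalleyDatum) (hD : D ∈ [Cfsg.Lie.chevG2, Cfsg.Lie.chevB2, Cfsg.Lie.chevD4, Cfsg.Lie.chevF4, Cfsg.Lie.chevE6, Cfsg.Lie.chevE7, Cfsg.Lie.chevE8]) (f : F ≃+* F) :
    ∃ α : ↥(D.group F) ≃* ↥(D.group F), ∀ (g : ↥(D.group F)) (r : ℕ) (t : F), r < D.nroots →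
      ((g : GL D.Idx F) : Matrix D.Idx D.Idx F) = D.x F r t → ((α g : GL D.Idx F) : Matrix D.Idx D.Idx F) = D.x F r (f t) := by
  refine ⟨((glEquiv D.Idx f).subgroupMap (D.group F)).trans (MulEquiv.subgroupCongr (map_group D f)), ?_⟩
  intro g r t hr hg
  show ((Matrix.GeneralLinearGroup.map (f : F →+* F) (g : GL D.Idx F) : GL D.Idx F) : Matrix D.Idx D.Idx F) = _
  rw [coe_map_GL, hg, ChevalleyDatum.x, dif_pos hr, ChevalleyDatum.x, dif_pos hr, xMat_map]
  rfl

end Cfsg.Agent.S1080
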