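import Cfsg.Statements.S1081
import Cfsg.Agent.Lib.Helper91.ChevGraphV1

set_option autoImplicit false
open Cfsg

namespace Cfsg.Agent.S1081

theorem result {F : Type*} [Field F] (p : Cfsg.Lie.ChevalleyDatum × List ℕ)
    (hp : p ∈ [(Cfsg.Lie.chevE6, [5, 1, 4, 3, 2, 0]), (Cfsg.Lie.chevD4, [2, 1, 3, 0]), (Cfsg.Lie.chevD4, [3, 1, 0, 2])]) :
    ∃ α : ↥(p.1.group F) ≃* ↥(p.1.group F), ∀ (g : ↥(p.1.group F)) (i : ℕ) (t : F), i < p.1.rank →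
      (((g : GL p.1.Idx F) : Matrix p.1.Idx p.1.Idx F) = p.1.x F (p.1.simple i) t →
        ((α g : GL p.1.Idx F) : Matrix p.1.Idx p.1.Idx F) = p.1.x F (p.1.simple (p.2.getD i 0)) t) ∧
      (((g : GL p.1.Idx F) : Matrix p.1.Idx p.1.Idx F) = p.1.x F (p.1.neg (p.1.simple i)) t →
        ((α g : GL p.1.Idx F) : Matrix p.1.Idx p.1.Idx F) = p.1.x F (p.1.neg (p.1.simple (p.2.getD i 0))) t) := by
  simp only [List.mem_cons, List.mem_nil_iff, or_false] at hp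
  rcases hp with rfl | rfl | rfl
  · exact Cfsg.Agent.Lib.Helper91.ChevGraphV1.exists_graph_aut Cfsg.Lie.chevE6 (by simp) F Cfsg.Agent.Lib.Helper91.ChevGraphV1.gE6
      Cfsg.Agent.Lib.Helper91.ChevGraphV1.chkGraph_E6
  · exact Cfsg.Agent.Lib.Helper91.ChevGraphV1.exists_graph_aut Cfsg.Lie.chevD4 (by simp) F Cfsg.Agent.Lib.Helper91.ChevGraphV1.gD4a
      Cfsg.Agent.Lib.Helper91.ChevGraphV1.chkGraph_D4a
  · exact Cfsg.Agent.Lib.Helper91.ChevGraphV1.exists_graph_aut Cfsg.Lie.chevD4 (by simp) F Cfsg.Agent.Lib.Helper91.ChevGraphV1.gD4b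
      Cfsg.Agent.Lib.Helper91.ChevGraphV1.chkGraph_D4b

end Cfsg.Agent.S1081
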