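import Cfsg.Statements.S1097
import Cfsg.Agent.Lib.Helper18.StPresH

set_option autoImplicit false
open Cfsg

namespace Cfsg.Agent.S1097

open Cfsg.Lie Cfsg.Agent.Lib.Helper36 Cfsg.Agent.Lib.Helper18

/-- Any homomorphism from the presented group to the Chevalley group with `x̄_r(t) ↦ x_r(t)` has kernel contained in `H̄ = ⟨h̄_p(t) : p fundamental, t ≠ 0⟩`. -/
theorem result {K : Type*} [Field K] (D : Cfsg.Lie.ChevalleyDatum) (hD : D ∈ [Cfsg.Lie.chevG2, Cfsg.Lie.chevB2, Cfsg.Lie.chevD4, Cfsg.Lie.chevF4, Cfsg.Lie.chevE6, Cfsg.Lie.chevE7, Cfsg.Lie.chevE8]) (θ : D.SteinbergGroup K →* ↥(D.group K))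
    (hθ : ∀ (r : ℕ) (t : K), r < D.nroots → ((θ (D.stGen K r t) : GL D.Idx K) : Matrix D.Idx D.Idx K) = D.x K r t) :
    θ.ker ≤ Subgroup.closure {h | ∃ (i : ℕ) (t : K), i < D.rank ∧ t ≠ 0 ∧ h = PresentedGroup.mk (D.steinbergRels K) (D.stH (D.simple i) t)} := by
  have h1 : ∀ (r : ℕ) (t₁ t₂ : K), r < D.nroots →
      D.stX r t₁ * D.stX r t₂ * (D.stX r (t₁ + t₂))⁻¹ ∈ D.steinbergRels K :=
    fun r t₁ t₂ hr => Or.inl (Or.inl ⟨r, t₁, t₂, hr, rfl⟩)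
  have h2 : ∀ (r s : ℕ) (t u : K), r < D.nroots → s < D.nroots → s ≠ r → s ≠ D.neg r →
      (D.stX s u)⁻¹ * (D.stX r t)⁻¹ * D.stX s u * D.stX r t * (D.stWord (D.commWord K r s t u))⁻¹ ∈
        D.steinbergRels K :=
    fun r s t u hr hs hsr hsn => Or.inl (Or.inr ⟨r, s, t, u, hr, hs, hsr, hsn, rfl⟩)
  let S := presSys D hD K (D.steinbergRels K) h1 h2 θ hθ
  intro g hg
  rw [MonoidHom.mem_ker] at hg
  have hπ : S.π g = 1 := by
    show (D.group K).subtype (θ g) = 1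
    rw [hg, map_one]
  have := ker_le_Hb S g hπ
  unfold Hb at this
  refine Subgroup.closure_mono ?_ this
  rintro h ⟨i, t, hi, ht, rfl⟩
  exact ⟨i, t, hi, ht, (mk_stH D hD K _ h1 h2 θ hθ i t).symm⟩

end Cfsg.Agent.S1097
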