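import Cfsg.Statements.S1098
import Cfsg.Agent.Lib.Helper18.StGraphData
import Cfsg.Agent.S1054
import Cfsg.Agent.S1056

set_option autoImplicit false
open Cfsg

namespace Cfsg.Agent.S1098

open Cfsg.Lie Cfsg.Agent.Lib.Helper36 Cfsg.Agent.Lib.Helper18

theorem spec_B2 : ∀ i < chevB2.rank,
    rhoB2.getD (chevB2.simple i) 0 = chevB2.simple (([(1, 2), (0, 1)] : List (ℕ × ℕ)).getD i (0, 1)).1 ∧
    lamB2.getD (chevB2.simple i) 0 = (([(1, 2), (0, 1)] : List (ℕ × ℕ)).getD i (0, 1)).2 ∧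
    rhoB2.getD (chevB2.neg (chevB2.simple i)) 0 =
      chevB2.neg (chevB2.simple (([(1, 2), (0, 1)] : List (ℕ × ℕ)).getD i (0, 1)).1) ∧
    lamB2.getD (chevB2.neg (chevB2.simple i)) 0 = (([(1, 2), (0, 1)] : List (ℕ × ℕ)).getD i (0, 1)).2 ∧
    chevB2.simple i < chevB2.nroots ∧ chevB2.neg (chevB2.simple i) < chevB2.nroots := by
  decide +kernel

theorem spec_F4 : ∀ i < chevF4.rank,
    rhoF4.getD (chevF4.simple i) 0 =
      chevF4.simple (([(3, 2), (2, 2), (1, 1), (0, 1)] : List (ℕ × ℕ)).getD i (0, 1)).1 ∧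
    lamF4.getD (chevF4.simple i) 0 = (([(3, 2), (2, 2), (1, 1), (0, 1)] : List (ℕ × ℕ)).getD i (0, 1)).2 ∧
    rhoF4.getD (chevF4.neg (chevF4.simple i)) 0 =
      chevF4.neg (chevF4.simple (([(3, 2), (2, 2), (1, 1), (0, 1)] : List (ℕ × ℕ)).getD i (0, 1)).1) ∧
    lamF4.getD (chevF4.neg (chevF4.simple i)) 0 =
      (([(3, 2), (2, 2), (1, 1), (0, 1)] : List (ℕ × ℕ)).getD i (0, 1)).2 ∧
    chevF4.simple i < chevF4.nroots ∧ chevF4.neg (chevF4.simple i) < chevF4.nroots := by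
  decide +kernel

theorem aux {K : Type*} [Field K] [CharP K 2] (hperf : ∀ x : K, ∃ y : K, y ^ 2 = x)
    (D : ChevalleyDatum) (hD : D ∈ [chevG2, chevB2, chevD4, chevF4, chevE6, chevE7, chevE8])
    (rho lam : List ℕ) (L : List (ℕ × ℕ)) (hchk : chkTw D 2 rho lam = true)
    (hinj : IsSimpleGroup ↥(D.group K) ∨ Finite K)
    (hspec : ∀ i < D.rank,
      rho.getD (D.simple i) 0 = D.simple (L.getD i (0, 1)).1 ∧
      lam.getD (D.simple i) 0 = (L.getD i (0, 1)).2 ∧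
      rho.getD (D.neg (D.simple i)) 0 = D.neg (D.simple (L.getD i (0, 1)).1) ∧
      lam.getD (D.neg (D.simple i)) 0 = (L.getD i (0, 1)).2 ∧
      D.simple i < D.nroots ∧ D.neg (D.simple i) < D.nroots) :
    ∃ α : ↥(D.group K) ≃* ↥(D.group K), ∀ (g : ↥(D.group K)) (i : ℕ) (t : K), i < D.rank →
      (((g : GL D.Idx K) : Matrix D.Idx D.Idx K) = D.x K (D.simple i) t →
        ((α g : GL D.Idx K) : Matrix D.Idx D.Idx K) = D.x K (D.simple (L.getD i (0, 1)).1) (t ^ (L.getD i (0, 1)).2)) ∧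
      (((g : GL D.Idx K) : Matrix D.Idx D.Idx K) = D.x K (D.neg (D.simple i)) t →
        ((α g : GL D.Idx K) : Matrix D.Idx D.Idx K) =
          D.x K (D.neg (D.simple (L.getD i (0, 1)).1)) (t ^ (L.getD i (0, 1)).2)) := by
  haveI : Fact (Nat.Prime 2) := ⟨Nat.prime_two⟩
  obtain ⟨α, hα⟩ := tw_aut D hD K 2 rho lam hchk hperf hinj
  refine ⟨α, fun g i t hi => ?_⟩
  obtain ⟨e1, e2, e3, e4, h1, h2⟩ := hspec i hi
  constructor
  · intro hg
    have : g = xGr D hD K (D.simple i) t := Subtype.ext (Units.ext (by rw [hg]; rfl))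
    rw [this, hα _ h1 t, e1, e2]
    rfl
  · intro hg
    have : g = xGr D hD K (D.neg (D.simple i)) t := Subtype.ext (Units.ext (by rw [hg]; rfl))
    rw [this, hα _ h2 t, e3, e4]
    rfl

/-- Graph automorphisms in characteristic 2 (K perfect): for B₂ (a short, b long) `x_a(t) ↦ x_b(t²)`, `x_b(t) ↦ x_a(t)`, and for F₄ (p₁, p₂ short, p₃, p₄ long) `x_{p₁}(t) ↦ x_{p₄}(t²)`, `x_{p₂}(t) ↦ x_{p₃}(t²)`, `x_{p₃}(t) ↦ x_{p₂}(t)`, `x_{p₄}(t) ↦ x_{p₁}(t)`, likewise on the negatives, extend to an automorphism of the group. -/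
theorem result {K : Type*} [Field K] [CharP K 2] (hperf : ∀ x : K, ∃ y : K, y ^ 2 = x)
    (p : Cfsg.Lie.ChevalleyDatum × List (ℕ × ℕ))
    (hp : p ∈ [(Cfsg.Lie.chevB2, [(1, 2), (0, 1)]), (Cfsg.Lie.chevF4, [(3, 2), (2, 2), (1, 1), (0, 1)])]) :
    ∃ α : ↥(p.1.group K) ≃* ↥(p.1.group K), ∀ (g : ↥(p.1.group K)) (i : ℕ) (t : K), i < p.1.rank →
      (((g : GL p.1.Idx K) : Matrix p.1.Idx p.1.Idx K) = p.1.x K (p.1.simple i) t →
        ((α g : GL p.1.Idx K) : Matrix p.1.Idx p.1.Idx K) = p.1.x K (p.1.simple (p.2.getD i (0, 1)).1) (t ^ (p.2.getD i (0, 1)).2)) ∧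
      (((g : GL p.1.Idx K) : Matrix p.1.Idx p.1.Idx K) = p.1.x K (p.1.neg (p.1.simple i)) t →
        ((α g : GL p.1.Idx K) : Matrix p.1.Idx p.1.Idx K) = p.1.x K (p.1.neg (p.1.simple (p.2.getD i (0, 1)).1)) (t ^ (p.2.getD i (0, 1)).2)) := by
  simp only [List.mem_cons, List.not_mem_nil, or_false] at hp
  rcases hp with rfl | rfl
  · have hinj : IsSimpleGroup ↥(chevB2.group K) ∨ Finite K := by
      by_cases hfin : Finite K
      · exact Or.inr hfin
      · left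
        classical
        haveI : Infinite K := not_finite_iff_infinite.1 hfin
        obtain ⟨a, ha⟩ := Infinite.exists_notMem_finset ({0, 1} : Finset K)
        simp only [Finset.mem_insert, Finset.mem_singleton, not_or] at ha
        exact (Cfsg.Agent.S1056.result ⟨a, ha.1, ha.2⟩).1
    exact aux hperf chevB2 (by simp) rhoB2 lamB2 _ chkTw_B2 hinj spec_B2
  · have hinj : IsSimpleGroup ↥(chevF4.group K) ∨ Finite K :=
      Or.inl (Cfsg.Agent.S1054.result chevF4 (by simp)).1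
    exact aux hperf chevF4 (by simp) rhoF4 lamF4 _ chkTw_F4 hinj spec_F4

end Cfsg.Agent.S1098
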