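import Cfsg.Statements.S1099
import Cfsg.Agent.Lib.Helper18.StGraphData
import Cfsg.Agent.S1055

set_option autoImplicit false
open Cfsg

namespace Cfsg.Agent.S1099

open Cfsg.Lie Cfsg.Agent.Lib.Helper36 Cfsg.Agent.Lib.Helper18

/-- Graph automorphism of G₂ in characteristic 3 (K perfect): `x_a(t) ↦ x_b(t³)`, `x_b(t) ↦ x_a(t)`, `x_{-a}(t) ↦ x_{-b}(t³)`, `x_{-b}(t) ↦ x_{-a}(t)` extend to an automorphism of the group. -/
theorem result {K : Type*} [Field K] [CharP K 3] (hperf : ∀ x : K, ∃ y : K, y ^ 3 = x) :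
    ∃ α : ↥(Cfsg.Lie.chevG2.group K) ≃* ↥(Cfsg.Lie.chevG2.group K), ∀ (g : ↥(Cfsg.Lie.chevG2.group K)) (t : K),
      (((g : GL Cfsg.Lie.chevG2.Idx K) : Matrix _ _ K) = Cfsg.Lie.chevG2.x K Cfsg.Lie.g2a t →
        ((α g : GL Cfsg.Lie.chevG2.Idx K) : Matrix _ _ K) = Cfsg.Lie.chevG2.x K Cfsg.Lie.g2b (t ^ 3)) ∧
      (((g : GL Cfsg.Lie.chevG2.Idx K) : Matrix _ _ K) = Cfsg.Lie.chevG2.x K Cfsg.Lie.g2b t →
        ((α g : GL Cfsg.Lie.chevG2.Idx K) : Matrix _ _ K) = Cfsg.Lie.chevG2.x K Cfsg.Lie.g2a t) ∧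
      (((g : GL Cfsg.Lie.chevG2.Idx K) : Matrix _ _ K) = Cfsg.Lie.chevG2.x K Cfsg.Lie.g2ma t →
        ((α g : GL Cfsg.Lie.chevG2.Idx K) : Matrix _ _ K) = Cfsg.Lie.chevG2.x K Cfsg.Lie.g2mb (t ^ 3)) ∧
      (((g : GL Cfsg.Lie.chevG2.Idx K) : Matrix _ _ K) = Cfsg.Lie.chevG2.x K Cfsg.Lie.g2mb t →
        ((α g : GL Cfsg.Lie.chevG2.Idx K) : Matrix _ _ K) = Cfsg.Lie.chevG2.x K Cfsg.Lie.g2ma t) := by
  haveI : Fact (Nat.Prime 3) := ⟨Nat.prime_three⟩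
  have hD : chevG2 ∈ [chevG2, chevB2, chevD4, chevF4, chevE6, chevE7, chevE8] := by simp
  have hF : ∃ a : K, a ≠ 0 ∧ a ≠ 1 := by
    refine ⟨-1, neg_ne_zero.2 one_ne_zero, ?_⟩
    intro h
    have h2 : (2 : K) = 0 := by
      have : (1 : K) + 1 = 0 := by
        nth_rewrite 1 [← h]
        exact neg_add_cancel 1
      rw [← this]; norm_num
    have h3 : ((3 : ℕ) : K) = 0 := CharP.cast_eq_zero K 3
    have : (1 : K) = 0 := by
      have e : (1 : K) = ((3 : ℕ) : K) - 2 := by push_cast; norm_num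
      rw [e, h3, h2, sub_zero]
    exact one_ne_zero this
  have hinj : IsSimpleGroup ↥(chevG2.group K) ∨ Finite K := Or.inl (Cfsg.Agent.S1055.result hF).1
  obtain ⟨α, hα⟩ := tw_aut chevG2 hD K 3 rhoG2 lamG2 chkTw_G2 hperf hinj
  refine ⟨α, fun g t => ⟨fun hg => ?_, fun hg => ?_, fun hg => ?_, fun hg => ?_⟩⟩
  · have : g = xGr chevG2 hD K g2a t := Subtype.ext (Units.ext (by rw [hg]; rfl))
    rw [this, hα g2a (by decide) t]
    rfl
  · have : g = xGr chevG2 hD K g2b t := Subtype.ext (Units.ext (by rw [hg]; rfl))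
    rw [this, hα g2b (by decide) t]
    show chevG2.x K g2a (t ^ 1) = _
    rw [pow_one]
  · have : g = xGr chevG2 hD K g2ma t := Subtype.ext (Units.ext (by rw [hg]; rfl))
    rw [this, hα g2ma (by decide) t]
    rfl
  · have : g = xGr chevG2 hD K g2mb t := Subtype.ext (Units.ext (by rw [hg]; rfl))
    rw [this, hα g2mb (by decide) t]
    show chevG2.x K g2ma (t ^ 1) = _
    rw [pow_one]

end Cfsg.Agent.S1099
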