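import Cfsg.Statements.S1103
import Cfsg.Agent.Lib.Helper36.ChevTwWeylTab
import Cfsg.Agent.Lib.Helper36.ChevTwCard

set_option autoImplicit false
open Cfsg

namespace Cfsg.Agent.S1103

/-- `N¹/H¹ ≅ W¹`: a surjective homomorphism from `N¹ = G¹ ∩ N` onto the Coxeter group of type F₄ with kernel `H¹`. -/
theorem result {K : Type*} [Field K] [Fintype K] {q : ℕ} (hq : IsPrimePow q) (hK : Fintype.card K = q ^ 2) :
    ∃ φ : ↥(Cfsg.Lie.chevE6.monomialSubgroup K ⊓ Cfsg.Lie.twistedE6 K q) →* (CoxeterMatrix.F₄).Group, Function.Surjective φ ∧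
      φ.ker = (Cfsg.Lie.chevE6.diagonalSubgroup K ⊓ Cfsg.Lie.twistedE6 K q).subgroupOf (Cfsg.Lie.chevE6.monomialSubgroup K ⊓ Cfsg.Lie.twistedE6 K q) := by
  obtain ⟨φ, hφ, -, -⟩ := Cfsg.Agent.Lib.Helper36.frob_facts hq 2 hK
  rw [Cfsg.Agent.Lib.Helper36.twistedE6_eq K q φ hφ hK]
  exact Cfsg.Agent.Lib.Helper36.tw_weyl_equiv Cfsg.Lie.chevE6 Cfsg.Agent.Lib.Helper36.hE6 Cfsg.Agent.Lib.Helper36.graphE6 Cfsg.Agent.Lib.Helper36.orbsE6 Cfsg.Agent.Lib.Helper36.fundE6 Cfsg.Agent.Lib.Helper36.stepsE6 Cfsg.Agent.Lib.Helper36.twOK_E6 K φ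
    Cfsg.Agent.Lib.Helper18.CoxF4.M Cfsg.Agent.Lib.Helper18.CoxF4.A Cfsg.Agent.Lib.Helper18.CoxF4.hA Cfsg.Agent.Lib.Helper18.CoxF4.rho_ker
    Cfsg.Agent.Lib.Helper36.genE6 Cfsg.Agent.Lib.Helper36.genE6_mem Cfsg.Agent.Lib.Helper36.genE6_cov (Cfsg.Agent.Lib.Helper36.chkBraidF_spec Cfsg.Lie.chevE6 4 _ Cfsg.Agent.Lib.Helper36.genE6 Cfsg.Agent.Lib.Helper36.chkBraidF_E6)
    (Cfsg.Agent.Lib.Helper36.foldP Cfsg.Lie.chevE6 Cfsg.Agent.Lib.Helper36.genE6) (Cfsg.Agent.Lib.Helper36.foldS Cfsg.Lie.chevE6 Cfsg.Agent.Lib.Helper36.genE6) Cfsg.Agent.Lib.Helper36.foldSP_E6 Cfsg.Agent.Lib.Helper36.foldEqui_E6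


end Cfsg.Agent.S1103
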