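import Cfsg.Statements.S1107
import Cfsg.Agent.Lib.Helper36.ChevTwWeylTab
import Cfsg.Agent.Lib.Helper36.ChevTwCard

set_option autoImplicit false
open Cfsg

namespace Cfsg.Agent.S1107

/-- `N¹/H¹ ≅ W¹`: a surjective homomorphism from `N¹ = G¹ ∩ N` onto the Coxeter group of type G₂ (dihedral of order 12) with kernel `H¹`. -/
theorem result {K : Type*} [Field K] [Fintype K] {q : ℕ} (hq : IsPrimePow q) (hK : Fintype.card K = q ^ 3) :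
    ∃ φ : ↥(Cfsg.Lie.chevD4.monomialSubgroup K ⊓ Cfsg.Lie.twistedD4 K q) →* (CoxeterMatrix.G₂).Group, Function.Surjective φ ∧
      φ.ker = (Cfsg.Lie.chevD4.diagonalSubgroup K ⊓ Cfsg.Lie.twistedD4 K q).subgroupOf (Cfsg.Lie.chevD4.monomialSubgroup K ⊓ Cfsg.Lie.twistedD4 K q) := by
  obtain ⟨φ, hφ, -, -⟩ := Cfsg.Agent.Lib.Helper36.frob_facts hq 3 hK
  rw [Cfsg.Agent.Lib.Helper36.twistedD4_eq K q φ hφ hK]
  exact Cfsg.Agent.Lib.Helper36.tw_weyl_equiv Cfsg.Lie.chevD4 Cfsg.Agent.Lib.Helper36.hD4 Cfsg.Agent.Lib.Helper36.graphD4 Cfsg.Agent.Lib.Helper36.orbsD4 Cfsg.Agent.Lib.Helper36.fundD4 Cfsg.Agent.Lib.Helper36.stepsD4 Cfsg.Agent.Lib.Helper36.twOK_D4 K φ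
    Cfsg.Agent.Lib.Helper18.CoxG2.M Cfsg.Agent.Lib.Helper18.CoxG2.A Cfsg.Agent.Lib.Helper18.CoxG2.hA Cfsg.Agent.Lib.Helper18.CoxG2.rho_ker
    Cfsg.Agent.Lib.Helper36.genD4 Cfsg.Agent.Lib.Helper36.genD4_mem Cfsg.Agent.Lib.Helper36.genD4_cov (Cfsg.Agent.Lib.Helper36.chkBraidF_spec Cfsg.Lie.chevD4 2 _ Cfsg.Agent.Lib.Helper36.genD4 Cfsg.Agent.Lib.Helper36.chkBraidF_D4)
    (Cfsg.Agent.Lib.Helper36.foldP Cfsg.Lie.chevD4 Cfsg.Agent.Lib.Helper36.genD4) (Cfsg.Agent.Lib.Helper36.foldS Cfsg.Lie.chevD4 Cfsg.Agent.Lib.Helper36.genD4) Cfsg.Agent.Lib.Helper36.foldSP_D4 Cfsg.Agent.Lib.Helper36.foldEqui_D4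


end Cfsg.Agent.S1107
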