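import Cfsg.Statements.S1120
import Cfsg.Agent.Lib.Helper19.RankOneR

set_option autoImplicit false
open Cfsg

namespace Cfsg.Agent.S1120

open Cfsg.Agent.Lib.Helper19 MulAction

theorem result {G Ω : Type*} [Group G] [Finite G] [MulAction G Ω] {a : Ω} {t : G} {Q : Subgroup G}
    (hS : Cfsg.IsRankOneSetup G Ω a t Q)
    (h2 : ∃ x y : G, x ≠ 1 ∧ y ≠ 1 ∧ x ≠ y ∧ x * x = 1 ∧ y * y = 1 ∧ x * y = y * x) :
    Cfsg.pPrimeCore 2 G = (MulAction.stabilizer G a).normalCore := by
  unfold Cfsg.pPrimeCore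
  apply le_antisymm
  · apply sSup_le
    rintro M ⟨hMn, hMc⟩
    have hodd : Odd (Nat.card M) := Nat.coprime_two_left.mp hMc.symm
    exact Subgroup.normal_le_normalCore.mpr (odd_normal_le_stab hS h2 M hodd)
  · apply le_sSup
    refine ⟨inferInstance, ?_⟩
    have hle : (stabilizer G a).normalCore ≤ stabilizer G a ⊓ stabilizer G (t • a) := by
      intro n hn
      refine ⟨Subgroup.normalCore_le _ hn, ?_⟩
      have h1 : t⁻¹ * n * t⁻¹⁻¹ ∈ stabilizer G a := hn t⁻¹
      have h2 : (t⁻¹ * n * t⁻¹⁻¹) • a = a := h1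
      show n • (t • a) = t • a
      rw [inv_inv] at h2
      simp only [mul_smul] at h2
      have := congrArg (t • ·) h2
      beta_reduce at this
      rw [smul_inv_smul] at this
      exact this
    have hdvd := Subgroup.card_dvd_of_le hle
    have hodd : Odd (Nat.card (stabilizer G a).normalCore) := Odd.of_dvd_nat hS.odd_card hdvd
    exact (Nat.coprime_two_left.mpr hodd).symm

end Cfsg.Agent.S1120
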