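import Cfsg.Statements.S1123
import Cfsg.Agent.Lib.Helper19.RankOneInv

set_option autoImplicit false
open Cfsg

namespace Cfsg.Agent.S1123

open Cfsg.Agent.Lib.Helper19 MulAction

theorem result {G Ω : Type*} [Group G] [Finite G] [MulAction G Ω] {a : Ω} {t : G} {Q : Subgroup G}
    (hS : Cfsg.IsRankOneSetup G Ω a t Q) :
    ∃! p : G × G, p.1 ∈ Cfsg.involutionsIn (MulAction.stabilizer G a : Set G) ∧ p.2 ∈ Q ∧
      t * p.1 * t = p.2⁻¹ * t * p.2 := by
  have htt := hS.mul_self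
  have htinv := t_inv hS
  obtain ⟨c, hc⟩ := exists_fixed_of_invol hS htt
  have hca : c ≠ a := by
    intro h
    rw [h] at hc
    exact ta_ne hS hc
  obtain ⟨r₀, hr₀Q, hr₀⟩ := Q_trans_ta hS hca
  have hr₀' : r₀⁻¹ • c = t • a := by rw [← hr₀, inv_smul_smul]
  set s := t * r₀⁻¹ * t * r₀ * t with hs
  have hsa : s • a = a := by
    rw [hs]
    simp only [mul_smul]
    rw [hr₀, hc, hr₀', tta hS]
  have hs1 : s ≠ 1 := by
    intro h
    apply hS.ne_one
    have e : t = r₀ * (t * s * t) * r₀⁻¹ := by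
      rw [hs]
      have : r₀ * (t * (t * r₀⁻¹ * t * r₀ * t) * t) * r₀⁻¹
          = r₀ * ((t * t) * r₀⁻¹ * t * r₀ * (t * t)) * r₀⁻¹ := by group
      rw [this, htt]; group
    rw [e, h, mul_one, htt]; group
  have hs2 : s * s = 1 := by
    rw [hs]
    have : t * r₀⁻¹ * t * r₀ * t * (t * r₀⁻¹ * t * r₀ * t)
        = t * r₀⁻¹ * t * r₀ * (t * t) * r₀⁻¹ * t * r₀ * t := by group
    rw [this, htt]
    have : t * r₀⁻¹ * t * r₀ * 1 * r₀⁻¹ * t * r₀ * t = t * r₀⁻¹ * (t * t) * r₀ * t := by group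
    rw [this, htt]
    have : t * r₀⁻¹ * 1 * r₀ * t = t * t := by group
    rw [this, htt]
  have hmain : t * s * t = r₀⁻¹ * t * r₀ := by
    rw [hs]
    have : t * (t * r₀⁻¹ * t * r₀ * t) * t = (t * t) * r₀⁻¹ * t * r₀ * (t * t) := by group
    rw [this, htt]; group
  refine ⟨(s, r₀), ⟨⟨hsa, hs1, hs2⟩, hr₀Q, hmain⟩, ?_⟩
  rintro ⟨s', r⟩ ⟨⟨hs'a, hs'1, hs'2⟩, hrQ, hmain'⟩
  simp only at hs'a hs'1 hs'2 hrQ hmain'
  have hs'Q : s' ∈ Q := inv_mem_Q hS hs'a hs'2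
  -- s' fixes t • (r⁻¹ • c)
  have h1 : s' • (t • (r⁻¹ • c)) = t • (r⁻¹ • c) := by
    have e : s' = t * (r⁻¹ * t * r) * t := by
      rw [← hmain']
      have : t * (t * s' * t) * t = (t * t) * s' * (t * t) := by group
      rw [this, htt]; group
    have : s' • (t • (r⁻¹ • c)) = (t * (r⁻¹ * t * r) * t) • (t • (r⁻¹ • c)) := by rw [← e]
    rw [this]
    simp only [mul_smul]
    rw [tta_gen hS, smul_inv_smul, hc]
  have h2 : t • (r⁻¹ • c) = a := Q_fix hS hs'Q hs'1 h1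
  have h3 : r⁻¹ • c = t • a := by
    rw [← h2, tta_gen hS]
  have h4 : r • (t • a) = c := by rw [← h3, smul_inv_smul]
  have h5 : r = r₀ := by
    obtain ⟨w, _, hw⟩ := Q_regular hS (ta_ne hS) hca
    have e1 := hw ⟨r, hrQ⟩ h4
    have e2 := hw ⟨r₀, hr₀Q⟩ hr₀
    exact congrArg Subtype.val (e1.trans e2.symm)
  subst h5
  have h6 : s' = s := by
    have e : s' = t * (t * s' * t) * t := by
      have : t * (t * s' * t) * t = (t * t) * s' * (t * t) := by group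
      rw [this, htt]; group
    rw [e, hmain', hs]; group
  rw [h6]

end Cfsg.Agent.S1123
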