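import Cfsg.Statements.S1125
import Cfsg.Agent.Lib.Helper19.RankOneX

set_option autoImplicit false
open Cfsg

namespace Cfsg.Agent.S1125

open Cfsg.Agent.Lib.Helper19 MulAction

theorem result {G Ω : Type*} [Group G] [Finite G] [MulAction G Ω] {a : Ω} {t : G} {Q : Subgroup G}
    (hS : Cfsg.IsRankOneSetup G Ω a t Q)
    (X : Set G) (hX : X ⊆ ((MulAction.stabilizer G a ⊓ MulAction.stabilizer G (t • a)) : Set G))
    (h3 : ∃ b c d : Ω, b ≠ c ∧ b ≠ d ∧ c ≠ d ∧ ∀ x ∈ X, x • b = b ∧ x • c = c ∧ x • d = d) :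
    (∀ b₁ b₂ c₁ c₂ : Ω, (∀ x ∈ X, x • b₁ = b₁ ∧ x • b₂ = b₂ ∧ x • c₁ = c₁ ∧ x • c₂ = c₂) →
        b₁ ≠ b₂ → c₁ ≠ c₂ → ∃ g ∈ Subgroup.centralizer X, g • b₁ = c₁ ∧ g • b₂ = c₂) ∧
      Even (Nat.card ↥(Subgroup.centralizer X ⊓ Q)) ∧
      (Subgroup.centralizer X ⊓ Q) ⊔ (Subgroup.centralizer X ⊓ (MulAction.stabilizer G a ⊓ MulAction.stabilizer G (t • a))) = Subgroup.centralizer X ⊓ MulAction.stabilizer G a := by
  obtain ⟨e, he, hea, heb⟩ := third_point (a := a) (b := t • a) h3
  have ha : ∀ x ∈ X, x • a = a := fun x hx => (hX hx).1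
  have hb : ∀ x ∈ X, x • (t • a) = t • a := fun x hx => (hX hx).2
  refine ⟨?_, ?_, ?_⟩
  · intro b₁ b₂ c₁ c₂ hfix hb12 hc12
    exact two_trans_cent hS hX he hea heb (fun x hx => (hfix x hx).1) (fun x hx => (hfix x hx).2.1)
      (fun x hx => (hfix x hx).2.2.1) (fun x hx => (hfix x hx).2.2.2) hb12 hc12
  · obtain ⟨u, huc, hu2, hua, hub⟩ := exists_swap_invol hS hX h3
    have hu1 : u ≠ 1 := by
      intro h
      rw [h, one_smul] at hua
      exact ta_ne hS hua.symm
    obtain ⟨f, hf⟩ := exists_fixed_of_invol hS hu2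
    have hfX : ∀ x ∈ X, x • f = f := by
      intro x hx
      have hxu : x * u = u * x := Subgroup.mem_centralizer_iff.mp huc x hx
      have : u • (x • f) = x • f := by rw [← mul_smul, ← hxu, mul_smul, hf]
      exact invol_fix_unique hS hu1 hu2 this hf
    obtain ⟨n, hn, hnf⟩ := N_trans hS hX he hea heb hfX ha
    have hnf' : n⁻¹ • a = f := by rw [← hnf, inv_smul_smul]
    set z := n * u * n⁻¹ with hz
    have hzc : z ∈ Subgroup.centralizer X :=
      (Subgroup.centralizer X).mul_mem ((Subgroup.centralizer X).mul_mem hn huc)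
        ((Subgroup.centralizer X).inv_mem hn)
    have hza : z ∈ stabilizer G a := by
      show z • a = a
      rw [hz]; simp only [mul_smul]; rw [hnf', hf, hnf]
    have hz2 : z * z = 1 := by
      have : z * z = n * (u * u) * n⁻¹ := by rw [hz]; group
      rw [this, hu2]; group
    have hz1 : z ≠ 1 := by
      intro h
      apply hu1
      have : u = n⁻¹ * z * n := by rw [hz]; group
      rw [this, h]; group
    have hzQ := inv_mem_Q hS hza hz2
    have hord : orderOf (⟨z, ⟨hzc, hzQ⟩⟩ : ↥(Subgroup.centralizer X ⊓ Q)) = 2 := by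
      apply orderOf_eq_prime
      · apply Subtype.ext
        show z ^ 2 = 1
        rw [pow_two, hz2]
      · intro h
        exact hz1 (congrArg Subtype.val h)
    rw [even_iff_two_dvd, ← hord]
    exact orderOf_dvd_natCard _
  · apply le_antisymm
    · apply sup_le
      · exact inf_le_inf_left _ hS.le
      · exact inf_le_inf_left _ inf_le_left
    · rintro h ⟨hhc, hha⟩
      have hha' : h • a = a := hha
      have hhb : ∀ x ∈ X, x • (h • (t • a)) = h • (t • a) := cent_preserves hhc hb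
      have hhba : h • (t • a) ≠ a := by
        intro heq
        have heq' : h • (t • a) = h • a := heq.trans hha'.symm
        exact ta_ne hS (smul_left_cancel h heq')
      obtain ⟨q, hq, hqb⟩ := cq_trans hS hX hb (ta_ne hS) hhb hhba
      have hd : q⁻¹ * h ∈ Subgroup.centralizer X ⊓ (stabilizer G a ⊓ stabilizer G (t • a)) := by
        refine ⟨(Subgroup.centralizer X).mul_mem ((Subgroup.centralizer X).inv_mem hq.1) hhc, ?_, ?_⟩
        · show (q⁻¹ * h) • a = a
          rw [mul_smul, hha', inv_smul_of_smul (Q_smul_a hS hq.2)]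
        · show (q⁻¹ * h) • (t • a) = t • a
          rw [mul_smul, ← hqb, inv_smul_smul]
      have : h = q * (q⁻¹ * h) := by group
      rw [this]
      exact Subgroup.mul_mem_sup hq hd

end Cfsg.Agent.S1125
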