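import Cfsg.Statements.S1127
import Cfsg.Agent.Lib.Helper19.RankOneC
import Cfsg.Agent.S1123

set_option autoImplicit false
open Cfsg

namespace Cfsg.Agent.S1127

open Cfsg.Agent.Lib.Helper19 MulAction

theorem partA {G Ω : Type*} [Group G] [Finite G] [MulAction G Ω] {a : Ω} {t : G} {Q : Subgroup G}
    (hS : Cfsg.IsRankOneSetup G Ω a t Q) (s r : G)
    (hs : s ∈ Cfsg.involutionsIn (MulAction.stabilizer G a : Set G)) (hr : r ∈ Q)
    (heq : t * s * t = r⁻¹ * t * r) :
    (MulAction.stabilizer G a ⊓ MulAction.stabilizer G (t • a)) ⊓ Subgroup.centralizer {t} =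
      (MulAction.stabilizer G a ⊓ MulAction.stabilizer G (t • a)) ⊓ Subgroup.centralizer {s} := by
  ext d
  constructor
  · rintro ⟨hd, hdt⟩
    refine ⟨hd, mem_centralizer_singleton.mpr ?_⟩
    exact ((cent_t_le hS hs hr heq hd (mem_centralizer_singleton.mp hdt)).2).symm
  · rintro ⟨hd, hds⟩
    refine ⟨hd, mem_centralizer_singleton.mpr ?_⟩
    exact cent_s_le hS hs hr heq hd (mem_centralizer_singleton.mp hds).symm

theorem result {G Ω : Type*} [Group G] [Finite G] [MulAction G Ω] {a : Ω} {t : G} {Q : Subgroup G}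
    (hS : Cfsg.IsRankOneSetup G Ω a t Q) :
    (∀ s r : G, s ∈ Cfsg.involutionsIn (MulAction.stabilizer G a : Set G) → r ∈ Q → t * s * t = r⁻¹ * t * r →
        (MulAction.stabilizer G a ⊓ MulAction.stabilizer G (t • a)) ⊓ Subgroup.centralizer {t} = (MulAction.stabilizer G a ⊓ MulAction.stabilizer G (t • a)) ⊓ Subgroup.centralizer {s}) ∧
      (MulAction.stabilizer G a ⊓ MulAction.stabilizer G (t • a)) ⊓ Subgroup.centralizer {t} ⊓ Subgroup.centralizer (Cfsg.invertedBy (MulAction.stabilizer G a ⊓ MulAction.stabilizer G (t • a)) t) =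
        (MulAction.stabilizer G a ⊓ MulAction.stabilizer G (t • a)) ⊓ Subgroup.centralizer (Cfsg.involutionsIn (MulAction.stabilizer G a : Set G)) := by
  refine ⟨partA hS, ?_⟩
  obtain ⟨⟨s, r⟩, ⟨hs, hr, heq⟩, _⟩ := Cfsg.Agent.S1123.result hS
  simp only at hs hr heq
  have htt := hS.mul_self
  have htinv := t_inv hS
  ext d
  constructor
  · rintro ⟨⟨hd, hdt⟩, hdK⟩
    refine ⟨hd, ?_⟩
    apply Subgroup.mem_centralizer_iff.mpr
    intro s' hs'
    obtain ⟨k, hk, hks⟩ := conj_by_inverted hS hs hs'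
    have hdt' : t * d = d * t := mem_centralizer_singleton.mp hdt
    have c1 : Commute d s := (cent_t_le hS hs hr heq hd hdt').2
    have c2 : Commute d k := ((Subgroup.mem_centralizer_iff.mp hdK) k hk).symm
    have c3 : Commute d (k⁻¹ * s * k) := (c2.inv_right.mul_right c1).mul_right c2
    rw [← hks]
    exact c3.symm
  · rintro ⟨hd, hdI⟩
    have hcomm : ∀ s' ∈ Cfsg.involutionsIn (MulAction.stabilizer G a : Set G), s' * d = d * s' :=
      Subgroup.mem_centralizer_iff.mp hdI
    have hdt : t * d = d * t := cent_s_le hS hs hr heq hd (hcomm s hs).symm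
    refine ⟨⟨hd, mem_centralizer_singleton.mpr hdt⟩, ?_⟩
    apply Subgroup.mem_centralizer_iff.mpr
    intro k hk
    obtain ⟨hkD, hkinv⟩ := hk
    rw [htinv] at hkinv
    -- d' = k d k⁻¹ centralises all involutions of G_a
    have hd'D : k * d * k⁻¹ ∈ DD G a t :=
      (DD G a t).mul_mem ((DD G a t).mul_mem hkD hd) ((DD G a t).inv_mem hkD)
    have hd's : (k * d * k⁻¹) * s = s * (k * d * k⁻¹) := by
      have h1 := hcomm _ (conj_mem_inv hS hkD.1 hs)
      -- (k⁻¹ s k) d = d (k⁻¹ s k)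
      have e1 : k * d * k⁻¹ * s = k * (d * (k⁻¹ * s * k)) * k⁻¹ := by group
      have e2 : s * (k * d * k⁻¹) = k * ((k⁻¹ * s * k) * d) * k⁻¹ := by group
      rw [e1, e2, h1]
    have hd't : t * (k * d * k⁻¹) = (k * d * k⁻¹) * t := cent_s_le hS hs hr heq hd'D hd's
    -- t d' t = k⁻¹ d k
    have h2 : k⁻¹ * d * k = k * d * k⁻¹ := by
      have e1 : t * (k * d * k⁻¹) * t = (t * k * t) * (t * d) * t * (t * k * t)⁻¹ * (t * t) := by
        have : (t * k * t) * (t * d) * t * (t * k * t)⁻¹ * (t * t)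
            = t * k * (t * t) * d * (t * t⁻¹) * k⁻¹ * (t⁻¹ * t) * t := by group
        rw [this, htt]; group
      rw [hkinv, hdt, htt, inv_inv, mul_one] at e1
      have e3 : k⁻¹ * (d * t) * t * k = k⁻¹ * d * (t * t) * k := by group
      rw [e3, htt, mul_one] at e1
      rw [← e1, hd't]
      have : k * d * k⁻¹ * t * t = k * d * k⁻¹ * (t * t) := by group
      rw [this, htt, mul_one]
    have h3 : d * (k * k) = (k * k) * d := by
      have e1 : d * (k * k) = k * (k⁻¹ * d * k) * k := by group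
      rw [e1, h2]; group
    obtain ⟨m, hm⟩ := hS.odd_card
    have h4 : k = (k * k) ^ (m + 1) := sqrt_unique (DD G a t) hm hkD rfl
    have c1 : Commute d (k * k) := h3
    have c2 : Commute d ((k * k) ^ (m + 1)) := c1.pow_right _
    rw [← h4] at c2
    exact c2.symm

end Cfsg.Agent.S1127
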