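import Cfsg.Statements.S1128
import Cfsg.Agent.Lib.Helper19.RankOneX
import Cfsg.Agent.S1125

set_option autoImplicit false
open Cfsg

namespace Cfsg.Agent.S1128

open Cfsg.Agent.Lib.Helper19 MulAction

/-- the statement holds without faithfulness and without the 2-rank hypothesis -/
theorem inverted_fpf {G Ω : Type*} [Group G] [Finite G] [MulAction G Ω] {a : Ω} {t : G}
    {Q : Subgroup G} (hS : Cfsg.IsRankOneSetup G Ω a t Q)
    (x : G) (hx : x ∈ Cfsg.invertedBy (MulAction.stabilizer G a ⊓ MulAction.stabilizer G (t • a)) t)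
    (hx1 : x ≠ 1) : Q ⊓ Subgroup.centralizer {x} = ⊥ := by
  rw [eq_bot_iff]
  rintro q ⟨hqQ, hqx⟩
  rw [Subgroup.mem_bot]
  by_contra hq1
  have hqx' : x * q = q * x := mem_centralizer_singleton.mp hqx
  have hxa : x • a = a := hx.1.1
  have hxb : x • (t • a) = t • a := hx.1.2
  have hX : ({x} : Set G) ⊆ ((MulAction.stabilizer G a ⊓ MulAction.stabilizer G (t • a)) : Set G) := by
    intro y hy
    rw [Set.mem_singleton_iff] at hy
    rw [hy]; exact hx.1
  have hqb1 : q • (t • a) ≠ a := Q_smul_ta_ne hS hqQ (ta_ne hS)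
  have hqb2 : q • (t • a) ≠ t • a := by
    intro h
    have : q ∈ Q ⊓ stabilizer G (t • a) := ⟨hqQ, h⟩
    rw [hS.inf_eq_bot, Subgroup.mem_bot] at this
    exact hq1 this
  have h3 : ∃ b c d : Ω, b ≠ c ∧ b ≠ d ∧ c ≠ d ∧ ∀ y ∈ ({x} : Set G), y • b = b ∧ y • c = c ∧ y • d = d := by
    refine ⟨a, t • a, q • (t • a), (ta_ne hS).symm, hqb1.symm, hqb2.symm, ?_⟩
    intro y hy
    rw [Set.mem_singleton_iff] at hy
    rw [hy]
    refine ⟨hxa, hxb, ?_⟩
    rw [← mul_smul, hqx', mul_smul, hxb]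
  have heven := (Cfsg.Agent.S1125.result hS {x} hX h3).2.1
  have : Fact (Nat.Prime 2) := ⟨Nat.prime_two⟩
  obtain ⟨⟨s, hsc, hsQ⟩, hs⟩ := exists_prime_orderOf_dvd_card' 2 (even_iff_two_dvd.mp heven)
  have hs1 : s ≠ 1 := by
    intro h
    have : (⟨s, hsc, hsQ⟩ : ↥(Subgroup.centralizer {x} ⊓ Q)) = 1 := Subtype.ext h
    rw [this, orderOf_one] at hs
    omega
  have hs2 : s * s = 1 := by
    have := pow_orderOf_eq_one (⟨s, hsc, hsQ⟩ : ↥(Subgroup.centralizer {x} ⊓ Q))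
    rw [hs] at this
    have := congrArg Subtype.val this
    simpa [pow_two] using this
  have hsI : s ∈ Cfsg.involutionsIn (stabilizer G a : Set G) := ⟨hS.le hsQ, hs1, hs2⟩
  exact hx1 (inverted_comm_eq_one hS hsI hx (mem_centralizer_singleton.mp hsc))

theorem result {G Ω : Type*} [Group G] [Finite G] [MulAction G Ω] [FaithfulSMul G Ω] {a : Ω} {t : G} {Q : Subgroup G}
    (hS : Cfsg.IsRankOneSetup G Ω a t Q)
    (h2 : ∃ x y : G, x ≠ 1 ∧ y ≠ 1 ∧ x ≠ y ∧ x * x = 1 ∧ y * y = 1 ∧ x * y = y * x)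
    (x : G) (hx : x ∈ Cfsg.invertedBy (MulAction.stabilizer G a ⊓ MulAction.stabilizer G (t • a)) t) (hx1 : x ≠ 1) :
    Q ⊓ Subgroup.centralizer {x} = ⊥ := by
  exact inverted_fpf hS x hx hx1

end Cfsg.Agent.S1128
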