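import Cfsg.Statements.S1129
import Cfsg.Agent.S1128
import Cfsg.Agent.Lib.Helper19.RankOneR
import Cfsg.Agent.Lib.Helper19.FpfPrime

set_option autoImplicit false
open Cfsg

namespace Cfsg.Agent.S1129

open Cfsg.Agent.Lib.Helper19 MulAction

/-- there is a nontrivial element of `D` inverted by `t` -/
theorem exists_inverted_ne_one {G Ω : Type*} [Group G] [Finite G] [MulAction G Ω] {a : Ω} {t : G}
    {Q : Subgroup G} (hS : Cfsg.IsRankOneSetup G Ω a t Q)
    (h2 : ∃ x y : G, x ≠ 1 ∧ y ≠ 1 ∧ x ≠ y ∧ x * x = 1 ∧ y * y = 1 ∧ x * y = y * x) :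
    ∃ x ∈ Cfsg.invertedBy (stabilizer G a ⊓ stabilizer G (t • a)) t, x ≠ 1 := by
  obtain ⟨x, y, hx, hy, hxy, -⟩ := exists_comm_invol_in_stab hS h2
  have hcard := card_inverted_eq hS
  have h1 : 1 < Nat.card (Cfsg.involutionsIn (stabilizer G a : Set G)) := by
    rw [Finite.one_lt_card_iff_nontrivial]
    exact ⟨⟨⟨x, hx⟩, ⟨y, hy⟩, fun h => hxy (congrArg Subtype.val h)⟩⟩
  rw [← hcard, Finite.one_lt_card_iff_nontrivial] at h1
  obtain ⟨⟨u, hu⟩, ⟨v, hv⟩, huv⟩ := h1
  by_cases hu1 : u = 1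
  · refine ⟨v, hv, ?_⟩
    intro hv1
    apply huv
    apply Subtype.ext
    show u = v
    rw [hu1, hv1]
  · exact ⟨u, hu, hu1⟩

/-- powers of inverted elements are inverted -/
theorem pow_mem_inverted {G : Type*} [Group G] (D : Subgroup G) (t : G) {x : G}
    (hx : x ∈ Cfsg.invertedBy D t) (n : ℕ) : x ^ n ∈ Cfsg.invertedBy D t := by
  refine ⟨D.pow_mem hx.1 n, ?_⟩
  rw [← conj_pow, hx.2, inv_pow]

/-- In the rank-one set-up (`G` finite and doubly transitive on `Ω`, `t` an involution moving `a`, `Q` normal in `G_a` with `G_a = Q D`, `Q ⊓ D = 1` for the two-point stabiliser `D = G_a ⊓ G_{t • a}`, `|Q|` even, `|D|` odd), with the action faithful and `G` containing two distinct commuting involutions: `Q` is nilpotent. -/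
theorem result {G Ω : Type*} [Group G] [Finite G] [MulAction G Ω] [FaithfulSMul G Ω] {a : Ω} {t : G} {Q : Subgroup G}
    (hS : Cfsg.IsRankOneSetup G Ω a t Q)
    (h2 : ∃ x y : G, x ≠ 1 ∧ y ≠ 1 ∧ x ≠ y ∧ x * x = 1 ∧ y * y = 1 ∧ x * y = y * x) :
    Group.IsNilpotent Q := by
  obtain ⟨x, hx, hx1⟩ := exists_inverted_ne_one hS h2
  -- a power of prime order
  have hord : orderOf x ≠ 1 := fun h => hx1 (orderOf_eq_one_iff.mp h)
  obtain ⟨p, hp, hpd⟩ := Nat.exists_prime_and_dvd hord
  obtain ⟨m, hm⟩ := hpd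
  set y := x ^ m with hy
  have hyK : y ∈ Cfsg.invertedBy (stabilizer G a ⊓ stabilizer G (t • a)) t :=
    pow_mem_inverted _ t hx m
  have hyp : y ^ p = 1 := by
    rw [hy, ← pow_mul, mul_comm, ← hm, pow_orderOf_eq_one]
  have hy1 : y ≠ 1 := by
    intro h
    have hmpos : 0 < m := by
      rcases Nat.eq_zero_or_pos m with h0 | h0
      · rw [h0, mul_zero] at hm
        exact absurd hm (orderOf_pos x).ne'
      · exact h0
    have h1 : orderOf x ∣ m := orderOf_dvd_of_pow_eq_one h
    have h2 : orderOf x ≤ m := Nat.le_of_dvd hmpos h1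
    rw [hm] at h2
    have := hp.two_le
    nlinarith
  have hfpf := Cfsg.Agent.S1128.inverted_fpf hS y hyK hy1
  have hyN : y ∈ Subgroup.normalizer (Q : Set G) := Q_le_normalizer hS hyK.1.1
  have hK : Q.map (MulAut.conj y).toMonoidHom = Q := map_conj_eq_of_mem_normalizer hyN
  apply thompson_fpf hp (resAut (MulAut.conj y) Q hK)
  constructor
  · intro q hq
    have h1 := congrArg Subtype.val hq
    rw [resAut_coe] at h1
    have h3 : (q : G) ∈ Q ⊓ Subgroup.centralizer {y} := by
      refine ⟨q.2, ?_⟩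
      show (q : G) ∈ Subgroup.centralizer {y}
      rw [mem_centralizer_singleton]
      have h4 : y * (q : G) * y⁻¹ = (q : G) := h1
      calc y * (q : G) = (y * (q : G) * y⁻¹) * y := by group
        _ = (q : G) * y := by rw [h4]
    rw [hfpf, Subgroup.mem_bot] at h3
    exact Subtype.ext h3
  · intro q
    apply Subtype.ext
    rw [resAut_iterate]
    have : ∀ (n : ℕ) (g : G), (⇑(MulAut.conj y))^[n] g = y ^ n * g * (y ^ n)⁻¹ := by
      intro n
      induction n with
      | zero => intro g; simp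
      | succ n ih =>
        intro g
        rw [Function.iterate_succ_apply', ih, MulAut.conj_apply, pow_succ']
        group
    rw [this, hyp]
    simp

end Cfsg.Agent.S1129
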