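import Cfsg.Statements.S1130
import Cfsg.Agent.S1129
import Cfsg.Agent.Lib.Helper19.NilCenter

set_option autoImplicit false
open Cfsg

namespace Cfsg.Agent.S1130

open Cfsg.Agent.Lib.Helper19 MulAction

/-- there is an involution of `G_a` that is central in `Q` -/
theorem exists_central_invol {G Ω : Type*} [Group G] [Finite G] [MulAction G Ω] [FaithfulSMul G Ω]
    {a : Ω} {t : G} {Q : Subgroup G}
    (hS : Cfsg.IsRankOneSetup G Ω a t Q)
    (h2 : ∃ x y : G, x ≠ 1 ∧ y ≠ 1 ∧ x ≠ y ∧ x * x = 1 ∧ y * y = 1 ∧ x * y = y * x) :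
    ∃ z ∈ Cfsg.involutionsIn (stabilizer G a : Set G), z ∈ Q ∧ ∀ x ∈ Q, z * x = x * z := by
  have hnil : Group.IsNilpotent ↥Q := Cfsg.Agent.S1129.result hS h2
  obtain ⟨z, hz1, hz2, hzc⟩ := exists_central_involution hnil hS.even_card
  refine ⟨(z : G), ⟨hS.le z.2, ?_, ?_⟩, z.2, ?_⟩
  · intro h
    exact hz1 (Subtype.ext h)
  · exact congrArg Subtype.val hz2
  · intro x hx
    exact (congrArg Subtype.val (hzc ⟨x, hx⟩)).symm

/-- every involution of `G_a` is central in `Q` -/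
theorem invol_central {G Ω : Type*} [Group G] [Finite G] [MulAction G Ω] [FaithfulSMul G Ω]
    {a : Ω} {t : G} {Q : Subgroup G}
    (hS : Cfsg.IsRankOneSetup G Ω a t Q)
    (h2 : ∃ x y : G, x ≠ 1 ∧ y ≠ 1 ∧ x ≠ y ∧ x * x = 1 ∧ y * y = 1 ∧ x * y = y * x)
    {s : G} (hs : s ∈ Cfsg.involutionsIn (stabilizer G a : Set G)) :
    s ∈ Q ∧ ∀ x ∈ Q, s * x = x * s := by
  obtain ⟨z, hz, hzQ, hzc⟩ := exists_central_invol hS h2
  refine ⟨inv_mem_Q hS hs.1 hs.2.2, ?_⟩
  obtain ⟨k, hk, hks⟩ := conj_by_inverted hS hz hs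
  intro x hx
  have hkx : k * x * k⁻¹ ∈ Q := hS.conj_mem k hk.1.1 x hx
  have h1 := hzc _ hkx
  rw [← hks]
  calc k⁻¹ * z * k * x = k⁻¹ * (z * (k * x * k⁻¹)) * k := by group
    _ = k⁻¹ * ((k * x * k⁻¹) * z) * k := by rw [h1]
    _ = x * (k⁻¹ * z * k) := by group

/-- In the rank-one set-up (`G` finite and doubly transitive on `Ω`, `t` an involution moving `a`, `Q` normal in `G_a` with `G_a = Q D`, `Q ⊓ D = 1` for the two-point stabiliser `D = G_a ⊓ G_{t • a}`, `|Q|` even, `|D|` odd), with the action faithful and `G` containing two distinct commuting involutions: the involutions of `G_a` lie in `Z(Q)`, and together with `1` they are closed under multiplication (so form an elementary abelian 2-subgroup). -/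
theorem result {G Ω : Type*} [Group G] [Finite G] [MulAction G Ω] [FaithfulSMul G Ω] {a : Ω} {t : G} {Q : Subgroup G}
    (hS : Cfsg.IsRankOneSetup G Ω a t Q)
    (h2 : ∃ x y : G, x ≠ 1 ∧ y ≠ 1 ∧ x ≠ y ∧ x * x = 1 ∧ y * y = 1 ∧ x * y = y * x) :
    (∀ s ∈ Cfsg.involutionsIn (MulAction.stabilizer G a : Set G), s ∈ Q ∧ ∀ x ∈ Q, s * x = x * s) ∧
      ∀ s ∈ Cfsg.involutionsIn (MulAction.stabilizer G a : Set G), ∀ s' ∈ Cfsg.involutionsIn (MulAction.stabilizer G a : Set G),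
        s * s' = 1 ∨ s * s' ∈ Cfsg.involutionsIn (MulAction.stabilizer G a : Set G) := by
  refine ⟨fun s hs => invol_central hS h2 hs, ?_⟩
  intro s hs s' hs'
  by_cases h1 : s * s' = 1
  · exact Or.inl h1
  · right
    have hc := (invol_central hS h2 hs).2 s' (invol_central hS h2 hs').1
    refine ⟨(stabilizer G a).mul_mem hs.1 hs'.1, h1, ?_⟩
    calc s * s' * (s * s') = s * (s' * s) * s' := by group
      _ = s * (s * s') * s' := by rw [hc]
      _ = (s * s) * (s' * s') := by group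
      _ = 1 := by rw [hs.2.2, hs'.2.2, one_mul]

end Cfsg.Agent.S1130
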