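import Cfsg.Statements.S1134
import Cfsg.Agent.Lib.Helper19.RankOneX

set_option autoImplicit false
open Cfsg

namespace Cfsg.Agent.S1134

open Cfsg.Agent.Lib.Helper19 MulAction

/-- an involution swapping `a` and `t • a` is conjugate to `t` by a power of `t * u` inverted by `t` -/
theorem swap_invol_conj_t_pow {G Ω : Type*} [Group G] [Finite G] [MulAction G Ω] {a : Ω} {t : G}
    {Q : Subgroup G} (hS : Cfsg.IsRankOneSetup G Ω a t Q) {u : G}
    (hu2 : u * u = 1) (hua : u • a = t • a) (hub : u • (t • a) = a) :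
    ∃ n : ℕ, (t * u) ^ n ∈ Cfsg.invertedBy (DD G a t) t ∧
      ((t * u) ^ n)⁻¹ * t * (t * u) ^ n = u := by
  have htt := hS.mul_self
  have htinv := t_inv hS
  have huinv : u⁻¹ = u := inv_eq_of_mul_eq_one_left hu2
  obtain ⟨m, hm⟩ := hS.odd_card
  have hκD : t * u ∈ DD G a t := by
    constructor
    · show (t * u) • a = a
      rw [mul_smul, hua, tta hS]
    · show (t * u) • (t • a) = t • a
      rw [mul_smul, hub]
  have hκinv : t * (t * u) * t⁻¹ = (t * u)⁻¹ := by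
    rw [mul_inv_rev, htinv, huinv]
    have : t * (t * u) * t = (t * t) * u * t := by group
    rw [this, htt, one_mul]
  refine ⟨m + 1, ?_⟩
  set k := (t * u) ^ (m + 1) with hk
  have hkD : k ∈ DD G a t := (DD G a t).pow_mem hκD _
  have hkinv : t * k * t⁻¹ = k⁻¹ := by
    rw [hk, ← conj_pow, hκinv, inv_pow]
  have hkk : k * k = t * u := by
    rw [hk, ← pow_add]
    have hm' : Nat.card (DD G a t) = 2 * m + 1 := hm
    have : m + 1 + (m + 1) = Nat.card (DD G a t) + 1 := by omega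
    rw [this, pow_succ, pow_card_sub _ hκD, one_mul]
  refine ⟨⟨hkD, hkinv⟩, ?_⟩
  have e1 : k⁻¹ * t * k = k⁻¹ * (t * k * t⁻¹) * t := by group
  rw [e1, hkinv]
  have e2 : k⁻¹ * k⁻¹ * t = (k * k)⁻¹ * t := by group
  rw [e2, hkk, mul_inv_rev, htinv, huinv, mul_assoc, htt, mul_one]

/-- In the rank-one set-up (`G` finite and doubly transitive on `Ω`, `t` an involution moving `a`, `Q` normal in `G_a` with `G_a = Q D`, `Q ⊓ D = 1` for the two-point stabiliser `D = G_a ⊓ G_{t • a}`, `|Q|` even, `|D|` odd), with the action faithful and `G` containing two distinct commuting involutions, with `V = C_D(t)`: subsets of `V` conjugate in `G` are conjugate in `V`. -/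
theorem result {G Ω : Type*} [Group G] [Finite G] [MulAction G Ω] [FaithfulSMul G Ω] {a : Ω} {t : G} {Q : Subgroup G}
    (hS : Cfsg.IsRankOneSetup G Ω a t Q)
    (h2 : ∃ x y : G, x ≠ 1 ∧ y ≠ 1 ∧ x ≠ y ∧ x * x = 1 ∧ y * y = 1 ∧ x * y = y * x)
    (X : Set G) (hX : X ⊆ (((MulAction.stabilizer G a ⊓ MulAction.stabilizer G (t • a)) ⊓ Subgroup.centralizer {t} : Subgroup G) : Set G)) (g : G)
    (hY : (fun x => g * x * g⁻¹) '' X ⊆ (((MulAction.stabilizer G a ⊓ MulAction.stabilizer G (t • a)) ⊓ Subgroup.centralizer {t} : Subgroup G) : Set G)) :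
    ∃ v ∈ (MulAction.stabilizer G a ⊓ MulAction.stabilizer G (t • a)) ⊓ Subgroup.centralizer {t}, (fun x => v * x * v⁻¹) '' X = (fun x => g * x * g⁻¹) '' X := by
  have htt := hS.mul_self
  have htinv := t_inv hS
  obtain ⟨c, hc⟩ := exists_fixed_of_invol hS htt
  have hca : c ≠ a := by
    intro h
    rw [h] at hc
    exact ta_ne hS hc
  have hcb : c ≠ t • a := by
    intro h
    rw [h, tta hS] at hc
    exact ta_ne hS hc.symm
  have hXD : X ⊆ (DD G a t : Set G) := fun x hx => (hX hx).1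
  have hXt : ∀ x ∈ X, t * x = x * t := fun x hx => mem_centralizer_singleton.mp (hX hx).2
  have hYD : ∀ x ∈ X, g * x * g⁻¹ ∈ DD G a t := fun x hx => (hY ⟨x, hx, rfl⟩).1
  have hYt : ∀ x ∈ X, t * (g * x * g⁻¹) = (g * x * g⁻¹) * t :=
    fun x hx => mem_centralizer_singleton.mp (hY ⟨x, hx, rfl⟩).2
  have hXa : ∀ x ∈ X, x • a = a := fun x hx => (hXD hx).1
  have hXb : ∀ x ∈ X, x • (t • a) = t • a := fun x hx => (hXD hx).2
  have hXc : ∀ x ∈ X, x • c = c := by
    intro x hx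
    have : t • (x • c) = x • c := by rw [← mul_smul, hXt x hx, mul_smul, hc]
    exact invol_fix_unique hS hS.ne_one htt this hc
  -- the transported points
  have hfix : ∀ {f : Ω}, (∀ x ∈ X, (g * x * g⁻¹) • f = f) → ∀ x ∈ X, x • (g⁻¹ • f) = g⁻¹ • f := by
    intro f hf x hx
    have h1 := hf x hx
    have e : x = g⁻¹ * (g * x * g⁻¹) * g := by group
    rw [e, mul_smul, mul_smul, smul_inv_smul, h1]
  have hXa' : ∀ x ∈ X, x • (g⁻¹ • a) = g⁻¹ • a := hfix (fun x hx => (hYD x hx).1)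
  have hXb' : ∀ x ∈ X, x • (g⁻¹ • (t • a)) = g⁻¹ • (t • a) := hfix (fun x hx => (hYD x hx).2)
  have hne : g⁻¹ • a ≠ g⁻¹ • (t • a) := by
    intro h
    exact ta_ne hS (smul_left_cancel _ h).symm
  obtain ⟨y, hyC, hya, hyb⟩ :=
    two_trans_cent hS hXD hXc hca hcb hXa' hXb' hXa hXb hne (ta_ne hS).symm
  have hyx : ∀ x ∈ X, y⁻¹ * x * y = x := by
    intro x hx
    have := Subgroup.mem_centralizer_iff.mp hyC x hx
    rw [mul_assoc, this]; group
  set g₁ := g * y⁻¹ with hg₁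
  have hg₁x : ∀ x ∈ X, g₁ * x * g₁⁻¹ = g * x * g⁻¹ := by
    intro x hx
    have : g₁ * x * g₁⁻¹ = g * (y⁻¹ * x * y) * g⁻¹ := by rw [hg₁]; group
    rw [this, hyx x hx]
  have hg₁a' : g₁⁻¹ • a = a := by
    have : g₁⁻¹ = y * g⁻¹ := by rw [hg₁]; group
    rw [this, mul_smul, hya]
  have hg₁b' : g₁⁻¹ • (t • a) = t • a := by
    have : g₁⁻¹ = y * g⁻¹ := by rw [hg₁]; group
    rw [this, mul_smul, hyb]
  have hg₁a : g₁ • a = a := by
    have := inv_smul_of_smul hg₁a'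
    rwa [inv_inv] at this
  have hg₁b : g₁ • (t • a) = t • a := by
    have := inv_smul_of_smul hg₁b'
    rwa [inv_inv] at this
  -- the involution `u' = g₁⁻¹ t g₁`
  set u' := g₁⁻¹ * t * g₁ with hu'
  have hu'2 : u' * u' = 1 := by
    have : u' * u' = g₁⁻¹ * (t * t) * g₁ := by rw [hu']; group
    rw [this, htt]; group
  have hu'a : u' • a = t • a := by
    rw [hu']; simp only [mul_smul]; rw [hg₁a, hg₁b']
  have hu'b : u' • (t • a) = a := by
    rw [hu']; simp only [mul_smul]; rw [hg₁b, tta hS, hg₁a']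
  have hu'x : ∀ x ∈ X, x * u' = u' * x := by
    intro x hx
    have h1 := hYt x hx
    rw [← hg₁x x hx] at h1
    -- t * (g₁ x g₁⁻¹) = (g₁ x g₁⁻¹) * t
    have e1 : x * u' = g₁⁻¹ * ((g₁ * x * g₁⁻¹) * t) * g₁ := by rw [hu']; group
    have e2 : u' * x = g₁⁻¹ * (t * (g₁ * x * g₁⁻¹)) * g₁ := by rw [hu']; group
    rw [e1, e2, h1]
  obtain ⟨n, hn, hnu⟩ := swap_invol_conj_t_pow hS hu'2 hu'a hu'b
  set d := (t * u') ^ n with hd
  have hdx : ∀ x ∈ X, d * x = x * d := by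
    intro x hx
    have c1 : Commute x t := (hXt x hx).symm
    have c2 : Commute x u' := hu'x x hx
    have c3 : Commute x ((t * u') ^ n) := (c1.mul_right c2).pow_right n
    exact c3.symm
  have hdD : d ∈ DD G a t := hn.1
  -- the element `v = g₁ d⁻¹`
  refine ⟨g₁ * d⁻¹, ⟨?_, ?_⟩, ?_⟩
  · exact (DD G a t).mul_mem ⟨hg₁a, hg₁b⟩ ((DD G a t).inv_mem hdD)
  · show g₁ * d⁻¹ ∈ Subgroup.centralizer {t}
    rw [mem_centralizer_singleton]
    -- t * (g₁ d⁻¹) = (g₁ d⁻¹) * t  from d⁻¹ t d = u' = g₁⁻¹ t g₁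
    have e : d⁻¹ * t * d = g₁⁻¹ * t * g₁ := hnu
    calc t * (g₁ * d⁻¹) = g₁ * (g₁⁻¹ * t * g₁) * d⁻¹ := by group
      _ = g₁ * (d⁻¹ * t * d) * d⁻¹ := by rw [e]
      _ = g₁ * d⁻¹ * t := by group
  · apply Set.image_congr
    intro x hx
    have hdx' : d⁻¹ * x * d = x := by
      rw [mul_assoc, ← hdx x hx]; group
    calc g₁ * d⁻¹ * x * (g₁ * d⁻¹)⁻¹ = g₁ * (d⁻¹ * x * d) * g₁⁻¹ := by group
      _ = g₁ * x * g₁⁻¹ := by rw [hdx']
      _ = g * x * g⁻¹ := hg₁x x hx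

end Cfsg.Agent.S1134
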