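import Cfsg.Statements.S1135
import Cfsg.Agent.S1130

set_option autoImplicit false
open Cfsg

namespace Cfsg.Agent.S1135

open Cfsg.Agent.Lib.Helper19 MulAction

/-- an involution without fixed points on a finite set forces even cardinality -/
theorem even_card_of_fpf_involution {α : Type*} [DecidableEq α] (F : Finset α) (σ : α → α)
    (h1 : ∀ z ∈ F, σ z ∈ F) (h2 : ∀ z ∈ F, σ (σ z) = z) (h3 : ∀ z ∈ F, σ z ≠ z) : Even F.card := by
  have h : ∑ z ∈ F, (1 : ZMod 2) = 0 :=
    Finset.sum_involution (fun z _ => σ z) (fun z _ => by decide) (fun z hz _ => h3 z hz)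
      (fun z hz => h1 z hz) (fun z hz => h2 z hz)
  rw [Finset.sum_const, nsmul_one] at h
  exact (ZMod.natCast_eq_zero_iff_even).mp h

variable {G Ω : Type*} [Group G] [Finite G] [MulAction G Ω] [FaithfulSMul G Ω] {a : Ω} {t : G}
  {Q : Subgroup G}

/-- two involutions fixing a common point commute -/
theorem invol_comm_of_fix (hS : Cfsg.IsRankOneSetup G Ω a t Q)
    (h2 : ∃ x y : G, x ≠ 1 ∧ y ≠ 1 ∧ x ≠ y ∧ x * x = 1 ∧ y * y = 1 ∧ x * y = y * x)
    {u w : G} (hu1 : u ≠ 1) (hu2 : u * u = 1) (hw1 : w ≠ 1) (hw2 : w * w = 1) {p : Ω}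
    (hup : u • p = p) (hwp : w • p = p) : u * w = w * u := by
  have := pretrans hS
  obtain ⟨g, hg⟩ := exists_smul_eq G p a
  have hg' : g⁻¹ • a = p := by rw [← hg, inv_smul_smul]
  have hu' : g * u * g⁻¹ ∈ Cfsg.involutionsIn (stabilizer G a : Set G) := by
    refine ⟨?_, (conj_invol hu1 hu2).1, (conj_invol hu1 hu2).2⟩
    show (g * u * g⁻¹) • a = a
    simp only [mul_smul]; rw [hg', hup, hg]
  have hw' : g * w * g⁻¹ ∈ Cfsg.involutionsIn (stabilizer G a : Set G) := by
    refine ⟨?_, (conj_invol hw1 hw2).1, (conj_invol hw1 hw2).2⟩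
    show (g * w * g⁻¹) • a = a
    simp only [mul_smul]; rw [hg', hwp, hg]
  have hc := (Cfsg.Agent.S1130.invol_central hS h2 hu').2 _
    (Cfsg.Agent.S1130.invol_central hS h2 hw').1
  have e1 : u * w = g⁻¹ * ((g * u * g⁻¹) * (g * w * g⁻¹)) * g := by group
  rw [e1, hc]; group

omit [Finite G] [FaithfulSMul G Ω] in
/-- conjugation by `t` carries involutions fixing `t • a` to involutions fixing `a` -/
theorem conj_t_mem (hS : Cfsg.IsRankOneSetup G Ω a t Q) {v : G}
    (hv : v ∈ Cfsg.involutionsIn (stabilizer G (t • a) : Set G)) :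
    t * v * t ∈ Cfsg.involutionsIn (stabilizer G a : Set G) := by
  obtain ⟨hvb, hv1, hv2⟩ := hv
  have hvb' : v • (t • a) = t • a := hvb
  have htinv := t_inv hS
  have h := conj_invol (g := t) hv1 hv2
  rw [htinv] at h
  refine ⟨?_, h.1, h.2⟩
  show (t * v * t) • a = a
  simp only [mul_smul]
  rw [hvb', tta hS]

theorem part1 (hS : Cfsg.IsRankOneSetup G Ω a t Q)
    (h2 : ∃ x y : G, x ≠ 1 ∧ y ≠ 1 ∧ x ≠ y ∧ x * x = 1 ∧ y * y = 1 ∧ x * y = y * x)
    (u v : G) (hu1 : u ≠ 1) (hu2 : u * u = 1) (hv1 : v ≠ 1) (hv2 : v * v = 1)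
    (hx : (u * v) * (u * v) ≠ 1) :
    ∃ g : G, ∃ u' ∈ Cfsg.involutionsIn (MulAction.stabilizer G a : Set G),
      g * (u * v) * g⁻¹ = u' * t := by
  have htt := hS.mul_self
  have htinv := t_inv hS
  obtain ⟨p, hp⟩ := exists_fixed_of_invol hS hu2
  obtain ⟨p', hp'⟩ := exists_fixed_of_invol hS hv2
  have hpp' : p' ≠ p := by
    intro h
    rw [h] at hp'
    have hc := invol_comm_of_fix hS h2 hu1 hu2 hv1 hv2 hp hp'
    apply hx
    calc u * v * (u * v) = u * (v * u) * v := by group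
      _ = u * (u * v) * v := by rw [hc]
      _ = (u * u) * (v * v) := by group
      _ = 1 := by rw [hu2, hv2, one_mul]
  have := pretrans hS
  obtain ⟨g₁, hg₁⟩ := exists_smul_eq G p a
  have h1 : g₁ • p' ≠ a := by
    intro h
    apply hpp'
    rw [← hg₁] at h
    exact smul_left_cancel g₁ h
  obtain ⟨h, hhQ, hh⟩ := Q_trans hS h1 (ta_ne hS)
  obtain ⟨c, hc⟩ := exists_fixed_of_invol hS htt
  have hca : c ≠ a := by
    intro h
    rw [h] at hc
    exact ta_ne hS hc
  obtain ⟨r, hrQ, hr⟩ := Q_trans hS (ta_ne hS) hca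
  have hr' : r⁻¹ • c = t • a := by rw [← hr, inv_smul_smul]
  set g₂ := h * g₁ with hg₂
  have hg₂p : g₂ • p = a := by rw [hg₂, mul_smul, hg₁]; exact Q_smul_a hS hhQ
  have hg₂p' : g₂ • p' = t • a := by rw [hg₂, mul_smul, hh]
  have hg₂p'' : g₂⁻¹ • (t • a) = p' := by rw [← hg₂p', inv_smul_smul]
  -- the two involutions fixing `t • a`
  have hv₂ : g₂ * v * g₂⁻¹ ∈ Cfsg.involutionsIn (stabilizer G (t • a) : Set G) := by
    refine ⟨?_, (conj_invol hv1 hv2).1, (conj_invol hv1 hv2).2⟩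
    show (g₂ * v * g₂⁻¹) • (t • a) = t • a
    simp only [mul_smul]; rw [hg₂p'', hp', hg₂p']
  have hw : r⁻¹ * t * r ∈ Cfsg.involutionsIn (stabilizer G (t • a) : Set G) := by
    have h := conj_invol (g := r⁻¹) hS.ne_one htt
    rw [inv_inv] at h
    refine ⟨?_, h.1, h.2⟩
    show (r⁻¹ * t * r) • (t • a) = t • a
    simp only [mul_smul]; rw [hr, hc, hr']
  obtain ⟨k, hk, hks⟩ := conj_by_inverted hS (conj_t_mem hS hv₂) (conj_t_mem hS hw)
  have e1 : t * k * t = k⁻¹ := by
    have := hk.2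
    rwa [htinv] at this
  have e2 : t * k⁻¹ * t = k := by
    have : t * k⁻¹ * t = (t * k * t)⁻¹ := by
      rw [mul_inv_rev, mul_inv_rev, htinv]; group
    rw [this, e1, inv_inv]
  have hkv : k * (g₂ * v * g₂⁻¹) * k⁻¹ = r⁻¹ * t * r := by
    calc k * (g₂ * v * g₂⁻¹) * k⁻¹ = (t * k⁻¹ * t) * (g₂ * v * g₂⁻¹) * (t * k * t) := by
          rw [e1, e2]
      _ = t * (k⁻¹ * (t * (g₂ * v * g₂⁻¹) * t) * k) * t := by group
      _ = t * (t * (r⁻¹ * t * r) * t) * t := by rw [hks]
      _ = (t * t) * (r⁻¹ * t * r) * (t * t) := by group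
      _ = r⁻¹ * t * r := by rw [htt, one_mul, mul_one]
  have hka : k • a = a := hk.1.1
  have hra : r • a = a := Q_smul_a hS hrQ
  have hgp : (r * k * g₂) • p = a := by
    rw [mul_smul, mul_smul, hg₂p, hka, hra]
  have hgp' : (r * k * g₂)⁻¹ • a = p := by rw [← hgp, inv_smul_smul]
  refine ⟨r * k * g₂, (r * k * g₂) * u * (r * k * g₂)⁻¹, ⟨?_, (conj_invol hu1 hu2).1,
    (conj_invol hu1 hu2).2⟩, ?_⟩
  · show ((r * k * g₂) * u * (r * k * g₂)⁻¹) • a = a
    rw [mul_smul, mul_smul, hgp', hp, hgp]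
  · have e3 : (r * k * g₂) * v * (r * k * g₂)⁻¹ = t := by
      calc (r * k * g₂) * v * (r * k * g₂)⁻¹ = r * (k * (g₂ * v * g₂⁻¹) * k⁻¹) * r⁻¹ := by group
        _ = r * (r⁻¹ * t * r) * r⁻¹ := by rw [hkv]
        _ = t := by group
    calc (r * k * g₂) * (u * v) * (r * k * g₂)⁻¹
        = ((r * k * g₂) * u * (r * k * g₂)⁻¹) * ((r * k * g₂) * v * (r * k * g₂)⁻¹) := by group
      _ = ((r * k * g₂) * u * (r * k * g₂)⁻¹) * t := by rw [e3]

theorem part2 (hS : Cfsg.IsRankOneSetup G Ω a t Q)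
    (h2 : ∃ x y : G, x ≠ 1 ∧ y ≠ 1 ∧ x ≠ y ∧ x * x = 1 ∧ y * y = 1 ∧ x * y = y * x)
    (u v : G) (hu1 : u ≠ 1) (hu2 : u * u = 1) (hv1 : v ≠ 1) (hv2 : v * v = 1)
    (hx : (u * v) * (u * v) ≠ 1) :
    Odd (Nat.card ↥(Subgroup.centralizer {u * v})) := by
  by_contra hodd
  rw [Nat.not_odd_iff_even] at hodd
  have : Fact (Nat.Prime 2) := ⟨Nat.prime_two⟩
  obtain ⟨w, hw⟩ := exists_prime_orderOf_dvd_card' 2 hodd.two_dvd
  obtain ⟨w', hwc⟩ := w
  have hw1 : w' ≠ 1 := by
    intro h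
    have : (⟨w', hwc⟩ : ↥(Subgroup.centralizer {u * v})) = 1 := Subtype.ext h
    rw [this, orderOf_one] at hw
    omega
  have hw2 : w' * w' = 1 := by
    have h := pow_orderOf_eq_one (⟨w', hwc⟩ : ↥(Subgroup.centralizer {u * v}))
    rw [hw, pow_two] at h
    exact congrArg Subtype.val h
  have hwx : (u * v) * w' = w' * (u * v) := Subgroup.mem_centralizer_iff.mp hwc _ rfl
  have hfin : Finite Ω := by
    apply Nat.finite_of_card_ne_zero
    rw [card_Omega hS]
    omega
  classical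
  have := Fintype.ofFinite Ω
  set x := u * v with hxdef
  let F : Finset Ω := Finset.univ.filter (fun z => x • z = z)
  have hF : ∀ z, z ∈ F ↔ x • z = z := by
    intro z
    simp [F]
  have huinv : u⁻¹ = u := inv_eq_of_mul_eq_one_left hu2
  have hvinv : v⁻¹ = v := inv_eq_of_mul_eq_one_left hv2
  have hxinv : x⁻¹ = v * u := by rw [hxdef, mul_inv_rev, huinv, hvinv]
  have hxu : x * u = u * x⁻¹ := by
    rw [hxinv, hxdef]
    have : u * (v * u) = u * v * u := by group
    rw [this]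
  have hxfix : ∀ z : Ω, x • z = z → x⁻¹ • z = z := fun z hz => inv_smul_of_smul hz
  -- `u` acts on `F` without fixed points
  have hE : Even F.card := by
    apply even_card_of_fpf_involution F (fun z => u • z)
    · intro z hz
      rw [hF] at hz ⊢
      show x • (u • z) = u • z
      rw [← mul_smul, hxu, mul_smul, hxfix z hz]
    · intro z _
      show u • (u • z) = z
      rw [← mul_smul, hu2, one_smul]
    · intro z hz huz
      rw [hF] at hz
      have huz' : u • z = z := huz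
      have hvz : v • z = z := by
        have e : v = u * x := by
          rw [hxdef, ← mul_assoc, hu2, one_mul]
        rw [e, mul_smul, hz, huz']
      have hc := invol_comm_of_fix hS h2 hu1 hu2 hv1 hv2 huz' hvz
      apply hx
      calc u * v * (u * v) = u * (v * u) * v := by group
        _ = u * (u * v) * v := by rw [hc]
        _ = (u * u) * (v * v) := by group
        _ = 1 := by rw [hu2, hv2, one_mul]
  -- the fixed point of `w'` lies in `F`
  obtain ⟨z₀, hz₀⟩ := exists_fixed_of_invol hS hw2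
  have hz₀F : z₀ ∈ F := by
    rw [hF]
    have : w' • (x • z₀) = x • z₀ := by
      rw [← mul_smul, ← hwx, mul_smul, hz₀]
    exact invol_fix_unique hS hw1 hw2 this hz₀
  have hO : Even (F.erase z₀).card := by
    apply even_card_of_fpf_involution (F.erase z₀) (fun z => w' • z)
    · intro z hz
      rw [Finset.mem_erase] at hz ⊢
      obtain ⟨hz1, hz2⟩ := hz
      rw [hF] at hz2
      refine ⟨?_, ?_⟩
      · intro h
        apply hz1
        have h' : w' • z = z₀ := h
        have : w' • (w' • z) = w' • z₀ := by rw [h']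
        rw [← mul_smul, hw2, one_smul, hz₀] at this
        exact this
      · rw [hF]
        show x • (w' • z) = w' • z
        rw [← mul_smul, hwx, mul_smul, hz2]
    · intro z _
      show w' • (w' • z) = z
      rw [← mul_smul, hw2, one_smul]
    · intro z hz hwz
      rw [Finset.mem_erase] at hz
      have hwz' : w' • z = z := hwz
      exact hz.1 (invol_fix_unique hS hw1 hw2 hwz' hz₀)
  rw [Finset.card_erase_of_mem hz₀F] at hO
  have hpos : 0 < F.card := Finset.card_pos.mpr ⟨z₀, hz₀F⟩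
  obtain ⟨m, hm⟩ := hE
  obtain ⟨n, hn⟩ := hO
  omega

/-- In the rank-one set-up (`G` finite and doubly transitive on `Ω`, `t` an involution moving `a`, `Q` normal in `G_a` with `G_a = Q D`, `Q ⊓ D = 1` for the two-point stabiliser `D = G_a ⊓ G_{t • a}`, `|Q|` even, `|D|` odd), with the action faithful and `G` containing two distinct commuting involutions: if `x = u v` with `u, v` involutions and `x² ≠ 1`, then `x` is conjugate to `u' t` for some involution `u'` of `G_a`, and `|C_G(x)|` is odd. -/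
theorem result {G Ω : Type*} [Group G] [Finite G] [MulAction G Ω] [FaithfulSMul G Ω] {a : Ω} {t : G} {Q : Subgroup G}
    (hS : Cfsg.IsRankOneSetup G Ω a t Q)
    (h2 : ∃ x y : G, x ≠ 1 ∧ y ≠ 1 ∧ x ≠ y ∧ x * x = 1 ∧ y * y = 1 ∧ x * y = y * x)
    (u v : G) (hu1 : u ≠ 1) (hu2 : u * u = 1) (hv1 : v ≠ 1) (hv2 : v * v = 1) (hx : (u * v) * (u * v) ≠ 1) :
    (∃ g : G, ∃ u' ∈ Cfsg.involutionsIn (MulAction.stabilizer G a : Set G), g * (u * v) * g⁻¹ = u' * t) ∧
      Odd (Nat.card ↥(Subgroup.centralizer {u * v})) :=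
  ⟨part1 hS h2 u v hu1 hu2 hv1 hv2 hx, part2 hS h2 u v hu1 hu2 hv1 hv2 hx⟩

end Cfsg.Agent.S1135
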