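import Cfsg.Statements.S1151
import Cfsg.Agent.Lib.Helper36.ReeOdd

set_option autoImplicit false
open Cfsg

namespace Cfsg.Agent.S1151

open Cfsg.Lie Cfsg.Agent.Lib.Helper36 Cfsg.Agent.Lib.Helper18

/-- In the small Ree group ²G₂(q), q = 3^(2m+1), realised as G¹ inside the Chevalley group G₂ over the field with q elements (θ the 3^m-th power map), with H¹ = G¹ ∩ H and U¹ = G¹ ∩ U the intersections with the ambient diagonal and positive unipotent subgroups: `H¹` has exactly `(q - 1)/2` elements of odd order, and each non-identity one centralises no non-identity element of `U¹`. -/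
theorem result {K : Type*} [Field K] [Fintype K] {m : ℕ} (hK : Fintype.card K = 3 ^ (2 * m + 1)) :
    2 * Nat.card {h : ↥(Cfsg.Lie.chevG2.diagonalSubgroup K ⊓ Cfsg.Lie.twistedG2 K (3 ^ m)) // Odd (orderOf h)} = 3 ^ (2 * m + 1) - 1 ∧
      ∀ h ∈ (Cfsg.Lie.chevG2.diagonalSubgroup K ⊓ Cfsg.Lie.twistedG2 K (3 ^ m)), h ≠ 1 → Odd (orderOf h) →
        (Cfsg.Lie.chevG2.posUnipotent K ⊓ Cfsg.Lie.twistedG2 K (3 ^ m)) ⊓ Subgroup.centralizer {h} = ⊥ := by
  refine ⟨ree_diag_odd_card hK, ?_⟩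
  intro h hh hne hodd
  obtain ⟨s, rfl⟩ := (ree_diag_inf hK h).1 hh
  rw [eq_bot_iff]
  intro g hg
  obtain ⟨hgU, hgc⟩ := Subgroup.mem_inf.1 hg
  obtain ⟨t, u, v, rfl⟩ := (ree_pos_inf hK g).1 hgU
  have hs : s ≠ 1 := by
    rintro rfl
    exact hne (map_one _)
  have hodd' : Odd (orderOf s) := by
    rwa [orderOf_injective (reeHm (3 ^ m)) (reeHm_injective _) s] at hodd
  have hcomm := Subgroup.mem_centralizer_iff.1 hgc (reeHm (3 ^ m) s) rfl
  have hc : reeHm (3 ^ m) s * reeUel m (t, u, v) * (reeHm (3 ^ m) s)⁻¹ = reeUel m (t, u, v) := by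
    show reeHm (3 ^ m) s * wordGL chevG2 hG2 K (reeWordU (3 ^ m) t u v) * (reeHm (3 ^ m) s)⁻¹ = _
    rw [hcomm, mul_inv_cancel_right]
    rfl
  have h0 := ree_odd_fixed_point_free hK s hs hodd' _ hc
  rw [Subgroup.mem_bot]
  have : wordGL chevG2 hG2 K (reeWordU (3 ^ m) t u v) = reeUel m (t, u, v) := rfl
  rw [this, h0, ree_one_eq]

end Cfsg.Agent.S1151
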