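import Cfsg.Statements.S1154
import Cfsg.Agent.Lib.Helper36.ReeMul2

set_option autoImplicit false
open Cfsg

namespace Cfsg.Agent.S1154

open Cfsg.Lie Cfsg.Agent.Lib.Helper36 Cfsg.Agent.Lib.Helper18

/-- In the small Ree group ²G₂(q), q = 3^(2m+1) with m ≥ 1, realised as G¹ inside the Chevalley group G₂ over the field with q elements (θ the 3^m-th power map), with `U¹ = G¹ ∩ U` (U the positive unipotent subgroup of the ambient G₂): `U¹` has exactly `q² - 1` elements of order 3. -/
theorem result {K : Type*} [Field K] [Fintype K] {m : ℕ} (hm : 1 ≤ m) (hK : Fintype.card K = 3 ^ (2 * m + 1)) :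
    Nat.card {u : ↥(Cfsg.Lie.chevG2.posUnipotent K ⊓ Cfsg.Lie.twistedG2 K (3 ^ m)) // orderOf u = 3} = (3 ^ (2 * m + 1)) ^ 2 - 1 := by
  classical
  have e1 : {u : ↥(chevG2.posUnipotent K ⊓ twistedG2 K (3 ^ m)) // orderOf u = 3} ≃
      {p : K × K × K // p.1 = 0 ∧ p ≠ (0, 0, 0)} := by
    refine ((Equiv.ofBijective _ (reeUmap_bijective hK)).subtypeEquiv ?_).symm
    intro p
    rw [← reeUel_order_three hK p, ← Subgroup.orderOf_coe]
    rfl
  have e2 : {p : K × K × K // p.1 = 0 ∧ p ≠ (0, 0, 0)} ≃ {q : K × K // q ≠ 0} :=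
    { toFun := fun p => ⟨p.1.2, by
        obtain ⟨⟨t, u, v⟩, h1, h2⟩ := p
        simp only at h1
        subst h1
        intro h
        apply h2
        simp only at h
        rw [h]
        rfl⟩
      invFun := fun q => ⟨(0, q.1), rfl, by
        intro h
        apply q.2
        have := congrArg Prod.snd h
        exact this⟩
      left_inv := by
        rintro ⟨⟨t, u, v⟩, h1, h2⟩
        simp only at h1
        subst h1
        rfl
      right_inv := by
        rintro ⟨q, hq⟩
        rfl }
  rw [Nat.card_congr (e1.trans e2), Nat.card_eq_fintype_card, Fintype.card_subtype_compl, Fintype.card_prod, hK,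
    Fintype.card_subtype_eq]
  ring_nf

end Cfsg.Agent.S1154
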