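import Cfsg.Statements.S1159
import Cfsg.Agent.S1158
import Cfsg.Agent.Lib.Helper12.RtInst
import Cfsg.Agent.Lib.Helper12.RtSpecD
import Cfsg.Agent.Lib.Helper18.G2M7Ree

set_option autoImplicit false
open Cfsg

namespace Cfsg.Agent.S1159

/-- In the small Ree group ²G₂(q), q = 3^(2m+1) with m ≥ 1, realised as G¹ inside the Chevalley group G₂ over the field with q elements (θ the 3^m-th power map), with `r = 3^(m+1)`: a natural number is the order of an element of `G¹` iff it divides one of `6`, `9`, `q - 1`, `(q + 1)/2`, `q - r + 1`, `q + r + 1`. -/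
theorem result {K : Type*} [Field K] [Fintype K] {m : ℕ} (hm : 1 ≤ m) (hK : Fintype.card K = 3 ^ (2 * m + 1)) (d : ℕ) :
    (∃ g : ↥(Cfsg.Lie.twistedG2 K (3 ^ m)), orderOf g = d) ↔
      (d ∣ 6 ∨ d ∣ 9 ∨ d ∣ 3 ^ (2 * m + 1) - 1 ∨ d ∣ (3 ^ (2 * m + 1) + 1) / 2 ∨
        d ∣ 3 ^ (2 * m + 1) - 3 ^ (m + 1) + 1 ∨ d ∣ 3 ^ (2 * m + 1) + 3 ^ (m + 1) + 1) := by
  obtain ⟨ρ, hρ, hW, -⟩ := Cfsg.Agent.Lib.Helper18.G2M7.exists_ree_mod7 (m := m) hK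
  have h58 := Cfsg.Agent.S1158.result hm hK
  refine (Cfsg.Agent.Lib.Helper12.Rt.rtData hm hK).spectrum hm ρ hρ hW ?_ ?_ d
  · obtain ⟨A, hA, hAc, -, -⟩ := h58 ((3 ^ (2 * m + 1) + 1) / 4, 6 * (3 ^ (2 * m + 1) + 1))
      (by simp)
    exact ⟨A, hA, hAc⟩
  · rintro t (rfl | rfl)
    · obtain ⟨A, hA, hAc, hN, hA0⟩ := h58 (3 ^ (2 * m + 1) - 3 ^ (m + 1) + 1,
        6 * (3 ^ (2 * m + 1) - 3 ^ (m + 1) + 1)) (by simp)
      exact ⟨A, hA, hAc, hN, hA0⟩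
    · obtain ⟨A, hA, hAc, hN, hA0⟩ := h58 (3 ^ (2 * m + 1) + 3 ^ (m + 1) + 1,
        6 * (3 ^ (2 * m + 1) + 3 ^ (m + 1) + 1)) (by simp)
      exact ⟨A, hA, hAc, hN, hA0⟩

end Cfsg.Agent.S1159
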