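import Cfsg.Statements.S1160
import Cfsg.Agent.S0636
import Cfsg.Agent.Lib.Helper56.NormOp
import Cfsg.Agent.Lib.Helper53.CenterMeet

set_option autoImplicit false
open Cfsg

namespace Cfsg.Agent.S1160

open Cfsg.Agent.Lib.Helper56

section
variable {P E : Type*} [Group P] [Finite P] [AddCommGroup E] [Finite E] [DistribMulAction P E]

/-- `p`-torsion-freeness of an elementary abelian `q`-group, `p`, `q` coprime. -/
lemma eq_zero_of_nsmul {p q : ℕ} (hpq : Nat.Coprime p q) (hE : ∀ e : E, q • e = 0) {e : E}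
    (h : p • e = 0) : e = 0 := by
  have h1 : addOrderOf e ∣ p := addOrderOf_dvd_of_nsmul_eq_zero h
  have h2 : addOrderOf e ∣ q := addOrderOf_dvd_of_nsmul_eq_zero (hE e)
  have h3 : addOrderOf e = 1 := Nat.eq_one_of_dvd_coprimes hpq h1 h2
  exact AddMonoid.addOrderOf_eq_one_iff.mp h3

lemma eq_of_nsmul_eq {p q : ℕ} (hpq : Nat.Coprime p q) (hE : ∀ e : E, q • e = 0) {e e' : E}
    (h : p • e = p • e') : e = e' := by
  have : p • (e - e') = 0 := by rw [smul_sub, h, sub_self]
  exact sub_eq_zero.mp (eq_zero_of_nsmul hpq hE this)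

/-- equal-cardinality stabilizers: if `stab v ≤ stab c` and the cardinalities agree then equal -/
lemma stab_eq_of_le {v c : E} (hle : MulAction.stabilizer P v ≤ MulAction.stabilizer P c)
    (hcard : Nat.card (MulAction.stabilizer P v) = Nat.card (MulAction.stabilizer P c)) :
    MulAction.stabilizer P v = MulAction.stabilizer P c :=
  Subgroup.eq_of_le_of_card_ge hle hcard.ge

/-- A central element of order `p` acts without nonzero fixed points. -/
lemma central_fpf [FaithfulSMul P E] {p q : ℕ} (hpq : Nat.Coprime p q) (hE : ∀ e : E, q • e = 0)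
    (hconst : ∀ a b : E, a ≠ 0 → b ≠ 0 →
      Nat.card (MulAction.stabilizer P a) = Nat.card (MulAction.stabilizer P b))
    (z : P) (hzc : ∀ g : P, Commute g z) (hzp : z ^ p = 1) (hz1 : z ≠ 1) :
    ∀ c : E, z • c = c → c = 0 := by
  intro c hc
  by_contra hc0
  -- z moves some e₀
  obtain ⟨e₀, he₀⟩ : ∃ e₀ : E, z • e₀ ≠ e₀ := by
    by_contra hall
    push Not at hall
    apply hz1
    apply FaithfulSMul.eq_of_smul_eq_smul (α := E)
    intro e
    rw [hall e, one_smul]
  set w : E := p • e₀ - nm p z e₀ with hw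
  have hNw : nm p z w = 0 := by
    rw [hw, nm_sub, nm_nsmul, nm_of_fixed p (smul_nm_self hzp e₀), sub_self]
  have hw0 : w ≠ 0 := by
    intro h
    apply he₀
    have h1 : p • e₀ = nm p z e₀ := sub_eq_zero.mp h
    have h2 : z • (p • e₀) = p • e₀ := by rw [h1, smul_nm_self hzp]
    rw [smul_comm] at h2
    exact eq_of_nsmul_eq hpq hE h2
  have hzw : ¬ z • w = w := by
    intro h
    have := nm_of_fixed p h
    rw [hNw] at this
    exact hw0 (eq_zero_of_nsmul hpq hE this.symm)
  have hv0 : c + w ≠ 0 := by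
    intro h
    apply hzw
    have : w = -c := eq_neg_of_add_eq_zero_right h
    rw [this, smul_neg, hc]
  -- stabilizer of v inside stabilizers of c and w
  have hsub : ∀ g : P, g • (c + w) = c + w → g • c = c ∧ g • w = w := by
    intro g hg
    have h1 : nm p z (g • (c + w)) = nm p z (c + w) := by rw [hg]
    rw [← smul_nm_of_commute p (hzc g), nm_add, hNw, add_zero, nm_of_fixed p hc, smul_comm] at h1
    have h2 : g • c = c := eq_of_nsmul_eq hpq hE h1
    refine ⟨h2, ?_⟩
    rw [smul_add, h2] at hg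
    exact add_left_cancel hg
  have hle1 : MulAction.stabilizer P (c + w) ≤ MulAction.stabilizer P c := fun g hg =>
    (hsub g (MulAction.mem_stabilizer_iff.mp hg)).1
  have hle2 : MulAction.stabilizer P (c + w) ≤ MulAction.stabilizer P w := fun g hg =>
    (hsub g (MulAction.mem_stabilizer_iff.mp hg)).2
  have heq1 := stab_eq_of_le hle1 (hconst _ _ hv0 hc0)
  have hz : z ∈ MulAction.stabilizer P (c + w) := by rw [heq1]; exact hc
  exact hzw (hle2 hz)

/-- In a cyclic `p`-group, an element `z` of order `p` acting without fixed points forces the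
whole group to act semiregularly. -/
lemma semiregular_of_cyclic {p : ℕ} [hp : Fact p.Prime] (hP : IsPGroup p P) (hcyc : IsCyclic P)
    (z : P) (hzp : z ^ p = 1) (hz1 : z ≠ 1) (hfz : ∀ e : E, z • e = e → e = 0) :
    ∀ g : P, g ≠ 1 → ∀ a : E, g • a = a → a = 0 := by
  classical
  intro g hg1 a hga
  haveI : Fintype P := Fintype.ofFinite P
  obtain ⟨k, hk⟩ := (IsPGroup.iff_orderOf.mp hP) g
  have hk0 : k ≠ 0 := by
    rintro rfl
    rw [pow_zero, orderOf_eq_one_iff] at hk
    exact hg1 hk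
  obtain ⟨k', rfl⟩ := Nat.exists_eq_succ_of_ne_zero hk0
  set g' := g ^ (p ^ k') with hg'
  have hg'p : g' ^ p = 1 := by
    rw [hg', ← pow_mul, ← pow_succ, ← hk, pow_orderOf_eq_one]
  have hg'1 : g' ≠ 1 := by
    intro h
    have h1 : orderOf g ∣ p ^ k' := orderOf_dvd_of_pow_eq_one h
    rw [hk] at h1
    have := Nat.pow_dvd_pow_iff_le_right hp.out.one_lt |>.mp h1
    omega
  have hord' : orderOf g' = p := orderOf_eq_prime hg'p hg'1
  -- the set of solutions of x^p = 1 has at most p elements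
  have hT : ({x : P | x ^ p = 1} : Set P).ncard ≤ p := by
    have := IsCyclic.card_pow_eq_one_le (α := P) hp.out.pos
    rw [Set.ncard_eq_toFinset_card']
    convert this using 2
    ext x; simp
  have hsub : ((Subgroup.zpowers g' : Subgroup P) : Set P) ⊆ {x : P | x ^ p = 1} := by
    intro x hx
    obtain ⟨n, rfl⟩ := Subgroup.mem_zpowers_iff.mp hx
    show (g' ^ n) ^ p = 1
    rw [← zpow_natCast, ← zpow_mul, mul_comm, zpow_mul, zpow_natCast, hg'p, one_zpow]
  have hcard : ((Subgroup.zpowers g' : Subgroup P) : Set P).ncard = p := by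
    rw [← Nat.card_coe_set_eq]
    exact (Nat.card_zpowers g').trans hord'
  have heq : ((Subgroup.zpowers g' : Subgroup P) : Set P) = {x : P | x ^ p = 1} :=
    Set.eq_of_subset_of_ncard_le hsub (by rw [hcard]; exact hT) (Set.toFinite _)
  have hz_mem : z ∈ Subgroup.zpowers g' := by
    have : z ∈ ({x : P | x ^ p = 1} : Set P) := hzp
    rw [← heq] at this
    exact this
  have hstab : Subgroup.zpowers g' ≤ MulAction.stabilizer P a := by
    rw [Subgroup.zpowers_le]
    exact Subgroup.pow_mem _ (MulAction.mem_stabilizer_iff.mpr hga) _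
  exact hfz a (MulAction.mem_stabilizer_iff.mp (hstab hz_mem))

/-- two elements of an elementary abelian group `A` of order `p²`, the second not a power of the
first (nontrivial) one, generate `A`. -/
lemma le_sup_zpowers {p : ℕ} [hp : Fact p.Prime] (A : Subgroup P) (hAc : Nat.card A = p ^ 2)
    (x c : P) (hxA : x ∈ A) (hcA : c ∈ A) (hxord : orderOf x = p) (hc : c ∉ Subgroup.zpowers x) :
    A ≤ Subgroup.zpowers x ⊔ Subgroup.zpowers c := by
  set S := Subgroup.zpowers x ⊔ Subgroup.zpowers c with hS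
  have hSA : S ≤ A := sup_le (by rwa [Subgroup.zpowers_le]) (by rwa [Subgroup.zpowers_le])
  have h1 : Nat.card (Subgroup.zpowers x) ∣ Nat.card S := Subgroup.card_dvd_of_le le_sup_left
  rw [Nat.card_zpowers, hxord] at h1
  have h2 : Nat.card S ∣ p ^ 2 := hAc ▸ Subgroup.card_dvd_of_le hSA
  obtain ⟨j, hj, hjS⟩ := (Nat.dvd_prime_pow hp.out).mp h2
  have hj1 : j ≠ 1 := by
    rintro rfl
    apply hc
    have : Subgroup.zpowers x = S := by
      apply Subgroup.eq_of_le_of_card_ge le_sup_left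
      rw [hjS, Nat.card_zpowers, hxord, pow_one]
    rw [this]
    exact Subgroup.mem_sup_right (Subgroup.mem_zpowers c)
  have hj0 : j ≠ 0 := by
    rintro rfl
    rw [hjS, pow_zero] at h1
    exact hp.out.one_lt.ne' (Nat.dvd_one.mp h1)
  have hj2 : j = 2 := by omega
  have : S = A := by
    apply Subgroup.eq_of_le_of_card_ge hSA
    rw [hjS, hj2, hAc]
  rw [this]

/-- The non-cyclic case is impossible. -/
lemma noncyclic_contra [FaithfulSMul P E] {p q : ℕ} [hp : Fact p.Prime] (hp2 : p ≠ 2)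
    (hP : IsPGroup p P) (hpq : Nat.Coprime p q) (hE : ∀ e : E, q • e = 0)
    (hconst : ∀ a b : E, a ≠ 0 → b ≠ 0 →
      Nat.card (MulAction.stabilizer P a) = Nat.card (MulAction.stabilizer P b))
    (hEne : ∃ e : E, e ≠ 0)
    (A : Subgroup P) (hAn : A.Normal) (hAe : Cfsg.IsElementaryAbelian p A)
    (hAc : Nat.card A = p ^ 2) : False := by
  have hp1 : 1 < p := hp.out.one_lt
  have hA1 : A ≠ ⊥ := by
    intro h
    rw [h, Subgroup.card_bot] at hAc
    nlinarith
  obtain ⟨z, hzA, hz1, hzc⟩ := Cfsg.Agent.Lib.Helper53.normal_meets_center hP A hA1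
  have hzp : z ^ p = 1 := hAe.2 z hzA
  have hzcomm : ∀ g : P, Commute g z := fun g => (Subgroup.mem_center_iff.mp hzc g)
  have hfz : ∀ c : E, z • c = c → c = 0 := central_fpf hpq hE hconst z hzcomm hzp hz1
  have hzord : orderOf z = p := orderOf_eq_prime hzp hz1
  have hcommA : ∀ x ∈ A, ∀ y ∈ A, Commute x y := by
    intro x hx y hy
    have h := hAe.1.is_comm.comm (⟨x, hx⟩ : A) ⟨y, hy⟩
    show x * y = y * x
    exact congrArg Subtype.val h
  have hpowA : ∀ x ∈ A, x ^ p = 1 := hAe.2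
  -- b ∈ A outside ⟨z⟩
  obtain ⟨b, hbA, hbz⟩ : ∃ b ∈ A, b ∉ Subgroup.zpowers z := by
    by_contra h
    push Not at h
    have hle : A ≤ Subgroup.zpowers z := h
    have := Subgroup.card_le_of_le hle
    rw [hAc, Nat.card_zpowers, hzord] at this
    nlinarith
  -- torsion facts
  have hpe : ∀ e : E, p • e = 0 → e = 0 := fun e h => eq_zero_of_nsmul hpq hE h
  -- step a
  obtain ⟨e, he⟩ := hEne
  obtain ⟨b₁, hb₁A, hb₁z, w₁, hw₁0, hw₁⟩ : ∃ b₁ ∈ A, b₁ ∉ Subgroup.zpowers z ∧ ∃ w₁ : E, w₁ ≠ 0 ∧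
      b₁ • w₁ = w₁ := by
    have hsum := sum_nm_mul_pow hp.out (hcommA b hbA z hzA) hzp hz1 hfz e
    have hne : ∑ i ∈ Finset.range p, nm p (b * z ^ i) e ≠ 0 := by
      rw [hsum]; exact fun h => he (hpe e h)
    obtain ⟨i, _, hi⟩ := Finset.exists_ne_zero_of_sum_ne_zero hne
    refine ⟨b * z ^ i, A.mul_mem hbA (A.pow_mem hzA i), ?_, nm p (b * z ^ i) e, hi, ?_⟩
    · intro h
      apply hbz
      have : b = (b * z ^ i) * (z ^ i)⁻¹ := by group
      rw [this]
      exact Subgroup.mul_mem _ h (Subgroup.inv_mem _ (Subgroup.pow_mem _ (Subgroup.mem_zpowers z) i))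
    · exact smul_nm_self (hpowA _ (A.mul_mem hbA (A.pow_mem hzA i))) e
  have hb₁1 : b₁ ≠ 1 := fun h => hb₁z (h ▸ Subgroup.one_mem _)
  have hb₁p : b₁ ^ p = 1 := hpowA b₁ hb₁A
  have hb₁ord : orderOf b₁ = p := orderOf_eq_prime hb₁p hb₁1
  -- step b
  obtain ⟨e', he'⟩ : ∃ e' : E, b₁ • e' ≠ e' := by
    by_contra hall
    push Not at hall
    apply hb₁1
    apply FaithfulSMul.eq_of_smul_eq_smul (α := E)
    intro e
    rw [hall e, one_smul]
  obtain ⟨i, hip, hi0, hi⟩ : ∃ i, i < p ∧ i ≠ 0 ∧ nm p (b₁ * z ^ i) e' ≠ 0 := by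
    by_contra hall
    push Not at hall
    apply he'
    have hsum := sum_nm_mul_pow hp.out (hcommA b₁ hb₁A z hzA) hzp hz1 hfz e'
    rw [Finset.sum_eq_single 0] at hsum
    · rw [pow_zero, mul_one] at hsum
      have h2 : b₁ • (p • e') = p • e' := by rw [← hsum, smul_nm_self hb₁p]
      rw [smul_comm] at h2
      exact eq_of_nsmul_eq hpq hE h2
    · intro j hj hj0
      exact hall j (Finset.mem_range.mp hj) hj0
    · intro h
      exact absurd (Finset.mem_range.mpr hp.out.pos) h
  set b₂ := b₁ * z ^ i with hb₂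
  have hb₂A : b₂ ∈ A := A.mul_mem hb₁A (A.pow_mem hzA i)
  have hb₂p : b₂ ^ p = 1 := hpowA b₂ hb₂A
  set w₂ := nm p b₂ e' with hw₂def
  have hw₂ : b₂ • w₂ = w₂ := smul_nm_self hb₂p e'
  have hw₂0 : w₂ ≠ 0 := hi
  -- z is a power of z^i
  have hcop : Nat.Coprime i (orderOf z) := by
    rw [hzord]
    apply Nat.Coprime.symm
    rw [Nat.Prime.coprime_iff_not_dvd hp.out]
    intro hdvd
    have := Nat.le_of_dvd (Nat.pos_of_ne_zero hi0) hdvd
    omega
  obtain ⟨m, hm⟩ := exists_pow_eq_self_of_coprime hcop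
  -- (f1)
  have f1 : ∀ e : E, b₁ • e = e → b₂ • e = e → e = 0 := by
    intro e h1 h2
    apply hfz
    have h3 : z ^ i • e = e := by
      have : z ^ i = b₁⁻¹ * b₂ := by rw [hb₂]; group
      rw [this, mul_smul, h2, inv_smul_eq_iff, h1]
    have h4 : (z ^ i) ^ m ∈ MulAction.stabilizer P e :=
      Subgroup.pow_mem _ (MulAction.mem_stabilizer_iff.mpr h3) m
    rw [hm] at h4
    exact MulAction.mem_stabilizer_iff.mp h4
  have hb₂1 : b₂ ≠ 1 := by
    intro h
    apply hw₁0
    apply f1 w₁ hw₁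
    rw [h, one_smul]
  have hb₂ord : orderOf b₂ = p := orderOf_eq_prime hb₂p hb₂1
  -- (K)
  have K : ∀ x ∈ A, orderOf x = p → ∀ c ∈ A, c ∉ Subgroup.zpowers x → ∀ e : E, c • e = e →
      x • e = e → e = 0 := by
    intro x hxA hxord c hcA hc e hce hxe
    apply hfz
    have h1 := le_sup_zpowers A hAc x c hxA hcA hxord hc
    have h2 : Subgroup.zpowers x ⊔ Subgroup.zpowers c ≤ MulAction.stabilizer P e := by
      apply sup_le
      · rw [Subgroup.zpowers_le]; exact hxe
      · rw [Subgroup.zpowers_le]; exact hce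
    exact MulAction.mem_stabilizer_iff.mp (h2 (h1 hzA))
  -- b₁ commutes with b₂
  have hb₁₂ : Commute b₂ b₁ := hcommA b₂ hb₂A b₁ hb₁A
  -- v
  have hNb₁w₂ : nm p b₁ w₂ = 0 :=
    f1 _ (smul_nm_self hb₁p w₂) (smul_nm_of_commute_of_fixed p hb₁₂ hw₂)
  have hNb₁v : nm p b₁ (w₁ + w₂) = p • w₁ := by
    rw [nm_add, hNb₁w₂, add_zero, nm_of_fixed p hw₁]
  -- main claim about stabilizers
  have hstab : ∀ g : P, g • (w₁ + w₂) = w₁ + w₂ → g • w₁ = w₁ ∧ g • w₂ = w₂ := by
    intro g hg
    set c₁ := g * b₁ * g⁻¹ with hc₁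
    have hc₁A : c₁ ∈ A := hAn.conj_mem b₁ hb₁A g
    have hc₁p : c₁ ^ p = 1 := hpowA c₁ hc₁A
    have hc₁1 : c₁ ≠ 1 := by
      intro h
      apply hb₁1
      have : b₁ = g⁻¹ * c₁ * g := by rw [hc₁]; group
      rw [this, h]; group
    have hc₁ord : orderOf c₁ = p := orderOf_eq_prime hc₁p hc₁1
    have h1 : g • (p • w₁) = nm p c₁ w₁ + nm p c₁ w₂ := by
      rw [← hNb₁v, smul_nm, hg, nm_add]
    have hfix1 : c₁ • nm p c₁ w₁ = nm p c₁ w₁ := smul_nm_self hc₁p w₁
    have hfix2 : c₁ • nm p c₁ w₂ = nm p c₁ w₂ := smul_nm_self hc₁p w₂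
    have hfix1' : b₁ • nm p c₁ w₁ = nm p c₁ w₁ :=
      smul_nm_of_commute_of_fixed p (hcommA b₁ hb₁A c₁ hc₁A) hw₁
    have hfix2' : b₂ • nm p c₁ w₂ = nm p c₁ w₂ :=
      smul_nm_of_commute_of_fixed p (hcommA b₂ hb₂A c₁ hc₁A) hw₂
    have hfin : g • w₁ = w₁ → g • w₁ = w₁ ∧ g • w₂ = w₂ := by
      intro h
      refine ⟨h, ?_⟩
      rw [smul_add, h] at hg
      exact add_left_cancel hg
    by_cases hc1 : c₁ ∈ Subgroup.zpowers b₁
    · -- c₁ ∈ ⟨b₁⟩
      have hzp1 : Subgroup.zpowers c₁ = Subgroup.zpowers b₁ := by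
        apply Subgroup.eq_of_le_of_card_ge (by rwa [Subgroup.zpowers_le])
        rw [Nat.card_zpowers, Nat.card_zpowers, hc₁ord, hb₁ord]
      have hc₁w₁ : c₁ • w₁ = w₁ := by
        have h2 : Subgroup.zpowers b₁ ≤ MulAction.stabilizer P w₁ := by
          rw [Subgroup.zpowers_le]; exact hw₁
        exact MulAction.mem_stabilizer_iff.mp (h2 hc1)
      have hb₁fix : b₁ • nm p c₁ w₂ = nm p c₁ w₂ := by
        have h2 : Subgroup.zpowers c₁ ≤ MulAction.stabilizer P (nm p c₁ w₂) := by
          rw [Subgroup.zpowers_le]; exact hfix2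
        have h3 : b₁ ∈ Subgroup.zpowers c₁ := by rw [hzp1]; exact Subgroup.mem_zpowers b₁
        exact MulAction.mem_stabilizer_iff.mp (h2 h3)
      have h0 : nm p c₁ w₂ = 0 := f1 _ hb₁fix hfix2'
      rw [h0, add_zero, nm_of_fixed p hc₁w₁, smul_comm] at h1
      exact hfin (eq_of_nsmul_eq hpq hE h1)
    · have h0 : nm p c₁ w₁ = 0 := K b₁ hb₁A hb₁ord c₁ hc₁A hc1 _ hfix1 hfix1'
      by_cases hc2 : c₁ ∈ Subgroup.zpowers b₂
      · exfalso
        have hc₁w₂ : c₁ • w₂ = w₂ := by
          have h2 : Subgroup.zpowers b₂ ≤ MulAction.stabilizer P w₂ := by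
            rw [Subgroup.zpowers_le]; exact hw₂
          exact MulAction.mem_stabilizer_iff.mp (h2 hc2)
        rw [h0, zero_add, nm_of_fixed p hc₁w₂, smul_comm] at h1
        have h3 : g • w₁ = w₂ := eq_of_nsmul_eq hpq hE h1
        have h4 : g • w₂ = w₁ := by
          rw [smul_add, h3, add_comm] at hg
          exact add_right_cancel hg
        have h5 : g ^ 2 • w₁ = w₁ := by rw [pow_two, mul_smul, h3, h4]
        -- g has odd order
        obtain ⟨k, hk⟩ := (IsPGroup.iff_orderOf.mp hP) g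
        have hcop2 : Nat.Coprime 2 (orderOf g) := by
          rw [hk]
          apply Nat.Coprime.pow_right
          exact (Nat.coprime_primes Nat.prime_two hp.out).mpr (Ne.symm hp2)
        obtain ⟨m', hm'⟩ := exists_pow_eq_self_of_coprime hcop2
        have h6 : (g ^ 2) ^ m' ∈ MulAction.stabilizer P w₁ :=
          Subgroup.pow_mem _ (MulAction.mem_stabilizer_iff.mpr h5) m'
        rw [hm'] at h6
        have h7 : g • w₁ = w₁ := MulAction.mem_stabilizer_iff.mp h6
        have h8 : w₂ = w₁ := by rw [← h3, h7]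
        apply hw₁0
        apply f1 w₁ hw₁
        rw [← h8]; exact hw₂
      · exfalso
        have h0' : nm p c₁ w₂ = 0 := K b₂ hb₂A hb₂ord c₁ hc₁A hc2 _ hfix2 hfix2'
        rw [h0, h0', add_zero, smul_comm] at h1
        have h3 : g • w₁ = 0 := hpe _ h1
        apply hw₁0
        have : w₁ = g⁻¹ • (g • w₁) := by rw [inv_smul_smul]
        rw [this, h3, smul_zero]
  -- conclude
  have hv0 : w₁ + w₂ ≠ 0 := by
    intro h
    apply hw₂0
    apply f1 w₂ _ hw₂
    have : w₂ = -w₁ := eq_neg_of_add_eq_zero_right h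
    rw [this, smul_neg, hw₁]
  have hle1 : MulAction.stabilizer P (w₁ + w₂) ≤ MulAction.stabilizer P w₁ := fun g hg =>
    (hstab g (MulAction.mem_stabilizer_iff.mp hg)).1
  have hle2 : MulAction.stabilizer P (w₁ + w₂) ≤ MulAction.stabilizer P w₂ := fun g hg =>
    (hstab g (MulAction.mem_stabilizer_iff.mp hg)).2
  have heq1 := stab_eq_of_le hle1 (hconst _ _ hv0 hw₁0)
  have hb₁mem : b₁ ∈ MulAction.stabilizer P (w₁ + w₂) := by rw [heq1]; exact hw₁
  exact hw₂0 (f1 w₂ (MulAction.mem_stabilizer_iff.mp (hle2 hb₁mem)) hw₂)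

end

/-- Let `p ≠ 2` be prime and `P` a finite `p`-group acting faithfully by additive automorphisms on a finite elementary abelian `q`-group `E` (`q` prime), such that `|P_a|` is the same for all `a ≠ 0`. Then `P` is cyclic and every non-identity element of `P` fixes only `0`. -/
theorem result {P E : Type*} [Group P] [Finite P]
    [AddCommGroup E] [Finite E] [DistribMulAction P E] [FaithfulSMul P E]
    {p q : ℕ} [Fact p.Prime] (hp2 : p ≠ 2) (hP : IsPGroup p P) (hq : q.Prime) (hE : ∀ e : E, q • e = 0)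
    (hconst : ∀ a b : E, a ≠ 0 → b ≠ 0 →
      Nat.card (MulAction.stabilizer P a) = Nat.card (MulAction.stabilizer P b)) :
    IsCyclic P ∧ ∀ g : P, g ≠ 1 → ∀ a : E, g • a = a → a = 0 := by
  have hp : p.Prime := Fact.out
  by_cases hPt : Subsingleton P
  · refine ⟨isCyclic_of_subsingleton, ?_⟩
    intro g hg
    exact absurd (Subsingleton.elim g 1) hg
  have hPnt : Nontrivial P := not_subsingleton_iff_nontrivial.mp hPt
  have hEne : ∃ e : E, e ≠ 0 := by
    by_contra h
    push Not at h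
    obtain ⟨g, hg⟩ := exists_ne (1 : P)
    apply hg
    apply FaithfulSMul.eq_of_smul_eq_smul (α := E)
    intro e
    rw [h e, smul_zero, smul_zero]
  by_cases hpq : p = q
  · exfalso
    subst hpq
    obtain ⟨e₀, he₀⟩ := hEne
    have hdvd : p ∣ Nat.card E := by
      have h1 : addOrderOf e₀ ∣ p := addOrderOf_dvd_of_nsmul_eq_zero (hE e₀)
      have h2 : addOrderOf e₀ = p := by
        rcases (Nat.dvd_prime hp).mp h1 with h | h
        · exact absurd (AddMonoid.addOrderOf_eq_one_iff.mp h) he₀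
        · exact h
      rw [← h2]
      exact addOrderOf_dvd_natCard e₀
    have hmod := hP.card_modEq_card_fixedPoints E
    have hdvd2 : p ∣ Nat.card (MulAction.fixedPoints P E) :=
      (Nat.modEq_zero_iff_dvd.mp ((hmod.symm).trans (Nat.modEq_zero_iff_dvd.mpr hdvd)))
    have hpos : 0 < Nat.card (MulAction.fixedPoints P E) := by
      haveI : Nonempty (MulAction.fixedPoints P E) := ⟨⟨0, fun g => smul_zero g⟩⟩
      exact Nat.card_pos
    have h2 : 1 < Nat.card (MulAction.fixedPoints P E) :=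
      lt_of_lt_of_le hp.one_lt (Nat.le_of_dvd hpos hdvd2)
    haveI : Nontrivial (MulAction.fixedPoints P E) := Finite.one_lt_card_iff_nontrivial.mp h2
    obtain ⟨⟨a, ha⟩, hane⟩ := exists_ne (⟨0, fun g => smul_zero g⟩ : MulAction.fixedPoints P E)
    have ha0 : a ≠ 0 := fun h => hane (Subtype.ext h)
    have hstab_a : MulAction.stabilizer P a = ⊤ := by
      rw [eq_top_iff]
      intro g _
      exact MulAction.mem_stabilizer_iff.mpr (ha g)
    obtain ⟨g, hg⟩ := exists_ne (1 : P)
    apply hg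
    apply FaithfulSMul.eq_of_smul_eq_smul (α := E)
    intro b
    rw [one_smul]
    by_cases hb0 : b = 0
    · rw [hb0, smul_zero]
    · have h3 := hconst b a hb0 ha0
      rw [hstab_a] at h3
      have h4 : MulAction.stabilizer P b = ⊤ := by
        rw [← Subgroup.card_eq_iff_eq_top, h3, Subgroup.card_top]
      have : g ∈ MulAction.stabilizer P b := by rw [h4]; trivial
      exact MulAction.mem_stabilizer_iff.mp this
  have hcop : Nat.Coprime p q := (Nat.coprime_primes hp hq).mpr hpq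
  -- a central element of order p
  obtain ⟨z, hzc, hzord⟩ : ∃ z : P, z ∈ Subgroup.center P ∧ orderOf z = p := by
    have hcn := hP.center_nontrivial
    have hPc : IsPGroup p (Subgroup.center P) := hP.to_subgroup _
    have hdvd : p ∣ Nat.card (Subgroup.center P) := by
      rcases hPc.card_eq_or_dvd with h | h
      · exfalso
        have := Finite.one_lt_card_iff_nontrivial.mpr hcn
        omega
      · exact h
    obtain ⟨z, hz⟩ := exists_prime_orderOf_dvd_card' p hdvd
    refine ⟨z, z.2, ?_⟩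
    rw [← hz]
    exact (Subgroup.orderOf_coe z)
  have hzp : z ^ p = 1 := by rw [← hzord]; exact pow_orderOf_eq_one z
  have hz1 : z ≠ 1 := by
    intro h
    rw [h, orderOf_one] at hzord
    exact hp.one_lt.ne hzord
  have hzcomm : ∀ g : P, Commute g z := fun g => (Subgroup.mem_center_iff.mp hzc g)
  have hfz := central_fpf hcop hE hconst z hzcomm hzp hz1
  by_cases hcyc : IsCyclic P
  · exact ⟨hcyc, semiregular_of_cyclic hP hcyc z hzp hz1 hfz⟩
  · exfalso
    have hnc : ¬ IsCyclic (⊤ : Subgroup P) := by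
      intro h
      apply hcyc
      exact isCyclic_of_surjective (Subgroup.topEquiv : (⊤ : Subgroup P) ≃* P).toMonoidHom
        (Subgroup.topEquiv : (⊤ : Subgroup P) ≃* P).surjective
    obtain ⟨A, -, hAn, hAe, hAc⟩ := Cfsg.Agent.S0636.result hp2 hP (⊤ : Subgroup P) hnc
    exact noncyclic_contra hp2 hP hcop hE hconst hEne A hAn hAe hAc

end Cfsg.Agent.S1160
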