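import Cfsg.Statements.S1166
import Cfsg.Agent.Lib.Helper20.RankOne

set_option autoImplicit false
set_option linter.unusedSimpArgs false
set_option linter.unusedVariables false
open Cfsg

namespace Cfsg.Agent.S1166

open Cfsg.Agent.Lib.Helper20

/-- In the rank-one set-up (`G` finite and doubly transitive on `Ω`, `t` an involution moving `a`, `Q` normal in `G_a` with `G_a = Q D`, `Q ⊓ D = 1` for the two-point stabiliser `D = G_a ⊓ G_{t • a}`, `|Q|` even, `|D|` odd), with `t x t = g_x h_x t f_x` and `t y t = g_y h_y t f_y` (`g, f ∈ Q`, `h ∈ D`) for `x, y ∈ Q ∖ 1` with `x y ≠ 1`: then `z = f_x g_y ≠ 1`, and if `t z t = g_z h_z t f_z` and `t (x y) t = g' h' t f'` then `f' = (t h_y t)⁻¹ f_z (t h_y t) f_y` and `h' = h_x h_z h_y` (H6). -/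
theorem result {G Ω : Type*} [Group G] [Finite G] [MulAction G Ω] {a : Ω} {t : G} {Q : Subgroup G}
    (hS : Cfsg.IsRankOneSetup G Ω a t Q)
    (x y gx hx fx gy hy fy : G) (hxQ : x ∈ Q) (hx1 : x ≠ 1) (hyQ : y ∈ Q) (hy1 : y ≠ 1) (hxy : x * y ≠ 1)
    (hgx : gx ∈ Q) (hhx : hx ∈ (MulAction.stabilizer G a ⊓ MulAction.stabilizer G (t • a))) (hfx : fx ∈ Q) (ex : t * x * t = gx * hx * t * fx)
    (hgy : gy ∈ Q) (hhy : hy ∈ (MulAction.stabilizer G a ⊓ MulAction.stabilizer G (t • a))) (hfy : fy ∈ Q) (ey : t * y * t = gy * hy * t * fy) :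
    fx * gy ≠ 1 ∧
      ∀ gz hz fz g' h' f' : G, gz ∈ Q → hz ∈ (MulAction.stabilizer G a ⊓ MulAction.stabilizer G (t • a)) → fz ∈ Q → t * (fx * gy) * t = gz * hz * t * fz →
        g' ∈ Q → h' ∈ (MulAction.stabilizer G a ⊓ MulAction.stabilizer G (t • a)) → f' ∈ Q → t * (x * y) * t = g' * h' * t * f' →
          f' = (t * hy * t)⁻¹ * fz * (t * hy * t) * fy ∧ h' = hx * hz * hy := by
  have hti := rankOne_t_inv hS
  have htt := hS.mul_self
  have hDa : MulAction.stabilizer G a ⊓ MulAction.stabilizer G (t • a) ≤ MulAction.stabilizer G a :=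
    inf_le_left
  have htt' : ∀ w : G, t * (t * w) = w := fun w => by rw [← mul_assoc, htt, one_mul]
  have hprod : t * (x * y) * t = (t * x * t) * (t * y * t) := by
    simp only [mul_assoc, htt', htt, hti, mul_inv_rev, inv_inv, mul_inv_cancel_left,
      inv_mul_cancel_left, mul_one, one_mul]
  have hQa := hS.le
  refine ⟨?_, ?_⟩
  · intro h1
    apply hxy
    -- t (x y) t ∈ G_a
    have hmem : t * (x * y) * t ∈ MulAction.stabilizer G a := by
      have : t * (x * y) * t = gx * hx * (t * hy * t) * fy := by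
        rw [hprod, ex, ey]
        have : gx * hx * t * fx * (gy * hy * t * fy) = gx * hx * t * (fx * gy) * (hy * t * fy) := by
          simp only [mul_assoc]
        rw [this, h1]
        simp only [mul_assoc, mul_one]
      rw [this]
      exact Subgroup.mul_mem _ (Subgroup.mul_mem _ (Subgroup.mul_mem _ (hQa hgx) (hDa hhx))
        (hDa (rankOne_conj_mem_D hS hhy))) (hQa hfy)
    have h2 : x * y ∈ MulAction.stabilizer G (t • a) := by
      rw [MulAction.mem_stabilizer_iff] at hmem ⊢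
      have := congrArg (fun w => t • w) hmem
      simp only [← mul_smul] at this ⊢
      have e2 : t * (t * (x * y) * t) = x * y * t := by
        simp only [mul_assoc, htt']
      rw [e2] at this
      exact this
    have h3 : x * y ∈ Q ⊓ MulAction.stabilizer G (t • a) :=
      Subgroup.mem_inf.mpr ⟨Q.mul_mem hxQ hyQ, h2⟩
    rw [hS.inf_eq_bot, Subgroup.mem_bot] at h3
    exact h3
  · intro gz hz fz g' h' f' hgz hhz hfz ez hg' hh' hf' e'
    have hd := rankOne_conj_mem_D hS hhy
    have e'' : g' * h' * t * f' = (gx * (hx * gz * hx⁻¹)) * (hx * hz * hy) * t *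
        ((t * hy * t)⁻¹ * fz * ((t * hy * t)⁻¹)⁻¹ * fy) := by
      rw [← e', hprod, ex, ey]
      have h1 : gx * hx * t * fx * (gy * hy * t * fy) = gx * hx * (t * (fx * gy) * t) * (t * hy * t * fy) := by
        simp only [mul_assoc, htt', htt, hti, mul_inv_rev, inv_inv, mul_inv_cancel_left,
          inv_mul_cancel_left, mul_one, one_mul]
      rw [h1, ez]
      simp only [mul_assoc, htt', htt, hti, mul_inv_rev, inv_inv, mul_inv_cancel_left,
        inv_mul_cancel_left, mul_one, one_mul]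
    have hgQ : gx * (hx * gz * hx⁻¹) ∈ Q := Q.mul_mem hgx (hS.conj_mem _ (hDa hhx) _ hgz)
    have hfQ : (t * hy * t)⁻¹ * fz * ((t * hy * t)⁻¹)⁻¹ * fy ∈ Q :=
      Q.mul_mem (hS.conj_mem _ (Subgroup.inv_mem _ (hDa hd)) _ hfz) hfy
    have hhD : hx * hz * hy ∈ MulAction.stabilizer G a ⊓ MulAction.stabilizer G (t • a) :=
      Subgroup.mul_mem _ (Subgroup.mul_mem _ hhx hhz) hhy
    obtain ⟨-, e2, e3⟩ := rankOne_unique hS hg' hh' hf' hgQ hhD hfQ e''
    rw [inv_inv] at e3
    exact ⟨e3, e2⟩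

end Cfsg.Agent.S1166
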