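import Cfsg.Statements.S1167
import Cfsg.Agent.S0885
import Cfsg.Agent.S0738
import Cfsg.Agent.Lib.Helper97.Zass

set_option autoImplicit false
set_option linter.style.haveILetI false
open Cfsg

namespace Cfsg.Agent.S1167

open Cfsg.Agent.Lib.Helper97.Zass

/-- A subgroup of a point stabiliser which is regular on the other points has one element less
than there are points. -/
theorem card_regular {G Ω : Type*} [Group G] [MulAction G Ω] [Fintype Ω] {a b : Ω} (hba : b ≠ a)
    (U : Subgroup G) (hUle : U ≤ MulAction.stabilizer G a)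
    (hreg : ∀ c d : Ω, c ≠ a → d ≠ a → ∃! u : U, (u : G) • c = d) :
    Nat.card U + 1 = Fintype.card Ω := by
  classical
  have hmove : ∀ k : U, (k : G) • b ≠ a := by
    intro k h
    have hka : (k : G) • a = a := MulAction.mem_stabilizer_iff.mp (hUle k.2)
    rw [← hka] at h
    exact hba (MulAction.injective (k : G) h)
  have hbij : Function.Bijective
      (fun k : U => (⟨(k : G) • b, hmove k⟩ : {c : Ω // c ≠ a})) := by
    constructor
    · intro k k' hkk'
      have h1 : (k : G) • b = (k' : G) • b := congrArg Subtype.val hkk'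
      obtain ⟨u, _, huniq⟩ := hreg b ((k : G) • b) hba (hmove k)
      rw [huniq k rfl, huniq k' h1.symm]
    · rintro ⟨c, hc⟩
      obtain ⟨u, hu, _⟩ := hreg b c hba hc
      exact ⟨u, Subtype.ext hu⟩
  have h1 : Nat.card U = Nat.card {c : Ω // c ≠ a} := Nat.card_congr (Equiv.ofBijective _ hbij)
  have h2 : Nat.card {c : Ω // c ≠ a} = Fintype.card Ω - 1 := by
    rw [Nat.card_eq_fintype_card, Fintype.card_subtype_compl, Fintype.card_subtype_eq]
  have h3 : 0 < Fintype.card Ω := Fintype.card_pos_iff.mpr ⟨a⟩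
  omega

/-- An involution normalising a finite subgroup of even order centralises a non-identity element
of it. -/
theorem exists_fixed_of_even {G : Type*} [Group G] (U : Subgroup G) [Finite U]
    (heven : Even (Nat.card U)) (w : G) (hw2 : w * w = 1)
    (hn : ∀ u ∈ U, w * u * w⁻¹ ∈ U) : ∃ u ∈ U, u ≠ 1 ∧ w * u * w⁻¹ = u := by
  classical
  haveI : Fintype U := Fintype.ofFinite U
  haveI : Fact (Nat.Prime 2) := ⟨Nat.prime_two⟩
  let f : Function.End U := fun u => ⟨w * u * w⁻¹, hn u u.2⟩
  have hwinv : w⁻¹ = w := inv_eq_of_mul_eq_one_left hw2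
  have hf : f ^ 2 ^ 1 = 1 := by
    rw [pow_one, pow_two]
    funext u
    apply Subtype.ext
    show w * (w * (u : G) * w⁻¹) * w⁻¹ = u
    rw [hwinv]
    calc w * (w * (u : G) * w) * w = (w * w) * (u : G) * (w * w) := by group
      _ = u := by rw [hw2, one_mul, mul_one]
  have hmod := Equiv.Perm.card_fixedPoints_modEq (p := 2) (n := 1) hf
  by_contra hcon
  push Not at hcon
  have hsub : ∀ x : Function.fixedPoints f, x = ⟨1, by
      show f 1 = 1
      apply Subtype.ext
      show w * ((1 : U) : G) * w⁻¹ = ((1 : U) : G)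
      simp⟩ := by
    rintro ⟨x, hx⟩
    apply Subtype.ext
    show x = 1
    by_contra hx1
    have hx' : w * (x : G) * w⁻¹ = x := congrArg Subtype.val hx
    have hxne : (x : G) ≠ 1 := fun h => hx1 (Subtype.ext h)
    exact hcon x x.2 hxne hx'
  have hcard1 : Fintype.card (Function.fixedPoints f) = 1 := by
    rw [Fintype.card_eq_one_iff]
    exact ⟨_, hsub⟩
  rw [hcard1, ← Nat.card_eq_fintype_card] at hmod
  obtain ⟨k, hk⟩ := heven
  rw [hk] at hmod
  have : (k + k) % 2 = 1 % 2 := hmod
  omega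

/-- Let `G` be a finite simple Zassenhaus group on `Ω`, `U` a normal subgroup of `G_a` regular on `Ω` minus `a` which is an abelian 2-group, and `v` an involution with `v • a ≠ a`. Then there is a unique `u₀ ∈ U`, `u₀ ≠ 1`, with `v u₀ v = u₀ v u₀`. -/
theorem result {G Ω : Type*} [Group G] [Finite G] [MulAction G Ω] [Finite Ω]
    (hZ : Cfsg.IsZassenhausGroup G Ω) [IsSimpleGroup G] {a : Ω}
    (U : Subgroup G) (hUle : U ≤ MulAction.stabilizer G a)
    (hUn : ∀ h ∈ MulAction.stabilizer G a, ∀ u ∈ U, h * u * h⁻¹ ∈ U)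
    (hreg : ∀ c d : Ω, c ≠ a → d ≠ a → ∃! u : U, (u : G) • c = d)
    (hU2 : IsPGroup 2 U) (hUab : ∀ u ∈ U, ∀ u' ∈ U, u * u' = u' * u)
    (v : G) (hv1 : v ≠ 1) (hv2 : v * v = 1) (hva : v • a ≠ a) :
    ∃! u₀ : G, u₀ ∈ U ∧ u₀ ≠ 1 ∧ v * u₀ * v = u₀ * v * u₀ := by
  classical
  haveI : Fintype Ω := Fintype.ofFinite Ω
  haveI : Fact (Nat.Prime 2) := ⟨Nat.prime_two⟩
  have hy := hyp_of_zass hZ
  set b := v • a with hb
  have hba : b ≠ a := hva
  have hvb : v • b = a := by rw [hb, ← mul_smul, hv2, one_smul]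
  have hUa : ∀ u ∈ U, u • a = a := fun u hu => MulAction.mem_stabilizer_iff.mp (hUle hu)
  -- non-identity elements of `U` fix only `a`
  have hUfix : ∀ u ∈ U, u ≠ 1 → ∀ c : Ω, u • c = c → c = a := by
    intro u hu hu1 c hc
    by_contra hca
    obtain ⟨w, _, hwuniq⟩ := hreg c c hca hca
    have h1 := hwuniq ⟨u, hu⟩ hc
    have h2 := hwuniq 1 (by simp)
    apply hu1
    have : (⟨u, hu⟩ : U) = 1 := h1.trans h2.symm
    exact congrArg Subtype.val this
  have hcardU : Nat.card U + 1 = Fintype.card Ω := card_regular hba U hUle hreg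
  -- the order of `U` is even
  have hcard3 : 3 ≤ Fintype.card Ω := by
    obtain ⟨x, y, z, hxy, hyz, hxz⟩ := hy.three
    have : ({x, y, z} : Finset Ω).card ≤ Fintype.card Ω := Finset.card_le_univ _
    rw [Finset.card_insert_of_notMem (by simp [hxy, hxz]),
      Finset.card_insert_of_notMem (by simp [hyz]), Finset.card_singleton] at this
    omega
  obtain ⟨m, hm⟩ := hU2.exists_card_eq
  have hm0 : m ≠ 0 := by
    intro h
    rw [h, pow_zero] at hm
    omega
  have hUeven : Even (Nat.card U) := by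
    rw [hm]
    exact (Nat.even_pow.mpr ⟨even_two, hm0⟩)
  -- no involution fixes two points
  have hnoinv : ∀ w : G, w * w = 1 → w ≠ 1 → ∀ c c' : Ω, c ≠ c' → w • c = c → w • c' = c' →
      False := by
    intro w hw2 hw1 c c' hcc' hwc hwc'
    obtain ⟨g, hgc, hgc'⟩ := hy.h2 hcc' (Ne.symm hba)
    -- `g • c = a`, `g • c' = b`
    set w' := g * w * g⁻¹ with hw'
    have hw'a : w' • a = a := by
      rw [hw', mul_smul, mul_smul, ← hgc, inv_smul_smul, hwc]
    have hw'b : w' • b = b := by
      rw [hw', mul_smul, mul_smul, ← hgc', inv_smul_smul, hwc']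
    have hw'2 : w' * w' = 1 := by
      rw [hw']
      calc g * w * g⁻¹ * (g * w * g⁻¹) = g * (w * w) * g⁻¹ := by group
        _ = 1 := by rw [hw2]; group
    have hw'1 : w' ≠ 1 := by
      intro h
      apply hw1
      have : g⁻¹ * w' * g = w := by rw [hw']; group
      rw [← this, h]; group
    obtain ⟨u, hu, hu1, hcomm⟩ := exists_fixed_of_even U hUeven w' hw'2
      (hUn w' (MulAction.mem_stabilizer_iff.mpr hw'a))
    have hw'u : w' * u = u * w' := by
      have := congrArg (fun t => t * w') hcomm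
      simpa [mul_assoc] using this
    have hfix3 : w' • (u • b) = u • b := by
      rw [← mul_smul, hw'u, mul_smul, hw'b]
    have hub_b : u • b ≠ b := fun h => hba (hUfix u hu hu1 b h)
    have hub_a : u • b ≠ a := by
      intro h
      have h2 := hUa u hu
      rw [← h2] at h
      exact hba (MulAction.injective u h)
    exact hw'1 (hy.h3 w' a b (u • b) (Ne.symm hba) (Ne.symm hub_b) (Ne.symm hub_a) hw'a hw'b hfix3)
  -- the two-point stabiliser has odd order
  have hodd : Odd (Nat.card ↥(MulAction.stabilizer G a ⊓ MulAction.stabilizer G b)) := by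
    by_contra hne
    rw [Nat.not_odd_iff_even] at hne
    haveI : Fintype ↥(MulAction.stabilizer G a ⊓ MulAction.stabilizer G b) := Fintype.ofFinite _
    obtain ⟨x, hx⟩ := exists_prime_orderOf_dvd_card' (G := ↥(MulAction.stabilizer G a ⊓
      MulAction.stabilizer G b)) 2 hne.two_dvd
    have hx2 : (x : G) * (x : G) = 1 := by
      have : x ^ 2 = 1 := by rw [← hx]; exact pow_orderOf_eq_one x
      have h2 := congrArg Subtype.val this
      simpa [pow_two] using h2
    have hx1 : (x : G) ≠ 1 := by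
      intro h
      have : x = 1 := Subtype.ext h
      rw [this, orderOf_one] at hx
      omega
    have hxa : (x : G) • a = a := MulAction.mem_stabilizer_iff.mp (Subgroup.mem_inf.mp x.2).1
    have hxb : (x : G) • b = b := MulAction.mem_stabilizer_iff.mp (Subgroup.mem_inf.mp x.2).2
    exact hnoinv _ hx2 hx1 a b (Ne.symm hba) hxa hxb
  -- `U` has exponent two
  have hexp : ∀ u ∈ U, u * u = 1 := by
    have hUnormal : (U.subgroupOf (MulAction.stabilizer G a)).Normal := by
      refine ⟨fun n hn g => ?_⟩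
      rw [Subgroup.mem_subgroupOf] at hn ⊢
      exact hUn g g.2 n hn
    have key : Fintype.card Ω - 2 ≤
        2 * Nat.card ↥(MulAction.stabilizer G a ⊓ MulAction.stabilizer G b) →
        ∀ u ∈ U, u * u = 1 := by
      intro hd u hu
      obtain ⟨_, p, f, hp, hpow, _⟩ :=
        Cfsg.Agent.S0738.result hZ (Ne.symm hba) hd U hUle hUnormal hreg
      by_cases hu1 : u = 1
      · rw [hu1, one_mul]
      -- `p = 2`
      have hup : u ^ p = 1 := hpow u hu
      obtain ⟨k, hk⟩ := hU2 ⟨u, hu⟩
      have hk' : u ^ 2 ^ k = 1 := by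
        have := congrArg Subtype.val hk
        simpa using this
      have hdvd1 : orderOf u ∣ p := orderOf_dvd_of_pow_eq_one hup
      have hdvd2 : orderOf u ∣ 2 ^ k := orderOf_dvd_of_pow_eq_one hk'
      have hne1 : orderOf u ≠ 1 := fun h => hu1 (orderOf_eq_one_iff.mp h)
      have hop : orderOf u = p := by
        rcases (Nat.dvd_prime hp).mp hdvd1 with h | h
        · exact absurd h hne1
        · exact h
      have hp2 : p = 2 := by
        rw [hop] at hdvd2
        exact (Nat.prime_dvd_prime_iff_eq hp Nat.prime_two).mp (hp.dvd_of_dvd_pow hdvd2)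
      rw [hp2] at hup
      rw [← pow_two]
      exact hup
    have hh : Fintype.card Ω = (Fintype.card Ω - 1) + 1 := by omega
    rcases Cfsg.Agent.S0885.result hZ (Ne.symm hba) (Fintype.card Ω - 1) _ hh rfl hodd U hUle
      hcardU hUfix with h | ⟨_, ⟨x, y, hxy⟩, _⟩
    · apply key
      omega
    · exfalso
      apply hxy
      apply Subtype.ext
      exact hUab x x.2 y y.2
  -- the fixed point of `v`
  have hOmegaOdd : ¬ 2 ∣ Fintype.card Ω := by
    obtain ⟨k, hk⟩ := hUeven
    omega
  obtain ⟨c, hc⟩ := Equiv.Perm.exists_fixed_point_of_prime (p := 2) (n := 1) hOmegaOdd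
    (σ := MulAction.toPerm v) (by
      rw [pow_one, pow_two]
      ext x
      show v • (v • x) = x
      rw [← mul_smul, hv2, one_smul])
  have hvc : v • c = c := hc
  have hca : c ≠ a := by
    intro h
    rw [h] at hvc
    exact hva hvc
  have hcb : c ≠ b := by
    intro h
    rw [h, hvb] at hvc
    exact hba hvc.symm
  obtain ⟨u₀, hu₀, hu₀uniq⟩ := hreg b c hba hca
  have hu₀1 : (u₀ : G) ≠ 1 := by
    intro h
    rw [h, one_smul] at hu₀
    exact hcb hu₀.symm
  have hu₀sq : (u₀ : G) * (u₀ : G) = 1 := hexp u₀ u₀.2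
  have hu₀c : (u₀ : G) • c = b := by
    rw [← hu₀, ← mul_smul, hu₀sq, one_smul]
  refine ⟨u₀, ⟨u₀.2, hu₀1, ?_⟩, ?_⟩
  · -- `(u₀ v)^3 = 1`
    have h3 : ((u₀ : G) * v) * ((u₀ : G) * v) * ((u₀ : G) * v) = 1 := by
      apply hy.h3 _ a b c (Ne.symm hba) (Ne.symm hcb) (Ne.symm hca)
      · -- a ↦ c ↦ b ↦ a
        rw [mul_smul, mul_smul, mul_smul ((u₀ : G)) v a, ← hb, hu₀, mul_smul ((u₀ : G)) v c, hvc,
          hu₀c, mul_smul, hvb, hUa _ u₀.2]
      · rw [mul_smul, mul_smul, mul_smul ((u₀ : G)) v b, hvb, hUa _ u₀.2,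
          mul_smul ((u₀ : G)) v a, ← hb, hu₀, mul_smul, hvc, hu₀c]
      · rw [mul_smul, mul_smul, mul_smul ((u₀ : G)) v c, hvc, hu₀c, mul_smul ((u₀ : G)) v b, hvb,
          hUa _ u₀.2, mul_smul, ← hb, hu₀]
    have hvinv : v⁻¹ = v := inv_eq_of_mul_eq_one_left hv2
    have huinv : (u₀ : G)⁻¹ = u₀ := inv_eq_of_mul_eq_one_left hu₀sq
    have : v * (u₀ : G) * v = ((u₀ : G) * v * (u₀ : G))⁻¹ := by
      rw [eq_inv_iff_mul_eq_one]
      calc v * (u₀ : G) * v * ((u₀ : G) * v * (u₀ : G))
          = v * (((u₀ : G) * v) * ((u₀ : G) * v) * ((u₀ : G) * v)) * v⁻¹ := by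
            group
        _ = 1 := by rw [h3]; group
    rw [this, mul_inv_rev, mul_inv_rev, huinv, hvinv, mul_assoc]
  · rintro u ⟨hu, _, heq⟩
    have h1 : (v * u * v) • a = (u * v * u) • a := by rw [heq]
    rw [mul_smul, mul_smul, ← hb, mul_smul, mul_smul, hUa u hu, ← hb] at h1
    -- `v • (u • b) = u • b`
    have hfix : v • (u • b) = u • b := h1
    have hub_a : u • b ≠ a := by
      intro h
      have h2 := hUa u hu
      rw [← h2] at h
      exact hba (MulAction.injective u h)
    have hubc : u • b = c := by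
      by_contra hne
      exact hnoinv v hv2 hv1 (u • b) c hne hfix hvc
    have := hu₀uniq ⟨u, hu⟩ hubc
    exact congrArg Subtype.val this

end Cfsg.Agent.S1167
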