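import Cfsg.Statements.S1168
import Cfsg.Agent.S1140

set_option autoImplicit false
open Cfsg

namespace Cfsg.Agent.S1168

section
variable {F : Type*} [Field F] [Fintype F] [CharP F 2]

attribute [local instance] ZMod.algebra

theorem zmod2_cases (a : ZMod 2) : a = 0 ∨ a = 1 := by
  fin_cases a
  · left; rfl
  · right; rfl

/-- a quadratic map over the prime field is the diagonal of a biadditive map -/
theorem exists_biadditive (q : F → F)
    (hq : ∀ x y z : F, q (x + y + z) + q (x + y) + q (x + z) + q (y + z) + q x + q y + q z = 0) :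
    ∃ A : F →+ F →+ F, ∀ x : F, A x x = q x := by
  have h2 : (2 : F) = 0 := CharTwo.two_eq_zero
  have hq0 : q 0 = 0 := by
    have h := hq 0 0 0
    simp only [add_zero] at h
    linear_combination h - 3 * q 0 * h2
  have hadd1 : ∀ x x' y : F, q (x + x' + y) + q (x + x') + q y
      = (q (x + y) + q x + q y) + (q (x' + y) + q x' + q y) := by
    intro x x' y
    linear_combination (hq x x' y) - (q (x + y) + q x + q (x' + y) + q x' + q y) * h2
  have hadd2 : ∀ x y y' : F, q (x + (y + y')) + q x + q (y + y')
      = (q (x + y) + q x + q y) + (q (x + y') + q x + q y') := by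
    intro x y y'
    rw [← add_assoc]
    linear_combination (hq x y y') - (q (x + y) + q x + q (x + y') + q y + q y') * h2
  let B : F →ₗ[ZMod 2] F →ₗ[ZMod 2] F :=
    LinearMap.mk₂ (ZMod 2) (fun x y => q (x + y) + q x + q y)
      (fun x x' y => hadd1 x x' y)
      (fun a x y => by
        rcases zmod2_cases a with rfl | rfl
        · simp only [zero_smul, zero_add, hq0]
          linear_combination q y * h2
        · simp only [one_smul])
      (fun x y y' => hadd2 x y y')
      (fun a x y => by
        rcases zmod2_cases a with rfl | rfl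
        · simp only [zero_smul, add_zero, hq0]
          linear_combination q x * h2
        · simp only [one_smul])
  let Q : QuadraticMap (ZMod 2) F F :=
    { toFun := q
      toFun_smul := fun a x => by
        rcases zmod2_cases a with rfl | rfl
        · simp [hq0]
        · simp
      exists_companion' := ⟨B, fun x y => by
        show q (x + y) = q x + q y + (q (x + y) + q x + q y)
        linear_combination (-(q x + q y)) * h2⟩ }
  obtain ⟨A, hA⟩ := LinearMap.BilinMap.toQuadraticMap_surjective Q
  refine ⟨AddMonoidHom.mk' (fun x => (A x).toAddMonoidHom) (fun x y => ?_), fun x => ?_⟩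
  · ext z
    simp
  · have := congrArg (fun Q' : QuadraticMap (ZMod 2) F F => Q' x) hA
    simp only [LinearMap.BilinMap.toQuadraticMap_apply] at this
    exact this

end

theorem result {F : Type*} [Field F] [Fintype F] [CharP F 2]
    (q : F → F)
    (hq : ∀ x y z : F, q (x + y + z) + q (x + y) + q (x + z) + q (y + z) + q x + q y + q z = 0) :
    ∃ (s : Finset ((F ≃+* F) × (F ≃+* F))) (c : (F ≃+* F) × (F ≃+* F) → F),
      ∀ x : F, q x = ∑ p ∈ s, c p * (p.1 x * p.2 x) := by
  obtain ⟨A, hA⟩ := exists_biadditive q hq
  obtain ⟨s, c, hsc⟩ := (Cfsg.Agent.S1140.result (F := F)).2.2 A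
  exact ⟨s, c, fun x => by rw [← hA x, hsc x x]⟩

end Cfsg.Agent.S1168
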