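import Cfsg.Statements.S1176
import Cfsg.Agent.Lib.Helper20.Isolated

set_option autoImplicit false
open Cfsg

namespace Cfsg.Agent.S1176

open Cfsg.Agent.Lib.Helper20
open scoped commutatorElement

theorem isConj_conj {G : Type*} [Group G] {a b : G} (h : IsConj a b) (c : G) : IsConj a (c * b * c⁻¹) := by
  rw [isConj_iff] at h ⊢
  obtain ⟨d, rfl⟩ := h
  exact ⟨c * d, by group⟩

/-- Let x₀ be an involution of the finite group G and D its conjugacy class. Assume (a) for each x ∈ D the subgroup W(x) generated by the members of D commuting with x is a 2-group of nilpotency class at most 2, and (b) the product of two distinct commuting members of D again lies in D. Then for all x, y ∈ D, if xy has even order greater than 2, its order is 4. -/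
theorem result {G : Type*} [Group G] [Finite G] (x₀ : G) (hx₀ : orderOf x₀ = 2) (ha : ∀ x : G, IsConj x₀ x → IsPGroup 2 ↥(Subgroup.closure {y : G | IsConj x₀ y ∧ Commute y x}) ∧ ⁅⁅Subgroup.closure {y : G | IsConj x₀ y ∧ Commute y x}, Subgroup.closure {y : G | IsConj x₀ y ∧ Commute y x}⁆, Subgroup.closure {y : G | IsConj x₀ y ∧ Commute y x}⁆ = ⊥) (hb : ∀ x y : G, IsConj x₀ x → IsConj x₀ y → x ≠ y → Commute x y → IsConj x₀ (x * y)) (x y : G) (hx : IsConj x₀ x) (hy : IsConj x₀ y) (heven : Even (orderOf (x * y))) (hgt : 2 < orderOf (x * y)) : orderOf (x * y) = 4 := by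
  have hox : orderOf x = 2 := by
    obtain ⟨c, rfl⟩ := isConj_iff.mp hx
    rw [orderOf_conj', hx₀]
  have hoy : orderOf y = 2 := by
    obtain ⟨c, rfl⟩ := isConj_iff.mp hy
    rw [orderOf_conj', hx₀]
  have hx2 := invol_mul_self hox
  have hy2 := invol_mul_self hoy
  have hxi := invol_inv hox
  have hyi := invol_inv hoy
  have hinvx : x * (x * y) * x⁻¹ = (x * y)⁻¹ := invol_conj_mul hx2 hy2
  have hinvy : y * (x * y) * y⁻¹ = (x * y)⁻¹ := by
    rw [mul_inv_rev, hxi, hyi]
    calc y * (x * y) * y = y * x * (y * y) := by simp only [mul_assoc]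
      _ = y * x := by rw [hy2, mul_one]
  obtain ⟨k, hk⟩ := heven
  have hkpos : 0 < k := by omega
  obtain ⟨hcomm, hne, c, hc⟩ := dihedral_even hx2 hinvx hk hkpos
  have hxy : x * (x * y) = y := by rw [← mul_assoc, hx2, one_mul]
  rw [hxy] at hc
  have hv : IsConj x₀ (x * (x * y) ^ k) := by
    rcases hc with hc | hc
    · rw [← hc]; exact isConj_conj hx c
    · rw [← hc]; exact isConj_conj hy c
  have hu := hb x _ hx hv (Ne.symm hne) hcomm
  have e : x * (x * (x * y) ^ k) = (x * y) ^ k := by rw [← mul_assoc, hx2, one_mul]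
  rw [e] at hu
  have hu2 : (x * y) ^ k * (x * y) ^ k = 1 := by
    rw [← pow_add, ← hk, pow_orderOf_eq_one]
  have hui : ((x * y) ^ k)⁻¹ = (x * y) ^ k := inv_eq_of_mul_eq_one_right hu2
  have hxu : Commute x ((x * y) ^ k) := by
    show x * (x * y) ^ k = (x * y) ^ k * x
    have := conj_inv_pow hinvx k
    rw [hui] at this
    calc x * (x * y) ^ k = x * (x * y) ^ k * x⁻¹ * x := by group
      _ = (x * y) ^ k * x := by rw [this]
  have hyu : Commute y ((x * y) ^ k) := by
    show y * (x * y) ^ k = (x * y) ^ k * y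
    have := conj_inv_pow hinvy k
    rw [hui] at this
    calc y * (x * y) ^ k = y * (x * y) ^ k * y⁻¹ * y := by group
      _ = (x * y) ^ k * y := by rw [this]
  obtain ⟨-, hcl⟩ := ha _ hu
  have hxW : x ∈ Subgroup.closure {w : G | IsConj x₀ w ∧ Commute w ((x * y) ^ k)} :=
    Subgroup.subset_closure ⟨hx, hxu⟩
  have hyW : y ∈ Subgroup.closure {w : G | IsConj x₀ w ∧ Commute w ((x * y) ^ k)} :=
    Subgroup.subset_closure ⟨hy, hyu⟩
  have h1 : ⁅⁅x, y⁆, x⁆ ∈ (⊥ : Subgroup G) := by
    rw [← hcl]
    exact Subgroup.commutator_mem_commutator (Subgroup.commutator_mem_commutator hxW hyW) hxW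
  rw [Subgroup.mem_bot] at h1
  have h4 : (x * y) ^ 4 = 1 := by
    rw [← h1, commutatorElement_def, commutatorElement_def, hxi, hyi]
    simp only [mul_inv_rev, hxi, hyi]
    simp only [pow_succ, pow_zero, one_mul, mul_assoc]
    rw [hx2, mul_one]
  have hdvd := orderOf_dvd_of_pow_eq_one h4
  have hle := Nat.le_of_dvd (by norm_num) hdvd
  interval_cases h5 : orderOf (x * y)
  · omega
  · rfl

end Cfsg.Agent.S1176
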