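import Cfsg.Statements.S1177
import Cfsg.Agent.Lib.Helper20.ConjMap

set_option autoImplicit false
open Cfsg

namespace Cfsg.Agent.S1177

open Cfsg.Agent.Lib.Helper20

/-- Let A be a nontrivial elementary abelian 2-subgroup of a finite group G which is a T.I. set (each conjugate of A meets A trivially or equals A) and which does not commute elementwise with any conjugate of A other than A itself. Then for every a ∈ A, a ≠ 1, every conjugate of A contained in C_G(a) is equal to A (A is weakly closed in C_G(a)). -/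
theorem result {G : Type*} [Group G] [Finite G] (A : Subgroup G) (hA : Cfsg.IsElementaryAbelian 2 A) (hA1 : A ≠ ⊥) (hTI : ∀ g : G, A.map (MulAut.conj g).toMonoidHom ⊓ A = ⊥ ∨ A.map (MulAut.conj g).toMonoidHom = A) (hb : ∀ g : G, (∀ a ∈ A, ∀ b ∈ A.map (MulAut.conj g).toMonoidHom, a * b = b * a) → A.map (MulAut.conj g).toMonoidHom = A) (a : G) (ha : a ∈ A) (ha1 : a ≠ 1) (g : G) (hg : A.map (MulAut.conj g).toMonoidHom ≤ Subgroup.centralizer ({a} : Set G)) : A.map (MulAut.conj g).toMonoidHom = A := by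
  by_contra hne
  obtain ⟨hAcomm, hAsq⟩ := hA
  have hsq : ∀ x ∈ A, x * x = 1 := fun x hx => by rw [← pow_two]; exact hAsq x hx
  have hinvA : ∀ x ∈ A, x⁻¹ = x := fun x hx => inv_eq_of_mul_eq_one_right (hsq x hx)
  have hcommA : ∀ x ∈ A, ∀ y ∈ A, x * y = y * x := fun x hx y hy =>
    congrArg Subtype.val (hAcomm.is_comm.comm ⟨x, hx⟩ ⟨y, hy⟩)
  set B := A.map (MulAut.conj g).toMonoidHom with hB
  have hdisj : B ⊓ A = ⊥ := (hTI g).resolve_right hne
  have hsqB : ∀ x ∈ B, x * x = 1 := by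
    rintro x ⟨y, hy, rfl⟩
    rw [← map_mul, hsq y hy, map_one]
  have hinvB : ∀ x ∈ B, x⁻¹ = x := fun x hx => inv_eq_of_mul_eq_one_right (hsqB x hx)
  -- step 1: B normalizes A
  have hBA : ∀ b ∈ B, ∀ x ∈ A, b * x * b⁻¹ ∈ A := by
    intro b hb' x hx
    have hba : b * a = a * b := Subgroup.mem_centralizer_singleton_iff.mp (hg hb')
    have hmem : a ∈ A.map (MulAut.conj b).toMonoidHom ⊓ A := by
      refine Subgroup.mem_inf.mpr ⟨?_, ha⟩
      rw [mem_map_conj]
      have : b⁻¹ * a * b = a := by rw [mul_assoc, ← hba, inv_mul_cancel_left]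
      rw [this]; exact ha
    have h2 : A.map (MulAut.conj b).toMonoidHom = A := by
      rcases hTI b with h | h
      · rw [h, Subgroup.mem_bot] at hmem; exact absurd hmem ha1
      · exact h
    rw [← h2]
    exact conj_mem_map_conj hx
  -- TI property for B
  have hTIB : ∀ x : G, ∀ b ∈ B, b ≠ 1 → x * b * x⁻¹ ∈ B → ∀ y ∈ B, x * y * x⁻¹ ∈ B := by
    intro x b hb' hb1 hxb y hy
    have hb'' : g⁻¹ * b * g ∈ A := mem_map_conj.mp hb'
    have hmem : g⁻¹ * (x * b * x⁻¹) * g ∈ A.map (MulAut.conj (g⁻¹ * x * g)).toMonoidHom ⊓ A := by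
      refine Subgroup.mem_inf.mpr ⟨?_, mem_map_conj.mp hxb⟩
      rw [mem_map_conj]
      have : (g⁻¹ * x * g)⁻¹ * (g⁻¹ * (x * b * x⁻¹) * g) * (g⁻¹ * x * g) = g⁻¹ * b * g := by group
      rw [this]; exact hb''
    have h2 : A.map (MulAut.conj (g⁻¹ * x * g)).toMonoidHom = A := by
      rcases hTI (g⁻¹ * x * g) with h | h
      · rw [h, Subgroup.mem_bot] at hmem
        exfalso; apply hb1
        have : x * b * x⁻¹ = 1 := by
          have h3 : x * b * x⁻¹ = g * (g⁻¹ * (x * b * x⁻¹) * g) * g⁻¹ := by group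
          rw [h3, hmem]; group
        have h4 : b = x⁻¹ * (x * b * x⁻¹) * x := by group
        rw [h4, this]; group
      · exact h
    have hy' : g⁻¹ * y * g ∈ A := mem_map_conj.mp hy
    have h3 : (g⁻¹ * x * g) * (g⁻¹ * y * g) * (g⁻¹ * x * g)⁻¹ ∈ A := by
      rw [← h2]; exact conj_mem_map_conj hy'
    rw [hB, mem_map_conj]
    have : g⁻¹ * (x * y * x⁻¹) * g = (g⁻¹ * x * g) * (g⁻¹ * y * g) * (g⁻¹ * x * g)⁻¹ := by group
    rw [this]; exact h3
  -- step 2: elements of A commuting with a nontrivial element of B centralize B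
  have hstep2 : ∀ x ∈ A, ∀ b ∈ B, b ≠ 1 → x * b = b * x → ∀ y ∈ B, x * y = y * x := by
    intro x hx b hb' hb1 hxb y hy
    have h1 : x * b * x⁻¹ ∈ B := by
      have : x * b * x⁻¹ = b := by rw [hxb, mul_assoc, mul_inv_cancel, mul_one]
      rw [this]; exact hb'
    have h2 : x * y * x⁻¹ ∈ B := hTIB x b hb' hb1 h1 y hy
    have h3 : x * y * x⁻¹ * y⁻¹ ∈ B ⊓ A := by
      refine Subgroup.mem_inf.mpr ⟨B.mul_mem h2 (B.inv_mem hy), ?_⟩
      have : x * y * x⁻¹ * y⁻¹ = x * (y * x⁻¹ * y⁻¹) := by group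
      rw [this]
      exact A.mul_mem hx (hBA y hy _ (A.inv_mem hx))
    rw [hdisj, Subgroup.mem_bot] at h3
    calc x * y = (x * y * x⁻¹ * y⁻¹) * (y * x) := by group
      _ = y * x := by rw [h3, one_mul]
  -- step 3
  have hex : ∃ a₀ ∈ A, ∃ b₀ ∈ B, a₀ * b₀ ≠ b₀ * a₀ := by
    by_contra hcon
    push Not at hcon
    exact hne (hb g hcon)
  obtain ⟨a₀, ha₀, b₀, hb₀, hab₀⟩ := hex
  have ha₀i := hinvA a₀ ha₀
  -- the commutator map
  have hcA : ∀ b ∈ B, a₀ * b * a₀ * b ∈ A := by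
    intro b hb'
    have : a₀ * b * a₀ * b = a₀ * (b * a₀ * b⁻¹) := by rw [hinvB b hb']; group
    rw [this]
    exact A.mul_mem ha₀ (hBA b hb' a₀ ha₀)
  have hcC : ∀ b ∈ B, ∀ y ∈ B, (a₀ * b * a₀ * b) * y = y * (a₀ * b * a₀ * b) := by
    intro b hb' y hy
    by_cases hb1 : b = 1
    · subst hb1
      simp [hsq a₀ ha₀]
    · apply hstep2 _ (hcA b hb') b hb' hb1 _ y hy
      have h5 := hsq _ (hcA b hb')
      have hbb := hsqB b hb'
      have hbi := hinvB b hb'
      have hc' : a₀ * b * a₀ * b = b * a₀ * b * a₀ := by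
        have : (a₀ * b * a₀ * b)⁻¹ = a₀ * b * a₀ * b := inv_eq_of_mul_eq_one_right h5
        rw [← this]
        simp only [mul_inv_rev, hbi, ha₀i, mul_assoc]
      calc a₀ * b * a₀ * b * b = (b * a₀ * b * a₀) * b := by rw [hc']
        _ = b * (a₀ * b * a₀ * b) := by simp only [mul_assoc]
  -- hom property
  have hmul : ∀ b ∈ B, ∀ b' ∈ B, a₀ * (b * b') * a₀ * (b * b') = (a₀ * b * a₀ * b) * (a₀ * b' * a₀ * b') := by
    intro b hb' b' hb''
    have h1 := hcC b' hb'' b hb'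
    have hbi := hinvB b hb'
    have hbb' : b * b' = b' * b := by
      have h2 := hsqB _ (B.mul_mem hb' hb'')
      have h3 : (b * b')⁻¹ = b * b' := inv_eq_of_mul_eq_one_right h2
      rw [← h3, mul_inv_rev, hbi, hinvB b' hb'']
    calc a₀ * (b * b') * a₀ * (b * b') = a₀ * (b * b') * a₀ * (b' * b) := by rw [← hbb']
      _ = a₀ * b * (b' * a₀ * (b' * b)) := by simp only [mul_assoc]
      _ = a₀ * b * (a₀ * (a₀ * b' * a₀ * b') * b) := by
          have : a₀ * (a₀ * b' * a₀ * b') = b' * a₀ * b' := by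
            have := hsq a₀ ha₀
            calc a₀ * (a₀ * b' * a₀ * b') = (a₀ * a₀) * b' * a₀ * b' := by simp only [mul_assoc]
              _ = b' * a₀ * b' := by rw [this, one_mul]
          rw [this]; simp only [mul_assoc]
      _ = a₀ * b * (a₀ * (b * (a₀ * b' * a₀ * b'))) := by rw [mul_assoc a₀ _ b, h1]
      _ = (a₀ * b * a₀ * b) * (a₀ * b' * a₀ * b') := by simp only [mul_assoc]
  -- injectivity
  have hinj : ∀ b ∈ B, a₀ * b * a₀ * b = 1 → b = 1 := by
    intro b hb' h1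
    by_contra hb1
    apply hab₀
    have hcomm : a₀ * b = b * a₀ := by
      have hbi := hinvB b hb'
      calc a₀ * b = (a₀ * b * a₀ * b) * (b⁻¹ * a₀⁻¹) := by group
        _ = b * a₀ := by rw [h1, one_mul, hbi, ha₀i]
    exact hstep2 a₀ ha₀ b hb' hb1 hcomm b₀ hb₀
  -- counting
  let A₁ : Subgroup G := A ⊓ Subgroup.centralizer (B : Set G)
  have hA₁lt : Nat.card A₁ < Nat.card A := by
    by_contra hge
    push Not at hge
    have : A₁ = A := Subgroup.eq_of_le_of_card_ge inf_le_left hge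
    have h2 : a₀ ∈ A₁ := by rw [this]; exact ha₀
    have h3 := (Subgroup.mem_inf.mp h2).2
    rw [Subgroup.mem_centralizer_iff] at h3
    exact hab₀ (h3 b₀ hb₀).symm
  have hcardB : Nat.card B = Nat.card A :=
    Subgroup.card_map_of_injective (MulAut.conj g).injective
  let f : B → A₁ := fun b => ⟨a₀ * b * a₀ * b, Subgroup.mem_inf.mpr ⟨hcA b b.2, by
    rw [Subgroup.mem_centralizer_iff]
    intro y hy
    exact (hcC b b.2 y hy).symm⟩⟩
  have hf : Function.Injective f := by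
    intro b b' hbb'
    have h1 : a₀ * b * a₀ * b = a₀ * b' * a₀ * b' := congrArg Subtype.val hbb'
    have h2 := hmul b b.2 b' b'.2
    rw [← h1, hsq _ (hcA b b.2)] at h2
    have h3 := hinj _ (B.mul_mem b.2 b'.2) h2
    have h4 : (b : G) = (b' : G)⁻¹ := eq_inv_of_mul_eq_one_left h3
    rw [hinvB b' b'.2] at h4
    exact Subtype.ext h4
  have := Nat.card_le_card_of_injective f hf
  omega

end Cfsg.Agent.S1177
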