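import Cfsg.Statements.S1178
import Cfsg.Agent.Lib.Helper20.ConjMap

set_option autoImplicit false
open Cfsg

namespace Cfsg.Agent.S1178

open Cfsg.Agent.Lib.Helper20

/-- Let A be a subgroup of a Sylow 2-subgroup S of the finite group G which is weakly closed in S. If a conjugate g A g⁻¹ commutes elementwise with A, then g A g⁻¹ = A. -/
theorem result {G : Type*} [Group G] [Finite G] (S : Sylow 2 G) (A : Subgroup G) (hW : Cfsg.IsWeaklyClosed A (S : Subgroup G)) (g : G) (hc : ∀ a ∈ A, ∀ b ∈ A.map (MulAut.conj g).toMonoidHom, a * b = b * a) : A.map (MulAut.conj g).toMonoidHom = A := by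
  obtain ⟨hAS, hwc⟩ := hW
  have hA2 : IsPGroup 2 A := S.isPGroup'.to_le hAS
  have hB2 : IsPGroup 2 (A.map (MulAut.conj g).toMonoidHom) := hA2.map _
  have hnorm : A ≤ Subgroup.normalizer ((A.map (MulAut.conj g).toMonoidHom : Subgroup G) : Set G) := by
    intro a ha
    rw [Subgroup.mem_normalizer_iff]
    intro b
    constructor
    · intro hb
      have : a * b * a⁻¹ = b := by rw [hc a ha b hb, mul_assoc, mul_inv_cancel, mul_one]
      rw [this]; exact hb
    · intro hb
      have h1 := hc a ha _ hb
      have : a * b * a⁻¹ = b := by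
        have h2 : a * (a * b * a⁻¹) = a * b := by rw [h1]; group
        exact mul_left_cancel h2
      rw [← this]; exact hb
  have hAB : IsPGroup 2 (A ⊔ A.map (MulAut.conj g).toMonoidHom : Subgroup G) :=
    hA2.to_sup_of_normal_right' hB2 hnorm
  obtain ⟨Q, hQ⟩ := hAB.exists_le_sylow
  obtain ⟨h, hh⟩ := MulAction.exists_smul_eq G Q S
  have hQS : (Q : Subgroup G).map (MulAut.conj h).toMonoidHom = (S : Subgroup G) := by
    rw [← sylow_smul_coe, hh]
  have h1 : A.map (MulAut.conj h).toMonoidHom ≤ S := by
    rw [← hQS]; exact map_conj_mono (le_trans le_sup_left hQ) h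
  have h2 : A.map (MulAut.conj (h * g)).toMonoidHom ≤ S := by
    rw [← map_conj_map_conj, ← hQS]; exact map_conj_mono (le_trans le_sup_right hQ) h
  have e1 := hwc h h1
  have e2 := hwc (h * g) h2
  have : A.map (MulAut.conj g).toMonoidHom
      = (A.map (MulAut.conj (h * g)).toMonoidHom).map (MulAut.conj h⁻¹).toMonoidHom := by
    rw [map_conj_map_conj]
    congr 3
    group
  rw [this, e2]
  have : A = (A.map (MulAut.conj h).toMonoidHom).map (MulAut.conj h⁻¹).toMonoidHom := by
    rw [map_conj_map_conj, inv_mul_cancel, map_conj_one]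
  conv_rhs => rw [this, e1]

end Cfsg.Agent.S1178
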