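import Cfsg.Statements.S1181
import Cfsg.Agent.Lib.Helper20.Isolated

set_option autoImplicit false
open Cfsg

namespace Cfsg.Agent.S1181

open Cfsg.Agent.Lib.Helper20

/-- Let z be an isolated involution of the finite group G and N a normal subgroup with z ∉ N. Then the centralizer of zN in G/N is the image of C_G(z), and zN is an isolated involution of G/N. -/
theorem result {G : Type*} [Group G] [Finite G] (z : G) (hz : Cfsg.IsIsolatedInvolution z) (N : Subgroup G) [N.Normal] (hzN : z ∉ N) : Subgroup.centralizer ({(QuotientGroup.mk z : G ⧸ N)} : Set (G ⧸ N)) = (Subgroup.centralizer ({z} : Set G)).map (QuotientGroup.mk' N) ∧ Cfsg.IsIsolatedInvolution (QuotientGroup.mk z : G ⧸ N) := by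
  have hz2 : z * z = 1 := invol_mul_self hz.1
  have hzi : z⁻¹ = z := invol_inv hz.1
  -- key: if the images of z and t = g z g⁻¹ commute, then z * t ∈ N
  have key : ∀ g : G, Commute (QuotientGroup.mk z : G ⧸ N) (QuotientGroup.mk (g * z * g⁻¹)) →
      z * (g * z * g⁻¹) ∈ N := by
    intro g hc
    have ht2 := conj_mul_self hz2 g
    have hsq : (z * (g * z * g⁻¹)) ^ 2 ∈ N := by
      rw [← QuotientGroup.eq_one_iff]
      have h1 : ((QuotientGroup.mk z : G ⧸ N)) * QuotientGroup.mk z = 1 := by
        rw [← QuotientGroup.mk_mul, hz2]; rfl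
      have h2 : ((QuotientGroup.mk (g * z * g⁻¹) : G ⧸ N)) * QuotientGroup.mk (g * z * g⁻¹) = 1 := by
        rw [← QuotientGroup.mk_mul, ht2]; rfl
      rw [QuotientGroup.mk_pow, QuotientGroup.mk_mul, pow_two]
      calc (QuotientGroup.mk z : G ⧸ N) * QuotientGroup.mk (g * z * g⁻¹) * (QuotientGroup.mk z * QuotientGroup.mk (g * z * g⁻¹))
          = QuotientGroup.mk z * (QuotientGroup.mk (g * z * g⁻¹) * QuotientGroup.mk z) * QuotientGroup.mk (g * z * g⁻¹) := by
            simp only [mul_assoc]
        _ = QuotientGroup.mk z * (QuotientGroup.mk z * QuotientGroup.mk (g * z * g⁻¹)) * QuotientGroup.mk (g * z * g⁻¹) := by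
            rw [hc.eq]
        _ = (QuotientGroup.mk z * QuotientGroup.mk z) * (QuotientGroup.mk (g * z * g⁻¹) * QuotientGroup.mk (g * z * g⁻¹)) := by
            simp only [mul_assoc]
        _ = 1 := by rw [h1, h2, one_mul]
    obtain ⟨j, hj⟩ := isolated_odd_orderOf_mul hz g
    have : z * (g * z * g⁻¹) = ((z * (g * z * g⁻¹)) ^ 2) ^ (j + 1) := by
      rw [← pow_mul]
      have : 2 * (j + 1) = orderOf (z * (g * z * g⁻¹)) + 1 := by omega
      rw [this, pow_succ, pow_orderOf_eq_one, one_mul]
    rw [this]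
    exact N.pow_mem hsq _
  have hzbar2 : (QuotientGroup.mk z : G ⧸ N) * QuotientGroup.mk z = 1 := by
    rw [← QuotientGroup.mk_mul, hz2]; rfl
  have hzbari : (QuotientGroup.mk z : G ⧸ N)⁻¹ = QuotientGroup.mk z :=
    inv_eq_of_mul_eq_one_right hzbar2
  constructor
  · apply le_antisymm
    · intro x hx
      obtain ⟨g, rfl⟩ := QuotientGroup.mk_surjective x
      rw [Subgroup.mem_centralizer_singleton_iff] at hx
      have hc : Commute (QuotientGroup.mk z : G ⧸ N) (QuotientGroup.mk (g * z * g⁻¹)) := by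
        have : (QuotientGroup.mk (g * z * g⁻¹) : G ⧸ N) = QuotientGroup.mk z := by
          rw [QuotientGroup.mk_mul, QuotientGroup.mk_mul, hx, QuotientGroup.mk_inv, mul_assoc,
            mul_inv_cancel, mul_one]
        rw [this]
      have hN := key g hc
      obtain ⟨c, hc1, -, -, hc3⟩ := isolated_exists_conj hz g
      have hcN : c ∈ N := (Subgroup.zpowers_le.mpr hN) hc1
      refine ⟨c⁻¹ * g, ?_, ?_⟩
      · rw [SetLike.mem_coe, Subgroup.mem_centralizer_singleton_iff]
        calc c⁻¹ * g * z = c⁻¹ * (g * z * g⁻¹) * g := by group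
          _ = c⁻¹ * (c * z * c⁻¹) * g := by rw [hc3]
          _ = z * (c⁻¹ * g) := by group
      · show (QuotientGroup.mk (c⁻¹ * g) : G ⧸ N) = QuotientGroup.mk g
        rw [QuotientGroup.mk_mul]
        have : (QuotientGroup.mk c⁻¹ : G ⧸ N) = 1 := by
          rw [QuotientGroup.eq_one_iff]; exact N.inv_mem hcN
        rw [this, one_mul]
    · rintro x ⟨c, hc, rfl⟩
      rw [SetLike.mem_coe, Subgroup.mem_centralizer_singleton_iff] at hc
      rw [Subgroup.mem_centralizer_singleton_iff]
      show (QuotientGroup.mk c : G ⧸ N) * QuotientGroup.mk z = QuotientGroup.mk z * QuotientGroup.mk c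
      rw [← QuotientGroup.mk_mul, ← QuotientGroup.mk_mul, hc]
  · constructor
    · apply orderOf_eq_prime
      · rw [pow_two, hzbar2]
      · intro h
        apply hzN
        rwa [QuotientGroup.eq_one_iff] at h
    · intro x hx
      obtain ⟨g, rfl⟩ := QuotientGroup.mk_surjective x
      have hc : Commute (QuotientGroup.mk z : G ⧸ N) (QuotientGroup.mk (g * z * g⁻¹)) := by
        rw [QuotientGroup.mk_mul, QuotientGroup.mk_mul, QuotientGroup.mk_inv]
        exact hx
      have hN := key g hc
      rw [← QuotientGroup.eq_one_iff, QuotientGroup.mk_mul] at hN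
      have := eq_inv_of_mul_eq_one_right hN
      rw [hzbari] at this
      rw [← QuotientGroup.mk_inv, ← QuotientGroup.mk_mul, ← QuotientGroup.mk_mul]
      exact this

end Cfsg.Agent.S1181
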