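import Cfsg.Statements.S1182
import Cfsg.Agent.Lib.Helper20.Isolated

set_option autoImplicit false
open Cfsg

namespace Cfsg.Agent.S1182

open Cfsg.Agent.Lib.Helper20

/-- Let z be an isolated involution of the finite group G and H a subgroup normalized by z. If x, y ∈ H both commute with z and y = h x h⁻¹ for some h ∈ H, then y = c x c⁻¹ for some c ∈ H commuting with z. -/
theorem result {G : Type*} [Group G] [Finite G] (z : G) (hz : Cfsg.IsIsolatedInvolution z) (H : Subgroup G) (hzH : z ∈ Subgroup.normalizer (H : Set G)) (x y : G) (hx : x ∈ H) (hy : y ∈ H) (hxz : Commute x z) (hyz : Commute y z) (h : G) (hh : h ∈ H) (hconj : h * x * h⁻¹ = y) : ∃ c ∈ H, Commute c z ∧ c * x * c⁻¹ = y := by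
  have hz2 : z * z = 1 := invol_mul_self hz.1
  have hzi : z⁻¹ = z := invol_inv hz.1
  obtain ⟨d, hd, -, -, hd3⟩ := isolated_exists_conj hz h
  -- z * t ∈ H ⊓ centralizer {y}
  have hztH : z * (h * z * h⁻¹) ∈ H := by
    have h1 : z * h * z⁻¹ ∈ H := (Subgroup.mem_normalizer_iff.mp hzH h).mp hh
    have : z * (h * z * h⁻¹) = (z * h * z⁻¹) * h⁻¹ := by rw [hzi]; group
    rw [this]
    exact H.mul_mem h1 (H.inv_mem hh)
  have hty : Commute (h * z * h⁻¹) y := by
    show (h * z * h⁻¹) * y = y * (h * z * h⁻¹)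
    rw [← hconj]
    calc h * z * h⁻¹ * (h * x * h⁻¹) = h * (z * x) * h⁻¹ := by group
      _ = h * (x * z) * h⁻¹ := by rw [hxz.eq]
      _ = h * x * h⁻¹ * (h * z * h⁻¹) := by group
  have hzty : z * (h * z * h⁻¹) ∈ Subgroup.centralizer ({y} : Set G) := by
    rw [Subgroup.mem_centralizer_singleton_iff]
    exact ((hyz.symm.mul_left hty).eq)
  have hle : Subgroup.zpowers (z * (h * z * h⁻¹)) ≤ H ⊓ Subgroup.centralizer ({y} : Set G) :=
    Subgroup.zpowers_le.mpr ⟨hztH, hzty⟩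
  have hdH : d ∈ H := (hle hd).1
  have hdy : d ∈ Subgroup.centralizer ({y} : Set G) := (hle hd).2
  rw [Subgroup.mem_centralizer_singleton_iff] at hdy
  refine ⟨d⁻¹ * h, H.mul_mem (H.inv_mem hdH) hh, ?_, ?_⟩
  · show d⁻¹ * h * z = z * (d⁻¹ * h)
    calc d⁻¹ * h * z = d⁻¹ * (h * z * h⁻¹) * h := by group
      _ = d⁻¹ * (d * z * d⁻¹) * h := by rw [hd3]
      _ = z * (d⁻¹ * h) := by group
  · calc d⁻¹ * h * x * (d⁻¹ * h)⁻¹ = d⁻¹ * (h * x * h⁻¹) * d := by group
      _ = d⁻¹ * (y * d) := by rw [hconj, mul_assoc]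
      _ = d⁻¹ * (d * y) := by rw [hdy]
      _ = y := by group

end Cfsg.Agent.S1182
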