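import Cfsg.Statements.S1185
import Cfsg.Agent.Lib.Helper20.Isolated

set_option autoImplicit false
open Cfsg

namespace Cfsg.Agent.S1185

open Cfsg.Agent.Lib.Helper20

/-- Let z be an isolated involution of the finite group G with centralizer C. Then for every g ∈ G there is exactly one element k in the coset gC that has odd order and is inverted by z. -/
theorem result {G : Type*} [Group G] [Finite G] (z : G) (hz : Cfsg.IsIsolatedInvolution z) (g : G) : ∃! k : G, (Odd (orderOf k) ∧ z * k * z⁻¹ = k⁻¹) ∧ g⁻¹ * k ∈ Subgroup.centralizer ({z} : Set G) := by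
  have hz2 : z * z = 1 := invol_mul_self hz.1
  have key : ∀ k : G, g⁻¹ * k ∈ Subgroup.centralizer ({z} : Set G) ↔ k * z * k⁻¹ = g * z * g⁻¹ := by
    intro k
    rw [Subgroup.mem_centralizer_singleton_iff]
    constructor
    · intro h
      calc k * z * k⁻¹ = g * (g⁻¹ * k * z) * k⁻¹ := by group
        _ = g * (z * (g⁻¹ * k)) * k⁻¹ := by rw [h]
        _ = g * z * g⁻¹ := by group
    · intro h
      calc g⁻¹ * k * z = g⁻¹ * (k * z * k⁻¹) * k := by group
        _ = g⁻¹ * (g * z * g⁻¹) * k := by rw [h]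
        _ = z * (g⁻¹ * k) := by group
  obtain ⟨c, -, hc1, hc2, hc3⟩ := isolated_exists_conj hz g
  refine ⟨c, ⟨⟨hc1, hc2⟩, (key c).mpr hc3⟩, ?_⟩
  rintro k ⟨⟨hk1, hk2⟩, hk3⟩
  rw [key] at hk3
  have e1 := conj_of_inverted hz2 hk2
  have e2 := conj_of_inverted hz2 hc2
  have : k * k = c * c := by
    have : k * k * z = c * c * z := by rw [← e1, ← e2, hk3, hc3]
    exact mul_right_cancel this
  exact eq_of_mul_self_eq_of_odd hk1 hc1 this

end Cfsg.Agent.S1185
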