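import Cfsg.Statements.S1183
import Cfsg.Agent.Lib.Helper20.Isolated
import Cfsg.Agent.Lib.Helper20.TransferLemmas
import Cfsg.Agent.S1182
import Cfsg.Agent.S1185

set_option autoImplicit false
open Cfsg

namespace Cfsg.Agent.S1183

open Cfsg.Agent.Lib.Helper20

/-- the centralizer of an isolated involution has odd index -/
theorem index_odd {G : Type*} [Group G] [Finite G] (z : G) (hz : Cfsg.IsIsolatedInvolution z) :
    Odd (Subgroup.centralizer ({z} : Set G)).index := by
  have hz2 : z * z = 1 := invol_mul_self hz.1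
  have hzi : z⁻¹ = z := invol_inv hz.1
  -- a Sylow 2-subgroup containing z
  have hZ2 : IsPGroup 2 (Subgroup.zpowers z) := by
    apply IsPGroup.of_card (n := 1)
    rw [Nat.card_zpowers, hz.1, pow_one]
  obtain ⟨S, hS⟩ := hZ2.exists_le_sylow
  have hzS : z ∈ (S : Subgroup G) := hS (Subgroup.mem_zpowers z)
  have hSC : (S : Subgroup G) ≤ Subgroup.centralizer ({z} : Set G) := by
    intro s hs
    rw [Subgroup.mem_centralizer_singleton_iff]
    have hmem : z * (s * z * s⁻¹) ∈ (S : Subgroup G) :=
      Subgroup.mul_mem _ hzS (Subgroup.mul_mem _ (Subgroup.mul_mem _ hs hzS) (Subgroup.inv_mem _ hs))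
    have hodd := isolated_odd_orderOf_mul hz s
    obtain ⟨k, hk⟩ := (IsPGroup.iff_orderOf.mp S.isPGroup') ⟨_, hmem⟩
    rw [Subgroup.orderOf_mk] at hk
    have h1 : orderOf (z * (s * z * s⁻¹)) = 1 := by
      rcases Nat.eq_zero_or_pos k with h | h
      · rw [hk, h, pow_zero]
      · exfalso
        rw [hk] at hodd
        have : Even (2 ^ k) := (Nat.even_pow' h.ne').mpr even_two
        exact (Nat.not_even_iff_odd.mpr hodd) this
    rw [orderOf_eq_one_iff] at h1
    have h2 : s * z * s⁻¹ = z := by
      have := eq_inv_of_mul_eq_one_right h1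
      rw [hzi] at this; exact this
    calc s * z = s * z * s⁻¹ * s := by group
      _ = z * s := by rw [h2]
  have hdvd : (Subgroup.centralizer ({z} : Set G)).index ∣ (S : Subgroup G).index :=
    Subgroup.index_dvd_of_le hSC
  have hSodd : Odd (S : Subgroup G).index := by
    rw [← Nat.not_even_iff_odd, even_iff_two_dvd]
    exact S.not_dvd_index
  exact odd_of_dvd_odd hdvd hSodd

/-- Let z be an isolated involution of the finite group G and C = C_G(z). Then the subgroup of G generated by its elements of odd order is all of G if and only if the subgroup of C generated by its elements of odd order is all of C. -/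
theorem result {G : Type*} [Group G] [Finite G] (z : G) (hz : Cfsg.IsIsolatedInvolution z) : Cfsg.pResidual 2 G = ⊤ ↔ Cfsg.pResidual 2 ↥(Subgroup.centralizer ({z} : Set G)) = ⊤ := by
  constructor
  · intro hG
    by_contra hC
    haveI hnorm := pResidual_normal 2 ↥(Subgroup.centralizer ({z} : Set G))
    have hP2 : IsPGroup 2 (↥(Subgroup.centralizer ({z} : Set G)) ⧸ Cfsg.pResidual 2 ↥(Subgroup.centralizer ({z} : Set G))) :=
      pResidual_quotient_isPGroup 2 _ _ le_rfl
    haveI : Nontrivial (↥(Subgroup.centralizer ({z} : Set G)) ⧸ Cfsg.pResidual 2 ↥(Subgroup.centralizer ({z} : Set G))) := by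
      rw [QuotientGroup.nontrivial_iff]
      exact hC
    haveI : Group.IsNilpotent (↥(Subgroup.centralizer ({z} : Set G)) ⧸ Cfsg.pResidual 2 ↥(Subgroup.centralizer ({z} : Set G))) :=
      hP2.isNilpotent
    have hlt := Group.IsSolvable.commutator_lt_top_of_nontrivial (↥(Subgroup.centralizer ({z} : Set G)) ⧸ Cfsg.pResidual 2 ↥(Subgroup.centralizer ({z} : Set G)))
    -- the homomorphism π : C → Abelianization (C / R)
    let π : ↥(Subgroup.centralizer ({z} : Set G)) →* Abelianization (↥(Subgroup.centralizer ({z} : Set G)) ⧸ Cfsg.pResidual 2 ↥(Subgroup.centralizer ({z} : Set G))) :=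
      (Abelianization.of).comp (QuotientGroup.mk' _)
    have hπsurj : Function.Surjective π := by
      intro x
      obtain ⟨y, rfl⟩ := QuotientGroup.mk_surjective x
      obtain ⟨c, rfl⟩ := QuotientGroup.mk_surjective y
      exact ⟨c, rfl⟩
    have hQ2 : IsPGroup 2 (Abelianization (↥(Subgroup.centralizer ({z} : Set G)) ⧸ Cfsg.pResidual 2 ↥(Subgroup.centralizer ({z} : Set G)))) :=
      hP2.to_quotient _
    -- fusion invariance
    have hfus : ∀ (h : G) (hh : h ∈ Subgroup.centralizer ({z} : Set G)) (g : G)
        (hc : g⁻¹ * h * g ∈ Subgroup.centralizer ({z} : Set G)), π ⟨g⁻¹ * h * g, hc⟩ = π ⟨h, hh⟩ := by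
      intro h hh g hc
      have hzn : z ∈ Subgroup.normalizer (((⊤ : Subgroup G)) : Set G) := by
        rw [Subgroup.mem_normalizer_iff]; intro _; simp
      obtain ⟨c, -, hcz, hcc⟩ := Cfsg.Agent.S1182.result z hz ⊤ hzn h (g⁻¹ * h * g) (Subgroup.mem_top _)
        (Subgroup.mem_top _) (Subgroup.mem_centralizer_singleton_iff.mp hh)
        (Subgroup.mem_centralizer_singleton_iff.mp hc) g⁻¹ (Subgroup.mem_top _) (by rw [inv_inv])
      have hcC : c ∈ Subgroup.centralizer ({z} : Set G) :=
        Subgroup.mem_centralizer_singleton_iff.mpr hcz.eq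
      have : (⟨g⁻¹ * h * g, hc⟩ : ↥(Subgroup.centralizer ({z} : Set G))) = ⟨c, hcC⟩ * ⟨h, hh⟩ * ⟨c, hcC⟩⁻¹ := by
        apply Subtype.ext
        simp [hcc]
      rw [this, map_mul, map_mul, map_inv, mul_comm, inv_mul_cancel_left]
    haveI : (Subgroup.centralizer ({z} : Set G)).FiniteIndex := inferInstance
    have htr := transfer_eq_pow_of_conj π hfus
    -- the transfer is trivial
    have hV : ∀ g : G, MonoidHom.transfer π g = 1 := by
      intro g
      have hmem : g ∈ (MonoidHom.transfer π).ker := by
        have hle : Cfsg.pResidual 2 G ≤ (MonoidHom.transfer π).ker := by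
          unfold Cfsg.pResidual
          rw [Subgroup.closure_le]
          intro y hy
          have hy' : Nat.Coprime (orderOf y) 2 := hy
          rw [SetLike.mem_coe, MonoidHom.mem_ker]
          obtain ⟨k, hk⟩ := (IsPGroup.iff_orderOf.mp hQ2) (MonoidHom.transfer π y)
          have hd : orderOf (MonoidHom.transfer π y) ∣ orderOf y := orderOf_map_dvd _ y
          rw [hk] at hd
          have h3 : Nat.Coprime (2 ^ k) 2 := Nat.Coprime.coprime_dvd_left hd hy'
          rcases Nat.eq_zero_or_pos k with h | h
          · rw [h, pow_zero] at hk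
            exact orderOf_eq_one_iff.mp hk
          · exfalso
            have : (2 : ℕ) ∣ Nat.gcd (2 ^ k) 2 := Nat.dvd_gcd (dvd_pow_self 2 h.ne') dvd_rfl
            rw [h3] at this
            omega
        rw [hG] at hle
        exact hle (Subgroup.mem_top g)
      exact MonoidHom.mem_ker.mp hmem
    -- π is trivial
    have hπ1 : ∀ x, π x = 1 := by
      intro x
      have h1 := htr x
      rw [hV] at h1
      obtain ⟨j, hj⟩ := index_odd z hz
      obtain ⟨k, hk⟩ := (IsPGroup.iff_orderOf.mp hQ2) (π x)
      have hd : orderOf (π x) ∣ 2 * j + 1 := by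
        rw [← hj]; exact orderOf_dvd_of_pow_eq_one h1.symm
      rcases Nat.eq_zero_or_pos k with h | h
      · rw [h, pow_zero] at hk
        exact orderOf_eq_one_iff.mp hk
      · exfalso
        rw [hk] at hd
        have : (2 : ℕ) ∣ 2 * j + 1 := dvd_trans (dvd_pow_self 2 h.ne') hd
        omega
    -- contradiction with nontriviality of the abelianization
    apply hlt.ne
    rw [eq_top_iff]
    intro y _
    have : Abelianization.of y = 1 := by
      obtain ⟨c, rfl⟩ := QuotientGroup.mk_surjective y
      exact hπ1 c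
    rwa [← MonoidHom.mem_ker, Abelianization.ker_of] at this
  · intro hC
    rw [eq_top_iff]
    intro g _
    obtain ⟨k, ⟨⟨hk1, -⟩, hk3⟩, -⟩ := Cfsg.Agent.S1185.result z hz g
    have hkR : k ∈ Cfsg.pResidual 2 G := by
      apply Subgroup.subset_closure
      exact Nat.coprime_two_right.mpr hk1
    have hCR : ∀ c : ↥(Subgroup.centralizer ({z} : Set G)), (c : G) ∈ Cfsg.pResidual 2 G := by
      intro c
      have hc : c ∈ Cfsg.pResidual 2 ↥(Subgroup.centralizer ({z} : Set G)) := by rw [hC]; exact Subgroup.mem_top c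
      unfold Cfsg.pResidual at hc
      induction hc using Subgroup.closure_induction with
      | mem x hx =>
        apply Subgroup.subset_closure
        have hx' : Nat.Coprime (orderOf x) 2 := hx
        show Nat.Coprime (orderOf (x : G)) 2
        rwa [Subgroup.orderOf_coe]
      | one => exact Subgroup.one_mem _
      | mul _ _ _ _ IHa IHb => exact Subgroup.mul_mem _ IHa IHb
      | inv _ _ IH => exact Subgroup.inv_mem _ IH
    have h1 := hCR ⟨g⁻¹ * k, hk3⟩
    have : g = k * (g⁻¹ * k)⁻¹ := by group
    rw [this]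
    exact Subgroup.mul_mem _ hkR (Subgroup.inv_mem _ h1)

end Cfsg.Agent.S1183
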