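import Cfsg.Statements.S1184
import Cfsg.Agent.Lib.Helper20.Isolated

set_option autoImplicit false
open Cfsg

namespace Cfsg.Agent.S1184

open Cfsg.Agent.Lib.Helper20

/-- Let z be an isolated involution of the finite group G. If s and t are distinct conjugates of z, then st does not commute with z. -/
theorem result {G : Type*} [Group G] [Finite G] (z : G) (hz : Cfsg.IsIsolatedInvolution z) (g h : G) (hne : g * z * g⁻¹ ≠ h * z * h⁻¹) : ¬ Commute (g * z * g⁻¹ * (h * z * h⁻¹)) z := by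
  intro hcomm
  have hz2 : z * z = 1 := invol_mul_self hz.1
  have hzi : z⁻¹ = z := invol_inv hz.1
  have hs2 := conj_mul_self hz2 g
  have ht2 := conj_mul_self hz2 h
  have hsi : (g * z * g⁻¹)⁻¹ = g * z * g⁻¹ := inv_eq_of_mul_eq_one_right hs2
  have hti : (h * z * h⁻¹)⁻¹ = h * z * h⁻¹ := inv_eq_of_mul_eq_one_right ht2
  have hodd_r := isolated_odd_orderOf_mul' hz g h
  have hodd_w := isolated_odd_orderOf_mul hz g
  have hsinv : (g * z * g⁻¹) * ((g * z * g⁻¹) * (h * z * h⁻¹)) * (g * z * g⁻¹)⁻¹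
      = ((g * z * g⁻¹) * (h * z * h⁻¹))⁻¹ := invol_conj_mul hs2 ht2
  have hzc : z * ((g * z * g⁻¹) * (h * z * h⁻¹)) * z⁻¹ = (g * z * g⁻¹) * (h * z * h⁻¹) := by
    rw [← hcomm.eq, mul_assoc, mul_inv_cancel, mul_one]
  have hzc' : z * ((g * z * g⁻¹) * (h * z * h⁻¹))⁻¹ * z⁻¹ = ((g * z * g⁻¹) * (h * z * h⁻¹))⁻¹ := by
    rw [← conj_inv, hzc]
  have hw : (z * (g * z * g⁻¹)) * ((g * z * g⁻¹) * (h * z * h⁻¹)) * (z * (g * z * g⁻¹))⁻¹
      = ((g * z * g⁻¹) * (h * z * h⁻¹))⁻¹ := by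
    calc (z * (g * z * g⁻¹)) * ((g * z * g⁻¹) * (h * z * h⁻¹)) * (z * (g * z * g⁻¹))⁻¹
        = z * ((g * z * g⁻¹) * ((g * z * g⁻¹) * (h * z * h⁻¹)) * (g * z * g⁻¹)⁻¹) * z⁻¹ := by
          rw [mul_inv_rev]; simp only [mul_assoc]
      _ = ((g * z * g⁻¹) * (h * z * h⁻¹))⁻¹ := by rw [hsinv, hzc']
  have h1 := mul_self_of_odd_inverts hodd_w hw
  have h2 := eq_one_of_odd_of_mul_self hodd_r h1
  apply hne
  have := eq_inv_of_mul_eq_one_left h2
  rw [this, hti]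

end Cfsg.Agent.S1184
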