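import Cfsg.Statements.S1186
import Cfsg.Agent.Lib.Helper20.Isolated
import Cfsg.Agent.S1180
import Cfsg.Agent.S1184
import Cfsg.Agent.S1185

set_option autoImplicit false
open Cfsg

namespace Cfsg.Agent.S1186

open Cfsg.Agent.Lib.Helper20

variable {G : Type*} [Group G] [Finite G]

/-- conjugates of `z` commuting with `x` -/
def TSet (z x : G) : Set G := {t | (∃ g : G, t = g * z * g⁻¹) ∧ Commute t x}

/-- odd order elements inverted by `z` commuting with `x` -/
def KSet (z x : G) : Set G := {k | Odd (orderOf k) ∧ z * k * z⁻¹ = k⁻¹ ∧ Commute k x}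

theorem card_KSet_eq_card_TSet {z : G} (hz : Cfsg.IsIsolatedInvolution z) {x : G} (hx : Commute x z) :
    Nat.card (KSet z x) = Nat.card (TSet z x) := by
  have hz2 : z * z = 1 := invol_mul_self hz.1
  have hzi : z⁻¹ = z := invol_inv hz.1
  let f : KSet z x → TSet z x := fun k => ⟨k.1 * z * k.1⁻¹, ⟨⟨k.1, rfl⟩, by
    have h1 : Commute k.1 x := k.2.2.2
    exact (h1.mul_left hx.symm).mul_left h1.inv_left⟩⟩
  apply Nat.card_congr
  apply Equiv.ofBijective f
  constructor
  · intro k k' h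
    have h1 : k.1 * z * k.1⁻¹ = k'.1 * z * k'.1⁻¹ := congrArg Subtype.val h
    rw [conj_of_inverted hz2 k.2.2.1, conj_of_inverted hz2 k'.2.2.1] at h1
    have h2 : k.1 * k.1 = k'.1 * k'.1 := mul_right_cancel h1
    exact Subtype.ext (eq_of_mul_self_eq_of_odd k.2.1 k'.2.1 h2)
  · rintro ⟨t, ⟨g, rfl⟩, htx⟩
    obtain ⟨c, -, hc1, hc2, hc3⟩ := isolated_exists_conj hz g
    have hcc : c * c = g * z * g⁻¹ * z := by
      have := conj_of_inverted hz2 hc2
      rw [hc3] at this
      rw [this, mul_assoc, hz2, mul_one]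
    have hccx : Commute (c * c) x := by
      rw [hcc]; exact htx.mul_left hx.symm
    have hcx : Commute c x := by
      obtain ⟨j, hj⟩ := hc1
      have : c = (c * c) ^ (j + 1) := by
        rw [← pow_two, ← pow_mul]
        have : 2 * (j + 1) = orderOf c + 1 := by omega
        rw [this, pow_succ, pow_orderOf_eq_one, one_mul]
      rw [this]; exact hccx.pow_left _
    exact ⟨⟨c, hc1, hc2, hcx⟩, Subtype.ext hc3⟩

theorem midpoint_exists {z : G} (hz : Cfsg.IsIsolatedInvolution z) (s : G) {t : G}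
    (ht : ∃ g : G, t = g * z * g⁻¹) :
    ∃ w : G, (∃ g : G, w = g * z * g⁻¹) ∧ w * t * w⁻¹ = s * t * s⁻¹ := by
  obtain ⟨g, rfl⟩ := ht
  have ht := isolated_conj hz g
  have ht2 := invol_mul_self ht.1
  have hti := invol_inv ht.1
  obtain ⟨c, -, ⟨j, hj⟩, hc2, hc3⟩ := isolated_exists_conj ht s
  -- d = c^(j+1), d*d = c
  have hd2 : c ^ (j + 1) * c ^ (j + 1) = c := by
    rw [← pow_add]
    have : j + 1 + (j + 1) = orderOf c + 1 := by omega
    rw [this, pow_succ, pow_orderOf_eq_one, one_mul]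
  have hdinv := conj_inv_pow hc2 (j + 1)
  refine ⟨c ^ (j + 1) * (g * z * g⁻¹) * (c ^ (j + 1))⁻¹, ⟨c ^ (j + 1) * g, by group⟩, ?_⟩
  rw [conj_of_inverted ht2 hdinv, hd2, ← hc3]
  rw [mul_inv_rev, hti]
  calc c * (g * z * g⁻¹) * (g * z * g⁻¹) * (g * z * g⁻¹ * c⁻¹)
      = c * ((g * z * g⁻¹) * (g * z * g⁻¹)) * (g * z * g⁻¹) * c⁻¹ := by simp only [mul_assoc]
    _ = c * (g * z * g⁻¹) * c⁻¹ := by rw [ht2, mul_one]

theorem midpoint_unique {z : G} (hz : Cfsg.IsIsolatedInvolution z) {t w₁ w₂ : G}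
    (ht : ∃ g : G, t = g * z * g⁻¹) (h₁ : ∃ g : G, w₁ = g * z * g⁻¹) (h₂ : ∃ g : G, w₂ = g * z * g⁻¹)
    (h : w₁ * t * w₁⁻¹ = w₂ * t * w₂⁻¹) : w₁ = w₂ := by
  obtain ⟨g, rfl⟩ := ht
  obtain ⟨g₁, rfl⟩ := h₁
  obtain ⟨g₂, rfl⟩ := h₂
  have ht := isolated_conj hz g
  by_contra hne
  have e1 : g₂ * z * g₂⁻¹ = (g₂ * g⁻¹) * (g * z * g⁻¹) * (g₂ * g⁻¹)⁻¹ := by group
  have e2 : g₁ * z * g₁⁻¹ = (g₁ * g⁻¹) * (g * z * g⁻¹) * (g₁ * g⁻¹)⁻¹ := by group
  have hne' : (g₂ * g⁻¹) * (g * z * g⁻¹) * (g₂ * g⁻¹)⁻¹ ≠ (g₁ * g⁻¹) * (g * z * g⁻¹) * (g₁ * g⁻¹)⁻¹ := by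
    rw [← e1, ← e2]; exact fun h => hne h.symm
  have := Cfsg.Agent.S1184.result (g * z * g⁻¹) ht (g₂ * g⁻¹) (g₁ * g⁻¹) hne'
  apply this
  rw [← e1, ← e2]
  have hw2 := invol_inv (isolated_conj hz g₂).1
  show g₂ * z * g₂⁻¹ * (g₁ * z * g₁⁻¹) * (g * z * g⁻¹) = g * z * g⁻¹ * (g₂ * z * g₂⁻¹ * (g₁ * z * g₁⁻¹))
  have h' : (g₂ * z * g₂⁻¹)⁻¹ * (g₁ * z * g₁⁻¹ * (g * z * g⁻¹) * (g₁ * z * g₁⁻¹)⁻¹) * (g₂ * z * g₂⁻¹)
      = g * z * g⁻¹ := by
    rw [h]; group
  rw [hw2] at h'
  calc g₂ * z * g₂⁻¹ * (g₁ * z * g₁⁻¹) * (g * z * g⁻¹)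
      = (g₂ * z * g₂⁻¹ * (g₁ * z * g₁⁻¹ * (g * z * g⁻¹) * (g₁ * z * g₁⁻¹)⁻¹) * (g₂ * z * g₂⁻¹))
          * ((g₂ * z * g₂⁻¹)⁻¹ * (g₁ * z * g₁⁻¹)) := by group
    _ = g * z * g⁻¹ * (g₂ * z * g₂⁻¹ * (g₁ * z * g₁⁻¹)) := by rw [h', hw2]

theorem card_T {z : G} (hz : Cfsg.IsIsolatedInvolution z) {s : G} (hs : orderOf s = 2)
    (hsz : Commute s z) :
    Nat.card (TSet z 1) = Nat.card (TSet z s) * Nat.card (TSet z (s * z)) := by
  have hs2 := invol_mul_self hs
  have hsi := invol_inv hs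
  have hz2 : z * z = 1 := invol_mul_self hz.1
  have hzi : z⁻¹ = z := invol_inv hz.1
  -- the midpoint map
  have hex : ∀ t : TSet z (1 : G), ∃ w : G, (∃ g : G, w = g * z * g⁻¹) ∧ w * t.1 * w⁻¹ = s * t.1 * s⁻¹ :=
    fun t => midpoint_exists hz s t.2.1
  have hcomm : ∀ t : TSet z (1 : G), Commute (Classical.choose (hex t)) s := by
    intro t
    obtain ⟨hw1, hw2⟩ := Classical.choose_spec (hex t)
    set w := Classical.choose (hex t)
    have h3 : (s * w * s⁻¹) * t.1 * (s * w * s⁻¹)⁻¹ = s * t.1 * s⁻¹ := by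
      have e : (s * w * s⁻¹) * t.1 * (s * w * s⁻¹)⁻¹ = s * (w * (s⁻¹ * t.1 * s) * w⁻¹) * s⁻¹ := by group
      have e2 : s⁻¹ * t.1 * s = s * t.1 * s⁻¹ := by rw [hsi]
      have e3 : w * (w * t.1 * w⁻¹) * w⁻¹ = t.1 := by
        obtain ⟨g, hg⟩ := hw1
        have hwi : w⁻¹ = w := by rw [hg]; exact invol_inv (isolated_conj hz g).1
        have hww : w * w = 1 := by rw [hg]; exact invol_mul_self (isolated_conj hz g).1
        rw [hwi]
        calc w * (w * t.1 * w) * w = (w * w) * t.1 * (w * w) := by simp only [mul_assoc]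
          _ = t.1 := by rw [hww, one_mul, mul_one]
      rw [e, e2, ← hw2, e3]
      exact hw2.symm
    have hswT : ∃ g : G, s * w * s⁻¹ = g * z * g⁻¹ := by
      obtain ⟨g, hg⟩ := hw1
      exact ⟨s * g, by rw [hg]; group⟩
    have := midpoint_unique hz t.2.1 hswT hw1 (h3.trans hw2.symm)
    show w * s = s * w
    calc w * s = (s * w * s⁻¹) * s := by rw [this]
      _ = s * w := by group
  let f : TSet z (1 : G) → TSet z s := fun t =>
    ⟨Classical.choose (hex t), (Classical.choose_spec (hex t)).1, hcomm t⟩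
  have hfib : ∀ w : TSet z s, Nat.card {t : TSet z (1 : G) // f t = w} = Nat.card (TSet z (s * z)) := by
    intro w
    -- w = h z h⁻¹ with h commuting with s
    obtain ⟨g, hg⟩ := w.2.1
    have hzH : z ∈ Subgroup.centralizer ({s} : Set G) :=
      Subgroup.mem_centralizer_singleton_iff.mpr hsz.symm.eq
    have hwH : g * z * g⁻¹ ∈ Subgroup.centralizer ({s} : Set G) := by
      rw [← hg]; exact Subgroup.mem_centralizer_singleton_iff.mpr w.2.2.eq
    obtain ⟨h, hh, hhw⟩ := Cfsg.Agent.S1180.result z hz _ hzH g hwH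
    rw [Subgroup.mem_centralizer_singleton_iff] at hh
    rw [← hg] at hhw
    -- characterization of the fiber
    have hchar : ∀ t : TSet z (1 : G), f t = w ↔ Commute t.1 (s * w.1) := by
      intro t
      constructor
      · intro hft
        have h1 := (Classical.choose_spec (hex t)).2
        have h2 : Classical.choose (hex t) = w.1 := congrArg Subtype.val hft
        rw [h2] at h1
        show t.1 * (s * w.1) = s * w.1 * t.1
        have h3 : w.1 * t.1 = s * t.1 * s⁻¹ * w.1 := by rw [← h1]; group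
        rw [hsi] at h3
        calc t.1 * (s * w.1) = (s * s) * t.1 * (s * w.1) := by rw [hs2, one_mul]
          _ = s * (s * t.1 * s * w.1) := by simp only [mul_assoc]
          _ = s * (w.1 * t.1) := by rw [h3]
          _ = s * w.1 * t.1 := by rw [mul_assoc]
      · intro hc
        apply Subtype.ext
        have h1 := (Classical.choose_spec (hex t))
        apply midpoint_unique hz t.2.1 h1.1 w.2.1
        rw [h1.2]
        have hc' : t.1 * (s * w.1) = s * w.1 * t.1 := hc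
        have : w.1 * t.1 = s * t.1 * s * w.1 := by
          calc w.1 * t.1 = (s * s) * (w.1 * t.1) := by rw [hs2, one_mul]
            _ = s * (s * w.1 * t.1) := by simp only [mul_assoc]
            _ = s * (t.1 * (s * w.1)) := by rw [hc']
            _ = s * t.1 * s * w.1 := by simp only [mul_assoc]
        rw [hsi]
        calc s * t.1 * s = (s * t.1 * s * w.1) * w.1⁻¹ := by group
          _ = w.1 * t.1 * w.1⁻¹ := by rw [this]
    -- the equivalence
    apply Nat.card_congr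
    refine
      { toFun := fun t => ⟨h⁻¹ * t.1.1 * h, ?_, ?_⟩
        invFun := fun t => ⟨⟨h * t.1 * h⁻¹, ?_, ?_⟩, ?_⟩
        left_inv := ?_
        right_inv := ?_ }
    · obtain ⟨g', hg'⟩ := t.1.2.1
      exact ⟨h⁻¹ * g', by rw [hg']; group⟩
    · have hc := (hchar t.1).mp t.2
      have hc' : t.1.1 * (s * w.1) = s * w.1 * t.1.1 := hc
      show h⁻¹ * t.1.1 * h * (s * z) = s * z * (h⁻¹ * t.1.1 * h)
      have e1 : s * w.1 = h * (s * z) * h⁻¹ := by
        rw [← hhw]
        calc s * (h * z * h⁻¹) = (s * h) * z * h⁻¹ := by simp only [mul_assoc]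
          _ = (h * s) * z * h⁻¹ := by rw [hh]
          _ = h * (s * z) * h⁻¹ := by simp only [mul_assoc]
      rw [e1] at hc'
      calc h⁻¹ * t.1.1 * h * (s * z) = h⁻¹ * (t.1.1 * (h * (s * z) * h⁻¹)) * h := by group
        _ = h⁻¹ * (h * (s * z) * h⁻¹ * t.1.1) * h := by rw [hc']
        _ = s * z * (h⁻¹ * t.1.1 * h) := by group
    · obtain ⟨g', hg'⟩ := t.2.1
      exact ⟨h * g', by rw [hg']; group⟩
    · exact Commute.one_right _
    · rw [hchar]
      have hc' : t.1 * (s * z) = s * z * t.1 := t.2.2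
      have e1 : s * w.1 = h * (s * z) * h⁻¹ := by
        rw [← hhw]
        calc s * (h * z * h⁻¹) = (s * h) * z * h⁻¹ := by simp only [mul_assoc]
          _ = (h * s) * z * h⁻¹ := by rw [hh]
          _ = h * (s * z) * h⁻¹ := by simp only [mul_assoc]
      show h * t.1 * h⁻¹ * (s * w.1) = s * w.1 * (h * t.1 * h⁻¹)
      rw [e1]
      calc h * t.1 * h⁻¹ * (h * (s * z) * h⁻¹) = h * (t.1 * (s * z)) * h⁻¹ := by group
        _ = h * (s * z * t.1) * h⁻¹ := by rw [hc']
        _ = h * (s * z) * h⁻¹ * (h * t.1 * h⁻¹) := by group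
    · intro t
      apply Subtype.ext; apply Subtype.ext
      show h * (h⁻¹ * t.1.1 * h) * h⁻¹ = t.1.1
      group
    · intro t
      apply Subtype.ext
      show h⁻¹ * (h * t.1 * h⁻¹) * h = t.1
      group
  have : Fintype (TSet z s) := Fintype.ofFinite _
  rw [← Nat.card_congr (Equiv.sigmaFiberEquiv f), Nat.card_sigma]
  simp only [hfib, Finset.sum_const, Finset.card_univ, smul_eq_mul, Nat.card_eq_fintype_card]

/-- `G ≃ K × C` -/
theorem card_G {z : G} (hz : Cfsg.IsIsolatedInvolution z) :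
    Nat.card G = Nat.card (Subgroup.centralizer ({z} : Set G)) * Nat.card (KSet z 1) := by
  have hex := fun g => Cfsg.Agent.S1185.result z hz g
  rw [mul_comm, ← Nat.card_prod]
  apply Nat.card_congr
  refine
    { toFun := fun g => (⟨Classical.choose (hex g).exists, (Classical.choose_spec (hex g).exists).1.1,
          (Classical.choose_spec (hex g).exists).1.2, Commute.one_right _⟩,
          ⟨(g⁻¹ * Classical.choose (hex g).exists)⁻¹,
            Subgroup.inv_mem _ (Classical.choose_spec (hex g).exists).2⟩)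
      invFun := fun p => p.1.1 * p.2.1
      left_inv := ?_
      right_inv := ?_ }
  · intro g
    show Classical.choose (hex g).exists * (g⁻¹ * Classical.choose (hex g).exists)⁻¹ = g
    group
  · rintro ⟨⟨k, hk1, hk2, hk3⟩, ⟨c, hc⟩⟩
    have hspec := Classical.choose_spec (hex (k * c)).exists
    have huniq := (hex (k * c)).unique hspec ⟨⟨hk1, hk2⟩, by
      have : (k * c)⁻¹ * k = c⁻¹ := by group
      rw [this]; exact Subgroup.inv_mem _ hc⟩
    apply Prod.ext
    · apply Subtype.ext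
      exact huniq
    · apply Subtype.ext
      show ((k * c)⁻¹ * Classical.choose (hex (k * c)).exists)⁻¹ = c
      rw [huniq]; group

/-- Let z be an isolated involution of the finite group G, C = C_G(z), K the set of elements of odd order inverted by z, and s an involution of C. Then |G| = |C| · |C_K(sz)| · |C_K(s)|. -/
theorem result {G : Type*} [Group G] [Finite G] (z : G) (hz : Cfsg.IsIsolatedInvolution z) (s : G) (hs : orderOf s = 2) (hsz : Commute s z) : Nat.card G = Nat.card (Subgroup.centralizer ({z} : Set G)) * Nat.card {k : G // Odd (orderOf k) ∧ z * k * z⁻¹ = k⁻¹ ∧ Commute k (s * z)} * Nat.card {k : G // Odd (orderOf k) ∧ z * k * z⁻¹ = k⁻¹ ∧ Commute k s} := by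
  have h1 := card_G hz
  have h2 := card_KSet_eq_card_TSet hz (Commute.one_left z)
  have h3 := card_T hz hs hsz
  have h4 := card_KSet_eq_card_TSet hz hsz
  have h5 := card_KSet_eq_card_TSet hz (x := s * z) (hsz.mul_left (Commute.refl z))
  have e1 : Nat.card {k : G // Odd (orderOf k) ∧ z * k * z⁻¹ = k⁻¹ ∧ Commute k (s * z)} = Nat.card (KSet z (s * z)) := rfl
  have e2 : Nat.card {k : G // Odd (orderOf k) ∧ z * k * z⁻¹ = k⁻¹ ∧ Commute k s} = Nat.card (KSet z s) := rfl
  rw [e1, e2, h1, h2, h3, h4, h5]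
  ring

end Cfsg.Agent.S1186
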