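import Cfsg.Statements.S1189
import Cfsg.Agent.Lib.Helper20.QD

set_option autoImplicit false
open Cfsg

namespace Cfsg.Agent.S1189

open Cfsg.Agent.Lib.Helper20

/-- A quasi-dihedral 2-group has exactly two conjugacy classes of elements of order 2 and exactly two conjugacy classes of elements of order 4. -/
theorem result {S : Type*} [Group S] [Finite S] (hS : Cfsg.IsQuasiDihedral S) : Nat.card {C : ConjClasses S // ∃ t : S, orderOf t = 2 ∧ ConjClasses.mk t = C} = 2 ∧ Nat.card {C : ConjClasses S // ∃ t : S, orderOf t = 4 ∧ ConjClasses.mk t = C} = 2 := by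
  obtain ⟨k, x, y, h, -⟩ := exists_QD_of_isQuasiDihedral hS
  set q := 2 ^ k with hqdef
  constructor
  · apply card_classes_eq_two (fun t => orderOf t = 2) (x ^ (4 * q : ℤ)) (x ^ (0 : ℤ) * y)
    · exact h.orderOf_zpow_eq_two_iff.mpr rfl
    · exact h.orderOf_xy_even (dvd_zero 2)
    · exact h.not_isConj_x_xy _ _
    · intro t ht
      rcases h.cases t with ⟨i, rfl⟩ | ⟨i, rfl⟩
      · left
        rw [h.orderOf_zpow_eq_two_iff.mp ht]
      · right
        by_cases hi : 2 ∣ i
        · exact h.isConj_xy (by simpa using hi)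
        · rw [h.orderOf_xy_odd hi] at ht
          omega
  · apply card_classes_eq_two (fun t => orderOf t = 4) (x ^ (2 * q : ℤ)) (x ^ (1 : ℤ) * y)
    · exact h.orderOf_x2q
    · exact h.orderOf_xy_odd (by norm_num)
    · exact h.not_isConj_x_xy _ _
    · intro t ht
      rcases h.cases t with ⟨i, rfl⟩ | ⟨i, rfl⟩
      · left
        rcases h.orderOf_zpow_eq_four ht with h1 | h1
        · rw [h1]
        · rw [h1, isConj_iff]
          refine ⟨x ^ (0 : ℤ) * y, ?_⟩
          rw [h.conj_xy_x, h.zpow_eq_iff]
          exact ⟨-q, by ring⟩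
      · right
        by_cases hi : 2 ∣ i
        · rw [h.orderOf_xy_even hi] at ht
          omega
        · apply h.isConj_xy
          omega

end Cfsg.Agent.S1189
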