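import Cfsg.Statements.S1194
import Cfsg.Agent.Lib.Helper20.QD

set_option autoImplicit false
open Cfsg

namespace Cfsg.Agent.S1194

open Cfsg.Agent.Lib.Helper20

/-- In a quasi-dihedral 2-group S, every proper normal subgroup is either a maximal subgroup or a cyclic subgroup contained in the derived subgroup S'. -/
theorem result {S : Type*} [Group S] [Finite S] (hS : Cfsg.IsQuasiDihedral S) (N : Subgroup S) [N.Normal] (hN : N ≠ ⊤) : IsCoatom N ∨ (IsCyclic N ∧ N ≤ commutator S) := by
  obtain ⟨k, x, y, h, -⟩ := exists_QD_of_isQuasiDihedral hS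
  set q := 2 ^ k with hqdef
  by_cases hle : N ≤ Subgroup.zpowers x
  · by_cases heq : N = Subgroup.zpowers x
    · left
      rw [heq]
      exact isCoatom_of_index_two h.index_zpowers
    · right
      refine ⟨isCyclic_of_le_zpowers hle, ?_⟩
      intro g hg
      obtain ⟨i, rfl⟩ := Subgroup.mem_zpowers_iff.mp (hle hg)
      by_cases hi : 2 ∣ i
      · exact h.zpow_even_mem_commutator hi
      · exfalso
        apply heq
        apply le_antisymm hle
        rw [Subgroup.zpowers_le]
        have h1 := h.x_mem_zpowers_odd hi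
        exact (Subgroup.zpowers_le.mpr hg) h1
  · left
    obtain ⟨g, hgN, hgx⟩ := SetLike.not_le_iff_exists.mp hle
    rcases h.cases g with ⟨i, rfl⟩ | ⟨i, rfl⟩
    · exact absurd (Subgroup.zpow_mem_zpowers x i) hgx
    -- x^2 ∈ N
    have hN1 : x ^ (1 : ℤ) * (x ^ i * y) * (x ^ (1 : ℤ))⁻¹ ∈ N := Subgroup.Normal.conj_mem inferInstance _ hgN _
    rw [h.conj_x_xy] at hN1
    have hN2 : x ^ (2 - 4 * q : ℤ) ∈ N := by
      have : x ^ (2 - 4 * q : ℤ) = (x ^ (i + (2 - 4 * q) * 1 : ℤ) * y) * (x ^ i * y)⁻¹ := by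
        rw [mul_inv_rev, mul_assoc, ← mul_assoc y, mul_inv_cancel, one_mul, ← zpow_neg, ← zpow_add]
        congr 1
        ring
      rw [this]
      exact N.mul_mem hN1 (N.inv_mem hgN)
    have hx2 : x ^ (2 : ℤ) ∈ N := by
      have : x ^ (2 : ℤ) = (x ^ (2 - 4 * q : ℤ)) ^ (1 + 2 * q : ℤ) := by
        rw [← zpow_mul, h.zpow_eq_iff]
        exact ⟨q, by ring⟩
      rw [this]
      exact N.zpow_mem hN2 _
    have heven : ∀ j : ℤ, 2 ∣ j → x ^ j ∈ N := by
      rintro j ⟨c, rfl⟩
      rw [zpow_mul]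
      exact N.zpow_mem hx2 _
    refine ⟨hN, ?_⟩
    intro K hK
    obtain ⟨g', hgK, hgN'⟩ := SetLike.exists_of_lt hK
    -- x ∈ K
    have hxK : x ∈ K := by
      rcases h.cases g' with ⟨j, rfl⟩ | ⟨j, rfl⟩
      · have hj : ¬ 2 ∣ j := fun hj => hgN' (heven j hj)
        have h1 := h.x_mem_zpowers_odd hj
        exact (Subgroup.zpowers_le.mpr hgK) h1
      · have h1 : x ^ (j - i : ℤ) ∈ K := by
          have : x ^ (j - i : ℤ) = (x ^ j * y) * (x ^ i * y)⁻¹ := by
            rw [mul_inv_rev, mul_assoc, ← mul_assoc y, mul_inv_cancel, one_mul, ← zpow_neg, ← zpow_add]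
            congr 1
          rw [this]
          exact K.mul_mem hgK (K.inv_mem (hK.le hgN))
        have hj : ¬ 2 ∣ j - i := by
          intro hj
          apply hgN'
          have : x ^ j * y = x ^ (j - i : ℤ) * (x ^ i * y) := by
            rw [← mul_assoc, ← zpow_add]; congr 2; ring
          rw [this]
          exact N.mul_mem (heven _ hj) hgN
        have h2 := h.x_mem_zpowers_odd hj
        exact (Subgroup.zpowers_le.mpr h1) h2
    have hyK : y ∈ K := by
      have : y = (x ^ i)⁻¹ * (x ^ i * y) := by group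
      rw [this]
      exact K.mul_mem (K.inv_mem (K.zpow_mem hxK i)) (hK.le hgN)
    exact h.eq_top_of_mem K hxK hyK

end Cfsg.Agent.S1194
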