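import Cfsg.Statements.S1195
import Cfsg.Agent.Lib.Helper90.Wreathed

set_option autoImplicit false
open Cfsg


namespace Cfsg.Agent.S1195

open Cfsg.Agent.Lib.Helper90

theorem orderOf_two_iff {S : Type*} [Group S] (t : S) : orderOf t = 2 ↔ t ≠ 1 ∧ t * t = 1 := by
  constructor
  · intro ht
    refine ⟨?_, ?_⟩
    · rintro rfl
      rw [orderOf_one] at ht; omega
    · have := pow_orderOf_eq_one t
      rwa [ht, sq] at this
  · rintro ⟨h1, h2⟩
    exact orderOf_eq_prime (by rw [sq]; exact h2) h1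

/-- A wreathed 2-group has exactly three conjugacy classes of elements of order 2. -/
theorem result {S : Type*} [Group S] [Finite S] (hS : Cfsg.IsWreathed S) : Nat.card {C : ConjClasses S // ∃ t : S, orderOf t = 2 ∧ ConjClasses.mk t = C} = 3 := by
  obtain ⟨n, x, y, z, h⟩ := exists_wrData hS
  have hBn : h.B.Normal := h.B_normal
  set t1 := h.b ((2 : ℤ) ^ (n - 1)) 0 with ht1
  set t2 := h.b ((2 : ℤ) ^ (n - 1)) ((2 : ℤ) ^ (n - 1)) with ht2
  have ho1 : orderOf t1 = 2 := (orderOf_two_iff t1).mpr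
    ⟨h.b_half_zero_ne_one, h.half_sq _ _ (dvd_refl _) (dvd_zero _)⟩
  have ho2 : orderOf t2 = 2 := (orderOf_two_iff t2).mpr
    ⟨h.b_half_half_ne_one, h.half_sq _ _ (dvd_refl _) (dvd_refl _)⟩
  have ho3 : orderOf z = 2 := h.oz
  have hset : {C : ConjClasses S | ∃ t : S, orderOf t = 2 ∧ ConjClasses.mk t = C} =
      {ConjClasses.mk t1, ConjClasses.mk t2, ConjClasses.mk z} := by
    ext C
    simp only [Set.mem_ofPred_eq, Set.mem_insert_iff, Set.mem_singleton_iff]
    constructor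
    · rintro ⟨t, ht, rfl⟩
      obtain ⟨htne, htsq⟩ := (orderOf_two_iff t).mp ht
      rcases h.sq_eq_one_cases t htsq with (h0 | h0 | h0 | h0) | ⟨i, h0⟩
      · exact absurd h0 htne
      · left; rw [h0]
      · left
        rw [h0, ConjClasses.mk_eq_mk_iff_isConj, isConj_iff]
        exact ⟨z⁻¹, by rw [← h.conj_half, ht1]; group⟩
      · right; left; rw [h0]
      · right; right
        rw [h0, ConjClasses.mk_eq_mk_iff_isConj, isConj_iff]
        exact ⟨(h.b i 0)⁻¹, by rw [← h.conj_z]; group⟩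
    · rintro (rfl | rfl | rfl)
      · exact ⟨t1, ho1, rfl⟩
      · exact ⟨t2, ho2, rfl⟩
      · exact ⟨z, ho3, rfl⟩
  have h12 : ConjClasses.mk t1 ≠ ConjClasses.mk t2 := by
    rw [Ne, ConjClasses.mk_eq_mk_iff_isConj, isConj_comm, isConj_iff]
    rintro ⟨c, hc⟩
    have hcen : t2 ∈ Subgroup.center S := (h.mem_center_iff t2).mpr ⟨_, rfl⟩
    have := Subgroup.mem_center_iff.mp hcen c
    apply h.b_half_zero_ne_half_half
    rw [← ht1, ← ht2, ← hc, this]; group
  have h13 : ConjClasses.mk t1 ≠ ConjClasses.mk z := by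
    rw [Ne, ConjClasses.mk_eq_mk_iff_isConj, isConj_iff]
    rintro ⟨c, hc⟩
    apply h.z_not_mem_B
    have := hBn.conj_mem _ (h.b_mem_B ((2 : ℤ) ^ (n - 1)) 0) c
    rw [← ht1, hc] at this
    exact this
  have h23 : ConjClasses.mk t2 ≠ ConjClasses.mk z := by
    rw [Ne, ConjClasses.mk_eq_mk_iff_isConj, isConj_iff]
    rintro ⟨c, hc⟩
    apply h.z_not_mem_B
    have := hBn.conj_mem _ (h.b_mem_B ((2 : ℤ) ^ (n - 1)) ((2 : ℤ) ^ (n - 1))) c
    rw [← ht2, hc] at this
    exact this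
  show Nat.card ↥{C : ConjClasses S | ∃ t : S, orderOf t = 2 ∧ ConjClasses.mk t = C} = 3
  rw [hset, Nat.card_coe_set_eq, Set.ncard_eq_three]
  exact ⟨_, _, _, h12, h13, h23, rfl⟩

end Cfsg.Agent.S1195
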