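import Cfsg.Statements.S1197
import Cfsg.Agent.Lib.Helper90.WreathedDer
import Cfsg.Agent.Lib.Helper61.DihedralLift

set_option autoImplicit false
open Cfsg


namespace Cfsg.Agent.S1197

open Cfsg.Agent.Lib.Helper90

/-- Let S be a wreathed 2-group of order 2^(2n+1). Then Z(S) is cyclic of order 2^n, the derived subgroup S' is cyclic of order 2^n, and S/Z(S) is isomorphic to the dihedral group of order 2^(n+1). -/
theorem result {S : Type*} [Group S] [Finite S] (hS : Cfsg.IsWreathed S) (n : ℕ) (hn : Nat.card S = 2 ^ (2 * n + 1)) : IsCyclic (Subgroup.center S) ∧ Nat.card (Subgroup.center S) = 2 ^ n ∧ IsCyclic (commutator S) ∧ Nat.card (commutator S) = 2 ^ n ∧ Nonempty (S ⧸ Subgroup.center S ≃* DihedralGroup (2 ^ n)) := by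
  obtain ⟨m, x, y, z, h⟩ := exists_wrData hS
  have hmn : n = m := by
    have h1 := h.card
    rw [hn] at h1
    have := Nat.pow_right_injective (le_refl 2) h1
    omega
  subst hmn
  refine ⟨?_, h.card_center, ?_, h.card_commutator, ?_⟩
  · rw [h.center_eq_zpowers]; infer_instance
  · rw [h.commutator_eq_zpowers]; infer_instance
  · -- dihedral quotient
    set Z := Subgroup.center S with hZ
    let s : S ⧸ Z := QuotientGroup.mk z
    let r : S ⧸ Z := QuotientGroup.mk x
    have hs : s * s = 1 := by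
      show (QuotientGroup.mk z : S ⧸ Z) * QuotientGroup.mk z = 1
      rw [← QuotientGroup.mk_mul, h.zz]; rfl
    have hy : (QuotientGroup.mk y : S ⧸ Z) = r⁻¹ := by
      show (QuotientGroup.mk y : S ⧸ Z) = (QuotientGroup.mk x)⁻¹
      rw [← QuotientGroup.mk_inv, QuotientGroup.eq]
      have : y⁻¹ * x⁻¹ = (x * y)⁻¹ := by group
      rw [this]
      apply Subgroup.inv_mem
      rw [hZ, h.center_eq_zpowers]
      exact Subgroup.mem_zpowers _
    have hsx : s * r * s = r⁻¹ := by
      rw [← hy]
      show (QuotientGroup.mk z : S ⧸ Z) * QuotientGroup.mk x * QuotientGroup.mk z = QuotientGroup.mk y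
      rw [← QuotientGroup.mk_mul, ← QuotientGroup.mk_mul]
      congr 1
      have := h.conj
      rw [h.zinv] at this
      exact this
    have hr : ∀ k : ℤ, r ^ k = 1 ↔ ((2 ^ n : ℕ) : ℤ) ∣ k := by
      intro k
      show (QuotientGroup.mk x : S ⧸ Z) ^ k = 1 ↔ _
      rw [← QuotientGroup.mk_zpow, QuotientGroup.eq_one_iff]
      have : x ^ k = h.b k 0 := by simp [WrData.b_def]
      rw [this, hZ, h.b_mem_center_iff]
      push_cast
      simp
    have hor : orderOf r = 2 ^ n := orderOf_eq_of_zpow_iff r _ (by positivity) hr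
    have hns : s ∉ Subgroup.zpowers r := by
      intro hmem
      obtain ⟨k, hk⟩ := Subgroup.mem_zpowers_iff.mp hmem
      have hk' : (QuotientGroup.mk (x ^ k) : S ⧸ Z) = QuotientGroup.mk z := by
        rw [QuotientGroup.mk_zpow]; exact hk
      rw [QuotientGroup.eq] at hk'
      obtain ⟨i, hi⟩ := (h.mem_center_iff _).mp hk'
      apply h.z_not_mem_B
      have hzz : z = x ^ k * h.b i i := by rw [← hi]; group
      have hmemB : x ^ k * h.b i i ∈ h.B := h.B.mul_mem (by
        have : x ^ k = h.b k 0 := by simp [WrData.b_def]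
        rw [this]; exact h.b_mem_B _ _) (h.b_mem_B _ _)
      rwa [← hzz] at hmemB
    have hgen : Subgroup.closure ({s, r} : Set (S ⧸ Z)) = ⊤ := by
      rw [eq_top_iff]
      rintro g -
      obtain ⟨g, rfl⟩ := QuotientGroup.mk_surjective g
      have hsC : s ∈ Subgroup.closure ({s, r} : Set (S ⧸ Z)) := Subgroup.subset_closure (by simp)
      have hrC : r ∈ Subgroup.closure ({s, r} : Set (S ⧸ Z)) := Subgroup.subset_closure (by simp)
      have hbC : ∀ i j : ℤ, (QuotientGroup.mk (h.b i j) : S ⧸ Z) ∈ Subgroup.closure ({s, r} : Set (S ⧸ Z)) := by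
        intro i j
        rw [WrData.b_def, QuotientGroup.mk_mul, QuotientGroup.mk_zpow, QuotientGroup.mk_zpow, hy]
        exact Subgroup.mul_mem _ (Subgroup.zpow_mem _ hrC i) (Subgroup.zpow_mem _ (Subgroup.inv_mem _ hrC) j)
      rcases h.cases g with ⟨i, j, rfl⟩ | ⟨i, j, rfl⟩
      · exact hbC i j
      · rw [QuotientGroup.mk_mul]
        exact Subgroup.mul_mem _ (hbC i j) hsC
    have e := Cfsg.Agent.Lib.Helper61.dihedralEquiv s r hs hsx hns hgen
    rw [hor] at e
    exact ⟨e.symm⟩

end Cfsg.Agent.S1197
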