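import Cfsg.Statements.S1200
import Cfsg.Agent.Lib.Helper90.WreathedKlein

set_option autoImplicit false
open Cfsg


namespace Cfsg.Agent.S1200

open Cfsg.Agent.Lib.Helper90

theorem orderOf_two_iff {S : Type*} [Group S] (t : S) : orderOf t = 2 ↔ t ≠ 1 ∧ t * t = 1 := by
  constructor
  · intro ht
    refine ⟨?_, ?_⟩
    · rintro rfl
      rw [orderOf_one] at ht; omega
    · have := pow_orderOf_eq_one t
      rwa [ht, sq] at this
  · rintro ⟨h1, h2⟩
    exact orderOf_eq_prime (by rw [sq]; exact h2) h1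

section
variable {S : Type*} [Group S] {n : ℕ} {x y z : S} (h : WrData S n x y z)
include h

/-- membership in `⟨x y⁻¹⟩ ⊔ ⟨y^(2^(n-1))⟩`. -/
theorem mem_W1_iff (s : S) :
    s ∈ Subgroup.zpowers (x * y⁻¹) ⊔ Subgroup.zpowers (h.b 0 ((2 : ℤ) ^ (n - 1))) ↔
      ∃ i j : ℤ, (2 : ℤ) ^ (n - 1) ∣ i + j ∧ s = h.b i j := by
  have hpow : ∀ k : ℤ, (h.b 0 ((2 : ℤ) ^ (n - 1))) ^ k = h.b 0 ((2 : ℤ) ^ (n - 1) * k) := by
    intro k
    simp only [WrData.b_def, zpow_zero, one_mul, ← zpow_mul]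
  have hnorm : Subgroup.zpowers (x * y⁻¹) ≤
      Subgroup.normalizer (Subgroup.zpowers (h.b 0 ((2 : ℤ) ^ (n - 1))) : Set S) := by
    refine le_trans ?_ (Subgroup.centralizer_le_normalizer _)
    rw [Subgroup.zpowers_le, Subgroup.mem_centralizer_iff]
    intro g hg
    obtain ⟨k, rfl⟩ := Subgroup.mem_zpowers_iff.mp hg
    have e : x * y⁻¹ = h.b 1 (-1) := by
      have := h.xyinv_zpow 1
      rwa [zpow_one] at this
    rw [hpow, e]
    exact h.b_comm _ _ _ _
  constructor
  · intro hs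
    have h1 := Cfsg.Agent.Lib.Helper10.mul_set_eq_sup_of_le_normalizer hnorm
    have hs' : s ∈ ((Subgroup.zpowers (x * y⁻¹) ⊔ Subgroup.zpowers (h.b 0 ((2 : ℤ) ^ (n - 1))) :
        Subgroup S) : Set S) := hs
    rw [← h1] at hs'
    obtain ⟨a, ha, c, hc, rfl⟩ := hs'
    obtain ⟨i, rfl⟩ := Subgroup.mem_zpowers_iff.mp ha
    obtain ⟨k, rfl⟩ := Subgroup.mem_zpowers_iff.mp hc
    refine ⟨i, -i + (2 : ℤ) ^ (n - 1) * k, ?_, ?_⟩
    · have e : i + (-i + (2 : ℤ) ^ (n - 1) * k) = (2 : ℤ) ^ (n - 1) * k := by ring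
      rw [e]; exact dvd_mul_right _ _
    · show _ * _ = _
      rw [h.xyinv_zpow, hpow, h.b_mul]
      congr 1
      ring
  · rintro ⟨i, j, ⟨k, hk⟩, rfl⟩
    have e : h.b i j = (x * y⁻¹) ^ i * (h.b 0 ((2 : ℤ) ^ (n - 1))) ^ k := by
      rw [h.xyinv_zpow, hpow, h.b_mul, ← hk]
      congr 1 <;> ring
    rw [e]
    exact Subgroup.mul_mem _ (Subgroup.mem_sup_left (Subgroup.zpow_mem_zpowers _ _))
      (Subgroup.mem_sup_right (Subgroup.zpow_mem_zpowers _ _))

end

/-- Let S be a wreathed 2-group of order 2^(2n+1) and Ω the subgroup generated by its involutions. Then Ω has order 2^(n+2) and S/Ω is cyclic: some s ∈ S together with Ω generates S. -/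
theorem result {S : Type*} [Group S] [Finite S] (hS : Cfsg.IsWreathed S) (n : ℕ) (hn : Nat.card S = 2 ^ (2 * n + 1)) : Nat.card (Subgroup.closure {x : S | orderOf x = 2}) = 2 ^ (n + 2) ∧ ∃ s : S, Subgroup.closure {x : S | orderOf x = 2} ⊔ Subgroup.zpowers s = ⊤ := by
  obtain ⟨m, x, y, z, h⟩ := exists_wrData hS
  have hmn : n = m := by
    have h1 := h.card
    rw [hn] at h1
    have := Nat.pow_right_injective (le_refl 2) h1
    omega
  subst hmn
  set A := Subgroup.zpowers (x * y⁻¹) with hA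
  set e := h.b 0 ((2 : ℤ) ^ (n - 1)) with he
  set E := Subgroup.zpowers e with hE
  set Zz := Subgroup.zpowers z with hZz
  set Ω := Subgroup.closure {t : S | orderOf t = 2} with hΩ
  have hxy1 : x * y⁻¹ = h.b 1 (-1) := by
    have := h.xyinv_zpow 1
    rwa [zpow_one] at this
  have he2 : orderOf e = 2 := (orderOf_two_iff e).mpr
    ⟨h.b_zero_half_ne_one, h.half_sq _ _ (dvd_zero _) (dvd_refl _)⟩
  -- Ω = (A ⊔ E) ⊔ Zz
  have hΩeq : Ω = (A ⊔ E) ⊔ Zz := by
    apply le_antisymm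
    · rw [hΩ, Subgroup.closure_le]
      intro t ht
      obtain ⟨htne, htsq⟩ := (orderOf_two_iff t).mp ht
      rcases h.sq_eq_one_cases t htsq with (h0 | h0 | h0 | h0) | ⟨i, h0⟩
      · exact absurd h0 htne
      · apply Subgroup.mem_sup_left
        rw [h0, hA, hE, he, mem_W1_iff h]
        exact ⟨_, _, by simp, rfl⟩
      · apply Subgroup.mem_sup_left
        rw [h0, hA, hE, he, mem_W1_iff h]
        exact ⟨_, _, by simp, rfl⟩
      · apply Subgroup.mem_sup_left
        rw [h0, hA, hE, he, mem_W1_iff h]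
        refine ⟨_, _, ?_, rfl⟩
        exact dvd_add (dvd_refl _) (dvd_refl _)
      · rw [h0]
        apply Subgroup.mul_mem
        · apply Subgroup.mem_sup_left
          rw [hA, hE, he, mem_W1_iff h]
          exact ⟨i, -i, by simp, rfl⟩
        · exact Subgroup.mem_sup_right (Subgroup.mem_zpowers z)
    · have hzΩ : z ∈ Ω := Subgroup.subset_closure h.oz
      apply sup_le (sup_le ?_ ?_) ?_
      · rw [hA, Subgroup.zpowers_le]
        have hinv : orderOf (h.b 1 (-1) * z) = 2 := by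
          rw [orderOf_two_iff]
          refine ⟨fun h1 => h.b_z_ne_b 1 (-1) 0 0 (by rw [h.b_zero]; exact h1), ?_⟩
          rw [h.b_z_b_z, h.b_eq_one_iff]; simp
        have e1 : x * y⁻¹ = (h.b 1 (-1) * z) * z := by
          rw [mul_assoc, h.zz, mul_one]; exact hxy1
        rw [e1]
        exact Subgroup.mul_mem _ (Subgroup.subset_closure hinv) hzΩ
      · rw [hE, Subgroup.zpowers_le]
        exact Subgroup.subset_closure he2
      · rw [hZz, Subgroup.zpowers_le]; exact hzΩ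
  -- cardinalities
  have hAE : A ⊓ E = ⊥ := by
    rw [eq_bot_iff]
    rintro s ⟨hsA, hsE⟩
    rw [Subgroup.mem_bot]
    obtain ⟨i, rfl⟩ := Subgroup.mem_zpowers_iff.mp hsA
    obtain ⟨k, hk⟩ := Subgroup.mem_zpowers_iff.mp hsE
    have hpow : e ^ k = h.b 0 ((2 : ℤ) ^ (n - 1) * k) := by
      simp only [he, WrData.b_def, zpow_zero, one_mul, ← zpow_mul]
    rw [hpow, h.xyinv_zpow, h.b_eq_b_iff] at hk
    rw [h.xyinv_zpow, h.b_eq_one_iff]
    obtain ⟨h1, h2⟩ := hk
    have h1' : (2 : ℤ) ^ n ∣ i := by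
      have := (dvd_neg).mpr h1
      simpa using this
    exact ⟨h1', (dvd_neg).mpr h1'⟩
  have hnormAE : A ≤ Subgroup.normalizer (E : Set S) := by
    refine le_trans ?_ (Subgroup.centralizer_le_normalizer _)
    rw [hA, Subgroup.zpowers_le, Subgroup.mem_centralizer_iff]
    intro g hg
    obtain ⟨k, rfl⟩ := Subgroup.mem_zpowers_iff.mp hg
    have hpow : e ^ k = h.b 0 ((2 : ℤ) ^ (n - 1) * k) := by
      simp only [he, WrData.b_def, zpow_zero, one_mul, ← zpow_mul]
    rw [hpow, hxy1]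
    exact h.b_comm _ _ _ _
  have hcardAE : Nat.card ↥(A ⊔ E) = 2 ^ n * 2 := by
    have := Cfsg.Agent.Lib.Helper10.card_sup_mul_card_inf hnormAE
    rw [hAE, Subgroup.card_bot, mul_one, hA, hE, Nat.card_zpowers, Nat.card_zpowers,
      h.orderOf_xyinv, he2] at this
    exact this
  have hAEB : A ⊔ E ≤ h.B := by
    intro s hs
    rw [hA, hE, he, mem_W1_iff h] at hs
    obtain ⟨i, j, -, rfl⟩ := hs
    exact h.b_mem_B i j
  have hAEZ : (A ⊔ E) ⊓ Zz = ⊥ := by
    rw [eq_bot_iff]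
    rintro s ⟨hs1, hs2⟩
    rw [Subgroup.mem_bot]
    obtain ⟨k, rfl⟩ := Subgroup.mem_zpowers_iff.mp hs2
    rcases Int.emod_two_eq_zero_or_one k with hk | hk
    · obtain ⟨q, rfl⟩ : (2 : ℤ) ∣ k := Int.dvd_of_emod_eq_zero hk
      rw [zpow_mul, zpow_two, h.zz, one_zpow]
    · exfalso
      have : (2 : ℤ) ∣ k - 1 := by omega
      obtain ⟨q, hq⟩ := this
      have hk' : k = 2 * q + 1 := by omega
      apply h.z_not_mem_B
      have hz : z ^ k = z := by
        rw [hk', zpow_add, zpow_mul, zpow_two, h.zz, one_zpow, one_mul, zpow_one]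
      rw [hz] at hs1
      exact hAEB hs1
  have hnormZ : Zz ≤ Subgroup.normalizer ((A ⊔ E : Subgroup S) : Set S) := by
    rw [hZz, Subgroup.zpowers_le]
    have key : ∀ s, s ∈ A ⊔ E → z * s * z⁻¹ ∈ A ⊔ E := by
      intro s hs
      rw [hA, hE, he, mem_W1_iff h] at hs ⊢
      obtain ⟨i, j, hij, rfl⟩ := hs
      refine ⟨j, i, by rwa [add_comm], ?_⟩
      rw [h.z_b]; group
    rw [Subgroup.mem_normalizer_iff]
    intro s
    constructor
    · exact key s
    · intro hs
      have := key _ hs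
      rw [h.zinv] at this
      have e2 : z * (z * s * z) * z = (z * z) * s * (z * z) := by group
      rw [e2, h.zz, one_mul, mul_one] at this
      exact this
  have hcard : Nat.card ↥((A ⊔ E) ⊔ Zz) = 2 ^ n * 2 * 2 := by
    have hnorm' : A ⊔ E ≤ Subgroup.normalizer ((Zz : Subgroup S) : Set S) ∨ True := Or.inr trivial
    have := Cfsg.Agent.Lib.Helper10.card_sup_mul_card_inf hnormZ
    rw [inf_comm, hAEZ, Subgroup.card_bot, mul_one, sup_comm, hcardAE, hZz, Nat.card_zpowers, h.oz,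
      mul_comm] at this
    exact this
  refine ⟨?_, x, ?_⟩
  · rw [hΩeq, hcard]; ring
  · rw [eq_top_iff]
    rintro s -
    have hbmem : ∀ i j : ℤ, h.b i j ∈ Ω ⊔ Subgroup.zpowers x := by
      intro i j
      have e1 : h.b i j = h.b (-j) j * x ^ (i + j) := by
        have : x ^ (i + j) = h.b (i + j) 0 := by simp [WrData.b_def]
        rw [this, h.b_mul]
        congr 1 <;> ring
      rw [e1]
      apply Subgroup.mul_mem
      · apply Subgroup.mem_sup_left
        rw [hΩeq]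
        apply Subgroup.mem_sup_left
        rw [hA, hE, he, mem_W1_iff h]
        exact ⟨-j, j, by simp, rfl⟩
      · exact Subgroup.mem_sup_right (Subgroup.zpow_mem_zpowers x _)
    rcases h.cases s with ⟨i, j, rfl⟩ | ⟨i, j, rfl⟩
    · exact hbmem i j
    · apply Subgroup.mul_mem _ (hbmem i j)
      apply Subgroup.mem_sup_left
      exact Subgroup.subset_closure h.oz

end Cfsg.Agent.S1200
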