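import Cfsg.Statements.S1201
import Cfsg.Agent.Lib.Helper90.WreathedCent

set_option autoImplicit false
open Cfsg


namespace Cfsg.Agent.S1201

open Cfsg.Agent.Lib.Helper90

/-- If X is a non-commutative subgroup of a wreathed 2-group S, then Z(X) ≤ Z(S). -/
theorem result {S : Type*} [Group S] [Finite S] (hS : Cfsg.IsWreathed S) (X : Subgroup S) (hX : ¬ IsMulCommutative X) : (Subgroup.center X).map X.subtype ≤ Subgroup.center S := by
  obtain ⟨n, x, y, z, h⟩ := exists_wrData hS
  rintro _ ⟨c, hc, rfl⟩
  by_contra hcen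
  apply hX
  refine ⟨⟨fun u v => ?_⟩⟩
  apply Subtype.ext
  have hcu : ∀ w : X, (w : S) * (c : S) = (c : S) * (w : S) := by
    intro w
    have := Subgroup.mem_center_iff.mp hc w
    simpa using congrArg Subtype.val this
  have := h.commute_of_commute_noncentral (c : S) (u : S) (v : S) hcen (hcu u) (hcu v)
  simpa using this

end Cfsg.Agent.S1201
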