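import Cfsg.Statements.S1203
import Cfsg.Agent.Lib.Helper20.QDSylow

set_option autoImplicit false
set_option linter.style.haveILetI false
open Cfsg

namespace Cfsg.Agent.S1203

open Cfsg.Agent.Lib.Helper20

/-- Let G be a finite group with quasi-dihedral Sylow 2-subgroup S, T a Klein four-subgroup of S and Q a quaternion subgroup of order 8 of S. Then |N_G(T) : C_G(T)| ∈ {2, 6} and |N_G(Q) : Q C_G(Q)| ∈ {2, 6}. -/
theorem result {G : Type*} [Group G] [Finite G] (S : Sylow 2 G) (hS : Cfsg.IsQuasiDihedral (S : Subgroup G)) (T : Subgroup G) (hT : IsKleinFour T) (hTS : T ≤ S) (Q : Subgroup G) (hQS : Q ≤ S) (eQ : Q ≃* QuaternionGroup 2) : ((Subgroup.centralizer (T : Set G)).relIndex (Subgroup.normalizer (T : Set G)) = 2 ∨ (Subgroup.centralizer (T : Set G)).relIndex (Subgroup.normalizer (T : Set G)) = 6) ∧ ((Q ⊔ Subgroup.centralizer (Q : Set G)).relIndex (Subgroup.normalizer (Q : Set G)) = 2 ∨ (Q ⊔ Subgroup.centralizer (Q : Set G)).relIndex (Subgroup.normalizer (Q : Set G)) = 6) :=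 by
  obtain ⟨k, x, y, h, -⟩ := exists_QD_of_isQuasiDihedral hS
  constructor
  · rw [normalizerMonoidHom_relIndex]
    apply even_dvd_six
    · obtain ⟨h1, h2⟩ := h.klein_x2q_spec T hTS
      exact two_dvd_index_ker _ _ h1 h2
    · exact index_ker_dvd_six IsKleinFour.card_four _
  · rw [quatAct_relIndex Q eQ]
    haveI := quat2_finite eQ
    apply even_dvd_six
    · obtain ⟨h1, h2⟩ := h.quat_xq_spec Q hQS eQ
      exact two_dvd_index_ker _ _ h1 h2
    · exact index_ker_dvd_six (quat2_card_quot eQ) _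

end Cfsg.Agent.S1203
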