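import Cfsg.Statements.S1205
import Cfsg.Agent.Lib.Helper20.QDIndexTwo

set_option autoImplicit false
set_option linter.style.haveILetI false
open Cfsg

namespace Cfsg.Agent.S1205

open Cfsg.Agent.Lib.Helper20

/-- the centre of `S` is weakly closed when involutions do not fuse -/
theorem center_weakly_closed {G : Type*} [Group G] [Finite G] (S : Sylow 2 G) {q : ℕ}
    {x y : (S : Subgroup G)} (h : QD (S : Subgroup G) q x y)
    (hnf : ∀ j : ℤ, 2 ∣ j → ¬ IsConj ((x ^ j * y : (S : Subgroup G)) : G)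
      ((x ^ (4 * q : ℤ) : (S : Subgroup G)) : G)) :
    Cfsg.IsWeaklyClosed ((Subgroup.center (S : Subgroup G)).map (S : Subgroup G).subtype)
      (S : Subgroup G) := by
  set zz : G := ((x ^ (4 * q : ℤ) : (S : Subgroup G)) : G) with hzz
  have hW : ∀ t : G, t ∈ (Subgroup.center (S : Subgroup G)).map (S : Subgroup G).subtype ↔
      t = 1 ∨ t = zz := by
    intro t
    rw [Cfsg.Agent.S1193.center_eq h]
    constructor
    · rintro ⟨c, hc, rfl⟩
      obtain ⟨n, rfl⟩ := Subgroup.mem_zpowers_iff.mp hc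
      rw [← zpow_mul]
      rcases (h.zpow_mem_one_z_iff (4 * q * n)).mpr ⟨n, rfl⟩ with h1 | h1
      · left; rw [h1]; rfl
      · right; rw [h1]; rfl
    · rintro (rfl | rfl)
      · exact Subgroup.one_mem _
      · exact ⟨x ^ (4 * q : ℤ), Subgroup.mem_zpowers _, rfl⟩
  refine ⟨Subgroup.map_subtype_le _, ?_⟩
  intro g hg
  have hzW : zz ∈ (Subgroup.center (S : Subgroup G)).map (S : Subgroup G).subtype :=
    (hW zz).mpr (Or.inr rfl)
  have hgz : g * zz * g⁻¹ ∈ (S : Subgroup G) := hg (conj_mem_map_conj hzW)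
  have ho : orderOf (g * zz * g⁻¹) = 2 := by
    rw [orderOf_conj']; exact h.orderOf_coe_z S
  have hfix : g * zz * g⁻¹ = zz := by
    rcases h.coe_invol hgz ho with h1 | ⟨j, hj, h1⟩
    · exact h1
    · exfalso
      apply hnf j hj
      rw [← h1]
      exact (isConj_iff.mpr ⟨g, rfl⟩).symm
  ext t
  rw [mem_map_conj, hW, hW]
  constructor
  · rintro (h1 | h1)
    · left
      have : t = g * (g⁻¹ * t * g) * g⁻¹ := by group
      rw [this, h1]; group
    · right
      have : t = g * (g⁻¹ * t * g) * g⁻¹ := by group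
      rw [this, h1, hfix]
  · rintro (rfl | rfl)
    · left; group
    · right
      have : g⁻¹ * zz * g = g⁻¹ * (g * zz * g⁻¹) * g := by rw [hfix]
      rw [this]; group

/-- Let G be a finite group with quasi-dihedral Sylow 2-subgroup S, T a Klein four-subgroup and Q a quaternion subgroup of order 8 of S, with |N_G(T) : C_G(T)| = 2 and |N_G(Q) : Q C_G(Q)| = 6. Then G has a normal subgroup K of index 2 whose Sylow 2-subgroups are generalized quaternion and which has no subgroup of index 2; the centre of S is weakly closed in S; and G has exactly two classes of involutions and one class of elements of order 4. -/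
theorem result {G : Type*} [Group G] [Finite G] (S : Sylow 2 G) (hS : Cfsg.IsQuasiDihedral (S : Subgroup G)) (T : Subgroup G) (hT : IsKleinFour T) (hTS : T ≤ S) (Q : Subgroup G) (hQS : Q ≤ S) (eQ : Q ≃* QuaternionGroup 2) (h₁ : (Subgroup.centralizer (T : Set G)).relIndex (Subgroup.normalizer (T : Set G)) = 2) (h₂ : (Q ⊔ Subgroup.centralizer (Q : Set G)).relIndex (Subgroup.normalizer (Q : Set G)) = 6) : (∃ K : Subgroup G, K.Normal ∧ K.index = 2 ∧ (∀ P : Sylow 2 ↥K, ∃ m : ℕ, 1 ≤ m ∧ Nonempty ((P : Subgroup ↥K) ≃* QuaternionGroup (2 ^ m))) ∧ (∀ H : Subgroup ↥K, H.index ≠ 2)) ∧ Cfsg.IsWeaklyClosed ((Subgroup.center (S : Subgroup G)).map (S : Subgroup G).subtype) (S : Subgroup G) ∧ Nat.card {C : ConjClasses G // ∃ t : G, orderOf t = 2 ∧ ConjClasses.mk t = C} = 2 ∧ Nat.card {C : ConjClasses G // ∃ t : G, orderOf t = 4 ∧ ConjClasses.mk t = C} = 1 := by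
  obtain ⟨k, x, y, h, -⟩ := exists_QD_of_isQuasiDihedral hS
  set q := 2 ^ k with hqdef
  rw [normalizerMonoidHom_relIndex] at h₁
  rw [quatAct_relIndex Q eQ] at h₂
  have hnf2 := fun j hj => h.not_fuse_invol hS T hTS h₁ j hj
  have hf4 := fun j hj => h.fuse_order4 Q hQS eQ (by rw [h₂]; norm_num) j hj
  obtain ⟨K, hKn, hK, hyK⟩ := h.exists_K_of_not_fuse_invol S hnf2
  haveI := hKn
  have hu : ((x ^ (2 * q : ℤ) : (S : Subgroup G)) : G) ∈ K := by
    have := Subgroup.mul_self_mem_of_index_two hK ((x ^ (q : ℤ) : (S : Subgroup G)) : G)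
    rw [← Subgroup.coe_mul, ← zpow_add] at this
    have e : (q : ℤ) + q = 2 * q := by ring
    rw [e] at this
    exact this
  have hKd : KData S h K 1 := h.kdata_of S K hK 1
    (fun j hj => mem_of_isConj_of_index_two hK hu (hf4 j (by omega)).symm)
    ⟨0, by norm_num, hyK⟩
  refine ⟨⟨K, hKn, hK, ?_, ?_⟩, center_weakly_closed S h hnf2, h.card_invol_classes_two S hnf2,
    h.card_order4_classes_one S hf4⟩
  · intro P
    obtain ⟨e1⟩ := hKd.sylow_equiv S P
    obtain ⟨e2⟩ := h.maxSub_one_equiv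
    refine ⟨k + 1, by omega, ⟨?_⟩⟩
    have : 2 ^ (k + 1) = 2 * q := by rw [hqdef]; ring
    rw [this]
    exact e1.trans e2
  · apply hKd.no_index_two S (2 * q : ℤ) ⟨q, rfl⟩
    exact h.K_fusion S K hK (2 * q : ℤ) ⟨q, rfl⟩ _ (SetLike.coe_mem _) hyK 1 (hf4 1 (by norm_num))

end Cfsg.Agent.S1205
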