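import Cfsg.Statements.S1206
import Cfsg.Agent.Lib.Helper20.QDIndexTwo

set_option autoImplicit false
set_option linter.style.haveILetI false
open Cfsg

namespace Cfsg.Agent.S1206

open Cfsg.Agent.Lib.Helper20

/-- Let G be a finite group with quasi-dihedral Sylow 2-subgroup S, T a Klein four-subgroup and Q a quaternion subgroup of order 8 of S, with |N_G(T) : C_G(T)| = 6 and |N_G(Q) : Q C_G(Q)| = 2. Then G has a normal subgroup K of index 2 whose Sylow 2-subgroups are dihedral and which has no subgroup of index 2, and G has exactly one class of involutions and two classes of elements of order 4. -/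
theorem result {G : Type*} [Group G] [Finite G] (S : Sylow 2 G) (hS : Cfsg.IsQuasiDihedral (S : Subgroup G)) (T : Subgroup G) (hT : IsKleinFour T) (hTS : T ≤ S) (Q : Subgroup G) (hQS : Q ≤ S) (eQ : Q ≃* QuaternionGroup 2) (h₁ : (Subgroup.centralizer (T : Set G)).relIndex (Subgroup.normalizer (T : Set G)) = 6) (h₂ : (Q ⊔ Subgroup.centralizer (Q : Set G)).relIndex (Subgroup.normalizer (Q : Set G)) = 2) : (∃ K : Subgroup G, K.Normal ∧ K.index = 2 ∧ (∀ P : Sylow 2 ↥K, ∃ m : ℕ, Nonempty ((P : Subgroup ↥K) ≃* DihedralGroup m)) ∧ (∀ H : Subgroup ↥K, H.index ≠ 2)) ∧ Nat.card {C : ConjClasses G // ∃ t : G, orderOf t = 2 ∧ ConjClasses.mk t = C} = 1 ∧ Nat.card {C : ConjClasses G // ∃ t : G, orderOf t = 4 ∧ ConjClasses.mk t = C} = 2 := by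
  obtain ⟨k, x, y, h, -⟩ := exists_QD_of_isQuasiDihedral hS
  set q := 2 ^ k with hqdef
  rw [normalizerMonoidHom_relIndex] at h₁
  rw [quatAct_relIndex Q eQ] at h₂
  have hf2 := fun j hj => h.fuse_invol T hTS (by rw [h₁]; norm_num) j hj
  have hnf4 := fun j hj => h.not_fuse_order4 hS Q hQS eQ h₂ j hj
  obtain ⟨K, hKn, hK, hvK⟩ := h.exists_K_of_not_fuse_order4 S hnf4
  haveI := hKn
  have hz : ((x ^ (4 * q : ℤ) : (S : Subgroup G)) : G) ∈ K := by
    have := Subgroup.mul_self_mem_of_index_two hK ((x ^ (2 * q : ℤ) : (S : Subgroup G)) : G)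
    rw [← Subgroup.coe_mul, h.x2q_mul_self] at this
    exact this
  have hKd : KData S h K 0 := h.kdata_of S K hK 0
    (fun j hj => mem_of_isConj_of_index_two hK hz (hf2 j (by omega)).symm)
    ⟨1, by norm_num, hvK⟩
  refine ⟨⟨K, hKn, hK, ?_, ?_⟩, h.card_invol_classes_one S hf2, h.card_order4_classes_two S hnf4⟩
  · intro P
    obtain ⟨e1⟩ := hKd.sylow_equiv S P
    obtain ⟨e2⟩ := h.maxSub_zero_equiv
    exact ⟨4 * q, ⟨e1.trans e2⟩⟩
  · apply hKd.no_index_two S (4 * q : ℤ) ⟨2 * q, by ring⟩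
    exact h.K_fusion S K hK (4 * q : ℤ) ⟨2 * q, by ring⟩ _ (SetLike.coe_mem _) hvK 0
      (hf2 0 (dvd_zero 2))

end Cfsg.Agent.S1206
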