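import Cfsg.Statements.S1207
import Cfsg.Agent.Lib.Helper20.QDIndexTwo
import Cfsg.Agent.Lib.Helper20.TwoComplement

set_option autoImplicit false
set_option linter.style.haveILetI false
open Cfsg

namespace Cfsg.Agent.S1207

open Cfsg.Agent.Lib.Helper20

/-- Let G be a finite group with quasi-dihedral Sylow 2-subgroup S, T a Klein four-subgroup and Q a quaternion subgroup of order 8 of S, with |N_G(T) : C_G(T)| = 2 and |N_G(Q) : Q C_G(Q)| = 2. Then G has a normal 2-complement, exactly two classes of involutions and exactly two classes of elements of order 4. -/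
theorem result {G : Type*} [Group G] [Finite G] (S : Sylow 2 G) (hS : Cfsg.IsQuasiDihedral (S : Subgroup G)) (T : Subgroup G) (hT : IsKleinFour T) (hTS : T ≤ S) (Q : Subgroup G) (hQS : Q ≤ S) (eQ : Q ≃* QuaternionGroup 2) (h₁ : (Subgroup.centralizer (T : Set G)).relIndex (Subgroup.normalizer (T : Set G)) = 2) (h₂ : (Q ⊔ Subgroup.centralizer (Q : Set G)).relIndex (Subgroup.normalizer (Q : Set G)) = 2) : Cfsg.HasNormalPComplement 2 G ∧ Nat.card {C : ConjClasses G // ∃ t : G, orderOf t = 2 ∧ ConjClasses.mk t = C} = 2 ∧ Nat.card {C : ConjClasses G // ∃ t : G, orderOf t = 4 ∧ ConjClasses.mk t = C} = 2 := by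
  obtain ⟨k, x, y, h, -⟩ := exists_QD_of_isQuasiDihedral hS
  set q := 2 ^ k with hqdef
  rw [normalizerMonoidHom_relIndex] at h₁
  rw [quatAct_relIndex Q eQ] at h₂
  have hnf2 := fun j hj => h.not_fuse_invol hS T hTS h₁ j hj
  have hnf4 := fun j hj => h.not_fuse_order4 hS Q hQS eQ h₂ j hj
  refine ⟨?_, h.card_invol_classes_two S hnf2, h.card_order4_classes_two S hnf4⟩
  obtain ⟨K₁, hK₁n, hK₁, hyK₁⟩ := h.exists_K_of_not_fuse_invol S hnf2
  obtain ⟨K₂, hK₂n, hK₂, hvK₂⟩ := h.exists_K_of_not_fuse_order4 S hnf4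
  haveI := hK₁n
  haveI := hK₂n
  have hsq : ∀ g : G, g * g ∈ K₁ ⊓ K₂ := fun g =>
    ⟨Subgroup.mul_self_mem_of_index_two hK₁ g, Subgroup.mul_self_mem_of_index_two hK₂ g⟩
  apply hasNormalPComplement_of_cyclic_inf S (K₁ ⊓ K₂) hsq
  · -- cyclic intersection
    apply isCyclic_of_le_zpowers (x := ((x ^ (1 : ℤ) : (S : Subgroup G)) : G))
    rintro s ⟨hsS, hsK₁, hsK₂⟩
    rcases h.coe_cases hsS with ⟨j, rfl⟩ | ⟨j, rfl⟩
    · rw [Subgroup.mem_zpowers_iff]
      refine ⟨j, ?_⟩
      rw [← Subgroup.coe_zpow, ← zpow_mul, one_mul]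
    · exfalso
      by_cases hj : 2 ∣ j
      · apply hyK₁
        exact mem_of_isConj_of_index_two hK₁ hsK₁ (h.isConj_coe_xy (by omega))
      · apply hvK₂
        exact mem_of_isConj_of_index_two hK₂ hsK₂ (h.isConj_coe_xy (by omega))
  · -- even order
    have hz : ((x ^ (4 * q : ℤ) : (S : Subgroup G)) : G) ∈ K₁ ⊓ K₂ := by
      have := hsq ((x ^ (2 * q : ℤ) : (S : Subgroup G)) : G)
      rw [← Subgroup.coe_mul, h.x2q_mul_self] at this
      exact this
    have ho : orderOf (⟨_, hz⟩ : (K₁ ⊓ K₂ : Subgroup G)) = 2 := by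
      rw [Subgroup.orderOf_mk]; exact h.orderOf_coe_z S
    rw [← ho]
    exact orderOf_dvd_natCard _

end Cfsg.Agent.S1207
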