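import Cfsg.Statements.S1214
import Cfsg.Agent.Lib.Helper20.SimpleNormal
import Cfsg.Agent.Lib.Helper20.S1213QD
import Cfsg.Agent.Lib.Helper20.QDClasses
import Cfsg.Agent.Lib.Helper90.WreathedNoIdx
import Cfsg.Agent.S0219

set_option autoImplicit false
set_option linter.style.haveILetI false
set_option linter.unusedSimpArgs false
set_option linter.unusedSectionVars false
open Cfsg

namespace Cfsg.Agent.S1214

open Cfsg.Agent.Lib.Helper20 Cfsg.Agent.Lib.Helper90

theorem isQuasiDihedral_of_equiv {S S' : Type*} [Group S] [Group S'] (e : S ≃* S')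
    (h : Cfsg.IsQuasiDihedral S) : Cfsg.IsQuasiDihedral S' := by
  obtain ⟨n, hn, hc, x, y, hx, hy, hr⟩ := h
  refine ⟨n, hn, ?_, e x, e y, ?_, ?_, ?_⟩
  · rw [← Nat.card_congr e.toEquiv]; exact hc
  · rw [MulEquiv.orderOf_eq]; exact hx
  · rw [MulEquiv.orderOf_eq]; exact hy
  · rw [← map_inv, ← map_mul, ← map_mul, hr, map_pow]

theorem isWreathed_of_equiv {S S' : Type*} [Group S] [Group S'] (e : S ≃* S')
    (h : Cfsg.IsWreathed S) : Cfsg.IsWreathed S' := by
  obtain ⟨n, hn, hc, x, y, z, hx, hxy, hd, hz, hr⟩ := h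
  refine ⟨n, hn, ?_, e x, e y, e z, ?_, ?_, ?_, ?_, ?_⟩
  · rw [← Nat.card_congr e.toEquiv]; exact hc
  · rw [MulEquiv.orderOf_eq]; exact hx
  · rw [← map_mul, ← map_mul, hxy]
  · rw [eq_bot_iff]
    intro g hg
    obtain ⟨h1, h2⟩ := Subgroup.mem_inf.mp hg
    obtain ⟨i, hi⟩ := Subgroup.mem_zpowers_iff.mp h1
    obtain ⟨j, hj⟩ := Subgroup.mem_zpowers_iff.mp h2
    have e1 : e.symm g = x ^ i := by rw [← hi, map_zpow]; simp
    have e2 : e.symm g = y ^ j := by rw [← hj, map_zpow]; simp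
    have hm : e.symm g ∈ Subgroup.zpowers x ⊓ Subgroup.zpowers y :=
      Subgroup.mem_inf.mpr ⟨Subgroup.mem_zpowers_iff.mpr ⟨i, e1.symm⟩,
        Subgroup.mem_zpowers_iff.mpr ⟨j, e2.symm⟩⟩
    rw [hd, Subgroup.mem_bot] at hm
    rw [Subgroup.mem_bot]
    simpa using hm
  · rw [MulEquiv.orderOf_eq]; exact hz
  · rw [← map_inv, ← map_mul, ← map_mul, hr]

theorem sylow_map_equiv {G : Type*} [Group G] [Finite G] (N : Subgroup G) [N.Normal]
    (hN : (Nat.card N).Coprime 2) (S : Sylow 2 G) :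
    Nonempty ((S : Subgroup G) ≃* ((S : Subgroup G).map (QuotientGroup.mk' N))) := by
  have hinj : Function.Injective ((QuotientGroup.mk' N).subgroupMap (S : Subgroup G)) := by
    rw [injective_iff_map_eq_one]
    intro s hs
    have h1 : (QuotientGroup.mk' N) (s : G) = 1 := by
      have := congrArg Subtype.val hs
      simpa using this
    have h2 : (s : G) ∈ N := by
      rw [← QuotientGroup.ker_mk' N, MonoidHom.mem_ker]; exact h1
    obtain ⟨k, hk⟩ := S.2 s
    have h3 : orderOf (s : G) ∣ 2 ^ k := by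
      rw [Subgroup.orderOf_coe]; exact orderOf_dvd_of_pow_eq_one hk
    have h4 : orderOf (s : G) ∣ Nat.card N := by
      have := orderOf_dvd_natCard (⟨(s : G), h2⟩ : N)
      rwa [Subgroup.orderOf_mk] at this
    have h5 : orderOf (s : G) = 1 := by
      have : (orderOf (s : G)).Coprime (orderOf (s : G)) :=
        Nat.Coprime.coprime_dvd_left h4 (Nat.Coprime.coprime_dvd_right h3 (hN.pow_right k))
      exact (Nat.coprime_self _).mp this
    exact Subtype.ext (orderOf_eq_one_iff.mp h5)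
  exact ⟨MulEquiv.ofBijective _ ⟨hinj, MonoidHom.subgroupMap_surjective _ _⟩⟩

theorem sylow_le_of_cyclic_mod {X : Type*} [Group X] [Finite X]
    (hX : ∀ H : Subgroup X, H.index ≠ 2) (S : Sylow 2 X) (N : Subgroup X) [N.Normal] (x₀ : X)
    (h : ∀ s ∈ (S : Subgroup X), ∃ k : ℤ, x₀ ^ k * s ∈ N) : (S : Subgroup X) ≤ N := by
  haveI : Fact (Nat.Prime 2) := ⟨Nat.prime_two⟩
  have hsurj : Function.Surjective (QuotientGroup.mk' N) := QuotientGroup.mk'_surjective N
  obtain ⟨T, hT⟩ : ∃ T : Sylow 2 (X ⧸ N), T = S.mapSurjective hsurj := ⟨_, rfl⟩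
  have hTc : (T : Subgroup (X ⧸ N)) = (S : Subgroup X).map (QuotientGroup.mk' N) := by
    rw [hT]; rfl
  have hle : (T : Subgroup (X ⧸ N)) ≤ Subgroup.zpowers (QuotientGroup.mk' N x₀) := by
    rw [hTc]
    rintro t ⟨s, hs, rfl⟩
    obtain ⟨k, hk⟩ := h s hs
    rw [Subgroup.mem_zpowers_iff]
    refine ⟨-k, ?_⟩
    have h1 : (QuotientGroup.mk' N) (x₀ ^ k * s) = 1 := by
      rw [← MonoidHom.mem_ker, QuotientGroup.ker_mk']; exact hk
    rw [map_mul, map_zpow] at h1
    rw [zpow_neg]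
    exact inv_eq_of_mul_eq_one_right h1
  have hcyc : IsCyclic (T : Subgroup (X ⧸ N)) := isCyclic_of_le_zpowers hle
  have hodd : ¬ Even (Nat.card (X ⧸ N)) := by
    intro hev
    obtain ⟨H, hH⟩ := Cfsg.Agent.S0219.index_two_of_cyclic_sylow hev T hcyc
    apply hX (H.comap (QuotientGroup.mk' N))
    rw [Subgroup.index_comap_of_surjective _ hsurj]; exact hH
  have hTbot : (T : Subgroup (X ⧸ N)) = ⊥ := by
    rw [← Subgroup.card_eq_one]
    obtain ⟨k, hk⟩ := IsPGroup.iff_card.mp T.2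
    rcases Nat.eq_zero_or_pos k with rfl | hkpos
    · simpa using hk
    · exfalso; apply hodd
      have h2 : 2 ∣ Nat.card (T : Subgroup (X ⧸ N)) := by
        rw [hk]; exact dvd_pow_self 2 hkpos.ne'
      exact even_iff_two_dvd.mpr (h2.trans (Subgroup.card_subgroup_dvd_card _))
  rw [hTc, Subgroup.map_eq_bot_iff, QuotientGroup.ker_mk'] at hTbot
  exact hTbot

theorem qd_case {X : Type*} [Group X] [Finite X] (hO : Cfsg.pPrimeCore 2 X = ⊥) (S : Sylow 2 X)
    (hS : Cfsg.IsQuasiDihedral (S : Subgroup X)) (hX : ∀ H : Subgroup X, H.index ≠ 2) :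
    ∃ L : Subgroup X, L.Normal ∧ Odd L.index ∧ IsSimpleGroup L ∧ ¬ IsMulCommutative L := by
  obtain ⟨k, x, y, h, -⟩ := exists_QD_of_isQuasiDihedral hS
  obtain ⟨q, hq⟩ : ∃ q : ℕ, q = 2 ^ k := ⟨_, rfl⟩
  rw [← hq] at h
  obtain ⟨hf1, -⟩ := S1213QD.fuse_of_no_index_two S h hX
  have hz : ∀ t : X, orderOf t = 2 → IsConj t ((x ^ (4 * q : ℤ) : (S : Subgroup X)) : X) := by
    intro t ht
    rcases h.invol_cases S t ht with hc | hc
    · exact hc
    · exact hc.trans (hf1 0 (dvd_zero 2))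
  apply SimpleNormal.exists_simple_normal hO S
  · intro s t hs ht
    exact (hz s hs).trans (hz t ht).symm
  · rintro N hN ⟨t, htN, ht⟩
    haveI := hN
    have hinv : ∀ s : X, orderOf s = 2 → s ∈ N := by
      intro s hs
      obtain ⟨c, hc⟩ := isConj_iff.mp ((hz t ht).trans (hz s hs).symm)
      rw [← hc]; exact hN.conj_mem t htN c
    have hyN : ((x ^ (0 : ℤ) * y : (S : Subgroup X)) : X) ∈ N :=
      hinv _ (h.orderOf_coe_xy_even S (dvd_zero 2))
    have hyN' : (y : X) ∈ N := by simpa using hyN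
    apply sylow_le_of_cyclic_mod hX S N (x : X)
    intro s hs
    rcases h.cases ⟨s, hs⟩ with ⟨i, hi⟩ | ⟨i, hi⟩
    · refine ⟨-i, ?_⟩
      have e1 : s = (x : X) ^ i := by
        have := congrArg Subtype.val hi
        simpa using this
      rw [e1, ← zpow_add, neg_add_cancel, zpow_zero]
      exact N.one_mem
    · refine ⟨-i, ?_⟩
      have e1 : s = (x : X) ^ i * (y : X) := by
        have := congrArg Subtype.val hi
        simpa using this
      rw [e1, ← mul_assoc, ← zpow_add, neg_add_cancel, zpow_zero, one_mul]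
      exact hyN'
  · refine ⟨(y : X), y.2, (x : X), x.2, ?_⟩
    intro hc
    have hc' : y * x = x * y := Subtype.ext (by simpa using hc)
    have h1 : y * x * y⁻¹ = x := by rw [hc']; group
    rw [h.rel] at h1
    have h2 : x ^ ((4 * q - 1 : ℤ)) = x ^ (1 : ℤ) := by rw [h1, zpow_one]
    rw [h.zpow_eq_iff] at h2
    have hq0 := h.qpos
    have h3 := Int.le_of_dvd (by omega) h2
    omega

theorem wr_case {X : Type*} [Group X] [Finite X] (hO : Cfsg.pPrimeCore 2 X = ⊥) (S : Sylow 2 X)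
    (hS : Cfsg.IsWreathed (S : Subgroup X)) (hX : ∀ H : Subgroup X, H.index ≠ 2) :
    ∃ L : Subgroup X, L.Normal ∧ Odd L.index ∧ IsSimpleGroup L ∧ ¬ IsMulCommutative L := by
  obtain ⟨n, x, y, z, h⟩ := exists_wrData hS
  have hcls := (h.fusion_of_no_index_two hX).2
  have hconj : ∀ s t : X, orderOf s = 2 → orderOf t = 2 → IsConj s t := by
    intro s t hs ht
    haveI : Subsingleton {C : ConjClasses X // ∃ t : X, orderOf t = 2 ∧ ConjClasses.mk t = C} :=
      (Nat.card_eq_one_iff_unique.mp hcls).1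
    have := Subsingleton.elim
      (⟨ConjClasses.mk s, s, hs, rfl⟩ : {C : ConjClasses X // ∃ t : X, orderOf t = 2 ∧ ConjClasses.mk t = C})
      ⟨ConjClasses.mk t, t, ht, rfl⟩
    exact ConjClasses.mk_eq_mk_iff_isConj.mp (congrArg Subtype.val this)
  apply SimpleNormal.exists_simple_normal hO S hconj
  · rintro N hN ⟨t, htN, ht⟩
    haveI := hN
    have hinv : ∀ s : X, orderOf s = 2 → s ∈ N := by
      intro s hs
      obtain ⟨c, hc⟩ := isConj_iff.mp (hconj t s ht hs)
      rw [← hc]; exact hN.conj_mem t htN c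
    have hzN : (z : X) ∈ N := hinv _ (by rw [Subgroup.orderOf_coe]; exact h.oz)
    have hw : orderOf (h.b 1 (-1) * z) = 2 := by
      apply orderOf_eq_prime
      · rw [pow_two, h.b_z_b_z]
        have : h.b (1 + -1) (-1 + 1) = h.b 0 0 := by norm_num
        rw [this, h.b_zero]
      · rw [← h.b_zero]; exact h.b_z_ne_b _ _ _ _
    have hwN : ((h.b 1 (-1) * z : (S : Subgroup X)) : X) ∈ N :=
      hinv _ (by rw [Subgroup.orderOf_coe]; exact hw)
    have hbN : ((h.b 1 (-1) : (S : Subgroup X)) : X) ∈ N := by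
      rw [Subgroup.coe_mul] at hwN
      exact (Subgroup.mul_mem_cancel_right N hzN).mp hwN
    have hbjN : ∀ j : ℤ, ((h.b (-j) j : (S : Subgroup X)) : X) ∈ N := by
      intro j
      have e1 : h.b (-j) j = (h.b 1 (-1)) ^ (-j) := by
        rw [h.b_zpow]; congr 1 <;> ring
      rw [e1, Subgroup.coe_zpow]
      exact N.zpow_mem hbN _
    have hxpow : ∀ m : ℤ, ((x : X)) ^ m = ((h.b m 0 : (S : Subgroup X)) : X) := by
      intro m
      rw [h.b_def, zpow_zero, mul_one, Subgroup.coe_zpow]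
    apply sylow_le_of_cyclic_mod hX S N (x : X)
    intro s hs
    rcases h.cases ⟨s, hs⟩ with ⟨i, j, hi⟩ | ⟨i, j, hi⟩
    · refine ⟨-(i + j), ?_⟩
      have e1 : s = ((h.b i j : (S : Subgroup X)) : X) := congrArg Subtype.val hi
      rw [e1, hxpow, ← Subgroup.coe_mul, h.b_mul]
      have e2 : h.b (-(i + j) + i) (0 + j) = h.b (-j) j := by congr 1 <;> ring
      rw [e2]
      exact hbjN j
    · refine ⟨-(i + j), ?_⟩
      have e1 : s = ((h.b i j * z : (S : Subgroup X)) : X) := congrArg Subtype.val hi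
      rw [e1, hxpow, ← Subgroup.coe_mul, ← mul_assoc, h.b_mul]
      have e2 : h.b (-(i + j) + i) (0 + j) = h.b (-j) j := by congr 1 <;> ring
      rw [e2, Subgroup.coe_mul]
      exact N.mul_mem (hbjN j) hzN
  · refine ⟨(z : X), z.2, (x : X), x.2, ?_⟩
    intro hc
    have hc' : z * x = x * z := Subtype.ext (by simpa using hc)
    rw [h.zx] at hc'
    exact h.x_ne_y (mul_right_cancel hc').symm

/-- Let G be a finite group with quasi-dihedral or wreathed Sylow 2-subgroups and no subgroup of index 2. Then G/O(G), the quotient by the largest normal subgroup of odd order, has a normal subgroup of odd index which is a non-abelian simple group. -/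
theorem result {G : Type*} [Group G] [Finite G] (S : Sylow 2 G) (hS : Cfsg.IsQuasiDihedral (S : Subgroup G) ∨ Cfsg.IsWreathed (S : Subgroup G)) (hG : ∀ H : Subgroup G, H.index ≠ 2) : ∃ L : Subgroup (G ⧸ Cfsg.oddCore G), L.Normal ∧ Odd L.index ∧ IsSimpleGroup L ∧ ¬ IsMulCommutative L := by
  haveI : Fact (Nat.Prime 2) := ⟨Nat.prime_two⟩
  have hO : Cfsg.pPrimeCore 2 (G ⧸ Cfsg.oddCore G) = ⊥ :=
    Cfsg.Agent.Lib.Helper55.pPrimeCore_quotient_eq_bot 2
  have hsurj : Function.Surjective (QuotientGroup.mk' (Cfsg.oddCore G)) :=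
    QuotientGroup.mk'_surjective _
  obtain ⟨T, hT⟩ : ∃ T : Sylow 2 (G ⧸ Cfsg.oddCore G), T = S.mapSurjective hsurj := ⟨_, rfl⟩
  have hTc : (T : Subgroup (G ⧸ Cfsg.oddCore G)) =
      (S : Subgroup G).map (QuotientGroup.mk' (Cfsg.oddCore G)) := by rw [hT]; rfl
  obtain ⟨e⟩ := sylow_map_equiv (Cfsg.oddCore G)
    (Cfsg.Agent.Lib.Helper55.pPrimeCore_card_coprime 2) S
  rw [← hTc] at e
  have hX : ∀ H : Subgroup (G ⧸ Cfsg.oddCore G), H.index ≠ 2 := by
    intro H hH
    apply hG (H.comap (QuotientGroup.mk' (Cfsg.oddCore G)))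
    rw [Subgroup.index_comap_of_surjective _ hsurj]; exact hH
  rcases hS with hS | hS
  · exact qd_case hO T (isQuasiDihedral_of_equiv e hS) hX
  · exact wr_case hO T (isWreathed_of_equiv e hS) hX

end Cfsg.Agent.S1214
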