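import Cfsg.Statements.S1215
import Cfsg.Agent.S0215
import Cfsg.Agent.Lib.Helper96.ZStarElt
import Cfsg.Agent.Lib.Helper17.NormCent

set_option autoImplicit false
open Cfsg

namespace Cfsg.Agent.S1215

open Subgroup

/-- An element `x` of the centre of a Sylow `2`-subgroup `S` whose cyclic group is normalized by `g`
is centralized by `g`. -/
theorem conj_eq_of_normalizes {H : Type*} [Group H] [Finite H] (S : Sylow 2 H) (x : H)
    (hxS : x ∈ (S : Subgroup H))
    (hxc : ∀ s ∈ (S : Subgroup H), s * x = x * s) (g : H)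
    (hg : g ∈ normalizer ((zpowers x : Subgroup H) : Set H)) : g * x * g⁻¹ = x := by
  classical
  haveI : Fact (Nat.Prime 2) := ⟨Nat.prime_two⟩
  set K : Subgroup H := zpowers x with hK
  -- S ≤ C(K)
  have hSC : (S : Subgroup H) ≤ centralizer (K : Set H) := by
    rw [le_centralizer_iff, hK, zpowers_le]
    intro s hs
    exact hxc s hs
  have hCN : centralizer (K : Set H) ≤ normalizer (K : Set H) := centralizer_le_normalizer _
  -- the index |N : C| is odd
  have hodd : ¬ 2 ∣ (centralizer (K : Set H)).relIndex (normalizer (K : Set H)) := by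
    intro h2
    have h1 : (centralizer (K : Set H)).relIndex (normalizer (K : Set H)) ∣
        (S : Subgroup H).index := by
      have e1 := relIndex_mul_relIndex (S : Subgroup H) (centralizer (K : Set H))
        (normalizer (K : Set H)) hSC hCN
      have e2 := relIndex_mul_index (hSC.trans hCN)
      rw [← e2, ← e1]
      exact Dvd.dvd.mul_right (Dvd.intro_left _ rfl) _
    exact S.not_dvd_index (h2.trans h1)
  -- the index |N : C| is a power of two
  have hpow : ∃ k : ℕ, (centralizer (K : Set H)).relIndex (normalizer (K : Set H)) ∣ 2 ^ k := by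
    have hd := Cfsg.Agent.Lib.Helper17.relIndex_centralizer_normalizer_dvd K
    have hcyc : IsCyclic K := by rw [hK]; infer_instance
    rw [IsCyclic.card_mulAut] at hd
    have hKS : K ≤ (S : Subgroup H) := by rw [hK, zpowers_le]; exact hxS
    have hKp : IsPGroup 2 K := S.2.to_le hKS
    obtain ⟨n, hn⟩ := hKp.exists_card_eq
    rw [hn] at hd
    refine ⟨n, hd.trans ?_⟩
    cases n with
    | zero => simp
    | succ m =>
      rw [Nat.totient_prime_pow_succ Nat.prime_two]
      simp [pow_succ]
  obtain ⟨k, hk⟩ := hpow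
  have h1 : (centralizer (K : Set H)).relIndex (normalizer (K : Set H)) = 1 := by
    obtain ⟨j, -, hj⟩ := (Nat.dvd_prime_pow Nat.prime_two).1 hk
    cases j with
    | zero => simpa using hj
    | succ i => exact absurd (hj ▸ Dvd.intro_left _ rfl) hodd
  have hNC : normalizer (K : Set H) ≤ centralizer (K : Set H) := relIndex_eq_one.1 h1
  have hgC := hNC hg
  rw [mem_centralizer_iff] at hgC
  have := hgC x (by rw [hK]; exact mem_zpowers x)
  rw [← this]; group

universe u

/-- Glauberman's `Z*`-theorem, in the form used by the `Helper96` library. -/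
theorem zStarHyp : Cfsg.Agent.Lib.Helper96.ZStarDep.ZStarHyp.{u} :=
  fun P u hu huP hiso => Cfsg.Agent.S0215.result P u hu huP hiso

/-- Let H be a finite group with quasi-dihedral or wreathed Sylow 2-subgroup S such that H has a normal subgroup K of index a power of 2 with no subgroup of index 2 and with generalized quaternion Sylow 2-subgroups, and such that every subgroup of Z(S) is weakly closed in S with respect to H. Then H = O(H) C_H(Z(S)): every element of H is the product of an element of the largest normal odd-order subgroup and an element centralizing Z(S). -/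
theorem result {H : Type*} [Group H] [Finite H] (S : Sylow 2 H) (hS : Cfsg.IsQuasiDihedral (S : Subgroup H) ∨ Cfsg.IsWreathed (S : Subgroup H)) (hQ : (∃ K : Subgroup H, K.Normal ∧ (∃ a : ℕ, K.index = 2 ^ a) ∧ (∀ M : Subgroup ↥K, M.index ≠ 2) ∧ (∀ P : Sylow 2 ↥K, ∃ m : ℕ, 1 ≤ m ∧ Nonempty ((P : Subgroup ↥K) ≃* QuaternionGroup (2 ^ m)))) ∧ (∀ Z₀ : Subgroup H, Z₀ ≤ ((Subgroup.center (S : Subgroup H)).map (S : Subgroup H).subtype) → Cfsg.IsWeaklyClosed Z₀ (S : Subgroup H))) (h : H) : ∃ o ∈ Cfsg.oddCore H, ∃ c ∈ Subgroup.centralizer (((Subgroup.center (S : Subgroup H)).map (S : Subgroup H).subtype : Subgroup H) : Set H), h = o * c := by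
  classical
  set Z : Subgroup H := (Subgroup.center (S : Subgroup H)).map (S : Subgroup H).subtype with hZdef
  have hZS : Z ≤ (S : Subgroup H) := by
    rw [hZdef]; exact map_subtype_le _
  have hZc : ∀ x ∈ Z, ∀ s ∈ (S : Subgroup H), s * x = x * s := by
    intro x hx s hs
    rw [hZdef, mem_map] at hx
    obtain ⟨y, hy, rfl⟩ := hx
    have := (mem_center_iff.1 hy) ⟨s, hs⟩
    exact congrArg Subtype.val this
  -- every element of `Z` has no other conjugate in `S`
  have hwc : ∀ x ∈ Z, ∀ g : H, g * x * g⁻¹ ∈ (S : Subgroup H) → g * x * g⁻¹ = x := by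
    intro x hx g hg
    have hle : zpowers x ≤ Z := by rw [zpowers_le]; exact hx
    obtain ⟨-, hw⟩ := hQ.2 (zpowers x) hle
    have hmap : (zpowers x).map (MulAut.conj g).toMonoidHom = zpowers (g * x * g⁻¹) := by
      rw [MonoidHom.map_zpowers]; rfl
    have h1 := hw g (by rw [hmap, zpowers_le]; exact hg)
    apply conj_eq_of_normalizes S x (hZS hx) (hZc x hx) g
    rw [mem_normalizer_iff]
    intro n
    constructor
    · intro hn
      rw [← h1]
      exact ⟨n, hn, rfl⟩
    · intro hn
      rw [← h1] at hn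
      obtain ⟨m, hm, hmn⟩ := hn
      have : m = n := by
        have : g * m * g⁻¹ = g * n * g⁻¹ := hmn
        simpa using this
      exact this ▸ hm
  -- Z* for elements
  have hcomm : ∀ x ∈ Z, ∀ g : H, x * g * x⁻¹ * g⁻¹ ∈ Cfsg.oddCore H := fun x hx =>
    Cfsg.Agent.Lib.Helper96.ZStarElt.zstar_elt_sylow zStarHyp S x (hZS hx) (hwc x hx)
  have hDn : (Cfsg.oddCore H).Normal := Cfsg.pPrimeCore_normal 2 H
  have hDodd : Odd (Nat.card (Cfsg.oddCore H)) :=
    Nat.coprime_two_right.mp (Cfsg.Agent.Lib.Helper55.pPrimeCore_card_coprime (G := H) 2)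
  have hZp : IsPGroup 2 Z := S.2.to_le hZS
  obtain ⟨d, hd, hfix⟩ := Cfsg.Agent.Lib.Helper96.ZStarElt.exists_fixed_in_left_coset Z
    (Cfsg.oddCore H) hZp hDodd h (by
      intro z hz d hd
      have h1 : z * h * z⁻¹ * h⁻¹ ∈ Cfsg.oddCore H := hcomm z hz h
      have h2 : h⁻¹ * (z * h * z⁻¹ * h⁻¹) * h⁻¹⁻¹ ∈ Cfsg.oddCore H := hDn.conj_mem _ h1 h⁻¹
      have h3 : z * d * z⁻¹ ∈ Cfsg.oddCore H := hDn.conj_mem _ hd z
      have h4 := (Cfsg.oddCore H).mul_mem h2 h3
      have e : h⁻¹ * (z * h * z⁻¹ * h⁻¹) * h⁻¹⁻¹ * (z * d * z⁻¹) = h⁻¹ * (z * (h * d) * z⁻¹) := by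
        group
      rwa [e] at h4)
  refine ⟨h * d⁻¹ * h⁻¹, hDn.conj_mem _ ((Cfsg.oddCore H).inv_mem hd) h, h * d, ?_, by group⟩
  rw [mem_centralizer_iff]
  intro z hz
  have := hfix z hz
  calc z * (h * d) = (z * (h * d) * z⁻¹) * z := by group
    _ = h * d * z := by rw [this]

end Cfsg.Agent.S1215
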