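import Cfsg.Statements.S1218
import Cfsg.Agent.Lib.Helper20.GU2Sylow
-- import your own Cfsg.Agent.* helpers here

set_option autoImplicit false
set_option linter.style.haveILetI false
set_option linter.unusedSimpArgs false
open scoped MatrixGroups
open Cfsg
open Cfsg.Agent.Lib.Helper20

namespace Cfsg.Agent.S1218

/-- Let F be a finite field with q² elements, q odd, let GU be the subgroup of GL(2,F) preserving the Hermitian form u₁v₁^q + u₂v₂^q, and P a Sylow 2-subgroup of GU. If q ≡ 1 (mod 4) then P is quasi-dihedral; if q ≡ 3 (mod 4) then P is wreathed. -/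
theorem result {F : Type*} [Field F] [Fintype F] (q : ℕ) (hF : Fintype.card F = q ^ 2) (hq : Odd q) (P : Sylow 2 ↥(Cfsg.preserving (Units.coeHom (Matrix (Fin 2) (Fin 2) F)) (Cfsg.hermForm 2 F q))) : (q % 4 = 1 → Cfsg.IsQuasiDihedral (P : Subgroup ↥(Cfsg.preserving (Units.coeHom (Matrix (Fin 2) (Fin 2) F)) (Cfsg.hermForm 2 F q)))) ∧ (q % 4 = 3 → Cfsg.IsWreathed (P : Subgroup ↥(Cfsg.preserving (Units.coeHom (Matrix (Fin 2) (Fin 2) F)) (Cfsg.hermForm 2 F q)))) := by
  classical
  have hq2 := Cfsg.Agent.Lib.Helper5.two_le_of_card hF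
  have hcardG : Nat.card ↥(Cfsg.preserving (Units.coeHom (Matrix (Fin 2) (Fin 2) F)) (Cfsg.hermForm 2 F q)) = q * (q + 1) ^ 2 * (q - 1) := card_GU_two hF
  have hcardU : Nat.card Fˣ = (q - 1) * (q + 1) := Cfsg.Agent.Lib.Helper5.card_units_eq hF
  constructor
  · intro h1
    obtain ⟨k, m, hm, hkm⟩ := Nat.exists_eq_two_pow_mul_odd (n := q - 1) (by omega)
    obtain ⟨s, rfl⟩ := hm
    obtain ⟨r, hr⟩ : ∃ r, q = 4 * r + 1 := ⟨q / 4, by omega⟩
    have hk : 2 ≤ k := by
      by_contra hlt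
      have : k = 0 ∨ k = 1 := by omega
      rcases this with rfl | rfl <;> omega
    have hqp1 : q + 1 = 2 * (2 * r + 1) := by omega
    have hqk : q = 2 ^ (k + 1) * s + 2 ^ k + 1 := by
      have : q - 1 = 2 ^ (k + 1) * s + 2 ^ k := by rw [hkm]; ring
      omega
    have hcardP : Nat.card P = 2 ^ (k + 1 + 1) := by
      apply sylow_two_card_of_eq P (k + 1 + 1)
        (q * (2 * r + 1) ^ 2 * (2 * s + 1))
      · apply Odd.mul
        · apply Odd.mul hq
          apply Odd.pow
          exact ⟨r, rfl⟩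
        · exact ⟨s, rfl⟩
      · rw [hcardG, hqp1, hkm]
        ring
    obtain ⟨x, y, hxm, hym, hx, hy, hrel⟩ := gu2_qd_elements hF hq k s hk hqk
    exact isQuasiDihedral_sylow_of_elements_subgroup (Cfsg.GU 2 F q) P (k + 1) (by omega) hcardP
      x y hxm hym hx hy (by simpa using hrel)
  · intro h3
    obtain ⟨n, m, hm, hnm⟩ := Nat.exists_eq_two_pow_mul_odd (n := q + 1) (by omega)
    obtain ⟨s, rfl⟩ := hm
    obtain ⟨r, hr⟩ : ∃ r, q = 4 * r + 3 := ⟨q / 4, by omega⟩
    have hn : 2 ≤ n := by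
      by_contra hlt
      have : n = 0 ∨ n = 1 := by omega
      rcases this with rfl | rfl <;> omega
    have hqm1 : q - 1 = 2 * (2 * r + 1) := by omega
    have hcardP : Nat.card P = 2 ^ (2 * n + 1) := by
      apply sylow_two_card_of_eq P (2 * n + 1)
        (q * (2 * s + 1) ^ 2 * (2 * r + 1))
      · apply Odd.mul
        · apply Odd.mul hq
          apply Odd.pow
          exact ⟨s, rfl⟩
        · exact ⟨r, rfl⟩
      · rw [hcardG, hqm1, hnm]
        ring
    obtain ⟨a, ha⟩ := exists_orderOf_eq_of_dvd_card (G := Fˣ) (2 ^ n)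
      (by rw [hcardU, hnm]; exact ⟨(q - 1) * (2 * s + 1), by ring⟩)
    have ha1 : a ^ (q + 1) = 1 := by
      rw [hnm, pow_mul, ← ha, pow_orderOf_eq_one, one_pow]
    have haF : (a : F) * (a : F) ^ q = 1 := by
      rw [← pow_succ', ← Units.val_pow_eq_pow_val, ha1]
      rfl
    have hxm : diagGL (Pi.mulSingle (0 : Fin 2) a) ∈ Cfsg.GU 2 F q := by
      apply diagGL_mem_GU
      intro i
      fin_cases i
      · simpa using haF
      · simp
    have hym : diagGL (Pi.mulSingle (1 : Fin 2) a) ∈ Cfsg.GU 2 F q := by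
      apply diagGL_mem_GU
      intro i
      fin_cases i
      · simp
      · simpa using haF
    obtain ⟨e1, e2, e3, e4⟩ := gl2_wreathed_elements (F := F) a
    exact isWreathed_sylow_of_elements_subgroup (Cfsg.GU 2 F q) P n hn hcardP _ _ _ hxm hym
      swapGL_mem_GU (e1.trans ha) e2 e3 orderOf_swapGL e4

end Cfsg.Agent.S1218
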