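import Cfsg.Statements.S1219
import Cfsg.Agent.Lib.Helper20.PSL3Main

set_option autoImplicit false
set_option linter.style.haveILetI false
set_option linter.unusedSimpArgs false
set_option linter.unusedSectionVars false
open Cfsg

namespace Cfsg.Agent.S1219

open Cfsg.Agent.Lib.Helper20 Cfsg.Agent.Lib.Helper20.PSL3Invol Matrix

theorem two_ne_zero_of_odd {F : Type*} [Field F] [Fintype F] (hF : Odd (Fintype.card F)) :
    (2 : F) ≠ 0 := by
  intro h
  have h1 : ringChar F = 2 :=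
    CharP.ringChar_of_prime_eq_zero Nat.prime_two (by exact_mod_cast h)
  have h2 := FiniteField.even_card_of_char_two h1
  rcases hF with ⟨k, hk⟩
  omega

/-- lift an involution of `PSL(3,F)` to an involution of `SL(3,F)` -/
theorem exists_lift {F : Type*} [Field F] (t : ProjectiveSpecialLinearGroup (Fin 3) F)
    (ht : orderOf t = 2) :
    ∃ A : SpecialLinearGroup (Fin 3) F, (QuotientGroup.mk A : ProjectiveSpecialLinearGroup (Fin 3) F) = t
      ∧ A * A = 1 ∧ A ≠ 1 := by
  have ht2 : t * t = 1 := by rw [← pow_two, ← ht]; exact pow_orderOf_eq_one t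
  have ht1 : t ≠ 1 := by
    rintro rfl
    rw [orderOf_one] at ht
    omega
  obtain ⟨A₀, rfl⟩ := QuotientGroup.mk_surjective t
  rw [← QuotientGroup.mk_mul, QuotientGroup.eq_one_iff] at ht2
  obtain ⟨r, hr, hrs⟩ := Matrix.SpecialLinearGroup.mem_center_iff.mp ht2
  have hr3 : r ^ 3 = 1 := by simpa using hr
  obtain ⟨c, hc⟩ : ∃ c : SpecialLinearGroup (Fin 3) F, c.1 = Matrix.scalar (Fin 3) r := by
    refine ⟨⟨Matrix.scalar (Fin 3) r, ?_⟩, rfl⟩
    rw [Matrix.scalar_apply, Matrix.det_diagonal, Fin.prod_univ_three]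
    rw [← hr3]; ring
  have hcc : c ∈ Subgroup.center (SpecialLinearGroup (Fin 3) F) :=
    Matrix.SpecialLinearGroup.mem_center_iff.mpr ⟨r, hr, hc.symm⟩
  refine ⟨c * A₀, ?_, ?_, ?_⟩
  · rw [QuotientGroup.mk_mul, (QuotientGroup.eq_one_iff c).mpr hcc, one_mul]
  · have hcomm : A₀ * c = c * A₀ := (Subgroup.mem_center_iff.mp hcc A₀)
    have h1 : c * A₀ * (c * A₀) = c * c * (A₀ * A₀) := by
      rw [mul_assoc, ← mul_assoc A₀ c A₀, hcomm]; group
    rw [h1]
    apply Subtype.ext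
    show c.1 * c.1 * (A₀ * A₀).1 = 1
    rw [← hrs, hc, ← map_mul, ← map_mul, ← pow_two, ← pow_succ, hr3, map_one]
  · intro h
    apply ht1
    have : A₀ = c⁻¹ := eq_inv_of_mul_eq_one_right h
    rw [this, QuotientGroup.eq_one_iff]
    exact Subgroup.inv_mem _ hcc

/-- Let F be a finite field of odd order q and t an involution of PSL(3,F). Then C(t) is isomorphic to the quotient of GL(2,F) by a central subgroup of order gcd(q−1, 3). -/
theorem result {F : Type*} [Field F] [Fintype F] (hF : Odd (Fintype.card F)) (t : Matrix.ProjectiveSpecialLinearGroup (Fin 3) F) (ht : orderOf t = 2) : ∃ (Z : Subgroup (GL (Fin 2) F)) (_ : Z.Normal), Z ≤ Subgroup.center (GL (Fin 2) F) ∧ Nat.card Z = Nat.gcd (Fintype.card F - 1) 3 ∧ Nonempty (↥(Subgroup.centralizer ({t} : Set (Matrix.ProjectiveSpecialLinearGroup (Fin 3) F))) ≃* GL (Fin 2) F ⧸ Z) := by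
  have h2 := two_ne_zero_of_odd hF
  obtain ⟨A, hAt, hA2, hA1⟩ := exists_lift t ht
  obtain ⟨P, hP, hAP⟩ := exists_diag h2 A.1 (congrArg Subtype.val hA2) A.2
    (fun h => hA1 (Subtype.ext h))
  obtain ⟨Pm, hPm⟩ : ∃ Pm : SpecialLinearGroup (Fin 3) F, Pm.1 = P := ⟨⟨P, hP⟩, rfl⟩
  have hconj : A = Pm * D0 * Pm⁻¹ := by
    have h1 : A * Pm = Pm * D0 := by
      apply Subtype.ext
      show A.1 * Pm.1 = Pm.1 * d0
      rw [hPm]; exact hAP
    rw [← h1]; group
  have htc : t = (QuotientGroup.mk Pm : ProjectiveSpecialLinearGroup (Fin 3) F) * t0 *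
      (QuotientGroup.mk Pm : ProjectiveSpecialLinearGroup (Fin 3) F)⁻¹ := by
    rw [← hAt, hconj, t0]
    rfl
  refine ⟨(phi : GL (Fin 2) F →* ProjectiveSpecialLinearGroup (Fin 3) F).ker, inferInstance,
    ker_phi_le_center, card_ker_phi, ⟨?_⟩⟩
  rw [htc]
  exact ((centConj _ t0).symm.trans (MulEquiv.subgroupCongr (range_phi h2).symm)).trans
    (QuotientGroup.quotientKerEquivRange phi).symm

end Cfsg.Agent.S1219
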