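import Cfsg.Statements.S1226
import Cfsg.Agent.Lib.Helper97.ElemAbTI

set_option autoImplicit false
open Cfsg

namespace Cfsg.Agent.S1226

theorem ne_bot_of_not_isCyclic {G : Type*} [Group G] (K : Subgroup G) (h : ¬ IsCyclic K) : K ≠ ⊥ := by
  intro hb
  apply h
  have hmem : ∀ x : G, x ∈ K → x = 1 := by
    intro x hx
    rw [hb, Subgroup.mem_bot] at hx
    exact hx
  have : Subsingleton K := ⟨fun a b => Subtype.ext (by
    rw [hmem a.1 a.2, hmem b.1 b.2])⟩
  exact isCyclic_of_subsingleton

/-- Let G be a finite group with a Sylow 2-subgroup T that is neither cyclic nor normal, such that the centralizer of every involution is an elementary abelian 2-group. Then N_G(T) is a strongly embedded subgroup of G. -/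
theorem result {G : Type*} [Group G] [Finite G] (T : Sylow 2 G) (hnc : ¬ IsCyclic (T : Subgroup G)) (hnn : ¬ (T : Subgroup G).Normal) (hC : ∀ t : G, orderOf t = 2 → IsMulCommutative (Subgroup.centralizer ({t} : Set G)) ∧ ∀ c ∈ Subgroup.centralizer ({t} : Set G), c ^ 2 = 1) : Cfsg.IsStronglyEmbedded (Subgroup.normalizer ((T : Subgroup G) : Set G)) :=
  Cfsg.Agent.Lib.Helper97.normalizer_stronglyEmbedded T hC (ne_bot_of_not_isCyclic _ hnc) hnn

end Cfsg.Agent.S1226
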