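import Cfsg.Statements.S1227
import Cfsg.Agent.S1226

set_option autoImplicit false
open Cfsg

namespace Cfsg.Agent.S1227

open Cfsg.Agent.Lib.Helper97

section

variable {G : Type*} [Group G] [Finite G] (T : Sylow 2 G)
  (hC : ∀ t : G, orderOf t = 2 → IsMulCommutative (Subgroup.centralizer ({t} : Set G)) ∧
    ∀ c ∈ Subgroup.centralizer ({t} : Set G), c ^ 2 = 1)

local notation "N" => Subgroup.normalizer ((T : Subgroup G) : Set G)

include hC in
theorem D_inf_T (hne : (T : Subgroup G) ≠ ⊥) (hSE : IsStronglyEmbedded N) {u : G} (huH : u ∉ N)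
    {x : G} (hxD : x ∈ N ⊓ (N).map (MulAut.conj u).toMonoidHom) (hxT : x ∈ (T : Subgroup G)) :
    x = 1 := by
  have hodd := hSE.2.2 u huH
  have h1 : orderOf x ∣ Nat.card ↥(N ⊓ (N).map (MulAut.conj u).toMonoidHom) :=
    Subgroup.orderOf_dvd_natCard _ hxD
  have h2 : orderOf x ∣ 2 := by
    apply orderOf_dvd_of_pow_eq_one
    rw [pow_two]; exact sq_eq_one_of_mem T hC hne hxT
  have h3 : orderOf x ∣ 1 := by
    have hcop : Nat.Coprime (Nat.card ↥(N ⊓ (N).map (MulAut.conj u).toMonoidHom)) 2 :=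
      Nat.Coprime.symm (Nat.coprime_two_left.mpr hodd)
    have := Nat.dvd_gcd h1 h2
    rwa [hcop] at this
  exact orderOf_eq_one_iff.mp (Nat.dvd_one.mp h3)

include hC in
theorem conj_mem_T (hne : (T : Subgroup G) ≠ ⊥) {h t₀ : G} (hh : h ∈ N) (ht₀ : t₀ ∈ (T : Subgroup G))
    (ht₀1 : t₀ ≠ 1) :
    h * t₀ * h⁻¹ ∈ (T : Subgroup G) ∧ orderOf (h * t₀ * h⁻¹) = 2 ∧ h * t₀ * h⁻¹ ∈ N := by
  have h1 : h * t₀ * h⁻¹ ∈ (T : Subgroup G) := (Subgroup.mem_normalizer_iff.mp hh t₀).mp ht₀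
  exact ⟨h1, orderOf_conj_two (orderOf_eq_two_of_mem T hC hne ht₀ ht₀1) h, Subgroup.le_normalizer h1⟩

include hC in
/-- uniqueness: elements of `D` are determined by their action on `t₀`. -/
theorem D_unique (hne : (T : Subgroup G) ≠ ⊥) (hSE : IsStronglyEmbedded N) {u : G} (huH : u ∉ N)
    {t₀ : G} (ht₀ : t₀ ∈ (T : Subgroup G)) (ht₀1 : t₀ ≠ 1) {d d' : G}
    (hd : d ∈ N ⊓ (N).map (MulAut.conj u).toMonoidHom)
    (hd' : d' ∈ N ⊓ (N).map (MulAut.conj u).toMonoidHom)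
    (h : d * t₀ * d⁻¹ = d' * t₀ * d'⁻¹) : d = d' := by
  have ht2 := orderOf_eq_two_of_mem T hC hne ht₀ ht₀1
  have hcent := centralizer_eq_sylow T hC hne ht₀ ht2
  have hmem : d'⁻¹ * d ∈ (T : Subgroup G) := by
    rw [← hcent, Subgroup.mem_centralizer_singleton_iff]
    calc d'⁻¹ * d * t₀ = d'⁻¹ * (d * t₀ * d⁻¹) * d := by group
      _ = d'⁻¹ * (d' * t₀ * d'⁻¹) * d := by rw [h]
      _ = t₀ * (d'⁻¹ * d) := by group
  have hD : d'⁻¹ * d ∈ N ⊓ (N).map (MulAut.conj u).toMonoidHom :=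
    Subgroup.mul_mem _ (Subgroup.inv_mem _ hd') hd
  have := D_inf_T T hC hne hSE huH hD hmem
  calc d = d' * (d'⁻¹ * d) := by group
    _ = d' := by rw [this, mul_one]

end

/-- Let G be a finite group with a Sylow 2-subgroup T that is neither cyclic nor normal, such that the centralizer of every involution is an elementary abelian 2-group; put H = N_G(T), let u be an involution outside H and D = H ∩ uHu⁻¹. Then u inverts every element of D, |H| = |T|·(|T| − 1), and D is a complement to T in H. -/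
theorem result {G : Type*} [Group G] [Finite G] (T : Sylow 2 G) (hnc : ¬ IsCyclic (T : Subgroup G)) (hnn : ¬ (T : Subgroup G).Normal) (hC : ∀ t : G, orderOf t = 2 → IsMulCommutative (Subgroup.centralizer ({t} : Set G)) ∧ ∀ c ∈ Subgroup.centralizer ({t} : Set G), c ^ 2 = 1) (u : G) (hu : orderOf u = 2) (huH : u ∉ Subgroup.normalizer ((T : Subgroup G) : Set G)) : (∀ d ∈ Subgroup.normalizer ((T : Subgroup G) : Set G) ⊓ (Subgroup.normalizer ((T : Subgroup G) : Set G)).map (MulAut.conj u).toMonoidHom, u * d * u⁻¹ = d⁻¹) ∧ Nat.card (Subgroup.normalizer ((T : Subgroup G) : Set G)) = Nat.card T * (Nat.card T - 1) ∧ Subgroup.IsComplement' ((Subgroup.normalizer ((T : Subgroup G) : Set G) ⊓ (Subgroup.normalizer ((T : Subgroup G) : Set G)).map (MulAut.conj u).toMonoidHom).subgroupOf (Subgroup.normalizer ((T : Subgroup G) : Set G))) ((T : Subgroup G).subgroupOf (Subgroup.normalizer ((T : Subgroup G) : Set G))) := by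
  have hne : (T : Subgroup G) ≠ ⊥ := Cfsg.Agent.S1226.ne_bot_of_not_isCyclic _ hnc
  have hSE := normalizer_stronglyEmbedded T hC hne hnn
  set Nn := Subgroup.normalizer ((T : Subgroup G) : Set G) with hNn
  set D := Nn ⊓ Nn.map (MulAut.conj u).toMonoidHom with hD
  have hTN : (T : Subgroup G) ≤ Nn := Subgroup.le_normalizer
  obtain ⟨t₀, ht₀1⟩ := (Subgroup.ne_bot_iff_exists_ne_one).mp hne
  have ht₀T : (t₀ : G) ∈ (T : Subgroup G) := t₀.2
  have ht₀ne : (t₀ : G) ≠ 1 := fun h => ht₀1 (Subtype.ext h)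
  have ht₀2 := orderOf_eq_two_of_mem T hC hne ht₀T ht₀ne
  have hcent := centralizer_eq_sylow T hC hne ht₀T ht₀2
  have hui := invol_inv hu
  -- every conjugate of t₀ under N is reached by an element of D inverted by u
  have key : ∀ h ∈ Nn, ∃ d ∈ D, d * t₀ * d⁻¹ = h * t₀ * h⁻¹ ∧ orderOf (u * d) = 2 := by
    intro h hh
    obtain ⟨h1, h2, h3⟩ := conj_mem_T T hC hne hh ht₀T ht₀ne
    exact exists_conj_in_D hSE hu huH ht₀2 (hTN ht₀T) h2 h3
  have hDN : D ≤ Nn := inf_le_left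
  -- (a)
  have hinv : ∀ d ∈ D, u * d * u⁻¹ = d⁻¹ := by
    intro d hd
    obtain ⟨d', hd', hdd', hud'⟩ := key d (hDN hd)
    have : d' = d := D_unique T hC hne hSE huH ht₀T ht₀ne hd' hd hdd'
    rw [this] at hud'
    have h1 := invol_sq hud'
    rw [hui]
    calc u * d * u = (u * d * (u * d)) * d⁻¹ := by group
      _ = d⁻¹ := by rw [h1, one_mul]
  -- decomposition
  have hdecomp : ∀ h ∈ Nn, ∃ d ∈ D, ∃ t ∈ (T : Subgroup G), h = d * t := by
    intro h hh
    obtain ⟨d, hd, hdh, -⟩ := key h hh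
    refine ⟨d, hd, d⁻¹ * h, ?_, by group⟩
    rw [← hcent, Subgroup.mem_centralizer_singleton_iff]
    calc d⁻¹ * h * t₀ = d⁻¹ * (h * t₀ * h⁻¹) * h := by group
      _ = d⁻¹ * (d * t₀ * d⁻¹) * h := by rw [hdh]
      _ = t₀ * (d⁻¹ * h) := by group
  -- (c)
  have hcompl : Subgroup.IsComplement' (D.subgroupOf Nn) ((T : Subgroup G).subgroupOf Nn) := by
    apply Subgroup.isComplement'_of_disjoint_and_mul_eq_univ
    · rw [disjoint_iff, eq_bot_iff]
      intro x hx
      rw [Subgroup.mem_bot]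
      apply Subtype.ext
      exact D_inf_T T hC hne hSE huH (Subgroup.mem_subgroupOf.mp hx.1) (Subgroup.mem_subgroupOf.mp hx.2)
    · rw [Set.eq_univ_iff_forall]
      intro h
      obtain ⟨d, hd, t, ht, hdt⟩ := hdecomp h.1 h.2
      refine ⟨⟨d, hDN hd⟩, Subgroup.mem_subgroupOf.mpr hd, ⟨t, hTN ht⟩, Subgroup.mem_subgroupOf.mpr ht, ?_⟩
      apply Subtype.ext
      simp [hdt]
  refine ⟨hinv, ?_, hcompl⟩
  -- (b)
  have hcard := hcompl.card_mul_card
  have hcD : Nat.card (D.subgroupOf Nn) = Nat.card D := by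
    exact Nat.card_congr (Subgroup.subgroupOfEquivOfLe hDN).toEquiv
  have hcT : Nat.card ((T : Subgroup G).subgroupOf Nn) = Nat.card (T : Subgroup G) := by
    exact Nat.card_congr (Subgroup.subgroupOfEquivOfLe hTN).toEquiv
  -- |D| = |T| - 1
  have hDcard : Nat.card D = Nat.card (T : Subgroup G) - 1 := by
    have hfin : (((T : Subgroup G) : Set G) \ {1}).ncard = Nat.card (T : Subgroup G) - 1 := by
      rw [Set.ncard_sdiff_singleton_of_mem (Subgroup.one_mem _)]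
      rfl
    rw [← hfin, ← Nat.card_coe_set_eq]
    apply Nat.card_congr
    refine Equiv.ofBijective (fun d => ⟨d.1 * t₀ * d.1⁻¹, ?_⟩) ⟨?_, ?_⟩
    · obtain ⟨h1, h2, -⟩ := conj_mem_T T hC hne (hDN d.2) ht₀T ht₀ne
      exact ⟨h1, fun h => invol_ne_one h2 (by simpa using h)⟩
    · intro d d' h
      apply Subtype.ext
      have h' : d.1 * t₀ * d.1⁻¹ = d'.1 * t₀ * d'.1⁻¹ := congrArg Subtype.val h
      exact D_unique T hC hne hSE huH ht₀T ht₀ne d.2 d'.2 h'
    · rintro ⟨t, htT, ht1⟩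
      have ht1' : t ≠ 1 := by simpa using ht1
      have ht2 := orderOf_eq_two_of_mem T hC hne htT ht1'
      obtain ⟨d, hd, hdt, -⟩ := exists_conj_in_D hSE hu huH ht₀2 (hTN ht₀T) ht2 (hTN htT)
      exact ⟨⟨d, hd⟩, Subtype.ext hdt⟩
  rw [hcD, hcT, hDcard] at hcard
  rw [← hcard, mul_comm]

end Cfsg.Agent.S1227
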