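import Cfsg.Statements.S1231
import Cfsg.Agent.Lib.Helper21.Rank

set_option autoImplicit false
open Cfsg

namespace Cfsg.Agent.S1231

open Cfsg.Agent.Lib.Helper21 in
/-- Let H be a subgroup of the finite group G, p a prime, k ≥ 1, and P a Sylow p-subgroup of H whose p-rank is at least k. Then N_G(X) ≤ H for every subgroup X of P of p-rank at least k if and only if H ∩ gHg⁻¹ has p-rank less than k for every g ∉ H. -/
theorem result {G : Type*} [Group G] [Finite G] {p : ℕ} [Fact p.Prime] (k : ℕ) (hk : 1 ≤ k) (H : Subgroup G) (P : Sylow p ↥H) (hP : ¬ Cfsg.PRankLE p (k - 1) ↥(P : Subgroup ↥H)) : (∀ X : Subgroup G, X ≤ (P : Subgroup ↥H).map H.subtype → ¬ Cfsg.PRankLE p (k - 1) ↥X → Subgroup.normalizer (X : Set G) ≤ H) ↔ (∀ g : G, g ∉ H → Cfsg.PRankLE p (k - 1) ↥(H ⊓ H.map (MulAut.conj g).toMonoidHom)) := by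
  set r := k - 1 with hr
  set P₀ : Subgroup G := (P : Subgroup ↥H).map H.subtype with hP₀
  have hP₀H : P₀ ≤ H := Subgroup.map_subtype_le _
  have hP₀p : IsPGroup p P₀ := P.2.map _
  have hP₀r : ¬ Cfsg.PRankLE p r ↥P₀ := by
    intro h
    apply hP
    have e : ↥(P : Subgroup ↥H) ≃* ↥P₀ :=
      (P : Subgroup ↥H).equivMapOfInjective H.subtype H.subtype_injective
    exact pRankLE_of_injective p r e.toMonoidHom e.injective h
  constructor
  · intro hN g hg
    by_contra hD
    set D : Subgroup G := H ⊓ H.map (MulAut.conj g).toMonoidHom with hDdef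
    rw [not_pRankLE_iff] at hD
    obtain ⟨A, hAD, hAp, hAr⟩ := hD.isPGroup_witness
    obtain ⟨Q, hAQ, hQmax⟩ := Finite.exists_le_maximal
      (p := fun Q : Subgroup G => IsPGroup p Q ∧ Q ≤ D ∧ A ≤ Q) (a := A) ⟨hAp, hAD, le_rfl⟩
    obtain ⟨⟨hQp, hQD, -⟩, hmax⟩ := hQmax
    have hQr : RankGT p r Q := hAr.mono hAQ
    have hQH : Q ≤ H := hQD.trans inf_le_left
    -- step a
    obtain ⟨h₁, hh₁, hc₁⟩ := exists_conj_le_sylow_of_le P hQp hQH
    have hX₁ : Q.map (MulAut.conj h₁).toMonoidHom ≤ P₀ := by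
      rintro _ ⟨x, hx, rfl⟩
      exact hc₁ x hx
    have hN₁ := hN _ hX₁ ((not_pRankLE_iff _ _ _).2 (hQr.conj h₁))
    have hNQ : Subgroup.normalizer (Q : Set G) ≤ H := by
      intro n hn
      have : h₁ * n * h₁⁻¹ ∈ Subgroup.normalizer ((Q.map (MulAut.conj h₁).toMonoidHom : Subgroup G) : Set G) := by
        rw [Subgroup.mem_normalizer_iff]
        intro y
        rw [mem_map_conj_iff, mem_map_conj_iff]
        rw [Subgroup.mem_normalizer_iff] at hn
        rw [hn (h₁⁻¹ * y * h₁)]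
        have : h₁⁻¹ * (h₁ * n * h₁⁻¹ * y * (h₁ * n * h₁⁻¹)⁻¹) * h₁ = n * (h₁⁻¹ * y * h₁) * n⁻¹ := by
          group
        rw [this]
      have h2 := hN₁ this
      have : n = h₁⁻¹ * (h₁ * n * h₁⁻¹) * h₁ := by group
      rw [this]
      exact H.mul_mem (H.mul_mem (H.inv_mem hh₁) h2) hh₁
    -- step b
    have hQ₂H : Q.map (MulAut.conj g⁻¹).toMonoidHom ≤ H := by
      rintro _ ⟨x, hx, rfl⟩
      have := (Subgroup.mem_inf.1 (hQD hx)).2
      rw [mem_map_conj_iff] at this
      simpa using this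
    obtain ⟨h₂, hh₂, hc₂⟩ := exists_conj_le_sylow_of_le P (hQp.map _) hQ₂H
    set t := g * h₂⁻¹ with ht
    set P' : Subgroup G := P₀.map (MulAut.conj t).toMonoidHom with hP'
    have hP'p : IsPGroup p P' := hP₀p.map _
    have hQP' : Q ≤ P' := by
      intro x hx
      rw [hP', mem_map_conj_iff]
      have := hc₂ (g⁻¹ * x * g) ⟨x, hx, by simp⟩
      convert this using 1
      rw [ht]; group
    have hP'g : P' ≤ H.map (MulAut.conj g).toMonoidHom := by
      intro y hy
      rw [hP', mem_map_conj_iff] at hy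
      rw [mem_map_conj_iff]
      have h3 := hP₀H hy
      have : g⁻¹ * y * g = h₂⁻¹ * (t⁻¹ * y * t) * h₂ := by rw [ht]; group
      rw [this]
      exact H.mul_mem (H.mul_mem (H.inv_mem hh₂) h3) hh₂
    rcases lt_or_eq_of_le hQP' with hlt | heq
    · obtain ⟨n, hnP', hnN, hnQ⟩ := exists_normalizer_not_mem hP'p hlt
      have hnD : n ∈ D := Subgroup.mem_inf.2 ⟨hNQ hnN, hP'g hnP'⟩
      have hQ' : IsPGroup p ↥(Q ⊔ Subgroup.zpowers n) ∧ Q ⊔ Subgroup.zpowers n ≤ D ∧
          A ≤ Q ⊔ Subgroup.zpowers n := by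
        refine ⟨hP'p.to_le (sup_le hQP' (Subgroup.zpowers_le.2 hnP')),
          sup_le hQD (Subgroup.zpowers_le.2 hnD), hAQ.trans le_sup_left⟩
      have := hmax hQ' le_sup_left
      exact hnQ (this (Subgroup.mem_sup_right (Subgroup.mem_zpowers n)))
    · apply hg
      have hn : h₁ * t ∈ Subgroup.normalizer (P₀ : Set G) := by
        apply mem_normalizer_of_conj_le
        intro x hx
        have h4 : t * x * t⁻¹ ∈ Q := by
          rw [heq, hP', mem_map_conj_iff]
          convert hx using 1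
          group
        have := hc₁ _ h4
        convert this using 1
        group
      have h5 := hN P₀ le_rfl hP₀r hn
      have : g = h₁⁻¹ * (h₁ * t) * h₂ := by rw [ht]; group
      rw [this]
      exact H.mul_mem (H.mul_mem (H.inv_mem hh₁) h5) hh₂
  · intro hD X hXP hXr g hg
    by_contra hgH
    have h1 := hD g hgH
    rw [not_pRankLE_iff] at hXr
    have h2 : X ≤ H ⊓ H.map (MulAut.conj g).toMonoidHom := by
      intro x hx
      refine Subgroup.mem_inf.2 ⟨hP₀H (hXP hx), ?_⟩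
      rw [mem_map_conj_iff]
      have hg' : g⁻¹ ∈ Subgroup.normalizer (X : Set G) := Subgroup.inv_mem _ hg
      rw [Subgroup.mem_normalizer_iff] at hg'
      have := (hg' x).1 hx
      simp only [inv_inv] at this
      exact hP₀H (hXP this)
    exact (not_pRankLE_iff _ _ _).2 (hXr.mono h2) h1

end Cfsg.Agent.S1231
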