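import Cfsg.Statements.S1236
import Cfsg.Agent.Lib.Helper21.FourGroupCent

set_option autoImplicit false
open Cfsg

namespace Cfsg.Agent.S1236

open Cfsg.Agent.Lib.Helper21 Subgroup in
/-- Let R be a finite group, t a central involution of R such that R ⧸ ⟨t⟩ is dihedral (of order ≥ 4) or quasi-dihedral, and A ≤ R an elementary abelian subgroup of order 8 containing t. Then C_R(A) = A. -/
theorem result {R : Type*} [Group R] [Finite R] (t : R) (ht : orderOf t = 2) (htz : t ∈ Subgroup.center R) [(Subgroup.zpowers t).Normal] (hq : (∃ m : ℕ, 2 ≤ m ∧ Nonempty (R ⧸ Subgroup.zpowers t ≃* DihedralGroup m)) ∨ Cfsg.IsQuasiDihedral (R ⧸ Subgroup.zpowers t)) (A : Subgroup R) (hA : Cfsg.IsElementaryAbelian 2 A) (hA8 : Nat.card A = 8) (htA : t ∈ A) : Subgroup.centralizer (A : Set R) = A := by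
  classical
  have hkey : ∀ V : Subgroup (R ⧸ Subgroup.zpowers t), Nat.card V = 4 → (∀ v ∈ V, v ^ 2 = 1) →
      centralizer (V : Set (R ⧸ Subgroup.zpowers t)) ≤ V := by
    rcases hq with ⟨m, hm, ⟨e⟩⟩ | hqd
    · intro V hV4 hV2
      have h := dihedral_centralizer_four_le hm (V.map e.toMonoidHom)
        (by rw [← hV4]
            exact Nat.card_congr (Subgroup.equivMapOfInjective V e.toMonoidHom e.injective).symm.toEquiv)
        (by rintro _ ⟨v, hv, rfl⟩
            show e v ^ 2 = 1
            rw [← map_pow, hV2 v hv, map_one])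
      intro x hx
      have hex : e x ∈ centralizer ((V.map e.toMonoidHom : Subgroup (DihedralGroup m)) :
          Set (DihedralGroup m)) := by
        rw [mem_centralizer_iff]
        rintro _ ⟨v, hv, rfl⟩
        have h1 := (mem_centralizer_iff.1 hx) v hv
        show e v * e x = e x * e v
        rw [← map_mul, ← map_mul, h1]
      obtain ⟨v, hv, hve⟩ := h hex
      have h2 : v = x := e.injective hve
      rwa [← h2]
    · intro V hV4 hV2
      exact quasiDihedral_centralizer_four_le hqd V hV4 hV2
  have htA' : Subgroup.zpowers t ≤ A := (Subgroup.zpowers_le).2 htA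
  -- the image of `A`
  let f : ↥A →* R ⧸ Subgroup.zpowers t := (QuotientGroup.mk' (Subgroup.zpowers t)).comp A.subtype
  have hrange : f.range = A.map (QuotientGroup.mk' (Subgroup.zpowers t)) := by
    rw [MonoidHom.range_comp, Subgroup.range_subtype]
  have hker : f.ker = (Subgroup.zpowers t).subgroupOf A := by
    ext a
    rw [MonoidHom.mem_ker, Subgroup.mem_subgroupOf]
    show (QuotientGroup.mk' (Subgroup.zpowers t)) (a : R) = 1 ↔ _
    rw [QuotientGroup.mk'_apply, QuotientGroup.eq_one_iff]
  have hcardker : Nat.card f.ker = 2 := by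
    rw [hker, Nat.card_congr (Subgroup.subgroupOfEquivOfLe htA').toEquiv, Nat.card_zpowers, ht]
  have hcardimg : Nat.card (A.map (QuotientGroup.mk' (Subgroup.zpowers t))) = 4 := by
    have h1 := Subgroup.card_mul_index f.ker
    rw [Subgroup.index_ker, hcardker, hrange, hA8] at h1
    omega
  have hexp : ∀ v ∈ A.map (QuotientGroup.mk' (Subgroup.zpowers t)), v ^ 2 = 1 := by
    rintro _ ⟨a, ha, rfl⟩
    rw [← map_pow, hA.2 a ha, map_one]
  have hcent := hkey _ hcardimg hexp
  apply le_antisymm
  · intro x hx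
    have hx' : (QuotientGroup.mk' (Subgroup.zpowers t)) x ∈
        centralizer ((A.map (QuotientGroup.mk' (Subgroup.zpowers t)) : Subgroup _) : Set _) := by
      rw [mem_centralizer_iff]
      rintro _ ⟨a, ha, rfl⟩
      have h1 := (mem_centralizer_iff.1 hx) a ha
      rw [← map_mul, ← map_mul, h1]
    obtain ⟨a, ha, hax⟩ := hcent hx'
    rw [QuotientGroup.mk'_apply, QuotientGroup.mk'_apply, QuotientGroup.eq] at hax
    have h2 : a⁻¹ * x ∈ A := htA' hax
    have h3 : x = a * (a⁻¹ * x) := by group
    rw [h3]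
    exact mul_mem ha h2
  · intro a ha
    rw [mem_centralizer_iff]
    intro b hb
    have := hA.1.is_comm.comm ⟨b, hb⟩ ⟨a, ha⟩
    exact congrArg Subtype.val this

end Cfsg.Agent.S1236
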