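import Cfsg.Statements.S1242
import Cfsg.Agent.Lib.Helper21.TransferPow

set_option autoImplicit false
open Cfsg
open scoped IsMulCommutative

namespace Cfsg.Agent.S1242

theorem order_split {G : Type*} [Group G] [Finite G] (p : ℕ) [hp : Fact p.Prime] (x : G) :
    ∃ a m : ℕ, Nat.Coprime m p ∧ orderOf (x ^ m) = p ^ a ∧ orderOf (x ^ (p ^ a)) = m := by
  have hn : orderOf x ≠ 0 := (orderOf_pos x).ne'
  obtain ⟨a, m, hm, hnm⟩ := Nat.exists_eq_pow_mul_and_not_dvd hn p hp.out.ne_one
  have hm0 : m ≠ 0 := by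
    rintro rfl; simp at hm
  have hpa0 : p ^ a ≠ 0 := pow_ne_zero _ hp.out.ne_zero
  refine ⟨a, m, ((Nat.Prime.coprime_iff_not_dvd hp.out).2 hm).symm, ?_, ?_⟩
  · rw [orderOf_pow_of_dvd hm0 (Dvd.intro_left _ hnm.symm), hnm]
    exact Nat.mul_div_cancel _ (Nat.pos_of_ne_zero hm0)
  · rw [orderOf_pow_of_dvd hpa0 (Dvd.intro _ hnm.symm), hnm]
    exact Nat.mul_div_cancel_left _ (Nat.pos_of_ne_zero hpa0)

/-- Let G be a finite group, p a prime and H a subgroup of index prime to p such that any two elements of H of p-power order that are conjugate in G are conjugate in H. Then (O^p(G)·G') ∩ H = O^p(H)·H', where O^p denotes the subgroup generated by the elements of order prime to p. -/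
theorem result {G : Type*} [Group G] [Finite G] {p : ℕ} [Fact p.Prime] (H : Subgroup G) (hidx : Nat.Coprime p H.index) (hfus : ∀ g ∈ H, (∃ k : ℕ, orderOf g = p ^ k) → ∀ a : G, a * g * a⁻¹ ∈ H → ∃ h ∈ H, h * g * h⁻¹ = a * g * a⁻¹) : (Cfsg.pResidual p G ⊔ commutator G) ⊓ H = (Cfsg.pResidual p ↥H ⊔ commutator ↥H).map H.subtype := by
  have hp : p.Prime := Fact.out
  set R : Subgroup ↥H := Cfsg.pResidual p ↥H ⊔ commutator ↥H with hR
  have hRn : R.Normal := Subgroup.Normal.of_commutator_le _ le_sup_right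
  have hcomm : IsMulCommutative (↥H ⧸ R) :=
    Subgroup.Normal.quotient_commutative_iff_commutator_le.2 le_sup_right
  let ϕ : ↥H →* ↥H ⧸ R := QuotientGroup.mk' R
  -- p'-elements of H are killed by ϕ
  have hϕ' : ∀ h : ↥H, Nat.Coprime (orderOf h) p → ϕ h = 1 := by
    intro h hh
    rw [QuotientGroup.mk'_apply, QuotientGroup.eq_one_iff]
    exact (le_sup_left : Cfsg.pResidual p ↥H ≤ R) (Subgroup.subset_closure hh)
  apply le_antisymm
  · rintro x ⟨hx1, hxH⟩
    have hxH : x ∈ H := hxH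
    refine ⟨⟨x, hxH⟩, ?_, rfl⟩
    rw [SetLike.mem_coe, ← QuotientGroup.eq_one_iff]
    change ϕ ⟨x, hxH⟩ = 1
    obtain ⟨a, m, hm, ho1, ho2⟩ := order_split p (⟨x, hxH⟩ : ↥H)
    -- ϕ x ^ (p^a) = 1
    have h1 : ϕ ⟨x, hxH⟩ ^ (p ^ a) = 1 := by
      rw [← map_pow]
      apply hϕ'
      rw [ho2]; exact hm
    -- the transfer
    let V : G →* ↥H ⧸ R := MonoidHom.transfer ϕ
    -- every element of the quotient has p-power order
    have hAp : ∀ q : ↥H ⧸ R, ∃ k : ℕ, q ^ (p ^ k) = 1 := by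
      intro q
      obtain ⟨h, rfl⟩ := QuotientGroup.mk'_surjective R q
      obtain ⟨a', m', hm', ho1', ho2'⟩ := order_split p h
      refine ⟨a', ?_⟩
      rw [← map_pow]
      apply hϕ'
      rw [ho2']; exact hm'
    -- V kills pResidual p G ⊔ commutator G
    have hV : Cfsg.pResidual p G ⊔ commutator G ≤ V.ker := by
      apply sup_le
      · unfold Cfsg.pResidual
        rw [Subgroup.closure_le]
        intro y hy
        have hy : Nat.Coprime (orderOf y) p := hy
        rw [SetLike.mem_coe, MonoidHom.mem_ker]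
        obtain ⟨k, hk⟩ := hAp (V y)
        have d1 : orderOf (V y) ∣ p ^ k := orderOf_dvd_of_pow_eq_one hk
        have d2 : orderOf (V y) ∣ orderOf y := orderOf_map_dvd V y
        have : orderOf (V y) = 1 :=
          Nat.eq_one_of_dvd_coprimes (Nat.Coprime.pow_right k hy) d2 d1
        rwa [orderOf_eq_one_iff] at this
      · exact Abelianization.commutator_subset_ker V
    have hVx : V x = 1 := MonoidHom.mem_ker.1 (hV hx1)
    -- the p-part g = x ^ m
    have hgH : x ^ m ∈ H := H.pow_mem hxH m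
    have hgo : orderOf (x ^ m) = p ^ a := by
      have := ho1
      rw [← Subgroup.orderOf_coe] at this
      simpa using this
    have key : ∀ (k : ℕ) (g₀ : G) (hk : g₀⁻¹ * (x ^ m) ^ k * g₀ ∈ H),
        ϕ ⟨g₀⁻¹ * (x ^ m) ^ k * g₀, hk⟩ = ϕ ⟨x ^ m, hgH⟩ ^ k := by
      intro k g₀ hk
      have hgk : (x ^ m) ^ k ∈ H := H.pow_mem hgH k
      have hgko : ∃ j : ℕ, orderOf ((x ^ m) ^ k) = p ^ j := by
        have : orderOf ((x ^ m) ^ k) ∣ p ^ a := by
          rw [← hgo]; exact orderOf_pow_dvd k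
        obtain ⟨j, -, hj⟩ := (Nat.dvd_prime_pow hp).1 this
        exact ⟨j, hj⟩
      obtain ⟨h, hh, hconj⟩ := hfus _ hgk hgko g₀⁻¹ (by simpa using hk)
      simp only [inv_inv] at hconj
      have e1 : (⟨g₀⁻¹ * (x ^ m) ^ k * g₀, hk⟩ : ↥H) = ⟨h, hh⟩ * ⟨x ^ m, hgH⟩ ^ k * ⟨h, hh⟩⁻¹ := by
        apply Subtype.ext
        simp only [Subgroup.coe_mul, SubmonoidClass.coe_pow, Subgroup.coe_inv]
        exact hconj.symm
      rw [e1, map_mul, map_mul, map_inv, map_pow]
      rw [mul_comm, ← mul_assoc, inv_mul_cancel, one_mul]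
    have htr := Cfsg.Agent.Lib.Helper21.transfer_eq_pow_of_key ϕ (x ^ m) hgH key
    have h2 : ϕ ⟨x, hxH⟩ ^ (m * H.index) = 1 := by
      have : (MonoidHom.transfer ϕ) (x ^ m) = 1 := by
        change V (x ^ m) = 1
        rw [map_pow, hVx, one_pow]
      rw [this] at htr
      rw [pow_mul]
      have e2 : (⟨x ^ m, hgH⟩ : ↥H) = ⟨x, hxH⟩ ^ m := by
        apply Subtype.ext; simp
      rw [e2, map_pow] at htr
      exact htr.symm
    have d1 : orderOf (ϕ ⟨x, hxH⟩) ∣ p ^ a := orderOf_dvd_of_pow_eq_one h1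
    have d2 : orderOf (ϕ ⟨x, hxH⟩) ∣ m * H.index := orderOf_dvd_of_pow_eq_one h2
    have hcop : Nat.Coprime (p ^ a) (m * H.index) :=
      Nat.Coprime.pow_left a (Nat.Coprime.mul_right hm.symm hidx)
    have : orderOf (ϕ ⟨x, hxH⟩) = 1 := Nat.eq_one_of_dvd_coprimes hcop d1 d2
    rwa [orderOf_eq_one_iff] at this
  · rw [Subgroup.map_le_iff_le_comap]
    apply sup_le
    · unfold Cfsg.pResidual
      rw [Subgroup.closure_le]
      intro h hh
      have hh : Nat.Coprime (orderOf h) p := hh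
      refine Subgroup.mem_inf.2 ⟨?_, h.2⟩
      apply (le_sup_left : Cfsg.pResidual p G ≤ _)
      apply Subgroup.subset_closure
      change Nat.Coprime (orderOf (h : G)) p
      rwa [Subgroup.orderOf_coe]
    · intro h hh
      refine Subgroup.mem_inf.2 ⟨?_, h.2⟩
      apply (le_sup_right : commutator G ≤ _)
      have : H.subtype h ∈ (commutator ↥H).map H.subtype := ⟨h, hh, rfl⟩
      rw [commutator_def, Subgroup.map_commutator] at this
      exact Subgroup.commutator_mono le_top le_top this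

end Cfsg.Agent.S1242
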