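import Cfsg.Statements.S1243
import Cfsg.Agent.Lib.Helper21.SylowExtra

set_option autoImplicit false
open Cfsg

namespace Cfsg.Agent.S1243

/-- Let T be a Sylow p-subgroup of the finite group G and W ≤ T a subgroup weakly closed in T. If d and g d g⁻¹ both centralize W, then g d g⁻¹ = h d h⁻¹ for some h ∈ N_G(W). -/
theorem result {G : Type*} [Group G] [Finite G] {p : ℕ} [Fact p.Prime] (T : Sylow p G) (W : Subgroup G) (hW : Cfsg.IsWeaklyClosed W (T : Subgroup G)) (d g : G) (hd : d ∈ Subgroup.centralizer (W : Set G)) (hgd : g * d * g⁻¹ ∈ Subgroup.centralizer (W : Set G)) : ∃ h ∈ Subgroup.normalizer (W : Set G), h * d * h⁻¹ = g * d * g⁻¹ := by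
  obtain ⟨hWT, hwc⟩ := hW
  set e := g * d * g⁻¹ with he
  let Wg : Subgroup G := W.map (MulAut.conj g).toMonoidHom
  have hWp : IsPGroup p W := T.2.to_le hWT
  have hWgp : IsPGroup p Wg := hWp.map _
  have h1 : W ≤ Subgroup.centralizer {e} := by
    intro w hw
    rw [Subgroup.mem_centralizer_singleton_iff]
    rw [Subgroup.mem_centralizer_iff] at hgd
    exact hgd w hw
  have h2 : Wg ≤ Subgroup.centralizer {e} := by
    rintro _ ⟨w, hw, rfl⟩
    rw [Subgroup.mem_centralizer_singleton_iff]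
    rw [Subgroup.mem_centralizer_iff] at hd
    have := hd w hw
    simp only [MulEquiv.coe_toMonoidHom, MulAut.conj_apply, he]
    calc g * w * g⁻¹ * (g * d * g⁻¹) = g * (w * d) * g⁻¹ := by group
      _ = g * (d * w) * g⁻¹ := by rw [this]
      _ = g * d * g⁻¹ * (g * w * g⁻¹) := by group
  obtain ⟨c, hc, P, hP, -, hWP, hcP⟩ :=
    Cfsg.Agent.Lib.Helper21.exists_conj_le_pgroup (Subgroup.centralizer {e}) W Wg h1 h2 hWp hWgp
  obtain ⟨S, hS⟩ := hP.exists_le_sylow
  obtain ⟨y, hy⟩ := MulAction.exists_smul_eq G T S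
  have hS' : ∀ x : G, x ∈ (S : Subgroup G) ↔ y⁻¹ * x * y ∈ (T : Subgroup G) := by
    intro x
    rw [← hy, Sylow.coe_subgroup_smul, Subgroup.mem_pointwise_smul_iff_inv_smul_mem]
    simp [MulAut.smul_def]
  -- W conjugated by y⁻¹ lies in T
  have k1 : W.map (MulAut.conj y⁻¹).toMonoidHom = W := by
    apply hwc
    rintro _ ⟨w, hw, rfl⟩
    have := (hS' w).1 (hS (hWP hw))
    simpa using this
  have k2 : W.map (MulAut.conj (y⁻¹ * (c * g))).toMonoidHom = W := by
    apply hwc
    rintro _ ⟨w, hw, rfl⟩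
    have hw' : g * w * g⁻¹ ∈ Wg := ⟨w, hw, by simp⟩
    have := (hS' _).1 (hS (hcP _ hw'))
    simp only [MulEquiv.coe_toMonoidHom, MulAut.conj_apply]
    convert this using 1
    group
  have k3 : W.map (MulAut.conj (c * g)).toMonoidHom = W := by
    have e1 : (MulAut.conj (y⁻¹ * (c * g))).toMonoidHom =
        (MulAut.conj y⁻¹).toMonoidHom.comp (MulAut.conj (c * g)).toMonoidHom := by
      ext x; simp [mul_assoc]
    rw [e1, ← Subgroup.map_map] at k2
    have inj : Function.Injective (Subgroup.map (MulAut.conj y⁻¹).toMonoidHom) :=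
      Subgroup.map_injective (MulAut.conj y⁻¹).injective
    apply inj
    rw [k2, k1]
  refine ⟨c * g, ?_, ?_⟩
  · rw [Subgroup.mem_normalizer_iff]
    intro w
    constructor
    · intro hw
      rw [← k3]
      exact ⟨w, hw, by simp [mul_assoc]⟩
    · intro hw
      have : (MulAut.conj (c * g)) w ∈ W.map (MulAut.conj (c * g)).toMonoidHom := by
        rw [k3]; simpa [mul_assoc] using hw
      obtain ⟨w', hw', h⟩ := this
      have : w' = w := (MulAut.conj (c * g)).injective h
      rwa [← this]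
  · rw [Subgroup.mem_centralizer_singleton_iff] at hc
    calc c * g * d * (c * g)⁻¹ = c * (g * d * g⁻¹) * c⁻¹ := by group
      _ = c * e * c⁻¹ := by rw [he]
      _ = e * c * c⁻¹ := by rw [hc]
      _ = e := by group

end Cfsg.Agent.S1243
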