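import Cfsg.Statements.S1244
import Cfsg.Agent.Lib.Helper78.TransferParity2
import Mathlib.Data.Nat.Factorization.Basic

set_option autoImplicit false
open Cfsg

namespace Cfsg.Agent.S1244

open Cfsg.Agent.Lib.Helper33 Cfsg.Agent.Lib.Helper78

/-- a proper normal subgroup containing `O^2(G)` yields a subgroup of index 2 -/
theorem exists_index_two {G : Type*} [Group G] [Finite G] (N : Subgroup G) [N.Normal]
    (hres : Cfsg.pResidual 2 G ≤ N) (hN : N ≠ ⊤) : ∃ H : Subgroup G, H.index = 2 := by
  classical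
  have hp2 : Fact (Nat.Prime 2) := ⟨Nat.prime_two⟩
  have hpg : IsPGroup 2 (G ⧸ N) := by
    intro a
    induction a using QuotientGroup.induction_on with
    | H g =>
    obtain ⟨k, m, hm, hkm⟩ := Nat.exists_eq_two_pow_mul_odd (orderOf_pos g).ne'
    refine ⟨k, ?_⟩
    rw [← QuotientGroup.mk_pow, QuotientGroup.eq_one_iff]
    apply hres
    apply Subgroup.subset_closure
    change Nat.Coprime (orderOf (g ^ 2 ^ k)) 2
    have hdvd : 2 ^ k ∣ orderOf g := ⟨m, hkm⟩
    rw [orderOf_pow_of_dvd (by positivity) hdvd, hkm, Nat.mul_div_cancel_left _ (by positivity)]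
    exact Nat.coprime_two_right.mpr hm
  obtain ⟨n, hn⟩ := IsPGroup.iff_card.mp hpg
  have hnt : Nat.card (G ⧸ N) ≠ 1 := by
    intro h
    apply hN
    exact Subgroup.index_eq_one.mp h
  have hn1 : n ≠ 0 := by
    rintro rfl
    rw [pow_zero] at hn
    exact hnt hn
  obtain ⟨m, rfl⟩ : ∃ m, n = m + 1 := ⟨n - 1, by omega⟩
  obtain ⟨K, hK⟩ := Sylow.exists_subgroup_card_pow_prime 2 (n := m)
    (show 2 ^ m ∣ Nat.card (G ⧸ N) by rw [hn]; exact pow_dvd_pow 2 (Nat.le_succ m))
  refine ⟨K.comap (QuotientGroup.mk' N), ?_⟩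
  rw [Subgroup.index_comap_of_surjective _ (QuotientGroup.mk'_surjective N)]
  have := K.card_mul_index
  rw [hK, hn, pow_succ] at this
  exact Nat.eq_of_mul_eq_mul_left (by positivity) this

/-- Let G be a finite group with no subgroup of index 2 whose Sylow 2-subgroup S is commutative, and let R ≤ S be a subgroup whose 2-rank is exactly one less than the 2-rank r of S. Then every involution of S is conjugate, by an element of N_G(S), to an element of R. -/
theorem result {G : Type*} [Group G] [Finite G] (hG : ∀ H : Subgroup G, H.index ≠ 2) (S : Sylow 2 G) (hS : IsMulCommutative (S : Subgroup G)) (r : ℕ) (hr1 : 1 ≤ r) (hSr : Cfsg.PRankLE 2 r (S : Subgroup G) ∧ ¬ Cfsg.PRankLE 2 (r - 1) (S : Subgroup G)) (R : Subgroup G) (hRS : R ≤ S) (hRr : Cfsg.PRankLE 2 (r - 1) R ∧ (r = 1 ∨ ¬ Cfsg.PRankLE 2 (r - 2) R)) (t : G) (ht : orderOf t = 2) (htS : t ∈ S) : ∃ n ∈ Subgroup.normalizer ((S : Subgroup G) : Set G), n * t * n⁻¹ ∈ R := by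
  classical
  have hp2 : Fact (Nat.Prime 2) := ⟨Nat.prime_two⟩
  by_contra hcon
  push Not at hcon
  have ht2 : t ^ 2 = 1 := by rw [← ht]; exact pow_orderOf_eq_one t
  have hcommS : ∀ a ∈ (S : Subgroup G), ∀ b ∈ (S : Subgroup G), a * b = b * a := by
    intro a ha b hb
    have := hS.is_comm.comm ⟨a, ha⟩ ⟨b, hb⟩
    exact congrArg Subtype.val this
  let E : Subgroup G :=
    { carrier := {x | x ∈ (S : Subgroup G) ∧ x ^ 2 = 1}
      one_mem' := ⟨one_mem _, one_pow 2⟩
      mul_mem' := by
        rintro a b ⟨ha, ha2⟩ ⟨hb, hb2⟩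
        refine ⟨mul_mem ha hb, ?_⟩
        have hc := hcommS a ha b hb
        calc (a * b) ^ 2 = a * (b * a) * b := by rw [sq]; group
          _ = a * (a * b) * b := by rw [hc]
          _ = a ^ 2 * b ^ 2 := by rw [sq, sq]; group
          _ = 1 := by rw [ha2, hb2, one_mul]
      inv_mem' := by
        rintro a ⟨ha, ha2⟩
        exact ⟨inv_mem ha, by rw [inv_pow, ha2, inv_one]⟩ }
  have hES : E ≤ S := fun x hx => hx.1
  have htE : t ∈ E := ⟨htS, ht2⟩
  -- card E ≤ 2^r
  have hEcard : Nat.card E ≤ 2 ^ r := by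
    have h := hSr.1 (E.subgroupOf S) ?_ ?_
    · rwa [Nat.card_congr (Subgroup.subgroupOfEquivOfLe hES).toEquiv] at h
    · refine ⟨⟨?_⟩⟩
      rintro ⟨⟨a, ha⟩, ha'⟩ ⟨⟨b, hb⟩, hb'⟩
      apply Subtype.ext; apply Subtype.ext
      exact hcommS a ha b hb
    · rintro ⟨a, ha⟩ ha'
      apply Subtype.ext
      have : a ∈ E := Subgroup.mem_subgroupOf.mp ha'
      simpa using this.2
  -- ER
  set ER : Subgroup G := R ⊓ E with hER
  have hERE : ER ≤ E := inf_le_right
  have hERcard : 2 ^ (r - 1) ≤ Nat.card ER := by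
    have hERp : IsPGroup 2 ER := S.isPGroup'.to_le (hERE.trans hES)
    obtain ⟨k, hk⟩ := IsPGroup.iff_card.mp hERp
    rcases hRr.2 with h1 | h2
    · rw [h1]
      exact Nat.card_pos
    · unfold Cfsg.PRankLE at h2
      push Not at h2
      obtain ⟨A, hAc, hAe, hAcard⟩ := h2
      have hle : A.map R.subtype ≤ ER := by
        rintro x ⟨a, ha, rfl⟩
        refine ⟨a.2, hRS a.2, ?_⟩
        have := hAe a ha
        simpa using congrArg Subtype.val this
      have h3 : Nat.card A ≤ Nat.card ER := by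
        rw [← Subgroup.card_map_of_injective (K := A) R.subtype_injective]
        exact Subgroup.card_le_of_le hle
      rw [hk] at h3 ⊢
      have h4 : 2 ^ (r - 2) < 2 ^ k := lt_of_lt_of_le hAcard h3
      have h5 : r - 2 < k := (Nat.pow_lt_pow_iff_right (by norm_num)).mp h4
      apply Nat.pow_le_pow_right (by norm_num)
      omega
  -- t ∉ ER
  have htR : t ∉ R := by
    intro h
    have := hcon 1 (one_mem _)
    simp at this
    exact this h
  have htER : t ∉ ER := fun h => htR h.1
  -- index 2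
  have hidx : (ER.subgroupOf E).index = 2 := by
    have h1 := (ER.subgroupOf E).card_mul_index
    rw [Nat.card_congr (Subgroup.subgroupOfEquivOfLe hERE).toEquiv] at h1
    have hne1 : (ER.subgroupOf E).index ≠ 1 := by
      intro h
      rw [Subgroup.index_eq_one, Subgroup.subgroupOf_eq_top] at h
      exact htER (h htE)
    have hne0 : (ER.subgroupOf E).index ≠ 0 := Subgroup.index_ne_zero_of_finite
    have hle : (ER.subgroupOf E).index ≤ 2 := by
      by_contra hgt
      push Not at hgt
      have h2 : 2 ^ (r - 1) * 3 ≤ Nat.card ER * (ER.subgroupOf E).index :=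
        Nat.mul_le_mul hERcard hgt
      rw [h1] at h2
      have h3 : 2 ^ r = 2 ^ (r - 1) * 2 := by
        rw [← pow_succ]; congr 1; omega
      have hpos : 0 < 2 ^ (r - 1) := by positivity
      nlinarith
    omega
  have hinvE : ∀ s ∈ E, s ∈ ER ∨ s⁻¹ * t ∈ ER := by
    intro s hs
    by_cases hsER : s ∈ ER
    · left; exact hsER
    · right
      have h := Subgroup.mul_mem_iff_of_index_two hidx (a := (⟨s⁻¹, E.inv_mem hs⟩ : E))
        (b := (⟨t, htE⟩ : E))
      simp only [Subgroup.mem_subgroupOf] at h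
      change (s⁻¹ * t ∈ ER ↔ (s⁻¹ ∈ ER ↔ t ∈ ER)) at h
      rw [h, inv_mem_iff]
      exact ⟨fun h => absurd h hsER, fun h => absurd h htER⟩
  -- apply transfer parity with T := R
  have hTn : (R.subgroupOf (S : Subgroup G)).Normal := by
    constructor
    rintro ⟨n, hn⟩ hnR ⟨g, hg⟩
    rw [Subgroup.mem_subgroupOf] at hnR ⊢
    change g * n * g⁻¹ ∈ R
    have hnR' : n ∈ R := hnR
    have : g * n * g⁻¹ = n := by
      rw [hcommS g hg n hn]; group
    rw [this]; exact hnR'
  obtain ⟨N, hNn, -, hNres, htN⟩ := transfer_parity_gen S R hRS hTn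
    (by
      intro a b
      induction a using QuotientGroup.induction_on with
      | H a =>
      induction b using QuotientGroup.induction_on with
      | H b =>
      rw [← QuotientGroup.mk_mul, ← QuotientGroup.mk_mul]
      congr 1
      apply Subtype.ext
      exact hcommS a.1 a.2 b.1 b.2)
    t ht htS htR
    (S : Subgroup G) S.isPGroup'
    (by
      intro s hs
      rw [Subgroup.mem_centralizer_singleton_iff]
      exact hcommS s hs t htS)
    (by
      intro s hsS hs2
      rcases hinvE s ⟨hsS, hs2⟩ with h | h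
      · left; exact h.1
      · right; exact h.1)
    (by
      intro g hg hmem
      have hcard : Nat.card (cj g⁻¹ (S : Subgroup G)) = Nat.card (S : Subgroup G) := card_cj _ _
      have heq : cj g⁻¹ (S : Subgroup G) = S :=
        Subgroup.eq_of_le_of_card_ge hg (le_of_eq hcard.symm)
      have hgn : g⁻¹ ∈ Subgroup.normalizer ((S : Subgroup G) : Set G) := cj_eq_self_iff.mp heq
      have := hcon g⁻¹ hgn
      rw [inv_inv] at this
      exact this hmem)
  exact hG _ (exists_index_two N hNres (fun h => htN (h ▸ Subgroup.mem_top t))).choose_spec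

end Cfsg.Agent.S1244
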