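import Cfsg.Statements.S1247
import Cfsg.Agent.Lib.Helper21.BenderLemma

set_option autoImplicit false
set_option linter.style.haveILetI false
open Cfsg

namespace Cfsg.Agent.S1247

open Subgroup
open Cfsg.Agent.Lib.Helper21 Cfsg.Agent.Lib.Helper22

/-- Common set-up: for a prime `p`, the subgroup `X = O_p(B) ∩ A` viewed in `↥A` is a `p`-group
normalized by `S`, so Bender's lemma applies. -/
theorem setup {G : Type*} [Group G] [Finite G] (A S : Subgroup G)
    (hSF : S ≤ (Cfsg.generalizedFittingSubgroup ↥A).map A.subtype)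
    (hSsn : (S.subgroupOf ((Cfsg.generalizedFittingSubgroup ↥A).map A.subtype)).IsSubnormal)
    (hSC : (Cfsg.generalizedFittingSubgroup ↥A).map A.subtype ⊓ centralizer (S : Set G) ≤ S)
    (B : Subgroup G) (hSB : S ≤ B) (p : ℕ) [hp : Fact p.Prime] :
    Cfsg.layer ↥A ≤ centralizer
      (((((Cfsg.pCore p ↥B).map B.subtype ⊓ A).subgroupOf A : Subgroup ↥A)) : Set ↥A) ∧
    ∀ y ∈ Cfsg.generalizedFittingSubgroup ↥A, (orderOf y).Coprime p →
      y ∈ centralizer
        (((((Cfsg.pCore p ↥B).map B.subtype ⊓ A).subgroupOf A : Subgroup ↥A)) : Set ↥A) := by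
  obtain ⟨h1, h2, h3⟩ := bl_transport A S hSF hSsn hSC
  have hSA : S ≤ A := hSF.trans (map_subtype_le _)
  have hX : IsPGroup p ↥(((Cfsg.pCore p ↥B).map B.subtype ⊓ A).subgroupOf A) := by
    have hP : IsPGroup p ↥((Cfsg.pCore p ↥B).map B.subtype) := (pCore_isPGroup' p ↥B).map _
    have hP' : IsPGroup p ↥((Cfsg.pCore p ↥B).map B.subtype ⊓ A) := hP.to_le inf_le_left
    exact hP'.comap_subtype
  have hSX : S.subgroupOf A ≤ normalizer
      (((((Cfsg.pCore p ↥B).map B.subtype ⊓ A).subgroupOf A : Subgroup ↥A)) : Set ↥A) := by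
    intro s hs
    rw [mem_subgroupOf] at hs
    have hsN := bl_le_normalizer_pCore_map B p (hSB hs)
    rw [mem_normalizer_iff] at hsN ⊢
    intro x
    rw [mem_subgroupOf, mem_subgroupOf]
    constructor
    · rintro ⟨hx1, hx2⟩
      exact ⟨(hsN _).1 hx1, (s * x * s⁻¹).2⟩
    · rintro ⟨hx1, hx2⟩
      exact ⟨(hsN _).2 hx1, x.2⟩
  obtain ⟨k1, -, k3⟩ := bl_main h1 h2 h3 hX hSX
  exact ⟨k1, k3⟩

theorem result {G : Type*} [Group G] [Finite G] [IsSimpleGroup G] (hna : ¬ IsMulCommutative G) (A : Subgroup G) (hA : IsCoatom A) (S : Subgroup G) (hSF : S ≤ (Cfsg.generalizedFittingSubgroup ↥A).map A.subtype) (hSsn : (S.subgroupOf ((Cfsg.generalizedFittingSubgroup ↥A).map A.subtype)).IsSubnormal) (hSC : (Cfsg.generalizedFittingSubgroup ↥A).map A.subtype ⊓ Subgroup.centralizer (S : Set G) ≤ S) (B : Subgroup G) (hSB : S ≤ B) : (∀ q : ℕ, q.Prime → ¬ q ∣ Nat.card (Cfsg.fittingSubgroup ↥A) → (Cfsg.pCore q ↥B).map B.subtype ⊓ A = ⊥) ∧ (∀ p : ℕ, p.Prime → p ∣ Nat.card (Cfsg.fittingSubgroup ↥A) → ∀ x ∈ (Cfsg.pCore p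 ↥B).map B.subtype, ∀ y ∈ (Cfsg.pResidual p ↥(Cfsg.generalizedFittingSubgroup ↥A)).map ((Cfsg.generalizedFittingSubgroup ↥A).subtype) , x * (A.subtype y) = (A.subtype y) * x) := by
  have hSA : S ≤ A := hSF.trans (map_subtype_le _)
  obtain ⟨t1, t2, t3⟩ := bl_transport A S hSF hSsn hSC
  constructor
  · -- part (a)
    intro q hq hqF
    haveI : Fact q.Prime := ⟨hq⟩
    obtain ⟨k1, k3⟩ := setup A S hSF hSsn hSC B hSB q
    set X : Subgroup G := (Cfsg.pCore q ↥B).map B.subtype ⊓ A with hXdef
    have hcopF : (Nat.card (Cfsg.fittingSubgroup ↥A)).Coprime q :=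
      ((Nat.Prime.coprime_iff_not_dvd hq).2 hqF).symm
    have hX : IsPGroup q ↥(X.subgroupOf A) := by
      have hP : IsPGroup q ↥((Cfsg.pCore q ↥B).map B.subtype) := (pCore_isPGroup' q ↥B).map _
      have hP' : IsPGroup q ↥X := hP.to_le inf_le_left
      exact hP'.comap_subtype
    -- `F*(A)` centralizes `X`
    have hFX : Cfsg.generalizedFittingSubgroup ↥A ≤
        centralizer ((X.subgroupOf A : Subgroup ↥A) : Set ↥A) := by
      unfold Cfsg.generalizedFittingSubgroup
      apply sup_le k1
      intro y hy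
      apply k3 y (fitting_le_generalizedFitting _ hy)
      have : orderOf y ∣ Nat.card (Cfsg.fittingSubgroup ↥A) :=
        Subgroup.orderOf_dvd_natCard _ hy
      exact Nat.Coprime.coprime_dvd_left this hcopF
    have hXC : X.subgroupOf A ≤ centralizer (Cfsg.generalizedFittingSubgroup ↥A : Set ↥A) := by
      rw [le_centralizer_iff]; exact hFX
    have hXF : X.subgroupOf A ≤ Cfsg.fittingSubgroup ↥A := by
      apply le_trans _ (bl_center_genFitting_le_fitting (H := ↥A))
      exact le_inf (hXC.trans (centralizer_generalizedFitting_le ↥A)) hXC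
    have hXbot : X.subgroupOf A = ⊥ := by
      obtain ⟨n, hn⟩ := hX.exists_card_eq
      have hdvd : Nat.card ↥(X.subgroupOf A) ∣ Nat.card (Cfsg.fittingSubgroup ↥A) :=
        Subgroup.card_dvd_of_le hXF
      have hcop : (Nat.card ↥(X.subgroupOf A)).Coprime q :=
        Nat.Coprime.coprime_dvd_left hdvd hcopF
      have h1 : Nat.card ↥(X.subgroupOf A) = 1 := by
        rw [hn] at hcop ⊢
        rcases Nat.eq_zero_or_pos n with h0 | h0
        · rw [h0, pow_zero]
        · exfalso
          have : q ∣ q ^ n := dvd_pow_self q h0.ne'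
          have h3 := Nat.eq_one_of_dvd_coprimes hcop this dvd_rfl
          exact hq.one_lt.ne' h3
      exact Subgroup.card_eq_one.1 h1
    have : X = (X.subgroupOf A).map A.subtype := by
      rw [Subgroup.map_subgroupOf_eq_of_le (inf_le_right : X ≤ A)]
    rw [this, hXbot, Subgroup.map_bot]
  · -- part (b)
    intro p hp hpF x hx y hy
    haveI : Fact p.Prime := ⟨hp⟩
    obtain ⟨k1, k3⟩ := setup A S hSF hSsn hSC B hSB p
    set P : Subgroup G := (Cfsg.pCore p ↥B).map B.subtype with hPdef
    have hP : IsPGroup p ↥P := (pCore_isPGroup' p ↥B).map _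
    have hBP : B ≤ normalizer (P : Set G) := bl_le_normalizer_pCore_map B p
    obtain ⟨y0, hy0, rfl⟩ := hy
    -- reduce to `p'`-elements
    suffices hgen : ∀ g : ↥(Cfsg.generalizedFittingSubgroup ↥A), (orderOf g).Coprime p →
        x * ((g : ↥A) : G) = ((g : ↥A) : G) * x by
      unfold Cfsg.pResidual at hy0
      induction hy0 using closure_induction with
      | mem g hg => exact hgen g hg
      | one => simp
      | mul a b _ _ ha hb =>
        simp only [Subgroup.subtype_apply, Subgroup.coe_mul] at ha hb ⊢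
        rw [← mul_assoc, ha, mul_assoc, hb, mul_assoc]
      | inv a _ ha =>
        simp only [Subgroup.subtype_apply, Subgroup.coe_inv] at ha ⊢
        have : x = ((a : ↥A) : G) * x * ((a : ↥A) : G)⁻¹ := by
          rw [← ha]; group
        calc x * ((a : ↥A) : G)⁻¹ = ((a : ↥A) : G)⁻¹ * (((a : ↥A) : G) * x * ((a : ↥A) : G)⁻¹) := by
              group
          _ = ((a : ↥A) : G)⁻¹ * x := by rw [← this]
    intro g hgcop
    have hgcop' : (orderOf (g : ↥A)).Coprime p := by
      rw [Subgroup.orderOf_coe]; exact hgcop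
    by_cases hN : blN p ↥A = ⊥
    · have := bl_trivial_of_blN_eq_bot hN (g : ↥A) g.2 hgcop'
      rw [this]
      simp
    · -- the nontrivial case
      have hpc : Cfsg.pCore p ↥A ≠ ⊥ := by
        obtain ⟨f, hf⟩ := exists_prime_orderOf_dvd_card' p hpF
        intro hbot
        have hfp : (f : ↥A) ∈ Cfsg.pCore p ↥A := by
          apply bl_mem_pCore_of_mem_fitting f.2 (k := 1)
          rw [pow_one, ← Subgroup.coe_pow, ← hf, pow_orderOf_eq_one]
          rfl
        rw [hbot, mem_bot] at hfp
        have hf1 : f = 1 := Subtype.ext hfp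
        rw [hf1, orderOf_one] at hf
        exact hp.one_lt.ne hf
      haveI : Nontrivial ↥(Cfsg.pCore p ↥A) := (Subgroup.nontrivial_iff_ne_bot _).2 hpc
      have hUp := pCore_isPGroup' p ↥A
      haveI : Nontrivial ↥(center ↥(Cfsg.pCore p ↥A)) := hUp.center_nontrivial
      haveI hpn : (Cfsg.pCore p ↥A).Normal := pCore_normal' p ↥A
      set ZA : Subgroup ↥A := (center ↥(Cfsg.pCore p ↥A)).map (Cfsg.pCore p ↥A).subtype with hZAdef
      have hZAn : ZA.Normal := inferInstance
      set Z : Subgroup G := ZA.map A.subtype with hZdef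
      have hZne : Z ≠ ⊥ := by
        obtain ⟨z, hz1⟩ := exists_ne (1 : ↥(center ↥(Cfsg.pCore p ↥A)))
        intro hbot
        have hzZ : (((z : ↥(Cfsg.pCore p ↥A)) : ↥A) : G) ∈ Z := ⟨_, ⟨_, z.2, rfl⟩, rfl⟩
        rw [hbot, mem_bot] at hzZ
        apply hz1
        apply Subtype.ext
        apply Subtype.ext
        apply Subtype.ext
        exact hzZ
      have hZAD : ZA ≤ blD ↥A := by
        intro z hz
        unfold blD
        apply (le_sup_right : _ ≤ Cfsg.layer ↥A ⊔ _)
        refine ⟨?_, bl_center_pCore_le_centralizer p hz⟩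
        exact fitting_le_generalizedFitting _
          (bl_pCore_le_fitting p (Subgroup.map_subtype_le _ hz))
      have hDS : blD ↥A ≤ S.subgroupOf A := blD_le t1 t2 t3
      have hZA : Z ≤ A := map_subtype_le _
      have hZS : Z ≤ S := by
        rintro _ ⟨z, hz, rfl⟩
        have := hDS (hZAD hz)
        rwa [mem_subgroupOf] at this
      have hAZ : A ≤ normalizer (Z : Set G) := bl_le_normalizer_map_of_normal A hZAn
      have hNZ : normalizer (Z : Set G) = A := bl_normalizer_eq_of_coatom hA hZne hZA hAZ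
      have hZp : IsPGroup p ↥Z := (hUp.to_le (Subgroup.map_subtype_le _)).map _
      -- `p'`-elements of `E(A) Z(F*(A))` centralize `P`
      have hcent : ∀ g0 : ↥A, g0 ∈ blD ↥A → (orderOf g0).Coprime p →
          (g0 : G) ∈ centralizer (P : Set G) := by
        intro g0 hg0 hg0cop
        have hg0F : g0 ∈ Cfsg.generalizedFittingSubgroup ↥A := t1 (hDS hg0)
        have hg0S : (g0 : G) ∈ S := by
          have := hDS hg0
          rwa [mem_subgroupOf] at this
        have key := Cfsg.Agent.Lib.Helper24.thompson_PxQ (p := p) Z (zpowers (g0 : G)) P hZp ?_ hP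
          ?_ (hZS.trans (hSB.trans hBP)) (zpowers_le.2 (hBP (hSB hg0S))) ?_
        · exact key (mem_zpowers _)
        · rw [Nat.card_zpowers, Subgroup.orderOf_coe]
          exact hg0cop
        · rintro _ ⟨z, hz, rfl⟩
          rw [mem_centralizer_iff]
          intro w hw
          obtain ⟨i, rfl⟩ := mem_zpowers_iff.1 hw
          have hzc := bl_center_pCore_le_centralizer p hz
          rw [mem_centralizer_iff] at hzc
          have h1 : g0 * z = z * g0 := hzc g0 hg0F
          have h2 : Commute (g0 : G) (A.subtype z) := congrArg Subtype.val h1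
          exact (h2.zpow_left i).eq
        · rintro c ⟨hcP, hcZ⟩
          have hcA : c ∈ A := by
            rw [← hNZ]
            exact centralizer_le_normalizer _ hcZ
          have hc' : (⟨c, hcA⟩ : ↥A) ∈ (P ⊓ A).subgroupOf A := by
            rw [mem_subgroupOf]; exact ⟨hcP, hcA⟩
          have hg := k3 g0 hg0F hg0cop
          rw [mem_centralizer_iff] at hg
          have h1 := hg ⟨c, hcA⟩ hc'
          have h2 : Commute c (g0 : G) := congrArg Subtype.val h1
          show c ∈ centralizer ((zpowers (g0 : G) : Subgroup G) : Set G)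
          rw [mem_centralizer_iff]
          intro w hw
          obtain ⟨i, rfl⟩ := mem_zpowers_iff.1 hw
          exact ((h2.zpow_right i).eq).symm
      set N : Subgroup G := (blN p ↥A).map A.subtype with hNdef
      have hNne : N ≠ ⊥ := by
        intro hbot
        apply hN
        rw [eq_bot_iff]
        intro n hn
        have hnN : (n : G) ∈ N := ⟨n, hn, rfl⟩
        rw [hbot, mem_bot] at hnN
        rw [mem_bot]
        exact Subtype.ext hnN
      have hNA : N ≤ A := map_subtype_le _
      have hAN : A ≤ normalizer (N : Set G) := bl_le_normalizer_map_of_normal A (blN_normal p)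
      have hNN := bl_normalizer_eq_of_coatom hA hNne hNA hAN
      have hNP : N ≤ centralizer (P : Set G) := by
        rw [hNdef]
        unfold blN
        rw [MonoidHom.map_closure, closure_le]
        rintro _ ⟨g0, ⟨hg0, hg0cop⟩, rfl⟩
        exact hcent g0 hg0 hg0cop
      have hPA : P ≤ A := by
        have h1 : P ≤ centralizer (N : Set G) := le_centralizer_iff.1 hNP
        calc P ≤ centralizer (N : Set G) := h1
          _ ≤ normalizer (N : Set G) := centralizer_le_normalizer _
          _ = A := hNN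
      have hxA := hPA hx
      have hx' : (⟨x, hxA⟩ : ↥A) ∈ (P ⊓ A).subgroupOf A := by
        rw [mem_subgroupOf]; exact ⟨hx, hxA⟩
      have hg := k3 (g : ↥A) g.2 hgcop'
      rw [mem_centralizer_iff] at hg
      have h := hg ⟨x, hxA⟩ hx'
      exact congrArg Subtype.val h

end Cfsg.Agent.S1247
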