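import Cfsg.Statements.S1248
import Cfsg.Agent.Lib.Helper60.SU3EvenSylow

set_option autoImplicit false
open Cfsg

namespace Cfsg.Agent.S1248

open Cfsg.Agent.Lib.Helper60.SU3Even
open scoped commutatorElement

theorem main_aux {F : Type*} [Field F] [Fintype F] [EvenQ F 4] {G : Type*} [Group G]
    (e : G ≃* T F 4) :
    Nat.card G = 64 ∧ IsKleinFour (Subgroup.center G) ∧
      Subgroup.center G = Subgroup.closure {x : G | orderOf x = 2} ∧
      Subgroup.center G = commutator G ∧
      Nat.card (G ⧸ Subgroup.center G) = 16 ∧ ∀ x : G ⧸ Subgroup.center G, x ^ 2 = 1 := by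
  haveI : Finite G := Finite.of_equiv _ e.symm.toEquiv
  have hcard : Nat.card G = 64 := by
    rw [Nat.card_congr e.toEquiv, T.card_eq]; norm_num
  have hccard : Nat.card (Subgroup.center G) = 4 := by
    rw [Cfsg.Agent.S0280.card_center_congr e, T.card_center]
  have P1 : ∀ g : G, g * g ∈ Subgroup.center G := fun g =>
    (mem_center_equiv e _).mpr (by rw [map_mul]; exact T.mul_self_mem_center _)
  have P2 : ∀ z ∈ Subgroup.center G, z * z = 1 := fun z hz =>
    e.injective (by
      rw [map_mul, map_one]
      exact (T.mul_self_eq_one_iff _).mpr ((T.mem_center_iff _).mp ((mem_center_equiv e z).mp hz)))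
  have P3 : ∀ g : G, g * g = 1 → g ∈ Subgroup.center G := fun g hg =>
    (mem_center_equiv e g).mpr ((T.mem_center_iff _).mpr
      ((T.mul_self_eq_one_iff _).mp (by rw [← map_mul, hg, map_one])))
  have P4 : ∀ z ∈ Subgroup.center G, ∃ a b : G, ⁅a, b⁆ = z := fun z hz => by
    obtain ⟨x, y, hxy⟩ := T.exists_comm_of_mem_center (e z) ((mem_center_equiv e z).mp hz)
    exact ⟨e.symm x, e.symm y, e.injective (by rw [map_commutatorElement]; simpa using hxy)⟩
  have P6 : ∀ a b : G, ⁅a, b⁆ ∈ Subgroup.center G := fun a b =>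
    (mem_center_equiv e _).mpr (by rw [map_commutatorElement]; exact T.comm_mem_center _ _)
  refine ⟨hcard, ⟨hccard, ?_⟩, ?_, ?_, ?_, ?_⟩
  · haveI : Nontrivial (Subgroup.center G) := by
      apply (Finite.one_lt_card_iff_nontrivial).mp
      rw [hccard]; norm_num
    rw [Monoid.exponent_eq_prime_iff Nat.prime_two]
    intro z hz
    apply orderOf_eq_prime
    · apply Subtype.ext
      rw [pow_two]
      exact P2 z.1 z.2
    · exact hz
  · apply le_antisymm
    · intro z hz
      by_cases h1 : z = 1
      · rw [h1]; exact Subgroup.one_mem _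
      · apply Subgroup.subset_closure
        exact orderOf_eq_prime (by rw [pow_two]; exact P2 z hz) h1
    · rw [Subgroup.closure_le]
      intro x hx
      have hx' : orderOf x = 2 := hx
      apply P3
      rw [← pow_two, ← hx']
      exact pow_orderOf_eq_one x
  · apply le_antisymm
    · intro z hz
      obtain ⟨a, b, hab⟩ := P4 z hz
      rw [← hab, commutator_def]
      exact Subgroup.commutator_mem_commutator (Subgroup.mem_top a) (Subgroup.mem_top b)
    · rw [commutator_def, Subgroup.commutator_le]
      intro a _ b _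
      exact P6 a b
  · have h := Subgroup.card_eq_card_quotient_mul_card_subgroup (Subgroup.center G)
    rw [hcard, hccard] at h
    omega
  · intro x
    induction x using QuotientGroup.induction_on with
    | H g =>
      rw [← QuotientGroup.mk_pow, QuotientGroup.eq_one_iff, pow_two]
      exact P1 g


/-- Let F be a field with 16 elements and S a Sylow 2-subgroup of PSU(3) over F (the unitary group U₃(4)). Then |S| = 64; the centre Z(S) is a Klein four-group and coincides with the subgroup generated by the involutions of S and with the derived subgroup; and every element of S ⧸ Z(S) squares to the identity, S ⧸ Z(S) having order 16. -/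
theorem result {F : Type*} [Field F] [Fintype F] (hF : Fintype.card F = 16) (S : Sylow 2 (Cfsg.PSU 3 F 4)) : Nat.card S = 64 ∧ IsKleinFour (Subgroup.center (S : Subgroup (Cfsg.PSU 3 F 4))) ∧ Subgroup.center (S : Subgroup (Cfsg.PSU 3 F 4)) = Subgroup.closure {x : (S : Subgroup (Cfsg.PSU 3 F 4)) | orderOf x = 2} ∧ Subgroup.center (S : Subgroup (Cfsg.PSU 3 F 4)) = commutator (S : Subgroup (Cfsg.PSU 3 F 4)) ∧ Nat.card ((S : Subgroup (Cfsg.PSU 3 F 4)) ⧸ Subgroup.center (S : Subgroup (Cfsg.PSU 3 F 4))) = 16 ∧ ∀ x : (S : Subgroup (Cfsg.PSU 3 F 4)) ⧸ Subgroup.center (S : Subgroup (Cfsg.PSU 3 F 4)), x ^ 2 = 1 := by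
  have hF' : Fintype.card F = (2 ^ 2) ^ 2 := by rw [hF]; norm_num
  haveI : EvenQ F 4 := ⟨by rw [hF]; norm_num, @EvenQ.two F _ _ (2 ^ 2) (EvenQ.of_pow hF')⟩
  obtain ⟨e⟩ := exists_equiv_sylow (F := F) (q := 4) S
  exact main_aux e

end Cfsg.Agent.S1248
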