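import Cfsg.Statements.S1249

set_option autoImplicit false
open Cfsg

namespace Cfsg.Agent.S1249

/-- Let P and Q be Sylow p-subgroups of the finite group G both containing the subgroup A. If A is strongly closed in P, then A is strongly closed in Q. -/
theorem result {G : Type*} [Group G] [Finite G] {p : ℕ} [Fact p.Prime] (P Q : Sylow p G) (A : Subgroup G) (hAQ : A ≤ Q) (hA : Cfsg.IsStronglyClosed A (P : Subgroup G)) : Cfsg.IsStronglyClosed A (Q : Subgroup G) := by
  obtain ⟨h, hh⟩ := MulAction.exists_smul_eq G P Q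
  have hQ : ∀ y : G, y ∈ (Q : Subgroup G) ↔ h⁻¹ * y * h ∈ (P : Subgroup G) := by
    intro y
    rw [← hh, Sylow.coe_subgroup_smul, Subgroup.mem_pointwise_smul_iff_inv_smul_mem]
    simp [MulAut.smul_def]
  -- conjugation by h⁻¹ maps A into A
  have h1 : ∀ a ∈ A, h⁻¹ * a * h ∈ A := by
    intro a ha
    have := hA.2 a ha h⁻¹
    simp only [inv_inv] at this
    exact this ((hQ a).1 (hAQ ha))
  -- hence onto
  have h2 : ∀ b ∈ A, h * b * h⁻¹ ∈ A := by
    let f : A → A := fun a => ⟨h⁻¹ * a * h, h1 a a.2⟩
    have hf : Function.Injective f := by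
      intro a b hab
      have := congrArg Subtype.val hab
      simp only [f] at this
      have := mul_left_cancel (mul_right_cancel this)
      exact Subtype.ext this
    have hs : Function.Surjective f := Finite.surjective_of_injective hf
    intro b hb
    obtain ⟨a, ha⟩ := hs ⟨b, hb⟩
    have : h⁻¹ * a * h = b := congrArg Subtype.val ha
    rw [← this]
    simp [mul_assoc]
  refine ⟨hAQ, ?_⟩
  intro x hx g hg
  have h3 := (hQ _).1 hg
  have h4 : (h⁻¹ * g) * x * (h⁻¹ * g)⁻¹ ∈ A := by
    apply hA.2 x hx
    convert h3 using 1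
    simp [mul_assoc]
  have h5 := h2 _ h4
  convert h5 using 1
  simp [mul_assoc]

end Cfsg.Agent.S1249
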