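import Cfsg.Statements.S1250
import Cfsg.Agent.Lib.Helper21.SylowExtra

set_option autoImplicit false
open Cfsg

namespace Cfsg.Agent.S1250

/-- Let S be a Sylow p-subgroup of the finite group G, A ≤ S strongly closed in S, and N a normal subgroup. Then the image of A in G ⧸ N is strongly closed in the image of S (which is a Sylow p-subgroup of G ⧸ N). -/
theorem result {G : Type*} [Group G] [Finite G] {p : ℕ} [Fact p.Prime] (S : Sylow p G) (A : Subgroup G) (hA : Cfsg.IsStronglyClosed A (S : Subgroup G)) (N : Subgroup G) [N.Normal] : Cfsg.IsStronglyClosed (A.map (QuotientGroup.mk' N)) ((S : Subgroup G).map (QuotientGroup.mk' N)) := by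
  obtain ⟨hAS, hsc⟩ := hA
  refine ⟨Subgroup.map_mono hAS, ?_⟩
  rintro _ ⟨a, ha, rfl⟩ gbar hg
  obtain ⟨g, rfl⟩ := QuotientGroup.mk'_surjective N gbar
  obtain ⟨s, hs, hsg⟩ := hg
  have ha : a ∈ A := ha
  have hs : s ∈ (S : Subgroup G) := hs
  set u := g * a * g⁻¹ with hu
  have hsu : QuotientGroup.mk' N s = QuotientGroup.mk' N u := by
    rw [hsg, hu]; simp
  -- u lies in S ⊔ N
  have huK : u ∈ (S : Subgroup G) ⊔ N := by
    have : u = s * (s⁻¹ * u) := by group
    rw [this]
    refine Subgroup.mul_mem_sup hs ?_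
    have h := hsu
    rw [QuotientGroup.mk'_apply, QuotientGroup.mk'_apply, QuotientGroup.eq] at h
    exact h
  -- zpowers u is a p-group
  have hup : IsPGroup p (Subgroup.zpowers u) := by
    have h1 : IsPGroup p (Subgroup.zpowers a) :=
      S.2.to_le ((Subgroup.zpowers_le.2 (hAS ha)))
    have h2 : Subgroup.zpowers u = (Subgroup.zpowers a).map (MulAut.conj g).toMonoidHom := by
      rw [MonoidHom.map_zpowers]
      simp [hu]
    rw [h2]
    exact h1.map _
  obtain ⟨c, hc, P, hP, -, hSP, hcP⟩ :=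
    Cfsg.Agent.Lib.Helper21.exists_conj_le_pgroup ((S : Subgroup G) ⊔ N) (S : Subgroup G)
      (Subgroup.zpowers u) le_sup_left (Subgroup.zpowers_le.2 huK) S.2 hup
  have hPS : P = S := S.is_maximal' hP hSP
  have h1 : c * u * c⁻¹ ∈ (S : Subgroup G) := by
    rw [← hPS]; exact hcP u (Subgroup.mem_zpowers u)
  have h2 : c * u * c⁻¹ ∈ A := by
    have : c * u * c⁻¹ = (c * g) * a * (c * g)⁻¹ := by rw [hu]; group
    rw [this] at h1 ⊢
    exact hsc a ha _ h1
  rw [Subgroup.mem_sup_of_normal_right] at hc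
  obtain ⟨s₁, hs₁, n₁, hn₁, rfl⟩ := hc
  have h3 : s₁⁻¹ * (s₁ * n₁ * u * (s₁ * n₁)⁻¹) * s₁ ∈ A := by
    have := hsc _ h2 s₁⁻¹
    simp only [inv_inv] at this
    apply this
    exact (S : Subgroup G).mul_mem ((S : Subgroup G).mul_mem ((S : Subgroup G).inv_mem hs₁) h1) hs₁
  refine ⟨_, h3, ?_⟩
  have hn : QuotientGroup.mk' N n₁ = 1 := by
    rw [QuotientGroup.mk'_apply, QuotientGroup.eq_one_iff]; exact hn₁
  have : QuotientGroup.mk' N (g * a * g⁻¹) = QuotientGroup.mk' N u := by rw [hu]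
  simp only [map_mul, map_inv] at this ⊢
  rw [this, hn]
  group

end Cfsg.Agent.S1250
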