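import Cfsg.Statements.S1254
import Cfsg.Agent.Lib.Helper35.DihedralFrob
import Cfsg.Agent.Lib.Helper2.Frobenius
import Cfsg.Agent.Lib.Helper2.PComplement

set_option autoImplicit false
open Cfsg

namespace Cfsg.Agent.S1254

open Subgroup
open Cfsg.Agent.Lib.Helper33 Cfsg.Agent.Lib.Helper2 Cfsg.Agent.Lib.Helper35

/-- A group with dihedral Sylow `2`-subgroup `S` has a normal `2`-complement iff
`N(U) = C(U) N_S(U)` for every four-subgroup `U` of `S`. -/
theorem result {X : Type*} [Group X] [Finite X] (S : Sylow 2 X) (m : ℕ) (hm : 2 ≤ m) (eS : (S : Subgroup X) ≃* DihedralGroup m) : Cfsg.HasNormalPComplement 2 X ↔ ∀ U : Subgroup X, U ≤ S → IsKleinFour U → Subgroup.normalizer (U : Set X) = Subgroup.centralizer (U : Set X) ⊔ ((S : Subgroup X) ⊓ Subgroup.normalizer (U : Set X)) := by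
  have : Fact (Nat.Prime 2) := ⟨Nat.prime_two⟩
  rw [hasNormalPComplement_iff S]
  constructor
  · rintro ⟨N, hNn, hNc⟩ U hUS -
    apply le_antisymm
    · intro g hg
      obtain ⟨⟨n, s⟩, hns, -⟩ := hNc.existsUnique g
      simp only at hns
      have hdisj : Disjoint N (S : Subgroup X) := hNc.disjoint
      -- `s` acts on `U` like `g`
      have hsu : ∀ u ∈ U, (s : X) * u * (s : X)⁻¹ = g * u * g⁻¹ := by
        intro u hu
        set x' : X := s * u * (s : X)⁻¹ with hx'
        have hx'S : x' ∈ (S : Subgroup X) :=
          mul_mem (mul_mem s.2 (hUS hu)) (inv_mem s.2)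
        have hgu : g * u * g⁻¹ ∈ U := (mem_normalizer_iff.mp hg u).mp hu
        have e : g * u * g⁻¹ = n * x' * (n : X)⁻¹ := by rw [← hns, hx']; group
        have hmemN : (g * u * g⁻¹) * x'⁻¹ ∈ N := by
          have : (g * u * g⁻¹) * x'⁻¹ = n * (x' * (n : X)⁻¹ * x'⁻¹) := by rw [e]; group
          rw [this]
          exact N.mul_mem n.2 (hNn.conj_mem _ (N.inv_mem n.2) x')
        have hmemS : (g * u * g⁻¹) * x'⁻¹ ∈ (S : Subgroup X) :=
          mul_mem (hUS hgu) (inv_mem hx'S)
        have h1 := (Subgroup.disjoint_def.mp hdisj) hmemN hmemS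
        exact (mul_inv_eq_one.mp h1).symm
      have hsN : (s : X) ∈ normalizer (U : Set X) := by
        rw [← cj_eq_self_iff]
        apply Subgroup.eq_of_le_of_card_ge
        · intro z hz
          obtain ⟨u, hu, rfl⟩ := mem_cj'.mp hz
          rw [hsu u hu]
          exact (mem_normalizer_iff.mp hg u).mp hu
        · rw [card_cj]
      have hnC : (n : X) ∈ centralizer (U : Set X) := by
        rw [mem_centralizer_iff]
        intro u hu
        -- `n u n⁻¹ = u`
        have hu' : (s : X)⁻¹ * u * (s : X) ∈ U := by
          have := (mem_normalizer_iff.mp (inv_mem hsN) u).mp hu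
          simpa using this
        have h1 := hsu _ hu'
        have h2 : (n : X) * u * (n : X)⁻¹ = u := by
          have : (s : X) * ((s : X)⁻¹ * u * (s : X)) * (s : X)⁻¹ = u := by group
          rw [this] at h1
          have e : g * ((s : X)⁻¹ * u * s) * g⁻¹ = n * u * (n : X)⁻¹ := by rw [← hns]; group
          rw [e] at h1
          exact h1.symm
        calc u * n = (n * u * (n : X)⁻¹) * n := by rw [h2]
          _ = n * u := by group
      rw [← hns]
      exact mul_mem_sup hnC ⟨s.2, hsN⟩
    · exact sup_le (centralizer_le_normalizer _) inf_le_right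
  · intro hyp
    -- the rotation subgroup
    have hm0 : NeZero m := ⟨by omega⟩
    set r₀ : (S : Subgroup X) := eS.symm (DihedralGroup.r 1) with hr₀
    set R : Subgroup X := zpowers (r₀ : X) with hR
    have hRS : R ≤ (S : Subgroup X) := zpowers_le.mpr r₀.2
    have hout : ∀ t ∈ (S : Subgroup X), t ∉ R → t ^ 2 = 1 := by
      intro t ht htR
      rcases hd : eS ⟨t, ht⟩ with i | i
      · exfalso
        apply htR
        have h1 : (⟨t, ht⟩ : (S : Subgroup X)) = r₀ ^ i.val := by
          apply eS.injective
          rw [hd, map_pow, hr₀, MulEquiv.apply_symm_apply, DihedralGroup.r_one_pow,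
            ZMod.natCast_zmod_val]
        have h2 : t = (r₀ : X) ^ i.val := by
          have := congrArg Subtype.val h1
          simpa using this
        rw [h2]
        exact pow_mem (mem_zpowers _) _
      · have h1 : (⟨t, ht⟩ : (S : Subgroup X)) ^ 2 = 1 := by
          apply eS.injective
          rw [map_pow, hd, map_one, pow_two, DihedralGroup.sr_mul_self]
        have := congrArg Subtype.val h1
        simpa using this
    have hidx : R.relIndex (S : Subgroup X) ≤ 2 := by
      have h1 := relIndex_mul_relIndex (⊥ : Subgroup X) R (S : Subgroup X) bot_le hRS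
      rw [relIndex_bot_left, relIndex_bot_left] at h1
      have hcardS : Nat.card (S : Subgroup X) = 2 * m := by
        rw [Nat.card_congr eS.toEquiv, DihedralGroup.nat_card]
      have hcardR : Nat.card R = m := by
        rw [hR, Nat.card_zpowers, Subgroup.orderOf_coe, hr₀, MulEquiv.orderOf_eq,
          DihedralGroup.orderOf_r_one]
      rw [hcardS, hcardR] at h1
      have : R.relIndex (S : Subgroup X) * m = 2 * m := by rw [mul_comm]; exact h1
      have := Nat.eq_of_mul_eq_mul_right (by omega : 0 < m) this
      omega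
    -- Frobenius' condition
    have hF : FrobCond 2 X := by
      intro Q hQ g hg hgo
      obtain ⟨h, -, hh⟩ := sylow_sub (K := ⊤) (P := (S : Subgroup X)) le_top S.2
        (by rw [relIndex_top_right]; exact S.not_dvd_index) le_top hQ
      set Q' := cj h Q with hQ'
      set g' := h * g * h⁻¹ with hg'
      have hg'N : g' ∈ normalizer (Q' : Set X) := by
        rw [hQ', normalizer_cj]; exact conj_mem_cj hg
      have hg'm : g' ^ orderOf g = 1 := by
        rw [hg', conj_pow, pow_orderOf_eq_one]; group
      have hcen : g' ∈ centralizer (Q' : Set X) := by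
        apply mem_centralizer_of_dihedralLike (S : Subgroup X) R S.2 hRS (r₀ : X) rfl hout hidx
          Q' hh g' hg'N (orderOf g) hg'm hgo
        intro hK4
        have hN := hyp Q' hh hK4
        -- the homomorphism `N(U) → Aut(U)`
        set Φ := Q'.normalizerMonoidHom with hΦ
        set T := (S : Subgroup X) ⊓ normalizer (Q' : Set X) with hT
        have htop : (⊤ : Subgroup (normalizer (Q' : Set X))) =
            (centralizer (Q' : Set X)).subgroupOf (normalizer (Q' : Set X)) ⊔
              T.subgroupOf (normalizer (Q' : Set X)) := by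
          rw [← subgroupOf_sup (centralizer_le_normalizer _) inf_le_right, ← hN,
            subgroupOf_self]
        have hmem : Φ ⟨g', hg'N⟩ ∈ (T.subgroupOf (normalizer (Q' : Set X))).map Φ := by
          have h1 : Φ ⟨g', hg'N⟩ ∈ (⊤ : Subgroup (normalizer (Q' : Set X))).map Φ :=
            mem_map_of_mem Φ (mem_top _)
          rw [htop, Subgroup.map_sup] at h1
          have h2 : ((centralizer (Q' : Set X)).subgroupOf (normalizer (Q' : Set X))).map Φ
              = ⊥ := by
            rw [Subgroup.map_eq_bot_iff, hΦ, normalizerMonoidHom_ker]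
          rwa [h2, bot_sup_eq] at h1
        have hT2 : IsPGroup 2 ((T.subgroupOf (normalizer (Q' : Set X))).map Φ) :=
          ((S.2.to_le inf_le_left).comap_subtype).map Φ
        obtain ⟨k, hk⟩ := hT2 ⟨_, hmem⟩
        have hk' : (Φ ⟨g', hg'N⟩) ^ 2 ^ k = 1 := by
          have := congrArg Subtype.val hk
          simpa using this
        have hmm : (Φ ⟨g', hg'N⟩) ^ orderOf g = 1 := by
          rw [← map_pow]
          have : (⟨g', hg'N⟩ : normalizer (Q' : Set X)) ^ orderOf g = 1 :=
            Subtype.ext (by simpa using hg'm)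
          rw [this, map_one]
        have h3 : orderOf (Φ ⟨g', hg'N⟩) ∣ Nat.gcd (orderOf g) (2 ^ k) :=
          Nat.dvd_gcd (orderOf_dvd_of_pow_eq_one hmm) (orderOf_dvd_of_pow_eq_one hk')
        rw [(Nat.Coprime.pow_right k hgo).gcd_eq_one, Nat.dvd_one, orderOf_eq_one_iff] at h3
        have h4 : (⟨g', hg'N⟩ : normalizer (Q' : Set X)) ∈ Φ.ker := h3
        rw [hΦ, normalizerMonoidHom_ker, mem_subgroupOf] at h4
        exact h4
      rw [hQ', centralizer_cj, hg', conj_mem_cj_iff] at hcen
      exact hcen
    have hnd := not_dvd_card_pResidual_of_frobCond (p := 2) (Nat.card X) X rfl hF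
    exact (exists_normal_complement_iff_not_dvd_card_pResidual S).mpr hnd

end Cfsg.Agent.S1254
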