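import Cfsg.Statements.S1255
import Cfsg.Agent.Lib.Helper4.DihedralSylow
import Cfsg.Agent.Lib.Helper4.KleinOf
import Cfsg.Agent.Lib.Helper20.KleinAct

set_option autoImplicit false
open Cfsg

namespace Cfsg.Agent.S1255

open DihedralGroup Cfsg.Agent.Lib.Helper4 Cfsg.Agent.Lib.Helper4.DF Cfsg.Agent.Lib.Helper4.DS

/-- non-identity elements of a Klein four-subgroup whose automizer has order divisible by 3 are
conjugate. -/
theorem klein_conj {X : Type*} [Group X] [Finite X] (U : Subgroup X) (hU : IsKleinFour U)
    (h3 : 3 ∣ (Subgroup.centralizer (U : Set X)).relIndex (Subgroup.normalizer (U : Set X)))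
    (u v : X) (hu : u ∈ U) (hv : v ∈ U) (hu1 : u ≠ 1) (hv1 : v ≠ 1) : IsConj u v := by
  have hker : 3 ∣ (U.normalizerMonoidHom).ker.index := by
    rw [Subgroup.normalizerMonoidHom_ker]
    exact h3
  obtain ⟨w, hw⟩ := Cfsg.Agent.Lib.Helper20.kleinAct_transitive (U.normalizerMonoidHom) hker
    ⟨u, hu⟩ ⟨v, hv⟩ (fun h => hu1 (congrArg Subtype.val h)) (fun h => hv1 (congrArg Subtype.val h))
  have := congrArg Subtype.val hw
  rw [isConj_iff]
  exact ⟨w, this⟩

/-- Let X be a finite group whose Sylow 2-subgroup S is dihedral of order 2m ≥ 4. Then X has no subgroup of index 2 and no isolated involution if and only if either all involutions of X are conjugate, or for every Klein four-subgroup U ≤ S the index |N_X(U) : C_X(U)| equals 3 when |S| = 4 and equals 6 when |S| > 4. -/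
theorem result {X : Type*} [Group X] [Finite X] (S : Sylow 2 X) (m : ℕ) (hm : 2 ≤ m) (eS : (S : Subgroup X) ≃* DihedralGroup m) : ((∀ H : Subgroup X, H.index ≠ 2) ∧ (∀ z : X, ¬ Cfsg.IsIsolatedInvolution z)) ↔ ((∀ a b : X, orderOf a = 2 → orderOf b = 2 → IsConj a b) ∨ (∀ U : Subgroup X, U ≤ S → IsKleinFour U → (Subgroup.centralizer (U : Set X)).relIndex (Subgroup.normalizer (U : Set X)) = (if Nat.card S = 4 then 3 else 6))) := by
  classical
  have : Fact (Nat.Prime 2) := ⟨Nat.prime_two⟩
  have hm2 := hm
  have hScard : Nat.card (S : Subgroup X) = 2 * m := by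
    rw [Nat.card_congr eS.toEquiv, DihedralGroup.nat_card]
  have hmeven : Even m := by
    obtain ⟨k, hk⟩ := S.2.exists_card_eq
    rw [hScard] at hk
    rcases k with _ | _ | k
    · omega
    · omega
    · rw [pow_succ, pow_succ] at hk
      exact ⟨2 ^ k, by omega⟩
  let ι : DihedralGroup m →* X := (S : Subgroup X).subtype.comp eS.symm.toMonoidHom
  have hι : Function.Injective ι := by
    intro a b hab
    exact eS.symm.injective (Subtype.val_injective hab)
  have hP : (S : Subgroup X) = ι.range := by
    rw [MonoidHom.range_comp, MonoidHom.range_eq_top_of_surjective _ eS.symm.surjective,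
      ← MonoidHom.range_eq_map, Subgroup.range_subtype]
  have hab : (r 1 * sr 0 : DihedralGroup m) = sr (-1) := by rw [r_mul_sr, zero_sub]
  -- all involutions conjugate from the two fusions
  have hall_of : IsConj (ι (zc m)) (ι (sr 0)) → IsConj (ι (zc m)) (ι (r 1 * sr 0)) →
      ∀ a b : X, orderOf a = 2 → orderOf b = 2 → IsConj a b := by
    intro hF1 hF2
    have hz : ∀ t : X, orderOf t = 2 → IsConj t (ι (zc m)) := by
      intro t ht
      rcases invol_rep ι S hP hι hm2 t ht with h | h | h
      · exact h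
      · exact h.trans hF1.symm
      · exact h.trans hF2.symm
    intro s t hs ht
    exact (hz s hs).trans (hz t ht).symm
  -- consequences of all involutions being conjugate
  have hL : (∀ a b : X, orderOf a = 2 → orderOf b = 2 → IsConj a b) →
      (∀ H : Subgroup X, H.index ≠ 2) ∧ (∀ z : X, ¬ Cfsg.IsIsolatedInvolution z) := by
    intro hall
    refine ⟨?_, ?_⟩
    · intro H hH
      have hn : H.Normal := Subgroup.normal_of_index_eq_two hH
      exact no_index_two_of_all_conj ι S hP hι hmeven hm2 hall H hn hH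
    · rintro z' ⟨hz2, hiso⟩
      obtain ⟨c, hc⟩ := isConj_iff.mp (hall z' (ι (zc m)) hz2 (orderOf_z ι hι hmeven hm2))
      obtain ⟨d, hd⟩ := isConj_iff.mp (hall z' (ι (sr 0)) hz2 (orderOf_b ι hι))
      have hcomm : ι (sr 0) * ι (zc m) = ι (zc m) * ι (sr 0) :=
        z_central ι hmeven _ ⟨_, rfl⟩
      have h1 : Commute z' ((c⁻¹ * d) * z' * (c⁻¹ * d)⁻¹) := by
        have e1 : z' = c⁻¹ * ι (zc m) * c := by rw [← hc]; group
        have e2 : (c⁻¹ * d) * z' * (c⁻¹ * d)⁻¹ = c⁻¹ * ι (sr 0) * c := by rw [← hd]; group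
        rw [e2]
        show z' * (c⁻¹ * ι (sr 0) * c) = (c⁻¹ * ι (sr 0) * c) * z'
        rw [e1]
        calc c⁻¹ * ι (zc m) * c * (c⁻¹ * ι (sr 0) * c)
            = c⁻¹ * (ι (zc m) * ι (sr 0)) * c := by group
          _ = c⁻¹ * (ι (sr 0) * ι (zc m)) * c := by rw [hcomm]
          _ = c⁻¹ * ι (sr 0) * c * (c⁻¹ * ι (zc m) * c) := by group
      have h2 := hiso _ h1
      have e2 : (c⁻¹ * d) * z' * (c⁻¹ * d)⁻¹ = c⁻¹ * ι (sr 0) * c := by rw [← hd]; group
      have e1 : z' = c⁻¹ * ι (zc m) * c := by rw [← hc]; group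
      rw [e2] at h2
      have e3 : c⁻¹ * ι (sr 0) * c = c⁻¹ * ι (zc m) * c := h2.trans e1
      have h3 : ι (sr 0) = ι (zc m) := by
        rw [mul_assoc, mul_assoc] at e3
        exact mul_right_cancel (mul_left_cancel e3)
      exact zc_ne_sr 0 (hι h3).symm
  constructor
  · rintro ⟨hno2, -⟩
    left
    apply hall_of
    · by_contra hF
      obtain ⟨M, -, hM⟩ := exists_index_two ι S hP hι hm2 0 hF
      exact hno2 M hM
    · by_contra hF
      rw [hab] at hF
      obtain ⟨M, -, hM⟩ := exists_index_two ι S hP hι hm2 (-1) hF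
      exact hno2 M hM
  · rintro (hall | hR)
    · exact hL hall
    · apply hL
      have hz1 : ι (zc m) ≠ 1 := by
        intro h
        have := orderOf_z ι hι hmeven hm2
        rw [h, orderOf_one] at this
        omega
      have hzz : ι (zc m) * ι (zc m) = 1 := by
        have := orderOf_z ι hι hmeven hm2
        rw [← sq, ← this]; exact pow_orderOf_eq_one _
      have key : ∀ i : ZMod m, IsConj (ι (zc m)) (ι (sr i)) := by
        intro i
        have hb1 : ι (sr i) ≠ 1 := by
          intro h
          have : orderOf (ι (sr i)) = 2 := by rw [orderOf_injective ι hι]; exact orderOf_sr i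
          rw [h, orderOf_one] at this
          omega
        have hbb : ι (sr i) * ι (sr i) = 1 := by
          rw [← map_mul, sr_mul_self, map_one]
        have hcomm : ι (zc m) * ι (sr i) = ι (sr i) * ι (zc m) :=
          (z_central ι hmeven _ ⟨_, rfl⟩).symm
        have hne : ι (zc m) ≠ ι (sr i) := fun h => zc_ne_sr i (hι h)
        set U := kleinOf hzz hbb hcomm with hUdef
        have hUK : IsKleinFour U := isKleinFour_kleinOf hzz hbb hcomm hz1 hb1 hne
        have hUS : U ≤ (S : Subgroup X) := by
          intro g hg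
          rw [hP]
          rcases (mem_kleinOf hzz hbb hcomm g).mp hg with rfl | rfl | rfl | rfl
          · exact Subgroup.one_mem _
          · exact ⟨_, rfl⟩
          · exact ⟨_, rfl⟩
          · exact ⟨_, (map_mul ι _ _)⟩
        have h3 : 3 ∣ (Subgroup.centralizer (U : Set X)).relIndex
            (Subgroup.normalizer (U : Set X)) := by
          rw [hR U hUS hUK]
          split_ifs
          · exact dvd_refl 3
          · exact ⟨2, rfl⟩
        exact klein_conj U hUK h3 _ _ (left_mem_kleinOf hzz hbb hcomm)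
          (right_mem_kleinOf hzz hbb hcomm) hz1 hb1
      apply hall_of
      · exact key 0
      · rw [hab]; exact key (-1)

end Cfsg.Agent.S1255
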