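import Cfsg.Statements.S1256
import Cfsg.Agent.Lib.Helper4.DihedralAlperin
import Cfsg.Agent.Lib.Helper4.KleinOf

set_option autoImplicit false
open Cfsg

namespace Cfsg.Agent.S1256

open DihedralGroup Cfsg.Agent.Lib.Helper4 Cfsg.Agent.Lib.Helper4.DF Cfsg.Agent.Lib.Helper4.DS
  Cfsg.Agent.Lib.Helper33

theorem klein_isPGroup {X : Type*} [Group X] (U : Subgroup X) (hU : IsKleinFour U) :
    IsPGroup 2 U := by
  have : Fact (Nat.Prime 2) := ⟨Nat.prime_two⟩
  exact IsPGroup.of_card (n := 2) (by rw [hU.card_four]; norm_num)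

theorem klein_eq_sylow {X : Type*} [Group X] [Finite X] (S : Sylow 2 X)
    (h4 : Nat.card (S : Subgroup X) = 4) (U : Subgroup X) (hU : IsKleinFour U) :
    ∃ Q : Sylow 2 X, (Q : Subgroup X) = U := by
  have : Fact (Nat.Prime 2) := ⟨Nat.prime_two⟩
  obtain ⟨Q, hQ⟩ := (klein_isPGroup U hU).exists_le_sylow
  refine ⟨Q, ?_⟩
  symm
  apply Subgroup.eq_of_le_of_card_ge hQ
  rw [hU.card_four, Q.card_eq_multiplicity, ← S.card_eq_multiplicity, h4]

/-- Let X be a finite group whose Sylow 2-subgroup S is dihedral of order 2m ≥ 4. If |S| = 4, any two Klein four-subgroups of X are conjugate; if |S| > 4, there are Klein four-subgroups U₁, U₂ of X that are not conjugate, and every Klein four-subgroup of X is conjugate to U₁ or to U₂. -/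
theorem result {X : Type*} [Group X] [Finite X] (S : Sylow 2 X) (m : ℕ) (hm : 2 ≤ m) (eS : (S : Subgroup X) ≃* DihedralGroup m) : (Nat.card S = 4 → ∀ U V : Subgroup X, IsKleinFour U → IsKleinFour V → (∃ x : X, U.map (MulAut.conj x).toMonoidHom = V)) ∧ (4 < Nat.card S → ∃ U₁ U₂ : Subgroup X, IsKleinFour U₁ ∧ IsKleinFour U₂ ∧ ¬ (∃ x : X, U₁.map (MulAut.conj x).toMonoidHom = U₂) ∧ ∀ V : Subgroup X, IsKleinFour V → (∃ x : X, V.map (MulAut.conj x).toMonoidHom = U₁) ∨ (∃ x : X, V.map (MulAut.conj x).toMonoidHom = U₂)) := by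
  classical
  have : Fact (Nat.Prime 2) := ⟨Nat.prime_two⟩
  have hm2 := hm
  have hScard : Nat.card (S : Subgroup X) = 2 * m := by
    rw [Nat.card_congr eS.toEquiv, DihedralGroup.nat_card]
  constructor
  · intro h4 U V hU hV
    obtain ⟨Q, hQ⟩ := klein_eq_sylow S h4 U hU
    obtain ⟨Q', hQ'⟩ := klein_eq_sylow S h4 V hV
    obtain ⟨g, hg⟩ := MulAction.exists_smul_eq X Q Q'
    refine ⟨g, ?_⟩
    rw [← hQ, ← hQ', ← hg, Sylow.coe_subgroup_smul, ← cj_eq_smul]
    rfl
  · intro hgt
    -- m is a power of two, at least 4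
    obtain ⟨k, hk⟩ := S.2.exists_card_eq
    have hSc : Nat.card S = Nat.card (S : Subgroup X) := rfl
    rw [hSc, hScard] at hgt
    rw [hScard] at hk
    have h4m : 4 ∣ m := by
      rcases k with _ | _ | _ | k
      · omega
      · omega
      · omega
      · refine ⟨2 ^ k, ?_⟩
        have : 2 ^ (k + 1 + 1 + 1) = 8 * 2 ^ k := by ring
        omega
    have hmeven : Even m := by
      obtain ⟨c, hc⟩ := h4m
      exact ⟨2 * c, by omega⟩
    let ι : DihedralGroup m →* X := (S : Subgroup X).subtype.comp eS.symm.toMonoidHom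
    have hι : Function.Injective ι := by
      intro a b hab
      exact eS.symm.injective (Subtype.val_injective hab)
    have hP : (S : Subgroup X) = ι.range := by
      rw [MonoidHom.range_comp, MonoidHom.range_eq_top_of_surjective _ eS.symm.surjective,
        ← MonoidHom.range_eq_map, Subgroup.range_subtype]
    have hab : (r 1 * sr 0 : DihedralGroup m) = sr (-1) := by rw [r_mul_sr, zero_sub]
    have hz1 : ι (zc m) ≠ 1 := by
      intro h
      have := orderOf_z ι hι hmeven hm2
      rw [h, orderOf_one] at this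
      omega
    have hzz : ι (zc m) * ι (zc m) = 1 := by
      have := orderOf_z ι hι hmeven hm2
      rw [← sq, ← this]; exact pow_orderOf_eq_one _
    have hb1 : ∀ i : ZMod m, ι (sr i) ≠ 1 := by
      intro i h
      have : orderOf (ι (sr i)) = 2 := by rw [orderOf_injective ι hι]; exact orderOf_sr i
      rw [h, orderOf_one] at this
      omega
    have hbb : ∀ i : ZMod m, ι (sr i) * ι (sr i) = 1 := by
      intro i
      rw [← map_mul, sr_mul_self, map_one]
    have hcomm : ∀ i : ZMod m, ι (zc m) * ι (sr i) = ι (sr i) * ι (zc m) :=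
      fun i => (z_central ι hmeven _ ⟨_, rfl⟩).symm
    have hne : ∀ i : ZMod m, ι (zc m) ≠ ι (sr i) := fun i h => zc_ne_sr i (hι h)
    -- the two four-groups
    let W : ZMod m → Subgroup X := fun i => kleinOf hzz (hbb i) (hcomm i)
    have hWK : ∀ i, IsKleinFour (W i) :=
      fun i => isKleinFour_kleinOf hzz (hbb i) (hcomm i) hz1 (hb1 i) (hne i)
    have hWS : ∀ i, W i ≤ (S : Subgroup X) := by
      intro i g hg
      rw [hP]
      rcases (mem_kleinOf hzz (hbb i) (hcomm i) g).mp hg with rfl | rfl | rfl | rfl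
      · exact Subgroup.one_mem _
      · exact ⟨_, rfl⟩
      · exact ⟨_, rfl⟩
      · exact ⟨_, (map_mul ι _ _)⟩
    refine ⟨W 0, W (-1), hWK 0, hWK (-1), ?_, ?_⟩
    · -- non-conjugacy
      rintro ⟨x, hx⟩
      obtain ⟨s, hs, hs'⟩ := klein_conj_in_sylow ι S hP hι (W 0) (W (-1)) (hWK 0) (hWS 0)
        (hWS (-1)) x hx
      have hb0 : ι (sr 0) ∈ ((W 0 : Subgroup X) : Set X) := right_mem_kleinOf hzz (hbb 0) (hcomm 0)
      have h1 : s⁻¹ * ι (sr 0) * s ∈ ((W (-1) : Subgroup X) : Set X) := by
        rw [hs']; exact conj_mem_rc hb0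
      rw [hP] at hs
      obtain ⟨d, rfl⟩ := hs
      obtain ⟨k', hk'⟩ := conj_sr_zero_form (d⁻¹)
      rw [inv_inv] at hk'
      have h2 : (ι d)⁻¹ * ι (sr 0) * ι d = ι (sr (2 * k')) := by
        rw [← map_inv, ← map_mul, ← map_mul, hk']
      rw [h2] at h1
      have key := two_mul_ne_one hmeven
      rcases (mem_kleinOf hzz (hbb (-1)) (hcomm (-1)) _).mp h1 with h | h | h | h
      · exact hb1 _ h
      · exact hne _ h.symm
      · have := sr.inj (hι h)
        apply key (-k')
        linear_combination -this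
      · rw [← map_mul] at h
        have h3 := hι h
        unfold zc at h3
        rw [r_mul_sr] at h3
        have h4 := sr.inj h3
        obtain ⟨c, hc⟩ := h4m
        have h5 : m / 2 = 2 * c := by omega
        rw [h5] at h4
        push_cast at h4
        apply key (-k' - c)
        linear_combination -h4
    · -- every four-group is conjugate to one of them
      intro V hV
      have hV2 := klein_isPGroup V hV
      obtain ⟨h, hh⟩ := exists_conj_mem_sylow S V hV2
      set V' := cj h⁻¹ V with hV'
      have hV'K : IsKleinFour V' := isKleinFour_of_mulEquiv' (cjEquiv h⁻¹ V) hV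
      have hV'S : V' ≤ (S : Subgroup X) := by
        intro y hy
        obtain ⟨w, hw, rfl⟩ := mem_cj'.mp hy
        have := hh w hw
        rwa [inv_inv]
      have hV'r : V' ≤ ι.range := hP ▸ hV'S
      have hzV' : ι (zc m) ∈ V' := z_mem_of_kleinFour ι hι hm2 V' hV'r hV'K
      have : Finite V' := Nat.finite_of_card_ne_zero (by rw [hV'K.card_four]; norm_num)
      obtain ⟨t, htV, ht1, htz⟩ : ∃ t ∈ V', t ≠ 1 ∧ t ≠ ι (zc m) := by
        by_contra hcon
        push Not at hcon
        have hle : V' ≤ Subgroup.zpowers (ι (zc m)) := by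
          intro y hy
          by_cases hy1 : y = 1
          · rw [hy1]; exact Subgroup.one_mem _
          · rw [hcon y hy hy1]; exact Subgroup.mem_zpowers _
        have h1 := Subgroup.card_le_of_le hle
        rw [hV'K.card_four, Nat.card_zpowers, orderOf_z ι hι hmeven hm2] at h1
        omega
      have ht2 : orderOf t = 2 := by
        apply orderOf_eq_prime _ ht1
        have h := Monoid.pow_exponent_eq_one (⟨t, htV⟩ : V')
        rw [hV'K.exponent_two] at h
        have := congrArg Subtype.val h
        rw [Subgroup.coe_pow, Subgroup.coe_one] at this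
        exact this
      have finish : ∀ (i : ZMod m) (s : X), s ∈ ι.range → s * t * s⁻¹ = ι (sr i) →
          ∃ x : X, V.map (MulAut.conj x).toMonoidHom = W i := by
        intro i s hs hst
        refine ⟨s * h⁻¹, ?_⟩
        have e1 : V.map (MulAut.conj (s * h⁻¹)).toMonoidHom = cj s V' := by
          rw [hV', ← cj_mul]; rfl
        rw [e1]
        symm
        have hWi : W i ≤ cj s V' := by
          intro g hg
          have hzc : ι (zc m) ∈ cj s V' := by
            have := conj_mem_cj (g := s) hzV'
            rwa [z_central ι hmeven s hs, mul_inv_cancel_right] at this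
          have hbc : ι (sr i) ∈ cj s V' := by
            rw [← hst]; exact conj_mem_cj htV
          rcases (mem_kleinOf hzz (hbb i) (hcomm i) g).mp hg with rfl | rfl | rfl | rfl
          · exact Subgroup.one_mem _
          · exact hzc
          · exact hbc
          · exact Subgroup.mul_mem _ hzc hbc
        have : Finite (cj s V') :=
          Nat.finite_of_card_ne_zero (by rw [card_cj, hV'K.card_four]; norm_num)
        apply Subgroup.eq_of_le_of_card_ge hWi
        rw [card_cj, hV'K.card_four, (hWK i).card_four]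
      rcases invol_cases ι hι hm2 t (hV'r htV) ht2 with h | ⟨s, hs, hst⟩ | ⟨s, hs, hst⟩
      · exact absurd h htz
      · exact Or.inl (finish 0 s hs hst)
      · exact Or.inr (finish (-1) s hs (by rw [hst, hab]))

end Cfsg.Agent.S1256
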