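import Cfsg.Statements.S1264
import Cfsg.Agent.Lib.Helper22.FStar
-- import your own Cfsg.Agent.* helpers here

set_option autoImplicit false
open Cfsg

namespace Cfsg.Agent.S1264

section aux

variable {G : Type*} [Group G]

/-- Iterated derived subgroups of a subgroup, computed inside `G`. -/
def dser (N : Subgroup G) : ℕ → Subgroup G
  | 0 => N
  | k + 1 => ⁅dser N k, dser N k⁆

theorem dser_eq_map (N : Subgroup G) (k : ℕ) :
    dser N k = (derivedSeries ↥N k).map N.subtype := by
  induction k with
  | zero =>
    simp only [dser, derivedSeries_zero]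
    rw [← MonoidHom.range_eq_map, Subgroup.range_subtype]
  | succ k ih =>
    rw [dser, ih, derivedSeries_succ, Subgroup.map_commutator]

theorem dser_normalizer (N C : Subgroup G) (h : C ≤ Subgroup.normalizer (N : Set G)) (k : ℕ) :
    C ≤ Subgroup.normalizer (dser N k : Set G) := by
  induction k with
  | zero => exact h
  | succ k ih =>
    intro c hc
    have hck := ih hc
    rw [Subgroup.mem_normalizer_iff''] at hck ⊢
    -- conjugation by c⁻¹ preserves dser N k, hence its commutator
    have hmap : (dser N k).map (MulAut.conj c⁻¹).toMonoidHom = dser N k := by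
      ext x
      constructor
      · rintro ⟨y, hy, rfl⟩
        simpa using (hck y).1 hy
      · intro hx
        refine ⟨c * x * c⁻¹, ?_, by simp [mul_assoc]⟩
        have := (hck (c * x * c⁻¹)).2
        apply this
        simpa [mul_assoc] using hx
    intro x
    show x ∈ ⁅dser N k, dser N k⁆ ↔ c⁻¹ * x * c ∈ ⁅dser N k, dser N k⁆
    have hmap2 : (⁅dser N k, dser N k⁆).map (MulAut.conj c⁻¹).toMonoidHom
        = ⁅dser N k, dser N k⁆ := by
      rw [Subgroup.map_commutator, hmap]
    constructor
    · intro hx
      have : (MulAut.conj c⁻¹).toMonoidHom x ∈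
          (⁅dser N k, dser N k⁆).map (MulAut.conj c⁻¹).toMonoidHom := ⟨x, hx, rfl⟩
      rw [hmap2] at this
      simpa using this
    · intro hx
      have : c⁻¹ * x * c ∈ (⁅dser N k, dser N k⁆).map (MulAut.conj c⁻¹).toMonoidHom := by
        rw [hmap2]; exact hx
      obtain ⟨y, hy, hyx⟩ := this
      have : y = x := by
        have h1 : c⁻¹ * y * c = c⁻¹ * x * c := by simpa using hyx
        have h2 := congrArg (fun z => c * z * c⁻¹) h1
        simpa [mul_assoc] using h2
      rw [← this]; exact hy

open Cfsg.Agent.Lib.Helper22 in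
theorem step [Finite G] (M : Subgroup G)
    (hM : M ≤ Subgroup.centralizer (Cfsg.fittingSubgroup G : Set G))
    (hnorm : Subgroup.centralizer (Cfsg.fittingSubgroup G : Set G) ≤ Subgroup.normalizer (M : Set G))
    (hcomm : ⁅M, M⁆ ≤ Cfsg.fittingSubgroup G) : M ≤ Cfsg.fittingSubgroup G := by
  have hFn : (Cfsg.fittingSubgroup G).Normal := fittingSubgroup_normal G
  have hCn : (Subgroup.centralizer (Cfsg.fittingSubgroup G : Set G)).Normal :=
    Subgroup.normal_centralizer
  apply subnormal_nilpotent_le_fitting
  · -- subnormal
    refine Subgroup.IsSubnormal.trans hM ?_ hCn.isSubnormal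
    apply Subgroup.Normal.isSubnormal
    exact (Subgroup.normal_subgroupOf_iff_le_normalizer hM).mpr hnorm
  · -- nilpotent
    apply isNilpotent_of_commutator_le_center
    intro x hx
    have hxF : (x : G) ∈ Cfsg.fittingSubgroup G := by
      apply hcomm
      have : (x : G) ∈ (commutator ↥M).map M.subtype := ⟨x, hx, rfl⟩
      rw [commutator_def, Subgroup.map_commutator, ← MonoidHom.range_eq_map,
        Subgroup.range_subtype] at this
      exact this
    rw [Subgroup.mem_center_iff]
    intro y
    apply Subtype.ext
    have := hM y.2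
    rw [Subgroup.mem_centralizer_iff] at this
    simpa using (this (x : G) hxF).symm

end aux

/-- Let G be finite, C = C_G(F(G)) the centralizer of the Fitting subgroup, and N a solvable subgroup of C normalized by C. Then N ≤ Z(F(G)). -/
theorem result {G : Type*} [Group G] [Finite G] (N : Subgroup G) (hN : N ≤ Subgroup.centralizer (Cfsg.fittingSubgroup G : Set G)) (hnorm : Subgroup.centralizer (Cfsg.fittingSubgroup G : Set G) ≤ Subgroup.normalizer (N : Set G)) (hsolv : Group.IsSolvable ↥N) : N ≤ (Subgroup.center ↥(Cfsg.fittingSubgroup G)).map (Cfsg.fittingSubgroup G).subtype := by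
  -- first: N ≤ F(G)
  have hdle : ∀ k, dser N k ≤ N := by
    intro k
    rw [dser_eq_map]
    exact Subgroup.map_subtype_le _
  have key : ∀ k, dser N (k + 1) ≤ Cfsg.fittingSubgroup G → dser N k ≤ Cfsg.fittingSubgroup G := by
    intro k hk
    exact step (dser N k) ((hdle k).trans hN) (dser_normalizer N _ hnorm k) hk
  obtain ⟨n, hn⟩ := hsolv.solvable
  have hbot : dser N n ≤ Cfsg.fittingSubgroup G := by
    rw [dser_eq_map, hn, Subgroup.map_bot]
    exact bot_le
  have hall : ∀ j, j ≤ n → dser N (n - j) ≤ Cfsg.fittingSubgroup G := by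
    intro j
    induction j with
    | zero => intro _; simpa using hbot
    | succ j ih =>
      intro hj
      apply key
      have : n - (j + 1) + 1 = n - j := by omega
      rw [this]
      exact ih (by omega)
  have hNF : N ≤ Cfsg.fittingSubgroup G := by
    have := hall n le_rfl
    simpa [dser] using this
  intro x hx
  refine ⟨⟨x, hNF hx⟩, ?_, rfl⟩
  rw [SetLike.mem_coe, Subgroup.mem_center_iff]
  intro y
  apply Subtype.ext
  have := hN hx
  rw [Subgroup.mem_centralizer_iff] at this
  simpa using this (y : G) y.2

end Cfsg.Agent.S1264
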