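import Cfsg.Statements.S1271
import Cfsg.Agent.Lib.Helper22.Bal

set_option autoImplicit false
open Cfsg

namespace Cfsg.Agent.S1271

/-- Let G be finite with O_{p'}(G) = 1. Suppose that for every component L of G and every subgroup H ≥ L in which L is normal, the quotient H / C_H(L) is balanced for the prime p. Then G is balanced for p. -/
theorem result {G : Type*} [Group G] [Finite G] (p : ℕ) [Fact p.Prime] (hO : Cfsg.pPrimeCore p G = ⊥) (h : ∀ L : Subgroup G, Cfsg.IsComponent L → ∀ H : Subgroup G, L ≤ H → (L.subgroupOf H).Normal → ∀ [((Subgroup.centralizer (L : Set G)).subgroupOf H).Normal], Cfsg.IsBalancedFor p (↥H ⧸ (Subgroup.centralizer (L : Set G)).subgroupOf H)) : Cfsg.IsBalancedFor p G := by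
  classical
  intro x hx
  have hlp := Cfsg.Agent.Lib.Helper22.Bal.localPrime_cppc (p := p) hx
  suffices hD : Cfsg.centralizerPPrimeCore p x = ⊥ by rw [hD]; exact bot_le
  apply Cfsg.Agent.Lib.Helper22.Bal.delta_eq_bot hO (S := {x}) ⟨x, rfl⟩
  · intro a ha; rw [Set.mem_singleton_iff.mp ha]; exact hx
  · intro a ha; rw [Set.mem_singleton_iff.mp ha]
  intro L hL hS
  obtain ⟨hxL, hxC⟩ := hS x rfl
  have hDL : Cfsg.centralizerPPrimeCore p x ≤ Subgroup.normalizer (L : Set G) :=
    hlp.le_normalizer_component hO hL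
  have hBL : Subgroup.zpowers x ≤ Subgroup.normalizer (L : Set G) := Subgroup.zpowers_le.mpr hxL
  obtain ⟨H, hH⟩ : ∃ H : Subgroup G, H = L ⊔ (Cfsg.centralizerPPrimeCore p x ⊔ Subgroup.zpowers x) :=
    ⟨_, rfl⟩
  have hLH : L ≤ H := hH ▸ le_sup_left
  have hDH : Cfsg.centralizerPPrimeCore p x ≤ H := hH ▸ le_trans le_sup_left le_sup_right
  have hxH : x ∈ H := hH ▸ (Subgroup.mem_sup_right (Subgroup.mem_sup_right (Subgroup.mem_zpowers x)))
  have hHL : H ≤ Subgroup.normalizer (L : Set G) :=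
    hH ▸ sup_le Subgroup.le_normalizer (sup_le hDL hBL)
  have hLn : (L.subgroupOf H).Normal := (Subgroup.normal_subgroupOf_iff_le_normalizer hLH).mpr hHL
  haveI hCn : ((Subgroup.centralizer (L : Set G)).subgroupOf H).Normal := by
    refine ⟨fun c hc g => ?_⟩
    rw [Subgroup.mem_subgroupOf] at hc ⊢
    have hg : (g : G) ∈ Subgroup.normalizer (L : Set G) := hHL g.2
    have h1 : Cfsg.Agent.Lib.Helper33.cj (g : G) (Subgroup.centralizer (L : Set G)) =
        Subgroup.centralizer (L : Set G) := by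
      rw [← Cfsg.Agent.Lib.Helper33.centralizer_cj,
        Cfsg.Agent.Lib.Helper33.cj_eq_self_iff.mpr hg]
    have h2 : (g : G) * (c : G) * (g : G)⁻¹ ∈
        Cfsg.Agent.Lib.Helper33.cj (g : G) (Subgroup.centralizer (L : Set G)) :=
      Cfsg.Agent.Lib.Helper33.mem_cj'.mpr ⟨_, hc, rfl⟩
    rw [h1] at h2
    simpa using h2
  have hbal := h L hL H hLH hLn
  have hφ : Function.Surjective (QuotientGroup.mk' ((Subgroup.centralizer (L : Set G)).subgroupOf H)) :=
    QuotientGroup.mk'_surjective _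
  have hker : (QuotientGroup.mk' ((Subgroup.centralizer (L : Set G)).subgroupOf H)).ker =
      (Subgroup.centralizer (L : Set G)).subgroupOf H := QuotientGroup.ker_mk' _
  have hne : QuotientGroup.mk' ((Subgroup.centralizer (L : Set G)).subgroupOf H) ⟨x, hxH⟩ ≠ 1 := by
    intro h1
    rw [← MonoidHom.mem_ker, hker, Subgroup.mem_subgroupOf] at h1
    exact hxC h1
  have hord : orderOf (QuotientGroup.mk' ((Subgroup.centralizer (L : Set G)).subgroupOf H)
      ⟨x, hxH⟩) = p := by
    apply orderOf_eq_prime _ hne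
    rw [← map_pow]
    have : (⟨x, hxH⟩ : ↥H) ^ p = 1 := by
      apply Subtype.ext
      simp only [Subgroup.coe_pow, Subgroup.coe_one]
      rw [← hx]; exact pow_orderOf_eq_one x
    rw [this, map_one]
  have h1 := Cfsg.Agent.Lib.Helper22.Bal.image_le_cppc hO hx (le_refl _)
    (B := Subgroup.zpowers x)
    (by
      rw [Subgroup.zpowers_le, Subgroup.mem_centralizer_singleton_iff])
    (by
      rw [Subgroup.zpowers_le]
      exact Cfsg.Agent.S1861.cppc_normalizer x x rfl)
    hL hBL hxL hH _ hφ hker hxH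
  have h2 := hbal _ hord
  have h3 := Cfsg.Agent.Lib.Helper22.Bal.pPrimeCore_eq_bot_of_ker (p := p) hL.2
    (Cfsg.Agent.Lib.Helper54.component_not_coprime' p hO hL) hLH hHL _ hφ hker
  rw [h3] at h2
  have h4 := le_trans h1 h2
  intro d hd
  have h5 : QuotientGroup.mk' ((Subgroup.centralizer (L : Set G)).subgroupOf H) ⟨d, hDH hd⟩ ∈
      (⊥ : Subgroup _) := h4 (Subgroup.mem_map_of_mem _ (Subgroup.mem_subgroupOf.mpr hd))
  rw [Subgroup.mem_bot, ← MonoidHom.mem_ker, hker, Subgroup.mem_subgroupOf] at h5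
  exact h5

end Cfsg.Agent.S1271
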