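import Cfsg.Statements.S1276
import Cfsg.Agent.Lib.Helper23.PComponentQuot

set_option autoImplicit false
open Cfsg

namespace Cfsg.Agent.S1276

open Cfsg.Agent.Lib.Helper23

/-- Let K be a 2-component of the finite group X. Then K is quasisimple if and only if ⁅K, O(K)⁆ = 1. -/
theorem result {X : Type*} [Group X] [Finite X] (K : Subgroup X) (hK : Cfsg.IsPComponent 2 K) : Cfsg.IsQuasisimple ↥K ↔ ⁅K, ((Cfsg.oddCore ↥K).map K.subtype)⁆ = ⊥ := by
  have hperf : Group.IsPerfect ↥K := isPComponent_isPerfect 2 hK
  constructor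
  · intro hq
    have hn : (pPrimeCore 2 ↥K).Normal := inferInstance
    rcases Cfsg.Agent.Lib.Helper21.quasisimple_subnormal hq hn.isSubnormal with h | h
    · exact absurd h (isPComponent_pPrimeCore_ne_top 2 hK)
    · rw [Subgroup.commutator_eq_bot_iff_le_centralizer]
      intro k hk
      rw [Subgroup.mem_centralizer_iff]
      intro x hx
      obtain ⟨y, hy, rfl⟩ := Subgroup.mem_map.mp hx
      have := Subgroup.mem_center_iff.mp (h hy) ⟨k, hk⟩
      have h2 := congrArg Subtype.val this
      simpa using h2.symm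
  · intro hc
    refine ⟨hperf, ?_⟩
    have hQ := isQuasisimple_quotient_pPrimeCore 2 hK
    apply Cfsg.Agent.S2019.quasisimple_of_central_ext (QuotientGroup.mk' (pPrimeCore 2 ↥K))
      (QuotientGroup.mk'_surjective _) ?_ hQ.2
    rw [QuotientGroup.ker_mk']
    intro a ha
    rw [Subgroup.mem_center_iff]
    intro k
    have hcz := Subgroup.commutator_eq_bot_iff_le_centralizer.1 hc
    have h1 := hcz k.2
    rw [Subgroup.mem_centralizer_iff] at h1
    have h2 := h1 (a : X) (Subgroup.mem_map_of_mem _ ha)
    exact Subtype.ext h2.symm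

end Cfsg.Agent.S1276
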