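import Cfsg.Statements.S1277
import Cfsg.Agent.S1272
import Cfsg.Agent.Lib.Helper23.PComponentQuot

set_option autoImplicit false
open Cfsg

namespace Cfsg.Agent.S1277

open Cfsg.Agent.Lib.Helper23

/-- the image of a component modulo a normal subgroup is trivial or a component -/
theorem component_map_mk' {G : Type*} [Group G] {K : Subgroup G} (hK : IsComponent K)
    (N : Subgroup G) [N.Normal] :
    K.map (QuotientGroup.mk' N) = ⊥ ∨ IsComponent (K.map (QuotientGroup.mk' N)) := by
  by_cases hbot : K.map (QuotientGroup.mk' N) = ⊥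
  · exact Or.inl hbot
  · right
    refine ⟨hK.1.map (QuotientGroup.mk'_surjective N), ?_⟩
    have hsurj : Function.Surjective ((QuotientGroup.mk' N).subgroupMap K) :=
      MonoidHom.subgroupMap_surjective _ _
    have hperfK : Group.IsPerfect ↥K := hK.2.1
    have hperf : Group.IsPerfect ↥(K.map (QuotientGroup.mk' N)) :=
      Group.IsPerfect.ofSurjective (f := (QuotientGroup.mk' N).subgroupMap K) hsurj
    have hnt : Nontrivial ↥(K.map (QuotientGroup.mk' N)) := by
      rw [Subgroup.nontrivial_iff_ne_bot]
      exact hbot
    apply isQuasisimple_of_normal_central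
    intro M hM
    have hMc : (M.comap ((QuotientGroup.mk' N).subgroupMap K)).Normal := inferInstance
    have hmc : (M.comap ((QuotientGroup.mk' N).subgroupMap K)).map ((QuotientGroup.mk' N).subgroupMap K) = M :=
      Subgroup.map_comap_eq_self_of_surjective hsurj M
    rcases Cfsg.Agent.Lib.Helper21.quasisimple_subnormal hK.2 hMc.isSubnormal with h | h
    · left
      rw [← hmc, h, Subgroup.map_top_of_surjective _ hsurj]
    · right
      intro m hm
      rw [← hmc] at hm
      obtain ⟨y, hy, rfl⟩ := Subgroup.mem_map.mp hm
      rw [Subgroup.mem_center_iff]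
      intro z
      obtain ⟨w, rfl⟩ := hsurj z
      rw [← map_mul, ← map_mul, Subgroup.mem_center_iff.mp (h hy) w]

theorem map_layer_le {X : Type*} [Group X] (N : Subgroup X) [N.Normal] :
    (layer X).map (QuotientGroup.mk' N) ≤ layer (X ⧸ N) := by
  rw [Subgroup.map_le_iff_le_comap]
  apply sSup_le
  intro J hJ
  rw [← Subgroup.map_le_iff_le_comap]
  rcases component_map_mk' hJ N with h | h
  · rw [h]; exact bot_le
  · exact le_sSup h

/-- For a finite group X with core O(X): the image of E(X) in X / O(X) is all of E(X / O(X)) if and only if every 2-component of X is a component, i.e. L_{2'}(X) ≤ E(X). -/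
theorem result {X : Type*} [Group X] [Finite X] : (Cfsg.layer X).map (QuotientGroup.mk' (Cfsg.oddCore X)) = Cfsg.layer (X ⧸ Cfsg.oddCore X) ↔ Cfsg.pLayer 2 X ≤ Cfsg.layer X := by
  constructor
  · intro hyp
    apply sSup_le
    intro K hK
    have hKbar : IsComponent (K.map (QuotientGroup.mk' (pPrimeCore 2 X))) := hK.2.1
    -- find a component J of X mapping onto Kbar
    have hex : ∃ J : Subgroup X, IsComponent J ∧
        J.map (QuotientGroup.mk' (pPrimeCore 2 X)) = K.map (QuotientGroup.mk' (pPrimeCore 2 X)) := by
      by_contra hno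
      push_neg at hno
      have hcent : (layer X).map (QuotientGroup.mk' (pPrimeCore 2 X)) ≤
          Subgroup.centralizer ((K.map (QuotientGroup.mk' (pPrimeCore 2 X)) : Subgroup _) : Set _) := by
        rw [Subgroup.map_le_iff_le_comap]
        apply sSup_le
        intro J hJ
        rw [← Subgroup.map_le_iff_le_comap]
        rcases component_map_mk' hJ (pPrimeCore 2 X) with h | h
        · rw [h]; exact bot_le
        · have hc := Cfsg.Agent.Lib.Helper91.component_commute_of_ne h hKbar (hno J hJ)
          intro x hx
          rw [Subgroup.mem_centralizer_iff]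
          intro y hy
          exact (hc x hx y hy).symm
      have hK_le : K.map (QuotientGroup.mk' (pPrimeCore 2 X)) ≤
          Subgroup.centralizer ((K.map (QuotientGroup.mk' (pPrimeCore 2 X)) : Subgroup _) : Set _) := by
        refine le_trans ?_ hcent
        have : (layer X).map (QuotientGroup.mk' (pPrimeCore 2 X)) = layer (X ⧸ pPrimeCore 2 X) := hyp
        rw [this]
        exact le_sSup hKbar
      have hperf : Group.IsPerfect ↥(K.map (QuotientGroup.mk' (pPrimeCore 2 X))) := hKbar.2.1
      have hnt := Cfsg.Agent.Lib.Helper21.quasisimple_nontrivial hKbar.2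
      apply Group.IsPerfect.not_isMulCommutative ↥(K.map (QuotientGroup.mk' (pPrimeCore 2 X)))
      refine ⟨⟨fun a b => ?_⟩⟩
      apply Subtype.ext
      have := Subgroup.mem_centralizer_iff.mp (hK_le a.2) b b.2
      simpa using this.symm
    obtain ⟨J, hJ, hJimg⟩ := hex
    -- J = pUp 2 J
    have hJodd : ¬ (Nat.card ↥J).Coprime 2 := by
      intro hc
      apply component_not_coprime 2 hKbar
      rw [← hJimg]
      exact Nat.Coprime.coprime_dvd_left (Subgroup.card_map_dvd _ _) hc
    have hJup : J ≤ pUp 2 J := by
      have hn : ((pUp 2 J).subgroupOf J).Normal := pUp_subgroupOf_normal 2 J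
      have := quasisimple_normal_coprime_index 2 hJ.2 hJodd ((pUp 2 J).subgroupOf J)
        (pUp_relIndex_coprime 2 J)
      rwa [Subgroup.subgroupOf_eq_top] at this
    have hJY : J ≤ (K.map (QuotientGroup.mk' (pPrimeCore 2 X))).comap (QuotientGroup.mk' (pPrimeCore 2 X)) := by
      rw [← hJimg]; exact Subgroup.le_comap_map _ _
    have hJK : J ≤ K := by
      rw [eq_pUp_of_isPComponent 2 hK]
      exact hJup.trans (pUp_mono 2 hJY)
    have : J = K := hK.2.2 J hJ.1 hJK hJimg
    rw [← this]
    exact le_sSup hJ
  · intro hyp
    apply le_antisymm (map_layer_le _)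
    have h2 := (Cfsg.Agent.S1272.result (X := X) 2).2
    calc layer (X ⧸ oddCore X) = (pLayer 2 X).map (QuotientGroup.mk' (pPrimeCore 2 X)) := h2.symm
      _ ≤ (layer X).map (QuotientGroup.mk' (oddCore X)) := Subgroup.map_mono hyp

end Cfsg.Agent.S1277
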