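import Cfsg.Statements.S1278
import Cfsg.Agent.S1276

set_option autoImplicit false
open Cfsg

namespace Cfsg.Agent.S1278

open Cfsg.Agent.Lib.Helper23
open scoped commutatorElement

theorem commutator_le_core {X : Type*} [Group X] [Finite X] (K L : Subgroup X)
    (hK : Cfsg.IsPComponent 2 K) (hL : Cfsg.IsPComponent 2 L) (hne : K ≠ L) :
    ⁅K, L⁆ ≤ (Cfsg.oddCore ↥K).map K.subtype := by
  have hne' : K.map (QuotientGroup.mk' (pPrimeCore 2 X)) ≠ L.map (QuotientGroup.mk' (pPrimeCore 2 X)) :=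
    fun h => hne (isPComponent_unique 2 hK hL h)
  have hc := Cfsg.Agent.Lib.Helper91.component_commute_of_ne hK.2.1 hL.2.1 hne'
  have hLK := isPComponent_le_normalizer 2 hK hL
  rw [Subgroup.commutator_le]
  intro k hk l hl
  have h1 : ⁅k, l⁆ ∈ K := by
    have h2 : l * k⁻¹ * l⁻¹ ∈ K := ((Subgroup.mem_normalizer_iff.mp (hLK hl)) k⁻¹).mp (K.inv_mem hk)
    have : ⁅k, l⁆ = k * (l * k⁻¹ * l⁻¹) := by rw [commutatorElement_def]; group
    rw [this]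
    exact K.mul_mem hk h2
  have h3 : ⁅k, l⁆ ∈ pPrimeCore 2 X := by
    rw [← QuotientGroup.eq_one_iff, ← QuotientGroup.mk'_apply, map_commutatorElement,
      commutatorElement_def]
    rw [hc _ (Subgroup.mem_map_of_mem _ hk) _ (Subgroup.mem_map_of_mem _ hl)]
    group
  have h4 : (⟨⁅k, l⁆, h1⟩ : ↥K) ∈ (pPrimeCore 2 X).subgroupOf K := Subgroup.mem_subgroupOf.mpr h3
  exact Subgroup.mem_map.mpr ⟨_, pPrimeCore_subgroupOf_le 2 K h4, rfl⟩

/-- Let K ≠ L be 2-components of the finite group X. Then ⁅K, L⁆ ≤ O(K) ⊓ O(L), and if K is quasisimple then ⁅K, L⁆ = 1. -/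
theorem result {X : Type*} [Group X] [Finite X] (K L : Subgroup X) (hK : Cfsg.IsPComponent 2 K) (hL : Cfsg.IsPComponent 2 L) (hne : K ≠ L) : ⁅K, L⁆ ≤ ((Cfsg.oddCore ↥K).map K.subtype) ⊓ ((Cfsg.oddCore ↥L).map L.subtype) ∧ (Cfsg.IsQuasisimple ↥K → ⁅K, L⁆ = ⊥) := by
  have h1 := commutator_le_core K L hK hL hne
  have h2 := commutator_le_core L K hL hK hne.symm
  rw [Subgroup.commutator_comm] at h2
  refine ⟨le_inf h1 h2, ?_⟩
  intro hq
  have h3 := (Cfsg.Agent.S1276.result K hK).mp hq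
  have h4 : ⁅⁅K, L⁆, K⁆ = ⊥ := by
    rw [eq_bot_iff]
    calc ⁅⁅K, L⁆, K⁆ ≤ ⁅(Cfsg.oddCore ↥K).map K.subtype, K⁆ := Subgroup.commutator_mono h1 le_rfl
      _ = ⁅K, (Cfsg.oddCore ↥K).map K.subtype⁆ := Subgroup.commutator_comm _ _
      _ = ⊥ := h3
  have h5 : ⁅⁅L, K⁆, K⁆ = ⊥ := by rw [Subgroup.commutator_comm L K]; exact h4
  have h6 : ⁅⁅K, K⁆, L⁆ = ⊥ := Subgroup.commutator_commutator_eq_bot_of_rotate h4 h5
  rwa [isPComponent_commutator_eq 2 hK] at h6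

end Cfsg.Agent.S1278
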