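import Cfsg.Statements.S1280
import Cfsg.Agent.Lib.Helper21.CosetFixed
import Cfsg.Agent.Lib.Helper21.SupNormalizer

set_option autoImplicit false
open Cfsg

namespace Cfsg.Agent.S1280

/-- Let θ be a solvable A-signalizer functor (A a noncyclic elementary abelian p-subgroup of the finite group G), and X, Y members of its family with Y ≤ N_G(X). Then X ⊔ Y (= XY) is again in the family. -/
theorem result {G : Type*} [Group G] [Finite G] (p : ℕ) [Fact p.Prime] (A : Subgroup G) (hA : Cfsg.IsElementaryAbelian p A) (hA2 : p ^ 2 ≤ Nat.card ↥A) (θ : G → Subgroup G) (hθ : Cfsg.IsSolvableSignalizerFunctor p A θ) (X Y : Subgroup G) (hX : X ∈ Cfsg.signalizerFamily p A θ) (hY : Y ∈ Cfsg.signalizerFamily p A θ) (hn : Y ≤ Subgroup.normalizer (X : Set G)) : X ⊔ Y ∈ Cfsg.signalizerFamily p A θ := by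
  obtain ⟨hXs, hXp, hXA, hXθ⟩ := hX
  obtain ⟨hYs, hYp, hYA, hYθ⟩ := hY
  have hp : p.Prime := Fact.out
  refine ⟨Cfsg.Agent.Lib.Helper21.sup_isSolvable hn hXs hYs, ?_, ?_, ?_⟩
  · intro h
    have := h.trans (Cfsg.Agent.Lib.Helper21.card_sup_dvd hn)
    rcases (Nat.Prime.dvd_mul hp).1 this with h1 | h1
    · exact hXp h1
    · exact hYp h1
  · intro b hb u hu
    have h1 : (X ⊔ Y).map (MulAut.conj b).toMonoidHom ≤ X ⊔ Y := by
      rw [Subgroup.map_sup]
      apply sup_le_sup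
      · rintro _ ⟨x, hx, rfl⟩
        exact hXA b hb x hx
      · rintro _ ⟨y, hy, rfl⟩
        exact hYA b hb y hy
    exact h1 ⟨u, hu, rfl⟩
  · intro a ha ha1 g hg
    obtain ⟨hgK, hgc⟩ := Subgroup.mem_inf.1 hg
    rw [Subgroup.mem_centralizer_singleton_iff] at hgc
    have hgK' : g ∈ ((Y ⊔ X : Subgroup G) : Set G) := by rw [sup_comm]; exact hgK
    rw [Subgroup.coe_mul_of_left_le_normalizer_right Y X hn] at hgK'
    obtain ⟨y, hy, x, hx, rfl⟩ := hgK'
    have hy : y ∈ Y := hy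
    have hx : x ∈ X := hx
    have hap : a ^ p = 1 := hA.2 a ha
    have hM : ¬ p ∣ Nat.card ↥(X ⊓ Y) := fun h =>
      hXp (h.trans (Subgroup.card_dvd_of_le inf_le_left))
    have haM : ∀ m ∈ X ⊓ Y, a * m * a⁻¹ ∈ X ⊓ Y := fun m hm =>
      Subgroup.mem_inf.2 ⟨hXA a ha m hm.1, hYA a ha m hm.2⟩
    have hfix : a * (y * x) * a⁻¹ = y * x := by
      rw [← hgc]; group
    have hyM : y⁻¹ * (a * y * a⁻¹) ∈ X ⊓ Y := by
      refine Subgroup.mem_inf.2 ⟨?_, Y.mul_mem (Y.inv_mem hy) (hYA a ha y hy)⟩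
      have e : y⁻¹ * (a * y * a⁻¹) = x * (a * x * a⁻¹)⁻¹ := by
        have h2 : a * y * a⁻¹ * (a * x * a⁻¹) = y * x := by
          rw [← hfix]; group
        calc y⁻¹ * (a * y * a⁻¹) = y⁻¹ * (a * y * a⁻¹ * (a * x * a⁻¹)) * (a * x * a⁻¹)⁻¹ := by group
          _ = y⁻¹ * (y * x) * (a * x * a⁻¹)⁻¹ := by rw [h2]
          _ = x * (a * x * a⁻¹)⁻¹ := by group
      rw [e]
      exact X.mul_mem hx (X.inv_mem (hXA a ha x hx))
    obtain ⟨m, hm, hmfix⟩ := Cfsg.Agent.Lib.Helper21.exists_fixed_in_coset a hap (X ⊓ Y) hM haM y hyM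
    have h1 : y * m ∈ θ a := by
      apply hYθ a ha ha1
      refine Subgroup.mem_inf.2 ⟨Y.mul_mem hy hm.2, ?_⟩
      rw [Subgroup.mem_centralizer_singleton_iff]
      calc y * m * a = (a * (y * m) * a⁻¹) * a := by rw [hmfix]
        _ = a * (y * m) := by group
    have h2 : m⁻¹ * x ∈ θ a := by
      apply hXθ a ha ha1
      refine Subgroup.mem_inf.2 ⟨X.mul_mem (X.inv_mem hm.1) hx, ?_⟩
      rw [Subgroup.mem_centralizer_singleton_iff]
      have h3 : a * (m⁻¹ * x) * a⁻¹ = m⁻¹ * x := by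
        calc a * (m⁻¹ * x) * a⁻¹ = (a * (y * m) * a⁻¹)⁻¹ * (a * (y * x) * a⁻¹) := by group
          _ = (y * m)⁻¹ * (y * x) := by rw [hmfix, hfix]
          _ = m⁻¹ * x := by group
      calc m⁻¹ * x * a = (a * (m⁻¹ * x) * a⁻¹) * a := by rw [h3]
        _ = a * (m⁻¹ * x) := by group
    have : y * x = (y * m) * (m⁻¹ * x) := by group
    show y * x ∈ θ a
    rw [this]
    exact (θ a).mul_mem h1 h2

end Cfsg.Agent.S1280
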