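import Cfsg.Statements.S1281
import Cfsg.Agent.Lib.Helper21.CosetFixed

set_option autoImplicit false
open Cfsg

namespace Cfsg.Agent.S1281

/-- Let θ be a solvable A-signalizer functor on the finite group G (A a noncyclic elementary abelian p-subgroup) and N a normal subgroup of order prime to p. Then for all non-identity a, b ∈ A, the image of θ a in G / N meets the centralizer of the image of b inside the image of θ b. -/
theorem result {G : Type*} [Group G] [Finite G] (p : ℕ) [Fact p.Prime] (A : Subgroup G) (hA : Cfsg.IsElementaryAbelian p A) (hA2 : p ^ 2 ≤ Nat.card ↥A) (θ : G → Subgroup G) (hθ : Cfsg.IsSolvableSignalizerFunctor p A θ) (N : Subgroup G) [N.Normal] (hN : ¬ p ∣ Nat.card ↥N) (a b : G) (ha : a ∈ A) (ha1 : a ≠ 1) (hb : b ∈ A) (hb1 : b ≠ 1) : (θ a).map (QuotientGroup.mk' N) ⊓ Subgroup.centralizer {QuotientGroup.mk' N b} ≤ (θ b).map (QuotientGroup.mk' N) := by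
  obtain ⟨⟨h1, h2, h3, h4⟩, _⟩ := hθ
  rintro y ⟨⟨x, hx, rfl⟩, hyc⟩
  have hyc : QuotientGroup.mk' N x ∈ Subgroup.centralizer {QuotientGroup.mk' N b} := hyc
  have hx : x ∈ θ a := hx
  rw [Subgroup.mem_centralizer_singleton_iff] at hyc
  have hbp : b ^ p = 1 := hA.2 b hb
  have hM : ¬ p ∣ Nat.card ↥(θ a ⊓ N) := fun h =>
    hN (h.trans (Subgroup.card_dvd_of_le inf_le_right))
  have hbM : ∀ m ∈ θ a ⊓ N, b * m * b⁻¹ ∈ θ a ⊓ N := fun m hm =>
    Subgroup.mem_inf.2 ⟨h3 a ha ha1 b hb m hm.1, ‹N.Normal›.conj_mem m hm.2 b⟩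
  have hxM : x⁻¹ * (b * x * b⁻¹) ∈ θ a ⊓ N := by
    refine Subgroup.mem_inf.2 ⟨(θ a).mul_mem ((θ a).inv_mem hx) (h3 a ha ha1 b hb x hx), ?_⟩
    rw [← QuotientGroup.eq_one_iff]
    have e : ((x⁻¹ * (b * x * b⁻¹) : G) : G ⧸ N) =
        (QuotientGroup.mk' N x)⁻¹ * ((QuotientGroup.mk' N b) * (QuotientGroup.mk' N x) * (QuotientGroup.mk' N b)⁻¹) := by
      simp
    rw [e, ← hyc]
    group
  obtain ⟨m, hm, hfix⟩ := Cfsg.Agent.Lib.Helper21.exists_fixed_in_coset b hbp (θ a ⊓ N) hM hbM x hxM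
  refine ⟨x * m, ?_, ?_⟩
  · apply h4 a ha ha1 b hb hb1
    refine Subgroup.mem_inf.2 ⟨(θ a).mul_mem hx hm.1, ?_⟩
    rw [Subgroup.mem_centralizer_singleton_iff]
    calc x * m * b = (b * (x * m) * b⁻¹) * b := by rw [hfix]
      _ = b * (x * m) := by group
  · rw [map_mul]
    have : QuotientGroup.mk' N m = 1 := by
      rw [QuotientGroup.mk'_apply, QuotientGroup.eq_one_iff]; exact hm.2
    rw [this, mul_one]

end Cfsg.Agent.S1281
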