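import Cfsg.Statements.S1282
import Cfsg.Agent.Lib.Helper22.Signalizer

set_option autoImplicit false
open Cfsg

namespace Cfsg.Agent.S1282

/-- Let A be an elementary abelian p-subgroup of rank at least 3 of the finite group G, q ≠ p a prime, and Q₁, Q₂ q-subgroups normalized by A with D = Q₁ ∩ Q₂ different from both. Then there is a non-identity a ∈ A such that, for i = 1 and i = 2, N_{Q_i}(D) ∩ C_G(a) is not contained in D. -/
theorem result {G : Type*} [Group G] [Finite G] (p : ℕ) [Fact p.Prime] (A : Subgroup G) (hA : Cfsg.IsElementaryAbelian p A) (hA3 : p ^ 3 ≤ Nat.card ↥A) (q : ℕ) [Fact q.Prime] (hqp : q ≠ p) (Q₁ Q₂ : Subgroup G) (h₁ : IsPGroup q ↥Q₁) (h₂ : IsPGroup q ↥Q₂) (hA₁ : A ≤ Subgroup.normalizer (Q₁ : Set G)) (hA₂ : A ≤ Subgroup.normalizer (Q₂ : Set G)) (hD₁ : Q₁ ⊓ Q₂ ≠ Q₁) (hD₂ : Q₁ ⊓ Q₂ ≠ Q₂) : ∃ a ∈ A, a ≠ 1 ∧ ¬ (Subgroup.normalizer ((Q₁ ⊓ Q₂ : Subgroup G)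 : Set G) ⊓ Q₁ ⊓ Subgroup.centralizer {a} ≤ Q₁ ⊓ Q₂) ∧ ¬ (Subgroup.normalizer ((Q₁ ⊓ Q₂ : Subgroup G) : Set G) ⊓ Q₂ ⊓ Subgroup.centralizer {a} ≤ Q₁ ⊓ Q₂) := by
  have hp : p.Prime := Fact.out
  have hq : q.Prime := Fact.out
  set D := Q₁ ⊓ Q₂ with hD
  -- A normalizes D
  have hAD : A ≤ Subgroup.normalizer (D : Set G) := by
    intro x hx
    have key : ∀ y ∈ A, ∀ w ∈ D, y * w * y⁻¹ ∈ D := by
      intro y hy w hw
      exact ⟨(Subgroup.mem_normalizer_iff.mp (hA₁ hy) w).mp hw.1,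
        (Subgroup.mem_normalizer_iff.mp (hA₂ hy) w).mp hw.2⟩
    rw [Subgroup.mem_normalizer_iff]
    intro w
    constructor
    · exact key x hx w
    · intro h
      have := key x⁻¹ (A.inv_mem hx) _ h
      have e : x⁻¹ * (x * w * x⁻¹) * x⁻¹⁻¹ = w := by group
      rwa [e] at this
  -- general facts for each i
  have main : ∀ Q : Subgroup G, IsPGroup q ↥Q → A ≤ Subgroup.normalizer (Q : Set G) → D ≤ Q →
      D ≠ Q → ∃ B : Subgroup G, B ≤ A ∧ Nat.card ↥A ≤ Nat.card ↥B * p ∧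
        ¬ (Subgroup.normalizer (D : Set G) ⊓ Q ⊓ Subgroup.centralizer (B : Set G) ≤ D) := by
    intro Q hQ hAQ hDQ hne
    apply Cfsg.Agent.Lib.Helper22.exists_hyperplane_centralizer_not_le p A hA
    · intro hdvd
      have h1 : Nat.card ↥(Subgroup.normalizer (D : Set G) ⊓ Q) ∣ Nat.card ↥Q :=
        Subgroup.card_dvd_of_le inf_le_right
      obtain ⟨k, hk⟩ := IsPGroup.iff_card.mp hQ
      rw [hk] at h1
      have h2 : p ∣ q ^ k := hdvd.trans h1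
      have h3 : p ∣ q := hp.dvd_of_dvd_pow h2
      exact hqp ((Nat.prime_dvd_prime_iff_eq hp hq).mp h3).symm
    · exact Cfsg.Agent.Lib.Helper22.le_normalizer_normalizer_inf A D Q hAD hAQ
    · intro hle
      have hlt : D < Q := lt_of_le_of_ne hDQ hne
      obtain ⟨x, hxQ, hxD, hxN⟩ := Cfsg.Agent.Lib.Helper64.exists_normalizing_not_mem hQ hlt
      exact hxD (hle ⟨hxN, hxQ⟩)
  obtain ⟨B₁, hB₁A, hB₁c, hB₁⟩ := main Q₁ h₁ hA₁ inf_le_left hD₁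
  obtain ⟨B₂, hB₂A, hB₂c, hB₂⟩ := main Q₂ h₂ hA₂ inf_le_right hD₂
  have hne := Cfsg.Agent.Lib.Helper22.inf_ne_bot_of_card_le hp.two_le A B₁ B₂ hA3 hB₁A hB₂A hB₁c hB₂c
  obtain ⟨a, haB, ha1⟩ := (Subgroup.ne_bot_iff_exists_ne_one).mp hne |> fun ⟨a, ha⟩ =>
    (⟨(a : G), a.2, fun h => ha (Subtype.ext h)⟩ : ∃ a : G, a ∈ B₁ ⊓ B₂ ∧ a ≠ 1)
  refine ⟨a, hB₁A haB.1, ha1, ?_, ?_⟩
  · intro h
    apply hB₁
    refine le_trans ?_ h
    apply inf_le_inf_left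
    apply Subgroup.centralizer_le
    intro x hx
    rw [Set.mem_singleton_iff.mp hx]
    exact haB.1
  · intro h
    apply hB₂
    refine le_trans ?_ h
    apply inf_le_inf_left
    apply Subgroup.centralizer_le
    intro x hx
    rw [Set.mem_singleton_iff.mp hx]
    exact haB.2

end Cfsg.Agent.S1282
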