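import Cfsg.Statements.S1283
import Cfsg.Agent.Lib.Helper23.TransData
import Cfsg.Agent.Lib.Helper24.InvCompl
import Cfsg.Agent.Lib.Helper24.Coprime

set_option autoImplicit false
open Cfsg

namespace Cfsg.Agent.S1283

open Subgroup Cfsg.Agent.Lib.Helper23 Cfsg.Agent.Lib.Helper33 Cfsg.Agent.Lib.Helper24

theorem le_normalizer_of_conj_mem {G : Type*} [Group G] {A H : Subgroup G}
    (h : ∀ b ∈ A, ∀ x ∈ H, b * x * b⁻¹ ∈ H) : A ≤ normalizer (H : Set G) := by
  intro b hb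
  rw [mem_normalizer_iff]
  intro x
  refine ⟨fun hx => h b hb x hx, fun hx => ?_⟩
  have := h b⁻¹ (A.inv_mem hb) _ hx
  have e : b⁻¹ * (b * x * b⁻¹) * b⁻¹⁻¹ = x := by group
  rwa [e] at this

theorem conj_mem_of_le_normalizer {G : Type*} [Group G] {A H : Subgroup G}
    (h : A ≤ normalizer (H : Set G)) : ∀ b ∈ A, ∀ x ∈ H, b * x * b⁻¹ ∈ H :=
  fun _ hb x hx => (mem_normalizer_iff.mp (h hb) x).mp hx

theorem isSolvable_of_isPGroup {G : Type*} [Group G] [Finite G] {q : ℕ} [Fact q.Prime]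
    {T : Subgroup G} (hT : IsPGroup q T) : Group.IsSolvable T := by
  have := hT.isNilpotent
  infer_instance

theorem exists_le_card_cube {G : Type*} [Group G] [Finite G] {p : ℕ} [hp : Fact p.Prime]
    {A : Subgroup G} (hAp : ∀ a ∈ A, a ^ p = 1) (hcard : p ^ 3 ≤ Nat.card A) :
    ∃ A₀ : Subgroup G, A₀ ≤ A ∧ Nat.card A₀ = p ^ 3 := by
  have hpp : p.Prime := hp.out
  have hApg : IsPGroup p A := by
    rintro ⟨v, hv⟩
    refine ⟨1, Subtype.ext ?_⟩
    rw [pow_one]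
    exact hAp v hv
  obtain ⟨k, hk⟩ := IsPGroup.iff_card.mp hApg
  have hk3 : 3 ≤ k := by
    by_contra hcon
    push Not at hcon
    have : p ^ k < p ^ 3 := Nat.pow_lt_pow_right hpp.one_lt hcon
    omega
  have hdvd : p ^ 3 ∣ Nat.card A := by
    rw [hk]
    exact pow_dvd_pow p hk3
  obtain ⟨K, hK⟩ := Sylow.exists_subgroup_card_pow_prime p hdvd
  exact ⟨K.map A.subtype, map_subtype_le _, by
    rw [card_map_of_injective A.subtype_injective, hK]⟩

/-- Transitivity Theorem. Let θ be a solvable A-signalizer functor on the finite group G, A elementary abelian of rank at least 3, and q a prime dividing |θ a| for some non-identity a ∈ A. If Q₁ and Q₂ are q-subgroups in the family of θ, each maximal among the q-subgroups in the family, then Q₂ = c Q₁ c⁻¹ for some c in the intersection of the θ a, a ∈ A non-identity. -/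
theorem result {G : Type*} [Group G] [Finite G] (p : ℕ) [Fact p.Prime] (A : Subgroup G) (hA : Cfsg.IsElementaryAbelian p A) (hA3 : p ^ 3 ≤ Nat.card ↥A) (θ : G → Subgroup G) (hθ : Cfsg.IsSolvableSignalizerFunctor p A θ) (q : ℕ) [Fact q.Prime] (hq : ∃ a ∈ A, a ≠ 1 ∧ q ∣ Nat.card ↥(θ a)) (Q₁ Q₂ : Subgroup G) (hQ₁W : Q₁ ∈ Cfsg.signalizerFamily p A θ) (hQ₁q : IsPGroup q ↥Q₁) (hQ₁max : ∀ R ∈ Cfsg.signalizerFamily p A θ, IsPGroup q ↥R → Q₁ ≤ R → R = Q₁) (hQ₂W : Q₂ ∈ Cfsg.signalizerFamily p A θ) (hQ₂q : IsPGroup q ↥Q₂) (hQ₂max : ∀ R ∈ Cfsg.signalizerFamily p A θ, IsPGroup q ↥R → Q₂ ≤ R → R = Q₂) : ∃ c ∈ Cfsg.signalizerInf A θ, Q₁.map (MulAut.conj c).toMonoidHom = Q₂ := by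
  classical
  have hpp : p.Prime := Fact.out
  have hqq : q.Prime := Fact.out
  obtain ⟨⟨hθ1, hθ2, hθ3, hθ4⟩, hθsolv⟩ := hθ
  obtain ⟨hAc, hAp⟩ := hA
  have hAcomm : ∀ x ∈ A, ∀ y ∈ A, x * y = y * x := by
    intro x hx y hy
    have := hAc.is_comm.comm (⟨x, hx⟩ : A) ⟨y, hy⟩
    have h2 := congrArg Subtype.val this
    simpa using h2
  have hApg : IsPGroup p A := by
    rintro ⟨v, hv⟩
    refine ⟨1, Subtype.ext ?_⟩
    rw [pow_one]
    exact hAp v hv
  have hqp : q ≠ p := by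
    obtain ⟨a, haA, ha1, hqa⟩ := hq
    rintro rfl
    exact hθ2 a haA ha1 hqa
  obtain ⟨A₀, hA₀A, hA₀card⟩ := exists_le_card_cube (p := p) hAp hA3
  have hnotdvd : ∀ Y : Subgroup G, IsPGroup q Y → ¬ p ∣ Nat.card Y := by
    intro Y hY hdvd
    obtain ⟨k, hk⟩ := IsPGroup.iff_card.mp hY
    rw [hk] at hdvd
    exact hqp ((Nat.prime_dvd_prime_iff_eq hpp hqq).mp (hpp.dvd_of_dvd_pow hdvd)).symm
  have hAθ : ∀ a ∈ A, a ≠ 1 → A ≤ normalizer ((θ a : Subgroup G) : Set G) :=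
    fun a ha ha1 => le_normalizer_of_conj_mem (fun b hb x hx => hθ3 a ha ha1 b hb x hx)
  -- the key closure property
  have hW : ∀ a ∈ A, a ≠ 1 → ∀ D : Subgroup G, D ∈ Cfsg.signalizerFamily p A θ →
      ∀ b ∈ A, b ≠ 1 →
      ((θ a ⊓ normalizer (D : Set G)) ⊔ D) ⊓ centralizer ({b} : Set G) ≤ θ b := by
    intro a ha ha1 D hD b hb hb1 w hw
    obtain ⟨hDsolv, hDp, hDA, hDθ⟩ := hD
    have hAD : A ≤ normalizer (D : Set G) := le_normalizer_of_conj_mem hDA
    obtain ⟨x, hx, y, hy, rfl⟩ := exists_mul_of_mem_sup_of_le_normalizer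
      (θ a ⊓ normalizer (D : Set G)) D inf_le_right w hw.1
    have hbz : zpowers b ≤ A := by rw [zpowers_le]; exact hb
    have hXp : ¬ p ∣ Nat.card ↥(θ a ⊓ normalizer (D : Set G) : Subgroup G) :=
      fun h => hθ2 a ha ha1 (h.trans (card_dvd_of_le inf_le_left))
    have hcop : (Nat.card (zpowers b)).Coprime
        (Nat.card ↥(θ a ⊓ normalizer (D : Set G) : Subgroup G)) := by
      have : Nat.card (zpowers b) = p := by
        rw [Nat.card_zpowers]
        exact orderOf_eq_prime (hAp b hb) hb1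
      rw [this]
      exact (Nat.Prime.coprime_iff_not_dvd hpp).mpr hXp
    have hbsolv : Group.IsSolvable (zpowers b) := inferInstance
    have hk : x * y ∈ centralizer ((zpowers b : Subgroup G) : Set G) := by
      rw [mem_centralizer_iff]
      intro z hz
      obtain ⟨n, rfl⟩ := mem_zpowers_iff.mp hz
      have : Commute (x * y) b := (mem_centralizer_singleton_iff.mp hw.2)
      exact ((this.zpow_right n).eq).symm
    obtain ⟨x', hx', y', hy', hxy⟩ := centralizer_mul_factor (zpowers b)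
      (θ a ⊓ normalizer (D : Set G)) hcop (Or.inl hbsolv)
      (θ a ⊓ normalizer (D : Set G)) D le_rfl
      (hbz.trans (le_normalizer_inf' (hAθ a ha ha1) (le_normalizer_normalizer' hAD)))
      (hbz.trans hAD) x y hx hy hk
    have hcb : ∀ z : G, z ∈ centralizer ((zpowers b : Subgroup G) : Set G) →
        z ∈ centralizer ({b} : Set G) := by
      intro z hz
      rw [mem_centralizer_singleton_iff]
      exact (mem_centralizer_iff.mp hz b (mem_zpowers b)).symm
    rw [hxy]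
    apply (θ b).mul_mem
    · exact hθ4 a ha ha1 b hb hb1 ⟨hx'.1.1, hcb _ hx'.2⟩
    · exact hDθ b hb hb1 ⟨hy'.1, hcb _ hy'.2⟩
  have hCcent : ∀ c ∈ Cfsg.signalizerInf A θ, ∀ b ∈ A, b * c = c * b := by
    intro c hc b hb
    by_cases hb1 : b = 1
    · rw [hb1, one_mul, mul_one]
    · have : c ∈ θ b := by
        have := (Subgroup.mem_iInf.mp hc) ⟨b, hb, hb1⟩
        exact this
      have h2 := hθ1 b hb hb1 this
      exact (mem_centralizer_singleton_iff.mp h2).symm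
  have hdata : TransData p q A A₀ (Cfsg.signalizerInf A θ)
      {Y | Y ∈ Cfsg.signalizerFamily p A θ ∧ IsPGroup q Y} θ := by
    refine
      { hA := hApg
        hA₀A := hA₀A
        hA₀c := fun a ha b hb => hAcomm a (hA₀A ha) b hb
        hA₀p := fun a ha => hAp a (hA₀A ha)
        hA₀card := hA₀card
        hqp := hqp
        hFq := fun Y hY => hY.2
        hFA := fun Y hY => le_normalizer_of_conj_mem hY.1.2.2.1
        hFsub := ?_
        hFconj := ?_
        hL1 := fun a ha ha1 => hθ2 a (hA₀A ha) ha1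
        hL2 := fun a ha ha1 => hAθ a (hA₀A ha) ha1
        hL3 := fun a ha ha1 Y hY => hY.1.2.2.2 a (hA₀A ha) ha1
        hLW := ?_ }
    · intro Y hY T hTY hAT
      have hTq : IsPGroup q T := hY.2.to_le hTY
      exact ⟨⟨isSolvable_of_isPGroup hTq, hnotdvd T hTq, conj_mem_of_le_normalizer hAT,
        fun a ha ha1 => (inf_le_inf_right _ hTY).trans (hY.1.2.2.2 a ha ha1)⟩, hTq⟩
    · intro Y hY c hc
      have hYq : IsPGroup q (cj c Y) := isPGroup_cj hY.2
      refine ⟨⟨isSolvable_of_isPGroup hYq, hnotdvd _ hYq, ?_, ?_⟩, hYq⟩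
      · intro b hb u hu
        obtain ⟨y, hy, rfl⟩ := mem_cj'.mp hu
        have e : b * (c * y * c⁻¹) * b⁻¹ = c * (b * y * b⁻¹) * c⁻¹ := by
          have h1 := hCcent c hc b hb
          have h2 : b⁻¹ * c⁻¹ = c⁻¹ * b⁻¹ := by
            rw [← mul_inv_rev, ← mul_inv_rev, h1]
          calc b * (c * y * c⁻¹) * b⁻¹ = (b * c) * y * (c⁻¹ * b⁻¹) := by group
            _ = (c * b) * y * (b⁻¹ * c⁻¹) := by rw [h1, h2]
            _ = c * (b * y * b⁻¹) * c⁻¹ := by group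
        rw [e]
        exact conj_mem_cj (hY.1.2.2.1 b hb y hy)
      · intro a ha ha1 u hu
        obtain ⟨y, hy, rfl⟩ := mem_cj'.mp hu.1
        have hca : c ∈ θ a := (Subgroup.mem_iInf.mp hc) ⟨a, ha, ha1⟩
        have hac : a * c = c * a := hCcent c hc a ha
        have hya : y ∈ centralizer ({a} : Set G) := by
          rw [mem_centralizer_singleton_iff]
          have h1 : c * y * c⁻¹ * a = a * (c * y * c⁻¹) := mem_centralizer_singleton_iff.mp hu.2
          calc y * a = c⁻¹ * (c * y * c⁻¹ * a) * c * (c⁻¹ * a⁻¹ * c * a) := by group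
            _ = c⁻¹ * (a * (c * y * c⁻¹)) * c * (c⁻¹ * a⁻¹ * c * a) := by rw [h1]
            _ = c⁻¹ * (a * c) * y * (c⁻¹ * a⁻¹ * c * a) := by group
            _ = c⁻¹ * (c * a) * y * (c⁻¹ * a⁻¹ * (c * a)) := by rw [hac]; group
            _ = c⁻¹ * (c * a) * y * (c⁻¹ * a⁻¹ * (a * c)) := by rw [hac]
            _ = a * y := by group
        have hyθ : y ∈ θ a := hY.1.2.2.2 a ha ha1 ⟨hy, hya⟩
        exact (θ a).mul_mem ((θ a).mul_mem hca hyθ) ((θ a).inv_mem hca)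
    · intro a ha ha1 D hD
      constructor
      · intro T hTW hTq hAT
        refine ⟨⟨isSolvable_of_isPGroup hTq, hnotdvd T hTq, conj_mem_of_le_normalizer hAT, ?_⟩, hTq⟩
        intro b hb hb1
        exact (inf_le_inf_right _ hTW).trans (hW a (hA₀A ha) ha1 D hD.1 b hb hb1)
      · intro c hc
        rw [Cfsg.signalizerInf, Subgroup.mem_iInf]
        rintro ⟨b, hb, hb1⟩
        apply hW a (hA₀A ha) ha1 D hD.1 b hb hb1
        have hcb : c ∈ centralizer ({b} : Set G) := by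
          rw [mem_centralizer_singleton_iff]
          exact (mem_centralizer_iff.mp hc.2 b hb).symm
        exact ⟨hc.1, hcb⟩
  have h₁ : IsMaxIn {Y | Y ∈ Cfsg.signalizerFamily p A θ ∧ IsPGroup q Y} Q₁ :=
    ⟨⟨hQ₁W, hQ₁q⟩, fun R hR hle => hQ₁max R hR.1 hR.2 hle⟩
  have h₂ : IsMaxIn {Y | Y ∈ Cfsg.signalizerFamily p A θ ∧ IsPGroup q Y} Q₂ :=
    ⟨⟨hQ₂W, hQ₂q⟩, fun R hR hle => hQ₂max R hR.1 hR.2 hle⟩
  obtain ⟨c, hc, hcQ⟩ := hdata.transitive Q₁ Q₂ h₁ h₂
  exact ⟨c, hc, hcQ.symm⟩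

end Cfsg.Agent.S1283
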