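import Cfsg.Statements.S1286
import Mathlib

set_option autoImplicit false
open Cfsg

namespace Cfsg.Agent.S1286

/-- the transposition (3 4) -/
def ps : Equiv.Perm (Fin 5) := Equiv.swap 3 4
/-- the transposition (0 1) -/
def pt : Equiv.Perm (Fin 5) := Equiv.swap 0 1
/-- the 3-cycle (0 1 2) -/
def py : Equiv.Perm (Fin 5) := Equiv.swap 0 1 * Equiv.swap 1 2
/-- the 3-cycle (2 3 4) -/
def px : Equiv.Perm (Fin 5) := Equiv.swap 2 3 * Equiv.swap 3 4

/-- the four-group generated by `ps` and `pt` -/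
def sA : Subgroup (Equiv.Perm (Fin 5)) where
  carrier := {g | g = 1 ∨ g = ps ∨ g = pt ∨ g = ps * pt}
  mul_mem' := by
    rintro a b (rfl | rfl | rfl | rfl) (rfl | rfl | rfl | rfl) <;> decide
  one_mem' := Or.inl rfl
  inv_mem' := by
    rintro a (rfl | rfl | rfl | rfl) <;> decide

theorem mem_sA {g : Equiv.Perm (Fin 5)} : g ∈ sA ↔ g = 1 ∨ g = ps ∨ g = pt ∨ g = ps * pt :=
  Iff.rfl

theorem card_sA : Nat.card ↥sA = 4 := by
  classical
  rw [Nat.card_eq_fintype_card]
  rw [Fintype.card_of_subtype ({1, ps, pt, ps * pt} : Finset (Equiv.Perm (Fin 5)))]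
  · decide
  · intro g
    simp only [Finset.mem_insert, Finset.mem_singleton]
    exact mem_sA.symm

/-- the functor -/
noncomputable def sθ : Equiv.Perm (Fin 5) → Subgroup (Equiv.Perm (Fin 5)) := fun g =>
  if g = ps then Subgroup.zpowers py else if g = pt then Subgroup.zpowers px else ⊥

theorem sθ_s : sθ ps = Subgroup.zpowers py := by
  simp [sθ]

theorem sθ_t : sθ pt = Subgroup.zpowers px := by
  have : pt ≠ ps := by decide
  simp [sθ, this]

theorem sθ_st : sθ (ps * pt) = ⊥ := by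
  have h1 : ps * pt ≠ ps := by decide
  have h2 : ps * pt ≠ pt := by decide
  simp [sθ, h1, h2]

theorem mem_zpowers_three {G : Type*} [Group G] {g u : G} (h3 : g ^ 3 = 1)
    (hu : u ∈ Subgroup.zpowers g) : u = 1 ∨ u = g ∨ u = g ^ 2 := by
  obtain ⟨k, rfl⟩ := Subgroup.mem_zpowers_iff.mp hu
  have hk : k = 3 * (k / 3) + k % 3 := (Int.mul_ediv_add_emod k 3).symm
  have h3' : g ^ (3 : ℤ) = 1 := by
    rw [show (3 : ℤ) = ((3 : ℕ) : ℤ) by norm_num, zpow_natCast, h3]
  have hr0 : 0 ≤ k % 3 := Int.emod_nonneg k (by norm_num)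
  have hr3 : k % 3 < 3 := Int.emod_lt_of_pos k (by norm_num)
  rw [hk, zpow_add, zpow_mul, h3', one_zpow, one_mul]
  generalize k % 3 = r at hr0 hr3
  have : r = 0 ∨ r = 1 ∨ r = 2 := by omega
  rcases this with rfl | rfl | rfl
  · left; simp
  · right; left; simp
  · right; right
    rw [show (2 : ℤ) = ((2 : ℕ) : ℤ) by norm_num, zpow_natCast]

theorem conj_mem_zpowers {G : Type*} [Group G] {g b : G} (h : b * g * b⁻¹ ∈ Subgroup.zpowers g)
    {u : G} (hu : u ∈ Subgroup.zpowers g) : b * u * b⁻¹ ∈ Subgroup.zpowers g := by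
  obtain ⟨k, rfl⟩ := Subgroup.mem_zpowers_iff.mp hu
  rw [← conj_zpow]
  exact Subgroup.zpow_mem _ h k

theorem py3 : py ^ 3 = 1 := by decide
theorem px3 : px ^ 3 = 1 := by decide

theorem card_zpowers_py : Nat.card ↥(Subgroup.zpowers py) = 3 := by
  rw [Nat.card_zpowers]
  exact orderOf_eq_prime py3 (by decide)

theorem card_zpowers_px : Nat.card ↥(Subgroup.zpowers px) = 3 := by
  rw [Nat.card_zpowers]
  exact orderOf_eq_prime px3 (by decide)

theorem inv_y (b : Equiv.Perm (Fin 5)) (hb : b ∈ sA) (u : Equiv.Perm (Fin 5))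
    (hu : u ∈ Subgroup.zpowers py) : b * u * b⁻¹ ∈ Subgroup.zpowers py := by
  refine conj_mem_zpowers ?_ hu
  rcases mem_sA.mp hb with rfl | rfl | rfl | rfl
  · simp
  · have : ps * py * ps⁻¹ = py := by decide
    rw [this]; exact Subgroup.mem_zpowers py
  · have : pt * py * pt⁻¹ = py ^ 2 := by decide
    rw [this]; exact Subgroup.pow_mem _ (Subgroup.mem_zpowers py) 2
  · have : ps * pt * py * (ps * pt)⁻¹ = py ^ 2 := by decide
    rw [this]; exact Subgroup.pow_mem _ (Subgroup.mem_zpowers py) 2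

theorem inv_x (b : Equiv.Perm (Fin 5)) (hb : b ∈ sA) (u : Equiv.Perm (Fin 5))
    (hu : u ∈ Subgroup.zpowers px) : b * u * b⁻¹ ∈ Subgroup.zpowers px := by
  refine conj_mem_zpowers ?_ hu
  rcases mem_sA.mp hb with rfl | rfl | rfl | rfl
  · simp
  · have : ps * px * ps⁻¹ = px ^ 2 := by decide
    rw [this]; exact Subgroup.pow_mem _ (Subgroup.mem_zpowers px) 2
  · have : pt * px * pt⁻¹ = px := by decide
    rw [this]; exact Subgroup.mem_zpowers px
  · have : ps * pt * px * (ps * pt)⁻¹ = px ^ 2 := by decide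
    rw [this]; exact Subgroup.pow_mem _ (Subgroup.mem_zpowers px) 2

theorem y_inf (b : Equiv.Perm (Fin 5)) (h1 : py * b ≠ b * py) (h2 : py ^ 2 * b ≠ b * py ^ 2) :
    Subgroup.zpowers py ⊓ Subgroup.centralizer {b} = ⊥ := by
  rw [eq_bot_iff]
  rintro u ⟨hu, hc⟩
  rw [Subgroup.mem_bot]
  have hc' : u * b = b * u := Subgroup.mem_centralizer_singleton_iff.mp hc
  rcases mem_zpowers_three py3 hu with rfl | rfl | rfl
  · rfl
  · exact absurd hc' h1
  · exact absurd hc' h2

theorem x_inf (b : Equiv.Perm (Fin 5)) (h1 : px * b ≠ b * px) (h2 : px ^ 2 * b ≠ b * px ^ 2) :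
    Subgroup.zpowers px ⊓ Subgroup.centralizer {b} = ⊥ := by
  rw [eq_bot_iff]
  rintro u ⟨hu, hc⟩
  rw [Subgroup.mem_bot]
  have hc' : u * b = b * u := Subgroup.mem_centralizer_singleton_iff.mp hc
  rcases mem_zpowers_three px3 hu with rfl | rfl | rfl
  · rfl
  · exact absurd hc' h1
  · exact absurd hc' h2

theorem isSignalizer : Cfsg.IsSignalizerFunctor 2 sA sθ := by
  refine ⟨?_, ?_, ?_, ?_⟩
  · intro a ha ha1
    rcases mem_sA.mp ha with rfl | rfl | rfl | rfl
    · exact absurd rfl ha1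
    · rw [sθ_s, Subgroup.zpowers_le, Subgroup.mem_centralizer_singleton_iff]; decide
    · rw [sθ_t, Subgroup.zpowers_le, Subgroup.mem_centralizer_singleton_iff]; decide
    · rw [sθ_st]; exact bot_le
  · intro a ha ha1
    rcases mem_sA.mp ha with rfl | rfl | rfl | rfl
    · exact absurd rfl ha1
    · rw [sθ_s, card_zpowers_py]; decide
    · rw [sθ_t, card_zpowers_px]; decide
    · rw [sθ_st, Subgroup.card_bot]; decide
  · intro a ha ha1 b hb u hu
    rcases mem_sA.mp ha with rfl | rfl | rfl | rfl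
    · exact absurd rfl ha1
    · rw [sθ_s] at hu ⊢; exact inv_y b hb u hu
    · rw [sθ_t] at hu ⊢; exact inv_x b hb u hu
    · rw [sθ_st] at hu ⊢
      rw [Subgroup.mem_bot] at hu ⊢
      rw [hu]; group
  · intro a ha ha1 b hb hb1
    rcases mem_sA.mp ha with rfl | rfl | rfl | rfl
    · exact absurd rfl ha1
    · rcases mem_sA.mp hb with rfl | rfl | rfl | rfl
      · exact absurd rfl hb1
      · exact inf_le_left
      · rw [sθ_s, y_inf pt (by decide) (by decide)]; exact bot_le
      · rw [sθ_s, y_inf (ps * pt) (by decide) (by decide)]; exact bot_le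
    · rcases mem_sA.mp hb with rfl | rfl | rfl | rfl
      · exact absurd rfl hb1
      · rw [sθ_t, x_inf ps (by decide) (by decide)]; exact bot_le
      · exact inf_le_left
      · rw [sθ_t, x_inf (ps * pt) (by decide) (by decide)]; exact bot_le
    · rw [sθ_st]; exact le_trans inf_le_left bot_le

theorem isSolv : ∀ a ∈ sA, a ≠ 1 → Group.IsSolvable ↥(sθ a) := by
  intro a ha ha1
  rcases mem_sA.mp ha with rfl | rfl | rfl | rfl
  · exact absurd rfl ha1
  · rw [sθ_s]; infer_instance
  · rw [sθ_t]; infer_instance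
  · rw [sθ_st]; infer_instance

/-- There exist a finite group X, an elementary abelian subgroup A of order 4 and a solvable A-signalizer functor θ on X for the prime 2 which is not complete. -/
theorem result : ∃ (X : Type) (_ : Group X) (_ : Finite X) (A : Subgroup X) (θ : X → Subgroup X), Cfsg.IsElementaryAbelian 2 A ∧ Nat.card ↥A = 4 ∧ Cfsg.IsSolvableSignalizerFunctor 2 A θ ∧ ¬ Cfsg.IsCompleteSignalizerFunctor 2 A θ := by
  classical
  refine ⟨Equiv.Perm (Fin 5), inferInstance, inferInstance, sA, sθ, ?_, card_sA, ?_, ?_⟩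
  · refine ⟨⟨⟨?_⟩⟩, ?_⟩
    · rintro ⟨a, ha⟩ ⟨b, hb⟩
      apply Subtype.ext
      show a * b = b * a
      rcases mem_sA.mp ha with rfl | rfl | rfl | rfl <;>
        rcases mem_sA.mp hb with rfl | rfl | rfl | rfl <;> decide
    · intro a ha
      rcases mem_sA.mp ha with rfl | rfl | rfl | rfl <;> decide
  · exact ⟨isSignalizer, isSolv⟩
  · rintro ⟨-, X, -, hodd, hX⟩
    have h1 := hX ps (mem_sA.mpr (Or.inr (Or.inl rfl))) (by decide)
    have h2 := hX pt (mem_sA.mpr (Or.inr (Or.inr (Or.inl rfl)))) (by decide)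
    rw [sθ_s] at h1
    rw [sθ_t] at h2
    have hy : py ∈ X := by
      have : py ∈ X ⊓ Subgroup.centralizer {ps} := by
        rw [h1]; exact Subgroup.mem_zpowers py
      exact this.1
    have hx : px ∈ X := by
      have : px ∈ X ⊓ Subgroup.centralizer {pt} := by
        rw [h2]; exact Subgroup.mem_zpowers px
      exact this.1
    have hw : px * py * px * py⁻¹ ∈ X :=
      X.mul_mem (X.mul_mem (X.mul_mem hx hy) hx) (X.inv_mem hy)
    have ho : orderOf (px * py * px * py⁻¹) = 2 :=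
      orderOf_eq_prime (by decide) (by decide)
    apply hodd
    have := Subgroup.orderOf_dvd_natCard X hw
    rwa [ho] at this

end Cfsg.Agent.S1286
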