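import Cfsg.Statements.S1287
import Cfsg.Agent.Lib.Helper24.FactorSylow

set_option autoImplicit false
open scoped Pointwise
open Cfsg

namespace Cfsg.Agent.S1287

open Subgroup Cfsg.Agent.Lib.Helper24

/-- Let A be a noncyclic elementary abelian p-subgroup of a finite group H normalizing a subgroup K of order prime to p, and X, Y ≤ K subgroups normalized by A with C_K(a) = C_X(a) C_Y(a) (as sets) for every non-identity a ∈ A, where X is also normalized by C_K(A). Then K = XY as sets. -/
theorem result {H : Type*} [Group H] [Finite H] (p : ℕ) [Fact p.Prime] (A K X Y : Subgroup H) (hA : Cfsg.IsElementaryAbelian p A) (hA2 : p ^ 2 ≤ Nat.card ↥A) (hK : ¬ p ∣ Nat.card ↥K) (hAK : A ≤ Subgroup.normalizer (K : Set H)) (hX : X ≤ K) (hY : Y ≤ K) (hAX : A ≤ Subgroup.normalizer (X : Set H)) (hAY : A ≤ Subgroup.normalizer (Y : Set H)) (hCX : K ⊓ Subgroup.centralizer (A : Set H) ≤ Subgroup.normalizer (X : Set H)) (hfac : ∀ a ∈ A, a ≠ 1 → ((K ⊓ Subgroup.centralizer {a} : Subgroup H) : Set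 H) = ((X ⊓ Subgroup.centralizer {a} : Subgroup H) : Set H) * ((Y ⊓ Subgroup.centralizer {a} : Subgroup H) : Set H)) : (K : Set H) = (X : Set H) * (Y : Set H) := by
  classical
  have hpp : p.Prime := Fact.out
  have hAcomm : ∀ a ∈ A, ∀ b ∈ A, a * b = b * a := by
    intro a ha b hb
    have := hA.1.is_comm.comm (⟨a, ha⟩ : ↥A) ⟨b, hb⟩
    exact congrArg Subtype.val this
  have hAe := hA.2
  have hAp : IsPGroup p A := by
    intro a
    refine ⟨1, ?_⟩
    rw [pow_one]
    exact Subtype.ext (by simpa using hAe a a.2)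
  obtain ⟨n, hn⟩ := (IsPGroup.iff_card).mp hAp
  have hKp : (Nat.card K).Coprime p := ((Nat.Prime.coprime_iff_not_dvd hpp).mpr hK).symm
  have hcop : ∀ J : Subgroup H, J ≤ K → (Nat.card A).Coprime (Nat.card J) := by
    intro J hJ
    rw [hn]
    exact Nat.Coprime.pow_left n
      (Nat.Coprime.coprime_dvd_left (Subgroup.card_dvd_of_le hJ) hKp).symm
  have hsolvA : Group.IsSolvable A :=
    Group.isSolvable_of_comm (fun a b => Subtype.ext (hAcomm a a.2 b b.2))
  have hp2 : p < p ^ 2 := by nlinarith [hpp.two_le]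
  have hA1 : 1 < Nat.card A := by nlinarith [hpp.two_le]
  obtain ⟨v, hvA, hv1⟩ : ∃ v ∈ A, v ≠ 1 := by
    by_contra hcon
    push Not at hcon
    have : A = ⊥ := (Subgroup.eq_bot_iff_forall A).mpr hcon
    rw [this, Subgroup.card_bot] at hA1
    omega
  have hvord : orderOf v = p := orderOf_eq_prime (hAe v hvA) hv1
  obtain ⟨u, huA, huv⟩ : ∃ u ∈ A, u ∉ zpowers v := by
    by_contra hcon
    push Not at hcon
    have hle : A ≤ zpowers v := hcon
    have := Subgroup.card_le_of_le hle
    rw [Nat.card_zpowers, hvord] at this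
    omega
  have hT : ∀ g : H, ((∃ j, j < p ∧ g = u * v ^ j) ∨ (∃ m, 0 < m ∧ m < p ∧ g = v ^ m)) →
      g ∈ A ∧ g ≠ 1 := by
    rintro g (⟨j, _, rfl⟩ | ⟨m, hm0, hmp, rfl⟩)
    · refine ⟨A.mul_mem huA (A.pow_mem hvA j), ?_⟩
      intro h
      apply huv
      have : u = (v ^ j)⁻¹ := eq_inv_of_mul_eq_one_left h
      rw [this]
      exact (zpowers v).inv_mem ((zpowers v).pow_mem (mem_zpowers v) j)
    · refine ⟨A.pow_mem hvA m, ?_⟩
      intro h
      have hdvd := orderOf_dvd_of_pow_eq_one h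
      rw [hvord] at hdvd
      have := Nat.le_of_dvd hm0 hdvd
      omega
  have key : ∀ q : ℕ, q.Prime →
      (Nat.card K).factorization q + (Nat.card ↥(X ⊓ Y)).factorization q =
      (Nat.card X).factorization q + (Nat.card Y).factorization q := by
    intro q hq
    have : Fact q.Prime := ⟨hq⟩
    exact coprime_factorization_local p q A K X Y u v huA hvA hAcomm hAe hsolvA hcop hKp hAK hX hY
      hAX hAY hCX (fun g hg => hfac g (hT g hg).1 (hT g hg).2)
  have hcard : Nat.card K * Nat.card ↥(X ⊓ Y) = Nat.card X * Nat.card Y := by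
    apply Nat.eq_of_factorization_eq (Nat.mul_ne_zero Nat.card_pos.ne' Nat.card_pos.ne')
      (Nat.mul_ne_zero Nat.card_pos.ne' Nat.card_pos.ne')
    intro q
    rw [Nat.factorization_mul Nat.card_pos.ne' Nat.card_pos.ne',
      Nat.factorization_mul Nat.card_pos.ne' Nat.card_pos.ne']
    by_cases hq : q.Prime
    · simpa using key q hq
    · simp [Nat.factorization_eq_zero_of_not_prime _ hq]
  have e := card_mul_set_mul_card_inf X Y
  rw [← hcard] at e
  have e' : Nat.card ↥((X : Set H) * (Y : Set H)) = Nat.card K :=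
    Nat.eq_of_mul_eq_mul_right Nat.card_pos e
  symm
  apply Set.eq_of_subset_of_ncard_le _ _ (Set.toFinite _)
  · rintro _ ⟨x, hx, y, hy, rfl⟩
    exact K.mul_mem (hX hx) (hY hy)
  · rw [← Nat.card_coe_set_eq, ← Nat.card_coe_set_eq, e']
    rfl

end Cfsg.Agent.S1287
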