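import Cfsg.Statements.S1289
import Mathlib
import Cfsg.Agent.Lib.Helper21.Components
import Cfsg.Agent.Lib.Helper30.PPrimeCore

set_option autoImplicit false
open Cfsg

namespace Cfsg.Agent.S1289

/-- A p-component K of the finite group X is subnormal, perfect, of order divisible by p, and minimal among the subnormal perfect subgroups of X of order divisible by p. -/
theorem result {X : Type*} [Group X] [Finite X] (p : ℕ) [Fact p.Prime] (K : Subgroup X) (hK : Cfsg.IsPComponent p K) : K.IsSubnormal ∧ ⁅K, K⁆ = K ∧ p ∣ Nat.card ↥K ∧ ∀ H : Subgroup X, H ≤ K → H.IsSubnormal → ⁅H, H⁆ = H → p ∣ Nat.card ↥H → H = K := by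
  obtain ⟨hsn, hcomp, hmin⟩ := hK
  set q := QuotientGroup.mk' (Cfsg.pPrimeCore p X) with hq
  obtain ⟨hKbar_sn, hKbar_q⟩ := hcomp
  have hKbar_perf : ⁅K.map q, K.map q⁆ = K.map q := by
    have := hKbar_q.1
    exact Subgroup.commutator_eq_self
  have hKbar_nt : Nontrivial ↥(K.map q) := Cfsg.Agent.Lib.Helper21.quasisimple_nontrivial hKbar_q
  have hcop := Cfsg.Agent.Lib.Helper30.pPrimeCore_card_coprime (G := X) p
  -- a subgroup with trivial image has order prime to p
  have htriv : ∀ H : Subgroup X, H.map q = ⊥ → (Nat.card ↥H).Coprime p := by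
    intro H hH
    rw [Subgroup.map_eq_bot_iff, QuotientGroup.ker_mk'] at hH
    exact Nat.Coprime.coprime_dvd_left (Subgroup.card_dvd_of_le hH) hcop
  have hpdvd_iff : ∀ n : ℕ, n.Coprime p → ¬ p ∣ n := by
    intro n hn hd
    have h2 : p ∣ Nat.gcd n p := Nat.dvd_gcd hd (dvd_refl p)
    rw [Nat.Coprime] at hn
    rw [hn] at h2
    exact (Fact.out : p.Prime).one_lt.ne' (Nat.dvd_one.mp h2)
  refine ⟨hsn, ?_, ?_, ?_⟩
  · -- perfect
    apply hmin ⁅K, K⁆
    · have hn : (⁅K, K⁆.subgroupOf K).Normal := by
        have : ⁅K, K⁆.subgroupOf K = commutator ↥K := by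
          apply Subgroup.map_injective K.subtype_injective
          rw [Subgroup.map_subgroupOf_eq_of_le (Subgroup.commutator_le_self K),
            Subgroup.map_subtype_commutator]
        rw [this]
        infer_instance
      exact Subgroup.IsSubnormal.trans (Subgroup.commutator_le_self K) hn.isSubnormal hsn
    · exact Subgroup.commutator_le_self K
    · rw [Subgroup.map_commutator, hKbar_perf]
  · -- p divides |K|
    by_contra hnd
    have hc : (Nat.card ↥K).Coprime p :=
      ((Nat.Prime.coprime_iff_not_dvd (Fact.out : p.Prime)).mpr hnd).symm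
    have hle := Cfsg.Agent.Lib.Helper30.subnormal_le_pPrimeCore p K hsn hc
    have : K.map q = ⊥ := by
      rw [Subgroup.map_eq_bot_iff, QuotientGroup.ker_mk']
      exact hle
    rw [this] at hKbar_nt
    exact not_nontrivial _ hKbar_nt
  · intro H hHK hHsn hHperf hpH
    apply hmin H hHsn hHK
    have hHbar_le : H.map q ≤ K.map q := Subgroup.map_mono hHK
    have hHbar_sn : (H.map q).IsSubnormal := hHsn.map (QuotientGroup.mk'_surjective _)
    have hsub : ((H.map q).subgroupOf (K.map q)).IsSubnormal := hHbar_sn.subgroupOf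
    rcases Cfsg.Agent.Lib.Helper21.quasisimple_subnormal hKbar_q hsub with h | h
    · rw [Subgroup.subgroupOf_eq_top] at h
      exact le_antisymm hHbar_le h
    · exfalso
      -- the image of H is abelian and perfect, hence trivial
      have hab : ⁅H.map q, H.map q⁆ = ⊥ := by
        rw [Subgroup.commutator_eq_bot_iff_le_centralizer]
        intro x hx
        rw [Subgroup.mem_centralizer_iff]
        intro y hy
        have hx' : (⟨x, hHbar_le hx⟩ : ↥(K.map q)) ∈ (H.map q).subgroupOf (K.map q) := by
          rw [Subgroup.mem_subgroupOf]; exact hx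
        have hc := h hx'
        rw [Subgroup.mem_center_iff] at hc
        have := hc ⟨y, hHbar_le hy⟩
        exact congrArg Subtype.val this
      have hperf : ⁅H.map q, H.map q⁆ = H.map q := by
        rw [← Subgroup.map_commutator, hHperf]
      rw [hperf] at hab
      exact hpdvd_iff _ (htriv H hab) hpH

end Cfsg.Agent.S1289
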