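import Cfsg.Statements.S1297
import Cfsg.Agent.Lib.Helper22.BalK

set_option autoImplicit false
open Cfsg

namespace Cfsg.Agent.S1297

/-- Let G be finite. Suppose that for every involution x, writing C = C_G(x), every component K of C / O(C) has K / Z(K) locally balanced. Then G is balanced. -/
theorem result {G : Type*} [Group G] [Finite G] (h : ∀ x : G, orderOf x = 2 → ∀ K : Subgroup (↥(Subgroup.centralizer ({x} : Set G)) ⧸ Cfsg.oddCore ↥(Subgroup.centralizer ({x} : Set G))), Cfsg.IsComponent K → Cfsg.IsLocallyBalanced (↥K ⧸ Subgroup.center ↥K)) : Cfsg.IsBalanced G := by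
  classical
  haveI : Fact (Nat.Prime 2) := ⟨Nat.prime_two⟩
  have key : ∀ x y : G, orderOf x = 2 → orderOf y = 2 → x * y = y * x →
      Cfsg.centralizerPPrimeCore 2 x ⊓ Subgroup.centralizer {y} ≤
        Cfsg.centralizerPPrimeCore 2 y := by
    intro x y hx hy hxy
    have hx2 : x ^ 2 = 1 := by rw [← hx]; exact pow_orderOf_eq_one x
    have hel : Cfsg.IsElementaryAbelian 2 (Subgroup.zpowers x) := by
      refine ⟨inferInstance, ?_⟩
      rintro _ ⟨n, rfl⟩
      rw [← zpow_natCast, ← zpow_mul, mul_comm, zpow_mul, zpow_natCast, hx2, one_zpow]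
    have hcard : Nat.card (Subgroup.zpowers x) = 2 ^ 1 := by
      rw [Nat.card_zpowers, hx, pow_one]
    have hAC : Subgroup.zpowers x ≤ Subgroup.centralizer ({y} : Set G) := by
      rw [Subgroup.zpowers_le, Subgroup.mem_centralizer_singleton_iff]
      exact hxy
    have hmem : ∀ a ∈ Subgroup.zpowers x, a ≠ 1 → a = x := by
      rintro _ ⟨n, rfl⟩ hne
      rcases Int.emod_two_eq_zero_or_one n with h0 | h1
      · exfalso
        apply hne
        change x ^ n = 1
        rw [← zpow_mod_orderOf, hx]
        have : n % ((2 : ℕ) : ℤ) = 0 := by exact_mod_cast h0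
        rw [this, zpow_zero]
      · change x ^ n = x
        rw [← zpow_mod_orderOf, hx]
        have : n % ((2 : ℕ) : ℤ) = 1 := by exact_mod_cast h1
        rw [this, zpow_one]
    have hle : Cfsg.centralizerPPrimeCore 2 x ≤ Cfsg.signalizerDelta 2 (Subgroup.zpowers x) := by
      unfold Cfsg.signalizerDelta
      apply le_iInf
      rintro ⟨a, ha, ha1⟩
      have := hmem a ha ha1
      subst this
      exact le_rfl
    refine le_trans (inf_le_inf_right _ hle) ?_
    exact Cfsg.Agent.Lib.Helper22.Bal.kBalanced_step (p := 2) (k := 1) le_rfl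
      (fun K hK => Cfsg.Agent.Lib.Helper22.Bal.isLocallyKBalanced_of_isLocallyBalanced
        (h y hy K hK)) hel hcard hAC
  intro x y hx hy hxy
  apply le_antisymm
  · exact le_inf (key x y hx hy hxy)
      (inf_le_left.trans (Cfsg.Agent.S1861.cppc_le x))
  · exact le_inf (key y x hy hx hxy.symm)
      (inf_le_left.trans (Cfsg.Agent.S1861.cppc_le y))

end Cfsg.Agent.S1297
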