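import Cfsg.Statements.S1298
import Cfsg.Agent.Lib.Helper22.BalK

set_option autoImplicit false
open Cfsg

namespace Cfsg.Agent.S1298

/-- Let G be finite and k ≥ 1. Suppose that for every x of order p, writing C = C_G(x), every component K of C / O_{p'}(C) has K / Z(K) locally k-balanced for p. Then G is k-balanced for p. -/
theorem result {G : Type*} [Group G] [Finite G] (p k : ℕ) [Fact p.Prime] (hk : 1 ≤ k) (h : ∀ x : G, orderOf x = p → ∀ K : Subgroup (↥(Subgroup.centralizer ({x} : Set G)) ⧸ Cfsg.pPrimeCore p ↥(Subgroup.centralizer ({x} : Set G))), Cfsg.IsComponent K → Cfsg.IsLocallyKBalanced p k (↥K ⧸ Subgroup.center ↥K)) : Cfsg.IsKBalanced p k G := by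
  classical
  intro A hA hAk b hb hAb
  have hp : p.Prime := Fact.out
  have hAC : A ≤ Subgroup.centralizer ({b} : Set G) := by
    intro a ha
    rw [Subgroup.mem_centralizer_singleton_iff]
    exact hAb a ha
  have hne : ∃ a ∈ A, a ≠ 1 := by
    by_contra hcon
    push Not at hcon
    have hbot : A = ⊥ := (Subgroup.eq_bot_iff_forall A).mpr hcon
    rw [hbot, Subgroup.card_bot] at hAk
    have : 1 < p ^ k := Nat.one_lt_pow (by omega) hp.one_lt
    omega
  unfold Cfsg.centralizerPPrimeCore
  apply Cfsg.Agent.Lib.Helper22.Bal.delta_inf_le_of_quotient hA hAC hne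
  intro K hK hAK hAcent
  have hel : Cfsg.IsElementaryAbelian p ((A.subgroupOf (Subgroup.centralizer ({b} : Set G))).map
      (QuotientGroup.mk' (Cfsg.pPrimeCore p ↥(Subgroup.centralizer ({b} : Set G))))) :=
    Cfsg.Agent.Lib.Helper22.Bal.isElementaryAbelian_map _
      (Cfsg.Agent.Lib.Helper22.Bal.isElementaryAbelian_subgroupOf hA _)
  have hcard : Nat.card ((A.subgroupOf (Subgroup.centralizer ({b} : Set G))).map
      (QuotientGroup.mk' (Cfsg.pPrimeCore p ↥(Subgroup.centralizer ({b} : Set G))))) = p ^ k := by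
    rw [Cfsg.Agent.Lib.Helper22.Bal.card_map_mk_eq hA hAC, hAk]
  have hne' : ∃ a ∈ (A.subgroupOf (Subgroup.centralizer ({b} : Set G))).map
      (QuotientGroup.mk' (Cfsg.pPrimeCore p ↥(Subgroup.centralizer ({b} : Set G)))), a ≠ 1 := by
    by_contra hcon
    push Not at hcon
    have hbot := (Subgroup.eq_bot_iff_forall _).mpr hcon
    rw [hbot, Subgroup.card_bot] at hcard
    have : 1 < p ^ k := Nat.one_lt_pow (by omega) hp.one_lt
    omega
  exact Cfsg.Agent.Lib.Helper22.Bal.delta_le_centralizer_of_local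
    (Cfsg.Agent.Lib.Helper30.pPrimeCore_quotient_eq_bot p) hel hcard hne' hK hAK hAcent
    (Cfsg.Agent.Lib.Helper22.LBalS.actQuot K)
    (Cfsg.Agent.Lib.Helper22.Bal.ker_actQuot_eq (Cfsg.Agent.Lib.Helper22.component_perfect hK))
    (Cfsg.Agent.Lib.Helper22.Bal.conj_range_le_map_actQuot K)
    (h b hb K hK)

end Cfsg.Agent.S1298
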