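import Cfsg.Statements.S1300
import Mathlib

set_option autoImplicit false
open Cfsg

namespace Cfsg.Agent.S1300

/-- For a finite group G, balance in the sense of commuting involutions is the same as 1-balance for the prime 2. -/
theorem result {G : Type*} [Group G] [Finite G] : Cfsg.IsBalanced G ↔ Cfsg.IsKBalanced 2 1 G := by
  have hcore_le : ∀ x : G, centralizerPPrimeCore 2 x ≤ Subgroup.centralizer {x} := by
    intro x
    unfold centralizerPPrimeCore
    exact Subgroup.map_subtype_le _
  constructor
  · intro hbal A hA hcard b hb hcomm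
    -- A has exactly two elements, so there is a non-identity a in A
    have hA2 : Nat.card A = 2 := by simpa using hcard
    haveI : Nontrivial A := by
      rw [← Finite.one_lt_card_iff_nontrivial]
      omega
    obtain ⟨⟨a, haA⟩, ha1⟩ := exists_ne (1 : A)
    have ha1' : a ≠ 1 := fun h => ha1 (Subtype.ext h)
    have hap : a ^ 2 = 1 := hA.2 a haA
    have hoa : orderOf a = 2 := orderOf_eq_prime hap ha1'
    have hab : a * b = b * a := hcomm a haA
    have hle : signalizerDelta 2 A ≤ centralizerPPrimeCore 2 a := by
      unfold signalizerDelta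
      exact iInf_le (fun a : {a : G // a ∈ A ∧ a ≠ 1} => centralizerPPrimeCore 2 (a : G)) ⟨a, haA, ha1'⟩
    have := hbal a b hoa hb hab
    calc signalizerDelta 2 A ⊓ Subgroup.centralizer {b}
        ≤ centralizerPPrimeCore 2 a ⊓ Subgroup.centralizer {b} := inf_le_inf_right _ hle
      _ = centralizerPPrimeCore 2 b ⊓ Subgroup.centralizer {a} := this
      _ ≤ centralizerPPrimeCore 2 b := inf_le_left
  · intro hk
    have key : ∀ x y : G, orderOf x = 2 → orderOf y = 2 → x * y = y * x →
        centralizerPPrimeCore 2 x ⊓ Subgroup.centralizer {y} ≤ centralizerPPrimeCore 2 y := by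
      intro x y hx hy hxy
      have hA : IsElementaryAbelian 2 (Subgroup.zpowers x) := by
        refine ⟨inferInstance, ?_⟩
        intro a ha
        obtain ⟨k, rfl⟩ := Subgroup.mem_zpowers_iff.mp ha
        rw [← zpow_natCast, ← zpow_mul, mul_comm, zpow_mul, zpow_natCast, ← hx, pow_orderOf_eq_one, one_zpow]
      have hcard : Nat.card (Subgroup.zpowers x) = 2 ^ 1 := by
        rw [Nat.card_zpowers, hx, pow_one]
      have hcomm : ∀ a ∈ Subgroup.zpowers x, a * y = y * a := by
        intro a ha
        obtain ⟨k, rfl⟩ := Subgroup.mem_zpowers_iff.mp ha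
        exact (Commute.zpow_left hxy k)
      have h1 := hk (Subgroup.zpowers x) hA hcard y hy hcomm
      have hle : centralizerPPrimeCore 2 x ≤ signalizerDelta 2 (Subgroup.zpowers x) := by
        unfold signalizerDelta
        refine le_iInf ?_
        rintro ⟨a, ha, ha1⟩
        -- a is a non-identity element of zpowers x with x of order 2, so a = x
        obtain ⟨k, rfl⟩ := Subgroup.mem_zpowers_iff.mp ha
        have : x ^ k = x := by
          rcases Int.even_or_odd k with ⟨m, hm⟩ | ⟨m, hm⟩
          · exfalso
            apply ha1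
            have hx2 : x ^ (2 : ℤ) = 1 := by
              rw [show (2 : ℤ) = ((2 : ℕ) : ℤ) by norm_num, zpow_natCast, ← hx, pow_orderOf_eq_one]
            rw [hm, ← two_mul, zpow_mul, hx2, one_zpow]
          · have hx2 : x ^ (2 : ℤ) = 1 := by
              rw [show (2 : ℤ) = ((2 : ℕ) : ℤ) by norm_num, zpow_natCast, ← hx, pow_orderOf_eq_one]
            rw [hm, zpow_add, zpow_mul, hx2, one_zpow, one_mul, zpow_one]
        simp only [this]
        exact le_refl _
      exact le_trans (inf_le_inf_right _ hle) h1
    intro x y hx hy hxy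
    apply le_antisymm
    · exact le_inf (key x y hx hy hxy) (le_trans inf_le_left (hcore_le x))
    · exact le_inf (key y x hy hx hxy.symm) (le_trans inf_le_left (hcore_le y))

end Cfsg.Agent.S1300
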