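import Cfsg.Statements.S1303
import Mathlib

set_option autoImplicit false
open Cfsg

namespace Cfsg.Agent.S1303

/-- abbreviation for the group -/
abbrev SL23 := Matrix.SpecialLinearGroup (Fin 2) (ZMod 3)

/-- explicit finiteness -/
instance instFintypeSL23 : Fintype SL23 := by
  unfold SL23 Matrix.SpecialLinearGroup; infer_instance

/-- the central involution -/
def zz : SL23 := ⟨!![2,0;0,2], by decide⟩

/-- an element of order 3 -/
def uu : SL23 := ⟨!![1,1;0,1], by decide⟩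

set_option maxRecDepth 100000 in
theorem normal_closure_aux : ∀ g : SL23, g ≠ 1 →
    (g ^ 2 = zz ∨ g ^ 3 = zz ∨ ∃ h : SL23, (h * g * h⁻¹ * g⁻¹) ^ 2 = zz) := by decide

set_option maxRecDepth 100000 in
theorem invol : ∀ g : SL23, g ^ 2 = 1 → g ≠ 1 → g = zz := by decide

set_option maxRecDepth 100000 in
theorem zz_central : zz ∈ Subgroup.center SL23 := by
  rw [Subgroup.mem_center_iff]
  decide

set_option maxRecDepth 100000 in
theorem q8_mul : ∀ a b : SL23, a ^ 4 = 1 → b ^ 4 = 1 → (a * b) ^ 4 = 1 := by decide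

set_option maxRecDepth 100000 in
theorem q8_conj : ∀ a g : SL23, a ^ 4 = 1 → (g * a * g⁻¹) ^ 4 = 1 := by decide

set_option maxRecDepth 100000 in
theorem cent_Q8 : ∀ g : SL23, (∀ h : SL23, h ^ 4 = 1 → h * g = g * h) → g ^ 4 = 1 := by decide

/-- the quaternion subgroup -/
def Q8 : Subgroup SL23 where
  carrier := {g | g ^ 4 = 1}
  mul_mem' := by
    intro a b ha hb
    exact q8_mul a b ha hb
  one_mem' := by simp
  inv_mem' := by
    intro a ha
    show a⁻¹ ^ 4 = 1
    have ha' : a ^ 4 = 1 := ha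
    rw [inv_pow, ha', inv_one]

theorem Q8_normal : Q8.Normal := ⟨fun a ha g => q8_conj a g ha⟩

theorem Q8_isPGroup : IsPGroup 2 Q8 := by
  rintro ⟨g, hg⟩
  refine ⟨2, ?_⟩
  apply Subtype.ext
  have hg' : g ^ 4 = 1 := hg
  simpa using hg'

theorem zz_order : orderOf zz = 2 := orderOf_eq_prime (by decide) (by decide)

theorem odd_normal_eq_bot (N : Subgroup SL23) (hN : N.Normal) (hodd : (Nat.card N).Coprime 2) :
    N = ⊥ := by
  rw [eq_bot_iff]
  intro g hg
  rw [Subgroup.mem_bot]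
  by_contra hg1
  have hz : zz ∈ N := by
    rcases normal_closure_aux g hg1 with h | h | ⟨h, hh⟩
    · rw [← h]; exact N.pow_mem hg 2
    · rw [← h]; exact N.pow_mem hg 3
    · rw [← hh]
      exact N.pow_mem (N.mul_mem (hN.conj_mem g hg h) (N.inv_mem hg)) 2
  have := Subgroup.orderOf_dvd_natCard N hz
  rw [zz_order] at this
  have h2 : (2 : ℕ) ∣ Nat.gcd (Nat.card N) 2 := Nat.dvd_gcd this (dvd_refl 2)
  rw [Nat.Coprime] at hodd
  rw [hodd] at h2
  exact absurd h2 (by decide)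

theorem Q8_le : Q8 ≤ Cfsg.pPrimePCore 2 SL23 := by
  intro g hg
  unfold Cfsg.pPrimePCore
  rw [Subgroup.mem_comap]
  unfold Cfsg.pCore
  have hmem : Q8.map (QuotientGroup.mk' (Cfsg.pPrimeCore 2 SL23)) ∈
      {N : Subgroup (SL23 ⧸ Cfsg.pPrimeCore 2 SL23) | N.Normal ∧ IsPGroup 2 N} := by
    refine ⟨?_, ?_⟩
    · exact Q8_normal.map _ (QuotientGroup.mk'_surjective _)
    · exact Q8_isPGroup.map _
  exact le_sSup hmem ⟨g, hg, rfl⟩

/-- The group X = SL(2, 3): it is 2-constrained, O_{2'}(X) = 1, its centre A = Z(X) contains every involution of X = C_X(A), and X has a subgroup of order 3 (normalized by A) not contained in O_{2'}(X). -/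
theorem result : Cfsg.IsPConstrained 2 (Matrix.SpecialLinearGroup (Fin 2) (ZMod 3)) ∧ Cfsg.pPrimeCore 2 (Matrix.SpecialLinearGroup (Fin 2) (ZMod 3)) = ⊥ ∧ (∀ t : Matrix.SpecialLinearGroup (Fin 2) (ZMod 3), orderOf t = 2 → t ∈ Subgroup.center (Matrix.SpecialLinearGroup (Fin 2) (ZMod 3))) ∧ ∃ Q : Subgroup (Matrix.SpecialLinearGroup (Fin 2) (ZMod 3)), Nat.card ↥Q = 3 ∧ ¬ (Q ≤ Cfsg.pPrimeCore 2 (Matrix.SpecialLinearGroup (Fin 2) (ZMod 3))) := by
  have hcore : Cfsg.pPrimeCore 2 SL23 = ⊥ := by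
    unfold Cfsg.pPrimeCore
    rw [eq_bot_iff]
    apply sSup_le
    rintro N ⟨hN, hcop⟩
    exact le_of_eq (odd_normal_eq_bot N hN hcop)
  refine ⟨?_, hcore, ?_, ?_⟩
  · intro P
    have h1 : Q8.subgroupOf (Cfsg.pPrimePCore 2 SL23) ≤ (P : Subgroup ↥(Cfsg.pPrimePCore 2 SL23)) := by
      have : (Q8.subgroupOf (Cfsg.pPrimePCore 2 SL23)).Normal := Q8_normal.subgroupOf _
      apply IsPGroup.le_sylow_of_normal
      exact Q8_isPGroup.comap_subtype
    have h2 : Q8 ≤ (P : Subgroup ↥(Cfsg.pPrimePCore 2 SL23)).map (Cfsg.pPrimePCore 2 SL23).subtype := by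
      intro g hg
      have hgM : g ∈ Cfsg.pPrimePCore 2 SL23 := Q8_le hg
      exact ⟨⟨g, hgM⟩, h1 (by rw [Subgroup.mem_subgroupOf]; exact hg), rfl⟩
    intro g hg
    apply Q8_le
    apply cent_Q8 g
    intro h hh
    exact hg h (h2 hh)
  · intro t ht
    have h2 : t ^ 2 = 1 := by
      have := pow_orderOf_eq_one t
      rwa [ht] at this
    have h1 : t ≠ 1 := by
      rintro rfl
      simp at ht
    rw [invol t h2 h1]
    exact zz_central
  · refine ⟨Subgroup.zpowers uu, ?_, ?_⟩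
    · rw [Nat.card_zpowers]
      exact orderOf_eq_prime (by decide) (by decide)
    · rw [hcore]
      intro h
      have := h (Subgroup.mem_zpowers uu)
      rw [Subgroup.mem_bot] at this
      revert this
      decide

end Cfsg.Agent.S1303
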