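import Cfsg.Statements.S1304
import Mathlib

set_option autoImplicit false
open Cfsg

namespace Cfsg.Agent.S1304

/-- Let X be a perfect group and α an automorphism of X with α(x) x⁻¹ central for every x. Then α is the identity. -/
theorem result {X : Type*} [Group X] (hperf : commutator X = ⊤) (α : X ≃* X) (h : ∀ x : X, α x * x⁻¹ ∈ Subgroup.center X) : ∀ x : X, α x = x := by
  have key : ∀ z ∈ Subgroup.center X, ∀ g : X, g * z = z * g := fun z hz g =>
    Subgroup.mem_center_iff.mp hz g
  have hfix : ∀ x ∈ commutator X, α x = x := by
    intro x hx
    rw [commutator_def] at hx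
    refine Subgroup.closure_induction (p := fun x _ => α x = x) ?_ ?_ ?_ ?_ hx
    · rintro g ⟨a, _, b, _, rfl⟩
      have ha := key _ (h a)
      have hb := key _ (h b)
      have ea : α a = (α a * a⁻¹) * a := by group
      have eb : α b = (α b * b⁻¹) * b := by group
      generalize α a * a⁻¹ = za at ha ea
      generalize α b * b⁻¹ = zb at hb eb
      rw [commutatorElement_def, map_mul, map_mul, map_mul, map_inv, map_inv, ea, eb]
      have e1 : za * a * (zb * b) = (a * b) * (za * zb) := by
        calc za * a * (zb * b) = za * (a * zb) * b := by group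
          _ = za * (zb * a) * b := by rw [hb a]
          _ = za * (zb * (a * b)) := by group
          _ = za * ((a * b) * zb) := by rw [hb (a * b)]
          _ = (za * (a * b)) * zb := by group
          _ = ((a * b) * za) * zb := by rw [ha (a * b)]
          _ = a * b * (za * zb) := by group
      have e2 : (za * a)⁻¹ * (zb * b)⁻¹ = (za * zb)⁻¹ * (a⁻¹ * b⁻¹) := by
        rw [← mul_inv_rev, ← mul_inv_rev, ← mul_inv_rev]
        congr 1
        calc zb * b * (za * a) = zb * (b * za) * a := by group
          _ = zb * (za * b) * a := by rw [ha b]
          _ = (zb * za) * (b * a) := by group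
          _ = (za * zb) * (b * a) := by rw [ha zb]
          _ = za * (zb * (b * a)) := by group
          _ = za * ((b * a) * zb) := by rw [hb (b * a)]
          _ = (za * (b * a)) * zb := by group
          _ = ((b * a) * za) * zb := by rw [ha (b * a)]
          _ = b * a * (za * zb) := by group
      calc za * a * (zb * b) * (za * a)⁻¹ * (zb * b)⁻¹
          = (za * a * (zb * b)) * ((za * a)⁻¹ * (zb * b)⁻¹) := by group
        _ = a * b * a⁻¹ * b⁻¹ := by rw [e1, e2]; group
    · exact map_one α
    · intro x y _ _ hx hy
      rw [map_mul, hx, hy]
    · intro x _ hx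
      rw [map_inv, hx]
  intro x
  exact hfix x (hperf ▸ Subgroup.mem_top x)

end Cfsg.Agent.S1304
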