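import Cfsg.Statements.S1305
import Cfsg.Agent.Lib.Helper25.Mc0
import Cfsg.Agent.Lib.Helper25.Mc9
import Cfsg.Agent.Lib.Helper25.Mc4a
import Cfsg.Agent.Lib.Helper99.McMC4bFin
import Cfsg.Agent.Lib.Helper70.Mc5
import Cfsg.Agent.Lib.Helper90.McSCore
import Cfsg.Agent.Lib.Helper22.McE
import Cfsg.Agent.Lib.Helper22.McC
import Cfsg.Agent.Lib.Helper2.McMC7
import Cfsg.Agent.Lib.Helper91.Components

set_option autoImplicit false
open Cfsg

namespace Cfsg.Agent.S1305

open Cfsg.Agent.Lib.Helper22.Mc Cfsg.Agent.Lib.Helper22.McC Subgroup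

/-- Let G be a finite group of component type with the B-property and no nontrivial normal subgroup of odd order. Let a be an involution and K a component of C_G(a) such that (a) |K| is maximal among the orders of components of centralizers of involutions of G, (b) subject to (a) the 2-rank of the centralizer of K in C_G(a) is as large as possible, and (c) K has 2-rank at least 2. If B is an elementary abelian 2-subgroup of that centralizer of the largest possible order, then K is a component of C_G(b) for every non-identity b ∈ B. -/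
theorem result {G : Type*} [Group G] [Finite G] (hO : Cfsg.oddCore G = ⊥) (hB : Cfsg.HasBProperty G) (hct : Cfsg.IsComponentType G) (a : G) (ha : orderOf a = 2) (K : Subgroup G) (hKa : K ≤ Subgroup.centralizer ({a} : Set G)) (hK : Cfsg.IsComponent (K.subgroupOf (Subgroup.centralizer ({a} : Set G)))) (hmax : ∀ y : G, orderOf y = 2 → ∀ K' : Subgroup G, K' ≤ Subgroup.centralizer ({y} : Set G) → Cfsg.IsComponent (K'.subgroupOf (Subgroup.centralizer ({y} : Set G))) → Nat.card ↥K' ≤ Nat.card ↥K ∧ (Nat.card ↥K' = Nat.card ↥K → ∀ k : ℕ, Cfsg.PRankLE 2 k ↥(Subgroup.centralizer ({a} : Set G) ⊓ Subgroup.centralizer (K : Set G)) → Cfsg.PRankLE 2 k ↥(Subgroup.centralizer ({y} : Set G) ⊓ Subgroup.centralizer (K' : Set G)))) (hrk : ¬ Cfsg.PRankLE 2 1 ↥K) (B : Subgroup G) (hBle : B ≤ Subgroup.centralizer ({a} : Set G) ⊓ Subgroup.centralizer (K : Set G)) (hBel : Cfsg.IsElementaryAbelian 2 B) (hBmax : ∀ B' : Subgroup G, B' ≤ Subgroup.centralizer ({a} : Set G) ⊓ Subgroup.centralizer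 (K : Set G) → Cfsg.IsElementaryAbelian 2 B' → Nat.card ↥B' ≤ Nat.card ↥B) (b : G) (hb : b ∈ B) (hb1 : b ≠ 1) : K ≤ Subgroup.centralizer ({b} : Set G) ∧ Cfsg.IsComponent (K.subgroupOf (Subgroup.centralizer ({b} : Set G))) := by
  have hb2 : b ^ 2 = 1 := hBel.2 b hb
  have hbo : orderOf b = 2 := orderOf_eq_prime hb2 hb1
  have hbmem := hBle hb
  have hba : b * a = a * b := mem_centralizer_singleton_iff.mp hbmem.1
  have hab : a * b = b * a := hba.symm
  have hKb : K ≤ centralizer ({b} : Set G) := fun k hk =>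
    mem_centralizer_singleton_iff.mpr (mem_centralizer_iff.mp hbmem.2 k hk)
  obtain ⟨heven, -⟩ := mc0 K hrk
  obtain ⟨J, hJb, hJ, hcase⟩ := mcs_core (@Cfsg.Agent.Lib.Helper22.McE.mc2) (@mc9) (@mc4a)
    (@Cfsg.Agent.Lib.Helper99.McMC4bFin.mc4b) (@mc5) hO hB a b ha hbo hab K hKa hKb hK heven
  have hmaxJ := hmax b hbo J hJb hJ
  refine ⟨hKb, ?_⟩
  rcases hcase with ⟨-, hKJ⟩ | ⟨hJa, hdiag⟩
  · have hKJeq : K = J := by
      apply le_antisymm hKJ
      intro x hx
      by_contra hxK
      have hlt : Nat.card K < Nat.card J := by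
        have hss : (K : Set G) ⊂ (J : Set G) :=
          ⟨hKJ, fun h => hxK (h hx)⟩
        have := Set.ncard_lt_ncard hss (Set.toFinite _)
        have h1 : (K : Set G).ncard = Nat.card K := (Nat.card_coe_set_eq _).symm
        have h2 : (J : Set G).ncard = Nat.card J := (Nat.card_coe_set_eq _).symm
        rw [h1, h2] at this
        exact this
      omega
    rw [hKJeq]; exact hJ
  · exfalso
    have hKna : ∃ k₁ ∈ K, ∃ k₂ ∈ K, k₁ * k₂ ≠ k₂ * k₁ := by
      by_contra hcon
      have hc : ∀ k₁ ∈ K, ∀ k₂ ∈ K, k₁ * k₂ = k₂ * k₁ := by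
        intro k₁ h₁ k₂ h₂
        by_contra hne
        exact hcon ⟨k₁, h₁, k₂, h₂, hne⟩
      have hsolv : Group.IsSolvable ↥(K.subgroupOf (centralizer ({a} : Set G))) := by
        apply Group.isSolvable_of_comm
        intro x y
        apply Subtype.ext
        apply Subtype.ext
        exact hc _ (mem_subgroupOf.mp x.2) _ (mem_subgroupOf.mp y.2)
      exact Cfsg.Agent.Lib.Helper91.not_isSolvable_of_isQuasisimple hK.2 hsolv
    obtain ⟨hJq, hcomm, hperm⟩ := mc8 a b ha hab J K hJb hJ hJa hdiag hKna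
    have hcardKJ : Nat.card K ≤ Nat.card J := by
      refine Nat.card_le_card_of_surjective
        (fun x : J => (⟨(x : G) * (a * (x : G) * a⁻¹), (hdiag _).mpr ⟨x, x.2, rfl⟩⟩ : K)) ?_
      rintro ⟨k, hk⟩
      obtain ⟨x, hx, rfl⟩ := (hdiag k).mp hk
      exact ⟨⟨x, hx⟩, rfl⟩
    have hcardeq : Nat.card J = Nat.card K := le_antisymm hmaxJ.1 hcardKJ
    refine mc7 a b ha hab K J hJq hJa hcomm hdiag hmaxJ.1 hJb hrk B hBle hBel hBmax hb ?_
      (hmaxJ.2 hcardeq)
    intro β hβ
    have hβmem := hBle hβ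
    refine hperm β ?_ (mem_centralizer_singleton_iff.mp hβmem.1) hβmem.2
    have := hBel.1.is_comm.comm (⟨β, hβ⟩ : ↥B) ⟨b, hb⟩
    exact congrArg Subtype.val this

end Cfsg.Agent.S1305
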