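import Cfsg.Statements.S1307
import Mathlib
import Cfsg.Agent.S0225
import Cfsg.Agent.S0016
import Cfsg.Agent.Lib.Helper21.Quasisimple
import Cfsg.Agent.Lib.Helper21.Components
import Cfsg.Agent.Lib.Helper66.Perfect

set_option autoImplicit false
open Cfsg

namespace Cfsg.Agent.S1307

/-- A finite perfect group of even order has no cyclic Sylow `2`-subgroup. -/
theorem s1307_not_cyclic {X : Type*} [Group X] [Finite X] (hperf : Group.IsPerfect X)
    (heven : Even (Nat.card X)) (S : Sylow 2 X) : ¬ IsCyclic ↥(S : Subgroup X) := by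
  intro hcyc
  have hmin : (Nat.card X).minFac = 2 := (Nat.minFac_eq_two_iff _).mpr heven.two_dvd
  have hP : Subgroup.normalizer (S : Set X) ≤ Subgroup.centralizer (S : Set X) :=
    IsCyclic.normalizer_le_centralizer hmin hcyc
  have hnd := MonoidHom.not_dvd_card_ker_transferSylow S hP
  haveI : IsMulCommutative (S : Subgroup X) :=
    ⟨⟨fun a b => Subtype.ext (hP (Subgroup.le_normalizer b.2) a a.2)⟩⟩
  have hker : (MonoidHom.transferSylow S hP).ker = ⊤ := by
    rw [eq_top_iff]
    intro g _
    rw [MonoidHom.mem_ker]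
    exact Cfsg.Agent.Lib.Helper66.hom_eq_one_of_isPerfect' hperf _ g
  rw [hker, Nat.card_congr (Subgroup.topEquiv (G := X)).toEquiv] at hnd
  exact hnd heven.two_dvd

/-- In a group of `2`-rank at most one, a central involution is the only involution. -/
theorem s1307_unique_invol {X : Type*} [Group X] [Finite X] (hrk : Cfsg.PRankLE 2 1 X) (z : X)
    (hz2 : z ^ 2 = 1) (hz1 : z ≠ 1) (hzc : z ∈ Subgroup.center X) (u : X) (hu2 : u ^ 2 = 1)
    (hu1 : u ≠ 1) : u = z := by
  by_contra hne
  have hcomm : ∀ a ∈ ({z, u} : Set X), ∀ b ∈ ({z, u} : Set X), a * b = b * a := by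
    intro a ha b hb
    rw [Subgroup.mem_center_iff] at hzc
    rcases ha with rfl | rfl <;> rcases hb with rfl | rfl
    · rfl
    · exact (hzc _).symm
    · exact hzc _
    · rfl
  have hA : IsMulCommutative (Subgroup.closure ({z, u} : Set X)) :=
    Subgroup.isMulCommutative_closure hcomm
  have hexp : ∀ a ∈ Subgroup.closure ({z, u} : Set X), a ^ 2 = 1 := by
    intro a ha
    induction ha using Subgroup.closure_induction with
    | mem x hx =>
      rcases hx with rfl | rfl
      · exact hz2
      · exact hu2
    | one => exact one_pow 2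
    | mul x y hx hy ihx ihy =>
      have hxy : x * y = y * x := by
        have := hA.is_comm.comm ⟨x, hx⟩ ⟨y, hy⟩
        exact congrArg Subtype.val this
      have hc : Commute x y := hxy
      rw [hc.mul_pow, ihx, ihy, one_mul]
    | inv x hx ihx => rw [inv_pow, ihx, inv_one]
  have hcard := hrk (Subgroup.closure ({z, u} : Set X)) hA hexp
  have hzm : z ∈ Subgroup.closure ({z, u} : Set X) := Subgroup.subset_closure (by simp)
  have hum : u ∈ Subgroup.closure ({z, u} : Set X) := Subgroup.subset_closure (by simp)
  let f : Fin 3 → ↥(Subgroup.closure ({z, u} : Set X)) :=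
    ![⟨1, Subgroup.one_mem _⟩, ⟨z, hzm⟩, ⟨u, hum⟩]
  have hf : Function.Injective f := by
    intro i j hij
    fin_cases i <;> fin_cases j <;> simp [f, Subtype.ext_iff] at hij ⊢
    · exact absurd hij.symm hz1
    · exact absurd hij.symm hu1
    · exact absurd hij hz1
    · exact absurd hij.symm hne
    · exact absurd hij hu1
    · exact absurd hij hne
  have := Nat.card_le_card_of_injective f hf
  rw [Nat.card_fin] at this
  omega

theorem result {G : Type*} [Group G] [Finite G] (x : G) (hx : orderOf x = 2) (L : Subgroup G) (hLx : L ≤ Subgroup.centralizer ({x} : Set G)) (hL : Cfsg.IsComponent (L.subgroupOf (Subgroup.centralizer ({x} : Set G)))) (heven : Even (Nat.card ↥L)) (hrk : Cfsg.PRankLE 2 1 ↥L) (hne : ∀ y : G, orderOf y = 2 → y ∈ Subgroup.centralizer (L : Set G) → L ≤ Subgroup.centralizer ({y} : Set G) ∧ Cfsg.IsComponent (L.subgroupOf (Subgroup.centralizer ({y} : Set G)))) : ∃ t ∈ L, Cfsg.IsClassicalInvolution t := by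
  -- `L` is quasisimple as an abstract group
  have hqL : Cfsg.IsQuasisimple ↥L :=
    Cfsg.Agent.Lib.Helper21.quasisimple_of_mulEquiv (Subgroup.subgroupOfEquivOfLe hLx) hL.2
  have hperf : Group.IsPerfect ↥L := hqL.1
  -- no Klein four-subgroup
  have hrank : ∀ E : Subgroup ↥L, ¬ IsKleinFour E := by
    intro E hE
    have h1 := hrk E IsKleinFour.isMulCommutative (fun a ha => by
      have := Monoid.pow_exponent_eq_one (⟨a, ha⟩ : E)
      rw [hE.exponent_two] at this
      exact congrArg Subtype.val this)
    rw [hE.card_four] at h1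
    omega
  obtain ⟨z, hz2, N, hNn, hNodd, hcomm⟩ := Cfsg.Agent.S0225.result heven hrank
  -- `N` is central
  have hNc : N ≤ Subgroup.center ↥L := by
    rcases Cfsg.Agent.Lib.Helper21.quasisimple_subnormal hqL hNn.isSubnormal with h | h
    · exfalso
      rw [h, Nat.card_congr (Subgroup.topEquiv (G := ↥L)).toEquiv] at hNodd
      exact (Nat.not_even_iff_odd.mpr hNodd) heven
    · exact h
  -- `z` is central in `L`
  have hzc : z ∈ Subgroup.center ↥L :=
    Cfsg.Agent.Lib.Helper66.mem_center_of_forall_commutator_mem_center hperf z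
      (fun g => hNc (hcomm g))
  have hz1 : z ≠ 1 := by
    intro h
    rw [h, orderOf_one] at hz2
    omega
  have hzsq : z ^ 2 = 1 := by rw [← hz2]; exact pow_orderOf_eq_one z
  -- the element `t`
  refine ⟨(z : G), z.2, ?_⟩
  have htord : orderOf (z : G) = 2 := by
    rw [← hz2]; exact Subgroup.orderOf_coe z
  have htC : (z : G) ∈ Subgroup.centralizer (L : Set G) := by
    rw [Subgroup.mem_centralizer_iff]
    intro g hg
    rw [Subgroup.mem_center_iff] at hzc
    have := hzc ⟨g, hg⟩
    exact congrArg Subtype.val this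
  obtain ⟨hLt, hLcomp⟩ := hne (z : G) htord htC
  refine ⟨htord, L, hLt, z.2, hLcomp.1, ?_⟩
  -- the Sylow 2-subgroup
  obtain ⟨S⟩ : Nonempty (Sylow 2 ↥L) := inferInstance
  have hncyc := s1307_not_cyclic hperf heven S
  have huniq : ∀ H K : Subgroup ↥(S : Subgroup ↥L), Nat.card H = 2 → Nat.card K = 2 → H = K := by
    have key : ∀ H : Subgroup ↥(S : Subgroup ↥L), Nat.card H = 2 →
        ∃ h : ↥(S : Subgroup ↥L), (h : ↥L) = z ∧ H = Subgroup.zpowers h := by
      intro H hH
      haveI : Nontrivial H := by
        rw [← Finite.one_lt_card_iff_nontrivial]; omega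
      obtain ⟨h, hh1⟩ := exists_ne (1 : H)
      have hh2 : h ^ 2 = 1 := by
        have := pow_card_eq_one' (G := H) (x := h)
        rwa [hH] at this
      have e1 : ((h : ↥(S : Subgroup ↥L)) : ↥L) = z := by
        apply s1307_unique_invol hrk z hzsq hz1 hzc
        · have := congrArg (fun a : H => ((a : ↥(S : Subgroup ↥L)) : ↥L)) hh2
          simpa using this
        · intro h0
          apply hh1
          apply Subtype.ext
          apply Subtype.ext
          simpa using h0
      refine ⟨(h : ↥(S : Subgroup ↥L)), e1, ?_⟩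
      symm
      apply Subgroup.eq_of_le_of_card_ge
      · rw [Subgroup.zpowers_le]; exact h.2
      · rw [hH, Nat.card_zpowers]
        have : orderOf (h : ↥(S : Subgroup ↥L)) = 2 := by
          apply orderOf_eq_prime
          · have := congrArg (fun a : H => (a : ↥(S : Subgroup ↥L))) hh2
            simpa using this
          · intro h0
            apply hh1
            apply Subtype.ext
            simpa using h0
        omega
    intro H K hH hK
    obtain ⟨h, hh, rfl⟩ := key H hH
    obtain ⟨k, hk, rfl⟩ := key K hK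
    have : h = k := Subtype.ext (hh.trans hk.symm)
    rw [this]
  rcases Cfsg.Agent.S0016.result 2 S.isPGroup' huniq with hc | ⟨_, n, ⟨e⟩⟩
  · exact absurd hc hncyc
  · rcases n with _ | m
    · exfalso
      apply hncyc
      rw [pow_zero] at e
      haveI := QuaternionGroup.quaternionGroup_one_isCyclic
      exact isCyclic_of_surjective e.symm e.symm.surjective
    · exact ⟨S, m, ⟨e⟩⟩

end Cfsg.Agent.S1307
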