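import Cfsg.Statements.S1313
import Cfsg.Agent.Lib.Helper22.FStar

set_option autoImplicit false
open Cfsg

namespace Cfsg.Agent.S1313

/-- For a finite group H, |H| ≤ |F*(H)|!. -/
theorem result {H : Type*} [Group H] [Finite H] : Nat.card H ≤ Nat.factorial (Nat.card ↥(Cfsg.generalizedFittingSubgroup H)) := by
  classical
  set N := Cfsg.generalizedFittingSubgroup H with hN
  haveI : N.Normal := Cfsg.Agent.Lib.Helper22.generalizedFittingSubgroup_normal H
  let φ : H →* MulAut ↥N := MulAut.conjNormal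
  -- kernel is the centralizer, hence inside N
  have hker : φ.ker ≤ N := by
    intro g hg
    rw [MonoidHom.mem_ker] at hg
    apply Cfsg.Agent.Lib.Helper22.centralizer_generalizedFitting_le H
    rw [Subgroup.mem_centralizer_iff]
    intro n hn
    have h1 : φ g ⟨n, hn⟩ = ⟨n, hn⟩ := by rw [hg]; rfl
    have h2 : ((φ g ⟨n, hn⟩ : ↥N) : H) = g * n * g⁻¹ := MulAut.conjNormal_apply g ⟨n, hn⟩
    rw [h1] at h2
    have h3 : n = g * n * g⁻¹ := h2
    calc n * g = (g * n * g⁻¹) * g := by rw [← h3]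
      _ = g * n := by group
  have h1 : Nat.card H = Nat.card ↥φ.ker * Nat.card ↥φ.range := by
    rw [← Subgroup.index_ker, Subgroup.card_mul_index]
  have h2 : Nat.card ↥φ.ker ≤ Nat.card ↥N := Subgroup.card_le_of_le hker
  have h3 : Nat.card ↥φ.range ≤ Nat.card (MulAut ↥N) := Subgroup.card_le_card_group _
  -- injection N × Aut N → Perm N
  let ψ : ↥N × MulAut ↥N → Equiv.Perm ↥N := fun cα =>
    (cα.2.toEquiv).trans (Equiv.mulLeft cα.1)
  have hψ : Function.Injective ψ := by
    rintro ⟨c, α⟩ ⟨c', α'⟩ h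
    have hc : c = c' := by
      have := congrArg (fun f : Equiv.Perm ↥N => f 1) h
      simpa [ψ] using this
    subst hc
    have hα : α = α' := by
      apply MulEquiv.ext
      intro x
      have := congrArg (fun f : Equiv.Perm ↥N => f x) h
      simpa [ψ] using this
    rw [hα]
  have h4 : Nat.card (↥N × MulAut ↥N) ≤ Nat.card (Equiv.Perm ↥N) :=
    Nat.card_le_card_of_injective ψ hψ
  rw [Nat.card_prod, Nat.card_perm] at h4
  calc Nat.card H = Nat.card ↥φ.ker * Nat.card ↥φ.range := h1
    _ ≤ Nat.card ↥N * Nat.card (MulAut ↥N) := Nat.mul_le_mul h2 h3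
    _ ≤ (Nat.card ↥N).factorial := h4

end Cfsg.Agent.S1313
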