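import Cfsg.Statements.S1314
import Mathlib

set_option autoImplicit false
open Cfsg
open scoped commutatorElement

namespace Cfsg.Agent.S1314

/-- Let x be an involution of a group G and L a perfect subgroup with ⁅L, x L x⁻¹⁆ = 1. Then l ↦ l (x l x⁻¹) is a group homomorphism π from L to G whose kernel is central in L and whose image lies in C_G(x); and the commutator subgroup of C_{L ⊔ xLx⁻¹}(x) equals the image of π. -/
theorem result {G : Type*} [Group G] [Finite G] (x : G) (hx : orderOf x = 2) (L : Subgroup G) (hperf : ⁅L, L⁆ = L) (hcomm : ⁅L, L.map (MulAut.conj x).toMonoidHom⁆ = ⊥) : ∃ π : ↥L →* G, (∀ l : ↥L, π l = (l : G) * (x * (l : G) * x⁻¹)) ∧ π.ker ≤ Subgroup.center ↥L ∧ π.range ≤ Subgroup.centralizer ({x} : Set G) ∧ ⁅(L ⊔ L.map (MulAut.conj x).toMonoidHom) ⊓ Subgroup.centralizer ({x} : Set G), (L ⊔ L.map (MulAut.conj x).toMonoidHom) ⊓ Subgroup.centralizer ({x} : Set G)⁆ = π.range := by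
  classical
  have hx2 : x * x = 1 := by
    have := pow_orderOf_eq_one x
    rwa [hx, pow_two] at this
  have hxinv : x⁻¹ = x := inv_eq_of_mul_eq_one_right hx2
  -- elementwise commutation of L and its conjugate
  have hc : ∀ a ∈ L, ∀ b ∈ L, a * (x * b * x⁻¹) = (x * b * x⁻¹) * a := by
    intro a ha b hb
    have h1 := Subgroup.commutator_eq_bot_iff_le_centralizer.mp hcomm ha
    rw [Subgroup.mem_centralizer_iff] at h1
    exact (h1 (x * b * x⁻¹) ⟨b, hb, by simp [MulAut.conj_apply]⟩).symm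
  -- the homomorphism
  let π : ↥L →* G :=
    { toFun := fun l => (l : G) * (x * (l : G) * x⁻¹)
      map_one' := by simp
      map_mul' := by
        intro l m
        have h := hc m m.2 l l.2
        simp only [Subgroup.coe_mul]
        calc (l : G) * m * (x * ((l : G) * m) * x⁻¹)
            = (l : G) * ((m : G) * (x * l * x⁻¹)) * (x * m * x⁻¹) := by group
          _ = (l : G) * ((x * l * x⁻¹) * m) * (x * m * x⁻¹) := by rw [h]
          _ = (l : G) * (x * l * x⁻¹) * (m * (x * m * x⁻¹)) := by group }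
  have hπ : ∀ l : ↥L, π l = (l : G) * (x * (l : G) * x⁻¹) := fun l => rfl
  have hrange_le : π.range ≤ (L ⊔ L.map (MulAut.conj x).toMonoidHom) ⊓
      Subgroup.centralizer ({x} : Set G) := by
    rintro _ ⟨l, rfl⟩
    refine ⟨?_, ?_⟩
    · rw [hπ]
      apply Subgroup.mul_mem
      · exact (le_sup_left : L ≤ _) l.2
      · exact (le_sup_right : L.map (MulAut.conj x).toMonoidHom ≤ _) ⟨l, l.2, by simp [MulAut.conj_apply]⟩
    · show π l ∈ Subgroup.centralizer {x}
      rw [Subgroup.mem_centralizer_singleton_iff, hπ]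
      have h := hc l l.2 l l.2
      calc (l : G) * (x * l * x⁻¹) * x = (l : G) * (x * l * x⁻¹) * x := rfl
        _ = ((x * l * x⁻¹) * l) * x := by rw [h]
        _ = x * (l * (x⁻¹ * l * x)) := by group
        _ = x * (l * (x * l * x⁻¹)) := by rw [hxinv]
  refine ⟨π, hπ, ?_, le_trans hrange_le inf_le_right, ?_⟩
  · -- kernel is central
    intro l hl
    rw [MonoidHom.mem_ker, hπ] at hl
    rw [Subgroup.mem_center_iff]
    intro m
    apply Subtype.ext
    simp only [Subgroup.coe_mul]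
    -- l = (x l x⁻¹)⁻¹ = x l⁻¹ x⁻¹
    have h1 : (l : G) = x * (l : G)⁻¹ * x⁻¹ := by
      have : (l : G) = (x * (l : G) * x⁻¹)⁻¹ := eq_inv_of_mul_eq_one_left hl
      calc (l : G) = (x * (l : G) * x⁻¹)⁻¹ := this
        _ = x * (l : G)⁻¹ * x⁻¹ := by group
    have h2 := hc m m.2 (l⁻¹ : ↥L) (l⁻¹).2
    rw [Subgroup.coe_inv, ← h1] at h2
    exact h2
  · -- derived subgroup of the centralizer
    apply le_antisymm
    · -- every element of C is central-times-image
      -- the product set L * Lx as a subgroup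
      let S : Subgroup G :=
        { carrier := {g | ∃ a ∈ L, ∃ b ∈ L, g = a * (x * b * x⁻¹)}
          one_mem' := ⟨1, L.one_mem, 1, L.one_mem, by simp⟩
          mul_mem' := by
            rintro _ _ ⟨a, ha, b, hb, rfl⟩ ⟨a', ha', b', hb', rfl⟩
            refine ⟨a * a', L.mul_mem ha ha', b * b', L.mul_mem hb hb', ?_⟩
            have h := hc a' ha' b hb
            calc a * (x * b * x⁻¹) * (a' * (x * b' * x⁻¹))
                = a * ((x * b * x⁻¹) * a') * (x * b' * x⁻¹) := by group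
              _ = a * (a' * (x * b * x⁻¹)) * (x * b' * x⁻¹) := by rw [h]
              _ = a * a' * (x * (b * b') * x⁻¹) := by group
          inv_mem' := by
            rintro _ ⟨a, ha, b, hb, rfl⟩
            refine ⟨a⁻¹, L.inv_mem ha, b⁻¹, L.inv_mem hb, ?_⟩
            have h := hc a⁻¹ (L.inv_mem ha) b⁻¹ (L.inv_mem hb)
            calc (a * (x * b * x⁻¹))⁻¹ = (x * b⁻¹ * x⁻¹) * a⁻¹ := by group
              _ = a⁻¹ * (x * b⁻¹ * x⁻¹) := h.symm }
      have hS : L ⊔ L.map (MulAut.conj x).toMonoidHom ≤ S := by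
        apply sup_le
        · intro a ha
          exact ⟨a, ha, 1, L.one_mem, by simp⟩
        · rintro _ ⟨b, hb, rfl⟩
          exact ⟨1, L.one_mem, b, hb, by simp [MulAut.conj_apply]⟩
      -- decomposition of elements of C
      have hdec : ∀ c ∈ (L ⊔ L.map (MulAut.conj x).toMonoidHom) ⊓ Subgroup.centralizer ({x} : Set G),
          ∃ z : G, ∃ b : ↥L, c = z * π b ∧
            (∀ g ∈ S, z * g = g * z) := by
        rintro c ⟨hcM, hcx⟩
        obtain ⟨a, ha, b, hb, rfl⟩ := hS hcM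
        replace hcx : a * (x * b * x⁻¹) ∈ Subgroup.centralizer {x} := hcx
        rw [Subgroup.mem_centralizer_singleton_iff] at hcx
        -- z = b⁻¹ a
        have hz : b⁻¹ * a = x * (a * b⁻¹) * x⁻¹ := by
          have h1 : x * (a * (x * b * x⁻¹)) * x⁻¹ = a * (x * b * x⁻¹) := by
            rw [← hcx]; group
          have h2 : x * (a * (x * b * x⁻¹)) * x⁻¹ = (x * a * x⁻¹) * b := by
            calc x * (a * (x * b * x⁻¹)) * x⁻¹ = (x * a * x⁻¹) * (x * x * b * (x⁻¹ * x⁻¹)) := by group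
              _ = (x * a * x⁻¹) * b := by rw [hx2, hxinv, hx2]; group
          have h3 : (x * a * x⁻¹) * b = b * (x * a * x⁻¹) := (hc b hb a ha).symm
          have h4 : a * (x * b * x⁻¹) = b * (x * a * x⁻¹) := by rw [← h1, h2, h3]
          calc b⁻¹ * a = b⁻¹ * (a * (x * b * x⁻¹)) * (x * b * x⁻¹)⁻¹ := by group
            _ = b⁻¹ * (b * (x * a * x⁻¹)) * (x * b * x⁻¹)⁻¹ := by rw [h4]
            _ = x * (a * b⁻¹) * x⁻¹ := by group
        have hzL : b⁻¹ * a ∈ L := L.mul_mem (L.inv_mem hb) ha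
        have habL : a * b⁻¹ ∈ L := L.mul_mem ha (L.inv_mem hb)
        refine ⟨b⁻¹ * a, ⟨b, hb⟩, ?_, ?_⟩
        · rw [hπ]
          have h5 := hc b hb (a * b⁻¹) habL
          rw [← hz] at h5
          -- b * z = z * b
          calc a * (x * b * x⁻¹) = (b * (b⁻¹ * a)) * (x * b * x⁻¹) := by group
            _ = ((b⁻¹ * a) * b) * (x * b * x⁻¹) := by rw [h5]
            _ = b⁻¹ * a * (b * (x * b * x⁻¹)) := by group
        · rintro _ ⟨a', ha', b', hb', rfl⟩
          -- z commutes with a' (as z in Lx) and with x b' x⁻¹ (as z in L)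
          have h6 : a' * (b⁻¹ * a) = (b⁻¹ * a) * a' := by
            have := hc a' ha' (a * b⁻¹) habL
            rwa [← hz] at this
          have h7 := hc (b⁻¹ * a) hzL b' hb'
          calc b⁻¹ * a * (a' * (x * b' * x⁻¹)) = ((b⁻¹ * a) * a') * (x * b' * x⁻¹) := by group
            _ = (a' * (b⁻¹ * a)) * (x * b' * x⁻¹) := by rw [h6]
            _ = a' * ((b⁻¹ * a) * (x * b' * x⁻¹)) := by group
            _ = a' * ((x * b' * x⁻¹) * (b⁻¹ * a)) := by rw [h7]
            _ = a' * (x * b' * x⁻¹) * (b⁻¹ * a) := by group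
      rw [Subgroup.commutator_le]
      intro c₁ hc₁ c₂ hc₂
      obtain ⟨z₁, b₁, rfl, hz₁⟩ := hdec c₁ hc₁
      obtain ⟨z₂, b₂, rfl, hz₂⟩ := hdec c₂ hc₂
      have hπS : ∀ b : ↥L, π b ∈ S := fun b => hS (hrange_le ⟨b, rfl⟩).1
      have hz₂S : z₂ ∈ S := by
        have h1 : z₂ * π b₂ ∈ S := hS hc₂.1
        have : z₂ = (z₂ * π b₂) * (π b₂)⁻¹ := by group
        rw [this]
        exact S.mul_mem h1 (S.inv_mem (hπS b₂))
      have hz₁S : z₁ ∈ S := by
        have h1 : z₁ * π b₁ ∈ S := hS hc₁.1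
        have : z₁ = (z₁ * π b₁) * (π b₁)⁻¹ := by group
        rw [this]
        exact S.mul_mem h1 (S.inv_mem (hπS b₁))
      have e : ⁅z₁ * π b₁, z₂ * π b₂⁆ = π ⁅b₁, b₂⁆ := by
        rw [map_commutatorElement, commutatorElement_def, commutatorElement_def]
        have k1 := hz₁ (π b₁) (hπS b₁)
        have k2 := hz₁ (π b₂) (hπS b₂)
        have k3 := hz₂ (π b₁) (hπS b₁)
        have k4 := hz₂ (π b₂) (hπS b₂)
        have k5 := hz₁ z₂ hz₂S
        calc z₁ * π b₁ * (z₂ * π b₂) * (z₁ * π b₁)⁻¹ * (z₂ * π b₂)⁻¹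
            = z₁ * (π b₁ * z₂) * π b₂ * (π b₁)⁻¹ * z₁⁻¹ * (π b₂)⁻¹ * z₂⁻¹ := by group
          _ = z₁ * (z₂ * π b₁) * π b₂ * (π b₁)⁻¹ * z₁⁻¹ * (π b₂)⁻¹ * z₂⁻¹ := by rw [k3]
          _ = (z₁ * z₂) * (π b₁ * π b₂ * (π b₁)⁻¹) * z₁⁻¹ * (π b₂)⁻¹ * z₂⁻¹ := by group
          _ = (z₁ * z₂) * (π b₁ * π b₂ * (π b₁)⁻¹) * (z₁⁻¹ * (π b₂)⁻¹ * z₂⁻¹) := by group
          _ = (z₁ * z₂) * (π b₁ * π b₂ * (π b₁)⁻¹) * ((π b₂)⁻¹ * (z₁ * z₂)⁻¹) := by
              congr 1
              have : z₂ * π b₂ * z₁ = z₁ * z₂ * π b₂ := by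
                rw [mul_assoc, ← k2, ← mul_assoc, ← k5]
              calc z₁⁻¹ * (π b₂)⁻¹ * z₂⁻¹ = (z₂ * π b₂ * z₁)⁻¹ := by group
                _ = (z₁ * z₂ * π b₂)⁻¹ := by rw [this]
                _ = (π b₂)⁻¹ * (z₁ * z₂)⁻¹ := by group
          _ = (z₁ * z₂) * (π b₁ * π b₂ * (π b₁)⁻¹ * (π b₂)⁻¹) * (z₁ * z₂)⁻¹ := by group
          _ = π b₁ * π b₂ * (π b₁)⁻¹ * (π b₂)⁻¹ := by
              have hw : π b₁ * π b₂ * (π b₁)⁻¹ * (π b₂)⁻¹ ∈ S :=
                S.mul_mem (S.mul_mem (S.mul_mem (hπS b₁) (hπS b₂)) (S.inv_mem (hπS b₁))) (S.inv_mem (hπS b₂))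
              have q1 := hz₁ _ hw
              have q2 := hz₂ _ hw
              generalize π b₁ * π b₂ * (π b₁)⁻¹ * (π b₂)⁻¹ = w at q1 q2
              calc z₁ * z₂ * w * (z₁ * z₂)⁻¹ = z₁ * (z₂ * w) * z₂⁻¹ * z₁⁻¹ := by group
                _ = z₁ * (w * z₂) * z₂⁻¹ * z₁⁻¹ := by rw [q2]
                _ = (z₁ * w) * z₁⁻¹ := by group
                _ = (w * z₁) * z₁⁻¹ := by rw [q1]
                _ = w := by group
      rw [e]
      exact ⟨_, rfl⟩
    · -- range π = π [L,L] ≤ [C, C]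
      have hperf' : commutator ↥L = ⊤ := by
        have : Group.IsPerfect ↥L := Subgroup.isPerfect_iff.mpr hperf
        exact Group.IsPerfect.commutator_eq_top
      calc π.range = (⊤ : Subgroup ↥L).map π := MonoidHom.range_eq_map π
        _ = (commutator ↥L).map π := by rw [hperf']
        _ = ⁅(⊤ : Subgroup ↥L).map π, (⊤ : Subgroup ↥L).map π⁆ := by
            rw [commutator_def, Subgroup.map_commutator]
        _ = ⁅π.range, π.range⁆ := by rw [← MonoidHom.range_eq_map]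
        _ ≤ _ := Subgroup.commutator_mono hrange_le hrange_le

end Cfsg.Agent.S1314
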