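import Cfsg.Statements.S1316
import Cfsg.Agent.Lib.Helper22.FStar

set_option autoImplicit false
open Cfsg

namespace Cfsg.Agent.S1316

/-- For a finite group X, E(X) equals the intersection of the derived series of F*(X) (its last term). -/
theorem result {X : Type*} [Group X] [Finite X] : (⨅ n : ℕ, (derivedSeries ↥(Cfsg.generalizedFittingSubgroup X) n).map (Cfsg.generalizedFittingSubgroup X).subtype) = Cfsg.layer X := by
  set N := Cfsg.generalizedFittingSubgroup X with hN
  have hEN : Cfsg.layer X ≤ N := Cfsg.Agent.Lib.Helper22.layer_le_generalizedFitting X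
  have hFN : Cfsg.fittingSubgroup X ≤ N := Cfsg.Agent.Lib.Helper22.fitting_le_generalizedFitting X
  have hEn : (Cfsg.layer X).Normal := Cfsg.Agent.Lib.Helper22.layer_normal X
  have hFn : (Cfsg.fittingSubgroup X).Normal := Cfsg.Agent.Lib.Helper22.fittingSubgroup_normal X
  apply le_antisymm
  · -- the quotient of F* by E is solvable
    set E' : Subgroup ↥N := (Cfsg.layer X).subgroupOf N with hE'
    have hE'n : E'.Normal := inferInstance
    have hnil : Group.IsNilpotent ↥(Cfsg.fittingSubgroup X) :=
      Cfsg.Agent.Lib.Helper22.fittingSubgroup_isNilpotent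
    let f : ↥(Cfsg.fittingSubgroup X) →* ↥N ⧸ E' :=
      (QuotientGroup.mk' E').comp (Subgroup.inclusion hFN)
    have hf : Function.Surjective f := by
      intro q
      obtain ⟨n, rfl⟩ := QuotientGroup.mk'_surjective E' q
      have hn : (n : X) ∈ Cfsg.layer X ⊔ Cfsg.fittingSubgroup X := n.2
      obtain ⟨e, he, z, hz, hez⟩ := Subgroup.mem_sup_of_normal_right.mp hn
      refine ⟨⟨z, hz⟩, ?_⟩
      show (QuotientGroup.mk' E') (Subgroup.inclusion hFN ⟨z, hz⟩) = (QuotientGroup.mk' E') n
      have hn' : n = (⟨e, hEN he⟩ : ↥N) * (Subgroup.inclusion hFN ⟨z, hz⟩) := by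
        apply Subtype.ext
        exact hez.symm
      rw [hn', map_mul]
      have : (QuotientGroup.mk' E') (⟨e, hEN he⟩ : ↥N) = 1 := by
        rw [QuotientGroup.mk'_apply, QuotientGroup.eq_one_iff]
        exact Subgroup.mem_subgroupOf.mpr he
      rw [this, one_mul]
    have hsolv : Group.IsSolvable (↥N ⧸ E') := Group.isSolvable_of_surjective hf
    obtain ⟨k, hk⟩ := hsolv.solvable
    have h1 : (derivedSeries ↥N k).map (QuotientGroup.mk' E') ≤ ⊥ := by
      rw [← hk]
      exact map_derivedSeries_le_derivedSeries _ k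
    have h2 : derivedSeries ↥N k ≤ E' := by
      rw [le_bot_iff, Subgroup.map_eq_bot_iff, QuotientGroup.ker_mk'] at h1
      exact h1
    refine (iInf_le _ k).trans ?_
    calc (derivedSeries ↥N k).map N.subtype ≤ E'.map N.subtype := Subgroup.map_mono h2
      _ = Cfsg.layer X := Subgroup.map_subgroupOf_eq_of_le hEN
  · apply le_iInf
    intro n
    induction n with
    | zero =>
      rw [derivedSeries_zero, ← MonoidHom.range_eq_map, Subgroup.range_subtype]
      exact hEN
    | succ n ih =>
      rw [derivedSeries_succ, Subgroup.map_commutator]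
      calc Cfsg.layer X = ⁅Cfsg.layer X, Cfsg.layer X⁆ :=
            (Cfsg.Agent.Lib.Helper22.layer_perfect X).symm
        _ ≤ _ := Subgroup.commutator_mono ih ih

end Cfsg.Agent.S1316
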