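import Cfsg.Statements.S1321
import Cfsg.Agent.Lib.Helper22.FStar

set_option autoImplicit false
open Cfsg

namespace Cfsg.Agent.S1321

/-- Let X be finite and U ≤ X. Then E(X) is generated by C_{E(X)}(U) together with ⁅E(X), U⁆ (indeed it is their product, ⁅E(X), U⁆ being normal in E(X)). -/
theorem result {X : Type*} [Group X] [Finite X] (U : Subgroup X) : Cfsg.layer X = (Cfsg.layer X ⊓ Subgroup.centralizer (U : Set X)) ⊔ ⁅Cfsg.layer X, U⁆ ∧ ⁅Cfsg.layer X, U⁆ ≤ Cfsg.layer X := by
  have hEn : (Cfsg.layer X).Normal := Cfsg.Agent.Lib.Helper22.layer_normal X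
  have hKE : ⁅Cfsg.layer X, U⁆ ≤ Cfsg.layer X := Subgroup.commutator_le_left _ _
  refine ⟨?_, hKE⟩
  apply le_antisymm
  · -- K is subnormal in X
    have hKn : (⁅Cfsg.layer X, U⁆.subgroupOf (Cfsg.layer X)).Normal :=
      Subgroup.normal_subgroupOf_of_le_normalizer (Subgroup.normalizer_commutator_ge_left _ _)
    have hKsn : (⁅Cfsg.layer X, U⁆).IsSubnormal :=
      Subgroup.IsSubnormal.trans hKE hKn.isSubnormal hEn.isSubnormal
    apply sSup_le
    intro L hL
    have hLE : L ≤ Cfsg.layer X := Cfsg.Agent.Lib.Helper22.component_le_layer hL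
    rcases Cfsg.Agent.Lib.Helper21.component_le_or_commutes hL hKsn with h | h
    · exact h.trans le_sup_right
    · refine le_trans (le_inf hLE ?_) le_sup_left
      have hperf := Cfsg.Agent.Lib.Helper22.component_perfect hL
      have h1 : ⁅⁅U, L⁆, L⁆ = ⊥ := by
        rw [eq_bot_iff, ← h, Subgroup.commutator_comm L ⁅Cfsg.layer X, U⁆]
        apply Subgroup.commutator_mono _ le_rfl
        rw [Subgroup.commutator_comm U L]
        exact Subgroup.commutator_mono hLE le_rfl
      have h2 := Cfsg.Agent.Lib.Helper21.commutator_eq_bot_of_perfect hperf h1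
      rw [Subgroup.commutator_comm] at h2
      exact Subgroup.commutator_eq_bot_iff_le_centralizer.mp h2
  · exact sup_le inf_le_left hKE

end Cfsg.Agent.S1321
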