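import Cfsg.Statements.S1323
import Cfsg.Agent.Lib.Helper22.AltStd

set_option autoImplicit false
open Cfsg

namespace Cfsg.Agent.S1323

/-- For n ≥ 9, the subgroup of the alternating group on Fin n fixing each of the points 0, 1, 2, 3 is a standard subgroup. -/
theorem result (n : ℕ) (h4 : 4 ≤ n) (hn : 9 ≤ n) : Cfsg.IsStandardSubgroup (⨅ i : Fin 4, MulAction.stabilizer ↥(alternatingGroup (Fin n)) (Fin.castLE h4 i : Fin n)) := by
  open Cfsg.Agent.Lib.Helper22.AltStd in
  classical
  set Δ : Finset (Fin n) := Finset.univ.image (Fin.castLE h4) with hΔ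
  have hΔcard : Δ.card = 4 := by
    rw [hΔ, Finset.card_image_of_injective _ (Fin.castLE_injective h4)]
    simp
  have hL : (⨅ i : Fin 4, MulAction.stabilizer ↥(alternatingGroup (Fin n)) (Fin.castLE h4 i : Fin n))
      = R Δᶜ := by
    ext k
    rw [Subgroup.mem_iInf, mem_R]
    constructor
    · intro h x hx
      rw [Finset.mem_compl]
      intro hxΔ
      rw [hΔ, Finset.mem_image] at hxΔ
      obtain ⟨i, _, rfl⟩ := hxΔ
      rw [Equiv.Perm.mem_support] at hx
      apply hx
      have := h i
      rw [MulAction.mem_stabilizer_iff] at this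
      exact this
    · intro h i
      rw [MulAction.mem_stabilizer_iff]
      by_contra hne
      have h1 : Fin.castLE h4 i ∈ (k : Equiv.Perm (Fin n)).support := by
        rw [Equiv.Perm.mem_support]
        exact hne
      have h2 := h h1
      rw [Finset.mem_compl] at h2
      apply h2
      rw [hΔ, Finset.mem_image]
      exact ⟨i, Finset.mem_univ _, rfl⟩
  rw [hL]
  apply isStandardSubgroup_R
  · rw [Finset.card_compl, hΔcard, Fintype.card_fin]
    omega
  · rw [compl_compl, hΔcard]

end Cfsg.Agent.S1323
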