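import Cfsg.Statements.S1326
import Cfsg.Agent.Lib.Helper22.FStar

set_option autoImplicit false
open Cfsg

namespace Cfsg.Agent.S1326

/-- For a finite group X: the Fitting subgroup contains its centralizer if and only if the layer of X is trivial. -/
theorem result {X : Type*} [Group X] [Finite X] : Subgroup.centralizer (Cfsg.fittingSubgroup X : Set X) ≤ Cfsg.fittingSubgroup X ↔ Cfsg.layer X = ⊥ := by
  constructor
  · intro h
    unfold Cfsg.layer
    rw [eq_bot_iff]
    apply sSup_le
    intro L hL
    exfalso
    have hLF : L ≤ Cfsg.fittingSubgroup X :=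
      (Cfsg.Agent.Lib.Helper22.component_le_centralizer_fitting hL).trans h
    have hnil : Group.IsNilpotent ↥(Cfsg.fittingSubgroup X) :=
      Cfsg.Agent.Lib.Helper22.fittingSubgroup_isNilpotent
    have hsolv : Group.IsSolvable ↥(Cfsg.fittingSubgroup X) := inferInstance
    have : Group.IsSolvable ↥L :=
      Group.isSolvable_of_isSolvable_injective (Subgroup.inclusion_injective hLF)
    exact Cfsg.Agent.Lib.Helper21.quasisimple_not_solvable hL.2 this
  · intro h
    have h1 := Cfsg.Agent.Lib.Helper22.centralizer_generalizedFitting_le X
    unfold Cfsg.generalizedFittingSubgroup at h1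
    rw [h, bot_sup_eq] at h1
    exact h1

end Cfsg.Agent.S1326
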