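-- Statement S1328: an unbalancing component.
import Cfsg.Statements.S1328
import Cfsg.Agent.Lib.Helper30.UnbalComp

set_option autoImplicit false
open Cfsg

namespace Cfsg.Agent.S1328

open Cfsg.Agent.Lib.Helper30 Cfsg.Agent.Lib.Helper22 Cfsg.Agent.Lib.Helper21 in
/-- Let G be finite, H ≤ G with O(H) = 1, t an involution of G normalizing H, and Y a nontrivial subgroup of O(C_H(t)). Then some component E of H is normalized by t and by Y and centralized by neither t nor Y. -/
theorem result {G : Type*} [Group G] [Finite G] (H : Subgroup G) (hO : Cfsg.oddCore ↥H = ⊥) (t : G) (ht : orderOf t = 2) (htH : t ∈ Subgroup.normalizer (H : Set G)) (Y : Subgroup G) (hY1 : Y ≠ ⊥) (hY : Y ≤ (Cfsg.oddCore ↥(H ⊓ Subgroup.centralizer ({t} : Set G))).map (H ⊓ Subgroup.centralizer ({t} : Set G)).subtype) : ∃ E : Subgroup ↥H, Cfsg.IsComponent E ∧ (E.map H.subtype).map (MulAut.conj t).toMonoidHom = E.map H.subtype ∧ Y ≤ Subgroup.normalizer ((E.map H.subtype : Subgroup G) : Set G) ∧ ¬ (t ∈ Subgroup.centralizer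 ((E.map H.subtype : Subgroup G) : Set G)) ∧ ¬ (Y ≤ Subgroup.centralizer ((E.map H.subtype : Subgroup G) : Set G)) := by
  have h2 : Fact (Nat.Prime 2) := ⟨Nat.prime_two⟩
  have ht2 : t ^ 2 = 1 := by rw [← ht]; exact pow_orderOf_eq_one t
  set K : Subgroup G := H ⊔ Subgroup.zpowers t with hKdef
  have hHK : H ≤ K := le_sup_left
  have htK : t ∈ K := le_sup_right (α := Subgroup G) (Subgroup.mem_zpowers t)
  have hzN : Subgroup.zpowers t ≤ Subgroup.normalizer (H : Set G) := Subgroup.zpowers_le.mpr htH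
  have hKN : K ≤ Subgroup.normalizer (H : Set G) := sup_le Subgroup.le_normalizer hzN
  set M : Subgroup G := H ⊓ Subgroup.centralizer ({t} : Set G) with hMdef
  set DG : Subgroup G := (Cfsg.oddCore ↥M).map M.subtype with hDGdef
  have hDGM : DG ≤ M := Subgroup.map_subtype_le _
  have hDGK : DG ≤ K := hDGM.trans (inf_le_left.trans hHK)
  have hYK : Y ≤ K := hY.trans hDGK
  -- objects in ↥K
  set t' : ↥K := ⟨t, htK⟩ with ht'def
  have ht'2 : t' ^ 2 = 1 := Subtype.ext (by simpa using ht2)
  have hH'n : (H.subgroupOf K).Normal :=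
    (Subgroup.normal_subgroupOf_iff_le_normalizer hHK).mpr hKN
  -- all squares of K lie in H
  have hsq : ∀ x : ↥K, x ^ 2 ∈ H.subgroupOf K := by
    intro x
    rw [Subgroup.mem_subgroupOf]
    have hx : (x : G) ∈ (↑(H ⊔ Subgroup.zpowers t) : Set G) := x.2
    rw [Subgroup.coe_mul_of_right_le_normalizer_left H (Subgroup.zpowers t) hzN] at hx
    obtain ⟨h, hh, z, hz, hxe⟩ := hx
    have hzz : z * z = 1 := by
      obtain ⟨k, rfl⟩ := Subgroup.mem_zpowers_iff.mp hz
      rw [← zpow_add, ← two_mul, zpow_mul, zpow_ofNat, ht2, one_zpow]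
    have hzh : z * h * z⁻¹ ∈ H := (Subgroup.mem_normalizer_iff.mp (hzN hz) h).mp hh
    have e : ((x ^ 2 : ↥K) : G) = h * (z * h * z⁻¹) * (z * z) := by
      rw [Subgroup.coe_pow, ← hxe, pow_two]
      simp only
      group
    rw [e, hzz, mul_one]
    exact H.mul_mem hh hzh
  -- O(K) = 1
  have hOK : Cfsg.pPrimeCore 2 ↥K = ⊥ := by
    apply ub_oddCore_eq_bot_of_squares (H.subgroupOf K) hsq
    intro N hNn hNH hNc
    -- transport N to a normal odd-order subgroup of ↥H
    set N₀ : Subgroup ↥H := (N.map K.subtype).subgroupOf H with hN₀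
    have hN₀n : N₀.Normal := by
      refine ⟨fun n hn g => ?_⟩
      rw [hN₀, Subgroup.mem_subgroupOf] at hn ⊢
      obtain ⟨m, hm, hmn⟩ := hn
      refine ⟨⟨g, hHK g.2⟩ * m * ⟨g, hHK g.2⟩⁻¹, hNn.conj_mem m hm _, ?_⟩
      simp only [Subgroup.subtype_apply, Subgroup.coe_mul, Subgroup.coe_inv] at hmn ⊢
      rw [hmn]
    have hmemN₀ : ∀ x : ↥H, x ∈ N₀ → ∃ m ∈ N, ((m : ↥K) : G) = (x : G) := by
      intro x hx
      rw [hN₀, Subgroup.mem_subgroupOf] at hx
      exact hx
    have hN₀c : (Nat.card N₀).Coprime 2 := by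
      have hmem' : ∀ n : ↥N₀, (⟨((n : ↥H) : G), hHK n.1.2⟩ : ↥K) ∈ N := by
        intro n
        obtain ⟨m, hm, hmn⟩ := hmemN₀ n.1 n.2
        have : (⟨((n : ↥H) : G), hHK n.1.2⟩ : ↥K) = m := Subtype.ext hmn.symm
        rw [this]; exact hm
      let f : ↥N₀ →* ↥N :=
        { toFun := fun n => ⟨⟨((n : ↥H) : G), hHK n.1.2⟩, hmem' n⟩
          map_one' := rfl
          map_mul' := fun a b => rfl }
      have hinj : Function.Injective f := by
        intro a b hab
        have := congrArg (fun z : ↥N => ((z : ↥K) : G)) hab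
        exact Subtype.ext (Subtype.ext this)
      exact Nat.Coprime.coprime_dvd_left (Subgroup.card_dvd_of_injective f hinj) hNc
    have hN₀b : N₀ = ⊥ := by
      have := Cfsg.Agent.Lib.Helper22.le_pPrimeCore' hN₀n hN₀c
      rw [show Cfsg.pPrimeCore 2 ↥H = ⊥ from hO] at this
      exact le_bot_iff.mp this
    rw [eq_bot_iff]
    intro n hn
    rw [Subgroup.mem_bot]
    have hnH : (n : G) ∈ H := Subgroup.mem_subgroupOf.mp (hNH hn)
    have : (⟨(n : G), hnH⟩ : ↥H) ∈ N₀ := by
      rw [hN₀, Subgroup.mem_subgroupOf]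
      exact ⟨n, hn, rfl⟩
    rw [hN₀b, Subgroup.mem_bot] at this
    apply Subtype.ext
    exact congrArg (fun z : ↥H => (z : G)) this
  -- D' and Y'
  set D' : Subgroup ↥K := DG.subgroupOf K with hD'
  have hD'odd : (Nat.card D').Coprime 2 := by
    have e1 : Nat.card D' = Nat.card DG :=
      Nat.card_congr (Subgroup.subgroupOfEquivOfLe hDGK).toEquiv
    have e2 : Nat.card DG = Nat.card (Cfsg.oddCore ↥M) :=
      Nat.card_congr ((Cfsg.oddCore ↥M).equivMapOfInjective M.subtype M.subtype_injective).symm.toEquiv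
    rw [e1, e2]
    exact pPrimeCore_card_coprime 2
  have hD't : D' ≤ Subgroup.centralizer ({t'} : Set ↥K) := by
    intro d hd
    rw [Subgroup.mem_centralizer_singleton_iff]
    have hdM : (d : G) ∈ M := hDGM (Subgroup.mem_subgroupOf.mp hd)
    have := Subgroup.mem_centralizer_singleton_iff.mp hdM.2
    exact Subtype.ext this
  have hD'n : Subgroup.centralizer ({t'} : Set ↥K) ≤ Subgroup.normalizer (D' : Set ↥K) := by
    intro g hg
    have hgt : (g : G) * t = t * (g : G) :=
      congrArg Subtype.val (Subgroup.mem_centralizer_singleton_iff.mp hg)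
    have hgM : (g : G) ∈ Subgroup.normalizer (M : Set G) := by
      have : K ⊓ Subgroup.centralizer ({t} : Set G) ≤ Subgroup.normalizer (M : Set G) := by
        apply Cfsg.Agent.Lib.Helper46.le_normalizer_of_conj_mem
        rintro a ⟨haK, hat⟩ x ⟨hxH, hxt⟩
        refine ⟨(Subgroup.mem_normalizer_iff.mp (hKN haK) x).mp hxH, ?_⟩
        exact (Subgroup.centralizer ({t} : Set G)).mul_mem
          ((Subgroup.centralizer ({t} : Set G)).mul_mem hat hxt)
          ((Subgroup.centralizer ({t} : Set G)).inv_mem hat)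
      exact this ⟨g.2, Subgroup.mem_centralizer_singleton_iff.mpr hgt⟩
    have hgD : (g : G) ∈ Subgroup.normalizer (DG : Set G) :=
      ub_normalizer_le_of_char M (Cfsg.oddCore ↥M) hgM
    rw [Subgroup.mem_normalizer_iff]
    intro x
    rw [hD', Subgroup.mem_subgroupOf, Subgroup.mem_subgroupOf]
    have := Subgroup.mem_normalizer_iff.mp hgD (x : G)
    simpa using this
  set Y' : Subgroup ↥K := Y.subgroupOf K with hY'
  have hY'D : Y' ≤ D' := by
    intro y hy
    exact Subgroup.mem_subgroupOf.mpr (hY (Subgroup.mem_subgroupOf.mp hy))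
  have hY'1 : Y' ≠ ⊥ := by
    intro h
    apply hY1
    rw [eq_bot_iff]
    intro y hy
    have : (⟨y, hYK hy⟩ : ↥K) ∈ Y' := Subgroup.mem_subgroupOf.mpr hy
    rw [h, Subgroup.mem_bot] at this
    rw [Subgroup.mem_bot]
    exact congrArg Subtype.val this
  obtain ⟨L, hL, htL, hYL, htcL, hYcL⟩ :=
    ub_exists_component hOK t' ht'2 D' hD'odd hD't hD'n Y' hY'D hY'1
  have hLH' : L ≤ H.subgroupOf K := ub_perfect_le_of_squares _ hsq (component_perfect hL)
  set LG : Subgroup G := L.map K.subtype with hLG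
  have hLGH : LG ≤ H := by
    rintro _ ⟨l, hl, rfl⟩
    exact Subgroup.mem_subgroupOf.mp (hLH' hl)
  have hmemLG : ∀ l : ↥K, (l : G) ∈ LG ↔ l ∈ L := by
    intro l
    constructor
    · rintro ⟨m, hm, hml⟩
      have : m = l := Subtype.ext hml
      rwa [← this]
    · intro hl
      exact ⟨l, hl, rfl⟩
  refine ⟨LG.subgroupOf H, ?_, ?_⟩
  · -- component of ↥H
    have h1 : Cfsg.IsComponent (L.subgroupOf (H.subgroupOf K)) := component_subgroupOf hL hLH'
    have h3 := isComponent_map_equiv (Subgroup.subgroupOfEquivOfLe hHK) h1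
    have e : (L.subgroupOf (H.subgroupOf K)).map (Subgroup.subgroupOfEquivOfLe hHK).toMonoidHom =
        LG.subgroupOf H := by
      ext x
      rw [Subgroup.mem_subgroupOf]
      constructor
      · rintro ⟨y, hy, rfl⟩
        have hy' : (y : ↥K) ∈ L := Subgroup.mem_subgroupOf.mp hy
        exact ⟨(y : ↥K), hy', rfl⟩
      · rintro ⟨l, hl, hlx⟩
        have hlH : l ∈ H.subgroupOf K := hLH' hl
        refine ⟨⟨l, hlH⟩, Subgroup.mem_subgroupOf.mpr hl, ?_⟩
        apply Subtype.ext
        exact hlx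
    rw [← e]
    exact h3
  · rw [Subgroup.map_subgroupOf_eq_of_le hLGH]
    have hconjK : ∀ (g : ↥K), (g ∈ Subgroup.normalizer (L : Set ↥K)) →
        (g : G) ∈ Subgroup.normalizer (LG : Set G) := by
      intro g hg
      have : Subgroup.zpowers (g : G) ≤ Subgroup.normalizer (LG : Set G) := by
        apply Cfsg.Agent.Lib.Helper46.le_normalizer_of_conj_mem
        intro a ha x hx
        obtain ⟨k, rfl⟩ := Subgroup.mem_zpowers_iff.mp ha
        obtain ⟨l, hl, rfl⟩ := hx
        have hgk : g ^ k ∈ Subgroup.normalizer (L : Set ↥K) := zpow_mem hg k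
        have := (Subgroup.mem_normalizer_iff.mp hgk l).mp hl
        refine ⟨g ^ k * l * (g ^ k)⁻¹, this, ?_⟩
        simp
      exact this (Subgroup.mem_zpowers _)
    refine ⟨?_, ?_, ?_, ?_⟩
    · rw [← Cfsg.Agent.Lib.Helper54.mem_normalizer_iff_map_conj_eq]
      exact hconjK t' htL
    · intro y hy
      exact hconjK ⟨y, hYK hy⟩ (hYL (Subgroup.mem_subgroupOf.mpr hy))
    · intro htc
      apply htcL
      rw [Subgroup.mem_centralizer_iff]
      intro l hl
      have := (Subgroup.mem_centralizer_iff.mp htc) (l : G) ((hmemLG l).mpr hl)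
      exact Subtype.ext this
    · intro hYc
      apply hYcL
      intro y hy
      rw [Subgroup.mem_centralizer_iff]
      intro l hl
      have := (Subgroup.mem_centralizer_iff.mp (hYc (Subgroup.mem_subgroupOf.mp hy))) (l : G)
        ((hmemLG l).mpr hl)
      exact Subtype.ext this

end Cfsg.Agent.S1328
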