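import Cfsg.Statements.S1331
import Cfsg.Agent.S1324

set_option autoImplicit false
open Cfsg

namespace Cfsg.Agent.S1331

/-- Let θ be a solvable A-signalizer functor on the finite group G for the prime p, A elementary abelian of rank at least 3, X a member of the family of θ, and B ≤ A with |B| ≥ p². Then X is generated by the subgroups X ∩ ⋂_{d ∈ D, d ≠ 1} θ d, D ranging over the subgroups of index p in B. -/
theorem result {G : Type*} [Group G] [Finite G] (p : ℕ) [Fact p.Prime] (A : Subgroup G) (hA : Cfsg.IsElementaryAbelian p A) (hA3 : p ^ 3 ≤ Nat.card ↥A) (θ : G → Subgroup G) (hθ : Cfsg.IsSolvableSignalizerFunctor p A θ) (X : Subgroup G) (hX : X ∈ Cfsg.signalizerFamily p A θ) (B : Subgroup G) (hB : B ≤ A) (hB2 : p ^ 2 ≤ Nat.card ↥B) : X = ⨆ D : {D : Subgroup G // D ≤ B ∧ D.relIndex B = p}, X ⊓ Cfsg.signalizerInf (D : Subgroup G) θ := by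
  classical
  have hp : p.Prime := Fact.out
  obtain ⟨hAc, hAexp⟩ := hA
  obtain ⟨-, hXp, hXinv, hXθ⟩ := hX
  -- B is elementary abelian
  have hBe : Cfsg.IsElementaryAbelian p B := by
    refine ⟨⟨⟨fun x y => ?_⟩⟩, fun b hb => hAexp b (hB hb)⟩
    have := hAc.is_comm.comm (⟨x.1, hB x.2⟩ : A) ⟨y.1, hB y.2⟩
    exact Subtype.ext (by simpa using congrArg Subtype.val this)
  have hBX : B ≤ Subgroup.normalizer (X : Set G) := by
    intro b hb
    rw [Subgroup.mem_normalizer_iff]
    intro x
    constructor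
    · intro hx; exact hXinv b (hB hb) x hx
    · intro hx
      have := hXinv b⁻¹ (A.inv_mem (hB hb)) _ hx
      simpa [mul_assoc] using this
  have h1 := Cfsg.Agent.S1324.result p B X hBe hB2 hXp hBX
  -- B is a p-group
  have hBp : IsPGroup p B := fun g => ⟨1, by
    rw [pow_one]; exact Subtype.ext (by simpa using hAexp g (hB g.2))⟩
  obtain ⟨n, hn⟩ := IsPGroup.iff_card.mp hBp
  have hn2 : 2 ≤ n := by
    rw [hn] at hB2
    exact (Nat.pow_le_pow_iff_right hp.one_lt).mp hB2
  -- a hyperplane of B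
  obtain ⟨K₀, hK₀⟩ := Sylow.exists_subgroup_card_pow_prime (G := B) p
    (show p ^ (n - 1) ∣ Nat.card B by rw [hn]; exact pow_dvd_pow p (by omega))
  set D₀ : Subgroup G := K₀.map B.subtype with hD₀
  have hD₀B : D₀ ≤ B := Subgroup.map_subtype_le K₀
  have hD₀idx : D₀.relIndex B = p := by
    have h2 : D₀.subgroupOf B = K₀ := by
      rw [hD₀]
      exact Subgroup.comap_map_eq_self_of_injective B.subtype_injective K₀
    rw [Subgroup.relIndex, h2]
    have h3 := Subgroup.card_mul_index K₀
    rw [hK₀, hn] at h3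
    have h4 : p ^ n = p ^ (n - 1) * p := by
      rw [← pow_succ]; congr 1; omega
    rw [h4] at h3
    exact Nat.eq_of_mul_eq_mul_left (pow_pos hp.pos _) h3
  -- the key containment
  have hcent : ∀ D : Subgroup G, D ≤ B →
      X ⊓ Subgroup.centralizer (D : Set G) ≤ X ⊓ Cfsg.signalizerInf D θ := by
    intro D hD y hy
    obtain ⟨hyX, hyD⟩ := Subgroup.mem_inf.mp hy
    refine Subgroup.mem_inf.mpr ⟨hyX, ?_⟩
    unfold Cfsg.signalizerInf
    rw [Subgroup.mem_iInf]
    rintro ⟨d, hdD, hd1⟩
    apply hXθ d (hB (hD hdD)) hd1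
    refine Subgroup.mem_inf.mpr ⟨hyX, ?_⟩
    rw [Subgroup.mem_centralizer_singleton_iff]
    rw [Subgroup.mem_centralizer_iff] at hyD
    exact (hyD d hdD).symm
  apply le_antisymm
  · rw [h1]
    apply iSup_le
    rintro ⟨D, hDB, hDidx⟩
    rw [← h1]
    by_cases hDp : D.relIndex B = p
    · exact (hcent D hDB).trans
        (le_iSup (fun D : {D : Subgroup G // D ≤ B ∧ D.relIndex B = p} =>
          X ⊓ Cfsg.signalizerInf (D : Subgroup G) θ) ⟨D, hDB, hDp⟩)
    · -- then D = B
      have hdvd : D.relIndex B ∣ p ^ n := by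
        rw [← hn]; exact Subgroup.relIndex_dvd_card D B
      obtain ⟨k, hk, hkeq⟩ := (Nat.dvd_prime_pow hp).mp hdvd
      have hk0 : k = 0 := by
        rcases Nat.eq_zero_or_pos k with h0 | h0
        · exact h0
        · exfalso
          have h5 : p ≤ D.relIndex B := by
            rw [hkeq]
            calc p = p ^ 1 := (pow_one p).symm
              _ ≤ p ^ k := Nat.pow_le_pow_right hp.pos h0
          exact hDp (le_antisymm hDidx h5)
      rw [hk0, pow_zero] at hkeq
      have hBD : B ≤ D := Subgroup.relIndex_eq_one.mp hkeq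
      have h6 : X ⊓ Subgroup.centralizer (D : Set G) ≤ X ⊓ Subgroup.centralizer (D₀ : Set G) := by
        apply inf_le_inf_left
        apply Subgroup.centralizer_le
        exact fun x hx => hBD (hD₀B hx)
      exact h6.trans ((hcent D₀ hD₀B).trans
        (le_iSup (fun D : {D : Subgroup G // D ≤ B ∧ D.relIndex B = p} =>
          X ⊓ Cfsg.signalizerInf (D : Subgroup G) θ) ⟨D₀, hD₀B, hD₀idx⟩))
  · apply iSup_le
    intro D
    exact inf_le_left

end Cfsg.Agent.S1331
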