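import Cfsg.Statements.S1335
import Mathlib

set_option autoImplicit false
open Cfsg

namespace Cfsg.Agent.S1335

/-- Let H be a subgroup of the finite group G, p a prime, k ≥ 1, P a Sylow p-subgroup of H of p-rank at least k, and suppose N_G(X) ≤ H for every subgroup X ≤ P of p-rank at least k. Then P is a Sylow p-subgroup of G. -/
theorem result {G : Type*} [Group G] [Finite G] {p : ℕ} [Fact p.Prime] (k : ℕ) (hk : 1 ≤ k) (H : Subgroup G) (P : Sylow p ↥H) (hP : ¬ Cfsg.PRankLE p (k - 1) ↥(P : Subgroup ↥H)) (hΓ : (∀ X : Subgroup G, X ≤ (P : Subgroup ↥H).map H.subtype → ¬ Cfsg.PRankLE p (k - 1) ↥X → Subgroup.normalizer (X : Set G) ≤ H)) : ∃ Q : Sylow p G, (Q : Subgroup G) = (P : Subgroup ↥H).map H.subtype := by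
  classical
  set P' : Subgroup G := (P : Subgroup ↥H).map H.subtype with hP'
  have hP'H : P' ≤ H := Subgroup.map_subtype_le _
  have hP'p : IsPGroup p P' := P.isPGroup'.map H.subtype
  -- rank transfer
  have hrk : ¬ Cfsg.PRankLE p (k - 1) ↥P' := by
    intro hle
    apply hP
    intro A hAc hAe
    let e : ↥(P : Subgroup ↥H) ≃* ↥P' :=
      (P : Subgroup ↥H).equivMapOfInjective H.subtype H.subtype_injective
    have h1 := hle (A.map e.toMonoidHom) ?_ ?_
    · rwa [Nat.card_congr (A.equivMapOfInjective e.toMonoidHom e.injective).symm.toEquiv] at h1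
    · exact Subgroup.map_isMulCommutative A e.toMonoidHom
    · rintro _ ⟨a, ha, rfl⟩
      rw [← map_pow, hAe a ha, map_one]
  have hN : Subgroup.normalizer (P' : Set G) ≤ H := hΓ P' le_rfl hrk
  obtain ⟨Q, hQ⟩ := hP'p.exists_le_sylow
  refine ⟨Q, ?_⟩
  by_contra hne
  have hlt : P' < (Q : Subgroup G) := lt_of_le_of_ne hQ (Ne.symm hne)
  -- normalizer grows in the p-group Q
  haveI : Group.IsNilpotent ↥(Q : Subgroup G) := Q.isPGroup'.isNilpotent
  have hnc := Group.normalizerCondition_of_isNilpotent (G := ↥(Q : Subgroup G))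
  have hlt' : P'.subgroupOf (Q : Subgroup G) < ⊤ := by
    rw [lt_top_iff_ne_top, Ne, Subgroup.subgroupOf_eq_top]
    exact not_le_of_gt hlt
  have h2 := hnc _ hlt'
  obtain ⟨x, hxN, hxP⟩ := SetLike.exists_of_lt h2
  -- x normalizes P' in G
  have hxN' : (x : G) ∈ Subgroup.normalizer (P' : Set G) := by
    rw [Subgroup.mem_normalizer_iff] at hxN ⊢
    intro g
    constructor
    · intro hg
      have hgQ : g ∈ (Q : Subgroup G) := hQ hg
      have := (hxN ⟨g, hgQ⟩).mp (by simpa [Subgroup.mem_subgroupOf] using hg)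
      simpa [Subgroup.mem_subgroupOf] using this
    · intro hg
      have hgQ : g ∈ (Q : Subgroup G) := by
        have h3 : (x : G)⁻¹ * ((x : G) * g * (x : G)⁻¹) * (x : G) ∈ (Q : Subgroup G) :=
          (Q : Subgroup G).mul_mem ((Q : Subgroup G).mul_mem ((Q : Subgroup G).inv_mem x.2) (hQ hg)) x.2
        simpa [mul_assoc] using h3
      have := (hxN ⟨g, hgQ⟩).mpr (by simpa [Subgroup.mem_subgroupOf] using hg)
      simpa [Subgroup.mem_subgroupOf] using this
  have hxH : (x : G) ∈ H := hN hxN'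
  -- the subgroup R generated by P' and x inside H is a p-group containing P
  set R : Subgroup G := (Q : Subgroup G) ⊓ Subgroup.normalizer (P' : Set G) with hR
  have hRH : R ≤ H := le_trans inf_le_right hN
  have hRp : IsPGroup p R := Q.isPGroup'.to_le inf_le_left
  have hP'R : P' ≤ R := le_inf hQ Subgroup.le_normalizer
  have hRp' : IsPGroup p (R.subgroupOf H) := by
    exact hRp.comap_of_injective (H.subtype) H.subtype_injective |>.to_le (by
      intro y hy; exact hy)
  have hPR : (P : Subgroup ↥H) ≤ R.subgroupOf H := by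
    intro y hy
    rw [Subgroup.mem_subgroupOf]
    exact hP'R ⟨y, hy, rfl⟩
  have := P.is_maximal' hRp' hPR
  apply hxP
  rw [Subgroup.mem_subgroupOf]
  have hxR : (⟨(x : G), hxH⟩ : ↥H) ∈ R.subgroupOf H := by
    rw [Subgroup.mem_subgroupOf]
    exact ⟨x.2, hxN'⟩
  rw [this] at hxR
  exact ⟨⟨(x : G), hxH⟩, hxR, rfl⟩

end Cfsg.Agent.S1335
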