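import Cfsg.Statements.S1336
import Cfsg.Agent.Lib.Helper33.Conj
import Cfsg.Agent.Lib.Helper85.Sylow
import Cfsg.Agent.Lib.Helper48.StronglyEmbedded

set_option autoImplicit false
open Cfsg

namespace Cfsg.Agent.S1336

open Cfsg.Agent.Lib.Helper33 (cj)

section aux

variable {G : Type*} [Group G]

/-- Vertices of the graph. -/
def V (p : ℕ) (A : Subgroup G) : Prop := Cfsg.IsElementaryAbelian p A ∧ p ^ 1 ≤ Nat.card ↥A

/-- The edge relation. -/
def r (p : ℕ) (A B : Subgroup G) : Prop :=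
  Cfsg.IsElementaryAbelian p A ∧ p ^ 1 ≤ Nat.card ↥A ∧ Cfsg.IsElementaryAbelian p B ∧
    p ^ 1 ≤ Nat.card ↥B ∧ ∀ a ∈ A, ∀ b ∈ B, a * b = b * a

theorem V_cj {p : ℕ} (g : G) {A : Subgroup G} (hA : V p A) : V p (cj g A) := by
  obtain ⟨⟨hc, he⟩, hcard⟩ := hA
  refine ⟨⟨?_, ?_⟩, ?_⟩
  · refine ⟨⟨fun a b => ?_⟩⟩
    obtain ⟨a, ha⟩ := a
    obtain ⟨b, hb⟩ := b
    obtain ⟨a', ha', rfl⟩ := Cfsg.Agent.Lib.Helper33.mem_cj'.mp ha
    obtain ⟨b', hb', rfl⟩ := Cfsg.Agent.Lib.Helper33.mem_cj'.mp hb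
    apply Subtype.ext
    have h := congrArg Subtype.val (hc.is_comm.comm (⟨a', ha'⟩ : ↥A) ⟨b', hb'⟩)
    have h' : a' * b' = b' * a' := h
    show g * a' * g⁻¹ * (g * b' * g⁻¹) = g * b' * g⁻¹ * (g * a' * g⁻¹)
    calc g * a' * g⁻¹ * (g * b' * g⁻¹) = g * (a' * b') * g⁻¹ := by group
      _ = g * (b' * a') * g⁻¹ := by rw [h']
      _ = g * b' * g⁻¹ * (g * a' * g⁻¹) := by group
  · intro a ha
    obtain ⟨a', ha', rfl⟩ := Cfsg.Agent.Lib.Helper33.mem_cj'.mp ha
    rw [conj_pow, he a' ha']; group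
  · rw [Cfsg.Agent.Lib.Helper33.card_cj]; exact hcard

theorem r_cj {p : ℕ} (g : G) {A B : Subgroup G} (h : r p A B) : r p (cj g A) (cj g B) := by
  obtain ⟨h1, h2, h3, h4, h5⟩ := h
  have hA := V_cj g (⟨h1, h2⟩ : V p A)
  have hB := V_cj g (⟨h3, h4⟩ : V p B)
  refine ⟨hA.1, hA.2, hB.1, hB.2, ?_⟩
  intro a ha b hb
  obtain ⟨a', ha', rfl⟩ := Cfsg.Agent.Lib.Helper33.mem_cj'.mp ha
  obtain ⟨b', hb', rfl⟩ := Cfsg.Agent.Lib.Helper33.mem_cj'.mp hb
  have h' := h5 a' ha' b' hb'
  calc g * a' * g⁻¹ * (g * b' * g⁻¹) = g * (a' * b') * g⁻¹ := by group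
    _ = g * (b' * a') * g⁻¹ := by rw [h']
    _ = g * b' * g⁻¹ * (g * a' * g⁻¹) := by group

theorem r_symm {p : ℕ} : Symmetric (r (G := G) p) := by
  intro A B h
  obtain ⟨h1, h2, h3, h4, h5⟩ := h
  exact ⟨h3, h4, h1, h2, fun b hb a ha => (h5 a ha b hb).symm⟩

theorem conn_cj {p : ℕ} (g : G) {A B : Subgroup G} (h : Relation.ReflTransGen (r p) A B) :
    Relation.ReflTransGen (r p) (cj g A) (cj g B) :=
  Relation.ReflTransGen.lift (cj g) (fun _ _ h => r_cj g h) _ _ h

theorem conn_symm {p : ℕ} {A B : Subgroup G} (h : Relation.ReflTransGen (r p) A B) :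
    Relation.ReflTransGen (r p) B A := by
  induction h with
  | refl => exact Relation.ReflTransGen.refl
  | tail _ hbc ih => exact Relation.ReflTransGen.head (r_symm hbc) ih

theorem cj_cj_inv (g : G) (A : Subgroup G) : cj g (cj g⁻¹ A) = A := by
  rw [← Cfsg.Agent.Lib.Helper33.cj_mul, mul_inv_cancel]
  ext x
  rw [Cfsg.Agent.Lib.Helper33.mem_cj]
  simp

theorem cj_inv_cj' (g : G) (A : Subgroup G) : cj g⁻¹ (cj g A) = A := by
  have := cj_cj_inv g⁻¹ A
  rwa [inv_inv] at this

/-- A vertex has order divisible by `p`. -/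
theorem V_dvd_card [Finite G] {p : ℕ} [Fact p.Prime] {A : Subgroup G} (hA : V p A) :
    p ∣ Nat.card ↥A := by
  have hp : p.Prime := Fact.out
  have hAp : IsPGroup p ↥A := by
    intro a
    refine ⟨1, ?_⟩
    apply Subtype.ext
    rw [pow_one]
    simpa using hA.1.2 a a.2
  obtain ⟨k, hk⟩ := IsPGroup.iff_card.mp hAp
  have h2 := hA.2
  rw [hk, pow_one] at h2
  rw [hk]
  rcases Nat.eq_zero_or_pos k with h0 | h0
  · rw [h0, pow_zero] at h2
    have := hp.two_le
    omega
  · exact dvd_pow_self p (by omega)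

theorem V_isPGroup {p : ℕ} {A : Subgroup G} (hA : V p A) : IsPGroup p ↥A := by
  intro a
  refine ⟨1, ?_⟩
  apply Subtype.ext
  rw [pow_one]
  simpa using hA.1.2 a a.2

/-- The cyclic group generated by an element of order `p` is a vertex. -/
theorem V_zpowers {p : ℕ} [Fact p.Prime] {x : G} (hx : orderOf x = p) : V p (Subgroup.zpowers x) := by
  refine ⟨⟨?_, ?_⟩, ?_⟩
  · refine ⟨⟨fun a b => ?_⟩⟩
    obtain ⟨a, ha⟩ := a
    obtain ⟨b, hb⟩ := b
    obtain ⟨m, rfl⟩ := Subgroup.mem_zpowers_iff.mp ha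
    obtain ⟨n, rfl⟩ := Subgroup.mem_zpowers_iff.mp hb
    apply Subtype.ext
    show x ^ m * x ^ n = x ^ n * x ^ m
    rw [← zpow_add, ← zpow_add, add_comm]
  · intro a ha
    obtain ⟨m, rfl⟩ := Subgroup.mem_zpowers_iff.mp ha
    rw [← zpow_natCast, ← zpow_mul, mul_comm, zpow_mul, zpow_natCast, ← hx, pow_orderOf_eq_one,
      one_zpow]
  · rw [Nat.card_zpowers, hx, pow_one]

/-- Two vertices inside a common `p`-subgroup are connected. -/
theorem conn_of_le_pgroup [Finite G] {p : ℕ} [Fact p.Prime] {A B P : Subgroup G} (hA : V p A)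
    (hB : V p B) (hP : IsPGroup p ↥P) (hAP : A ≤ P) (hBP : B ≤ P) :
    Relation.ReflTransGen (r p) A B := by
  have hne : P ≠ ⊥ := by
    intro h
    have h1 : A = ⊥ := le_bot_iff.mp (h ▸ hAP)
    have h2 := V_dvd_card hA
    rw [h1, Subgroup.card_bot] at h2
    exact (Fact.out : p.Prime).one_lt.ne' (Nat.dvd_one.mp h2)
  obtain ⟨z, hzP, hzo, hzc⟩ := Cfsg.Agent.Lib.Helper48.exists_central_orderOf_eq hP hne
  have hZ := V_zpowers (p := p) hzo
  have hcomm : ∀ C : Subgroup G, C ≤ P → ∀ a ∈ C, ∀ b ∈ Subgroup.zpowers z, a * b = b * a := by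
    intro C hC a ha b hb
    obtain ⟨m, rfl⟩ := Subgroup.mem_zpowers_iff.mp hb
    have hc : Commute a z := hzc a (hC ha)
    exact (hc.zpow_right m).eq
  have h1 : r p A (Subgroup.zpowers z) := ⟨hA.1, hA.2, hZ.1, hZ.2, hcomm A hAP⟩
  have h2 : r p (Subgroup.zpowers z) B :=
    ⟨hZ.1, hZ.2, hB.1, hB.2, fun b hb a ha => (hcomm B hBP a ha b hb).symm⟩
  exact Relation.ReflTransGen.tail (Relation.ReflTransGen.single h1) h2

end aux

/-- Let G be finite and p prime. Then G has a proper subgroup H with p ∣ |H| and p ∤ |H ∩ gHg⁻¹| for every g ∉ H (a strongly p-embedded subgroup) if and only if G is not 1-connected for p. -/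
theorem result {G : Type*} [Group G] [Finite G] (p : ℕ) [Fact p.Prime] : (∃ H : Subgroup G, H ≠ ⊤ ∧ p ∣ Nat.card ↥H ∧ ∀ g : G, g ∉ H → ¬ p ∣ Nat.card ↥(H ⊓ H.map (MulAut.conj g).toMonoidHom)) ↔ ¬ Cfsg.IsKConnected p 1 G := by
  have hp : p.Prime := Fact.out
  constructor
  · rintro ⟨H, hHtop, hHp, hH⟩ hconn
    -- an element of order p in H
    obtain ⟨x, hx⟩ := exists_prime_orderOf_dvd_card' (G := ↥H) p hHp
    have hxo : orderOf (x : G) = p := by rw [Subgroup.orderOf_coe]; exact hx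
    obtain ⟨g, hg⟩ : ∃ g : G, g ∉ H := by
      by_contra h
      push Not at h
      exact hHtop (eq_top_iff.mpr fun y _ => h y)
    have hA₀ := V_zpowers (p := p) hxo
    have hxo' : orderOf (g * (x : G) * g⁻¹) = p := by
      rw [← hxo]
      have hsc : SemiconjBy g (x : G) (g * (x : G) * g⁻¹) := by
        unfold SemiconjBy; group
      exact (hsc.orderOf_eq).symm
    have hA₁ := V_zpowers (p := p) hxo'
    have hc : Relation.ReflTransGen (r p) (Subgroup.zpowers (x : G))
        (Subgroup.zpowers (g * (x : G) * g⁻¹)) :=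
      hconn _ _ hA₀.1 hA₀.2 hA₁.1 hA₁.2
    -- everything connected to A₀ lies in H
    have key : ∀ B : Subgroup G, Relation.ReflTransGen (r p) (Subgroup.zpowers (x : G)) B →
        B ≤ H := by
      intro B hB
      induction hB with
      | refl => exact Subgroup.zpowers_le.mpr x.2
      | @tail B C _ hstep ih =>
        intro c hcC
        by_contra hcH
        apply hH c hcH
        have hVB : V p B := ⟨hstep.1, hstep.2.1⟩
        have hBle : B ≤ H ⊓ H.map (MulAut.conj c).toMonoidHom := by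
          intro b hb
          refine ⟨ih hb, ?_⟩
          refine ⟨b, ih hb, ?_⟩
          have := hstep.2.2.2.2 b hb c hcC
          show c * b * c⁻¹ = b
          rw [← this]; group
        exact (V_dvd_card hVB).trans (Subgroup.card_dvd_of_le hBle)
    have h1 := key _ hc
    have h2 : g * (x : G) * g⁻¹ ∈ H := h1 (Subgroup.mem_zpowers _)
    apply hH g hg
    have hle : Subgroup.zpowers (g * (x : G) * g⁻¹) ≤ H ⊓ H.map (MulAut.conj g).toMonoidHom := by
      rw [Subgroup.zpowers_le]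
      exact ⟨h2, ⟨(x : G), x.2, rfl⟩⟩
    have := Subgroup.card_dvd_of_le hle
    rw [Nat.card_zpowers, hxo'] at this
    exact this
  · intro hnc
    unfold Cfsg.IsKConnected at hnc
    push Not at hnc
    obtain ⟨E, E', hE1, hE2, hE'1, hE'2, hEE'⟩ := hnc
    have hVE : V p E := ⟨hE1, hE2⟩
    have hVE' : V p E' := ⟨hE'1, hE'2⟩
    have hEE'' : ¬ Relation.ReflTransGen (r p) E E' := hEE'
    -- the stabilizer of the component of E
    let H : Subgroup G :=
      { carrier := {g | ∀ B, Relation.ReflTransGen (r p) E B ↔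
          Relation.ReflTransGen (r p) E (cj g B)}
        mul_mem' := by
          intro a b ha hb B
          rw [Cfsg.Agent.Lib.Helper33.cj_mul]
          exact (hb B).trans (ha (cj b B))
        one_mem' := by
          intro B
          have : cj (1 : G) B = B := by
            ext x
            rw [Cfsg.Agent.Lib.Helper33.mem_cj]
            simp
          rw [this]
        inv_mem' := by
          intro a ha B
          have := ha (cj a⁻¹ B)
          rw [cj_cj_inv] at this
          exact this.symm }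
    have hmemH : ∀ g : G, g ∈ H ↔ ∀ B, Relation.ReflTransGen (r p) E B ↔
        Relation.ReflTransGen (r p) E (cj g B) := fun g => Iff.rfl
    -- E ≤ H
    have hEH : E ≤ H := by
      intro e he
      rw [hmemH]
      intro B
      have h1 : cj e E = E := Cfsg.Agent.Lib.Helper33.cj_eq_self_of_mem he
      have h2 : cj e⁻¹ E = E := Cfsg.Agent.Lib.Helper33.cj_eq_self_of_mem (E.inv_mem he)
      constructor
      · intro h
        have := conn_cj e h
        rwa [h1] at this
      · intro h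
        have := conn_cj e⁻¹ h
        rwa [h2, cj_inv_cj'] at this
    -- every vertex inside H is connected to E
    have hin : ∀ A : Subgroup G, V p A → A ≤ H → Relation.ReflTransGen (r p) E A := by
      intro A hA hAH
      obtain ⟨R⟩ : Nonempty (Sylow p ↥H) := inferInstance
      have hS := Cfsg.Agent.Lib.Helper85.sylow_map_subtype_sylIn R
      set S := (R : Subgroup ↥H).map H.subtype with hSdef
      have hSH : S ≤ H := Subgroup.map_subtype_le _
      have hSp : IsPGroup p ↥S := hS.isPGroup hSH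
      obtain ⟨h1, hh1, hle1⟩ := hS.exists_conj_le hEH (V_isPGroup hVE)
      obtain ⟨h2, hh2, hle2⟩ := hS.exists_conj_le hAH (V_isPGroup hA)
      have hle1' : cj h1 E ≤ S := hle1
      have hle2' : cj h2 A ≤ S := hle2
      have hc := conn_of_le_pgroup (V_cj h1 hVE) (V_cj h2 hA) hSp hle1' hle2'
      -- E ~ cj h1 E since h1 ∈ H
      have hc1 : Relation.ReflTransGen (r p) E (cj h1 E) :=
        ((hmemH h1).mp hh1 E).mp Relation.ReflTransGen.refl
      have hc2 : Relation.ReflTransGen (r p) E (cj h2 A) := hc1.trans hc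
      exact ((hmemH h2).mp hh2 A).mpr hc2
    refine ⟨H, ?_, ?_, ?_⟩
    · -- H ≠ ⊤
      intro htop
      obtain ⟨P, hP⟩ := (V_isPGroup hVE).exists_le_sylow
      obtain ⟨P', hP'⟩ := (V_isPGroup hVE').exists_le_sylow
      obtain ⟨g, hg⟩ := Cfsg.Agent.Lib.Helper33.sylow_exists_cj P P'
      have h1 : cj g⁻¹ E' ≤ (P : Subgroup G) := by
        rw [Cfsg.Agent.Lib.Helper33.cj_le_iff, inv_inv, hg]
        exact hP'
      have hc := conn_of_le_pgroup hVE (V_cj g⁻¹ hVE') P.2 hP h1
      have hgH : g ∈ H := by rw [htop]; trivial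
      have := ((hmemH g).mp hgH _).mp hc
      rw [cj_cj_inv] at this
      exact hEE'' this
    · exact (V_dvd_card hVE).trans (Subgroup.card_dvd_of_le hEH)
    · intro g hg hdvd
      apply hg
      obtain ⟨x, hx⟩ := exists_prime_orderOf_dvd_card' (G := ↥(H ⊓ H.map (MulAut.conj g).toMonoidHom))
        p hdvd
      have hxo : orderOf (x : G) = p := by rw [Subgroup.orderOf_coe]; exact hx
      have hX := V_zpowers (p := p) hxo
      have hXH : Subgroup.zpowers (x : G) ≤ H := Subgroup.zpowers_le.mpr x.2.1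
      have hXgH : cj g⁻¹ (Subgroup.zpowers (x : G)) ≤ H := by
        rw [Cfsg.Agent.Lib.Helper33.cj_le_iff, inv_inv]
        exact Subgroup.zpowers_le.mpr x.2.2
      have c1 := hin _ hX hXH
      have c2 := hin _ (V_cj g⁻¹ hX) hXgH
      rw [hmemH]
      intro B
      constructor
      · intro hB
        have h3 : Relation.ReflTransGen (r p) (cj g⁻¹ (Subgroup.zpowers (x : G))) B :=
          (conn_symm c2).trans hB
        have h4 := conn_cj g h3
        rw [cj_cj_inv] at h4
        exact c1.trans h4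
      · intro hB
        have h3 : Relation.ReflTransGen (r p) (Subgroup.zpowers (x : G)) (cj g B) :=
          (conn_symm c1).trans hB
        have h4 := conn_cj g⁻¹ h3
        rw [cj_inv_cj'] at h4
        exact c2.trans h4

end Cfsg.Agent.S1336
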