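import Cfsg.Statements.S1337
import Cfsg.Agent.Lib.Helper45.NormalFour
import Cfsg.Agent.Lib.Helper10.Replacement2

set_option autoImplicit false
open Cfsg

namespace Cfsg.Agent.S1337

open Subgroup

private theorem elemAb_mono {P : Type*} [Group P] {p : ℕ} {A B : Subgroup P}
    (hA : Cfsg.IsElementaryAbelian p A) (hBA : B ≤ A) : Cfsg.IsElementaryAbelian p B := by
  refine ⟨⟨⟨fun x y => Subtype.ext ?_⟩⟩, fun a ha => hA.2 a (hBA ha)⟩
  have := congrArg Subtype.val (hA.1.is_comm.comm ⟨x, hBA x.2⟩ ⟨y, hBA y.2⟩)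
  simpa using this

private theorem elemAb_comm {P : Type*} [Group P] {p : ℕ} {A : Subgroup P}
    (hA : Cfsg.IsElementaryAbelian p A) {x y : P} (hx : x ∈ A) (hy : y ∈ A) : x * y = y * x := by
  have := congrArg Subtype.val (hA.1.is_comm.comm ⟨x, hx⟩ ⟨y, hy⟩)
  simpa using this

private theorem elemAb_le_centralizer {P : Type*} [Group P] {p : ℕ} {A : Subgroup P}
    (hA : Cfsg.IsElementaryAbelian p A) : A ≤ centralizer (A : Set P) := by
  intro x hx
  rw [Subgroup.mem_centralizer_iff]
  intro h hh
  exact elemAb_comm hA hh hx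

/-- Let P be a finite p-group of p-rank greater than 2. Then P has a normal elementary abelian subgroup U of order p², and for every elementary abelian X ≤ P with |X| ≥ p²: X is joined to U by a chain of pairwise commuting elementary abelian subgroups of order ≥ p² if and only if C_P(X) has p-rank greater than 2. -/
theorem result {P : Type*} [Group P] [Finite P] (p : ℕ) [Fact p.Prime] (hP : IsPGroup p P) (hrk : ¬ Cfsg.PRankLE p 2 P) : ∃ U : Subgroup P, U.Normal ∧ Cfsg.IsElementaryAbelian p U ∧ Nat.card ↥U = p ^ 2 ∧ ∀ X : Subgroup P, Cfsg.IsElementaryAbelian p X → p ^ 2 ≤ Nat.card ↥X → (Relation.ReflTransGen (fun A B : Subgroup P => Cfsg.IsElementaryAbelian p A ∧ p ^ 2 ≤ Nat.card ↥A ∧ Cfsg.IsElementaryAbelian p B ∧ p ^ 2 ≤ Nat.card ↥B ∧ ∀ a ∈ A, ∀ b ∈ B, a * b = b * a) X U ↔ ¬ Cfsg.PRankLE p 2 ↥(Subgroup.centralizer (X : Set P))) := by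
  classical
  have hpp : p.Prime := Fact.out
  obtain ⟨U, hUn, hUe, hUc⟩ := Cfsg.Agent.Lib.Helper45.exists_normal_elemAb_card_sq p hP hrk
  refine ⟨U, hUn, hUe, hUc, ?_⟩
  -- the base case: a large elementary abelian subgroup centralizing U
  have hbase : ∃ B : Subgroup P, Cfsg.IsElementaryAbelian p B ∧ B ≤ centralizer (U : Set P) ∧
      p ^ 2 < Nat.card B := by
    have hrk' := hrk
    unfold Cfsg.PRankLE at hrk'
    push Not at hrk'
    obtain ⟨E₀, hE₀c, hE₀e, hE₀card⟩ := hrk'
    have hE₀ : Cfsg.IsElementaryAbelian p E₀ := ⟨hE₀c, hE₀e⟩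
    have hE₁card := Cfsg.Agent.Lib.Helper45.sq_le_card_inf_centralizer hP U hUe hUc E₀ hE₀card
    set E₁ := E₀ ⊓ centralizer (U : Set P) with hE₁
    have hE₁e : Cfsg.IsElementaryAbelian p E₁ := elemAb_mono hE₀ inf_le_left
    by_cases hle : E₁ ≤ U
    · have hEU : E₁ = U := Subgroup.eq_of_le_of_card_ge hle (by rw [hUc]; exact hE₁card)
      have hUE₀ : U ≤ E₀ := by rw [← hEU]; exact inf_le_left
      refine ⟨E₀, hE₀, ?_, hE₀card⟩
      intro x hx
      rw [Subgroup.mem_centralizer_iff]
      intro u hu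
      exact elemAb_comm hE₀ (hUE₀ hu) hx
    · have hcomm : ∀ a ∈ U, ∀ b ∈ E₁, a * b = b * a := by
        intro a ha b hb
        have hb' : b ∈ centralizer (U : Set P) := (inf_le_right : E₁ ≤ _) hb
        rw [Subgroup.mem_centralizer_iff] at hb'
        exact hb' a ha
      refine ⟨U ⊔ E₁, Cfsg.Agent.Lib.Helper10.elemAb_sup hUe hE₁e hcomm,
        sup_le (elemAb_le_centralizer hUe) inf_le_right, ?_⟩
      by_contra hcon
      push Not at hcon
      have hEq : U = U ⊔ E₁ := Subgroup.eq_of_le_of_card_ge le_sup_left (by rw [hUc]; exact hcon)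
      apply hle
      rw [hEq]
      exact le_sup_right
  intro X hXe hXc
  constructor
  · -- chain gives rank > 2 of the centralizer
    intro hchain
    have key : ∀ Y : Subgroup P, Relation.ReflTransGen (fun A B : Subgroup P =>
        Cfsg.IsElementaryAbelian p A ∧ p ^ 2 ≤ Nat.card ↥A ∧ Cfsg.IsElementaryAbelian p B ∧
        p ^ 2 ≤ Nat.card ↥B ∧ ∀ a ∈ A, ∀ b ∈ B, a * b = b * a) Y U →
        ∃ B : Subgroup P, Cfsg.IsElementaryAbelian p B ∧ B ≤ centralizer (Y : Set P) ∧
          p ^ 2 < Nat.card B := by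
      intro Y hY
      induction hY using Relation.ReflTransGen.head_induction_on with
      | refl => exact hbase
      | @head Y Y' h1 h2 ih =>
        obtain ⟨hYe, hYc, hY'e, hY'c, hcomm⟩ := h1
        have hB₁e : Cfsg.IsElementaryAbelian p (Y ⊔ Y') :=
          Cfsg.Agent.Lib.Helper10.elemAb_sup hYe hY'e hcomm
        have hB₁le : Y ⊔ Y' ≤ centralizer (Y : Set P) := by
          refine sup_le (elemAb_le_centralizer hYe) ?_
          intro b hb
          rw [Subgroup.mem_centralizer_iff]
          intro a ha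
          exact hcomm a ha b hb
        by_cases hbig : p ^ 2 < Nat.card (Y ⊔ Y' : Subgroup P)
        · exact ⟨Y ⊔ Y', hB₁e, hB₁le, hbig⟩
        · push Not at hbig
          have h1 : Y = Y ⊔ Y' := Subgroup.eq_of_le_of_card_ge le_sup_left (le_trans hbig hYc)
          have h2 : Y' = Y ⊔ Y' := Subgroup.eq_of_le_of_card_ge le_sup_right (le_trans hbig hY'c)
          have h3 : Y = Y' := h1.trans h2.symm
          rw [h3]
          exact ih
    obtain ⟨B, hBe, hBle, hBcard⟩ := key X hchain
    intro hrkC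
    have := hBe.1
    have h1 := hrkC (B.subgroupOf (centralizer (X : Set P))) inferInstance (by
      intro a ha
      apply Subtype.ext
      have := hBe.2 (a : P) (Subgroup.mem_subgroupOf.mp ha)
      simpa using this)
    have h2 : Nat.card (B.subgroupOf (centralizer (X : Set P))) = Nat.card B := by
      rw [← Subgroup.card_map_of_injective (centralizer (X : Set P)).subtype_injective,
        Subgroup.subgroupOf_map_subtype, inf_of_le_left hBle]
    omega
  · -- rank > 2 of the centralizer gives a chain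
    intro hrkC
    unfold Cfsg.PRankLE at hrkC
    push Not at hrkC
    obtain ⟨A, hAc, hAe, hAcard⟩ := hrkC
    obtain ⟨A', hA'⟩ : ∃ A' : Subgroup P, A' = A.map (centralizer (X : Set P)).subtype := ⟨_, rfl⟩
    have hA'card : Nat.card A' = Nat.card A := by
      rw [hA']
      exact Subgroup.card_map_of_injective (centralizer (X : Set P)).subtype_injective
    have hA'le : A' ≤ centralizer (X : Set P) := by
      rw [hA']
      exact Subgroup.map_subtype_le A
    have hA'e : Cfsg.IsElementaryAbelian p A' := by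
      have := hAc
      rw [hA']
      refine ⟨inferInstance, ?_⟩
      intro a ha
      obtain ⟨x, hx, rfl⟩ := Subgroup.mem_map.mp ha
      have := hAe x hx
      rw [← map_pow, this, map_one]
    have hA'big : p ^ 2 < Nat.card A' := by rw [hA'card]; exact hAcard
    have hBcard := Cfsg.Agent.Lib.Helper45.sq_le_card_inf_centralizer hP U hUe hUc A' hA'big
    set B := A' ⊓ centralizer (U : Set P) with hB
    have hBe : Cfsg.IsElementaryAbelian p B := elemAb_mono hA'e inf_le_left
    refine Relation.ReflTransGen.head (b := A') ⟨hXe, hXc, hA'e, hA'big.le, ?_⟩ ?_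
    · intro a ha b hb
      have hb' : b ∈ centralizer (X : Set P) := hA'le hb
      rw [Subgroup.mem_centralizer_iff] at hb'
      exact hb' a ha
    refine Relation.ReflTransGen.head (b := B) ⟨hA'e, hA'big.le, hBe, hBcard, ?_⟩ ?_
    · intro a ha b hb
      exact elemAb_comm hA'e ha ((inf_le_left : B ≤ A') hb)
    refine Relation.ReflTransGen.single ⟨hBe, hBcard, hUe, by rw [hUc], ?_⟩
    intro a ha b hb
    have ha' : a ∈ centralizer (U : Set P) := (inf_le_right : B ≤ _) ha
    rw [Subgroup.mem_centralizer_iff] at ha'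
    exact (ha' b hb).symm

end Cfsg.Agent.S1337
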