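import Cfsg.Statements.S1338
import Mathlib
import Cfsg.Agent.S1337
import Cfsg.Agent.Lib.Helper9.Conn3e

set_option autoImplicit false
open Cfsg

namespace Cfsg.Agent.S1338

/-- A finite 3-group of 3-rank at least 4 is 2-connected for the prime 3: its commuting graph on elementary abelian subgroups of order ≥ 9 is connected. -/
theorem result {P : Type*} [Group P] [Finite P] (hP : IsPGroup 3 P) (hrk : ¬ Cfsg.PRankLE 3 3 P) : Cfsg.IsKConnected 3 2 P := by

  classical
  have : Fact (Nat.Prime 3) := ⟨Nat.prime_three⟩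
  have hrk2 : ¬ Cfsg.PRankLE 3 2 P := fun h => hrk (fun A hA hAe =>
    (h A hA hAe).trans (by norm_num))
  obtain ⟨U, -, -, -, hU⟩ := Cfsg.Agent.S1337.result 3 hP hrk2
  have key : ∀ X : Subgroup P, Cfsg.IsElementaryAbelian 3 X → 3 ^ 2 ≤ Nat.card ↥X →
      ¬ Cfsg.PRankLE 3 2 ↥(Subgroup.centralizer (X : Set P)) := by
    intro X hX hX9 hle
    have hcomm : ∀ B : Subgroup P, Cfsg.IsElementaryAbelian 3 B →
        ∀ a ∈ B, ∀ b ∈ B, a * b = b * a := fun B hB a ha b hb =>
      congrArg Subtype.val (hB.1.is_comm.comm ⟨a, ha⟩ ⟨b, hb⟩)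
    have hB : ∀ B : Subgroup P, Cfsg.IsElementaryAbelian 3 B → X ≤ B → Nat.card B ≤ 9 := by
      intro B hB hXB
      have hBC : B ≤ Subgroup.centralizer (X : Set P) := by
        intro b hb
        rw [Subgroup.mem_centralizer_iff]
        intro x hx
        exact hcomm B hB x (hXB hx) b hb
      have h1 := hle (B.subgroupOf (Subgroup.centralizer (X : Set P)))
        ⟨⟨fun a b => Subtype.ext (Subtype.ext (hcomm B hB _ a.2 _ b.2))⟩⟩
        (fun a ha => Subtype.ext (by
          have h2 := hB.2 (a : P) ha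
          simpa using h2))
      rw [Nat.card_congr (Subgroup.subgroupOfEquivOfLe hBC).toEquiv] at h1
      norm_num at h1
      exact h1
    have hX9' : Nat.card X = 3 ^ 2 := by
      have h1 := hB X hX le_rfl
      norm_num at hX9 ⊢
      omega
    have hXmax : ∀ B : Subgroup P, (∀ a ∈ B, ∀ b ∈ B, a * b = b * a) → (∀ a ∈ B, a ^ 3 = 1) →
        X ≤ B → B = X := by
      intro B hBc hBe hXB
      have h1 := hB B ⟨⟨⟨fun a b => Subtype.ext (hBc a a.2 b b.2)⟩⟩, hBe⟩ hXB
      exact (Subgroup.eq_of_le_of_card_ge hXB (by rw [hX9']; norm_num; exact h1)).symm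
    apply hrk
    intro A hA hAe
    have h1 := Cfsg.Agent.Lib.Helper9.Conn3.prank_le_three_of_max_nine hP X (hcomm X hX) hX.2 hX9'
      hXmax A (fun a ha b hb => congrArg Subtype.val (hA.is_comm.comm ⟨a, ha⟩ ⟨b, hb⟩)) hAe
    norm_num
    exact h1
  intro E E' hE hE9 hE' hE'9
  have h1 := (hU E hE hE9).mpr (key E hE hE9)
  have h2 := (hU E' hE' hE'9).mpr (key E' hE' hE'9)
  have hsymm : Std.Symm (fun A B : Subgroup P => Cfsg.IsElementaryAbelian 3 A ∧
      3 ^ 2 ≤ Nat.card ↥A ∧ Cfsg.IsElementaryAbelian 3 B ∧ 3 ^ 2 ≤ Nat.card ↥B ∧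
      ∀ a ∈ A, ∀ b ∈ B, a * b = b * a) := by
    constructor
    rintro A B ⟨hA, hA9, hB, hB9, hAB⟩
    exact ⟨hB, hB9, hA, hA9, fun b hb a ha => (hAB a ha b hb).symm⟩
  exact h1.trans ((Relation.ReflTransGen.stdSymm (r := _)).symm _ _ h2)


end Cfsg.Agent.S1338
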