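import Cfsg.Statements.S1339
import Cfsg.Agent.Lib.Helper22.CharP

set_option autoImplicit false
open Cfsg

namespace Cfsg.Agent.S1339

open Matrix

section aux

variable {F : Type*} [Field F] {n : ℕ}

/-- The three conditions defining the unipotent radical `Q` of the centralizer of the transvection
`1 + E_{ij}`. -/
def IsQ (i j : Fin n) (A : Matrix (Fin n) (Fin n) F) : Prop :=
  A *ᵥ (Pi.single i (1 : F)) = Pi.single i (1 : F) ∧ (∀ v : Fin n → F, (A *ᵥ v) j = v j) ∧
    ∀ v : Fin n → F, v j = 0 → ∃ c : F, A *ᵥ v = v + c • Pi.single i (1 : F)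

/-- The weaker conditions satisfied by every element of the centralizer. -/
def IsC (i j : Fin n) (A : Matrix (Fin n) (Fin n) F) : Prop :=
  A *ᵥ (Pi.single i (1 : F)) = Pi.single i (1 : F) ∧ (∀ v : Fin n → F, (A *ᵥ v) j = v j)

theorem isC_one (i j : Fin n) : IsC i j (1 : Matrix (Fin n) (Fin n) F) :=
  ⟨by rw [one_mulVec], fun v => by rw [one_mulVec]⟩

theorem isC_mul {i j : Fin n} {A B : Matrix (Fin n) (Fin n) F} (hA : IsC i j A) (hB : IsC i j B) :
    IsC i j (A * B) := by
  refine ⟨?_, ?_⟩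
  · rw [← mulVec_mulVec, hB.1, hA.1]
  · intro v
    rw [← mulVec_mulVec, hA.2, hB.2]

theorem isC_inv {i j : Fin n} {A B : Matrix (Fin n) (Fin n) F} (hA : IsC i j A)
    (hBA : B * A = 1) (hAB : A * B = 1) : IsC i j B := by
  refine ⟨?_, ?_⟩
  · have := congrArg (fun w => B *ᵥ w) hA.1
    simp only [mulVec_mulVec, hBA, one_mulVec] at this
    exact this.symm
  · intro v
    have := hA.2 (B *ᵥ v)
    rw [mulVec_mulVec, hAB, one_mulVec] at this
    exact this.symm

theorem isQ_one (i j : Fin n) : IsQ i j (1 : Matrix (Fin n) (Fin n) F) :=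
  ⟨by rw [one_mulVec], fun v => by rw [one_mulVec], fun v _ => ⟨0, by rw [one_mulVec]; simp⟩⟩

theorem IsQ.isC {i j : Fin n} {A : Matrix (Fin n) (Fin n) F} (hA : IsQ i j A) : IsC i j A :=
  ⟨hA.1, hA.2.1⟩

theorem isQ_mul {i j : Fin n} {A B : Matrix (Fin n) (Fin n) F} (hA : IsQ i j A) (hB : IsQ i j B) :
    IsQ i j (A * B) := by
  refine ⟨(isC_mul hA.isC hB.isC).1, (isC_mul hA.isC hB.isC).2, ?_⟩
  intro v hv
  obtain ⟨c', hc'⟩ := hB.2.2 v hv
  obtain ⟨c, hc⟩ := hA.2.2 v hv
  refine ⟨c + c', ?_⟩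
  rw [← mulVec_mulVec, hc', mulVec_add, mulVec_smul, hA.1, hc, add_smul, add_assoc]

theorem isQ_inv {i j : Fin n} {A B : Matrix (Fin n) (Fin n) F} (hA : IsQ i j A)
    (hBA : B * A = 1) (hAB : A * B = 1) : IsQ i j B := by
  have hBC := isC_inv hA.isC hBA hAB
  refine ⟨hBC.1, hBC.2, ?_⟩
  intro v hv
  obtain ⟨c, hc⟩ := hA.2.2 v hv
  refine ⟨-c, ?_⟩
  have := congrArg (fun w => B *ᵥ w) hc
  simp only [mulVec_mulVec, hBA, one_mulVec, mulVec_add, mulVec_smul, hBC.1] at this
  have h2 : B *ᵥ v = v - c • Pi.single i (1 : F) := by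
    rw [eq_sub_iff_add_eq]; exact this.symm
  rw [h2, neg_smul, sub_eq_add_neg]

theorem isQ_conj {i j : Fin n} {A X Y : Matrix (Fin n) (Fin n) F} (hA : IsQ i j A)
    (hX : IsC i j X) (hY : IsC i j Y) (hXY : X * Y = 1) : IsQ i j (X * A * Y) := by
  have hC := isC_mul (isC_mul hX hA.isC) hY
  refine ⟨hC.1, hC.2, ?_⟩
  intro v hv
  have hYv : (Y *ᵥ v) j = 0 := by rw [hY.2, hv]
  obtain ⟨c, hc⟩ := hA.2.2 (Y *ᵥ v) hYv
  refine ⟨c, ?_⟩
  rw [← mulVec_mulVec, ← mulVec_mulVec, hc, mulVec_add, mulVec_smul, hX.1, mulVec_mulVec, hXY,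
    one_mulVec]

theorem eq_zero_or_one [Fintype F] [DecidableEq F] (hF : Fintype.card F = 2) (x : F) :
    x = 0 ∨ x = 1 := by
  by_contra h
  push Not at h
  have h3 : ({0, 1, x} : Finset F).card = 3 := by
    rw [Finset.card_insert_of_notMem, Finset.card_insert_of_notMem, Finset.card_singleton]
    · simp [h.2.symm]
    · simp [h.1.symm]
  have := Finset.card_le_univ ({0, 1, x} : Finset F)
  omega

theorem one_add_one [Fintype F] [DecidableEq F] (hF : Fintype.card F = 2) : (1 : F) + 1 = 0 := by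
  rcases eq_zero_or_one hF ((1 : F) + 1) with h | h
  · exact h
  · exfalso
    have : (1 : F) = 0 := by
      have := congrArg (fun x => x - 1) h
      simpa using this
    exact one_ne_zero this

theorem isC_of_commute [Fintype F] [DecidableEq F] (hF : Fintype.card F = 2) {i j : Fin n}
    {A : Matrix (Fin n) (Fin n) F} (hdet : A.det = 1)
    (hcomm : Commute (Matrix.single i j (1 : F)) A) : IsC i j A := by
  have hcol : ∀ k, k ≠ i → A k i = 0 := fun k hk => col_eq_zero_of_commute_single hcomm hk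
  have hrow : ∀ k, k ≠ j → A j k = 0 := fun k hk => row_eq_zero_of_commute_single hcomm hk
  have hdiag : A i i = A j j := diag_eq_of_commute_single hcomm
  have hii : A i i = 1 := by
    rcases eq_zero_or_one hF (A i i) with h | h
    · exfalso
      have : A.det = 0 := by
        apply det_eq_zero_of_column_eq_zero i
        intro k
        by_cases hk : k = i
        · rw [hk]; exact h
        · exact hcol k hk
      rw [hdet] at this
      exact one_ne_zero this
    · exact h
  refine ⟨?_, ?_⟩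
  · rw [mulVec_single_one]
    ext k
    by_cases hk : k = i
    · subst hk; simp [hii]
    · simp [hcol k hk, hk]
  · intro v
    have hsum : (A *ᵥ v) j = ∑ b, A j b * v b := rfl
    rw [hsum, Finset.sum_eq_single j]
    · rw [← hdiag, hii, one_mul]
    · intro b _ hb
      rw [hrow b hb, zero_mul]
    · intro h; exact absurd (Finset.mem_univ j) h

theorem transvection_mulVec (a j : Fin n) (v : Fin n → F) :
    (transvection a j (1 : F)) *ᵥ v = v + (v j) • Pi.single a (1 : F) := by
  unfold transvection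
  rw [add_mulVec, one_mulVec, single_mulVec_eq, one_mul]

theorem isQ_transvection {i j a : Fin n} (hij : i ≠ j) (haj : a ≠ j) :
    IsQ i j (transvection a j (1 : F)) := by
  refine ⟨?_, ?_, ?_⟩
  · rw [transvection_mulVec, Pi.single_eq_of_ne hij.symm, zero_smul, add_zero]
  · intro v
    rw [transvection_mulVec]
    simp [Pi.single_eq_of_ne haj.symm]
  · intro v hv
    refine ⟨0, ?_⟩
    rw [transvection_mulVec, hv, zero_smul, zero_smul]

theorem isQ_sq [Fintype F] [DecidableEq F] (hF : Fintype.card F = 2) {i j : Fin n}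
    {A : Matrix (Fin n) (Fin n) F} (hA : IsQ i j A) (v : Fin n → F) :
    ∃ c : F, (A * A) *ᵥ v = v + c • Pi.single i (1 : F) := by
  have hw : (A *ᵥ v - v) j = 0 := by
    rw [Pi.sub_apply, hA.2.1, sub_self]
  obtain ⟨c, hc⟩ := hA.2.2 _ hw
  refine ⟨c, ?_⟩
  have h1 : A *ᵥ v = v + (A *ᵥ v - v) := by abel
  have h2 : (A *ᵥ v - v) + (A *ᵥ v - v) = 0 := by
    have : (A *ᵥ v - v) + (A *ᵥ v - v) = ((1 : F) + 1) • (A *ᵥ v - v) := by
      rw [add_smul, one_smul]
    rw [this, one_add_one hF, zero_smul]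
  rw [← mulVec_mulVec]
  conv_lhs => rw [h1]
  rw [mulVec_add, hc]
  calc A *ᵥ v + (A *ᵥ v - v + c • Pi.single i (1 : F))
      = v + ((A *ᵥ v - v) + (A *ᵥ v - v)) + c • Pi.single i (1 : F) := by abel
    _ = v + c • Pi.single i (1 : F) := by rw [h2, add_zero]

theorem isQ_pow_four [Fintype F] [DecidableEq F] (hF : Fintype.card F = 2) {i j : Fin n}
    {A : Matrix (Fin n) (Fin n) F} (hA : IsQ i j A) : (A * A) * (A * A) = 1 := by
  have hAA : IsQ i j (A * A) := isQ_mul hA hA
  apply Matrix.mulVec_injective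
  funext v
  obtain ⟨c, hc⟩ := isQ_sq hF hA v
  rw [← mulVec_mulVec, hc, mulVec_add, mulVec_smul, hAA.1, hc, one_mulVec, add_assoc]
  have : c • Pi.single i (1 : F) + c • Pi.single i (1 : F) = (0 : Fin n → F) := by
    rw [← add_smul]
    have : c + c = 0 := by
      have : c + c = c * ((1 : F) + 1) := by ring
      rw [this, one_add_one hF, mul_zero]
    rw [this, zero_smul]
  rw [this, add_zero]

theorem isQ_of_columns {i j : Fin n} {A : Matrix (Fin n) (Fin n) F} (hA : IsC i j A)
    (hcol : ∀ a, a ≠ j → ∀ k, A k a = if k = a then 1 else 0) : IsQ i j A := by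
  refine ⟨hA.1, hA.2, ?_⟩
  intro v hv
  refine ⟨0, ?_⟩
  rw [zero_smul, add_zero]
  ext k
  have hsum : (A *ᵥ v) k = ∑ b, A k b * v b := rfl
  rw [hsum, Finset.sum_eq_single k]
  · by_cases hk : k = j
    · rw [hk, hv, mul_zero]
    · rw [hcol k hk k, if_pos rfl, one_mul]
  · intro b _ hb
    by_cases hbj : b = j
    · rw [hbj, hv, mul_zero]
    · rw [hcol b hbj k, if_neg (Ne.symm hb), zero_mul]
  · intro h; exact absurd (Finset.mem_univ k) h

end aux

section main

variable {F : Type*} [Field F] [Fintype F] [DecidableEq F] {n : ℕ}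

theorem coe_inv_mul (g : Matrix.SpecialLinearGroup (Fin n) F) :
    ((g⁻¹ : Matrix.SpecialLinearGroup (Fin n) F) : Matrix (Fin n) (Fin n) F) * (g : Matrix (Fin n) (Fin n) F)
      = 1 := by
  rw [← Matrix.SpecialLinearGroup.coe_mul, inv_mul_cancel, Matrix.SpecialLinearGroup.coe_one]

theorem coe_mul_inv (g : Matrix.SpecialLinearGroup (Fin n) F) :
    (g : Matrix (Fin n) (Fin n) F) * ((g⁻¹ : Matrix.SpecialLinearGroup (Fin n) F) : Matrix (Fin n) (Fin n) F)
      = 1 := by
  rw [← Matrix.SpecialLinearGroup.coe_mul, mul_inv_cancel, Matrix.SpecialLinearGroup.coe_one]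

/-- The subgroup `Q₀` of `SL_n(F)`. -/
def Q₀ (i j : Fin n) : Subgroup (Matrix.SpecialLinearGroup (Fin n) F) where
  carrier := {g | IsQ i j (g : Matrix (Fin n) (Fin n) F)}
  mul_mem' := by
    intro a b ha hb
    show IsQ i j ((a * b : Matrix.SpecialLinearGroup (Fin n) F) : Matrix (Fin n) (Fin n) F)
    rw [Matrix.SpecialLinearGroup.coe_mul]
    exact isQ_mul ha hb
  one_mem' := by
    show IsQ i j ((1 : Matrix.SpecialLinearGroup (Fin n) F) : Matrix (Fin n) (Fin n) F)
    rw [Matrix.SpecialLinearGroup.coe_one]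
    exact isQ_one i j
  inv_mem' := by
    intro a ha
    exact isQ_inv ha (coe_inv_mul a) (coe_mul_inv a)

theorem mem_Q₀ {i j : Fin n} {g : Matrix.SpecialLinearGroup (Fin n) F} :
    g ∈ Q₀ (F := F) i j ↔ IsQ i j (g : Matrix (Fin n) (Fin n) F) := Iff.rfl

/-- Commuting with `1 + E_{ij}` means commuting with `E_{ij}`. -/
theorem commute_single_of_commute_transvection {a j : Fin n} {A : Matrix (Fin n) (Fin n) F}
    (h : A * transvection a j (1 : F) = transvection a j (1 : F) * A) :
    Commute (Matrix.single a j (1 : F)) A := by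
  unfold transvection at h
  rw [mul_add, add_mul, mul_one, one_mul] at h
  exact (add_left_cancel h).symm

theorem isC_of_mem_centralizer (hF : Fintype.card F = 2) {i j : Fin n}
    {t g : Matrix.SpecialLinearGroup (Fin n) F}
    (ht : (t : Matrix (Fin n) (Fin n) F) = transvection i j 1)
    (hg : g ∈ Subgroup.centralizer ({t} : Set (Matrix.SpecialLinearGroup (Fin n) F))) :
    IsC i j (g : Matrix (Fin n) (Fin n) F) := by
  rw [Subgroup.mem_centralizer_singleton_iff] at hg
  have h := congrArg (fun x : Matrix.SpecialLinearGroup (Fin n) F => (x : Matrix (Fin n) (Fin n) F)) hg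
  simp only [Matrix.SpecialLinearGroup.coe_mul, ht] at h
  exact isC_of_commute hF g.2 (commute_single_of_commute_transvection h)

end main

/-- Let F be a field with 2 elements, n ≥ 3, and t ∈ SL(n, F) a transvection (t = 1 + E_{ij}, i ≠ j). Then the generalized Fitting subgroup of C(t) is O_2(C(t)). -/
theorem result {F : Type*} [Field F] [Fintype F] [DecidableEq F] (hF : Fintype.card F = 2) (n : ℕ) (hn : 3 ≤ n) (i j : Fin n) (hij : i ≠ j) (t : Matrix.SpecialLinearGroup (Fin n) F) (ht : (t : Matrix (Fin n) (Fin n) F) = Matrix.transvection i j 1) : Cfsg.generalizedFittingSubgroup ↥(Subgroup.centralizer ({t} : Set (Matrix.SpecialLinearGroup (Fin n) F))) = Cfsg.pCore 2 ↥(Subgroup.centralizer ({t} : Set (Matrix.SpecialLinearGroup (Fin n) F))) := by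
  have hp2 : Fact (Nat.Prime 2) := ⟨Nat.prime_two⟩
  set C := Subgroup.centralizer ({t} : Set (Matrix.SpecialLinearGroup (Fin n) F)) with hC
  have hfin : Finite ↥C := inferInstance
  rw [Cfsg.Agent.Lib.Helper22.generalizedFitting_eq_pCore_iff]
  -- the subgroup Q of C
  set Q : Subgroup ↥C := (Q₀ (F := F) i j).subgroupOf C with hQ
  have hQn : Q.Normal := by
    constructor
    intro q hq g
    rw [hQ, Subgroup.mem_subgroupOf] at hq ⊢
    rw [mem_Q₀] at hq ⊢
    have hg1 : IsC i j ((g : Matrix.SpecialLinearGroup (Fin n) F) : Matrix (Fin n) (Fin n) F) :=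
      isC_of_mem_centralizer hF ht g.2
    have hg2 : IsC i j (((g : Matrix.SpecialLinearGroup (Fin n) F)⁻¹ : Matrix.SpecialLinearGroup (Fin n) F) :
        Matrix (Fin n) (Fin n) F) :=
      isC_of_mem_centralizer hF ht (C.inv_mem g.2)
    have := isQ_conj hq hg1 hg2 (coe_mul_inv (g : Matrix.SpecialLinearGroup (Fin n) F))
    simpa [Matrix.SpecialLinearGroup.coe_mul] using this
  have hQp : IsPGroup 2 ↥Q := by
    intro q
    refine ⟨2, ?_⟩
    have hq : IsQ i j (((q : ↥C) : Matrix.SpecialLinearGroup (Fin n) F) : Matrix (Fin n) (Fin n) F) := by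
      have h1 : (q : ↥C) ∈ (Q₀ (F := F) i j).subgroupOf C := q.2
      rw [Subgroup.mem_subgroupOf, mem_Q₀] at h1
      exact h1
    have h4 := isQ_pow_four hF hq
    apply Subtype.ext
    apply Subtype.ext
    apply Subtype.ext
    simp only [Subgroup.coe_pow, Subgroup.coe_one, Matrix.SpecialLinearGroup.coe_pow,
      Matrix.SpecialLinearGroup.coe_one]
    rw [← h4]
    simp [pow_succ, mul_assoc]
  have hQcent : Subgroup.centralizer (Q : Set ↥C) ≤ Q := by
    intro y hy
    rw [hQ, Subgroup.mem_subgroupOf, mem_Q₀]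
    have hyC : IsC i j ((y : Matrix.SpecialLinearGroup (Fin n) F) : Matrix (Fin n) (Fin n) F) :=
      isC_of_mem_centralizer hF ht y.2
    apply isQ_of_columns hyC
    intro a haj k
    -- the transvection u_a
    let u : Matrix.SpecialLinearGroup (Fin n) F := ⟨transvection a j 1, det_transvection_of_ne a j haj 1⟩
    have huC : u ∈ C := by
      rw [hC, Subgroup.mem_centralizer_singleton_iff]
      apply Subtype.ext
      rw [Matrix.SpecialLinearGroup.coe_mul, Matrix.SpecialLinearGroup.coe_mul, ht]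
      show transvection a j (1 : F) * transvection i j 1 = transvection i j 1 * transvection a j 1
      unfold transvection
      have e1 : Matrix.single a j (1 : F) * Matrix.single i j (1 : F) = 0 :=
        single_mul_single_of_ne (1 : F) a j i (Ne.symm hij) (1 : F)
      have e2 : Matrix.single i j (1 : F) * Matrix.single a j (1 : F) = 0 :=
        single_mul_single_of_ne (1 : F) i j a (Ne.symm haj) (1 : F)
      rw [mul_add, add_mul, add_mul, mul_add, add_mul, add_mul, e1, e2]
      simp only [mul_one, one_mul]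
      abel
    have huQ : (⟨u, huC⟩ : ↥C) ∈ Q := by
      rw [hQ, Subgroup.mem_subgroupOf, mem_Q₀]
      exact isQ_transvection hij haj
    have hcomm := Subgroup.mem_centralizer_iff.mp hy ⟨u, huC⟩ huQ
    have hcomm' : u * (y : Matrix.SpecialLinearGroup (Fin n) F) = (y : Matrix.SpecialLinearGroup (Fin n) F) * u :=
      congrArg Subtype.val hcomm
    have hcomm'' := congrArg
      (fun x : Matrix.SpecialLinearGroup (Fin n) F => (x : Matrix (Fin n) (Fin n) F)) hcomm'
    simp only [Matrix.SpecialLinearGroup.coe_mul] at hcomm''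
    have hc : Commute (Matrix.single a j (1 : F))
        ((y : Matrix.SpecialLinearGroup (Fin n) F) : Matrix (Fin n) (Fin n) F) :=
      commute_single_of_commute_transvection hcomm''.symm
    have hjj : ((y : Matrix.SpecialLinearGroup (Fin n) F) : Matrix (Fin n) (Fin n) F) j j = 1 := by
      have := hyC.2 (Pi.single j 1)
      rw [mulVec_single_one] at this
      simpa using this
    by_cases hka : k = a
    · rw [if_pos hka, hka, diag_eq_of_commute_single hc, hjj]
    · rw [if_neg hka]
      exact col_eq_zero_of_commute_single hc hka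
  calc Subgroup.centralizer (Cfsg.pCore 2 ↥C : Set ↥C)
      ≤ Subgroup.centralizer (Q : Set ↥C) :=
        Subgroup.centralizer_le (Cfsg.Agent.Lib.Helper22.le_pCore' hQn hQp)
    _ ≤ Q := hQcent
    _ ≤ Cfsg.pCore 2 ↥C := Cfsg.Agent.Lib.Helper22.le_pCore' hQn hQp

end Cfsg.Agent.S1339
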