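import Cfsg.Statements.S1340
import Cfsg.Agent.S2020
import Cfsg.Agent.Lib.Helper5.PSLSimple
import Cfsg.Agent.Lib.Helper30.PPrimeCore

set_option autoImplicit false
open Cfsg

namespace Cfsg.Agent.S1340

open Matrix

section blk

variable {F : Type*} [Field F] {m : ℕ}

/-- The block-diagonal matrix `diag(a, A)` indexed by `Fin (m + 1)`. -/
def blk (a : F) (A : Matrix (Fin m) (Fin m) F) : Matrix (Fin (m + 1)) (Fin (m + 1)) F :=
  Matrix.of fun i j =>
    Fin.cases (Fin.cases a (fun _ => 0) j) (fun i' => Fin.cases 0 (fun j' => A i' j') j) i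

@[simp] lemma blk_zero_zero (a : F) (A : Matrix (Fin m) (Fin m) F) : blk a A 0 0 = a := rfl
@[simp] lemma blk_zero_succ (a : F) (A : Matrix (Fin m) (Fin m) F) (j : Fin m) :
    blk a A 0 j.succ = 0 := rfl
@[simp] lemma blk_succ_zero (a : F) (A : Matrix (Fin m) (Fin m) F) (i : Fin m) :
    blk a A i.succ 0 = 0 := rfl
@[simp] lemma blk_succ_succ (a : F) (A : Matrix (Fin m) (Fin m) F) (i j : Fin m) :
    blk a A i.succ j.succ = A i j := rfl

lemma blk_mul (a b : F) (A B : Matrix (Fin m) (Fin m) F) :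
    blk a A * blk b B = blk (a * b) (A * B) := by
  ext i j
  refine Fin.cases ?_ (fun i => ?_) i <;> refine Fin.cases ?_ (fun j => ?_) j <;>
    simp [Matrix.mul_apply, Fin.sum_univ_succ]

lemma blk_one : blk (1 : F) (1 : Matrix (Fin m) (Fin m) F) = 1 := by
  ext i j
  refine Fin.cases ?_ (fun i => ?_) i <;> refine Fin.cases ?_ (fun j => ?_) j <;>
    simp [Matrix.one_apply, Fin.succ_ne_zero, (Fin.succ_ne_zero _).symm]

lemma blk_injective {a b : F} {A B : Matrix (Fin m) (Fin m) F} (h : blk a A = blk b B) :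
    a = b ∧ A = B := by
  refine ⟨?_, ?_⟩
  · simpa using congrFun (congrFun h 0) 0
  · ext i j
    simpa using congrFun (congrFun h i.succ) j.succ

lemma eq_blk_of_comm (h2 : (2 : F) ≠ 0) (M : Matrix (Fin (m + 1)) (Fin (m + 1)) F)
    (h : M * blk (-1) 1 = blk (-1) 1 * M) :
    M = blk (M 0 0) (M.submatrix Fin.succ Fin.succ) := by
  have key : ∀ x : F, x = -x → x = 0 := by
    intro x hx
    have : 2 * x = 0 := by linear_combination hx
    rcases mul_eq_zero.1 this with h | h
    · exact absurd h h2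
    · exact h
  have h01 : ∀ j : Fin m, M 0 j.succ = 0 := by
    intro j
    have := congrFun (congrFun h 0) j.succ
    simp [Matrix.mul_apply, Fin.sum_univ_succ, Matrix.one_apply] at this
    exact key _ this
  have h10 : ∀ i : Fin m, M i.succ 0 = 0 := by
    intro i
    have := congrFun (congrFun h i.succ) 0
    simp [Matrix.mul_apply, Fin.sum_univ_succ, Matrix.one_apply] at this
    exact key _ this.symm
  ext i j
  refine Fin.cases ?_ (fun i => ?_) i <;> refine Fin.cases ?_ (fun j => ?_) j <;>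
    simp [h01, h10]

/-- `blk` as a monoid homomorphism. -/
def blkHom (F : Type*) [Field F] (m : ℕ) :
    F × Matrix (Fin m) (Fin m) F →* Matrix (Fin (m + 1)) (Fin (m + 1)) F where
  toFun x := blk x.1 x.2
  map_one' := blk_one
  map_mul' _ _ := (blk_mul _ _ _ _).symm

/-- `blk` on the level of general linear groups. -/
noncomputable def blkGL (F : Type*) [Field F] (m : ℕ) :
    Fˣ × GL (Fin m) F →* GL (Fin (m + 1)) F :=
  (Units.map (blkHom F m)).comp
    (MulEquiv.prodUnits (M := F) (N := Matrix (Fin m) (Fin m) F)).symm.toMonoidHom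

lemma blkGL_val (a : Fˣ) (A : GL (Fin m) F) :
    ((blkGL F m (a, A) : GL (Fin (m + 1)) F) : Matrix (Fin (m + 1)) (Fin (m + 1)) F) =
      blk (a : F) (A : Matrix (Fin m) (Fin m) F) := rfl

end blk


section main

variable {F : Type*} [Field F] {m : ℕ}

/-- The involution `diag(-1, 1, …, 1)`. -/
noncomputable def tEl (F : Type*) [Field F] (m : ℕ) : GL (Fin (m + 1)) F := blkGL F m (-1, 1)

lemma tEl_val : ((tEl F m : GL (Fin (m + 1)) F) : Matrix (Fin (m + 1)) (Fin (m + 1)) F) =
    blk (-1) 1 := by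
  unfold tEl
  rw [blkGL_val]
  simp

lemma tEl_mul_self : tEl F m * tEl F m = 1 := by
  apply Units.ext
  rw [Units.val_mul, tEl_val, blk_mul, Units.val_one, ← blk_one]
  simp

/-- The embedding of `SL_m` as the lower block. -/
noncomputable def emb (F : Type*) [Field F] (m : ℕ) :
    Matrix.SpecialLinearGroup (Fin m) F →* GL (Fin (m + 1)) F :=
  (blkGL F m).comp ((MonoidHom.inr Fˣ (GL (Fin m) F)).comp Matrix.SpecialLinearGroup.toGL)

lemma emb_val (A : Matrix.SpecialLinearGroup (Fin m) F) :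
    ((emb F m A : GL (Fin (m + 1)) F) : Matrix (Fin (m + 1)) (Fin (m + 1)) F) = blk 1 A.1 := by
  unfold emb
  rw [MonoidHom.comp_apply, MonoidHom.comp_apply, MonoidHom.inr_apply, blkGL_val]
  simp

lemma emb_injective : Function.Injective (emb F m) := by
  intro A B h
  have := congrArg (fun g : GL (Fin (m + 1)) F => (g : Matrix (Fin (m + 1)) (Fin (m + 1)) F)) h
  simp only [emb_val] at this
  exact Subtype.ext (blk_injective this).2

lemma emb_comm (A : Matrix.SpecialLinearGroup (Fin m) F) :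
    emb F m A * tEl F m = tEl F m * emb F m A := by
  apply Units.ext
  rw [Units.val_mul, Units.val_mul, emb_val, tEl_val, blk_mul, blk_mul]
  simp

lemma exists_blk_of_comm (h2 : (2 : F) ≠ 0) (g : GL (Fin (m + 1)) F)
    (hg : g * tEl F m = tEl F m * g) :
    ∃ (a : F) (B : Matrix (Fin m) (Fin m) F),
      (g : Matrix (Fin (m + 1)) (Fin (m + 1)) F) = blk a B := by
  refine ⟨_, _, eq_blk_of_comm h2 _ ?_⟩
  have := congrArg Units.val hg
  rwa [Units.val_mul, Units.val_mul, tEl_val] at this

lemma conj_emb_mem (h2 : (2 : F) ≠ 0) (g : GL (Fin (m + 1)) F)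
    (hg : g * tEl F m = tEl F m * g) (A : Matrix.SpecialLinearGroup (Fin m) F) :
    ∃ B : Matrix.SpecialLinearGroup (Fin m) F, emb F m B = g * emb F m A * g⁻¹ := by
  have hg' : g⁻¹ * tEl F m = tEl F m * g⁻¹ := by
    calc g⁻¹ * tEl F m = g⁻¹ * (tEl F m * g) * g⁻¹ := by group
      _ = g⁻¹ * (g * tEl F m) * g⁻¹ := by rw [hg]
      _ = tEl F m * g⁻¹ := by group
  obtain ⟨a, B, e1⟩ := exists_blk_of_comm h2 g hg
  obtain ⟨a', B', e2⟩ := exists_blk_of_comm h2 g⁻¹ hg'
  have hmul : blk a B * blk a' B' = 1 := by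
    rw [← e1, ← e2, ← Units.val_mul, mul_inv_cancel, Units.val_one]
  rw [blk_mul, ← blk_one] at hmul
  obtain ⟨haa, hBB⟩ := blk_injective hmul
  have hdet : (B * A.1 * B').det = 1 := by
    rw [Matrix.det_mul, Matrix.det_mul, A.2, mul_one, ← Matrix.det_mul, hBB, Matrix.det_one]
  let Bs : Matrix.SpecialLinearGroup (Fin m) F := ⟨B * A.1 * B', hdet⟩
  refine ⟨Bs, ?_⟩
  apply Units.ext
  rw [emb_val, Units.val_mul, Units.val_mul, emb_val, e1, e2, blk_mul, blk_mul, mul_one, haa]

theorem main [Fintype F] [DecidableEq F] (hF : Odd (Fintype.card F)) (hm : 1 ≤ m)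
    (hQS : Cfsg.IsQuasisimple (Matrix.SpecialLinearGroup (Fin m) F))
    (s : Matrix.SpecialLinearGroup (Fin m) F) (hs : orderOf s = 2) :
    ∃ t : GL (Fin (m + 1)) F, orderOf t = 2 ∧ t ∉ Subgroup.center (GL (Fin (m + 1)) F) ∧
      Cfsg.HasComponent (↥(Subgroup.centralizer ({t} : Set (GL (Fin (m + 1)) F))) ⧸
        Cfsg.oddCore ↥(Subgroup.centralizer ({t} : Set (GL (Fin (m + 1)) F)))) := by
  have h2 : (2 : F) ≠ 0 := by
    intro h
    have hch : ringChar F = 2 := CharP.ringChar_of_prime_eq_zero Nat.prime_two (by exact_mod_cast h)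
    have := FiniteField.even_card_of_char_two hch
    rcases hF with ⟨r, hr⟩
    omega
  have hneg : (-1 : F) ≠ 1 := by
    intro h
    apply h2
    linear_combination -h
  refine ⟨tEl F m, ?_, ?_, ?_⟩
  · have : Fact (Nat.Prime 2) := ⟨Nat.prime_two⟩
    apply orderOf_eq_prime
    · rw [pow_two]; exact tEl_mul_self
    · intro h
      have := congrArg Units.val h
      rw [tEl_val, Units.val_one, ← blk_one] at this
      exact hneg (blk_injective this).1
  · intro hc
    rw [Subgroup.mem_center_iff] at hc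
    have hne : (0 : Fin (m + 1)) ≠ (⟨0, hm⟩ : Fin m).succ := (Fin.succ_ne_zero _).symm
    let u : Matrix.SpecialLinearGroup (Fin (m + 1)) F :=
      ⟨Matrix.transvection 0 (⟨0, hm⟩ : Fin m).succ 1, Matrix.det_transvection_of_ne _ _ hne 1⟩
    obtain ⟨a, B, e⟩ := exists_blk_of_comm h2 (Matrix.SpecialLinearGroup.toGL u) (hc _)
    have h01 := congrFun (congrFun e 0) (⟨0, hm⟩ : Fin m).succ
    rw [blk_zero_succ] at h01
    have hu : ((Matrix.SpecialLinearGroup.toGL u : GL (Fin (m + 1)) F) :
        Matrix (Fin (m + 1)) (Fin (m + 1)) F) =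
        Matrix.transvection 0 (⟨0, hm⟩ : Fin m).succ 1 := rfl
    rw [hu, Matrix.transvection, Matrix.add_apply, Matrix.one_apply_ne hne,
      Matrix.single_apply_same, zero_add] at h01
    exact one_ne_zero h01
  · set t := tEl F m with ht
    set C := Subgroup.centralizer ({t} : Set (GL (Fin (m + 1)) F)) with hC
    have hmemC : ∀ g : GL (Fin (m + 1)) F, g ∈ C ↔ g * t = t * g := by
      intro g
      rw [hC, Subgroup.mem_centralizer_singleton_iff]
    let φC : Matrix.SpecialLinearGroup (Fin m) F →* C :=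
      (emb F m).codRestrict C (fun A => (hmemC _).2 (emb_comm A))
    have hφC_inj : Function.Injective φC := by
      intro A B h
      apply emb_injective
      exact congrArg Subtype.val h
    have hKn : φC.range.Normal := by
      constructor
      intro x hx g
      obtain ⟨A, rfl⟩ := hx
      obtain ⟨B, hB⟩ := conj_emb_mem h2 g.1 ((hmemC _).1 g.2) A
      exact ⟨B, Subtype.ext hB⟩
    let ψ : Matrix.SpecialLinearGroup (Fin m) F →* C ⧸ Cfsg.oddCore C :=
      (QuotientGroup.mk' (Cfsg.oddCore C)).comp φC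
    refine ⟨ψ.range, ?_, ?_⟩
    · have : ψ.range = φC.range.map (QuotientGroup.mk' (Cfsg.oddCore C)) :=
        MonoidHom.range_comp _ _
      rw [this]
      exact (hKn.map _ (QuotientGroup.mk'_surjective _)).isSubnormal
    · have hnt : Nontrivial ψ.range := by
        refine ⟨⟨ψ.rangeRestrict s, 1, fun h => ?_⟩⟩
        have h1 : ψ s = 1 := congrArg Subtype.val h
        have hmem : φC s ∈ Cfsg.oddCore C := (QuotientGroup.eq_one_iff _).1 h1
        have hord : orderOf (φC s) = 2 := by rw [orderOf_injective φC hφC_inj, hs]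
        have hcop : (Nat.card (Cfsg.oddCore C)).Coprime 2 :=
          Cfsg.Agent.Lib.Helper30.pPrimeCore_card_coprime 2
        have hdvd : 2 ∣ Nat.card (Cfsg.oddCore C) := by
          rw [← hord, ← Subgroup.orderOf_mk (φC s) hmem]
          exact orderOf_dvd_natCard _
        have := hcop.symm.eq_one_of_dvd hdvd
        omega
      exact Cfsg.Agent.S2020.isQuasisimple_of_surjective hQS ψ.rangeRestrict
        ψ.rangeRestrict_surjective

end main

section final

variable {F : Type*} [Field F]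

lemma exists_sq_ne_one (hF : 4 ≤ Nat.card F) : ∃ a : F, a ≠ 0 ∧ a ^ 2 ≠ 1 := by
  have : Finite F := (Nat.card_pos_iff.1 (by omega)).2
  obtain ⟨x, hx⟩ : IsCyclic Fˣ := by infer_instance
  refine ⟨x, Units.ne_zero x, fun h ↦ ?_⟩
  grw [Nat.card_eq_card_units_add_one F, ← orderOf_eq_card_of_forall_mem_zpowers hx,
    orderOf_le_of_pow_eq_one zero_lt_two (Units.ext <| by simpa using h)] at hF
  omega

/-- The diagonal `(-1, -1, 1, …, 1)`. -/
def dvec (F : Type*) [Field F] (k : ℕ) : Fin (k + 2) → F :=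
  Fin.cons (-1) (Fin.cons (-1) (fun _ => 1))

lemma dvec_mul_self (k : ℕ) (i : Fin (k + 2)) : dvec F k i * dvec F k i = 1 := by
  refine Fin.cases ?_ (fun i => ?_) i
  · simp [dvec]
  · refine Fin.cases ?_ (fun i => ?_) i <;> simp [dvec]

lemma exists_involution_SL (hneg : (-1 : F) ≠ 1) (k : ℕ) :
    ∃ s : Matrix.SpecialLinearGroup (Fin (k + 2)) F, orderOf s = 2 := by
  have hdet : (Matrix.diagonal (dvec F k)).det = 1 := by
    rw [Matrix.det_diagonal, Fin.prod_univ_succ, Fin.prod_univ_succ]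
    simp [dvec]
  let s : Matrix.SpecialLinearGroup (Fin (k + 2)) F := ⟨Matrix.diagonal (dvec F k), hdet⟩
  refine ⟨s, ?_⟩
  have : Fact (Nat.Prime 2) := ⟨Nat.prime_two⟩
  apply orderOf_eq_prime
  · rw [pow_two]
    apply Subtype.ext
    rw [Matrix.SpecialLinearGroup.coe_mul, Matrix.SpecialLinearGroup.coe_one]
    show Matrix.diagonal (dvec F k) * Matrix.diagonal (dvec F k) = 1
    rw [Matrix.diagonal_mul_diagonal]
    simp only [dvec_mul_self]
    exact Matrix.diagonal_one
  · intro h
    have h00 := congrFun (congrFun (congrArg Subtype.val h) 0) 0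
    apply hneg
    simpa [s, dvec] using h00

end final

/-- Let F be a finite field of odd order and n ≥ 3 with (n, |F|) ≠ (3, 3). Then GL(n, F) has a non-central involution t such that C(t) / O(C(t)) has a component. -/
theorem result {F : Type*} [Field F] [Fintype F] [DecidableEq F] (hF : Odd (Fintype.card F)) (n : ℕ) (hn : 3 ≤ n) (h33 : ¬ (n = 3 ∧ Fintype.card F = 3)) : ∃ t : Matrix.GeneralLinearGroup (Fin n) F, orderOf t = 2 ∧ t ∉ Subgroup.center (Matrix.GeneralLinearGroup (Fin n) F) ∧ Cfsg.HasComponent (↥(Subgroup.centralizer ({t} : Set (Matrix.GeneralLinearGroup (Fin n) F))) ⧸ Cfsg.oddCore ↥(Subgroup.centralizer ({t} : Set (Matrix.GeneralLinearGroup (Fin n) F)))) := by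
  obtain ⟨k, rfl⟩ : ∃ k, n = (k + 2) + 1 := ⟨n - 3, by omega⟩
  have h2 : (2 : F) ≠ 0 := by
    intro h
    have hch : ringChar F = 2 :=
      CharP.ringChar_of_prime_eq_zero Nat.prime_two (by exact_mod_cast h)
    have := FiniteField.even_card_of_char_two hch
    rcases hF with ⟨r, hr⟩
    omega
  have hneg : (-1 : F) ≠ 1 := by
    intro h
    apply h2
    linear_combination -h
  have hQS : Cfsg.IsQuasisimple (Matrix.SpecialLinearGroup (Fin (k + 2)) F) := by
    rcases Nat.eq_zero_or_pos k with rfl | hk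
    · have h4 : 4 ≤ Nat.card F := by
        rw [Nat.card_eq_fintype_card]
        have h1 : 1 < Fintype.card F := Fintype.one_lt_card
        have h3 : Fintype.card F ≠ 3 := fun h => h33 ⟨rfl, h⟩
        rcases hF with ⟨r, hr⟩
        omega
      obtain ⟨a, ha, hasq⟩ := exists_sq_ne_one h4
      refine ⟨⟨Matrix.SL2.commutator_eq_top ha hasq⟩, ?_⟩
      exact Matrix.ProjectiveSpecialLinearGroup.rank_two_simple h4
    · have h3 : 3 ≤ Fintype.card (Fin (k + 2)) := by
        rw [Fintype.card_fin]; omega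
      refine ⟨⟨Cfsg.Agent.Lib.Helper5.commutator_SL_eq_top h3⟩, ?_⟩
      exact Cfsg.Agent.Lib.Helper5.PSL_isSimpleGroup_of_three_le h3
  obtain ⟨s, hs⟩ := exists_involution_SL hneg k
  exact main hF (by omega) hQS s hs

end Cfsg.Agent.S1340
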