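import Cfsg.Statements.S1343
import Cfsg.Agent.Lib.Helper23.TwoLayer

set_option autoImplicit false
open Cfsg

namespace Cfsg.Agent.S1343

open Cfsg.Agent.Lib.Helper23
open Cfsg.Agent.Lib.Helper33 (cj)

variable {X : Type*} [Group X]

theorem sylow_smul_map_subtype (N : Subgroup X) (n : ↥N) (T : Sylow 2 ↥N) :
    ((n • T : Sylow 2 ↥N) : Subgroup ↥N).map N.subtype =
      cj (n : X) ((T : Subgroup ↥N).map N.subtype) := by
  ext x
  rw [Cfsg.Agent.Lib.Helper33.mem_cj', Subgroup.mem_map]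
  constructor
  · rintro ⟨y, hy, rfl⟩
    rw [Sylow.coe_subgroup_smul, Subgroup.mem_pointwise_smul_iff_inv_smul_mem] at hy
    refine ⟨((MulAut.conj n)⁻¹ • y : ↥N), Subgroup.mem_map.mpr ⟨_, hy, rfl⟩, ?_⟩
    simp [MulAut.smul_def, mul_assoc]
  · rintro ⟨h, hh, rfl⟩
    obtain ⟨y, hy, rfl⟩ := Subgroup.mem_map.mp hh
    refine ⟨n * y * n⁻¹, ?_, by simp⟩
    rw [Sylow.coe_subgroup_smul, Subgroup.mem_pointwise_smul_iff_inv_smul_mem]
    simpa [MulAut.smul_def, mul_assoc] using hy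

theorem conj_sup_le (A D : Subgroup X) (a : X) (ha : a ∈ A) : cj a D ≤ A ⊔ D := by
  intro x hx
  obtain ⟨d, hd, rfl⟩ := Cfsg.Agent.Lib.Helper33.mem_cj'.mp hx
  have h1 : a ∈ A ⊔ D := (le_sup_left : A ≤ A ⊔ D) ha
  have h2 : d ∈ A ⊔ D := (le_sup_right : D ≤ A ⊔ D) hd
  exact (A ⊔ D).mul_mem ((A ⊔ D).mul_mem h1 h2) ((A ⊔ D).inv_mem h1)

/-- `O(C_X(Q))` as a subgroup of `X`. -/
def D (Q : Subgroup X) : Subgroup X := coreIn 2 (Subgroup.centralizer (Q : Set X))

theorem D_cj (g : X) (Q : Subgroup X) : D (cj g Q) = cj g (D Q) := by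
  unfold D
  rw [Cfsg.Agent.Lib.Helper33.centralizer_cj, coreIn_cj]

theorem D_le_centralizer (Q : Subgroup X) : D Q ≤ Subgroup.centralizer (Q : Set X) :=
  coreIn_le 2 _

theorem cj_D_of_mem (Q : Subgroup X) (t : X) (ht : t ∈ Q) : cj t (D Q) = D Q := by
  rw [← D_cj, Cfsg.Agent.Lib.Helper33.cj_eq_self_of_mem ht]

theorem extendedTwoLayer_eq :
    extendedTwoLayer X = pLayer 2 X ⊔ oddCore X ⊔
      ⨆ T : Sylow 2 ↥(pLayer 2 X ⊔ pPrimePCore 2 X),
        D ((T : Subgroup ↥(pLayer 2 X ⊔ pPrimePCore 2 X)).map (pLayer 2 X ⊔ pPrimePCore 2 X).subtype) :=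
  rfl

open scoped Pointwise in
theorem result {X : Type*} [Group X] [Finite X] : ∃ F : Subgroup X, Odd (Nat.card ↥F) ∧ (∃ S : Sylow 2 X, (S : Subgroup X) ≤ Subgroup.normalizer (F : Set X)) ∧ Cfsg.extendedTwoLayer X = Cfsg.pLayer 2 X ⊔ F := by
  classical
  rw [extendedTwoLayer_eq]
  set L : Subgroup X := pLayer 2 X with hL
  set O : Subgroup X := oddCore X with hO
  set O22 : Subgroup X := pPrimePCore 2 X with hO22
  set N : Subgroup X := L ⊔ O22 with hN
  set A : Subgroup X := L ⊔ O with hA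
  have hLn : L.Normal := pLayer_normal 2
  have hOn : O.Normal := (inferInstance : (pPrimeCore 2 X).Normal)
  have hO22n : O22.Normal := by
    rw [hO22]; unfold pPrimePCore; infer_instance
  have hNn : N.Normal := inferInstance
  have hAn : A.Normal := inferInstance
  have hOle : O ≤ O22 := Cfsg.Agent.Lib.Helper55.le_comap_mk' _ _
  have hAN : A ≤ N := sup_le_sup_left hOle L
  have hNeq : N = A ⊔ O22 := by
    rw [hN, hA, sup_assoc, sup_eq_right.mpr hOle]
  -- index of A in N is a power of 2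
  obtain ⟨k, hk⟩ : ∃ k, A.relIndex N = 2 ^ k := by
    obtain ⟨n, hn⟩ := IsPGroup.iff_card.mp (Cfsg.Agent.Lib.Helper55.pCore_isPGroup (G := X ⧸ O) 2)
    have h2 : O.relIndex O22 = Nat.card (pCore 2 (X ⧸ O)) := by
      have := Subgroup.relIndex_ker (K := O22) (QuotientGroup.mk' O)
      rw [QuotientGroup.ker_mk'] at this
      rw [this]
      rw [show O22 = (pCore 2 (X ⧸ O)).comap (QuotientGroup.mk' O) from rfl,
        Subgroup.map_comap_eq_self_of_surjective (QuotientGroup.mk'_surjective O)]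
    have h3 : A.relIndex O22 ∣ O.relIndex O22 :=
      Subgroup.relIndex_dvd_of_le_left O22 le_sup_right
    have h4 : A.relIndex N = A.relIndex O22 := by rw [hNeq, Subgroup.relIndex_sup_left]
    rw [h4]
    rw [h2, hn] at h3
    obtain ⟨k, -, hk⟩ := (Nat.dvd_prime_pow Nat.prime_two).mp h3
    exact ⟨k, hk⟩
  -- a Sylow 2-subgroup of N
  obtain ⟨T⟩ : Nonempty (Sylow 2 ↥N) := inferInstance
  set T' : Subgroup X := (T : Subgroup ↥N).map N.subtype with hT'
  have hT'N : T' ≤ N := by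
    intro x hx
    obtain ⟨y, _, rfl⟩ := Subgroup.mem_map.mp hx
    exact y.2
  have hT'2 : IsPGroup 2 T' := T.isPGroup'.map _
  have hT'idx : ¬ 2 ∣ T'.relIndex N := by
    have : T'.subgroupOf N = T := Subgroup.comap_map_eq_self_of_injective N.subtype_injective _
    rw [Subgroup.relIndex, this]
    exact T.not_dvd_index
  have hATN : N ≤ A ⊔ T' := by
    rw [← Subgroup.relIndex_eq_one]
    have d1 : (A ⊔ T').relIndex N ∣ A.relIndex N := Subgroup.relIndex_dvd_of_le_left N le_sup_left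
    have d2 : (A ⊔ T').relIndex N ∣ T'.relIndex N := Subgroup.relIndex_dvd_of_le_left N le_sup_right
    rw [hk] at d1
    obtain ⟨j, -, hj⟩ := (Nat.dvd_prime_pow Nat.prime_two).mp d1
    rcases Nat.eq_zero_or_pos j with h0 | h0
    · rw [hj, h0, pow_zero]
    · exfalso
      apply hT'idx
      refine dvd_trans ?_ d2
      rw [hj]
      exact dvd_pow_self 2 h0.ne'
  -- a Sylow 2-subgroup of X containing T'
  obtain ⟨S, hS⟩ := hT'2.exists_le_sylow
  have hSN : (S : Subgroup X) ⊓ N = T' := by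
    have h1 : T' ≤ (S : Subgroup X) ⊓ N := le_inf hS hT'N
    have h2 : IsPGroup 2 (((S : Subgroup X) ⊓ N).subgroupOf N) :=
      (S.isPGroup'.to_le inf_le_left).comap_subtype
    have h3 : (T : Subgroup ↥N) ≤ ((S : Subgroup X) ⊓ N).subgroupOf N := by
      intro y hy
      rw [Subgroup.mem_subgroupOf]
      exact h1 (Subgroup.mem_map_of_mem _ hy)
    have h4 := T.is_maximal' h2 h3
    have h5 := congrArg (Subgroup.map N.subtype) h4
    rw [Subgroup.subgroupOf_map_subtype, inf_assoc, inf_idem] at h5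
    exact h5
  have hSnorm : ∀ s ∈ S, cj s T' = T' := by
    intro s hs
    have hsN : s ∈ Subgroup.normalizer (N : Set X) := by
      rw [Subgroup.normalizer_eq_top]; trivial
    rw [← hSN, Cfsg.Agent.Lib.Helper33.cj_inf, Cfsg.Agent.Lib.Helper33.cj_eq_self_of_mem hs,
      Cfsg.Agent.Lib.Helper33.cj_eq_self_iff.mpr hsN]
  -- the odd subgroup
  have hcardD : (Nat.card (D T')).Coprime 2 := by
    unfold D
    rw [card_coreIn]
    exact Cfsg.Agent.Lib.Helper55.pPrimeCore_card_coprime 2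
  have hcardO : (Nat.card O).Coprime 2 := Cfsg.Agent.Lib.Helper55.pPrimeCore_card_coprime 2
  refine ⟨O ⊔ D T', ?_, ⟨S, ?_⟩, ?_⟩
  · have h := Cfsg.Agent.Lib.Helper55.card_sup_dvd_mul (D T') O
    rw [sup_comm]
    exact (Nat.Coprime.coprime_dvd_left h (Nat.Coprime.mul_left hcardD hcardO)).odd_of_right
  · intro s hs
    rw [← Cfsg.Agent.Lib.Helper33.cj_eq_self_iff, Cfsg.Agent.Lib.Helper33.cj_sup, ← D_cj,
      hSnorm s hs]
    have hsO : s ∈ Subgroup.normalizer (O : Set X) := by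
      rw [Subgroup.normalizer_eq_top]; trivial
    rw [Cfsg.Agent.Lib.Helper33.cj_eq_self_iff.mpr hsO]
  · rw [← sup_assoc]
    apply le_antisymm
    · apply sup_le le_sup_left
      apply iSup_le
      intro T₂
      obtain ⟨n, hn⟩ := MulAction.exists_smul_eq ↥N T T₂
      rw [← hn, sylow_smul_map_subtype, D_cj]
      have hnmem : (n : X) ∈ ((A ⊔ T' : Subgroup X) : Set X) := hATN n.2
      rw [Subgroup.normal_mul] at hnmem
      obtain ⟨a, ha, t, ht, hat⟩ := Set.mem_mul.mp hnmem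
      rw [← hat, Cfsg.Agent.Lib.Helper33.cj_mul, cj_D_of_mem T' t ht]
      exact conj_sup_le A (D T') a ha
    · apply sup_le le_sup_left
      exact le_trans (le_iSup (fun T₂ : Sylow 2 ↥N => D ((T₂ : Subgroup ↥N).map N.subtype)) T)
        le_sup_right

end Cfsg.Agent.S1343
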