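import Cfsg.Statements.S1341
import Cfsg.Agent.S1343

set_option autoImplicit false
open Cfsg

namespace Cfsg.Agent.S1341

open Cfsg.Agent.Lib.Helper23
open Cfsg.Agent.Lib.Helper33 (cj)
open Cfsg.Agent.S1343 (D D_cj cj_D_of_mem sylow_smul_map_subtype conj_sup_le extendedTwoLayer_eq)

open scoped Pointwise in
theorem general {X : Type*} [Group X] [Finite X] (L O O22 : Subgroup X) [hLn : L.Normal]
    [hOn : O.Normal] [hO22n : O22.Normal] (hOle : O ≤ O22) (hidx : ∃ n, O.relIndex O22 = 2 ^ n)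
    (T : Sylow 2 ↥(L ⊔ O22)) :
    L ⊔ O ⊔ ⨆ T₂ : Sylow 2 ↥(L ⊔ O22), D ((T₂ : Subgroup ↥(L ⊔ O22)).map (L ⊔ O22).subtype) =
      L ⊔ O ⊔ D ((T : Subgroup ↥(L ⊔ O22)).map (L ⊔ O22).subtype) := by
  classical
  have hNn : (L ⊔ O22).Normal := inferInstance
  have hAn : (L ⊔ O).Normal := inferInstance
  have hAN : L ⊔ O ≤ L ⊔ O22 := sup_le_sup_left hOle L
  have hNeq : L ⊔ O22 = (L ⊔ O) ⊔ O22 := by
    rw [sup_assoc, sup_eq_right.mpr hOle]
  obtain ⟨k, hk⟩ : ∃ k, (L ⊔ O).relIndex (L ⊔ O22) = 2 ^ k := by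
    obtain ⟨n, hn⟩ := hidx
    have h3 : (L ⊔ O).relIndex O22 ∣ O.relIndex O22 :=
      Subgroup.relIndex_dvd_of_le_left O22 le_sup_right
    have h4 : (L ⊔ O).relIndex (L ⊔ O22) = (L ⊔ O).relIndex O22 := by
      conv_lhs => rw [hNeq]
      rw [Subgroup.relIndex_sup_left]
    rw [h4]
    rw [hn] at h3
    obtain ⟨k, -, hk⟩ := (Nat.dvd_prime_pow Nat.prime_two).mp h3
    exact ⟨k, hk⟩
  have hT'N : (T : Subgroup ↥(L ⊔ O22)).map (L ⊔ O22).subtype ≤ L ⊔ O22 := by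
    intro x hx
    obtain ⟨y, _, rfl⟩ := Subgroup.mem_map.mp hx
    exact y.2
  have hT'idx : ¬ 2 ∣ ((T : Subgroup ↥(L ⊔ O22)).map (L ⊔ O22).subtype).relIndex (L ⊔ O22) := by
    have : ((T : Subgroup ↥(L ⊔ O22)).map (L ⊔ O22).subtype).subgroupOf (L ⊔ O22) = T :=
      Subgroup.comap_map_eq_self_of_injective (L ⊔ O22).subtype_injective _
    rw [Subgroup.relIndex, this]
    exact T.not_dvd_index
  have hATN : L ⊔ O22 ≤ (L ⊔ O) ⊔ (T : Subgroup ↥(L ⊔ O22)).map (L ⊔ O22).subtype := by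
    rw [← Subgroup.relIndex_eq_one]
    have d1 := Subgroup.relIndex_dvd_of_le_left (L ⊔ O22)
      (le_sup_left : L ⊔ O ≤ (L ⊔ O) ⊔ (T : Subgroup ↥(L ⊔ O22)).map (L ⊔ O22).subtype)
    have d2 := Subgroup.relIndex_dvd_of_le_left (L ⊔ O22)
      (le_sup_right : (T : Subgroup ↥(L ⊔ O22)).map (L ⊔ O22).subtype ≤
        (L ⊔ O) ⊔ (T : Subgroup ↥(L ⊔ O22)).map (L ⊔ O22).subtype)
    rw [hk] at d1
    obtain ⟨j, -, hj⟩ := (Nat.dvd_prime_pow Nat.prime_two).mp d1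
    rcases Nat.eq_zero_or_pos j with h0 | h0
    · rw [hj, h0, pow_zero]
    · exfalso
      apply hT'idx
      refine dvd_trans ?_ d2
      rw [hj]
      exact dvd_pow_self 2 h0.ne'
  apply le_antisymm
  · apply sup_le le_sup_left
    apply iSup_le
    intro T₂
    obtain ⟨n, hn⟩ := MulAction.exists_smul_eq ↥(L ⊔ O22) T T₂
    rw [← hn, sylow_smul_map_subtype, D_cj]
    have hnmem : (n : X) ∈ (((L ⊔ O) ⊔ (T : Subgroup ↥(L ⊔ O22)).map (L ⊔ O22).subtype : Subgroup X) : Set X) :=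
      hATN n.2
    rw [Subgroup.normal_mul] at hnmem
    obtain ⟨a, ha, t, ht, hat⟩ := Set.mem_mul.mp hnmem
    rw [← hat, Cfsg.Agent.Lib.Helper33.cj_mul, cj_D_of_mem _ t ht]
    exact conj_sup_le (L ⊔ O) _ a ha
  · apply sup_le le_sup_left
    exact le_trans (le_iSup (fun T₂ : Sylow 2 ↥(L ⊔ O22) =>
      D ((T₂ : Subgroup ↥(L ⊔ O22)).map (L ⊔ O22).subtype)) T) le_sup_right

theorem relIndex_oddCore_pPrimePCore {X : Type*} [Group X] [Finite X] :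
    ∃ n, (oddCore X).relIndex (pPrimePCore 2 X) = 2 ^ n := by
  obtain ⟨n, hn⟩ := IsPGroup.iff_card.mp
    (Cfsg.Agent.Lib.Helper55.pCore_isPGroup (G := X ⧸ oddCore X) 2)
  refine ⟨n, ?_⟩
  have := Subgroup.relIndex_ker (K := pPrimePCore 2 X) (QuotientGroup.mk' (oddCore X))
  rw [QuotientGroup.ker_mk'] at this
  rw [this]
  rw [show pPrimePCore 2 X = (pCore 2 (X ⧸ oddCore X)).comap (QuotientGroup.mk' (oddCore X)) from rfl,
    Subgroup.map_comap_eq_self_of_surjective (QuotientGroup.mk'_surjective (oddCore X))]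
  exact hn

theorem pPrimePCore_normal {X : Type*} [Group X] (p : ℕ) : (pPrimePCore p X).Normal := by
  unfold pPrimePCore; infer_instance

theorem key {X : Type*} [Group X] [Finite X] (T : Sylow 2 ↥(Cfsg.pLayer 2 X ⊔ Cfsg.pPrimePCore 2 X)) :
    Cfsg.extendedTwoLayer X = Cfsg.pLayer 2 X ⊔ Cfsg.oddCore X ⊔
      D ((T : Subgroup ↥(Cfsg.pLayer 2 X ⊔ Cfsg.pPrimePCore 2 X)).map
        (Cfsg.pLayer 2 X ⊔ Cfsg.pPrimePCore 2 X).subtype) := by
  rw [extendedTwoLayer_eq]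
  have h1 : (pLayer 2 X).Normal := pLayer_normal 2
  have h2 : (oddCore X).Normal := (inferInstance : (pPrimeCore 2 X).Normal)
  have h3 : (pPrimePCore 2 X).Normal := pPrimePCore_normal 2
  exact general (pLayer 2 X) (oddCore X) (pPrimePCore 2 X)
    (Cfsg.Agent.Lib.Helper55.le_comap_mk' _ _) relIndex_oddCore_pPrimePCore T

/-- Let X be finite and T a Sylow 2-subgroup of L_{2'}(X) O_{2',2}(X). Then L*_{2'}(X) = L_{2'}(X) ⊔ O(X) ⊔ O(C_X(T)). -/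
theorem result {X : Type*} [Group X] [Finite X] (T : Sylow 2 ↥(Cfsg.pLayer 2 X ⊔ Cfsg.pPrimePCore 2 X)) : Cfsg.extendedTwoLayer X = Cfsg.pLayer 2 X ⊔ Cfsg.oddCore X ⊔ ((Cfsg.oddCore ↥(Subgroup.centralizer (((T : Subgroup ↥(Cfsg.pLayer 2 X ⊔ Cfsg.pPrimePCore 2 X)).map (Cfsg.pLayer 2 X ⊔ Cfsg.pPrimePCore 2 X).subtype : Subgroup X) : Set X))).map (Subgroup.centralizer (((T : Subgroup ↥(Cfsg.pLayer 2 X ⊔ Cfsg.pPrimePCore 2 X)).map (Cfsg.pLayer 2 X ⊔ Cfsg.pPrimePCore 2 X).subtype : Subgroup X) : Set X)).subtype) :=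
  key T

end Cfsg.Agent.S1341
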