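import Cfsg.Statements.S1342
import Cfsg.Agent.S1341

set_option autoImplicit false
open Cfsg

namespace Cfsg.Agent.S1342

open Cfsg.Agent.Lib.Helper23
open Cfsg.Agent.Lib.Helper33 (cj)
open Cfsg.Agent.S1343 (D D_cj extendedTwoLayer_eq)

open scoped Pointwise in
theorem conjNormal_smul_map_subtype {X : Type*} [Group X] (N : Subgroup X) [N.Normal] (g : X)
    (T : Sylow 2 ↥N) :
    (((MulAut.conjNormal (H := N) g : MulAut ↥N) • T : Sylow 2 ↥N) : Subgroup ↥N).map N.subtype =
      cj g ((T : Subgroup ↥N).map N.subtype) := by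
  ext x
  rw [Cfsg.Agent.Lib.Helper33.mem_cj', Subgroup.mem_map]
  constructor
  · rintro ⟨y, hy, rfl⟩
    rw [Sylow.pointwise_smul_def, Subgroup.mem_pointwise_smul_iff_inv_smul_mem] at hy
    refine ⟨(((MulAut.conjNormal g : MulAut ↥N)⁻¹ • y : ↥N) : X), Subgroup.mem_map.mpr ⟨_, hy, rfl⟩, ?_⟩
    rw [← map_inv, MulAut.smul_def, MulAut.conjNormal_apply]
    simp [mul_assoc]
  · rintro ⟨h, hh, rfl⟩
    obtain ⟨y, hy, rfl⟩ := Subgroup.mem_map.mp hh
    refine ⟨MulAut.conjNormal g y, ?_, by simp [MulAut.conjNormal_apply]⟩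
    rw [Sylow.pointwise_smul_def, Subgroup.mem_pointwise_smul_iff_inv_smul_mem]
    simpa [MulAut.smul_def] using hy

/-- For a finite group X, L*_{2'}(X) is normal in X. -/
theorem result {X : Type*} [Group X] [Finite X] : (Cfsg.extendedTwoLayer X).Normal := by
  classical
  have h1 : (pLayer 2 X).Normal := pLayer_normal 2
  have h2 : (oddCore X).Normal := (inferInstance : (pPrimeCore 2 X).Normal)
  have h3 : (pPrimePCore 2 X).Normal := Cfsg.Agent.S1341.pPrimePCore_normal 2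
  have hN : (pLayer 2 X ⊔ pPrimePCore 2 X).Normal := inferInstance
  have hA : (pLayer 2 X ⊔ oddCore X).Normal := inferInstance
  obtain ⟨T⟩ : Nonempty (Sylow 2 ↥(pLayer 2 X ⊔ pPrimePCore 2 X)) := inferInstance
  have key : ∀ g : X, cj g (extendedTwoLayer X) ≤ extendedTwoLayer X := by
    intro g
    rw [Cfsg.Agent.S1341.key T, Cfsg.Agent.Lib.Helper33.cj_sup, ← D_cj,
      ← conjNormal_smul_map_subtype, ← Cfsg.Agent.S1341.key T, extendedTwoLayer_eq]
    apply sup_le
    · have hgA : g ∈ Subgroup.normalizer ((pLayer 2 X ⊔ oddCore X : Subgroup X) : Set X) := by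
        rw [Subgroup.normalizer_eq_top]; trivial
      rw [Cfsg.Agent.Lib.Helper33.cj_eq_self_iff.mpr hgA]
      exact le_sup_left
    · exact le_trans (le_iSup (fun T₂ : Sylow 2 ↥(pLayer 2 X ⊔ pPrimePCore 2 X) =>
        D ((T₂ : Subgroup ↥(pLayer 2 X ⊔ pPrimePCore 2 X)).map (pLayer 2 X ⊔ pPrimePCore 2 X).subtype))
          (MulAut.conjNormal g • T)) le_sup_right
  constructor
  intro n hn g
  exact key g (Cfsg.Agent.Lib.Helper33.conj_mem_cj hn)

end Cfsg.Agent.S1342
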