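import Cfsg.Statements.S1344
import Cfsg.Agent.S1343
import Cfsg.Agent.Lib.Helper23.PComponentQuot

set_option autoImplicit false
open Cfsg

namespace Cfsg.Agent.S1344

open Cfsg.Agent.Lib.Helper23
open Cfsg.Agent.Lib.Helper33 (cj)
open Cfsg.Agent.S1343 (D D_le_centralizer extendedTwoLayer_eq)

/-- `[K : H ∩ K] = [HK : H]` for `K` normal -/
theorem relIndex_eq_relIndex_sup {G : Type*} [Group G] [Finite G] (H K : Subgroup G) [K.Normal] :
    H.relIndex K = H.relIndex (H ⊔ K) := by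
  have e1 : Nat.card ↥(H ⊓ K) * H.relIndex K = Nat.card K := by
    rw [← Subgroup.inf_relIndex_right]
    exact Cfsg.Agent.Lib.Helper55.card_mul_relIndex_eq inf_le_right
  have e2 : Nat.card H * H.relIndex (H ⊔ K) = Nat.card ↥(H ⊔ K) :=
    Cfsg.Agent.Lib.Helper55.card_mul_relIndex_eq le_sup_left
  have e3 : Nat.card K * K.relIndex H = Nat.card ↥(H ⊔ K) := by
    rw [← Subgroup.relIndex_sup_right]
    exact Cfsg.Agent.Lib.Helper55.card_mul_relIndex_eq le_sup_right
  have e4 : Nat.card ↥(H ⊓ K) * K.relIndex H = Nat.card H := by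
    rw [← Subgroup.inf_relIndex_left]
    exact Cfsg.Agent.Lib.Helper55.card_mul_relIndex_eq inf_le_left
  have hpos : 0 < Nat.card H := Nat.card_pos
  apply Nat.eq_of_mul_eq_mul_left hpos
  rw [e2, ← e3, ← e1, ← e4]
  ring

variable {X : Type*} [Group X] [Finite X]

theorem pPrimePCore_le_normalizer {K : Subgroup X} (hK : IsPComponent 2 K) :
    pPrimePCore 2 X ≤ Subgroup.normalizer (K : Set X) := by
  intro g hg
  rw [← Cfsg.Agent.Lib.Helper33.cj_eq_self_iff]
  apply cj_eq_of_map_mem_normalizer 2 hK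
  have hg' : QuotientGroup.mk' (pPrimeCore 2 X) g ∈ pCore 2 (X ⧸ pPrimeCore 2 X) := hg
  have hpg : IsPGroup 2 ↥(pCore 2 (X ⧸ pPrimeCore 2 X)) := Cfsg.Agent.Lib.Helper55.pCore_isPGroup 2
  have hnil : Group.IsNilpotent ↥(pCore 2 (X ⧸ pPrimeCore 2 X)) := hpg.isNilpotent
  have hsolv : Group.IsSolvable ↥(pCore 2 (X ⧸ pPrimeCore 2 X)) := inferInstance
  have hcomm : ⁅K.map (QuotientGroup.mk' (pPrimeCore 2 X)), pCore 2 (X ⧸ pPrimeCore 2 X)⁆ = ⊥ := by
    apply Cfsg.Agent.Lib.Helper21.component_commutes_solvable hK.2.1 hsolv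
    rw [Subgroup.normalizer_eq_top]
    exact le_top
  rw [Subgroup.commutator_comm, Subgroup.commutator_eq_bot_iff_le_centralizer] at hcomm
  exact Subgroup.centralizer_le_normalizer _ (hcomm hg')

/-- the key step: `O(C_X(T))` normalizes every 2-component -/
theorem D_le_normalizer {K : Subgroup X} (hK : IsPComponent 2 K)
    (T : Sylow 2 ↥(pLayer 2 X ⊔ pPrimePCore 2 X)) :
    D ((T : Subgroup ↥(pLayer 2 X ⊔ pPrimePCore 2 X)).map (pLayer 2 X ⊔ pPrimePCore 2 X).subtype) ≤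
      Subgroup.normalizer (K : Set X) := by
  intro d hd
  rw [← Cfsg.Agent.Lib.Helper33.cj_eq_self_iff]
  by_contra hne
  have hKL : K ≤ pLayer 2 X := le_sSup hK
  have hKN : K ≤ pLayer 2 X ⊔ pPrimePCore 2 X := hKL.trans le_sup_left
  have hNK : pLayer 2 X ⊔ pPrimePCore 2 X ≤ Subgroup.normalizer (K : Set X) :=
    sup_le (pLayer_le_normalizer 2 hK) (pPrimePCore_le_normalizer hK)
  have hdc := D_le_centralizer _ hd
  -- index of T' ∩ K in K is odd
  have hodd : ¬ 2 ∣ ((T : Subgroup ↥(pLayer 2 X ⊔ pPrimePCore 2 X)).map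
      (pLayer 2 X ⊔ pPrimePCore 2 X).subtype).relIndex K := by
    have hKn : (K.subgroupOf (pLayer 2 X ⊔ pPrimePCore 2 X)).Normal :=
      (Subgroup.normal_subgroupOf_iff_le_normalizer hKN).mpr hNK
    have h1 := relIndex_eq_relIndex_sup (T : Subgroup ↥(pLayer 2 X ⊔ pPrimePCore 2 X))
      (K.subgroupOf (pLayer 2 X ⊔ pPrimePCore 2 X))
    have h2 : (T : Subgroup ↥(pLayer 2 X ⊔ pPrimePCore 2 X)).relIndex
        ((T : Subgroup ↥(pLayer 2 X ⊔ pPrimePCore 2 X)) ⊔ K.subgroupOf (pLayer 2 X ⊔ pPrimePCore 2 X)) ∣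
        (T : Subgroup ↥(pLayer 2 X ⊔ pPrimePCore 2 X)).index := by
      have := Subgroup.relIndex_mul_relIndex (T : Subgroup ↥(pLayer 2 X ⊔ pPrimePCore 2 X))
        ((T : Subgroup ↥(pLayer 2 X ⊔ pPrimePCore 2 X)) ⊔ K.subgroupOf (pLayer 2 X ⊔ pPrimePCore 2 X)) ⊤
        le_sup_left le_top
      rw [Subgroup.relIndex_top_right, Subgroup.relIndex_top_right] at this
      exact Dvd.intro _ this
    have h3 : ((T : Subgroup ↥(pLayer 2 X ⊔ pPrimePCore 2 X)).map
        (pLayer 2 X ⊔ pPrimePCore 2 X).subtype).relIndex K =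
        (T : Subgroup ↥(pLayer 2 X ⊔ pPrimePCore 2 X)).relIndex
          (K.subgroupOf (pLayer 2 X ⊔ pPrimePCore 2 X)) := by
      conv_lhs => rw [← Subgroup.map_subgroupOf_eq_of_le hKN]
      exact Subgroup.relIndex_map_map_of_injective _ _ (Subgroup.subtype_injective _)
    rw [h3, h1]
    intro h
    exact T.not_dvd_index (dvd_trans h h2)
  -- the other component
  have hK2 : IsPComponent 2 (cj d K) := isPComponent_cj 2 d hK
  have hne' : (cj d K).map (QuotientGroup.mk' (pPrimeCore 2 X)) ≠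
      K.map (QuotientGroup.mk' (pPrimeCore 2 X)) := fun h => hne (isPComponent_unique 2 hK2 hK h)
  have hc := Cfsg.Agent.Lib.Helper91.component_commute_of_ne hK2.2.1 hK.2.1 hne'
  -- S = image of T' ∩ K is central in Kbar
  set S : Subgroup (X ⧸ pPrimeCore 2 X) :=
    (((T : Subgroup ↥(pLayer 2 X ⊔ pPrimePCore 2 X)).map
      (pLayer 2 X ⊔ pPrimePCore 2 X).subtype) ⊓ K).map (QuotientGroup.mk' (pPrimeCore 2 X)) with hS
  have hSle : S ≤ K.map (QuotientGroup.mk' (pPrimeCore 2 X)) := Subgroup.map_mono inf_le_right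
  have hScent : S.subgroupOf (K.map (QuotientGroup.mk' (pPrimeCore 2 X))) ≤
      Subgroup.center ↥(K.map (QuotientGroup.mk' (pPrimeCore 2 X))) := by
    intro x hx
    rw [Subgroup.mem_subgroupOf] at hx
    obtain ⟨t, ht, htx⟩ := Subgroup.mem_map.mp hx
    have htd : d * t * d⁻¹ = t := by
      have := Subgroup.mem_centralizer_iff.mp hdc t ht.1
      rw [← this]; group
    have ht2 : t ∈ cj d K := by
      rw [← htd]; exact Cfsg.Agent.Lib.Helper33.conj_mem_cj ht.2
    rw [Subgroup.mem_center_iff]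
    intro y
    apply Subtype.ext
    have := hc _ (Subgroup.mem_map_of_mem (QuotientGroup.mk' (pPrimeCore 2 X)) ht2) _ y.2
    rw [htx] at this
    simpa using this.symm
  -- index computations
  have hSidx : (S.relIndex (K.map (QuotientGroup.mk' (pPrimeCore 2 X)))).Coprime 2 := by
    rw [hS, Subgroup.relIndex_map_map, QuotientGroup.ker_mk']
    have h1 := Subgroup.relIndex_dvd_of_le_left (K ⊔ pPrimeCore 2 X)
      (le_sup_left : ((T : Subgroup ↥(pLayer 2 X ⊔ pPrimePCore 2 X)).map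
        (pLayer 2 X ⊔ pPrimePCore 2 X).subtype) ⊓ K ≤ _ ⊔ pPrimeCore 2 X)
    have h2 := Subgroup.relIndex_mul_relIndex (((T : Subgroup ↥(pLayer 2 X ⊔ pPrimePCore 2 X)).map
        (pLayer 2 X ⊔ pPrimePCore 2 X).subtype) ⊓ K) K (K ⊔ pPrimeCore 2 X) inf_le_right le_sup_left
    rw [← h2, Subgroup.inf_relIndex_right] at h1
    apply Nat.Coprime.coprime_dvd_left h1
    apply Nat.Coprime.mul_left
    · exact ((Nat.Prime.coprime_iff_not_dvd Nat.prime_two).mpr hodd).symm
    · exact Nat.Coprime.coprime_dvd_left (relIndex_sup_dvd_card K _)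
        (Cfsg.Agent.Lib.Helper55.pPrimeCore_card_coprime 2)
  have hZidx : ((Subgroup.center ↥(K.map (QuotientGroup.mk' (pPrimeCore 2 X)))).index).Coprime 2 :=
    Nat.Coprime.coprime_dvd_left (Subgroup.index_dvd_of_le hScent) hSidx
  apply component_not_coprime 2 hK.2.1
  have h3 := Subgroup.card_commutator_dvd_index_center_pow ↥(K.map (QuotientGroup.mk' (pPrimeCore 2 X)))
  have h4 : _root_.commutator ↥(K.map (QuotientGroup.mk' (pPrimeCore 2 X))) = ⊤ :=
    hK.2.1.2.1.commutator_eq_top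
  rw [h4, Subgroup.card_top] at h3
  exact Nat.Coprime.coprime_dvd_left h3 (Nat.Coprime.pow_left _ hZidx)

/-- Let K be a 2-component of the finite group X. Then K ≤ L*_{2'}(X) and K is normal in L*_{2'}(X). -/
theorem result {X : Type*} [Group X] [Finite X] (K : Subgroup X) (hK : Cfsg.IsPComponent 2 K) : K ≤ Cfsg.extendedTwoLayer X ∧ (K.subgroupOf (Cfsg.extendedTwoLayer X)).Normal := by
  have hKL : K ≤ pLayer 2 X := le_sSup hK
  have hKle : K ≤ extendedTwoLayer X := by
    rw [extendedTwoLayer_eq]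
    exact hKL.trans (le_sup_left.trans le_sup_left)
  refine ⟨hKle, ?_⟩
  rw [Subgroup.normal_subgroupOf_iff_le_normalizer hKle, extendedTwoLayer_eq]
  apply sup_le (sup_le (pLayer_le_normalizer 2 hK) (pPrimeCore_le_normalizer 2 hK))
  apply iSup_le
  intro T
  exact D_le_normalizer hK T

end Cfsg.Agent.S1344
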