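import Cfsg.Statements.S1348
import Cfsg.Agent.Lib.Helper8.SLStdCent

set_option autoImplicit false
set_option linter.unusedSectionVars false
set_option linter.style.haveILetI false
open Cfsg

namespace Cfsg.Agent.S1348

open Cfsg.Agent.Lib.Helper8.SLStd Matrix
open scoped commutatorElement

theorem orderOf_conj' {G : Type*} [Group G] (g x : G) : orderOf (g * x * g⁻¹) = orderOf x := by
  have h : SemiconjBy g x (g * x * g⁻¹) := by
    show g * x = g * x * g⁻¹ * g
    group
  exact (SemiconjBy.orderOf_eq g h).symm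

section aux

variable {F : Type*} [Field F] [Fintype F] [DecidableEq F] {m : ℕ}
  (t : Matrix.SpecialLinearGroup (Fin (m + 1)) F)
  (ht : (t : Matrix (Fin (m + 1)) (Fin (m + 1)) F) = Matrix.diagonal (dvec F m))
include ht

theorem t_mul_self : t * t = 1 := by
  apply sl_ext
  rw [Matrix.SpecialLinearGroup.coe_mul, ht, diagonal_dvec, blk_mul, neg_mul_neg, one_mul, one_mul,
    blk_one]
  rfl

theorem t_ne_one (h2 : (2 : F) ≠ 0) (hm1 : 1 ≤ m) : t ≠ 1 := by
  intro h
  have h1 : (t : Matrix (Fin (m + 1)) (Fin (m + 1)) F) = 1 := by rw [h]; rfl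
  rw [ht] at h1
  have := congrFun (congrFun h1 (Fin.castSucc ⟨0, hm1⟩)) (Fin.castSucc ⟨0, hm1⟩)
  rw [Matrix.diagonal_apply_eq, dvec_castSucc, Matrix.one_apply_eq] at this
  apply h2
  linear_combination -this

theorem orderOf_t (h2 : (2 : F) ≠ 0) (hm1 : 1 ≤ m) : orderOf t = 2 := by
  apply orderOf_eq_prime
  · rw [sq]; exact t_mul_self t ht
  · exact t_ne_one t ht h2 hm1

theorem t_mem_centralizer_range (h2 : (2 : F) ≠ 0) :
    t ∈ Subgroup.centralizer ((emb F m).range : Set (Matrix.SpecialLinearGroup (Fin (m + 1)) F)) := by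
  rw [Subgroup.mem_centralizer_iff]
  intro y hy
  have h1 := range_emb_le_centralizer t ht h2 hy
  rw [Subgroup.mem_centralizer_iff] at h1
  exact (h1 t rfl).symm

/-- the only element of order two centralizing the embedded `SL_m` is `t` -/
theorem eq_t_of_orderOf (h2 : (2 : F) ≠ 0) (hm : Even m) (hm1 : 1 ≤ m)
    (x : Matrix.SpecialLinearGroup (Fin (m + 1)) F)
    (hx : x ∈ Subgroup.centralizer ((emb F m).range : Set (Matrix.SpecialLinearGroup (Fin (m + 1)) F)))
    (ho : orderOf x = 2) : x = t := by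
  apply centralizer_range_invol t ht h2 hm hm1 x hx
  · rw [← sq, ← ho]; exact pow_orderOf_eq_one x
  · intro h
    rw [h, orderOf_one] at ho
    omega

theorem centralizer_t_le_normalizer (h2 : (2 : F) ≠ 0) :
    Subgroup.centralizer ({t} : Set (Matrix.SpecialLinearGroup (Fin (m + 1)) F)) ≤
      Subgroup.normalizer ((emb F m).range : Set (Matrix.SpecialLinearGroup (Fin (m + 1)) F)) := by
  intro g hg
  have hn := range_subgroupOf_normal t ht h2
  have hle := range_emb_le_centralizer t ht h2
  have key : ∀ g' ∈ Subgroup.centralizer ({t} : Set (Matrix.SpecialLinearGroup (Fin (m + 1)) F)),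
      ∀ s ∈ (emb F m).range, g' * s * g'⁻¹ ∈ (emb F m).range := by
    intro g' hg' s hs
    have := hn.conj_mem ⟨s, hle hs⟩ (Subgroup.mem_subgroupOf.mpr hs) ⟨g', hg'⟩
    exact Subgroup.mem_subgroupOf.mp this
  rw [Subgroup.mem_normalizer_iff]
  intro s
  constructor
  · exact key g hg s
  · intro hs
    have := key g⁻¹ (inv_mem hg) _ hs
    have e : g⁻¹ * (g * s * g⁻¹) * g⁻¹⁻¹ = s := by group
    rwa [e] at this

omit ht in
theorem normalizer_le_normalizer_centralizer' {G : Type*} [Group G] (L : Subgroup G) :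
    Subgroup.normalizer (L : Set G) ≤
      Subgroup.normalizer (Subgroup.centralizer (L : Set G) : Set G) := by
  intro g hg
  rw [Subgroup.mem_normalizer_iff] at hg ⊢
  intro x
  simp only [Subgroup.mem_centralizer_iff]
  constructor
  · intro hx l hl
    have h1 : g⁻¹ * l * g ∈ L := by
      rw [hg (g⁻¹ * l * g)]
      have e : g * (g⁻¹ * l * g) * g⁻¹ = l := by group
      rwa [e]
    have h3 := hx _ h1
    calc l * (g * x * g⁻¹) = g * ((g⁻¹ * l * g) * x) * g⁻¹ := by group
      _ = g * (x * (g⁻¹ * l * g)) * g⁻¹ := by rw [h3]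
      _ = g * x * g⁻¹ * l := by group
  · intro hx l hl
    have h1 : g * l * g⁻¹ ∈ L := (hg l).mp hl
    have h3 := hx _ h1
    have e1 : l * x = g⁻¹ * ((g * l * g⁻¹) * (g * x * g⁻¹)) * g := by group
    have e2 : x * l = g⁻¹ * ((g * x * g⁻¹) * (g * l * g⁻¹)) * g := by group
    rw [e1, e2, h3]

theorem mem_centralizer_t_of_normalizer (h2 : (2 : F) ≠ 0) (hm : Even m) (hm1 : 1 ≤ m)
    (g : Matrix.SpecialLinearGroup (Fin (m + 1)) F)
    (hg : g ∈ Subgroup.normalizer (Subgroup.centralizer
      ((emb F m).range : Set (Matrix.SpecialLinearGroup (Fin (m + 1)) F)) :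
        Set (Matrix.SpecialLinearGroup (Fin (m + 1)) F))) :
    g ∈ Subgroup.centralizer ({t} : Set (Matrix.SpecialLinearGroup (Fin (m + 1)) F)) := by
  rw [Subgroup.mem_normalizer_iff] at hg
  have h1 := (hg t).mp (t_mem_centralizer_range t ht h2)
  have h3 : orderOf (g * t * g⁻¹) = 2 := by
    rw [orderOf_conj', orderOf_t t ht h2 hm1]
  have h4 := eq_t_of_orderOf t ht h2 hm hm1 _ h1 h3
  rw [Subgroup.mem_centralizer_iff]
  intro y hy
  rw [Set.mem_singleton_iff] at hy
  subst hy
  calc y * g = (g * y * g⁻¹) * g := by rw [h4]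
    _ = g * y := by group

theorem isStandard (h2 : (2 : F) ≠ 0) (hm : Even m) (hm6 : 6 ≤ m) :
    Cfsg.IsStandardSubgroup (emb F m).range := by
  have hm1 : 1 ≤ m := by omega
  have hqs := quasisimple_range (F := F) (m := m) (by omega)
  refine ⟨hqs, ⟨?_, ?_⟩, ?_, ?_⟩
  · -- even order
    rw [even_iff_two_dvd]
    have h1 : orderOf (⟨t, t_mem_centralizer_range t ht h2⟩ :
        ↥(Subgroup.centralizer ((emb F m).range : Set (Matrix.SpecialLinearGroup (Fin (m + 1)) F)))) = 2 := by
      rw [← Subgroup.orderOf_coe]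
      exact orderOf_t t ht h2 hm1
    rw [← h1]
    exact orderOf_dvd_natCard _
  · -- odd intersections
    intro g hg
    by_contra hodd
    rw [Nat.not_odd_iff_even, even_iff_two_dvd] at hodd
    haveI : Fact (Nat.Prime 2) := ⟨Nat.prime_two⟩
    obtain ⟨s, hs⟩ := exists_prime_orderOf_dvd_card' 2 hodd
    have hs' : orderOf (s : Matrix.SpecialLinearGroup (Fin (m + 1)) F) = 2 := by
      rw [Subgroup.orderOf_coe]; exact hs
    have hsK := s.2.1
    have hsKg := s.2.2
    have e1 := eq_t_of_orderOf t ht h2 hm hm1 _ hsK hs'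
    obtain ⟨k, hk, hkg⟩ := Subgroup.mem_map.mp hsKg
    have hkg' : g * k * g⁻¹ = (s : Matrix.SpecialLinearGroup (Fin (m + 1)) F) := hkg
    have hko : orderOf k = 2 := by
      rw [← orderOf_conj' g k, hkg', hs']
    have e2 := eq_t_of_orderOf t ht h2 hm hm1 _ hk hko
    apply hg
    apply normalizer_le_normalizer_centralizer'
    apply centralizer_t_le_normalizer t ht h2
    rw [Subgroup.mem_centralizer_iff]
    intro y hy
    rw [Set.mem_singleton_iff] at hy
    subst hy
    rw [e2, e1] at hkg'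
    calc y * g = (g * y * g⁻¹) * g := by rw [hkg']
      _ = g * y := by group
  · -- no commuting conjugates
    intro g _ hcomm
    apply Cfsg.Agent.Lib.Helper21.quasisimple_not_solvable hqs
    rw [Subgroup.commutator_comm, Subgroup.commutator_eq_bot_iff_le_centralizer] at hcomm
    apply Group.isSolvable_of_comm
    intro a b
    have ha : g * a.1 * g⁻¹ ∈ Subgroup.centralizer
        ((emb F m).range : Set (Matrix.SpecialLinearGroup (Fin (m + 1)) F)) :=
      hcomm (Subgroup.mem_map.mpr ⟨a.1, a.2, rfl⟩)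
    have hb : g * b.1 * g⁻¹ ∈ Subgroup.centralizer
        ((emb F m).range : Set (Matrix.SpecialLinearGroup (Fin (m + 1)) F)) :=
      hcomm (Subgroup.mem_map.mpr ⟨b.1, b.2, rfl⟩)
    have h3 := centralizer_range_comm t ht h2 hm _ _ ha hb
    apply Subtype.ext
    show a.1 * b.1 = b.1 * a.1
    calc a.1 * b.1 = g⁻¹ * ((g * a.1 * g⁻¹) * (g * b.1 * g⁻¹)) * g := by group
      _ = g⁻¹ * ((g * b.1 * g⁻¹) * (g * a.1 * g⁻¹)) * g := by rw [h3]
      _ = b.1 * a.1 := by group
  · -- normalizers
    apply le_antisymm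
    · exact normalizer_le_normalizer_centralizer' _
    · intro g hg
      exact centralizer_t_le_normalizer t ht h2
        (mem_centralizer_t_of_normalizer t ht h2 hm hm1 g hg)

end aux


/-- Let F be a finite field of odd order, n ≥ 7 odd, and t ∈ SL(n, F) the diagonal matrix with entries −1, …, −1, 1. Then E(C(t)) is a standard subgroup of SL(n, F). -/
theorem result {F : Type*} [Field F] [Fintype F] [DecidableEq F] (hF : Odd (Fintype.card F)) (n : ℕ) (hn : 7 ≤ n) (hodd : Odd n) (t : Matrix.SpecialLinearGroup (Fin n) F) (ht : (t : Matrix (Fin n) (Fin n) F) = Matrix.diagonal (fun i : Fin n => if (i : ℕ) + 1 = n then (1 : F) else -1)) : Cfsg.IsStandardSubgroup ((Cfsg.layer ↥(Subgroup.centralizer ({t} : Set (Matrix.SpecialLinearGroup (Fin n) F)))).map (Subgroup.centralizer ({t} : Set (Matrix.SpecialLinearGroup (Fin n) F))).subtype) := by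
  classical
  obtain ⟨m, rfl⟩ : ∃ m, n = m + 1 := ⟨n - 1, by omega⟩
  have hm6 : 6 ≤ m := by omega
  have hme : Even m := by
    rcases hodd with ⟨k, hk⟩
    exact ⟨k, by omega⟩
  have h2 : (2 : F) ≠ 0 := by
    intro h
    have hch : ringChar F = 2 :=
      CharP.ringChar_of_prime_eq_zero Nat.prime_two (by exact_mod_cast h)
    have := FiniteField.even_card_of_char_two hch
    rcases hF with ⟨r, hr⟩
    omega
  have ht' : (t : Matrix (Fin (m + 1)) (Fin (m + 1)) F) = Matrix.diagonal (dvec F m) := ht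
  rw [layer_centralizer t ht' h2 (by omega)]
  exact isStandard t ht' h2 hme hm6

end Cfsg.Agent.S1348
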