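import Cfsg.Statements.S1349
import Mathlib
import Cfsg.Agent.Lib.Helper23.DihedralAbelian
import Cfsg.Agent.Lib.Helper23.DihedralReduce
import Cfsg.Agent.Lib.Helper61.DihedralLift

set_option autoImplicit false
open Cfsg

namespace Cfsg.Agent.S1349


open Cfsg.Agent.Lib.Helper23 in
theorem nonempty_dihedral_iso {G : Type*} [Group G] (a x : G) (ha2 : a * a = 1)
    (hax : a * x * a⁻¹ = x⁻¹) (hx : x⁻¹ ≠ x) :
    Nonempty (↥(Subgroup.zpowers a ⊔ Subgroup.zpowers x) ≃* DihedralGroup (orderOf x)) := by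
  have heq : Subgroup.zpowers a ⊔ Subgroup.zpowers x = Subgroup.closure ({a, x} : Set G) := by
    rw [Set.insert_eq, Subgroup.closure_union, Subgroup.zpowers_eq_closure,
      Subgroup.zpowers_eq_closure]
  rw [heq]
  have haH : a ∈ Subgroup.closure ({a, x} : Set G) := Subgroup.subset_closure (by simp)
  have hxH : x ∈ Subgroup.closure ({a, x} : Set G) := Subgroup.subset_closure (by simp)
  have hainv : a⁻¹ = a := inv_eq_of_mul_eq_one_right ha2
  have hs : (⟨a, haH⟩ : ↥(Subgroup.closure ({a, x} : Set G))) * ⟨a, haH⟩ = 1 :=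
    Subtype.ext ha2
  have hsx : (⟨a, haH⟩ : ↥(Subgroup.closure ({a, x} : Set G))) * ⟨x, hxH⟩ * ⟨a, haH⟩
      = (⟨x, hxH⟩ : ↥(Subgroup.closure ({a, x} : Set G)))⁻¹ := by
    apply Subtype.ext
    simp only [Subgroup.coe_mul, Subgroup.coe_inv]
    rw [← hax, hainv]
  have hns : (⟨a, haH⟩ : ↥(Subgroup.closure ({a, x} : Set G))) ∉
      Subgroup.zpowers (⟨x, hxH⟩ : ↥(Subgroup.closure ({a, x} : Set G))) := by
    rintro ⟨k, hk⟩
    have hk' : x ^ k = a := by
      have := congrArg Subtype.val hk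
      simpa using this
    apply hx
    rw [← hax, ← hk']
    group
  have hgen : Subgroup.closure ({⟨a, haH⟩, ⟨x, hxH⟩} : Set ↥(Subgroup.closure ({a, x} : Set G)))
      = ⊤ := by
    have h := Subgroup.closure_closure_coe_preimage (k := ({a, x} : Set G))
    have hset : (Subtype.val ⁻¹' ({a, x} : Set G) : Set ↥(Subgroup.closure ({a, x} : Set G)))
        = {⟨a, haH⟩, ⟨x, hxH⟩} := by
      ext ⟨g, hg⟩
      simp [Subtype.ext_iff]
    rw [hset] at h
    exact h
  have e := Cfsg.Agent.Lib.Helper61.dihedralEquiv _ _ hs hsx hns hgen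
  have ho : orderOf (⟨x, hxH⟩ : ↥(Subgroup.closure ({a, x} : Set G))) = orderOf x :=
    Subgroup.orderOf_mk x hxH
  rw [ho] at e
  exact ⟨e.symm⟩

theorem comm_of_mem_closure {G : Type*} [Group G] {T T' : Set G}
    (h : ∀ t ∈ T, ∀ t' ∈ T', t * t' = t' * t) :
    ∀ y ∈ Subgroup.closure T, ∀ z ∈ Subgroup.closure T', y * z = z * y := by
  have h1 : Subgroup.closure T ≤ Subgroup.centralizer (Subgroup.closure T' : Set G) := by
    rw [Subgroup.centralizer_closure, Subgroup.closure_le]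
    intro t ht
    rw [SetLike.mem_coe, Subgroup.mem_centralizer_iff]
    intro t' ht'
    exact (h t ht t' ht').symm
  intro y hy z hz
  have := h1 hy
  rw [Subgroup.mem_centralizer_iff] at this
  exact (this z hz).symm

/-- Let G be finite, L ≤ G solvable of odd order, and A an elementary abelian 2-subgroup of order 2^d (d ≥ 1) normalizing L with C_A(L) = 1. Then there are subgroups A_1, …, A_d of A of order 2 generating A and subgroups L_1, …, L_d of L such that each A_i ⊔ L_i is dihedral of order 2 n_i with n_i odd and at least 3, and A_i ⊔ L_i commutes elementwise with A_j ⊔ L_j for i ≠ j. -/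
theorem result {G : Type*} [Group G] [Finite G] (L A : Subgroup G) (hLs : Group.IsSolvable ↥L) (hLodd : Odd (Nat.card ↥L)) (hA : Cfsg.IsElementaryAbelian 2 A) (d : ℕ) (hd : 1 ≤ d) (hAd : Nat.card ↥A = 2 ^ d) (hAL : A ≤ Subgroup.normalizer (L : Set G)) (hfaith : A ⊓ Subgroup.centralizer (L : Set G) = ⊥) : ∃ (Ai : Fin d → Subgroup G) (Li : Fin d → Subgroup G) (n : Fin d → ℕ), (∀ i, Ai i ≤ A ∧ Nat.card ↥(Ai i) = 2 ∧ Li i ≤ L ∧ Odd (n i) ∧ 3 ≤ n i ∧ Nonempty (↥(Ai i ⊔ Li i) ≃* DihedralGroup (n i))) ∧ (⨆ i, Ai i) = A ∧ ∀ i j, i ≠ j → ∀ x ∈ Ai i ⊔ Li i, ∀ y ∈ Ai j ⊔ Li j, x * y = y * x := by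
  classical
  -- basic facts about `L` and `A`
  have hL2 : ∀ c ∈ L, c * c = 1 → c = 1 := by
    intro c hc hcc
    by_contra hc1
    have ho : orderOf c = 2 := by
      have : Fact (Nat.Prime 2) := ⟨Nat.prime_two⟩
      exact orderOf_eq_prime (by rw [pow_two]; exact hcc) hc1
    have hdvd : orderOf c ∣ Nat.card ↥L := by
      have := orderOf_dvd_natCard (⟨c, hc⟩ : ↥L)
      rwa [Subgroup.orderOf_mk] at this
    rw [ho] at hdvd
    exact (Nat.not_even_iff_odd.mpr hLodd) (even_iff_two_dvd.mpr hdvd)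
  have hAc : ∀ a ∈ A, ∀ b ∈ A, a * b = b * a := by
    intro a ha b hb
    have := hA.1.is_comm.comm (⟨a, ha⟩ : ↥A) ⟨b, hb⟩
    exact congrArg Subtype.val this
  have hA2 : ∀ a ∈ A, a * a = 1 := by
    intro a ha
    have := hA.2 a ha
    rwa [pow_two] at this
  have hALn : ∀ a ∈ A, ∀ g ∈ L, a * g * a⁻¹ ∈ L := by
    intro a ha g hg
    exact (Subgroup.mem_normalizer_iff.mp (hAL ha) g).mp hg
  have hfaithL : ∀ a ∈ A, (∀ g ∈ L, a * g * a⁻¹ = g) → a = 1 := by
    intro a ha h
    have hmem : a ∈ A ⊓ Subgroup.centralizer (L : Set G) := by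
      refine Subgroup.mem_inf.mpr ⟨ha, ?_⟩
      rw [Subgroup.mem_centralizer_iff]
      intro g hg
      have := h g hg
      rw [mul_inv_eq_iff_eq_mul] at this
      exact this.symm
    rw [hfaith, Subgroup.mem_bot] at hmem
    exact hmem
  -- the Fitting subgroup of `L`
  obtain ⟨F, hFL, hFnil, hFnorm, hFC⟩ := Cfsg.Agent.Lib.Helper23.exists_fitting_in L hLs
  have hLF : ∀ g ∈ L, ∀ f ∈ F, g * f * g⁻¹ ∈ F := fun g hg =>
    hFnorm g (Subgroup.le_normalizer hg)
  have hAF : ∀ a ∈ A, ∀ f ∈ F, a * f * a⁻¹ ∈ F := fun a ha => hFnorm a (hAL ha)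
  -- a self-centralizing abelian normal `A`-invariant subgroup of `F`
  obtain ⟨W, hWF, hWab, hWFn, hWA, hWC⟩ :=
    Cfsg.Agent.Lib.Helper23.exists_selfcentralizing F A hFnil hAc hA2 hAF
  have hfaithW : ∀ a ∈ A, (∀ w ∈ W, a * w * a⁻¹ = w) → a = 1 := by
    intro a ha h
    apply hfaithL a ha
    apply Cfsg.Agent.Lib.Helper23.centralizes_of_centralizes_normal L F hLF hFC hL2 a
      (hALn a ha) _ (hA2 a ha)
    exact Cfsg.Agent.Lib.Helper23.centralizes_of_centralizes_normal F W hWFn hWC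
      (fun c hc => hL2 c (hFL hc)) a (hAF a ha) h (hA2 a ha)
  have hW2 : ∀ x ∈ W, x * x = 1 → x = 1 := fun x hx => hL2 x (hFL (hWF hx))
  obtain ⟨a, x, hprops, hcross, hgen⟩ :=
    Cfsg.Agent.Lib.Helper23.abelian_dihedral_aux W A hWab hW2 hAc hA2 hWA d A le_rfl hAd hfaithW
  have hxne : ∀ i, (x i)⁻¹ ≠ x i := by
    intro i h
    apply (hprops i).2.2.1
    apply hW2 _ (hprops i).2.1
    calc x i * x i = x i * (x i)⁻¹ := by rw [h]
      _ = 1 := mul_inv_cancel _
  have ha1 : ∀ i, a i ≠ 1 := by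
    intro i h
    have := (hprops i).2.2.2.2
    rw [h] at this
    apply hxne i
    rw [← this]; group
  have hxL : ∀ i, x i ∈ L := fun i => hFL (hWF (hprops i).2.1)
  have hcl : ∀ i, Subgroup.zpowers (a i) ⊔ Subgroup.zpowers (x i)
      = Subgroup.closure ({a i, x i} : Set G) := by
    intro i
    rw [Set.insert_eq, Subgroup.closure_union, Subgroup.zpowers_eq_closure,
      Subgroup.zpowers_eq_closure]
  refine ⟨fun i => Subgroup.zpowers (a i), fun i => Subgroup.zpowers (x i),
    fun i => orderOf (x i), ?_, ?_, ?_⟩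
  · intro i
    have hodd : Odd (orderOf (x i)) := by
      have hdvd : orderOf (x i) ∣ Nat.card ↥L := by
        have := orderOf_dvd_natCard (⟨x i, hxL i⟩ : ↥L)
        rwa [Subgroup.orderOf_mk] at this
      exact Odd.of_dvd_nat hLodd hdvd
    refine ⟨Subgroup.zpowers_le.mpr (hprops i).1, ?_, Subgroup.zpowers_le.mpr (hxL i), hodd, ?_,
      nonempty_dihedral_iso (a i) (x i) (hA2 _ (hprops i).1) (hprops i).2.2.2.2 (hxne i)⟩
    · rw [Nat.card_zpowers]
      have : Fact (Nat.Prime 2) := ⟨Nat.prime_two⟩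
      exact orderOf_eq_prime (by rw [pow_two]; exact hA2 _ (hprops i).1) (ha1 i)
    · show 3 ≤ orderOf (x i)
      have h1 : orderOf (x i) ≠ 1 := by
        rw [Ne, orderOf_eq_one_iff]
        exact (hprops i).2.2.1
      have h0 : 0 < orderOf (x i) := orderOf_pos (x i)
      rcases hodd with ⟨m, hm⟩
      omega
  · rw [← hgen]
    apply le_antisymm
    · apply iSup_le
      intro i
      rw [Subgroup.zpowers_le]
      exact Subgroup.subset_closure ⟨i, rfl⟩
    · rw [Subgroup.closure_le]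
      rintro _ ⟨i, rfl⟩
      exact Subgroup.mem_iSup_of_mem i (Subgroup.mem_zpowers _)
  · intro i j hij y hy z hz
    simp only at hy hz
    rw [hcl i] at hy
    rw [hcl j] at hz
    refine comm_of_mem_closure ?_ y hy z hz
    have hax : a i * x j = x j * a i := by
      have := hcross i j hij
      rwa [mul_inv_eq_iff_eq_mul] at this
    have hxa : x i * a j = a j * x i := by
      have := hcross j i (Ne.symm hij)
      rw [mul_inv_eq_iff_eq_mul] at this
      exact this.symm
    intro t ht t' ht'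
    rcases ht with rfl | ht <;> rcases ht' with rfl | ht'
    · exact hAc _ (hprops i).1 _ (hprops j).1
    · rw [Set.mem_singleton_iff] at ht'
      rw [ht']; exact hax
    · rw [Set.mem_singleton_iff] at ht
      rw [ht]; exact hxa
    · rw [Set.mem_singleton_iff] at ht ht'
      rw [ht, ht']
      exact hWab _ (hprops i).2.1 _ (hprops j).2.1

end Cfsg.Agent.S1349
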