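import Cfsg.Statements.S1371
import Cfsg.Agent.S1350
import Cfsg.Agent.S1430
import Cfsg.Agent.S1431
import Cfsg.Agent.Lib.Helper19.BG124a
import Cfsg.Agent.Lib.Helper19.BG14C
import Cfsg.Agent.Lib.Helper76.BGSigU4
import Cfsg.Agent.Lib.Helper47.BG11a
import Cfsg.Agent.Lib.Helper24.BG121
import Cfsg.Agent.Lib.Helper23.FitUniqueB

set_option autoImplicit false
open Cfsg

namespace Cfsg.Agent.S1371

/-- Let G be a minimal simple group of odd order, M a maximal subgroup with standard factorisation M = K U M_σ, K ≠ 1, K* = M_σ ∩ C_G(K), and Ẑ the set of elements of K K* outside K ∪ K*. Then the union of the M-conjugates of Ẑ equals A₀(M) with A(M) removed, and it is a TI-subset of G. -/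
theorem result {G : Type*} [Group G] [Finite G] (hG : Cfsg.IsMinSimpleOddOrder G)
    (M : Subgroup G) (hM : IsCoatom M) (K U : Subgroup G) (hKU : Cfsg.IsSigmaDecomposition M K U) (hK1 : K ≠ ⊥) :
    {a : G | ∃ m ∈ M, ∃ z ∈ ((↑(K ⊔ (Cfsg.sigmaCore M ⊓ Subgroup.centralizer (K : Set G))) : Set G) \ ((K : Set G) ∪ ↑(Cfsg.sigmaCore M ⊓ Subgroup.centralizer (K : Set G)))), a = m * z * m⁻¹} = Cfsg.sigmaA0 M K \ Cfsg.sigmaA M U ∧
      Cfsg.IsTISubset (Cfsg.sigmaA0 M K \ Cfsg.sigmaA M U) := by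
  have hKc : IsCyclic K := hKU.cyclic
  have hK : Cfsg.IsPiHallOf (Cfsg.kappa M) K M := hKU.hall
  have h50 := Cfsg.Agent.S1350.result hG M hM
  have hS : Cfsg.IsPiHallOf (Cfsg.sigma M) (Cfsg.sigmaCore M) M := h50.1
  have hSn : M ≤ Subgroup.normalizer ((Cfsg.sigmaCore M : Subgroup G) : Set G) :=
    Cfsg.Agent.Lib.Helper24.BG.le_normalizer_sigmaCore M
  have hdisj : ∀ p, p ∈ Cfsg.kappa M → p ∉ Cfsg.sigma M := fun p hp => hp.2.2.1
  have h30 := Cfsg.Agent.S1430.result hG M hM K hK hK1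
  have h31 := Cfsg.Agent.S1431.result hG M hM K hK hK1
  obtain ⟨U₀, _, hU₀H, hKU₀, _⟩ := h30.2.1
  have hd := Cfsg.Agent.Lib.Helper19.BG14.decomp_exists hK hS hSn hU₀H hKU₀
  have hUS : U ⊔ Cfsg.sigmaCore M = U₀ ⊔ Cfsg.sigmaCore M :=
    Cfsg.Agent.Lib.Helper19.BG14.decomp_unique hdisj hK hS hSn hU₀H hd.2 hKU.compl
  have hcm := Cfsg.Agent.Lib.Helper76.BGSigU.cent_M_K
      (Cfsg.Agent.Lib.Helper19.BG124.sigmaCore_ne_bot hG hM) hKc hK
      (fun _ => h30.1) (fun _ X hXK hXp => (h30.2.2 X hXK hXp).1)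
  have hcent := hcm.2 hK1
  have hc : ∀ k ∈ K, ∀ c ∈ Cfsg.sigmaCore M ⊓ Subgroup.centralizer (K : Set G),
      k * c = c * k := fun k hk c hcC =>
    (Subgroup.mem_centralizer_iff.1 hcC.2) k hk
  have hcop : (Nat.card K).Coprime
      (Nat.card ↥(Cfsg.sigmaCore M ⊓ Subgroup.centralizer (K : Set G))) := by
    apply Nat.coprime_of_dvd'
    intro q hq hqK hqC
    exfalso
    have hκ : q ∈ Cfsg.kappa M := hK.2.1 q hq hqK
    have hσ : q ∈ Cfsg.sigma M :=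
      Cfsg.Agent.Lib.Helper47.BG11.mem_sigma_of_dvd_card_le inf_le_left hq hqC
    exact hκ.2.2.1 hσ
  have hSM : Cfsg.sigmaCore M ≤ M := Cfsg.Agent.Lib.Helper47.BG11.sigmaCore_le M
  have hCM : Cfsg.sigmaCore M ⊓ Subgroup.centralizer (K : Set G) ≤ M := inf_le_left.trans hSM
  haveI : Group.IsSolvable ↥M := Cfsg.Agent.Lib.Helper23.isSolvable_of_ne_top hG hM.1
  have hNM : U₀ ⊔ Cfsg.sigmaCore M ≤ M := sup_le hU₀H.1 hSM
  have hKN : K ⊓ (U₀ ⊔ Cfsg.sigmaCore M) = ⊥ :=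
    Cfsg.Agent.Lib.Helper19.BG14.inf_sup_eq_bot hdisj hK hS hSn hU₀H
  have hNκ := Cfsg.Agent.Lib.Helper19.BG14.relIndex_primes (κ := Cfsg.kappa M) hS hU₀H
  have hCN : Cfsg.sigmaCore M ⊓ Subgroup.centralizer (K : Set G) ≤ U₀ ⊔ Cfsg.sigmaCore M :=
    inf_le_left.trans le_sup_right
  have key := Cfsg.Agent.Lib.Helper19.BG14.mem_zhatM_iff hc hcop hK hCM hNM hd.2 hNκ hKN hCN hcent
  have heq : {a : G | ∃ m ∈ M, ∃ z ∈ ((↑(K ⊔ (Cfsg.sigmaCore M ⊓ Subgroup.centralizer (K : Set G))) : Set G) \ ((K : Set G) ∪ ↑(Cfsg.sigmaCore M ⊓ Subgroup.centralizer (K : Set G)))), a = m * z * m⁻¹} = Cfsg.sigmaA0 M K \ Cfsg.sigmaA M U := by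
    ext a
    constructor
    · intro ha
      obtain ⟨haM, haN, hnc⟩ := (key a).1 ha
      obtain ⟨m, hm, z, ⟨hzZ, hzn⟩, rfl⟩ := ha
      -- membership in `sigmaHat`
      have hhat : m * z * m⁻¹ ∈ Cfsg.sigmaHat M := by
        refine ⟨haM, ?_⟩
        obtain ⟨k, hk, c, hcC, rfl⟩ := Cfsg.Agent.Lib.Helper19.BG14.mem_sup_comm hc hzZ
        have hc1 : c ≠ 1 := by
          intro h1
          apply hzn
          left
          rw [h1, mul_one]; exact hk
        refine ⟨m * c * m⁻¹, ?_, ?_, ?_⟩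
        · exact (Subgroup.mem_normalizer_iff.1 (hSn hm) c).1 hcC.1
        · intro h1
          apply hc1
          have : c = m⁻¹ * (m * c * m⁻¹) * m := by group
          rw [this, h1]; group
        · have h2 : k * c * c = c * (k * c) := by
            have h3 := hc k hk c hcC
            calc k * c * c = (c * k) * c := by rw [h3]
              _ = c * (k * c) := mul_assoc _ _ _
          calc m * (k * c) * m⁻¹ * (m * c * m⁻¹) = m * (k * c * c) * m⁻¹ := by group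
            _ = m * (c * (k * c)) * m⁻¹ := by rw [h2]
            _ = m * c * m⁻¹ * (m * (k * c) * m⁻¹) := by group
      refine ⟨⟨hhat, hnc⟩, ?_⟩
      rintro ⟨_, hN⟩
      apply haN
      have : m * z * m⁻¹ ∈ U ⊔ Cfsg.sigmaCore M := hN
      rwa [hUS] at this
    · rintro ⟨⟨hhat, hnc⟩, hnA⟩
      apply (key a).2
      refine ⟨hhat.1, ?_, hnc⟩
      intro haN
      apply hnA
      refine ⟨hhat, ?_⟩
      show a ∈ U ⊔ Cfsg.sigmaCore M
      rw [hUS]; exact haN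
  refine ⟨heq, ?_⟩
  rw [← heq]
  exact Cfsg.Agent.Lib.Helper19.BG14.zhatM_ti hc hcop hK.1 hCM h31.1 h31.2.1

end Cfsg.Agent.S1371
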