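-- Statement S1379 (row 1379): the partition of the non-identity elements (BG 14.6).
-- Assembly of Lib/Helper70/BG1379a/b/c (`s1379_of`) with the statements S1433, S1432, S1430,
-- S1431, S1366, S1367, S1434, S1351, S1352 (the part of S1375 used is proved in BG1379d).
import Cfsg.Statements.S1379
import Cfsg.Agent.Lib.Helper70.BG1379d
import Cfsg.Agent.S1351
import Cfsg.Agent.S1352
import Cfsg.Agent.S1366
import Cfsg.Agent.S1367
import Cfsg.Agent.S1430
import Cfsg.Agent.S1431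
import Cfsg.Agent.S1432
import Cfsg.Agent.S1433
import Cfsg.Agent.S1434

set_option autoImplicit false
open Cfsg

namespace Cfsg.Agent.S1379

/-- Let G be a minimal simple group of odd order; for a maximal subgroup M write M̃ for the union of the G-conjugates of the cosets x R(x), x ≠ 1 in M_σ. Then M̃ ∩ Ñ = ∅ for non-conjugate maximal M, N; if every maximal subgroup has κ empty, every g ≠ 1 lies in some M̃; and if M = K U M_σ has K ≠ 1 with Ẑ = K K* − (K ∪ K*), then every g ≠ 1 lies in some Ñ or in a conjugate of Ẑ, and no conjugate of an element of Ẑ lies in any Ñ. -/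
theorem result {G : Type*} [Group G] [Finite G] (hG : Cfsg.IsMinSimpleOddOrder G) :
    (∀ M N : Subgroup G, IsCoatom M → IsCoatom N → (∀ g : G, N ≠ M.map (MulAut.conj g).toMonoidHom) → Cfsg.tildeOf M ((Cfsg.sigmaCore M : Set G) \ {1}) ∩ Cfsg.tildeOf N ((Cfsg.sigmaCore N : Set G) \ {1}) = ∅) ∧
      ((∀ M : Subgroup G, IsCoatom M → Cfsg.kappa M = ∅) →
        ∀ g : G, g ≠ 1 → ∃ M : Subgroup G, IsCoatom M ∧ g ∈ Cfsg.tildeOf M ((Cfsg.sigmaCore M : Set G) \ {1})) ∧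
      ∀ (M K U : Subgroup G), IsCoatom M → Cfsg.IsSigmaDecomposition M K U → K ≠ ⊥ →
        (∀ g : G, g ≠ 1 → (∃ N : Subgroup G, IsCoatom N ∧ g ∈ Cfsg.tildeOf N ((Cfsg.sigmaCore N : Set G) \ {1})) ∨
            ∃ y : G, ∃ z ∈ ((↑(K ⊔ (Cfsg.sigmaCore M ⊓ Subgroup.centralizer (K : Set G))) : Set G) \ ((K : Set G) ∪ ↑(Cfsg.sigmaCore M ⊓ Subgroup.centralizer (K : Set G)))), g = y * z * y⁻¹) ∧
        ∀ N : Subgroup G, IsCoatom N → ∀ y : G, ∀ z ∈ ((↑(K ⊔ (Cfsg.sigmaCore M ⊓ Subgroup.centralizer (K : Set G))) : Set G) \ ((K : Set G) ∪ ↑(Cfsg.sigmaCore M ⊓ Subgroup.centralizer (K : Set G)))), y * z * y⁻¹ ∉ Cfsg.tildeOf N ((Cfsg.sigmaCore N : Set G) \ {1}) := by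
  have h33 : Cfsg.Agent.Lib.Helper70.BG1379.St1433 G :=
    fun M N hM hN x y hx hy hx1 hy1 hxy => Cfsg.Agent.S1433.result hG M N hM hN x y hx hy hx1 hy1 hxy
  have h75 : Cfsg.Agent.Lib.Helper70.BG1379.St1375 G := Cfsg.Agent.Lib.Helper70.BG1379.st1375 hG
  have h32 : Cfsg.Agent.Lib.Helper70.BG1379.St1432 G :=
    fun M hM x hx hx1 x' hx' hx'1 hσ => Cfsg.Agent.S1432.result hG M hM x hx hx1 x' hx' hx'1 hσ
  have h30a : Cfsg.Agent.Lib.Helper70.BG1379.St1430a G :=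
    fun M hM K hK hK1 => (Cfsg.Agent.S1430.result hG M hM K hK hK1).1
  have h31 : Cfsg.Agent.Lib.Helper70.BG1379.St1431a G :=
    fun M hM K hK hK1 => (Cfsg.Agent.S1431.result hG M hM K hK hK1).1
  have h66 : Cfsg.Agent.Lib.Helper70.BG1369.St1366 G :=
    fun M hM K U hKU hK1 => Cfsg.Agent.S1366.result hG M hM K U hKU hK1
  have h67 : Cfsg.Agent.Lib.Helper70.BG1369.St1367 G :=
    fun M hM K U hKU hK1 Mstar hMstar hKst hKstH =>
      Cfsg.Agent.S1367.result hG M hM K U hKU hK1 Mstar hMstar hKst hKstH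
  have h34 : Cfsg.Agent.Lib.Helper70.BG1369.St1434 G := by
    intro M hM K U hKU hK1 Mstar hMstar hKst hKstH
    obtain ⟨_, _, h3, _, _, h6⟩ := Cfsg.Agent.S1434.result hG M hM K U hKU hK1 Mstar hMstar hKst hKstH
    exact ⟨fun x hx hx1 y hy hy1 => (h3 x hx hx1 y hy hy1).2.2, h6⟩
  have hDec : Cfsg.Agent.Lib.Helper70.BG1369.StDec G := by
    intro H hH
    obtain ⟨⟨K, hK⟩, hcyc⟩ := Cfsg.Agent.S1351.result hG H hH
    obtain ⟨⟨U, hU⟩, _⟩ := Cfsg.Agent.S1352.result hG H hH K (hcyc K hK) hK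
    exact ⟨K, U, hU⟩
  exact Cfsg.Agent.Lib.Helper70.BG1379.s1379_of hG h33 h75 h32 h30a h31 h66 h67 h34 hDec

end Cfsg.Agent.S1379
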