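import Cfsg.Statements.S1383
import Cfsg.Agent.Lib.Helper24.BG152C
import Cfsg.Agent.Lib.Helper50.BGTypes
import Cfsg.Agent.S1356
import Cfsg.Agent.Lib.Helper47.BG157L1
import Cfsg.Agent.Lib.Helper63.BG157L2
import Cfsg.Agent.Lib.Helper21.BG157B1
import Cfsg.Agent.Lib.Helper68.BG157L0
import Cfsg.Agent.Lib.Helper1.BG157L4b
import Cfsg.Agent.Lib.Helper91.BG157REV
import Cfsg.Agent.Lib.Helper91.BG157L4a

set_option autoImplicit false
open Cfsg

namespace Cfsg.Agent.S1383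

open Cfsg.Agent.Lib.Helper91.BG157 in
/-- Let G be a minimal simple group of odd order and M a maximal subgroup with standard factorisation M = K U M_σ. Then M is of Type V if and only if K ≠ 1, U = 1 and M_F = M_σ. -/
theorem result {G : Type*} [Group G] [Finite G] (hG : Cfsg.IsMinSimpleOddOrder G)
    (M : Subgroup G) (hM : IsCoatom M) (K U : Subgroup G) (hKU : Cfsg.IsSigmaDecomposition M K U) :
    Cfsg.IsOfTypeV M ↔ (K ≠ ⊥ ∧ U = ⊥ ∧ Cfsg.fittingHallOf M = Cfsg.sigmaCore M) := by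
  constructor
  · exact Cfsg.Agent.Lib.Helper91.BG157bak.of_typeV hG hM hKU
  · rintro ⟨hK1, hU, hF⟩
    have h65 := (Cfsg.Agent.S1365.result hG M hM K U hKU hK1).1
    have hM' : ⁅M, M⁆ = Cfsg.fittingHallOf M := by rw [h65, hU, bot_sup_eq, hF]
    have hUc : Cfsg.IsComplIn (Cfsg.fittingHallOf M) ⊥ ⁅M, M⁆ := by
      refine ⟨hM'.ge, bot_le, inf_bot_eq _, fun m hm => ⟨m, hM' ▸ hm, 1, Subgroup.mem_bot.2 rfl, (mul_one m).symm⟩⟩
    have hP := Cfsg.Agent.Lib.Helper50.BGTypes.typeP_of hG hM hKU hK1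
      (Cfsg.Agent.S1356.result hG M hM) (U' := ⊥) inferInstance
      (by
        intro k _
        rw [Subgroup.mem_normalizer_iff]
        intro n
        simp only [Subgroup.mem_bot]
        constructor
        · rintro rfl; simp
        · intro h
          have : n = k⁻¹ * (k * n * k⁻¹) * k := by group
          rw [this, h]; simp) hUc
    refine ⟨K, ⊥, _, hP, rfl, ?_⟩
    by_cases hTI : Cfsg.IsTISubset (Cfsg.fittingHallOf M : Set G)
    · exact Or.inl hTI
    right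
    have hnil : Group.IsNilpotent ↥(Cfsg.sigmaCore M) := by
      rw [← hF]; exact Cfsg.Agent.Lib.Helper24.BG152.c_fittingHallOf_isNilpotent M
    rw [hF] at hTI ⊢
    obtain ⟨x, hxH, hxp, hxβ, hxM⟩ := exists_bad_elt hG hM hTI
    have hx1 : x ≠ 1 := by
      intro h; rw [h, orderOf_one] at hxp; exact Nat.not_prime_one hxp
    obtain ⟨D, hDM, hD1, hD2, hD3⟩ := exists_D hG hM x hxH hx1 hxM
    have : Fact (orderOf x).Prime := ⟨hxp⟩
    have hHM : Cfsg.sigmaCore M ≤ M := Cfsg.Agent.Lib.Helper24.BG152.g_sigmaCore_le M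
    obtain ⟨hPna, hCc⟩ := abstract_B1 (Cfsg.sigmaCore M) D hnil
      (sigmaCore_not_comm hG hM hKU hK1 hU) (orderOf x) x hxH rfl
      (le_trans (inf_le_inf_right _ hHM) hD1) hD2
      (fun q B hq hB he hc => by
        obtain ⟨b, hb, hb1, hbD⟩ := hD3 q B hq (le_trans hB inf_le_right) he hc
        exact ⟨b, hb, hb1, le_trans (inf_le_inf_right _ hHM) hbD⟩)
    have hpdvd : orderOf x ∣ Nat.card ↥(Cfsg.sigmaCore M) := by
      have := orderOf_dvd_natCard (⟨x, hxH⟩ : ↥(Cfsg.sigmaCore M))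
      rwa [Subgroup.orderOf_mk] at this
    by_cases hr : Cfsg.PRankLE (orderOf x) 2 ↥(Cfsg.pCore (orderOf x) ↥(Cfsg.sigmaCore M))
    · rcases K_card_of_rank_le_two hG hM hKU hK1 hU hnil (orderOf x) hPna hr with h | ⟨h3, h⟩
      · exact Or.inl ⟨orderOf x, hxp, hpdvd, h, hCc⟩
      · exact Or.inr ⟨orderOf x, hxp, hpdvd, h3, h, hCc⟩
    · exact Or.inl ⟨orderOf x, hxp, hpdvd,
        K_card_of_rank_ge_three hG hM hKU hK1 hU hnil (orderOf x) hxβ hPna hr, hCc⟩

end Cfsg.Agent.S1383
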