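import Cfsg.Statements.S1386

set_option autoImplicit false
open Cfsg

namespace Cfsg.Agent.S1386

theorem cyclic_subgroup_eq_of_card_eq {C : Type*} [Group C] [Finite C] [IsCyclic C]
    (H K : Subgroup C) (h : Nat.card H = Nat.card K) : H = K := by
  classical
  have : Fintype C := Fintype.ofFinite C
  have key : ∀ L : Subgroup C, (L : Set C) = {g : C | g ^ Nat.card L = 1} := by
    intro L
    have hpos : 0 < Nat.card L := Nat.card_pos
    have hsub : (L : Set C) ⊆ {g : C | g ^ Nat.card L = 1} := by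
      intro g hg
      have h1 : (⟨g, hg⟩ : L) ^ Nat.card L = 1 := pow_card_eq_one'
      have h2 : ((⟨g, hg⟩ : L) ^ Nat.card L : L).1 = (1 : L).1 := by rw [h1]
      rw [Subgroup.coe_pow] at h2
      exact h2
    apply Set.eq_of_subset_of_ncard_le hsub _ (Set.toFinite _)
    have h1 : Set.ncard {g : C | g ^ Nat.card L = 1} ≤ Nat.card L := by
      have := IsCyclic.card_pow_eq_one_le (α := C) hpos
      rw [Set.ncard_eq_toFinset_card']
      convert this using 2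
      ext x
      simp
    have h2 : Set.ncard (L : Set C) = Nat.card L := by
      rw [← Nat.card_coe_set_eq]; rfl
    omega
  apply SetLike.coe_injective
  rw [key H, key K, h]

open scoped Pointwise in
theorem compl_unique_of_cyclic {G : Type*} [Group G] [Finite G] (A B B' : Subgroup G)
    (hc : IsCyclic ↥(A ⊔ B)) (h : A ⊔ B = A ⊔ B') (hd : A ⊓ B = ⊥) (hd' : A ⊓ B' = ⊥) :
    B = B' := by
  have hA : A ≤ A ⊔ B := le_sup_left
  have hB : B ≤ A ⊔ B := le_sup_right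
  have hB' : B' ≤ A ⊔ B := h ▸ le_sup_right
  have hcomm : IsMulCommutative ↥(A ⊔ B) := hc.isMulCommutative
  have hcard : ∀ D : Subgroup G, D ≤ A ⊔ B → A ⊔ D = A ⊔ B → A ⊓ D = ⊥ →
      Nat.card (A.subgroupOf (A ⊔ B)) * Nat.card (D.subgroupOf (A ⊔ B)) = Nat.card ↥(A ⊔ B) := by
    intro D hD hsup hdisj
    have hnormal : (A.subgroupOf (A ⊔ B)).Normal := inferInstance
    have h1 : A.subgroupOf (A ⊔ B) ⊔ D.subgroupOf (A ⊔ B) = ⊤ := by
      rw [← Subgroup.subgroupOf_sup hA hD, hsup, Subgroup.subgroupOf_self]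
    have h2 : Disjoint (A.subgroupOf (A ⊔ B)) (D.subgroupOf (A ⊔ B)) := by
      rw [disjoint_iff]
      ext ⟨y, hy⟩
      simp only [Subgroup.mem_inf, Subgroup.mem_subgroupOf, Subgroup.mem_bot]
      constructor
      · rintro ⟨ha, hd⟩
        have : y ∈ A ⊓ D := ⟨ha, hd⟩
        rw [hdisj, Subgroup.mem_bot] at this
        exact Subtype.ext this
      · intro h
        have : y = 1 := congrArg Subtype.val h
        subst this
        exact ⟨one_mem _, one_mem _⟩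
    have h3 : ((A.subgroupOf (A ⊔ B) : Subgroup ↥(A ⊔ B)) : Set ↥(A ⊔ B)) * (D.subgroupOf (A ⊔ B) : Set ↥(A ⊔ B)) = Set.univ := by
      rw [← Subgroup.normal_mul, h1]; rfl
    exact (Subgroup.isComplement'_of_disjoint_and_mul_eq_univ h2 h3).card_mul_card
  have e1 := hcard B hB rfl hd
  have e2 := hcard B' hB' h.symm hd'
  have hpos : 0 < Nat.card (A.subgroupOf (A ⊔ B)) := Nat.card_pos
  have e3 : Nat.card (B.subgroupOf (A ⊔ B)) = Nat.card (B'.subgroupOf (A ⊔ B)) := by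
    have := e1.trans e2.symm
    exact Nat.eq_of_mul_eq_mul_left hpos this
  have e4 := cyclic_subgroup_eq_of_card_eq _ _ e3
  rw [Subgroup.subgroupOf_inj] at e4
  rwa [inf_eq_left.mpr hB, inf_eq_left.mpr hB'] at e4

theorem result {G : Type*} [Group G] [Finite G] (W₁ W₂ S U W₂' : Subgroup G) (hW : Cfsg.IsSelfNormalizingCyclic W₁ W₂)
    (hSW : Cfsg.IsComplIn ⁅S, S⁆ W₁ S) (hW₂S : W₂ ≤ S) (hP : Cfsg.IsTypePWith S W₁ U W₂') :
    W₂' = W₂ := by
  obtain ⟨hW1ne, hW2ne, hdisj, hcomm, hcyc, hnorm⟩ := hW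
  obtain ⟨hS'S, hW1S, hS'W1, hprod⟩ := hSW
  obtain ⟨hW1ne', hW2ne', hdisj', hcomm', hcyc', hnorm'⟩ := hP.selfNormalizing
  obtain ⟨⟨x, hx⟩, hx1⟩ := (Subgroup.ne_bot_iff_exists_ne_one).mp hW1ne
  obtain ⟨⟨w, hw⟩, hw1⟩ := (Subgroup.ne_bot_iff_exists_ne_one).mp hW2ne
  have hx1' : x ≠ 1 := fun h => hx1 (Subtype.ext h)
  have hw1' : w ≠ 1 := fun h => hw1 (Subtype.ext h)
  -- commutativity of W and W'
  have hWcomm : ∀ a ∈ W₁ ⊔ W₂, ∀ b ∈ W₁ ⊔ W₂, a * b = b * a := by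
    intro a ha b hb
    have := isMulCommutative_iff.mp hcyc.isMulCommutative ⟨a, ha⟩ ⟨b, hb⟩
    exact congrArg Subtype.val this
  have hW'comm : ∀ a ∈ W₁ ⊔ W₂', ∀ b ∈ W₁ ⊔ W₂', a * b = b * a := by
    intro a ha b hb
    have := isMulCommutative_iff.mp hcyc'.isMulCommutative ⟨a, ha⟩ ⟨b, hb⟩
    exact congrArg Subtype.val this
  have hxW : x ∈ W₁ ⊔ W₂ := (le_sup_left : W₁ ≤ W₁ ⊔ W₂) hx
  have hwW : w ∈ W₁ ⊔ W₂ := (le_sup_right : W₂ ≤ W₁ ⊔ W₂) hw
  have hxwW : x * w ∈ W₁ ⊔ W₂ := mul_mem hxW hwW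
  -- normalizer of {x*w}
  have hN : Subgroup.normalizer ({x * w} : Set G) = W₁ ⊔ W₂ := by
    apply hnorm
    · intro y hy
      rw [Set.mem_singleton_iff] at hy
      subst hy
      refine ⟨hxwW, ?_⟩
      rintro (h | h)
      · have : w ∈ W₁ := by
          have := mul_mem (inv_mem hx) h
          simpa using this
        have : w ∈ W₁ ⊓ W₂ := ⟨this, hw⟩
        rw [hdisj] at this
        exact hw1' (Subgroup.mem_bot.mp this)
      · have : x ∈ W₂ := by
          have := mul_mem h (inv_mem hw)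
          simpa using this
        have : x ∈ W₁ ⊓ W₂ := ⟨hx, this⟩
        rw [hdisj] at this
        exact hx1' (Subgroup.mem_bot.mp this)
    · exact ⟨_, rfl⟩
  -- W₂ ≤ W₁ ⊔ W₂'
  have hW2le : W₂ ≤ W₁ ⊔ W₂' := by
    intro v hv
    obtain ⟨a, ha, b, hb, hvab⟩ := hprod v (hW₂S hv)
    have hbW : b ∈ W₁ ⊔ W₂ := (le_sup_left : W₁ ≤ W₁ ⊔ W₂) hb
    have hvW : v ∈ W₁ ⊔ W₂ := (le_sup_right : W₂ ≤ W₁ ⊔ W₂) hv
    have haeq : a = v * b⁻¹ := by rw [hvab]; group
    have haW : a ∈ W₁ ⊔ W₂ := by rw [haeq]; exact mul_mem hvW (inv_mem hbW)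
    have hax : a ∈ Subgroup.centralizer ({x} : Set G) := by
      rw [Subgroup.mem_centralizer_iff]
      intro y hy
      rw [Set.mem_singleton_iff] at hy
      subst hy
      exact hWcomm _ hxW _ haW
    have haW2' : a ∈ W₂' := by
      rw [← hP.W₂_centralizer x hx hx1']
      exact ⟨ha, hax⟩
    rw [hvab]
    exact mul_mem ((le_sup_right : W₂' ≤ W₁ ⊔ W₂') haW2') ((le_sup_left : W₁ ≤ W₁ ⊔ W₂') hb)
  have hWle : W₁ ⊔ W₂ ≤ W₁ ⊔ W₂' := sup_le le_sup_left hW2le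
  have hW'le : W₁ ⊔ W₂' ≤ W₁ ⊔ W₂ := by
    intro y hy
    rw [← hN, Subgroup.mem_set_normalizer_iff]
    intro z
    simp only [Set.mem_singleton_iff]
    have hc : y * (x * w) = (x * w) * y := hW'comm _ hy _ (hWle hxwW)
    constructor
    · intro hz
      subst hz
      rw [hc]; group
    · intro hz
      have : z = y⁻¹ * (x * w) * y := by rw [← hz]; group
      rw [this, mul_assoc, ← hc]; group
  have hWeq : W₁ ⊔ W₂ = W₁ ⊔ W₂' := le_antisymm hWle hW'le
  exact (compl_unique_of_cyclic W₁ W₂ W₂' hcyc hWeq hdisj hdisj').symm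

end Cfsg.Agent.S1386
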