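import Cfsg.Statements.S1387
import Cfsg.Agent.Lib.Helper23.TypeP

set_option autoImplicit false
open Cfsg

namespace Cfsg.Agent.S1387

open Cfsg.Agent.Lib.Helper23

/-- Let M be a subgroup of a finite group G with type-P data (W₁, U, W₂) and H = M_F. Then the Fitting subgroup F(M) is generated by H and the centralizer of H in U. -/
theorem result {G : Type*} [Group G] [Finite G] (M W₁ U W₂ : Subgroup G) (hP : Cfsg.IsTypePWith M W₁ U W₂) :
    Cfsg.fittingOf M = Cfsg.fittingHallOf M ⊔ (U ⊓ Subgroup.centralizer (Cfsg.fittingHallOf M : Set G)) := by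
  have hMM : ⁅M, M⁆ ≤ M := by
    rw [Subgroup.commutator_le]
    intro a ha b hb
    exact M.mul_mem (M.mul_mem (M.mul_mem ha hb) (M.inv_mem ha)) (M.inv_mem hb)
  have hcompl := hP.U_compl
  obtain ⟨hH, hU, hd, hp⟩ := hcompl
  have hcop := coprime_card_of_compl M U ⁅M, M⁆ hMM hP.U_compl
  rw [← hP.fitting_eq]
  apply le_antisymm
  · apply sup_le le_sup_left
    intro c hc
    have hcF : c ∈ fittingOf M := by
      rw [← hP.fitting_eq]; exact (le_sup_right : _ ≤ fittingHallOf M ⊔ _) hc
    obtain ⟨h, hh, u, hu, rfl⟩ := hp c (hP.fitting_le hcF)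
    have hhc := mem_centralizer_of_mul_mem (fittingHallOf M) U hcop h u hh hu hc.2
    have huc : u ∈ Subgroup.centralizer (fittingHallOf M : Set G) := by
      have : u = h⁻¹ * (h * u) := by group
      rw [this]
      exact Subgroup.mul_mem _ (Subgroup.inv_mem _ hhc) hc.2
    exact Subgroup.mul_mem _ ((le_sup_left : fittingHallOf M ≤ _) hh)
      ((le_sup_right : _ ≤ fittingHallOf M ⊔ _) ⟨hu, huc⟩)
  · apply sup_le le_sup_left
    refine le_trans ?_ le_sup_right
    intro x hx
    exact ⟨hMM (hU hx.1), hx.2⟩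

end Cfsg.Agent.S1387
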