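import Cfsg.Statements.S1388
import Cfsg.Agent.S1387

set_option autoImplicit false
open Cfsg

namespace Cfsg.Agent.S1388

open Cfsg.Agent.Lib.Helper23

theorem fittingHallOf_normalizer {G : Type*} [Group G] (M : Subgroup G) :
    M ≤ Subgroup.normalizer (fittingHallOf M : Set G) := by
  have key : ∀ m ∈ M, ∀ x ∈ fittingHallOf M, m * x * m⁻¹ ∈ fittingHallOf M := by
    intro m hm x hx
    obtain ⟨y, hy, rfl⟩ := Subgroup.mem_map.mp hx
    refine Subgroup.mem_map.mpr ⟨⟨m, hm⟩ * y * ⟨m, hm⟩⁻¹, ?_, rfl⟩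
    exact (fittingHall_normal M).conj_mem y hy ⟨m, hm⟩
  intro m hm
  rw [Subgroup.mem_normalizer_iff]
  intro x
  constructor
  · exact key m hm x
  · intro hx
    have := key m⁻¹ (M.inv_mem hm) _ hx
    have e : m⁻¹ * (m * x * m⁻¹) * m⁻¹⁻¹ = x := by group
    rwa [e] at this

open scoped Pointwise commutatorElement in
/-- Let M be a subgroup of a finite group G with type-P data (W₁, U, W₂) and H = M_F. Then the derived subgroup of U centralizes H, and if U ≠ 1 then U does not centralize H. -/
theorem result {G : Type*} [Group G] [Finite G] (M W₁ U W₂ : Subgroup G) (hP : Cfsg.IsTypePWith M W₁ U W₂) :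
    ⁅U, U⁆ ≤ Subgroup.centralizer (Cfsg.fittingHallOf M : Set G) ∧ (U ≠ ⊥ → ¬ U ≤ Subgroup.centralizer (Cfsg.fittingHallOf M : Set G)) := by
  have hMM : ⁅M, M⁆ ≤ M := by
    rw [Subgroup.commutator_le]
    intro a ha b hb
    exact M.mul_mem (M.mul_mem (M.mul_mem ha hb) (M.inv_mem ha)) (M.inv_mem hb)
  obtain ⟨hH, hU, hd, hp⟩ := hP.U_compl
  have hUM : U ≤ M := hU.trans hMM
  have hcop := coprime_card_of_compl M U ⁅M, M⁆ hMM hP.U_compl
  have hF := Cfsg.Agent.S1387.result M W₁ U W₂ hP
  constructor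
  · -- first part
    intro y hy
    have hyU : y ∈ U := by
      have : ⁅U, U⁆ ≤ U := by
        rw [Subgroup.commutator_le]
        intro a ha b hb
        exact U.mul_mem (U.mul_mem (U.mul_mem ha hb) (U.inv_mem ha)) (U.inv_mem hb)
      exact this hy
    have hy2 : y ∈ ⁅⁅M, M⁆, ⁅M, M⁆⁆ := Subgroup.commutator_mono hU hU hy
    have hy3 : y ∈ fittingHallOf M ⊔ (U ⊓ Subgroup.centralizer (fittingHallOf M : Set G)) := by
      rw [← hF, ← hP.fitting_eq]
      exact hP.derived_two_le hy2
    have hnorm : U ⊓ Subgroup.centralizer (fittingHallOf M : Set G) ≤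
        Subgroup.normalizer (fittingHallOf M : Set G) :=
      (inf_le_left.trans hUM).trans (fittingHallOf_normalizer M)
    have hy4 : y ∈ ((fittingHallOf M : Set G) * ((U ⊓ Subgroup.centralizer (fittingHallOf M : Set G) : Subgroup G) : Set G)) := by
      rw [← Subgroup.coe_mul_of_right_le_normalizer_left _ _ hnorm]
      exact hy3
    obtain ⟨h, hh, k, hk, rfl⟩ := Set.mem_mul.mp hy4
    have hhU : h ∈ U := by
      have : h = h * k * k⁻¹ := by group
      rw [this]
      exact U.mul_mem hyU (U.inv_mem hk.1)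
    have h1 : h ∈ fittingHallOf M ⊓ U := ⟨hh, hhU⟩
    rw [hd, Subgroup.mem_bot] at h1
    rw [h1, one_mul]
    exact hk.2
  · -- second part
    intro hUne hUc
    apply hUne
    -- U is normalized by M
    have hM'norm : ∀ m ∈ M, ∀ x ∈ ⁅M, M⁆, m * x * m⁻¹ ∈ ⁅M, M⁆ := by
      intro m hm x hx
      have : m * x * m⁻¹ = ⁅m, x⁆ * x := by rw [commutatorElement_def]; group
      rw [this]
      exact Subgroup.mul_mem _ (Subgroup.commutator_mem_commutator hm (hMM hx)) hx
    have hUnorm : ∀ m ∈ M, ∀ u ∈ U, m * u * m⁻¹ ∈ U := by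
      intro m hm u hu
      obtain ⟨h, hh, u', hu', he⟩ := hp _ (hM'norm m hm u (hU hu))
      have hcomm : Commute h u' := by
        have := (Subgroup.mem_centralizer_iff.mp (hUc hu')) h hh
        exact this
      have e1 : (m * u * m⁻¹) ^ Nat.card U = 1 := by
        have : (m * u * m⁻¹) ^ Nat.card U = m * u ^ Nat.card U * m⁻¹ := conj_pow
        rw [this, orderOf_dvd_iff_pow_eq_one.mp (U.orderOf_dvd_natCard hu)]
        group
      have e2 : (h * u') ^ Nat.card U = h ^ Nat.card U := by
        rw [hcomm.mul_pow, orderOf_dvd_iff_pow_eq_one.mp (U.orderOf_dvd_natCard hu'), mul_one]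
      rw [he, e2] at e1
      have hco : (Nat.card U).Coprime (orderOf h) :=
        (hcop.coprime_dvd_left ((fittingHallOf M).orderOf_dvd_natCard hh)).symm
      obtain ⟨j, hj⟩ := exists_pow_eq_self_of_coprime hco
      rw [e1, one_pow] at hj
      rw [he, ← hj, one_mul]
      exact hu'
    -- counting
    have c1 := card_isComplIn hP.U_compl
    have c2 := card_isComplIn hP.W₁_compl
    have hW1M : W₁ ≤ M := hP.W₁_compl.2.1
    have c3 : W₁.relIndex M = Nat.card ↥⁅M, M⁆ := by
      have := Subgroup.relIndex_mul_relIndex (⊥ : Subgroup G) W₁ M bot_le hW1M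
      rw [Subgroup.relIndex_bot_left, Subgroup.relIndex_bot_left] at this
      have hpos : 0 < Nat.card W₁ := Nat.card_pos
      apply Nat.eq_of_mul_eq_mul_left hpos
      rw [this, ← c2, mul_comm]
    have hcopW : (Nat.card U).Coprime (Nat.card W₁) := by
      have := hP.W₁_hall
      rw [c3, ← c1] at this
      exact (Nat.Coprime.coprime_mul_left_right this).symm
    -- the subgroup of M
    have hsn : (U.subgroupOf M).Normal := by
      constructor
      intro x hx g
      rw [Subgroup.mem_subgroupOf] at hx ⊢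
      exact hUnorm g.1 g.2 x.1 hx
    have hsnil : Group.IsNilpotent (U.subgroupOf M) :=
      (Group.isNilpotent_congr (Subgroup.subgroupOfEquivOfLe hUM)).mpr hP.U_nilpotent
    have hscard : Nat.card (U.subgroupOf M) = Nat.card U :=
      Nat.card_congr (Subgroup.subgroupOfEquivOfLe hUM).toEquiv
    have hsidx : (U.subgroupOf M).index = Nat.card (fittingHallOf M) * Nat.card W₁ := by
      have h1 := (U.subgroupOf M).card_mul_index
      rw [hscard, ← c2, ← c1] at h1
      have hpos : 0 < Nat.card U := Nat.card_pos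
      apply Nat.eq_of_mul_eq_mul_left hpos
      rw [h1]; ring
    have hshall : (Nat.card (U.subgroupOf M)).Coprime (U.subgroupOf M).index := by
      rw [hscard, hsidx]
      exact Nat.Coprime.mul_right hcop.symm hcopW
    have hle : U.subgroupOf M ≤ fittingHall M := le_sSup ⟨hsn, hsnil, hshall⟩
    have hUH : U ≤ fittingHallOf M := by
      intro u hu
      exact Subgroup.mem_map.mpr ⟨⟨u, hUM hu⟩, hle (Subgroup.mem_subgroupOf.mpr hu), rfl⟩
    rw [eq_bot_iff, ← hd]
    exact le_inf hUH le_rfl

end Cfsg.Agent.S1388
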