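import Cfsg.Statements.S1441

set_option autoImplicit false
open Cfsg
open scoped commutatorElement

namespace Cfsg.Agent.S1441

/-- If `a * x * a⁻¹ = x * k` and `a` commutes with `k`, then `a^m * x * a^(-m) = x * k^m`. -/
theorem conj_pow_eq {G : Type*} [Group G] (a x k : G) (h : a * x * a⁻¹ = x * k)
    (hk : a * k = k * a) (m : ℕ) : a ^ m * x * (a ^ m)⁻¹ = x * k ^ m := by
  induction m with
  | zero => simp
  | succ m ih =>
    have h1 : a ^ (m + 1) * x * (a ^ (m + 1))⁻¹ = a * (a ^ m * x * (a ^ m)⁻¹) * a⁻¹ := by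
      rw [pow_succ']; group
    rw [h1, ih]
    have h2 : a * (x * k ^ m) * a⁻¹ = (a * x * a⁻¹) * (a * k ^ m * a⁻¹) := by group
    rw [h2, h]
    have h3 : a * k ^ m * a⁻¹ = k ^ m := by
      have : Commute a (k ^ m) := (show Commute a k from hk).pow_right m
      rw [this.eq]; group
    rw [h3, pow_succ', mul_assoc]

/-- Key step: if `a * x * a⁻¹ = x * k`, `a` commutes with `k` and the orders of `a`, `k` are coprime,
then `k = 1`. -/
theorem eq_one_of_coprime {G : Type*} [Group G] (a x k : G) (h : a * x * a⁻¹ = x * k)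
    (hk : a * k = k * a) (N : ℕ) (hkN : k ^ N = 1) (hcop : (orderOf a).Coprime N) : k = 1 := by
  have h1 := conj_pow_eq a x k h hk (orderOf a)
  rw [pow_orderOf_eq_one] at h1
  simp at h1
  have h2 : orderOf k ∣ orderOf a := orderOf_dvd_of_pow_eq_one h1
  have h3 : orderOf k ∣ N := orderOf_dvd_of_pow_eq_one hkN
  have h4 : orderOf k ∣ 1 := by
    have := Nat.dvd_gcd h2 h3
    rwa [hcop] at this
  exact orderOf_eq_one_iff.mp (Nat.dvd_one.mp h4)

/-- Let G be a finite group, H a solvable subgroup and A a subgroup normalizing H. Suppose there is a chain H = H₀ ≥ H₁ ≥ ⋯ ≥ H_n = 1 of subgroups normal in H and normalized by A such that A acts trivially on each factor H_{i-1}/H_i (that is, [H_{i-1}, A] ≤ H_i). Then every prime dividing the index of C_A(H) in A divides the order of H. -/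
theorem result {G : Type*} [Group G] [Finite G] (H A : Subgroup G) (hH : Group.IsSolvable H) (hA : (A ≤ Subgroup.normalizer (H : Set G)))
    (n : ℕ) (c : Fin (n + 1) → Subgroup G) (hc0 : c 0 = H) (hcn : c (Fin.last n) = ⊥) (hanti : Antitone c)
    (hcN : ∀ i, H ≤ Subgroup.normalizer ((c i : Subgroup G) : Set G)) (hcA : ∀ i, A ≤ Subgroup.normalizer ((c i : Subgroup G) : Set G))
    (htriv : ∀ i : Fin n, ⁅c i.castSucc, A⁆ ≤ c i.succ) :
    ∀ p : ℕ, p.Prime → p ∣ (A ⊓ Subgroup.centralizer (H : Set G)).relIndex A → p ∣ Nat.card H := by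
  intro p hp hdvd
  by_contra hnd
  have : Fact p.Prime := ⟨hp⟩
  have hcopH : p.Coprime (Nat.card H) := (Nat.Prime.coprime_iff_not_dvd hp).mpr hnd
  -- every element of A of order coprime to |H| centralizes each c i
  have key : ∀ a ∈ A, (orderOf a).Coprime (Nat.card H) → ∀ i : Fin (n + 1), ∀ x ∈ c i, a * x = x * a := by
    intro a ha hcop
    intro i
    induction i using Fin.reverseInduction with
    | last =>
      intro x hx
      rw [hcn, Subgroup.mem_bot] at hx
      subst hx; simp
    | cast i ih =>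
      intro x hx
      -- k = x⁻¹ * a * x * a⁻¹
      have hxinv : x⁻¹ ∈ c i.castSucc := inv_mem hx
      have hk : ⁅x⁻¹, a⁆ ∈ c i.succ := htriv i (Subgroup.commutator_mem_commutator hxinv ha)
      set k := ⁅x⁻¹, a⁆ with hkdef
      have hkH : k ∈ H := by
        have : c i.succ ≤ c 0 := hanti (Fin.zero_le _)
        rw [hc0] at this
        exact this hk
      have hak : a * k = k * a := ih k hk
      have hconj : a * x * a⁻¹ = x * k := by
        rw [hkdef, commutatorElement_def]; group
      have hkN : k ^ Nat.card H = 1 := by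
        have h1 : (⟨k, hkH⟩ : H) ^ Nat.card H = 1 := pow_card_eq_one'
        have h2 : ((⟨k, hkH⟩ : H) ^ Nat.card H : H).1 = (1 : H).1 := by rw [h1]
        exact h2
      have hk1 : k = 1 := eq_one_of_coprime a x k hconj hak _ hkN hcop
      rw [hk1, mul_one] at hconj
      calc a * x = a * x * a⁻¹ * a := by group
        _ = x * a := by rw [hconj]
  -- a Sylow p-subgroup of A lies in the centralizer
  obtain ⟨Q⟩ : Nonempty (Sylow p A) := inferInstance
  have hQle : (Q : Subgroup A) ≤ (A ⊓ Subgroup.centralizer (H : Set G)).subgroupOf A := by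
    intro a haQ
    rw [Subgroup.mem_subgroupOf]
    refine ⟨a.2, ?_⟩
    change (a : G) ∈ Subgroup.centralizer (H : Set G)
    rw [Subgroup.mem_centralizer_iff]
    intro x hx
    have hord : (orderOf (a : G)).Coprime (Nat.card H) := by
      obtain ⟨k, hk⟩ := (Q.2 : IsPGroup p (Q : Subgroup A)) ⟨a, haQ⟩
      have h1 : orderOf (a : G) ∣ p ^ k := by
        apply orderOf_dvd_of_pow_eq_one
        have := congrArg (fun z : (Q : Subgroup A) => ((z : A) : G)) hk
        simpa using this
      exact Nat.Coprime.coprime_dvd_left h1 (Nat.Coprime.pow_left k hcopH)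
    have := key a a.2 hord 0 x (by rw [hc0]; exact hx)
    exact this.symm
  have h1 : ((A ⊓ Subgroup.centralizer (H : Set G)).subgroupOf A).index ∣ (Q : Subgroup A).index :=
    Subgroup.index_dvd_of_le hQle
  have h2 : ¬ p ∣ (Q : Subgroup A).index := Sylow.not_dvd_index Q
  exact h2 (dvd_trans hdvd h1)

end Cfsg.Agent.S1441
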