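import Cfsg.Statements.S1442
import Cfsg.Agent.S1441

set_option autoImplicit false
open Cfsg
open scoped commutatorElement

namespace Cfsg.Agent.S1442

/-- Let G be a finite group, H a nilpotent subgroup and A a subgroup normalizing H with the orders of A and H coprime. Put C = H ∩ C_G(A). If H ∩ C_G(C) ≤ C then A centralizes H. -/
theorem result {G : Type*} [Group G] [Finite G] (H A : Subgroup G) (hH : Group.IsNilpotent H) (hA : (A ≤ Subgroup.normalizer (H : Set G))) (hcop : (Nat.card A).Coprime (Nat.card H))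
    (hC : H ⊓ Subgroup.centralizer (((H ⊓ Subgroup.centralizer (A : Set G)) : Subgroup G) : Set G) ≤ (H ⊓ Subgroup.centralizer (A : Set G))) :
    A ≤ Subgroup.centralizer (H : Set G) := by
  set C : Subgroup G := H ⊓ Subgroup.centralizer (A : Set G) with hCdef
  -- membership facts
  have hCH : C ≤ H := inf_le_left
  have hCA : ∀ c ∈ C, ∀ a ∈ A, a * c = c * a := by
    intro c hc a ha
    have h0 : c ∈ Subgroup.centralizer (A : Set G) := hc.2
    rw [Subgroup.mem_centralizer_iff] at h0
    exact h0 a ha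
  -- it suffices to show C = H
  suffices hCeq : C.subgroupOf H = ⊤ by
    intro a ha
    rw [Subgroup.mem_centralizer_iff]
    intro h hh
    have : (⟨h, hh⟩ : H) ∈ C.subgroupOf H := by rw [hCeq]; trivial
    rw [Subgroup.mem_subgroupOf] at this
    exact (hCA h this a ha).symm
  have hnc := (normalizerCondition_iff_only_full_group_self_normalizing (G := H)).mp
    Group.normalizerCondition_of_isNilpotent
  apply hnc
  apply le_antisymm _ Subgroup.le_normalizer
  intro n hn
  rw [Subgroup.mem_subgroupOf]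
  -- n normalizes C inside H
  have hnN : ∀ c : G, c ∈ C → (n : G) * c * (n : G)⁻¹ ∈ C ∧ (n : G)⁻¹ * c * (n : G) ∈ C := by
    intro c hc
    have hcH : c ∈ H := hCH hc
    have h1 := (Subgroup.mem_normalizer_iff.mp hn) ⟨c, hcH⟩
    have h2 := (Subgroup.mem_normalizer_iff'.mp hn) ⟨c, hcH⟩
    constructor
    · have : (⟨c, hcH⟩ : H) ∈ C.subgroupOf H := by rw [Subgroup.mem_subgroupOf]; exact hc
      have := h1.mp this
      rw [Subgroup.mem_subgroupOf] at this
      simpa using this
    · have : (⟨c, hcH⟩ : H) ∈ C.subgroupOf H := by rw [Subgroup.mem_subgroupOf]; exact hc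
      have h3 := (Subgroup.mem_normalizer_iff.mp (inv_mem hn)) ⟨c, hcH⟩
      have := h3.mp this
      rw [Subgroup.mem_subgroupOf] at this
      simpa using this
  refine ⟨n.2, ?_⟩
  change (n : G) ∈ Subgroup.centralizer (A : Set G)
  rw [Subgroup.mem_centralizer_iff]
  intro a ha
  -- k = ⁅n, a⁆
  set x : G := (n : G)⁻¹ with hx
  set k : G := ⁅(n : G), a⁆ with hk
  have hconj : a * x * a⁻¹ = x * k := by
    rw [hk, hx, commutatorElement_def]; group
  have haN := hA ha
  have hkH : k ∈ H := by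
    rw [hk, commutatorElement_def]
    have h1 : a * (n : G)⁻¹ * a⁻¹ ∈ H := by
      have := (Subgroup.mem_normalizer_iff.mp haN ((n : G)⁻¹)).mp (inv_mem n.2)
      exact this
    have : (n : G) * a * (n : G)⁻¹ * a⁻¹ = (n : G) * (a * (n : G)⁻¹ * a⁻¹) := by group
    rw [this]
    exact mul_mem n.2 h1
  have hkC : k ∈ C := by
    apply hC
    refine ⟨hkH, ?_⟩
    change k ∈ Subgroup.centralizer (C : Set G)
    rw [Subgroup.mem_centralizer_iff]
    intro c hc
    -- show c * k = k * c
    have hc' : (n : G)⁻¹ * c * (n : G) ∈ C := (hnN c hc).2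
    have e1 : a * ((n : G)⁻¹ * c * (n : G)) = ((n : G)⁻¹ * c * (n : G)) * a := hCA _ hc' a ha
    have e2 : a * c = c * a := hCA c hc a ha
    rw [hk, commutatorElement_def]
    have e3 : a⁻¹ * c = c * a⁻¹ := by
      calc a⁻¹ * c = a⁻¹ * (c * a) * a⁻¹ := by group
        _ = a⁻¹ * (a * c) * a⁻¹ := by rw [e2]
        _ = c * a⁻¹ := by group
    calc c * ((n : G) * a * (n : G)⁻¹ * a⁻¹)
        = (n : G) * (((n : G)⁻¹ * c * (n : G)) * a) * (n : G)⁻¹ * a⁻¹ := by group
      _ = (n : G) * (a * ((n : G)⁻¹ * c * (n : G))) * (n : G)⁻¹ * a⁻¹ := by rw [e1]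
      _ = (n : G) * a * (n : G)⁻¹ * (c * a⁻¹) := by group
      _ = (n : G) * a * (n : G)⁻¹ * (a⁻¹ * c) := by rw [e3]
      _ = (n : G) * a * (n : G)⁻¹ * a⁻¹ * c := by group
  have hak : a * k = k * a := hCA k hkC a ha
  have hkN : k ^ Nat.card H = 1 := by
    have h1 : (⟨k, hkH⟩ : H) ^ Nat.card H = 1 := pow_card_eq_one'
    have h2 : ((⟨k, hkH⟩ : H) ^ Nat.card H : H).1 = (1 : H).1 := by rw [h1]
    exact h2
  have hord : (orderOf a).Coprime (Nat.card H) := by
    have h1 : orderOf a ∣ Nat.card A := by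
      have : orderOf (⟨a, ha⟩ : A) ∣ Nat.card A := orderOf_dvd_natCard _
      rwa [← Subgroup.orderOf_coe] at this
    exact Nat.Coprime.coprime_dvd_left h1 hcop
  have hk1 : k = 1 := Cfsg.Agent.S1441.eq_one_of_coprime a x k hconj hak _ hkN hord
  rw [hk1, mul_one] at hconj
  -- a commutes with x = n⁻¹, hence with n
  have e : a * x = x * a := by
    calc a * x = a * x * a⁻¹ * a := by group
      _ = x * a := by rw [hconj]
  rw [hx] at e
  calc a * (n : G) = (n : G) * ((n : G)⁻¹ * a) * (n : G) := by group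
    _ = (n : G) * (a * (n : G)⁻¹) * (n : G) := by rw [e]
    _ = (n : G) * a := by group

end Cfsg.Agent.S1442
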