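import Cfsg.Statements.S1455
import Cfsg.Agent.Lib.Helper32.NarrowSolv
import Cfsg.Agent.Lib.Helper19.PNil
import Cfsg.Agent.Lib.Helper54.PConstr1

set_option autoImplicit false
set_option linter.style.haveILetI false
open Cfsg

namespace Cfsg.Agent.S1455

open Cfsg.Agent.Lib.Helper32 Cfsg.Agent.Lib.Helper32.Narrow

/-- Let G be a solvable group of odd order, p a prime dividing its order, and S a Sylow p-subgroup of G that is narrow; if S has an elementary abelian subgroup of order p ^ 3 assume also G = O_{p',p,p'}(G). Then every prime dividing the index of O_{p'}(G) is at most p; if p = 3 or p is the smallest prime divisor of #G then G has a normal p-complement; G' has a normal p-complement; every subgroup of G' of order coprime to p lies in O_{p'}(G'); and G' ≤ O_{p',p}(G) with the index of O_{p',p}(G) coprime to p. -/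
theorem result {G : Type*} [Group G] [Finite G] [Group.IsSolvable G] (hodd : Odd (Nat.card G)) (p : ℕ) [Fact p.Prime] (hpG : p ∣ Nat.card G) (S : Sylow p G) (hS : Cfsg.IsNarrow p ↥(S : Subgroup G))
    (hpl : ¬ Cfsg.PRankLE p 2 ↥(S : Subgroup G) → Cfsg.PLengthLE p 1 G) :
    (∀ q : ℕ, q.Prime → q ∣ (Cfsg.pPrimeCore p G).index → q ≤ p) ∧
      ((p = 3 ∨ ∀ q : ℕ, q.Prime → q ∣ Nat.card G → p ≤ q) → Cfsg.HasNormalPComplement p G) ∧
      Cfsg.HasNormalPComplement p ↥(commutator G) ∧
      (∀ L : Subgroup ↥(commutator G), (Nat.card L).Coprime p → L ≤ Cfsg.pPrimeCore p ↥(commutator G)) ∧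
      commutator G ≤ Cfsg.pPrimePCore p G ∧ ((Cfsg.pPrimePCore p G).index).Coprime p := by
  have hp : p.Prime := Fact.out
  obtain ⟨hA, hB⟩ := narrow_sylow_quotient hodd p hpG S hS hpl
  have hKcop : (Nat.card (pPrimeCore p G)).Coprime p :=
    Cfsg.Agent.Lib.Helper55.pPrimeCore_card_coprime p
  have hidx : (pPrimeCore p G).index = Nat.card (G ⧸ pPrimeCore p G) :=
    Subgroup.index_eq_card _
  -- the derived subgroup of the quotient is a `p`-group inside `O_p`
  have hDp : IsPGroup p ↥(commutator (G ⧸ pPrimeCore p G)) := by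
    intro d
    obtain ⟨k, hk⟩ := hA d d.2
    exact ⟨k, Subtype.ext (by simpa using hk)⟩
  have hDle : commutator (G ⧸ pPrimeCore p G) ≤ pCore p (G ⧸ pPrimeCore p G) :=
    le_sSup (show commutator (G ⧸ pPrimeCore p G) ∈
      {N : Subgroup (G ⧸ pPrimeCore p G) | N.Normal ∧ IsPGroup p N} from ⟨inferInstance, hDp⟩)
  have hmapD : (commutator G).map (QuotientGroup.mk' (pPrimeCore p G)) ≤
      commutator (G ⧸ pPrimeCore p G) := by
    rw [_root_.commutator_def, Subgroup.map_commutator, _root_.commutator_def]
    exact Subgroup.commutator_mono le_top le_top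
  have hDmap : IsPGroup p ↥((commutator G).map (QuotientGroup.mk' (pPrimeCore p G))) :=
    hDp.to_le hmapD
  have hcop : (Nat.card ((pPrimeCore p G).subgroupOf (commutator G))).Coprime p := by
    let f : ↥((pPrimeCore p G).subgroupOf (commutator G)) →* ↥(pPrimeCore p G) :=
      { toFun := fun y => ⟨((y : ↥(commutator G)) : G), Subgroup.mem_subgroupOf.1 y.2⟩
        map_one' := rfl
        map_mul' := fun _ _ => rfl }
    have hf : Function.Injective f := by
      intro a b hab
      have := congrArg (fun t : ↥(pPrimeCore p G) => (t : G)) hab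
      exact Subtype.ext (Subtype.ext this)
    exact Nat.Coprime.coprime_dvd_left (Subgroup.card_dvd_of_injective f hf) hKcop
  refine ⟨?_, ?_, ?_, ?_, ?_, ?_⟩
  · intro q hq hqd
    rw [hidx] at hqd
    exact hB q hq hqd
  · intro hcase
    have hall : ∀ {d : ℕ}, d.Prime → d ∣ Nat.card (G ⧸ pPrimeCore p G) → d = p := by
      intro d hd hdd
      have hdle := hB d hd hdd
      have hdG : d ∣ Nat.card G := hdd.trans (Subgroup.card_quotient_dvd_card _)
      have hd2 : d ≠ 2 := by
        intro h2
        rw [h2] at hdG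
        exact (Nat.not_even_iff_odd.2 hodd) (even_iff_two_dvd.2 hdG)
      rcases hcase with h3 | hmin
      · have := hd.two_le
        omega
      · exact le_antisymm hdle (hmin d hd hdG)
    have hpow := Nat.eq_prime_pow_of_unique_prime_dvd (Nat.card_pos.ne') hall
    exact Cfsg.Agent.Lib.Helper19.hnpc_of_normal_hall (pPrimeCore p G) hKcop
      (k := (Nat.card (G ⧸ pPrimeCore p G)).primeFactorsList.length) (by rw [hidx]; exact hpow)
  · -- `G'` has a normal `p`-complement
    obtain ⟨k, hk⟩ := IsPGroup.iff_card.1 hDmap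
    have hrel : ((pPrimeCore p G).subgroupOf (commutator G)).index = p ^ k := by
      have h1 := Subgroup.relIndex_ker (commutator G) (QuotientGroup.mk' (pPrimeCore p G))
      rw [QuotientGroup.ker_mk'] at h1
      rw [← hk, ← h1]
      rfl
    exact Cfsg.Agent.Lib.Helper19.hnpc_of_normal_hall
      ((pPrimeCore p G).subgroupOf (commutator G)) hcop hrel
  · intro L hL
    have hle : L ≤ (pPrimeCore p G).subgroupOf (commutator G) := by
      intro l hl
      rw [Subgroup.mem_subgroupOf, ← QuotientGroup.eq_one_iff, ← orderOf_eq_one_iff]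
      have hmem : ((l : G) : G ⧸ pPrimeCore p G) ∈
          (commutator G).map (QuotientGroup.mk' (pPrimeCore p G)) := ⟨l, l.2, rfl⟩
      obtain ⟨m, hm⟩ := hDmap ⟨_, hmem⟩
      have hm' : ((l : G) : G ⧸ pPrimeCore p G) ^ (p ^ m) = 1 := by
        have := congrArg Subtype.val hm
        simpa using this
      have h1 : orderOf ((l : G) : G ⧸ pPrimeCore p G) ∣ p ^ m := orderOf_dvd_of_pow_eq_one hm'
      have h2 : orderOf ((l : G) : G ⧸ pPrimeCore p G) ∣ orderOf l := by
        have h3 : orderOf ((l : G) : G ⧸ pPrimeCore p G) ∣ orderOf (l : G) :=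
          orderOf_map_dvd (QuotientGroup.mk' (pPrimeCore p G)) (l : G)
        rwa [Subgroup.orderOf_coe] at h3
      have h3 : orderOf l ∣ Nat.card L := by
        have := orderOf_dvd_natCard (⟨l, hl⟩ : L)
        rwa [← Subgroup.orderOf_coe] at this
      have h4 : (orderOf ((l : G) : G ⧸ pPrimeCore p G)).Coprime (p ^ m) :=
        Nat.Coprime.pow_right m (Nat.Coprime.coprime_dvd_left (h2.trans h3) hL)
      exact Nat.Coprime.eq_one_of_dvd h4 h1
    exact hle.trans (le_sSup (show (pPrimeCore p G).subgroupOf (commutator G) ∈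
      {N : Subgroup ↥(commutator G) | N.Normal ∧ (Nat.card N).Coprime p} from
      ⟨inferInstance, hcop⟩))
  · intro d hd
    show QuotientGroup.mk' (pPrimeCore p G) d ∈ pCore p (G ⧸ pPrimeCore p G)
    exact hDle (hmapD (Subgroup.mem_map_of_mem _ hd))
  · have h1 := index_pCore_coprime_of_commutator_le p hDle
    have h2 : (pPrimePCore p G).index = (pCore p (G ⧸ pPrimeCore p G)).index :=
      Subgroup.index_comap_of_surjective _ (QuotientGroup.mk'_surjective _)
    rw [h2]
    exact h1

end Cfsg.Agent.S1455
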