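import Cfsg.Statements.S1456
import Cfsg.Agent.Lib.Helper32.NarrowApp

set_option autoImplicit false
set_option linter.style.haveILetI false
open Cfsg

namespace Cfsg.Agent.S1456

open Cfsg.Agent.Lib.Helper32 Cfsg.Agent.Lib.Helper32.FitDer Cfsg.Agent.Lib.Helper32.Narrow

/-- Let G be a solvable group of odd order, p a prime, and E an elementary abelian p-subgroup of the Fitting subgroup F(G) such that F(G) ∩ C_G(E) has no elementary abelian subgroup of order q ^ 3 for any prime q. Then the derived subgroup of G is contained in F(G). -/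
theorem result {G : Type*} [Group G] [Finite G] [Group.IsSolvable G] (hodd : Odd (Nat.card G)) (p : ℕ) [Fact p.Prime] (E : Subgroup G) (hE : E ≤ Cfsg.fittingSubgroup G) (hEe : Cfsg.IsElementaryAbelian p E)
    (hr : Cfsg.RankLE 2 ↥(Cfsg.fittingSubgroup G ⊓ Subgroup.centralizer (E : Set G))) :
    commutator G ≤ Cfsg.fittingSubgroup G := by
  have hp : p.Prime := Fact.out
  -- `E ≤ O_p(G)`
  have hEP : E ≤ pCore p G := by
    intro e he
    have h1 : e ^ (p ^ 1) = 1 := by rw [pow_one]; exact hEe.2 e he
    exact Cfsg.Agent.Lib.Helper21.bl_mem_pCore_of_mem_fitting (hE he) h1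
  apply le_fitting_of_forall_pow_mem_centralizer (commutator G)
  intro q hq
  haveI : Fact q.Prime := ⟨hq⟩
  by_cases hqp : q = p
  · subst hqp
    by_cases hrk : PRankLE q 2 ↥(pCore q G)
    · exact exists_pow_mem_centralizer_pCore_of_rank hodd q hq hrk
    · -- the narrow case
      have hq2 : q ≠ 2 := by
        intro h2
        apply hrk
        intro B _ _
        have hbot : pCore q G = ⊥ := by rw [h2]; exact pCore_two_eq_bot hodd
        have hle : Nat.card B ≤ Nat.card ↥(pCore q G) := Subgroup.card_le_card_group B
        have h1 : Nat.card ↥(pCore q G) = 1 := by rw [hbot]; exact Subgroup.card_bot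
        calc Nat.card B ≤ 1 := h1 ▸ hle
          _ ≤ q ^ 2 := Nat.one_le_pow _ _ hq.pos
      have hQ : IsPGroup q ↥(pCore q G) := Cfsg.Agent.Lib.Helper55.pCore_isPGroup q
      have hE' : IsElementaryAbelian q (E.subgroupOf (pCore q G)) := by
        refine ⟨⟨⟨fun a b => ?_⟩⟩, ?_⟩
        · apply Subtype.ext
          apply Subtype.ext
          have := hEe.1.is_comm.comm ⟨(a : G), Subgroup.mem_subgroupOf.1 a.2⟩
            ⟨(b : G), Subgroup.mem_subgroupOf.1 b.2⟩
          have h2 := congrArg Subtype.val this
          simpa using h2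
        · intro a ha
          apply Subtype.ext
          have := hEe.2 _ (Subgroup.mem_subgroupOf.1 ha)
          simpa using this
      have hCE : PRankLE q 2
          ↥(Subgroup.centralizer ((E.subgroupOf (pCore q G) : Subgroup ↥(pCore q G)) :
            Set ↥(pCore q G))) := by
        have hmem : ∀ g : ↥(Subgroup.centralizer ((E.subgroupOf (pCore q G) :
            Subgroup ↥(pCore q G)) : Set ↥(pCore q G))),
            ((g : ↥(pCore q G)) : G) ∈ fittingSubgroup G ⊓ Subgroup.centralizer (E : Set G) := by
          intro g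
          refine ⟨Cfsg.Agent.Lib.Helper54.pCore_le_fittingSubgroup q (g : ↥(pCore q G)).2, ?_⟩
          show ((g : ↥(pCore q G)) : G) ∈ Subgroup.centralizer (E : Set G)
          rw [Subgroup.mem_centralizer_iff]
          intro e he
          have h1 := Subgroup.mem_centralizer_iff.1 g.2 ⟨e, hEP he⟩
            (Subgroup.mem_subgroupOf.2 he)
          exact congrArg Subtype.val h1
        let f : ↥(Subgroup.centralizer ((E.subgroupOf (pCore q G) :
            Subgroup ↥(pCore q G)) : Set ↥(pCore q G))) →*
            ↥(fittingSubgroup G ⊓ Subgroup.centralizer (E : Set G)) :=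
          { toFun := fun g => ⟨((g : ↥(pCore q G)) : G), hmem g⟩
            map_one' := rfl
            map_mul' := fun _ _ => rfl }
        have hf : Function.Injective f := by
          intro a b hab
          have := congrArg (fun t : ↥(fittingSubgroup G ⊓ Subgroup.centralizer (E : Set G)) =>
            (t : G)) hab
          exact Subtype.ext (Subtype.ext this)
        exact Rank2.pRankLE_of_injective f hf (hr q hq)
      obtain ⟨x, hx, hC⟩ := exists_elt_of_elemAb q hQ hrk _ hE' hCE
      exact (narrow_normal_action q hq2 (pCore q G) hQ hrk x hx hC).1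
  · -- `q ≠ p`: `O_q(G) ≤ F(G) ∩ C_G(E)`
    have hQ : IsPGroup q ↥(pCore q G) := Cfsg.Agent.Lib.Helper55.pCore_isPGroup q
    have hPp : IsPGroup p ↥(pCore p G) := Cfsg.Agent.Lib.Helper55.pCore_isPGroup p
    have hdis : Disjoint (pCore q G) (pCore p G) :=
      IsPGroup.disjoint_of_ne q p hqp _ _ hQ hPp
    have hle : pCore q G ≤ fittingSubgroup G ⊓ Subgroup.centralizer (E : Set G) := by
      intro g hg
      refine ⟨Cfsg.Agent.Lib.Helper54.pCore_le_fittingSubgroup q hg, ?_⟩
      show g ∈ Subgroup.centralizer (E : Set G)
      rw [Subgroup.mem_centralizer_iff]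
      intro e he
      exact ((Subgroup.commute_of_normal_of_disjoint _ _ inferInstance inferInstance hdis
        g e hg (hEP he)).eq).symm
    have hRq : PRankLE q 2 ↥(pCore q G) :=
      Rank2.pRankLE_of_injective (Subgroup.inclusion hle) (Subgroup.inclusion_injective _)
        (hr q hq)
    exact exists_pow_mem_centralizer_pCore_of_rank hodd q hq hRq

end Cfsg.Agent.S1456
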