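import Cfsg.Statements.S1457
import Cfsg.Agent.Lib.Helper35.PStabMain
import Cfsg.Agent.Lib.Helper53.SolvPSolv
import Cfsg.Agent.Lib.Helper54.PConstr1
import Cfsg.Agent.Lib.Helper84.PCore

set_option autoImplicit false
open Cfsg

namespace Cfsg.Agent.S1457

open Cfsg.Agent.Lib.Helper35 Cfsg.Agent.Lib.Helper35.PStab Cfsg.Agent.Lib.Helper22
open scoped commutatorElement

/-- Let G be a solvable group of odd order, p a prime, S a Sylow p-subgroup of G and A an abelian subgroup of S normal in S. Then A ≤ O_{p',p}(G). -/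
theorem result {G : Type*} [Group G] [Finite G] [Group.IsSolvable G] (hodd : Odd (Nat.card G)) (p : ℕ) [Fact p.Prime] (S : Sylow p G) (A : Subgroup G) (hA : A ≤ (S : Subgroup G)) (hAc : IsMulCommutative A)
    (hAn : (S : Subgroup G) ≤ Subgroup.normalizer (A : Set G)) :
    A ≤ Cfsg.pPrimePCore p G := by
  by_cases hp : p = 2
  · -- the Sylow 2-subgroup of a group of odd order is trivial
    subst hp
    obtain ⟨n, hn⟩ := IsPGroup.iff_card.mp S.2
    have hdvd : Nat.card (S : Subgroup G) ∣ Nat.card G := Subgroup.card_subgroup_dvd_card _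
    have hn0 : n = 0 := by
      by_contra h
      have h2 : 2 ∣ Nat.card G := by
        refine dvd_trans ?_ hdvd
        rw [hn]
        exact dvd_pow_self 2 h
      exact (Nat.not_even_iff_odd.mpr hodd) (even_iff_two_dvd.mpr h2)
    rw [hn0, pow_zero] at hn
    have hSbot : (S : Subgroup G) = ⊥ := Subgroup.card_eq_one.mp hn
    rw [hSbot] at hA
    exact hA.trans bot_le
  · set O := pPrimeCore p G with hO
    have hOn : O.Normal := pPrimeCore_normal' p G
    set π := QuotientGroup.mk' O with hπ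
    have hπs : Function.Surjective π := QuotientGroup.mk'_surjective O
    have hker : (Nat.card π.ker).Coprime p := by
      rw [hπ, QuotientGroup.ker_mk']
      exact Cfsg.Agent.Lib.Helper55.pPrimeCore_card_coprime p
    have hObar : pPrimeCore p (G ⧸ O) = ⊥ := by
      have h1 := Cfsg.Agent.Lib.Helper54.comap_pPrimeCore p π hπs hker
      have h2 : (pPrimeCore p (G ⧸ O)).comap π = π.ker := by
        rw [h1, hπ, QuotientGroup.ker_mk']
      rw [eq_bot_iff]
      intro x hx
      obtain ⟨g, rfl⟩ := hπs x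
      have : g ∈ π.ker := by rw [← h2]; exact hx
      rw [Subgroup.mem_bot]
      exact this
    have hQsolv : Group.IsSolvable (G ⧸ O) := inferInstance
    have hQps : IsPSolvable p (G ⧸ O) :=
      Cfsg.Agent.Lib.Helper53.isPSolvable_of_isSolvable p hQsolv
    have hNoSL : NoSL p (G ⧸ O) := (noSL_of_odd hodd).quotient O
    set Pb := pCore p (G ⧸ O) with hPb
    have hPbn : Pb.Normal := pCore_normal' p _
    have hPbp : IsPGroup p Pb := pCore_isPGroup' p _
    have hPbS : Pb ≤ (S : Subgroup G).map π := by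
      have := Cfsg.Agent.Lib.Helper84.pCore_le_sylow (S.mapSurjective hπs)
      rwa [Sylow.coe_mapSurjective] at this
    have hHH : Subgroup.centralizer (Pb : Set (G ⧸ O)) ≤ Pb :=
      Cfsg.Agent.Lib.Helper76.centralizer_pCore_le_of_isPSolvable hQps hObar
    intro a ha
    unfold pPrimePCore
    rw [Subgroup.mem_comap]
    show π a ∈ Pb
    have hq : ∀ v ∈ Pb, ⁅π a, ⁅π a, v⁆⁆ = 1 := by
      intro v hv
      obtain ⟨s, hs, rfl⟩ := hPbS hv
      have hsn := hAn hs
      have h1 : ⁅a, s⁆ ∈ A := by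
        rw [commutatorElement_def, mul_assoc, mul_assoc]
        apply A.mul_mem ha
        rw [← mul_assoc]
        exact (Subgroup.mem_normalizer_iff.mp hsn a⁻¹).mp (A.inv_mem ha)
      have := hAc.is_comm.comm ⟨a, ha⟩ ⟨⁅a, s⁆, h1⟩
      have h2 : a * ⁅a, s⁆ = ⁅a, s⁆ * a := congrArg Subtype.val this
      have h3 : ⁅a, ⁅a, s⁆⁆ = 1 := by
        rw [commutatorElement_def a ⁅a, s⁆, h2]
        group
      rw [← map_commutatorElement, ← map_commutatorElement, h3, map_one]
    obtain ⟨D, hDn, haD, hD⟩ := pstable_D hp hQps hNoSL Pb hPbp (π a) hq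
    have hDp : IsPGroup p D := by
      rintro ⟨d, hd⟩
      obtain ⟨k, hk⟩ := hD d hd
      obtain ⟨j, hj⟩ := hPbp ⟨d ^ p ^ k, hHH hk⟩
      have hj' : (d ^ p ^ k) ^ p ^ j = 1 := congrArg Subtype.val hj
      refine ⟨k + j, Subtype.ext ?_⟩
      show d ^ p ^ (k + j) = 1
      rw [pow_add, pow_mul, hj']
    exact le_pCore' hDn hDp haD

end Cfsg.Agent.S1457
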