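import Cfsg.Statements.S1458
import Cfsg.Agent.Lib.Helper11.ZJe.Thm
import Cfsg.Agent.Lib.Helper11.LocalControl
import Cfsg.Agent.Lib.Helper11.PConstrained
import Cfsg.Agent.Lib.Helper35.PStabMain
import Cfsg.Agent.Lib.Helper35.NoSL
import Cfsg.Agent.Lib.Helper53.SolvPSolv
import Cfsg.Agent.Lib.Helper30.PPrimeCore

set_option autoImplicit false
open Cfsg

namespace Cfsg.Agent.S1458

open Cfsg.Agent.Lib.Helper11 Cfsg.Agent.Lib.Helper11.ZJe

/-- `p`-stability on normal `p`-subgroups for solvable groups of odd order -/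
theorem isPStableOn_of_odd_solvable {X : Type*} [Group X] [Finite X] (hs : Group.IsSolvable X)
    (hodd : Odd (Nat.card X)) {p : ℕ} [Fact p.Prime] (hp2 : p ≠ 2) (V : Subgroup X) [V.Normal]
    (hV : IsPGroup p V) : IsPStableOn p V := by
  intro a ha
  exact Cfsg.Agent.Lib.Helper35.PStab.mem_pCore_quotient hp2
    (Cfsg.Agent.Lib.Helper53.isPSolvable_of_isSolvable p hs)
    (Cfsg.Agent.Lib.Helper35.noSL_of_odd hodd) V hV a
    (Cfsg.Agent.Lib.Helper35.PStab.quad_of_commutator V (Subgroup.zpowers a) ha a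
      (Subgroup.mem_zpowers a))

/-- Let G be a solvable group of odd order, p a prime and S a Sylow p-subgroup of G. Then the subgroup generated by the centre of the Thompson subgroup of S and O_{p'}(G) is normal in G. -/
theorem result {G : Type*} [Group G] [Finite G] [Group.IsSolvable G] (hodd : Odd (Nat.card G)) (p : ℕ) [Fact p.Prime] (S : Sylow p G) :
    (Cfsg.centerThompsonOf p (S : Subgroup G) ⊔ Cfsg.pPrimeCore p G).Normal := by
  rw [centerThompsonOf_eq_zE]
  haveI hKn : (pPrimeCore p G).Normal := Cfsg.Agent.Lib.Helper55.pPrimeCore_normal' p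
  by_cases hp2 : p = 2
  · -- the Sylow 2-subgroup is trivial
    have hS : (S : Subgroup G) = ⊥ := by
      obtain ⟨n, hn⟩ := IsPGroup.iff_card.mp S.isPGroup'
      have hdvd : Nat.card (S : Subgroup G) ∣ Nat.card G := Subgroup.card_subgroup_dvd_card _
      have hn0 : n = 0 := by
        by_contra h
        have h2 : 2 ∣ Nat.card G := by
          refine dvd_trans ?_ hdvd
          rw [hn, hp2]
          exact dvd_pow_self 2 h
        exact (Nat.not_even_iff_odd.mpr hodd) (even_iff_two_dvd.mpr h2)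
      rw [hn0, pow_zero] at hn
      exact Subgroup.eq_bot_of_card_eq _ hn
    have hz : zE (Qe p) (S : Subgroup G) = ⊥ := by
      rw [eq_bot_iff, ← hS]
      exact zE_le _
    rw [hz, bot_sup_eq]
    exact hKn
  -- odd `p`
  have hsurj := QuotientGroup.mk'_surjective (pPrimeCore p G)
  have hKcop : (Nat.card (pPrimeCore p G)).Coprime p :=
    Cfsg.Agent.Lib.Helper55.pPrimeCore_card_coprime p
  have hker : (Nat.card (QuotientGroup.mk' (pPrimeCore p G)).ker).Coprime p := by
    rw [QuotientGroup.ker_mk']; exact hKcop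
  have hqs : Group.IsSolvable (G ⧸ pPrimeCore p G) := inferInstance
  have hqodd : Odd (Nat.card (G ⧸ pPrimeCore p G)) := by
    have h1 : Nat.card (G ⧸ pPrimeCore p G) ∣ Nat.card G := Subgroup.card_quotient_dvd_card _
    exact Odd.of_dvd_nat hodd h1
  have hst : ∀ (V : Subgroup (G ⧸ pPrimeCore p G)) [V.Normal], IsPGroup p V → IsPStableOn p V :=
    fun V _ hV => isPStableOn_of_odd_solvable hqs hqodd hp2 V hV
  have hO : pPrimeCore p (G ⧸ pPrimeCore p G) = ⊥ :=
    Cfsg.Agent.Lib.Helper30.pPrimeCore_quotient_eq_bot p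
  have hc : Subgroup.centralizer (pCore p (G ⧸ pPrimeCore p G) : Set (G ⧸ pPrimeCore p G)) ≤
      pCore p (G ⧸ pPrimeCore p G) := by
    haveI : (pCore p (G ⧸ pPrimeCore p G)).Normal := Cfsg.Agent.Lib.Helper55.pCore_normal' p
    apply le_pCore_of_isPSolvable_of_le_centralizer hO _ ?_ le_rfl
    apply Cfsg.Agent.Lib.Helper53.isPSolvable_of_isSolvable p
    infer_instance
  have hchar := zE_characteristic hp2 (S.mapSurjective hsurj) hst hc
  have hnorm : (zE (Qe p) ((S : Subgroup G).map (QuotientGroup.mk' (pPrimeCore p G)))).Normal := by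
    rw [Sylow.coe_mapSurjective] at hchar
    exact Subgroup.normal_of_characteristic _
  have hinj : ∀ x ∈ (S : Subgroup G), (QuotientGroup.mk' (pPrimeCore p G)) x = 1 → x = 1 := by
    intro x hx hx1
    have h1 : x ∈ (S : Subgroup G) ⊓ (QuotientGroup.mk' (pPrimeCore p G)).ker :=
      ⟨hx, MonoidHom.mem_ker.mpr hx1⟩
    rw [inf_ker_eq_bot_of_isPGroup p _ hker S.isPGroup'] at h1
    exact Subgroup.mem_bot.mp h1
  have hmap : zE (Qe p) ((S : Subgroup G).map (QuotientGroup.mk' (pPrimeCore p G))) =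
      (zE (Qe p) (S : Subgroup G)).map (QuotientGroup.mk' (pPrimeCore p G)) := by
    apply zE_map_of_injOn _ (S : Subgroup G) hinj (Qe p) (Qe p)
    · intro X _ hX
      exact Cfsg.Agent.Lib.Helper10.elemAb_map hX _
    · intro X hXP hX
      exact isElementaryAbelian_of_map _ (S : Subgroup G) X hinj hXP hX
  rw [hmap] at hnorm
  have h1 := Subgroup.Normal.comap hnorm (QuotientGroup.mk' (pPrimeCore p G))
  rwa [Subgroup.comap_map_eq, QuotientGroup.ker_mk'] at h1

end Cfsg.Agent.S1458
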