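import Cfsg.Statements.S1462
import Cfsg.Agent.S1443
import Cfsg.Agent.Lib.Helper24.HHOne

set_option autoImplicit false
set_option linter.style.haveILetI false
open Cfsg

namespace Cfsg.Agent.S1462

open Cfsg.Agent.Lib.Helper24 Cfsg.Agent.Lib.Helper33 Cfsg.Agent.Lib.Helper55 in
/-- Let G be a finite solvable group, p an odd prime with G = O_{p',p,p'}(G), E an elementary abelian p-subgroup contained in no larger elementary abelian p-subgroup of G, and L a subgroup of order coprime to p normalized by E. Then L ≤ O_{p'}(G). -/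
theorem result {G : Type*} [Group G] [Finite G] [Group.IsSolvable G] (p : ℕ) [Fact p.Prime] (hp : p ≠ 2) (hpl : Cfsg.PLengthLE p 1 G) (E L : Subgroup G) (hE : Cfsg.IsElementaryAbelian p E)
    (hEmax : ∀ B : Subgroup G, Cfsg.IsElementaryAbelian p B → E ≤ B → B = E) (hL : (Nat.card L).Coprime p) (hEL : E ≤ Subgroup.normalizer (L : Set G)) :
    L ≤ Cfsg.pPrimeCore p G := by
  have hEp : IsPGroup p E := by
    intro g
    refine ⟨1, ?_⟩
    apply Subtype.ext
    have := hE.2 g g.2
    simpa using this
  obtain ⟨S, hES⟩ := hEp.exists_le_sylow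
  obtain ⟨hMn, hKU⟩ := plen_one_struct hpl S
  set K := pPrimeCore p G with hK
  haveI hKn : K.Normal := pPrimeCore_normal' p
  have hKc : (Nat.card K).Coprime p := pPrimeCore_card_coprime p
  set U := Subgroup.normalizer ((S : Subgroup G) : Set G) with hU
  have hSU : (S : Subgroup G) ≤ U := Subgroup.le_normalizer
  -- the reduction
  set L₁ := (K ⊔ L) ⊓ U with hL₁
  have hLle : L ≤ K ⊔ L₁ := by
    intro x hx
    have hxmem : x ∈ ((K ⊔ U : Subgroup G) : Set G) := by rw [hKU]; trivial
    rw [Subgroup.normal_mul] at hxmem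
    obtain ⟨k, hk, u, hu, rfl⟩ := hxmem
    have hu' : u ∈ K ⊔ L := by
      have e : u = k⁻¹ * (k * u) := by group
      rw [e]
      exact (K ⊔ L).mul_mem ((K ⊔ L).inv_mem (Subgroup.mem_sup_left hk)) (Subgroup.mem_sup_right hx)
    exact (K ⊔ L₁).mul_mem (Subgroup.mem_sup_left hk) (Subgroup.mem_sup_right ⟨hu', hu⟩)
  have hKLc : (Nat.card (K ⊔ L : Subgroup G)).Coprime p := by
    have h1 := card_sup_dvd_mul L K
    rw [sup_comm] at h1
    exact Nat.Coprime.coprime_dvd_left h1 (Nat.Coprime.mul_left hL hKc)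
  have hL₁c : (Nat.card L₁).Coprime p :=
    Nat.Coprime.coprime_dvd_left (Subgroup.card_dvd_of_le inf_le_left) hKLc
  have hL₁U : L₁ ≤ U := inf_le_right
  -- E normalises L₁
  have hEL₁ : E ≤ Subgroup.normalizer (L₁ : Set G) := by
    intro e he
    have h1 : cj e K = K := by
      apply cj_eq_self_iff.mpr
      rw [Subgroup.normalizer_eq_top_iff.mpr hKn]; trivial
    have h2 : cj e L = L := cj_eq_self_iff.mpr (hEL he)
    have h3 : cj e U = U := cj_eq_self_of_mem (hSU (hES he))
    rw [← cj_eq_self_iff, hL₁, cj_inf, cj_sup, h1, h2, h3]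
  -- [L₁, E] = 1
  have hcomm : ⁅L₁, E⁆ = ⊥ := by
    have h1 : ⁅L₁, E⁆ ≤ L₁ := commutator_le_of_le_normalizer L₁ E hEL₁
    have h2 : ⁅L₁, E⁆ ≤ (S : Subgroup G) := by
      have h3 : ⁅(S : Subgroup G), U⁆ ≤ (S : Subgroup G) :=
        commutator_le_of_le_normalizer (S : Subgroup G) U le_rfl
      rw [Subgroup.commutator_comm] at h3
      exact le_trans (Subgroup.commutator_mono hL₁U hES) h3
    have h4 : L₁ ⊓ (S : Subgroup G) = ⊥ := by
      apply (Subgroup.disjoint_of_coprime_natCard _).eq_bot
      obtain ⟨k, hk⟩ := IsPGroup.iff_card.mp S.2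
      rw [hk]; exact Nat.Coprime.pow_right k hL₁c
    rw [eq_bot_iff, ← h4]
    exact le_inf h1 h2
  have hL₁E : L₁ ≤ Subgroup.centralizer (E : Set G) :=
    Subgroup.commutator_eq_bot_iff_le_centralizer.mp hcomm
  -- elements of order p in C_S(E) lie in E
  have hfix : ∀ x ∈ ((S : Subgroup G) ⊓ Subgroup.centralizer (E : Set G)), orderOf x = p →
      L₁ ≤ Subgroup.centralizer ({x} : Set G) := by
    intro x hx hord
    have hxp : x ^ p = 1 := by rw [← hord]; exact pow_orderOf_eq_one x
    have hEcomm : E ≤ Subgroup.centralizer (E : Set G) :=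
      Subgroup.le_centralizer_iff_isMulCommutative.mpr hE.1
    set T : Set G := (E : Set G) ∪ {x} with hT
    have hTT : T ⊆ Subgroup.centralizer T := by
      have hxE : ∀ e ∈ E, e * x = x * e := Subgroup.mem_centralizer_iff.mp hx.2
      intro t ht
      rw [SetLike.mem_coe, Subgroup.mem_centralizer_iff]
      intro s hs
      rcases ht with ht | ht <;> rcases hs with hs | hs
      · exact Subgroup.mem_centralizer_iff.mp (hEcomm ht) s hs
      · rw [Set.mem_singleton_iff] at hs; rw [hs]; exact (hxE t ht).symm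
      · rw [Set.mem_singleton_iff] at ht; rw [ht]; exact hxE s hs
      · rw [Set.mem_singleton_iff] at ht hs; rw [ht, hs]
    set B := Subgroup.closure T with hB
    have hBB : B ≤ Subgroup.centralizer (B : Set G) := by
      rw [hB, Subgroup.centralizer_closure]
      exact (Subgroup.closure_le _).mpr hTT
    have hBe : Cfsg.IsElementaryAbelian p B := by
      refine ⟨Subgroup.le_centralizer_iff_isMulCommutative.mp hBB, ?_⟩
      intro b hb
      induction hb using Subgroup.closure_induction with
      | mem t ht =>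
        rcases ht with ht | ht
        · exact hE.2 t ht
        · rw [Set.mem_singleton_iff] at ht; rw [ht]; exact hxp
      | one => exact one_pow p
      | mul a b ha hb iha ihb =>
        have hab : Commute a b := (Subgroup.mem_centralizer_iff.mp (hBB hb) a ha)
        rw [hab.mul_pow, iha, ihb, one_mul]
      | inv a _ iha => rw [inv_pow, iha, inv_one]
    have hEB : E ≤ B := fun e he => Subgroup.subset_closure (Or.inl he)
    have hBE : B = E := hEmax B hBe hEB
    have hxE : x ∈ E := by
      rw [← hBE]; exact Subgroup.subset_closure (Or.inr rfl)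
    exact le_trans hL₁E (Subgroup.centralizer_le (Set.singleton_subset_iff.mpr hxE))
  have hL₁S : L₁ ≤ Subgroup.centralizer ((S : Subgroup G) : Set G) :=
    Cfsg.Agent.S1443.result p hp (S : Subgroup G) E L₁ S.2 hES hE hL₁U hL₁c hfix
  have hL₁M : L₁ ≤ K ⊔ (S : Subgroup G) := le_trans hL₁S (centralizer_sylow_le_sup S hKU)
  have hL₁K : L₁ ≤ K := pPrime_le_of_le_sup_pGroup K (S : Subgroup G) S.2 L₁ hL₁c hL₁M
  exact le_trans hLle (sup_le le_rfl hL₁K)

end Cfsg.Agent.S1462
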