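import Cfsg.Statements.S1463
import Cfsg.Agent.Lib.Helper35.OddGL2

set_option autoImplicit false
open scoped MatrixGroups
open Cfsg

namespace Cfsg.Agent.S1463

open Cfsg.Agent.Lib.Helper35.OddGL2

/-- Let F be a field of odd characteristic p and H a finite subgroup of odd order of GL(2, F) that leaves no 1-dimensional subspace of F² invariant. Then p does not divide the order of H. -/
theorem result {F : Type*} [Field F] (p : ℕ) [Fact p.Prime] [CharP F p] (hp : p ≠ 2)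
    (H : Subgroup (GL (Fin 2) F)) [Finite H] (hodd : Odd (Nat.card H))
    (hirr : ∀ v : Fin 2 → F, v ≠ 0 → ∃ g ∈ H, (g : Matrix (Fin 2) (Fin 2) F).mulVec v ∉ Submodule.span F {v}) :
    ¬ p ∣ Nat.card H := by
  intro hpH
  obtain ⟨ψ, hψd⟩ : ∃ ψ : ↥H →* Matrix (Fin 2) (Fin 2) F,
      ψ = (Units.coeHom _).comp H.subtype := ⟨_, rfl⟩
  have hψa : ∀ h : ↥H, ψ h = ((h : GL (Fin 2) F) : Matrix (Fin 2) (Fin 2) F) := by
    intro h; rw [hψd]; rfl
  have hψ : Function.Injective ψ := by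
    intro a b h
    rw [hψa, hψa] at h
    exact Subtype.ext (Units.ext h)
  obtain ⟨d, hd⟩ : ∃ d : ↥H →* Fˣ, d = Matrix.GeneralLinearGroup.det.comp H.subtype := ⟨_, rfl⟩
  have hda : ∀ h : ↥H, ((d h : Fˣ) : F) = (ψ h).det := by
    intro h; rw [hd, hψa]; rfl
  obtain ⟨H₁, hH₁⟩ : ∃ H₁ : Subgroup ↥H, H₁ = d.ker := ⟨_, rfl⟩
  have hH₁n : H₁.Normal := by rw [hH₁]; infer_instance
  have hmem : ∀ g : ↥H, g ∈ H₁ ↔ d g = 1 := by
    intro g
    rw [hH₁]
    exact MonoidHom.mem_ker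
  have hdet : ∀ k : ↥H₁, ((ψ.comp H₁.subtype) k).det = 1 := by
    intro k
    have h1 : d (k : ↥H) = 1 := (hmem _).mp k.2
    have := congrArg Units.val h1
    rw [hda] at this
    simpa using this
  have hoddH₁ : Odd (Nat.card H₁) := Odd.of_dvd_nat hodd (Subgroup.card_subgroup_dvd_card _)
  obtain ⟨M₁, hM₁⟩ := exists_pElements_subgroup (F := F) hp (Nat.card H₁) ↥H₁ rfl hoddH₁
    (ψ.comp H₁.subtype) (hψ.comp Subtype.val_injective) hdet
  -- an element of order `p`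
  obtain ⟨x, hx⟩ := exists_prime_orderOf_dvd_card' p hpH
  have hxp : x ^ p = 1 := by rw [← hx]; exact pow_orderOf_eq_one x
  have hx1 : x ≠ 1 := by
    intro h
    rw [h, orderOf_one] at hx
    exact (Fact.out : p.Prime).one_lt.ne hx
  -- `p`-elements have determinant one
  have hpdet : ∀ (g : ↥H) (j : ℕ), g ^ (p ^ j) = 1 → g ∈ H₁ := by
    intro g j hg
    rw [hmem]
    have h1 : (d g) ^ (p ^ j) = 1 := by rw [← map_pow, hg, map_one]
    have h2 : ((d g : Fˣ) : F) ^ (p ^ j) = 1 := by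
      have := congrArg Units.val h1
      simpa using this
    have h3 : (((d g : Fˣ) : F) - 1) ^ (p ^ j) = 0 := by
      rw [sub_pow_char_pow, h2, one_pow, sub_self]
    have h4 := pow_eq_zero_iff (pow_ne_zero _ (Fact.out : p.Prime).ne_zero) |>.mp h3
    apply Units.ext
    rw [Units.val_one]
    linear_combination h4
  obtain ⟨M, hM⟩ : ∃ M : Subgroup ↥H, M = M₁.map H₁.subtype := ⟨_, rfl⟩
  have hMmem : ∀ g : ↥H, g ∈ M ↔ ∃ j : ℕ, g ^ (p ^ j) = 1 := by
    intro g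
    rw [hM]
    constructor
    · rintro ⟨g', hg', rfl⟩
      obtain ⟨j, hj⟩ := (hM₁ g').mp hg'
      refine ⟨j, ?_⟩
      have := congrArg Subtype.val hj
      simpa using this
    · rintro ⟨j, hj⟩
      have hg1 := hpdet g j hj
      refine ⟨⟨g, hg1⟩, (hM₁ _).mpr ⟨j, ?_⟩, rfl⟩
      apply Subtype.ext
      simpa using hj
  have hMn : M.Normal := by
    refine ⟨fun m hm h => ?_⟩
    obtain ⟨j, hj⟩ := (hMmem m).mp hm
    refine (hMmem _).mpr ⟨j, ?_⟩
    rw [conj_pow, hj, mul_one, mul_inv_cancel]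
  have hMp : IsPGroup p M := by
    rintro ⟨m, hm⟩
    obtain ⟨j, hj⟩ := (hMmem m).mp hm
    exact ⟨j, Subtype.ext (by simpa using hj)⟩
  have hMne : M ≠ ⊥ := by
    intro h
    have hxM : x ∈ M := (hMmem x).mpr ⟨1, by rw [pow_one]; exact hxp⟩
    rw [h, Subgroup.mem_bot] at hxM
    exact hx1 hxM
  obtain ⟨v, hv0, hv⟩ := exists_invariant_line (p := p) ψ hψ M hMp hMne
  obtain ⟨g, hg, hgv⟩ := hirr v hv0
  apply hgv
  have := hv ⟨g, hg⟩
  rw [hψa] at this
  exact this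

end Cfsg.Agent.S1463
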