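import Cfsg.Statements.S1464
import Cfsg.Agent.Lib.Helper35.PStabMain
import Cfsg.Agent.Lib.Helper53.SolvPSolv

set_option autoImplicit false
open Cfsg

namespace Cfsg.Agent.S1464

open Cfsg.Agent.Lib.Helper35 Cfsg.Agent.Lib.Helper35.PStab Cfsg.Agent.Lib.Helper22
open scoped commutatorElement

/-- Let p be an odd prime and G a solvable group of odd order, P a p-subgroup with O_{p'}(G)P normal in G, and A a p-subgroup of N_G(P) with [[P, A], A] = 1. Then the image of A in the quotient N_G(P)/C_G(P) is contained in the p-core of that quotient. -/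
theorem result {G : Type*} [Group G] [Finite G] [Group.IsSolvable G] (hodd : Odd (Nat.card G)) (p : ℕ) [Fact p.Prime] (hp : p ≠ 2) (P A : Subgroup G) (hP : IsPGroup p P) (hPn : (Cfsg.pPrimeCore p G ⊔ P).Normal)
    (hA : IsPGroup p A) (hAN : A ≤ Subgroup.normalizer (P : Set G)) (hquad : ⁅⁅P, A⁆, A⁆ = ⊥) :
    (A.subgroupOf (Subgroup.normalizer (P : Set G))).map
        (QuotientGroup.mk' ((Subgroup.centralizer (P : Set G)).subgroupOf (Subgroup.normalizer (P : Set G))))
      ≤ Cfsg.pCore p _ := by
  set N := Subgroup.normalizer (P : Set G) with hN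
  have hNsolv : Group.IsSolvable N := inferInstance
  have hNps : IsPSolvable p N := Cfsg.Agent.Lib.Helper53.isPSolvable_of_isSolvable p hNsolv
  have hNodd : Odd (Nat.card N) := by
    have hdvd : Nat.card N ∣ Nat.card G := Subgroup.card_subgroup_dvd_card N
    exact Odd.of_dvd_nat hodd hdvd
  have hNoSL : NoSL p N := noSL_of_odd hNodd
  have hP'n : (P.subgroupOf N).Normal := Subgroup.normal_in_normalizer
  have hP'p : IsPGroup p (P.subgroupOf N) := by
    have := hP.comap_of_injective N.subtype N.subtype_injective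
    exact this
  have hq := quad_of_commutator P A hquad
  set C := (Subgroup.centralizer (P : Set G)).subgroupOf N with hC
  rintro _ ⟨a, ha, rfl⟩
  have haA : (a : G) ∈ A := ha
  have hq' : ∀ v ∈ P.subgroupOf N, ⁅a, ⁅a, v⁆⁆ = 1 := by
    intro v hv
    apply Subtype.ext
    have := hq (a : G) haA (v : G) hv
    rw [commutatorElement_def, commutatorElement_def] at this ⊢
    simpa [commutatorElement_def] using this
  obtain ⟨D, hDn, haD, hD⟩ := pstable_D hp hNps hNoSL (P.subgroupOf N) hP'p a hq'
  have hcent : Subgroup.centralizer ((P.subgroupOf N : Subgroup N) : Set N) ≤ C := by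
    intro x hx
    rw [hC, Subgroup.mem_subgroupOf, Subgroup.mem_centralizer_iff]
    intro v hv
    have hvN : v ∈ N := Subgroup.le_normalizer hv
    have := (Subgroup.mem_centralizer_iff.mp hx) ⟨v, hvN⟩ (by
      show (⟨v, hvN⟩ : N) ∈ P.subgroupOf N
      rw [Subgroup.mem_subgroupOf]; exact hv)
    exact congrArg Subtype.val this
  have hn : (D.map (QuotientGroup.mk' C)).Normal := hDn.map _ (QuotientGroup.mk'_surjective C)
  have hpg : IsPGroup p (D.map (QuotientGroup.mk' C)) := by
    rintro ⟨_, d, hd, rfl⟩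
    obtain ⟨k, hk⟩ := hD d hd
    refine ⟨k, ?_⟩
    apply Subtype.ext
    simp only [Subgroup.coe_pow, Subgroup.coe_one]
    rw [← map_pow]
    exact (QuotientGroup.eq_one_iff _).mpr (hcent hk)
  exact le_pCore' hn hpg ⟨a, haD, rfl⟩

end Cfsg.Agent.S1464
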