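import Cfsg.Statements.S1470
import Mathlib.LinearAlgebra.Matrix.Polynomial
import Mathlib.Algebra.Polynomial.Roots

set_option autoImplicit false
open Cfsg

namespace Cfsg.Agent.S1470

open Polynomial

/-- If `N(1 + t b) = 1` for all `t` in a finite field `K` and `b ≠ 0`, then `#K ≤ [F : K]`. -/
theorem card_le_finrank_of_norm_eq_one {K F : Type*} [Field K] [Fintype K] [Field F] [Algebra K F]
    [FiniteDimensional K F] (b : F) (hb : b ≠ 0)
    (h : ∀ t : K, Algebra.norm K (1 + algebraMap K F t * b) = 1) :
    Fintype.card K ≤ Module.finrank K F := by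
  classical
  set n := Module.finrank K F with hn
  have hnpos : 0 < n := Module.finrank_pos
  let bs := Module.finBasis K F
  set M : Matrix (Fin n) (Fin n) K := Algebra.leftMulMatrix bs b with hM
  set D : K[X] := Matrix.det ((X : K[X]) • M.map C + (1 : Matrix (Fin n) (Fin n) K).map C) with hD
  have hdeg : D.natDegree ≤ n := by
    have := natDegree_det_X_add_C_le M (1 : Matrix (Fin n) (Fin n) K)
    rwa [Fintype.card_fin] at this
  have hcoeff : D.coeff n = Matrix.det M := by
    have := coeff_det_X_add_C_card M (1 : Matrix (Fin n) (Fin n) K)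
    rwa [Fintype.card_fin] at this
  have hdetM : Matrix.det M ≠ 0 := by
    rw [hM, ← Algebra.norm_eq_matrix_det bs b]
    exact (Algebra.norm_ne_zero_iff).mpr hb
  have heval : ∀ t : K, D.eval t = 1 := by
    intro t
    rw [hD, ← Polynomial.coe_evalRingHom, RingHom.map_det]
    have : (evalRingHom t).mapMatrix ((X : K[X]) • M.map C + (1 : Matrix (Fin n) (Fin n) K).map C)
        = Algebra.leftMulMatrix bs (1 + algebraMap K F t * b) := by
      have e : algebraMap K F t * b = t • b := (Algebra.smul_def t b).symm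
      have hR : Algebra.leftMulMatrix bs (1 + t • b) = 1 + t • M := by
        rw [map_add, map_one, map_smul]
      rw [e, hR]
      ext i j
      simp only [RingHom.mapMatrix_apply, Matrix.map_apply, Matrix.add_apply, Matrix.smul_apply,
        coe_evalRingHom, eval_add, smul_eq_mul, eval_mul, eval_X, eval_C]
      ring
    rw [this, ← Algebra.norm_eq_matrix_det bs, h t]
  -- the polynomial D - 1
  have hne : D - 1 ≠ 0 := by
    intro h0
    have h1 : (D - 1).coeff n = 0 := by rw [h0]; simp
    rw [coeff_sub, hcoeff, coeff_one, if_neg hnpos.ne', sub_zero] at h1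
    exact hdetM h1
  have hdeg' : (D - 1).natDegree ≤ n := by
    refine (natDegree_sub_le _ _).trans ?_
    simp [hdeg]
  have hroots : (Finset.univ : Finset K).val ⊆ (D - 1).roots := by
    intro t _
    rw [mem_roots hne, IsRoot, eval_sub, heval t, eval_one, sub_self]
  have := card_le_degree_of_subset_roots hroots
  rw [Finset.card_univ] at this
  exact this.trans hdeg'

/-- Let p and q be odd primes with (p^q − 1)/(p − 1) coprime to p − 1, and let E be the set of elements a of the field with p ^ q elements whose norm to the prime field is 1 and for which 2 − a also has norm 1. If a⁻¹ ∈ E for every a ∈ E and E has at least two elements, then p ≤ q. -/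
theorem result (p q : ℕ) [Fact p.Prime] [Fact q.Prime] (hp : p ≠ 2) (hq : q ≠ 2) (hA : Nat.Coprime ((p ^ q - 1) / (p - 1)) (p - 1))
    (hinv : ∀ a ∈ {a : GaloisField p q | Algebra.norm (ZMod p) a = 1 ∧ Algebra.norm (ZMod p) (2 - a) = 1}, a⁻¹ ∈ {a : GaloisField p q | Algebra.norm (ZMod p) a = 1 ∧ Algebra.norm (ZMod p) (2 - a) = 1})
    (h2 : 2 ≤ Set.ncard {a : GaloisField p q | Algebra.norm (ZMod p) a = 1 ∧ Algebra.norm (ZMod p) (2 - a) = 1}) :
    p ≤ q := by
  classical
  set E : Set (GaloisField p q) := {a : GaloisField p q | Algebra.norm (ZMod p) a = 1 ∧ Algebra.norm (ZMod p) (2 - a) = 1} with hE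
  have hq0 : q ≠ 0 := (Fact.out : q.Prime).ne_zero
  obtain ⟨a, haE, ha1⟩ := Set.exists_ne_of_one_lt_ncard (by omega : 1 < E.ncard) (1 : GaloisField p q)
  set b := a - 1 with hb
  have hb0 : b ≠ 0 := sub_ne_zero.mpr ha1
  -- the map T a = 2 - a⁻¹ preserves E
  have hT : ∀ x ∈ E, 2 - x⁻¹ ∈ E := by
    intro x hx
    have := hinv x hx
    refine ⟨this.2, ?_⟩
    have e : (2 : GaloisField p q) - (2 - x⁻¹) = x⁻¹ := by ring
    rw [e]; exact this.1
  have hnorm0 : ∀ x : GaloisField p q, Algebra.norm (ZMod p) x = 1 → x ≠ 0 := by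
    intro x hx h0
    rw [h0, Algebra.norm_zero] at hx
    exact zero_ne_one hx
  have key : ∀ k : ℕ, Algebra.norm (ZMod p) (1 + (k : GaloisField p q) * b) = 1 ∧
      (1 + ((k + 1 : ℕ) : GaloisField p q) * b) / (1 + (k : GaloisField p q) * b) ∈ E := by
    intro k
    induction k with
    | zero =>
      refine ⟨by simp, ?_⟩
      have : (1 + ((0 + 1 : ℕ) : GaloisField p q) * b) / (1 + ((0 : ℕ) : GaloisField p q) * b) = a := by
        simp [hb]
      rw [this]; exact haE
    | succ k ih =>
      obtain ⟨ih1, ih2⟩ := ih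
      have hck : 1 + (k : GaloisField p q) * b ≠ 0 := hnorm0 _ ih1
      have hn1 : Algebra.norm (ZMod p) (1 + ((k + 1 : ℕ) : GaloisField p q) * b) = 1 := by
        have e : 1 + ((k + 1 : ℕ) : GaloisField p q) * b =
            ((1 + ((k + 1 : ℕ) : GaloisField p q) * b) / (1 + (k : GaloisField p q) * b)) *
              (1 + (k : GaloisField p q) * b) := (div_mul_cancel₀ _ hck).symm
        rw [e, map_mul, ih2.1, ih1, one_mul]
      refine ⟨hn1, ?_⟩
      have hck1 : 1 + ((k + 1 : ℕ) : GaloisField p q) * b ≠ 0 := hnorm0 _ hn1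
      have := hT _ ih2
      have e : 2 - ((1 + ((k + 1 : ℕ) : GaloisField p q) * b) / (1 + (k : GaloisField p q) * b))⁻¹ =
          (1 + ((k + 1 + 1 : ℕ) : GaloisField p q) * b) / (1 + ((k + 1 : ℕ) : GaloisField p q) * b) := by
        rw [inv_div, eq_div_iff hck1, sub_mul, div_mul_cancel₀ _ hck1]
        push_cast
        ring
      rw [e] at this
      exact this
  have hall : ∀ t : ZMod p, Algebra.norm (ZMod p) (1 + algebraMap (ZMod p) (GaloisField p q) t * b) = 1 := by
    intro t
    have h1 := (key t.val).1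
    have : algebraMap (ZMod p) (GaloisField p q) t = ((t.val : ℕ) : GaloisField p q) := by
      conv_lhs => rw [← ZMod.natCast_zmod_val t]
      rw [map_natCast]
    rw [this]; exact h1
  have := card_le_finrank_of_norm_eq_one b hb0 hall
  rw [ZMod.card, GaloisField.finrank p hq0] at this
  exact this

end Cfsg.Agent.S1470
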