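import Cfsg.Statements.S1471
import Cfsg.Agent.Lib.Helper50.NormPairs

set_option autoImplicit false
open Cfsg

namespace Cfsg.Agent.S1471

open Cfsg.Agent.Lib.Helper50.NormPairs

/-- The arithmetic inequality feeding the Jacobi sum estimate. -/
theorem big_ineq (p q : ℕ) (hp3 : 3 ≤ p) (hq4 : 4 ≤ q) :
    (((p - 1 : ℕ) : ℝ)) ^ 2 + 2 + ((((p - 1 : ℕ) : ℝ)) ^ 2 - 1) * Real.sqrt ((p ^ q : ℕ) : ℝ)
      < ((p ^ q : ℕ) : ℝ) := by
  have hp1 : 1 ≤ p := by omega
  rw [Nat.cast_sub hp1]
  push_cast
  set P : ℝ := (p : ℝ) with hP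
  have hP3 : (3 : ℝ) ≤ P := by rw [hP]; exact_mod_cast hp3
  set s : ℝ := Real.sqrt (P ^ q) with hs
  have hPq : (0 : ℝ) ≤ P ^ q := by positivity
  have hs2 : s ^ 2 = P ^ q := Real.sq_sqrt hPq
  have hs0 : 0 ≤ s := Real.sqrt_nonneg _
  have hsp : P ^ 2 ≤ s := by
    apply Real.le_sqrt_of_sq_le
    calc (P ^ 2) ^ 2 = P ^ 4 := by ring
      _ ≤ P ^ q := pow_le_pow_right₀ (by linarith) hq4
  rw [← hs2]
  have h1 : 0 ≤ (s - P ^ 2) * s := mul_nonneg (by linarith) hs0
  have h2 : 0 ≤ (s - P ^ 2) * P := mul_nonneg (by linarith) (by linarith)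
  have h3 : 0 ≤ (P - 3) * P := mul_nonneg (by linarith) (by linarith)
  have h4 : 0 ≤ (P - 3) * P ^ 2 := mul_nonneg (by linarith) (by positivity)
  nlinarith [h1, h2, h3, h4]

/-- Let p and q be odd primes with (p^q − 1)/(p − 1) coprime to p − 1. Then there are at least two elements a of the field with p ^ q elements such that both a and 2 − a have norm 1 to the prime field. -/
theorem result (p q : ℕ) [Fact p.Prime] [Fact q.Prime] (hp : p ≠ 2) (hq : q ≠ 2) (hA : Nat.Coprime ((p ^ q - 1) / (p - 1)) (p - 1)) :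
    2 ≤ Set.ncard {a : GaloisField p q | Algebra.norm (ZMod p) a = 1 ∧ Algebra.norm (ZMod p) (2 - a) = 1} := by
  classical
  have hpp := (Fact.out : p.Prime)
  have hqp := (Fact.out : q.Prime)
  suffices h : ∃ a : GaloisField p q, a ≠ 1 ∧ Algebra.norm (ZMod p) a = 1 ∧
      Algebra.norm (ZMod p) (2 - a) = 1 by
    obtain ⟨a, ha1, h1, h2⟩ := h
    have hsub : ({1, a} : Set (GaloisField p q)) ⊆
        {a : GaloisField p q | Algebra.norm (ZMod p) a = 1 ∧ Algebra.norm (ZMod p) (2 - a) = 1} := by
      intro x hx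
      rcases hx with rfl | rfl
      · refine ⟨map_one _, ?_⟩
        have : (2 : GaloisField p q) - 1 = 1 := by norm_num
        rw [this, map_one]
      · exact ⟨h1, h2⟩
    calc 2 = ({1, a} : Set (GaloisField p q)).ncard := (Set.ncard_pair ha1.symm).symm
      _ ≤ _ := Set.ncard_le_ncard hsub (Set.toFinite _)
  have hq3 : q = 3 ∨ 5 ≤ q := by
    have h2 := hqp.two_le
    rcases Nat.lt_or_ge q 5 with h | h
    · left
      interval_cases q
      · exact absurd rfl hq
      · rfl
      · exact absurd hqp (by decide)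
    · right; exact h
  rcases hq3 with rfl | hq5
  · exact exists_ne_one_norm_cubic p
  · letI : Fintype (GaloisField p q) := Fintype.ofFinite _
    have hcard : Fintype.card (GaloisField p q) = p ^ q := by
      rw [Fintype.card_eq_nat_card, GaloisField.card p q hqp.ne_zero]
    have hp3 : 3 ≤ p := by
      have := hpp.two_le
      omega
    have h2 : (2 : GaloisField p q) ≠ 0 := by
      intro h0
      have h1 : ((2 : ℕ) : GaloisField p q) = 0 := by exact_mod_cast h0
      rw [CharP.cast_eq_zero_iff (GaloisField p q) p] at h1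
      have := Nat.le_of_dvd (by norm_num) h1
      omega
    have hn : (p - 1) ∣ Fintype.card (GaloisField p q) - 1 := by
      rw [hcard]
      exact Nat.sub_one_dvd_pow_sub_one p q   -- check name
    have hbig := big_ineq p q hp3 (by omega)
    rw [← hcard] at hbig
    obtain ⟨a, ha1, h1, h2'⟩ := exists_ne_one_pow_eq_one (F := GaloisField p q) (p - 1) (by omega) hn h2 hbig
    have hnorm : ∀ x : GaloisField p q, x ^ ((Fintype.card (GaloisField p q) - 1) / (p - 1)) = 1 →
        Algebra.norm (ZMod p) x = 1 := by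
      intro x hx
      have := FiniteField.algebraMap_norm_eq_pow (K := ZMod p) (K' := GaloisField p q) (x := x)
      rw [Nat.card_zmod, ← Fintype.card_eq_nat_card, hx] at this
      apply (algebraMap (ZMod p) (GaloisField p q)).injective
      rw [this, map_one]
    exact ⟨a, ha1, hnorm a h1, hnorm _ h2'⟩

end Cfsg.Agent.S1471
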