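import Mathlib
import Cfsg.Statements.S1475
import Cfsg.Agent.Lib.Helper21.SupNormalizer
import Cfsg.Agent.S0041

set_option autoImplicit false
open Cfsg

namespace Cfsg.Agent.S1475

universe u

/-- every element has prime power order (or is trivial) -/
def EPPO (G : Type*) [Group G] : Prop := ∀ g : G, IsPrimePow (orderOf g) ∨ g = 1

theorem eq_of_isPrimePow {n p q : ℕ} (hn : IsPrimePow n) (hp : p.Prime) (hq : q.Prime)
    (hpn : p ∣ n) (hqn : q ∣ n) : p = q := by
  obtain ⟨r, _, hr⟩ := (isPrimePow_iff_unique_prime_dvd).mp hn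
  rw [hr p ⟨hp, hpn⟩, hr q ⟨hq, hqn⟩]

theorem no_mixed {G : Type*} [Group G] [Finite G] (h : EPPO G) {x y : G} (hc : Commute x y)
    (hx : x ≠ 1) (hy : y ≠ 1) (hcop : Nat.Coprime (orderOf x) (orderOf y)) : False := by
  have hord := hc.orderOf_mul_eq_mul_orderOf_of_coprime hcop
  have hx1 : orderOf x ≠ 1 := fun h1 => hx (orderOf_eq_one_iff.mp h1)
  have hy1 : orderOf y ≠ 1 := fun h1 => hy (orderOf_eq_one_iff.mp h1)
  obtain ⟨p, hp, hpx⟩ := Nat.exists_prime_and_dvd hx1
  obtain ⟨q, hq, hqy⟩ := Nat.exists_prime_and_dvd hy1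
  have hpq : p ≠ q := by
    intro hpq
    subst hpq
    have := Nat.dvd_gcd hpx hqy
    rw [hcop] at this
    exact hp.one_lt.ne' (Nat.dvd_one.mp this)
  rcases h (x * y) with hpp | h1
  · rw [hord] at hpp
    exact hpq (eq_of_isPrimePow hpp hp hq (hpx.mul_right _) (hqy.mul_left _))
  · have : orderOf (x * y) = 1 := orderOf_eq_one_iff.mpr h1
    rw [hord] at this
    exact hx1 (Nat.eq_one_of_mul_eq_one_right this)

theorem exists_normal_abelian {G : Type*} [Group G] [Group.IsSolvable G] [Nontrivial G] :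
    ∃ A : Subgroup G, A.Normal ∧ IsMulCommutative A ∧ A ≠ ⊥ := by
  classical
  have hs : ∃ n, derivedSeries G n = ⊥ := Group.IsSolvable.solvable
  have hn : derivedSeries G (Nat.find hs) = ⊥ := Nat.find_spec hs
  have hn0 : Nat.find hs ≠ 0 := by
    intro h0
    rw [h0, derivedSeries_zero] at hn
    exact top_ne_bot hn
  obtain ⟨m, hm⟩ := Nat.exists_eq_succ_of_ne_zero hn0
  refine ⟨derivedSeries G m, inferInstance, ?_, ?_⟩
  · have h2 : ⁅derivedSeries G m, derivedSeries G m⁆ = ⊥ := by
      rw [← derivedSeries_succ, ← Nat.succ_eq_add_one, ← hm]; exact hn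
    rw [Subgroup.commutator_eq_bot_iff_le_centralizer] at h2
    exact Subgroup.le_centralizer_iff_isMulCommutative.mp h2
  · intro hbot
    exact Nat.find_min hs (by omega : m < Nat.find hs) hbot

theorem exists_isPGroup_of_comm {G : Type*} [Group G] [Finite G] (h : EPPO G) (A : Subgroup G)
    [IsMulCommutative A] (hA : A ≠ ⊥) : ∃ p : ℕ, p.Prime ∧ IsPGroup p A := by
  obtain ⟨⟨a, haA⟩, ha1'⟩ := (Subgroup.ne_bot_iff_exists_ne_one).mp hA
  have ha1 : a ≠ 1 := fun h1 => ha1' (Subtype.ext h1)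
  rcases h a with hpp | h1
  swap
  · exact absurd h1 ha1
  obtain ⟨p, k, hp, hk, hpk⟩ := hpp
  have hp' : p.Prime := hp.nat_prime
  refine ⟨p, hp', ?_⟩
  rintro ⟨b, hb⟩
  by_cases hb1 : b = 1
  · exact ⟨0, by ext; simp [hb1]⟩
  -- orderOf b is a power of p
  have hcomm : Commute a b := setLike_mul_comm haA hb
  have hbpow : ∃ l, orderOf b = p ^ l := by
    rcases h b with hbpp | hb1'
    swap
    · exact absurd hb1' hb1
    obtain ⟨q, l, hq, hl, hql⟩ := hbpp
    have hq' : q.Prime := hq.nat_prime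
    by_cases hqp : q = p
    · exact ⟨l, by rw [← hql, hqp]⟩
    · exfalso
      apply no_mixed h hcomm ha1 hb1
      rw [← hpk, ← hql]
      exact Nat.Coprime.pow _ _ ((Nat.coprime_primes hp' hq').mpr (Ne.symm hqp))
  obtain ⟨l, hl⟩ := hbpow
  refine ⟨l, ?_⟩
  ext
  simp only [Subgroup.coe_pow, Subgroup.coe_one]
  rw [← hl, pow_orderOf_eq_one]

/-- S0041 (landed by helper34) -/
theorem fpf_cyclic {G : Type*} [Group G] [Finite G] (A V : Subgroup G) [IsMulCommutative V]
    (hV : V ≠ ⊥) (hAV : A ≤ Subgroup.normalizer (V : Set G)) (hfpf : ∀ a ∈ A, a ≠ 1 → V ⊓ Subgroup.centralizer {a} = ⊥)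
    (hA : IsMulCommutative A ∨ ∃ p q : ℕ, p.Prime ∧ q.Prime ∧ Nat.card A = p * q) : IsCyclic A :=
  Cfsg.Agent.S0041.result A V hV hAV hfpf hA

theorem mem_zpowers_of_pow_eq_one {C : Type*} [Group C] [Finite C] [IsCyclic C] {s : ℕ} (b x : C)
    (hb : orderOf b = s) (hs : 0 < s) (hx : x ^ s = 1) : x ∈ Subgroup.zpowers b := by
  classical
  have := Fintype.ofFinite C
  have h1 := IsCyclic.card_pow_eq_one_le (α := C) hs
  have hZcard : (Finset.univ.filter (fun a : C => a ∈ Subgroup.zpowers b)).card = s := by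
    rw [← hb, ← Nat.card_zpowers, Nat.card_eq_fintype_card, Fintype.card_subtype]
  have hZsub : Finset.univ.filter (fun a : C => a ∈ Subgroup.zpowers b) ⊆
      Finset.univ.filter (fun a : C => a ^ s = 1) := by
    intro a ha
    simp only [Finset.mem_filter, Finset.mem_univ, true_and] at ha ⊢
    obtain ⟨k, rfl⟩ := ha
    rw [← zpow_natCast, ← zpow_mul, mul_comm, zpow_mul, zpow_natCast, ← hb, pow_orderOf_eq_one,
      one_zpow]
  have heq := Finset.eq_of_subset_of_card_le hZsub (by rw [hZcard]; exact h1)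
  have hxm : x ∈ Finset.univ.filter (fun a : C => a ^ s = 1) := by simp [hx]
  rw [← heq] at hxm
  simpa using hxm

theorem eppo_quotient {G : Type*} [Group G] [Finite G] (h : EPPO G) (A : Subgroup G) [A.Normal] :
    EPPO (G ⧸ A) := by
  intro g
  obtain ⟨x, rfl⟩ := QuotientGroup.mk_surjective g
  have hdvd : orderOf (QuotientGroup.mk' A x) ∣ orderOf x := orderOf_map_dvd _ x
  rcases h x with hpp | h1
  · obtain ⟨p, k, hp, hk, hpk⟩ := hpp
    rw [← hpk] at hdvd
    obtain ⟨j, hj, hjeq⟩ := (Nat.dvd_prime_pow hp.nat_prime).mp hdvd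
    rcases Nat.eq_zero_or_pos j with hj0 | hj0
    · right
      rw [hj0, pow_zero] at hjeq
      exact orderOf_eq_one_iff.mp hjeq
    · left
      exact ⟨p, j, hp, hj0, hjeq.symm⟩
  · right
    rw [h1]; rfl

theorem eppo_subgroup {G : Type*} [Group G] (h : EPPO G) (K : Subgroup G) : EPPO K := by
  intro g
  rcases h (g : G) with hpp | h1
  · left
    rwa [Subgroup.orderOf_coe] at hpp
  · right
    exact Subtype.ext h1

theorem main (n : ℕ) : ∀ (G : Type u) [Group G] [Finite G] [Group.IsSolvable G],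
    Nat.card G = n → EPPO G → (Nat.card G).primeFactors.card ≤ 2 := by
  induction n using Nat.strong_induction_on with
  | _ n ih =>
    intro G _ _ _ hcard h
    rcases subsingleton_or_nontrivial G with hsub | hnt
    · rw [Nat.card_unique]; simp
    obtain ⟨A, hAn, hAc, hAne⟩ := exists_normal_abelian (G := G)
    obtain ⟨p, hp, hpA⟩ := exists_isPGroup_of_comm h A hAne
    have : Fact p.Prime := ⟨hp⟩
    have hQ : EPPO (G ⧸ A) := eppo_quotient h A
    have hmul : Nat.card G = Nat.card (G ⧸ A) * Nat.card A :=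
      Subgroup.card_eq_card_quotient_mul_card_subgroup A
    have hA1 : 1 < Nat.card A := (Subgroup.one_lt_card_iff_ne_bot A).mpr hAne
    have hQpos : 0 < Nat.card (G ⧸ A) := Nat.card_pos
    have hlt : Nat.card (G ⧸ A) < n := by
      rw [← hcard, hmul]; nlinarith
    have ihQ := ih _ hlt (G ⧸ A) rfl hQ
    obtain ⟨a, ha⟩ := (IsPGroup.iff_card.mp hpA)
    have ha0 : a ≠ 0 := by
      intro h0; rw [h0, pow_zero] at ha; omega
    have hpf : (Nat.card G).primeFactors = (Nat.card (G ⧸ A)).primeFactors ∪ {p} := by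
      rw [hmul, Nat.primeFactors_mul hQpos.ne' (by omega), ha, Nat.primeFactors_prime_pow ha0 hp]
    by_cases hpm : p ∈ (Nat.card (G ⧸ A)).primeFactors
    · rw [hpf, Finset.union_eq_left.mpr (Finset.singleton_subset_iff.mpr hpm)]
      exact ihQ
    by_cases hm2 : (Nat.card (G ⧸ A)).primeFactors.card ≤ 1
    · rw [hpf]
      calc _ ≤ (Nat.card (G ⧸ A)).primeFactors.card + ({p} : Finset ℕ).card := Finset.card_union_le _ _
        _ ≤ 2 := by rw [Finset.card_singleton]; omega
    exfalso
    have hm2' : (Nat.card (G ⧸ A)).primeFactors.card = 2 := by omega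
    -- coprimality
    have hpndvd : ¬ p ∣ Nat.card (G ⧸ A) := by
      intro hd
      exact hpm (Nat.mem_primeFactors.mpr ⟨hp, hd, hQpos.ne'⟩)
    have hcop : Nat.Coprime (Nat.card A) A.index := by
      rw [Subgroup.index_eq_card, ha]
      exact Nat.Coprime.pow_left _ ((Nat.Prime.coprime_iff_not_dvd hp).mpr hpndvd)
    obtain ⟨K, hK⟩ := Subgroup.exists_right_complement'_of_coprime hcop
    have hKcard : Nat.card K = Nat.card (G ⧸ A) := by
      rw [← Subgroup.index_eq_card, hK.symm.index_eq_card]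
    have hcopAK : Nat.Coprime (Nat.card A) (Nat.card K) := by
      rw [hKcard, ← Subgroup.index_eq_card]; exact hcop
    -- fixed point freeness of K on A
    have hfpfK : ∀ k ∈ K, k ≠ 1 → A ⊓ Subgroup.centralizer {k} = ⊥ := by
      intro k hk hk1
      rw [eq_bot_iff]
      rintro v ⟨hvA, hvc⟩
      rw [Subgroup.mem_bot]
      by_contra hv1
      have hcomm : Commute v k := by
        have := Subgroup.mem_centralizer_iff.mp hvc k rfl
        exact this.symm
      apply no_mixed h hcomm hv1 hk1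
      have h1 : orderOf v ∣ Nat.card A := Subgroup.orderOf_dvd_natCard A hvA
      have h2 : orderOf k ∣ Nat.card K := Subgroup.orderOf_dvd_natCard K hk
      exact Nat.Coprime.coprime_dvd_left h1 (Nat.Coprime.coprime_dvd_right h2 hcopAK)
    have hnormA : ∀ X : Subgroup G, X ≤ Subgroup.normalizer (A : Set G) := by
      intro X
      rw [Subgroup.normalizer_eq_top]
      exact le_top
    -- two primes of K
    obtain ⟨s, t, hst, hpfK⟩ := Finset.card_eq_two.mp hm2'
    have hs : s.Prime := Nat.prime_of_mem_primeFactors (by rw [hpfK]; simp)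
    have ht : t.Prime := Nat.prime_of_mem_primeFactors (by rw [hpfK]; simp)
    have hsK : s ∣ Nat.card K := by
      rw [hKcard]; exact Nat.dvd_of_mem_primeFactors (by rw [hpfK]; simp)
    have htK : t ∣ Nat.card K := by
      rw [hKcard]; exact Nat.dvd_of_mem_primeFactors (by rw [hpfK]; simp)
    have hKnt : Nontrivial K := by
      rw [← Finite.one_lt_card_iff_nontrivial]
      exact lt_of_lt_of_le hs.one_lt (Nat.le_of_dvd Nat.card_pos hsK)
    obtain ⟨B, hBn, hBc, hBne⟩ := exists_normal_abelian (G := K)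
    -- B' in G
    have hB'K : B.map K.subtype ≤ K := Subgroup.map_subtype_le B
    have hB'ne : B.map K.subtype ≠ ⊥ := by
      intro hbot
      exact hBne ((Subgroup.map_eq_bot_iff_of_injective B K.subtype_injective).mp hbot)
    have hB'comm : IsMulCommutative (B.map K.subtype) := Subgroup.map_isMulCommutative B K.subtype
    have hB'norm : ∀ y ∈ K, ∀ b ∈ B.map K.subtype, y * b * y⁻¹ ∈ B.map K.subtype := by
      intro y hy b hb
      obtain ⟨b1, hb1, rfl⟩ := hb
      exact ⟨⟨y, hy⟩ * b1 * ⟨y, hy⟩⁻¹, hBn.conj_mem b1 hb1 ⟨y, hy⟩, rfl⟩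
    have hB'cyc : IsCyclic (B.map K.subtype) := fpf_cyclic (B.map K.subtype) A hAne (hnormA _)
      (fun b hb hb1 => hfpfK b (hB'K hb) hb1) (Or.inl hB'comm)
    -- a prime dividing card B'
    have hB'card1 : Nat.card (B.map K.subtype) ≠ 1 :=
      fun h1 => hB'ne ((Subgroup.eq_bot_iff_card _).mpr h1)
    obtain ⟨s', hs', hs'B⟩ := Nat.exists_prime_and_dvd hB'card1
    have hs'K : s' ∣ Nat.card K := hs'B.trans (Subgroup.card_dvd_of_le hB'K)
    have hs'mem : s' ∈ ({s, t} : Finset ℕ) := by
      rw [← hpfK, ← hKcard]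
      exact Nat.mem_primeFactors.mpr ⟨hs', hs'K, Nat.card_pos.ne'⟩
    obtain ⟨t', ht', ht'K, hne⟩ : ∃ t' : ℕ, t'.Prime ∧ t' ∣ Nat.card K ∧ t' ≠ s' := by
      simp only [Finset.mem_insert, Finset.mem_singleton] at hs'mem
      rcases hs'mem with rfl | rfl
      · exact ⟨t, ht, htK, Ne.symm hst⟩
      · exact ⟨s, hs, hsK, hst⟩
    have : Fact s'.Prime := ⟨hs'⟩
    have : Fact t'.Prime := ⟨ht'⟩
    obtain ⟨b0', hb0'⟩ := exists_prime_orderOf_dvd_card' (G := B.map K.subtype) s' hs'B
    obtain ⟨y', hy'⟩ := exists_prime_orderOf_dvd_card' (G := K) t' ht'K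
    have hb0B : (b0' : G) ∈ B.map K.subtype := b0'.2
    have hb0ord : orderOf (b0' : G) = s' := by rw [Subgroup.orderOf_coe]; exact hb0'
    have hyK : (y' : G) ∈ K := y'.2
    have hyord : orderOf (y' : G) = t' := by rw [Subgroup.orderOf_coe]; exact hy'
    -- conj of b0 by elements of K stays in zpowers b0
    have hconj : ∀ k ∈ K, k * (b0' : G) * k⁻¹ ∈ Subgroup.zpowers (b0' : G) := by
      intro k hk
      have hmem : k * (b0' : G) * k⁻¹ ∈ B.map K.subtype := hB'norm k hk _ hb0B
      have hpow : (⟨k * (b0' : G) * k⁻¹, hmem⟩ : B.map K.subtype) ^ s' = 1 := by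
        ext
        simp only [Subgroup.coe_pow, Subgroup.coe_one]
        rw [conj_pow, ← hb0ord, pow_orderOf_eq_one]; group
      have := mem_zpowers_of_pow_eq_one (C := B.map K.subtype) b0' ⟨k * (b0' : G) * k⁻¹, hmem⟩
        hb0' hs'.pos hpow
      obtain ⟨j, hj⟩ := Subgroup.mem_zpowers_iff.mp this
      refine Subgroup.mem_zpowers_iff.mpr ⟨j, ?_⟩
      have := congrArg Subtype.val hj
      simpa using this
    have key : ∀ k ∈ K, ∀ x ∈ Subgroup.zpowers (b0' : G), k * x * k⁻¹ ∈ Subgroup.zpowers (b0' : G) := by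
      intro k hk x hx
      obtain ⟨j, rfl⟩ := Subgroup.mem_zpowers_iff.mp hx
      rw [← conj_zpow]
      exact Subgroup.zpow_mem _ (hconj k hk) j
    have hTnorm : Subgroup.zpowers (y' : G) ≤
        Subgroup.normalizer ((Subgroup.zpowers (b0' : G) : Subgroup G) : Set G) := by
      rw [Subgroup.zpowers_le, Subgroup.mem_normalizer_iff]
      intro x
      constructor
      · intro hx; exact key _ hyK x hx
      · intro hx
        have := key (y' : G)⁻¹ (K.inv_mem hyK) _ hx
        simpa [mul_assoc] using this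
    have hTcard : Nat.card (Subgroup.zpowers (b0' : G)) = s' := by rw [Nat.card_zpowers, hb0ord]
    have hYcard : Nat.card (Subgroup.zpowers (y' : G)) = t' := by rw [Nat.card_zpowers, hyord]
    have hHdvd : Nat.card ↥(Subgroup.zpowers (b0' : G) ⊔ Subgroup.zpowers (y' : G)) ∣ s' * t' := by
      have := Cfsg.Agent.Lib.Helper21.card_sup_dvd (X := Subgroup.zpowers (b0' : G))
        (Y := Subgroup.zpowers (y' : G)) hTnorm
      rwa [hTcard, hYcard] at this
    have hsH : s' ∣ Nat.card ↥(Subgroup.zpowers (b0' : G) ⊔ Subgroup.zpowers (y' : G)) := by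
      rw [← hTcard]; exact Subgroup.card_dvd_of_le le_sup_left
    have htH : t' ∣ Nat.card ↥(Subgroup.zpowers (b0' : G) ⊔ Subgroup.zpowers (y' : G)) := by
      rw [← hYcard]; exact Subgroup.card_dvd_of_le le_sup_right
    have hcop' : Nat.Coprime s' t' := (Nat.coprime_primes hs' ht').mpr (Ne.symm hne)
    have hHcard : Nat.card ↥(Subgroup.zpowers (b0' : G) ⊔ Subgroup.zpowers (y' : G)) = s' * t' :=
      Nat.dvd_antisymm hHdvd (hcop'.mul_dvd_of_dvd_of_dvd hsH htH)
    have hHK : Subgroup.zpowers (b0' : G) ⊔ Subgroup.zpowers (y' : G) ≤ K :=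
      sup_le ((Subgroup.zpowers_le).mpr (hB'K hb0B)) ((Subgroup.zpowers_le).mpr hyK)
    have hHcyc : IsCyclic ↥(Subgroup.zpowers (b0' : G) ⊔ Subgroup.zpowers (y' : G)) :=
      fpf_cyclic _ A hAne (hnormA _)
        (fun a ha ha1 => hfpfK a (hHK ha) ha1) (Or.inr ⟨s', t', hs', ht', hHcard⟩)
    obtain ⟨g, hg⟩ := hHcyc.exists_generator
    have hgord : orderOf g = s' * t' := by
      rw [← hHcard]; exact orderOf_eq_card_of_forall_mem_zpowers hg
    have hgord' : orderOf (g : G) = s' * t' := by rw [Subgroup.orderOf_coe]; exact hgord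
    rcases h (g : G) with hpp | h1
    · rw [hgord'] at hpp
      exact hne.symm (eq_of_isPrimePow hpp hs' ht' (dvd_mul_right _ _) (dvd_mul_left _ _))
    · rw [h1, orderOf_one] at hgord'
      have := hs'.one_lt
      have := ht'.one_lt
      nlinarith

/-- Let G be a finite solvable group such that the order of every element is a prime power (1 included). Then at most two distinct primes divide the order of G. -/
theorem result {G : Type*} [Group G] [Finite G] [Group.IsSolvable G] (h : ∀ g : G, IsPrimePow (orderOf g) ∨ g = 1) :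
    (Nat.card G).primeFactors.card ≤ 2 := main _ G rfl h

end Cfsg.Agent.S1475
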