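import Cfsg.Statements.S1480
import Cfsg.Agent.Lib.Helper23.TransData
import Cfsg.Agent.Lib.Helper23.TransLocal

set_option autoImplicit false
open Cfsg

namespace Cfsg.Agent.S1480

open Subgroup Cfsg.Agent.Lib.Helper23 Cfsg.Agent.Lib.Helper33 Cfsg.Agent.Lib.Helper24

theorem isPGroup_of_primes {G : Type*} [Group G] [Finite G] {q : ℕ} [Fact q.Prime]
    {Y : Subgroup G} (h : ∀ r : ℕ, r.Prime → r ∣ Nat.card Y → r ∈ ({q} : Set ℕ)) :
    IsPGroup q Y := by
  have hne : Nat.card Y ≠ 0 := Nat.card_pos.ne'
  have := Nat.eq_prime_pow_of_unique_prime_dvd hne (fun {d} hd hdvd => h d hd hdvd)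
  exact IsPGroup.of_card this

theorem primes_of_isPGroup {G : Type*} [Group G] [Finite G] {q : ℕ} [hq : Fact q.Prime]
    {Y : Subgroup G} (h : IsPGroup q Y) :
    ∀ r : ℕ, r.Prime → r ∣ Nat.card Y → r ∈ ({q} : Set ℕ) := by
  intro r hr hrY
  obtain ⟨k, hk⟩ := IsPGroup.iff_card.mp h
  rw [hk] at hrY
  exact (Nat.prime_dvd_prime_iff_eq hr hq.out).mp (hr.dvd_of_dvd_pow hrY)

theorem centralizer_singleton_le_normalizer_zpowers {G : Type*} [Group G] (a : G) :
    centralizer ({a} : Set G) ≤ normalizer ((zpowers a : Subgroup G) : Set G) := by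
  intro x hx
  have hxa : x * a = a * x := (mem_centralizer_singleton_iff.mp hx)
  have hcomm : ∀ y ∈ zpowers a, x * y * x⁻¹ = y := by
    intro y hy
    obtain ⟨n, rfl⟩ := mem_zpowers_iff.mp hy
    have : Commute x (a ^ n) := (show Commute x a from hxa).zpow_right n
    rw [this.eq, mul_inv_cancel_right]
  rw [mem_normalizer_iff]
  intro y
  constructor
  · intro hy
    rw [hcomm y hy]
    exact hy
  · intro hy
    have h1 := hcomm _ hy
    have h2 : y = x⁻¹ * (x * y * x⁻¹) * x := by group
    have h3 : x * (x * y * x⁻¹) * x⁻¹ = x * y * x⁻¹ := h1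
    have h4 : x * y * x⁻¹ = y := by
      have : x * (x * y * x⁻¹) * x⁻¹ = x * (y) * x⁻¹ → x * y * x⁻¹ = y := by
        intro h
        have := mul_left_cancel (mul_right_cancel h)
        exact this
      apply this
      rw [h3]
    rw [← h4]
    exact hy

/-- Let G be a finite group and p a prime such that the normalizer of every nontrivial p-subgroup of G is p-constrained; if p = 2 assume also that the Sylow 2-subgroups of G have nilpotency class at most 2. Let E be an abelian p-subgroup containing an elementary abelian subgroup of order p ^ 3 and containing every element of p-power order of C_G(E). Then for every prime q ≠ p, any two maximal E-invariant q-subgroups of G are conjugate by an element of O_{p'}(C_G(E)). -/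
theorem result {G : Type*} [Group G] [Finite G] (p : ℕ) [Fact p.Prime]
    (hloc : ∀ T : Subgroup G, IsPGroup p T → T ≠ ⊥ → Cfsg.IsPConstrained p ↥(Subgroup.normalizer (T : Set G)))
    (h2 : p = 2 → ∀ S : Sylow p G, Group.IsNilpotent (S : Subgroup G) ∧ Group.nilpotencyClass (S : Subgroup G) ≤ 2)
    (E : Subgroup G) (hEp : IsPGroup p E) (hEc : IsMulCommutative E) (hE3 : ¬ Cfsg.PRankLE p 2 E)
    (hEfull : ∀ x ∈ Subgroup.centralizer (E : Set G), IsPGroup p (Subgroup.zpowers x) → x ∈ E)
    (q : ℕ) [Fact q.Prime] (hqp : q ≠ p) :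
    ∀ Q₁ ∈ Cfsg.maxInvSubgroups ⊤ E {q}, ∀ Q₂ ∈ Cfsg.maxInvSubgroups ⊤ E {q},
        ∃ k ∈ Cfsg.piCoreOf (Cfsg.primesNotDvd p) (Subgroup.centralizer (E : Set G)), Q₂ = Q₁.map (MulAut.conj k).toMonoidHom := by
  classical
  have hpp : p.Prime := Fact.out
  obtain ⟨A₀, hA₀E, hA₀c, hA₀p, hA₀card⟩ := exists_elemAb_card_cube (p := p) hE3
  have hEcomm : ∀ x ∈ E, ∀ y ∈ E, x * y = y * x := by
    intro x hx y hy
    have := hEc.is_comm.comm (⟨x, hx⟩ : E) ⟨y, hy⟩
    have h2 := congrArg Subtype.val this
    simpa using h2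
  have hfull' : ∀ x ∈ centralizer (E : Set G), (∃ k : ℕ, x ^ (p ^ k) = 1) → x ∈ E :=
    fun x hx ⟨k, hk⟩ => hEfull x hx (isPGroup_zpowers_of_pow_eq_one hk)
  have hΩ : ∀ x ∈ centralizer (E : Set G), orderOf x = p → x ∈ E :=
    fun x hx ho => hfull' x hx ⟨1, by rw [pow_one, ← ho, pow_orderOf_eq_one]⟩
  have lemmaA : ∀ H K : Subgroup G, Cfsg.IsPConstrained p H → E ≤ H → K ≤ H →
      ¬ p ∣ Nat.card K → E ≤ normalizer (K : Set G) →
      K ≤ (Cfsg.pPrimeCore p H).map H.subtype := by
    intro H K hcons hEH hKH hK hEK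
    by_cases hp2 : p = 2
    · have hcl := class_two_of_sylow (p := p) (G := G) (fun S => by
        obtain ⟨hnil, hc2⟩ := h2 hp2 S
        exact triple_comm_eq_one_of_class_le_two (S : Subgroup G) hc2)
      exact signalizer_le_map_pPrimeCore_quad hcons hEH hEp hfull' hcl hKH hK hEK
    · exact signalizer_le_map_pPrimeCore_odd hp2 hcons hEH hEp hΩ hKH hK hEK
  have hdata : TransData p q E A₀
      (Cfsg.piCoreOf (Cfsg.primesNotDvd p) (Subgroup.centralizer (E : Set G)))
      (Cfsg.invSubgroups ⊤ E {q})
      (fun a => (Cfsg.pPrimeCore p (normalizer ((zpowers a : Subgroup G) : Set G))).map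
        (normalizer ((zpowers a : Subgroup G) : Set G)).subtype) := by
    have hnotdvd : ∀ Y : Subgroup G, IsPGroup q Y → ¬ p ∣ Nat.card Y := by
      intro Y hY hdvd
      obtain ⟨k, hk⟩ := IsPGroup.iff_card.mp hY
      rw [hk] at hdvd
      exact hqp ((Nat.prime_dvd_prime_iff_eq hpp (Fact.out : q.Prime)).mp
        (hpp.dvd_of_dvd_pow hdvd)).symm
    have hEHa : ∀ a ∈ A₀, E ≤ normalizer ((zpowers a : Subgroup G) : Set G) := by
      intro a ha e he
      apply centralizer_singleton_le_normalizer_zpowers a
      rw [mem_centralizer_singleton_iff]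
      exact hEcomm e he a (hA₀E ha)
    have hLp : ∀ a : G, ¬ p ∣ Nat.card ((Cfsg.pPrimeCore p
        (normalizer ((zpowers a : Subgroup G) : Set G))).map
        (normalizer ((zpowers a : Subgroup G) : Set G)).subtype) := by
      intro a
      rw [card_map_of_injective (subtype_injective _)]
      exact (Nat.Prime.coprime_iff_not_dvd hpp).mp
        (Cfsg.Agent.Lib.Helper33.pPrimeCore_card_coprime' p).symm
    refine
      { hA := hEp
        hA₀A := hA₀E
        hA₀c := fun a ha b hb => hEcomm a (hA₀E ha) b hb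
        hA₀p := hA₀p
        hA₀card := hA₀card
        hqp := hqp
        hFq := fun Y hY => isPGroup_of_primes hY.2.1
        hFA := fun Y hY => hY.2.2
        hFsub := fun Y hY T hTY hET =>
          ⟨le_top, fun r hr hrT => hY.2.1 r hr (hrT.trans (card_dvd_of_le hTY)), hET⟩
        hFconj := ?_
        hL1 := fun a _ _ => hLp a
        hL2 := ?_
        hL3 := ?_
        hLW := ?_ }
    · intro Y hY c hc
      refine ⟨le_top, by rw [card_cj]; exact hY.2.1, ?_⟩
      have hcC : c ∈ centralizer (E : Set G) := by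
        obtain ⟨c', -, rfl⟩ := hc
        exact c'.2
      rw [normalizer_cj]
      intro e he
      have : c * e * c⁻¹ = e := by
        rw [← mem_centralizer_iff.mp hcC e he, mul_inv_cancel_right]
      rw [← this]
      exact conj_mem_cj (hY.2.2 he)
    · intro a ha _
      have := Cfsg.Agent.Lib.Helper33.pPrimeCore_normal p
        (normalizer ((zpowers a : Subgroup G) : Set G))
      exact (hEHa a ha).trans (le_normalizer_map_subtype_of_normal _ _)
    · intro a ha ha1 Y hY
      have hYq : IsPGroup q Y := isPGroup_of_primes hY.2.1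
      apply lemmaA
      · apply hloc
        · apply isPGroup_zpowers_of_pow_eq_one (k := 1)
          rw [pow_one]
          exact hA₀p a ha
        · intro hbot
          apply ha1
          have : a ∈ (zpowers a : Subgroup G) := mem_zpowers a
          rw [hbot] at this
          exact mem_bot.mp this
      · exact hEHa a ha
      · exact inf_le_right.trans (centralizer_singleton_le_normalizer_zpowers a)
      · exact hnotdvd _ (hYq.to_le inf_le_left)
      · exact le_normalizer_inf' hY.2.2
          (le_normalizer_centralizer_singleton (fun b hb => hEcomm a (hA₀E ha) b hb))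
    · intro a ha ha1 D hD
      have hDq : IsPGroup q D := isPGroup_of_primes hD.2.1
      refine ⟨fun T _ hTq hET => ⟨le_top, primes_of_isPGroup hTq, hET⟩, ?_⟩
      intro c hc
      apply mem_piCoreOf_centralizer E hEp hEcomm hEfull hc.2
      have hdvd := card_sup_dvd_of_le_normalizer
        ((Cfsg.pPrimeCore p (normalizer ((zpowers a : Subgroup G) : Set G))).map
          (normalizer ((zpowers a : Subgroup G) : Set G)).subtype ⊓ normalizer (D : Set G)) D
        inf_le_right
      have hWp : ¬ p ∣ Nat.card ↥(((Cfsg.pPrimeCore p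
          (normalizer ((zpowers a : Subgroup G) : Set G))).map
          (normalizer ((zpowers a : Subgroup G) : Set G)).subtype ⊓ normalizer (D : Set G)) ⊔ D :
            Subgroup G) := by
        intro hpW
        rcases (Nat.Prime.dvd_mul hpp).mp (hpW.trans hdvd) with h1 | h1
        · exact hLp a (h1.trans (card_dvd_of_le inf_le_left))
        · exact hnotdvd D hDq h1
      have hord : orderOf c ∣ Nat.card ↥(((Cfsg.pPrimeCore p
          (normalizer ((zpowers a : Subgroup G) : Set G))).map
          (normalizer ((zpowers a : Subgroup G) : Set G)).subtype ⊓ normalizer (D : Set G)) ⊔ D :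
            Subgroup G) := by
        have := orderOf_dvd_natCard (⟨c, hc.1⟩ : ↥(((Cfsg.pPrimeCore p
          (normalizer ((zpowers a : Subgroup G) : Set G))).map
          (normalizer ((zpowers a : Subgroup G) : Set G)).subtype ⊓ normalizer (D : Set G)) ⊔ D :
            Subgroup G))
        rwa [Subgroup.orderOf_mk] at this
      exact Nat.Coprime.coprime_dvd_left hord
        ((Nat.Prime.coprime_iff_not_dvd hpp).mpr hWp).symm
  intro Q₁ h₁ Q₂ h₂
  obtain ⟨c, hc, hcQ⟩ := hdata.transitive Q₁ Q₂ h₁ h₂
  exact ⟨c, hc, hcQ⟩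

end Cfsg.Agent.S1480
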