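import Cfsg.Statements.S1483
import Cfsg.Agent.S1477

set_option autoImplicit false
open Cfsg

namespace Cfsg.Agent.S1483

open Cfsg.Agent.S1477

variable {G : Type*} [Group G]

/-- p-elements of a nilpotent subgroup containing a Sylow p-subgroup Q of G lie in Q. -/
theorem mem_sylow_of_pow [Finite G] {p : ℕ} [Fact p.Prime] (H : Subgroup G)
    (hH : Group.IsNilpotent H) (Q : Sylow p G) (hQH : (Q : Subgroup G) ≤ H) {y : G} (hy : y ∈ H)
    {k : ℕ} (hyk : y ^ (p ^ k) = 1) : y ∈ (Q : Subgroup G) := by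
  have hnorm : ((Q.subtype hQH : Sylow p H) : Subgroup H).Normal := inferInstance
  rw [Sylow.coe_subtype, Subgroup.normal_subgroupOf_iff_le_normalizer hQH] at hnorm
  have hpg : IsPGroup p (Subgroup.zpowers y) := by
    obtain ⟨j, _, hj⟩ := (Nat.dvd_prime_pow Fact.out).mp (orderOf_dvd_of_pow_eq_one hyk)
    apply IsPGroup.of_card (n := j)
    rw [Nat.card_zpowers, hj]
  have hle : Subgroup.zpowers y ≤ Subgroup.normalizer ((Q : Subgroup G) : Set G) := by
    rw [Subgroup.zpowers_le]; exact hnorm hy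
  have hsup := hpg.to_sup_of_normal_right' Q.isPGroup' hle
  have := Q.is_maximal' hsup le_sup_right
  rw [← this]
  exact (le_sup_left : Subgroup.zpowers y ≤ _) (Subgroup.mem_zpowers y)

theorem central_of_sylow_central [Finite G] {p : ℕ} [Fact p.Prime] (H : Subgroup G)
    (hH : Group.IsNilpotent H) (Q : Sylow p G) (hQH : (Q : Subgroup G) ≤ H) {w : G}
    (hwQ : w ∈ (Q : Subgroup G)) (hwc : ∀ y ∈ (Q : Subgroup G), y * w = w * y) :
    ∀ h ∈ H, h * w = w * h := by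
  intro h hh
  have hp : p.Prime := Fact.out
  obtain ⟨j, hj⟩ := Q.isPGroup' ⟨w, hwQ⟩
  have hwj : w ^ (p ^ j) = 1 := by simpa using congrArg Subtype.val hj
  have hn0 : orderOf h ≠ 0 := (orderOf_pos h).ne'
  have hdecomp : p ^ ((orderOf h).factorization p) * (orderOf h / p ^ ((orderOf h).factorization p))
      = orderOf h := Nat.ordProj_mul_ordCompl_eq_self (orderOf h) p
  have hcopm : Nat.Coprime p (orderOf h / p ^ ((orderOf h).factorization p)) :=
    Nat.coprime_ordCompl hp hn0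
  generalize (orderOf h).factorization p = k at hdecomp hcopm
  generalize hm : orderOf h / p ^ k = m at hdecomp hcopm
  have h1 : (h ^ (p ^ k)) ^ m = 1 := by rw [← pow_mul, hdecomp]; exact pow_orderOf_eq_one h
  have h2 : (h ^ m) ^ (p ^ k) = 1 := by
    rw [← pow_mul, mul_comm, hdecomp]; exact pow_orderOf_eq_one h
  have hmem : h ∈ Subgroup.centralizer ({w} : Set G) := by
    apply mem_of_pow_mem_of_coprime _ (Nat.Coprime.pow_left k hcopm)
    · rw [mem_cent_singleton]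
      exact comm_in H hH (hQH hwQ) (pow_mem hh _) hwj h1 (Nat.Coprime.pow_left j hcopm)
    · rw [mem_cent_singleton]
      exact (hwc _ (mem_sylow_of_pow H hH Q hQH (pow_mem hh _) h2)).symm
  exact (mem_cent_singleton.mp hmem).symm

theorem eq_of_common_sylow [Finite G] (hCN : IsCNGroup G) {p : ℕ} [Fact p.Prime]
    (H K : Subgroup G) (hH : Group.IsNilpotent H)
    (hHmax : ∀ L : Subgroup G, Group.IsNilpotent L → H ≤ L → L = H)
    (hK : Group.IsNilpotent K)
    (hKmax : ∀ L : Subgroup G, Group.IsNilpotent L → K ≤ L → L = K)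
    (Q : Sylow p G) (hQne : (Q : Subgroup G) ≠ ⊥) (hQH : (Q : Subgroup G) ≤ H)
    (hQK : (Q : Subgroup G) ≤ K) : H = K := by
  have hQnil : Group.IsNilpotent (Q : Subgroup G) := Q.isPGroup'.isNilpotent
  obtain ⟨y, hy1⟩ := (Subgroup.ne_bot_iff_exists_ne_one).mp hQne
  have hQtop : (⊤ : Subgroup (Q : Subgroup G)) ≠ ⊥ := by
    intro h
    have : y ∈ (⊥ : Subgroup (Q : Subgroup G)) := by rw [← h]; trivial
    rw [Subgroup.mem_bot] at this
    exact hy1 this
  have hne := Cfsg.Agent.Lib.Helper10.normal_inf_center_ne_bot (⊤ : Subgroup (Q : Subgroup G)) hQtop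
  obtain ⟨w, hw1⟩ := (Subgroup.ne_bot_iff_exists_ne_one).mp hne
  have hwc : (w : (Q : Subgroup G)) ∈ Subgroup.center (Q : Subgroup G) := w.2.2
  have hzQ : ((w : (Q : Subgroup G)) : G) ∈ (Q : Subgroup G) := (w : (Q : Subgroup G)).2
  have hz1 : ((w : (Q : Subgroup G)) : G) ≠ 1 := by
    intro h
    apply hw1
    apply Subtype.ext
    apply Subtype.ext
    exact h
  have hzc : ∀ y ∈ (Q : Subgroup G), y * ((w : (Q : Subgroup G)) : G) =
      ((w : (Q : Subgroup G)) : G) * y := by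
    intro y hy
    have := (Subgroup.mem_center_iff.mp hwc) ⟨y, hy⟩
    exact congrArg Subtype.val this
  have e1 := cent_eq hCN H hHmax hz1 (central_of_sylow_central H hH Q hQH hzQ hzc)
  have e2 := cent_eq hCN K hKmax hz1 (central_of_sylow_central K hK Q hQK hzQ hzc)
  rw [← e1, e2]

theorem conj_isNilpotent (H : Subgroup G) (hH : Group.IsNilpotent H) (g : G) :
    Group.IsNilpotent (H.map (MulAut.conj g).toMonoidHom) :=
  Group.nilpotent_of_surjective ((MulAut.conj g).toMonoidHom.subgroupMap H)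
    ((MulAut.conj g).toMonoidHom.subgroupMap_surjective H)

theorem conj_max (H : Subgroup G)
    (hHmax : ∀ L : Subgroup G, Group.IsNilpotent L → H ≤ L → L = H) (g : G) :
    ∀ L : Subgroup G, Group.IsNilpotent L → H.map (MulAut.conj g).toMonoidHom ≤ L →
      L = H.map (MulAut.conj g).toMonoidHom := by
  intro L hL hle
  have h1 : H ≤ L.map (MulAut.conj g⁻¹).toMonoidHom := by
    intro h hh
    refine Subgroup.mem_map.mpr ⟨g * h * g⁻¹, hle (Subgroup.mem_map.mpr ⟨h, hh, ?_⟩), ?_⟩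
    · simp [MulAut.conj_apply]
    · simp only [MulEquiv.coe_toMonoidHom, MulAut.conj_apply]; group
  have h2 := hHmax _ (conj_isNilpotent L hL g⁻¹) h1
  apply le_antisymm _ hle
  intro l hl
  have h3 : g⁻¹ * l * g ∈ H := by
    rw [← h2]
    refine Subgroup.mem_map.mpr ⟨l, hl, ?_⟩
    simp [MulAut.conj_apply]
  refine Subgroup.mem_map.mpr ⟨g⁻¹ * l * g, h3, ?_⟩
  simp only [MulEquiv.coe_toMonoidHom, MulAut.conj_apply]; group

theorem conj_or_coprime [Finite G] (hCN : IsCNGroup G) (H₁ H₂ : Subgroup G)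
    (h₁ : Group.IsNilpotent ↥H₁ ∧ ∀ L : Subgroup G, Group.IsNilpotent L → H₁ ≤ L → L = H₁)
    (h₂ : Group.IsNilpotent ↥H₂ ∧ ∀ L : Subgroup G, Group.IsNilpotent L → H₂ ≤ L → L = H₂) :
    (∃ g : G, H₂ = H₁.map (MulAut.conj g).toMonoidHom) ∨
      (Nat.card H₁).Coprime (Nat.card H₂) := by
  by_cases hcop : (Nat.card H₁).Coprime (Nat.card H₂)
  · exact Or.inr hcop
  · left
    obtain ⟨p, hp, hd1, hd2⟩ := Nat.Prime.not_coprime_iff_dvd.mp hcop
    have : Fact p.Prime := ⟨hp⟩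
    obtain ⟨Q₁, hQ₁⟩ := exists_sylow_le hCN H₁ h₁.1 h₁.2 hd1
    obtain ⟨Q₂, hQ₂⟩ := exists_sylow_le hCN H₂ h₂.1 h₂.2 hd2
    obtain ⟨g, hg⟩ := MulAction.exists_smul_eq G Q₁ Q₂
    refine ⟨g, ?_⟩
    have hQ₂' : (Q₂ : Subgroup G) ≤ H₁.map (MulAut.conj g).toMonoidHom := by
      rw [← hg, Sylow.coe_subgroup_smul, Subgroup.pointwise_smul_def]
      exact Subgroup.map_mono hQ₁
    have hQne : (Q₂ : Subgroup G) ≠ ⊥ := by
      apply Q₂.ne_bot_of_dvd_card
      exact hd2.trans (Subgroup.card_subgroup_dvd_card H₂)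
    exact (eq_of_common_sylow hCN _ _ (conj_isNilpotent H₁ h₁.1 g) (conj_max H₁ h₁.2 g)
      h₂.1 h₂.2 Q₂ hQne hQ₂' hQ₂).symm

theorem exists_max_nilpotent_ge [Finite G] (F : Subgroup G) (hF : Group.IsNilpotent F) :
    ∃ H : Subgroup G, F ≤ H ∧ Group.IsNilpotent H ∧
      ∀ L : Subgroup G, Group.IsNilpotent L → H ≤ L → L = H := by
  have hwf : WellFounded ((· > ·) : Subgroup G → Subgroup G → Prop) := wellFounded_gt
  obtain ⟨H, ⟨hFH, hHnil⟩, hmin⟩ :=
    hwf.has_min {L : Subgroup G | F ≤ L ∧ Group.IsNilpotent L} ⟨F, le_rfl, hF⟩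
  refine ⟨H, hFH, hHnil, ?_⟩
  intro L hL hle
  by_contra hne
  exact hmin L ⟨hFH.trans hle, hL⟩ (lt_of_le_of_ne hle (Ne.symm hne))

theorem prime_dvd_card_of_mem [Finite G] {p : ℕ} (hp : p.Prime) (H : Subgroup G) {x : G}
    (hx : x ∈ H) (hx1 : x ≠ 1) (hxp : IsPGroup p (Subgroup.zpowers x)) : p ∣ Nat.card H := by
  have : Fact p.Prime := ⟨hp⟩
  obtain ⟨n, hn⟩ := IsPGroup.iff_card.mp hxp
  rw [Nat.card_zpowers] at hn
  have hn0 : n ≠ 0 := by
    rintro rfl
    rw [pow_zero, orderOf_eq_one_iff] at hn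
    exact hx1 hn
  have h1 : p ∣ orderOf x := by rw [hn]; exact dvd_pow_self p hn0
  exact h1.trans (Subgroup.orderOf_dvd_natCard H hx)

theorem commuting_primes [Finite G] (hCN : IsCNGroup G) (p q r : ℕ) (hp : p.Prime) (hq : q.Prime)
    (hr : r.Prime) (x y y' z : G) (hx1 : x ≠ 1) (hy1 : y ≠ 1) (hy'1 : y' ≠ 1) (hz1 : z ≠ 1)
    (hxp : IsPGroup p (Subgroup.zpowers x)) (hyq : IsPGroup q (Subgroup.zpowers y))
    (hy'q : IsPGroup q (Subgroup.zpowers y')) (hzr : IsPGroup r (Subgroup.zpowers z))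
    (hxy : x * y = y * x) (hyz : y' * z = z * y') :
    ∃ x' z' : G, x' ≠ 1 ∧ z' ≠ 1 ∧ IsPGroup p (Subgroup.zpowers x') ∧
      IsPGroup r (Subgroup.zpowers z') ∧ x' * z' = z' * x' := by
  by_cases hpr : p = r
  · subst hpr; exact ⟨x, x, hx1, hx1, hxp, hxp, rfl⟩
  by_cases hpq : p = q
  · subst hpq; exact ⟨y', z, hy'1, hz1, hy'q, hzr, hyz⟩
  by_cases hqr : q = r
  · subst hqr; exact ⟨x, y, hx1, hy1, hxp, hyq, hxy⟩
  obtain ⟨H₁, hle₁, hnil₁, hmax₁⟩ := exists_max_nilpotent_ge _ (hCN y hy1)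
  obtain ⟨H₂, hle₂, hnil₂, hmax₂⟩ := exists_max_nilpotent_ge _ (hCN y' hy'1)
  have hxH₁ : x ∈ H₁ := hle₁ (by rw [mem_cent_singleton]; exact hxy.symm)
  have hyH₁ : y ∈ H₁ := hle₁ (by rw [mem_cent_singleton])
  have hy'H₂ : y' ∈ H₂ := hle₂ (by rw [mem_cent_singleton])
  have hzH₂ : z ∈ H₂ := hle₂ (by rw [mem_cent_singleton]; exact hyz)
  have hq1 := prime_dvd_card_of_mem hq H₁ hyH₁ hy1 hyq
  have hq2 := prime_dvd_card_of_mem hq H₂ hy'H₂ hy'1 hy'q
  have hp1 := prime_dvd_card_of_mem hp H₁ hxH₁ hx1 hxp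
  have hr2 := prime_dvd_card_of_mem hr H₂ hzH₂ hz1 hzr
  rcases conj_or_coprime hCN H₁ H₂ ⟨hnil₁, hmax₁⟩ ⟨hnil₂, hmax₂⟩ with ⟨g, hg⟩ | hcop
  · have hcard : Nat.card H₂ = Nat.card H₁ := by
      rw [hg]
      exact (Nat.card_congr (H₁.equivMapOfInjective _
        (MulEquiv.injective (MulAut.conj g))).toEquiv).symm
    rw [hcard] at hr2
    obtain ⟨zp, hzpH, hzpo, hzpc⟩ := exists_central_prime H₁ hnil₁ hp hp1
    obtain ⟨zr, hzrH, hzro, hzrc⟩ := exists_central_prime H₁ hnil₁ hr hr2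
    have hzp1 : zp ≠ 1 := by
      rintro rfl; rw [orderOf_one] at hzpo; exact hp.one_lt.ne hzpo
    have hzr1 : zr ≠ 1 := by
      rintro rfl; rw [orderOf_one] at hzro; exact hr.one_lt.ne hzro
    have : Fact p.Prime := ⟨hp⟩
    have : Fact r.Prime := ⟨hr⟩
    refine ⟨zp, zr, hzp1, hzr1, ?_, ?_, hzrc zp hzpH⟩
    · apply IsPGroup.of_card (n := 1)
      rw [Nat.card_zpowers, hzpo, pow_one]
    · apply IsPGroup.of_card (n := 1)
      rw [Nat.card_zpowers, hzro, pow_one]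
  · exact absurd hcop (Nat.Prime.not_coprime_iff_dvd.mpr ⟨q, hq, hq1, hq2⟩)

/-- Let G be a minimal simple group of odd order in which every non-identity element has nilpotent centralizer. Then any two nilpotent subgroups each contained in no larger nilpotent subgroup are either conjugate or of coprime orders; and for primes p, q, r: if some elements x, y ≠ 1 of p-power and q-power order commute, and some elements y', z ≠ 1 of q-power and r-power order commute, then some elements of p-power and r-power order, both ≠ 1, commute. -/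
theorem result {G : Type*} [Group G] [Finite G] (hG : Cfsg.IsMinSimpleOddOrder G) (hCN : Cfsg.IsCNGroup G) :
    (∀ H₁ H₂ : Subgroup G, (Group.IsNilpotent ↥H₁ ∧ ∀ L : Subgroup G, Group.IsNilpotent L → H₁ ≤ L → L = H₁) → (Group.IsNilpotent ↥H₂ ∧ ∀ L : Subgroup G, Group.IsNilpotent L → H₂ ≤ L → L = H₂) → (∃ g : G, H₂ = H₁.map (MulAut.conj g).toMonoidHom) ∨ (Nat.card H₁).Coprime (Nat.card H₂)) ∧
      ∀ (p q r : ℕ), p.Prime → q.Prime → r.Prime → ∀ (x y y' z : G), x ≠ 1 → y ≠ 1 → y' ≠ 1 → z ≠ 1 →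
        IsPGroup p (Subgroup.zpowers x) → IsPGroup q (Subgroup.zpowers y) → IsPGroup q (Subgroup.zpowers y') → IsPGroup r (Subgroup.zpowers z) →
        x * y = y * x → y' * z = z * y' →
        ∃ x' z' : G, x' ≠ 1 ∧ z' ≠ 1 ∧ IsPGroup p (Subgroup.zpowers x') ∧ IsPGroup r (Subgroup.zpowers z') ∧ x' * z' = z' * x' := by
  refine ⟨fun H₁ H₂ h₁ h₂ => conj_or_coprime hCN H₁ H₂ h₁ h₂, ?_⟩
  intro p q r hp hq hr x y y' z hx1 hy1 hy'1 hz1 hxp hyq hy'q hzr hxy hyz
  exact commuting_primes hCN p q r hp hq hr x y y' z hx1 hy1 hy'1 hz1 hxp hyq hy'q hzr hxy hyz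

end Cfsg.Agent.S1483
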