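import Cfsg.Statements.S1484
import Cfsg.Agent.Lib.Helper78.CNMin4
import Cfsg.Agent.S1474

set_option autoImplicit false
set_option linter.style.haveILetI false
open Cfsg

namespace Cfsg.Agent.S1484

open Cfsg.Agent.Lib.Helper78.CNMin Cfsg.Agent.Lib.Helper78

/-- the largest normal nilpotent Hall subgroup of a Frobenius-type subgroup with maximal
nilpotent kernel is the kernel -/
theorem fittingHallOf_eq {G : Type*} [Group G] [Finite G] (hCN : IsCNGroup G) {M K E : Subgroup G}
    (hF : FrobIn M K E) (hK : MaxNil K) : fittingHallOf M = K := by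
  have hn : (K.subgroupOf M).Normal := Subgroup.normal_subgroupOf_of_le_normalizer hF.le_normalizer
  have hnil : Group.IsNilpotent (K.subgroupOf M) :=
    Group.nilpotent_of_mulEquiv (_h := hK.1) (Subgroup.subgroupOfEquivOfLe hF.K_le).symm
  have hcard : Nat.card (K.subgroupOf M) = Nat.card K :=
    Nat.card_congr (Subgroup.subgroupOfEquivOfLe hF.K_le).toEquiv
  have hcop : (Nat.card (K.subgroupOf M)).Coprime (K.subgroupOf M).index := by
    rw [hcard]
    exact Nat.Coprime.coprime_dvd_right (Subgroup.relIndex_dvd_index_of_le hF.K_le) (hK.coprime hCN)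
  have h1 : K.subgroupOf M ≤ fittingHall ↥M := le_sSup ⟨hn, hnil, hcop⟩
  have h2 : K ≤ fittingHallOf M := by
    intro x hx
    exact ⟨⟨x, hF.K_le hx⟩, h1 (Subgroup.mem_subgroupOf.mpr hx), rfl⟩
  have h3 : Group.IsNilpotent (fittingHallOf M) :=
    isNilpotent_map _ _ (Cfsg.Agent.S1474.fittingHall_mem (G := ↥M)).2.1
  exact hK.2 _ h3 h2

theorem maxNil_eq_of_normalizer_eq {G : Type*} [Group G] [Finite G]
    (hG : Cfsg.IsMinSimpleOddOrder G) (hCN : Cfsg.IsCNGroup G) {H H' : Subgroup G}
    (hH : MaxNil H) (hH' : MaxNil H')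
    (h : Subgroup.normalizer (H : Set G) = Subgroup.normalizer (H' : Set G)) : H = H' := by
  obtain ⟨E, hF⟩ := hH.exists_frobIn hG hCN
  rw [h] at hF
  exact hH'.eq_kernel_normalizer hG hCN hF

/-- Let G be a minimal simple group of odd order in which every non-identity element has nilpotent centralizer, and M₁, …, M_k maximal subgroups, pairwise non-conjugate, such that every maximal subgroup is conjugate to some M_i. Let H_i be the largest normal nilpotent Hall subgroup of M_i. Then the orders of the H_i are pairwise coprime, their product is the order of G, and every element of G is conjugate to an element of some H_i. -/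
theorem result {G : Type*} [Group G] [Finite G] (hG : Cfsg.IsMinSimpleOddOrder G) (hCN : Cfsg.IsCNGroup G) (k : ℕ) (Mrep : Fin k → Subgroup G) (hmax : ∀ i, IsCoatom (Mrep i))
    (hnc : ∀ i j, i ≠ j → ∀ g : G, Mrep j ≠ (Mrep i).map (MulAut.conj g).toMonoidHom) (hall : ∀ M : Subgroup G, IsCoatom M → ∃ i, ∃ g : G, M = (Mrep i).map (MulAut.conj g).toMonoidHom) :
    (∀ i j, i ≠ j → (Nat.card (Cfsg.fittingHallOf (Mrep i))).Coprime (Nat.card (Cfsg.fittingHallOf (Mrep j)))) ∧
      ∏ i, Nat.card (Cfsg.fittingHallOf (Mrep i)) = Nat.card G ∧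
      ∀ x : G, ∃ i, ∃ g : G, g * x * g⁻¹ ∈ Cfsg.fittingHallOf (Mrep i) := by
  haveI := hG.2.1
  -- the structure of each representative
  have hdata : ∀ i, MaxNil (fittingHallOf (Mrep i)) ∧
      Mrep i = Subgroup.normalizer (fittingHallOf (Mrep i) : Set G) := by
    intro i
    obtain ⟨H, E, hH, hF⟩ := coatom_structure hG hCN (hmax i)
    rw [fittingHallOf_eq hCN hF hH]
    refine ⟨hH, ?_⟩
    by_contra hne
    exact hH.normalizer_ne_top hG ((hmax i).2 _ (lt_of_le_of_ne hF.le_normalizer hne))
  have hnormconj : ∀ i (g : G),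
      Subgroup.normalizer (((fittingHallOf (Mrep i)).map (MulAut.conj g).toMonoidHom : Subgroup G) : Set G)
        = (Mrep i).map (MulAut.conj g).toMonoidHom := by
    intro i g
    rw [← Subgroup.map_equiv_normalizer_eq, ← (hdata i).2]
  -- every maximal nilpotent subgroup is conjugate to some `H_i`
  have hconj : ∀ H : Subgroup G, MaxNil H → ∃ i, ∃ g : G,
      H = (fittingHallOf (Mrep i)).map (MulAut.conj g).toMonoidHom := by
    intro H hH
    obtain ⟨i, g, hig⟩ := hall _ (hH.normalizer_coatom hG hCN)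
    refine ⟨i, g, ?_⟩
    apply maxNil_eq_of_normalizer_eq hG hCN hH ((hdata i).1.map_conj g)
    rw [hnormconj, hig]
  have hcardconj : ∀ (K : Subgroup G) (g : G),
      Nat.card (K.map (MulAut.conj g).toMonoidHom) = Nat.card K := by
    intro K g
    exact Subgroup.card_map_of_injective (MulAut.conj g).injective
  -- (i)
  have hcop : ∀ i j, i ≠ j → (Nat.card (Cfsg.fittingHallOf (Mrep i))).Coprime
      (Nat.card (Cfsg.fittingHallOf (Mrep j))) := by
    intro i j hij
    apply Nat.coprime_of_dvd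
    intro p hp hpi hpj
    haveI : Fact p.Prime := ⟨hp⟩
    obtain ⟨Q, hQ⟩ := Cfsg.Agent.S1477.exists_sylow_le hCN _ (hdata i).1.1 (hdata i).1.2 hpi
    obtain ⟨Q', hQ'⟩ := Cfsg.Agent.S1477.exists_sylow_le hCN _ (hdata j).1.1 (hdata j).1.2 hpj
    obtain ⟨g, hg⟩ := MulAction.exists_smul_eq G Q Q'
    have hpG : p ∣ Nat.card G := dvd_trans hpj (Subgroup.card_subgroup_dvd_card _)
    have hQ'1 : (Q' : Subgroup G) ≠ ⊥ := Q'.ne_bot_of_dvd_card hpG
    have hle : (Q' : Subgroup G) ≤ (fittingHallOf (Mrep i)).map (MulAut.conj g).toMonoidHom := by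
      rw [← hg]
      show (Q : Subgroup G).map (MulAut.conj g).toMonoidHom ≤ _
      exact Subgroup.map_mono hQ
    have hne : fittingHallOf (Mrep j) ⊓ (fittingHallOf (Mrep i)).map (MulAut.conj g).toMonoidHom
        ≠ ⊥ := by
      intro h0
      apply hQ'1
      rw [eq_bot_iff, ← h0]
      exact le_inf hQ' hle
    have heq := (hdata j).1.eq_of_inf_ne_bot hG hCN ((hdata i).1.map_conj g) hne
    apply hnc i j hij g
    rw [← hnormconj, ← heq]
    exact (hdata j).2
  refine ⟨hcop, ?_, ?_⟩
  · apply Nat.dvd_antisymm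
    · apply Fintype.prod_dvd_of_isRelPrime
      · intro i j hij
        exact Nat.coprime_iff_isRelPrime.mp (hcop i j hij)
      · intro i
        exact Subgroup.card_subgroup_dvd_card _
    · rw [Nat.dvd_iff_prime_pow_dvd_dvd]
      intro p n hp hpn
      rcases Nat.eq_zero_or_pos n with rfl | hn
      · simp
      haveI : Fact p.Prime := ⟨hp⟩
      obtain ⟨P⟩ : Nonempty (Sylow p G) := inferInstance
      have h1 : p ^ n ∣ Nat.card (P : Subgroup G) := P.pow_dvd_card_of_pow_dvd_card hpn
      obtain ⟨H, hH, hPH⟩ := exists_maxNil (L := (P : Subgroup G)) P.isPGroup'.isNilpotent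
      obtain ⟨i, g, hig⟩ := hconj H hH
      have h2 : Nat.card (P : Subgroup G) ∣ Nat.card H := Subgroup.card_dvd_of_le hPH
      rw [hig, hcardconj] at h2
      exact dvd_trans h1 (dvd_trans h2 (Finset.dvd_prod_of_mem _ (Finset.mem_univ i)))
  · intro x
    by_cases hx : x = 1
    · subst hx
      have hbt : (⊥ : Subgroup G) ≠ ⊤ := bot_ne_top
      obtain ⟨M, hM, _⟩ := (eq_top_or_exists_le_coatom (⊥ : Subgroup G)).resolve_left hbt
      obtain ⟨i, _, _⟩ := hall M hM
      exact ⟨i, 1, by simp⟩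
    · have hnil : Group.IsNilpotent (Subgroup.zpowers x) := by
        apply isNilpotent_of_comm
        rintro ⟨a, ha⟩ ⟨b, hb⟩
        obtain ⟨i, rfl⟩ := Subgroup.mem_zpowers_iff.mp ha
        obtain ⟨j, rfl⟩ := Subgroup.mem_zpowers_iff.mp hb
        apply Subtype.ext
        show x ^ i * x ^ j = x ^ j * x ^ i
        rw [← zpow_add, ← zpow_add, add_comm]
      obtain ⟨H, hH, hxH⟩ := exists_maxNil hnil
      obtain ⟨i, g, hig⟩ := hconj H hH
      have h1 : x ∈ H := hxH (Subgroup.mem_zpowers x)
      rw [hig, mem_map_conj] at h1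
      refine ⟨i, g⁻¹, ?_⟩
      rw [inv_inv]
      exact h1

end Cfsg.Agent.S1484
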