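import Cfsg.Statements.S1485
import Cfsg.Agent.Lib.Helper25.Ind
import Mathlib.Algebra.BigOperators.Finprod

set_option autoImplicit false
open Cfsg

namespace Cfsg.Agent.S1485

open Cfsg.Agent.Lib.Helper25

variable {G : Type*} [Group G]

/-- conjugate of a function on a normal subgroup -/
def cj (H : Subgroup G) [hN : H.Normal] (θ : H → ℂ) (g : G) : H → ℂ :=
  fun h : H => θ ⟨g * h * g⁻¹, hN.conj_mem h h.2 g⟩

theorem cj_mul (H : Subgroup G) [hN : H.Normal] (θ : H → ℂ) (x y : G) :
    cj H (cj H θ x) y = cj H θ (x * y) := by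
  funext h
  simp only [cj]
  congr 1
  apply Subtype.ext
  simp only
  group

theorem cj_one (H : Subgroup G) [hN : H.Normal] (θ : H → ℂ) : cj H θ 1 = θ := by
  funext h
  simp only [cj]
  congr 1
  apply Subtype.ext
  simp

/-- the fibres of `g ↦ θ^g` all have the size of the stabilizer -/
theorem card_fiber [Fintype G] (H : Subgroup G) [hN : H.Normal] [DecidableEq (H → ℂ)] (θ : H → ℂ) (x₀ : G) :
    (Finset.univ.filter (fun x : G => cj H θ x = cj H θ x₀)).card =
      Nat.card {g : G // ∀ h : H, θ ⟨g * h * g⁻¹, hN.conj_mem h h.2 g⟩ = θ h} := by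
  classical
  rw [← Fintype.card_subtype, ← Nat.card_eq_fintype_card]
  apply Nat.card_congr
  refine
    { toFun := fun x => ⟨x.1 * x₀⁻¹, ?_⟩
      invFun := fun g => ⟨g.1 * x₀, ?_⟩
      left_inv := ?_
      right_inv := ?_ }
  · intro h
    have h1 : cj H θ (x.1 * x₀⁻¹) = θ := by
      rw [← cj_mul, x.2, cj_mul, mul_inv_cancel, cj_one]
    exact congrFun h1 h
  · have h1 : cj H θ g.1 = θ := funext g.2
    rw [← cj_mul, h1]
  · intro x
    apply Subtype.ext
    simp
  · intro g
    apply Subtype.ext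
    simp

/-- Let H be a normal subgroup of the finite group G and θ an irreducible character of H. On H, the function induced from θ equals r times the sum of the distinct G-conjugates of θ, where r is the number of elements of G fixing θ under conjugation divided by the order of H (the index of H in the inertia group). -/
theorem result {G : Type*} [Group G] [Fintype G] (H : Subgroup G) [hN : H.Normal] (θ : H → ℂ) (hθ : Cfsg.IsIrrCharacter H θ) : (fun h : H => Cfsg.indFun H θ h) = ((Nat.card {g : G // ∀ h : H, θ ⟨g * h * g⁻¹, hN.conj_mem h h.2 g⟩ = θ h} : ℂ) / (Nat.card H : ℂ)) • ∑ᶠ ψ ∈ {ψ : H → ℂ | ∃ g : G, ψ = fun h : H => θ ⟨g * h * g⁻¹, hN.conj_mem h h.2 g⟩}, ψ := by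
  classical
  set T := Nat.card {g : G // ∀ h : H, θ ⟨g * h * g⁻¹, hN.conj_mem h h.2 g⟩ = θ h} with hT
  -- the orbit as a finset
  have hset : {ψ : H → ℂ | ∃ g : G, ψ = fun h : H => θ ⟨g * h * g⁻¹, hN.conj_mem h h.2 g⟩} =
      ↑(Finset.univ.image (fun g : G => cj H θ g)) := by
    ext ψ
    simp only [Set.mem_ofPred_eq, Finset.coe_image, Finset.coe_univ, Set.image_univ, Set.mem_range]
    constructor
    · rintro ⟨g, rfl⟩; exact ⟨g, rfl⟩
    · rintro ⟨g, rfl⟩; exact ⟨g, rfl⟩
  rw [hset, finsum_mem_coe_finset]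
  -- sum over G of conjugates
  have hsum : ∑ x : G, cj H θ x = (T : ℂ) • ∑ ψ ∈ Finset.univ.image (fun g : G => cj H θ g), ψ := by
    rw [Finset.sum_comp (fun ψ : H → ℂ => ψ) (fun g : G => cj H θ g), Finset.smul_sum]
    apply Finset.sum_congr rfl
    intro ψ hψ
    obtain ⟨x₀, _, rfl⟩ := Finset.mem_image.mp hψ
    rw [card_fiber H θ x₀, ← hT]
    rw [← Nat.cast_smul_eq_nsmul ℂ]
  funext h
  rw [indFun_apply]
  have h1 : ∑ x : G, extendByZero H θ (x⁻¹ * (h : G) * x) = ∑ x : G, cj H θ x h := by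
    apply Fintype.sum_equiv (Equiv.inv G)
    intro x
    simp only [Equiv.inv_apply, cj, inv_inv]
    rw [extendByZero_of_mem H θ (by simpa using hN.conj_mem h h.2 x⁻¹)]
  rw [h1, ← Finset.sum_apply, hsum]
  simp only [Pi.smul_apply, smul_eq_mul]
  field_simp

end Cfsg.Agent.S1485
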