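import Cfsg.Statements.S1487
import Cfsg.Agent.Lib.Helper25.IndNormal
import Cfsg.Agent.Lib.Helper25.CharBound

set_option autoImplicit false
open Cfsg

namespace Cfsg.Agent.S1487

open Cfsg.Agent.Lib.Helper25

/-- Let A ≤ H be normal subgroups of the finite group G and θ an irreducible character of H. Then θ takes the value θ 1 on all of A if and only if the function induced from θ to G takes its value at 1 on all of A. -/
theorem result {G : Type*} [Group G] [Fintype G] (A H : Subgroup G) [hA : A.Normal] [hH : H.Normal] (hAH : A ≤ H) (θ : H → ℂ) (hθ : Cfsg.IsIrrCharacter H θ) : (∀ a : H, (a : G) ∈ A → θ a = θ 1) ↔ (∀ a : G, a ∈ A → Cfsg.indFun H θ a = Cfsg.indFun H θ 1) := by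
  classical
  have hchar : IsCharacter H θ := Cfsg.Agent.Lib.Helper3.IsIrrCharacter.isCharacter hθ
  have hH0 : (Nat.card H : ℂ) ≠ 0 := card_ne_zero_complex
  have hone : ∀ x : G, conjOn H θ x (1 : H) = θ 1 := by
    intro x
    rw [conjOn_apply]
    congr 1
    apply Subtype.ext
    simp
  have hind1 : indFun H θ 1 = (Nat.card H : ℂ)⁻¹ * ∑ _x : G, θ 1 := by
    have := indFun_restrict_normal H θ (1 : H)
    rw [Finset.sum_congr rfl (fun x _ => hone x)] at this
    exact this
  have hinda : ∀ a : G, ∀ ha : a ∈ A, indFun H θ a =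
      (Nat.card H : ℂ)⁻¹ * ∑ x : G, θ ⟨x * a * x⁻¹, hAH (hA.conj_mem a ha x)⟩ := by
    intro a ha
    exact indFun_restrict_normal H θ ⟨a, hAH ha⟩
  constructor
  · intro h a ha
    rw [hinda a ha, hind1]
    congr 1
    apply Finset.sum_congr rfl
    intro x _
    exact h ⟨x * a * x⁻¹, hAH (hA.conj_mem a ha x)⟩ (hA.conj_mem a ha x)
  · intro h a ha
    have h1 := h a ha
    rw [hinda a ha, hind1] at h1
    have h2 : ∑ x : G, θ ⟨x * a * x⁻¹, hAH (hA.conj_mem a ha x)⟩ = ∑ _x : G, θ 1 :=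
      mul_left_cancel₀ (inv_ne_zero hH0) h1
    have h3 : ∑ x : G, ((θ 1).re - (θ ⟨x * a * x⁻¹, hAH (hA.conj_mem a ha x)⟩).re) = 0 := by
      have := congrArg Complex.re h2
      rw [Complex.re_sum, Complex.re_sum] at this
      rw [Finset.sum_sub_distrib, this, sub_self]
    have h4 := (Finset.sum_eq_zero_iff_of_nonneg (fun x _ =>
      sub_nonneg.mpr (char_re_le hchar ⟨x * a * x⁻¹, hAH (hA.conj_mem a ha x)⟩).1)).mp h3
    have h5 := h4 1 (Finset.mem_univ 1)
    have h6 : (θ ⟨1 * (a : G) * 1⁻¹, hAH (hA.conj_mem a ha 1)⟩).re = (θ 1).re := by linarith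
    have h7 := (char_re_le hchar ⟨1 * (a : G) * 1⁻¹, hAH (hA.conj_mem a ha 1)⟩).2 h6
    have h8 : (⟨1 * (a : G) * 1⁻¹, hAH (hA.conj_mem a ha 1)⟩ : H) = a := by
      apply Subtype.ext
      simp
    rw [h8] at h7
    exact h7

end Cfsg.Agent.S1487
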