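import Cfsg.Statements.S1490
import Cfsg.Agent.Lib.Helper75.Twist

set_option autoImplicit false
set_option linter.style.haveILetI false
open Cfsg

namespace Cfsg.Agent.S1490

open Cfsg.Agent.Lib.Helper75 Cfsg.Agent.Lib.Helper3
open scoped ComplexConjugate

universe u

section Aux
variable {G : Type u} [Group G] [Fintype G] (H T : Subgroup G) [hN : H.Normal] [Fintype T]
  (θ : H → ℂ)

/-- Under an abelian inertia quotient all `m ψ ≠ 0` coincide, and `ψ 1 = m ψ * θ 1`. -/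
theorem mult_const [Fintype (IrrCharacter T)] (hθ : IsIrrCharacter H θ)
    (hT : ∀ g : G, g ∈ T ↔ ∀ h : H, θ ⟨g * h * g⁻¹, hN.conj_mem h h.2 g⟩ = θ h) (hHT : H ≤ T)
    (hab : ∀ x ∈ T, ∀ y ∈ T, x * y * x⁻¹ * y⁻¹ ∈ H)
    (m : IrrCharacter T → ℕ)
    (hm : ∀ ψ : IrrCharacter T,
      classInner (indFun (H.subgroupOf T) (resSub H T θ)) (ψ : T → ℂ) = (m ψ : ℂ)) :
    (∀ ψ : IrrCharacter T, m ψ ≠ 0 → (ψ : T → ℂ) 1 = (m ψ : ℂ) * θ 1) ∧
    (∀ ψ ψ' : IrrCharacter T, m ψ ≠ 0 → m ψ' ≠ 0 → m ψ = m ψ') := by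
  classical
  haveI : (H.subgroupOf T).Normal := Subgroup.normal_subgroupOf
  haveI : Fintype (H.subgroupOf T) := Fintype.ofFinite _
  have hθ' := isIrrCharacter_resSub hHT hθ
  have hinv' : ∀ (g : T) (n : H.subgroupOf T),
      resSub H T θ ⟨g * n * g⁻¹, (inferInstance : (H.subgroupOf T).Normal).conj_mem (n : T) n.2 g⟩ =
        resSub H T θ n := by
    intro g n
    exact (hT g.1).1 g.2 ⟨n.1.1, Subgroup.mem_subgroupOf.mp n.2⟩
  -- restriction of ψ to H' is m ψ • θ'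
  have hres : ∀ ψ : IrrCharacter T, m ψ ≠ 0 →
      (fun n : H.subgroupOf T => (ψ : T → ℂ) n) = (m ψ : ℂ) • resSub H T θ := by
    intro ψ hψ
    have hψcf : IsClassFunction T (ψ : T → ℂ) :=
      IsCharacter.isClassFunction (IsIrrCharacter.isCharacter ψ.2)
    have h1 := hm ψ
    rw [Cfsg.Agent.Lib.Helper25.frobenius_reciprocity (H.subgroupOf T) (resSub H T θ) _ hψcf,
      classInner_conj_symm] at h1
    have h2 : classInner (fun n : H.subgroupOf T => (ψ : T → ℂ) n) (resSub H T θ) = (m ψ : ℂ) := by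
      have := congrArg conj h1
      rw [Complex.conj_conj, Complex.conj_natCast] at this
      exact this
    have hne : classInner (fun n : H.subgroupOf T => (ψ : T → ℂ) n) (resSub H T θ) ≠ 0 := by
      rw [h2]; exact_mod_cast hψ
    obtain ⟨e, -, he1, he2⟩ := restrict_eq_smul_of_invariant' (H.subgroupOf T) ψ.2 hθ' hne hinv'
    rw [h2] at he1
    rw [he2, ← he1]
  have hθ1 : θ 1 ≠ 0 := Cfsg.Agent.Lib.Helper79.irr_one_ne_zero ⟨θ, hθ⟩
  constructor
  · intro ψ hψ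
    have := congrFun (hres ψ hψ) 1
    simp only [Pi.smul_apply, smul_eq_mul] at this
    exact this
  · intro ψ ψ' hψ hψ'
    have hab' : ∀ x y : T, x * y * x⁻¹ * y⁻¹ ∈ H.subgroupOf T := by
      intro x y
      rw [Subgroup.mem_subgroupOf]
      exact hab x.1 x.2 y.1 y.2
    have hne : classInner (fun n : H.subgroupOf T => (ψ' : T → ℂ) n)
        (fun n : H.subgroupOf T => (ψ : T → ℂ) n) ≠ 0 := by
      rw [hres ψ hψ, hres ψ' hψ', classInner_smul_left, classInner_smul_right,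
        classInner_irr hθ' hθ', if_pos rfl, Complex.conj_natCast]
      have h1 : (m ψ : ℂ) ≠ 0 := by exact_mod_cast hψ
      have h2 : (m ψ' : ℂ) ≠ 0 := by exact_mod_cast hψ'
      simp [h1, h2]
    obtain ⟨β, -, -, hβN, hβ⟩ := exists_linear_twist (H.subgroupOf T) hab' ψ'.2 ψ.2 hne
    have h1 := congrFun (hres ψ hψ) 1
    have h2 := congrFun (hres ψ' hψ') 1
    simp only [Pi.smul_apply, smul_eq_mul] at h1 h2
    have h3 : (ψ' : T → ℂ) 1 = (ψ : T → ℂ) 1 := by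
      have := congrFun hβ 1
      rw [Pi.mul_apply, hβN 1 (Subgroup.one_mem _), mul_one] at this
      exact this
    have h4 : (m ψ : ℂ) * resSub H T θ 1 = (m ψ' : ℂ) * resSub H T θ 1 := by
      have e1 : ((1 : H.subgroupOf T) : T) = 1 := rfl
      rw [e1] at h1 h2
      rw [← h1, ← h2, h3]
    have h5 : resSub H T θ 1 = θ 1 := rfl
    rw [h5] at h4
    have := mul_right_cancel₀ hθ1 h4
    exact_mod_cast this

theorem main_of [Fintype (IrrCharacter T)] (hθ : IsIrrCharacter H θ)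
    (hT : ∀ g : G, g ∈ T ↔ ∀ h : H, θ ⟨g * h * g⁻¹, hN.conj_mem h h.2 g⟩ = θ h) (hHT : H ≤ T)
    (hab : ∀ x ∈ T, ∀ y ∈ T, x * y * x⁻¹ * y⁻¹ ∈ H)
    (m : IrrCharacter T → ℕ)
    (hm : ∀ ψ : IrrCharacter T,
      classInner (indFun (H.subgroupOf T) (resSub H T θ)) (ψ : T → ℂ) = (m ψ : ℂ))
    (hcard : (∑ ψ : IrrCharacter T, m ψ ^ 2) * Nat.card H = Nat.card T)
    (hG : indFun H θ = ∑ ψ : IrrCharacter T, (m ψ : ℂ) • indFun T (ψ : T → ℂ))
    (hirr : ∀ ψ : IrrCharacter T, m ψ ≠ 0 → IsIrrCharacter G (indFun T (ψ : T → ℂ)))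
    (horth : ∀ ψ ψ' : IrrCharacter T, ψ ≠ ψ' → m ψ ≠ 0 → m ψ' ≠ 0 →
        classInner (indFun T (ψ : T → ℂ)) (indFun T (ψ' : T → ℂ)) = 0)
    (ψ₀ : IrrCharacter T) (hψ₀' : m ψ₀ ≠ 0) :
    ∃ (C : Finset (G → ℂ)), (∀ χ ∈ C, IsIrrCharacter G χ) ∧
      (m ψ₀) ^ 2 * C.card * Nat.card H = Nat.card T ∧
      indFun H θ = (m ψ₀ : ℂ) • ∑ χ ∈ C, χ ∧
      ∀ χ ∈ C, χ 1 = (T.index : ℂ) * (m ψ₀ : ℕ) * θ 1 := by
  classical
  obtain ⟨hdeg, hconst⟩ := mult_const H T θ hθ hT hHT hab m hm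
  set P : Finset (IrrCharacter T) := Finset.univ.filter (fun ψ => m ψ ≠ 0) with hP
  have hme : ∀ ψ ∈ P, m ψ = m ψ₀ := by
    intro ψ hψ
    have : m ψ ≠ 0 := by rw [hP] at hψ; simpa using hψ
    exact hconst ψ ψ₀ this hψ₀'
  have hinj : Set.InjOn (fun ψ : IrrCharacter T => indFun T (ψ : T → ℂ)) P := by
    intro ψ hψ ψ' hψ' heq
    by_contra hne
    have h1 : m ψ ≠ 0 := by
      have : ψ ∈ P := hψ
      rw [hP] at this; simpa using this
    have h2 : m ψ' ≠ 0 := by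
      have : ψ' ∈ P := hψ'
      rw [hP] at this; simpa using this
    have h3 := horth ψ ψ' hne h1 h2
    have h4 := classInner_irr (hirr ψ h1) (hirr ψ h1)
    rw [if_pos rfl] at h4
    simp only at heq
    rw [← heq, h4] at h3
    exact one_ne_zero h3
  refine ⟨P.image (fun ψ : IrrCharacter T => indFun T (ψ : T → ℂ)), ?_, ?_, ?_, ?_⟩
  · intro χ hχ
    obtain ⟨ψ, hψ, rfl⟩ := Finset.mem_image.1 hχ
    have : m ψ ≠ 0 := by rw [hP] at hψ; simpa using hψ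
    exact hirr ψ this
  · rw [Finset.card_image_of_injOn hinj, ← hcard]
    congr 1
    have h1 : ∑ ψ : IrrCharacter T, m ψ ^ 2 = ∑ ψ ∈ P, m ψ ^ 2 := by
      rw [hP, Finset.sum_filter]
      apply Finset.sum_congr rfl
      intro ψ _
      by_cases h0 : m ψ = 0
      · simp [h0]
      · simp [h0]
    rw [h1, Finset.sum_congr rfl (fun ψ hψ => by rw [hme ψ hψ]), Finset.sum_const, smul_eq_mul]
    ring
  · rw [hG, Finset.sum_image hinj, Finset.smul_sum]
    have h1 : ∑ ψ : IrrCharacter T, (m ψ : ℂ) • indFun T (ψ : T → ℂ) =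
        ∑ ψ ∈ P, (m ψ : ℂ) • indFun T (ψ : T → ℂ) := by
      rw [hP, Finset.sum_filter]
      apply Finset.sum_congr rfl
      intro ψ _
      by_cases h0 : m ψ = 0
      · simp [h0]
      · simp [h0]
    rw [h1]
    apply Finset.sum_congr rfl
    intro ψ hψ
    rw [hme ψ hψ]
  · intro χ hχ
    obtain ⟨ψ, hψ, rfl⟩ := Finset.mem_image.1 hχ
    have h0 : m ψ ≠ 0 := by rw [hP] at hψ; simpa using hψ
    rw [indFun_apply_one, hdeg ψ h0, hme ψ hψ]
    ring

theorem le_inertia (hθ : IsIrrCharacter H θ)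
    (hT : ∀ g : G, g ∈ T ↔ ∀ h : H, θ ⟨g * h * g⁻¹, hN.conj_mem h h.2 g⟩ = θ h) : H ≤ T := by
  intro g hg
  rw [hT]
  intro h
  have hcf : IsClassFunction H θ := IsCharacter.isClassFunction (IsIrrCharacter.isCharacter hθ)
  exact hcf h ⟨g, hg⟩

theorem main (hθ : IsIrrCharacter H θ)
    (hT : ∀ g : G, g ∈ T ↔ ∀ h : H, θ ⟨g * h * g⁻¹, hN.conj_mem h h.2 g⟩ = θ h)
    (hab : ∀ x ∈ T, ∀ y ∈ T, x * y * x⁻¹ * y⁻¹ ∈ H) :
    ∃ (e : ℕ) (C : Finset (G → ℂ)), 0 < e ∧ (∀ χ ∈ C, IsIrrCharacter G χ) ∧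
      e ^ 2 * C.card * Nat.card H = Nat.card T ∧ indFun H θ = (e : ℂ) • ∑ χ ∈ C, χ ∧
      ∀ χ ∈ C, χ 1 = (T.index : ℂ) * e * θ 1 := by
  classical
  haveI : Finite (IrrCharacter T) := irrCharacter_finite
  haveI := Fintype.ofFinite (IrrCharacter T)
  have hHT : H ≤ T := le_inertia H T θ hθ hT
  obtain ⟨m, hm, -, hcard, hG, hirr, horth⟩ := clifford_core_full H T θ hθ hT hHT
  have hex : ∃ ψ₀ : IrrCharacter T, m ψ₀ ≠ 0 := by
    by_contra hall
    simp only [not_exists, not_not] at hall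
    have : (∑ ψ : IrrCharacter T, m ψ ^ 2) = 0 := by
      apply Finset.sum_eq_zero
      intro ψ _
      rw [hall ψ]; simp
    rw [this, zero_mul] at hcard
    exact (Nat.card_pos (α := T)).ne' hcard.symm
  obtain ⟨ψ₀, hψ₀'⟩ := hex
  obtain ⟨C, h1, h2, h3, h4⟩ :=
    main_of H T θ hθ hT hHT hab m hm hcard hG hirr horth ψ₀ hψ₀'
  exact ⟨m ψ₀, C, Nat.pos_of_ne_zero hψ₀', h1, h2, h3, h4⟩

end Aux

/-- Let H be a normal subgroup of the finite group G, θ an irreducible character of H with inertia group T, and suppose the commutator of any two elements of T lies in H (T/H abelian). Then there are a positive integer e and a finite set C of irreducible characters of G with e ^ 2 * |C| * |H| = |T|, such that the function induced from θ is e times the sum of the members of C and every member of C has degree [G:T] * e * θ(1). -/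
theorem result {G : Type*} [Group G] [Fintype G] (H T : Subgroup G) [hN : H.Normal] (θ : H → ℂ) (hθ : Cfsg.IsIrrCharacter H θ) (hT : ∀ g : G, g ∈ T ↔ ∀ h : H, θ ⟨g * h * g⁻¹, hN.conj_mem h h.2 g⟩ = θ h) (hab : ∀ x ∈ T, ∀ y ∈ T, x * y * x⁻¹ * y⁻¹ ∈ H) : ∃ (e : ℕ) (C : Finset (G → ℂ)), 0 < e ∧ (∀ χ ∈ C, Cfsg.IsIrrCharacter G χ) ∧ e ^ 2 * C.card * Nat.card H = Nat.card T ∧ Cfsg.indFun H θ = (e : ℂ) • ∑ χ ∈ C, χ ∧ ∀ χ ∈ C, χ 1 = (T.index : ℂ) * e * θ 1 := by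
  haveI : Fintype T := Fintype.ofFinite T
  exact main H T θ hθ hT hab

end Cfsg.Agent.S1490
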