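import Cfsg.Statements.S1491
import Cfsg.Agent.S1490
import Cfsg.Agent.S0863
import Cfsg.Agent.Lib.Helper15.DetChar
import Cfsg.Agent.Lib.Helper75.LinExt

set_option autoImplicit false
set_option linter.style.haveILetI false
set_option linter.unusedSectionVars false
open Cfsg

namespace Cfsg.Agent.S1491

open Cfsg.Agent.Lib.Helper75 Cfsg.Agent.Lib.Helper3 Cfsg.Agent.Lib.Helper15
open scoped ComplexConjugate

universe u

section Aux
variable {G : Type u} [Group G] [Fintype G] (H T : Subgroup G) [hN : H.Normal] [Fintype T]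
  (θ : H → ℂ)

/-- Under the coprimality hypothesis, `θ` extends to its inertia group. -/
theorem exists_extension (hθ : IsIrrCharacter H θ)
    (hT : ∀ g : G, g ∈ T ↔ ∀ h : H, θ ⟨g * h * g⁻¹, hN.conj_mem h h.2 g⟩ = θ h) (hHT : H ≤ T)
    (hab : ∀ x ∈ T, ∀ y ∈ T, x * y * x⁻¹ * y⁻¹ ∈ H)
    (hcop : Nat.Coprime (Nat.card H) (H.relIndex T)) :
    ∃ ψ : T → ℂ, IsIrrCharacter T ψ ∧ ∀ n : H.subgroupOf T, ψ n = resSub H T θ n := by
  classical
  haveI hN' : (H.subgroupOf T).Normal := Subgroup.normal_subgroupOf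
  have hθ' := isIrrCharacter_resSub hHT hθ
  have hinv' : ∀ (g : T) (n : H.subgroupOf T),
      resSub H T θ ⟨g * n * g⁻¹, hN'.conj_mem (n : T) n.2 g⟩ = resSub H T θ n := by
    intro g n
    exact (hT g.1).1 g.2 ⟨n.1.1, Subgroup.mem_subgroupOf.mp n.2⟩
  have hcardH' : Nat.card (H.subgroupOf T) = Nat.card H :=
    Nat.card_congr (Subgroup.subgroupOfEquivOfLe hHT).toEquiv
  have hidx : (H.subgroupOf T).index = H.relIndex T := rfl
  -- solvable quotient
  have hsolv : Group.IsSolvable (T ⧸ H.subgroupOf T) := by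
    apply Group.isSolvable_of_comm
    intro a b
    obtain ⟨x, rfl⟩ := QuotientGroup.mk_surjective a
    obtain ⟨y, rfl⟩ := QuotientGroup.mk_surjective b
    rw [← QuotientGroup.mk_mul, ← QuotientGroup.mk_mul, QuotientGroup.eq, Subgroup.mem_subgroupOf]
    have := hab y⁻¹.1 y⁻¹.2 x⁻¹.1 x⁻¹.2
    have h2 : (((x * y)⁻¹ * (y * x) : T) : G) = (y⁻¹ : T).1 * (x⁻¹ : T).1 * (y⁻¹ : T).1⁻¹ * (x⁻¹ : T).1⁻¹ := by
      simp only [Subgroup.coe_mul, Subgroup.coe_inv]
      group
    rw [h2]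
    exact this
  -- degree
  obtain ⟨d, hd, hddvd, -⟩ := IsIrrCharacter.apply_one_dvd_card hθ'
  have hcopd : Nat.Coprime (H.subgroupOf T).index d := by
    rw [hidx]
    rw [hcardH'] at hddvd
    exact (Nat.Coprime.coprime_dvd_left hddvd hcop).symm
  -- the determinant extends
  have hlin := detChar_isLinear (resSub H T θ)
  have hdetinv : ∀ (g : T) (n : H.subgroupOf T),
      detChar (resSub H T θ) ⟨g * n * g⁻¹, hN'.conj_mem (n : T) n.2 g⟩ =
        detChar (resSub H T θ) n := by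
    intro g n
    have h1 := detChar_comp (IsIrrCharacter.isCharacter hθ')
      ((MulAut.conjNormal g : MulAut (H.subgroupOf T)).toMonoidHom) n
    have h2 : (fun x : H.subgroupOf T => resSub H T θ
        ((MulAut.conjNormal g : MulAut (H.subgroupOf T)).toMonoidHom x)) = resSub H T θ := by
      funext x
      exact hinv' g x
    rw [h2] at h1
    rw [h1]
    rfl
  have hpow : ∀ n : H.subgroupOf T, detChar (resSub H T θ) n ^ Nat.card (H.subgroupOf T) = 1 := by
    intro n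
    obtain ⟨φ, hφ⟩ := Cfsg.Agent.Lib.Helper79.exists_monoidHom_of_isCharacter_of_one hlin.1 hlin.2
    rw [hφ n, ← Units.val_pow_eq_pow_val, ← map_pow, pow_card_eq_one', map_one, Units.val_one]
  have hcop' : Nat.Coprime (H.subgroupOf T).index (Nat.card (H.subgroupOf T)) := by
    rw [hidx, hcardH']
    exact hcop.symm
  obtain ⟨μ, hμirr, hμ1, hμN, -⟩ := exists_linear_extension (H.subgroupOf T) hlin.1 hlin.2 hdetinv
    (Nat.card (H.subgroupOf T)) Nat.card_pos.ne' hpow hcop'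
  have := (Cfsg.Agent.S0863.result (H.subgroupOf T) hsolv (resSub H T θ) hθ' hinv' d hd hcopd).2
    ⟨μ, IsIrrCharacter.isCharacter hμirr, hμ1, hμN⟩
  obtain ⟨ψ, hψ, hψN⟩ := this
  exact ⟨ψ, hψ, hψN⟩

theorem main (hθ : IsIrrCharacter H θ)
    (hT : ∀ g : G, g ∈ T ↔ ∀ h : H, θ ⟨g * h * g⁻¹, hN.conj_mem h h.2 g⟩ = θ h)
    (hab : ∀ x ∈ T, ∀ y ∈ T, x * y * x⁻¹ * y⁻¹ ∈ H)
    (hcop : Nat.Coprime (Nat.card H) (H.relIndex T)) :
    ∃ C : Finset (G → ℂ), (∀ χ ∈ C, IsIrrCharacter G χ) ∧ C.card = H.relIndex T ∧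
      indFun H θ = ∑ χ ∈ C, χ ∧ ∀ χ ∈ C, χ 1 = (T.index : ℂ) * θ 1 := by
  classical
  haveI : Finite (IrrCharacter T) := irrCharacter_finite
  haveI := Fintype.ofFinite (IrrCharacter T)
  haveI : Fintype (H.subgroupOf T) := Fintype.ofFinite _
  have hHT : H ≤ T := Cfsg.Agent.S1490.le_inertia H T θ hθ hT
  obtain ⟨m, hm, -, hcard, hG, hirr, horth⟩ := clifford_core_full H T θ hθ hT hHT
  obtain ⟨ψ, hψ, hψN⟩ := exists_extension H T θ hθ hT hHT hab hcop
  have hθ' := isIrrCharacter_resSub hHT hθ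
  -- m ψ = 1
  have hmψ : m ⟨ψ, hψ⟩ = 1 := by
    have h1 := hm ⟨ψ, hψ⟩
    have hψcf : IsClassFunction T ψ := IsCharacter.isClassFunction (IsIrrCharacter.isCharacter hψ)
    rw [Cfsg.Agent.Lib.Helper25.frobenius_reciprocity (H.subgroupOf T) (resSub H T θ) _ hψcf] at h1
    have h2 : (fun h : H.subgroupOf T => ψ h) = resSub H T θ := funext hψN
    rw [h2, classInner_irr hθ' hθ', if_pos rfl] at h1
    exact_mod_cast h1.symm
  obtain ⟨C, h1, h2, h3, h4⟩ := Cfsg.Agent.S1490.main_of H T θ hθ hT hHT hab m hm hcard hG hirr horth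
    ⟨ψ, hψ⟩ (by rw [hmψ]; exact one_ne_zero)
  rw [hmψ] at h2 h3 h4
  refine ⟨C, h1, ?_, ?_, ?_⟩
  · have h5 : Nat.card T = H.relIndex T * Nat.card H := by
      have := Subgroup.card_mul_index (H.subgroupOf T)
      rw [Nat.card_congr (Subgroup.subgroupOfEquivOfLe hHT).toEquiv] at this
      rw [← this]
      show Nat.card H * (H.subgroupOf T).index = H.relIndex T * Nat.card H
      rw [mul_comm]
      rfl
    rw [h5] at h2
    have hpos : 0 < Nat.card H := Nat.card_pos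
    have : C.card * Nat.card H = H.relIndex T * Nat.card H := by
      rw [← h2]; ring
    exact Nat.eq_of_mul_eq_mul_right hpos this
  · rw [h3]; simp
  · intro χ hχ
    rw [h4 χ hχ]; simp

end Aux

/-- Let H be a normal subgroup of the finite group G and θ an irreducible character of H with inertia group T, where T/H is abelian (commutators of T lie in H) and the index of H in T is coprime to the order of H. Then the function induced from θ is the sum of a set of exactly [T:H] irreducible characters of G, each of degree [G:T] * θ(1). -/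
theorem result {G : Type*} [Group G] [Fintype G] (H T : Subgroup G) [hN : H.Normal] (θ : H → ℂ) (hθ : Cfsg.IsIrrCharacter H θ) (hT : ∀ g : G, g ∈ T ↔ ∀ h : H, θ ⟨g * h * g⁻¹, hN.conj_mem h h.2 g⟩ = θ h) (hab : ∀ x ∈ T, ∀ y ∈ T, x * y * x⁻¹ * y⁻¹ ∈ H) (hcop : Nat.Coprime (Nat.card H) (H.relIndex T)) : ∃ C : Finset (G → ℂ), (∀ χ ∈ C, Cfsg.IsIrrCharacter G χ) ∧ C.card = H.relIndex T ∧ Cfsg.indFun H θ = ∑ χ ∈ C, χ ∧ ∀ χ ∈ C, χ 1 = (T.index : ℂ) * θ 1 := by
  haveI : Fintype T := Fintype.ofFinite T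
  exact main H T θ hθ hT hab hcop

end Cfsg.Agent.S1491
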