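import Cfsg.Statements.S1494
import Cfsg.Agent.Lib.Helper80.JointEigen

set_option autoImplicit false
open Cfsg

namespace Cfsg.Agent.S1494

theorem char_mul_sub_char {G : Type*} [Group G] [Finite G] {χ : G → ℂ}
    (hχ : Cfsg.IsCharacter G χ) (p : ℕ) (hp : p.Prime) (x y : G) (hx : orderOf x = p)
    (hxy : x * y = y * x) :
    ∃ ω : ℂ, IsIntegral ℤ ω ∧
      χ (x * y) - χ y = (1 - Complex.exp (2 * Real.pi * Complex.I / p)) * ω := by
  classical
  obtain ⟨n, α, β, hα, hβ, hval⟩ :=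
    Cfsg.Agent.Lib.Helper80.exists_joint_eigenvalues hχ x y hxy
  have hε : IsPrimitiveRoot (Complex.exp (2 * Real.pi * Complex.I / p)) p :=
    Complex.isPrimitiveRoot_exp p hp.ne_zero
  set ε := Complex.exp (2 * Real.pi * Complex.I / p) with hεdef
  have hεint : IsIntegral ℤ ε := hε.isIntegral hp.pos
  have hβint : ∀ i, IsIntegral ℤ (β i) := fun i =>
    IsIntegral.of_pow (orderOf_pos y) (by rw [hβ i]; exact isIntegral_one)
  have : NeZero p := ⟨hp.ne_zero⟩
  have hk : ∀ i, ∃ k : ℕ, α i = ε ^ k := by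
    intro i
    have h := hα i
    rw [hx] at h
    obtain ⟨k, _, hk⟩ := hε.eq_pow_of_pow_eq_one h
    exact ⟨k, hk.symm⟩
  choose k hk using hk
  refine ⟨∑ i, (-(∑ j ∈ Finset.range (k i), ε ^ j)) * β i, ?_, ?_⟩
  · refine IsIntegral.sum _ fun i _ => ?_
    refine IsIntegral.mul (IsIntegral.neg (IsIntegral.sum _ fun j _ => hεint.pow j)) (hβint i)
  · have h1 := hval 1 1
    have h2 := hval 0 1
    simp only [pow_one, pow_zero, one_mul] at h1 h2
    rw [h1, h2, ← Finset.sum_sub_distrib, Finset.mul_sum]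
    refine Finset.sum_congr rfl fun i _ => ?_
    have hg := geom_sum_mul ε (k i)
    rw [hk i]
    linear_combination (-(β i)) * hg

/-- Let χ be a generalized character of the finite group G, p a prime, x an element of order p and y an element commuting with x. Then χ(x * y) − χ(y) = (1 − ε) * ω for some algebraic integer ω, where ε = exp(2πi/p). -/
theorem result {G : Type*} [Group G] [Finite G] (χ : G → ℂ) (hχ : Cfsg.IsGeneralizedCharacter G χ) (p : ℕ) (hp : p.Prime) (x y : G) (hx : orderOf x = p) (hxy : x * y = y * x) : ∃ ω : ℂ, IsIntegral ℤ ω ∧ χ (x * y) - χ y = (1 - Complex.exp (2 * Real.pi * Complex.I / p)) * ω := by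
  obtain ⟨χ₁, χ₂, h₁, h₂, rfl⟩ := hχ
  obtain ⟨ω₁, hω₁, e₁⟩ := char_mul_sub_char h₁ p hp x y hx hxy
  obtain ⟨ω₂, hω₂, e₂⟩ := char_mul_sub_char h₂ p hp x y hx hxy
  refine ⟨ω₁ - ω₂, hω₁.sub hω₂, ?_⟩
  rw [Pi.sub_apply, Pi.sub_apply, mul_sub, ← e₁, ← e₂]
  ring

end Cfsg.Agent.S1494
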