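import Cfsg.Statements.S1495
import Mathlib.RingTheory.Polynomial.Cyclotomic.Eval
import Mathlib.RingTheory.RootsOfUnity.Complex
import Mathlib.RingTheory.IntegralClosure.IntegrallyClosed
import Mathlib.RingTheory.Polynomial.RationalRoot

set_option autoImplicit false
open Cfsg

namespace Cfsg.Agent.S1495

/-- Let p be a prime, ε = exp(2πi/p), and n an integer such that n = (1 − ε) * ω for some algebraic integer ω. Then p divides n. -/
theorem result (p : ℕ) (hp : p.Prime) (n : ℤ) (ω : ℂ) (hω : IsIntegral ℤ ω) (h : (n : ℂ) = (1 - Complex.exp (2 * Real.pi * Complex.I / p)) * ω) : (p : ℤ) ∣ n := by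
  classical
  have : NeZero p := ⟨hp.ne_zero⟩
  set ε : ℂ := Complex.exp (2 * Real.pi * Complex.I / p) with hε_def
  have hε : IsPrimitiveRoot ε p := Complex.isPrimitiveRoot_exp p hp.ne_zero
  -- p = ∏ (1 - μ)
  have hprod : (p : ℂ) = ∏ μ ∈ primitiveRoots p ℂ, (1 - μ) := by
    have h1 := Polynomial.cyclotomic_eq_prod_X_sub_primitiveRoots hε
    have h2 : Polynomial.eval 1 (Polynomial.cyclotomic p ℂ) = p := by
      have : Fact p.Prime := ⟨hp⟩
      exact Polynomial.eval_one_cyclotomic_prime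
    rw [← h2, h1, Polynomial.eval_prod]
    apply Finset.prod_congr rfl
    intro μ _
    simp
  have hint_root : ∀ μ ∈ primitiveRoots p ℂ, IsIntegral ℤ μ := by
    intro μ hμ
    have hμ' := (mem_primitiveRoots hp.pos).mp hμ
    exact IsIntegral.of_pow hp.pos (by rw [hμ'.pow_eq_one]; exact isIntegral_one)
  by_contra hnd
  have hcop : IsCoprime (p : ℤ) n :=
    ((Nat.prime_iff_prime_int.mp hp).irreducible.coprime_iff_not_dvd).mpr hnd
  obtain ⟨a, b, hab⟩ := hcop
  have hεmem : ε ∈ primitiveRoots p ℂ := (mem_primitiveRoots hp.pos).mpr hε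
  set β : ℂ := ∏ μ ∈ (primitiveRoots p ℂ).erase ε, (1 - μ) with hβ_def
  have hβ : IsIntegral ℤ β := by
    apply IsIntegral.prod
    intro μ hμ
    exact isIntegral_one.sub (hint_root μ (Finset.mem_of_mem_erase hμ))
  have hpβ : (p : ℂ) = (1 - ε) * β := by
    rw [hprod, hβ_def, Finset.mul_prod_erase _ _ hεmem]
  set γ : ℂ := (a : ℂ) * β + (b : ℂ) * ω with hγ_def
  have hγ : IsIntegral ℤ γ := by
    apply IsIntegral.add
    · exact (isIntegral_algebraMap (x := a)).mul hβ
    · exact (isIntegral_algebraMap (x := b)).mul hω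
  have hγ1 : (1 - ε) * γ = 1 := by
    have : ((a * (p : ℤ) + b * n : ℤ) : ℂ) = 1 := by rw [hab]; simp
    push_cast at this
    rw [hγ_def]
    linear_combination this - (a : ℂ) * hpβ - (b : ℂ) * h
  have hinv : ∀ μ ∈ primitiveRoots p ℂ, IsIntegral ℤ (1 - μ)⁻¹ := by
    intro μ hμ
    have hμ' := (mem_primitiveRoots hp.pos).mp hμ
    obtain ⟨m, -, hm⟩ := hμ'.eq_pow_of_pow_eq_one hε.pow_eq_one
    have hgeom : (1 - μ) * ∑ i ∈ Finset.range m, μ ^ i = 1 - ε := by
      rw [← hm]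
      exact mul_neg_geom_sum μ m
    have hone : (1 - μ) * ((∑ i ∈ Finset.range m, μ ^ i) * γ) = 1 := by
      rw [← mul_assoc, hgeom, hγ1]
    have : (1 - μ)⁻¹ = (∑ i ∈ Finset.range m, μ ^ i) * γ := by
      exact inv_eq_of_mul_eq_one_right hone
    rw [this]
    apply IsIntegral.mul _ hγ
    apply IsIntegral.sum
    intro i _
    exact (hint_root μ hμ).pow i
  have hpinv : IsIntegral ℤ ((p : ℂ)⁻¹) := by
    rw [hprod, ← Finset.prod_inv_distrib]
    exact IsIntegral.prod _ hinv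
  have hq : IsIntegral ℤ ((p : ℚ)⁻¹) := by
    have : ((p : ℂ)⁻¹) = algebraMap ℚ ℂ ((p : ℚ)⁻¹) := by simp
    rw [this] at hpinv
    exact (isIntegral_algebraMap_iff (algebraMap ℚ ℂ).injective).mp hpinv
  obtain ⟨y, hy⟩ := IsIntegrallyClosed.isIntegral_iff.mp hq
  have hp0 : (p : ℚ) ≠ 0 := by exact_mod_cast hp.ne_zero
  have : ((p : ℤ) * y : ℤ) = 1 := by
    have : ((p : ℚ) * (y : ℚ)) = 1 := by
      have hy' : (y : ℚ) = (p : ℚ)⁻¹ := by simpa using hy
      rw [hy']; field_simp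
    exact_mod_cast this
  have hunit : IsUnit (p : ℤ) := IsUnit.of_mul_eq_one _ this
  exact (Nat.prime_iff_prime_int.mp hp).not_isUnit hunit

end Cfsg.Agent.S1495
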