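import Cfsg.Statements.S1496
import Cfsg.Agent.Lib.Helper24.RelSZ

set_option autoImplicit false
open Cfsg

namespace Cfsg.Agent.S1496

open Subgroup Cfsg.Agent.Lib.Helper24 Cfsg.Agent.Lib.Helper33

theorem pow_mul_mem {G : Type*} [Group G] (H : Subgroup G) (g : G)
    (hg : g ∈ normalizer (H : Set G)) (h : G) (hh : h ∈ H) (k : ℕ) :
    ∃ h' ∈ H, (h * g) ^ k = h' * g ^ k := by
  induction k with
  | zero => exact ⟨1, H.one_mem, by simp⟩
  | succ k ih =>
    obtain ⟨h', hh', e⟩ := ih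
    refine ⟨h' * (g ^ k * h * (g ^ k)⁻¹), H.mul_mem hh' ?_, ?_⟩
    · have h1 : g ^ k ∈ normalizer (H : Set G) := pow_mem hg k
      exact (mem_normalizer_iff.mp h1 h).mp hh
    · rw [pow_succ, e, pow_succ]; group

/-- Let H be a subgroup of the finite group G and g an element normalising H whose order is coprime to the order of H. Then for every h ∈ H there are x ∈ H and c ∈ H commuting with g such that x * (h * g) * x⁻¹ = c * g. -/
theorem result {G : Type*} [Group G] [Finite G] (H : Subgroup G) (g : G) (hg : g ∈ Subgroup.normalizer (H : Set G)) (hcop : Nat.Coprime (orderOf g) (Nat.card H)) (h : G) (hh : h ∈ H) : ∃ x ∈ H, ∃ c ∈ H, c * g = g * c ∧ x * (h * g) * x⁻¹ = c * g := by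
  have key : ∀ k : ℕ, g ^ k ∈ H → g ^ k = 1 := by
    intro k hk
    have h1 : orderOf (g ^ k) ∣ orderOf g := orderOf_pow_dvd k
    have h2 : orderOf (g ^ k) ∣ Nat.card H := Subgroup.orderOf_dvd_natCard H hk
    have h3 : orderOf (g ^ k) = 1 := Nat.eq_one_of_dvd_coprimes hcop h1 h2
    exact orderOf_eq_one_iff.mp h3
  have hHpow : ∀ z ∈ H, z ^ Nat.card H = 1 := by
    intro z hz
    exact orderOf_dvd_iff_pow_eq_one.mp (Subgroup.orderOf_dvd_natCard H hz)
  set y := h * g with hy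
  set u := y ^ Nat.card H with hu
  have hun : u ^ orderOf g = 1 := by
    obtain ⟨h', hh', e⟩ := pow_mul_mem H g hg h hh (orderOf g)
    rw [hu, ← pow_mul, mul_comm, pow_mul, e, pow_orderOf_eq_one, mul_one]
    exact hHpow h' hh'
  have hord : orderOf u = orderOf g := by
    apply Nat.dvd_antisymm (orderOf_dvd_of_pow_eq_one hun)
    obtain ⟨h', hh', e⟩ := pow_mul_mem H g hg h hh (Nat.card H * orderOf u)
    have h1 : y ^ (Nat.card H * orderOf u) = 1 := by rw [pow_mul, ← hu, pow_orderOf_eq_one]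
    have h2 : g ^ (Nat.card H * orderOf u) = h'⁻¹ := by
      rw [h1] at e
      exact eq_inv_of_mul_eq_one_right e.symm
    have h3 := key _ (h2 ▸ H.inv_mem hh')
    have h4 : orderOf g ∣ Nat.card H * orderOf u := orderOf_dvd_of_pow_eq_one h3
    exact Nat.Coprime.dvd_of_dvd_mul_left hcop h4
  have huH : zpowers u ≤ zpowers g ⊔ H := by
    rw [zpowers_le]
    obtain ⟨h', hh', e⟩ := pow_mul_mem H g hg h hh (Nat.card H)
    rw [hu, e]
    exact (zpowers g ⊔ H).mul_mem (le_sup_right (a := zpowers g) hh')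
      (le_sup_left (b := H) (pow_mem (mem_zpowers g) _))
  have hgnorm : zpowers g ≤ normalizer (H : Set G) := by
    rw [zpowers_le]
    exact hg
  obtain ⟨x₀, hx₀, hconj⟩ := rel_sz_conj H (zpowers g) (zpowers u) hgnorm
    (by rw [Nat.card_zpowers]; exact hcop)
    (Or.inr (Group.isSolvable_of_comm (fun a b => (zpowers_isMulCommutative g).is_comm.comm a b))) huH
    (by rw [Nat.card_zpowers, Nat.card_zpowers, hord])
  have hgm : x₀ * g * x₀⁻¹ ∈ zpowers u := by
    rw [← hconj]; exact conj_mem_cj (mem_zpowers g)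
  obtain ⟨x, hxdef⟩ : ∃ x, x = x₀⁻¹ := ⟨_, rfl⟩
  have hx : x ∈ H := hxdef ▸ H.inv_mem hx₀
  obtain ⟨w, hw, hwg⟩ : ∃ w ∈ zpowers u, x * w * x⁻¹ = g := by
    refine ⟨_, hgm, ?_⟩
    rw [hxdef]; group
  have hcomm : Commute y w := by
    obtain ⟨j, rfl⟩ := mem_zpowers_iff.mp hw
    rw [hu]
    exact ((Commute.refl y).pow_right _).zpow_right _
  refine ⟨x, hx, x * y * x⁻¹ * g⁻¹, ?_, ?_, ?_⟩
  · have h1 : g * x⁻¹ * g⁻¹ ∈ H := (mem_normalizer_iff.mp hg x⁻¹).mp (H.inv_mem hx)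
    have h2 : x * y * x⁻¹ * g⁻¹ = x * h * (g * x⁻¹ * g⁻¹) := by rw [hy]; group
    rw [h2]
    exact H.mul_mem (H.mul_mem hx hh) h1
  · have h3 : (x * y * x⁻¹) * g = g * (x * y * x⁻¹) := by
      rw [← hwg]
      have := hcomm.eq
      calc x * y * x⁻¹ * (x * w * x⁻¹) = x * (y * w) * x⁻¹ := by group
        _ = x * (w * y) * x⁻¹ := by rw [this]
        _ = x * w * x⁻¹ * (x * y * x⁻¹) := by group
    calc x * y * x⁻¹ * g⁻¹ * g = x * y * x⁻¹ := by group
      _ = g * (x * y * x⁻¹) * g⁻¹ := by rw [← h3]; group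
      _ = g * (x * y * x⁻¹ * g⁻¹) := by group
  · group

end Cfsg.Agent.S1496
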