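import Cfsg.Statements.S1497

set_option autoImplicit false
open Cfsg

namespace Cfsg.Agent.S1497

theorem centralizer_singleton_mem {G : Type*} [Group G] (a c : G) :
    c ∈ Subgroup.centralizer ({a} : Set G) ↔ c * a = a * c := by
  rw [Subgroup.mem_centralizer_iff]
  constructor
  · intro h
    exact (h a rfl).symm
  · intro h x hx
    rw [Set.mem_singleton_iff] at hx
    subst hx
    exact h.symm

/-- Let A be a nonempty subset of the finite group G not containing 1 and L a subgroup. Then A is a TI-subset whose normaliser is L if and only if the Dade hypothesis holds for A, L and the constant choice H(a) = ⊥. -/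
theorem result {G : Type*} [Group G] [Finite G] (A : Set G) (hA : A.Nonempty) (h1 : (1 : G) ∉ A) (L : Subgroup G) : (Cfsg.IsTISubset A ∧ Subgroup.normalizer A = L) ↔ Cfsg.DadeHypothesis A L (fun _ => ⊥) := by
  constructor
  · rintro ⟨hTI, hN⟩
    have hne : ∀ a ∈ A, a ≠ 1 := fun a ha h => h1 (h ▸ ha)
    -- key: anything conjugating a member of A into A normalizes A
    have key : ∀ g : G, ∀ a ∈ A, g * a * g⁻¹ ∈ A → g ∈ Subgroup.normalizer A := by
      intro g a ha hga
      by_contra hg
      exact hne a ha (hTI g hg a ha hga)
    refine
      { one_not_mem := h1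
        subset := ?_
        conj_mem := ?_
        fusion := ?_
        le_centralizer := ?_
        conj_mem_H := ?_
        inf_eq_bot := ?_
        sup_eq := ?_
        coprime := ?_ }
    · intro a ha
      have : a ∈ Subgroup.normalizer A := key a a ha (by simpa using ha)
      rw [hN] at this
      exact this
    · intro x hx a ha
      rw [← hN] at hx
      exact (Subgroup.mem_set_normalizer_iff.mp hx a).mp ha
    · intro a ha g hga
      refine ⟨g, ?_, rfl⟩
      rw [← hN]
      exact key g a ha hga
    · intro a _
      exact bot_le
    · intro a _ c _ u hu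
      rw [Subgroup.mem_bot] at hu
      subst hu
      simp
    · intro a _
      exact bot_inf_eq _
    · intro a ha
      rw [bot_sup_eq]
      apply inf_eq_right.mpr
      intro c hc
      rw [← hN]
      apply key c a ha
      have : c * a = a * c := (centralizer_singleton_mem a c).mp hc
      rw [this]
      simpa using ha
    · intro a _ b _
      simp
  · intro hD
    have hcent : ∀ a ∈ A, Subgroup.centralizer ({a} : Set G) ≤ L := by
      intro a ha
      have := hD.sup_eq a ha
      rw [bot_sup_eq] at this
      rw [← this]
      exact inf_le_left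
    have hLN : L ≤ Subgroup.normalizer A := by
      rw [Subgroup.le_set_normalizer_iff]
      intro h hh g hg
      exact hD.conj_mem h hh g hg
    have key : ∀ g : G, ∀ a ∈ A, g * a * g⁻¹ ∈ A → g ∈ L := by
      intro g a ha hga
      obtain ⟨x, hx, hxa⟩ := hD.fusion a ha g hga
      have hc : x⁻¹ * g ∈ Subgroup.centralizer ({a} : Set G) := by
        rw [centralizer_singleton_mem]
        have h3 : a = x⁻¹ * g * a * g⁻¹ * x := by
          calc a = x⁻¹ * (x * a * x⁻¹) * x := by group
            _ = x⁻¹ * (g * a * g⁻¹) * x := by rw [hxa]
            _ = x⁻¹ * g * a * g⁻¹ * x := by group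
        calc x⁻¹ * g * a = (x⁻¹ * g * a * g⁻¹ * x) * (x⁻¹ * g) := by group
          _ = a * (x⁻¹ * g) := by rw [← h3]
      have : x * (x⁻¹ * g) ∈ L := L.mul_mem hx (hcent a ha hc)
      simpa using this
    refine ⟨?_, ?_⟩
    · intro g hg x hx hgx
      exact absurd (hLN (key g x hx hgx)) hg
    · apply le_antisymm
      · intro g hg
        obtain ⟨a, ha⟩ := hA
        exact key g a ha ((Subgroup.mem_set_normalizer_iff.mp hg a).mp ha)
      · exact hLN

end Cfsg.Agent.S1497
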