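import Cfsg.Statements.S1498

set_option autoImplicit false
open Cfsg

namespace Cfsg.Agent.S1498

open scoped Pointwise

variable {G : Type*} [Group G]

theorem mem_centralizer_singleton (a c : G) :
    c ∈ Subgroup.centralizer ({a} : Set G) ↔ c * a = a * c := by
  rw [Subgroup.mem_centralizer_iff]
  constructor
  · intro h
    exact (h a rfl).symm
  · intro h x hx
    rw [Set.mem_singleton_iff] at hx
    subst hx
    exact h.symm

/-- If `K` normalizes `N`, then `(h * l) ^ k ∈ N * l ^ k`. -/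
theorem mul_pow_mem (N K : Subgroup G) (hK : ∀ c ∈ K, ∀ n ∈ N, c * n * c⁻¹ ∈ N) (h l : G)
    (hh : h ∈ N) (hl : l ∈ K) (k : ℕ) : ∃ h' ∈ N, (h * l) ^ k = h' * l ^ k := by
  induction k with
  | zero => exact ⟨1, N.one_mem, by simp⟩
  | succ k ih =>
    obtain ⟨h', hh', he⟩ := ih
    refine ⟨h' * (l ^ k * h * (l ^ k)⁻¹), N.mul_mem hh' (hK _ (K.pow_mem hl k) h hh), ?_⟩
    rw [pow_succ, he, pow_succ]
    group

theorem conj_pow (g x : G) (k : ℕ) : (g * x * g⁻¹) ^ k = g * x ^ k * g⁻¹ := by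
  induction k with
  | zero => simp
  | succ n ih => rw [pow_succ, ih, pow_succ]; group

theorem map_conj_le [Finite G] {A : Set G} {L : Subgroup G} {H : G → Subgroup G}
    (hD : Cfsg.DadeHypothesis A L H) {a : G} (ha : a ∈ A) {x : G} (hx : x ∈ L) :
    (H a).map (MulAut.conj x).toMonoidHom ≤ H (x * a * x⁻¹) := by
  set b := x * a * x⁻¹ with hb
  have hbA : b ∈ A := hD.conj_mem x hx a ha
  rintro w ⟨u, hu, rfl⟩
  simp only [MulEquiv.coe_toMonoidHom, MulAut.conj_apply]
  set w := x * u * x⁻¹ with hw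
  have huc : u * a = a * u := (mem_centralizer_singleton a u).mp (hD.le_centralizer a ha hu)
  have hwC : w ∈ Subgroup.centralizer ({b} : Set G) := by
    rw [mem_centralizer_singleton]
    calc w * b = x * (u * a) * x⁻¹ := by rw [hw, hb]; group
      _ = x * (a * u) * x⁻¹ := by rw [huc]
      _ = b * w := by rw [hw, hb]; group
  set K := L ⊓ Subgroup.centralizer ({b} : Set G) with hK
  have hKn : ∀ c ∈ K, ∀ n ∈ H b, c * n * c⁻¹ ∈ H b := fun c hc n hn =>
    hD.conj_mem_H b hbA c hc.2 n hn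
  have hKle : K ≤ Subgroup.normalizer (H b : Set G) := Subgroup.le_normalizer_iff.mpr hKn
  have hset := Subgroup.coe_mul_of_right_le_normalizer_left (H b) K hKle
  have hwsup : w ∈ H b ⊔ K := by
    rw [hD.sup_eq b hbA]; exact hwC
  have hw' : w ∈ ((H b ⊔ K : Subgroup G) : Set G) := hwsup
  rw [hset] at hw'
  obtain ⟨h, hh, l, hl, hhl⟩ := hw'
  simp only at hhl
  -- exponents
  set m := Nat.card K with hm
  have hco : Nat.Coprime (orderOf w) m := by
    have h1 : orderOf w = orderOf u := by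
      rw [hw]
      have hs : SemiconjBy x u (x * u * x⁻¹) := by
        unfold SemiconjBy; group
      exact (hs.orderOf_eq x).symm
    rw [h1]
    exact Nat.Coprime.coprime_dvd_left (Subgroup.orderOf_dvd_natCard _ hu) (hD.coprime a ha b hbA)
  obtain ⟨k, hk1, hk0⟩ := Nat.chineseRemainder hco 1 0
  have hwk : w ^ k = w := by
    have := (pow_eq_pow_iff_modEq (x := w)).mpr hk1
    rwa [pow_one] at this
  have hlk : l ^ k = 1 := by
    have h1 : k ≡ 0 [MOD orderOf l] := hk0.of_dvd (Subgroup.orderOf_dvd_natCard _ hl)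
    have := (pow_eq_pow_iff_modEq (x := l)).mpr h1
    rwa [pow_zero] at this
  obtain ⟨h', hh', he⟩ := mul_pow_mem (H b) K hKn h l hh hl k
  rw [hhl, hwk, hlk, mul_one] at he
  rw [he]; exact hh'

/-- Under the Dade hypothesis for (A, L, H): for a ∈ A and x ∈ L, the subgroup attached to x * a * x⁻¹ is the conjugate of H a by x. -/
theorem result {G : Type*} [Group G] [Finite G] (A : Set G) (L : Subgroup G) (H : G → Subgroup G) (hD : Cfsg.DadeHypothesis A L H) (a : G) (ha : a ∈ A) (x : G) (hx : x ∈ L) : H (x * a * x⁻¹) = (H a).map (MulAut.conj x).toMonoidHom := by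
  apply le_antisymm
  · have hbA : x * a * x⁻¹ ∈ A := hD.conj_mem x hx a ha
    have h1 := map_conj_le hD hbA (L.inv_mem hx)
    have e : x⁻¹ * (x * a * x⁻¹) * x⁻¹⁻¹ = a := by group
    rw [e] at h1
    intro w hw
    have h2 : x⁻¹ * w * x ∈ H a := by
      apply h1
      refine ⟨w, hw, ?_⟩
      simp
    refine ⟨x⁻¹ * w * x, h2, ?_⟩
    simp only [MulEquiv.coe_toMonoidHom, MulAut.conj_apply]
    group
  · exact map_conj_le hD ha hx

end Cfsg.Agent.S1498
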