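import Cfsg.Statements.S1503
import Cfsg.Agent.Lib.Helper25.CyclicTI
import Cfsg.Agent.Lib.Helper25.DualW
import Cfsg.Agent.Lib.Helper3.CharBasic

set_option autoImplicit false
open Cfsg
open Cfsg.Agent.Lib.Helper25
open scoped ComplexConjugate

namespace Cfsg.Agent.S1503

/-- Let W₁, W₂ ≤ G with W = W₁ ⊔ W₂ and let χ an orthonormal family of irreducible characters of G up to sign, indexed by the linear characters ω of W, with χ_1 = 1, χ_ω = ω on W outside W₁ ∪ W₂, and the induction identity for (1 − φ)(1 − ψ). If θ is an irreducible character of G orthogonal to χ ω for every linear character ω of W, then θ vanishes at every element of W lying outside W₁ ∪ W₂. -/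
theorem result {G : Type*} [Group G] [Fintype G] (W₁ W₂ : Subgroup G) (hW : Cfsg.IsSelfNormalizingCyclic W₁ W₂) (χ : (↥(W₁ ⊔ W₂) →* ℂˣ) → (G → ℂ)) (hχ : Cfsg.IsCyclicTIFamily W₁ W₂ χ) (θ : G → ℂ) (hθ : Cfsg.IsIrrCharacter G θ) (horth : ∀ ω, Cfsg.classInner θ (χ ω) = 0) (w : ↥(W₁ ⊔ W₂)) (hw₁ : (w : G) ∉ W₁) (hw₂ : (w : G) ∉ W₂) : θ w = 0 := by
  classical
  obtain ⟨-, -, hint, -, hcyc, -⟩ := hW
  have := hcyc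
  let _ : CommGroup ↥(W₁ ⊔ W₂) := IsCyclic.commGroup
  have hθc : IsClassFunction G θ :=
    Cfsg.Agent.Lib.Helper3.IsCharacter.isClassFunction
      (Cfsg.Agent.Lib.Helper3.IsIrrCharacter.isCharacter hθ)
  set K₁ : Subgroup ↥(W₁ ⊔ W₂) := W₁.subgroupOf (W₁ ⊔ W₂) with hK₁
  set K₂ : Subgroup ↥(W₁ ⊔ W₂) := W₂.subgroupOf (W₁ ⊔ W₂) with hK₂
  have : Fintype (annih K₁) := Fintype.ofFinite _
  have : Fintype (annih K₂) := Fintype.ofFinite _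
  have key : ∀ (φ : annih K₂) (ψ : annih K₁), ∑ v : ↥(W₁ ⊔ W₂),
      θ v * ((1 - ((φ : ↥(W₁ ⊔ W₂) →* ℂˣ) v⁻¹ : ℂ)) * (1 - ((ψ : ↥(W₁ ⊔ W₂) →* ℂˣ) v⁻¹ : ℂ))) = 0 := by
    intro φ ψ
    have hφ : ∀ u : ↥(W₁ ⊔ W₂), (u : G) ∈ W₂ → (φ : ↥(W₁ ⊔ W₂) →* ℂˣ) u = 1 := by
      intro u hu
      exact φ.2 u (Subgroup.mem_subgroupOf.mpr hu)
    have hψ : ∀ u : ↥(W₁ ⊔ W₂), (u : G) ∈ W₁ → (ψ : ↥(W₁ ⊔ W₂) →* ℂˣ) u = 1 := by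
      intro u hu
      exact ψ.2 u (Subgroup.mem_subgroupOf.mpr hu)
    have hind := cyclicTI_induced_eq W₁ W₂ χ hχ φ ψ hφ hψ
    have hfun : (fun g => 1 - χ (φ : ↥(W₁ ⊔ W₂) →* ℂˣ) g - χ (ψ : ↥(W₁ ⊔ W₂) →* ℂˣ) g
        + χ ((φ : ↥(W₁ ⊔ W₂) →* ℂˣ) * ψ) g) = χ 1 - χ φ - χ ψ + χ ((φ : ↥(W₁ ⊔ W₂) →* ℂˣ) * ψ) := by
      funext g
      simp [hχ.map_one]
    have h0 : classInner θ (indFun (W₁ ⊔ W₂) (alphaFun (φ : ↥(W₁ ⊔ W₂) →* ℂˣ) ψ)) = 0 := by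
      rw [hind, hfun, classInner_add_right, classInner_sub_right, classInner_sub_right,
        horth, horth, horth, horth]
      ring
    rw [frobenius_reciprocity' (W₁ ⊔ W₂) _ θ hθc, classInner_def] at h0
    have hne : ((Nat.card ↥(W₁ ⊔ W₂) : ℂ))⁻¹ ≠ 0 := inv_ne_zero card_ne_zero_complex
    have h1 := (mul_eq_zero.mp h0).resolve_left hne
    rw [← h1]
    apply Finset.sum_congr rfl
    intro v _
    congr 1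
    unfold alphaFun
    simp only [map_add, map_sub, map_mul, map_one, conj_hom_apply]
    ring
  -- the two orthogonality sums
  have hA : ∀ v : ↥(W₁ ⊔ W₂), ∑ φ : annih K₂, ((φ : ↥(W₁ ⊔ W₂) →* ℂˣ) w : ℂ) *
      (1 - ((φ : ↥(W₁ ⊔ W₂) →* ℂˣ) v⁻¹ : ℂ)) =
      -(Fintype.card (annih K₂) : ℂ) * (if w * v⁻¹ ∈ K₂ then 1 else 0) := by
    intro v
    have e : ∀ φ : annih K₂, ((φ : ↥(W₁ ⊔ W₂) →* ℂˣ) w : ℂ) *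
        (1 - ((φ : ↥(W₁ ⊔ W₂) →* ℂˣ) v⁻¹ : ℂ)) =
        ((φ : ↥(W₁ ⊔ W₂) →* ℂˣ) w : ℂ) - ((φ : ↥(W₁ ⊔ W₂) →* ℂˣ) (w * v⁻¹) : ℂ) := by
      intro φ
      rw [map_mul, Units.val_mul]
      ring
    simp only [e, Finset.sum_sub_distrib]
    rw [sum_annih_apply_of_not_mem K₂ w (fun h => hw₂ (Subgroup.mem_subgroupOf.mp h))]
    split_ifs with h
    · rw [sum_annih_apply_of_mem K₂ _ h]; ring
    · rw [sum_annih_apply_of_not_mem K₂ _ h]; ring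
  have hB : ∀ v : ↥(W₁ ⊔ W₂), ∑ ψ : annih K₁, ((ψ : ↥(W₁ ⊔ W₂) →* ℂˣ) w : ℂ) *
      (1 - ((ψ : ↥(W₁ ⊔ W₂) →* ℂˣ) v⁻¹ : ℂ)) =
      -(Fintype.card (annih K₁) : ℂ) * (if w * v⁻¹ ∈ K₁ then 1 else 0) := by
    intro v
    have e : ∀ ψ : annih K₁, ((ψ : ↥(W₁ ⊔ W₂) →* ℂˣ) w : ℂ) *
        (1 - ((ψ : ↥(W₁ ⊔ W₂) →* ℂˣ) v⁻¹ : ℂ)) =
        ((ψ : ↥(W₁ ⊔ W₂) →* ℂˣ) w : ℂ) - ((ψ : ↥(W₁ ⊔ W₂) →* ℂˣ) (w * v⁻¹) : ℂ) := by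
      intro ψ
      rw [map_mul, Units.val_mul]
      ring
    simp only [e, Finset.sum_sub_distrib]
    rw [sum_annih_apply_of_not_mem K₁ w (fun h => hw₁ (Subgroup.mem_subgroupOf.mp h))]
    split_ifs with h
    · rw [sum_annih_apply_of_mem K₁ _ h]; ring
    · rw [sum_annih_apply_of_not_mem K₁ _ h]; ring
  -- combine
  have htot : ∑ φ : annih K₂, ∑ ψ : annih K₁,
      ((φ : ↥(W₁ ⊔ W₂) →* ℂˣ) w : ℂ) * ((ψ : ↥(W₁ ⊔ W₂) →* ℂˣ) w : ℂ) *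
      ∑ v : ↥(W₁ ⊔ W₂), θ v * ((1 - ((φ : ↥(W₁ ⊔ W₂) →* ℂˣ) v⁻¹ : ℂ)) *
        (1 - ((ψ : ↥(W₁ ⊔ W₂) →* ℂˣ) v⁻¹ : ℂ))) = 0 := by
    apply Finset.sum_eq_zero
    intro φ _
    apply Finset.sum_eq_zero
    intro ψ _
    rw [key φ ψ, mul_zero]
  have hswap : ∑ φ : annih K₂, ∑ ψ : annih K₁,
      ((φ : ↥(W₁ ⊔ W₂) →* ℂˣ) w : ℂ) * ((ψ : ↥(W₁ ⊔ W₂) →* ℂˣ) w : ℂ) *
      ∑ v : ↥(W₁ ⊔ W₂), θ v * ((1 - ((φ : ↥(W₁ ⊔ W₂) →* ℂˣ) v⁻¹ : ℂ)) *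
        (1 - ((ψ : ↥(W₁ ⊔ W₂) →* ℂˣ) v⁻¹ : ℂ))) =
      ∑ v : ↥(W₁ ⊔ W₂), θ v *
        ((∑ φ : annih K₂, ((φ : ↥(W₁ ⊔ W₂) →* ℂˣ) w : ℂ) *
          (1 - ((φ : ↥(W₁ ⊔ W₂) →* ℂˣ) v⁻¹ : ℂ))) *
        (∑ ψ : annih K₁, ((ψ : ↥(W₁ ⊔ W₂) →* ℂˣ) w : ℂ) *
          (1 - ((ψ : ↥(W₁ ⊔ W₂) →* ℂˣ) v⁻¹ : ℂ)))) := by
    have hR : ∀ v : ↥(W₁ ⊔ W₂), θ v *
        ((∑ φ : annih K₂, ((φ : ↥(W₁ ⊔ W₂) →* ℂˣ) w : ℂ) *
          (1 - ((φ : ↥(W₁ ⊔ W₂) →* ℂˣ) v⁻¹ : ℂ))) *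
        (∑ ψ : annih K₁, ((ψ : ↥(W₁ ⊔ W₂) →* ℂˣ) w : ℂ) *
          (1 - ((ψ : ↥(W₁ ⊔ W₂) →* ℂˣ) v⁻¹ : ℂ)))) =
        ∑ φ : annih K₂, ∑ ψ : annih K₁,
          ((φ : ↥(W₁ ⊔ W₂) →* ℂˣ) w : ℂ) * ((ψ : ↥(W₁ ⊔ W₂) →* ℂˣ) w : ℂ) *
          (θ v * ((1 - ((φ : ↥(W₁ ⊔ W₂) →* ℂˣ) v⁻¹ : ℂ)) *
            (1 - ((ψ : ↥(W₁ ⊔ W₂) →* ℂˣ) v⁻¹ : ℂ)))) := by
      intro v
      rw [Finset.sum_mul_sum, Finset.mul_sum]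
      apply Finset.sum_congr rfl
      intro φ _
      rw [Finset.mul_sum]
      apply Finset.sum_congr rfl
      intro ψ _
      ring
    rw [Finset.sum_congr rfl (fun v _ => hR v)]
    simp only [Finset.mul_sum]
    rw [Finset.sum_congr rfl (fun φ _ => Finset.sum_comm)]
    rw [Finset.sum_comm]
  rw [hswap] at htot
  simp only [hA, hB] at htot
  rw [Finset.sum_eq_single w] at htot
  · have h1 : w * w⁻¹ ∈ K₂ := by rw [mul_inv_cancel]; exact K₂.one_mem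
    have h2 : w * w⁻¹ ∈ K₁ := by rw [mul_inv_cancel]; exact K₁.one_mem
    rw [if_pos h1, if_pos h2] at htot
    have c1 := card_annih_ne_zero K₁
    have c2 := card_annih_ne_zero K₂
    have : θ w * ((Fintype.card (annih K₂) : ℂ) * (Fintype.card (annih K₁) : ℂ)) = 0 := by
      linear_combination htot
    rcases mul_eq_zero.mp this with h | h
    · exact h
    · exfalso
      rcases mul_eq_zero.mp h with h | h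
      · exact c2 h
      · exact c1 h
  · intro v _ hv
    by_cases h2 : w * v⁻¹ ∈ K₂
    · by_cases h1 : w * v⁻¹ ∈ K₁
      · exfalso
        apply hv
        have hm1 : ((w * v⁻¹ : ↥(W₁ ⊔ W₂)) : G) ∈ W₁ := Subgroup.mem_subgroupOf.mp h1
        have hm2 : ((w * v⁻¹ : ↥(W₁ ⊔ W₂)) : G) ∈ W₂ := Subgroup.mem_subgroupOf.mp h2
        have hm : ((w * v⁻¹ : ↥(W₁ ⊔ W₂)) : G) ∈ W₁ ⊓ W₂ := ⟨hm1, hm2⟩
        rw [hint, Subgroup.mem_bot] at hm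
        have : w * v⁻¹ = 1 := Subtype.ext hm
        exact (mul_inv_eq_one.mp this).symm
      · rw [if_neg h1]; ring
    · rw [if_neg h2]; ring
  · intro h
    exact absurd (Finset.mem_univ w) h

end Cfsg.Agent.S1503
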