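import Cfsg.Statements.S1504
import Mathlib.LinearAlgebra.Finsupp.VectorSpace
import Mathlib.LinearAlgebra.LinearIndependent.Basic

set_option autoImplicit false
open Cfsg

namespace Cfsg.Agent.S1504

variable {G : Type*} [Group G]

/-- A character of `W₁ ⊔ W₂` trivial on `W₂` is determined by its values on `W₁`. -/
theorem eq_of_eq_on_left (W₁ W₂ : Subgroup G) (φ φ' : ↥(W₁ ⊔ W₂) →* ℂˣ)
    (h1 : ∀ w : ↥(W₁ ⊔ W₂), (w : G) ∈ W₁ → φ w = φ' w)
    (h2 : ∀ w : ↥(W₁ ⊔ W₂), (w : G) ∈ W₂ → φ w = φ' w) : φ = φ' := by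
  have hle : (⊤ : Subgroup ↥(W₁ ⊔ W₂)) ≤ MonoidHom.eqLocus φ φ' := by
    rw [← Subgroup.subgroupOf_self (H := W₁ ⊔ W₂),
      Subgroup.subgroupOf_sup le_sup_left le_sup_right]
    apply sup_le
    · intro w hw
      exact h1 w (Subgroup.mem_subgroupOf.mp hw)
    · intro w hw
      exact h2 w (Subgroup.mem_subgroupOf.mp hw)
  ext w
  have := hle (Subgroup.mem_top w)
  exact congrArg Units.val this

theorem hom_one_mul {W : Type*} [Group W] (f : W →* ℂˣ) : 1 * f = f := by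
  ext w; simp

theorem hom_mul_one {W : Type*} [Group W] (f : W →* ℂˣ) : f * 1 = f := by
  ext w; simp

theorem mul_eq_mul_iff (W₁ W₂ : Subgroup G) (φ φ' ψ ψ' : ↥(W₁ ⊔ W₂) →* ℂˣ)
    (hφ : ∀ w : ↥(W₁ ⊔ W₂), (w : G) ∈ W₂ → φ w = 1)
    (hφ' : ∀ w : ↥(W₁ ⊔ W₂), (w : G) ∈ W₂ → φ' w = 1)
    (hψ : ∀ w : ↥(W₁ ⊔ W₂), (w : G) ∈ W₁ → ψ w = 1)
    (hψ' : ∀ w : ↥(W₁ ⊔ W₂), (w : G) ∈ W₁ → ψ' w = 1)
    (h : φ * ψ = φ' * ψ') : φ = φ' ∧ ψ = ψ' := by
  constructor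
  · apply eq_of_eq_on_left W₁ W₂
    · intro w hw
      have := congrArg (fun f => f w) h
      simp only [MonoidHom.mul_apply] at this
      rwa [hψ w hw, hψ' w hw, mul_one, mul_one] at this
    · intro w hw
      rw [hφ w hw, hφ' w hw]
  · apply eq_of_eq_on_left W₁ W₂
    · intro w hw
      rw [hψ w hw, hψ' w hw]
    · intro w hw
      have := congrArg (fun f => f w) h
      simp only [MonoidHom.mul_apply] at this
      rwa [hφ w hw, hφ' w hw, one_mul, one_mul] at this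

/-- Let W₁, W₂ be subgroups of a finite group with W₁ ⊓ W₂ = ⊥ whose elements commute, and W = W₁ ⊔ W₂. For linear characters φ, ψ of W with φ trivial on W₂ and ψ trivial on W₁, the function (1 − φ)(1 − ψ) vanishes on W₁ ∪ W₂; and the family of these functions, indexed by pairs (φ, ψ) with φ ≠ 1 ≠ ψ, is linearly independent over ℂ. -/
theorem result {G : Type*} [Group G] [Finite G] (W₁ W₂ : Subgroup G) (hdisj : W₁ ⊓ W₂ = ⊥) (hcomm : ∀ a ∈ W₁, ∀ b ∈ W₂, a * b = b * a) : (∀ φ ψ : ↥(W₁ ⊔ W₂) →* ℂˣ, (∀ w : ↥(W₁ ⊔ W₂), (w : G) ∈ W₂ → φ w = 1) → (∀ w : ↥(W₁ ⊔ W₂), (w : G) ∈ W₁ → ψ w = 1) → ∀ w : ↥(W₁ ⊔ W₂), ((w : G) ∈ W₁ ∨ (w : G) ∈ W₂) → (1 - (φ w : ℂ) - (ψ w : ℂ) + (φ w : ℂ) * (ψ w : ℂ)) = 0) ∧ LinearIndependent ℂ (fun p : {p : (↥(W₁ ⊔ W₂) →* ℂˣ) × (↥(W₁ ⊔ W₂) →* ℂˣ) // p.1 ≠ 1 ∧ p.2 ≠ 1 ∧ (∀ w : ↥(W₁ ⊔ W₂), (w : G) ∈ W₂ → p.1 w = 1) ∧ (∀ w : ↥(W₁ ⊔ W₂), (w : G) ∈ W₁ → p.2 w = 1)} => fun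 w : ↥(W₁ ⊔ W₂) => 1 - (p.1.1 w : ℂ) - (p.1.2 w : ℂ) + (p.1.1 w : ℂ) * (p.1.2 w : ℂ)) := by
  classical
  constructor
  · intro φ ψ hφ hψ w hw
    rcases hw with hw | hw
    · rw [hψ w hw]; simp
    · rw [hφ w hw]; simp
  · set W := ↥(W₁ ⊔ W₂)
    set I := {p : (W →* ℂˣ) × (W →* ℂˣ) // p.1 ≠ 1 ∧ p.2 ≠ 1 ∧ (∀ w : W, (w : G) ∈ W₂ → p.1 w = 1) ∧ (∀ w : W, (w : G) ∈ W₁ → p.2 w = 1)}
    -- the independent family of characters
    let ι : (W →* ℂˣ) → (W →* ℂ) := fun ω => (Units.coeHom ℂ).comp ω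
    have hι : Function.Injective ι := by
      intro ω ω' h
      ext w
      have := congrArg (fun f : W →* ℂ => f w) h
      simpa [ι] using this
    let e : (W →* ℂˣ) → (W → ℂ) := fun ω w => (ω w : ℂ)
    have he : LinearIndependent ℂ e := by
      have := (linearIndependent_monoidHom W ℂ).comp ι hι
      exact this
    let Φ : ((W →* ℂˣ) →₀ ℂ) →ₗ[ℂ] (W → ℂ) := Finsupp.linearCombination ℂ e
    have hΦ : LinearMap.ker Φ = ⊥ := LinearMap.ker_eq_bot.mpr he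
    let c : I → ((W →* ℂˣ) →₀ ℂ) := fun p =>
      Finsupp.single 1 1 - Finsupp.single p.1.1 1 - Finsupp.single p.1.2 1 +
        Finsupp.single (p.1.1 * p.1.2) 1
    have hprodinj : Function.Injective (fun p : I => p.1.1 * p.1.2) := by
      intro p p' h
      have := mul_eq_mul_iff W₁ W₂ p.1.1 p'.1.1 p.1.2 p'.1.2 p.2.2.2.1 p'.2.2.2.1 p.2.2.2.2
        p'.2.2.2.2 h
      exact Subtype.ext (Prod.ext this.1 this.2)
    have h1triv : ∀ w : W, (w : G) ∈ W₂ → (1 : W →* ℂˣ) w = 1 := fun _ _ => rfl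
    have h1triv' : ∀ w : W, (w : G) ∈ W₁ → (1 : W →* ℂˣ) w = 1 := fun _ _ => rfl
    have hc : LinearIndependent ℂ c := by
      apply LinearIndependent.of_comp (Finsupp.lcomapDomain (fun p : I => p.1.1 * p.1.2) hprodinj)
      have : (Finsupp.lcomapDomain (M := ℂ) (R := ℂ) (fun p : I => p.1.1 * p.1.2) hprodinj) ∘ c =
          fun p : I => Finsupp.single p (1 : ℂ) := by
        funext p
        ext p'
        simp only [Function.comp_apply, Finsupp.lcomapDomain_apply, Finsupp.comapDomain_apply, c,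
          Finsupp.coe_add, Finsupp.coe_sub, Pi.add_apply, Pi.sub_apply, Finsupp.single_apply]
        have n1 : (1 : W →* ℂˣ) ≠ p'.1.1 * p'.1.2 := by
          intro h
          have := mul_eq_mul_iff W₁ W₂ 1 p'.1.1 1 p'.1.2 h1triv p'.2.2.2.1 h1triv' p'.2.2.2.2
            (by rw [hom_one_mul]; exact h)
          exact p'.2.1 this.1.symm
        have n2 : p.1.1 ≠ p'.1.1 * p'.1.2 := by
          intro h
          have := mul_eq_mul_iff W₁ W₂ p.1.1 p'.1.1 1 p'.1.2 p.2.2.2.1 p'.2.2.2.1 h1triv' p'.2.2.2.2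
            (by rw [hom_mul_one]; exact h)
          exact p'.2.2.1 this.2.symm
        have n3 : p.1.2 ≠ p'.1.1 * p'.1.2 := by
          intro h
          have := mul_eq_mul_iff W₁ W₂ 1 p'.1.1 p.1.2 p'.1.2 h1triv p'.2.2.2.1 p.2.2.2.2 p'.2.2.2.2
            (by rw [hom_one_mul]; exact h)
          exact p'.2.1 this.1.symm
        rw [if_neg n1, if_neg n2, if_neg n3]
        by_cases hpp : p = p'
        · subst hpp; simp
        · have : p.1.1 * p.1.2 ≠ p'.1.1 * p'.1.2 := fun h => hpp (hprodinj h)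
          rw [if_neg this, if_neg hpp]; simp
      rw [this]
      exact Finsupp.linearIndependent_single_one ℂ I
    have hv := hc.map' Φ hΦ
    have hfun : (Φ ∘ c) = (fun p : I => fun w : W => 1 - (p.1.1 w : ℂ) - (p.1.2 w : ℂ) + (p.1.1 w : ℂ) * (p.1.2 w : ℂ)) := by
      funext p w
      simp only [Function.comp_apply, c, Φ, map_add, map_sub, Finsupp.linearCombination_single,
        one_smul, Pi.add_apply, Pi.sub_apply, e]
      simp
    rw [hfun] at hv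
    exact hv

end Cfsg.Agent.S1504
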