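import Cfsg.Statements.S1505
import Cfsg.Agent.Lib.Helper25.SelfNormCyclic
import Cfsg.Agent.Lib.Helper25.DualOrth

set_option autoImplicit false
open Cfsg
open Cfsg.Agent.Lib.Helper25
open scoped ComplexConjugate

namespace Cfsg.Agent.S1505

variable {G : Type*} [Group G] {W₁ W₂ : Subgroup G}

theorem eq_one_of_trivial (hW : IsSelfNormalizingCyclic W₁ W₂) (ω : ↥(W₁ ⊔ W₂) →* ℂˣ)
    (h₁ : ∀ w : ↥(W₁ ⊔ W₂), (w : G) ∈ W₁ → ω w = 1)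
    (h₂ : ∀ w : ↥(W₁ ⊔ W₂), (w : G) ∈ W₂ → ω w = 1) : ω = 1 := by
  ext w
  obtain ⟨y₁, hy₁, y₂, hy₂, hy⟩ := snc_decomp hW w w.2
  have e : w = (⟨y₁, Subgroup.mem_sup_left hy₁⟩ : ↥(W₁ ⊔ W₂)) *
      ⟨y₂, Subgroup.mem_sup_right hy₂⟩ := Subtype.ext hy
  rw [e, map_mul, h₁ _ hy₁, h₂ _ hy₂]
  simp

/-- A character trivial on `W₂` equal to a character trivial on `W₁` is trivial. -/
theorem sep (hW : IsSelfNormalizingCyclic W₁ W₂) (ω₁ ω₂ : ↥(W₁ ⊔ W₂) →* ℂˣ)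
    (h₂ : ∀ w : ↥(W₁ ⊔ W₂), (w : G) ∈ W₂ → ω₁ w = 1)
    (h₁ : ∀ w : ↥(W₁ ⊔ W₂), (w : G) ∈ W₁ → ω₂ w = 1) (he : ω₁ = ω₂) : ω₁ = 1 ∧ ω₂ = 1 := by
  have : ω₁ = 1 := eq_one_of_trivial hW ω₁ (by rw [he]; exact h₁) h₂
  exact ⟨this, by rw [← he]; exact this⟩

open Classical in
/-- Let W₁, W₂ ≤ G form a self-normalising cyclic subgroup W = W₁ ⊔ W₂. For nontrivial linear characters φ, φ' of W trivial on W₂ and ψ, ψ' trivial on W₁, put α = (1 − φ)(1 − ψ) and α' = (1 − φ')(1 − ψ'). Then the function induced from α to G has inner product 1 with the principal character, and the inner product of the functions induced from α and α' is 1 + a + b + ab where a = 1 if φ = φ' (else 0) and b = 1 if ψ = ψ' (else 0). -/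
theorem result {G : Type*} [Group G] [Fintype G] (W₁ W₂ : Subgroup G) (hW : Cfsg.IsSelfNormalizingCyclic W₁ W₂) (φ φ' ψ ψ' : ↥(W₁ ⊔ W₂) →* ℂˣ) (hφ : φ ≠ 1) (hφ' : φ' ≠ 1) (hψ : ψ ≠ 1) (hψ' : ψ' ≠ 1) (hφ₂ : ∀ w : ↥(W₁ ⊔ W₂), (w : G) ∈ W₂ → φ w = 1 ∧ φ' w = 1) (hψ₁ : ∀ w : ↥(W₁ ⊔ W₂), (w : G) ∈ W₁ → ψ w = 1 ∧ ψ' w = 1) : Cfsg.classInner (Cfsg.indFun (W₁ ⊔ W₂) (fun w => 1 - (φ w : ℂ) - (ψ w : ℂ) + (φ w : ℂ) * (ψ w : ℂ))) (fun _ => 1) = 1 ∧ Cfsg.classInner (Cfsg.indFun (W₁ ⊔ W₂) (fun w => 1 - (φ w : ℂ) - (ψ w : ℂ) + (φ w : ℂ) * (ψ w : ℂ))) (Cfsg.indFun (W₁ ⊔ W₂) (fun w => 1 - (φ' w : ℂ) - (ψ' w : ℂ) + (φ' w : ℂ) * (ψ' w : ℂ))) = 1 + (if φ = φ' then 1 else 0) + (if ψ = ψ' then 1 else 0) + (if φ = φ' then 1 else 0) * (if ψ = ψ' then 1 else 0) := by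
  have hα : ∀ (φ ψ : ↥(W₁ ⊔ W₂) →* ℂˣ),
      (fun w : ↥(W₁ ⊔ W₂) => 1 - (φ w : ℂ) - (ψ w : ℂ) + (φ w : ℂ) * (ψ w : ℂ)) =
      homFun 1 - homFun φ - homFun ψ + homFun (φ * ψ) := by
    intro φ ψ
    funext w
    simp [homFun]
  -- membership facts
  have p2φ : ∀ w : ↥(W₁ ⊔ W₂), (w : G) ∈ W₂ → φ w = 1 := fun w hw => (hφ₂ w hw).1
  have p2φ' : ∀ w : ↥(W₁ ⊔ W₂), (w : G) ∈ W₂ → φ' w = 1 := fun w hw => (hφ₂ w hw).2
  have p1ψ : ∀ w : ↥(W₁ ⊔ W₂), (w : G) ∈ W₁ → ψ w = 1 := fun w hw => (hψ₁ w hw).1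
  have p1ψ' : ∀ w : ↥(W₁ ⊔ W₂), (w : G) ∈ W₁ → ψ' w = 1 := fun w hw => (hψ₁ w hw).2
  -- closure of triviality under products and inverses
  have pmul : ∀ (K : Subgroup G) (ω₁ ω₂ : ↥(W₁ ⊔ W₂) →* ℂˣ),
      (∀ w : ↥(W₁ ⊔ W₂), (w : G) ∈ K → ω₁ w = 1) → (∀ w : ↥(W₁ ⊔ W₂), (w : G) ∈ K → ω₂ w = 1) →
      ∀ w : ↥(W₁ ⊔ W₂), (w : G) ∈ K → (ω₁ * ω₂) w = 1 := by
    intro K ω₁ ω₂ h1 h2 w hw
    rw [MonoidHom.mul_apply, h1 w hw, h2 w hw, one_mul]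
  have pinv : ∀ (K : Subgroup G) (ω₁ : ↥(W₁ ⊔ W₂) →* ℂˣ),
      (∀ w : ↥(W₁ ⊔ W₂), (w : G) ∈ K → ω₁ w = 1) →
      ∀ w : ↥(W₁ ⊔ W₂), (w : G) ∈ K → (ω₁⁻¹) w = 1 := by
    intro K ω₁ h1 w hw
    rw [MonoidHom.inv_apply, h1 w hw, inv_one]
  -- the sixteen comparisons
  have c1 : ¬ ((1 : ↥(W₁ ⊔ W₂) →* ℂˣ) = φ') := fun h => hφ' h.symm
  have c2 : ¬ ((1 : ↥(W₁ ⊔ W₂) →* ℂˣ) = ψ') := fun h => hψ' h.symm
  have c3 : ¬ ((1 : ↥(W₁ ⊔ W₂) →* ℂˣ) = φ' * ψ') := by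
    intro h
    have e : φ'⁻¹ = ψ' := by
      ext w
      have hw := DFunLike.congr_fun h w
      simp only [MonoidHom.one_apply, MonoidHom.mul_apply] at hw
      simp only [MonoidHom.inv_apply]
      rw [inv_eq_of_mul_eq_one_right hw.symm]
    exact hψ' (sep hW _ _ (pinv W₂ φ' p2φ') p1ψ' e).2
  have c4 : ¬ (φ = 1) := hφ
  have c5 : ¬ (φ = ψ') := fun h => hφ (sep hW _ _ p2φ p1ψ' h).1
  have c6 : ¬ (φ = φ' * ψ') := by
    intro h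
    have e : φ'⁻¹ * φ = ψ' := by rw [h]; ext w; simp
    exact hψ' (sep hW _ _ (pmul W₂ _ _ (pinv W₂ φ' p2φ') p2φ) p1ψ' e).2
  have c7 : ¬ (ψ = 1) := hψ
  have c8 : ¬ (ψ = φ') := fun h => hφ' (sep hW _ _ p2φ' p1ψ h.symm).1
  have c9 : ¬ (ψ = φ' * ψ') := by
    intro h
    have e : φ' = ψ * ψ'⁻¹ := by rw [h]; ext w; simp
    exact hφ' (sep hW _ _ p2φ' (pmul W₁ _ _ p1ψ (pinv W₁ ψ' p1ψ')) e).1
  have c10 : ¬ (φ * ψ = 1) := by
    intro h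
    have e : φ = ψ⁻¹ := by
      ext w
      have hw := DFunLike.congr_fun h w
      simp only [MonoidHom.one_apply, MonoidHom.mul_apply] at hw
      simp only [MonoidHom.inv_apply]
      rw [eq_inv_of_mul_eq_one_left hw]
    exact hφ (sep hW _ _ p2φ (pinv W₁ ψ p1ψ) e).1
  have c11 : ¬ (φ * ψ = φ') := by
    intro h
    have e : φ'⁻¹ * φ = ψ⁻¹ := by rw [← h]; ext w; simp
    have h1 := (sep hW _ _ (pmul W₂ _ _ (pinv W₂ φ' p2φ') p2φ) (pinv W₁ ψ p1ψ) e).2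
    apply hψ
    ext w
    have hw := DFunLike.congr_fun h1 w
    simpa using hw
  have c12 : ¬ (φ * ψ = ψ') := by
    intro h
    have e : φ = ψ' * ψ⁻¹ := by rw [← h]; ext w; simp
    exact hφ (sep hW _ _ p2φ (pmul W₁ _ _ p1ψ' (pinv W₁ ψ p1ψ)) e).1
  have c13 : (φ * ψ = φ' * ψ') ↔ (φ = φ' ∧ ψ = ψ') := by
    constructor
    · intro h
      have e : φ'⁻¹ * φ = ψ' * ψ⁻¹ := by
        ext w
        have hw := DFunLike.congr_fun h w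
        simp only [MonoidHom.mul_apply] at hw
        simp only [MonoidHom.mul_apply, MonoidHom.inv_apply]
        refine congrArg Units.val ?_
        rw [inv_mul_eq_iff_eq_mul, ← mul_assoc, ← hw, mul_inv_cancel_right]
      obtain ⟨e1, e2⟩ := sep hW _ _ (pmul W₂ _ _ (pinv W₂ φ' p2φ') p2φ)
        (pmul W₁ _ _ p1ψ' (pinv W₁ ψ p1ψ)) e
      refine ⟨?_, ?_⟩
      · ext w
        have hw := DFunLike.congr_fun e1 w
        simp only [MonoidHom.mul_apply, MonoidHom.inv_apply, MonoidHom.one_apply] at hw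
        rw [(inv_mul_eq_one.mp hw)]
      · ext w
        have hw := DFunLike.congr_fun e2 w
        simp only [MonoidHom.mul_apply, MonoidHom.inv_apply, MonoidHom.one_apply] at hw
        rw [(mul_inv_eq_one.mp hw)]
    · rintro ⟨rfl, rfl⟩; rfl
  have hone : (fun _ : ↥(W₁ ⊔ W₂) => (1 : ℂ)) = homFun 1 := homFun_one.symm
  constructor
  · rw [frobenius_reciprocity (W₁ ⊔ W₂) _ (fun _ => 1) (fun _ _ => rfl), hα, hone]
    simp only [classInner_add_left, classInner_sub_left, classInner_homFun]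
    rw [if_pos trivial, if_neg c4, if_neg c7, if_neg c10]
    ring
  · have hcls : IsClassFunction G (indFun (W₁ ⊔ W₂)
        (fun w => 1 - (φ' w : ℂ) - (ψ' w : ℂ) + (φ' w : ℂ) * (ψ' w : ℂ))) :=
      indFun_isClassFunction _ _
    rw [frobenius_reciprocity (W₁ ⊔ W₂) _ _ hcls]
    -- replace the restriction by α'
    have hres : classInner (fun w => 1 - (φ w : ℂ) - (ψ w : ℂ) + (φ w : ℂ) * (ψ w : ℂ))
        (fun h : ↥(W₁ ⊔ W₂) => indFun (W₁ ⊔ W₂)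
          (fun w => 1 - (φ' w : ℂ) - (ψ' w : ℂ) + (φ' w : ℂ) * (ψ' w : ℂ)) h) =
        classInner (fun w => 1 - (φ w : ℂ) - (ψ w : ℂ) + (φ w : ℂ) * (ψ w : ℂ))
          (fun w => 1 - (φ' w : ℂ) - (ψ' w : ℂ) + (φ' w : ℂ) * (ψ' w : ℂ)) := by
      rw [classInner_def, classInner_def]
      congr 1
      apply Finset.sum_congr rfl
      intro w _
      by_cases h1 : (w : G) ∈ W₁
      · have : (1 - (φ w : ℂ) - (ψ w : ℂ) + (φ w : ℂ) * (ψ w : ℂ)) = 0 := by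
          rw [p1ψ w h1]; simp
        rw [this, zero_mul, zero_mul]
      by_cases h2 : (w : G) ∈ W₂
      · have : (1 - (φ w : ℂ) - (ψ w : ℂ) + (φ w : ℂ) * (ψ w : ℂ)) = 0 := by
          rw [p2φ w h2]; simp
        rw [this, zero_mul, zero_mul]
      rw [indFun_apply_snc hW _ _ w h1 h2]
      intro v hv
      rcases hv with hv | hv
      · rw [p1ψ' v hv]; simp
      · rw [p2φ' v hv]; simp
    rw [hres, hα, hα]
    simp only [classInner_add_left, classInner_sub_left, classInner_add_right,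
      classInner_sub_right, classInner_homFun]
    rw [if_pos trivial, if_neg c1, if_neg c2, if_neg c3, if_neg c4, if_neg c5, if_neg c6, if_neg c7,
      if_neg c8, if_neg c9, if_neg c10, if_neg c11, if_neg c12]
    by_cases ha : φ = φ' <;> by_cases hb : ψ = ψ'
    · rw [if_pos ha, if_pos hb, if_pos (c13.mpr ⟨ha, hb⟩)]; ring
    · rw [if_pos ha, if_neg hb, if_neg (fun h => hb (c13.mp h).2)]; ring
    · rw [if_neg ha, if_pos hb, if_neg (fun h => ha (c13.mp h).1)]; ring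
    · rw [if_neg ha, if_neg hb, if_neg (fun h => ha (c13.mp h).1)]; ring

end Cfsg.Agent.S1505
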