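import Cfsg.Statements.S1507
import Cfsg.Agent.Lib.Helper25.SncDual
import Cfsg.Agent.Lib.Helper25.Grid
import Cfsg.Agent.Lib.Helper25.CyclicTI

set_option autoImplicit false
open Cfsg
open Cfsg.Agent.Lib.Helper25

namespace Cfsg.Agent.S1507

open Classical in
/-- Let W₁, W₂ ≤ G form a self-normalising cyclic subgroup W = W₁ ⊔ W₂ of odd order with Nat.card W₁ < Nat.card W₂, and χ an orthonormal family of irreducible characters of G up to sign, indexed by the linear characters ω of W, with χ_1 = 1, χ_ω = ω on W outside W₁ ∪ W₂, and the induction identity for (1 − φ)(1 − ψ). Let θ be a class function of G vanishing on W outside W₁ ∪ W₂, and suppose fewer than 2 · Nat.card W₁ linear characters ω of W have ⟨θ, χ ω⟩ ≠ 0. Then one of: all ⟨θ, χ ω⟩ vanish; or there are ψ₀ and a with ⟨θ, χ ω⟩ = a when ω ψ₀⁻¹ is trivial on W₂ and 0 otherwise;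 or there are φ₀ and a with ⟨θ, χ ω⟩ = a when ω φ₀⁻¹ is trivial on W₁ and 0 otherwise. -/
theorem result {G : Type*} [Group G] [Fintype G] (W₁ W₂ : Subgroup G) (hW : Cfsg.IsSelfNormalizingCyclic W₁ W₂) (hodd : Odd (Nat.card ↥(W₁ ⊔ W₂))) (χ : (↥(W₁ ⊔ W₂) →* ℂˣ) → (G → ℂ)) (hχ : Cfsg.IsCyclicTIFamily W₁ W₂ χ) (hlt : Nat.card W₁ < Nat.card W₂) (θ : G → ℂ) (hθ : Cfsg.IsClassFunction G θ) (hθV : ∀ w : ↥(W₁ ⊔ W₂), (w : G) ∉ W₁ → (w : G) ∉ W₂ → θ w = 0) (hfew : Nat.card {ω : ↥(W₁ ⊔ W₂) →* ℂˣ // Cfsg.classInner θ (χ ω) ≠ 0} < 2 * Nat.card W₁) : (∀ ω, Cfsg.classInner θ (χ ω) = 0) ∨ (∃ (ψ₀ : ↥(W₁ ⊔ W₂) →* ℂˣ) (a : ℂ), ∀ ω, Cfsg.classInner θ (χ ω) = if (∀ w : ↥(W₁ ⊔ W₂), (w : G) ∈ W₂ → (ω * ψ₀⁻¹) w = 1) then a else 0) ∨ (∃ (φ₀ : ↥(W₁ ⊔ W₂) →* ℂˣ) (a : ℂ), ∀ ω, Cfsg.classInner θ (χ ω) = if (∀ w : ↥(W₁ ⊔ W₂), (w : G) ∈ W₁ → (ω * φ₀⁻¹) w = 1) then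 a else 0) := by
  have hcyc := hW.2.2.2.2.1
  let _ : CommGroup ↥(W₁ ⊔ W₂) := IsCyclic.commGroup
  set K₁ : Subgroup ↥(W₁ ⊔ W₂) := W₁.subgroupOf (W₁ ⊔ W₂) with hK₁
  set K₂ : Subgroup ↥(W₁ ⊔ W₂) := W₂.subgroupOf (W₁ ⊔ W₂) with hK₂
  have hK₁card : Nat.card K₁ = Nat.card W₁ :=
    Nat.card_congr (Subgroup.subgroupOfEquivOfLe (le_sup_left : W₁ ≤ W₁ ⊔ W₂)).toEquiv
  have hK₂card : Nat.card K₂ = Nat.card W₂ :=
    Nat.card_congr (Subgroup.subgroupOfEquivOfLe (le_sup_right : W₂ ≤ W₁ ⊔ W₂)).toEquiv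
  have hcard : Nat.card ↥(W₁ ⊔ W₂) = Nat.card K₁ * Nat.card K₂ := by
    rw [hK₁card, hK₂card]; exact snc_card hW
  have hsup : K₁ ⊔ K₂ = ⊤ := by
    rw [eq_top_iff]
    intro w _
    obtain ⟨y₁, h1, y₂, h2, hy⟩ := snc_decomp hW w w.2
    have e : w = (⟨y₁, Subgroup.mem_sup_left h1⟩ : ↥(W₁ ⊔ W₂)) *
        ⟨y₂, Subgroup.mem_sup_right h2⟩ := Subtype.ext hy
    rw [e]
    exact (K₁ ⊔ K₂).mul_mem (Subgroup.mem_sup_left (Subgroup.mem_subgroupOf.mpr h1))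
      (Subgroup.mem_sup_right (Subgroup.mem_subgroupOf.mpr h2))
  have hbij := dual_mul_bijective K₁ K₂ hsup hcard
  have : Fintype (annih K₁) := Fintype.ofFinite _
  have : Fintype (annih K₂) := Fintype.ofFinite _
  have hc₂ : Fintype.card (annih K₂) = Nat.card W₁ := by
    rw [← Nat.card_eq_fintype_card, card_annih_right K₁ K₂ hcard, hK₁card]
  have hc₁ : Fintype.card (annih K₁) = Nat.card W₂ := by
    rw [← Nat.card_eq_fintype_card, card_annih_left K₁ K₂ hcard, hK₂card]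
  set a : (↥(W₁ ⊔ W₂) →* ℂˣ) → ℂ := fun ω => classInner θ (χ ω) with ha
  have hadd : ∀ (φ : annih K₂) (ψ : annih K₁),
      a ((φ : ↥(W₁ ⊔ W₂) →* ℂˣ) * (ψ : ↥(W₁ ⊔ W₂) →* ℂˣ)) =
        (a (φ : ↥(W₁ ⊔ W₂) →* ℂˣ) - a 1) + a (ψ : ↥(W₁ ⊔ W₂) →* ℂˣ) := by
    intro φ ψ
    have := cyclicTI_coeff_add W₁ W₂ χ hχ θ hθ hθV φ ψ
      (fun w hw => φ.2 w (Subgroup.mem_subgroupOf.mpr hw))
      (fun w hw => ψ.2 w (Subgroup.mem_subgroupOf.mpr hw))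
    simp only [ha]
    rw [this]; ring
  have hN : (Finset.univ.filter (fun p : annih K₂ × annih K₁ =>
      (a (p.1 : ↥(W₁ ⊔ W₂) →* ℂˣ) - a 1) + a (p.2 : ↥(W₁ ⊔ W₂) →* ℂˣ) ≠ 0)).card <
      2 * Fintype.card (annih K₂) := by
    rw [hc₂]
    have hcount : (Finset.univ.filter (fun p : annih K₂ × annih K₁ =>
        (a (p.1 : ↥(W₁ ⊔ W₂) →* ℂˣ) - a 1) + a (p.2 : ↥(W₁ ⊔ W₂) →* ℂˣ) ≠ 0)).card =
        Nat.card {ω : ↥(W₁ ⊔ W₂) →* ℂˣ // classInner θ (χ ω) ≠ 0} := by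
      rw [← Fintype.card_subtype, ← Nat.card_eq_fintype_card]
      apply Nat.card_congr
      refine (Equiv.ofBijective _ hbij).subtypeEquiv ?_
      intro p
      simp only [Equiv.ofBijective_apply]
      rw [← hadd p.1 p.2]
    rw [hcount]; exact hfew
  have hm : Fintype.card (annih K₂) + 2 ≤ Fintype.card (annih K₁) := by
    rw [hc₁, hc₂]
    rw [snc_card hW] at hodd
    obtain ⟨h1, h2⟩ := Nat.odd_mul.mp hodd
    obtain ⟨k1, hk1⟩ := h1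
    obtain ⟨k2, hk2⟩ := h2
    omega
  rcases grid_lemma (fun φ : annih K₂ => a (φ : ↥(W₁ ⊔ W₂) →* ℂˣ) - a 1)
    (fun ψ : annih K₁ => a (ψ : ↥(W₁ ⊔ W₂) →* ℂˣ)) hm hN with h | ⟨ψ₀, c, h⟩ | ⟨φ₀, c, h⟩
  · left
    intro ω
    obtain ⟨⟨φ, ψ⟩, rfl⟩ := hbij.2 ω
    change a ((φ : ↥(W₁ ⊔ W₂) →* ℂˣ) * (ψ : ↥(W₁ ⊔ W₂) →* ℂˣ)) = 0
    rw [hadd]; exact h φ ψ
  · right; left
    refine ⟨ψ₀, c, ?_⟩
    intro ω
    obtain ⟨⟨φ, ψ⟩, rfl⟩ := hbij.2 ω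
    change a ((φ : ↥(W₁ ⊔ W₂) →* ℂˣ) * (ψ : ↥(W₁ ⊔ W₂) →* ℂˣ)) = _
    rw [hadd, h φ ψ]
    have hiff : (ψ = ψ₀) ↔ (∀ w : ↥(W₁ ⊔ W₂), (w : G) ∈ W₂ →
        (((φ : ↥(W₁ ⊔ W₂) →* ℂˣ) * (ψ : ↥(W₁ ⊔ W₂) →* ℂˣ)) *
          (ψ₀ : ↥(W₁ ⊔ W₂) →* ℂˣ)⁻¹) w = 1) := by
      constructor
      · rintro rfl w hw
        simp only [MonoidHom.mul_apply, MonoidHom.inv_apply]
        rw [φ.2 w (Subgroup.mem_subgroupOf.mpr hw)]
        simp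
      · intro hall
        apply Subtype.ext
        apply eq_of_eqOn_sup K₁ K₂ hsup
        · intro w hw
          rw [ψ.2 w hw, ψ₀.2 w hw]
        · intro w hw
          have := hall w (Subgroup.mem_subgroupOf.mp hw)
          simp only [MonoidHom.mul_apply, MonoidHom.inv_apply] at this
          rw [φ.2 w hw, one_mul] at this
          exact mul_inv_eq_one.mp this
    by_cases hψ : ψ = ψ₀
    · rw [if_pos hψ, if_pos (hiff.mp hψ)]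
    · rw [if_neg hψ, if_neg (fun h' => hψ (hiff.mpr h'))]
  · right; right
    refine ⟨φ₀, c, ?_⟩
    intro ω
    obtain ⟨⟨φ, ψ⟩, rfl⟩ := hbij.2 ω
    change a ((φ : ↥(W₁ ⊔ W₂) →* ℂˣ) * (ψ : ↥(W₁ ⊔ W₂) →* ℂˣ)) = _
    rw [hadd, h φ ψ]
    have hiff : (φ = φ₀) ↔ (∀ w : ↥(W₁ ⊔ W₂), (w : G) ∈ W₁ →
        (((φ : ↥(W₁ ⊔ W₂) →* ℂˣ) * (ψ : ↥(W₁ ⊔ W₂) →* ℂˣ)) *
          (φ₀ : ↥(W₁ ⊔ W₂) →* ℂˣ)⁻¹) w = 1) := by
      constructor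
      · rintro rfl w hw
        simp only [MonoidHom.mul_apply, MonoidHom.inv_apply]
        rw [ψ.2 w (Subgroup.mem_subgroupOf.mpr hw)]
        simp
      · intro hall
        apply Subtype.ext
        apply eq_of_eqOn_sup K₁ K₂ hsup
        · intro w hw
          have := hall w (Subgroup.mem_subgroupOf.mp hw)
          simp only [MonoidHom.mul_apply, MonoidHom.inv_apply] at this
          rw [ψ.2 w hw, mul_one] at this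
          exact mul_inv_eq_one.mp this
        · intro w hw
          rw [φ.2 w hw, φ₀.2 w hw]
    by_cases hφ : φ = φ₀
    · rw [if_pos hφ, if_pos (hiff.mp hφ)]
    · rw [if_neg hφ, if_neg (fun h' => hφ (hiff.mpr h'))]

end Cfsg.Agent.S1507
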