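import Cfsg.Statements.S1508
import Cfsg.Agent.Lib.Helper25.CyclicTIGalois

set_option autoImplicit false
open Cfsg

namespace Cfsg.Agent.S1508

open Cfsg.Agent.Lib.Helper25

/-- Let W₁, W₂ ≤ G form a self-normalising cyclic subgroup W = W₁ ⊔ W₂ of odd order and χ an orthonormal family of irreducible characters of G up to sign, indexed by the linear characters ω of W, with χ_1 = 1, χ_ω = ω on W outside W₁ ∪ W₂, and the induction identity for (1 − φ)(1 − ψ). Let ω be a linear character of W and g an element of G whose order is coprime to the order of ω. Then χ ω g is an integer. -/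
theorem result {G : Type*} [Group G] [Fintype G] (W₁ W₂ : Subgroup G) (hW : Cfsg.IsSelfNormalizingCyclic W₁ W₂) (hodd : Odd (Nat.card ↥(W₁ ⊔ W₂))) (χ : (↥(W₁ ⊔ W₂) →* ℂˣ) → (G → ℂ)) (hχ : Cfsg.IsCyclicTIFamily W₁ W₂ χ) (ω : ↥(W₁ ⊔ W₂) →* ℂˣ) (g : G) (hg : Nat.Coprime (orderOf g) (orderOf ω)) : ∃ n : ℤ, χ ω g = n := by
  have hN : 0 < Nat.card G := Nat.card_pos
  have hωN : ω ^ Nat.card G = 1 := by
    ext w
    rw [MonoidHom.pow_apply, hom_pow_card_eq_one]
    rfl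
  have hb : orderOf ω ∣ Nat.card G := orderOf_dvd_of_pow_eq_one hωN
  have ha : orderOf g ∣ Nat.card G := orderOf_dvd_natCard g
  have hfix : ∀ τ : ℂ ≃+* ℂ, τ (χ ω g) = χ ω g := by
    intro τ
    obtain ⟨j, hj, hτ⟩ := Cfsg.Agent.Lib.Helper75.exists_pow_of_ringEquiv τ (Nat.card G) hN
    obtain ⟨k, hk, hka, hkb⟩ := exists_coprime_lift (Nat.card G) (orderOf g) (orderOf ω) j hN ha hb hg hj
    obtain ⟨σ, hσ⟩ := Cfsg.Agent.Lib.Helper75.exists_ringEquiv_pow_rootsOfUnity (Nat.card G) k hN hk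
    have h1 : τ (χ ω g) = χ ω (g ^ j) :=
      signed_ringEquiv_eq_pow τ (Nat.card G) j hτ (hχ.irr_or_neg ω) g pow_card_eq_one'
    have h2 : σ (χ ω g) = χ ω (g ^ k) :=
      signed_ringEquiv_eq_pow σ (Nat.card G) k hσ (hχ.irr_or_neg ω) g pow_card_eq_one'
    have h3 : σ (χ ω g) = χ (ω ^ k) g := cyclicTI_galois hW hodd χ hχ σ k hk hσ ω g
    have h4 : g ^ k = g ^ j := pow_eq_pow_iff_modEq.mpr hka
    have h5 : ω ^ k = ω := by
      have := (pow_eq_pow_iff_modEq (x := ω)).mpr hkb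
      rwa [pow_one] at this
    rw [h1, ← h4, ← h2, h3, h5]
  obtain ⟨z, hz⟩ := Cfsg.Agent.Lib.Helper75.exists_int_eq_of_forall_ringEquiv_eq (χ ω g)
    (signed_isIntegral (hχ.irr_or_neg ω) g) hfix
  exact ⟨z, hz.symm⟩

end Cfsg.Agent.S1508
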