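import Cfsg.Statements.S1510

set_option autoImplicit false
open Cfsg

namespace Cfsg.Agent.S1510

open Subgroup

/-- Let L be a finite group with a normal subgroup K and a nontrivial cyclic subgroup W₁ of order coprime to its index, K ⊓ W₁ = ⊥ and K ⊔ W₁ = ⊤; let W₂ ≠ ⊥ be a cyclic subgroup of K with K ⊓ C_L(x) = W₂ for every non-identity x ∈ W₁, and suppose W₁ ⊔ W₂ has odd order. Then (W₁, W₂) is a self-normalising cyclic pair in L. -/
theorem result {L : Type*} [Group L] [Fintype L] (K W₁ W₂ : Subgroup L) [hK : K.Normal] (hKW₁ : K ⊓ W₁ = ⊥) (hKW₁' : K ⊔ W₁ = ⊤) (hW₁ : W₁ ≠ ⊥) (hW₁c : IsCyclic W₁) (hHall : Nat.Coprime (Nat.card W₁) W₁.index) (hW₂ : W₂ ≠ ⊥) (hW₂c : IsCyclic W₂) (hW₂K : W₂ ≤ K) (hC : ∀ x ∈ W₁, x ≠ 1 → K ⊓ Subgroup.centralizer ({x} : Set L) = W₂) (hodd : Odd (Nat.card ↥(W₁ ⊔ W₂))) : Cfsg.IsSelfNormalizingCyclic W₁ W₂ := by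
  -- complement
  have hcompl : IsComplement' K W₁ := by
    apply isComplement'_of_disjoint_and_mul_eq_univ (disjoint_iff.mpr hKW₁)
    rw [← normal_mul, hKW₁']; rfl
  have hidx : W₁.index = Nat.card K := hcompl.index_eq_card
  have hcop : (Nat.card W₁).Coprime (Nat.card W₂) := by
    apply Nat.Coprime.coprime_dvd_right (Subgroup.card_dvd_of_le hW₂K)
    rw [← hidx]; exact hHall
  -- commuting
  have hcomm : ∀ a ∈ W₁, ∀ b ∈ W₂, a * b = b * a := by
    intro a ha b hb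
    by_cases ha1 : a = 1
    · rw [ha1]; simp
    · have hb' : b ∈ K ⊓ centralizer ({a} : Set L) := by rw [hC a ha ha1]; exact hb
      have := mem_centralizer_iff.mp hb'.2 a (Set.mem_singleton a)
      exact this
  have hdisj : W₁ ⊓ W₂ = ⊥ := by
    rw [eq_bot_iff, ← hKW₁]
    exact le_inf (inf_le_right.trans hW₂K) inf_le_left
  -- product hom
  let φ : W₁ × W₂ →* L := MonoidHom.noncommCoprod W₁.subtype W₂.subtype
    (fun m n => hcomm m m.2 n n.2)
  have hrange : φ.range = W₁ ⊔ W₂ := by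
    have := MonoidHom.noncommCoprod_range W₁.subtype W₂.subtype (fun m n => hcomm m m.2 n n.2)
    rw [Subgroup.range_subtype, Subgroup.range_subtype] at this
    exact this
  have hmemW : ∀ t ∈ W₁ ⊔ W₂, ∃ a ∈ W₁, ∃ b ∈ W₂, t = a * b := by
    intro t ht
    rw [← hrange] at ht
    obtain ⟨⟨a, b⟩, rfl⟩ := ht
    exact ⟨a, a.2, b, b.2, rfl⟩
  have hcyc : IsCyclic ↥(W₁ ⊔ W₂) := by
    have h1 : IsCyclic (W₁ × W₂) := Group.isCyclic_prod_iff.mpr ⟨hW₁c, hW₂c, hcop⟩
    have h2 : IsCyclic φ.range := isCyclic_of_surjective φ.rangeRestrict φ.rangeRestrict_surjective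
    rwa [hrange] at h2
  have hWcomm : ∀ u ∈ W₁ ⊔ W₂, ∀ v ∈ W₁ ⊔ W₂, u * v = v * u := by
    intro u hu v hv
    let _ := IsCyclic.commGroup (α := ↥(W₁ ⊔ W₂))
    have := mul_comm (⟨u, hu⟩ : ↥(W₁ ⊔ W₂)) ⟨v, hv⟩
    exact congrArg Subtype.val this
  refine ⟨hW₁, hW₂, hdisj, hcomm, hcyc, ?_⟩
  intro X hX hXne
  apply le_antisymm
  · -- normalizer ≤ W
    intro g hg
    obtain ⟨t, htX⟩ := hXne
    have htW : t ∈ W₁ ⊔ W₂ := (hX htX).1
    have htnot : t ∉ (↑W₁ ∪ ↑W₂ : Set L) := (hX htX).2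
    obtain ⟨a, ha, b, hb, rfl⟩ := hmemW t htW
    have ha1 : a ≠ 1 := by
      rintro rfl
      apply htnot
      right
      simpa using hb
    have hg' := (mem_set_normalizer_iff.mp hg (a * b)).mp htX
    have hgW : g * (a * b) * g⁻¹ ∈ W₁ ⊔ W₂ := (hX hg').1
    obtain ⟨a', ha', b', hb', e⟩ := hmemW _ hgW
    -- decompose g = k * w
    have hgtop : g ∈ K ⊔ W₁ := by rw [hKW₁']; trivial
    obtain ⟨k, hk, w, hw, rfl⟩ := mem_sup_of_normal_left.mp hgtop
    -- w commutes with a*b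
    have hwt : w * (a * b) * w⁻¹ = a * b := by
      have := hWcomm w (mem_sup_left hw) (a * b) htW
      rw [this]; group
    have e2 : k * (a * b) * k⁻¹ = a' * b' := by
      rw [← e]
      calc k * (a * b) * k⁻¹ = k * (w * (a * b) * w⁻¹) * k⁻¹ := by rw [hwt]
        _ = k * w * (a * b) * (k * w)⁻¹ := by group
    -- a = a'
    have haa : a = a' := by
      have h1 : a'⁻¹ * a ∈ K := by
        have h2 : a'⁻¹ * a = b' * (k * b⁻¹ * (a⁻¹ * k⁻¹ * a)) := by
          have : a' = k * (a * b) * k⁻¹ * b'⁻¹ := by rw [e2]; group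
          rw [this]; group
        rw [h2]
        refine K.mul_mem (hW₂K hb') (K.mul_mem (K.mul_mem hk (K.inv_mem (hW₂K hb))) ?_)
        have := hK.conj_mem k⁻¹ (K.inv_mem hk) a⁻¹
        simpa using this
      have h3 : a'⁻¹ * a ∈ K ⊓ W₁ := ⟨h1, W₁.mul_mem (W₁.inv_mem ha') ha⟩
      rw [hKW₁, mem_bot] at h3
      exact (inv_mul_eq_one.mp h3).symm
    subst haa
    -- raise to the power |W₂|
    have hbpow : ∀ c ∈ W₂, c ^ Nat.card W₂ = 1 := fun c hc =>
      orderOf_dvd_iff_pow_eq_one.mp (Subgroup.orderOf_dvd_natCard W₂ hc)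
    have hpow1 : (a * b) ^ Nat.card W₂ = a ^ Nat.card W₂ := by
      rw [(show Commute a b from hcomm a ha b hb).mul_pow, hbpow b hb, mul_one]
    have hpow2 : (a * b') ^ Nat.card W₂ = a ^ Nat.card W₂ := by
      rw [(show Commute a b' from hcomm a ha b' hb').mul_pow, hbpow b' hb', mul_one]
    have hkcent : k * a ^ Nat.card W₂ * k⁻¹ = a ^ Nat.card W₂ := by
      rw [← hpow1, ← conj_pow, e2, hpow2, hpow1]
    have hane : a ^ Nat.card W₂ ≠ 1 := by
      intro h
      have h1 : orderOf a ∣ Nat.card W₂ := orderOf_dvd_of_pow_eq_one h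
      have h2 : orderOf a ∣ Nat.card W₁ := Subgroup.orderOf_dvd_natCard W₁ ha
      have h3 : orderOf a = 1 := Nat.eq_one_of_dvd_coprimes hcop h2 h1
      exact ha1 (orderOf_eq_one_iff.mp h3)
    have hkW₂ : k ∈ W₂ := by
      rw [← hC _ (W₁.pow_mem ha _) hane]
      refine ⟨hk, ?_⟩
      show _ ∈ centralizer _
      rw [mem_centralizer_iff]
      intro y hy
      rw [Set.mem_singleton_iff] at hy
      rw [hy]
      calc a ^ Nat.card W₂ * k = (k * a ^ Nat.card W₂ * k⁻¹) * k := by rw [hkcent]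
        _ = k * a ^ Nat.card W₂ := by group
    exact (W₁ ⊔ W₂).mul_mem (mem_sup_right hkW₂) (mem_sup_left hw)
  · -- W ≤ normalizer
    intro w hw
    rw [mem_set_normalizer_iff]
    intro n
    constructor
    · intro hn
      have : w * n * w⁻¹ = n := by
        rw [hWcomm w hw n (hX hn).1]; group
      rw [this]; exact hn
    · intro hn
      have h1 : w * n * w⁻¹ ∈ W₁ ⊔ W₂ := (hX hn).1
      have h2 : n ∈ W₁ ⊔ W₂ := by
        have := (W₁ ⊔ W₂).mul_mem ((W₁ ⊔ W₂).mul_mem ((W₁ ⊔ W₂).inv_mem hw) h1) hw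
        have e : w⁻¹ * (w * n * w⁻¹) * w = n := by group
        rwa [e] at this
      have : w * n * w⁻¹ = n := by
        rw [hWcomm w hw n h2]; group
      rwa [this] at hn

end Cfsg.Agent.S1510
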