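import Cfsg.Statements.S1512
import Cfsg.Agent.S1496

set_option autoImplicit false
open Cfsg

namespace Cfsg.Agent.S1512

open Subgroup

/-- Let K be a normal subgroup of the finite group L and x a non-identity element whose order is coprime to the order of K, such that K ⊓ C_L(y) = W₂ for every non-identity element y of the cyclic group generated by x. Then the number of conjugacy classes of K mapped to themselves by conjugation by x is at most Nat.card W₂. -/
theorem result {L : Type*} [Group L] [Finite L] (K W₂ : Subgroup L) [hK : K.Normal] (x : L) (hx1 : x ≠ 1) (hx : Nat.Coprime (orderOf x) (Nat.card K)) (hC : ∀ y ∈ Subgroup.zpowers x, y ≠ 1 → K ⊓ Subgroup.centralizer ({y} : Set L) = W₂) : Nat.card {C : ConjClasses K // ConjClasses.map (MulEquiv.toMonoidHom ((MulAut.conjNormal x : MulAut K))) C = C} ≤ Nat.card W₂ := by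
  have hW : K ⊓ centralizer {x} = W₂ := hC x (mem_zpowers x) hx1
  have main : ∀ C : {C : ConjClasses K // ConjClasses.map (MulEquiv.toMonoidHom ((MulAut.conjNormal x : MulAut K))) C = C},
      ∃ w : W₂, ∃ hk : (w : L) ∈ K, ConjClasses.mk (⟨w, hk⟩ : K) = C.val := by
    rintro ⟨C, hCinv⟩
    induction C using Quotient.inductionOn with
    | _ k =>
    have h1 : ConjClasses.mk ((MulAut.conjNormal x : MulAut K) k) = ConjClasses.mk k := hCinv
    rw [ConjClasses.mk_eq_mk_iff_isConj, isConj_iff] at h1
    obtain ⟨a, ha⟩ := h1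
    have ha' : (a : L) * (x * k * x⁻¹) * (a : L)⁻¹ = k := by
      have := congrArg Subtype.val ha
      simpa [MulAut.conjNormal_apply] using this
    obtain ⟨z, hz, c, hc, hcx, hzc⟩ := Cfsg.Agent.S1496.result K x
      (by rw [normalizer_eq_top_iff.mpr hK]; trivial) hx (a : L) a.2
    -- k' = z k z⁻¹
    have hk'K : z * k * z⁻¹ ∈ K := K.mul_mem (K.mul_mem hz k.2) (K.inv_mem hz)
    have hcent : (c * x) * (z * k * z⁻¹) = (z * k * z⁻¹) * (c * x) := by
      rw [← hzc]
      have h2 : (a : L) * x * k = k * ((a : L) * x) := by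
        calc (a : L) * x * k = ((a : L) * (x * k * x⁻¹) * (a : L)⁻¹) * ((a : L) * x) := by group
          _ = k * ((a : L) * x) := by rw [ha']
      calc z * (↑a * x) * z⁻¹ * (z * ↑k * z⁻¹) = z * ((a : L) * x * k) * z⁻¹ := by group
        _ = z * (k * ((a : L) * x)) * z⁻¹ := by rw [h2]
        _ = z * ↑k * z⁻¹ * (z * (↑a * x) * z⁻¹) := by group
    have hxpow : (c * x) ^ Nat.card K = x ^ Nat.card K := by
      have hcomm : Commute c x := hcx
      rw [hcomm.mul_pow]
      have : c ^ Nat.card K = 1 :=
        orderOf_dvd_iff_pow_eq_one.mp (Subgroup.orderOf_dvd_natCard K hc)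
      rw [this, one_mul]
    obtain ⟨j, hj⟩ := exists_pow_eq_self_of_coprime (x := x) hx.symm
    have hxc : Commute x (z * k * z⁻¹) := by
      rw [← hj, ← hxpow]
      exact ((show Commute (c * x) (z * k * z⁻¹) from hcent).pow_left _).pow_left _
    have hk'W : z * k * z⁻¹ ∈ W₂ := by
      rw [← hW]
      refine ⟨hk'K, ?_⟩
      show _ ∈ centralizer {x}
      rw [mem_centralizer_iff]
      intro y hy
      rw [Set.mem_singleton_iff] at hy
      rw [hy]
      exact hxc.eq
    refine ⟨⟨z * k * z⁻¹, hk'W⟩, hk'K, ?_⟩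
    show ConjClasses.mk _ = ConjClasses.mk k
    rw [ConjClasses.mk_eq_mk_iff_isConj, isConj_comm, isConj_iff]
    exact ⟨⟨z, hz⟩, by ext; simp⟩
  choose f hfK hf using main
  have hinj : Function.Injective f := by
    intro C1 C2 h12
    apply Subtype.ext
    rw [← hf C1, ← hf C2]
    congr 1
    exact Subtype.ext (congrArg (fun w : W₂ => (w : L)) h12)
  exact Nat.card_le_card_of_injective f hinj

end Cfsg.Agent.S1512
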