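import Cfsg.Statements.S1515
import Cfsg.Agent.Lib.Helper25.CharUtil

set_option autoImplicit false
open Cfsg

namespace Cfsg.Agent.S1515

open Cfsg.Agent.Lib.Helper25
open scoped ComplexConjugate

theorem int_sq_eq_self {m : ℤ} (h : m ^ 2 = m) : m = 0 ∨ m = 1 := by
  have : m * (m - 1) = 0 := by ring_nf; rw [h]; ring
  rcases mul_eq_zero.mp this with h | h
  · exact Or.inl h
  · exact Or.inr (by omega)

/-- Let (S, τ, R) be a coherence system from L to G, χ ∈ S, and ψ an integer combination of S with ⟨χ, ψ⟩ = ⟨conj χ, ψ⟩ = 0. Let τ₁ be a linear isometry on the integer combinations of χ − ψ and χ − conj χ, with virtual-character values, agreeing with τ on integer multiples of χ − conj χ. Then the sum over α ∈ R χ of the squared absolute values of ⟨τ₁(χ − ψ), α⟩ is at least ⟨χ, χ⟩; and if ⟨τ₁(χ − ψ), τ₁(χ − ψ)⟩ minus that sum is at least ⟨ψ, ψ⟩, then the sum equals ⟨χ, χ⟩ and every ⟨τ₁(χ − ψ), α⟩ with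 α ∈ R χ is 0 or 1. -/
theorem result {L : Type*} [Group L] [Fintype L] {G : Type*} [Group G] [Fintype G] (S : Set (L → ℂ)) (τ : (L → ℂ) → (G → ℂ)) (R : (L → ℂ) → Finset (G → ℂ)) (hS : Cfsg.IsCoherenceSystem S τ R) (χ : L → ℂ) (hχ : χ ∈ S) (ψ : L → ℂ) (hψ : ψ ∈ Cfsg.zspan S) (h1 : Cfsg.classInner χ ψ = 0) (h2 : Cfsg.classInner (Cfsg.conjFun χ) ψ = 0) (τ₁ : (L → ℂ) → (G → ℂ)) (hτ₁ : Cfsg.IsLinearIsometryOn (Cfsg.zspan {χ - ψ, χ - Cfsg.conjFun χ}) τ₁) (hagree : ∀ n : ℤ, τ₁ (n • (χ - Cfsg.conjFun χ)) = τ (n • (χ - Cfsg.conjFun χ))) : (Cfsg.classInner χ χ).re ≤ ∑ α ∈ R χ, ‖Cfsg.classInner (τ₁ (χ - ψ)) α‖ ^ 2 ∧ ((Cfsg.classInner ψ ψ).re ≤ (Cfsg.classInner (τ₁ (χ - ψ)) (τ₁ (χ - ψ))).re - ∑ α ∈ R χ, ‖Cfsg.classInner (τ₁ (χ - ψ)) α‖ ^ 2 → (∑ α ∈ R χ, ‖Cfsg.classInner (τ₁ (χ - ψ)) α‖ ^ 2 = (Cfsg.classInner χ χ).re ∧ ∀ α ∈ R χ, Cfsg.classInner (τ₁ (χ - ψ)) α = 0 ∨ Cfsg.classInner (τ₁ (χ - ψ)) α = 1)) := by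
  classical
  obtain ⟨_, _, hiso, hgen⟩ := hτ₁
  set X := τ₁ (χ - ψ) with hX
  have hmem1 : χ - ψ ∈ Cfsg.zspan {χ - ψ, χ - Cfsg.conjFun χ} :=
    Submodule.subset_span (by simp)
  have hmem2 : χ - Cfsg.conjFun χ ∈ Cfsg.zspan {χ - ψ, χ - Cfsg.conjFun χ} :=
    Submodule.subset_span (by simp)
  have hXgen : IsGeneralizedCharacter G X := hgen _ hmem1
  -- integrality of the coefficients
  have key : ∀ α ∈ R χ, ∃ m : ℤ, classInner X α = (m : ℂ) := fun α hα =>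
    classInner_genChar_int hXgen (hS.virtual χ hχ α hα)
  choose! m hm using key
  -- ⟨χ, χ⟩ is a natural number
  obtain ⟨n, hn⟩ := classInner_char_nat (hS.isCharacter χ hχ) (hS.isCharacter χ hχ)
  -- orthogonality facts
  have hχc : classInner χ (Cfsg.conjFun χ) = 0 :=
    hS.orthogonal χ hχ (Cfsg.conjFun χ) (hS.conj_mem χ hχ) (hS.conj_ne χ hχ).symm
  have hψχ : classInner ψ χ = 0 := by
    rw [← classInner_conj_symm, h1, map_zero]
  have hψχc : classInner ψ (Cfsg.conjFun χ) = 0 := by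
    rw [← classInner_conj_symm, h2, map_zero]
  -- the sum of the coefficients
  have hsumC : ∑ α ∈ R χ, ((m α : ℤ) : ℂ) = (n : ℂ) := by
    have e1 : ∑ α ∈ R χ, ((m α : ℤ) : ℂ) = ∑ α ∈ R χ, classInner X α :=
      Finset.sum_congr rfl (fun α hα => (hm α hα).symm)
    rw [e1, ← classInner_sum_right, ← hS.sum_eq χ hχ]
    have e2 : τ (χ - Cfsg.conjFun χ) = τ₁ (χ - Cfsg.conjFun χ) := by
      have := hagree 1
      simpa using this.symm
    rw [e2, hX, hiso _ hmem1 _ hmem2, classInner_sub_left, classInner_sub_right,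
      classInner_sub_right, hn, hχc, hψχ, hψχc]
    ring
  have hsumZ : ∑ α ∈ R χ, m α = (n : ℤ) := by
    have : ((∑ α ∈ R χ, m α : ℤ) : ℂ) = ((n : ℤ) : ℂ) := by
      push_cast
      exact hsumC
    exact_mod_cast this
  -- the norm squares
  have hnorm : ∀ α ∈ R χ, ‖classInner X α‖ ^ 2 = ((m α ^ 2 : ℤ) : ℝ) := by
    intro α hα
    rw [hm α hα, Complex.norm_intCast]
    push_cast
    exact sq_abs _
  have hsumsq : ∑ α ∈ R χ, ‖classInner X α‖ ^ 2 = ((∑ α ∈ R χ, m α ^ 2 : ℤ) : ℝ) := by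
    rw [Finset.sum_congr rfl hnorm]
    push_cast
    rfl
  have hre : (classInner χ χ).re = ((n : ℤ) : ℝ) := by
    rw [hn]; simp
  have hle : (n : ℤ) ≤ ∑ α ∈ R χ, m α ^ 2 := by
    rw [← hsumZ]
    exact Finset.sum_le_sum (fun α _ => Int.le_self_sq (m α))
  refine ⟨?_, ?_⟩
  · rw [hsumsq, hre]
    exact_mod_cast hle
  · intro hhyp
    have hXX : classInner X X = (n : ℂ) + classInner ψ ψ := by
      rw [hX, hiso _ hmem1 _ hmem1, classInner_sub_left, classInner_sub_right,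
        classInner_sub_right, hn, h1, hψχ]
      ring
    rw [hXX, hsumsq] at hhyp
    simp only [Complex.add_re, Complex.natCast_re] at hhyp
    have hge : (∑ α ∈ R χ, m α ^ 2 : ℤ) ≤ (n : ℤ) := by
      have : ((∑ α ∈ R χ, m α ^ 2 : ℤ) : ℝ) ≤ ((n : ℤ) : ℝ) := by
        push_cast
        push_cast at hhyp
        linarith
      exact_mod_cast this
    have heq : ∑ α ∈ R χ, m α ^ 2 = (n : ℤ) := le_antisymm hge hle
    refine ⟨?_, ?_⟩
    · rw [hsumsq, hre, heq]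
    · intro α hα
      have hall : ∀ β ∈ R χ, m β ^ 2 = m β := by
        have hdiff : ∑ β ∈ R χ, (m β ^ 2 - m β) = 0 := by
          rw [Finset.sum_sub_distrib, heq, hsumZ, sub_self]
        have hnonneg : ∀ β ∈ R χ, 0 ≤ m β ^ 2 - m β := fun β _ => by
          have := Int.le_self_sq (m β); omega
        intro β hβ
        have := (Finset.sum_eq_zero_iff_of_nonneg hnonneg).mp hdiff β hβ
        omega
      rcases int_sq_eq_self (hall α hα) with h | h
      · left; rw [hm α hα, h]; simp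
      · right; rw [hm α hα, h]; simp

end Cfsg.Agent.S1515
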