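import Cfsg.Statements.S1518
import Cfsg.Agent.Lib.Helper25.DadeExp2
import Cfsg.Agent.Lib.Helper3.OddOrder
import Cfsg.Agent.S1500

set_option autoImplicit false
open Cfsg

namespace Cfsg.Agent.S1518

open Cfsg.Agent.Lib.Helper25 Cfsg.Agent.Lib.Helper3
open scoped ComplexConjugate

section Aux

variable {G : Type*} [Group G] {A : Set G} {L : Subgroup G} {H : G → Subgroup G}

theorem dade_zero : dadeIsometry A L H (0 : L → ℂ) = 0 := by
  funext g
  unfold dadeIsometry
  split_ifs <;> rfl

theorem dade_conjFun (α : L → ℂ) :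
    dadeIsometry A L H (conjFun α) = conjFun (dadeIsometry A L H α) := by
  funext g
  simp only [dadeIsometry, conjFun]
  split_ifs with h
  · rfl
  · simp

theorem dade_neg (α : L → ℂ) : dadeIsometry A L H (-α) = - dadeIsometry A L H α := by
  funext g
  unfold dadeIsometry
  simp only [Pi.neg_apply]
  split_ifs with h
  · rfl
  · simp

theorem not_inDade_one [Finite G] (hD : DadeHypothesis A L H) : ¬ InDade A L H (1 : G) := by
  rintro ⟨a, ha, x, u, hu, h⟩
  have h1 : (a : G) * u = 1 := by rw [← h]; group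
  have h2 : (a : G) = u⁻¹ := eq_inv_of_mul_eq_one_left h1
  have h3 : (a : G) ∈ H (a : G) := by rw [h2]; rw [h2] at hu; exact (H _).inv_mem hu
  have h4 : (a : G) ∈ H (a : G) ⊓ (L ⊓ Subgroup.centralizer ({(a : G)} : Set G)) :=
    ⟨h3, Cfsg.Agent.S1499.a_mem hD ha⟩
  rw [hD.inf_eq_bot _ ha] at h4
  have h5 : (a : G) = 1 := h4
  rw [h5] at ha
  exact hD.one_not_mem ha

end Aux

/-- Under the Dade hypothesis for (A, L, H): if χ is an irreducible character of L vanishing at every non-identity element of L outside A, then the Dade image of χ − conj χ equals μ − conj μ for some irreducible character μ of G. -/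
theorem result {G : Type*} [Group G] [Fintype G] (A : Set G) (L : Subgroup G) [Fintype L] (H : G → Subgroup G) (hD : Cfsg.DadeHypothesis A L H) (χ : L → ℂ) (hχ : Cfsg.IsIrrCharacter L χ) (hsupp : ∀ x : L, x ≠ 1 → (x : G) ∉ A → χ x = 0) : ∃ μ : G → ℂ, Cfsg.IsIrrCharacter G μ ∧ Cfsg.dadeIsometry A L H (χ - Cfsg.conjFun χ) = μ - Cfsg.conjFun μ := by
  classical
  have hχc : IsCharacter L χ := IsIrrCharacter.isCharacter hχ
  have hχbar : IsIrrCharacter L (conjFun χ) := IsIrrCharacter.conj hχ
  have hθA : ∀ x : L, (x : G) ∉ A → (χ - conjFun χ) x = 0 := by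
    intro x hx
    by_cases h1 : x = 1
    · subst h1
      show χ 1 - conj (χ 1) = 0
      obtain ⟨n, hn⟩ := char_degree hχc
      rw [hn, Complex.conj_natCast, sub_self]
    · show χ x - conj (χ x) = 0
      rw [hsupp x h1 hx]
      simp
  have hθg : IsGeneralizedCharacter L (χ - conjFun χ) :=
    ⟨χ, conjFun χ, hχc, IsIrrCharacter.isCharacter hχbar, rfl⟩
  have hτg := dade_genChar hD _ hθg hθA
  by_cases hreal : χ = conjFun χ
  · refine ⟨fun _ => 1, isIrrCharacter_one, ?_⟩
    have h0 : χ - conjFun χ = 0 := sub_eq_zero.mpr hreal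
    rw [h0, dade_zero]
    funext g
    simp [conjFun]
  · have hnorm : classInner (χ - conjFun χ) (χ - conjFun χ) = 2 := by
      rw [Cfsg.Agent.Lib.Helper3.classInner_sub_left, Cfsg.Agent.Lib.Helper3.classInner_sub_right,
        Cfsg.Agent.Lib.Helper3.classInner_sub_right, classInner_irr hχ hχ,
        classInner_irr hχ hχbar, classInner_irr hχbar hχ, classInner_irr hχbar hχbar,
        if_pos rfl, if_pos rfl, if_neg hreal, if_neg (Ne.symm hreal)]
      norm_num
    have hθcf := Cfsg.Agent.Lib.Helper25.IsGeneralizedCharacter.isClassFunction hθg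
    have hiso := (Cfsg.Agent.S1500.result A L H hD _ hθcf hθA).1 _ hθcf hθA
    have h1 : dadeIsometry A L H (χ - conjFun χ) 1 = 0 :=
      dadeIsometry_of_not_inDade _ 1 (not_inDade_one hD)
    obtain ⟨μ, ν, hμ, hν, hne, hY⟩ := genChar_norm_two hτg (by rw [hiso, hnorm]) h1
    refine ⟨μ, hμ, ?_⟩
    have hcθ : conjFun (χ - conjFun χ) = -(χ - conjFun χ) := by
      funext x
      simp [conjFun]
    have hconj : conjFun (dadeIsometry A L H (χ - conjFun χ)) =
        - dadeIsometry A L H (χ - conjFun χ) := by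
      rw [← dade_conjFun, ← dade_neg, hcθ]
    rw [hY] at hconj
    have hμbar : IsIrrCharacter G (conjFun μ) := IsIrrCharacter.conj hμ
    have hνbar : IsIrrCharacter G (conjFun ν) := IsIrrCharacter.conj hν
    have e : conjFun μ + μ = ν + conjFun ν := by
      funext g
      have := congrFun hconj g
      simp only [conjFun, Pi.sub_apply, Pi.neg_apply, Pi.add_apply, map_sub] at this ⊢
      linear_combination this
    have e2 := congrArg (fun f => classInner f ν) e
    simp only [Cfsg.Agent.Lib.Helper3.classInner_add_left] at e2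
    rw [classInner_irr hμbar hν, classInner_irr hμ hν, classInner_irr hν hν,
      classInner_irr hνbar hν, if_neg hne, if_pos rfl] at e2
    by_cases hμν : conjFun μ = ν
    · rw [hY, hμν]
    · exfalso
      rw [if_neg hμν] at e2
      split_ifs at e2 <;> norm_num at e2

end Cfsg.Agent.S1518
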