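import Cfsg.Statements.S1523
import Cfsg.Agent.Lib.Helper80.IrrApi
import Cfsg.Agent.Lib.Helper75.GaloisNorm

set_option autoImplicit false
open Cfsg

namespace Cfsg.Agent.S1523

open Cfsg.Agent.Lib.Helper80 Cfsg.Agent.Lib.Helper75 Cfsg.Agent.Lib.Helper3

/-- A free action of a finite group `A` on a finite set: an invariant function with
algebraic-integer values has sum `|A|` times an algebraic integer. -/
theorem sum_free_action {A X : Type*} [Group A] [Fintype A] [Fintype X] [MulAction A X]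
    (hfree : ∀ (a : A) (x : X), a • x = x → a = 1) (f : X → ℂ)
    (hinv : ∀ (a : A) (x : X), f (a • x) = f x)
    (hint : ∀ x, IsIntegral ℤ (f x)) :
    ∃ β : ℂ, IsIntegral ℤ β ∧ ∑ x, f x = (Fintype.card A : ℂ) * β := by
  classical
  have hstab : ∀ b : X, MulAction.stabilizer A b = ⊥ := by
    intro b
    ext a
    rw [MulAction.mem_stabilizer_iff, Subgroup.mem_bot]
    exact ⟨hfree a b, fun h => by rw [h, one_smul]⟩
  let e := MulAction.selfEquivOrbitsQuotientProd hstab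
  let _ : Fintype (Quotient (MulAction.orbitRel A X)) := Fintype.ofFinite _
  have he1 : ∀ y : X, (e y).1 = Quotient.mk'' y := by
    intro y
    rfl
  have hf : ∀ (q : Quotient (MulAction.orbitRel A X)) (a : A), f (e.symm (q, a)) = f q.out := by
    intro q a
    have h1 : Quotient.mk'' (e.symm (q, a)) = q := by
      rw [← he1, Equiv.apply_symm_apply]
    have h2 : (Quotient.mk'' (e.symm (q, a)) : Quotient (MulAction.orbitRel A X)) =
        Quotient.mk'' q.out := by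
      rw [h1, Quotient.out_eq']
    have h3 := Quotient.exact' h2
    rw [MulAction.orbitRel_apply] at h3
    obtain ⟨b, hb⟩ := h3
    rw [← hb, hinv]
  refine ⟨∑ q : Quotient (MulAction.orbitRel A X), f q.out,
    IsIntegral.sum _ (fun q _ => hint _), ?_⟩
  rw [← Equiv.sum_comp e.symm, Fintype.sum_prod_type]
  simp only [hf, Finset.sum_const, Finset.card_univ, nsmul_eq_mul]
  rw [Finset.mul_sum]

/-- the action of `H × K` on the complement of a subgroup `L ≥ H, K` by `(h, k) • x = h x k⁻¹` -/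
@[reducible] def complMulAction {G : Type*} [Group G] (L H K : Subgroup G) (hH : H ≤ L)
    (hK : K ≤ L) : MulAction (H × K) {x : G // x ∉ L} where
  smul a x := ⟨(a.1 : G) * x.1 * (a.2 : G)⁻¹, fun h => x.2 (by
    have h1 : x.1 = (a.1 : G)⁻¹ * ((a.1 : G) * x.1 * (a.2 : G)⁻¹) * (a.2 : G) := by group
    rw [h1]
    exact L.mul_mem (L.mul_mem (L.inv_mem (hH a.1.2)) h) (hK a.2.2))⟩
  one_smul x := by
    apply Subtype.ext
    show ((1 : H × K).1 : G) * x.1 * (((1 : H × K).2 : G))⁻¹ = x.1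
    simp
  mul_smul a b x := by
    apply Subtype.ext
    show ((a * b).1 : G) * x.1 * (((a * b).2 : G))⁻¹ =
      (a.1 : G) * ((b.1 : G) * x.1 * (b.2 : G)⁻¹) * (a.2 : G)⁻¹
    simp [mul_assoc]

theorem complMulAction_smul_val {G : Type*} [Group G] (L H K : Subgroup G) (hH : H ≤ L)
    (hK : K ≤ L) (a : H × K) (x : {x : G // x ∉ L}) :
    (letI := complMulAction L H K hH hK; (a • x).1) = (a.1 : G) * x.1 * (a.2 : G)⁻¹ := rfl

/-- a conjugate of an element of a Sylow subgroup `P` lying in `N(P)` lies in `P` -/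
theorem conj_mem_sylow {G : Type*} [Group G] (p : ℕ) [Fact p.Prime] (P : Sylow p G) (v x : G)
    (hv : v ∈ (P : Subgroup G))
    (hc : x⁻¹ * v * x ∈ Subgroup.normalizer ((P : Subgroup G) : Set G)) :
    x⁻¹ * v * x ∈ (P : Subgroup G) := by
  set c := x⁻¹ * v * x with hcdef
  obtain ⟨k, hk⟩ := P.2 ⟨v, hv⟩
  have hk' : v ^ (p ^ k) = 1 := by
    have := congrArg Subtype.val hk
    simpa using this
  have hck : c ^ (p ^ k) = 1 := by
    rw [hcdef]
    have : x⁻¹ * v * x = x⁻¹ * v * x⁻¹⁻¹ := by rw [inv_inv]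
    rw [this, conj_pow, hk']
    simp
  have hpg : IsPGroup p (Subgroup.zpowers c) := by
    rintro ⟨g, hg⟩
    obtain ⟨i, rfl⟩ := Subgroup.mem_zpowers_iff.1 hg
    refine ⟨k, ?_⟩
    apply Subtype.ext
    show (c ^ i) ^ (p ^ k) = 1
    rw [← zpow_natCast, ← zpow_mul, mul_comm, zpow_mul, zpow_natCast, hck, one_zpow]
  have hle : Subgroup.zpowers c ≤ Subgroup.normalizer ((P : Subgroup G) : Set G) :=
    Subgroup.zpowers_le.2 hc
  have hsup : IsPGroup p (Subgroup.zpowers c ⊔ (P : Subgroup G) : Subgroup G) :=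
    IsPGroup.to_sup_of_normal_right' hpg P.2 hle
  have heq := P.is_maximal' hsup le_sup_right
  have : c ∈ Subgroup.zpowers c ⊔ (P : Subgroup G) :=
    Subgroup.mem_sup_left (Subgroup.mem_zpowers c)
  rw [heq] at this
  exact this

/-- in a group of odd order, no non-identity element is conjugate to its inverse -/
theorem not_conj_inv_of_odd {G : Type*} [Group G] (L : Subgroup G) [Finite L]
    (hodd : Odd (Nat.card L)) (x z : G) (hx : x ∈ L) (hz : z ∈ L) (hz1 : z ≠ 1) :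
    x * z * x⁻¹ ≠ z⁻¹ := by
  intro h
  have hox : Odd (orderOf x) := by
    have h1 : orderOf (⟨x, hx⟩ : L) ∣ Nat.card L := orderOf_dvd_natCard _
    have h2 : orderOf (⟨x, hx⟩ : L) = orderOf x := Subgroup.orderOf_mk x hx
    rw [h2] at h1
    exact Odd.of_dvd_nat hodd h1
  have hoz : Odd (orderOf z) := by
    have h1 : orderOf (⟨z, hz⟩ : L) ∣ Nat.card L := orderOf_dvd_natCard _
    have h2 : orderOf (⟨z, hz⟩ : L) = orderOf z := Subgroup.orderOf_mk z hz
    rw [h2] at h1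
    exact Odd.of_dvd_nat hodd h1
  obtain ⟨m, hm⟩ := hox
  have hx2 : Commute (x ^ 2) z := by
    show x ^ 2 * z = z * x ^ 2
    have h1 : x * z = z⁻¹ * x := by
      rw [← h]; group
    have h2 : x * z⁻¹ = z * x := by
      have h3 : x * z⁻¹ * x⁻¹ = z := by
        calc x * z⁻¹ * x⁻¹ = (x * z * x⁻¹)⁻¹ := by group
          _ = z := by rw [h, inv_inv]
      calc x * z⁻¹ = (x * z⁻¹ * x⁻¹) * x := by group
        _ = z * x := by rw [h3]
    calc x ^ 2 * z = x * (x * z) := by rw [pow_two, mul_assoc]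
      _ = x * (z⁻¹ * x) := by rw [h1]
      _ = (x * z⁻¹) * x := by rw [mul_assoc]
      _ = z * x * x := by rw [h2]
      _ = z * x ^ 2 := by rw [pow_two, mul_assoc]
  have hxx : x = (x ^ 2) ^ (m + 1) := by
    rw [← pow_mul]
    have : 2 * (m + 1) = orderOf x + 1 := by omega
    rw [this, pow_succ, pow_orderOf_eq_one, one_mul]
  have hxz : Commute x z := by
    rw [hxx]
    exact hx2.pow_left _
  have hzz : z = z⁻¹ := by
    have : x * z * x⁻¹ = z := by
      rw [hxz.eq]; group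
    rw [this] at h
    exact h
  have hz2 : z ^ 2 = 1 := by
    rw [pow_two]
    nth_rewrite 2 [hzz]
    exact mul_inv_cancel z
  have hd : orderOf z ∣ 2 := orderOf_dvd_of_pow_eq_one hz2
  have : orderOf z = 1 := by
    rcases (Nat.dvd_prime Nat.prime_two).1 hd with h1 | h2
    · exact h1
    · exfalso
      rw [h2] at hoz
      exact (by decide : ¬ Odd 2) hoz
  exact hz1 (orderOf_eq_one_iff.1 this)

theorem conj_identity {G : Type*} [Group G] (z v x c w : G) (hcw : c * w = w * c)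
    (hzv : z * v = v * z) :
    z * (v * x * c⁻¹ * w * (v * x * c⁻¹)⁻¹) = v * (z * (x * w * x⁻¹)) * v⁻¹ := by
  have h1 : c⁻¹ * w * c = w := by
    rw [mul_assoc, ← hcw, ← mul_assoc, inv_mul_cancel, one_mul]
  have h2 : v * x * c⁻¹ * w * (v * x * c⁻¹)⁻¹ = v * (x * (c⁻¹ * w * c) * x⁻¹) * v⁻¹ := by
    group
  rw [h2, h1]
  calc z * (v * (x * w * x⁻¹) * v⁻¹) = (z * v) * (x * w * x⁻¹) * v⁻¹ := by group
    _ = (v * z) * (x * w * x⁻¹) * v⁻¹ := by rw [hzv]
    _ = v * (z * (x * w * x⁻¹)) * v⁻¹ := by group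

/-- Let G be a finite group, p a prime, P a Sylow p-subgroup whose underlying set is a TI-subset of G, with L the set normaliser of P of odd order. Let Z ≠ ⊥ be a subgroup of P, normal in L and central in P, such that the centralisers in L of any two non-identity elements of Z have the same order. If ψ is an irreducible character of G taking the same value at all non-identity elements of Z, then for z ∈ Z, z ≠ 1, the value ψ z is an integer n with Nat.card P dividing ψ(1) − n (as integers, ψ 1 being the degree). -/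
theorem result {G : Type*} [Group G] [Finite G] (p : ℕ) [Fact p.Prime] (P : Sylow p G) (hTI : Cfsg.IsTISubset ((P : Subgroup G) : Set G)) (hodd : Odd (Nat.card (Subgroup.normalizer ((P : Subgroup G) : Set G)))) (Z : Subgroup G) (hZ1 : Z ≠ ⊥) (hZP : Z ≤ P) (hZn : ∀ x ∈ Subgroup.normalizer ((P : Subgroup G) : Set G), ∀ z ∈ Z, x * z * x⁻¹ ∈ Z) (hZc : ∀ z ∈ Z, ∀ y ∈ (P : Subgroup G), z * y = y * z) (hCL : ∀ z ∈ Z, ∀ z' ∈ Z, z ≠ 1 → z' ≠ 1 → Nat.card ↥(Subgroup.normalizer ((P : Subgroup G) : Set G) ⊓ Subgroup.centralizer ({z} : Set G)) = Nat.card ↥(Subgroup.normalizer ((P : Subgroup G) : Set G) ⊓ Subgroup.centralizer ({z'} : Set G))) (ψ : G → ℂ) (hψ : Cfsg.IsIrrCharacter G ψ) (hconst : ∀ z ∈ Z, ∀ z' ∈ Z, z ≠ 1 → z' ≠ 1 → ψ z = ψ z') (z : G) (hz : z ∈ Z) (hz1 : z ≠ 1) : ∃ n d : ℤ, ψ z = n ∧ ψ 1 = d ∧ (Nat.card (P : Subgroup G) : ℤ) ∣ d - n := by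
  classical
  letI : Fintype G := Fintype.ofFinite G
  set L := Subgroup.normalizer ((P : Subgroup G) : Set G) with hLdef
  let χ : IrrCharacter G := ⟨ψ, hψ⟩
  have hPL : (P : Subgroup G) ≤ L := Subgroup.le_normalizer
  have hZL : Z ≤ L := hZP.trans hPL
  have hzL : z ∈ L := hZL hz
  have hzi : z⁻¹ ∈ Z := Z.inv_mem hz
  have hzi1 : z⁻¹ ≠ 1 := by simpa using hz1
  have hai : ψ z⁻¹ = ψ z := hconst z⁻¹ hzi z hz hzi1 hz1
  have hint : ∀ g, IsIntegral ℤ (ψ g) := fun g => irr_isIntegral χ g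
  have hclass : ∀ g h : G, ψ (h * g * h⁻¹) = ψ g := fun g h => irr_class χ g h
  -- the value at `z` is a rational integer
  obtain ⟨n, hn⟩ : ∃ n : ℤ, (n : ℂ) = ψ z := by
    apply exists_int_eq_of_forall_ringEquiv_eq _ (hint z)
    intro τ
    obtain ⟨j, hj, hτ⟩ := exists_pow_of_ringEquiv τ (Nat.card G) Nat.card_pos
    have h1 : τ (ψ z) = ψ (z ^ j) := by
      obtain ⟨m, ρ, hρ, hψρ⟩ := hψ
      rw [← hψρ]
      exact ringEquiv_character_eq_pow ρ τ (Nat.card G) j hτ z pow_card_eq_one'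
    rw [h1]
    have hzj1 : z ^ j ≠ 1 := by
      intro h
      have h2 : orderOf z ∣ j := orderOf_dvd_of_pow_eq_one h
      have h3 : orderOf z ∣ Nat.card G := orderOf_dvd_natCard z
      have h4 : orderOf z ∣ Nat.gcd j (Nat.card G) := Nat.dvd_gcd h2 h3
      rw [hj] at h4
      exact hz1 (orderOf_eq_one_iff.1 (Nat.dvd_one.1 h4))
    exact hconst (z ^ j) (Z.pow_mem hz j) z hz hzj1 hz1
  obtain ⟨d, hdpos, hd⟩ := irr_one_eq_natCast χ
  have hd' : ψ 1 = (d : ℂ) := hd
  -- the key function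
  let F : G → ℂ := fun x => ψ (z * (x * z⁻¹ * x⁻¹)) - ψ (z * (x * z * x⁻¹))
  have hsum : ∑ x : G, F x = 0 := by
    have e1 : ∑ x : G, ψ (z * (x * z⁻¹ * x⁻¹)) = (Nat.card G : ℂ) * ψ z * ψ z⁻¹ / ψ 1 :=
      irr_sum_char_mul_conj χ z z⁻¹
    have e2 : ∑ x : G, ψ (z * (x * z * x⁻¹)) = (Nat.card G : ℂ) * ψ z * ψ z / ψ 1 :=
      irr_sum_char_mul_conj χ z z
    simp only [F, Finset.sum_sub_distrib]
    rw [e1, e2, hai, sub_self]
  -- the part of the sum over `L`
  have hFL : ∀ x ∈ L, F x = if x * z = z * x then ψ 1 - ψ z else 0 := by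
    intro x hx
    have ht1 : x * z * x⁻¹ ∈ Z := hZn x hx z hz
    have ht1' : z * (x * z * x⁻¹) ≠ 1 := by
      intro h
      exact not_conj_inv_of_odd L hodd x z hx hzL hz1 (eq_inv_of_mul_eq_one_right h)
    have hv1 : ψ (z * (x * z * x⁻¹)) = ψ z :=
      hconst _ (Z.mul_mem hz ht1) z hz ht1' hz1
    have ht2 : x * z⁻¹ * x⁻¹ ∈ Z := hZn x hx z⁻¹ hzi
    show ψ (z * (x * z⁻¹ * x⁻¹)) - ψ (z * (x * z * x⁻¹)) = _
    rw [hv1]
    by_cases hc : x * z = z * x
    · rw [if_pos hc]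
      have : x * z⁻¹ * x⁻¹ = z⁻¹ := by
        have h1 : x * z⁻¹ = z⁻¹ * x := by
          have this : z⁻¹ * (x * z) * z⁻¹ = z⁻¹ * (z * x) * z⁻¹ := by rw [hc]
          have e1 : z⁻¹ * (x * z) * z⁻¹ = z⁻¹ * x := by group
          have e2 : z⁻¹ * (z * x) * z⁻¹ = x * z⁻¹ := by group
          rw [e1, e2] at this
          exact this.symm
        rw [h1]; group
      rw [this, mul_inv_cancel]
    · rw [if_neg hc]
      have ht2' : z * (x * z⁻¹ * x⁻¹) ≠ 1 := by
        intro h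
        apply hc
        have h1 : x * z⁻¹ * x⁻¹ = z⁻¹ := eq_inv_of_mul_eq_one_right h
        have h2 : x * z⁻¹ = z⁻¹ * x := by
          calc x * z⁻¹ = (x * z⁻¹ * x⁻¹) * x := by group
            _ = z⁻¹ * x := by rw [h1]
        calc x * z = z * (z⁻¹ * x) * z := by group
          _ = z * (x * z⁻¹) * z := by rw [h2]
          _ = z * x := by group
      rw [hconst _ (Z.mul_mem hz ht2) z hz ht2' hz1, sub_self]
  -- the action on the complement of `L`
  set C := L ⊓ Subgroup.centralizer ({z} : Set G) with hC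
  letI := complMulAction L (P : Subgroup G) C hPL inf_le_left
  have hsmul : ∀ (a : ↥(P : Subgroup G) × ↥C) (x : {x : G // x ∉ L}),
      (a • x).1 = (a.1 : G) * x.1 * (a.2 : G)⁻¹ := fun a x => rfl
  have hCz : ∀ c : ↥C, (c : G) * z = z * (c : G) := by
    intro c
    have := (Subgroup.mem_inf.1 c.2).2
    rw [Subgroup.mem_centralizer_iff] at this
    exact (this z rfl).symm
  have hfree : ∀ (a : ↥(P : Subgroup G) × ↥C) (x : {x : G // x ∉ L}), a • x = x → a = 1 := by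
    intro a x h
    have h1 : (a.1 : G) * x.1 * (a.2 : G)⁻¹ = x.1 := by
      rw [← hsmul, h]
    have h2 : (a.2 : G) = x.1⁻¹ * (a.1 : G) * x.1 := by
      calc (a.2 : G) = x.1⁻¹ * ((a.1 : G) * x.1 * (a.2 : G)⁻¹) * (a.2 : G) := by
            rw [h1]; group
        _ = x.1⁻¹ * (a.1 : G) * x.1 := by group
    have h3 : x.1⁻¹ * (a.1 : G) * x.1 ∈ L := by
      rw [← h2]; exact (Subgroup.mem_inf.1 a.2.2).1
    have h4 : x.1⁻¹ * (a.1 : G) * x.1 ∈ (P : Subgroup G) :=
      conj_mem_sylow p P _ _ a.1.2 h3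
    have h5 : x.1⁻¹ * (a.1 : G) * x.1 = 1 := by
      apply hTI x.1 x.2 _ h4
      have : x.1 * (x.1⁻¹ * (a.1 : G) * x.1) * x.1⁻¹ = (a.1 : G) := by group
      rw [this]
      exact a.1.2
    have h6 : (a.2 : G) = 1 := by rw [h2, h5]
    have h7 : (a.1 : G) = 1 := by
      have : (a.1 : G) = x.1 * (x.1⁻¹ * (a.1 : G) * x.1) * x.1⁻¹ := by group
      rw [this, h5]; group
    apply Prod.ext
    · exact Subtype.ext h7
    · exact Subtype.ext h6
  have hinv : ∀ (a : ↥(P : Subgroup G) × ↥C) (x : {x : G // x ∉ L}), F (a • x).1 = F x.1 := by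
    intro a x
    rw [hsmul]
    have hzv : z * (a.1 : G) = (a.1 : G) * z := hZc z hz _ a.1.2
    have hcz : (a.2 : G) * z = z * (a.2 : G) := hCz a.2
    have hczi : (a.2 : G) * z⁻¹ = z⁻¹ * (a.2 : G) := by
      calc (a.2 : G) * z⁻¹ = z⁻¹ * (z * (a.2 : G)) * z⁻¹ := by group
        _ = z⁻¹ * ((a.2 : G) * z) * z⁻¹ := by rw [hcz]
        _ = z⁻¹ * (a.2 : G) := by group
    show ψ (z * ((a.1 : G) * x.1 * (a.2 : G)⁻¹ * z⁻¹ * ((a.1 : G) * x.1 * (a.2 : G)⁻¹)⁻¹)) -
      ψ (z * ((a.1 : G) * x.1 * (a.2 : G)⁻¹ * z * ((a.1 : G) * x.1 * (a.2 : G)⁻¹)⁻¹)) =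
      ψ (z * (x.1 * z⁻¹ * x.1⁻¹)) - ψ (z * (x.1 * z * x.1⁻¹))
    rw [conj_identity z _ x.1 _ z⁻¹ hczi hzv, conj_identity z _ x.1 _ z hcz hzv, hclass, hclass]
  obtain ⟨β, hβ, hβsum⟩ := sum_free_action hfree (fun x => F x.1) hinv
    (fun x => (hint _).sub (hint _))
  -- splitting the sum
  have hsplit : ∑ x : G, F x = ∑ x ∈ Finset.univ.filter (· ∈ L), F x +
      ∑ x ∈ Finset.univ.filter (· ∉ L), F x :=
    (Finset.sum_filter_add_sum_filter_not _ _ _).symm
  have hnotL : ∑ x ∈ Finset.univ.filter (· ∉ L), F x = ∑ x : {x : G // x ∉ L}, F x.1 := by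
    rw [Finset.sum_subtype (p := fun x => x ∉ L) (Finset.univ.filter (· ∉ L)) (by simp) F]
  have hLsum : ∑ x ∈ Finset.univ.filter (· ∈ L), F x = (Fintype.card ↥C : ℂ) * (ψ 1 - ψ z) := by
    rw [Finset.sum_congr rfl (fun x hx => hFL x (Finset.mem_filter.1 hx).2), ← Finset.sum_filter,
      Finset.sum_const, nsmul_eq_mul]
    congr 2
    symm
    apply Fintype.card_of_subtype
    intro x
    simp only [Finset.mem_filter, Finset.mem_univ, true_and, hC, Subgroup.mem_inf,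
      Subgroup.mem_centralizer_iff, Set.mem_singleton_iff, forall_eq]
    constructor
    · rintro ⟨h1, h2⟩; exact ⟨h1, h2.symm⟩
    · rintro ⟨h1, h2⟩; exact ⟨h1, h2.symm⟩
  have hcard : (Fintype.card (↥(P : Subgroup G) × ↥C) : ℂ) =
      (Nat.card (P : Subgroup G) : ℂ) * (Fintype.card ↥C : ℂ) := by
    rw [Fintype.card_prod, Nat.card_eq_fintype_card]; push_cast; ring
  have hCne : (Fintype.card ↥C : ℂ) ≠ 0 := by
    exact_mod_cast Fintype.card_ne_zero
  have hkey : ψ 1 - ψ z = (Nat.card (P : Subgroup G) : ℂ) * (-β) := by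
    have h0 : (Fintype.card ↥C : ℂ) * ((ψ 1 - ψ z) + (Nat.card (P : Subgroup G) : ℂ) * β) = 0 := by
      have := hsum
      rw [hsplit, hnotL, hLsum, hβsum, hcard] at this
      rw [← this]; ring
    have := (mul_eq_zero.1 h0).resolve_left hCne
    linear_combination this
  have hPne : (Nat.card (P : Subgroup G) : ℂ) ≠ 0 := by
    exact_mod_cast Nat.card_pos.ne'
  have hq : IsIntegral ℤ ((((d : ℚ) - (n : ℚ)) / (Nat.card (P : Subgroup G) : ℚ) : ℚ) : ℂ) := by
    have : ((((d : ℚ) - (n : ℚ)) / (Nat.card (P : Subgroup G) : ℚ) : ℚ) : ℂ) = -β := by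
      push_cast
      rw [div_eq_iff hPne, ← hd', hn, hkey]; ring
    rw [this]
    exact hβ.neg
  obtain ⟨m, hm⟩ := int_of_isIntegral_ratCast hq
  refine ⟨n, (d : ℤ), hn.symm, by rw [hd']; push_cast; rfl, m, ?_⟩
  have hPne' : (Nat.card (P : Subgroup G) : ℚ) ≠ 0 := by
    exact_mod_cast Nat.card_pos.ne'
  have h1 : ((d : ℚ) - (n : ℚ)) = (Nat.card (P : Subgroup G) : ℚ) * (m : ℚ) := by
    rw [hm]; field_simp
  exact_mod_cast h1

end Cfsg.Agent.S1523
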