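import Cfsg.Statements.S1525
import Cfsg.Agent.Lib.Helper25.Dade
import Mathlib.Algebra.Order.Chebyshev

set_option autoImplicit false
open Cfsg
open Cfsg.Agent.Lib.Helper25

namespace Cfsg.Agent.S1525

theorem finsum_mem_eq_sum_ite {X : Type*} [Fintype X] (S : Set X) [DecidablePred (· ∈ S)]
    (f : X → ℝ) :
    ∑ᶠ a ∈ S, f a = ∑ a : X, if a ∈ S then f a else 0 := by
  classical
  rw [finsum_mem_def, finsum_eq_sum_of_fintype]
  apply Finset.sum_congr rfl
  intro u _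
  rw [Set.indicator_apply]

/-- Under the Dade hypothesis for (A, L, H), let χ be a class function of G and let ψ be a function on L whose value at each a ∈ A is the average of χ over the coset a·H(a). Then (1/|G|) Σ |χ g|² over the elements g of G conjugate into some coset a·H(a) with a ∈ A is at least (1/|L|) Σ_{a ∈ A ∩ L} |ψ a|². -/
theorem result {G : Type*} [Group G] [Fintype G] (A : Set G) (L : Subgroup G) [Fintype L] (H : G → Subgroup G) (hD : Cfsg.DadeHypothesis A L H) (χ : G → ℂ) (hχ : Cfsg.IsClassFunction G χ) (ψ : L → ℂ) (hψ : ∀ a : L, (a : G) ∈ A → ψ a = (Nat.card (H a) : ℂ)⁻¹ * ∑ᶠ u ∈ (H a : Set G), χ (a * u)) : (Nat.card L : ℝ)⁻¹ * ∑ᶠ a ∈ {a : L | (a : G) ∈ A}, ‖ψ a‖ ^ 2 ≤ (Nat.card G : ℝ)⁻¹ * ∑ᶠ g ∈ {g : G | ∃ a ∈ A, ∃ u ∈ H a, ∃ x : G, x * g * x⁻¹ = a * u}, ‖χ g‖ ^ 2 := by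
  classical
  -- the support set is InDade
  have hset : ∀ g : G, g ∈ {g : G | ∃ a ∈ A, ∃ u ∈ H a, ∃ x : G, x * g * x⁻¹ = a * u} ↔
      InDade A L H g := by
    intro g
    constructor
    · rintro ⟨a, ha, u, hu, x, h⟩
      exact ⟨⟨a, hD.subset ha⟩, ha, x, u, hu, h⟩
    · rintro ⟨a, ha, x, u, hu, h⟩
      exact ⟨a, ha, u, hu, x, h⟩
  set F : G → ℝ := fun g => if InDade A L H g then ‖χ g‖ ^ 2 else 0 with hF
  have hcount := dade_count (K := ℝ) hD F
    (by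
      intro g x
      simp only [hF]
      rw [hχ g x]
      by_cases hg : InDade A L H g
      · rw [if_pos hg, if_pos ((inDade_conj g x).mpr hg)]
      · rw [if_neg hg, if_neg (fun h => hg ((inDade_conj g x).mp h))])
    (by intro g hg; simp only [hF]; rw [if_neg hg])
  rw [sum_dadePairs hD (fun a u => ((Nat.card (H a) : ℝ))⁻¹ * F (a * u))] at hcount
  -- termwise bound
  have hterm : ∀ a : L, (if (a : G) ∈ A then ‖ψ a‖ ^ 2 else 0) ≤
      (if (a : G) ∈ A then ∑ u : G, (if u ∈ H (a : G) then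
        ((Nat.card (H (a : G)) : ℝ))⁻¹ * F ((a : G) * u) else 0) else 0) := by
    intro a
    split_ifs with ha
    · rw [hψ a ha, finsum_mem_subgroup_eq, ← Finset.sum_filter, ← Finset.sum_filter]
      set S := Finset.univ.filter (fun u : G => u ∈ H (a : G)) with hS
      have hcard : (S.card : ℝ) = (Nat.card (H (a : G)) : ℝ) := by
        congr 1
        rw [Nat.card_eq_fintype_card, Fintype.card_subtype]
      have hpos : (0 : ℝ) < (Nat.card (H (a : G)) : ℝ) := by exact_mod_cast Nat.card_pos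
      have hF' : ∀ u ∈ S, ((Nat.card (H (a : G)) : ℝ))⁻¹ * F ((a : G) * u) =
          ((Nat.card (H (a : G)) : ℝ))⁻¹ * ‖χ ((a : G) * u)‖ ^ 2 := by
        intro u hu
        have hu' : u ∈ H (a : G) := by simpa [hS] using hu
        have : InDade A L H ((a : G) * u) := ⟨a, ha, 1, u, hu', by group⟩
        simp only [hF]
        rw [if_pos this]
      rw [Finset.sum_congr rfl hF', ← Finset.mul_sum]
      rw [norm_mul, norm_inv, Complex.norm_natCast, mul_pow]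
      have h1 : ‖∑ u ∈ S, χ ((a : G) * u)‖ ≤ ∑ u ∈ S, ‖χ ((a : G) * u)‖ := norm_sum_le _ _
      have h2 : (∑ u ∈ S, ‖χ ((a : G) * u)‖) ^ 2 ≤ (S.card : ℝ) * ∑ u ∈ S, ‖χ ((a : G) * u)‖ ^ 2 :=
        sq_sum_le_card_mul_sum_sq
      have h3 : ‖∑ u ∈ S, χ ((a : G) * u)‖ ^ 2 ≤ (∑ u ∈ S, ‖χ ((a : G) * u)‖) ^ 2 := by
        apply pow_le_pow_left₀ (norm_nonneg _) h1
      rw [hcard] at h2
      have h4 := h3.trans h2
      have hinv : (0 : ℝ) ≤ ((Nat.card (H (a : G)) : ℝ)⁻¹) ^ 2 := sq_nonneg _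
      calc ((Nat.card (H (a : G)) : ℝ)⁻¹) ^ 2 * ‖∑ u ∈ S, χ ((a : G) * u)‖ ^ 2
          ≤ ((Nat.card (H (a : G)) : ℝ)⁻¹) ^ 2 *
            ((Nat.card (H (a : G)) : ℝ) * ∑ u ∈ S, ‖χ ((a : G) * u)‖ ^ 2) :=
            mul_le_mul_of_nonneg_left h4 hinv
        _ = (Nat.card (H (a : G)) : ℝ)⁻¹ * ∑ u ∈ S, ‖χ ((a : G) * u)‖ ^ 2 := by
            field_simp
    · exact le_refl _
  have hsum := Finset.sum_le_sum (fun a (_ : a ∈ (Finset.univ : Finset L)) => hterm a)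
  rw [finsum_mem_eq_sum_ite, finsum_mem_eq_sum_ite]
  have hL : (0 : ℝ) < (Nat.card L : ℝ) := by exact_mod_cast Nat.card_pos
  have hG : (0 : ℝ) < (Nat.card G : ℝ) := by exact_mod_cast Nat.card_pos
  have hRHS : (∑ g : G, if g ∈ {g : G | ∃ a ∈ A, ∃ u ∈ H a, ∃ x : G, x * g * x⁻¹ = a * u}
      then ‖χ g‖ ^ 2 else 0) = ∑ g : G, F g := by
    apply Finset.sum_congr rfl
    intro g _
    simp only [hF]
    by_cases hg : InDade A L H g
    · rw [if_pos hg, if_pos ((hset g).mpr hg)]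
    · rw [if_neg hg, if_neg (fun h => hg ((hset g).mp h))]
  rw [hRHS]
  have hLHS : (∑ a : L, if a ∈ {a : L | (a : G) ∈ A} then ‖ψ a‖ ^ 2 else 0) =
      ∑ a : L, if (a : G) ∈ A then ‖ψ a‖ ^ 2 else 0 := by
    apply Finset.sum_congr rfl
    intro a _
    rfl
  rw [hLHS]
  -- combine
  have key : (Nat.card L : ℝ)⁻¹ * (∑ a : L, if (a : G) ∈ A then ∑ u : G, (if u ∈ H (a : G) then
        ((Nat.card (H (a : G)) : ℝ))⁻¹ * F ((a : G) * u) else 0) else 0) =
      (Nat.card G : ℝ)⁻¹ * ∑ g : G, F g := by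
    generalize (∑ a : L, if (a : G) ∈ A then ∑ u : G, (if u ∈ H (a : G) then
        ((Nat.card (H (a : G)) : ℝ))⁻¹ * F ((a : G) * u) else 0) else 0) = X at hcount ⊢
    generalize (∑ g : G, F g) = Y at hcount ⊢
    field_simp
    linear_combination -hcount
  rw [← key]
  exact mul_le_mul_of_nonneg_left hsum (inv_nonneg.mpr hL.le)

end Cfsg.Agent.S1525
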