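import Cfsg.Statements.S1527
import Mathlib

set_option autoImplicit false
open Cfsg

namespace Cfsg.Agent.S1527

variable {G : Type*} [Group G]

/-- the set of nonidentity elements conjugate into `K`. -/
def conjSet (K : Subgroup G) : Set G := {g | g ≠ 1 ∧ ∃ x : G, x * g * x⁻¹ ∈ K}

theorem card_ne_one (K : Type*) [Group K] [Finite K] :
    Nat.card {k : K // k ≠ 1} = Nat.card K - 1 := by
  classical
  haveI := Fintype.ofFinite K
  rw [Nat.card_eq_fintype_card, Nat.card_eq_fintype_card, Fintype.card_subtype_compl,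
    Fintype.card_subtype_eq]

theorem card_conjSet [Finite G] (K : Subgroup G) (hTI : Cfsg.IsTISubset (K : Set G)) :
    Nat.card (conjSet K) = (Subgroup.normalizer (K : Set G)).index * (Nat.card K - 1) := by
  classical
  have hmem : ∀ t : (G ⧸ Subgroup.normalizer (K : Set G)) × {k : K // k ≠ 1},
      t.1.out * (t.2.1 : G) * t.1.out⁻¹ ∈ conjSet K := by
    intro t
    refine ⟨?_, t.1.out⁻¹, ?_⟩
    · intro h
      have h2 : (t.2.1 : G) = 1 := by
        have := congrArg (fun z => t.1.out⁻¹ * z * t.1.out) h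
        simpa [mul_assoc] using this
      exact t.2.2 (Subtype.ext h2)
    · simp only [inv_inv, mul_assoc, inv_mul_cancel_left, inv_mul_cancel, mul_one]
      exact t.2.1.2
  let f : (G ⧸ Subgroup.normalizer (K : Set G)) × {k : K // k ≠ 1} → conjSet K :=
    fun t => ⟨_, hmem t⟩
  have hinj : Function.Injective f := by
    intro t t' h
    have h1 : t.1.out * (t.2.1 : G) * t.1.out⁻¹ = t'.1.out * (t'.2.1 : G) * t'.1.out⁻¹ :=
      congrArg Subtype.val h
    have h2 : (t'.1.out⁻¹ * t.1.out) * (t.2.1 : G) * (t'.1.out⁻¹ * t.1.out)⁻¹ = (t'.2.1 : G) := by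
      have := congrArg (fun z => t'.1.out⁻¹ * z * t'.1.out) h1
      simp only [mul_assoc, inv_mul_cancel_left, inv_mul_cancel, mul_one] at this
      simp only [mul_inv_rev, inv_inv, mul_assoc]
      exact this
    have h3 : t'.1.out⁻¹ * t.1.out ∈ Subgroup.normalizer (K : Set G) := by
      by_contra hn
      have := hTI _ hn (t.2.1 : G) t.2.1.2 (by rw [h2]; exact t'.2.1.2)
      exact t.2.2 (Subtype.ext this)
    have h4 : t'.1 = t.1 := by
      rw [← QuotientGroup.out_eq' t'.1, ← QuotientGroup.out_eq' t.1]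
      exact QuotientGroup.eq.mpr h3
    have h5 : (t.2.1 : G) = (t'.2.1 : G) := by
      rw [h4] at h1
      have := congrArg (fun z => t.1.out⁻¹ * z * t.1.out) h1
      simpa [mul_assoc] using this
    exact Prod.ext h4.symm (Subtype.ext (Subtype.ext h5))
  have hsurj : Function.Surjective f := by
    rintro ⟨g, hg1, x, hx⟩
    set q : G ⧸ Subgroup.normalizer (K : Set G) := ((x⁻¹ : G) : G ⧸ Subgroup.normalizer (K : Set G)) with hq
    have hn : x * q.out ∈ Subgroup.normalizer (K : Set G) := by
      have : ((x⁻¹ : G) : G ⧸ Subgroup.normalizer (K : Set G)) = ((q.out : G) : G ⧸ _) := by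
        rw [QuotientGroup.out_eq']
      have := QuotientGroup.eq.mp this
      simpa using this
    have hk : q.out⁻¹ * g * q.out ∈ K := by
      have := (Subgroup.mem_set_normalizer_iff''.mp hn (x * g * x⁻¹)).mp hx
      simpa [mul_assoc] using this
    have hk1 : (⟨q.out⁻¹ * g * q.out, hk⟩ : K) ≠ 1 := by
      intro h
      have h' : q.out⁻¹ * g * q.out = 1 := congrArg Subtype.val h
      apply hg1
      have := congrArg (fun z => q.out * z * q.out⁻¹) h'
      simpa [mul_assoc] using this
    refine ⟨(q, ⟨⟨_, hk⟩, hk1⟩), ?_⟩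
    apply Subtype.ext
    show q.out * (q.out⁻¹ * g * q.out) * q.out⁻¹ = g
    simp [mul_assoc]
  have e := Equiv.ofBijective f ⟨hinj, hsurj⟩
  rw [← Nat.card_congr e, Nat.card_prod, card_ne_one]
  rfl

theorem result {G : Type*} [Group G] [Finite G] {ι : Type*} [Fintype ι] (H : ι → Subgroup G) (hcop : ∀ i j, i ≠ j → Nat.Coprime (Nat.card (H i)) (Nat.card (H j))) (hTI : ∀ i, Cfsg.IsTISubset (H i : Set G)) (hcover : ∀ g : G, g ≠ 1 → ∃ i, ∃ x : G, x * g * x⁻¹ ∈ H i) : Nat.card G - 1 = ∑ i, (Subgroup.normalizer (H i : Set G)).index * (Nat.card (H i) - 1) := by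
  classical
  have hdisj : ∀ i j (g : G), g ∈ conjSet (H i) → g ∈ conjSet (H j) → i = j := by
    intro i j g hi hj
    by_contra hij
    obtain ⟨hg1, x, hx⟩ := hi
    obtain ⟨-, y, hy⟩ := hj
    have h1 : orderOf g ∣ Nat.card (H i) := by
      have := Subgroup.orderOf_dvd_natCard (H i) hx
      have e : orderOf (x * g * x⁻¹) = orderOf g := (MulAut.conj x).orderOf_eq g
      rwa [e] at this
    have h2 : orderOf g ∣ Nat.card (H j) := by
      have := Subgroup.orderOf_dvd_natCard (H j) hy
      have e : orderOf (y * g * y⁻¹) = orderOf g := (MulAut.conj y).orderOf_eq g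
      rwa [e] at this
    have h3 : orderOf g ∣ 1 := by
      have := Nat.dvd_gcd h1 h2
      rwa [(hcop i j hij)] at this
    exact hg1 (orderOf_eq_one_iff.mp (Nat.dvd_one.mp h3))
  have hchoose : ∀ g : {g : G // g ≠ 1}, ∃ i, (g : G) ∈ conjSet (H i) := by
    intro g
    obtain ⟨i, x, hx⟩ := hcover g.1 g.2
    exact ⟨i, g.2, x, hx⟩
  let e : {g : G // g ≠ 1} ≃ Σ i, conjSet (H i) :=
    { toFun := fun g => ⟨Classical.choose (hchoose g), ⟨g.1, Classical.choose_spec (hchoose g)⟩⟩
      invFun := fun s => ⟨s.2.1, s.2.2.1⟩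
      left_inv := fun g => rfl
      right_inv := by
        rintro ⟨i, g, hg⟩
        have hi : Classical.choose (hchoose ⟨g, hg.1⟩) = i :=
          hdisj _ _ g (Classical.choose_spec (hchoose ⟨g, hg.1⟩)) hg
        ext
        · exact hi
        · rfl }
  rw [← card_ne_one, Nat.card_congr e, Nat.card_sigma]
  exact Finset.sum_congr rfl (fun i _ => card_conjSet (H i) (hTI i))

end Cfsg.Agent.S1527
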