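import Cfsg.Statements.S1532
import Cfsg.Agent.Lib.Helper25.SibleyFrob
import Cfsg.Agent.Lib.Helper25.FrobInvol
import Cfsg.Agent.Lib.Helper25.FrobIrr
import Cfsg.Agent.S1514
import Cfsg.Agent.S1522
import Cfsg.Agent.S1524

set_option autoImplicit false
set_option linter.style.haveILetI false
open Cfsg

namespace Cfsg.Agent.S1532

open Cfsg.Agent.Lib.Helper25

set_option maxHeartbeats 1000000 in
/-- the statement for a general pair `H < L = N_G(H)` -/
theorem aux {G : Type*} [Group G] [Fintype G] (H L : Subgroup G) [Fintype L]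
    (hN : Subgroup.normalizer (H : Set G) = L) (hHodd : Odd (Nat.card H))
    (hna : ¬ IsMulCommutative H) (hTI : Cfsg.IsTISubset (H : Set G)) (hlt : H < L)
    (hC : ∀ k ∈ H, k ≠ 1 → Subgroup.centralizer ({k} : Set G) ≤ H)
    (Z : Subgroup G) (hZ1 : Z ≠ ⊥) (hZP : ∀ z ∈ Z, z ∈ H ∧ ∀ y ∈ H, z * y = y * z)
    (hZn : ∀ x ∈ L, ∀ z ∈ Z, x * z * x⁻¹ ∈ Z) :
    Cfsg.IsCoherent {χ : L → ℂ | Cfsg.IsIrrCharacter L χ ∧ ∃ z : L, (z : G) ∈ Z ∧ χ z ≠ χ 1}
      {1}ᶜ (fun α : L → ℂ => Cfsg.indFun L α) := by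
  classical
  have hHn : ∀ x ∈ L, ∀ h ∈ H, x * h * x⁻¹ ∈ H := by
    intro x hx h hh
    rw [← hN] at hx
    have := Subgroup.mem_normalizer_iff.mp hx h
    exact this.mp hh
  have hfrob : ∀ h ∈ H, h ≠ 1 → L ⊓ Subgroup.centralizer ({h} : Set G) ≤ H :=
    fun h hh h1 => inf_le_right.trans (hC h hh h1)
  have hH1 : H ≠ ⊥ := by
    intro h
    apply hna
    refine ⟨⟨fun a b => ?_⟩⟩
    have ha : (a : G) ∈ (⊥ : Subgroup G) := h ▸ a.2
    have hb : (b : G) ∈ (⊥ : Subgroup G) := h ▸ b.2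
    rw [Subgroup.mem_bot] at ha hb
    apply Subtype.ext
    rw [Subgroup.coe_mul, Subgroup.coe_mul, ha, hb]
  have hna' : ¬ ∀ a ∈ H, ∀ b ∈ H, a * b = b * a := by
    intro h
    apply hna
    exact ⟨⟨fun a b => Subtype.ext (h a a.2 b b.2)⟩⟩
  have hodd : Odd (Nat.card L) :=
    odd_card_of_nonabelian_kernel H L hlt.le hHn hfrob hHodd hna'
  obtain ⟨W₁, hW₁L, hW1, hnil, hinf, hsup, hfpf⟩ :=
    frobC_exists_complement H L hlt hH1 hHn hfrob
  have hHL : H ≤ L := hlt.le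
  set K := H.subgroupOf L with hK
  set W := W₁.subgroupOf L with hW
  haveI hKn : K.Normal := ⟨fun n hn g => by
    rw [hK, Subgroup.mem_subgroupOf] at hn ⊢
    have := hHn g g.2 n hn
    simpa using this⟩
  have hinf' : K ⊓ W = ⊥ := by
    rw [eq_bot_iff]
    intro x hx
    rw [Subgroup.mem_bot]
    have h1 : (x : G) ∈ H ⊓ W₁ :=
      ⟨Subgroup.mem_subgroupOf.mp hx.1, Subgroup.mem_subgroupOf.mp hx.2⟩
    rw [hinf, Subgroup.mem_bot] at h1
    exact Subtype.ext h1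
  have hsup' : K ⊔ W = ⊤ := by
    rw [hK, hW, ← Subgroup.subgroupOf_sup hHL hW₁L, hsup, Subgroup.subgroupOf_self]
  have hfpf' : ∀ w ∈ W, w ≠ 1 → ∀ k ∈ K, w * k = k * w → k = 1 := by
    intro w hw hw1 k hk hwk
    have := hfpf w (Subgroup.mem_subgroupOf.mp hw) (fun h => hw1 (Subtype.ext h)) k
      (Subgroup.mem_subgroupOf.mp hk) (congrArg Subtype.val hwk)
    exact Subtype.ext this
  have hKnil : Group.IsNilpotent K := by
    haveI := hnil
    exact Group.nilpotent_of_mulEquiv (Subgroup.subgroupOfEquivOfLe hHL).symm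
  haveI := hKnil
  have hsolv : Group.IsSolvable K := inferInstance
  have hK1 : K ≠ ⊥ := by
    intro h
    apply hH1
    rw [eq_bot_iff]
    intro x hx
    have : (⟨x, hHL hx⟩ : L) ∈ K := Subgroup.mem_subgroupOf.mpr hx
    rw [h, Subgroup.mem_bot] at this
    rw [Subgroup.mem_bot]
    exact congrArg Subtype.val this
  have hKtop : K ≠ ⊤ := by
    intro h
    rw [hK, Subgroup.subgroupOf_eq_top] at h
    exact hlt.not_ge h
  have hirr : ∀ χ ∈ inducedIrrAbove K ⊥, IsIrrCharacter L χ := by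
    rintro χ ⟨θ, hθ, hne, -, rfl⟩
    exact frob_ind_irr K W hinf' hsup' hfpf' hθ hne
  have hconj : ∀ χ ∈ inducedIrrAbove K ⊥,
      conjFun χ ∈ inducedIrrAbove K ⊥ ∧ conjFun χ ≠ χ := fun χ hχ =>
    ⟨inducedIrrAbove_conj K ⊥ hχ, induced_conj_ne K hodd hKtop hχ (hirr χ hχ)⟩
  have hK'K : ⁅K, K⁆ < K := Cfsg.Agent.S1524.commutator_lt_of_solvable K hK1
  obtain ⟨ψ, hψ, hψ1⟩ := Cfsg.Agent.S1519.exists_linear_mem K hsolv ⁅K, K⁆ hK'K
  have hψS : ψ ∈ inducedIrrAbove K ⊥ := inducedIrrAbove_mono K bot_le hψ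
  obtain ⟨hτiso, hτ1⟩ := ti_isometryOn H L hTI hN
  obtain ⟨R, hS⟩ := Cfsg.Agent.S1514.result (inducedIrrAbove K ⊥) ⟨ψ, hψS⟩ hirr hconj
    (fun α : L → ℂ => indFun L α) hτiso hτ1
  have hfrobq : ∀ k ∈ K, k ∉ ⁅K, K⁆ → ∀ x : L, x * k * x⁻¹ * k⁻¹ ∈ ⁅K, K⁆ → x ∈ K :=
    fun k hk hkN x hx => frob_quot K W hsup' hfpf' ⁅K, K⁆ hK'K.le hk hkN x hx
  -- the subgroup Z inside L
  set Z' : Subgroup L := Z.subgroupOf L with hZ'
  haveI hZ'n : Z'.Normal := ⟨fun n hn g => by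
    rw [hZ', Subgroup.mem_subgroupOf] at hn ⊢
    have := hZn g g.2 n hn
    simpa using this⟩
  have hZL : Z ≤ L := fun z hz => hHL (hZP z hz).1
  have hZ'1 : Z' ≠ ⊥ := by
    intro h
    apply hZ1
    rw [eq_bot_iff]
    intro x hx
    have : (⟨x, hZL hx⟩ : L) ∈ Z' := Subgroup.mem_subgroupOf.mpr hx
    rw [h, Subgroup.mem_bot] at this
    rw [Subgroup.mem_bot]
    exact congrArg Subtype.val this
  have hZ'K : Z' ≤ K := by
    intro z hz
    rw [hK, Subgroup.mem_subgroupOf]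
    exact (hZP _ (Subgroup.mem_subgroupOf.mp hz)).1
  have hZ'c : ∀ z ∈ Z', ∀ k ∈ K, z * k = k * z := by
    intro z hz k hk
    apply Subtype.ext
    rw [Subgroup.coe_mul, Subgroup.coe_mul]
    exact (hZP _ (Subgroup.mem_subgroupOf.mp hz)).2 _ (Subgroup.mem_subgroupOf.mp hk)
  obtain ⟨hS₂eq, hcoh⟩ := Cfsg.Agent.S1522.result K hsolv
    (fun α : L → ℂ => indFun L α) R hS hodd hKnil hK'K (lt_top_iff_ne_top.mpr hKtop) hfrobq Z'
    hZ'1 hZ'K hZ'c (fun χ hχ => hirr χ hχ.1)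
  have hset : {χ : L → ℂ | IsIrrCharacter L χ ∧ ∃ z : L, (z : G) ∈ Z ∧ χ z ≠ χ 1} =
      inducedIrrAbove K ⊥ \ inducedIrrAbove K Z' := by
    rw [hS₂eq]
    ext χ
    simp only [Set.mem_ofPred_eq]
    constructor
    · rintro ⟨h1, z, hz, hne⟩
      exact ⟨h1, z, Subgroup.mem_subgroupOf.mpr hz, hne⟩
    · rintro ⟨h1, z, hz, hne⟩
      exact ⟨h1, z, Subgroup.mem_subgroupOf.mp hz, hne⟩
  rw [hset]
  exact hcoh


/-- Let G be a finite group, p an odd prime and P a Sylow p-subgroup that is non-abelian, whose underlying set is a TI-subset of G, with P properly contained in its set normaliser N and C_G(x) ≤ P for every non-identity x ∈ P. Let Z be a nontrivial subgroup of the centre of P normalised by N. Then the set of irreducible characters χ of N with χ z ≠ χ 1 for some z ∈ Z is coherent for the map induced by induction from N to G. -/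
theorem result {G : Type*} [Group G] [Fintype G] (p : ℕ) [Fact p.Prime] (hp : p ≠ 2) (P : Sylow p G) (hna : ¬ IsMulCommutative (P : Subgroup G)) (hTI : Cfsg.IsTISubset ((P : Subgroup G) : Set G)) (hlt : (P : Subgroup G) < Subgroup.normalizer ((P : Subgroup G) : Set G)) (hC : ∀ k ∈ (P : Subgroup G), k ≠ 1 → Subgroup.centralizer ({k} : Set G) ≤ (P : Subgroup G)) [Fintype ↥(Subgroup.normalizer ((P : Subgroup G) : Set G))] (Z : Subgroup G) (hZ1 : Z ≠ ⊥) (hZP : ∀ z ∈ Z, z ∈ (P : Subgroup G) ∧ ∀ y ∈ (P : Subgroup G), z * y = y * z) (hZn : ∀ x ∈ Subgroup.normalizer ((P : Subgroup G) : Set G), ∀ z ∈ Z, x * z * x⁻¹ ∈ Z) : Cfsg.IsCoherent {χ : ↥(Subgroup.normalizer ((P : Subgroup G) : Set G)) → ℂ | Cfsg.IsIrrCharacter ↥(Subgroup.normalizer ((P : Subgroup G) : Set G)) χ ∧ ∃ z : ↥(Subgroup.normalizer ((P : Subgroup G) : Set G)), (z : G) ∈ Z ∧ χ z ≠ χ 1} {1}ᶜ (fun α => Cfsg.indFun (Subgroup.normalizer ((P : Subgroup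 G) : Set G)) α) := by
  have hHodd : Odd (Nat.card (P : Subgroup G)) := by
    obtain ⟨n, hn⟩ := (P.isPGroup').exists_card_eq
    rw [hn]
    exact ((Fact.out : p.Prime).odd_of_ne_two hp).pow
  exact aux (P : Subgroup G) (Subgroup.normalizer ((P : Subgroup G) : Set G)) rfl hHodd hna hTI
    hlt hC Z hZ1 hZP hZn

end Cfsg.Agent.S1532
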