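import Cfsg.Statements.S1533
import Cfsg.Agent.Lib.Helper25.FeitSibley

set_option autoImplicit false
set_option linter.style.haveILetI false
open Cfsg

namespace Cfsg.Agent.S1533

open Cfsg.Agent.Lib.Helper25

/-- Let G be a finite group, p an odd prime, and P a nontrivial Sylow p-subgroup whose underlying set is a TI-subset of G, with P properly contained in its set normaliser N and C_G(x) ≤ P for every non-identity x ∈ P. Let S be the set of irreducible characters χ of N with χ x ≠ χ 1 for some x ∈ P. Then either S has exactly one member, P is elementary abelian and Nat.card P = [N:P] + 1; or (S, N minus 1, induction to G) is coherent. -/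
theorem result {G : Type*} [Group G] [Fintype G] (p : ℕ) [Fact p.Prime] (hp : p ≠ 2) (P : Sylow p G) (hP1 : (P : Subgroup G) ≠ ⊥) (hTI : Cfsg.IsTISubset ((P : Subgroup G) : Set G)) (hlt : (P : Subgroup G) < Subgroup.normalizer ((P : Subgroup G) : Set G)) (hC : ∀ k ∈ (P : Subgroup G), k ≠ 1 → Subgroup.centralizer ({k} : Set G) ≤ (P : Subgroup G)) [Fintype ↥(Subgroup.normalizer ((P : Subgroup G) : Set G))] : (Nat.card {χ : ↥(Subgroup.normalizer ((P : Subgroup G) : Set G)) → ℂ // Cfsg.IsIrrCharacter ↥(Subgroup.normalizer ((P : Subgroup G) : Set G)) χ ∧ ∃ x : ↥(Subgroup.normalizer ((P : Subgroup G) : Set G)), (x : G) ∈ (P : Subgroup G) ∧ χ x ≠ χ 1} = 1 ∧ Cfsg.IsElementaryAbelian p (P : Subgroup G) ∧ Nat.card (P : Subgroup G) = ((P : Subgroup G).subgroupOf (Subgroup.normalizer ((P : Subgroup G) : Set G))).index + 1) ∨ Cfsg.IsCoherent {χ : ↥(Subgroup.normalizer ((P : Subgroup G) : Set G)) → ℂ | Cfsg.IsIrrCharacter ↥(Subgroup.normalizer ((P : Subgroup G) : Set G)) χ ∧ ∃ x : ↥(Subgroup.normalizer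 ((P : Subgroup G) : Set G)), (x : G) ∈ (P : Subgroup G) ∧ χ x ≠ χ 1} {1}ᶜ (fun α => Cfsg.indFun (Subgroup.normalizer ((P : Subgroup G) : Set G)) α) := by
  classical
  have hpP : IsPGroup p (P : Subgroup G) := P.isPGroup'
  obtain ⟨k, hkP, hk1⟩ : ∃ k ∈ (P : Subgroup G), k ≠ 1 := by
    by_contra hall
    push Not at hall
    exact hP1 (eq_bot_iff.mpr (fun k hk => by rw [Subgroup.mem_bot]; exact hall k hk))
  -- the order of k is a nontrivial power of p
  obtain ⟨n, hn⟩ := hpP ⟨k, hkP⟩
  have hkpow : k ^ p ^ n = 1 := by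
    have := congrArg Subtype.val hn
    rwa [Subgroup.coe_pow, Subgroup.coe_one] at this
  rcases feit_sibley_master (P : Subgroup G) (Subgroup.normalizer ((P : Subgroup G) : Set G)) rfl
    hP1 hTI hlt hC with ⟨h1, h2, q, hq, hab, hexp⟩ | ⟨⟨m, hm⟩, -⟩ | h3
  · left
    refine ⟨h1, ?_, h2⟩
    -- q = p
    have hkq : k ^ q = 1 := hexp k hkP
    have hord1 : orderOf k ∣ q := orderOf_dvd_of_pow_eq_one hkq
    have hord2 : orderOf k ∣ p ^ n := orderOf_dvd_of_pow_eq_one hkpow
    have hordne : orderOf k ≠ 1 := fun h => hk1 (orderOf_eq_one_iff.mp h)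
    have hordq : orderOf k = q := (Nat.dvd_prime hq).mp hord1 |>.resolve_left hordne
    rw [hordq] at hord2
    have hqp : q = p := (Nat.prime_dvd_prime_iff_eq hq (Fact.out : p.Prime)).mp
      (hq.dvd_of_dvd_pow hord2)
    exact ⟨hab, fun a ha => by rw [← hqp]; exact hexp a ha⟩
  · exfalso
    -- a nontrivial p-group with p odd has odd order
    obtain ⟨n', hn'⟩ := hpP.exists_card_eq
    have hodd : Odd (Nat.card (P : Subgroup G)) := by
      rw [hn']
      exact ((Fact.out : p.Prime).odd_of_ne_two hp).pow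
    rw [hm] at hodd
    have hm0 : m ≠ 0 := by
      rintro rfl
      rw [pow_zero] at hm
      exact hP1 (Subgroup.card_eq_one.mp hm)
    have : Even (2 ^ m) := (Nat.even_pow' hm0).mpr even_two
    exact (Nat.not_even_iff_odd.mpr hodd) this
  · exact Or.inr h3

end Cfsg.Agent.S1533
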