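import Cfsg.Statements.S1534
import Cfsg.Agent.Lib.Helper25.FeitSibley
import Cfsg.Agent.Lib.Helper25.FeitSibley2

set_option autoImplicit false
set_option linter.style.haveILetI false
open Cfsg

namespace Cfsg.Agent.S1534

open Cfsg.Agent.Lib.Helper25

/-- Let G be a finite group and K a nontrivial nilpotent subgroup whose underlying set is a TI-subset of G, properly contained in its set normaliser N, with C_G(k) ≤ K for every non-identity k ∈ K; let e be the index of K in N and S the set of irreducible characters χ of N with χ k ≠ χ 1 for some k ∈ K. Then one of: S has exactly one member, Nat.card K = e + 1 and K is an elementary abelian p-group for some prime p; or K is a Sylow 2-subgroup of G (Nat.card K is the largest power of 2 dividing Nat.card G) and [K : [K,K]] < 4e²; or (S, N minus 1, induction to G) is coherent. -/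
theorem result {G : Type*} [Group G] [Fintype G] (K : Subgroup G) (hK1 : K ≠ ⊥) (hnil : Group.IsNilpotent K) (hTI : Cfsg.IsTISubset (K : Set G)) (hlt : K < Subgroup.normalizer (K : Set G)) (hC : ∀ k ∈ K, k ≠ 1 → Subgroup.centralizer ({k} : Set G) ≤ K) [Fintype ↥(Subgroup.normalizer (K : Set G))] : (Nat.card {χ : ↥(Subgroup.normalizer (K : Set G)) → ℂ // Cfsg.IsIrrCharacter ↥(Subgroup.normalizer (K : Set G)) χ ∧ ∃ k : ↥(Subgroup.normalizer (K : Set G)), (k : G) ∈ K ∧ χ k ≠ χ 1} = 1 ∧ Nat.card K = (K.subgroupOf (Subgroup.normalizer (K : Set G))).index + 1 ∧ ∃ p : ℕ, p.Prime ∧ Cfsg.IsElementaryAbelian p K) ∨ (Nat.card K = 2 ^ (Nat.card G).factorization 2 ∧ (⁅K, K⁆.subgroupOf K).index < 4 * (K.subgroupOf (Subgroup.normalizer (K : Set G))).index ^ 2) ∨ Cfsg.IsCoherent {χ : ↥(Subgroup.normalizer (K : Set G)) → ℂ | Cfsg.IsIrrCharacter ↥(Subgroup.normalizer (K : Set G)) χ ∧ ∃ k : ↥(Subgroup.normalizer (K : Set G)), (k : G) ∈ K ∧ χ k ≠ χ 1} {1}ᶜ (fun α => Cfsg.indFun (Subgroup.normalizer (K : Set G)) α) :=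 by
  classical
  rcases feit_sibley_master K (Subgroup.normalizer (K : Set G)) rfl hK1 hTI hlt hC with
    h1 | ⟨⟨m, hm⟩, hidx⟩ | h3
  · exact Or.inl h1
  · right; left
    haveI : Fact (Nat.Prime 2) := ⟨Nat.prime_two⟩
    have hp : IsPGroup 2 K := IsPGroup.of_card hm
    refine ⟨card_eq_sylow_of_centralizer_le 2 K hK1 hp hC, ?_⟩
    have hcop := coprime_card_index_of_centralizer K (Subgroup.normalizer (K : Set G)) hlt.le hC
    set e := (K.subgroupOf (Subgroup.normalizer (K : Set G))).index with he
    have hm0 : m ≠ 0 := by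
      rintro rfl
      rw [pow_zero] at hm
      exact hK1 (Subgroup.card_eq_one.mp hm)
    have heodd : Odd e := by
      rw [← Nat.not_even_iff_odd]
      intro heven
      rw [hm] at hcop
      have h2 : 2 ∣ Nat.gcd (2 ^ m) e :=
        Nat.dvd_gcd (dvd_pow_self 2 hm0) heven.two_dvd
      rw [hcop] at h2
      omega
    have he2 : 2 ≤ e := by
      have h0 : e ≠ 0 := Subgroup.index_ne_zero_of_finite
      have h1 : e ≠ 1 := by
        intro h
        rw [he, Subgroup.index_eq_one, Subgroup.subgroupOf_eq_top] at h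
        exact hlt.not_ge h
      omega
    have hdvd : (⁅K, K⁆.subgroupOf K).index ∣ 2 ^ m := by
      rw [← hm]
      exact Subgroup.index_dvd_card _
    obtain ⟨j, -, hj⟩ := (Nat.dvd_prime_pow Nat.prime_two).mp hdvd
    rw [hj] at hidx ⊢
    exact pow_two_lt_of_odd j e heodd he2 hidx
  · exact Or.inr (Or.inr h3)

end Cfsg.Agent.S1534
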