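import Cfsg.Statements.S1536
import Cfsg.Agent.Lib.Helper81.FixedIrr

set_option autoImplicit false
open Cfsg

namespace Cfsg.Agent.S1536

open Cfsg.Agent.Lib.Helper81 in
/-- If `x` centralizes no non-identity element of the normal subgroup `H`, then conjugation by `x`
fixes no conjugacy class of `H` other than the trivial one. -/
theorem no_fixed_class {M : Type*} [Group M] [Finite M] (H : Subgroup M) [hN : H.Normal] (x : M)
    (hx : ∀ h ∈ H, x * h = h * x → h = 1) (c : H) (hc : IsConj (MulAut.conjNormal x c) c) :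
    c = 1 := by
  obtain ⟨g, hg⟩ := isConj_iff.mp hc
  -- the map `a ↦ a⁻¹ * x a x⁻¹` is injective, hence surjective
  have hinj : Function.Injective (fun a : H => a⁻¹ * MulAut.conjNormal x a) := by
    intro a b hab
    have h1 : ((a⁻¹ * MulAut.conjNormal x a : H) : M) = ((b⁻¹ * MulAut.conjNormal x b : H) : M) :=
      congrArg Subtype.val hab
    simp only [Subgroup.coe_mul, Subgroup.coe_inv, MulAut.conjNormal_apply] at h1
    have h2 : x * ((b : M) * (a : M)⁻¹) = ((b : M) * (a : M)⁻¹) * x := by
      have h3 : (a : M)⁻¹ * x * (a : M) = (b : M)⁻¹ * x * (b : M) := by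
        have := congrArg (fun t => t * x) h1
        simpa [mul_assoc] using this
      calc x * ((b : M) * (a : M)⁻¹) = (b : M) * ((b : M)⁻¹ * x * (b : M)) * (a : M)⁻¹ := by group
        _ = (b : M) * ((a : M)⁻¹ * x * (a : M)) * (a : M)⁻¹ := by rw [h3]
        _ = ((b : M) * (a : M)⁻¹) * x := by group
    have h4 := hx ((b : M) * (a : M)⁻¹) (H.mul_mem b.2 (H.inv_mem a.2)) h2
    apply Subtype.ext
    have : (b : M) = (a : M) := by
      have := congrArg (fun t => t * (a : M)) h4
      simpa using this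
    exact this.symm
  have hsurj := Finite.injective_iff_surjective.mp hinj
  obtain ⟨a, ha⟩ := hsurj g
  have ha' : (a : M)⁻¹ * (x * (a : M) * x⁻¹) = (g : M) := by
    have := congrArg Subtype.val ha
    simpa only [Subgroup.coe_mul, Subgroup.coe_inv, MulAut.conjNormal_apply] using this
  have hg' : (g : M) * (x * (c : M) * x⁻¹) * (g : M)⁻¹ = (c : M) := by
    have := congrArg Subtype.val hg
    simpa only [Subgroup.coe_mul, Subgroup.coe_inv, MulAut.conjNormal_apply] using this
  have hcomm : x * ((a : M) * (c : M) * (a : M)⁻¹) = ((a : M) * (c : M) * (a : M)⁻¹) * x := by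
    have h5 : (a : M)⁻¹ * x * (a : M) = (g : M) * x := by
      rw [← ha']; group
    have h6 : (g : M) * x * (c : M) = (c : M) * ((g : M) * x) := by
      have h8 : (g : M) * (x * (c : M) * x⁻¹) * (g : M)⁻¹ * ((g : M) * x) =
          (c : M) * ((g : M) * x) := by rw [hg']
      rw [← h8]; group
    calc x * ((a : M) * (c : M) * (a : M)⁻¹)
        = (a : M) * ((a : M)⁻¹ * x * (a : M) * (c : M)) * (a : M)⁻¹ := by group
      _ = (a : M) * ((g : M) * x * (c : M)) * (a : M)⁻¹ := by rw [h5]
      _ = (a : M) * ((c : M) * ((g : M) * x)) * (a : M)⁻¹ := by rw [h6]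
      _ = (a : M) * ((c : M) * ((a : M)⁻¹ * x * (a : M))) * (a : M)⁻¹ := by rw [h5]
      _ = ((a : M) * (c : M) * (a : M)⁻¹) * x := by group
  have h7 := hx _ (H.mul_mem (H.mul_mem a.2 c.2) (H.inv_mem a.2)) hcomm
  apply Subtype.ext
  have : (c : M) = (a : M)⁻¹ * ((a : M) * (c : M) * (a : M)⁻¹) * (a : M) := by group
  rw [this, h7]; simp

/-- Let H be a normal subgroup of the finite group M whose order is coprime to its index. For x ∈ M: some non-principal irreducible character of H is unchanged under h ↦ θ(x h x⁻¹) if and only if some non-identity element of H commutes with x. -/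
theorem result {M : Type*} [Group M] [Finite M] (H : Subgroup M) [hN : H.Normal] (hHall : Nat.Coprime (Nat.card H) H.index) (x : M) : (∃ θ : H → ℂ, Cfsg.IsIrrCharacter H θ ∧ θ ≠ (fun _ => 1) ∧ (fun h : H => θ ⟨x * h * x⁻¹, hN.conj_mem h h.2 x⟩) = θ) ↔ ∃ h ∈ H, h ≠ 1 ∧ x * h = h * x := by
  classical
  have hcomp : ∀ θ : H → ℂ, (fun h : H => θ ⟨x * h * x⁻¹, hN.conj_mem h h.2 x⟩) =
      θ ∘ (MulAut.conjNormal x : H ≃* H) := by
    intro θ
    funext h
    simp only [Function.comp_apply]
    congr 1
  constructor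
  · rintro ⟨θ, hθ, hθ1, hfix⟩
    by_contra hno
    push Not at hno
    have hx : ∀ h ∈ H, x * h = h * x → h = 1 := by
      intro h hh hcomm
      by_contra h1
      exact hno h hh h1 hcomm
    apply hθ1
    rw [hcomp θ] at hfix
    exact Cfsg.Agent.Lib.Helper81.irr_eq_one_of_comp_eq (MulAut.conjNormal x : H ≃* H)
      (fun c hc => no_fixed_class H x hx c hc) ⟨θ, hθ⟩ hfix
  · rintro ⟨h, hh, h1, hcomm⟩
    have hB := Cfsg.Agent.Lib.Helper81.brauer_permutation
      (Cfsg.Agent.Lib.Helper81.irrTwist (MulAut.conjNormal x : H ≃* H))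
      (Cfsg.Agent.Lib.Helper81.classMap (MulAut.conjNormal x : H ≃* H)) (by
        intro χ C
        obtain ⟨g, rfl⟩ := ConjClasses.exists_rep C
        rw [Cfsg.Agent.Lib.Helper81.classMap_mk, Cfsg.Agent.Lib.Helper81.irrAt_mk,
          Cfsg.Agent.Lib.Helper81.irrAt_mk, Cfsg.Agent.Lib.Helper81.irrTwist_apply,
          MulEquiv.symm_apply_apply])
    by_contra hno
    push Not at hno
    -- all fixed irreducible characters are trivial
    have hsub : Subsingleton {χ : IrrCharacter H //
        Cfsg.Agent.Lib.Helper81.irrTwist (MulAut.conjNormal x : H ≃* H) χ = χ} := by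
      refine ⟨?_⟩
      have key : ∀ χ : {χ : IrrCharacter H //
          Cfsg.Agent.Lib.Helper81.irrTwist (MulAut.conjNormal x : H ≃* H) χ = χ},
          ((χ : IrrCharacter H) : H → ℂ) = fun _ => 1 := by
        rintro ⟨χ, hχ⟩
        by_contra hne
        have h2 := (Cfsg.Agent.Lib.Helper81.irrTwist_eq_self_iff _ χ).mp hχ
        exact hno (χ : H → ℂ) χ.2 hne ((hcomp _).trans h2)
      intro a b
      apply Subtype.ext
      apply Subtype.ext
      rw [key a, key b]
    have hle : Nat.card {C : ConjClasses H //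
        Cfsg.Agent.Lib.Helper81.classMap (MulAut.conjNormal x : H ≃* H) C = C} ≤ 1 := by
      rw [← hB]
      exact Finite.card_le_one_iff_subsingleton.mpr hsub
    have hsub2 := Finite.card_le_one_iff_subsingleton.mp hle
    have e1 : Cfsg.Agent.Lib.Helper81.classMap (MulAut.conjNormal x : H ≃* H)
        (ConjClasses.mk (1 : H)) = ConjClasses.mk (1 : H) := by
      rw [Cfsg.Agent.Lib.Helper81.classMap_mk, map_one]
    have e2 : Cfsg.Agent.Lib.Helper81.classMap (MulAut.conjNormal x : H ≃* H)
        (ConjClasses.mk (⟨h, hh⟩ : H)) = ConjClasses.mk (⟨h, hh⟩ : H) := by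
      rw [Cfsg.Agent.Lib.Helper81.classMap_mk]
      congr 1
      apply Subtype.ext
      rw [MulAut.conjNormal_apply]
      show x * h * x⁻¹ = h
      rw [hcomm]; group
    have h3 := congrArg Subtype.val (hsub2.elim ⟨_, e1⟩ ⟨_, e2⟩)
    simp only at h3
    rw [ConjClasses.mk_eq_mk_iff_isConj] at h3
    have h4 := isConj_one_right.mp h3
    exact h1 (congrArg Subtype.val h4)

end Cfsg.Agent.S1536
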