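import Cfsg.Statements.S1546
import Mathlib

set_option autoImplicit false
open Cfsg

namespace Cfsg.Agent.S1546

/-- geometric sum modulo `m` when `p ≡ 1`. -/
theorem geom_mod_of_one (p q m : ℕ) (h : (p : ZMod m) = 1) :
    ((∑ k ∈ Finset.range q, p ^ k : ℕ) : ZMod m) = (q : ZMod m) := by
  push_cast
  simp [h]

theorem dvd_mod_one (p q : ℕ) (hp : p.Prime) (hq : q.Prime) (hq2 : q ≠ 2)
    (hpq : p % q ≠ 1) (r : ℕ) (hr : r.Prime)
    (hrN : r ∣ ∑ k ∈ Finset.range q, p ^ k) : r % q = 1 := by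
  haveI : Fact r.Prime := ⟨hr⟩
  have hq3 : 3 ≤ q := by
    have := hq.two_le
    omega
  have hp2 : 2 ≤ p := hp.two_le
  -- p^q = 1 in ZMod r
  have hN0 : ((∑ k ∈ Finset.range q, p ^ k : ℕ) : ZMod r) = 0 := by
    rw [ZMod.natCast_eq_zero_iff]; exact hrN
  have hgeom : (∑ k ∈ Finset.range q, (p : ZMod r) ^ k) * ((p : ZMod r) - 1) = (p : ZMod r) ^ q - 1 :=
    geom_sum_mul _ _
  have hpow : (p : ZMod r) ^ q = 1 := by
    have : (∑ k ∈ Finset.range q, (p : ZMod r) ^ k) = 0 := by
      have := hN0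
      push_cast at this
      exact this
    rw [this, zero_mul] at hgeom
    exact (sub_eq_zero.mp hgeom.symm)
  have hp0 : (p : ZMod r) ≠ 0 := by
    intro h0
    rw [h0, zero_pow (by omega)] at hpow
    exact zero_ne_one hpow
  have hord : orderOf (p : ZMod r) ∣ q := orderOf_dvd_iff_pow_eq_one.mpr hpow
  rcases (Nat.dvd_prime hq).mp hord with h1 | hqq
  · -- order 1: p = 1 mod r
    have hp1 : (p : ZMod r) = 1 := orderOf_eq_one_iff.mp h1
    have := geom_mod_of_one p q r hp1
    rw [hN0] at this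
    have hrq : r ∣ q := (ZMod.natCast_eq_zero_iff q r).mp this.symm
    have hrq' : r = q := (Nat.prime_dvd_prime_iff_eq hr hq).mp hrq
    subst hrq'
    exfalso
    apply hpq
    have : ((p : ℕ) : ZMod r) = ((1 : ℕ) : ZMod r) := by simpa using hp1
    rw [ZMod.natCast_eq_natCast_iff'] at this
    rw [this]
    exact Nat.mod_eq_of_lt (by omega)
  · have hdvd : q ∣ r - 1 := hqq ▸ ZMod.orderOf_dvd_card_sub_one hp0
    have hr2 := hr.two_le
    obtain ⟨c, hc⟩ := hdvd
    have : r = q * c + 1 := by omega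
    rw [this, Nat.mul_add_mod]
    exact Nat.mod_eq_of_lt (by omega)

theorem result (p q : ℕ) (hp : p.Prime) (hq : q.Prime) (hp2 : p ≠ 2) (hq2 : q ≠ 2) : Odd ((p ^ q - 1) / (p - 1)) ∧ (p % q = 1 → q ∣ (p ^ q - 1) / (p - 1)) ∧ (p % q ≠ 1 → Nat.Coprime ((p ^ q - 1) / (p - 1)) (p - 1) ∧ ∀ x : ℕ, x ∣ (p ^ q - 1) / (p - 1) → x % q = 1) := by
  have hp2' : 2 ≤ p := hp.two_le
  have hq3 : 3 ≤ q := by
    have := hq.two_le
    omega
  rw [← Nat.geomSum_eq hp2' q]
  have hpodd : Odd p := hp.odd_of_ne_two hp2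
  have hqodd : Odd q := hq.odd_of_ne_two hq2
  refine ⟨?_, ?_, ?_⟩
  · -- odd
    rw [← Nat.not_even_iff_odd, ← ZMod.natCast_eq_zero_iff_even]
    have h1 : (p : ZMod 2) = 1 := by
      have := (ZMod.natCast_eq_one_iff_odd).mpr hpodd
      exact this
    rw [geom_mod_of_one p q 2 h1]
    have := (ZMod.natCast_eq_one_iff_odd).mpr hqodd
    rw [this]
    exact one_ne_zero
  · intro h
    rw [← ZMod.natCast_eq_zero_iff]
    have h1 : (p : ZMod q) = 1 := by
      have : ((p : ℕ) : ZMod q) = ((1 : ℕ) : ZMod q) := by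
        rw [ZMod.natCast_eq_natCast_iff', h]
        exact (Nat.mod_eq_of_lt (by omega)).symm
      simpa using this
    rw [geom_mod_of_one p q q h1]
    exact ZMod.natCast_self q
  · intro hpq
    have hN0 : (∑ k ∈ Finset.range q, p ^ k) ≠ 0 := by
      have : 0 < ∑ k ∈ Finset.range q, p ^ k := by
        apply Finset.sum_pos
        · intro i _
          positivity
        · exact ⟨0, Finset.mem_range.mpr (by omega)⟩
      omega
    have hprime : ∀ r : ℕ, r.Prime → r ∣ ∑ k ∈ Finset.range q, p ^ k → r % q = 1 :=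
      fun r hr hrN => dvd_mod_one p q hp hq hq2 hpq r hr hrN
    refine ⟨?_, ?_⟩
    · -- coprime
      rw [Nat.coprime_iff_gcd_eq_one]
      by_contra hg
      obtain ⟨r, hr, hrg⟩ := Nat.exists_prime_and_dvd hg
      have hrN : r ∣ ∑ k ∈ Finset.range q, p ^ k := hrg.trans (Nat.gcd_dvd_left _ _)
      have hrp : r ∣ p - 1 := hrg.trans (Nat.gcd_dvd_right _ _)
      have hp1 : (p : ZMod r) = 1 := by
        have h0 : ((p - 1 : ℕ) : ZMod r) = 0 := (ZMod.natCast_eq_zero_iff _ _).mpr hrp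
        rw [Nat.cast_sub (by omega)] at h0
        simpa [sub_eq_zero] using h0
      have h2 := geom_mod_of_one p q r hp1
      have h3 : ((∑ k ∈ Finset.range q, p ^ k : ℕ) : ZMod r) = 0 :=
        (ZMod.natCast_eq_zero_iff _ _).mpr hrN
      rw [h3] at h2
      have hrq : r ∣ q := (ZMod.natCast_eq_zero_iff q r).mp h2.symm
      have hrq' : r = q := (Nat.prime_dvd_prime_iff_eq hr hq).mp hrq
      subst hrq'
      apply hpq
      have : ((p : ℕ) : ZMod r) = ((1 : ℕ) : ZMod r) := by simpa using hp1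
      rw [ZMod.natCast_eq_natCast_iff'] at this
      rw [this]
      exact Nat.mod_eq_of_lt (by omega)
    · intro x
      induction x using induction_on_primes with
      | zero =>
        intro h
        exact absurd (Nat.eq_zero_of_zero_dvd h) hN0
      | one =>
        intro _
        exact Nat.mod_eq_of_lt (by omega)
      | prime_mul r a hr ih =>
        intro h
        have h1 : r % q = 1 := hprime r hr ((Dvd.intro _ rfl).trans h)
        have h2 : a % q = 1 := ih ((Dvd.intro_left _ rfl).trans h)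
        rw [Nat.mul_mod, h1, h2]
        exact Nat.mod_eq_of_lt (by omega)

end Cfsg.Agent.S1546
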