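import Cfsg.Statements.S1551
import Cfsg.Agent.Lib.Helper26.SextetStab3

set_option autoImplicit false
open scoped Pointwise
open Cfsg

namespace Cfsg.Agent.S1551

open Cfsg.Agent.Lib.Helper26

variable (S : Finset (Finset GolayPt))

/-- the underlying permutation. -/
def ι : ↥(MulAction.stabilizer M24 S) →* Equiv.Perm GolayPt :=
  M24.subtype.comp (MulAction.stabilizer M24 S).subtype

theorem ι_apply (x : ↥(MulAction.stabilizer M24 S)) : ι S x = x.1.1 := rfl

theorem ι_mem_stabS (x : ↥(MulAction.stabilizer M24 S)) : ι S x ∈ stabS S :=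
  ⟨x.1.2, MulAction.mem_stabilizer_iff.mp x.2⟩

/-- the kernel subtype against `kerS`. -/
def kerEquiv' : {g : ↥(MulAction.stabilizer M24 S) //
    ∀ t ∈ S, ((g : M24) : Equiv.Perm GolayPt) • t = t} ≃ kerS S where
  toFun x := ⟨x.1.1.1, ⟨x.1.1.2, x.2⟩⟩
  invFun y := ⟨⟨⟨y.1, y.2.1⟩, MulAction.mem_stabilizer_iff.mpr (kerS_le_stabS S y.2).2⟩, y.2.2⟩
  left_inv _ := rfl
  right_inv _ := rfl

/-- the normal subgroup. -/
def N : Subgroup ↥(MulAction.stabilizer M24 S) := (nrmS S).comap (ι S)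

/-- `N` against `nrmS`. -/
def NEquiv : N S ≃ nrmS S where
  toFun x := ⟨ι S x.1, x.2⟩
  invFun y := ⟨⟨⟨y.1, y.2.1⟩, MulAction.mem_stabilizer_iff.mpr
    (kerS_le_stabS S (nrmS_le_kerS S y.2)).2⟩, y.2⟩
  left_inv _ := rfl
  right_inv _ := rfl

/-- Structure of a sextet stabiliser: it induces every permutation of the six tetrads, the subgroup fixing each tetrad setwise has order 192, and there is a normal subgroup of order 64 consisting of elements squaring to the identity. -/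
theorem result (S : Finset (Finset Cfsg.GolayPt)) (hS : S ∈ Cfsg.sextets) : (∀ e : Equiv.Perm ↥S, ∃ g ∈ MulAction.stabilizer Cfsg.M24 S, ∀ t : ↥S, (g : Equiv.Perm Cfsg.GolayPt) • (t : Finset Cfsg.GolayPt) = ((e t : ↥S) : Finset Cfsg.GolayPt)) ∧ Nat.card {g : ↥(MulAction.stabilizer Cfsg.M24 S) // ∀ t ∈ S, ((g : Cfsg.M24) : Equiv.Perm Cfsg.GolayPt) • t = t} = 192 ∧ ∃ N : Subgroup ↥(MulAction.stabilizer Cfsg.M24 S), N.Normal ∧ Nat.card N = 64 ∧ ∀ x ∈ N, x * x = 1 := by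
  refine ⟨?_, ?_, N S, ?_, ?_, ?_⟩
  · intro e
    have he : e ∈ (actS S).range := by rw [actS_range S hS]; exact Subgroup.mem_top e
    obtain ⟨g, rfl⟩ := he
    refine ⟨⟨g.1, g.2.1⟩, MulAction.mem_stabilizer_iff.mpr g.2.2, fun t => ?_⟩
    rw [actS_apply]
  · rw [Nat.card_congr (kerEquiv' S), card_kerS S hS]
  · refine ⟨fun n hn g => ?_⟩
    show ι S (g * n * g⁻¹) ∈ nrmS S
    rw [map_mul, map_mul, map_inv]
    have h1 := conj_mem_nrmS (ι_mem_stabS S g).1 hn
    rw [(ι_mem_stabS S g).2] at h1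
    exact h1
  · rw [Nat.card_congr (NEquiv S), card_nrmS S hS]
  · intro x hx
    apply Subtype.ext
    apply Subtype.ext
    exact nrmS_sq hS hx

end Cfsg.Agent.S1551
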