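import Cfsg.Statements.S1552
import Cfsg.Agent.Lib.Helper27.D1552

set_option autoImplicit false
open scoped Pointwise
open Cfsg

namespace Cfsg.Agent.S1552

open Cfsg.Agent.Lib.Helper27 Cfsg.Agent.Lib.Helper26 Cfsg.Agent.Lib.Helper27.D5611 Cfsg.Agent.Lib.Helper27.D1552

/-- A sextet stabiliser has four orbits on the 1771 sextets, of sizes 1, 90, 240, 1440; and the stabiliser is a maximal proper subgroup. -/
theorem result (S : Finset (Finset Cfsg.GolayPt)) (hS : S ∈ Cfsg.sextets) : ∃ X₁ ∈ Cfsg.sextets, ∃ X₂ ∈ Cfsg.sextets, ∃ X₃ ∈ Cfsg.sextets, (MulAction.orbit ↥(MulAction.stabilizer Cfsg.M24 S) X₁).ncard = 90 ∧ (MulAction.orbit ↥(MulAction.stabilizer Cfsg.M24 S) X₂).ncard = 240 ∧ (MulAction.orbit ↥(MulAction.stabilizer Cfsg.M24 S) X₃).ncard = 1440 ∧ Cfsg.sextets = {S} ∪ MulAction.orbit ↥(MulAction.stabilizer Cfsg.M24 S) X₁ ∪ MulAction.orbit ↥(MulAction.stabilizer Cfsg.M24 S) X₂ ∪ MulAction.orbit ↥(MulAction.stabilizer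 Cfsg.M24 S) X₃ ∧ IsCoatom (MulAction.stabilizer Cfsg.M24 S) := by
  obtain ⟨g0, hg0, rfl⟩ := sextets_transitive _ hS
  have hX := baseX
  simp only [cwX, List.map_cons, List.map_nil, List.mem_cons, List.not_mem_nil, or_false,
    forall_eq_or_imp, forall_eq, exists_eq_or_imp, exists_eq_left] at hX
  obtain ⟨⟨⟨hE0, -⟩, ⟨-, hX1⟩, ⟨-, hX2⟩, ⟨-, hX3⟩⟩, hXU⟩ := hX
  have hsing : orbK (stabIn (decQ s0c)) (decQ cX0.rep) = {decQ s0c} := by
    rw [hE0, cX0_eq]
    ext y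
    simp
  refine ⟨g0 • decQ cX1.rep, ?_, g0 • decQ cX2.rep, ?_, g0 • decQ cX3.rep, ?_, ?_, ?_, ?_, ?_, ?_⟩
  · exact smul_mem_sextets hg0 ((hXU _).mpr (Or.inr (Or.inl (self_mem_orbK _ _))))
  · exact smul_mem_sextets hg0 ((hXU _).mpr (Or.inr (Or.inr (Or.inl (self_mem_orbK _ _)))))
  · exact smul_mem_sextets hg0 ((hXU _).mpr (Or.inr (Or.inr (Or.inr (self_mem_orbK _ _)))))
  · rw [orbit_stab_eq, orbK_stabIn_smul _ _ hg0, ncard_image_smul, hX1]; decide +kernel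
  · rw [orbit_stab_eq, orbK_stabIn_smul _ _ hg0, ncard_image_smul, hX2]; decide +kernel
  · rw [orbit_stab_eq, orbK_stabIn_smul _ _ hg0, ncard_image_smul, hX3]; decide +kernel
  · rw [orbit_stab_eq, orbit_stab_eq, orbit_stab_eq,
      orbK_stabIn_smul _ _ hg0, orbK_stabIn_smul _ _ hg0, orbK_stabIn_smul _ _ hg0]
    have hs : ({g0 • decQ s0c} : Set (Finset (Finset GolayPt))) =
        (fun y => g0 • y) '' orbK (stabIn (decQ s0c)) (decQ cX0.rep) := by
      rw [hsing, Set.image_singleton]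
    rw [hs, ← Set.image_union, ← Set.image_union, ← Set.image_union]
    ext y
    rw [← smul_mem_sextets_iff (M24.inv_mem hg0), hXU]
    simp only [Set.mem_image, Set.mem_union, or_assoc]
    constructor
    · intro h
      exact ⟨g0⁻¹ • y, h, smul_inv_smul g0 y⟩
    · rintro ⟨z, hz, rfl⟩
      rw [inv_smul_smul]; exact hz
  · exact isCoatom_stabilizer_smul (⟨g0, hg0⟩ : M24) (decQ s0c) base_coatom

end Cfsg.Agent.S1552
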