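import Mathlib
import Cfsg.Statements.S1554
import Cfsg.Agent.Lib.Helper95.OctadStab

set_option autoImplicit false
open scoped Pointwise
open Cfsg

namespace Cfsg.Agent.S1554

open Cfsg.Agent.Lib.Helper95

theorem mem_fix {o : Finset GolayPt} {g : Equiv.Perm GolayPt} :
    g ∈ fixingSubgroup (Equiv.Perm GolayPt) (o : Set GolayPt) ↔ ∀ x ∈ o, g x = x := by
  rw [mem_fixingSubgroup_iff]
  exact Iff.rfl

theorem le_stabO (o : Finset GolayPt) (p : GolayPt) :
    M24 ⊓ MulAction.stabilizer (Equiv.Perm GolayPt) o ⊓ MulAction.stabilizer (Equiv.Perm GolayPt) p ≤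
      stabO o := inf_le_left

/-- restriction of the joint stabiliser to the octad -/
def psi (o : Finset GolayPt) (p : GolayPt) :
    ↥(M24 ⊓ MulAction.stabilizer (Equiv.Perm GolayPt) o ⊓ MulAction.stabilizer (Equiv.Perm GolayPt) p) →*
      Equiv.Perm ↥o :=
  (restrictHom o).comp (Subgroup.inclusion (le_stabO o p))

/-- An octad stabiliser is a split extension: the joint stabiliser of the octad and a point outside it is a complement to the pointwise stabiliser of the octad, and is isomorphic to the alternating group of degree 8. -/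
theorem result (o : Finset Cfsg.GolayPt) (ho : o ∈ Cfsg.octads) (p : Cfsg.GolayPt) (hp : p ∉ o) : (Cfsg.M24 ⊓ fixingSubgroup (Equiv.Perm Cfsg.GolayPt) (o : Set Cfsg.GolayPt)) ⊓ (Cfsg.M24 ⊓ MulAction.stabilizer (Equiv.Perm Cfsg.GolayPt) o ⊓ MulAction.stabilizer (Equiv.Perm Cfsg.GolayPt) p) = ⊥ ∧ (Cfsg.M24 ⊓ fixingSubgroup (Equiv.Perm Cfsg.GolayPt) (o : Set Cfsg.GolayPt)) ⊔ (Cfsg.M24 ⊓ MulAction.stabilizer (Equiv.Perm Cfsg.GolayPt) o ⊓ MulAction.stabilizer (Equiv.Perm Cfsg.GolayPt) p) = (Cfsg.M24 ⊓ MulAction.stabilizer (Equiv.Perm Cfsg.GolayPt) o) ∧ Nonempty (↥(Cfsg.M24 ⊓ MulAction.stabilizer (Equiv.Perm Cfsg.GolayPt) o ⊓ MulAction.stabilizer (Equiv.Perm Cfsg.GolayPt) p) ≃* alternatingGroup (Fin 8)) := by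
  refine ⟨?_, ?_, ?_⟩
  · -- trivial intersection
    rw [eq_bot_iff]
    intro g hg
    rw [Subgroup.mem_inf, Subgroup.mem_inf, Subgroup.mem_inf, Subgroup.mem_inf] at hg
    obtain ⟨⟨hgM, hgfix⟩, ⟨⟨-, -⟩, hgp⟩⟩ := hg
    rw [Subgroup.mem_bot]
    exact octad_rigid ho hp hgM (mem_fix.mp hgfix) (MulAction.mem_stabilizer_iff.mp hgp)
  · -- product
    apply le_antisymm
    · apply sup_le
      · intro g hg
        rw [Subgroup.mem_inf] at hg
        exact mem_stabO.mpr ⟨hg.1, smul_eq_of_fixes (mem_fix.mp hg.2)⟩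
      · exact inf_le_left
    · intro g hg
      have hg' : g ∈ stabO o := hg
      obtain ⟨hgM, hgo⟩ := mem_stabO.mp hg'
      have hq : g p ∉ o := fun h => hp ((apply_mem_iff_of_smul_eq hgo p).mp h)
      obtain ⟨k, hk, hkfix, hkp⟩ := octad_trans ho hp hq
      have hkS : k • o = o := smul_eq_of_fixes hkfix
      have h1 : k ∈ M24 ⊓ fixingSubgroup (Equiv.Perm GolayPt) (o : Set GolayPt) :=
        Subgroup.mem_inf.mpr ⟨hk, mem_fix.mpr hkfix⟩
      have h2 : k⁻¹ * g ∈ M24 ⊓ MulAction.stabilizer (Equiv.Perm GolayPt) o ⊓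
          MulAction.stabilizer (Equiv.Perm GolayPt) p := by
        refine Subgroup.mem_inf.mpr ⟨Subgroup.mem_inf.mpr ⟨M24.mul_mem (M24.inv_mem hk) hgM, ?_⟩, ?_⟩
        · rw [MulAction.mem_stabilizer_iff, mul_smul, hgo, inv_smul_eq_iff, hkS]
        · rw [MulAction.mem_stabilizer_iff]
          show (k⁻¹ * g) p = p
          rw [Equiv.Perm.mul_apply, ← hkp, perm_inv_self]
      have h3 : g = k * (k⁻¹ * g) := by group
      rw [h3]
      exact Subgroup.mul_mem_sup h1 h2
  · -- the complement is A8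
    have hinj : Function.Injective (psi o p) := by
      rw [injective_iff_map_eq_one]
      intro g hg
      have hker : Subgroup.inclusion (le_stabO o p) g ∈ (restrictHom o).ker := hg
      rw [mem_ker_restrictHom] at hker
      have hgM : g.1 ∈ M24 := (Subgroup.mem_inf.mp (Subgroup.mem_inf.mp g.2).1).1
      have hgp : g.1 p = p := MulAction.mem_stabilizer_iff.mp (Subgroup.mem_inf.mp g.2).2
      apply Subtype.ext
      exact octad_rigid ho hp hgM hker hgp
    have hrange : (psi o p).range = alternatingGroup ↥o := by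
      rw [← range_restrictHom o ho]
      apply le_antisymm
      · rintro e ⟨g, rfl⟩
        exact ⟨Subgroup.inclusion (le_stabO o p) g, rfl⟩
      · rintro e ⟨g, rfl⟩
        obtain ⟨hgM, hgo⟩ := mem_stabO.mp g.2
        have hq : g.1 p ∉ o := fun h => hp ((apply_mem_iff_of_smul_eq hgo p).mp h)
        obtain ⟨k, hk, hkfix, hkp⟩ := octad_trans ho hp hq
        have hkS : k • o = o := smul_eq_of_fixes hkfix
        have h2 : k⁻¹ * g.1 ∈ M24 ⊓ MulAction.stabilizer (Equiv.Perm GolayPt) o ⊓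
            MulAction.stabilizer (Equiv.Perm GolayPt) p := by
          refine Subgroup.mem_inf.mpr ⟨Subgroup.mem_inf.mpr ⟨M24.mul_mem (M24.inv_mem hk) hgM, ?_⟩, ?_⟩
          · rw [MulAction.mem_stabilizer_iff, mul_smul, hgo, inv_smul_eq_iff, hkS]
          · rw [MulAction.mem_stabilizer_iff]
            show (k⁻¹ * g.1) p = p
            rw [Equiv.Perm.mul_apply, ← hkp, perm_inv_self]
        refine ⟨⟨k⁻¹ * g.1, h2⟩, ?_⟩
        apply Equiv.ext
        intro x
        apply Subtype.ext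
        show (k⁻¹ * g.1) x.1 = g.1 x.1
        rw [Equiv.Perm.mul_apply, Equiv.Perm.inv_eq_iff_eq]
        have hx : g.1 x.1 ∈ o := (apply_mem_iff_of_smul_eq hgo x.1).mpr x.2
        exact (hkfix _ hx).symm
    have hcard : Fintype.card ↥o = 8 := by rw [Fintype.card_coe]; exact ho.2
    exact ⟨((MonoidHom.ofInjective hinj).trans (MulEquiv.subgroupCongr hrange)).trans
      (Equiv.altCongrHom (Fintype.equivFinOfCardEq hcard))⟩

end Cfsg.Agent.S1554
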