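import Cfsg.Statements.S1555
import Cfsg.Agent.Lib.Helper26.Orbits
import Cfsg.Agent.Lib.Helper26.Count

set_option autoImplicit false
open Cfsg

namespace Cfsg.Agent.S1555

open Cfsg.Agent.Lib.Helper26
open scoped Pointwise

theorem base_check : (submasks 24 oct0).all (fun sm =>
    (pc 24 sm != 2 || (octL.filter (fun c => oct0 &&& c == sm)).length == 16) &&
    (pc 24 sm != 4 || (octL.filter (fun c => oct0 &&& c == sm)).length == 4)) = true := by
  decide +kernel

theorem set_eq (s : Finset GolayPt) :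
    {o' : Finset GolayPt | o' ∈ octads ∧ dec oct0 ∩ o' = s} =
      {o : Finset GolayPt | ∃ c ∈ octL, (oct0 &&& c == enc s) = true ∧ o = dec c} := by
  ext o'
  simp only [Set.mem_setOf_eq, beq_iff_eq]
  constructor
  · rintro ⟨ho', hint⟩
    obtain ⟨c, hc, rfl⟩ := (mem_octads_iff o').mp ho'
    refine ⟨c, hc, ?_, rfl⟩
    rw [← dec_land] at hint
    have hlt : oct0 &&& c < 2 ^ 24 := Nat.and_lt_two_pow _ (octL_lt hc)
    exact dec_injOn hlt (enc_lt s) (by rw [hint, dec_enc])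
  · rintro ⟨c, hc, hland, rfl⟩
    refine ⟨(mem_octads_iff _).mpr ⟨c, hc, rfl⟩, ?_⟩
    rw [← dec_land, hland, dec_enc]

theorem base (s : Finset GolayPt) (hs : s ⊆ dec oct0) :
    (s.card = 2 → {o' : Finset GolayPt | o' ∈ octads ∧ dec oct0 ∩ o' = s}.ncard = 16) ∧
    (s.card = 4 → {o' : Finset GolayPt | o' ∈ octads ∧ dec oct0 ∩ o' = s}.ncard = 4) := by
  rw [set_eq, ncard_dec_filter octL octL_nodup (fun c hc => octL_lt hc)]
  have h := List.all_eq_true.mp base_check (enc s) (enc_mem_submasks hs)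
  simp only [Bool.and_eq_true, Bool.or_eq_true, bne_iff_ne, ne_eq, beq_iff_eq] at h
  rw [card_eq_pc_enc]
  constructor
  · intro h2
    rcases h.1 with h' | h'
    · exact absurd h2 h'
    · exact h'
  · intro h4
    rcases h.2 with h' | h'
    · exact absurd h4 h'
    · exact h'

theorem transport (g : Equiv.Perm GolayPt) (hg : g ∈ M24) (o₀ s : Finset GolayPt) :
    {o' : Finset GolayPt | o' ∈ octads ∧ g • o₀ ∩ o' = s}.ncard =
      {o'' : Finset GolayPt | o'' ∈ octads ∧ o₀ ∩ o'' = g⁻¹ • s}.ncard := by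
  have h : {o' : Finset GolayPt | o' ∈ octads ∧ g • o₀ ∩ o' = s} =
      (fun x => g • x) '' {o'' : Finset GolayPt | o'' ∈ octads ∧ o₀ ∩ o'' = g⁻¹ • s} := by
    ext o'
    simp only [Set.mem_setOf_eq, Set.mem_image]
    constructor
    · rintro ⟨ho', hint⟩
      refine ⟨g⁻¹ • o', ⟨(smul_mem_octads_iff (M24.inv_mem hg) o').mpr ho', ?_⟩, smul_inv_smul g o'⟩
      rw [← hint, Finset.smul_finset_inter, inv_smul_smul]
    · rintro ⟨o'', ⟨ho'', hint⟩, rfl⟩
      refine ⟨(smul_mem_octads_iff hg o'').mpr ho'', ?_⟩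
      rw [← Finset.smul_finset_inter, hint, smul_inv_smul]
  rw [h, Set.InjOn.ncard_image]
  exact (MulAction.injective g).injOn

theorem result (o : Finset Cfsg.GolayPt) (ho : o ∈ Cfsg.octads) (s : Finset Cfsg.GolayPt) (hs : s ⊆ o) : (s.card = 2 → {o' : Finset Cfsg.GolayPt | o' ∈ Cfsg.octads ∧ o ∩ o' = s}.ncard = 16) ∧ (s.card = 4 → {o' : Finset Cfsg.GolayPt | o' ∈ Cfsg.octads ∧ o ∩ o' = s}.ncard = 4) := by
  obtain ⟨g, hg, rfl⟩ := octads_transitive o ho
  rw [transport g hg]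
  have hs' : g⁻¹ • s ⊆ dec oct0 := by
    have := Finset.smul_finset_subset_smul_finset (a := g⁻¹) hs
    rwa [inv_smul_smul] at this
  have := base (g⁻¹ • s) hs'
  rwa [Finset.card_smul_finset] at this

end Cfsg.Agent.S1555
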