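import Cfsg.Statements.S1556
import Cfsg.Agent.Lib.Helper26.StabOrbits
import Cfsg.Agent.Lib.Helper26.OctStabData

set_option autoImplicit false
open Cfsg

namespace Cfsg.Agent.S1556

open Cfsg.Agent.Lib.Helper26
open scoped Pointwise

theorem gens_check : octStabGens.all (fun d => d.inM24 && d.stabilises oct0) = true := by
  decide +kernel

theorem paths_check : checkPathsFrom octStabGens (fun c => octStabReps.getD (pc 24 (oct0 &&& c)) 0)
    octL octStabWords = true := by
  decide +kernel

/-- Two octads meeting a fixed octad in equally many points are in the same orbit of its stabiliser. -/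
theorem result (o o' o'' : Finset Cfsg.GolayPt) (ho : o ∈ Cfsg.octads) (ho' : o' ∈ Cfsg.octads) (ho'' : o'' ∈ Cfsg.octads) (h : (o ∩ o').card = (o ∩ o'').card) : ∃ g : Equiv.Perm Cfsg.GolayPt, g ∈ Cfsg.M24 ∧ g • o = o ∧ g • o' = o'' := by
  obtain ⟨g, hg, h1, h2⟩ := stab_orbits octads (fun g hg b => smul_mem_octads_iff hg b) octL
    mem_octads_iff oct0 octads_transitive octStabGens gens_check octStabReps octStabWords
    paths_check o o' o'' ho ho' ho'' h
  exact ⟨g, hg, h1, h2⟩

end Cfsg.Agent.S1556
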