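import Cfsg.Statements.S1557
import Cfsg.Agent.Lib.Helper26.OctadMeet

set_option autoImplicit false
open Cfsg

namespace Cfsg.Agent.S1557

open Cfsg.Agent.Lib.Helper26
open scoped Pointwise

theorem card_golayPt : Fintype.card GolayPt = 24 := by decide

theorem third_octad (o o' : Finset GolayPt) (ho : o ∈ octads) (ho' : o' ∈ octads)
    (hd : Disjoint o o') : (o ∪ o')ᶜ ∈ octads := by
  refine ⟨?_, ?_⟩
  · have : o ∪ o' = symmDiff o o' := (Disjoint.symmDiff_eq_sup hd).symm
    rw [this]
    exact supports_compl (supports_symmDiff ho.1 ho'.1)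
  · rw [Finset.card_compl, Finset.card_union_of_disjoint hd, ho.2, ho'.2, card_golayPt]

theorem disjoint_count (x : Finset GolayPt) (hx : x ∈ octads) :
    (octadsF.filter (fun y => Disjoint x y)).card = 30 := by
  have h : {o' : Finset GolayPt | o' ∈ octads ∧ x ∩ o' = ∅}.ncard = 30 := by
    rw [octad_meet_count x hx ∅ (Finset.empty_subset x), Finset.card_empty]
    rfl
  rw [← Set.ncard_coe_finset, ← h]
  congr 1
  ext y
  simp only [Finset.coe_filter, Set.mem_setOf_eq, mem_octadsF, Finset.disjoint_iff_inter_eq_empty]

theorem eq_compl_of_disjoint {x y z : Finset GolayPt} (hx : x ∈ octads) (hy : y ∈ octads)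
    (hz : z ∈ octads) (hxy : Disjoint x y) (hxz : Disjoint x z) (hyz : Disjoint y z) :
    z = (x ∪ y)ᶜ := by
  apply Finset.eq_of_subset_of_card_le
  · intro p hp
    rw [Finset.mem_compl, Finset.mem_union]
    rintro (h | h)
    · exact (Finset.disjoint_left.mp hxz h) hp
    · exact (Finset.disjoint_left.mp hyz h) hp
  · rw [Finset.card_compl, Finset.card_union_of_disjoint hxy, hx.2, hy.2, hz.2, card_golayPt]

theorem result : (∀ o o' : Finset Cfsg.GolayPt, o ∈ Cfsg.octads → o' ∈ Cfsg.octads → Disjoint o o' → (o ∪ o')ᶜ ∈ Cfsg.octads) ∧ Cfsg.trios.ncard = 3795 := by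
  classical
  refine ⟨third_octad, ?_⟩
  let triosF : Finset (Finset (Finset GolayPt)) := Finset.univ.filter (· ∈ trios)
  have hmemT : ∀ T, T ∈ triosF ↔ T ∈ trios := fun T => by simp [triosF]
  have hcoe : (triosF : Set (Finset (Finset GolayPt))) = trios := by
    ext T
    simp [triosF]
  rw [← hcoe, Set.ncard_coe_finset]
  let D : Finset (Finset GolayPt × Finset GolayPt) :=
    (octadsF ×ˢ octadsF).filter (fun p => Disjoint p.1 p.2)
  -- count D directly
  have hD : D.card = 759 * 30 := by
    rw [Finset.card_filter, Finset.sum_product]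
    have : ∀ x ∈ octadsF, (∑ y ∈ octadsF, if Disjoint (x, y).1 (x, y).2 then 1 else 0) = 30 := by
      intro x hx
      rw [← Finset.card_filter]
      exact disjoint_count x (mem_octadsF.mp hx)
    rw [Finset.sum_congr rfl this, Finset.sum_const, card_octadsF, smul_eq_mul]
  -- D as a disjoint union of the off-diagonals of the trios
  have hDU : D = triosF.biUnion Finset.offDiag := by
    ext ⟨x, y⟩
    simp only [D, Finset.mem_filter, Finset.mem_product, mem_octadsF, Finset.mem_biUnion,
      Finset.mem_offDiag, hmemT]
    constructor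
    · rintro ⟨⟨hx, hy⟩, hxy⟩
      have hz := third_octad x y hx hy hxy
      have hxne : x ≠ y := by
        rintro rfl
        have : x = ∅ := disjoint_self.mp hxy
        have h8 := hx.2
        rw [this] at h8
        simp at h8
      have hxz : Disjoint x (x ∪ y)ᶜ := by
        rw [Finset.disjoint_left]
        intro p hp hq
        exact (Finset.mem_compl.mp hq) (Finset.mem_union_left _ hp)
      have hyz : Disjoint y (x ∪ y)ᶜ := by
        rw [Finset.disjoint_left]
        intro p hp hq
        exact (Finset.mem_compl.mp hq) (Finset.mem_union_right _ hp)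
      have hne_of_disj : ∀ a b : Finset GolayPt, a ∈ octads → Disjoint a b → a ≠ b := by
        rintro a b ha hab rfl
        have : a = ∅ := disjoint_self.mp hab
        have h8 := ha.2
        rw [this] at h8
        simp at h8
      refine ⟨{x, y, (x ∪ y)ᶜ}, ⟨?_, ?_, ?_⟩, by simp, by simp, hxne⟩
      · rw [Finset.card_insert_of_notMem, Finset.card_insert_of_notMem, Finset.card_singleton]
        · simpa using hne_of_disj y _ hy hyz
        · simp only [Finset.mem_insert, Finset.mem_singleton, not_or]
          exact ⟨hxne, hne_of_disj x _ hx hxz⟩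
      · intro o ho
        simp only [Finset.mem_insert, Finset.mem_singleton] at ho
        rcases ho with rfl | rfl | rfl
        · exact hx
        · exact hy
        · exact hz
      · intro a ha b hb hab
        simp only [Finset.mem_insert, Finset.mem_singleton] at ha hb
        rcases ha with rfl | rfl | rfl <;> rcases hb with rfl | rfl | rfl
        · exact absurd rfl hab
        · exact hxy
        · exact hxz
        · exact hxy.symm
        · exact absurd rfl hab
        · exact hyz
        · exact hxz.symm
        · exact hyz.symm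
        · exact absurd rfl hab
    · rintro ⟨T, hT, hxT, hyT, hxy⟩
      exact ⟨⟨hT.2.1 x hxT, hT.2.1 y hyT⟩, hT.2.2 x hxT y hyT hxy⟩
  have hdisj : ∀ T ∈ triosF, ∀ T' ∈ triosF, T ≠ T' → Disjoint T.offDiag T'.offDiag := by
    intro T hT T' hT' hne
    rw [hmemT] at hT hT'
    rw [Finset.disjoint_left]
    rintro ⟨x, y⟩ h1 h2
    simp only [Finset.mem_offDiag] at h1 h2
    apply hne
    -- both trios are {x, y, (x ∪ y)ᶜ}
    have key : ∀ T : Finset (Finset GolayPt), T ∈ trios → x ∈ T → y ∈ T → x ≠ y →
        T = {x, y, (x ∪ y)ᶜ} := by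
      intro T hT hxT hyT hxy
      have hlt : ({x, y} : Finset (Finset GolayPt)).card < T.card := by
        rw [hT.1, Finset.card_pair hxy]
        norm_num
      obtain ⟨w, hwT, hw⟩ := Finset.exists_mem_notMem_of_card_lt_card hlt
      simp only [Finset.mem_insert, Finset.mem_singleton, not_or] at hw
      have hwx : x ≠ w := fun h => hw.1 h.symm
      have hwy : y ≠ w := fun h => hw.2 h.symm
      have hweq : w = (x ∪ y)ᶜ :=
        eq_compl_of_disjoint (hT.2.1 x hxT) (hT.2.1 y hyT) (hT.2.1 w hwT) (hT.2.2 x hxT y hyT hxy)
          (hT.2.2 x hxT w hwT hwx) (hT.2.2 y hyT w hwT hwy)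
      rw [← hweq]
      symm
      apply Finset.eq_of_subset_of_card_le
      · intro o ho
        simp only [Finset.mem_insert, Finset.mem_singleton] at ho
        rcases ho with rfl | rfl | rfl
        · exact hxT
        · exact hyT
        · exact hwT
      · rw [hT.1, Finset.card_insert_of_notMem, Finset.card_insert_of_notMem, Finset.card_singleton]
        · simpa using hwy
        · simp only [Finset.mem_insert, Finset.mem_singleton, not_or]
          exact ⟨hxy, hwx⟩
    rw [key T hT h1.1 h1.2.1 h1.2.2, key T' hT' h2.1 h2.2.1 h2.2.2]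
  have hcard6 : ∀ T ∈ triosF, T.offDiag.card = 6 := by
    intro T hT
    rw [hmemT] at hT
    rw [Finset.offDiag_card, hT.1]
  have hsum : D.card = 6 * triosF.card := by
    rw [hDU, Finset.card_biUnion hdisj, Finset.sum_congr rfl hcard6, Finset.sum_const,
      smul_eq_mul, mul_comm]
  omega

end Cfsg.Agent.S1557
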