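import Cfsg.Statements.S1559
import Cfsg.Agent.Lib.Helper27.D1559

set_option autoImplicit false
open scoped Pointwise
open Cfsg

namespace Cfsg.Agent.S1559

open Cfsg.Agent.Lib.Helper27 Cfsg.Agent.Lib.Helper26 Cfsg.Agent.Lib.Helper27.D5612 Cfsg.Agent.Lib.Helper27.D1559

/-- A trio stabiliser has five orbits on the 3795 trios, of sizes 1, 42, 56, 1008, 2688; and the stabiliser is a maximal proper subgroup. -/
theorem result (T : Finset (Finset Cfsg.GolayPt)) (hT : T ∈ Cfsg.trios) : ∃ X₁ ∈ Cfsg.trios, ∃ X₂ ∈ Cfsg.trios, ∃ X₃ ∈ Cfsg.trios, ∃ X₄ ∈ Cfsg.trios, (MulAction.orbit ↥(MulAction.stabilizer Cfsg.M24 T) X₁).ncard = 42 ∧ (MulAction.orbit ↥(MulAction.stabilizer Cfsg.M24 T) X₂).ncard = 56 ∧ (MulAction.orbit ↥(MulAction.stabilizer Cfsg.M24 T) X₃).ncard = 1008 ∧ (MulAction.orbit ↥(MulAction.stabilizer Cfsg.M24 T) X₄).ncard = 2688 ∧ Cfsg.trios = {T} ∪ MulAction.orbit ↥(MulAction.stabilizer Cfsg.M24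 T) X₁ ∪ MulAction.orbit ↥(MulAction.stabilizer Cfsg.M24 T) X₂ ∪ MulAction.orbit ↥(MulAction.stabilizer Cfsg.M24 T) X₃ ∪ MulAction.orbit ↥(MulAction.stabilizer Cfsg.M24 T) X₄ ∧ IsCoatom (MulAction.stabilizer Cfsg.M24 T) := by
  obtain ⟨g0, hg0, rfl⟩ := trios_transitive _ hT
  have hX := baseX
  simp only [cwX, List.map_cons, List.map_nil, List.mem_cons, List.not_mem_nil, or_false,
    forall_eq_or_imp, forall_eq, exists_eq_or_imp, exists_eq_left] at hX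
  obtain ⟨⟨⟨hE0, -⟩, ⟨-, hX1⟩, ⟨-, hX2⟩, ⟨-, hX3⟩, ⟨-, hX4⟩⟩, hXU⟩ := hX
  have hsing : orbK (stabIn (decQ t0c)) (decQ cX0.rep) = {decQ t0c} := by
    rw [hE0, cX0_eq]
    ext y
    simp
  refine ⟨g0 • decQ cX1.rep, ?_, g0 • decQ cX2.rep, ?_, g0 • decQ cX3.rep, ?_, g0 • decQ cX4.rep, ?_, ?_, ?_, ?_, ?_, ?_, ?_⟩
  · exact smul_mem_trios hg0 ((hXU _).mpr (Or.inr (Or.inl (self_mem_orbK _ _))))
  · exact smul_mem_trios hg0 ((hXU _).mpr (Or.inr (Or.inr (Or.inl (self_mem_orbK _ _)))))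
  · exact smul_mem_trios hg0 ((hXU _).mpr (Or.inr (Or.inr (Or.inr (Or.inl (self_mem_orbK _ _))))))
  · exact smul_mem_trios hg0 ((hXU _).mpr (Or.inr (Or.inr (Or.inr (Or.inr (self_mem_orbK _ _))))))
  · rw [orbit_stab_eq, orbK_stabIn_smul _ _ hg0, ncard_image_smul, hX1]; decide +kernel
  · rw [orbit_stab_eq, orbK_stabIn_smul _ _ hg0, ncard_image_smul, hX2]; decide +kernel
  · rw [orbit_stab_eq, orbK_stabIn_smul _ _ hg0, ncard_image_smul, hX3]; decide +kernel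
  · rw [orbit_stab_eq, orbK_stabIn_smul _ _ hg0, ncard_image_smul, hX4]; decide +kernel
  · rw [orbit_stab_eq, orbit_stab_eq, orbit_stab_eq, orbit_stab_eq,
      orbK_stabIn_smul _ _ hg0, orbK_stabIn_smul _ _ hg0, orbK_stabIn_smul _ _ hg0, orbK_stabIn_smul _ _ hg0]
    have hs : ({g0 • decQ t0c} : Set (Finset (Finset GolayPt))) =
        (fun y => g0 • y) '' orbK (stabIn (decQ t0c)) (decQ cX0.rep) := by
      rw [hsing, Set.image_singleton]
    rw [hs, ← Set.image_union, ← Set.image_union, ← Set.image_union, ← Set.image_union]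
    ext y
    rw [← smul_mem_trios_iff (M24.inv_mem hg0), hXU]
    simp only [Set.mem_image, Set.mem_union, or_assoc]
    constructor
    · intro h
      exact ⟨g0⁻¹ • y, h, smul_inv_smul g0 y⟩
    · rintro ⟨z, hz, rfl⟩
      rw [inv_smul_smul]; exact hz
  · exact isCoatom_stabilizer_smul (⟨g0, hg0⟩ : M24) (decQ t0c) base_coatom

end Cfsg.Agent.S1559
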