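import Cfsg.Statements.S1560
import Cfsg.Agent.Lib.Helper26.Orbits
import Cfsg.Agent.Lib.Helper26.Count

set_option autoImplicit false
open Cfsg

namespace Cfsg.Agent.S1560

open Cfsg.Agent.Lib.Helper26
open scoped Pointwise

theorem base_check1 : dodL.all (fun c => c == dod0 || pc 24 (dod0 &&& c) == 0 ||
    pc 24 (dod0 &&& c) == 4 || pc 24 (dod0 &&& c) == 6 || pc 24 (dod0 &&& c) == 8) = true := by
  decide +kernel

theorem base_check2 : (dodL.filter (fun c => pc 24 (dod0 &&& c) == 4)).length = 495 ∧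
    (dodL.filter (fun c => pc 24 (dod0 &&& c) == 6)).length = 1584 ∧
    (dodL.filter (fun c => pc 24 (dod0 &&& c) == 8)).length = 495 := by
  decide +kernel

theorem set_eq (n : ℕ) :
    {d' : Finset GolayPt | d' ∈ dodecads ∧ (dec dod0 ∩ d').card = n} =
      {o : Finset GolayPt | ∃ c ∈ dodL, (pc 24 (dod0 &&& c) == n) = true ∧ o = dec c} := by
  ext o'
  simp only [Set.mem_setOf_eq, beq_iff_eq]
  constructor
  · rintro ⟨ho', hint⟩
    obtain ⟨c, hc, rfl⟩ := (mem_dodecads_iff o').mp ho'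
    refine ⟨c, hc, ?_, rfl⟩
    rw [← dec_land, card_dec] at hint
    exact hint
  · rintro ⟨c, hc, hland, rfl⟩
    refine ⟨(mem_dodecads_iff _).mpr ⟨c, hc, rfl⟩, ?_⟩
    rw [← dec_land, card_dec, hland]

theorem base_count (n : ℕ) :
    {d' : Finset GolayPt | d' ∈ dodecads ∧ (dec dod0 ∩ d').card = n}.ncard =
      (dodL.filter (fun c => pc 24 (dod0 &&& c) == n)).length := by
  rw [set_eq, ncard_dec_filter dodL dodL_nodup (fun c hc => dodL_lt hc)]

theorem transport (g : Equiv.Perm GolayPt) (hg : g ∈ M24) (d₀ : Finset GolayPt) (n : ℕ) :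
    {d' : Finset GolayPt | d' ∈ dodecads ∧ (g • d₀ ∩ d').card = n}.ncard =
      {d'' : Finset GolayPt | d'' ∈ dodecads ∧ (d₀ ∩ d'').card = n}.ncard := by
  have h : {d' : Finset GolayPt | d' ∈ dodecads ∧ (g • d₀ ∩ d').card = n} =
      (fun x => g • x) '' {d'' : Finset GolayPt | d'' ∈ dodecads ∧ (d₀ ∩ d'').card = n} := by
    ext o'
    simp only [Set.mem_setOf_eq, Set.mem_image]
    constructor
    · rintro ⟨ho', hint⟩
      refine ⟨g⁻¹ • o', ⟨(smul_mem_dodecads_iff (M24.inv_mem hg) o').mpr ho', ?_⟩, smul_inv_smul g o'⟩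
      rw [← hint, ← Finset.card_smul_finset g⁻¹ (g • d₀ ∩ o'), Finset.smul_finset_inter,
        inv_smul_smul]
    · rintro ⟨o'', ⟨ho'', hint⟩, rfl⟩
      refine ⟨(smul_mem_dodecads_iff hg o'').mpr ho'', ?_⟩
      rw [← Finset.smul_finset_inter, Finset.card_smul_finset, hint]
  rw [h, Set.InjOn.ncard_image]
  exact (MulAction.injective g).injOn

theorem result (d : Finset Cfsg.GolayPt) (hd : d ∈ Cfsg.dodecads) : (∀ d' ∈ Cfsg.dodecads, d' ≠ d → (d ∩ d').card = 0 ∨ (d ∩ d').card = 4 ∨ (d ∩ d').card = 6 ∨ (d ∩ d').card = 8) ∧ {d' : Finset Cfsg.GolayPt | d' ∈ Cfsg.dodecads ∧ (d ∩ d').card = 4}.ncard = 495 ∧ {d' : Finset Cfsg.GolayPt | d' ∈ Cfsg.dodecads ∧ (d ∩ d').card = 6}.ncard = 1584 ∧ {d' : Finset Cfsg.GolayPt | d' ∈ Cfsg.dodecads ∧ (d ∩ d').card = 8}.ncard = 495 := by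
  obtain ⟨g, hg, rfl⟩ := dodecads_transitive d hd
  refine ⟨?_, ?_, ?_, ?_⟩
  · intro d' hd' hne
    have hd'' : g⁻¹ • d' ∈ dodecads := (smul_mem_dodecads_iff (M24.inv_mem hg) d').mpr hd'
    obtain ⟨c, hc, hceq⟩ := (mem_dodecads_iff _).mp hd''
    have hcard : (g • dec dod0 ∩ d').card = pc 24 (dod0 &&& c) := by
      rw [← card_dec, dec_land, ← hceq, ← Finset.card_smul_finset g⁻¹ (g • dec dod0 ∩ d'),
        Finset.smul_finset_inter, inv_smul_smul]
    have hcne : c ≠ dod0 := by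
      rintro rfl
      apply hne
      rw [← hceq, smul_inv_smul]
    have h := List.all_eq_true.mp base_check1 c hc
    simp only [Bool.or_eq_true, beq_iff_eq] at h
    rw [hcard]
    rcases h with (((h | h) | h) | h) | h
    · exact absurd h hcne
    · exact Or.inl h
    · exact Or.inr (Or.inl h)
    · exact Or.inr (Or.inr (Or.inl h))
    · exact Or.inr (Or.inr (Or.inr h))
  · rw [transport g hg, base_count]
    exact base_check2.1
  · rw [transport g hg, base_count]
    exact base_check2.2.1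
  · rw [transport g hg, base_count]
    exact base_check2.2.2

end Cfsg.Agent.S1560
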