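import Cfsg.Statements.S1561
import Cfsg.Agent.Lib.Helper26.StabOrbits
import Cfsg.Agent.Lib.Helper26.DodStabData

set_option autoImplicit false
open Cfsg

namespace Cfsg.Agent.S1561

open Cfsg.Agent.Lib.Helper26
open scoped Pointwise

theorem gens_check : dodStabGens.all (fun d => d.inM24 && d.stabilises dod0) = true := by
  decide +kernel

theorem paths_check : checkPathsFrom dodStabGens (fun c => dodStabReps.getD (pc 24 (dod0 &&& c)) 0)
    dodL dodStabWords = true := by
  decide +kernel

/-- Two dodecads meeting a fixed dodecad in equally many points lie in one orbit of its stabiliser. -/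
theorem result (d d' d'' : Finset Cfsg.GolayPt) (hd : d ∈ Cfsg.dodecads) (hd' : d' ∈ Cfsg.dodecads) (hd'' : d'' ∈ Cfsg.dodecads) (h : (d ∩ d').card = (d ∩ d'').card) : ∃ g : Equiv.Perm Cfsg.GolayPt, g ∈ Cfsg.M24 ∧ g • d = d ∧ g • d' = d'' := by
  obtain ⟨g, hg, h1, h2⟩ := stab_orbits dodecads (fun g hg b => smul_mem_dodecads_iff hg b) dodL
    mem_dodecads_iff dod0 dodecads_transitive dodStabGens gens_check dodStabReps dodStabWords
    paths_check d d' d'' hd hd' hd'' h
  exact ⟨g, hg, h1, h2⟩

end Cfsg.Agent.S1561
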