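import Cfsg.Statements.S1562
import Cfsg.Agent.Lib.Helper26.StabOrbits
import Cfsg.Agent.Lib.Helper26.TriadData
import Cfsg.Agent.Lib.Helper26.Trans5
import Cfsg.Agent.Lib.Helper26.Count

set_option autoImplicit false
open Cfsg

namespace Cfsg.Agent.S1562

open Cfsg.Agent.Lib.Helper26
open scoped Pointwise

/-- the standard triad `{∞, 0, 1}`. -/
abbrev t0 : ℕ := 8388611

theorem t0_eq : dec t0 = ([1, 0, 23].map pt).toFinset := by
  have : t0 = 2 ^ 1 ||| 2 ^ 0 ||| 2 ^ 23 := by decide
  rw [this, dec_lor, dec_lor, dec_two_pow 1 (by norm_num),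
    dec_two_pow 0 (by norm_num), dec_two_pow 23 (by norm_num)]
  ext p
  simp only [Finset.mem_union, Finset.mem_singleton, List.map_cons, List.map_nil,
    List.toFinset_cons, List.toFinset_nil, Finset.mem_insert]
  tauto

/-- the triad `u` lies with the standard triad in a common octad. -/
def inOct (u : ℕ) : Bool := oct21.any (fun c => c &&& u == u)

theorem oct21_eq : oct21 = octL.filter (fun c => c &&& t0 == t0) := by decide +kernel

/-- the common-octad relation. -/
def Q (T U : Finset GolayPt) : Prop := ∃ o ∈ octads, T ∪ U ⊆ o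

theorem inOct_iff (u : ℕ) (hu : u < 2 ^ 24) : Q (dec t0) (dec u) ↔ inOct u = true := by
  simp only [Q, inOct, List.any_eq_true, beq_iff_eq]
  constructor
  · rintro ⟨o, ho, hsub⟩
    obtain ⟨c, hc, rfl⟩ := (mem_octads_iff o).mp ho
    refine ⟨c, ?_, ?_⟩
    · rw [oct21_eq, List.mem_filter, beq_iff_eq]
      exact ⟨hc, (dec_subset_iff (by norm_num)).mp (Finset.union_subset_left hsub)⟩
    · exact (dec_subset_iff hu).mp (Finset.union_subset_right hsub)
  · rintro ⟨c, hc, hcu⟩
    rw [oct21_eq, List.mem_filter, beq_iff_eq] at hc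
    refine ⟨dec c, (mem_octads_iff _).mpr ⟨c, hc.1, rfl⟩, Finset.union_subset ?_ ?_⟩
    · exact (dec_subset_iff (by norm_num)).mpr hc.2
    · exact (dec_subset_iff hu).mpr hcu

/-- the start of the path to `u`. -/
def startOf (u : ℕ) : ℕ := bif inOct u then triRepIn else triRepOut

theorem gens_check : triStabGens.all (fun d => d.inM24 && d.stabilises t0) = true := by
  decide +kernel

theorem paths_check : checkPathsFrom triStabGens startOf triL triWords = true := by
  decide +kernel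

theorem triL_eq : triL = (chooseL 24 3).filter (fun u => u &&& t0 == 0) := by decide +kernel

theorem count_check : (triL.filter inOct).length = 210 ∧
    (triL.filter (fun u => !inOct u)).length = 1120 := by decide +kernel

theorem triL_nodup : triL.Nodup := by
  rw [triL_eq]
  exact (chooseL_nodup 24 3).filter _

theorem triL_lt {u : ℕ} (h : u ∈ triL) : u < 2 ^ 24 := by
  rw [triL_eq, List.mem_filter] at h
  exact chooseL_lt 24 3 u h.1

theorem mem_triL_iff (U : Finset GolayPt) :
    (U.card = 3 ∧ Disjoint (dec t0) U) ↔ ∃ u ∈ triL, U = dec u := by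
  constructor
  · rintro ⟨h3, hd⟩
    obtain ⟨u, hu, rfl⟩ := exists_mem_chooseL U
    rw [h3] at hu
    refine ⟨u, ?_, rfl⟩
    rw [triL_eq, List.mem_filter, beq_iff_eq]
    exact ⟨hu, (dec_disjoint_iff (chooseL_lt 24 3 u hu)).mp hd.symm⟩
  · rintro ⟨u, hu, rfl⟩
    have hu' := hu
    rw [triL_eq, List.mem_filter, beq_iff_eq] at hu'
    refine ⟨?_, ((dec_disjoint_iff (chooseL_lt 24 3 u hu'.1)).mpr hu'.2).symm⟩
    rw [card_dec]
    exact chooseL_pc 24 3 u hu'.1

theorem base_count_in :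
    {U : Finset GolayPt | U.card = 3 ∧ Disjoint (dec t0) U ∧ Q (dec t0) U}.ncard = 210 := by
  have h : {U : Finset GolayPt | U.card = 3 ∧ Disjoint (dec t0) U ∧ Q (dec t0) U} =
      {o : Finset GolayPt | ∃ u ∈ triL, inOct u = true ∧ o = dec u} := by
    ext U
    simp only [Set.mem_setOf_eq]
    constructor
    · rintro ⟨h3, hd, hq⟩
      obtain ⟨u, hu, rfl⟩ := (mem_triL_iff U).mp ⟨h3, hd⟩
      exact ⟨u, hu, (inOct_iff u (triL_lt hu)).mp hq, rfl⟩
    · rintro ⟨u, hu, hin, rfl⟩
      obtain ⟨h3, hd⟩ := (mem_triL_iff (dec u)).mpr ⟨u, hu, rfl⟩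
      exact ⟨h3, hd, (inOct_iff u (triL_lt hu)).mpr hin⟩
  rw [h, ncard_dec_filter triL triL_nodup (fun c hc => triL_lt hc)]
  exact count_check.1

theorem base_count_out :
    {U : Finset GolayPt | U.card = 3 ∧ Disjoint (dec t0) U ∧ ¬ Q (dec t0) U}.ncard = 1120 := by
  have h : {U : Finset GolayPt | U.card = 3 ∧ Disjoint (dec t0) U ∧ ¬ Q (dec t0) U} =
      {o : Finset GolayPt | ∃ u ∈ triL, (!inOct u) = true ∧ o = dec u} := by
    ext U
    simp only [Set.mem_setOf_eq, Bool.not_eq_true']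
    constructor
    · rintro ⟨h3, hd, hq⟩
      obtain ⟨u, hu, rfl⟩ := (mem_triL_iff U).mp ⟨h3, hd⟩
      refine ⟨u, hu, ?_, rfl⟩
      rw [inOct_iff u (triL_lt hu)] at hq
      simpa using hq
    · rintro ⟨u, hu, hin, rfl⟩
      obtain ⟨h3, hd⟩ := (mem_triL_iff (dec u)).mpr ⟨u, hu, rfl⟩
      refine ⟨h3, hd, ?_⟩
      rw [inOct_iff u (triL_lt hu), hin]
      simp
  rw [h, ncard_dec_filter triL triL_nodup (fun c hc => triL_lt hc)]
  exact count_check.2

theorem base_trans (U U' : Finset GolayPt) (h3 : U.card = 3) (h3' : U'.card = 3)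
    (hd : Disjoint (dec t0) U) (hd' : Disjoint (dec t0) U')
    (hq : Q (dec t0) U ↔ Q (dec t0) U') :
    ∃ g ∈ M24, g • dec t0 = dec t0 ∧ g • U = U' := by
  obtain ⟨u, hu, rfl⟩ := (mem_triL_iff U).mp ⟨h3, hd⟩
  obtain ⟨u', hu', rfl⟩ := (mem_triL_iff U').mp ⟨h3', hd'⟩
  rw [inOct_iff u (triL_lt hu), inOct_iff u' (triL_lt hu')] at hq
  have hstart : startOf u = startOf u' := by
    unfold startOf
    cases h1 : inOct u <;> cases h2 : inOct u' <;> simp_all
  have hok : ∀ d ∈ triStabGens, d.ok = true := fun d hd => by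
    have := List.all_eq_true.mp gens_check d hd
    simp only [Bool.and_eq_true] at this
    exact PermData.ok_of_inM24 this.1
  have hK : ∀ d ∈ triStabGens, d.toPerm ∈ stabK t0 := fun d hd => by
    have := List.all_eq_true.mp gens_check d hd
    simp only [Bool.and_eq_true] at this
    exact PermData.toPerm_mem_stabK this.1 this.2
  have horb := orbit_cert_from triStabGens hok (stabK t0) hK startOf triL triWords paths_check
  obtain ⟨g, hg, hgs⟩ := horb u hu
  obtain ⟨g', hg', hgs'⟩ := horb u' hu'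
  refine ⟨g' * g⁻¹, M24.mul_mem hg'.1 (M24.inv_mem hg.1), ?_, ?_⟩
  · rw [mul_smul]
    have : g⁻¹ • dec t0 = dec t0 := by rw [inv_smul_eq_iff, hg.2]
    rw [this, hg'.2]
  · rw [mul_smul]
    have : g⁻¹ • dec u = dec (startOf u) := by rw [inv_smul_eq_iff, hgs]
    rw [this, hstart, hgs']

theorem Q_smul (h : Equiv.Perm GolayPt) (hh : h ∈ M24) (T U : Finset GolayPt) :
    Q (h • T) (h • U) ↔ Q T U := by
  constructor
  · rintro ⟨o, ho, hsub⟩
    refine ⟨h⁻¹ • o, (smul_mem_octads_iff (M24.inv_mem hh) o).mpr ho, ?_⟩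
    have := Finset.smul_finset_subset_smul_finset (a := h⁻¹) hsub
    rwa [Finset.smul_finset_union, inv_smul_smul, inv_smul_smul] at this
  · rintro ⟨o, ho, hsub⟩
    refine ⟨h • o, (smul_mem_octads_iff hh o).mpr ho, ?_⟩
    have := Finset.smul_finset_subset_smul_finset (a := h) hsub
    rwa [Finset.smul_finset_union] at this

theorem disjoint_smul (h : Equiv.Perm GolayPt) (T U : Finset GolayPt) :
    Disjoint (h • T) (h • U) ↔ Disjoint T U := by
  rw [Finset.disjoint_iff_inter_eq_empty, Finset.disjoint_iff_inter_eq_empty,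
    ← Finset.smul_finset_inter]
  constructor
  · intro he
    have := congrArg (fun s => h⁻¹ • s) he
    simpa using this
  · intro he
    rw [he, Finset.smul_finset_empty]

theorem transport (R : Finset GolayPt → Finset GolayPt → Prop) (h : Equiv.Perm GolayPt)
    (hR : ∀ T U, R (h • T) (h • U) ↔ R T U) (T₀ : Finset GolayPt) :
    {U : Finset GolayPt | R (h • T₀) U}.ncard = {U : Finset GolayPt | R T₀ U}.ncard := by
  have hset : {U : Finset GolayPt | R (h • T₀) U} =
      (fun x => h • x) '' {U : Finset GolayPt | R T₀ U} := by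
    ext U
    simp only [Set.mem_setOf_eq, Set.mem_image]
    constructor
    · intro hU
      refine ⟨h⁻¹ • U, ?_, smul_inv_smul h U⟩
      rw [← hR, smul_inv_smul]
      exact hU
    · rintro ⟨U', hU', rfl⟩
      exact (hR _ _).mpr hU'
  rw [hset, Set.InjOn.ncard_image]
  exact (MulAction.injective h).injOn

/-- Orbits of a triad stabiliser on the triads disjoint from it: the 210 triads inside a common octad with it form one orbit and the remaining 1120 another. -/
theorem result (T : Finset Cfsg.GolayPt) (hT : T.card = 3) : {U : Finset Cfsg.GolayPt | U.card = 3 ∧ Disjoint T U ∧ (∃ o ∈ Cfsg.octads, T ∪ U ⊆ o)}.ncard = 210 ∧ {U : Finset Cfsg.GolayPt | U.card = 3 ∧ Disjoint T U ∧ ¬ (∃ o ∈ Cfsg.octads, T ∪ U ⊆ o)}.ncard = 1120 ∧ ∀ U U' : Finset Cfsg.GolayPt, U.card = 3 → U'.card = 3 → Disjoint T U → Disjoint T U' → ((∃ o ∈ Cfsg.octads, T ∪ U ⊆ o) ↔ (∃ o ∈ Cfsg.octads, T ∪ U' ⊆ o)) → ∃ g : Equiv.Perm Cfsg.GolayPt, g ∈ Cfsg.M24 ∧ g • T = T ∧ g • U = U' := by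
  obtain ⟨h, hh, rfl⟩ := exists_smul_eq_of_card isTransOn3 T hT
  rw [← t0_eq]
  refine ⟨?_, ?_, ?_⟩
  · have := transport (fun T U => U.card = 3 ∧ Disjoint T U ∧ Q T U) h (fun T U => by
      simp only [Finset.card_smul_finset, disjoint_smul, Q_smul h hh]) (dec t0)
    exact this.trans base_count_in
  · have := transport (fun T U => U.card = 3 ∧ Disjoint T U ∧ ¬ Q T U) h (fun T U => by
      simp only [Finset.card_smul_finset, disjoint_smul, Q_smul h hh]) (dec t0)
    exact this.trans base_count_out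
  · intro U U' h3 h3' hd hd' hq
    have e1 : h • h⁻¹ • U = U := smul_inv_smul h U
    have e2 : h • h⁻¹ • U' = U' := smul_inv_smul h U'
    obtain ⟨g, hg, hg1, hg2⟩ := base_trans (h⁻¹ • U) (h⁻¹ • U')
      (by rw [Finset.card_smul_finset]; exact h3) (by rw [Finset.card_smul_finset]; exact h3')
      (by rw [← disjoint_smul h, e1]; exact hd) (by rw [← disjoint_smul h, e2]; exact hd')
      (by
        rw [← Q_smul h hh (dec t0) (h⁻¹ • U), ← Q_smul h hh (dec t0) (h⁻¹ • U'), e1, e2]
        exact hq)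
    refine ⟨h * g * h⁻¹, M24.mul_mem (M24.mul_mem hh hg) (M24.inv_mem hh), ?_, ?_⟩
    · rw [mul_smul, inv_smul_smul, mul_smul, hg1]
    · rw [mul_smul, mul_smul, hg2, e2]

end Cfsg.Agent.S1562
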