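import Cfsg.Statements.S1563
import Cfsg.Agent.Lib.Helper26.MaxTools
import Cfsg.Agent.Lib.Helper26.StabOrbits
import Cfsg.Agent.Lib.Helper26.DuadData
import Cfsg.Agent.Lib.Helper26.Trans5
import Cfsg.Agent.Lib.Helper26.Count

set_option autoImplicit false
open Cfsg

namespace Cfsg.Agent.S1563

open Cfsg.Agent.Lib.Helper26
open scoped Pointwise

/-- the standard duad `{∞, 0}`. -/
abbrev s0 : ℕ := 8388609

theorem s0_eq : dec s0 = ([0, 23].map pt).toFinset := by
  have : s0 = 2 ^ 0 ||| 2 ^ 23 := by decide
  rw [this, dec_lor, dec_two_pow 0 (by norm_num), dec_two_pow 23 (by norm_num)]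
  ext p
  simp only [Finset.mem_union, Finset.mem_singleton, List.map_cons, List.map_nil,
    List.toFinset_cons, List.toFinset_nil, Finset.mem_insert]
  tauto

/-- the duads as a finset. -/
def duadsF : Finset (Finset GolayPt) := ((chooseL 24 2).map dec).toFinset

theorem mem_duadsF {y : Finset GolayPt} : y ∈ duadsF ↔ y.card = 2 := by
  simp only [duadsF, List.mem_toFinset, List.mem_map]
  constructor
  · rintro ⟨c, hc, rfl⟩
    rw [card_dec]
    exact chooseL_pc 24 2 c hc
  · intro h
    obtain ⟨u, hu, rfl⟩ := exists_mem_chooseL y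
    rw [h] at hu
    exact ⟨u, hu, rfl⟩

theorem gens_check : duadStabGens.all (fun d => d.inM24 && d.stabilises s0) = true := by
  decide +kernel

theorem paths_check : checkPathsFrom duadStabGens (fun c => duadReps.getD (pc 24 (s0 &&& c)) 0)
    (chooseL 24 2) duadWords = true := by
  decide +kernel

theorem trans_classes : ∀ o o' o'' : Finset GolayPt, o.card = 2 → o'.card = 2 → o''.card = 2 →
    (o ∩ o').card = (o ∩ o'').card → ∃ g ∈ M24, g • o = o ∧ g • o' = o'' :=
  stab_orbits' {y | y.card = 2} (fun g _ b => by simp [Finset.card_smul_finset])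
    (chooseL 24 2)
    (fun b => by
      constructor
      · intro h
        obtain ⟨u, hu, rfl⟩ := exists_mem_chooseL b
        rw [Set.mem_setOf_eq.mp h] at hu
        exact ⟨u, hu, rfl⟩
      · rintro ⟨c, hc, rfl⟩
        show (dec c).card = 2
        rw [card_dec]
        exact chooseL_pc 24 2 c hc)
    s0
    (fun b hb => by
      obtain ⟨g, hg, hgb⟩ := exists_smul_eq_of_card isTransOn2 b hb
      exact ⟨g, hg, by rw [s0_eq]; exact hgb⟩)
    duadStabGens gens_check (fun a b => (a ∩ b).card)
    (fun g _ a b => by rw [← Finset.smul_finset_inter, Finset.card_smul_finset])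
    (fun c => pc 24 (s0 &&& c)) (fun c _ => by rw [← dec_land, card_dec])
    duadReps duadWords paths_check

/-- class sizes. -/
def cnt : ℕ → ℕ
  | 0 => 231
  | 1 => 44
  | 2 => 1
  | _ => 0

theorem base_cnt : ∀ i ∈ ({0, 1, 2} : Finset ℕ),
    ((chooseL 24 2).filter (fun c => pc 24 (s0 &&& c) == i)).length = cnt i := by
  decide +kernel

theorem class_card (i : ℕ) (hi : i ∈ ({0, 1, 2} : Finset ℕ)) :
    (duadsF.filter (fun y => (dec s0 ∩ y).card = i)).card = cnt i := by
  rw [← base_cnt i hi]
  exact filter_card_base (chooseL 24 2) (chooseL_nodup 24 2) (fun c hc => chooseL_lt 24 2 c hc) _ _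
    (fun c _ => by rw [← dec_land, card_dec, beq_iff_eq])

theorem card_duadsF : duadsF.card = 276 := by
  rw [duadsF, List.toFinset_card_of_nodup, List.length_map]
  · decide +kernel
  · apply List.Nodup.map_on _ (chooseL_nodup 24 2)
    intro a ha b hb h
    exact dec_injOn (chooseL_lt 24 2 a ha) (chooseL_lt 24 2 b hb) h

theorem div_check : ∀ S ∈ ({0, 1, 2} : Finset ℕ).powerset, 2 ∈ S →
    (∑ i ∈ S, cnt i) ∣ 276 → S = {2} ∨ S = {0, 1, 2} := by
  decide +kernel

theorem base : IsCoatom (MulAction.stabilizer M24 (dec s0)) := by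
  have hs2 : (dec s0).card = 2 := by rw [card_dec]; decide
  have h2 : (dec s0 ∩ dec s0).card = 2 := by rw [Finset.inter_self]; exact hs2
  apply isCoatom_stabilizer_of_classes (dec s0) duadsF ?_ (fun y => (dec s0 ∩ y).card) {0, 1, 2}
  · intro y hy
    have : (dec s0 ∩ y).card ≤ 2 := by
      rw [← hs2]
      exact Finset.card_le_card Finset.inter_subset_left
    simp only [Finset.mem_insert, Finset.mem_singleton]
    omega
  · intro y hy z hz hyz
    obtain ⟨g, hg, hgo, hgy⟩ := trans_classes (dec s0) y z hs2 (mem_duadsF.mp hy)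
      (mem_duadsF.mp hz) hyz
    exact ⟨⟨g, hg⟩, mem_stabilizer_M24_iff.mpr hgo, hgy⟩
  · intro y hy hcard
    simp only [h2] at hcard
    have hy2 : y.card = 2 := mem_duadsF.mp hy
    have h1 : dec s0 ∩ y = dec s0 := Finset.eq_of_subset_of_card_le Finset.inter_subset_left
      (by rw [hcard, hs2])
    have h3 : dec s0 ⊆ y := by
      rw [← h1]
      exact Finset.inter_subset_right
    exact (Finset.eq_of_subset_of_card_le h3 (by rw [hy2, hs2])).symm
  · intro i hi
    have hc := class_card i hi
    have hpos : 0 < (duadsF.filter (fun y => (dec s0 ∩ y).card = i)).card := by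
      rw [hc]
      simp only [Finset.mem_insert, Finset.mem_singleton] at hi
      rcases hi with rfl | rfl | rfl <;> simp [cnt]
    obtain ⟨y, hy⟩ := Finset.card_pos.mp hpos
    rw [Finset.mem_filter] at hy
    exact ⟨y, hy.1, hy.2⟩
  · rw [h2]
    decide
  · intro S hS h2S hdvd
    rw [h2] at h2S ⊢
    rw [card_duadsF, Finset.sum_congr rfl (fun i hi => class_card i (hS hi))] at hdvd
    exact div_check S (Finset.mem_powerset.mpr hS) h2S hdvd
  · intro y
    rw [mem_duadsF, mem_orbit_M24_iff]
    constructor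
    · intro hy
      obtain ⟨g, hg, hgb⟩ := exists_smul_eq_of_card isTransOn2 y hy
      exact ⟨g, hg, by rw [s0_eq]; exact hgb⟩
    · rintro ⟨g, _, rfl⟩
      rw [Finset.card_smul_finset]
      exact hs2

/-- The stabiliser of a pair of points (setwise) is a maximal proper subgroup of the group of the length-24 code. -/
theorem result (s : Finset Cfsg.GolayPt) (hs : s.card = 2) : IsCoatom (MulAction.stabilizer Cfsg.M24 s) := by
  obtain ⟨g, hg, hgb⟩ := exists_smul_eq_of_card isTransOn2 s hs
  rw [← s0_eq] at hgb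
  have := isCoatom_stabilizer_smul (⟨g, hg⟩ : M24) (dec s0) base
  rw [M24_smul_def] at this
  rwa [hgb] at this

end Cfsg.Agent.S1563
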