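import Cfsg.Statements.S1564
import Cfsg.Agent.Lib.Helper26.MaxTools
import Cfsg.Agent.Lib.Helper26.StabOrbits
import Cfsg.Agent.Lib.Helper26.TriadData2
import Cfsg.Agent.Lib.Helper26.Trans5
import Cfsg.Agent.Lib.Helper26.Count
import Cfsg.Agent.S1562

set_option autoImplicit false
open Cfsg

namespace Cfsg.Agent.S1564

open Cfsg.Agent.Lib.Helper26
open Cfsg.Agent.S1562 (t0 t0_eq Q inOct inOct_iff Q_smul)
open scoped Pointwise

/-- the triads as a finset. -/
def triadsF : Finset (Finset GolayPt) := ((chooseL 24 3).map dec).toFinset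

theorem mem_triadsF {y : Finset GolayPt} : y ∈ triadsF ↔ y.card = 3 := by
  simp only [triadsF, List.mem_toFinset, List.mem_map]
  constructor
  · rintro ⟨c, hc, rfl⟩
    rw [card_dec]
    exact chooseL_pc 24 3 c hc
  · intro h
    obtain ⟨u, hu, rfl⟩ := exists_mem_chooseL y
    rw [h] at hu
    exact ⟨u, hu, rfl⟩

open Classical in
/-- the invariant separating the orbits of a triad stabiliser on triads. -/
noncomputable def K (a b : Finset GolayPt) : ℕ :=
  if (a ∩ b).card = 0 then (if Q a b then 4 else 5) else (a ∩ b).card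

/-- the invariant on masks. -/
def κ (c : ℕ) : ℕ :=
  if pc 24 (t0 &&& c) = 0 then (if inOct c = true then 4 else 5) else pc 24 (t0 &&& c)

theorem K_smul (g : Equiv.Perm GolayPt) (hg : g ∈ M24) (a b : Finset GolayPt) :
    K (g • a) (g • b) = K a b := by
  unfold K
  rw [← Finset.smul_finset_inter, Finset.card_smul_finset]
  have hq := Q_smul g hg a b
  by_cases h : Q a b
  · rw [if_pos (hq.mpr h), if_pos h]
  · rw [if_neg (fun h' => h (hq.mp h')), if_neg h]

theorem K_dec (c : ℕ) (hc : c < 2 ^ 24) : K (dec t0) (dec c) = κ c := by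
  unfold K κ
  rw [← dec_land, card_dec]
  have hq := inOct_iff c hc
  by_cases h : inOct c = true
  · rw [if_pos (hq.mpr h), if_pos h]
  · rw [if_neg (fun h' => h (hq.mp h')), if_neg h]

theorem gens_check : triStabGens.all (fun d => d.inM24 && d.stabilises t0) = true := by
  decide +kernel

theorem paths_check : checkPathsFrom triStabGens (fun c => triadReps.getD (κ c) 0)
    (chooseL 24 3) triadWords = true := by
  decide +kernel

theorem trans_classes : ∀ o o' o'' : Finset GolayPt, o.card = 3 → o'.card = 3 → o''.card = 3 →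
    K o o' = K o o'' → ∃ g ∈ M24, g • o = o ∧ g • o' = o'' :=
  stab_orbits' {y | y.card = 3} (fun g _ b => by simp [Finset.card_smul_finset])
    (chooseL 24 3)
    (fun b => by
      constructor
      · intro h
        obtain ⟨u, hu, rfl⟩ := exists_mem_chooseL b
        rw [Set.mem_setOf_eq.mp h] at hu
        exact ⟨u, hu, rfl⟩
      · rintro ⟨c, hc, rfl⟩
        show (dec c).card = 3
        rw [card_dec]
        exact chooseL_pc 24 3 c hc)
    t0
    (fun b hb => by
      obtain ⟨g, hg, hgb⟩ := exists_smul_eq_of_card isTransOn3 b hb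
      exact ⟨g, hg, by rw [t0_eq]; exact hgb⟩)
    triStabGens gens_check K K_smul κ (fun c hc => K_dec c (chooseL_lt 24 3 c hc))
    triadReps triadWords paths_check

/-- class sizes. -/
def cnt : ℕ → ℕ
  | 1 => 630
  | 2 => 63
  | 3 => 1
  | 4 => 210
  | 5 => 1120
  | _ => 0

theorem base_cnt : ∀ i ∈ ({1, 2, 3, 4, 5} : Finset ℕ),
    ((chooseL 24 3).filter (fun c => κ c == i)).length = cnt i := by
  decide +kernel

open Classical in
theorem class_card (i : ℕ) (hi : i ∈ ({1, 2, 3, 4, 5} : Finset ℕ)) :
    (triadsF.filter (fun y => K (dec t0) y = i)).card = cnt i := by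
  rw [← base_cnt i hi]
  exact filter_card_base (chooseL 24 3) (chooseL_nodup 24 3) (fun c hc => chooseL_lt 24 3 c hc) _ _
    (fun c hc => by rw [K_dec c (chooseL_lt 24 3 c hc), beq_iff_eq])

theorem card_triadsF : triadsF.card = 2024 := by
  rw [triadsF, List.toFinset_card_of_nodup, List.length_map]
  · decide +kernel
  · apply List.Nodup.map_on _ (chooseL_nodup 24 3)
    intro a ha b hb h
    exact dec_injOn (chooseL_lt 24 3 a ha) (chooseL_lt 24 3 b hb) h

theorem div_check : ∀ S ∈ ({1, 2, 3, 4, 5} : Finset ℕ).powerset, 3 ∈ S →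
    (∑ i ∈ S, cnt i) ∣ 2024 → S = {3} ∨ S = {1, 2, 3, 4, 5} := by
  decide +kernel

theorem K_self : K (dec t0) (dec t0) = 3 := by
  rw [K_dec t0 (by norm_num)]
  decide +kernel

theorem K_mem (y : Finset GolayPt) (hy : y.card = 3) : K (dec t0) y ∈ ({1, 2, 3, 4, 5} : Finset ℕ) := by
  have hs3 : (dec t0).card = 3 := by rw [card_dec]; decide
  have : (dec t0 ∩ y).card ≤ 3 := by
    rw [← hs3]
    exact Finset.card_le_card Finset.inter_subset_left
  unfold K
  simp only [Finset.mem_insert, Finset.mem_singleton]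
  split_ifs <;> omega

theorem base : IsCoatom (MulAction.stabilizer M24 (dec t0)) := by
  classical
  have hs3 : (dec t0).card = 3 := by rw [card_dec]; decide
  apply isCoatom_stabilizer_of_classes (dec t0) triadsF ?_ (fun y => K (dec t0) y) {1, 2, 3, 4, 5}
  · intro y hy
    exact K_mem y (mem_triadsF.mp hy)
  · intro y hy z hz hyz
    obtain ⟨g, hg, hgo, hgy⟩ := trans_classes (dec t0) y z hs3 (mem_triadsF.mp hy)
      (mem_triadsF.mp hz) hyz
    exact ⟨⟨g, hg⟩, mem_stabilizer_M24_iff.mpr hgo, hgy⟩
  · intro y hy hcard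
    simp only [K_self] at hcard
    have hy3 : y.card = 3 := mem_triadsF.mp hy
    have hcard' : (dec t0 ∩ y).card = 3 := by
      unfold K at hcard
      split_ifs at hcard <;> omega
    have h1 : dec t0 ∩ y = dec t0 := Finset.eq_of_subset_of_card_le Finset.inter_subset_left
      (by rw [hcard', hs3])
    have h3 : dec t0 ⊆ y := by
      rw [← h1]
      exact Finset.inter_subset_right
    exact (Finset.eq_of_subset_of_card_le h3 (by rw [hy3, hs3])).symm
  · intro i hi
    have hc := class_card i hi
    have hpos : 0 < (triadsF.filter (fun y => K (dec t0) y = i)).card := by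
      rw [hc]
      simp only [Finset.mem_insert, Finset.mem_singleton] at hi
      rcases hi with rfl | rfl | rfl | rfl | rfl <;> simp [cnt]
    obtain ⟨y, hy⟩ := Finset.card_pos.mp hpos
    rw [Finset.mem_filter] at hy
    exact ⟨y, hy.1, hy.2⟩
  · rw [K_self]
    decide
  · intro S hS h3S hdvd
    rw [K_self] at h3S ⊢
    rw [card_triadsF, Finset.sum_congr rfl (fun i hi => class_card i (hS hi))] at hdvd
    exact div_check S (Finset.mem_powerset.mpr hS) h3S hdvd
  · intro y
    rw [mem_triadsF, mem_orbit_M24_iff]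
    constructor
    · intro hy
      obtain ⟨g, hg, hgb⟩ := exists_smul_eq_of_card isTransOn3 y hy
      exact ⟨g, hg, by rw [t0_eq]; exact hgb⟩
    · rintro ⟨g, _, rfl⟩
      rw [Finset.card_smul_finset]
      exact hs3

/-- The stabiliser of a set of three points (setwise) is a maximal proper subgroup of the group of the length-24 code. -/
theorem result (s : Finset Cfsg.GolayPt) (hs : s.card = 3) : IsCoatom (MulAction.stabilizer Cfsg.M24 s) := by
  obtain ⟨g, hg, hgb⟩ := exists_smul_eq_of_card isTransOn3 s hs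
  rw [← t0_eq] at hgb
  have := isCoatom_stabilizer_smul (⟨g, hg⟩ : M24) (dec t0) base
  rw [M24_smul_def] at this
  rwa [hgb] at this

end Cfsg.Agent.S1564
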