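import Cfsg.Statements.S1565
import Cfsg.Agent.Lib.Helper26.MaxTools
import Cfsg.Agent.S1556

set_option autoImplicit false
open Cfsg

namespace Cfsg.Agent.S1565

open Cfsg.Agent.Lib.Helper26
open scoped Pointwise

/-- class sizes. -/
def cnt : ℕ → ℕ
  | 0 => 30
  | 2 => 448
  | 4 => 280
  | 8 => 1
  | _ => 0

theorem base_cnt : ∀ i ∈ ({0, 2, 4, 8} : Finset ℕ),
    (octL.filter (fun c => pc 24 (oct0 &&& c) == i)).length = cnt i := by
  decide +kernel

theorem class_card (o : Finset GolayPt) (ho : o ∈ octads) (i : ℕ) (hi : i ∈ ({0, 2, 4, 8} : Finset ℕ)) :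
    (octadsF.filter (fun y => (o ∩ y).card = i)).card = cnt i := by
  obtain ⟨g, hg, rfl⟩ := octads_transitive o ho
  rw [filter_card_transport octadsF g (fun y => by rw [mem_octadsF, mem_octadsF, smul_mem_octads_iff hg])
    (fun a b => (a ∩ b).card) (fun a b => by rw [← Finset.smul_finset_inter, Finset.card_smul_finset])]
  rw [← base_cnt i hi]
  exact filter_card_base octL octL_nodup (fun c hc => octL_lt hc) _ _ (fun c _ => by
    rw [← dec_land, card_dec, beq_iff_eq])

theorem div_check : ∀ S ∈ ({0, 2, 4, 8} : Finset ℕ).powerset, 8 ∈ S →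
    (∑ i ∈ S, cnt i) ∣ 759 → S = {8} ∨ S = {0, 2, 4, 8} := by
  decide +kernel

/-- The stabiliser of an octad is a maximal proper subgroup of the group of the length-24 code. -/
theorem result (o : Finset Cfsg.GolayPt) (ho : o ∈ Cfsg.octads) : IsCoatom (MulAction.stabilizer Cfsg.M24 o) := by
  have h8 : (o ∩ o).card = 8 := by rw [Finset.inter_self]; exact ho.2
  apply isCoatom_stabilizer_of_classes o octadsF ?_ (fun y => (o ∩ y).card) {0, 2, 4, 8}
  · -- classes
    intro y hy
    have := octad_inter_card o y ho (mem_octadsF.mp hy)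
    simp only [Finset.mem_insert, Finset.mem_singleton]
    rcases this with h | h | h | h
    · exact Or.inl h
    · exact Or.inr (Or.inl h)
    · exact Or.inr (Or.inr (Or.inl h))
    · exact Or.inr (Or.inr (Or.inr h))
  · -- transitivity on classes
    intro y hy z hz hyz
    obtain ⟨g, hg, hgo, hgy⟩ := Cfsg.Agent.S1556.result o y z ho (mem_octadsF.mp hy)
      (mem_octadsF.mp hz) hyz
    exact ⟨⟨g, hg⟩, mem_stabilizer_M24_iff.mpr hgo, hgy⟩
  · -- the class of `o`
    intro y hy hcard
    simp only [h8] at hcard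
    have hy8 : y.card = 8 := (mem_octadsF.mp hy).2
    have h1 : o ∩ y = o := Finset.eq_of_subset_of_card_le Finset.inter_subset_left
      (by rw [hcard, ho.2])
    have h2 : o ⊆ y := by
      rw [← h1]
      exact Finset.inter_subset_right
    exact (Finset.eq_of_subset_of_card_le h2 (by rw [hy8, ho.2])).symm
  · -- classes are nonempty
    intro i hi
    have hc := class_card o ho i hi
    have hpos : 0 < (octadsF.filter (fun y => (o ∩ y).card = i)).card := by
      rw [hc]
      simp only [Finset.mem_insert, Finset.mem_singleton] at hi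
      rcases hi with rfl | rfl | rfl | rfl <;> simp [cnt]
    obtain ⟨y, hy⟩ := Finset.card_pos.mp hpos
    rw [Finset.mem_filter] at hy
    exact ⟨y, hy.1, hy.2⟩
  · rw [h8]
    decide
  · intro S hS h8S hdvd
    rw [h8] at h8S ⊢
    rw [card_octadsF, Finset.sum_congr rfl (fun i hi => class_card o ho i (hS hi))] at hdvd
    exact div_check S (Finset.mem_powerset.mpr hS) h8S hdvd
  · -- the orbit is the set of octads
    intro y
    rw [mem_octadsF, mem_orbit_M24_iff]
    constructor
    · intro hy
      obtain ⟨g, hg, hgo⟩ := octads_transitive o ho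
      obtain ⟨g', hg', hgy⟩ := octads_transitive y hy
      refine ⟨g' * g⁻¹, M24.mul_mem hg' (M24.inv_mem hg), ?_⟩
      rw [mul_smul, ← hgo, inv_smul_smul, hgy]
    · rintro ⟨g, hg, rfl⟩
      exact (smul_mem_octads_iff hg o).mpr ho

end Cfsg.Agent.S1565
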