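import Cfsg.Statements.S1566
import Cfsg.Agent.Lib.Helper26.MaxTools
import Cfsg.Agent.Lib.Helper26.StabOrbits
import Cfsg.Agent.S1561

set_option autoImplicit false
open Cfsg

namespace Cfsg.Agent.S1566

open Cfsg.Agent.Lib.Helper26
open scoped Pointwise

/-- a set together with its complement. -/
def pairOf (d : Finset GolayPt) : Finset (Finset GolayPt) := {d, dᶜ}

theorem smul_compl' (g : Equiv.Perm GolayPt) (d : Finset GolayPt) :
    g • dᶜ = (g • d)ᶜ := by
  ext p
  rw [Finset.mem_compl, ← Finset.inv_smul_mem_iff, ← Finset.inv_smul_mem_iff, Finset.mem_compl]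

theorem smul_pairOf (g : Equiv.Perm GolayPt) (d : Finset GolayPt) :
    g • pairOf d = pairOf (g • d) := by
  unfold pairOf
  rw [Finset.smul_finset_insert, Finset.smul_finset_singleton, smul_compl']

theorem pairOf_compl (d : Finset GolayPt) : pairOf dᶜ = pairOf d := by
  unfold pairOf
  rw [compl_compl, Finset.pair_comm]

theorem ne_compl (d : Finset GolayPt) : d ≠ dᶜ := by
  intro h
  have hp : (none : GolayPt) ∈ d ↔ (none : GolayPt) ∈ dᶜ := by rw [← h]
  rw [Finset.mem_compl] at hp
  tauto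

theorem card_golayPt : Fintype.card GolayPt = 24 := by decide

theorem compl_mem_dodecads {d : Finset GolayPt} (hd : d ∈ dodecads) : dᶜ ∈ dodecads :=
  ⟨supports_compl hd.1, by rw [Finset.card_compl, hd.2, card_golayPt]⟩

/-- the standard dodecad. -/
noncomputable abbrev D : Finset GolayPt := dec dod0

theorem D_card : D.card = 12 := dod0_mem.2

/-- the dodecad masks containing the point `∞`. -/
def L' : List ℕ := dodL.filter (fun c => c.testBit 23)

theorem L'_nodup : L'.Nodup := dodL_nodup.filter _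

/-- the orbit of the standard pair. -/
noncomputable def ΩF : Finset (Finset (Finset GolayPt)) := (L'.map (fun c => pairOf (dec c))).toFinset

theorem mem_ΩF {Y : Finset (Finset GolayPt)} : Y ∈ ΩF ↔ ∃ c ∈ L', Y = pairOf (dec c) := by
  simp only [ΩF, List.mem_toFinset, List.mem_map]
  constructor
  · rintro ⟨c, hc, rfl⟩
    exact ⟨c, hc, rfl⟩
  · rintro ⟨c, hc, rfl⟩
    exact ⟨c, hc, rfl⟩

theorem pt23 : idx (pt 23) = 23 := idx_pt 23 (by norm_num)

theorem exists_L' (d : Finset GolayPt) (hd : d ∈ dodecads) : ∃ c ∈ L', pairOf d = pairOf (dec c) := by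
  obtain ⟨c, hc, rfl⟩ := (mem_dodecads_iff d).mp hd
  by_cases hb : c.testBit 23 = true
  · exact ⟨c, List.mem_filter.mpr ⟨hc, hb⟩, rfl⟩
  · obtain ⟨c', hc', hceq⟩ := (mem_dodecads_iff _).mp (compl_mem_dodecads hd)
    refine ⟨c', List.mem_filter.mpr ⟨hc', ?_⟩, ?_⟩
    · have : pt 23 ∈ (dec c)ᶜ := by
        rw [Finset.mem_compl, mem_dec, pt23]
        exact hb
      rw [hceq, mem_dec, pt23] at this
      exact this
    · rw [← hceq, pairOf_compl]

/-- the invariant. -/
noncomputable def κ (Y : Finset (Finset GolayPt)) : ℕ := ∑ b ∈ Y, ((D ∩ b).card) ^ 2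

/-- the invariant on masks. -/
def κm (c : ℕ) : ℕ := (pc 24 (dod0 &&& c)) ^ 2 + (12 - pc 24 (dod0 &&& c)) ^ 2

theorem inter_compl_card (d : Finset GolayPt) : (D ∩ dᶜ).card = 12 - (D ∩ d).card := by
  have h := Finset.card_inter_add_card_sdiff D d
  rw [D_card] at h
  have : D ∩ dᶜ = D \ d := by
    ext p
    simp [Finset.mem_sdiff]
  rw [this]
  omega

theorem κ_pairOf (d : Finset GolayPt) : κ (pairOf d) = ((D ∩ d).card) ^ 2 + (12 - (D ∩ d).card) ^ 2 := by
  unfold κ pairOf
  rw [Finset.sum_pair (ne_compl d), inter_compl_card]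

theorem κ_dec (c : ℕ) : κ (pairOf (dec c)) = κm c := by
  rw [κ_pairOf, ← dec_land, card_dec]
  rfl

theorem sq_lemma (k k' : ℕ) (hk : k ≤ 12) (hk' : k' ≤ 12)
    (h : k ^ 2 + (12 - k) ^ 2 = k' ^ 2 + (12 - k') ^ 2) : k' = k ∨ k' = 12 - k := by
  interval_cases k <;> interval_cases k' <;> simp_all

theorem inter_le (d : Finset GolayPt) : (D ∩ d).card ≤ 12 := by
  rw [← D_card]
  exact Finset.card_le_card Finset.inter_subset_left

theorem pair_inj {a b : ℕ} (ha : a ∈ L') (hb : b ∈ L') (h : pairOf (dec a) = pairOf (dec b)) : a = b := by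
  have ha' := List.mem_filter.mp ha
  have hb' := List.mem_filter.mp hb
  have hmem : dec a ∈ pairOf (dec b) := by
    rw [← h]
    simp [pairOf]
  simp only [pairOf, Finset.mem_insert, Finset.mem_singleton] at hmem
  rcases hmem with h1 | h1
  · exact dec_injOn (dodL_lt ha'.1) (dodL_lt hb'.1) h1
  · exfalso
    have h23 : pt 23 ∈ dec a := by rw [mem_dec, pt23]; exact ha'.2
    rw [h1, Finset.mem_compl, mem_dec, pt23] at h23
    exact h23 hb'.2

theorem filter_card_base_gen {X : Type*} [DecidableEq X] (L : List ℕ) (hL : L.Nodup) (φ : ℕ → X)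
    (hφ : ∀ a ∈ L, ∀ b ∈ L, φ a = φ b → a = b) (f : ℕ → Bool)
    (P : X → Prop) [DecidablePred P] (hP : ∀ c ∈ L, P (φ c) ↔ f c = true) :
    (((L.map φ).toFinset).filter P).card = (L.filter f).length := by
  have h1 : ((L.map φ).toFinset).filter P = ((L.filter f).map φ).toFinset := by
    ext y
    simp only [Finset.mem_filter, List.mem_toFinset, List.mem_map, List.mem_filter]
    constructor
    · rintro ⟨⟨c, hc, rfl⟩, hPy⟩
      exact ⟨c, ⟨hc, (hP c hc).mp hPy⟩, rfl⟩
    · rintro ⟨c, ⟨hc, hf⟩, rfl⟩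
      exact ⟨⟨c, hc, rfl⟩, (hP c hc).mpr hf⟩
  rw [h1, List.toFinset_card_of_nodup, List.length_map]
  apply List.Nodup.map_on _ (hL.filter _)
  intro a ha b hb h
  exact hφ a (List.mem_filter.mp ha).1 b (List.mem_filter.mp hb).1 h

/-- class sizes. -/
def cnt : ℕ → ℕ
  | 144 => 1
  | 80 => 495
  | 72 => 792
  | _ => 0

theorem base_cnt : L'.length = 1288 ∧ ∀ i ∈ ({144, 80, 72} : Finset ℕ),
    (L'.filter (fun c => κm c == i)).length = cnt i := by
  decide +kernel

theorem κm_mem : ∀ c ∈ dodL, κm c ∈ ({144, 80, 72} : Finset ℕ) := by decide +kernel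

open Classical in
theorem class_card (i : ℕ) (hi : i ∈ ({144, 80, 72} : Finset ℕ)) :
    (ΩF.filter (fun Y => κ Y = i)).card = cnt i := by
  rw [← base_cnt.2 i hi]
  exact filter_card_base_gen L' L'_nodup _ (fun a ha b hb h => pair_inj ha hb h) _ _
    (fun c _ => by rw [κ_dec, beq_iff_eq])

theorem card_ΩF : ΩF.card = 1288 := by
  rw [ΩF, List.toFinset_card_of_nodup, List.length_map, base_cnt.1]
  apply List.Nodup.map_on _ L'_nodup
  intro a ha b hb h
  exact pair_inj ha hb h

theorem div_check : ∀ S ∈ ({144, 80, 72} : Finset ℕ).powerset, 144 ∈ S →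
    (∑ i ∈ S, cnt i) ∣ 1288 → S = {144} ∨ S = {144, 80, 72} := by
  decide +kernel

theorem κ_self : κ (pairOf D) = 144 := by
  rw [κ_pairOf, Finset.inter_self, D_card]
  norm_num

theorem M24_smul_pair (g : M24) (Y : Finset (Finset GolayPt)) :
    g • Y = (g : Equiv.Perm GolayPt) • Y := rfl

theorem base : IsCoatom (MulAction.stabilizer M24 (pairOf D)) := by
  classical
  apply isCoatom_stabilizer_of_classes (pairOf D) ΩF ?_ κ {144, 80, 72}
  · intro Y hY
    obtain ⟨c, hc, rfl⟩ := mem_ΩF.mp hY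
    rw [κ_dec]
    exact κm_mem c (List.mem_filter.mp hc).1
  · -- transitivity on classes
    intro Y hY Z hZ hYZ
    obtain ⟨c, hc, rfl⟩ := mem_ΩF.mp hY
    obtain ⟨c', hc', rfl⟩ := mem_ΩF.mp hZ
    have hcd : dec c ∈ dodecads := (mem_dodecads_iff _).mpr ⟨c, (List.mem_filter.mp hc).1, rfl⟩
    have hcd' : dec c' ∈ dodecads := (mem_dodecads_iff _).mpr ⟨c', (List.mem_filter.mp hc').1, rfl⟩
    rw [κ_pairOf, κ_pairOf] at hYZ
    rcases sq_lemma _ _ (inter_le _) (inter_le _) hYZ with h | h
    · obtain ⟨g, hg, hgD, hgc⟩ := Cfsg.Agent.S1561.result D (dec c) (dec c') dod0_mem hcd hcd' h.symm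
      refine ⟨⟨g, hg⟩, ?_, ?_⟩
      · rw [MulAction.mem_stabilizer_iff, M24_smul_pair, smul_pairOf]
        exact congrArg pairOf hgD
      · rw [M24_smul_pair, smul_pairOf]
        exact congrArg pairOf hgc
    · have h' : (D ∩ dec c).card = (D ∩ (dec c')ᶜ).card := by
        rw [inter_compl_card]
        have := inter_le (dec c)
        omega
      obtain ⟨g, hg, hgD, hgc⟩ := Cfsg.Agent.S1561.result D (dec c) (dec c')ᶜ dod0_mem hcd
        (compl_mem_dodecads hcd') h'
      refine ⟨⟨g, hg⟩, ?_, ?_⟩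
      · rw [MulAction.mem_stabilizer_iff, M24_smul_pair, smul_pairOf]
        exact congrArg pairOf hgD
      · rw [M24_smul_pair, smul_pairOf, hgc, pairOf_compl]
  · -- the class of the standard pair
    intro Y hY hκ
    obtain ⟨c, hc, rfl⟩ := mem_ΩF.mp hY
    have hcd : dec c ∈ dodecads := (mem_dodecads_iff _).mpr ⟨c, (List.mem_filter.mp hc).1, rfl⟩
    rw [κ_self, κ_pairOf] at hκ
    have hle := inter_le (dec c)
    have hk : (D ∩ dec c).card = 12 ∨ (D ∩ dec c).card = 0 := by
      generalize (D ∩ dec c).card = k at hκ hle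
      interval_cases k <;> simp_all
    rcases hk with hk | hk
    · have h1 : D ∩ dec c = D := Finset.eq_of_subset_of_card_le Finset.inter_subset_left
        (by rw [hk, D_card])
      have h2 : D ⊆ dec c := by
        rw [← h1]
        exact Finset.inter_subset_right
      have h3 : D = dec c := Finset.eq_of_subset_of_card_le h2 (by rw [hcd.2, D_card])
      rw [← h3]
    · have h1 : dec c ⊆ Dᶜ := by
        intro p hp
        rw [Finset.mem_compl]
        intro hpD
        have : p ∈ D ∩ dec c := Finset.mem_inter.mpr ⟨hpD, hp⟩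
        rw [Finset.card_eq_zero.mp hk] at this
        exact absurd this (Finset.notMem_empty p)
      have h3 : dec c = Dᶜ := Finset.eq_of_subset_of_card_le h1
        (by rw [hcd.2, Finset.card_compl, D_card, card_golayPt])
      rw [h3, pairOf_compl]
  · intro i hi
    have hc := class_card i hi
    have hpos : 0 < (ΩF.filter (fun Y => κ Y = i)).card := by
      rw [hc]
      simp only [Finset.mem_insert, Finset.mem_singleton] at hi
      rcases hi with rfl | rfl | rfl <;> simp [cnt]
    obtain ⟨y, hy⟩ := Finset.card_pos.mp hpos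
    rw [Finset.mem_filter] at hy
    exact ⟨y, hy.1, hy.2⟩
  · rw [κ_self]
    decide
  · intro S hS h2S hdvd
    rw [κ_self] at h2S ⊢
    rw [card_ΩF, Finset.sum_congr rfl (fun i hi => class_card i (hS hi))] at hdvd
    exact div_check S (Finset.mem_powerset.mpr hS) h2S hdvd
  · -- the orbit
    intro Y
    rw [mem_ΩF]
    constructor
    · rintro ⟨c, hc, rfl⟩
      have hcd : dec c ∈ dodecads := (mem_dodecads_iff _).mpr ⟨c, (List.mem_filter.mp hc).1, rfl⟩
      obtain ⟨g, hg, hgc⟩ := dodecads_transitive (dec c) hcd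
      refine ⟨⟨g, hg⟩, ?_⟩
      show (⟨g, hg⟩ : M24) • pairOf D = pairOf (dec c)
      rw [M24_smul_pair, smul_pairOf]
      exact congrArg pairOf hgc
    · rintro ⟨g, rfl⟩
      show ∃ c ∈ L', g • pairOf D = pairOf (dec c)
      rw [M24_smul_pair, smul_pairOf]
      exact exists_L' _ ((smul_mem_dodecads_iff g.2 D).mpr dod0_mem)

/-- The setwise stabiliser of a dodecad together with its complement is a maximal proper subgroup of the group of the length-24 code. -/
theorem result (d : Finset Cfsg.GolayPt) (hd : d ∈ Cfsg.dodecads) : IsCoatom (MulAction.stabilizer Cfsg.M24 ({d, dᶜ} : Finset (Finset Cfsg.GolayPt))) := by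
  obtain ⟨g, hg, rfl⟩ := dodecads_transitive d hd
  have := isCoatom_stabilizer_smul (⟨g, hg⟩ : M24) (pairOf D) base
  rw [M24_smul_pair, smul_pairOf] at this
  exact this

end Cfsg.Agent.S1566
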