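import Cfsg.Statements.S1567
import Cfsg.Agent.S0393

set_option autoImplicit false
open Cfsg

namespace Cfsg.Agent.S1567

open Cfsg.Agent.Lib.Golay.LeechBasis Cfsg.Agent.Lib.Helper93.Golay

set_option maxRecDepth 100000 in
theorem norm_mid : ∀ j : Fin 24, j ≠ 0 → j ≠ 23 → sqNorm (bvec j) = 32 := by
  unfold sqNorm; decide +kernel

set_option maxRecDepth 100000 in
theorem norm_0 : sqNorm (bvec 0 - bvec 1) = 32 := by
  unfold sqNorm; decide +kernel

set_option maxRecDepth 100000 in
theorem norm_23 : sqNorm (bvec 23 - bvec 0) = 32 := by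
  unfold sqNorm; decide +kernel

/-- the minimal vectors -/
def Mv : Set (GolayPt → ℤ) := {x | x ∈ leechLattice ∧ sqNorm x = 32}

theorem bvec_closure (j : Fin 24) : bvec j ∈ AddSubgroup.closure Mv := by
  have h1 : bvec 1 ∈ AddSubgroup.closure Mv :=
    AddSubgroup.subset_closure ⟨bvec_mem 1, norm_mid 1 (by decide) (by decide)⟩
  have h0 : bvec 0 ∈ AddSubgroup.closure Mv := by
    have : bvec 0 - bvec 1 ∈ AddSubgroup.closure Mv :=
      AddSubgroup.subset_closure ⟨sub_mem (bvec_mem 0) (bvec_mem 1), norm_0⟩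
    have h := add_mem this h1
    rwa [sub_add_cancel] at h
  by_cases hj0 : j = 0
  · rw [hj0]; exact h0
  by_cases hj23 : j = 23
  · rw [hj23]
    have : bvec 23 - bvec 0 ∈ AddSubgroup.closure Mv :=
      AddSubgroup.subset_closure ⟨sub_mem (bvec_mem 23) (bvec_mem 0), norm_23⟩
    have h := add_mem this h0
    rwa [sub_add_cancel] at h
  · exact AddSubgroup.subset_closure ⟨bvec_mem j, norm_mid j hj0 hj23⟩

/-- The rank-24 lattice is the additive subgroup generated by its 196560 minimal vectors. -/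
theorem result : AddSubgroup.closure {x : Cfsg.GolayPt → ℤ | x ∈ Cfsg.leechLattice ∧ Cfsg.sqNorm x = 32} = Cfsg.leechLattice := by
  apply le_antisymm
  · rw [AddSubgroup.closure_le]
    intro x hx
    exact hx.1
  · intro x hx
    rw [Cfsg.Agent.S0393.expand hx]
    exact sum_mem fun j _ => zsmul_mem (bvec_closure j) _

end Cfsg.Agent.S1567
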