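import Cfsg.Statements.S1568
import Cfsg.Agent.S0395
import Cfsg.Agent.Lib.Golay.LeechCount

set_option autoImplicit false
open Cfsg

namespace Cfsg.Agent.S1568

open Cfsg.Agent.Lib.Golay.LeechCount Cfsg.Agent.Lib.Helper93.Leech

/-- the norm-`N'` vectors form a finite set -/
theorem finite_norm (N' : ℕ) (hN : N' ≤ 64) :
    {x : GolayPt → ℤ | x ∈ leechLattice ∧ sqNorm x = (N' : ℤ)}.Finite := by
  have : {x : GolayPt → ℤ | x ∈ leechLattice ∧ sqNorm x = (N' : ℤ)} = SK K8 N' := by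
    ext x
    simp only [SK, Set.mem_setOf_eq]
    constructor
    · rintro ⟨h1, h2⟩; exact ⟨h1, h2, coord_mem_K8 hN h2⟩
    · rintro ⟨h1, h2, _⟩; exact ⟨h1, h2⟩
  rw [this, SK_eq]
  exact Finset.finite_toSet _

/-- vectors with a coordinate in the "bad" set `B` are counted by complement -/
theorem ncard_exists_bad (B : Finset ℤ) (N' : ℕ) (hN : N' ≤ 64) :
    {x : GolayPt → ℤ | x ∈ leechLattice ∧ sqNorm x = (N' : ℤ) ∧ ∃ i, x i ∈ B}.ncard +
      (SK (K8 \ B) N').ncard = {x : GolayPt → ℤ | x ∈ leechLattice ∧ sqNorm x = (N' : ℤ)}.ncard := by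
  have hfin := finite_norm N' hN
  have hs : {x : GolayPt → ℤ | x ∈ leechLattice ∧ sqNorm x = (N' : ℤ) ∧ ∃ i, x i ∈ B}.Finite :=
    hfin.subset fun x hx => ⟨hx.1, hx.2.1⟩
  have ht : (SK (K8 \ B) N').Finite := hfin.subset fun x hx => ⟨hx.1, hx.2.1⟩
  have hd : Disjoint {x : GolayPt → ℤ | x ∈ leechLattice ∧ sqNorm x = (N' : ℤ) ∧ ∃ i, x i ∈ B}
      (SK (K8 \ B) N') := by
    rw [Set.disjoint_left]
    rintro x ⟨_, _, i, hi⟩ ⟨_, _, h3⟩
    exact (Finset.mem_sdiff.1 (h3 i)).2 hi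
  rw [← Set.ncard_union_eq hd hs ht]
  congr 1
  ext x
  simp only [SK, Set.mem_union, Set.mem_setOf_eq, Finset.mem_sdiff]
  constructor
  · rintro (⟨h1, h2, _⟩ | ⟨h1, h2, _⟩) <;> exact ⟨h1, h2⟩
  · rintro ⟨h1, h2⟩
    by_cases hb : ∃ i, x i ∈ B
    · exact Or.inl ⟨h1, h2, hb⟩
    · push Not at hb
      exact Or.inr ⟨h1, h2, fun i => ⟨coord_mem_K8 hN h2 i, hb i⟩⟩

/-! ### the four computations -/

noncomputable abbrev Ka : Finset ℤ := {0, 2, -2}
noncomputable abbrev Kb : Finset ℤ := {1, -1, 3, -3, 7, -7}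

theorem Ka_sub : Ka ⊆ Finset.Icc (-8) 8 := by decide
theorem Kb_sub : Kb ⊆ Finset.Icc (-8) 8 := by decide

set_option maxRecDepth 100000 in
theorem total_a : total (gen (VK Ka 0)) (gen (VK Ka 1)) (gen (VK Ka 2)) (gen (VK Ka 3)) 48 = 5275648 := by
  decide +kernel

set_option maxRecDepth 100000 in
theorem total_b : total (gen (VK Kb 0)) (gen (VK Kb 1)) (gen (VK Kb 2)) (gen (VK Kb 3)) 48 = 8290304 := by
  decide +kernel

set_option maxRecDepth 100000 in
theorem total_c : total (gen (VK (K8 \ {4, -4}) 0)) (gen (VK (K8 \ {4, -4}) 1)) (gen (VK (K8 \ {4, -4}) 2))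
    (gen (VK (K8 \ {4, -4}) 3)) 48 = 16773120 - 3108864 := by
  decide +kernel

set_option maxRecDepth 100000 in
theorem total_d : total (gen (VK (K8 \ {5, -5}) 0)) (gen (VK (K8 \ {5, -5}) 1)) (gen (VK (K8 \ {5, -5}) 2))
    (gen (VK (K8 \ {5, -5}) 3)) 48 = 16773120 - 98304 := by
  decide +kernel

theorem part_a : {x : Cfsg.GolayPt → ℤ | x ∈ Cfsg.leechLattice ∧ Cfsg.sqNorm x = 48 ∧
    ∀ i, x i = 0 ∨ x i = 2 ∨ x i = -2}.ncard = 5275648 := by
  have h := ncard_SK_eq Ka_sub 48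
  rw [total_a] at h
  rw [← h]
  congr 1
  ext x
  simp [SK, Ka]

theorem part_c : {x : Cfsg.GolayPt → ℤ | x ∈ Cfsg.leechLattice ∧ Cfsg.sqNorm x = 48 ∧
    ∃ i, |x i| = 4}.ncard = 3108864 := by
  have h := ncard_exists_bad {4, -4} 48 (by norm_num)
  have h2 := ncard_SK_eq (K := K8 \ {4, -4}) Finset.sdiff_subset 48
  rw [total_c] at h2
  have h3 := Cfsg.Agent.S0395.result
  have e1 : {x : Cfsg.GolayPt → ℤ | x ∈ Cfsg.leechLattice ∧ Cfsg.sqNorm x = 48 ∧ ∃ i, |x i| = 4} =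
      {x : GolayPt → ℤ | x ∈ leechLattice ∧ sqNorm x = ((48 : ℕ) : ℤ) ∧ ∃ i, x i ∈ ({4, -4} : Finset ℤ)} := by
    ext x
    simp only [Set.mem_setOf_eq, Finset.mem_insert, Finset.mem_singleton, Nat.cast_ofNat,
      abs_eq (show (0 : ℤ) ≤ 4 by norm_num)]
  rw [e1]
  norm_num at h h2 h3 ⊢
  omega

theorem part_d : {x : Cfsg.GolayPt → ℤ | x ∈ Cfsg.leechLattice ∧ Cfsg.sqNorm x = 48 ∧
    ∃ i, |x i| = 5}.ncard = 98304 := by
  have h := ncard_exists_bad {5, -5} 48 (by norm_num)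
  have h2 := ncard_SK_eq (K := K8 \ {5, -5}) Finset.sdiff_subset 48
  rw [total_d] at h2
  have h3 := Cfsg.Agent.S0395.result
  have e1 : {x : Cfsg.GolayPt → ℤ | x ∈ Cfsg.leechLattice ∧ Cfsg.sqNorm x = 48 ∧ ∃ i, |x i| = 5} =
      {x : GolayPt → ℤ | x ∈ leechLattice ∧ sqNorm x = ((48 : ℕ) : ℤ) ∧ ∃ i, x i ∈ ({5, -5} : Finset ℤ)} := by
    ext x
    simp only [Set.mem_setOf_eq, Finset.mem_insert, Finset.mem_singleton, Nat.cast_ofNat,
      abs_eq (show (0 : ℤ) ≤ 5 by norm_num)]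
  rw [e1]
  norm_num at h h2 h3 ⊢
  omega


theorem sq_le_of_norm {x : GolayPt → ℤ} {N : ℤ} (hx : sqNorm x = N) (i : GolayPt) : x i ^ 2 ≤ N := by
  rw [← hx]; unfold sqNorm
  exact Finset.single_le_sum (f := fun j => x j ^ 2) (fun j _ => sq_nonneg (x j)) (Finset.mem_univ i)

theorem abs3 {a : ℤ} (h : |a| = 3) : a = 3 ∨ a = -3 := (abs_eq (by norm_num)).1 h

theorem set_b : {x : Cfsg.GolayPt → ℤ | x ∈ Cfsg.leechLattice ∧ Cfsg.sqNorm x = 48 ∧
    ∃ i j k, i ≠ j ∧ j ≠ k ∧ i ≠ k ∧ |x i| = 3 ∧ |x j| = 3 ∧ |x k| = 3} = SK Kb 48 := by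
  ext x
  simp only [SK, Set.mem_setOf_eq]
  constructor
  · rintro ⟨hL, hN, i, j, k, hij, hjk, hik, hi, hj, hk⟩
    refine ⟨hL, hN, fun l => ?_⟩
    have hL' := hL
    rw [mem_leechLattice_iff, mem_leechSet_iff] at hL'
    obtain ⟨m', h1, -, -⟩ := hL'
    have hodd : x l % 2 = 1 := by
      have a := h1 i; have b := h1 l
      rcases abs3 hi with h | h <;> omega
    have hb := sq_le_of_norm hN l
    have hb1 : -6 ≤ x l := by nlinarith
    have hb2 : x l ≤ 6 := by nlinarith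
    have hno5 : x l ≠ 5 ∧ x l ≠ -5 := by
      constructor <;> intro h5
      all_goals
        have hli : l ≠ i := by rintro rfl; rcases abs3 hi with h | h <;> omega
        have hlj : l ≠ j := by rintro rfl; rcases abs3 hj with h | h <;> omega
        have hlk : l ≠ k := by rintro rfl; rcases abs3 hk with h | h <;> omega
        have hsub : ∑ t ∈ ({l, i, j, k} : Finset GolayPt), x t ^ 2 ≤ sqNorm x := by
          unfold sqNorm
          exact Finset.sum_le_univ_sum_of_nonneg fun t => sq_nonneg (x t)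
        rw [Finset.sum_insert (by simp [hli, hlj, hlk]), Finset.sum_insert (by simp [hij, hik]),
          Finset.sum_insert (by simp [hjk]), Finset.sum_singleton, hN] at hsub
        have e1 : x i ^ 2 = 9 := by rcases abs3 hi with h | h <;> rw [h] <;> norm_num
        have e2 : x j ^ 2 = 9 := by rcases abs3 hj with h | h <;> rw [h] <;> norm_num
        have e3 : x k ^ 2 = 9 := by rcases abs3 hk with h | h <;> rw [h] <;> norm_num
        have e4 : x l ^ 2 = 25 := by rw [h5]; norm_num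
        omega
    simp only [Kb, Finset.mem_insert, Finset.mem_singleton]
    omega
  · rintro ⟨hL, hN, hK⟩
    refine ⟨hL, hN, ?_⟩
    -- every coordinate is ±1 or ±3
    have hv : ∀ l, x l = 1 ∨ x l = -1 ∨ x l = 3 ∨ x l = -3 := by
      intro l
      have := hK l
      simp only [Kb, Finset.mem_insert, Finset.mem_singleton] at this
      have hb := sq_le_of_norm hN l
      rcases this with h | h | h | h | h | h
      · exact Or.inl h
      · exact Or.inr (Or.inl h)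
      · exact Or.inr (Or.inr (Or.inl h))
      · exact Or.inr (Or.inr (Or.inr h))
      · rw [h] at hb; norm_num at hb
      · rw [h] at hb; norm_num at hb
    set T := Finset.univ.filter (fun l => |x l| = 3) with hT
    have hsq : ∀ l, x l ^ 2 = 1 + 8 * (if |x l| = 3 then 1 else 0) := by
      intro l
      rcases hv l with h | h | h | h <;> rw [h] <;> norm_num
    have hsum : sqNorm x = 24 + 8 * (T.card : ℤ) := by
      unfold sqNorm
      rw [Finset.sum_congr rfl (fun l _ => hsq l), Finset.sum_add_distrib, ← Finset.mul_sum,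
        Finset.sum_boole, Finset.sum_const, Finset.card_univ, card_golayPt]
      simp [hT]
    have hcard : T.card = 3 := by rw [hN] at hsum; omega
    obtain ⟨i, j, k, hij, hik, hjk, hTe⟩ := Finset.card_eq_three.1 hcard
    have hi : i ∈ T := by rw [hTe]; simp
    have hj : j ∈ T := by rw [hTe]; simp
    have hk : k ∈ T := by rw [hTe]; simp
    rw [hT, Finset.mem_filter] at hi hj hk
    exact ⟨i, j, k, hij, hjk, hik, hi.2, hj.2, hk.2⟩

theorem part_b : {x : Cfsg.GolayPt → ℤ | x ∈ Cfsg.leechLattice ∧ Cfsg.sqNorm x = 48 ∧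
    ∃ i j k, i ≠ j ∧ j ≠ k ∧ i ≠ k ∧ |x i| = 3 ∧ |x j| = 3 ∧ |x k| = 3}.ncard = 8290304 := by
  rw [set_b]
  have h := ncard_SK_eq Kb_sub 48
  rw [total_b] at h
  exact_mod_cast h

/-- Shape census of the lattice vectors of sum of squares 48 (customary norm 6): the four families (2^12, 0^12), (±3^3, ±1^21), (±4, ±2^8, 0^15) and (±5, ±1^23) have 5275648, 8290304, 3108864 and 98304 members. -/
theorem result : {x : Cfsg.GolayPt → ℤ | x ∈ Cfsg.leechLattice ∧ Cfsg.sqNorm x = 48 ∧ ∀ i, x i = 0 ∨ x i = 2 ∨ x i = -2}.ncard = 5275648 ∧ {x : Cfsg.GolayPt → ℤ | x ∈ Cfsg.leechLattice ∧ Cfsg.sqNorm x = 48 ∧ ∃ i j k, i ≠ j ∧ j ≠ k ∧ i ≠ k ∧ |x i| = 3 ∧ |x j| = 3 ∧ |x k| = 3}.ncard = 8290304 ∧ {x : Cfsg.GolayPt → ℤ | x ∈ Cfsg.leechLattice ∧ Cfsg.sqNorm x = 48 ∧ ∃ i, |x i| = 4}.ncard = 3108864 ∧ {x : Cfsg.GolayPt → ℤ | x ∈ Cfsg.leechLattice ∧ Cfsg.sqNorm x = 48 ∧ ∃ i, |x i| = 5}.ncard = 98304 :=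
  ⟨part_a, part_b, part_c, part_d⟩

end Cfsg.Agent.S1568
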