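import Cfsg.Statements.S1577
import Cfsg.Agent.Lib.Conway.U62Rel
import Cfsg.Agent.Lib.Conway.Co2Base
import Cfsg.Agent.S0400
import Cfsg.Agent.S1574

set_option autoImplicit false
open Cfsg

namespace Cfsg.Agent.S1577

/-- The joint stabiliser of two minimal vectors of customary inner product −2 is isomorphic to PSU(6, 2). -/
theorem result (v w : ↥Cfsg.leechLattice) (hv : Cfsg.sqNorm (v : Cfsg.GolayPt → ℤ) = 32) (hw : Cfsg.sqNorm (w : Cfsg.GolayPt → ℤ) = 32) (hd : Cfsg.dotInt (v : Cfsg.GolayPt → ℤ) (w : Cfsg.GolayPt → ℤ) = -16) (F : Type) [Field F] [Fintype F] (hF : Fintype.card F = 4) : Nonempty (↥(MulAction.stabilizer ↥Cfsg.Co0 v ⊓ MulAction.stabilizer ↥Cfsg.Co0 w) ≃* Cfsg.PSU 6 F 2) := by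
  obtain ⟨g1, hg1⟩ := Cfsg.Agent.S0400.result v Cfsg.Agent.Lib.Conway.U62.V0 hv
    Cfsg.Agent.Lib.Conway.U62.V0_norm
  have hw1 : Cfsg.sqNorm ((g1 • w : ↥Cfsg.leechLattice) : Cfsg.GolayPt → ℤ) = 32 := by
    rw [Cfsg.Agent.Lib.Conway.co0_norm]; exact hw
  have hd1 : Cfsg.dotInt ((Cfsg.Agent.Lib.Conway.U62.V0 : ↥Cfsg.leechLattice) : Cfsg.GolayPt → ℤ)
      ((g1 • w : ↥Cfsg.leechLattice) : Cfsg.GolayPt → ℤ) = -16 := by
    rw [← hg1, Cfsg.Agent.Lib.Conway.co0_dot]; exact hd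
  obtain ⟨g2, hg2v, hg2w⟩ := Cfsg.Agent.S1574.result Cfsg.Agent.Lib.Conway.U62.V0 (g1 • w)
    Cfsg.Agent.Lib.Conway.U62.W0 Cfsg.Agent.Lib.Conway.U62.V0_norm hw1
    Cfsg.Agent.Lib.Conway.U62.W0_norm hd1 Cfsg.Agent.Lib.Conway.U62.V0_W0_dot
  have hv' : (g2 * g1) • v = Cfsg.Agent.Lib.Conway.U62.V0 := by rw [mul_smul, hg1, hg2v]
  have hw' : (g2 * g1) • w = Cfsg.Agent.Lib.Conway.U62.W0 := by rw [mul_smul, hg2w]
  obtain ⟨e⟩ := Cfsg.Agent.Lib.Conway.U62.iso_K0 (F := F) hF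
  exact ⟨(Cfsg.Agent.Lib.Conway.U62.pairConj (g2 * g1) hv' hw').trans e⟩

end Cfsg.Agent.S1577
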