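import Cfsg.Statements.S1579
import Cfsg.Agent.Lib.Conway.Co2Main

set_option autoImplicit false
open Cfsg

namespace Cfsg.Agent.S1579

open Cfsg.Agent.Lib.Conway

theorem dot_of_sub (u v : leechLattice) (hu : sqNorm (u : Vec) = 48) (hv : sqNorm (v : Vec) = 32)
    (huv : sqNorm ((u - v : leechLattice) : Vec) = 32) :
    dotInt (v : Vec) ((u - v : leechLattice) : Vec) = -8 := by
  have h := Cfsg.Agent.S0393.sqNorm_add (v : Vec) ((u - v : leechLattice) : Vec)
  have e : (v : Vec) + ((u - v : leechLattice) : Vec) = (u : Vec) := by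
    rw [AddSubgroup.coe_sub]; abel
  rw [e, hu, hv, huv] at h
  omega

/-- The stabiliser of a vector of sum of squares 48 is transitive on the 552 minimal vectors whose difference from it is minimal. -/
theorem result (u v v' : ↥Cfsg.leechLattice) (hu : Cfsg.sqNorm (u : Cfsg.GolayPt → ℤ) = 48) (hv : Cfsg.sqNorm (v : Cfsg.GolayPt → ℤ) = 32 ∧ Cfsg.sqNorm ((u - v) : Cfsg.GolayPt → ℤ) = 32) (hv' : Cfsg.sqNorm (v' : Cfsg.GolayPt → ℤ) = 32 ∧ Cfsg.sqNorm ((u - v') : Cfsg.GolayPt → ℤ) = 32) : ∃ g : ↥Cfsg.Co0, g • u = u ∧ g • v = v' := by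
  obtain ⟨hv1, hv2⟩ := hv
  obtain ⟨hv1', hv2'⟩ := hv'
  have hw : sqNorm ((u - v : leechLattice) : Vec) = 32 := by
    rw [AddSubgroup.coe_sub]; exact hv2
  have hw' : sqNorm ((u - v' : leechLattice) : Vec) = 32 := by
    rw [AddSubgroup.coe_sub]; exact hv2'
  have hd := dot_of_sub u v hu hv1 hw
  have hd' := dot_of_sub u v' hu hv1' hw'
  obtain ⟨g0, hg0⟩ := trans4 v v' hv1 hv1'
  have hd1 : dotInt (v' : Vec) ((g0 • (u - v) : leechLattice) : Vec) = -8 := by
    have := co0_dot g0 v (u - v)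
    rw [hg0] at this
    rw [this]; exact hd
  obtain ⟨h, hh1, hh2⟩ := stab_trans_d8 v' (g0 • (u - v)) (u - v') hv1'
    (by rw [co0_norm]; exact hw) hw' hd1 hd'
  refine ⟨h * g0, ?_, ?_⟩
  · have e : u = v + (u - v) := by abel
    conv_lhs => rw [e]
    rw [mul_smul, co0_add, co0_add, hg0, hh1, hh2]
    abel
  · rw [mul_smul, hg0, hh1]

end Cfsg.Agent.S1579
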