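import Cfsg.Statements.S1585
import Cfsg.Agent.Lib.Helper27.Co3

set_option autoImplicit false
open Cfsg

namespace Cfsg.Agent.S1585

/-- Two vectors of customary norm 6 with inner product −4 are exchanged by some automorphism of the lattice. -/
theorem result (v w : ↥Cfsg.leechLattice) (hv : Cfsg.sqNorm (v : Cfsg.GolayPt → ℤ) = 48) (hw : Cfsg.sqNorm (w : Cfsg.GolayPt → ℤ) = 48) (hvw : Cfsg.dotInt (v : Cfsg.GolayPt → ℤ) (w : Cfsg.GolayPt → ℤ) = -32) : ∃ g : ↥Cfsg.Co0, g • v = w ∧ g • w = v := by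
  -- the vector `x = -(v + w)` has sum of squares 32 and scalar product -16 with both `v` and `w`
  have hadd := Cfsg.Agent.S0393.sqNorm_add (v : Cfsg.GolayPt → ℤ) (w : Cfsg.GolayPt → ℤ)
  have hdv : Cfsg.dotInt (v : Cfsg.GolayPt → ℤ) (v : Cfsg.GolayPt → ℤ) = 48 := by
    rw [← Cfsg.Agent.Lib.Conway.sqNorm_eq_dotInt]; exact hv
  have hdw : Cfsg.dotInt (w : Cfsg.GolayPt → ℤ) (w : Cfsg.GolayPt → ℤ) = 48 := by
    rw [← Cfsg.Agent.Lib.Conway.sqNorm_eq_dotInt]; exact hw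
  have hwv : Cfsg.dotInt (w : Cfsg.GolayPt → ℤ) (v : Cfsg.GolayPt → ℤ) = -32 := by
    rw [← hvw]; unfold Cfsg.dotInt; exact Finset.sum_congr rfl (fun i _ => mul_comm _ _)
  have dot_neg : ∀ a b c : Cfsg.GolayPt → ℤ, Cfsg.dotInt a (-(b + c)) =
      -(Cfsg.dotInt a b + Cfsg.dotInt a c) := by
    intro a b c
    unfold Cfsg.dotInt
    rw [← Finset.sum_add_distrib, ← Finset.sum_neg_distrib]
    exact Finset.sum_congr rfl (fun i _ => by simp only [Pi.neg_apply, Pi.add_apply]; ring)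
  have norm_neg : ∀ a : Cfsg.GolayPt → ℤ, Cfsg.sqNorm (-a) = Cfsg.sqNorm a := by
    intro a
    unfold Cfsg.sqNorm
    exact Finset.sum_congr rfl (fun i _ => by simp only [Pi.neg_apply]; ring)
  set x : ↥Cfsg.leechLattice := -(v + w) with hx
  have hxc : (x : Cfsg.GolayPt → ℤ) = -((v : Cfsg.GolayPt → ℤ) + (w : Cfsg.GolayPt → ℤ)) := rfl
  have hxv : x ∈ Cfsg.Agent.Lib.Helper27.Co3.pts3 v := by
    refine ⟨?_, ?_⟩
    · rw [hxc, norm_neg, hadd, hv, hw, hvw]; norm_num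
    · rw [hxc, dot_neg, hdv, hvw]; norm_num
  have hxw : x ∈ Cfsg.Agent.Lib.Helper27.Co3.pts3 w := by
    refine ⟨hxv.1, ?_⟩
    rw [hxc, dot_neg, hdw, hwv]; norm_num
  obtain ⟨g, hgv, hgx⟩ := Cfsg.Agent.Lib.Helper27.Co3.exists_to_std v x hv hxv
  obtain ⟨g', hgw, hgx'⟩ := Cfsg.Agent.Lib.Helper27.Co3.exists_to_std w x hw hxw
  -- `k = g'⁻¹ g` maps `v` to `w` and fixes `x`
  have hkv : (g'⁻¹ * g) • v = w := by rw [mul_smul, hgv, ← hgw, inv_smul_smul]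
  have hkx : (g'⁻¹ * g) • x = x := by rw [mul_smul, hgx, ← hgx', inv_smul_smul]
  refine ⟨g'⁻¹ * g, hkv, ?_⟩
  have hw' : w = -x - v := by rw [hx]; abel
  have e : (g'⁻¹ * g) • (-x - v) = -((g'⁻¹ * g) • x) - (g'⁻¹ * g) • v := by
    rw [Cfsg.Agent.Lib.Helper27.McL.co0_sub', Cfsg.Agent.Lib.Conway.co0_neg]
  conv_lhs => rw [hw', e, hkx, hkv]
  rw [hx]; abel

end Cfsg.Agent.S1585
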