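import Cfsg.Statements.S1591
import Cfsg.Agent.Lib.Helper27.TernaryGolay

set_option autoImplicit false
open Cfsg

namespace Cfsg.Agent.S1591

open Cfsg.Agent.Lib.Helper27

theorem dot_basis : ∀ k j : Fin 6, ∑ p, tbasis k p * tbasis j p = 0 := by decide

theorem dot_tenc (c c' : Fin 6 → ZMod 3) : ∑ p, tenc c p * tenc c' p = 0 := by
  simp only [tenc, Finset.sum_mul_sum]
  rw [Finset.sum_comm]
  apply Finset.sum_eq_zero
  intro k _
  rw [Finset.sum_comm]
  apply Finset.sum_eq_zero
  intro j _
  have : ∀ p, c k * tbasis k p * (c' j * tbasis j p) = (c k * c' j) * (tbasis k p * tbasis j p) := by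
    intro p; ring
  simp only [this, ← Finset.mul_sum, dot_basis, mul_zero]

/-- Any two words of the length-12 ternary code have dot product zero. -/
theorem result (x y : Cfsg.ArrayPt → ZMod 3) (hx : x ∈ Cfsg.ternaryGolayCode) (hy : y ∈ Cfsg.ternaryGolayCode) : ∑ p, x p * y p = 0 := by
  obtain ⟨c, rfl⟩ := (mem_iff_exists x).mp hx
  obtain ⟨c', rfl⟩ := (mem_iff_exists y).mp hy
  exact dot_tenc c c'

end Cfsg.Agent.S1591
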