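import Cfsg.Statements.S1592
import Cfsg.Agent.Lib.Helper27.TernaryHexads

set_option autoImplicit false
open Cfsg

namespace Cfsg.Agent.S1592

open Cfsg.Agent.Lib.Helper27

theorem set_eq : {h : Finset Cfsg.ArrayPt | ∃ x ∈ Cfsg.ternaryGolayCode, Cfsg.ternarySupport x = h ∧ h.card = 6} = (hexads : Set (Finset Cfsg.ArrayPt)) := by
  ext h
  rw [Finset.mem_coe, mem_hexads]
  rfl

/-- The supports of the weight-6 words of the length-12 ternary code form a Steiner system S(5, 6, 12) with 132 blocks. -/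
theorem result : Cfsg.IsSteinerSystem 5 6 {h : Finset Cfsg.ArrayPt | ∃ x ∈ Cfsg.ternaryGolayCode, Cfsg.ternarySupport x = h ∧ h.card = 6} ∧ {h : Finset Cfsg.ArrayPt | ∃ x ∈ Cfsg.ternaryGolayCode, Cfsg.ternarySupport x = h ∧ h.card = 6}.ncard = 132 := by
  rw [set_eq]
  refine ⟨⟨fun b hb => card_of_mem_hexads hb, fun s hs => ?_⟩, ?_⟩
  · obtain ⟨h, hh, hsh⟩ := hexads_exists hs
    refine ⟨h, ⟨hh, hsh⟩, ?_⟩
    rintro h' ⟨hh', hsh'⟩
    exact hexads_unique hh' hh hs hsh' hsh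
  · rw [Set.ncard_coe_finset, card_hexads]

end Cfsg.Agent.S1592
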