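import Cfsg.Statements.S1593
import Cfsg.Agent.Lib.Helper27.TernaryGolay

set_option autoImplicit false
open Cfsg

namespace Cfsg.Agent.S1593

open Cfsg.Agent.Lib.Helper27

theorem tbasis_tinfo : ∀ k j : Fin 6, tbasis k (tinfo j) = if k = j then 1 else 0 := by decide

theorem chain : ∀ p : Cfsg.ArrayPt, (∃ k, tbasis k p ≠ 0 ∧ tbasis k (1, 2) ≠ 0) ∨ p = (2, 0) := by decide

theorem units3 : ∀ u : (ZMod 3)ˣ, u = 1 ∨ u = -1 := by decide

theorem key (c : Cfsg.ArrayPt → (ZMod 3)ˣ)
    (h : ∀ x ∈ Cfsg.ternaryGolayCode, Cfsg.monomialMap 1 c x ∈ Cfsg.ternaryGolayCode)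
    (k : Fin 6) (p : Cfsg.ArrayPt) (hp : tbasis k p ≠ 0) : c p = c (tinfo k) := by
  have h1 := eq_tenc_of_mem (h _ (tbasis_mem k))
  have h2 := congrFun h1 p
  have e1 : (1 : Equiv.Perm Cfsg.ArrayPt).symm = 1 := rfl
  simp only [Cfsg.monomialMap, e1, Equiv.Perm.coe_one, id_eq, tenc,
    tbasis_tinfo] at h2
  simp only [mul_ite, mul_one, mul_zero, ite_mul, zero_mul, Finset.sum_ite_eq, Finset.mem_univ,
    if_true] at h2
  exact Units.ext (mul_right_cancel₀ hp h2)

/-- The only sign changes preserving the length-12 ternary code are the identity and negation of all coordinates. -/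
theorem result (c : Cfsg.ArrayPt → (ZMod 3)ˣ) (h : (∀ x ∈ Cfsg.ternaryGolayCode, Cfsg.monomialMap 1 c x ∈ Cfsg.ternaryGolayCode)) : (∀ p, c p = 1) ∨ (∀ p, c p = -1) := by
  have hall : ∀ p, c p = c (1, 2) := by
    have h5 : c (2, 1) = c (1, 2) := by
      rw [key c h 1 (2, 1) (by decide), key c h 1 (1, 2) (by decide)]
    intro p
    rcases chain p with ⟨k, hk1, hk2⟩ | rfl
    · rw [key c h k p hk1, key c h k (1, 2) hk2]
    · rw [← h5]
      have := key c h 5 (2, 1) (by decide)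
      rw [this]
      rfl
  rcases units3 (c (1, 2)) with h1 | h1
  · left; intro p; rw [hall p, h1]
  · right; intro p; rw [hall p, h1]

end Cfsg.Agent.S1593
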