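import Mathlib
import Cfsg.Statements.S1595
import Cfsg.Agent.Lib.Helper6.Steiner

set_option autoImplicit false
open Cfsg

namespace Cfsg.Agent.S1595

open Finset Cfsg.Agent.Lib.Helper6.Steiner

section

variable {α : Type*} [Fintype α] [DecidableEq α] {B : Set (Finset α)}

/-- the number of blocks meeting `b` exactly in `s` -/
noncomputable def nx (B : Set (Finset α)) (b s : Finset α) : ℕ :=
  ((blocks B).filter (fun c => b ∩ c = s)).card

/-- the number of blocks through `s` -/
noncomputable def lam (B : Set (Finset α)) (s : Finset α) : ℕ :=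
  ((blocks B).filter (s ⊆ ·)).card

theorem lam_eq_sum (b s : Finset α) (hs : s ⊆ b) :
    lam B s = ∑ s' ∈ (b.powerset).filter (s ⊆ ·), nx B b s' := by
  unfold lam nx
  have hmaps : ∀ c ∈ (blocks B).filter (s ⊆ ·), b ∩ c ∈ (b.powerset).filter (s ⊆ ·) := by
    intro c hc
    rw [mem_filter] at hc
    rw [mem_filter, mem_powerset]
    exact ⟨inter_subset_left, subset_inter hs hc.2⟩
  rw [card_eq_sum_card_fiberwise hmaps]
  apply sum_congr rfl
  intro s' hs'
  rw [mem_filter] at hs'
  congr 1
  ext c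
  simp only [mem_filter]
  constructor
  · rintro ⟨⟨h1, _⟩, h3⟩
    exact ⟨h1, h3⟩
  · rintro ⟨h1, h3⟩
    refine ⟨⟨h1, ?_⟩, h3⟩
    rw [← h3] at hs'
    exact hs'.2.trans inter_subset_right

theorem sum_split (b s : Finset α) (hs : s ⊆ b) (hb : b.card = 6) (N : ℕ → ℕ)
    (hN : ∀ s', s ⊆ s' → s' ⊆ b → s' ≠ s → nx B b s' = N s'.card) :
    lam B s = nx B b s +
      ∑ j ∈ Finset.Ioc s.card 6, Nat.choose (6 - s.card) (j - s.card) * N j := by
  rw [lam_eq_sum b s hs]
  have hsP : s ∈ (b.powerset).filter (s ⊆ ·) := by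
    rw [mem_filter, mem_powerset]
    exact ⟨hs, subset_rfl⟩
  rw [← add_sum_erase _ _ hsP]
  congr 1
  have hmaps : ∀ s' ∈ ((b.powerset).filter (s ⊆ ·)).erase s, s'.card ∈ Finset.Ioc s.card 6 := by
    intro s' hs'
    rw [mem_erase, mem_filter, mem_powerset] at hs'
    rw [Finset.mem_Ioc]
    constructor
    · exact card_lt_card (lt_of_le_of_ne hs'.2.2 (Ne.symm hs'.1))
    · rw [← hb]
      exact card_le_card hs'.2.1
  rw [← sum_fiberwise_of_maps_to hmaps]
  apply sum_congr rfl
  intro j hj
  rw [Finset.mem_Ioc] at hj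
  have hset : (((b.powerset).filter (s ⊆ ·)).erase s).filter (fun s' => s'.card = j) =
      (powersetCard j b).filter (s ⊆ ·) := by
    ext s'
    simp only [mem_filter, mem_erase, mem_powerset, mem_powersetCard]
    constructor
    · rintro ⟨⟨_, h2, h3⟩, h4⟩
      exact ⟨⟨h2, h4⟩, h3⟩
    · rintro ⟨⟨h2, h4⟩, h3⟩
      refine ⟨⟨?_, h2, h3⟩, h4⟩
      rintro rfl
      omega
  have hval : ∀ s' ∈ (((b.powerset).filter (s ⊆ ·)).erase s).filter (fun s' => s'.card = j),
      nx B b s' = N j := by
    intro s' hs'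
    rw [mem_filter, mem_erase, mem_filter, mem_powerset] at hs'
    rw [hN s' hs'.1.2.2 hs'.1.2.1 hs'.1.1, hs'.2]
  rw [sum_congr rfl hval, sum_const, smul_eq_mul, hset,
    card_filter_powersetCard_subset s b j hs hj.1.le, hb]

variable (hα : Fintype.card α = 12) (hB : Cfsg.IsSteinerSystem 5 6 B) (b : Finset α) (hb : b ∈ B)

include hα hB in
theorem lam_val (s : Finset α) (hs : s.card ≤ 5) :
    lam B s * Nat.choose (6 - s.card) (5 - s.card) = Nat.choose (12 - s.card) (5 - s.card) := by
  have := card_blocks_containing hB s hs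
  rw [hα] at this
  exact this

include hB hb in
theorem nx_six (s : Finset α) (hs : s ⊆ b) (h6 : s.card = 6) : nx B b s = 1 := by
  have hsb : s = b := eq_of_subset_of_card_le hs (by rw [h6, hB.1 b hb])
  subst hsb
  unfold nx
  rw [card_eq_one]
  refine ⟨s, ?_⟩
  ext c
  rw [mem_filter, mem_singleton, mem_blocks]
  constructor
  · rintro ⟨hc, hci⟩
    have hsc : s ⊆ c := by
      rw [← hci]
      exact inter_subset_right
    exact (eq_of_subset_of_card_le hsc (by rw [hB.1 c hc, hB.1 s hb])).symm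
  · rintro rfl
    exact ⟨hb, inter_self c⟩

include hB hb in
theorem nx_five (s : Finset α) (h5 : s.card = 5) : nx B b s = 0 := by
  unfold nx
  rw [card_eq_zero, filter_eq_empty_iff]
  intro c hc hci
  rw [mem_blocks] at hc
  by_cases hcb : c = b
  · subst hcb
    rw [inter_self] at hci
    rw [← hci, hB.1 c hc] at h5
    omega
  · have := inter_card_lt hB hb hc hcb
    rw [inter_comm, hci, h5] at this
    omega

include hα hB hb in
theorem nx_four (s : Finset α) (hs : s ⊆ b) (h4 : s.card = 4) : nx B b s = 3 := by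
  have hb6 := hB.1 b hb
  have h1 := sum_split (B := B) b s hs hb6 (fun j => if j = 6 then 1 else 0) (by
    intro s' h1 h2 h3
    have hlt : s.card < s'.card := card_lt_card (lt_of_le_of_ne h1 (Ne.symm h3))
    have hle : s'.card ≤ 6 := by rw [← hb6]; exact card_le_card h2
    have : s'.card = 5 ∨ s'.card = 6 := by omega
    rcases this with h | h
    · rw [nx_five hB b hb s' h, h]
      rfl
    · rw [nx_six hB b hb s' h2 h, h]
      rfl)
  have h2 := lam_val hα hB s (by omega)
  rw [h4] at h1 h2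
  have h3 : Finset.Ioc 4 6 = {5, 6} := by decide
  rw [h3] at h1
  simp at h1 h2
  omega

include hα hB hb in
theorem nx_three (s : Finset α) (hs : s ⊆ b) (h3 : s.card = 3) : nx B b s = 2 := by
  have hb6 := hB.1 b hb
  have h1 := sum_split (B := B) b s hs hb6
    (fun j => if j = 6 then 1 else if j = 4 then 3 else 0) (by
    intro s' h1 h2 h3'
    have hlt : s.card < s'.card := card_lt_card (lt_of_le_of_ne h1 (Ne.symm h3'))
    have hle : s'.card ≤ 6 := by rw [← hb6]; exact card_le_card h2
    have : s'.card = 4 ∨ s'.card = 5 ∨ s'.card = 6 := by omega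
    rcases this with h | h | h
    · rw [nx_four hα hB b hb s' h2 h, h]
      rfl
    · rw [nx_five hB b hb s' h, h]
      rfl
    · rw [nx_six hB b hb s' h2 h, h]
      rfl)
  have h2 := lam_val hα hB s (by omega)
  rw [h3] at h1 h2
  have h4 : Finset.Ioc 3 6 = {4, 5, 6} := by decide
  rw [h4] at h1
  simp [Nat.choose] at h1 h2
  omega

include hα hB hb in
theorem nx_two (s : Finset α) (hs : s ⊆ b) (h2' : s.card = 2) : nx B b s = 3 := by
  have hb6 := hB.1 b hb
  have h1 := sum_split (B := B) b s hs hb6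
    (fun j => if j = 6 then 1 else if j = 4 then 3 else if j = 3 then 2 else 0) (by
    intro s' h1 h2 h3'
    have hlt : s.card < s'.card := card_lt_card (lt_of_le_of_ne h1 (Ne.symm h3'))
    have hle : s'.card ≤ 6 := by rw [← hb6]; exact card_le_card h2
    have : s'.card = 3 ∨ s'.card = 4 ∨ s'.card = 5 ∨ s'.card = 6 := by omega
    rcases this with h | h | h | h
    · rw [nx_three hα hB b hb s' h2 h, h]
      rfl
    · rw [nx_four hα hB b hb s' h2 h, h]
      rfl
    · rw [nx_five hB b hb s' h, h]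
      rfl
    · rw [nx_six hB b hb s' h2 h, h]
      rfl)
  have h2 := lam_val hα hB s (by omega)
  rw [h2'] at h1 h2
  have h4 : Finset.Ioc 2 6 = {3, 4, 5, 6} := by decide
  rw [h4] at h1
  simp [Nat.choose] at h1 h2
  omega

include hα hB hb in
theorem nx_one (s : Finset α) (hs : s ⊆ b) (h1' : s.card = 1) : nx B b s = 0 := by
  have hb6 := hB.1 b hb
  have h1 := sum_split (B := B) b s hs hb6
    (fun j => if j = 6 then 1 else if j = 4 then 3 else if j = 3 then 2 else if j = 2 then 3
      else 0) (by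
    intro s' h1 h2 h3'
    have hlt : s.card < s'.card := card_lt_card (lt_of_le_of_ne h1 (Ne.symm h3'))
    have hle : s'.card ≤ 6 := by rw [← hb6]; exact card_le_card h2
    have : s'.card = 2 ∨ s'.card = 3 ∨ s'.card = 4 ∨ s'.card = 5 ∨ s'.card = 6 := by omega
    rcases this with h | h | h | h | h
    · rw [nx_two hα hB b hb s' h2 h, h]
      rfl
    · rw [nx_three hα hB b hb s' h2 h, h]
      rfl
    · rw [nx_four hα hB b hb s' h2 h, h]
      rfl
    · rw [nx_five hB b hb s' h, h]
      rfl
    · rw [nx_six hB b hb s' h2 h, h]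
      rfl)
  have h2 := lam_val hα hB s (by omega)
  rw [h1'] at h1 h2
  have h4 : Finset.Ioc 1 6 = {2, 3, 4, 5, 6} := by decide
  rw [h4] at h1
  simp [Nat.choose] at h1 h2
  omega

end

/-- Leech triangle of S(5, 6, 12): blocks meet in 0, 2, 3 or 4 points, and a block is met exactly in a given 2-, 3- or 4-subset by 3, 2, 3 blocks respectively. -/
theorem result {α : Type*} [Fintype α] [DecidableEq α] (hα : Fintype.card α = 12) {B : Set (Finset α)} (hB : Cfsg.IsSteinerSystem 5 6 B) (b : Finset α) (hb : b ∈ B) : (∀ c ∈ B, c ≠ b → (b ∩ c).card = 0 ∨ (b ∩ c).card = 2 ∨ (b ∩ c).card = 3 ∨ (b ∩ c).card = 4) ∧ ∀ s ⊆ b, (s.card = 2 → {c : Finset α | c ∈ B ∧ b ∩ c = s}.ncard = 3) ∧ (s.card = 3 → {c : Finset α | c ∈ B ∧ b ∩ c = s}.ncard = 2) ∧ (s.card = 4 → {c : Finset α | c ∈ B ∧ b ∩ c = s}.ncard = 3) := by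
  constructor
  · intro c hc hcb
    have hlt := inter_card_lt hB hb hc hcb
    rw [inter_comm] at hlt
    have hne1 : (b ∩ c).card ≠ 1 := by
      intro h1
      have h0 := nx_one hα hB b hb (b ∩ c) inter_subset_left h1
      unfold nx at h0
      rw [card_eq_zero, filter_eq_empty_iff] at h0
      exact h0 ((mem_blocks).2 hc) rfl
    omega
  · intro s hs
    refine ⟨fun h => ?_, fun h => ?_, fun h => ?_⟩
    · rw [ncard_sep_eq (fun c => b ∩ c = s)]
      exact nx_two hα hB b hb s hs h
    · rw [ncard_sep_eq (fun c => b ∩ c = s)]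
      exact nx_three hα hB b hb s hs h
    · rw [ncard_sep_eq (fun c => b ∩ c = s)]
      exact nx_four hα hB b hb s hs h

end Cfsg.Agent.S1595
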