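import Cfsg.Statements.S1596
import Cfsg.Agent.Lib.Helper27.DQuart

set_option autoImplicit false
open scoped Pointwise
open Cfsg

namespace Cfsg.Agent.S1596

open Cfsg.Agent.Lib.Helper27 Cfsg.Agent.Lib.Helper26 Cfsg.Agent.Lib.Helper27.DQuart

theorem exist_check : tripL.all (fun a => tripL.all (fun b =>
    !(decide (a < b) && isHex (a ||| b)) ||
      cQ.elems.any (fun l => l.contains a && l.contains b))) = true := by
  decide +kernel

theorem uniq_check : cQ.elems.all (fun l => cQ.elems.all (fun l' =>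
    (l == l') || decide ((l.filter (fun x => l'.contains x)).length ≤ 1))) = true := by
  decide +kernel

theorem two_le_filter_length {l : List ℕ} (p : ℕ → Bool) {a b : ℕ} (ha : a ∈ l) (hb : b ∈ l)
    (hab : a ≠ b) (pa : p a = true) (pb : p b = true) : 2 ≤ (l.filter p).length := by
  have h1 : ({a, b} : Finset ℕ) ⊆ (l.filter p).toFinset := by
    intro x hx
    simp only [Finset.mem_insert, Finset.mem_singleton] at hx
    rcases hx with rfl | rfl
    · simp [ha, pa]
    · simp [hb, pb]
  calc 2 = ({a, b} : Finset ℕ).card := (Finset.card_pair hab).symm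
    _ ≤ (l.filter p).toFinset.card := Finset.card_le_card h1
    _ ≤ (l.filter p).length := List.toFinset_card_le _

theorem exists_of_lt {a b : ℕ} (ha : a ∈ tripL) (hb : b ∈ tripL) (hab : a < b)
    (hx : isHex (a ||| b) = true) : ∃ l ∈ cQ.elems, a ∈ l ∧ b ∈ l := by
  have c := exist_check
  simp only [List.all_eq_true, Bool.or_eq_true, Bool.not_eq_true', Bool.and_eq_false_iff,
    decide_eq_false_iff_not, List.any_eq_true, Bool.and_eq_true, List.contains_iff_mem] at c
  rcases c a ha b hb with h | h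
  · rcases h with h | h
    · exact absurd hab h
    · rw [hx] at h; exact absurd h (by simp)
  · exact h

theorem base_unique (t u : Finset GolayPt) (ht : t.card = 3) (hu : u.card = 3)
    (htu : Disjoint t u) (hh : t ∪ u ∈ hexadsOn (dec dod0)) :
    ∃! Q : Finset (Finset GolayPt), Q ∈ quartets (dec dod0) ∧ t ∈ Q ∧ u ∈ Q := by
  have hsub : t ∪ u ⊆ dec dod0 := by
    obtain ⟨-, o, -, ho⟩ := hh
    rw [← ho]; exact Finset.inter_subset_right
  have hts : t ⊆ dec dod0 := Finset.union_subset_left hsub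
  have hus : u ⊆ dec dod0 := Finset.union_subset_right hsub
  have ha := enc_mem_tripL ht hts
  have hb := enc_mem_tripL hu hus
  have hne : enc t ≠ enc u := by
    intro h
    have h2 : t = u := by rw [← dec_enc t, ← dec_enc u, h]
    subst h2
    rw [disjoint_self, Finset.bot_eq_empty] at htu
    rw [htu] at ht
    simp at ht
  have hx : isHex (enc t ||| enc u) = true := by
    apply isHex_of_mem (enc_lt t) (enc_lt u)
    rw [dec_enc, dec_enc]; exact hh
  have hex : ∃ l ∈ cQ.elems, enc t ∈ l ∧ enc u ∈ l := by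
    rcases lt_or_gt_of_ne hne with h | h
    · exact exists_of_lt ha hb h hx
    · rw [Nat.lor_comm] at hx
      obtain ⟨l, hl, h1, h2⟩ := exists_of_lt hb ha h hx
      exact ⟨l, hl, h2, h1⟩
  obtain ⟨l, hl, hal, hbl⟩ := hex
  have hlq := List.all_eq_true.mp cQ_quartets l hl
  have hlc : isCanon l = true := by
    simp only [isQuartetL, Bool.and_eq_true] at hlq
    exact hlq.1.1.1
  refine ⟨decQ l, ⟨quartet_of_check hlq, ?_, ?_⟩, ?_⟩
  · rw [← dec_enc t]; exact (dec_mem_decQ_iff hlc (enc_lt t)).mpr hal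
  · rw [← dec_enc u]; exact (dec_mem_decQ_iff hlc (enc_lt u)).mpr hbl
  · rintro Q' ⟨hQ', htQ', huQ'⟩
    obtain ⟨l', hl', rfl⟩ := quartets_complete hQ'
    have hlq' := List.all_eq_true.mp cQ_quartets l' hl'
    have hlc' : isCanon l' = true := by
      simp only [isQuartetL, Bool.and_eq_true] at hlq'
      exact hlq'.1.1.1
    rw [← dec_enc t, dec_mem_decQ_iff hlc' (enc_lt t)] at htQ'
    rw [← dec_enc u, dec_mem_decQ_iff hlc' (enc_lt u)] at huQ'
    have c := List.all_eq_true.mp (List.all_eq_true.mp uniq_check l hl) l' hl'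
    simp only [Bool.or_eq_true, beq_iff_eq, decide_eq_true_eq] at c
    rcases c with c | c
    · rw [c]
    · have := two_le_filter_length (fun x => l'.contains x) hal hbl hne
        (List.contains_iff_mem.mpr htQ') (List.contains_iff_mem.mpr huQ')
      omega

/-- A quartet of a dodecad is determined by any two of its triples: two disjoint triples uniting to a hexad extend to exactly one quartet. -/
theorem result (d : Finset Cfsg.GolayPt) (hd : d ∈ Cfsg.dodecads) (t u : Finset Cfsg.GolayPt) (ht : t.card = 3) (hu : u.card = 3) (htu : Disjoint t u) (hh : t ∪ u ∈ Cfsg.hexadsOn d) : ∃! Q : Finset (Finset Cfsg.GolayPt), Q ∈ Cfsg.quartets d ∧ t ∈ Q ∧ u ∈ Q := by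
  obtain ⟨g0, hg0, rfl⟩ := dodecads_transitive d hd
  have hgi := M24.inv_mem hg0
  have hh' : g0⁻¹ • t ∪ g0⁻¹ • u ∈ hexadsOn (dec dod0) := by
    rw [← Finset.smul_finset_union, ← smul_mem_hexadsOn_iff hg0, smul_inv_smul]
    exact hh
  obtain ⟨Q, ⟨hQ, htQ, huQ⟩, huniq⟩ := base_unique (g0⁻¹ • t) (g0⁻¹ • u)
    (by rw [Finset.card_smul_finset]; exact ht) (by rw [Finset.card_smul_finset]; exact hu)
    (by rw [smul_disjoint_iff]; exact htu) hh'
  refine ⟨g0 • Q, ⟨smul_mem_quartets hg0 hQ, ?_, ?_⟩, ?_⟩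
  · have := Finset.smul_mem_smul_finset (a := g0) htQ
    rwa [smul_inv_smul] at this
  · have := Finset.smul_mem_smul_finset (a := g0) huQ
    rwa [smul_inv_smul] at this
  · rintro Q' ⟨hQ', htQ', huQ'⟩
    have := huniq (g0⁻¹ • Q') ⟨?_, Finset.smul_mem_smul_finset htQ', Finset.smul_mem_smul_finset huQ'⟩
    · rw [← this, smul_inv_smul]
    · rw [← smul_mem_quartets_iff hg0, smul_inv_smul]; exact hQ'

end Cfsg.Agent.S1596
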