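import Cfsg.Statements.S1597
import Cfsg.Agent.Lib.Helper27.DQuart

set_option autoImplicit false
open scoped Pointwise
open Cfsg

namespace Cfsg.Agent.S1597

open Cfsg.Agent.Lib.Helper27 Cfsg.Agent.Lib.Helper26 Cfsg.Agent.Lib.Helper27.DQuart

/-- A dodecad has 220 quartets and its stabiliser is transitive on them. -/
theorem result (d : Finset Cfsg.GolayPt) (hd : d ∈ Cfsg.dodecads) : (Cfsg.quartets d).ncard = 220 ∧ ∀ Q ∈ Cfsg.quartets d, ∀ Q' ∈ Cfsg.quartets d, ∃ g : Equiv.Perm Cfsg.GolayPt, g ∈ Cfsg.M24 ∧ g • d = d ∧ g • Q = Q' := by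
  obtain ⟨g0, hg0, rfl⟩ := dodecads_transitive d hd
  refine ⟨?_, ?_⟩
  · rw [← ncard_quartets_d0]
    exact ncard_smul_transport' g0 (fun Q => Q ∈ quartets (dec dod0))
      (fun Q => Q ∈ quartets (g0 • dec dod0)) (fun Q => smul_mem_quartets_iff hg0 _ Q)
  · intro Q hQ Q' hQ'
    have h1 : g0⁻¹ • Q ∈ quartets (dec dod0) := by
      rw [← smul_mem_quartets_iff hg0, smul_inv_smul]; exact hQ
    have h2 : g0⁻¹ • Q' ∈ quartets (dec dod0) := by
      rw [← smul_mem_quartets_iff hg0, smul_inv_smul]; exact hQ'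
    obtain ⟨k, hk, hkQ⟩ := quartets_d0_transitive h1
    obtain ⟨k', hk', hkQ'⟩ := quartets_d0_transitive h2
    obtain ⟨hkM, hkd⟩ := mem_stabIn.mp hk
    obtain ⟨hkM', hkd'⟩ := mem_stabIn.mp hk'
    refine ⟨g0 * k' * k⁻¹ * g0⁻¹, ?_, ?_, ?_⟩
    · exact M24.mul_mem (M24.mul_mem (M24.mul_mem hg0 hkM') (M24.inv_mem hkM)) (M24.inv_mem hg0)
    · rw [mul_smul, mul_smul, mul_smul, inv_smul_smul]
      have : k⁻¹ • dec dod0 = dec dod0 := by rw [inv_smul_eq_iff, hkd]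
      rw [this, hkd']
    · rw [mul_smul, mul_smul, mul_smul, ← hkQ, inv_smul_smul, hkQ', smul_inv_smul]

end Cfsg.Agent.S1597
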