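import Cfsg.Statements.S1598
import Cfsg.Agent.Lib.Helper27.D1598

set_option autoImplicit false
open scoped Pointwise
open Cfsg

namespace Cfsg.Agent.S1598

open Cfsg.Agent.Lib.Helper27 Cfsg.Agent.Lib.Helper26 Cfsg.Agent.Lib.Helper27.DQuart Cfsg.Agent.Lib.Helper27.D1598

/-- conjugation by an element of `M24` carries the base quartet stabiliser to the stabiliser of the
image configuration. -/
def conjE (g0 : Equiv.Perm GolayPt) (hg0 : g0 ∈ M24) :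
    ↥H0 ≃* ↥(MulAction.stabilizer M24 (g0 • dec dod0) ⊓ MulAction.stabilizer M24 (g0 • decQ q0)) where
  toFun h := ⟨⟨g0 * h.1 * g0⁻¹,
      M24.mul_mem (M24.mul_mem hg0 (mem_stabIn.mp (Subgroup.mem_inf.mp h.2).1).1) (M24.inv_mem hg0)⟩, by
    refine Subgroup.mem_inf.mpr ⟨MulAction.mem_stabilizer_iff.mpr ?_,
      MulAction.mem_stabilizer_iff.mpr ?_⟩
    · show (g0 * h.1 * g0⁻¹) • (g0 • dec dod0) = g0 • dec dod0
      rw [mul_smul, mul_smul, inv_smul_smul, (mem_stabIn.mp (Subgroup.mem_inf.mp h.2).1).2]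
    · show (g0 * h.1 * g0⁻¹) • (g0 • decQ q0) = g0 • decQ q0
      rw [mul_smul, mul_smul, inv_smul_smul, (mem_stabIn.mp (Subgroup.mem_inf.mp h.2).2).2]⟩
  invFun k := ⟨g0⁻¹ * k.1.1 * g0, by
    have hk := Subgroup.mem_inf.mp k.2
    have hk1 : k.1.1 • (g0 • dec dod0) = g0 • dec dod0 := MulAction.mem_stabilizer_iff.mp hk.1
    have hk2 : k.1.1 • (g0 • decQ q0) = g0 • decQ q0 := MulAction.mem_stabilizer_iff.mp hk.2
    have hM : g0⁻¹ * k.1.1 * g0 ∈ M24 := M24.mul_mem (M24.mul_mem (M24.inv_mem hg0) k.1.2) hg0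
    refine Subgroup.mem_inf.mpr ⟨mem_stabIn.mpr ⟨hM, ?_⟩, mem_stabIn.mpr ⟨hM, ?_⟩⟩
    · rw [mul_smul, mul_smul, hk1, inv_smul_smul]
    · rw [mul_smul, mul_smul, hk2, inv_smul_smul]⟩
  left_inv h := by
    apply Subtype.ext
    show g0⁻¹ * (g0 * h.1 * g0⁻¹) * g0 = h.1
    group
  right_inv k := by
    apply Subtype.ext
    apply Subtype.ext
    show g0 * (g0⁻¹ * k.1.1 * g0) * g0⁻¹ = k.1.1
    group
  map_mul' a b := by
    apply Subtype.ext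
    apply Subtype.ext
    show g0 * (a.1 * b.1) * g0⁻¹ = (g0 * a.1 * g0⁻¹) * (g0 * b.1 * g0⁻¹)
    group

theorem conjE_coe (g0 : Equiv.Perm GolayPt) (hg0 : g0 ∈ M24) (h : ↥H0) :
    ((conjE g0 hg0 h : ↥M24) : Equiv.Perm GolayPt) = g0 * h.1 * g0⁻¹ := rfl

theorem transport (g0 : Equiv.Perm GolayPt) (hg0 : g0 ∈ M24) :
    Nat.card ↥(MulAction.stabilizer Cfsg.M24 (g0 • dec dod0) ⊓ MulAction.stabilizer Cfsg.M24 (g0 • decQ q0)) = 432 ∧ (∃ (N : Subgroup ↥(MulAction.stabilizer Cfsg.M24 (g0 • dec dod0) ⊓ MulAction.stabilizer Cfsg.M24 (g0 • decQ q0))) (_ : N.Normal), Nat.card N = 9 ∧ Nonempty (↥(MulAction.stabilizer Cfsg.M24 (g0 • dec dod0) ⊓ MulAction.stabilizer Cfsg.M24 (g0 • decQ q0)) ⧸ N ≃* GL (Fin 2) (ZMod 3))) ∧ ∀ p ∈ g0 • dec dod0, ∀ q ∈ g0 • dec dod0, ∃ g ∈ (MulAction.stabilizer Cfsg.M24 (g0 • dec dod0) ⊓ MulAction.stabilizer Cfsg.M24 (g0 • decQ q0)), ((g : ↥Cfsg.M24)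 : Equiv.Perm Cfsg.GolayPt) p = q := by
  refine ⟨?_, ?_, ?_⟩
  · rw [← card_H0]
    exact (Nat.card_congr (conjE g0 hg0).toEquiv).symm
  · obtain ⟨φ, hsurj, hker⟩ := exists_hom
    have hnorm : (φ.ker.map (conjE g0 hg0).toMonoidHom).Normal :=
      Subgroup.Normal.map (MonoidHom.normal_ker φ) _ (conjE g0 hg0).surjective
    refine ⟨φ.ker.map (conjE g0 hg0).toMonoidHom, hnorm, ?_, ?_⟩
    · rw [Subgroup.card_map_of_injective (conjE g0 hg0).injective, hker, card_N0]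
    · exact ⟨(QuotientGroup.congr φ.ker (φ.ker.map (conjE g0 hg0).toMonoidHom) (conjE g0 hg0)
        rfl).symm.trans (QuotientGroup.quotientKerEquivOfSurjective φ hsurj)⟩
  · intro p hp q hq
    rw [← Finset.inv_smul_mem_iff] at hp hq
    obtain ⟨h, hh, hpq⟩ := H0_trans _ _ hp hq
    refine ⟨(conjE g0 hg0 ⟨h, hh⟩).1, (conjE g0 hg0 ⟨h, hh⟩).2, ?_⟩
    rw [conjE_coe]
    show g0 (h (g0⁻¹ p)) = q
    have : h (g0⁻¹ p) = g0⁻¹ q := hpq
    rw [this]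
    simp


/-- A quartet stabiliser inside the dodecad stabiliser has order 432, a normal subgroup of order 9 with quotient GL(2, 3), and is transitive on the dodecad. -/
theorem result (d : Finset Cfsg.GolayPt) (hd : d ∈ Cfsg.dodecads) (Q : Finset (Finset Cfsg.GolayPt)) (hQ : Q ∈ Cfsg.quartets d) : Nat.card ↥(MulAction.stabilizer Cfsg.M24 d ⊓ MulAction.stabilizer Cfsg.M24 Q) = 432 ∧ (∃ (N : Subgroup ↥(MulAction.stabilizer Cfsg.M24 d ⊓ MulAction.stabilizer Cfsg.M24 Q)) (_ : N.Normal), Nat.card N = 9 ∧ Nonempty (↥(MulAction.stabilizer Cfsg.M24 d ⊓ MulAction.stabilizer Cfsg.M24 Q) ⧸ N ≃* GL (Fin 2) (ZMod 3))) ∧ ∀ p ∈ d, ∀ q ∈ d, ∃ g ∈ (MulAction.stabilizer Cfsg.M24 d ⊓ MulAction.stabilizer Cfsg.M24 Q), ((g : ↥Cfsg.M24) : Equiv.Perm Cfsg.GolayPt) p = q := by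
  obtain ⟨g1, hg1, rfl⟩ := dodecads_transitive d hd
  have h1 : g1⁻¹ • Q ∈ quartets (dec dod0) := by
    rw [← smul_mem_quartets_iff hg1, smul_inv_smul]; exact hQ
  obtain ⟨k, hk, hkQ⟩ := quartets_d0_transitive h1
  obtain ⟨hkM, hkd⟩ := mem_stabIn.mp hk
  have hg0 : g1 * k ∈ M24 := M24.mul_mem hg1 hkM
  have hd0 : g1 • dec dod0 = (g1 * k) • dec dod0 := by rw [mul_smul, hkd]
  have hQ0 : Q = (g1 * k) • decQ q0 := by rw [mul_smul, hkQ, smul_inv_smul]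
  rw [hd0]
  subst hQ0
  generalize g1 * k = g0 at hg0 ⊢
  exact transport g0 hg0

end Cfsg.Agent.S1598
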