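import Cfsg.Statements.S1599
import Cfsg.Agent.Lib.Helper27.DQuart

set_option autoImplicit false
open scoped Pointwise
open Cfsg

namespace Cfsg.Agent.S1599

open Cfsg.Agent.Lib.Helper27 Cfsg.Agent.Lib.Helper26 Cfsg.Agent.Lib.Helper27.DQuart

/-- A quartet stabiliser has five orbits on the quartets of its dodecad, of sizes 1, 12, 27, 72, 108. -/
theorem result (d : Finset Cfsg.GolayPt) (hd : d ∈ Cfsg.dodecads) (Q : Finset (Finset Cfsg.GolayPt)) (hQ : Q ∈ Cfsg.quartets d) : ∃ X₁ ∈ Cfsg.quartets d, ∃ X₂ ∈ Cfsg.quartets d, ∃ X₃ ∈ Cfsg.quartets d, ∃ X₄ ∈ Cfsg.quartets d, (MulAction.orbit ↥(MulAction.stabilizer Cfsg.M24 d ⊓ MulAction.stabilizer Cfsg.M24 Q) X₁).ncard = 12 ∧ (MulAction.orbit ↥(MulAction.stabilizer Cfsg.M24 d ⊓ MulAction.stabilizer Cfsg.M24 Q) X₂).ncard = 27 ∧ (MulAction.orbit ↥(MulAction.stabilizer Cfsg.M24 d ⊓ MulAction.stabilizer Cfsg.M24 Q) X₃).ncard = 72 ∧ (MulAction.orbit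 ↥(MulAction.stabilizer Cfsg.M24 d ⊓ MulAction.stabilizer Cfsg.M24 Q) X₄).ncard = 108 ∧ Cfsg.quartets d = {Q} ∪ MulAction.orbit ↥(MulAction.stabilizer Cfsg.M24 d ⊓ MulAction.stabilizer Cfsg.M24 Q) X₁ ∪ MulAction.orbit ↥(MulAction.stabilizer Cfsg.M24 d ⊓ MulAction.stabilizer Cfsg.M24 Q) X₂ ∪ MulAction.orbit ↥(MulAction.stabilizer Cfsg.M24 d ⊓ MulAction.stabilizer Cfsg.M24 Q) X₃ ∪ MulAction.orbit ↥(MulAction.stabilizer Cfsg.M24 d ⊓ MulAction.stabilizer Cfsg.M24 Q) X₄ := by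
  obtain ⟨g1, hg1, rfl⟩ := dodecads_transitive d hd
  have h1 : g1⁻¹ • Q ∈ quartets (dec dod0) := by
    rw [← smul_mem_quartets_iff hg1, smul_inv_smul]; exact hQ
  obtain ⟨k, hk, hkQ⟩ := quartets_d0_transitive h1
  obtain ⟨hkM, hkd⟩ := mem_stabIn.mp hk
  have hg0 : g1 * k ∈ M24 := M24.mul_mem hg1 hkM
  have hd0 : g1 • dec dod0 = (g1 * k) • dec dod0 := by rw [mul_smul, hkd]
  have hQ0 : Q = (g1 * k) • decQ q0 := by rw [mul_smul, hkQ, smul_inv_smul]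
  rw [hd0]
  subst hQ0
  generalize g1 * k = g0 at hg0 ⊢
  have hX := baseX
  simp only [cwX, List.map_cons, List.map_nil, List.mem_cons, List.not_mem_nil, or_false,
    forall_eq_or_imp, forall_eq, exists_eq_or_imp, exists_eq_left] at hX
  obtain ⟨⟨⟨hE0, -⟩, ⟨-, hX1⟩, ⟨-, hX2⟩, ⟨-, hX3⟩, ⟨-, hX4⟩⟩, hXU⟩ := hX
  have hsing : orbK (stabIn (dec dod0) ⊓ stabIn (decQ q0)) (decQ cX0.rep) = {decQ q0} := by
    rw [hE0, cX0_eq.2]
    ext y
    simp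
  refine ⟨g0 • decQ cX1.rep, ?_, g0 • decQ cX2.rep, ?_, g0 • decQ cX3.rep, ?_, g0 • decQ cX4.rep, ?_,
    ?_, ?_, ?_, ?_, ?_⟩
  · exact smul_mem_quartets hg0 ((hXU _).mpr (Or.inr (Or.inl (self_mem_orbK _ _))))
  · exact smul_mem_quartets hg0 ((hXU _).mpr (Or.inr (Or.inr (Or.inl (self_mem_orbK _ _)))))
  · exact smul_mem_quartets hg0 ((hXU _).mpr (Or.inr (Or.inr (Or.inr (Or.inl (self_mem_orbK _ _))))))
  · exact smul_mem_quartets hg0 ((hXU _).mpr (Or.inr (Or.inr (Or.inr (Or.inr (self_mem_orbK _ _))))))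
  · rw [orbit_stab_inf_eq, orbK_stabIn_inf_smul _ _ _ hg0, ncard_image_smul, hX1]; decide +kernel
  · rw [orbit_stab_inf_eq, orbK_stabIn_inf_smul _ _ _ hg0, ncard_image_smul, hX2]; decide +kernel
  · rw [orbit_stab_inf_eq, orbK_stabIn_inf_smul _ _ _ hg0, ncard_image_smul, hX3]; decide +kernel
  · rw [orbit_stab_inf_eq, orbK_stabIn_inf_smul _ _ _ hg0, ncard_image_smul, hX4]; decide +kernel
  · rw [orbit_stab_inf_eq, orbit_stab_inf_eq, orbit_stab_inf_eq, orbit_stab_inf_eq,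
      orbK_stabIn_inf_smul _ _ _ hg0, orbK_stabIn_inf_smul _ _ _ hg0,
      orbK_stabIn_inf_smul _ _ _ hg0, orbK_stabIn_inf_smul _ _ _ hg0]
    have hs : ({g0 • decQ q0} : Set (Finset (Finset GolayPt))) =
        (fun y => g0 • y) '' orbK (stabIn (dec dod0) ⊓ stabIn (decQ q0)) (decQ cX0.rep) := by
      rw [hsing, Set.image_singleton]
    rw [hs, ← Set.image_union, ← Set.image_union, ← Set.image_union, ← Set.image_union]
    ext y
    rw [← smul_mem_quartets_iff (M24.inv_mem hg0), inv_smul_smul, hXU]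
    simp only [Set.mem_image, Set.mem_union, or_assoc]
    constructor
    · intro h
      exact ⟨g0⁻¹ • y, h, smul_inv_smul g0 y⟩
    · rintro ⟨z, hz, rfl⟩
      rw [inv_smul_smul]; exact hz

end Cfsg.Agent.S1599
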