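import Mathlib
import Cfsg.Statements.S1600
import Cfsg.Agent.S0387
import Cfsg.Agent.Lib.Helper27.GolayRank
import Cfsg.Agent.Lib.Helper95.Dodecad

set_option autoImplicit false
open scoped Pointwise
open Cfsg

namespace Cfsg.Agent.S1600

open Cfsg.Agent.Lib.Helper7

/-! ### the order of the three-point stabiliser in the base dodecad stabiliser -/

theorem card_m12_2 : Nat.card (fixIn (stabD baseDod) [2, 0]) = 720 := by
  have h := card_fixIn_step (stabD baseDod) [0] 2 (m12Tr1.map Prod.fst) (by decide +kernel)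
    (by decide +kernel)
    (m12_lower _ _ _ (by decide +kernel) (by decide +kernel) (by decide +kernel))
    (upper_D baseDod _ 2 _ (by decide +kernel) (by decide +kernel) (by decide +kernel))
  rw [card_m12_0] at h
  have h3 : (m12Tr1.map Prod.fst).length = 11 := by decide +kernel
  rw [h3] at h
  omega

theorem card_m12_3 : Nat.card (fixIn (stabD baseDod) [3, 2, 0]) = 72 := by
  have h := card_fixIn_step (stabD baseDod) [2, 0] 3 (m12Tr2.map Prod.fst) (by decide +kernel)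
    (by decide +kernel)
    (m12_lower _ _ _ (by decide +kernel) (by decide +kernel) (by decide +kernel))
    (upper_D baseDod _ 3 _ (by decide +kernel) (by decide +kernel) (by decide +kernel))
  rw [card_m12_2] at h
  have h3 : (m12Tr2.map Prod.fst).length = 10 := by decide +kernel
  rw [h3] at h
  omega

/-! ### moving the base configuration to any dodecad with three marked points -/

theorem inv_self (f : Equiv.Perm GolayPt) (x : GolayPt) : f⁻¹ (f x) = x := f.symm_apply_apply x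
theorem self_inv (f : Equiv.Perm GolayPt) (x : GolayPt) : f (f⁻¹ x) = x := f.apply_symm_apply x

theorem exists_transport3 (d : Finset GolayPt) (hd : d ∈ dodecads) (p q r : GolayPt)
    (hp : p ∈ d) (hq : q ∈ d) (hr : r ∈ d) (hpq : p ≠ q) (hpr : p ≠ r) (hqr : q ≠ r) :
    ∃ g ∈ M24, g • finOf baseDod = d ∧ g (pt 0) = p ∧ g (pt 2) = q ∧ g (pt 3) = r := by
  obtain ⟨g1, hg1, hg1d, hg1p⟩ := Cfsg.Agent.S0387.exists_transport d hd p hp
  -- second point
  have hq1 : g1⁻¹ q ∈ finOf baseDod := by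
    have : g1⁻¹ q ∈ g1⁻¹ • d := Finset.smul_mem_smul_finset hq
    rwa [← hg1d, inv_smul_smul] at this
  rw [mem_finOf] at hq1
  have hne1 : idx (g1⁻¹ q) ≠ 0 := by
    intro h0
    apply hpq
    have : pt (idx (g1⁻¹ q)) = pt 0 := by rw [h0]
    rw [pt_idx, Equiv.Perm.inv_eq_iff_eq] at this
    rw [this, hg1p]
  have hmem1 : idx (g1⁻¹ q) ∈ m12Tr1.map Prod.fst := by
    have : ∀ s < 24, baseDod.testBit s = true → s ≠ 0 → s ∈ m12Tr1.map Prod.fst := by
      decide +kernel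
    exact this _ (idx_lt _) hq1 hne1
  obtain ⟨σ1, hσ1, h2⟩ := m12_lower [0] 2 m12Tr1 (by decide +kernel) (by decide +kernel)
    (by decide +kernel) _ hmem1
  rw [pt_idx] at h2
  rw [mem_fixIn, mem_stabD] at hσ1
  obtain ⟨⟨hσ1M, hσ1d⟩, hσ1f⟩ := hσ1
  have hσ10 : σ1 (pt 0) = pt 0 := hσ1f 0 (by simp)
  -- third point
  have hr1 : (g1 * σ1)⁻¹ r ∈ finOf baseDod := by
    have : (g1 * σ1)⁻¹ r ∈ (g1 * σ1)⁻¹ • d := Finset.smul_mem_smul_finset hr
    have h3 : (g1 * σ1) • finOf baseDod = d := by rw [mul_smul, hσ1d, hg1d]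
    rwa [← h3, inv_smul_smul] at this
  rw [mem_finOf] at hr1
  have hg2p : (g1 * σ1) (pt 0) = p := by rw [Equiv.Perm.mul_apply, hσ10, hg1p]
  have hg2q : (g1 * σ1) (pt 2) = q := by rw [Equiv.Perm.mul_apply, h2, self_inv]
  have hne2 : idx ((g1 * σ1)⁻¹ r) ≠ 0 := by
    intro h0
    apply hpr
    have : pt (idx ((g1 * σ1)⁻¹ r)) = pt 0 := by rw [h0]
    rw [pt_idx, Equiv.Perm.inv_eq_iff_eq] at this
    rw [this, hg2p]
  have hne3 : idx ((g1 * σ1)⁻¹ r) ≠ 2 := by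
    intro h0
    apply hqr
    have : pt (idx ((g1 * σ1)⁻¹ r)) = pt 2 := by rw [h0]
    rw [pt_idx, Equiv.Perm.inv_eq_iff_eq] at this
    rw [this, hg2q]
  have hmem2 : idx ((g1 * σ1)⁻¹ r) ∈ m12Tr2.map Prod.fst := by
    have : ∀ s < 24, baseDod.testBit s = true → (s = 0 ∨ s = 2 ∨ s ∈ m12Tr2.map Prod.fst) := by
      decide +kernel
    rcases this _ (idx_lt _) hr1 with h | h | h
    · exact absurd h hne2
    · exact absurd h hne3
    · exact h
  obtain ⟨σ2, hσ2, h3⟩ := m12_lower [2, 0] 3 m12Tr2 (by decide +kernel) (by decide +kernel)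
    (by decide +kernel) _ hmem2
  rw [pt_idx] at h3
  rw [mem_fixIn, mem_stabD] at hσ2
  obtain ⟨⟨hσ2M, hσ2d⟩, hσ2f⟩ := hσ2
  have hσ20 : σ2 (pt 0) = pt 0 := hσ2f 0 (by simp)
  have hσ22 : σ2 (pt 2) = pt 2 := hσ2f 2 (by simp)
  refine ⟨g1 * σ1 * σ2, M24.mul_mem (M24.mul_mem hg1 hσ1M) hσ2M, ?_, ?_, ?_, ?_⟩
  · rw [mul_smul, mul_smul, hσ2d, hσ1d, hg1d]
  · rw [Equiv.Perm.mul_apply, hσ20, hg2p]
  · rw [Equiv.Perm.mul_apply, hσ22, hg2q]
  · rw [Equiv.Perm.mul_apply, h3, self_inv]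

/-! ### transitivity on the complement for the base configuration -/

open Cfsg.Agent.Lib.Helper26 in
def gensH : List PermData :=
  [⟨[0, 20, 2, 3, 8, 15, 14, 10, 6, 7, 11, 9, 17, 13, 4, 16, 23, 22, 21, 12, 1, 18, 19, 5],
    [0, 20, 2, 3, 14, 23, 8, 9, 4, 11, 7, 10, 19, 13, 6, 5, 15, 12, 21, 22, 1, 18, 17, 16]⟩,
   ⟨[0, 21, 2, 3, 6, 20, 8, 10, 11, 9, 14, 4, 15, 7, 13, 12, 19, 18, 17, 5, 16, 22, 23, 1],
    [0, 23, 2, 3, 11, 19, 4, 13, 6, 9, 7, 8, 15, 14, 10, 12, 20, 18, 17, 16, 5, 1, 21, 22]⟩]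

theorem gensH_mem : gensH.all (fun d => Cfsg.Agent.Lib.Helper27.inStabK d [0, 2, 3] [28637]) = true := by
  decide +kernel

def tgH : List ℕ :=
  [2, 32, 4096, 32768, 65536, 131072, 262144, 524288, 1048576, 2097152, 4194304, 8388608]

def wsH : List (List ℕ) :=
  [[], [0, 0, 1, 0], [0, 1, 1, 0], [0, 0, 0, 1, 0], [1, 0], [1, 0, 1], [0, 1], [1, 1, 0], [0], [1],
   [1, 1], [0, 1, 0]]

theorem pathsH : Cfsg.Agent.Lib.Helper26.checkPaths gensH (2 ^ 1) tgH wsH = true := by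
  decide +kernel

theorem dec_eq_finOf (m : ℕ) : Cfsg.Agent.Lib.Helper26.dec m = finOf m := by
  ext p
  rw [Cfsg.Agent.Lib.Helper26.mem_dec, mem_finOf, Cfsg.Agent.Lib.Helper95.idx_eq]

theorem pt_eq0 : Cfsg.Agent.Lib.Helper26.pt 0 = pt 0 := by decide
theorem pt_eq2 : Cfsg.Agent.Lib.Helper26.pt 2 = pt 2 := by decide
theorem pt_eq3 : Cfsg.Agent.Lib.Helper26.pt 3 = pt 3 := by decide

/-- the base three-point stabiliser is transitive on the complement of the base dodecad -/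
theorem base_trans (x y : GolayPt) (hx : x ∉ finOf baseDod) (hy : y ∉ finOf baseDod) :
    ∃ k ∈ fixIn (stabD baseDod) [3, 2, 0], k x = y := by
  have horb := Cfsg.Agent.Lib.Helper27.stabK_orbit_cert gensH [0, 2, 3] [28637] gensH_mem
    (2 ^ 1) tgH wsH pathsH
  have hcomp := Cfsg.Agent.Lib.Helper27.point_orbit_compl (K := Cfsg.Agent.Lib.Helper27.stabK [0, 2, 3] [28637])
    (j₀ := 1) (by norm_num) (M := 28637) (tg := tgH) horb (by decide +kernel)
  rw [dec_eq_finOf] at hcomp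
  obtain ⟨k1, hk1, hk1x⟩ := hcomp x hx
  obtain ⟨k2, hk2, hk2y⟩ := hcomp y hy
  have hmem : ∀ k ∈ Cfsg.Agent.Lib.Helper27.stabK [0, 2, 3] [28637],
      k ∈ fixIn (stabD baseDod) [3, 2, 0] := by
    intro k hk
    rw [Cfsg.Agent.Lib.Helper27.mem_stabK] at hk
    obtain ⟨hkM, hkf, hkm⟩ := hk
    rw [mem_fixIn, mem_stabD]
    refine ⟨⟨hkM, ?_⟩, ?_⟩
    · have := hkm 28637 (by simp)
      rw [dec_eq_finOf] at this
      exact this
    · intro b hb
      simp only [List.mem_cons, List.not_mem_nil, or_false] at hb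
      rcases hb with rfl | rfl | rfl
      · rw [← pt_eq3]; exact hkf 3 (by simp)
      · rw [← pt_eq2]; exact hkf 2 (by simp)
      · rw [← pt_eq0]; exact hkf 0 (by simp)
  refine ⟨k2 * k1⁻¹, Subgroup.mul_mem _ (hmem k2 hk2) (Subgroup.inv_mem _ (hmem k1 hk1)), ?_⟩
  rw [Equiv.Perm.mul_apply, ← hk1x, inv_self, hk2y]

/-! ### the statement -/

/-- The pointwise stabiliser of three points of a dodecad inside the dodecad stabiliser (order 72) is transitive on the complementary dodecad. -/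
theorem result (d : Finset Cfsg.GolayPt) (hd : d ∈ Cfsg.dodecads) (p q r : Cfsg.GolayPt) (hp : p ∈ d) (hq : q ∈ d) (hr : r ∈ d) (hpq : p ≠ q) (hpr : p ≠ r) (hqr : q ≠ r) : Nat.card ↥(MulAction.stabilizer Cfsg.M24 d ⊓ MulAction.stabilizer Cfsg.M24 p ⊓ MulAction.stabilizer Cfsg.M24 q ⊓ MulAction.stabilizer Cfsg.M24 r) = 72 ∧ ∀ x ∉ d, ∀ y ∉ d, ∃ g ∈ (MulAction.stabilizer Cfsg.M24 d ⊓ MulAction.stabilizer Cfsg.M24 p ⊓ MulAction.stabilizer Cfsg.M24 q ⊓ MulAction.stabilizer Cfsg.M24 r), ((g : ↥Cfsg.M24) : Equiv.Perm Cfsg.GolayPt) x = y := by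
  obtain ⟨g, hg, hgd, hgp, hgq, hgr⟩ := exists_transport3 d hd p q r hp hq hr hpq hpr hqr
  -- membership transfer
  have hto : ∀ k ∈ fixIn (stabD baseDod) [3, 2, 0], ∃ hk : g * k * g⁻¹ ∈ M24,
      (⟨g * k * g⁻¹, hk⟩ : ↥M24) ∈ (MulAction.stabilizer Cfsg.M24 d ⊓ MulAction.stabilizer Cfsg.M24 p ⊓
        MulAction.stabilizer Cfsg.M24 q ⊓ MulAction.stabilizer Cfsg.M24 r) := by
    intro k hk
    rw [mem_fixIn, mem_stabD] at hk
    obtain ⟨⟨hkM, hkd⟩, hkf⟩ := hk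
    have hk0 : k (pt 0) = pt 0 := hkf 0 (by simp)
    have hk2 : k (pt 2) = pt 2 := hkf 2 (by simp)
    have hk3 : k (pt 3) = pt 3 := hkf 3 (by simp)
    refine ⟨M24.mul_mem (M24.mul_mem hg hkM) (M24.inv_mem hg), ?_⟩
    simp only [Subgroup.mem_inf, MulAction.mem_stabilizer_iff]
    refine ⟨⟨⟨?_, ?_⟩, ?_⟩, ?_⟩
    · show (g * k * g⁻¹) • d = d
      have h1 : g⁻¹ • d = finOf baseDod := by rw [← hgd, inv_smul_smul]
      rw [mul_smul, mul_smul, h1, hkd, hgd]
    · show (g * k * g⁻¹) p = p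
      simp only [Equiv.Perm.mul_apply]
      rw [← hgp, inv_self, hk0]
    · show (g * k * g⁻¹) q = q
      simp only [Equiv.Perm.mul_apply]
      rw [← hgq, inv_self, hk2]
    · show (g * k * g⁻¹) r = r
      simp only [Equiv.Perm.mul_apply]
      rw [← hgr, inv_self, hk3]
  have hfrom : ∀ s : ↥M24, s ∈ (MulAction.stabilizer Cfsg.M24 d ⊓ MulAction.stabilizer Cfsg.M24 p ⊓
        MulAction.stabilizer Cfsg.M24 q ⊓ MulAction.stabilizer Cfsg.M24 r) →
      g⁻¹ * s.1 * g ∈ fixIn (stabD baseDod) [3, 2, 0] := by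
    intro s hs
    simp only [Subgroup.mem_inf, MulAction.mem_stabilizer_iff] at hs
    obtain ⟨⟨⟨hsd, hsp⟩, hsq⟩, hsr⟩ := hs
    have hsd' : s.1 • d = d := hsd
    have hsp' : s.1 p = p := hsp
    have hsq' : s.1 q = q := hsq
    have hsr' : s.1 r = r := hsr
    rw [mem_fixIn, mem_stabD]
    refine ⟨⟨M24.mul_mem (M24.mul_mem (M24.inv_mem hg) s.2) hg, ?_⟩, ?_⟩
    · rw [mul_smul, mul_smul, hgd, hsd', ← hgd, inv_smul_smul]
    · intro b hb
      simp only [List.mem_cons, List.not_mem_nil, or_false] at hb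
      simp only [Equiv.Perm.mul_apply]
      rcases hb with rfl | rfl | rfl
      · rw [hgr, hsr', ← hgr, inv_self]
      · rw [hgq, hsq', ← hgq, inv_self]
      · rw [hgp, hsp', ← hgp, inv_self]
  constructor
  · rw [← card_m12_3]
    apply Nat.card_congr
    refine ⟨fun s => ⟨g⁻¹ * s.1.1 * g, hfrom s.1 s.2⟩,
      fun k => ⟨⟨g * k.1 * g⁻¹, (hto k.1 k.2).1⟩, (hto k.1 k.2).2⟩, fun s => ?_, fun k => ?_⟩
    · apply Subtype.ext
      apply Subtype.ext
      show g * (g⁻¹ * s.1.1 * g) * g⁻¹ = s.1.1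
      group
    · apply Subtype.ext
      show g⁻¹ * (g * k.1 * g⁻¹) * g = k.1
      group
  · intro x hx y hy
    have hx' : g⁻¹ x ∉ finOf baseDod := by
      intro h
      apply hx
      have : g (g⁻¹ x) ∈ g • finOf baseDod := Finset.smul_mem_smul_finset h
      rwa [self_inv, hgd] at this
    have hy' : g⁻¹ y ∉ finOf baseDod := by
      intro h
      apply hy
      have : g (g⁻¹ y) ∈ g • finOf baseDod := Finset.smul_mem_smul_finset h
      rwa [self_inv, hgd] at this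
    obtain ⟨k, hk, hkx⟩ := base_trans _ _ hx' hy'
    obtain ⟨hkM, hkS⟩ := hto k hk
    refine ⟨⟨g * k * g⁻¹, hkM⟩, hkS, ?_⟩
    show (g * k * g⁻¹) x = y
    simp only [Equiv.Perm.mul_apply]
    rw [hkx, self_inv]

end Cfsg.Agent.S1600
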