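import Cfsg.Statements.S5522
import Cfsg.Agent.Lib.Helper93.M24Structure

set_option autoImplicit false
open Cfsg

namespace Cfsg.Agent.S5522

open Cfsg.Agent.Lib.Helper93.Golay
open scoped Pointwise

def Dm : ℕ := 340831

theorem sqD_eq : Cfsg.Spor.squareDodecad = fset Dm := by decide +kernel

/-- elements of `M24` stabilising the dodecad of squares and fixing the points of mask `m`. -/
def K (m : ℕ) : Subgroup (Equiv.Perm GolayPt) :=
  Hfix m ⊓ MulAction.stabilizer (Equiv.Perm GolayPt) (fset Dm)

theorem mem_K (m : ℕ) (g : Equiv.Perm GolayPt) :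
    g ∈ K m ↔ g ∈ Hfix m ∧ g • fset Dm = fset Dm := by
  unfold K
  rw [Subgroup.mem_inf, MulAction.mem_stabilizer_iff]

def U1 : List ℕ := [984818244535754528103549039458486304, 887009555117204413935570759566565440, 902794830342841484627494338651267168, 636938258350922752827616327369007232, 941806856725036308017142870296283328, 932442706952251022640956564530869504, 859955434193468403745609404209580320, 932843205313912150989052845949749632, 483296192500053595972850637097936288, 475713272887561028021643743209918976, 442934162073193773669817737269022272]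
def U2 : List ℕ := [984818244535754528103549039458486304, 321483090699936189506869915383172128, 879514179754306950165210557261090848, 879251748842355380549308341792708640, 817435223784192840973166532989493280, 642190945047453656128627176646386720, 479623986318016222713448381946146848, 445827142324397823627656522285331488, 944496878599615485569661386094854176, 305836715770772511039021970292623392]
def U3 : List ℕ := [984818244535754528103549039458486304, 891440084380668137666183104591693856, 796422664143520048046740322637776928, 944293816565412651426207388111472672, 970531819526550031117983620406741024, 849887890532701421127722391426172960, 609718671646466476278175549440296992, 487373122709212905255923294881187872, 313063593285160742836699179059316768]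
def U4 : List ℕ := [984818244535754528103549039458486304, 719923664328491199848526586197411872, 608405391266436187982588441666881568, 715872302521680643580706198532491296, 970499966350631336865513127433832480, 227578386318009578406903204956702752, 609271311764373893382231684089481248, 232652365823391711183829569059784736]

/-- validity of a transversal list at the level with fixed mask `m`. -/
def okU (U : List ℕ) (m : ℕ) : Bool :=
  U.all (fun S => isAutC S && Nat.beq (pmask S Dm) Dm && fixesMask S m)

/-- the transversal reaches every point of the dodecad outside `m` from the index `k`. -/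
def covU (U : List ℕ) (m k : ℕ) : Bool :=
  (List.range 24).all (fun j => !(Nat.testBit Dm j && !(Nat.testBit m j)) ||
    U.any (fun S => Nat.beq (papp S k) j))

theorem permC_mem_K {S m : ℕ} (h1 : isAutC S = true) (h2 : Nat.beq (pmask S Dm) Dm = true)
    (h3 : fixesMask S m = true) : permC S ∈ K m := by
  rw [mem_K]
  refine ⟨permC_mem_Hfix h1 h3, ?_⟩
  have h := fmask_permC_smul (isPerm_of_isAutC h1) (fset Dm)
  rw [fmask_fset Dm (by norm_num [Dm]), Nat.eq_of_beq_eq_true h2] at h
  rw [← fset_fmask (permC S • fset Dm), h]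

theorem step (k : ℕ) (hk : k < 24) (U : List ℕ) (m : ℕ) (hU : okU U m = true)
    (hcov : covU U m k = true) (hkD : Dm.testBit k = true) (hkm : m.testBit k = false)
    {g : Equiv.Perm GolayPt} (hg : g ∈ K m) :
    ∃ S ∈ U, isAutC S = true ∧ (permC S)⁻¹ * g ∈ K (m ||| 1 <<< k) := by
  rw [mem_K] at hg
  obtain ⟨hgH, hgD⟩ := hg
  set j : ℕ := ((ptIdx (g (P k hk)) : Fin 24) : ℕ) with hj
  have hj24 : j < 24 := (ptIdx (g (P k hk))).isLt
  have hjD : Dm.testBit j = true := by
    have h1 : g (P k hk) ∈ g • fset Dm :=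
      Finset.smul_mem_smul_finset ((mem_fset_P Dm k hk).2 hkD)
    rw [hgD, mem_fset] at h1
    exact h1
  have hjm : m.testBit j = false := by
    by_contra hne
    have hne' : m.testBit j = true := by simpa using hne
    have h1 : g (P k hk) ∈ fset m := (mem_fset _ _).2 hne'
    have h2 : P k hk ∉ fset m := by
      rw [mem_fset_P, hkm]; simp
    exact image_not_mem_fixed hgH h2 h1
  have hc := List.all_eq_true.1 hcov j (List.mem_range.2 hj24)
  rw [hjD, hjm] at hc
  simp only [Bool.not_false, Bool.and_self, Bool.not_true, Bool.false_or, List.any_eq_true] at hc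
  obtain ⟨S, hS, hSj⟩ := hc
  have hSok := List.all_eq_true.1 hU S hS
  simp only [Bool.and_eq_true] at hSok
  obtain ⟨⟨hA, hD⟩, hF⟩ := hSok
  refine ⟨S, hS, hA, ?_⟩
  have hSK := permC_mem_K hA hD hF
  have hgK : g ∈ K m := (mem_K m g).2 ⟨hgH, hgD⟩
  have hmul : (permC S)⁻¹ * g ∈ K m := (K m).mul_mem ((K m).inv_mem hSK) hgK
  rw [mem_K] at hmul ⊢
  refine ⟨?_, hmul.2⟩
  rw [Hfix_or m k hk, Subgroup.mem_inf, MulAction.mem_stabilizer_iff]
  refine ⟨hmul.1, ?_⟩
  have h1 : permC S (P k hk) = ptOf ⟨j, hj24⟩ :=
    permC_ptOf (isPerm_of_isAutC hA) k hk j hj24 (Nat.eq_of_beq_eq_true hSj)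
  have h2 : g (P k hk) = ptOf ⟨j, hj24⟩ := (ptOf_ptIdx (g (P k hk))).symm
  show ((permC S)⁻¹ * g) (P k hk) = P k hk
  rw [Equiv.Perm.mul_apply, h2, ← h1]
  simp

theorem U1_ok : okU U1 1 = true := by decide +kernel
theorem U2_ok : okU U2 3 = true := by decide +kernel
theorem U3_ok : okU U3 7 = true := by decide +kernel
theorem U4_ok : okU U4 15 = true := by decide +kernel
theorem U1_cov : covU U1 1 1 = true := by decide +kernel
theorem U2_cov : covU U2 3 2 = true := by decide +kernel
theorem U3_cov : covU U3 7 3 = true := by decide +kernel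
theorem U4_cov : covU U4 15 4 = true := by decide +kernel


/-! ### rigidity -/

def rigidCheck : Bool :=
  H5list.all (fun S => !(Nat.beq (pmask S Dm) Dm) ||
    (List.range 24).all (fun i => Nat.beq (papp S i) i))

theorem rigidCheck_ok : rigidCheck = true := by decide +kernel

theorem permC_eq_one {S : ℕ} (hS : isPerm S = true)
    (h : (List.range 24).all (fun i => Nat.beq (papp S i) i) = true) : permC S = 1 := by
  apply Equiv.ext
  intro p
  have hi := List.all_eq_true.1 h (ptIdx p) (List.mem_range.2 (ptIdx p).isLt)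
  have h3 := permC_ptOf hS (ptIdx p) (ptIdx p).isLt (ptIdx p) (ptIdx p).isLt
    (Nat.eq_of_beq_eq_true hi)
  have e : ptOf ⟨(ptIdx p : ℕ), (ptIdx p).isLt⟩ = p := ptOf_ptIdx p
  rw [e] at h3
  exact h3

theorem K31_trivial {g : Equiv.Perm GolayPt} (hg : g ∈ K 31) : g = 1 := by
  rw [mem_K] at hg
  obtain ⟨hgH, hgD⟩ := hg
  obtain ⟨S, hS, rfl⟩ := H5_complete hgH
  have hSok := List.all_eq_true.1 H5_ok S hS
  rw [Bool.and_eq_true] at hSok
  have hperm := isPerm_of_isAutC hSok.1
  have hc := List.all_eq_true.1 rigidCheck_ok S hS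
  have hm : pmask S Dm = Dm := by
    have h := fmask_permC_smul hperm (fset Dm)
    rw [hgD, fmask_fset Dm (by norm_num [Dm])] at h
    exact h.symm
  rw [hm] at hc
  have hb : Nat.beq Dm Dm = true := by decide
  rw [hb] at hc
  simp only [Bool.not_true, Bool.false_or] at hc
  exact permC_eq_one hperm hc

/-! ### the final enumeration -/

def fOf (S1 S2 S3 S4 i : ℕ) : ℕ := papp S1 (papp S2 (papp S3 (papp S4 i)))

def outL : List ℕ := [5, 7, 10, 11, 14, 15, 17, 19, 20, 21, 22, 23]

def good (S1 S2 S3 S4 : ℕ) : Bool :=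
  outL.any (fun i => Nat.beq (fOf S1 S2 S3 S4 i) i) ||
  ((List.range 24).all (fun i => Nat.beq ((fOf S1 S2 S3 S4)^[8] i) i) &&
   (List.range 24).any (fun i => !(Nat.beq (fOf S1 S2 S3 S4 (fOf S1 S2 S3 S4 i)) i)))

theorem allGood : U1.all (fun a => U2.all (fun b => U3.all (fun c => U4.all (fun d =>
    good a b c d)))) = true := by decide +kernel


theorem outL_spec : ∀ i ∈ outL, i < 24 ∧ Dm.testBit i = false := by decide

theorem ptIdx_iterate {g : Equiv.Perm GolayPt} {f : ℕ → ℕ}
    (h : ∀ p : GolayPt, ((ptIdx (g p) : Fin 24) : ℕ) = f (ptIdx p)) (n : ℕ) (p : GolayPt) :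
    ((ptIdx ((g ^ n) p) : Fin 24) : ℕ) = f^[n] (ptIdx p) := by
  induction n generalizing p with
  | zero => simp
  | succ n ih =>
    rw [pow_succ, Equiv.Perm.mul_apply, ih, Function.iterate_succ_apply, h]

theorem ptIdx_inj {p q : GolayPt} (h : ((ptIdx p : Fin 24) : ℕ) = ptIdx q) : p = q :=
  ptEquiv.injective (Fin.ext h)

theorem result (g : Equiv.Perm Cfsg.GolayPt) (hg : g ∈ Cfsg.Spor.M11) (hord : (orderOf g).Prime) :
    ∃ x : Cfsg.GolayPt, x ∉ Cfsg.Spor.squareDodecad ∧ g x = x := by
  -- membership in `K 1`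
  have hK1 : g ∈ K 1 := by
    unfold Cfsg.Spor.M11 Cfsg.Spor.M12 at hg
    rw [Subgroup.mem_inf, Subgroup.mem_inf, MulAction.mem_stabilizer_iff,
      MulAction.mem_stabilizer_iff] at hg
    obtain ⟨⟨h24, hD⟩, h0⟩ := hg
    rw [mem_K]
    refine ⟨⟨h24, fun p hp => ?_⟩, ?_⟩
    · have : p = some 0 := by
        revert hp; revert p; decide
      rw [this]; exact h0
    · rw [← sqD_eq]; exact hD
  obtain ⟨S1, hS1, hA1, h1⟩ := step 1 (by norm_num) U1 1 U1_ok U1_cov (by decide) (by decide) hK1
  obtain ⟨S2, hS2, hA2, h2⟩ := step 2 (by norm_num) U2 3 U2_ok U2_cov (by decide) (by decide) h1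
  obtain ⟨S3, hS3, hA3, h3⟩ := step 3 (by norm_num) U3 7 U3_ok U3_cov (by decide) (by decide) h2
  obtain ⟨S4, hS4, hA4, h4⟩ := step 4 (by norm_num) U4 15 U4_ok U4_cov (by decide) (by decide) h3
  have hone := K31_trivial h4
  have hgeq : g = permC S1 * permC S2 * permC S3 * permC S4 := by
    have e : (permC S4)⁻¹ * ((permC S3)⁻¹ * ((permC S2)⁻¹ * ((permC S1)⁻¹ * g))) = 1 := hone
    rw [inv_mul_eq_one, eq_comm, inv_mul_eq_iff_eq_mul, inv_mul_eq_iff_eq_mul,
      inv_mul_eq_iff_eq_mul] at e
    rw [e]; simp only [mul_assoc]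
  have hP1 := isPerm_of_isAutC hA1
  have hP2 := isPerm_of_isAutC hA2
  have hP3 := isPerm_of_isAutC hA3
  have hP4 := isPerm_of_isAutC hA4
  have hf : ∀ p : GolayPt, ((ptIdx (g p) : Fin 24) : ℕ) = fOf S1 S2 S3 S4 (ptIdx p) := by
    intro p
    rw [hgeq]
    simp only [Equiv.Perm.mul_apply, fOf]
    rw [ptIdx_permC hP1, ptIdx_permC hP2, ptIdx_permC hP3, ptIdx_permC hP4]
  have hgood := List.all_eq_true.1 (List.all_eq_true.1 (List.all_eq_true.1
    (List.all_eq_true.1 allGood S1 hS1) S2 hS2) S3 hS3) S4 hS4
  unfold good at hgood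
  rw [Bool.or_eq_true] at hgood
  rcases hgood with hfix | hbad
  · rw [List.any_eq_true] at hfix
    obtain ⟨i, hi, hfi⟩ := hfix
    obtain ⟨hi24, hiD⟩ := outL_spec i hi
    refine ⟨P i hi24, ?_, ?_⟩
    · rw [sqD_eq, mem_fset_P, hiD]; simp
    · apply ptIdx_inj
      rw [hf, ptIdx_P]
      exact Nat.eq_of_beq_eq_true hfi
  · exfalso
    rw [Bool.and_eq_true] at hbad
    obtain ⟨h8, h2'⟩ := hbad
    have hg8 : g ^ 8 = 1 := by
      apply Equiv.ext
      intro p
      apply ptIdx_inj
      rw [ptIdx_iterate hf 8 p]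
      exact Nat.eq_of_beq_eq_true
        (List.all_eq_true.1 h8 (ptIdx p) (List.mem_range.2 (ptIdx p).isLt))
    have hg2 : g ^ 2 ≠ 1 := by
      intro h
      rw [List.any_eq_true] at h2'
      obtain ⟨i, hi, hne⟩ := h2'
      have hi24 : i < 24 := List.mem_range.1 hi
      have := ptIdx_iterate hf 2 (P i hi24)
      rw [h, ptIdx_P] at this
      simp only [Equiv.Perm.coe_one, id_eq, Function.iterate_succ, Function.iterate_zero,
        Function.comp_apply, ptIdx_P] at this
      rw [← this] at hne
      simp at hne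
    have hdvd : orderOf g ∣ 8 := orderOf_dvd_of_pow_eq_one hg8
    have h2 : orderOf g = 2 := by
      have h8' : (8 : ℕ) = 2 ^ 3 := by norm_num
      rw [h8'] at hdvd
      exact (Nat.prime_dvd_prime_iff_eq hord Nat.prime_two).1 (hord.dvd_of_dvd_pow hdvd)
    apply hg2
    rw [← h2]
    exact pow_orderOf_eq_one g

end Cfsg.Agent.S5522
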