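import Cfsg.Statements.S1602
import Cfsg.Agent.S5522
import Cfsg.Agent.Lib.Helper7.M12Order

set_option autoImplicit false
set_option maxRecDepth 1000000
open scoped Pointwise
open Cfsg

namespace Cfsg.Agent.S1602

open Cfsg.Agent.Lib.Helper93.Golay
open Cfsg.Agent.S5522 (Dm K mem_K okU covU permC_mem_K U1 U2 U3 U4 step U1_ok U2_ok U3_ok U4_ok
  U1_cov U2_cov U3_cov U4_cov K31_trivial fOf outL ptIdx_inj)

/-! ### data: transversals and the 120 elements of the base group -/

def T0 : List ℕ := [984818244535754528103549039458486304, 861488185784204868607165397813245057, 808268165827906565865014446607516066, 440989708168864971066588465336419907, 923163356275324854879378125228095044, 646001880682812022582084820422100486, 475530248397204224753710336834536648, 713585499988362397850730944528385609, 929062670456720093498885941846198412, 232992499480281758931342704452311565, 636892595450421465855175556654433488, 845749348196425189354796382525855794]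
def W : List ℕ := [984818244535754528103549039458486304, 970499966350631336865513127433832480, 446075689348713385633543080602015776, 902952019603030973029003844514783296, 936858016179571286458170678167635040, 928952864966028496604741530750814240, 479932053615699109966410054793495648, 887217528124179077998383291162468416, 940109378843159876350052744221114432, 425097252063718997693671187165909024, 928750119981075327841287846085692448, 891385682027558266148352467872712736, 856289548276006772372893280872006848, 940508215878591974282646315067295808, 879751195998581591598133589983924256, 898742143189044893377746329054414880, 476828849857614177885191529153208416, 849862808090484735685470734032308256, 607115036229812690137245140300074016, 648646326330494067685359150633782304, 983275413351186728596685096220106816, 941531776882940240373916166558632000, 849414919297944031155053626894092320, 892566379401476393073739144626570432, 610319855091184352006644895659335744, 233277322763491706078110480894169120, 890954976140709938678640932563453984, 642086859287548479074155768687690848, 899214583888558003150069357295700000,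 809175256424819485299951201547488288, 601476417386228018602842719357766688, 596124714695154342688831839802902592, 940504818012433935808468962039078976, 607926230873155420943002203236866080, 726462315593665445132575198948018240, 217697025165938613061053411632652352, 629863500390412654982178157189269536, 899213903375733767676667732496223264, 633003153584080454086387684656693312, 879231737542773836283134457405508640, 648154481660236051385864952584734752, 796025918939784314627536738561984544, 894676897890766308089450163655091328, 317448374393142586668363033724624992, 803157593830958891800640040695570496, 984167769909449427001659769130389536, 734940250243734082777761102267158560, 715872302521680643580706198532491296, 438412687477512036919618498791375936, 304567606642816631385316375449046048, 636894721967347359648805787248150592, 886077234983013911263152792703901792, 969270339852425397140562826583147616, 719923664328491199848526586197411872, 425085878865583144827023905643726880, 321531457133135255613161641626240096, 487607080158395075740321133224921120, 486073779993727295785104656607348768, 321483090699936189506869915383172128,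 970360128771934719738254462214767680, 984534996141977609297800625156032544, 920644365214141133206617556496425088, 611620266501477708615363201229441088, 610794110704485101139677455507038272, 303979584130228671243821443333688352, 936486527378585814486996564479221792, 899189355044933402820830013086107680, 885757478700255493086069115677220960, 837850755343869353863092920347984992, 859633382661931458961360315939733568, 858462742025193090588313615599864864, 608405391266436187982588441666881568, 609271311764373893382231684089481248, 879251748842355380549308341792708640, 607919247800864093838690550702149664, 887009555117204413935570759566565440, 858642270837441691495811353107891264, 969081432026541382114444915337462880, 928718206277989008510816407558424608, 984769902586367543974814854303385632, 424699050071047908302541453489638432, 940436046796608349917648097422460992, 309166968607214193015142377970540672, 970254902120350598020240965873371168, 596518939254747320199154813170303040, 859631230243241971817454728749948992, 446057660382890204031682917926472736, 304383412539821291079733571624636448, 435736762394612172063349399156269120,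 928913018155889023685401593716935712, 721220522264025652063697703271599136, 438228640608320839931147656307705888, 803942943195623368476957106171486304, 217726162370803768121383969145374784, 485702364279847535516998656335419424, 713116496645267449080657336129208384, 819383323635231321681817181872375936, 424698032726113400716592269113985056, 715461294005770680473893921775552544, 799237780230229906308457225456336960, 735337033650775669291423836043250720, 486112532082419096269529825797213216, 303972014349329906305369256209090592, 936326825844854535419236468191003744, 713561445883766307952409366980272192, 425300798098740598347497330185932832, 217608353821066095434404991010381888, 309881682301003061602131735573809280, 716016777081418520089506884598499360, 719360590536681843314903822610073632, 850658887104438286951836280200400928, 435802366552125253168246997405179968, 297735211461874931051347367910492224, 309660627267414414497948819104244864, 233054687951835244750033064009402400, 234088606722664404810856530122804256, 440523342501693919108605139764682816, 898682557260384570966948780681071648, 227468939079694360949178429167896608,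 808997782816701570676445371466909728, 234240959538859274532932392875099232, 648207209222844074498160541649210400, 435732513850901583191826112373180480, 230670145485465864170728665953771584, 603895636763741299538906604304408672, 809127892823755776035426641505355808, 608197620903637906583700597402542112, 809530155945763317040849829497078848, 601306940950349892175800839406424096, 232652365823391711183829569059784736, 227578386318009578406903204956702752, 607038988187158853496018113149338720]
def L : List ℕ := [984818244535754528103549039458486304, 891385682027558266148352467872712736, 944293816565412651426207388111472672, 609744425604512129277147896769742880, 641723162760547116707637284779002912, 601726785850430221399503313545989152, 721064549862662597311266359538158624, 479582217756837106710328776524893216, 736837720314198190023097926713350176, 815893344084446290276547123448191008, 856377456796291930979773524260001824, 978239198764604640668953934463309856, 470774319203086706725259168901701664, 816964726674340312403741859668107296, 430453108219618217566843317074862112, 897404965952287837503834665378750496,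 851153502255493155128759361107937312, 649464749308665797962555166136813600, 927460647604857250644322238883645472, 444780054035498696916454447640594464, 470703632939162895080556060451872896, 897435306737026230122919545906864256, 816913921688798175306746700958343296, 430544258669838663854081153609867392, 895197550710223144346428208489547904, 850957016108123575303050340897933440, 734033645472366027085898104645437568, 649917612538666832727342486851373184, 595475948514323570914711224096200832, 977881343727247884959580225012865152, 736601937692650250631847960013707392, 434271311026020896944170343679989888, 984404615340628635531544718971832448, 944529599921247037520580197686184064, 846006609170562187231793974236776576, 483803429882611183488023874478737536, 642041783763028730224227993988959360, 939130876711072109145048661190970496, 601923271263512911800231721851686016, 818369006285485135272638176373050496, 927696430463113414969348284334950688, 444650913369756444076354912075729184, 734330466351947022443742560843483424, 894804578827294446034054303178672416, 816141942280344669561917366774339872, 856139092515411968640301267235903776,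 736792369995607551678985312002971936, 978274315129491235839500429281040672, 483481273317336446156876413009463584, 890953413090745194861704484158114080, 609636766906207105165638742985410848, 845928014986720888753639071069341984, 430622853334364571894926809437937952, 470538536321899336006721713712865568, 653361943013370426771772528055623968, 975324830235885707264894193849934112, 642155431720290213796175960819830048, 818417711753696974483914894103088416, 939097954425202037746734604489067808, 601793840099731144023028510498557216, 845642509955190970370790031463025024, 609272859379522754159883029874018688, 483764132979692398727233352118765952, 891319965972096401844576747670047104, 975718850453553687830466422727876992, 653715617759106107424874456451981696, 897592495310033158661676828950995328, 817436292785806729588629751355482496, 927658279612473676028047949806455168, 850671444367908957498699167874271616, 444572319133977448504083841375357312, 649956910036962082558216571025836416, 595233404096409193562502426066688384, 978042712644977497017376040487033216, 736438695095284982704101337641064832, 434515729084885303938661815017380224,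 721341761779292347776196505194728832, 938973687542687534944587098921045376, 479778703989985584980805159268978048, 818496306144062415656110241739771264, 434349905793193187768107893832882592, 815788267742358612871122029918099872, 595351295384845695064619676774701472, 855866593458267070919526726698637728, 653797811792856386979953747143369120, 897915829269799049967667047276061088, 817110407467849866843631507639181728, 975639207773158676435936640728900000, 927540388270922306708546743050717600, 895285490248325721696709411371960736, 733837159157096044993244994847459744, 444819351316424441011164844367399328, 944173471447925718327518329453087136, 483834948095664696948552889895815584, 984778947275340660717821982278781344, 845956887452596638271922913456425376, 601479462322115390455294564883828128, 641963189532073401790485439865490848, 721027384335001400118494989572640160, 479626679983258410422958539680189856, 856021201178673646070519388127369728, 815618263947669127444951536122272256, 595318760072994388231380904457083392, 434397837164820295041148948421122560, 818251114744644744656030188533517824, 721221738458595174152658471823150592,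 479901759790333433593849380148022784, 939215846443111717841326897824534016, 975286581787269806245098882677711360, 470860821507311535293319017513165312, 430295919242053574408677882180215296, 653404840335035203042009845793497600, 891437857390963374943912918542027264, 984522506754647797731288993272236544, 944566443478193120172726627690809856, 609715361036897732930450502224972288, 851103713535390284586433044943063552, 895010409868804037896696404987038208, 734251871540084004136452259642100224, 649739829827072813501635230926195200]


theorem T0_ok : okU T0 0 = true := by decide +kernel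
theorem T0_cov : covU T0 0 0 = true := by decide +kernel
theorem W_ok : okU W 1 = true := by decide +kernel
theorem L_ok : okU L 1 = true := by decide +kernel

def covW : Bool :=
  outL.all fun a => outL.all fun b => Nat.beq a b ||
    W.any fun S => Nat.beq (papp S 5) a && Nat.beq (papp S 7) b

theorem W_cov : covW = true := by decide +kernel

def F5 : List ℕ := [2, 3, 6, 8, 18]

def Fm : ℕ := 262476

def stabL : Bool :=
  L.all fun S => (Nat.beq (papp S 5) 5 && Nat.beq (papp S 7) 7) ||
    (Nat.beq (papp S 5) 7 && Nat.beq (papp S 7) 5)

theorem L_stab : stabL = true := by decide +kernel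

def surjL : Bool :=
  F5.all fun a => F5.all fun b => F5.all fun c => F5.all fun d => F5.all fun e =>
    (Nat.beq a b || Nat.beq a c || Nat.beq a d || Nat.beq a e || Nat.beq b c || Nat.beq b d ||
      Nat.beq b e || Nat.beq c d || Nat.beq c e || Nat.beq d e) ||
    L.any fun S => Nat.beq (papp S 2) a && Nat.beq (papp S 3) b && Nat.beq (papp S 6) c &&
      Nat.beq (papp S 8) d && Nat.beq (papp S 18) e

theorem L_surj : surjL = true := by decide +kernel

def good (S1 S2 S3 S4 : ℕ) : Bool :=
  !((Nat.beq (fOf S1 S2 S3 S4 5) 5 || Nat.beq (fOf S1 S2 S3 S4 5) 7) &&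
    (Nat.beq (fOf S1 S2 S3 S4 7) 5 || Nat.beq (fOf S1 S2 S3 S4 7) 7)) ||
  (F5.all (fun i => Nat.testBit Fm (fOf S1 S2 S3 S4 i)) &&
    (!(F5.all (fun i => Nat.beq (fOf S1 S2 S3 S4 i) i)) ||
      (List.range 24).all (fun i => Nat.beq (fOf S1 S2 S3 S4 i) i)))

theorem allGood : U1.all (fun a => U2.all (fun b => U3.all (fun c => U4.all (fun d =>
    good a b c d)))) = true := by decide +kernel

/-! ### basic tools -/

theorem mem_of_ok {U : List ℕ} {m : ℕ} (hU : okU U m = true) {S : ℕ} (hS : S ∈ U) :
    isAutC S = true ∧ permC S ∈ K m := by
  have hSok := List.all_eq_true.1 hU S hS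
  simp only [Bool.and_eq_true] at hSok
  obtain ⟨⟨hA, hD⟩, hF⟩ := hSok
  exact ⟨hA, permC_mem_K hA hD hF⟩

theorem permC_P {S : ℕ} (h : isPerm S = true) (i : ℕ) (hi : i < 24) (j : ℕ) (hj : j < 24)
    (hij : papp S i = j) : permC S (P i hi) = P j hj :=
  permC_ptOf h i hi j hj hij

theorem K_smul {m : ℕ} {g : Equiv.Perm GolayPt} (hg : g ∈ K m) : g • fset Dm = fset Dm :=
  ((mem_K m g).1 hg).2

theorem K_M24 {m : ℕ} {g : Equiv.Perm GolayPt} (hg : g ∈ K m) : g ∈ M24 :=
  ((mem_K m g).1 hg).1.1

theorem K1_fix {g : Equiv.Perm GolayPt} (hg : g ∈ K 1) : g (P 0) = P 0 :=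
  ((mem_K 1 g).1 hg).1.2 _ ((mem_fset_P 1 0 (by decide)).2 (by decide))

theorem mem_K1 {g : Equiv.Perm GolayPt} (h1 : g ∈ M24) (h2 : g • fset Dm = fset Dm)
    (h3 : g (P 0) = P 0) : g ∈ K 1 := by
  rw [mem_K]
  refine ⟨⟨h1, fun p hp => ?_⟩, h2⟩
  have : p = P 0 := by
    revert hp; revert p; decide
  rw [this]; exact h3

theorem inv_self (f : Equiv.Perm GolayPt) (x : GolayPt) : f⁻¹ (f x) = x := f.symm_apply_apply x
theorem self_inv (f : Equiv.Perm GolayPt) (x : GolayPt) : f (f⁻¹ x) = x := f.apply_symm_apply x

theorem Dm_dodecad : fset Dm ∈ dodecads := by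
  rw [mem_dodecads_iff, fmask_fset Dm (by norm_num [Dm])]
  decide +kernel

theorem outL_mem : ∀ i < 24, Dm.testBit i = false → i ∈ outL := by decide

/-! ### moving any configuration to the base one -/

theorem transport (d : Finset GolayPt) (hd : d ∈ dodecads) (p q q' : GolayPt) (hp : p ∈ d)
    (hq : q ∉ d) (hq' : q' ∉ d) (hqq' : q ≠ q') :
    ∃ g ∈ M24, g • fset Dm = d ∧ g (P 0) = p ∧ g (P 5) = q ∧ g (P 7) = q' := by
  obtain ⟨g0, hg0, hg0d⟩ := Cfsg.Agent.Lib.Helper7.dodecad_trans (fset Dm) d Dm_dodecad hd
  -- level 0
  have ha : g0⁻¹ p ∈ fset Dm := by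
    have : g0⁻¹ p ∈ g0⁻¹ • d := Finset.smul_mem_smul_finset hp
    rwa [← hg0d, inv_smul_smul] at this
  rw [mem_fset] at ha
  have hc := List.all_eq_true.1 T0_cov (ptIdx (g0⁻¹ p)) (List.mem_range.2 (ptIdx (g0⁻¹ p)).isLt)
  rw [ha] at hc
  simp only [Nat.zero_testBit, Bool.not_false, Bool.and_self, Bool.not_true, Bool.false_or,
    List.any_eq_true] at hc
  obtain ⟨S, hS, hSj⟩ := hc
  obtain ⟨hA, hSK⟩ := mem_of_ok T0_ok hS
  have hu : permC S (P 0) = g0⁻¹ p := by
    rw [permC_P (isPerm_of_isAutC hA) 0 (by decide) _ (ptIdx (g0⁻¹ p)).isLt
      (Nat.eq_of_beq_eq_true hSj)]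
    exact P_ptIdx _
  have hg1M : g0 * permC S ∈ M24 := M24.mul_mem hg0 (K_M24 hSK)
  have hg1d : (g0 * permC S) • fset Dm = d := by rw [mul_smul, K_smul hSK, hg0d]
  have hg1p : (g0 * permC S) (P 0) = p := by rw [Equiv.Perm.mul_apply, hu, self_inv]
  generalize g0 * permC S = g1 at hg1M hg1d hg1p
  -- the pair
  have hb : ∀ x, x ∉ d → g1⁻¹ x ∉ fset Dm := by
    intro x hx h
    apply hx
    have : g1 (g1⁻¹ x) ∈ g1 • fset Dm := Finset.smul_mem_smul_finset h
    rwa [self_inv, hg1d] at this
  have hb1 := hb q hq
  have hb2 := hb q' hq'
  rw [mem_fset, Bool.not_eq_true] at hb1 hb2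
  have hi1 := outL_mem _ (ptIdx (g1⁻¹ q)).isLt hb1
  have hi2 := outL_mem _ (ptIdx (g1⁻¹ q')).isLt hb2
  have hne : ((ptIdx (g1⁻¹ q) : Fin 24) : ℕ) ≠ ptIdx (g1⁻¹ q') := by
    intro h
    apply hqq'
    have := ptIdx_inj h
    exact g1⁻¹.injective this
  have hc2 := List.all_eq_true.1 (List.all_eq_true.1 W_cov _ hi1) _ hi2
  rw [Bool.or_eq_true] at hc2
  rcases hc2 with hc2 | hc2
  · exact absurd (Nat.eq_of_beq_eq_true hc2) hne
  rw [List.any_eq_true] at hc2
  obtain ⟨S', hS', hS'j⟩ := hc2
  rw [Bool.and_eq_true] at hS'j
  obtain ⟨hA', hS'K⟩ := mem_of_ok W_ok hS'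
  have hw5 : permC S' (P 5) = g1⁻¹ q := by
    rw [permC_P (isPerm_of_isAutC hA') 5 (by decide) _ (ptIdx (g1⁻¹ q)).isLt
      (Nat.eq_of_beq_eq_true hS'j.1)]
    exact P_ptIdx _
  have hw7 : permC S' (P 7) = g1⁻¹ q' := by
    rw [permC_P (isPerm_of_isAutC hA') 7 (by decide) _ (ptIdx (g1⁻¹ q')).isLt
      (Nat.eq_of_beq_eq_true hS'j.2)]
    exact P_ptIdx _
  refine ⟨g1 * permC S', M24.mul_mem hg1M (K_M24 hS'K), ?_, ?_, ?_, ?_⟩
  · rw [mul_smul, K_smul hS'K, hg1d]
  · rw [Equiv.Perm.mul_apply, K1_fix hS'K, hg1p]
  · rw [Equiv.Perm.mul_apply, hw5, self_inv]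
  · rw [Equiv.Perm.mul_apply, hw7, self_inv]

/-! ### the base group -/

def pair57 : Finset GolayPt := {P 5, P 7}

def G0 : Subgroup (Equiv.Perm GolayPt) :=
  K 1 ⊓ MulAction.stabilizer (Equiv.Perm GolayPt) pair57

theorem mem_G0 (g : Equiv.Perm GolayPt) : g ∈ G0 ↔ g ∈ K 1 ∧ g • pair57 = pair57 := by
  unfold G0
  rw [Subgroup.mem_inf, MulAction.mem_stabilizer_iff]

theorem enum {g : Equiv.Perm GolayPt} (hK1 : g ∈ K 1) :
    ∃ S1 ∈ U1, ∃ S2 ∈ U2, ∃ S3 ∈ U3, ∃ S4 ∈ U4,
      ∀ p : GolayPt, ((ptIdx (g p) : Fin 24) : ℕ) = fOf S1 S2 S3 S4 (ptIdx p) := by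
  obtain ⟨S1, hS1, hA1, h1⟩ := step 1 (by norm_num) U1 1 U1_ok U1_cov (by decide) (by decide) hK1
  obtain ⟨S2, hS2, hA2, h2⟩ := step 2 (by norm_num) U2 3 U2_ok U2_cov (by decide) (by decide) h1
  obtain ⟨S3, hS3, hA3, h3⟩ := step 3 (by norm_num) U3 7 U3_ok U3_cov (by decide) (by decide) h2
  obtain ⟨S4, hS4, hA4, h4⟩ := step 4 (by norm_num) U4 15 U4_ok U4_cov (by decide) (by decide) h3
  have hone := K31_trivial h4
  have hgeq : g = permC S1 * permC S2 * permC S3 * permC S4 := by
    have e : (permC S4)⁻¹ * ((permC S3)⁻¹ * ((permC S2)⁻¹ * ((permC S1)⁻¹ * g))) = 1 := hone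
    rw [inv_mul_eq_one, eq_comm, inv_mul_eq_iff_eq_mul, inv_mul_eq_iff_eq_mul,
      inv_mul_eq_iff_eq_mul] at e
    rw [e]; simp only [mul_assoc]
  have hP1 := isPerm_of_isAutC hA1
  have hP2 := isPerm_of_isAutC hA2
  have hP3 := isPerm_of_isAutC hA3
  have hP4 := isPerm_of_isAutC hA4
  refine ⟨S1, hS1, S2, hS2, S3, hS3, S4, hS4, fun p => ?_⟩
  rw [hgeq]
  simp only [Equiv.Perm.mul_apply, fOf]
  rw [ptIdx_permC hP1, ptIdx_permC hP2, ptIdx_permC hP3, ptIdx_permC hP4]

theorem pair_cases {x : GolayPt} (hx : x ∈ pair57) :
    ((ptIdx x : Fin 24) : ℕ) = 5 ∨ ((ptIdx x : Fin 24) : ℕ) = 7 := by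
  unfold pair57 at hx
  rw [Finset.mem_insert, Finset.mem_singleton] at hx
  rcases hx with rfl | rfl
  · left; exact ptIdx_P 5 _
  · right; exact ptIdx_P 7 _

theorem F5_cases : ∀ x : GolayPt, x ∈ fset Fm →
    x = P 2 ∨ x = P 3 ∨ x = P 6 ∨ x = P 8 ∨ x = P 18 := by decide

theorem F5_mem : ∀ x : GolayPt, x ∈ fset Fm → ((ptIdx x : Fin 24) : ℕ) ∈ F5 := by decide

/-- the key facts about an element of the base group -/
theorem G0_key {g : Equiv.Perm GolayPt} (hg : g ∈ G0) :
    (∀ x ∈ fset Fm, g x ∈ fset Fm) ∧ ((∀ x ∈ fset Fm, g x = x) → g = 1) := by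
  rw [mem_G0] at hg
  obtain ⟨hK1, hpair⟩ := hg
  obtain ⟨S1, hS1, S2, hS2, S3, hS3, S4, hS4, hf⟩ := enum hK1
  have hgood := List.all_eq_true.1 (List.all_eq_true.1 (List.all_eq_true.1
    (List.all_eq_true.1 allGood S1 hS1) S2 hS2) S3 hS3) S4 hS4
  have h5 : g (P 5) ∈ pair57 := by
    have : g (P 5) ∈ g • pair57 := Finset.smul_mem_smul_finset (by simp [pair57])
    rwa [hpair] at this
  have h7 : g (P 7) ∈ pair57 := by
    have : g (P 7) ∈ g • pair57 := Finset.smul_mem_smul_finset (by simp [pair57])
    rwa [hpair] at this
  have h5' := pair_cases h5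
  have h7' := pair_cases h7
  rw [hf, ptIdx_P] at h5' h7'
  unfold good at hgood
  have hpre : ((Nat.beq (fOf S1 S2 S3 S4 5) 5 || Nat.beq (fOf S1 S2 S3 S4 5) 7) &&
    (Nat.beq (fOf S1 S2 S3 S4 7) 5 || Nat.beq (fOf S1 S2 S3 S4 7) 7)) = true := by
    rw [Bool.and_eq_true, Bool.or_eq_true, Bool.or_eq_true]
    refine ⟨?_, ?_⟩
    · rcases h5' with h | h
      · left; rw [h]; rfl
      · right; rw [h]; rfl
    · rcases h7' with h | h
      · left; rw [h]; rfl
      · right; rw [h]; rfl
  rw [hpre] at hgood
  simp only [Bool.not_true, Bool.false_or, Bool.and_eq_true] at hgood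
  obtain ⟨hinv, hfaith⟩ := hgood
  constructor
  · intro x hx
    rw [mem_fset, hf]
    exact List.all_eq_true.1 hinv _ (F5_mem x hx)
  · intro hfix
    rw [Bool.or_eq_true] at hfaith
    rcases hfaith with hno | hall
    · exfalso
      rw [Bool.not_eq_true', ← Bool.not_eq_true, List.all_eq_true] at hno
      apply hno
      intro i hi
      have hi24 : i < 24 := by
        revert hi; revert i; decide
      have hiF : P i hi24 ∈ fset Fm := by
        rw [mem_fset_P]
        revert hi; revert i; decide
      have := hfix _ hiF
      have h2 := hf (P i hi24)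
      rw [this, ptIdx_P] at h2
      rw [← h2]
      exact Nat.beq_refl i
    · apply Equiv.ext
      intro p
      apply ptIdx_inj
      rw [hf]
      exact Nat.eq_of_beq_eq_true
        (List.all_eq_true.1 hall (ptIdx p) (List.mem_range.2 (ptIdx p).isLt))

/-! ### the action on the five points -/

theorem G0_iff {g : Equiv.Perm GolayPt} (hg : g ∈ G0) (x : GolayPt) :
    g x ∈ fset Fm ↔ x ∈ fset Fm := by
  constructor
  · intro h
    have := (G0_key (G0.inv_mem hg)).1 _ h
    rwa [inv_self] at this
  · exact (G0_key hg).1 x

def rho : G0 →* Equiv.Perm ↥(fset Fm) where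
  toFun g := Equiv.Perm.subtypePerm g.1 (G0_iff g.2)
  map_one' := by
    ext x
    rfl
  map_mul' := by
    intro a b
    ext x
    rfl

theorem rho_apply (g : G0) (x : ↥(fset Fm)) : ((rho g x : ↥(fset Fm)) : GolayPt) = g.1 x.1 := rfl

theorem rho_injective : Function.Injective rho := by
  rw [injective_iff_map_eq_one]
  intro g hg
  apply Subtype.ext
  apply (G0_key g.2).2
  intro x hx
  have := rho_apply g ⟨x, hx⟩
  rw [hg] at this
  exact this.symm

theorem L_mem_G0 {S : ℕ} (hS : S ∈ L) : isAutC S = true ∧ permC S ∈ G0 := by
  obtain ⟨hA, hK⟩ := mem_of_ok L_ok hS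
  refine ⟨hA, ?_⟩
  rw [mem_G0]
  refine ⟨hK, ?_⟩
  have hP := isPerm_of_isAutC hA
  have hst := List.all_eq_true.1 L_stab S hS
  unfold pair57
  rw [Finset.smul_finset_insert, Finset.smul_finset_singleton]
  show ({permC S (P 5), permC S (P 7)} : Finset GolayPt) = _
  simp only [Bool.or_eq_true, Bool.and_eq_true] at hst
  rcases hst with ⟨h5, h7⟩ | ⟨h5, h7⟩
  · rw [permC_P hP 5 (by decide) 5 (by decide) (Nat.eq_of_beq_eq_true h5),
      permC_P hP 7 (by decide) 7 (by decide) (Nat.eq_of_beq_eq_true h7)]
  · rw [permC_P hP 5 (by decide) 7 (by decide) (Nat.eq_of_beq_eq_true h5),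
      permC_P hP 7 (by decide) 5 (by decide) (Nat.eq_of_beq_eq_true h7)]
    exact Finset.pair_comm _ _

theorem P_mem_F (i : ℕ) (hi : i ∈ F5) : ∃ h : i < 24, P i h ∈ fset Fm := by
  revert hi; revert i; decide

theorem rho_surjective : Function.Surjective rho := by
  intro π
  have hF : ∀ i ∈ F5, ∃ h : i < 24, P i h ∈ fset Fm := P_mem_F
  -- the five base points as elements of the subtype
  let f : ∀ i ∈ F5, ↥(fset Fm) := fun i hi => ⟨P i (hF i hi).1, (hF i hi).2⟩
  -- the images
  let t : ∀ i ∈ F5, ℕ := fun i hi => ((ptIdx (π (f i hi)).1 : Fin 24) : ℕ)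
  have ht : ∀ i (hi : i ∈ F5), t i hi ∈ F5 := fun i hi => F5_mem _ (π (f i hi)).2
  have hinj : ∀ i (hi : i ∈ F5) j (hj : j ∈ F5), t i hi = t j hj → i = j := by
    intro i hi j hj h
    have h1 : (π (f i hi)).1 = (π (f j hj)).1 := ptIdx_inj h
    have h2 : f i hi = f j hj := π.injective (Subtype.ext h1)
    have h3 : P i (hF i hi).1 = P j (hF j hj).1 := congrArg Subtype.val h2
    have h4 := congrArg (fun x => ((ptIdx x : Fin 24) : ℕ)) h3
    simp only [ptIdx_P] at h4
    exact h4
  have m2 : 2 ∈ F5 := by decide
  have m3 : 3 ∈ F5 := by decide
  have m6 : 6 ∈ F5 := by decide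
  have m8 : 8 ∈ F5 := by decide
  have m18 : 18 ∈ F5 := by decide
  have hs := List.all_eq_true.1 (List.all_eq_true.1 (List.all_eq_true.1 (List.all_eq_true.1
    (List.all_eq_true.1 L_surj _ (ht 2 m2)) _ (ht 3 m3)) _ (ht 6 m6)) _ (ht 8 m8)) _ (ht 18 m18)
  rw [Bool.or_eq_true] at hs
  rcases hs with hs | hs
  · exfalso
    simp only [Bool.or_eq_true] at hs
    have hne : ∀ i (hi : i ∈ F5) j (hj : j ∈ F5), i ≠ j → Nat.beq (t i hi) (t j hj) ≠ true := by
      intro i hi j hj hij h
      exact hij (hinj i hi j hj (Nat.eq_of_beq_eq_true h))
    rcases hs with ((((((((h | h) | h) | h) | h) | h) | h) | h) | h) | h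
    · exact hne 2 m2 3 m3 (by decide) h
    · exact hne 2 m2 6 m6 (by decide) h
    · exact hne 2 m2 8 m8 (by decide) h
    · exact hne 2 m2 18 m18 (by decide) h
    · exact hne 3 m3 6 m6 (by decide) h
    · exact hne 3 m3 8 m8 (by decide) h
    · exact hne 3 m3 18 m18 (by decide) h
    · exact hne 6 m6 8 m8 (by decide) h
    · exact hne 6 m6 18 m18 (by decide) h
    · exact hne 8 m8 18 m18 (by decide) h
  rw [List.any_eq_true] at hs
  obtain ⟨S, hS, hSt⟩ := hs
  simp only [Bool.and_eq_true] at hSt
  obtain ⟨⟨⟨⟨e2, e3⟩, e6⟩, e8⟩, e18⟩ := hSt
  obtain ⟨hA, hG⟩ := L_mem_G0 hS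
  have hP := isPerm_of_isAutC hA
  refine ⟨⟨permC S, hG⟩, ?_⟩
  apply Equiv.ext
  intro x
  apply Subtype.ext
  rw [rho_apply]
  show permC S x.1 = (π x).1
  have key : ∀ i (hi : i ∈ F5), papp S i = t i hi → x.1 = P i (hF i hi).1 →
      permC S x.1 = (π x).1 := by
    intro i hi hpap hx
    have hx' : x = f i hi := Subtype.ext hx
    rw [hx, hx']
    rw [permC_P hP i (hF i hi).1 (t i hi) (ptIdx (π (f i hi)).1).isLt hpap]
    exact P_ptIdx _
  rcases F5_cases x.1 x.2 with h | h | h | h | h
  · exact key 2 m2 (Nat.eq_of_beq_eq_true e2) h
  · exact key 3 m3 (Nat.eq_of_beq_eq_true e3) h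
  · exact key 6 m6 (Nat.eq_of_beq_eq_true e6) h
  · exact key 8 m8 (Nat.eq_of_beq_eq_true e8) h
  · exact key 18 m18 (Nat.eq_of_beq_eq_true e18) h

theorem card_F : Fintype.card ↥(fset Fm) = 5 := by
  rw [Fintype.card_coe]
  decide

/-! ### the statement -/

/-- In the 12-point action of the smallest Mathieu group the setwise stabiliser of a pair is isomorphic to the symmetric group of degree 5. -/
theorem result (d : Finset Cfsg.GolayPt) (hd : d ∈ Cfsg.dodecads) (p q q' : Cfsg.GolayPt) (hp : p ∈ d) (hq : q ∉ d) (hq' : q' ∉ d) (hqq' : q ≠ q') : Nonempty (↥(MulAction.stabilizer Cfsg.M24 d ⊓ MulAction.stabilizer Cfsg.M24 p ⊓ MulAction.stabilizer Cfsg.M24 ({q, q'} : Finset Cfsg.GolayPt)) ≃* Equiv.Perm (Fin 5)) := by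
  obtain ⟨g, hg, hgd, hgp, hgq, hgq'⟩ := transport d hd p q q' hp hq hq' hqq'
  have hgpair : g • pair57 = ({q, q'} : Finset GolayPt) := by
    unfold pair57
    rw [Finset.smul_finset_insert, Finset.smul_finset_singleton]
    show ({g (P 5), g (P 7)} : Finset GolayPt) = _
    rw [hgq, hgq']
  have hto : ∀ k ∈ G0, ∃ hk : g * k * g⁻¹ ∈ M24,
      (⟨g * k * g⁻¹, hk⟩ : ↥M24) ∈ (MulAction.stabilizer Cfsg.M24 d ⊓ MulAction.stabilizer Cfsg.M24 p ⊓
        MulAction.stabilizer Cfsg.M24 ({q, q'} : Finset Cfsg.GolayPt)) := by
    intro k hk
    rw [mem_G0] at hk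
    obtain ⟨hkK, hkpair⟩ := hk
    refine ⟨M24.mul_mem (M24.mul_mem hg (K_M24 hkK)) (M24.inv_mem hg), ?_⟩
    simp only [Subgroup.mem_inf, MulAction.mem_stabilizer_iff]
    refine ⟨⟨?_, ?_⟩, ?_⟩
    · show (g * k * g⁻¹) • d = d
      have h1 : g⁻¹ • d = fset Dm := by rw [← hgd, inv_smul_smul]
      rw [mul_smul, mul_smul, h1, K_smul hkK, hgd]
    · show (g * k * g⁻¹) p = p
      simp only [Equiv.Perm.mul_apply]
      rw [← hgp, inv_self, K1_fix hkK]
    · show (g * k * g⁻¹) • ({q, q'} : Finset GolayPt) = {q, q'}
      have h1 : g⁻¹ • ({q, q'} : Finset GolayPt) = pair57 := by rw [← hgpair, inv_smul_smul]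
      rw [mul_smul, mul_smul, h1, hkpair, hgpair]
  have hfrom : ∀ s : ↥M24, s ∈ (MulAction.stabilizer Cfsg.M24 d ⊓ MulAction.stabilizer Cfsg.M24 p ⊓
        MulAction.stabilizer Cfsg.M24 ({q, q'} : Finset Cfsg.GolayPt)) →
      g⁻¹ * s.1 * g ∈ G0 := by
    intro s hs
    simp only [Subgroup.mem_inf, MulAction.mem_stabilizer_iff] at hs
    obtain ⟨⟨hsd, hsp⟩, hsq⟩ := hs
    have hsd' : s.1 • d = d := hsd
    have hsp' : s.1 p = p := hsp
    have hsq' : s.1 • ({q, q'} : Finset GolayPt) = {q, q'} := hsq
    rw [mem_G0]
    refine ⟨mem_K1 (M24.mul_mem (M24.mul_mem (M24.inv_mem hg) s.2) hg) ?_ ?_, ?_⟩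
    · rw [mul_smul, mul_smul, hgd, hsd', ← hgd, inv_smul_smul]
    · simp only [Equiv.Perm.mul_apply]
      rw [hgp, hsp', ← hgp, inv_self]
    · rw [mul_smul, mul_smul, hgpair, hsq', ← hgpair, inv_smul_smul]
  let iso1 : ↥(MulAction.stabilizer Cfsg.M24 d ⊓ MulAction.stabilizer Cfsg.M24 p ⊓
      MulAction.stabilizer Cfsg.M24 ({q, q'} : Finset Cfsg.GolayPt)) ≃* ↥G0 :=
    { toFun := fun s => ⟨g⁻¹ * s.1.1 * g, hfrom s.1 s.2⟩
      invFun := fun k => ⟨⟨g * k.1 * g⁻¹, (hto k.1 k.2).1⟩, (hto k.1 k.2).2⟩
      left_inv := by
        intro s
        apply Subtype.ext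
        apply Subtype.ext
        show g * (g⁻¹ * s.1.1 * g) * g⁻¹ = s.1.1
        group
      right_inv := by
        intro k
        apply Subtype.ext
        show g⁻¹ * (g * k.1 * g⁻¹) * g = k.1
        group
      map_mul' := by
        intro a b
        apply Subtype.ext
        show g⁻¹ * (a.1.1 * b.1.1) * g = (g⁻¹ * a.1.1 * g) * (g⁻¹ * b.1.1 * g)
        group }
  let iso2 : ↥G0 ≃* Equiv.Perm ↥(fset Fm) :=
    MulEquiv.ofBijective rho ⟨rho_injective, rho_surjective⟩
  let iso3 : Equiv.Perm ↥(fset Fm) ≃* Equiv.Perm (Fin 5) :=
    (Fintype.equivFinOfCardEq card_F).permCongrHom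
  exact ⟨(iso1.trans iso2).trans iso3⟩

end Cfsg.Agent.S1602
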