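import Cfsg.Statements.S1601
import Cfsg.Agent.S1602
import Cfsg.Agent.S0242
import Cfsg.Agent.S0243
import Cfsg.Agent.Lib.Helper89.TableChain2
import Cfsg.Agent.Lib.Helper89.DiagIso

set_option autoImplicit false
set_option maxRecDepth 1000000
open scoped Pointwise
open Cfsg

namespace Cfsg.Agent.S1601

open Cfsg.Agent.Lib.Helper93.Golay
open Cfsg.Agent.S5522 (Dm K mem_K U1 U2 U3 U4 fOf ptIdx_inj permC_mem_K)
open Cfsg.Agent.Lib.Helper89 Cfsg.Agent.Lib.Helper89.DiagIso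
open Matrix

/-! ### the diagonal group inside `SL₂(11) × Sym(24)` -/

instance fact11 : Fact (Nat.Prime 11) := ⟨by norm_num⟩

abbrev SL2 := Matrix.SpecialLinearGroup (Fin 2) (ZMod 11)
abbrev V := Fin 2 → ZMod 11
abbrev GG := SL2 × Equiv.Perm GolayPt
abbrev Pt := SumPt V GolayPt

def ga (j : ℕ) : SL2 :=
  match j with
  | 0 => ⟨!![1, 2; 0, 1], by decide⟩
  | 1 => ⟨!![0, 1; 10, 0], by decide⟩
  | 2 => ⟨!![0, 1; 10, 10], by decide⟩
  | _ => 1

def codes (j : ℕ) : ℕ := [939328239793420504878555253597028448, 969240118097008726526406917528625184, 609636766906207105165638742985410848].getD j 984818244535754528103549039458486304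

def tabC : List ℕ := [
  8781228528261368576694153208052295688301255739783478381407793269016076668972117705782214703003477211461552204625020957366875741503019211939448730094960599794211299031940453873207791545556547488613978502805532108811961494329434845761928479395540472537237382484492200570382934045866726963770448099307858008088113327704073879071774860716693918527133440,
  8840251243427666533947011205876475499624167167316676525822297283629513045304633254782898768710165600848390799778948330321555247918578880623063111374676587785334057098866218193357805995232220625348527841090605428936575486121654675722038439865855367473541734698335151426107626781458093860331181125533674780979798160309366437810965433418647422593534720,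
  8292327871947916823342174176242637365398007285778684371445772059397506473165788943457285050732656040266380035565314110808514865860947049610708680087612272604173445894824842966077671284658976297443691621738348405939674855957798992343324472156784144787448415028128881614095753507091672389109565748042789926874367280425105356306999046595360635643434240
]

def tab (j x : ℕ) : ℕ := ((tabC.getD j 0) >>> (8 * x)) &&& 255

/-- the second components -/
def gb (j : ℕ) : Equiv.Perm GolayPt := permC (codes j)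

/-- the generators of the diagonal group -/
def gen (j : ℕ) : GG := (ga j, gb j)

/-- the vector with a given index -/
def vecN (n : ℕ) : V := ![((n / 11 : ℕ) : ZMod 11), ((n % 11 : ℕ) : ZMod 11)]

/-- the point of the 24-set with a given index -/
def PN (i : ℕ) : GolayPt := ptOf ⟨i % 24, Nat.mod_lt _ (by norm_num)⟩

/-- the 121 + 24 points -/
def pt (x : ℕ) : Pt := if x < 121 then SumPt.inl (vecN x) else SumPt.inr (PN (x - 121))

/-- the check points: the two basis vectors and the 24 points -/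
def chk : List ℕ := [11, 1] ++ (List.range 24).map (fun i => 121 + i)

theorem codes_ok : (List.range 3).all (fun j => isAutC (codes j) && Nat.beq (pmask (codes j) Dm) Dm &&
    fixesMask (codes j) 1 && Nat.beq (papp (codes j) 5) 5) = true := by decide +kernel

theorem codes_ok' (j : ℕ) (hj : j < 3) : isAutC (codes j) = true ∧ Nat.beq (pmask (codes j) Dm) Dm = true ∧
    fixesMask (codes j) 1 = true ∧ papp (codes j) 5 = 5 := by
  have := List.all_eq_true.1 codes_ok j (List.mem_range.2 hj)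
  simp only [Bool.and_eq_true] at this
  exact ⟨this.1.1.1, this.1.1.2, this.1.2, Nat.eq_of_beq_eq_true this.2⟩

theorem codes_perm (j : ℕ) (hj : j < 3) : isPerm (codes j) = true :=
  isPerm_of_isAutC (codes_ok' j hj).1

theorem tab_ok : (List.range 3).all (fun j => (List.range 145).all (fun x =>
    Nat.blt (tab j x) 145 && (Nat.blt x 121 == Nat.blt (tab j x) 121))) = true := by decide +kernel

theorem tab_lt (j : ℕ) (hj : j < 3) (x : ℕ) (hx : x < 145) : tab j x < 145 := by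
  have := List.all_eq_true.1 (List.all_eq_true.1 tab_ok j (List.mem_range.2 hj)) x (List.mem_range.2 hx)
  rw [Bool.and_eq_true] at this
  exact Nat.le_of_ble_eq_true this.1

theorem tab_lt' (j : ℕ) (hj : j < 3) (x : ℕ) (hx : x < 145) : tab j x < 121 ↔ x < 121 := by
  have := List.all_eq_true.1 (List.all_eq_true.1 tab_ok j (List.mem_range.2 hj)) x (List.mem_range.2 hx)
  rw [Bool.and_eq_true] at this
  have h2 := this.2
  rw [beq_iff_eq] at h2
  constructor
  · intro h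
    have : Nat.blt (tab j x) 121 = true := Nat.ble_eq_true_of_le h
    rw [← h2] at this
    exact Nat.le_of_ble_eq_true this
  · intro h
    have : Nat.blt x 121 = true := Nat.ble_eq_true_of_le h
    rw [h2] at this
    exact Nat.le_of_ble_eq_true this

theorem ga_smul : ∀ j : Fin 3, ∀ n : Fin 121, (ga j.val).1 *ᵥ vecN n.val = vecN (tab j.val n.val) := by
  decide +kernel

theorem gb_smul : (List.range 3).all (fun j => (List.range 24).all (fun i =>
    Nat.beq (papp (codes j) i) (tab j (121 + i) - 121))) = true := by decide +kernel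

theorem PN_eq (i : ℕ) (hi : i < 24) : PN i = ptOf ⟨i, hi⟩ := by
  unfold PN
  congr 1
  apply Fin.ext
  exact Nat.mod_eq_of_lt hi

theorem gen_smul (j : ℕ) (hj : j < 3) (x : ℕ) (hx : x < 145) : gen j • pt x = pt (tab j x) := by
  by_cases h : x < 121
  · have h2 := ga_smul ⟨j, hj⟩ ⟨x, h⟩
    have h1 := (tab_lt' j hj x hx).2 h
    unfold pt
    rw [if_pos h, if_pos h1, SumPt.smul_inl]
    congr 1
  · have h' : x - 121 < 24 := by omega
    have h2 := Nat.eq_of_beq_eq_true (List.all_eq_true.1 (List.all_eq_true.1 gb_smul j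
      (List.mem_range.2 hj)) (x - 121) (List.mem_range.2 h'))
    have hx' : 121 + (x - 121) = x := by omega
    rw [hx'] at h2
    have h1 : ¬ tab j x < 121 := fun hh => h ((tab_lt' j hj x hx).1 hh)
    unfold pt
    rw [if_neg h, if_neg h1, SumPt.smul_inr]
    congr 1
    have h3 : tab j x - 121 < 24 := by have := tab_lt j hj x hx; omega
    rw [PN_eq _ h', PN_eq _ h3]
    exact permC_ptOf (codes_perm j hj) _ h' _ h3 h2

theorem pt_inj (x : ℕ) (hx' : x < 145) (y : ℕ) (hy' : y < 145) (hxy : pt x = pt y) : x = y := by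
  unfold pt at hxy
  by_cases hx : x < 121 <;> by_cases hy : y < 121
  · rw [if_pos hx, if_pos hy] at hxy
    have h := SumPt.inl_injective hxy
    have h0 := congrFun h 0
    have h1 := congrFun h 1
    simp only [vecN, Matrix.cons_val_zero, Matrix.cons_val_one] at h0 h1
    have e0 : x / 11 = y / 11 := by
      have := (ZMod.natCast_eq_natCast_iff' _ _ 11).1 h0
      rw [Nat.mod_eq_of_lt (by omega), Nat.mod_eq_of_lt (by omega)] at this
      exact this
    have e1 : x % 11 = y % 11 := by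
      have := (ZMod.natCast_eq_natCast_iff' _ _ 11).1 h1
      rw [Nat.mod_mod, Nat.mod_mod] at this
      exact this
    omega
  · rw [if_pos hx, if_neg hy] at hxy
    exact absurd hxy (SumPt.inl_ne_inr _ _)
  · rw [if_neg hx, if_pos hy] at hxy
    exact absurd hxy.symm (SumPt.inl_ne_inr _ _)
  · rw [if_neg hx, if_neg hy] at hxy
    have h := SumPt.inr_injective hxy
    have hx'' : x - 121 < 24 := by omega
    have hy'' : y - 121 < 24 := by omega
    rw [PN_eq _ hx'', PN_eq _ hy''] at h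
    have := congrArg (fun p => ((ptIdx p : Fin 24) : ℕ)) h
    simp only [ptIdx_ptOf] at this
    omega

theorem chk_lt : ∀ x ∈ chk, x < 145 := by decide

theorem faithful (g g' : GG) (h : ∀ x ∈ chk, g • pt x = g' • pt x) : g = g' := by
  apply Prod.ext
  · apply Subtype.ext
    have e1 : g.1.1 *ᵥ vecN 11 = g'.1.1 *ᵥ vecN 11 := by
      have := h 11 (by decide)
      unfold pt at this
      rw [if_pos (by norm_num), SumPt.smul_inl, SumPt.smul_inl] at this
      exact SumPt.inl_injective this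
    have e2 : g.1.1 *ᵥ vecN 1 = g'.1.1 *ᵥ vecN 1 := by
      have := h 1 (by decide)
      unfold pt at this
      rw [if_pos (by norm_num), SumPt.smul_inl, SumPt.smul_inl] at this
      exact SumPt.inl_injective this
    have v11 : vecN 11 = Pi.single 0 1 := by decide
    have v1 : vecN 1 = Pi.single 1 1 := by decide
    rw [v11, Matrix.mulVec_single_one, Matrix.mulVec_single_one] at e1
    rw [v1, Matrix.mulVec_single_one, Matrix.mulVec_single_one] at e2
    ext i k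
    fin_cases k
    · exact congrFun e1 i
    · exact congrFun e2 i
  · apply Equiv.ext
    intro p
    have hp := (ptIdx p).isLt
    have hmem : 121 + (ptIdx p).val ∈ chk := by
      unfold chk
      rw [List.mem_append]
      right
      rw [List.mem_map]
      exact ⟨(ptIdx p).val, List.mem_range.2 hp, rfl⟩
    have := h _ hmem
    unfold pt at this
    rw [if_neg (by omega), SumPt.smul_inr, SumPt.smul_inr] at this
    have h2 := SumPt.inr_injective this
    have h3 : PN (121 + (ptIdx p).val - 121) = p := by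
      rw [PN_eq _ (by omega)]
      have : (⟨121 + (ptIdx p).val - 121, by omega⟩ : Fin 24) = ptIdx p :=
        Fin.ext (by simp)
      rw [this, ptOf_ptIdx]
    rw [h3] at h2
    exact h2

/-- the chain data of the diagonal group -/
def DD : TableChain2.Data GG Pt where
  m := 3
  N := 145
  gen := gen
  pt := pt
  tab := tab
  chk := chk
  gen_smul := gen_smul
  tab_lt := tab_lt
  chk_lt := chk_lt
  faithful := faithful
  pt_inj := pt_inj

def T0 : List (List ℕ) := [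
  [],
  [1, 1, 1],
  [0, 0, 0, 1, 0, 1],
  [0, 0, 2, 0, 1],
  [1, 2, 0, 2, 1, 2, 0, 1],
  [0, 2, 1, 2, 0, 0, 1],
  [0, 1, 0, 0, 0, 1],
  [1, 2, 0, 1, 0, 0, 1],
  [0, 0, 2, 1, 1, 0, 1],
  [0, 0, 0, 2, 0, 2, 1],
  [1],
  [0, 2, 1],
  [1, 2, 2, 0, 2, 1],
  [2, 1, 2, 0, 0, 0, 1],
  [2, 1, 1, 0, 0, 0, 1],
  [2, 1, 2, 0, 0, 1],
  [2, 1, 1, 0, 0, 1],
  [2, 1, 2, 0, 1],
  [2, 1, 1, 0, 1],
  [2, 0, 2, 1],
  [2, 1, 1, 1],
  [1, 0, 0, 0, 1, 0, 1],
  [1, 1, 0, 1],
  [2, 0, 0, 1, 0, 1],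
  [1, 2, 2, 1, 1, 0, 1],
  [1, 0, 0, 1, 0, 1],
  [1, 2, 1, 0, 2, 0, 1],
  [2, 0, 1, 0, 1],
  [0, 2, 0, 0, 0, 1],
  [1, 0, 1, 0, 1],
  [2, 0, 0, 0, 1, 0, 1],
  [2, 1, 0, 1],
  [1, 0, 0, 2, 0, 1],
  [1, 2, 0, 1],
  [0, 1, 0, 1],
  [2, 0, 2, 0, 1],
  [1, 2, 2, 1, 2, 0, 1],
  [2, 2, 0, 2, 0, 1],
  [1, 0, 2, 0, 1],
  [2, 2, 1, 2, 0, 0, 0, 1],
  [2, 0, 0, 2, 0, 1],
  [2, 2, 0, 1],
  [0, 0, 0, 0, 1],
  [2, 0, 1, 0, 0, 1],
  [1, 1, 0, 0, 1],
  [0, 0, 0, 0, 1, 0, 1],
  [2, 0, 0, 1, 0, 0, 1],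
  [0, 0, 1, 0, 0, 1],
  [2, 1, 0, 0, 1, 0, 1],
  [0, 1, 0, 2, 0, 1],
  [0, 2, 1, 2, 0, 1],
  [2, 1, 0, 0, 1],
  [0, 0, 2, 0, 2, 1],
  [2, 2, 1, 0, 0, 0, 0, 1],
  [2, 2, 0, 1, 0, 0, 0, 1],
  [1, 2, 0, 0, 1],
  [1, 0, 2, 0, 0, 1],
  [0, 2, 0, 1],
  [1, 2, 2, 0, 0, 0, 1],
  [2, 2, 1, 2, 0, 0, 1],
  [0, 0, 1, 0, 2, 0, 1],
  [2, 2, 0, 0, 1],
  [2, 0, 2, 0, 0, 1],
  [2, 0, 0, 2, 0, 0, 1],
  [0, 0, 0, 1],
  [1, 0, 1, 0, 0, 0, 1],
  [1, 1, 0, 0, 0, 1],
  [2, 1, 0, 2, 0, 1],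
  [2, 2, 0, 1, 0, 1],
  [2, 2, 1, 1, 0, 0, 1],
  [2, 0, 1, 0, 0, 0, 1],
  [2, 1, 0, 0, 0, 1],
  [1, 0, 1, 0, 2, 0, 1],
  [0, 2, 1, 1, 0, 1],
  [1, 2, 0, 1, 0, 1],
  [2, 2, 1, 0, 0, 0, 1],
  [2, 0, 2, 1, 2, 0, 1],
  [1, 2, 0, 0, 0, 1],
  [0, 0, 1, 0, 1],
  [2, 2, 1, 2, 0, 1],
  [0, 1, 0, 0, 1],
  [2, 2, 0, 0, 0, 1],
  [1, 2, 2, 0, 0, 1],
  [2, 1, 2, 1, 0, 0, 1],
  [0, 1, 0, 1, 0, 1],
  [1, 0, 2, 0, 0, 0, 1],
  [0, 0, 1],
  [2, 2, 0, 0, 2, 0, 1],
  [2, 1, 0, 1, 0, 1],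
  [2, 2, 1, 1, 0, 1],
  [2, 0, 0, 2, 1, 1, 0, 1],
  [2, 1, 0, 0, 0, 0, 1],
  [0, 0, 2, 0, 0, 1],
  [1, 2, 0, 2, 0, 0, 1],
  [1, 2, 1, 0, 0, 1],
  [2, 0, 2, 1, 1, 0, 1],
  [0, 2, 0, 2, 1],
  [2, 2, 1, 0, 0, 1],
  [2, 2, 0, 0, 0, 1, 0, 1],
  [2, 2, 0, 2, 1],
  [0, 1, 0, 2, 0, 0, 1],
  [2, 1, 2, 1, 0, 1],
  [0, 2, 1, 1, 0, 0, 0, 1],
  [0, 2, 0, 0, 1],
  [2, 1, 0, 2, 0, 0, 0, 1],
  [2, 1, 2, 0, 1, 0, 1],
  [1, 2, 2, 0, 1],
  [2, 0, 0, 2, 0, 2, 1],
  [0, 1],
  [1, 1],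
  [2, 1],
  [1, 0, 1],
  [2, 0, 1],
  [1, 0, 0, 1],
  [2, 0, 0, 1],
  [1, 0, 0, 0, 1],
  [2, 0, 0, 0, 1],
  [1, 0, 0, 0, 0, 1],
  [1, 2, 1, 0, 1],
  [2, 2, 1, 0, 1]
]

def E0 : List (List (ℕ × List ℕ)) := [
  [(0, [0]), (22, []), (45, []), (68, [0, 0]), (91, [0, 0, 0, 0, 0, 0, 0, 0]), (114, [0, 0, 0, 0, 0, 0, 0, 0, 0]), (16, [0, 0, 0, 0, 0, 0, 0, 0, 0]), (39, [0, 0, 0, 0, 0, 0, 0, 0]), (62, [0, 0, 0, 0]), (85, [0, 0, 0, 0, 0, 0, 0, 0]), (108, []), (33, [0, 0, 0, 0, 0]), (56, [0, 0, 0, 0, 0, 0, 0]), (79, [0, 0, 0, 0]), (102, []), (5, []), (27, [0, 0, 0, 0, 0, 0, 0, 0, 0]), (50, []), (73, []), (96, []), (119, [0, 0, 0, 0, 0]), (21, [0, 0, 0]), (44, []), (67, [0, 0, 0, 0, 0, 0, 0]), (90, [0, 0, 0, 0, 0, 0, 0, 0]), (113, [0, 0]), (15, [0, 0, 0]), (38, [0]), (61, [0, 0, 0]), (84, []), (107, [0, 0, 0]), (10, [0, 0, 0, 0, 0]), (32, [0, 0, 0, 0, 0]), (55, []), (78, []), (101, [0, 0, 0, 0, 0, 0, 0, 0, 0, 0]), (4, []), (26,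 []), (49, []), (72, [0, 0, 0, 0, 0, 0, 0, 0]), (95, [0, 0, 0, 0, 0, 0]), (118, []), (20, [0, 0, 0, 0, 0, 0]), (43, [0, 0, 0, 0, 0, 0, 0, 0, 0]), (66, []), (89, []), (112, [0]), (14, [0, 0, 0, 0, 0, 0, 0, 0]), (37, [0]), (60, []), (83, [0]), (106, []), (9, []), (31, [0, 0, 0, 0, 0, 0]), (54, [0, 0, 0, 0]), (77, []), (100, []), (3, []), (25, [0]), (48, [0, 0, 0, 0, 0, 0, 0, 0, 0]), (71, [0]), (94, []), (117, [0, 0, 0]), (19, [0, 0, 0, 0, 0]), (42, []), (65, [0, 0, 0, 0]), (88, [0, 0, 0, 0, 0, 0]), (111, []), (13, [0, 0, 0, 0, 0]), (36, []), (59, [0, 0, 0, 0, 0, 0, 0]), (82, []), (105, [0, 0, 0, 0]), (8, []), (30, [0, 0, 0, 0, 0, 0, 0]), (53, []), (76, [0, 0, 0, 0, 0, 0, 0, 0, 0]), (99, [0]), (2, []), (24, []), (47, []), (70, [0, 0]), (93, []), (116, [0, 0, 0, 0, 0, 0, 0]), (18, [0, 0, 0, 0, 0, 0, 0, 0, 0]), (41, [0, 0, 0, 0, 0, 0, 0, 0]), (64, []), (87, [0, 0, 0, 0, 0]), (110, []), (12, [0, 0, 0, 0, 0, 0]), (35, [0,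 0, 0, 0, 0, 0]), (58, []), (81, [0, 0]), (104, [0, 0]), (7, []), (29, [0, 0, 0, 0, 0, 0, 0, 0, 0, 0]), (52, []), (75, []), (98, [0, 0, 0]), (1, [0, 0, 0, 0, 0, 0, 0, 0, 0, 0]), (23, [0, 0]), (46, [0, 0, 0, 0, 0, 0, 0, 0]), (69, [0, 0, 0]), (92, []), (115, []), (17, [0, 0]), (40, [0, 0, 0, 0, 0, 0, 0, 0]), (63, [0, 0]), (86, []), (109, [0]), (11, []), (34, []), (57, []), (80, []), (103, []), (6, []), (28, []), (51, [0, 0, 0, 0]), (74, []), (97, [])],
  [(10, []), (0, []), (21, []), (32, []), (43, []), (54, [0, 0]), (65, []), (76, []), (87, [0, 0, 0, 0, 0, 0, 0, 0]), (98, [0]), (109, []), (20, [0, 0, 0, 0, 0]), (31, [0, 0, 0, 0, 0]), (42, []), (53, []), (64, []), (75, []), (86, []), (97, []), (108, [0, 0, 0, 0, 0]), (119, []), (9, [0, 0, 0, 0, 0, 0]), (19, [0, 0, 0, 0, 0, 0]), (30, [0, 0, 0, 0, 0, 0, 0]), (41, []), (52, [0, 0, 0, 0, 0, 0]), (63, [0]), (74, []), (85, []), (96, [0, 0, 0, 0, 0, 0]), (107, [0, 0, 0, 0, 0,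 0, 0, 0, 0, 0]), (118, []), (8, []), (18, []), (29, []), (40, [0, 0, 0, 0, 0, 0, 0, 0]), (51, []), (62, [0]), (73, []), (84, [0, 0, 0, 0, 0, 0]), (95, [0, 0, 0]), (106, []), (117, []), (7, []), (17, []), (28, [0, 0, 0]), (39, [0, 0, 0, 0, 0, 0, 0, 0]), (50, [0]), (61, [0, 0]), (72, []), (83, []), (94, []), (105, [0, 0, 0, 0, 0]), (116, []), (6, [0, 0, 0, 0, 0, 0, 0, 0, 0]), (16, []), (27, [0, 0, 0, 0, 0, 0, 0, 0, 0]), (38, []), (49, [0, 0, 0, 0, 0, 0, 0, 0]), (60, [0, 0, 0, 0, 0, 0, 0, 0]), (71, [0, 0, 0]), (82, []), (93, []), (104, [0, 0]), (115, []), (5, []), (15, []), (26, []), (37, [0]), (48, [0, 0, 0, 0, 0, 0, 0, 0, 0]), (59, [0, 0, 0, 0, 0, 0, 0, 0, 0]), (70, [0, 0]), (81, [0, 0, 0]), (92, [0]), (103, [0, 0]), (114, []), (4, []), (14, []), (25, []), (36, []), (47, [0, 0, 0, 0, 0, 0, 0, 0, 0, 0]), (58, []), (69, []), (80, []), (91, [0, 0, 0, 0, 0]), (102, []), (113, []), (3, [0, 0, 0]), (13, [0, 0, 0, 0, 0]),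 (24, []), (35, [0, 0, 0]), (46, [0, 0, 0]), (57, [0, 0, 0, 0, 0, 0, 0, 0, 0, 0]), (68, [0, 0, 0, 0, 0, 0, 0, 0, 0]), (79, []), (90, [0, 0, 0, 0, 0, 0, 0, 0]), (101, [0, 0, 0, 0, 0]), (112, []), (2, [0, 0, 0, 0]), (12, []), (23, [0, 0, 0, 0, 0, 0, 0, 0, 0]), (34, []), (45, [0, 0, 0, 0, 0, 0, 0, 0]), (56, []), (67, [0, 0, 0, 0, 0, 0, 0, 0]), (78, []), (89, []), (100, [0, 0, 0, 0, 0, 0, 0]), (111, []), (1, []), (11, [0, 0, 0, 0, 0, 0]), (22, []), (33, []), (44, []), (55, []), (66, []), (77, []), (88, [0, 0, 0, 0, 0, 0]), (99, [0, 0, 0, 0, 0, 0]), (110, [])],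
  [(10, [0, 0, 0, 0, 0, 0]), (20, []), (30, []), (40, []), (50, [0]), (60, [0, 0, 0, 0, 0, 0]), (70, []), (80, [0]), (90, []), (100, []), (110, []), (19, []), (29, [0, 0, 0, 0, 0]), (39, []), (49, [0, 0, 0, 0, 0, 0, 0, 0]), (59, []), (69, []), (79, []), (89, []), (99, []), (109, [0, 0, 0, 0, 0]), (9, [0, 0]), (18, []), (28, [0, 0, 0, 0, 0, 0, 0, 0, 0, 0]), (38, []), (48, []), (58, [0, 0, 0]), (68, []), (78, [0]), (88, []), (98, []), (119, []), (8, [0, 0, 0, 0, 0, 0, 0, 0]), (17, []), (27, []), (37, []), (47, [0, 0, 0, 0, 0, 0, 0, 0, 0, 0]), (57, []), (67, []), (77, []), (87, []), (108, []), (118, [0, 0, 0, 0, 0, 0]), (7, [0, 0, 0, 0, 0, 0, 0, 0, 0, 0]), (16, []), (26, []), (36, [0]), (46, []), (56, [0, 0]), (66, [0, 0, 0]), (76, []), (97, []), (107, []), (117, []), (6, []), (15, []), (25, [0, 0, 0, 0, 0, 0, 0, 0, 0]), (35, []), (45, [0, 0, 0, 0, 0, 0, 0, 0]), (55, []), (65, [0, 0, 0]), (86, []), (96, [0, 0, 0, 0]),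 (106, [0, 0, 0, 0, 0, 0, 0, 0, 0, 0]), (116, []), (5, [0, 0]), (14, []), (24, []), (34, []), (44, []), (54, []), (75, []), (85, [0, 0, 0]), (95, []), (105, []), (115, []), (4, [0, 0, 0, 0, 0, 0, 0, 0, 0, 0]), (13, []), (23, []), (33, []), (43, []), (64, []), (74, [0, 0, 0, 0, 0, 0, 0, 0, 0]), (84, [0, 0]), (94, [0, 0, 0, 0, 0, 0, 0, 0, 0]), (104, []), (114, []), (3, []), (12, [0, 0, 0, 0, 0, 0]), (22, []), (32, [0, 0, 0]), (53, []), (63, []), (73, [0, 0, 0, 0, 0, 0, 0, 0, 0, 0]), (83, []), (93, [0]), (103, [0, 0, 0, 0, 0, 0, 0]), (113, []), (2, []), (11, []), (21, [0, 0, 0, 0, 0, 0, 0, 0, 0]), (42, [0, 0, 0, 0, 0]), (52, [0, 0, 0, 0, 0, 0, 0]), (62, []), (72, [0, 0, 0, 0, 0, 0, 0, 0]), (82, [0, 0]), (92, [0]), (102, [0, 0, 0, 0]), (112, []), (1, [0, 0, 0, 0, 0, 0]), (0, [0, 0, 0, 0, 0]), (31, []), (41, []), (51, []), (61, []), (71, []), (81, []), (91, []), (101, []), (111, [])]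
]

theorem level0 : TableChain2.levelCheck tab 3 1 11 chk T0 E0 = true := by
  decide +kernel

def T1 : List (List ℕ) := [
  [],
  [0, 0, 0, 0, 0, 0],
  [0],
  [0, 0, 0, 0, 0, 0, 0],
  [0, 0],
  [0, 0, 0, 0, 0, 0, 0, 0],
  [0, 0, 0],
  [0, 0, 0, 0, 0, 0, 0, 0, 0],
  [0, 0, 0, 0],
  [0, 0, 0, 0, 0, 0, 0, 0, 0, 0],
  [0, 0, 0, 0, 0]
]

def E1 : List (List (ℕ × List ℕ)) := [
  [(2, []), (3, []), (4, []), (5, []), (6, []), (7, []), (8, []), (9, []), (10, []), (0, []), (1, [])]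
]

theorem level1 : TableChain2.levelCheck tab 1 0 1 chk T1 E1 = true := by
  decide +kernel

theorem lvl0 : TableChain2.Data.LevelOK DD 3 1 11 T0 E0 :=
  TableChain2.Data.levelOK_of_check (D := DD) (by decide) (by decide) level0

theorem lvl1 : TableChain2.Data.LevelOK DD 1 0 1 T1 E1 :=
  TableChain2.Data.levelOK_of_check (D := DD) (by decide) (by decide) level1

/-- the diagonal group -/
abbrev DG : Subgroup GG := DD.H 3

instance : Finite GG := inferInstance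

theorem card_DG : Nat.card DG = 1320 := by
  rw [lvl0.card, lvl1.card, TableChain2.Data.card_H_zero]
  have h0 : T0.length = 120 := by decide
  have h1 : T1.length = 11 := by decide
  rw [h0, h1]

theorem eq_one_of_fst (d : GG) (hd : d ∈ DG) (h1 : d.1 = 1) : d = 1 := by
  have e1 : d • DD.pt 11 = DD.pt 11 := by
    show d • pt 11 = pt 11
    unfold pt
    rw [if_pos (by norm_num), SumPt.smul_inl, h1, one_smul]
  have e2 : d • DD.pt 1 = DD.pt 1 := by
    show d • pt 1 = pt 1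
    unfold pt
    rw [if_pos (by norm_num), SumPt.smul_inl, h1, one_smul]
  have m1 : d ∈ DD.H 1 := by
    rw [← lvl0.inf_stabilizer]
    exact ⟨hd, e1⟩
  have m0 : d ∈ DD.H 0 := by
    rw [← lvl1.inf_stabilizer]
    exact ⟨m1, e2⟩
  rw [TableChain2.Data.H_zero] at m0
  exact m0

theorem card_SL2 : Nat.card SL2 = 1320 := by
  have h := Cfsg.Agent.S0242.result (F := ZMod 11) (q := 11) (ZMod.card 11) 2 (by norm_num)
  rw [Fin.prod_univ_two] at h
  norm_num at h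
  rw [← Nat.card_eq_fintype_card] at h
  show Nat.card (Matrix.SpecialLinearGroup (Fin 2) (ZMod 11)) = 1320
  omega

theorem card_PSL2 : Nat.card (Matrix.ProjectiveSpecialLinearGroup (Fin 2) (ZMod 11)) = 660 := by
  have h := Cfsg.Agent.S0243.result (F := ZMod 11) (q := 11) (ZMod.card 11) 2 le_rfl
  rw [Fin.prod_univ_two] at h
  norm_num at h
  rw [Nat.card_eq_fintype_card]
  omega

theorem card_le_proj₁ : Nat.card DG ≤ Nat.card (proj₁ DG) := by
  apply Nat.card_le_card_of_injective (fun d : DG => (⟨d.1.1, fst_mem d.2⟩ : proj₁ DG))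
  intro d d' h
  have h1 : d.1.1 = d'.1.1 := congrArg Subtype.val h
  have h2 : (d⁻¹ * d').1.1 = 1 := by
    show d.1.1⁻¹ * d'.1.1 = 1
    rw [h1, inv_mul_cancel]
  have h3 := eq_one_of_fst _ (d⁻¹ * d').2 h2
  have h4 : d⁻¹ * d' = 1 := Subtype.ext h3
  exact inv_mul_eq_one.1 h4

theorem proj₁_top : proj₁ DG = ⊤ := by
  have h1 : Nat.card (proj₁ DG) ≤ Nat.card DG :=
    Nat.card_le_card_of_surjective (fun d : DG => (⟨d.1.1, fst_mem d.2⟩ : proj₁ DG)) (by
      rintro ⟨x, d, hd, rfl⟩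
      exact ⟨⟨d, hd⟩, rfl⟩)
  have h2 := card_le_proj₁
  rw [← Subgroup.card_eq_iff_eq_top, card_SL2]
  rw [card_DG] at h1 h2
  omega

theorem neg_one_mem : ((-1 : SL2), (1 : Equiv.Perm GolayPt)) ∈ DG := by
  have h1 : gen 1 ∈ DG := DD.gen_mem 1 (by norm_num)
  have h2 : gen 1 * gen 1 = ((-1 : SL2), (1 : Equiv.Perm GolayPt)) := by
    apply Prod.ext
    · show ga 1 * ga 1 = -1
      decide
    · show gb 1 * gb 1 = 1
      apply Equiv.ext
      intro p
      apply ptIdx_inj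
      rw [Equiv.Perm.mul_apply]
      unfold gb
      rw [ptIdx_permC (codes_perm 1 (by norm_num)), ptIdx_permC (codes_perm 1 (by norm_num))]
      have : ∀ i : Fin 24, papp (codes 1) (papp (codes 1) i.val) = i.val := by decide +kernel
      exact this (ptIdx p)
  rw [← h2]
  exact DG.mul_mem h1 h1

theorem center_cases (z : SL2) (hz : z ∈ Subgroup.center SL2) : z = 1 ∨ z = -1 := by
  rw [Matrix.SpecialLinearGroup.mem_center_iff] at hz
  obtain ⟨r, hr, hz⟩ := hz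
  have : ∀ r : ZMod 11, r ^ 2 = 1 → r = 1 ∨ r = -1 := by decide
  rcases this r (by simpa using hr) with rfl | rfl
  · left
    apply Subtype.ext
    rw [← hz]
    simp
  · right
    apply Subtype.ext
    rw [← hz]
    ext i j
    fin_cases i <;> fin_cases j <;> simp

theorem gb_ne_one : gb 1 ≠ 1 := by
  intro h
  have h1 : gb 1 (ptOf ⟨2, by norm_num⟩) = ptOf ⟨papp (codes 1) 2 % 24, Nat.mod_lt _ (by norm_num)⟩ :=
    permC_ptOf (codes_perm 1 (by norm_num)) 2 (by norm_num) _ _ (by decide +kernel)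
  rw [h] at h1
  revert h1
  decide +kernel

/-- the second projection of the diagonal group is `PSL₂(11)` -/
theorem proj₂_equiv : Nonempty (proj₂ DG ≃* Matrix.ProjectiveSpecialLinearGroup (Fin 2) (ZMod 11)) := by
  obtain ⟨ψ, hψs, hψ, hψk⟩ := exists_hom DG card_le_proj₁
  let e : SL2 ≃* proj₁ DG := Subgroup.topEquiv.symm.trans (MulEquiv.subgroupCongr proj₁_top.symm)
  let ψ' : SL2 →* proj₂ DG := ψ.comp e.toMonoidHom
  have hψ's : Function.Surjective ψ' := hψs.comp e.surjective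
  have hcoe : ∀ x : SL2, ((e x : proj₁ DG) : SL2) = x := fun x => rfl
  have hker : Subgroup.center SL2 ≤ ψ'.ker := by
    intro z hz
    rw [MonoidHom.mem_ker]
    rcases center_cases z hz with rfl | rfl
    · exact map_one _
    · show ψ (e (-1)) = 1
      rw [hψk, hcoe]
      exact neg_one_mem
  have hs : IsSimpleGroup (SL2 ⧸ Subgroup.center SL2) :=
    Matrix.ProjectiveSpecialLinearGroup.rank_two_simple (F := ZMod 11) (by
      rw [Nat.card_eq_fintype_card, ZMod.card]; norm_num)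
  have hnt : Nontrivial (proj₂ DG) := by
    refine ⟨⟨⟨gb 1, snd_mem (d := gen 1) (DD.gen_mem 1 (by norm_num))⟩, 1, ?_⟩⟩
    intro h
    exact gb_ne_one (congrArg Subtype.val h)
  obtain ⟨E⟩ := quotient_equiv_of_simple (Subgroup.center SL2) ψ' hψ's hker
  exact ⟨E.symm⟩


/-! ### the base group -/

open Cfsg.Agent.S1602 (transport enum K_M24 K_smul K1_fix mem_K1 permC_P inv_self self_inv)

/-- the stabiliser of the point `P 5` (outside the dodecad) in the base `M₁₁` -/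
def B0 : Subgroup (Equiv.Perm GolayPt) :=
  K 1 ⊓ MulAction.stabilizer (Equiv.Perm GolayPt) (P 5)

theorem mem_B0 (g : Equiv.Perm GolayPt) : g ∈ B0 ↔ g ∈ K 1 ∧ g (P 5) = P 5 := by
  unfold B0
  rw [Subgroup.mem_inf, MulAction.mem_stabilizer_iff]
  rfl

theorem gb_mem_B0 (j : ℕ) (hj : j < 3) : gb j ∈ B0 := by
  obtain ⟨h1, h2, h3, h4⟩ := codes_ok' j hj
  rw [mem_B0]
  exact ⟨permC_mem_K h1 h2 h3, permC_P (isPerm_of_isAutC h1) 5 (by decide) 5 (by decide) h4⟩

theorem proj₂_le : proj₂ DG ≤ B0 := by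
  rw [proj₂, Subgroup.map_le_iff_le_comap]
  show Subgroup.closure (DD.S 3) ≤ _
  rw [Subgroup.closure_le]
  rintro g ⟨j, hj, rfl⟩
  exact gb_mem_B0 j hj

/-- the quadruples of transversal codes giving elements fixing `P 5` -/
def quads : List (ℕ × ℕ × ℕ × ℕ) :=
  (U1.product (U2.product (U3.product U4))).filter
    (fun q => Nat.beq (fOf q.1 q.2.1 q.2.2.1 q.2.2.2 5) 5)

theorem quads_length : quads.length = 660 := by decide +kernel

theorem card_B0_le : Nat.card B0 ≤ 660 := by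
  classical
  have key : ∀ g : B0, ∃ i : Fin quads.length, ∀ p : GolayPt,
      ((ptIdx (g.1 p) : Fin 24) : ℕ) = fOf (quads.get i).1 (quads.get i).2.1 (quads.get i).2.2.1
        (quads.get i).2.2.2 (ptIdx p) := by
    intro g
    obtain ⟨hK, h5⟩ := (mem_B0 g.1).1 g.2
    obtain ⟨S1, hS1, S2, hS2, S3, hS3, S4, hS4, hf⟩ := enum hK
    have hq : (S1, S2, S3, S4) ∈ quads := by
      unfold quads
      rw [List.mem_filter]
      refine ⟨?_, ?_⟩
      · rw [List.pair_mem_product, List.pair_mem_product, List.pair_mem_product]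
        exact ⟨hS1, hS2, hS3, hS4⟩
      · have := hf (P 5)
        rw [h5, ptIdx_P] at this
        show Nat.beq (fOf S1 S2 S3 S4 5) 5 = true
        rw [← this]
        exact Nat.beq_refl 5
    obtain ⟨i, hi⟩ := List.get_of_mem hq
    refine ⟨i, fun p => ?_⟩
    rw [hi]
    exact hf p
  choose f hf using key
  have hinj : Function.Injective f := by
    intro g g' h
    apply Subtype.ext
    apply Equiv.ext
    intro p
    apply ptIdx_inj
    rw [hf g p, hf g' p, h]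
  have := Nat.card_le_card_of_injective f hinj
  rwa [Nat.card_fin, quads_length] at this

theorem proj₂_eq : proj₂ DG = B0 := by
  obtain ⟨e⟩ := proj₂_equiv
  apply Subgroup.eq_of_le_of_card_ge proj₂_le
  rw [Nat.card_congr e.toEquiv, card_PSL2]
  exact card_B0_le

/-! ### the statement -/

/-- In the 3-transitive action of the smallest Mathieu group on the complementary dodecad, a point stabiliser is isomorphic to PSL(2, 11). -/
theorem result (d : Finset Cfsg.GolayPt) (hd : d ∈ Cfsg.dodecads) (p q : Cfsg.GolayPt) (hp : p ∈ d) (hq : q ∉ d) : Nonempty (↥(MulAction.stabilizer Cfsg.M24 d ⊓ MulAction.stabilizer Cfsg.M24 p ⊓ MulAction.stabilizer Cfsg.M24 q) ≃* Matrix.ProjectiveSpecialLinearGroup (Fin 2) (ZMod 11)) := by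
  classical
  -- a second point off the dodecad
  have hcard : d.card = 12 := hd.2
  have hc : 1 < dᶜ.card := by
    rw [Finset.card_compl, hcard]
    decide
  obtain ⟨q', hq'c, hq'q⟩ := Finset.exists_mem_ne hc q
  have hq' : q' ∉ d := Finset.mem_compl.1 hq'c
  obtain ⟨g, hg, hgd, hgp, hgq, -⟩ := transport d hd p q q' hp hq hq' (Ne.symm hq'q)
  have hto : ∀ k ∈ B0, ∃ hk : g * k * g⁻¹ ∈ M24,
      (⟨g * k * g⁻¹, hk⟩ : ↥M24) ∈ (MulAction.stabilizer Cfsg.M24 d ⊓ MulAction.stabilizer Cfsg.M24 p ⊓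
        MulAction.stabilizer Cfsg.M24 q) := by
    intro k hk
    rw [mem_B0] at hk
    obtain ⟨hkK, hk5⟩ := hk
    refine ⟨M24.mul_mem (M24.mul_mem hg (K_M24 hkK)) (M24.inv_mem hg), ?_⟩
    simp only [Subgroup.mem_inf, MulAction.mem_stabilizer_iff]
    refine ⟨⟨?_, ?_⟩, ?_⟩
    · show (g * k * g⁻¹) • d = d
      have h1 : g⁻¹ • d = fset Dm := by rw [← hgd, inv_smul_smul]
      rw [mul_smul, mul_smul, h1, K_smul hkK, hgd]
    · show (g * k * g⁻¹) p = p
      simp only [Equiv.Perm.mul_apply]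
      rw [← hgp, inv_self, K1_fix hkK]
    · show (g * k * g⁻¹) q = q
      simp only [Equiv.Perm.mul_apply]
      rw [← hgq, inv_self, hk5]
  have hfrom : ∀ s : ↥M24, s ∈ (MulAction.stabilizer Cfsg.M24 d ⊓ MulAction.stabilizer Cfsg.M24 p ⊓
        MulAction.stabilizer Cfsg.M24 q) → g⁻¹ * s.1 * g ∈ B0 := by
    intro s hs
    simp only [Subgroup.mem_inf, MulAction.mem_stabilizer_iff] at hs
    obtain ⟨⟨hsd, hsp⟩, hsq⟩ := hs
    have hsd' : s.1 • d = d := hsd
    have hsp' : s.1 p = p := hsp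
    have hsq' : s.1 q = q := hsq
    rw [mem_B0]
    refine ⟨mem_K1 (M24.mul_mem (M24.mul_mem (M24.inv_mem hg) s.2) hg) ?_ ?_, ?_⟩
    · rw [mul_smul, mul_smul, hgd, hsd', ← hgd, inv_smul_smul]
    · simp only [Equiv.Perm.mul_apply]
      rw [hgp, hsp', ← hgp, inv_self]
    · simp only [Equiv.Perm.mul_apply]
      rw [hgq, hsq', ← hgq, inv_self]
  let iso1 : ↥(MulAction.stabilizer Cfsg.M24 d ⊓ MulAction.stabilizer Cfsg.M24 p ⊓
      MulAction.stabilizer Cfsg.M24 q) ≃* ↥B0 :=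
    { toFun := fun s => ⟨g⁻¹ * s.1.1 * g, hfrom s.1 s.2⟩
      invFun := fun k => ⟨⟨g * k.1 * g⁻¹, (hto k.1 k.2).1⟩, (hto k.1 k.2).2⟩
      left_inv := by
        intro s
        apply Subtype.ext
        apply Subtype.ext
        show g * (g⁻¹ * s.1.1 * g) * g⁻¹ = s.1.1
        group
      right_inv := by
        intro k
        apply Subtype.ext
        show g⁻¹ * (g * k.1 * g⁻¹) * g = k.1
        group
      map_mul' := by
        intro a b
        apply Subtype.ext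
        show g⁻¹ * (a.1.1 * b.1.1) * g = (g⁻¹ * a.1.1 * g) * (g⁻¹ * b.1.1 * g)
        group }
  obtain ⟨e⟩ := proj₂_equiv
  exact ⟨(iso1.trans (MulEquiv.subgroupCongr proj₂_eq.symm)).trans e⟩

end Cfsg.Agent.S1601
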