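import Cfsg.Statements.S1603
import Cfsg.Agent.S1602

set_option autoImplicit false
set_option maxRecDepth 1000000
open scoped Pointwise
open Cfsg

namespace Cfsg.Agent.S1603

open Cfsg.Agent.Lib.Helper93.Golay
open Cfsg.Agent.S5522 (Dm K mem_K okU covU permC_mem_K U1 U2 U3 U4 fOf ptIdx_inj permC_eq_one)
open Cfsg.Agent.S1602 (enum mem_of_ok permC_P K_smul K_M24 K1_fix mem_K1 inv_self self_inv
  Dm_dodecad T0 T0_ok T0_cov)

/-! ### data -/

def t0c : ℕ := 970499966350631336865513127433832480

def Hl : List ℕ := [984818244535754528103549039458486304, 891440084380668137666183104591693856, 629863500390412654982178157189269536, 486073779993727295785104656607348768, 648154481660236051385864952584734752, 899189355044933402820830013086107680, 719360590536681843314903822610073632, 487607080158395075740321133224921120, 716016777081418520089506884598499360, 879514179754306950165210557261090848, 607954707439788771906300687740899360, 984167769909449427001659769130389536, 601306940950349892175800839406424096, 897883539964802782500317244544323616, 425300798098740598347497330185932832,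 978227748596581623252343376587591712, 430297158767551210478698034031562784, 470496332345627030355741019081871392, 736235804152647996380685137086582816, 649452505119359178788476992008294432, 735487641475210312359759341757206560, 466838449796737395833650999114928160, 897930578009794183169597944033775648, 641546219077612444887994526686318624, 879718119269484440008986764723163168, 235912592559525145725232928982994976, 849239328250933255103206337794183200, 735586561504953295002855977750269984, 850694615915683668783062293649199136, 233277322763491706078110480894169120, 430250323549257972694995763699552288, 736805996823822932639942788944138272, 425097252063718997693671187165909024, 897688484168543082887175640668475424, 849400357638939007042803519476502560, 944477640637853590582344308689768480, 850658887104438286951836280200400928, 879751195998581591598133589983924256, 304337058066671735863242855740117024, 936138975556379532350791672706404384, 305673862493246619147461826607091744, 944576703234065857180591671912828960, 470733952652581650190237181754609696, 233310110592035161182119794091364384,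 601423796926393734138082547786453024, 636938258350922752827616327369007232, 840753700279804413098864459898986624, 819504978297321319554345884413370496, 849172097352204236117507773979467904, 638314252217629004313164677474721920, 712944863855302027593945974449676416, 816947868300203106392589421793026176, 735287237852594145582166430117568640, 897590988387234147583219975480483968, 230336325110949640518850837152866432, 470703632939162895080556060451872896, 236551817801204242811981545125519488, 902586535718142498660373382263545984, 840572261458981105064176411018338432, 477351006998360210971447334112141440, 849855427724417100795667834733142144, 936732091737322717430460500092133504, 897389163968169310463661919674310784, 591320622040400208793272577087250560, 902621263062267163874530457232613504, 920644365214141133206617556496425088, 638155023192515983361372404189765760, 607723874716072507287450851097452672, 637013647416419540119245939050815616, 435654967595854754697364623537152128, 316961743452132729820483966781825152, 902784565728397440790544755398484096, 309841196528654703522196715234074752,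 430620535321531659715113977801547904, 735539646478775123197391977354305664, 897435306737026230122919545906864256, 713236442135126075204553625357721728, 638231273828011967448521039383928960, 317644860000653442556774178845925504, 980505487505784855451231382696665216, 309659989527593828546971129420488832, 636854405986140608860483144365678720, 230588623574747808156465130719191168, 983062585111450394036846875043209344, 236843167062007922187994798031413376, 980668730378935070469623699575545984, 936213657384098336443151381962301568, 430460132228652130235973341160022144, 920912016590004077719320984007614592, 983107971135018222094309733584740480, 849637249413438725475498650419732608, 435731483920717845801138542774460544, 840079225799151912252850664161812608, 816913921688798175306746700958343296, 936505371627842248112327095334543488, 477274463435566972302408304719634560, 921164059797918177349062048068214912, 819706787461706446321220887880212608, 317426895731200820463321681096679552, 470863154645330021272092026900390016, 309166968607214193015142377970540672, 477191462294910519327992468597022848,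 608398340188792326991704746375946368, 983263629515368538056707775579725952, 590855240603625062771569633517805696, 470779025741183794556642102012715136, 713463512589873896019408566840893568, 980471490434306966185183676564152448, 735019729089100402266245758788739200, 608217156485167056997388278734889088, 435815356621936791683510514060730496, 237070133306480926604487119864963200, 430544258669838663854081153609867392, 591538577273359719982649337450700928, 817111897367999973138757271866679424, 230069053791027884412189884354240640, 819550349571540642036348150786138240, 232981785508191041458671501974078592, 735008465596143656170629720405607552, 849738814967248728846862589756867712, 736463782961782720694766502674859136, 235538802638158181266730593538180224, 430584902957744825877894449744741504, 851115438970218045816808585300444288, 425431999831899773588713815485613184, 649264939485364872838127384633869440, 470864514204513582479662038390998144, 897798611203208338194685784698717312, 466930443520097033815102107074757760, 642026626081851459412623021573211264, 735125335188469925318533164038161536,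 879389910493824094878526796789253248, 736305269069143674847632427293148288, 796548983594552430395247518853301376, 936367166752209097776299897550734464, 641479038117003464152927002401375360, 943998667232290349794863907082536064, 817082222127190729961119890020697216, 425189235872149157748887722876142720, 649895984328664778556200338231329920, 430617953296558123026577368906138752, 235585558585410045398894015024596096, 936208933964629899832612781105218688, 608375606663865851181695452257322112, 470622463463092241474628154365969536, 607729052704932731019702550596682880, 304671796745014853845532597111227520, 817319450853287485696533877728216192, 306008520689846728859352058317767808, 601867479670639066687050089565258880, 736428474981242109799396484923786368, 796353730535638246152752447206458496, 735169501110191647788920844412519552, 483116463517276541127850537344643200, 425390233851276859319262608304451712, 736838965990824244156432398636626048, 434436738192652356040376249024589952, 477333414249227608935710930219118720, 816791185929984820405186669420556416, 713276848415768840429403523257020544,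 818364141034844558466287099897786496, 938922973897304220972338747626532992, 230589747568698130493283754953453696, 591422047540060373504486359380832384, 477112759021973738735254613527670912]

def Tb : List ℕ := [0, 0, 0, 0, 0, 0, 0, 0, 0, 0, 0, 0, 721064549862662597311266359538158624, 221306056451638017120264557308184672, 609429652419472343420009903857697856, 715872302521680643580706198532491296, 234286372747013287696275781005149280, 610727855379770684683436871688162368, 0, 0, 0, 719923664328491199848526586197411872, 596606098937906343490530381836356672, 235742061483406767849477376128910432, 735500604421669808992593446508235808, 608288895615245987645162920685438016, 217568596627580172659656007490766944, 0, 984818244535754528103549039458486304, 969202056781860934635753244362607648, 0, 964944003105871756720595991810606176, 983549310955746530506231437997410400, 0, 981759386190175716564125263593507904, 969958826742993894265839954570609728, 0, 221550289410297402012191048719174720, 610933098178650810155900481226967136, 716146062361566097043008109225804864, 0, 609271311764373893382231684089481248,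 720846548273546509231824711698154592, 233950865888990746377447415904013344, 0, 0, 601885875835129268478585557547549792, 228001363311221454468151101670655040, 726098387229991916328255735577218112, 601915135321570999558303616165022752, 0, 725920953632283487556548229579442272, 0, 227578386318009578406903204956702752, 0, 965346966670364367458681901213092896, 970499966350631336865513127433832480, 0, 984355386066803413838770983050249280, 982939420336662894431691245045713984, 0, 981818813153752489120759972731324512, 969270339852425397140562826583147616, 0, 233233386906768391987032901617288256, 607038988187158853496018113149338720, 731231112280071455683496764367734880, 232652365823391711183829569059784736, 0, 731722996265023435542964160459476032, 0, 606675048206788974183023727349926944, 0, 596693691629046116550990400692717664, 217617199158940686300653144474946624, 735007443424217238740507493471945824, 0, 235366405754860650836778140353760288, 719608059484697496685871976717321280, 608405391266436187982588441666881568, 0]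


/-- the nonzero entries of the table -/
def TbN : List ℕ := Tb.filter (fun S => !(Nat.beq S 0))

theorem Hl_ok : okU Hl 1 = true := by decide +kernel
theorem TbN_ok : okU TbN 1 = true := by decide +kernel
theorem t0_ok : okU [t0c] 1 = true := by decide +kernel

/-- index-level commutation with the base involution -/
def commT (f : ℕ → ℕ) : Bool :=
  (List.range 24).all fun i => Nat.beq (f (papp t0c i)) (papp t0c (f i))

theorem TbN_comm : TbN.all (fun S => commT (papp S)) = true := by decide +kernel

def isInvol (f : ℕ → ℕ) : Bool :=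
  (List.range 24).all (fun i => Nat.beq (f (f i)) i) &&
    (List.range 24).any (fun i => !(Nat.beq (f i) i))

def conjGood (S1 S2 S3 S4 : ℕ) : Bool :=
  !(isInvol (fOf S1 S2 S3 S4)) ||
    Hl.any fun h => (List.range 24).all fun i =>
      Nat.beq (papp h (fOf S1 S2 S3 S4 i)) (papp t0c (papp h i))

theorem allConj : U1.all (fun a => U2.all (fun b => U3.all (fun c => U4.all (fun d =>
    conjGood a b c d)))) = true := by decide +kernel

def centGood (S1 S2 S3 S4 : ℕ) : Bool :=
  !(commT (fOf S1 S2 S3 S4)) ||
    TbN.any fun S => (List.range 24).all fun i => Nat.beq (papp S i) (fOf S1 S2 S3 S4 i)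

theorem allCent : U1.all (fun a => U2.all (fun b => U3.all (fun c => U4.all (fun d =>
    centGood a b c d)))) = true := by decide +kernel

/-- multiplication of matrix indices -/
def mulIdx (i j : ℕ) : ℕ :=
  ((i / 27 % 3 * (j / 27 % 3) + i / 9 % 3 * (j / 3 % 3)) % 3) * 27 +
  ((i / 27 % 3 * (j / 9 % 3) + i / 9 % 3 * (j % 3)) % 3) * 9 +
  ((i / 3 % 3 * (j / 27 % 3) + i % 3 * (j / 3 % 3)) % 3) * 3 +
  ((i / 3 % 3 * (j / 9 % 3) + i % 3 * (j % 3)) % 3)

def mulGood : Bool :=
  (List.range 81).all fun i => (List.range 81).all fun j =>
    Nat.beq (Tb.getD i 0) 0 || Nat.beq (Tb.getD j 0) 0 ||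
      (!(Nat.beq (Tb.getD (mulIdx i j) 0) 0) &&
        (List.range 24).all fun k => Nat.beq (papp (Tb.getD (mulIdx i j) 0) k)
          (papp (Tb.getD i 0) (papp (Tb.getD j 0) k)))

theorem Tb_mul : mulGood = true := by decide +kernel

def injGood : Bool :=
  (List.range 81).all fun i => Nat.beq (Tb.getD i 0) 0 || Nat.beq i 28 ||
    (List.range 24).any fun k => !(Nat.beq (papp (Tb.getD i 0) k) k)

theorem Tb_inj : injGood = true := by decide +kernel

/-! ### matrices and indices -/

/-- the index of an invertible matrix -/
def idx (A : GL (Fin 2) (ZMod 3)) : ℕ :=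
  (A.1 0 0).val * 27 + (A.1 0 1).val * 9 + (A.1 1 0).val * 3 + (A.1 1 1).val

theorem mulIdx_spec : ∀ a b c d e f g h : ZMod 3,
    (a*e+b*g).val*27 + (a*f+b*h).val*9 + (c*e+d*g).val*3 + (c*f+d*h).val =
      mulIdx (a.val*27+b.val*9+c.val*3+d.val) (e.val*27+f.val*9+g.val*3+h.val) := by
  decide +kernel

theorem idx_mul (A B : GL (Fin 2) (ZMod 3)) : idx (A * B) = mulIdx (idx A) (idx B) := by
  unfold idx
  rw [Units.val_mul]
  simp only [Matrix.mul_apply, Fin.sum_univ_two]
  exact mulIdx_spec _ _ _ _ _ _ _ _

theorem idx_one : idx 1 = 28 := by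
  unfold idx
  simp only [Units.val_one, Matrix.one_apply_eq, Matrix.one_apply_ne, ne_eq, zero_ne_one,
    not_false_eq_true, one_ne_zero]
  decide

theorem idx_lt (A : GL (Fin 2) (ZMod 3)) : idx A < 81 := by
  unfold idx
  have h1 := ZMod.val_lt (A.1 0 0)
  have h2 := ZMod.val_lt (A.1 0 1)
  have h3 := ZMod.val_lt (A.1 1 0)
  have h4 := ZMod.val_lt (A.1 1 1)
  omega

theorem Tb_nz_spec : ∀ a b c d : ZMod 3, a * d - b * c ≠ 0 →
    Nat.beq (Tb.getD (a.val*27+b.val*9+c.val*3+d.val) 0) 0 = false := by
  decide +kernel

theorem Tb_nz (A : GL (Fin 2) (ZMod 3)) : Nat.beq (Tb.getD (idx A) 0) 0 = false := by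
  apply Tb_nz_spec
  have := A.isUnit
  rw [Matrix.isUnit_iff_isUnit_det, Matrix.det_fin_two] at this
  exact this.ne_zero

theorem idx_eq_28_spec : ∀ a b c d : ZMod 3, a.val*27+b.val*9+c.val*3+d.val = 28 →
    a = 1 ∧ b = 0 ∧ c = 0 ∧ d = 1 := by decide +kernel

theorem eq_one_of_idx {A : GL (Fin 2) (ZMod 3)} (h : idx A = 28) : A = 1 := by
  obtain ⟨h1, h2, h3, h4⟩ := idx_eq_28_spec _ _ _ _ h
  apply Units.ext
  ext i j
  fin_cases i <;> fin_cases j
  · simpa using h1
  · simpa using h2
  · simpa using h3
  · simpa using h4

theorem exists_of_Tb : ∀ j < 81, Nat.beq (Tb.getD j 0) 0 = false →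
    ∃ a b c d : ZMod 3, a * d - b * c ≠ 0 ∧ a.val*27+b.val*9+c.val*3+d.val = j := by
  decide +kernel

theorem exists_idx {j : ℕ} (hj : j < 81) (h : Nat.beq (Tb.getD j 0) 0 = false) :
    ∃ A : GL (Fin 2) (ZMod 3), idx A = j := by
  obtain ⟨a, b, c, d, hdet, hidx⟩ := exists_of_Tb j hj h
  refine ⟨Matrix.GeneralLinearGroup.mkOfDetNeZero !![a, b; c, d] ?_, ?_⟩
  · rw [Matrix.det_fin_two_of]; exact hdet
  · unfold idx
    simpa using hidx

/-! ### permutations from codes -/

theorem permC_ext {g : Equiv.Perm GolayPt} {S : ℕ} (hS : isPerm S = true)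
    (h : ∀ p : GolayPt, ((ptIdx (g p) : Fin 24) : ℕ) = papp S (ptIdx p)) : g = permC S := by
  apply Equiv.ext
  intro p
  apply ptIdx_inj
  rw [h, ptIdx_permC hS]

theorem permC_mul_eq {R S T : ℕ} (hR : isPerm R = true) (hS : isPerm S = true)
    (hT : isPerm T = true) (h : ∀ k < 24, papp R k = papp S (papp T k)) :
    permC R = permC S * permC T := by
  symm
  apply permC_ext hR
  intro p
  rw [Equiv.Perm.mul_apply, ptIdx_permC hS, ptIdx_permC hT]
  exact (h _ (ptIdx p).isLt).symm

/-- the base involution -/
def t0 : Equiv.Perm GolayPt := permC t0c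

theorem t0_mem : isAutC t0c = true ∧ t0 ∈ K 1 := mem_of_ok t0_ok (by simp)

theorem t0_perm : isPerm t0c = true := isPerm_of_isAutC t0_mem.1

def C0 : Subgroup (Equiv.Perm GolayPt) := K 1 ⊓ Subgroup.centralizer {t0}

theorem mem_C0 (g : Equiv.Perm GolayPt) : g ∈ C0 ↔ g ∈ K 1 ∧ g * t0 = t0 * g := by
  unfold C0
  rw [Subgroup.mem_inf, Subgroup.mem_centralizer_singleton_iff]

theorem comm_of_commT {S : ℕ} (hS : isPerm S = true) (h : commT (papp S) = true) :
    permC S * t0 = t0 * permC S := by
  apply Equiv.ext
  intro p
  apply ptIdx_inj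
  unfold t0
  rw [Equiv.Perm.mul_apply, Equiv.Perm.mul_apply, ptIdx_permC hS, ptIdx_permC t0_perm,
    ptIdx_permC t0_perm, ptIdx_permC hS]
  exact Nat.eq_of_beq_eq_true
    (List.all_eq_true.1 h (ptIdx p) (List.mem_range.2 (ptIdx p).isLt))

theorem Tb_length : Tb.length = 81 := by decide

theorem mem_TbN_of {j : ℕ} (hj : j < 81) (h : Nat.beq (Tb.getD j 0) 0 = false) :
    Tb.getD j 0 ∈ TbN := by
  unfold TbN
  rw [List.mem_filter]
  refine ⟨?_, by rw [h]; rfl⟩
  rw [List.getD_eq_getElem _ _ (by rw [Tb_length]; exact hj)]
  exact List.getElem_mem _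

theorem TbN_facts {S : ℕ} (hS : S ∈ TbN) :
    isPerm S = true ∧ permC S ∈ C0 := by
  obtain ⟨hA, hK⟩ := mem_of_ok TbN_ok hS
  have hP := isPerm_of_isAutC hA
  refine ⟨hP, ?_⟩
  rw [mem_C0]
  exact ⟨hK, comm_of_commT hP (List.all_eq_true.1 TbN_comm S hS)⟩

/-- the code attached to a matrix -/
def codeOf (A : GL (Fin 2) (ZMod 3)) : ℕ := Tb.getD (idx A) 0

theorem codeOf_mem (A : GL (Fin 2) (ZMod 3)) : codeOf A ∈ TbN :=
  mem_TbN_of (idx_lt A) (Tb_nz A)

theorem codeOf_mul (A B : GL (Fin 2) (ZMod 3)) :
    permC (codeOf (A * B)) = permC (codeOf A) * permC (codeOf B) := by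
  apply permC_mul_eq (TbN_facts (codeOf_mem _)).1 (TbN_facts (codeOf_mem _)).1
    (TbN_facts (codeOf_mem _)).1
  have h := List.all_eq_true.1 (List.all_eq_true.1 Tb_mul (idx A) (List.mem_range.2 (idx_lt A)))
    (idx B) (List.mem_range.2 (idx_lt B))
  rw [Tb_nz A, Tb_nz B] at h
  simp only [Bool.false_or, Bool.and_eq_true] at h
  intro k hk
  unfold codeOf
  rw [idx_mul]
  exact Nat.eq_of_beq_eq_true (List.all_eq_true.1 h.2 k (List.mem_range.2 hk))

theorem codeOf_one : permC (codeOf 1) = 1 := by
  apply permC_eq_one (TbN_facts (codeOf_mem _)).1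
  unfold codeOf
  rw [idx_one]
  decide +kernel

def chi : GL (Fin 2) (ZMod 3) →* ↥C0 where
  toFun A := ⟨permC (codeOf A), (TbN_facts (codeOf_mem A)).2⟩
  map_one' := Subtype.ext codeOf_one
  map_mul' A B := Subtype.ext (codeOf_mul A B)

theorem chi_injective : Function.Injective chi := by
  rw [injective_iff_map_eq_one]
  intro A hA
  have h1 : permC (codeOf A) = 1 := congrArg Subtype.val hA
  apply eq_one_of_idx
  have h := List.all_eq_true.1 Tb_inj (idx A) (List.mem_range.2 (idx_lt A))
  rw [Tb_nz A] at h
  simp only [Bool.false_or, Bool.or_eq_true] at h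
  rcases h with h | h
  · exact Nat.eq_of_beq_eq_true h
  · exfalso
    rw [List.any_eq_true] at h
    obtain ⟨k, hk, hne⟩ := h
    have hk24 : k < 24 := List.mem_range.1 hk
    have h2 := ptIdx_permC (TbN_facts (codeOf_mem A)).1 (P k hk24)
    rw [h1, ptIdx_P] at h2
    simp only [Equiv.Perm.coe_one, id_eq, ptIdx_P] at h2
    have : papp (Tb.getD (idx A) 0) k = k := h2.symm
    rw [this] at hne
    simp at hne

theorem chi_surjective : Function.Surjective chi := by
  rintro ⟨g, hg⟩
  rw [mem_C0] at hg
  obtain ⟨hK1, hcomm⟩ := hg
  obtain ⟨S1, hS1, S2, hS2, S3, hS3, S4, hS4, hf⟩ := enum hK1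
  have hgood := List.all_eq_true.1 (List.all_eq_true.1 (List.all_eq_true.1
    (List.all_eq_true.1 allCent S1 hS1) S2 hS2) S3 hS3) S4 hS4
  unfold centGood at hgood
  have hc : commT (fOf S1 S2 S3 S4) = true := by
    unfold commT
    rw [List.all_eq_true]
    intro i hi
    have hi24 : i < 24 := List.mem_range.1 hi
    have h1 : ((ptIdx ((g * t0) (P i hi24)) : Fin 24) : ℕ) = fOf S1 S2 S3 S4 (papp t0c i) := by
      rw [Equiv.Perm.mul_apply, hf]
      unfold t0
      rw [ptIdx_permC t0_perm, ptIdx_P]
    have h2 : ((ptIdx ((t0 * g) (P i hi24)) : Fin 24) : ℕ) = papp t0c (fOf S1 S2 S3 S4 i) := by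
      rw [Equiv.Perm.mul_apply]
      unfold t0
      rw [ptIdx_permC t0_perm, hf, ptIdx_P]
    rw [hcomm, h2] at h1
    rw [← h1]
    exact Nat.beq_refl _
  rw [hc] at hgood
  simp only [Bool.not_true, Bool.false_or, List.any_eq_true] at hgood
  obtain ⟨S, hS, hSf⟩ := hgood
  have hSP := (TbN_facts hS).1
  have hgS : g = permC S := by
    apply permC_ext hSP
    intro p
    rw [hf]
    exact (Nat.eq_of_beq_eq_true
      (List.all_eq_true.1 hSf (ptIdx p) (List.mem_range.2 (ptIdx p).isLt))).symm
  -- find the matrix
  have hS' := hS
  unfold TbN at hS'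
  rw [List.mem_filter] at hS'
  obtain ⟨hmem, hnz⟩ := hS'
  obtain ⟨j, hj, hjS⟩ := List.mem_iff_getElem.1 hmem
  have hj81 : j < 81 := by rw [← Tb_length]; exact hj
  have hget : Tb.getD j 0 = S := by rw [List.getD_eq_getElem _ _ hj]; exact hjS
  have hnz' : Nat.beq (Tb.getD j 0) 0 = false := by
    rw [hget]
    simpa using hnz
  obtain ⟨A, hA⟩ := exists_idx hj81 hnz'
  refine ⟨A, Subtype.ext ?_⟩
  show permC (codeOf A) = g
  unfold codeOf
  rw [hA, hget, hgS]

/-! ### reduction to the base configuration -/

theorem transport0 (d : Finset GolayPt) (hd : d ∈ dodecads) (p : GolayPt) (hp : p ∈ d) :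
    ∃ g ∈ M24, g • fset Dm = d ∧ g (P 0) = p := by
  obtain ⟨g0, hg0, hg0d⟩ := Cfsg.Agent.Lib.Helper7.dodecad_trans (fset Dm) d Dm_dodecad hd
  have ha : g0⁻¹ p ∈ fset Dm := by
    have : g0⁻¹ p ∈ g0⁻¹ • d := Finset.smul_mem_smul_finset hp
    rwa [← hg0d, inv_smul_smul] at this
  rw [mem_fset] at ha
  have hc := List.all_eq_true.1 T0_cov (ptIdx (g0⁻¹ p)) (List.mem_range.2 (ptIdx (g0⁻¹ p)).isLt)
  rw [ha] at hc
  simp only [Nat.zero_testBit, Bool.not_false, Bool.and_self, Bool.not_true, Bool.false_or,
    List.any_eq_true] at hc
  obtain ⟨S, hS, hSj⟩ := hc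
  obtain ⟨hA, hSK⟩ := mem_of_ok T0_ok hS
  have hu : permC S (P 0) = g0⁻¹ p := by
    rw [permC_P (isPerm_of_isAutC hA) 0 (by decide) _ (ptIdx (g0⁻¹ p)).isLt
      (Nat.eq_of_beq_eq_true hSj)]
    exact P_ptIdx _
  refine ⟨g0 * permC S, M24.mul_mem hg0 (K_M24 hSK), ?_, ?_⟩
  · rw [mul_smul, K_smul hSK, hg0d]
  · rw [Equiv.Perm.mul_apply, hu, self_inv]

/-- every involution of the base group is conjugate to the base involution -/
theorem conj_to_t0 {y : Equiv.Perm GolayPt} (hy : y ∈ K 1) (hy2 : y * y = 1) (hy1 : y ≠ 1) :
    ∃ h ∈ K 1, h * y = t0 * h := by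
  obtain ⟨S1, hS1, S2, hS2, S3, hS3, S4, hS4, hf⟩ := enum hy
  have hgood := List.all_eq_true.1 (List.all_eq_true.1 (List.all_eq_true.1
    (List.all_eq_true.1 allConj S1 hS1) S2 hS2) S3 hS3) S4 hS4
  unfold conjGood at hgood
  have hinv : isInvol (fOf S1 S2 S3 S4) = true := by
    unfold isInvol
    rw [Bool.and_eq_true, List.all_eq_true, List.any_eq_true]
    constructor
    · intro i hi
      have hi24 : i < 24 := List.mem_range.1 hi
      have h1 : ((ptIdx ((y * y) (P i hi24)) : Fin 24) : ℕ) =
          fOf S1 S2 S3 S4 (fOf S1 S2 S3 S4 i) := by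
        rw [Equiv.Perm.mul_apply, hf, hf, ptIdx_P]
      rw [hy2] at h1
      simp only [Equiv.Perm.coe_one, id_eq, ptIdx_P] at h1
      rw [← h1]
      exact Nat.beq_refl _
    · by_contra hno
      apply hy1
      apply Equiv.ext
      intro p
      apply ptIdx_inj
      rw [hf]
      by_contra hne
      apply hno
      refine ⟨ptIdx p, List.mem_range.2 (ptIdx p).isLt, ?_⟩
      rw [Bool.not_eq_true', ← Bool.not_eq_true]
      intro hb
      exact hne (Nat.eq_of_beq_eq_true hb)
  rw [hinv] at hgood
  simp only [Bool.not_true, Bool.false_or, List.any_eq_true] at hgood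
  obtain ⟨h, hh, hhf⟩ := hgood
  obtain ⟨hA, hK⟩ := mem_of_ok Hl_ok hh
  have hP := isPerm_of_isAutC hA
  refine ⟨permC h, hK, ?_⟩
  apply Equiv.ext
  intro p
  apply ptIdx_inj
  unfold t0
  rw [Equiv.Perm.mul_apply, Equiv.Perm.mul_apply, ptIdx_permC hP, hf, ptIdx_permC t0_perm,
    ptIdx_permC hP]
  exact Nat.eq_of_beq_eq_true
    (List.all_eq_true.1 hhf (ptIdx p) (List.mem_range.2 (ptIdx p).isLt))

/-! ### the statement -/

/-- Involution centralisers in the smallest Mathieu group are isomorphic to GL(2, 3). -/
theorem result (d : Finset Cfsg.GolayPt) (hd : d ∈ Cfsg.dodecads) (p : Cfsg.GolayPt) (hp : p ∈ d) (x : ↥(MulAction.stabilizer Cfsg.M24 d ⊓ MulAction.stabilizer Cfsg.M24 p)) (hx : orderOf x = 2) : Nonempty (↥(Subgroup.centralizer ({x} : Set ↥(MulAction.stabilizer Cfsg.M24 d ⊓ MulAction.stabilizer Cfsg.M24 p))) ≃* GL (Fin 2) (ZMod 3)) := by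
  obtain ⟨g, hg, hgd, hgp⟩ := transport0 d hd p hp
  -- facts on `x`
  have hxmem := x.2
  simp only [Subgroup.mem_inf, MulAction.mem_stabilizer_iff] at hxmem
  have hxd : x.1.1 • d = d := hxmem.1
  have hxp : x.1.1 p = p := hxmem.2
  have hx2 : x * x = 1 := by
    rw [← pow_two, ← hx]; exact pow_orderOf_eq_one x
  have hx2' : x.1.1 * x.1.1 = 1 := congrArg (fun z : ↥(MulAction.stabilizer Cfsg.M24 d ⊓
    MulAction.stabilizer Cfsg.M24 p) => z.1.1) hx2
  have hx1 : x ≠ 1 := by
    intro h
    rw [h, orderOf_one] at hx
    norm_num at hx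
  have hx0K : g⁻¹ * x.1.1 * g ∈ K 1 := by
    refine mem_K1 (M24.mul_mem (M24.mul_mem (M24.inv_mem hg) x.1.2) hg) ?_ ?_
    · rw [mul_smul, mul_smul, hgd, hxd, ← hgd, inv_smul_smul]
    · simp only [Equiv.Perm.mul_apply]
      rw [hgp, hxp, ← hgp, inv_self]
  have hx02 : (g⁻¹ * x.1.1 * g) * (g⁻¹ * x.1.1 * g) = 1 := by
    have : (g⁻¹ * x.1.1 * g) * (g⁻¹ * x.1.1 * g) = g⁻¹ * (x.1.1 * x.1.1) * g := by group
    rw [this, hx2']
    group
  have hx01 : g⁻¹ * x.1.1 * g ≠ 1 := by
    intro h
    apply hx1
    apply Subtype.ext
    apply Subtype.ext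
    show x.1.1 = 1
    have : x.1.1 = g * (g⁻¹ * x.1.1 * g) * g⁻¹ := by group
    rw [this, h]
    group
  obtain ⟨h, hhK, hhx⟩ := conj_to_t0 hx0K hx02 hx01
  -- the conjugating element
  have hnM : g * h⁻¹ ∈ M24 := M24.mul_mem hg (M24.inv_mem (K_M24 hhK))
  have hnd : (g * h⁻¹) • fset Dm = d := by
    rw [mul_smul, K_smul ((K 1).inv_mem hhK), hgd]
  have hnp : (g * h⁻¹) (P 0) = p := by
    rw [Equiv.Perm.mul_apply, K1_fix ((K 1).inv_mem hhK), hgp]
  have hnx : (g * h⁻¹)⁻¹ * x.1.1 * (g * h⁻¹) = t0 := by
    have e1 : (g * h⁻¹)⁻¹ * x.1.1 * (g * h⁻¹) = h * (g⁻¹ * x.1.1 * g) * h⁻¹ := by group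
    rw [e1, hhx]
    group
  generalize g * h⁻¹ = n at hnM hnd hnp hnx
  have hxn : x.1.1 = n * t0 * n⁻¹ := by
    rw [← hnx]; group
  have hto : ∀ k ∈ C0, ∃ hk : n * k * n⁻¹ ∈ M24, ∃ hk2 : (⟨n * k * n⁻¹, hk⟩ : ↥M24) ∈
      (MulAction.stabilizer Cfsg.M24 d ⊓ MulAction.stabilizer Cfsg.M24 p),
      (⟨⟨n * k * n⁻¹, hk⟩, hk2⟩ : ↥(MulAction.stabilizer Cfsg.M24 d ⊓
        MulAction.stabilizer Cfsg.M24 p)) ∈ Subgroup.centralizer ({x} : Set ↥(MulAction.stabilizer Cfsg.M24 d ⊓
        MulAction.stabilizer Cfsg.M24 p)) := by
    intro k hk
    rw [mem_C0] at hk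
    obtain ⟨hkK, hkc⟩ := hk
    have hkM : n * k * n⁻¹ ∈ M24 := M24.mul_mem (M24.mul_mem hnM (K_M24 hkK)) (M24.inv_mem hnM)
    refine ⟨hkM, ?_, ?_⟩
    · simp only [Subgroup.mem_inf, MulAction.mem_stabilizer_iff]
      refine ⟨?_, ?_⟩
      · show (n * k * n⁻¹) • d = d
        have h1 : n⁻¹ • d = fset Dm := by rw [← hnd, inv_smul_smul]
        rw [mul_smul, mul_smul, h1, K_smul hkK, hnd]
      · show (n * k * n⁻¹) p = p
        simp only [Equiv.Perm.mul_apply]
        rw [← hnp, inv_self, K1_fix hkK]
    · rw [Subgroup.mem_centralizer_singleton_iff]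
      apply Subtype.ext
      apply Subtype.ext
      show (n * k * n⁻¹) * x.1.1 = x.1.1 * (n * k * n⁻¹)
      rw [hxn]
      have e1 : n * k * n⁻¹ * (n * t0 * n⁻¹) = n * (k * t0) * n⁻¹ := by group
      have e2 : n * t0 * n⁻¹ * (n * k * n⁻¹) = n * (t0 * k) * n⁻¹ := by group
      rw [e1, e2, hkc]
  have hfrom : ∀ s : ↥(MulAction.stabilizer Cfsg.M24 d ⊓ MulAction.stabilizer Cfsg.M24 p),
      s ∈ Subgroup.centralizer ({x} : Set ↥(MulAction.stabilizer Cfsg.M24 d ⊓
        MulAction.stabilizer Cfsg.M24 p)) → n⁻¹ * s.1.1 * n ∈ C0 := by
    intro s hs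
    rw [Subgroup.mem_centralizer_singleton_iff] at hs
    have hs' : s.1.1 * x.1.1 = x.1.1 * s.1.1 := congrArg (fun z : ↥(MulAction.stabilizer Cfsg.M24 d ⊓
      MulAction.stabilizer Cfsg.M24 p) => z.1.1) hs
    have hsmem := s.2
    simp only [Subgroup.mem_inf, MulAction.mem_stabilizer_iff] at hsmem
    have hsd : s.1.1 • d = d := hsmem.1
    have hsp : s.1.1 p = p := hsmem.2
    rw [mem_C0]
    refine ⟨mem_K1 (M24.mul_mem (M24.mul_mem (M24.inv_mem hnM) s.1.2) hnM) ?_ ?_, ?_⟩
    · rw [mul_smul, mul_smul, hnd, hsd, ← hnd, inv_smul_smul]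
    · simp only [Equiv.Perm.mul_apply]
      rw [hnp, hsp, ← hnp, inv_self]
    · rw [← hnx]
      have e1 : n⁻¹ * s.1.1 * n * (n⁻¹ * x.1.1 * n) = n⁻¹ * (s.1.1 * x.1.1) * n := by group
      have e2 : n⁻¹ * x.1.1 * n * (n⁻¹ * s.1.1 * n) = n⁻¹ * (x.1.1 * s.1.1) * n := by group
      rw [e1, e2, hs']
  let iso1 : ↥(Subgroup.centralizer ({x} : Set ↥(MulAction.stabilizer Cfsg.M24 d ⊓
      MulAction.stabilizer Cfsg.M24 p))) ≃* ↥C0 :=
    { toFun := fun s => ⟨n⁻¹ * s.1.1.1 * n, hfrom s.1 s.2⟩
      invFun := fun k => ⟨⟨⟨n * k.1 * n⁻¹, (hto k.1 k.2).1⟩, (hto k.1 k.2).2.1⟩,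
        (hto k.1 k.2).2.2⟩
      left_inv := by
        intro s
        apply Subtype.ext
        apply Subtype.ext
        apply Subtype.ext
        show n * (n⁻¹ * s.1.1.1 * n) * n⁻¹ = s.1.1.1
        group
      right_inv := by
        intro k
        apply Subtype.ext
        show n⁻¹ * (n * k.1 * n⁻¹) * n = k.1
        group
      map_mul' := by
        intro a b
        apply Subtype.ext
        show n⁻¹ * (a.1.1.1 * b.1.1.1) * n = (n⁻¹ * a.1.1.1 * n) * (n⁻¹ * b.1.1.1 * n)
        group }
  let iso2 : GL (Fin 2) (ZMod 3) ≃* ↥C0 :=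
    MulEquiv.ofBijective chi ⟨chi_injective, chi_surjective⟩
  exact ⟨iso1.trans iso2.symm⟩

end Cfsg.Agent.S1603
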