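import Cfsg.Statements.S1604
import Cfsg.Agent.Lib.Helper27.GolayRank

set_option autoImplicit false
open scoped Pointwise
open Cfsg

namespace Cfsg.Agent.S1604

open Cfsg.Agent.Lib.Helper26 Cfsg.Agent.Lib.Helper27

def gA : List PermData := [⟨[12, 6, 3, 21, 9, 11, 15, 7, 10, 20, 13, 5, 0, 8, 16, 4, 23, 14, 17, 19, 1, 2, 18, 22], [12, 20, 21, 2, 15, 11, 1, 7, 13, 4, 8, 5, 0, 10, 17, 6, 14, 18, 22, 19, 9, 3, 23, 16]⟩,
  ⟨[22, 11, 20, 15, 8, 5, 10, 1, 7, 6, 13, 3, 0, 19, 16, 9, 17, 14, 12, 2, 21, 4, 23, 18], [12, 7, 19, 11, 21, 5, 9, 8, 4, 15, 6, 1, 18, 10, 17, 3, 14, 16, 23, 13, 2, 20, 0, 22]⟩,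
  ⟨[12, 20, 21, 2, 15, 11, 1, 7, 13, 4, 8, 5, 0, 10, 17, 6, 14, 18, 22, 19, 9, 3, 23, 16], [12, 6, 3, 21, 9, 11, 15, 7, 10, 20, 13, 5, 0, 8, 16, 4, 23, 14, 17, 19, 1, 2, 18, 22]⟩,
  ⟨[12, 7, 19, 11, 21, 5, 9, 8, 4, 15, 6, 1, 18, 10, 17, 3, 14, 16, 23, 13, 2, 20, 0, 22], [22, 11, 20, 15, 8, 5, 10, 1, 7, 6, 13, 3, 0, 19, 16, 9, 17, 14, 12, 2, 21, 4, 23, 18]⟩]

def gB : List PermData := [⟨[0, 20, 6, 1, 4, 5, 13, 2, 15, 19, 8, 9, 14, 11, 23, 3, 17, 18, 12, 7, 21, 10, 16, 22], [0, 3, 7, 15, 4, 5, 2, 19, 10, 11, 21, 13, 18, 6, 12, 8, 22, 16, 17, 9, 1, 20, 23, 14]⟩,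
  ⟨[0, 5, 7, 11, 8, 19, 6, 10, 3, 21, 13, 15, 12, 20, 18, 4, 17, 23, 16, 9, 2, 1, 22, 14], [0, 21, 20, 8, 15, 1, 6, 2, 4, 19, 7, 3, 12, 10, 23, 11, 18, 16, 14, 5, 13, 9, 22, 17]⟩,
  ⟨[0, 3, 7, 15, 4, 5, 2, 19, 10, 11, 21, 13, 18, 6, 12, 8, 22, 16, 17, 9, 1, 20, 23, 14], [0, 20, 6, 1, 4, 5, 13, 2, 15, 19, 8, 9, 14, 11, 23, 3, 17, 18, 12, 7, 21, 10, 16, 22]⟩,
  ⟨[0, 21, 20, 8, 15, 1, 6, 2, 4, 19, 7, 3, 12, 10, 23, 11, 18, 16, 14, 5, 13, 9, 22, 17], [0, 5, 7, 11, 8, 19, 6, 10, 3, 21, 13, 15, 12, 20, 18, 4, 17, 23, 16, 9, 2, 1, 22, 14]⟩]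

def gC : List PermData := [⟨[0, 5, 7, 11, 8, 19, 6, 10, 3, 21, 13, 15, 12, 20, 18, 4, 17, 23, 16, 9, 2, 1, 22, 14], [0, 21, 20, 8, 15, 1, 6, 2, 4, 19, 7, 3, 12, 10, 23, 11, 18, 16, 14, 5, 13, 9, 22, 17]⟩,
  ⟨[0, 2, 15, 1, 6, 7, 21, 13, 10, 4, 5, 11, 12, 8, 14, 20, 23, 18, 16, 9, 3, 19, 17, 22], [0, 3, 1, 20, 9, 10, 4, 5, 13, 19, 8, 11, 12, 7, 14, 2, 18, 22, 17, 21, 15, 6, 23, 16]⟩,
  ⟨[0, 21, 20, 8, 15, 1, 6, 2, 4, 19, 7, 3, 12, 10, 23, 11, 18, 16, 14, 5, 13, 9, 22, 17], [0, 5, 7, 11, 8, 19, 6, 10, 3, 21, 13, 15, 12, 20, 18, 4, 17, 23, 16, 9, 2, 1, 22, 14]⟩,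
  ⟨[0, 3, 1, 20, 9, 10, 4, 5, 13, 19, 8, 11, 12, 7, 14, 2, 18, 22, 17, 21, 15, 6, 23, 16], [0, 2, 15, 1, 6, 7, 21, 13, 10, 4, 5, 11, 12, 8, 14, 20, 23, 18, 16, 9, 3, 19, 17, 22]⟩]

def ptT : List ℕ := [1, 4096, 16384, 65536, 131072, 262144, 4194304, 8388608]

def ptW : List (List ℕ) := [[], [0], [0, 0, 3, 0], [2, 1, 1], [0, 3, 0], [3, 0], [1], [1, 1]]

def qT : List ℕ := [4096, 16384, 65536, 131072, 262144, 4194304, 8388608]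

def qW : List (List ℕ) := [[], [0], [1, 2], [2, 2], [2], [0, 0, 0], [0, 0]]

def c2 : ℕ := 45159

def w2 : List (List ℕ) := [[], [0], [3, 0, 0], [1], [1, 0], [3, 3], [1, 1], [3], [3, 0], [0, 0], [1, 2], [3, 2], [2, 1], [2, 3, 0], [2], [0, 3]]

def c4 : ℕ := 5902343

def w4 : List (List ℕ) := [[], [3], [1, 1], [2, 1, 1, 0, 0], [3, 0, 3, 0, 0], [2], [2, 2, 1], [0, 3, 0, 1], [0, 3, 0, 0], [3, 3], [1, 2, 3, 0, 0], [3, 0, 0, 1, 0], [1, 2, 3, 0], [1, 0], [2, 3, 0], [2, 1, 2, 3], [0, 0, 1, 0], [0, 0, 3], [0, 1, 1], [1, 1, 0], [3, 0, 0], [1, 2], [1, 2, 2, 1], [0, 1, 0, 0], [2, 2, 3, 0], [1], [2, 2, 3], [1, 0, 0], [0, 1, 0, 1], [2, 3, 0, 0], [0], [3, 0, 1, 0], [1, 1, 0, 0], [3, 0, 0, 3], [3, 0], [1, 0, 0, 1], [0, 3, 2], [1, 0, 1, 0], [0, 0], [3, 2], [0, 0, 1], [3, 3, 0], [0, 1, 0], [2, 2], [3, 2, 2, 1], [2, 1, 1], [0, 3, 3, 0], [1, 2, 1, 0], [0,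 3], [1, 0, 1], [2, 2, 1, 0], [0, 1], [2, 3, 2], [2, 1], [3, 2, 1, 0], [3, 0, 1], [2, 3], [2, 1, 0], [1, 2, 3], [1, 2, 1]]

def fn (n : ℕ) (c : ℕ) : Bool := c.testBit 0 && c.testBit 12 && (pc 24 (oct0 &&& c) == n)

theorem gA_ok : gA.all (fun d => inStabK d [] [oct0]) = true := by decide +kernel
theorem gB_ok : gB.all (fun d => inStabK d [0] [oct0]) = true := by decide +kernel
theorem gC_ok : gC.all (fun d => inStabK d [0, 12] [oct0]) = true := by decide +kernel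
theorem pt_paths : checkPaths gA (2 ^ 0) ptT ptW = true := by decide +kernel
theorem q_paths : checkPaths gB (2 ^ 12) qT qW = true := by decide +kernel
theorem paths2 : checkPaths gC c2 (octL.filter (fn 2)) w2 = true := by decide +kernel
theorem paths4 : checkPaths gC c4 (octL.filter (fn 4)) w4 = true := by decide +kernel
theorem len2 : (octL.filter (fn 2)).length = 16 := by decide +kernel
theorem len4 : (octL.filter (fn 4)).length = 60 := by decide +kernel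
theorem ptT_ok : ∀ i, i < 24 → oct0.testBit i = true → 2 ^ i ∈ ptT := by decide +kernel
theorem qT_ok : ∀ i, i < 24 → (13062144 : ℕ).testBit i = true → 2 ^ i ∈ qT := by decide +kernel
theorem sub_ok : ∀ i, i < 24 → oct0.testBit i = true → i ≠ 0 → (13062144 : ℕ).testBit i = true := by
  decide +kernel

theorem hP (n : ℕ) : ∀ c ∈ octL, (pt 0 ∈ dec c ∧ pt 12 ∈ dec c ∧ (dec oct0 ∩ dec c).card = n) ↔
    fn n c = true := by
  intro c _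
  rw [pt_mem_dec_iff 0 (by norm_num), pt_mem_dec_iff 12 (by norm_num), card_dec_inter, fn,
    Bool.and_eq_true, Bool.and_eq_true, beq_iff_eq, and_assoc]

theorem flag_trans (p q : GolayPt) (hpq : p ≠ q) (o : Finset GolayPt) (ho : o ∈ octads)
    (hp : p ∈ o) (hq : q ∈ o) :
    ∃ g ∈ M24, g • dec oct0 = o ∧ g (pt 0) = p ∧ g (pt 12) = q := by
  obtain ⟨g1, hg1, rfl⟩ := octads_transitive o ho
  have hy : g1⁻¹ p ∈ dec oct0 := by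
    rw [← apply_mem_smul_iff g1]
    simpa using hp
  obtain ⟨h1, hh1, hh1p⟩ := point_orbit (K := stabK [] [oct0]) (j₀ := 0) (by norm_num)
    (stabK_orbit_cert gA [] [oct0] gA_ok (2 ^ 0) ptT ptW pt_paths) ptT_ok _ hy
  have h1o : h1 • dec oct0 = dec oct0 := hh1.2.2 oct0 (by simp)
  have hz : h1⁻¹ (g1⁻¹ q) ∈ dec oct0 := by
    rw [← apply_mem_smul_iff h1, h1o, ← apply_mem_smul_iff g1]
    simpa using hq
  have hz0 : h1⁻¹ (g1⁻¹ q) ≠ pt 0 := by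
    intro hcon
    apply hpq
    have : g1⁻¹ q = g1⁻¹ p := by
      rw [← hh1p, ← hcon]; simp
    exact (g1⁻¹).injective this.symm
  have hz' : h1⁻¹ (g1⁻¹ q) ∈ dec 13062144 := by
    rw [mem_dec] at hz ⊢
    apply sub_ok _ (idx_lt _) hz
    intro hcon
    apply hz0
    rw [← pt_idx (h1⁻¹ (g1⁻¹ q)), hcon]
  obtain ⟨h2, hh2, hh2q⟩ := point_orbit (K := stabK [0] [oct0]) (j₀ := 12) (by norm_num)
    (stabK_orbit_cert gB [0] [oct0] gB_ok (2 ^ 12) qT qW q_paths) qT_ok _ hz'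
  refine ⟨g1 * h1 * h2, M24.mul_mem (M24.mul_mem hg1 hh1.1) hh2.1, ?_, ?_, ?_⟩
  · rw [mul_smul, mul_smul, hh2.2.2 oct0 (by simp), h1o]
  · rw [Equiv.Perm.mul_apply, Equiv.Perm.mul_apply, hh2.2.1 0 (by simp), hh1p]; simp
  · rw [Equiv.Perm.mul_apply, Equiv.Perm.mul_apply, hh2q]; simp

theorem base_count (n k : ℕ) (hk : (octL.filter (fn n)).length = k) :
    {o' : Finset GolayPt | o' ∈ octads ∧ (pt 0 ∈ o' ∧ pt 12 ∈ o' ∧ (dec oct0 ∩ o').card = n)}.ncard = k := by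
  rw [ncard_octads_filter _ (fn n) (hP n), hk]

theorem pt0_mem : pt 0 ∈ dec oct0 := by
  rw [pt_mem_dec_iff 0 (by norm_num)]; decide

theorem base_trans (o' o'' : Finset GolayPt) (ho' : o' ∈ octads) (ho'' : o'' ∈ octads)
    (hp' : pt 0 ∈ o') (hp'' : pt 0 ∈ o'') (hq' : pt 12 ∈ o') (hq'' : pt 12 ∈ o'')
    (hc : (dec oct0 ∩ o').card = (dec oct0 ∩ o'').card) :
    ∃ g : Equiv.Perm GolayPt, g ∈ M24 ∧ g (pt 0) = pt 0 ∧ g (pt 12) = pt 12 ∧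
      g • dec oct0 = dec oct0 ∧ g • o' = o'' := by
  have key : ∀ (c₀ : ℕ) (ws : List (List ℕ)) (n : ℕ),
      checkPaths gC c₀ (octL.filter (fn n)) ws = true → (dec oct0 ∩ o').card = n →
      ∃ g : Equiv.Perm GolayPt, g ∈ M24 ∧ g (pt 0) = pt 0 ∧ g (pt 12) = pt 12 ∧
        g • dec oct0 = dec oct0 ∧ g • o' = o'' := by
    intro c₀ ws n hpaths hn
    obtain ⟨a, ha, rfl⟩ := mem_octL_filter (P := fun o => pt 0 ∈ o ∧ pt 12 ∈ o ∧ (dec oct0 ∩ o).card = n) (hP n) ho' ⟨hp', hq', hn⟩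
    obtain ⟨b, hb, rfl⟩ := mem_octL_filter (P := fun o => pt 0 ∈ o ∧ pt 12 ∈ o ∧ (dec oct0 ∩ o).card = n) (hP n) ho'' ⟨hp'', hq'', by rw [← hc, hn]⟩
    obtain ⟨g, hg, hgab⟩ := orbit_pairs (stabK_orbit_cert gC [0, 12] [oct0] gC_ok c₀ _ ws hpaths) a ha b hb
    exact ⟨g, hg.1, hg.2.1 0 (by simp), hg.2.1 12 (by simp), hg.2.2 oct0 (by simp), hgab⟩
  rcases octad_inter_card _ _ oct0_mem ho' with h | h | h | h
  · exfalso
    have : pt 0 ∈ dec oct0 ∩ o' := Finset.mem_inter.mpr ⟨pt0_mem, hp'⟩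
    rw [Finset.card_eq_zero] at h
    rw [h] at this
    exact absurd this (Finset.notMem_empty _)
  · exact key c2 w2 2 paths2 h
  · exact key c4 w4 4 paths4 h
  · have e1 := octad_eq_of_inter_card oct0_mem ho' h
    have e2 := octad_eq_of_inter_card oct0_mem ho'' (by rw [← hc, h])
    exact ⟨1, M24.one_mem, rfl, rfl, one_smul _ _, by rw [one_smul, e1, e2]⟩

/-- A hexad stabiliser in the two-point stabiliser has orbits of sizes 1, 16, 60 on the 77 hexads: the 16 hexads disjoint from it and the 60 meeting it in two points. -/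
theorem result (p q : Cfsg.GolayPt) (hpq : p ≠ q) (o o' o'' : Finset Cfsg.GolayPt) (ho : o ∈ Cfsg.octads) (ho' : o' ∈ Cfsg.octads) (ho'' : o'' ∈ Cfsg.octads) (hp : p ∈ o ∧ p ∈ o' ∧ p ∈ o'') (hq : q ∈ o ∧ q ∈ o' ∧ q ∈ o'') (h : (o ∩ o').card = (o ∩ o'').card) : {x : Finset Cfsg.GolayPt | x ∈ Cfsg.octads ∧ p ∈ x ∧ q ∈ x ∧ (o ∩ x).card = 2}.ncard = 16 ∧ {x : Finset Cfsg.GolayPt | x ∈ Cfsg.octads ∧ p ∈ x ∧ q ∈ x ∧ (o ∩ x).card = 4}.ncard = 60 ∧ ∃ g : Equiv.Perm Cfsg.GolayPt, g ∈ Cfsg.M24 ∧ g p = p ∧ g q = q ∧ g • o = o ∧ g • o' = o'' := by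
  obtain ⟨g, hg, rfl, rfl, rfl⟩ := flag_trans p q hpq o ho hp.1 hq.1
  refine ⟨?_, ?_, ?_⟩
  · rw [ncard_smul_transport g (fun o' => o' ∈ octads ∧ (pt 0 ∈ o' ∧ pt 12 ∈ o' ∧ (dec oct0 ∩ o').card = 2))
      (fun o' => o' ∈ octads ∧ g (pt 0) ∈ o' ∧ g (pt 12) ∈ o' ∧ (g • dec oct0 ∩ o').card = 2)
      (by intro o'; rw [smul_mem_octads_iff hg, apply_mem_smul_iff, apply_mem_smul_iff, smul_inter_card])]
    exact base_count 2 _ len2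
  · rw [ncard_smul_transport g (fun o' => o' ∈ octads ∧ (pt 0 ∈ o' ∧ pt 12 ∈ o' ∧ (dec oct0 ∩ o').card = 4))
      (fun o' => o' ∈ octads ∧ g (pt 0) ∈ o' ∧ g (pt 12) ∈ o' ∧ (g • dec oct0 ∩ o').card = 4)
      (by intro o'; rw [smul_mem_octads_iff hg, apply_mem_smul_iff, apply_mem_smul_iff, smul_inter_card])]
    exact base_count 4 _ len4
  · have hgi := M24.inv_mem hg
    obtain ⟨k, hk, hk0, hk12, hko, hkk⟩ := base_trans (g⁻¹ • o') (g⁻¹ • o'')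
      ((smul_mem_octads_iff hgi o').mpr ho') ((smul_mem_octads_iff hgi o'').mpr ho'')
      (by rw [← apply_mem_smul_iff g, smul_inv_smul]; exact hp.2.1)
      (by rw [← apply_mem_smul_iff g, smul_inv_smul]; exact hp.2.2)
      (by rw [← apply_mem_smul_iff g, smul_inv_smul]; exact hq.2.1)
      (by rw [← apply_mem_smul_iff g, smul_inv_smul]; exact hq.2.2)
      (by rw [← smul_inter_card g, ← smul_inter_card g (dec oct0), smul_inv_smul, smul_inv_smul]; exact h)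
    refine ⟨g * k * g⁻¹, M24.mul_mem (M24.mul_mem hg hk) hgi, ?_, ?_, ?_, ?_⟩
    · simp [Equiv.Perm.mul_apply, hk0]
    · simp [Equiv.Perm.mul_apply, hk12]
    · rw [mul_smul, mul_smul, inv_smul_smul, hko]
    · rw [mul_smul, mul_smul, hkk, smul_inv_smul]

end Cfsg.Agent.S1604
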