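import Cfsg.Statements.S1605
import Cfsg.Agent.Lib.Helper27.GolayRank

set_option autoImplicit false
open scoped Pointwise
open Cfsg

namespace Cfsg.Agent.S1605

open Cfsg.Agent.Lib.Helper26 Cfsg.Agent.Lib.Helper27

def oB : ℕ := 1302533

def gM : List PermData := [⟨[0, 16, 19, 13, 17, 21, 4, 8, 1, 15, 22, 5, 10, 2, 14, 20, 9, 3, 12, 6, 7, 18, 11, 23], [0, 8, 13, 17, 6, 11, 19, 20, 7, 16, 12, 22, 18, 3, 14, 9, 1, 4, 21, 2, 15, 5, 10, 23]⟩,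
  ⟨[0, 5, 11, 2, 22, 4, 15, 17, 21, 14, 18, 9, 13, 16, 6, 19, 3, 10, 1, 12, 7, 20, 8, 23], [0, 18, 3, 16, 5, 1, 14, 20, 22, 11, 17, 2, 19, 12, 9, 6, 13, 7, 10, 15, 21, 8, 4, 23]⟩,
  ⟨[0, 8, 13, 17, 6, 11, 19, 20, 7, 16, 12, 22, 18, 3, 14, 9, 1, 4, 21, 2, 15, 5, 10, 23], [0, 16, 19, 13, 17, 21, 4, 8, 1, 15, 22, 5, 10, 2, 14, 20, 9, 3, 12, 6, 7, 18, 11, 23]⟩,
  ⟨[0, 18, 3, 16, 5, 1, 14, 20, 22, 11, 17, 2, 19, 12, 9, 6, 13, 7, 10, 15, 21, 8, 4, 23], [0, 5, 11, 2, 22, 4, 15, 17, 21, 14, 18, 9, 13, 16, 6, 19, 3, 10, 1, 12, 7, 20, 8, 23]⟩]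

def gC : List PermData := [⟨[0, 9, 16, 19, 8, 11, 3, 7, 6, 4, 5, 22, 21, 15, 17, 20, 13, 2, 10, 1, 14, 18, 12, 23], [0, 19, 17, 6, 9, 10, 8, 7, 4, 1, 18, 5, 22, 16, 20, 13, 2, 14, 21, 3, 15, 12, 11, 23]⟩,
  ⟨[0, 11, 14, 22, 4, 21, 10, 12, 7, 6, 1, 18, 5, 17, 20, 16, 13, 2, 19, 9, 15, 3, 8, 23], [0, 10, 17, 21, 4, 12, 9, 8, 22, 19, 6, 1, 7, 16, 2, 20, 15, 13, 11, 18, 14, 5, 3, 23]⟩,
  ⟨[0, 19, 17, 6, 9, 10, 8, 7, 4, 1, 18, 5, 22, 16, 20, 13, 2, 14, 21, 3, 15, 12, 11, 23], [0, 9, 16, 19, 8, 11, 3, 7, 6, 4, 5, 22, 21, 15, 17, 20, 13, 2, 10, 1, 14, 18, 12, 23]⟩,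
  ⟨[0, 10, 17, 21, 4, 12, 9, 8, 22, 19, 6, 1, 7, 16, 2, 20, 15, 13, 11, 18, 14, 5, 3, 23], [0, 11, 14, 22, 4, 21, 10, 12, 7, 6, 1, 18, 5, 17, 20, 16, 13, 2, 19, 9, 15, 3, 8, 23]⟩]

def wM : List (List ℕ) := [[], [2, 1], [2, 1, 0, 1, 1], [2, 1, 0], [3, 2, 3, 3, 0], [3, 0, 0, 1, 1], [0, 3, 2, 1, 0, 0], [0, 3, 0, 1, 2], [2, 3], [0, 1, 1, 0], [1, 0, 0], [0, 0, 1, 0], [2, 3, 3, 2, 2], [1, 2, 3, 0, 0], [1, 0, 1, 0], [3, 2, 1, 0, 0, 1], [1, 2], [1, 1, 2, 3, 0, 0], [0, 0, 1, 2], [2, 2, 1, 1], [1, 0, 1, 1], [2, 3, 3], [0, 0, 1, 1, 2], [0, 0, 1, 0, 0], [2, 2, 2], [3, 2, 1], [3, 0, 1, 1, 2], [0, 0, 1, 0, 1], [2, 3, 3, 0], [1, 1, 2, 3, 2], [1, 2, 2, 3, 3], [0, 1, 1, 0, 0, 0], [0, 1, 1, 2, 2], [3, 3, 0, 3, 0], [3, 3, 3, 0], [0, 3, 0, 3, 0, 1], [1, 0, 1], [0, 3, 0, 0, 1], [3, 0, 1, 2, 1], [2, 3, 0, 3, 0], [3,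 2, 2, 1, 1], [1, 1, 2, 1, 0], [0, 3, 2, 3, 0], [0, 3, 2, 1], [1, 1, 0, 1], [0, 0, 0], [0, 0, 3, 0], [2, 3, 0, 3, 0, 1], [0, 0, 3, 0, 0], [0, 0], [1, 2, 1, 0], [3, 0, 0, 1], [3, 3, 3], [2, 2, 3, 0, 0], [1, 1], [2, 1, 1], [2, 1, 1, 0], [2], [2, 1, 2, 2], [2, 3, 0], [3, 0, 0, 0], [2, 1, 0, 0], [3, 0, 0], [1, 0, 3, 0, 0, 0], [2, 3, 2, 1], [0], [0, 3, 3, 2, 1], [0, 3, 0], [2, 1, 1, 2], [3], [2, 1, 1, 0, 0, 0], [0, 3, 2, 3], [1, 1, 0, 0, 0], [1, 2, 3, 2], [1, 2, 3, 0, 1], [2, 2], [0, 1], [3, 0, 3, 0, 1], [3, 0, 0, 1, 0], [1, 1, 1, 0, 1, 0], [0, 0, 3, 2], [0, 1, 1], [1, 2, 1, 1], [3, 2, 1, 2, 1], [3, 3, 2, 3, 0], [0, 1, 1, 2], [2, 2, 1, 1, 0], [1, 2, 2], [1, 2, 1, 2, 2], [1, 0, 0, 1, 2], [2, 1, 0, 1, 0], [3, 0, 3], [2, 2, 3, 0, 1], [3, 2, 3], [2, 3, 3, 3, 0], [1, 2, 3], [2, 1, 1, 0, 1], [0, 3, 0, 3, 0],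 [0, 0, 1, 1], [0, 1, 2, 3], [2, 1, 2, 1, 1], [1, 0, 1, 2, 3], [0, 3], [0, 1, 2, 1], [0, 1, 0], [3, 3, 2, 1], [2, 1, 2, 1, 0], [3, 0, 0, 3, 2], [2, 3, 0, 0], [1, 2, 3, 0, 3], [0, 0, 3, 2, 3, 0], [3, 2, 3, 0, 1], [2, 3, 3, 3], [0, 3, 2], [0, 1, 0, 0], [1, 0, 0, 1, 1, 0], [0, 3, 3], [2, 2, 3, 3], [0, 1, 0, 1, 1], [2, 1, 1, 0, 1, 0], [0, 3, 0, 0, 0], [2, 3, 2], [0, 3, 2, 3, 0, 1], [1, 1, 0, 1, 1], [0, 0, 1], [0, 0, 0, 1, 0], [1, 1, 2, 3], [3, 3, 3, 2, 2], [3, 2, 1, 1, 0], [3, 0, 1], [1, 1, 2, 2], [0, 1, 0, 0, 1, 2], [1, 2, 2, 3, 0, 0], [0, 0, 1, 1, 0], [2, 1, 2, 1], [0, 1, 1, 0, 1, 0], [1, 0], [3, 2, 3, 0], [1, 0, 0, 0], [3, 3], [1, 1, 0, 1, 0], [0, 1, 0, 0, 0], [3, 3, 0], [1, 1, 2], [3, 0, 3, 2], [1, 0, 0, 1, 1], [3, 2, 3, 2, 1], [1, 0, 1, 1, 0], [0, 1, 0, 1], [3, 0], [3, 3, 2, 2], [3, 3, 0, 1, 2],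 [0, 1, 2], [3, 2], [3, 2, 2], [2, 3, 3, 2, 1], [2, 1, 1, 2, 1, 0], [3, 2, 2, 3, 3], [3, 2, 2, 3, 0, 0], [3, 0, 1, 2], [2, 1, 0, 0, 1], [1, 1, 1], [2, 3, 0, 3], [0, 3, 0, 3], [0, 3, 0, 1], [3, 2, 1, 0, 0], [3, 0, 3, 0], [0, 3, 0, 0], [1], [2, 2, 3, 3, 0], [2, 3, 0, 1], [1, 2, 1], [1, 0, 0, 1], [1, 1, 0], [3, 0, 1, 0, 1], [2, 2, 3, 0]]

def c2 : ℕ := 806987

def w2 : List (List ℕ) := [[], [2, 2, 3, 0], [3, 0, 3, 3, 0], [3, 0, 1, 0], [2, 3], [1, 2, 3, 0], [0, 1, 2], [2, 1, 1], [0, 1, 0, 0], [2, 3, 2, 1], [2], [1, 1, 2], [1, 0, 0, 1], [0, 1, 0], [3, 2], [0, 0], [3, 2, 2], [2, 3, 0, 1], [0, 1, 1, 2], [2, 1, 0, 0], [1, 1], [2, 2, 2], [3, 0, 1, 2], [0, 3, 0, 1], [3, 0, 0, 0], [3, 0], [0, 1, 1, 0], [2, 2, 3], [3, 0, 1], [0, 3], [2, 3, 0], [0, 3, 0, 0], [2, 3, 3], [1, 1, 1, 0], [3, 3, 0, 1], [3, 3, 3], [0],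 [2, 1, 0, 1], [0, 1, 1], [3, 3, 2, 1], [0, 0, 1, 0, 0], [1, 2], [1, 2, 1], [3, 3, 2], [0, 1], [2, 2, 2, 3], [2, 1, 2], [3, 2, 3, 0], [1, 0, 1], [2, 2], [3, 3], [0, 0, 1, 2], [2, 1, 1, 2], [1, 0], [1, 0, 0], [3, 3, 0], [3, 3, 3, 0], [1, 2, 1, 1], [0, 0, 1], [1, 1, 2, 1], [3, 0, 0], [0, 3, 3, 0], [2, 1], [3, 2, 1], [1, 1, 1], [1, 1, 0], [0, 0, 3], [1], [3], [0, 0, 0]]

def c4 : ℕ := 5902343

def w4 : List (List ℕ) := [[], [3, 2], [2, 3, 0, 3, 0], [3, 3, 0, 0], [0, 3, 2, 1, 0], [2, 2, 1, 1, 0], [0, 1, 1, 1], [1, 2, 1, 1, 0], [3, 2, 3, 3, 0], [2, 3, 2], [1, 2, 3, 0, 0], [0, 3, 3], [1, 0, 0], [3, 0, 3, 3, 0, 0], [3, 3, 3, 2], [3, 3, 3, 0, 1], [2, 1, 2, 1, 0], [2, 1, 1, 1, 2], [3, 0, 0, 1], [2, 2, 1, 1], [1, 0, 0, 0], [1, 2, 1, 1], [1, 2, 3, 3], [1, 1], [0, 1, 1, 2], [1, 0, 3, 3, 2], [0, 0, 1], [0, 1,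 0, 0], [2, 3, 3, 0], [0, 3, 3, 0, 1], [0, 3, 2, 1], [2, 3, 3], [3, 3, 0], [1, 1, 1, 0, 0], [2, 1, 1], [2, 1, 1, 2], [1, 0, 0, 1], [1, 1, 2], [3, 2, 1, 0, 0], [0], [2, 3, 3, 0, 1], [0, 0], [3, 0, 1], [2, 1, 2, 1], [3, 3, 3], [3, 2, 1, 0], [2, 3, 0, 1], [0, 3, 0, 3, 0], [2, 1, 0, 0, 0], [3, 2, 3, 2], [3, 3, 2, 1], [1, 2], [0, 3, 0, 1], [2, 1, 0, 0], [0, 1, 0, 0, 0], [1, 1, 0], [1, 1, 1], [3, 0, 3, 0, 0], [3, 3, 0, 1], [0, 1, 1, 0], [2, 1], [2, 2, 3, 0, 0], [0, 3, 3, 0], [3, 2, 1], [1, 2, 1, 0], [3], [3, 0], [1, 2, 1, 0, 0], [1, 0, 3, 3], [3, 0, 3, 0], [0, 0, 0], [2, 1, 0], [2, 2, 1], [1, 1, 0, 0], [2, 3, 0, 0], [1, 1, 1, 2], [0, 3, 3, 0, 0], [2, 1, 1, 0], [2], [1, 1, 2, 1, 0], [1, 2, 1], [1, 1, 2, 1], [0, 3, 3, 2], [3, 0, 0], [3, 2, 2, 1], [0, 1], [1, 0], [0, 1, 2, 1, 1], [0, 3, 0], [3, 0, 1, 1, 0],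 [3, 3, 2, 3, 2], [0, 3, 0, 0], [3, 3], [1, 0, 3, 0, 0], [2, 1, 1, 0, 0], [3, 0, 3, 3], [0, 3, 3, 3], [0, 0, 3, 0], [1], [1, 0, 1, 1, 2], [2, 3, 3, 3], [3, 3, 2], [3, 3, 3, 0, 0], [1, 1, 2, 3, 0, 0], [1, 2, 3, 0, 1]]

def fT (c : ℕ) : Bool := c.testBit 0 && !c.testBit 23
def fn (n : ℕ) (c : ℕ) : Bool := fT c && (pc 24 (oB &&& c) == n)

theorem gM_ok : gM.all (fun d => inStabK d [0, 23] []) = true := by decide +kernel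
theorem gC_ok : gC.all (fun d => inStabK d [0, 23] [oB]) = true := by decide +kernel
theorem pathsM : checkPaths gM oB (octL.filter fT) wM = true := by decide +kernel
theorem paths2 : checkPaths gC c2 (octL.filter (fn 2)) w2 = true := by decide +kernel
theorem paths4 : checkPaths gC c4 (octL.filter (fn 4)) w4 = true := by decide +kernel
theorem lenT : (octL.filter fT).length = 176 := by decide +kernel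
theorem len2 : (octL.filter (fn 2)).length = 70 := by decide +kernel
theorem len4 : (octL.filter (fn 4)).length = 105 := by decide +kernel
theorem oB_memL : oB ∈ octL := by decide +kernel

theorem oB_mem : dec oB ∈ octads := (mem_octads_iff _).mpr ⟨oB, oB_memL, rfl⟩

theorem hT : ∀ c ∈ octL, (pt 0 ∈ dec c ∧ pt 23 ∉ dec c) ↔ fT c = true := by
  intro c _
  rw [pt_mem_dec_iff 0 (by norm_num), pt_mem_dec_iff 23 (by norm_num), fT, Bool.and_eq_true]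
  simp

theorem hP (n : ℕ) : ∀ c ∈ octL, ((pt 0 ∈ dec c ∧ pt 23 ∉ dec c) ∧ (dec oB ∩ dec c).card = n) ↔
    fn n c = true := by
  intro c hc
  rw [hT c hc, card_dec_inter, fn, Bool.and_eq_true, beq_iff_eq]

theorem two_trans (p q : GolayPt) (hpq : p ≠ q) : ∃ g ∈ M24, g (pt 0) = p ∧ g (pt 23) = q := by
  obtain ⟨g, hg, h⟩ := isTransOn2 [p, q] rfl (by simp [hpq])
  simp only [List.map_cons, List.map_nil, List.cons.injEq, and_true] at h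
  exact ⟨g, hg, h.1.symm, h.2.symm⟩

theorem base_count176 :
    {x : Finset GolayPt | x ∈ octads ∧ (pt 0 ∈ x ∧ pt 23 ∉ x)}.ncard = 176 := by
  rw [ncard_octads_filter _ fT hT, lenT]

theorem base_transM (o : Finset GolayPt) (ho : o ∈ octads) (h0 : pt 0 ∈ o) (h23 : pt 23 ∉ o) :
    ∃ k ∈ stabK [0, 23] [], k • dec oB = o := by
  obtain ⟨a, ha, rfl⟩ := mem_octL_filter (P := fun o => pt 0 ∈ o ∧ pt 23 ∉ o) hT ho ⟨h0, h23⟩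
  exact stabK_orbit_cert gM [0, 23] [] gM_ok oB _ wM pathsM a ha

theorem config_trans (p q : GolayPt) (hpq : p ≠ q) (o : Finset GolayPt) (ho : o ∈ octads)
    (hp : p ∈ o) (hq : q ∉ o) :
    ∃ g ∈ M24, g (pt 0) = p ∧ g (pt 23) = q ∧ g • dec oB = o := by
  obtain ⟨g, hg, rfl, rfl⟩ := two_trans p q hpq
  have hgi := M24.inv_mem hg
  obtain ⟨k, hk, hko⟩ := base_transM (g⁻¹ • o) ((smul_mem_octads_iff hgi o).mpr ho)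
    (by rw [← apply_mem_smul_iff g, smul_inv_smul]; exact hp)
    (by rw [← apply_mem_smul_iff g, smul_inv_smul]; exact hq)
  refine ⟨g * k, M24.mul_mem hg hk.1, ?_, ?_, ?_⟩
  · rw [Equiv.Perm.mul_apply, hk.2.1 0 (by simp)]
  · rw [Equiv.Perm.mul_apply, hk.2.1 23 (by simp)]
  · rw [mul_smul, hko, smul_inv_smul]

theorem base_count (n k : ℕ) (hk : (octL.filter (fn n)).length = k) :
    {x : Finset GolayPt | x ∈ octads ∧ ((pt 0 ∈ x ∧ pt 23 ∉ x) ∧ (dec oB ∩ x).card = n)}.ncard = k := by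
  rw [ncard_octads_filter _ (fn n) (hP n), hk]

theorem pt0_mem : pt 0 ∈ dec oB := by
  rw [pt_mem_dec_iff 0 (by norm_num)]; decide

theorem base_trans (o' o'' : Finset GolayPt) (ho' : o' ∈ octads) (ho'' : o'' ∈ octads)
    (hp' : pt 0 ∈ o') (hp'' : pt 0 ∈ o'') (hq' : pt 23 ∉ o') (hq'' : pt 23 ∉ o'')
    (hc : (dec oB ∩ o').card = (dec oB ∩ o'').card) :
    ∃ g : Equiv.Perm GolayPt, g ∈ M24 ∧ g (pt 0) = pt 0 ∧ g (pt 23) = pt 23 ∧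
      g • dec oB = dec oB ∧ g • o' = o'' := by
  have key : ∀ (c₀ : ℕ) (ws : List (List ℕ)) (n : ℕ),
      checkPaths gC c₀ (octL.filter (fn n)) ws = true → (dec oB ∩ o').card = n →
      ∃ g : Equiv.Perm GolayPt, g ∈ M24 ∧ g (pt 0) = pt 0 ∧ g (pt 23) = pt 23 ∧
        g • dec oB = dec oB ∧ g • o' = o'' := by
    intro c₀ ws n hpaths hn
    obtain ⟨a, ha, rfl⟩ := mem_octL_filter (P := fun o => (pt 0 ∈ o ∧ pt 23 ∉ o) ∧ (dec oB ∩ o).card = n) (hP n) ho' ⟨⟨hp', hq'⟩, hn⟩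
    obtain ⟨b, hb, rfl⟩ := mem_octL_filter (P := fun o => (pt 0 ∈ o ∧ pt 23 ∉ o) ∧ (dec oB ∩ o).card = n) (hP n) ho'' ⟨⟨hp'', hq''⟩, by rw [← hc, hn]⟩
    obtain ⟨g, hg, hgab⟩ := orbit_pairs (stabK_orbit_cert gC [0, 23] [oB] gC_ok c₀ _ ws hpaths) a ha b hb
    exact ⟨g, hg.1, hg.2.1 0 (by simp), hg.2.1 23 (by simp), hg.2.2 oB (by simp), hgab⟩
  rcases octad_inter_card _ _ oB_mem ho' with h | h | h | h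
  · exfalso
    have : pt 0 ∈ dec oB ∩ o' := Finset.mem_inter.mpr ⟨pt0_mem, hp'⟩
    rw [Finset.card_eq_zero] at h
    rw [h] at this
    exact absurd this (Finset.notMem_empty _)
  · exact key c2 w2 2 paths2 h
  · exact key c4 w4 4 paths4 h
  · have e1 := octad_eq_of_inter_card oB_mem ho' h
    have e2 := octad_eq_of_inter_card oB_mem ho'' (by rw [← hc, h])
    exact ⟨1, M24.one_mem, rfl, rfl, one_smul _ _, by rw [one_smul, e1, e2]⟩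

/-- The two-point stabiliser acts on the 176 octads through the first point avoiding the second with rank 3 and subdegrees 1, 70, 105 (intersections 8, 2, 4). -/
theorem result (p q : Cfsg.GolayPt) (hpq : p ≠ q) : {x : Finset Cfsg.GolayPt | (x ∈ Cfsg.octads ∧ p ∈ x ∧ q ∉ x)}.ncard = 176 ∧ (∀ o o' : Finset Cfsg.GolayPt, (o ∈ Cfsg.octads ∧ p ∈ o ∧ q ∉ o) → (o' ∈ Cfsg.octads ∧ p ∈ o' ∧ q ∉ o') → ∃ g : Equiv.Perm Cfsg.GolayPt, g ∈ Cfsg.M24 ∧ g p = p ∧ g q = q ∧ g • o = o') ∧ ∀ o : Finset Cfsg.GolayPt, (o ∈ Cfsg.octads ∧ p ∈ o ∧ q ∉ o) → {x : Finset Cfsg.GolayPt | (x ∈ Cfsg.octads ∧ p ∈ x ∧ q ∉ x) ∧ (o ∩ x).card = 2}.ncard = 70 ∧ {x : Finset Cfsg.GolayPt | (x ∈ Cfsg.octads ∧ p ∈ x ∧ q ∉ x) ∧ (o ∩ x).card = 4}.ncard = 105 ∧ ∀ o' o'' : Finset Cfsg.GolayPt, (o' ∈ Cfsg.octads ∧ p ∈ o' ∧ q ∉ o') → (o'' ∈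 Cfsg.octads ∧ p ∈ o'' ∧ q ∉ o'') → (o ∩ o').card = (o ∩ o'').card → ∃ g : Equiv.Perm Cfsg.GolayPt, g ∈ Cfsg.M24 ∧ g p = p ∧ g q = q ∧ g • o = o ∧ g • o' = o'' := by
  refine ⟨?_, ?_, ?_⟩
  · obtain ⟨g, hg, rfl, rfl⟩ := two_trans p q hpq
    rw [ncard_smul_transport g (fun x => x ∈ octads ∧ (pt 0 ∈ x ∧ pt 23 ∉ x))
      (fun x => (x ∈ octads ∧ g (pt 0) ∈ x ∧ g (pt 23) ∉ x))
      (by intro o'; rw [smul_mem_octads_iff hg, apply_mem_smul_iff, apply_mem_smul_iff])]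
    exact base_count176
  · rintro o o' ⟨ho, hpo, hqo⟩ ⟨ho', hpo', hqo'⟩
    obtain ⟨g, hg, rfl, rfl, rfl⟩ := config_trans p q hpq o ho hpo hqo
    have hgi := M24.inv_mem hg
    obtain ⟨k, hk, hko⟩ := base_transM (g⁻¹ • o') ((smul_mem_octads_iff hgi o').mpr ho')
      (by rw [← apply_mem_smul_iff g, smul_inv_smul]; exact hpo')
      (by rw [← apply_mem_smul_iff g, smul_inv_smul]; exact hqo')
    refine ⟨g * k * g⁻¹, M24.mul_mem (M24.mul_mem hg hk.1) hgi, ?_, ?_, ?_⟩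
    · simp [Equiv.Perm.mul_apply, hk.2.1 0 (by simp)]
    · simp [Equiv.Perm.mul_apply, hk.2.1 23 (by simp)]
    · rw [mul_smul, mul_smul, inv_smul_smul, hko, smul_inv_smul]
  · rintro o ⟨ho, hpo, hqo⟩
    obtain ⟨g, hg, rfl, rfl, rfl⟩ := config_trans p q hpq o ho hpo hqo
    refine ⟨?_, ?_, ?_⟩
    · rw [ncard_smul_transport g (fun x => x ∈ octads ∧ ((pt 0 ∈ x ∧ pt 23 ∉ x) ∧ (dec oB ∩ x).card = 2))
        (fun x => (x ∈ octads ∧ g (pt 0) ∈ x ∧ g (pt 23) ∉ x) ∧ (g • dec oB ∩ x).card = 2)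
        (by intro o'; rw [smul_mem_octads_iff hg, apply_mem_smul_iff, apply_mem_smul_iff, smul_inter_card]; exact and_assoc)]
      exact base_count 2 _ len2
    · rw [ncard_smul_transport g (fun x => x ∈ octads ∧ ((pt 0 ∈ x ∧ pt 23 ∉ x) ∧ (dec oB ∩ x).card = 4))
        (fun x => (x ∈ octads ∧ g (pt 0) ∈ x ∧ g (pt 23) ∉ x) ∧ (g • dec oB ∩ x).card = 4)
        (by intro o'; rw [smul_mem_octads_iff hg, apply_mem_smul_iff, apply_mem_smul_iff, smul_inter_card]; exact and_assoc)]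
      exact base_count 4 _ len4
    · rintro o' o'' ⟨ho', hpo', hqo'⟩ ⟨ho'', hpo'', hqo''⟩ hc
      have hgi := M24.inv_mem hg
      obtain ⟨k, hk, hk0, hk23, hko, hkk⟩ := base_trans (g⁻¹ • o') (g⁻¹ • o'')
        ((smul_mem_octads_iff hgi o').mpr ho') ((smul_mem_octads_iff hgi o'').mpr ho'')
        (by rw [← apply_mem_smul_iff g, smul_inv_smul]; exact hpo')
        (by rw [← apply_mem_smul_iff g, smul_inv_smul]; exact hpo'')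
        (by rw [← apply_mem_smul_iff g, smul_inv_smul]; exact hqo')
        (by rw [← apply_mem_smul_iff g, smul_inv_smul]; exact hqo'')
        (by rw [← smul_inter_card g, ← smul_inter_card g (dec oB), smul_inv_smul, smul_inv_smul]; exact hc)
      refine ⟨g * k * g⁻¹, M24.mul_mem (M24.mul_mem hg hk) hgi, ?_, ?_, ?_, ?_⟩
      · simp [Equiv.Perm.mul_apply, hk0]
      · simp [Equiv.Perm.mul_apply, hk23]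
      · rw [mul_smul, mul_smul, inv_smul_smul, hko]
      · rw [mul_smul, mul_smul, hkk, smul_inv_smul]

end Cfsg.Agent.S1605
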