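import Cfsg.Statements.S1606
import Cfsg.Agent.S0378
import Cfsg.Agent.S0379
import Cfsg.Agent.Lib.Helper7.M22Ord11

set_option autoImplicit false
open scoped Pointwise
open Cfsg

namespace Cfsg.Agent.S1606

open Cfsg.Agent.Lib.Helper7

/-- The stabiliser of two points in the group of the length-24 code has no subgroups of index 56 or 210. -/
theorem result (p q : Cfsg.GolayPt) (hpq : p ≠ q) (H : Subgroup ↥(MulAction.stabilizer Cfsg.M24 p ⊓ MulAction.stabilizer Cfsg.M24 q)) : H.index ≠ 56 ∧ H.index ≠ 210 := by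
  have hcard : Nat.card ↥(MulAction.stabilizer Cfsg.M24 p ⊓ MulAction.stabilizer Cfsg.M24 q) = 443520 :=
    Cfsg.Agent.S0378.result p q hpq
  have hsimple : IsSimpleGroup ↥(MulAction.stabilizer Cfsg.M24 p ⊓ MulAction.stabilizer Cfsg.M24 q) :=
    Cfsg.Agent.S0379.result p q hpq
  have : Finite ↥(MulAction.stabilizer Cfsg.M24 p ⊓ MulAction.stabilizer Cfsg.M24 q) :=
    Nat.finite_of_card_ne_zero (by rw [hcard]; norm_num)
  -- the embedding into the permutations of the 24 points
  let ι : ↥(MulAction.stabilizer Cfsg.M24 p ⊓ MulAction.stabilizer Cfsg.M24 q) →*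
      Equiv.Perm GolayPt :=
    M24.subtype.comp (MulAction.stabilizer Cfsg.M24 p ⊓ MulAction.stabilizer Cfsg.M24 q).subtype
  have hι : Function.Injective ι := by
    intro x y hxy
    exact Subtype.ext (Subtype.ext hxy)
  have hK : Nat.card ↥(H.map ι) = Nat.card ↥H := Subgroup.card_map_of_injective hι
  -- all elements are even
  have hsgn : ∀ x : ↥(MulAction.stabilizer Cfsg.M24 p ⊓ MulAction.stabilizer Cfsg.M24 q),
      Equiv.Perm.sign (ι x) = 1 := by
    let ψ := Equiv.Perm.sign.comp ι
    rcases hsimple.eq_bot_or_eq_top_of_normal ψ.ker (MonoidHom.normal_ker ψ) with hb | ht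
    · exfalso
      have hinj : Function.Injective ψ := (MonoidHom.ker_eq_bot_iff ψ).1 hb
      have hle := Nat.card_le_card_of_injective ψ hinj
      rw [hcard, Nat.card_eq_fintype_card, Fintype.card_units_int] at hle
      omega
    · intro x
      have : x ∈ ψ.ker := by
        rw [ht]
        exact Subgroup.mem_top x
      exact MonoidHom.mem_ker.1 this
  have hfix : Fix2 p q (H.map ι) := by
    refine ⟨hpq, ?_, ?_, ?_⟩
    · rintro σ ⟨x, -, rfl⟩
      exact x.1.2
    · rintro σ ⟨x, -, rfl⟩
      have h1 : x.1 ∈ MulAction.stabilizer Cfsg.M24 p := x.2.1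
      rw [MulAction.mem_stabilizer_iff] at h1
      exact h1
    · rintro σ ⟨x, -, rfl⟩
      have h1 : x.1 ∈ MulAction.stabilizer Cfsg.M24 q := x.2.2
      rw [MulAction.mem_stabilizer_iff] at h1
      exact h1
  have hsign : ∀ σ ∈ H.map ι, Equiv.Perm.sign σ = 1 := by
    rintro σ ⟨x, -, rfl⟩
    exact hsgn x
  have hmul := Subgroup.card_mul_index H
  rw [hcard] at hmul
  constructor
  · intro h56
    apply hfix.card_ne_7920
    rw [hK]
    rw [h56] at hmul
    omega
  · intro h210
    apply hfix.card_ne_2112 hsign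
    rw [hK]
    rw [h210] at hmul
    omega

end Cfsg.Agent.S1606
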