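import Cfsg.Statements.S1608
import Cfsg.Agent.Lib.Helper27.GolayRank

set_option autoImplicit false
open scoped Pointwise
open Cfsg

namespace Cfsg.Agent.S1608

open Cfsg.Agent.Lib.Helper26 Cfsg.Agent.Lib.Helper27

def gA : List PermData := [⟨[12, 6, 3, 21, 9, 11, 15, 7, 10, 20, 13, 5, 0, 8, 16, 4, 23, 14, 17, 19, 1, 2, 18, 22], [12, 20, 21, 2, 15, 11, 1, 7, 13, 4, 8, 5, 0, 10, 17, 6, 14, 18, 22, 19, 9, 3, 23, 16]⟩,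
  ⟨[22, 11, 20, 15, 8, 5, 10, 1, 7, 6, 13, 3, 0, 19, 16, 9, 17, 14, 12, 2, 21, 4, 23, 18], [12, 7, 19, 11, 21, 5, 9, 8, 4, 15, 6, 1, 18, 10, 17, 3, 14, 16, 23, 13, 2, 20, 0, 22]⟩,
  ⟨[12, 20, 21, 2, 15, 11, 1, 7, 13, 4, 8, 5, 0, 10, 17, 6, 14, 18, 22, 19, 9, 3, 23, 16], [12, 6, 3, 21, 9, 11, 15, 7, 10, 20, 13, 5, 0, 8, 16, 4, 23, 14, 17, 19, 1, 2, 18, 22]⟩,
  ⟨[12, 7, 19, 11, 21, 5, 9, 8, 4, 15, 6, 1, 18, 10, 17, 3, 14, 16, 23, 13, 2, 20, 0, 22], [22, 11, 20, 15, 8, 5, 10, 1, 7, 6, 13, 3, 0, 19, 16, 9, 17, 14, 12, 2, 21, 4, 23, 18]⟩]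

def gB : List PermData := [⟨[23, 1, 4, 6, 15, 9, 13, 3, 11, 19, 2, 5, 18, 20, 12, 8, 22, 0, 16, 21, 10, 7, 14, 17], [17, 1, 10, 7, 2, 11, 3, 21, 15, 5, 20, 8, 14, 6, 22, 4, 18, 23, 12, 9, 13, 19, 16, 0]⟩,
  ⟨[14, 1, 13, 19, 2, 15, 9, 11, 20, 21, 10, 7, 0, 4, 22, 3, 17, 16, 23, 8, 5, 6, 18, 12], [12, 1, 4, 15, 13, 20, 21, 11, 19, 6, 10, 7, 23, 2, 0, 5, 17, 16, 22, 3, 8, 9, 14, 18]⟩,
  ⟨[17, 1, 10, 7, 2, 11, 3, 21, 15, 5, 20, 8, 14, 6, 22, 4, 18, 23, 12, 9, 13, 19, 16, 0], [23, 1, 4, 6, 15, 9, 13, 3, 11, 19, 2, 5, 18, 20, 12, 8, 22, 0, 16, 21, 10, 7, 14, 17]⟩,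
  ⟨[12, 1, 4, 15, 13, 20, 21, 11, 19, 6, 10, 7, 23, 2, 0, 5, 17, 16, 22, 3, 8, 9, 14, 18], [14, 1, 13, 19, 2, 15, 9, 11, 20, 21, 10, 7, 0, 4, 22, 3, 17, 16, 23, 8, 5, 6, 18, 12]⟩]

def ptT : List ℕ := [2, 4, 8, 16, 32, 64, 128, 256, 512, 1024, 2048, 8192, 32768, 524288, 1048576, 2097152]

def ptW : List (List ℕ) := [[], [3, 2], [1, 1], [0, 0, 0], [0, 1], [0], [3], [3, 3], [3, 0], [1, 0], [1], [0, 1, 0], [0, 0], [3, 3, 2], [2], [1, 2]]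

def c0 : ℕ := 2654580

def w0 : List (List ℕ) := [[], [3], [1], [2, 1], [1, 2], [0, 3], [2, 2], [1, 0], [0, 0], [3, 0], [0], [0, 0, 1], [0, 1], [2], [0, 0, 0]]

def c2 : ℕ := 12222476

def w2 : List (List ℕ) := [[], [1, 2, 1, 1], [2, 3, 2, 2], [3, 2, 3, 2, 2], [3, 3, 0, 0, 1, 0], [0, 0, 3, 3, 0], [1, 1, 1, 0, 0, 0], [0, 3, 3, 0], [3, 3], [0, 1, 0, 0], [1, 0, 0, 1, 0], [0, 3, 2], [2, 2, 3, 2], [1, 2, 2, 3, 0], [2, 1, 0, 3], [0, 3, 0], [1, 0, 1, 0, 1, 0], [1, 0, 1, 0, 3, 0], [1, 2, 1, 2, 1, 0], [2, 1, 1, 2, 2], [3, 2, 3, 3], [2, 2, 1, 1, 2], [0, 0, 0, 3, 0], [2, 2, 2, 3, 2], [3, 2, 2, 3, 0], [3, 0, 3], [3, 0, 1, 0, 0, 1], [3, 0, 0, 0], [3, 0, 3, 2], [1, 2, 3, 2, 2], [2, 1, 1, 1, 0], [0, 0, 0, 0, 0], [1, 1, 0, 0, 0], [1, 1, 1], [1, 0, 0, 0, 0, 0], [3, 2, 3, 0], [2, 2,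 2, 1, 0], [1], [0, 0, 0], [2, 1, 2, 1, 1, 1], [1, 2, 2, 1, 1, 0], [0, 3, 2, 3, 3], [0, 3, 3, 2], [0, 1, 1, 1, 0], [0, 1, 1, 0, 1], [2, 2, 1], [3, 3, 0, 3, 0], [1, 2, 3, 2, 1], [0, 1, 2, 2, 3, 0], [1, 0, 0, 3], [3, 2, 1, 2, 1, 0], [2, 2, 3, 3], [3, 2, 2, 2, 1, 0], [0, 0, 1, 0], [1, 0, 0, 0], [2, 1, 1], [0, 3, 0, 1, 1], [2, 3, 0, 0, 0], [1, 2, 2, 2, 1, 0], [1, 1, 2, 2], [1, 2, 2], [2, 2], [1, 0, 1, 0, 0], [2, 2, 3, 0, 0, 0], [0, 1, 0, 0, 0, 1], [0, 1, 0, 1], [0, 1, 1, 0], [1, 2, 3, 3], [1, 1, 0, 3, 0], [0, 3, 0, 0, 0, 0], [3, 0, 1, 1, 0, 0], [2, 3, 3, 2, 3, 0], [0, 3, 0, 3], [1, 2, 3, 2, 3], [0, 1, 2, 2, 1, 2], [0, 0, 1, 1, 2, 1], [1, 0, 1], [3, 3, 2, 3, 0], [1, 1], [1, 0, 3, 3, 0], [1, 2, 3, 0, 0, 0], [1, 2, 3, 0], [0, 0, 3, 0, 3, 0], [3, 3, 0, 0, 0], [3], [3, 3, 2,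 2], [3, 2, 2], [2, 3, 0], [3, 0, 0, 1, 0], [0, 1, 2, 2], [2, 2, 3, 2, 1], [1, 0, 3], [2, 1, 2, 1], [0, 3, 2, 1], [3, 0, 1], [1, 2, 1, 1, 0], [3, 3, 2, 1, 2], [3, 0, 3, 2, 2, 2], [2, 3, 3, 2], [3, 0, 1, 0], [2, 3, 0, 1], [1, 2, 1, 0], [0, 1, 0], [1, 2, 2, 1, 2], [2, 3, 0, 3, 2], [2, 1, 1, 2], [3, 3, 0, 1, 0, 0, 0], [2, 1, 0, 1, 0], [0, 0, 1, 1, 0], [1, 0, 0, 0, 1], [1, 0, 3, 3], [3, 2, 2, 2], [3, 2, 2, 1, 1], [3, 3, 2], [1, 0, 1, 0, 0, 3], [0, 0, 1], [3, 0, 1, 0, 0, 3], [2, 3, 3, 0], [1, 1, 2], [0, 0, 0, 0, 1], [3, 0, 0, 0, 0], [2, 1, 2], [1, 0, 1, 0], [0, 3, 2, 2, 1], [2, 1, 0], [1, 1, 2, 1, 0], [0, 1, 2, 2, 1], [3, 2, 1, 2], [2, 3, 3, 2, 3], [1, 0, 1, 0, 0, 0], [1, 2, 3, 0, 1], [0, 3, 2, 2, 2], [3, 0, 3, 2, 3], [3, 2, 2, 1, 2], [2, 3, 0, 0, 1], [1, 2, 2, 2], [1, 1,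 2, 3, 2], [2, 3, 2], [0], [0, 3, 3, 0, 3], [2, 2, 3, 3, 2], [3, 0, 0, 1, 1, 0], [0, 0, 0, 1], [2, 2, 1, 2], [0, 1, 2, 3, 2], [0, 3, 2, 3], [1, 2, 1, 0, 1, 0], [2, 2, 2, 3, 2, 1], [3, 0, 1, 0, 0, 0], [2, 2, 3, 0, 3, 2], [2, 2, 2, 3, 3, 2], [1, 1, 0, 3, 3], [1, 2, 1, 1, 2], [1, 2, 2, 1, 1], [2], [0, 0, 3, 0], [1, 1, 0], [3, 0, 1, 1], [3, 3, 0], [0, 3, 3], [2, 1, 1, 0, 0], [2, 1, 0, 0, 3, 0], [0, 1, 0, 0, 0], [2, 1, 2, 2, 1], [3, 0, 3, 3], [3, 0, 0, 0, 1], [1, 0, 3, 0, 3, 0], [0, 0, 1, 0, 0], [1, 0, 3, 3, 2], [1, 0, 3, 2, 1], [0, 3, 0, 3, 3], [1, 0, 1, 1, 1, 0], [2, 1, 0, 1], [2, 1, 2, 3, 0], [3, 0, 1, 1, 1, 0], [0, 1, 1, 0, 0], [1, 2, 2, 1], [0, 0, 3, 2, 2, 2], [2, 1, 1, 0], [0, 1, 2, 2, 2, 1], [3, 0, 1, 0, 1], [0, 3, 0, 1, 2, 2], [2, 1, 2, 2], [2, 2, 3, 3, 0], [2, 2,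 2, 1], [0, 0], [1, 0, 0], [0, 1, 1, 2, 1], [3, 2, 3], [2, 3], [2, 2, 1, 0], [2, 1, 1, 0, 0, 0], [3, 2, 1], [0, 3, 0, 0, 0, 1], [0, 3, 3, 0, 3, 0], [0, 1, 2, 2, 2], [0, 1, 0, 1, 0], [2, 3, 2, 1], [0, 0, 3], [1, 0, 1, 2, 2], [1, 2, 1, 2, 1], [2, 3, 2, 3], [3, 0, 1, 2, 2], [3, 0, 1, 1, 0], [1, 0, 3, 0], [2, 1, 1, 1, 2], [3, 3, 2, 3], [1, 1, 0, 0], [0, 0, 1, 1], [1, 1, 2, 1], [1, 2, 2, 2, 1], [2, 2, 2, 3, 0], [3, 2, 2, 1], [3, 3, 0, 3], [3, 2, 2, 2, 3, 2], [2, 1, 2, 1, 0], [2, 2, 1, 2, 1], [2, 2, 3, 0], [1, 1, 0, 0, 3], [3, 3, 2, 3, 3], [0, 1], [1, 1, 0, 1], [3, 2, 1, 2, 1], [3, 3, 0, 1], [2, 3, 3], [2, 3, 2, 1, 2], [1, 2, 1], [2, 2, 3, 0, 1], [3, 3, 2, 1], [1, 2, 2, 1, 0], [2, 1], [2, 2, 1, 1, 0], [3, 0, 3, 0], [0, 1, 0, 3, 0], [0, 1, 0, 0, 1], [0, 0, 1, 0, 0, 1], [0,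 3], [0, 1, 1, 2, 1, 0], [2, 2, 1, 2, 2], [2, 2, 2, 2], [0, 0, 1, 2, 2], [2, 3, 2, 2, 3, 0], [2, 2, 2], [0, 3, 3, 2, 3], [1, 0, 0, 3, 0], [3, 3, 0, 1, 1], [3, 2], [1, 1, 1, 0], [0, 3, 0, 3, 0], [2, 2, 1, 1], [2, 1, 1, 1], [0, 0, 3, 3], [3, 0, 1, 0, 3], [0, 3, 0, 3, 2], [2, 3, 2, 3, 2, 2], [3, 2, 1, 1, 1], [0, 3, 2, 3, 0], [0, 1, 0, 3], [1, 0, 3, 0, 0, 0], [0, 1, 1], [0, 1, 0, 0, 3], [3, 0, 0, 1], [1, 2], [0, 3, 2, 3, 3, 0], [1, 0, 0, 1], [0, 3, 0, 0, 0], [1, 2, 1, 1, 1], [1, 0, 0, 3, 3], [3, 0], [0, 0, 0, 0, 0, 0], [1, 2, 3, 2], [1, 1, 1, 2], [0, 0, 0, 0], [1, 0], [1, 0, 1, 1, 1], [2, 3, 3, 0, 0, 0], [0, 1, 1, 1], [3, 2, 3, 3, 0], [1, 0, 0, 0, 0, 1], [0, 1, 2, 3, 0]]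

def c4 : ℕ := 13938692

def w4 : List (List ℕ) := [[], [0, 1, 1, 1, 2], [2, 2, 2, 2, 2], [2, 2, 1, 0, 0], [0, 1, 0, 3, 3, 0], [3, 3], [2, 3, 2, 2], [1, 1], [2, 2, 1, 1, 1], [0, 3, 3, 0, 3, 2], [1, 0, 1, 1, 0], [2, 2, 3, 3, 0], [0, 1, 1, 0, 0], [0, 1, 2, 2, 2], [0, 1, 2, 1], [0, 3, 3, 2, 1], [1, 2, 2, 3, 2], [1, 0, 1, 0, 3, 0], [3, 2, 3, 2, 2], [1], [0, 3, 2, 3, 2, 1], [1, 1, 0, 1], [2, 2, 2, 1, 0], [1, 0, 1, 1, 0, 0], [2, 2], [0, 1, 0, 0], [3, 2, 3, 3], [0, 3, 3, 0], [2, 1, 2, 3, 3], [2, 3, 0, 3, 3, 0], [3, 0, 3, 0, 0], [1, 2, 2, 3, 3, 0], [2, 3, 2, 3, 2], [2, 2, 2, 1], [3, 3, 0, 3, 2], [2, 2, 2, 1, 1, 1], [1, 1, 1, 0, 3, 0], [1, 0, 3], [0, 0, 3, 3, 0], [1, 1, 0, 3, 2], [0, 1, 1, 2], [0, 3, 2], [0, 3, 2, 1], [0, 1, 1, 2, 1], [2, 1, 0, 0], [2, 2, 2, 2], [3, 0, 3, 0,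 3, 3], [0, 1, 0, 3], [1, 0, 3, 0], [3, 0, 3], [3, 2, 2, 1, 0], [2, 3, 2, 1], [0, 0, 0, 3, 3, 0], [1, 0, 0, 3], [1, 2, 3, 2, 2], [1, 1, 1], [0, 1, 1], [3, 2, 2], [0, 1, 1, 0, 3, 0], [0, 0, 3], [3], [0, 3, 2, 2, 2], [1, 2, 3, 2, 1], [2, 2, 1, 0], [2, 3, 0, 3, 2], [0, 1, 1, 1, 0], [3, 0, 1, 1, 0], [0, 0, 3, 0, 0], [3, 0, 1], [2, 3, 3, 2, 1], [2, 3, 2, 1, 0, 1], [3, 2, 1, 1, 0], [2, 2, 1, 0, 3, 0], [1, 2, 3, 0, 1], [2, 1, 2, 1, 1, 1], [3, 3, 0, 3, 2, 1], [3, 3, 0, 1], [0, 3, 3, 2, 2], [0, 1, 0, 3, 0], [2, 2, 3, 2], [2, 3, 0, 1, 1, 0], [0, 3, 0, 0], [3, 0, 3, 3, 0], [1, 2, 3, 3], [2, 1, 1, 0, 1], [3, 2, 3, 2, 1], [1, 2, 2], [3, 3, 2, 2], [1, 0, 1], [0, 3, 0, 0, 1, 1], [2, 3, 2, 2, 1], [1, 2, 2, 1, 0], [0, 1], [1, 2, 3, 3, 2, 1], [2, 3, 3], [1, 0, 3, 3, 0], [3, 2, 3, 0,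 3], [1, 2, 1, 2, 2], [0, 1, 2, 3, 3, 0], [1, 2, 1, 1, 0], [1, 2, 3, 0, 3], [0, 1, 0, 1], [0, 3, 0, 3, 0, 0], [1, 2, 1, 2, 3, 3], [2, 1, 2, 2, 2], [0, 1, 1, 0], [2, 1, 1, 0, 3], [1, 1, 1, 0, 1], [1, 1, 1, 0, 3], [3, 0, 3, 0], [0, 3, 3], [1, 1, 2, 3, 2], [1, 1, 2], [3, 2], [3, 3, 0], [2, 3, 2, 3, 3], [0, 0, 1, 1, 2], [1, 1, 1, 0], [1, 1, 0], [1, 2, 3, 3, 2], [1, 0], [2, 3, 3, 2], [1, 2, 2, 1], [2, 3, 2], [1, 1, 1, 2], [2], [2, 2, 3, 3], [1, 0, 3, 3], [2, 1, 0, 3], [0, 3, 3, 0, 1], [2, 2, 2], [1, 0, 0], [3, 0, 0], [3, 3, 2, 2, 2], [2, 1, 1, 1], [1, 1, 2, 3, 3, 0], [2, 3, 3, 0, 3], [3, 0], [2, 2, 1], [3, 2, 3, 2], [0], [2, 3, 2, 2, 2], [3, 2, 1, 0], [1, 1, 2, 2, 2], [2, 2, 3, 2, 1], [3, 2, 2, 1], [3, 3, 2], [1, 2], [0, 0, 1, 2, 1], [1, 0, 0, 1, 2, 1], [2, 3, 3, 0], [0,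 1, 0, 1, 1, 0], [1, 2, 3, 2], [3, 0, 3, 3], [0, 0, 0, 3, 0, 0], [3, 0, 1, 0, 3], [3, 3, 0, 3], [0, 3, 0], [2, 3, 0, 1], [1, 0, 1, 1, 2, 1], [1, 0, 0, 3, 3, 0], [0, 3, 2, 1, 0], [3, 0, 3, 2, 1], [2, 3, 0, 3, 3], [1, 0, 3, 2], [1, 0, 1, 1, 2], [1, 1, 0, 3], [3, 3, 0, 3, 0], [2, 1, 0, 3, 0], [2, 3, 0, 3], [2, 1, 1, 0], [0, 1, 2, 3, 2, 2], [1, 0, 0, 1, 1], [3, 2, 1, 0, 1], [1, 1, 2, 1], [3, 2, 1], [3, 0, 0, 1, 1], [2, 1, 0, 1], [1, 1, 1, 2, 1], [2, 1], [2, 3, 2, 1, 1, 1], [2, 1, 2, 3, 3, 0], [3, 0, 3, 2], [3, 0, 1, 1, 2], [1, 2, 2, 2, 1], [0, 0, 0, 1, 1], [0, 3, 2, 2], [0, 0, 1, 1], [0, 1, 2, 3, 2], [0, 3, 0, 3, 3], [0, 3], [1, 1, 0, 3, 0], [1, 2, 2, 2, 2], [2, 1, 2, 2], [3, 3, 2, 1], [1, 2, 1], [0, 0, 0, 3], [2, 2, 1, 0, 1], [2, 2, 3, 3, 2], [2, 1, 0], [3, 2, 2, 2], [0,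 0], [1, 1, 0, 0], [1, 2, 2, 2], [1, 2, 3, 3, 0], [3, 2, 1, 1, 1], [0, 1, 0, 0, 3], [3, 2, 3, 3, 0], [1, 2, 1, 1, 1], [3, 0, 3, 3, 0, 1]]

def fn (n : ℕ) (c : ℕ) : Bool := !c.testBit 1 && (pc 24 (oct0 &&& c) == n)

theorem gA_ok : gA.all (fun d => inStabK d [] [oct0]) = true := by decide +kernel
theorem gB_ok : gB.all (fun d => inStabK d [1] [oct0]) = true := by decide +kernel
theorem pt_paths : checkPaths gA (2 ^ 1) ptT ptW = true := by decide +kernel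
theorem paths0 : checkPaths gB c0 (octL.filter (fn 0)) w0 = true := by decide +kernel
theorem paths2 : checkPaths gB c2 (octL.filter (fn 2)) w2 = true := by decide +kernel
theorem paths4 : checkPaths gB c4 (octL.filter (fn 4)) w4 = true := by decide +kernel
theorem len0 : (octL.filter (fn 0)).length = 15 := by decide +kernel
theorem len2 : (octL.filter (fn 2)).length = 280 := by decide +kernel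
theorem len4 : (octL.filter (fn 4)).length = 210 := by decide +kernel
theorem ptT_ok : ∀ i, i < 24 → oct0.testBit i = false → 2 ^ i ∈ ptT := by decide +kernel

theorem hP (n : ℕ) : ∀ c ∈ octL, (pt 1 ∉ dec c ∧ (dec oct0 ∩ dec c).card = n) ↔
    fn n c = true := by
  intro c _
  rw [pt_mem_dec_iff 1 (by norm_num), card_dec_inter, fn, Bool.and_eq_true, beq_iff_eq]
  simp

theorem flag_trans (x : GolayPt) (o : Finset GolayPt) (ho : o ∈ octads) (hx : x ∉ o) :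
    ∃ g ∈ M24, g • dec oct0 = o ∧ g (pt 1) = x := by
  obtain ⟨g1, hg1, rfl⟩ := octads_transitive o ho
  have hy : g1⁻¹ x ∉ dec oct0 := by
    rw [← apply_mem_smul_iff g1]
    simpa using hx
  obtain ⟨h, hh, hh2⟩ := point_orbit_compl (K := stabK [] [oct0]) (j₀ := 1) (by norm_num)
    (stabK_orbit_cert gA [] [oct0] gA_ok (2 ^ 1) ptT ptW pt_paths) ptT_ok _ hy
  refine ⟨g1 * h, M24.mul_mem hg1 hh.1, ?_, ?_⟩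
  · rw [mul_smul, hh.2.2 oct0 (by simp)]
  · rw [Equiv.Perm.mul_apply, hh2]; simp

theorem base_count (n k : ℕ) (hk : (octL.filter (fn n)).length = k) :
    {o' : Finset GolayPt | o' ∈ octads ∧ (pt 1 ∉ o' ∧ (dec oct0 ∩ o').card = n)}.ncard = k := by
  rw [ncard_octads_filter _ (fn n) (hP n), hk]

theorem pt1_not_mem : pt 1 ∉ dec oct0 := by
  rw [pt_mem_dec_iff 1 (by norm_num)]; decide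

theorem base_trans (o' o'' : Finset GolayPt) (ho' : o' ∈ octads) (ho'' : o'' ∈ octads)
    (hx' : pt 1 ∉ o') (hx'' : pt 1 ∉ o'') (hc : (dec oct0 ∩ o').card = (dec oct0 ∩ o'').card) :
    ∃ g : Equiv.Perm GolayPt, g ∈ M24 ∧ g (pt 1) = pt 1 ∧ g • dec oct0 = dec oct0 ∧ g • o' = o'' := by
  have key : ∀ (c₀ : ℕ) (ws : List (List ℕ)) (n : ℕ),
      checkPaths gB c₀ (octL.filter (fn n)) ws = true → (dec oct0 ∩ o').card = n →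
      ∃ g : Equiv.Perm GolayPt, g ∈ M24 ∧ g (pt 1) = pt 1 ∧ g • dec oct0 = dec oct0 ∧ g • o' = o'' := by
    intro c₀ ws n hpaths hn
    obtain ⟨a, ha, rfl⟩ := mem_octL_filter (P := fun o => pt 1 ∉ o ∧ (dec oct0 ∩ o).card = n) (hP n) ho' ⟨hx', hn⟩
    obtain ⟨b, hb, rfl⟩ := mem_octL_filter (P := fun o => pt 1 ∉ o ∧ (dec oct0 ∩ o).card = n) (hP n) ho'' ⟨hx'', by rw [← hc, hn]⟩
    obtain ⟨g, hg, hgab⟩ := orbit_pairs (stabK_orbit_cert gB [1] [oct0] gB_ok c₀ _ ws hpaths) a ha b hb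
    exact ⟨g, hg.1, hg.2.1 1 (by simp), hg.2.2 oct0 (by simp), hgab⟩
  rcases octad_inter_card _ _ oct0_mem ho' with h | h | h | h
  · exact key c0 w0 0 paths0 h
  · exact key c2 w2 2 paths2 h
  · exact key c4 w4 4 paths4 h
  · have e1 := octad_eq_of_inter_card oct0_mem ho' h
    have e2 := octad_eq_of_inter_card oct0_mem ho'' (by rw [← hc, h])
    exact ⟨1, M24.one_mem, rfl, one_smul _ _, by rw [one_smul, e1, e2]⟩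

/-- The point stabiliser acts on the 506 octads avoiding the point with rank 4 and subdegrees 1, 15, 210, 280, the suborbits being given by intersection size with the fixed octad. -/
theorem result (x : Cfsg.GolayPt) (o : Finset Cfsg.GolayPt) (ho : o ∈ Cfsg.octads) (hx : x ∉ o) : {o' : Finset Cfsg.GolayPt | o' ∈ Cfsg.octads ∧ x ∉ o' ∧ (o ∩ o').card = 0}.ncard = 15 ∧ {o' : Finset Cfsg.GolayPt | o' ∈ Cfsg.octads ∧ x ∉ o' ∧ (o ∩ o').card = 4}.ncard = 210 ∧ {o' : Finset Cfsg.GolayPt | o' ∈ Cfsg.octads ∧ x ∉ o' ∧ (o ∩ o').card = 2}.ncard = 280 ∧ ∀ o' o'' : Finset Cfsg.GolayPt, o' ∈ Cfsg.octads → o'' ∈ Cfsg.octads → x ∉ o' → x ∉ o'' → (o ∩ o').card = (o ∩ o'').card → ∃ g : Equiv.Perm Cfsg.GolayPt, g ∈ Cfsg.M24 ∧ g x = x ∧ g • o = o ∧ g • o' = o'' := by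
  obtain ⟨g, hg, rfl, rfl⟩ := flag_trans x o ho hx
  refine ⟨?_, ?_, ?_, ?_⟩
  · rw [ncard_smul_transport g (fun o' => o' ∈ octads ∧ (pt 1 ∉ o' ∧ (dec oct0 ∩ o').card = 0))
      (fun o' => o' ∈ octads ∧ g (pt 1) ∉ o' ∧ (g • dec oct0 ∩ o').card = 0)
      (by intro o'; rw [smul_mem_octads_iff hg, apply_mem_smul_iff, smul_inter_card])]
    exact base_count 0 _ len0
  · rw [ncard_smul_transport g (fun o' => o' ∈ octads ∧ (pt 1 ∉ o' ∧ (dec oct0 ∩ o').card = 4))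
      (fun o' => o' ∈ octads ∧ g (pt 1) ∉ o' ∧ (g • dec oct0 ∩ o').card = 4)
      (by intro o'; rw [smul_mem_octads_iff hg, apply_mem_smul_iff, smul_inter_card])]
    exact base_count 4 _ len4
  · rw [ncard_smul_transport g (fun o' => o' ∈ octads ∧ (pt 1 ∉ o' ∧ (dec oct0 ∩ o').card = 2))
      (fun o' => o' ∈ octads ∧ g (pt 1) ∉ o' ∧ (g • dec oct0 ∩ o').card = 2)
      (by intro o'; rw [smul_mem_octads_iff hg, apply_mem_smul_iff, smul_inter_card])]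
    exact base_count 2 _ len2
  · intro o' o'' ho' ho'' hx' hx'' hc
    have hgi := M24.inv_mem hg
    obtain ⟨k, hk, hk0, hko, hkk⟩ := base_trans (g⁻¹ • o') (g⁻¹ • o'')
      ((smul_mem_octads_iff hgi o').mpr ho') ((smul_mem_octads_iff hgi o'').mpr ho'')
      (by rw [← apply_mem_smul_iff g, smul_inv_smul]; exact hx')
      (by rw [← apply_mem_smul_iff g, smul_inv_smul]; exact hx'')
      (by rw [← smul_inter_card g, ← smul_inter_card g (dec oct0), smul_inv_smul, smul_inv_smul]; exact hc)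
    refine ⟨g * k * g⁻¹, M24.mul_mem (M24.mul_mem hg hk) hgi, ?_, ?_, ?_⟩
    · simp [Equiv.Perm.mul_apply, hk0]
    · rw [mul_smul, mul_smul, inv_smul_smul, hko]
    · rw [mul_smul, mul_smul, hkk, smul_inv_smul]

end Cfsg.Agent.S1608
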