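import Cfsg.Statements.S1609
import Cfsg.Agent.S0376
import Cfsg.Agent.Lib.Helper7.M23Shape

set_option autoImplicit false
open scoped Pointwise
open Cfsg

namespace Cfsg.Agent.S1609

open Cfsg.Agent.Lib.Helper7

/-- a subgroup of the point stabiliser, as a group of permutations. -/
noncomputable def toPerm (x : GolayPt) (H : Subgroup ↥(MulAction.stabilizer M24 x)) :
    Subgroup (Equiv.Perm GolayPt) :=
  (H.map (MulAction.stabilizer M24 x).subtype).map M24.subtype

theorem mem_toPerm (x : GolayPt) (H : Subgroup ↥(MulAction.stabilizer M24 x))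
    (σ : Equiv.Perm GolayPt) :
    σ ∈ toPerm x H ↔ ∃ h ∈ H, ((h : ↥M24) : Equiv.Perm GolayPt) = σ := by
  constructor
  · rintro ⟨m, ⟨h, hh, rfl⟩, rfl⟩
    exact ⟨h, hh, rfl⟩
  · rintro ⟨h, hh, rfl⟩
    exact ⟨_, ⟨h, hh, rfl⟩, rfl⟩

theorem card_toPerm (x : GolayPt) (H : Subgroup ↥(MulAction.stabilizer M24 x)) :
    Nat.card ↥(toPerm x H) = Nat.card ↥H := by
  rw [toPerm, Subgroup.card_subtype, Subgroup.card_subtype]

theorem fix1_toPerm (x : GolayPt) (H : Subgroup ↥(MulAction.stabilizer M24 x)) :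
    Fix1 x (toPerm x H) := by
  constructor
  · intro σ hσ
    obtain ⟨h, -, rfl⟩ := (mem_toPerm x H σ).1 hσ
    exact (h : ↥M24).2
  · intro σ hσ
    obtain ⟨h, -, rfl⟩ := (mem_toPerm x H σ).1 hσ
    exact MulAction.mem_stabilizer_iff.1 h.2

theorem coe_smul_finset (g : ↥M24) (s : Finset GolayPt) :
    g • s = (g : Equiv.Perm GolayPt) • s := rfl

/-- invariance of a finset gives membership in its setwise stabiliser. -/
theorem smul_eq_of_inv {L : Subgroup (Equiv.Perm GolayPt)} {S : Finset GolayPt} (hS : Inv L S)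
    {σ : Equiv.Perm GolayPt} (hσ : σ ∈ L) : σ • S = S := by
  apply Finset.eq_of_subset_of_card_le
  · intro y hy
    rw [Finset.mem_smul_finset] at hy
    obtain ⟨z, hz, rfl⟩ := hy
    exact hS σ hσ z hz
  · rw [Finset.card_smul_finset]

theorem inv_toPerm_subgroupOf (x : GolayPt) (S : Finset GolayPt) :
    Inv (toPerm x ((MulAction.stabilizer M24 S).subgroupOf (MulAction.stabilizer M24 x))) S := by
  intro σ hσ y hy
  obtain ⟨h, hh, rfl⟩ := (mem_toPerm x _ σ).1 hσ
  rw [Subgroup.mem_subgroupOf, MulAction.mem_stabilizer_iff, coe_smul_finset] at hh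
  have := Finset.smul_mem_smul_finset (a := ((h : ↥M24) : Equiv.Perm GolayPt)) hy
  rw [hh] at this
  exact this

theorem le_subgroupOf_of_inv (x : GolayPt) (H : Subgroup ↥(MulAction.stabilizer M24 x))
    {S : Finset GolayPt} (hS : Inv (toPerm x H) S) :
    H ≤ (MulAction.stabilizer M24 S).subgroupOf (MulAction.stabilizer M24 x) := by
  intro h hh
  rw [Subgroup.mem_subgroupOf, MulAction.mem_stabilizer_iff, coe_smul_finset]
  exact smul_eq_of_inv hS ((mem_toPerm x H _).2 ⟨h, hh, rfl⟩)

/-- Subgroups of index 253 in the Mathieu group of degree 23 are exactly the duad stabilisers and the heptad stabilisers. -/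
theorem result (x : Cfsg.GolayPt) (H : Subgroup ↥(MulAction.stabilizer Cfsg.M24 x)) (hH : H.index = 253) : (∃ s : Finset Cfsg.GolayPt, s.card = 2 ∧ x ∉ s ∧ H = (MulAction.stabilizer Cfsg.M24 s).subgroupOf (MulAction.stabilizer Cfsg.M24 x)) ∨ ∃ o ∈ Cfsg.octads, x ∈ o ∧ H = (MulAction.stabilizer Cfsg.M24 o).subgroupOf (MulAction.stabilizer Cfsg.M24 x) := by
  have hHc : Nat.card ↥H = 40320 := by
    have h1 := Subgroup.card_mul_index H
    rw [hH, Cfsg.Agent.S0376.result x] at h1
    omega
  have hK := fix1_toPerm x H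
  have hKc : Nat.card ↥(toPerm x H) = 40320 := by rw [card_toPerm, hHc]
  obtain ⟨a, hax, hsh⟩ := hK.shape hKc
  have hxa : x ∉ orbF (toPerm x H) a := hK.not_mem_orbF x hax
  rcases hsh with h2 | h7 | h8
  · left
    refine ⟨orbF (toPerm x H) a, h2, hxa, ?_⟩
    have hInv := inv_orbF (toPerm x H) a
    apply Subgroup.eq_of_le_of_card_ge (le_subgroupOf_of_inv x H hInv)
    rw [hHc, ← card_toPerm]
    exact (fix1_toPerm x _).card_le_of_inv2 (inv_toPerm_subgroupOf x _) h2 hxa
  · right
    have hoct := hK.octad_of_orbit_seven hKc hax h7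
    refine ⟨insert x (orbF (toPerm x H) a), hoct, Finset.mem_insert_self _ _, ?_⟩
    have hInv : Inv (toPerm x H) (insert x (orbF (toPerm x H) a)) := by
      intro σ hσ y hy
      rw [Finset.mem_insert] at hy ⊢
      rcases hy with rfl | hy
      · exact Or.inl (hK.fx σ hσ)
      · exact Or.inr (inv_orbF (toPerm x H) a σ hσ y hy)
    apply Subgroup.eq_of_le_of_card_ge (le_subgroupOf_of_inv x H hInv)
    rw [hHc, ← card_toPerm]
    have hK' := fix1_toPerm x ((MulAction.stabilizer M24 (insert x (orbF (toPerm x H) a))).subgroupOf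
      (MulAction.stabilizer M24 x))
    have hInv' := inv_toPerm_subgroupOf x (insert x (orbF (toPerm x H) a))
    have hInv'' := hInv'.erase x
    rw [Finset.erase_insert hxa] at hInv''
    have hstb : Cfsg.Agent.Lib.Helper7.stb (toPerm x ((MulAction.stabilizer M24
        (insert x (orbF (toPerm x H) a))).subgroupOf (MulAction.stabilizer M24 x))) x =
        toPerm x ((MulAction.stabilizer M24
        (insert x (orbF (toPerm x H) a))).subgroupOf (MulAction.stabilizer M24 x)) := by
      apply le_antisymm (stb_le _ _)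
      intro σ hσ
      rw [mem_stb]
      exact ⟨hσ, hK'.fx σ hσ⟩
    rw [hstb] at hInv''
    exact hK'.card_le_of_inv7 hInv'' h7 hxa
  · exact (hK.no_orbit_eight hKc hax h8).elim

end Cfsg.Agent.S1609
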