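import Mathlib
import Cfsg.Statements.S1610
import Cfsg.Agent.Lib.Helper57.Hexacode

set_option autoImplicit false
open Cfsg

namespace Cfsg.Agent.S1610

open Cfsg.Agent.Lib.Helper57.Hexa

section

variable {F : Type*} [Field F] [Fintype F] [DecidableEq F] [CharP F 2] (ω : F)
  (hω : ω ^ 2 + ω + 1 = 0)

/-- the parametrisation of the hexacode by `K³` -/
noncomputable def par (t : K × K × K) : Fin 6 → F := Phi ω hω (encK t.1 t.2.1 t.2.2)

theorem par_injective : Function.Injective (par ω hω) := by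
  rintro ⟨a, b, c⟩ ⟨a', b', c'⟩ h
  have h1 := Phi_injective ω hω h
  obtain ⟨h1, h2, h3⟩ := encK_injective a b c a' b' c' h1
  simp [h1, h2, h3]

theorem par_mem (hF : Fintype.card F = 4) (t : K × K × K) : par ω hω t ∈ Cfsg.hexacode F ω :=
  (mem_hexacode_iff ω hω hF _).2 ⟨_, _, _, rfl⟩

include hω in
theorem card_hexacode (hF : Fintype.card F = 4) : Nat.card ↥(Cfsg.hexacode F ω) = 64 := by
  have e : (K × K × K) ≃ ↥(Cfsg.hexacode F ω) := by
    refine Equiv.ofBijective (fun t => ⟨par ω hω t, par_mem ω hω hF t⟩) ⟨?_, ?_⟩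
    · intro t t' h
      exact par_injective ω hω (congrArg Subtype.val h)
    · rintro ⟨x, hx⟩
      obtain ⟨a, b, c, rfl⟩ := (mem_hexacode_iff ω hω hF x).1 hx
      exact ⟨(a, b, c), rfl⟩
  rw [← Nat.card_congr e, Nat.card_eq_fintype_card, Fintype.card_prod, Fintype.card_prod, card_K]

theorem set_eq (hF : Fintype.card F = 4) (n : ℕ) :
    {x : Fin 6 → F | x ∈ Cfsg.hexacode F ω ∧ (Finset.univ.filter fun i => x i ≠ 0).card = n} =
      par ω hω '' ((Finset.univ.filter fun t : K × K × K => wtK (encK t.1 t.2.1 t.2.2) = n :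
        Finset (K × K × K)) : Set (K × K × K)) := by
  ext x
  simp only [Set.mem_ofPred_eq, Set.mem_image, Finset.coe_filter, Finset.mem_univ, true_and]
  constructor
  · rintro ⟨hx, hw⟩
    obtain ⟨a, b, c, rfl⟩ := (mem_hexacode_iff ω hω hF x).1 hx
    refine ⟨(a, b, c), ?_, rfl⟩
    rw [← wt_Phi ω hω]
    exact hw
  · rintro ⟨t, ht, rfl⟩
    refine ⟨par_mem ω hω hF t, ?_⟩
    rw [← ht, ← wt_Phi ω hω]
    rfl

include hω in
theorem ncard_eq (hF : Fintype.card F = 4) (n : ℕ) :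
    {x : Fin 6 → F | x ∈ Cfsg.hexacode F ω ∧ (Finset.univ.filter fun i => x i ≠ 0).card = n}.ncard =
      (Finset.univ.filter fun t : K × K × K => wtK (encK t.1 t.2.1 t.2.2) = n).card := by
  rw [set_eq ω hω hF n, Set.ncard_image_of_injective _ (par_injective ω hω), Set.ncard_coe_finset]

end

/-- The hexacode has 64 words, minimum weight 4, and weight distribution 0^1 4^45 6^18. -/
theorem result (F : Type*) [Field F] [Fintype F] [DecidableEq F] (hF : Fintype.card F = 4) (ω : F) (hω : ω ^ 2 + ω + 1 = 0) : Nat.card ↥(Cfsg.hexacode F ω) = 64 ∧ (∀ x ∈ Cfsg.hexacode F ω, x ≠ 0 → (Finset.univ.filter fun i => x i ≠ 0).card = 4 ∨ (Finset.univ.filter fun i => x i ≠ 0).card = 6) ∧ {x : Fin 6 → F | x ∈ Cfsg.hexacode F ω ∧ (Finset.univ.filter fun i => x i ≠ 0).card = 4}.ncard = 45 ∧ {x : Fin 6 → F | x ∈ Cfsg.hexacode F ω ∧ (Finset.univ.filter fun i => x i ≠ 0).card = 6}.ncard = 18 := by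
  have : CharP F 2 := charP_two hF
  refine ⟨card_hexacode ω hω hF, ?_, ?_, ?_⟩
  · intro x hx hx0
    obtain ⟨a, b, c, rfl⟩ := (mem_hexacode_iff ω hω hF x).1 hx
    have h0 : encK a b c ≠ 0 := fun h => hx0 ((Phi_eq_zero_iff ω hω _).2 h)
    rw [wt_Phi ω hω]
    exact wtK_encK a b c h0
  · rw [ncard_eq ω hω hF 4, count4]
  · rw [ncard_eq ω hω hF 6, count6]

end Cfsg.Agent.S1610
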