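import Mathlib
import Cfsg.Statements.S1611
import Cfsg.Agent.Lib.Helper57.Hexacode
import Cfsg.Agent.Lib.Helper57.HexaAut

set_option autoImplicit false
open Cfsg

namespace Cfsg.Agent.S1611

open Cfsg.Agent.Lib.Helper57.Hexa

section

variable {F : Type*} [Field F] [Fintype F] [CharP F 2] (ω : F) (hω : ω ^ 2 + ω + 1 = 0)

/-- `(σ, c)` is a monomial automorphism of the hexacode -/
def IsAut (σ : Equiv.Perm (Fin 6)) (c : Fin 6 → Fˣ) : Prop :=
  ∀ x ∈ Cfsg.hexacode F ω, Cfsg.monomialMap σ c x ∈ Cfsg.hexacode F ω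

/-- monomial maps are linear -/
def monoLin (σ : Equiv.Perm (Fin 6)) (c : Fin 6 → Fˣ) : (Fin 6 → F) →ₗ[F] (Fin 6 → F) where
  toFun := Cfsg.monomialMap σ c
  map_add' x y := by
    funext i
    simp [Cfsg.monomialMap, mul_add]
  map_smul' a x := by
    funext i
    simp only [Cfsg.monomialMap, Pi.smul_apply, smul_eq_mul, RingHom.id_apply]
    ring

omit [Fintype F] [CharP F 2] in
theorem isAut_iff (σ : Equiv.Perm (Fin 6)) (c : Fin 6 → Fˣ) : IsAut ω σ c ↔
    Cfsg.monomialMap σ c ![ω, ω ^ 2, ω ^ 2, ω, ω ^ 2, ω] ∈ Cfsg.hexacode F ω ∧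
    Cfsg.monomialMap σ c ![ω ^ 2, ω, ω, ω ^ 2, ω ^ 2, ω] ∈ Cfsg.hexacode F ω ∧
    Cfsg.monomialMap σ c ![ω ^ 2, ω, ω ^ 2, ω, ω, ω ^ 2] ∈ Cfsg.hexacode F ω := by
  constructor
  · intro h
    refine ⟨h _ (Submodule.subset_span ?_), h _ (Submodule.subset_span ?_),
      h _ (Submodule.subset_span ?_)⟩ <;> simp
  · rintro ⟨h1, h2, h3⟩ x hx
    have hle : Submodule.span F {![ω, ω ^ 2, ω ^ 2, ω, ω ^ 2, ω], ![ω ^ 2, ω, ω, ω ^ 2, ω ^ 2, ω],
        ![ω ^ 2, ω, ω ^ 2, ω, ω, ω ^ 2]} ≤ (Cfsg.hexacode F ω).comap (monoLin σ c) := by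
      rw [Submodule.span_le]
      intro v hv
      simp only [Set.mem_insert_iff, Set.mem_singleton_iff] at hv
      rcases hv with rfl | rfl | rfl
      · exact h1
      · exact h2
      · exact h3
    exact hle hx

theorem Phi_mem_iff (hF : Fintype.card F = 4) (v : Fin 6 → K) :
    Phi ω hω v ∈ Cfsg.hexacode F ω ↔ memK v := by
  rw [mem_hexacode_iff ω hω hF]
  constructor
  · rintro ⟨a, b, c, h⟩
    rw [Phi_injective ω hω h]
    exact memK_encK a b c
  · intro h
    exact ⟨_, _, _, congrArg (Phi ω hω) h⟩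

theorem key (hF : Fintype.card F = 4) (σ : Equiv.Perm (Fin 6)) (c : Fin 6 → Fˣ) (d : Fin 6 → K)
    (hcd : ∀ i, phi ω hω (d i) = (c i : F)) : IsAut ω σ c ↔ autK σ d := by
  rw [isAut_iff, autK, ← Phi_mem_iff ω hω hF, ← Phi_mem_iff ω hω hF, ← Phi_mem_iff ω hω hF]
  have e1 : Cfsg.monomialMap σ c ![ω, ω ^ 2, ω ^ 2, ω, ω ^ 2, ω] =
      Phi ω hω (fun i => d i * u1 (σ.symm i)) := by
    funext i
    simp only [Cfsg.monomialMap, Phi, map_mul, hcd, phi_u1]
  have e2 : Cfsg.monomialMap σ c ![ω ^ 2, ω, ω, ω ^ 2, ω ^ 2, ω] =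
      Phi ω hω (fun i => d i * u2 (σ.symm i)) := by
    funext i
    simp only [Cfsg.monomialMap, Phi, map_mul, hcd, phi_u2]
  have e3 : Cfsg.monomialMap σ c ![ω ^ 2, ω, ω ^ 2, ω, ω, ω ^ 2] =
      Phi ω hω (fun i => d i * u3 (σ.symm i)) := by
    funext i
    simp only [Cfsg.monomialMap, Phi, map_mul, hcd, phi_u3]
  rw [e1, e2, e3]

/-- the concrete diagonal part of an abstract one -/
noncomputable def dOf (hF : Fintype.card F = 4) (c : Fin 6 → Fˣ) : Fin 6 → K :=
  fun i => (Equiv.ofBijective _ (phi_bijective ω hω hF)).symm (c i : F)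

theorem phi_dOf (hF : Fintype.card F = 4) (c : Fin 6 → Fˣ) (i : Fin 6) :
    phi ω hω (dOf ω hω hF c i) = (c i : F) :=
  (Equiv.ofBijective _ (phi_bijective ω hω hF)).apply_symm_apply _

theorem dOf_ne_zero (hF : Fintype.card F = 4) (c : Fin 6 → Fˣ) (i : Fin 6) :
    dOf ω hω hF c i ≠ 0 := by
  intro h
  have := phi_dOf ω hω hF c i
  rw [h, map_zero] at this
  exact (c i).ne_zero this.symm

/-- the abstract diagonal part of a concrete one -/
noncomputable def cOf (d : Fin 6 → K) (hd : ∀ i, d i ≠ 0) : Fin 6 → Fˣ :=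
  fun i => Units.mk0 (phi ω hω (d i)) (by rw [Ne, phi_eq_zero_iff]; exact hd i)

theorem vec_eta (d : Fin 6 → K) : d = ![d 0, d 1, d 2, d 3, d 4, d 5] := by
  funext i
  fin_cases i <;> rfl

include hω in
/-- part (B): diagonal automorphisms are scalars -/
theorem diag_scalar (hF : Fintype.card F = 4) (c : Fin 6 → Fˣ) (h : IsAut ω 1 c) (i j : Fin 6) :
    c i = c j := by
  have h1 := (key ω hω hF 1 c (dOf ω hω hF c) (phi_dOf ω hω hF c)).1 h
  rw [vec_eta (dOf ω hω hF c)] at h1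
  obtain ⟨e1, e2, e3, e4, e5⟩ := diagK _ _ _ _ _ _ (dOf_ne_zero ω hω hF c 0)
    (dOf_ne_zero ω hω hF c 1) (dOf_ne_zero ω hω hF c 2) (dOf_ne_zero ω hω hF c 3)
    (dOf_ne_zero ω hω hF c 4) (dOf_ne_zero ω hω hF c 5) h1
  have hall : ∀ k : Fin 6, c k = c 0 := by
    intro k
    apply Units.ext
    rw [← phi_dOf ω hω hF c k, ← phi_dOf ω hω hF c 0]
    congr 1
    fin_cases k
    · rfl
    · exact e1.symm
    · exact e2.symm
    · exact e3.symm
    · exact e4.symm
    · exact e5.symm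
  rw [hall i, hall j]

include hω in
/-- a transposition is not the permutation part of an automorphism -/
theorem not_swap (hF : Fintype.card F = 4) (c : Fin 6 → Fˣ) : ¬ IsAut ω (Equiv.swap 0 1) c := by
  intro h
  have h1 := (key ω hω hF _ c (dOf ω hω hF c) (phi_dOf ω hω hF c)).1 h
  rw [vec_eta (dOf ω hω hF c)] at h1
  exact swapK _ _ _ _ _ _ (dOf_ne_zero ω hω hF c 0)
    (dOf_ne_zero ω hω hF c 1) (dOf_ne_zero ω hω hF c 2) (dOf_ne_zero ω hω hF c 3)
    (dOf_ne_zero ω hω hF c 4) (dOf_ne_zero ω hω hF c 5) h1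

include hω in
/-- every three-cycle is the permutation part of an automorphism -/
theorem three_cycle (hF : Fintype.card F = 4) (a b c : Fin 6) (hab : a ≠ b) (hac : a ≠ c)
    (hbc : b ≠ c) : ∃ e : Fin 6 → Fˣ, IsAut ω (Equiv.swap a b * Equiv.swap b c) e := by
  obtain ⟨h1, h2⟩ := witK a b c hab hac hbc
  refine ⟨cOf ω hω (wit a b c) h2, ?_⟩
  rw [key ω hω hF _ _ (wit a b c) (fun i => rfl)]
  exact h1

omit [Fintype F] [CharP F 2] in
theorem isAut_one : IsAut ω 1 (fun _ => (1 : Fˣ)) := by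
  intro x hx
  have : Cfsg.monomialMap (1 : Equiv.Perm (Fin 6)) (fun _ => (1 : Fˣ)) x = x := by
    funext i
    simp only [Cfsg.monomialMap, Units.val_one, one_mul]
    rfl
  rw [this]
  exact hx

omit [Fintype F] [CharP F 2] in
theorem isAut_mul {σ τ : Equiv.Perm (Fin 6)} {c d : Fin 6 → Fˣ} (h1 : IsAut ω σ c)
    (h2 : IsAut ω τ d) : IsAut ω (σ * τ) (fun i => c i * d (σ.symm i)) := by
  intro x hx
  have h := h1 _ (h2 x hx)
  have e : Cfsg.monomialMap (σ * τ) (fun i => c i * d (σ.symm i)) x =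
      Cfsg.monomialMap σ c (Cfsg.monomialMap τ d x) := by
    funext i
    simp only [Cfsg.monomialMap, Units.val_mul, mul_assoc]
    rfl
  rw [e]
  exact h

omit [Fintype F] [CharP F 2] in
theorem isAut_smul {σ : Equiv.Perm (Fin 6)} {c : Fin 6 → Fˣ} (s : Fˣ) (h : IsAut ω σ c) :
    IsAut ω σ (fun i => s * c i) := by
  intro x hx
  have e : Cfsg.monomialMap σ (fun i => s * c i) x = (s : F) • Cfsg.monomialMap σ c x := by
    funext i
    simp only [Cfsg.monomialMap, Units.val_mul, mul_assoc, Pi.smul_apply, smul_eq_mul]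
  rw [e]
  exact Submodule.smul_mem _ _ (h x hx)

omit [Fintype F] [CharP F 2] in
theorem monomialMap_injective (σ : Equiv.Perm (Fin 6)) (c : Fin 6 → Fˣ) :
    Function.Injective (Cfsg.monomialMap σ c : (Fin 6 → F) → (Fin 6 → F)) := by
  intro x y h
  funext i
  have h1 := congrFun h (σ i)
  simp only [Cfsg.monomialMap, Equiv.symm_apply_apply] at h1
  exact mul_left_cancel₀ (c (σ i)).ne_zero h1

omit [CharP F 2] in
theorem isAut_div {σ : Equiv.Perm (Fin 6)} {c c' : Fin 6 → Fˣ} (h : IsAut ω σ c)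
    (h' : IsAut ω σ c') : IsAut ω 1 (fun i => c i / c' i) := by
  intro x hx
  let g : ↥(Cfsg.hexacode F ω) → ↥(Cfsg.hexacode F ω) :=
    fun y => ⟨Cfsg.monomialMap σ c' y.1, h' y.1 y.2⟩
  have hg : Function.Injective g := by
    intro y y' hyy
    exact Subtype.ext (monomialMap_injective σ c' (congrArg Subtype.val hyy))
  obtain ⟨y, hy⟩ := Finite.surjective_of_injective hg ⟨x, hx⟩
  have hy' : Cfsg.monomialMap σ c' y.1 = x := congrArg Subtype.val hy
  have e : Cfsg.monomialMap (1 : Equiv.Perm (Fin 6)) (fun i => c i / c' i) x =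
      Cfsg.monomialMap σ c y.1 := by
    rw [← hy']
    funext i
    have h1 : (1 : Equiv.Perm (Fin 6)).symm i = i := rfl
    simp only [Cfsg.monomialMap, Units.val_div_eq_div_val, h1]
    field_simp
  rw [e]
  exact h y.1 y.2

/-- the permutation parts of the automorphisms, as a subgroup -/
def autPerms : Subgroup (Equiv.Perm (Fin 6)) where
  carrier := {σ | ∃ c : Fin 6 → Fˣ, IsAut ω σ c}
  one_mem' := ⟨_, isAut_one ω⟩
  mul_mem' := by
    rintro σ τ ⟨c, hc⟩ ⟨d, hd⟩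
    exact ⟨_, isAut_mul ω hc hd⟩
  inv_mem' := by
    rintro σ ⟨c, hc⟩
    have hpow : ∀ n : ℕ, ∃ e : Fin 6 → Fˣ, IsAut ω (σ ^ n) e := by
      intro n
      induction n with
      | zero => exact ⟨_, isAut_one ω⟩
      | succ n ih =>
        obtain ⟨e, he⟩ := ih
        rw [pow_succ]
        exact ⟨_, isAut_mul ω he hc⟩
    have hinv : σ⁻¹ = σ ^ (orderOf σ - 1) := by
      apply inv_eq_of_mul_eq_one_left
      rw [← pow_succ, Nat.sub_add_cancel (orderOf_pos σ), pow_orderOf_eq_one]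
    show ∃ e : Fin 6 → Fˣ, IsAut ω σ⁻¹ e
    rw [hinv]
    exact hpow _

omit [Fintype F] [CharP F 2] in
theorem mem_autPerms (σ : Equiv.Perm (Fin 6)) :
    σ ∈ autPerms ω ↔ ∃ c : Fin 6 → Fˣ, IsAut ω σ c := Iff.rfl

include hω in
theorem alternating_le (hF : Fintype.card F = 4) : alternatingGroup (Fin 6) ≤ autPerms ω := by
  rw [← Equiv.Perm.closure_three_cycles_eq_alternating, Subgroup.closure_le]
  intro σ hσ
  have hσ3 : σ.IsThreeCycle := hσ
  have hne : σ ≠ 1 := hσ3.ne_one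
  obtain ⟨a, ha⟩ : ∃ a, a ∈ σ.support := by
    by_contra hcon
    push Not at hcon
    apply hne
    ext x
    have := hcon x
    rw [Equiv.Perm.notMem_support] at this
    rw [this]
    rfl
  have hnd := hσ3.nodup_iff_mem_support.2 ha
  have heq := hσ3.eq_swap_mul_swap_iff_mem_support.2 ha
  simp only [List.nodup_cons, List.mem_cons, List.not_mem_nil, or_false, not_or,
    not_false_eq_true, List.nodup_nil, and_true] at hnd
  rw [SetLike.mem_coe, mem_autPerms, heq]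
  exact three_cycle ω hω hF a (σ a) (σ (σ a)) hnd.1.1 hnd.1.2 hnd.2

include hω in
theorem autPerms_eq (hF : Fintype.card F = 4) : autPerms ω = alternatingGroup (Fin 6) := by
  apply le_antisymm _ (alternating_le ω hω hF)
  intro σ hσ
  rw [Equiv.Perm.mem_alternatingGroup]
  by_contra hsign
  have hs : Equiv.Perm.sign σ = -1 := by
    rcases Int.units_eq_one_or (Equiv.Perm.sign σ) with h | h
    · exact absurd h hsign
    · exact h
  have hmem : σ⁻¹ * Equiv.swap 0 1 ∈ alternatingGroup (Fin 6) := by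
    rw [Equiv.Perm.mem_alternatingGroup, map_mul, map_inv, hs,
      Equiv.Perm.sign_swap (by decide : (0 : Fin 6) ≠ 1)]
    decide
  have h2 : σ * (σ⁻¹ * Equiv.swap 0 1) ∈ autPerms ω :=
    (autPerms ω).mul_mem hσ (alternating_le ω hω hF hmem)
  rw [mul_inv_cancel_left] at h2
  obtain ⟨c, hc⟩ := h2
  exact not_swap ω hω hF c hc

include hω in
theorem card_auts (hF : Fintype.card F = 4) :
    Nat.card {f : Equiv.Perm (Fin 6) × (Fin 6 → Fˣ) // IsAut ω f.1 f.2} = 1080 := by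
  classical
  have hC : ∀ σ : alternatingGroup (Fin 6), ∃ c : Fin 6 → Fˣ, IsAut ω σ.1 c := by
    intro σ
    exact alternating_le ω hω hF σ.2
  choose c0 hc0 using hC
  have hmemA : ∀ f : {f : Equiv.Perm (Fin 6) × (Fin 6 → Fˣ) // IsAut ω f.1 f.2},
      f.1.1 ∈ alternatingGroup (Fin 6) := by
    intro f
    rw [← autPerms_eq ω hω hF]
    exact ⟨f.1.2, f.2⟩
  let e : {f : Equiv.Perm (Fin 6) × (Fin 6 → Fˣ) // IsAut ω f.1 f.2} ≃
      alternatingGroup (Fin 6) × Fˣ :=
    { toFun := fun f => (⟨f.1.1, hmemA f⟩, f.1.2 0 / c0 ⟨f.1.1, hmemA f⟩ 0)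
      invFun := fun p => ⟨(p.1.1, fun i => p.2 * c0 p.1 i), isAut_smul ω p.2 (hc0 p.1)⟩
      left_inv := by
        rintro ⟨⟨σ, c⟩, hf⟩
        apply Subtype.ext
        apply Prod.ext
        · rfl
        · funext i
          have hd := isAut_div ω hf (hc0 ⟨σ, hmemA ⟨⟨σ, c⟩, hf⟩⟩)
          have := diag_scalar ω hω hF _ hd 0 i
          simp only at this ⊢
          rw [this, div_mul_cancel]
      right_inv := by
        rintro ⟨σ, s⟩
        apply Prod.ext
        · rfl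
        · simp }
  have hU : Nat.card Fˣ = 3 := by
    rw [Nat.card_eq_fintype_card, Fintype.card_units, hF]
  rw [Nat.card_congr e, Nat.card_prod, nat_card_alternatingGroup, hU]
  simp [Nat.factorial]

end

/-- The monomial automorphism group of the hexacode has order 1080: its diagonal part is the scalars and its permutation parts form the alternating group of degree 6. -/
theorem result (F : Type*) [Field F] [Fintype F] [DecidableEq F] (hF : Fintype.card F = 4) (ω : F) (hω : ω ^ 2 + ω + 1 = 0) : Nat.card {f : Equiv.Perm (Fin 6) × (Fin 6 → Fˣ) // (∀ x ∈ Cfsg.hexacode F ω, Cfsg.monomialMap f.1 f.2 x ∈ Cfsg.hexacode F ω)} = 1080 ∧ (∀ c : Fin 6 → Fˣ, (∀ x ∈ Cfsg.hexacode F ω, Cfsg.monomialMap 1 c x ∈ Cfsg.hexacode F ω) → ∀ i j, c i = c j) ∧ {σ : Equiv.Perm (Fin 6) | ∃ c : Fin 6 → Fˣ, (∀ x ∈ Cfsg.hexacode F ω, Cfsg.monomialMap σ c x ∈ Cfsg.hexacode F ω)} = (alternatingGroup (Fin 6) : Set (Equiv.Perm (Fin 6))) := by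
  have : CharP F 2 := charP_two hF
  refine ⟨card_auts ω hω hF, fun c h i j => diag_scalar ω hω hF c h i j, ?_⟩
  have := autPerms_eq ω hω hF
  exact congrArg (fun S : Subgroup (Equiv.Perm (Fin 6)) => (S : Set (Equiv.Perm (Fin 6)))) this

end Cfsg.Agent.S1611
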