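import Cfsg.Statements.S1618
import Cfsg.Agent.S5560

set_option autoImplicit false
open Cfsg

namespace Cfsg.Agent.S1618

/-- A group generated by a class of involutions whose pairwise products (of distinct members) have p-power order for a fixed odd prime p has nilpotent derived subgroup. -/
theorem result {G : Type*} [Group G] [Finite G] (p : ℕ) (hp : p.Prime) (hodd : p ≠ 2) {D : Set G} (hinv : ∀ d ∈ D, orderOf d = 2) (hconj : ∃ d ∈ D, D = conjugatesOf d) (hgen : Subgroup.closure D = ⊤) (hprod : ∀ x ∈ D, ∀ y ∈ D, x ≠ y → ∃ k : ℕ, orderOf (x * y) = p ^ k) : Group.IsNilpotent ↥(commutator G) := by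
  classical
  haveI : Fact p.Prime := ⟨hp⟩
  obtain ⟨d, hdD, hD⟩ := hconj
  have hd : orderOf d = 2 := hinv d hdD
  have hsq : ∀ a ∈ D, a * a = 1 := by
    intro a ha
    have h := pow_orderOf_eq_one a
    rw [hinv a ha, pow_two] at h
    exact h
  have hprod' : ∀ a ∈ conjugatesOf d, ∀ b ∈ conjugatesOf d, ∃ k : ℕ, orderOf (a * b) = p ^ k := by
    intro a ha b hb
    rw [← hD] at ha hb
    by_cases hab : a = b
    · refine ⟨0, ?_⟩
      rw [hab, hsq b hb, orderOf_one, pow_zero]
    · exact hprod a ha b hb hab
  have hcore := Cfsg.Agent.S5560.result hp hodd d hd hprod'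
  -- the `p`-core is a normal `p`-subgroup
  have hPn : (pCore p G).Normal := Subgroup.sSup_normal _ (fun _ h => h.1)
  have hPp : IsPGroup p (pCore p G) := by
    unfold pCore
    exact Sylow.sSup_of_normal _ (fun _ h => h.2) (fun _ h => h.1)
  -- the quotient is cyclic, generated by the image of `d`
  have hquot : ∀ g : G, (QuotientGroup.mk g : G ⧸ pCore p G) ∈
      Subgroup.zpowers (QuotientGroup.mk d : G ⧸ pCore p G) := by
    intro g
    have hg : g ∈ Subgroup.closure D := by rw [hgen]; trivial
    induction hg using Subgroup.closure_induction with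
    | mem x hx =>
      have h1 : d * x ∈ pCore p G := by
        apply hcore d _ x _
        · rw [← hD]; exact hdD
        · rw [← hD]; exact hx
      have h2 : (QuotientGroup.mk x : G ⧸ pCore p G) = QuotientGroup.mk d := by
        rw [eq_comm, QuotientGroup.eq]
        have hdinv : d⁻¹ = d := by
          rw [inv_eq_iff_mul_eq_one]
          exact hsq d hdD
        rw [hdinv]
        exact h1
      rw [h2]
      exact Subgroup.mem_zpowers _
    | one => exact Subgroup.one_mem _
    | mul x y _ _ hx hy =>
      rw [QuotientGroup.mk_mul]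
      exact Subgroup.mul_mem _ hx hy
    | inv x _ hx =>
      rw [QuotientGroup.mk_inv]
      exact Subgroup.inv_mem _ hx
  have hcomm : commutator G ≤ pCore p G := by
    rw [commutator_def, Subgroup.commutator_le]
    intro a _ b _
    rw [← QuotientGroup.eq_one_iff, commutatorElement_def, QuotientGroup.mk_mul,
      QuotientGroup.mk_mul, QuotientGroup.mk_mul, QuotientGroup.mk_inv, QuotientGroup.mk_inv]
    obtain ⟨i, hi⟩ := Subgroup.mem_zpowers_iff.mp (hquot a)
    obtain ⟨j, hj⟩ := Subgroup.mem_zpowers_iff.mp (hquot b)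
    rw [← hi, ← hj]
    rw [← zpow_neg, ← zpow_neg, ← zpow_add, ← zpow_add, ← zpow_add]
    have : i + j + -i + -j = 0 := by ring
    rw [this, zpow_zero]
  have hcp : IsPGroup p (commutator G) := by
    intro x
    obtain ⟨k, hk⟩ := hPp ⟨x.1, hcomm x.2⟩
    refine ⟨k, ?_⟩
    apply Subtype.ext
    have := congrArg Subtype.val hk
    simpa using this
  exact hcp.isNilpotent

end Cfsg.Agent.S1618
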