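import Cfsg.Statements.S2644
import Cfsg.Agent.Lib.Helper44.UnitaryTransv

set_option autoImplicit false
open Cfsg

namespace Cfsg.Agent.S2644

/-- In the special unitary group SU_n(q) with n ≥ 3 (isometries of Σ u_i v_i^q of determinant one over the field with q² elements), any two transvections (elements t with t − 1 of rank one and square zero) are conjugate. -/
theorem result {K : Type*} [Field K] [Fintype K] {q n : ℕ} (hK : Fintype.card K = q ^ 2) (hn : 3 ≤ n) (s t : ↥(Cfsg.SU n K q)) (hs : Cfsg.IsTransvection (((s : GL (Fin n) K) : Matrix (Fin n) (Fin n) K))) (ht : Cfsg.IsTransvection (((t : GL (Fin n) K) : Matrix (Fin n) (Fin n) K))) : IsConj s t := by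
  classical
  -- membership in `GU` of the underlying `GL` elements
  have hsG : ((s : Matrix.SpecialLinearGroup (Fin n) K) : GL (Fin n) K) ∈ Cfsg.GU n K q := by
    rw [Cfsg.Agent.Lib.Helper13.mem_GU_iff]
    exact s.2
  have htG : ((t : Matrix.SpecialLinearGroup (Fin n) K) : GL (Fin n) K) ∈ Cfsg.GU n K q := by
    rw [Cfsg.Agent.Lib.Helper13.mem_GU_iff]
    exact t.2
  obtain ⟨u, c, hu0, hu, hc0, hc, hsu⟩ :=
    Cfsg.Agent.Lib.Helper44.transvection_eq_utv hK _ hsG hs
  obtain ⟨v, d, hv0, hv, hd0, hd, htv⟩ :=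
    Cfsg.Agent.Lib.Helper44.transvection_eq_utv hK _ htG ht
  obtain ⟨g, hg, hgdet, hconj⟩ :=
    Cfsg.Agent.Lib.Helper44.utv_conj hK hn u v c d hu0 hv0 hu hv hc0 hd0 hc hd
  rw [← hsu, ← htv] at hconj
  have hconj' : (g : Matrix (Fin n) (Fin n) K) *
      ((s : Matrix.SpecialLinearGroup (Fin n) K) : Matrix (Fin n) (Fin n) K) =
      ((t : Matrix.SpecialLinearGroup (Fin n) K) : Matrix (Fin n) (Fin n) K) *
        (g : Matrix (Fin n) (Fin n) K) := by
    have h1 := mul_inv_eq_iff_eq_mul.mp hconj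
    have h2 := congrArg (fun x : GL (Fin n) K => (x : Matrix (Fin n) (Fin n) K)) h1
    exact h2
  let g₁ : Matrix.SpecialLinearGroup (Fin n) K := ⟨(g : Matrix (Fin n) (Fin n) K), hgdet⟩
  have hg₁ : g₁ ∈ Cfsg.SU n K q := by
    intro a b
    exact (Cfsg.Agent.Lib.Helper13.mem_GU_iff n q g).mp hg a b
  rw [isConj_iff]
  refine ⟨⟨g₁, hg₁⟩, ?_⟩
  rw [mul_inv_eq_iff_eq_mul]
  apply Subtype.ext
  apply Subtype.ext
  exact hconj'

end Cfsg.Agent.S2644
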