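import Cfsg.Statements.S1631
import Cfsg.Agent.Lib.Helper44.UnitaryThreeTransp
import Cfsg.Agent.S2644
import Cfsg.Agent.S0780

set_option autoImplicit false
open scoped MatrixGroups
open Cfsg

namespace Cfsg.Agent.S1631

open Cfsg.Agent.Lib in
/-- the embedding of `SU` into `GL` -/
noncomputable def iota (F : Type) [Field F] (n : ℕ) : ↥(Cfsg.SU n F 2) →* GL (Fin n) F :=
  Matrix.SpecialLinearGroup.toGL.comp (Cfsg.SU n F 2).subtype

theorem iota_injective (F : Type) [Field F] (n : ℕ) : Function.Injective (iota F n) := by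
  intro a b h
  apply Subtype.ext
  apply Subtype.ext
  have := congrArg (fun x : GL (Fin n) F => (x : Matrix (Fin n) (Fin n) F)) h
  exact this

theorem cube_eq_one_of_braid {G : Type*} [Group G] (a b : G) (ha : a * a = 1) (hb : b * b = 1)
    (h : a * b * a = b * a * b) : (a * b) ^ 3 = 1 := by
  have h1 : (a * b) ^ 3 = (a * b * a) * (b * a * b) := by
    simp only [pow_succ, pow_zero, one_mul, mul_assoc]
  rw [h1, h]
  have h2 : b * a * b * (b * a * b) = b * a * (b * b) * a * b := by group
  rw [h2, hb, mul_one]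
  have h3 : b * a * a * b = b * (a * a) * b := by group
  rw [h3, ha, mul_one, hb]

theorem sq_eq_one_of_comm {G : Type*} [Group G] (a b : G) (ha : a * a = 1) (hb : b * b = 1)
    (h : a * b = b * a) : (a * b) ^ 2 = 1 := by
  have h1 : (a * b) ^ 2 = a * (b * a) * b := by
    simp only [pow_succ, pow_zero, one_mul, mul_assoc]
  rw [h1, ← h]
  have h2 : a * (a * b) * b = (a * a) * (b * b) := by group
  rw [h2, ha, hb, mul_one]

open Cfsg.Agent.Lib in
theorem eq_utv {F : Type} [Field F] [Fintype F] (hF : Fintype.card F = 2 ^ 2) {n : ℕ}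
    (g : ↥(Cfsg.SU n F 2))
    (hg : (((g : Matrix.SpecialLinearGroup (Fin n) F) : Matrix (Fin n) (Fin n) F) - 1).rank = 1) :
    Cfsg.IsTransvection ((g : Matrix.SpecialLinearGroup (Fin n) F) : Matrix (Fin n) (Fin n) F) ∧
    ∃ u : Fin n → F, u ≠ 0 ∧ Cfsg.hermForm n F 2 u u = 0 ∧ iota F n g = Helper99.utv 2 u (-1) := by
  have htr := Helper44.isTransvection_of_rank_one _ g.1.2 hg
  refine ⟨htr, ?_⟩
  have hgG : iota F n g ∈ Cfsg.GU n F 2 := by
    rw [Helper13.mem_GU_iff]
    exact g.2
  obtain ⟨u, c, hu0, hu, hc0, hc, hgu⟩ := Helper44.transvection_eq_utv hF _ hgG htr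
  have hc1 := Helper44.param_eq_neg_one hc0 hc
  rw [hc1] at hgu
  exact ⟨u, hu0, hu, hgu⟩

open Cfsg.Agent.Lib in
theorem aux (F : Type) [Field F] [Fintype F] (hF : Fintype.card F = 4) (n : ℕ) (hn : 4 ≤ n)
    (hgen : Subgroup.closure {A : ↥(Cfsg.SU n F 2) | ∃ (v : Fin n → F) (c : F),
      Cfsg.hermForm n F 2 v v = 0 ∧
      ((A : Matrix.SpecialLinearGroup (Fin n) F) : Matrix (Fin n) (Fin n) F) =
        Cfsg.unitaryTransvection n 2 v c} = ⊤) :
    Cfsg.IsThreeTranspositionClass {g : ↥(Cfsg.SU n F 2) |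
      (((g : Matrix.SpecialLinearGroup (Fin n) F) : Matrix (Fin n) (Fin n) F) - 1).rank = 1} := by
  classical
  have hF' : Fintype.card F = 2 ^ 2 := hF.trans (by norm_num)
  have hone : ∀ u : Fin n → F, Cfsg.hermForm n F 2 u u = 0 →
      Helper99.utv 2 u (-1 : F) * Helper99.utv 2 u (-1) = 1 :=
    fun u hu => Helper44.utv_mul_self hF' u hu (-1)
  refine ⟨⟨?_, ?_⟩, ?_, ?_⟩
  · -- order two
    intro d hd
    obtain ⟨-, u, hu0, hu, hdu⟩ := eq_utv hF' d hd
    have : Fact (Nat.Prime 2) := ⟨Nat.prime_two⟩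
    apply orderOf_eq_prime
    · apply iota_injective F n
      rw [map_pow, map_one, pow_two, hdu]
      exact hone u hu
    · rintro rfl
      have : (((1 : ↥(Cfsg.SU n F 2)) : Matrix.SpecialLinearGroup (Fin n) F) :
          Matrix (Fin n) (Fin n) F) - 1 = 0 := by
        simp
      have hd' : ((((1 : ↥(Cfsg.SU n F 2)) : Matrix.SpecialLinearGroup (Fin n) F) :
          Matrix (Fin n) (Fin n) F) - 1).rank = 1 := hd
      rw [this, Matrix.rank_zero] at hd'
      exact zero_ne_one hd'
  · -- products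
    intro d hd e he
    obtain ⟨-, u, hu0, hu, hdu⟩ := eq_utv hF' d hd
    obtain ⟨-, v, hv0, hv, hev⟩ := eq_utv hF' e he
    by_cases huv : Cfsg.hermForm n F 2 u v = 0
    · left
      apply iota_injective F n
      rw [map_pow, map_mul, map_one, hdu, hev]
      exact sq_eq_one_of_comm _ _ (hone u hu) (hone v hv)
        (Helper44.utv_comm_of_orth hF' u v hu hv _ _ huv)
    · right
      apply iota_injective F n
      rw [map_pow, map_mul, map_one, hdu, hev]
      exact cube_eq_one_of_braid _ _ (hone u hu) (hone v hv)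
        (Helper44.utv_braid hF' u v hu hv huv)
  · -- a single class
    have hnd : Helper99.NdOn 2 (⊤ : Submodule F (Fin n → F)) := by
      intro x _ hx0
      by_contra hcon
      push Not at hcon
      exact hx0 (Helper99.hermForm_nd_right hF' (fun y => hcon y Submodule.mem_top))
    obtain ⟨u₀, -, hu₀0, hu₀⟩ := Helper99.exists_isotropic_nd hF' hnd (by
      rw [finrank_top, Module.finrank_fin_fun]; omega)
    have hc : (-1 : F) + (-1) ^ 2 = 0 := by ring
    have hG := Helper99.utv_mem_GU hF' u₀ hu₀ (-1) hc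
    have hS := (Helper99.mem_specialLinear_iff _).mp (Helper99.utv_mem_SL (q := 2) u₀ hu₀ (-1 : F))
    let d₀ : ↥(Cfsg.SU n F 2) := ⟨⟨((Helper99.utv 2 u₀ (-1 : F) : GL (Fin n) F) :
      Matrix (Fin n) (Fin n) F), hS⟩, by
        intro a b
        exact (Helper13.mem_GU_iff n 2 _).mp hG a b⟩
    have hd₀ : d₀ ∈ {g : ↥(Cfsg.SU n F 2) |
        (((g : Matrix.SpecialLinearGroup (Fin n) F) : Matrix (Fin n) (Fin n) F) - 1).rank = 1} := by
      show (((Helper99.utv 2 u₀ (-1 : F) : GL (Fin n) F) : Matrix (Fin n) (Fin n) F) - 1).rank = 1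
      have hmat : ((Helper99.utv 2 u₀ (-1 : F) : GL (Fin n) F) : Matrix (Fin n) (Fin n) F) - 1 =
          Matrix.vecMulVec u₀ (fun j => (-1 : F) * (u₀ j) ^ 2) := by
        unfold Helper99.utv
        rw [Helper99.coe_rk1GL]
        · unfold Helper99.rk1
          abel
        · rw [Helper99.utv_dot, hu₀, mul_zero, add_zero]
          exact one_ne_zero
      rw [hmat]
      apply le_antisymm (Matrix.rank_vecMulVec_le _ _)
      rw [Nat.one_le_iff_ne_zero]
      intro h0
      have h1 : Module.finrank F (LinearMap.range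
          (Matrix.vecMulVec u₀ (fun j => (-1 : F) * (u₀ j) ^ 2)).mulVecLin) = 0 := h0
      rw [Submodule.finrank_eq_zero, LinearMap.range_eq_bot] at h1
      -- the matrix is nonzero: some entry of `u₀` is nonzero
      obtain ⟨i, hi⟩ : ∃ i, u₀ i ≠ 0 := by
        by_contra hcon
        push Not at hcon
        exact hu₀0 (funext hcon)
      have h2 := congrFun (LinearMap.congr_fun h1 (Pi.single i 1)) i
      rw [Matrix.mulVecLin_apply, Matrix.mulVec_single_one] at h2
      simp only [Matrix.col_apply, Matrix.vecMulVec_apply, LinearMap.zero_apply,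
        Pi.zero_apply] at h2
      have : u₀ i * (-1 * u₀ i ^ 2) ≠ 0 :=
        mul_ne_zero hi (mul_ne_zero (by norm_num) (pow_ne_zero _ hi))
      exact this h2
    refine ⟨d₀, hd₀, ?_⟩
    ext d
    show _ ↔ IsConj d₀ d
    constructor
    · intro hd
      exact Cfsg.Agent.S2644.result hF' (by omega) d₀ d (eq_utv hF' d₀ hd₀).1 (eq_utv hF' d hd).1
    · intro hconj
      obtain ⟨c, hc⟩ := isConj_iff.mp hconj
      rw [Set.mem_ofPred_eq, ← hc]
      have e1 : (((c * d₀ * c⁻¹ : ↥(Cfsg.SU n F 2)) : Matrix.SpecialLinearGroup (Fin n) F) :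
          Matrix (Fin n) (Fin n) F) - 1 =
          ((c : Matrix.SpecialLinearGroup (Fin n) F) : Matrix (Fin n) (Fin n) F) *
            (((d₀ : Matrix.SpecialLinearGroup (Fin n) F) : Matrix (Fin n) (Fin n) F) - 1) *
            (((c⁻¹ : ↥(Cfsg.SU n F 2)) : Matrix.SpecialLinearGroup (Fin n) F) :
              Matrix (Fin n) (Fin n) F) := by
        have e2 : ((c : Matrix.SpecialLinearGroup (Fin n) F) : Matrix (Fin n) (Fin n) F) *
            (((c⁻¹ : ↥(Cfsg.SU n F 2)) : Matrix.SpecialLinearGroup (Fin n) F) :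
              Matrix (Fin n) (Fin n) F) = 1 := by
          rw [← Matrix.SpecialLinearGroup.coe_mul, ← Subgroup.coe_mul, mul_inv_cancel]
          rfl
        rw [Subgroup.coe_mul, Subgroup.coe_mul, Matrix.SpecialLinearGroup.coe_mul,
          Matrix.SpecialLinearGroup.coe_mul, Matrix.mul_sub, Matrix.sub_mul, Matrix.mul_one, e2]
      rw [e1, Matrix.rank_mul_eq_left_of_isUnit_det, Matrix.rank_mul_eq_right_of_isUnit_det]
      · exact hd₀
      · rw [(c : Matrix.SpecialLinearGroup (Fin n) F).2]; exact isUnit_one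
      · rw [((c⁻¹ : ↥(Cfsg.SU n F 2)) : Matrix.SpecialLinearGroup (Fin n) F).2]; exact isUnit_one
  · -- generation
    rw [eq_top_iff, ← hgen, Subgroup.closure_le]
    rintro A ⟨v, c, hv, hA⟩
    by_cases h1 : A = 1
    · rw [h1]; exact Subgroup.one_mem _
    · apply Subgroup.subset_closure
      show (((A : Matrix.SpecialLinearGroup (Fin n) F) : Matrix (Fin n) (Fin n) F) - 1).rank = 1
      have hmat : ((A : Matrix.SpecialLinearGroup (Fin n) F) : Matrix (Fin n) (Fin n) F) - 1 =
          Matrix.vecMulVec v (fun j => c * (v j) ^ 2) := by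
        rw [hA]
        unfold Cfsg.unitaryTransvection
        ext i j
        simp [Matrix.vecMulVec_apply]
        ring
      rw [hmat]
      apply le_antisymm (Matrix.rank_vecMulVec_le _ _)
      rw [Nat.one_le_iff_ne_zero]
      intro h0
      have h2 : Module.finrank F (LinearMap.range
          (Matrix.vecMulVec v (fun j => c * (v j) ^ 2)).mulVecLin) = 0 := h0
      rw [Submodule.finrank_eq_zero, LinearMap.range_eq_bot] at h2
      apply h1
      apply Subtype.ext
      apply Subtype.ext
      have h3 : Matrix.vecMulVec v (fun j => c * (v j) ^ 2) = 0 := by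
        apply Matrix.toLin'.injective
        rw [map_zero]
        exact h2
      rw [h3] at hmat
      exact sub_eq_zero.mp hmat


/-- The unitary transvections of SU(n, 2), n ≥ 4, form a generating conjugacy class of 3-transpositions. -/
theorem result (F : Type) [Field F] [Fintype F] [DecidableEq F] (hF : Fintype.card F = 4) (n : ℕ) (hn : 4 ≤ n) : Cfsg.IsThreeTranspositionClass {g : ↥(Cfsg.SU n F 2) | (((g : Matrix.SpecialLinearGroup (Fin n) F) : Matrix (Fin n) (Fin n) F) - 1).rank = 1} := by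
  have hF' : Fintype.card F = 2 ^ 2 := hF.trans (by norm_num)
  exact aux F hF n hn (Cfsg.Agent.S0780.result hF' n (by omega) (by omega))

end Cfsg.Agent.S1631
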