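import Cfsg.Statements.S1635
import Cfsg.Agent.Lib.Helper27.Golay24

set_option autoImplicit false
open Cfsg

namespace Cfsg.Agent.S1635

open Cfsg.Agent.Lib.Helper27 Cfsg.Agent.Lib.Helper93

theorem set_image (w : GolayPt → ZMod 2) :
    {u : W24 | u - phi24 w ∈ golay24 ∧ hammingNorm u ≤ 4} =
      phi24 '' {v : GolayPt → ZMod 2 | hammingNorm v ≤ 4 ∧ w - v ∈ golayCode} := by
  ext u
  simp only [Set.mem_ofPred_eq, Set.mem_image]
  constructor
  · rintro ⟨h1, h2⟩
    refine ⟨phi24.symm u, ⟨?_, ?_⟩, phi24.apply_symm_apply u⟩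
    · rw [← hammingNorm_phi24, phi24.apply_symm_apply]; exact h2
    · have : u - phi24 w = phi24 (phi24.symm u - w) := by
        rw [map_sub, phi24.apply_symm_apply]
      rw [this, mem_golay24] at h1
      have := golayCode.neg_mem h1
      rwa [neg_sub] at this
  · rintro ⟨v, ⟨h1, h2⟩, rfl⟩
    refine ⟨?_, by rw [hammingNorm_phi24]; exact h1⟩
    rw [← map_sub, mem_golay24]
    have := golayCode.neg_mem h2
    rwa [neg_sub] at this

theorem ncard_eq (w : GolayPt → ZMod 2) :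
    {u : W24 | u - phi24 w ∈ golay24 ∧ hammingNorm u ≤ 4}.ncard =
      {v : GolayPt → ZMod 2 | hammingNorm v ≤ 4 ∧ w - v ∈ golayCode}.ncard := by
  rw [set_image, Set.ncard_image_of_injective _ phi24.injective]

/-- Coset leaders of the length-24 code: a coset contains a unique word of weight ≤ 3, or else exactly six words of weight 4 and none lighter. -/
theorem result (w : Cfsg.GolayPt → ZMod 2) : ({v : Cfsg.GolayPt → ZMod 2 | hammingNorm v ≤ 4 ∧ w - v ∈ Cfsg.golayCode}.ncard = 1 ∧ ∃ v : Cfsg.GolayPt → ZMod 2, hammingNorm v ≤ 3 ∧ w - v ∈ Cfsg.golayCode) ∨ ({v : Cfsg.GolayPt → ZMod 2 | hammingNorm v ≤ 4 ∧ w - v ∈ Cfsg.golayCode}.ncard = 6 ∧ ∀ v : Cfsg.GolayPt → ZMod 2, w - v ∈ Cfsg.golayCode → hammingNorm v ≤ 4 → hammingNorm v = 4) := by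
  rcases code24_golay24.fiber_cases (phi24 w) with ⟨u, hu, hu3⟩ | ⟨h6, hall⟩
  · left
    refine ⟨?_, ?_⟩
    · rw [← ncard_eq, hu, Set.ncard_singleton]
    · have hmem : u ∈ {u : W24 | u - phi24 w ∈ golay24 ∧ hammingNorm u ≤ 4} := by
        rw [hu]; exact Set.mem_singleton u
      rw [set_image] at hmem
      obtain ⟨v, ⟨_, hv2⟩, rfl⟩ := hmem
      exact ⟨v, by rw [← hammingNorm_phi24]; exact hu3, hv2⟩
  · right
    refine ⟨by rw [← ncard_eq]; exact h6, ?_⟩
    intro v hv1 hv2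
    have hmem : phi24 v ∈ {u : W24 | u - phi24 w ∈ golay24 ∧ hammingNorm u ≤ 4} := by
      rw [set_image]
      exact ⟨v, ⟨hv2, hv1⟩, rfl⟩
    have := (hall _ hmem).1
    rwa [hammingNorm_phi24] at this

end Cfsg.Agent.S1635
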