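import Cfsg.Statements.S1637
import Cfsg.Agent.Lib.Helper27.Punctured
import Cfsg.Agent.S1635

set_option autoImplicit false
open Cfsg

namespace Cfsg.Agent.S1637

open Cfsg.Agent.Lib.Helper27 Cfsg.Agent.Lib.Golay


theorem zmod2_ite' : ∀ a : ZMod 2, (if a ≠ 0 then (1 : ZMod 2) else 0) = a := by decide

/-- parity of the weight is the coordinate sum -/
theorem cast_hammingNorm {ι : Type*} [Fintype ι] (a : ι → ZMod 2) :
    ((hammingNorm a : ℕ) : ZMod 2) = ∑ i, a i := by
  unfold hammingNorm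
  rw [Finset.card_filter, Nat.cast_sum]
  apply Finset.sum_congr rfl
  intro i _
  rw [Nat.cast_ite, Nat.cast_one, Nat.cast_zero]
  exact zmod2_ite' (a i)

theorem sum_code {c : GolayPt → ZMod 2} (hc : c ∈ golayCode) : ∑ p, c p = 0 := by
  rw [← cast_hammingNorm]
  rcases hammingNorm_of_mem hc with h | h | h | h | h <;> rw [h] <;> decide

/-- extension of a word by a value at the extra point -/
def ext23 (u : ZMod 23 → ZMod 2) (b : ZMod 2) : GolayPt → ZMod 2 := fun p => p.elim b u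

theorem sum_ext23 (u : ZMod 23 → ZMod 2) (b : ZMod 2) : ∑ p, ext23 u b p = b + ∑ x, u x := by
  rw [Fintype.sum_option]
  rfl

theorem close_of_leader (u : ZMod 23 → ZMod 2) (b : ZMod 2) (v : GolayPt → ZMod 2)
    (hv : hammingNorm v ≤ 3) (hmem : ext23 u b - v ∈ golayCode) :
    ∃ c ∈ punct, hammingDist u c ≤ 3 := by
  refine ⟨fun x => (ext23 u b - v) (some x), ⟨_, hmem, fun x => rfl⟩, ?_⟩
  refine le_trans ?_ hv
  unfold hammingDist hammingNorm
  apply Finset.card_le_card_of_injOn (fun x => some x)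
  · intro x hx
    simp only [Finset.coe_filter, Finset.mem_univ, true_and, Set.mem_ofPred_eq] at hx ⊢
    intro h0
    apply hx
    simp [ext23, h0]
  · intro x _ y _ h
    exact Option.some.inj h

theorem sum_of_case2 (w : GolayPt → ZMod 2)
    (h6 : {v : GolayPt → ZMod 2 | hammingNorm v ≤ 4 ∧ w - v ∈ golayCode}.ncard = 6)
    (h4 : ∀ v : GolayPt → ZMod 2, w - v ∈ golayCode → hammingNorm v ≤ 4 → hammingNorm v = 4) :
    ∑ p, w p = 0 := by
  have hne : {v : GolayPt → ZMod 2 | hammingNorm v ≤ 4 ∧ w - v ∈ golayCode}.Nonempty := by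
    rw [← Set.ncard_pos, h6]; norm_num
  obtain ⟨v, hv1, hv2⟩ := hne
  have hv4 := h4 v hv2 hv1
  have h1 := sum_code hv2
  have h2 : ∑ p, v p = 0 := by
    rw [← cast_hammingNorm, hv4]; decide
  simp only [Pi.sub_apply, Finset.sum_sub_distrib, h2, sub_zero] at h1
  exact h1

theorem exists_close (u : ZMod 23 → ZMod 2) : ∃ c ∈ punct, hammingDist u c ≤ 3 := by
  rcases Cfsg.Agent.S1635.result (ext23 u 0) with ⟨_, v, hv, hmem⟩ | ⟨h6, h4⟩
  · exact close_of_leader u 0 v hv hmem
  rcases Cfsg.Agent.S1635.result (ext23 u 1) with ⟨_, v, hv, hmem⟩ | ⟨h6', h4'⟩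
  · exact close_of_leader u 1 v hv hmem
  exfalso
  have h0 := sum_of_case2 _ h6 h4
  have h1 := sum_of_case2 _ h6' h4'
  rw [sum_ext23] at h0 h1
  rw [zero_add] at h0
  rw [h0] at h1
  revert h1
  decide

/-- The punctured length-23 code is a perfect 3-error-correcting code: each word of length 23 is within distance 3 of exactly one codeword. -/
theorem result (u : ZMod 23 → ZMod 2) : ∃! c : ZMod 23 → ZMod 2, c ∈ {u : ZMod 23 → ZMod 2 | ∃ w ∈ Cfsg.golayCode, ∀ x : ZMod 23, u x = w (some x)} ∧ hammingDist u c ≤ 3 := by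
  have hP : {u : ZMod 23 → ZMod 2 | ∃ w ∈ Cfsg.golayCode, ∀ x : ZMod 23, u x = w (some x)} = punct := rfl
  rw [hP]
  obtain ⟨c, hc, hd⟩ := exists_close u
  refine ⟨c, ⟨hc, hd⟩, ?_⟩
  rintro c' ⟨hc', hd'⟩
  by_contra hne
  have h6 : hammingDist c' c ≤ 6 := by
    calc hammingDist c' c ≤ hammingDist c' u + hammingDist u c := hammingDist_triangle _ _ _
      _ ≤ 3 + 3 := by
        rw [hammingDist_comm c' u]
        exact Nat.add_le_add hd' hd
  rw [hammingDist_eq_hammingNorm, neg_add_eq_sub] at h6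
  have h7 := punct_min_weight (punct_sub_mem hc hc') (sub_ne_zero.mpr (Ne.symm hne))
  omega

end Cfsg.Agent.S1637
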