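import Cfsg.Statements.S1638
import Cfsg.Agent.Lib.Helper27.GolayDuads

set_option autoImplicit false
open scoped Pointwise
open Cfsg

namespace Cfsg.Agent.S1638

open Cfsg.Agent.Lib.Helper26 Cfsg.Agent.Lib.Helper27

def gC : List PermData := [⟨[0, 1, 2, 5, 18, 17, 7, 19, 15, 16, 4, 20, 9, 8, 14, 13, 12, 3, 10, 6, 22, 21, 11, 23], [0, 1, 2, 17, 10, 3, 19, 6, 13, 12, 18, 22, 16, 15, 14, 8, 9, 5, 4, 7, 11, 21, 20, 23]⟩,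
  ⟨[0, 2, 1, 15, 19, 9, 22, 16, 17, 18, 8, 14, 3, 6, 20, 11, 21, 10, 5, 4, 12, 13, 7, 23], [0, 2, 1, 12, 19, 18, 13, 22, 10, 5, 17, 15, 20, 21, 11, 3, 7, 8, 9, 4, 14, 16, 6, 23]⟩,
  ⟨[0, 1, 2, 17, 10, 3, 19, 6, 13, 12, 18, 22, 16, 15, 14, 8, 9, 5, 4, 7, 11, 21, 20, 23], [0, 1, 2, 5, 18, 17, 7, 19, 15, 16, 4, 20, 9, 8, 14, 13, 12, 3, 10, 6, 22, 21, 11, 23]⟩,
  ⟨[0, 2, 1, 12, 19, 18, 13, 22, 10, 5, 17, 15, 20, 21, 11, 3, 7, 8, 9, 4, 14, 16, 6, 23], [0, 2, 1, 15, 19, 9, 22, 16, 17, 18, 8, 14, 3, 6, 20, 11, 21, 10, 5, 4, 12, 13, 7, 23]⟩]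

def cA : ℕ := 10

def wA : List (List ℕ) := [[], [2, 1, 1, 1, 0], [2, 1, 1, 0], [2, 3, 0], [0], [1, 1, 1, 0], [1, 0, 1], [3, 2, 1, 1], [3, 2, 3], [1, 2, 1, 1], [1, 1, 2], [2, 1], [3, 3, 0], [1, 0], [3, 2, 1], [1, 2], [1, 1], [0, 1, 1, 0, 1], [2, 3, 3, 0], [3], [2, 1, 1, 2], [0, 1], [3, 3, 2, 3, 3, 0], [1, 1, 1], [0, 1, 1, 2], [1], [0, 3, 3, 0], [2, 3], [2], [3, 3, 2, 1], [1, 1, 0], [3, 0], [1, 2, 3, 0], [1, 2, 1, 1, 0], [3, 3], [3, 2, 3, 3, 0], [3, 0, 1], [1, 0, 3, 3, 0], [2, 1, 1], [1, 1, 0, 1]]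

def cB : ℕ := 40

def wB : List (List ℕ) := [[], [2, 3, 2, 3], [1, 0], [1, 1, 2], [2, 1], [2, 3, 3], [2, 3, 0], [2, 1, 1, 1], [1, 1, 1], [1], [1, 2], [2, 3], [0, 1], [2], [0], [3, 0, 1, 1], [3, 0], [1, 1], [3], [1, 2, 3, 0], [3, 2, 3], [3, 3], [0, 1, 1], [0, 1, 1, 2], [1, 0, 1], [3, 0, 1], [1, 2, 3], [2, 1, 1], [1, 1, 0, 1], [0, 3, 3]]

def cC : ℕ := 24

def wC : List (List ℕ) := [[], [0, 3, 0, 1, 1, 0, 1, 0], [2, 1, 1, 0, 3], [1, 1, 0, 1, 0, 1, 0], [1, 2, 1, 2], [0, 3, 2, 1, 1], [3, 3, 0, 1, 0, 1, 0], [1, 1, 0, 3], [3, 3, 2, 3, 3], [3, 0, 1, 1, 0, 3], [2, 3, 2, 3, 3], [0, 1, 0, 1, 0, 1, 0], [2, 1], [1, 1, 0, 1, 1], [1, 2, 3, 2, 1, 1], [1, 0], [0, 3], [2, 3, 0, 1, 0, 1, 0], [2, 1, 0, 3, 2, 1, 1], [3, 0, 1, 1, 0, 1, 0], [1, 0, 1, 1, 0, 3], [0, 3, 2, 1, 1, 0, 3, 0], [1, 1, 1, 0, 3, 0], [1, 2, 3, 0, 1, 2, 3, 3], [1, 2], [3, 0, 1, 2,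 3, 3], [1, 1], [3, 3, 0, 1, 1], [1, 2, 1, 1, 0, 1, 0], [0, 1, 0, 1], [2, 1, 2, 1, 1, 1], [2, 3, 3], [2, 1, 0], [2, 3, 0], [1, 0, 1, 1], [1, 0, 1, 0, 3, 2], [3, 3, 2, 3, 0, 1], [2, 3, 3, 2, 3, 2], [1, 1, 1, 2, 3, 3], [1, 0, 1, 2, 3], [2, 3, 2], [0, 1], [0, 3, 3, 2, 1, 1, 1], [1, 1, 0, 1, 0], [0, 1, 1, 2, 3, 0, 1, 1], [0, 1, 1, 1, 0, 1, 1], [1, 2, 3, 0, 1], [3, 2, 1, 1, 0, 3], [3, 3, 2, 3, 0], [0, 1, 1, 1], [2, 1, 1, 1], [1, 2, 3, 3], [3, 0, 1, 1], [2, 3, 3, 2, 3, 0], [1, 1, 0, 3, 2], [2, 3, 0, 1, 1], [3, 2, 3, 2, 3], [0, 3, 2], [0, 1, 2], [2, 1, 1, 0, 3, 0], [3, 3, 2, 1, 1, 1], [3, 2, 3, 2, 1, 0], [0, 1, 1, 0, 1, 0], [1, 0, 3, 2], [1, 1, 2, 3, 0, 1, 1], [2, 1, 1, 0, 1, 0], [0, 1, 2, 3, 3], [3, 2, 3, 0, 1], [3, 3, 2, 1, 2], [2, 3, 3, 2, 3, 0, 1], [2, 3], [2, 1, 1, 2, 3, 0, 1, 1], [3, 3, 2, 3, 2], [0, 3, 0], [2, 3, 2, 1, 0], [0, 3,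 3, 2, 3, 2], [1, 0, 1, 0, 1], [1, 0, 3, 2, 1, 1], [3, 0, 1, 0, 3, 2, 1, 0], [3, 2, 1, 1], [3, 0, 3, 0], [3, 2], [0, 1, 0, 1, 1], [2], [1, 0, 1, 1, 0, 1, 0], [2, 1, 1, 0, 1, 1], [1, 1, 0, 3, 0], [3, 2, 3, 3], [0, 1, 0], [3, 2, 1, 1, 0, 3, 0], [3, 2, 3, 2, 1, 1], [0], [3, 0, 1, 2, 3, 0, 1, 1], [1, 0, 3, 2, 1, 0], [3, 0], [1, 0, 1, 0, 1, 1], [2, 1, 2], [0, 3, 3, 2, 3, 0], [1, 1, 1, 0, 1, 1], [0, 1, 2, 3, 2, 1, 1], [2, 3, 0, 1, 1, 0, 1, 0], [1, 2, 3, 0], [2, 3, 0, 1, 2, 3, 0, 1, 1], [2, 3, 2, 1, 1], [2, 3, 3, 2, 1, 1, 1], [0, 3, 3, 2, 3, 0, 1], [0, 1, 0, 3, 2, 1, 0], [1, 0, 1, 2], [3], [1, 0, 1, 0, 1, 0], [1, 1, 1], [1], [3, 0, 1, 0, 1, 0], [0, 1, 1, 0, 3], [2, 1, 1, 1, 0, 3, 0], [1, 2, 3, 0, 1, 1], [3, 3], [1, 0, 3, 3, 2, 3, 0], [2, 3, 2, 3], [1, 0, 3, 3, 2, 1, 0], [2, 3, 0, 1, 0, 1], [3, 2, 3, 0, 1, 1], [3, 2, 1, 0], [0, 1, 0, 3, 2],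 [3, 3, 2, 1, 0], [1, 2, 1, 1, 1], [1, 1, 2, 3, 3], [0, 1, 1], [3, 2, 3, 0], [3, 2, 1, 1, 0, 1, 0], [0, 1, 0, 1, 0], [0, 3, 2, 1, 1, 0, 1, 0], [1, 0, 3, 0], [3, 2, 1, 2], [1, 0, 1, 0], [3, 3, 2, 3, 2, 3], [0, 1, 2, 3], [3, 0, 1], [1, 2, 3, 2, 1, 0], [2, 3, 0, 1], [1, 2, 3], [2, 3, 2, 1, 1, 0, 1, 0], [3, 2, 3, 2], [1, 1, 0, 1, 0, 1], [2, 3, 3, 0, 1, 1], [0, 1, 2, 3, 0, 1, 1], [1, 0, 1], [3, 2, 3], [3, 3, 0, 3, 0], [0, 3, 2, 1, 0], [2, 1, 1], [3, 2, 1, 1, 1], [1, 2, 3, 2, 3], [0, 3, 3, 2, 1, 0], [3, 0, 1, 0, 1], [2, 3, 0, 1, 2, 3, 3], [1, 0, 3], [1, 1, 1, 0, 1, 0, 1, 0], [1, 0, 1, 1, 1], [0, 1, 1, 0, 1, 0, 1]]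

def oc77 : List ℕ := octL.filter (fun c => c.testBit 23 && c.testBit 0)

def prop (m : ℕ) : Bool := oc77.any (fun c => (6 ||| m) &&& c == (6 ||| m))
def typ (m : ℕ) : Bool := !m.testBit 23 && !m.testBit 0
def fA (m : ℕ) : Bool := typ m && (pc 24 (6 &&& m) == 1)
def fB (m : ℕ) : Bool := typ m && (pc 24 (6 &&& m) == 0) && prop m
def fC (m : ℕ) : Bool := typ m && (pc 24 (6 &&& m) == 0) && !prop m

theorem gC_ok : gC.all (fun d => inStabK d [23, 0] [6]) = true := by decide +kernel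
theorem pathsA : checkPaths gC cA (duadL.filter fA) wA = true := by decide +kernel
theorem pathsB : checkPaths gC cB (duadL.filter fB) wB = true := by decide +kernel
theorem pathsC : checkPaths gC cC (duadL.filter fC) wC = true := by decide +kernel
theorem lenB : (duadL.filter fB).length = 30 := by decide +kernel
theorem lenC : (duadL.filter fC).length = 160 := by decide +kernel
theorem classify : ∀ m ∈ duadL, typ m = true → m ≠ 6 →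
    (pc 24 (6 &&& m) = 1 ∨ pc 24 (6 &&& m) = 0) := by decide +kernel

/-- the octad property of a two-element set relative to the base configuration -/
def Prop0 (t : Finset GolayPt) : Prop :=
  ∃ o ∈ octads, pt 23 ∈ o ∧ pt 0 ∈ o ∧ dec 6 ∪ t ⊆ o

theorem prop0_iff {m : ℕ} (hm : m ∈ duadL) : Prop0 (dec m) ↔ prop m = true := by
  have hlt : 6 ||| m < 2 ^ 24 := Nat.or_lt_two_pow (by norm_num) (duadL_lt m hm)
  unfold Prop0 prop oc77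
  rw [List.any_eq_true]
  constructor
  · rintro ⟨o, ho, h23, h0, hsub⟩
    obtain ⟨c, hc, rfl⟩ := (mem_octads_iff o).mp ho
    rw [pt_mem_dec_iff 23 (by norm_num)] at h23
    rw [pt_mem_dec_iff 0 (by norm_num)] at h0
    rw [← dec_lor, dec_subset_iff _ _ hlt] at hsub
    refine ⟨c, List.mem_filter.mpr ⟨hc, by simp [h23, h0]⟩, by simp [hsub]⟩
  · rintro ⟨c, hc, hsub⟩
    rw [List.mem_filter] at hc
    simp only [Bool.and_eq_true] at hc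
    refine ⟨dec c, (mem_octads_iff _).mpr ⟨c, hc.1, rfl⟩, ?_, ?_, ?_⟩
    · rw [pt_mem_dec_iff 23 (by norm_num)]; exact hc.2.1
    · rw [pt_mem_dec_iff 0 (by norm_num)]; exact hc.2.2
    · rw [← dec_lor, dec_subset_iff _ _ hlt]; exact beq_iff_eq.mp hsub

theorem typ_iff (m : ℕ) : (pt 23 ∉ dec m ∧ pt 0 ∉ dec m) ↔ typ m = true := by
  rw [pt_mem_dec_iff 23 (by norm_num), pt_mem_dec_iff 0 (by norm_num), typ, Bool.and_eq_true]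
  simp

theorem hB : ∀ m ∈ duadL, ((pt 23 ∉ dec m ∧ pt 0 ∉ dec m) ∧ Disjoint (dec 6) (dec m) ∧ Prop0 (dec m)) ↔
    fB m = true := by
  intro m hm
  rw [typ_iff, disjoint_dec_iff, prop0_iff hm, fB, Bool.and_eq_true, Bool.and_eq_true, beq_iff_eq,
    and_assoc]

theorem hC : ∀ m ∈ duadL, ((pt 23 ∉ dec m ∧ pt 0 ∉ dec m) ∧ Disjoint (dec 6) (dec m) ∧ ¬ Prop0 (dec m)) ↔
    fC m = true := by
  intro m hm
  rw [typ_iff, disjoint_dec_iff, prop0_iff hm, fC, Bool.and_eq_true, Bool.and_eq_true, beq_iff_eq,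
    and_assoc]
  simp

theorem hA : ∀ m ∈ duadL, ((pt 23 ∉ dec m ∧ pt 0 ∉ dec m) ∧ (dec 6 ∩ dec m).card = 1) ↔
    fA m = true := by
  intro m _
  rw [typ_iff, card_dec_inter, fA, Bool.and_eq_true, beq_iff_eq]

theorem dec6 : dec 6 = {pt 1, pt 2} := dec_pair 1 2 (by norm_num) (by norm_num)

theorem config_trans (p q : GolayPt) (hpq : p ≠ q) (s : Finset GolayPt)
    (hs : s.card = 2 ∧ p ∉ s ∧ q ∉ s) :
    ∃ g ∈ M24, g (pt 23) = p ∧ g (pt 0) = q ∧ g • dec 6 = s := by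
  obtain ⟨a, b, hab, rfl⟩ := Finset.card_eq_two.mp hs.1
  have hpa : p ≠ a := fun h => hs.2.1 (by simp [h])
  have hpb : p ≠ b := fun h => hs.2.1 (by simp [h])
  have hqa : q ≠ a := fun h => hs.2.2 (by simp [h])
  have hqb : q ≠ b := fun h => hs.2.2 (by simp [h])
  obtain ⟨g, hg, h⟩ := isTransOn4 [b, a, q, p] rfl (by
    simp only [List.nodup_cons, List.mem_cons, List.not_mem_nil, or_false, not_or, List.nodup_nil,
      and_true, not_false_eq_true]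
    exact ⟨⟨hab.symm, hqb.symm, hpb.symm⟩, ⟨hqa.symm, hpa.symm⟩, hpq.symm⟩)
  simp only [List.map_cons, List.map_nil, List.cons.injEq, and_true] at h
  obtain ⟨h2, h1, h0, h23⟩ := h
  refine ⟨g, hg, h23.symm, h0.symm, ?_⟩
  rw [dec6, Finset.smul_finset_insert, Finset.smul_finset_singleton]
  show {g (pt 1), g (pt 2)} = ({a, b} : Finset GolayPt)
  rw [← h1, ← h2]

theorem prop_transport (g : Equiv.Perm GolayPt) (hg : g ∈ M24) (t : Finset GolayPt) :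
    (∃ o ∈ octads, g (pt 23) ∈ o ∧ g (pt 0) ∈ o ∧ g • dec 6 ∪ g • t ⊆ o) ↔ Prop0 t := by
  unfold Prop0
  constructor
  · rintro ⟨o, ho, h23, h0, hsub⟩
    refine ⟨g⁻¹ • o, (smul_mem_octads_iff (M24.inv_mem hg) o).mpr ho, ?_, ?_, ?_⟩
    · rw [← apply_mem_smul_iff g, smul_inv_smul]; exact h23
    · rw [← apply_mem_smul_iff g, smul_inv_smul]; exact h0
    · rw [← Finset.smul_finset_union] at hsub
      have := Finset.smul_finset_subset_smul_finset (a := g⁻¹) hsub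
      rwa [inv_smul_smul] at this
  · rintro ⟨o, ho, h23, h0, hsub⟩
    refine ⟨g • o, (smul_mem_octads_iff hg o).mpr ho, ?_, ?_, ?_⟩
    · rw [apply_mem_smul_iff]; exact h23
    · rw [apply_mem_smul_iff]; exact h0
    · rw [← Finset.smul_finset_union]
      exact Finset.smul_finset_subset_smul_finset hsub

theorem base_countB : {t : Finset GolayPt | t.card = 2 ∧
    ((pt 23 ∉ t ∧ pt 0 ∉ t) ∧ Disjoint (dec 6) t ∧ Prop0 t)}.ncard = 30 := by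
  rw [ncard_duads_filter _ fB hB, lenB]

theorem base_countC : {t : Finset GolayPt | t.card = 2 ∧
    ((pt 23 ∉ t ∧ pt 0 ∉ t) ∧ Disjoint (dec 6) t ∧ ¬ Prop0 t)}.ncard = 160 := by
  rw [ncard_duads_filter _ fC hC, lenC]

theorem base_trans (t t' : Finset GolayPt) (ht : t.card = 2 ∧ pt 23 ∉ t ∧ pt 0 ∉ t)
    (ht' : t'.card = 2 ∧ pt 23 ∉ t' ∧ pt 0 ∉ t') (hne : t ≠ dec 6) (hne' : t' ≠ dec 6)
    (hc : (dec 6 ∩ t).card = (dec 6 ∩ t').card) (hp : Prop0 t ↔ Prop0 t') :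
    ∃ g : Equiv.Perm GolayPt, g ∈ M24 ∧ g (pt 23) = pt 23 ∧ g (pt 0) = pt 0 ∧
      g • dec 6 = dec 6 ∧ g • t = t' := by
  obtain ⟨a, ha, rfl⟩ := exists_duad t ht.1
  obtain ⟨b, hb, rfl⟩ := exists_duad t' ht'.1
  have hta : typ a = true := (typ_iff a).mp ht.2
  have htb : typ b = true := (typ_iff b).mp ht'.2
  have hpab : prop a = prop b := by
    rw [prop0_iff ha, prop0_iff hb] at hp
    exact Bool.eq_iff_iff.mpr hp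
  rw [card_dec_inter, card_dec_inter] at hc
  have ha6 : a ≠ 6 := fun h => hne (by rw [h])
  have key : ∀ (f : ℕ → Bool) (c₀ : ℕ) (ws : List (List ℕ)),
      checkPaths gC c₀ (duadL.filter f) ws = true → f a = true → f b = true →
      ∃ g : Equiv.Perm GolayPt, g ∈ M24 ∧ g (pt 23) = pt 23 ∧ g (pt 0) = pt 0 ∧
        g • dec 6 = dec 6 ∧ g • dec a = dec b := by
    intro f c₀ ws hpaths hfa hfb
    obtain ⟨g, hg, hgab⟩ := orbit_pairs (stabK_orbit_cert gC [23, 0] [6] gC_ok c₀ _ ws hpaths)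
      a (List.mem_filter.mpr ⟨ha, hfa⟩) b (List.mem_filter.mpr ⟨hb, hfb⟩)
    exact ⟨g, hg.1, hg.2.1 23 (by simp), hg.2.1 0 (by simp), hg.2.2 6 (by simp), hgab⟩
  rcases classify a ha hta ha6 with h | h
  · exact key fA cA wA pathsA (by simp [fA, hta, h]) (by simp [fA, htb, ← hc, h])
  · cases hpa : prop a
    · exact key fC cC wC pathsC (by simp [fC, hta, h, hpa]) (by simp [fC, htb, ← hc, h, ← hpab, hpa])
    · exact key fB cB wB pathsB (by simp [fB, hta, h, hpa]) (by simp [fB, htb, ← hc, h, ← hpab, hpa])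

/-- Fix two points p ≠ q and a pair s of two further points. Among the pairs avoiding p, q and disjoint from s, exactly 30 lie in an octad together with p, q and s and exactly 160 do not; and any two pairs other than s that meet s in equally many points and agree on that octad property are carried to one another by an element of the group of the length-24 code fixing p, q and s. -/
theorem result (p q : Cfsg.GolayPt) (hpq : p ≠ q) (s : Finset Cfsg.GolayPt) (hs : (s.card = 2 ∧ p ∉ s ∧ q ∉ s)) : {t : Finset Cfsg.GolayPt | (t.card = 2 ∧ p ∉ t ∧ q ∉ t) ∧ Disjoint s t ∧ (∃ o ∈ Cfsg.octads, p ∈ o ∧ q ∈ o ∧ s ∪ t ⊆ o)}.ncard = 30 ∧ {t : Finset Cfsg.GolayPt | (t.card = 2 ∧ p ∉ t ∧ q ∉ t) ∧ Disjoint s t ∧ ¬ (∃ o ∈ Cfsg.octads, p ∈ o ∧ q ∈ o ∧ s ∪ t ⊆ o)}.ncard = 160 ∧ ∀ t t' : Finset Cfsg.GolayPt, (t.card = 2 ∧ p ∉ t ∧ q ∉ t) → (t'.card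 = 2 ∧ p ∉ t' ∧ q ∉ t') → t ≠ s → t' ≠ s → (s ∩ t).card = (s ∩ t').card → ((∃ o ∈ Cfsg.octads, p ∈ o ∧ q ∈ o ∧ s ∪ t ⊆ o) ↔ (∃ o ∈ Cfsg.octads, p ∈ o ∧ q ∈ o ∧ s ∪ t' ⊆ o)) → ∃ g : Equiv.Perm Cfsg.GolayPt, g ∈ Cfsg.M24 ∧ g p = p ∧ g q = q ∧ g • s = s ∧ g • t = t' := by
  obtain ⟨g, hg, rfl, rfl, rfl⟩ := config_trans p q hpq s hs
  have hgi := M24.inv_mem hg
  refine ⟨?_, ?_, ?_⟩
  · rw [ncard_smul_transport g (fun t => t.card = 2 ∧ ((pt 23 ∉ t ∧ pt 0 ∉ t) ∧ Disjoint (dec 6) t ∧ Prop0 t))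
      (fun t => (t.card = 2 ∧ g (pt 23) ∉ t ∧ g (pt 0) ∉ t) ∧ Disjoint (g • dec 6) t ∧
        (∃ o ∈ Cfsg.octads, g (pt 23) ∈ o ∧ g (pt 0) ∈ o ∧ g • dec 6 ∪ t ⊆ o))
      (by intro t; rw [Finset.card_smul_finset, apply_mem_smul_iff, apply_mem_smul_iff,
            smul_disjoint_iff, prop_transport g hg]; exact and_assoc)]
    exact base_countB
  · rw [ncard_smul_transport g (fun t => t.card = 2 ∧ ((pt 23 ∉ t ∧ pt 0 ∉ t) ∧ Disjoint (dec 6) t ∧ ¬ Prop0 t))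
      (fun t => (t.card = 2 ∧ g (pt 23) ∉ t ∧ g (pt 0) ∉ t) ∧ Disjoint (g • dec 6) t ∧
        ¬ (∃ o ∈ Cfsg.octads, g (pt 23) ∈ o ∧ g (pt 0) ∈ o ∧ g • dec 6 ∪ t ⊆ o))
      (by intro t; rw [Finset.card_smul_finset, apply_mem_smul_iff, apply_mem_smul_iff,
            smul_disjoint_iff, prop_transport g hg]; exact and_assoc)]
    exact base_countC
  · intro t t' ht ht' hne hne' hc hp
    have e : ∀ u : Finset GolayPt, g • (g⁻¹ • u) = u := fun u => smul_inv_smul g u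
    obtain ⟨k, hk, hk23, hk0, hks, hkt⟩ := base_trans (g⁻¹ • t) (g⁻¹ • t')
      ⟨by rw [Finset.card_smul_finset]; exact ht.1,
       by rw [← apply_mem_smul_iff g, e]; exact ht.2.1,
       by rw [← apply_mem_smul_iff g, e]; exact ht.2.2⟩
      ⟨by rw [Finset.card_smul_finset]; exact ht'.1,
       by rw [← apply_mem_smul_iff g, e]; exact ht'.2.1,
       by rw [← apply_mem_smul_iff g, e]; exact ht'.2.2⟩
      (by intro h; apply hne; rw [← e t, h])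
      (by intro h; apply hne'; rw [← e t', h])
      (by rw [← smul_inter_card g, ← smul_inter_card g (dec 6), e, e]; exact hc)
      (by rw [← prop_transport g hg, ← prop_transport g hg, e, e]; exact hp)
    refine ⟨g * k * g⁻¹, M24.mul_mem (M24.mul_mem hg hk) hgi, ?_, ?_, ?_, ?_⟩
    · simp [Equiv.Perm.mul_apply, hk23]
    · simp [Equiv.Perm.mul_apply, hk0]
    · rw [mul_smul, mul_smul, inv_smul_smul, hks]
    · rw [mul_smul, mul_smul, hkt, e]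

end Cfsg.Agent.S1638
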