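import Cfsg.Statements.S1639
import Cfsg.Agent.Lib.Helper27.GolayRank

set_option autoImplicit false
open scoped Pointwise
open Cfsg

namespace Cfsg.Agent.S1639

open Cfsg.Agent.Lib.Helper26 Cfsg.Agent.Lib.Helper27

def gA : List PermData := [⟨[3, 23, 20, 0, 7, 11, 13, 5, 6, 17, 10, 9, 21, 8, 19, 12, 2, 4, 14, 16, 18, 15, 22, 1], [3, 23, 16, 0, 17, 7, 8, 4, 13, 11, 10, 5, 15, 6, 18, 21, 19, 9, 20, 14, 2, 12, 22, 1]⟩,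
  ⟨[16, 5, 21, 22, 17, 9, 1, 8, 13, 23, 6, 7, 18, 10, 2, 20, 0, 4, 3, 12, 19, 15, 14, 11], [16, 6, 14, 18, 17, 1, 10, 11, 7, 5, 13, 23, 19, 8, 22, 21, 0, 4, 12, 20, 15, 2, 3, 9]⟩,
  ⟨[3, 23, 16, 0, 17, 7, 8, 4, 13, 11, 10, 5, 15, 6, 18, 21, 19, 9, 20, 14, 2, 12, 22, 1], [3, 23, 20, 0, 7, 11, 13, 5, 6, 17, 10, 9, 21, 8, 19, 12, 2, 4, 14, 16, 18, 15, 22, 1]⟩,
  ⟨[16, 6, 14, 18, 17, 1, 10, 11, 7, 5, 13, 23, 19, 8, 22, 21, 0, 4, 12, 20, 15, 2, 3, 9], [16, 5, 21, 22, 17, 9, 1, 8, 13, 23, 6, 7, 18, 10, 2, 20, 0, 4, 3, 12, 19, 15, 14, 11]⟩]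

def gB : List PermData := [⟨[0, 4, 22, 16, 17, 23, 10, 6, 9, 5, 11, 7, 20, 8, 2, 12, 3, 13, 21, 19, 14, 15, 18, 1], [0, 23, 14, 16, 1, 9, 7, 11, 13, 8, 6, 10, 15, 17, 20, 21, 3, 4, 22, 19, 12, 18, 2, 5]⟩,
  ⟨[0, 10, 12, 14, 4, 23, 1, 13, 7, 8, 6, 17, 16, 5, 3, 19, 21, 11, 20, 22, 2, 18, 15, 9], [0, 6, 20, 14, 4, 13, 10, 8, 9, 23, 1, 17, 2, 7, 3, 22, 12, 11, 21, 15, 18, 16, 19, 5]⟩,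
  ⟨[0, 23, 14, 16, 1, 9, 7, 11, 13, 8, 6, 10, 15, 17, 20, 21, 3, 4, 22, 19, 12, 18, 2, 5], [0, 4, 22, 16, 17, 23, 10, 6, 9, 5, 11, 7, 20, 8, 2, 12, 3, 13, 21, 19, 14, 15, 18, 1]⟩,
  ⟨[0, 6, 20, 14, 4, 13, 10, 8, 9, 23, 1, 17, 2, 7, 3, 22, 12, 11, 21, 15, 18, 16, 19, 5], [0, 10, 12, 14, 4, 23, 1, 13, 7, 8, 6, 17, 16, 5, 3, 19, 21, 11, 20, 22, 2, 18, 15, 9]⟩]

def ptT : List ℕ := [1, 4, 8, 4096, 16384, 32768, 65536, 262144, 524288, 1048576, 2097152, 4194304]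

def ptW : List (List ℕ) := [[], [0, 1], [0], [3, 3, 0], [1, 1, 0], [3, 2, 3, 0], [1], [3, 0], [2, 1], [2, 3, 0], [1, 0, 1], [1, 0]]

def c4 : ℕ := 10887543

def w4 : List (List ℕ) := [[], [1, 1, 0], [2, 1, 1], [2], [2, 3, 3, 0], [0, 0, 1, 2], [3, 3, 2, 2, 1, 2], [0, 0, 0, 0], [0, 0, 0], [1, 1, 2, 2, 2], [2, 2, 1, 2], [1, 2, 2, 1], [0, 1, 0, 0, 0], [0, 1, 1, 1, 2], [1, 1, 2], [0, 0, 1], [1, 0, 1, 0, 3], [0, 3, 0], [3, 3, 0], [2, 1, 0, 1], [3, 3], [0, 3, 2, 2], [2, 1, 0, 1, 0], [0, 3, 0, 0], [3, 0, 0, 3], [2, 3, 2, 3], [0, 1, 0, 3], [3, 2, 1], [0, 0, 1, 0, 0, 0], [2, 3, 0, 1, 0], [3, 2, 2, 3, 0], [2, 2, 3, 3], [2, 3, 0, 3, 0], [2, 3, 0, 1], [0, 1, 1, 1], [2, 1, 2, 3, 2], [0], [2, 2, 2], [0, 1, 1, 0], [1, 1], [2, 1, 2],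 [0, 1, 2, 2, 1], [1, 1, 0, 3, 0], [3, 3, 2, 1, 1], [3, 2, 2, 1], [3, 3, 2], [2, 3, 2, 2], [0, 1, 0, 1, 0], [1, 2, 3, 0], [1, 2, 1], [2, 1, 1, 0, 1], [2, 1, 0, 0, 3, 0], [2, 2, 1], [2, 2, 2, 3, 0], [1, 2, 2, 2], [2, 3, 3], [2, 1, 1, 0], [0, 1], [3, 2, 2, 3, 3], [1, 2, 2, 2, 1], [0, 1, 0, 1], [3, 2, 3, 2], [1, 1, 1, 0, 1], [1, 2, 2, 2, 3, 0], [0, 1, 1, 1, 0], [3, 2, 1, 1, 0], [3, 2], [3, 2, 2], [1, 2, 1, 2, 3], [2, 2, 1, 1], [1, 0, 3], [3, 0, 0], [0, 1, 2, 2], [3, 0, 3, 3, 0], [2, 3, 0, 0, 3], [3, 0], [0, 0], [2, 2], [1, 0, 1, 0], [1, 0, 1, 1, 1], [0, 3, 3], [3, 0, 1, 2], [0, 0, 1, 0, 1, 0], [0, 3, 2, 2, 1], [2, 2, 3, 3, 0], [1, 1, 1, 2], [2, 1, 2, 2, 1], [0, 1, 2], [2, 1, 1, 2], [1, 0, 0, 0], [1, 1, 2, 2], [1, 2, 2, 3,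 2], [2, 2, 2, 1], [1, 1, 2, 3, 0], [1, 1, 1], [0, 0, 3, 0], [0, 0, 1, 1, 1], [3, 3, 2, 2], [1, 2, 1, 1], [2, 1, 2, 3], [0, 0, 1, 0], [1, 1, 2, 3], [3, 2, 3, 3], [3, 0, 0, 3, 0], [3, 0, 1, 0], [0, 3, 2, 1], [2, 2, 2, 1, 1], [2, 3, 3, 0, 1], [0, 0, 0, 1], [1, 2, 3, 2], [3, 0, 3, 0], [3, 0, 1], [0, 0, 0, 1, 1, 1], [0, 0, 0, 3, 0], [1, 0, 0], [2, 3, 0, 0], [1, 2, 3], [2, 2, 1, 0], [2, 2, 3], [0, 0, 0, 1, 0], [1, 2, 1, 2], [0, 3], [3, 0, 0, 1], [1, 0, 1], [1, 2, 1, 1, 0], [1, 2, 3, 3], [1, 0, 3, 0], [3, 3, 2, 3], [1, 0, 0, 3, 0], [2, 1, 0, 0], [3, 3, 0, 1], [2, 3, 2], [0, 1, 1, 0, 1], [1], [1, 1, 1, 0], [0, 0, 3], [3, 0, 3, 3], [3, 0, 0, 0, 1], [3, 0, 1, 1, 0], [0, 1, 0], [3, 0, 0, 0, 0], [3], [0, 3, 3, 0], [0, 1, 1], [0,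 0, 1, 1, 0], [1, 2], [3, 2, 3], [0, 0, 3, 0, 0], [2, 2, 3, 2], [2, 2, 3, 0], [2, 1], [0, 1, 2, 3, 0], [1, 1, 0, 1], [2, 1, 1, 1], [0, 3, 0, 1], [0, 0, 0, 0, 1], [1, 2, 2], [1, 1, 0, 1, 0], [2, 3, 0], [3, 2, 2, 1, 2], [2, 1, 0], [2, 3], [3, 2, 1, 1], [1, 0, 3, 3, 0], [1, 0]]

def c6 : ℕ := 10743859

def w6 : List (List ℕ) := [[], [0, 1, 1, 2, 3, 0, 1], [0, 1, 0, 0, 1, 1], [2, 3, 3, 0], [0, 3, 3, 0, 1, 1, 1], [1, 2, 2, 1, 0, 3], [1, 0, 3, 3, 0, 1], [1, 0, 3, 3, 0, 1, 0], [3, 0, 1, 1, 0, 3, 0], [1, 1, 2, 3, 0, 1], [2, 1, 1, 0], [3, 2, 1, 0, 0, 0], [1, 1, 0, 0], [3, 3, 2, 1, 0, 1], [3, 0, 3, 2, 1, 0], [0, 0, 1], [0, 0, 3, 0, 3], [0, 0, 0, 3, 2, 1], [0, 3, 2, 1, 2, 2, 1], [1, 1, 0, 3, 2, 3, 2], [0, 0, 1, 2], [2, 3, 0, 1, 2,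 1], [1, 1, 1, 2, 2, 3, 2], [0, 1, 1, 1, 0], [0], [3, 0, 3, 0, 3], [0, 1, 0, 0, 1, 2], [2, 1, 0, 3, 0, 3], [0, 1, 2, 1, 2, 1], [2, 3, 3, 0, 0, 1], [0, 1, 0, 3, 3, 0, 1], [1, 1, 0], [2, 1, 1, 2, 1, 0, 1], [1, 2, 1, 0, 1, 1], [0, 3, 0, 0, 1, 1], [3, 0, 1, 0, 1, 1], [1, 1, 0, 3, 2], [2, 2, 1, 2, 2, 1, 2], [1, 0, 1, 2, 1, 0], [0, 0, 0, 1, 0, 0, 1], [2, 2, 1, 1, 1, 0, 0], [1, 2, 3, 0, 1, 0, 0], [1, 0, 0, 1, 2, 3], [1, 2, 1, 2, 1, 1, 1], [2, 3, 2, 3, 0, 0], [2, 3, 0, 3, 2, 1], [0, 1, 2, 2, 2, 1, 0], [3, 0, 3, 3, 2, 3], [3, 3, 0, 0, 0, 0], [1, 2, 3, 2, 2, 1], [3, 0, 1, 1, 0, 1], [2, 3, 2, 3, 0], [2, 1, 1], [3, 3, 0, 0, 0], [0, 0, 0, 3, 2, 2], [0, 1, 2, 2, 2, 1], [0, 0, 1, 2, 3, 3], [2, 3, 3, 0, 0, 1, 0], [3, 0, 1, 0, 1, 2, 2],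 [1, 0, 3, 0, 3, 0, 0], [2, 2, 3, 0, 1, 0], [3, 0, 3, 2, 3], [1, 2, 3, 3, 2, 3], [2, 3, 2, 1], [2, 2, 3, 0, 3], [0, 3, 0, 0, 0], [1, 0, 0, 3, 3], [0, 3, 0, 0, 0, 0], [0, 3, 3, 0, 1, 0], [0, 1, 2, 3, 2, 1], [2, 3, 2, 1, 0], [2, 2, 3, 0, 3, 0], [1, 2, 3, 0, 0, 3], [1, 2, 1, 2, 1], [1, 0, 0, 1, 2], [2], [1, 2, 1, 2, 1, 0], [3, 3, 0, 3], [2, 1, 1, 0, 3], [3, 0, 3, 2, 1], [2, 1, 0, 0, 3, 2], [1, 0, 3, 3, 2, 3], [3, 2, 1, 1, 1, 0], [2, 1, 2, 3, 3, 0, 0], [2, 3, 3, 0, 0], [3, 2, 2], [0, 3, 0, 3, 0, 1], [0, 1, 2, 2, 3, 2], [1, 0, 0, 3, 0, 0], [1, 1, 2, 1, 1, 0], [0, 0, 1, 0, 0, 1], [1, 2, 3, 2, 1, 0], [3, 3, 0, 1, 1, 1, 0], [1, 1, 0, 0, 0], [2, 2, 3, 3, 0], [1, 1, 0, 0, 3, 3], [3, 0, 0, 1, 1, 2], [0, 0, 3, 3, 0, 0, 1], [1, 0,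 0, 1, 1], [3, 0, 0, 1, 1], [3, 3, 0, 1, 1, 1], [1, 2, 3, 2, 3, 0], [3, 0, 1, 1, 0, 3, 2], [3, 3, 0, 3, 0], [2, 2, 1, 2], [0, 1, 0, 0, 0], [2, 1, 0, 0, 3], [1, 1, 1, 0, 0, 1], [2, 2, 1, 0, 1], [1, 0, 1, 0, 0, 1, 0], [1, 2, 2, 3], [3, 2, 2, 2], [0, 1, 0, 0, 0, 0], [1, 2, 2, 1, 0], [1, 0, 0, 1, 1, 2], [1, 1, 2, 3, 2, 2], [1, 2, 2, 3, 0], [0, 1, 1, 1], [2, 1, 2, 1, 0, 0, 0], [2, 1, 0, 3, 2, 1, 0], [1, 2, 3, 3, 2, 1], [0, 0], [1, 0, 3, 0, 3], [3, 0, 3, 0, 3, 0, 0], [3, 3, 2, 2, 1, 2], [0, 0, 0, 0], [2, 1, 0, 0, 1, 2], [2, 2, 2], [1, 1, 2, 3, 2, 3, 0], [2, 2], [1, 2, 1, 0, 0, 3], [3, 0, 3, 0, 3, 0], [0, 0, 0], [3, 3, 2, 2, 1, 0], [3, 2, 3, 0, 0], [3, 2, 3, 0], [1, 1], [1, 2, 1, 1, 2, 3], [3, 0, 0, 0, 3, 0], [2, 1, 1, 0, 3,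 0], [2, 3, 2, 2, 3], [3, 0, 1, 0, 3, 0], [0, 0, 0, 3, 3, 0], [0, 1, 0, 3, 0, 3, 0], [1, 2, 2, 3, 0, 0], [1, 0, 1, 1, 0, 1], [0, 1, 1, 0, 0, 0, 0], [2, 3, 2, 2, 3, 2], [0, 1, 2, 2, 1], [3, 3, 2, 3, 0, 1], [1, 1, 0, 0, 0, 0], [0, 0, 0, 1, 1], [3, 0, 0, 3, 3], [1, 0, 0, 1, 0, 1], [3, 0, 0, 3, 3, 0], [3, 2, 1, 1, 0, 1], [1, 0, 3, 0, 3, 0], [1, 2, 2, 3, 2], [1, 2, 2, 1], [3, 0, 3, 0, 1], [1, 0, 3, 0, 1, 0], [2, 3, 2, 2], [3, 0, 3, 0, 1, 0], [1, 2, 2, 3, 2, 2], [0, 1, 2, 2, 1, 2], [0, 0, 3, 3, 0], [2, 1, 1, 2, 1, 1, 0], [3, 0, 1, 0, 1], [2, 2, 3, 0, 1, 0, 0], [2, 1, 0, 0, 1, 0], [3, 2, 2, 2, 3, 2], [2, 2, 1], [3, 0, 3, 0, 1, 2], [0, 0, 1, 0, 1], [3, 2, 1, 1], [1, 1, 2], [3, 3, 0, 0, 3, 3], [1, 0, 3, 0, 1], [1, 2, 3, 0, 3],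 [0, 0, 1, 0, 1, 2], [1, 0, 0, 1, 0, 1, 1], [1, 1, 1, 2, 3, 0], [0, 1, 0, 0, 3, 0, 0], [1, 1, 2, 1, 2, 3], [0, 3, 2, 1, 1, 1, 0], [0, 0, 1, 1, 1, 0], [2, 1, 2, 3, 3, 2], [1, 1, 0, 0, 0, 1], [3, 0, 1, 2, 1], [1, 2, 2, 2, 3], [1, 1, 1, 2, 1, 0], [0, 0, 1, 1, 1], [1, 0, 3, 2, 1, 0], [2, 1, 0, 1, 2], [3, 0, 3, 3, 2, 1], [0, 1, 2, 2, 3, 0], [3, 2, 1, 2, 3, 3], [0, 0, 1, 0, 0, 0], [0, 3, 2, 2, 1, 1, 0], [3, 2, 2, 1, 0, 3, 0], [2, 2, 3, 3], [3, 2, 2, 1, 0, 3], [2, 2, 2, 3, 0, 1], [1, 0, 1, 0, 1], [1, 2, 1, 2, 2], [0, 0, 0, 1, 0, 3, 0], [3, 0, 1, 2, 2, 3, 0], [1, 2, 1, 1], [0, 0, 3, 2, 2, 1], [3, 3, 2], [3, 0, 0, 3, 0, 0], [0, 0, 1, 0], [1, 2, 3, 0, 0], [3, 0, 0, 3], [2, 1, 2, 3], [1, 0, 0, 0, 1, 0], [1, 0, 3, 2, 1], [2, 2, 3,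 3, 0, 1], [0, 1, 1, 2, 3], [2, 2, 2, 3, 0], [0, 3, 0, 0], [0, 3, 0], [2, 2, 2, 3], [0, 1, 1, 0, 1, 2], [3, 3, 2, 1], [1, 0, 3, 3, 0, 3], [0, 3, 0, 1, 1, 0], [2, 3, 0, 1, 2, 2], [2, 3, 0, 0, 0, 3, 2], [0, 0, 1, 0, 0, 1, 1], [3, 3, 0], [2, 1, 0, 0, 3, 2, 1], [1, 1, 2, 2, 1, 0], [3, 2, 3, 3, 2, 1], [0, 3, 2, 2], [1, 1, 0, 3], [2, 2, 1, 2, 2, 1], [1, 0, 0, 3, 2], [3, 3, 0, 0], [0, 3, 3, 0, 3], [1, 2, 3, 3, 0, 0], [2, 1, 0, 1, 0, 0, 0], [0, 0, 0, 1, 2], [0, 1, 1, 0, 0], [0, 3, 2, 1, 0, 0, 0], [0, 0, 0, 0, 3, 2, 1], [2, 3, 2, 3, 3, 0, 1], [0, 3, 0, 3, 2, 1, 0], [0, 0, 0, 1], [3, 2, 2, 3, 0, 1, 2, 2], [2, 1, 2], [2, 2, 1, 1, 1, 0], [0, 3, 2, 2, 2], [1, 0, 0, 3], [1, 2, 1, 0, 0, 0], [2, 1, 0, 1], [1, 1, 0, 0, 1], [1, 0, 3, 2,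 3], [3, 2, 1, 0, 1, 1], [0, 1, 0, 0, 1, 2, 1], [0, 3, 2], [0, 1, 2, 1, 2, 3], [3, 3], [3, 3, 2, 3, 3, 0], [2, 1, 0, 3, 0, 0, 1], [2, 2, 3, 3, 2], [2, 1, 0, 3, 0], [3, 2, 1, 2, 1], [1, 1, 2, 2, 1], [0, 1, 1, 0, 1, 0, 1], [2, 2, 2, 3, 2], [3, 0, 0, 1, 2], [0, 1, 0, 3, 0], [0, 3, 0, 3, 2, 2], [0, 0, 0, 3, 2], [2, 2, 1, 0], [1, 2, 1], [3, 2, 2, 2, 3], [0, 3], [1, 2, 3, 0], [1, 2, 1, 0], [1, 0, 3, 2, 3, 2], [0, 3, 0, 1, 1], [0, 1, 1, 2, 3, 0], [3, 3, 0, 1, 1], [1, 0, 3, 0, 1, 2], [3, 0, 0, 1, 0], [3, 0, 0, 1], [0, 1, 0, 1, 2, 1, 0], [1, 2, 2, 2, 3, 3], [1, 1, 2, 1, 0, 1], [2, 2, 1, 1, 0, 0, 0], [3, 0, 0, 0, 3, 3], [0, 0, 1, 2, 2, 1], [0, 1, 1], [0, 0, 0, 0, 3, 3, 0], [1, 0, 0, 1], [3, 0, 1, 2, 2, 1], [0, 3, 0, 0, 0, 3, 0],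 [3, 2, 2, 3], [3, 2, 2, 3, 2], [3, 2, 1], [2, 3, 0, 3, 0], [3, 2, 1, 0], [1, 1, 1, 0, 0, 3], [2, 3, 0, 1, 0], [3, 0, 0, 0, 1, 0], [1, 1, 2, 3, 3, 0], [0, 0, 3, 0, 0, 0], [2, 1, 2, 3, 3], [0, 1, 1, 2], [1, 0, 0, 3, 0], [1, 2, 3, 2, 3, 0, 1], [1, 0, 0, 1, 0], [2, 1, 2, 3, 3, 0], [0, 1, 2, 3, 0, 3], [2, 3, 0, 1, 0, 0], [0, 3, 0, 3, 0, 1, 2], [2, 1, 2, 3, 0, 1], [2, 2, 1, 2, 2], [3, 0, 1, 2, 3, 0], [2, 3, 2, 2, 3, 3], [0, 1, 0, 1, 1, 2], [0, 3, 2, 3], [0, 3, 2, 2, 3, 3], [2, 3, 0, 1], [0, 1, 1, 0, 1], [3, 2, 3, 0, 3], [3, 2, 2, 1, 1, 1, 0], [3, 3, 2, 3, 2, 2], [2, 3, 2], [1, 1, 0, 1, 1, 1], [0, 1, 0, 3, 0, 0, 1], [2, 3, 2, 2, 1, 1, 0], [0, 3, 0, 3, 2], [3, 2, 1, 2, 2], [3, 3, 0, 3, 0, 0], [2, 3, 3, 0, 0, 3], [1, 0, 3, 2,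 2, 2], [1, 1, 2, 1], [1, 2, 2, 3, 3, 2], [0, 1, 0, 3, 2, 1, 1], [1, 1, 2, 3, 3, 0, 0], [0, 0, 3, 0, 1, 1, 2], [2, 1, 0, 1, 1], [2, 3, 3, 2, 1, 0], [1, 2, 1, 1, 1], [2, 2, 3, 0, 1, 1, 2], [1, 0, 1, 0, 0, 0, 0], [0, 1, 1, 0], [2, 1, 2, 2, 1, 2], [2, 1, 1, 1, 0, 0], [2, 3, 3, 0, 1, 0, 0], [3, 0, 1, 1, 2, 1, 0], [0, 1, 1, 0, 3, 2], [3, 2, 3, 3, 2, 3], [3, 3, 0, 0, 1], [1, 1, 2, 3, 2, 1], [1, 1, 0, 3, 0], [1, 1, 1, 0, 0, 3, 3], [0, 1, 0, 1, 1, 0, 1], [0, 3, 2, 3, 0, 0], [0, 3, 3, 2, 2, 1, 0], [3, 0, 0, 1, 0, 1], [1, 0, 0, 3, 2, 2], [2, 3, 0, 3], [0, 1, 0, 0, 3, 3], [3, 3, 0, 0, 1, 0], [2, 2, 1, 0, 0, 0], [1, 0, 1, 0, 1, 1], [1, 2, 2, 1, 1, 0, 0], [2, 1, 1, 0, 1, 0], [3, 0, 3, 0, 1, 1], [0, 3, 2, 1, 1], [0, 3, 0, 1, 0, 1],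 [2, 1], [0, 1, 0, 3, 0, 1], [3, 3, 0, 3, 2, 3], [3, 0, 3, 3, 0, 1], [2, 2, 2, 1, 0, 3, 0], [0, 1, 2, 3, 0, 1], [0, 3, 0, 1, 2], [0, 3, 0, 1], [1, 2, 2], [2, 1, 1, 0, 1], [0, 3, 2, 3, 2], [3, 3, 2, 1, 1, 0], [3, 2, 2, 1], [0, 0, 3, 3], [3, 2, 2, 1, 0], [2, 1, 1, 0, 1, 0, 1], [1, 2, 1, 1, 1, 0], [0, 0, 3, 3, 0, 1], [3, 3, 2, 2, 2, 3], [2, 3, 3, 2, 3], [2, 3, 3, 2, 3, 0], [1, 2, 1, 2, 3, 0, 0], [1, 2, 2, 2, 1, 0], [3, 3, 2, 2, 3, 2], [1, 2, 1, 2, 3, 0], [0, 3, 2, 2, 3], [2, 3, 3], [1, 0, 0, 1, 2, 1], [3, 3, 2, 3, 3, 0, 1], [3, 3, 2, 2, 3], [1, 0, 3, 2, 3, 3], [2, 3, 2, 1, 0, 1, 1], [0, 0, 3, 0, 3, 2], [1, 2, 2, 2, 3, 0], [3, 2], [2, 2, 2, 3, 3], [1, 2, 1, 2, 3], [3, 2, 2, 1, 1, 0], [0, 0, 1, 0, 1, 1, 2], [2, 1, 2, 3, 3,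 2, 3], [2, 2, 2, 3, 0, 1, 0], [0, 1, 2, 3, 3], [0, 1, 2, 3, 3, 0], [1, 2, 3, 2, 1, 2, 2], [1, 2, 2, 3, 0, 3], [1, 2, 2, 2, 1], [0, 1], [3, 0, 3, 2, 2, 3], [2, 1, 1, 0, 0], [2, 3, 2, 1, 0, 0, 0], [0, 0, 1, 1, 0, 0, 1], [2, 3, 3, 2, 1, 0, 1], [1, 1, 0, 3, 3, 0], [2, 2, 2, 3, 3, 0, 1], [1, 2, 1, 0, 3, 2], [3, 0, 1, 1], [2, 1, 2, 1, 0], [1, 2, 1, 0, 1], [2, 1, 2, 3, 0], [2, 2, 1, 2, 3], [1, 1, 2, 3, 0], [2, 1, 2, 1], [2, 2, 2, 1, 0], [1, 1, 2, 3], [0, 1, 0], [2, 1, 2, 3, 0, 0], [2, 3, 0, 0, 3], [3], [0, 0, 1, 0, 1, 1], [3, 2, 2, 1, 2, 1], [3, 0, 0, 0, 0, 1, 0], [3, 0, 0, 1, 2, 1], [1, 0, 1, 1, 1], [2, 3, 0, 0, 3, 3], [3, 3, 0, 3, 3], [3, 2, 3, 0, 1, 1], [2, 3, 2, 1, 1, 0, 1], [0, 0, 1, 1], [2, 2, 2, 3, 3, 0], [2, 1, 1, 0,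 0, 0, 0], [2, 1, 1, 0, 0, 0], [0, 1, 0, 0, 1], [3, 2, 3, 2], [3, 0, 1, 2], [3, 2, 3], [2, 2, 1, 1, 0, 1], [3, 2, 1, 1, 0, 0], [2, 2, 3, 0, 1], [2, 2, 1, 2, 3, 0, 1], [3, 3, 0, 0, 3, 0, 0], [1, 1, 1, 0, 1, 1, 1], [3, 0, 1], [2, 2, 3, 2, 2, 3, 3], [2, 1, 2, 2], [1, 0, 1, 1, 2], [3, 2, 2, 3, 3, 0], [1, 2, 3, 0, 1], [3, 2, 2, 3, 3], [0, 0, 3, 2, 3], [2, 3, 2, 1, 1], [1, 2, 3, 2, 2, 2], [1, 1, 1, 0, 1], [3, 3, 0, 0, 1, 1], [3, 2, 3, 0, 1], [1, 1, 1, 2], [0, 0, 3, 2, 1, 0], [2, 3, 0, 1, 0, 1], [1, 1, 0, 3, 0, 1, 0], [3, 2, 2, 1, 2, 2], [0, 1, 0, 1], [2, 2, 2, 1], [1, 0, 3, 3], [2, 2, 2, 1, 2], [2, 2, 1, 0, 0, 1, 0], [0, 3, 0, 3, 2, 1, 1], [1, 0, 0, 0], [2, 1, 1, 2, 1], [3, 2, 3, 2, 1, 1, 0], [0, 1, 2, 3, 2, 1, 1], [1, 0, 3,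 2, 1, 1], [2, 2, 3, 3, 2, 3], [3, 2, 1, 1, 0], [0, 3, 0, 1, 1, 2], [2, 3, 3, 0, 3, 0, 0], [2, 3, 2, 1, 2, 2], [0, 3, 3, 0, 1], [1, 1, 0, 1, 0, 1, 1], [3, 0, 0, 1, 0, 0, 1], [2, 2, 3, 3, 0, 0, 3], [1, 0, 1, 0], [0, 0, 3, 2, 2], [0, 1, 0, 0, 3, 2], [2, 2, 1, 1, 0], [1, 1, 2, 2, 2, 1], [0, 3, 0, 0, 1, 0, 1], [3, 3, 0, 1, 0, 0], [3, 0, 1, 0, 0, 1], [3, 2, 3, 3, 0, 1, 0], [1, 0, 3, 2, 2, 3], [1, 1, 1, 0, 0], [0, 1, 1, 0, 3, 0], [2, 1, 1, 2, 3, 0, 1], [1, 2, 3, 0, 1, 1], [3, 2, 2, 2, 3, 2, 1], [3, 2, 3, 0, 0, 0], [1, 0, 3, 0], [0, 0, 3, 2], [2, 3, 0, 0, 3, 0, 0], [2, 3, 2, 1, 2, 1], [2, 3, 3, 2], [0, 0, 1, 0, 3, 0], [3, 0, 3, 2, 2], [1, 1, 0, 1, 0, 1], [0, 3, 2, 2, 1], [2, 1, 1, 2, 2, 1], [0, 1, 2, 2], [2, 1, 0, 1, 0, 1], [0,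 3, 2, 2, 1, 0], [2, 2, 1, 0, 3, 0], [1, 2, 3, 2, 1], [3, 3, 0, 1, 0], [0, 0, 1, 0, 0, 1, 0], [0, 0, 3, 2, 1], [0, 1, 2, 3, 3, 2], [3, 2, 3, 2, 2, 2, 1], [3, 0, 0, 0], [0, 1, 0, 1, 2, 2], [3, 2, 1, 2, 2, 1], [2, 1, 0, 0, 3, 3], [0, 1, 2], [3, 0, 0, 0, 0], [1, 0, 3, 0, 0, 1, 1], [2, 2, 3, 2, 1, 0], [2, 2, 3, 2, 1], [1, 1, 1, 0], [0, 3, 0, 3], [2, 3, 0, 0, 1, 0], [3, 0, 1, 1, 0], [1, 0, 3], [0, 1, 0, 0], [1, 2, 1, 0, 3], [0, 0, 0, 0, 3, 0], [2, 3, 3, 0, 1, 1], [2, 2, 3, 0, 1, 2, 2], [3, 0, 0], [1, 1, 0, 1, 2], [0, 3, 3, 0, 1, 0, 1], [2, 3, 3, 2, 1], [3, 0], [0, 3, 3, 0], [2, 1, 2, 2, 1], [0, 3, 2, 3, 3, 2, 1], [2, 2, 3, 2, 2], [1, 1, 1, 2, 1, 1, 0], [3, 0, 0, 0, 3, 2], [0, 0, 3, 3, 0, 3], [1, 0, 0, 3, 2, 1], [2, 3, 0, 0,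 1, 1], [2, 3, 0, 3, 0, 1], [3, 0, 1, 2, 3, 0, 1], [1, 2, 2, 1, 2], [0, 0, 3, 2, 3, 0, 0], [3, 2, 1, 0, 3], [0, 3, 3, 0, 0, 1], [0, 0, 1, 1, 0], [2, 1, 0, 0, 1, 1], [0, 3, 0, 0, 1, 2], [0, 3, 3], [1, 0, 3, 0, 0, 1], [3, 2, 3, 2, 2], [0, 1, 1, 2, 2, 1], [3, 0, 0, 0, 3, 2, 2], [1, 1, 1, 2, 3, 3, 0], [2, 2, 3, 2], [2, 3, 2, 2, 1], [3, 0, 3, 2], [0, 0, 0, 3, 3], [1, 1, 0, 1], [0, 0, 3, 0, 1, 2], [0, 1, 0, 1, 2], [0, 3, 0, 1, 0], [0, 0, 0, 1, 1, 2], [3, 2, 2, 2, 1], [0, 3, 0, 1, 1, 1], [2, 1, 2, 2, 1, 0], [0, 1, 1, 2, 2, 3], [0, 3, 0, 3, 0], [1, 1, 1], [2, 3, 2, 2, 2], [1, 0, 0, 0, 0], [1, 1, 1, 0, 0, 0, 0], [1, 1, 0, 3, 0, 3], [0, 3, 2, 2, 2, 1, 0], [0, 1, 2, 3, 2, 2], [2, 2, 1, 0, 1, 1], [2, 1, 2, 1, 1, 1], [0, 0, 1, 2, 3],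 [2, 1, 1, 1, 2], [0, 3, 0, 1, 2, 1], [1, 2, 1, 1, 0, 0], [3, 3, 2, 2, 3, 0, 1], [0, 1, 1, 2, 3, 3, 0], [3, 0, 3, 0, 0, 1], [2, 3, 2, 3, 0, 1], [1, 2, 1, 1, 0], [1, 2, 3, 3, 0], [0, 3, 2, 1, 0], [3, 0, 0, 1, 0, 3, 0], [0, 3, 0, 0, 0, 1, 0], [1, 2, 3, 3], [0, 0, 3, 0], [0, 1, 0, 3, 2, 1], [3, 0, 1, 2, 2], [2, 3, 2, 1, 0, 1, 2], [3, 2, 3, 3, 2], [0, 1, 0, 0, 0, 1, 0], [0, 0, 3, 0, 0], [0, 3, 3, 2, 1], [0, 3, 0, 0, 3], [2, 3, 0, 1, 1, 2], [2, 1, 2, 3, 2, 2], [1, 0, 1, 0, 3, 2, 1], [0, 1, 2, 1, 1, 1], [3, 3, 2, 1, 0], [2, 2, 1, 0, 3], [3, 3, 0, 1, 2, 1], [2, 1, 1, 0, 3, 3], [1, 1, 0, 3, 3], [2, 3, 2, 1, 1, 0], [3, 0, 1, 1, 2], [3, 2, 1, 0, 1, 2], [1, 0, 0, 0, 3, 2, 2], [3, 2, 3, 0, 1, 0], [2, 2, 1, 2, 3, 0], [1, 2, 1, 1, 0,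 0, 0], [0, 0, 3, 0, 0, 1], [0, 3, 3, 2, 3], [3, 2, 3, 0, 3, 0], [1, 2, 3, 2, 1, 1], [2, 2, 1, 2, 1, 0], [2, 3, 0, 1, 1], [0, 0, 1, 2, 1], [3, 2, 1, 1, 0, 3], [2, 2, 1, 1, 2, 1], [0, 3, 2, 3, 3], [2, 3, 2, 3, 3, 0], [1, 2, 3, 0, 0, 0], [1, 1, 2, 1, 0], [1, 1, 0, 0, 3], [3, 3, 0, 3, 2, 1], [3, 2, 3, 3, 0], [1, 0, 0, 0, 1], [3, 2, 3, 3], [1, 1, 1, 0, 3], [2, 1, 1, 1, 0, 3, 0], [1, 0, 1, 1, 0, 0], [2, 1, 2, 3, 0, 0, 0], [2, 1, 1, 1], [1, 0, 1, 2], [1, 0, 1, 2, 2], [2, 3, 2, 2, 2, 1], [1, 2, 3, 3, 2], [2, 3, 3, 0, 1, 0], [1, 1, 2, 2, 3], [3, 0, 1, 1, 1], [0, 1, 2, 2, 2, 3], [3, 0, 1, 0], [2, 3, 0, 0, 0], [3, 0, 1, 0, 0], [3, 0, 3, 0], [0, 0, 1, 1, 2], [0, 1, 0, 0, 1, 0], [3, 0, 1, 1, 1, 0], [0, 3, 2, 1], [3, 0, 3, 0, 0], [2,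 2, 3, 0], [1, 1, 0, 0, 3, 0], [1, 2, 3], [0, 0, 1, 1, 2, 3], [2, 3, 3, 0, 1], [2, 2, 3], [0, 0, 0, 1, 0], [0, 1, 2, 2, 3, 3, 2], [1, 0, 1, 1], [0, 3, 2, 1, 2, 2], [3, 3, 0, 0, 3], [0, 1, 1, 2, 1], [2, 1, 0, 3], [3, 2, 2, 2, 1, 0], [0, 0, 0, 3, 0, 0], [1, 2, 3, 2, 2], [3, 3, 2, 1, 2, 2], [3, 2, 2, 2, 3, 0], [1, 1, 2, 2, 3, 2], [0, 0, 0, 3, 0], [3, 2, 1, 2, 3, 0], [2, 3, 0, 0], [3, 2, 2, 1, 2], [1, 0, 3, 3, 0], [1, 0, 0], [2, 1, 0, 3, 2], [0, 0, 3, 2, 3, 3], [1, 1, 1, 0, 3, 0], [0, 1, 1, 2, 1, 0], [1, 0, 1, 1, 0], [1, 0, 1], [0, 1, 1, 0, 0, 1], [2, 2, 2, 1, 0, 0, 1, 0], [3, 0, 3, 2, 1, 1], [3, 2, 1, 0, 1], [0, 1, 0, 0, 3], [2, 2, 1, 1, 0, 0], [0, 0, 0, 0, 1], [3, 2, 3, 3, 0, 1], [2, 1, 0, 0, 0], [0, 0, 3, 2, 1, 1], [3,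 2, 2, 1, 0, 0, 0], [0, 1, 2, 2, 1, 1, 0, 0], [1, 1, 2, 2, 2, 1, 0], [2, 1, 2, 2, 2, 1], [1], [0, 0, 1, 0, 0, 3, 3], [0, 0, 1, 1, 2, 3, 0], [0, 3, 0, 0, 1], [0, 0, 3], [2, 2, 3, 0, 0], [0, 3, 0, 0, 1, 0], [0, 1, 2, 1, 0], [0, 1, 2, 1], [3, 2, 2, 3, 0, 1], [3, 3, 2, 3, 0], [2, 3, 2, 2, 1, 2], [3, 0, 0, 0, 1, 2], [3, 3, 2, 3], [2, 2, 3, 0, 1, 1], [1, 1, 2, 3, 2, 2, 1], [0, 1, 0, 1, 1], [3, 0, 3, 3], [3, 3, 0, 1], [2, 3], [0, 0, 0, 0, 1, 0], [1, 2, 3, 0, 3, 2, 1], [2, 2, 1, 2, 3, 0, 0], [2, 1, 1, 2, 3], [2, 2, 1, 2, 1], [3, 0, 3, 0, 0, 1, 1], [2, 2, 3, 0, 0, 3], [1, 0], [1, 0, 3, 2], [3, 0, 1, 1, 0, 0], [1, 0, 3, 2, 2], [1, 1, 0, 1, 2, 2], [2, 1, 1, 1, 0, 3], [0, 1, 0, 3, 2, 3], [2, 1, 1, 1, 0, 0, 0, 0], [2, 2, 2, 3, 2, 1],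 [2, 1, 1, 1, 0], [1, 0, 1, 0, 0, 0], [0, 0, 1, 1, 0, 0], [1, 2], [1, 2, 2, 1, 1, 0], [3, 2, 3, 2, 1], [3, 0, 3], [1, 1, 2, 1, 2, 1], [1, 1, 0, 1, 0], [0, 3, 3, 0, 0, 1, 0], [1, 0, 1, 1, 0, 0, 1], [0, 1, 2, 3, 0], [2, 1, 0], [1, 0, 0, 1, 2, 2, 1], [2, 2, 2, 1, 2, 1], [3, 3, 0, 1, 0, 1], [0, 1, 2, 3], [2, 3, 0], [0, 3, 0, 3, 0, 0], [0, 0, 1, 2, 3, 0], [1, 2, 1, 1, 1, 0, 0]]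

def c8 : ℕ := 8101915

def w8 : List (List ℕ) := [[], [1, 1, 0], [2], [1, 2, 2, 2, 1, 0], [1, 2, 3, 0, 0, 1], [1, 2, 2, 2, 1], [3, 2, 2, 2, 3, 3], [2, 1, 1, 0], [2, 2], [2, 3, 3, 0], [0, 0, 1, 1, 1], [3, 2, 1, 0], [1, 2, 2, 2, 3], [3, 3, 0, 0, 0, 1], [2, 3, 3], [1, 1], [2, 3, 3, 2], [3, 2, 2, 2], [3, 2, 2, 1, 1], [0, 3, 0, 0, 1, 1], [1, 0, 0, 3], [3, 2, 2], [3, 2, 2, 1, 1, 0], [1, 1, 0, 0], [2, 2, 3, 3], [2, 3, 2, 1, 1], [2, 1, 1, 2], [2, 3, 2, 3], [3, 2, 3, 0, 1], [2, 2, 2, 1, 1, 1, 0], [0, 1, 1, 1, 0], [1, 0, 1, 0, 1], [0, 0, 3, 2, 2, 1], [2, 3, 2, 1, 0], [2, 1, 1], [0, 1, 1, 1], [0, 0, 1], [2, 1, 2, 1], [2, 1, 2, 3, 2], [0, 1, 0], [2, 1, 2, 3], [2, 1, 2, 1, 0], [1, 0, 0, 0, 1], [0, 3, 0], [2, 3, 2, 1], [2, 2, 2, 1,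 0], [0, 3, 0, 0], [2, 1, 0, 1, 0, 0], [0, 1, 1, 0], [0, 1, 2, 2, 2, 1], [2, 3, 0, 0, 0, 3], [1, 1, 1, 2, 1, 1], [0], [3, 3, 0], [0, 3, 0, 0, 0, 0], [1, 1, 0, 3, 2], [3, 3, 0, 0], [1, 2, 3, 3, 0, 0], [0, 0, 3, 3, 0], [0, 0, 3, 3, 0, 0], [3, 2, 3], [0, 1, 1, 0, 0], [2, 2, 1, 1, 1, 0], [3, 2, 3, 2], [3, 2, 1, 1], [1, 1, 2], [2, 1, 2, 2, 2], [2, 1, 2, 2], [1, 2, 1, 0, 0], [1, 2, 3, 0, 1], [2, 1, 0, 0, 3, 0, 0], [0, 1, 0, 1, 2], [3, 2, 2, 2, 1], [0, 1, 0, 1, 1, 1], [2, 3, 3, 0, 3, 2], [0, 1, 0, 3, 0], [2, 3, 2, 3, 0], [0, 1, 0, 1], [1, 2, 3, 2, 2, 1], [1, 0, 0, 0], [0, 1, 0, 1, 0], [2, 2, 1], [2, 2, 2, 3, 0, 0], [3, 2, 1, 1, 2], [0, 3, 3, 0, 0], [2, 2, 3, 3, 0], [0, 3, 3, 0], [3, 0, 0, 0, 1, 0], [1, 2, 2, 2, 3, 3], [1, 2,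 3, 2, 1, 0], [2, 2, 1, 1, 0], [0, 0, 1, 0, 1, 0, 0], [1, 2, 1, 2, 1], [3, 0, 0, 0, 0], [2, 2, 2], [2, 3, 3, 0, 0], [3, 0, 1, 0, 0, 1], [0, 1, 0, 0, 0], [3, 3, 0, 3, 2], [3, 2, 3, 0], [2, 1, 0, 0, 1], [1, 1, 2, 1, 1, 0], [2, 1, 1, 0, 3], [2, 1, 1, 0, 1, 0], [1, 0, 0, 3, 0, 0], [2, 3, 0, 1, 0, 0], [1, 0, 0, 3, 0], [1, 1, 2, 1, 1], [3, 0, 0, 1, 1, 2], [2, 3, 2, 2], [3, 0, 0, 0], [1, 2, 2, 1], [2, 1, 2, 1, 0, 0], [0, 3, 0, 3, 2], [3, 0, 0, 1, 1], [1, 2, 2, 1, 1, 1, 0], [2, 3, 2, 2, 2], [2, 3, 2, 2, 1, 1], [1, 2, 2, 1, 0], [0, 1, 0, 0], [0, 0, 3, 0, 3, 0], [1, 0, 1, 0, 0], [3, 0, 3, 0, 3, 0], [0, 0], [3, 0, 0, 0, 3], [0, 0, 1, 1, 0], [3, 0, 1, 0, 3], [2, 3, 0, 0, 0, 0], [0, 0, 0], [0, 0, 0, 0], [0, 1, 0, 1, 0, 0], [2, 3, 2,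 2, 1], [0, 0, 1, 0, 1], [1, 1, 2, 2], [0, 3, 0, 1, 0, 1], [0, 0, 0, 1, 1], [1, 0, 0, 0, 0], [3, 0, 1, 0, 1], [1, 0, 0, 1, 0, 1], [1, 1, 2, 2, 2], [0, 1, 1], [1, 1, 1, 2, 3], [1, 0, 3, 0, 0], [1, 2, 1, 1], [0, 3, 2, 1, 0], [3, 3, 2], [3, 0, 1, 1, 2, 1], [1, 0, 0, 1], [2, 1, 0, 3, 0], [0, 1, 1, 2, 1, 1, 0], [1, 1, 0, 3], [2, 1, 0, 1, 2], [0, 3, 2, 3, 0], [1, 2, 3, 3], [1, 2, 3, 3, 0], [1, 2, 3], [0, 0, 3, 0], [3, 2, 1], [0, 0, 1, 0], [0, 0, 3, 0, 0], [1, 0, 3, 2, 1], [3, 3, 2, 1], [1, 1, 0, 0, 1], [0, 1, 2, 2, 1, 0], [2, 3, 3, 0, 0, 3], [1, 2, 1, 2, 2], [3, 0, 0, 3], [0, 3, 2], [3, 3, 2, 1, 1, 0], [0, 1, 1, 2, 3], [3, 3, 2, 2], [3, 3, 2, 2, 2], [3, 0, 0, 3, 0], [1, 1, 2, 1], [0, 3], [3, 2, 3, 3], [2, 2, 2, 3], [0, 3, 2,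 2], [3, 2, 2, 2, 3], [3, 0, 0, 3, 0, 3, 0], [2, 1, 1, 1], [3, 3, 2, 3, 3], [3, 3], [3, 0, 1, 0, 0], [1, 1, 2, 2, 1], [1, 1, 0, 1, 0], [1, 2, 1, 0], [2, 2, 1, 0], [1, 2, 3, 2], [1, 2, 1], [0, 0, 0, 1], [3, 2, 2, 2, 1, 0], [2, 1, 0, 3, 2], [0, 1, 0, 3], [3, 2, 1, 2, 1], [3, 0, 0, 1], [2, 3, 0, 3, 2], [0, 1, 1, 2], [0, 1, 2, 3, 0, 1], [1, 2, 2], [2, 3, 0, 1], [3, 0, 0, 0, 1], [1, 1, 0, 3, 0], [3, 0, 0, 1, 0, 1], [3, 2, 2, 1, 0], [2, 2, 3, 0, 0], [2, 1], [1, 2, 1, 1, 1, 2], [3, 3, 2, 3, 2], [2, 1, 0, 1, 1, 2], [2, 3, 2], [2, 1, 1, 2, 3], [3, 3, 2, 1, 1], [3, 2, 2, 1, 1, 1, 0], [2, 1, 0, 1, 1], [2, 1, 1, 1, 0], [1, 2, 2, 2], [1, 2, 2, 1, 1], [0, 0, 1, 1, 0, 0], [3, 2, 2, 1], [1, 0, 3, 0], [1, 0, 1, 2], [2, 2, 1, 1, 2], [0,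 1, 2, 3, 3], [3, 2, 1, 1, 0, 0], [1, 0, 1, 1, 1], [1, 2, 1, 2, 3], [0, 1, 2, 2], [0, 1, 1, 0, 3, 0], [2, 3, 2, 3, 0, 1], [3, 2, 1, 0, 3, 0], [2, 2, 2, 3, 3], [2, 1, 1, 0, 0], [1, 0, 3], [3, 0, 1, 2, 2], [2, 3, 3, 2, 2], [3, 2, 1, 1, 0], [1, 1, 0, 3, 2, 1], [2, 3, 0, 0, 3], [0, 3, 3, 2, 1, 1], [1, 1, 2, 3], [3, 2, 2, 3, 3, 0], [3, 2], [0, 1, 2, 1, 1, 0], [0, 1], [2, 3, 2, 1, 1, 2], [3, 0, 1, 1, 2], [0, 0, 0, 0, 3, 0, 0], [1, 1, 1, 2], [0, 0, 3, 2, 1], [2, 2, 2, 1], [0, 1, 2], [1, 0], [3, 0, 3, 3, 0], [2, 3, 0, 0, 1], [3, 0, 1, 1], [3], [1, 2, 3, 2, 2, 2], [3, 0, 1, 2], [0, 1, 2, 1, 1], [2, 1, 2, 2, 1], [0, 0, 3, 2, 1, 0], [0, 1, 0, 0, 1], [0, 0, 1, 1], [0, 1, 0, 3, 0, 0], [3, 0, 1], [0, 0, 1, 1, 2], [3, 0, 3, 2], [2, 2,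 3, 2], [3, 3, 0, 0, 3], [0, 3, 3, 2, 2], [1, 0, 1, 1, 2], [1, 0, 0, 0, 1, 1], [2, 1, 2, 2, 1, 0], [1, 0, 0], [2, 2, 1, 0, 1, 1], [1, 0, 1], [1, 0, 1, 0], [0, 1, 1, 0, 1, 0], [2, 2, 1, 1], [1, 1, 1], [1, 0, 1, 2, 3, 3], [0, 3, 2, 2, 1], [2, 1, 0, 0, 0], [0, 1, 2, 2, 2], [1, 1, 0, 1, 2], [1, 1, 1, 0], [0, 0, 1, 0, 3], [2, 3, 0, 0, 3, 0], [1, 0, 3, 2], [3, 0, 0], [3, 3, 0, 1, 2], [3, 0], [2, 2, 3, 2, 1], [3, 0, 1, 1, 0], [1, 2, 1, 0, 0, 1], [3, 0, 0, 0, 1, 1], [2, 2, 3, 2, 2, 2], [0, 3, 2, 2, 2, 1, 0], [0, 3, 0, 3, 0], [2, 1, 1, 1, 2], [1, 0, 1, 2, 2], [0, 1, 0, 3, 2, 1], [0, 0, 0, 3, 0, 0], [0, 3, 2, 1], [1, 2, 1, 1, 0], [3, 3, 2, 2, 1, 1], [3, 2, 1, 0, 0, 1], [1], [0, 0, 3], [2, 2, 3], [0, 3, 2, 3, 3], [0, 1, 1, 2, 1],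 [1, 0, 1, 1], [2, 2, 3, 0, 0, 1], [0, 1, 0, 1, 1], [0, 0, 3, 2, 3, 3], [2, 3], [1, 0, 1, 1, 0], [3, 0, 3, 0], [2, 3, 0], [0, 0, 0, 1, 0], [2, 3, 0, 0], [0, 0, 0, 3], [0, 0, 0, 0, 1], [2, 1, 0, 0], [2, 1, 0], [1, 2], [3, 3, 2, 3], [0, 1, 2, 3, 2]]

def fn (n : ℕ) (c : ℕ) : Bool := c.testBit 0 && (pc 24 (dod0 &&& c) == n)

theorem gA_ok : gA.all (fun d => inStabK d [] [dod0]) = true := by decide +kernel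
theorem gB_ok : gB.all (fun d => inStabK d [0] [dod0]) = true := by decide +kernel
theorem pt_paths : checkPaths gA (2 ^ 0) ptT ptW = true := by decide +kernel
theorem paths4 : checkPaths gB c4 (dodL.filter (fn 4)) w4 = true := by decide +kernel
theorem paths6 : checkPaths gB c6 (dodL.filter (fn 6)) w6 = true := by decide +kernel
theorem paths8 : checkPaths gB c8 (dodL.filter (fn 8)) w8 = true := by decide +kernel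
theorem len4 : (dodL.filter (fn 4)).length = 165 := by decide +kernel
theorem len6 : (dodL.filter (fn 6)).length = 792 := by decide +kernel
theorem len8 : (dodL.filter (fn 8)).length = 330 := by decide +kernel
theorem ptT_ok : ∀ i, i < 24 → dod0.testBit i = true → 2 ^ i ∈ ptT := by decide +kernel
theorem inter_vals : dodL.all (fun c => c.testBit 0 → (pc 24 (dod0 &&& c) == 4 || pc 24 (dod0 &&& c) == 6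
    || pc 24 (dod0 &&& c) == 8 || c == dod0)) = true := by decide +kernel

theorem hP (n : ℕ) : ∀ c ∈ dodL, (pt 0 ∈ dec c ∧ (dec dod0 ∩ dec c).card = n) ↔
    fn n c = true := by
  intro c _
  rw [pt_mem_dec_iff 0 (by norm_num), card_dec_inter, fn, Bool.and_eq_true, beq_iff_eq]

theorem flag_trans (x : GolayPt) (o : Finset GolayPt) (ho : o ∈ dodecads) (hx : x ∈ o) :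
    ∃ g ∈ M24, g • dec dod0 = o ∧ g (pt 0) = x := by
  obtain ⟨g1, hg1, rfl⟩ := dodecads_transitive o ho
  have hy : g1⁻¹ x ∈ dec dod0 := by
    rw [← apply_mem_smul_iff g1]
    simpa using hx
  obtain ⟨h, hh, hh2⟩ := point_orbit (K := stabK [] [dod0]) (j₀ := 0) (by norm_num)
    (stabK_orbit_cert gA [] [dod0] gA_ok (2 ^ 0) ptT ptW pt_paths) ptT_ok _ hy
  refine ⟨g1 * h, M24.mul_mem hg1 hh.1, ?_, ?_⟩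
  · rw [mul_smul, hh.2.2 dod0 (by simp)]
  · rw [Equiv.Perm.mul_apply, hh2]; simp

theorem base_count (n k : ℕ) (hk : (dodL.filter (fn n)).length = k) :
    {o' : Finset GolayPt | o' ∈ dodecads ∧ (pt 0 ∈ o' ∧ (dec dod0 ∩ o').card = n)}.ncard = k := by
  rw [ncard_dodecads_filter _ (fn n) (hP n), hk]

theorem base_trans (o' o'' : Finset GolayPt) (ho' : o' ∈ dodecads) (ho'' : o'' ∈ dodecads)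
    (hx' : pt 0 ∈ o') (hx'' : pt 0 ∈ o'') (hc : (dec dod0 ∩ o').card = (dec dod0 ∩ o'').card) :
    ∃ g : Equiv.Perm GolayPt, g ∈ M24 ∧ g (pt 0) = pt 0 ∧ g • dec dod0 = dec dod0 ∧ g • o' = o'' := by
  have key : ∀ (c₀ : ℕ) (ws : List (List ℕ)) (n : ℕ),
      checkPaths gB c₀ (dodL.filter (fn n)) ws = true → (dec dod0 ∩ o').card = n →
      ∃ g : Equiv.Perm GolayPt, g ∈ M24 ∧ g (pt 0) = pt 0 ∧ g • dec dod0 = dec dod0 ∧ g • o' = o'' := by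
    intro c₀ ws n hpaths hn
    obtain ⟨a, ha, rfl⟩ := mem_dodL_filter (P := fun o => pt 0 ∈ o ∧ (dec dod0 ∩ o).card = n) (hP n) ho' ⟨hx', hn⟩
    obtain ⟨b, hb, rfl⟩ := mem_dodL_filter (P := fun o => pt 0 ∈ o ∧ (dec dod0 ∩ o).card = n) (hP n) ho'' ⟨hx'', by rw [← hc, hn]⟩
    obtain ⟨g, hg, hgab⟩ := orbit_pairs (stabK_orbit_cert gB [0] [dod0] gB_ok c₀ _ ws hpaths) a ha b hb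
    exact ⟨g, hg.1, hg.2.1 0 (by simp), hg.2.2 dod0 (by simp), hgab⟩
  obtain ⟨a, ha, rfl⟩ := (mem_dodecads_iff o').mp ho'
  have hv := List.all_eq_true.mp inter_vals a ha
  rw [pt_mem_dec_iff 0 (by norm_num)] at hx'
  simp only [hx', forall_true_left, Bool.or_eq_true, beq_iff_eq, decide_eq_true_eq] at hv
  rw [card_dec_inter] at hc
  have hx'a : pt 0 ∈ dec a := (pt_mem_dec_iff 0 (by norm_num) a).mpr hx'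
  rcases hv with ((h | h) | h) | h
  · exact key c4 w4 4 paths4 (by rw [card_dec_inter]; exact h)
  · exact key c6 w6 6 paths6 (by rw [card_dec_inter]; exact h)
  · exact key c8 w8 8 paths8 (by rw [card_dec_inter]; exact h)
  · subst h
    -- o' = dec dod0, so o'' meets dod0 in 12 points, hence o'' = dec dod0
    have h12 : (dec dod0 ∩ o'').card = 12 := by
      rw [← hc]; decide +kernel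
    have e2 : dec dod0 ∩ o'' = o'' := Finset.eq_of_subset_of_card_le Finset.inter_subset_right
      (by rw [h12, ho''.2])
    have e1 : dec dod0 ∩ o'' = dec dod0 := Finset.eq_of_subset_of_card_le Finset.inter_subset_left
      (by rw [h12, dod0_mem.2])
    exact ⟨1, M24.one_mem, rfl, one_smul _ _, by rw [one_smul, ← e2, e1]⟩

/-- The point stabiliser acts on the 1288 dodecads through the point with rank 4 and subdegrees 1, 165, 330, 792, distinguished by intersection 4, 8, 6 with the fixed dodecad. -/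
theorem result (x : Cfsg.GolayPt) (d : Finset Cfsg.GolayPt) (hd : d ∈ Cfsg.dodecads) (hx : x ∈ d) : {d' : Finset Cfsg.GolayPt | d' ∈ Cfsg.dodecads ∧ x ∈ d' ∧ (d ∩ d').card = 4}.ncard = 165 ∧ {d' : Finset Cfsg.GolayPt | d' ∈ Cfsg.dodecads ∧ x ∈ d' ∧ (d ∩ d').card = 8}.ncard = 330 ∧ {d' : Finset Cfsg.GolayPt | d' ∈ Cfsg.dodecads ∧ x ∈ d' ∧ (d ∩ d').card = 6}.ncard = 792 ∧ ∀ d' d'' : Finset Cfsg.GolayPt, d' ∈ Cfsg.dodecads → d'' ∈ Cfsg.dodecads → x ∈ d' → x ∈ d'' → (d ∩ d').card = (d ∩ d'').card → ∃ g : Equiv.Perm Cfsg.GolayPt, g ∈ Cfsg.M24 ∧ g x = x ∧ g • d = d ∧ g • d' = d'' := by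
  obtain ⟨g, hg, rfl, rfl⟩ := flag_trans x d hd hx
  refine ⟨?_, ?_, ?_, ?_⟩
  · rw [ncard_smul_transport g (fun o' => o' ∈ dodecads ∧ (pt 0 ∈ o' ∧ (dec dod0 ∩ o').card = 4))
      (fun o' => o' ∈ dodecads ∧ g (pt 0) ∈ o' ∧ (g • dec dod0 ∩ o').card = 4)
      (by intro o'; rw [smul_mem_dodecads_iff hg, apply_mem_smul_iff, smul_inter_card])]
    exact base_count 4 _ len4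
  · rw [ncard_smul_transport g (fun o' => o' ∈ dodecads ∧ (pt 0 ∈ o' ∧ (dec dod0 ∩ o').card = 8))
      (fun o' => o' ∈ dodecads ∧ g (pt 0) ∈ o' ∧ (g • dec dod0 ∩ o').card = 8)
      (by intro o'; rw [smul_mem_dodecads_iff hg, apply_mem_smul_iff, smul_inter_card])]
    exact base_count 8 _ len8
  · rw [ncard_smul_transport g (fun o' => o' ∈ dodecads ∧ (pt 0 ∈ o' ∧ (dec dod0 ∩ o').card = 6))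
      (fun o' => o' ∈ dodecads ∧ g (pt 0) ∈ o' ∧ (g • dec dod0 ∩ o').card = 6)
      (by intro o'; rw [smul_mem_dodecads_iff hg, apply_mem_smul_iff, smul_inter_card])]
    exact base_count 6 _ len6
  · intro o' o'' ho' ho'' hx' hx'' hc
    have hgi := M24.inv_mem hg
    obtain ⟨k, hk, hk0, hko, hkk⟩ := base_trans (g⁻¹ • o') (g⁻¹ • o'')
      ((smul_mem_dodecads_iff hgi o').mpr ho') ((smul_mem_dodecads_iff hgi o'').mpr ho'')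
      (by rw [← apply_mem_smul_iff g, smul_inv_smul]; exact hx')
      (by rw [← apply_mem_smul_iff g, smul_inv_smul]; exact hx'')
      (by rw [← smul_inter_card g, ← smul_inter_card g (dec dod0), smul_inv_smul, smul_inv_smul]; exact hc)
    refine ⟨g * k * g⁻¹, M24.mul_mem (M24.mul_mem hg hk) hgi, ?_, ?_, ?_⟩
    · simp [Equiv.Perm.mul_apply, hk0]
    · rw [mul_smul, mul_smul, inv_smul_smul, hko]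
    · rw [mul_smul, mul_smul, hkk, smul_inv_smul]

end Cfsg.Agent.S1639
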