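import Cfsg.Statements.S1643
import Cfsg.Agent.S0370
import Cfsg.Agent.S0371
import Cfsg.Agent.S0372
import Cfsg.Agent.Lib.Helper58.M24Max2

set_option autoImplicit false
open scoped Pointwise
open Cfsg

namespace Cfsg.Agent.S1643

open Cfsg.Agent.Lib.Helper58.M24Chain Cfsg.Agent.Lib.Helper58.M24Max Cfsg.Agent.Lib.Helper58.SubMax
open Cfsg.Agent.Lib.Helper89.TableChain2

/-- PSL(2, 23) = ⟨t ↦ t+1, t ↦ u t (u square), t ↦ −1/t⟩ is maximal of order 6072 in the group of the length-24 code, and its point stabiliser 23:11 (order 253) is maximal in the Mathieu group of degree 23. -/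
theorem result : (Subgroup.closure ({Equiv.optionCongr (Equiv.addRight (1 : ZMod 23)), Cfsg.projInv} ∪ {g : Equiv.Perm Cfsg.GolayPt | ∃ u : (ZMod 23)ˣ, IsSquare u ∧ g = Equiv.optionCongr (Units.mulLeft u)}) ≤ Cfsg.M24 ∧ Nat.card ↥(Subgroup.closure ({Equiv.optionCongr (Equiv.addRight (1 : ZMod 23)), Cfsg.projInv} ∪ {g : Equiv.Perm Cfsg.GolayPt | ∃ u : (ZMod 23)ˣ, IsSquare u ∧ g = Equiv.optionCongr (Units.mulLeft u)})) = 6072 ∧ IsCoatom ((Subgroup.closure ({Equiv.optionCongr (Equiv.addRight (1 : ZMod 23)), Cfsg.projInv} ∪ {g : Equiv.Perm Cfsg.GolayPt | ∃ u : (ZMod 23)ˣ, IsSquare u ∧ g = Equiv.optionCongr (Units.mulLeft u)})).subgroupOf Cfsg.M24)) ∧ (Subgroup.closure ({Equiv.optionCongr (Equiv.addRight (1 : ZMod 23))} ∪ {g : Equiv.Perm Cfsg.GolayPt | ∃ u : (ZMod 23)ˣ, IsSquare u ∧ g = Equiv.optionCongr (Units.mulLeft u)}) ≤ Cfsg.M24 ⊓ MulAction.stabilizer (Equiv.Perm Cfsg.GolayPt) (none : Cfsg.GolayPt) ∧ Nat.card ↥(Subgroup.closure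 ({Equiv.optionCongr (Equiv.addRight (1 : ZMod 23))} ∪ {g : Equiv.Perm Cfsg.GolayPt | ∃ u : (ZMod 23)ˣ, IsSquare u ∧ g = Equiv.optionCongr (Units.mulLeft u)})) = 253 ∧ IsCoatom (((Subgroup.closure ({Equiv.optionCongr (Equiv.addRight (1 : ZMod 23))} ∪ {g : Equiv.Perm Cfsg.GolayPt | ∃ u : (ZMod 23)ˣ, IsSquare u ∧ g = Equiv.optionCongr (Units.mulLeft u)})).subgroupOf Cfsg.M24).subgroupOf (MulAction.stabilizer Cfsg.M24 (none : Cfsg.GolayPt)))) := by
  have hA : gA ∈ Cfsg.M24 := Cfsg.Agent.S0370.result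
  have hB : gB ∈ Cfsg.M24 := Cfsg.Agent.S0371.result u2 ⟨u5, by apply Units.ext; decide⟩
  have hC : gC ∈ Cfsg.M24 := Cfsg.Agent.S0372.result
  have hL3 : D.H 3 ≤ Cfsg.M24 := H3_le_M24 hA hB hC
  have hB2 : D.H 2 ≤ M23' := H2_le_M23' hA hB
  have hM23 : M23' ≤ Cfsg.M24 := inf_le_left
  have hstab : MulAction.stabilizer Cfsg.M24 (none : Cfsg.GolayPt) = M23'.subgroupOf Cfsg.M24 := by
    ext x
    rw [MulAction.mem_stabilizer_iff, Subgroup.mem_subgroupOf, mem_M23']
    constructor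
    · intro h
      exact ⟨x.2, h⟩
    · intro h
      exact h.2
  have eL := closure_L
  have eB := closure_B
  unfold setSq at eL eB
  rw [eL, eB]
  refine ⟨⟨hL3, card_H3, ?_⟩, ⟨hB2, card_H2, ?_⟩⟩
  · apply isCoatom_subgroupOf _ _ hL3
    · intro h
      have h1 := card_H3
      rw [h, Cfsg.Agent.Lib.Helper26.card_M24] at h1
      exact absurd h1 (by decide)
    · intro H h1 h2
      exact L_max H h1 h2
  · rw [hstab]
    apply isCoatom_subgroupOf
    · intro x hx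
      rw [Subgroup.mem_subgroupOf] at hx ⊢
      exact hB2 hx
    · intro h
      have h1 : Nat.card ((D.H 2).subgroupOf Cfsg.M24) = 253 := by
        rw [Nat.card_congr (Subgroup.subgroupOfEquivOfLe (hB2.trans hM23)).toEquiv, card_H2]
      have h2 : Nat.card (M23'.subgroupOf Cfsg.M24) = 10200960 := by
        rw [Nat.card_congr (Subgroup.subgroupOfEquivOfLe hM23).toEquiv, card_M23']
      rw [h, h2] at h1
      exact absurd h1 (by decide)
    · intro H' h1 h2
      have hH' : H' = (H'.map Cfsg.M24.subtype).subgroupOf Cfsg.M24 := by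
        rw [Subgroup.subgroupOf, Subgroup.comap_map_eq_self_of_injective Cfsg.M24.subtype_injective]
      have h3 : D.H 2 ≤ H'.map Cfsg.M24.subtype := by
        intro x hx
        exact ⟨⟨x, hM23 (hB2 hx)⟩, h1 (Subgroup.mem_subgroupOf.mpr hx), rfl⟩
      have h4 : H'.map Cfsg.M24.subtype ≤ M23' := by
        rintro _ ⟨y, hy, rfl⟩
        exact Subgroup.mem_subgroupOf.mp (h2 hy)
      rcases B_max _ h3 h4 with h | h
      · left
        rw [hH', h]
      · right
        rw [hH', h]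

end Cfsg.Agent.S1643
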