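import Cfsg.Statements.S1680
import Cfsg.Agent.Lib.Helper28.SuzGlue
import Cfsg.Agent.Lib.Helper28.Suz1Chk

set_option autoImplicit false
open Cfsg

namespace Cfsg.Agent.S1680

open Cfsg.Spor Cfsg.Agent.Lib.Helper28

noncomputable abbrev cert : Cert := Suz1Data.cert

abbrev subS : Set (FreeGroup Suz.Gen) := {Suz.a, Suz.b, Suz.c, Suz.d, Suz.e, Suz.f}

theorem rels_eq : cert.rels = SuzGlue.relsL := by decide

theorem hsub1 : ∀ s ∈ subS, ∃ w ∈ cert.subs, s = wordF SuzGlue.genOf w := by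
  intro s hs
  simp only [subS, Set.mem_insert_iff, Set.mem_singleton_iff] at hs
  rcases hs with rfl | rfl | rfl | rfl | rfl | rfl
  · exact ⟨[0], by decide, rfl⟩
  · exact ⟨[2], by decide, rfl⟩
  · exact ⟨[4], by decide, rfl⟩
  · exact ⟨[6], by decide, rfl⟩
  · exact ⟨[8], by decide, rfl⟩
  · exact ⟨[10], by decide, rfl⟩

theorem hsub2 : ∀ w ∈ cert.subs, wordF SuzGlue.genOf w ∈ subS := by
  intro w hw
  have hw' : w ∈ [[0], [2], [4], [6], [8], [10]] := hw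
  simp only [List.mem_cons, List.not_mem_nil, or_false] at hw'
  rcases hw' with rfl | rfl | rfl | rfl | rfl | rfl
  · exact Or.inl rfl
  · exact Or.inr (Or.inl rfl)
  · exact Or.inr (Or.inr (Or.inl rfl))
  · exact Or.inr (Or.inr (Or.inr (Or.inl rfl)))
  · exact Or.inr (Or.inr (Or.inr (Or.inr (Or.inl rfl))))
  · exact Or.inr (Or.inr (Or.inr (Or.inr (Or.inr rfl))))

theorem setup : ∃ φ : PresentedGroup SuzGlue.relSet →* Equiv.Perm ℕ,
    Setup cert ((Subgroup.closure subS).map (PresentedGroup.mk SuzGlue.relSet))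
      (fun i => PresentedGroup.of (SuzGlue.genOf i)) φ :=
  presented_setup SuzGlue.relSet subS cert SuzGlue.genOf SuzGlue.idx SuzGlue.hidx SuzGlue.hgi
    (by rw [rels_eq]; exact SuzGlue.hrel1) (by rw [rels_eq]; exact SuzGlue.hrel2) hsub1 hsub2
    Suz1Data.chkR2 Suz1Data.facts_ok Suz1Data.pts_ok Suz1Data.chkG

theorem root1 : cert.ORK 1 = 0 := by decide +kernel
theorem root2 : cert.ORK 47 = 0 := by decide +kernel
theorem cnt1 : countLab cert.ORB (cert.ORB 1) cert.n = 1365 := by decide +kernel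
theorem cnt2 : countLab cert.ORB (cert.ORB 47) cert.n = 416 := by decide +kernel

/-- In the presented sporadic Suzuki group, let H be the subgroup generated by the images of a, …, f. Then H has index 1782, H has orbits of sizes 416 and 1365 on the cosets of H other than H itself (with the index 1782 this makes the action rank 3). -/
theorem result : (((Subgroup.closure ({Cfsg.Spor.Suz.a, Cfsg.Spor.Suz.b, Cfsg.Spor.Suz.c, Cfsg.Spor.Suz.d, Cfsg.Spor.Suz.e, Cfsg.Spor.Suz.f} : Set (FreeGroup Cfsg.Spor.Suz.Gen))).map (PresentedGroup.mk (Cfsg.Spor.coxRelators Cfsg.Spor.Suz.edges ∪ {r | r ∈ Cfsg.Spor.Suz.extra})))).index = 1782 ∧ ∃ q₁ q₂ : Cfsg.Spor.Suz ⧸ (((Subgroup.closure ({Cfsg.Spor.Suz.a, Cfsg.Spor.Suz.b, Cfsg.Spor.Suz.c, Cfsg.Spor.Suz.d, Cfsg.Spor.Suz.e, Cfsg.Spor.Suz.f} : Set (FreeGroup Cfsg.Spor.Suz.Gen))).map (PresentedGroup.mk (Cfsg.Spor.coxRelators Cfsg.Spor.Suz.edges ∪ {r | r ∈ Cfsg.Spor.Suz.extra})))),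 (MulAction.orbit (((Subgroup.closure ({Cfsg.Spor.Suz.a, Cfsg.Spor.Suz.b, Cfsg.Spor.Suz.c, Cfsg.Spor.Suz.d, Cfsg.Spor.Suz.e, Cfsg.Spor.Suz.f} : Set (FreeGroup Cfsg.Spor.Suz.Gen))).map (PresentedGroup.mk (Cfsg.Spor.coxRelators Cfsg.Spor.Suz.edges ∪ {r | r ∈ Cfsg.Spor.Suz.extra})))) q₁).ncard = 416 ∧ (MulAction.orbit (((Subgroup.closure ({Cfsg.Spor.Suz.a, Cfsg.Spor.Suz.b, Cfsg.Spor.Suz.c, Cfsg.Spor.Suz.d, Cfsg.Spor.Suz.e, Cfsg.Spor.Suz.f} : Set (FreeGroup Cfsg.Spor.Suz.Gen))).map (PresentedGroup.mk (Cfsg.Spor.coxRelators Cfsg.Spor.Suz.edges ∪ {r | r ∈ Cfsg.Spor.Suz.extra})))) q₂).ncard = 1365 := by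
  obtain ⟨φ, hS⟩ := setup
  refine ⟨hS.index_eq, psi cert _ (fun i => PresentedGroup.of (SuzGlue.genOf i)) 47,
    psi cert _ (fun i => PresentedGroup.of (SuzGlue.genOf i)) 1, ?_, ?_⟩
  · rw [hS.orbit_ncard Suz1Data.orb_ok 47 (by decide) root2]; exact cnt2
  · rw [hS.orbit_ncard Suz1Data.orb_ok 1 (by decide) root1]; exact cnt1

end Cfsg.Agent.S1680
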