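import Cfsg.Statements.S1681
import Cfsg.Agent.Lib.Helper28.SuzGlueR
import Cfsg.Agent.Lib.Helper28.Suz2Chk

set_option autoImplicit false
open Cfsg

namespace Cfsg.Agent.S1681

open Cfsg.Spor Cfsg.Agent.Lib.Helper28

set_option maxRecDepth 100000

noncomputable abbrev cert : Cert := Suz2Data.cert

abbrev subS : Set (FreeGroup Suz.Gen) := {Cfsg.Spor.Suz.a, Cfsg.Spor.Suz.b, Cfsg.Spor.Suz.c, Cfsg.Spor.Suz.d, Cfsg.Spor.Suz.f, Cfsg.Spor.Suz.g}

theorem rels_eq : cert.rels = SuzGlueR.relsL := by decide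

theorem hsub1 : ∀ s ∈ subS, ∃ w ∈ cert.subs, s = wordF SuzGlueR.genOf w := by
  intro s hs
  simp only [subS, Set.mem_insert_iff, Set.mem_singleton_iff] at hs
  rcases hs with rfl | rfl | rfl | rfl | rfl | rfl
  · exact ⟨[0], by decide, rfl⟩
  · exact ⟨[2], by decide, rfl⟩
  · exact ⟨[4], by decide, rfl⟩
  · exact ⟨[6], by decide, rfl⟩
  · exact ⟨[10], by decide, rfl⟩
  · exact ⟨[12], by decide, rfl⟩

theorem hsub2 : ∀ w ∈ cert.subs, wordF SuzGlueR.genOf w ∈ subS := by
  intro w hw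
  have hw' : w ∈ [[0], [2], [4], [6], [10], [12]] := hw
  simp only [List.mem_cons, List.not_mem_nil, or_false] at hw'
  rcases hw' with rfl | rfl | rfl | rfl | rfl | rfl
  · exact Or.inl rfl
  · exact Or.inr (Or.inl rfl)
  · exact Or.inr (Or.inr (Or.inl rfl))
  · exact Or.inr (Or.inr (Or.inr (Or.inl rfl)))
  · exact Or.inr (Or.inr (Or.inr (Or.inr (Or.inl rfl))))
  · exact Or.inr (Or.inr (Or.inr (Or.inr (Or.inr (rfl)))))

theorem setup : ∃ φ : PresentedGroup SuzGlueR.relSet →* Equiv.Perm ℕ,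
    Setup cert ((Subgroup.closure subS).map (PresentedGroup.mk SuzGlueR.relSet))
      (fun i => PresentedGroup.of (SuzGlueR.genOf i)) φ :=
  presented_setup_conj SuzGlueR.relSet subS cert SuzGlueR.genOf SuzGlueR.idx SuzGlueR.hidx SuzGlueR.hgi
    (by rw [rels_eq]; exact SuzGlueR.hrel1) (by rw [rels_eq]; exact SuzGlueR.hrel2) hsub1 hsub2
    Suz2Data.chkR2 Suz2Data.facts_ok Suz2Data.pts_ok Suz2Data.chkG

noncomputable abbrev pt (r : ℕ) := psi cert ((Subgroup.closure subS).map (PresentedGroup.mk SuzGlueR.relSet))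
  (fun i => PresentedGroup.of (SuzGlueR.genOf i)) r

theorem root0 : cert.ORK 0 = 0 := by decide +kernel
theorem cnt0 : countLab cert.ORB (cert.ORB 0) cert.n = 1 := by decide +kernel
theorem root1 : cert.ORK 1 = 0 := by decide +kernel
theorem cnt1 : countLab cert.ORB (cert.ORB 1) cert.n = 486 := by decide +kernel
theorem root10 : cert.ORK 10 = 0 := by decide +kernel
theorem cnt10 : countLab cert.ORB (cert.ORB 10) cert.n = 8505 := by decide +kernel
theorem root67 : cert.ORK 67 = 0 := by decide +kernel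
theorem cnt67 : countLab cert.ORB (cert.ORB 67) cert.n = 13608 := by decide +kernel
theorem root7122 : cert.ORK 7122 = 0 := by decide +kernel
theorem cnt7122 : countLab cert.ORB (cert.ORB 7122) cert.n = 280 := by decide +kernel

/-- In the presented sporadic Suzuki group (generators a, …, g), the subgroup generated by the images of a, b, c, d, f, g has index 22880. -/
theorem result : (((Subgroup.closure ({Cfsg.Spor.Suz.a, Cfsg.Spor.Suz.b, Cfsg.Spor.Suz.c, Cfsg.Spor.Suz.d, Cfsg.Spor.Suz.f, Cfsg.Spor.Suz.g} : Set (FreeGroup Cfsg.Spor.Suz.Gen))).map (PresentedGroup.mk (Cfsg.Spor.coxRelators Cfsg.Spor.Suz.edges ∪ {r | r ∈ Cfsg.Spor.Suz.extra})))).index = 22880 := by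
  obtain ⟨φ, hS⟩ := setup
  exact hS.index_eq

end Cfsg.Agent.S1681
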