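import Cfsg.Statements.S1685
import Cfsg.Agent.Lib.Helper28.Fi22GlueR
import Cfsg.Agent.Lib.Helper28.Fi22bChk

set_option autoImplicit false
open Cfsg

namespace Cfsg.Agent.S1685

open Cfsg.Spor Cfsg.Agent.Lib.Helper28

set_option maxRecDepth 100000

noncomputable abbrev cert : Cert := Fi22bData.cert

abbrev subS : Set (FreeGroup Fi22.Gen) := {Cfsg.Spor.Fi22.b, Cfsg.Spor.Fi22.c, Cfsg.Spor.Fi22.d, Cfsg.Spor.Fi22.e, Cfsg.Spor.Fi22.f, Cfsg.Spor.Fi22.g, Cfsg.Spor.Fi22.h, Cfsg.Spor.Fi22.i}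

theorem rels_eq : cert.rels = Fi22GlueR.relsL := by decide

theorem hsub1 : ∀ s ∈ subS, ∃ w ∈ cert.subs, s = wordF Fi22GlueR.genOf w := by
  intro s hs
  simp only [subS, Set.mem_insert_iff, Set.mem_singleton_iff] at hs
  rcases hs with rfl | rfl | rfl | rfl | rfl | rfl | rfl | rfl
  · exact ⟨[2], by decide, rfl⟩
  · exact ⟨[4], by decide, rfl⟩
  · exact ⟨[6], by decide, rfl⟩
  · exact ⟨[8], by decide, rfl⟩
  · exact ⟨[10], by decide, rfl⟩
  · exact ⟨[12], by decide, rfl⟩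
  · exact ⟨[14], by decide, rfl⟩
  · exact ⟨[16], by decide, rfl⟩

theorem hsub2 : ∀ w ∈ cert.subs, wordF Fi22GlueR.genOf w ∈ subS := by
  intro w hw
  have hw' : w ∈ [[2], [4], [6], [8], [10], [12], [14], [16]] := hw
  simp only [List.mem_cons, List.not_mem_nil, or_false] at hw'
  rcases hw' with rfl | rfl | rfl | rfl | rfl | rfl | rfl | rfl
  · exact Or.inl rfl
  · exact Or.inr (Or.inl rfl)
  · exact Or.inr (Or.inr (Or.inl rfl))
  · exact Or.inr (Or.inr (Or.inr (Or.inl rfl)))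
  · exact Or.inr (Or.inr (Or.inr (Or.inr (Or.inl rfl))))
  · exact Or.inr (Or.inr (Or.inr (Or.inr (Or.inr (Or.inl rfl)))))
  · exact Or.inr (Or.inr (Or.inr (Or.inr (Or.inr (Or.inr (Or.inl rfl))))))
  · exact Or.inr (Or.inr (Or.inr (Or.inr (Or.inr (Or.inr (Or.inr (rfl)))))))

theorem setup : ∃ φ : PresentedGroup Fi22GlueR.relSet →* Equiv.Perm ℕ,
    Setup cert ((Subgroup.closure subS).map (PresentedGroup.mk Fi22GlueR.relSet))
      (fun i => PresentedGroup.of (Fi22GlueR.genOf i)) φ :=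
  presented_setup_conj Fi22GlueR.relSet subS cert Fi22GlueR.genOf Fi22GlueR.idx Fi22GlueR.hidx Fi22GlueR.hgi
    (by rw [rels_eq]; exact Fi22GlueR.hrel1) (by rw [rels_eq]; exact Fi22GlueR.hrel2) hsub1 hsub2
    Fi22bData.chkR2 Fi22bData.facts_ok Fi22bData.pts_ok Fi22bData.chkG

noncomputable abbrev pt (r : ℕ) := psi cert ((Subgroup.closure subS).map (PresentedGroup.mk Fi22GlueR.relSet))
  (fun i => PresentedGroup.of (Fi22GlueR.genOf i)) r

theorem root0 : cert.ORK 0 = 0 := by decide +kernel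
theorem cnt0 : countLab cert.ORB (cert.ORB 0) cert.n = 1 := by decide +kernel
theorem root1 : cert.ORK 1 = 0 := by decide +kernel
theorem cnt1 : countLab cert.ORB (cert.ORB 1) cert.n = 3159 := by decide +kernel
theorem root191 : cert.ORK 191 = 0 := by decide +kernel
theorem cnt191 : countLab cert.ORB (cert.ORB 191) cert.n = 10920 := by decide +kernel

/-- In the presented Fischer group Fi₂₂ (generators a, …, i), the subgroup generated by the images of b, c, d, e, f, g, h, i has index 14080. -/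
theorem result : (((Subgroup.closure ({Cfsg.Spor.Fi22.b, Cfsg.Spor.Fi22.c, Cfsg.Spor.Fi22.d, Cfsg.Spor.Fi22.e, Cfsg.Spor.Fi22.f, Cfsg.Spor.Fi22.g, Cfsg.Spor.Fi22.h, Cfsg.Spor.Fi22.i} : Set (FreeGroup Cfsg.Spor.Fi22.Gen))).map (PresentedGroup.mk (Cfsg.Spor.coxRelators Cfsg.Spor.Fi22.edges ∪ {r | r ∈ Cfsg.Spor.Fi22.extra})))).index = 14080 := by
  obtain ⟨φ, hS⟩ := setup
  exact hS.index_eq

end Cfsg.Agent.S1685
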