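import Cfsg.Statements.S1689
import Cfsg.Agent.Lib.Helper28.Fi23GlueR
import Cfsg.Agent.Lib.Helper28.Fi23Chk

set_option autoImplicit false
open Cfsg

namespace Cfsg.Agent.S1689

open Cfsg.Spor Cfsg.Agent.Lib.Helper28

set_option maxRecDepth 100000

noncomputable abbrev cert : Cert := Fi23Data.cert

abbrev subS : Set (FreeGroup Fi23.Gen) := {Cfsg.Spor.Fi23.a, Cfsg.Spor.Fi23.b, Cfsg.Spor.Fi23.c, Cfsg.Spor.Fi23.d, Cfsg.Spor.Fi23.e, Cfsg.Spor.Fi23.f, Cfsg.Spor.Fi23.g, Cfsg.Spor.Fi23.h, Cfsg.Spor.Fi23.i}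

theorem rels_eq : cert.rels = Fi23GlueR.relsL := by decide

theorem hsub1 : ∀ s ∈ subS, ∃ w ∈ cert.subs, s = wordF Fi23GlueR.genOf w := by
  intro s hs
  simp only [subS, Set.mem_insert_iff, Set.mem_singleton_iff] at hs
  rcases hs with rfl | rfl | rfl | rfl | rfl | rfl | rfl | rfl | rfl
  · exact ⟨[0], by decide, rfl⟩
  · exact ⟨[2], by decide, rfl⟩
  · exact ⟨[4], by decide, rfl⟩
  · exact ⟨[6], by decide, rfl⟩
  · exact ⟨[8], by decide, rfl⟩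
  · exact ⟨[10], by decide, rfl⟩
  · exact ⟨[12], by decide, rfl⟩
  · exact ⟨[16], by decide, rfl⟩
  · exact ⟨[18], by decide, rfl⟩

theorem hsub2 : ∀ w ∈ cert.subs, wordF Fi23GlueR.genOf w ∈ subS := by
  intro w hw
  have hw' : w ∈ [[0], [2], [4], [6], [8], [10], [12], [16], [18]] := hw
  simp only [List.mem_cons, List.not_mem_nil, or_false] at hw'
  rcases hw' with rfl | rfl | rfl | rfl | rfl | rfl | rfl | rfl | rfl
  · exact Or.inl rfl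
  · exact Or.inr (Or.inl rfl)
  · exact Or.inr (Or.inr (Or.inl rfl))
  · exact Or.inr (Or.inr (Or.inr (Or.inl rfl)))
  · exact Or.inr (Or.inr (Or.inr (Or.inr (Or.inl rfl))))
  · exact Or.inr (Or.inr (Or.inr (Or.inr (Or.inr (Or.inl rfl)))))
  · exact Or.inr (Or.inr (Or.inr (Or.inr (Or.inr (Or.inr (Or.inl rfl))))))
  · exact Or.inr (Or.inr (Or.inr (Or.inr (Or.inr (Or.inr (Or.inr (Or.inl rfl)))))))
  · exact Or.inr (Or.inr (Or.inr (Or.inr (Or.inr (Or.inr (Or.inr (Or.inr (rfl))))))))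

theorem setup : ∃ φ : PresentedGroup Fi23GlueR.relSet →* Equiv.Perm ℕ,
    Setup cert ((Subgroup.closure subS).map (PresentedGroup.mk Fi23GlueR.relSet))
      (fun i => PresentedGroup.of (Fi23GlueR.genOf i)) φ :=
  presented_setup_conj Fi23GlueR.relSet subS cert Fi23GlueR.genOf Fi23GlueR.idx Fi23GlueR.hidx Fi23GlueR.hgi
    (by rw [rels_eq]; exact Fi23GlueR.hrel1) (by rw [rels_eq]; exact Fi23GlueR.hrel2) hsub1 hsub2
    Fi23Data.chkR2 Fi23Data.facts_ok Fi23Data.pts_ok Fi23Data.chkG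

noncomputable abbrev pt (r : ℕ) := psi cert ((Subgroup.closure subS).map (PresentedGroup.mk Fi23GlueR.relSet))
  (fun i => PresentedGroup.of (Fi23GlueR.genOf i)) r

theorem root0 : cert.ORK 0 = 0 := by decide +kernel
theorem cnt0 : countLab cert.ORB (cert.ORB 0) cert.n = 1 := by decide +kernel
theorem root1 : cert.ORK 1 = 0 := by decide +kernel
theorem cnt1 : countLab cert.ORB (cert.ORB 1) cert.n = 28160 := by decide +kernel
theorem root52 : cert.ORK 52 = 0 := by decide +kernel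
theorem cnt52 : countLab cert.ORB (cert.ORB 52) cert.n = 3510 := by decide +kernel

/-- In the presented Fischer group Fi₂₃, let H be the subgroup generated by the images of a, …, i. Then H has index 31671, H has orbits of sizes 3510 and 28160 on the cosets of H other than H itself. -/
theorem result : (((Subgroup.closure ({Cfsg.Spor.Fi23.a, Cfsg.Spor.Fi23.b, Cfsg.Spor.Fi23.c, Cfsg.Spor.Fi23.d, Cfsg.Spor.Fi23.e, Cfsg.Spor.Fi23.f, Cfsg.Spor.Fi23.g, Cfsg.Spor.Fi23.h, Cfsg.Spor.Fi23.i} : Set (FreeGroup Cfsg.Spor.Fi23.Gen))).map (PresentedGroup.mk (Cfsg.Spor.coxRelators Cfsg.Spor.Fi23.edges ∪ {r | r ∈ Cfsg.Spor.Fi23.extra})))).index = 31671 ∧ ∃ q₁ q₂ : Cfsg.Spor.Fi23 ⧸ (((Subgroup.closure ({Cfsg.Spor.Fi23.a, Cfsg.Spor.Fi23.b, Cfsg.Spor.Fi23.c, Cfsg.Spor.Fi23.d, Cfsg.Spor.Fi23.e, Cfsg.Spor.Fi23.f, Cfsg.Spor.Fi23.g, Cfsg.Spor.Fi23.h, Cfsg.Spor.Fi23.i} : Set (FreeGroup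 Cfsg.Spor.Fi23.Gen))).map (PresentedGroup.mk (Cfsg.Spor.coxRelators Cfsg.Spor.Fi23.edges ∪ {r | r ∈ Cfsg.Spor.Fi23.extra})))), (MulAction.orbit (((Subgroup.closure ({Cfsg.Spor.Fi23.a, Cfsg.Spor.Fi23.b, Cfsg.Spor.Fi23.c, Cfsg.Spor.Fi23.d, Cfsg.Spor.Fi23.e, Cfsg.Spor.Fi23.f, Cfsg.Spor.Fi23.g, Cfsg.Spor.Fi23.h, Cfsg.Spor.Fi23.i} : Set (FreeGroup Cfsg.Spor.Fi23.Gen))).map (PresentedGroup.mk (Cfsg.Spor.coxRelators Cfsg.Spor.Fi23.edges ∪ {r | r ∈ Cfsg.Spor.Fi23.extra})))) q₁).ncard = 3510 ∧ (MulAction.orbit (((Subgroup.closure ({Cfsg.Spor.Fi23.a, Cfsg.Spor.Fi23.b, Cfsg.Spor.Fi23.c, Cfsg.Spor.Fi23.d, Cfsg.Spor.Fi23.e, Cfsg.Spor.Fi23.f, Cfsg.Spor.Fi23.g, Cfsg.Spor.Fi23.h, Cfsg.Spor.Fi23.i} : Set (FreeGroup Cfsg.Spor.Fi23.Gen))).map (PresentedGroup.mk (Cfsg.Spor.coxRelators Cfsg.Spor.Fi23.edges ∪ {r | r ∈ Cfsg.Spor.Fi23.extra})))) q₂).ncard = 28160 := by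
  obtain ⟨φ, hS⟩ := setup
  refine ⟨hS.index_eq, pt 52, pt 1, ?_, ?_⟩
  · rw [hS.orbit_ncard Fi23Data.orb_ok 52 (by decide) root52]; exact cnt52
  · rw [hS.orbit_ncard Fi23Data.orb_ok 1 (by decide) root1]; exact cnt1

end Cfsg.Agent.S1689
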