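import Cfsg.Statements.S1690
import Cfsg.Agent.Lib.Helper28.Fi24GlueR
import Cfsg.Agent.Lib.Helper28.Fi24Chk

set_option autoImplicit false
open Cfsg

namespace Cfsg.Agent.S1690

open Cfsg.Spor Cfsg.Agent.Lib.Helper28B Cfsg.Agent.Lib.Helper28

set_option maxRecDepth 100000

noncomputable abbrev cert : Cert := Fi24Data.cert

abbrev subS : Set (FreeGroup Fi24.Gen) := {Cfsg.Spor.Fi24.a, Cfsg.Spor.Fi24.b, Cfsg.Spor.Fi24.c, Cfsg.Spor.Fi24.d, Cfsg.Spor.Fi24.e, Cfsg.Spor.Fi24.f, Cfsg.Spor.Fi24.g, Cfsg.Spor.Fi24.h, Cfsg.Spor.Fi24.i, Cfsg.Spor.Fi24.j, Cfsg.Spor.Fi24.l}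

theorem rels_eq : cert.rels = Fi24GlueR.relsL := by decide

theorem hsub1 : ∀ s ∈ subS, ∃ w ∈ cert.subs, s = wordF Fi24GlueR.genOf w := by
  intro s hs
  simp only [subS, Set.mem_insert_iff, Set.mem_singleton_iff] at hs
  rcases hs with rfl | rfl | rfl | rfl | rfl | rfl | rfl | rfl | rfl | rfl | rfl
  · exact ⟨[4], by decide, rfl⟩
  · exact ⟨[6], by decide, rfl⟩
  · exact ⟨[8], by decide, rfl⟩
  · exact ⟨[10], by decide, rfl⟩
  · exact ⟨[12], by decide, rfl⟩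
  · exact ⟨[14], by decide, rfl⟩
  · exact ⟨[16], by decide, rfl⟩
  · exact ⟨[20], by decide, rfl⟩
  · exact ⟨[22], by decide, rfl⟩
  · exact ⟨[18], by decide, rfl⟩
  · exact ⟨[0], by decide, rfl⟩

theorem hsub2 : ∀ w ∈ cert.subs, wordF Fi24GlueR.genOf w ∈ subS := by
  intro w hw
  have hw' : w ∈ [[4], [6], [8], [10], [12], [14], [16], [20], [22], [18], [0]] := hw
  simp only [List.mem_cons, List.not_mem_nil, or_false] at hw'
  rcases hw' with rfl | rfl | rfl | rfl | rfl | rfl | rfl | rfl | rfl | rfl | rfl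
  · exact Or.inl rfl
  · exact Or.inr (Or.inl rfl)
  · exact Or.inr (Or.inr (Or.inl rfl))
  · exact Or.inr (Or.inr (Or.inr (Or.inl rfl)))
  · exact Or.inr (Or.inr (Or.inr (Or.inr (Or.inl rfl))))
  · exact Or.inr (Or.inr (Or.inr (Or.inr (Or.inr (Or.inl rfl)))))
  · exact Or.inr (Or.inr (Or.inr (Or.inr (Or.inr (Or.inr (Or.inl rfl))))))
  · exact Or.inr (Or.inr (Or.inr (Or.inr (Or.inr (Or.inr (Or.inr (Or.inl rfl)))))))
  · exact Or.inr (Or.inr (Or.inr (Or.inr (Or.inr (Or.inr (Or.inr (Or.inr (Or.inl rfl))))))))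
  · exact Or.inr (Or.inr (Or.inr (Or.inr (Or.inr (Or.inr (Or.inr (Or.inr (Or.inr (Or.inl rfl)))))))))
  · exact Or.inr (Or.inr (Or.inr (Or.inr (Or.inr (Or.inr (Or.inr (Or.inr (Or.inr (Or.inr (rfl))))))))))

theorem setup : ∃ φ : PresentedGroup Fi24GlueR.relSet →* Equiv.Perm ℕ,
    Setup cert ((Subgroup.closure subS).map (PresentedGroup.mk Fi24GlueR.relSet))
      (fun i => PresentedGroup.of (Fi24GlueR.genOf i)) φ :=
  presented_setup_conj Fi24GlueR.relSet subS cert Fi24GlueR.genOf Fi24GlueR.idx Fi24GlueR.hidx Fi24GlueR.hgi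
    (by rw [rels_eq]; exact Fi24GlueR.hrel1) (by rw [rels_eq]; exact Fi24GlueR.hrel2) hsub1 hsub2
    Fi24Data.chkR2 Fi24Data.facts_ok Fi24Data.pts_ok Fi24Data.chkG

noncomputable abbrev pt (r : ℕ) := psi cert ((Subgroup.closure subS).map (PresentedGroup.mk Fi24GlueR.relSet))
  (fun i => PresentedGroup.of (Fi24GlueR.genOf i)) r


/-- In the presented group Fi₂₄ = Fi₂₄′:2, the subgroup generated by the images of a, b, c, d, e, f, g, h, i, j and l (every generator but k) has index 306936. -/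
theorem result : (((Subgroup.closure ({Cfsg.Spor.Fi24.a, Cfsg.Spor.Fi24.b, Cfsg.Spor.Fi24.c, Cfsg.Spor.Fi24.d, Cfsg.Spor.Fi24.e, Cfsg.Spor.Fi24.f, Cfsg.Spor.Fi24.g, Cfsg.Spor.Fi24.h, Cfsg.Spor.Fi24.i, Cfsg.Spor.Fi24.j, Cfsg.Spor.Fi24.l} : Set (FreeGroup Cfsg.Spor.Fi24.Gen))).map (PresentedGroup.mk (Cfsg.Spor.coxRelators Cfsg.Spor.Fi24.edges ∪ {r | r ∈ Cfsg.Spor.Fi24.extra})))).index = 306936 := by
  obtain ⟨φ, hS⟩ := setup
  exact hS.index_eq

end Cfsg.Agent.S1690
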