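import Cfsg.Statements.S1691

set_option autoImplicit false
open Cfsg

namespace Cfsg.Agent.S1691

open Cfsg.Spor

abbrev rels : Set (FreeGroup Fi24.Gen) := coxRelators Fi24.edges ∪ {r | r ∈ Fi24.extra}

def sgnGen : Fi24.Gen → Multiplicative (ZMod 2) := fun _ => Multiplicative.ofAdd 1

theorem sq_one (z : Multiplicative (ZMod 2)) : z * z = 1 := by
  revert z; decide

theorem pow_even (z : Multiplicative (ZMod 2)) (n : ℕ) (h : Even n) : z ^ n = 1 := by
  obtain ⟨k, rfl⟩ := h
  rw [pow_add, ← mul_pow, sq_one, one_pow]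

theorem sgn_rel : ∀ r ∈ rels, FreeGroup.lift sgnGen r = 1 := by
  intro r hr
  rcases hr with hr | hr
  · obtain ⟨x, _, y, _, rfl⟩ := hr
    simp only [map_pow, map_mul, FreeGroup.lift_apply_of]
    simp only [sgnGen]
    rw [sq_one, one_pow]
  · simp only [Fi24.extra, List.mem_cons, List.not_mem_nil, or_false, Set.mem_ofPred_eq] at hr
    rcases hr with rfl | rfl
    · simp only [map_pow, map_mul, map_inv, FreeGroup.lift_apply_of, sgnGen]
      decide
    · simp only [map_pow, map_mul, FreeGroup.lift_apply_of, sgnGen]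
      decide

def sgn : Fi24 →* Multiplicative (ZMod 2) := PresentedGroup.toGroup sgn_rel

theorem sgn_of (x : Fi24.Gen) : sgn (PresentedGroup.of x) = Multiplicative.ofAdd 1 := by
  rw [sgn, PresentedGroup.toGroup.of, sgnGen]

theorem node_mem (x : Fi24.Gen) : x ∈ coxNodes Fi24.edges := by
  cases x <;> decide

theorem gen_sq (x : Fi24.Gen) : (PresentedGroup.of x : Fi24) * PresentedGroup.of x = 1 := by
  have h : (FreeGroup.of x * FreeGroup.of x) ^ coxLabel Fi24.edges x x ∈ rels :=
    Or.inl ⟨x, node_mem x, x, node_mem x, rfl⟩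
  have h2 := PresentedGroup.one_of_mem h
  have h3 : coxLabel Fi24.edges x x = 1 := by simp [coxLabel]
  rw [h3, pow_one, map_mul] at h2
  exact h2

theorem edge_rel (x y : Fi24.Gen) (h : coxLabel Fi24.edges x y = 3) :
    ((PresentedGroup.of x : Fi24) * PresentedGroup.of y) ^ 3 = 1 := by
  have hm : (FreeGroup.of x * FreeGroup.of y) ^ coxLabel Fi24.edges x y ∈ rels :=
    Or.inl ⟨x, node_mem x, y, node_mem y, rfl⟩
  have h2 := PresentedGroup.one_of_mem hm
  rw [h, map_pow, map_mul] at h2
  exact h2

abbrev ab : Fi24 →* Abelianization Fi24 := Abelianization.of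

theorem ab_eq (x y : Fi24.Gen) (h : coxLabel Fi24.edges x y = 3) :
    ab (PresentedGroup.of x) = ab (PresentedGroup.of y) := by
  have hx : ab (PresentedGroup.of x) * ab (PresentedGroup.of x) = 1 := by
    rw [← map_mul, gen_sq, map_one]
  have hy : ab (PresentedGroup.of y) * ab (PresentedGroup.of y) = 1 := by
    rw [← map_mul, gen_sq, map_one]
  have h3 : (ab (PresentedGroup.of x) * ab (PresentedGroup.of y)) ^ 3 = 1 := by
    rw [← map_mul, ← map_pow, edge_rel x y h, map_one]
  rw [mul_pow, pow_succ, pow_two, hx, one_mul, pow_succ, pow_two, hy, one_mul] at h3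
  calc ab (PresentedGroup.of x) = ab (PresentedGroup.of x) * (ab (PresentedGroup.of y) * ab (PresentedGroup.of y)) := by
        rw [hy, mul_one]
    _ = (ab (PresentedGroup.of x) * ab (PresentedGroup.of y)) * ab (PresentedGroup.of y) := by rw [mul_assoc]
    _ = ab (PresentedGroup.of y) := by rw [h3, one_mul]

theorem ab_all (x : Fi24.Gen) : ab (PresentedGroup.of x) = ab (PresentedGroup.of Fi24.Gen.d) := by
  have lk := ab_eq .l .k (by decide)
  have ka := ab_eq .k .a (by decide)
  have a_b := ab_eq .a .b (by decide)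
  have bc := ab_eq .b .c (by decide)
  have cd := ab_eq .c .d (by decide)
  have de := ab_eq .d .e (by decide)
  have dh := ab_eq .d .h (by decide)
  have ef := ab_eq .e .f (by decide)
  have fg := ab_eq .f .g (by decide)
  have gj := ab_eq .g .j (by decide)
  have hi := ab_eq .h .i (by decide)
  cases x
  · rw [lk, ka, a_b, bc, cd]
  · rw [ka, a_b, bc, cd]
  · rw [a_b, bc, cd]
  · rw [bc, cd]
  · rw [cd]
  · rfl
  · rw [← de]
  · rw [← ef, ← de]
  · rw [← fg, ← ef, ← de]
  · rw [← gj, ← fg, ← ef, ← de]
  · rw [← dh]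
  · rw [← hi, ← dh]

theorem all_mem (g : Fi24) : ab g ∈ Subgroup.zpowers (ab (PresentedGroup.of Fi24.Gen.d)) := by
  have hg : g ∈ Subgroup.closure (Set.range (PresentedGroup.of (rels := rels))) := by
    rw [PresentedGroup.closure_range_of]; trivial
  induction hg using Subgroup.closure_induction with
  | mem x hx =>
    obtain ⟨y, rfl⟩ := hx
    rw [ab_all y]
    exact Subgroup.mem_zpowers _
  | one => rw [map_one]; exact Subgroup.one_mem _
  | mul x y _ _ hx hy => rw [map_mul]; exact Subgroup.mul_mem _ hx hy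
  | inv x _ hx => rw [map_inv]; exact Subgroup.inv_mem _ hx

theorem result : (commutator Cfsg.Spor.Fi24).index = 2 := by
  set s := ab (PresentedGroup.of Fi24.Gen.d) with hs
  have htop : Subgroup.zpowers s = ⊤ := by
    rw [eq_top_iff]
    intro z _
    obtain ⟨g, rfl⟩ := QuotientGroup.mk_surjective z
    exact all_mem g
  have hcard : Nat.card (Abelianization Fi24) = orderOf s := by
    rw [← Nat.card_zpowers, htop, Subgroup.card_top]
  have hs2 : s ^ 2 = 1 := by
    rw [pow_two, hs, ← map_mul, gen_sq, map_one]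
  have hne : s ≠ 1 := by
    intro h1
    have := congrArg (Abelianization.lift sgn) h1
    rw [hs] at this
    simp only [ab, Abelianization.lift_apply_of, map_one, sgn_of] at this
    revert this; decide
  have hord : orderOf s = 2 := orderOf_eq_prime hs2 hne
  rw [Subgroup.index_eq_card]
  exact hcard.trans hord

end Cfsg.Agent.S1691
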