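-- Statement S1717: Sylow 2-subgroup of the centraliser of a transvection-type involution.
import Cfsg.Statements.S1717
import Cfsg.Agent.Lib.Helper20.SL5Trans

set_option autoImplicit false
set_option linter.style.haveILetI false
set_option linter.unusedSimpArgs false
set_option linter.unusedSectionVars false
open Cfsg

namespace Cfsg.Agent.S1717

open Cfsg.Agent.Lib.Helper20.SL5Trans

/-- Let G be a finite group with an involution z whose centraliser C is isomorphic to the centraliser of a transvection of SL(5, 2). Then a Sylow 2-subgroup of C, viewed in G, is a Sylow 2-subgroup of G (its index in G is odd). -/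
theorem result {G : Type*} [Group G] [Finite G] (s : Matrix.SpecialLinearGroup (Fin 5) (ZMod 2)) (hs : (s : Matrix (Fin 5) (Fin 5) (ZMod 2)) = Matrix.transvection 0 1 1) (z : G) (hz : orderOf z = 2) (e : (Subgroup.centralizer ({z} : Set G)) ≃* Subgroup.centralizer ({s} : Set (Matrix.SpecialLinearGroup (Fin 5) (ZMod 2)))) (T : Sylow 2 (Subgroup.centralizer ({z} : Set G))) : ¬ 2 ∣ ((T : Subgroup (Subgroup.centralizer ({z} : Set G))).map (Subgroup.subtype (Subgroup.centralizer ({z} : Set G)))).index := by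
  classical
  have hs0 : s = s0 := Subtype.ext hs
  subst hs0
  haveI : Fact (Nat.Prime 2) := ⟨Nat.prime_two⟩
  have hzmem : z ∈ Subgroup.centralizer ({z} : Set G) := by
    rw [Subgroup.mem_centralizer_iff]
    intro h hh
    rw [Set.mem_singleton_iff] at hh
    subst hh; rfl
  have hCmem : ∀ c : ↥(Subgroup.centralizer ({z} : Set G)), z * (c : G) = (c : G) * z := by
    intro c
    have := c.2
    rw [Subgroup.mem_centralizer_iff] at this
    exact this z rfl
  set zC : ↥(Subgroup.centralizer ({z} : Set G)) := ⟨z, hzmem⟩ with hzC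
  have hzcent : ∀ c : ↥(Subgroup.centralizer ({z} : Set G)), zC * c = c * zC := by
    intro c; apply Subtype.ext; exact hCmem c
  have hz1 : z ≠ 1 := by
    intro h; rw [h, orderOf_one] at hz; norm_num at hz
  have hzC1 : zC ≠ 1 := by
    intro h; exact hz1 (congrArg Subtype.val h)
  -- zC lies in T
  have hzT : zC ∈ T := by
    haveI hN : (Subgroup.zpowers zC).Normal := by
      constructor
      intro n hn g
      have : g * n * g⁻¹ = n := by
        obtain ⟨k, rfl⟩ := Subgroup.mem_zpowers_iff.mp hn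
        have hcomm : Commute g (zC ^ k) := ((show Commute zC g from hzcent g).symm).zpow_right k
        rw [hcomm.eq, mul_inv_cancel_right]
      rw [this]; exact hn
    have hP : IsPGroup 2 ↥(Subgroup.zpowers zC) := by
      apply IsPGroup.of_card (n := 1)
      rw [Nat.card_zpowers, pow_one, ← hz]
      exact Subgroup.orderOf_mk z hzmem
    exact (IsPGroup.le_sylow_of_normal hP T) (Subgroup.mem_zpowers zC)
  -- the image Sylow subgroup
  let T' : Sylow 2 ↥C0 := T.mapSurjective (f := e.toMonoidHom) e.surjective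
  have hT' : ∀ y : ↥C0, y ∈ T' → ∃ t ∈ T, e t = y := by
    intro y hy
    have : y ∈ (T : Subgroup _).map e.toMonoidHom := hy
    obtain ⟨t, ht, rfl⟩ := Subgroup.mem_map.mp this
    exact ⟨t, ht, rfl⟩
  have hcen : ∀ x : ↥(Subgroup.centralizer ({z} : Set G)), (∀ y ∈ T, x * y = y * x) →
      ((e x : ↥C0) : SL5) = 1 ∨ ((e x : ↥C0) : SL5) = s0 := by
    intro x hx
    apply center_sylow T' (e x)
    intro y hy
    obtain ⟨t, ht, rfl⟩ := hT' y hy
    rw [← map_mul, ← map_mul, hx t ht]
  have hez : ((e zC : ↥C0) : SL5) = s0 := by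
    rcases hcen zC (fun y _ => hzcent y) with h | h
    · exfalso
      apply hzC1
      apply e.injective
      rw [map_one]
      exact Subtype.ext h
    · exact h
  have hZ : ∀ x : ↥(Subgroup.centralizer ({z} : Set G)), (∀ y ∈ T, x * y = y * x) → x = 1 ∨ x = zC := by
    intro x hx
    rcases hcen x hx with h | h
    · left
      apply e.injective
      rw [map_one]
      exact Subtype.ext h
    · right
      apply e.injective
      exact Subtype.ext (h.trans hez.symm)
  -- the main argument
  intro hdvd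
  set T₀ : Subgroup G := (T : Subgroup (Subgroup.centralizer ({z} : Set G))).map
    (Subgroup.subtype (Subgroup.centralizer ({z} : Set G))) with hT₀
  have hT₀mem : ∀ g : G, g ∈ T₀ ↔ ∃ t ∈ T, (t : G) = g := by
    intro g
    rw [hT₀, Subgroup.mem_map]
    rfl
  have hT₀C : T₀ ≤ Subgroup.centralizer ({z} : Set G) := by
    intro g hg
    obtain ⟨t, _, rfl⟩ := (hT₀mem g).mp hg
    exact t.2
  have hT₀p : IsPGroup 2 ↥T₀ := T.2.map _
  obtain ⟨n, hn⟩ := hT₀p.exists_card_eq
  have hcard : 2 ^ (n + 1) ∣ Nat.card G := by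
    rw [← Subgroup.card_mul_index T₀, hn, pow_succ]
    exact Nat.mul_dvd_mul_left _ hdvd
  obtain ⟨K, hK, hle⟩ := Sylow.exists_subgroup_card_pow_succ hcard hn
  have hKp : IsPGroup 2 ↥K := IsPGroup.of_card hK
  have hidx : (T₀.subgroupOf K).index = 2 := by
    have h1 : Nat.card ↥(T₀.subgroupOf K) = 2 ^ n := by
      rw [← hn]
      exact Nat.card_congr (Subgroup.subgroupOfEquivOfLe hle).toEquiv
    have h2 := Subgroup.card_mul_index (T₀.subgroupOf K)
    rw [h1, hK, pow_succ] at h2
    exact Nat.eq_of_mul_eq_mul_left (by positivity) h2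
  haveI hnorm : (T₀.subgroupOf K).Normal := Subgroup.normal_of_index_eq_two hidx
  -- an element of K outside T₀
  obtain ⟨x, hxK, hxT⟩ : ∃ x ∈ K, x ∉ T₀ := by
    by_contra hcon
    push Not at hcon
    have : K = T₀ := le_antisymm hcon hle
    rw [this, hn, pow_succ] at hK
    have : (2 : ℕ) ^ n > 0 := by positivity
    omega
  -- x normalises T₀
  have hconj : ∀ k ∈ K, ∀ t ∈ T₀, k * t * k⁻¹ ∈ T₀ := by
    intro k hk t ht
    have h1 : (⟨t, hle ht⟩ : ↥K) ∈ T₀.subgroupOf K := by
      rw [Subgroup.mem_subgroupOf]; exact ht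
    have h2 := hnorm.conj_mem _ h1 ⟨k, hk⟩
    rw [Subgroup.mem_subgroupOf] at h2
    exact h2
  have hzT₀ : z ∈ T₀ := (hT₀mem z).mpr ⟨zC, hzT, rfl⟩
  -- x centralises z
  have hxz : x * z * x⁻¹ = z := by
    obtain ⟨wC, hwT, hw⟩ := (hT₀mem _).mp (hconj x hxK z hzT₀)
    have hwcen : ∀ y ∈ T, wC * y = y * wC := by
      intro y hy
      have hy0 : (y : G) ∈ T₀ := (hT₀mem _).mpr ⟨y, hy, rfl⟩
      have h3 := hconj x⁻¹ (K.inv_mem hxK) (y : G) hy0
      rw [inv_inv] at h3
      have h4 : z * (x⁻¹ * (y : G) * x) = (x⁻¹ * (y : G) * x) * z :=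
        hCmem ⟨_, hT₀C h3⟩
      apply Subtype.ext
      rw [Subgroup.coe_mul, Subgroup.coe_mul, hw]
      calc x * z * x⁻¹ * (y : G) = x * (z * (x⁻¹ * (y : G) * x)) * x⁻¹ := by group
        _ = x * ((x⁻¹ * (y : G) * x) * z) * x⁻¹ := by rw [h4]
        _ = (y : G) * (x * z * x⁻¹) := by group
    rcases hZ wC hwcen with h | h
    · exfalso
      apply hz1
      have : x * z * x⁻¹ = 1 := by rw [← hw, h]; rfl
      have h5 : z = x⁻¹ * (x * z * x⁻¹) * x := by group
      rw [h5, this]; group
    · rw [← hw, h]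
  have hxC : x ∈ Subgroup.centralizer ({z} : Set G) := by
    rw [Subgroup.mem_centralizer_iff]
    intro h hh
    rw [Set.mem_singleton_iff] at hh
    subst hh
    calc h * x = (x * h * x⁻¹) * x := by rw [hxz]
      _ = x * h := by group
  -- K lies in the centraliser
  have hKC : K ≤ Subgroup.centralizer ({z} : Set G) := by
    intro y hy
    by_cases hyT : y ∈ T₀
    · exact hT₀C hyT
    · have h1 := Subgroup.mul_mem_iff_of_index_two hidx
        (a := (⟨x⁻¹, K.inv_mem hxK⟩ : ↥K)) (b := (⟨y, hy⟩ : ↥K))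
      have h2 : (⟨x⁻¹, K.inv_mem hxK⟩ : ↥K) * ⟨y, hy⟩ ∈ T₀.subgroupOf K := by
        rw [h1, Subgroup.mem_subgroupOf, Subgroup.mem_subgroupOf]
        constructor
        · intro h; exfalso; apply hxT
          have := T₀.inv_mem h
          simpa using this
        · intro h; exact absurd h hyT
      rw [Subgroup.mem_subgroupOf] at h2
      have h3 : x⁻¹ * y ∈ Subgroup.centralizer ({z} : Set G) := hT₀C h2
      have : y = x * (x⁻¹ * y) := by group
      rw [this]
      exact Subgroup.mul_mem _ hxC h3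
  -- maximality of T
  have hKp' : IsPGroup 2 ↥(K.subgroupOf (Subgroup.centralizer ({z} : Set G))) :=
    hKp.comap_subtype
  have hTK : (T : Subgroup _) ≤ K.subgroupOf (Subgroup.centralizer ({z} : Set G)) := by
    intro t ht
    rw [Subgroup.mem_subgroupOf]
    exact hle ((hT₀mem _).mpr ⟨t, ht, rfl⟩)
  have hmax := T.is_maximal' hKp' hTK
  apply hxT
  have hx' : (⟨x, hxC⟩ : ↥(Subgroup.centralizer ({z} : Set G))) ∈
      K.subgroupOf (Subgroup.centralizer ({z} : Set G)) := by
    rw [Subgroup.mem_subgroupOf]; exact hxK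
  rw [hmax] at hx'
  exact (hT₀mem x).mpr ⟨_, hx', rfl⟩

end Cfsg.Agent.S1717
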