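import Mathlib
import Cfsg.Statements.S1755

set_option autoImplicit false
open Cfsg

namespace Cfsg.Agent.S1755

/-- two elements of order two in a finite cyclic group coincide -/
theorem unique_invol {A : Type*} [Group A] [Finite A] [IsCyclic A] (a b : A)
    (ha : orderOf a = 2) (hb : orderOf b = 2) : a = b := by
  classical
  haveI : Fintype A := Fintype.ofFinite A
  have hdvd : 2 ∣ Fintype.card A := by
    rw [← ha]; exact orderOf_dvd_card
  have h1 := IsCyclic.card_orderOf_eq_totient (α := A) hdvd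
  rw [Nat.totient_two, Finset.card_eq_one] at h1
  obtain ⟨c, hc⟩ := h1
  have hac : a ∈ ({c} : Finset A) := by rw [← hc]; simp [ha]
  have hbc : b ∈ ({c} : Finset A) := by rw [← hc]; simp [hb]
  rw [Finset.mem_singleton] at hac hbc
  rw [hac, hbc]

/-- TI criterion: a 2-subgroup all of whose involutions equal `z` and which is normalised by
the centraliser of `z`. -/
theorem ti_of_unique_invol {G : Type*} [Group G] [Finite G] (z : G) (BG : Subgroup G)
    (h2 : IsPGroup 2 ↥BG) (hinv : ∀ u ∈ BG, orderOf u = 2 → u = z)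
    (hnorm : ∀ g : G, g * z = z * g → BG.map (MulAut.conj g).toMonoidHom = BG) (g : G) :
    BG.map (MulAut.conj g).toMonoidHom = BG ∨ BG.map (MulAut.conj g).toMonoidHom ⊓ BG = ⊥ := by
  classical
  haveI : Fact (Nat.Prime 2) := ⟨Nat.prime_two⟩
  by_cases hbot : BG.map (MulAut.conj g).toMonoidHom ⊓ BG = ⊥
  · exact Or.inr hbot
  · left
    apply hnorm
    set H := BG.map (MulAut.conj g).toMonoidHom ⊓ BG with hH
    have hHp : IsPGroup 2 ↥H := h2.to_le inf_le_right
    have hcard : 2 ∣ Nat.card ↥H := by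
      rcases hHp.card_eq_or_dvd with h | h
      · exact absurd (Subgroup.card_eq_one.1 h) hbot
      · exact h
    obtain ⟨u, hu⟩ := exists_prime_orderOf_dvd_card' 2 hcard
    have hu2 : orderOf (u : G) = 2 := by rw [Subgroup.orderOf_coe]; exact hu
    have hu1 : (u : G) ∈ BG.map (MulAut.conj g).toMonoidHom := u.2.1
    have huz : (u : G) = z := hinv u u.2.2 hu2
    obtain ⟨v, hv, hvu⟩ := hu1
    have hvu' : g * v * g⁻¹ = u := hvu
    have hv2 : orderOf v = 2 := by
      rw [← hu2, ← hvu']
      exact ((MulAut.conj g).orderOf_eq v).symm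
    have hvz : v = z := hinv v hv hv2
    rw [hvz, huz] at hvu'
    calc g * z = (g * z * g⁻¹) * g := by group
      _ = z * g := by rw [hvu']


theorem map_conj_of_normal {G : Type*} [Group G] (C : Subgroup G) (N : Subgroup ↥C) [hN : N.Normal]
    (g : G) (hg : g ∈ C) : (N.map C.subtype).map (MulAut.conj g).toMonoidHom = N.map C.subtype := by
  ext x
  constructor
  · rintro ⟨y, ⟨y', hy', rfl⟩, rfl⟩
    refine ⟨⟨g, hg⟩ * y' * ⟨g, hg⟩⁻¹, hN.conj_mem y' hy' ⟨g, hg⟩, rfl⟩
  · rintro ⟨x', hx', rfl⟩
    refine ⟨g⁻¹ * x' * g, ⟨⟨g, hg⟩⁻¹ * x' * ⟨g, hg⟩, ?_, rfl⟩, ?_⟩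
    · have := hN.conj_mem x' hx' (⟨g, hg⟩⁻¹)
      simpa using this
    · show g * (g⁻¹ * x' * g) * g⁻¹ = _
      simp [mul_assoc]

theorem no_component_of_pgroup {C : Type*} [Group C] [Finite C] (F : Subgroup C)
    (hF : IsPGroup 2 ↥F) (hle : Cfsg.layer C ≤ F) : Cfsg.layer C = ⊥ := by
  haveI : Fact (Nat.Prime 2) := ⟨Nat.prime_two⟩
  unfold Cfsg.layer at hle ⊢
  rw [sSup_eq_bot]
  intro K hK
  exfalso
  have hKF : K ≤ F := le_trans (le_sSup hK) hle
  have hKp : IsPGroup 2 ↥K := hF.to_le hKF
  obtain ⟨_, hperf, hsimp⟩ := hK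
  haveI := hperf
  haveI : Group.IsNilpotent ↥K := hKp.isNilpotent
  rcases subsingleton_or_nontrivial ↥K with hs | hn
  · haveI := hsimp
    haveI : Subsingleton (↥K ⧸ Subgroup.center ↥K) := inferInstance
    exact not_subsingleton (↥K ⧸ Subgroup.center ↥K) inferInstance
  · exact Group.IsPerfect.not_isSolvable ↥K inferInstance


open scoped IsMulCommutative in
theorem center_le_fitting (C : Type*) [Group C] : Subgroup.center C ≤ Cfsg.fittingSubgroup C := by
  apply le_sSup
  exact ⟨inferInstance, inferInstance⟩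

theorem aux {G : Type*} [Group G] [Finite G] (z : G) (hz : orderOf z = 2)
    (C : Subgroup G) (hC : C = Subgroup.centralizer ({z} : Set G))
    (F : Subgroup ↥C) (hF : F = Cfsg.generalizedFittingSubgroup ↥C)
    (hQ : Cfsg.IsOfSymplecticType ↥F)
    (B : Subgroup ↥F) (hBc : B.Characteristic) (hBa : IsMulCommutative ↥B) (g : G) :
    ((B.map F.subtype).map C.subtype).map (MulAut.conj g).toMonoidHom =
        (B.map F.subtype).map C.subtype ∨
      ((B.map F.subtype).map C.subtype).map (MulAut.conj g).toMonoidHom ⊓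
        (B.map F.subtype).map C.subtype = ⊥ := by
  classical
  haveI : Fact (Nat.Prime 2) := ⟨Nat.prime_two⟩
  obtain ⟨hF2, hcyc⟩ := hQ
  -- `F` is normal in `C`
  have hlayer : Cfsg.layer ↥C = ⊥ := no_component_of_pgroup F hF2 (by rw [hF]; exact le_sup_left)
  have hFfit : F = Cfsg.fittingSubgroup ↥C := by
    rw [hF]; unfold Cfsg.generalizedFittingSubgroup; rw [hlayer, bot_sup_eq]
  haveI hFn : F.Normal := by
    rw [hFfit]
    exact Subgroup.sSup_normal _ (fun _ h => h.1)
  -- `z` as an element of `C`, `F`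
  have hzC : z ∈ C := by rw [hC]; exact Subgroup.mem_centralizer_singleton_iff.2 rfl
  have hzcen : (⟨z, hzC⟩ : ↥C) ∈ Subgroup.center ↥C := by
    rw [Subgroup.mem_center_iff]
    intro c
    apply Subtype.ext
    have hc : (c : G) ∈ Subgroup.centralizer ({z} : Set G) := by rw [← hC]; exact c.2
    exact Subgroup.mem_centralizer_singleton_iff.1 hc
  have hcenF : Subgroup.center ↥C ≤ F := by
    rw [hFfit]
    exact center_le_fitting ↥C
  have hzF : (⟨z, hzC⟩ : ↥C) ∈ F := hcenF hzcen
  have hzFcen : (⟨⟨z, hzC⟩, hzF⟩ : ↥F) ∈ Subgroup.center ↥F := by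
    rw [Subgroup.mem_center_iff]
    intro f
    apply Subtype.ext
    exact Subgroup.mem_center_iff.1 hzcen f
  have hzF2 : orderOf (⟨⟨z, hzC⟩, hzF⟩ : ↥F) = 2 := by
    rw [← hz, ← Subgroup.orderOf_coe, ← Subgroup.orderOf_coe]
  -- the centre of `F` is cyclic, and `B` is cyclic
  haveI hZcyc : IsCyclic ↥(Subgroup.center ↥F) := hcyc _ inferInstance inferInstance
  haveI hBcyc : IsCyclic ↥B := hcyc B hBc hBa
  haveI hBn : B.Normal := inferInstance
  apply ti_of_unique_invol z
  · -- 2-group
    have h1 : IsPGroup 2 ↥B := hF2.to_subgroup B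
    have h2 : IsPGroup 2 ↥(B.map F.subtype) := h1.map F.subtype
    exact h2.map C.subtype
  · -- every involution is `z`
    rintro u ⟨u', ⟨b, hb, rfl⟩, rfl⟩ hu2
    have hb2 : orderOf b = 2 := by
      rw [← hu2]
      show orderOf b = orderOf ((b : ↥C) : G)
      rw [Subgroup.orderOf_coe, Subgroup.orderOf_coe]
    have hbcen : b ∈ Subgroup.center ↥F := by
      rw [Subgroup.mem_center_iff]
      intro f
      have hmem : f * b * f⁻¹ ∈ B := hBn.conj_mem b hb f
      have ho : orderOf (⟨f * b * f⁻¹, hmem⟩ : ↥B) = 2 := by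
        rw [← Subgroup.orderOf_coe]
        show orderOf (f * b * f⁻¹) = 2
        rw [← hb2]
        exact (MulAut.conj f).orderOf_eq b
      have ho' : orderOf (⟨b, hb⟩ : ↥B) = 2 := by
        rw [← Subgroup.orderOf_coe]; exact hb2
      have := unique_invol _ _ ho ho'
      have h3 : f * b * f⁻¹ = b := congrArg Subtype.val this
      calc f * b = (f * b * f⁻¹) * f := by group
        _ = b * f := by rw [h3]
    have ho1 : orderOf (⟨b, hbcen⟩ : ↥(Subgroup.center ↥F)) = 2 := by
      rw [← Subgroup.orderOf_coe]; exact hb2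
    have ho2 : orderOf (⟨_, hzFcen⟩ : ↥(Subgroup.center ↥F)) = 2 := by
      rw [← Subgroup.orderOf_coe]; exact hzF2
    have := unique_invol _ _ ho1 ho2
    have h4 : b = ⟨⟨z, hzC⟩, hzF⟩ := congrArg Subtype.val this
    rw [h4]
    rfl
  · -- normalised by the centraliser of `z`
    intro g hg
    have hgC : g ∈ C := by rw [hC]; exact Subgroup.mem_centralizer_singleton_iff.2 hg
    haveI : (B.map F.subtype).Normal := ConjAct.normal_of_characteristic_of_normal
    exact map_conj_of_normal C (B.map F.subtype) g hgC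

/-- Let G be a finite group and let z be an involution of G such that Q, the generalized Fitting subgroup of the centralizer C of z, is a 2-group of symplectic type (every characteristic abelian subgroup of Q is cyclic). Let B be a characteristic abelian subgroup of Q, viewed as a subgroup of G. Then for every g in G, the conjugate of B by g either equals B or meets B trivially. -/
theorem result {G : Type*} [Group G] [Finite G] (z : G) (hz : orderOf z = 2) (hQ : Cfsg.IsOfSymplecticType ↥(Cfsg.generalizedFittingSubgroup ↥(Subgroup.centralizer ({z} : Set G))))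
    (B : Subgroup ↥(Cfsg.generalizedFittingSubgroup ↥(Subgroup.centralizer ({z} : Set G)))) (hBc : B.Characteristic) (hBa : IsMulCommutative ↥B) (g : G) :
    ((B.map (Cfsg.generalizedFittingSubgroup ↥(Subgroup.centralizer ({z} : Set G))).subtype).map (Subgroup.centralizer ({z} : Set G)).subtype).map (MulAut.conj g).toMonoidHom =
        (B.map (Cfsg.generalizedFittingSubgroup ↥(Subgroup.centralizer ({z} : Set G))).subtype).map (Subgroup.centralizer ({z} : Set G)).subtype ∨
      ((B.map (Cfsg.generalizedFittingSubgroup ↥(Subgroup.centralizer ({z} : Set G))).subtype).map (Subgroup.centralizer ({z} : Set G)).subtype).map (MulAut.conj g).toMonoidHom ⊓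
        (B.map (Cfsg.generalizedFittingSubgroup ↥(Subgroup.centralizer ({z} : Set G))).subtype).map (Subgroup.centralizer ({z} : Set G)).subtype = ⊥ :=
  aux z hz _ rfl _ rfl hQ B hBc hBa g

end Cfsg.Agent.S1755
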