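import Mathlib
import Cfsg.Statements.S1756

set_option autoImplicit false
open Cfsg

namespace Cfsg.Agent.S1756


instance hasEnoughInt2 : HasEnoughRootsOfUnity ℤ 2 where
  prim := ⟨-1, IsPrimitiveRoot.neg_one 0 (by norm_num)⟩
  cyc := rootsOfUnity.isCyclic ℤ 2

theorem card_intUnits : Nat.card ℤˣ = 2 := by
  rw [Nat.card_eq_fintype_card]; rfl

/-- commutator of two elements, written out -/
def cm {P : Type*} [Group P] (a b : P) : P := a * b * a⁻¹ * b⁻¹

theorem cm_mul_left {P : Type*} [Group P] (q q' x : P)
    (h : ∀ g : P, g * cm q' x = cm q' x * g) : cm (q * q') x = cm q x * cm q' x := by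
  have h1 : cm (q * q') x = q * cm q' x * q⁻¹ * cm q x := by
    simp only [cm]; group
  rw [h1, h q]
  have h2 := h (cm q x)
  calc cm q' x * q * q⁻¹ * cm q x = cm q' x * cm q x := by group
    _ = cm q x * cm q' x := h2.symm

theorem cm_mul_right {P : Type*} [Group P] (q x y : P)
    (h : ∀ g : P, g * cm q y = cm q y * g) : cm q (x * y) = cm q x * cm q y := by
  have h1 : cm q (x * y) = q * x * q⁻¹ * cm q y * x⁻¹ := by
    simp only [cm]; group
  rw [h1, mul_assoc (q * x * q⁻¹), ← h x⁻¹]
  simp only [cm]; group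

theorem cm_eq_one_iff {P : Type*} [Group P] (a b : P) : cm a b = 1 ↔ a * b = b * a := by
  unfold cm
  constructor
  · intro h
    calc a * b = (a * b * a⁻¹ * b⁻¹) * (b * a) := by group
      _ = b * a := by rw [h, one_mul]
  · intro h
    calc a * b * a⁻¹ * b⁻¹ = (a * b) * (a⁻¹ * b⁻¹) := by group
      _ = (b * a) * (a⁻¹ * b⁻¹) := by rw [h]
      _ = 1 := by group

theorem exists_centralizing_noncentral {P : Type*} [Group P] [Finite P]
    (hc : Nat.card (Subgroup.center P) = 2) (hcomm : commutator P = Subgroup.center P)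
    (M : Subgroup P) (hM : M.index = 2) :
    ∃ x : P, x ∉ Subgroup.center P ∧ ∀ m ∈ M, x * m = m * x := by
  classical
  haveI : Fact (Nat.Prime 2) := ⟨Nat.prime_two⟩
  let ι : Subgroup.center P ≃* ℤˣ := mulEquivOfPrimeCardEq (p := 2) hc card_intUnits
  have hcen : ∀ a b : P, cm a b ∈ Subgroup.center P := by
    intro a b
    rw [← hcomm]
    exact Subgroup.commutator_mem_commutator (Subgroup.mem_top a) (Subgroup.mem_top b)
  have hcen' : ∀ a b g : P, g * cm a b = cm a b * g :=
    fun a b g => Subgroup.mem_center_iff.1 (hcen a b) g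
  let ψ : P → (P →* ℤˣ) := fun x =>
    { toFun := fun q => ι ⟨cm q x, hcen q x⟩
      map_one' := by
        have : (⟨cm 1 x, hcen 1 x⟩ : Subgroup.center P) = 1 := by
          apply Subtype.ext; simp [cm]
        rw [this, map_one]
      map_mul' := fun q q' => by
        rw [← map_mul]
        congr 1
        apply Subtype.ext
        exact cm_mul_left q q' x (hcen' q' x) }
  have hψ : ∀ x q, ψ x q = ι ⟨cm q x, hcen q x⟩ := fun x q => rfl
  let Ψ : P →* (P →* ℤˣ) :=
    { toFun := ψ
      map_one' := by
        ext q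
        rw [hψ]
        have : (⟨cm q 1, hcen q 1⟩ : Subgroup.center P) = 1 := by
          apply Subtype.ext; simp [cm]
        rw [this, map_one]; rfl
      map_mul' := fun x y => by
        ext q
        rw [MonoidHom.mul_apply, hψ, hψ, hψ, ← map_mul]
        congr 2
        apply Subtype.ext
        exact cm_mul_right q x y (hcen' q y) }
  have hΨ : ∀ x q, Ψ x q = ι ⟨cm q x, hcen q x⟩ := fun x q => rfl
  have hΨ1 : ∀ x q, Ψ x q = 1 ↔ q * x = x * q := by
    intro x q
    rw [hΨ, MulEquiv.map_eq_one_iff, ← cm_eq_one_iff]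
    exact Subtype.ext_iff
  have hker : Ψ.ker = Subgroup.center P := by
    ext x
    rw [MonoidHom.mem_ker, Subgroup.mem_center_iff]
    constructor
    · intro h g
      have := (hΨ1 x g).1 (by rw [h]; rfl)
      exact this
    · intro h
      ext q
      have := (hΨ1 x q).2 (h q)
      rw [this]; rfl
  -- squares are central
  have hsq : ∀ q : P, q ^ 2 ∈ Subgroup.center P := by
    intro q
    rw [Subgroup.mem_center_iff]
    intro y
    have h1 : Ψ y (q ^ 2) = 1 := by
      rw [map_pow]
      exact Int.units_pow_two _ 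
    exact ((hΨ1 y (q ^ 2)).1 h1).symm
  -- exponent of abelianization divides 2
  have hexp : Monoid.exponent (Abelianization P) ∣ 2 := by
    apply Monoid.exponent_dvd_of_forall_pow_eq_one
    intro a
    obtain ⟨q, rfl⟩ : ∃ q, Abelianization.of q = a := QuotientGroup.mk_surjective a
    rw [← map_pow, ← MonoidHom.mem_ker, Abelianization.ker_of, hcomm]
    exact hsq q
  haveI : HasEnoughRootsOfUnity ℤ (Monoid.exponent (Abelianization P)) :=
    HasEnoughRootsOfUnity.of_dvd ℤ hexp
  have hcard1 : Nat.card (Abelianization P →* ℤˣ) = Nat.card (Abelianization P) :=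
    CommGroup.card_monoidHom_of_hasEnoughRootsOfUnity (Abelianization P) ℤ
  have hcard2 : Nat.card (P →* ℤˣ) = Nat.card (Abelianization P →* ℤˣ) :=
    Nat.card_congr Abelianization.lift
  have hcard3 : Nat.card (Abelianization P) = (Subgroup.center P).index := by
    rw [← hcomm]; rfl
  have hcard4 : Nat.card Ψ.range = (Subgroup.center P).index := by
    rw [← hker, Subgroup.index_ker]
  haveI : Finite (P →* ℤˣ) := Finite.of_injective (fun f => (f : P → ℤˣ)) DFunLike.coe_injective
  have hrange : Ψ.range = ⊤ := by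
    rw [← Subgroup.card_eq_iff_eq_top, hcard4, hcard2, hcard1, hcard3]
  -- the hom with kernel M
  haveI hMn : M.Normal := Subgroup.normal_of_index_eq_two hM
  let κ : (P ⧸ M) ≃* ℤˣ := mulEquivOfPrimeCardEq (p := 2) hM card_intUnits
  let lam : P →* ℤˣ := κ.toMonoidHom.comp (QuotientGroup.mk' M)
  have hlam : ∀ q, lam q = 1 ↔ q ∈ M := by
    intro q
    show κ (QuotientGroup.mk' M q) = 1 ↔ q ∈ M
    rw [MulEquiv.map_eq_one_iff]
    exact QuotientGroup.eq_one_iff q
  obtain ⟨x, hx⟩ : lam ∈ Ψ.range := by rw [hrange]; exact Subgroup.mem_top _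
  refine ⟨x, ?_, ?_⟩
  · intro hxc
    have hMtop : M = ⊤ := by
      rw [Subgroup.eq_top_iff']
      intro q
      rw [← hlam, ← hx, hΨ1]
      exact Subgroup.mem_center_iff.1 hxc q
    rw [hMtop, Subgroup.index_top] at hM
    omega
  · intro m hm
    have := (hlam m).2 hm
    rw [← hx, hΨ1] at this
    exact this.symm



theorem invol_aut_central {P : Type*} [Group P] (τ : P →* P) (hτ : ∀ q, τ (τ q) = q)
    (M : Subgroup P) (hM : M.index = 2) (hfix : ∀ q, q ∈ M ↔ τ q = q) (q : P) (hq : q ∉ M) :
    q⁻¹ * τ q ∈ Subgroup.center P ∧ q⁻¹ * τ q ≠ 1 := by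
  haveI hMn : M.Normal := Subgroup.normal_of_index_eq_two hM
  set c := q⁻¹ * τ q with hc
  have hτq : τ q = q * c := by rw [hc]; group
  have ha : τ q ∉ M := by
    intro h
    have := (hfix (τ q)).1 h
    rw [hτ] at this
    exact hq ((hfix q).2 this.symm)
  have hqi : q⁻¹ ∉ M := fun h => hq (by simpa using M.inv_mem h)
  have hb : c ∈ M := by
    rw [hc, Subgroup.mul_mem_iff_of_index_two hM]
    exact ⟨fun h => absurd h hqi, fun h => absurd h ha⟩
  have hτc : τ c = c := (hfix c).1 hb
  have hcc : c * c = 1 := by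
    have h1 : τ (τ q) = q * c * c := by
      rw [hτq, map_mul, hτq, hτc]
    rw [hτ] at h1
    have : q * (c * c) = q * 1 := by rw [mul_one, ← mul_assoc]; exact h1.symm
    exact mul_left_cancel this
  have hci : c⁻¹ = c := inv_eq_of_mul_eq_one_left hcc
  have hd : ∀ m ∈ M, c * m = m * c := by
    intro m hm
    have h1 : q * m * q⁻¹ ∈ M := hMn.conj_mem m hm q
    have h2 := (hfix _).1 h1
    rw [map_mul, map_mul, map_inv, (hfix m).1 hm, hτq] at h2
    have h3 : c * m * c⁻¹ = m := by
      calc c * m * c⁻¹ = q⁻¹ * (q * c * m * (q * c)⁻¹) * q := by group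
        _ = q⁻¹ * (q * m * q⁻¹) * q := by rw [h2]
        _ = m := by group
    calc c * m = (c * m * c⁻¹) * c := by group
      _ = m * c := by rw [h3]
  have he : c * q = q * c := by
    have h1 : q * q ∈ M := Subgroup.mul_self_mem_of_index_two hM q
    have h2 := (hfix _).1 h1
    rw [map_mul, hτq] at h2
    have h3 : c * q * c = q := by
      have : q * (c * q * c) = q * q := by
        calc q * (c * q * c) = q * c * (q * c) := by group
          _ = q * q := h2
      exact mul_left_cancel this
    calc c * q = (c * q * c) * c⁻¹ := by group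
      _ = q * c := by rw [h3, hci]
  refine ⟨?_, ?_⟩
  · rw [Subgroup.mem_center_iff]
    intro g
    by_cases hg : g ∈ M
    · exact (hd g hg).symm
    · have h1 : q⁻¹ * g ∈ M := by
        rw [Subgroup.mul_mem_iff_of_index_two hM]
        exact ⟨fun h => absurd h hqi, fun h => absurd h hg⟩
      have h2 := hd _ h1
      calc g * c = q * (q⁻¹ * g) * c := by group
        _ = q * ((q⁻¹ * g) * c) := by group
        _ = q * (c * (q⁻¹ * g)) := by rw [h2]
        _ = (q * c) * (q⁻¹ * g) := by group
        _ = (c * q) * (q⁻¹ * g) := by rw [he]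
        _ = c * g := by group
  · intro h1
    apply hq
    rw [hfix, hτq, h1, mul_one]


theorem unique_nontrivial {Z : Type*} [Group Z] (hZ : Nat.card Z = 2) (a b : Z) (ha : a ≠ 1)
    (hb : b ≠ 1) : a = b := by
  obtain ⟨y, _, hy⟩ := (Nat.card_eq_two_iff' (1 : Z)).1 hZ
  rw [hy a ha, hy b hb]

/-- Let Q be an extraspecial 2-subgroup of the finite group G (special with centre of order 2) and t an involution of G normalizing Q such that the centralizer of t in Q has index at most 2 in Q. Then t lies in the product of Q with the centralizer of Q. -/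
theorem result {G : Type*} [Group G] [Finite G] (Q : Subgroup G)
    (hQ : Cfsg.IsExtraspecial 2 ↥Q) (t : G) (ht : orderOf t = 2) (htN : t ∈ Subgroup.normalizer (Q : Set G))
    (hi : (Subgroup.centralizer ({t} : Set G) ⊓ Q).relIndex Q ≤ 2) :
    t ∈ Q ⊔ Subgroup.centralizer (Q : Set G) := by
  classical
  obtain ⟨⟨_, _, hcomm⟩, hc⟩ := hQ
  have ht2 : t * t = 1 := by
    have := pow_orderOf_eq_one t
    rw [ht, pow_two] at this
    exact this
  have hti : t⁻¹ = t := inv_eq_of_mul_eq_one_left ht2
  have hnorm : ∀ q : G, q ∈ Q → t * q * t⁻¹ ∈ Q := fun q hq =>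
    ((Subgroup.mem_normalizer_iff).1 htN q).1 hq
  let τ : ↥Q →* ↥Q :=
    { toFun := fun q => ⟨t * q * t⁻¹, hnorm q q.2⟩
      map_one' := by apply Subtype.ext; simp
      map_mul' := fun a b => by
        apply Subtype.ext
        show t * (a * b : G) * t⁻¹ = (t * a * t⁻¹) * (t * b * t⁻¹)
        group }
  have hτv : ∀ q : ↥Q, ((τ q : ↥Q) : G) = t * q * t⁻¹ := fun q => rfl
  have hττ : ∀ q, τ (τ q) = q := by
    intro q
    apply Subtype.ext
    rw [hτv, hτv, hti]
    calc t * (t * (q : G) * t) * t = (t * t) * q * (t * t) := by group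
      _ = q := by rw [ht2, one_mul, mul_one]
  set M : Subgroup ↥Q := (Subgroup.centralizer ({t} : Set G) ⊓ Q).subgroupOf Q with hMdef
  have hfix : ∀ q : ↥Q, q ∈ M ↔ τ q = q := by
    intro q
    rw [hMdef, Subgroup.mem_subgroupOf, Subgroup.mem_inf, Subgroup.mem_centralizer_singleton_iff]
    constructor
    · rintro ⟨h, _⟩
      apply Subtype.ext
      rw [hτv, ← h]
      group
    · intro h
      refine ⟨?_, q.2⟩
      have h1 : t * (q : G) * t⁻¹ = q := by rw [← hτv, h]
      calc (q : G) * t = (t * q * t⁻¹) * t := by rw [h1]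
        _ = t * q := by group
  have hidx : M.index = (Subgroup.centralizer ({t} : Set G) ⊓ Q).relIndex Q := rfl
  have hidx0 : M.index ≠ 0 := Subgroup.index_ne_zero_of_finite
  have hcases : M.index = 1 ∨ M.index = 2 := by
    rw [← hidx] at hi
    omega
  rcases hcases with h1 | h2
  · -- `t` centralizes `Q`
    apply Subgroup.mem_sup_right
    rw [Subgroup.index_eq_one] at h1
    rw [Subgroup.mem_centralizer_iff]
    intro q hq
    have hqM : (⟨q, hq⟩ : ↥Q) ∈ M := by rw [h1]; exact Subgroup.mem_top _
    have := (hfix ⟨q, hq⟩).1 hqM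
    have h3 : t * q * t⁻¹ = q := congrArg Subtype.val this
    calc q * t = (t * q * t⁻¹) * t := by rw [h3]
      _ = t * q := by group
  · obtain ⟨x, hxc, hxM⟩ := exists_centralizing_noncentral hc hcomm M h2
    have hcen : ∀ a b : ↥Q, cm a b ∈ Subgroup.center ↥Q := by
      intro a b
      rw [← hcomm]
      exact Subgroup.commutator_mem_commutator (Subgroup.mem_top a) (Subgroup.mem_top b)
    -- `τ` agrees with conjugation by `x`
    have hagree : ∀ q : ↥Q, τ q = x * q * x⁻¹ := by
      intro q
      by_cases hq : q ∈ M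
      · rw [(hfix q).1 hq, hxM q hq]
        group
      · obtain ⟨hc1, hc2⟩ := invol_aut_central τ hττ M h2 hfix q hq
        have hc3 : cm q⁻¹ x ∈ Subgroup.center ↥Q := hcen q⁻¹ x
        have hc4 : cm q⁻¹ x ≠ 1 := by
          intro h
          rw [cm_eq_one_iff] at h
          -- then `x` commutes with `q`, hence with everything
          apply hxc
          rw [Subgroup.mem_center_iff]
          intro g
          have hxq : x * q = q * x := by
            calc x * q = q * (q⁻¹ * x) * q := by group
              _ = q * (x * q⁻¹) * q := by rw [h]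
              _ = q * x := by group
          by_cases hg : g ∈ M
          · exact (hxM g hg).symm
          · have hqi : q⁻¹ ∉ M := fun h => hq (by simpa using M.inv_mem h)
            have h5 : q⁻¹ * g ∈ M := by
              rw [Subgroup.mul_mem_iff_of_index_two h2]
              exact ⟨fun h => absurd h hqi, fun h => absurd h hg⟩
            have h6 := hxM _ h5
            calc g * x = q * ((q⁻¹ * g) * x) := by group
              _ = q * (x * (q⁻¹ * g)) := by rw [h6]
              _ = (q * x) * (q⁻¹ * g) := by group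
              _ = (x * q) * (q⁻¹ * g) := by rw [hxq]
              _ = x * g := by group
        have heq : (⟨q⁻¹ * τ q, hc1⟩ : Subgroup.center ↥Q) = ⟨cm q⁻¹ x, hc3⟩ := by
          apply unique_nontrivial hc
          · intro h; exact hc2 (congrArg Subtype.val h)
          · intro h; exact hc4 (congrArg Subtype.val h)
        have heq' : q⁻¹ * τ q = cm q⁻¹ x := congrArg Subtype.val heq
        have hcomm2 : cm q⁻¹ x = q⁻¹ * (x * q * x⁻¹) := by
          simp only [cm]; group
        rw [hcomm2] at heq'
        exact mul_left_cancel heq'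
    have hagreeG : ∀ q : G, q ∈ Q → t * q * t⁻¹ = x * q * (x : G)⁻¹ := by
      intro q hq
      have := congrArg Subtype.val (hagree ⟨q, hq⟩)
      exact this
    have hy : (x : G)⁻¹ * t ∈ Subgroup.centralizer (Q : Set G) := by
      rw [Subgroup.mem_centralizer_iff]
      intro q hq
      have h3 := hagreeG q hq
      calc q * ((x : G)⁻¹ * t) = (x : G)⁻¹ * ((x : G) * q * (x : G)⁻¹) * t := by group
        _ = (x : G)⁻¹ * (t * q * t⁻¹) * t := by rw [h3]
        _ = (x : G)⁻¹ * t * q := by group
    have : t = (x : G) * ((x : G)⁻¹ * t) := by group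
    rw [this]
    exact Subgroup.mul_mem_sup x.2 hy

end Cfsg.Agent.S1756
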