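import Cfsg.Statements.S1757

set_option autoImplicit false
open Cfsg

namespace Cfsg.Agent.S1757

/-- Let p be a prime and A, B p-subgroups of the finite group G, each of which meets every conjugate of itself other than itself trivially. Suppose the order of A is at most that of B, A and B intersect trivially, and B normalizes A. Then A and B commute elementwise. -/
theorem result {G : Type*} [Group G] [Finite G] (p : ℕ) [Fact p.Prime] (A B : Subgroup G)
    (hA : IsPGroup p ↥A) (hB : IsPGroup p ↥B)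
    (hAti : ∀ g : G, A.map (MulAut.conj g).toMonoidHom = A ∨ A.map (MulAut.conj g).toMonoidHom ⊓ A = ⊥)
    (hBti : ∀ g : G, B.map (MulAut.conj g).toMonoidHom = B ∨ B.map (MulAut.conj g).toMonoidHom ⊓ B = ⊥)
    (hle : Nat.card ↥A ≤ Nat.card ↥B) (hAB : A ⊓ B = ⊥) (hN : B ≤ Subgroup.normalizer (A : Set G)) : ⁅A, B⁆ = ⊥ := by
  classical
  rw [Subgroup.commutator_eq_bot_iff_le_centralizer]
  intro a ha
  by_contra hcon
  -- conjugation by elements of `B` keeps `A`
  have hconj : ∀ b ∈ B, ∀ x ∈ A, b * x * b⁻¹ ∈ A := by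
    intro b hb x hx
    exact ((Subgroup.mem_normalizer_iff).1 (hN hb) x).1 hx
  -- the stabilizer of `a` in `B` is trivial
  have hstab : ∀ b ∈ B, b * a * b⁻¹ = a → b = 1 := by
    intro b hb hba
    rcases hBti a with h | h
    · exfalso
      apply hcon
      rw [Subgroup.mem_centralizer_iff]
      intro b' hb'
      have h1 : a * b' * a⁻¹ ∈ B := by
        rw [← h]
        exact ⟨b', hb', rfl⟩
      have h2 : a * b' * a⁻¹ * b'⁻¹ ∈ B := B.mul_mem h1 (B.inv_mem hb')
      have h3 : a * b' * a⁻¹ * b'⁻¹ ∈ A := by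
        have : a * b' * a⁻¹ * b'⁻¹ = a * (b' * a⁻¹ * b'⁻¹) := by group
        rw [this]
        exact A.mul_mem ha (hconj b' hb' _ (A.inv_mem ha))
      have h4 : a * b' * a⁻¹ * b'⁻¹ ∈ A ⊓ B := ⟨h3, h2⟩
      rw [hAB, Subgroup.mem_bot] at h4
      have : a * b' = b' * a := by
        calc a * b' = (a * b' * a⁻¹ * b'⁻¹) * (b' * a) := by group
          _ = b' * a := by rw [h4, one_mul]
      exact this.symm
    · have hb2 : b ∈ B.map (MulAut.conj a).toMonoidHom ⊓ B := by
        refine ⟨⟨b, hb, ?_⟩, hb⟩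
        show a * b * a⁻¹ = b
        have : b * a = a * b := by
          calc b * a = (b * a * b⁻¹) * b := by group
            _ = a * b := by rw [hba]
        calc a * b * a⁻¹ = (b * a) * a⁻¹ := by rw [this]
          _ = b := by group
      rw [h, Subgroup.mem_bot] at hb2
      exact hb2
  have ha1 : a ≠ 1 := by
    rintro rfl
    exact hcon (Subgroup.one_mem _)
  let f : B → A := fun b => ⟨(b : G) * a * (b : G)⁻¹, hconj b b.2 a ha⟩
  have hf : Function.Injective f := by
    intro b b' hbb'
    have h1 : (b : G) * a * (b : G)⁻¹ = (b' : G) * a * (b' : G)⁻¹ := congrArg Subtype.val hbb'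
    have h2 : ((b' : G)⁻¹ * (b : G)) * a * ((b' : G)⁻¹ * (b : G))⁻¹ = a := by
      calc ((b' : G)⁻¹ * (b : G)) * a * ((b' : G)⁻¹ * (b : G))⁻¹
          = (b' : G)⁻¹ * ((b : G) * a * (b : G)⁻¹) * (b' : G) := by group
        _ = (b' : G)⁻¹ * ((b' : G) * a * (b' : G)⁻¹) * (b' : G) := by rw [h1]
        _ = a := by group
    have h3 := hstab _ (B.mul_mem (B.inv_mem b'.2) b.2) h2
    apply Subtype.ext
    calc (b : G) = (b' : G) * ((b' : G)⁻¹ * (b : G)) := by group
      _ = (b' : G) := by rw [h3, mul_one]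
  have hns : (1 : A) ∉ Set.range f := by
    rintro ⟨b, hb⟩
    have h1 : (b : G) * a * (b : G)⁻¹ = 1 := congrArg Subtype.val hb
    apply ha1
    calc a = (b : G)⁻¹ * ((b : G) * a * (b : G)⁻¹) * (b : G) := by group
      _ = 1 := by rw [h1]; group
  haveI : Fintype A := Fintype.ofFinite A
  haveI : Fintype B := Fintype.ofFinite B
  have hlt := Fintype.card_lt_of_injective_of_notMem f hf hns
  rw [Nat.card_eq_fintype_card, Nat.card_eq_fintype_card] at hle
  omega

end Cfsg.Agent.S1757
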