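import Cfsg.Statements.S1774
import Mathlib
import Cfsg.Agent.Lib.Helper4.SympExtra4

set_option autoImplicit false
open Cfsg

namespace Cfsg.Agent.S1774

/-- Let G be a finite group and let z be an involution of G such that Q, the generalized Fitting subgroup of the centralizer C of z, is a 2-group of symplectic type (every characteristic abelian subgroup of Q is cyclic); suppose every element of Q has order dividing 4. Let g ∈ G with z' = g z g⁻¹ ≠ z and z' ∈ Q. Then z lies in the conjugate g Q g⁻¹, and the subgroup X generated by Q and g Q g⁻¹ induces every automorphism of the four-group generated by z and z': for any two distinct non-identity elements u, v of that four-group there is x ∈ X with x z x⁻¹ = u and x z' x⁻¹ = v. -/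
theorem result {G : Type*} [Group G] [Finite G] (z : G) (hz : orderOf z = 2) (hQ : Cfsg.IsOfSymplecticType ↥(Cfsg.generalizedFittingSubgroup ↥(Subgroup.centralizer ({z} : Set G))))
    (h4 : ∀ q ∈ (Cfsg.generalizedFittingSubgroup ↥(Subgroup.centralizer ({z} : Set G))).map (Subgroup.centralizer ({z} : Set G)).subtype, q ^ 4 = 1) (g : G) (hne : g * z * g⁻¹ ≠ z) (hin : g * z * g⁻¹ ∈ (Cfsg.generalizedFittingSubgroup ↥(Subgroup.centralizer ({z} : Set G))).map (Subgroup.centralizer ({z} : Set G)).subtype) :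
    z ∈ ((Cfsg.generalizedFittingSubgroup ↥(Subgroup.centralizer ({z} : Set G))).map (Subgroup.centralizer ({z} : Set G)).subtype).map (MulAut.conj g).toMonoidHom ∧
      ∀ u ∈ Subgroup.closure ({z, g * z * g⁻¹} : Set G), ∀ v ∈ Subgroup.closure ({z, g * z * g⁻¹} : Set G),
        u ≠ 1 → v ≠ 1 → u ≠ v →
          ∃ x ∈ (Cfsg.generalizedFittingSubgroup ↥(Subgroup.centralizer ({z} : Set G))).map (Subgroup.centralizer ({z} : Set G)).subtype ⊔ ((Cfsg.generalizedFittingSubgroup ↥(Subgroup.centralizer ({z} : Set G))).map (Subgroup.centralizer ({z} : Set G)).subtype).map (MulAut.conj g).toMonoidHom, x * z * x⁻¹ = u ∧ x * (g * z * g⁻¹) * x⁻¹ = v := by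
  obtain ⟨hN, hQz, h1⟩ := Cfsg.Agent.Lib.Helper4.LXS.setup_of_fstar z hz hQ h4
  set Q0 := (Cfsg.generalizedFittingSubgroup ↥(Subgroup.centralizer ({z} : Set G))).map
    (Subgroup.centralizer ({z} : Set G)).subtype with hQ0
  set Qf := Cfsg.Agent.Lib.Helper4.LXF.famOf Q0 z with hQf
  have hF : Cfsg.Agent.Lib.Helper4.LXF.Fam Qf := Cfsg.Agent.Lib.Helper4.LXF.famOf_fam Q0 z hN hQz
  have hself : Qf z = Q0 := Cfsg.Agent.Lib.Helper4.LXF.famOf_self Q0 z hN
  have hconj : Qf (g * z * g⁻¹) = Q0.map (MulAut.conj g).toMonoidHom :=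
    Cfsg.Agent.Lib.Helper4.LXF.famOf_conj Q0 z hN g
  have h2 : Cfsg.Agent.Lib.Helper4.LXS.LS Qf (g * z * g⁻¹) := h1.conj hF g
  have h21 : g * z * g⁻¹ ∈ Qf z := by rw [hself]; exact hin
  have h12 : z ∈ Qf (g * z * g⁻¹) :=
    h1.symm_mem hF h2 (le_of_eq (Cfsg.Agent.Lib.Helper4.LXF.card_Q_conj hF g z)) h21
  refine ⟨by rw [← hconj]; exact h12, ?_⟩
  have hc : z * (g * z * g⁻¹) = (g * z * g⁻¹) * z :=
    Cfsg.Agent.Lib.Helper4.LXF.Q_comm hF h12
  obtain ⟨q1, hq1, hq1z⟩ := h1.exists_move h21 h2.ne hne h2.sq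
  obtain ⟨q2, hq2, hq2z⟩ := h2.exists_move h12 h1.ne (Ne.symm hne) h1.sq
  have a1 : Cfsg.Agent.Lib.Helper4.LXF.Cj q1 z z := by
    unfold Cfsg.Agent.Lib.Helper4.LXF.Cj
    rw [Cfsg.Agent.Lib.Helper4.LXF.Q_comm hF hq1]; group
  have a2 : Cfsg.Agent.Lib.Helper4.LXF.Cj q1 (g * z * g⁻¹) (z * (g * z * g⁻¹)) := by
    unfold Cfsg.Agent.Lib.Helper4.LXF.Cj
    calc q1 * (g * z * g⁻¹) * q1⁻¹
        = (q1 * (g * z * g⁻¹) * q1⁻¹ * (g * z * g⁻¹)⁻¹) * (g * z * g⁻¹) := by group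
      _ = z * (g * z * g⁻¹) := by rw [hq1z]
  have b2 : Cfsg.Agent.Lib.Helper4.LXF.Cj q2 (g * z * g⁻¹) (g * z * g⁻¹) := by
    unfold Cfsg.Agent.Lib.Helper4.LXF.Cj
    rw [Cfsg.Agent.Lib.Helper4.LXF.Q_comm hF hq2]; group
  have b1 : Cfsg.Agent.Lib.Helper4.LXF.Cj q2 z (z * (g * z * g⁻¹)) := by
    unfold Cfsg.Agent.Lib.Helper4.LXF.Cj
    calc q2 * z * q2⁻¹ = (q2 * z * q2⁻¹ * z⁻¹) * z := by group
      _ = (g * z * g⁻¹) * z := by rw [hq2z]
      _ = z * (g * z * g⁻¹) := hc.symm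
  intro u hu v hv hu1 hv1 huv
  exact Cfsg.Agent.Lib.Helper4.LXS.exists_perm_of_trans h1.sq h2.sq hc (Ne.symm hne) h1.ne h2.ne
    a1 a2 b1 b2 (Q0 ⊔ Q0.map (MulAut.conj g).toMonoidHom)
    (Subgroup.mem_sup_left (by rw [← hself]; exact hq1))
    (Subgroup.mem_sup_right (by rw [← hconj]; exact hq2)) hu hv hu1 hv1 huv

end Cfsg.Agent.S1774
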