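import Cfsg.Statements.S1775
import Cfsg.Agent.Lib.Helper22.BPQ

set_option autoImplicit false
open Cfsg

namespace Cfsg.Agent.S1775

open Subgroup
open scoped commutatorElement
open Cfsg.Agent.Lib.Helper22.BP
open Cfsg.Agent.Lib.Helper33 (cj cj_def mem_cj cj_eq_self_iff)

section helpers

variable {Y : Type*} [Group Y] [Finite Y] {p : ℕ} [hp : Fact p.Prime]

/-- The core of a `p`-component of `C` lies in the core of `C`. -/
theorem core_mem_core {C J : Subgroup Y} (hJ : PC p C J) (o : ↥J) (ho : o ∈ pPrimeCore p ↥J) :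
    (⟨(o : Y), hJ.1 o.2⟩ : ↥C) ∈ pPrimeCore p ↥C := by
  set J₀ := J.subgroupOf C with hJ₀
  set ε : ↥J₀ ≃* ↥J := Subgroup.subgroupOfEquivOfLe hJ.1 with hε
  have h1 : ((pPrimeCore p ↥J₀).map J₀.subtype).IsSubnormal :=
    Subgroup.IsSubnormal.trans' (Subgroup.Normal.isSubnormal inferInstance) hJ.2.1
  have h2 : (Nat.card ((pPrimeCore p ↥J₀).map J₀.subtype)).Coprime p := by
    rw [Subgroup.card_subtype]
    exact Cfsg.Agent.Lib.Helper30.pPrimeCore_card_coprime p
  have h3 := Cfsg.Agent.Lib.Helper23.subnormal_coprime_le_pPrimeCore p h1 h2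
  apply h3
  have h4 : ε.symm o ∈ pPrimeCore p ↥J₀ := by
    rw [← Cfsg.Agent.Lib.Helper23.pPrimeCore_map_equiv p ε.symm]
    exact Subgroup.mem_map_of_mem _ ho
  refine ⟨ε.symm o, h4, ?_⟩
  apply Subtype.ext
  have : ((ε (ε.symm o) : ↥J) : Y) = (o : Y) := by rw [MulEquiv.apply_symm_apply]
  rw [← this]
  rfl

/-- The `B`-property gives `[J, O(J)] ≤ O(Y)` for a 2-component `J` of an involution
centralizer. -/
theorem commutator_core_of_hasBProperty [Fact (Nat.Prime 2)] (hB : HasBProperty Y) {t : Y}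
    (ht : orderOf t = 2) {J : Subgroup Y} (hJ : PC 2 (centralizer ({t} : Set Y)) J) :
    ∀ j ∈ J, ∀ o : ↥J, o ∈ pPrimeCore 2 ↥J → ⁅j, (o : Y)⁆ ∈ pPrimeCore 2 Y := by
  intro j hj o ho
  have h1 := hB t ht
  apply h1
  have hjC : j ∈ centralizer ({t} : Set Y) := hJ.1 hj
  have h2 : (⟨j, hjC⟩ : ↥(centralizer ({t} : Set Y))) ∈ pLayer 2 ↥(centralizer ({t} : Set Y)) := by
    have h3 : J.subgroupOf (centralizer ({t} : Set Y)) ≤ pLayer 2 ↥(centralizer ({t} : Set Y)) :=
      le_sSup (pc_iff.mp hJ).2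
    exact h3 (Subgroup.mem_subgroupOf.mpr hj)
  have h4 := core_mem_core hJ o ho
  exact ⟨⁅⟨j, hjC⟩, ⟨(o : Y), hJ.1 o.2⟩⁆, Subgroup.commutator_mem_commutator h2 h4, rfl⟩

/-- Transported version of `commutator_core_of_hasBProperty`. -/
theorem commutator_core_of_hasBProperty' [Fact (Nat.Prime 2)] {Y' : Type*} [Group Y'] [Finite Y']
    (e : Y ≃* Y') (hB : HasBProperty Y') {t : Y}
    (ht : orderOf t = 2) {J : Subgroup Y} (hJ : PC 2 (centralizer ({t} : Set Y)) J) :
    ∀ j ∈ J, ∀ o : ↥J, o ∈ pPrimeCore 2 ↥J → ⁅j, (o : Y)⁆ ∈ pPrimeCore 2 Y := by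
  intro j hj o ho
  have ht' : orderOf (e t) = 2 := by rw [MulEquiv.orderOf_eq]; exact ht
  have hJ' : PC 2 (centralizer ({e t} : Set Y')) (J.map e.toMonoidHom) := by
    rw [← centralizer_singleton_map_equiv]
    exact pc_map_equiv e hJ
  set ε : ↥J ≃* ↥(J.map e.toMonoidHom) := J.equivMapOfInjective e.toMonoidHom e.injective with hε
  have ho' : ε o ∈ pPrimeCore 2 ↥(J.map e.toMonoidHom) := by
    rw [← Cfsg.Agent.Lib.Helper23.pPrimeCore_map_equiv 2 ε]
    exact Subgroup.mem_map_of_mem _ ho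
  have h1 := commutator_core_of_hasBProperty hB ht' hJ' (e j) (Subgroup.mem_map_of_mem _ hj)
    (ε o) ho'
  have h2 : ((ε o : ↥(J.map e.toMonoidHom)) : Y') = e (o : Y) := rfl
  rw [h2, ← map_commutatorElement, ← Cfsg.Agent.Lib.Helper23.pPrimeCore_map_equiv 2 e] at h1
  obtain ⟨c, hc, hce⟩ := h1
  have : c = ⁅j, (o : Y)⁆ := e.injective hce
  rw [← this]
  exact hc

end helpers

/-- Let G be a finite group whose generalized Fitting subgroup is a non-abelian simple group and in which every proper section (every quotient H/N of a proper subgroup H, or of G by a nontrivial normal subgroup) has the B-property. Let x, y be commuting involutions, let D be the intersection of the 2-layer of C_G(x) with C_G(y), and let J be a 2-component of D. Write Q for the quotient of C_G(y) by its largest normal odd-order subgroup. Then (i) the image of J in Q is a component of the centralizer in Q of the image of x; and (ii) for every J-invariant subgroup E of odd order of C_G(x) ∩ C_G(y),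 the commutator subgroup [J, E] lies in the largest normal odd-order subgroup of C_G(y). -/
theorem result {G : Type*} [Group G] [Finite G]
    (hF : IsSimpleGroup ↥(Cfsg.generalizedFittingSubgroup G)) (hF' : ¬ IsMulCommutative ↥(Cfsg.generalizedFittingSubgroup G))
    (hsec : ∀ (H : Subgroup G) (N : Subgroup ↥H) [N.Normal], (H ≠ ⊤ ∨ N ≠ ⊥) → Cfsg.HasBProperty (↥H ⧸ N))
    (x y : G) (hx : orderOf x = 2) (hy : orderOf y = 2) (hxy : x * y = y * x)
    (J : Subgroup ↥((Cfsg.pLayer 2 ↥(Subgroup.centralizer ({x} : Set G))).map (Subgroup.centralizer ({x} : Set G)).subtype ⊓ Subgroup.centralizer ({y} : Set G)))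
    (hJ : Cfsg.IsPComponent 2 J) :
    Cfsg.IsComponent
        ((((J.map (Subgroup.subtype _)).subgroupOf (Subgroup.centralizer ({y} : Set G))).map (QuotientGroup.mk' (Cfsg.oddCore ↥(Subgroup.centralizer ({y} : Set G))))).subgroupOf
          (Subgroup.centralizer ({(QuotientGroup.mk' (Cfsg.oddCore ↥(Subgroup.centralizer ({y} : Set G))) ⟨x, Subgroup.mem_centralizer_singleton_iff.mpr hxy⟩ : ↥(Subgroup.centralizer ({y} : Set G)) ⧸ Cfsg.oddCore ↥(Subgroup.centralizer ({y} : Set G)))} : Set _))) ∧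
      ∀ E : Subgroup G, E ≤ Subgroup.centralizer ({x} : Set G) ⊓ Subgroup.centralizer ({y} : Set G) → Odd (Nat.card ↥E) →
        (∀ j ∈ J.map (Subgroup.subtype _), ∀ e ∈ E, j * e * j⁻¹ ∈ E) →
          ⁅J.map (Subgroup.subtype _), E⁆ ≤ (Cfsg.oddCore ↥(Subgroup.centralizer ({y} : Set G))).map (Subgroup.centralizer ({y} : Set G)).subtype := by
  haveI : Fact (Nat.Prime 2) := ⟨Nat.prime_two⟩
  have hJD0 := (isPComponent_iff_pc J).mp hJ
  generalize hJ'def : J.map (Subgroup.subtype _) = J' at hJD0 ⊢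
  clear hJ'def hJ J
  set Cx := Subgroup.centralizer ({x} : Set G) with hCx
  set Cy := Subgroup.centralizer ({y} : Set G) with hCy
  set L := (Cfsg.pLayer 2 ↥Cx).map Cx.subtype with hL
  set D := L ⊓ Cy with hD
  -- `C_G(y)` is a proper subgroup
  have hCyne : Cy ≠ ⊤ := by
    intro h
    have hyc : y ∈ Subgroup.center G := by
      rw [Subgroup.mem_center_iff]
      intro g
      have : g ∈ Cy := by rw [h]; trivial
      exact Subgroup.mem_centralizer_singleton_iff.mp this
    have hcF : Subgroup.center G ≤ Cfsg.generalizedFittingSubgroup G := by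
      refine le_trans ?_ (Cfsg.Agent.Lib.Helper22.fitting_le_generalizedFitting G)
      exact Cfsg.Agent.Lib.Helper22.le_fittingSubgroup inferInstance
        (Cfsg.Agent.Lib.Helper22.isNilpotent_of_isMulCommutative ↥(Subgroup.center G))
    have hyF : y ∈ Cfsg.generalizedFittingSubgroup G := hcF hyc
    have hyZ : (⟨y, hyF⟩ : ↥(Cfsg.generalizedFittingSubgroup G)) ∈
        Subgroup.center ↥(Cfsg.generalizedFittingSubgroup G) := by
      rw [Subgroup.mem_center_iff]
      intro g
      apply Subtype.ext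
      exact Subgroup.mem_center_iff.mp hyc g
    rcases hF.eq_bot_or_eq_top_of_normal _
      (inferInstance : (Subgroup.center ↥(Cfsg.generalizedFittingSubgroup G)).Normal) with h1 | h1
    · rw [h1, Subgroup.mem_bot] at hyZ
      have hy1 : y = 1 := congrArg Subtype.val hyZ
      rw [hy1, orderOf_one] at hy
      omega
    · apply hF'
      refine ⟨⟨fun a b => ?_⟩⟩
      have : a ∈ Subgroup.center ↥(Cfsg.generalizedFittingSubgroup G) := by rw [h1]; trivial
      exact (Subgroup.mem_center_iff.mp this b).symm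
  -- `J'` is a 2-component of `C_G(x) ∩ C_G(y)`
  have hJD : PC 2 D J' := hJD0
  have hCxL : Cx ≤ Subgroup.normalizer (L : Set G) := by
    have h1 : (Subgroup.normalizer ((Cfsg.pLayer 2 ↥Cx : Subgroup ↥Cx) : Set ↥Cx)).map Cx.subtype ≤
        Subgroup.normalizer (L : Set G) := Subgroup.le_normalizer_map _
    rw [Subgroup.normalizer_eq_top, ← MonoidHom.range_eq_map, Subgroup.range_subtype] at h1
    exact h1
  have hDle : D ≤ Cx ⊓ Cy := le_inf (le_trans inf_le_left (Subgroup.map_subtype_le _)) inf_le_right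
  have hDn : (D.subgroupOf (Cx ⊓ Cy)).Normal := by
    apply Subgroup.normal_subgroupOf_of_le_normalizer
    refine le_trans ?_ (Cfsg.Agent.Lib.Helper54.normalizer_inf_normalizer_le_normalizer_inf _ _)
    exact le_inf (le_trans inf_le_left hCxL) (le_trans inf_le_right le_normalizer)
  have hJC : PC 2 (Cx ⊓ Cy) J' := hJD.of_normal hDle hDn
  have hJ'Cy : J' ≤ Cy := le_trans hJC.1 inf_le_right
  -- pass to the group `C_G(y)`
  set x₀ : ↥Cy := ⟨x, Subgroup.mem_centralizer_singleton_iff.mpr hxy⟩ with hx₀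
  have hcent : Subgroup.centralizer ({x₀} : Set ↥Cy) = (Cx ⊓ Cy).subgroupOf Cy := by
    rw [Subgroup.inf_subgroupOf_right]
    ext m
    rw [Subgroup.mem_centralizer_singleton_iff, Subgroup.mem_subgroupOf,
      Subgroup.mem_centralizer_singleton_iff]
    constructor
    · intro h
      exact congrArg Subtype.val h
    · intro h
      exact Subtype.ext h
  have hJ₁ : PC 2 (Subgroup.centralizer ({x₀} : Set ↥Cy)) (J'.subgroupOf Cy) := by
    rw [hcent]
    exact (pc_subgroupOf_iff inf_le_right hJ'Cy).mpr hJC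
  have hx₀ord : orderOf x₀ = 2 := by rw [hx₀, Subgroup.orderOf_mk]; exact hx
  have hx₀2 : x₀ ^ 2 = 1 := by rw [← hx₀ord]; exact pow_orderOf_eq_one x₀
  have hB := hsec Cy ⊥ (Or.inl hCyne)
  have hKC := commutator_core_of_hasBProperty' (QuotientGroup.quotientBot (G := ↥Cy)).symm hB
    hx₀ord hJ₁
  refine ⟨isComponent_map_mk_core hx₀2 hJ₁ hKC, ?_⟩
  intro E hE hEodd hinv
  have hECy : E ≤ Cy := le_trans hE inf_le_right
  have hE₁ : E.subgroupOf Cy ≤ Subgroup.centralizer ({x₀} : Set ↥Cy) := by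
    rw [hcent]
    exact (subgroupOf_le_subgroupOf_iff' hECy).mpr hE
  have hE₁c : (Nat.card (E.subgroupOf Cy)).Coprime 2 := by
    rw [Nat.card_congr (Subgroup.subgroupOfEquivOfLe hECy).toEquiv]
    exact Nat.Coprime.symm (Nat.coprime_two_left.mpr hEodd)
  have hinv₁ : ∀ j ∈ J'.subgroupOf Cy, ∀ e ∈ E.subgroupOf Cy, j * e * j⁻¹ ∈ E.subgroupOf Cy := by
    intro j hj e he
    rw [Subgroup.mem_subgroupOf] at hj he ⊢
    exact hinv _ hj _ he
  have h1 := commutator_le_core_of_invariant hx₀2 hJ₁ hKC hE₁ hE₁c hinv₁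
  have h2 := Subgroup.map_mono (f := Cy.subtype) h1
  rwa [Subgroup.map_commutator, subgroupOf_map_subtype_of_le hJ'Cy,
    subgroupOf_map_subtype_of_le hECy] at h2

end Cfsg.Agent.S1775
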