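import Cfsg.Statements.S1780

set_option autoImplicit false
open Cfsg

namespace Cfsg.Agent.S1780

variable {A : Type*} [CommGroup A]

/-- fixed points of an automorphism -/
def fixB (t : MulAut A) : Subgroup A where
  carrier := {a | t a = a}
  mul_mem' {a} {b} (ha : t a = a) (hb : t b = b) := show t (a * b) = a * b by rw [map_mul, ha, hb]
  one_mem' := show t 1 = 1 from map_one t
  inv_mem' {a} (ha : t a = a) := show t a⁻¹ = a⁻¹ by rw [map_inv, ha]

theorem mem_fixB (t : MulAut A) (a : A) : a ∈ fixB t ↔ t a = a := Iff.rfl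

theorem zpowers_fix (t : MulAut A) (s : MulAut A) (hs : s ∈ Subgroup.zpowers t) (a : A)
    (ha : t a = a) : s a = a := by
  obtain ⟨n, rfl⟩ := Subgroup.mem_zpowers_iff.mp hs
  have h1 : ∀ m : ℕ, (t ^ m) a = a := by
    intro m
    induction m with
    | zero => simp
    | succ m ih => rw [pow_succ, MulAut.mul_apply, ha, ih]
  cases n with
  | ofNat m => simpa using h1 m
  | negSucc m =>
    rw [zpow_negSucc]
    have := h1 (m + 1)
    rw [MulAut.inv_apply, MulEquiv.symm_apply_eq]
    exact this.symm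

instance quotAct (t : MulAut A) : MulAction.QuotientAction (Subgroup.zpowers t) (fixB t) where
  inv_mul_mem := by
    intro b a a' h
    have hb : ((b : MulAut A) (a⁻¹ * a')) = a⁻¹ * a' := zpowers_fix t b b.2 _ h
    show (((b : MulAut A) a)⁻¹ * ((b : MulAut A) a')) ∈ fixB t
    rw [← map_inv, ← map_mul, hb]
    exact h

/-- Let A be a finite abelian 2-group and t an automorphism of A whose order is a power of 2. If every element of A fixed by t² is fixed by t, then t fixes every element of A. -/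
theorem result {A : Type*} [CommGroup A] [Finite A]
    (hA : IsPGroup 2 A) (t : MulAut A) (ht : ∃ k : ℕ, orderOf t = 2 ^ k) (hC : ∀ a : A, t (t a) = a → t a = a) :
    ∀ a : A, t a = a := by
  by_contra hcon
  push Not at hcon
  obtain ⟨a₀, ha₀⟩ := hcon
  have : Fact (Nat.Prime 2) := ⟨Nat.prime_two⟩
  -- T = zpowers t is a 2-group
  have hT : IsPGroup 2 (Subgroup.zpowers t) := by
    obtain ⟨k, hk⟩ := ht
    apply IsPGroup.of_card (n := k)
    rw [Nat.card_zpowers, hk]
  -- the quotient is a nontrivial 2-group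
  have hBne : fixB t ≠ ⊤ := by
    intro h
    have : a₀ ∈ fixB t := h ▸ Subgroup.mem_top a₀
    exact ha₀ this
  have hQ : IsPGroup 2 (A ⧸ fixB t) := hA.to_quotient (fixB t)
  have hcard : 2 ∣ Nat.card (A ⧸ fixB t) := by
    obtain ⟨n, hn⟩ := IsPGroup.iff_card.mp hQ
    rw [hn]
    cases n with
    | zero =>
      exfalso
      rw [pow_zero] at hn
      have : (fixB t).index = 1 := hn
      exact hBne (Subgroup.index_eq_one.mp this)
    | succ n => exact dvd_pow_self 2 (Nat.succ_ne_zero n)
  have hfix1 : ((1 : A) : A ⧸ fixB t) ∈ MulAction.fixedPoints (Subgroup.zpowers t) (A ⧸ fixB t) := by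
    intro s
    show (((s : MulAut A) • (1 : A) : A) : A ⧸ fixB t) = _
    congr 1
    exact map_one (s : MulAut A)
  obtain ⟨b, hb, hb1⟩ := hT.exists_fixed_point_of_prime_dvd_card_of_fixed_point (A ⧸ fixB t) hcard hfix1
  obtain ⟨a, rfl⟩ := QuotientGroup.mk_surjective b
  have haB : a ∉ fixB t := by
    intro h
    apply hb1
    exact ((QuotientGroup.eq_one_iff a).mpr h).symm
  have hta : a⁻¹ * t a ∈ fixB t := by
    have := hb ⟨t, Subgroup.mem_zpowers t⟩
    have h2 : ((t a : A) : A ⧸ fixB t) = (a : A ⧸ fixB t) := this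
    have := QuotientGroup.eq.mp h2.symm
    exact this
  -- c = a⁻¹ * t a is a nontrivial element of B
  set c := a⁻¹ * t a with hc
  have hcne : c ≠ 1 := by
    intro h
    apply haB
    show t a = a
    have : a⁻¹ * t a = 1 := h
    exact (inv_mul_eq_one.mp this).symm
  obtain ⟨j, hj⟩ := hA.exists_orderOf_eq_pow c
  have hj0 : j ≠ 0 := by
    intro h
    rw [h, pow_zero, orderOf_eq_one_iff] at hj
    exact hcne hj
  obtain ⟨i, rfl⟩ := Nat.exists_eq_succ_of_ne_zero hj0
  -- a' = a^(2^i)
  have key : ∀ m : ℕ, (a ^ m)⁻¹ * t (a ^ m) = c ^ m := by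
    intro m
    rw [map_pow, ← inv_pow, ← mul_pow]
  have hc' : (c ^ (2 ^ i)) ^ 2 = 1 := by
    rw [← pow_mul, ← pow_succ, ← hj]
    exact pow_orderOf_eq_one c
  have hc'ne : c ^ (2 ^ i) ≠ 1 := by
    intro h
    have := orderOf_dvd_of_pow_eq_one h
    rw [hj] at this
    have h3 := Nat.le_of_dvd (by positivity) this
    have : 2 ^ i < 2 ^ (i + 1) := Nat.pow_lt_pow_right (by norm_num) (by omega)
    omega
  have hc'B : t (c ^ (2 ^ i)) = c ^ (2 ^ i) := by
    rw [map_pow]
    congr 1
  have hta' : t (a ^ (2 ^ i)) = a ^ (2 ^ i) * c ^ (2 ^ i) := by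
    rw [← key (2 ^ i)]
    group
  have : t (t (a ^ (2 ^ i))) = a ^ (2 ^ i) := by
    rw [hta', map_mul, hta', hc'B, mul_assoc, ← pow_two, hc', mul_one]
  have h5 := hC _ this
  apply hc'ne
  rw [← key (2 ^ i), h5]
  group

end Cfsg.Agent.S1780
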