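import Cfsg.Statements.S1781
import Cfsg.Agent.S1780

set_option autoImplicit false
open Cfsg
open scoped IsMulCommutative

namespace Cfsg.Agent.S1781

variable {G : Type*} [Group G]

theorem mem_cj {A : Subgroup G} {g x : G} :
    x ∈ A.map (MulAut.conj g).toMonoidHom ↔ g⁻¹ * x * g ∈ A := by
  constructor
  · rintro ⟨y, hy, rfl⟩
    have : g⁻¹ * ((MulAut.conj g).toMonoidHom y) * g = y := by
      simp [MulAut.conj_apply, mul_assoc]
    rw [this]; exact hy
  · intro h
    exact ⟨g⁻¹ * x * g, h, by simp [MulAut.conj_apply, mul_assoc]⟩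

theorem mem_normalizer_of_cj_eq {A : Subgroup G} {b : G}
    (h : A.map (MulAut.conj b).toMonoidHom = A) : b ∈ Subgroup.normalizer (A : Set G) := by
  rw [Subgroup.mem_normalizer_iff]
  intro x
  constructor
  · intro hx
    have : b * x * b⁻¹ ∈ A.map (MulAut.conj b).toMonoidHom := by
      rw [mem_cj]; simpa [mul_assoc] using hx
    rwa [h] at this
  · intro hx
    rw [← h, mem_cj] at hx
    simpa [mul_assoc] using hx

theorem ti_normalizes {A : Subgroup G}
    (hti : ∀ h : G, A.map (MulAut.conj h).toMonoidHom = A ∨ A.map (MulAut.conj h).toMonoidHom ⊓ A = ⊥)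
    (b a' : G) (ha' : a' ∈ A) (hne : a' ≠ 1) (hcomm : b * a' = a' * b) :
    b ∈ Subgroup.normalizer (A : Set G) := by
  rcases hti b with h | h
  · exact mem_normalizer_of_cj_eq h
  · exfalso
    apply hne
    have : a' ∈ A.map (MulAut.conj b).toMonoidHom ⊓ A := by
      refine Subgroup.mem_inf.mpr ⟨?_, ha'⟩
      rw [mem_cj]
      have : b⁻¹ * a' * b = a' := by
        rw [mul_assoc, ← hcomm, ← mul_assoc, inv_mul_cancel, one_mul]
      rw [this]; exact ha'
    rw [h] at this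
    exact (Subgroup.mem_bot).mp this

theorem comm_of {A : Subgroup G} (hAa : IsMulCommutative ↥A) {x y : G} (hx : x ∈ A) (hy : y ∈ A) :
    x * y = y * x := by
  have := hAa.is_comm.comm ⟨x, hx⟩ ⟨y, hy⟩
  exact congrArg Subtype.val this

theorem half_step [Finite G] (A B : Subgroup G) (hA2 : IsPGroup 2 ↥A) (hB2 : IsPGroup 2 ↥B)
    (hBc : IsMulCommutative ↥B)
    (htiA : ∀ h : G, A.map (MulAut.conj h).toMonoidHom = A ∨ A.map (MulAut.conj h).toMonoidHom ⊓ A = ⊥)
    (hAB : A ⊓ B = ⊥)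
    (a : G) (haA : a ∈ A) (haN : a ∈ Subgroup.normalizer (B : Set G)) (ha2 : a ^ 2 ≠ 1) :
    B ≤ Subgroup.normalizer (A : Set G) := by
  have : Fact (Nat.Prime 2) := ⟨Nat.prime_two⟩
  set φ : MulAut ↥B := B.normalizerMonoidHom ⟨a, haN⟩ with hφdef
  have hφapp : ∀ b : ↥B, ((φ b : ↥B) : G) = a * b * a⁻¹ := fun b => rfl
  have hφ : ∃ k : ℕ, orderOf φ = 2 ^ k := by
    obtain ⟨k, hk⟩ := hA2.exists_orderOf_eq_pow ⟨a, haA⟩
    have h1 : orderOf φ ∣ orderOf (⟨a, haN⟩ : Subgroup.normalizer (B : Set G)) :=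
      orderOf_map_dvd _ _
    have h2 : orderOf (⟨a, haN⟩ : Subgroup.normalizer (B : Set G)) = orderOf a :=
      Subgroup.orderOf_mk a haN
    have h3 : orderOf (⟨a, haA⟩ : ↥A) = orderOf a := Subgroup.orderOf_mk a haA
    rw [h2, ← h3, hk] at h1
    obtain ⟨m, _, hm⟩ := (Nat.dvd_prime_pow Nat.prime_two).mp h1
    exact ⟨m, hm⟩
  have ha1 : a ≠ 1 := by
    rintro rfl
    exact ha2 (one_pow 2)
  have hfix : ∀ b : ↥B, φ (φ b) = b → φ b = b := by
    intro b hb
    have hb' : a * (a * (b : G) * a⁻¹) * a⁻¹ = b := by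
      have := congrArg Subtype.val hb
      rw [hφapp, hφapp] at this
      exact this
    have hcomm : (b : G) * a ^ 2 = a ^ 2 * b := by
      rw [pow_two]
      calc (b : G) * (a * a) = (a * (a * (b : G) * a⁻¹) * a⁻¹) * (a * a) := by rw [hb']
        _ = a * a * b := by group
    have hbN : (b : G) ∈ Subgroup.normalizer (A : Set G) :=
      ti_normalizes htiA b (a ^ 2) (A.pow_mem haA 2) ha2 hcomm
    have hmemB : a * (b : G) * a⁻¹ * (b : G)⁻¹ ∈ B := by
      have h1 : a * (b : G) * a⁻¹ ∈ B := (φ b).2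
      exact B.mul_mem h1 (B.inv_mem b.2)
    have hmemA : a * (b : G) * a⁻¹ * (b : G)⁻¹ ∈ A := by
      have h1 : (b : G) * a⁻¹ * (b : G)⁻¹ ∈ A :=
        ((Subgroup.mem_normalizer_iff).mp hbN a⁻¹).mp (A.inv_mem haA)
      have := A.mul_mem haA h1
      simpa [mul_assoc] using this
    have h1 : a * (b : G) * a⁻¹ * (b : G)⁻¹ ∈ A ⊓ B := ⟨hmemA, hmemB⟩
    rw [hAB, Subgroup.mem_bot] at h1
    apply Subtype.ext
    rw [hφapp]
    exact mul_inv_eq_one.mp h1
  have hall := Cfsg.Agent.S1780.result (A := ↥B) hB2 φ hφ hfix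
  intro b hb
  have h1 := hall ⟨b, hb⟩
  have h2 : a * b * a⁻¹ = b := by
    have := congrArg Subtype.val h1
    rw [hφapp] at this
    exact this
  apply ti_normalizes htiA b a haA ha1
  calc b * a = (a * b * a⁻¹) * a := by rw [h2]
    _ = a * b := by group

/-- Let A be an abelian 2-subgroup of the finite group G such that every conjugate of A equals A or meets A trivially, and let g ∈ G with g A g⁻¹ ≠ A. Then either the subgroup of those elements of A that normalize g A g⁻¹ is an elementary abelian 2-group, or A and g A g⁻¹ commute elementwise. -/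
theorem result {G : Type*} [Group G] [Finite G] (A : Subgroup G)
    (hA2 : IsPGroup 2 ↥A) (hAa : IsMulCommutative ↥A)
    (hti : ∀ h : G, A.map (MulAut.conj h).toMonoidHom = A ∨ A.map (MulAut.conj h).toMonoidHom ⊓ A = ⊥)
    (g : G) (hg : A.map (MulAut.conj g).toMonoidHom ≠ A) :
    Cfsg.IsElementaryAbelian 2 (A ⊓ Subgroup.normalizer ((A.map (MulAut.conj g).toMonoidHom : Subgroup G) : Set G)) ∨
      ⁅A, A.map (MulAut.conj g).toMonoidHom⁆ = ⊥ := by
  set B : Subgroup G := A.map (MulAut.conj g).toMonoidHom with hB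
  by_contra hcon
  rw [not_or] at hcon
  obtain ⟨hne, hcomm⟩ := hcon
  have hBA : B ⊓ A = ⊥ := (hti g).resolve_left hg
  have hAB : A ⊓ B = ⊥ := by rw [inf_comm]; exact hBA
  -- D is commutative
  have hDc : IsMulCommutative ↥(A ⊓ Subgroup.normalizer (B : Set G)) := by
    constructor; constructor
    rintro ⟨x, hx⟩ ⟨y, hy⟩
    apply Subtype.ext
    exact comm_of hAa (Subgroup.mem_inf.mp hx).1 (Subgroup.mem_inf.mp hy).1
  have hex : ∃ a ∈ A ⊓ Subgroup.normalizer (B : Set G), a ^ 2 ≠ 1 := by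
    by_contra h
    push Not at h
    exact hne ⟨hDc, h⟩
  obtain ⟨a, haD, ha2⟩ := hex
  obtain ⟨haA, haN⟩ := Subgroup.mem_inf.mp haD
  have hB2 : IsPGroup 2 ↥B := hA2.map _
  have hBc : IsMulCommutative ↥B := by
    constructor; constructor
    rintro ⟨x, hx⟩ ⟨y, hy⟩
    apply Subtype.ext
    obtain ⟨x', hx', rfl⟩ := hx
    obtain ⟨y', hy', rfl⟩ := hy
    have := hAa.is_comm.comm ⟨x', hx'⟩ ⟨y', hy'⟩
    have h3 : x' * y' = y' * x' := congrArg Subtype.val this
    show (MulAut.conj g).toMonoidHom x' * (MulAut.conj g).toMonoidHom y' =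
      (MulAut.conj g).toMonoidHom y' * (MulAut.conj g).toMonoidHom x'
    rw [← map_mul, ← map_mul, h3]
  have htiB : ∀ h : G, B.map (MulAut.conj h).toMonoidHom = B ∨ B.map (MulAut.conj h).toMonoidHom ⊓ B = ⊥ := by
    intro h
    rcases hti (g⁻¹ * h * g) with h1 | h1
    · left
      ext x
      rw [mem_cj, hB, mem_cj, mem_cj]
      have : g⁻¹ * (h⁻¹ * x * h) * g = (g⁻¹ * h * g)⁻¹ * (g⁻¹ * x * g) * (g⁻¹ * h * g) := by group
      rw [this, ← mem_cj, h1]
    · right
      rw [eq_bot_iff]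
      intro x hx
      obtain ⟨hx1, hx2⟩ := Subgroup.mem_inf.mp hx
      rw [mem_cj, hB, mem_cj] at hx1
      rw [hB, mem_cj] at hx2
      have : g⁻¹ * x * g ∈ A.map (MulAut.conj (g⁻¹ * h * g)).toMonoidHom ⊓ A := by
        refine Subgroup.mem_inf.mpr ⟨?_, hx2⟩
        rw [mem_cj]
        have e : (g⁻¹ * h * g)⁻¹ * (g⁻¹ * x * g) * (g⁻¹ * h * g) = g⁻¹ * (h⁻¹ * x * h) * g := by group
        rw [e]; exact hx1
      rw [h1, Subgroup.mem_bot] at this
      rw [Subgroup.mem_bot]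
      have : x = g * (g⁻¹ * x * g) * g⁻¹ := by group
      rw [this, ‹g⁻¹ * x * g = 1›]; group
  have hBN : B ≤ Subgroup.normalizer (A : Set G) :=
    half_step A B hA2 hB2 hBc hti hAB a haA haN ha2
  -- b = g a g⁻¹
  have hbB : g * a * g⁻¹ ∈ B := by
    rw [hB, mem_cj]
    have : g⁻¹ * (g * a * g⁻¹) * g = a := by group
    rw [this]; exact haA
  have hb2 : (g * a * g⁻¹) ^ 2 ≠ 1 := by
    intro h
    apply ha2
    rw [conj_pow] at h
    have : a ^ 2 = g⁻¹ * (g * a ^ 2 * g⁻¹) * g := by group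
    rw [this, h]; group
  have hAN : A ≤ Subgroup.normalizer (B : Set G) :=
    half_step B A hB2 hA2 hAa htiB hBA (g * a * g⁻¹) hbB (hBN hbB) hb2
  apply hcomm
  rw [eq_bot_iff, ← hAB, Subgroup.commutator_le]
  intro x hx y hy
  refine Subgroup.mem_inf.mpr ⟨?_, ?_⟩
  · have h1 : y * x⁻¹ * y⁻¹ ∈ A :=
      ((Subgroup.mem_normalizer_iff).mp (hBN hy) x⁻¹).mp (A.inv_mem hx)
    have := A.mul_mem hx h1
    rw [commutatorElement_def]
    simpa [mul_assoc] using this
  · have h1 : x * y * x⁻¹ ∈ B :=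
      ((Subgroup.mem_normalizer_iff).mp (hAN hx) y).mp hy
    have := B.mul_mem h1 (B.inv_mem hy)
    rw [commutatorElement_def]
    exact this

end Cfsg.Agent.S1781
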