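import Cfsg.Statements.S1782
import Cfsg.Agent.Lib.Helper30.TIFamily
import Cfsg.Agent.S0013

set_option autoImplicit false
open Cfsg

namespace Cfsg.Agent.S1782

theorem frattini_eq_bot_of_sq {G : Type*} [Group G] [Finite G] (hG : IsPGroup 2 G)
    (hsq : ∀ g : G, g ^ 2 = 1) : frattini G = ⊥ := by
  have : Fact (Nat.Prime 2) := ⟨Nat.prime_two⟩
  have hcomm : ∀ a b : G, a * b = b * a := by
    intro a b
    have ha : a * a = 1 := by rw [← pow_two]; exact hsq a
    have hb : b * b = 1 := by rw [← pow_two]; exact hsq b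
    have hab : a * b * (a * b) = 1 := by rw [← pow_two]; exact hsq (a * b)
    calc a * b = a * (a * b * (a * b)) * b := by rw [hab, mul_one]
      _ = (a * a) * b * a * (b * b) := by group
      _ = b * a := by rw [ha, hb, one_mul, mul_one]
  have h1 : commutator G ≤ (⊥ : Subgroup G) := by
    rw [commutator_def, Subgroup.commutator_le]
    intro g₁ _ g₂ _
    rw [Subgroup.mem_bot, commutatorElement_eq_one_iff_commute]
    exact hcomm g₁ g₂
  have h2 : ∀ x : G, x ^ 2 ∈ (⊥ : Subgroup G) := fun x => by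
    rw [hsq x]; exact Subgroup.one_mem _
  exact le_bot_iff.mp (Cfsg.Agent.S0013.result 2 hG ⊥ h1 h2)

open Cfsg.Agent.Lib.Helper30 in
/-- Let S be a finite 2-group and Δ a set of subgroups of S closed under conjugation by S, all of the same order, each with nontrivial Frattini subgroup, and such that two distinct members of Δ meet trivially. Then any two distinct members of Δ commute elementwise. -/
theorem result {S : Type*} [Group S] [Finite S] (hS : IsPGroup 2 S)
    (Δ : Set (Subgroup S)) (hinv : ∀ s : S, ∀ R ∈ Δ, R.map (MulAut.conj s).toMonoidHom ∈ Δ)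
    (hΦ : ∀ R ∈ Δ, frattini ↥R ≠ ⊥) (hord : ∀ R ∈ Δ, ∀ T ∈ Δ, Nat.card ↥R = Nat.card ↥T)
    (hti : ∀ R ∈ Δ, ∀ T ∈ Δ, R = T ∨ R ⊓ T = ⊥) :
    ∀ R ∈ Δ, ∀ T ∈ Δ, R ≠ T → ⁅R, T⁆ = ⊥ := by
  have hΔ : TIFam Δ := ⟨hinv, hord, hti⟩
  have hsq : ∀ R ∈ Δ, ∃ r ∈ R, r ^ 2 ≠ 1 := by
    intro R hR
    by_contra hcon
    push Not at hcon
    apply hΦ R hR
    apply frattini_eq_bot_of_sq (hS.to_subgroup R)
    intro g
    apply Subtype.ext
    simpa using hcon g g.2
  intro R hR T hT hne
  rw [Subgroup.commutator_eq_bot_iff_le_centralizer]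
  intro r hr
  rw [Subgroup.mem_centralizer_iff]
  intro t ht
  exact (hΔ.commute hS hsq hR hT hne r hr t ht).symm

end Cfsg.Agent.S1782
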