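-- Statement S1783
import Cfsg.Statements.S1783
import Cfsg.Agent.Lib.Helper30.QuadraticSq
import Cfsg.Agent.Lib.Helper30.TITransport
import Cfsg.Agent.Lib.Helper22.FStar

set_option autoImplicit false
open Cfsg

namespace Cfsg.Agent.S1783

open Cfsg.Agent.Lib.Helper30 Cfsg.Agent.Lib.Helper22

section aux

variable {X : Type*} [Group X]

theorem map_conj_map_conj (A : Subgroup X) (h k : X) :
    (A.map (MulAut.conj k).toMonoidHom).map (MulAut.conj h).toMonoidHom =
      A.map (MulAut.conj (h * k)).toMonoidHom := by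
  rw [Subgroup.map_map]
  congr 1
  ext x
  simp [mul_assoc]

theorem map_conj_one (A : Subgroup X) : A.map (MulAut.conj (1 : X)).toMonoidHom = A := by
  ext x
  simp

theorem conj_mem_map_conj {A : Subgroup X} {a : X} (ha : a ∈ A) (g : X) :
    g * a * g⁻¹ ∈ A.map (MulAut.conj g).toMonoidHom :=
  ⟨a, ha, by simp⟩

theorem card_map_conj' (A : Subgroup X) (g : X) :
    Nat.card ↥(A.map (MulAut.conj g).toMonoidHom) = Nat.card ↥A :=
  Nat.card_congr (A.equivMapOfInjective _ (MulAut.conj g).injective).toEquiv.symm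

theorem ti_conj {A : Subgroup X}
    (hti : ∀ h : X, A.map (MulAut.conj h).toMonoidHom = A ∨ A.map (MulAut.conj h).toMonoidHom ⊓ A = ⊥)
    (g h : X) : A.map (MulAut.conj g).toMonoidHom = A.map (MulAut.conj h).toMonoidHom ∨
      A.map (MulAut.conj g).toMonoidHom ⊓ A.map (MulAut.conj h).toMonoidHom = ⊥ := by
  have hg : A.map (MulAut.conj g).toMonoidHom =
      (A.map (MulAut.conj (h⁻¹ * g)).toMonoidHom).map (MulAut.conj h).toMonoidHom := by
    rw [map_conj_map_conj, mul_inv_cancel_left]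
  rcases hti (h⁻¹ * g) with h1 | h1
  · left
    rw [hg, h1]
  · right
    rw [hg, ← Subgroup.map_inf _ _ _ (MulAut.conj h).injective, h1, Subgroup.map_bot]

theorem commute_of_mem_closure {k : Set X} (hk : ∀ x ∈ k, ∀ y ∈ k, x * y = y * x) :
    ∀ x ∈ Subgroup.closure k, ∀ y ∈ Subgroup.closure k, x * y = y * x := by
  have h1 : Subgroup.closure k ≤ Subgroup.centralizer k := by
    rw [Subgroup.closure_le]
    intro x hx
    rw [SetLike.mem_coe, Subgroup.mem_centralizer_iff]
    intro y hy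
    exact hk y hy x hx
  have h2 : Subgroup.closure k ≤ Subgroup.centralizer (Subgroup.closure k : Set X) := by
    rw [Subgroup.closure_le]
    intro x hx
    rw [SetLike.mem_coe, Subgroup.mem_centralizer_iff]
    intro y hy
    have := h1 hy
    rw [Subgroup.mem_centralizer_iff] at this
    exact (this x hx).symm
  intro x hx y hy
  have := h2 hy
  rw [Subgroup.mem_centralizer_iff] at this
  exact this x hx

/-- The image under conjugation of the subgroup generated by squares. -/
theorem map_conj_closure_sq (A : Subgroup X) (g : X) :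
    (Subgroup.closure ((fun a : X => a ^ 2) '' (A : Set X))).map (MulAut.conj g).toMonoidHom =
      Subgroup.closure ((fun a : X => a ^ 2) '' ((A.map (MulAut.conj g).toMonoidHom : Subgroup X) : Set X)) := by
  rw [MonoidHom.map_closure]
  congr 1
  ext y
  constructor
  · rintro ⟨_, ⟨a, ha, rfl⟩, rfl⟩
    exact ⟨g * a * g⁻¹, conj_mem_map_conj ha g, by simp [conj_pow]⟩
  · rintro ⟨_, ⟨a, ha, rfl⟩, rfl⟩
    exact ⟨a ^ 2, ⟨a, ha, rfl⟩, by simp [conj_pow]⟩

end aux

/-- Let X be a finite group whose generalized Fitting subgroup equals its largest normal 2-subgroup Q, and let A be an abelian 2-subgroup of X such that every conjugate of A equals A or meets A trivially. Let B be the subgroup generated by the squares of the elements of A. Then B lies in Q, and if B is not an elementary abelian 2-group then the normal closure of B in X is commutative. -/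
theorem result {X : Type*} [Group X] [Finite X]
    (hX : Cfsg.generalizedFittingSubgroup X = Cfsg.pCore 2 X) (A : Subgroup X) (hA2 : IsPGroup 2 ↥A) (hAa : IsMulCommutative ↥A)
    (hti : ∀ h : X, A.map (MulAut.conj h).toMonoidHom = A ∨ A.map (MulAut.conj h).toMonoidHom ⊓ A = ⊥) :
    Subgroup.closure ((fun a : X => a ^ 2) '' (A : Set X)) ≤ Cfsg.pCore 2 X ∧
      (¬ Cfsg.IsElementaryAbelian 2 (Subgroup.closure ((fun a : X => a ^ 2) '' (A : Set X))) →
        IsMulCommutative ↥(Subgroup.normalClosure ((fun a : X => a ^ 2) '' (A : Set X)))) := by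
  have : Fact (Nat.Prime 2) := ⟨Nat.prime_two⟩
  have hQn : (Cfsg.pCore 2 X).Normal := pCore_normal' 2 X
  have hQ2 : IsPGroup 2 ↥(Cfsg.pCore 2 X) := pCore_isPGroup' 2 X
  have hC : Subgroup.centralizer (Cfsg.pCore 2 X : Set X) ≤ Cfsg.pCore 2 X := by
    have := centralizer_generalizedFitting_le X
    rwa [hX] at this
  have hAcomm : ∀ a ∈ A, ∀ b ∈ A, a * b = b * a := by
    intro a ha b hb
    have := hAa.is_comm.comm (⟨a, ha⟩ : ↥A) ⟨b, hb⟩
    exact congrArg Subtype.val this
  have htic := ti_conj hti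
  by_cases hel : ∀ a ∈ A, a ^ 2 = 1
  · -- the trivial case
    have hB : Subgroup.closure ((fun a : X => a ^ 2) '' (A : Set X)) = ⊥ := by
      rw [eq_bot_iff, Subgroup.closure_le]
      rintro _ ⟨a, ha, rfl⟩
      simp only [SetLike.mem_coe, Subgroup.mem_bot]
      exact hel a ha
    refine ⟨by rw [hB]; exact bot_le, ?_⟩
    intro h
    exfalso
    apply h
    rw [hB]
    refine ⟨⟨⟨fun a b => ?_⟩⟩, ?_⟩
    · apply Subtype.ext
      have ha := Subgroup.mem_bot.mp a.2
      have hb := Subgroup.mem_bot.mp b.2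
      simp [ha, hb]
    · intro a ha
      rw [Subgroup.mem_bot.mp ha, one_pow]
  · push Not at hel
    obtain ⟨a₀, ha₀, ha₀2⟩ := hel
    -- the key commuting property
    have hstar : ∀ a ∈ A, ∀ x ∈ Cfsg.pCore 2 X, Commute a (x * a * x⁻¹) := by
      intro a ha x hx
      set S₀ : Subgroup X := A ⊔ Cfsg.pCore 2 X with hS₀
      have hS₀2 : IsPGroup 2 ↥S₀ := hA2.to_sup_of_normal_right hQ2
      set Δ : Set (Subgroup X) := {R | ∃ s ∈ S₀, R = A.map (MulAut.conj s).toMonoidHom} with hΔ
      have hAS : A ≤ S₀ := le_sup_left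
      have hQS : Cfsg.pCore 2 X ≤ S₀ := le_sup_right
      have hcomm := commute_of_tiFam_subgroup S₀ hS₀2 Δ
        (by
          rintro _ ⟨s, hs, rfl⟩
          rintro _ ⟨a', ha', rfl⟩
          simp only [MulEquiv.coe_toMonoidHom, MulAut.conj_apply]
          exact S₀.mul_mem (S₀.mul_mem hs (hAS ha')) (S₀.inv_mem hs))
        (by
          rintro t ht _ ⟨s, hs, rfl⟩
          exact ⟨t * s, S₀.mul_mem ht hs, map_conj_map_conj A t s⟩)
        (by
          rintro _ ⟨s, hs, rfl⟩ _ ⟨t, ht, rfl⟩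
          rw [card_map_conj', card_map_conj'])
        (by
          rintro _ ⟨s, hs, rfl⟩ _ ⟨t, ht, rfl⟩
          exact htic s t)
        (by
          rintro _ ⟨s, hs, rfl⟩
          refine ⟨s * a₀ * s⁻¹, conj_mem_map_conj ha₀ s, ?_⟩
          rw [conj_pow]
          intro h
          apply ha₀2
          have h1 : a₀ ^ 2 = s⁻¹ * (s * a₀ ^ 2 * s⁻¹) * s := by group
          rw [h1, h]
          group)
      have hR : A ∈ Δ := ⟨1, S₀.one_mem, (map_conj_one A).symm⟩
      have hT : A.map (MulAut.conj x).toMonoidHom ∈ Δ := ⟨x, hQS hx, rfl⟩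
      by_cases hne : A = A.map (MulAut.conj x).toMonoidHom
      · have hxa : x * a * x⁻¹ ∈ A := by
          rw [hne]; exact conj_mem_map_conj ha x
        exact hAcomm a ha _ hxa
      · exact hcomm A hR _ hT hne a ha _ (conj_mem_map_conj ha x)
    have hsqQ : ∀ a ∈ A, a ^ 2 ∈ Cfsg.pCore 2 X := fun a ha =>
      sq_mem_pCore_of_commute_conj hC (hstar a ha)
    have hBQ : Subgroup.closure ((fun a : X => a ^ 2) '' (A : Set X)) ≤ Cfsg.pCore 2 X := by
      rw [Subgroup.closure_le]
      rintro _ ⟨a, ha, rfl⟩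
      exact hsqQ a ha
    refine ⟨hBQ, ?_⟩
    intro hnel
    set B : Subgroup X := Subgroup.closure ((fun a : X => a ^ 2) '' (A : Set X)) with hB
    have hBA : B ≤ A := by
      rw [hB, Subgroup.closure_le]
      rintro _ ⟨a, ha, rfl⟩
      exact A.pow_mem ha 2
    -- B has an element whose square is nontrivial
    obtain ⟨b₀, hb₀, hb₀2⟩ : ∃ b ∈ B, b ^ 2 ≠ 1 := by
      by_contra hcon
      push Not at hcon
      apply hnel
      refine ⟨⟨⟨fun a b => ?_⟩⟩, hcon⟩
      exact Subtype.ext (hAcomm a.1 (hBA a.2) b.1 (hBA b.2))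
    set Δ₂ : Set (Subgroup X) := {R | ∃ g : X, R = B.map (MulAut.conj g).toMonoidHom} with hΔ₂
    have hcomm₂ := commute_of_tiFam_subgroup (Cfsg.pCore 2 X) hQ2 Δ₂
      (by
        rintro _ ⟨g, rfl⟩
        rintro _ ⟨b, hb, rfl⟩
        simp only [MulEquiv.coe_toMonoidHom, MulAut.conj_apply]
        exact hQn.conj_mem b (hBQ hb) g)
      (by
        rintro t _ _ ⟨g, rfl⟩
        exact ⟨t * g, map_conj_map_conj B t g⟩)
      (by
        rintro _ ⟨g, rfl⟩ _ ⟨h, rfl⟩
        rw [card_map_conj', card_map_conj'])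
      (by
        rintro _ ⟨g, rfl⟩ _ ⟨h, rfl⟩
        rcases htic g h with h1 | h1
        · left
          rw [hB, map_conj_closure_sq, map_conj_closure_sq, h1]
        · right
          rw [eq_bot_iff, ← h1]
          exact inf_le_inf (Subgroup.map_mono hBA) (Subgroup.map_mono hBA))
      (by
        rintro _ ⟨g, rfl⟩
        refine ⟨g * b₀ * g⁻¹, conj_mem_map_conj hb₀ g, ?_⟩
        rw [conj_pow]
        intro h
        apply hb₀2
        have h1 : b₀ ^ 2 = g⁻¹ * (g * b₀ ^ 2 * g⁻¹) * g := by group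
        rw [h1, h]
        group)
    -- the conjugates of squares pairwise commute
    have hgen : ∀ x ∈ Group.conjugatesOfSet ((fun a : X => a ^ 2) '' (A : Set X)),
        ∀ y ∈ Group.conjugatesOfSet ((fun a : X => a ^ 2) '' (A : Set X)), x * y = y * x := by
      intro x hx y hy
      obtain ⟨_, ⟨a, ha, rfl⟩, hax⟩ := Group.mem_conjugatesOfSet_iff.mp hx
      obtain ⟨_, ⟨c, hc, rfl⟩, hcy⟩ := Group.mem_conjugatesOfSet_iff.mp hy
      obtain ⟨g, rfl⟩ := isConj_iff.mp hax
      obtain ⟨h, rfl⟩ := isConj_iff.mp hcy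
      have haB : a ^ 2 ∈ B := Subgroup.subset_closure ⟨a, ha, rfl⟩
      have hcB : c ^ 2 ∈ B := Subgroup.subset_closure ⟨c, hc, rfl⟩
      have hxg : g * a ^ 2 * g⁻¹ ∈ B.map (MulAut.conj g).toMonoidHom := conj_mem_map_conj haB g
      have hyh : h * c ^ 2 * h⁻¹ ∈ B.map (MulAut.conj h).toMonoidHom := conj_mem_map_conj hcB h
      by_cases hne : B.map (MulAut.conj g).toMonoidHom = B.map (MulAut.conj h).toMonoidHom
      · rw [← hne] at hyh
        obtain ⟨b₁, hb₁, hb₁e⟩ := hxg
        obtain ⟨b₂, hb₂, hb₂e⟩ := hyh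
        rw [← hb₁e, ← hb₂e]
        simp only [MulEquiv.coe_toMonoidHom, MulAut.conj_apply]
        have := hAcomm b₁ (hBA hb₁) b₂ (hBA hb₂)
        calc g * b₁ * g⁻¹ * (g * b₂ * g⁻¹) = g * (b₁ * b₂) * g⁻¹ := by group
          _ = g * (b₂ * b₁) * g⁻¹ := by rw [this]
          _ = g * b₂ * g⁻¹ * (g * b₁ * g⁻¹) := by group
      · exact hcomm₂ _ ⟨g, rfl⟩ _ ⟨h, rfl⟩ hne _ hxg _ hyh
    have hall := commute_of_mem_closure hgen
    refine ⟨⟨fun x y => ?_⟩⟩
    exact Subtype.ext (hall x.1 x.2 y.1 y.2)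

end Cfsg.Agent.S1783
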