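import Cfsg.Statements.S1784
import Cfsg.Agent.Lib.Helper29.ExtraTwoInvol
import Cfsg.Agent.Lib.Helper29.ExtraTwoClass
import Cfsg.Agent.Lib.Helper29.ExtraTwoRank
import Cfsg.Agent.Lib.Helper22.FStar
-- import your own Cfsg.Agent.* helpers here

set_option autoImplicit false
open Cfsg

namespace Cfsg.Agent.S1784

open Cfsg.Agent.Lib.Helper29

/-- Let G be a finite group and let z be an involution of G such that Q, the generalized Fitting subgroup of the centralizer C of z, is a 2-group of symplectic type (every characteristic abelian subgroup of Q is cyclic); suppose Q is extraspecial, and view Q inside G. Let α be an involution of C that is not in Q, and let Q₀ be the subgroup of those q ∈ Q whose commutator with α lies in the subgroup generated by z. Then (a) the subgroup generated by the commutators α q α⁻¹ q⁻¹, q ∈ Q, equals the centre of Q₀; and (b) if Q₀ is not contained in the product of the centralizer of α in Q with the subgroup generated by z, then some element of Q conjugates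 α to α z. -/
theorem result {G : Type*} [Group G] [Finite G] (z : G) (hz : orderOf z = 2) (hQ : Cfsg.IsOfSymplecticType ↥(Cfsg.generalizedFittingSubgroup ↥(Subgroup.centralizer ({z} : Set G)))) (hE : Cfsg.IsExtraspecial 2 ↥(Cfsg.generalizedFittingSubgroup ↥(Subgroup.centralizer ({z} : Set G))))
    (α : G) (hα : orderOf α = 2) (hαC : α ∈ Subgroup.centralizer ({z} : Set G)) (hαQ : α ∉ (Cfsg.generalizedFittingSubgroup ↥(Subgroup.centralizer ({z} : Set G))).map (Subgroup.centralizer ({z} : Set G)).subtype)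
    (Q₀ : Subgroup G) (hQ₀ : ∀ q : G, q ∈ Q₀ ↔ (q ∈ (Cfsg.generalizedFittingSubgroup ↥(Subgroup.centralizer ({z} : Set G))).map (Subgroup.centralizer ({z} : Set G)).subtype ∧ α * q * α⁻¹ * q⁻¹ ∈ Subgroup.zpowers z)) :
    Subgroup.closure ((fun q : G => α * q * α⁻¹ * q⁻¹) '' ((Cfsg.generalizedFittingSubgroup ↥(Subgroup.centralizer ({z} : Set G))).map (Subgroup.centralizer ({z} : Set G)).subtype : Set G)) = (Subgroup.center ↥Q₀).map Q₀.subtype ∧
      (¬ Q₀ ≤ ((Cfsg.generalizedFittingSubgroup ↥(Subgroup.centralizer ({z} : Set G))).map (Subgroup.centralizer ({z} : Set G)).subtype ⊓ Subgroup.centralizer ({α} : Set G)) ⊔ Subgroup.zpowers z →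
        ∃ q ∈ (Cfsg.generalizedFittingSubgroup ↥(Subgroup.centralizer ({z} : Set G))).map (Subgroup.centralizer ({z} : Set G)).subtype, q * α * q⁻¹ = α * z) := by
  classical
  have hz2 : z * z = 1 := by rw [← pow_two, ← hz]; exact pow_orderOf_eq_one z
  have hα2 : α * α = 1 := by rw [← pow_two, ← hα]; exact pow_orderOf_eq_one α
  have hαinv : α⁻¹ = α := inv_eq_of_mul_eq_one_right hα2
  have hzinv : z⁻¹ = z := inv_eq_of_mul_eq_one_right hz2
  have hz1 : z ≠ 1 := by
    intro h
    rw [h, orderOf_one] at hz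
    norm_num at hz
  have hαz : α * z = z * α := ((Subgroup.mem_centralizer_iff.1 hαC) z rfl).symm
  have hzp : ∀ w : G, w ∈ Subgroup.zpowers z ↔ w = 1 ∨ w = z := by
    intro w
    constructor
    · exact mem_zpowers_of_sq hz2 w
    · rintro (rfl | rfl)
      · exact Subgroup.one_mem _
      · exact Subgroup.mem_zpowers _
  have hzC : z ∈ Subgroup.centralizer ({z} : Set G) := by
    rw [Subgroup.mem_centralizer_iff]
    intro h hh
    rw [Set.mem_singleton_iff] at hh
    rw [hh]
  -- the E2-structure on F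
  obtain ⟨z', hE2⟩ := IsE2.of_isExtraspecial hE
  have hzCcen : ∀ g : ↥(Subgroup.centralizer ({z} : Set G)),
      (⟨z, hzC⟩ : ↥(Subgroup.centralizer ({z} : Set G))) * g = g * ⟨z, hzC⟩ := by
    intro g
    apply Subtype.ext
    exact (Subgroup.mem_centralizer_iff.1 g.2) z rfl
  have hzCF : (⟨z, hzC⟩ : ↥(Subgroup.centralizer ({z} : Set G))) ∈
      Cfsg.generalizedFittingSubgroup ↥(Subgroup.centralizer ({z} : Set G)) := by
    apply Cfsg.Agent.Lib.Helper22.centralizer_generalizedFitting_le
    rw [Subgroup.mem_centralizer_iff]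
    intro f _
    exact (hzCcen f).symm
  have hzF : (⟨⟨z, hzC⟩, hzCF⟩ :
      ↥(Cfsg.generalizedFittingSubgroup ↥(Subgroup.centralizer ({z} : Set G)))) = z' := by
    have hmem : (⟨⟨z, hzC⟩, hzCF⟩ :
        ↥(Cfsg.generalizedFittingSubgroup ↥(Subgroup.centralizer ({z} : Set G)))) ∈
        Subgroup.center _ := by
      rw [Subgroup.mem_center_iff]
      intro g
      apply Subtype.ext
      exact (hzCcen g.1).symm
    rcases hE2.all _ hmem with h1 | h1
    · exfalso
      apply hz1
      have := congrArg (fun x : ↥(Cfsg.generalizedFittingSubgroup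
        ↥(Subgroup.centralizer ({z} : Set G))) => ((x : ↥(Subgroup.centralizer ({z} : Set G))) : G)) h1
      exact this
    · exact h1
  subst hzF
  -- the automorphism induced by α
  haveI hFn : (Cfsg.generalizedFittingSubgroup ↥(Subgroup.centralizer ({z} : Set G))).Normal :=
    inferInstance
  let σ : ↥(Cfsg.generalizedFittingSubgroup ↥(Subgroup.centralizer ({z} : Set G))) ≃*
      ↥(Cfsg.generalizedFittingSubgroup ↥(Subgroup.centralizer ({z} : Set G))) :=
    MulAut.conjNormal (⟨α, hαC⟩ : ↥(Subgroup.centralizer ({z} : Set G)))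
  have hσ : ∀ f : ↥(Cfsg.generalizedFittingSubgroup ↥(Subgroup.centralizer ({z} : Set G))),
      (((σ f : ↥(Cfsg.generalizedFittingSubgroup ↥(Subgroup.centralizer ({z} : Set G)))) :
        ↥(Subgroup.centralizer ({z} : Set G))) : G) = α * ((f : ↥(Subgroup.centralizer ({z} : Set G))) : G) * α⁻¹ := by
    intro f
    simp [σ, MulAut.conjNormal_apply]
  have hinj : ∀ a b : ↥(Cfsg.generalizedFittingSubgroup ↥(Subgroup.centralizer ({z} : Set G))),
      (((a : ↥(Subgroup.centralizer ({z} : Set G))) : G) = ((b : ↥(Subgroup.centralizer ({z} : Set G))) : G)) →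
      a = b := fun a b hab => Subtype.ext (Subtype.ext hab)
  have hσ2 : ∀ q, σ (σ q) = q := by
    intro q
    apply hinj
    rw [hσ, hσ]
    calc α * (α * ((q : ↥(Subgroup.centralizer ({z} : Set G))) : G) * α⁻¹) * α⁻¹
        = (α * α) * ((q : ↥(Subgroup.centralizer ({z} : Set G))) : G) * (α * α)⁻¹ := by group
      _ = ((q : ↥(Subgroup.centralizer ({z} : Set G))) : G) := by rw [hα2]; simp
  have hne : ∃ q, σ q ≠ q := by
    by_contra hcon
    push Not at hcon
    apply hαQ
    have hmem : (⟨α, hαC⟩ : ↥(Subgroup.centralizer ({z} : Set G))) ∈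
        Cfsg.generalizedFittingSubgroup ↥(Subgroup.centralizer ({z} : Set G)) := by
      apply Cfsg.Agent.Lib.Helper22.centralizer_generalizedFitting_le
      rw [Subgroup.mem_centralizer_iff]
      intro f hf
      have h1 := hcon ⟨f, hf⟩
      have h2 := congrArg (fun x : ↥(Cfsg.generalizedFittingSubgroup
        ↥(Subgroup.centralizer ({z} : Set G))) => ((x : ↥(Subgroup.centralizer ({z} : Set G))) : G)) h1
      simp only [hσ] at h2
      apply Subtype.ext
      show (f : G) * α = α * (f : G)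
      calc (f : G) * α = (α * (f : G) * α⁻¹) * α := by rw [h2]
        _ = α * (f : G) := by group
    exact ⟨⟨α, hαC⟩, hmem, rfl⟩
  have key := hE2.mem_closure_comm_iff σ hσ2 hne
  -- translation of the defining condition of Q₀
  have hcoe_d : ∀ f : ↥(Cfsg.generalizedFittingSubgroup ↥(Subgroup.centralizer ({z} : Set G))),
      (((σ f * f⁻¹ : ↥(Cfsg.generalizedFittingSubgroup ↥(Subgroup.centralizer ({z} : Set G)))) :
        ↥(Subgroup.centralizer ({z} : Set G))) : G) =
      α * ((f : ↥(Subgroup.centralizer ({z} : Set G))) : G) * α⁻¹ *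
        ((f : ↥(Subgroup.centralizer ({z} : Set G))) : G)⁻¹ := by
    intro f
    rw [Subgroup.coe_mul, Subgroup.coe_mul, hσ, Subgroup.coe_inv, Subgroup.coe_inv]
  have hmemQ' : ∀ f : ↥(Cfsg.generalizedFittingSubgroup ↥(Subgroup.centralizer ({z} : Set G))),
      ((f : ↥(Subgroup.centralizer ({z} : Set G))) : G) ∈
        (Cfsg.generalizedFittingSubgroup ↥(Subgroup.centralizer ({z} : Set G))).map
          (Subgroup.centralizer ({z} : Set G)).subtype := fun f => ⟨f.1, f.2, rfl⟩
  have hQ0iff : ∀ f : ↥(Cfsg.generalizedFittingSubgroup ↥(Subgroup.centralizer ({z} : Set G))),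
      (σ f * f⁻¹ = 1 ∨ σ f * f⁻¹ = ⟨⟨z, hzC⟩, hzCF⟩) ↔
        ((f : ↥(Subgroup.centralizer ({z} : Set G))) : G) ∈ Q₀ := by
    intro f
    rw [hQ₀, hzp, ← hcoe_d]
    constructor
    · rintro (h1 | h1)
      · exact ⟨hmemQ' f, Or.inl (by rw [h1]; rfl)⟩
      · exact ⟨hmemQ' f, Or.inr (by rw [h1])⟩
    · rintro ⟨-, h1 | h1⟩
      · left; apply hinj; rw [h1]; rfl
      · right; apply hinj; rw [h1]
  refine ⟨?_, ?_⟩
  · -- part (a)
    have himage : (fun q : G => α * q * α⁻¹ * q⁻¹) ''
        ((Cfsg.generalizedFittingSubgroup ↥(Subgroup.centralizer ({z} : Set G))).map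
          (Subgroup.centralizer ({z} : Set G)).subtype : Set G) =
        ((Subgroup.centralizer ({z} : Set G)).subtype.comp
          (Cfsg.generalizedFittingSubgroup ↥(Subgroup.centralizer ({z} : Set G))).subtype) ''
          {y | ∃ q, y = σ q * q⁻¹} := by
      ext y
      constructor
      · rintro ⟨q', ⟨f, hf, rfl⟩, rfl⟩
        exact ⟨σ ⟨f, hf⟩ * (⟨f, hf⟩ : ↥(Cfsg.generalizedFittingSubgroup _))⁻¹, ⟨⟨f, hf⟩, rfl⟩,
          hcoe_d ⟨f, hf⟩⟩
      · rintro ⟨_, ⟨f, rfl⟩, rfl⟩
        exact ⟨_, hmemQ' f, (hcoe_d f).symm⟩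
    rw [himage, ← MonoidHom.map_closure]
    ext x
    constructor
    · rintro ⟨f, hf, rfl⟩
      obtain ⟨h1, h2⟩ := (key f).1 hf
      have hfQ0 := (hQ0iff f).1 h1
      refine ⟨⟨_, hfQ0⟩, ?_, rfl⟩
      rw [SetLike.mem_coe, Subgroup.mem_center_iff]
      intro w
      apply Subtype.ext
      obtain ⟨⟨g, hg, hgw⟩, -⟩ := (hQ₀ w).1 w.2
      have hgQ0 : (((⟨g, hg⟩ : ↥(Cfsg.generalizedFittingSubgroup _)) :
          ↥(Subgroup.centralizer ({z} : Set G))) : G) ∈ Q₀ := by
        show (g : G) ∈ Q₀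
        have : (g : G) = (w : G) := hgw
        rw [this]; exact w.2
      have h3 := h2 ⟨g, hg⟩ ((hQ0iff _).2 hgQ0)
      have h4 := congrArg (fun x : ↥(Cfsg.generalizedFittingSubgroup
        ↥(Subgroup.centralizer ({z} : Set G))) => ((x : ↥(Subgroup.centralizer ({z} : Set G))) : G)) h3
      have hgw' : (g : G) = (w : G) := hgw
      simp only [Subgroup.coe_mul] at h4
      rw [hgw'] at h4
      exact h4.symm
    · rintro ⟨w, hw, rfl⟩
      obtain ⟨⟨f, hf, hfw⟩, -⟩ := (hQ₀ w).1 w.2
      have hfw' : (f : G) = (w : G) := hfw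
      refine ⟨⟨f, hf⟩, ?_, hfw⟩
      rw [SetLike.mem_coe, key]
      refine ⟨(hQ0iff _).2 (by show (f : G) ∈ Q₀; rw [hfw']; exact w.2), ?_⟩
      intro q hq
      have hqQ0 := (hQ0iff q).1 hq
      have h1 := Subgroup.mem_center_iff.1 hw ⟨_, hqQ0⟩
      have h2 := congrArg Subtype.val h1
      apply hinj
      simp only [Subgroup.coe_mul]
      show (f : G) * _ = _ * (f : G)
      rw [hfw']
      exact h2.symm
  · -- part (b)
    intro hnot
    rw [SetLike.not_le_iff_exists] at hnot
    obtain ⟨q, hq, hqn⟩ := hnot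
    obtain ⟨hqQ, hqz⟩ := (hQ₀ q).1 hq
    refine ⟨q, hqQ, ?_⟩
    rcases (hzp _).1 hqz with h1 | h1
    · exfalso
      apply hqn
      apply Subgroup.mem_sup_left
      refine Subgroup.mem_inf.2 ⟨hqQ, ?_⟩
      rw [Subgroup.mem_centralizer_iff]
      intro a ha
      rw [Set.mem_singleton_iff] at ha
      rw [ha]
      calc α * q = (α * q * α⁻¹ * q⁻¹) * (q * α) := by group
        _ = q * α := by rw [h1, one_mul]
    · calc q * α * q⁻¹ = (α * q * α⁻¹ * q⁻¹)⁻¹ * α := by group
        _ = z * α := by rw [h1, hzinv]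
        _ = α * z := hαz.symm

end Cfsg.Agent.S1784
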