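import Cfsg.Statements.S1785
import Cfsg.Agent.Lib.Helper30.TwoGroupConn

set_option autoImplicit false
open Cfsg

namespace Cfsg.Agent.S1785

open Cfsg.Agent.Lib.Helper30 in
theorem isElementaryAbelian_two_iff {X : Type*} [Group X] (A : Subgroup X) :
    Cfsg.IsElementaryAbelian 2 A ↔ EA2 A := by
  constructor
  · rintro ⟨h1, h2⟩
    refine ⟨fun a ha b hb => ?_, h2⟩
    have := h1.is_comm.comm (⟨a, ha⟩ : ↥A) ⟨b, hb⟩
    exact congrArg Subtype.val this
  · rintro ⟨h1, h2⟩
    refine ⟨⟨⟨fun a b => ?_⟩⟩, h2⟩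
    apply Subtype.ext
    exact h1 a a.2 b b.2

open Cfsg.Agent.Lib.Helper30 in
/-- Let X be a finite 2-group having a normal elementary abelian subgroup of order at least 32. Then (a) for any two elementary abelian subgroups A, B of X of order 8 there is a chain A = A₁, A₂, …, Aₙ = B of elementary abelian subgroups of order 8 in which consecutive members commute elementwise; and (b) every elementary abelian subgroup of X of order 4 is contained in an elementary abelian subgroup of order 8. -/
theorem result {X : Type*} [Group X] [Finite X]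
    (hX : IsPGroup 2 X) (E : Subgroup X) [E.Normal] (hE : Cfsg.IsElementaryAbelian 2 E) (hE32 : 32 ≤ Nat.card ↥E) :
    (∀ A B : Subgroup X, Cfsg.IsElementaryAbelian 2 A → Nat.card ↥A = 8 → Cfsg.IsElementaryAbelian 2 B → Nat.card ↥B = 8 →
        Relation.ReflTransGen
          (fun C D : Subgroup X => Cfsg.IsElementaryAbelian 2 C ∧ Nat.card ↥C = 8 ∧ Cfsg.IsElementaryAbelian 2 D ∧ Nat.card ↥D = 8 ∧ ⁅C, D⁆ = ⊥)
          A B) ∧
      (∀ V : Subgroup X, Cfsg.IsElementaryAbelian 2 V → Nat.card ↥V = 4 →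
        ∃ A : Subgroup X, V ≤ A ∧ Cfsg.IsElementaryAbelian 2 A ∧ Nat.card ↥A = 8) := by
  have hEA : EA2 E := (isElementaryAbelian_two_iff E).mp hE
  constructor
  · intro A B hA hAc hB hBc
    have hchain := adj2_connected_eight hEA hE32 A B ((isElementaryAbelian_two_iff A).mp hA)
      (by rw [hAc]; norm_num) ((isElementaryAbelian_two_iff B).mp hB) (by rw [hBc]; norm_num)
    refine Relation.ReflTransGen.mono ?_ _ _ hchain
    intro C D hCD
    refine ⟨(isElementaryAbelian_two_iff C).mpr hCD.1.1, by rw [hCD.1.2]; norm_num,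
      (isElementaryAbelian_two_iff D).mpr hCD.2.1.1, by rw [hCD.2.1.2]; norm_num, ?_⟩
    rw [Subgroup.commutator_eq_bot_iff_le_centralizer]
    intro c hc
    rw [Subgroup.mem_centralizer_iff]
    intro d hd
    exact (hCD.2.2 c hc d hd).symm
  · intro V hV hVc
    obtain ⟨A, hVA, hA, hAc⟩ := exists_eight_of_four hEA (by omega) V
      ((isElementaryAbelian_two_iff V).mp hV) hVc
    exact ⟨A, hVA, (isElementaryAbelian_two_iff A).mpr hA, hAc⟩

end Cfsg.Agent.S1785
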