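import Cfsg.Statements.S1850
import Cfsg.Agent.Lib.Helper31.Char2

set_option autoImplicit false
open Cfsg

namespace Cfsg.Agent.S1850

open Cfsg.Agent.Lib.Helper31 Subgroup

/-- Let G be a non-abelian finite simple QTKE-group and T a Sylow 2-subgroup of G. If U is a nontrivial 2-subgroup of G with U ∩ Z(T) ≠ 1, then F*(N_G(U)) = O₂(N_G(U)). -/
theorem result {G : Type*} [Group G] [Finite G] [IsSimpleGroup G]
    (hG : ¬ IsMulCommutative G) (hQ : Cfsg.IsQTKE G) (T : Sylow 2 G) (U : Subgroup G)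
    (hU : IsPGroup 2 ↥U) (hZ : U ⊓ ((T : Subgroup G) ⊓ Subgroup.centralizer ((T : Subgroup G) : Set G)) ≠ ⊥) :
    Subgroup.normalizer (U : Set G) ∈ Cfsg.calHe G := by
  have : Fact (Nat.Prime 2) := ⟨Nat.prime_two⟩
  have hZ0p : IsPGroup 2 ↥(U ⊓ ((T : Subgroup G) ⊓
      Subgroup.centralizer ((T : Subgroup G) : Set G))) := hU.to_le inf_le_left
  obtain ⟨z, hzZ0, hz2⟩ := exists_orderOf_eq_prime_of_ne_bot hZ0p hZ
  have hzU : z ∈ U := (mem_inf.mp hzZ0).1
  have hzCT : z ∈ centralizer ((T : Subgroup G) : Set G) := (mem_inf.mp (mem_inf.mp hzZ0).2).2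
  have hz1 : z ≠ 1 := by
    rintro rfl
    simp at hz2
  have hXloc : Cfsg.IsTwoLocal (normalizer (zpowers z : Set G)) :=
    ⟨zpowers z, IsPGroup.of_card (n := 1) (by rw [Nat.card_zpowers, hz2, pow_one]),
      zpowers_ne_bot.mpr hz1, rfl⟩
  have hTX : (T : Subgroup G) ≤ normalizer (zpowers z : Set G) := by
    refine le_trans ?_ (centralizer_le_normalizer _)
    rw [le_centralizer_iff, zpowers_le]; exact hzCT
  have hX : Cfsg.Agent.Lib.Helper48.CharP 2 ↥(normalizer (zpowers z : Set G)) :=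
    hQ.2.2 _ hXloc ⟨T, hTX⟩
  have hCz : Cfsg.Agent.Lib.Helper48.CharP 2 ↥(centralizer (zpowers z : Set G)) :=
    charP_of_normal (centralizer_le_normalizer _) (fun g hg => mem_normalizer_centralizer hg) hX
  have hmain := charP_normalizer_of_centralizer hU (zpowers_le.mpr hzU) hCz
  exact genFitting_eq_pCore_of_charP hmain

end Cfsg.Agent.S1850
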