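import Cfsg.Statements.S1892
import Cfsg.Agent.Lib.Helper76.PSolvable
import Cfsg.Agent.Lib.Helper24.Coprime

set_option autoImplicit false
open Cfsg

namespace Cfsg.Agent.S1892

open Cfsg.Agent.Lib.Helper24 Cfsg.Agent.Lib.Helper55 Cfsg.Agent.Lib.Helper76
open scoped commutatorElement

section Stab

variable {S : Type*} [Group S]

/-- The elements of `N(P₁)` acting trivially on `P/P₁`. -/
def stabK (P P₁ : Subgroup S) : Subgroup S where
  carrier := {h | h ∈ Subgroup.normalizer (P₁ : Set S) ∧ ∀ x ∈ P, h * x * h⁻¹ * x⁻¹ ∈ P₁}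
  one_mem' := ⟨Subgroup.one_mem _, fun x _ => by simp⟩
  mul_mem' := by
    rintro a b ⟨ha, ha'⟩ ⟨hb, hb'⟩
    refine ⟨Subgroup.mul_mem _ ha hb, fun x hx => ?_⟩
    have h1 : a * (b * x * b⁻¹ * x⁻¹) * a⁻¹ ∈ P₁ :=
      (Subgroup.mem_normalizer_iff.mp ha _).mp (hb' x hx)
    have h2 := ha' x hx
    have : a * b * x * (a * b)⁻¹ * x⁻¹ =
        (a * (b * x * b⁻¹ * x⁻¹) * a⁻¹) * (a * x * a⁻¹ * x⁻¹) := by group
    rw [this]
    exact P₁.mul_mem h1 h2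
  inv_mem' := by
    rintro a ⟨ha, ha'⟩
    refine ⟨Subgroup.inv_mem _ ha, fun x hx => ?_⟩
    have h2 := P₁.inv_mem (ha' x hx)
    have h1 : a⁻¹ * (a * x * a⁻¹ * x⁻¹)⁻¹ * a⁻¹⁻¹ ∈ P₁ :=
      (Subgroup.mem_normalizer_iff.mp (Subgroup.inv_mem _ ha) _).mp h2
    have : a⁻¹ * x * a⁻¹⁻¹ * x⁻¹ = a⁻¹ * (a * x * a⁻¹ * x⁻¹)⁻¹ * a⁻¹⁻¹ := by group
    rw [this]
    exact h1

theorem mem_stabK {P P₁ : Subgroup S} {h : S} :
    h ∈ stabK P P₁ ↔ h ∈ Subgroup.normalizer (P₁ : Set S) ∧ ∀ x ∈ P, h * x * h⁻¹ * x⁻¹ ∈ P₁ :=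
  Iff.rfl

theorem conj_mem_stabK {P P₁ : Subgroup S} [hP : P.Normal] {g h : S}
    (hg : g ∈ Subgroup.normalizer (P₁ : Set S)) (hh : h ∈ stabK P P₁) :
    g * h * g⁻¹ ∈ stabK P P₁ := by
  obtain ⟨hh1, hh2⟩ := hh
  refine ⟨Subgroup.mul_mem _ (Subgroup.mul_mem _ hg hh1) (Subgroup.inv_mem _ hg), fun x hx => ?_⟩
  have hy : g⁻¹ * x * g ∈ P := by
    have := hP.conj_mem x hx g⁻¹
    simpa using this
  have h1 := hh2 _ hy
  have h2 : g * (h * (g⁻¹ * x * g) * h⁻¹ * (g⁻¹ * x * g)⁻¹) * g⁻¹ ∈ P₁ :=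
    (Subgroup.mem_normalizer_iff.mp hg _).mp h1
  have : g * h * g⁻¹ * x * (g * h * g⁻¹)⁻¹ * x⁻¹ =
      g * (h * (g⁻¹ * x * g) * h⁻¹ * (g⁻¹ * x * g)⁻¹) * g⁻¹ := by group
  rw [this]
  exact h2

/-- If `A` normalizes... in fact for any `A`, `Q` with `[A,Q] = Q` and `[[P,A],Q] = 1`, `P` normal:
`[P,Q] ≤ [P,A]`. -/
theorem commutator_le_commutator_of_eq (P A Q : Subgroup S) [hP : P.Normal] (hAQ : ⁅A, Q⁆ = Q)
    (hcent : ⁅⁅P, A⁆, Q⁆ = ⊥) : ⁅P, Q⁆ ≤ ⁅P, A⁆ := by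
  have hPtop : Subgroup.normalizer (P : Set S) = ⊤ := Subgroup.normalizer_eq_top_iff.mpr hP
  have hA_norm : A ≤ Subgroup.normalizer ((⁅P, A⁆ : Subgroup S) : Set S) :=
    le_normalizer_commutator_right P A (by rw [hPtop]; exact le_top)
  have hQ_cent : Q ≤ Subgroup.centralizer ((⁅P, A⁆ : Subgroup S) : Set S) := by
    rw [Subgroup.le_centralizer_iff]
    exact Subgroup.commutator_eq_bot_iff_le_centralizer.mp hcent
  have hQ_norm : Q ≤ Subgroup.normalizer ((⁅P, A⁆ : Subgroup S) : Set S) :=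
    hQ_cent.trans (Subgroup.centralizer_le_normalizer _)
  have hAK : A ≤ stabK P ⁅P, A⁆ := by
    intro a ha
    refine ⟨hA_norm ha, fun x hx => ?_⟩
    have h1 : ⁅a, x⁆ ∈ ⁅A, P⁆ := Subgroup.commutator_mem_commutator ha hx
    rw [Subgroup.commutator_comm] at h1
    rwa [commutatorElement_def] at h1
  have hQK : Q ≤ stabK P ⁅P, A⁆ := by
    calc Q = ⁅A, Q⁆ := hAQ.symm
      _ ≤ stabK P ⁅P, A⁆ := by
        rw [Subgroup.commutator_le]
        intro a ha q hq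
        have h1 : q * a⁻¹ * q⁻¹ ∈ stabK P ⁅P, A⁆ :=
          conj_mem_stabK (hQ_norm hq) (Subgroup.inv_mem _ (hAK ha))
        have : ⁅a, q⁆ = a * (q * a⁻¹ * q⁻¹) := by rw [commutatorElement_def]; group
        rw [this]
        exact Subgroup.mul_mem _ (hAK ha) h1
  rw [Subgroup.commutator_le]
  intro x hx q hq
  have h1 := (hQK hq).2 x hx
  have : ⁅x, q⁆ = (q * x * q⁻¹ * x⁻¹)⁻¹ := by rw [commutatorElement_def]; group
  rw [this]
  exact Subgroup.inv_mem _ h1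

end Stab

/-- Let S be a finite p-solvable group with no nontrivial normal subgroup of order prime to p, A a p-subgroup of S, and Q a nontrivial A-invariant subgroup of order prime to p with [A, Q] = Q. Then the commutator [O_p(S), A, Q] is nontrivial. -/
theorem result {S : Type*} [Group S] [Finite S] {p : ℕ} [Fact p.Prime]
    (hS : Cfsg.IsPSolvable p S) (hred : Cfsg.pPrimeCore p S = ⊥)
    (A Q : Subgroup S) (hA : IsPGroup p A) (hQ : ¬ p ∣ Nat.card Q) (hQ1 : Q ≠ ⊥)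
    (hinv : ∀ a ∈ A, ∀ x ∈ Q, a * x * a⁻¹ ∈ Q) (hAQ : ⁅A, Q⁆ = Q) :
    ⁅⁅Cfsg.pCore p S, A⁆, Q⁆ ≠ ⊥ := by
  intro hcent
  have hp : p.Prime := Fact.out
  haveI hPn : (Cfsg.pCore p S).Normal := pCore_normal' p
  have hPp : IsPGroup p (Cfsg.pCore p S) := pCore_isPGroup p
  have hPtop : Subgroup.normalizer ((Cfsg.pCore p S : Subgroup S) : Set S) = ⊤ :=
    Subgroup.normalizer_eq_top_iff.mpr hPn
  have hle : ⁅Cfsg.pCore p S, Q⁆ ≤ ⁅Cfsg.pCore p S, A⁆ :=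
    commutator_le_commutator_of_eq (Cfsg.pCore p S) A Q hAQ hcent
  obtain ⟨n, hn⟩ := IsPGroup.iff_card.mp hPp
  have hcop : (Nat.card Q).Coprime (Nat.card (Cfsg.pCore p S)) := by
    rw [hn]
    exact Nat.Coprime.pow_right n ((Nat.Prime.coprime_iff_not_dvd hp).mpr hQ).symm
  have hsolv : Group.IsSolvable (Cfsg.pCore p S) := by
    haveI := hPp.isNilpotent
    infer_instance
  have h3 : ⁅⁅Cfsg.pCore p S, Q⁆, Q⁆ = ⁅Cfsg.pCore p S, Q⁆ :=
    commutator_commutator_eq Q (Cfsg.pCore p S) (by rw [hPtop]; exact le_top) hcop (Or.inr hsolv)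
  have h4 : ⁅Cfsg.pCore p S, Q⁆ = ⊥ := by
    rw [eq_bot_iff, ← h3, ← hcent]
    exact Subgroup.commutator_mono hle le_rfl
  have h5 : Q ≤ Subgroup.centralizer ((Cfsg.pCore p S : Subgroup S) : Set S) := by
    rw [Subgroup.le_centralizer_iff]
    exact Subgroup.commutator_eq_bot_iff_le_centralizer.mp h4
  have h6 : Q ≤ Cfsg.pCore p S := h5.trans (centralizer_pCore_le_of_isPSolvable hS hred)
  have h7 : Nat.card Q ∣ p ^ n := by
    rw [← hn]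
    exact Subgroup.card_dvd_of_le h6
  obtain ⟨m, -, hm⟩ := (Nat.dvd_prime_pow hp).mp h7
  apply hQ1
  apply Subgroup.eq_bot_of_card_eq
  rcases Nat.eq_zero_or_pos m with h0 | hpos
  · rw [hm, h0, pow_zero]
  · exfalso
    apply hQ
    rw [hm]
    exact dvd_pow_self p hpos.ne'

end Cfsg.Agent.S1892
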