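import Cfsg.Statements.S1895
import Cfsg.Agent.Lib.Helper19.RankTwoChief
import Cfsg.Agent.Lib.Helper32.Rank2Solv
import Cfsg.Agent.Lib.Helper76.PSolvable

set_option autoImplicit false
set_option linter.style.haveILetI false
set_option linter.unusedSectionVars false
open Cfsg

namespace Cfsg.Agent.S1895

open Subgroup Cfsg.Agent.Lib.Helper19.Chief Cfsg.Agent.Lib.Helper19.RankTwo

/-- Transfer of a chief factor to a quotient. -/
theorem chief_map {G : Type*} [Group G] [Finite G] (N : Subgroup G) [N.Normal] (A B : Subgroup G)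
    (hAB : IsChief (fun X : Subgroup G => X.Normal) A B) (hN : (N ⊔ B) ⊓ A = B) :
    IsChief (fun X : Subgroup (G ⧸ N) => X.Normal) (A.map (QuotientGroup.mk' N))
      (B.map (QuotientGroup.mk' N)) ∧
    (B.map (QuotientGroup.mk' N)).relIndex (A.map (QuotientGroup.mk' N)) = B.relIndex A := by
  obtain ⟨hAn, hBn, hBA, hch⟩ := hAB
  haveI := hAn
  haveI := hBn
  have hsurj : Function.Surjective (QuotientGroup.mk' N) := QuotientGroup.mk'_surjective N
  have hrel : (B.map (QuotientGroup.mk' N)).relIndex (A.map (QuotientGroup.mk' N)) =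
      B.relIndex A := by
    rw [Subgroup.relIndex_map_map, QuotientGroup.ker_mk']
    have h1 : A ⊔ N = A ⊔ (B ⊔ N) := by
      rw [← sup_assoc, sup_eq_left.2 hBA.le]
    rw [h1, Subgroup.relIndex_sup_right, ← Subgroup.inf_relIndex_right, sup_comm B N, hN]
  refine ⟨⟨hAn.map _ hsurj, hBn.map _ hsurj, ?_, ?_⟩, hrel⟩
  · refine lt_of_le_of_ne (Subgroup.map_mono hBA.le) ?_
    intro h
    rw [h, Subgroup.relIndex_self] at hrel
    have := Subgroup.relIndex_eq_one.1 hrel.symm
    exact not_le_of_gt hBA this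
  · intro X hX h1 h2
    haveI := hX
    have hXn : (X.comap (QuotientGroup.mk' N) ⊓ A).Normal := inferInstance
    have hBX : B ≤ X.comap (QuotientGroup.mk' N) ⊓ A := by
      refine le_inf ?_ hBA.le
      intro b hb
      exact h1 (Subgroup.mem_map_of_mem _ hb)
    rcases hch _ hXn hBX inf_le_right with h | h
    · left
      apply le_antisymm _ h1
      intro x hx
      obtain ⟨a, ha, rfl⟩ := h2 hx
      have : a ∈ X.comap (QuotientGroup.mk' N) ⊓ A := ⟨hx, ha⟩
      rw [h] at this
      exact Subgroup.mem_map_of_mem _ this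
    · right
      apply le_antisymm h2
      rintro _ ⟨a, ha, rfl⟩
      have : a ∈ X.comap (QuotientGroup.mk' N) ⊓ A := by rw [h]; exact ha
      exact this.1

/-- `p ^ 2` does not divide the order of the automorphism group of an elementary abelian group of
order dividing `p ^ 2`. -/
theorem not_sq_dvd_card_mulAut (p : ℕ) [hp : Fact p.Prime] {Q : Type*} [Group Q] [Finite Q]
    (hcomm : ∀ a b : Q, a * b = b * a) (hexp : ∀ q : Q, q ^ p = 1) (hcard : Nat.card Q ∣ p ^ 2) :
    ¬ p ^ 2 ∣ Nat.card (MulAut Q) := by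
  have hp1 : 1 < p := hp.out.one_lt
  letI : CommGroup Q := { ‹Group Q› with mul_comm := hcomm }
  haveI : Finite (MulAut Q) := Finite.of_injective (fun f : MulAut Q => (f : Q → Q))
      (fun f g h => MulEquiv.ext (congrFun h))
  obtain ⟨i, hi, hi'⟩ := (Nat.dvd_prime_pow hp.out).1 hcard
  have hpsq : p < p ^ 2 := by nlinarith
  by_cases h2 : i = 2
  · subst h2
    obtain ⟨φ, hφ⟩ := Cfsg.Agent.Lib.Helper32.GL2.exists_injective_hom_GL2 p hexp hi'
    intro hd
    have h1 : Nat.card (MulAut Q) ∣ Nat.card (Matrix.GeneralLinearGroup (Fin 2) (ZMod p)) := by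
      have := Subgroup.card_subgroup_dvd_card φ.range
      rwa [Nat.card_congr (MonoidHom.ofInjective hφ).toEquiv.symm] at this
    rw [Cfsg.Agent.Lib.Helper32.GL2.card_GL2_zmod] at h1
    have h3 := hd.trans h1
    have e1 : p ^ 2 - p = p * (p - 1) := by
      rw [Nat.mul_sub, mul_one, pow_two]
    have e2 : (p ^ 2 - 1) * (p ^ 2 - p) = p * ((p ^ 2 - 1) * (p - 1)) := by rw [e1]; ring
    have h3' : p * p ∣ p * ((p ^ 2 - 1) * (p - 1)) := by
      rw [← pow_two, ← e2]; exact h3
    have h4 : p ∣ (p ^ 2 - 1) * (p - 1) := Nat.dvd_of_mul_dvd_mul_left hp.out.pos h3'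
    rcases (Nat.Prime.dvd_mul hp.out).1 h4 with h | h
    · have h5 : p ∣ p ^ 2 := dvd_pow_self p (by norm_num)
      have h6 : p ∣ p ^ 2 - (p ^ 2 - 1) := Nat.dvd_sub h5 h
      have h7 : p ^ 2 - (p ^ 2 - 1) = 1 := by omega
      rw [h7, Nat.dvd_one] at h6
      omega
    · have := Nat.le_of_dvd (by omega) h
      omega
  · have hi1 : i ≤ 1 := by omega
    haveI : IsCyclic Q := by
      rcases Nat.eq_zero_or_pos i with h0 | h0
      · rw [h0, pow_zero] at hi'
        haveI : Subsingleton Q := (Nat.card_eq_one_iff_unique.1 hi').1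
        exact isCyclic_of_subsingleton
      · have : i = 1 := by omega
        rw [this, pow_one] at hi'
        exact isCyclic_of_prime_card hi'
    rw [IsCyclic.card_mulAut, hi']
    intro hd
    have hle : (p ^ i).totient ≤ p ^ i := Nat.totient_le _
    have hpos : 0 < (p ^ i).totient := Nat.totient_pos.2 (pow_pos hp.out.pos i)
    have := Nat.le_of_dvd hpos hd
    have h3 : p ^ i ≤ p ^ 1 := Nat.pow_le_pow_right hp.out.pos hi1
    rw [pow_one] at h3
    omega

theorem result {G : Type*} [Group G] [Finite G] {p : ℕ} [Fact p.Prime] (hp : p ≠ 2)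
    (hG : Cfsg.IsPSolvable p G) (hr : Cfsg.PRankLE p 2 G)
    (H K : Subgroup G) [H.Normal] [K.Normal] (hKH : K < H) (hpow : ∃ n : ℕ, K.relIndex H = p ^ n)
    (hchief : ∀ L : Subgroup G, L.Normal → K ≤ L → L ≤ H → L = K ∨ L = H) :
    K.relIndex H = p ∨ K.relIndex H = p ^ 2 := by
  classical
  have hpp : p.Prime := Fact.out
  have hHK : IsChief (fun X : Subgroup G => X.Normal) H K :=
    ⟨inferInstance, inferInstance, hKH, hchief⟩
  obtain ⟨n, hn⟩ := hpow
  have hn0 : n ≠ 0 := by
    rintro rfl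
    rw [pow_zero, Subgroup.relIndex_eq_one] at hn
    exact not_le_of_gt hKH hn
  suffices hle : K.relIndex H ≤ p ^ 2 by
    rw [hn] at hle ⊢
    have h2 : n ≤ 2 := (Nat.pow_le_pow_iff_right hpp.one_lt).1 hle
    have : n = 1 ∨ n = 2 := by omega
    rcases this with rfl | rfl
    · left; rw [pow_one]
    · right; rfl
  -- step (a): the factor is not covered by `O_{p'}(G)`
  have hstepa : (pPrimeCore p G ⊔ K) ⊓ H = K := by
    rcases hchief ((pPrimeCore p G ⊔ K) ⊓ H) inferInstance (le_inf le_sup_right hKH.le)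
      inf_le_right with h | h
    · exact h
    · exfalso
      have hle : H ≤ pPrimeCore p G ⊔ K := by rw [← h]; exact inf_le_left
      have hd := relIndex_dvd_of_sandwich H K (pPrimeCore p G) ⊥ hKH.le hle
        (by rw [bot_inf_eq]; exact bot_le)
      rw [Subgroup.relIndex_bot_left, hn] at hd
      have h1 : p ∣ Nat.card (pPrimeCore p G) := (dvd_pow_self p hn0).trans hd
      have h2 := Cfsg.Agent.Lib.Helper55.pPrimeCore_card_coprime (G := G) p
      exact (Nat.Prime.coprime_iff_not_dvd hpp).1 h2.symm h1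
  obtain ⟨hchief', hrel⟩ := chief_map (pPrimeCore p G) H K hHK hstepa
  rw [← hrel]
  have hbot : pPrimeCore p (G ⧸ pPrimeCore p G) = ⊥ :=
    Cfsg.Agent.Lib.Helper55.pPrimeCore_quotient_eq_bot p
  have hsolq : IsPSolvable p (G ⧸ pPrimeCore p G) :=
    Cfsg.Agent.Lib.Helper76.isPSolvable_quotient _ hG
  have hcent := Cfsg.Agent.Lib.Helper76.centralizer_pCore_le_of_isPSolvable hsolq hbot
  have hFp : IsPGroup p ↥(pCore p (G ⧸ pPrimeCore p G)) := Cfsg.Agent.Lib.Helper55.pCore_isPGroup p
  have hFr : PRankLE p 2 ↥(pCore p (G ⧸ pPrimeCore p G)) :=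
    Cfsg.Agent.Lib.Helper32.Rank2.pRankLE_pCore_quotient p hr
  have hTsup : ∀ X Y : Subgroup (G ⧸ pPrimeCore p G), X.Normal → Y.Normal → (X ⊔ Y).Normal :=
    fun X Y hX hY => by haveI := hX; haveI := hY; infer_instance
  have hTinf : ∀ X Y : Subgroup (G ⧸ pPrimeCore p G), X.Normal → Y.Normal → (X ⊓ Y).Normal :=
    fun X Y hX hY => by haveI := hX; haveI := hY; infer_instance
  by_cases hcase : H.map (QuotientGroup.mk' (pPrimeCore p G)) ≤
      pCore p (G ⧸ pPrimeCore p G) ⊔ K.map (QuotientGroup.mk' (pPrimeCore p G))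
  · have hA := charChief hp _ ↥(pCore p (G ⧸ pPrimeCore p G)) rfl hFp hFr
    exact chief_le_of_sub (p ^ 2) (pCore p (G ⧸ pPrimeCore p G)) hA (fun X => X.Normal)
      (fun X h => h) hTsup hTinf
      (fun Y hY => by haveI := hY; exact ConjAct.normal_of_characteristic_of_normal)
      _ _ hchief' hcase
  · -- the factor lies above `O_p`
    obtain ⟨hAn, hBn, hBA, hch⟩ := id hchief'
    haveI := hAn
    haveI := hBn
    have hinf : (pCore p (G ⧸ pPrimeCore p G) ⊔ K.map (QuotientGroup.mk' (pPrimeCore p G))) ⊓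
        H.map (QuotientGroup.mk' (pPrimeCore p G)) = K.map (QuotientGroup.mk' (pPrimeCore p G)) := by
      rcases hch _ (hTinf _ _ (hTsup _ _ (pCore_normal p (G ⧸ pPrimeCore p G)) hBn) hAn)
        (le_inf le_sup_right hBA.le) inf_le_right with h | h
      · exact h
      · exfalso
        apply hcase
        rw [← h]; exact inf_le_left
    have hd := relIndex_dvd_of_sandwich (H.map (QuotientGroup.mk' (pPrimeCore p G)))
      (K.map (QuotientGroup.mk' (pPrimeCore p G))) ⊤ (pCore p (G ⧸ pPrimeCore p G)) hBA.le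
      (le_sup_of_le_left le_top) (by
        rw [← hinf]
        exact inf_le_inf_right _ le_sup_left)
    rw [Subgroup.relIndex_top_right] at hd
    obtain ⟨Q, iQ, fQ, ρ, h1, h2, h3, hρ⟩ :=
      Cfsg.Agent.Lib.Helper32.Rank2.exists_rank_two_action p hp hFp hFr
    let θ : (G ⧸ pPrimeCore p G) →* MulAut ↥(pCore p (G ⧸ pPrimeCore p G)) := MulAut.conjNormal
    have hθ : Cfsg.Agent.Lib.Helper32.Rank2.PKer p θ := by
      intro z hz
      have hzc : z ∈ centralizer (pCore p (G ⧸ pPrimeCore p G) : Set (G ⧸ pPrimeCore p G)) := by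
        rw [Subgroup.mem_centralizer_iff]
        intro x hx
        have := congrArg (fun g : MulAut ↥(pCore p (G ⧸ pPrimeCore p G)) =>
          ((g ⟨x, hx⟩ : ↥(pCore p (G ⧸ pPrimeCore p G))) : G ⧸ pPrimeCore p G)) hz
        simp only [θ, MulAut.conjNormal_apply, MulAut.one_apply] at this
        calc x * z = (z * x * z⁻¹) * z := by rw [this]
          _ = z * x := by group
      obtain ⟨k, hk⟩ := hFp ⟨z, hcent hzc⟩
      refine ⟨k, ?_⟩
      have := congrArg Subtype.val hk
      simpa using this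
    have hψ : Cfsg.Agent.Lib.Helper32.Rank2.PKer p (ρ.comp θ) := hθ.comp hρ
    have hkerp : IsPGroup p ↥(ρ.comp θ).ker := by
      intro z
      obtain ⟨k, hk⟩ := hψ z.1 z.2
      exact ⟨k, Subtype.ext hk⟩
    have hker : (ρ.comp θ).ker ≤ pCore p (G ⧸ pPrimeCore p G) :=
      le_sSup ⟨inferInstance, hkerp⟩
    have hidx : (pCore p (G ⧸ pPrimeCore p G)).index ∣ (ρ.comp θ).ker.index :=
      Subgroup.index_dvd_of_le hker
    rw [Subgroup.index_ker] at hidx
    have hcd : Nat.card (ρ.comp θ).range ∣ Nat.card (MulAut Q) :=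
      Subgroup.card_subgroup_dvd_card _
    have hall := (hd.trans hidx).trans hcd
    rw [hrel, hn] at hall
    have hn1 : n ≤ 1 := by
      by_contra hcon
      push Not at hcon
      exact not_sq_dvd_card_mulAut p h1 h2 h3 ((pow_dvd_pow p hcon).trans hall)
    rw [hrel, hn]
    exact Nat.pow_le_pow_right hpp.pos (by omega)

end Cfsg.Agent.S1895
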