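import Cfsg.Statements.S1897
import Cfsg.Agent.Lib.Helper89.L27PSL

set_option autoImplicit false
set_option linter.unusedVariables false
set_option linter.unusedTactic false
set_option linter.unreachableTactic false
set_option linter.unnecessarySeqFocus false
open Cfsg

namespace Cfsg.Agent.S1897

open Matrix

section mats

variable {F : Type*} [Field F]

/-- the involution -/
def xM : Matrix (Fin 3) (Fin 3) F := !![0, 0, 1; 0, -1, 0; 1, 0, 0]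

/-- the element of order 3 -/
def yM (ω : F) : Matrix (Fin 3) (Fin 3) F := !![0, 1 + ω, 1 + ω; 1 - ω, -1, 1; -1 + ω, -1, 1]

theorem p_xx (ω : F) (h3 : (3 : F) = 0) (hω : ω * ω = -1) :
    (!![0, 0, 1; 0, -1, 0; 1, 0, 0] : Matrix (Fin 3) (Fin 3) F) * !![0, 0, 1; 0, -1, 0; 1, 0, 0] = !![1, 0, 0; 0, 1, 0; 0, 0, 1] := by
  rw [Matrix.mul_fin_three]
  ext i j
  fin_cases i <;> fin_cases j <;> simp <;> grind

theorem p_yy (ω : F) (h3 : (3 : F) = 0) (hω : ω * ω = -1) :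
    (!![0, 1 + ω, 1 + ω; 1 - ω, -1, 1; -1 + ω, -1, 1] : Matrix (Fin 3) (Fin 3) F) * !![0, 1 + ω, 1 + ω; 1 - ω, -1, 1; -1 + ω, -1, 1] = !![0, 1 + ω, -1 - ω; 1 - ω, -1, -1; 1 - ω, 1, 1] := by
  rw [Matrix.mul_fin_three]
  ext i j
  fin_cases i <;> fin_cases j <;> simp <;> grind

theorem p_yyy (ω : F) (h3 : (3 : F) = 0) (hω : ω * ω = -1) :
    (!![0, 1 + ω, -1 - ω; 1 - ω, -1, -1; 1 - ω, 1, 1] : Matrix (Fin 3) (Fin 3) F) * !![0, 1 + ω, 1 + ω; 1 - ω, -1, 1; -1 + ω, -1, 1] = !![1, 0, 0; 0, 1, 0; 0, 0, 1] := by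
  rw [Matrix.mul_fin_three]
  ext i j
  fin_cases i <;> fin_cases j <;> simp <;> grind

theorem p_c1 (ω : F) (h3 : (3 : F) = 0) (hω : ω * ω = -1) :
    (!![0, 0, 1; 0, -1, 0; 1, 0, 0] : Matrix (Fin 3) (Fin 3) F) * !![0, 1 + ω, 1 + ω; 1 - ω, -1, 1; -1 + ω, -1, 1] = !![-1 + ω, -1, 1; -1 + ω, 1, -1; 0, 1 + ω, 1 + ω] := by
  rw [Matrix.mul_fin_three]
  ext i j
  fin_cases i <;> fin_cases j <;> simp <;> grind

theorem p_c2 (ω : F) (h3 : (3 : F) = 0) (hω : ω * ω = -1) :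
    (!![-1 + ω, -1, 1; -1 + ω, 1, -1; 0, 1 + ω, 1 + ω] : Matrix (Fin 3) (Fin 3) F) * !![-1 + ω, -1, 1; -1 + ω, 1, -1; 0, 1 + ω, 1 + ω] = !![1, 1, 1 - ω; -1 - ω, 1 + ω, 0; 1, 1, -1 + ω] := by
  rw [Matrix.mul_fin_three]
  ext i j
  fin_cases i <;> fin_cases j <;> simp <;> grind

theorem p_c3 (ω : F) (h3 : (3 : F) = 0) (hω : ω * ω = -1) :
    (!![1, 1, 1 - ω; -1 - ω, 1 + ω, 0; 1, 1, -1 + ω] : Matrix (Fin 3) (Fin 3) F) * !![-1 + ω, -1, 1; -1 + ω, 1, -1; 0, 1 + ω, 1 + ω] = !![1 - ω, -1, -1; 0, -1 - ω, 1 + ω; 1 - ω, 1, 1] := by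
  rw [Matrix.mul_fin_three]
  ext i j
  fin_cases i <;> fin_cases j <;> simp <;> grind

theorem p_c4 (ω : F) (h3 : (3 : F) = 0) (hω : ω * ω = -1) :
    (!![1 - ω, -1, -1; 0, -1 - ω, 1 + ω; 1 - ω, 1, 1] : Matrix (Fin 3) (Fin 3) F) * !![-1 + ω, -1, 1; -1 + ω, 1, -1; 0, 1 + ω, 1 + ω] = !![1 + ω, 0, 1 + ω; -1, -1 + ω, 1; -1, 1 - ω, 1] := by
  rw [Matrix.mul_fin_three]
  ext i j
  fin_cases i <;> fin_cases j <;> simp <;> grind

theorem p_c5 (ω : F) (h3 : (3 : F) = 0) (hω : ω * ω = -1) :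
    (!![1 + ω, 0, 1 + ω; -1, -1 + ω, 1; -1, 1 - ω, 1] : Matrix (Fin 3) (Fin 3) F) * !![-1 + ω, -1, 1; -1 + ω, 1, -1; 0, 1 + ω, 1 + ω] = !![1, -1 + ω, 1; 1, 1 - ω, 1; 1 + ω, 0, -1 - ω] := by
  rw [Matrix.mul_fin_three]
  ext i j
  fin_cases i <;> fin_cases j <;> simp <;> grind

theorem p_c6 (ω : F) (h3 : (3 : F) = 0) (hω : ω * ω = -1) :
    (!![1, -1 + ω, 1; 1, 1 - ω, 1; 1 + ω, 0, -1 - ω] : Matrix (Fin 3) (Fin 3) F) * !![-1 + ω, -1, 1; -1 + ω, 1, -1; 0, 1 + ω, 1 + ω] = !![-1 - ω, -1 - ω, 0; -1, 1, 1 - ω; 1, -1, 1 - ω] := by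
  rw [Matrix.mul_fin_three]
  ext i j
  fin_cases i <;> fin_cases j <;> simp <;> grind

theorem p_c7 (ω : F) (h3 : (3 : F) = 0) (hω : ω * ω = -1) :
    (!![-1 - ω, -1 - ω, 0; -1, 1, 1 - ω; 1, -1, 1 - ω] : Matrix (Fin 3) (Fin 3) F) * !![-1 + ω, -1, 1; -1 + ω, 1, -1; 0, 1 + ω, 1 + ω] = !![1, 0, 0; 0, 1, 0; 0, 0, 1] := by
  rw [Matrix.mul_fin_three]
  ext i j
  fin_cases i <;> fin_cases j <;> simp <;> grind

theorem p_xyx (ω : F) (h3 : (3 : F) = 0) (hω : ω * ω = -1) :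
    (!![-1 + ω, -1, 1; -1 + ω, 1, -1; 0, 1 + ω, 1 + ω] : Matrix (Fin 3) (Fin 3) F) * !![0, 0, 1; 0, -1, 0; 1, 0, 0] = !![1, 1, -1 + ω; -1, -1, -1 + ω; 1 + ω, -1 - ω, 0] := by
  rw [Matrix.mul_fin_three]
  ext i j
  fin_cases i <;> fin_cases j <;> simp <;> grind

theorem p_xyxy (ω : F) (h3 : (3 : F) = 0) (hω : ω * ω = -1) :
    (!![1, 1, -1 + ω; -1, -1, -1 + ω; 1 + ω, -1 - ω, 0] : Matrix (Fin 3) (Fin 3) F) * !![0, 1 + ω, 1 + ω; 1 - ω, -1, 1; -1 + ω, -1, 1] = !![1, 1, 1 - ω; -1 - ω, 1 + ω, 0; 1, 1, -1 + ω] := by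
  rw [Matrix.mul_fin_three]
  ext i j
  fin_cases i <;> fin_cases j <;> simp <;> grind

theorem p_w1 (ω : F) (h3 : (3 : F) = 0) (hω : ω * ω = -1) :
    (!![1, 1, 1 - ω; -1 - ω, 1 + ω, 0; 1, 1, -1 + ω] : Matrix (Fin 3) (Fin 3) F) * !![0, 1 + ω, 1 + ω; 1 - ω, -1, 1; -1 + ω, -1, 1] = !![1 + ω, -1 - ω, 0; -1, -1, 1 - ω; 1, 1, 1 - ω] := by
  rw [Matrix.mul_fin_three]
  ext i j
  fin_cases i <;> fin_cases j <;> simp <;> grind

theorem p_w2 (ω : F) (h3 : (3 : F) = 0) (hω : ω * ω = -1) :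
    (!![1 + ω, -1 - ω, 0; -1, -1, 1 - ω; 1, 1, 1 - ω] : Matrix (Fin 3) (Fin 3) F) * !![1 + ω, -1 - ω, 0; -1, -1, 1 - ω; 1, 1, 1 - ω] = !![1, 1 - ω, 1; 1 + ω, 0, -1 - ω; 1, -1 + ω, 1] := by
  rw [Matrix.mul_fin_three]
  ext i j
  fin_cases i <;> fin_cases j <;> simp <;> grind

theorem p_w3 (ω : F) (h3 : (3 : F) = 0) (hω : ω * ω = -1) :
    (!![1, 1 - ω, 1; 1 + ω, 0, -1 - ω; 1, -1 + ω, 1] : Matrix (Fin 3) (Fin 3) F) * !![1 + ω, -1 - ω, 0; -1, -1, 1 - ω; 1, 1, 1 - ω] = !![1 - ω, -1, 1; -1 + ω, -1, 1; 0, 1 + ω, 1 + ω] := by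
  rw [Matrix.mul_fin_three]
  ext i j
  fin_cases i <;> fin_cases j <;> simp <;> grind

theorem p_w4 (ω : F) (h3 : (3 : F) = 0) (hω : ω * ω = -1) :
    (!![1 - ω, -1, 1; -1 + ω, -1, 1; 0, 1 + ω, 1 + ω] : Matrix (Fin 3) (Fin 3) F) * !![1 + ω, -1 - ω, 0; -1, -1, 1 - ω; 1, 1, 1 - ω] = !![1, 0, 0; 0, 1, 0; 0, 0, 1] := by
  rw [Matrix.mul_fin_three]
  ext i j
  fin_cases i <;> fin_cases j <;> simp <;> grind

theorem det_x : (xM : Matrix (Fin 3) (Fin 3) F).det = 1 := by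
  rw [xM, Matrix.det_fin_three]
  simp

theorem det_y (ω : F) (h3 : (3 : F) = 0) (hω : ω * ω = -1) : (yM ω).det = 1 := by
  rw [yM, Matrix.det_fin_three]
  simp
  grind

theorem herm_x (u v : Fin 3 → F) :
    hermForm 3 F 3 (xM *ᵥ u) (xM *ᵥ v) = hermForm 3 F 3 u v := by
  simp only [hermForm, Fin.sum_univ_three, Matrix.mulVec, dotProduct, xM, Matrix.of_apply,
    Matrix.cons_val', Matrix.cons_val_zero, Matrix.cons_val_one, Matrix.cons_val_two,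
    Matrix.empty_val', Matrix.cons_val_fin_one]
  simp
  grind

theorem herm_y (ω : F) (h3 : (3 : F) = 0) (hω : ω * ω = -1) (u v : Fin 3 → F) :
    hermForm 3 F 3 (yM ω *ᵥ u) (yM ω *ᵥ v) = hermForm 3 F 3 u v := by
  simp only [hermForm, Fin.sum_univ_three, Matrix.mulVec, dotProduct, yM, Matrix.of_apply,
    Matrix.cons_val', Matrix.cons_val_zero, Matrix.cons_val_one, Matrix.cons_val_two,
    Matrix.empty_val', Matrix.cons_val_fin_one]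
  simp
  grind

/-- `x` in `SU₃(3)` -/
def xS : SU 3 F 3 := ⟨⟨xM, det_x⟩, fun u v => herm_x u v⟩

/-- `y` in `SU₃(3)` -/
def yS (ω : F) (h3 : (3 : F) = 0) (hω : ω * ω = -1) : SU 3 F 3 :=
  ⟨⟨yM ω, det_y ω h3 hω⟩, fun u v => herm_y ω h3 hω u v⟩

/-- the underlying matrix -/
def val : SU 3 F 3 →* Matrix (Fin 3) (Fin 3) F := (slToMat 3 F).comp (SU 3 F 3).subtype

theorem val_injective : Function.Injective (val : SU 3 F 3 →* Matrix (Fin 3) (Fin 3) F) :=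
  fun _ _ h => Subtype.ext (Subtype.ext h)

theorem val_xS : val (xS : SU 3 F 3) = xM := rfl

theorem val_yS (ω : F) (h3 : (3 : F) = 0) (hω : ω * ω = -1) : val (yS ω h3 hω) = yM ω := rfl

theorem rel1 (ω : F) (h3 : (3 : F) = 0) (hω : ω * ω = -1) : (xS : SU 3 F 3) ^ 2 = 1 := by
  apply val_injective
  rw [map_pow, map_one, val_xS]
  simp only [pow_succ, pow_zero, one_mul]
  rw [xM, p_xx ω h3 hω, Matrix.one_fin_three]

theorem rel2 (ω : F) (h3 : (3 : F) = 0) (hω : ω * ω = -1) : (yS ω h3 hω) ^ 3 = 1 := by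
  apply val_injective
  rw [map_pow, map_one, val_yS]
  simp only [pow_succ, pow_zero, one_mul]
  rw [yM, p_yy ω h3 hω, p_yyy ω h3 hω, Matrix.one_fin_three]

theorem rel3 (ω : F) (h3 : (3 : F) = 0) (hω : ω * ω = -1) : ((xS : SU 3 F 3) * yS ω h3 hω) ^ 7 = 1 := by
  apply val_injective
  rw [map_pow, map_mul, map_one, val_xS, val_yS]
  simp only [pow_succ, pow_zero, one_mul]
  rw [xM, yM, p_c1 ω h3 hω, p_c2 ω h3 hω, p_c3 ω h3 hω, p_c4 ω h3 hω, p_c5 ω h3 hω,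
    p_c6 ω h3 hω, p_c7 ω h3 hω, Matrix.one_fin_three]

theorem rel4 (ω : F) (h3 : (3 : F) = 0) (hω : ω * ω = -1) : ((xS : SU 3 F 3) * yS ω h3 hω * xS * yS ω h3 hω * yS ω h3 hω) ^ 4 = 1 := by
  apply val_injective
  rw [map_pow, map_mul, map_mul, map_mul, map_mul, map_one, val_xS, val_yS]
  simp only [pow_succ, pow_zero, one_mul]
  rw [xM, yM, p_c1 ω h3 hω, p_xyx ω h3 hω, p_xyxy ω h3 hω, p_w1 ω h3 hω, p_w2 ω h3 hω,
    p_w3 ω h3 hω, p_w4 ω h3 hω, Matrix.one_fin_three]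

theorem xS_not_central (ω : F) (h3 : (3 : F) = 0) (hω : ω * ω = -1) : (xS : SU 3 F 3) ∉ Subgroup.center (SU 3 F 3) := by
  intro hc
  have hcomm : yS ω h3 hω * xS = xS * yS ω h3 hω := Subgroup.mem_center_iff.mp hc (yS ω h3 hω)
  have h := congrArg val hcomm
  rw [map_mul, map_mul, val_xS, val_yS, xM, yM] at h
  have h00 := congrFun (congrFun h 0) 0
  simp [Matrix.mul_apply, Fin.sum_univ_three] at h00
  have : (1 : F) = 0 := by linear_combination (-1 : F) * h00 + h3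
  exact one_ne_zero this

end mats

/-- The projective special unitary group PSU₃(3) (realised over the field with 9 elements) has a subgroup isomorphic to PSL₂(7). -/
theorem result {F : Type*} [Field F] [Fintype F] (hF : Fintype.card F = 9)
    {K : Type*} [Field K] [Fintype K] (hK : Fintype.card K = 7) :
    ∃ H : Subgroup (Cfsg.PSU 3 F 3), Nonempty (H ≃* Matrix.ProjectiveSpecialLinearGroup (Fin 2) K) := by
  classical
  have h9 : (9 : F) = 0 := by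
    have := Nat.cast_card_eq_zero F
    rw [hF] at this
    exact_mod_cast this
  have h3 : (3 : F) = 0 := by
    have : (3 : F) * 3 = 0 := by rw [← h9]; norm_num
    exact mul_self_eq_zero.mp this
  obtain ⟨ω, hω'⟩ : IsSquare (-1 : F) := by
    rw [FiniteField.isSquare_neg_one_iff, hF]
    decide
  have hω : ω * ω = -1 := hω'.symm
  apply Cfsg.Agent.Lib.Helper89.L27PSL.exists_subgroup_equiv_psl27 hK
    (QuotientGroup.mk (xS : SU 3 F 3) : Cfsg.PSU 3 F 3) (QuotientGroup.mk (yS ω h3 hω))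
  · rw [← QuotientGroup.mk_pow, rel1 ω h3 hω]; rfl
  · rw [← QuotientGroup.mk_pow, rel2 ω h3 hω]; rfl
  · rw [← QuotientGroup.mk_mul, ← QuotientGroup.mk_pow, rel3 ω h3 hω]; rfl
  · rw [← QuotientGroup.mk_mul, ← QuotientGroup.mk_mul, ← QuotientGroup.mk_mul, ← QuotientGroup.mk_mul,
      ← QuotientGroup.mk_pow, rel4 ω h3 hω]; rfl
  · intro h
    exact xS_not_central ω h3 hω ((QuotientGroup.eq_one_iff _).mp h)

end Cfsg.Agent.S1897
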