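import Cfsg.Statements.S1898

set_option autoImplicit false
open Cfsg

namespace Cfsg.Agent.S1898

section aux
open scoped commutatorElement
variable {X : Type*} [Group X]

theorem comm_elt_mem (x y : X) : ⁅x, y⁆ ∈ commutator X :=
  Subgroup.commutator_mem_commutator (Subgroup.mem_top x) (Subgroup.mem_top y)

theorem sq_central (hel : ∀ a ∈ commutator X, a ^ 2 = 1) (hcen : commutator X ≤ Subgroup.center X)
    (x y : X) : Commute (y ^ 2) x := by
  set c : X := ⁅y, x⁆ with hc
  have hcc : ∀ z : X, Commute c z := fun z =>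
    ((Subgroup.mem_center_iff.mp (hcen (comm_elt_mem y x))) z).symm
  have hc2 : c * c = 1 := by rw [← pow_two]; exact hel c (comm_elt_mem y x)
  have hyx : y * x = c * (x * y) := by
    simp [hc, commutatorElement_def, mul_assoc]
  show y ^ 2 * x = x * y ^ 2
  calc y ^ 2 * x = y * (y * x) := by rw [pow_two, mul_assoc]
    _ = y * (c * (x * y)) := by rw [hyx]
    _ = c * ((y * x) * y) := by rw [← mul_assoc y c, ← (hcc y).eq]; simp [mul_assoc]
    _ = c * ((c * (x * y)) * y) := by rw [hyx]
    _ = (c * c) * (x * y * y) := by simp [mul_assoc]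
    _ = x * y ^ 2 := by rw [hc2, one_mul, pow_two, mul_assoc]

theorem mul_pow_four (hel : ∀ a ∈ commutator X, a ^ 2 = 1) (hcen : commutator X ≤ Subgroup.center X)
    (x y : X) : (x * y) ^ 4 = x ^ 4 * y ^ 4 := by
  set c : X := ⁅y, x⁆ with hc
  have hcc : ∀ z : X, Commute c z := fun z =>
    ((Subgroup.mem_center_iff.mp (hcen (comm_elt_mem y x))) z).symm
  have hc2 : c ^ 2 = 1 := hel c (comm_elt_mem y x)
  have hyx : y * x = c * (x * y) := by
    simp [hc, commutatorElement_def, mul_assoc]
  have h2 : (x * y) ^ 2 = c * (x ^ 2 * y ^ 2) := by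
    calc (x * y) ^ 2 = x * (y * x) * y := by rw [pow_two]; simp [mul_assoc]
      _ = x * (c * (x * y)) * y := by rw [hyx]
      _ = c * (x ^ 2 * y ^ 2) := by
          rw [← mul_assoc x c, ← (hcc x).eq]; simp [mul_assoc, pow_two]
  have hxy : Commute (x ^ 2) (y ^ 2) := (sq_central hel hcen (x ^ 2) y).symm
  calc (x * y) ^ 4 = ((x * y) ^ 2) ^ 2 := by rw [← pow_mul]
    _ = (c * (x ^ 2 * y ^ 2)) ^ 2 := by rw [h2]
    _ = c ^ 2 * (x ^ 2 * y ^ 2) ^ 2 := (hcc _).mul_pow 2
    _ = (x ^ 2) ^ 2 * (y ^ 2) ^ 2 := by rw [hc2, one_mul, hxy.mul_pow]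
    _ = x ^ 4 * y ^ 4 := by rw [← pow_mul, ← pow_mul]

end aux

/-- Let X be a finite 2-group whose derived subgroup is elementary abelian and central. Then the subgroup generated by the elements of order dividing 4 has exponent dividing 4, and every automorphism of X fixing each element of order dividing 4 has 2-power order. -/
theorem result {X : Type*} [Group X] [Finite X] (hX : IsPGroup 2 X)
    (hel : Cfsg.IsElementaryAbelian 2 (commutator X)) (hcen : commutator X ≤ Subgroup.center X) :
    (∀ x ∈ Subgroup.closure {g : X | g ^ 4 = 1}, x ^ 4 = 1) ∧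
      ∀ φ : MulAut X, (∀ g : X, g ^ 4 = 1 → φ g = g) → ∃ k : ℕ, φ ^ (2 ^ k) = 1 := by
  have hel2 : ∀ a ∈ commutator X, a ^ 2 = 1 := hel.2
  have hmul := mul_pow_four hel2 hcen
  refine ⟨?_, ?_⟩
  · intro x hx
    induction hx using Subgroup.closure_induction with
    | mem x hx => exact hx
    | one => simp
    | mul x y _ _ hx hy => rw [hmul, hx, hy, one_mul]
    | inv x _ hx => rw [inv_pow, hx, inv_one]
  · intro φ hφ
    -- order of φ
    have hfin : IsOfFinOrder φ := isOfFinOrder_of_finite φ
    have hNpos : 0 < orderOf φ := hfin.orderOf_pos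
    obtain ⟨k, m, hm, hN⟩ := Nat.exists_eq_two_pow_mul_odd (Nat.pos_iff_ne_zero.mp hNpos)
    refine ⟨k, ?_⟩
    set ψ : MulAut X := φ ^ (2 ^ k) with hψ
    have hψm : ψ ^ m = 1 := by
      rw [hψ, ← pow_mul, ← hN]; exact pow_orderOf_eq_one φ
    have hψfix : ∀ g : X, g ^ 4 = 1 → ψ g = g := by
      intro g hg
      have : ∀ j : ℕ, (φ ^ j) g = g := by
        intro j
        induction j with
        | zero => simp
        | succ j ih => rw [pow_succ, MulAut.mul_apply, hφ g hg, ih]
      exact this _
    -- main induction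
    have key : ∀ e : ℕ, ∀ x : X, x ^ (4 ^ e) = 1 → ψ x = x := by
      intro e
      induction e with
      | zero => intro x hx; simp at hx; subst hx; simp
      | succ e ih =>
        intro x hx
        have hx4 : ψ (x ^ 4) = x ^ 4 := by
          apply ih
          rw [← pow_mul, ← pow_succ']; exact hx
        set z : X := x⁻¹ * ψ x with hz
        have hz4 : z ^ 4 = 1 := by
          rw [hz, hmul, inv_pow, ← map_pow, hx4, inv_mul_cancel]
        have hψz : ψ z = z := hψfix z hz4
        have hψx : ψ x = x * z := by rw [hz, mul_inv_cancel_left]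
        have hpow : ∀ j : ℕ, (ψ ^ j) x = x * z ^ j := by
          intro j
          induction j with
          | zero => simp
          | succ j ihj =>
            rw [pow_succ', MulAut.mul_apply, ihj, map_mul, map_pow, hψz, hψx, mul_assoc, ← pow_succ']
        have hzm : z ^ m = 1 := by
          have := hpow m
          rw [hψm, MulAut.one_apply] at this
          exact (mul_eq_left.mp this.symm)
        have hz1 : z = 1 := by
          have h1 : orderOf z ∣ 4 := orderOf_dvd_of_pow_eq_one hz4
          have h2 : orderOf z ∣ m := orderOf_dvd_of_pow_eq_one hzm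
          have hcop : Nat.Coprime 4 m := by
            have : Nat.Coprime 2 m :=
              (Nat.Prime.coprime_iff_not_dvd Nat.prime_two).mpr (Odd.not_two_dvd_nat hm)
            exact Nat.Coprime.pow_left 2 this
          have : orderOf z ∣ 1 := by
            have := Nat.dvd_gcd h1 h2
            rwa [hcop] at this
          exact orderOf_eq_one_iff.mp (Nat.dvd_one.mp this)
        rw [hψx, hz1, mul_one]
    ext x
    obtain ⟨j, hj⟩ := (IsPGroup.iff_orderOf.mp hX) x
    have : x ^ (4 ^ j) = 1 := by
      have h4 : (4 : ℕ) ^ j = 2 ^ j * 2 ^ j := by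
        rw [← mul_pow]; norm_num
      rw [h4, pow_mul, ← hj, pow_orderOf_eq_one, one_pow]
    rw [MulAut.one_apply]
    exact key j x this

end Cfsg.Agent.S1898
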