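-- Statement S1899 (row 1899).
import Cfsg.Statements.S1899

set_option autoImplicit false
open Cfsg

namespace Cfsg.Agent.S1899

/-- Let a dihedral group of order 2n, n odd and n > 1, act on a finite abelian 2-group A through automorphisms d and t with d^n = 1, t² = 1 and t d t⁻¹ = d⁻¹, and suppose that d fixes only the identity. Then A is the internal direct product of C_A(t) and its image under d. -/
theorem result {A : Type*} [CommGroup A] [Finite A] (hA : IsPGroup 2 A)
    {n : ℕ} (hn : Odd n) (hn1 : 1 < n) (d t : MulAut A) (hd : d ^ n = 1) (ht : t ^ 2 = 1) (hdt : t * d * t⁻¹ = d⁻¹)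
    (hfix : ∀ a : A, d a = a → a = 1) :
    (MulEquiv.toMonoidHom t).eqLocus (MonoidHom.id A) ⊓ ((MulEquiv.toMonoidHom t).eqLocus (MonoidHom.id A)).map d.toMonoidHom = ⊥ ∧
      (MulEquiv.toMonoidHom t).eqLocus (MonoidHom.id A) ⊔ ((MulEquiv.toMonoidHom t).eqLocus (MonoidHom.id A)).map d.toMonoidHom = ⊤ := by
  set C : Subgroup A := (MulEquiv.toMonoidHom t).eqLocus (MonoidHom.id A) with hC
  have memC : ∀ a : A, a ∈ C ↔ t a = a := fun a => Iff.rfl
  -- relations
  have e1 : t * d = d⁻¹ * t := by rw [← hdt]; group
  have e2 : t * d⁻¹ = d * t := by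
    have h := congrArg (fun φ : MulAut A => φ⁻¹) hdt
    simp only [mul_inv_rev, inv_inv] at h
    calc t * d⁻¹ = (t * (d⁻¹ * t⁻¹)) * t := by group
      _ = d * t := by rw [h]
  have htd : ∀ a : A, t (d a) = d⁻¹ (t a) := fun a => by
    have := congrArg (fun φ : MulAut A => φ a) e1
    simpa using this
  have htd' : ∀ a : A, t (d⁻¹ a) = d (t a) := fun a => by
    have := congrArg (fun φ : MulAut A => φ a) e2
    simpa using this
  have htt : ∀ a : A, t (t a) = a := fun a => by
    have := congrArg (fun φ : MulAut A => φ a) ht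
    simpa [pow_two] using this
  -- d^2 is fixed point free
  have hfix2 : ∀ a : A, d (d a) = a → a = 1 := by
    intro a ha
    obtain ⟨m, hm⟩ := hn
    have h1 : ∀ j : ℕ, (d ^ (2 * j)) a = a := by
      intro j
      induction j with
      | zero => simp
      | succ j ih =>
        rw [Nat.mul_succ, pow_add, MulAut.mul_apply, pow_two, MulAut.mul_apply, ha, ih]
    have h2 : (d ^ n) a = a := by rw [hd]; rfl
    rw [hm, pow_succ', MulAut.mul_apply, h1 m] at h2
    exact hfix a h2
  have hinf : C ⊓ C.map d.toMonoidHom = ⊥ := by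
    rw [eq_bot_iff]
    rintro a ⟨haC, b, hbC, rfl⟩
    have h1 : t (d b) = d b := haC
    have hb' : t b = b := hbC
    rw [htd, hb'] at h1
    have h2 : d (d b) = b := by
      rw [← h1]; simp
    have hb := hfix2 b h2
    simp [hb]
  refine ⟨hinf, ?_⟩
  -- the hom g a = a⁻¹ * t a
  let g : A →* A :=
    { toFun := fun a => a⁻¹ * t a
      map_one' := by simp
      map_mul' := fun a b => by
        simp only [map_mul, mul_inv]
        exact mul_mul_mul_comm _ _ _ _ }
  let f : A →* A :=
    { toFun := fun a => d a * (d⁻¹ a)⁻¹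
      map_one' := by simp
      map_mul' := fun a b => by
        simp only [map_mul, mul_inv]
        exact mul_mul_mul_comm _ _ _ _ }
  have hf_inj : Function.Injective f := by
    rw [injective_iff_map_eq_one]
    intro a ha
    have h1 : d a * (d⁻¹ a)⁻¹ = 1 := ha
    have h2 : d a = d⁻¹ a := by rwa [mul_inv_eq_one] at h1
    apply hfix2
    rw [h2]; simp
  have hker : g.ker = C := by
    ext a
    rw [MonoidHom.mem_ker, memC]
    show a⁻¹ * t a = 1 ↔ t a = a
    rw [inv_mul_eq_one]
    exact eq_comm
  have hcardA : Nat.card C * Nat.card g.range = Nat.card A := by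
    rw [← hker, ← Subgroup.index_ker]
    exact Subgroup.card_mul_index _
  -- range g maps injectively to C via f
  have hrange_le : Nat.card g.range ≤ Nat.card C := by
    have hmem : ∀ x : g.range, f (x : A) ∈ C := by
      rintro ⟨x, a, rfl⟩
      rw [memC]
      have hx : t (g a) = (g a)⁻¹ := by
        show t (a⁻¹ * t a) = (a⁻¹ * t a)⁻¹
        rw [map_mul, map_inv, htt, mul_inv, inv_inv, mul_comm]
      show t (d (g a) * (d⁻¹ (g a))⁻¹) = d (g a) * (d⁻¹ (g a))⁻¹
      rw [map_mul, map_inv, htd, htd', hx, map_inv, map_inv, inv_inv, mul_comm]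
    let F : g.range → C := fun x => ⟨f (x : A), hmem x⟩
    have hF : Function.Injective F := by
      intro x y hxy
      have : f (x : A) = f (y : A) := congrArg Subtype.val hxy
      exact Subtype.ext (hf_inj this)
    exact Nat.card_le_card_of_injective F hF
  -- product injection
  set D : Subgroup A := C.map d.toMonoidHom with hD
  have hcardD : Nat.card D = Nat.card C := by
    rw [hD]
    exact Subgroup.card_map_of_injective (MulEquiv.injective d)
  have hdisj : Disjoint C D := disjoint_iff.mpr hinf
  have hprod : Nat.card C * Nat.card D ≤ Nat.card (C ⊔ D : Subgroup A) := by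
    have hinj := Subgroup.mul_injective_of_disjoint hdisj
    have hmem : ∀ x : C × D, ((x.1 : A) * (x.2 : A)) ∈ C ⊔ D := fun x =>
      Subgroup.mul_mem_sup x.1.2 x.2.2
    let F : C × D → (C ⊔ D : Subgroup A) := fun x => ⟨(x.1 : A) * (x.2 : A), hmem x⟩
    have hF : Function.Injective F := by
      intro x y hxy
      exact hinj (congrArg Subtype.val hxy)
    have := Nat.card_le_card_of_injective F hF
    rwa [Nat.card_prod] at this
  apply Subgroup.eq_top_of_le_card
  calc Nat.card A = Nat.card C * Nat.card g.range := hcardA.symm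
    _ ≤ Nat.card C * Nat.card C := Nat.mul_le_mul_left _ hrange_le
    _ = Nat.card C * Nat.card D := by rw [hcardD]
    _ ≤ Nat.card (C ⊔ D : Subgroup A) := hprod

end Cfsg.Agent.S1899
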