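import Cfsg.Statements.S1901
import Cfsg.Agent.Lib.Helper32.RelIndexSup
import Cfsg.Agent.Lib.Helper76.PSolvable
import Cfsg.Agent.Lib.Helper24.Coprime
import Cfsg.Agent.Lib.Helper24.RelSZ
import Cfsg.Agent.Lib.Helper84.PCore

set_option autoImplicit false
open Cfsg

namespace Cfsg.Agent.S1901

open Cfsg.Agent.Lib.Helper32 Cfsg.Agent.Lib.Helper33 Cfsg.Agent.Lib.Helper24
  Cfsg.Agent.Lib.Helper76 Cfsg.Agent.Lib.Helper84

universe u

/-- In a `p`-solvable group, if a `p'`-subgroup `Q` normalizes a Sylow `p`-subgroup `P`, then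
`C_P(Q)` is a Sylow `p`-subgroup of `N_G(Q)`. -/
theorem claim (p : ℕ) [Fact p.Prime] : ∀ (n : ℕ) (G : Type u) [Group G] [Finite G],
    Nat.card G = n → IsPSolvable p G →
    ∀ (Q P : Subgroup G), ¬ p ∣ Nat.card Q → IsPGroup p P → ¬ p ∣ P.index →
      Q ≤ Subgroup.normalizer (P : Set G) →
      ¬ p ∣ (P ⊓ Subgroup.centralizer (Q : Set G)).relIndex (Subgroup.normalizer (Q : Set G)) := by
  intro n
  induction n using Nat.strong_induction_on with
  | _ n ih =>
  intro G _ _ hn hG Q P hQ hPp hPi hQP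
  have hp : p.Prime := Fact.out
  rcases subsingleton_or_nontrivial G with hsub | hnt
  · have hss : Subsingleton (Subgroup G) := Subgroup.subsingleton_iff.mpr hsub
    have : (P ⊓ Subgroup.centralizer (Q : Set G)) = Subgroup.normalizer (Q : Set G) :=
      Subsingleton.elim _ _
    rw [this, Subgroup.relIndex_self]
    exact hp.not_dvd_one
  obtain ⟨N, hNn, hN1, hN⟩ := exists_normal_of_isPSolvable hG
  haveI := hNn
  -- the quotient
  have hcardlt : Nat.card (G ⧸ N) < n := by
    have h1 := Subgroup.card_eq_card_quotient_mul_card_subgroup N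
    have h2 : 1 < Nat.card N := (Subgroup.one_lt_card_iff_ne_bot N).mpr hN1
    have h3 : 0 < Nat.card (G ⧸ N) := Nat.card_pos
    rw [← hn, h1]
    nlinarith
  set π : G →* G ⧸ N := QuotientGroup.mk' N with hπ
  have hπs : Function.Surjective π := QuotientGroup.mk'_surjective N
  have hQ' : ¬ p ∣ Nat.card (Q.map π) := fun h => hQ (h.trans (Subgroup.card_map_dvd Q π))
  have hPi' : ¬ p ∣ (P.map π).index := fun h => hPi (h.trans (Subgroup.index_map_dvd P hπs))
  have hQP' : Q.map π ≤ Subgroup.normalizer ((P.map π : Subgroup (G ⧸ N)) : Set (G ⧸ N)) :=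
    (Subgroup.map_mono hQP).trans (Subgroup.le_normalizer_map π)
  have hIH := ih (Nat.card (G ⧸ N)) hcardlt (G ⧸ N) rfl (isPSolvable_quotient N hG)
    (Q.map π) (P.map π) hQ' (hPp.map π) hPi' hQP'
  set D : Subgroup G :=
    (P.map π ⊓ Subgroup.centralizer ((Q.map π : Subgroup (G ⧸ N)) : Set (G ⧸ N))).comap π with hD
  set L : Subgroup G :=
    (Subgroup.normalizer ((Q.map π : Subgroup (G ⧸ N)) : Set (G ⧸ N))).comap π with hL
  have hDL : ¬ p ∣ D.relIndex L := by
    rw [hD, Subgroup.relIndex_comap, hL, Subgroup.map_comap_eq_self_of_surjective hπs]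
    exact hIH
  -- common facts
  have hmemN : ∀ y : G, π y = 1 ↔ y ∈ N := fun y => QuotientGroup.eq_one_iff y
  have hNL : Subgroup.normalizer (Q : Set G) ≤ L := by
    intro x hx
    exact Subgroup.le_normalizer_map π ⟨x, hx, rfl⟩
  have hCD : P ⊓ Subgroup.centralizer (Q : Set G) ≤ D := by
    rintro x ⟨hxP, hxC⟩
    refine ⟨⟨x, hxP, rfl⟩, ?_⟩
    show π x ∈ Subgroup.centralizer ((Q.map π : Subgroup (G ⧸ N)) : Set (G ⧸ N))
    rw [Subgroup.mem_centralizer_iff]
    rintro _ ⟨q, hq, rfl⟩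
    have := (Subgroup.mem_centralizer_iff.mp hxC) q hq
    rw [← map_mul, ← map_mul, this]
  have hND : N ≤ D := by
    intro y hy
    have h1 : π y = 1 := (hmemN y).mpr hy
    exact Subgroup.mem_comap.mpr (by rw [h1]; exact Subgroup.one_mem _)
  have hNL' : N ≤ L := by
    intro y hy
    have h1 : π y = 1 := (hmemN y).mpr hy
    exact Subgroup.mem_comap.mpr (by rw [h1]; exact Subgroup.one_mem _)
  have hDP : ∀ x ∈ D, ∃ u ∈ P, u⁻¹ * x ∈ N := by
    intro x hx
    obtain ⟨u, hu, hux⟩ := hx.1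
    refine ⟨u, hu, ?_⟩
    rw [← hmemN, map_mul, map_inv, hux]
    simp
  have hDC : ∀ x : G, π x ∈ Subgroup.centralizer ((Q.map π : Subgroup (G ⧸ N)) : Set (G ⧸ N)) →
      ∀ q ∈ Q, q * x * q⁻¹ * x⁻¹ ∈ N := by
    intro x hx q hq
    have h1 := (Subgroup.mem_centralizer_iff.mp hx) (π q) ⟨q, hq, rfl⟩
    rw [← hmemN, map_mul, map_mul, map_mul, map_inv, map_inv, h1]
    group
  have hLsup : Subgroup.normalizer (Q : Set G) ⊔ N ≤ L := sup_le hNL hNL'
  have hQN : Q ≤ Subgroup.normalizer (N : Set G) := by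
    rw [Subgroup.normalizer_eq_top_iff.mpr hNn]; exact le_top
  have hCN : P ⊓ Subgroup.centralizer (Q : Set G) ≤ Subgroup.normalizer (Q : Set G) :=
    inf_le_right.trans (Subgroup.centralizer_le_normalizer _)
  rcases hN with hNp | hNp'
  · -- N is a p-group
    have hNP : N ≤ P := normal_pGroup_le_sylow hNn hNp (hPp.toSylow hPi)
    obtain ⟨k, hk⟩ := IsPGroup.iff_card.mp hNp
    have hcop : (Nat.card Q).Coprime (Nat.card N) := by
      rw [hk]
      exact Nat.Coprime.pow_right k ((Nat.Prime.coprime_iff_not_dvd hp).mpr hQ).symm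
    have hsolv : Group.IsSolvable N := by
      haveI := hNp.isNilpotent
      infer_instance
    have hQN0 : Q ⊓ N = ⊥ := (Subgroup.disjoint_of_coprime_natCard hcop).eq_bot
    have hDle : D ≤ (P ⊓ Subgroup.centralizer (Q : Set G)) ⊔ N := by
      intro x hx
      obtain ⟨u, hu, hux⟩ := hDP x hx
      have hxP : x ∈ P := by
        have : x = u * (u⁻¹ * x) := by group
        rw [this]
        exact P.mul_mem hu (hNP hux)
      have hfix := fixed_point_lemma N Q hQN hcop (Or.inl hsolv) x (hDC x hx.2)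
      obtain ⟨m, hm, hmx⟩ := hfix
      have : x = (m⁻¹ * x) * ((m⁻¹ * x)⁻¹ * m * (m⁻¹ * x)) := by group
      rw [this]
      refine Subgroup.mul_mem _ (Subgroup.mem_sup_left ⟨?_, hmx⟩) (Subgroup.mem_sup_right ?_)
      · exact P.mul_mem (P.inv_mem (hNP hm)) hxP
      · have := hNn.conj_mem m hm (m⁻¹ * x)⁻¹
        simpa [mul_assoc] using this
    have hLle : L ≤ Subgroup.normalizer (Q : Set G) ⊔ N := by
      intro x hx
      have hx' : π x ∈ Subgroup.normalizer ((Q.map π : Subgroup (G ⧸ N)) : Set (G ⧸ N)) := hx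
      have h2 : cj x Q ≤ Q ⊔ N := by
        intro y hy
        rw [mem_cj'] at hy
        obtain ⟨q, hq, rfl⟩ := hy
        have h3 : π x * π q * (π x)⁻¹ ∈ Q.map π :=
          (Subgroup.mem_normalizer_iff.mp hx' (π q)).mp ⟨q, hq, rfl⟩
        obtain ⟨q', hq', hq'e⟩ := h3
        have h4 : q'⁻¹ * (x * q * x⁻¹) ∈ N := by
          rw [← hmemN, map_mul, map_inv, hq'e, map_mul, map_mul, map_inv]
          group
        have : x * q * x⁻¹ = q' * (q'⁻¹ * (x * q * x⁻¹)) := by group
        rw [this]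
        exact Subgroup.mul_mem _ (Subgroup.mem_sup_left hq') (Subgroup.mem_sup_right h4)
      obtain ⟨m, hm, hmQ⟩ := rel_sz_conj N Q (cj x Q) hQN hcop (Or.inl hsolv) h2 (card_cj x Q)
      have h5 : cj (m⁻¹ * x) Q = Q := by
        rw [cj_mul, ← hmQ, cj_inv_cj]
      have h6 : m⁻¹ * x ∈ Subgroup.normalizer (Q : Set G) := cj_eq_self_iff.mp h5
      have : x = (m⁻¹ * x) * ((m⁻¹ * x)⁻¹ * m * (m⁻¹ * x)) := by group
      rw [this]
      refine Subgroup.mul_mem _ (Subgroup.mem_sup_left h6) (Subgroup.mem_sup_right ?_)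
      have := hNn.conj_mem m hm (m⁻¹ * x)⁻¹
      simpa [mul_assoc] using this
    have hLeq : L = Subgroup.normalizer (Q : Set G) ⊔ N := le_antisymm hLle hLsup
    have hinf : (P ⊓ Subgroup.centralizer (Q : Set G)) ⊓ N = Subgroup.normalizer (Q : Set G) ⊓ N := by
      apply le_antisymm (inf_le_inf_right N hCN)
      rintro x ⟨hxQ, hxN⟩
      refine ⟨⟨hNP hxN, ?_⟩, hxN⟩
      show x ∈ Subgroup.centralizer (Q : Set G)
      rw [Subgroup.mem_centralizer_iff]
      intro q hq
      have h1 : x * q * x⁻¹ * q⁻¹ ∈ Q :=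
        Q.mul_mem ((Subgroup.mem_normalizer_iff.mp hxQ q).mp hq) (Q.inv_mem hq)
      have h2 : x * q * x⁻¹ * q⁻¹ ∈ N := by
        have : x * q * x⁻¹ * q⁻¹ = x * (q * x⁻¹ * q⁻¹) := by group
        rw [this]
        exact N.mul_mem hxN (hNn.conj_mem _ (N.inv_mem hxN) q)
      have h3 : x * q * x⁻¹ * q⁻¹ ∈ Q ⊓ N := ⟨h1, h2⟩
      rw [hQN0, Subgroup.mem_bot] at h3
      have : q * x = (x * q * x⁻¹ * q⁻¹)⁻¹ * (x * q) := by group
      rw [this, h3]
      simp
    have hKN : Subgroup.normalizer (Q : Set G) ≤ Subgroup.normalizer (N : Set G) := by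
      rw [Subgroup.normalizer_eq_top_iff.mpr hNn]; exact le_top
    have hkey := relIndex_sup_sup_eq hCN hKN hinf
    rw [← hkey, ← hLeq]
    intro hdvd
    exact hDL (hdvd.trans (Subgroup.relIndex_dvd_of_le_left L hDle))
  · -- N is a p'-group
    obtain ⟨k, hk⟩ := IsPGroup.iff_card.mp hPp
    have hPN0 : P ⊓ N = ⊥ := by
      apply Disjoint.eq_bot
      apply Subgroup.disjoint_of_coprime_natCard
      rw [hk]
      exact Nat.Coprime.pow_left k hNp'.symm
    have hDle : D ≤ (P ⊓ Subgroup.centralizer (Q : Set G)) ⊔ N := by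
      intro x hx
      obtain ⟨u, hu, hux⟩ := hDP x hx
      have hπu : π u = π x := by
        have : π (u⁻¹ * x) = 1 := (hmemN _).mpr hux
        rw [map_mul, map_inv] at this
        exact (inv_mul_eq_one.mp this)
      have huC : u ∈ Subgroup.centralizer (Q : Set G) := by
        rw [Subgroup.mem_centralizer_iff]
        intro q hq
        have h1 : q * u * q⁻¹ * u⁻¹ ∈ N := hDC u (by rw [hπu]; exact hx.2) q hq
        have h2 : q * u * q⁻¹ * u⁻¹ ∈ P :=
          P.mul_mem ((Subgroup.mem_normalizer_iff.mp (hQP hq) u).mp hu) (P.inv_mem hu)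
        have h3 : q * u * q⁻¹ * u⁻¹ ∈ P ⊓ N := ⟨h2, h1⟩
        rw [hPN0, Subgroup.mem_bot] at h3
        have : q * u = (q * u * q⁻¹ * u⁻¹) * (u * q) := by group
        rw [this, h3, one_mul]
      have : x = u * (u⁻¹ * x) := by group
      rw [this]
      exact Subgroup.mul_mem _ (Subgroup.mem_sup_left ⟨hu, huC⟩) (Subgroup.mem_sup_right hux)
    have hCNn : P ⊓ Subgroup.centralizer (Q : Set G) ≤ Subgroup.normalizer (N : Set G) := by
      rw [Subgroup.normalizer_eq_top_iff.mpr hNn]; exact le_top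
    have h1 : ¬ p ∣ (P ⊓ Subgroup.centralizer (Q : Set G)).relIndex
        ((P ⊓ Subgroup.centralizer (Q : Set G)) ⊔ N) := by
      rw [relIndex_sup_eq_inf_relIndex hCNn]
      intro hdvd
      have h2 : p ∣ Nat.card N := hdvd.trans (Subgroup.relIndex_dvd_card _ _)
      exact (Nat.Prime.coprime_iff_not_dvd hp).mp hNp'.symm h2
    have h2 : ¬ p ∣ (P ⊓ Subgroup.centralizer (Q : Set G)).relIndex D := by
      intro hdvd
      apply h1
      rw [← Subgroup.relIndex_mul_relIndex _ D _ hCD hDle]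
      exact Dvd.dvd.mul_right hdvd _
    have h3 : ¬ p ∣ (P ⊓ Subgroup.centralizer (Q : Set G)).relIndex L := by
      rw [← Subgroup.relIndex_mul_relIndex _ D L hCD
        (hDle.trans (sup_le (hCN.trans hNL) hNL'))]
      intro hdvd
      rcases (Nat.Prime.dvd_mul hp).mp hdvd with h | h
      · exact h2 h
      · exact hDL h
    intro hdvd
    apply h3
    rw [← Subgroup.relIndex_mul_relIndex _ (Subgroup.normalizer (Q : Set G)) L hCN hNL]
    exact Dvd.dvd.mul_right hdvd _

/-- Let G be a finite p-solvable group and Q a subgroup of order prime to p such that p divides the index of C_G(Q) in N_G(Q). Then Q normalizes no Sylow p-subgroup of G. -/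
theorem result {G : Type*} [Group G] [Finite G] {p : ℕ} [Fact p.Prime]
    (hG : Cfsg.IsPSolvable p G) (Q : Subgroup G) (hQ : ¬ p ∣ Nat.card Q)
    (hA : p ∣ (Subgroup.centralizer (Q : Set G)).relIndex (Subgroup.normalizer (Q : Set G)))
    (P : Sylow p G) : ¬ Q ≤ Subgroup.normalizer ((P : Subgroup G) : Set G) := by
  intro hQP
  have h := claim p (Nat.card G) G rfl hG Q (P : Subgroup G) hQ P.isPGroup' P.not_dvd_index hQP
  apply h
  exact hA.trans (Subgroup.relIndex_dvd_of_le_left _ inf_le_right)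

end Cfsg.Agent.S1901
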