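import Cfsg.Statements.S1902
import Cfsg.Agent.Lib.Helper32.SignalizerCore
import Cfsg.Agent.Lib.Helper54.PConstr6
import Cfsg.Agent.Lib.Helper33.Conj

set_option autoImplicit false
open Cfsg

namespace Cfsg.Agent.S1902

open Subgroup Cfsg.Agent.Lib.Helper33

/-- Let p be an odd prime, G a finite p-solvable group, and B an elementary abelian subgroup of order p² such that B is the subgroup generated by the elements of order p of some Sylow p-subgroup of C_G(b₀), for some nontrivial b₀ ∈ B. Then every B-invariant subgroup of G of order prime to p lies in O_{p'}(G). -/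
theorem result {G : Type*} [Group G] [Finite G] {p : ℕ} [Fact p.Prime] (hp : p ≠ 2)
    (hG : Cfsg.IsPSolvable p G) (B : Subgroup G) (hB : Cfsg.IsElementaryAbelian p B) (hBc : Nat.card B = p ^ 2)
    (b₀ : G) (hb₀ : b₀ ∈ B) (hb₁ : b₀ ≠ 1) (P : Sylow p ↥(Subgroup.centralizer ({b₀} : Set G)))
    (hBP : B = Subgroup.closure {x : G | x ∈ ((P : Subgroup ↥(Subgroup.centralizer ({b₀} : Set G))).map
      (Subgroup.centralizer ({b₀} : Set G)).subtype : Subgroup G) ∧ orderOf x = p})
    (Q : Subgroup G) (hQ : ¬ p ∣ Nat.card Q) (hinv : ∀ b ∈ B, ∀ x ∈ Q, b * x * b⁻¹ ∈ Q) :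
    Q ≤ Cfsg.pPrimeCore p G := by
  have hpp : p.Prime := Fact.out
  -- p-constrained
  have hcon : IsPConstrained p G := by
    obtain ⟨S⟩ : Nonempty (Sylow p (pPrimePCore p G)) := inferInstance
    exact Cfsg.Agent.Lib.Helper54.isPConstrained_of_isPSolvable_centralizer p S
      (Cfsg.Agent.Lib.Helper76.isPSolvable_subgroup _ hG)
  have hBp : IsPGroup p B := IsPGroup.of_card hBc
  have hBP₀ : B ≤ ((P : Subgroup ↥(Subgroup.centralizer ({b₀} : Set G))).map
      (Subgroup.centralizer ({b₀} : Set G)).subtype : Subgroup G) := by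
    intro y hy
    rw [hBP] at hy
    exact (closure_le _).mpr (fun x hx => hx.1) hy
  have hmem : ∀ x ∈ ((P : Subgroup ↥(Subgroup.centralizer ({b₀} : Set G))).map
      (Subgroup.centralizer ({b₀} : Set G)).subtype : Subgroup G), orderOf x = p → x ∈ B := by
    intro x hx ho
    rw [hBP]
    exact subset_closure ⟨hx, ho⟩
  have hΩ : ∀ x ∈ centralizer (B : Set G), orderOf x = p → x ∈ B := by
    intro x hxB hxo
    have hxC : x ∈ Subgroup.centralizer ({b₀} : Set G) := by
      rw [mem_centralizer_singleton_iff]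
      exact ((mem_centralizer_iff.mp hxB) b₀ hb₀).symm
    have hcomm : ∀ a ∈ B, ∀ b ∈ zpowers x, a * b = b * a := by
      intro a ha b hb
      obtain ⟨n, rfl⟩ := hb
      have h1 : Commute a x := (mem_centralizer_iff.mp hxB) a ha
      exact (h1.zpow_right n).eq
    have hDexp : ∀ d ∈ B ⊔ zpowers x, d ^ p = 1 := by
      intro d hd
      obtain ⟨a, ha, b, hb, rfl⟩ :=
        Cfsg.Agent.Lib.Helper22.exists_mul_of_mem_sup_of_commute hcomm hd
      have hc : Commute a b := hcomm a ha b hb
      rw [hc.mul_pow, hB.2 a ha, one_mul]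
      obtain ⟨n, rfl⟩ := hb
      rw [← zpow_natCast, ← zpow_mul, mul_comm, zpow_mul, zpow_natCast, ← hxo, pow_orderOf_eq_one,
        one_zpow]
    have hDC : B ⊔ zpowers x ≤ Subgroup.centralizer ({b₀} : Set G) :=
      sup_le (hBP₀.trans (map_subtype_le _)) (by rw [zpowers_le]; exact hxC)
    have hDp : IsPGroup p ((B ⊔ zpowers x).subgroupOf (Subgroup.centralizer ({b₀} : Set G))) := by
      intro d
      refine ⟨1, ?_⟩
      apply Subtype.ext
      apply Subtype.ext
      have := hDexp d.1 d.2
      simpa using this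
    obtain ⟨S, hS⟩ := hDp.exists_le_sylow
    obtain ⟨c, hc⟩ := MulAction.exists_smul_eq (Subgroup.centralizer ({b₀} : Set G)) P S
    have hconj : ∀ d ∈ B ⊔ zpowers x, (c : G)⁻¹ * d * c ∈ B := by
      intro d hd
      by_cases hd1 : d = 1
      · rw [hd1]; simp
      have hdS : (⟨d, hDC hd⟩ : Subgroup.centralizer ({b₀} : Set G)) ∈
          (S : Subgroup (Subgroup.centralizer ({b₀} : Set G))) := hS (mem_subgroupOf.mpr hd)
      rw [← hc, sylow_coe_smul, mem_cj] at hdS
      apply hmem
      · exact ⟨_, hdS, by simp⟩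
      · apply orderOf_eq_prime
        · have : ((c : G)⁻¹ * d * c) ^ p = (c : G)⁻¹ * d ^ p * c := by
            have := conj_pow (a := (c : G)⁻¹) (b := d) (i := p)
            simpa using this
          rw [this, hDexp d hd]; group
        · intro h1
          apply hd1
          calc d = (c : G) * ((c : G)⁻¹ * d * c) * (c : G)⁻¹ := by group
            _ = 1 := by rw [h1]; group
    have hle : cj (c : G)⁻¹ (B ⊔ zpowers x) ≤ B := by
      intro y hy
      obtain ⟨d, hd, rfl⟩ := mem_cj'.mp hy
      simpa using hconj d hd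
    have hcard : Nat.card (B ⊔ zpowers x : Subgroup G) ≤ Nat.card B := by
      rw [← card_cj (c : G)⁻¹ (B ⊔ zpowers x)]
      exact Subgroup.card_le_of_le hle
    have heq : B = B ⊔ zpowers x := Subgroup.eq_of_le_of_card_ge le_sup_left hcard
    rw [heq]
    exact le_sup_right (α := Subgroup G) (mem_zpowers x)
  have hAQ : B ≤ normalizer (Q : Set G) := by
    intro b hb
    rw [mem_normalizer_iff]
    intro x
    constructor
    · exact hinv b hb x
    · intro h
      have := hinv b⁻¹ (B.inv_mem hb) _ h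
      simpa [mul_assoc] using this
  exact Cfsg.Agent.Lib.Helper32.signalizer_le_pPrimeCore hp hcon B hBp hΩ Q hQ hAQ

end Cfsg.Agent.S1902
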