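import Cfsg.Statements.S1905
import Cfsg.Agent.S0208
import Cfsg.Agent.S0209
import Cfsg.Agent.Lib.Helper4.Dihedral
import Cfsg.Agent.Lib.Helper33.Conj
import Cfsg.Agent.Lib.Helper33.SylowSub

set_option autoImplicit false
open Cfsg

namespace Cfsg.Agent.S1905

open Cfsg.Agent.Lib.Helper4 Cfsg.Agent.Lib.Helper33

theorem orderOf_conj'' {G : Type*} [Group G] (g u : G) : orderOf (g * u * g⁻¹) = orderOf u := by
  have := orderOf_injective (MulAut.conj g).toMonoidHom (MulAut.conj g).injective u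
  simpa using this

/-- Two involutions whose product has odd order are conjugate by an involution. -/
theorem exists_invol_conj {G : Type*} [Group G] {x y : G} (hx : x * x = 1) (hy : y * y = 1)
    (hodd : Odd (orderOf (x * y))) : ∃ w : G, w * w = 1 ∧ w * x * w⁻¹ = y := by
  obtain ⟨k, hk⟩ := hodd
  refine ⟨(x * y) ^ (k : ℤ) * x, ?_, ?_⟩
  · rw [mul_assoc, ← mul_assoc x, x_mul_a_zpow hx hy, mul_assoc, hx, mul_one, ← zpow_add]
    simp
  · have e1 : (x * y) ^ (k : ℤ) * x * x * ((x * y) ^ (k : ℤ) * x)⁻¹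
        = (x * y) ^ (k : ℤ) * x * ((x * y) ^ (k : ℤ))⁻¹ := by group
    rw [e1, conj_x_by_zpow hx hy]
    have h1 : (x * y) ^ ((2 : ℤ) * k + 1) = 1 := by
      have : ((2 : ℤ) * k + 1) = ((orderOf (x * y) : ℕ) : ℤ) := by rw [hk]; push_cast; ring
      rw [this, zpow_natCast, pow_orderOf_eq_one]
    have h2 : (x * y) ^ ((2 : ℤ) * k) = (x * y)⁻¹ := by
      rw [zpow_add_one] at h1
      exact eq_inv_of_mul_eq_one_left h1
    rw [h2, mul_inv_rev, inv_eq_self_of_mul_self hx, inv_eq_self_of_mul_self hy, mul_assoc, hx,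
      mul_one]

section Main

variable {S : Type*} [Group S] [Finite S] (M : Subgroup S)
set_option linter.unusedSectionVars false

/-- There is an involution outside `M`. -/
theorem exists_invol_not_mem (hM : Even (Nat.card M)) (hcore : Odd (Nat.card M.normalCore)) :
    ∃ k : S, orderOf k = 2 ∧ k ∉ M := by
  have : Fact (Nat.Prime 2) := ⟨Nat.prime_two⟩
  by_contra hcon
  push Not at hcon
  obtain ⟨i, hi⟩ := exists_prime_orderOf_dvd_card' (G := M) 2 (even_iff_two_dvd.mp hM)
  have hi' : orderOf (i : S) = 2 := by rw [Subgroup.orderOf_coe, hi]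
  have hmem : (i : S) ∈ M.normalCore := by
    intro b
    exact hcon _ (by rw [orderOf_conj'', hi'])
  have h2 : orderOf (⟨(i : S), hmem⟩ : M.normalCore) = 2 := by
    rw [← Subgroup.orderOf_coe]; exact hi'
  have hdvd : 2 ∣ Nat.card M.normalCore := by
    rw [← h2]; exact orderOf_dvd_natCard _
  exact (Nat.not_even_iff_odd.mpr hcore) (even_iff_two_dvd.mpr hdvd)

/-- product of an involution of `M` and an involution outside `M` has odd order. -/
theorem odd_orderOf_mul
    (hC : ∀ i ∈ M, orderOf i = 2 → Subgroup.centralizer ({i} : Set S) ≤ M)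
    {i k : S} (hiM : i ∈ M) (hi : orderOf i = 2) (hk : orderOf k = 2) (hkM : k ∉ M) :
    Odd (orderOf (i * k)) := by
  by_contra hodd
  rw [Nat.not_odd_iff_even] at hodd
  obtain ⟨hj, hji, hjk⟩ := Cfsg.Agent.S0209.result i k hi hk hodd
  set j := (i * k) ^ (orderOf (i * k) / 2) with hjdef
  have hjM : j ∈ M := by
    apply hC i hiM hi
    rw [Subgroup.mem_centralizer_singleton_iff]
    exact hji
  apply hkM
  apply hC j hjM hj
  rw [Subgroup.mem_centralizer_singleton_iff]
  exact hjk.symm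

theorem isConj_of_not_mem
    (hC : ∀ i ∈ M, orderOf i = 2 → Subgroup.centralizer ({i} : Set S) ≤ M)
    {i k : S} (hiM : i ∈ M) (hi : orderOf i = 2) (hk : orderOf k = 2) (hkM : k ∉ M) :
    IsConj i k := by
  obtain ⟨d, -, hd⟩ := Cfsg.Agent.S0208.result i k hi hk (odd_orderOf_mul M hC hiM hi hk hkM)
  exact isConj_iff.mpr ⟨d, hd⟩

theorem all_isConj (hM : Even (Nat.card M))
    (hC : ∀ i ∈ M, orderOf i = 2 → Subgroup.centralizer ({i} : Set S) ≤ M)
    (hcore : Odd (Nat.card M.normalCore)) :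
    ∀ x y : S, orderOf x = 2 → orderOf y = 2 → IsConj x y := by
  have : Fact (Nat.Prime 2) := ⟨Nat.prime_two⟩
  obtain ⟨k, hk, hkM⟩ := exists_invol_not_mem M hM hcore
  obtain ⟨i, hi⟩ := exists_prime_orderOf_dvd_card' (G := M) 2 (even_iff_two_dvd.mp hM)
  have hi' : orderOf (i : S) = 2 := by rw [Subgroup.orderOf_coe, hi]
  have key : ∀ x : S, orderOf x = 2 → IsConj (i : S) x := by
    intro x hx
    by_cases hxM : x ∈ M
    · exact (isConj_of_not_mem M hC i.2 hi' hk hkM).trans
        (isConj_of_not_mem M hC hxM hx hk hkM).symm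
    · exact isConj_of_not_mem M hC i.2 hi' hx hxM
  intro x y hx hy
  exact (key x hx).symm.trans (key y hy)

/-- the conjugate of `M` also contains the centralizers of its involutions. -/
theorem hC_cj
    (hC : ∀ i ∈ M, orderOf i = 2 → Subgroup.centralizer ({i} : Set S) ≤ M) (g : S) :
    ∀ j ∈ cj g M, orderOf j = 2 → Subgroup.centralizer ({j} : Set S) ≤ cj g M := by
  intro j hj hj2 x hx
  rw [mem_cj] at hj ⊢
  have h2 : orderOf (g⁻¹ * j * g) = 2 := by
    have := orderOf_conj'' g⁻¹ j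
    rw [inv_inv] at this
    rw [this, hj2]
  apply hC _ hj h2
  rw [Subgroup.mem_centralizer_singleton_iff] at hx ⊢
  calc g⁻¹ * x * g * (g⁻¹ * j * g) = g⁻¹ * (x * j) * g := by group
    _ = g⁻¹ * (j * x) * g := by rw [hx]
    _ = g⁻¹ * j * g * (g⁻¹ * x * g) := by group

/-- Control of fusion, first version. -/
theorem mem_of_conj_mem_P
    (hC : ∀ i ∈ M, orderOf i = 2 → Subgroup.centralizer ({i} : Set S) ≤ M)
    {P : Subgroup S} (hPM : P ≤ M) (hP : IsPGroup 2 P) (hPi : ¬ 2 ∣ P.relIndex M)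
    (hN : Subgroup.normalizer (P : Set S) ≤ M)
    {I : S} (hIP : I ∈ P) (hI2 : orderOf I = 2) (hIc : ∀ x ∈ P, x * I = I * x)
    {g : S} (hg : g * I * g⁻¹ ∈ P) : g ∈ M := by
  have : Fact (Nat.Prime 2) := ⟨Nat.prime_two⟩
  set u := g * I * g⁻¹ with hu
  have hu2 : orderOf u = 2 := by rw [hu, orderOf_conj'', hI2]
  have huM : u ∈ M := hPM hg
  have hIM : I ∈ M := hPM hIP
  have hcomm : u * I = I * u := hIc u hg
  -- I ∈ cj g M
  have hIcj : I ∈ cj g M := by
    rw [mem_cj]
    apply hC I hIM hI2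
    rw [Subgroup.mem_centralizer_singleton_iff]
    calc g⁻¹ * I * g * I = g⁻¹ * (I * u) * g := by rw [hu]; group
      _ = g⁻¹ * (u * I) * g := by rw [hcomm]
      _ = I * (g⁻¹ * I * g) := by rw [hu]; group
  have hPC : P ≤ Subgroup.centralizer ({I} : Set S) := by
    intro x hx
    rw [Subgroup.mem_centralizer_singleton_iff]
    exact hIc x hx
  have hPcj : P ≤ cj g M := hPC.trans (hC_cj M hC g I hIcj hI2)
  have hucj : u ∈ cj g M := conj_mem_cj hIM
  have hgPC : cj g P ≤ Subgroup.centralizer ({u} : Set S) := by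
    intro x hx
    rw [mem_cj'] at hx
    obtain ⟨p, hp, rfl⟩ := hx
    rw [Subgroup.mem_centralizer_singleton_iff]
    calc g * p * g⁻¹ * u = g * (p * I) * g⁻¹ := by rw [hu]; group
      _ = g * (I * p) * g⁻¹ := by rw [hIc p hp]
      _ = u * (g * p * g⁻¹) := by rw [hu]; group
  have hgPM : cj g P ≤ M := hgPC.trans (hC u huM hu2)
  have hgPcj : cj g P ≤ cj g M := cj_mono hPM
  -- both Sylow in D
  have hPD : P ≤ M ⊓ cj g M := le_inf hPM hPcj
  have hgPD : cj g P ≤ M ⊓ cj g M := le_inf hgPM hgPcj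
  have hPiD : ¬ 2 ∣ P.relIndex (M ⊓ cj g M) := by
    intro h
    apply hPi
    rw [← Subgroup.relIndex_mul_relIndex P (M ⊓ cj g M) M hPD inf_le_left]
    exact Dvd.dvd.mul_right h _
  obtain ⟨c, hc, hcP⟩ := sylow_sub hPD hP hPiD hgPD (isPGroup_cj hP)
  have heq : cj c (cj g P) = P := by
    apply Subgroup.eq_of_le_of_card_ge hcP
    rw [card_cj, card_cj]
  rw [← cj_mul, cj_eq_self_iff] at heq
  have hcg : c * g ∈ M := hN heq
  have : g = c⁻¹ * (c * g) := by group
  rw [this]
  exact M.mul_mem (M.inv_mem hc.1) hcg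

/-- Control of fusion. -/
theorem mem_of_conj_mem
    (hC : ∀ i ∈ M, orderOf i = 2 → Subgroup.centralizer ({i} : Set S) ≤ M)
    {P : Subgroup S} (hPM : P ≤ M) (hP : IsPGroup 2 P) (hPi : ¬ 2 ∣ P.relIndex M)
    (hN : Subgroup.normalizer (P : Set S) ≤ M)
    {I : S} (hIP : I ∈ P) (hI2 : orderOf I = 2) (hIc : ∀ x ∈ P, x * I = I * x)
    {g : S} (hg : g * I * g⁻¹ ∈ M) : g ∈ M := by
  have : Fact (Nat.Prime 2) := ⟨Nat.prime_two⟩
  set u := g * I * g⁻¹ with hu
  have hu2 : orderOf u = 2 := by rw [hu, orderOf_conj'', hI2]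
  have hZ : IsPGroup 2 (Subgroup.zpowers u) := by
    apply IsPGroup.of_card (n := 1)
    rw [Nat.card_zpowers, hu2, pow_one]
  have hZM : Subgroup.zpowers u ≤ M := by
    rw [Subgroup.zpowers_le]; exact hg
  obtain ⟨c, hc, hcP⟩ := sylow_sub hPM hP hPi hZM hZ
  have h1 : c * u * c⁻¹ ∈ P := hcP (conj_mem_cj (Subgroup.mem_zpowers u))
  have h2 : (c * g) * I * (c * g)⁻¹ ∈ P := by
    have : (c * g) * I * (c * g)⁻¹ = c * u * c⁻¹ := by rw [hu]; group
    rw [this]; exact h1
  have hcg : c * g ∈ M := mem_of_conj_mem_P M hC hPM hP hPi hN hIP hI2 hIc h2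
  have : g = c⁻¹ * (c * g) := by group
  rw [this]
  exact M.mul_mem (M.inv_mem hc) hcg

end Main

/-- Let M be a subgroup of even order of a finite group S such that M contains the centralizer in S of each of its involutions and the normal core of M in S has odd order. Then all involutions of S are conjugate. If moreover N_S(X) ≤ M for a Sylow 2-subgroup X of M and I is an involution in the centre of X, then all involutions of M are conjugate in M and M = M₀ C_M(I) for some subgroup M₀ of M of odd order. -/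
theorem result {S : Type*} [Group S] [Finite S] (M : Subgroup S) (hM : Even (Nat.card M))
    (hC : ∀ i ∈ M, orderOf i = 2 → Subgroup.centralizer ({i} : Set S) ≤ M) (hcore : Odd (Nat.card M.normalCore)) :
    (∀ x y : S, orderOf x = 2 → orderOf y = 2 → IsConj x y) ∧
      ∀ (X : Sylow 2 M) (I : M), I ∈ (Subgroup.center ↥(X : Subgroup ↥M)).map (X : Subgroup ↥M).subtype → orderOf I = 2 →
        Subgroup.normalizer (((X : Subgroup M).map M.subtype : Subgroup S) : Set S) ≤ M →
        (∀ x y : M, orderOf x = 2 → orderOf y = 2 → IsConj x y) ∧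
          ∃ M₀ : Subgroup M, Odd (Nat.card M₀) ∧
            ∀ m : M, ∃ a ∈ M₀, ∃ c ∈ Subgroup.centralizer ({I} : Set M), m = a * c := by
  have : Fact (Nat.Prime 2) := ⟨Nat.prime_two⟩
  have hall := all_isConj M hM hC hcore
  refine ⟨hall, ?_⟩
  intro X I hIZ hI2 hN
  set P : Subgroup S := (X : Subgroup M).map M.subtype with hPdef
  have hPM : P ≤ M := Subgroup.map_subtype_le _
  have hP : IsPGroup 2 P := X.isPGroup'.map _
  have hPi : ¬ 2 ∣ P.relIndex M := by
    have : P.relIndex M = (X : Subgroup M).index := by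
      rw [hPdef, Subgroup.relIndex, Subgroup.subgroupOf,
        Subgroup.comap_map_eq_self_of_injective M.subtype_injective]
    rw [this]
    exact X.not_dvd_index
  obtain ⟨z, hz, hzI⟩ := hIZ
  have hIX : I ∈ (X : Subgroup M) := by rw [← hzI]; exact z.2
  have hIP : (I : S) ∈ P := ⟨I, hIX, rfl⟩
  have hI2' : orderOf (I : S) = 2 := by rw [Subgroup.orderOf_coe, hI2]
  have hIc : ∀ x ∈ P, x * (I : S) = (I : S) * x := by
    rintro x ⟨x', hx', rfl⟩
    have hz' : z ∈ Subgroup.center ↥(X : Subgroup M) := hz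
    rw [Subgroup.mem_center_iff] at hz'
    have h1 := hz' ⟨x', hx'⟩
    have h2 : x' * I = I * x' := by
      have := congrArg (X : Subgroup M).subtype h1
      rw [map_mul, map_mul, hzI] at this
      exact this
    have := congrArg M.subtype h2
    simpa using this
  have hfus : ∀ {g : S}, g * (I : S) * g⁻¹ ∈ M → g ∈ M :=
    fun {g} hg => mem_of_conj_mem M hC hPM hP hPi hN hIP hI2' hIc hg
  -- M-conjugacy
  have hkey : ∀ x : M, orderOf x = 2 → IsConj I x := by
    intro x hx
    have hx' : orderOf (x : S) = 2 := by rw [Subgroup.orderOf_coe, hx]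
    obtain ⟨c, hc⟩ := isConj_iff.mp (hall (I : S) (x : S) hI2' hx')
    have hcM : c ∈ M := hfus (by rw [hc]; exact x.2)
    refine isConj_iff.mpr ⟨⟨c, hcM⟩, ?_⟩
    apply Subtype.ext
    simpa using hc
  refine ⟨fun x y hx hy => (hkey x hx).symm.trans (hkey y hy), ?_⟩
  -- factorization
  obtain ⟨k, hk, hkM⟩ := exists_invol_not_mem M hM hcore
  have hkk : k * k = 1 := mul_self_of_orderOf_two hk
  have hkinv : k⁻¹ = k := inv_eq_self_of_mul_self hkk
  -- conjugates of I by elements m : if k * (m I m⁻¹) * k⁻¹ ∈ M with m ∈ M then contradiction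
  have hno : ∀ m : S, m ∈ M → k * (m * (I : S) * m⁻¹) * k⁻¹ ∉ M := by
    intro m hm hmem
    have h1 : (k * m) * (I : S) * (k * m)⁻¹ ∈ M := by
      have : (k * m) * (I : S) * (k * m)⁻¹ = k * (m * (I : S) * m⁻¹) * k⁻¹ := by group
      rw [this]; exact hmem
    have h2 : k * m ∈ M := hfus h1
    apply hkM
    have : k = (k * m) * m⁻¹ := by group
    rw [this]
    exact M.mul_mem h2 (M.inv_mem hm)
  refine ⟨(M ⊓ cj k M).subgroupOf M, ?_, ?_⟩
  · -- odd order
    rw [← Nat.not_even_iff_odd]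
    intro heven
    obtain ⟨u, hu⟩ := exists_prime_orderOf_dvd_card' (G := (M ⊓ cj k M).subgroupOf M) 2
      (even_iff_two_dvd.mp heven)
    have hu' : orderOf ((u : M)) = 2 := by rw [Subgroup.orderOf_coe, hu]
    have huD : ((u : M) : S) ∈ M ⊓ cj k M := Subgroup.mem_subgroupOf.mp u.2
    obtain ⟨m, hm⟩ := isConj_iff.mp (hkey (u : M) hu')
    have hm' : (m : S) * (I : S) * (m : S)⁻¹ = ((u : M) : S) := by
      have := congrArg M.subtype hm
      simpa using this
    have h3 : ((u : M) : S) ∈ cj k M := huD.2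
    rw [mem_cj, ← hm'] at h3
    apply hno (m : S) m.2
    rw [hkinv]
    rw [hkinv] at h3
    exact h3
  · intro m
    set u' : S := (m : S) * (I : S) * (m : S)⁻¹ with hu'
    set w' : S := k * u' * k⁻¹ with hw'
    have hw'M : w' ∉ M := hno (m : S) m.2
    have hu'2 : orderOf u' = 2 := by rw [hu', orderOf_conj'', hI2']
    have hw'2 : orderOf w' = 2 := by rw [hw', orderOf_conj'', hu'2]
    have hodd := odd_orderOf_mul M hC I.2 hI2' hw'2 hw'M
    obtain ⟨w, hww, hw⟩ := exists_invol_conj (mul_self_of_orderOf_two hI2')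
      (mul_self_of_orderOf_two hw'2) hodd
    have hwinv : w⁻¹ = w := inv_eq_self_of_mul_self hww
    have ha : (k * w) * (I : S) * (k * w)⁻¹ = u' := by
      calc (k * w) * (I : S) * (k * w)⁻¹ = k * (w * (I : S) * w⁻¹) * k⁻¹ := by group
        _ = k * w' * k⁻¹ := by rw [hw]
        _ = k * (k * u' * k⁻¹) * k⁻¹ := by rw [hw']
        _ = (k * k) * u' * (k⁻¹ * k⁻¹) := by group
        _ = u' := by rw [hkinv, hkk]; group
    have haM : k * w ∈ M := hfus (by rw [ha, hu']; exact (m * I * m⁻¹).2)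
    have hacj : k * w ∈ cj k M := by
      rw [mem_cj]
      have : k⁻¹ * (k * w) * k = (k * w)⁻¹ := by
        calc k⁻¹ * (k * w) * k = w * k := by group
          _ = w⁻¹ * k⁻¹ := by rw [hkinv, hwinv]
          _ = (k * w)⁻¹ := by group
      rw [this]
      exact M.inv_mem haM
    refine ⟨⟨k * w, haM⟩, Subgroup.mem_subgroupOf.mpr ⟨haM, hacj⟩,
      (⟨k * w, haM⟩ : M)⁻¹ * m, ?_, by group⟩
    rw [Subgroup.mem_centralizer_singleton_iff]
    apply Subtype.ext
    have ha' : (k * w) * (I : S) = u' * (k * w) := by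
      rw [← ha]; group
    have hm' : (m : S) * (I : S) = u' * (m : S) := by
      rw [hu']; group
    show ((k * w)⁻¹ * (m : S)) * (I : S) = (I : S) * ((k * w)⁻¹ * (m : S))
    calc ((k * w)⁻¹ * (m : S)) * (I : S) = (k * w)⁻¹ * ((m : S) * (I : S)) := by group
      _ = (k * w)⁻¹ * (u' * (m : S)) := by rw [hm']
      _ = (k * w)⁻¹ * (u' * (k * w)) * ((k * w)⁻¹ * (m : S)) := by group
      _ = (k * w)⁻¹ * ((k * w) * (I : S)) * ((k * w)⁻¹ * (m : S)) := by rw [ha']
      _ = (I : S) * ((k * w)⁻¹ * (m : S)) := by group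

end Cfsg.Agent.S1905
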