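-- Statement S1907 (row 1907).
import Cfsg.Statements.S1907
import Cfsg.Agent.Lib.Helper32.PPrimeP

set_option autoImplicit false
open Cfsg

namespace Cfsg.Agent.S1907

open Cfsg.Agent.Lib.Helper32 Cfsg.Agent.Lib.Helper33 Cfsg.Agent.Lib.Helper55

section
variable {G : Type*} [Group G] {p : ℕ}

theorem sylow_le_normalizer (P : Sylow p G) (R : Subgroup G) [hR : R.Normal] :
    (P : Subgroup G) ≤ Subgroup.normalizer (((P : Subgroup G) ⊓ R : Subgroup G) : Set G) := by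
  intro g hg
  rw [Subgroup.mem_normalizer_iff]
  intro h
  constructor
  · rintro ⟨h1, h2⟩
    exact ⟨Subgroup.mul_mem _ (Subgroup.mul_mem _ hg h1) (Subgroup.inv_mem _ hg), hR.conj_mem h h2 g⟩
  · rintro ⟨h1, h2⟩
    have e : h = g⁻¹ * (g * h * g⁻¹) * g⁻¹⁻¹ := by group
    rw [e]
    exact ⟨Subgroup.mul_mem _ (Subgroup.mul_mem _ (Subgroup.inv_mem _ hg) h1) (Subgroup.inv_mem _ (Subgroup.inv_mem _ hg)),
      hR.conj_mem _ h2 g⁻¹⟩

theorem partA [Finite G] [Fact p.Prime] (P : Sylow p G) (y : G)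
    (hyN : y ∈ Subgroup.normalizer (((P : Subgroup G) ⊓ Cfsg.pPrimePCore p G : Subgroup G) : Set G))
    (hy : ∃ k : ℕ, orderOf y = p ^ k) (d : G) (hd : d ∈ Cfsg.pPrimeCore p G)
    (hyd : d⁻¹ * y * d ∈ Subgroup.normalizer (((P : Subgroup G) ⊓ Cfsg.pPrimePCore p G : Subgroup G) : Set G)) :
    ∃ d₁ ∈ Cfsg.pPrimeCore p G ⊓ Subgroup.centralizer ({y} : Set G),
      ∃ d₂ ∈ Cfsg.pPrimeCore p G ⊓ Subgroup.centralizer (((P : Subgroup G) ⊓ Cfsg.pPrimePCore p G : Subgroup G) : Set G),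
        d = d₁ * d₂ := by
  have hRn : (Cfsg.pPrimePCore p G).Normal := pPrimePCore_normal p G
  have hDn : (Cfsg.pPrimeCore p G).Normal := pPrimeCore_normal' p
  set D := Cfsg.pPrimeCore p G with hD
  set R := Cfsg.pPrimePCore p G with hR
  set H : Subgroup G := (P : Subgroup G) ⊓ R with hH
  have hHp : IsPGroup p H := P.isPGroup'.to_le inf_le_left
  have hHidx : ¬ p ∣ H.relIndex R := not_dvd_relIndex_inf_normal P R
  -- the p-group Y₁ = ⟨y⟩ H
  obtain ⟨k, hk⟩ := hy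
  have hzp : IsPGroup p (Subgroup.zpowers y) := by
    apply IsPGroup.of_card (n := k)
    rw [Nat.card_zpowers, hk]
  have hzN : Subgroup.zpowers y ≤ Subgroup.normalizer (H : Set G) := by
    rw [Subgroup.zpowers_le]; exact hyN
  set Y₁ : Subgroup G := Subgroup.zpowers y ⊔ H with hY₁
  have hY₁p : IsPGroup p Y₁ := hzp.to_sup_of_normal_right' hHp hzN
  have hyY₁ : y ∈ Y₁ := (le_sup_left : Subgroup.zpowers y ≤ Y₁) (Subgroup.mem_zpowers y)
  have hHY₁ : H ≤ Y₁ := le_sup_right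
  -- the p-group Y₂ = ⟨y⟩ H^d
  have hzN' : Subgroup.zpowers y ≤ Subgroup.normalizer ((cj d H : Subgroup G) : Set G) := by
    rw [Subgroup.zpowers_le, normalizer_cj, mem_cj]; exact hyd
  set Y₂ : Subgroup G := Subgroup.zpowers y ⊔ cj d H with hY₂
  have hY₂p : IsPGroup p Y₂ := hzp.to_sup_of_normal_right' (isPGroup_cj hHp) hzN'
  have hyY₂ : y ∈ Y₂ := (le_sup_left : Subgroup.zpowers y ≤ Y₂) (Subgroup.mem_zpowers y)
  -- X = D Y₁
  set X : Subgroup G := D ⊔ Y₁ with hX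
  have hY₁X : Y₁ ≤ X := le_sup_right
  have hDX : D ≤ X := le_sup_left
  have hY₂X : Y₂ ≤ X := by
    refine sup_le ((le_sup_left : Subgroup.zpowers y ≤ Y₁).trans hY₁X) ?_
    intro z hz
    rw [mem_cj] at hz
    have h1 : d⁻¹ * z * d ∈ X := hY₁X (hHY₁ hz)
    have h2 : d ∈ X := hDX hd
    have e : z = d * (d⁻¹ * z * d) * d⁻¹ := by group
    rw [e]
    exact X.mul_mem (X.mul_mem h2 h1) (X.inv_mem h2)
  have hidx : ¬ p ∣ Y₁.relIndex X := not_dvd_relIndex_pPrimeCore_sup hY₁p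
  obtain ⟨c, hcX, hc⟩ := sylow_sub hY₁X hY₁p hidx hY₂X hY₂p
  -- write c = y₁ * e
  have hcX' : c ∈ Y₁ ⊔ D := by rw [sup_comm]; exact hcX
  obtain ⟨y₁, hy₁, e, he, rfl⟩ := Subgroup.mem_sup_of_normal_right.mp hcX'
  have hc' : cj e Y₂ ≤ Y₁ := by
    rw [cj_mul, cj_le_iff, cj_eq_self_of_mem (Y₁.inv_mem hy₁)] at hc
    exact hc
  -- e centralizes y
  have hDY₁ : D ⊓ Y₁ = ⊥ := pPrimeCore_inf_eq_bot hY₁p
  have hey : e * y * e⁻¹ ∈ Y₁ := hc' (conj_mem_cj hyY₂)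
  have hcomm : e * y * e⁻¹ * y⁻¹ = 1 := by
    have h1 : e * y * e⁻¹ * y⁻¹ ∈ Y₁ := Y₁.mul_mem hey (Y₁.inv_mem hyY₁)
    have h2 : e * y * e⁻¹ * y⁻¹ ∈ D := by
      have : e * y * e⁻¹ * y⁻¹ = e * (y * e⁻¹ * y⁻¹) := by group
      rw [this]
      exact D.mul_mem he (hDn.conj_mem _ (D.inv_mem he) y)
    have h3 : e * y * e⁻¹ * y⁻¹ ∈ D ⊓ Y₁ := ⟨h2, h1⟩
    rwa [hDY₁, Subgroup.mem_bot] at h3
  have hey' : e * y = y * e := by
    calc e * y = (e * y * e⁻¹ * y⁻¹) * (y * e) := by group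
      _ = y * e := by rw [hcomm, one_mul]
  -- e * d normalizes H
  have hY₁R : Y₁ ⊓ R = H :=
    eq_of_isPGroup_of_not_dvd_relIndex (le_inf hHY₁ inf_le_right) inf_le_right
      (hY₁p.to_le inf_le_left) hHidx
  have hedH : cj (e * d) H ≤ H := by
    refine le_trans ?_ hY₁R.le
    refine le_inf ?_ ?_
    · rw [cj_mul]
      exact (cj_mono (le_sup_right : cj d H ≤ Y₂)).trans hc'
    · intro z hz
      rw [mem_cj] at hz
      have h1 : (e * d)⁻¹ * z * (e * d) ∈ R := hz.2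
      have e1 : z = (e * d) * ((e * d)⁻¹ * z * (e * d)) * (e * d)⁻¹ := by group
      rw [e1]
      exact hRn.conj_mem _ h1 _
  have hedN : e * d ∈ Subgroup.normalizer (H : Set G) := by
    rw [← cj_eq_self_iff]
    exact Subgroup.eq_of_le_of_card_ge hedH (by rw [card_cj])
  have hedD : e * d ∈ D := D.mul_mem he hd
  have hedC : e * d ∈ Subgroup.centralizer (H : Set G) :=
    mem_centralizer_of_mem_pPrimeCore_of_mem_normalizer hHp hedD hedN
  refine ⟨e⁻¹, ⟨D.inv_mem he, ?_⟩, e * d, ⟨hedD, hedC⟩, by group⟩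
  show e⁻¹ ∈ Subgroup.centralizer ({y} : Set G)
  apply Subgroup.inv_mem
  rw [Subgroup.mem_centralizer_singleton_iff]
  exact hey'

end

/-- Let P be a Sylow p-subgroup of a finite group G, H = P ∩ O_{p',p}(G), N = N_G(H) and D = O_{p'}(G). (a) If y is an element of p-power order of N and d ∈ D with d⁻¹ y d ∈ N, then d = d₁ d₂ with d₁ ∈ C_D(y) and d₂ ∈ C_D(H). (b) Two elements of P that are conjugate in G are conjugate in N. -/
theorem result {G : Type*} [Group G] [Finite G] {p : ℕ} [Fact p.Prime] (P : Sylow p G) :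
    (∀ y ∈ Subgroup.normalizer (((P : Subgroup G) ⊓ Cfsg.pPrimePCore p G : Subgroup G) : Set G), (∃ k : ℕ, orderOf y = p ^ k) →
      ∀ d ∈ Cfsg.pPrimeCore p G, d⁻¹ * y * d ∈ Subgroup.normalizer (((P : Subgroup G) ⊓ Cfsg.pPrimePCore p G : Subgroup G) : Set G) →
        ∃ d₁ ∈ Cfsg.pPrimeCore p G ⊓ Subgroup.centralizer ({y} : Set G),
          ∃ d₂ ∈ Cfsg.pPrimeCore p G ⊓ Subgroup.centralizer (((P : Subgroup G) ⊓ Cfsg.pPrimePCore p G : Subgroup G) : Set G), d = d₁ * d₂) ∧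
    ∀ x y : G, x ∈ (P : Subgroup G) → y ∈ (P : Subgroup G) → IsConj x y →
      ∃ n ∈ Subgroup.normalizer (((P : Subgroup G) ⊓ Cfsg.pPrimePCore p G : Subgroup G) : Set G), n * x * n⁻¹ = y := by
  refine ⟨fun y hyN hy d hd hyd => partA P y hyN hy d hd hyd, ?_⟩
  intro x y hx hy hxy
  have hRn : (Cfsg.pPrimePCore p G).Normal := pPrimePCore_normal p G
  have hDn : (Cfsg.pPrimeCore p G).Normal := pPrimeCore_normal' p
  set D := Cfsg.pPrimeCore p G with hD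
  set R := Cfsg.pPrimePCore p G with hR
  set H : Subgroup G := (P : Subgroup G) ⊓ R with hH
  set N : Subgroup G := Subgroup.normalizer (H : Set G) with hN
  have hHp : IsPGroup p H := P.isPGroup'.to_le inf_le_left
  have hHidx : ¬ p ∣ H.relIndex R := not_dvd_relIndex_inf_normal P R
  have hPN : (P : Subgroup G) ≤ N := sylow_le_normalizer P R
  -- Frattini
  have hHR : H ≤ R := inf_le_right
  let HS : Sylow p R := (hHp.comap_subtype (K := R)).toSylow hHidx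
  have hFr : N ⊔ R = ⊤ := by
    have := Sylow.normalizer_sup_eq_top HS
    have e : ((HS : Subgroup R).map R.subtype) = H := Subgroup.map_subgroupOf_eq_of_le hHR
    rw [e] at this
    exact this
  have hDH : D ⊔ H = R := pPrimeCore_sup_sylow_inf P
  have hND : D ⊔ N = ⊤ := by
    have hHN : H ≤ N := Subgroup.le_normalizer
    rw [← hDH] at hFr
    rw [eq_top_iff, ← hFr]
    refine sup_le le_sup_right (sup_le le_sup_left (hHN.trans le_sup_right))
  obtain ⟨c, hc⟩ := isConj_iff.mp hxy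
  have hcm : c ∈ D ⊔ N := by rw [hND]; exact Subgroup.mem_top c
  obtain ⟨d, hd, n, hn, rfl⟩ := Subgroup.mem_sup_of_normal_left.mp hcm
  set x' : G := n * x * n⁻¹ with hx'
  have hx'N : x' ∈ N := N.mul_mem (N.mul_mem hn (hPN hx)) (N.inv_mem hn)
  have hx'ord : ∃ k : ℕ, orderOf x' = p ^ k := by
    obtain ⟨k, hk⟩ := (IsPGroup.iff_orderOf.mp P.isPGroup') ⟨x, hx⟩
    refine ⟨k, ?_⟩
    have h1 : orderOf x' = orderOf x := by
      have : SemiconjBy n x x' := by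
        show n * x = x' * n
        rw [hx']; group
      exact (this.orderOf_eq n).symm
    rw [h1, ← hk, Subgroup.orderOf_mk]
  have hyx' : y = d * x' * d⁻¹ := by rw [← hc, hx']; group
  have hcond : (d⁻¹)⁻¹ * x' * d⁻¹ ∈ N := by
    rw [inv_inv, ← hyx']; exact hPN hy
  obtain ⟨d₁, hd₁, d₂, hd₂, hdd⟩ := partA P x' hx'N hx'ord d⁻¹ (D.inv_mem hd) hcond
  have hd₁c : d₁ * x' = x' * d₁ := by
    have : d₁ ∈ Subgroup.centralizer ({x'} : Set G) := hd₁.2
    rwa [Subgroup.mem_centralizer_singleton_iff] at this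
  have hd₂N : d₂ ∈ N := by
    have h1 : d₂ ∈ Subgroup.centralizer (H : Set G) := hd₂.2
    exact Subgroup.centralizer_le_normalizer _ h1
  refine ⟨d₂⁻¹ * n, N.mul_mem (N.inv_mem hd₂N) hn, ?_⟩
  have hd' : d = d₂⁻¹ * d₁⁻¹ := by
    have := congrArg (·⁻¹) hdd
    simpa using this
  calc d₂⁻¹ * n * x * (d₂⁻¹ * n)⁻¹ = d₂⁻¹ * x' * d₂ := by rw [hx']; group
    _ = d₂⁻¹ * (d₁⁻¹ * (d₁ * x')) * d₂ := by group
    _ = d₂⁻¹ * (d₁⁻¹ * (x' * d₁)) * d₂ := by rw [hd₁c]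
    _ = (d₂⁻¹ * d₁⁻¹) * x' * (d₂⁻¹ * d₁⁻¹)⁻¹ := by group
    _ = y := by rw [← hd', ← hyx']

end Cfsg.Agent.S1907
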