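import Cfsg.Statements.S1910
import Cfsg.Agent.Lib.Helper32.RelSylow

set_option autoImplicit false
open Cfsg

namespace Cfsg.Agent.S1910

open Cfsg.Agent.Lib.Helper32 Cfsg.Agent.Lib.Helper33 Cfsg.Agent.Lib.Helper55
open scoped commutatorElement

set_option linter.unusedSectionVars false

variable {G : Type*} [Group G]

theorem eq_bot_of_odd [Finite G] {A U : Subgroup G} (hA : Odd (Nat.card A)) (hU : U ≤ A)
    (hp : IsPGroup 2 U) : U = ⊥ := by
  have : Fact (Nat.Prime 2) := ⟨Nat.prime_two⟩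
  obtain ⟨n, hn⟩ := IsPGroup.iff_card.mp hp
  have hdvd : Nat.card U ∣ Nat.card A := Subgroup.card_dvd_of_le hU
  rcases Nat.eq_zero_or_pos n with h0 | hpos
  · rw [h0, pow_zero] at hn
    exact Subgroup.eq_bot_of_card_eq _ hn
  · exfalso
    have h2 : 2 ∣ Nat.card A := dvd_trans (by rw [hn]; exact dvd_pow_self 2 hpos.ne') hdvd
    exact (Nat.not_even_iff_odd.mpr hA) (even_iff_two_dvd.mpr h2)

/-- The configuration of the lemma, in a form symmetric enough to be applied twice. -/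
structure Cfg (Q₁ Q₂ T S : Subgroup G) : Prop where
  conj : ∃ g : G, Q₂ = cj g Q₁
  h12 : Odd (Nat.card (Q₁ ⊓ Q₂ : Subgroup G))
  h2 : ∀ x : G, cj x Q₂ ≠ Q₂ → Odd (Nat.card (Q₂ ⊓ cj x Q₂ : Subgroup G))
  T_ne : T ≠ ⊥
  T_le : T ≤ Q₂ ⊓ Subgroup.normalizer (Q₁ : Set G)
  T_p : IsPGroup 2 T
  T_syl : ¬ 2 ∣ T.relIndex (Q₂ ⊓ Subgroup.normalizer (Q₁ : Set G))
  TS : T ≤ S
  S_le : S ≤ Q₁ ⊔ T
  S_p : IsPGroup 2 S
  S_syl : ¬ 2 ∣ S.relIndex (Q₁ ⊔ T)

/-- `R = N_S(T) ∩ Q₁`. -/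
abbrev RR (Q₁ T S : Subgroup G) : Subgroup G := S ⊓ Subgroup.normalizer (T : Set G) ⊓ Q₁

namespace Cfg

variable [Finite G] {Q₁ Q₂ T S : Subgroup G} (h : Cfg Q₁ Q₂ T S)
include h

theorem T_le_Q₂ : T ≤ Q₂ := h.T_le.trans inf_le_left

theorem T_le_NQ₁ : T ≤ Subgroup.normalizer (Q₁ : Set G) := h.T_le.trans inf_le_right

theorem T_inf_Q : T ⊓ Q₁ = ⊥ :=
  eq_bot_of_odd h.h12 (le_inf inf_le_right (inf_le_left.trans h.T_le_Q₂)) (h.T_p.to_le inf_le_left)

theorem T_inf_R : T ⊓ RR Q₁ T S = ⊥ :=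
  eq_bot_iff.mpr ((inf_le_inf_left T inf_le_right).trans h.T_inf_Q.le)

theorem comm_TR : ⁅T, RR Q₁ T S⁆ = ⊥ := by
  rw [eq_bot_iff, ← h.T_inf_Q, Subgroup.commutator_le]
  intro t ht r hr
  have hrN : r ∈ Subgroup.normalizer (T : Set G) := hr.1.2
  have hrQ : r ∈ Q₁ := hr.2
  have htN : t ∈ Subgroup.normalizer (Q₁ : Set G) := h.T_le_NQ₁ ht
  refine ⟨?_, ?_⟩
  · have h1 : r * t⁻¹ * r⁻¹ ∈ T := (Subgroup.mem_normalizer_iff.mp hrN t⁻¹).mp (T.inv_mem ht)
    have : ⁅t, r⁆ = t * (r * t⁻¹ * r⁻¹) := by rw [commutatorElement_def]; group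
    rw [this]
    exact T.mul_mem ht h1
  · have h1 : t * r * t⁻¹ ∈ Q₁ := (Subgroup.mem_normalizer_iff.mp htN r).mp hrQ
    have : ⁅t, r⁆ = (t * r * t⁻¹) * r⁻¹ := by rw [commutatorElement_def]
    rw [this]
    exact Q₁.mul_mem h1 (Q₁.inv_mem hrQ)

theorem decomp {n : G} (hn : n ∈ S ⊓ Subgroup.normalizer (T : Set G)) :
    ∃ q ∈ RR Q₁ T S, ∃ t ∈ T, n = q * t := by
  have h1 : n ∈ ((Q₁ ⊔ T : Subgroup G) : Set G) := h.S_le hn.1
  rw [Subgroup.coe_mul_of_right_le_normalizer_left Q₁ T h.T_le_NQ₁] at h1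
  obtain ⟨q, hq, t, ht, rfl⟩ := h1
  have hq' : q = (q * t) * t⁻¹ := by group
  refine ⟨q, ⟨⟨?_, ?_⟩, hq⟩, t, ht, rfl⟩
  · rw [hq']
    exact S.mul_mem hn.1 (S.inv_mem (h.TS ht))
  · rw [hq']
    exact Subgroup.mul_mem _ hn.2 (Subgroup.inv_mem _ (Subgroup.le_normalizer ht))

theorem sup_eq : T ⊔ RR Q₁ T S = S ⊓ Subgroup.normalizer (T : Set G) := by
  apply le_antisymm
  · exact sup_le (le_inf h.TS Subgroup.le_normalizer) inf_le_left
  · intro n hn
    obtain ⟨q, hq, t, ht, rfl⟩ := h.decomp hn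
    exact Subgroup.mul_mem _ (Subgroup.mem_sup_right hq) (Subgroup.mem_sup_left ht)

theorem normalizer_T_le : Subgroup.normalizer (T : Set G) ≤ Subgroup.normalizer (Q₂ : Set G) := by
  intro r hr
  by_contra hne
  have hne' : cj r Q₂ ≠ Q₂ := fun e => hne (cj_eq_self_iff.mp e)
  have hrT : cj r T = T := cj_eq_self_iff.mpr hr
  have hle : T ≤ Q₂ ⊓ cj r Q₂ := by
    refine le_inf h.T_le_Q₂ ?_
    calc T = cj r T := hrT.symm
      _ ≤ cj r Q₂ := cj_mono h.T_le_Q₂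
  exact h.T_ne (eq_bot_of_odd (h.h2 r hne') hle h.T_p)

theorem R_le : RR Q₁ T S ≤ Q₁ ⊓ Subgroup.normalizer (Q₂ : Set G) :=
  le_inf inf_le_right ((inf_le_left.trans inf_le_right).trans h.normalizer_T_le)

theorem R_p : IsPGroup 2 (RR Q₁ T S) := h.S_p.to_le (inf_le_left.trans inf_le_left)

theorem S_le_NQ₁ : S ≤ Subgroup.normalizer (Q₁ : Set G) :=
  h.S_le.trans (sup_le Subgroup.le_normalizer h.T_le_NQ₁)

/-- The case `N_S(T) = S`. -/
theorem exists_hom_of_le (hSN : S ≤ Subgroup.normalizer (T : Set G)) :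
    ∃ j : ↥T →* ↥(RR Q₁ T S), Function.Injective j := by
  have : Fact (Nat.Prime 2) := ⟨Nat.prime_two⟩
  obtain ⟨g, hg⟩ := h.conj
  have hR : RR Q₁ T S = S ⊓ Q₁ := by
    unfold RR
    rw [inf_eq_left.mpr hSN]
  have hsyl : ¬ 2 ∣ (S ⊓ Q₁).relIndex Q₁ :=
    not_dvd_relIndex_inf_of_relSylow h.S_le h.S_syl le_sup_left
      (sup_le Subgroup.le_normalizer h.T_le_NQ₁)
  have hsyl' : ¬ 2 ∣ (cj g (RR Q₁ T S)).relIndex Q₂ := by
    rw [hg, relIndex_cj, hR]
    exact hsyl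
  have hle : cj g (RR Q₁ T S) ≤ Q₂ := by
    rw [hg]
    exact cj_mono inf_le_right
  obtain ⟨c, -, hc⟩ := sylow_sub hle (isPGroup_cj h.R_p) hsyl' h.T_le_Q₂ h.T_p
  refine ⟨(cjEquiv g (RR Q₁ T S)).symm.toMonoidHom.comp
    ((Subgroup.inclusion hc).comp (cjEquiv c T).toMonoidHom), ?_⟩
  exact (cjEquiv g (RR Q₁ T S)).symm.injective.comp
    ((Subgroup.inclusion_injective hc).comp (cjEquiv c T).injective)

theorem exists_x (hSN : ¬ S ≤ Subgroup.normalizer (T : Set G)) :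
    ∃ x ∈ S, x ∈ Subgroup.normalizer ((S ⊓ Subgroup.normalizer (T : Set G) : Subgroup G) : Set G) ∧
      x ∉ Subgroup.normalizer (T : Set G) := by
  have : Fact (Nat.Prime 2) := ⟨Nat.prime_two⟩
  have hlt : S ⊓ Subgroup.normalizer (T : Set G) < S :=
    lt_of_le_of_ne inf_le_left (fun e => hSN (inf_eq_left.mp e))
  have hgrow := normalizer_growth h.S_p hlt
  obtain ⟨x, hx, hxn⟩ := SetLike.exists_of_lt hgrow
  exact ⟨x, hx.1, hx.2, fun hxT => hxn ⟨hx.1, hxT⟩⟩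

theorem cjT_le {x : G}
    (hxN : x ∈ Subgroup.normalizer ((S ⊓ Subgroup.normalizer (T : Set G) : Subgroup G) : Set G)) :
    cj x T ≤ S ⊓ Subgroup.normalizer (T : Set G) := by
  calc cj x T ≤ cj x (S ⊓ Subgroup.normalizer (T : Set G)) :=
        cj_mono (le_inf h.TS Subgroup.le_normalizer)
    _ = S ⊓ Subgroup.normalizer (T : Set G) := cj_eq_self_iff.mpr hxN

theorem cjT_inf_T {x : G} (hxS : x ∈ S)
    (hxN : x ∈ Subgroup.normalizer ((S ⊓ Subgroup.normalizer (T : Set G) : Subgroup G) : Set G))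
    (hxT : x ∉ Subgroup.normalizer (T : Set G)) : cj x T ⊓ T = ⊥ := by
  by_contra hU
  have hUp : IsPGroup 2 (cj x T ⊓ T : Subgroup G) := h.T_p.to_le inf_le_right
  -- x normalizes Q₂
  have hxQ₂ : cj x Q₂ = Q₂ := by
    by_contra hne
    apply hU
    apply eq_bot_of_odd (h.h2 x hne) _ hUp
    exact le_inf (inf_le_right.trans h.T_le_Q₂) (inf_le_left.trans (cj_mono h.T_le_Q₂))
  have hxQ₁ : cj x Q₁ = Q₁ := cj_eq_self_iff.mpr (h.S_le_NQ₁ hxS)
  have hxH : cj x T ≤ Q₂ ⊓ Subgroup.normalizer (Q₁ : Set G) := by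
    calc cj x T ≤ cj x (Q₂ ⊓ Subgroup.normalizer (Q₁ : Set G)) := cj_mono h.T_le
      _ = Q₂ ⊓ Subgroup.normalizer (Q₁ : Set G) := by
        rw [cj_inf, ← normalizer_cj, hxQ₂, hxQ₁]
  -- R ⊓ H = ⊥
  have hRH : RR Q₁ T S ⊓ (Q₂ ⊓ Subgroup.normalizer (Q₁ : Set G)) = ⊥ := by
    apply eq_bot_of_odd h.h12 _ (h.R_p.to_le inf_le_left)
    exact le_inf (inf_le_left.trans inf_le_right) (inf_le_right.trans inf_le_left)
  have hNH : (S ⊓ Subgroup.normalizer (T : Set G)) ⊓ (Q₂ ⊓ Subgroup.normalizer (Q₁ : Set G)) ≤ T := by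
    intro n hn
    obtain ⟨q, hq, t, ht, rfl⟩ := h.decomp hn.1
    have hqH : q ∈ Q₂ ⊓ Subgroup.normalizer (Q₁ : Set G) := by
      have : q = (q * t) * t⁻¹ := by group
      rw [this]
      exact Subgroup.mul_mem _ hn.2 (Subgroup.inv_mem _ (h.T_le ht))
    have hq1 : q ∈ (⊥ : Subgroup G) := by
      rw [← hRH]
      exact ⟨hq, hqH⟩
    rw [Subgroup.mem_bot] at hq1
    rw [hq1, one_mul]
    exact ht
  have hle : cj x T ≤ T := (le_inf (h.cjT_le hxN) hxH).trans hNH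
  have heq : cj x T = T := Subgroup.eq_of_le_of_card_ge hle (by rw [card_cj])
  exact hxT (cj_eq_self_iff.mp heq)

/-- The case `N_S(T) < S`. -/
theorem exists_hom_of_not_le (hSN : ¬ S ≤ Subgroup.normalizer (T : Set G)) :
    ∃ j : ↥T →* ↥(RR Q₁ T S), Function.Injective j := by
  obtain ⟨x, hxS, hxN, hxT⟩ := h.exists_x hSN
  have hT'le := h.cjT_le hxN
  have hT'T := h.cjT_inf_T hxS hxN hxT
  have hRle : RR Q₁ T S ≤ Subgroup.normalizer (T : Set G) := inf_le_left.trans inf_le_right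
  have hT'le' : cj x T ≤ Subgroup.normalizer (T : Set G) := hT'le.trans inf_le_right
  let φ : ↥(Subgroup.normalizer (T : Set G)) →*
      ↥(Subgroup.normalizer (T : Set G)) ⧸ T.subgroupOf (Subgroup.normalizer (T : Set G)) :=
    QuotientGroup.mk' _
  let φR := φ.comp (Subgroup.inclusion hRle)
  let φT := φ.comp (Subgroup.inclusion hT'le')
  have hφR : Function.Injective φR := by
    rw [injective_iff_map_eq_one]
    intro r hr
    have h1 : (Subgroup.inclusion hRle r) ∈ T.subgroupOf (Subgroup.normalizer (T : Set G)) :=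
      (QuotientGroup.eq_one_iff _).mp hr
    rw [Subgroup.mem_subgroupOf] at h1
    have h2 : (r : G) ∈ T ⊓ RR Q₁ T S := ⟨h1, r.2⟩
    rw [h.T_inf_R, Subgroup.mem_bot] at h2
    exact Subtype.ext h2
  have hφT : Function.Injective φT := by
    rw [injective_iff_map_eq_one]
    intro r hr
    have h1 : (Subgroup.inclusion hT'le' r) ∈ T.subgroupOf (Subgroup.normalizer (T : Set G)) :=
      (QuotientGroup.eq_one_iff _).mp hr
    rw [Subgroup.mem_subgroupOf] at h1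
    have h2 : (r : G) ∈ cj x T ⊓ T := ⟨r.2, h1⟩
    rw [hT'T, Subgroup.mem_bot] at h2
    exact Subtype.ext h2
  have hrange : φT.range ≤ φR.range := by
    rintro _ ⟨y, rfl⟩
    obtain ⟨q, hq, t, ht, hy⟩ := h.decomp (hT'le y.2)
    refine ⟨⟨q, hq⟩, ?_⟩
    show φ (Subgroup.inclusion hRle ⟨q, hq⟩) = φ (Subgroup.inclusion hT'le' y)
    apply (QuotientGroup.eq).mpr
    rw [Subgroup.mem_subgroupOf]
    have : ((Subgroup.inclusion hRle ⟨q, hq⟩)⁻¹ * (Subgroup.inclusion hT'le' y) :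
        ↥(Subgroup.normalizer (T : Set G))).1 = t := by
      show q⁻¹ * (y : G) = t
      rw [hy]; group
    rw [this]
    exact ht
  refine ⟨(MonoidHom.ofInjective hφR).symm.toMonoidHom.comp
    ((Subgroup.inclusion hrange).comp
      ((MonoidHom.ofInjective hφT).toMonoidHom.comp (cjEquiv x T).toMonoidHom)), ?_⟩
  exact (MonoidHom.ofInjective hφR).symm.injective.comp
    ((Subgroup.inclusion_injective hrange).comp
      ((MonoidHom.ofInjective hφT).injective.comp (cjEquiv x T).injective))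

theorem exists_hom : ∃ j : ↥T →* ↥(RR Q₁ T S), Function.Injective j := by
  by_cases hSN : S ≤ Subgroup.normalizer (T : Set G)
  · exact h.exists_hom_of_le hSN
  · exact h.exists_hom_of_not_le hSN

theorem card_T_le : Nat.card T ≤ Nat.card (RR Q₁ T S) := by
  obtain ⟨j, hj⟩ := h.exists_hom
  exact Nat.card_le_card_of_injective j hj

end Cfg

/-- Let Q be a tightly embedded subgroup of a finite group G, g an element outside N_G(Q), T a nontrivial Sylow 2-subgroup of Q^g ∩ N_G(Q), and S a Sylow 2-subgroup of QT containing T. Then T ∩ Q = 1, and N_S(T) is the direct product of T and N_S(T) ∩ Q, with N_S(T) ∩ Q isomorphic to T. -/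
theorem result {G : Type*} [Group G] [Finite G] (Q : Subgroup G) (hQ : Cfsg.IsTightlyEmbedded Q)
    (g : G) (hg : g ∉ Subgroup.normalizer (Q : Set G))
    (T : Subgroup G) (hT1 : T ≠ ⊥) (hT : T ≤ Q.map (MulAut.conj g).toMonoidHom ⊓ Subgroup.normalizer (Q : Set G))
    (hTsyl : IsPGroup 2 T ∧ ¬ 2 ∣ T.relIndex (Q.map (MulAut.conj g).toMonoidHom ⊓ Subgroup.normalizer (Q : Set G)))
    (S : Subgroup G) (hTS : T ≤ S) (hS : S ≤ Q ⊔ T) (hSsyl : IsPGroup 2 S ∧ ¬ 2 ∣ S.relIndex (Q ⊔ T)) :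
    T ⊓ Q = ⊥ ∧
      T ⊓ (S ⊓ Subgroup.normalizer (T : Set G) ⊓ Q) = ⊥ ∧
      ⁅T, S ⊓ Subgroup.normalizer (T : Set G) ⊓ Q⁆ = ⊥ ∧
      T ⊔ (S ⊓ Subgroup.normalizer (T : Set G) ⊓ Q) = S ⊓ Subgroup.normalizer (T : Set G) ∧
      Nonempty (↥(S ⊓ Subgroup.normalizer (T : Set G) ⊓ Q) ≃* T) := by
  have : Fact (Nat.Prime 2) := ⟨Nat.prime_two⟩
  have hodd : ∀ x : G, cj x Q ≠ Q → Odd (Nat.card (Q ⊓ cj x Q : Subgroup G)) := by
    intro x hx
    exact hQ.2 x (fun hxN => hx (cj_eq_self_iff.mpr hxN))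
  have hgQ : cj g Q ≠ Q := fun e => hg (cj_eq_self_iff.mp e)
  have hcfg : Cfg Q (cj g Q) T S :=
    { conj := ⟨g, rfl⟩
      h12 := hodd g hgQ
      h2 := by
        intro x hx
        have e1 : cj x (cj g Q) = cj g (cj (g⁻¹ * x * g) Q) := by
          rw [← cj_mul, ← cj_mul]
          congr 1
          group
        have hne : cj (g⁻¹ * x * g) Q ≠ Q := by
          intro e
          apply hx
          rw [e1, e]
        rw [e1, ← cj_inf, card_cj]
        exact hodd _ hne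
      T_ne := hT1
      T_le := hT
      T_p := hTsyl.1
      T_syl := hTsyl.2
      TS := hTS
      S_le := hS
      S_p := hSsyl.1
      S_syl := hSsyl.2 }
  refine ⟨hcfg.T_inf_Q, hcfg.T_inf_R, hcfg.comm_TR, hcfg.sup_eq, ?_⟩
  obtain ⟨j, hj⟩ := hcfg.exists_hom
  have hcard1 : Nat.card T ≤ Nat.card (RR Q T S) := Nat.card_le_card_of_injective j hj
  -- the swapped configuration
  obtain ⟨T', hRT', hT'K, hT'p, hT'syl⟩ := exists_relSylow_ge hcfg.R_le hcfg.R_p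
  obtain ⟨S', hT'S', hS'K, hS'p, hS'syl⟩ :=
    exists_relSylow_ge (le_sup_right : T' ≤ cj g Q ⊔ T') hT'p
  have hT'ne : T' ≠ ⊥ := by
    intro e
    apply hT1
    apply Subgroup.eq_bot_of_card_le
    have h1 : Nat.card (RR Q T S) ≤ Nat.card T' := Subgroup.card_le_of_le hRT'
    rw [e, Subgroup.card_bot] at h1
    omega
  have hcfg' : Cfg (cj g Q) Q T' S' :=
    { conj := ⟨g⁻¹, (cj_inv_cj g Q).symm⟩
      h12 := by rw [inf_comm]; exact hodd g hgQ
      h2 := hodd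
      T_ne := hT'ne
      T_le := hT'K
      T_p := hT'p
      T_syl := hT'syl
      TS := hT'S'
      S_le := hS'K
      S_p := hS'p
      S_syl := hS'syl }
  have hcard2 : Nat.card T' ≤ Nat.card (RR (cj g Q) T' S') := hcfg'.card_T_le
  have hcard3 : Nat.card (RR (cj g Q) T' S') ≤ Nat.card T :=
    card_le_of_relSylow hT hTsyl.1 hTsyl.2 hcfg'.R_le hcfg'.R_p
  have hcard4 : Nat.card (RR Q T S) ≤ Nat.card T' := Subgroup.card_le_of_le hRT'
  have hcard : Nat.card T = Nat.card (RR Q T S) := by omega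
  have hbij : Function.Bijective j :=
    (Nat.bijective_iff_injective_and_card j).mpr ⟨hj, hcard⟩
  exact ⟨(MulEquiv.ofBijective j hbij).symm⟩

end Cfsg.Agent.S1910
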