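import Cfsg.Statements.S1922

set_option autoImplicit false
open Cfsg
open scoped Pointwise

namespace Cfsg.Agent.S1922

section Dihedral
variable {G : Type*} [Group G]

lemma inv_of_sq {a : G} (ha : a * a = 1) : a⁻¹ = a := inv_eq_of_mul_eq_one_right ha

/-- if the involution `y` inverts `x` then it inverts the powers of `x` -/
lemma inv_pow_of_inv {y x : G} (hy : y * y = 1) (hx : y * x * y = x⁻¹) (k : ℕ) :
    y * x ^ k * y = (x ^ k)⁻¹ := by
  have hy' := inv_of_sq hy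
  have : y * x ^ k * y⁻¹ = (y * x * y⁻¹) ^ k := (conj_pow (a := y) (b := x) (i := k)).symm
  rw [hy', hx, inv_pow] at this
  exact this

lemma swap_of_inv {y x : G} (hy : y * y = 1) (hx : y * x * y = x⁻¹) (k : ℕ) :
    y * (x ^ k)⁻¹ = x ^ k * y := by
  have h := inv_pow_of_inv hy hx k
  -- y x^k y = (x^k)⁻¹  ⇒ y (x^k)⁻¹ = y y x^k y = x^k y
  rw [← h]
  simp only [← mul_assoc, hy, one_mul]

lemma conj_of_inv {y x : G} (hy : y * y = 1) (hx : y * x * y = x⁻¹) (k : ℕ) :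
    x ^ k * y * (x ^ k)⁻¹ = x ^ (2 * k) * y := by
  rw [mul_assoc, swap_of_inv hy hx k, ← mul_assoc, two_mul, pow_add]

lemma left_inverts {a b : G} (ha : a * a = 1) (hb : b * b = 1) : a * (a * b) * a = (a * b)⁻¹ := by
  rw [mul_inv_rev, inv_of_sq ha, inv_of_sq hb, ← mul_assoc, ha, one_mul]

lemma right_inverts {a b : G} (ha : a * a = 1) (hb : b * b = 1) : b * (a * b) * b = (a * b)⁻¹ := by
  rw [mul_inv_rev, inv_of_sq ha, inv_of_sq hb, mul_assoc, mul_assoc, hb, mul_one]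

/-- odd case -/
lemma odd_case {a b : G} (ha : a * a = 1) (hb : b * b = 1) (r : ℕ)
    (hr : (a * b) ^ (2 * r + 1) = 1) :
    ((a * b) ^ r * a) * ((a * b) ^ r * a) = 1 ∧
    ((a * b) ^ r * a) * a * ((a * b) ^ r * a) = b ∧
    IsConj a ((a * b) ^ r * a) := by
  set x := a * b with hx
  have hinv := left_inverts ha hb
  have h2r : x ^ (2 * r) = x⁻¹ := by
    rw [pow_succ] at hr
    exact eq_inv_of_mul_eq_one_left hr
  have hxa : x⁻¹ * a = b := by
    rw [hx, mul_inv_rev, inv_of_sq ha, inv_of_sq hb, mul_assoc, ha, mul_one]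
  refine ⟨?_, ?_, ?_⟩
  · have := inv_pow_of_inv ha hinv r
    calc x ^ r * a * (x ^ r * a) = x ^ r * (a * x ^ r * a) := by simp only [mul_assoc]
      _ = 1 := by rw [this, mul_inv_cancel]
  · calc x ^ r * a * a * (x ^ r * a) = x ^ r * (a * a) * (x ^ r * a) := by simp only [mul_assoc]
      _ = x ^ (2 * r) * a := by rw [ha, mul_one, ← mul_assoc, two_mul, pow_add]
      _ = b := by rw [h2r, hxa]
  · rw [isConj_iff]
    refine ⟨x ^ (r * (r + 1)), ?_⟩
    rw [conj_of_inv ha hinv]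
    congr 1
    have : 2 * (r * (r + 1)) = (2 * r + 1) * r + r := by ring
    rw [this, pow_add, pow_mul, hr, one_pow, one_mul]

/-- even case -/
lemma even_case {a b : G} (ha : a * a = 1) (hb : b * b = 1) (l : ℕ)
    (hl : (a * b) ^ (2 * l) = 1) :
    a * (a * b) ^ l = (a * b) ^ l * a ∧ b * (a * b) ^ l = (a * b) ^ l * b ∧
    ((a * b) ^ l * a) * ((a * b) ^ l * a) = 1 ∧
    (IsConj a ((a * b) ^ l * a) ∨ IsConj b ((a * b) ^ l * a)) := by
  set x := a * b with hx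
  have hinva := left_inverts ha hb
  have hinvb := right_inverts ha hb
  have hcc : x ^ l * x ^ l = 1 := by rw [← pow_add, ← two_mul, hl]
  have hcinv : (x ^ l)⁻¹ = x ^ l := inv_of_sq hcc
  have hac : a * x ^ l = x ^ l * a := by
    have := swap_of_inv ha hinva l
    rwa [hcinv] at this
  have hbc : b * x ^ l = x ^ l * b := by
    have := swap_of_inv hb hinvb l
    rwa [hcinv] at this
  have hxa : x⁻¹ * a = b := by
    rw [hx, mul_inv_rev, inv_of_sq ha, inv_of_sq hb, mul_assoc, ha, mul_one]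
  refine ⟨hac, hbc, ?_, ?_⟩
  · calc x ^ l * a * (x ^ l * a) = x ^ l * (a * x ^ l) * a := by simp only [mul_assoc]
      _ = 1 := by rw [hac, ← mul_assoc, hcc, one_mul, ha]
  · rcases Nat.even_or_odd' l with ⟨j, hj | hj⟩
    · left
      rw [isConj_iff]
      refine ⟨x ^ j, ?_⟩
      rw [conj_of_inv ha hinva, ← hj]
    · right
      rw [isConj_iff]
      refine ⟨x ^ (j + 1), ?_⟩
      have hxb : x * b = a := by rw [hx, mul_assoc, hb, mul_one]
      have : 2 * (j + 1) = l + 1 := by omega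
      rw [conj_of_inv hb hinvb, this, pow_succ, mul_assoc, hxb]

end Dihedral


section Main
set_option linter.unusedSectionVars false
variable {G : Type*} [Group G] [Finite G] {z : G} {H : Subgroup G}

lemma mem_map_conj (H : Subgroup G) (y g : G) :
    y ∈ H.map (MulAut.conj g).toMonoidHom ↔ g⁻¹ * y * g ∈ H := by
  constructor
  · rintro ⟨h, hh, rfl⟩
    have : g⁻¹ * ((MulAut.conj g).toMonoidHom h) * g = h := by
      simp [MulAut.conj_apply, mul_assoc]
    rwa [this]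
  · intro h
    refine ⟨g⁻¹ * y * g, h, ?_⟩
    simp [MulAut.conj_apply, mul_assoc]

lemma conj_sq (hzz : z * z = 1) {y : G} (hy : IsConj z y) : y * y = 1 := by
  obtain ⟨c, rfl⟩ := isConj_iff.mp hy
  calc c * z * c⁻¹ * (c * z * c⁻¹) = c * (z * z) * c⁻¹ := by group
    _ = 1 := by rw [hzz]; group

lemma fix_conj (h0 : ∀ g : G, g⁻¹ * z * g ∈ H ↔ g ∈ H) (u g : G) :
    g⁻¹ * (u * z * u⁻¹) * g ∈ H ↔ u⁻¹ * g ∈ H := by
  have := h0 (u⁻¹ * g)
  have e : (u⁻¹ * g)⁻¹ * z * (u⁻¹ * g) = g⁻¹ * (u * z * u⁻¹) * g := by group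
  rwa [e] at this

lemma z_mem (h0 : ∀ g : G, g⁻¹ * z * g ∈ H ↔ g ∈ H) : z ∈ H := by
  have := (h0 1).mpr H.one_mem
  simpa using this

lemma cent_le (h0 : ∀ g : G, g⁻¹ * z * g ∈ H ↔ g ∈ H) (w : G) (hw : w * z = z * w) : w ∈ H := by
  apply (h0 w).mp
  have : w⁻¹ * z * w = z := by rw [mul_assoc, ← hw, ← mul_assoc, inv_mul_cancel, one_mul]
  rw [this]; exact z_mem h0

lemma h1_conj
    (h1 : ∀ t : G, IsConj z t → t ≠ z → t * z = z * t → ∀ g : G, g⁻¹ * (z * t) * g ∈ H ↔ g ∈ H)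
    (u t : G) (ht : IsConj z t) (hne : t ≠ u * z * u⁻¹)
    (hc : t * (u * z * u⁻¹) = (u * z * u⁻¹) * t) (g : G) :
    g⁻¹ * ((u * z * u⁻¹) * t) * g ∈ H ↔ u⁻¹ * g ∈ H := by
  have ht0 : IsConj z (u⁻¹ * t * u) := by
    obtain ⟨c, hc⟩ := isConj_iff.mp ht
    exact isConj_iff.mpr ⟨u⁻¹ * c, by rw [← hc]; group⟩
  have hne0 : u⁻¹ * t * u ≠ z := by
    intro h; apply hne; rw [← h]; group
  have hc0 : (u⁻¹ * t * u) * z = z * (u⁻¹ * t * u) := by
    calc (u⁻¹ * t * u) * z = u⁻¹ * (t * (u * z * u⁻¹)) * u := by group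
      _ = u⁻¹ * ((u * z * u⁻¹) * t) * u := by rw [hc]
      _ = z * (u⁻¹ * t * u) := by group
  have := h1 _ ht0 hne0 hc0 (u⁻¹ * g)
  have e : (u⁻¹ * g)⁻¹ * (z * (u⁻¹ * t * u)) * (u⁻¹ * g) = g⁻¹ * ((u * z * u⁻¹) * t) * g := by
    group
  rwa [e] at this

/-- the even lemma: the central involution of `⟨y₁, y₂⟩` fixes exactly the fixed point of `y₁`
and commutes with `y₂`. -/
lemma even_lemma_aux (hzz : z * z = 1)
    (h1 : ∀ t : G, IsConj z t → t ≠ z → t * z = z * t → ∀ g : G, g⁻¹ * (z * t) * g ∈ H ↔ g ∈ H)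
    (u : G) (y₁ : G) (hy₁def : y₁ = u * z * u⁻¹) (y₂ : G) (hy₂ : IsConj z y₂) (l : ℕ)
    (hord : orderOf (y₁ * y₂) = 2 * l) :
    (∀ g : G, g⁻¹ * (y₁ * y₂) ^ l * g ∈ H ↔ u⁻¹ * g ∈ H) ∧
      y₂ * (y₁ * y₂) ^ l = (y₁ * y₂) ^ l * y₂ := by
  have hy₁ : IsConj z y₁ := isConj_iff.mpr ⟨u, hy₁def.symm⟩
  have h11 : y₁ * y₁ = 1 := conj_sq hzz hy₁
  have h22 : y₂ * y₂ = 1 := conj_sq hzz hy₂
  have hl : (y₁ * y₂) ^ (2 * l) = 1 := by rw [← hord]; exact pow_orderOf_eq_one _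
  obtain ⟨hac, hbc, htt, hconj⟩ := even_case h11 h22 l hl
  have hpos : 0 < orderOf (y₁ * y₂) := orderOf_pos _
  have hl0 : l ≠ 0 := by omega
  have hc1 : (y₁ * y₂) ^ l ≠ 1 := pow_ne_one_of_lt_orderOf hl0 (by omega)
  obtain ⟨c, hcdef⟩ : ∃ c, c = (y₁ * y₂) ^ l := ⟨_, rfl⟩
  rw [← hcdef] at hac hbc htt hconj hc1 ⊢
  have ht' : IsConj z (c * y₁) := by
    rcases hconj with h | h
    · exact hy₁.trans h
    · exact hy₂.trans h
  have hne : c * y₁ ≠ y₁ := by
    intro h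
    apply hc1
    have := congrArg (· * y₁⁻¹) h
    simpa using this
  have hcomm : (c * y₁) * y₁ = y₁ * (c * y₁) := by
    rw [← mul_assoc, hac]
  have hprod : y₁ * (c * y₁) = c := by
    rw [← mul_assoc, hac, mul_assoc, h11, mul_one]
  refine ⟨fun g => ?_, hbc⟩
  rw [hy₁def] at hne hcomm hprod
  have := h1_conj h1 u (c * (u * z * u⁻¹)) (hy₁def ▸ ht') hne hcomm g
  rwa [hprod] at this

lemma even_lemma (hzz : z * z = 1)
    (h1 : ∀ t : G, IsConj z t → t ≠ z → t * z = z * t → ∀ g : G, g⁻¹ * (z * t) * g ∈ H ↔ g ∈ H)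
    (u : G) (y₂ : G) (hy₂ : IsConj z y₂) (l : ℕ)
    (hord : orderOf ((u * z * u⁻¹) * y₂) = 2 * l) :
    (∀ g : G, g⁻¹ * ((u * z * u⁻¹) * y₂) ^ l * g ∈ H ↔ u⁻¹ * g ∈ H) ∧
      y₂ * ((u * z * u⁻¹) * y₂) ^ l = ((u * z * u⁻¹) * y₂) ^ l * y₂ :=
  even_lemma_aux hzz h1 u _ rfl y₂ hy₂ l hord

lemma odd_of_ne_fix (hzz : z * z = 1) (h0 : ∀ g : G, g⁻¹ * z * g ∈ H ↔ g ∈ H)
    (h1 : ∀ t : G, IsConj z t → t ≠ z → t * z = z * t → ∀ g : G, g⁻¹ * (z * t) * g ∈ H ↔ g ∈ H)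
    (u₁ u₂ : G) (hne : u₁⁻¹ * u₂ ∉ H) :
    Odd (orderOf ((u₁ * z * u₁⁻¹) * (u₂ * z * u₂⁻¹))) := by
  by_contra hodd
  rw [Nat.not_odd_iff_even] at hodd
  obtain ⟨l, hl⟩ := hodd
  have hord : orderOf ((u₁ * z * u₁⁻¹) * (u₂ * z * u₂⁻¹)) = 2 * l := by omega
  obtain ⟨hfix, hcomm⟩ := even_lemma hzz h1 u₁ (u₂ * z * u₂⁻¹) (isConj_iff.mpr ⟨u₂, rfl⟩) l hord
  set c := ((u₁ * z * u₁⁻¹) * (u₂ * z * u₂⁻¹)) ^ l
  have hw : (u₂⁻¹ * c * u₂) * z = z * (u₂⁻¹ * c * u₂) := by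
    calc (u₂⁻¹ * c * u₂) * z = u₂⁻¹ * (c * (u₂ * z * u₂⁻¹)) * u₂ := by group
      _ = u₂⁻¹ * ((u₂ * z * u₂⁻¹) * c) * u₂ := by rw [hcomm]
      _ = z * (u₂⁻¹ * c * u₂) := by group
  exact hne ((hfix u₂).mp (cent_le h0 _ hw))

lemma odd_of_two_fix (hzz : z * z = 1)
    (h1 : ∀ t : G, IsConj z t → t ≠ z → t * z = z * t → ∀ g : G, g⁻¹ * (z * t) * g ∈ H ↔ g ∈ H)
    (u₁ y₂ : G) (hy₂ : IsConj z y₂) (g₁ g₂ : G)
    (hg₁ : g₁⁻¹ * ((u₁ * z * u₁⁻¹) * y₂) * g₁ ∈ H) (hg₂ : g₂⁻¹ * ((u₁ * z * u₁⁻¹) * y₂) * g₂ ∈ H)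
    (hne : g₁⁻¹ * g₂ ∉ H) :
    Odd (orderOf ((u₁ * z * u₁⁻¹) * y₂)) := by
  by_contra hodd
  rw [Nat.not_odd_iff_even] at hodd
  obtain ⟨l, hl⟩ := hodd
  have hord : orderOf ((u₁ * z * u₁⁻¹) * y₂) = 2 * l := by omega
  obtain ⟨hfix, -⟩ := even_lemma hzz h1 u₁ y₂ hy₂ l hord
  have key : ∀ g : G, g⁻¹ * ((u₁ * z * u₁⁻¹) * y₂) * g ∈ H →
      g⁻¹ * ((u₁ * z * u₁⁻¹) * y₂) ^ l * g ∈ H := by
    intro g hg
    have e : g⁻¹ * ((u₁ * z * u₁⁻¹) * y₂) ^ l * g = (g⁻¹ * ((u₁ * z * u₁⁻¹) * y₂) * g) ^ l := by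
      have := conj_pow (a := g⁻¹) (b := (u₁ * z * u₁⁻¹) * y₂) (i := l)
      rw [inv_inv] at this
      exact this.symm
    rw [e]; exact H.pow_mem hg l
  have a₁ := (hfix g₁).mp (key g₁ hg₁)
  have a₂ := (hfix g₂).mp (key g₂ hg₂)
  apply hne
  have : g₁⁻¹ * g₂ = (u₁⁻¹ * g₁)⁻¹ * (u₁⁻¹ * g₂) := by group
  rw [this]; exact H.mul_mem (H.inv_mem a₁) a₂


lemma index_odd (hzz : z * z = 1) (h0 : ∀ g : G, g⁻¹ * z * g ∈ H ↔ g ∈ H) : Odd H.index := by
  classical
  have : Fintype (G ⧸ H) := Fintype.ofFinite _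
  let f : Function.End (G ⧸ H) := fun q => z • q
  have hf : f ^ 2 ^ 1 = 1 := by
    rw [pow_one, pow_two]
    funext q
    show z • (z • q) = q
    rw [← mul_smul, hzz, one_smul]
  have hmod := Equiv.Perm.card_fixedPoints_modEq (p := 2) (n := 1) hf
  have hfix : Fintype.card (Function.fixedPoints f) = 1 := by
    rw [Fintype.card_eq_one_iff]
    refine ⟨⟨((1 : G) : G ⧸ H), ?_⟩, ?_⟩
    · show z • ((1 : G) : G ⧸ H) = ((1 : G) : G ⧸ H)
      rw [MulAction.Quotient.smul_mk, QuotientGroup.eq, smul_eq_mul]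
      simp only [mul_one]
      exact H.inv_mem (z_mem h0)
    · rintro ⟨q, hq⟩
      apply Subtype.ext
      show q = ((1 : G) : G ⧸ H)
      induction q using QuotientGroup.induction_on with
      | H g =>
        have hq' : z • (g : G ⧸ H) = (g : G ⧸ H) := hq
        rw [MulAction.Quotient.smul_mk, QuotientGroup.eq, smul_eq_mul] at hq'
        have hg : g ∈ H := by
          apply (h0 g).mp
          have : g⁻¹ * z * g = ((z * g)⁻¹ * g)⁻¹ := by group
          rw [this]; exact H.inv_mem hq'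
        rw [QuotientGroup.eq]
        exact H.mul_mem (H.inv_mem hg) H.one_mem
  rw [hfix] at hmod
  rw [Subgroup.index_eq_card, Nat.card_eq_fintype_card, Nat.odd_iff]
  exact hmod


lemma exists_sylow_le_of_odd_index (K : Subgroup G) (hK : Odd K.index) (y : G) (hyK : y ∈ K)
    (hy : y * y = 1) : ∃ P : Sylow 2 G, y ∈ P ∧ (P : Subgroup G) ≤ K := by
  have : Fact (Nat.Prime 2) := ⟨Nat.prime_two⟩
  let yK : ↥K := ⟨y, hyK⟩
  have hyK2 : yK * yK = 1 := Subtype.ext hy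
  have hp : IsPGroup 2 (Subgroup.zpowers yK) := by
    rintro ⟨g, hg⟩
    obtain ⟨n, rfl⟩ := Subgroup.mem_zpowers_iff.mp hg
    refine ⟨1, ?_⟩
    apply Subtype.ext
    show (yK ^ n) ^ 2 ^ 1 = 1
    rw [pow_one, ← zpow_natCast, ← zpow_mul, mul_comm, zpow_mul, zpow_natCast, pow_two, hyK2,
      one_zpow]
  obtain ⟨Q, hQ⟩ := hp.exists_le_sylow
  have hfac : (Nat.card G).factorization 2 = (Nat.card K).factorization 2 := by
    have h0 : K.index.factorization 2 = 0 :=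
      Nat.factorization_eq_zero_of_not_dvd
        (fun h => (Nat.not_even_iff_odd.mpr hK) (even_iff_two_dvd.mpr h))
    rw [← K.card_mul_index, Nat.factorization_mul Nat.card_pos.ne' (Subgroup.index_ne_zero_of_finite),
      Finsupp.add_apply, h0, add_zero]
  have hcard : Nat.card ((Q : Subgroup K).map K.subtype) = 2 ^ (Nat.card G).factorization 2 := by
    rw [Subgroup.card_map_of_injective K.subtype_injective, hfac]
    exact Q.card_eq_multiplicity
  refine ⟨Sylow.ofCard _ hcard, ?_, ?_⟩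
  · show y ∈ (Q : Subgroup K).map K.subtype
    exact ⟨yK, hQ (Subgroup.mem_zpowers yK), rfl⟩
  · show (Q : Subgroup K).map K.subtype ≤ K
    rintro _ ⟨x, -, rfl⟩
    exact x.2


lemma conj_mem_iff (h0 : ∀ g : G, g⁻¹ * z * g ∈ H ↔ g ∈ H) (v : G) :
    v * z * v⁻¹ ∈ H ↔ v ∈ H := by
  have := fix_conj h0 v 1
  simp only [inv_one, one_mul, mul_one] at this
  rw [this, inv_mem_iff]

lemma card_S_odd (hzz : z * z = 1) 
    (h1 : ∀ t : G, IsConj z t → t ≠ z → t * z = z * t → ∀ g : G, g⁻¹ * (z * t) * g ∈ H ↔ g ∈ H)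
    (u s : G) (hs : s = u * z * u⁻¹) (hsH : s ∉ H) :
    Odd ({y | IsConj z y ∧ s⁻¹ * y ∈ H} : Set G).ncard := by
  classical
  have hsI : IsConj z s := isConj_iff.mpr ⟨u, hs.symm⟩
  have hss : s * s = 1 := conj_sq hzz hsI
  have hsinv : s⁻¹ = s := inv_of_sq hss
  set S : Set G := {y | IsConj z y ∧ s⁻¹ * y ∈ H} with hS
  have hsS : s ∈ S := ⟨hsI, by rw [inv_mul_cancel]; exact H.one_mem⟩
  have hτmem : ∀ y ∈ S, s * y * s⁻¹ ∈ S := by
    rintro y ⟨hyI, hyH⟩
    refine ⟨hyI.trans (isConj_iff.mpr ⟨s, rfl⟩), ?_⟩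
    have hyy := conj_sq hzz hyI
    have : s⁻¹ * (s * y * s⁻¹) = (s⁻¹ * y)⁻¹ := by
      rw [mul_inv_rev, inv_inv, inv_of_sq hyy, hsinv]
      rw [← mul_assoc, ← mul_assoc, hss, one_mul]
    rw [this]; exact H.inv_mem hyH
  have : Fintype ↥S := Fintype.ofFinite _
  let τ : Function.End ↥S := fun y => ⟨s * y.1 * s⁻¹, hτmem y.1 y.2⟩
  have hτ : τ ^ 2 ^ 1 = 1 := by
    rw [pow_one, pow_two]
    funext y
    apply Subtype.ext
    show s * (s * y.1 * s⁻¹) * s⁻¹ = y.1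
    rw [hsinv]
    calc s * (s * y.1 * s) * s = (s * s) * y.1 * (s * s) := by group
      _ = y.1 := by rw [hss, one_mul, mul_one]
  have hmod := Equiv.Perm.card_fixedPoints_modEq (p := 2) (n := 1) hτ
  have hfix : Fintype.card (Function.fixedPoints τ) = 1 := by
    rw [Fintype.card_eq_one_iff]
    refine ⟨⟨⟨s, hsS⟩, ?_⟩, ?_⟩
    · apply Subtype.ext
      show s * s * s⁻¹ = s
      group
    · rintro ⟨⟨y, hyS⟩, hy⟩
      apply Subtype.ext
      apply Subtype.ext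
      show y = s
      have hy' : s * y * s⁻¹ = y := congrArg Subtype.val hy
      by_contra hne
      have hcomm : s * y = y * s := by
        calc s * y = (s * y * s⁻¹) * s := by group
          _ = y * s := by rw [hy']
      have hyy := conj_sq hzz hyS.1
      have hsq : (s * y) * (s * y) = 1 := by
        calc (s * y) * (s * y) = s * (y * s) * y := by group
          _ = s * (s * y) * y := by rw [hcomm]
          _ = (s * s) * (y * y) := by group
          _ = 1 := by rw [hss, hyy, one_mul]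
      have hne1 : s * y ≠ 1 := by
        intro h
        apply hne
        have := eq_inv_of_mul_eq_one_right h
        rw [this, hsinv]
      have hord : orderOf (s * y) = 2 :=
        orderOf_eq_prime (by rw [pow_two]; exact hsq) hne1
      have key := odd_of_two_fix hzz h1 u y hyS.1 1 s
      rw [← hs] at key
      have hodd := key (by simpa [hsinv] using hyS.2)
        (by
          have : s⁻¹ * (s * y) * s = (s⁻¹ * y)⁻¹ := by
            rw [mul_inv_rev, inv_inv, inv_of_sq hyy]; group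
          rw [this]; exact H.inv_mem hyS.2)
        (by simpa using hsH)
      rw [hord] at hodd
      exact absurd hodd (by decide)
  rw [hfix] at hmod
  rw [← Nat.card_coe_set_eq, Nat.card_eq_fintype_card, Nat.odd_iff]
  exact hmod


lemma key_recover (hzz : z * z = 1) (h0 : ∀ g : G, g⁻¹ * z * g ∈ H ↔ g ∈ H)
    (h1 : ∀ t : G, IsConj z t → t ≠ z → t * z = z * t → ∀ g : G, g⁻¹ * (z * t) * g ∈ H ↔ g ∈ H)
    (y : G) (hyI : IsConj z y) (hyH : y ∉ H) :
    y = (z * (y * z * y⁻¹)) ^ (orderOf (z * (y * z * y⁻¹)) / 2) * z := by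
  obtain ⟨v, hv⟩ := isConj_iff.mp hyI
  have hvH : v ∉ H := by
    intro h; apply hyH; rw [← hv]; exact (conj_mem_iff h0 v).mpr h
  have hyy := conj_sq hzz hyI
  have yinv := inv_of_sq hyy
  have hodd : Odd (orderOf (z * y)) := by
    have := odd_of_ne_fix hzz h0 h1 1 v (by simpa using hvH)
    simp only [one_mul, inv_one, mul_one] at this
    rwa [hv] at this
  have e : z * (y * z * y⁻¹) = (z * y) ^ 2 := by
    rw [yinv, pow_two]; group
  rw [e, Nat.Coprime.orderOf_pow hodd.coprime_two_right]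
  obtain ⟨r, hr⟩ := hodd
  have hr2 : orderOf (z * y) / 2 = r := by omega
  rw [hr2, ← pow_mul]
  have h1' : (z * y) ^ (2 * r + 1) = 1 := by rw [← hr]; exact pow_orderOf_eq_one _
  have h2 : (z * y) ^ (2 * r) = (z * y)⁻¹ := by
    rw [pow_succ] at h1'
    exact eq_inv_of_mul_eq_one_left h1'
  rw [h2, mul_inv_rev, yinv, inv_of_sq hzz, mul_assoc, hzz, mul_one]

lemma card_S_eq (hzz : z * z = 1) (h0 : ∀ g : G, g⁻¹ * z * g ∈ H ↔ g ∈ H)
    (h1 : ∀ t : G, IsConj z t → t ≠ z → t * z = z * t → ∀ g : G, g⁻¹ * (z * t) * g ∈ H ↔ g ∈ H)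
    (s : G) (hsI : IsConj z s) (hsH : s ∉ H) :
    ({y | IsConj z y ∧ s⁻¹ * y ∈ H} : Set G).ncard = ({y | IsConj z y ∧ y ∈ H} : Set G).ncard := by
  have hss : s * s = 1 := conj_sq hzz hsI
  have hsinv : s⁻¹ = s := inv_of_sq hss
  have hSnot : ∀ y, s⁻¹ * y ∈ H → y ∉ H := by
    intro y h hy
    apply hsH
    have : s = y * (s⁻¹ * y)⁻¹ := by group
    rw [this]; exact H.mul_mem hy (H.inv_mem h)
  have hf : ∀ y : G, (s⁻¹ * y) * z * (s⁻¹ * y)⁻¹ = s⁻¹ * (y * z * y⁻¹) * s := by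
    intro y; group
  refine Set.ncard_congr (fun y _ => (s⁻¹ * y) * z * (s⁻¹ * y)⁻¹) ?_ ?_ ?_
  · rintro y ⟨-, hyH⟩
    exact ⟨isConj_iff.mpr ⟨s⁻¹ * y, rfl⟩, (conj_mem_iff h0 _).mpr hyH⟩
  · rintro y y' ⟨hyI, hyH⟩ ⟨hyI', hyH'⟩ hEq
    simp only [hf] at hEq
    have hb : y * z * y⁻¹ = y' * z * y'⁻¹ := mul_left_cancel (mul_right_cancel hEq)
    rw [key_recover hzz h0 h1 y hyI (hSnot y hyH), key_recover hzz h0 h1 y' hyI' (hSnot y' hyH'), hb]
  · rintro a ⟨haI, haH⟩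
    obtain ⟨v, hv⟩ := isConj_iff.mp haI
    have hvH : v ∈ H := by
      rw [← hv] at haH; exact (conj_mem_iff h0 v).mp haH
    obtain ⟨b, hb⟩ : ∃ b, b = (s * v) * z * (s * v)⁻¹ := ⟨_, rfl⟩
    have hbI : IsConj z b := isConj_iff.mpr ⟨s * v, hb.symm⟩
    have hbb := conj_sq hzz hbI
    have hsvH : s * v ∉ H := by
      intro h; apply hsH
      have : s = (s * v) * v⁻¹ := by group
      rw [this]; exact H.mul_mem h (H.inv_mem hvH)
    have hodd : Odd (orderOf (z * b)) := by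
      have := odd_of_ne_fix hzz h0 h1 1 (s * v) (by simpa using hsvH)
      simp only [one_mul, inv_one, mul_one] at this
      rwa [← hb] at this
    obtain ⟨r, hr⟩ := hodd
    have hpow : (z * b) ^ (2 * r + 1) = 1 := by rw [← hr]; exact pow_orderOf_eq_one _
    obtain ⟨hyy, hyzy, hyI⟩ := odd_case hzz hbb r hpow
    obtain ⟨y, hy⟩ : ∃ y, y = (z * b) ^ r * z := ⟨_, rfl⟩
    rw [← hy] at hyy hyzy hyI
    have yinv := inv_of_sq hyy
    have hsba : s⁻¹ * b * s = a := by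
      rw [hb, ← hv]; group
    have hyS : s⁻¹ * y ∈ H := by
      have h2 := fix_conj h0 y s
      rw [yinv, hyzy, hsba] at h2
      have h3 := h2.mp haH
      have : s⁻¹ * y = (y * s)⁻¹ := by rw [mul_inv_rev, yinv]
      rw [this]; exact H.inv_mem h3
    refine ⟨y, ⟨hyI, hyS⟩, ?_⟩
    show (s⁻¹ * y) * z * (s⁻¹ * y)⁻¹ = a
    rw [hf, yinv, hyzy, hsba]


lemma relIndex_eq (h0 : ∀ g : G, g⁻¹ * z * g ∈ H ↔ g ∈ H) :
    (Subgroup.centralizer ({z} : Set G)).relIndex H =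
      ({y | IsConj z y ∧ y ∈ H} : Set G).ncard := by
  let act : MulAction ↥H G :=
    MulAction.compHom G ((MulAut.conj : G →* MulAut G).comp H.subtype)
  have hsmul : ∀ (h : ↥H) (g : G), h • g = (h : G) * g * (h : G)⁻¹ := fun h g => rfl
  have h1 := MulAction.index_stabilizer ↥H z
  have hstab : MulAction.stabilizer ↥H z =
      (Subgroup.centralizer ({z} : Set G)).subgroupOf H := by
    ext h
    rw [MulAction.mem_stabilizer_iff, hsmul, Subgroup.mem_subgroupOf,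
      Subgroup.mem_centralizer_iff]
    simp only [Set.mem_singleton_iff, forall_eq]
    constructor
    · intro e
      calc z * (h : G) = ((h : G) * z * (h : G)⁻¹) * (h : G) := by rw [e]
        _ = (h : G) * z := by group
    · intro e
      calc (h : G) * z * (h : G)⁻¹ = (z * (h : G)) * (h : G)⁻¹ := by rw [e]
        _ = z := by group
  have horb : MulAction.orbit ↥H z = {y | IsConj z y ∧ y ∈ H} := by
    ext y
    rw [MulAction.mem_orbit_iff]
    constructor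
    · rintro ⟨h, rfl⟩
      rw [hsmul]
      exact ⟨isConj_iff.mpr ⟨h, rfl⟩, (conj_mem_iff h0 _).mpr h.2⟩
    · rintro ⟨hyI, hyH⟩
      obtain ⟨v, hv⟩ := isConj_iff.mp hyI
      have hvH : v ∈ H := by
        rw [← hv] at hyH; exact (conj_mem_iff h0 v).mp hyH
      exact ⟨⟨v, hvH⟩, by rw [hsmul]; exact hv⟩
  rw [Subgroup.relIndex, ← hstab, h1, horb]

lemma cent_index_odd (hzz : z * z = 1) (hH : H ≠ ⊤) (h0 : ∀ g : G, g⁻¹ * z * g ∈ H ↔ g ∈ H)
    (h1 : ∀ t : G, IsConj z t → t ≠ z → t * z = z * t → ∀ g : G, g⁻¹ * (z * t) * g ∈ H ↔ g ∈ H) :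
    Odd (Subgroup.centralizer ({z} : Set G)).index := by
  obtain ⟨g₀, hg₀⟩ : ∃ g, g ∉ H := by
    by_contra h
    push Not at h
    exact hH (eq_top_iff.mpr fun g _ => h g)
  obtain ⟨s, hs⟩ : ∃ s, s = g₀ * z * g₀⁻¹ := ⟨_, rfl⟩
  have hsI : IsConj z s := isConj_iff.mpr ⟨g₀, hs.symm⟩
  have hsH : s ∉ H := by
    rw [hs]; intro h; exact hg₀ ((conj_mem_iff h0 g₀).mp h)
  have hle : Subgroup.centralizer ({z} : Set G) ≤ H := by
    intro w hw
    rw [Subgroup.mem_centralizer_iff] at hw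
    exact cent_le h0 w (hw z rfl).symm
  rw [← Subgroup.relIndex_mul_index hle, relIndex_eq h0, ← card_S_eq hzz h0 h1 s hsI hsH]
  exact (card_S_odd hzz h1 g₀ s hs hsH).mul (index_odd hzz h0)


end Main

/-- Let z be an involution of a finite group G and H a proper subgroup such that z lies in gHg⁻¹ exactly when g ∈ H. Then the following are equivalent: (1) for every conjugate t ≠ z of z commuting with z, the product zt lies in gHg⁻¹ exactly when g ∈ H; (2) z lies in the centre of some Sylow 2-subgroup of G, and for every conjugate t ≠ z of z commuting with z, the centralizer of zt is contained in H. -/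
theorem result {G : Type*} [Group G] [Finite G] (z : G) (hz : orderOf z = 2) (H : Subgroup G) (hH : H ≠ ⊤)
    (h0 : ∀ g : G, z ∈ H.map (MulAut.conj g).toMonoidHom ↔ g ∈ H) :
    (∀ t : G, IsConj z t → t ≠ z → t * z = z * t → ∀ g : G, z * t ∈ H.map (MulAut.conj g).toMonoidHom ↔ g ∈ H) ↔
      ((∃ P : Sylow 2 G, z ∈ (Subgroup.center ↥(P : Subgroup G)).map (P : Subgroup G).subtype) ∧
        ∀ t : G, IsConj z t → t ≠ z → t * z = z * t → Subgroup.centralizer ({z * t} : Set G) ≤ H) := by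
  have hzz : z * z = 1 := by
    have := pow_orderOf_eq_one z
    rwa [hz, pow_two] at this
  have h0' : ∀ g : G, g⁻¹ * z * g ∈ H ↔ g ∈ H := fun g => by rw [← mem_map_conj]; exact h0 g
  constructor
  · intro h1
    have h1' : ∀ t : G, IsConj z t → t ≠ z → t * z = z * t →
        ∀ g : G, g⁻¹ * (z * t) * g ∈ H ↔ g ∈ H := fun t a b c g => by
      rw [← mem_map_conj]; exact h1 t a b c g
    refine ⟨?_, ?_⟩
    · have hodd := cent_index_odd hzz hH h0' h1'
      obtain ⟨P, hzP, hPle⟩ := exists_sylow_le_of_odd_index _ hodd z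
        (by rw [Subgroup.mem_centralizer_iff]; rintro h rfl; rfl) hzz
      refine ⟨P, ⟨⟨z, hzP⟩, ?_, rfl⟩⟩
      rw [SetLike.mem_coe, Subgroup.mem_center_iff]
      intro g
      apply Subtype.ext
      have := hPle g.2
      rw [Subgroup.mem_centralizer_iff] at this
      exact (this z rfl).symm
    · intro t a b c x hx
      rw [Subgroup.mem_centralizer_iff] at hx
      have hx' := hx (z * t) rfl
      apply (h1' t a b c x).mp
      have hmem : z * t ∈ H := by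
        have := (h1' t a b c 1).mpr H.one_mem
        simpa using this
      have : x⁻¹ * (z * t) * x = z * t := by
        rw [mul_assoc, hx', ← mul_assoc, inv_mul_cancel, one_mul]
      rw [this]; exact hmem
  · rintro ⟨⟨P, hzP⟩, hC⟩ t htI hne hcomm g
    rw [mem_map_conj]
    have hmem : z * t ∈ H := hC t htI hne hcomm (by
      rw [Subgroup.mem_centralizer_iff]; rintro h rfl; rfl)
    constructor
    · intro hy
      obtain ⟨y, hydef⟩ : ∃ y, y = g⁻¹ * (z * t) * g := ⟨_, rfl⟩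
      rw [← hydef] at hy
      have htt := conj_sq hzz htI
      have hyy : y * y = 1 := by
        rw [hydef]
        calc g⁻¹ * (z * t) * g * (g⁻¹ * (z * t) * g) = g⁻¹ * (z * (t * z) * t) * g := by group
          _ = g⁻¹ * (z * (z * t) * t) * g := by rw [hcomm]
          _ = g⁻¹ * ((z * z) * (t * t)) * g := by group
          _ = 1 := by rw [hzz, htt]; group
      obtain ⟨P₂, hyP₂, hP₂H⟩ := exists_sylow_le_of_odd_index H (index_odd hzz h0') y hy hyy
      obtain ⟨x, hx⟩ := MulAction.exists_smul_eq G P P₂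
      have hP₂ : (P₂ : Subgroup G) = MulAut.conj x • (P : Subgroup G) := by
        rw [← hx]; rfl
      -- z central in P
      obtain ⟨⟨z', hz'P⟩, hz'c, hz'⟩ := hzP
      have hz'z : z' = z := hz'
      subst hz'z
      rw [SetLike.mem_coe, Subgroup.mem_center_iff] at hz'c
      have hcP : ∀ p ∈ (P : Subgroup G), p * z' = z' * p := fun p hp =>
        congrArg Subtype.val (hz'c ⟨p, hp⟩)
      -- z₂ = x z x⁻¹ ∈ P₂
      have hz₂P₂ : x * z' * x⁻¹ ∈ (P₂ : Subgroup G) := by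
        rw [hP₂, Subgroup.mem_smul_pointwise_iff_exists]
        exact ⟨z', hz'P, by simp [MulAut.smul_def]⟩
      have hxH : x ∈ H := (conj_mem_iff h0' x).mp (hP₂H hz₂P₂)
      -- y commutes with z₂
      have hyz₂ : y * (x * z' * x⁻¹) = (x * z' * x⁻¹) * y := by
        have hyP₂' : y ∈ (P₂ : Subgroup G) := hyP₂
        rw [hP₂, Subgroup.mem_smul_pointwise_iff_exists] at hyP₂'
        obtain ⟨p, hp, hpy⟩ := hyP₂'
        have hpy' : x * p * x⁻¹ = y := by simpa [MulAut.smul_def] using hpy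
        rw [← hpy']
        calc x * p * x⁻¹ * (x * z' * x⁻¹) = x * (p * z') * x⁻¹ := by group
          _ = x * (z' * p) * x⁻¹ := by rw [hcP p hp]
          _ = x * z' * x⁻¹ * (x * p * x⁻¹) := by group
      -- g z₂ g⁻¹ commutes with z t
      have hcent : g * (x * z' * x⁻¹) * g⁻¹ ∈ Subgroup.centralizer ({z' * t} : Set G) := by
        rw [Subgroup.mem_centralizer_iff]
        rintro h rfl
        have e : z' * t = g * y * g⁻¹ := by rw [hydef]; group
        rw [e]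
        calc g * y * g⁻¹ * (g * (x * z' * x⁻¹) * g⁻¹) = g * (y * (x * z' * x⁻¹)) * g⁻¹ := by group
          _ = g * ((x * z' * x⁻¹) * y) * g⁻¹ := by rw [hyz₂]
          _ = g * (x * z' * x⁻¹) * g⁻¹ * (g * y * g⁻¹) := by group
      have h3 := hC t htI hne hcomm hcent
      have e3 : g * (x * z' * x⁻¹) * g⁻¹ = (g * x) * z' * (g * x)⁻¹ := by group
      rw [e3] at h3
      have hgx := (conj_mem_iff h0' (g * x)).mp h3
      have : g = (g * x) * x⁻¹ := by group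
      rw [this]; exact H.mul_mem hgx (H.inv_mem hxH)
    · intro hg
      exact H.mul_mem (H.mul_mem (H.inv_mem hg) hmem) hg

end Cfsg.Agent.S1922
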