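import Cfsg.Statements.S1924
import Cfsg.Agent.Lib.Helper2.PResidual2
import Cfsg.Agent.Lib.Helper32.RelSylow

set_option autoImplicit false
set_option linter.style.haveILetI false
open Cfsg

namespace Cfsg.Agent.S1924

theorem sign_semiregular {X : Type*} [Fintype X] [DecidableEq X] (f : Equiv.Perm X) (m n : ℕ)
    (hm : 1 ≤ m) (hf : f ^ (2 ^ m) = 1) (hfix : ∀ x, (f ^ (2 ^ (m - 1))) x ≠ x)
    (hcard : Fintype.card X = 2 ^ m * n) (hn : Odd n) : Equiv.Perm.sign f = -1 := by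
  have hall : ∀ c ∈ f.cycleType, c = 2 ^ m := by
    intro c hc
    have hdvd : c ∣ 2 ^ m :=
      (Equiv.Perm.dvd_of_mem_cycleType hc).trans (orderOf_dvd_of_pow_eq_one hf)
    obtain ⟨j, hj, rfl⟩ := (Nat.dvd_prime_pow Nat.prime_two).1 hdvd
    by_contra hne
    have hjm : j ≤ m - 1 := by
      rcases Nat.lt_or_ge j m with h | h
      · omega
      · exfalso; apply hne; have : j = m := le_antisymm hj h; rw [this]
    obtain ⟨σ, τ, hfστ, hdisj, hcyc, hcard'⟩ := Equiv.Perm.mem_cycleType_iff.1 hc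
    obtain ⟨x, hx⟩ := hcyc.nonempty_support
    apply hfix x
    have hτx : τ x = x := by
      rcases hdisj x with h | h
      · exact absurd h (Equiv.Perm.mem_support.1 hx)
      · exact h
    have hk : ∀ k : ℕ, (f ^ k) x = (σ ^ k) x := by
      intro k
      rw [hfστ, hdisj.commute.mul_pow, Equiv.Perm.mul_apply,
        Equiv.Perm.pow_apply_eq_self_of_apply_eq_self hτx k]
    rw [hk]
    have : σ ^ (2 ^ (m - 1)) = 1 := by
      have ho : orderOf σ = 2 ^ j := by rw [hcyc.orderOf, hcard']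
      apply orderOf_dvd_iff_pow_eq_one.1
      rw [ho]; exact pow_dvd_pow 2 hjm
    rw [this]; rfl
  have hrep : f.cycleType = Multiset.replicate (Multiset.card f.cycleType) (2 ^ m) :=
    Multiset.eq_replicate_card.2 hall
  have hfp : Fintype.card (Function.fixedPoints f) = 0 := by
    rw [Fintype.card_eq_zero_iff]
    refine ⟨fun ⟨x, hx⟩ => hfix x ?_⟩
    exact Equiv.Perm.pow_apply_eq_self_of_apply_eq_self hx _
  rw [Equiv.Perm.sign_of_cycleType_eq_replicate (by positivity) hrep, hfp, hcard]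
  have heven : ¬ Odd (2 ^ m) := by
    rw [Nat.not_odd_iff_even]
    exact (Nat.even_pow.2 ⟨even_two, by omega⟩)
  rw [if_neg heven, Nat.sub_zero, Nat.mul_div_cancel_left _ (by positivity)]
  exact hn.neg_one_pow

open Subgroup

variable {G : Type*} [Group G]

theorem hom_units_eq_one {H : Type*} [Group H] (σ : H →* ℤˣ) (g : H)
    (hg : (orderOf g).Coprime 2) : σ g = 1 := by
  have h1 : (σ g) ^ orderOf g = 1 := by rw [← map_pow, pow_orderOf_eq_one, map_one]
  have h2 : (σ g) ^ 2 = 1 := Int.units_sq _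
  have hd1 : orderOf (σ g) ∣ orderOf g := orderOf_dvd_of_pow_eq_one h1
  have hd2 : orderOf (σ g) ∣ 2 := orderOf_dvd_of_pow_eq_one h2
  have : orderOf (σ g) ∣ 1 := by
    have := Nat.dvd_gcd hd1 hd2
    rwa [Nat.Coprime.gcd_eq_one hg] at this
  exact orderOf_eq_one_iff.1 (Nat.dvd_one.1 this)

theorem prod_decomp [Finite G] (T D S : Subgroup G) (hTS : T ≤ S) (hDS : D ≤ S)
    (hDT : D ⊓ T = ⊥) (hc : Nat.card T * Nat.card D = Nat.card S) :
    ∀ s ∈ S, ∃ t ∈ T, ∃ d ∈ D, s = t * d := by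
  classical
  let φ : T × D → S := fun x => ⟨x.1.1 * x.2.1, mul_mem (hTS x.1.2) (hDS x.2.2)⟩
  have hinj : Function.Injective φ := by
    rintro ⟨⟨t, ht⟩, ⟨d, hd⟩⟩ ⟨⟨t', ht'⟩, ⟨d', hd'⟩⟩ h
    have h' : t * d = t' * d' := congrArg Subtype.val h
    have e : t'⁻¹ * t = d' * d⁻¹ := by
      have : t'⁻¹ * (t * d) * d⁻¹ = t'⁻¹ * (t' * d') * d⁻¹ := by rw [h']
      simpa [mul_assoc] using this
    have hmem : t'⁻¹ * t ∈ D ⊓ T :=
      ⟨by rw [e]; exact Subgroup.mul_mem _ hd' (Subgroup.inv_mem _ hd), Subgroup.mul_mem _ (Subgroup.inv_mem _ ht') ht⟩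
    rw [hDT, mem_bot] at hmem
    have htt : t = t' := by
      have := inv_mul_eq_one.1 hmem
      exact this.symm
    subst htt
    have hdd : d = d' := mul_left_cancel h'
    subst hdd
    rfl
  have hbij : Function.Bijective φ := by
    rw [Nat.bijective_iff_injective_and_card]
    exact ⟨hinj, by rw [Nat.card_prod, hc]⟩
  intro s hs
  obtain ⟨⟨⟨t, ht⟩, ⟨d, hd⟩⟩, h⟩ := hbij.2 ⟨s, hs⟩
  exact ⟨t, ht, d, hd, (congrArg Subtype.val h).symm⟩

theorem card_of_decomp [Finite G] (T E A : Subgroup G) (hTA : T ≤ A) (hEA : E ≤ A)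
    (hET : E ⊓ T = ⊥) (hs : ∀ s ∈ A, ∃ t ∈ T, ∃ d ∈ E, s = t * d) :
    Nat.card T * Nat.card E = Nat.card A := by
  classical
  let φ : T × E → A := fun x => ⟨x.1.1 * x.2.1, mul_mem (hTA x.1.2) (hEA x.2.2)⟩
  have hinj : Function.Injective φ := by
    rintro ⟨⟨t, ht⟩, ⟨d, hd⟩⟩ ⟨⟨t', ht'⟩, ⟨d', hd'⟩⟩ h
    have h' : t * d = t' * d' := congrArg Subtype.val h
    have e : t'⁻¹ * t = d' * d⁻¹ := by
      have : t'⁻¹ * (t * d) * d⁻¹ = t'⁻¹ * (t' * d') * d⁻¹ := by rw [h']
      simpa [mul_assoc] using this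
    have hmem : t'⁻¹ * t ∈ E ⊓ T :=
      ⟨by rw [e]; exact Subgroup.mul_mem _ hd' (Subgroup.inv_mem _ hd), Subgroup.mul_mem _ (Subgroup.inv_mem _ ht') ht⟩
    rw [hET, mem_bot] at hmem
    have htt : t = t' := by
      have := inv_mul_eq_one.1 hmem
      exact this.symm
    subst htt
    have hdd : d = d' := mul_left_cancel h'
    subst hdd
    rfl
  have hsurj : Function.Surjective φ := by
    rintro ⟨s, hsA⟩
    obtain ⟨t, ht, d, hd, rfl⟩ := hs s hsA
    exact ⟨(⟨t, ht⟩, ⟨d, hd⟩), rfl⟩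
  rw [← Nat.card_prod]
  exact Nat.card_congr (Equiv.ofBijective φ ⟨hinj, hsurj⟩)

theorem exists_gen_of_le_cyclic (C E : Subgroup G) (hC : IsCyclic C) (hEC : E ≤ C) :
    ∃ a ∈ E, zpowers a = E := by
  have := hC
  have : IsCyclic (E.subgroupOf C) := inferInstance
  have : IsCyclic E :=
    isCyclic_of_surjective (subgroupOfEquivOfLe hEC).toMonoidHom (subgroupOfEquivOfLe hEC).surjective
  obtain ⟨g, hg⟩ := IsCyclic.exists_generator (α := E)
  refine ⟨g.1, g.2, le_antisymm ?_ ?_⟩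
  · rw [zpowers_le]; exact g.2
  · intro x hx
    obtain ⟨k, hk⟩ := mem_zpowers_iff.1 (hg ⟨x, hx⟩)
    rw [mem_zpowers_iff]
    exact ⟨k, by have := congrArg Subtype.val hk; simpa using this⟩

theorem r_mem_zpowers (n : ℕ) [NeZero n] (i : ZMod n) :
    DihedralGroup.r i ∈ zpowers (DihedralGroup.r (1 : ZMod n)) := by
  rw [mem_zpowers_iff]
  refine ⟨(i.val : ℤ), ?_⟩
  rw [zpow_natCast, DihedralGroup.r_one_pow, ZMod.natCast_zmod_val]

theorem dihedral_out (n : ℕ) (hn : 2 ≤ n) (C' : Subgroup (DihedralGroup n))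
    (a : DihedralGroup n) (hgen : zpowers a = C')
    (hidx : C'.index = 2) : ∀ y, y ∉ C' → orderOf y = 2 := by
  haveI : NeZero n := ⟨by omega⟩
  have hcard : Nat.card C' = n := by
    have := C'.card_mul_index
    rw [hidx, DihedralGroup.nat_card] at this
    omega
  intro y hy
  cases a with
  | r i =>
    cases y with
    | r j =>
      exfalso; apply hy
      have hle : C' ≤ zpowers (DihedralGroup.r (1 : ZMod n)) := by
        rw [← hgen, zpowers_le]
        exact r_mem_zpowers n i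
      have : C' = zpowers (DihedralGroup.r (1 : ZMod n)) :=
        Subgroup.eq_of_le_of_card_ge hle
          (by rw [hcard, Nat.card_zpowers, DihedralGroup.orderOf_r_one])
      rw [this]
      exact r_mem_zpowers n j
    | sr j => exact DihedralGroup.orderOf_sr j
  | sr i =>
    have h2 : n = 2 := by
      rw [← hcard, ← hgen, Nat.card_zpowers, DihedralGroup.orderOf_sr]
    subst h2
    have hy1 : y ≠ 1 := fun h => hy (h ▸ one_mem _)
    have hsq : ∀ y : DihedralGroup 2, y * y = 1 := by decide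
    haveI : Fact (Nat.Prime 2) := ⟨Nat.prime_two⟩
    exact orderOf_eq_prime (by rw [pow_two]; exact hsq y) hy1


theorem out_order_two (D C : Subgroup G) (hCD : C ≤ D) (hC : IsCyclic C)
    (hCi : C.relIndex D = 2) (hDih : ∃ n : ℕ, 2 ≤ n ∧ Nonempty (↥D ≃* DihedralGroup n)) :
    ∀ x ∈ D, x ∉ C → orderOf x = 2 := by
  obtain ⟨n, hn, ⟨e⟩⟩ := hDih
  obtain ⟨a, ha, hgen⟩ := exists_gen_of_le_cyclic C C hC le_rfl
  have hgen1 : zpowers (⟨a, hCD ha⟩ : D) = C.subgroupOf D := by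
    ext x
    rw [mem_subgroupOf, ← hgen, mem_zpowers_iff, mem_zpowers_iff]
    constructor
    · rintro ⟨k, hk⟩
      exact ⟨k, by have := congrArg Subtype.val hk; simpa using this⟩
    · rintro ⟨k, hk⟩
      exact ⟨k, Subtype.ext (by simpa using hk)⟩
  have hgen2 : zpowers (e ⟨a, hCD ha⟩) = (C.subgroupOf D).map e.toMonoidHom := by
    rw [← hgen1, MonoidHom.map_zpowers]
    rfl
  have hidx : ((C.subgroupOf D).map e.toMonoidHom).index = 2 := by
    rw [← hCi]
    exact Subgroup.index_map_equiv _ e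
  intro x hx hxC
  have hy : e ⟨x, hx⟩ ∉ (C.subgroupOf D).map e.toMonoidHom := by
    rintro ⟨c, hc, hce⟩
    have : c = ⟨x, hx⟩ := e.injective hce
    subst this
    exact hxC (mem_subgroupOf.1 hc)
  have := dihedral_out n hn _ _ hgen2 hidx _ hy
  rw [MulEquiv.orderOf_eq, Subgroup.orderOf_mk] at this
  exact this


theorem card_mul_le [Finite G] (T E A : Subgroup G) (hTA : T ≤ A) (hEA : E ≤ A)
    (hET : E ⊓ T = ⊥) : Nat.card T * Nat.card E ≤ Nat.card A := by
  classical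
  let φ : T × E → A := fun x => ⟨x.1.1 * x.2.1, mul_mem (hTA x.1.2) (hEA x.2.2)⟩
  have hinj : Function.Injective φ := by
    rintro ⟨⟨t, ht⟩, ⟨d, hd⟩⟩ ⟨⟨t', ht'⟩, ⟨d', hd'⟩⟩ h
    have h' : t * d = t' * d' := congrArg Subtype.val h
    have e : t'⁻¹ * t = d' * d⁻¹ := by
      have : t'⁻¹ * (t * d) * d⁻¹ = t'⁻¹ * (t' * d') * d⁻¹ := by rw [h']
      simpa [mul_assoc] using this
    have hmem : t'⁻¹ * t ∈ E ⊓ T :=
      ⟨by rw [e]; exact Subgroup.mul_mem _ hd' (Subgroup.inv_mem _ hd),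
        Subgroup.mul_mem _ (Subgroup.inv_mem _ ht') ht⟩
    rw [hET, mem_bot] at hmem
    have htt : t = t' := by
      have := inv_mul_eq_one.1 hmem
      exact this.symm
    subst htt
    have hdd : d = d' := mul_left_cancel h'
    subst hdd
    rfl
  rw [← Nat.card_prod]
  exact Nat.card_le_card_of_injective φ hinj


theorem le_pResidual_of_pResidual_eq_top (L : Subgroup G) (hL : Cfsg.pResidual 2 ↥L = ⊤) :
    L ≤ Cfsg.pResidual 2 G := by
  intro l hl
  have hmem : (⟨l, hl⟩ : L) ∈ Cfsg.pResidual 2 ↥L := by rw [hL]; trivial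
  have key : ∀ y ∈ Cfsg.pResidual 2 ↥L, (y : G) ∈ Cfsg.pResidual 2 G := by
    intro y hy
    unfold Cfsg.pResidual at hy
    induction hy using Subgroup.closure_induction with
    | mem y hy =>
      apply Cfsg.Agent.Lib.Helper2.mem_pResidual_of_coprime
      rw [Subgroup.orderOf_coe]; exact hy
    | one => exact one_mem _
    | mul a b _ _ ha hb => exact mul_mem ha hb
    | inv a _ ha => exact inv_mem ha
  exact key _ hmem

theorem hom_trivial_G (σ : G →* ℤˣ) : ∀ k ∈ Cfsg.pResidual 2 G, σ k = 1 := by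
  intro k hk
  unfold Cfsg.pResidual at hk
  induction hk using Subgroup.closure_induction with
  | mem y hy => exact hom_units_eq_one σ y hy
  | one => exact map_one σ
  | mul a b _ _ ha hb => rw [map_mul, ha, hb, mul_one]
  | inv a _ ha => rw [map_inv, ha, inv_one]

theorem hom_trivial_closure (s : Set G) (hs : ∀ g ∈ s, (orderOf g).Coprime 2)
    (σ : ↥(Subgroup.closure s) →* ℤˣ) : ∀ k : ↥(Subgroup.closure s), σ k = 1 := by
  rintro ⟨k, hk⟩
  have key : ∀ (x : G) (hx : x ∈ Subgroup.closure s), σ ⟨x, hx⟩ = 1 := by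
    intro x hx
    induction hx using Subgroup.closure_induction with
    | mem y hy =>
      apply hom_units_eq_one σ
      rw [Subgroup.orderOf_mk]; exact hs y hy
    | one => exact map_one σ
    | mul a b ha' hb' ha hb =>
      have : (⟨a * b, mul_mem ha' hb'⟩ : ↥(Subgroup.closure s)) = ⟨a, ha'⟩ * ⟨b, hb'⟩ := rfl
      rw [this, map_mul, ha, hb, mul_one]
    | inv a ha' ha =>
      have : (⟨a⁻¹, inv_mem ha'⟩ : ↥(Subgroup.closure s)) = (⟨a, ha'⟩)⁻¹ := rfl
      rw [this, map_inv, ha, inv_one]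
  exact key k hk

theorem hom_trivial_K (σ : ↥(Cfsg.pResidual 2 G) →* ℤˣ) :
    ∀ k : ↥(Cfsg.pResidual 2 G), σ k = 1 :=
  hom_trivial_closure {g : G | Nat.Coprime (orderOf g) 2} (fun _ hg => hg) σ

theorem exists_hom_neg_one {G' : Type*} [Group G'] [Finite G'] (T : Subgroup G') (a : G')
    (m n : ℕ) (hm : 1 ≤ m) (ha : a ^ (2 ^ m) = 1)
    (hfree : ∀ g : G', g * a ^ (2 ^ (m - 1)) * g⁻¹ ∉ T) (hidx : T.index = 2 ^ m * n)
    (hn : Odd n) : ∃ σ : G' →* ℤˣ, σ a = -1 := by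
  classical
  haveI : Fintype (G' ⧸ T) := Fintype.ofFinite _
  refine ⟨Equiv.Perm.sign.comp (MulAction.toPermHom G' (G' ⧸ T)), ?_⟩
  rw [MonoidHom.comp_apply]
  apply sign_semiregular _ m n hm
  · rw [← map_pow, ha, map_one]
  · intro q
    induction q using QuotientGroup.induction_on with
    | H g =>
      rw [← map_pow]
      intro h
      have h' : ((a ^ (2 ^ (m - 1)) * g : G') : G' ⧸ T) = (g : G' ⧸ T) := h
      rw [QuotientGroup.eq] at h'
      apply hfree g⁻¹
      have := T.inv_mem h'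
      rw [inv_inv]
      convert this using 1
      group
  · rw [← Nat.card_eq_fintype_card, ← Subgroup.index_eq_card, hidx]
  · exact hn

/-- A consequence of Thompson's transfer lemma. -/
theorem result {G : Type*} [Group G] [Finite G] (L T S D C : Subgroup G) (hL : Cfsg.pResidual 2 ↥L = ⊤)
    (hTL : T ≤ L) (hT2 : IsPGroup 2 T) (hTsyl : ¬ 2 ∣ T.relIndex L)
    (hS2 : IsPGroup 2 S) (hSsyl : ¬ 2 ∣ S.index) (hTS : T ≤ S)
    (hDS : D ≤ S) (hDih : ∃ n : ℕ, 2 ≤ n ∧ Nonempty (↥D ≃* DihedralGroup n)) (hDT : D ⊓ T = ⊥) (hTD : T ⊔ D = S) (hTDc : Nat.card T * Nat.card D = Nat.card S)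
    (hCD : C ≤ D) (hC : IsCyclic ↥C) (hCi : C.relIndex D = 2)
    (h1 : ∀ x ∈ D, x ∉ C → orderOf x = 2 → ∀ g : G, g * x * g⁻¹ ∈ T ⊔ C → False)
    (h2 : ∀ c ∈ C, orderOf c = 2 → ∀ g : G, g * c * g⁻¹ ∈ T → False) :
    ∃ K : Subgroup G, K.Normal ∧ K ⊔ D = ⊤ ∧
      ∀ T' : Subgroup G, T' ≤ L → IsPGroup 2 T' → ¬ 2 ∣ T'.relIndex L → T' ≤ K ∧ ¬ 2 ∣ T'.relIndex K := by
  classical
  haveI : Fact (Nat.Prime 2) := ⟨Nat.prime_two⟩
  haveI hKn : (Cfsg.pResidual 2 G).Normal := Cfsg.Agent.Lib.Helper2.pResidual_normal 2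
  have hLK : L ≤ Cfsg.pResidual 2 G := le_pResidual_of_pResidual_eq_top L hL
  have hTK : T ≤ Cfsg.pResidual 2 G := hTL.trans hLK
  have hKS : Cfsg.pResidual 2 G ⊔ S = ⊤ := by
    have := Cfsg.Agent.Lib.Helper2.sylow_sup_pResidual (hS2.toSylow hSsyl)
    rw [IsPGroup.toSylow_coe] at this
    rw [sup_comm]; exact this
  have hoddA : ¬ 2 ∣ (S ⊓ Cfsg.pResidual 2 G).relIndex (Cfsg.pResidual 2 G) :=
    Cfsg.Agent.Lib.Helper32.not_dvd_relIndex_inf_of_relSylow (K := ⊤) le_top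
      (by rwa [Subgroup.relIndex_top_right]) le_top
      (by rw [Subgroup.normalizer_eq_top])
  have hdec := prod_decomp T D S hTS hDS hDT hTDc
  have hout := out_order_two D C hCD hC hCi hDih
  have hCcard : Nat.card C * 2 = Nat.card D := by
    rw [← hCi]; exact Cfsg.Agent.Lib.Helper55.card_mul_relIndex_eq hCD
  -- Step (b)
  have hKD_C : Cfsg.pResidual 2 G ⊓ D ≤ C := by
    rintro x ⟨hxK, hxD⟩
    by_contra hxC
    have hxD' : x ∈ D := hxD
    have hx2 := hout x hxD' hxC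
    have hMS : T ⊔ C ≤ S := sup_le hTS (hCD.trans hDS)
    have hxM : x ∉ T ⊔ C := fun h => h1 x hxD' hxC hx2 1 (by simpa using h)
    have hCT : C ⊓ T = ⊥ := by
      rw [eq_bot_iff, ← hDT]; exact inf_le_inf_right T hCD
    have hle : Nat.card T * Nat.card C ≤ Nat.card (T ⊔ C : Subgroup G) :=
      card_mul_le T C (T ⊔ C) le_sup_left le_sup_right hCT
    have hk := Cfsg.Agent.Lib.Helper55.card_mul_relIndex_eq hMS
    have hk1 : (T ⊔ C).relIndex S ≠ 1 := by
      intro h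
      rw [Subgroup.relIndex_eq_one] at h
      exact hxM (h (hDS hxD'))
    have hk0 : (T ⊔ C).relIndex S ≠ 0 := Subgroup.index_ne_zero_of_finite
    have hMcard : Nat.card (T ⊔ C : Subgroup G) * 2 = Nat.card S := by
      have h2le : 2 ≤ (T ⊔ C).relIndex S := by omega
      have hA : Nat.card (T ⊔ C : Subgroup G) * 2 ≤ Nat.card S := by
        rw [← hk]; exact Nat.mul_le_mul_left _ h2le
      have hB : Nat.card S ≤ Nat.card (T ⊔ C : Subgroup G) * 2 := by
        rw [← hTDc, ← hCcard, ← mul_assoc]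
        exact Nat.mul_le_mul_right 2 hle
      omega
    have hidx : (T ⊔ C).index = 2 ^ 1 * S.index := by
      have e1 := (T ⊔ C).card_mul_index
      have e2 := S.card_mul_index
      have hpos : 0 < Nat.card (T ⊔ C : Subgroup G) := Nat.card_pos
      have : Nat.card (T ⊔ C : Subgroup G) * (T ⊔ C).index =
          Nat.card (T ⊔ C : Subgroup G) * (2 ^ 1 * S.index) := by
        rw [e1, ← e2, ← hMcard]; ring
      exact Nat.eq_of_mul_eq_mul_left hpos this
    obtain ⟨σ, hσ⟩ := exists_hom_neg_one (T ⊔ C) x 1 S.index le_rfl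
      (by rw [pow_one, ← hx2]; exact pow_orderOf_eq_one x)
      (fun g hg => h1 x hxD' hxC hx2 g (by simpa using hg)) hidx
      (Nat.odd_iff.2 (by omega))
    have := hom_trivial_G σ x hxK
    rw [hσ] at this
    exact absurd this (by decide)
  -- the Sylow subgroup `S ⊓ K` of `K`
  have hAgen : Nat.card T * Nat.card (Cfsg.pResidual 2 G ⊓ D : Subgroup G) =
      Nat.card (S ⊓ Cfsg.pResidual 2 G : Subgroup G) := by
    apply card_of_decomp T (Cfsg.pResidual 2 G ⊓ D) (S ⊓ Cfsg.pResidual 2 G) (le_inf hTS hTK)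
      (le_inf (inf_le_right.trans hDS) inf_le_left)
    · rw [eq_bot_iff, ← hDT]; exact inf_le_inf_right T inf_le_right
    · rintro s ⟨hsS, hsK⟩
      obtain ⟨t, ht, d, hd, rfl⟩ := hdec s hsS
      refine ⟨t, ht, d, ⟨?_, hd⟩, rfl⟩
      have hd' : d = t⁻¹ * (t * d) := by group
      have hsK' : t * d ∈ Cfsg.pResidual 2 G := hsK
      show d ∈ Cfsg.pResidual 2 G
      rw [hd']; exact mul_mem (inv_mem (hTK ht)) hsK'
  have hTA : T ≤ S ⊓ Cfsg.pResidual 2 G := le_inf hTS hTK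
  -- Step (c)
  have hKD : Cfsg.pResidual 2 G ⊓ D = ⊥ := by
    by_contra hne
    obtain ⟨a, haE, hgen⟩ := exists_gen_of_le_cyclic C (Cfsg.pResidual 2 G ⊓ D) hC hKD_C
    have haK : a ∈ Cfsg.pResidual 2 G := haE.1
    have haD : a ∈ D := haE.2
    have haC : a ∈ C := hKD_C haE
    have haS : a ∈ S := hDS haD
    obtain ⟨m, hm⟩ : ∃ m, orderOf a = 2 ^ m := by
      obtain ⟨m, hm⟩ := (IsPGroup.iff_orderOf.1 hS2) ⟨a, haS⟩
      exact ⟨m, by rw [← hm, Subgroup.orderOf_mk]⟩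
    have ha1 : a ≠ 1 := by
      rintro rfl
      apply hne; rw [← hgen, Subgroup.zpowers_one_eq_bot]
    have hm1 : 1 ≤ m := by
      rcases Nat.eq_zero_or_pos m with h | h
      · subst h; rw [pow_zero, orderOf_eq_one_iff] at hm; exact absurd hm ha1
      · exact h
    have hcardE : Nat.card (Cfsg.pResidual 2 G ⊓ D : Subgroup G) = 2 ^ m := by
      rw [← hgen, Nat.card_zpowers, hm]
    have hz2 : orderOf (a ^ (2 ^ (m - 1))) = 2 := by
      rw [orderOf_pow' _ (by positivity), hm]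
      have hg : Nat.gcd (2 ^ m) (2 ^ (m - 1)) = 2 ^ (m - 1) := by
        rw [Nat.gcd_comm]
        exact Nat.gcd_eq_left (pow_dvd_pow 2 (by omega))
      rw [hg, Nat.pow_div (by omega) (by norm_num)]
      have : m - (m - 1) = 1 := by omega
      rw [this, pow_one]
    have hzC : a ^ (2 ^ (m - 1)) ∈ C := pow_mem haC _
    have hrel : (T.subgroupOf (Cfsg.pResidual 2 G)).index =
        2 ^ m * (S ⊓ Cfsg.pResidual 2 G).relIndex (Cfsg.pResidual 2 G) := by
      show T.relIndex (Cfsg.pResidual 2 G) = _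
      rw [← Subgroup.relIndex_mul_relIndex T (S ⊓ Cfsg.pResidual 2 G) (Cfsg.pResidual 2 G) hTA
        inf_le_right]
      congr 1
      have := Cfsg.Agent.Lib.Helper55.card_mul_relIndex_eq hTA
      rw [← hAgen, hcardE] at this
      exact Nat.eq_of_mul_eq_mul_left Nat.card_pos this
    obtain ⟨σ, hσ⟩ := exists_hom_neg_one (T.subgroupOf (Cfsg.pResidual 2 G))
      (⟨a, haK⟩ : ↥(Cfsg.pResidual 2 G)) m
      ((S ⊓ Cfsg.pResidual 2 G).relIndex (Cfsg.pResidual 2 G)) hm1
      (by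
        apply Subtype.ext
        rw [Subgroup.coe_pow, Subgroup.coe_one]
        show a ^ (2 ^ m) = 1
        rw [← hm]; exact pow_orderOf_eq_one a)
      (by
        intro g hg
        rw [Subgroup.mem_subgroupOf] at hg
        apply h2 _ hzC hz2 (g : G)
        simpa using hg)
      hrel (Nat.odd_iff.2 (by omega))
    have := hom_trivial_K σ ⟨a, haK⟩
    rw [hσ] at this
    exact absurd this (by decide)
  refine ⟨Cfsg.pResidual 2 G, hKn, ?_, ?_⟩
  · rw [eq_top_iff, ← hKS, ← hTD]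
    exact sup_le le_sup_left (sup_le (hTK.trans le_sup_left) le_sup_right)
  · intro T' hT'L hT'2 hT'syl
    refine ⟨hT'L.trans hLK, ?_⟩
    have hc1 := Cfsg.Agent.Lib.Helper32.card_le_of_relSylow hTL hT2 hTsyl hT'L hT'2
    have hc2 := Cfsg.Agent.Lib.Helper32.card_le_of_relSylow hT'L hT'2 hT'syl hTL hT2
    have hceq : Nat.card T' = Nat.card T := le_antisymm hc1 hc2
    rw [hKD, Subgroup.card_bot, mul_one] at hAgen
    have e1 := Cfsg.Agent.Lib.Helper55.card_mul_relIndex_eq (hT'L.trans hLK)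
    have e2 := Cfsg.Agent.Lib.Helper55.card_mul_relIndex_eq
      (inf_le_right : S ⊓ Cfsg.pResidual 2 G ≤ Cfsg.pResidual 2 G)
    have : T'.relIndex (Cfsg.pResidual 2 G) =
        (S ⊓ Cfsg.pResidual 2 G).relIndex (Cfsg.pResidual 2 G) := by
      apply Nat.eq_of_mul_eq_mul_left (Nat.card_pos : 0 < Nat.card T')
      rw [e1, hceq, hAgen, e2]
    rw [this]; exact hoddA

end Cfsg.Agent.S1924
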