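import Cfsg.Statements.S1936
import Cfsg.Agent.Lib.Helper3.S1936.Main
import Cfsg.Agent.Lib.Helper3.S1936.StarSub
import Cfsg.Agent.Lib.Helper3.S1936.StarQuot
import Cfsg.Agent.Lib.Helper3.S1936.Reduction

set_option autoImplicit false
open Cfsg

namespace Cfsg.Agent.S1936

/-- Let p be a prime and G a finite group in which every subgroup of order prime to p is abelian of exponent dividing p − 1. Then G is solvable. -/
theorem result {G : Type*} [Group G] [Finite G] (p : ℕ) [Fact p.Prime] (h : ∀ H : Subgroup G, (Nat.card ↥H).Coprime p → IsMulCommutative ↥H ∧ ∀ x ∈ H, x ^ (p - 1) = 1) : Group.IsSolvable G := by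
  exact Cfsg.Agent.Lib.Helper3.S1936.solvable_of_no_minCex (p := p)
    (fun X _ K hX => Cfsg.Agent.Lib.Helper3.S1936.star_subgroup hX K)
    (fun X _ _ N _ hX => Cfsg.Agent.Lib.Helper3.S1936.star_quotient hX N)
    (fun X _ _ hX => Cfsg.Agent.Lib.Helper3.S1936.no_minCex
      (fun Y _ _ N _ hY => Cfsg.Agent.Lib.Helper3.S1936.star_quotient hY N) hX) G h

end Cfsg.Agent.S1936
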