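-- Statement S1939 (row 1939).
import Cfsg.Statements.S1939

set_option autoImplicit false
open Cfsg

namespace Cfsg.Agent.S1939

/-- Let S be a Sylow p-subgroup of the finite group G and a an element of S that is the only G-conjugate of a lying in S. Then every power of a has the same property: for every n, the only G-conjugate of a^n lying in S is a^n. -/
theorem result {G : Type*} [Group G] [Finite G] {p : ℕ} [Fact p.Prime] (S : Sylow p G) (a : G)
    (haS : a ∈ (S : Subgroup G)) (hwc : ∀ g : G, g * a * g⁻¹ ∈ (S : Subgroup G) → g * a * g⁻¹ = a) (n : ℕ) :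
    ∀ g : G, g * a ^ n * g⁻¹ ∈ (S : Subgroup G) → g * a ^ n * g⁻¹ = a ^ n := by
  intro g hg
  have hcent : ∀ s ∈ (S : Subgroup G), s * a = a * s := by
    intro s hs
    have h1 : s * a * s⁻¹ ∈ (S : Subgroup G) :=
      Subgroup.mul_mem _ (Subgroup.mul_mem _ hs haS) (Subgroup.inv_mem _ hs)
    have := hwc s h1
    rwa [mul_inv_eq_iff_eq_mul] at this
  set b : G := a ^ n with hb
  set H : Subgroup G := Subgroup.centralizer {b} with hH
  have hSH : (S : Subgroup G) ≤ H := by
    intro s hs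
    rw [hH, Subgroup.mem_centralizer_singleton_iff]
    have : Commute s a := hcent s hs
    exact (this.pow_right n).eq
  set a' : G := g⁻¹ * a * g with ha'
  have ha'H : a' ∈ H := by
    rw [hH, Subgroup.mem_centralizer_singleton_iff]
    have h1 : (g * b * g⁻¹) * a = a * (g * b * g⁻¹) := hcent _ hg
    calc a' * b = g⁻¹ * (a * (g * b * g⁻¹)) * g := by rw [ha']; group
      _ = g⁻¹ * ((g * b * g⁻¹) * a) * g := by rw [h1]
      _ = b * a' := by rw [ha']; group
  -- a' generates a p-subgroup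
  have hK : IsPGroup p (Subgroup.zpowers a') := by
    have h1 : IsPGroup p ((S : Subgroup G).map (MulAut.conj g⁻¹).toMonoidHom) := S.isPGroup'.map _
    refine h1.to_le ?_
    rw [Subgroup.zpowers_le]
    refine ⟨a, haS, ?_⟩
    simp [ha', MulAut.conj_apply]
  have hKH : IsPGroup p ((Subgroup.zpowers a').subgroupOf H) := hK.comap_subtype
  obtain ⟨Q, hQ⟩ := hKH.exists_le_sylow
  obtain ⟨c, hc⟩ := MulAction.exists_smul_eq H Q (S.subtype hSH)
  have haQ : (⟨a', ha'H⟩ : H) ∈ (Q : Subgroup H) := by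
    apply hQ
    rw [Subgroup.mem_subgroupOf]
    exact Subgroup.mem_zpowers a'
  have hmem : c * ⟨a', ha'H⟩ * c⁻¹ ∈ ((c • Q : Sylow p H) : Subgroup H) := by
    rw [Sylow.coe_subgroup_smul]
    have := Subgroup.smul_mem_pointwise_smul _ (MulAut.conj c) (Q : Subgroup H) haQ
    simpa [MulAut.smul_def, MulAut.conj_apply] using this
  rw [hc, Sylow.coe_subtype, Subgroup.mem_subgroupOf] at hmem
  have hmem' : (c : G) * a' * (c : G)⁻¹ ∈ (S : Subgroup G) := by simpa using hmem
  have h2 : ((c : G) * g⁻¹) * a * ((c : G) * g⁻¹)⁻¹ = a := by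
    apply hwc
    have : ((c : G) * g⁻¹) * a * ((c : G) * g⁻¹)⁻¹ = (c : G) * a' * (c : G)⁻¹ := by
      rw [ha']; group
    rw [this]; exact hmem'
  have h3 : ((c : G) * g⁻¹) * b * ((c : G) * g⁻¹)⁻¹ = b := by
    rw [hb, ← conj_pow, h2]
  have hcb : (c : G) * b = b * (c : G) := by
    have h5 : (c : G) ∈ Subgroup.centralizer {b} := c.2
    rw [Subgroup.mem_centralizer_singleton_iff] at h5
    exact h5
  -- conclude
  have h4 : g⁻¹ * b * g = b := by
    have : g⁻¹ * b * g = (c : G)⁻¹ * (((c : G) * g⁻¹) * b * ((c : G) * g⁻¹)⁻¹) * (c : G) := by group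
    rw [this, h3, mul_assoc, ← hcb, inv_mul_cancel_left]
  calc g * b * g⁻¹ = g * (g⁻¹ * b * g) * g⁻¹ := by rw [h4]
    _ = b := by group

end Cfsg.Agent.S1939
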