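-- Statement S1940 (row 1940).
import Cfsg.Statements.S1940

set_option autoImplicit false
open Cfsg

namespace Cfsg.Agent.S1940

/-- Let the finite group L act by automorphisms on the finite abelian group M, and let N be an L-invariant subgroup of M such that M/N is a p-group on which L acts trivially (every l • m lies in the coset mN). If every element of M is a product of an element of N and an element fixed by a Sylow p-subgroup T of L, then every element of M is a product of an element of N and an element fixed by all of L. -/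
theorem result {L : Type*} [Group L] [Finite L] {M : Type*} [CommGroup M] [Finite M] [MulDistribMulAction L M]
    {p : ℕ} [Fact p.Prime] (N : Subgroup M) (hN : ∀ (l : L) (m : M), m ∈ N → l • m ∈ N)
    (hquot : IsPGroup p (M ⧸ N)) (htriv : ∀ (l : L) (m : M), (l • m) * m⁻¹ ∈ N) (T : Sylow p L)
    (hT : ∀ m : M, ∃ n ∈ N, ∃ c : M, (∀ t ∈ (T : Subgroup L), t • c = c) ∧ m = n * c) :
    ∀ m : M, ∃ n ∈ N, ∃ c : M, (∀ l : L, l • c = c) ∧ m = n * c := by
  classical
  intro m
  have hk : p.Coprime (T : Subgroup L).index :=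
    (Nat.Prime.coprime_iff_not_dvd Fact.out).mpr T.not_dvd_index
  obtain ⟨y, hy⟩ := (hquot.powEquiv hk).surjective (QuotientGroup.mk m : M ⧸ N)
  have hy' : y ^ (T : Subgroup L).index = (QuotientGroup.mk m : M ⧸ N) := hy
  obtain ⟨m', rfl⟩ := QuotientGroup.mk_surjective y
  obtain ⟨n₁, hn₁, c, hc, hm'⟩ := hT m'
  have hwd : ∀ a b : L, QuotientGroup.leftRel (T : Subgroup L) a b → a • c = b • c := by
    intro a b hab
    rw [QuotientGroup.leftRel_apply] at hab
    have := hc _ hab
    calc a • c = a • ((a⁻¹ * b) • c) := by rw [this]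
      _ = b • c := by rw [smul_smul, mul_inv_cancel_left]
  let F : L ⧸ (T : Subgroup L) → M := fun q => Quotient.liftOn' q (fun l => l • c) hwd
  have hF : ∀ l : L, F (QuotientGroup.mk l) = l • c := fun l => rfl
  have hFsmul : ∀ (l : L) (q : L ⧸ (T : Subgroup L)), l • F q = F (l • q) := by
    intro l q
    induction q using QuotientGroup.induction_on with
    | H l' =>
      rw [hF, smul_smul]
      rfl
  letI : Fintype (L ⧸ (T : Subgroup L)) := Fintype.ofFinite _
  set c' : M := ∏ q : L ⧸ (T : Subgroup L), F q with hc'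
  have hc'fix : ∀ l : L, l • c' = c' := by
    intro l
    have h1 : l • c' = ∏ q : L ⧸ (T : Subgroup L), l • F q := by
      rw [hc']
      exact map_prod (MulDistribMulAction.toMonoidHom M l) F Finset.univ
    rw [h1]
    simp_rw [hFsmul]
    exact Equiv.prod_comp (MulAction.toPerm l : Equiv.Perm (L ⧸ (T : Subgroup L))) F
  have hFN : ∀ q : L ⧸ (T : Subgroup L), F q * c⁻¹ ∈ N := by
    intro q
    induction q using QuotientGroup.induction_on with
    | H l' => rw [hF]; exact htriv l' c
  have hc'N : c' * (c ^ (T : Subgroup L).index)⁻¹ ∈ N := by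
    have h1 : c' * (c ^ (T : Subgroup L).index)⁻¹ = ∏ q : L ⧸ (T : Subgroup L), (F q * c⁻¹) := by
      rw [Finset.prod_mul_distrib, Finset.prod_const, Finset.card_univ, inv_pow]
      congr 2
      rw [Subgroup.index, Nat.card_eq_fintype_card]
    rw [h1]
    exact Subgroup.prod_mem N (fun q _ => hFN q)
  refine ⟨m * c'⁻¹, ?_, c', hc'fix, by simp⟩
  -- m * c'⁻¹ ∈ N
  have e1 : (QuotientGroup.mk m' : M ⧸ N) = QuotientGroup.mk c := by
    rw [hm', QuotientGroup.mk_mul, (QuotientGroup.eq_one_iff n₁).mpr hn₁, one_mul]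
  have e2 : (QuotientGroup.mk c' : M ⧸ N) = QuotientGroup.mk (c ^ (T : Subgroup L).index) := by
    rw [QuotientGroup.eq]
    have : c'⁻¹ * c ^ (T : Subgroup L).index = (c' * (c ^ (T : Subgroup L).index)⁻¹)⁻¹ := by
      rw [mul_inv, inv_inv]
    rw [this]
    exact N.inv_mem hc'N
  have e3 : (QuotientGroup.mk m : M ⧸ N) = QuotientGroup.mk c' := by
    rw [← hy', e1, e2, QuotientGroup.mk_pow]
  have := QuotientGroup.eq.mp e3.symm
  rw [mul_comm]
  exact this

end Cfsg.Agent.S1940
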