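-- Statement S1944 (row 1944).
import Cfsg.Statements.S1944
import Cfsg.Agent.Lib.Helper32.PPrimeP
import Cfsg.Agent.Lib.Helper32.NormMap

set_option autoImplicit false
open Cfsg

namespace Cfsg.Agent.S1944

open Cfsg.Agent.Lib.Helper32 Cfsg.Agent.Lib.Helper33 Cfsg.Agent.Lib.Helper55
open scoped IsMulCommutative

/-- Let S be a Sylow p-subgroup of the finite group G and suppose that the centre Z(S) lies in O_{p',p}(G). The elements of S each of which is its only G-conjugate in S form a subgroup W of Z(S); W is then a direct factor of Z(S): there is a subgroup K of Z(S) with W ∩ K = 1 and WK = Z(S). -/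
theorem result {G : Type*} [Group G] [Finite G] {p : ℕ} [Fact p.Prime] (S : Sylow p G)
    (hZ : ((S : Subgroup G) ⊓ Subgroup.centralizer ((S : Subgroup G) : Set G)) ≤ Cfsg.pPrimePCore p G) :
    ∃ W K : Subgroup G, (∀ x : G, x ∈ W ↔ (x ∈ (S : Subgroup G) ∧ ∀ g : G, g * x * g⁻¹ ∈ (S : Subgroup G) → g * x * g⁻¹ = x)) ∧
      K ≤ ((S : Subgroup G) ⊓ Subgroup.centralizer ((S : Subgroup G) : Set G)) ∧ W ⊓ K = ⊥ ∧ W ⊔ K = ((S : Subgroup G) ⊓ Subgroup.centralizer ((S : Subgroup G) : Set G)) := by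
  have hRn : (Cfsg.pPrimePCore p G).Normal := pPrimePCore_normal p G
  have hDn : (Cfsg.pPrimeCore p G).Normal := pPrimeCore_normal' p
  have hRdef : Cfsg.pPrimePCore p G =
      (Cfsg.pCore p (G ⧸ Cfsg.pPrimeCore p G)).comap (QuotientGroup.mk' (Cfsg.pPrimeCore p G)) := rfl
  set D := Cfsg.pPrimeCore p G with hD
  set R := Cfsg.pPrimePCore p G with hR
  set Z : Subgroup G := (S : Subgroup G) ⊓ Subgroup.centralizer ((S : Subgroup G) : Set G) with hZdef
  set H : Subgroup G := (S : Subgroup G) ⊓ R with hH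
  have hSp : IsPGroup p (S : Subgroup G) := S.isPGroup'
  have hDS : D ⊓ (S : Subgroup G) = ⊥ := pPrimeCore_inf_eq_bot hSp
  have hDH : D ⊔ H = R := pPrimeCore_sup_sylow_inf S
  have hHp : IsPGroup p H := hSp.to_le inf_le_left
  have hHidx : ¬ p ∣ H.relIndex R := not_dvd_relIndex_inf_normal S R
  have hZH : Z ≤ H := le_inf inf_le_left hZ
  -- elements of D ⊓ S are trivial
  have hDS1 : ∀ x : G, x ∈ D → x ∈ (S : Subgroup G) → x = 1 := by
    intro x h1 h2
    have : x ∈ D ⊓ (S : Subgroup G) := ⟨h1, h2⟩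
    rwa [hDS, Subgroup.mem_bot] at this
  set π : G →* G ⧸ D := QuotientGroup.mk' D with hπ
  have hπsurj : Function.Surjective π := QuotientGroup.mk'_surjective D
  have hπker : ∀ x : G, π x = 1 ↔ x ∈ D := fun x => QuotientGroup.eq_one_iff x
  have hπeq : ∀ x y : G, π x = π y ↔ x * y⁻¹ ∈ D := by
    intro x y
    rw [← hπker, map_mul, map_inv, mul_inv_eq_one]
  set Op : Subgroup (G ⧸ D) := Cfsg.pCore p (G ⧸ D) with hOp
  have hOpp : IsPGroup p Op := pCore_isPGroup p
  have hROp : R = Op.comap π := hRdef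
  -- π(H) = Op
  have hπH : H.map π = Op := by
    have h1 : R.map π = Op := by
      rw [hROp, Subgroup.map_comap_eq_self_of_surjective hπsurj]
    rw [← hDH, Subgroup.map_sup] at h1
    have h2 : D.map π = ⊥ := by
      rw [Subgroup.map_eq_bot_iff, hπ, QuotientGroup.ker_mk']
    rwa [h2, bot_sup_eq] at h1
  set A : Subgroup (G ⧸ D) := Op ⊓ Subgroup.centralizer (Op : Set (G ⧸ D)) with hA
  have hAn : A.Normal := inferInstance
  have hAcomm : IsMulCommutative A := by
    refine ⟨⟨fun a b => Subtype.ext ?_⟩⟩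
    have h1 : (b : G ⧸ D) ∈ Subgroup.centralizer (Op : Set (G ⧸ D)) := b.2.2
    rw [Subgroup.mem_centralizer_iff] at h1
    exact h1 a a.2.1
  have hAp : IsPGroup p A := hOpp.to_le inf_le_left
  set T : Subgroup (G ⧸ D) := (S : Subgroup G).map π with hT
  have hTidx : ¬ p ∣ T.index := fun h => S.not_dvd_index (h.trans (Subgroup.index_map_dvd _ hπsurj))
  have hk : (Nat.card A).Coprime T.index := by
    obtain ⟨n, hn⟩ := IsPGroup.iff_card.mp hAp
    rw [hn]
    exact Nat.Coprime.pow_left n ((Nat.Prime.coprime_iff_not_dvd Fact.out).mpr hTidx)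
  let φ : (G ⧸ D) →* MulAut A := MulAut.conjNormal
  obtain ⟨K₀, hK1, hK2⟩ := exists_complement_fixedPoints φ T hk
  -- the subgroup of weakly closed elements
  set W : Subgroup G := (S : Subgroup G) ⊓ (Subgroup.center (G ⧸ D)).comap π with hW
  have hWmem : ∀ x : G, x ∈ W ↔ (x ∈ (S : Subgroup G) ∧ ∀ g : G, g * x * g⁻¹ * x⁻¹ ∈ D) := by
    intro x
    rw [hW, Subgroup.mem_inf, Subgroup.mem_comap, Subgroup.mem_center_iff]
    refine and_congr Iff.rfl ?_
    constructor
    · intro h g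
      have := h (π g)
      rw [← hπeq, map_mul, map_mul, map_inv, this]
      simp
    · intro h gbar
      obtain ⟨g, rfl⟩ := hπsurj gbar
      have := (hπeq _ _).mpr (h g)
      rw [map_mul, map_mul, map_inv] at this
      calc π g * π x = (π g * π x * (π g)⁻¹) * π g := by group
        _ = π x * π g := by rw [this]
  have hWle : W ≤ Z := by
    intro x hx
    obtain ⟨hxS, hxc⟩ := (hWmem x).mp hx
    refine ⟨hxS, ?_⟩
    show x ∈ Subgroup.centralizer ((S : Subgroup G) : Set G)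
    rw [Subgroup.mem_centralizer_iff]
    intro s hs
    have h1 : s * x * s⁻¹ * x⁻¹ = 1 :=
      hDS1 _ (hxc s) (Subgroup.mul_mem _ (Subgroup.mul_mem _ (Subgroup.mul_mem _ hs hxS) (Subgroup.inv_mem _ hs)) (Subgroup.inv_mem _ hxS))
    calc s * x = (s * x * s⁻¹ * x⁻¹) * (x * s) := by group
      _ = x * s := by rw [h1, one_mul]
  set K : Subgroup G := Z ⊓ ((K₀.map A.subtype).comap π) with hK
  refine ⟨W, K, ?_, inf_le_left, ?_, ?_⟩
  · -- characterization of W
    intro x
    rw [hWmem]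
    refine and_congr_right ?_
    intro hxS
    constructor
    · intro h g hg
      have h1 : g * x * g⁻¹ * x⁻¹ = 1 :=
        hDS1 _ (h g) (Subgroup.mul_mem _ hg (Subgroup.inv_mem _ hxS))
      calc g * x * g⁻¹ = (g * x * g⁻¹ * x⁻¹) * x := by group
        _ = x := by rw [h1, one_mul]
    · intro h g
      -- x is central in S
      have hxZ : x ∈ Z := by
        refine ⟨hxS, ?_⟩
        show x ∈ Subgroup.centralizer ((S : Subgroup G) : Set G)
        rw [Subgroup.mem_centralizer_iff]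
        intro s hs
        have := h s (Subgroup.mul_mem _ (Subgroup.mul_mem _ hs hxS) (Subgroup.inv_mem _ hs))
        calc s * x = (s * x * s⁻¹) * s := by group
          _ = x * s := by rw [this]
      have hxR : x ∈ R := hZ hxZ
      have hgxR : g * x * g⁻¹ ∈ R := hRn.conj_mem x hxR g
      -- the cyclic group generated by g x g⁻¹ is a p-subgroup of R
      have hzp : IsPGroup p (Subgroup.zpowers (g * x * g⁻¹)) := by
        have h1 : IsPGroup p (cj g (S : Subgroup G)) := isPGroup_cj hSp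
        refine h1.to_le ?_
        rw [Subgroup.zpowers_le]
        exact conj_mem_cj hxS
      have hzR : Subgroup.zpowers (g * x * g⁻¹) ≤ R := by
        rw [Subgroup.zpowers_le]; exact hgxR
      obtain ⟨c, hcR, hc⟩ := sylow_sub (inf_le_right : H ≤ R) hHp hHidx hzR hzp
      have hcm : c ∈ H ⊔ D := by rw [sup_comm, hDH]; exact hcR
      obtain ⟨h₁, hh₁, d, hd, rfl⟩ := Subgroup.mem_sup_of_normal_right.mp hcm
      have h2 : (h₁ * d) * (g * x * g⁻¹) * (h₁ * d)⁻¹ ∈ H :=
        hc (conj_mem_cj (Subgroup.mem_zpowers _))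
      have h3 : d * (g * x * g⁻¹) * d⁻¹ ∈ H := by
        have := H.mul_mem (H.mul_mem (H.inv_mem hh₁) h2) hh₁
        have e : h₁⁻¹ * ((h₁ * d) * (g * x * g⁻¹) * (h₁ * d)⁻¹) * h₁ = d * (g * x * g⁻¹) * d⁻¹ := by group
        rwa [e] at this
      have h4 : (d * g) * x * (d * g)⁻¹ = x := by
        apply h
        have e : (d * g) * x * (d * g)⁻¹ = d * (g * x * g⁻¹) * d⁻¹ := by group
        rw [e]; exact h3.1
      have e : g * x * g⁻¹ * x⁻¹ = d⁻¹ * (x * d * x⁻¹) := by
        have : g * x * g⁻¹ = d⁻¹ * ((d * g) * x * (d * g)⁻¹) * d := by group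
        rw [this, h4]; group
      rw [e]
      exact D.mul_mem (D.inv_mem hd) (hDn.conj_mem d hd x)
  · -- W ⊓ K = ⊥
    rw [eq_bot_iff]
    rintro x ⟨hxW, hxK⟩
    rw [Subgroup.mem_bot]
    obtain ⟨hxS, hxc⟩ := (hWmem x).mp hxW
    have hxc' : π x ∈ Subgroup.center (G ⧸ D) := hxW.2
    obtain ⟨a, ha, hax⟩ := hxK.2
    have hafix : ∀ l : G ⧸ D, φ l a = a := by
      intro l
      apply Subtype.ext
      show l * (a : G ⧸ D) * l⁻¹ = a
      have h1 : (a : G ⧸ D) = π x := hax
      rw [h1]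
      rw [Subgroup.mem_center_iff] at hxc'
      rw [hxc' l, mul_inv_cancel_right]
    have ha1 : a = 1 := hK1 a hafix ha
    have h2 : π x = 1 := by rw [← hax, ha1]; rfl
    exact hDS1 x ((hπker x).mp h2) hxS
  · -- W ⊔ K = Z
    apply le_antisymm (sup_le hWle inf_le_left)
    intro z hz
    have hzS : z ∈ (S : Subgroup G) := hz.1
    have hzc : z ∈ Subgroup.centralizer ((S : Subgroup G) : Set G) := hz.2
    -- π z ∈ A
    have hπzA : π z ∈ A := by
      refine ⟨?_, ?_⟩
      · rw [← hπH]; exact Subgroup.mem_map_of_mem π (hZH hz)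
      · show π z ∈ Subgroup.centralizer (Op : Set (G ⧸ D))
        rw [Subgroup.mem_centralizer_iff]
        intro y hy
        rw [← hπH] at hy
        obtain ⟨h₁, hh₁, rfl⟩ := hy
        rw [Subgroup.mem_centralizer_iff] at hzc
        have := hzc h₁ hh₁.1
        rw [← map_mul, ← map_mul, this]
    set a : A := ⟨π z, hπzA⟩ with ha
    have haT : ∀ t ∈ T, φ t a = a := by
      rintro t ⟨s, hs, rfl⟩
      apply Subtype.ext
      show π s * π z * (π s)⁻¹ = π z
      rw [Subgroup.mem_centralizer_iff] at hzc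
      have := hzc s hs
      rw [← map_mul, this, map_mul, mul_inv_cancel_right]
    obtain ⟨w, hwfix, y, hyK, hyT, hawy⟩ := hK2 a haT
    -- lift w to an element of H
    have hwOp : (w : G ⧸ D) ∈ H.map π := by rw [hπH]; exact w.2.1
    obtain ⟨h₁, hh₁, hh₁w⟩ := hwOp
    -- w is T-fixed since it is fixed by everything
    have hh₁Z : h₁ ∈ Z := by
      refine ⟨hh₁.1, ?_⟩
      show h₁ ∈ Subgroup.centralizer ((S : Subgroup G) : Set G)
      rw [Subgroup.mem_centralizer_iff]
      intro s hs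
      have h1 := congrArg Subtype.val (hwfix (π s))
      have h2 : π s * (w : G ⧸ D) * (π s)⁻¹ = w := h1
      rw [← hh₁w, ← map_inv, ← map_mul, ← map_mul, hπeq] at h2
      have h3 : s * h₁ * s⁻¹ * h₁⁻¹ = 1 :=
        hDS1 _ h2 (Subgroup.mul_mem _ (Subgroup.mul_mem _ (Subgroup.mul_mem _ hs hh₁.1) (Subgroup.inv_mem _ hs)) (Subgroup.inv_mem _ hh₁.1))
      calc s * h₁ = (s * h₁ * s⁻¹ * h₁⁻¹) * (h₁ * s) := by group
        _ = h₁ * s := by rw [h3, one_mul]
    have hh₁W : h₁ ∈ W := by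
      refine ⟨hh₁.1, ?_⟩
      show h₁ ∈ (Subgroup.center (G ⧸ D)).comap π
      rw [Subgroup.mem_comap, Subgroup.mem_center_iff]
      intro l
      have h1 := congrArg Subtype.val (hwfix l)
      have h2 : l * (w : G ⧸ D) * l⁻¹ = w := h1
      rw [hh₁w]
      calc l * (w : G ⧸ D) = (l * (w : G ⧸ D) * l⁻¹) * l := by group
        _ = (w : G ⧸ D) * l := by rw [h2]
    have hyK' : h₁⁻¹ * z ∈ K := by
      refine ⟨Z.mul_mem (Z.inv_mem hh₁Z) hz, ?_⟩
      show h₁⁻¹ * z ∈ (K₀.map A.subtype).comap π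
      rw [Subgroup.mem_comap]
      refine ⟨y, hyK, ?_⟩
      have h1 : (a : G ⧸ D) = (w : G ⧸ D) * (y : G ⧸ D) := by
        rw [hawy]; rfl
      have h2 : (a : G ⧸ D) = π z := rfl
      show (y : G ⧸ D) = π (h₁⁻¹ * z)
      rw [map_mul, map_inv, hh₁w, ← h2, h1, inv_mul_cancel_left]
    have : z = h₁ * (h₁⁻¹ * z) := by group
    rw [this]
    exact Subgroup.mul_mem_sup hh₁W hyK'

end Cfsg.Agent.S1944
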