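import Cfsg.Statements.S1945
import Cfsg.Agent.S1973
import Cfsg.Agent.Lib.Helper33.KInfLocal
import Cfsg.Agent.Lib.Helper54.WCSplit
import Cfsg.Agent.Lib.Helper11.PConstrained
import Cfsg.Agent.Lib.Helper64.SylowMax
import Cfsg.Agent.Lib.Helper53.SolvPSolv

set_option autoImplicit false
open Cfsg

namespace Cfsg.Agent.S1945

open Cfsg.Agent.Lib.Helper33

/-- The normalizer of a subgroup normalizes its centre. -/
theorem normalizer_le_normalizer_center {G : Type*} [Group G] (H : Subgroup G) :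
    Subgroup.normalizer (H : Set G) ≤
      Subgroup.normalizer ((H ⊓ Subgroup.centralizer (H : Set G) : Subgroup G) : Set G) := by
  intro n hn
  have h1 : cj n H = H := cj_eq_self_iff.mpr hn
  refine cj_eq_self_iff.mp ?_
  rw [cj_inf, ← centralizer_cj, h1]

/-- The odd case, through the lower `K_∞` subgroup. -/
theorem odd_case {G : Type*} [Group G] [Finite G] {p : ℕ} [Fact p.Prime] (S : Sylow p G)
    (hp : p ≠ 2) :
    ∃ W K : Subgroup G, (∀ x : G, x ∈ W ↔ (x ∈ (S : Subgroup G) ∧ ∀ g : G, g * x * g⁻¹ ∈ (S : Subgroup G) → g * x * g⁻¹ = x)) ∧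
      K ≤ ((S : Subgroup G) ⊓ Subgroup.centralizer ((S : Subgroup G) : Set G)) ∧ W ⊓ K = ⊥ ∧ W ⊔ K = ((S : Subgroup G) ⊓ Subgroup.centralizer ((S : Subgroup G) : Set G)) := by
  have hWc := Cfsg.Agent.Lib.Helper33.isCharPFunctor_kInfLower p
  have hW := Cfsg.Agent.Lib.Helper33.isConjugacyFunctor_induced (X := G) hWc
  have hp3 : 2 ≤ p - 1 := by
    have := (Fact.out : p.Prime).two_le
    omega
  have hWZ : ∀ P : Subgroup G, IsPGroup p ↥P → P ⊓ Subgroup.centralizer ((P : Subgroup G) : Set G) ≤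
      Cfsg.inducedFunctor (G := G) Cfsg.kInfLower P :=
    fun P hP => (Cfsg.Agent.Lib.Helper33.center_le_induced_kInf P hP).1
  have hmain := Cfsg.Agent.S1973.main (Cfsg.inducedFunctor (G := G) Cfsg.kInfLower) hW hWZ (by
    intro H T hTH hTp hTi hn
    obtain ⟨g, hgT, hgQ, hq⟩ := Cfsg.Agent.Lib.Helper33.kinf_local Cfsg.kInfLower hWc
      (Or.inl (fun _ _ => rfl)) H T hTH hTp hTi hn
    refine ⟨g, hgT, hgQ, ?_⟩
    intro U V _ hUZ
    have h2 : Cfsg.iterCommutator (U.map H.subtype) (Subgroup.zpowers g) 2 ≤ (⊥ : Subgroup G) := by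
      rw [← hq]
      exact Cfsg.Agent.Lib.Helper33.iterC_mono hUZ (Subgroup.zpowers g) 2
    have h3 := Cfsg.Agent.Lib.Helper33.iterC_le_of_le (V := (⊥ : Subgroup G))
      (Z := Subgroup.zpowers g) (by rw [Subgroup.normalizer_eq_top]; exact le_top) hp3 h2
    exact h3.trans bot_le)
  set K : Subgroup G := Cfsg.inducedFunctor (G := G) Cfsg.kInfLower (S : Subgroup G) with hK
  have hKS : K ≤ (S : Subgroup G) := (hW S S.isPGroup').1
  have hSN : (S : Subgroup G) ≤ Subgroup.normalizer (K : Set G) := by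
    intro s hs
    have h1 := (hW S S.isPGroup').2.2 s
    have h2 : (S : Subgroup G).map (MulAut.conj s).toMonoidHom = (S : Subgroup G) :=
      cj_eq_self_of_mem hs
    rw [h2] at h1
    exact cj_eq_self_iff.mp h1.symm
  refine Cfsg.Agent.Lib.Helper54.WCSplit.split S (Subgroup.normalizer (K : Set G))
    (K ⊓ Subgroup.centralizer (K : Set G)) hSN (normalizer_le_normalizer_center K) ?_
    (inf_le_left.trans hKS) ?_ ?_
  · rintro x ⟨_, hx⟩ y ⟨hy, _⟩
    exact (Subgroup.mem_centralizer_iff.mp hx y hy).symm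
  · intro x hx
    exact ⟨hWZ S S.isPGroup' hx, Subgroup.centralizer_le hKS hx.2⟩
  · intro x hx g hg
    have hidx : ¬ p ∣ (S : Subgroup G).relIndex ⊤ := by
      rw [Subgroup.relIndex_top_right]; exact S.not_dvd_index
    refine hmain (Nat.card (⊤ : Subgroup G)) ⊤ rfl S le_top S.isPGroup' hidx x ?_ g
      (Subgroup.mem_top g) hg
    refine ⟨hx.1.1, ?_⟩
    rw [top_inf_eq]
    exact hx.2

/-- The solvable case, through `O_{p',p}(G)`. -/
theorem solvable_case {G : Type*} [Group G] [Finite G] {p : ℕ} [Fact p.Prime] (S : Sylow p G)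
    (hsol : Group.IsSolvable G) :
    ∃ W K : Subgroup G, (∀ x : G, x ∈ W ↔ (x ∈ (S : Subgroup G) ∧ ∀ g : G, g * x * g⁻¹ ∈ (S : Subgroup G) → g * x * g⁻¹ = x)) ∧
      K ≤ ((S : Subgroup G) ⊓ Subgroup.centralizer ((S : Subgroup G) : Set G)) ∧ W ⊓ K = ⊥ ∧ W ⊔ K = ((S : Subgroup G) ⊓ Subgroup.centralizer ((S : Subgroup G) : Set G)) := by
  haveI hRn : (Cfsg.pPrimePCore p G).Normal := Cfsg.Agent.Lib.Helper32.pPrimePCore_normal p G
  obtain ⟨P, hP⟩ := Cfsg.Agent.Lib.Helper64.exists_sylow_inf_normal S (Cfsg.pPrimePCore p G)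
  have hcent := Cfsg.Agent.Lib.Helper11.map_centralizer_sylow_pPrimePCore P
  have hnorm := Cfsg.Agent.Lib.Helper11.map_normalizer_sylow_pPrimePCore P
  rw [hP] at hcent hnorm
  clear hP P
  obtain ⟨O, hO⟩ : ∃ O : Subgroup G, O = Cfsg.pPrimeCore p G := ⟨_, rfl⟩
  obtain ⟨R, hR⟩ : ∃ R : Subgroup G, R = Cfsg.pPrimePCore p G := ⟨_, rfl⟩
  obtain ⟨Y₁, hY₁⟩ : ∃ Y₁ : Subgroup G, Y₁ = (S : Subgroup G) ⊓ Cfsg.pPrimePCore p G := ⟨_, rfl⟩
  haveI hOn : (Cfsg.pPrimeCore p G).Normal := inferInstance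
  rw [← hY₁] at hcent hnorm
  have hps : Cfsg.IsPSolvable p (G ⧸ Cfsg.pPrimeCore p G) :=
    Cfsg.Agent.Lib.Helper76.isPSolvable_quotient (Cfsg.pPrimeCore p G)
      (Cfsg.Agent.Lib.Helper53.isPSolvable_of_isSolvable p hsol)
  have hHH := Cfsg.Agent.Lib.Helper76.centralizer_pCore_le_of_isPSolvable hps
    (Cfsg.Agent.Lib.Helper30.pPrimeCore_quotient_eq_bot p)
  have hSN : (S : Subgroup G) ≤ Subgroup.normalizer (Y₁ : Set G) := by
    rw [hY₁]
    intro s hs
    refine cj_eq_self_iff.mp ?_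
    have hR' : cj s (Cfsg.pPrimePCore p G) = Cfsg.pPrimePCore p G :=
      cj_eq_self_iff.mpr (by rw [Subgroup.normalizer_eq_top]; trivial)
    rw [cj_inf, cj_eq_self_of_mem hs, hR']
  refine Cfsg.Agent.Lib.Helper54.WCSplit.split S (Subgroup.normalizer (Y₁ : Set G))
    (Y₁ ⊓ Subgroup.centralizer (Y₁ : Set G)) hSN (normalizer_le_normalizer_center Y₁) ?_
    (inf_le_left.trans (hY₁ ▸ inf_le_left)) ?_ ?_
  · rintro x ⟨_, hx⟩ y ⟨hy, _⟩
    exact (Subgroup.mem_centralizer_iff.mp hx y hy).symm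
  · intro x hx
    have hxc : x ∈ Subgroup.centralizer (Y₁ : Set G) :=
      Subgroup.centralizer_le (hY₁ ▸ inf_le_left : Y₁ ≤ (S : Subgroup G)) hx.2
    have h1 : (QuotientGroup.mk' (Cfsg.pPrimeCore p G)) x ∈ Subgroup.centralizer
        (Cfsg.pCore p (G ⧸ Cfsg.pPrimeCore p G) : Set (G ⧸ Cfsg.pPrimeCore p G)) := by
      rw [← hcent]
      exact Subgroup.mem_map_of_mem _ hxc
    have h2 : x ∈ Cfsg.pPrimePCore p G := hHH h1
    refine ⟨?_, hxc⟩
    rw [hY₁]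
    exact ⟨hx.1, h2⟩
  · intro x hx g hg
    have hgtop : (QuotientGroup.mk' (Cfsg.pPrimeCore p G)) g ∈
        (Subgroup.normalizer (Y₁ : Set G)).map (QuotientGroup.mk' (Cfsg.pPrimeCore p G)) := by
      rw [hnorm]; exact Subgroup.mem_top _
    obtain ⟨n, hn, hng⟩ := hgtop
    have hu : g * n⁻¹ ∈ O := by
      have : (QuotientGroup.mk' (Cfsg.pPrimeCore p G)) (g * n⁻¹) = 1 := by
        rw [map_mul, map_inv, hng, mul_inv_cancel]
      rw [hO]
      exact (QuotientGroup.eq_one_iff _).mp this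
    have hnx : n * x = x * n := (Subgroup.mem_centralizer_iff.mp hx.2 n hn)
    have hOn' : O.Normal := hO ▸ hOn
    -- `g x g⁻¹ x⁻¹ ∈ O ⊓ S = ⊥`
    have h1 : g * x * g⁻¹ * x⁻¹ ∈ O := by
      have e : g * x * g⁻¹ * x⁻¹ = (g * n⁻¹) * (x * (g * n⁻¹)⁻¹ * x⁻¹) := by
        have : n * x * n⁻¹ = x := by rw [hnx, mul_inv_cancel_right]
        calc g * x * g⁻¹ * x⁻¹ = (g * n⁻¹) * (n * x * n⁻¹) * (g * n⁻¹)⁻¹ * x⁻¹ := by group
          _ = (g * n⁻¹) * x * (g * n⁻¹)⁻¹ * x⁻¹ := by rw [this]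
          _ = (g * n⁻¹) * (x * (g * n⁻¹)⁻¹ * x⁻¹) := by group
      rw [e]
      exact O.mul_mem hu (hOn'.conj_mem _ (O.inv_mem hu) x)
    have h2 : g * x * g⁻¹ * x⁻¹ ∈ (S : Subgroup G) :=
      (S : Subgroup G).mul_mem hg ((S : Subgroup G).inv_mem hx.1.1)
    have h3 : O ⊓ (S : Subgroup G) = ⊥ := hO ▸ Cfsg.Agent.Lib.Helper32.pPrimeCore_inf_eq_bot S.isPGroup'
    have h4 : g * x * g⁻¹ * x⁻¹ ∈ O ⊓ (S : Subgroup G) := ⟨h1, h2⟩
    rw [h3, Subgroup.mem_bot] at h4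
    exact mul_inv_eq_one.mp h4

/-- Let S be a Sylow p-subgroup of the finite group G, and assume that p is odd or that G is solvable. The elements of S each of which is its only G-conjugate in S form a subgroup W of Z(S); W is then a direct factor of Z(S): there is a subgroup K of Z(S) with W ∩ K = 1 and WK = Z(S). (For p = 2 and G not solvable this can fail.) -/
theorem result {G : Type*} [Group G] [Finite G] {p : ℕ} [Fact p.Prime] (S : Sylow p G) (h : p ≠ 2 ∨ Group.IsSolvable G) :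
    ∃ W K : Subgroup G, (∀ x : G, x ∈ W ↔ (x ∈ (S : Subgroup G) ∧ ∀ g : G, g * x * g⁻¹ ∈ (S : Subgroup G) → g * x * g⁻¹ = x)) ∧
      K ≤ ((S : Subgroup G) ⊓ Subgroup.centralizer ((S : Subgroup G) : Set G)) ∧ W ⊓ K = ⊥ ∧ W ⊔ K = ((S : Subgroup G) ⊓ Subgroup.centralizer ((S : Subgroup G) : Set G)) := by
  rcases h with hp | hsol
  · exact odd_case S hp
  · exact solvable_case S hsol

end Cfsg.Agent.S1945
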