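import Mathlib
import Cfsg.Statements.S1946
import Cfsg.Agent.Lib.Helper68.PowerIndex

set_option autoImplicit false
open Cfsg

namespace Cfsg.Agent.S1946

open Cfsg.Agent.Lib.Helper68 Cfsg.Agent.Lib.Helper2 Cfsg.Agent.Lib.Helper24
open Subgroup
open scoped commutatorElement

theorem centralizes {G : Type*} [Group G] [Finite G] {p : ℕ} [Fact p.Prime] (P : Sylow p G)
    (h : ∀ a ∈ (P : Subgroup G), (a ^ p = 1 ∨ (p = 2 ∧ a ^ 4 = 1)) → ∀ g : G, g * a * g⁻¹ ∈ (P : Subgroup G) →
        ∃ x ∈ (P : Subgroup G), g * a * g⁻¹ = x * a * x⁻¹)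
    (y : G) (hyo : (orderOf y).Coprime p) :
    ∀ n : ℕ, ∀ Q : Subgroup G, Nat.card Q = n → Q ≤ (P : Subgroup G) → y ∈ normalizer (Q : Set G) →
      y ∈ centralizer (Q : Set G) := by
  have hp : p.Prime := Fact.out
  intro n
  induction n using Nat.strong_induction_on with
  | _ n ih =>
  intro Q hn hQP hyN
  have hQ : IsPGroup p Q := P.2.to_le hQP
  by_contra hcon
  set A : Subgroup G := zpowers y with hA
  have hAQ : A ≤ normalizer (Q : Set G) := by rw [hA, zpowers_le]; exact hyN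
  have hyA : y ∈ A := mem_zpowers y
  have hcop : (Nat.card A).Coprime (Nat.card Q) := by
    obtain ⟨k, hk⟩ := hQ.exists_card_eq
    rw [hk, hA, Nat.card_zpowers]
    exact Nat.Coprime.pow_right k hyo
  have hsolv : Group.IsSolvable A ∨ Group.IsSolvable Q := by
    right
    haveI : Group.IsNilpotent Q := hQ.isNilpotent
    infer_instance
  have IH : ∀ M : Subgroup G, M ≤ Q → M ≠ Q → y ∈ normalizer (M : Set G) →
      y ∈ centralizer (M : Set G) := by
    intro M hMQ hne hyM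
    have hlt : Nat.card M < n := by
      rw [← hn]
      have h1 : Nat.card M ≤ Nat.card Q := Subgroup.card_le_of_le hMQ
      rcases lt_or_eq_of_le h1 with h' | h'
      · exact h'
      · exact absurd (Subgroup.eq_of_le_of_card_ge hMQ h'.ge) hne
    exact ih _ hlt M rfl (hMQ.trans hQP) hyM
  have hcentA : ∀ M : Subgroup G, y ∈ centralizer (M : Set G) → M ≤ centralizer (A : Set G) := by
    intro M hM
    rw [le_centralizer_iff, hA, zpowers_le]
    exact hM
  -- [Q, A] = Q
  have hQA : ⁅Q, A⁆ = Q := by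
    by_contra hne
    have h1 := IH ⁅Q, A⁆ (commutator_le_of_le_normalizer Q A hAQ) hne
      (le_normalizer_commutator_right Q A hAQ hyA)
    have h2 : ⁅⁅Q, A⁆, A⁆ = ⊥ := commutator_eq_bot_iff_le_centralizer.2 (hcentA _ h1)
    rw [commutator_commutator_eq A Q hAQ hcop hsolv] at h2
    have h3 : Q ≤ centralizer (A : Set G) := commutator_eq_bot_iff_le_centralizer.1 h2
    rw [le_centralizer_iff] at h3
    exact hcon (h3 hyA)
  -- an element of order p or 4 not centralized
  have hex : ∃ x ∈ Q, (orderOf x = p ∨ (p = 2 ∧ orderOf x = 4)) ∧ y * x ≠ x * y := by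
    by_contra hno
    apply hcon
    apply omega_theorem Q hQ y hyo hyN
    intro x hx hxo
    by_contra hne
    exact hno ⟨x, hx, hxo, hne⟩
  obtain ⟨x, hxQ, hxo, hxy⟩ := hex
  have hxP : x ∈ (P : Subgroup G) := hQP hxQ
  have hx1 : x ≠ 1 := by
    rintro rfl
    exact hxy (by rw [mul_one, one_mul])
  have hfus : ∀ g : G, g * x * g⁻¹ ∈ (P : Subgroup G) →
      ∃ u ∈ (P : Subgroup G), g * x * g⁻¹ = u * x * u⁻¹ := by
    apply h x hxP
    rcases hxo with h1 | ⟨h1, h2⟩
    · left; rw [← h1]; exact pow_orderOf_eq_one x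
    · right; exact ⟨h1, by rw [← h2]; exact pow_orderOf_eq_one x⟩
  -- the subgroup generated by the P-conjugates of x
  set SX : Set G := {w | ∃ u ∈ (P : Subgroup G), w = u * x * u⁻¹} with hSX
  set X : Subgroup G := closure SX with hX
  have hXP : X ≤ (P : Subgroup G) := by
    rw [hX, closure_le]
    rintro w ⟨u, hu, rfl⟩
    exact mul_mem (mul_mem hu hxP) (inv_mem hu)
  have hXp : IsPGroup p X := P.2.to_le hXP
  have hxX : x ∈ X := Subgroup.subset_closure ⟨1, one_mem _, by group⟩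
  have hXne : X ≠ ⊥ := by
    intro h'
    rw [h', mem_bot] at hxX
    exact hx1 hxX
  have hPX : (P : Subgroup G) ≤ normalizer (X : Set G) := by
    intro u' hu'
    apply mem_normalizer_closure
    · rintro s ⟨u, hu, rfl⟩
      apply Subgroup.subset_closure
      exact ⟨u' * u, mul_mem hu' hu, by group⟩
    · rintro s ⟨u, hu, rfl⟩
      apply Subgroup.subset_closure
      exact ⟨u'⁻¹ * u, mul_mem (inv_mem hu') hu, by group⟩
  have hlt := commutator_lt_of_pGroups (P : Subgroup G) X P.2 hXp hPX hXne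
  have hXn : X ≤ normalizer ((⁅X, (P : Subgroup G)⁆ : Subgroup G) : Set G) :=
    le_normalizer_commutator_left X (P : Subgroup G)
  have hconjX : ∀ g : G, g * x * g⁻¹ ∈ Q → ∃ u ∈ (P : Subgroup G), g * x * g⁻¹ = u * x * u⁻¹ :=
    fun g hg => hfus g (hQP hg)
  -- the smallest y-invariant subgroup containing x
  set SQ : Set G := {w | ∃ z ∈ A, w = z * x * z⁻¹} with hSQ
  set Q1 : Subgroup G := closure SQ with hQ1
  have hSQQ : ∀ z ∈ A, z * x * z⁻¹ ∈ Q := fun z hz => (mem_normalizer_iff.1 (hAQ hz) x).1 hxQ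
  have hQ1Q : Q1 ≤ Q := by
    rw [hQ1, closure_le]
    rintro w ⟨z, hz, rfl⟩
    exact hSQQ z hz
  have hxQ1 : x ∈ Q1 := Subgroup.subset_closure ⟨1, one_mem _, by group⟩
  have hyQ1 : y ∈ normalizer (Q1 : Set G) := by
    apply mem_normalizer_closure
    · rintro s ⟨z, hz, rfl⟩
      apply Subgroup.subset_closure
      exact ⟨y * z, mul_mem hyA hz, by group⟩
    · rintro s ⟨z, hz, rfl⟩
      apply Subgroup.subset_closure
      exact ⟨y⁻¹ * z, mul_mem (inv_mem hyA) hz, by group⟩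
  have hQ1eq : Q1 = Q := by
    by_contra hne
    have h1 := IH Q1 hQ1Q hne hyQ1
    rw [mem_centralizer_iff] at h1
    exact hxy (h1 x hxQ1).symm
  -- key: commutators with A land in [X, P]
  have key : ∀ w ∈ Q1, w ∈ X ∧ ∀ z ∈ A, ⁅w, z⁆ ∈ ⁅X, (P : Subgroup G)⁆ := by
    intro w hw
    rw [hQ1] at hw
    induction hw using closure_induction with
    | mem w hw =>
      obtain ⟨z1, hz1, rfl⟩ := hw
      obtain ⟨u1, hu1, he1⟩ := hconjX z1 (hSQQ z1 hz1)
      refine ⟨?_, ?_⟩
      · rw [he1]; exact Subgroup.subset_closure ⟨u1, hu1, rfl⟩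
      · intro z hz
        obtain ⟨u2, hu2, he2⟩ := hconjX (z * z1) (hSQQ _ (mul_mem hz hz1))
        have e : ⁅z1 * x * z1⁻¹, z⁆ = ⁅u1, x⁆ * ⁅u2, x⁆⁻¹ := by
          have h1 : z * (z1 * x * z1⁻¹) * z⁻¹ = u2 * x * u2⁻¹ := by
            rw [← he2]; group
          calc ⁅z1 * x * z1⁻¹, z⁆ = (z1 * x * z1⁻¹) * (z * (z1 * x * z1⁻¹) * z⁻¹)⁻¹ := by
                rw [commutatorElement_def]; group
            _ = (u1 * x * u1⁻¹) * (u2 * x * u2⁻¹)⁻¹ := by rw [h1, he1]
            _ = ⁅u1, x⁆ * ⁅u2, x⁆⁻¹ := by simp only [commutatorElement_def]; group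
        rw [e, commutator_comm]
        exact mul_mem (commutator_mem_commutator hu1 hxX)
          (inv_mem (commutator_mem_commutator hu2 hxX))
    | one =>
      refine ⟨one_mem _, ?_⟩
      intro z _
      rw [commutatorElement_one_left]
      exact one_mem _
    | mul w1 w2 hw1 hw2 h1 h2 =>
      refine ⟨mul_mem h1.1 h2.1, ?_⟩
      intro z hz
      have e : ⁅w1 * w2, z⁆ = w1 * ⁅w2, z⁆ * w1⁻¹ * ⁅w1, z⁆ := by
        simp only [commutatorElement_def]; group
      rw [e]
      exact mul_mem ((mem_normalizer_iff.1 (hXn h1.1) _).1 (h2.2 z hz)) (h1.2 z hz)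
    | inv w hw h1 =>
      refine ⟨inv_mem h1.1, ?_⟩
      intro z hz
      have e : ⁅w⁻¹, z⁆ = w⁻¹ * ⁅w, z⁆⁻¹ * w⁻¹⁻¹ := by
        simp only [commutatorElement_def]; group
      rw [e]
      exact (mem_normalizer_iff.1 (hXn (inv_mem h1.1)) _).1 (inv_mem (h1.2 z hz))
  have hle : ⁅Q, A⁆ ≤ ⁅X, (P : Subgroup G)⁆ := by
    rw [commutator_le]
    intro w hw z hz
    rw [← hQ1eq] at hw
    exact (key w hw).2 z hz
  rw [hQA] at hle
  have hxN : x ∈ ⁅X, (P : Subgroup G)⁆ := hle hxQ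
  have hXle : X ≤ ⁅X, (P : Subgroup G)⁆ := by
    rw [hX, closure_le]
    rintro w ⟨u, hu, rfl⟩
    have e : u * x * u⁻¹ = ⁅u, x⁆ * x := by rw [commutatorElement_def]; group
    rw [e]
    refine mul_mem ?_ hxN
    rw [commutator_comm]
    exact commutator_mem_commutator hu hxX
  exact absurd (lt_of_le_of_lt hXle hlt) (lt_irrefl _)

/-- Let P be a Sylow p-subgroup of the finite group G. Then G has a normal p-complement if and only if P controls the fusion of its elements of order dividing p (dividing 4 when p = 2): whenever such an element a of P has a G-conjugate g a g⁻¹ in P, that conjugate is already x a x⁻¹ for some x in P. -/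
theorem result {G : Type*} [Group G] [Finite G] {p : ℕ} [Fact p.Prime] (P : Sylow p G) :
    Cfsg.HasNormalPComplement p G ↔
      ∀ a ∈ (P : Subgroup G), (a ^ p = 1 ∨ (p = 2 ∧ a ^ 4 = 1)) → ∀ g : G, g * a * g⁻¹ ∈ (P : Subgroup G) →
        ∃ x ∈ (P : Subgroup G), g * a * g⁻¹ = x * a * x⁻¹ := by
  constructor
  · intro hN a ha _ g hg
    rw [hasNormalPComplement_iff P] at hN
    obtain ⟨N, hNn, hc⟩ := hN
    have hdisj : N ⊓ (P : Subgroup G) = ⊥ := disjoint_iff.mp hc.disjoint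
    obtain ⟨⟨⟨n, hn⟩, ⟨x, hx⟩⟩, hnx, -⟩ := hc.existsUnique g
    have hnx' : n * x = g := hnx
    refine ⟨x, hx, ?_⟩
    set b := x * a * x⁻¹ with hb
    have hbP : b ∈ (P : Subgroup G) := mul_mem (mul_mem hx ha) (inv_mem hx)
    have hg' : g * a * g⁻¹ = n * b * n⁻¹ := by rw [← hnx', hb]; group
    rw [hg'] at hg ⊢
    have h1 : n * b * n⁻¹ * b⁻¹ ∈ N ⊓ (P : Subgroup G) := by
      refine mem_inf.2 ⟨?_, mul_mem hg (inv_mem hbP)⟩
      have e : n * b * n⁻¹ * b⁻¹ = n * (b * n⁻¹ * b⁻¹) := by group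
      rw [e]
      exact mul_mem hn (hNn.conj_mem _ (inv_mem hn) b)
    rw [hdisj, mem_bot] at h1
    exact mul_inv_eq_one.1 h1
  · intro h
    apply hasNormalPComplement_of_frobCond
    apply Cfsg.Agent.S0071.frobCond_of_sylow P
    intro Q hQP y hyN hyo
    exact centralizes P h y hyo _ Q rfl hQP hyN

end Cfsg.Agent.S1946
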