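import Mathlib
import Cfsg.Statements.S1947
import Cfsg.Agent.Lib.Helper68.PNilp
import Cfsg.Agent.Lib.Helper68.Omega

set_option autoImplicit false
open Cfsg

universe u

namespace Cfsg.Agent.S1947

open Cfsg.Agent.Lib.Helper68 Cfsg.Agent.Lib.Helper2
open Subgroup
open scoped commutatorElement

/-- a central commutator of elements of coprime orders is trivial -/
theorem commutator_eq_one_of_central {G : Type*} [Group G] (x y : G)
    (hz : ⁅x, y⁆ ∈ Subgroup.center G) (hcop : (orderOf x).Coprime (orderOf y)) : ⁅x, y⁆ = 1 := by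
  set z := ⁅x, y⁆ with hzdef
  rw [Subgroup.mem_center_iff] at hz
  have h1 : x * y * x⁻¹ = z * y := by rw [hzdef, commutatorElement_def]; group
  have h2 : y * x⁻¹ * y⁻¹ = x⁻¹ * z := by rw [hzdef, commutatorElement_def]; group
  have hzy : Commute z y := (hz y).symm
  have hzx : Commute x⁻¹ z := hz x⁻¹
  have e1 : z ^ orderOf y = 1 := by
    have : (x * y * x⁻¹) ^ orderOf y = (z * y) ^ orderOf y := by rw [h1]
    rw [conj_pow, pow_orderOf_eq_one, hzy.mul_pow, pow_orderOf_eq_one] at this
    simpa using this.symm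
  have e2 : z ^ orderOf x = 1 := by
    have : (y * x⁻¹ * y⁻¹) ^ orderOf x = (x⁻¹ * z) ^ orderOf x := by rw [h2]
    rw [conj_pow, hzx.mul_pow, inv_pow, pow_orderOf_eq_one] at this
    simpa using this.symm
  have d1 := orderOf_dvd_of_pow_eq_one e1
  have d2 := orderOf_dvd_of_pow_eq_one e2
  have : orderOf z ∣ 1 := by
    rw [← hcop.gcd_eq_one]
    exact Nat.dvd_gcd d2 d1
  exact orderOf_eq_one_iff.1 (Nat.dvd_one.1 this)

/-- `p`-elements of the hypercentre commute with `p'`-elements -/
theorem commute_of_mem_upperCentralSeries (p : ℕ) (hp : p.Prime) :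
    ∀ n : ℕ, ∀ (G : Type u) [Group G] [Finite G] (x y : G), x ∈ Subgroup.upperCentralSeries G n →
      (∃ k : ℕ, orderOf x = p ^ k) → (orderOf y).Coprime p → Commute x y := by
  intro n
  induction n with
  | zero =>
    intro G _ _ x y hx _ _
    rw [Subgroup.upperCentralSeries_zero, mem_bot] at hx
    rw [hx]; exact Commute.one_left y
  | succ n ih =>
    intro G _ _ x y hx ⟨k, hk⟩ hy
    have hx' : x ∈ comap (QuotientGroup.mk' (center G)) (Subgroup.upperCentralSeries (G ⧸ center G) n) := by
      rw [Subgroup.comap_upperCentralSeries_quotient_center]; exact hx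
    rw [mem_comap] at hx'
    have ho1 : ∃ j : ℕ, orderOf (QuotientGroup.mk' (center G) x) = p ^ j := by
      have hd : orderOf (QuotientGroup.mk' (center G) x) ∣ p ^ k := by
        rw [← hk]; exact orderOf_map_dvd _ x
      obtain ⟨j, _, hj⟩ := (Nat.dvd_prime_pow hp).1 hd
      exact ⟨j, hj⟩
    have ho2 : (orderOf (QuotientGroup.mk' (center G) y)).Coprime p :=
      Nat.Coprime.coprime_dvd_left (orderOf_map_dvd _ y) hy
    have hc := ih (G ⧸ center G) _ _ hx' ho1 ho2
    have hz : ⁅x, y⁆ ∈ center G := by
      rw [← QuotientGroup.ker_mk' (center G), MonoidHom.mem_ker, map_commutatorElement,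
        commutatorElement_eq_one_iff_commute]
      exact hc
    have hcop : (orderOf x).Coprime (orderOf y) := by
      rw [hk]; exact Nat.Coprime.pow_left k hy.symm
    exact commutatorElement_eq_one_iff_commute.1 (commutator_eq_one_of_central x y hz hcop)

/-- Let G be a finite group and p a prime. If every element of G of order dividing p (dividing 4 when p = 2) lies in some fixed term Z_n(G) of the upper central series, then G has a normal p-complement. -/
theorem result {G : Type*} [Group G] [Finite G] {p : ℕ} [Fact p.Prime] (n : ℕ)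
    (h : ∀ a : G, (a ^ p = 1 ∨ (p = 2 ∧ a ^ 4 = 1)) → a ∈ Subgroup.upperCentralSeries G n) : Cfsg.HasNormalPComplement p G := by
  have hp : p.Prime := Fact.out
  apply hasNormalPComplement_of_frobCond
  intro Q hQ y hyN hyo
  apply omega_theorem Q hQ y hyo hyN
  intro x _ hxo
  have hxZ : x ∈ Subgroup.upperCentralSeries G n := by
    apply h
    rcases hxo with h1 | ⟨h1, h2⟩
    · left; rw [← h1]; exact pow_orderOf_eq_one x
    · right; exact ⟨h1, by rw [← h2]; exact pow_orderOf_eq_one x⟩
  have hxk : ∃ k : ℕ, orderOf x = p ^ k := by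
    rcases hxo with h1 | ⟨h1, h2⟩
    · exact ⟨1, by rw [pow_one]; exact h1⟩
    · exact ⟨2, by rw [h1, h2]; norm_num⟩
  exact (commute_of_mem_upperCentralSeries p hp n G x y hxZ hxk hyo).eq.symm

end Cfsg.Agent.S1947
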