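-- Statement S1948 (row 1948).
import Cfsg.Statements.S1948
import Cfsg.Agent.Lib.Helper32.Burnside

set_option autoImplicit false
open Cfsg

namespace Cfsg.Agent.S1948

open Cfsg.Agent.Lib.Helper32 Cfsg.Agent.Lib.Helper33 Cfsg.Agent.Lib.Helper55

section
variable {G : Type*} [Group G]

theorem conj_mem_centralizer {S : Subgroup G} {n c : G}
    (hn : n ∈ Subgroup.normalizer (S : Set G)) (hc : c ∈ Subgroup.centralizer (S : Set G)) :
    n * c * n⁻¹ ∈ Subgroup.centralizer (S : Set G) := by
  rw [Subgroup.mem_centralizer_iff] at hc ⊢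
  intro s hs
  have hs' : n⁻¹ * s * n ∈ S := by
    have := (Subgroup.mem_normalizer_iff.mp (Subgroup.inv_mem _ hn) s).mp hs
    simpa using this
  have h := hc _ hs'
  calc s * (n * c * n⁻¹) = n * ((n⁻¹ * s * n) * c) * n⁻¹ := by group
    _ = n * (c * (n⁻¹ * s * n)) * n⁻¹ := by rw [h]
    _ = n * c * n⁻¹ * s := by group

theorem sylow_le_normalizer_centralizer (S : Subgroup G) :
    S ≤ Subgroup.normalizer ((Subgroup.centralizer (S : Set G) : Subgroup G) : Set G) := by
  intro s hs
  rw [Subgroup.mem_normalizer_iff]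
  intro c
  constructor
  · intro hc
    exact conj_mem_centralizer (Subgroup.le_normalizer hs) hc
  · intro hc
    have := conj_mem_centralizer (Subgroup.le_normalizer (S.inv_mem hs)) hc
    have e : s⁻¹ * (s * c * s⁻¹) * s⁻¹⁻¹ = c := by group
    rwa [e] at this

/-- If `G = N_G(S) O_{p'}(G)` for a Sylow `p`-subgroup `S`, then `C_G(S) ≤ O_{p'}(G) S`. -/
theorem centralizer_le_of_normalizer_sup [Finite G] {p : ℕ} [Fact p.Prime] (S : Sylow p G)
    (h : Subgroup.normalizer ((S : Subgroup G) : Set G) ⊔ Cfsg.pPrimeCore p G = ⊤) :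
    Subgroup.centralizer ((S : Subgroup G) : Set G) ≤ Cfsg.pPrimeCore p G ⊔ (S : Subgroup G) := by
  have hDn : (Cfsg.pPrimeCore p G).Normal := pPrimeCore_normal' p
  set D := Cfsg.pPrimeCore p G with hD
  set N := Subgroup.normalizer ((S : Subgroup G) : Set G) with hN
  set C := Subgroup.centralizer ((S : Subgroup G) : Set G) with hC
  have hSC : (S : Subgroup G) ≤ Subgroup.normalizer (C : Set G) := sylow_le_normalizer_centralizer _
  have hidx : ¬ p ∣ ((S : Subgroup G) ⊓ C).relIndex C := not_dvd_relIndex_inf_of_le_normalizer S C hSC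
  have hZp : IsPGroup p (((S : Subgroup G) ⊓ C).subgroupOf C) :=
    (S.isPGroup'.to_le inf_le_left).comap_subtype
  let PX : Sylow p C := hZp.toSylow hidx
  have hPXc : (PX : Subgroup C) ≤ Subgroup.center C := by
    intro z hz
    have hz' : (z : G) ∈ (S : Subgroup G) ⊓ C := Subgroup.mem_subgroupOf.mp hz
    rw [Subgroup.mem_center_iff]
    intro c
    apply Subtype.ext
    have hc : (c : G) ∈ Subgroup.centralizer ((S : Subgroup G) : Set G) := c.2
    rw [Subgroup.mem_centralizer_iff] at hc
    have := hc z hz'.1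
    simpa using this.symm
  obtain ⟨K, hKn, hKc, hKP, hKmem⟩ := exists_normal_pComplement_of_le_center PX hPXc
  set Y : Subgroup G := K.map C.subtype with hY
  have hYmem : ∀ g : G, g ∈ Y ↔ g ∈ C ∧ (orderOf g).Coprime p := by
    intro g
    constructor
    · rintro ⟨k, hk, rfl⟩
      refine ⟨k.2, ?_⟩
      have := (hKmem k).mp hk
      simpa using this
    · rintro ⟨hgC, hg⟩
      refine ⟨⟨g, hgC⟩, (hKmem _).mpr ?_, rfl⟩
      rwa [Subgroup.orderOf_mk]
  have hYcard : (Nat.card Y).Coprime p := by
    rw [hY, Subgroup.card_map_of_injective C.subtype_injective]; exact hKc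
  have hYN : ∀ n ∈ N, cj n Y = Y := by
    intro n hn
    refine Subgroup.eq_of_le_of_card_ge ?_ (by rw [card_cj])
    intro x hx
    rw [mem_cj', ] at hx
    obtain ⟨y, hy, rfl⟩ := hx
    obtain ⟨hyC, hyo⟩ := (hYmem y).mp hy
    refine (hYmem _).mpr ⟨conj_mem_centralizer hn hyC, ?_⟩
    have : SemiconjBy n y (n * y * n⁻¹) := by
      show n * y = n * y * n⁻¹ * n
      group
    rw [← this.orderOf_eq n]; exact hyo
  have hYDn : (Y ⊔ D).Normal := by
    rw [← Subgroup.normalizer_eq_top_iff, eq_top_iff, ← h]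
    refine sup_le ?_ ?_
    · intro n hn
      rw [← cj_eq_self_iff, cj_sup, hYN n hn]
      congr 1
      exact cj_eq_self_iff.mpr (by rw [Subgroup.normalizer_eq_top_iff.mpr hDn]; exact Subgroup.mem_top n)
    · exact (le_sup_right : D ≤ Y ⊔ D).trans Subgroup.le_normalizer
  have hYD : Y ⊔ D ≤ D := by
    have := hYDn
    apply le_pPrimeCore p
    exact Nat.Coprime.coprime_dvd_left (card_sup_dvd_mul Y D)
      (Nat.Coprime.mul_left hYcard (pPrimeCore_card_coprime p))
  have hYleD : Y ≤ D := le_sup_left.trans hYD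
  have hCeq : C = Y ⊔ ((S : Subgroup G) ⊓ C) := by
    have h1 := congrArg (Subgroup.map C.subtype) hKP
    rw [Subgroup.map_sup] at h1
    have h2 : ((PX : Subgroup C)).map C.subtype = (S : Subgroup G) ⊓ C :=
      Subgroup.map_subgroupOf_eq_of_le inf_le_right
    have h3 : (⊤ : Subgroup C).map C.subtype = C := by
      rw [← MonoidHom.range_eq_map, Subgroup.range_subtype]
    rw [h2, h3] at h1
    exact h1.symm
  rw [hCeq]
  exact sup_le (hYleD.trans le_sup_left) (inf_le_left.trans le_sup_right)

end

/-- Let S be a Sylow p-subgroup of the finite group G. Then G = N_G(S)·O_{p'}(G) if and only if G is p-constrained and N_G(S) controls fusion in S, in the sense that whenever a subgroup Q of S has a conjugate g Q g⁻¹ inside S, the element g is a product n c with n normalizing S and c centralizing Q. -/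
theorem result {G : Type*} [Group G] [Finite G] {p : ℕ} [Fact p.Prime] (S : Sylow p G) :
    Subgroup.normalizer ((S : Subgroup G) : Set G) ⊔ Cfsg.pPrimeCore p G = ⊤ ↔
      (Cfsg.IsPConstrained p G ∧
        ∀ Q : Subgroup G, Q ≤ (S : Subgroup G) → ∀ g : G, Q.map (MulAut.conj g).toMonoidHom ≤ (S : Subgroup G) →
          ∃ n ∈ Subgroup.normalizer ((S : Subgroup G) : Set G), ∃ c ∈ Subgroup.centralizer (Q : Set G), g = n * c) := by
  have hRn : (Cfsg.pPrimePCore p G).Normal := pPrimePCore_normal p G
  have hDn : (Cfsg.pPrimeCore p G).Normal := pPrimeCore_normal' p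
  set D := Cfsg.pPrimeCore p G with hD
  set R := Cfsg.pPrimePCore p G with hR
  set N := Subgroup.normalizer ((S : Subgroup G) : Set G) with hN
  have hSp : IsPGroup p (S : Subgroup G) := S.isPGroup'
  have hDS : D ⊓ (S : Subgroup G) = ⊥ := pPrimeCore_inf_eq_bot hSp
  constructor
  · intro h
    -- D ⊔ S is normal, hence S ≤ R and R = D ⊔ S
    have hDSn : (D ⊔ (S : Subgroup G)).Normal := by
      rw [← Subgroup.normalizer_eq_top_iff, eq_top_iff, ← h]
      refine sup_le ?_ ?_
      · intro n hn
        rw [← cj_eq_self_iff, cj_sup, cj_eq_self_iff.mpr hn]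
        congr 1
        exact cj_eq_self_iff.mpr (by rw [Subgroup.normalizer_eq_top_iff.mpr hDn]; exact Subgroup.mem_top n)
      · exact (le_sup_left : D ≤ D ⊔ (S : Subgroup G)).trans Subgroup.le_normalizer
    have hDSR : D ⊔ (S : Subgroup G) ≤ R := by
      have h1 : ((D ⊔ (S : Subgroup G)).map (QuotientGroup.mk' D)).Normal :=
        hDSn.map _ (QuotientGroup.mk'_surjective D)
      have h2 : IsPGroup p ((D ⊔ (S : Subgroup G)).map (QuotientGroup.mk' D)) := by
        rw [Subgroup.map_sup]
        have : D.map (QuotientGroup.mk' D) = ⊥ := by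
          rw [Subgroup.map_eq_bot_iff, QuotientGroup.ker_mk']
        rw [this, bot_sup_eq]
        exact hSp.map _
      have h3 : (D ⊔ (S : Subgroup G)).map (QuotientGroup.mk' D) ≤ Cfsg.pCore p (G ⧸ D) :=
        le_pCore p _ h2
      exact (Subgroup.le_comap_map _ _).trans (Subgroup.comap_mono h3)
    have hSR : (S : Subgroup G) ≤ R := le_sup_right.trans hDSR
    have hReq : R = D ⊔ (S : Subgroup G) := by
      have := pPrimeCore_sup_sylow_inf S
      rw [inf_eq_left.mpr hSR] at this
      exact this.symm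
    have hCS : Subgroup.centralizer ((S : Subgroup G) : Set G) ≤ R := by
      rw [hReq]; exact centralizer_le_of_normalizer_sup S h
    refine ⟨?_, ?_⟩
    · -- p-constrained
      intro P₀
      set P' : Subgroup G := (P₀ : Subgroup R).map R.subtype with hP'
      have hP'R : P' ≤ R := Subgroup.map_subtype_le _
      have hP'p : IsPGroup p P' := P₀.isPGroup'.map _
      have hP'idx : ¬ p ∣ P'.relIndex R := by
        have e : P'.subgroupOf R = (P₀ : Subgroup R) := by
          rw [hP', Subgroup.subgroupOf, Subgroup.comap_map_eq_self_of_injective R.subtype_injective]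
        rw [Subgroup.relIndex, e]
        exact P₀.not_dvd_index
      obtain ⟨c, hcR, hc⟩ := sylow_sub hP'R hP'p hP'idx hSR hSp
      have h1 : Subgroup.centralizer (P' : Set G) ≤
          Subgroup.centralizer ((cj c (S : Subgroup G) : Subgroup G) : Set G) :=
        Subgroup.centralizer_le hc
      rw [centralizer_cj] at h1
      refine h1.trans ?_
      intro x hx
      rw [mem_cj] at hx
      have h2 : c⁻¹ * x * c ∈ R := hCS hx
      have e : x = c * (c⁻¹ * x * c) * c⁻¹ := by group
      rw [e]
      exact hRn.conj_mem _ h2 c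
    · -- control of fusion
      intro Q hQS g hg
      have hgm : g ∈ N ⊔ D := by rw [h]; exact Subgroup.mem_top g
      obtain ⟨n, hn, d, hd, rfl⟩ := Subgroup.mem_sup_of_normal_right.mp hgm
      refine ⟨n, hn, d, ?_, rfl⟩
      rw [Subgroup.mem_centralizer_iff]
      intro x hx
      have h1 : n * d * x * (n * d)⁻¹ ∈ (S : Subgroup G) := hg ⟨x, hx, rfl⟩
      have h2 : d * x * d⁻¹ ∈ (S : Subgroup G) := by
        have := (Subgroup.mem_normalizer_iff.mp (Subgroup.inv_mem _ hn) _).mp h1
        have e : n⁻¹ * (n * d * x * (n * d)⁻¹) * n⁻¹⁻¹ = d * x * d⁻¹ := by group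
        rwa [e] at this
      have h3 : d * x * d⁻¹ * x⁻¹ ∈ D ⊓ (S : Subgroup G) := by
        refine ⟨?_, Subgroup.mul_mem _ h2 (Subgroup.inv_mem _ (hQS hx))⟩
        have : d * x * d⁻¹ * x⁻¹ = d * (x * d⁻¹ * x⁻¹) := by group
        rw [this]
        exact D.mul_mem hd (hDn.conj_mem _ (D.inv_mem hd) x)
      rw [hDS, Subgroup.mem_bot] at h3
      calc x * d = (d * x * d⁻¹ * x⁻¹)⁻¹ * (d * x) := by group
        _ = d * x := by rw [h3, inv_one, one_mul]
  · rintro ⟨hcon, hctl⟩
    set H : Subgroup G := (S : Subgroup G) ⊓ R with hH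
    have hHp : IsPGroup p H := hSp.to_le inf_le_left
    have hHidx : ¬ p ∣ H.relIndex R := not_dvd_relIndex_inf_normal S R
    have hHR : H ≤ R := inf_le_right
    let HS : Sylow p R := (hHp.comap_subtype (K := R)).toSylow hHidx
    have hHSmap : ((HS : Subgroup R).map R.subtype) = H := Subgroup.map_subgroupOf_eq_of_le hHR
    have hFr : Subgroup.normalizer (H : Set G) ⊔ R = ⊤ := by
      have := Sylow.normalizer_sup_eq_top HS
      rwa [hHSmap] at this
    have hDH : D ⊔ H = R := pPrimeCore_sup_sylow_inf S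
    have hCH : Subgroup.centralizer (H : Set G) ≤ R := by
      have := hcon HS
      rwa [hHSmap] at this
    have hSN : (S : Subgroup G) ≤ N := Subgroup.le_normalizer
    have hNH : Subgroup.normalizer (H : Set G) ≤ N ⊔ D := by
      intro g hg
      have hgH : H.map (MulAut.conj g).toMonoidHom ≤ (S : Subgroup G) := by
        have : cj g H = H := cj_eq_self_iff.mpr hg
        change cj g H ≤ _
        rw [this]; exact inf_le_left
      obtain ⟨n, hn, c, hc, rfl⟩ := hctl H inf_le_left g hgH
      have hcR : c ∈ D ⊔ H := by rw [hDH]; exact hCH hc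
      refine Subgroup.mul_mem _ (Subgroup.mem_sup_left hn) ?_
      have : D ⊔ H ≤ N ⊔ D := sup_le le_sup_right ((inf_le_left.trans hSN).trans le_sup_left)
      exact this hcR
    rw [eq_top_iff, ← hFr]
    refine sup_le hNH ?_
    rw [← hDH]
    exact sup_le le_sup_right ((inf_le_left.trans hSN).trans le_sup_left)

end Cfsg.Agent.S1948
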