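import Mathlib
import Cfsg.Statements.S1949
import Cfsg.Agent.Lib.Helper68.Omega
import Cfsg.Agent.Lib.Helper32.PGroupCenter

set_option autoImplicit false
set_option maxHeartbeats 1000000
open Cfsg
open scoped commutatorElement

namespace Cfsg.Agent.S1949

open Cfsg.Agent.Lib.Helper68

section aux
variable {P : Type*} [Group P]

theorem fix_right [Finite P] {p : ℕ} [Fact p.Prime] (hP : IsPGroup p P)
    (α : MulAut P) (hα : (orderOf α).Coprime p) (x w : P) (h1 : α x = x * w) (h2 : α w = w) :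
    w = 1 := by
  have hpow : ∀ k : ℕ, (α ^ k) x = x * w ^ k := by
    intro k
    induction k with
    | zero => simp
    | succ k ih =>
      rw [pow_succ', MulAut.mul_apply, ih, map_mul, map_pow, h1, h2, pow_succ', mul_assoc]
  have h := hpow (orderOf α)
  rw [pow_orderOf_eq_one, MulAut.one_apply] at h
  have hw : w ^ orderOf α = 1 := by
    have h' : x * w ^ orderOf α = x * 1 := by rw [mul_one]; exact h.symm
    exact mul_left_cancel h'
  obtain ⟨k, hk⟩ := hP w
  have h1' : orderOf w ∣ orderOf α := orderOf_dvd_of_pow_eq_one hw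
  have h2' : orderOf w ∣ p ^ k := orderOf_dvd_of_pow_eq_one hk
  have h3 : orderOf w ∣ Nat.gcd (orderOf α) (p ^ k) := Nat.dvd_gcd h1' h2'
  have hc : Nat.Coprime (orderOf α) (p ^ k) := Nat.Coprime.pow_right k hα
  rw [hc.gcd_eq_one] at h3
  exact orderOf_eq_one_iff.1 (Nat.dvd_one.1 h3)

theorem fix_left [Finite P] {p : ℕ} [Fact p.Prime] (hP : IsPGroup p P)
    (α : MulAut P) (hα : (orderOf α).Coprime p) (x w : P) (h1 : α x = w * x) (h2 : α w = w) :
    w = 1 := by
  have hpow : ∀ k : ℕ, (α ^ k) x = w ^ k * x := by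
    intro k
    induction k with
    | zero => simp
    | succ k ih =>
      rw [pow_succ', MulAut.mul_apply, ih, map_mul, map_pow, h1, h2, pow_succ, mul_assoc]
  have h := hpow (orderOf α)
  rw [pow_orderOf_eq_one, MulAut.one_apply] at h
  have hw : w ^ orderOf α = 1 := by
    have h' : w ^ orderOf α * x = 1 * x := by rw [one_mul]; exact h.symm
    exact mul_right_cancel h'
  obtain ⟨k, hk⟩ := hP w
  have h1' : orderOf w ∣ orderOf α := orderOf_dvd_of_pow_eq_one hw
  have h2' : orderOf w ∣ p ^ k := orderOf_dvd_of_pow_eq_one hk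
  have h3 : orderOf w ∣ Nat.gcd (orderOf α) (p ^ k) := Nat.dvd_gcd h1' h2'
  have hc : Nat.Coprime (orderOf α) (p ^ k) := Nat.Coprime.pow_right k hα
  rw [hc.gcd_eq_one] at h3
  exact orderOf_eq_one_iff.1 (Nat.dvd_one.1 h3)

theorem pow_fix (α : MulAut P) (a : P) (h : α a = a) (j : ℕ) : (α ^ j) a = a := by
  induction j with
  | zero => simp
  | succ j ih => rw [pow_succ', MulAut.mul_apply, ih, h]

theorem comm_pow_class2 (a b : P) (hcb : Commute ⁅b, a⁆ b) (n : ℕ) : ⁅b, a⁆ ^ n = ⁅b ^ n, a⁆ := by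
  have h := pow_mul_class2 a b hcb n
  calc ⁅b, a⁆ ^ n = ⁅b, a⁆ ^ n * a * b ^ n * (b ^ n)⁻¹ * a⁻¹ := by
        rw [mul_inv_cancel_right, mul_inv_cancel_right]
    _ = b ^ n * a * (b ^ n)⁻¹ * a⁻¹ := by rw [← h]
    _ = ⁅b ^ n, a⁆ := (commutatorElement_def _ _).symm

def GInv (G : Subgroup (MulAut P)) (H : Subgroup P) : Prop := ∀ α ∈ G, ∀ x ∈ H, α x ∈ H

theorem GInv.map_eq {G : Subgroup (MulAut P)} {H : Subgroup P} (h : GInv G H) {α : MulAut P}
    (hα : α ∈ G) : H.map α.toMonoidHom = H := by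
  apply le_antisymm
  · rintro _ ⟨x, hx, rfl⟩
    exact h α hα x hx
  · intro x hx
    refine ⟨α⁻¹ x, h α⁻¹ (G.inv_mem hα) x hx, ?_⟩
    simp

theorem GInv.normal {G : Subgroup (MulAut P)} (hG : Cfsg.Inn P ≤ G) {H : Subgroup P}
    (h : GInv G H) : H.Normal := by
  constructor
  intro n hn g
  have := h (MulAut.conj g) (hG ⟨g, rfl⟩) n hn
  simpa [MulAut.conj_apply] using this

theorem GInv.centralizer {G : Subgroup (MulAut P)} {H : Subgroup P} (h : GInv G H) :
    GInv G (Subgroup.centralizer (H : Set P)) := by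
  intro α hα x hx
  rw [Subgroup.mem_centralizer_iff] at hx ⊢
  intro c hc
  have hc' : α⁻¹ c ∈ H := h α⁻¹ (G.inv_mem hα) c hc
  have h1 := hx (α⁻¹ c) hc'
  have h2 := congrArg α h1
  simpa using h2

theorem GInv.inf {G : Subgroup (MulAut P)} {A B : Subgroup P} (h1 : GInv G A) (h2 : GInv G B) :
    GInv G (A ⊓ B) := fun α hα x hx =>
  ⟨h1 α hα x (Subgroup.mem_inf.1 hx).1, h2 α hα x (Subgroup.mem_inf.1 hx).2⟩

theorem pResidual_conj_mem {H : Type*} [Group H] (p : ℕ) (g h : H)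
    (hg : g ∈ Cfsg.pResidual p H) : h * g * h⁻¹ ∈ Cfsg.pResidual p H := by
  unfold Cfsg.pResidual at hg ⊢
  induction hg using Subgroup.closure_induction with
  | mem x hx =>
    apply Subgroup.subset_closure
    show Nat.Coprime (orderOf (h * x * h⁻¹)) p
    have h1 : orderOf (h * x * h⁻¹) = orderOf x := by
      have := MulEquiv.orderOf_eq (MulAut.conj h) x
      simpa [MulAut.conj_apply] using this
    rw [h1]; exact hx
  | one => simp
  | mul x y _ _ hx hy =>
    have h1 : h * (x * y) * h⁻¹ = (h * x * h⁻¹) * (h * y * h⁻¹) := by group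
    rw [h1]; exact Subgroup.mul_mem _ hx hy
  | inv x _ hx =>
    have h1 : h * x⁻¹ * h⁻¹ = (h * x * h⁻¹)⁻¹ := by group
    rw [h1]; exact Subgroup.inv_mem _ hx

def Kset (p : ℕ) (G : Subgroup (MulAut P)) : Set P :=
  {y : P | ∃ α ∈ Cfsg.pResidual p ↥G, ∃ x : P, y = x⁻¹ * (α : MulAut P) x}

theorem K_inv (p : ℕ) (G : Subgroup (MulAut P)) : GInv G (Subgroup.closure (Kset p G)) := by
  intro β hβ y hy
  induction hy using Subgroup.closure_induction with
  | mem y hy =>
    obtain ⟨α, hα, x, rfl⟩ := hy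
    apply Subgroup.subset_closure
    refine ⟨⟨β, hβ⟩ * α * ⟨β, hβ⟩⁻¹, pResidual_conj_mem p α ⟨β, hβ⟩ hα, β x, ?_⟩
    simp [MulAut.mul_apply]
  | one => simp
  | mul a b _ _ ha hb => rw [map_mul]; exact Subgroup.mul_mem _ ha hb
  | inv a _ ha => rw [map_inv]; exact Subgroup.inv_mem _ ha

theorem eq_one_of_fix_K [Finite P] {p : ℕ} [Fact p.Prime] (hP : IsPGroup p P)
    (G : Subgroup (MulAut P)) (α : MulAut P) (hαG : α ∈ G) (hα : (orderOf α).Coprime p)
    (hfix : ∀ y ∈ Subgroup.closure (Kset p G), α y = y) : α = 1 := by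
  ext x
  have hy : x⁻¹ * α x ∈ Subgroup.closure (Kset p G) := by
    apply Subgroup.subset_closure
    refine ⟨⟨α, hαG⟩, ?_, x, rfl⟩
    apply Subgroup.subset_closure
    show Nat.Coprime (orderOf (⟨α, hαG⟩ : ↥G)) p
    rw [Subgroup.orderOf_mk]; exact hα
  have hw := fix_right hP α hα x (x⁻¹ * α x) (by group) (hfix _ hy)
  rw [MulAut.one_apply]
  calc α x = x * (x⁻¹ * α x) := by group
    _ = x := by rw [hw, mul_one]

/-- the relative critical subgroup -/
def critSub (p : ℕ) (K A : Subgroup P) [hA : A.Normal] : Subgroup P where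
  carrier := {x | x ∈ K ∧ x ∈ Subgroup.centralizer (A : Set P) ∧ (∀ y : P, ⁅x, y⁆ ∈ A) ∧ x ^ p ∈ A}
  one_mem' := ⟨K.one_mem, Subgroup.one_mem _, fun y => by simp [A.one_mem], by simp [A.one_mem]⟩
  mul_mem' := by
    rintro x z ⟨hxK, hxc, hxcomm, hxp⟩ ⟨hzK, hzc, hzcomm, hzp⟩
    refine ⟨K.mul_mem hxK hzK, Subgroup.mul_mem _ hxc hzc, ?_, ?_⟩
    · intro y
      have h1 : ⁅x * z, y⁆ = x * ⁅z, y⁆ * x⁻¹ * ⁅x, y⁆ := by
        simp only [commutatorElement_def]; group
      rw [h1]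
      exact A.mul_mem (hA.conj_mem _ (hzcomm y) x) (hxcomm y)
    · have hc : ⁅z, x⁆ ∈ A := hzcomm x
      have hca : Commute ⁅z, x⁆ x := (Subgroup.mem_centralizer_iff.1 hxc) _ hc
      have hcb : Commute ⁅z, x⁆ z := (Subgroup.mem_centralizer_iff.1 hzc) _ hc
      rw [mul_pow_class2 x z hca hcb p]
      exact A.mul_mem (A.mul_mem hxp hzp) (A.pow_mem hc _)
  inv_mem' := by
    rintro x ⟨hxK, hxc, hxcomm, hxp⟩
    refine ⟨K.inv_mem hxK, Subgroup.inv_mem _ hxc, ?_, ?_⟩
    · intro y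
      have h1 : ⁅x⁻¹, y⁆ = x⁻¹ * ⁅x, y⁆⁻¹ * x⁻¹⁻¹ := by
        simp only [commutatorElement_def]; group
      rw [h1]
      exact hA.conj_mem _ (A.inv_mem (hxcomm y)) x⁻¹
    · rw [inv_pow]; exact A.inv_mem hxp

/-- the omega subgroup of a class-two group -/
def omegaSub (p : ℕ) [hp : Fact p.Prime] (C A : Subgroup P)
    (h1 : ∀ x ∈ C, ∀ y ∈ C, ⁅x, y⁆ ∈ A) (h2 : ∀ x ∈ C, x ^ p ∈ A)
    (h3 : A ≤ Subgroup.centralizer (C : Set P)) : Subgroup P where
  carrier := {x | x ∈ C ∧ x ^ eExp p = 1}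
  one_mem' := ⟨C.one_mem, one_pow _⟩
  mul_mem' := by
    rintro x y ⟨hx, hxe⟩ ⟨hy, hye⟩
    refine ⟨C.mul_mem hx hy, ?_⟩
    have hc : ⁅y, x⁆ ∈ A := h1 y hy x hx
    have hcc : ∀ u ∈ C, Commute ⁅y, x⁆ u := fun u hu =>
      ((Subgroup.mem_centralizer_iff.1 (h3 hc)) u hu).symm
    have hcp : ⁅y, x⁆ ^ p = 1 := by
      rw [comm_pow_class2 x y (hcc y hy) p, commutatorElement_eq_one_iff_commute]
      exact ((Subgroup.mem_centralizer_iff.1 (h3 (h2 y hy))) x hx).symm
    rw [mul_pow_eExp hp.out x y (hcc x hx) (hcc y hy) hcp, hxe, hye, mul_one]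
  inv_mem' := by
    rintro x ⟨hx, hxe⟩
    exact ⟨C.inv_mem hx, by rw [inv_pow, hxe, inv_one]⟩

end aux

/-- Let P be a finite p-group and G a group of automorphisms of P containing the inner automorphisms. Then there is a G-invariant subgroup D of P, contained in the subgroup generated by the elements x⁻¹α(x) with x in P and α in O^p(G), of exponent dividing p when p is odd and dividing 4 when p = 2, with [D, P] ≤ Z(D), such that every automorphism in G of order prime to p that fixes D elementwise is the identity; moreover every maximal abelian subgroup A of D is normal in P and every automorphism in G fixing A elementwise has p-power order. -/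
theorem result {P : Type*} [Group P] [Finite P] {p : ℕ} [Fact p.Prime] (hP : IsPGroup p P)
    (G : Subgroup (MulAut P)) (hG : Cfsg.Inn P ≤ G) :
    ∃ D : Subgroup P,
      (∀ α ∈ G, D.map α.toMonoidHom = D) ∧
      D ≤ Subgroup.closure {y : P | ∃ α ∈ Cfsg.pResidual p ↥G, ∃ x : P, y = x⁻¹ * (α : MulAut P) x} ∧
      (∀ d ∈ D, d ^ p = 1 ∨ (p = 2 ∧ d ^ 4 = 1)) ∧
      ⁅D, (⊤ : Subgroup P)⁆ ≤ D ⊓ Subgroup.centralizer (D : Set P) ∧
      (∀ α ∈ G, (orderOf α).Coprime p → (∀ d ∈ D, α d = d) → α = 1) ∧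
      ∀ A : Subgroup P, A ≤ D → IsMulCommutative ↥A →
        (∀ B : Subgroup P, A ≤ B → B ≤ D → IsMulCommutative ↥B → B = A) →
        A.Normal ∧ ∀ α ∈ G, (∀ a ∈ A, α a = a) → ∃ k : ℕ, orderOf α = p ^ k := by
  classical
  have hp : p.Prime := Fact.out
  set K : Subgroup P := Subgroup.closure (Kset p G) with hK
  have hKinv : GInv G K := K_inv p G
  let Fam : Set (Subgroup P) := {A | A ≤ K ∧ GInv G A ∧ ∀ a ∈ A, ∀ b ∈ A, a * b = b * a}
  have hFne : Fam.Nonempty := by
    refine ⟨⊥, bot_le, ?_, ?_⟩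
    · intro α _ x hx
      rw [Subgroup.mem_bot] at hx ⊢
      rw [hx, map_one]
    · intro a ha b hb
      rw [Subgroup.mem_bot] at ha hb
      rw [ha, hb]
  obtain ⟨A₀, hA₀max⟩ := (Set.toFinite Fam).exists_maximal hFne
  obtain ⟨hA₀K, hA₀inv, hA₀comm⟩ := hA₀max.prop
  haveI hA₀n : A₀.Normal := hA₀inv.normal hG
  have hA₀cent : A₀ ≤ Subgroup.centralizer (A₀ : Set P) := by
    intro a ha
    rw [Subgroup.mem_centralizer_iff]
    intro b hb
    exact hA₀comm b hb a ha
  set C : Subgroup P := critSub p K A₀ with hCdef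
  have hCK : C ≤ K := fun x hx => hx.1
  have hCcent : C ≤ Subgroup.centralizer (A₀ : Set P) := fun x hx => hx.2.1
  have hCA : ∀ x ∈ C, ∀ y : P, ⁅x, y⁆ ∈ A₀ := fun x hx y => hx.2.2.1 y
  have hCp : ∀ x ∈ C, x ^ p ∈ A₀ := fun x hx => hx.2.2.2
  have hCinv : GInv G C := by
    intro β hβ x hx
    obtain ⟨hxK, hxc, hxcomm, hxp⟩ := hx
    refine ⟨hKinv β hβ x hxK, hA₀inv.centralizer β hβ x hxc, ?_, ?_⟩
    · intro y
      have h1 : ⁅β x, y⁆ = β ⁅x, β⁻¹ y⁆ := by
        rw [map_commutatorElement]; simp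
      rw [h1]; exact hA₀inv β hβ _ (hxcomm _)
    · rw [← map_pow]; exact hA₀inv β hβ _ hxp
  haveI hCn : C.Normal := hCinv.normal hG
  have hA₀C : A₀ ≤ C := by
    intro a ha
    refine ⟨hA₀K ha, hA₀cent ha, fun y => ?_, A₀.pow_mem ha p⟩
    have h1 : ⁅a, y⁆ = a * (y * a⁻¹ * y⁻¹) := by rw [commutatorElement_def]; group
    rw [h1]
    exact A₀.mul_mem ha (hA₀n.conj_mem _ (A₀.inv_mem ha) y)
  have hA₀cC : A₀ ≤ Subgroup.centralizer (C : Set P) := Subgroup.le_centralizer_iff.1 hCcent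
  -- Z(C) = A₀
  have hZC : C ⊓ Subgroup.centralizer (C : Set P) ≤ A₀ := by
    have hmem : (C ⊓ Subgroup.centralizer (C : Set P)) ∈ Fam := by
      refine ⟨fun x hx => hCK (Subgroup.mem_inf.1 hx).1, hCinv.inf hCinv.centralizer, ?_⟩
      intro a ha b hb
      exact (Subgroup.mem_centralizer_iff.1 (Subgroup.mem_inf.1 hb).2) a (Subgroup.mem_inf.1 ha).1
    exact hA₀max.2 hmem (le_inf hA₀C hA₀cC)
  -- C_K(C) ≤ C
  have hCKC : K ⊓ Subgroup.centralizer (C : Set P) ≤ C := by
    set Q := K ⊓ Subgroup.centralizer (C : Set P) with hQ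
    by_contra hnot
    obtain ⟨x, hxQ, hxC⟩ := SetLike.not_le_iff_exists.1 hnot
    haveI hQn : Q.Normal := (hKinv.inf hCinv.centralizer).normal hG
    let q := QuotientGroup.mk' A₀
    have hPq : IsPGroup p (P ⧸ A₀) := hP.to_quotient A₀
    haveI : (Q.map q).Normal := Subgroup.Normal.map hQn q (QuotientGroup.mk'_surjective A₀)
    have hQne : Q.map q ≠ ⊥ := by
      intro h
      have h1 : q x ∈ Q.map q := Subgroup.mem_map_of_mem q hxQ
      rw [h, Subgroup.mem_bot] at h1
      exact hxC (hA₀C ((QuotientGroup.eq_one_iff x).1 h1))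
    obtain ⟨z, hzQ, hzc, hz1⟩ :=
      Cfsg.Agent.Lib.Helper32.exists_ne_one_mem_normal_inf_center hPq (Q.map q) hQne
    obtain ⟨k, hk⟩ := (IsPGroup.iff_orderOf.1 hPq) z
    have hkpos : 0 < k := by
      rcases Nat.eq_zero_or_pos k with h0 | h0
      · rw [h0, pow_zero, orderOf_eq_one_iff] at hk; exact absurd hk hz1
      · exact h0
    set z' := z ^ (p ^ (k - 1)) with hz'
    have hz'p : z' ^ p = 1 := by
      rw [hz', ← pow_mul, ← pow_succ, Nat.sub_add_cancel hkpos, ← hk, pow_orderOf_eq_one]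
    have hz'1 : z' ≠ 1 := by
      intro h
      have hd : orderOf z ∣ p ^ (k - 1) := orderOf_dvd_of_pow_eq_one h
      rw [hk] at hd
      have := (Nat.pow_dvd_pow_iff_le_right hp.one_lt).1 hd
      omega
    have hz'Q : z' ∈ Q.map q := Subgroup.pow_mem _ hzQ _
    have hz'c : z' ∈ Subgroup.center (P ⧸ A₀) := Subgroup.pow_mem _ hzc _
    obtain ⟨w, hwQ, hwz⟩ := Subgroup.mem_map.1 hz'Q
    have hwQ' := Subgroup.mem_inf.1 hwQ
    have hwC : w ∈ C := by
      refine ⟨hwQ'.1, ?_, ?_, ?_⟩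
      · exact Subgroup.centralizer_le (show (A₀ : Set P) ⊆ C from hA₀C) hwQ'.2
      · intro y
        apply (QuotientGroup.eq_one_iff _).1
        show q ⁅w, y⁆ = 1
        rw [map_commutatorElement, hwz, commutatorElement_eq_one_iff_commute]
        exact (Subgroup.mem_center_iff.1 hz'c (q y)).symm
      · apply (QuotientGroup.eq_one_iff _).1
        show q (w ^ p) = 1
        rw [map_pow, hwz, hz'p]
    have hwA : w ∈ A₀ := hZC (Subgroup.mem_inf.2 ⟨hwC, hwQ'.2⟩)
    apply hz'1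
    rw [← hwz]
    exact (QuotientGroup.eq_one_iff w).2 hwA
  -- D
  set D : Subgroup P := omegaSub p C A₀ (fun x hx y _ => hCA x hx y) hCp hA₀cC with hDdef
  have hDC : D ≤ C := fun x hx => hx.1
  have hDinv : GInv G D := by
    intro β hβ x hx
    exact ⟨hCinv β hβ x hx.1, by rw [← map_pow, hx.2, map_one]⟩
  haveI hDn : D.Normal := hDinv.normal hG
  have he_dvd : p ∣ eExp p := Dvd.intro _ rfl
  have hDmem : ∀ w ∈ C, w ^ p = 1 → w ∈ D := by
    intro w hw hwp
    refine ⟨hw, ?_⟩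
    obtain ⟨m, hm⟩ := he_dvd
    rw [hm, pow_mul, hwp, one_pow]
  have hcomm4 : ⁅D, (⊤ : Subgroup P)⁆ ≤ D ⊓ Subgroup.centralizer (D : Set P) := by
    rw [Subgroup.commutator_le]
    intro d hd y _
    refine Subgroup.mem_inf.2 ⟨?_, ?_⟩
    · have h1 : ⁅d, y⁆ = d * (y * d⁻¹ * y⁻¹) := by rw [commutatorElement_def]; group
      rw [h1]
      exact D.mul_mem hd (hDn.conj_mem _ (D.inv_mem hd) y)
    · exact Subgroup.centralizer_le (show (D : Set P) ⊆ C from hDC) (hA₀cC (hCA d (hDC hd) y))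
  have hfaith : ∀ α ∈ G, (orderOf α).Coprime p → (∀ d ∈ D, α d = d) → α = 1 := by
    intro α hαG hα hfixD
    have hfixA : ∀ k : ℕ, ∀ a ∈ A₀, a ^ (p ^ k) = 1 → α a = a := by
      intro k
      induction k with
      | zero => intro a _ h; rw [pow_zero, pow_one] at h; rw [h, map_one]
      | succ k ih =>
        intro a ha h
        have hb : α (a ^ p) = a ^ p := by
          apply ih _ (A₀.pow_mem ha p)
          rw [← pow_mul, ← pow_succ']; exact h
        have hαa : α a ∈ A₀ := hA₀inv α hαG a ha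
        have hwA : a⁻¹ * α a ∈ A₀ := A₀.mul_mem (A₀.inv_mem ha) hαa
        have hwp : (a⁻¹ * α a) ^ p = 1 := by
          have hcomm : Commute a⁻¹ (α a) := hA₀comm _ (A₀.inv_mem ha) _ hαa
          rw [hcomm.mul_pow, ← map_pow, hb, inv_pow, inv_mul_cancel]
        have hwfix : α (a⁻¹ * α a) = a⁻¹ * α a := hfixD _ (hDmem _ (hA₀C hwA) hwp)
        have h1 := fix_right hP α hα a (a⁻¹ * α a) (by group) hwfix
        calc α a = a * (a⁻¹ * α a) := by group
          _ = a := by rw [h1, mul_one]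
    have hfixA' : ∀ a ∈ A₀, α a = a := by
      intro a ha
      obtain ⟨k, hk⟩ := hP a
      exact hfixA k a ha hk
    have hfixC : ∀ x ∈ C, α x = x := by
      intro x hx
      have hαx : α x ∈ C := hCinv α hαG x hx
      have hwC : x⁻¹ * α x ∈ C := C.mul_mem (C.inv_mem hx) hαx
      have hcA : ⁅α x, x⁻¹⁆ ∈ A₀ := hCA _ hαx _
      have hcc : ∀ y ∈ C, Commute ⁅α x, x⁻¹⁆ y := fun y hy =>
        ((Subgroup.mem_centralizer_iff.1 (hA₀cC hcA)) y hy).symm
      have hxp : α (x ^ p) = x ^ p := hfixA' _ (hCp x hx)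
      have hcp : ⁅α x, x⁻¹⁆ ^ p = 1 := by
        rw [comm_pow_class2 x⁻¹ (α x) (hcc _ hαx) p, ← map_pow, hxp,
          commutatorElement_eq_one_iff_commute]
        exact ((Commute.refl x).pow_left p).inv_right
      have hwe : (x⁻¹ * α x) ^ eExp p = 1 := by
        rw [mul_pow_eExp hp x⁻¹ (α x) (hcc _ (C.inv_mem hx)) (hcc _ hαx) hcp, ← map_pow, inv_pow]
        have h2 : α (x ^ eExp p) = x ^ eExp p := by
          obtain ⟨m, hm⟩ := he_dvd
          rw [hm, pow_mul]
          exact hfixA' _ (A₀.pow_mem (hCp x hx) m)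
        rw [h2, inv_mul_cancel]
      have hwfix : α (x⁻¹ * α x) = x⁻¹ * α x := hfixD _ ⟨hwC, hwe⟩
      have h1 := fix_right hP α hα x (x⁻¹ * α x) (by group) hwfix
      calc α x = x * (x⁻¹ * α x) := by group
        _ = x := by rw [h1, mul_one]
    have hfixK : ∀ k ∈ K, α k = k := by
      intro k hk
      have hαk : α k ∈ K := hKinv α hαG k hk
      have hwK : α k * k⁻¹ ∈ K := K.mul_mem hαk (K.inv_mem hk)
      have hwcent : α k * k⁻¹ ∈ Subgroup.centralizer (C : Set P) := by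
        rw [Subgroup.mem_centralizer_iff]
        intro c hc
        have hv : k⁻¹ * c * k ∈ C := by simpa using hCn.conj_mem c hc k⁻¹
        have h1 := hfixC _ hv
        simp only [map_mul, map_inv] at h1
        rw [hfixC c hc] at h1
        calc c * (α k * k⁻¹) = α k * ((α k)⁻¹ * c * α k) * k⁻¹ := by group
          _ = α k * (k⁻¹ * c * k) * k⁻¹ := by rw [h1]
          _ = α k * k⁻¹ * c := by group
      have hwC : α k * k⁻¹ ∈ C := hCKC (Subgroup.mem_inf.2 ⟨hwK, hwcent⟩)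
      have hwfix : α (α k * k⁻¹) = α k * k⁻¹ := hfixC _ hwC
      have h1 := fix_left hP α hα k (α k * k⁻¹) (by group) hwfix
      calc α k = (α k * k⁻¹) * k := by group
        _ = k := by rw [h1, one_mul]
    exact eq_one_of_fix_K hP G α hαG hα hfixK
  refine ⟨D, fun α hα => hDinv.map_eq hα, fun x hx => hCK (hDC hx), ?_, hcomm4, hfaith, ?_⟩
  · intro d hd
    have hde : d ^ eExp p = 1 := hd.2
    by_cases h2 : p = 2
    · right
      refine ⟨h2, ?_⟩
      have he : eExp p = 4 := by unfold eExp; rw [if_pos h2, h2]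
      rw [← he]; exact hde
    · left
      have he : eExp p = p := by unfold eExp; rw [if_neg h2, mul_one]
      rw [he] at hde; exact hde
  · intro A hAD hAcomm hAmax
    have hAc : ∀ a ∈ A, ∀ b ∈ A, a * b = b * a := by
      intro a ha b hb
      have := hAcomm.is_comm.comm (⟨a, ha⟩ : A) ⟨b, hb⟩
      exact congrArg Subtype.val this
    have hAcent : A ≤ Subgroup.centralizer (A : Set P) := fun a ha =>
      Subgroup.mem_centralizer_iff.2 (fun b hb => hAc b hb a ha)
    have hsup : ∀ Z : Subgroup P, Z ≤ D → Z ≤ Subgroup.centralizer (A : Set P) →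
        Z ≤ Subgroup.centralizer (Z : Set P) → Z ≤ A := by
      intro Z hZD hZA hZZ
      have hB : A ⊔ Z ≤ Subgroup.centralizer ((A ⊔ Z : Subgroup P) : Set P) := by
        apply sup_le
        · rw [Subgroup.le_centralizer_iff]; exact sup_le hAcent hZA
        · rw [Subgroup.le_centralizer_iff]
          exact sup_le (Subgroup.le_centralizer_iff.1 hZA) hZZ
      have hBcomm : IsMulCommutative ↥(A ⊔ Z) :=
        ⟨⟨fun a b => Subtype.ext ((Subgroup.mem_centralizer_iff.1 (hB b.2)) a a.2)⟩⟩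
      have h1 := hAmax (A ⊔ Z) le_sup_left (sup_le hAD hZD) hBcomm
      rw [← h1]; exact le_sup_right
    have hZDA : D ⊓ Subgroup.centralizer (D : Set P) ≤ A := by
      apply hsup _ inf_le_left
      · exact inf_le_right.trans (Subgroup.centralizer_le (show (A : Set P) ⊆ D from hAD))
      · exact inf_le_right.trans (Subgroup.centralizer_le
          (show ((D ⊓ Subgroup.centralizer (D : Set P) : Subgroup P) : Set P) ⊆ D from inf_le_left))
    have hAn : A.Normal := by
      constructor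
      intro a ha y
      have h1 : ⁅a, y⁆ ∈ A :=
        hZDA (hcomm4 (Subgroup.commutator_mem_commutator (hAD ha) (Subgroup.mem_top y)))
      have h2 : y * a * y⁻¹ = ⁅a, y⁆⁻¹ * a := by rw [commutatorElement_def]; group
      rw [h2]; exact A.mul_mem (A.inv_mem h1) ha
    refine ⟨hAn, ?_⟩
    intro α hαG hfixA
    haveI : Finite (MulAut P) := Finite.of_injective (fun f : MulAut P => (f : P → P)) DFunLike.coe_injective
    have hn : orderOf α ≠ 0 := (orderOf_pos α).ne'
    obtain ⟨k, m, hm, hkm⟩ := Nat.exists_eq_pow_mul_and_not_dvd hn p hp.ne_one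
    have hβG : α ^ (p ^ k) ∈ G := G.pow_mem hαG _
    have hβord : orderOf (α ^ (p ^ k)) = m := by
      rw [orderOf_pow' _ (pow_pos hp.pos k).ne', hkm, Nat.gcd_eq_right (Dvd.intro _ rfl),
        Nat.mul_div_cancel_left _ (pow_pos hp.pos k)]
    have hβcop : (orderOf (α ^ (p ^ k))).Coprime p := by
      rw [hβord]; exact ((Nat.Prime.coprime_iff_not_dvd hp).2 hm).symm
    have hβfixA : ∀ a ∈ A, (α ^ (p ^ k)) a = a := fun a ha => pow_fix α a (hfixA a ha) _
    have hβfixD : ∀ d ∈ D, (α ^ (p ^ k)) d = d := by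
      intro x hx
      set β := α ^ (p ^ k) with hβ
      have hβx : β x ∈ D := hDinv β hβG x hx
      have hwD : β x * x⁻¹ ∈ D := D.mul_mem hβx (D.inv_mem hx)
      have hwcA : β x * x⁻¹ ∈ Subgroup.centralizer (A : Set P) := by
        rw [Subgroup.mem_centralizer_iff]
        intro a ha
        have hv : x⁻¹ * a * x ∈ A := by simpa using hAn.conj_mem a ha x⁻¹
        have h1 := hβfixA _ hv
        simp only [map_mul, map_inv] at h1
        rw [hβfixA a ha] at h1
        calc a * (β x * x⁻¹) = β x * ((β x)⁻¹ * a * β x) * x⁻¹ := by group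
          _ = β x * (x⁻¹ * a * x) * x⁻¹ := by rw [h1]
          _ = β x * x⁻¹ * a := by group
      have hwA : β x * x⁻¹ ∈ A := by
        have h1 := hsup (Subgroup.zpowers (β x * x⁻¹)) (Subgroup.zpowers_le.2 hwD)
          (Subgroup.zpowers_le.2 hwcA) ?_
        · exact h1 (Subgroup.mem_zpowers _)
        · rw [Subgroup.zpowers_le, Subgroup.mem_centralizer_iff]
          intro h hh
          obtain ⟨i, rfl⟩ := Subgroup.mem_zpowers_iff.1 hh
          exact ((Commute.refl (β x * x⁻¹)).zpow_left i).eq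
      have hwfix : β (β x * x⁻¹) = β x * x⁻¹ := hβfixA _ hwA
      have h1 := fix_left hP β hβcop x (β x * x⁻¹) (by group) hwfix
      calc β x = (β x * x⁻¹) * x := by group
        _ = x := by rw [h1, one_mul]
    have hβ1 : α ^ (p ^ k) = 1 := hfaith _ hβG hβcop hβfixD
    refine ⟨k, ?_⟩
    have hm1 : m = 1 := by rw [← hβord, hβ1, orderOf_one]
    rw [hkm, hm1, mul_one]

end Cfsg.Agent.S1949
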