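import Cfsg.Statements.S3080
import Cfsg.Agent.Lib.Helper11.LocalControl
import Cfsg.Agent.Lib.Helper11.DPart
import Cfsg.Agent.Lib.Helper33.SecLift
import Cfsg.Agent.S1961
import Cfsg.Agent.S3082
import Cfsg.Agent.S0658

set_option autoImplicit false
open Cfsg

namespace Cfsg.Agent.S3080

open Cfsg.Agent.Lib.Helper11 Cfsg.Agent.Lib.Helper33

/-- Generic form: control of strong fusion by `N_G(zQ Q D)`. -/
theorem main {G : Type*} [Group G] [Finite G] {p : ℕ} [Fact p.Prime] (P : Sylow p G)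
    (D : Subgroup G) (hD : IsStronglyClosed D (P : Subgroup G)) (hDne : D ≠ ⊥)
    (hc : ∀ U : Subgroup G, U ≤ (P : Subgroup G) → U ≠ ⊥ →
      IsPConstrained p ↥(Subgroup.normalizer (U : Set G)))
    (Q : Subgroup G → Prop) (hWz : IsConjugacyFunctor p (zQ Q))
    (hloc : ∀ (M : Subgroup G), IsPConstrained p ↥M → ∀ (S : Sylow p ↥M) (E : Subgroup G),
      E ≤ M → IsStronglyClosed (E.subgroupOf M) (S : Subgroup ↥M) →
      ∃ V : Subgroup ↥M, V ≤ E.subgroupOf M ∧ V.map M.subtype = zQ Q E ∧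
        (V.map (QuotientGroup.mk' (pPrimeCore p ↥M))).Normal) :
    ∀ A : Set G, A ⊆ (P : Subgroup G) →
      ControlsStrongFusionOf (Subgroup.normalizer (zQ Q D : Set G)) (P : Subgroup G) A := by
  obtain ⟨W, hWdef⟩ : ∃ W : Subgroup G → Subgroup G, W = dW (zQ Q) (P : Subgroup G) D := ⟨_, rfl⟩
  have hW : IsConjugacyFunctor p W := hWdef ▸ isConjugacyFunctor_dW hWz (P : Subgroup G) D
  have hlocal : ∀ T : Subgroup G, T ≠ ⊥ → IsWellPlaced p W (P : Subgroup G) T →
      ControlsStrongFusionIn p W (Subgroup.normalizer ((T : Subgroup G) : Set G)) := by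
    intro T hT1 hwp
    have hTP : T ≤ (P : Subgroup G) := hwp.1
    have hFN : ¬ p ∣ ((P : Subgroup G) ⊓ Subgroup.normalizer (T : Set G)).relIndex
        (Subgroup.normalizer (T : Set G)) := hwp.2 0
    obtain ⟨M, hM⟩ : ∃ M : Subgroup G, M = Subgroup.normalizer (T : Set G) := ⟨_, rfl⟩
    obtain ⟨R, hR⟩ : ∃ R : Subgroup G, R = (P : Subgroup G) ⊓ M := ⟨_, rfl⟩
    rw [← hM] at hFN ⊢
    rw [← hR] at hFN
    have hRM : R ≤ M := hR ▸ inf_le_right
    have hRP : R ≤ (P : Subgroup G) := hR ▸ inf_le_left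
    have hRp : IsPGroup p R := P.2.to_le hRP
    refine ⟨R, hRM, hRp, hFN, ?_⟩
    intro A h hhM hA hAh
    obtain ⟨S, hS⟩ := exists_sylow_of_not_dvd_relIndex hRM hRp hFN
    have hdne : dPart (P : Subgroup G) D R ≠ ⊥ := by
      apply dPart_ne_bot P hD hDne hRP
      intro z hz hzc
      rw [hR]
      refine ⟨hz, ?_⟩
      rw [hM]
      apply Subgroup.centralizer_le_normalizer
      rw [Subgroup.mem_centralizer_iff]
      intro t ht
      exact hzc t (hTP ht)
    have hWR : W R = zQ Q (R ⊓ D) := by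
      rw [hWdef, dW_of_ne_bot hdne, dPart_eq_self hD hRP]
    obtain ⟨E, hE⟩ : ∃ E : Subgroup G, E = R ⊓ D := ⟨_, rfl⟩
    have hEM : E ≤ M := hE ▸ (inf_le_left.trans hRM)
    have hSmap : (S : Subgroup ↥M).map M.subtype ≤ (P : Subgroup G) := by
      rw [hS, Subgroup.map_subgroupOf_eq_of_le hRM]; exact hRP
    have hEsc : IsStronglyClosed (E.subgroupOf M) (S : Subgroup ↥M) := by
      have h1 := stronglyClosed_subgroupOf hD M (S : Subgroup ↥M) hSmap
      have h2 : E.subgroupOf M = D.subgroupOf M ⊓ (S : Subgroup ↥M) := by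
        rw [hS, hE]
        ext x
        simp only [Subgroup.mem_subgroupOf, Subgroup.mem_inf]
        exact and_comm
      rw [h2]; exact h1
    have hcM : IsPConstrained p ↥M := hM ▸ hc T hTP hT1
    obtain ⟨V, hVE, hVmap, hVn⟩ := hloc M hcM S E hEM hEsc
    have hVS : V ≤ (S : Subgroup ↥M) := hVE.trans hEsc.1
    obtain ⟨x, hxN, hx⟩ := control_of_map_normal S V hVS hVn {y : ↥M | (y : G) ∈ A} ⟨h, hhM⟩
      (by
        intro y hy
        rw [SetLike.mem_coe, hS, Subgroup.mem_subgroupOf]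
        exact hA hy)
      (by
        intro y hy
        rw [hS, Subgroup.mem_subgroupOf]
        exact hAh ⟨(y : G), hy, rfl⟩)
    refine ⟨(x : G), ⟨x.2, ?_⟩, ?_⟩
    · rw [hWR, ← hE, ← hVmap]
      exact Subgroup.le_normalizer_map M.subtype ⟨x, hxN, rfl⟩
    · intro a ha
      have haM : a ∈ M := hRM (hA ha)
      have := hx ⟨a, haM⟩ ha
      exact congrArg Subtype.val this
  have hctl := Cfsg.Agent.S1961.result P W hW hlocal
  have htr := csf_transport hW hctl (T1 := (P : Subgroup G)) le_top P.2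
    (sylow_not_dvd_relIndex P le_top)
  have hWP : W (P : Subgroup G) = zQ Q D := by
    have h1 : dPart (P : Subgroup G) D (P : Subgroup G) = D := by
      rw [dPart_eq_self hD le_rfl]; exact inf_eq_right.mpr hD.1
    have h2 : dPart (P : Subgroup G) D (P : Subgroup G) ≠ ⊥ := by rw [h1]; exact hDne
    rw [hWdef, dW_of_ne_bot h2, h1]
  intro A hA
  refine ⟨hA, ?_⟩
  intro g hg
  obtain ⟨x, hx, hxa⟩ := htr A g⁻¹ (Subgroup.mem_top _) hA (by
    rw [rc_def]
    rintro _ ⟨a, ha, rfl⟩
    rw [inv_inv]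
    exact hg ⟨a, ha, rfl⟩)
  rw [hWP] at hx
  refine ⟨x⁻¹, Subgroup.inv_mem _ hx.2, ?_⟩
  intro a ha
  have := hxa a ha
  rw [inv_inv] at this ⊢
  exact this.symm

/-- Let p be an odd prime, G a finite group that is p-stable in the normalizer form, P a Sylow p-subgroup such that N_G(U) is p-constrained for every nontrivial subgroup U of P, and D a subgroup of P strongly closed in P with respect to G. Then N_G(Z(J(D))) controls strong G-fusion in P (for every subset A of P and every g ∈ G with gAg⁻¹ ⊆ P, some element of that normalizer acts on A exactly as g does; J(D) is generated by the abelian subgroups of D of largest order), and so does N_G(Ω₁(Z(J_e(D)))) (J_e(D) generated by the elementary abelian subgroups of largest order). -/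
theorem result {G : Type*} [Group G] [Finite G] {p : ℕ} [Fact p.Prime] (hp : p ≠ 2) (P : Sylow p G) (D : Subgroup G) (hD : Cfsg.IsStronglyClosed D (P : Subgroup G)) (hst : Cfsg.IsNormalizerPStable p G) (hc : ∀ U : Subgroup G, U ≤ (P : Subgroup G) → U ≠ ⊥ → Cfsg.IsPConstrained p ↥(Subgroup.normalizer (U : Set G))) : (∀ A : Set G, A ⊆ (P : Subgroup G) → Cfsg.ControlsStrongFusionOf (Subgroup.normalizer ((Cfsg.centerThompsonAOf D) : Set G)) (P : Subgroup G) A) ∧ (∀ A : Set G, A ⊆ (P : Subgroup G) → Cfsg.ControlsStrongFusionOf (Subgroup.normalizer ((Cfsg.omegaOne p (Cfsg.centerThompsonOf p D)) : Set G)) (P : Subgroup G) A) := by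
  have hDp : IsPGroup p D := P.isPGroup'.to_le hD.1
  rw [Cfsg.Agent.S0653.centerThompsonAOf_eq_zQ, Cfsg.Agent.S3079.omegaOne_centerThompsonOf_eq_zQ D hDp]
  by_cases hDne : D = ⊥
  · have htriv : ∀ (Z : Subgroup G), Z ≤ D → ∀ A : Set G, A ⊆ (P : Subgroup G) →
        ControlsStrongFusionOf (Subgroup.normalizer (Z : Set G)) (P : Subgroup G) A := by
      intro Z hZ A hA
      have hZ1 : Z = ⊥ := le_bot_iff.mp (hDne ▸ hZ)
      refine ⟨hA, fun g _ => ⟨g, ?_, fun a _ => rfl⟩⟩
      rw [hZ1, Subgroup.normalizer_eq_top]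
      exact Subgroup.mem_top g
    exact ⟨htriv _ (zQ_le Cfsg.Agent.S0653.isMulCommutative_bot' D),
      htriv _ (zQ_le (Cfsg.Agent.S0654.isElementaryAbelian_bot' p) D)⟩
  constructor
  · refine main P D hD hDne hc _ ?_ ?_
    · apply isConjugacyFunctor_zQ Cfsg.Agent.S0653.isMulCommutative_bot'
      · intro φ X hX
        have := hX
        infer_instance
      · intro R hR hne
        exact Cfsg.Agent.S0658.zQ_ne_bot hR hne
    · intro M hcM S E hEM hEsc
      refine ⟨zQ (fun X : Subgroup ↥M => IsMulCommutative X) (E.subgroupOf M),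
        zQ_le Cfsg.Agent.S0653.isMulCommutative_bot' _, ?_, ?_⟩
      · have h1 := Cfsg.Agent.S0659.zQ_map_comm M.subtype (E.subgroupOf M)
          (fun x _ hx => Subtype.ext hx)
        rw [Subgroup.map_subgroupOf_eq_of_le hEM] at h1
        exact h1.symm
      · exact (local_zj hp (isNormalizerPStable_subgroup M hst) hcM S _ hEsc).1
  · refine main P D hD hDne hc _ ?_ ?_
    · apply isConjugacyFunctor_zQ (Cfsg.Agent.S0654.isElementaryAbelian_bot' p)
      · intro φ X hX
        exact (isElementaryAbelian_map_of_injective p φ.toMonoidHom φ.injective X).mpr hX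
      · intro R hR hne
        exact Cfsg.Agent.S3082.zQ_ea_ne_bot hR hne
    · intro M hcM S E hEM hEsc
      refine ⟨zQ (fun X : Subgroup ↥M => IsElementaryAbelian p X) (E.subgroupOf M),
        zQ_le (Cfsg.Agent.S0654.isElementaryAbelian_bot' p) _, ?_, ?_⟩
      · have h1 := zQ_map_ea_injOn p M.subtype (E.subgroupOf M)
          (fun x _ hx => Subtype.ext hx)
        rw [Subgroup.map_subgroupOf_eq_of_le hEM] at h1
        exact h1.symm
      · exact (local_zj hp (isNormalizerPStable_subgroup M hst) hcM S _ hEsc).2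

end Cfsg.Agent.S3080
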