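import Cfsg.Statements.S3081
import Cfsg.Agent.Lib.Helper51.QdClosed
import Cfsg.Agent.Lib.Helper51.QdStab
import Cfsg.Agent.S3080
import Cfsg.Agent.S3079
import Cfsg.Agent.S0659
-- import your own Cfsg.Agent.* helpers here

set_option autoImplicit false
open Cfsg

namespace Cfsg.Agent.S3081

open Cfsg.Agent.Lib.Helper11 Cfsg.Agent.Lib.Helper33 Cfsg.Agent.Lib.Helper51

universe u

/-- the functor `Z(J(·))` (abelian version) satisfies the hypotheses of the master theorem -/
theorem zfun_comm {p : ℕ} [Fact p.Prime] (hp : p ≠ 2) :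
    ZFun.{u} p (fun (X : Type u) [Group X] (E : Subgroup X) =>
      zQ (fun Y : Subgroup X => IsMulCommutative Y) E) := by
  refine ⟨?_, ?_, ?_, ?_⟩
  · intro X _ _ E
    exact zQ_le Cfsg.Agent.S0653.isMulCommutative_bot' E
  · intro X _ _ E hE hne
    exact Cfsg.Agent.S0658.zQ_ne_bot hE hne
  · intro X Y _ _ _ f E hinj
    exact Cfsg.Agent.S0659.zQ_map_comm f E hinj
  · intro X _ _ hqd hc P D hD
    apply zQ_normal_closed hp P _ _ D hD hc
    refine ⟨Cfsg.Agent.S0653.isMulCommutative_bot', fun _ h => h, ?_, ?_,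
      fun V _ hV => Cfsg.Agent.Lib.Helper51.QdStab.isPStableOn_qd hp hqd V hV⟩
    · intro φ Y hY
      have := hY
      infer_instance
    · intro A B b hset _
      have := hset.rStar_comm P.isPGroup' (fun h => absurd h hp)
      infer_instance

/-- the functor `Ω₁(Z(J_e(·)))` (elementary abelian version) satisfies the hypotheses of the
master theorem -/
theorem zfun_ea {p : ℕ} [Fact p.Prime] (hp : p ≠ 2) :
    ZFun.{u} p (fun (X : Type u) [Group X] (E : Subgroup X) =>
      zQ (fun Y : Subgroup X => IsElementaryAbelian p Y) E) := by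
  have hodd : Odd p := (Fact.out : p.Prime).odd_of_ne_two hp
  refine ⟨?_, ?_, ?_, ?_⟩
  · intro X _ _ E
    exact zQ_le (Cfsg.Agent.S0654.isElementaryAbelian_bot' p) E
  · intro X _ _ E hE hne
    exact Cfsg.Agent.S3082.zQ_ea_ne_bot hE hne
  · intro X Y _ _ _ f E hinj
    exact zQ_map_ea_injOn p f E hinj
  · intro X _ _ hqd hc P D hD
    apply zQ_normal_closed hp P _ _ D hD hc
    refine ⟨Cfsg.Agent.S0654.isElementaryAbelian_bot' p, fun _ h => h.1, ?_, ?_,
      fun V _ hV => Cfsg.Agent.Lib.Helper51.QdStab.isPStableOn_qd hp hqd V hV⟩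
    · intro φ Y hY
      exact (isElementaryAbelian_map_of_injective p φ.toMonoidHom φ.injective Y).mpr hY
    · intro A B b hset hA
      have hA' : IsElementaryAbelian p A :=
        (isElementaryAbelian_map_of_injective p _ (P : Subgroup X).subtype_injective A).mp hA
      apply (isElementaryAbelian_map_of_injective p _ (P : Subgroup X).subtype_injective _).mpr
      exact ⟨hset.rStar_comm P.isPGroup' (fun h => absurd h hp),
        fun x hx => hset.rStar_pow P.isPGroup' (fun h => absurd h hp) p hodd hA'.2 hx⟩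

/-- from the right-conjugation form to the statement's form -/
theorem csfo_of_ctl {G : Type*} [Group G] {P Z : Subgroup G} (h : Ctl P Z) :
    ∀ A : Set G, A ⊆ (P : Set G) →
      ControlsStrongFusionOf (Subgroup.normalizer (Z : Set G)) P A := by
  intro A hA
  refine ⟨hA, ?_⟩
  intro g hg
  obtain ⟨x, hx, hxa⟩ := h A g⁻¹ hA (by
    rw [rc_def]
    rintro _ ⟨a, ha, rfl⟩
    rw [inv_inv]
    exact hg ⟨a, ha, rfl⟩)
  refine ⟨x⁻¹, Subgroup.inv_mem _ hx, ?_⟩
  intro a ha
  have := hxa a ha
  rw [inv_inv] at this ⊢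
  exact this.symm

/-- Let p be an odd prime, G a finite group in which Qd(p) (the natural semidirect product of an elementary abelian group of order p² by SL₂(p)) is not involved, P a Sylow p-subgroup and D a subgroup of P strongly closed in P with respect to G. Then N_G(Z(J(D))) controls strong G-fusion in P (for every subset A of P and every g ∈ G with gAg⁻¹ ⊆ P, some element of that normalizer acts on A exactly as g does; J(D) is generated by the abelian subgroups of D of largest order), and so does N_G(Ω₁(Z(J_e(D)))) (J_e(D) generated by the elementary abelian subgroups of largest order). -/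
theorem result {G : Type*} [Group G] [Finite G] {p : ℕ} [Fact p.Prime] (hp : p ≠ 2) (P : Sylow p G) (D : Subgroup G) (hD : Cfsg.IsStronglyClosed D (P : Subgroup G)) (hqd : ¬ Cfsg.Involves ↥(Cfsg.qd p) G) : (∀ A : Set G, A ⊆ (P : Subgroup G) → Cfsg.ControlsStrongFusionOf (Subgroup.normalizer ((Cfsg.centerThompsonAOf D) : Set G)) (P : Subgroup G) A) ∧ (∀ A : Set G, A ⊆ (P : Subgroup G) → Cfsg.ControlsStrongFusionOf (Subgroup.normalizer ((Cfsg.omegaOne p (Cfsg.centerThompsonOf p D)) : Set G)) (P : Subgroup G) A) := by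
  have hDp : IsPGroup p D := P.isPGroup'.to_le hD.1
  rw [Cfsg.Agent.S0653.centerThompsonAOf_eq_zQ, Cfsg.Agent.S3079.omegaOne_centerThompsonOf_eq_zQ D hDp]
  constructor
  · exact csfo_of_ctl (closed_master (zfun_comm hp) _ G rfl hqd P D hD)
  · exact csfo_of_ctl (closed_master (zfun_ea hp) _ G rfl hqd P D hD)

end Cfsg.Agent.S3081
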