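import Cfsg.Statements.S1953
import Cfsg.Agent.Lib.Helper51.CrMain
import Cfsg.Agent.Lib.Helper51.CrSec
import Cfsg.Agent.S3081
-- import your own Cfsg.Agent.* helpers here

set_option autoImplicit false
open Cfsg

namespace Cfsg.Agent.S1953

open Cfsg.Agent.Lib.Helper51 Cfsg.Agent.Lib.Helper33 Cfsg.Agent.Lib.Helper11 in
/-- Let p be an odd prime and P a Sylow p-subgroup of the finite group G, and suppose that for no p-subgroup Q of G does N_G(Q)/C_G(Q) have a section isomorphic to SL₂(p). Call a subgroup Q of P centric-radical when Z(Q) is a Sylow p-subgroup of C_G(Q) and the only normal subgroup X of N_G(Q) containing Q·C_G(Q) such that the index of Q·C_G(Q) in X is a power of p is Q·C_G(Q) itself (that is, N_G(Q)/Q·C_G(Q) has no nontrivial normal p-subgroup). Then there is a centric-radical subgroup Q of P contained in every centric-radical subgroup of P; it is normal in P, and N_G(Q) controls strong fusion in P: whenever a subgroup A of P has g A g⁻¹ ≤ P, the element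 g is a product h c with h in N_G(Q) and c centralizing A. -/
theorem result {G : Type*} [Group G] [Finite G] {p : ℕ} [Fact p.Prime] (hp : p ≠ 2) (P : Sylow p G)
    (hfree : ∀ Q : Subgroup G, IsPGroup p ↥Q → ¬ ∃ (H K : Subgroup G) (_ : (K.subgroupOf H).Normal),
      Subgroup.centralizer (Q : Set G) ≤ K ∧ K ≤ H ∧ H ≤ Subgroup.normalizer (Q : Set G) ∧
      Nonempty ((↥H ⧸ K.subgroupOf H) ≃* Matrix.SpecialLinearGroup (Fin 2) (ZMod p)))
    (cr : Subgroup G → Prop)
    (hcr : ∀ Q : Subgroup G, cr Q ↔ (Q ≤ (P : Subgroup G) ∧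
      (∃ R : Sylow p ↥(Subgroup.centralizer (Q : Set G)),
        (R : Subgroup ↥(Subgroup.centralizer (Q : Set G))).map (Subgroup.centralizer (Q : Set G)).subtype = Q ⊓ Subgroup.centralizer (Q : Set G)) ∧
      ∀ X : Subgroup G, X ≤ Subgroup.normalizer (Q : Set G) →
        (∀ n ∈ Subgroup.normalizer (Q : Set G), X.map (MulAut.conj n).toMonoidHom = X) →
        Q ⊔ Subgroup.centralizer (Q : Set G) ≤ X → (∃ k : ℕ, (Q ⊔ Subgroup.centralizer (Q : Set G)).relIndex X = p ^ k) →
        X = Q ⊔ Subgroup.centralizer (Q : Set G))) :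
    ∃ Q : Subgroup G, cr Q ∧ (∀ R : Subgroup G, cr R → Q ≤ R) ∧ (∀ x ∈ (P : Subgroup G), Q.map (MulAut.conj x).toMonoidHom = Q) ∧
      ∀ A : Subgroup G, A ≤ (P : Subgroup G) → ∀ g : G, A.map (MulAut.conj g).toMonoidHom ≤ (P : Subgroup G) →
        ∃ h ∈ Subgroup.normalizer (Q : Set G), ∃ c ∈ Subgroup.centralizer (A : Set G), g = h * c := by
  have hqd : ¬ Involves ↥(qd p) G := by
    intro hinv
    obtain ⟨S, hSp, H, K, hn, h1, h2, h3, h4⟩ := section_of_involves_qd hinv
    exact hfree S hSp ⟨H, K, hn, h1, h2, h3, h4⟩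
  obtain ⟨Q, hQP, hQ, hcen, hrad⟩ :=
    exists_centric_radical_ctl (Cfsg.Agent.S3081.zfun_comm hp) hqd P
  have hPN : (P : Subgroup G) ≤ Subgroup.normalizer (Q : Set G) := le_normalizer_of_ctl hQP hQ
  refine ⟨Q, ?_, ?_, ?_, ?_⟩
  · rw [hcr]
    refine ⟨hQP, ?_, hrad⟩
    have hsyl : ¬ p ∣ ((P : Subgroup G) ⊓ Subgroup.centralizer (Q : Set G)).relIndex
        (Subgroup.centralizer (Q : Set G)) :=
      sylow_inf_normal (N := Subgroup.normalizer (Q : Set G)) hPN P.isPGroup'
        (sylow_not_dvd_relIndex P hPN) (Subgroup.centralizer_le_normalizer _)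
        (normalizer_le_normalizer_centralizer Q)
    have heq : (P : Subgroup G) ⊓ Subgroup.centralizer (Q : Set G) =
        Q ⊓ Subgroup.centralizer (Q : Set G) :=
      le_antisymm (le_inf hcen inf_le_right) (inf_le_inf_right _ hQP)
    rw [heq] at hsyl
    obtain ⟨S, hS⟩ := exists_sylow_of_not_dvd_relIndex (inf_le_right)
      (P.isPGroup'.to_le (inf_le_left.trans hQP)) hsyl
    refine ⟨S, ?_⟩
    rw [hS, Subgroup.map_subgroupOf_eq_of_le inf_le_right]
  · intro R hR
    rw [hcr] at hR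
    exact le_of_centric_radical P Q hQP hQ R hR.1 hR.2.1 hR.2.2
  · intro x hx
    exact cj_eq_self_iff.mpr (hPN hx)
  · intro A hA g hAg
    obtain ⟨x, hx, hxa⟩ := hQ (A : Set G) g⁻¹ hA (by
      rw [rc_def]
      rintro _ ⟨a, ha, rfl⟩
      rw [inv_inv]
      exact hAg ⟨a, ha, rfl⟩)
    refine ⟨x⁻¹, Subgroup.inv_mem _ hx, x * g, ?_, by group⟩
    rw [Subgroup.mem_centralizer_iff]
    intro a ha
    have h1 := hxa a ha
    rw [inv_inv] at h1
    calc a * (x * g) = x * (x⁻¹ * a * x) * g := by group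
      _ = x * (g * a * g⁻¹) * g := by rw [h1]
      _ = x * g * a := by group

end Cfsg.Agent.S1953
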