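import Cfsg.Statements.S1954
import Cfsg.Agent.Lib.Helper33.NormalLift

set_option autoImplicit false
open Cfsg

namespace Cfsg.Agent.S1954

open Cfsg.Agent.Lib.Helper33 Subgroup

/-- Let N be a normal subgroup of the finite group G, P a Sylow p-subgroup of G, and V a subgroup of P ∩ N normal in P ∩ N such that N_N(V) controls strong fusion in P ∩ N with respect to N (whenever a subgroup A of P ∩ N has n A n⁻¹ ≤ P ∩ N for some n in N, then n = h c with h in N_N(V) and c in C_N(A)). Let W be the subgroup generated by the conjugates of V under N_G(P ∩ N). Then N_G(W) controls strong fusion in P with respect to G. -/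
theorem result {G : Type*} [Group G] [Finite G] {p : ℕ} [Fact p.Prime] (N : Subgroup G) [N.Normal] (P : Sylow p G) (V : Subgroup G)
    (hV : V ≤ (P : Subgroup G) ⊓ N) (hVn : ∀ x ∈ (P : Subgroup G) ⊓ N, V.map (MulAut.conj x).toMonoidHom = V)
    (hctrl : ∀ A : Subgroup G, A ≤ (P : Subgroup G) ⊓ N → ∀ n ∈ N, A.map (MulAut.conj n).toMonoidHom ≤ (P : Subgroup G) ⊓ N →
      ∃ h ∈ N ⊓ Subgroup.normalizer (V : Set G), ∃ c ∈ N ⊓ Subgroup.centralizer (A : Set G), n = h * c)
    (W : Subgroup G) (hW : W = Subgroup.closure (⋃ x ∈ Subgroup.normalizer (((P : Subgroup G) ⊓ N : Subgroup G) : Set G),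
      ((V.map (MulAut.conj x).toMonoidHom : Subgroup G) : Set G))) :
    ∀ A : Subgroup G, A ≤ (P : Subgroup G) → ∀ g : G, A.map (MulAut.conj g).toMonoidHom ≤ (P : Subgroup G) →
        ∃ h ∈ Subgroup.normalizer (W : Set G), ∃ c ∈ Subgroup.centralizer (A : Set G), g = h * c := by
  have hctrlV : Ctrl N ((P : Subgroup G) ⊓ N) (N ⊓ normalizer (V : Set G)) :=
    fun A hA n hn hAn => hctrl A hA n hn hAn
  obtain ⟨Vf, hVf⟩ : ∃ Vf : ↥(normalizer (((P : Subgroup G) ⊓ N : Subgroup G) : Set G)) → Subgroup G,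
      Vf = fun x : ↥(normalizer (((P : Subgroup G) ⊓ N : Subgroup G) : Set G)) => cj (x : G) V :=
    ⟨_, rfl⟩
  have hVfS : ∀ i, Vf i ≤ (P : Subgroup G) ⊓ N := by
    intro i
    rw [hVf]
    have := cj_eq_self_iff.mpr i.2
    calc cj (i : G) V ≤ cj (i : G) ((P : Subgroup G) ⊓ N) := cj_mono hV
      _ = (P : Subgroup G) ⊓ N := this
  have hVfc : ∀ i, Ctrl N ((P : Subgroup G) ⊓ N) (N ⊓ normalizer (Vf i : Set G)) := by
    intro i
    rw [hVf]
    exact ctrl_conj hctrlV i.2
  have hInf := ctrl_iInf Vf hVfS hVfc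
  have hWsup : W = ⨆ i, Vf i := by
    rw [hW, Subgroup.iSup_eq_closure, hVf]
    congr 1
    ext y
    simp only [Set.mem_iUnion, SetLike.mem_coe, Subtype.exists, exists_prop]
    rfl
  have hWS : W ≤ (P : Subgroup G) ⊓ N := by
    rw [hWsup]; exact iSup_le hVfS
  have hinfW : ⨅ i, normalizer (Vf i : Set G) ≤ normalizer (W : Set G) := by
    rw [hWsup]; exact Subgroup.iInf_normalizer_le_normalizer_iSup Vf
  have hWn : normalizer (((P : Subgroup G) ⊓ N : Subgroup G) : Set G) ≤ normalizer (W : Set G) := by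
    intro y hy
    rw [← cj_eq_self_iff]
    apply cj_eq_of_le
    rw [hWsup, cj_def, Subgroup.map_iSup]
    apply iSup_le
    intro i
    have h1 : (Vf i).map (MulAut.conj y).toMonoidHom = Vf ⟨y * (i : G), Subgroup.mul_mem _ hy i.2⟩ := by
      rw [hVf]
      show cj y (cj (i : G) V) = cj (y * (i : G)) V
      rw [cj_mul]
    rw [h1]
    exact le_iSup Vf _
  intro A hA g hAg
  exact normal_lift_controls N P W hWS hWn (hInf.mono (inf_le_inf_left N hinfW)) A hA g hAg

end Cfsg.Agent.S1954
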