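import Cfsg.Statements.S1962
import Cfsg.Agent.Lib.Helper33.Transfer

set_option autoImplicit false
open Cfsg
open Cfsg.Agent.Lib.Helper33
open scoped commutatorElement

namespace Cfsg.Agent.S1962

variable {G : Type*} [Group G]

theorem claim [Finite G] {p : ℕ} [Fact p.Prime] (S : Sylow p G) (W : Subgroup G → Subgroup G)
    (hW : Cfsg.IsConjugacyFunctor p W)
    (hloc : ∀ T : Subgroup G, T ≠ ⊥ → Cfsg.IsWellPlaced p W (S : Subgroup G) T →
      Cfsg.ControlsTransferIn p W (Subgroup.normalizer ((T : Subgroup G) : Set G))) (n : ℕ) :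
    ∀ T : Subgroup G, T ≠ ⊥ → Cfsg.IsWellPlaced p W (S : Subgroup G) T →
      Nat.card (S : Subgroup G) -
        Nat.card ((S : Subgroup G) ⊓ Subgroup.normalizer (T : Set G) : Subgroup G) = n →
      ((S : Subgroup G) ⊓ Subgroup.normalizer (T : Set G)) ⊓
        ⁅Subgroup.normalizer (T : Set G), Subgroup.normalizer (T : Set G)⁆ ≤
      (S : Subgroup G) ⊓ ⁅Subgroup.normalizer ((W (S : Subgroup G) : Subgroup G) : Set G),
        Subgroup.normalizer ((W (S : Subgroup G) : Subgroup G) : Set G)⁆ := by
  induction n using Nat.strong_induction_on with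
  | _ n ih =>
    intro T hTne hTwp hn
    set R := (S : Subgroup G) ⊓ Subgroup.normalizer (T : Set G) with hRdef
    have hRp : IsPGroup p R := S.isPGroup'.to_le inf_le_left
    have hTR : T ≤ R := le_inf hTwp.1 Subgroup.le_normalizer
    have hctl := ct_transport hW (hloc T hTne hTwp) (T1 := R) inf_le_right hRp (hTwp.2 0)
    rw [hctl]
    have hstep : R ⊓ ⁅Subgroup.normalizer (T : Set G) ⊓ Subgroup.normalizer ((W R : Subgroup G) : Set G),
        Subgroup.normalizer (T : Set G) ⊓ Subgroup.normalizer ((W R : Subgroup G) : Set G)⁆ ≤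
        R ⊓ ⁅Subgroup.normalizer ((W R : Subgroup G) : Set G),
          Subgroup.normalizer ((W R : Subgroup G) : Set G)⁆ :=
      inf_le_inf_left _ (Subgroup.commutator_mono inf_le_right inf_le_right)
    refine le_trans hstep ?_
    by_cases hRS : R = (S : Subgroup G)
    · rw [hRS]
    · have hRlt : R < (S : Subgroup G) := lt_of_le_of_ne inf_le_left hRS
      have hVR : W R ≤ R := functor_le hW hRp
      have hVS : W R ≤ (S : Subgroup G) := le_trans hVR inf_le_left
      have hwp' : Cfsg.IsWellPlaced p W (S : Subgroup G) (W R) :=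
        ((wellPlaced_iff W (S : Subgroup G) T hVS).mp hTwp).2.2
      have hRne : R ≠ ⊥ := by
        intro h
        apply hTne
        rw [eq_bot_iff, ← h]; exact hTR
      have hVne : W R ≠ ⊥ := (hW R hRp).2.1 hRne
      have hgrow := normalizer_growth S.isPGroup' hRlt
      have hNV : (S : Subgroup G) ⊓ Subgroup.normalizer (R : Set G) ≤
          (S : Subgroup G) ⊓ Subgroup.normalizer ((W R : Subgroup G) : Set G) :=
        inf_le_inf_left _ (normalizer_le_normalizer_functor hW hRp)
      have hlt : R < (S : Subgroup G) ⊓ Subgroup.normalizer ((W R : Subgroup G) : Set G) :=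
        lt_of_lt_of_le hgrow hNV
      have hc1 : Nat.card R <
          Nat.card ((S : Subgroup G) ⊓ Subgroup.normalizer ((W R : Subgroup G) : Set G) : Subgroup G) :=
        Set.Finite.card_lt_card (Set.toFinite _) hlt
      have hc2 : Nat.card ((S : Subgroup G) ⊓ Subgroup.normalizer ((W R : Subgroup G) : Set G) : Subgroup G) ≤
          Nat.card (S : Subgroup G) := Subgroup.card_le_of_le inf_le_left
      have := ih _ (by omega) (W R) hVne hwp' rfl
      exact le_trans (inf_le_inf_right _ hlt.le) this

/-- Local-to-global control of transfer through well-placed subgroups. Let p be a prime, G a finite group with Sylow p-subgroup S, and W a conjugacy functor for p on G. If W controls transfer in N_G(T) for every nonidentity subgroup T of S that is well placed in S with respect to W, then W controls transfer in G: S ∩ G' = S ∩ (N_G(W(S)))'. -/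
theorem result {G : Type*} [Group G] [Finite G] {p : ℕ} [Fact p.Prime] (S : Sylow p G) (W : Subgroup G → Subgroup G) (hW : Cfsg.IsConjugacyFunctor p W) (hloc : ∀ T : Subgroup G, T ≠ ⊥ → Cfsg.IsWellPlaced p W (S : Subgroup G) T → Cfsg.ControlsTransferIn p W (Subgroup.normalizer ((T : Subgroup G) : Set G))) : Cfsg.ControlsTransferIn p W ⊤ := by
  refine ⟨S, le_top, S.isPGroup', ?_, ?_⟩
  · rw [Subgroup.relIndex_top_right]
    exact S.not_dvd_index
  · rw [top_inf_eq]
    apply le_antisymm
    · -- focal subgroup theorem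
      have hfoc : (S : Subgroup G) ⊓ ⁅(⊤ : Subgroup G), ⊤⁆ = (S : Subgroup G).focalSubgroup := by
        rw [inf_comm]
        exact Subgroup.commutator_inf_eq_focalSubgroup S
      rw [hfoc, Subgroup.focalSubgroup_def, Subgroup.closure_le]
      rintro g ⟨hgS, x, hxS, u, rfl⟩
      -- ⁅x, u⁆ = x * (u * x⁻¹ * u⁻¹)
      have hux : u * x⁻¹ * u⁻¹ ∈ (S : Subgroup G) := by
        have e : u * x⁻¹ * u⁻¹ = x⁻¹ * ⁅x, u⁆ := by rw [commutatorElement_def]; group
        rw [e]
        exact Subgroup.mul_mem _ (Subgroup.inv_mem _ hxS) hgS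
      have h𝓕 : ∀ U ∈ {T : Subgroup G | Cfsg.IsWellPlaced p W (S : Subgroup G) T}, U ≤ (S : Subgroup G) :=
        fun U hU => hU.1
      have hA : ({x⁻¹} : Set G) ⊆ (S : Subgroup G) := by
        intro a ha
        rw [Set.mem_singleton_iff] at ha
        subst ha
        exact Subgroup.inv_mem _ hxS
      have hAg : rc u⁻¹ ({x⁻¹} : Set G) ⊆ (S : Subgroup G) := by
        rintro _ ⟨a, ha, rfl⟩
        rw [Set.mem_singleton_iff] at ha
        subst ha
        show u⁻¹⁻¹ * x⁻¹ * u⁻¹ ∈ (S : Subgroup G)
        rw [inv_inv]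
        exact hux
      have hreach := reach_of_fullyNormalized S _ h𝓕 (by
        intro T hT
        obtain ⟨k, hk, -⟩ := exists_wellPlaced S W hW T hT
        exact ⟨cj k T, hk, ⟨k, rfl⟩, hk.2 0⟩) _ u⁻¹ hA hAg
      have hgood : GoodT ((S : Subgroup G) ⊓
          ⁅Subgroup.normalizer ((W (S : Subgroup G) : Subgroup G) : Set G),
          Subgroup.normalizer ((W (S : Subgroup G) : Subgroup G) : Set G)⁆) ({x⁻¹} : Set G) u⁻¹ := by
        refine goodT_of_reach ?_ hreach
        intro T y B hT hy hB a ha
        by_cases hTne : T = ⊥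
        · have : a = 1 := by
            have := hB ha
            rw [hTne] at this
            simpa using this
          subst this
          simp
        · exact claim S W hW hloc _ T hTne hT rfl (comm_mem_inf_commutator hT.1 (hB ha) hy)
      have := hgood x⁻¹ rfl
      have e : ⁅x, u⁆ = x⁻¹⁻¹ * (u⁻¹⁻¹ * x⁻¹ * u⁻¹) := by rw [commutatorElement_def]; group
      rw [SetLike.mem_coe, e]
      exact this
    · exact inf_le_inf_left _ (Subgroup.commutator_mono le_top le_top)

end Cfsg.Agent.S1962
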