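import Cfsg.Statements.S1966

set_option autoImplicit false
open Cfsg

namespace Cfsg.Agent.S1966

theorem pCore_normal {G : Type*} [Group G] (p : ℕ) : (Cfsg.pCore p G).Normal := by
  unfold Cfsg.pCore
  exact Subgroup.sSup_normal _ (fun H hH => hH.1)

theorem pCore_le_sylow {G : Type*} [Group G] {p : ℕ} [Fact p.Prime] (S : Sylow p G) :
    Cfsg.pCore p G ≤ (S : Subgroup G) := by
  unfold Cfsg.pCore
  refine sSup_le ?_
  intro N hN
  haveI := hN.1
  exact hN.2.le_sylow_of_normal S

theorem pCore_conj_mem {G : Type*} [Group G] {p : ℕ} (q a : G) (ha : a ∈ Cfsg.pCore p G) :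
    q⁻¹ * a * q ∈ Cfsg.pCore p G := by
  have := (pCore_normal (G := G) p).conj_mem a ha q⁻¹
  simpa using this

/-- Let p be a prime, G a finite group with Sylow p-subgroup S and 𝓕 a conjugation family for S in G. Then the members of 𝓕 containing O_p(G) still form a conjugation family for S in G. -/
theorem result {G : Type*} [Group G] [Finite G] {p : ℕ} [Fact p.Prime] (S : Sylow p G) (𝓕 : Set (Subgroup G)) (h : Cfsg.IsConjugationFamily 𝓕 (S : Subgroup G)) : Cfsg.IsConjugationFamily {T : Subgroup G | T ∈ 𝓕 ∧ Cfsg.pCore p G ≤ T} (S : Subgroup G) := by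
  obtain ⟨h1, h2⟩ := h
  refine ⟨fun T hT => h1 T hT.1, ?_⟩
  intro A g hAne hAS hAg
  have hA' : (A ∪ (Cfsg.pCore p G : Set G)) ⊆ ((S : Subgroup G) : Set G) := by
    intro a ha
    rcases ha with ha | ha
    · exact hAS ha
    · exact pCore_le_sylow S ha
  have hA'g : (fun a => g⁻¹ * a * g) '' (A ∪ (Cfsg.pCore p G : Set G)) ⊆ ((S : Subgroup G) : Set G) := by
    rintro _ ⟨a, ha, rfl⟩
    rcases ha with ha | ha
    · exact hAg ⟨a, ha, rfl⟩
    · exact pCore_le_sylow S (pCore_conj_mem g a ha)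
  obtain ⟨n, T, x, hprod, hT, hx, h0, hstep⟩ := h2 (A ∪ (Cfsg.pCore p G : Set G)) g
    (hAne.mono Set.subset_union_left) hA' hA'g
  refine ⟨n, T, x, hprod, ?_, hx, ?_, ?_⟩
  · intro i
    refine ⟨hT i, ?_⟩
    rcases i with ⟨i, hi⟩
    cases i with
    | zero =>
      intro a ha
      exact h0 hi (Or.inr ha)
    | succ j =>
      intro a ha
      have hj : j < n := by omega
      have := hstep ⟨j, hj⟩ hi
      set q := ((List.ofFn x).take (j + 1)).prod with hq
      have ha' : q * a * q⁻¹ ∈ Cfsg.pCore p G := (pCore_normal (G := G) p).conj_mem a ha q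
      have hmem : (fun a => q⁻¹ * a * q) (q * a * q⁻¹) ∈
          (fun a => q⁻¹ * a * q) '' (A ∪ (Cfsg.pCore p G : Set G)) :=
        ⟨_, Or.inr ha', rfl⟩
      have h3 := this hmem
      simpa [mul_assoc] using h3
  · intro h
    exact Set.subset_union_left.trans (h0 h)
  · intro i hi
    refine (Set.image_mono ?_).trans (hstep i hi)
    exact Set.subset_union_left

end Cfsg.Agent.S1966
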