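import Cfsg.Statements.S1967
import Cfsg.Agent.Lib.Helper33.Conj

set_option autoImplicit false
open Cfsg
open Cfsg.Agent.Lib.Helper33

namespace Cfsg.Agent.S1967

/-- Let p be a prime, G a finite group with Sylow p-subgroup S and W a conjugacy functor for p on G. Then W controls strong fusion in G if and only if, whenever T ≤ S and g ∈ G satisfy gTg⁻¹ ≤ S, one can write g = n c with n ∈ N_G(W(S)) and c ∈ C_G(T). -/
theorem result {G : Type*} [Group G] [Finite G] {p : ℕ} [Fact p.Prime] (S : Sylow p G) (W : Subgroup G → Subgroup G) (hW : Cfsg.IsConjugacyFunctor p W) : Cfsg.ControlsStrongFusionIn p W ⊤ ↔ ∀ (T : Subgroup G) (g : G), T ≤ (S : Subgroup G) → T.map (MulAut.conj g).toMonoidHom ≤ (S : Subgroup G) → ∃ n ∈ Subgroup.normalizer ((W (S : Subgroup G) : Subgroup G) : Set G), ∃ c ∈ Subgroup.centralizer (T : Set G), g = n * c := by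
  constructor
  · rintro ⟨T0, -, hT0p, hT0i, hctl⟩ T g hTS hTg
    rw [Subgroup.relIndex_top_right] at hT0i
    obtain ⟨k, hk⟩ := sylow_exists_cj (hT0p.toSylow hT0i) S
    have hk' : cj k T0 = (S : Subgroup G) := hk
    -- A = k⁻¹ T k
    have hA : ((cj k⁻¹ T : Subgroup G) : Set G) ⊆ T0 := by
      intro a ha
      have : cj k⁻¹ T ≤ T0 := by
        rw [cj_le_iff, inv_inv, hk']; exact hTS
      exact this ha
    have hAh : (fun a => (k⁻¹ * g * k) * a * (k⁻¹ * g * k)⁻¹) '' ((cj k⁻¹ T : Subgroup G) : Set G) ⊆ T0 := by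
      rintro _ ⟨a, ha, rfl⟩
      have ha' : k * a * k⁻¹ ∈ T := by
        have := mem_cj.mp ha
        simpa using this
      have h1 : g * (k * a * k⁻¹) * g⁻¹ ∈ (S : Subgroup G) := hTg (conj_mem_cj ha')
      rw [← hk', mem_cj] at h1
      show (k⁻¹ * g * k) * a * (k⁻¹ * g * k)⁻¹ ∈ T0
      have e : (k⁻¹ * g * k) * a * (k⁻¹ * g * k)⁻¹ = k⁻¹ * (g * (k * a * k⁻¹) * g⁻¹) * k := by group
      rw [e]; exact h1
    obtain ⟨x, hx, hxa⟩ := hctl _ (k⁻¹ * g * k) (Subgroup.mem_top _) hA hAh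
    have hxN : x ∈ Subgroup.normalizer ((W T0 : Subgroup G) : Set G) := hx.2
    have hWS : W (S : Subgroup G) = cj k (W T0) := by
      rw [← hk']
      exact (hW T0 hT0p).2.2 k
    refine ⟨k * x * k⁻¹, ?_, (k * x * k⁻¹)⁻¹ * g, ?_, by group⟩
    · rw [hWS, normalizer_cj]
      exact conj_mem_cj hxN
    · rw [Subgroup.mem_centralizer_iff]
      intro t ht
      have hta : k⁻¹ * t * k ∈ cj k⁻¹ T := by
        have := conj_mem_cj (g := k⁻¹) ht
        simpa using this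
      have := hxa _ hta
      have e2 : (k * x * k⁻¹) * t * (k * x * k⁻¹)⁻¹ = g * t * g⁻¹ := by
        calc (k * x * k⁻¹) * t * (k * x * k⁻¹)⁻¹ = k * (x * (k⁻¹ * t * k) * x⁻¹) * k⁻¹ := by group
          _ = k * ((k⁻¹ * g * k) * (k⁻¹ * t * k) * (k⁻¹ * g * k)⁻¹) * k⁻¹ := by rw [this]
          _ = g * t * g⁻¹ := by group
      calc t * ((k * x * k⁻¹)⁻¹ * g) = (k * x * k⁻¹)⁻¹ * ((k * x * k⁻¹) * t * (k * x * k⁻¹)⁻¹) * (k * x * k⁻¹) * ((k * x * k⁻¹)⁻¹ * g) := by group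
        _ = (k * x * k⁻¹)⁻¹ * (g * t * g⁻¹) * (k * x * k⁻¹) * ((k * x * k⁻¹)⁻¹ * g) := by rw [e2]
        _ = (k * x * k⁻¹)⁻¹ * g * t := by group
  · intro h
    refine ⟨S, le_top, S.isPGroup', ?_, ?_⟩
    · rw [Subgroup.relIndex_top_right]
      exact S.not_dvd_index
    · intro A g _ hA hAg
      have hT : Subgroup.closure A ≤ (S : Subgroup G) := (Subgroup.closure_le _).mpr hA
      have hTg : (Subgroup.closure A).map (MulAut.conj g).toMonoidHom ≤ (S : Subgroup G) := by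
        rw [MonoidHom.map_closure, Subgroup.closure_le]
        rintro _ ⟨a, ha, rfl⟩
        exact hAg ⟨a, ha, rfl⟩
      obtain ⟨n, hn, c, hc, rfl⟩ := h (Subgroup.closure A) g hT hTg
      refine ⟨n, ⟨Subgroup.mem_top _, hn⟩, ?_⟩
      intro a ha
      rw [Subgroup.mem_centralizer_iff] at hc
      have := hc a (Subgroup.subset_closure ha)
      calc n * a * n⁻¹ = n * (a * c) * c⁻¹ * n⁻¹ := by group
        _ = n * (c * a) * c⁻¹ * n⁻¹ := by rw [this]
        _ = n * c * a * (n * c)⁻¹ := by group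

end Cfsg.Agent.S1967
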