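import Cfsg.Statements.S1968
import Cfsg.Agent.Lib.Helper33.WellPlaced
import Cfsg.Agent.Lib.Helper33.Alperin

set_option autoImplicit false
open Cfsg
open Cfsg.Agent.Lib.Helper33

namespace Cfsg.Agent.S1968

variable {G : Type*} [Group G]

/-- The first step of a chain that moves the set. -/
theorem first_move {𝓕 : Set (Subgroup G)} {B : Set G} {h : G} (hr : Reach 𝓕 B h)
    (hne : rc h B ≠ B) :
    ∃ T ∈ 𝓕, ∃ x ∈ Subgroup.normalizer (T : Set G), B ⊆ T ∧ rc x B ≠ B := by
  induction hr with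
  | nil B => simp at hne
  | cons B T x g hT hx hB _ ih =>
    by_cases h : rc x B = B
    · rw [rc_mul, h] at hne
      rw [h] at ih
      exact ih hne
    · exact ⟨T, hT, x, hx, hB, h⟩

/-- Let p be a prime, G a finite group with Sylow p-subgroup S and W a conjugacy functor for p on G with Z(P) ≤ W(P) for every p-subgroup P. Let A be a subgroup of Z(S) normalized by N_G(W(S)) that is not weakly closed in S with respect to G. Then there is a subgroup T of S, well placed in S with respect to W, such that: A ≤ T; N_G(W(N_S(T))) normalizes A; N_S(T) is a Sylow p-subgroup of N_G(T); A ≤ Z(N_S(T)); and A is not weakly closed in N_S(T) with respect to N_G(T), that is, some N_G(T)-conjugate of A other than A lies in N_S(T). -/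
theorem result {G : Type*} [Group G] [Finite G] {p : ℕ} [Fact p.Prime] (S : Sylow p G) (W : Subgroup G → Subgroup G) (hW : Cfsg.IsConjugacyFunctor p W) (hWZ : ∀ P : Subgroup G, IsPGroup p ↥P → P ⊓ Subgroup.centralizer (P : Set G) ≤ W P) (A : Subgroup G) (hAZ : A ≤ (S : Subgroup G) ⊓ Subgroup.centralizer ((S : Subgroup G) : Set G)) (hAN : Subgroup.normalizer ((W (S : Subgroup G) : Subgroup G) : Set G) ≤ Subgroup.normalizer ((A : Subgroup G) : Set G)) (hnwc : ¬ Cfsg.IsWeaklyClosed A (S : Subgroup G)) : ∃ T : Subgroup G, Cfsg.IsWellPlaced p W (S : Subgroup G) T ∧ A ≤ T ∧ Subgroup.normalizer ((W ((S : Subgroup G) ⊓ Subgroup.normalizer ((T : Subgroup G) : Set G)) : Subgroup G) : Set G) ≤ Subgroup.normalizer ((A : Subgroup G) : Set G) ∧ ¬ p ∣ ((S : Subgroup G) ⊓ Subgroup.normalizer ((T : Subgroup G) : Set G)).relIndex (Subgroup.normalizer ((T : Subgroup G) : Set G)) ∧ A ≤ Subgroup.centralizer (((S : Subgroup G) ⊓ Subgroup.normalizer ((T : Subgroup G) : Set G) : Subgroup G) : Set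 G) ∧ ∃ g ∈ Subgroup.normalizer ((T : Subgroup G) : Set G), A.map (MulAut.conj g).toMonoidHom ≤ (S : Subgroup G) ⊓ Subgroup.normalizer ((T : Subgroup G) : Set G) ∧ A.map (MulAut.conj g).toMonoidHom ≠ A := by
  have hAS : A ≤ (S : Subgroup G) := le_trans hAZ inf_le_left
  have hAC : A ≤ Subgroup.centralizer ((S : Subgroup G) : Set G) := le_trans hAZ inf_le_right
  -- candidates
  have hcand : ∃ T : Subgroup G, Cfsg.IsWellPlaced p W (S : Subgroup G) T ∧ A ≤ T ∧
      ∃ g ∈ Subgroup.normalizer (T : Set G), cj g A ≤ (S : Subgroup G) ⊓ Subgroup.normalizer (T : Set G) ∧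
        cj g A ≠ A := by
    have h1 : ∃ g : G, cj g A ≤ (S : Subgroup G) ∧ cj g A ≠ A := by
      by_contra hcon
      apply hnwc
      refine ⟨hAS, ?_⟩
      intro g hg
      by_contra hne
      exact hcon ⟨g, hg, hne⟩
    obtain ⟨g, hgS, hgA⟩ := h1
    have hreach : Reach {U | Cfsg.IsWellPlaced p W (S : Subgroup G) U} (A : Set G) g⁻¹ := by
      apply reach_of_fullyNormalized S _ (fun U hU => hU.1) ?_ _ _ hAS
      · rw [rc_coe, inv_inv]; exact hgS
      · intro T hT
        obtain ⟨c, hc, -⟩ := exists_wellPlaced S W hW T hT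
        exact ⟨cj c T, hc, ⟨c, rfl⟩, hc.2 0⟩
    have hne : rc g⁻¹ (A : Set G) ≠ (A : Set G) := by
      rw [rc_coe, inv_inv]
      intro h
      exact hgA (SetLike.coe_injective h)
    obtain ⟨T, hT, x, hx, hAT, hxA⟩ := first_move hreach hne
    refine ⟨T, hT, hAT, x⁻¹, inv_mem hx, ?_, ?_⟩
    · have h1 : cj x⁻¹ A ≤ cj x⁻¹ T := cj_mono hAT
      rw [cj_eq_self_iff.mpr (inv_mem hx)] at h1
      exact le_trans h1 (le_inf hT.1 Subgroup.le_normalizer)
    · intro h
      apply hxA
      rw [rc_coe, h]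
  -- improve the candidate
  obtain ⟨T, hT⟩ := hcand
  obtain ⟨d, hd⟩ : ∃ d, Nat.card (S : Subgroup G) -
      Nat.card ((S : Subgroup G) ⊓ Subgroup.normalizer (T : Set G) : Subgroup G) = d := ⟨_, rfl⟩
  induction d using Nat.strong_induction_on generalizing T with
  | _ d ih =>
  obtain ⟨hwp, hAT, g, hg, hgle, hgne⟩ := hT
  obtain ⟨R, hR⟩ : ∃ R, R = (S : Subgroup G) ⊓ Subgroup.normalizer (T : Set G) := ⟨_, rfl⟩
  have hRS : R ≤ (S : Subgroup G) := hR ▸ inf_le_left
  have hRp : IsPGroup p R := S.isPGroup'.to_le hRS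
  have hAcR : A ≤ Subgroup.centralizer (R : Set G) :=
    le_trans hAC (Subgroup.centralizer_le (by exact_mod_cast hRS))
  have hAR : A ≤ R := hR ▸ le_inf hAS (le_trans hAT Subgroup.le_normalizer)
  by_cases hN : Subgroup.normalizer ((W R : Subgroup G) : Set G) ≤ Subgroup.normalizer (A : Set G)
  · refine ⟨T, hwp, hAT, hR ▸ hN, hwp.2 0, hR ▸ hAcR, g, hg, hgle, hgne⟩
  · obtain ⟨n, hn, hnA⟩ := SetLike.not_le_iff_exists.mp hN
    have hWR : W R ≤ R := functor_le hW hRp
    have hwp1 : Cfsg.IsWellPlaced p W (S : Subgroup G) (W R) := by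
      have := (wellPlaced_iff (p := p) W (S : Subgroup G) T (hR ▸ le_trans hWR hRS)).mp hwp
      rw [← hR] at this
      exact this.2.2
    have hAW : A ≤ W R := le_trans (le_inf hAR hAcR) (hWZ R hRp)
    have hRne : R ≠ (S : Subgroup G) := by
      intro h
      apply hnA
      apply hAN
      rw [← h]; exact hn
    have hRlt : R < (S : Subgroup G) := lt_of_le_of_ne hRS hRne
    have hgrow := normalizer_growth S.isPGroup' hRlt
    have hle : (S : Subgroup G) ⊓ Subgroup.normalizer (R : Set G) ≤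
        (S : Subgroup G) ⊓ Subgroup.normalizer ((W R : Subgroup G) : Set G) :=
      inf_le_inf_left _ (normalizer_le_normalizer_functor hW hRp)
    have hc1 : Nat.card R < Nat.card ((S : Subgroup G) ⊓ Subgroup.normalizer (R : Set G) : Subgroup G) :=
      Set.Finite.card_lt_card (Set.toFinite _) hgrow
    have hc2 := Subgroup.card_le_of_le hle
    have hc3 : Nat.card ((S : Subgroup G) ⊓ Subgroup.normalizer ((W R : Subgroup G) : Set G) : Subgroup G) ≤
        Nat.card (S : Subgroup G) := Subgroup.card_le_of_le inf_le_left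
    refine ih _ ?_ (W R) ⟨hwp1, hAW, n, hn, ?_, ?_⟩ rfl
    · rw [← hd, ← hR]; omega
    · have h1 : cj n A ≤ cj n (W R) := cj_mono hAW
      rw [cj_eq_self_iff.mpr hn] at h1
      exact le_trans h1 (le_inf (le_trans hWR hRS) Subgroup.le_normalizer)
    · intro h
      exact hnA (cj_eq_self_iff.mp h)

end Cfsg.Agent.S1968
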