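import Cfsg.Statements.S1970
import Cfsg.Agent.Lib.Helper33.TransQuot
import Cfsg.Agent.Lib.Helper46.Kieler5

set_option autoImplicit false
universe u
open Cfsg

namespace Cfsg.Agent.S1970

open Cfsg.Agent.Lib.Helper33 Subgroup in
open scoped commutatorElement in
/-- The local step: a constrained section all of whose smaller sections are controlled. -/
theorem aux {G : Type u} [Group G] {p : ℕ} [Fact p.Prime]
    (W : ∀ (Q : Type u) [Group Q], Subgroup Q) (hW : Cfsg.IsCharPFunctor.{u} p W)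
    {Y : Type u} [Group Y] [Finite Y] (hY : Sec G Y)
    (hcY : centralizer ((Cfsg.pCore p Y : Subgroup Y) : Set Y) ≤ Cfsg.pCore p Y)
    (ih : ∀ (Z : Type u) [Group Z] [Finite Z], Sec G Z → Nat.card Z < Nat.card Y →
      Cfsg.FamilyControlsTransferIn p (indFam {W} Z) ⊤)
    (hyp : ∀ T : Sylow p Y, Cfsg.pCore p Y ⊓ commutator Y = Cfsg.pCore p Y ⊓
      ⁅normalizer ((Cfsg.inducedFunctor W (T : Subgroup Y) : Subgroup Y) : Set Y),
        normalizer ((Cfsg.inducedFunctor W (T : Subgroup Y) : Subgroup Y) : Set Y)⁆) :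
    Cfsg.FamilyControlsTransferIn p (indFam {W} Y) ⊤ := by
  have h𝓦 : ∀ W' ∈ ({W} : Set (∀ (Q : Type u) [Group Q], Subgroup Q)),
      Cfsg.IsCharPFunctor.{u} p W' := by
    intro W' hW'
    rw [Set.mem_singleton_iff] at hW'
    rw [hW']; exact hW
  obtain ⟨P⟩ : Nonempty (Sylow p Y) := inferInstance
  apply fct_of_focLe P.isPGroup' P.not_dvd_index
  have h𝓦Y := indFam_conj h𝓦 Y
  have hWmem : Cfsg.inducedFunctor (G := Y) W ∈ indFam {W} Y := ⟨W, rfl, rfl⟩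
  obtain ⟨Q, hQ⟩ : ∃ Q : Subgroup Y, Q = Cfsg.pCore p Y := ⟨_, rfl⟩
  haveI hQn : Q.Normal := by rw [hQ]; exact Cfsg.Agent.Lib.Helper55.pCore_normal' p
  have hQP : Q ≤ (P : Subgroup Y) := by rw [hQ]; exact Cfsg.Agent.Lib.Helper11.pCore_le_sylow P
  have hyp' := hyp P
  rw [← hQ, commutator_def] at hyp'
  rw [← hQ] at hcY
  by_cases hPQ : (P : Subgroup Y) ≤ Q
  · rintro z ⟨hzP, hzc⟩
    have h1 : z ∈ Q ⊓ ⁅(⊤ : Subgroup Y), ⊤⁆ := ⟨hPQ hzP, hzc⟩
    rw [hyp'] at h1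
    exact le_focW hWmem (P : Subgroup Y) ⟨hzP, h1.2⟩
  · have hQne : Q ≠ ⊥ := by
      intro h
      apply hPQ
      intro x _
      apply hcY
      rw [h, Subgroup.mem_centralizer_iff]
      intro y hy
      have : y = 1 := by simpa using hy
      rw [this, one_mul, mul_one]
    have hQmax : ∀ V : Subgroup Y, V ≤ (P : Subgroup Y) → normalizer (V : Set Y) = ⊤ →
        V ≤ Q := by
      intro V hVP hV
      haveI : V.Normal := Subgroup.normalizer_eq_top_iff.mp hV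
      rw [hQ]
      exact Cfsg.Agent.Lib.Helper55.le_pCore p V (P.isPGroup'.to_le hVP)
    have hsubT : ∀ H : Subgroup Y, H ≠ ⊤ → (P : Subgroup Y) ≤ H →
        (P : Subgroup Y) ⊓ ⁅H, H⁆ ≤ FocW (indFam {W} Y) (P : Subgroup Y) := by
      intro H hH hPH
      have h1 : Cfsg.FamilyControlsTransferIn p (indFam {W} Y) H := by
        apply fct_subgroup h𝓦 H
        exact ih ↥H (hY.trans (Sec.subgroup H)) (card_subgroup_lt H hH)
      exact focLe_of_fct h𝓦Y h1 hPH P.isPGroup' (sylow_not_dvd_relIndex P hPH)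
    have hq : (P : Subgroup Y).map (QuotientGroup.mk' Q) ⊓ ⁅(⊤ : Subgroup (Y ⧸ Q)), ⊤⁆ ≤
        FocW (indFam {W} (Y ⧸ Q)) ((P : Subgroup Y).map (QuotientGroup.mk' Q)) := by
      have h1 := ih (Y ⧸ Q) (hY.trans (Sec.quotient Q)) (card_quotient_lt Q hQne)
      exact focLe_of_fct (indFam_conj h𝓦 _) h1 le_top (P.isPGroup'.map _)
        (by rw [Subgroup.relIndex_top_right]
            exact not_dvd_index_map P _ (QuotientGroup.mk'_surjective Q))
    rintro z hz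
    obtain ⟨f, hf, hqQ, hqc⟩ := exists_focW_mul_of_quot h𝓦 P Q hQP hsubT hPQ
      (fun V hV hVP htop => (not_le_of_gt hV) (hQmax V hVP htop)) hq z hz
    have h1 : f⁻¹ * z ∈ Q ⊓ ⁅(⊤ : Subgroup Y), ⊤⁆ := ⟨hqQ, hqc⟩
    rw [hyp'] at h1
    have hqF : f⁻¹ * z ∈ FocW (indFam {W} Y) (P : Subgroup Y) :=
      le_focW hWmem (P : Subgroup Y) ⟨hQP h1.1, h1.2⟩
    have : z = f * (f⁻¹ * z) := by group
    rw [this]
    exact Subgroup.mul_mem _ hf hqF

/-- Let p be a prime, G a finite group and W an isomorphism-invariant p-group functor (W assigns to every group Q a subgroup W(Q), nontrivial whenever Q is a nontrivial finite p-group, and every isomorphism from a finite p-group Q onto a group R carries W(Q) onto W(R)). Suppose that for every section G* = K/R of G with C_{G*}(O_p(G*)) ≤ O_p(G*) and every Sylow p-subgroup S* of G*, one has O_p(G*) ∩ (G*)' = O_p(G*) ∩ (N_{G*}(W(S*)))'. Then W controls transfer in every section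 G* of G: S* ∩ (G*)' = S* ∩ (N_{G*}(W(S*)))' for a Sylow p-subgroup S* of G*. -/
theorem result {G : Type u} [Group G] [Finite G] {p : ℕ} [Fact p.Prime] (W : ∀ (Q : Type u) [Group Q], Subgroup Q) (hW : Cfsg.IsCharPFunctor.{u} p W) (hloc : ∀ (K R : Subgroup G) [hR : (R.subgroupOf K).Normal], Subgroup.centralizer ((Cfsg.pCore p (↥K ⧸ R.subgroupOf K) : Subgroup (↥K ⧸ R.subgroupOf K)) : Set (↥K ⧸ R.subgroupOf K)) ≤ Cfsg.pCore p (↥K ⧸ R.subgroupOf K) → ∀ T : Sylow p (↥K ⧸ R.subgroupOf K), Cfsg.pCore p (↥K ⧸ R.subgroupOf K) ⊓ commutator (↥K ⧸ R.subgroupOf K) = Cfsg.pCore p (↥K ⧸ R.subgroupOf K) ⊓ ⁅Subgroup.normalizer ((Cfsg.inducedFunctor (G := (↥K ⧸ R.subgroupOf K)) W ((T : Subgroup (↥K ⧸ R.subgroupOf K))) : Subgroup (↥K ⧸ R.subgroupOf K)) : Set (↥K ⧸ R.subgroupOf K)), Subgroup.normalizer ((Cfsg.inducedFunctor (G := (↥K ⧸ R.subgroupOf K)) W ((T : Subgroup (↥K ⧸ R.subgroupOf K))) : Subgroup (↥K ⧸ R.subgroupOf K))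 : Set (↥K ⧸ R.subgroupOf K))⁆) : ∀ (K R : Subgroup G) [hR : (R.subgroupOf K).Normal], Cfsg.ControlsTransferIn p (Cfsg.inducedFunctor (G := (↥K ⧸ R.subgroupOf K)) W) ⊤ := by
  have h𝓦 : ∀ W' ∈ ({W} : Set (∀ (Q : Type u) [Group Q], Subgroup Q)),
      Cfsg.IsCharPFunctor.{u} p W' := by
    intro W' hW'
    rw [Set.mem_singleton_iff] at hW'
    rw [hW']; exact hW
  have hloc' : ∀ (X : Type u) [Group X] [Finite X], Cfsg.Agent.Lib.Helper33.Sec G X →
      Subgroup.centralizer ((Cfsg.pCore p X : Subgroup X) : Set X) ≤ Cfsg.pCore p X →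
      (∀ (Y : Type u) [Group Y] [Finite Y], Cfsg.Agent.Lib.Helper33.Sec G Y →
        Nat.card Y < Nat.card X →
        Cfsg.FamilyControlsTransferIn p (Cfsg.Agent.Lib.Helper33.indFam {W} Y) ⊤) →
      Cfsg.FamilyControlsTransferIn p (Cfsg.Agent.Lib.Helper33.indFam {W} X) ⊤ := by
    intro X _ _ hX hc ih
    obtain ⟨K, R, hR, ⟨e⟩⟩ := hX
    apply Cfsg.Agent.Lib.Helper33.fct_of_equiv h𝓦 e.symm
    have hcY := Cfsg.Agent.Lib.Helper46.charP_congr e hc
    have hcard : Nat.card (↥K ⧸ R.subgroupOf K) = Nat.card X := Nat.card_congr e.symm.toEquiv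
    exact aux W hW (Cfsg.Agent.Lib.Helper33.Sec.section_ K R) hcY
      (fun Z _ _ hZ hlt => ih Z hZ (by rw [← hcard]; exact hlt)) (hloc K R hcY)
  intro K R hR
  have hY := Cfsg.Agent.Lib.Helper33.sec_master_T h𝓦 hloc' _ (↥K ⧸ R.subgroupOf K) rfl
    (Cfsg.Agent.Lib.Helper33.Sec.section_ K R)
  obtain ⟨T, hT1, hTp, hTi, heq⟩ := hY
  refine ⟨T, hT1, hTp, hTi, ?_⟩
  rw [heq]
  unfold Cfsg.Agent.Lib.Helper33.indFam
  rw [Set.image_singleton, iSup_singleton]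

end Cfsg.Agent.S1970
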