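import Cfsg.Statements.S2872
import Cfsg.Agent.Lib.Helper78.TransferParity

set_option autoImplicit false
open Cfsg

namespace Cfsg.Agent.S2872

open Subgroup Cfsg.Agent.Lib.Helper33 Cfsg.Agent.Lib.Helper78

/-- a maximal subgroup of a finite p-group is normal of index p -/
theorem coatom_pgroup {S : Type*} [Group S] [Finite S] {p : ℕ} [Fact p.Prime] (hS : IsPGroup p S)
    (M : Subgroup S) (hM : IsCoatom M) : M.Normal ∧ M.index = p := by
  have hnil : Group.IsNilpotent S := hS.isNilpotent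
  have hn : M.Normal := Subgroup.NormalizerCondition.normal_of_coatom M Group.normalizerCondition_of_isNilpotent hM
  refine ⟨hn, ?_⟩
  have hQ : IsPGroup p (S ⧸ M) := hS.to_quotient M
  have hidx1 : M.index ≠ 1 := by
    intro h
    exact hM.1 (Subgroup.index_eq_one.mp h)
  have hpdvd : p ^ 1 ∣ Nat.card (S ⧸ M) := by
    obtain ⟨k, hk⟩ := IsPGroup.iff_card.mp hQ
    rw [hk, pow_one]
    rcases k with _ | k
    · exfalso
      rw [pow_zero] at hk
      rw [Subgroup.index_eq_card] at hidx1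
      exact hidx1 hk
    · exact dvd_pow_self p (Nat.succ_ne_zero k)
  obtain ⟨K', hK'⟩ := Sylow.exists_subgroup_card_pow_prime p hpdvd
  rw [pow_one] at hK'
  have hle : M ≤ K'.comap (QuotientGroup.mk' M) := QuotientGroup.le_comap_mk' M K'
  have hmapcomap : (K'.comap (QuotientGroup.mk' M)).map (QuotientGroup.mk' M) = K' :=
    Subgroup.map_comap_eq_self_of_surjective (QuotientGroup.mk'_surjective M) K'
  rcases hM.le_iff.mp hle with h | h
  · rw [Subgroup.index_eq_card, ← hK']
    rw [h, ← MonoidHom.range_eq_map, MonoidHom.range_eq_top.mpr (QuotientGroup.mk'_surjective M)]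
      at hmapcomap
    rw [← hmapcomap]
    exact (Nat.card_congr (Subgroup.topEquiv (G := S ⧸ M)).toEquiv).symm
  · exfalso
    rw [h, QuotientGroup.map_mk'_self] at hmapcomap
    rw [← hmapcomap, Subgroup.card_bot] at hK'
    have hp : p.Prime := Fact.out
    exact hp.one_lt.ne hK'

theorem result {G : Type*} [Group G] [Finite G] (S : Sylow 2 G) : Cfsg.pResidual 2 G ≠ ⊤ ∨ Cfsg.omegaOne 2 ((S : Subgroup G) ⊓ Subgroup.centralizer ((S : Subgroup G) : Set G)) ≤ (frattini ↥(S : Subgroup G)).map (S : Subgroup G).subtype ∨ ∃ g ∈ Subgroup.normalizer ((S : Subgroup G) : Set G), ∃ z ∈ Cfsg.omegaOne 2 ((S : Subgroup G) ⊓ Subgroup.centralizer ((S : Subgroup G) : Set G)), g * z * g⁻¹ ≠ z := by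
  classical
  have hp2 : Fact (Nat.Prime 2) := ⟨Nat.prime_two⟩
  by_contra hcon
  push Not at hcon
  obtain ⟨h1, h2, h3⟩ := hcon
  set H : Subgroup G := (S : Subgroup G) with hH
  -- find a generator z outside the Frattini image
  have hz : ∃ z : G, (z ∈ H ⊓ Subgroup.centralizer (H : Set G) ∧ z ^ 2 = 1) ∧
      z ∉ (frattini ↥H).map H.subtype := by
    by_contra hno
    push Not at hno
    apply h2
    unfold Cfsg.omegaOne
    rw [Subgroup.closure_le]
    intro x hx
    exact hno x hx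
  obtain ⟨z, ⟨hzmem, hz2⟩, hzF⟩ := hz
  have hzS : z ∈ H := hzmem.1
  have hzC : z ∈ Subgroup.centralizer (H : Set G) := hzmem.2
  have hz1 : z ≠ 1 := by
    rintro rfl
    exact hzF (Subgroup.one_mem _)
  have hzord : orderOf z = 2 := orderOf_eq_prime hz2 hz1
  have hzΩ : z ∈ Cfsg.omegaOne 2 (H ⊓ Subgroup.centralizer (H : Set G)) :=
    Subgroup.subset_closure ⟨hzmem, hz2⟩
  -- a maximal subgroup M0 of S missing z
  have hzF' : (⟨z, hzS⟩ : H) ∉ frattini ↥H := by
    intro h
    exact hzF ⟨⟨z, hzS⟩, h, rfl⟩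
  obtain ⟨M0, hM0, hzM0⟩ : ∃ M0 : Subgroup H, IsCoatom M0 ∧ (⟨z, hzS⟩ : H) ∉ M0 := by
    by_contra hno
    push Not at hno
    apply hzF'
    unfold frattini Order.radical
    rw [Subgroup.mem_iInf]
    intro M
    rw [Subgroup.mem_iInf]
    intro hM
    exact hno M hM
  obtain ⟨hM0n, hM0idx⟩ := coatom_pgroup S.isPGroup' M0 hM0
  set T : Subgroup G := M0.map H.subtype with hT
  have hTS : T ≤ H := Subgroup.map_subtype_le _
  have hTsub : T.subgroupOf H = M0 :=
    Subgroup.comap_map_eq_self_of_injective (Subgroup.subtype_injective H) _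
  have hTn : (T.subgroupOf H).Normal := by rw [hTsub]; exact hM0n
  have hcard : Nat.card (↥H ⧸ T.subgroupOf H) = 2 := by
    rw [← Subgroup.index_eq_card, hTsub]; exact hM0idx
  have hcyc : IsCyclic (↥H ⧸ T.subgroupOf H) := isCyclic_of_prime_card hcard
  have hzT : z ∉ T := by
    rintro ⟨w, hw, hwz⟩
    apply hzM0
    have : w = ⟨z, hzS⟩ := Subtype.ext hwz
    rw [← this]; exact hw
  have hRC : H ≤ Subgroup.centralizer ({z} : Set G) := by
    intro s hs
    rw [Subgroup.mem_centralizer_singleton_iff]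
    exact (Subgroup.mem_centralizer_iff.mp hzC s hs)
  have hR : ∀ g : G, cj g⁻¹ H ≤ H → g⁻¹ * z * g ∉ T := by
    intro g hg
    have heq : cj g⁻¹ H = H := by
      apply Subgroup.eq_of_le_of_card_ge hg
      rw [card_cj]
    have hgn : g⁻¹ ∈ Subgroup.normalizer (H : Set G) := cj_eq_self_iff.mp heq
    have := h3 g⁻¹ hgn z hzΩ
    rw [inv_inv] at this
    rw [this]
    exact hzT
  obtain ⟨N, hNn, _, hNres, hzN⟩ :=
    transfer_parity S T hTS hTn hcyc z hzord hzS hzT H S.isPGroup' hRC hR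
  rw [h1] at hNres
  exact hzN (hNres (Subgroup.mem_top z))

end Cfsg.Agent.S2872
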