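import Cfsg.Statements.S1971
import Cfsg.Agent.Lib.Helper33.TransQuot
import Cfsg.Agent.Lib.Helper2.PResidual2
import Cfsg.Agent.Lib.Helper85.Hyperfocal
import Cfsg.Agent.Lib.Helper49.RankOneCyclic
import Cfsg.Agent.S2872

set_option autoImplicit false
universe u
open Cfsg

namespace Cfsg.Agent.S1971

set_option linter.style.haveILetI false
set_option linter.unusedSectionVars false

open Cfsg.Agent.Lib.Helper33 Subgroup
open scoped commutatorElement

/-- A Sylow subgroup not contained in the derived subgroup gives a normal subgroup of index `p`. -/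
theorem exists_normal_index_p {X : Type u} [Group X] [Finite X] {p : ℕ} [Fact p.Prime]
    (S : Sylow p X) (h : ¬ (S : Subgroup X) ≤ ⁅(⊤ : Subgroup X), ⊤⁆) :
    ∃ N : Subgroup X, N.Normal ∧ N.index = p := by
  have hres : Cfsg.pResidual p X ≠ ⊤ := by
    intro htop
    apply h
    have h1 := Cfsg.Agent.Lib.Helper2.sylow_inf_pResidual_le_focalSubgroup S
    rw [htop, inf_top_eq] at h1
    refine h1.trans ?_
    rw [← commutator_def]
    exact Subgroup.focalSubgroup_le_commutator _
  haveI := Cfsg.Agent.Lib.Helper85.pResidual_normal' p X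
  have hQ : IsPGroup p (X ⧸ Cfsg.pResidual p X) :=
    Cfsg.Agent.Lib.Helper85.pResidual_quotient_isPGroup' p X _ le_rfl
  haveI hnt : Nontrivial (X ⧸ Cfsg.pResidual p X) := by
    by_contra hc
    rw [not_nontrivial_iff_subsingleton] at hc
    exact hres (QuotientGroup.subgroup_eq_top_of_subsingleton _ hc)
  rcases IsCoatomic.eq_top_or_exists_le_coatom (⊥ : Subgroup (X ⧸ Cfsg.pResidual p X)) with h0 | h0
  · exact absurd h0 bot_ne_top
  · obtain ⟨M, hM, -⟩ := h0
    obtain ⟨hMn, hMi⟩ := Cfsg.Agent.S2872.coatom_pgroup hQ M hM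
    refine ⟨M.comap (QuotientGroup.mk' (Cfsg.pResidual p X)), Subgroup.Normal.comap hMn _, ?_⟩
    rw [Subgroup.index_comap_of_surjective _ (QuotientGroup.mk'_surjective _)]
    exact hMi

/-- A normal subgroup of index `p` does not contain... : a Sylow subgroup is not inside `X'`. -/
theorem not_le_commutator_of_index_p {X : Type*} [Group X] [Finite X] {p : ℕ} [Fact p.Prime]
    (S : Sylow p X) (N : Subgroup X) [hN : N.Normal] (hNi : N.index = p) :
    ¬ (S : Subgroup X) ≤ ⁅(⊤ : Subgroup X), ⊤⁆ := by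
  intro h
  have h1 : ⁅(⊤ : Subgroup X), ⊤⁆ ≤ N := by
    rw [Subgroup.commutator_le]
    intro x _ y _
    have := (Cfsg.Agent.Lib.Helper49.pow_mem_and_comm_mem_of_index_prime N hNi).2 y x
    rw [commutatorElement_def]
    exact this
  have h2 : N.index ∣ (S : Subgroup X).index := Subgroup.index_dvd_of_le (h.trans h1)
  rw [hNi] at h2
  exact S.not_dvd_index h2

/-- lifting elements of order prime to `p` -/
theorem exists_coprime_lift {X Y : Type*} [Group X] [Group Y] [Finite X] {p : ℕ} [Fact p.Prime]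
    (π : X →* Y) (g : X) (hg : (orderOf (π g)).Coprime p) :
    ∃ k : ℕ, π (g ^ k) = π g ∧ (orderOf (g ^ k)).Coprime p := by
  obtain ⟨a, m, hm, hord⟩ := Nat.exists_eq_pow_mul_and_not_dvd (orderOf_pos g).ne' p
    (Fact.out : p.Prime).ne_one
  have hcop : (p ^ a).Coprime (orderOf (π g)) := Nat.Coprime.pow_left a hg.symm
  obtain ⟨u, hu⟩ := exists_pow_eq_self_of_coprime hcop
  refine ⟨p ^ a * u, ?_, ?_⟩
  · rw [map_pow, pow_mul]; exact hu
  · have h1 : (g ^ (p ^ a * u)) ^ m = 1 := by
      rw [← pow_mul, mul_right_comm, ← hord, pow_mul, pow_orderOf_eq_one, one_pow]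
    have h2 : orderOf (g ^ (p ^ a * u)) ∣ m := orderOf_dvd_of_pow_eq_one h1
    have hmc : m.Coprime p :=
      (Nat.Coprime.symm ((Nat.Prime.coprime_iff_not_dvd Fact.out).mpr hm))
    exact Nat.Coprime.coprime_dvd_left h2 hmc

/-- A normal Sylow subgroup centralized by all `p'`-elements is not inside the derived group. -/
theorem not_le_commutator_of_normal_sylow {X : Type*} [Group X] [Finite X] {p : ℕ} [Fact p.Prime]
    (S : Sylow p X) [hSn : (S : Subgroup X).Normal] (hS : (S : Subgroup X) ≠ ⊥)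
    (hN : ∀ g : X, (orderOf g).Coprime p → g ∈ centralizer ((S : Subgroup X) : Set X)) :
    ¬ (S : Subgroup X) ≤ ⁅(⊤ : Subgroup X), ⊤⁆ := by
  intro h
  have hpi : (Nat.card (S : Subgroup X)).Coprime (S : Subgroup X).index := by
    obtain ⟨n, hn⟩ := IsPGroup.iff_card.mp S.isPGroup'
    rw [hn]
    apply Nat.Coprime.pow_left
    exact (Nat.Prime.coprime_iff_not_dvd Fact.out).mpr S.not_dvd_index
  obtain ⟨H, hH⟩ := Subgroup.exists_right_complement'_of_coprime hpi
  have hHcard : (Nat.card H).Coprime p := by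
    rw [← hH.symm.index_eq_card]
    exact ((Nat.Prime.coprime_iff_not_dvd Fact.out).mpr S.not_dvd_index).symm
  have hfac : ∀ x : X, ∃ t ∈ (S : Subgroup X), ∃ c ∈ centralizer ((S : Subgroup X) : Set X),
      x = t * c := by
    intro x
    have hx : x ∈ (S : Subgroup X) ⊔ H := by rw [hH.sup_eq_top]; exact Subgroup.mem_top _
    obtain ⟨t, ht, c, hc, rfl⟩ := Subgroup.mem_sup_of_normal_left.mp hx
    refine ⟨t, ht, c, hN c ?_, rfl⟩
    have h1 : orderOf c ∣ Nat.card H := by
      have := orderOf_dvd_natCard (⟨c, hc⟩ : H)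
      rwa [Subgroup.orderOf_mk] at this
    exact Nat.Coprime.coprime_dvd_left h1 hHcard
  have h1 := inf_commutator_le_of_factor (P := S) (S : Subgroup X) le_rfl hfac
  have h2 : (S : Subgroup X) ≤ ⁅(S : Subgroup X), (S : Subgroup X)⁆ :=
    le_trans (le_inf le_rfl h) h1
  haveI hnil : Group.IsNilpotent ↥(S : Subgroup X) := S.isPGroup'.isNilpotent
  haveI hnt : Nontrivial ↥(S : Subgroup X) := (Subgroup.nontrivial_iff_ne_bot _).mpr hS
  have h3 := Group.IsSolvable.commutator_lt_top_of_nontrivial ↥(S : Subgroup X)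
  apply (lt_top_iff_ne_top.mp h3)
  rw [eq_top_iff]
  intro y _
  rw [← Subgroup.map_subtype_commutator] at h2
  obtain ⟨z, hz, hzy⟩ := h2 y.2
  have : z = y := Subtype.ext hzy
  rw [← this]
  exact hz

theorem main {G : Type u} [Group G] {p : ℕ} [Fact p.Prime]
    (W : ∀ (Q : Type u) [Group Q], Subgroup Q) (hW : Cfsg.IsCharPFunctor.{u} p W)
    (hctl : ∀ (X : Type u) [Group X] [Finite X], Sec G X →
      Cfsg.FamilyControlsTransferIn p (indFam {W} X) ⊤) :
    ∀ (n : ℕ) (X : Type u) [Group X] [Finite X], Nat.card X = n → Sec G X →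
      ∀ S : Sylow p X, (S : Subgroup X) ≠ ⊥ →
      (∀ g ∈ normalizer ((S : Subgroup X) : Set X), (orderOf g).Coprime p →
        g ∈ centralizer ((S : Subgroup X) : Set X)) →
      ∃ N : Subgroup X, N.Normal ∧ N.index = p := by
  intro n
  induction n using Nat.strong_induction_on with
  | _ n ih =>
  intro X _ _ hn hX S hS hN
  have h𝓦 : ∀ W' ∈ ({W} : Set (∀ (Q : Type u) [Group Q], Subgroup Q)),
      Cfsg.IsCharPFunctor.{u} p W' := by
    intro W' hW'
    rw [Set.mem_singleton_iff] at hW'
    rw [hW']; exact hW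
  have h𝓦X := indFam_conj h𝓦 X
  have hfoc := focLe_of_fct h𝓦X (hctl X hX) le_top S.isPGroup'
    (by rw [Subgroup.relIndex_top_right]; exact S.not_dvd_index)
  obtain ⟨V, hV⟩ : ∃ V : Subgroup X, V = Cfsg.inducedFunctor W (S : Subgroup X) := ⟨_, rfl⟩
  have hfoc' : (S : Subgroup X) ⊓ ⁅(⊤ : Subgroup X), ⊤⁆ ≤
      (S : Subgroup X) ⊓ ⁅normalizer (V : Set X), normalizer (V : Set X)⁆ := by
    refine hfoc.trans ?_
    unfold FocW indFam
    rw [Set.image_singleton, iSup_singleton, top_inf_eq, hV]
  have hWc : Cfsg.IsConjugacyFunctor p (Cfsg.inducedFunctor (G := X) W) :=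
    isConjugacyFunctor_induced hW
  have hVS : V ≤ (S : Subgroup X) := hV ▸ induced_le _
  have hVne : V ≠ ⊥ := hV ▸ (hWc _ S.isPGroup').2.1 hS
  by_cases hNV : normalizer (V : Set X) = ⊤
  · haveI hVn : V.Normal := Subgroup.normalizer_eq_top_iff.mp hNV
    by_cases hSV : (S : Subgroup X) ≤ V
    · have hSeq : (S : Subgroup X) = V := le_antisymm hSV hVS
      haveI : (S : Subgroup X).Normal := hSeq ▸ hVn
      apply exists_normal_index_p S
      apply not_le_commutator_of_normal_sylow S hS
      intro g hg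
      exact hN g (by rw [Subgroup.normalizer_eq_top (S : Subgroup X)]; exact Subgroup.mem_top _) hg
    · -- pass to the quotient by `V`
      obtain ⟨π, hπ⟩ : ∃ π : X →* X ⧸ V, π = QuotientGroup.mk' V := ⟨_, rfl⟩
      have hπs : Function.Surjective π := by rw [hπ]; exact QuotientGroup.mk'_surjective V
      have hker : π.ker = V := by rw [hπ]; exact QuotientGroup.ker_mk' V
      obtain ⟨S', hS'⟩ : ∃ S' : Sylow p (X ⧸ V),
          S' = (S.isPGroup'.map π).toSylow (not_dvd_index_map S π hπs) := ⟨_, rfl⟩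
      have hS'coe : (S' : Subgroup (X ⧸ V)) = (S : Subgroup X).map π := by
        rw [hS']; exact IsPGroup.toSylow_coe _ _
      have hcomap : ((S : Subgroup X).map π).comap π = (S : Subgroup X) := by
        rw [Subgroup.comap_map_eq, hker, sup_eq_left.mpr hVS]
      have hS'ne : (S' : Subgroup (X ⧸ V)) ≠ ⊥ := by
        intro h
        apply hSV
        rw [hS'coe] at h
        rw [← hcomap, h]
        intro x hx
        exact hker.le hx
      have hN' : ∀ g ∈ normalizer ((S' : Subgroup (X ⧸ V)) : Set (X ⧸ V)), (orderOf g).Coprime p →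
          g ∈ centralizer ((S' : Subgroup (X ⧸ V)) : Set (X ⧸ V)) := by
        intro g' hg' hcop
        obtain ⟨g, rfl⟩ := hπs g'
        obtain ⟨k, hk1, hk2⟩ := exists_coprime_lift π g hcop
        have hgN : g ∈ normalizer ((S : Subgroup X) : Set X) := by
          have h1 : g ∈ (normalizer (((S : Subgroup X).map π : Subgroup (X ⧸ V)) : Set (X ⧸ V))).comap π := by
            rw [Subgroup.mem_comap, ← hS'coe]; exact hg'
          have h2 := Subgroup.le_normalizer_comap π h1
          rwa [hcomap] at h2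
        have hgk := hN _ (Subgroup.pow_mem _ hgN k) hk2
        rw [← hk1, hS'coe, Subgroup.mem_centralizer_iff]
        rintro _ ⟨s, hs, rfl⟩
        have := Subgroup.mem_centralizer_iff.mp hgk s hs
        rw [← map_mul, ← map_mul, this]
      obtain ⟨N', hN'n, hN'i⟩ := ih (Nat.card (X ⧸ V)) (hn ▸ card_quotient_lt V hVne) (X ⧸ V) rfl
        (hX.trans (Sec.quotient V)) S' hS'ne hN'
      refine ⟨N'.comap π, Subgroup.Normal.comap hN'n _, ?_⟩
      rw [Subgroup.index_comap_of_surjective _ hπs]
      exact hN'i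
  · -- the normalizer of `V` is proper
    obtain ⟨H, hH⟩ : ∃ H : Subgroup X, H = normalizer (V : Set X) := ⟨_, rfl⟩
    rw [← hH] at hNV hfoc'
    have hSH : (S : Subgroup X) ≤ H := by
      rw [hH, hV]
      exact Subgroup.le_normalizer.trans (normalizer_le_normalizer_functor hWc S.isPGroup')
    obtain ⟨S', hS'⟩ : ∃ S' : Sylow p ↥H,
        S' = IsPGroup.toSylow (P := (S : Subgroup X).subgroupOf H)
          (IsPGroup.comap_subtype S.isPGroup') (sylow_not_dvd_relIndex S hSH) := ⟨_, rfl⟩
    have hS'mem : ∀ y : ↥H, y ∈ S' ↔ (y : X) ∈ (S : Subgroup X) := by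
      intro y
      rw [hS']
      constructor
      · intro h
        exact Subgroup.mem_subgroupOf.mp ((IsPGroup.mem_toSylow _ _).mp h)
      · intro h
        exact (IsPGroup.mem_toSylow _ _).mpr (Subgroup.mem_subgroupOf.mpr h)
    have hS'ne : (S' : Subgroup ↥H) ≠ ⊥ := by
      intro h
      apply hS
      rw [eq_bot_iff]
      intro s hs
      have : (⟨s, hSH hs⟩ : ↥H) ∈ (S' : Subgroup ↥H) := (hS'mem _).mpr hs
      rw [h, Subgroup.mem_bot] at this
      rw [Subgroup.mem_bot]
      exact congrArg Subtype.val this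
    have hN' : ∀ g ∈ normalizer ((S' : Subgroup ↥H) : Set ↥H), (orderOf g).Coprime p →
        g ∈ centralizer ((S' : Subgroup ↥H) : Set ↥H) := by
      intro g hg hcop
      have hgN : (g : X) ∈ normalizer ((S : Subgroup X) : Set X) := by
        apply cj_eq_self_iff.mp
        apply cj_eq_of_le
        intro y hy
        obtain ⟨s, hs, rfl⟩ := mem_cj'.mp hy
        have h1 : (⟨s, hSH hs⟩ : ↥H) ∈ (S' : Subgroup ↥H) := (hS'mem _).mpr hs
        have h2 := (Subgroup.mem_normalizer_iff.mp hg _).mp h1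
        have h3 := (hS'mem _).mp h2
        simpa using h3
      have hgc := hN _ hgN (by rw [Subgroup.orderOf_coe]; exact hcop)
      rw [Subgroup.mem_centralizer_iff]
      intro y hy
      have := Subgroup.mem_centralizer_iff.mp hgc (y : X) ((hS'mem y).mp hy)
      apply Subtype.ext
      simpa using this
    obtain ⟨N', hN'n, hN'i⟩ := ih (Nat.card H) (hn ▸ card_subgroup_lt H hNV) ↥H rfl
      (hX.trans (Sec.subgroup H)) S' hS'ne hN'
    haveI := hN'n
    have hnot := not_le_commutator_of_index_p S' N' hN'i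
    apply exists_normal_index_p S
    intro hle
    apply hnot
    have h1 : (S : Subgroup X) ≤ ⁅H, H⁆ := (le_trans (le_inf le_rfl hle) hfoc').trans inf_le_right
    rw [← Subgroup.map_subtype_commutator] at h1
    intro y hy
    obtain ⟨z, hz, hzy⟩ := h1 ((hS'mem y).mp hy)
    have : z = y := Subtype.ext hzy
    rw [← _root_.commutator_def, ← this]
    exact hz

/-- Let p be a prime, G a finite group with nontrivial Sylow p-subgroup S, and W an isomorphism-invariant p-group functor (W assigns to every group Q a subgroup W(Q), nontrivial whenever Q is a nontrivial finite p-group, and every isomorphism from a finite p-group Q onto a group R carries W(Q) onto W(R)) that controls transfer in every section of G. If N_G(S)/C_G(S) is a p-group (every element of N_G(S) of order prime to p centralizes S), then G has a normal subgroup of index p. -/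
theorem result {G : Type u} [Group G] [Finite G] {p : ℕ} [Fact p.Prime] (W : ∀ (Q : Type u) [Group Q], Subgroup Q) (hW : Cfsg.IsCharPFunctor.{u} p W) (hctl : ∀ (K R : Subgroup G) [hR : (R.subgroupOf K).Normal], Cfsg.ControlsTransferIn p (Cfsg.inducedFunctor (G := (↥K ⧸ R.subgroupOf K)) W) ⊤) (S : Sylow p G) (hS : (S : Subgroup G) ≠ ⊥) (hN : ∀ g ∈ Subgroup.normalizer (((S : Subgroup G) : Subgroup G) : Set G), (orderOf g).Coprime p → g ∈ Subgroup.centralizer ((S : Subgroup G) : Set G)) : ∃ N : Subgroup G, N.Normal ∧ N.index = p := by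
  have hctl' : ∀ (X : Type u) [Group X] [Finite X], Sec G X →
      Cfsg.FamilyControlsTransferIn p (indFam {W} X) ⊤ := by
    intro X _ _ hX
    obtain ⟨K, R, hR, ⟨e⟩⟩ := hX
    have h𝓦 : ∀ W' ∈ ({W} : Set (∀ (Q : Type u) [Group Q], Subgroup Q)),
        Cfsg.IsCharPFunctor.{u} p W' := by
      intro W' hW'
      rw [Set.mem_singleton_iff] at hW'
      rw [hW']; exact hW
    apply fct_of_equiv h𝓦 e.symm
    obtain ⟨T, hT1, hTp, hTi, heq⟩ := hctl K R
    refine ⟨T, hT1, hTp, hTi, ?_⟩
    unfold indFam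
    rw [Set.image_singleton, iSup_singleton]
    exact heq
  exact main W hW hctl' _ G rfl (Sec.refl G) S hS hN

end Cfsg.Agent.S1971
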