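import Cfsg.Statements.S1972
import Cfsg.Agent.Lib.Helper33.TransQuot
import Cfsg.Agent.Lib.Helper33.TransEngel
import Cfsg.Agent.Lib.Helper46.Kieler5

set_option autoImplicit false
universe u
open Cfsg

namespace Cfsg.Agent.S1972

open Cfsg.Agent.Lib.Helper33 Subgroup in
open scoped commutatorElement in
/-- The local step: a constrained section all of whose smaller sections are controlled. -/
theorem aux {G : Type u} [Group G] {p : ℕ} [Fact p.Prime]
    (W : ∀ (Q : Type u) [Group Q], Subgroup Q) (hW : Cfsg.IsCharPFunctor.{u} p W)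
    {Y : Type u} [Group Y] [Finite Y] (hY : Sec G Y)
    (hcY : centralizer ((Cfsg.pCore p Y : Subgroup Y) : Set Y) ≤ Cfsg.pCore p Y)
    (ih : ∀ (Z : Type u) [Group Z] [Finite Z], Sec G Z → Nat.card Z < Nat.card Y →
      Cfsg.FamilyControlsTransferIn p (indFam {W} Z) ⊤)
    (hyp : ∀ T : Sylow p Y, ¬ (Cfsg.inducedFunctor (G := Y) W (T : Subgroup Y)).Normal →
      ∃ g : Y, g ∈ (T : Subgroup Y) ∧ g ∉ Cfsg.pCore p Y ∧ ∀ U V : Subgroup Y,
        Cfsg.IsChiefFactor U V → U ≤ Cfsg.pCore p Y →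
          Cfsg.iterCommutator U (Subgroup.zpowers g) (p - 1) ≤ V) :
    Cfsg.FamilyControlsTransferIn p (indFam {W} Y) ⊤ := by
  have h𝓦 : ∀ W' ∈ ({W} : Set (∀ (Q : Type u) [Group Q], Subgroup Q)),
      Cfsg.IsCharPFunctor.{u} p W' := by
    intro W' hW'
    rw [Set.mem_singleton_iff] at hW'
    rw [hW']; exact hW
  obtain ⟨P⟩ : Nonempty (Sylow p Y) := inferInstance
  apply fct_of_focLe P.isPGroup' P.not_dvd_index
  have h𝓦Y := indFam_conj h𝓦 Y
  have hWmem : Cfsg.inducedFunctor (G := Y) W ∈ indFam {W} Y := ⟨W, rfl, rfl⟩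
  obtain ⟨Q, hQ⟩ : ∃ Q : Subgroup Y, Q = Cfsg.pCore p Y := ⟨_, rfl⟩
  haveI hQn : Q.Normal := by rw [hQ]; exact Cfsg.Agent.Lib.Helper55.pCore_normal' p
  have hQP : Q ≤ (P : Subgroup Y) := by rw [hQ]; exact Cfsg.Agent.Lib.Helper11.pCore_le_sylow P
  rw [← hQ] at hcY
  by_cases hWn : (Cfsg.inducedFunctor (G := Y) W (P : Subgroup Y)).Normal
  · have h1 := le_focW hWmem (P : Subgroup Y)
    rw [Subgroup.normalizer_eq_top_iff.mpr hWn] at h1
    exact h1
  obtain ⟨g, hgP, hgQ, hEngel⟩ := hyp P hWn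
  rw [← hQ] at hgQ hEngel
  have hPQ : ¬ (P : Subgroup Y) ≤ Q := by
    intro hPQ
    apply hWn
    have hPeq : (P : Subgroup Y) = Q := le_antisymm hPQ hQP
    have h1 := normalizer_le_normalizer_functor (h𝓦Y _ hWmem) P.isPGroup'
    have h2 : normalizer (((P : Subgroup Y) : Subgroup Y) : Set Y) = ⊤ := by
      rw [hPeq]; exact Subgroup.normalizer_eq_top_iff.mpr hQn
    rw [h2] at h1
    exact Subgroup.normalizer_eq_top_iff.mp (top_le_iff.mp h1)
  have hQne : Q ≠ ⊥ := by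
    intro h
    apply hPQ
    intro x _
    apply hcY
    rw [h, Subgroup.mem_centralizer_iff]
    intro y hy
    have : y = 1 := by simpa using hy
    rw [this, one_mul, mul_one]
  have hQmax : ∀ V : Subgroup Y, V ≤ (P : Subgroup Y) → normalizer (V : Set Y) = ⊤ →
      V ≤ Q := by
    intro V hVP hV
    haveI : V.Normal := Subgroup.normalizer_eq_top_iff.mp hV
    rw [hQ]
    exact Cfsg.Agent.Lib.Helper55.le_pCore p V (P.isPGroup'.to_le hVP)
  have hsubT : ∀ H : Subgroup Y, H ≠ ⊤ → (P : Subgroup Y) ≤ H →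
      (P : Subgroup Y) ⊓ ⁅H, H⁆ ≤ FocW (indFam {W} Y) (P : Subgroup Y) := by
    intro H hH hPH
    have h1 : Cfsg.FamilyControlsTransferIn p (indFam {W} Y) H := by
      apply fct_subgroup h𝓦 H
      exact ih ↥H (hY.trans (Sec.subgroup H)) (card_subgroup_lt H hH)
    exact focLe_of_fct h𝓦Y h1 hPH P.isPGroup' (sylow_not_dvd_relIndex P hPH)
  have hq : (P : Subgroup Y).map (QuotientGroup.mk' Q) ⊓ ⁅(⊤ : Subgroup (Y ⧸ Q)), ⊤⁆ ≤
      FocW (indFam {W} (Y ⧸ Q)) ((P : Subgroup Y).map (QuotientGroup.mk' Q)) := by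
    have h1 := ih (Y ⧸ Q) (hY.trans (Sec.quotient Q)) (card_quotient_lt Q hQne)
    exact focLe_of_fct (indFam_conj h𝓦 _) h1 le_top (P.isPGroup'.map _)
      (by rw [Subgroup.relIndex_top_right]
          exact not_dvd_index_map P _ (QuotientGroup.mk'_surjective Q))
  have hPtop : (P : Subgroup Y) ≠ ⊤ := by
    intro h
    apply hPQ
    apply hQmax _ le_rfl
    rw [h]
    exact Subgroup.normalizer_eq_top_iff.mpr inferInstance
  have hstep := engel_step P Q (P.isPGroup'.to_le hQP) hQP (FocW (indFam {W} Y) (P : Subgroup Y))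
    hsubT hPtop g hgP (by
      intro N hN hNp hgN
      apply hgQ
      rw [hQ]
      haveI := hN
      exact Cfsg.Agent.Lib.Helper55.le_pCore p N hNp hgN) hEngel
  rintro z hz
  obtain ⟨f, hf, hqQ, hqc⟩ := exists_focW_mul_of_quot h𝓦 P Q hQP hsubT hPQ
    (fun V hV hVP htop => (not_le_of_gt hV) (hQmax V hVP htop)) hq z hz
  have hqF : f⁻¹ * z ∈ FocW (indFam {W} Y) (P : Subgroup Y) := hstep ⟨hqQ, hqc⟩
  have : z = f * (f⁻¹ * z) := by group
  rw [this]
  exact Subgroup.mul_mem _ hf hqF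

/-- Let p be a prime, G a finite group and W an isomorphism-invariant p-group functor (W assigns to every group Q a subgroup W(Q), nontrivial whenever Q is a nontrivial finite p-group, and every isomorphism from a finite p-group Q onto a group R carries W(Q) onto W(R)). Suppose that whenever G* = K/R is a section of G with C_{G*}(O_p(G*)) ≤ O_p(G*) and S* is a Sylow p-subgroup of G* with W(S*) not normal in G*, there is an element g of S* outside O_p(G*) such that [X, g, …, g] ≤ Y with p − 1 entries g, for every chief factor X/Y of G* with X ≤ O_p(G*). Then W controls transfer in every section of G. -/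
theorem result {G : Type u} [Group G] [Finite G] {p : ℕ} [Fact p.Prime] (W : ∀ (Q : Type u) [Group Q], Subgroup Q) (hW : Cfsg.IsCharPFunctor.{u} p W) (hloc : ∀ (K R : Subgroup G) [hR : (R.subgroupOf K).Normal], Subgroup.centralizer ((Cfsg.pCore p (↥K ⧸ R.subgroupOf K) : Subgroup (↥K ⧸ R.subgroupOf K)) : Set (↥K ⧸ R.subgroupOf K)) ≤ Cfsg.pCore p (↥K ⧸ R.subgroupOf K) → ∀ T : Sylow p (↥K ⧸ R.subgroupOf K), ¬ (Cfsg.inducedFunctor (G := (↥K ⧸ R.subgroupOf K)) W ((T : Subgroup (↥K ⧸ R.subgroupOf K)))).Normal → ∃ g : (↥K ⧸ R.subgroupOf K), g ∈ (T : Subgroup (↥K ⧸ R.subgroupOf K)) ∧ g ∉ Cfsg.pCore p (↥K ⧸ R.subgroupOf K) ∧ ∀ U V : Subgroup (↥K ⧸ R.subgroupOf K), Cfsg.IsChiefFactor U V → U ≤ Cfsg.pCore p (↥K ⧸ R.subgroupOf K) → Cfsg.iterCommutator U (Subgroup.zpowers g) (p - 1) ≤ V) : ∀ (K R : Subgroup G) [hR : (R.subgroupOf K).Normal], Cfsg.ControlsTransferIn p (Cfsg.inducedFunctor (G := (↥K ⧸ R.subgroupOf K)) W) ⊤ := by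
  have h𝓦 : ∀ W' ∈ ({W} : Set (∀ (Q : Type u) [Group Q], Subgroup Q)),
      Cfsg.IsCharPFunctor.{u} p W' := by
    intro W' hW'
    rw [Set.mem_singleton_iff] at hW'
    rw [hW']; exact hW
  have hloc' : ∀ (X : Type u) [Group X] [Finite X], Cfsg.Agent.Lib.Helper33.Sec G X →
      Subgroup.centralizer ((Cfsg.pCore p X : Subgroup X) : Set X) ≤ Cfsg.pCore p X →
      (∀ (Y : Type u) [Group Y] [Finite Y], Cfsg.Agent.Lib.Helper33.Sec G Y →
        Nat.card Y < Nat.card X →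
        Cfsg.FamilyControlsTransferIn p (Cfsg.Agent.Lib.Helper33.indFam {W} Y) ⊤) →
      Cfsg.FamilyControlsTransferIn p (Cfsg.Agent.Lib.Helper33.indFam {W} X) ⊤ := by
    intro X _ _ hX hc ih
    obtain ⟨K, R, hR, ⟨e⟩⟩ := hX
    apply Cfsg.Agent.Lib.Helper33.fct_of_equiv h𝓦 e.symm
    have hcY := Cfsg.Agent.Lib.Helper46.charP_congr e hc
    have hcard : Nat.card (↥K ⧸ R.subgroupOf K) = Nat.card X := Nat.card_congr e.symm.toEquiv
    exact aux W hW (Cfsg.Agent.Lib.Helper33.Sec.section_ K R) hcY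
      (fun Z _ _ hZ hlt => ih Z hZ (by rw [← hcard]; exact hlt)) (hloc K R hcY)
  intro K R hR
  have hY := Cfsg.Agent.Lib.Helper33.sec_master_T h𝓦 hloc' _ (↥K ⧸ R.subgroupOf K) rfl
    (Cfsg.Agent.Lib.Helper33.Sec.section_ K R)
  obtain ⟨T, hT1, hTp, hTi, heq⟩ := hY
  refine ⟨T, hT1, hTp, hTi, ?_⟩
  rw [heq]
  unfold Cfsg.Agent.Lib.Helper33.indFam
  rw [Set.image_singleton, iSup_singleton]

end Cfsg.Agent.S1972
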