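import Cfsg.Statements.S1975

set_option autoImplicit false
open Cfsg

namespace Cfsg.Agent.S1975

theorem lower_anti {P : Type*} [Group P] {Q Q' : Subgroup P} (h : Q' ≤ Q) :
    Cfsg.kLowerStarFamily Q ⊆ Cfsg.kLowerStarFamily Q' := by
  intro B hB
  refine ⟨hB.1, le_trans h hB.2.1, ?_⟩
  intro A hA hAQ
  exact hB.2.2 A hA (le_trans hAQ h)

theorem upper_anti {P : Type*} [Group P] {Q Q' : Subgroup P} (h : Q' ≤ Q) :
    Cfsg.kUpperStarFamily Q ⊆ Cfsg.kUpperStarFamily Q' := by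
  intro B hB
  refine ⟨hB.1, le_trans ?_ hB.2⟩
  exact Subgroup.commutator_mono le_rfl h

theorem mono_aux {P : Type*} [Group P] (n : ℕ) :
    Cfsg.kSeqOdd P (n + 1) ≤ Cfsg.kSeqOdd P n ∧ Cfsg.kSeqEven P n ≤ Cfsg.kSeqEven P (n + 1) := by
  induction n with
  | zero =>
    have h1 : Cfsg.kSeqOdd P 1 ≤ Cfsg.kSeqOdd P 0 := by
      show _ ≤ (⊤ : Subgroup P)
      exact le_top
    refine ⟨h1, ?_⟩
    unfold Cfsg.kSeqEven
    exact sSup_le_sSup (lower_anti h1)
  | succ k ih =>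
    have h1 : Cfsg.kSeqOdd P (k + 1 + 1) ≤ Cfsg.kSeqOdd P (k + 1) := by
      show sSup (Cfsg.kUpperStarFamily (sSup (Cfsg.kLowerStarFamily (Cfsg.kSeqOdd P (k+1))))) ≤
        sSup (Cfsg.kUpperStarFamily (sSup (Cfsg.kLowerStarFamily (Cfsg.kSeqOdd P k))))
      exact sSup_le_sSup (upper_anti ih.2)
    refine ⟨h1, ?_⟩
    unfold Cfsg.kSeqEven
    exact sSup_le_sSup (lower_anti h1)

/-- Let P be a finite p-group. In the K-sequence of P the odd-indexed terms decrease and the even-indexed terms increase: with the numbering used here, kSeqOdd P (n+1) ≤ kSeqOdd P n and kSeqEven P n ≤ kSeqEven P (n+1) for every n. -/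
theorem result {P : Type*} [Group P] [Finite P] {p : ℕ} [Fact p.Prime] (hP : IsPGroup p P) (n : ℕ) : Cfsg.kSeqOdd P (n + 1) ≤ Cfsg.kSeqOdd P n ∧ Cfsg.kSeqEven P n ≤ Cfsg.kSeqEven P (n + 1) := by
  exact mono_aux n

end Cfsg.Agent.S1975
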