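import Cfsg.Statements.S1976
import Cfsg.Agent.S1975

set_option autoImplicit false
open Cfsg

namespace Cfsg.Agent.S1976

theorem even_mono {P : Type*} [Group P] : Monotone (Cfsg.kSeqEven P) :=
  monotone_nat_of_le_succ (fun n => (Cfsg.Agent.S1975.mono_aux n).2)

theorem odd_anti {P : Type*} [Group P] : Antitone (Cfsg.kSeqOdd P) :=
  antitone_nat_of_succ_le (fun n => (Cfsg.Agent.S1975.mono_aux n).1)

/-- Let P be a finite p-group. The K-sequence of P is eventually constant on each parity: from some index on, every even-indexed term equals the lower K-infinity subgroup and every odd-indexed term equals the upper K-infinity subgroup. -/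
theorem result {P : Type*} [Group P] [Finite P] {p : ℕ} [Fact p.Prime] (hP : IsPGroup p P) : ∃ n : ℕ, ∀ m : ℕ, n ≤ m → Cfsg.kSeqEven P m = Cfsg.kInfLower P ∧ Cfsg.kSeqOdd P m = Cfsg.kInfUpper P := by
  haveI : Finite (Subgroup P) := inferInstance
  obtain ⟨n1, hn1⟩ := WellFoundedGT.monotone_chain_condition
    (⟨Cfsg.kSeqEven P, even_mono⟩ : ℕ →o Subgroup P)
  obtain ⟨n2, hn2⟩ := WellFoundedLT.antitone_chain_condition (odd_anti (P := P))
  refine ⟨max n1 n2, ?_⟩
  intro m hm
  have hm1 : n1 ≤ m := le_trans (le_max_left _ _) hm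
  have hm2 : n2 ≤ m := le_trans (le_max_right _ _) hm
  constructor
  · unfold Cfsg.kInfLower
    apply le_antisymm
    · exact le_iSup (Cfsg.kSeqEven P) m
    · refine iSup_le ?_
      intro k
      rcases le_total k m with hk | hk
      · exact even_mono hk
      · have e1 : Cfsg.kSeqEven P n1 = Cfsg.kSeqEven P m := hn1 m hm1
        have e2 : Cfsg.kSeqEven P n1 = Cfsg.kSeqEven P k := hn1 k (le_trans hm1 hk)
        rw [← e2, e1]
  · unfold Cfsg.kInfUpper
    apply le_antisymm
    · refine le_iInf ?_
      intro k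
      rcases le_total k m with hk | hk
      · exact odd_anti hk
      · have e1 : Cfsg.kSeqOdd P n2 = Cfsg.kSeqOdd P m := hn2 m hm2
        have e2 : Cfsg.kSeqOdd P n2 = Cfsg.kSeqOdd P k := hn2 k (le_trans hm2 hk)
        rw [← e1, e2]
    · exact iInf_le (Cfsg.kSeqOdd P) m

end Cfsg.Agent.S1976
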