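import Cfsg.Statements.S1984
import Cfsg.Agent.S1972
import Cfsg.Agent.Lib.Helper33.KInfQuartic

set_option autoImplicit false
universe u
open Cfsg

namespace Cfsg.Agent.S1984

/-- A K-infinity functor controls transfer for `p ≥ 5`. -/
theorem transfer_of_quartic {G : Type u} [Group G] [Finite G] {p : ℕ} [Fact p.Prime] (hp : 5 ≤ p)
    (W : ∀ (Q : Type u) [Group Q], Subgroup Q) (hW : Cfsg.IsCharPFunctor.{u} p W)
    (hWK : (∀ (Q : Type u) [Group Q], W Q = Cfsg.kInfLower Q) ∨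
      (∀ (Q : Type u) [Group Q], W Q = Cfsg.kInfUpper Q)) :
    Cfsg.ControlsTransferIn p (Cfsg.inducedFunctor (G := G) W) ⊤ := by
  have h𝓦 : ∀ W' ∈ ({W} : Set (∀ (Q : Type u) [Group Q], Subgroup Q)),
      Cfsg.IsCharPFunctor.{u} p W' := by
    intro W' hW'
    rw [Set.mem_singleton_iff] at hW'
    rw [hW']; exact hW
  have hloc' : ∀ (X : Type u) [Group X] [Finite X], Cfsg.Agent.Lib.Helper33.Sec G X →
      Subgroup.centralizer ((Cfsg.pCore p X : Subgroup X) : Set X) ≤ Cfsg.pCore p X →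
      (∀ (Y : Type u) [Group Y] [Finite Y], Cfsg.Agent.Lib.Helper33.Sec G Y →
        Nat.card Y < Nat.card X →
        Cfsg.FamilyControlsTransferIn p (Cfsg.Agent.Lib.Helper33.indFam {W} Y) ⊤) →
      Cfsg.FamilyControlsTransferIn p (Cfsg.Agent.Lib.Helper33.indFam {W} X) ⊤ := by
    intro X _ _ hX hc ih
    apply Cfsg.Agent.S1972.aux W hW hX hc ih
    intro T hTn
    obtain ⟨g, hgT, hgQ, hE⟩ :=
      Cfsg.Agent.Lib.Helper33.exists_quartic_of_not_normal T W hW hWK hTn
    refine ⟨g, hgT, hgQ, fun U V hc hU => ?_⟩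
    haveI := hc.2.2.1
    exact Cfsg.Agent.Lib.Helper33.iterC_le_of_le
      (Cfsg.Agent.Lib.Helper33.normal_le_normalizer _ V) (by omega) (hE U V hc hU)
  have hY := Cfsg.Agent.Lib.Helper33.sec_master_T h𝓦 hloc' _ G rfl
    (Cfsg.Agent.Lib.Helper33.Sec.refl G)
  obtain ⟨T, hT1, hTp, hTi, heq⟩ := hY
  refine ⟨T, hT1, hTp, hTi, ?_⟩
  rw [heq]
  unfold Cfsg.Agent.Lib.Helper33.indFam
  rw [Set.image_singleton, iSup_singleton]

/-- Let p ≥ 5 be a prime and G a finite group. Then the lower K-infinity subgroup controls transfer in G: for some (equivalently, every) Sylow p-subgroup S of G, S ∩ G' = S ∩ (N_G(K))', where K is the lower K-infinity subgroup of S. -/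
theorem result {G : Type u} [Group G] [Finite G] {p : ℕ} [Fact p.Prime] (hp : 5 ≤ p) : Cfsg.ControlsTransferIn p (Cfsg.inducedFunctor (G := G) Cfsg.kInfLower) ⊤ := by
  have hW : Cfsg.IsCharPFunctor.{u} p (fun (Q : Type u) [Group Q] => Cfsg.kInfLower Q) :=
    Cfsg.Agent.Lib.Helper33.isCharPFunctor_kInfLower p
  exact Cfsg.Agent.S1984.transfer_of_quartic (G := G) hp _ hW (Or.inl (fun Q _ => rfl))

end Cfsg.Agent.S1984
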