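import Cfsg.Statements.S1985
import Cfsg.Agent.S1973
import Cfsg.Agent.Lib.Helper33.KInfLocal

set_option autoImplicit false
universe u
open Cfsg

namespace Cfsg.Agent.S1985

/-- Let p be an odd prime and G a finite group. Then the lower K-infinity subgroup controls weak closure of elements in G: the lower K-infinity subgroup of every p-subgroup P of G contains Z(P), and for some (equivalently, every) Sylow p-subgroup S of G, with K the lower K-infinity subgroup of S, every element of S commuting with all of N_G(K) is weakly closed in S with respect to G (every G-conjugate of it lying in S equals it). -/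
theorem result {G : Type u} [Group G] [Finite G] {p : ℕ} [Fact p.Prime] (hp : p ≠ 2) : Cfsg.ControlsWeakClosureOfElementsIn p (Cfsg.inducedFunctor (G := G) Cfsg.kInfLower) ⊤ := by
  have hWc := Cfsg.Agent.Lib.Helper33.isCharPFunctor_kInfLower.{u} p
  have hp3 : 2 ≤ p - 1 := by
    have := (Fact.out : p.Prime).two_le
    omega
  refine Cfsg.Agent.S1973.result (Cfsg.inducedFunctor (G := G) Cfsg.kInfLower)
    (Cfsg.Agent.Lib.Helper33.isConjugacyFunctor_induced hWc)
    (fun P hP => (Cfsg.Agent.Lib.Helper33.center_le_induced_kInf P hP).1) ?_ ⊤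
  intro H T hTH hTp hTi hn
  obtain ⟨g, hgT, hgQ, hq⟩ := Cfsg.Agent.Lib.Helper33.kinf_local Cfsg.kInfLower hWc
    (Or.inl (fun _ _ => rfl)) H T hTH hTp hTi hn
  refine ⟨g, hgT, hgQ, ?_⟩
  intro U V _ hUZ
  have h2 : Cfsg.iterCommutator (U.map H.subtype) (Subgroup.zpowers g) 2 ≤ (⊥ : Subgroup G) := by
    rw [← hq]
    exact Cfsg.Agent.Lib.Helper33.iterC_mono hUZ (Subgroup.zpowers g) 2
  have h3 := Cfsg.Agent.Lib.Helper33.iterC_le_of_le (V := (⊥ : Subgroup G))
    (Z := Subgroup.zpowers g) (by rw [Subgroup.normalizer_eq_top]; exact le_top) hp3 h2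
  exact h3.trans bot_le

end Cfsg.Agent.S1985
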