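import Cfsg.Statements.S2005
import Cfsg.Agent.Lib.Helper11.ThompsonCrit

set_option autoImplicit false
set_option linter.unusedSectionVars false
set_option linter.style.haveILetI false
universe u
open Cfsg

namespace Cfsg.Agent.S2005

open Cfsg.Agent.Lib.Helper11

/-- `X` is (isomorphic to) a section `K / (R ∩ K)` of `G`. -/
def IsSectionOf (G : Type u) [Group G] (X : Type u) [Group X] : Prop :=
  ∃ (K R : Subgroup G) (φ : ↥K →* X), Function.Surjective φ ∧ φ.ker = R.subgroupOf K

theorem isSectionOf_self (G : Type u) [Group G] : IsSectionOf G G := by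
  refine ⟨⊤, ⊥, (Subgroup.topEquiv : ↥(⊤ : Subgroup G) ≃* G).toMonoidHom,
    (Subgroup.topEquiv : ↥(⊤ : Subgroup G) ≃* G).surjective, ?_⟩
  rw [(MonoidHom.ker_eq_bot_iff _).mpr (Subgroup.topEquiv : ↥(⊤ : Subgroup G) ≃* G).injective]
  ext x
  rw [Subgroup.mem_bot, Subgroup.mem_subgroupOf, Subgroup.mem_bot]
  exact ⟨fun h => by rw [h]; rfl, fun h => Subtype.ext h⟩

theorem isSectionOf_subgroup {G : Type u} [Group G] {X : Type u} [Group X] (Y : Subgroup X)
    (h : IsSectionOf G X) : IsSectionOf G ↥Y := by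
  obtain ⟨K, R, φ, hφ, hker⟩ := h
  have hle : (Y.comap φ).map K.subtype ≤ K := Subgroup.map_subtype_le _
  have hmem : ∀ x : ↥((Y.comap φ).map K.subtype), φ (Subgroup.inclusion hle x) ∈ Y := by
    rintro ⟨_, k, hk, rfl⟩
    exact hk
  refine ⟨(Y.comap φ).map K.subtype, R,
    (φ.comp (Subgroup.inclusion hle)).codRestrict Y hmem, ?_, ?_⟩
  · rintro ⟨y, hy⟩
    obtain ⟨k, rfl⟩ := hφ y
    exact ⟨⟨(k : G), k, hy, rfl⟩, Subtype.ext rfl⟩
  · ext x
    rw [MonoidHom.mem_ker, Subgroup.mem_subgroupOf]
    have h1 : ((φ.comp (Subgroup.inclusion hle)).codRestrict Y hmem x = 1) ↔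
        φ (Subgroup.inclusion hle x) = 1 := by
      constructor
      · intro h; exact congrArg Subtype.val h
      · intro h; exact Subtype.ext h
    rw [h1, ← MonoidHom.mem_ker, hker, Subgroup.mem_subgroupOf]
    rfl

theorem isSectionOf_quotient {G : Type u} [Group G] {X : Type u} [Group X] (N : Subgroup X)
    [N.Normal] (h : IsSectionOf G X) : IsSectionOf G (X ⧸ N) := by
  obtain ⟨K, R, φ, hφ, hker⟩ := h
  refine ⟨K, (N.comap φ).map K.subtype, (QuotientGroup.mk' N).comp φ,
    (QuotientGroup.mk'_surjective N).comp hφ, ?_⟩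
  ext x
  rw [MonoidHom.mem_ker, Subgroup.mem_subgroupOf, MonoidHom.comp_apply, QuotientGroup.mk'_apply,
    QuotientGroup.eq_one_iff]
  constructor
  · intro h; exact ⟨x, h, rfl⟩
  · rintro ⟨y, hy, hyx⟩
    have : y = x := Subtype.ext hyx
    rw [← this]; exact hy

section transfer

variable {p : ℕ} [hp : Fact p.Prime] (W : ∀ (Q : Type u) [Group Q], Subgroup Q)

/-- The local hypothesis is invariant under isomorphism. -/
theorem hloc_transfer (hW : IsCharPFunctor.{u} p W) {A B : Type u} [Group A] [Group B] [Finite A]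
    [Finite B] (e : A ≃* B)
    (hA : Subgroup.centralizer (pCore p A : Set A) ≤ pCore p A →
      HasNormalPComplement p (A ⧸ pCore p A) →
      ∀ T : Sylow p A, IsCoatom (T : Subgroup A) → (inducedFunctor W (T : Subgroup A)).Normal)
    (hc : Subgroup.centralizer (pCore p B : Set B) ≤ pCore p B)
    (hq : HasNormalPComplement p (B ⧸ pCore p B))
    (T : Sylow p B) (hT : IsCoatom (T : Subgroup B)) :
    (inducedFunctor W (T : Subgroup B)).Normal := by
  have hOA : (pCore p A).map e.toMonoidHom = pCore p B := pCore_map_equiv' p e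
  have hOB : (pCore p B).map e.symm.toMonoidHom = pCore p A := pCore_map_equiv' p e.symm
  have hcA : Subgroup.centralizer (pCore p A : Set A) ≤ pCore p A := by
    intro x hx
    have h1 : e x ∈ Subgroup.centralizer (pCore p B : Set B) := by
      rw [Subgroup.mem_centralizer_iff] at hx ⊢
      intro b hb
      rw [SetLike.mem_coe, ← hOA] at hb
      obtain ⟨a, ha, rfl⟩ := hb
      have := hx a ha
      change e a * e x = e x * e a
      rw [← map_mul, ← map_mul, this]
    have h2 := hc h1
    rw [← hOA] at h2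
    obtain ⟨a, ha, hax⟩ := h2
    have : a = x := e.injective hax
    rwa [← this]
  have hqA : HasNormalPComplement p (A ⧸ pCore p A) := by
    have hle : pCore p B ≤ (pCore p A).comap e.symm.toMonoidHom := by
      intro b hb
      rw [Subgroup.mem_comap, ← hOB]
      exact Subgroup.mem_map_of_mem _ hb
    refine hasNPC_of_surjective (QuotientGroup.map (pCore p B) (pCore p A) e.symm.toMonoidHom hle)
      ?_ hq
    intro q
    obtain ⟨a, rfl⟩ := QuotientGroup.mk_surjective q
    exact ⟨QuotientGroup.mk (e a), by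
      rw [QuotientGroup.map_mk]
      change (QuotientGroup.mk (e.symm (e a)) : A ⧸ pCore p A) = _
      rw [e.symm_apply_apply]⟩
  obtain ⟨TA, hTA⟩ : ∃ TA : Sylow p A, (TA : Subgroup A) =
      (T : Subgroup B).map e.symm.toMonoidHom := ⟨T.mapSurjective e.symm.surjective, rfl⟩
  have hTAco : IsCoatom (TA : Subgroup A) := by
    rw [hTA]
    exact (OrderIso.isCoatom_iff e.symm.mapSubgroup (T : Subgroup B)).mpr hT
  have hn := hA hcA hqA TA hTAco
  have hback : (TA : Subgroup A).map e.toMonoidHom = (T : Subgroup B) := by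
    rw [hTA, Subgroup.map_map]
    have : e.toMonoidHom.comp e.symm.toMonoidHom = MonoidHom.id B := by
      ext b; exact e.apply_symm_apply b
    rw [this, Subgroup.map_id]
  have hW' : inducedFunctor W (T : Subgroup B) =
      (inducedFunctor W (TA : Subgroup A)).map e.toMonoidHom := by
    rw [← hback]
    apply inducedFunctor_map W hW _ _ TA.2
    rw [(MonoidHom.ker_eq_bot_iff _).mpr e.injective, inf_bot_eq]
  rw [hW']
  exact Subgroup.Normal.map hn _ e.surjective

end transfer

/-- Thompson's normal p-complement criterion in functor form. Let p be a prime, G a finite group with Sylow p-subgroup S, and W an isomorphism-invariant p-group functor (W assigns to every group Q a subgroup W(Q), nontrivial whenever Q is a nontrivial finite p-group, and every isomorphism from a finite p-group Q onto a group R carries W(Q) onto W(R)). Suppose N_G(W(S)) has a normal p-complement, and that W(S*) is normal in G* whenever G* = K/R is a section of G with C_{G*}(O_p(G*)) ≤ O_p(G*) such that G*/O_p(G*) has a normal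 p-complement, and S* is a Sylow p-subgroup of G* that is a maximal subgroup of G*. Then G has a normal p-complement. -/
theorem result {G : Type u} [Group G] [Finite G] {p : ℕ} [Fact p.Prime] (W : ∀ (Q : Type u) [Group Q], Subgroup Q) (hW : Cfsg.IsCharPFunctor.{u} p W) (S : Sylow p G) (hN : Cfsg.HasNormalPComplement p ↥(Subgroup.normalizer ((Cfsg.inducedFunctor (G := G) W (S : Subgroup G) : Subgroup G) : Set G))) (hloc : ∀ (K R : Subgroup G) [hR : (R.subgroupOf K).Normal], Subgroup.centralizer ((Cfsg.pCore p (↥K ⧸ R.subgroupOf K) : Subgroup (↥K ⧸ R.subgroupOf K)) : Set (↥K ⧸ R.subgroupOf K)) ≤ Cfsg.pCore p (↥K ⧸ R.subgroupOf K) → Cfsg.HasNormalPComplement p ((↥K ⧸ R.subgroupOf K) ⧸ Cfsg.pCore p (↥K ⧸ R.subgroupOf K)) → ∀ T : Sylow p (↥K ⧸ R.subgroupOf K), IsCoatom (T : Subgroup (↥K ⧸ R.subgroupOf K)) → (Cfsg.inducedFunctor (G := (↥K ⧸ R.subgroupOf K)) W ((T : Subgroup (↥K ⧸ R.subgroupOf K)))).Normal) : Cfsg.HasNormalPComplement p G := by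
  refine thompson_criterion p W hW (fun X _ => IsSectionOf G X)
    (fun X _ Y h => isSectionOf_subgroup Y h)
    (fun X _ N _ h => isSectionOf_quotient N h) ?_ _ G (isSectionOf_self G) rfl S hN
  intro X _ _ hX hc hq T hT
  obtain ⟨K, R, φ, hφ, hker⟩ := hX
  haveI hR : (R.subgroupOf K).Normal := hker ▸ (inferInstance : φ.ker.Normal)
  let e : (↥K ⧸ R.subgroupOf K) ≃* X :=
    (QuotientGroup.quotientMulEquivOfEq hker.symm).trans
      (QuotientGroup.quotientKerEquivOfSurjective φ hφ)
  exact hloc_transfer W hW e (hloc K R) hc hq T hT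

end Cfsg.Agent.S2005
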