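import Cfsg.Statements.S1990
import Cfsg.Agent.S2005
import Cfsg.Agent.S0071
import Cfsg.Agent.Lib.Helper11.PAbP

set_option autoImplicit false
universe u
open Cfsg

namespace Cfsg.Agent.S1990

open Cfsg.Agent.Lib.Helper11

/-- a finite group with a normal `p`-complement and `C(O_p) ≤ O_p` is a `p`-group -/
theorem isPGroup_of_hasNPC {Y : Type*} [Group Y] [Finite Y] {p : ℕ} [hp : Fact p.Prime]
    (h : HasNormalPComplement p Y)
    (hc : Subgroup.centralizer (pCore p Y : Set Y) ≤ pCore p Y) : IsPGroup p Y := by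
  obtain ⟨K, hK⟩ := exists_wit_of_hasNPC h
  have hKc := hK.le_centralizer (inferInstance : (pCore p Y).Normal) (pCore_isPGroup p Y)
  have hKbot : ∀ k ∈ K, k = 1 := by
    intro k hk
    have h2 : k ∈ pCore p Y := hc (hKc hk)
    have h3 := hK.2.1 k hk
    obtain ⟨j, hj⟩ := (IsPGroup.iff_orderOf.mp (pCore_isPGroup p Y)) ⟨k, h2⟩
    rw [Subgroup.orderOf_mk] at hj
    rw [hj] at h3
    have hj0 : j = 0 := by
      by_contra hj0
      have h5 : p.Coprime p := Nat.Coprime.coprime_dvd_left (dvd_pow_self p hj0) h3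
      exact hp.out.one_lt.ne' ((Nat.coprime_self p).mp h5)
    rw [hj0, pow_zero] at hj
    exact orderOf_eq_one_iff.mp hj
  intro y
  obtain ⟨n, hn⟩ := hK.2.2 y
  exact ⟨n, hKbot _ hn⟩

/-- a `p'`-element of `N(Q)` acting on `Q` like a `p`-element centralizes `Q` -/
theorem mem_centralizer_of_control {Y : Type*} [Group Y] {p : ℕ} (Q : Subgroup Y)
    (g x : Y) (hg : g ∈ Subgroup.normalizer (Q : Set Y)) (hx : ∃ j : ℕ, x ^ (p ^ j) = 1)
    (hgo : (orderOf g).Coprime p) (hgx : ∀ a ∈ Q, g * a * g⁻¹ = x * a * x⁻¹) :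
    g ∈ Subgroup.centralizer (Q : Set Y) := by
  have hpow : ∀ k : ℕ, ∀ a ∈ Q, g ^ k * a * (g ^ k)⁻¹ = x ^ k * a * (x ^ k)⁻¹ := by
    intro k
    induction k with
    | zero => intro a _; simp
    | succ k ih =>
      intro a ha
      have h1 : g * a * g⁻¹ ∈ Q := (Subgroup.mem_normalizer_iff.mp hg a).mp ha
      calc g ^ (k + 1) * a * (g ^ (k + 1))⁻¹ = g ^ k * (g * a * g⁻¹) * (g ^ k)⁻¹ := by
            rw [pow_succ]; group
        _ = x ^ k * (g * a * g⁻¹) * (x ^ k)⁻¹ := ih _ h1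
        _ = x ^ k * (x * a * x⁻¹) * (x ^ k)⁻¹ := by rw [hgx a ha]
        _ = x ^ (k + 1) * a * (x ^ (k + 1))⁻¹ := by rw [pow_succ]; group
  obtain ⟨j, hj⟩ := hx
  obtain ⟨k, hk1, hk2⟩ := Nat.chineseRemainder (Nat.Coprime.pow_right j hgo) 1 0
  have hgk : g ^ k = g := by
    have := pow_eq_pow_iff_modEq.mpr hk1
    rwa [pow_one] at this
  have hxk : x ^ k = 1 := by
    obtain ⟨t, ht⟩ := (Nat.modEq_zero_iff_dvd.mp hk2)
    rw [ht, pow_mul, hj, one_pow]
  rw [Subgroup.mem_centralizer_iff]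
  intro a ha
  have h1 := hpow k a ha
  rw [hgk, hxk, one_mul, inv_one, mul_one] at h1
  calc a * g = g * a * g⁻¹ * g := by rw [h1]
    _ = g * a := by group

/-- Let p be an odd prime, G a finite group with Sylow p-subgroup S, and W an isomorphism-invariant p-group functor (W assigns to every group Q a subgroup W(Q), nontrivial whenever Q is a nontrivial finite p-group, and every isomorphism from a finite p-group Q onto a group R carries W(Q) onto W(R)). Suppose N_G(W(S)) has a normal p-complement, and W(T) controls strong fusion in every section G* = K/R of G all of whose sections are p-stable in the normalizer form, for every Sylow p-subgroup T of G*. Then G has a normal p-complement. -/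
theorem result {G : Type u} [Group G] [Finite G] {p : ℕ} [Fact p.Prime] (hp : p ≠ 2) (W : ∀ (Q : Type u) [Group Q], Subgroup Q) (hW : Cfsg.IsCharPFunctor.{u} p W) (S : Sylow p G) (hN : Cfsg.HasNormalPComplement p ↥(Subgroup.normalizer ((Cfsg.inducedFunctor (G := G) W (S : Subgroup G) : Subgroup G) : Set G))) (hctl : ∀ (K R : Subgroup G) [hR : (R.subgroupOf K).Normal], (∀ (K' R' : Subgroup (↥K ⧸ R.subgroupOf K)) [hR' : (R'.subgroupOf K').Normal], Cfsg.IsNormalizerPStable p (↥K' ⧸ R'.subgroupOf K')) → ∀ T : Sylow p (↥K ⧸ R.subgroupOf K), Cfsg.ControlsStrongFusion p (Cfsg.inducedFunctor (G := (↥K ⧸ R.subgroupOf K)) W (T : Subgroup (↥K ⧸ R.subgroupOf K)))) : Cfsg.HasNormalPComplement p G := by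
  apply Cfsg.Agent.S2005.result W hW S hN
  intro K R hR hc hq T hT
  by_contra hnot
  obtain ⟨Mb, hcfg⟩ := minCfg_of_coatom hq T hT
  have hpab : PAbP p (↥K ⧸ R.subgroupOf K) := hcfg.pAbP
  obtain ⟨T', hWT', hctl'⟩ := hctl K R
    (fun K' R' hR' => isNormalizerPStable_of_pAbP hp (hpab.section K' R')) T
  -- `N(W(T)) = T`
  have hTN : (T : Subgroup (↥K ⧸ R.subgroupOf K)) ≤ Subgroup.normalizer
      (Cfsg.inducedFunctor (G := (↥K ⧸ R.subgroupOf K)) W
        (T : Subgroup (↥K ⧸ R.subgroupOf K)) : Set (↥K ⧸ R.subgroupOf K)) :=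
    Subgroup.le_normalizer.trans (normalizer_le_normalizer_inducedFunctor W hW _ T.2)
  have hNT : Subgroup.normalizer (Cfsg.inducedFunctor (G := (↥K ⧸ R.subgroupOf K)) W
      (T : Subgroup (↥K ⧸ R.subgroupOf K)) : Set (↥K ⧸ R.subgroupOf K)) =
      (T : Subgroup (↥K ⧸ R.subgroupOf K)) := by
    rcases hT.le_iff.mp hTN with h1 | h1
    · exact absurd (Subgroup.normalizer_eq_top_iff.mp h1) hnot
    · exact h1
  -- Frobenius
  have hfrob : ∃ N : Subgroup (↥K ⧸ R.subgroupOf K), N.Normal ∧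
      N.IsComplement' (T' : Subgroup (↥K ⧸ R.subgroupOf K)) := by
    rw [Cfsg.Agent.S0071.result T']
    intro Q hQ g hg hgo
    obtain ⟨-, h2⟩ := hctl' (Q : Set (↥K ⧸ R.subgroupOf K)) (fun a ha => hQ ha)
    obtain ⟨x, hx, hgx⟩ := h2 g (by
      rintro _ ⟨a, ha, rfl⟩
      exact hQ ((Subgroup.mem_normalizer_iff.mp hg a).mp ha))
    rw [hNT] at hx
    obtain ⟨j, hj⟩ := T.2 ⟨x, hx⟩
    exact mem_centralizer_of_control Q g x hg ⟨j, congrArg Subtype.val hj⟩ hgo hgx
  obtain ⟨N, hNn, hNc⟩ := hfrob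
  have hYp : IsPGroup p (↥K ⧸ R.subgroupOf K) := isPGroup_of_hasNPC ⟨T', N, hNn, hNc⟩ hc
  have hTtop : (⊤ : Subgroup (↥K ⧸ R.subgroupOf K)) = T := T.is_maximal' (hYp.to_subgroup ⊤) le_top
  exact hT.1 hTtop.symm

end Cfsg.Agent.S1990
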