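import Cfsg.Statements.S2794
import Cfsg.Agent.Lib.Helper51.QdStab
import Cfsg.Agent.Lib.Helper51.QdZJ
import Cfsg.Agent.S1969
import Cfsg.Agent.S0659
-- import your own Cfsg.Agent.* helpers here

set_option autoImplicit false
open Cfsg

namespace Cfsg.Agent.S2794

/-- transport of control of strong fusion along an isomorphism -/
theorem csf_map_equiv {X Y : Type*} [Group X] [Group Y] [Finite X] (e : X ≃* Y) {p : ℕ}
    [Fact p.Prime] (U : Subgroup X) (h : Cfsg.ControlsStrongFusion p U) :
    Cfsg.ControlsStrongFusion p (U.map e.toMonoidHom) := by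
  obtain ⟨T, hUT, hc⟩ := h
  have hes : Function.Surjective (e.toMonoidHom : X →* Y) := e.surjective
  refine ⟨T.mapSurjective hes, ?_, ?_⟩
  · rw [Sylow.coe_mapSurjective]
    exact Subgroup.map_mono hUT
  · intro A' hA'
    rw [Sylow.coe_mapSurjective] at hA' ⊢
    obtain ⟨A, hA⟩ : ∃ A : Set X, A = e.symm '' A' := ⟨_, rfl⟩
    have hAT : A ⊆ (T : Subgroup X) := by
      rw [hA]
      rintro _ ⟨a', ha', rfl⟩
      obtain ⟨t, ht, hta⟩ := hA' ha'
      have : e.symm a' = t := by rw [← hta]; exact e.symm_apply_apply t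
      rw [this]; exact ht
    obtain ⟨-, h2⟩ := hc A hAT
    refine ⟨hA', ?_⟩
    intro g' hg'
    obtain ⟨x, hx, hxa⟩ := h2 (e.symm g') (by
      rintro _ ⟨a, ha, rfl⟩
      rw [hA] at ha
      obtain ⟨a', ha', rfl⟩ := ha
      have h3 : g' * a' * g'⁻¹ ∈ (T : Subgroup X).map e.toMonoidHom := hg' ⟨a', ha', rfl⟩
      obtain ⟨t, ht, hta⟩ := h3
      have : e.symm g' * e.symm a' * (e.symm g')⁻¹ = t := by
        rw [← map_inv, ← map_mul, ← map_mul, ← hta]
        exact e.symm_apply_apply t
      show e.symm g' * e.symm a' * (e.symm g')⁻¹ ∈ (T : Subgroup X)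
      rw [this]; exact ht)
    refine ⟨e x, ?_, ?_⟩
    · rw [Subgroup.mem_normalizer_iff]
      intro y
      rw [Subgroup.mem_normalizer_iff] at hx
      constructor
      · rintro ⟨u, hu, rfl⟩
        exact ⟨x * u * x⁻¹, (hx u).mp hu, by simp⟩
      · rintro ⟨u, hu, huy⟩
        have h4 : e.symm y = x⁻¹ * u * x := by
          have : y = e (x⁻¹ * u * x) := by
            have h5 : e u = e x * y * (e x)⁻¹ := huy
            rw [map_mul, map_mul, map_inv, h5]; group
          rw [this]; exact e.symm_apply_apply _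
        refine ⟨e.symm y, ?_, e.apply_symm_apply y⟩
        rw [h4]
        show x⁻¹ * u * x ∈ U
        rw [hx (x⁻¹ * u * x)]
        have : x * (x⁻¹ * u * x) * x⁻¹ = u := by group
        rw [this]; exact hu
    · intro a' ha'
      have h5 := hxa (e.symm a') (by rw [hA]; exact ⟨a', ha', rfl⟩)
      have h6 := congrArg e h5
      simp only [map_mul, map_inv, MulEquiv.apply_symm_apply] at h6
      exact h6

theorem zj_map_equiv {X Y : Type*} [Group X] [Group Y] [Finite X] [Finite Y] (e : X ≃* Y)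
    (T : Subgroup X) :
    Cfsg.centerThompsonAOf (T.map e.toMonoidHom) = (Cfsg.centerThompsonAOf T).map e.toMonoidHom := by
  rw [Cfsg.Agent.S0653.centerThompsonAOf_eq_zQ, Cfsg.Agent.S0653.centerThompsonAOf_eq_zQ]
  exact Cfsg.Agent.S0659.zQ_map_comm e.toMonoidHom T
    (fun x _ hx => e.injective (by rw [map_one]; exact hx))

/-- For an odd prime p and a finite group G, the group Qd(p) is not involved in G if and only if in every section K/R of G, for every Sylow p-subgroup S* of K/R, the centre of J(S*) (J generated by the abelian subgroups of largest order) controls strong fusion in K/R. -/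
theorem result {G : Type*} [Group G] [Finite G] {p : ℕ} [Fact p.Prime] (hp : p ≠ 2) : ¬ Cfsg.Involves ↥(Cfsg.qd p) G ↔ ∀ (K R : Subgroup G) [hR : (R.subgroupOf K).Normal], ∀ T : Sylow p (K ⧸ R.subgroupOf K), Cfsg.ControlsStrongFusion p (Cfsg.centerThompsonAOf (T : Subgroup (K ⧸ R.subgroupOf K))) := by
  constructor
  · intro h K R hR T
    rw [← Cfsg.Agent.S0659.inducedFunctor_WA]
    refine Cfsg.Agent.S1969.result Cfsg.Agent.S0659.WA (Cfsg.Agent.S0659.isCharPFunctor_WA p) ?_ K R T
    intro K' R' hR' hc T'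
    rw [Cfsg.Agent.S0659.inducedFunctor_WA]
    have hfree : ¬ Cfsg.Involves ↥(Cfsg.qd p) (↥K' ⧸ R'.subgroupOf K') := by
      intro hinv
      apply h
      exact Cfsg.Agent.Lib.Helper51.involves_of_injective K'.subtype K'.subtype_injective
        (Cfsg.Agent.Lib.Helper51.involves_of_surjective (QuotientGroup.mk' (R'.subgroupOf K'))
          (QuotientGroup.mk'_surjective _) hinv)
    have hchar := Cfsg.Agent.S0653.result hp hc
      (fun V _ hV => Cfsg.Agent.Lib.Helper51.QdStab.isPStableOn_qd hp hfree V hV) T'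
    exact Subgroup.normal_of_characteristic _
  · intro h hinv
    obtain ⟨K, R, hn, ⟨e⟩⟩ := hinv
    obtain ⟨T⟩ : Nonempty (Sylow p (↥K ⧸ R.subgroupOf K)) := inferInstance
    have h1 := h K R T
    have h2 := csf_map_equiv e _ h1
    haveI : Finite ↥(Cfsg.qd p) := Finite.of_equiv _ e.toEquiv
    rw [← zj_map_equiv e] at h2
    have hes : Function.Surjective (e.toMonoidHom : (↥K ⧸ R.subgroupOf K) →* ↥(Cfsg.qd p)) :=
      e.surjective
    have h3 : ((T.mapSurjective hes : Sylow p ↥(Cfsg.qd p)) : Subgroup ↥(Cfsg.qd p)) =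
        (T : Subgroup (↥K ⧸ R.subgroupOf K)).map e.toMonoidHom := Sylow.coe_mapSurjective _ _
    rw [← h3] at h2
    exact Cfsg.Agent.Lib.Helper51.QdZJ.not_controls_qd p _ h2

end Cfsg.Agent.S2794
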