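import Cfsg.Statements.S1989
import Cfsg.Agent.Lib.Helper33.KInfCsf
import Cfsg.Agent.Lib.Helper33.QdKInf
import Cfsg.Agent.Lib.Helper51.QdStab
import Cfsg.Agent.S2794

set_option autoImplicit false
set_option linter.style.haveILetI false
universe u
open Cfsg

namespace Cfsg.Agent.S1989

universe v

theorem map_kInfLower' {Q : Type u} {R : Type v} [Group Q] [Group R] (φ : Q ≃* R) :
    (Cfsg.kInfLower Q).map φ.toMonoidHom = Cfsg.kInfLower R := by
  unfold Cfsg.kInfLower
  rw [Subgroup.map_iSup]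
  congr 1
  funext n
  exact Cfsg.Agent.Lib.Helper33.map_kSeqEven φ n

theorem induced_kInfLower_map_equiv {X : Type u} {Y : Type v} [Group X] [Group Y] (e : X ≃* Y)
    (T : Subgroup X) :
    (Cfsg.inducedFunctor (G := X) Cfsg.kInfLower T).map e.toMonoidHom =
      Cfsg.inducedFunctor (G := Y) Cfsg.kInfLower (T.map e.toMonoidHom) := by
  unfold Cfsg.inducedFunctor
  have h := map_kInfLower' (e.subgroupMap T)
  show Subgroup.map e.toMonoidHom (Subgroup.map T.subtype (Cfsg.kInfLower ↥T)) =
    Subgroup.map (Subgroup.map (e : X →* Y) T).subtype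
      (Cfsg.kInfLower ↥(Subgroup.map (e : X →* Y) T))
  rw [← h, Subgroup.map_map, Subgroup.map_map]
  rfl

/-- Let p be an odd prime and G a finite group. Then Qd(p) (the natural semidirect product of an elementary abelian group of order p² by SL₂(p)) is not involved in G if and only if, in every section K/R of G and for every Sylow p-subgroup T of K/R, the lower K-infinity subgroup of T controls strong fusion in K/R. -/
theorem result {G : Type u} [Group G] [Finite G] {p : ℕ} [Fact p.Prime] (hp : p ≠ 2) : ¬ Cfsg.Involves ↥(Cfsg.qd p) G ↔ ∀ (K R : Subgroup G) [hR : (R.subgroupOf K).Normal], ∀ T : Sylow p (↥K ⧸ R.subgroupOf K), Cfsg.ControlsStrongFusion p (Cfsg.inducedFunctor (G := (↥K ⧸ R.subgroupOf K)) Cfsg.kInfLower (T : Subgroup (↥K ⧸ R.subgroupOf K))) := by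
  have hW : Cfsg.IsCharPFunctor.{u} p (fun (Q : Type u) [Group Q] => Cfsg.kInfLower Q) :=
    Cfsg.Agent.Lib.Helper33.isCharPFunctor_kInfLower p
  constructor
  · intro h K R hR T
    have hst : ∀ (K' R' : Subgroup G) [_h : (R'.subgroupOf K').Normal],
        Cfsg.IsNormalizerPStable p (↥K' ⧸ R'.subgroupOf K') := by
      intro K' R' hR'
      apply Cfsg.Agent.Lib.Helper51.QdStab.isNormalizerPStable_qd hp
      intro hinv
      apply h
      exact Cfsg.Agent.Lib.Helper51.involves_of_injective K'.subtype K'.subtype_injective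
        (Cfsg.Agent.Lib.Helper51.involves_of_surjective (QuotientGroup.mk' (R'.subgroupOf K'))
          (QuotientGroup.mk'_surjective _) hinv)
    exact Cfsg.Agent.Lib.Helper33.kinf_csf_of_stable
      (fun X _ _ hX => Cfsg.Agent.Lib.Helper33.nps_of_sec (fun K R _ => hst K R) X hX) _ hW
      (Or.inl (fun Q _ => rfl)) (↥K ⧸ R.subgroupOf K) (Cfsg.Agent.Lib.Helper33.Sec.section_ K R) T
  · intro h hinv
    obtain ⟨K, R, hn, ⟨e⟩⟩ := hinv
    obtain ⟨T⟩ : Nonempty (Sylow p (↥K ⧸ R.subgroupOf K)) := inferInstance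
    have h1 := h K R T
    have h2 := Cfsg.Agent.S2794.csf_map_equiv e _ h1
    haveI : Finite ↥(Cfsg.qd p) := Finite.of_equiv _ e.toEquiv
    rw [induced_kInfLower_map_equiv e] at h2
    have hes : Function.Surjective (e.toMonoidHom : (↥K ⧸ R.subgroupOf K) →* ↥(Cfsg.qd p)) :=
      e.surjective
    have h3 : ((T.mapSurjective hes : Sylow p ↥(Cfsg.qd p)) : Subgroup ↥(Cfsg.qd p)) =
        (T : Subgroup (↥K ⧸ R.subgroupOf K)).map e.toMonoidHom := Sylow.coe_mapSurjective _ _
    rw [← h3] at h2
    exact Cfsg.Agent.Lib.Helper33.QdKInf.not_controls_qd p _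
      (fun (Q : Type) [Group Q] => Cfsg.kInfLower Q) (Or.inl (fun Q _ => rfl)) h2

end Cfsg.Agent.S1989
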