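import Cfsg.Statements.S1992
import Cfsg.Agent.S1991
import Cfsg.Agent.Lib.Helper3.Burnside
import Cfsg.Agent.Lib.Helper33.SecLift

set_option autoImplicit false
set_option linter.style.haveILetI false
open Cfsg

namespace Cfsg.Agent.S1992

/-- Let G be a finite group in which, for every prime q dividing the order of G, every Sylow q-subgroup is its own normalizer. Then the order of G is a power of a single prime (G is a q-group for some prime q; for G trivial any prime works). -/
theorem result {G : Type*} [Group G] [Finite G] (h : ∀ q : ℕ, q.Prime → q ∣ Nat.card G → ∀ Q : Sylow q G, Subgroup.normalizer ((Q : Subgroup G) : Set G) = Q) : ∃ q : ℕ, q.Prime ∧ IsPGroup q G := by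
  by_cases htriv : Nat.card G = 1
  · exact ⟨2, Nat.prime_two, IsPGroup.of_card (n := 0) (by rw [htriv, pow_zero])⟩
  have hB : ∃ r : ℕ, r.Prime ∧ ∃ M : Subgroup G, M.Normal ∧ M.index = r := by
    by_cases h5 : ∃ p : ℕ, p.Prime ∧ 5 ≤ p ∧ p ∣ Nat.card G
    · obtain ⟨p, hp, hp5, hpd⟩ := h5
      haveI : Fact p.Prime := ⟨hp⟩
      obtain ⟨S⟩ : Nonempty (Sylow p G) := inferInstance
      have hSne : (S : Subgroup G) ≠ ⊥ := S.ne_bot_of_dvd_card hpd
      obtain ⟨N, hN, hNi⟩ := Cfsg.Agent.S1991.result hp5 S hSne (by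
        intro g hg hcop
        rw [h p hp hpd S] at hg
        obtain ⟨a, ha⟩ := (S.isPGroup' : IsPGroup p ↥(S : Subgroup G)) ⟨g, hg⟩
        have ha' : g ^ (p ^ a) = 1 := by
          have := congrArg Subtype.val ha
          simpa using this
        have h1 : orderOf g ∣ p ^ a := orderOf_dvd_of_pow_eq_one ha'
        have h2 : orderOf g = 1 :=
          Nat.eq_one_of_dvd_coprimes (Nat.Coprime.pow_right a hcop) dvd_rfl h1
        rw [orderOf_eq_one_iff.mp h2]
        exact Subgroup.one_mem _)
      exact ⟨p, hp, N, hN, hNi⟩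
    · have h23 : ∀ r : ℕ, r.Prime → r ∣ Nat.card G → r = 2 ∨ r = 3 := by
        intro r hr hrd
        by_contra hne
        apply h5
        refine ⟨r, hr, ?_, hrd⟩
        have h2 := hr.two_le
        have h4 : r ≠ 4 := by
          intro h4
          rw [h4] at hr
          exact absurd hr (by decide)
        have hne2 : r ≠ 2 := fun h' => hne (Or.inl h')
        have hne3 : r ≠ 3 := fun h' => hne (Or.inr h')
        omega
      have hsolv : Group.IsSolvable G := Cfsg.Agent.Lib.Helper3.isSolvable_of_two_primes_aux 2 3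
        Nat.prime_two Nat.prime_three _ G rfl h23
      haveI : Nontrivial G := by
        rw [← Finite.one_lt_card_iff_nontrivial]
        have := Nat.card_pos (α := G)
        omega
      have hlt : commutator G < ⊤ := Group.IsSolvable.commutator_lt_top_of_nontrivial G
      have hidx : (commutator G).index ≠ 1 := fun h1 =>
        (ne_of_lt hlt) (Subgroup.index_eq_one.mp h1)
      obtain ⟨r, hr, hrd⟩ := Nat.exists_prime_and_dvd hidx
      haveI : Fact r.Prime := ⟨hr⟩
      obtain ⟨R⟩ : Nonempty (Sylow r G) := inferInstance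
      obtain ⟨M, hM, hMi⟩ := Cfsg.Agent.Lib.Helper33.exists_normal_index_p_of_not_le_commutator R
        (by
          intro hle
          exact R.not_dvd_index (dvd_trans hrd (Subgroup.index_dvd_of_le hle)))
      exact ⟨r, hr, M, hM, hMi⟩
  obtain ⟨r, hr, M, hMn, hMi⟩ := hB
  haveI := hMn
  refine ⟨r, hr, ?_⟩
  have hall : ∀ {q : ℕ}, q.Prime → q ∣ Nat.card G → q = r := by
    intro q hq hqd
    by_contra hne
    haveI : Fact q.Prime := ⟨hq⟩
    obtain ⟨Q⟩ : Nonempty (Sylow q G) := inferInstance
    have hcard : Nat.card (G ⧸ M) = r := by rw [← Subgroup.index_eq_card, hMi]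
    have hQM : (Q : Subgroup G) ≤ M := by
      intro x hx
      rw [← QuotientGroup.eq_one_iff]
      obtain ⟨a, ha⟩ := (Q.isPGroup' : IsPGroup q ↥(Q : Subgroup G)) ⟨x, hx⟩
      have ha' : x ^ (q ^ a) = 1 := by
        have := congrArg Subtype.val ha
        simpa using this
      have h1 : ((x : G) : G ⧸ M) ^ (q ^ a) = 1 := by
        rw [← QuotientGroup.mk_pow, ha', QuotientGroup.mk_one]
      have h2 : ((x : G) : G ⧸ M) ^ r = 1 := by rw [← hcard]; exact pow_card_eq_one'
      have h3 : orderOf ((x : G) : G ⧸ M) ∣ q ^ a := orderOf_dvd_of_pow_eq_one h1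
      have h4 : orderOf ((x : G) : G ⧸ M) ∣ r := orderOf_dvd_of_pow_eq_one h2
      have hcop : Nat.Coprime (q ^ a) r :=
        Nat.Coprime.pow_left a ((Nat.coprime_primes hq hr).mpr hne)
      exact orderOf_eq_one_iff.mp (Nat.eq_one_of_dvd_coprimes hcop h3 h4)
    have hMtop : M = ⊤ := by
      rw [eq_top_iff]
      intro x _
      obtain ⟨x₁, hx₁, y, hy, rfl⟩ := Cfsg.Agent.Lib.Helper33.frattini_gen (H := (⊤ : Subgroup G))
        (M := M) (R := (Q : Subgroup G))
        (by rw [Subgroup.normalizer_eq_top_iff.mpr hMn]) le_top hQM Q.isPGroup'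
        (Cfsg.Agent.Lib.Helper33.sylow_not_dvd_relIndex Q hQM) (Subgroup.mem_top x)
      have hyQ : y ∈ (Q : Subgroup G) := by
        have := hy.2
        rw [h q hq hqd Q] at this
        exact this
      exact M.mul_mem hx₁ (hQM hyQ)
    rw [hMtop, Subgroup.index_top] at hMi
    exact hr.one_lt.ne hMi
  exact IsPGroup.of_card (Nat.eq_prime_pow_of_unique_prime_dvd Nat.card_pos.ne' hall)

end Cfsg.Agent.S1992
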