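import Cfsg.Statements.S1993
import Cfsg.Agent.Lib.Helper33.KInfCsf
import Cfsg.Agent.Lib.Helper33.KInfTransfer
import Cfsg.Agent.Lib.Helper33.KInfChar

set_option autoImplicit false
set_option linter.style.haveILetI false
universe u
open Cfsg

namespace Cfsg.Agent.S1993

/-- Let p be a prime, G a finite group with Sylow p-subgroup S, and K the upper K-infinity subgroup of S. If p ≥ 5 then S ∩ G' = S ∩ (N_G(K))'; and if p is odd and every section of G is p-stable in the normalizer form, then K controls strong fusion in G. -/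
theorem result {G : Type u} [Group G] [Finite G] {p : ℕ} [Fact p.Prime] (S : Sylow p G) : (5 ≤ p → (S : Subgroup G) ⊓ commutator G = (S : Subgroup G) ⊓ ⁅Subgroup.normalizer ((Cfsg.inducedFunctor Cfsg.kInfUpper (S : Subgroup G) : Subgroup G) : Set G), Subgroup.normalizer ((Cfsg.inducedFunctor Cfsg.kInfUpper (S : Subgroup G) : Subgroup G) : Set G)⁆) ∧ (p ≠ 2 → (∀ (K R : Subgroup G) [hR : (R.subgroupOf K).Normal], Cfsg.IsNormalizerPStable p (↥K ⧸ R.subgroupOf K)) → Cfsg.ControlsStrongFusion p (Cfsg.inducedFunctor Cfsg.kInfUpper (S : Subgroup G))) := by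
  have hW : Cfsg.IsCharPFunctor.{u} p (fun (Q : Type u) [Group Q] => Cfsg.kInfUpper Q) :=
    Cfsg.Agent.Lib.Helper33.isCharPFunctor_kInfUpper p
  refine ⟨fun hp => ?_, fun _ hst => ?_⟩
  · rw [commutator_def]
    apply le_antisymm
    · refine le_inf inf_le_left ?_
      exact Cfsg.Agent.Lib.Helper33.kinf_focal_le hp Cfsg.kInfUpper hW
        (Or.inr (fun _ _ => rfl)) S
    · exact inf_le_inf_left _ (Subgroup.commutator_mono le_top le_top)
  · exact Cfsg.Agent.Lib.Helper33.kinf_csf_of_stable
      (fun X _ _ hX => Cfsg.Agent.Lib.Helper33.nps_of_sec (fun K R _ => hst K R) X hX) _ hW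
      (Or.inr (fun Q _ => rfl)) G (Cfsg.Agent.Lib.Helper33.Sec.refl G) S

end Cfsg.Agent.S1993
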