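import Cfsg.Statements.S1995
import Cfsg.Agent.Lib.Helper33.TransMaster
import Cfsg.Agent.Lib.Helper46.Kieler5

set_option autoImplicit false
universe u
open Cfsg

namespace Cfsg.Agent.S1995

/-- Let p be a prime, G a finite group and 𝓦 a set of isomorphism-invariant p-group functors (W assigns to every group Q a subgroup W(Q), nontrivial whenever Q is a nontrivial finite p-group, and every isomorphism from a finite p-group Q onto a group R carries W(Q) onto W(R)). If the conjugacy functors induced by 𝓦 control transfer in every section G* = K/R of G with C_{G*}(O_p(G*)) ≤ O_p(G*), then they control transfer in G: S ∩ G' is generated by the subgroups S ∩ (N_G(W(S)))', W ∈ 𝓦, for a Sylow p-subgroup S. -/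
theorem result {G : Type u} [Group G] [Finite G] {p : ℕ} [Fact p.Prime] (𝓦 : Set (∀ (Q : Type u) [Group Q], Subgroup Q)) (h𝓦 : ∀ W ∈ 𝓦, Cfsg.IsCharPFunctor.{u} p W) (hloc : ∀ (K R : Subgroup G) [hR : (R.subgroupOf K).Normal], Subgroup.centralizer ((Cfsg.pCore p (↥K ⧸ R.subgroupOf K) : Subgroup (↥K ⧸ R.subgroupOf K)) : Set (↥K ⧸ R.subgroupOf K)) ≤ Cfsg.pCore p (↥K ⧸ R.subgroupOf K) → Cfsg.FamilyControlsTransferIn p ((fun W => Cfsg.inducedFunctor (G := (↥K ⧸ R.subgroupOf K)) W) '' 𝓦) ⊤) : Cfsg.FamilyControlsTransferIn p ((fun W => Cfsg.inducedFunctor (G := G) W) '' 𝓦) ⊤ := by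
  have hloc' : ∀ (X : Type u) [Group X] [Finite X], Cfsg.Agent.Lib.Helper33.Sec G X →
      Subgroup.centralizer ((Cfsg.pCore p X : Subgroup X) : Set X) ≤ Cfsg.pCore p X →
      (∀ (Y : Type u) [Group Y] [Finite Y], Cfsg.Agent.Lib.Helper33.Sec G Y →
        Nat.card Y < Nat.card X →
        Cfsg.FamilyControlsTransferIn p (Cfsg.Agent.Lib.Helper33.indFam 𝓦 Y) ⊤) →
      Cfsg.FamilyControlsTransferIn p (Cfsg.Agent.Lib.Helper33.indFam 𝓦 X) ⊤ := by
    intro X _ _ hX hc _
    obtain ⟨K, R, hR, ⟨e⟩⟩ := hX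
    have h1 := hloc K R (Cfsg.Agent.Lib.Helper46.charP_congr e hc)
    exact Cfsg.Agent.Lib.Helper33.fct_of_equiv h𝓦 e.symm h1
  exact Cfsg.Agent.Lib.Helper33.sec_master_T h𝓦 hloc' _ G rfl (Cfsg.Agent.Lib.Helper33.Sec.refl G)

end Cfsg.Agent.S1995
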