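import Cfsg.Statements.S1996
import Cfsg.Agent.Lib.Helper33.SecMaster
import Cfsg.Agent.Lib.Helper46.Kieler5

set_option autoImplicit false
universe u
open Cfsg

namespace Cfsg.Agent.S1996

open Cfsg.Agent.Lib.Helper33 in
/-- Two functors whose normalizers factorize the group control strong fusion. -/
theorem ctlAt_of_factorization {Y : Type*} [Group Y] [Finite Y] {p : ℕ} [Fact p.Prime]
    (V₁ V₂ : Subgroup Y → Subgroup Y) (hV₁ : Cfsg.IsConjugacyFunctor p V₁)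
    (hV₂ : Cfsg.IsConjugacyFunctor p V₂) (T : Sylow p Y)
    (hfac : ∀ x : Y, ∃ a ∈ Subgroup.normalizer ((V₁ (T : Subgroup Y) : Subgroup Y) : Set Y),
      ∃ b ∈ Subgroup.normalizer ((V₂ (T : Subgroup Y) : Subgroup Y) : Set Y), x = a * b) :
    CtlAt {V₁, V₂} (T : Subgroup Y) := by
  intro A g hA hAg
  obtain ⟨a, ha, b, hb, rfl⟩ := hfac g
  obtain ⟨N₁, hN₁⟩ : ∃ N₁ : Subgroup Y,
      N₁ = Subgroup.normalizer ((V₁ (T : Subgroup Y) : Subgroup Y) : Set Y) := ⟨_, rfl⟩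
  obtain ⟨N₂, hN₂⟩ : ∃ N₂ : Subgroup Y,
      N₂ = Subgroup.normalizer ((V₂ (T : Subgroup Y) : Subgroup Y) : Set Y) := ⟨_, rfl⟩
  rw [← hN₁] at ha
  rw [← hN₂] at hb
  have hT1 : (T : Subgroup Y) ≤ N₁ := by
    rw [hN₁]
    exact Subgroup.le_normalizer.trans (normalizer_le_normalizer_functor hV₁ T.isPGroup')
  have hT2 : (T : Subgroup Y) ≤ N₂ := by
    rw [hN₂]
    exact Subgroup.le_normalizer.trans (normalizer_le_normalizer_functor hV₂ T.isPGroup')
  obtain ⟨B, hB⟩ : ∃ B : Subgroup Y, B = Subgroup.closure (rc a A) := ⟨_, rfl⟩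
  have hclA : Subgroup.closure A ≤ (T : Subgroup Y) := (Subgroup.closure_le _).mpr hA
  have hBcj : B = cj a⁻¹ (Subgroup.closure A) := by rw [hB, closure_rc]
  have hBp : IsPGroup p B := by rw [hBcj]; exact isPGroup_cj (T.isPGroup'.to_le hclA)
  have hB1 : B ≤ N₁ := by
    rw [hBcj]
    have : cj a⁻¹ N₁ = N₁ := cj_eq_self_of_mem (N₁.inv_mem ha)
    rw [← this]
    exact cj_mono (hclA.trans hT1)
  have hB2 : B ≤ N₂ := by
    have h1 : rc a A = rc b⁻¹ (rc (a * b) A) := by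
      rw [← rc_mul, mul_assoc, mul_inv_cancel, mul_one]
    have h2 : Subgroup.closure (rc (a * b) A) ≤ (T : Subgroup Y) := (Subgroup.closure_le _).mpr hAg
    rw [hB, h1, closure_rc, inv_inv]
    have : cj b N₂ = N₂ := cj_eq_self_of_mem hb
    rw [← this]
    exact cj_mono (h2.trans hT2)
  have hTD : (T : Subgroup Y) ≤ N₁ ⊓ N₂ := le_inf hT1 hT2
  obtain ⟨d, hd, hdB⟩ := sylow_sub hTD T.isPGroup' (sylow_not_dvd_relIndex T hTD)
    (le_inf hB1 hB2) hBp
  -- the two steps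
  have e : a * b = (a * d⁻¹) * (d * b) := by group
  have hstep1 : rc (a * d⁻¹) A ⊆ (T : Subgroup Y) := by
    rw [rc_mul]
    intro x hx
    rw [mem_rc] at hx
    apply hdB
    rw [mem_cj, hB]
    apply Subgroup.subset_closure
    simpa using hx
  rw [e]
  refine ⟨(a * d⁻¹) * (d * b), ?_, fun _ _ => rfl⟩
  apply Chain.trans
  · apply Chain.single ⟨V₁, Set.mem_insert _ _, ⟨Subgroup.mem_top _, ?_⟩⟩ hstep1
    rw [← hN₁]
    exact N₁.mul_mem ha (N₁.inv_mem hd.1)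
  · have hV₂mem : V₂ ∈ ({V₁, V₂} : Set (Subgroup Y → Subgroup Y)) :=
      Set.mem_insert_of_mem _ (Set.mem_singleton _)
    have hdb : d * b ∈ (⊤ : Subgroup Y) ⊓
        Subgroup.normalizer ((V₂ (T : Subgroup Y) : Subgroup Y) : Set Y) := by
      refine ⟨Subgroup.mem_top _, ?_⟩
      rw [← hN₂]
      exact N₂.mul_mem hd.2 hb
    apply Chain.single ⟨V₂, hV₂mem, hdb⟩
    rw [← rc_mul, ← e]; exact hAg

/-- Let p be a prime, G a finite group and W₁, W₂ two isomorphism-invariant p-group functors (W assigns to every group Q a subgroup W(Q), nontrivial whenever Q is a nontrivial finite p-group, and every isomorphism from a finite p-group Q onto a group R carries W(Q) onto W(R)). Suppose that G* = N_{G*}(W₁(S*)) N_{G*}(W₂(S*)) whenever G* = K/R is a section of G with C_{G*}(O_p(G*)) ≤ O_p(G*) and S* is a Sylow p-subgroup of G*. Then the pair {W₁, W₂} controls strong fusion in G. -/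
theorem result {G : Type u} [Group G] [Finite G] {p : ℕ} [Fact p.Prime] (W₁ W₂ : ∀ (Q : Type u) [Group Q], Subgroup Q) (hW₁ : Cfsg.IsCharPFunctor.{u} p W₁) (hW₂ : Cfsg.IsCharPFunctor.{u} p W₂) (hfac : ∀ (K R : Subgroup G) [hR : (R.subgroupOf K).Normal], Subgroup.centralizer ((Cfsg.pCore p (↥K ⧸ R.subgroupOf K) : Subgroup (↥K ⧸ R.subgroupOf K)) : Set (↥K ⧸ R.subgroupOf K)) ≤ Cfsg.pCore p (↥K ⧸ R.subgroupOf K) → ∀ T : Sylow p (↥K ⧸ R.subgroupOf K), ∀ x : (↥K ⧸ R.subgroupOf K), ∃ a ∈ Subgroup.normalizer ((Cfsg.inducedFunctor (G := (↥K ⧸ R.subgroupOf K)) W₁ (T : Subgroup (↥K ⧸ R.subgroupOf K)) : Subgroup (↥K ⧸ R.subgroupOf K)) : Set (↥K ⧸ R.subgroupOf K)), ∃ b ∈ Subgroup.normalizer ((Cfsg.inducedFunctor (G := (↥K ⧸ R.subgroupOf K)) W₂ (T : Subgroup (↥K ⧸ R.subgroupOf K)) : Subgroup (↥K ⧸ R.subgroupOf K)) : Set (↥K ⧸ R.subgroupOf K)), x = a * b) : Cfsg.FamilyControlsStrongFusionIn p {Cfsg.inducedFunctor (G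 := G) W₁, Cfsg.inducedFunctor (G := G) W₂} ⊤ := by
  have h𝓦 : ∀ W' ∈ ({W₁, W₂} : Set (∀ (Q : Type u) [Group Q], Subgroup Q)),
      Cfsg.IsCharPFunctor.{u} p W' := by
    intro W' hW'
    rcases hW' with h | h
    · rw [h]; exact hW₁
    · rw [Set.mem_singleton_iff] at h
      rw [h]; exact hW₂
  have hfam : ∀ (X : Type u) [Group X], Cfsg.Agent.Lib.Helper33.indFam {W₁, W₂} X =
      {Cfsg.inducedFunctor (G := X) W₁, Cfsg.inducedFunctor (G := X) W₂} := by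
    intro X _
    unfold Cfsg.Agent.Lib.Helper33.indFam
    rw [Set.image_pair]
  have hloc' : ∀ (X : Type u) [Group X] [Finite X], Cfsg.Agent.Lib.Helper33.Sec G X →
      Subgroup.centralizer ((Cfsg.pCore p X : Subgroup X) : Set X) ≤ Cfsg.pCore p X →
      Cfsg.FamilyControlsStrongFusionIn p (Cfsg.Agent.Lib.Helper33.indFam {W₁, W₂} X) ⊤ := by
    intro X _ _ hX hc
    obtain ⟨K', R', hR', ⟨e⟩⟩ := hX
    have hn := hfac K' R' (Cfsg.Agent.Lib.Helper46.charP_congr e hc)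
    apply Cfsg.Agent.Lib.Helper33.fcsf_of_equiv h𝓦 e.symm
    obtain ⟨T'⟩ : Nonempty (Sylow p (↥K' ⧸ R'.subgroupOf K')) := inferInstance
    apply Cfsg.Agent.Lib.Helper33.fcsf_of_ctlAt T'.isPGroup' T'.not_dvd_index
    rw [hfam]
    exact ctlAt_of_factorization _ _ (Cfsg.Agent.Lib.Helper33.isConjugacyFunctor_induced hW₁)
      (Cfsg.Agent.Lib.Helper33.isConjugacyFunctor_induced hW₂) T' (hn T')
  have hG := Cfsg.Agent.Lib.Helper33.sec_master h𝓦 hloc' _ G rfl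
    (Cfsg.Agent.Lib.Helper33.Sec.refl G)
  rw [hfam] at hG
  exact hG

end Cfsg.Agent.S1996
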