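import Cfsg.Statements.S1997
import Cfsg.Agent.Lib.Helper33.OmegaClosure
import Cfsg.Agent.S1996
import Cfsg.Agent.Lib.Helper46.Kieler5

set_option autoImplicit false
set_option linter.style.haveILetI false
set_option maxHeartbeats 1000000
universe u
open Cfsg

namespace Cfsg.Agent.S1997

open Cfsg.Agent.Lib.Helper33 in
/-- Transport of the factorization `X = C(Ω₁Z(T)) N(W(T))` to the literal sections of `G`. -/
theorem facIn_of_sections {G : Type u} [Group G] [Finite G] {p : ℕ} [Fact p.Prime]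
    (W : ∀ (Q : Type u) [Group Q], Subgroup Q) (hW : Cfsg.IsCharPFunctor.{u} p W)
    (hfac : ∀ (K R : Subgroup G) [hR : (R.subgroupOf K).Normal], Subgroup.centralizer ((Cfsg.pCore p (↥K ⧸ R.subgroupOf K) : Subgroup (↥K ⧸ R.subgroupOf K)) : Set (↥K ⧸ R.subgroupOf K)) ≤ Cfsg.pCore p (↥K ⧸ R.subgroupOf K) → ∀ T : Sylow p (↥K ⧸ R.subgroupOf K), (∀ x : (↥K ⧸ R.subgroupOf K), ∃ a ∈ Subgroup.centralizer ((Cfsg.omegaOne p ((T : Subgroup (↥K ⧸ R.subgroupOf K)) ⊓ Subgroup.centralizer (((T : Subgroup (↥K ⧸ R.subgroupOf K)) : Subgroup (↥K ⧸ R.subgroupOf K)) : Set (↥K ⧸ R.subgroupOf K))) : Subgroup (↥K ⧸ R.subgroupOf K)) : Set (↥K ⧸ R.subgroupOf K)), ∃ b ∈ Subgroup.normalizer ((Cfsg.inducedFunctor (G := (↥K ⧸ R.subgroupOf K)) W (T : Subgroup (↥K ⧸ R.subgroupOf K)) : Subgroup (↥K ⧸ R.subgroupOf K)) : Set (↥K ⧸ R.subgroupOf K)), x = a * b)) :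
    ∀ (X : Type u) [Group X] [Finite X], Sec G X →
      Subgroup.centralizer ((Cfsg.pCore p X : Subgroup X) : Set X) ≤ Cfsg.pCore p X →
      ∀ T : Sylow p X, FacIn p W ⊤ (T : Subgroup X) := by
  intro X _ _ hX hc T
  obtain ⟨K', R', hR', ⟨e⟩⟩ := hX
  have hes : Function.Surjective e.toMonoidHom := e.surjective
  obtain ⟨T', hT'⟩ : ∃ T' : Sylow p (↥K' ⧸ R'.subgroupOf K'), T' = T.mapSurjective hes := ⟨_, rfl⟩
  have hT'c : (T' : Subgroup (↥K' ⧸ R'.subgroupOf K')) = (T : Subgroup X).map e.toMonoidHom := by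
    rw [hT']; exact Sylow.coe_mapSurjective hes T
  have hn := hfac K' R' (Cfsg.Agent.Lib.Helper46.charP_congr e hc) T'
  have h1 : FacIn p W ⊤ (T' : Subgroup (↥K' ⧸ R'.subgroupOf K')) := by
    intro x _
    obtain ⟨a, ha, b, hb, hab⟩ := hn x
    exact ⟨a, Subgroup.mem_inf.mpr ⟨Subgroup.mem_top _, ha⟩, b,
      Subgroup.mem_inf.mpr ⟨Subgroup.mem_top _, hb⟩, hab⟩
  have h2 := facIn_map_of_injective hW e.symm.toMonoidHom e.symm.injective
    (T' : Subgroup (↥K' ⧸ R'.subgroupOf K')) T'.isPGroup' h1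
  have hr : e.symm.toMonoidHom.range = ⊤ := MonoidHom.range_eq_top.mpr e.symm.surjective
  have hTT : (T' : Subgroup (↥K' ⧸ R'.subgroupOf K')).map e.symm.toMonoidHom = (T : Subgroup X) := by
    rw [hT'c, Subgroup.map_map]
    have : e.symm.toMonoidHom.comp e.toMonoidHom = MonoidHom.id X := by
      ext x; simp
    rw [this, Subgroup.map_id]
  rwa [hr, hTT] at h2

/-- Let p be a prime, G a finite group with Sylow p-subgroup S, and W₁, W₂ two isomorphism-invariant p-group functors (W assigns to every group Q a subgroup W(Q), nontrivial whenever Q is a nontrivial finite p-group, and every isomorphism from a finite p-group Q onto a group R carries W(Q) onto W(R)). Suppose that G* = C_{G*}(Ω₁Z(S*)) N_{G*}(W₁(S*)) = C_{G*}(Ω₁Z(S*)) N_{G*}(W₂(S*)) = N_{G*}(W₁(S*)) N_{G*}(W₂(S*)) whenever G* = K/R is a section of G with C_{G*}(O_p(G*)) ≤ O_p(G*) and S* is a Sylow p-subgroup of G*, where Ω₁Z denotes the subgroup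 generated by the elements of order dividing p in the centre. Suppose also Ω₁Z(S) ≤ W₁(S) ∩ W₂(S), and let A be the normal closure of Ω₁Z(S) in N_G(W₁(S)). Then A is an elementary abelian subgroup of S, strongly closed in S with respect to G, and A controls strong fusion in G. -/
theorem result {G : Type u} [Group G] [Finite G] {p : ℕ} [Fact p.Prime] (S : Sylow p G) (W₁ W₂ : ∀ (Q : Type u) [Group Q], Subgroup Q) (hW₁ : Cfsg.IsCharPFunctor.{u} p W₁) (hW₂ : Cfsg.IsCharPFunctor.{u} p W₂) (hfac : ∀ (K R : Subgroup G) [hR : (R.subgroupOf K).Normal], Subgroup.centralizer ((Cfsg.pCore p (↥K ⧸ R.subgroupOf K) : Subgroup (↥K ⧸ R.subgroupOf K)) : Set (↥K ⧸ R.subgroupOf K)) ≤ Cfsg.pCore p (↥K ⧸ R.subgroupOf K) → ∀ T : Sylow p (↥K ⧸ R.subgroupOf K), (∀ x : (↥K ⧸ R.subgroupOf K), ∃ a ∈ Subgroup.centralizer ((Cfsg.omegaOne p ((T : Subgroup (↥K ⧸ R.subgroupOf K)) ⊓ Subgroup.centralizer (((T : Subgroup (↥K ⧸ R.subgroupOf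 K)) : Subgroup (↥K ⧸ R.subgroupOf K)) : Set (↥K ⧸ R.subgroupOf K))) : Subgroup (↥K ⧸ R.subgroupOf K)) : Set (↥K ⧸ R.subgroupOf K)), ∃ b ∈ Subgroup.normalizer ((Cfsg.inducedFunctor (G := (↥K ⧸ R.subgroupOf K)) W₁ (T : Subgroup (↥K ⧸ R.subgroupOf K)) : Subgroup (↥K ⧸ R.subgroupOf K)) : Set (↥K ⧸ R.subgroupOf K)), x = a * b) ∧ (∀ x : (↥K ⧸ R.subgroupOf K), ∃ a ∈ Subgroup.centralizer ((Cfsg.omegaOne p ((T : Subgroup (↥K ⧸ R.subgroupOf K)) ⊓ Subgroup.centralizer (((T : Subgroup (↥K ⧸ R.subgroupOf K)) : Subgroup (↥K ⧸ R.subgroupOf K)) : Set (↥K ⧸ R.subgroupOf K))) : Subgroup (↥K ⧸ R.subgroupOf K)) : Set (↥K ⧸ R.subgroupOf K)), ∃ b ∈ Subgroup.normalizer ((Cfsg.inducedFunctor (G := (↥K ⧸ R.subgroupOf K)) W₂ (T : Subgroup (↥K ⧸ R.subgroupOf K)) : Subgroup (↥K ⧸ R.subgroupOf K)) : Set (↥K ⧸ R.subgroupOf K)), x = a * b) ∧ (∀ x : (↥K ⧸ R.subgroupOf K), ∃ a ∈ Subgroup.normalizer ((Cfsg.inducedFunctor (G := (↥K ⧸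 R.subgroupOf K)) W₁ (T : Subgroup (↥K ⧸ R.subgroupOf K)) : Subgroup (↥K ⧸ R.subgroupOf K)) : Set (↥K ⧸ R.subgroupOf K)), ∃ b ∈ Subgroup.normalizer ((Cfsg.inducedFunctor (G := (↥K ⧸ R.subgroupOf K)) W₂ (T : Subgroup (↥K ⧸ R.subgroupOf K)) : Subgroup (↥K ⧸ R.subgroupOf K)) : Set (↥K ⧸ R.subgroupOf K)), x = a * b)) (hZ : Cfsg.omegaOne p ((S : Subgroup G) ⊓ Subgroup.centralizer (((S : Subgroup G) : Subgroup G) : Set G)) ≤ Cfsg.inducedFunctor (G := G) W₁ (S : Subgroup G) ⊓ Cfsg.inducedFunctor (G := G) W₂ (S : Subgroup G)) (N₁ : Subgroup G) (hN₁ : N₁ = Subgroup.normalizer ((Cfsg.inducedFunctor (G := G) W₁ (S : Subgroup G) : Subgroup G) : Set G)) (A : Subgroup G) (hA : A = (Subgroup.normalClosure (((Cfsg.omegaOne p ((S : Subgroup G) ⊓ Subgroup.centralizer (((S : Subgroup G) : Subgroup G) : Set G))).subgroupOf N₁ : Subgroup ↥N₁) : Set ↥N₁)).map N₁.subtype) : A ≤ (S : Subgroup G) ∧ Cfsg.IsElementaryAbelian p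 A ∧ Cfsg.IsStronglyClosed A (S : Subgroup G) ∧ Cfsg.ControlsStrongFusion p A := by
  obtain ⟨Z, hZdef⟩ : ∃ Z : Subgroup G, Z = Cfsg.omegaOne p ((S : Subgroup G) ⊓
      Subgroup.centralizer (((S : Subgroup G) : Subgroup G) : Set G)) := ⟨_, rfl⟩
  rw [← hZdef] at hZ hA
  have hloc₁ := facIn_of_sections W₁ hW₁ (fun K R hR hc T => (hfac K R hc T).1)
  have hloc₂ := facIn_of_sections W₂ hW₂ (fun K R hR hc T => (hfac K R hc T).2.1)
  have hSN₁ : (S : Subgroup G) ≤ N₁ := by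
    rw [hN₁]
    exact Subgroup.le_normalizer.trans
      (Cfsg.Agent.Lib.Helper33.normalizer_le_normalizer_functor
        (Cfsg.Agent.Lib.Helper33.isConjugacyFunctor_induced hW₁) S.isPGroup')
  have hZS : Z ≤ (S : Subgroup G) := by
    rw [hZdef]; exact (Cfsg.Agent.Lib.Helper33.oz_le p _).trans inf_le_left
  have hA' : A = Cfsg.Agent.Lib.Helper33.ncl N₁ Z := by
    rw [hA]; exact Cfsg.Agent.Lib.Helper33.map_normalClosure_eq_ncl (hZS.trans hSN₁)
  have hΘ := Cfsg.Agent.Lib.Helper33.ncl_eq hW₁ hW₂ hloc₁ hloc₂ S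
    (hZdef ▸ hZ.trans inf_le_left) (hZdef ▸ hZ.trans inf_le_right) _ ⊤ rfl le_top
  rw [top_inf_eq, top_inf_eq, ← hN₁, ← hZdef, ← hA'] at hΘ
  have hN₁A : N₁ ≤ Subgroup.normalizer (A : Set G) := by
    rw [hA']; exact Cfsg.Agent.Lib.Helper33.le_normalizer_ncl _ _
  have hN₂A : Subgroup.normalizer ((Cfsg.inducedFunctor (G := G) W₂ (S : Subgroup G) :
      Subgroup G) : Set G) ≤ Subgroup.normalizer (A : Set G) := by
    rw [hΘ]; exact Cfsg.Agent.Lib.Helper33.le_normalizer_ncl _ _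
  have hAV : A ≤ Cfsg.omegaOne p (Cfsg.inducedFunctor (G := G) W₁ (S : Subgroup G) ⊓
      Subgroup.centralizer ((Cfsg.inducedFunctor (G := G) W₁ (S : Subgroup G) : Subgroup G) :
        Set G)) := by
    rw [hA']
    apply Cfsg.Agent.Lib.Helper33.ncl_le
    · intro z hz
      have hz1 := hZ hz
      have hz' : z ∈ Cfsg.omegaOne p ((S : Subgroup G) ⊓
          Subgroup.centralizer (((S : Subgroup G) : Subgroup G) : Set G)) := hZdef ▸ hz
      have hz2 := Cfsg.Agent.Lib.Helper33.oz_le p _ hz'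
      exact Cfsg.Agent.Lib.Helper33.mem_oz p hz1.1
        (Subgroup.centralizer_le (Cfsg.Agent.Lib.Helper33.induced_le _) hz2.2)
        (Cfsg.Agent.Lib.Helper33.oz_pow p _ hz')
    · rw [hN₁]; exact Cfsg.Agent.Lib.Helper33.normalizer_le_normalizer_oz p _
  have hAS : A ≤ (S : Subgroup G) :=
    hAV.trans ((Cfsg.Agent.Lib.Helper33.oz_le p _).trans
      (inf_le_left.trans (Cfsg.Agent.Lib.Helper33.induced_le _)))
  have hAel : Cfsg.IsElementaryAbelian p A :=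
    Cfsg.Agent.Lib.Helper33.oz_isElementaryAbelian_of_le p _ hAV
  have hctl := Cfsg.Agent.S1996.result W₁ W₂ hW₁ hW₂ (fun K R hR hc T => (hfac K R hc T).2.2)
  have hconj : ∀ W' ∈ ({Cfsg.inducedFunctor (G := G) W₁, Cfsg.inducedFunctor (G := G) W₂} :
      Set (Subgroup G → Subgroup G)), Cfsg.IsConjugacyFunctor p W' := by
    intro W' hW'
    rcases hW' with h | h
    · rw [h]; exact Cfsg.Agent.Lib.Helper33.isConjugacyFunctor_induced hW₁
    · rw [Set.mem_singleton_iff] at h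
      rw [h]; exact Cfsg.Agent.Lib.Helper33.isConjugacyFunctor_induced hW₂
  have hct := Cfsg.Agent.Lib.Helper33.ctlAt_of_fcsf hconj hctl S.isPGroup' S.not_dvd_index
  have hchain : ∀ (B : Set G) (g : G), Cfsg.Agent.Lib.Helper33.Chain
      {Cfsg.inducedFunctor (G := G) W₁, Cfsg.inducedFunctor (G := G) W₂} ⊤ (S : Subgroup G) B g →
      g ∈ Subgroup.normalizer (A : Set G) := by
    intro B g h
    induction h with
    | nil B => exact Subgroup.one_mem _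
    | cons B y g hy _ _ ih =>
      obtain ⟨W', hW', hyW⟩ := hy
      apply Subgroup.mul_mem _ _ ih
      rcases hW' with h | h
      · rw [h] at hyW
        exact hN₁A (hN₁ ▸ hyW.2)
      · rw [Set.mem_singleton_iff] at h
        rw [h] at hyW
        exact hN₂A hyW.2
  have hkey : ∀ (B : Set G), B ⊆ ((S : Subgroup G) : Set G) → ∀ g : G,
      (fun a => g * a * g⁻¹) '' B ⊆ ((S : Subgroup G) : Set G) →
      ∃ x ∈ Subgroup.normalizer (A : Set G), ∀ a ∈ B, g * a * g⁻¹ = x * a * x⁻¹ := by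
    intro B hB g hg
    have hrc : Cfsg.Agent.Lib.Helper33.rc g⁻¹ B ⊆ ((S : Subgroup G) : Set G) := by
      rintro _ ⟨a, ha, rfl⟩
      have := hg ⟨a, ha, rfl⟩
      simpa using this
    obtain ⟨g', hch, he⟩ := hct B g⁻¹ hB hrc
    refine ⟨g'⁻¹, Subgroup.inv_mem _ (hchain B g' hch), ?_⟩
    intro a ha
    have := he a ha
    simp only [inv_inv] at this ⊢
    exact this.symm
  refine ⟨hAS, hAel, ⟨hAS, ?_⟩, ⟨S, hAS, fun B hB => ⟨hB, hkey B hB⟩⟩⟩
  intro x hx g hgx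
  obtain ⟨n, hn, hnx⟩ := hkey {x} (by
    intro y hy
    rw [Set.mem_singleton_iff] at hy
    rw [hy]; exact hAS hx) g (by
    rintro _ ⟨y, hy, rfl⟩
    rw [Set.mem_singleton_iff] at hy
    rw [hy]; exact hgx)
  rw [hnx x rfl]
  exact (Subgroup.mem_normalizer_iff.mp hn x).mp hx

end Cfsg.Agent.S1997
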