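import Cfsg.Statements.S1998
import Cfsg.Agent.Lib.Helper33.TransQuot
import Cfsg.Agent.Lib.Helper33.TransEngel
import Cfsg.Agent.Lib.Helper33.CentMod
import Cfsg.Agent.Lib.Helper46.Kieler5

set_option autoImplicit false
set_option linter.style.haveILetI false
set_option linter.unusedVariables false
universe u
open Cfsg

namespace Cfsg.Agent.S1998

open Cfsg.Agent.Lib.Helper33 Subgroup
open scoped commutatorElement

/-- Let p be a prime, G a finite group with Sylow p-subgroup S, and 𝓦 a nonempty set of isomorphism-invariant p-group functors (W assigns to every group Q a subgroup W(Q), nontrivial whenever Q is a nontrivial finite p-group, and every isomorphism from a finite p-group Q onto a group R carries W(Q) onto W(R)). Suppose the induced conjugacy functors control transfer in every section of G other than G itself, but not in G. Let T be the subgroup generated by the S ∩ (N_G(W(S)))', W ∈ 𝓦, and M = N_G(T ∩ O_p(G)). Then: C_G(O_p(G)) ≤ O_p(G);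 M is a proper subgroup of G containing every proper subgroup of G that contains S (the unique maximal subgroup over S); [O_p(G), M] ≤ O_p(G) ∩ M' ≤ O_p(G) ∩ T; and every element u of S outside O_p(G) satisfies [X, u, …, u] ≰ Y with p − 1 entries u, for some chief factor X/Y of G with X ≤ O_p(G). -/
theorem result {G : Type u} [Group G] [Finite G] {p : ℕ} [Fact p.Prime] (S : Sylow p G) (𝓦 : Set (∀ (Q : Type u) [Group Q], Subgroup Q)) (h𝓦 : ∀ W ∈ 𝓦, Cfsg.IsCharPFunctor.{u} p W) (hne : 𝓦.Nonempty) (hsec : ∀ (K R : Subgroup G) [hR : (R.subgroupOf K).Normal], (K = ⊤ → R ≠ ⊥) → Cfsg.FamilyControlsTransferIn p ((fun W => Cfsg.inducedFunctor (G := (↥K ⧸ R.subgroupOf K)) W) '' 𝓦) ⊤) (hG : ¬ Cfsg.FamilyControlsTransferIn p ((fun W => Cfsg.inducedFunctor (G := G) W) '' 𝓦) ⊤) (T M : Subgroup G) (hT : T = (⨆ W ∈ 𝓦, (S : Subgroup G) ⊓ ⁅Subgroup.normalizer ((Cfsg.inducedFunctor (G := G) W (S : Subgroup G) : Subgroup G) : Set G), Subgroup.normalizer ((Cfsg.inducedFunctor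 (G := G) W (S : Subgroup G) : Subgroup G) : Set G)⁆)) (hM : M = Subgroup.normalizer ((T ⊓ Cfsg.pCore p G : Subgroup G) : Set G)) : Subgroup.centralizer ((Cfsg.pCore p G : Subgroup G) : Set G) ≤ Cfsg.pCore p G ∧ (M ≠ ⊤ ∧ ∀ H : Subgroup G, (S : Subgroup G) ≤ H → H ≠ ⊤ → H ≤ M) ∧ (⁅Cfsg.pCore p G, M⁆ ≤ Cfsg.pCore p G ⊓ ⁅M, M⁆ ∧ Cfsg.pCore p G ⊓ ⁅M, M⁆ ≤ Cfsg.pCore p G ⊓ T) ∧ ∀ u : G, u ∈ (S : Subgroup G) → u ∉ Cfsg.pCore p G → ∃ U V : Subgroup G, Cfsg.IsChiefFactor U V ∧ U ≤ Cfsg.pCore p G ∧ ¬ Cfsg.iterCommutator U (Subgroup.zpowers u) (p - 1) ≤ V := by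
  -- proper sections are controlled
  have hsecKR : ∀ (X : Type u) [Group X] [Finite X] (K R : Subgroup G)
      [hR : (R.subgroupOf K).Normal], (X ≃* ↥K ⧸ R.subgroupOf K) → (K = ⊤ → R ≠ ⊥) →
      Cfsg.FamilyControlsTransferIn p (indFam 𝓦 X) ⊤ := by
    intro X _ _ K R hR e h
    exact fct_of_equiv h𝓦 e.symm (hsec K R h)
  have hsecX : ∀ (X : Type u) [Group X] [Finite X], Sec G X → Nat.card X < Nat.card G →
      Cfsg.FamilyControlsTransferIn p (indFam 𝓦 X) ⊤ := by
    intro X _ _ hX hlt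
    obtain ⟨K, R, hR, ⟨e⟩⟩ := hX
    apply hsecKR X K R e
    intro hK hRb
    have h1 : R.subgroupOf K = ⊥ := by rw [hRb, Subgroup.bot_subgroupOf]
    have h2 := Subgroup.card_eq_card_quotient_mul_card_subgroup (R.subgroupOf K)
    rw [Subgroup.card_eq_one.mpr h1, mul_one] at h2
    have h3 : Nat.card ↥K = Nat.card G := by rw [hK, Subgroup.card_top]
    have h4 : Nat.card X = Nat.card (↥K ⧸ R.subgroupOf K) := Nat.card_congr e.toEquiv
    omega
  -- (1) `G` is constrained
  have hcG : Subgroup.centralizer ((Cfsg.pCore p G : Subgroup G) : Set G) ≤ Cfsg.pCore p G := by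
    by_contra hnc
    apply hG
    have hloc' : ∀ (X : Type u) [Group X] [Finite X], Sec G X →
        Subgroup.centralizer ((Cfsg.pCore p X : Subgroup X) : Set X) ≤ Cfsg.pCore p X →
        (∀ (Y : Type u) [Group Y] [Finite Y], Sec G Y → Nat.card Y < Nat.card X →
          Cfsg.FamilyControlsTransferIn p (indFam 𝓦 Y) ⊤) →
        Cfsg.FamilyControlsTransferIn p (indFam 𝓦 X) ⊤ := by
      intro X _ _ hX hc _
      obtain ⟨K, R, hR, ⟨e⟩⟩ := hX
      by_cases h : K = ⊤ → R ≠ ⊥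
      · exact hsecKR X K R e h
      · exfalso
        apply hnc
        have hK : K = ⊤ := by
          by_contra hK
          exact h (fun h' => absurd h' hK)
        have hRb : R = ⊥ := by
          by_contra hRb
          exact h (fun _ => hRb)
        subst hK
        subst hRb
        have e' : X ≃* G :=
          e.trans ((QuotientGroup.quotientMulEquivOfEq (Subgroup.bot_subgroupOf ⊤)).trans
            ((QuotientGroup.quotientBot).trans Subgroup.topEquiv))
        exact Cfsg.Agent.Lib.Helper46.charP_congr e' hc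
    exact sec_master_T h𝓦 hloc' _ G rfl (Sec.refl G)
  refine ⟨hcG, ?_⟩
  obtain ⟨Q, hQ⟩ : ∃ Q : Subgroup G, Q = Cfsg.pCore p G := ⟨_, rfl⟩
  rw [← hQ] at hcG hM ⊢
  haveI hQn : Q.Normal := by rw [hQ]; exact Cfsg.Agent.Lib.Helper55.pCore_normal' p
  have hQP : Q ≤ (S : Subgroup G) := by rw [hQ]; exact Cfsg.Agent.Lib.Helper11.pCore_le_sylow S
  have h𝓦G := indFam_conj h𝓦 G
  have hTF : T = FocW (indFam 𝓦 G) (S : Subgroup G) := by
    rw [hT]
    unfold FocW indFam
    rw [iSup_image]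
    simp only [top_inf_eq]
  have hnc : ¬ (S : Subgroup G) ⊓ ⁅(⊤ : Subgroup G), ⊤⁆ ≤ T := by
    intro h
    apply hG
    exact fct_of_focLe S.isPGroup' S.not_dvd_index (hTF ▸ h)
  have hWS : ∀ W ∈ 𝓦, ¬ (Cfsg.inducedFunctor (G := G) W (S : Subgroup G)).Normal := by
    intro W hW hWn
    apply hnc
    have h1 := le_focW (𝓦 := indFam 𝓦 G) (W := Cfsg.inducedFunctor (G := G) W) ⟨W, hW, rfl⟩
      (S : Subgroup G)
    rw [Subgroup.normalizer_eq_top_iff.mpr hWn, ← hTF] at h1
    exact h1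
  have hPQ : ¬ (S : Subgroup G) ≤ Q := by
    intro hPQ
    obtain ⟨W, hW⟩ := hne
    apply hWS W hW
    have hPeq : (S : Subgroup G) = Q := le_antisymm hPQ hQP
    have h1 := normalizer_le_normalizer_functor
      (h𝓦G (Cfsg.inducedFunctor (G := G) W) ⟨W, hW, rfl⟩) S.isPGroup'
    have h2 : normalizer (((S : Subgroup G) : Subgroup G) : Set G) = ⊤ := by
      rw [hPeq]; exact Subgroup.normalizer_eq_top_iff.mpr hQn
    rw [h2] at h1
    exact Subgroup.normalizer_eq_top_iff.mp (top_le_iff.mp h1)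
  have hQne : Q ≠ ⊥ := by
    intro h
    apply hPQ
    intro x _
    apply hcG
    rw [h, Subgroup.mem_centralizer_iff]
    intro y hy
    have : y = 1 := by simpa using hy
    rw [this, one_mul, mul_one]
  have hQmax : ∀ V : Subgroup G, V ≤ (S : Subgroup G) → normalizer (V : Set G) = ⊤ →
      V ≤ Q := by
    intro V hVP hV
    haveI : V.Normal := Subgroup.normalizer_eq_top_iff.mp hV
    rw [hQ]
    exact Cfsg.Agent.Lib.Helper55.le_pCore p V (S.isPGroup'.to_le hVP)
  have hsubT : ∀ H : Subgroup G, H ≠ ⊤ → (S : Subgroup G) ≤ H →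
      (S : Subgroup G) ⊓ ⁅H, H⁆ ≤ T := by
    intro H hH hPH
    have h1 : Cfsg.FamilyControlsTransferIn p (indFam 𝓦 G) H := by
      apply fct_subgroup h𝓦 H
      exact hsecX ↥H (Sec.subgroup H) (card_subgroup_lt H hH)
    rw [hTF]
    exact focLe_of_fct h𝓦G h1 hPH S.isPGroup' (sylow_not_dvd_relIndex S hPH)
  have hq : (S : Subgroup G).map (QuotientGroup.mk' Q) ⊓ ⁅(⊤ : Subgroup (G ⧸ Q)), ⊤⁆ ≤
      FocW (indFam 𝓦 (G ⧸ Q)) ((S : Subgroup G).map (QuotientGroup.mk' Q)) := by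
    have h1 := hsecX (G ⧸ Q) (Sec.quotient Q) (card_quotient_lt Q hQne)
    exact focLe_of_fct (indFam_conj h𝓦 _) h1 le_top (S.isPGroup'.map _)
      (by rw [Subgroup.relIndex_top_right]
          exact not_dvd_index_map S _ (QuotientGroup.mk'_surjective Q))
  have hPtop : (S : Subgroup G) ≠ ⊤ := by
    intro h
    apply hPQ
    apply hQmax _ le_rfl
    rw [h]
    exact Subgroup.normalizer_eq_top_iff.mpr inferInstance
  -- the key: `Q ∩ G' ≤ T` is impossible
  have key : ¬ Q ⊓ ⁅(⊤ : Subgroup G), ⊤⁆ ≤ T := by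
    intro hstep
    apply hnc
    rintro z hz
    obtain ⟨f, hf, hqQ, hqc⟩ := exists_focW_mul_of_quot h𝓦 S Q hQP (hTF ▸ hsubT) hPQ
      (fun V hV hVP htop => (not_le_of_gt hV) (hQmax V hVP htop)) hq z hz
    have hqF : f⁻¹ * z ∈ T := hstep ⟨hqQ, hqc⟩
    have : z = f * (f⁻¹ * z) := by group
    rw [this]
    exact Subgroup.mul_mem _ (hTF ▸ hf) hqF
  obtain ⟨Q₀, hQ₀⟩ : ∃ Q₀ : Subgroup G, Q₀ = T ⊓ Q := ⟨_, rfl⟩
  rw [← hQ₀] at hM
  have hQ₀Q : Q₀ ≤ Q := by rw [hQ₀]; exact inf_le_right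
  have hQ₀T : Q₀ ≤ T := by rw [hQ₀]; exact inf_le_left
  have hQH : ∀ H : Subgroup G, H ≠ ⊤ → (S : Subgroup G) ≤ H → ⁅Q, H⁆ ≤ Q₀ := by
    intro H hH hPH
    rw [hQ₀]
    refine le_inf ?_ (Subgroup.commutator_le_left Q H)
    refine le_trans (le_inf ((Subgroup.commutator_le_left Q H).trans hQP) ?_) (hsubT H hH hPH)
    exact Subgroup.commutator_mono (hQP.trans hPH) le_rfl
  obtain ⟨L, hL⟩ := exists_centMod Q Q₀ hQ₀Q
  have hHL : ∀ H : Subgroup G, H ≠ ⊤ → (S : Subgroup G) ≤ H → H ≤ L := by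
    intro H hH hPH h hh
    rw [hL]
    constructor
    · intro q hq
      exact hQH H hH hPH (Subgroup.commutator_mem_commutator hq hh)
    · intro q hq
      exact hQH H hH hPH (Subgroup.commutator_mem_commutator hq (H.inv_mem hh))
  have hLM : L ≤ M := by rw [hM]; exact centMod_le_normalizer Q Q₀ L hQ₀Q hL
  have hQL : ⁅Q, L⁆ ≤ Q₀ := by
    rw [Subgroup.commutator_le]
    intro q hq y hy
    exact ((hL y).mp hy).1 q hq
  have hSL : (S : Subgroup G) ≤ L := hHL _ hPtop le_rfl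
  have hS'T : ⁅(S : Subgroup G), (S : Subgroup G)⁆ ≤ T := by
    have hPP : ⁅(S : Subgroup G), (S : Subgroup G)⁆ ≤ (S : Subgroup G) := by
      rw [Subgroup.commutator_le]
      intro a ha b hb
      rw [commutatorElement_def]
      exact Subgroup.mul_mem _ (Subgroup.mul_mem _ (Subgroup.mul_mem _ ha hb)
        (Subgroup.inv_mem _ ha)) (Subgroup.inv_mem _ hb)
    exact le_trans (le_inf hPP le_rfl) (hsubT _ hPtop le_rfl)
  have hLtop : L ≠ ⊤ := by
    intro hLtop
    apply key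
    rw [hLtop] at hQL
    exact (central_transfer S Q hQP).trans (sup_le hS'T (hQL.trans hQ₀T))
  have hMtop : M ≠ ⊤ := by
    intro hMt
    rw [hMt] at hM
    haveI hQ₀n : Q₀.Normal := Subgroup.normalizer_eq_top_iff.mp hM.symm
    haveI hLn : L.Normal := centMod_normal Q Q₀ L hL
    apply hLtop
    rw [eq_top_iff]
    intro x _
    obtain ⟨x₁, hx₁, y, hy, rfl⟩ := frattini_gen (H := (⊤ : Subgroup G)) (M := L)
      (R := (S : Subgroup G)) (by rw [Subgroup.normalizer_eq_top_iff.mpr hLn]) le_top hSL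
      S.isPGroup' (sylow_not_dvd_relIndex S hSL) (Subgroup.mem_top x)
    have hNS : normalizer (((S : Subgroup G) : Subgroup G) : Set G) ≠ ⊤ := by
      intro h
      exact hPQ (hQmax _ le_rfl h)
    exact L.mul_mem hx₁ (hHL _ hNS Subgroup.le_normalizer hy.2)
  have hSM : (S : Subgroup G) ≤ M := hSL.trans hLM
  refine ⟨⟨hMtop, fun H hSH hH => (hHL H hH hSH).trans hLM⟩, ⟨?_, ?_⟩, ?_⟩
  · exact le_inf (Subgroup.commutator_le_left Q M)
      (Subgroup.commutator_mono (hQP.trans hSM) le_rfl)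
  · exact le_inf inf_le_left ((inf_le_inf_right _ hQP).trans (hsubT M hMtop hSM))
  · intro u huS huQ
    by_contra hcon
    apply key
    apply engel_step S Q (S.isPGroup'.to_le hQP) hQP T hsubT hPtop u huS
    · intro N hN hNp huN
      apply huQ
      rw [hQ]
      haveI := hN
      exact Cfsg.Agent.Lib.Helper55.le_pCore p N hNp huN
    · intro U V hc hUQ
      by_contra h
      exact hcon ⟨U, V, hc, hUQ, h⟩

end Cfsg.Agent.S1998
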