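import Cfsg.Statements.S2001
import Cfsg.Agent.Lib.Helper33.Pair
import Cfsg.Agent.Lib.Helper33.Transfer

set_option autoImplicit false
open Cfsg
open Cfsg.Agent.Lib.Helper33
open scoped commutatorElement

namespace Cfsg.Agent.S2001

variable {G : Type*} [Group G]

theorem card_closure_rc (g : G) (A : Set G) :
    Nat.card (Subgroup.closure (rc g A)) = Nat.card (Subgroup.closure A) := by
  rw [closure_rc, card_cj]

/-- The decomposition property of the commutator part of the Sylow subgroup `Q` of `N(U)`. -/
def Dec (W V : Subgroup G → Subgroup G) (U Q : Subgroup G) : Prop :=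
  ∀ x ∈ Q ⊓ ⁅Subgroup.normalizer (U : Set G), Subgroup.normalizer (U : Set G)⁆,
    ∃ a ∈ Q ⊓ ⁅Subgroup.normalizer (U : Set G) ⊓ Subgroup.normalizer ((W Q : Subgroup G) : Set G),
        Subgroup.normalizer (U : Set G) ⊓ Subgroup.normalizer ((W Q : Subgroup G) : Set G)⁆,
    ∃ b ∈ Q ⊓ ⁅Subgroup.normalizer (U : Set G) ⊓ Subgroup.centralizer ((V Q : Subgroup G) : Set G),
        Subgroup.normalizer (U : Set G) ⊓ Subgroup.centralizer ((V Q : Subgroup G) : Set G)⁆,
      x = a * b

theorem Dec.conj {p : ℕ} {W V : Subgroup G → Subgroup G} (hW : Cfsg.IsConjugacyFunctor p W)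
    (hV : Cfsg.IsConjugacyFunctor p V) {U Q : Subgroup G} (hQ : IsPGroup p Q) (g : G)
    (h : Dec W V U Q) : Dec W V (cj g U) (cj g Q) := by
  intro x hx
  have hx1 : g⁻¹ * x * g ∈ Q := mem_cj.mp hx.1
  have hx2 : g⁻¹ * x * g ∈ ⁅Subgroup.normalizer (U : Set G), Subgroup.normalizer (U : Set G)⁆ := by
    have := hx.2
    rw [normalizer_cj, ← cj_commutator] at this
    exact mem_cj.mp this
  obtain ⟨a, ha, b, hb, hab⟩ := h _ (Subgroup.mem_inf.mpr ⟨hx1, hx2⟩)
  refine ⟨g * a * g⁻¹, ?_, g * b * g⁻¹, ?_, ?_⟩
  · have := conj_mem_cj (g := g) ha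
    rw [cj_inf, cj_commutator, cj_inf, ← normalizer_cj, ← normalizer_cj, ← functor_cj hW hQ] at this
    exact this
  · have := conj_mem_cj (g := g) hb
    rw [cj_inf, cj_commutator, cj_inf, ← normalizer_cj, ← centralizer_cj, ← functor_cj hV hQ] at this
    exact this
  · have : x = g * (g⁻¹ * x * g) * g⁻¹ := by group
    rw [this, hab]; group

theorem center_le_normalizer_inf (P U : Subgroup G) (hU : U ≤ P) :
    P ⊓ Subgroup.centralizer (P : Set G) ≤ P ⊓ Subgroup.normalizer (U : Set G) := by
  refine inf_le_inf_left _ ?_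
  exact le_trans (Subgroup.centralizer_le hU) (Subgroup.centralizer_le_normalizer _)

theorem center_le_center (P R : Subgroup G) (hRP : R ≤ P)
    (hZR : P ⊓ Subgroup.centralizer (P : Set G) ≤ R) :
    P ⊓ Subgroup.centralizer (P : Set G) ≤ R ⊓ Subgroup.centralizer (R : Set G) :=
  le_inf hZR (le_trans inf_le_right (Subgroup.centralizer_le hRP))

theorem main [Finite G] {p : ℕ} [Fact p.Prime] (P : Sylow p G) (W V : Subgroup G → Subgroup G)
    (hW : Cfsg.IsConjugacyFunctor p W) (hV : Cfsg.IsConjugacyFunctor p V)
    (hWZ : ∀ H : Subgroup G, IsPGroup p ↥H → H ⊓ Subgroup.centralizer ((H : Subgroup G) : Set G) ≤ W H)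
    (hVmono : ∀ H K : Subgroup G, IsPGroup p ↥H → IsPGroup p ↥K → H ≠ ⊥ → K ≠ ⊥ →
      H ⊓ Subgroup.centralizer ((H : Subgroup G) : Set G) ≤ K ⊓ Subgroup.centralizer ((K : Subgroup G) : Set G) →
      V H ≤ V K)
    (hPne : (P : Subgroup G) ≠ ⊥)
    (hdec : ∀ U : Subgroup G, (P : Subgroup G) ⊓ Subgroup.centralizer ((P : Subgroup G) : Set G) ≤ U →
      U ≤ (P : Subgroup G) → ∃ Q : Subgroup G, Q ≤ Subgroup.normalizer (U : Set G) ∧ IsPGroup p Q ∧
        ¬ p ∣ Q.relIndex (Subgroup.normalizer (U : Set G)) ∧ Dec W V U Q)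
    (F0 : Subgroup G)
    (hA0 : (P : Subgroup G) ⊓ ⁅Subgroup.normalizer ((W (P : Subgroup G) : Subgroup G) : Set G),
      Subgroup.normalizer ((W (P : Subgroup G) : Subgroup G) : Set G)⁆ ≤ F0)
    (hB0 : (P : Subgroup G) ⊓ ⁅Subgroup.centralizer ((V (P : Subgroup G) : Subgroup G) : Set G),
      Subgroup.centralizer ((V (P : Subgroup G) : Subgroup G) : Set G)⁆ ≤ F0)
    (m : ℕ) :
    ∀ (A : Set G) (g : G), A ⊆ (P : Subgroup G) → rc g A ⊆ (P : Subgroup G) →
      Nat.card (P : Subgroup G) - Nat.card (Subgroup.closure A) = m →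
      GoodT F0 A g := by
  -- transport of the decomposition to a fully normalized conjugate
  have dec_transport : ∀ (U : Subgroup G) (k : G),
      (P : Subgroup G) ⊓ Subgroup.centralizer ((P : Subgroup G) : Set G) ≤ U → U ≤ (P : Subgroup G) →
      FN p (P : Subgroup G) (cj k U) →
      Dec W V (cj k U) ((P : Subgroup G) ⊓ Subgroup.normalizer ((cj k U : Subgroup G) : Set G)) := by
    intro U k hZU hUP hfn
    obtain ⟨Q, hQN, hQp, hQi, hQdec⟩ := hdec U hZU hUP
    have h1 := hQdec.conj hW hV hQp k
    have hkQ : cj k Q ≤ Subgroup.normalizer ((cj k U : Subgroup G) : Set G) := by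
      rw [normalizer_cj]; exact cj_mono hQN
    have hkQi : ¬ p ∣ (cj k Q).relIndex (Subgroup.normalizer ((cj k U : Subgroup G) : Set G)) := by
      rw [normalizer_cj, relIndex_cj]; exact hQi
    obtain ⟨c, hc, hcc⟩ := sylow_sub_eq hkQ (isPGroup_cj hQp) hkQi
      (inf_le_right : (P : Subgroup G) ⊓ Subgroup.normalizer ((cj k U : Subgroup G) : Set G) ≤ _)
      (P.isPGroup'.to_le inf_le_left) hfn
    have h2 := h1.conj hW hV (isPGroup_cj hQp) c
    rw [hcc, cj_eq_self_iff.mpr hc] at h2
    exact h2
  induction m using Nat.strong_induction_on with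
  | _ m ihm =>
    have inner : ∀ n : ℕ, ∀ T : Subgroup G, T ≤ (P : Subgroup G) → FN p (P : Subgroup G) T →
        Dec W V T ((P : Subgroup G) ⊓ Subgroup.normalizer (T : Set G)) →
        Nat.card (P : Subgroup G) -
          Nat.card ((P : Subgroup G) ⊓ Subgroup.normalizer (T : Set G) : Subgroup G) = n →
        Nat.card (P : Subgroup G) -
          Nat.card ((P : Subgroup G) ⊓ Subgroup.normalizer (T : Set G) : Subgroup G) ≤ m →
        ((P : Subgroup G) ⊓ Subgroup.normalizer (T : Set G)) ⊓
          ⁅Subgroup.normalizer (T : Set G), Subgroup.normalizer (T : Set G)⁆ ≤ F0 := by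
      intro n
      induction n using Nat.strong_induction_on with
      | _ n ihn =>
        intro T hTP hTfn hTdec hn hnm
        set R := (P : Subgroup G) ⊓ Subgroup.normalizer (T : Set G) with hRdef
        have hRp : IsPGroup p R := P.isPGroup'.to_le inf_le_left
        have hRP : R ≤ (P : Subgroup G) := inf_le_left
        intro x hx
        by_cases hRne : R = ⊥
        · have : x ∈ R := hx.1
          rw [hRne, Subgroup.mem_bot] at this
          rw [this]; exact F0.one_mem
        obtain ⟨a, ha, b, hb, rfl⟩ := hTdec x hx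
        have hZR : (P : Subgroup G) ⊓ Subgroup.centralizer ((P : Subgroup G) : Set G) ≤ R :=
          center_le_normalizer_inf _ _ hTP
        have hZZ := center_le_center _ _ hRP hZR
        -- the `V` part
        have hb' : b ∈ F0 := by
          apply hB0
          have hVV : V (P : Subgroup G) ≤ V R := hVmono _ _ P.isPGroup' hRp hPne hRne hZZ
          refine Subgroup.mem_inf.mpr ⟨hRP hb.1, ?_⟩
          have hcc : Subgroup.centralizer ((V R : Subgroup G) : Set G) ≤
              Subgroup.centralizer ((V (P : Subgroup G) : Subgroup G) : Set G) :=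
            Subgroup.centralizer_le hVV
          exact Subgroup.commutator_mono (le_trans inf_le_right hcc) (le_trans inf_le_right hcc) hb.2
        -- the `W` part
        have ha' : a ∈ F0 := by
          have ha2 : a ∈ ⁅Subgroup.normalizer ((W R : Subgroup G) : Set G),
              Subgroup.normalizer ((W R : Subgroup G) : Set G)⁆ :=
            Subgroup.commutator_mono inf_le_right inf_le_right ha.2
          by_cases hRS : R = (P : Subgroup G)
          · apply hA0
            rw [← hRS]
            exact Subgroup.mem_inf.mpr ⟨ha.1, ha2⟩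
          · have hRlt : R < (P : Subgroup G) := lt_of_le_of_ne inf_le_left hRS
            have hVR : W R ≤ R := functor_le hW hRp
            have hVS : W R ≤ (P : Subgroup G) := le_trans hVR inf_le_left
            have hZW : (P : Subgroup G) ⊓ Subgroup.centralizer ((P : Subgroup G) : Set G) ≤ W R :=
              le_trans hZZ (hWZ R hRp)
            have hgrow := normalizer_growth P.isPGroup' hRlt
            have hNV : (P : Subgroup G) ⊓ Subgroup.normalizer (R : Set G) ≤
                (P : Subgroup G) ⊓ Subgroup.normalizer ((W R : Subgroup G) : Set G) :=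
              inf_le_inf_left _ (normalizer_le_normalizer_functor hW hRp)
            have hRQ : R < (P : Subgroup G) ⊓ Subgroup.normalizer ((W R : Subgroup G) : Set G) :=
              lt_of_lt_of_le hgrow hNV
            set Q := (P : Subgroup G) ⊓ Subgroup.normalizer ((W R : Subgroup G) : Set G) with hQdef
            obtain ⟨k, hkV, hkFN, hkQ⟩ := exists_fn_conj P (W R) hVS
            have hQcard : Nat.card R < Nat.card Q :=
              Set.Finite.card_lt_card (Set.toFinite _) hRQ
            have hQS : Nat.card Q ≤ Nat.card (P : Subgroup G) := Subgroup.card_le_of_le inf_le_left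
            have gQ : GoodT F0 (Q : Set G) k⁻¹ := by
              refine ihm (Nat.card (P : Subgroup G) - Nat.card Q) (by omega) (Q : Set G) k⁻¹
                (fun a ha => ha.1) ?_ (by rw [Subgroup.closure_eq])
              rw [rc_coe, inv_inv]
              exact hkQ
            have hQR'' : cj k Q ≤ (P : Subgroup G) ⊓
                Subgroup.normalizer ((cj k (W R) : Subgroup G) : Set G) := by
              refine le_inf hkQ ?_
              rw [normalizer_cj]
              exact cj_mono inf_le_right
            have hcard'' : Nat.card Q ≤ Nat.card ((P : Subgroup G) ⊓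
                Subgroup.normalizer ((cj k (W R) : Subgroup G) : Set G) : Subgroup G) := by
              rw [← card_cj k Q]
              exact Subgroup.card_le_of_le hQR''
            have hin := ihn _ (by omega) (cj k (W R)) hkV hkFN
              (dec_transport (W R) k hZW hVS hkFN) rfl (by omega)
            have hku : k * a * k⁻¹ ∈ F0 := by
              apply hin
              refine Subgroup.mem_inf.mpr ⟨hQR'' (conj_mem_cj (hRQ.le ha.1)), ?_⟩
              rw [normalizer_cj, ← cj_commutator]
              exact conj_mem_cj ha2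
            have hgu := gQ a (hRQ.le ha.1)
            rw [inv_inv] at hgu
            have e : a = (k * a * k⁻¹) * (a⁻¹ * (k * a * k⁻¹))⁻¹ := by group
            rw [e]
            exact F0.mul_mem hku (F0.inv_mem hgu)
        exact F0.mul_mem ha' hb'
    intro A g hA hAg hm
    have hreach := reach_of_fullyNormalized P
      {U : Subgroup G | U ≤ (P : Subgroup G) ∧ FN p (P : Subgroup G) U}
      (fun U hU => hU.1) (by
        intro T hT
        obtain ⟨c, h1, h2, -⟩ := exists_fn_conj P T hT
        exact ⟨cj c T, ⟨h1, h2⟩, ⟨c, rfl⟩, h2⟩) A g hA hAg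
    have hall : ∀ (A : Set G) (g : G),
        Reach {U : Subgroup G | U ≤ (P : Subgroup G) ∧ FN p (P : Subgroup G) U} A g →
        A ⊆ (P : Subgroup G) →
        Nat.card (P : Subgroup G) - Nat.card (Subgroup.closure A) = m →
        GoodT F0 A g := by
      intro A g hr
      induction hr with
      | nil A => intros; exact GoodT.one F0 A
      | cons A T x g hT hx hAT _ ih =>
        intro hAS hcard
        have hxA : rc x A ⊆ T := rc_subset_of_mem_normalizer hx hAT
        have hTR : T ≤ (P : Subgroup G) ⊓ Subgroup.normalizer (T : Set G) :=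
          le_inf hT.1 Subgroup.le_normalizer
        have hclT : Nat.card (Subgroup.closure A) ≤ Nat.card T :=
          Subgroup.card_le_of_le ((Subgroup.closure_le _).mpr hAT)
        have step : GoodT F0 A x := by
          by_cases hZT : (P : Subgroup G) ⊓ Subgroup.centralizer ((P : Subgroup G) : Set G) ≤ T
          · intro a ha
            have hcl : Nat.card T ≤
                Nat.card ((P : Subgroup G) ⊓ Subgroup.normalizer (T : Set G) : Subgroup G) :=
              Subgroup.card_le_of_le hTR
            have hd := dec_transport T 1 hZT hT.1 (by rw [cj_one]; exact hT.2)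
            rw [cj_one] at hd
            exact inner _ T hT.1 hT.2 hd rfl (by omega)
              (comm_mem_inf_commutator hT.1 (hAT ha) hx)
          · -- enlarge `T` by its centralizer in `P`
            obtain ⟨y, hy, hya⟩ := frattini_centralizer P hT.2 hx
            obtain ⟨T1, hT1⟩ : ∃ T1 : Subgroup G,
                T1 = T ⊔ ((P : Subgroup G) ⊓ Subgroup.centralizer (T : Set G)) := ⟨_, rfl⟩
            have hT1P : T1 ≤ (P : Subgroup G) := by rw [hT1]; exact sup_le hT.1 inf_le_left
            have hTleT1 : T ≤ T1 := by rw [hT1]; exact le_sup_left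
            have hTT1 : T < T1 := by
              refine lt_of_le_of_ne hTleT1 ?_
              intro heq
              apply hZT
              have : (P : Subgroup G) ⊓ Subgroup.centralizer (T : Set G) ≤ T := by
                have h1 : (P : Subgroup G) ⊓ Subgroup.centralizer (T : Set G) ≤ T1 := by
                  rw [hT1]; exact le_sup_right
                exact le_trans h1 (le_of_eq heq.symm)
              exact le_trans (inf_le_inf_left _ (Subgroup.centralizer_le hT.1)) this
            have hyT1 : y ∈ Subgroup.normalizer (T1 : Set G) := by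
              rw [hT1]
              exact Subgroup.normalizer_inf_normalizer_le_normalizer_sup _ _ hy
            have hc1 : Nat.card T < Nat.card T1 :=
              Set.Finite.card_lt_card (Set.toFinite _) hTT1
            have hc2 : Nat.card T1 ≤ Nat.card (P : Subgroup G) := Subgroup.card_le_of_le hT1P
            have g1 : GoodT F0 (T1 : Set G) y := by
              refine ihm (Nat.card (P : Subgroup G) - Nat.card T1) (by omega) (T1 : Set G) y
                (fun a ha => hT1P ha) ?_ (by rw [Subgroup.closure_eq])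
              exact (rc_subset_of_mem_normalizer hyT1 (le_refl _)).trans (fun a ha => hT1P ha)
            intro a ha
            have := g1 a (hTleT1 (hAT ha))
            rw [hya a (hAT ha)] at this
            exact this
        exact step.trans (ih (fun a ha => hT.1 (hxA ha)) (by rw [card_closure_rc]; exact hcard))
    exact hall A g hreach hA hm

/-- Let p be a prime dividing the order of the finite group G, P a Sylow p-subgroup, W a conjugacy functor for p on G with Z(H) ≤ W(H) for every nontrivial p-subgroup H, and V a central functor: a conjugacy functor with V(H) ≤ Z(H), and V(H) ≤ V(K) whenever Z(H) ≤ Z(K), for nontrivial p-subgroups H, K. Say that W with V controls transfer in a subgroup L when some Sylow p-subgroup Q of L satisfies Q ∩ L' = (Q ∩ (N_L(W(Q)))')·(Q ∩ (C_L(V(Q)))') as a product of two subgroups. If W with V controls transfer in N_G(H) for every subgroup H with Z(P) ≤ H ≤ P, then W with V controls transfer in G. -/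
theorem result {G : Type*} [Group G] [Finite G] {p : ℕ} [Fact p.Prime] (hdiv : p ∣ Nat.card G) (P : Sylow p G) (W V : Subgroup G → Subgroup G) (hW : Cfsg.IsConjugacyFunctor p W) (hV : Cfsg.IsConjugacyFunctor p V) (hWZ : ∀ H : Subgroup G, IsPGroup p ↥H → H ⊓ Subgroup.centralizer ((H : Subgroup G) : Set G) ≤ W H) (hVZ : ∀ H : Subgroup G, IsPGroup p ↥H → V H ≤ H ⊓ Subgroup.centralizer ((H : Subgroup G) : Set G)) (hVmono : ∀ H K : Subgroup G, IsPGroup p ↥H → IsPGroup p ↥K → H ≠ ⊥ → K ≠ ⊥ → H ⊓ Subgroup.centralizer ((H : Subgroup G) : Set G) ≤ K ⊓ Subgroup.centralizer ((K : Subgroup G) : Set G) → V H ≤ V K) (hloc : ∀ H : Subgroup G, (P : Subgroup G) ⊓ Subgroup.centralizer (((P : Subgroup G) : Subgroup G) : Set G) ≤ H → H ≤ (P : Subgroup G) → ∃ Q : Subgroup G, Q ≤ Subgroup.normalizer ((H : Subgroup G) : Set G) ∧ IsPGroup p ↥Q ∧ ¬ p ∣ (Q).relIndex (Subgroup.normalizer ((H : Subgroup G) : Set G)) ∧ ∀ x : G, x ∈ Q ⊓ ⁅Subgroup.normalizer ((H : Subgroup G) : Set G), Subgroup.normalizer ((H : Subgroup G) : Set G)⁆ ↔ ∃ a ∈ Q ⊓ ⁅Subgroup.normalizer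 ((H : Subgroup G) : Set G) ⊓ Subgroup.normalizer ((W Q : Subgroup G) : Set G), Subgroup.normalizer ((H : Subgroup G) : Set G) ⊓ Subgroup.normalizer ((W Q : Subgroup G) : Set G)⁆, ∃ b ∈ Q ⊓ ⁅Subgroup.normalizer ((H : Subgroup G) : Set G) ⊓ Subgroup.centralizer ((V Q : Subgroup G) : Set G), Subgroup.normalizer ((H : Subgroup G) : Set G) ⊓ Subgroup.centralizer ((V Q : Subgroup G) : Set G)⁆, x = a * b) : ∃ Q : Subgroup G, IsPGroup p ↥Q ∧ ¬ p ∣ Q.index ∧ ∀ x : G, x ∈ Q ⊓ commutator G ↔ ∃ a ∈ Q ⊓ ⁅Subgroup.normalizer ((W Q : Subgroup G) : Set G), Subgroup.normalizer ((W Q : Subgroup G) : Set G)⁆, ∃ b ∈ Q ⊓ ⁅Subgroup.centralizer ((V Q : Subgroup G) : Set G), Subgroup.centralizer ((V Q : Subgroup G) : Set G)⁆, x = a * b := by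
  have hPp := P.isPGroup'
  have hPne : (P : Subgroup G) ≠ ⊥ := by
    intro h
    have hcard : Nat.card (P : Subgroup G) = 1 := by rw [h]; exact Subgroup.card_bot
    have := P.card_eq_multiplicity
    rw [hcard] at this
    have hp : p ^ 1 ∣ Nat.card G := by simpa using hdiv
    have hfac : 1 ≤ (Nat.card G).factorization p :=
      (Nat.Prime.pow_dvd_iff_le_factorization (Fact.out : p.Prime) Nat.card_pos.ne').mp hp
    have hlt : 1 < p ^ (Nat.card G).factorization p :=
      Nat.one_lt_pow (by omega) (Fact.out : p.Prime).one_lt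
    omega
  refine ⟨P, hPp, P.not_dvd_index, ?_⟩
  intro x
  constructor
  · intro hx
    set A0 := (P : Subgroup G) ⊓ ⁅Subgroup.normalizer ((W (P : Subgroup G) : Subgroup G) : Set G),
      Subgroup.normalizer ((W (P : Subgroup G) : Subgroup G) : Set G)⁆ with hA0
    set B0 := (P : Subgroup G) ⊓ ⁅Subgroup.centralizer ((V (P : Subgroup G) : Subgroup G) : Set G),
      Subgroup.centralizer ((V (P : Subgroup G) : Subgroup G) : Set G)⁆ with hB0
    have hxF : x ∈ A0 ⊔ B0 := by
      have hfoc : (P : Subgroup G) ⊓ commutator G = (P : Subgroup G).focalSubgroup := by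
        rw [inf_comm]
        exact Subgroup.commutator_inf_eq_focalSubgroup P
      rw [hfoc, Subgroup.focalSubgroup_def] at hx
      revert hx x
      show _ ≤ A0 ⊔ B0
      rw [Subgroup.closure_le]
      rintro g ⟨hgS, x, hxS, u, rfl⟩
      have hux : u * x⁻¹ * u⁻¹ ∈ (P : Subgroup G) := by
        have e : u * x⁻¹ * u⁻¹ = x⁻¹ * ⁅x, u⁆ := by rw [commutatorElement_def]; group
        rw [e]
        exact Subgroup.mul_mem _ (Subgroup.inv_mem _ hxS) hgS
      have hA : ({x⁻¹} : Set G) ⊆ (P : Subgroup G) := by
        intro a ha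
        rw [Set.mem_singleton_iff] at ha
        subst ha
        exact Subgroup.inv_mem _ hxS
      have hAg : rc u⁻¹ ({x⁻¹} : Set G) ⊆ (P : Subgroup G) := by
        rintro _ ⟨a, ha, rfl⟩
        rw [Set.mem_singleton_iff] at ha
        subst ha
        show u⁻¹⁻¹ * x⁻¹ * u⁻¹ ∈ (P : Subgroup G)
        rw [inv_inv]
        exact hux
      have hgood := main P W V hW hV hWZ hVmono hPne (by
          intro U hZU hUP
          obtain ⟨Q, h1, h2, h3, h4⟩ := hloc U hZU hUP
          exact ⟨Q, h1, h2, h3, fun x hx => (h4 x).mp hx⟩) (A0 ⊔ B0) le_sup_left le_sup_right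
        _ _ u⁻¹ hA hAg rfl
      have := hgood x⁻¹ rfl
      have e : ⁅x, u⁆ = x⁻¹⁻¹ * (u⁻¹⁻¹ * x⁻¹ * u⁻¹) := by rw [commutatorElement_def]; group
      rw [SetLike.mem_coe, e]
      exact this
    have hnorm : B0 ≤ Subgroup.normalizer (A0 : Set G) := by
      intro b hb
      have hbP : b ∈ (P : Subgroup G) := hb.1
      have hbN : b ∈ Subgroup.normalizer ((W (P : Subgroup G) : Subgroup G) : Set G) :=
        (le_trans Subgroup.le_normalizer (normalizer_le_normalizer_functor hW hPp)) hbP
      rw [← cj_eq_self_iff, hA0, cj_inf, cj_commutator, cj_eq_self_of_mem hbP]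
      have : cj b (Subgroup.normalizer ((W (P : Subgroup G) : Subgroup G) : Set G)) =
          Subgroup.normalizer ((W (P : Subgroup G) : Subgroup G) : Set G) := cj_eq_self_of_mem hbN
      rw [this]
    have hset := Subgroup.coe_mul_of_right_le_normalizer_left A0 B0 hnorm
    have hx' : x ∈ ((A0 ⊔ B0 : Subgroup G) : Set G) := hxF
    rw [hset] at hx'
    obtain ⟨a, ha, b, hb, hab⟩ := hx'
    exact ⟨a, ha, b, hb, hab.symm⟩
  · rintro ⟨a, ha, b, hb, rfl⟩
    refine Subgroup.mem_inf.mpr ⟨Subgroup.mul_mem _ ha.1 hb.1, ?_⟩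
    have h1 : a ∈ commutator G := by
      rw [commutator_def]
      exact Subgroup.commutator_mono le_top le_top ha.2
    have h2 : b ∈ commutator G := by
      rw [commutator_def]
      exact Subgroup.commutator_mono le_top le_top hb.2
    exact Subgroup.mul_mem _ h1 h2

end Cfsg.Agent.S2001
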