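import Cfsg.Statements.S2002
import Cfsg.Agent.Lib.Helper33.Pair
import Cfsg.Agent.Lib.Helper33.Chain

set_option autoImplicit false
open Cfsg
open Cfsg.Agent.Lib.Helper33

namespace Cfsg.Agent.S2002

variable {G : Type*} [Group G]

theorem card_closure_rc (g : G) (A : Set G) :
    Nat.card (Subgroup.closure (rc g A)) = Nat.card (Subgroup.closure A) := by
  rw [closure_rc, card_cj]

/-- Chains of conjugations by elements of `N_H(W Q)` or `C_H(V Q)`, staying inside `Q`. -/
inductive Chain2 (W V : Subgroup G → Subgroup G) (H Q : Subgroup G) : Set G → G → Prop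
  | nil (A : Set G) : Chain2 W V H Q A 1
  | cons (A : Set G) (y g : G) :
      (y ∈ H ⊓ Subgroup.normalizer ((W Q : Subgroup G) : Set G) ∨
        y ∈ H ⊓ Subgroup.centralizer ((V Q : Subgroup G) : Set G)) →
      rc y A ⊆ Q → Chain2 W V H Q (rc y A) g → Chain2 W V H Q A (y * g)

variable {W V : Subgroup G → Subgroup G} {H Q : Subgroup G}

theorem Chain2.cast {A B : Set G} {g h : G} (h1 : Chain2 W V H Q A g) (hAB : A = B) (hgh : g = h) :
    Chain2 W V H Q B h := by
  subst hAB; subst hgh; exact h1

theorem Chain2.mono {A B : Set G} {g : G} (h : Chain2 W V H Q A g) (hBA : B ⊆ A) :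
    Chain2 W V H Q B g := by
  induction h generalizing B with
  | nil A => exact Chain2.nil B
  | cons A y g hy hA _ ih =>
    exact Chain2.cons B y g hy ((rc_mono hBA).trans hA) (ih (rc_mono hBA))

theorem Chain2.single {A : Set G} {y : G}
    (hy : y ∈ H ⊓ Subgroup.normalizer ((W Q : Subgroup G) : Set G) ∨
        y ∈ H ⊓ Subgroup.centralizer ((V Q : Subgroup G) : Set G))
    (hA : rc y A ⊆ Q) : Chain2 W V H Q A y := by
  have := Chain2.cons A y 1 hy hA (Chain2.nil _)
  simpa using this

theorem Chain2.trans {A : Set G} {g h : G} (h1 : Chain2 W V H Q A g)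
    (h2 : Chain2 W V H Q (rc g A) h) : Chain2 W V H Q A (g * h) := by
  induction h1 generalizing h with
  | nil A => simpa using h2
  | cons A y g hy hA _ ih =>
    rw [mul_assoc]
    apply Chain2.cons A y (g * h) hy hA
    apply ih
    rwa [rc_mul] at h2

theorem Chain2.symm {A : Set G} {g : G} (h1 : Chain2 W V H Q A g) (hA0 : A ⊆ Q) :
    Chain2 W V H Q (rc g A) g⁻¹ := by
  induction h1 with
  | nil A => simpa using Chain2.nil (W := W) (V := V) (H := H) (Q := Q) A
  | cons A y g hy hA _ ih =>
    rw [mul_inv_rev, rc_mul]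
    apply Chain2.trans (ih hA)
    rw [← rc_mul, mul_inv_cancel, rc_one]
    refine Chain2.single ?_ ?_
    · rcases hy with hy | hy
      · exact Or.inl (inv_mem hy)
      · exact Or.inr (inv_mem hy)
    · rw [← rc_mul, mul_inv_cancel, rc_one]
      exact hA0

/-- Transport of a chain along conjugation. -/
theorem Chain2.conj {p : ℕ} (hW : Cfsg.IsConjugacyFunctor p W) (hV : Cfsg.IsConjugacyFunctor p V)
    (hQ : IsPGroup p Q) (k : G) {A : Set G} {g : G} (h1 : Chain2 W V H Q A g) :
    Chain2 W V (cj k H) (cj k Q) (rc k⁻¹ A) (k * g * k⁻¹) := by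
  induction h1 with
  | nil A =>
    have := Chain2.nil (W := W) (V := V) (H := cj k H) (Q := cj k Q) (rc k⁻¹ A)
    exact this.cast rfl (by group)
  | cons A y g hy hA _ ih =>
    have e : k * (y * g) * k⁻¹ = (k * y * k⁻¹) * (k * g * k⁻¹) := by group
    rw [e]
    apply Chain2.cons
    · rcases hy with hy | hy
      · left
        rw [functor_cj hW hQ, normalizer_cj, ← cj_inf]
        exact conj_mem_cj hy
      · right
        rw [functor_cj hV hQ, centralizer_cj, ← cj_inf]
        exact conj_mem_cj hy
    · rw [← rc_mul, show k⁻¹ * (k * y * k⁻¹) = y * k⁻¹ by group, rc_mul]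
      intro x hx
      rw [mem_rc, inv_inv] at hx
      have := hA hx
      rw [SetLike.mem_coe, mem_cj]
      exact this
    · rw [← rc_mul, show k⁻¹ * (k * y * k⁻¹) = y * k⁻¹ by group, rc_mul]
      exact ih

theorem Chain2.ofList : ∀ (l : List G) (A : Set G),
    (∀ y ∈ l, y ∈ H ⊓ Subgroup.normalizer ((W Q : Subgroup G) : Set G) ∨
        y ∈ H ⊓ Subgroup.centralizer ((V Q : Subgroup G) : Set G)) →
    (∀ k : ℕ, k ≤ l.length → rc (l.take k).prod A ⊆ Q) → Chain2 W V H Q A l.prod := by
  intro l
  induction l with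
  | nil => intro A _ _; exact Chain2.nil A
  | cons y l ih =>
    intro A hmem hsub
    rw [List.prod_cons]
    refine Chain2.cons A y _ (hmem y (List.mem_cons_self)) ?_ ?_
    · have := hsub 1 (by simp)
      simpa using this
    · apply ih
      · intro z hz
        exact hmem z (List.mem_cons_of_mem _ hz)
      · intro k hk
        have := hsub (k + 1) (by simpa using hk)
        rw [List.take_succ_cons, List.prod_cons, rc_mul] at this
        exact this

theorem Chain2.toList {A : Set G} {g : G} (h1 : Chain2 W V H Q A g) (hA0 : A ⊆ Q) :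
    ∃ l : List G, (∀ y ∈ l, y ∈ H ⊓ Subgroup.normalizer ((W Q : Subgroup G) : Set G) ∨
        y ∈ H ⊓ Subgroup.centralizer ((V Q : Subgroup G) : Set G)) ∧ l.prod = g ∧
      ∀ k : ℕ, k ≤ l.length → rc (l.take k).prod A ⊆ Q := by
  induction h1 with
  | nil A =>
    refine ⟨[], by simp, rfl, ?_⟩
    intro k _
    simpa using hA0
  | cons A y g hy hA _ ih =>
    obtain ⟨l, hmem, hprod, hsub⟩ := ih hA
    refine ⟨y :: l, ?_, by rw [List.prod_cons, hprod], ?_⟩
    · intro z hz
      rcases List.mem_cons.mp hz with rfl | hz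
      · exact hy
      · exact hmem z hz
    · intro k hk
      cases k with
      | zero => simpa using hA0
      | succ j =>
        rw [List.take_succ_cons, List.prod_cons, rc_mul]
        exact hsub j (by simpa using hk)

/-- `GoodF2 W V S A g`: the right conjugation of `A` by `g` is induced by a global chain. -/
def GoodF2 (W V : Subgroup G → Subgroup G) (S : Subgroup G) (A : Set G) (g : G) : Prop :=
  ∃ g' : G, Chain2 W V ⊤ S A g' ∧ ∀ a ∈ A, g'⁻¹ * a * g' = g⁻¹ * a * g

variable {S : Subgroup G}

theorem GoodF2.one (A : Set G) : GoodF2 W V S A 1 := ⟨1, Chain2.nil A, fun _ _ => rfl⟩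

theorem GoodF2.of_eq {A : Set G} {g g' : G} (h1 : GoodF2 W V S A g)
    (h : ∀ a ∈ A, g⁻¹ * a * g = g'⁻¹ * a * g') : GoodF2 W V S A g' := by
  obtain ⟨x, hx, e⟩ := h1
  exact ⟨x, hx, fun a ha => (e a ha).trans (h a ha)⟩

theorem GoodF2.mono {A B : Set G} {g : G} (h1 : GoodF2 W V S A g) (hBA : B ⊆ A) :
    GoodF2 W V S B g := by
  obtain ⟨x, hx, e⟩ := h1
  exact ⟨x, hx.mono hBA, fun a ha => e a (hBA ha)⟩

theorem GoodF2.trans {A : Set G} {g h : G} (h1 : GoodF2 W V S A g) (h2 : GoodF2 W V S (rc g A) h) :
    GoodF2 W V S A (g * h) := by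
  obtain ⟨x1, hx1, e1⟩ := h1
  obtain ⟨x2, hx2, e2⟩ := h2
  rw [← rc_congr e1] at hx2
  refine ⟨x1 * x2, hx1.trans hx2, ?_⟩
  intro a ha
  have := e2 _ (conj_mem_rc (g := g) ha)
  calc (x1 * x2)⁻¹ * a * (x1 * x2) = x2⁻¹ * (x1⁻¹ * a * x1) * x2 := by group
    _ = x2⁻¹ * (g⁻¹ * a * g) * x2 := by rw [e1 a ha]
    _ = h⁻¹ * (g⁻¹ * a * g) * h := this
    _ = (g * h)⁻¹ * a * (g * h) := by group

theorem GoodF2.symm {A : Set G} {g : G} (h1 : GoodF2 W V S A g) (hA : A ⊆ S) :
    GoodF2 W V S (rc g A) g⁻¹ := by
  obtain ⟨x, hx, e⟩ := h1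
  have := hx.symm hA
  rw [rc_congr e] at this
  refine ⟨x⁻¹, this, ?_⟩
  rintro _ ⟨a, ha, rfl⟩
  have e' := e a ha
  calc x⁻¹⁻¹ * (g⁻¹ * a * g) * x⁻¹ = x * (x⁻¹ * a * x) * x⁻¹ := by rw [e', inv_inv]
    _ = g⁻¹⁻¹ * (g⁻¹ * a * g) * g⁻¹ := by group

theorem GoodF2.cast {A B : Set G} {g h : G} (h1 : GoodF2 W V S A g) (hAB : A = B) (hgh : g = h) :
    GoodF2 W V S B h := by
  subst hAB; subst hgh; exact h1

/-- The local control property at the Sylow subgroup `Q` of `N(U)`. -/
def LocalF (W V : Subgroup G → Subgroup G) (U Q : Subgroup G) : Prop :=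
  ∀ (X : Set G) (a : G), X ⊆ Q → a ∈ Subgroup.normalizer (U : Set G) → rc a X ⊆ Q →
    ∃ a' : G, Chain2 W V (Subgroup.normalizer (U : Set G)) Q X a' ∧ ∀ x ∈ X, a'⁻¹ * x * a' = a⁻¹ * x * a

theorem LocalF.conj {p : ℕ} (hW : Cfsg.IsConjugacyFunctor p W) (hV : Cfsg.IsConjugacyFunctor p V)
    {U Q : Subgroup G} (hQ : IsPGroup p Q) (g : G) (h : LocalF W V U Q) :
    LocalF W V (cj g U) (cj g Q) := by
  intro X a hX ha hXa
  have hX' : rc g X ⊆ Q := by
    intro x hx
    rw [mem_rc] at hx
    exact conj_mem_cj_iff.mp (hX hx)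
  have ha' : g⁻¹ * a * g ∈ Subgroup.normalizer (U : Set G) := by
    rw [normalizer_cj] at ha
    exact mem_cj.mp ha
  have hXa' : rc (g⁻¹ * a * g) (rc g X) ⊆ Q := by
    rw [← rc_mul, show g * (g⁻¹ * a * g) = a * g by group, rc_mul]
    intro x hx
    rw [mem_rc] at hx
    exact conj_mem_cj_iff.mp (hXa hx)
  obtain ⟨a1, hch, hact⟩ := h (rc g X) (g⁻¹ * a * g) hX' ha' hXa'
  have hch' := hch.conj hW hV hQ g
  rw [← normalizer_cj, ← rc_mul, mul_inv_cancel, rc_one] at hch'
  refine ⟨_, hch', ?_⟩
  intro x hx
  have := hact _ (conj_mem_rc (g := g) hx)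
  calc (g * a1 * g⁻¹)⁻¹ * x * (g * a1 * g⁻¹) = g * (a1⁻¹ * (g⁻¹ * x * g) * a1) * g⁻¹ := by group
    _ = g * ((g⁻¹ * a * g)⁻¹ * (g⁻¹ * x * g) * (g⁻¹ * a * g)) * g⁻¹ := by rw [this]
    _ = a⁻¹ * x * a := by group

theorem center_le_normalizer_inf (P U : Subgroup G) (hU : U ≤ P) :
    P ⊓ Subgroup.centralizer (P : Set G) ≤ P ⊓ Subgroup.normalizer (U : Set G) := by
  refine inf_le_inf_left _ ?_
  exact le_trans (Subgroup.centralizer_le hU) (Subgroup.centralizer_le_normalizer _)

theorem center_le_center (P R : Subgroup G) (hRP : R ≤ P)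
    (hZR : P ⊓ Subgroup.centralizer (P : Set G) ≤ R) :
    P ⊓ Subgroup.centralizer (P : Set G) ≤ R ⊓ Subgroup.centralizer (R : Set G) :=
  le_inf hZR (le_trans inf_le_right (Subgroup.centralizer_le hRP))

theorem main [Finite G] {p : ℕ} [Fact p.Prime] (P : Sylow p G) (W V : Subgroup G → Subgroup G)
    (hW : Cfsg.IsConjugacyFunctor p W) (hV : Cfsg.IsConjugacyFunctor p V)
    (hWZ : ∀ H : Subgroup G, IsPGroup p ↥H → H ⊓ Subgroup.centralizer ((H : Subgroup G) : Set G) ≤ W H)
    (hVmono : ∀ H K : Subgroup G, IsPGroup p ↥H → IsPGroup p ↥K → H ≠ ⊥ → K ≠ ⊥ →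
      H ⊓ Subgroup.centralizer ((H : Subgroup G) : Set G) ≤ K ⊓ Subgroup.centralizer ((K : Subgroup G) : Set G) →
      V H ≤ V K)
    (hPne : (P : Subgroup G) ≠ ⊥)
    (hdec : ∀ U : Subgroup G, (P : Subgroup G) ⊓ Subgroup.centralizer ((P : Subgroup G) : Set G) ≤ U →
      U ≤ (P : Subgroup G) → ∃ Q : Subgroup G, Q ≤ Subgroup.normalizer (U : Set G) ∧ IsPGroup p Q ∧
        ¬ p ∣ Q.relIndex (Subgroup.normalizer (U : Set G)) ∧ LocalF W V U Q)
    (m : ℕ) :
    ∀ (A : Set G) (g : G), A ⊆ (P : Subgroup G) → rc g A ⊆ (P : Subgroup G) →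
      Nat.card (P : Subgroup G) - Nat.card (Subgroup.closure A) = m →
      GoodF2 W V (P : Subgroup G) A g := by
  have dec_transport : ∀ (U : Subgroup G) (k : G),
      (P : Subgroup G) ⊓ Subgroup.centralizer ((P : Subgroup G) : Set G) ≤ U → U ≤ (P : Subgroup G) →
      FN p (P : Subgroup G) (cj k U) →
      LocalF W V (cj k U) ((P : Subgroup G) ⊓ Subgroup.normalizer ((cj k U : Subgroup G) : Set G)) := by
    intro U k hZU hUP hfn
    obtain ⟨Q, hQN, hQp, hQi, hQdec⟩ := hdec U hZU hUP
    have h1 := hQdec.conj hW hV hQp k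
    have hkQ : cj k Q ≤ Subgroup.normalizer ((cj k U : Subgroup G) : Set G) := by
      rw [normalizer_cj]; exact cj_mono hQN
    have hkQi : ¬ p ∣ (cj k Q).relIndex (Subgroup.normalizer ((cj k U : Subgroup G) : Set G)) := by
      rw [normalizer_cj, relIndex_cj]; exact hQi
    obtain ⟨c, hc, hcc⟩ := sylow_sub_eq hkQ (isPGroup_cj hQp) hkQi
      (inf_le_right : (P : Subgroup G) ⊓ Subgroup.normalizer ((cj k U : Subgroup G) : Set G) ≤ _)
      (P.isPGroup'.to_le inf_le_left) hfn
    have h2 := h1.conj hW hV (isPGroup_cj hQp) c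
    rw [hcc, cj_eq_self_iff.mpr hc] at h2
    exact h2
  induction m using Nat.strong_induction_on with
  | _ m ihm =>
    have inner : ∀ n : ℕ, ∀ T : Subgroup G, T ≤ (P : Subgroup G) → FN p (P : Subgroup G) T →
        LocalF W V T ((P : Subgroup G) ⊓ Subgroup.normalizer (T : Set G)) →
        Nat.card (P : Subgroup G) -
          Nat.card ((P : Subgroup G) ⊓ Subgroup.normalizer (T : Set G) : Subgroup G) = n →
        ∀ (B : Set G) (x : G),
          B ⊆ ((P : Subgroup G) ⊓ Subgroup.normalizer (T : Set G) : Subgroup G) →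
          x ∈ Subgroup.normalizer (T : Set G) →
          rc x B ⊆ ((P : Subgroup G) ⊓ Subgroup.normalizer (T : Set G) : Subgroup G) →
          Nat.card (P : Subgroup G) - Nat.card (Subgroup.closure B) = m →
          GoodF2 W V (P : Subgroup G) B x := by
      intro n
      induction n using Nat.strong_induction_on with
      | _ n ihn =>
        intro T hTP hTfn hTdec hn B x hB hx hBx hm
        set R := (P : Subgroup G) ⊓ Subgroup.normalizer (T : Set G) with hRdef
        have hRp : IsPGroup p R := P.isPGroup'.to_le inf_le_left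
        have hRP : R ≤ (P : Subgroup G) := inf_le_left
        by_cases hRne : R = ⊥
        · refine ⟨1, Chain2.nil B, ?_⟩
          intro a ha
          have : a ∈ R := hB ha
          rw [hRne, Subgroup.mem_bot] at this
          subst this
          simp
        have hZR : (P : Subgroup G) ⊓ Subgroup.centralizer ((P : Subgroup G) : Set G) ≤ R :=
          center_le_normalizer_inf _ _ hTP
        have hZZ := center_le_center _ _ hRP hZR
        obtain ⟨x', hchain, hx'⟩ := hTdec B x hB hx hBx
        refine GoodF2.of_eq ?_ hx'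
        have hstep : ∀ (B : Set G) (y : G),
            (y ∈ Subgroup.normalizer (T : Set G) ⊓ Subgroup.normalizer ((W R : Subgroup G) : Set G) ∨
              y ∈ Subgroup.normalizer (T : Set G) ⊓ Subgroup.centralizer ((V R : Subgroup G) : Set G)) →
            B ⊆ R → rc y B ⊆ R →
            Nat.card (P : Subgroup G) - Nat.card (Subgroup.closure B) = m →
            GoodF2 W V (P : Subgroup G) B y := by
          rintro B y hy hBR hBy hcard
          rcases hy with hyW | hyV
          · by_cases hRS : R = (P : Subgroup G)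
            · refine ⟨y, Chain2.single (Or.inl (Subgroup.mem_inf.mpr ⟨Subgroup.mem_top _, ?_⟩)) ?_,
                fun _ _ => rfl⟩
              · rw [← hRS]; exact hyW.2
              · rw [← hRS]; exact hBy
            · have hRlt : R < (P : Subgroup G) := lt_of_le_of_ne inf_le_left hRS
              have hVR : W R ≤ R := functor_le hW hRp
              have hVS : W R ≤ (P : Subgroup G) := le_trans hVR inf_le_left
              have hZW : (P : Subgroup G) ⊓ Subgroup.centralizer ((P : Subgroup G) : Set G) ≤ W R :=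
                le_trans hZZ (hWZ R hRp)
              have hgrow := normalizer_growth P.isPGroup' hRlt
              have hNV : (P : Subgroup G) ⊓ Subgroup.normalizer (R : Set G) ≤
                  (P : Subgroup G) ⊓ Subgroup.normalizer ((W R : Subgroup G) : Set G) :=
                inf_le_inf_left _ (normalizer_le_normalizer_functor hW hRp)
              have hRQ : R < (P : Subgroup G) ⊓ Subgroup.normalizer ((W R : Subgroup G) : Set G) :=
                lt_of_lt_of_le hgrow hNV
              set Q := (P : Subgroup G) ⊓ Subgroup.normalizer ((W R : Subgroup G) : Set G) with hQdef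
              obtain ⟨k, hkV, hkFN, hkQ⟩ := exists_fn_conj P (W R) hVS
              have hcardB : Nat.card (Subgroup.closure B) ≤ Nat.card R :=
                Subgroup.card_le_of_le ((Subgroup.closure_le _).mpr hBR)
              have hQcard : Nat.card R < Nat.card Q :=
                Set.Finite.card_lt_card (Set.toFinite _) hRQ
              have hQS : Nat.card Q ≤ Nat.card (P : Subgroup G) := Subgroup.card_le_of_le inf_le_left
              have gQ : GoodF2 W V (P : Subgroup G) (Q : Set G) k⁻¹ := by
                refine ihm (Nat.card (P : Subgroup G) - Nat.card Q) (by omega) (Q : Set G) k⁻¹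
                  (fun a ha => ha.1) ?_ (by rw [Subgroup.closure_eq])
                rw [rc_coe, inv_inv]
                exact hkQ
              have g1 : GoodF2 W V (P : Subgroup G) B k⁻¹ := gQ.mono (hBR.trans hRQ.le)
              have g2 : GoodF2 W V (P : Subgroup G) (rc y B) k⁻¹ := gQ.mono (hBy.trans hRQ.le)
              have hQR'' : cj k Q ≤ (P : Subgroup G) ⊓
                  Subgroup.normalizer ((cj k (W R) : Subgroup G) : Set G) := by
                refine le_inf hkQ ?_
                rw [normalizer_cj]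
                exact cj_mono inf_le_right
              have hcard'' : Nat.card Q ≤ Nat.card ((P : Subgroup G) ⊓
                  Subgroup.normalizer ((cj k (W R) : Subgroup G) : Set G) : Subgroup G) := by
                rw [← card_cj k Q]
                exact Subgroup.card_le_of_le hQR''
              have hz : k * y * k⁻¹ ∈ Subgroup.normalizer ((cj k (W R) : Subgroup G) : Set G) := by
                rw [normalizer_cj]
                exact conj_mem_cj hyW.2
              have hsub : ∀ C : Set G, C ⊆ R → rc k⁻¹ C ⊆ ((P : Subgroup G) ⊓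
                  Subgroup.normalizer ((cj k (W R) : Subgroup G) : Set G) : Subgroup G) := by
                intro C hC
                refine (rc_mono (hC.trans hRQ.le)).trans ?_
                rw [rc_coe, inv_inv]
                exact hQR''
              have hB' := hsub B hBR
              have hB'z : rc (k * y * k⁻¹) (rc k⁻¹ B) ⊆ ((P : Subgroup G) ⊓
                  Subgroup.normalizer ((cj k (W R) : Subgroup G) : Set G) : Subgroup G) := by
                rw [← rc_mul, show k⁻¹ * (k * y * k⁻¹) = y * k⁻¹ by group, rc_mul]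
                exact hsub _ hBy
              have g3 : GoodF2 W V (P : Subgroup G) (rc k⁻¹ B) (k * y * k⁻¹) := by
                refine ihn _ (by omega) (cj k (W R)) hkV hkFN (dec_transport (W R) k hZW hVS hkFN)
                  rfl _ _ hB' hz hB'z ?_
                rw [card_closure_rc]; exact hcard
              have g4 := g1.trans g3
              have g5 := g2.symm (hBy.trans (fun a ha => ha.1))
              have g5' : GoodF2 W V (P : Subgroup G) (rc (k⁻¹ * (k * y * k⁻¹)) B) k := by
                refine g5.cast ?_ (inv_inv k)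
                rw [← rc_mul]
                congr 1
                group
              exact (g4.trans g5').cast rfl (by group)
          · -- a step centralizing `V R`, hence `V P`
            have hVV : V (P : Subgroup G) ≤ V R := hVmono _ _ P.isPGroup' hRp hPne hRne hZZ
            have hcc : Subgroup.centralizer ((V R : Subgroup G) : Set G) ≤
                Subgroup.centralizer ((V (P : Subgroup G) : Subgroup G) : Set G) :=
              Subgroup.centralizer_le hVV
            refine ⟨y, Chain2.single (Or.inr (Subgroup.mem_inf.mpr ⟨Subgroup.mem_top _, hcc hyV.2⟩)) ?_,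
              fun _ _ => rfl⟩
            exact hBy.trans (fun a ha => hRP ha)
        have hall : ∀ (B : Set G) (x' : G),
            Chain2 W V (Subgroup.normalizer (T : Set G)) R B x' → B ⊆ R →
            Nat.card (P : Subgroup G) - Nat.card (Subgroup.closure B) = m →
            GoodF2 W V (P : Subgroup G) B x' := by
          intro B x' hc
          induction hc with
          | nil B => intros; exact GoodF2.one B
          | cons B y g hy hB' _ ih =>
            intro hBR hcard
            exact (hstep B y hy hBR hB' hcard).trans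
              (ih hB' (by rw [card_closure_rc]; exact hcard))
        exact hall B x' hchain hB hm
    intro A g hA hAg hm
    have hreach := reach_of_fullyNormalized P
      {U : Subgroup G | U ≤ (P : Subgroup G) ∧ FN p (P : Subgroup G) U}
      (fun U hU => hU.1) (by
        intro T hT
        obtain ⟨c, h1, h2, -⟩ := exists_fn_conj P T hT
        exact ⟨cj c T, ⟨h1, h2⟩, ⟨c, rfl⟩, h2⟩) A g hA hAg
    have hall : ∀ (A : Set G) (g : G),
        Reach {U : Subgroup G | U ≤ (P : Subgroup G) ∧ FN p (P : Subgroup G) U} A g →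
        A ⊆ (P : Subgroup G) →
        Nat.card (P : Subgroup G) - Nat.card (Subgroup.closure A) = m →
        GoodF2 W V (P : Subgroup G) A g := by
      intro A g hr
      induction hr with
      | nil A => intros; exact GoodF2.one A
      | cons A T x g hT hx hAT _ ih =>
        intro hAS hcard
        have hxA : rc x A ⊆ T := rc_subset_of_mem_normalizer hx hAT
        have hTR : T ≤ (P : Subgroup G) ⊓ Subgroup.normalizer (T : Set G) :=
          le_inf hT.1 Subgroup.le_normalizer
        have hclT : Nat.card (Subgroup.closure A) ≤ Nat.card T :=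
          Subgroup.card_le_of_le ((Subgroup.closure_le _).mpr hAT)
        have step : GoodF2 W V (P : Subgroup G) A x := by
          by_cases hZT : (P : Subgroup G) ⊓ Subgroup.centralizer ((P : Subgroup G) : Set G) ≤ T
          · have hd := dec_transport T 1 hZT hT.1 (by rw [cj_one]; exact hT.2)
            rw [cj_one] at hd
            exact inner _ T hT.1 hT.2 hd rfl A x (fun a ha => hTR (hAT ha)) hx
              (fun a ha => hTR (hxA ha)) hcard
          · obtain ⟨y, hy, hya⟩ := frattini_centralizer P hT.2 hx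
            obtain ⟨T1, hT1⟩ : ∃ T1 : Subgroup G,
                T1 = T ⊔ ((P : Subgroup G) ⊓ Subgroup.centralizer (T : Set G)) := ⟨_, rfl⟩
            have hT1P : T1 ≤ (P : Subgroup G) := by rw [hT1]; exact sup_le hT.1 inf_le_left
            have hTleT1 : T ≤ T1 := by rw [hT1]; exact le_sup_left
            have hTT1 : T < T1 := by
              refine lt_of_le_of_ne hTleT1 ?_
              intro heq
              apply hZT
              have : (P : Subgroup G) ⊓ Subgroup.centralizer (T : Set G) ≤ T := by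
                have h1 : (P : Subgroup G) ⊓ Subgroup.centralizer (T : Set G) ≤ T1 := by
                  rw [hT1]; exact le_sup_right
                exact le_trans h1 (le_of_eq heq.symm)
              exact le_trans (inf_le_inf_left _ (Subgroup.centralizer_le hT.1)) this
            have hyT1 : y ∈ Subgroup.normalizer (T1 : Set G) := by
              rw [hT1]
              exact Subgroup.normalizer_inf_normalizer_le_normalizer_sup _ _ hy
            have hc1 : Nat.card T < Nat.card T1 :=
              Set.Finite.card_lt_card (Set.toFinite _) hTT1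
            have hc2 : Nat.card T1 ≤ Nat.card (P : Subgroup G) := Subgroup.card_le_of_le hT1P
            have g1 : GoodF2 W V (P : Subgroup G) (T1 : Set G) y := by
              refine ihm (Nat.card (P : Subgroup G) - Nat.card T1) (by omega) (T1 : Set G) y
                (fun a ha => hT1P ha) ?_ (by rw [Subgroup.closure_eq])
              exact (rc_subset_of_mem_normalizer hyT1 (le_refl _)).trans (fun a ha => hT1P ha)
            exact (g1.mono (fun a ha => hTleT1 (hAT ha))).of_eq (fun a ha => hya a (hAT ha))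
        exact step.trans (ih (fun a ha => hT.1 (hxA ha)) (by rw [card_closure_rc]; exact hcard))
    exact hall A g hreach hA hm

/-- Let p be a prime dividing the order of the finite group G, P a Sylow p-subgroup, W a conjugacy functor for p on G with Z(H) ≤ W(H) for every nontrivial p-subgroup H, and V a central functor (a conjugacy functor with V(H) ≤ Z(H), and V(H) ≤ V(K) whenever Z(H) ≤ Z(K)). Say that W with V controls strong fusion in a subgroup L when some Sylow p-subgroup Q of L has the property: whenever X ⊆ Q and a ∈ L with a⁻¹Xa ⊆ Q, then a = c b with c ∈ C_L(X) and b = b₁ ⋯ bₙ a product of elements each in N_L(W(Q)) or in C_L(V(Q)) such that every partial conjugate (b₁ ⋯ bₖ)⁻¹ X (b₁ ⋯ bₖ) lies in Q. If W with V controls strong fusion in N_G(H) for every subgroup H with Z(P) ≤ H ≤ P, then W with V controls strong fusion in G. -/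
theorem result {G : Type*} [Group G] [Finite G] {p : ℕ} [Fact p.Prime] (hdiv : p ∣ Nat.card G) (P : Sylow p G) (W V : Subgroup G → Subgroup G) (hW : Cfsg.IsConjugacyFunctor p W) (hV : Cfsg.IsConjugacyFunctor p V) (hWZ : ∀ H : Subgroup G, IsPGroup p ↥H → H ⊓ Subgroup.centralizer ((H : Subgroup G) : Set G) ≤ W H) (hVZ : ∀ H : Subgroup G, IsPGroup p ↥H → V H ≤ H ⊓ Subgroup.centralizer ((H : Subgroup G) : Set G)) (hVmono : ∀ H K : Subgroup G, IsPGroup p ↥H → IsPGroup p ↥K → H ≠ ⊥ → K ≠ ⊥ → H ⊓ Subgroup.centralizer ((H : Subgroup G) : Set G) ≤ K ⊓ Subgroup.centralizer ((K : Subgroup G) : Set G) → V H ≤ V K) (hloc : ∀ H : Subgroup G, (P : Subgroup G) ⊓ Subgroup.centralizer (((P : Subgroup G) : Subgroup G) : Set G) ≤ H → H ≤ (P : Subgroup G) → ∃ Q : Subgroup G, Q ≤ Subgroup.normalizer ((H : Subgroup G) : Set G) ∧ IsPGroup p ↥Q ∧ ¬ p ∣ (Q).relIndex (Subgroup.normalizer ((H : Subgroup G) : Set G)) ∧ ∀ (X : Set G) (a : G), X ⊆ Q → a ∈ Subgroup.normalizer ((H : Subgroup G) : Set G) → (fun x => a⁻¹ * x * a) '' X ⊆ Q → ∃ c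 ∈ Subgroup.normalizer ((H : Subgroup G) : Set G) ⊓ Subgroup.centralizer X, ∃ (n : ℕ) (b : Fin n → G), (∀ i, b i ∈ Subgroup.normalizer ((H : Subgroup G) : Set G) ⊓ Subgroup.normalizer ((W Q : Subgroup G) : Set G) ∨ b i ∈ Subgroup.normalizer ((H : Subgroup G) : Set G) ⊓ Subgroup.centralizer ((V Q : Subgroup G) : Set G)) ∧ a = c * (List.ofFn b).prod ∧ ∀ k : ℕ, k ≤ n → (fun x => (((List.ofFn b).take k).prod)⁻¹ * x * ((List.ofFn b).take k).prod) '' ((fun x => c⁻¹ * x * c) '' X) ⊆ Q) : ∃ Q : Subgroup G, IsPGroup p ↥Q ∧ ¬ p ∣ Q.index ∧ ∀ (X : Set G) (a : G), X ⊆ Q → (fun x => a⁻¹ * x * a) '' X ⊆ Q → ∃ c ∈ Subgroup.centralizer X, ∃ (n : ℕ) (b : Fin n → G), (∀ i, b i ∈ ⊤ ⊓ Subgroup.normalizer ((W Q : Subgroup G) : Set G) ∨ b i ∈ ⊤ ⊓ Subgroup.centralizer ((V Q : Subgroup G) : Set G)) ∧ a = c * (List.ofFn b).prod ∧ ∀ k : ℕ, k ≤ n → (fun x => (((List.ofFn b).take k).prod)⁻¹ * x * ((List.ofFn b).take k).prod) '' ((fun x => c⁻¹ * x * c) '' X) ⊆ Q := by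
  have hPp := P.isPGroup'
  have hPne : (P : Subgroup G) ≠ ⊥ := by
    intro h
    have hcard : Nat.card (P : Subgroup G) = 1 := by rw [h]; exact Subgroup.card_bot
    have := P.card_eq_multiplicity
    rw [hcard] at this
    have hp : p ^ 1 ∣ Nat.card G := by simpa using hdiv
    have hfac : 1 ≤ (Nat.card G).factorization p :=
      (Nat.Prime.pow_dvd_iff_le_factorization (Fact.out : p.Prime) Nat.card_pos.ne').mp hp
    have hlt : 1 < p ^ (Nat.card G).factorization p :=
      Nat.one_lt_pow (by omega) (Fact.out : p.Prime).one_lt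
    omega
  refine ⟨P, hPp, P.not_dvd_index, ?_⟩
  intro X a hX hXa
  have hdec : ∀ U : Subgroup G, (P : Subgroup G) ⊓ Subgroup.centralizer ((P : Subgroup G) : Set G) ≤ U →
      U ≤ (P : Subgroup G) → ∃ Q : Subgroup G, Q ≤ Subgroup.normalizer (U : Set G) ∧ IsPGroup p Q ∧
        ¬ p ∣ Q.relIndex (Subgroup.normalizer (U : Set G)) ∧ LocalF W V U Q := by
    intro U hZU hUP
    obtain ⟨Q, h1, h2, h3, h4⟩ := hloc U hZU hUP
    refine ⟨Q, h1, h2, h3, ?_⟩
    intro Y b hY hb hYb
    obtain ⟨c, hc, n, bb, hbb, hprod, hsub⟩ := h4 Y b hY hb hYb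
    have hcY : rc c Y = Y := by
      have hcc := Subgroup.mem_centralizer_iff.mp hc.2
      ext x
      rw [mem_rc]
      constructor
      · intro hx
        have := hcc _ hx
        have e : x = c * x * c⁻¹ := by
          have : (c * x * c⁻¹) * c = c * (c * x * c⁻¹) := this
          have h5 : c * x = c * (c * x * c⁻¹) := by rw [← this]; group
          exact mul_left_cancel h5
        rw [e]; exact hx
      · intro hx
        have := hcc _ hx
        have e : c * x * c⁻¹ = x := by rw [← this]; group
        rw [e]; exact hx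
    have hch : Chain2 W V (Subgroup.normalizer (U : Set G)) Q Y (List.ofFn bb).prod := by
      apply Chain2.ofList
      · intro y hy
        obtain ⟨i, rfl⟩ := (List.mem_ofFn' _ _).mp hy
        exact hbb i
      · intro k hk
        rw [List.length_ofFn] at hk
        have := hsub k hk
        rw [← rc_def, ← rc_def, hcY] at this
        exact this
    refine ⟨_, hch, ?_⟩
    intro x hx
    rw [hprod]
    have hcc := Subgroup.mem_centralizer_iff.mp hc.2 x hx
    have e : c⁻¹ * x * c = x := by rw [mul_assoc, hcc]; group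
    calc (List.ofFn bb).prod⁻¹ * x * (List.ofFn bb).prod
        = (List.ofFn bb).prod⁻¹ * (c⁻¹ * x * c) * (List.ofFn bb).prod := by rw [e]
      _ = (c * (List.ofFn bb).prod)⁻¹ * x * (c * (List.ofFn bb).prod) := by group
  obtain ⟨a', hch, hact⟩ := main P W V hW hV hWZ hVmono hPne hdec _ X a hX hXa rfl
  obtain ⟨l, hmem, hprod, hsub⟩ := hch.toList hX
  have hc : a * a'⁻¹ ∈ Subgroup.centralizer X := by
    rw [Subgroup.mem_centralizer_iff]
    intro x hx
    have := hact x hx
    have e : a * a'⁻¹ * x * (a * a'⁻¹)⁻¹ = x := by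
      calc a * a'⁻¹ * x * (a * a'⁻¹)⁻¹ = a * (a'⁻¹ * x * a') * a⁻¹ := by group
        _ = a * (a⁻¹ * x * a) * a⁻¹ := by rw [this]
        _ = x := by group
    calc x * (a * a'⁻¹) = (a * a'⁻¹ * x * (a * a'⁻¹)⁻¹) * (a * a'⁻¹) := by rw [e]
      _ = a * a'⁻¹ * x := by group
  have hcX : rc (a * a'⁻¹) X = X := by
    have hcc := Subgroup.mem_centralizer_iff.mp hc
    ext x
    rw [mem_rc]
    constructor
    · intro hx
      have := hcc _ hx
      have e : x = (a * a'⁻¹) * x * (a * a'⁻¹)⁻¹ := by
        have h5 : (a * a'⁻¹) * x = (a * a'⁻¹) * ((a * a'⁻¹) * x * (a * a'⁻¹)⁻¹) := by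
          rw [← this]; group
        exact mul_left_cancel h5
      rw [e]; exact hx
    · intro hx
      have := hcc _ hx
      have e : (a * a'⁻¹) * x * (a * a'⁻¹)⁻¹ = x := by rw [← this]; group
      rw [e]; exact hx
  refine ⟨a * a'⁻¹, hc, l.length, fun i => l.get i, ?_, ?_, ?_⟩
  · intro i
    exact hmem _ (List.get_mem l i)
  · rw [List.ofFn_get, hprod]; group
  · intro k hk
    rw [List.ofFn_get, ← rc_def, ← rc_def, hcX]
    exact hsub k hk

end Cfsg.Agent.S2002
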