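import Cfsg.Statements.S2007
import Cfsg.Agent.Lib.Helper33.NormalPComp
import Cfsg.Agent.Lib.Helper33.Pair

set_option autoImplicit false
open Cfsg
open Cfsg.Agent.Lib.Helper33

namespace Cfsg.Agent.S2007

/-- Let p be a prime, G a finite group with Sylow p-subgroup S, and T a normal subgroup of S containing C_S(T). If N_G(T)/C_G(T) is a p-group (every element of N_G(T) of order prime to p centralizes T), then N_G(T) has a normal p-complement. -/
theorem result {G : Type*} [Group G] [Finite G] {p : ℕ} [Fact p.Prime] (S : Sylow p G) (T : Subgroup G) (hTS : T ≤ (S : Subgroup G)) (hTn : (S : Subgroup G) ≤ Subgroup.normalizer ((T : Subgroup G) : Set G)) (hC : (S : Subgroup G) ⊓ Subgroup.centralizer ((T : Subgroup G) : Set G) ≤ T) (hN : ∀ g ∈ Subgroup.normalizer ((T : Subgroup G) : Set G), (orderOf g).Coprime p → g ∈ Subgroup.centralizer ((T : Subgroup G) : Set G)) : Cfsg.HasNormalPComplement p ↥(Subgroup.normalizer ((T : Subgroup G) : Set G)) := by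
  obtain ⟨N, hNdef⟩ : ∃ N, N = Subgroup.normalizer ((T : Subgroup G) : Set G) := ⟨_, rfl⟩
  obtain ⟨C, hCdef⟩ : ∃ C, C = Subgroup.centralizer ((T : Subgroup G) : Set G) := ⟨_, rfl⟩
  rw [← hNdef] at hTn hN ⊢
  rw [← hCdef] at hC hN
  have hCN : C ≤ N := by
    intro c hc
    rw [hNdef, Subgroup.mem_normalizer_iff]
    intro h
    have hc' := Subgroup.mem_centralizer_iff.mp (hCdef ▸ hc)
    constructor
    · intro hh
      have := hc' h hh
      have e : c * h * c⁻¹ = h := by rw [← this]; group
      rw [e]; exact hh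
    · intro hh
      have := hc' _ hh
      have e : h = c * h * c⁻¹ := by
        have : c * (c * h * c⁻¹) = c * h := by rw [← this]; group
        have := mul_left_cancel this
        exact this.symm
      rw [e]; exact hh
  have hnorm : N ≤ Subgroup.normalizer (C : Set G) := by
    intro n hn
    rw [← cj_eq_self_iff, hCdef, ← centralizer_cj, cj_eq_self_iff.mpr (hNdef ▸ hn)]
  have hSi : ¬ p ∣ (S : Subgroup G).relIndex N := by
    intro hdvd
    exact S.not_dvd_index (dvd_trans hdvd (Subgroup.relIndex_dvd_index_of_le hTn))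
  -- every p-subgroup of C lies in T
  have hsub : ∀ Q : Subgroup G, Q ≤ C → IsPGroup p Q → Q ≤ T := by
    intro Q hQC hQp
    obtain ⟨c, hc, hle⟩ := sylow_sub hTn S.isPGroup' hSi (le_trans hQC hCN) hQp
    have h1 : cj c Q ≤ C := by
      have : cj c C = C := cj_eq_self_iff.mpr (hnorm hc)
      rw [← this]; exact cj_mono hQC
    have h2 : cj c Q ≤ T := le_trans (le_inf hle h1) hC
    have h3 : cj c T = T := cj_eq_self_iff.mpr (hNdef ▸ hc)
    rw [← h3] at h2
    exact cj_le_cj_iff.mp h2
  -- Burnside in C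
  obtain ⟨Q⟩ : Nonempty (Sylow p C) := inferInstance
  have hQT : (Q : Subgroup C).map C.subtype ≤ T :=
    hsub _ (by rintro _ ⟨y, _, rfl⟩; exact y.2) (Q.isPGroup'.map _)
  have hcent : Subgroup.normalizer ((Q : Subgroup C) : Set C) ≤ Subgroup.centralizer ((Q : Subgroup C) : Set C) := by
    intro c _
    rw [Subgroup.mem_centralizer_iff]
    intro q hq
    have hqT : (q : G) ∈ T := hQT ⟨q, hq, rfl⟩
    have hc2 : (c : G) ∈ Subgroup.centralizer ((T : Subgroup G) : Set G) := by
      rw [← hCdef]; exact c.2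
    have hc' := Subgroup.mem_centralizer_iff.mp hc2
    apply Subtype.ext
    simpa using hc' (q : G) hqT
  have hcompl := MonoidHom.ker_transferSylow_isComplement' Q hcent
  obtain ⟨K, hKdef⟩ : ∃ K, K = (MonoidHom.transferSylow Q hcent).ker := ⟨_, rfl⟩
  rw [← hKdef] at hcompl
  have hKn : K.Normal := by rw [hKdef]; infer_instance
  have hKcard : (Nat.card K).Coprime p := by
    rw [Nat.coprime_comm, Nat.Prime.coprime_iff_not_dvd Fact.out]
    rw [← hcompl.index_eq_card]
    exact Q.not_dvd_index
  obtain ⟨n, hn⟩ := IsPGroup.iff_card.mp Q.isPGroup'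
  have hKidx : K.index = p ^ n := by
    rw [hcompl.symm.index_eq_card]; exact hn
  have hKmem := mem_iff_coprime_of_normal_hall K hKcard hKidx
  -- the normal p-complement of N
  apply hasNormalPComplement_of_coprime_elements ((K.map C.subtype).subgroupOf N)
  intro x
  rw [Subgroup.mem_subgroupOf]
  constructor
  · rintro ⟨y, hy, hyx⟩
    have h1 := (hKmem y).mp hy
    have h2 : orderOf (x : G) = orderOf x := Subgroup.orderOf_coe x
    have h3 : orderOf (y : G) = orderOf y := Subgroup.orderOf_coe y
    have h4 : (C.subtype y : G) = (y : G) := rfl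
    rw [← h2, ← hyx, h4, h3]
    exact h1
  · intro hx
    have h2 : orderOf (x : G) = orderOf x := Subgroup.orderOf_coe x
    have hxC : (x : G) ∈ C := hN (x : G) x.2 (by rw [h2]; exact hx)
    refine ⟨⟨(x : G), hxC⟩, ?_, rfl⟩
    apply (hKmem _).mpr
    have h3 : orderOf ((⟨(x : G), hxC⟩ : C) : G) = orderOf (⟨(x : G), hxC⟩ : C) :=
      Subgroup.orderOf_coe _
    rw [← h3, h2]
    exact hx

end Cfsg.Agent.S2007
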