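import Cfsg.Statements.S2010
import Cfsg.Agent.Lib.Helper10.S4Free

set_option autoImplicit false
open Cfsg

namespace Cfsg.Agent.S2010

open Cfsg.Agent.Lib.Helper10
open scoped commutatorElement

/-- Let G be a finite solvable group with no section isomorphic to the symmetric group of degree 4, whose Sylow 2-subgroup S has nilpotency class at most 2. Then G = N_G(J_e(S)) · O_{2'}(G), where J_e(S) is the subgroup generated by the elementary abelian subgroups of S of largest order. -/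
theorem result {G : Type*} [Group G] [Finite G]
    [Group.IsSolvable G] (hS4 : ¬ Cfsg.Involves (Equiv.Perm (Fin 4)) G) (S : Sylow 2 G)
    (hcl : Subgroup.lowerCentralSeries (S : Subgroup G) 2 = ⊥) :
    Subgroup.normalizer ((Cfsg.thompsonSubgroupOf 2 (S : Subgroup G)) : Set G) ⊔ Cfsg.pPrimeCore 2 G = ⊤ := by
  haveI : Fact (Nat.Prime 2) := ⟨Nat.prime_two⟩
  have hN : (Nat.card (Cfsg.pPrimeCore 2 G)).Coprime 2 :=
    Cfsg.Agent.Lib.Helper30.pPrimeCore_card_coprime 2
  have hsurj := QuotientGroup.mk'_surjective (Cfsg.pPrimeCore 2 G)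
  have hS4q : ¬ Cfsg.Involves (Equiv.Perm (Fin 4)) (G ⧸ Cfsg.pPrimeCore 2 G) := fun h =>
    hS4 (Cfsg.Agent.Lib.Helper51.involves_of_surjective _ hsurj h)
  have hclq : Class2 ((S.mapSurjective hsurj : Sylow 2 (G ⧸ Cfsg.pPrimeCore 2 G)) :
      Subgroup (G ⧸ Cfsg.pPrimeCore 2 G)) := by
    have h0 := class2_of_lcs _ hcl
    rw [Sylow.coe_mapSurjective]
    rintro _ ⟨x, hx, rfl⟩ _ ⟨y, hy, rfl⟩ _ ⟨z, hz, rfl⟩
    rw [← map_commutatorElement, ← map_commutatorElement, h0 x hx y hy z hz, map_one]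
  have hmain := thompson_normal_aux _ (G ⧸ Cfsg.pPrimeCore 2 G) rfl inferInstance
    (Cfsg.Agent.Lib.Helper30.pPrimeCore_quotient_eq_bot 2) hS4q (S.mapSurjective hsurj) hclq
  have hinj : ∀ x ∈ (S : Subgroup G), QuotientGroup.mk' (Cfsg.pPrimeCore 2 G) x = 1 → x = 1 :=
    eq_one_of_mem_pgroup_of_mk_eq_one _ hN S.2
  rw [Sylow.coe_mapSurjective, ← map_thompsonSubgroupOf_of_injOn 2 hinj] at hmain
  have hJ2 : IsPGroup 2 (Cfsg.thompsonSubgroupOf 2 (S : Subgroup G)) :=
    S.2.to_le (thompsonSubgroupOf_le_self 2 _)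
  rw [eq_top_iff]
  intro g _
  obtain ⟨n, hn, hng⟩ := exists_mem_normalizer_mk_eq (Cfsg.pPrimeCore 2 G) hN hJ2
    (QuotientGroup.mk' _ g) (by rw [hmain]; exact Subgroup.mem_top _)
  have h1 : n⁻¹ * g ∈ Cfsg.pPrimeCore 2 G := by
    rw [← QuotientGroup.eq_one_iff, ← QuotientGroup.mk'_apply, map_mul, map_inv, hng]
    group
  have e : g = n * (n⁻¹ * g) := by group
  rw [e]
  exact Subgroup.mul_mem _ (Subgroup.mem_sup_left hn) (Subgroup.mem_sup_right h1)

end Cfsg.Agent.S2010
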