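import Cfsg.Statements.S2011
import Cfsg.Agent.Lib.Helper33.PPrimeCore
import Cfsg.Agent.Lib.Helper33.Pair
import Cfsg.Agent.Lib.Helper33.KInf

set_option autoImplicit false
open Cfsg
open Cfsg.Agent.Lib.Helper33

namespace Cfsg.Agent.S2011

variable {G : Type*} [Group G]

/-- Conjugacy in the fusion system of a group: conjugacy by an element, landing inside `S`. -/
theorem isConj_iff (S Q R : Subgroup G) :
    (Cfsg.groupFusionSystem S).IsConj Q R ↔ Q ≤ S ∧ ∃ g : G, cj g Q = R ∧ R ≤ S := by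
  constructor
  · rintro ⟨φ, ⟨hQS, hφS, g, hg⟩, hr⟩
    refine ⟨hQS, g, ?_, ?_⟩
    · ext y
      rw [mem_cj', ← hr, MonoidHom.mem_range]
      constructor
      · rintro ⟨h, hh, rfl⟩
        exact ⟨⟨h, hh⟩, hg ⟨h, hh⟩⟩
      · rintro ⟨x, rfl⟩
        exact ⟨x, x.2, (hg x).symm⟩
    · rw [← hr]
      rintro _ ⟨x, rfl⟩
      exact hφS x
  · rintro ⟨hQS, g, hgR, hRS⟩
    refine ⟨Cfsg.conjHom Q g, ⟨hQS, ?_, g, fun x => rfl⟩, ?_⟩
    · intro x
      apply hRS
      rw [← hgR]
      exact conj_mem_cj x.2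
    · ext y
      rw [← hgR, mem_cj', MonoidHom.mem_range]
      constructor
      · rintro ⟨x, rfl⟩
        exact ⟨x, x.2, rfl⟩
      · rintro ⟨h, hh, rfl⟩
        exact ⟨⟨h, hh⟩, rfl⟩

theorem pow_eq_one_of_mem {p : ℕ} {H : Subgroup G} (hH : IsPGroup p H) {x : G} (hx : x ∈ H) :
    ∃ k : ℕ, x ^ (p ^ k) = 1 := by
  obtain ⟨k, hk⟩ := hH ⟨x, hx⟩
  refine ⟨k, ?_⟩
  have := congrArg Subtype.val hk
  simpa using this

/-- Let G be a finite group with Sylow p-subgroup P and Q ≤ P. Then Q is centric in the fusion system of G on P (C_P(R) ≤ R for every G-conjugate R of Q lying in P) if and only if C_G(Q) is the internal direct product of Z(Q) = Q ∩ C_G(Q) and the largest normal subgroup of C_G(Q) of order prime to p. -/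
theorem result {G : Type*} [Group G] [Finite G] (p : ℕ) [Fact p.Prime] (P : Sylow p G) (Q : Subgroup G) (hQ : Q ≤ P) : (Cfsg.groupFusionSystem (P : Subgroup G)).IsCentric Q ↔ Cfsg.IsInternalDirectProduct (Q ⊓ Subgroup.centralizer (Q : Set G)) ((Cfsg.pPrimeCore p ↥(Subgroup.centralizer (Q : Set G))).map (Subgroup.centralizer (Q : Set G)).subtype) (Subgroup.centralizer (Q : Set G)) := by
  obtain ⟨C, hC⟩ : ∃ C, C = Subgroup.centralizer (Q : Set G) := ⟨_, rfl⟩
  rw [← hC]
  obtain ⟨K, hK⟩ : ∃ K, K = (Cfsg.pPrimeCore p ↥C).map C.subtype := ⟨_, rfl⟩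
  rw [← hK]
  have hp : p.Prime := Fact.out
  have hKC : K ≤ C := by
    rw [hK]; rintro _ ⟨y, _, rfl⟩; exact y.2
  have hKcard : (Nat.card K).Coprime p := by
    have h1 := pPrimeCore_card_coprime' (G := ↥C) p
    have h2 : Nat.card K = Nat.card (Cfsg.pPrimeCore p ↥C) := by
      rw [hK]
      exact Nat.card_congr ((Cfsg.pPrimeCore p ↥C).equivMapOfInjective C.subtype C.subtype_injective).symm.toEquiv
    rw [h2]; exact h1
  have hcomm : ∀ a ∈ Q ⊓ C, ∀ b ∈ K, a * b = b * a := by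
    intro a ha b hb
    have hb' : b ∈ Subgroup.centralizer (Q : Set G) := hC ▸ hKC hb
    exact Subgroup.mem_centralizer_iff.mp hb' a ha.1
  have hQp : IsPGroup p Q := P.isPGroup'.to_le hQ
  have hdisj : (Q ⊓ C) ⊓ K = ⊥ := by
    rw [eq_bot_iff]
    intro x hx
    obtain ⟨k, hk⟩ := pow_eq_one_of_mem hQp hx.1.1
    have h1 : orderOf x ∣ p ^ k := orderOf_dvd_of_pow_eq_one hk
    have h2 : orderOf x ∣ Nat.card K := Subgroup.orderOf_dvd_natCard K hx.2
    have h3 : orderOf x = 1 :=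
      Nat.Coprime.eq_one_of_dvd (Nat.Coprime.coprime_dvd_left h2 (Nat.Coprime.pow_right k hKcard)) h1
    rw [Subgroup.mem_bot]
    exact orderOf_eq_one_iff.mp h3
  constructor
  · rintro ⟨-, hcen⟩
    refine ⟨inf_le_right, hKC, hcomm, hdisj, ?_⟩
    obtain ⟨c, hcS, hfn, -⟩ := exists_fn_conj P Q hQ
    have hconj : (Cfsg.groupFusionSystem (P : Subgroup G)).IsConj Q (cj c Q) :=
      (isConj_iff _ _ _).mpr ⟨hQ, c, rfl, hcS⟩
    have h1 : (P : Subgroup G) ⊓ Subgroup.centralizer ((cj c Q : Subgroup G) : Set G) ≤ cj c Q :=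
      hcen _ hconj
    have hCN : Subgroup.centralizer ((cj c Q : Subgroup G) : Set G) ≤
        Subgroup.normalizer ((cj c Q : Subgroup G) : Set G) := Subgroup.centralizer_le_normalizer _
    have hnorm : Subgroup.normalizer ((cj c Q : Subgroup G) : Set G) ≤
        Subgroup.normalizer ((Subgroup.centralizer ((cj c Q : Subgroup G) : Set G) : Subgroup G) : Set G) := by
      intro n hn
      rw [← cj_eq_self_iff, ← centralizer_cj, cj_eq_self_iff.mpr hn]
    have hsyl := sylow_inf_normal (N := Subgroup.normalizer ((cj c Q : Subgroup G) : Set G))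
      (R := (P : Subgroup G) ⊓ Subgroup.normalizer ((cj c Q : Subgroup G) : Set G))
      (C := Subgroup.centralizer ((cj c Q : Subgroup G) : Set G)) inf_le_right
      (P.isPGroup'.to_le inf_le_left) hfn hCN hnorm
    have heq : ((P : Subgroup G) ⊓ Subgroup.normalizer ((cj c Q : Subgroup G) : Set G)) ⊓
        Subgroup.centralizer ((cj c Q : Subgroup G) : Set G) = cj c (Q ⊓ C) := by
      rw [cj_inf, hC, ← centralizer_cj]
      apply le_antisymm
      · intro x hx
        exact ⟨h1 ⟨hx.1.1, hx.2⟩, hx.2⟩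
      · intro x hx
        exact ⟨⟨hcS hx.1, hCN hx.2⟩, hx.2⟩
    rw [heq, centralizer_cj, ← hC, relIndex_cj] at hsyl
    -- Z is a Sylow subgroup of C
    have hZp : IsPGroup p ((Q ⊓ C).subgroupOf C) := (hQp.to_le inf_le_left).comap_subtype
    let Zs : Sylow p C := hZp.toSylow hsyl
    have hZs : (Zs : Subgroup C) = (Q ⊓ C).subgroupOf C := IsPGroup.toSylow_coe hZp hsyl
    have hcent : Subgroup.normalizer ((Zs : Subgroup C) : Set C) ≤
        Subgroup.centralizer ((Zs : Subgroup C) : Set C) := by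
      intro x _
      rw [Subgroup.mem_centralizer_iff]
      intro z hz0
      have hz : z ∈ (Zs : Subgroup C) := hz0
      rw [hZs, Subgroup.mem_subgroupOf] at hz
      have hx' : (x : G) ∈ Subgroup.centralizer (Q : Set G) := hC ▸ x.2
      apply Subtype.ext
      simpa using Subgroup.mem_centralizer_iff.mp hx' (z : G) hz.1
    have hcompl := pPrimeCore_isComplement'' Zs hcent
    have hsup := hcompl.sup_eq_top
    have hmap := congrArg (Subgroup.map C.subtype) hsup
    rw [Subgroup.map_sup, ← hK, hZs, Subgroup.subgroupOf_map_subtype, ← MonoidHom.range_eq_map,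
      Subgroup.range_subtype, inf_assoc, inf_idem, sup_comm] at hmap
    exact hmap
  · rintro ⟨-, -, -, -, hsup⟩
    refine ⟨hQ, ?_⟩
    intro R hR
    obtain ⟨-, g, rfl, hRS⟩ := (isConj_iff _ _ _).mp hR
    intro x hx
    have hx1 : x ∈ (P : Subgroup G) := hx.1
    have hx2 : x ∈ Subgroup.centralizer ((cj g Q : Subgroup G) : Set G) := hx.2
    rw [centralizer_cj, ← hC, mem_cj] at hx2
    rw [mem_cj]
    obtain ⟨w, hw⟩ : ∃ w, w = g⁻¹ * x * g := ⟨_, rfl⟩
    rw [← hw] at hx2 ⊢
    have hKcent : K ≤ Subgroup.centralizer ((Q ⊓ C : Subgroup G) : Set G) := by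
      intro b hb
      rw [Subgroup.mem_centralizer_iff]
      intro a ha
      exact hcomm a ha b hb
    rw [← hsup] at hx2
    obtain ⟨z, hz, k, hk, hwzk⟩ := ext_mem hKcent hx2
    -- w is a p-element
    obtain ⟨a, ha⟩ := pow_eq_one_of_mem P.isPGroup' hx1
    have hwa : w ^ (p ^ a) = 1 := by
      have e : w = g⁻¹ * x * (g⁻¹)⁻¹ := by rw [hw, inv_inv]
      rw [e, conj_pow, ha]; group
    obtain ⟨b, hb⟩ := pow_eq_one_of_mem hQp hz.1
    have hzw : Commute z w := by
      have hwC : w ∈ Subgroup.centralizer (Q : Set G) := by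
        rw [← hC, hwzk]
        exact mul_mem hz.2 (hKC hk)
      exact (Subgroup.mem_centralizer_iff.mp hwC z hz.1)
    have hkeq : k = z⁻¹ * w := by rw [hwzk]; group
    have hz' : z ^ (p ^ (a + b)) = 1 := by rw [pow_add, mul_comm, pow_mul, hb, one_pow]
    have hw' : w ^ (p ^ (a + b)) = 1 := by rw [pow_add, pow_mul, hwa, one_pow]
    have hkpow : k ^ (p ^ (a + b)) = 1 := by
      rw [hkeq, (hzw.inv_left).mul_pow, inv_pow, hz', hw']
      simp
    have h1 : orderOf k ∣ p ^ (a + b) := orderOf_dvd_of_pow_eq_one hkpow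
    have h2 : orderOf k ∣ Nat.card K := Subgroup.orderOf_dvd_natCard K hk
    have h3 : orderOf k = 1 :=
      Nat.Coprime.eq_one_of_dvd (Nat.Coprime.coprime_dvd_left h2 (Nat.Coprime.pow_right _ hKcard)) h1
    have hk1 : k = 1 := orderOf_eq_one_iff.mp h3
    rw [hwzk, hk1, mul_one]
    exact hz.1

end Cfsg.Agent.S2011
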