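import Cfsg.Statements.S2014

set_option autoImplicit false
open Cfsg
open scoped Pointwise

namespace Cfsg.Agent.S2014

variable {N : Type*} [Group N]

lemma pResidual_normal (p : ℕ) : (Cfsg.pResidual p N).Normal := by
  constructor
  intro n hn g
  unfold Cfsg.pResidual at hn ⊢
  induction hn using Subgroup.closure_induction with
  | mem x hx =>
    apply Subgroup.subset_closure
    show Nat.Coprime (orderOf (g * x * g⁻¹)) p
    have : orderOf (g * x * g⁻¹) = orderOf x := by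
      have := orderOf_injective (MulAut.conj g).toMonoidHom (MulAut.conj g).injective x
      simpa using this
    rw [this]; exact hx
  | one => simp
  | mul x y _ _ hx hy =>
    have : g * (x * y) * g⁻¹ = (g * x * g⁻¹) * (g * y * g⁻¹) := by group
    rw [this]; exact Subgroup.mul_mem _ hx hy
  | inv x _ hx =>
    have : g * x⁻¹ * g⁻¹ = (g * x * g⁻¹)⁻¹ := by group
    rw [this]; exact Subgroup.inv_mem _ hx

lemma pow_mem_pResidual [Finite N] (p : ℕ) [Fact p.Prime] (x : N) :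
    ∃ k : ℕ, x ^ (p ^ k) ∈ Cfsg.pResidual p N := by
  have hp : p.Prime := Fact.out
  have hpos : 0 < orderOf x := orderOf_pos x
  obtain ⟨k, m, hm, hkm⟩ := Nat.exists_eq_pow_mul_and_not_dvd hpos.ne' p hp.ne_one
  refine ⟨k, Subgroup.subset_closure ?_⟩
  show Nat.Coprime (orderOf (x ^ (p ^ k))) p
  have h1 : orderOf (x ^ (p ^ k)) = m := by
    rw [orderOf_pow' x (pow_ne_zero k hp.ne_zero), hkm, Nat.gcd_eq_right (dvd_mul_right _ _)]
    exact Nat.mul_div_cancel_left m (pow_pos hp.pos k)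
  rw [h1]
  exact (Nat.Coprime.symm ((Nat.Prime.coprime_iff_not_dvd hp).2 hm))

instance pResidualNormalInst (p : ℕ) : (Cfsg.pResidual p N).Normal := pResidual_normal p

lemma isPGroup_quotient [Finite N] (p : ℕ) [Fact p.Prime] :
    IsPGroup p (N ⧸ Cfsg.pResidual p N) := by
  intro q
  induction q using QuotientGroup.induction_on with
  | H x =>
    obtain ⟨k, hk⟩ := pow_mem_pResidual p x
    refine ⟨k, ?_⟩
    rw [← QuotientGroup.mk_pow]
    exact (QuotientGroup.eq_one_iff _).2 hk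

lemma index_pow_of_le [Finite N] (p : ℕ) [Fact p.Prime] (K : Subgroup N)
    (hle : Cfsg.pResidual p N ≤ K) : ∃ n, K.index = p ^ n := by
  obtain ⟨n, hn⟩ :=
    (isPGroup_quotient (N := N) p).index (K.map (QuotientGroup.mk' (Cfsg.pResidual p N)))
  refine ⟨n, ?_⟩
  have h := Subgroup.index_map_eq (H := K) (f := QuotientGroup.mk' (Cfsg.pResidual p N))
    (QuotientGroup.mk'_surjective _) (by rw [QuotientGroup.ker_mk']; exact hle)
  rw [← h]; exact hn

lemma sylow_sup_pResidual [Finite N] (p : ℕ) [Fact p.Prime] (S : Subgroup N)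
    (hS : ¬ p ∣ S.index) : S ⊔ Cfsg.pResidual p N = ⊤ := by
  have hp : p.Prime := Fact.out
  have h1 : ¬ p ∣ (S ⊔ Cfsg.pResidual p N).index :=
    fun h => hS (dvd_trans h (Subgroup.index_dvd_of_le le_sup_left))
  obtain ⟨n, hn⟩ := index_pow_of_le p (S ⊔ Cfsg.pResidual p N) le_sup_right
  rcases Nat.eq_zero_or_pos n with h0 | hpos
  · rw [h0, pow_zero] at hn
    exact Subgroup.index_eq_one.1 hn
  · exfalso; apply h1; rw [hn]; exact dvd_pow_self p hpos.ne'


lemma exists_mul_of_sup_eq_top [Finite N] (p : ℕ) [Fact p.Prime] (S : Subgroup N)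
    (hS : ¬ p ∣ S.index) (n : N) : ∃ u ∈ S, ∃ s ∈ Cfsg.pResidual p N, n = u * s := by
  have h := sylow_sup_pResidual p S hS
  have hn : n ∈ ((S ⊔ Cfsg.pResidual p N : Subgroup N) : Set N) := by rw [h]; trivial
  rw [Subgroup.mul_normal] at hn
  obtain ⟨u, hu, s, hs, rfl⟩ := Set.mem_mul.1 hn
  exact ⟨u, hu, s, hs, rfl⟩

theorem result {G : Type*} [Group G] [Finite G] (p : ℕ) [Fact p.Prime] (P : Sylow p G) (A C : Subgroup G) (hA : A ≤ P) (hC : C ≤ P) (hext : ¬ p ∣ ((P : Subgroup G) ⊓ Subgroup.normalizer ((C : Subgroup G) : Set G)).relIndex (Subgroup.normalizer ((C : Subgroup G) : Set G))) (h : G) (hh : A.map (MulAut.conj h).toMonoidHom = C) : ∃ g : G, A.map (MulAut.conj g).toMonoidHom = C ∧ ((P : Subgroup G) ⊓ Subgroup.normalizer ((A : Subgroup G) : Set G)).map (MulAut.conj g).toMonoidHom ≤ (P : Subgroup G) ⊓ Subgroup.normalizer ((C : Subgroup G) : Set G) ∧ h * g⁻¹ ∈ (Cfsg.pResidual p ↥(Subgroup.normalizer ((C : Subgroup G) : Set G))).map (Subgroup.normalizer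 ((C : Subgroup G) : Set G)).subtype := by
  classical
  set NC := Subgroup.normalizer ((C : Subgroup G) : Set G) with hNC
  set NA := Subgroup.normalizer ((A : Subgroup G) : Set G) with hNA
  -- S : the subgroup N_P(C) inside N_G(C)
  set S : Subgroup NC := ((P : Subgroup G) ⊓ NC).subgroupOf NC with hSdef
  have hSidx : ¬ p ∣ S.index := hext
  have hSp : IsPGroup p S := by
    have h1 : IsPGroup p ((P : Subgroup G) ⊓ NC : Subgroup G) := P.isPGroup'.to_le inf_le_left
    exact h1.comap_subtype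
  let SS : Sylow p NC := hSp.toSylow hSidx
  -- key fact: conj by h maps N_G(A) into N_G(C)
  have hmemC : ∀ x : G, x ∈ C ↔ h⁻¹ * x * h ∈ A := by
    intro x
    rw [← hh]
    constructor
    · rintro ⟨a, ha, rfl⟩
      simp only [MulEquiv.coe_toMonoidHom, MulAut.conj_apply]
      have : h⁻¹ * (h * a * h⁻¹) * h = a := by group
      rw [this]; exact ha
    · intro hx
      refine ⟨h⁻¹ * x * h, hx, ?_⟩
      simp only [MulEquiv.coe_toMonoidHom, MulAut.conj_apply]
      group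
  have hnorm : ∀ y ∈ NA, h * y * h⁻¹ ∈ NC := by
    intro y hy
    rw [hNC, Subgroup.mem_normalizer_iff]
    intro x
    rw [hmemC, hmemC (h * y * h⁻¹ * x * (h * y * h⁻¹)⁻¹)]
    have hy' := (Subgroup.mem_normalizer_iff.1 hy) (h⁻¹ * x * h)
    rw [hy']
    have : h⁻¹ * (h * y * h⁻¹ * x * (h * y * h⁻¹)⁻¹) * h = y * (h⁻¹ * x * h) * y⁻¹ := by group
    rw [this]
  -- X : the image of N_P(A) in N_G(C)
  let f : ↥((P : Subgroup G) ⊓ NA) → NC := fun y => ⟨h * y * h⁻¹, hnorm y y.2.2⟩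
  set X : Subgroup NC := (((P : Subgroup G) ⊓ NA).map (MulAut.conj h).toMonoidHom).subgroupOf NC with hX
  have hXp : IsPGroup p X := by
    have h1 : IsPGroup p ((P : Subgroup G) ⊓ NA : Subgroup G) := P.isPGroup'.to_le inf_le_left
    have h2 : IsPGroup p (((P : Subgroup G) ⊓ NA).map (MulAut.conj h).toMonoidHom) := h1.map _
    exact h2.comap_subtype
  obtain ⟨Q, hQ⟩ := hXp.exists_le_sylow
  obtain ⟨n, hn⟩ := MulAction.exists_smul_eq NC Q SS
  obtain ⟨u, hu, s, hs, hnus⟩ := exists_mul_of_sup_eq_top p S hSidx n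
  -- s • X ≤ S
  have hsX : ∀ x ∈ X, s * x * s⁻¹ ∈ S := by
    intro x hx
    have hxQ : x ∈ Q := hQ hx
    have h1 : n * x * n⁻¹ ∈ SS := by
      rw [← hn]
      have : n * x * n⁻¹ ∈ MulAut.conj n • (Q : Subgroup NC) :=
        ⟨x, hxQ, by simp [MulAut.smul_def, MulAut.conj_apply]⟩
      exact this
    have h2 : n * x * n⁻¹ ∈ S := h1
    have h3 : u⁻¹ * (n * x * n⁻¹) * u ∈ S :=
      S.mul_mem (S.mul_mem (S.inv_mem hu) h2) hu
    have : u⁻¹ * (n * x * n⁻¹) * u = s * x * s⁻¹ := by rw [hnus]; group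
    rw [← this]; exact h3
  refine ⟨(s : G) * h, ?_, ?_, ?_⟩
  · -- A.map (conj (s*h)) = C
    ext x
    constructor
    · rintro ⟨a, ha, rfl⟩
      simp only [MulEquiv.coe_toMonoidHom, MulAut.conj_apply]
      have hc : h * a * h⁻¹ ∈ C := by
        rw [← hh]; exact ⟨a, ha, by simp [MulAut.conj_apply]⟩
      have hsN := (Subgroup.mem_normalizer_iff.1 s.2) (h * a * h⁻¹)
      have := hsN.1 hc
      have e : (s : G) * h * a * ((s : G) * h)⁻¹ = (s : G) * (h * a * h⁻¹) * (s : G)⁻¹ := by group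
      rw [e]; exact this
    · intro hx
      have hsN := (Subgroup.mem_normalizer_iff.1 (NC.inv_mem s.2)) x
      have hx' : (s : G)⁻¹ * x * ((s : G)⁻¹)⁻¹ ∈ C := hsN.1 hx
      have hx'' := (hmemC _).1 hx'
      refine ⟨_, hx'', ?_⟩
      simp only [MulEquiv.coe_toMonoidHom, MulAut.conj_apply]
      group
  · rintro _ ⟨y, hy, rfl⟩
    simp only [MulEquiv.coe_toMonoidHom, MulAut.conj_apply]
    have hyN : h * y * h⁻¹ ∈ NC := hnorm y hy.2
    have hxX : (⟨h * y * h⁻¹, hyN⟩ : NC) ∈ X := by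
      rw [hX, Subgroup.mem_subgroupOf]
      exact ⟨y, hy, by simp [MulAut.conj_apply]⟩
    have := hsX _ hxX
    rw [hSdef, Subgroup.mem_subgroupOf] at this
    have e : (s : G) * h * y * ((s : G) * h)⁻¹ = (s : G) * (h * y * h⁻¹) * (s : G)⁻¹ := by group
    rw [e]
    simpa using this
  · refine ⟨s⁻¹, (Cfsg.pResidual p NC).inv_mem hs, ?_⟩
    simp only [Subgroup.coe_subtype, InvMemClass.coe_inv]
    group

end Cfsg.Agent.S2014
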