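import Cfsg.Statements.S2015
import Cfsg.Agent.Lib.Helper33.KInfTransfer
import Cfsg.Agent.Lib.Helper33.KInfChar
import Cfsg.Agent.S1978

set_option autoImplicit false
universe u
open Cfsg

namespace Cfsg.Agent.S2015

/-- For p ≥ 5, every finite p-group P has a characteristic subgroup K containing Z(P), depending only on P, whose normalizer controls transfer wherever P is a Sylow subgroup: for every finite group G and every embedding ι of P onto a Sylow p-subgroup of G, the intersection of ι(P) with the derived subgroup of G equals its intersection with the derived subgroup of N_G(ι(K)). -/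
theorem result (p : ℕ) [Fact p.Prime] (hp : 5 ≤ p) (P : Type u) [Group P] [Finite P] (hP : IsPGroup p P) : ∃ K : Subgroup P, K.Characteristic ∧ Subgroup.center P ≤ K ∧ ∀ (G : Type u) [Group G] [Finite G] (ι : P →* G), Function.Injective ι → (∃ T : Sylow p G, (T : Subgroup G) = ι.range) → ι.range ⊓ commutator G = ι.range ⊓ (commutator ↥(Subgroup.normalizer ((K.map ι : Subgroup G) : Set G))).map (Subgroup.normalizer ((K.map ι : Subgroup G) : Set G)).subtype := by
  have hWc := Cfsg.Agent.Lib.Helper33.isCharPFunctor_kInfLower.{u} p
  refine ⟨Cfsg.kInfLower P, ?_, ?_, ?_⟩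
  · rw [Subgroup.characteristic_iff_map_eq]
    intro φ
    exact Cfsg.Agent.Lib.Helper33.map_kInfLower φ
  · have h := Cfsg.Agent.S1978.result hP
    exact h.2.1.trans h.1
  · intro G _ _ ι hinj hT
    obtain ⟨T, hT⟩ := hT
    -- identify `K.map ι` with the induced functor on the Sylow subgroup
    have hKmap : (Cfsg.kInfLower P).map ι =
        Cfsg.inducedFunctor (G := G) Cfsg.kInfLower ι.range := by
      have h1 := Cfsg.Agent.Lib.Helper33.map_kInfLower (MonoidHom.ofInjective hinj)
      unfold Cfsg.inducedFunctor
      rw [← h1, Subgroup.map_map]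
      rfl
    rw [hKmap, ← hT]
    obtain ⟨N, hN⟩ : ∃ N : Subgroup G, N = Subgroup.normalizer
        ((Cfsg.inducedFunctor (G := G) Cfsg.kInfLower (T : Subgroup G) : Subgroup G) : Set G) :=
      ⟨_, rfl⟩
    rw [← hN, Subgroup.map_subtype_commutator, commutator_def]
    apply le_antisymm
    · refine le_inf inf_le_left ?_
      have := Cfsg.Agent.Lib.Helper33.kinf_focal_le hp Cfsg.kInfLower hWc
        (Or.inl (fun _ _ => rfl)) T
      rw [hN]; exact this
    · exact inf_le_inf_left _ (Subgroup.commutator_mono le_top le_top)

end Cfsg.Agent.S2015
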