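import Cfsg.Statements.S2060
import Cfsg.Agent.S1603

set_option autoImplicit false
set_option maxRecDepth 1000000
open scoped Pointwise
open Cfsg

namespace Cfsg.Agent.S2060

open Cfsg.Agent.Lib.Helper93.Golay
open Cfsg.Agent.S5522 (Dm K mem_K okU U1 U2 U3 U4 fOf ptIdx_inj sqD_eq)
open Cfsg.Agent.S1602 (enum mem_of_ok K_M24 K1_fix mem_K1)
open Cfsg.Agent.S1603 (t0c t0 t0_mem t0_perm TbN TbN_ok TbN_comm TbN_facts C0 mem_C0 conj_to_t0
  permC_ext permC_mul_eq commT)

/-! ### data -/

def bc : ℕ := 316012824521796599597285371698885120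

def prog : List (ℕ × ℕ × ℕ) := [(984818244535754528103549039458486304, 0, 0), (435431853030116071701955655020974336, 0, 1), (853706082159243869001526190044924160, 1, 3), (630443648067612166917968708617438272, 1, 1), (445829796381497103579066533657712896, 5, 3), (319750342532624749423232558126215680, 1, 0), (859961141863382422251363214374783232, 7, 7), (736310199397437600530994341478671744, 6, 8), (234068757277656739370983249329327488, 8, 6), (932246376160355924812016882080325728, 9, 10), (719923664328491199848526586197411872, 4, 11), (713066433116982511623559515870544256, 5, 7), (588933407131972638320376263439954976, 13, 8), (978320980801228321302614373466121248, 13, 6), (608405391266436187982588441666881568, 14, 15), (895209394958171841616245054578406912, 3, 3), (715872302521680643580706198532491296, 17, 11), (429964962518238453675404974378848512, 0, 7), (222394844417906817859796131464528256, 7, 5), (441937663389981686975889793075255872, 20, 17), (809578383745993820496847424931136576, 3, 7), (731396976733971020812896557090740352, 22, 6), (638314252217629004313164677474721920,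 21, 23), (227578386318009578406903204956702752, 19, 24), (609271311764373893382231684089481248, 0, 16), (232652365823391711183829569059784736, 7, 24), (230340005468152813960360452455580032, 1, 22), (901329529285529349204515615102212480, 8, 8), (609209549762423675575295134480646432, 29, 9), (891440084380668137666183104591693856, 28, 30), (811512816499213602961386604767512992, 8, 20), (735287237852594145582166430117568640, 3, 5), (818627408544652697813508588207030368, 33, 33), (851158417637645332395188236285200512, 22, 8), (983560180527281861326204193106037024, 34, 35), (796422664143520048046740322637776928, 32, 36), (844547548248873922688779824111559808, 17, 17), (609094114966187029175732588539686976, 17, 6), (232973205462285238726754131061704992, 38, 39), (944293816565412651426207388111472672, 32, 40), (721012650139942722879616057708069248, 1, 5), (638235657964953513186945395201450080, 42, 33), (637932114943455704973404012463558912, 17, 20), (606499444544697490857426654286989344, 33, 17), (860190118960259130829390327343859968, 44, 45), (970531819526550031117983620406741024,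 43, 46), (230336325110949640518850837152866432, 3, 22), (849887890532701421127722391426172960, 48, 30), (890947590010432941187409547018813824, 29, 15), (609718671646466476278175549440296992, 1, 50), (596112894975443486409896513224708160, 20, 8), (233233386906768391987032901617288256, 6, 20), (936853583181350467501841925370545728, 53, 32), (487373122709212905255923294881187872, 52, 54), (610310670708865460251733381194724416, 7, 8), (796591051253624027346865353625175328, 15, 53), (313063593285160742836699179059316768, 56, 57), (611805698714669823967274900254110784, 1, 17), (315648100937525966649248598502508960, 8, 13), (652065179429036659602969087028906176, 45, 60), (321483090699936189506869915383172128, 59, 61), (482221301815223538586095926774014528, 7, 20), (798739240924858322041195841689170432, 20, 22), (844526223591158406837359141827159616, 29, 64), (879514179754306950165210557261090848, 63, 65), (936547366057936493795532570646235392, 20, 20), (882185230832763819719100933467157600, 67, 38), (879251748842355380549308341792708640, 4, 68), (944536175654686977501903164283339168,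 17, 22), (861253990738060261800655652934725728, 70, 29), (817435223784192840973166532989493280, 17, 71), (642190945047453656128627176646386720, 8, 68), (479623986318016222713448381946146848, 4, 34), (929000492124499343650182431580424224, 3, 20), (430370195947584523075450053627953440, 22, 13), (305622300574010086570291784952596512, 38, 76), (445827142324397823627656522285331488, 75, 77), (230061244715740052637335603684909440, 32, 29), (944496878599615485569661386094854176, 3, 79), (845928014986720888753639071069341984, 20, 33), (632635547676099600984336433160657408, 29, 81), (305836715770772511039021970292623392, 6, 82), (887381695827208170534329762942334464, 0, 8), (923520632230444861503623850004422848, 6, 22), (653757326506496066057805927914025376, 6, 33), (984636601203277231118416786331406848, 85, 86), (887009555117204413935570759566565440, 84, 87), (892595507120919495901095101779248416, 9, 52), (902794830342841484627494338651267168, 4, 89), (317320009485581339639053918939684960, 35, 9), (636938258350922752827616327369007232, 1, 91), (648577877646963035524603217455940672,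 1, 7), (941806856725036308017142870296283328, 93, 10), (234518671885891925801532173070110080, 35, 86), (932442706952251022640956564530869504, 20, 95), (321214232462804316337251119320540672, 0, 6), (886117841879873698584667861376092544, 6, 6), (424942762087689257937405881162698816, 98, 67), (859955434193468403745609404209580320, 97, 99), (940096780664668343252253077779193920, 10, 34), (932843205313912150989052845949749632, 7, 101), (607913932247698424048789166087344192, 4, 6), (486351209893411342769284431632144672, 10, 23), (483296192500053595972850637097936288, 103, 104), (726201025051013036091247686577300864, 93, 6), (648699442692471300625278464218669152, 13, 13), (734330466351947022443742560843483424, 70, 107), (475713272887561028021643743209918976, 106, 108), (442934162073193773669817737269022272, 103, 98)]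


theorem bc_ok : okU [bc] 1 = true := by decide +kernel

/-- `R = S ∘ T` on indices -/
def compOK (R S T : ℕ) : Bool :=
  (List.range 24).all fun k => Nat.beq (papp R k) (papp S (papp T k))

/-- run a straight-line program of products, returning all codes produced (nothing on failure) -/
def slpRun : List ℕ → List (ℕ × ℕ × ℕ) → List ℕ
  | known, [] => known
  | known, (R, i, j) :: rest =>
    if isPerm R && compOK R (known.getD i 0) (known.getD j 0) && Nat.blt i known.length &&
        Nat.blt j known.length then
      slpRun (known ++ [R]) rest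
    else []

def slpCover : Bool :=
  (U1 ++ U2 ++ U3 ++ U4).all fun S => (slpRun [t0c, bc] prog).any fun T => Nat.beq T S

theorem slp_cover : slpCover = true := by decide +kernel

/-- the word `a b a b² a b³` on indices -/
def wordF (f : ℕ → ℕ) (i : ℕ) : ℕ :=
  papp t0c (f (papp t0c (f (f (papp t0c (f (f (f i))))))))

def bCond (f : ℕ → ℕ) : Bool :=
  (List.range 24).all (fun i => Nat.beq (f^[4] i) i) &&
  (List.range 24).any (fun i => !(Nat.beq (f^[2] i) i)) &&
  (List.range 24).all (fun i => Nat.beq ((fun k => papp t0c (f k))^[11] i) i) &&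
  (List.range 24).all (fun i => Nat.beq ((wordF f)^[3] i) i)

def bGood (S1 S2 S3 S4 : ℕ) : Bool :=
  !(bCond (fOf S1 S2 S3 S4)) ||
    TbN.any fun c => (List.range 24).all fun i =>
      Nat.beq (papp c (fOf S1 S2 S3 S4 i)) (papp bc (papp c i))

theorem allB : U1.all (fun a => U2.all (fun b => U3.all (fun c => U4.all (fun d =>
    bGood a b c d)))) = true := by decide +kernel

theorem bc_cond : bCond (papp bc) = true := by decide +kernel

/-! ### index functions of permutations -/

def IdxFun (g : Equiv.Perm GolayPt) (f : ℕ → ℕ) : Prop :=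
  ∀ p : GolayPt, ((ptIdx (g p) : Fin 24) : ℕ) = f (ptIdx p)

theorem IdxFun.mul {g1 g2 : Equiv.Perm GolayPt} {f1 f2 : ℕ → ℕ} (h1 : IdxFun g1 f1)
    (h2 : IdxFun g2 f2) : IdxFun (g1 * g2) (fun i => f1 (f2 i)) := by
  intro p
  rw [Equiv.Perm.mul_apply, h1, h2]

theorem IdxFun.pow {g : Equiv.Perm GolayPt} {f : ℕ → ℕ} (h : IdxFun g f) (n : ℕ) :
    IdxFun (g ^ n) (f^[n]) := fun p => Cfsg.Agent.S5522.ptIdx_iterate h n p

theorem IdxFun.permC {S : ℕ} (hS : isPerm S = true) : IdxFun (permC S) (papp S) :=
  fun p => ptIdx_permC hS p

theorem IdxFun.eq_one_iff {g : Equiv.Perm GolayPt} {f : ℕ → ℕ} (h : IdxFun g f) :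
    g = 1 ↔ (List.range 24).all (fun i => Nat.beq (f i) i) = true := by
  rw [List.all_eq_true]
  constructor
  · intro hg i hi
    have hi24 : i < 24 := List.mem_range.1 hi
    have := h (P i hi24)
    rw [hg, ptIdx_P] at this
    simp only [Equiv.Perm.coe_one, id_eq, ptIdx_P] at this
    rw [← this]
    exact Nat.beq_refl _
  · intro hf
    apply Equiv.ext
    intro p
    apply ptIdx_inj
    rw [h]
    exact Nat.eq_of_beq_eq_true (hf _ (List.mem_range.2 (ptIdx p).isLt))

theorem IdxFun.ne_one_iff {g : Equiv.Perm GolayPt} {f : ℕ → ℕ} (h : IdxFun g f) :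
    g ≠ 1 ↔ (List.range 24).any (fun i => !(Nat.beq (f i) i)) = true := by
  rw [ne_eq, h.eq_one_iff, List.all_eq_true, List.any_eq_true]
  constructor
  · intro hn
    by_contra hno
    apply hn
    intro i hi
    by_contra hb
    apply hno
    refine ⟨i, hi, ?_⟩
    rw [Bool.not_eq_true', ← Bool.not_eq_true]
    exact hb
  · rintro ⟨i, hi, hb⟩ hall
    rw [hall i hi] at hb
    simp at hb

/-! ### the conditions on the second generator -/

section Generic
variable {G H : Type*} [Group G] [Group H]

def wordG (a b : G) : G := a * (b * (a * (b * (b * (a * (b * (b * b)))))))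

def BC (a b : G) : Prop := b ^ 4 = 1 ∧ b ^ 2 ≠ 1 ∧ (a * b) ^ 11 = 1 ∧ (wordG a b) ^ 3 = 1

theorem map_wordG (φ : G →* H) (a b : G) : φ (wordG a b) = wordG (φ a) (φ b) := by
  simp only [wordG, map_mul]

theorem BC_map_iff (φ : G →* H) (hinj : Function.Injective φ) (a b : G) :
    BC (φ a) (φ b) ↔ BC a b := by
  unfold BC
  rw [← map_wordG, ← map_mul, ← map_pow, ← map_pow, ← map_pow, ← map_pow, ← map_one φ,
    hinj.eq_iff, hinj.ne_iff, hinj.eq_iff, hinj.eq_iff]

end Generic

theorem BC_iff {b : Equiv.Perm GolayPt} {f : ℕ → ℕ} (h : IdxFun b f) :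
    BC t0 b ↔ bCond f = true := by
  have ha : IdxFun t0 (papp t0c) := IdxFun.permC t0_perm
  unfold BC bCond
  rw [Bool.and_eq_true, Bool.and_eq_true, Bool.and_eq_true]
  rw [(h.pow 4).eq_one_iff, (h.pow 2).ne_one_iff, ((ha.mul h).pow 11).eq_one_iff]
  have hw : IdxFun (wordG t0 b) (wordF f) := by
    unfold wordG
    exact ha.mul (h.mul (ha.mul (h.mul (h.mul (ha.mul (h.mul (h.mul h)))))))
  rw [(hw.pow 3).eq_one_iff]
  tauto

/-! ### soundness of straight-line programs -/

theorem slp_sound (Pr : ℕ → Prop)
    (hmul : ∀ R S T, Pr S → Pr T → isPerm R = true → compOK R S T = true → Pr R) :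
    ∀ (pr : List (ℕ × ℕ × ℕ)) (known : List ℕ), (∀ S ∈ known, Pr S) →
      ∀ S ∈ slpRun known pr, Pr S := by
  intro pr
  induction pr with
  | nil =>
    intro known h S hS
    exact h S hS
  | cons e rest ih =>
    obtain ⟨R, i, j⟩ := e
    intro known h S hS
    unfold slpRun at hS
    split at hS
    · rename_i hc
      simp only [Bool.and_eq_true] at hc
      obtain ⟨⟨⟨hP, hcomp⟩, hi⟩, hj⟩ := hc
      have hi' : i < known.length := Nat.le_of_ble_eq_true hi
      have hj' : j < known.length := Nat.le_of_ble_eq_true hj
      apply ih (known ++ [R]) _ S hS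
      intro T hT
      rw [List.mem_append, List.mem_singleton] at hT
      rcases hT with hT | rfl
      · exact h T hT
      · refine hmul _ _ _ (h _ ?_) (h _ ?_) hP hcomp
        · rw [List.getD_eq_getElem _ _ hi']; exact List.getElem_mem _
        · rw [List.getD_eq_getElem _ _ hj']; exact List.getElem_mem _
    · simp at hS

/-! ### the two generators -/

theorem bc_mem : isAutC bc = true ∧ permC bc ∈ K 1 := mem_of_ok bc_ok (by simp)

theorem bc_perm : isPerm bc = true := isPerm_of_isAutC bc_mem.1

/-- the first generator in the group -/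
def aG : ↥(K 1) := ⟨t0, t0_mem.2⟩

/-- the second generator in the group -/
def bG : ↥(K 1) := ⟨permC bc, bc_mem.2⟩

theorem subtype_inj : Function.Injective (K 1).subtype := Subtype.val_injective

theorem BC_gens : BC aG bG := by
  rw [← BC_map_iff (K 1).subtype subtype_inj]
  show BC t0 (permC bc)
  rw [BC_iff (IdxFun.permC bc_perm)]
  exact bc_cond

theorem t0_sq : t0 * t0 = 1 := by
  have ha : IdxFun t0 (papp t0c) := IdxFun.permC t0_perm
  rw [(ha.mul ha).eq_one_iff]
  decide +kernel

theorem t0_ne : t0 ≠ 1 := by
  have ha : IdxFun t0 (papp t0c) := IdxFun.permC t0_perm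
  rw [ha.ne_one_iff]
  decide +kernel

/-- an automorphism fixing both generators is trivial -/
theorem fix_all (ψ : MulAut ↥(K 1)) (ha : ψ aG = aG) (hb : ψ bG = bG) (g : ↥(K 1)) : ψ g = g := by
  let Pr : ℕ → Prop := fun S => isPerm S = true ∧
    ∃ h : permC S ∈ K 1, ψ ⟨permC S, h⟩ = ⟨permC S, h⟩
  have hmul : ∀ R S T, Pr S → Pr T → isPerm R = true → compOK R S T = true → Pr R := by
    intro R S T hS hT hR hc
    obtain ⟨hSP, hSK, hSψ⟩ := hS
    obtain ⟨hTP, hTK, hTψ⟩ := hT
    have hprod : permC R = permC S * permC T := by
      apply permC_mul_eq hR hSP hTP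
      intro k hk
      exact Nat.eq_of_beq_eq_true (List.all_eq_true.1 hc k (List.mem_range.2 hk))
    have hRK : permC R ∈ K 1 := by rw [hprod]; exact (K 1).mul_mem hSK hTK
    refine ⟨hR, hRK, ?_⟩
    have e : (⟨permC R, hRK⟩ : ↥(K 1)) = ⟨permC S, hSK⟩ * ⟨permC T, hTK⟩ := Subtype.ext hprod
    rw [e, map_mul, hSψ, hTψ]
  have hbase : ∀ S ∈ [t0c, bc], Pr S := by
    intro S hS
    rw [List.mem_cons, List.mem_singleton] at hS
    rcases hS with rfl | rfl
    · exact ⟨t0_perm, t0_mem.2, ha⟩
    · exact ⟨bc_perm, bc_mem.2, hb⟩
  have hall := slp_sound Pr hmul prog [t0c, bc] hbase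
  have hU : ∀ S ∈ U1 ++ U2 ++ U3 ++ U4, Pr S := by
    intro S hS
    have := List.all_eq_true.1 slp_cover S hS
    rw [List.any_eq_true] at this
    obtain ⟨T, hT, hTS⟩ := this
    rw [← Nat.eq_of_beq_eq_true hTS]
    exact hall T hT
  obtain ⟨S1, hS1, S2, hS2, S3, hS3, S4, hS4, hf⟩ := enum g.2
  obtain ⟨hP1, hK1, hψ1⟩ := hU S1 (by simp [hS1])
  obtain ⟨hP2, hK2, hψ2⟩ := hU S2 (by simp [hS2])
  obtain ⟨hP3, hK3, hψ3⟩ := hU S3 (by simp [hS3])
  obtain ⟨hP4, hK4, hψ4⟩ := hU S4 (by simp [hS4])
  have hg : g = (⟨permC S1, hK1⟩ : ↥(K 1)) * ⟨permC S2, hK2⟩ * ⟨permC S3, hK3⟩ *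
      ⟨permC S4, hK4⟩ := by
    apply Subtype.ext
    show g.1 = permC S1 * permC S2 * permC S3 * permC S4
    apply Equiv.ext
    intro p
    apply ptIdx_inj
    rw [hf]
    simp only [Equiv.Perm.mul_apply, fOf]
    rw [ptIdx_permC hP1, ptIdx_permC hP2, ptIdx_permC hP3, ptIdx_permC hP4]
  rw [hg, map_mul, map_mul, map_mul, hψ1, hψ2, hψ3, hψ4]

/-! ### every automorphism is inner -/

theorem inner_of_K1 (φ : MulAut ↥(K 1)) : ∃ g : ↥(K 1), MulAut.conj g = φ := by
  -- step 1: move the image of the involution back
  have hy2 : (φ aG).1 * (φ aG).1 = 1 := by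
    have : φ aG * φ aG = 1 := by
      rw [← map_mul]
      have : aG * aG = 1 := Subtype.ext t0_sq
      rw [this, map_one]
    exact congrArg Subtype.val this
  have hy1 : (φ aG).1 ≠ 1 := by
    intro h
    have h1 : φ aG = 1 := Subtype.ext h
    rw [← map_one φ] at h1
    have h2 : aG = 1 := φ.injective h1
    exact t0_ne (congrArg Subtype.val h2)
  obtain ⟨h, hhK, hhy⟩ := conj_to_t0 (φ aG).2 hy2 hy1
  let hG : ↥(K 1) := ⟨h, hhK⟩
  have h1a : (MulAut.conj hG * φ) aG = aG := by
    rw [MulAut.mul_apply, MulAut.conj_apply]
    apply Subtype.ext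
    show h * (φ aG).1 * h⁻¹ = t0
    rw [hhy]
    group
  -- step 2: the second generator
  have hBC : BC ((MulAut.conj hG * φ) aG) ((MulAut.conj hG * φ) bG) :=
    (BC_map_iff ((MulAut.conj hG * φ : MulAut ↥(K 1)).toMonoidHom)
      (MulAut.conj hG * φ : MulAut ↥(K 1)).injective aG bG).2 BC_gens
  rw [h1a] at hBC
  have hBC' : BC t0 ((MulAut.conj hG * φ) bG).1 :=
    (BC_map_iff (K 1).subtype subtype_inj aG ((MulAut.conj hG * φ) bG)).2 hBC
  obtain ⟨S1, hS1, S2, hS2, S3, hS3, S4, hS4, hf⟩ := enum ((MulAut.conj hG * φ) bG).2
  rw [BC_iff hf] at hBC'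
  have hgood := List.all_eq_true.1 (List.all_eq_true.1 (List.all_eq_true.1
    (List.all_eq_true.1 allB S1 hS1) S2 hS2) S3 hS3) S4 hS4
  unfold bGood at hgood
  rw [hBC'] at hgood
  simp only [Bool.not_true, Bool.false_or, List.any_eq_true] at hgood
  obtain ⟨c, hc, hcf⟩ := hgood
  obtain ⟨hcP, hcC0⟩ := TbN_facts hc
  rw [mem_C0] at hcC0
  obtain ⟨hcK, hccomm⟩ := hcC0
  let cG : ↥(K 1) := ⟨permC c, hcK⟩
  have hcb : permC c * ((MulAut.conj hG * φ) bG).1 = permC bc * permC c := by
    apply Equiv.ext
    intro p
    apply ptIdx_inj
    rw [Equiv.Perm.mul_apply, Equiv.Perm.mul_apply, ptIdx_permC hcP, hf, ptIdx_permC bc_perm,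
      ptIdx_permC hcP]
    exact Nat.eq_of_beq_eq_true
      (List.all_eq_true.1 hcf (ptIdx p) (List.mem_range.2 (ptIdx p).isLt))
  have h2a : (MulAut.conj cG * (MulAut.conj hG * φ)) aG = aG := by
    rw [MulAut.mul_apply, h1a, MulAut.conj_apply]
    apply Subtype.ext
    show permC c * t0 * (permC c)⁻¹ = t0
    rw [hccomm]
    group
  have h2b : (MulAut.conj cG * (MulAut.conj hG * φ)) bG = bG := by
    rw [MulAut.mul_apply, MulAut.conj_apply]
    apply Subtype.ext
    show permC c * ((MulAut.conj hG * φ) bG).1 * (permC c)⁻¹ = permC bc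
    rw [hcb]
    group
  have hone : MulAut.conj cG * (MulAut.conj hG * φ) = 1 := by
    apply MulEquiv.ext
    intro g
    exact fix_all _ h2a h2b g
  refine ⟨(cG * hG)⁻¹, ?_⟩
  rw [map_inv, map_mul, inv_eq_iff_eq_inv, eq_inv_iff_mul_eq_one, mul_assoc]
  exact hone

theorem M11_eq : Cfsg.Spor.M11 = K 1 := by
  ext g
  unfold Cfsg.Spor.M11 Cfsg.Spor.M12
  rw [Subgroup.mem_inf, Subgroup.mem_inf, MulAction.mem_stabilizer_iff,
    MulAction.mem_stabilizer_iff, sqD_eq]
  constructor
  · rintro ⟨⟨h24, hD⟩, h0⟩
    exact mem_K1 h24 hD h0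
  · intro hg
    exact ⟨⟨K_M24 hg, ((mem_K 1 g).1 hg).2⟩, K1_fix hg⟩

theorem out_trivial (H : Subgroup (Equiv.Perm GolayPt)) (hH : H = K 1) :
    Nat.card (Cfsg.Out ↥H) = 1 := by
  subst hH
  have htop : Cfsg.Inn ↥(K 1) = ⊤ := by
    rw [eq_top_iff]
    intro φ _
    obtain ⟨g, hg⟩ := inner_of_K1 φ
    exact ⟨g, hg⟩
  show (Cfsg.Inn ↥(K 1)).index = 1
  rw [htop]
  exact Subgroup.index_top

/-- The outer automorphism group of the Mathieu group M₁₁ (the stabiliser of a dodecad and one of its points in the automorphism group of the length-24 binary code) is trivial: every automorphism is inner. -/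
theorem result : Nat.card (Cfsg.Out ↥Cfsg.Spor.M11) = 1 :=
  out_trivial _ M11_eq

end Cfsg.Agent.S2060
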