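import Cfsg.Statements.S5166
import Cfsg.Agent.S2060
import Cfsg.Agent.Lib.Helper59.FusSyl
import Cfsg.Agent.Lib.Helper59.FusSlp

set_option autoImplicit false
set_option maxRecDepth 1000000
open scoped Pointwise
open Cfsg

namespace Cfsg.Agent.S5166

open Cfsg.Agent.Lib.Helper93.Golay
open Cfsg.Agent.S5522 (Dm K mem_K okU U1 U2 U3 U4 fOf ptIdx_inj permC_eq_one)
open Cfsg.Agent.S1602 (enum mem_of_ok)
open Cfsg.Agent.S1603 (t0c t0 t0_mem t0_perm conj_to_t0 permC_ext permC_mul_eq)
open Cfsg.Agent.S2060 (IdxFun M11_eq t0_ne)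
open Cfsg.Agent.Lib.Helper59.FusSlp

/-! ### data: a Sylow 2-subgroup (semidihedral of order 16) of the centraliser of `t0` -/

def idc : ℕ := 984818244535754528103549039458486304

def SL : List ℕ := [984818244535754528103549039458486304, 596693691629046116550990400692717664, 610933098178650810155900481226967136, 970499966350631336865513127433832480, 981818813153752489120759972731324512, 983549310955746530506231437997410400, 227578386318009578406903204956702752, 232652365823391711183829569059784736, 608405391266436187982588441666881568, 609271311764373893382231684089481248, 715872302521680643580706198532491296, 719923664328491199848526586197411872, 217568596627580172659656007490766944, 221306056451638017120264557308184672, 725920953632283487556548229579442272, 731231112280071455683496764367734880]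

def prog : List (ℕ × ℕ × ℕ × ℕ) := [(984818244535754528103549039458486304, 0, 0, 0), (981818813153752489120759972731324512, 0, 0, 440913852006253364563895830587121728), (983549310955746530506231437997410400, 0, 2, 0), (610933098178650810155900481226967136, 0, 0, 940231152410353827302876617115093056), (596693691629046116550990400692717664, 0, 4, 0), (608405391266436187982588441666881568, 2, 4, 0), (609271311764373893382231684089481248, 2, 5, 0), (232652365823391711183829569059784736, 6, 0, 233950865888990746377447415904013344), (227578386318009578406903204956702752, 0, 8, 0), (725920953632283487556548229579442272, 2, 8, 0), (731231112280071455683496764367734880, 2, 9, 0), (217568596627580172659656007490766944, 4, 8, 0), (221306056451638017120264557308184672, 4, 9, 0), (719923664328491199848526586197411872, 4, 10, 0), (715872302521680643580706198532491296, 4, 11, 0)]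

theorem SL_ok : okU SL 1 = true := by decide +kernel

def mulSL : Bool := SL.all fun a => SL.all fun b => SL.any fun c => compOK c a b

theorem mulSL_ok : mulSL = true := by decide +kernel

def pow8SL : Bool := SL.all fun a => (List.range 24).all fun i => Nat.beq ((papp a)^[8] i) i

theorem pow8SL_ok : pow8SL = true := by decide +kernel

theorem idc_ok : (List.range 24).all (fun i => Nat.beq (papp idc i) i) = true := by decide +kernel

def normGood (S1 S2 S3 S4 : ℕ) : Bool :=
  !(SL.all fun s => SL.any fun s' => (List.range 24).all fun i =>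
      Nat.beq (fOf S1 S2 S3 S4 (papp s i)) (papp s' (fOf S1 S2 S3 S4 i))) ||
    SL.any fun s => (List.range 24).all fun i => Nat.beq (papp s i) (fOf S1 S2 S3 S4 i)

theorem allNorm : U1.all (fun a => U2.all (fun b => U3.all (fun c => U4.all (fun d =>
    normGood a b c d)))) = true := by decide +kernel

def okG (g : ℕ) : Bool := okU [g] 1

def cover : Bool := SL.all fun s => (slp2 SL okG [t0c] prog).any fun T => Nat.beq T s

theorem cover_ok : cover = true := by decide +kernel

/-! ### the model subgroup -/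

theorem SL_perm {s : ℕ} (hs : s ∈ SL) : isPerm s = true :=
  isPerm_of_isAutC (mem_of_ok SL_ok hs).1

theorem SL_K1 {s : ℕ} (hs : s ∈ SL) : permC s ∈ K 1 := (mem_of_ok SL_ok hs).2

theorem idc_mem : idc ∈ SL := by decide

theorem t0c_mem : t0c ∈ SL := by decide

theorem permC_idc : permC idc = 1 := permC_eq_one (SL_perm idc_mem) idc_ok

theorem pow8 {s : ℕ} (hs : s ∈ SL) : permC s ^ 8 = 1 := by
  have h : IdxFun (permC s) (papp s) := IdxFun.permC (SL_perm hs)
  rw [(h.pow 8).eq_one_iff]
  exact List.all_eq_true.1 pow8SL_ok s hs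

def S0m : Submonoid (Equiv.Perm GolayPt) where
  carrier := {g | ∃ s ∈ SL, g = permC s}
  mul_mem' := by
    rintro _ _ ⟨a, ha, rfl⟩ ⟨b, hb, rfl⟩
    have h := List.all_eq_true.1 (List.all_eq_true.1 mulSL_ok a ha) b hb
    rw [List.any_eq_true] at h
    obtain ⟨c, hc, hcab⟩ := h
    refine ⟨c, hc, ?_⟩
    symm
    apply permC_mul_eq (SL_perm hc) (SL_perm ha) (SL_perm hb)
    intro k hk
    exact Nat.eq_of_beq_eq_true (List.all_eq_true.1 hcab k (List.mem_range.2 hk))
  one_mem' := ⟨idc, idc_mem, permC_idc.symm⟩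

def S0 : Subgroup (Equiv.Perm GolayPt) :=
  { S0m with
    inv_mem' := by
      intro g hg
      have hg' : g ∈ S0m := hg
      obtain ⟨s, hs, rfl⟩ := hg
      have e : (permC s)⁻¹ = permC s ^ 7 := by
        apply inv_eq_of_mul_eq_one_right
        rw [← pow_succ']
        exact pow8 hs
      show (permC s)⁻¹ ∈ S0m
      rw [e]
      exact S0m.pow_mem hg' 7 }

theorem mem_S0 (g : Equiv.Perm GolayPt) : g ∈ S0 ↔ ∃ s ∈ SL, g = permC s := Iff.rfl

/-- the model subgroup inside the group -/
def S0G : Subgroup ↥(K 1) := S0.subgroupOf (K 1)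

theorem mem_S0G (x : ↥(K 1)) : x ∈ S0G ↔ ∃ s ∈ SL, x.1 = permC s := by
  unfold S0G
  rw [Subgroup.mem_subgroupOf, mem_S0]

theorem S0G_pow8 {x : ↥(K 1)} (hx : x ∈ S0G) : x ^ 8 = 1 := by
  rw [mem_S0G] at hx
  obtain ⟨s, hs, hxs⟩ := hx
  apply Subtype.ext
  show (x ^ 8).1 = 1
  rw [Subgroup.coe_pow, hxs]
  exact pow8 hs

theorem S0G_pgroup : IsPGroup 2 S0G := by
  intro g
  refine ⟨3, ?_⟩
  apply Subtype.ext
  show ((g ^ 2 ^ 3 : ↥S0G) : ↥(K 1)) = 1
  rw [Subgroup.coe_pow]
  exact S0G_pow8 g.2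

def t0G : ↥(K 1) := ⟨t0, t0_mem.2⟩

theorem t0G_mem : t0G ∈ S0G := by
  rw [mem_S0G]
  exact ⟨t0c, t0c_mem, rfl⟩

theorem S0G_ne_bot : S0G ≠ ⊥ := by
  intro h
  have h1 := t0G_mem
  rw [h, Subgroup.mem_bot] at h1
  exact t0_ne (congrArg Subtype.val h1)

/-! ### the normaliser -/

theorem selfNorm (g : ↥(K 1)) (hn : ∀ x ∈ S0G, g * x * g⁻¹ ∈ S0G) : g ∈ S0G := by
  obtain ⟨S1, hS1, S2, hS2, S3, hS3, S4, hS4, hf⟩ := enum g.2
  have hgood := List.all_eq_true.1 (List.all_eq_true.1 (List.all_eq_true.1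
    (List.all_eq_true.1 allNorm S1 hS1) S2 hS2) S3 hS3) S4 hS4
  unfold normGood at hgood
  have h1 : (SL.all fun s => SL.any fun s' => (List.range 24).all fun i =>
      Nat.beq (fOf S1 S2 S3 S4 (papp s i)) (papp s' (fOf S1 S2 S3 S4 i))) = true := by
    rw [List.all_eq_true]
    intro s hs
    have hx : (⟨permC s, SL_K1 hs⟩ : ↥(K 1)) ∈ S0G := by
      rw [mem_S0G]
      exact ⟨s, hs, rfl⟩
    have h2 := hn _ hx
    rw [mem_S0G] at h2
    obtain ⟨s', hs', he⟩ := h2
    have he1 : g.1 * permC s * g.1⁻¹ = permC s' := he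
    have he' : g.1 * permC s = permC s' * g.1 := by
      rw [← he1]; group
    rw [List.any_eq_true]
    refine ⟨s', hs', ?_⟩
    rw [List.all_eq_true]
    intro i hi
    have hi24 : i < 24 := List.mem_range.1 hi
    have e1 : ((ptIdx ((g.1 * permC s) (P i hi24)) : Fin 24) : ℕ) =
        fOf S1 S2 S3 S4 (papp s i) := by
      rw [Equiv.Perm.mul_apply, hf, ptIdx_permC (SL_perm hs), ptIdx_P]
    have e2 : ((ptIdx ((permC s' * g.1) (P i hi24)) : Fin 24) : ℕ) =
        papp s' (fOf S1 S2 S3 S4 i) := by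
      rw [Equiv.Perm.mul_apply, ptIdx_permC (SL_perm hs'), hf, ptIdx_P]
    rw [he', e2] at e1
    rw [← e1]
    exact Nat.beq_refl _
  rw [h1] at hgood
  simp only [Bool.not_true, Bool.false_or, List.any_eq_true] at hgood
  obtain ⟨s, hs, hsf⟩ := hgood
  rw [mem_S0G]
  refine ⟨s, hs, permC_ext (SL_perm hs) (fun p => ?_)⟩
  rw [hf]
  exact (Nat.eq_of_beq_eq_true
    (List.all_eq_true.1 hsf _ (List.mem_range.2 (ptIdx p).isLt))).symm

/-! ### strongly closed subgroups -/

theorem strongA (T : Subgroup ↥(K 1)) (hT : T ≤ S0G) (hne : T ≠ ⊥)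
    (hcl : ∀ x ∈ T, ∀ g : ↥(K 1), g * x * g⁻¹ ∈ S0G → g * x * g⁻¹ ∈ T) : T = S0G := by
  -- the base involution is in `T`
  obtain ⟨⟨x, hxT'⟩, hx1⟩ := (Subgroup.ne_bot_iff_exists_ne_one).1 hne
  have hx1' : x ≠ 1 := fun h => hx1 (Subtype.ext h)
  have hx8 : x ^ 2 ^ 3 = 1 := S0G_pow8 (hT hxT')
  obtain ⟨m, hm2, hm1⟩ := exists_invol_pow 3 x hx8 hx1'
  have hyT : x ^ m ∈ T := T.pow_mem hxT' m
  have hy2 : (x ^ m).1 * (x ^ m).1 = 1 := by
    have : (x ^ m) * (x ^ m) = 1 := by rw [← pow_two]; exact hm2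
    exact congrArg Subtype.val this
  have hy1 : (x ^ m).1 ≠ 1 := fun h => hm1 (Subtype.ext h)
  obtain ⟨h, hhK, hhy⟩ := conj_to_t0 (x ^ m).2 hy2 hy1
  have ht0T : t0G ∈ T := by
    have e : (⟨h, hhK⟩ : ↥(K 1)) * (x ^ m) * (⟨h, hhK⟩ : ↥(K 1))⁻¹ = t0G := by
      apply Subtype.ext
      show h * (x ^ m).1 * h⁻¹ = t0
      rw [hhy]; group
    rw [← e]
    apply hcl _ hyT
    rw [e]
    exact t0G_mem
  -- the program
  let Pr : ℕ → Prop := fun c => isPerm c = true ∧
    ∃ hK : permC c ∈ K 1, (⟨permC c, hK⟩ : ↥(K 1)) ∈ T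
  have hmul : ∀ R S T', Pr S → Pr T' → isPerm R = true → compOK R S T' = true → Pr R := by
    intro R S T' hS hT' hR hc
    obtain ⟨hSP, hSK, hST⟩ := hS
    obtain ⟨hTP, hTK, hTT⟩ := hT'
    have hprod : permC R = permC S * permC T' := by
      apply permC_mul_eq hR hSP hTP
      intro k hk
      exact Nat.eq_of_beq_eq_true (List.all_eq_true.1 hc k (List.mem_range.2 hk))
    have hRK : permC R ∈ K 1 := by rw [hprod]; exact (K 1).mul_mem hSK hTK
    refine ⟨hR, hRK, ?_⟩
    have e : (⟨permC R, hRK⟩ : ↥(K 1)) = ⟨permC S, hSK⟩ * ⟨permC T', hTK⟩ := Subtype.ext hprod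
    rw [e]
    exact T.mul_mem hST hTT
  have hconj : ∀ R S g, Pr S → okG g = true → R ∈ SL → conjOK R g S = true → Pr R := by
    intro R S g hS hg hR hc
    obtain ⟨hSP, hSK, hST⟩ := hS
    obtain ⟨hgA, hgK⟩ := mem_of_ok (U := [g]) hg (List.mem_singleton.2 rfl)
    have hgP := isPerm_of_isAutC hgA
    have hRP := SL_perm hR
    have e : permC R * permC g = permC g * permC S := by
      apply Equiv.ext
      intro p
      apply ptIdx_inj
      rw [Equiv.Perm.mul_apply, Equiv.Perm.mul_apply, ptIdx_permC hRP, ptIdx_permC hgP,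
        ptIdx_permC hgP, ptIdx_permC hSP]
      exact Nat.eq_of_beq_eq_true
        (List.all_eq_true.1 hc _ (List.mem_range.2 (ptIdx p).isLt))
    refine ⟨hRP, SL_K1 hR, ?_⟩
    have e2 : (⟨permC R, SL_K1 hR⟩ : ↥(K 1)) =
        ⟨permC g, hgK⟩ * ⟨permC S, hSK⟩ * (⟨permC g, hgK⟩ : ↥(K 1))⁻¹ := by
      apply Subtype.ext
      show permC R = permC g * permC S * (permC g)⁻¹
      rw [← e]; group
    rw [e2]
    apply hcl _ hST
    rw [← e2, mem_S0G]
    exact ⟨R, hR, rfl⟩
  have hbase : ∀ S ∈ [t0c], Pr S := by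
    intro S hS
    rw [List.mem_singleton] at hS
    subst hS
    exact ⟨t0_perm, t0_mem.2, ht0T⟩
  have hall := slp2_sound SL okG Pr hmul hconj prog [t0c] hbase
  apply le_antisymm hT
  intro z hz
  rw [mem_S0G] at hz
  obtain ⟨s, hs, hzs⟩ := hz
  have hc := List.all_eq_true.1 cover_ok s hs
  rw [List.any_eq_true] at hc
  obtain ⟨T', hT', hTs⟩ := hc
  have hTs' : T' = s := Nat.eq_of_beq_eq_true hTs
  subst hTs'
  obtain ⟨_, hK, hmem⟩ := hall T' hT'
  have : z = ⟨permC T', hK⟩ := Subtype.ext hzs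
  rw [this]
  exact hmem

/-! ### the statement -/

theorem key (H : Subgroup (Equiv.Perm GolayPt)) (hH : H = K 1) (S : Sylow 2 H) :
    (Cfsg.groupFusionSystem (S : Subgroup H)).IsSimple 2 := by
  subst hH
  have : Fact (Nat.Prime 2) := ⟨Nat.prime_two⟩
  exact Cfsg.Agent.Lib.Helper59.FusSyl.isSimple_of_model S0G S0G_pgroup S0G_ne_bot strongA
    selfNorm S

/-- The 2-fusion system of the Mathieu group M₁₁ (as the explicit permutation group carved out of the automorphism group of the binary Golay code) on a Sylow 2-subgroup is simple: saturated, over a nontrivial 2-group, with no normal subsystem other than the trivial one and itself. -/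
theorem result (S : Sylow 2 Cfsg.Spor.M11) : (Cfsg.groupFusionSystem (S : Subgroup Cfsg.Spor.M11)).IsSimple 2 :=
  key _ M11_eq S

end Cfsg.Agent.S5166
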