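import Cfsg.Statements.S2049
import Cfsg.Agent.S1683
import Cfsg.Agent.Lib.Helper28.Mo3Main
import Cfsg.Agent.Lib.Helper28.Mo5Main

set_option autoImplicit false
open Cfsg

namespace Cfsg.Agent.S2049

open Cfsg.Spor Cfsg.Agent.Lib.Helper28

/-- The Schur multiplier of the Held group (the finitely presented group of the definitions) is trivial; here the Schur multiplier is described through stem extensions, as in the definitions: surjective homomorphisms onto the group from a finite group, whose kernel is central in that finite group and contained in that finite group's commutator subgroup. -/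
theorem result : Cfsg.HasCyclicSchurMultiplier Cfsg.Spor.He 1 := by
  obtain ⟨φ, hS⟩ := Cfsg.Agent.S1683.setup
  haveI : Finite Cfsg.Spor.He := HeOrder.cardG_le.1
  apply Cfsg.Agent.Lib.Helper89.SafePres.hasCyclic_one_of_primes
  intro p hp _
  right
  by_cases h3 : p = 3
  · subst h3
    exact fun Γ _ _ σ hσ hpk => Mo5.ker_bot hS 3 hp (by norm_num) Γ σ hσ hpk
  · exact fun Γ _ _ σ hσ hpk =>
      Mo3.ker_bot hS p hp ((Nat.coprime_primes Nat.prime_three hp).2 (Ne.symm h3)) Γ σ hσ hpk

end Cfsg.Agent.S2049
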