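import Cfsg.Statements.S2063
-- import your own Cfsg.Agent.* helpers here
import Cfsg.Agent.Lib.Helper93.M24Fix

set_option autoImplicit false
open Cfsg

namespace Cfsg.Agent.S2063

open Cfsg.Agent.Lib.Helper93 Cfsg.Agent.Lib.Helper93.Golay Cfsg.Agent.Lib.Helper93.PermCount
open Cfsg.Agent.Lib.Helper93.M24Fix

/-- If every automorphism is inner, the outer automorphism group is trivial. -/
theorem card_out_eq_one {G : Type*} [Group G] (h : ∀ α : MulAut G, ∃ g : G, MulAut.conj g = α) :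
    Nat.card (Cfsg.Out G) = 1 := by
  have htop : Cfsg.Inn G = ⊤ := by
    rw [eq_top_iff]
    intro φ _
    obtain ⟨g, hg⟩ := h φ
    exact ⟨g, hg⟩
  show (Cfsg.Inn G).index = 1
  rw [htop]
  exact Subgroup.index_top

theorem mem_M23 {g : Equiv.Perm GolayPt} : g ∈ Cfsg.Spor.M23 ↔ g ∈ M24 ∧ g none = none := by
  show g ∈ M24 ⊓ stab none ↔ _
  rw [Subgroup.mem_inf, mem_stab]

theorem M23_eq : Cfsg.Spor.M23 = M24 ⊓ stab none := rfl

/-- An automorphism maps a point stabiliser to a point stabiliser. -/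
theorem exists_pt (α : MulAut ↥Cfsg.Spor.M23) (a : GolayPt) (ha : a ≠ none) :
    ∃ b, b ≠ none ∧ ∀ h : ↥Cfsg.Spor.M23,
      (h : Equiv.Perm GolayPt) a = a ↔ ((α h : ↥Cfsg.Spor.M23) : Equiv.Perm GolayPt) b = b := by
  let S : Subgroup ↥Cfsg.Spor.M23 := (Cfsg.Spor.M23 ⊓ stab a).subgroupOf Cfsg.Spor.M23
  let K : Subgroup (Equiv.Perm GolayPt) := (S.map α.toMonoidHom).map Cfsg.Spor.M23.subtype
  have hKle : K ≤ M24 ⊓ stab none := by
    rintro k ⟨x, _, rfl⟩
    exact x.2
  have hKcard : Nat.card K = 443520 := by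
    rw [Subgroup.card_map_of_injective (Subgroup.subtype_injective _),
      Subgroup.card_map_of_injective (f := α.toMonoidHom) α.injective,
      ← card_stab_pt2 (a := none) (b := a) (Ne.symm ha)]
    exact Nat.card_congr (Subgroup.subgroupOfEquivOfLe inf_le_left).toEquiv
  obtain ⟨b, hbne, hb⟩ := eq_stab_of_card_M23 hKle hKcard
  refine ⟨b, hbne, fun h => ?_⟩
  have hmemK : ((α h : ↥Cfsg.Spor.M23) : Equiv.Perm GolayPt) ∈ K ↔
      (h : Equiv.Perm GolayPt) a = a := by
    constructor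
    · rintro ⟨x, ⟨y, hy, rfl⟩, hxy⟩
      have h1 : α y = α h := Subtype.ext hxy
      have h2 : y = h := α.injective h1
      subst h2
      exact mem_stab.1 (Subgroup.mem_subgroupOf.1 hy).2
    · intro ha
      exact ⟨α h, ⟨h, Subgroup.mem_subgroupOf.2 ⟨h.2, mem_stab.2 ha⟩, rfl⟩, rfl⟩
  rw [← hmemK, hb]
  constructor
  · intro hk
    exact mem_stab.1 hk.2
  · intro hk
    exact ⟨(α h).2, mem_stab.2 hk⟩

theorem pt_unique {b b' : GolayPt} (hb : b ≠ none) (hb' : b' ≠ none)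
    (h : ∀ k ∈ Cfsg.Spor.M23, k b = b ↔ k b' = b') : b = b' := by
  by_contra hne
  obtain ⟨c, hcn, hcb, hcb'⟩ := exists_ne3 none b b'
  obtain ⟨g, hg, h0, h1, h2⟩ := exists_map3 (a := none) (b := b) (c := b') (c' := c)
    (Ne.symm hb) (Ne.symm hb') hne (Ne.symm hcn) (Ne.symm hcb)
  have := (h g (mem_M23.2 ⟨hg, h0⟩)).1 h1
  rw [h2] at this
  exact hcb' this

theorem inner_of_aut (α : MulAut ↥Cfsg.Spor.M23) :
    ∃ g : ↥Cfsg.Spor.M23, MulAut.conj g = α := by
  obtain ⟨τ, hτfix, hτ⟩ := exists_perm_of_aut Cfsg.Spor.M23 (fun a => a ≠ none)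
    (fun h hh a ha => by
      have : a = none := by
        by_contra hcon
        exact ha hcon
      rw [this]
      exact (mem_M23.1 hh).2)
    exists_pt (fun b b' hb hb' h => pt_unique hb hb' h) α
  have hnone : τ none = none := hτfix none (fun h => h rfl)
  have hmem : τ ∈ M24 := by
    apply mem_M24_of_normalizes
    intro t ht htn
    have ht23 : t ∈ Cfsg.Spor.M23 := mem_M23.2 ⟨ht, htn⟩
    rw [← hτ ⟨t, ht23⟩]
    exact (mem_M23.1 (α ⟨t, ht23⟩).2).1
  have hmem23 : τ ∈ Cfsg.Spor.M23 := mem_M23.2 ⟨hmem, hnone⟩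
  exact ⟨⟨τ, hmem23⟩, conj_eq_of_perm Cfsg.Spor.M23 α τ hmem23 hτ⟩

/-- The outer automorphism group of the Mathieu group M₂₃ (the stabiliser of a point in the automorphism group of the length-24 binary code) is trivial: every automorphism is inner. -/
theorem result : Nat.card (Cfsg.Out ↥Cfsg.Spor.M23) = 1 :=
  card_out_eq_one inner_of_aut

end Cfsg.Agent.S2063
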