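import Cfsg.Statements.S2064
-- import your own Cfsg.Agent.* helpers here
import Cfsg.Agent.Lib.Helper93.M24Fix

set_option autoImplicit false
open Cfsg

namespace Cfsg.Agent.S2064

open Cfsg.Agent.Lib.Helper93 Cfsg.Agent.Lib.Helper93.Golay Cfsg.Agent.Lib.Helper93.PermCount
open Cfsg.Agent.Lib.Helper93.M24Fix

/-- If every automorphism is inner, the outer automorphism group is trivial. -/
theorem card_out_eq_one {G : Type*} [Group G] (h : ∀ α : MulAut G, ∃ g : G, MulAut.conj g = α) :
    Nat.card (Cfsg.Out G) = 1 := by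
  have htop : Cfsg.Inn G = ⊤ := by
    rw [eq_top_iff]
    intro φ _
    obtain ⟨g, hg⟩ := h φ
    exact ⟨g, hg⟩
  show (Cfsg.Inn G).index = 1
  rw [htop]
  exact Subgroup.index_top

/-- An automorphism maps a point stabiliser to a point stabiliser. -/
theorem exists_pt (α : MulAut ↥M24) (a : GolayPt) : ∃ b, True ∧ ∀ h : ↥M24,
    (h : Equiv.Perm GolayPt) a = a ↔ ((α h : ↥M24) : Equiv.Perm GolayPt) b = b := by
  let S : Subgroup ↥M24 := (M24 ⊓ stab a).subgroupOf M24
  let K : Subgroup (Equiv.Perm GolayPt) := (S.map α.toMonoidHom).map M24.subtype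
  have hKle : K ≤ M24 := by
    rintro k ⟨x, _, rfl⟩
    exact x.2
  have hKcard : Nat.card K = 10200960 := by
    rw [Subgroup.card_map_of_injective (Subgroup.subtype_injective _),
      Subgroup.card_map_of_injective (f := α.toMonoidHom) α.injective, ← card_stab_pt a]
    exact Nat.card_congr (Subgroup.subgroupOfEquivOfLe inf_le_left).toEquiv
  obtain ⟨b, hb⟩ := eq_stab_of_card hKle hKcard
  refine ⟨b, trivial, fun h => ?_⟩
  have hmemK : ((α h : ↥M24) : Equiv.Perm GolayPt) ∈ K ↔ (h : Equiv.Perm GolayPt) a = a := by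
    constructor
    · rintro ⟨x, ⟨y, hy, rfl⟩, hxy⟩
      have h1 : α y = α h := Subtype.ext hxy
      have h2 : y = h := α.injective h1
      subst h2
      exact mem_stab.1 (Subgroup.mem_subgroupOf.1 hy).2
    · intro ha
      exact ⟨α h, ⟨h, Subgroup.mem_subgroupOf.2 ⟨h.2, mem_stab.2 ha⟩, rfl⟩, rfl⟩
  rw [← hmemK, hb]
  constructor
  · intro hk
    exact mem_stab.1 hk.2
  · intro hk
    exact ⟨(α h).2, mem_stab.2 hk⟩

theorem pt_unique {b b' : GolayPt} (h : ∀ k ∈ M24, k b = b ↔ k b' = b') : b = b' := by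
  by_contra hne
  obtain ⟨c, hcb, hcb', _⟩ := exists_ne3 b b' b'
  obtain ⟨g, hg, h1, h2⟩ := exists_map2 (a := b) (b := b') (b' := c) hne (Ne.symm hcb)
  have := (h g hg).1 h1
  rw [h2] at this
  exact hcb' this

theorem inner_of_aut (α : MulAut ↥M24) : ∃ g : ↥M24, MulAut.conj g = α := by
  obtain ⟨τ, _, hτ⟩ := exists_perm_of_aut M24 (fun _ => True)
    (fun _ _ a ha => absurd trivial ha) (fun α a _ => exists_pt α a) (fun b b' _ _ h => pt_unique h) α
  have hmem : τ ∈ M24 := by
    apply mem_M24_of_normalizes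
    intro t ht _
    rw [← hτ ⟨t, ht⟩]
    exact (α ⟨t, ht⟩).2
  exact ⟨⟨τ, hmem⟩, conj_eq_of_perm M24 α τ hmem hτ⟩

/-- The outer automorphism group of the Mathieu group M₂₄ (the automorphism group of the length-24 binary code) is trivial: every automorphism is inner. -/
theorem result : Nat.card (Cfsg.Out ↥Cfsg.M24) = 1 :=
  card_out_eq_one inner_of_aut

end Cfsg.Agent.S2064
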