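import Cfsg.Statements.S2072
import Cfsg.Agent.Lib.Helper7.HSAutC
import Cfsg.Agent.Lib.Helper7.HSRecogC

set_option autoImplicit false
open Cfsg

namespace Cfsg.Agent.S2072

open Cfsg.Agent.Lib.Helper7.HSRecog Cfsg.Agent.Lib.Helper7Std.StdPair
open Cfsg.Agent.Lib.Conway.HS (G2 VH WH x0 SA SB card_SA card_SB faithful)

/-- The outer automorphism group of the Higman–Sims group (as a two-vector stabiliser in the automorphism group of the rank-24 lattice) has order 2. -/
theorem result : Nat.card (Cfsg.Out ↥Cfsg.Spor.HS) = 2 := by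
  obtain ⟨e1⟩ := Cfsg.Agent.Lib.Helper26.HSD.nonempty_equiv_std
  rw [card_out_congr e1]
  haveI := pretrans
  have hA : SA.Nonempty := by
    rw [← Set.ncard_pos (Set.toFinite _), card_SA Cfsg.Agent.Lib.Helper26.HSD.h84]
    norm_num
  have hB : SB.Nonempty := by
    rw [← Set.ncard_pos (Set.toFinite _), card_SB Cfsg.Agent.Lib.Helper26.HSD.h84]
    norm_num
  obtain ⟨y, hy⟩ := hA
  obtain ⟨z, hz⟩ := hB
  exact card_out_of_action card_Om faithful Cfsg.Agent.Lib.Conway.pa_ne_pb stabEquiv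
    (by rw [orbit_SA hy]; exact card_SA Cfsg.Agent.Lib.Helper26.HSD.h84)
    (by rw [orbit_SB hz]; exact card_SB Cfsg.Agent.Lib.Helper26.HSD.h84)

end Cfsg.Agent.S2072
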