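import Cfsg.Statements.S2086
import Cfsg.Agent.Lib.Helper39.SmMain
import Cfsg.Agent.Lib.Helper41.Sm_TOPSLcore
import Cfsg.Agent.Lib.Helper68.Sm_TOPPSL
import Cfsg.Agent.Lib.Helper33.Sm_TOPPERF2
import Cfsg.Agent.Lib.Helper39.SLPerfect
import Cfsg.Agent.S2117

/-! # S2086: the Schur multiplier of `PSL_n(q)` is cyclic of order `gcd(n, q - 1)` (Sm hive, owner helper39).

`n = 2`: S2117 (`SL_2(q)` has trivial multiplier) + S3958; `n ≥ 3`: `SL_n(q) ≅ St_n(q)` (S2401, Stn hive of
helper41) and `St_n(q)` is centrally closed (`St_centrally_closed`: Milnor's argument for `n ≥ 5`, torus / Weyl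
arguments for `n = 3, 4`). -/

set_option autoImplicit false
open Cfsg

namespace Cfsg.Agent.S2086

open Cfsg.Agent.Lib.Helper39.Sm

/-- Schur multipliers of the linear groups: for n ≥ 2 and a field F with q elements (q ≥ 4 when n = 2), apart from the five exceptional pairs (n, q) = (2, 4), (2, 9), (3, 2), (3, 4), (4, 2), the Schur multiplier of PSL_n(F) is cyclic of order gcd(n, q − 1); here the Schur multiplier is described through stem extensions, as in the definitions. -/
theorem result {F : Type*} [Field F] [Fintype F] {q : ℕ} (hF : Fintype.card F = q) (n : ℕ) (hn : 2 ≤ n) (h2 : n = 2 → 4 ≤ q) (hexc : (n, q) ∉ ({(2, 4), (2, 9), (3, 2), (3, 4), (4, 2)} : Set (ℕ × ℕ))) : Cfsg.HasCyclicSchurMultiplier (Matrix.ProjectiveSpecialLinearGroup (Fin n) F) (Nat.gcd n (q - 1)) := by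
  classical
  subst hF
  simp only [Set.mem_insert_iff, Set.mem_singleton_iff, Prod.mk.injEq, not_or, not_and] at hexc
  obtain ⟨e24, e29, e32, e34, e42⟩ := hexc
  rcases Nat.lt_or_ge n 3 with h3 | h3
  · have hn2 : n = 2 := by omega
    subst hn2
    have h4 := h2 rfl
    exact psl_multiplier_of_sl 2 (by norm_num) (sl_two_perfect h4)
      (Cfsg.Agent.S2117.result (fun h => e24 rfl h) (fun h => e29 rfl h))
  · have hperf : commutator (Matrix.SpecialLinearGroup (Fin n) F) = ⊤ :=
      Cfsg.Agent.Lib.Helper39.SLPerfect.commutator_SL_eq_top (by simpa using h3)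
    have hex' : ¬ (n = 3 ∧ Nat.card F = 2) ∧ ¬ (n = 3 ∧ Nat.card F = 4) ∧
        ¬ (n = 4 ∧ Nat.card F = 2) := by
      rw [Nat.card_eq_fintype_card]
      refine ⟨?_, ?_, ?_⟩
      · rintro ⟨rfl, h⟩; exact e32 rfl h
      · rintro ⟨rfl, h⟩; exact e34 rfl h
      · rintro ⟨rfl, h⟩; exact e42 rfl h
    have hsl : Cfsg.HasCyclicSchurMultiplier (Matrix.SpecialLinearGroup (Fin n) F) 1 :=
      topsl_core n h3 (fun Y _ φ hs hc => St_centrally_closed φ h3 hex' hs hc)
    exact psl_multiplier_of_sl n (by omega) hperf hsl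

end Cfsg.Agent.S2086
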