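import Cfsg.Statements.S3953
import Cfsg.Agent.Lib.Helper65.SylowMult
import Cfsg.Agent.Lib.Helper65.DirectFactor

set_option autoImplicit false
open Cfsg

namespace Cfsg.Agent.S3953

open Cfsg.Agent.Lib.Helper65

/-- Let `P` be a Sylow `p`-subgroup of the finite group `G`, let `A` be the Schur multiplier of `G` and `B` that of `P`. Then the `p`-primary component of `A` is isomorphic to a direct factor of `B`: there are subgroups `C` and `D` of `B` meeting trivially and generating `B`, with `C` isomorphic to the `p`-primary component of `A`. -/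
theorem result {G : Type*} [Group G] [Finite G] (p : ℕ) [Fact p.Prime] (P : Sylow p G) {A B : Type*} [CommGroup A] [CommGroup B] (hA : Cfsg.HasSchurMultiplier G A) (hB : Cfsg.HasSchurMultiplier P B) : ∃ C D : Subgroup B, C ⊓ D = ⊥ ∧ C ⊔ D = ⊤ ∧ Nonempty (CommGroup.primaryComponent A p ≃* C) := by
  obtain ⟨eA⟩ := equiv_multSub G hA
  obtain ⟨eB⟩ := equiv_multSub (P : Subgroup G) hB
  have hfinA : Finite A := Finite.of_equiv _ eA.symm.toEquiv
  obtain ⟨t, ht⟩ := exists_mult_transfer G (P : Subgroup G)
  let ι' : B →* A := eA.symm.toMonoidHom.comp ((multMap G (P : Subgroup G)).comp eB.toMonoidHom)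
  let t' : A →* B := eB.symm.toMonoidHom.comp (t.comp eA.toMonoidHom)
  have h : ∀ x : A, ι' (t' x) = x ^ (P : Subgroup G).index := by
    intro x
    show eA.symm (multMap G (P : Subgroup G) (eB (eB.symm (t (eA x))))) = _
    rw [MulEquiv.apply_symm_apply, ht, map_pow, MulEquiv.symm_apply_apply]
  exact exists_direct_factor p (P : Subgroup G).index P.not_dvd_index ι' t' h

end Cfsg.Agent.S3953
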