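import Cfsg.Statements.S2087
import Cfsg.Agent.Lib.Helper65.StemLemmas
import Cfsg.Agent.Lib.Helper44.OmegaMinus4
import Cfsg.Agent.S0805
import Cfsg.Agent.S0255
import Cfsg.Agent.S1004
import Cfsg.Agent.S0243
import Cfsg.Agent.S3952
import Cfsg.Agent.S3953

set_option autoImplicit false
open Cfsg

namespace Cfsg.Agent.S2087

open Cfsg.Agent.Lib.Helper65

/-- a group of order two is isomorphic to `Multiplicative (ZMod 2)` -/
theorem mulEquiv_of_card_two {Z : Type*} [Group Z] (h : Nat.card Z = 2) :
    Nonempty (Z ≃* Multiplicative (ZMod 2)) := by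
  have : Fact (Nat.Prime 2) := ⟨Nat.prime_two⟩
  have hc : IsCyclic Z := isCyclic_of_prime_card h
  have e := zmodCyclicMulEquiv hc
  rw [h] at e
  exact ⟨e.symm⟩

/-- a finite group of order at most two is a quotient of `Multiplicative (ZMod 2)` -/
theorem exists_surj_of_card_le_two {Z : Type*} [Group Z] [Finite Z] (h : Nat.card Z ≤ 2) :
    ∃ π : Multiplicative (ZMod 2) →* Z, Function.Surjective π := by
  have hpos : 0 < Nat.card Z := Nat.card_pos
  have hcases : Nat.card Z = 1 ∨ Nat.card Z = 2 := by omega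
  rcases hcases with h1 | h2
  · have : Subsingleton Z := (Nat.card_eq_one_iff_unique.1 h1).1
    exact ⟨1, fun z => ⟨1, Subsingleton.elim _ _⟩⟩
  · obtain ⟨e⟩ := mulEquiv_of_card_two h2
    exact ⟨e.symm.toMonoidHom, e.symm.surjective⟩

/-- the dihedral group is generated by two reflections -/
theorem dihedral_closure (n : ℕ) [NeZero n] :
    Subgroup.closure ({DihedralGroup.sr 0, DihedralGroup.sr 1} : Set (DihedralGroup n)) = ⊤ := by
  rw [eq_top_iff]
  intro x _
  have h0 : DihedralGroup.sr (0 : ZMod n) ∈ Subgroup.closure ({DihedralGroup.sr 0, DihedralGroup.sr 1} : Set (DihedralGroup n)) :=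
    Subgroup.subset_closure (by simp)
  have h1 : DihedralGroup.sr (1 : ZMod n) ∈ Subgroup.closure ({DihedralGroup.sr 0, DihedralGroup.sr 1} : Set (DihedralGroup n)) :=
    Subgroup.subset_closure (by simp)
  have hr1 : DihedralGroup.r (1 : ZMod n) ∈ Subgroup.closure ({DihedralGroup.sr 0, DihedralGroup.sr 1} : Set (DihedralGroup n)) := by
    have : DihedralGroup.r (1 : ZMod n) = DihedralGroup.sr 0 * DihedralGroup.sr 1 := by
      rw [DihedralGroup.sr_mul_sr]; simp
    rw [this]; exact mul_mem h0 h1
  have hr : ∀ i : ZMod n, DihedralGroup.r i ∈ Subgroup.closure ({DihedralGroup.sr 0, DihedralGroup.sr 1} : Set (DihedralGroup n)) := by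
    intro i
    have : DihedralGroup.r i = DihedralGroup.r (1 : ZMod n) ^ i.val := by
      rw [DihedralGroup.r_one_pow, ZMod.natCast_zmod_val]
    rw [this]; exact pow_mem hr1 _
  cases x with
  | r i => exact hr i
  | sr i =>
    have : DihedralGroup.sr i = DihedralGroup.sr 0 * DihedralGroup.r i := by
      rw [DihedralGroup.sr_mul_r]; simp
    rw [this]; exact mul_mem h0 (hr i)

theorem exp_dvd_two : ∀ e : ℕ, e ^ 2 ∣ 168 → e ∣ 2 := by
  intro e he
  have h1 : e ^ 2 ≤ 168 := Nat.le_of_dvd (by norm_num) he
  have h2 : e < 13 := by nlinarith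
  interval_cases e <;> simp_all

theorem card_psl {F : Type*} [Field F] [Fintype F] (hF : Fintype.card F = 2) :
    Nat.card (Matrix.ProjectiveSpecialLinearGroup (Fin 3) F) = 168 := by
  have hcard := Cfsg.Agent.S0243.result hF 3 (by norm_num)
  rw [Fin.prod_univ_three] at hcard
  norm_num at hcard
  omega

/-- Exceptional Schur multiplier: over the field with 2 elements, PSL₃ has Schur multiplier cyclic of order 2 (here the Schur multiplier is described through stem extensions, as in the definitions). -/
theorem result {F : Type*} [Field F] [Fintype F] (hF : Fintype.card F = 2) : Cfsg.HasCyclicSchurMultiplier (Matrix.ProjectiveSpecialLinearGroup (Fin 3) F) 2 := by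
  classical
  have hs : IsSimpleGroup (Matrix.ProjectiveSpecialLinearGroup (Fin 3) F) :=
    Cfsg.Agent.Lib.Helper5.PSL_isSimpleGroup_of_three_le (by simp)
  have hc := card_psl hF
  constructor
  · -- existence: SL₂(7) → PSL₂(7) ≅ PSL₃(2)
    have : Fact (Nat.Prime 7) := ⟨by norm_num⟩
    let K := ULift.{u_1} (ZMod 7)
    have hK : Fintype.card K = 7 := by
      show Fintype.card (ULift.{u_1} (ZMod 7)) = 7
      rw [Fintype.card_ulift, ZMod.card]
    obtain ⟨e⟩ := Cfsg.Agent.S0255.result (F := K) (K := F) hK hF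
    have h7 : (7 : K) = 0 := by
      have := Nat.cast_card_eq_zero K
      rw [hK] at this
      exact_mod_cast this
    have hl0 : (2 : K) ≠ 0 := by
      intro h2
      have : (1 : K) = 7 - 3 * 2 := by norm_num
      rw [h7, h2] at this
      simp at this
    have hl1 : (2 : K) ^ 2 ≠ 1 := by
      intro h4
      have h3 : (3 : K) = 0 := by
        have : (3 : K) = 2 ^ 2 - 1 := by norm_num
        rw [this, h4, sub_self]
      have : (1 : K) = 7 - 2 * 3 := by norm_num
      rw [h7, h3] at this
      simp at this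
    have hperf : commutator (Matrix.SpecialLinearGroup (Fin 2) K) = ⊤ :=
      Cfsg.Agent.Lib.Helper44.Om4m.commutator_SL2_eq_top hl0 hl1
    have hcen : Nat.card (Subgroup.center (Matrix.SpecialLinearGroup (Fin 2) K)) = 2 :=
      Cfsg.Agent.S0805.card_center_sl2 (by rw [hK]; decide)
    let σ : Matrix.SpecialLinearGroup (Fin 2) K →* Matrix.ProjectiveSpecialLinearGroup (Fin 3) F :=
      e.toMonoidHom.comp (QuotientGroup.mk' (Subgroup.center (Matrix.SpecialLinearGroup (Fin 2) K)))
    have hker : σ.ker = Subgroup.center (Matrix.SpecialLinearGroup (Fin 2) K) := by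
      ext x
      rw [MonoidHom.mem_ker]
      show e (QuotientGroup.mk' _ x) = 1 ↔ _
      rw [MulEquiv.map_eq_one_iff, QuotientGroup.mk'_apply, QuotientGroup.eq_one_iff]
    refine ⟨Matrix.SpecialLinearGroup (Fin 2) K, inferInstance, inferInstance, σ, ⟨?_, ?_, ?_⟩, ?_⟩
    · exact e.surjective.comp (QuotientGroup.mk'_surjective _)
    · rw [hker]
    · rw [hperf]; exact le_top
    · apply mulEquiv_of_card_two
      rw [hker, hcen]
  · -- upper bound
    intro Γ _ _ σ hσ
    have hA := hasSchurMultiplier_multSub (Matrix.ProjectiveSpecialLinearGroup (Fin 3) F)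
    have hexp : Monoid.exponent (multSub (Matrix.ProjectiveSpecialLinearGroup (Fin 3) F)) ∣ 2 := by
      have := Cfsg.Agent.S3952.result hA
      rw [hc] at this
      exact exp_dvd_two _ this
    have : Fact (Nat.Prime 2) := ⟨Nat.prime_two⟩
    let T : Sylow 2 (Matrix.ProjectiveSpecialLinearGroup (Fin 3) F) := default
    obtain ⟨⟨e4⟩, -, -⟩ := Cfsg.Agent.S1004.result hc T
    have hB := hasSchurMultiplier_multSub (T : Subgroup (Matrix.ProjectiveSpecialLinearGroup (Fin 3) F))
    have hcardB : Nat.card (multSub (T : Subgroup (Matrix.ProjectiveSpecialLinearGroup (Fin 3) F))) ≤ 2 := by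
      obtain ⟨ΓT, hG, hFin, σT, hσT, ⟨eT⟩⟩ := hB.1
      rw [← Nat.card_congr eT.toEquiv]
      have ha : (e4.symm (DihedralGroup.sr 0)) ^ 2 = 1 := by
        rw [← map_pow, pow_two, DihedralGroup.sr_mul_self, map_one]
      have hb : (e4.symm (DihedralGroup.sr 1)) ^ 2 = 1 := by
        rw [← map_pow, pow_two, DihedralGroup.sr_mul_self, map_one]
      have hgen : Subgroup.closure ({e4.symm (DihedralGroup.sr 0), e4.symm (DihedralGroup.sr 1)} :
          Set (T : Subgroup (Matrix.ProjectiveSpecialLinearGroup (Fin 3) F))) = ⊤ := by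
        have h := dihedral_closure 4
        have h2 := congrArg (Subgroup.map e4.symm.toMonoidHom) h
        rw [MonoidHom.map_closure, Subgroup.map_top_of_surjective _ e4.symm.surjective] at h2
        rw [← h2]
        congr 1
        simp [Set.image_pair]
      exact card_ker_le_two_of_two_involutions ha hb hgen σT hσT
    obtain ⟨C, D, -, -, ⟨eC⟩⟩ := Cfsg.Agent.S3953.result 2 T hA hB
    have hprim : CommGroup.primaryComponent (multSub (Matrix.ProjectiveSpecialLinearGroup (Fin 3) F)) 2 = ⊤ := by
      rw [eq_top_iff]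
      intro x _
      have hx2 : x ^ 2 = 1 := Monoid.exponent_dvd_iff_forall_pow_eq_one.1 hexp x
      have hord : orderOf x ∣ 2 := orderOf_dvd_of_pow_eq_one hx2
      rw [CommGroup.mem_primaryComponent_iff_orderOf]
      rcases (Nat.dvd_prime Nat.prime_two).1 hord with h | h
      · exact ⟨0, by rw [h]; rfl⟩
      · exact ⟨1, by rw [h]; rfl⟩
    have hcardM : Nat.card (multSub (Matrix.ProjectiveSpecialLinearGroup (Fin 3) F)) ≤ 2 := by
      have h1 : Nat.card (multSub (Matrix.ProjectiveSpecialLinearGroup (Fin 3) F))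
          = Nat.card (CommGroup.primaryComponent (multSub (Matrix.ProjectiveSpecialLinearGroup (Fin 3) F)) 2) := by
        rw [hprim]
        exact (Nat.card_congr Subgroup.topEquiv.toEquiv).symm
      rw [h1, Nat.card_congr eC.toEquiv]
      exact (Subgroup.card_le_card_group C).trans hcardB
    obtain ⟨π, hπ⟩ := hA.2 Γ σ hσ
    have hk : Nat.card σ.ker ≤ 2 := (Nat.card_le_card_of_surjective π hπ).trans hcardM
    exact exists_surj_of_card_le_two hk

end Cfsg.Agent.S2087
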