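import Cfsg.Statements.S2093
import Cfsg.Agent.Lib.Helper89.Mult.Sp6Main
import Cfsg.Agent.Lib.Helper89.MultTransfer
import Cfsg.Agent.Lib.Helper89.ClassicalTransfer
import Cfsg.Agent.Lib.Helper5.SympCenter

set_option autoImplicit false
open Cfsg

namespace Cfsg.Agent.S2093

/-- Exceptional Schur multiplier: over the field with 2 elements, PSp₆ has Schur multiplier cyclic of order 2 (here the Schur multiplier is described through stem extensions, as in the definitions). -/
theorem result {F : Type*} [Field F] [Fintype F] (hF : Fintype.card F = 2) : Cfsg.HasCyclicSchurMultiplier (Cfsg.PSp 3 F) 2 := by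
  have hp2 : Fact (Nat.Prime 2) := ⟨Nat.prime_two⟩
  -- the centre of `Sp(6, 2)` is trivial
  have hc : Subgroup.center (Matrix.symplecticGroup (Fin 3) (ZMod 2)) = ⊥ := by
    apply Subgroup.eq_bot_of_card_eq
    rw [Cfsg.Agent.Lib.Helper5.card_center_symplecticGroup, ZMod.card]
    rfl
  exact Cfsg.Agent.Lib.Helper89.MultTransfer.hasSchurMultiplier_of_mulEquiv
    ((Cfsg.Agent.Lib.Helper89.ClassicalTransfer.pspCongr
      (ZMod.ringEquivOfPrime F Nat.prime_two hF).symm 3).trans
      (Cfsg.Agent.Lib.Helper89.ClassicalTransfer.quotCenterEquivOfEqBot hc))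
    Cfsg.Agent.Lib.Helper89.Mult.Sp6Main.multiplier_Sp6

end Cfsg.Agent.S2093
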