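import Cfsg.Statements.S2107
import Cfsg.Agent.Lib.Helper76.E8mCC
import Cfsg.Agent.Lib.Helper13.E8m_TBASIC
import Cfsg.Agent.Lib.Helper31.E8m_TLA
import Cfsg.Agent.Lib.Helper36.E8m_TDEC
import Cfsg.Agent.Lib.Helper1.E8m_TCONN
import Cfsg.Agent.Lib.Helper85.E8m_TOP

set_option autoImplicit false
open Cfsg

namespace Cfsg.Agent.S2107

/-- Schur multipliers of the Chevalley groups of type E₈: over every finite field the Schur multiplier of E₈(q) is trivial (here the Schur multiplier is described through stem extensions, as in the definitions). -/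
theorem result {F : Type*} [Field F] [Fintype F] : Cfsg.HasCyclicSchurMultiplier ↥(Cfsg.Lie.chevE8.group F) 1 :=
  Cfsg.Agent.Lib.Helper76.E8m.e8_multiplier_of_cc (fun _ _ φ hφ hc =>
    Cfsg.Agent.Lib.Helper76.E8m.cover_centrally_closed Cfsg.Agent.Lib.Helper18.chkSL_E8
      ⟨Cfsg.Agent.Lib.Helper76.E8m.tabBasic_E8, Cfsg.Agent.Lib.Helper76.E8m.tabLA_E8,
        Cfsg.Agent.Lib.Helper76.E8m.tabDec_E8, Cfsg.Agent.Lib.Helper76.E8m.tabConn_E8⟩ φ hφ hc)

end Cfsg.Agent.S2107
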