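import Cfsg.Statements.S2111
import Cfsg.Agent.Lib.Helper6.SzMult5
import Cfsg.Agent.Lib.Helper60.SzLieBridge

set_option autoImplicit false
open Cfsg

namespace Cfsg.Agent.S2111


open Cfsg.Agent.Lib.Helper6.Sz


/-- Schur multipliers of the Suzuki groups: for q = 2^(2m+1) with m ≥ 2 the Schur multiplier of Sz(q) is trivial (here the Schur multiplier is described through stem extensions, as in the definitions); q = 8 is exceptional. -/
theorem result {F : Type*} [Field F] [Fintype F] {m : ℕ} (hm : 2 ≤ m) (hF : Fintype.card F = 2 ^ (2 * m + 1)) : Cfsg.HasCyclicSchurMultiplier ↥(Cfsg.Lie.Sz F (2 ^ (m + 1))) 1 := by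
  have hm1 : 1 ≤ m := by omega
  have := charP_two hF
  have hkF : Nat.card F = 2 ^ (2 * m + 1) := by rw [Nat.card_eq_fintype_card, hF]
  have hs := sig_sig hF
  have hnt := sig_nt hm1 hF
  obtain ⟨φ, hφ⟩ : ∃ φ, φ = Cfsg.Agent.Lib.Helper60.SzLie.szEquiv hm1 hF := ⟨_, rfl⟩
  have hfin : Finite ↥(Cfsg.Lie.Sz F (2 ^ (m + 1))) := Finite.of_injective φ φ.injective
  refine ⟨⟨↥(Cfsg.Lie.Sz F (2 ^ (m + 1))), inferInstance, hfin, MonoidHom.id _, ?_, ?_⟩, ?_⟩
  · refine ⟨Function.surjective_id, ?_, ?_⟩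
    · rw [MonoidHom.ker_id]; exact bot_le
    · rw [MonoidHom.ker_id]; exact bot_le
  · have hsub : ∀ x : (MonoidHom.id ↥(Cfsg.Lie.Sz F (2 ^ (m + 1)))).ker, x = 1 := by
      intro x
      apply Subtype.ext
      exact x.2
    exact ⟨{ toFun := fun _ => 1
             invFun := fun _ => 1
             left_inv := fun x => (hsub x).symm
             right_inv := fun x => Subsingleton.elim _ _
             map_mul' := fun _ _ => (mul_one _).symm }⟩
  · intro Γ _ _ σ hσ
    obtain ⟨hsurj, hcen, hcomm⟩ := hσ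
    obtain ⟨σ', hσ'⟩ : ∃ σ' : Γ →* G (sig F m), σ' = φ.toMonoidHom.comp σ := ⟨_, rfl⟩
    have hker : σ'.ker = σ.ker := by
      rw [hσ']
      ext x
      rw [MonoidHom.mem_ker, MonoidHom.mem_ker, MonoidHom.comp_apply]
      exact φ.map_eq_one_iff
    have hsurj' : Function.Surjective σ' := by
      rw [hσ']
      exact φ.surjective.comp hsurj
    have hbot := ker_eq_bot_of_stem (sig F m) hs σ' hsurj' (by rw [hker]; exact hcen)
      (by rw [hker]; exact hcomm) hnt hm hkF (fun x => rfl)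
    rw [hker] at hbot
    refine ⟨1, ?_⟩
    intro x
    refine ⟨1, ?_⟩
    have h1 : ∀ y : Γ, y ∈ σ.ker → y = 1 := by
      intro y hy
      rw [hbot, Subgroup.mem_bot] at hy
      exact hy
    exact (Subtype.ext (h1 x x.2)).symm

end Cfsg.Agent.S2111
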