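import Cfsg.Statements.S2113
import Cfsg.Agent.Lib.Helper12.RtInst
import Cfsg.Agent.Lib.Helper12.RxMain
import Cfsg.Agent.Lib.Helper18.G2M7Ree

set_option autoImplicit false
open Cfsg

namespace Cfsg.Agent.S2113

/-- Schur multipliers of the small Ree groups: for q = 3^(2m+1) with m ≥ 1 the Schur multiplier of ²G₂(q) is trivial (here the Schur multiplier is described through stem extensions, as in the definitions). -/
theorem result {K : Type*} [Field K] [Fintype K] {m : ℕ} (hm : 1 ≤ m) (hK : Fintype.card K = 3 ^ (2 * m + 1)) : Cfsg.HasCyclicSchurMultiplier ↥(Cfsg.Lie.twistedG2 K (3 ^ m)) 1 := by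
  obtain ⟨ρ, hρ, hW, -⟩ := Cfsg.Agent.Lib.Helper18.G2M7.exists_ree_mod7 (m := m) hK
  have hfin : Finite ↥(Cfsg.Lie.twistedG2 K (3 ^ m)) := (Cfsg.Agent.Lib.Helper12.Rt.rtData hm hK).finite
  refine ⟨⟨↥(Cfsg.Lie.twistedG2 K (3 ^ m)), inferInstance, hfin, MonoidHom.id _, ?_, ?_⟩, ?_⟩
  · refine ⟨Function.surjective_id, ?_, ?_⟩
    · rw [MonoidHom.ker_id]; exact bot_le
    · rw [MonoidHom.ker_id]; exact bot_le
  · have hsub : ∀ x : (MonoidHom.id ↥(Cfsg.Lie.twistedG2 K (3 ^ m))).ker, x = 1 := by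
      intro x
      apply Subtype.ext
      exact x.2
    exact ⟨{ toFun := fun _ => 1
             invFun := fun _ => 1
             left_inv := fun x => (hsub x).symm
             right_inv := fun x => Subsingleton.elim _ _
             map_mul' := fun _ _ => (mul_one _).symm }⟩
  · intro Γ _ _ σ hσ
    obtain ⟨hsurj, hcen, hcomm⟩ := hσ
    have hbot := Cfsg.Agent.Lib.Helper12.Rx.ker_eq_bot_of_stem (Cfsg.Agent.Lib.Helper12.Rt.rtData hm hK) σ ρ hρ hW hm
      hsurj hcen hcomm
    refine ⟨1, ?_⟩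
    intro x
    refine ⟨1, ?_⟩
    have h1 : ∀ y : Γ, y ∈ σ.ker → y = 1 := by
      intro y hy
      rw [hbot, Subgroup.mem_bot] at hy
      exact hy
    exact (Subtype.ext (h1 x x.2)).symm

end Cfsg.Agent.S2113
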