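import Cfsg.Statements.S2115
import Cfsg.Agent.Lib.Helper1.TitsOdd
import Cfsg.Agent.Lib.Helper1.TitsEven

set_option autoImplicit false
open Cfsg

namespace Cfsg.Agent.S2115

open Cfsg.Agent.Lib.Helper1.TitsGen

/-- The Tits group, the commutator subgroup of ²F₄(2), has trivial Schur multiplier (here the Schur multiplier is described through stem extensions, as in the definitions). -/
theorem result : Cfsg.HasCyclicSchurMultiplier Cfsg.Lie.TitsGroup 1 := by
  have h3 : Fact (Nat.Prime 3) := ⟨by norm_num⟩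
  have h5 : Fact (Nat.Prime 5) := ⟨by norm_num⟩
  exact tits_multiplier_of
    (fun Γ _ _ σ hσ => tits_not_dvd_two Γ σ hσ)
    (fun Γ _ _ σ hσ => tits_not_dvd_odd 3 3 665600 (by norm_num) (by norm_num) (by norm_num) Γ σ hσ)
    (fun Γ _ _ σ hσ => tits_not_dvd_odd 5 2 718848 (by norm_num) (by norm_num) (by norm_num) Γ σ hσ)

end Cfsg.Agent.S2115
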