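import Cfsg.Statements.S2116
import Cfsg.Agent.S0447
import Cfsg.Agent.Lib.Helper65.MultBounds
import Cfsg.Agent.Lib.Helper65.TripleA6Cover
import Cfsg.Agent.Lib.Helper65.TripleA7

set_option autoImplicit false
open Cfsg

namespace Cfsg.Agent.S2116

open Cfsg.Agent.Lib.Helper65 Equiv

universe u

/-- the subgroup generated by two involutions `u, v` with `u ∉ ⟨uv⟩` has order `2 |uv|` -/
theorem card_closure_dihedral {K : Type*} [Group K] [Finite K] (u v : K) (hu : u * u = 1)
    (hv : v * v = 1) (m : ℕ) (hm : 0 < m) (hord : orderOf (u * v) = m)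
    (hne : u ∉ Subgroup.zpowers (u * v)) :
    Nat.card (Subgroup.closure ({u, v} : Set K)) = 2 * m := by
  set H := Subgroup.closure ({u, v} : Set K) with hH
  have hle : Nat.card H ≤ 2 * m :=
    Cfsg.Agent.S0447.card_closure_pair_le u v hu hv m hm (by rw [← hord]; exact pow_orderOf_eq_one _)
  have huH : u ∈ H := Subgroup.subset_closure (by simp)
  have hvH : v ∈ H := Subgroup.subset_closure (by simp)
  have hZle : Subgroup.zpowers (u * v) ≤ H := by
    rw [Subgroup.zpowers_le]; exact mul_mem huH hvH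
  have hZc : Nat.card (Subgroup.zpowers (u * v)) = m := by rw [Nat.card_zpowers, hord]
  obtain ⟨k, hk⟩ : m ∣ Nat.card H := by rw [← hZc]; exact Subgroup.card_dvd_of_le hZle
  have hk1 : k ≠ 1 := by
    intro h1
    rw [h1, mul_one] at hk
    have : Subgroup.zpowers (u * v) = H := by
      apply Subgroup.eq_of_le_of_card_ge hZle
      rw [hZc, hk]
    apply hne
    rw [this]
    exact huH
  have hk0 : k ≠ 0 := by
    intro h0
    rw [h0, mul_zero] at hk
    have : 0 < Nat.card H := Nat.card_pos
    omega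
  have hk2 : k ≤ 2 := by
    by_contra hcon
    push Not at hcon
    have : m * 3 ≤ m * k := Nat.mul_le_mul_left m hcon
    omega
  have : k = 2 := by omega
  rw [hk, this, mul_comm]

/-- the generators generate, inside the generated subgroup -/
theorem closure_pair_top {K : Type*} [Group K] (u v : K) :
    Subgroup.closure ({⟨u, Subgroup.subset_closure (by simp)⟩,
      ⟨v, Subgroup.subset_closure (by simp)⟩} : Set (Subgroup.closure ({u, v} : Set K))) = ⊤ := by
  have h := Subgroup.closure_closure_coe_preimage (k := ({u, v} : Set K))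
  rw [← h]
  congr 1
  ext x
  simp only [Set.mem_insert_iff, Set.mem_singleton_iff, Set.mem_preimage]
  constructor
  · rintro (rfl | rfl)
    · left; rfl
    · right; rfl
  · rintro (h | h)
    · left; exact Subtype.ext h
    · right; exact Subtype.ext h

/-- the order of a Sylow subgroup from a factorisation of the group order -/
theorem card_sylow_of_card_eq {G : Type*} [Group G] [Finite G] (p k m : ℕ) [hp : Fact p.Prime]
    (hG : Nat.card G = p ^ k * m) (hm : ¬ p ∣ m) (S : Sylow p G) : Nat.card S = p ^ k := by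
  have hm0 : m ≠ 0 := by
    rintro rfl
    exact hm (dvd_zero p)
  rw [S.card_eq_multiplicity, hG, Nat.factorization_mul (pow_ne_zero k hp.out.ne_zero) hm0,
    Nat.Prime.factorization_pow hp.out, Finsupp.add_apply, Finsupp.single_eq_same,
    Nat.factorization_eq_zero_of_not_dvd hm, add_zero]

/-- a commutative group of order 6 is cyclic -/
theorem isCyclic_of_card_six {M : Type*} [CommGroup M] [Finite M] (h : Nat.card M = 6) :
    IsCyclic M := by
  have : Fact (Nat.Prime 2) := ⟨Nat.prime_two⟩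
  have : Fact (Nat.Prime 3) := ⟨Nat.prime_three⟩
  obtain ⟨x, hx⟩ := exists_prime_orderOf_dvd_card' (G := M) 2 (by rw [h]; norm_num)
  obtain ⟨y, hy⟩ := exists_prime_orderOf_dvd_card' (G := M) 3 (by rw [h]; norm_num)
  apply isCyclic_of_orderOf_eq_card (x * y)
  rw [(Commute.all x y).orderOf_mul_eq_mul_orderOf_of_coprime (by rw [hx, hy]; norm_num), hx, hy, h]

/-- the multiplier is cyclic of order 6 under Sylow bounds and existence of covers -/
theorem six_of_bounds (G : Type u) [Group G] [Finite G]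
    (H2 : Subgroup G) (hH2 : Nat.Coprime 2 H2.index) (h2 : Nat.card (multSub H2) ≤ 2)
    (h3 : ∀ S : Sylow 3 G, Nat.card S = 3 ^ 2)
    (hp : ∀ p : ℕ, p.Prime → p ≠ 2 → p ≠ 3 → ¬ p ^ 2 ∣ Nat.card G)
    (hl2 : ∃ (Γ : Type u) (_ : Group Γ) (_ : Finite Γ) (σ : Γ →* G),
      Cfsg.IsStemExtension σ ∧ Nat.card σ.ker = 2)
    (hl3 : ∃ (Γ : Type u) (_ : Group Γ) (_ : Finite Γ) (σ : Γ →* G),
      Cfsg.IsStemExtension σ ∧ Nat.card σ.ker = 3) :
    Cfsg.HasCyclicSchurMultiplier G 6 := by
  classical
  have hn0 : 0 < Nat.card (multSub G) := Nat.card_pos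
  have d2 : 2 ∣ Nat.card (multSub G) := by
    obtain ⟨Γ, _, _, σ, hσ, hc⟩ := hl2
    rw [← hc]
    exact card_ker_dvd_card_multSub σ hσ
  have d3 : 3 ∣ Nat.card (multSub G) := by
    obtain ⟨Γ, _, _, σ, hσ, hc⟩ := hl3
    rw [← hc]
    exact card_ker_dvd_card_multSub σ hσ
  have n4 : ¬ 4 ∣ Nat.card (multSub G) := by
    intro h
    have : Fact (Nat.Prime 2) := ⟨Nat.prime_two⟩
    let P : Sylow 2 (multSub G) := default
    have h1 : 2 ^ 2 ∣ Nat.card P := P.pow_dvd_card_of_pow_dvd_card (by norm_num; exact h)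
    have h2' := card_sylow_multSub_le G H2 2 hH2 P
    have := Nat.le_of_dvd Nat.card_pos h1
    omega
  have n9 : ¬ 9 ∣ Nat.card (multSub G) := by
    intro h
    have : Fact (Nat.Prime 3) := ⟨Nat.prime_three⟩
    let S : Sylow 3 G := default
    let P : Sylow 3 (multSub G) := default
    have h1 : 3 ^ 2 ∣ Nat.card P := P.pow_dvd_card_of_pow_dvd_card (by norm_num; exact h)
    have hb := card_sylow_multSub_le G (S : Subgroup G) 3
      ((Nat.Prime.coprime_iff_not_dvd Nat.prime_three).2 S.not_dvd_index) P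
    have hS := card_multSub_le_of_card_prime_sq (S : Subgroup G) 3 (h3 S)
    have := Nat.le_of_dvd Nat.card_pos h1
    omega
  have np : ∀ p : ℕ, p.Prime → p ≠ 2 → p ≠ 3 → ¬ p ∣ Nat.card (multSub G) := by
    intro p hpp hp2 hp3 hd
    have : Fact p.Prime := ⟨hpp⟩
    let R : Sylow p G := default
    let P : Sylow p (multSub G) := default
    have h1 : p ^ 1 ∣ Nat.card P := P.pow_dvd_card_of_pow_dvd_card (by rwa [pow_one])
    have hcyc : IsCyclic (R : Subgroup G) := by
      obtain ⟨k, hk⟩ := IsPGroup.iff_card.1 R.isPGroup'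
      have hk1 : k ≤ 1 := by
        by_contra hcon
        push Not at hcon
        apply hp p hpp hp2 hp3
        calc p ^ 2 ∣ p ^ k := pow_dvd_pow p hcon
          _ = Nat.card (R : Subgroup G) := hk.symm
          _ ∣ Nat.card G := Subgroup.card_subgroup_dvd_card _
      interval_cases k
      · have hs : Subsingleton (R : Subgroup G) :=
          (Nat.card_eq_one_iff_unique.1 (by simpa using hk)).1
        exact isCyclic_of_subsingleton
      · exact isCyclic_of_prime_card (p := p) (by simpa using hk)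
    have hsub := multSub_subsingleton_of_isCyclic (R : Subgroup G)
    have hb := card_sylow_multSub_le G (R : Subgroup G) p
      ((Nat.Prime.coprime_iff_not_dvd hpp).2 R.not_dvd_index) P
    have h1c : Nat.card (multSub (R : Subgroup G)) = 1 :=
      Nat.card_eq_one_iff_unique.2 ⟨hsub, ⟨1⟩⟩
    have h1' := Nat.le_of_dvd Nat.card_pos h1
    have := hpp.two_le
    rw [pow_one] at h1'
    omega
  have hn6 : Nat.card (multSub G) = 6 := by
    have d6 : 2 * 3 ∣ Nat.card (multSub G) :=
      Nat.Coprime.mul_dvd_of_dvd_of_dvd (by norm_num) d2 d3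
    obtain ⟨k, hk⟩ := d6
    have hk1 : k = 1 := by
      by_contra hne
      obtain ⟨q, hq, hqk⟩ := Nat.exists_prime_and_dvd hne
      obtain ⟨j, rfl⟩ := hqk
      by_cases q2 : q = 2
      · apply n4
        subst q2
        exact ⟨3 * j, by rw [hk]; ring⟩
      by_cases q3 : q = 3
      · apply n9
        subst q3
        exact ⟨2 * j, by rw [hk]; ring⟩
      · exact np q hq q2 q3 ⟨6 * j, by rw [hk]; ring⟩
    rw [hk, hk1]
  have hcyc : IsCyclic (multSub G) := isCyclic_of_card_six hn6
  have e := zmodCyclicMulEquiv hcyc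
  rw [hn6] at e
  exact hasSchurMultiplier_of_mulEquiv (hasSchurMultiplier_multSub G) e.symm

/-- the double cover of `A_n` as a stem extension -/
theorem exists_double (n : ℕ) (hn : 4 ≤ n) :
    ∃ (Γ : Type) (_ : Group Γ) (_ : Finite Γ) (σ : Γ →* alternatingGroup (Fin n)),
      Cfsg.IsStemExtension σ ∧ Nat.card σ.ker = 2 := by
  obtain ⟨S, -⟩ : ∃ S : SpinCover.CSys n (CliffordAlgebra (SpinCover.Qf n)),
    S = SpinCover.cliffSys n := ⟨_, rfl⟩
  refine ⟨S.Γs, inferInstance, S.finite_Γs, S.ψ, ⟨S.ψ_surj, ?_, ?_⟩, ?_⟩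
  · rw [S.ψ_ker, Subgroup.zpowers_le]
    exact S.zΓ_center
  · rw [S.ψ_ker, Subgroup.zpowers_le]
    exact S.zΓ_mem_commutator hn
  · rw [S.ψ_ker, Nat.card_zpowers, S.orderOf_zΓ]

/-- the common argument for `A₆` and `A₇` -/
theorem alt_case (n : ℕ) (hn : 4 ≤ n) (N : ℕ)
    (hcard : Nat.card (alternatingGroup (Fin n)) = 8 * 9 * N)
    (hN2 : ¬ 2 ∣ N) (hN3 : ¬ 3 ∣ N)
    (hp : ∀ p : ℕ, p.Prime → p ≠ 2 → p ≠ 3 → ¬ p ^ 2 ∣ 8 * 9 * N)
    (u v : alternatingGroup (Fin n)) (hu : u * u = 1) (hv : v * v = 1)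
    (h4 : (u * v) ^ 4 = 1) (h2 : (u * v) ^ 2 ≠ 1) (hne : ∀ k < 4, u ≠ (u * v) ^ k)
    (hl3 : ∃ (Γ : Type) (_ : Group Γ) (_ : Finite Γ) (σ : Γ →* alternatingGroup (Fin n)),
      Cfsg.IsStemExtension σ ∧ Nat.card σ.ker = 3) :
    Cfsg.HasCyclicSchurMultiplier (alternatingGroup (Fin n)) 6 := by
  classical
  have : Fact (Nat.Prime 2) := ⟨Nat.prime_two⟩
  have : Fact (Nat.Prime 3) := ⟨Nat.prime_three⟩
  have hord : orderOf (u * v) = 4 := by
    have := orderOf_eq_prime_pow (x := u * v) (p := 2) (n := 1) (by norm_num; exact h2)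
      (by norm_num; exact h4)
    simpa using this
  have hnz : u ∉ Subgroup.zpowers (u * v) := by
    rw [(isOfFinOrder_of_finite (u * v)).mem_zpowers_iff_mem_range_orderOf, hord]
    simp only [Finset.mem_image, Finset.mem_range, not_exists, not_and]
    intro k hk h
    exact hne k hk h.symm
  have hc8 := card_closure_dihedral u v hu hv 4 (by norm_num) hord hnz
  set H2 := Subgroup.closure ({u, v} : Set (alternatingGroup (Fin n))) with hH2
  have hidx : H2.index = 9 * N := by
    have h := H2.index_mul_card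
    rw [hc8, hcard] at h
    have : H2.index * 8 = (9 * N) * 8 := by rw [h]; ring
    exact Nat.eq_of_mul_eq_mul_right (by norm_num) this
  have hcop : Nat.Coprime 2 H2.index := by
    rw [hidx, Nat.Prime.coprime_iff_not_dvd Nat.prime_two]
    intro hd
    exact hN2 ((Nat.Coprime.dvd_mul_left (by norm_num : Nat.Coprime 2 9)).1 hd)
  have hm2 : Nat.card (multSub H2) ≤ 2 := by
    apply card_multSub_le_two_of_two_involutions H2
      ⟨u, Subgroup.subset_closure (by simp)⟩ ⟨v, Subgroup.subset_closure (by simp)⟩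
    · apply Subtype.ext
      rw [pow_two]
      exact hu
    · apply Subtype.ext
      rw [pow_two]
      exact hv
    · exact closure_pair_top u v
  apply six_of_bounds (alternatingGroup (Fin n)) H2 hcop hm2
  · intro S
    apply card_sylow_of_card_eq 3 2 (8 * N) _ _ S
    · rw [hcard]; ring
    · intro hd
      exact hN3 ((Nat.Coprime.dvd_mul_left (by norm_num : Nat.Coprime 3 8)).1 hd)
  · rw [hcard]
    exact hp
  · exact exists_double n hn
  · exact hl3

theorem no_sq_dvd (N : ℕ) (hN : N = 5 ∨ N = 35) :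
    ∀ p : ℕ, p.Prime → p ≠ 2 → p ≠ 3 → ¬ p ^ 2 ∣ 8 * 9 * N := by
  intro p hpp h2 h3 hd
  have hle : p ^ 2 ≤ 8 * 9 * N := Nat.le_of_dvd (by rcases hN with rfl | rfl <;> norm_num) hd
  have hp51 : p < 51 := by
    by_contra hcon
    push Not at hcon
    have : 51 * 51 ≤ p * p := Nat.mul_le_mul hcon hcon
    rcases hN with rfl | rfl <;> nlinarith
  rcases hN with rfl | rfl
  · interval_cases p <;> revert hpp hd h2 h3 <;> decide
  · interval_cases p <;> revert hpp hd h2 h3 <;> decide

theorem alt6 : Cfsg.HasCyclicSchurMultiplier (alternatingGroup (Fin 6)) 6 := by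
  apply alt_case 6 (by norm_num) 5 (by rw [Cfsg.Agent.S0447.card_alt 6 (by norm_num)]; decide)
    (by decide) (by decide) (no_sq_dvd 5 (Or.inl rfl))
    ⟨swap 0 1 * swap 2 3, Cfsg.Agent.S0447.dswap_mem (by decide) (by decide)⟩
    ⟨swap 1 2 * swap 4 5, Cfsg.Agent.S0447.dswap_mem (by decide) (by decide)⟩
  · decide
  · decide
  · decide
  · decide
  · decide
  · exact TripleA6.exists_triple_cover

theorem alt7 : Cfsg.HasCyclicSchurMultiplier (alternatingGroup (Fin 7)) 6 := by
  apply alt_case 7 (by norm_num) 35 (by rw [Cfsg.Agent.S0447.card_alt 7 (by norm_num)]; decide)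
    (by decide) (by decide) (no_sq_dvd 35 (Or.inr rfl))
    ⟨swap 0 1 * swap 2 3, Cfsg.Agent.S0447.dswap_mem (by decide) (by decide)⟩
    ⟨swap 1 2 * swap 4 5, Cfsg.Agent.S0447.dswap_mem (by decide) (by decide)⟩
  · decide
  · decide
  · decide
  · decide
  · decide
  · exact TripleA7.exists_triple_cover

/-- Exceptional Schur multipliers of the alternating groups: for n = 6 and n = 7 the Schur multiplier of the alternating group of degree n is cyclic of order 6 (here the Schur multiplier is described through stem extensions, as in the definitions). -/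
theorem result (n : ℕ) (hn : n = 6 ∨ n = 7) : Cfsg.HasCyclicSchurMultiplier (alternatingGroup (Fin n)) 6 := by
  rcases hn with rfl | rfl
  · exact alt6
  · exact alt7

end Cfsg.Agent.S2116
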