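import Cfsg.Statements.S2118
import Cfsg.Agent.S2117
import Cfsg.Agent.S0254
import Cfsg.Agent.S0805
import Cfsg.Agent.Lib.Helper65.TripleA6Cover
import Cfsg.Agent.Lib.Helper65.Pullback
import Cfsg.Agent.Lib.Helper65.MetacyclicMult
import Cfsg.Agent.Lib.Helper65.TransferComm

set_option autoImplicit false
open Cfsg

namespace Cfsg.Agent.S2118

open Cfsg.Agent.Lib.Helper65 Cfsg.Agent.Lib.Helper65.SL2Mult
open scoped commutatorElement

universe u

/-- the triple cover of `A₆` pulls back to a stem extension of `SL₂(9)` with kernel of order 3 -/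
theorem lower {F : Type u} [Field F] [Fintype F] (hF : Fintype.card F = 9) :
    ∃ (Γ : Type u) (_ : Group Γ) (_ : Finite Γ) (σ : Γ →* Matrix.SpecialLinearGroup (Fin 2) F),
      Cfsg.IsStemExtension σ ∧ Nonempty (σ.ker ≃* Multiplicative (ZMod 3)) := by
  classical
  obtain ⟨e⟩ := Cfsg.Agent.S0254.result hF
  obtain ⟨T, _, _, τ, hτ, hτc⟩ := TripleA6.exists_triple_cover
  let f : Matrix.SpecialLinearGroup (Fin 2) F →* alternatingGroup (Fin 6) :=
    e.toMonoidHom.comp (QuotientGroup.mk' (Subgroup.center (Matrix.SpecialLinearGroup (Fin 2) F)))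
  have hf : Function.Surjective f := e.surjective.comp (QuotientGroup.mk'_surjective _)
  have hker : f.ker = Subgroup.center (Matrix.SpecialLinearGroup (Fin 2) F) := by
    ext x
    rw [MonoidHom.mem_ker]
    show e (QuotientGroup.mk' _ x) = 1 ↔ _
    rw [MulEquiv.map_eq_one_iff, QuotientGroup.mk'_apply, QuotientGroup.eq_one_iff]
  have hcard : Nat.card f.ker = 2 := by
    rw [hker]
    exact Cfsg.Agent.S0805.card_center_sl2 (by rw [hF]; decide)
  obtain ⟨Γ, _, _, σ, hσ, ⟨eK⟩⟩ := exists_pullback_stem τ hτ f hf (by rw [hcard, hτc]; decide)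
  refine ⟨Γ, inferInstance, inferInstance, σ, hσ, ?_⟩
  have hc3 : Nat.card σ.ker = 3 := by rw [Nat.card_congr eK.toEquiv, hτc]
  have : Fact (Nat.Prime 3) := ⟨Nat.prime_three⟩
  have hcyc : IsCyclic σ.ker := isCyclic_of_prime_card hc3
  have e2 := zmodCyclicMulEquiv hcyc
  rw [hc3] at e2
  exact ⟨e2.symm⟩

/-- in a stem extension of `SL₂(F)`, the kernel has no element of prime order different from
the characteristic (Sylow subgroups for such primes have trivial multiplier) -/
theorem no_torsion_ne_char {F : Type*} [Field F] [Fintype F] {Γ : Type*} [Group Γ] [Finite Γ]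
    (σ : Γ →* Matrix.SpecialLinearGroup (Fin 2) F) (hσ : Cfsg.IsStemExtension σ)
    (r : ℕ) (hrp : r.Prime) (hrp' : r ≠ ringChar F) (z : Γ) (hz : z ∈ σ.ker)
    (hord : orderOf z = r) : False := by
  classical
  have : Fact r.Prime := ⟨hrp⟩
  set p := ringChar F with hpdef
  have : CharP F p := ringChar.charP F
  have hpp : p.Prime := CharP.char_is_prime F p
  have : Fact p.Prime := ⟨hpp⟩
  obtain ⟨n, -, hn⟩ := FiniteField.card F p
  let R : Sylow r (Matrix.SpecialLinearGroup (Fin 2) F) := default
  have hR : ∀ (Δ : Type _) [Group Δ] [Finite Δ]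
      (τ : Δ →* (R : Subgroup (Matrix.SpecialLinearGroup (Fin 2) F))),
      Cfsg.IsStemExtension τ → τ.ker = ⊥ := by
    intro Δ _ _ τ hτ
    by_cases hr2 : r = 2
    · subst hr2
      have hodd : Odd (Fintype.card F) := by
        rw [hn]
        apply Odd.pow
        exact hpp.odd_of_ne_two (fun h => hrp' h.symm)
      obtain ⟨k, -, ⟨e⟩⟩ := Cfsg.Agent.S0261.result hodd R
      have : NeZero (2 ^ k) := ⟨by positivity⟩
      obtain ⟨hst, hk⟩ := Cfsg.Agent.S2117.stem_comp_equiv e τ hτ
      rw [← hk]
      exact stem_ker_eq_bot_quaternion (2 ^ k) _ hst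
    · have hc : IsCyclic (R : Subgroup (Matrix.SpecialLinearGroup (Fin 2) F)) :=
        Cfsg.Agent.S0262.result p r hr2 hrp' R
      exact stem_ker_eq_bot_of_isCyclic τ hτ
  have h1 := pow_index_eq_one_of_trivial_mult
    (R : Subgroup (Matrix.SpecialLinearGroup (Fin 2) F)) hR σ hσ z hz
  have hdvd : r ∣ (R : Subgroup (Matrix.SpecialLinearGroup (Fin 2) F)).index := by
    have := orderOf_dvd_of_pow_eq_one h1
    rwa [hord] at this
  exact R.not_dvd_index hdvd

/-- the order of a kernel element is prime to every prime different from the characteristic -/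
theorem not_dvd_orderOf {F : Type*} [Field F] [Fintype F] {Γ : Type*} [Group Γ] [Finite Γ]
    (σ : Γ →* Matrix.SpecialLinearGroup (Fin 2) F) (hσ : Cfsg.IsStemExtension σ)
    (r : ℕ) (hrp : r.Prime) (hrp' : r ≠ ringChar F) (z : Γ) (hz : z ∈ σ.ker) :
    ¬ r ∣ orderOf z := by
  intro hdvd
  obtain ⟨m, hm⟩ := hdvd
  have hpos : 0 < orderOf z := orderOf_pos z
  have hm0 : 0 < m := by
    rcases Nat.eq_zero_or_pos m with h | h
    · rw [h, mul_zero] at hm; omega
    · exact h
  have hord : orderOf (z ^ m) = r := by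
    rw [orderOf_pow' z hm0.ne', hm, Nat.gcd_eq_right (Dvd.intro_left r rfl),
      Nat.mul_div_cancel _ hm0]
  exact no_torsion_ne_char σ hσ r hrp hrp' (z ^ m) (pow_mem hz m) hord

/-- the kernel of every finite stem extension of `SL₂(9)` is cyclic of order dividing 3 -/
theorem upper {F : Type*} [Field F] [Fintype F] (hF : Fintype.card F = 9)
    {Γ : Type*} [Group Γ] [Finite Γ]
    (σ : Γ →* Matrix.SpecialLinearGroup (Fin 2) F) (hσ : Cfsg.IsStemExtension σ) :
    ∃ π : Multiplicative (ZMod 3) →* σ.ker, Function.Surjective π := by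
  classical
  -- the characteristic
  have h9 : (9 : F) = 0 := by
    have := Nat.cast_card_eq_zero F
    rw [hF] at this
    exact_mod_cast this
  have h3 : (3 : F) = 0 := by
    have : (3 : F) * 3 = 0 := by rw [← h9]; norm_num
    exact mul_self_eq_zero.1 this
  have h2 : (2 : F) ≠ 0 := by
    intro h
    have e : (3 : F) = 2 + 1 := by norm_num
    rw [e, h, zero_add] at h3
    exact one_ne_zero h3
  have hchar : ringChar F = 3 := by
    have : ringChar F ∣ 3 := by
      apply ringChar.dvd
      exact_mod_cast h3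
    exact ((Nat.dvd_prime Nat.prime_three).1 this).resolve_left CharP.ringChar_ne_one
  -- orders of kernel elements are prime to 80
  have hcop : ∀ z ∈ σ.ker, Nat.Coprime 80 (orderOf z) := by
    intro z hz
    have h2' := not_dvd_orderOf σ hσ 2 Nat.prime_two (by rw [hchar]; decide) z hz
    have h5' := not_dvd_orderOf σ hσ 5 (by norm_num) (by rw [hchar]; decide) z hz
    have e : 80 = 2 ^ 4 * 5 := by norm_num
    rw [e]
    apply Nat.Coprime.mul_left
    · apply Nat.Coprime.pow_left
      exact (Nat.Prime.coprime_iff_not_dvd Nat.prime_two).2 h2'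
    · exact (Nat.Prime.coprime_iff_not_dvd (by norm_num)).2 h5'
  -- the preimage of the unipotent subgroup
  set Ut : Subgroup Γ := (U (F := F)).comap σ with hUt
  have hidx : Ut.index = 80 := by
    rw [Subgroup.index_comap_of_surjective _ hσ.1, index_U, hF]
    norm_num
  have hkerle : σ.ker ≤ Ut := by
    intro z hz
    rw [hUt, Subgroup.mem_comap, MonoidHom.mem_ker.1 hz]
    exact one_mem _
  let σU : Ut →* (U (F := F)) := σ.subgroupComap U
  have hσU : ∀ x : Ut, ((σU x : U (F := F)) : Matrix.SpecialLinearGroup (Fin 2) F) = σ x :=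
    fun x => rfl
  have hσUsurj : Function.Surjective σU :=
    MonoidHom.subgroupComap_surjective_of_surjective σ U hσ.1
  have hkerU : ∀ x : Ut, x ∈ σU.ker ↔ (x : Γ) ∈ σ.ker := by
    intro x
    rw [MonoidHom.mem_ker, MonoidHom.mem_ker, ← hσU, Subtype.ext_iff]
    rfl
  have hstem : Cfsg.IsStemExtension σU := by
    refine ⟨hσUsurj, ?_, ?_⟩
    · intro x hx
      rw [Subgroup.mem_center_iff]
      intro g
      have := (Subgroup.mem_center_iff.1 (hσ.2.1 ((hkerU x).1 hx))) g
      exact Subtype.ext this
    · intro x hx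
      have hxk := (hkerU x).1 hx
      obtain ⟨h, hmem⟩ := pow_index_mem_commutator Ut (x : Γ) (hσ.2.1 hxk) (hσ.2.2 hxk)
      obtain ⟨m, hm⟩ := exists_pow_eq_self_of_coprime (hcop _ hxk)
      have : x = (⟨(x : Γ) ^ Ut.index, h⟩ : Ut) ^ m := by
        apply Subtype.ext
        rw [Subgroup.coe_pow]
        simp only
        rw [hidx]
        exact hm.symm
      rw [this]
      exact pow_mem hmem m
  -- a third element
  obtain ⟨t, ht0, ht1, htm⟩ : ∃ t : F, t ≠ 0 ∧ t ≠ 1 ∧ t ≠ -1 := by
    by_contra hcon
    push Not at hcon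
    have hsub : (Finset.univ : Finset F) ⊆ {0, 1, -1} := by
      intro x _
      by_cases hx0 : x = 0
      · simp [hx0]
      by_cases hx1 : x = 1
      · simp [hx1]
      · have := hcon x hx0 hx1
        simp [this]
    have := Finset.card_le_card hsub
    rw [Finset.card_univ, hF] at this
    have h3' : ({0, 1, -1} : Finset F).card ≤ 3 := Finset.card_le_three
    omega
  have h1m : (1 : F) ≠ -1 := by
    intro h
    apply h2
    have : (2 : F) = 1 + 1 := by norm_num
    rw [this]
    nth_rewrite 2 [h]
    exact add_neg_cancel 1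
  have h0m : (0 : F) ≠ -1 := by
    intro h
    have := neg_eq_zero.1 h.symm
    exact one_ne_zero this
  have hcard4 : ({0, 1, -1, t} : Finset F).card = 4 := by
    rw [Finset.card_insert_of_notMem, Finset.card_insert_of_notMem,
      Finset.card_insert_of_notMem, Finset.card_singleton]
    · simpa using htm.symm
    · simp only [Finset.mem_insert, Finset.mem_singleton, not_or]
      exact ⟨h1m, ht1.symm⟩
    · simp only [Finset.mem_insert, Finset.mem_singleton, not_or]
      exact ⟨zero_ne_one, h0m, ht0.symm⟩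
  let ι : F → U (F := F) := fun x => ⟨uu x, mem_U.2 ⟨x, rfl⟩⟩
  have hι : Function.Injective ι := fun x y h => uu_injective (congrArg Subtype.val h)
  have hιadd : ∀ x y, ι (x + y) = ι x * ι y := fun x y => Subtype.ext (uu_add x y)
  have hι0 : ι 0 = 1 := Subtype.ext uu_zero
  have hgenU : Subgroup.closure ({ι 1, ι t} : Set (U (F := F))) = ⊤ := by
    set H := Subgroup.closure ({ι 1, ι t} : Set (U (F := F))) with hH
    have hdvd : Nat.card H ∣ 9 := by
      have := Subgroup.card_subgroup_dvd_card H
      rwa [card_U, hF] at this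
    have h4 : 4 ≤ Nat.card H := by
      have hsub : ((({0, 1, -1, t} : Finset F).image ι : Finset _) : Set (U (F := F)))
          ⊆ (H : Set _) := by
        intro y hy
        rw [Finset.mem_coe, Finset.mem_image] at hy
        obtain ⟨x, hx, rfl⟩ := hy
        simp only [Finset.mem_insert, Finset.mem_singleton] at hx
        rcases hx with rfl | rfl | rfl | rfl
        · rw [hι0]; exact one_mem _
        · exact Subgroup.subset_closure (by simp)
        · have : ι (-1) = (ι 1)⁻¹ := by
            rw [eq_inv_iff_mul_eq_one, ← hιadd, neg_add_cancel, hι0]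
          rw [this]
          exact inv_mem (Subgroup.subset_closure (by simp))
        · exact Subgroup.subset_closure (by simp)
      have := Set.ncard_le_ncard hsub (Set.toFinite _)
      rw [Set.ncard_coe_finset, Finset.card_image_of_injective _ hι, hcard4] at this
      have e : Nat.card H = (H : Set (U (F := F))).ncard := Nat.card_coe_set_eq _
      rw [e]
      exact this
    have h9' : Nat.card H = 9 := by
      have hdvd' : Nat.card H ∣ 3 ^ 2 := by
        have e : (3 : ℕ) ^ 2 = 9 := by norm_num
        rw [e]; exact hdvd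
      obtain ⟨m, hm, hm'⟩ := (Nat.dvd_prime_pow Nat.prime_three).1 hdvd'
      interval_cases m <;> omega
    apply Subgroup.eq_top_of_card_eq
    rw [h9', card_U, hF]
  -- lifts of the generators
  obtain ⟨α, hα⟩ := hσUsurj (ι 1)
  obtain ⟨β, hβ⟩ := hσUsurj (ι t)
  have hgen : Subgroup.closure {σU α, σU β} = ⊤ := by rw [hα, hβ]; exact hgenU
  set c := α * β * α⁻¹ * β⁻¹ with hc
  have hcker : c ∈ σU.ker := by
    rw [MonoidHom.mem_ker, hc, map_mul, map_mul, map_mul, map_inv, map_inv]
    have hcomm : σU α * σU β = σU β * σU α := by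
      rw [hα, hβ, ← hιadd, ← hιadd, add_comm]
    rw [hcomm, mul_assoc (σU β), mul_inv_cancel, mul_one, mul_inv_cancel]
  have hccen : c ∈ Subgroup.center Ut := hstem.2.1 hcker
  have hnorm : ∀ g : Ut, g ∈ Subgroup.normalizer (Subgroup.zpowers c : Set Ut) := by
    intro g
    apply Metacyclic.mem_normalizer_zpowers_of_conj_mem
    have := (Subgroup.mem_center_iff.1 hccen) g
    rw [this, mul_inv_cancel_right]
    exact Subgroup.mem_zpowers c
  have hle := ker_le_zpowers_of_normalizer σU hstem α β hgen (hnorm α) (hnorm β)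
  have hα3 : α ^ 3 ∈ σU.ker := by
    rw [MonoidHom.mem_ker, map_pow, hα, pow_succ, pow_two, ← hιadd, ← hιadd]
    have : (1 : F) + 1 + 1 = 0 := by rw [← h3]; norm_num
    rw [this, hι0]
  have hc3 : c ^ 3 = 1 := by
    have h1 := commutator_pow_left α β (by rw [commutatorElement_def]; exact hccen) 3
    rw [commutatorElement_def, commutatorElement_def] at h1
    rw [hc, ← h1]
    have := (Subgroup.mem_center_iff.1 (hstem.2.1 hα3)) β
    rw [← this, mul_inv_cancel_right, mul_inv_cancel]
  have hωker : (c : Γ) ∈ σ.ker := (hkerU c).1 hcker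
  have hleΓ : σ.ker ≤ Subgroup.zpowers (c : Γ) := by
    intro z hz
    have hzU : z ∈ Ut := hkerle hz
    have hzk : (⟨z, hzU⟩ : Ut) ∈ σU.ker := (hkerU _).2 hz
    obtain ⟨k, hk⟩ := Subgroup.mem_zpowers_iff.1 (hle hzk)
    rw [Subgroup.mem_zpowers_iff]
    refine ⟨k, ?_⟩
    have := congrArg Subtype.val hk
    rw [Subgroup.coe_zpow] at this
    exact this
  have hω3 : (c : Γ) ^ 3 = 1 := by
    have := congrArg Subtype.val hc3
    rwa [Subgroup.coe_pow] at this
  exact Metacyclic.exists_surj_of_le_zpowers σ.ker (c : Γ) hωker hleΓ 3 hω3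

/-- For the field with 9 elements, the special linear group SL₂ has Schur multiplier cyclic of order 3 (here the Schur multiplier is described through stem extensions, as in the definitions). -/
theorem result {F : Type*} [Field F] [Fintype F] (hF : Fintype.card F = 9) : Cfsg.HasCyclicSchurMultiplier (Matrix.SpecialLinearGroup (Fin 2) F) 3 := by
  refine ⟨lower hF, ?_⟩
  intro Γ _ _ σ hσ
  exact upper hF σ hσ

end Cfsg.Agent.S2118
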