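import Cfsg.Statements.S2133
-- import your own Cfsg.Agent.* helpers here
import Cfsg.Agent.Lib.Helper93.Cent2A
import Cfsg.Agent.Lib.Helper93.CentSL5

set_option autoImplicit false
open Cfsg

namespace Cfsg.Agent.S2133

open Cfsg.Agent.Lib.Helper93.Golay Cfsg.Agent.Lib.Helper93.Cent2A Cfsg.Agent.Lib.Helper93.CentSL5

/-- the involution, as an element of `M24` -/
def zM : ↥Cfsg.M24 := ⟨permC Zc, Zc_mem_Hfix.1⟩

theorem orderOf_zM : orderOf zM = 2 := by
  apply orderOf_eq_prime
  · apply Subtype.ext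
    show permC Zc ^ 2 = 1
    rw [pow_two]
    exact Zc_sq
  · intro h
    exact Zc_ne_one (congrArg Subtype.val h)

/-- the centraliser in the subtype and in the permutation group -/
def centEquiv : ↥(Subgroup.centralizer ({zM} : Set ↥Cfsg.M24)) ≃* ↥(centM (permC Zc)) where
  toFun x := ⟨x.1.1, ⟨x.1.2, congrArg Subtype.val (Subgroup.mem_centralizer_singleton_iff.1 x.2)⟩⟩
  invFun y := ⟨⟨y.1, y.2.1⟩, Subgroup.mem_centralizer_singleton_iff.2 (Subtype.ext y.2.2)⟩
  left_inv _ := rfl
  right_inv _ := rfl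
  map_mul' _ _ := rfl

/-- the homomorphism into the centraliser of the transvection -/
def Psi (s : Matrix.SpecialLinearGroup (Fin 5) (ZMod 2))
    (hs : (s : Matrix (Fin 5) (Fin 5) (ZMod 2)) = Matrix.transvection 0 1 1) :
    ↥(centM (permC Zc)) →* ↥(Subgroup.centralizer ({s} : Set (Matrix.SpecialLinearGroup (Fin 5) (ZMod 2)))) :=
  PhiHom.codRestrict _ (fun c => by
    rw [Subgroup.mem_centralizer_singleton_iff]
    apply Subtype.ext
    rw [Matrix.SpecialLinearGroup.coe_mul, Matrix.SpecialLinearGroup.coe_mul, hs, PhiHom_coe]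
    exact PhiHom_comm c)

theorem Psi_injective (s : Matrix.SpecialLinearGroup (Fin 5) (ZMod 2))
    (hs : (s : Matrix (Fin 5) (Fin 5) (ZMod 2)) = Matrix.transvection 0 1 1) :
    Function.Injective (Psi s hs) := by
  intro a b h
  apply PhiHom_injective
  exact congrArg Subtype.val h


/-- The Mathieu group M₂₄ (the automorphism group of the length-24 binary code) has an involution whose centraliser is isomorphic to the centraliser of a transvection in SL(5, 2) (a group of shape 2^{1+6}:GL(3, 2)). -/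
theorem result (s : Matrix.SpecialLinearGroup (Fin 5) (ZMod 2)) (hs : (s : Matrix (Fin 5) (Fin 5) (ZMod 2)) = Matrix.transvection 0 1 1) : ∃ z : ↥Cfsg.M24, orderOf z = 2 ∧ Nonempty (↥(Subgroup.centralizer ({z} : Set ↥Cfsg.M24)) ≃* ↥(Subgroup.centralizer ({s} : Set (Matrix.SpecialLinearGroup (Fin 5) (ZMod 2))))) := by
  refine ⟨zM, orderOf_zM, ?_⟩
  have hle : Nat.card ↥(Subgroup.centralizer ({s} : Set (Matrix.SpecialLinearGroup (Fin 5) (ZMod 2)))) ≤
      Nat.card ↥(centM (permC Zc)) :=
    le_trans (card_centralizer_le (s := s) hs) card_centM_ge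
  have hbij := (Psi_injective s hs).bijective_of_nat_card_le hle
  exact ⟨centEquiv.trans (MulEquiv.ofBijective (Psi s hs) hbij)⟩

end Cfsg.Agent.S2133
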