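import Cfsg.Statements.S2155
import Cfsg.Agent.Lib.Helper72.ParaCent
import Cfsg.Agent.Lib.Helper22.CharP
import Cfsg.Agent.Lib.Helper36.ChevNormU
import Cfsg.Agent.S1027

set_option autoImplicit false
open Cfsg

namespace Cfsg.Agent.S2155

open Cfsg.Lie Cfsg.Agent.Lib.Helper36 Cfsg.Agent.Lib.Helper22 Cfsg.Agent.Lib.Helper72.Para
  Cfsg.Agent.Lib.Helper72.Au

/-- In a Chevalley group of type G₂, B₂, D₄, F₄, E₆, E₇ or E₈ over a finite field of characteristic p (for types G₂ and B₂ the field is assumed to have at least 3 elements, so that the group is simple), the generalized Fitting subgroup of every proper standard parabolic subgroup P_J is a p-group (P_J is p-constrained with trivial largest normal subgroup of order prime to p). -/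
theorem result {F : Type*} [Field F] [Fintype F] (p : ℕ) [Fact p.Prime] [CharP F p] (D : Cfsg.Lie.ChevalleyDatum) (hD : D ∈ [Cfsg.Lie.chevG2, Cfsg.Lie.chevB2, Cfsg.Lie.chevD4, Cfsg.Lie.chevF4, Cfsg.Lie.chevE6, Cfsg.Lie.chevE7, Cfsg.Lie.chevE8]) (hq : (D = Cfsg.Lie.chevG2 ∨ D = Cfsg.Lie.chevB2) → 3 ≤ Fintype.card F) (J : Set ℕ) (hJ : ∃ i, i < D.rank ∧ i ∉ J) : IsPGroup p ↥(Cfsg.generalizedFittingSubgroup ↥(D.parabolicSubgroup F J)) := by
  classical
  obtain ⟨i0, hi0, hi0J⟩ := hJ
  -- `U` is a `p`-group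
  have hUp : IsPGroup p (D.posUnipotent F) := by
    obtain ⟨n, -, hq'⟩ := FiniteField.card F p
    refine IsPGroup.of_card (n := (n : ℕ) * (D.nroots / 2)) ?_
    rw [Cfsg.Agent.S1027.result D hD, hq', pow_mul]
  have hUJU : D.unipotentRadical F J ≤ D.posUnipotent F := unipotentRadical_le_pos D F J
  have hUP : D.posUnipotent F ≤ D.parabolicSubgroup F J :=
    (pos_le_borel D F).trans (borel_le_parabolic D F J)
  have hPn : D.parabolicSubgroup F J ≤
      Subgroup.normalizer (D.unipotentRadical F J : Set (GL D.Idx F)) :=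
    parabolic_le_normalizer D hD F (hcomm_all D hD F) J
  -- the image `Q` of `U_J` in `P_J`
  have hQn : ((D.unipotentRadical F J).subgroupOf (D.parabolicSubgroup F J)).Normal := by
    constructor
    intro x hx g
    rw [Subgroup.mem_subgroupOf] at hx ⊢
    have := (Subgroup.mem_normalizer_iff.1 (hPn g.2) (x : GL D.Idx F)).1 hx
    simpa using this
  have hQp : IsPGroup p ((D.unipotentRadical F J).subgroupOf (D.parabolicSubgroup F J)) :=
    (hUp.to_le hUJU).comap_subtype
  have hQle : (D.unipotentRadical F J).subgroupOf (D.parabolicSubgroup F J) ≤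
      Cfsg.pCore p ↥(D.parabolicSubgroup F J) := le_pCore' hQn hQp
  -- the centraliser of `Q`
  have hCU : ∀ c ∈ Subgroup.centralizer
      (((D.unipotentRadical F J).subgroupOf (D.parabolicSubgroup F J) :
        Subgroup ↥(D.parabolicSubgroup F J)) : Set ↥(D.parabolicSubgroup F J)),
      ((c : ↥(D.parabolicSubgroup F J)) : GL D.Idx F) ∈ D.posUnipotent F := by
    intro c hc
    apply centralizer_radical_le_pos D hD F J i0 hi0 hi0J _ (parabolic_le_group D hD F J c.2)
    intro x hx
    have hxP : x ∈ D.parabolicSubgroup F J := hUP (hUJU hx)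
    have h1 := (Subgroup.mem_centralizer_iff.1 hc) ⟨x, hxP⟩ (Subgroup.mem_subgroupOf.2 hx)
    have h2 := congrArg Subtype.val h1
    simpa using h2.symm
  haveI := hQn
  have hCn : (Subgroup.centralizer
      (((D.unipotentRadical F J).subgroupOf (D.parabolicSubgroup F J) :
        Subgroup ↥(D.parabolicSubgroup F J)) : Set ↥(D.parabolicSubgroup F J))).Normal :=
    Subgroup.normal_centralizer
  have hCp : IsPGroup p (Subgroup.centralizer
      (((D.unipotentRadical F J).subgroupOf (D.parabolicSubgroup F J) :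
        Subgroup ↥(D.parabolicSubgroup F J)) : Set ↥(D.parabolicSubgroup F J))) := by
    rintro ⟨c, hc⟩
    obtain ⟨k, hk⟩ := hUp ⟨(c : GL D.Idx F), hCU c hc⟩
    refine ⟨k, ?_⟩
    apply Subtype.ext
    apply Subtype.ext
    have := congrArg Subtype.val hk
    simpa using this
  have hC : Subgroup.centralizer (Cfsg.pCore p ↥(D.parabolicSubgroup F J) :
      Set ↥(D.parabolicSubgroup F J)) ≤ Cfsg.pCore p ↥(D.parabolicSubgroup F J) :=
    (Subgroup.centralizer_le (SetLike.coe_subset_coe.2 hQle)).trans (le_pCore' hCn hCp)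
  have hF := (generalizedFitting_eq_pCore_iff (X := ↥(D.parabolicSubgroup F J)) p).2 hC
  rw [hF]
  exact pCore_isPGroup' p ↥(D.parabolicSubgroup F J)

end Cfsg.Agent.S2155
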