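import Cfsg.Statements.S2159
import Cfsg.Agent.Lib.Helper75.AutOutStr

set_option autoImplicit false
set_option maxRecDepth 100000
open Cfsg

namespace Cfsg.Agent.S2159

open Cfsg.Lie Cfsg.Agent.Lib.Helper36 Cfsg.Agent.Lib.Helper18 Cfsg.Agent.Lib.Helper18.Au
  Cfsg.Agent.Lib.Helper75.OutStr

/-- Structure of the outer automorphism group of the Chevalley group `G` of type G₂, B₂, D₄, F₄, E₆, E₇ or E₈ over a finite field. Let `D̄` be the image in `Out(G)` of the subgroup generated by the diagonal automorphisms and `F̄` the image of the subgroup generated by the field automorphisms. Then `D̄` is a normal abelian subgroup of `Out(G)`, `F̄` is cyclic, `D̄F̄` is a normal subgroup, and the quotient of `Out(G)` by `D̄F̄` is trivial, of order 2, or non-abelian of order 6 (so isomorphic to the symmetric group on three letters): its index is 1 or 2, or it is 6 with the commutator subgroup of `Out(G)` not inside `D̄F̄`. -/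
theorem result {F : Type*} [Field F] [Finite F] (D : Cfsg.Lie.ChevalleyDatum) (hD : D ∈ [Cfsg.Lie.chevG2, Cfsg.Lie.chevB2, Cfsg.Lie.chevD4, Cfsg.Lie.chevF4, Cfsg.Lie.chevE6, Cfsg.Lie.chevE7, Cfsg.Lie.chevE8])
    (Dbar Fbar : Subgroup (Cfsg.Out ↥(D.group F)))
    (hDbar : Dbar = (Subgroup.closure {φ : MulAut ↥(D.group F) | D.IsDiagonalAut φ}).map (QuotientGroup.mk' (Cfsg.Inn ↥(D.group F))))
    (hFbar : Fbar = (Subgroup.closure {φ : MulAut ↥(D.group F) | D.IsFieldAut φ}).map (QuotientGroup.mk' (Cfsg.Inn ↥(D.group F)))) :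
    Dbar.Normal ∧ IsMulCommutative ↥Dbar ∧ IsCyclic ↥Fbar ∧ (Dbar ⊔ Fbar).Normal ∧
      ((Dbar ⊔ Fbar).index = 1 ∨ (Dbar ⊔ Fbar).index = 2 ∨
        ((Dbar ⊔ Fbar).index = 6 ∧ ¬ commutator (Cfsg.Out ↥(D.group F)) ≤ Dbar ⊔ Fbar)) := by
  classical
  have hK1 := K1_normal D hD F
  have hK2 := K2_normal D hD F
  have eD : Dbar = (K1 D F).map (QuotientGroup.mk' (Cfsg.Inn ↥(D.group F))) := by
    rw [map_K1, hDbar]; rfl
  have eDF : Dbar ⊔ Fbar = (K2 D F).map (QuotientGroup.mk' (Cfsg.Inn ↥(D.group F))) := by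
    rw [map_K2, hDbar, hFbar]; rfl
  have hcomm : ∀ a ∈ Dbar, ∀ b ∈ Dbar, a * b = b * a := by
    intro a ha b hb
    rw [hDbar] at ha hb
    obtain ⟨d₁, hd₁, rfl⟩ := ha
    obtain ⟨d₂, hd₂, rfl⟩ := hb
    have e := closure_diagSet D hD F
    unfold diagSet at e
    rw [e] at hd₁ hd₂
    obtain ⟨c₁, rfl⟩ := hd₁
    obtain ⟨c₂, rfl⟩ := hd₂
    rw [← map_mul, ← map_mul, ← map_mul, ← map_mul, mul_comm]
  have hcyc : IsCyclic ↥Fbar := by
    subst hFbar
    have e := closure_fieldSet D hD F
    unfold fieldSet at e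
    rw [e]
    haveI : IsCyclic (RingAut F) := isCyclic_ringAut' (F := F)
    exact isCyclic_map_range (fieldAutHom D hD F) _
  refine ⟨?_, ⟨⟨fun a b => Subtype.ext (hcomm a a.2 b b.2)⟩⟩, hcyc, ?_, ?_⟩
  · rw [eD]
    exact hK1.map _ (QuotientGroup.mk'_surjective _)
  · rw [eDF]
    exact hK2.map _ (QuotientGroup.mk'_surjective _)
  · rw [eDF, index_map_mk _ _ (inn_le_K2 D F)]
    have hD' := hD
    simp only [List.mem_cons, List.not_mem_nil, or_false] at hD'
    rcases hD' with rfl | rfl | rfl | rfl | rfl | rfl | rfl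
    · rcases index_K2_one_or_two _ hD F _ (by simp) search_G2 with h | h
      · exact Or.inl h
      · exact Or.inr (Or.inl h)
    · rcases index_K2_one_or_two _ hD F _ (by simp) search_B2 with h | h
      · exact Or.inl h
      · exact Or.inr (Or.inl h)
    · exact Or.inr (Or.inr ⟨index_K2_D4 F, not_commutator_le_D4 F⟩)
    · rcases index_K2_one_or_two _ hD F _ (by simp) search_F4 with h | h
      · exact Or.inl h
      · exact Or.inr (Or.inl h)
    · rcases index_K2_one_or_two _ hD F _ (by simp) search_E6 with h | h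
      · exact Or.inl h
      · exact Or.inr (Or.inl h)
    · rcases index_K2_one_or_two _ hD F _ (by simp) search_E7 with h | h
      · exact Or.inl h
      · exact Or.inr (Or.inl h)
    · rcases index_K2_one_or_two _ hD F _ (by simp) search_E8 with h | h
      · exact Or.inl h
      · exact Or.inr (Or.inl h)

end Cfsg.Agent.S2159
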