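import Cfsg.Statements.S2160
import Cfsg.Agent.Lib.Helper91.ChevGraphV1

set_option autoImplicit false
open Cfsg

namespace Cfsg.Agent.S2160

open Cfsg.Lie Cfsg.Agent.Lib.Helper36 Cfsg.Agent.Lib.Helper91.ChevGraphV1 in
/-- In a Chevalley group of type G₂, B₂, D₄, F₄, E₆, E₇ or E₈ over a finite field, every field automorphism commutes with every graph automorphism. -/
theorem result {F : Type*} [Field F] [Finite F] (D : Cfsg.Lie.ChevalleyDatum) (hD : D ∈ [Cfsg.Lie.chevG2, Cfsg.Lie.chevB2, Cfsg.Lie.chevD4, Cfsg.Lie.chevF4, Cfsg.Lie.chevE6, Cfsg.Lie.chevE7, Cfsg.Lie.chevE8]) (f g : ↥(D.group F) ≃* ↥(D.group F))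
    (hf : D.IsFieldAut f) (hg : D.IsGraphAut g) (y : ↥(D.group F)) : f (g y) = g (f y) := by
  obtain ⟨σ, hσ⟩ := hf
  obtain ⟨π, -, hπ⟩ := hg
  have key : ∀ (x : GL D.Idx F) (hx : x ∈ Subgroup.closure {g : GL D.Idx F | ∃ i < D.rank, ∃ t : F,
      (g : Matrix D.Idx D.Idx F) = D.x F (D.simple i) t ∨
        (g : Matrix D.Idx D.Idx F) = D.x F (D.neg (D.simple i)) t}) (hG : x ∈ D.group F),
      f (g ⟨x, hG⟩) = g (f ⟨x, hG⟩) := by
    intro x hx
    induction hx using Subgroup.closure_induction with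
    | mem x hx =>
      intro hG
      obtain ⟨i, hi, t, h | h⟩ := hx
      · have hp : D.simple (π ⟨i, hi⟩) < D.nroots := (chkN2_spec D (chkN2_all D hD) _ (π ⟨i, hi⟩).2).1
        have hp' : D.simple i < D.nroots := (chkN2_spec D (chkN2_all D hD) i hi).1
        have h1 := (hπ ⟨x, hG⟩ ⟨i, hi⟩ t).1 h
        have h2 := hσ (g ⟨x, hG⟩) _ _ hp h1
        have h3 := hσ ⟨x, hG⟩ _ t hp' h
        have h4 := (hπ (f ⟨x, hG⟩) ⟨i, hi⟩ (σ t)).1 h3
        apply Subtype.ext
        apply Units.ext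
        rw [h2, h4, map_pow]
      · have hp : D.simple (π ⟨i, hi⟩) < D.nroots := (chkN2_spec D (chkN2_all D hD) _ (π ⟨i, hi⟩).2).1
        have hp' : D.simple i < D.nroots := (chkN2_spec D (chkN2_all D hD) i hi).1
        have hn : D.neg (D.simple (π ⟨i, hi⟩)) < D.nroots := wf_neg D (wf_all D hD) _ hp
        have hn' : D.neg (D.simple i) < D.nroots := wf_neg D (wf_all D hD) _ hp'
        have h1 := (hπ ⟨x, hG⟩ ⟨i, hi⟩ t).2 h
        have h2 := hσ (g ⟨x, hG⟩) _ _ hn h1
        have h3 := hσ ⟨x, hG⟩ _ t hn' h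
        have h4 := (hπ (f ⟨x, hG⟩) ⟨i, hi⟩ (σ t)).2 h3
        apply Subtype.ext
        apply Units.ext
        rw [h2, h4, map_pow]
    | one =>
      intro hG
      have : (⟨1, hG⟩ : ↥(D.group F)) = 1 := rfl
      simp only [this, map_one]
    | mul a b ha hb iha ihb =>
      intro hG
      have haG : a ∈ D.group F := by
        rw [group_eq_closure_simple D hD F]; exact ha
      have hbG : b ∈ D.group F := by
        rw [group_eq_closure_simple D hD F]; exact hb
      have : (⟨a * b, hG⟩ : ↥(D.group F)) = ⟨a, haG⟩ * ⟨b, hbG⟩ := rfl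
      rw [this, map_mul, map_mul, map_mul, map_mul, iha haG, ihb hbG]
    | inv a ha iha =>
      intro hG
      have haG : a ∈ D.group F := by
        rw [group_eq_closure_simple D hD F]; exact ha
      have : (⟨a⁻¹, hG⟩ : ↥(D.group F)) = (⟨a, haG⟩ : ↥(D.group F))⁻¹ := rfl
      rw [this, map_inv, map_inv, map_inv, map_inv, iha haG]
  have hy : (y : GL D.Idx F) ∈ Subgroup.closure {g : GL D.Idx F | ∃ i < D.rank, ∃ t : F,
      (g : Matrix D.Idx D.Idx F) = D.x F (D.simple i) t ∨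
        (g : Matrix D.Idx D.Idx F) = D.x F (D.neg (D.simple i)) t} := by
    rw [← group_eq_closure_simple D hD F]; exact y.2
  exact key y hy y.2

end Cfsg.Agent.S2160
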