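import Cfsg.Statements.S2162
import Cfsg.Agent.Lib.Helper36.SqZero

set_option autoImplicit false
open Cfsg

namespace Cfsg.Agent.S2162

open Matrix Module Cfsg.Agent.Lib.Helper36

variable {F : Type*} [Field F] {n : ℕ}

theorem sub_one_sq [CharP F 2] (a : Matrix.SpecialLinearGroup (Fin n) F) (ha : orderOf a = 2) :
    ((a : Matrix (Fin n) (Fin n) F) - 1) * ((a : Matrix (Fin n) (Fin n) F) - 1) = 0 := by
  have hAA : (a : Matrix (Fin n) (Fin n) F) * (a : Matrix (Fin n) (Fin n) F) = 1 := by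
    have h := pow_orderOf_eq_one a
    rw [ha, pow_two] at h
    have := congrArg (fun x : Matrix.SpecialLinearGroup (Fin n) F => (x : Matrix (Fin n) (Fin n) F)) h
    simpa using this
  have h2F : (2 : F) = 0 := CharP.cast_eq_zero F 2
  have : ((a : Matrix (Fin n) (Fin n) F) - 1) * ((a : Matrix (Fin n) (Fin n) F) - 1)
      = (a : Matrix (Fin n) (Fin n) F) * (a : Matrix (Fin n) (Fin n) F) - (2 : F) • (a : Matrix (Fin n) (Fin n) F) + 1 := by
    rw [two_smul]; noncomm_ring
  rw [this, hAA, h2F, zero_smul, sub_zero]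
  rw [one_add_one_eq_two]
  have : (2 : Matrix (Fin n) (Fin n) F) = ((2 : F) • (1 : Matrix (Fin n) (Fin n) F)) := by
    rw [two_smul, one_add_one_eq_two]
  rw [this, h2F, zero_smul]

theorem rank_pos_of_order_two [CharP F 2] (a : Matrix.SpecialLinearGroup (Fin n) F) (ha : orderOf a = 2) :
    0 < finrank F (LinearMap.range ((a : Matrix (Fin n) (Fin n) F) - 1).mulVecLin) := by
  rw [Nat.pos_iff_ne_zero]
  intro h
  have h1 : LinearMap.range ((a : Matrix (Fin n) (Fin n) F) - 1).mulVecLin = ⊥ :=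
    Submodule.finrank_eq_zero.mp h
  have h2 : ((a : Matrix (Fin n) (Fin n) F) - 1).mulVecLin = 0 := LinearMap.range_eq_bot.mp h1
  have h3 : (a : Matrix (Fin n) (Fin n) F) - 1 = 0 := by
    have := congrArg LinearMap.toMatrix' h2
    rw [← Matrix.toLin'_apply', LinearMap.toMatrix'_toLin'] at this
    simpa using this
  have h4 : a = 1 := by
    apply Subtype.ext
    rw [Matrix.SpecialLinearGroup.coe_one]
    exact sub_eq_zero.mp h3
  rw [h4, orderOf_one] at ha
  exact absurd ha (by norm_num)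

theorem result {F : Type*} [Field F] [Fintype F] [CharP F 2] {n : ℕ} (hn : 3 ≤ n) (a b : Matrix.SpecialLinearGroup (Fin n) F) (ha : orderOf a = 2) (hb : orderOf b = 2) :
    IsConj a b ↔ ((a : Matrix (Fin n) (Fin n) F) - 1).rank = ((b : Matrix (Fin n) (Fin n) F) - 1).rank := by
  constructor
  · intro h
    obtain ⟨c, hc⟩ := isConj_iff.mp h
    have hcc : (c : Matrix (Fin n) (Fin n) F) * ((c⁻¹ : Matrix.SpecialLinearGroup (Fin n) F) : Matrix (Fin n) (Fin n) F) = 1 := by
      rw [← Matrix.SpecialLinearGroup.coe_mul, mul_inv_cancel, Matrix.SpecialLinearGroup.coe_one]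
    have hb' : (b : Matrix (Fin n) (Fin n) F) - 1 =
        (c : Matrix (Fin n) (Fin n) F) * ((a : Matrix (Fin n) (Fin n) F) - 1) *
          ((c⁻¹ : Matrix.SpecialLinearGroup (Fin n) F) : Matrix (Fin n) (Fin n) F) := by
      rw [← hc, Matrix.SpecialLinearGroup.coe_mul, Matrix.SpecialLinearGroup.coe_mul]
      rw [mul_sub, sub_mul, mul_one, hcc]
    rw [hb']
    rw [Matrix.rank_mul_eq_left_of_isUnit_det _ _ (by rw [Matrix.SpecialLinearGroup.det_coe]; exact isUnit_one),
      Matrix.rank_mul_eq_right_of_isUnit_det _ _ (by rw [Matrix.SpecialLinearGroup.det_coe]; exact isUnit_one)]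
  · intro hrank
    have hsq : ∀ x : F, IsSquare x := FiniteField.isSquare_of_char_two (ringChar.eq F 2)
    set Na := (a : Matrix (Fin n) (Fin n) F) - 1 with hNa
    set Nb := (b : Matrix (Fin n) (Fin n) F) - 1 with hNb
    have hNa2 : Na * Na = 0 := sub_one_sq a ha
    have hNb2 : Nb * Nb = 0 := sub_one_sq b hb
    have h1 : ∀ x, Na.mulVecLin (Na.mulVecLin x) = 0 := by
      intro x
      simp only [Matrix.mulVecLin_apply, Matrix.mulVec_mulVec, hNa2, Matrix.zero_mulVec]
    have h2 : ∀ x, Nb.mulVecLin (Nb.mulVecLin x) = 0 := by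
      intro x
      simp only [Matrix.mulVecLin_apply, Matrix.mulVec_mulVec, hNb2, Matrix.zero_mulVec]
    obtain ⟨T, hT, hdet⟩ := exists_equiv_of_sq_zero hsq Na.mulVecLin Nb.mulVecLin h1 h2 hrank
      (rank_pos_of_order_two a ha)
    set G := LinearMap.toMatrix' (T : (Fin n → F) →ₗ[F] (Fin n → F)) with hG
    have hGdet : G.det = 1 := by rw [hG, LinearMap.det_toMatrix', hdet]
    have hGN : G * Na = Nb * G := by
      have : (T : (Fin n → F) →ₗ[F] (Fin n → F)) ∘ₗ Na.mulVecLin = Nb.mulVecLin ∘ₗ (T : (Fin n → F) →ₗ[F] (Fin n → F)) := by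
        apply LinearMap.ext
        intro x
        exact hT x
      have := congrArg LinearMap.toMatrix' this
      rw [LinearMap.toMatrix'_comp, LinearMap.toMatrix'_comp, ← Matrix.toLin'_apply', ← Matrix.toLin'_apply',
        LinearMap.toMatrix'_toLin', LinearMap.toMatrix'_toLin'] at this
      exact this
    obtain ⟨g, hg⟩ : ∃ g : Matrix.SpecialLinearGroup (Fin n) F, (g : Matrix (Fin n) (Fin n) F) = G :=
      ⟨⟨G, hGdet⟩, rfl⟩
    rw [isConj_iff]
    refine ⟨g, ?_⟩
    rw [mul_inv_eq_iff_eq_mul]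
    apply Subtype.ext
    rw [Matrix.SpecialLinearGroup.coe_mul, Matrix.SpecialLinearGroup.coe_mul, hg]
    have ea : (a : Matrix (Fin n) (Fin n) F) = 1 + Na := by rw [hNa]; abel
    have eb : (b : Matrix (Fin n) (Fin n) F) = 1 + Nb := by rw [hNb]; abel
    rw [ea, eb, mul_add, add_mul, mul_one, one_mul, hGN]

end Cfsg.Agent.S2162
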