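import Cfsg.Statements.S2163

set_option autoImplicit false
open Cfsg

namespace Cfsg.Agent.S2163

/-- the nilpotent part -/
def nMat (F : Type*) [Field F] (n ℓ : ℕ) : Matrix (Fin n) (Fin n) F :=
  Matrix.of (fun i j : Fin n => if j.val < ℓ ∧ i.val = j.val + (n - ℓ) then (1 : F) else 0)

theorem nMat_sq (F : Type*) [Field F] (n ℓ : ℕ) (h2 : 2 * ℓ ≤ n) :
    nMat F n ℓ * nMat F n ℓ = 0 := by
  ext i k
  simp only [nMat, Matrix.mul_apply, Matrix.of_apply, Matrix.zero_apply]
  apply Finset.sum_eq_zero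
  intro j _
  by_cases h : (j.val < ℓ ∧ i.val = j.val + (n - ℓ))
  · have : ¬ (k.val < ℓ ∧ j.val = k.val + (n - ℓ)) := by omega
    simp [this]
  · simp [h]

theorem det_one_add (F : Type*) [Field F] (n ℓ : ℕ) (h1 : 1 ≤ ℓ) (h2 : 2 * ℓ ≤ n) :
    (1 + nMat F n ℓ).det = 1 := by
  have hT : (1 + nMat F n ℓ).BlockTriangular OrderDual.toDual := by
    intro i j hij
    have hij' : i.val < j.val := hij
    simp only [Matrix.add_apply, nMat, Matrix.of_apply]
    have h1 : (1 : Matrix (Fin n) (Fin n) F) i j = 0 := by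
      rw [Matrix.one_apply_ne]; intro h; rw [h] at hij'; exact lt_irrefl _ hij'
    have : ¬ (j.val < ℓ ∧ i.val = j.val + (n - ℓ)) := by omega
    simp [h1, this]
  rw [Matrix.det_of_isLowerTriangular _ hT]
  apply Finset.prod_eq_one
  intro i _
  have : ¬ (i.val < ℓ ∧ i.val = i.val + (n - ℓ)) := by omega
  simp only [Matrix.add_apply, Matrix.one_apply_eq, nMat, Matrix.of_apply, if_neg this, add_zero]

theorem rank_nMat (F : Type*) [Field F] (n ℓ : ℕ) (h2 : 2 * ℓ ≤ n) :
    (nMat F n ℓ).rank = ℓ := by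
  apply le_antisymm
  · -- upper bound
    classical
    let r : Fin ℓ → Fin n := fun k => ⟨k.val + (n - ℓ), by omega⟩
    have := Matrix.rank_le_card_of_support_subset (nMat F n ℓ) (Finset.univ.image r) (by
      intro i hi
      rw [Function.mem_support] at hi
      by_contra hcon
      apply hi
      ext j
      simp only [Matrix.row, nMat, Matrix.of_apply, Pi.zero_apply]
      rw [if_neg]
      rintro ⟨hj, hij⟩
      apply hcon
      simp only [Finset.coe_image, Finset.coe_univ, Set.image_univ, Set.mem_range]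
      exact ⟨⟨j.val, hj⟩, Fin.ext (by simp [r, hij])⟩)
    refine this.trans ?_
    refine (Finset.card_image_le).trans ?_
    simp
  · let r : Fin ℓ → Fin n := fun k => ⟨k.val + (n - ℓ), by omega⟩
    let c : Fin ℓ → Fin n := fun k => ⟨k.val, by omega⟩
    have hsub : (nMat F n ℓ).submatrix r c = 1 := by
      ext a b
      simp only [Matrix.submatrix_apply, nMat, Matrix.of_apply, r, c, Matrix.one_apply]
      by_cases hab : a = b
      · subst hab; simp
      · have : ¬ (b.val < ℓ ∧ a.val + (n - ℓ) = b.val + (n - ℓ)) := by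
          rintro ⟨_, h⟩; apply hab; apply Fin.ext; omega
        rw [if_neg this, if_neg hab]
    have := Matrix.rank_submatrix_le (nMat F n ℓ) r c
    rw [hsub, Matrix.rank_one] at this
    simpa using this

theorem result {F : Type*} [Field F] [Fintype F] [CharP F 2] {n : ℕ} (hn : 3 ≤ n) (ℓ : ℕ) (h1 : 1 ≤ ℓ) (h2 : 2 * ℓ ≤ n) :
    ∃ a : Matrix.SpecialLinearGroup (Fin n) F, (a : Matrix (Fin n) (Fin n) F) = 1 + Matrix.of (fun i j : Fin n => if j.val < ℓ ∧ i.val = j.val + (n - ℓ) then (1 : F) else 0) ∧ orderOf a = 2 ∧ ((a : Matrix (Fin n) (Fin n) F) - 1).rank = ℓ := by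
  obtain ⟨a, ha⟩ : ∃ a : Matrix.SpecialLinearGroup (Fin n) F,
      (a : Matrix (Fin n) (Fin n) F) = 1 + nMat F n ℓ :=
    ⟨⟨1 + nMat F n ℓ, det_one_add F n ℓ h1 h2⟩, rfl⟩
  refine ⟨a, ha, ?_, ?_⟩
  · have : Fact (Nat.Prime 2) := ⟨Nat.prime_two⟩
    apply orderOf_eq_prime
    · apply Subtype.ext
      rw [Matrix.SpecialLinearGroup.coe_pow, Matrix.SpecialLinearGroup.coe_one, ha]
      rw [pow_two]
      have h2F : (2 : F) = 0 := CharP.cast_eq_zero F 2
      have : (1 + nMat F n ℓ) * (1 + nMat F n ℓ) = 1 + (2 : F) • nMat F n ℓ + nMat F n ℓ * nMat F n ℓ := by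
        rw [two_smul]; noncomm_ring
      rw [this, nMat_sq F n ℓ h2, h2F]; simp
    · intro h
      have h' := congrArg (fun a : Matrix.SpecialLinearGroup (Fin n) F => (a : Matrix (Fin n) (Fin n) F) ⟨n - ℓ, by omega⟩ ⟨0, by omega⟩) h
      simp only [Matrix.SpecialLinearGroup.coe_one, ha, Matrix.add_apply, nMat, Matrix.of_apply] at h'
      have hne : (⟨n - ℓ, by omega⟩ : Fin n) ≠ ⟨0, by omega⟩ := by
        intro h; have := congrArg Fin.val h; simp at this; omega
      rw [Matrix.one_apply_ne hne] at h'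
      simp at h'
      omega
  · rw [ha, add_sub_cancel_left]
    exact rank_nMat F n ℓ h2

end Cfsg.Agent.S2163
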