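import Cfsg.Statements.S2165

set_option autoImplicit false
open Cfsg

namespace Cfsg.Agent.S2165

open scoped Matrix

/-- the involution of `Fin n` -/
def sig (n ℓ : ℕ) (h2 : 2 * ℓ ≤ n) (i : Fin n) : Fin n :=
  if h : i.val < ℓ then ⟨i.val + (n - ℓ), by omega⟩
  else if h' : n - ℓ ≤ i.val then ⟨i.val - (n - ℓ), by omega⟩ else i

theorem sig_val (n ℓ : ℕ) (h2 : 2 * ℓ ≤ n) (i : Fin n) :
    (sig n ℓ h2 i).val = if i.val < ℓ then i.val + (n - ℓ)
      else if n - ℓ ≤ i.val then i.val - (n - ℓ) else i.val := by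
  unfold sig
  split_ifs <;> rfl

theorem sig_sig (n ℓ : ℕ) (h2 : 2 * ℓ ≤ n) (i : Fin n) : sig n ℓ h2 (sig n ℓ h2 i) = i := by
  apply Fin.ext
  rw [sig_val, sig_val]
  split_ifs <;> omega

/-- the permutation matrix -/
def pMat (F : Type*) [Field F] (n ℓ : ℕ) : Matrix (Fin n) (Fin n) F :=
  Matrix.of (fun i j : Fin n => if (j.val < ℓ ∧ i.val = j.val + (n - ℓ)) ∨ (i.val < ℓ ∧ j.val = i.val + (n - ℓ)) ∨ (i = j ∧ ℓ ≤ i.val ∧ i.val < n - ℓ) then (1 : F) else 0)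

theorem pMat_eq (F : Type*) [Field F] (n ℓ : ℕ) (h2 : 2 * ℓ ≤ n) (i j : Fin n) :
    pMat F n ℓ i j = if j = sig n ℓ h2 i then 1 else 0 := by
  simp only [pMat, Matrix.of_apply]
  congr 1
  apply propext
  rw [Fin.ext_iff, Fin.ext_iff, sig_val]
  split_ifs <;> omega

theorem pMat_mulVec (F : Type*) [Field F] (n ℓ : ℕ) (h2 : 2 * ℓ ≤ n) (u : Fin n → F) (i : Fin n) :
    (pMat F n ℓ *ᵥ u) i = u (sig n ℓ h2 i) := by
  simp only [Matrix.mulVec, dotProduct, pMat_eq F n ℓ h2]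
  simp

theorem pMat_mul_self (F : Type*) [Field F] (n ℓ : ℕ) (h2 : 2 * ℓ ≤ n) :
    pMat F n ℓ * pMat F n ℓ = 1 := by
  ext i k
  simp only [Matrix.mul_apply, pMat_eq F n ℓ h2, Matrix.one_apply]
  simp only [ite_mul, one_mul, zero_mul, Finset.sum_ite_eq', Finset.mem_univ, if_true]
  congr 1
  apply propext
  constructor
  · intro h; rw [h, sig_sig]
  · intro h; rw [h, sig_sig]

theorem pMat_det (F : Type*) [Field F] [CharP F 2] (n ℓ : ℕ) (h2 : 2 * ℓ ≤ n) :
    (pMat F n ℓ).det = 1 := by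
  have h := congrArg Matrix.det (pMat_mul_self F n ℓ h2)
  rw [Matrix.det_mul, Matrix.det_one] at h
  have h2F : (2 : F) = 0 := CharP.cast_eq_zero F 2
  have : ((pMat F n ℓ).det - 1) ^ 2 = 0 := by
    linear_combination h - (pMat F n ℓ).det * h2F + h2F
  have := pow_eq_zero_iff (two_ne_zero) |>.mp this
  exact sub_eq_zero.mp this

/-- the factor -/
def aMat (F : Type*) [Field F] (n ℓ : ℕ) : Matrix (Fin n) (Fin ℓ) F :=
  Matrix.of (fun (i : Fin n) (k : Fin ℓ) => if i.val = k.val ∨ i.val = k.val + (n - ℓ) then (1 : F) else 0)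

theorem pMat_sub_one (F : Type*) [Field F] [CharP F 2] (n ℓ : ℕ) (h2 : 2 * ℓ ≤ n) :
    pMat F n ℓ - 1 = aMat F n ℓ * (aMat F n ℓ)ᵀ := by
  have h2F : (2 : F) = 0 := CharP.cast_eq_zero F 2
  have hm1 : (0 : F) - 1 = 1 := by
    have : (1 : F) + 1 = 0 := by rw [one_add_one_eq_two]; exact h2F
    linear_combination (-1 : F) * this
  ext i j
  simp only [Matrix.sub_apply, Matrix.mul_apply, Matrix.transpose_apply, aMat, Matrix.of_apply, pMat,
    Matrix.one_apply, Fin.ext_iff]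
  by_cases hi : i.val < ℓ
  · obtain ⟨k0, hk0⟩ : ∃ k0 : Fin ℓ, k0.val = i.val := ⟨⟨i.val, hi⟩, rfl⟩
    rw [Finset.sum_eq_single k0]
    · split_ifs <;> first | (exfalso; omega) | simp [hm1]
    · intro k _ hk
      have hk' : k.val ≠ k0.val := fun h => hk (Fin.ext h)
      rw [if_neg (by omega), zero_mul]
    · intro h; exact absurd (Finset.mem_univ _) h
  · by_cases hi' : n - ℓ ≤ i.val
    · obtain ⟨k0, hk0⟩ : ∃ k0 : Fin ℓ, k0.val = i.val - (n - ℓ) := ⟨⟨i.val - (n - ℓ), by omega⟩, rfl⟩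
      rw [Finset.sum_eq_single k0]
      · split_ifs <;> first | (exfalso; omega) | simp [hm1]
      · intro k _ hk
        have hk' : k.val ≠ k0.val := fun h => hk (Fin.ext h)
        rw [if_neg (by omega), zero_mul]
      · intro h; exact absurd (Finset.mem_univ _) h
    · rw [Finset.sum_eq_zero]
      · split_ifs <;> first | (exfalso; omega) | simp
      · intro k _
        rw [if_neg (by omega), zero_mul]

theorem rank_pMat_sub_one (F : Type*) [Field F] [CharP F 2] (n ℓ : ℕ) (h2 : 2 * ℓ ≤ n) :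
    (pMat F n ℓ - 1).rank = ℓ := by
  apply le_antisymm
  · rw [pMat_sub_one F n ℓ h2]
    exact (Matrix.rank_mul_le_left _ _).trans (Matrix.rank_le_width _)
  · obtain ⟨r, hr⟩ : ∃ r : Fin ℓ → Fin n, ∀ k, (r k).val = k.val :=
      ⟨fun k => ⟨k.val, by omega⟩, fun _ => rfl⟩
    obtain ⟨c, hc⟩ : ∃ c : Fin ℓ → Fin n, ∀ k, (c k).val = k.val + (n - ℓ) :=
      ⟨fun k => ⟨k.val + (n - ℓ), by omega⟩, fun _ => rfl⟩
    have hsub : (pMat F n ℓ - 1).submatrix r c = 1 := by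
      ext a b
      simp only [Matrix.submatrix_apply, Matrix.sub_apply, pMat, Matrix.of_apply, Matrix.one_apply,
        Fin.ext_iff, hr, hc]
      have := a.isLt
      have := b.isLt
      split_ifs <;> first | (exfalso; omega) | simp
    have := Matrix.rank_submatrix_le (pMat F n ℓ - 1) r c
    rw [hsub, Matrix.rank_one] at this
    simpa using this

theorem result {F : Type*} [Field F] [Fintype F] [CharP F 2] {n q : ℕ} (hF : Fintype.card F = q ^ 2) (hn : 3 ≤ n) (ℓ : ℕ) (h1 : 1 ≤ ℓ) (h2 : 2 * ℓ ≤ n) :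
    ∃ a : ↥(Cfsg.SU n F q), (((a : Matrix.SpecialLinearGroup (Fin n) F) : Matrix (Fin n) (Fin n) F) = Matrix.of (fun i j : Fin n => if (j.val < ℓ ∧ i.val = j.val + (n - ℓ)) ∨ (i.val < ℓ ∧ j.val = i.val + (n - ℓ)) ∨ (i = j ∧ ℓ ≤ i.val ∧ i.val < n - ℓ) then (1 : F) else 0)) ∧ orderOf a = 2 ∧ ((((a : Matrix.SpecialLinearGroup (Fin n) F) : Matrix (Fin n) (Fin n) F)) - 1).rank = ℓ := by
  obtain ⟨a0, ha0⟩ : ∃ a : Matrix.SpecialLinearGroup (Fin n) F,
      (a : Matrix (Fin n) (Fin n) F) = pMat F n ℓ :=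
    ⟨⟨pMat F n ℓ, pMat_det F n ℓ h2⟩, rfl⟩
  have hmem : a0 ∈ Cfsg.SU n F q := by
    intro u v
    show hermForm n F q ((slToMat n F a0) *ᵥ u) ((slToMat n F a0) *ᵥ v) = hermForm n F q u v
    have : slToMat n F a0 = pMat F n ℓ := by
      rw [← ha0]; rfl
    rw [this]
    unfold hermForm
    simp only [pMat_mulVec F n ℓ h2]
    exact Equiv.sum_comp (Function.Involutive.toPerm (sig n ℓ h2) (sig_sig n ℓ h2)) (fun i => u i * v i ^ q)
  refine ⟨⟨a0, hmem⟩, ha0, ?_, ?_⟩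
  · have : Fact (Nat.Prime 2) := ⟨Nat.prime_two⟩
    apply orderOf_eq_prime
    · apply Subtype.ext
      apply Subtype.ext
      show ((a0 ^ 2 : Matrix.SpecialLinearGroup (Fin n) F) : Matrix (Fin n) (Fin n) F) = ((1 : Matrix.SpecialLinearGroup (Fin n) F) : Matrix (Fin n) (Fin n) F)
      rw [Matrix.SpecialLinearGroup.coe_pow, Matrix.SpecialLinearGroup.coe_one, ha0, pow_two]
      exact pMat_mul_self F n ℓ h2
    · intro h
      have h0 : a0 = 1 := congrArg Subtype.val h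
      obtain ⟨z, hz⟩ : ∃ z : Fin n, z.val = 0 := ⟨⟨0, by omega⟩, rfl⟩
      have h' := congrArg (fun a : Matrix.SpecialLinearGroup (Fin n) F => (a : Matrix (Fin n) (Fin n) F) z z) h0
      simp only [Matrix.SpecialLinearGroup.coe_one, ha0, pMat, Matrix.of_apply, Matrix.one_apply_eq] at h'
      rw [if_neg (by omega)] at h'
      exact zero_ne_one h'
  · show (((a0 : Matrix.SpecialLinearGroup (Fin n) F) : Matrix (Fin n) (Fin n) F) - 1).rank = ℓ
    rw [ha0]
    exact rank_pMat_sub_one F n ℓ h2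

end Cfsg.Agent.S2165
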