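import Cfsg.Statements.S2166
import Cfsg.Agent.Lib.Helper44.SympInvolution

set_option autoImplicit false
open Cfsg

namespace Cfsg.Agent.S2166

/-- Conjugacy of involutions in the symplectic group Sp_{2m}(F), F a finite field of characteristic two, m ≥ 2 (Sp taken as the matrices A with A J Aᵀ = J, acting on column vectors, with the alternating form f(u, v) = u ⬝ (J v)). For an involution t write V(t) for the set of vectors v with f(v, t v) = 0 (a subspace). Two involutions a, b are conjugate in Sp_{2m}(F) exactly when a − 1 and b − 1 have the same rank and, in case that rank is even, V(a) and V(b) have the same number of elements. -/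
theorem result {F : Type*} [Field F] [Fintype F] [CharP F 2] {m : ℕ} (hm : 2 ≤ m) (a b : ↥(Matrix.symplecticGroup (Fin m) F)) (ha : orderOf a = 2) (hb : orderOf b = 2) :
    IsConj a b ↔ ((((a : ↥(Matrix.symplecticGroup (Fin m) F)) : Matrix (Fin m ⊕ Fin m) (Fin m ⊕ Fin m) F) - 1).rank = (((b : ↥(Matrix.symplecticGroup (Fin m) F)) : Matrix (Fin m ⊕ Fin m) (Fin m ⊕ Fin m) F) - 1).rank ∧
      (Even (((a : ↥(Matrix.symplecticGroup (Fin m) F)) : Matrix (Fin m ⊕ Fin m) (Fin m ⊕ Fin m) F) - 1).rank → Nat.card {v : Fin m ⊕ Fin m → F // Cfsg.sympForm m F v (Matrix.mulVec ((a : ↥(Matrix.symplecticGroup (Fin m) F)) : Matrix (Fin m ⊕ Fin m) (Fin m ⊕ Fin m) F) v) = 0} = Nat.card {v : Fin m ⊕ Fin m → F // Cfsg.sympForm m F v (Matrix.mulVec ((b : ↥(Matrix.symplecticGroup (Fin m) F)) : Matrix (Fin m ⊕ Fin m) (Fin m ⊕ Fin m) F) v) = 0})) := by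
  classical
  have hsq : ∀ c : ↥(Matrix.symplecticGroup (Fin m) F), orderOf c = 2 →
      (c : Matrix (Fin m ⊕ Fin m) (Fin m ⊕ Fin m) F) *
        (c : Matrix (Fin m ⊕ Fin m) (Fin m ⊕ Fin m) F) = 1 := by
    intro c hc
    have h1 : c * c = 1 := by rw [← pow_two, ← hc]; exact pow_orderOf_eq_one c
    exact congrArg Subtype.val h1
  have hiso : ∀ c : ↥(Matrix.symplecticGroup (Fin m) F), ∀ x y,
      Cfsg.sympForm m F (Matrix.mulVec (c : Matrix (Fin m ⊕ Fin m) (Fin m ⊕ Fin m) F) x)
        (Matrix.mulVec (c : Matrix (Fin m ⊕ Fin m) (Fin m ⊕ Fin m) F) y) =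
      Cfsg.sympForm m F x y :=
    fun c x y => Cfsg.Agent.Lib.Helper13.preserves_of_mem_symplectic m _ c.2 x y
  constructor
  · intro h
    obtain ⟨c, hc⟩ := isConj_iff.mp h
    have h1 : c * a = b * c := mul_inv_eq_iff_eq_mul.mp hc
    have h2 : c⁻¹ * b = a * c⁻¹ := by
      rw [← hc]; group
    obtain ⟨hr1, hle1⟩ := Cfsg.Agent.Lib.Helper44.sp_conj_invariants a b c h1
    obtain ⟨-, hle2⟩ := Cfsg.Agent.Lib.Helper44.sp_conj_invariants b a c⁻¹ h2
    exact ⟨hr1, fun _ => le_antisymm hle1 hle2⟩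
  · rintro ⟨hrk, hcard⟩
    have hfull : ∀ c : ↥(Matrix.symplecticGroup (Fin m) F),
        (∀ v, Cfsg.sympForm m F v
          (Matrix.mulVec (c : Matrix (Fin m ⊕ Fin m) (Fin m ⊕ Fin m) F) v) = 0) →
        Nat.card {v : Fin m ⊕ Fin m → F // Cfsg.sympForm m F v
          (Matrix.mulVec (c : Matrix (Fin m ⊕ Fin m) (Fin m ⊕ Fin m) F) v) = 0} =
        Nat.card (Fin m ⊕ Fin m → F) :=
      fun c hc => Nat.card_congr (Equiv.subtypeUnivEquiv hc)
    have htype : (∀ v, Cfsg.sympForm m F v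
          (Matrix.mulVec (a : Matrix (Fin m ⊕ Fin m) (Fin m ⊕ Fin m) F) v) = 0) ↔
        (∀ v, Cfsg.sympForm m F v
          (Matrix.mulVec (b : Matrix (Fin m ⊕ Fin m) (Fin m ⊕ Fin m) F) v) = 0) := by
      constructor
      · intro halt
        have hev := Cfsg.Agent.Lib.Helper44.sp_involution_even_rank _ (hiso a) (hsq a ha) halt
        have h1 := hcard hev
        rw [hfull a halt] at h1
        exact Cfsg.Agent.Lib.Helper44.forall_of_card_subtype_eq _ h1.symm
      · intro halt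
        have hev := Cfsg.Agent.Lib.Helper44.sp_involution_even_rank _ (hiso b) (hsq b hb) halt
        rw [← hrk] at hev
        have h1 := hcard hev
        rw [hfull b halt] at h1
        exact Cfsg.Agent.Lib.Helper44.forall_of_card_subtype_eq _ h1
    obtain ⟨g, hg⟩ := Cfsg.Agent.Lib.Helper44.sp_involution_conj _ _ (hiso a) (hiso b)
      (hsq a ha) (hsq b hb) hrk htype
    rw [isConj_iff]
    refine ⟨g, ?_⟩
    rw [mul_inv_eq_iff_eq_mul]
    exact Subtype.ext hg

end Cfsg.Agent.S2166
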