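import Cfsg.Statements.S2167
import Cfsg.Agent.Lib.Helper13.Symp
import Cfsg.Agent.Lib.Helper36.AltEven

set_option autoImplicit false
open Cfsg

namespace Cfsg.Agent.S2167

open Matrix Cfsg.Agent.Lib.Helper13 Cfsg.Agent.Lib.Helper36

variable {F : Type*} [Field F] {m : ℕ}

/-- the additive map `v ↦ f(v, A v)` -/
noncomputable def phi [CharP F 2] (A : Matrix (Fin m ⊕ Fin m) (Fin m ⊕ Fin m) F)
    (hA : A ∈ Matrix.symplecticGroup (Fin m) F) (hAA : A * A = 1) :
    (Fin m ⊕ Fin m → F) →+ F where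
  toFun v := Cfsg.sympForm m F v (A *ᵥ v)
  map_zero' := by simp [sympForm_zero_left]
  map_add' v w := by
    rw [mulVec_add, sympForm_add_left, sympForm_add_right, sympForm_add_right]
    have h1 : Cfsg.sympForm m F w (A *ᵥ v) = - Cfsg.sympForm m F v (A *ᵥ w) := by
      rw [← preserves_of_mem_symplectic m A hA w (A *ᵥ v), mulVec_mulVec, hAA, one_mulVec,
        sympForm_swap]
    rw [h1]; ring

theorem phi_apply [CharP F 2] (A : Matrix (Fin m ⊕ Fin m) (Fin m ⊕ Fin m) F)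
    (hA : A ∈ Matrix.symplecticGroup (Fin m) F) (hAA : A * A = 1) (v : Fin m ⊕ Fin m → F) :
    phi A hA hAA v = Cfsg.sympForm m F v (A *ᵥ v) := rfl

theorem phi_smul [CharP F 2] (A : Matrix (Fin m ⊕ Fin m) (Fin m ⊕ Fin m) F)
    (hA : A ∈ Matrix.symplecticGroup (Fin m) F) (hAA : A * A = 1) (d : F) (v : Fin m ⊕ Fin m → F) :
    phi A hA hAA (d • v) = d * d * phi A hA hAA v := by
  rw [phi_apply, phi_apply, mulVec_smul, sympForm_smul_left, sympForm_smul_right]; ring

theorem card_part [Fintype F] [CharP F 2] (A : Matrix (Fin m ⊕ Fin m) (Fin m ⊕ Fin m) F)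
    (hA : A ∈ Matrix.symplecticGroup (Fin m) F) (hAA : A * A = 1) :
    Nat.card {v : Fin m ⊕ Fin m → F // Cfsg.sympForm m F v (A *ᵥ v) = 0} = Fintype.card F ^ (2 * m) ∨
    Nat.card {v : Fin m ⊕ Fin m → F // Cfsg.sympForm m F v (A *ᵥ v) = 0} * Fintype.card F = Fintype.card F ^ (2 * m) := by
  set φ := phi A hA hAA with hφ
  have hker : Nat.card {v : Fin m ⊕ Fin m → F // Cfsg.sympForm m F v (A *ᵥ v) = 0} = Nat.card φ.ker := by
    apply Nat.card_congr
    exact Equiv.subtypeEquivRight (fun v => by rw [AddMonoidHom.mem_ker]; rfl)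
  have hV : Nat.card (Fin m ⊕ Fin m → F) = Fintype.card F ^ (2 * m) := by
    rw [Nat.card_eq_fintype_card, Fintype.card_fun, Fintype.card_sum, Fintype.card_fin, two_mul]
  have hmul : Nat.card φ.ker * Nat.card φ.range = Nat.card (Fin m ⊕ Fin m → F) := by
    rw [← AddSubgroup.index_ker]; exact AddSubgroup.card_mul_index _
  have hchar : ringChar F = 2 := ringChar.eq F 2
  rw [hker]
  by_cases hr : ∃ x ∈ φ.range, x ≠ 0
  · right
    obtain ⟨x, hx, hx0⟩ := hr
    have htop : φ.range = ⊤ := by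
      rw [eq_top_iff]
      intro y _
      obtain ⟨v, rfl⟩ := hx
      obtain ⟨d, hd⟩ := FiniteField.isSquare_of_char_two hchar (y * (φ v)⁻¹)
      refine ⟨d • v, ?_⟩
      rw [hφ, phi_smul, ← hd, ← hφ, mul_assoc, inv_mul_cancel₀ hx0, mul_one]
    rw [htop] at hmul
    rw [← hV, ← hmul, AddSubgroup.card_top, Nat.card_eq_fintype_card (α := F)]
  · left
    push Not at hr
    have hbot : φ.range = ⊥ := by
      rw [eq_bot_iff]
      intro y hy
      exact hr y hy
    rw [hbot] at hmul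
    rw [← hV, ← hmul]
    simp

theorem sympForm_eq_zero_right (w : Fin m ⊕ Fin m → F)
    (h : ∀ z, Cfsg.sympForm m F z w = 0) : w = 0 := by
  have hJ : Matrix.J (Fin m) F *ᵥ w = 0 := by
    ext i
    have := h (Pi.single i 1)
    rw [sympForm_def, single_one_dotProduct] at this
    exact this
  have := congrArg (fun x => Matrix.J (Fin m) F *ᵥ x) hJ
  simp only [mulVec_mulVec, Matrix.J_squared, mulVec_zero, neg_mulVec, one_mulVec, neg_eq_zero] at this
  exact this

theorem even_part [Fintype F] [CharP F 2] (A : Matrix (Fin m ⊕ Fin m) (Fin m ⊕ Fin m) F)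
    (hall : ∀ v : Fin m ⊕ Fin m → F, Cfsg.sympForm m F v (A *ᵥ v) = 0) :
    Even (A - 1).rank := by
  set N := A - 1 with hN
  let B : LinearMap.BilinForm F (Fin m ⊕ Fin m → F) := Matrix.toBilin' (Matrix.J (Fin m) F * N)
  have hB : ∀ u v, B u v = Cfsg.sympForm m F u (N *ᵥ v) := by
    intro u v
    show Matrix.toBilin' (Matrix.J (Fin m) F * N) u v = _
    rw [Matrix.toBilin'_apply', sympForm_def, mulVec_mulVec]
  have halt : B.IsAlt := by
    intro v
    rw [hB, hN, sub_mulVec, one_mulVec, sympForm_sub_right, hall v, sympForm_self, sub_zero]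
  obtain ⟨K, hK⟩ : ∃ K : Submodule F (Fin m ⊕ Fin m → F), K = LinearMap.ker N.mulVecLin := ⟨_, rfl⟩
  obtain ⟨C, hC⟩ := Submodule.exists_isCompl K
  have hdim : Module.finrank F C = N.rank := by
    have h1 := Submodule.finrank_add_eq_of_isCompl hC
    have h2 := LinearMap.finrank_range_add_finrank_ker N.mulVecLin
    rw [Matrix.rank]
    rw [hK] at h1
    omega
  rw [← hdim]
  apply even_finrank_of_isAlt_nondegenerate (B.restrict C) (fun x => halt x)
  have halt' : (B.restrict C).IsAlt := fun x => halt x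
  refine (LinearMap.IsRefl.nondegenerate_iff_separatingLeft halt'.isRefl).mpr ?_
  intro x hx
  have hx' : ∀ z, B x z = 0 := by
    intro z
    have hz : z ∈ K ⊔ C := by rw [hC.sup_eq_top]; trivial
    obtain ⟨k, hk, c, hc, rfl⟩ := Submodule.mem_sup.mp hz
    rw [map_add]
    have h1 : B x k = 0 := by
      rw [hB]
      have : N *ᵥ k = 0 := by rw [hK] at hk; exact hk
      rw [this, sympForm_zero_right]
    have h2 : B x c = 0 := hx ⟨c, hc⟩
    rw [h1, h2, add_zero]
  have hNx : N *ᵥ (x : Fin m ⊕ Fin m → F) = 0 := by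
    apply sympForm_eq_zero_right
    intro z
    rw [← hB, ← halt.neg_eq, hx', neg_zero]
  have hxK : (x : Fin m ⊕ Fin m → F) ∈ K := by rw [hK]; exact hNx
  have : (x : Fin m ⊕ Fin m → F) ∈ K ⊓ C := ⟨hxK, x.2⟩
  rw [hC.inf_eq_bot] at this
  exact Subtype.ext this

theorem result {F : Type*} [Field F] [Fintype F] [CharP F 2] {m : ℕ} (hm : 2 ≤ m) (a : ↥(Matrix.symplecticGroup (Fin m) F)) (ha : orderOf a = 2) :
    (Nat.card {v : Fin m ⊕ Fin m → F // Cfsg.sympForm m F v (Matrix.mulVec ((a : ↥(Matrix.symplecticGroup (Fin m) F)) : Matrix (Fin m ⊕ Fin m) (Fin m ⊕ Fin m) F) v) = 0} = Fintype.card F ^ (2 * m) ∨ Nat.card {v : Fin m ⊕ Fin m → F // Cfsg.sympForm m F v (Matrix.mulVec ((a : ↥(Matrix.symplecticGroup (Fin m) F)) : Matrix (Fin m ⊕ Fin m) (Fin m ⊕ Fin m) F) v) = 0} * Fintype.card F = Fintype.card F ^ (2 * m)) ∧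
    ((∀ v : Fin m ⊕ Fin m → F, Cfsg.sympForm m F v (Matrix.mulVec ((a : ↥(Matrix.symplecticGroup (Fin m) F)) : Matrix (Fin m ⊕ Fin m) (Fin m ⊕ Fin m) F) v) = 0) → Even (((a : ↥(Matrix.symplecticGroup (Fin m) F)) : Matrix (Fin m ⊕ Fin m) (Fin m ⊕ Fin m) F) - 1).rank) := by
  have hAA : (a : Matrix (Fin m ⊕ Fin m) (Fin m ⊕ Fin m) F) * (a : Matrix (Fin m ⊕ Fin m) (Fin m ⊕ Fin m) F) = 1 := by
    have h := pow_orderOf_eq_one a
    rw [ha, pow_two] at h
    have := congrArg (fun x : ↥(Matrix.symplecticGroup (Fin m) F) => (x : Matrix (Fin m ⊕ Fin m) (Fin m ⊕ Fin m) F)) h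
    exact this
  exact ⟨card_part _ a.2 hAA, even_part _⟩

end Cfsg.Agent.S2167
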