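import Cfsg.Statements.S2173
import Cfsg.Agent.Lib.Helper8.OmegaNoSplit
import Cfsg.Agent.Lib.Helper8.InvolCountForms

set_option autoImplicit false
open Cfsg

namespace Cfsg.Agent.S2173

/-- For the quadratic form Σ x_i y_i + (z₁² + c z₁ z₂ + d z₂²) in dimension 2m with anisotropic binary part over a finite field F of characteristic two, m ≥ 4 (minus type): two involutions of the commutator subgroup Ω that are conjugate in the full isometry group O are conjugate by an element of Ω (no class of involutions of O inside Ω splits). -/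
theorem result {F : Type*} [Field F] [Fintype F] [CharP F 2] {m : ℕ} (hm : 4 ≤ m) (c d : F) (hcd : ∀ z₁ z₂ : F, z₁ ^ 2 + c * z₁ * z₂ + d * z₂ ^ 2 = 0 → z₁ = 0 ∧ z₂ = 0) (t s : ↥(Cfsg.isometryGroup F (Cfsg.quadFormMinus (m - 1) F c d))) (ht : orderOf t = 2) (hs : orderOf s = 2) (htO : t ∈ Cfsg.Omega F (Cfsg.quadFormMinus (m - 1) F c d)) (hsO : s ∈ Cfsg.Omega F (Cfsg.quadFormMinus (m - 1) F c d)) (hconj : IsConj t s) :
    ∃ g ∈ Cfsg.Omega F (Cfsg.quadFormMinus (m - 1) F c d), g * t * g⁻¹ = s := by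
  have h2 : (2 : F) = 0 := by
    have := CharP.cast_eq_zero F 2
    exact_mod_cast this
  have hc0 : c ≠ 0 := by
    rintro rfl
    obtain ⟨e, he⟩ := FiniteField.isSquare_of_char_two (ringChar.eq F 2) d
    have := hcd e 1 (by rw [he]; linear_combination (e * e) * h2)
    exact one_ne_zero this.2
  have hdim : Module.finrank F ((Fin (m - 1) ⊕ Fin (m - 1)) ⊕ Fin 2 → F) = 2 * m := by
    rw [Module.finrank_fintype_fun_eq_card, Fintype.card_sum, Fintype.card_sum, Fintype.card_fin,
      Fintype.card_fin]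
    omega
  have hQ := Cfsg.Agent.Lib.Helper8.minusForm_nondegenerate (m - 1) F c d h2 hc0
  have hyp := Cfsg.Agent.Lib.Helper8.minusForm_hyp (m - 1) F c d
  exact Cfsg.Agent.Lib.Helper8.omega_conj_of_small_witt_index h2
    (Cfsg.quadFormMinus (m - 1) F c d) (Cfsg.Agent.Lib.Helper8.minusForm (m - 1) F c d)
    (Cfsg.Agent.Lib.Helper8.minusForm_coe (m - 1) F c d) hQ
    (Or.inl (Or.inr (by rw [hdim]; omega))) (m - 1) _
    (Cfsg.Agent.Lib.Helper8.minusForm_e_indep (m - 1) F) hyp.qe hyp.ee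
    (Cfsg.Agent.Lib.Helper8.minusForm_max (m - 1) F c d hcd)
    (by rw [hdim]; omega) t s ht hconj

end Cfsg.Agent.S2173
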