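import Cfsg.Statements.S2177
import Cfsg.Agent.Lib.Helper2.G2iMain

set_option autoImplicit false
open Cfsg

namespace Cfsg.Agent.S2177

open Cfsg.Lie Cfsg.Agent.Lib.Helper36 Cfsg.Agent.Lib.Helper20.G2c Cfsg.Agent.Lib.Helper2.G2i

/-- Conjugacy classes of involutions in the Chevalley group of type G₂ over a finite field F of characteristic two with at least four elements (the matrix group generated by the root elements x_r(t)). In this problem's root numbering for type G₂ (the Chevalley data module; p₁ = a short, p₂ = b long; roots indexed by coefficient vectors in increasing order) let 11 be the highest root 3a + 2b (long) and 9 the short root 2a + b; consider x_{3a+2b}(1) and x_{2a+b}(1). Then: each invertible matrix equal to one of these two products lies in the group and has order 2; every element of order 2 of the group is conjugate in the group to one of them; and no two of them are conjugate in the group (so, the two matrices being distinct, the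 group has exactly two conjugacy classes of involutions). -/
theorem result {F : Type*} [Field F] [Fintype F] [CharP F 2] (hF : 4 ≤ Fintype.card F) :
    (∀ y : GL Cfsg.Lie.chevG2.Idx F, ((y : GL Cfsg.Lie.chevG2.Idx F) : Matrix Cfsg.Lie.chevG2.Idx Cfsg.Lie.chevG2.Idx F) ∈ [Cfsg.Lie.chevG2.x F 11 1, Cfsg.Lie.chevG2.x F 9 1] → y ∈ Cfsg.Lie.chevG2.group F ∧ orderOf y = 2) ∧
    (∀ g ∈ Cfsg.Lie.chevG2.group F, orderOf g = 2 → ∃ y ∈ Cfsg.Lie.chevG2.group F, ((y : GL Cfsg.Lie.chevG2.Idx F) : Matrix Cfsg.Lie.chevG2.Idx Cfsg.Lie.chevG2.Idx F) ∈ [Cfsg.Lie.chevG2.x F 11 1, Cfsg.Lie.chevG2.x F 9 1] ∧ ∃ h ∈ Cfsg.Lie.chevG2.group F, h * g * h⁻¹ = y) ∧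
    (∀ y₁ ∈ Cfsg.Lie.chevG2.group F, ∀ y₂ ∈ Cfsg.Lie.chevG2.group F, ((y₁ : GL Cfsg.Lie.chevG2.Idx F) : Matrix Cfsg.Lie.chevG2.Idx Cfsg.Lie.chevG2.Idx F) ∈ [Cfsg.Lie.chevG2.x F 11 1, Cfsg.Lie.chevG2.x F 9 1] → ((y₂ : GL Cfsg.Lie.chevG2.Idx F) : Matrix Cfsg.Lie.chevG2.Idx Cfsg.Lie.chevG2.Idx F) ∈ [Cfsg.Lie.chevG2.x F 11 1, Cfsg.Lie.chevG2.x F 9 1] →
      (∃ h ∈ Cfsg.Lie.chevG2.group F, h * y₁ * h⁻¹ = y₂) → ((y₁ : GL Cfsg.Lie.chevG2.Idx F) : Matrix Cfsg.Lie.chevG2.Idx Cfsg.Lie.chevG2.Idx F) = ((y₂ : GL Cfsg.Lie.chevG2.Idx F) : Matrix Cfsg.Lie.chevG2.Idx Cfsg.Lie.chevG2.Idx F)) := by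
  have key : ∀ y : GL chevG2.Idx F,
      ((y : GL chevG2.Idx F) : Matrix chevG2.Idx chevG2.Idx F) ∈ [chevG2.x F 11 1, chevG2.x F 9 1] →
      y = xg F 11 1 ∨ y = xg F 9 1 := by
    intro y hy
    simp only [List.mem_cons, List.not_mem_nil, or_false] at hy
    rcases hy with h | h
    · left
      exact Units.ext (by rw [h]; rfl)
    · right
      exact Units.ext (by rw [h]; rfl)
  have m11 : ((xg F 11 1 : GL chevG2.Idx F) : Matrix chevG2.Idx chevG2.Idx F) ∈
      [chevG2.x F 11 1, chevG2.x F 9 1] := by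
    simp only [List.mem_cons, List.not_mem_nil, or_false]
    left; rfl
  have m9 : ((xg F 9 1 : GL chevG2.Idx F) : Matrix chevG2.Idx chevG2.Idx F) ∈
      [chevG2.x F 11 1, chevG2.x F 9 1] := by
    simp only [List.mem_cons, List.not_mem_nil, or_false]
    right; rfl
  refine ⟨?_, ?_, ?_⟩
  · intro y hy
    rcases key y hy with rfl | rfl
    · exact root_order F 11 (by decide)
    · exact root_order F 9 (by decide)
  · intro g hg ho
    obtain ⟨h, hh, hu⟩ := syl_conj F g hg ho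
    have hgg : g * g = 1 := by
      rw [← pow_two, ← ho]
      exact pow_orderOf_eq_one g
    have hg1 : g ≠ 1 := by
      rintro rfl
      rw [orderOf_one] at ho
      omega
    have h2 : (h * g * h⁻¹) * (h * g * h⁻¹) = 1 := by
      calc (h * g * h⁻¹) * (h * g * h⁻¹) = h * (g * g) * h⁻¹ := by group
        _ = 1 := by rw [hgg]; group
    have h1 : h * g * h⁻¹ ≠ 1 := by
      intro e
      apply hg1
      calc g = h⁻¹ * (h * g * h⁻¹) * h := by group
        _ = 1 := by rw [e]; group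
    rcases pos_invol F _ hu h2 h1 with hc | hc
    · obtain ⟨k, hk, e⟩ := hc
      refine ⟨xg F 9 1, xGL_mem_group chevG2 hG2 F 9 1, m9, k * h, mul_mem hk hh, ?_⟩
      rw [← e]
      group
    · obtain ⟨k, hk, e⟩ := hc
      refine ⟨xg F 11 1, xGL_mem_group chevG2 hG2 F 11 1, m11, k * h, mul_mem hk hh, ?_⟩
      rw [← e]
      group
  · intro y₁ _ y₂ _ m₁ m₂ hc
    rcases key y₁ m₁ with rfl | rfl <;> rcases key y₂ m₂ with rfl | rfl
    · rfl
    · exfalso
      obtain ⟨h, hh, e⟩ := hc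
      refine not_conj F ⟨h⁻¹, inv_mem hh, ?_⟩
      rw [← e]
      group
    · exfalso
      exact not_conj F hc
    · rfl


end Cfsg.Agent.S2177
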