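import Cfsg.Statements.S2178
import Cfsg.Agent.Lib.Helper36.ChevCentRoot2

set_option autoImplicit false
open Cfsg

namespace Cfsg.Agent.S2178

open Cfsg.Lie Cfsg.Agent.Lib.Helper36 in
/-- `Q` as a join of `U` and three root subgroups -/
theorem qsub_eq3 {F : Type*} [Field F] (i₀ a b c : ℕ)
    (hL : [a, b, c] = ((List.range chevF4.rank).filter (· != i₀)).map (fun j => chevF4.neg (chevF4.simple j))) :
    Qsub chevF4 F i₀ = chevF4.posUnipotent F ⊔ chevF4.rootSubgroup F a ⊔ chevF4.rootSubgroup F b ⊔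
      chevF4.rootSubgroup F c := by
  have hmem : ∀ s, s ∈ [a, b, c] ↔ ∃ j < chevF4.rank, j ≠ i₀ ∧ s = chevF4.neg (chevF4.simple j) := by
    intro s
    rw [hL, List.mem_map]
    constructor
    · rintro ⟨j, hj, rfl⟩
      simp only [List.mem_filter, List.mem_range, bne_iff_ne, ne_eq] at hj
      exact ⟨j, hj.1, hj.2, rfl⟩
    · rintro ⟨j, hj, hne, rfl⟩
      exact ⟨j, by simp [List.mem_filter, hj, hne], rfl⟩
  apply le_antisymm
  · unfold Qsub
    rw [Subgroup.closure_le]
    rintro g ⟨s, t, hs | hs, hg⟩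
    · apply (le_sup_of_le_left (le_sup_of_le_left le_sup_left) : chevF4.posUnipotent F ≤ _)
      exact Subgroup.subset_closure ⟨s, t, hs, hg⟩
    · have := (hmem s).2 hs
      simp only [List.mem_cons, List.not_mem_nil, or_false] at this
      rcases this with rfl | rfl | rfl
      · exact (le_sup_of_le_left (le_sup_of_le_left le_sup_right) : chevF4.rootSubgroup F s ≤ _)
          (Subgroup.subset_closure ⟨t, hg⟩)
      · exact (le_sup_of_le_left le_sup_right : chevF4.rootSubgroup F s ≤ _)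
          (Subgroup.subset_closure ⟨t, hg⟩)
      · exact (le_sup_right : chevF4.rootSubgroup F s ≤ _) (Subgroup.subset_closure ⟨t, hg⟩)
  · have hX : ∀ s ∈ [a, b, c], chevF4.rootSubgroup F s ≤ Qsub chevF4 F i₀ := by
      intro s hs
      unfold ChevalleyDatum.rootSubgroup Qsub
      apply Subgroup.closure_mono
      rintro g ⟨t, hg⟩
      exact ⟨s, t, Or.inr ((hmem s).1 hs), hg⟩
    exact sup_le (sup_le (sup_le (pos_le_Qsub chevF4 F i₀) (hX a (by simp))) (hX b (by simp))) (hX c (by simp))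


/-- Centralizers of the long and the short root involutions in the Chevalley group G of type F₄ over a finite field F of characteristic two (this problem's root numbering for type F₄, from the Chevalley data module: fundamental roots p₁, p₂ short, p₃, p₄ long, with indices 33, 27, 25, 24, their negatives 14, 20, 22, 23; highest root 47, highest short root 44; U the subgroup generated by the positive root subgroups). For an element t of G with matrix x_47(1): the centralizer of t in G is the subgroup generated by U and the root subgroups X_{−p₁}, X_{−p₂}, X_{−p₃} (the unipotent radical of the maximal parabolic subgroup whose Levi factor has fundamental roots p₁, p₂, p₃, together with that Levi factor's root subgroups; the Levi factor is of type C₃). For an element u of G with matrix x_44(1): the centralizer of u in G is generated by U and X_{−p₂}, X_{−p₃}, X_{−p₄} (the same construction for the Levi factor with fundamental roots p₂, p₃, p₄, of type B₃). -/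
theorem result {F : Type*} [Field F] [Fintype F] [CharP F 2] (t u : GL Cfsg.Lie.chevF4.Idx F) (ht : (t : Matrix Cfsg.Lie.chevF4.Idx Cfsg.Lie.chevF4.Idx F) = Cfsg.Lie.chevF4.x F 47 1) (hu : (u : Matrix Cfsg.Lie.chevF4.Idx Cfsg.Lie.chevF4.Idx F) = Cfsg.Lie.chevF4.x F 44 1) :
    Cfsg.Lie.chevF4.group F ⊓ Subgroup.centralizer {t} = Cfsg.Lie.chevF4.posUnipotent F ⊔ Cfsg.Lie.chevF4.rootSubgroup F 14 ⊔ Cfsg.Lie.chevF4.rootSubgroup F 20 ⊔ Cfsg.Lie.chevF4.rootSubgroup F 22 ∧
    Cfsg.Lie.chevF4.group F ⊓ Subgroup.centralizer {u} = Cfsg.Lie.chevF4.posUnipotent F ⊔ Cfsg.Lie.chevF4.rootSubgroup F 20 ⊔ Cfsg.Lie.chevF4.rootSubgroup F 22 ⊔ Cfsg.Lie.chevF4.rootSubgroup F 23 := by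
  have hD : Cfsg.Lie.chevF4 ∈ [Cfsg.Lie.chevG2, Cfsg.Lie.chevB2, Cfsg.Lie.chevD4, Cfsg.Lie.chevF4, Cfsg.Lie.chevE6, Cfsg.Lie.chevE7, Cfsg.Lie.chevE8] := by simp
  have H1 := Cfsg.Agent.Lib.Helper36.centHyp_of_chk Cfsg.Lie.chevF4 hD F 0 (fun c hc => by
    have : c = 0 := by simpa using hc
    rw [this]; simp) _ _ Cfsg.Agent.Lib.Helper36.chkCent_F4_long
  have H2 := Cfsg.Agent.Lib.Helper36.centHyp_of_chk Cfsg.Lie.chevF4 hD F 2 (fun c hc => by
    have h2 : (2 : ℤ) ∣ c := Int.dvd_of_emod_eq_zero hc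
    exact (CharP.intCast_eq_zero_iff F 2 c).2 (by exact_mod_cast h2)) _ _ Cfsg.Agent.Lib.Helper36.chkCent_F4_short
  have ht' : t = Cfsg.Agent.Lib.Helper36.xGL Cfsg.Lie.chevF4 hD F 47 1 := Units.ext ht
  have hu' : u = Cfsg.Agent.Lib.Helper36.xGL Cfsg.Lie.chevF4 hD F 44 1 := Units.ext hu
  constructor
  · rw [ht', Cfsg.Agent.Lib.Helper36.centralizer_eq_Qsub Cfsg.Lie.chevF4 hD F H1]
    exact qsub_eq3 3 14 20 22 (by decide)
  · rw [hu', Cfsg.Agent.Lib.Helper36.centralizer_eq_Qsub Cfsg.Lie.chevF4 hD F H2]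
    exact qsub_eq3 0 20 22 23 (by decide)

end Cfsg.Agent.S2178
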