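import Cfsg.Statements.S2180
import Cfsg.Agent.Lib.Helper20.G2cMain
-- import your own Cfsg.Agent.* helpers here

set_option autoImplicit false
open Cfsg

namespace Cfsg.Agent.S2180

open Cfsg.Lie Cfsg.Agent.Lib.Helper36 in
/-- `Q` as a join of `U` and one root subgroup (rank 2) -/
theorem qsub_eq1 {F : Type*} [Field F] (i₀ a : ℕ)
    (hL : [a] = ((List.range chevG2.rank).filter (· != i₀)).map (fun j => chevG2.neg (chevG2.simple j))) :
    Qsub chevG2 F i₀ = chevG2.posUnipotent F ⊔ chevG2.rootSubgroup F a := by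
  have hmem : ∀ s, s ∈ [a] ↔ ∃ j < chevG2.rank, j ≠ i₀ ∧ s = chevG2.neg (chevG2.simple j) := by
    intro s
    rw [hL, List.mem_map]
    constructor
    · rintro ⟨j, hj, rfl⟩
      simp only [List.mem_filter, List.mem_range, bne_iff_ne, ne_eq] at hj
      exact ⟨j, hj.1, hj.2, rfl⟩
    · rintro ⟨j, hj, hne, rfl⟩
      exact ⟨j, by simp [List.mem_filter, hj, hne], rfl⟩
  apply le_antisymm
  · unfold Qsub
    rw [Subgroup.closure_le]
    rintro g ⟨s, t, hs | hs, hg⟩
    · apply (le_sup_left : chevG2.posUnipotent F ≤ _)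
      exact Subgroup.subset_closure ⟨s, t, hs, hg⟩
    · have := (hmem s).2 hs
      simp only [List.mem_cons, List.not_mem_nil, or_false] at this
      subst this
      exact (le_sup_right : chevG2.rootSubgroup F s ≤ _) (Subgroup.subset_closure ⟨t, hg⟩)
  · have hX : chevG2.rootSubgroup F a ≤ Qsub chevG2 F i₀ := by
      unfold ChevalleyDatum.rootSubgroup Qsub
      apply Subgroup.closure_mono
      rintro g ⟨t, hg⟩
      exact ⟨a, t, Or.inr ((hmem a).1 (by simp)), hg⟩
    exact sup_le (pos_le_Qsub chevG2 F i₀) hX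

/-- Centralizers of involutions in the Chevalley group G of type G₂ over a finite field F of characteristic two with at least four elements (this problem's root numbering for type G₂, from the Chevalley data module: a = p₁ short with index 7, b = p₂ long with index 6, −a = 4, −b = 5, 2a + b = 9, 3a + b = 10, 3a + 2b = 11; U generated by the positive root subgroups). For an element z of G with matrix x_{3a+2b}(1): the centralizer of z in G is generated by U and X_{−a}. For an element t of G with matrix x_{2a+b}(1): the centralizer of t in G is generated by X_{2a+b}, X_{3a+b}, X_{3a+2b}, X_b and X_{−b}. -/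
theorem result {F : Type*} [Field F] [Fintype F] [CharP F 2] (hF : 4 ≤ Fintype.card F) (z t : GL Cfsg.Lie.chevG2.Idx F) (hz : (z : Matrix Cfsg.Lie.chevG2.Idx Cfsg.Lie.chevG2.Idx F) = Cfsg.Lie.chevG2.x F 11 1) (ht : (t : Matrix Cfsg.Lie.chevG2.Idx Cfsg.Lie.chevG2.Idx F) = Cfsg.Lie.chevG2.x F 9 1) :
    Cfsg.Lie.chevG2.group F ⊓ Subgroup.centralizer {z} = Cfsg.Lie.chevG2.posUnipotent F ⊔ Cfsg.Lie.chevG2.rootSubgroup F 4 ∧
    Cfsg.Lie.chevG2.group F ⊓ Subgroup.centralizer {t} = Cfsg.Lie.chevG2.rootSubgroup F 9 ⊔ Cfsg.Lie.chevG2.rootSubgroup F 10 ⊔ Cfsg.Lie.chevG2.rootSubgroup F 11 ⊔ Cfsg.Lie.chevG2.rootSubgroup F 6 ⊔ Cfsg.Lie.chevG2.rootSubgroup F 5 := by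
  have hD : Cfsg.Lie.chevG2 ∈ [Cfsg.Lie.chevG2, Cfsg.Lie.chevB2, Cfsg.Lie.chevD4, Cfsg.Lie.chevF4, Cfsg.Lie.chevE6, Cfsg.Lie.chevE7, Cfsg.Lie.chevE8] := by simp
  have H1 := Cfsg.Agent.Lib.Helper36.centHyp_of_chk Cfsg.Lie.chevG2 hD F 0 (fun c hc => by
    have : c = 0 := by simpa using hc
    rw [this]; simp) _ _ Cfsg.Agent.Lib.Helper36.chkCent_G2_long
  have hz' : z = Cfsg.Agent.Lib.Helper36.xGL Cfsg.Lie.chevG2 hD F 11 1 := Units.ext hz
  have ht' : t = Cfsg.Agent.Lib.Helper20.G2c.xg F 9 1 := Units.ext ht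
  constructor
  · rw [hz', Cfsg.Agent.Lib.Helper36.centralizer_eq_Qsub Cfsg.Lie.chevG2 hD F H1]
    exact qsub_eq1 1 4 (by decide)
  · rw [ht', Cfsg.Agent.Lib.Helper20.G2c.cent_x9 F]
    rfl

end Cfsg.Agent.S2180
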