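import Cfsg.Statements.S2186
import Cfsg.Agent.Lib.Helper36.ChevRootPair2

set_option autoImplicit false
open Cfsg

namespace Cfsg.Agent.S2186

open Cfsg.Lie Cfsg.Agent.Lib.Helper36 in
theorem good_spec (D : ChevalleyDatum) (l : List ℕ) (r' : ℕ) (h : good186 D l r' = true) :
    (∀ i ∈ l, i < D.rank) ∧ D.IsPosRoot (wRoot D l (rho D)) ∧ D.IsPosRoot (wRoot D l r') := by
  unfold good186 at h
  simp only [Bool.and_eq_true, List.all_eq_true, decide_eq_true_eq] at h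
  exact ⟨h.1.1, h.1.2, h.2⟩

open Cfsg.Lie Cfsg.Agent.Lib.Helper36 in
theorem hb_all (D : ChevalleyDatum) (hD : D ∈ [chevG2, chevD4, chevE6, chevE7, chevE8]) :
    chk186a D = true ∧ ∀ r' < D.nroots, r' ≠ 0 → ∃ l : List ℕ, (∀ i ∈ l, i < D.rank) ∧
      D.IsPosRoot (wRoot D l (rho D)) ∧ D.IsPosRoot (wRoot D l r') := by
  simp only [List.mem_cons, List.not_mem_nil, or_false] at hD
  rcases hD with rfl | rfl | rfl | rfl | rfl
  · refine ⟨chk186a_G2, fun r' hr' h0 => ⟨_, good_spec _ _ _ (chk186b_spec _ _ 0 12 chk186b_G2 r' (Nat.zero_le _) hr' h0)⟩⟩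
  · refine ⟨chk186a_D4, fun r' hr' h0 => ⟨_, good_spec _ _ _ (chk186b_spec _ _ 0 24 chk186b_D4 r' (Nat.zero_le _) hr' h0)⟩⟩
  · refine ⟨chk186a_E6, fun r' hr' h0 => ⟨_, good_spec _ _ _ (chk186b_spec _ _ 0 72 chk186b_E6 r' (Nat.zero_le _) hr' h0)⟩⟩
  · refine ⟨chk186a_E7, fun r' hr' h0 => ?_⟩
    have hr'' : r' < 126 := hr'
    rcases Nat.lt_or_ge r' 42 with h1 | h1
    · exact ⟨_, good_spec _ _ _ (chk186b_spec _ _ 0 42 chk186b_E7_0 r' (Nat.zero_le _) (by omega) h0)⟩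
    rcases Nat.lt_or_ge r' 84 with h2 | h2
    · exact ⟨_, good_spec _ _ _ (chk186b_spec _ _ 42 42 chk186b_E7_1 r' h1 (by omega) h0)⟩
    · exact ⟨_, good_spec _ _ _ (chk186b_spec _ _ 84 42 chk186b_E7_2 r' h2 (by omega) h0)⟩
  · refine ⟨chk186a_E8, fun r' hr' h0 => ?_⟩
    have hr'' : r' < 240 := hr'
    rcases Nat.lt_or_ge r' 30 with h1 | h1
    · exact ⟨_, good_spec _ _ _ (chk186b_spec _ _ 0 30 chk186b_E8_0 r' (Nat.zero_le _) (by omega) h0)⟩
    rcases Nat.lt_or_ge r' 60 with h2 | h2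
    · exact ⟨_, good_spec _ _ _ (chk186b_spec _ _ 30 30 chk186b_E8_1 r' h1 (by omega) h0)⟩
    rcases Nat.lt_or_ge r' 90 with h3 | h3
    · exact ⟨_, good_spec _ _ _ (chk186b_spec _ _ 60 30 chk186b_E8_2 r' h2 (by omega) h0)⟩
    rcases Nat.lt_or_ge r' 120 with h4 | h4
    · exact ⟨_, good_spec _ _ _ (chk186b_spec _ _ 90 30 chk186b_E8_3 r' h3 (by omega) h0)⟩
    rcases Nat.lt_or_ge r' 150 with h5 | h5
    · exact ⟨_, good_spec _ _ _ (chk186b_spec _ _ 120 30 chk186b_E8_4 r' h4 (by omega) h0)⟩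
    rcases Nat.lt_or_ge r' 180 with h6 | h6
    · exact ⟨_, good_spec _ _ _ (chk186b_spec _ _ 150 30 chk186b_E8_5 r' h5 (by omega) h0)⟩
    rcases Nat.lt_or_ge r' 210 with h7 | h7
    · exact ⟨_, good_spec _ _ _ (chk186b_spec _ _ 180 30 chk186b_E8_6 r' h6 (by omega) h0)⟩
    · exact ⟨_, good_spec _ _ _ (chk186b_spec _ _ 210 30 chk186b_E8_7 r' h7 (by omega) h0)⟩


/-- Let G be the Chevalley group of type G₂ (over a field with at least four elements), D₄, E₆, E₇ or E₈ over a finite field F of characteristic two, and let X be the root subgroup of the highest root (the last root index) — a long root subgroup, of order |F|. For every g in G, the subgroup generated by X and its conjugate g X g⁻¹ is either a 2-group or is conjugate by an element of G to the subgroup generated by X and the root subgroup of the lowest root (index 0, the negative of the highest root), which is a copy of SL₂(F). -/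
theorem result {F : Type*} [Field F] [Fintype F] [CharP F 2] (D : Cfsg.Lie.ChevalleyDatum) (hD : D ∈ [Cfsg.Lie.chevG2, Cfsg.Lie.chevD4, Cfsg.Lie.chevE6, Cfsg.Lie.chevE7, Cfsg.Lie.chevE8]) (hF : D = Cfsg.Lie.chevG2 → 4 ≤ Fintype.card F) (g : GL D.Idx F) (hg : g ∈ D.group F) :
    IsPGroup 2 ↥(D.rootSubgroup F (D.nroots - 1) ⊔ (D.rootSubgroup F (D.nroots - 1)).map (MulAut.conj g).toMonoidHom) ∨
    ∃ h ∈ D.group F, (D.rootSubgroup F (D.nroots - 1) ⊔ (D.rootSubgroup F (D.nroots - 1)).map (MulAut.conj g).toMonoidHom).map (MulAut.conj h).toMonoidHom = D.rootSubgroup F (D.nroots - 1) ⊔ D.rootSubgroup F 0 := by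
  have hD' : D ∈ [Cfsg.Lie.chevG2, Cfsg.Lie.chevB2, Cfsg.Lie.chevD4, Cfsg.Lie.chevF4, Cfsg.Lie.chevE6, Cfsg.Lie.chevE7, Cfsg.Lie.chevE8] := by
    simp only [List.mem_cons, List.not_mem_nil, or_false] at hD ⊢
    tauto
  obtain ⟨ha, hb⟩ := hb_all D hD
  have hU : IsPGroup 2 ↥(D.posUnipotent F) := by
    obtain ⟨n, -, hn⟩ := FiniteField.card F 2
    apply IsPGroup.of_card (n := (n : ℕ) * (D.nroots / 2))
    rw [Cfsg.Agent.S1027.result D hD', hn, pow_mul]
  exact Cfsg.Agent.Lib.Helper36.pair_main D hD' F ha hb 2 hU g hg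

end Cfsg.Agent.S2186
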