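import Cfsg.Statements.S2209
import Cfsg.Agent.Lib.Helper36.ChevCentRoot2

set_option autoImplicit false
open Cfsg

namespace Cfsg.Agent.S2209

open Cfsg.Lie Cfsg.Agent.Lib.Helper36 in
/-- `Q` in the shape of the statement -/
theorem qsub_eq {F : Type*} [Field F] (D : ChevalleyDatum) (i₀ : ℕ) (L : List ℕ)
    (hL : L = ((List.range D.rank).filter (· != i₀)).map (fun j => D.neg (D.simple j))) :
    Qsub D F i₀ = D.posUnipotent F ⊔ Subgroup.closure {g : GL D.Idx F | ∃ s ∈ L, ∃ c : F,
      (g : Matrix D.Idx D.Idx F) = D.x F s c} := by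
  unfold Qsub ChevalleyDatum.posUnipotent
  rw [← Subgroup.closure_union]
  congr 1
  ext g
  simp only [qGens, Set.mem_ofPred_eq, Set.mem_union]
  constructor
  · rintro ⟨s, t, hs | ⟨j, hj, hne, rfl⟩, hg⟩
    · exact Or.inl ⟨s, t, hs, hg⟩
    · refine Or.inr ⟨_, ?_, t, hg⟩
      rw [hL, List.mem_map]
      exact ⟨j, by simp [List.mem_filter, hj, hne], rfl⟩
  · rintro (⟨s, t, hs, hg⟩ | ⟨s, hs, t, hg⟩)
    · exact ⟨s, t, Or.inl hs, hg⟩
    · rw [hL, List.mem_map] at hs
      obtain ⟨j, hj, rfl⟩ := hs
      simp only [List.mem_filter, List.mem_range, bne_iff_ne, ne_eq] at hj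
      exact ⟨_, t, Or.inr ⟨j, hj.1, hj.2, rfl⟩, hg⟩


/-- Centralizer of a long root involution in the Chevalley groups of type E₆, E₇, E₈ over a finite field F of characteristic two. Let G be the group generated by the root elements, U the subgroup generated by the positive root subgroups, r the highest root (the last root index: 71, 125, 239 respectively), and t the element of G with matrix x_r(1). Then the centralizer of t in G is the subgroup generated by U together with the root subgroups X_{−p} for the fundamental roots p orthogonal to r — all fundamental roots except p₂ for E₆, except p₁ for E₇, except p₈ for E₈ (numbering with p₁–p₃–p₄–…–p_l the long chain and p₂ joined to p₄); the indices of these negative fundamental roots are 15, 29, 32, 34, 35 (E₆), 47, 52, 56, 59, 61, 62 (E₇), 77, 98, 104, 109, 113, 116, 118 (E₈). (This is the unipotent radical of the corresponding maximal parabolic subgroup extended by the root subgroups of its Levi factor, of type A₅, D₆, E₇ respectively.) -/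
theorem result {F : Type*} [Field F] [Fintype F] [CharP F 2] (d : Cfsg.Lie.ChevalleyDatum × List ℕ)
    (hd : d ∈ [(Cfsg.Lie.chevE6, [15, 29, 32, 34, 35]), (Cfsg.Lie.chevE7, [47, 52, 56, 59, 61, 62]), (Cfsg.Lie.chevE8, [77, 98, 104, 109, 113, 116, 118])])
    (t : GL d.1.Idx F) (ht : (t : Matrix d.1.Idx d.1.Idx F) = d.1.x F (d.1.nroots - 1) 1) :
    d.1.group F ⊓ Subgroup.centralizer {t} = d.1.posUnipotent F ⊔ Subgroup.closure {g : GL d.1.Idx F | ∃ s ∈ d.2, ∃ c : F, (g : Matrix d.1.Idx d.1.Idx F) = d.1.x F s c} := by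
  open Cfsg.Lie Cfsg.Agent.Lib.Helper36 in
  have key : ∃ (i₀ : ℕ) (hD : d.1 ∈ [chevG2, chevB2, chevD4, chevF4, chevE6, chevE7, chevE8]),
      chkCent d.1 0 (d.1.nroots - 1) i₀ = true ∧
      d.2 = ((List.range d.1.rank).filter (· != i₀)).map (fun j => d.1.neg (d.1.simple j)) := by
    simp only [List.mem_cons, List.not_mem_nil, or_false] at hd
    rcases hd with rfl | rfl | rfl
    · exact ⟨1, by simp, chkCent_E6, by decide +kernel⟩
    · exact ⟨0, by simp, chkCent_E7, by decide +kernel⟩
    · exact ⟨7, by simp, chkCent_E8, by decide +kernel⟩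
  obtain ⟨i₀, hD, hchk, hL⟩ := key
  have H := Cfsg.Agent.Lib.Helper36.centHyp_of_chk d.1 hD F 0 (fun c hc => by
    have : c = 0 := by simpa using hc
    rw [this]; simp) _ _ hchk
  have ht' : t = Cfsg.Agent.Lib.Helper36.xGL d.1 hD F (d.1.nroots - 1) 1 := Units.ext ht
  rw [ht', Cfsg.Agent.Lib.Helper36.centralizer_eq_Qsub d.1 hD F H]
  exact qsub_eq d.1 i₀ d.2 hL

end Cfsg.Agent.S2209
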