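import Cfsg.Statements.S2214
import Cfsg.Agent.Lib.Helper36.ChevFieldNorm

set_option autoImplicit false
open Cfsg

namespace Cfsg.Agent.S2214

/-- Let k be an algebraically closed field of prime characteristic p, G the adjoint Chevalley group of type G₂, B₂, D₄, F₄, E₆, E₇ or E₈ over k (the matrix group generated by the root elements x_s(t), t ∈ k, acting on the Lie algebra), q = p^a with a ≥ 1, and K a subgroup of G containing every root element x_s(t) with t^q = t and consisting of matrices all of whose entries c satisfy c^q = c. Then the centralizer of K in G is trivial, and the normalizer of K in G is exactly the set of elements of G all of whose entries c satisfy c^q = c. -/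
theorem result {k : Type*} [Field k] [IsAlgClosed k] (p : ℕ) [Fact p.Prime] [CharP k p] (D : Cfsg.Lie.ChevalleyDatum) (hD : D ∈ [Cfsg.Lie.chevG2, Cfsg.Lie.chevB2, Cfsg.Lie.chevD4, Cfsg.Lie.chevF4, Cfsg.Lie.chevE6, Cfsg.Lie.chevE7, Cfsg.Lie.chevE8]) (a : ℕ) (ha : 1 ≤ a) (K : Subgroup (GL D.Idx k)) (hKG : K ≤ D.group k)
    (hLK : Subgroup.closure {g : GL D.Idx k | ∃ (s : ℕ) (t : k), t ^ (p ^ a) = t ∧ (g : Matrix D.Idx D.Idx k) = D.x k s t} ≤ K)
    (hKfix : ∀ g ∈ K, ∀ i j : D.Idx, ((g : Matrix D.Idx D.Idx k) i j) ^ (p ^ a) = (g : Matrix D.Idx D.Idx k) i j) :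
    D.group k ⊓ Subgroup.centralizer (K : Set (GL D.Idx k)) = ⊥ ∧
    ∀ g : GL D.Idx k, g ∈ D.group k → (g ∈ Subgroup.normalizer (K : Set (GL D.Idx k)) ↔ ∀ i j : D.Idx, ((g : Matrix D.Idx D.Idx k) i j) ^ (p ^ a) = (g : Matrix D.Idx D.Idx k) i j) := by
  classical
  set σ : k →+* k := iterateFrobenius k p a with hσ
  have hσt : ∀ t : k, σ t = t ^ (p ^ a) := fun t => iterateFrobenius_def p a t
  let F₀ : Subfield k := RingHom.eqLocusField σ (RingHom.id k)
  let ι : F₀ →+* k := F₀.subtype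
  have hfix : ∀ t : k, σ t = t → ∃ s : F₀, ι s = t := fun t ht => ⟨⟨t, ht⟩, rfl⟩
  have hglfix : ∀ g : GL D.Idx k, (∀ i j : D.Idx, ((g : Matrix D.Idx D.Idx k) i j) ^ (p ^ a) = (g : Matrix D.Idx D.Idx k) i j) ↔
      Cfsg.Agent.Lib.Helper36.glMap D σ g = g := by
    intro g
    constructor
    · intro h
      apply Units.ext
      rw [Cfsg.Agent.Lib.Helper36.coe_glMap]
      ext i j
      rw [Matrix.map_apply, hσt]
      exact h i j
    · intro h i j
      have h1 := congrArg (fun x : GL D.Idx k => (x : Matrix D.Idx D.Idx k) i j) h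
      simp only [Cfsg.Agent.Lib.Helper36.coe_glMap, Matrix.map_apply] at h1
      rw [← hσt]
      exact h1
  have hLK' : (D.group F₀).map (Cfsg.Agent.Lib.Helper36.glMap D ι) ≤ K := by
    refine le_trans ?_ hLK
    unfold Cfsg.Lie.ChevalleyDatum.group
    rw [MonoidHom.map_closure]
    apply Subgroup.closure_mono
    rintro _ ⟨x₀, ⟨r, t, hx₀⟩, rfl⟩
    refine ⟨r.val, ι t, ?_, ?_⟩
    · have := t.2
      rw [← hσt]
      exact this
    · rw [Cfsg.Agent.Lib.Helper36.coe_glMap, hx₀, ← Cfsg.Agent.Lib.Helper36.x_map' D ι]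
      unfold Cfsg.Lie.ChevalleyDatum.x
      rw [dif_pos r.isLt]
  have hKfix' : ∀ κ ∈ K, Cfsg.Agent.Lib.Helper36.glMap D σ κ = κ := fun κ hκ => (hglfix κ).1 (hKfix κ hκ)
  refine ⟨Cfsg.Agent.Lib.Helper36.centralizer_rational_eq_bot D hD ι K hLK', ?_⟩
  intro g hg
  rw [hglfix g]
  exact Cfsg.Agent.Lib.Helper36.mem_normalizer_rational_iff D hD ι σ hfix K hKG hLK' hKfix' g hg

end Cfsg.Agent.S2214
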