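import Cfsg.Statements.S4270
import Mathlib
import Cfsg.Agent.Lib.Helper71.Pronormal

set_option autoImplicit false
open Cfsg

namespace Cfsg.Agent.S4270

open Cfsg.Agent.Lib.Helper71.Pro

local notation:max "cj[" g "]" H:max => Subgroup.map (MulEquiv.toMonoidHom (MulAut.conj g)) H

/-- The key step: if `T ≤ P ≤ K` with `P` Sylow in `G`, `T` Sylow in the normal subgroup `A`,
then `K` and `a K a⁻¹` are conjugate in their join for every `a ∈ A`. -/
theorem key {G : Type*} [Group G] [Finite G] {p : ℕ} [Fact p.Prime]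
    (A : Subgroup G) [A.Normal] (T : Subgroup G) (hTA : T ≤ A) (hTp : IsPGroup p T)
    (hTidx : ¬ p ∣ T.relIndex A)
    (hA' : ∀ K : Subgroup G, T ≤ K → K ≤ A → ∀ a ∈ A, R K a)
    (hN' : ∀ K : Subgroup G, T ≤ K → K ≤ Subgroup.normalizer (T : Set G) →
      (∃ P : Sylow p G, (P : Subgroup G) ≤ K) → ∀ n ∈ Subgroup.normalizer (T : Set G), R K n)
    (K : Subgroup G) (P : Sylow p G) (hPK : (P : Subgroup G) ≤ K) (hTP : T ≤ P) :
    ∀ a ∈ A, R K a := by
  intro a ha
  have hTK : T ≤ K := hTP.trans hPK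
  have hTKA : T ≤ K ⊓ A := le_inf hTK hTA
  -- `P ⊓ A = T`
  have hPAT : (P : Subgroup G) ⊓ A ≤ T := by
    have hT0 : IsPGroup p (T.subgroupOf A) := hTp.comap_subtype
    have hPA0 : IsPGroup p (((P : Subgroup G) ⊓ A).subgroupOf A) :=
      (P.2.to_le inf_le_left).comap_subtype
    have hle : ((hT0.toSylow hTidx : Sylow p A) : Subgroup A) ≤
        ((P : Subgroup G) ⊓ A).subgroupOf A := by
      intro x hx
      have hx1 : (x : G) ∈ T := hx
      exact Subgroup.mem_subgroupOf.mpr ⟨hTP hx1, hTA hx1⟩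
    have heq := (hT0.toSylow hTidx).3 hPA0 hle
    intro x hx
    have hx' : (⟨x, hx.2⟩ : A) ∈ ((P : Subgroup G) ⊓ A).subgroupOf A :=
      Subgroup.mem_subgroupOf.mpr hx
    rw [heq] at hx'
    exact hx'
  -- `P ≤ N_G(T)`
  have hPN : (P : Subgroup G) ≤ Subgroup.normalizer (T : Set G) := by
    intro x hx
    rw [← cj_eq_iff_mem_normalizer]
    apply Subgroup.eq_of_le_of_card_ge
    · refine le_trans ?_ hPAT
      apply le_inf
      · exact cj_le_of_mem hx hTP
      · have := cj_mono x hTA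
        rwa [cj_of_normal A x] at this
    · rw [card_cj]
  -- Step a: make `a` normalize `K ⊓ A`
  obtain ⟨y, hy, hye⟩ := hA' (K ⊓ A) hTKA inf_le_right a ha
  have hyA : y ∈ A := by
    have : (K ⊓ A) ⊔ cj[a] (K ⊓ A) ≤ A := sup_le inf_le_right (cj_le_of_mem ha inf_le_right)
    exact this hy
  have hyJ : y ∈ K ⊔ cj[a] K := (sup_le_sup inf_le_left (cj_mono a inf_le_left)) hy
  apply R_of_inv_mul_left hyJ
  obtain ⟨a₁, ha₁⟩ : ∃ a₁, a₁ = y⁻¹ * a := ⟨_, rfl⟩
  rw [← ha₁]
  have ha₁A : a₁ ∈ A := by rw [ha₁]; exact A.mul_mem (A.inv_mem hyA) ha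
  have ha₁n : cj[a₁] (K ⊓ A) = K ⊓ A := by
    rw [ha₁, cj_mul, hye, cj_inv_cj]
  -- Step b: make it normalize `T`
  have hidx : ¬ p ∣ T.relIndex (K ⊓ A) := by
    intro hd
    apply hTidx
    have := Subgroup.relIndex_mul_relIndex T (K ⊓ A) A hTKA inf_le_right
    rw [← this]
    exact Dvd.dvd.mul_right hd _
  have hcT : cj[a₁] T ≤ K ⊓ A := by
    rw [← ha₁n]; exact cj_mono a₁ hTKA
  obtain ⟨z, hz, hze⟩ := exists_cj_eq_of_sylow hTKA hTp hidx hcT
  have hzJ : z ∈ K ⊔ cj[a₁] K := Subgroup.mem_sup_left hz.1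
  apply R_of_inv_mul_left hzJ
  obtain ⟨a₂, ha₂⟩ : ∃ a₂, a₂ = z⁻¹ * a₁ := ⟨_, rfl⟩
  rw [← ha₂]
  have ha₂N : a₂ ∈ Subgroup.normalizer (T : Set G) := by
    rw [← cj_eq_iff_mem_normalizer, ha₂, cj_mul, hze, cj_inv_cj]
  have ha₂n : cj[a₂] (K ⊓ A) = K ⊓ A := by
    rw [ha₂, cj_mul, ha₁n]
    exact cj_of_mem _ (Subgroup.inv_mem _ hz)
  -- Step c: use pronormality of `N_K(T)` in `N_G(T)`
  have hTN : T ≤ Subgroup.normalizer (T : Set G) := Subgroup.le_normalizer
  have hTH₁ : T ≤ K ⊓ Subgroup.normalizer (T : Set G) := le_inf hTK hTN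
  have hPH₁ : (P : Subgroup G) ≤ K ⊓ Subgroup.normalizer (T : Set G) := le_inf hPK hPN
  obtain ⟨x, hx, hxe⟩ :=
    hN' (K ⊓ Subgroup.normalizer (T : Set G)) hTH₁ inf_le_right ⟨P, hPH₁⟩ a₂ ha₂N
  have hxJ : x ∈ K ⊔ cj[a₂] K := (sup_le_sup inf_le_left (cj_mono a₂ inf_le_left)) hx
  apply R_of_inv_mul_left hxJ
  apply R_of_mem_normalizer
  obtain ⟨b, hb⟩ : ∃ b, b = x⁻¹ * a₂ := ⟨_, rfl⟩
  rw [← hb, ← cj_eq_iff_mem_normalizer]
  have hKn : K ≤ Subgroup.normalizer ((K ⊓ A : Subgroup G) : Set G) := by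
    intro k hk
    rw [← cj_eq_iff_mem_normalizer, cj_inf, cj_of_mem K hk, cj_of_normal A k]
  have ha₂KA : a₂ ∈ Subgroup.normalizer ((K ⊓ A : Subgroup G) : Set G) :=
    (cj_eq_iff_mem_normalizer _ _).mp ha₂n
  have hxKA : x ∈ Subgroup.normalizer ((K ⊓ A : Subgroup G) : Set G) := by
    have : (K ⊓ Subgroup.normalizer (T : Set G)) ⊔ cj[a₂] (K ⊓ Subgroup.normalizer (T : Set G)) ≤
        Subgroup.normalizer ((K ⊓ A : Subgroup G) : Set G) :=
      sup_le (inf_le_left.trans hKn) (cj_le_of_mem ha₂KA (inf_le_left.trans hKn))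
    exact this hx
  have hbKA : cj[b] (K ⊓ A) = K ⊓ A := by
    rw [cj_eq_iff_mem_normalizer, hb]
    exact Subgroup.mul_mem _ (Subgroup.inv_mem _ hxKA) ha₂KA
  have hbH₁ : cj[b] (K ⊓ Subgroup.normalizer (T : Set G)) = K ⊓ Subgroup.normalizer (T : Set G) := by
    rw [hb, cj_mul, hxe, cj_inv_cj]
  -- Frattini argument
  have hFr : K = (K ⊓ A) ⊔ (K ⊓ Subgroup.normalizer (T : Set G)) := by
    apply le_antisymm
    · intro k hk
      have hck : cj[k] T ≤ K ⊓ A := by
        have := cj_mono k hTKA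
        rwa [cj_of_mem_normalizer _ (hKn hk)] at this
      obtain ⟨z', hz', hze'⟩ := exists_cj_eq_of_sylow hTKA hTp hidx hck
      have hmem2 : z'⁻¹ * k ∈ Subgroup.normalizer (T : Set G) := by
        rw [← cj_eq_iff_mem_normalizer, cj_mul, hze', cj_inv_cj]
      have hmem : z'⁻¹ * k ∈ K ⊓ Subgroup.normalizer (T : Set G) :=
        ⟨K.mul_mem (K.inv_mem hz'.1) hk, hmem2⟩
      have e : k = z' * (z'⁻¹ * k) := by group
      rw [e]
      exact Subgroup.mul_mem _ (Subgroup.mem_sup_left hz') (Subgroup.mem_sup_right hmem)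
    · exact sup_le inf_le_left inf_le_left
  calc cj[b] K = cj[b] ((K ⊓ A) ⊔ (K ⊓ Subgroup.normalizer (T : Set G))) := by rw [← hFr]
    _ = (K ⊓ A) ⊔ (K ⊓ Subgroup.normalizer (T : Set G)) := by rw [cj_sup, hbKA, hbH₁]
    _ = K := hFr.symm

/-- The internal forms of the hypotheses on `A`. -/
theorem hA_internal {G : Type*} [Group G] {p : ℕ} [Fact p.Prime]
    (A : Subgroup G)
    (hA : (∀ K : Subgroup ↥A, (∃ P : Sylow p ↥A, (P : Subgroup ↥A) ≤ K) → Cfsg.IsPronormal K))
    (T : Subgroup G) (PA : Sylow p ↥A) (hPA : (PA : Subgroup ↥A).map A.subtype = T) :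
    ∀ K : Subgroup G, T ≤ K → K ≤ A → ∀ a ∈ A, R K a := by
  intro K hTK hKA a ha
  have h1 : Cfsg.IsPronormal (K.subgroupOf A) := by
    apply hA
    refine ⟨PA, ?_⟩
    intro x hx
    rw [Subgroup.mem_subgroupOf]
    apply hTK
    rw [← hPA]
    exact Subgroup.mem_map_of_mem _ hx
  have h2 := (isPronormal_subgroup_iff A (K.subgroupOf A)).mp h1 a ha
  rwa [Subgroup.map_subgroupOf_eq_of_le hKA] at h2

/-- The internal form of hypothesis (i). -/
theorem hN_internal {G : Type*} [Group G] [Finite G] {p : ℕ} [Fact p.Prime]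
    (T : Subgroup G) [(T.subgroupOf (Subgroup.normalizer (T : Set G))).Normal]
    (hi : ∀ K : Subgroup (↥(Subgroup.normalizer (T : Set G)) ⧸ T.subgroupOf (Subgroup.normalizer (T : Set G))),
      (∃ P : Sylow p (↥(Subgroup.normalizer (T : Set G)) ⧸ T.subgroupOf (Subgroup.normalizer (T : Set G))),
        (P : Subgroup (↥(Subgroup.normalizer (T : Set G)) ⧸ T.subgroupOf (Subgroup.normalizer (T : Set G)))) ≤ K) →
        Cfsg.IsPronormal K) :
    ∀ K : Subgroup G, T ≤ K → K ≤ Subgroup.normalizer (T : Set G) →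
      (∃ P : Sylow p G, (P : Subgroup G) ≤ K) → ∀ n ∈ Subgroup.normalizer (T : Set G), R K n := by
  intro K hTK hKN ⟨P, hPK⟩ n hn
  have hsurj : Function.Surjective
      (QuotientGroup.mk' (T.subgroupOf (Subgroup.normalizer (T : Set G)))) :=
    QuotientGroup.mk'_surjective _
  have h1 : Cfsg.IsPronormal ((K.subgroupOf (Subgroup.normalizer (T : Set G))).map
      (QuotientGroup.mk' (T.subgroupOf (Subgroup.normalizer (T : Set G))))) := by
    apply hi
    refine ⟨(P.subtype (hPK.trans hKN)).mapSurjective hsurj, ?_⟩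
    rw [Sylow.coe_mapSurjective, Sylow.coe_subtype]
    exact Subgroup.map_mono (Subgroup.comap_mono hPK)
  have h2 := isPronormal_comap _ hsurj h1
  rw [Subgroup.comap_map_eq, QuotientGroup.ker_mk'] at h2
  have h3 : K.subgroupOf (Subgroup.normalizer (T : Set G)) ⊔
      T.subgroupOf (Subgroup.normalizer (T : Set G)) =
      K.subgroupOf (Subgroup.normalizer (T : Set G)) :=
    sup_eq_left.mpr (Subgroup.comap_mono hTK)
  rw [h3] at h2
  have h4 := (isPronormal_subgroup_iff _ _).mp h2 n hn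
  rwa [Subgroup.map_subgroupOf_eq_of_le hKN] at h4

/-- Let p be a prime and G a finite group with a normal subgroup A such that, both in A and in G/A, every subgroup containing a Sylow p-subgroup of that group is pronormal in that group. Let T be a Sylow p-subgroup of A. Then every subgroup of G containing a Sylow p-subgroup of G is pronormal in G if and only if (i) every subgroup of N_G(T)/T containing a Sylow p-subgroup of N_G(T)/T is pronormal there, and (ii) for every subgroup H of G containing a Sylow p-subgroup of G, the image of N_G(H) in G/A is the full normalizer of the image of H. (Pronormal: H and gHg⁻¹ are conjugate inside the subgroup they generate, for every g.) -/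
theorem result {G : Type*} [Group G] [Finite G] {p : ℕ} [Fact p.Prime]
    (A : Subgroup G) [A.Normal] (hA : (∀ K : Subgroup ↥A, (∃ P : Sylow p ↥A, (P : Subgroup ↥A) ≤ K) → Cfsg.IsPronormal K)) (hQ : (∀ K : Subgroup (G ⧸ A), (∃ P : Sylow p (G ⧸ A), (P : Subgroup (G ⧸ A)) ≤ K) → Cfsg.IsPronormal K))
    (T : Subgroup G) (hT : ∃ P : Sylow p ↥A, (P : Subgroup ↥A).map A.subtype = T) [(T.subgroupOf (Subgroup.normalizer (T : Set G))).Normal] :
    (∀ K : Subgroup G, (∃ P : Sylow p G, (P : Subgroup G) ≤ K) → Cfsg.IsPronormal K) ↔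
      ((∀ K : Subgroup (↥(Subgroup.normalizer (T : Set G)) ⧸ T.subgroupOf (Subgroup.normalizer (T : Set G))), (∃ P : Sylow p (↥(Subgroup.normalizer (T : Set G)) ⧸ T.subgroupOf (Subgroup.normalizer (T : Set G))), (P : Subgroup (↥(Subgroup.normalizer (T : Set G)) ⧸ T.subgroupOf (Subgroup.normalizer (T : Set G)))) ≤ K) → Cfsg.IsPronormal K) ∧
        ∀ K : Subgroup G, (∃ P : Sylow p G, (P : Subgroup G) ≤ K) →
          (Subgroup.normalizer (K : Set G)).map (QuotientGroup.mk' A) = Subgroup.normalizer ((K.map (QuotientGroup.mk' A) : Subgroup (G ⧸ A)) : Set (G ⧸ A))) := by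
  obtain ⟨PA, hPA⟩ := hT
  have hTA : T ≤ A := by rw [← hPA]; exact Subgroup.map_subtype_le _
  have hTp : IsPGroup p T := by rw [← hPA]; exact PA.2.map _
  have hTsub : T.subgroupOf A = PA := by
    rw [← hPA]
    exact Subgroup.comap_map_eq_self_of_injective A.subtype_injective _
  have hTidx : ¬ p ∣ T.relIndex A := by
    rw [Subgroup.relIndex, hTsub]
    exact PA.not_dvd_index
  have hA' := hA_internal A hA T PA hPA
  have hsurjA : Function.Surjective (QuotientGroup.mk' A) := QuotientGroup.mk'_surjective A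
  constructor
  · intro hG
    refine ⟨?_, ?_⟩
    · -- (i)
      intro K' ⟨P', hP'K'⟩
      have hsurj : Function.Surjective
          (QuotientGroup.mk' (T.subgroupOf (Subgroup.normalizer (T : Set G)))) :=
        QuotientGroup.mk'_surjective _
      obtain ⟨S₁, hS₁⟩ := Sylow.mapSurjective_surjective hsurj p P'
      have hNidx : ¬ p ∣ (Subgroup.normalizer (T : Set G)).index := by
        have hFr := Sylow.normalizer_sup_eq_top PA
        rw [hPA] at hFr
        intro hd
        apply hTidx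
        have e1 : (Subgroup.normalizer (T : Set G)).index =
            (Subgroup.normalizer (T : Set G)).relIndex A := by
          rw [← Subgroup.relIndex_top_right, ← hFr, relIndex_sup_eq_relIndex]
        rw [e1, ← Subgroup.inf_relIndex_right] at hd
        exact hd.trans (Subgroup.relIndex_dvd_of_le_left A (le_inf Subgroup.le_normalizer hTA))
      have hS₁G : IsPGroup p ((S₁ : Subgroup (Subgroup.normalizer (T : Set G))).map
          (Subgroup.normalizer (T : Set G)).subtype) := S₁.2.map _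
      have hS₁idx : ¬ p ∣ ((S₁ : Subgroup (Subgroup.normalizer (T : Set G))).map
          (Subgroup.normalizer (T : Set G)).subtype).index := by
        rw [Subgroup.index_map_subtype]
        exact Nat.Prime.not_dvd_mul Fact.out S₁.not_dvd_index hNidx
      have hK : Cfsg.IsPronormal ((K'.comap
          (QuotientGroup.mk' (T.subgroupOf (Subgroup.normalizer (T : Set G))))).map
          (Subgroup.normalizer (T : Set G)).subtype) := by
        apply hG
        refine ⟨hS₁G.toSylow hS₁idx, ?_⟩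
        rw [IsPGroup.toSylow_coe]
        apply Subgroup.map_mono
        rw [← Subgroup.map_le_iff_le_comap]
        have : (S₁ : Subgroup (Subgroup.normalizer (T : Set G))).map
            (QuotientGroup.mk' (T.subgroupOf (Subgroup.normalizer (T : Set G)))) = P' := by
          rw [← hS₁]; rfl
        rw [this]
        exact hP'K'
      have h2 : Cfsg.IsPronormal (K'.comap
          (QuotientGroup.mk' (T.subgroupOf (Subgroup.normalizer (T : Set G))))) := by
        rw [isPronormal_subgroup_iff]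
        intro g _
        exact hK g
      have h3 := isPronormal_map _ hsurj h2
      rwa [Subgroup.map_comap_eq_self_of_surjective hsurj] at h3
    · -- (ii)
      intro K ⟨P, hPK⟩
      apply le_antisymm
      · exact Subgroup.le_normalizer_map _
      · intro q hq
        obtain ⟨g, rfl⟩ := hsurjA q
        rw [← cj_eq_iff_mem_normalizer, ← map_cj] at hq
        have hle : cj[g] K ≤ K ⊔ A := by
          have := Subgroup.le_comap_map (QuotientGroup.mk' A) (cj[g] K)
          rw [hq, Subgroup.comap_map_eq, QuotientGroup.ker_mk'] at this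
          exact this
        obtain ⟨x, hx, hxe⟩ := hG K ⟨P, hPK⟩ g
        have hx2 : x ∈ A ⊔ K := by
          have : K ⊔ cj[g] K ≤ A ⊔ K := sup_le le_sup_right (by rw [sup_comm]; exact hle)
          exact this hx
        have hx' : x ∈ ((A ⊔ K : Subgroup G) : Set G) := hx2
        rw [Subgroup.normal_mul, Set.mem_mul] at hx'
        obtain ⟨a, ha, k, hk, rfl⟩ := hx'
        rw [cj_mul, cj_of_mem K hk] at hxe
        refine Subgroup.mem_map.mpr ⟨a⁻¹ * g, ?_, ?_⟩
        · rw [← cj_eq_iff_mem_normalizer, cj_mul, hxe, cj_inv_cj]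
        · rw [map_mul, map_inv]
          have : (QuotientGroup.mk' A) a = 1 := (QuotientGroup.eq_one_iff a).mpr ha
          rw [this, inv_one, one_mul]
  · rintro ⟨hi, hii⟩ K ⟨P0, hP0K⟩
    have hN' := hN_internal T hi
    -- reduce to the case `T ≤ P`
    obtain ⟨P1, hTP1⟩ := hTp.exists_le_sylow
    obtain ⟨g, hg⟩ := MulAction.exists_smul_eq G P0 P1
    have hP1 : (P1 : Subgroup G) = cj[g] (P0 : Subgroup G) := by
      rw [← hg, Sylow.coe_subgroup_smul, Subgroup.pointwise_smul_def]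
      rfl
    have hP1K : (P1 : Subgroup G) ≤ cj[g] K := by rw [hP1]; exact cj_mono g hP0K
    suffices h : Cfsg.IsPronormal (cj[g] K) by
      have := isPronormal_cj g⁻¹ h
      rwa [cj_inv_cj] at this
    generalize cj[g] K = K₁ at hP1K ⊢
    -- `K₁ A` is pronormal
    have hKA : Cfsg.IsPronormal (K₁ ⊔ A) := by
      have h1 : Cfsg.IsPronormal (K₁.map (QuotientGroup.mk' A)) := by
        apply hQ
        refine ⟨P1.mapSurjective hsurjA, ?_⟩
        rw [Sylow.coe_mapSurjective]
        exact Subgroup.map_mono hP1K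
      have h2 := isPronormal_comap (QuotientGroup.mk' A) hsurjA h1
      rwa [Subgroup.comap_map_eq, QuotientGroup.ker_mk'] at h2
    have hkey := key A T hTA hTp hTidx hA' hN' K₁ P1 hP1K hTP1
    intro g
    obtain ⟨x, hx, hxe⟩ := hKA g
    have hJ : (K₁ ⊔ A) ⊔ cj[g] (K₁ ⊔ A) = (K₁ ⊔ cj[g] K₁) ⊔ A := by
      rw [cj_sup, cj_of_normal A g]
      apply le_antisymm
      · exact sup_le (sup_le (le_sup_left.trans le_sup_left) le_sup_right)
          (sup_le (le_sup_right.trans le_sup_left) le_sup_right)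
      · exact sup_le (sup_le (le_sup_left.trans le_sup_left) (le_sup_left.trans le_sup_right))
          (le_sup_right.trans le_sup_left)
    rw [hJ] at hx
    have hx' : x ∈ (((K₁ ⊔ cj[g] K₁) ⊔ A : Subgroup G) : Set G) := hx
    rw [Subgroup.mul_normal, Set.mem_mul] at hx'
    obtain ⟨y, hy, a, ha, rfl⟩ := hx'
    rw [cj_mul, cj_of_mem (K₁ ⊔ A) (Subgroup.mem_sup_right ha)] at hxe
    apply R_of_inv_mul_left hy
    obtain ⟨m, hm⟩ : ∃ m, m = y⁻¹ * g := ⟨_, rfl⟩
    rw [← hm]
    have hmn : m ∈ Subgroup.normalizer ((K₁ ⊔ A : Subgroup G) : Set G) := by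
      rw [← cj_eq_iff_mem_normalizer, hm, cj_mul, hxe, cj_inv_cj]
    have h5 : QuotientGroup.mk' A m ∈ Subgroup.normalizer
        ((K₁.map (QuotientGroup.mk' A) : Subgroup (G ⧸ A)) : Set (G ⧸ A)) := by
      have h6 := Subgroup.le_normalizer_map (QuotientGroup.mk' A) (Subgroup.mem_map_of_mem _ hmn)
      have h7 : (K₁ ⊔ A).map (QuotientGroup.mk' A) = K₁.map (QuotientGroup.mk' A) := by
        rw [Subgroup.map_sup, QuotientGroup.map_mk'_self, sup_bot_eq]
      rwa [h7] at h6
    rw [← hii K₁ ⟨P1, hP1K⟩] at h5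
    obtain ⟨n, hn, hne⟩ := Subgroup.mem_map.mp h5
    have hmnA : m * n⁻¹ ∈ A := by
      have : (QuotientGroup.mk' A) (m * n⁻¹) = 1 := by
        rw [map_mul, map_inv, hne, mul_inv_cancel]
      exact (QuotientGroup.eq_one_iff _).mp this
    have e : m = (m * n⁻¹) * n := by group
    rw [e]
    exact R_mul_normalizer hn (hkey _ hmnA)

end Cfsg.Agent.S4270
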