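import Cfsg.Statements.S4271
import Mathlib
import Cfsg.Agent.Lib.Helper71.Pronormal
import Cfsg.Agent.S4270

set_option autoImplicit false
open Cfsg

namespace Cfsg.Agent.S4271

open Cfsg.Agent.Lib.Helper71.Pro

local notation:max "cj[" g "]" H:max => Subgroup.map (MulEquiv.toMonoidHom (MulAut.conj g)) H

/-- If `g P g⁻¹ ≤ J` and `P ≤ J` for a Sylow subgroup `P`, then `g ∈ J · N(P)`. -/
theorem exists_mem_mul_normalizer {X : Type*} [Group X] [Finite X] {p : ℕ} [Fact p.Prime]
    (P : Sylow p X) {J : Subgroup X} (hPJ : (P : Subgroup X) ≤ J) {q : X}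
    (hq : cj[q] (P : Subgroup X) ≤ J) :
    ∃ z ∈ J, z⁻¹ * q ∈ Subgroup.normalizer ((P : Subgroup X) : Set X) := by
  have hidx : ¬ p ∣ (P : Subgroup X).relIndex J := fun hd =>
    P.not_dvd_index (hd.trans (Subgroup.relIndex_dvd_index_of_le hPJ))
  obtain ⟨z, hz, hze⟩ := exists_cj_eq_of_sylow hPJ P.2 hidx hq
  refine ⟨z, hz, ?_⟩
  rw [← cj_eq_iff_mem_normalizer, cj_mul, hze, cj_inv_cj]

/-- Overgroups of self-normalizing Sylow subgroups are pronormal. -/
theorem isPronormal_of_selfNormalizing {X : Type*} [Group X] [Finite X] {p : ℕ} [Fact p.Prime]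
    (hQ : ∀ P : Sylow p X, Subgroup.normalizer ((P : Subgroup X) : Set X) = P)
    (K : Subgroup X) (h : ∃ P : Sylow p X, (P : Subgroup X) ≤ K) : Cfsg.IsPronormal K := by
  obtain ⟨P, hPK⟩ := h
  intro q
  have hPJ : (P : Subgroup X) ≤ K ⊔ cj[q] K := hPK.trans le_sup_left
  have hqJ : cj[q] (P : Subgroup X) ≤ K ⊔ cj[q] K := (cj_mono q hPK).trans le_sup_right
  obtain ⟨z, hz, hzn⟩ := exists_mem_mul_normalizer P hPJ hqJ
  rw [hQ P] at hzn
  refine ⟨z, hz, ?_⟩
  have e : q = z * (z⁻¹ * q) := by group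
  exact cj_eq_of_eq_mul (Subgroup.le_normalizer (hPK hzn)) e

/-- Overgroups of self-normalizing Sylow subgroups are self-normalizing. -/
theorem normalizer_eq_of_selfNormalizing {X : Type*} [Group X] [Finite X] {p : ℕ} [Fact p.Prime]
    (hQ : ∀ P : Sylow p X, Subgroup.normalizer ((P : Subgroup X) : Set X) = P)
    (K : Subgroup X) (P : Sylow p X) (hPK : (P : Subgroup X) ≤ K) :
    Subgroup.normalizer (K : Set X) = K := by
  apply le_antisymm
  · intro n hn
    have hcn : cj[n] K = K := (cj_eq_iff_mem_normalizer K n).mpr hn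
    have hq : cj[n] (P : Subgroup X) ≤ K := by
      rw [← hcn]; exact cj_mono n hPK
    obtain ⟨z, hz, hzn⟩ := exists_mem_mul_normalizer P hPK hq
    rw [hQ P] at hzn
    have e : n = z * (z⁻¹ * n) := by group
    rw [e]
    exact K.mul_mem hz (hPK hzn)
  · exact Subgroup.le_normalizer

/-- Let p be a prime and G a finite group with a normal subgroup A such that every subgroup of A containing a Sylow p-subgroup of A is pronormal in A, and the Sylow p-subgroups of G/A are self-normalizing. Let T be a Sylow p-subgroup of A. Then every subgroup of G containing a Sylow p-subgroup of G is pronormal in G if and only if every subgroup of N_G(T)/T containing a Sylow p-subgroup of N_G(T)/T is pronormal in N_G(T)/T. (Pronormal: H and gHg⁻¹ are conjugate inside the subgroup they generate, for every g.) -/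
theorem result {G : Type*} [Group G] [Finite G] {p : ℕ} [Fact p.Prime]
    (A : Subgroup G) [A.Normal] (hA : (∀ K : Subgroup ↥A, (∃ P : Sylow p ↥A, (P : Subgroup ↥A) ≤ K) → Cfsg.IsPronormal K))
    (hQ : ∀ P : Sylow p (G ⧸ A), Subgroup.normalizer ((P : Subgroup (G ⧸ A)) : Set (G ⧸ A)) = P)
    (T : Subgroup G) (hT : ∃ P : Sylow p ↥A, (P : Subgroup ↥A).map A.subtype = T) [(T.subgroupOf (Subgroup.normalizer (T : Set G))).Normal] :
    (∀ K : Subgroup G, (∃ P : Sylow p G, (P : Subgroup G) ≤ K) → Cfsg.IsPronormal K) ↔ (∀ K : Subgroup (↥(Subgroup.normalizer (T : Set G)) ⧸ T.subgroupOf (Subgroup.normalizer (T : Set G))), (∃ P : Sylow p (↥(Subgroup.normalizer (T : Set G)) ⧸ T.subgroupOf (Subgroup.normalizer (T : Set G))), (P : Subgroup (↥(Subgroup.normalizer (T : Set G)) ⧸ T.subgroupOf (Subgroup.normalizer (T : Set G)))) ≤ K) → Cfsg.IsPronormal K) := by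
  have hQ' : ∀ K : Subgroup (G ⧸ A), (∃ P : Sylow p (G ⧸ A), (P : Subgroup (G ⧸ A)) ≤ K) →
      Cfsg.IsPronormal K := isPronormal_of_selfNormalizing hQ
  have hmain := Cfsg.Agent.S4270.result A hA hQ' T hT
  have hsurjA : Function.Surjective (QuotientGroup.mk' A) := QuotientGroup.mk'_surjective A
  constructor
  · intro hG
    exact (hmain.mp hG).1
  · intro hi
    apply hmain.mpr
    refine ⟨hi, ?_⟩
    intro K ⟨P, hPK⟩
    apply le_antisymm
    · exact Subgroup.le_normalizer_map _
    · have hPK' : ((P.mapSurjective hsurjA : Sylow p (G ⧸ A)) : Subgroup (G ⧸ A)) ≤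
          K.map (QuotientGroup.mk' A) := by
        rw [Sylow.coe_mapSurjective]
        exact Subgroup.map_mono hPK
      rw [normalizer_eq_of_selfNormalizing hQ _ _ hPK']
      exact Subgroup.map_mono Subgroup.le_normalizer

end Cfsg.Agent.S4271
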