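import Cfsg.Statements.S2222
import Cfsg.Agent.Lib.Helper38.SelfNormD
import Cfsg.Agent.S4271

set_option autoImplicit false
open Cfsg

namespace Cfsg.Agent.S2222

/-- In the alternating group of degree n ≥ 5 every subgroup H of odd index is pronormal: for every element g, the subgroups H and gHg⁻¹ are conjugate by an element of the subgroup they generate. -/
theorem result (n : ℕ) (hn : 5 ≤ n)
    (H : Subgroup (alternatingGroup (Fin n))) (hH : Odd H.index) : Cfsg.IsPronormal H := by
  rcases Nat.lt_or_ge n 6 with h | h
  · obtain rfl : n = 5 := by omega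
    exact Cfsg.Agent.Lib.Helper38.SelfNorm.alt_five_pronormal H hH
  · have : Fact (Nat.Prime 2) := ⟨Nat.prime_two⟩
    exact Cfsg.Agent.S4271.isPronormal_of_selfNormalizing (p := 2)
      (Cfsg.Agent.Lib.Helper38.SelfNorm.alt_sylow_normalizer n h) H
      (Cfsg.Agent.Lib.Helper38.SelfNorm.exists_sylow_le_of_odd_index H hH)

end Cfsg.Agent.S2222
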