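import Cfsg.Statements.S2231
-- import your own Cfsg.Agent.* helpers here

set_option autoImplicit false
open Cfsg

namespace Cfsg.Agent.S2231


/-- every `p`-subgroup is commutative -/
def PSubComm (p : ℕ) (G : Type*) [Group G] : Prop :=
  ∀ H : Subgroup G, IsPGroup p H → ∀ x ∈ H, ∀ y ∈ H, x * y = y * x

theorem pSubComm_of_surjective {p : ℕ} [Fact p.Prime] {G G' : Type*} [Group G] [Finite G] [Group G']
    (f : G →* G') (hf : Function.Surjective f) (hG : PSubComm p G) : PSubComm p G' := by
  intro H' hH' x hx y hy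
  have : Finite G' := Finite.of_surjective f hf
  obtain ⟨P', hP'⟩ := hH'.exists_le_sylow
  obtain ⟨P, rfl⟩ := Sylow.mapSurjective_surjective hf p P'
  have hx' : x ∈ (P : Subgroup G).map f := hP' hx
  have hy' : y ∈ (P : Subgroup G).map f := hP' hy
  obtain ⟨a, ha, rfl⟩ := hx'
  obtain ⟨b, hb, rfl⟩ := hy'
  rw [← map_mul, ← map_mul, hG P P.2 a ha b hb]

theorem pSubComm_subgroup {p : ℕ} {G : Type*} [Group G] (K : Subgroup G) (hG : PSubComm p G) :
    PSubComm p K := by
  intro H hH x hx y hy
  have := hG (H.map K.subtype) (hH.map K.subtype) x ⟨x, hx, rfl⟩ y ⟨y, hy, rfl⟩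
  exact Subtype.ext this



theorem comm_aux {K : Type*} [Field K] (a b c d a' b' c' d' x y : K)
    (H1 : a * x + b * y = x) (H2 : c * x + d * y = y) (H3 : a * d - b * c = 1)
    (H1' : a' * x + b' * y = x) (H2' : c' * x + d' * y = y) (H3' : a' * d' - b' * c' = 1)
    (hv : x ≠ 0 ∨ y ≠ 0) :
    a * a' + b * c' = a' * a + b' * c ∧ a * b' + b * d' = a' * b + b' * d ∧
    c * a' + d * c' = c' * a + d' * c ∧ c * b' + d * d' = c' * b + d' * d := by
  by_cases hx : x = 0
  · subst hx
    have hy : y ≠ 0 := by simpa using hv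
    have hb : b = 0 := by
      have : b * y = 0 := by linear_combination H1
      exact (mul_eq_zero.mp this).resolve_right hy
    have hb' : b' = 0 := by
      have : b' * y = 0 := by linear_combination H1'
      exact (mul_eq_zero.mp this).resolve_right hy
    have hd : d = 1 := by
      have : (d - 1) * y = 0 := by linear_combination H2
      have := (mul_eq_zero.mp this).resolve_right hy
      linear_combination this
    have hd' : d' = 1 := by
      have : (d' - 1) * y = 0 := by linear_combination H2'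
      have := (mul_eq_zero.mp this).resolve_right hy
      linear_combination this
    subst hb hb' hd hd'
    have ha : a = 1 := by linear_combination H3
    have ha' : a' = 1 := by linear_combination H3'
    subst ha ha'
    refine ⟨by ring, by ring, by ring, by ring⟩
  · obtain ⟨t, rfl⟩ : ∃ t, y = t * x := ⟨y / x, by field_simp⟩
    have ha : a = 1 - b * t := by
      have : (a + b * t - 1) * x = 0 := by linear_combination H1
      have := (mul_eq_zero.mp this).resolve_right hx
      linear_combination this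
    have ha' : a' = 1 - b' * t := by
      have : (a' + b' * t - 1) * x = 0 := by linear_combination H1'
      have := (mul_eq_zero.mp this).resolve_right hx
      linear_combination this
    have hc : c = t - d * t := by
      have : (c + d * t - t) * x = 0 := by linear_combination H2
      have := (mul_eq_zero.mp this).resolve_right hx
      linear_combination this
    have hc' : c' = t - d' * t := by
      have : (c' + d' * t - t) * x = 0 := by linear_combination H2'
      have := (mul_eq_zero.mp this).resolve_right hx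
      linear_combination this
    subst ha ha' hc hc'
    have hd : d = 1 + b * t := by linear_combination H3
    have hd' : d' = 1 + b' * t := by linear_combination H3'
    subst hd hd'
    refine ⟨by ring, by ring, by ring, by ring⟩

theorem sl2_comm_of_fixed {K : Type*} [Field K] (g h : Matrix.SpecialLinearGroup (Fin 2) K)
    (v : Fin 2 → K) (hv : v ≠ 0) (hg : g • v = v) (hh : h • v = v) : g * h = h * g := by
  have hv' : v 0 ≠ 0 ∨ v 1 ≠ 0 := by
    by_contra hcon
    push Not at hcon
    apply hv
    funext i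
    fin_cases i
    · exact hcon.1
    · exact hcon.2
  have hg0 := congrFun hg 0
  have hg1 := congrFun hg 1
  have hh0 := congrFun hh 0
  have hh1 := congrFun hh 1
  simp only [Matrix.SpecialLinearGroup.smul_def, Matrix.smul_eq_mulVec, Matrix.mulVec, dotProduct,
    Fin.sum_univ_two] at hg0 hg1 hh0 hh1
  have dg := g.2
  have dh := h.2
  rw [Matrix.det_fin_two] at dg dh
  obtain ⟨e00, e01, e10, e11⟩ := comm_aux _ _ _ _ _ _ _ _ _ _ hg0 hg1 dg hh0 hh1 dh hv'
  ext i j
  fin_cases i <;> fin_cases j <;>
    simp only [Matrix.SpecialLinearGroup.coe_mul, Matrix.mul_apply, Fin.sum_univ_two] <;> assumption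

theorem pSubComm_sl2 {p : ℕ} [Fact p.Prime] {K : Type*} [Field K] [Fintype K] [CharP K p] :
    PSubComm p (Matrix.SpecialLinearGroup (Fin 2) K) := by
  intro H hH x hx y hy
  have hcard : p ∣ Nat.card (Fin 2 → K) := by
    obtain ⟨n, _, hn⟩ := FiniteField.card K p
    rw [Nat.card_eq_fintype_card, Fintype.card_fun, hn, Fintype.card_fin]
    exact dvd_pow (dvd_pow_self p n.pos.ne') (by norm_num)
  have h0 : (0 : Fin 2 → K) ∈ MulAction.fixedPoints H (Fin 2 → K) := by
    intro g
    exact smul_zero g
  obtain ⟨v, hv, hv0⟩ := hH.exists_fixed_point_of_prime_dvd_card_of_fixed_point (Fin 2 → K) hcard h0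
  have hxv : x • v = v := hv ⟨x, hx⟩
  have hyv : y • v = v := hv ⟨y, hy⟩
  exact sl2_comm_of_fixed x y v (Ne.symm hv0) hxv hyv

/-- upper unitriangular condition on a 3x3 matrix -/
def IsUT {R : Type*} [CommRing R] (M : Matrix (Fin 3) (Fin 3) R) : Prop :=
  M 0 0 = 1 ∧ M 1 1 = 1 ∧ M 2 2 = 1 ∧ M 1 0 = 0 ∧ M 2 0 = 0 ∧ M 2 1 = 0

theorem isUT_one {R : Type*} [CommRing R] : IsUT (1 : Matrix (Fin 3) (Fin 3) R) := by
  simp [IsUT]

theorem isUT_mul {R : Type*} [CommRing R] {M N : Matrix (Fin 3) (Fin 3) R} (hM : IsUT M) (hN : IsUT N) :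
    IsUT (M * N) := by
  obtain ⟨m00, m11, m22, m10, m20, m21⟩ := hM
  obtain ⟨n00, n11, n22, n10, n20, n21⟩ := hN
  simp [IsUT, Matrix.mul_apply, Fin.sum_univ_three, *]

theorem isUT_pow {R : Type*} [CommRing R] {M : Matrix (Fin 3) (Fin 3) R} (hM : IsUT M) (n : ℕ) :
    IsUT (M ^ n) := by
  induction n with
  | zero => simpa using isUT_one
  | succ n ih => rw [pow_succ]; exact isUT_mul ih hM

theorem isUT_sub_one_cube {R : Type*} [CommRing R] {M : Matrix (Fin 3) (Fin 3) R} (hM : IsUT M) :
    (M - 1) ^ 3 = 0 := by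
  obtain ⟨m00, m11, m22, m10, m20, m21⟩ := hM
  ext i j
  fin_cases i <;> fin_cases j <;>
  simp [pow_succ, Matrix.mul_apply, Fin.sum_univ_three, *]

theorem isUT_pow_p_sq {p : ℕ} [Fact p.Prime] {M : Matrix (Fin 3) (Fin 3) (ZMod p)} (hM : IsUT M) :
    M ^ (p ^ 2) = 1 := by
  have h1 : M = (M - 1) + 1 := by abel
  have hc : Commute (M - 1) 1 := Commute.one_right _
  rw [h1, add_pow_char_pow_of_commute (p := p) (n := 2) (h := hc), one_pow]
  have h3 : 3 ≤ p ^ 2 := by
    have := (Fact.out : p.Prime).two_le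
    nlinarith
  have : (M - 1) ^ (p ^ 2) = 0 := by
    rw [← Nat.sub_add_cancel h3, pow_add, isUT_sub_one_cube hM, mul_zero]
  rw [this, zero_add]

theorem sl3_pow_p_sq {p : ℕ} [Fact p.Prime] (M : Matrix.SpecialLinearGroup (Fin 3) (ZMod p))
    (hM : IsUT M.1) : M ^ (p ^ 2) = 1 := by
  apply Subtype.ext
  rw [Matrix.SpecialLinearGroup.coe_pow]
  exact isUT_pow_p_sq hM

/-- the unitriangular subgroup -/
def utSub (p : ℕ) [Fact p.Prime] : Subgroup (Matrix.SpecialLinearGroup (Fin 3) (ZMod p)) where
  carrier := {M | IsUT M.1}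
  mul_mem' {a b} ha hb := by
    show IsUT (a * b).1
    rw [Matrix.SpecialLinearGroup.coe_mul]
    exact isUT_mul ha hb
  one_mem' := by
    show IsUT (1 : Matrix.SpecialLinearGroup (Fin 3) (ZMod p)).1
    rw [Matrix.SpecialLinearGroup.coe_one]
    exact isUT_one
  inv_mem' {a} ha := by
    have h : a⁻¹ = a ^ (p ^ 2 - 1) := by
      have hpos : 1 ≤ p ^ 2 := Nat.one_le_pow _ _ (Fact.out : p.Prime).pos
      have := sl3_pow_p_sq a ha
      rw [← Nat.sub_add_cancel hpos, pow_succ] at this
      exact (eq_inv_of_mul_eq_one_left this).symm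
    show IsUT (a⁻¹).1
    rw [h, Matrix.SpecialLinearGroup.coe_pow]
    exact isUT_pow ha _

theorem utSub_isPGroup (p : ℕ) [Fact p.Prime] : IsPGroup p (utSub p) := by
  intro g
  refine ⟨2, ?_⟩
  apply Subtype.ext
  rw [Subgroup.coe_pow]
  exact sl3_pow_p_sq g.1 g.2

theorem utSub_le_qd (p : ℕ) [Fact p.Prime] : utSub p ≤ Cfsg.qd p := by
  intro M hM
  apply Subgroup.subset_closure
  obtain ⟨m00, m11, m22, m10, m20, m21⟩ := hM
  exact ⟨m20, m21, m22⟩

theorem not_pSubComm_qd (p : ℕ) [Fact p.Prime] : ¬ PSubComm p ↥(Cfsg.qd p) := by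
  intro h
  have hU : IsPGroup p ((utSub p).subgroupOf (Cfsg.qd p)) := (utSub_isPGroup p).comap_subtype
  let x : Matrix.SpecialLinearGroup (Fin 3) (ZMod p) :=
    Matrix.SpecialLinearGroup.transvection (i := (0 : Fin 3)) (j := 1) (by decide) 1
  let y : Matrix.SpecialLinearGroup (Fin 3) (ZMod p) :=
    Matrix.SpecialLinearGroup.transvection (i := (1 : Fin 3)) (j := 2) (by decide) 1
  have hx : x ∈ utSub p := by
    show IsUT x.1
    simp [x, IsUT, Matrix.SpecialLinearGroup.transvection, Matrix.transvection]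
  have hy : y ∈ utSub p := by
    show IsUT y.1
    simp [y, IsUT, Matrix.SpecialLinearGroup.transvection, Matrix.transvection]
  have hxq : x ∈ Cfsg.qd p := utSub_le_qd p hx
  have hyq : y ∈ Cfsg.qd p := utSub_le_qd p hy
  have := h _ hU ⟨x, hxq⟩ (by simpa [Subgroup.mem_subgroupOf] using hx) ⟨y, hyq⟩
    (by simpa [Subgroup.mem_subgroupOf] using hy)
  have h2 : x * y = y * x := congrArg Subtype.val this
  have h3 := congrFun (congrFun (congrArg Subtype.val h2) 0) 2
  rw [Matrix.SpecialLinearGroup.coe_mul, Matrix.SpecialLinearGroup.coe_mul] at h3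
  simp [x, y, Matrix.SpecialLinearGroup.transvection, Matrix.transvection, Matrix.mul_apply,
    Fin.sum_univ_three] at h3

/-- Let p be an odd prime and K a finite field of characteristic p. Then Qd(p) (the natural semidirect product of an elementary abelian group of order p² by SL₂(p)) is not involved in the projective special linear group PSL₂(K). -/
theorem result {p : ℕ} [Fact p.Prime] (hp : p ≠ 2) {K : Type*} [Field K] [Fintype K] [CharP K p] : ¬ Cfsg.Involves ↥(Cfsg.qd p) (Matrix.ProjectiveSpecialLinearGroup (Fin 2) K) := by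
  intro hinv
  obtain ⟨K₀, R, hN, ⟨e⟩⟩ := hinv
  have h1 : PSubComm p (Matrix.SpecialLinearGroup (Fin 2) K) := pSubComm_sl2
  have h2 : PSubComm p (Matrix.ProjectiveSpecialLinearGroup (Fin 2) K) :=
    pSubComm_of_surjective (QuotientGroup.mk' _) (QuotientGroup.mk'_surjective _) h1
  have h3 : PSubComm p ↥K₀ := pSubComm_subgroup K₀ h2
  have h4 : PSubComm p ↥(Cfsg.qd p) :=
    pSubComm_of_surjective (e.toMonoidHom.comp (QuotientGroup.mk' (R.subgroupOf K₀)))
      (e.surjective.comp (QuotientGroup.mk'_surjective _)) h3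
  exact not_pSubComm_qd p h4

end Cfsg.Agent.S2231
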