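import Cfsg.Statements.S2232
import Cfsg.Agent.Lib.Helper46.SU3Unip
import Cfsg.Agent.Lib.Helper46.QdOver
import Cfsg.Agent.Lib.Helper51.InvolvesT
import Cfsg.Agent.S2763

set_option autoImplicit false
open Cfsg
open Cfsg.Agent.Lib.Helper46.QdOver Cfsg.Agent.Lib.Helper46.SL2

namespace Cfsg.Agent.S2232

/-- Let p be an odd prime, q a power of p and K a finite field with q² elements. Then Qd(p) (the natural semidirect product of an elementary abelian group of order p² by SL₂(p)) is not involved in the projective special unitary group PSU₃(q) realised over K. -/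
theorem result {p : ℕ} [Fact p.Prime] (hp : p ≠ 2) {K : Type*} [Field K] [Fintype K] [CharP K p] (n : ℕ) (hn : 1 ≤ n) (hK : Fintype.card K = (p ^ n) ^ 2) : ¬ Cfsg.Involves ↥(Cfsg.qd p) (Cfsg.PSU 3 K (p ^ n)) := by
  classical
  intro hinv
  -- pass to `SU_3`
  have hinv2 : Cfsg.Involves ↥(Cfsg.qd p) ↥(Cfsg.SU 3 K (p ^ n)) :=
    Cfsg.Agent.Lib.Helper51.involves_of_surjective
      (QuotientGroup.mk' (Subgroup.center ↥(Cfsg.SU 3 K (p ^ n))))
      (QuotientGroup.mk'_surjective _) hinv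
  have hpti := Cfsg.Agent.Lib.Helper46.SU3.pti_SU3 (F := K) (q := p ^ n) (p := p) hp hK
  have key : ¬ Cfsg.Involves ↥(Cfsg.qdOver (ZMod p)) ↥(Cfsg.SU 3 K (p ^ n)) := by
    -- the normal `p`-subgroup of `Qd(p)`
    let V : Subgroup ↥(Cfsg.qdOver (ZMod p)) := (blk : ↥(Cfsg.qdOver (ZMod p)) →* SL (ZMod p)).ker
    have hVn : V.Normal := MonoidHom.normal_ker _
    have hVp : IsPGroup p V := ker_isPGroup (F := ZMod p) p
    have hV1 : V ≠ ⊥ := by
      intro h0
      have hmem : tr (F := ZMod p) ![1, 0] ∈ V := tr_mem_ker _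
      rw [h0, Subgroup.mem_bot] at hmem
      have hc := congrArg col hmem
      rw [col_tr, col_one] at hc
      have := congrFun hc 0
      simp at this
    let S : Sylow p ↥(Cfsg.qdOver (ZMod p)) := default
    have hVS : V ≤ (S : Subgroup ↥(Cfsg.qdOver (ZMod p))) :=
      Cfsg.Agent.Lib.Helper46.TISection.normal_le_sylow V hVp S
    have htop : (⊤ : Subgroup ↥(S : Subgroup ↥(Cfsg.qdOver (ZMod p)))) ≠ ⊥ := by
      intro h0
      apply hV1
      rw [eq_bot_iff]
      intro v hv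
      have h1 : (⟨v, hVS hv⟩ : ↥(S : Subgroup ↥(Cfsg.qdOver (ZMod p)))) ∈
          (⊤ : Subgroup ↥(S : Subgroup ↥(Cfsg.qdOver (ZMod p)))) := Subgroup.mem_top _
      rw [h0, Subgroup.mem_bot] at h1
      rw [Subgroup.mem_bot]
      exact congrArg Subtype.val h1
    have hS : Subgroup.normalizer ((S : Subgroup ↥(Cfsg.qdOver (ZMod p))) : Set ↥(Cfsg.qdOver (ZMod p))) ≠ ⊤ :=
      (Cfsg.Agent.S2763.result (p := p) S ⊤ htop inferInstance).2
    exact Cfsg.Agent.Lib.Helper46.TISection.not_involves_of_pti hpti V hVp hV1 S hS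
  exact key hinv2

end Cfsg.Agent.S2232
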