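import Cfsg.Statements.S2239
import Cfsg.Agent.Lib.Helper6.SzSubfield

set_option autoImplicit false
open Cfsg

namespace Cfsg.Agent.S2239


open Cfsg.Agent.Lib.Helper6.Sz
open scoped Pointwise

lemma main_of_eq {K : Type*} {F : Type*} [Field K] [Field F] [CharP K 2] [CharP F 2]
    [Finite K] [Finite F] (sK : K →+* K) (sF : F →+* F)
    (hsK : ∀ x, sK (sK x) = x ^ 2) (hsF : ∀ x, sF (sF x) = x ^ 2)
    (hntK : ∃ y : K, sK y ≠ y ^ 2) (hntF : ∃ y : F, sF y ≠ y ^ 2)
    (hc : ∀ (ι : K →+* F) (x : K), sF (ι x) = ι (sK x)) {kK kF : ℕ}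
    (hkK : Nat.card K = 2 ^ kK) (hkF : Nat.card F = 2 ^ kF) (ι : K →+* F)
    {OK : Set (Projectivization K (Fin 4 → K))} (hOK : OK = Ov sK)
    {OF : Set (Projectivization F (Fin 4 → F))} (hOF : OF = Ov sF) :
    (∃ S : Subgroup (MulAction.stabilizer (Matrix.SpecialLinearGroup (Fin 4) F) OF),
      Nonempty (S ≃* MulAction.stabilizer (Matrix.SpecialLinearGroup (Fin 4) K) OK)) ∧
    ∀ S₁ S₂ : Subgroup (MulAction.stabilizer (Matrix.SpecialLinearGroup (Fin 4) F) OF),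
      Nonempty (S₁ ≃* MulAction.stabilizer (Matrix.SpecialLinearGroup (Fin 4) K) OK) →
      Nonempty (S₂ ≃* MulAction.stabilizer (Matrix.SpecialLinearGroup (Fin 4) K) OK) →
      ∃ g : MulAction.stabilizer (Matrix.SpecialLinearGroup (Fin 4) F) OF,
        S₂ = S₁.map (MulAut.conj g).toMonoidHom := by
  subst hOK hOF
  exact subfield_main sK sF hsK hsF hntK hntF hc hkK hkF ι

lemma sig_compat {K : Type*} {F : Type*} [Field K] [Field F] [CharP K 2] [CharP F 2]
    [Fintype K] {m k : ℕ} (hK : Fintype.card K = 2 ^ (2 * k + 1))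
    (hdiv : 2 * k + 1 ∣ 2 * m + 1) (ι : K →+* F) (x : K) :
    sig F m (ι x) = ι (sig K k x) := by
  rw [sig_apply, sig_apply, map_pow]
  set y := ι x with hy
  have hy1 : y ^ 2 ^ (2 * k + 1) = y := by
    rw [hy, ← map_pow, ← hK, FiniteField.pow_card]
  obtain ⟨d, hd⟩ := hdiv
  have hodd : Odd d := by
    have h1 : Odd ((2 * k + 1) * d) := by rw [← hd]; exact ⟨m, rfl⟩
    exact (Nat.odd_mul.1 h1).2
  obtain ⟨j, rfl⟩ := hodd
  have hpow : ∀ i : ℕ, y ^ 2 ^ ((2 * k + 1) * i) = y := by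
    intro i
    induction i with
    | zero => simp
    | succ i ih => rw [mul_add, mul_one, pow_add, pow_mul, ih, hy1]
  have hm : m + 1 = (2 * k + 1) * j + (k + 1) := by
    have e : (2 * k + 1) * (2 * j + 1) = 2 * ((2 * k + 1) * j) + 2 * k + 1 := by ring
    rw [e] at hd
    omega
  rw [hm, pow_add, pow_mul, hpow]

lemma exists_ringHom {K : Type*} {F : Type*} [Field K] [Field F] [Fintype K] [Fintype F]
    {m k : ℕ} (hK : Fintype.card K = 2 ^ (2 * k + 1)) (hF : Fintype.card F = 2 ^ (2 * m + 1))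
    (hdiv : 2 * k + 1 ∣ 2 * m + 1) : Nonempty (K →+* F) := by
  have : Fact (Nat.Prime 2) := ⟨Nat.prime_two⟩
  have := charP_two hF
  have := charP_two hK
  let _ : Algebra (ZMod 2) K := ZMod.algebra K 2
  let _ : Algebra (ZMod 2) F := ZMod.algebra F 2
  have h1 : Module.finrank (ZMod 2) K = 2 * k + 1 := by
    have := FiniteField.pow_finrank_eq_card 2 K
    rw [hK] at this
    exact Nat.pow_right_injective (le_refl 2) this
  have h2 : Module.finrank (ZMod 2) F = 2 * m + 1 := by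
    have := FiniteField.pow_finrank_eq_card 2 F
    rw [hF] at this
    exact Nat.pow_right_injective (le_refl 2) this
  obtain ⟨f⟩ := FiniteField.nonempty_algHom_of_finrank_dvd (F := ZMod 2) (K := K) (L := F)
    (by rw [h1, h2]; exact hdiv)
  exact ⟨f.toRingHom⟩


/-- Subfield subgroups of the Suzuki group: let q = 2^(2m+1) and s = 2^(2k+1) with m, k ≥ 1 and 2k+1 dividing 2m+1 (so q is a power of s), both groups realised as stabilisers in SL₄ of the Suzuki–Tits ovoid. Then Sz(q) has a subgroup isomorphic to Sz(s), and any two subgroups of Sz(q) isomorphic to Sz(s) are conjugate. -/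
theorem result {F : Type*} [Field F] [Fintype F] {m : ℕ} (hm : 1 ≤ m) (hF : Fintype.card F = 2 ^ (2 * m + 1)) {K : Type*} [Field K] [Fintype K] {k : ℕ} (hk : 1 ≤ k) (hK : Fintype.card K = 2 ^ (2 * k + 1)) (hdiv : 2 * k + 1 ∣ 2 * m + 1) :
    (∃ S : Subgroup ↥(Cfsg.Sz F m), Nonempty (↥S ≃* ↥(Cfsg.Sz K k))) ∧
    ∀ S₁ S₂ : Subgroup ↥(Cfsg.Sz F m), Nonempty (↥S₁ ≃* ↥(Cfsg.Sz K k)) → Nonempty (↥S₂ ≃* ↥(Cfsg.Sz K k)) →
      ∃ g : ↥(Cfsg.Sz F m), S₂ = S₁.map (MulAut.conj g).toMonoidHom := by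
  have := charP_two hF
  have := charP_two hK
  have hkF : Nat.card F = 2 ^ (2 * m + 1) := by rw [Nat.card_eq_fintype_card, hF]
  have hkK : Nat.card K = 2 ^ (2 * k + 1) := by rw [Nat.card_eq_fintype_card, hK]
  obtain ⟨ι⟩ := exists_ringHom hK hF hdiv
  exact main_of_eq (sig K k) (sig F m) (sig_sig hK) (sig_sig hF) (sig_nt hk hK) (sig_nt hm hF)
    (sig_compat hK hdiv) hkK hkF ι (ovoid_eq (F := K) k) (ovoid_eq (F := F) m)

end Cfsg.Agent.S2239
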