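import Cfsg.Statements.S2240
import Cfsg.Agent.Lib.Helper6.SzCent
import Cfsg.Agent.Lib.Helper6.SzBridge

set_option autoImplicit false
open Cfsg

namespace Cfsg.Agent.S2240


open Cfsg.Agent.Lib.Helper6.Sz
open scoped Pointwise

section
variable {F : Type*} [Field F] [CharP F 2] [Finite F] (s : F →+* F)
  (hs : ∀ x, s (s x) = x ^ 2)

lemma conj_conj (x : G s) (t : Fˣ) (c : F) :
    (x * Dg s hs t * x⁻¹) * (x * Tg s hs 0 c * x⁻¹) * (x * Dg s hs t * x⁻¹)⁻¹ =
      x * Tg s hs 0 ((t : F) ^ 2 * s t * c) * x⁻¹ := by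
  have e : (x * Dg s hs t * x⁻¹) * (x * Tg s hs 0 c * x⁻¹) * (x * Dg s hs t * x⁻¹)⁻¹ =
      x * (Dg s hs t * Tg s hs 0 c * (Dg s hs t)⁻¹) * x⁻¹ := by group
  rw [e, Dg_conj_Tg, mul_zero]

lemma conj_mul (x : G s) (c c' : F) :
    (x * Tg s hs 0 c * x⁻¹) * (x * Tg s hs 0 c' * x⁻¹) = x * Tg s hs 0 (c + c') * x⁻¹ := by
  have e : (x * Tg s hs 0 c * x⁻¹) * (x * Tg s hs 0 c' * x⁻¹) =
      x * (Tg s hs 0 c * Tg s hs 0 c') * x⁻¹ := by group
  rw [e, Tg_mul]
  simp

lemma conj_inj (x : G s) {c c' : F} (h : x * Tg s hs 0 c * x⁻¹ = x * Tg s hs 0 c' * x⁻¹) :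
    c = c' := by
  have := mul_left_cancel (mul_right_cancel h)
  exact (Tg_inj s hs this).2

include hs in
theorem ti_forward (hnt : ∃ y : F, s y ≠ y ^ 2) {k : ℕ} (hk : Nat.card F = 2 ^ k) {n : ℕ}
    (hn : 1 ≤ n) (E : Subgroup (G s)) (hE : Cfsg.IsElementaryAbelian 2 E)
    (hcard : Nat.card E = 2 ^ n)
    (hTI : ∀ x : G s, E ⊓ E.map (MulAut.conj x).toMonoidHom ≠ ⊥ →
      x ∈ Subgroup.normalizer (E : Set (G s))) : n ∣ k := by
  have h2 : (2 : F) = 0 := CharTwo.two_eq_zero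
  -- a nonidentity element
  have hEne : E ≠ ⊥ := by
    rintro rfl
    rw [Subgroup.card_bot] at hcard
    have : 2 ≤ 2 ^ n := by
      calc 2 = 2 ^ 1 := by norm_num
        _ ≤ 2 ^ n := Nat.pow_le_pow_right (by norm_num) hn
    omega
  obtain ⟨⟨e, heE⟩, he1⟩ := (Subgroup.ne_bot_iff_exists_ne_one).1 hEne
  have he1' : e ≠ 1 := fun h => he1 (Subtype.ext h)
  obtain ⟨x, b, rfl⟩ := exists_conj_Tg_zero s hs hnt hk (hE.2 e heE)
  have hb : b ≠ 0 := by
    rintro rfl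
    apply he1'
    rw [Tg_zero]; group
  have hcomm : ∀ e' ∈ E, e' * (x * Tg s hs 0 b * x⁻¹) = (x * Tg s hs 0 b * x⁻¹) * e' := by
    intro e' he'
    have := hE.1.is_comm.comm ⟨e', he'⟩ ⟨_, heE⟩
    exact congrArg Subtype.val this
  -- every element of `E` is of the form `x * Tg 0 c * x⁻¹`
  have hform : ∀ e' ∈ E, ∃ c, e' = x * Tg s hs 0 c * x⁻¹ := by
    intro e' he'
    have h1 : (x⁻¹ * e' * x) * Tg s hs 0 b = Tg s hs 0 b * (x⁻¹ * e' * x) := by
      have := hcomm e' he'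
      calc (x⁻¹ * e' * x) * Tg s hs 0 b = x⁻¹ * (e' * (x * Tg s hs 0 b * x⁻¹)) * x := by group
        _ = x⁻¹ * ((x * Tg s hs 0 b * x⁻¹) * e') * x := by rw [this]
        _ = _ := by group
    have hfix := fix_oinf_of_commute s hs (a := 0) (b := b) (fun h => hb h.2) h1
    obtain ⟨a', b', t, hkk⟩ := exists_Tg_Dg s hs hnt ⟨_, hfix⟩
    have hkk' : x⁻¹ * e' * x = Tg s hs a' b' * Dg s hs t := hkk
    have h3 : (x⁻¹ * e' * x) * Tg s hs 0 b * (x⁻¹ * e' * x)⁻¹ = Tg s hs 0 b := by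
      rw [h1]; group
    rw [hkk', conj_Tg_zero] at h3
    have h4 := (Tg_inj s hs h3).2
    have h5 : (t : F) ^ 2 * s t = 1 := by
      have : ((t : F) ^ 2 * s t - 1) * b = 0 := by linear_combination h4
      rcases mul_eq_zero.1 this with h' | h'
      · exact sub_eq_zero.1 h'
      · exact absurd h' hb
    have h6 : t = 1 := Units.ext (sq_mul_s_eq_one s hs h5)
    rw [h6, Dg_one, mul_one] at hkk'
    have h7 : Tg s hs a' b' * Tg s hs a' b' = 1 := by
      rw [← hkk']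
      have : e' ^ 2 = 1 := hE.2 e' he'
      calc (x⁻¹ * e' * x) * (x⁻¹ * e' * x) = x⁻¹ * e' ^ 2 * x := by rw [sq]; group
        _ = 1 := by rw [this]; group
    have h8 := (Tg_mul_self_eq_one_iff s hs).1 h7
    refine ⟨b', ?_⟩
    rw [← h8, ← hkk']; group
  -- the additive group `A`
  let A : AddSubgroup F :=
    { carrier := {c | x * Tg s hs 0 c * x⁻¹ ∈ E}
      zero_mem' := by
        show x * Tg s hs 0 0 * x⁻¹ ∈ E
        rw [Tg_zero]; simp [E.one_mem]
      add_mem' := by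
        intro c c' hc hc'
        show x * Tg s hs 0 (c + c') * x⁻¹ ∈ E
        rw [← conj_mul]
        exact E.mul_mem hc hc'
      neg_mem' := by
        intro c hc
        show x * Tg s hs 0 (-c) * x⁻¹ ∈ E
        rw [CharTwo.neg_eq]
        exact hc }
  have hA : ∀ c, c ∈ A ↔ x * Tg s hs 0 c * x⁻¹ ∈ E := fun c => Iff.rfl
  have hbA : b ∈ A := heE
  -- scaling
  have hscale : ∀ b₁ ∈ A, b₁ ≠ 0 → ∀ b₂ ∈ A, b₂ ≠ 0 → ∀ c ∈ A, b₂ / b₁ * c ∈ A := by
    intro b₁ hb₁ hb₁0 b₂ hb₂ hb₂0 c hc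
    obtain ⟨t, ht⟩ := exists_sq_mul_s_eq s hs (div_ne_zero hb₂0 hb₁0)
    have hy : x * Dg s hs t * x⁻¹ ∈ Subgroup.normalizer (E : Set (G s)) := by
      apply hTI
      intro hbot
      have hmem : x * Tg s hs 0 b₂ * x⁻¹ ∈ E ⊓ E.map (MulAut.conj (x * Dg s hs t * x⁻¹)).toMonoidHom := by
        refine ⟨hb₂, ⟨x * Tg s hs 0 b₁ * x⁻¹, hb₁, ?_⟩⟩
        show (x * Dg s hs t * x⁻¹) * (x * Tg s hs 0 b₁ * x⁻¹) * (x * Dg s hs t * x⁻¹)⁻¹ = _
        rw [conj_conj, ht]
        congr 2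
        field_simp
      rw [hbot, Subgroup.mem_bot] at hmem
      have : x * Tg s hs 0 b₂ * x⁻¹ = x * Tg s hs 0 0 * x⁻¹ := by
        rw [hmem, Tg_zero]; group
      exact hb₂0 (conj_inj s hs x this)
    have := (Subgroup.mem_normalizer_iff.1 hy (x * Tg s hs 0 c * x⁻¹)).1 hc
    rw [conj_conj, ht] at this
    exact this
  -- the subfield
  let K : Subfield F :=
    { carrier := {c | c * b ∈ A}
      zero_mem' := by show (0 : F) * b ∈ A; rw [zero_mul]; exact A.zero_mem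
      one_mem' := by show (1 : F) * b ∈ A; rw [one_mul]; exact hbA
      add_mem' := by
        intro c c' hc hc'
        show (c + c') * b ∈ A
        rw [add_mul]; exact A.add_mem hc hc'
      neg_mem' := by
        intro c hc
        show (-c) * b ∈ A
        rw [neg_mul]; exact A.neg_mem hc
      mul_mem' := by
        intro c c' hc hc'
        show (c * c') * b ∈ A
        by_cases hc0 : c = 0
        · rw [hc0, zero_mul, zero_mul]; exact A.zero_mem
        · have := hscale b hbA hb (c * b) hc (mul_ne_zero hc0 hb) (c' * b) hc'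
          have e : c * b / b * (c' * b) = c * c' * b := by field_simp
          rw [e] at this
          exact this
      inv_mem' := by
        intro c hc
        show c⁻¹ * b ∈ A
        by_cases hc0 : c = 0
        · rw [hc0, inv_zero, zero_mul]; exact A.zero_mem
        · have := hscale (c * b) hc (mul_ne_zero hc0 hb) b hbA hb b hbA
          have e : b / (c * b) * b = c⁻¹ * b := by field_simp
          rw [e] at this
          exact this }
  -- cardinalities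
  have cardA : Nat.card A = 2 ^ n := by
    rw [← hcard]
    apply Nat.card_congr
    refine Equiv.ofBijective (fun c : A => (⟨x * Tg s hs 0 c * x⁻¹, c.2⟩ : E)) ⟨?_, ?_⟩
    · intro c c' h
      exact Subtype.ext (conj_inj s hs x (congrArg Subtype.val h))
    · rintro ⟨e', he'⟩
      obtain ⟨c, hc⟩ := hform e' he'
      refine ⟨⟨c, ?_⟩, Subtype.ext hc.symm⟩
      show x * Tg s hs 0 c * x⁻¹ ∈ E
      rw [← hc]; exact he'
  have cardK : Nat.card K = 2 ^ n := by
    rw [← cardA]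
    apply Nat.card_congr
    refine Equiv.ofBijective (fun c : K => (⟨c * b, c.2⟩ : A)) ⟨?_, ?_⟩
    · intro c c' h
      have : (c : F) * b = c' * b := congrArg Subtype.val h
      exact Subtype.ext (mul_right_cancel₀ hb this)
    · rintro ⟨a, ha⟩
      refine ⟨⟨a / b, ?_⟩, Subtype.ext ?_⟩
      · show a / b * b ∈ A
        rw [div_mul_cancel₀ _ hb]; exact ha
      · show a / b * b = a
        rw [div_mul_cancel₀ _ hb]
  have key := Module.natCard_eq_pow_finrank (K := K) (V := F)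
  rw [hk, cardK, ← pow_mul] at key
  have := Nat.pow_right_injective (le_refl 2) key
  exact ⟨_, this⟩

include hs in
theorem ti_backward (hnt : ∃ y : F, s y ≠ y ^ 2) {k : ℕ} (hk : Nat.card F = 2 ^ k) {n : ℕ}
    (hn : n ≠ 0) (hdvd : n ∣ k) :
    ∃ E : Subgroup (G s), Cfsg.IsElementaryAbelian 2 E ∧ Nat.card E = 2 ^ n ∧
      ∀ x : G s, E ⊓ E.map (MulAut.conj x).toMonoidHom ≠ ⊥ →
        x ∈ Subgroup.normalizer (E : Set (G s)) := by
  have h2 : (2 : F) = 0 := CharTwo.two_eq_zero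
  obtain ⟨K, hK⟩ := exists_subfield_card hk hn hdvd
  let E : Subgroup (G s) :=
    { carrier := {g | ∃ c ∈ K, g = Tg s hs 0 c}
      one_mem' := ⟨0, K.zero_mem, (Tg_zero s hs).symm⟩
      mul_mem' := by
        rintro _ _ ⟨c, hc, rfl⟩ ⟨c', hc', rfl⟩
        refine ⟨c + c', K.add_mem hc hc', ?_⟩
        rw [Tg_mul]; simp
      inv_mem' := by
        rintro _ ⟨c, hc, rfl⟩
        refine ⟨c, hc, ?_⟩
        rw [Tg_inv]; simp }
  have hEmem : ∀ g, g ∈ E ↔ ∃ c ∈ K, g = Tg s hs 0 c := fun g => Iff.rfl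
  refine ⟨E, ⟨⟨⟨?_⟩⟩, ?_⟩, ?_, ?_⟩
  · rintro ⟨_, c, hc, rfl⟩ ⟨_, c', hc', rfl⟩
    apply Subtype.ext
    show Tg s hs 0 c * Tg s hs 0 c' = Tg s hs 0 c' * Tg s hs 0 c
    rw [Tg_zero_mul_comm]
  · rintro _ ⟨c, hc, rfl⟩
    rw [sq, Tg_mul_self, ← Tg_zero s hs]
    simp
  · rw [← hK]
    symm
    apply Nat.card_congr
    refine Equiv.ofBijective (fun c : K => (⟨Tg s hs 0 c, c, c.2, rfl⟩ : E)) ⟨?_, ?_⟩
    · intro c c' h
      exact Subtype.ext (Tg_inj s hs (congrArg Subtype.val h)).2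
    · rintro ⟨_, c, hc, rfl⟩
      exact ⟨⟨c, hc⟩, rfl⟩
  · intro x hx
    obtain ⟨e, ⟨he1, he2⟩, hne⟩ : ∃ e ∈ E ⊓ E.map (MulAut.conj x).toMonoidHom, e ≠ 1 := by
      by_contra hcon
      push Not at hcon
      apply hx
      rw [Subgroup.eq_bot_iff_forall]
      exact hcon
    obtain ⟨c, hc, rfl⟩ := he1
    obtain ⟨_, ⟨c', hc', rfl⟩, he3⟩ := he2
    have he3' : x * Tg s hs 0 c' * x⁻¹ = Tg s hs 0 c := he3
    have hc0 : c ≠ 0 := by
      rintro rfl
      exact hne (Tg_zero s hs)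
    have hc'0 : c' ≠ 0 := by
      rintro rfl
      apply hne
      rw [← he3', Tg_zero]; group
    -- `x` fixes `∞`
    have hfix : x • oinf s = oinf s := by
      apply Tg_fix_only s hs (a := 0) (b := c) (fun h => hc0 h.2)
      rw [← he3', mul_smul, mul_smul, inv_smul_smul, Tg_smul_oinf]
    obtain ⟨a', b', t, hkk⟩ := exists_Tg_Dg s hs hnt ⟨x, hfix⟩
    have hkk' : x = Tg s hs a' b' * Dg s hs t := hkk
    have hconj : ∀ d, x * Tg s hs 0 d * x⁻¹ = Tg s hs 0 ((t : F) ^ 2 * s t * d) := by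
      intro d
      rw [hkk', conj_Tg_zero]
    rw [hconj] at he3'
    have hlam : (t : F) ^ 2 * s t ∈ K := by
      have h1 := (Tg_inj s hs he3').2
      have h3 : (t : F) ^ 2 * s t = c / c' := by
        field_simp
        exact h1
      rw [h3]
      exact K.div_mem hc hc'
    have hlam0 : (t : F) ^ 2 * s t ≠ 0 := by
      apply mul_ne_zero (pow_ne_zero _ t.ne_zero)
      simp
    rw [Subgroup.mem_normalizer_iff]
    intro h
    constructor
    · rintro ⟨d, hd, rfl⟩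
      rw [hconj]
      exact ⟨_, K.mul_mem hlam hd, rfl⟩
    · rintro ⟨d, hd, hh⟩
      refine ⟨((t : F) ^ 2 * s t)⁻¹ * d, K.mul_mem (K.inv_mem hlam) hd, ?_⟩
      have h1 : x * h * x⁻¹ = x * Tg s hs 0 (((t : F) ^ 2 * s t)⁻¹ * d) * x⁻¹ := by
        rw [hh, hconj, mul_inv_cancel_left₀ hlam0]
      exact mul_left_cancel (mul_right_cancel h1)

end

lemma ti_of_eq {F : Type*} [Field F] [CharP F 2] [Finite F] (s : F →+* F)
    (hs : ∀ x, s (s x) = x ^ 2) (hnt : ∃ y : F, s y ≠ y ^ 2) {k : ℕ}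
    (hk : Nat.card F = 2 ^ k) {n : ℕ} (hn : 1 ≤ n)
    {O : Set (Projectivization F (Fin 4 → F))} (hO : O = Ov s) :
    (∃ E : Subgroup (MulAction.stabilizer (Matrix.SpecialLinearGroup (Fin 4) F) O),
      Cfsg.IsElementaryAbelian 2 E ∧ Nat.card ↥E = 2 ^ n ∧
      ∀ x : (MulAction.stabilizer (Matrix.SpecialLinearGroup (Fin 4) F) O),
        E ⊓ E.map (MulAut.conj x).toMonoidHom ≠ ⊥ →
        x ∈ Subgroup.normalizer (E : Set (MulAction.stabilizer (Matrix.SpecialLinearGroup (Fin 4) F) O)))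
      ↔ n ∣ k := by
  subst hO
  constructor
  · rintro ⟨E, hE, hcard, hTI⟩
    exact ti_forward s hs hnt hk hn E hE hcard hTI
  · intro hdvd
    exact ti_backward s hs hnt hk (by omega) hdvd


/-- Elementary abelian TI-subgroups of the Suzuki group: let q = 2^(2m+1) with m ≥ 1, the group realised as the stabiliser in SL₄ of the Suzuki–Tits ovoid, and n ≥ 2. There is an elementary abelian 2-subgroup E of order 2^n that is a TI-subgroup (every conjugate of E meeting E nontrivially is E itself) if and only if n divides 2m + 1. -/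
theorem result {F : Type*} [Field F] [Fintype F] {m : ℕ} (hm : 1 ≤ m) (hF : Fintype.card F = 2 ^ (2 * m + 1)) (n : ℕ) (hn : 2 ≤ n) :
    (∃ E : Subgroup ↥(Cfsg.Sz F m), Cfsg.IsElementaryAbelian 2 E ∧ Nat.card ↥E = 2 ^ n ∧
      ∀ x : ↥(Cfsg.Sz F m), E ⊓ E.map (MulAut.conj x).toMonoidHom ≠ ⊥ → x ∈ Subgroup.normalizer (E : Set ↥(Cfsg.Sz F m))) ↔ n ∣ 2 * m + 1 := by
  have := charP_two hF
  have hk : Nat.card F = 2 ^ (2 * m + 1) := by rw [Nat.card_eq_fintype_card, hF]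
  exact ti_of_eq (sig F m) (sig_sig hF) (sig_nt hm hF) hk (by omega) (ovoid_eq (F := F) m)

end Cfsg.Agent.S2240
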