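import Cfsg.Statements.S2241
import Cfsg.Agent.Lib.Helper6.SzMax
import Cfsg.Agent.Lib.Helper6.SzBridge

set_option autoImplicit false
open Cfsg

namespace Cfsg.Agent.S2241


open Cfsg.Agent.Lib.Helper6.Sz
open scoped Pointwise

section
variable {F : Type*} [Field F] [CharP F 2] [Finite F] (s : F →+* F)
  (hs : ∀ x, s (s x) = x ^ 2)

include hs in
lemma no_u (u : F) (h : s u + u = 1) : False := by
  have h2 : (2 : F) = 0 := CharTwo.two_eq_zero
  have h3 : u ^ 2 + s u = 1 := by
    have := congrArg s h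
    rw [map_add, hs, map_one] at this
    exact this
  have h4 : u * (u - 1) = 0 := by linear_combination h3 + h - (u + s u - 1) * h2
  rcases mul_eq_zero.1 h4 with h5 | h5
  · rw [h5, map_zero, add_zero] at h
    exact zero_ne_one h
  · have h6 : u = 1 := sub_eq_zero.1 h5
    rw [h6, map_one] at h
    have : (1 : F) + 1 = 0 := by linear_combination h2
    rw [this] at h
    exact zero_ne_one h

lemma real_Qs (hnt : ∃ y : F, s y ≠ y ^ 2) (g : G s) (hg : g ∈ Qs s hs) (h1 : g ≠ 1)
    (hc : IsConj g g⁻¹) : orderOf g = 2 := by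
  have h2 : (2 : F) = 0 := CharTwo.two_eq_zero
  obtain ⟨a, b, rfl⟩ := hg
  have : Fact (Nat.Prime 2) := ⟨Nat.prime_two⟩
  by_cases ha : a = 0
  · subst ha
    apply orderOf_eq_prime _ h1
    rw [sq, Tg_mul, ← Tg_zero s hs]
    congr 1
    · simp
    · linear_combination b * h2
  · exfalso
    obtain ⟨h, hh⟩ := isConj_iff.1 hc
    rw [Tg_inv] at hh
    have hfix : h • oinf s = oinf s := by
      apply Tg_fix_only s hs (a := a) (b := b + a * s a) (fun h' => ha h'.1)
      rw [← hh, mul_smul, mul_smul, inv_smul_smul, Tg_smul_oinf]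
    obtain ⟨a', b', t, hkk⟩ := exists_Tg_Dg s hs hnt ⟨h, hfix⟩
    have hkk' : h = Tg s hs a' b' * Dg s hs t := hkk
    have e1 : h * Tg s hs a b = Tg s hs a (b + a * s a) * h := by
      rw [← hh]; group
    rw [hkk', mul_assoc, Dg_mul_Tg, ← mul_assoc, ← mul_assoc, Tg_mul, Tg_mul] at e1
    have e2 := mul_right_cancel e1
    obtain ⟨e3, e4⟩ := Tg_inj s hs e2
    have e5 : s (t : F) = 1 := by
      have : (s (t : F) - 1) * a = 0 := by linear_combination e3
      rcases mul_eq_zero.1 this with h5 | h5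
      · exact sub_eq_zero.1 h5
      · exact absurd h5 ha
    have e6 : (t : F) = 1 := by
      apply s.injective
      rw [e5, map_one]
    rw [e5, e6] at e4
    have hsa : s a ≠ 0 := by simpa using ha
    apply no_u s hs (a' / a)
    rw [map_div₀]
    field_simp
    linear_combination e4 + (s a * a') * h2
end

lemma real_of_eq {F : Type*} [Field F] [CharP F 2] [Finite F] (s : F →+* F)
    (hs : ∀ x, s (s x) = x ^ 2) (hnt : ∃ y : F, s y ≠ y ^ 2) {k : ℕ}
    (hk : Nat.card F = 2 ^ k)
    {O : Set (Projectivization F (Fin 4 → F))} (hO : O = Ov s)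
    (P : Sylow 2 (MulAction.stabilizer (Matrix.SpecialLinearGroup (Fin 4) F) O))
    (g : MulAction.stabilizer (Matrix.SpecialLinearGroup (Fin 4) F) O)
    (hg : g ∈ (P : Subgroup (MulAction.stabilizer (Matrix.SpecialLinearGroup (Fin 4) F) O)))
    (h1 : g ≠ 1) (hc : IsConj g g⁻¹) : orderOf g = 2 := by
  subst hO
  have : Fact (Nat.Prime 2) := ⟨Nat.prime_two⟩
  have key := sylow_transfer (fun H : Subgroup (G s) =>
      ∀ g ∈ H, g ≠ 1 → IsConj g g⁻¹ → orderOf g = 2)
    (fun H x h g hg h1 hc => by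
      obtain ⟨g', hg', rfl⟩ := hg
      have e : ∀ y, (MulAut.conj x).toMonoidHom y = MulAut.conj x y := fun _ => rfl
      rw [e] at h1 hc ⊢
      rw [MulEquiv.orderOf_eq]
      apply h g' hg'
      · rintro rfl
        exact h1 (map_one _)
      · rw [← map_inv] at hc
        obtain ⟨c, hc'⟩ := isConj_iff.1 hc
        rw [isConj_iff]
        refine ⟨(MulAut.conj x).symm c, ?_⟩
        apply (MulAut.conj x).injective
        rw [map_mul, map_mul, map_inv, MulEquiv.apply_symm_apply]
        exact hc') (Q0 s hs hnt hk) P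
    (fun g hg h1 hc => real_Qs s hs hnt g hg h1 hc)
  exact key g hg h1 hc


/-- Real 2-elements of the Suzuki group: with q = 2^(2m+1), m ≥ 1, and the group realised as the stabiliser in SL₄ of the Suzuki–Tits ovoid, a non-identity element of a Sylow 2-subgroup is conjugate to its inverse if and only if it is an involution; in particular no element of order 4 is conjugate to its inverse. -/
theorem result {F : Type*} [Field F] [Fintype F] {m : ℕ} (hm : 1 ≤ m) (hF : Fintype.card F = 2 ^ (2 * m + 1)) (P : Sylow 2 ↥(Cfsg.Sz F m)) (g : ↥(Cfsg.Sz F m)) (hg : g ∈ (P : Subgroup ↥(Cfsg.Sz F m))) (h1 : g ≠ 1) :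
    IsConj g g⁻¹ ↔ orderOf g = 2 := by
  have := charP_two hF
  have hk : Nat.card F = 2 ^ (2 * m + 1) := by rw [Nat.card_eq_fintype_card, hF]
  constructor
  · intro hc
    exact real_of_eq (sig F m) (sig_sig hF) (sig_nt hm hF) hk (ovoid_eq (F := F) m) P g hg h1 hc
  · intro ho
    have h2 : g ^ 2 = 1 := by rw [← ho]; exact pow_orderOf_eq_one g
    have h3 : g⁻¹ = g := by
      apply inv_eq_of_mul_eq_one_left
      rw [← sq]; exact h2
    rw [h3]

end Cfsg.Agent.S2241
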