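import Cfsg.Statements.S2247
import Cfsg.Agent.Lib.Helper6.SzMax
import Cfsg.Agent.Lib.Helper6.SzBridge

set_option autoImplicit false
open Cfsg

namespace Cfsg.Agent.S2247


open Cfsg.Agent.Lib.Helper6.Sz
open scoped Pointwise

lemma coatom_of_eq {F : Type*} [Field F] [CharP F 2] [Finite F] (s : F →+* F)
    (hs : ∀ x, s (s x) = x ^ 2) (hnt : ∃ y : F, s y ≠ y ^ 2) {k : ℕ}
    (hk : Nat.card F = 2 ^ k)
    {O : Set (Projectivization F (Fin 4 → F))} (hO : O = Ov s)
    (P : Sylow 2 (MulAction.stabilizer (Matrix.SpecialLinearGroup (Fin 4) F) O)) :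
    IsCoatom (Subgroup.normalizer ((P : Subgroup (MulAction.stabilizer (Matrix.SpecialLinearGroup (Fin 4) F) O)) : Set (MulAction.stabilizer (Matrix.SpecialLinearGroup (Fin 4) F) O))) ∧
    ∀ M : Subgroup (MulAction.stabilizer (Matrix.SpecialLinearGroup (Fin 4) F) O), IsCoatom M →
      (P : Subgroup (MulAction.stabilizer (Matrix.SpecialLinearGroup (Fin 4) F) O)) ≤ M →
      M = Subgroup.normalizer ((P : Subgroup (MulAction.stabilizer (Matrix.SpecialLinearGroup (Fin 4) F) O)) : Set (MulAction.stabilizer (Matrix.SpecialLinearGroup (Fin 4) F) O)) := by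
  subst hO
  exact sylow_normalizer_coatom s hs hnt hk P


/-- In the Suzuki group with q = 2^(2m+1), m ≥ 1 (realised as the stabiliser in SL₄ of the Suzuki–Tits ovoid), the normalizer of a Sylow 2-subgroup P is a maximal subgroup and is the only maximal subgroup containing P. -/
theorem result {F : Type*} [Field F] [Fintype F] {m : ℕ} (hm : 1 ≤ m) (hF : Fintype.card F = 2 ^ (2 * m + 1)) (P : Sylow 2 ↥(Cfsg.Sz F m)) :
    IsCoatom (Subgroup.normalizer ((P : Subgroup ↥(Cfsg.Sz F m)) : Set ↥(Cfsg.Sz F m))) ∧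
    ∀ M : Subgroup ↥(Cfsg.Sz F m), IsCoatom M → (P : Subgroup ↥(Cfsg.Sz F m)) ≤ M → M = Subgroup.normalizer ((P : Subgroup ↥(Cfsg.Sz F m)) : Set ↥(Cfsg.Sz F m)) := by
  have := charP_two hF
  have hk : Nat.card F = 2 ^ (2 * m + 1) := by rw [Nat.card_eq_fintype_card, hF]
  exact coatom_of_eq (sig F m) (sig_sig hF) (sig_nt hm hF) hk (ovoid_eq (F := F) m) P

end Cfsg.Agent.S2247
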