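import Cfsg.Statements.S2259
import Cfsg.Agent.Lib.Helper6.SzSol5
import Cfsg.Agent.Lib.Helper60.SzLieBridge

set_option autoImplicit false
open Cfsg

namespace Cfsg.Agent.S2259


open Cfsg.Agent.Lib.Helper6.Sz

/-- transport of the solubilizer count along an isomorphism. -/
lemma card_sol_transfer {G G' : Type*} [Group G] [Group G'] (φ : G ≃* G') (x : G) :
    Nat.card {y : G // Group.IsSolvable (Subgroup.closure ({x, y} : Set G))} =
    Nat.card {y' : G' // Group.IsSolvable (Subgroup.closure ({φ x, y'} : Set G'))} := by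
  apply Nat.card_congr
  refine φ.toEquiv.subtypeEquiv ?_
  intro y
  have h : Subgroup.closure ({φ x, φ y} : Set G') =
      (Subgroup.closure ({x, y} : Set G)).map φ.toMonoidHom := by
    rw [MonoidHom.map_closure]
    congr 1
    simp [Set.image_pair]
  show _ ↔ Group.IsSolvable (Subgroup.closure ({φ x, φ y} : Set G'))
  rw [h]
  have e : (Subgroup.closure ({x, y} : Set G)) ≃*
      ((Subgroup.closure ({x, y} : Set G)).map φ.toMonoidHom) :=
    (Subgroup.closure _).equivMapOfInjective φ.toMonoidHom φ.injective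
  constructor
  · intro hsol
    exact Group.isSolvable_of_isSolvable_injective (f := e.symm.toMonoidHom) e.symm.injective
  · intro hsol
    exact Group.isSolvable_of_isSolvable_injective (f := e.toMonoidHom) e.injective


/-- Let G be the Suzuki group Sz(q), q = 2^(2m+1) with 2m + 1 prime and m ≥ 1, realised inside Sp_4(F) for F the field of order q, write r = 2^(m+1) (so r² = 2q), and for x ∈ G call the solubilizer of x the set of y ∈ G such that x and y generate a solvable subgroup. Then the solubilizer of an involution has q²(4q − 3) elements; that of an element of order 4 has q²(q + 3) elements; that of a non-identity element of order dividing q − 1 has 2q²(q − 1) elements; that of a non-identity element of order dividing q + r + 1 has 4(q + r + 1) elements; and that of a non-identity element of order dividing q − r + 1 has 4(q − r + 1) elements. -/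
theorem result {F : Type*} [Field F] [Fintype F] {m : ℕ} (hm : 1 ≤ m)
    (hp : (2 * m + 1).Prime) (hF : Fintype.card F = 2 ^ (2 * m + 1)) (x : ↥(Cfsg.Lie.Sz F (2 ^ (m + 1)))) :
    (orderOf x = 2 → Nat.card {y : ↥(Cfsg.Lie.Sz F (2 ^ (m + 1))) // Group.IsSolvable ↥(Subgroup.closure ({x, y} : Set (↥(Cfsg.Lie.Sz F (2 ^ (m + 1))))))} = (2 ^ (2 * m + 1)) ^ 2 * (4 * 2 ^ (2 * m + 1) - 3)) ∧
    (orderOf x = 4 → Nat.card {y : ↥(Cfsg.Lie.Sz F (2 ^ (m + 1))) // Group.IsSolvable ↥(Subgroup.closure ({x, y} : Set (↥(Cfsg.Lie.Sz F (2 ^ (m + 1))))))} = (2 ^ (2 * m + 1)) ^ 2 * (2 ^ (2 * m + 1) + 3)) ∧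
    (x ≠ 1 → orderOf x ∣ 2 ^ (2 * m + 1) - 1 →
      Nat.card {y : ↥(Cfsg.Lie.Sz F (2 ^ (m + 1))) // Group.IsSolvable ↥(Subgroup.closure ({x, y} : Set (↥(Cfsg.Lie.Sz F (2 ^ (m + 1))))))} = 2 * (2 ^ (2 * m + 1)) ^ 2 * (2 ^ (2 * m + 1) - 1)) ∧
    (x ≠ 1 → orderOf x ∣ 2 ^ (2 * m + 1) + 2 ^ (m + 1) + 1 → Nat.card {y : ↥(Cfsg.Lie.Sz F (2 ^ (m + 1))) // Group.IsSolvable ↥(Subgroup.closure ({x, y} : Set (↥(Cfsg.Lie.Sz F (2 ^ (m + 1))))))} = 4 * (2 ^ (2 * m + 1) + 2 ^ (m + 1) + 1)) ∧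
    (x ≠ 1 → orderOf x ∣ 2 ^ (2 * m + 1) - 2 ^ (m + 1) + 1 → Nat.card {y : ↥(Cfsg.Lie.Sz F (2 ^ (m + 1))) // Group.IsSolvable ↥(Subgroup.closure ({x, y} : Set (↥(Cfsg.Lie.Sz F (2 ^ (m + 1))))))} = 4 * (2 ^ (2 * m + 1) - 2 ^ (m + 1) + 1)) := by
  have := charP_two hF
  have hkF : Nat.card F = 2 ^ (2 * m + 1) := by rw [Nat.card_eq_fintype_card, hF]
  have hs := sig_sig hF
  have hnt := sig_nt hm hF
  obtain ⟨φ, hφ⟩ : ∃ φ, φ = Cfsg.Agent.Lib.Helper60.SzLie.szEquiv hm hF := ⟨_, rfl⟩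
  have hcount : Nat.card {y : ↥(Cfsg.Lie.Sz F (2 ^ (m + 1))) //
      Group.IsSolvable ↥(Subgroup.closure ({x, y} : Set (↥(Cfsg.Lie.Sz F (2 ^ (m + 1))))))} =
      Nat.card {y' : G (sig F m) // SolP (sig F m) m (φ x) y'} := by
    rw [card_sol_transfer φ x]
    exact Nat.card_congr (Equiv.subtypeEquivRight
      (fun y' => sol_iff (sig F m) hs hnt hm hkF hp (φ x) y'))
  rw [hcount]
  have hord : orderOf (φ x) = orderOf x := φ.orderOf_eq x
  have hx1 : x ≠ 1 → φ x ≠ 1 := by
    intro h h'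
    apply h
    have := congrArg φ.symm h'
    rwa [φ.symm_apply_apply, map_one] at this
  have hle : 2 ^ (m + 1) ≤ 2 ^ (2 * m + 1) := Nat.pow_le_pow_right (by norm_num) (by omega)
  have hr4 : 4 ≤ 2 ^ (m + 1) := by
    calc 4 = 2 ^ 2 := by norm_num
      _ ≤ 2 ^ (m + 1) := Nat.pow_le_pow_right (by norm_num) (by omega)
  refine ⟨?_, ?_, ?_, ?_, ?_⟩
  · intro h2
    have hpow : (φ x) ^ 2 = 1 := by
      have h := pow_orderOf_eq_one (φ x)
      rw [hord, h2] at h
      exact h
    obtain ⟨g, c, hg⟩ := exists_conj_Tg_zero (sig F m) hs hnt hkF hpow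
    have hc : c ≠ 0 := by
      rintro rfl
      have h1 : φ x = 1 := by rw [hg, Tg_zero]; group
      rw [h1, orderOf_one] at hord
      omega
    rw [hg, card_sol_conj (sig F m) hs, card_sol_invol (sig F m) hs hnt hm hkF hc]
  · intro h4
    have hpow : (φ x) ^ (2 ^ 2) = 1 := by
      have h := pow_orderOf_eq_one (φ x)
      rw [hord, h4] at h
      exact h
    obtain ⟨g, a, b, hg⟩ := exists_conj_Tg (sig F m) hs hnt hkF hpow
    have ha : a ≠ 0 := by
      rintro rfl
      have h1 : (φ x) ^ 2 = 1 := by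
        rw [hg, conj_pow, sq, Tg_zero_sq]; group
      have h2 : orderOf (φ x) ∣ 2 := orderOf_dvd_of_pow_eq_one h1
      rw [hord, h4] at h2
      omega
    rw [hg, card_sol_conj (sig F m) hs, card_sol_order_four (sig F m) hs hnt hm hkF ha b]
  · intro hx hdvd
    rw [← hord] at hdvd
    exact card_sol_split (sig F m) hs hnt hm hkF (hx1 hx) hdvd
  · intro hx hdvd
    rw [← hord] at hdvd
    exact card_sol_nonsplit (sig F m) hs hnt hm hkF (hx1 hx)
      (by unfold torusOrders; simp) (by omega) hdvd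
  · intro hx hdvd
    rw [← hord] at hdvd
    exact card_sol_nonsplit (sig F m) hs hnt hm hkF (hx1 hx)
      (by unfold torusOrders; simp) (by omega) hdvd

end Cfsg.Agent.S2259
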