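import Cfsg.Statements.S2260

set_option autoImplicit false
open Cfsg

namespace Cfsg.Agent.S2260

open Polynomial

theorem nilpotent_pow_card {F : Type*} [Field F] (d : ℕ) (N : Matrix (Fin d) (Fin d) F)
    (hN : IsNilpotent N) : N ^ d = 0 := by
  have h1 : N.charpoly = X ^ d := by
    have := Matrix.isNilpotent_charpoly_sub_pow_of_isNilpotent hN
    rw [Fintype.card_fin] at this
    exact sub_eq_zero.mp this.eq_zero
  have h2 := Matrix.aeval_self_charpoly N
  rw [h1] at h2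
  simpa using h2

theorem pow_p_pow {F : Type*} [Field F] (p : ℕ) [Fact p.Prime] [CharP F p] (d : ℕ)
    (u : GL (Fin d) F) (k : ℕ) :
    ((u ^ (p ^ k) : GL (Fin d) F) : Matrix (Fin d) (Fin d) F) = 1 + ((u : Matrix (Fin d) (Fin d) F) - 1) ^ (p ^ k) := by
  rcases Nat.eq_zero_or_pos d with hd | hd
  · subst hd
    exact Subsingleton.elim _ _
  have : Nonempty (Fin d) := ⟨⟨0, hd⟩⟩
  have : CharP (Matrix (Fin d) (Fin d) F) p := Matrix.charP p
  have hc : Commute (1 : Matrix (Fin d) (Fin d) F) ((u : Matrix (Fin d) (Fin d) F) - 1) := Commute.one_left _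
  have := add_pow_char_pow_of_commute p k hc
  rw [one_pow, add_sub_cancel] at this
  rw [← this]
  simp

theorem pow_eq_one_iff {F : Type*} [Field F] (p : ℕ) [Fact p.Prime] [CharP F p] (d : ℕ)
    (u : GL (Fin d) F) (k : ℕ) :
    u ^ (p ^ k) = 1 ↔ ((u : Matrix (Fin d) (Fin d) F) - 1) ^ (p ^ k) = 0 := by
  rw [← Units.val_inj, pow_p_pow p d u k]
  simp

theorem result {F : Type*} [Field F] [Finite F] (p : ℕ) [Fact p.Prime] [CharP F p] (d : ℕ)
    (u : GL (Fin d) F) (hu : IsNilpotent ((u : Matrix (Fin d) (Fin d) F) - 1)) :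
    orderOf u ≤ p ^ Nat.clog p d ∧
    (((u : Matrix (Fin d) (Fin d) F) - 1) ^ (d - 1) ≠ 0 → orderOf u = p ^ Nat.clog p d) := by
  have hp : p.Prime := Fact.out
  have hp1 : 1 < p := hp.one_lt
  set N := (u : Matrix (Fin d) (Fin d) F) - 1 with hN
  have hNd : N ^ d = 0 := nilpotent_pow_card d N hu
  have hle : d ≤ p ^ Nat.clog p d := Nat.le_pow_clog hp1 d
  have hNpow : N ^ (p ^ Nat.clog p d) = 0 := by
    rw [← Nat.sub_add_cancel hle, pow_add, hNd, mul_zero]
  have hpow1 : u ^ (p ^ Nat.clog p d) = 1 := (pow_eq_one_iff p d u _).mpr hNpow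
  have hdvd : orderOf u ∣ p ^ Nat.clog p d := orderOf_dvd_of_pow_eq_one hpow1
  refine ⟨Nat.le_of_dvd (pow_pos hp.pos _) hdvd, ?_⟩
  intro hne
  obtain ⟨j, hj, hoj⟩ := (Nat.dvd_prime_pow hp).mp hdvd
  have h1 : u ^ (p ^ j) = 1 := by rw [← hoj]; exact pow_orderOf_eq_one u
  have h2 : N ^ (p ^ j) = 0 := (pow_eq_one_iff p d u j).mp h1
  have h3 : d ≤ p ^ j := by
    by_contra hcon
    push Not at hcon
    have hle' : p ^ j ≤ d - 1 := by omega
    apply hne
    rw [← Nat.sub_add_cancel hle', pow_add, h2, mul_zero]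
  have h4 : Nat.clog p d ≤ j := Nat.clog_le_of_le_pow h3
  have : j = Nat.clog p d := le_antisymm hj h4
  rw [hoj, this]

end Cfsg.Agent.S2260
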