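import Cfsg.Statements.S2262
import Cfsg.Agent.S2690
import Cfsg.Agent.Lib.Helper94.AP8
import Cfsg.Agent.Lib.Helper94.AP9

set_option autoImplicit false
open Cfsg

namespace Cfsg.Agent.S2262

/-- Let F be a finite field with q elements and d ≥ 2, with q ≥ 4 when d = 2, and (d, q) ∉ {(2, 4), (3, 2)}. Then every automorphism of the simple group PSL_d(F) has order at most (q^d − 1)/(q − 1) as an element of the automorphism group, and some automorphism has exactly this order. -/
theorem result {F : Type*} [Field F] [Fintype F] (d : ℕ) (hd : 2 ≤ d)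
    (h2 : d = 2 → 4 ≤ Fintype.card F) (h24 : ¬ (d = 2 ∧ Fintype.card F = 4)) (h32 : ¬ (d = 3 ∧ Fintype.card F = 2)) :
    (∀ φ : MulAut (Matrix.ProjectiveSpecialLinearGroup (Fin d) F),
      (Fintype.card F - 1) * orderOf φ ≤ Fintype.card F ^ d - 1) ∧
    (∃ φ : MulAut (Matrix.ProjectiveSpecialLinearGroup (Fin d) F),
      (Fintype.card F - 1) * orderOf φ = Fintype.card F ^ d - 1) := by
  classical
  open Cfsg.Agent.Lib.Helper94.AP in
  refine ⟨?_, exists_aut_order hd⟩
  intro β
  obtain ⟨p, hp⟩ := CharP.exists F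
  haveI hpp : Fact p.Prime := ⟨CharP.char_is_prime F p⟩
  obtain ⟨n, -, hn⟩ := FiniteField.card F p
  obtain ⟨δ, φ, γ, σ, hδ, hφ, hγ, hβ⟩ :=
    Cfsg.Agent.S2690.result (F := F) (p := p) (f := (n : ℕ)) hn n.pos hd h2 β
  obtain ⟨g, t, hInd⟩ := exists_Ind_of_decomp hδ hφ hγ hβ
  rcases Nat.lt_or_ge d 3 with hd3 | hd3
  · have hd2 : d = 2 := by omega
    subst hd2
    cases t
    · exact bound_of_Ind hd h24 h32 hInd (fun h => absurd h (by simp))
    · exact bound_of_Ind hd h24 h32 (Ind_two hInd) (fun h => absurd h (by simp))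
  · exact bound_of_Ind hd h24 h32 hInd (fun _ => hd3)

end Cfsg.Agent.S2262
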