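import Cfsg.Statements.S2264
import Cfsg.Agent.Lib.Helper94.EO5
import Cfsg.Agent.Lib.Helper39.TwoRkG
import Cfsg.Agent.Lib.Helper5.SympCenter

set_option autoImplicit false
open Cfsg

namespace Cfsg.Agent.S2264

/-- Let F be a finite field with q elements and m ≥ 2. Then every element g of PSp_2m(F) satisfies (q − 1)·|g| ≤ q^(m+1), i.e. has order at most q^(m+1)/(q − 1). -/
theorem result {F : Type*} [Field F] [Fintype F] (m : ℕ) (hm : 2 ≤ m) (g : Cfsg.PSp m F) :
    (Fintype.card F - 1) * orderOf g ≤ Fintype.card F ^ (m + 1) := by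
  classical
  haveI : Nonempty (Fin m) := ⟨⟨0, by omega⟩⟩
  obtain ⟨A, rfl⟩ := QuotientGroup.mk_surjective g
  set T : Module.End F (Fin m ⊕ Fin m → F) :=
    Matrix.toLin' (A : Matrix (Fin m ⊕ Fin m) (Fin m ⊕ Fin m) F) with hT
  have hiso : ∀ u w, Cfsg.Agent.Lib.Helper39.TwoRk.spB m F (T u) (T w) =
      Cfsg.Agent.Lib.Helper39.TwoRk.spB m F u w := by
    intro u w
    simp only [hT, Cfsg.Agent.Lib.Helper39.TwoRk.spB_apply, Matrix.toLin'_apply]
    exact Cfsg.Agent.Lib.Helper5.sympForm_mulVec_mulVec A.2 u w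
  have halt : (Cfsg.Agent.Lib.Helper39.TwoRk.spB m F).IsAlt :=
    (Cfsg.Agent.Lib.Helper39.TwoRk.isSymp_spB (m := m) (F := F)).alt
  have hS : Cfsg.Agent.Lib.Helper39.SpT.SpIso (Cfsg.Agent.Lib.Helper39.TwoRk.spB m F) T := by
    refine ⟨halt, ?_, hiso⟩
    refine (halt.isRefl.nondegenerate_iff_separatingLeft).mpr ?_
    exact (Cfsg.Agent.Lib.Helper39.TwoRk.isSymp_spB (m := m) (F := F)).nd
  have hfr : Module.finrank F (Fin m ⊕ Fin m → F) = 2 * m := by
    rw [Module.finrank_fintype_fun_eq_card, Fintype.card_sum, Fintype.card_fin]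
    ring
  obtain ⟨N, hN0, hTN, hb⟩ := Cfsg.Agent.Lib.Helper94.EO.order_bound m (by omega) _
    (Cfsg.Agent.Lib.Helper39.TwoRk.spB m F) T hfr hS
  have hgN : (QuotientGroup.mk A : Cfsg.PSp m F) ^ N = 1 := by
    rw [← QuotientGroup.mk_pow, QuotientGroup.eq_one_iff,
      Cfsg.Agent.Lib.Helper5.mem_center_symplecticGroup_iff, SubmonoidClass.coe_pow]
    rcases hTN with h | h
    · left
      apply Matrix.toLin'.injective
      rw [Matrix.toLin'_pow, h, Matrix.toLin'_one]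
      rfl
    · right
      apply Matrix.toLin'.injective
      rw [Matrix.toLin'_pow, h, map_neg, Matrix.toLin'_one]
      rfl
  have hdvd : orderOf (QuotientGroup.mk A : Cfsg.PSp m F) ∣ N := orderOf_dvd_of_pow_eq_one hgN
  have hle : orderOf (QuotientGroup.mk A : Cfsg.PSp m F) ≤ N := Nat.le_of_dvd hN0 hdvd
  exact (Nat.mul_le_mul_left _ hle).trans hb

end Cfsg.Agent.S2264
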