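import Cfsg.Statements.S2265
import Cfsg.Agent.Lib.Helper94.EO9
import Cfsg.Agent.Lib.Helper94.QuadOdd
import Cfsg.Agent.Lib.Helper94.Sg8
import Cfsg.Agent.Lib.Helper37.ParabolicBridge
import Cfsg.Agent.Lib.Helper43.ZeroCount

set_option autoImplicit false
open Cfsg

namespace Cfsg.Agent.S2265

/-- Let F be a finite field with q elements. Every element g of PΩ_(2m+1)(F) (m ≥ 3, q odd), of PΩ⁺_2m(F) (m ≥ 4), or of PΩ⁻_2m(F) (m ≥ 4, the form having an anisotropic binary part) satisfies (q − 1)·|g| ≤ q^(m+1), i.e. has order at most q^(m+1)/(q − 1). -/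
theorem result {F : Type*} [Field F] [Fintype F] (m : ℕ) :
    (3 ≤ m → Odd (Fintype.card F) → ∀ g : Cfsg.POmega F (Cfsg.quadFormOdd m F),
      (Fintype.card F - 1) * orderOf g ≤ Fintype.card F ^ (m + 1)) ∧
    (4 ≤ m → ∀ g : Cfsg.POmega F (Cfsg.quadFormPlus m F),
      (Fintype.card F - 1) * orderOf g ≤ Fintype.card F ^ (m + 1)) ∧
    (4 ≤ m → ∀ a b : F, (∀ z₁ z₂ : F, z₁ ^ 2 + a * z₁ * z₂ + b * z₂ ^ 2 = 0 → z₁ = 0 ∧ z₂ = 0) →
      ∀ g : Cfsg.POmega F (Cfsg.quadFormMinus (m - 1) F a b),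
      (Fintype.card F - 1) * orderOf g ≤ Fintype.card F ^ (m + 1)) := by
  classical
  refine ⟨?_, ?_, ?_⟩
  · intro hm hodd g
    have h2 : (2 : F) ≠ 0 := by
      intro h
      have h3 : ringChar F = 2 :=
        CharP.ringChar_of_prime_eq_zero Nat.prime_two (by exact_mod_cast h)
      have h4 := FiniteField.even_card_iff_char_two.mp h3
      rcases hodd with ⟨k, hk⟩
      omega
    have hQ := Cfsg.Agent.Lib.Helper94.nondeg_quadFormOdd (F := F) (m := m) h2
    apply Cfsg.Agent.Lib.Helper94.EO.pomega_order_bound (quadFormOdd m F) _ _ g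
    intro x hx
    exact Cfsg.Agent.Lib.Helper94.EO.qf_order_bound
      (Cfsg.Agent.Lib.Helper37.toQF _ hQ) (Cfsg.Agent.Lib.Helper37.toQF_nondeg _ hQ) m
      (Or.inl ⟨hodd, hm, by simp; omega, by simp⟩) x
      (by rw [Cfsg.Agent.Lib.Helper37.toQF_coe]; exact hx)
  · intro hm g
    apply Cfsg.Agent.Lib.Helper94.EO.pomega_order_bound (quadFormPlus m F) _ _ g
    intro x hx
    have hcard : Fintype.card (Fin m ⊕ Fin m) = 2 * m := by simp; ring
    by_cases hodd : Odd (Fintype.card F)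
    · exact Cfsg.Agent.Lib.Helper94.EO.qf_order_bound
        (Cfsg.Agent.Lib.Helper94.Sg.plusQ m F) (Cfsg.Agent.Lib.Helper94.Sg.plusQ_nondeg m F) m
        (Or.inl ⟨hodd, by omega, by rw [hcard]; omega, by rw [hcard]; omega⟩) x
        (by rw [Cfsg.Agent.Lib.Helper94.Sg.plusQ_coe]; exact hx)
    · exact Cfsg.Agent.Lib.Helper94.EO.qf_order_bound
        (Cfsg.Agent.Lib.Helper94.Sg.plusQ m F) (Cfsg.Agent.Lib.Helper94.Sg.plusQ_nondeg m F) m
        (Or.inr ⟨hodd, by omega, hcard⟩) x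
        (by rw [Cfsg.Agent.Lib.Helper94.Sg.plusQ_coe]; exact hx)
  · intro hm a b hab g
    apply Cfsg.Agent.Lib.Helper94.EO.pomega_order_bound (quadFormMinus (m - 1) F a b) _ _ g
    intro x hx
    have hcard : Fintype.card ((Fin (m - 1) ⊕ Fin (m - 1)) ⊕ Fin 2) = 2 * m := by simp; omega
    have hnd := Cfsg.Agent.Lib.Helper43.ZeroCount.minusForm_nondeg F a b hab (m - 1)
    by_cases hodd : Odd (Fintype.card F)
    · exact Cfsg.Agent.Lib.Helper94.EO.qf_order_bound
        (Cfsg.Agent.Lib.Helper8.minusForm (m - 1) F a b) hnd m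
        (Or.inl ⟨hodd, by omega, by rw [hcard]; omega, by rw [hcard]; omega⟩) x
        (by rw [← Cfsg.Agent.Lib.Helper8.minusForm_coe]; exact hx)
    · exact Cfsg.Agent.Lib.Helper94.EO.qf_order_bound
        (Cfsg.Agent.Lib.Helper8.minusForm (m - 1) F a b) hnd m
        (Or.inr ⟨hodd, by omega, hcard⟩) x
        (by rw [← Cfsg.Agent.Lib.Helper8.minusForm_coe]; exact hx)

end Cfsg.Agent.S2265
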