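import Cfsg.Statements.S2268

set_option autoImplicit false
open Cfsg

namespace Cfsg.Agent.S2268

open Subgroup

theorem frattini_aux {G : Type*} [Group G] [Finite G] {p : ℕ} [Fact p.Prime]
    (P : Sylow p G) (hP : IsMulCommutative (P : Subgroup G)) (Q : Subgroup G) (hQ : Q ≤ (P : Subgroup G)) :
    Subgroup.normalizer (Q : Set G) ≤
      (Subgroup.normalizer (Q : Set G) ⊓ Subgroup.normalizer ((P : Subgroup G) : Set G)) ⊔ Subgroup.centralizer (Q : Set G) := by
  have hPC : (P : Subgroup G) ≤ centralizer (Q : Set G) := by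
    intro x hx y hy
    have := hP.is_comm.comm ⟨y, hQ hy⟩ ⟨x, hx⟩
    exact congrArg Subtype.val this
  have hCN : centralizer (Q : Set G) ≤ normalizer (Q : Set G) := centralizer_le_normalizer _
  have hPN : (P : Subgroup G) ≤ normalizer (Q : Set G) := hPC.trans hCN
  -- Sylow of NQ
  set NQ := normalizer (Q : Set G) with hNQ
  let P' : Sylow p NQ := P.subtype hPN
  have hP'N : (P' : Subgroup NQ) ≤ (centralizer (Q : Set G)).subgroupOf NQ := by
    intro x hx
    rw [mem_subgroupOf]
    have : (x : G) ∈ (P : Subgroup G) := by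
      simpa [P', Sylow.coe_subtype, mem_subgroupOf] using hx
    exact hPC this
  have key := Sylow.normalizer_sup_eq_top' P' hP'N
  intro g hg
  have hgtop : (⟨g, hg⟩ : NQ) ∈ (⊤ : Subgroup NQ) := mem_top _
  rw [← key] at hgtop
  -- map to G
  have hmap : (NQ.subtype) ⟨g, hg⟩ ∈ (normalizer ((P' : Subgroup NQ) : Set NQ) ⊔ (centralizer (Q : Set G)).subgroupOf NQ).map NQ.subtype :=
    mem_map_of_mem _ hgtop
  rw [Subgroup.map_sup] at hmap
  have hmemP' : ∀ y : NQ, y ∈ ((P' : Subgroup NQ) : Set NQ) ↔ (y : G) ∈ ((P : Subgroup G) : Set G) := by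
    intro y
    change y ∈ (P' : Subgroup NQ) ↔ (y : G) ∈ (P : Subgroup G)
    rw [show (P' : Subgroup NQ) = (P : Subgroup G).subgroupOf NQ from Sylow.coe_subtype _ _, mem_subgroupOf]
  have h1 : (normalizer ((P' : Subgroup NQ) : Set NQ)).map NQ.subtype ≤ NQ ⊓ normalizer ((P : Subgroup G) : Set G) := by
    rintro _ ⟨x, hx, rfl⟩
    refine ⟨x.2, ?_⟩
    intro n
    constructor
    · intro hn
      have := (hx ⟨n, hPN hn⟩).mp ((hmemP' _).mpr hn)
      exact (hmemP' _).mp this
    · intro hn
      have hxinv : x⁻¹ ∈ normalizer ((P' : Subgroup NQ) : Set NQ) := inv_mem hx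
      have hmem : (x : G) * n * (x : G)⁻¹ ∈ NQ := hPN hn
      have := (hxinv ⟨(x : G) * n * (x : G)⁻¹, hmem⟩).mp ((hmemP' _).mpr hn)
      have h3 := (hmemP' _).mp this
      simpa [mul_assoc] using h3
  have h2 : ((centralizer (Q : Set G)).subgroupOf NQ).map NQ.subtype ≤ centralizer (Q : Set G) := by
    rw [subgroupOf_map_subtype]
    exact inf_le_left
  exact (sup_le_sup h1 h2) hmap

theorem result {G : Type*} [Group G] [Finite G] {p : ℕ} [Fact p.Prime]
    (P : Sylow p G) (hP : IsMulCommutative (P : Subgroup G)) (Q : Subgroup G) (hQ : Q ≤ (P : Subgroup G)) :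
    Subgroup.normalizer (Q : Set G) =
      (Subgroup.normalizer (Q : Set G) ⊓ Subgroup.normalizer ((P : Subgroup G) : Set G)) ⊔ Subgroup.centralizer (Q : Set G) ∧
    ((Subgroup.centralizer (Q : Set G)).subgroupOf (Subgroup.normalizer (Q : Set G))).index ∣ ((Subgroup.centralizer ((P : Subgroup G) : Set G)).subgroupOf (Subgroup.normalizer ((P : Subgroup G) : Set G))).index := by
  have hCN : centralizer (Q : Set G) ≤ normalizer (Q : Set G) := centralizer_le_normalizer _
  have hCNP : centralizer ((P : Subgroup G) : Set G) ≤ normalizer ((P : Subgroup G) : Set G) := centralizer_le_normalizer _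
  have hCPQ : centralizer ((P : Subgroup G) : Set G) ≤ centralizer (Q : Set G) :=
    centralizer_le (by exact_mod_cast hQ)
  have part1 : Subgroup.normalizer (Q : Set G) =
      (Subgroup.normalizer (Q : Set G) ⊓ Subgroup.normalizer ((P : Subgroup G) : Set G)) ⊔ Subgroup.centralizer (Q : Set G) :=
    le_antisymm (frattini_aux P hP Q hQ) (sup_le inf_le_left hCN)
  refine ⟨part1, ?_⟩
  set NQ := normalizer (Q : Set G) with hNQ
  set NP := normalizer ((P : Subgroup G) : Set G) with hNP
  set CQ := centralizer (Q : Set G) with hCQ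
  set CP := centralizer ((P : Subgroup G) : Set G) with hCP
  set M := NQ ⊓ NP with hM
  change CQ.relIndex NQ ∣ CP.relIndex NP
  -- step 1: CQ.relIndex NQ = CQ.relIndex M
  have step1 : CQ.relIndex NQ = CQ.relIndex M := by
    have hMNQ : M ≤ NQ := inf_le_left
    have hsup : M.subgroupOf NQ ⊔ CQ.subgroupOf NQ = ⊤ := by
      rw [eq_top_iff]
      intro x _
      have hx : (x : G) ∈ M ⊔ CQ := by rw [← part1]; exact x.2
      have : x ∈ (M ⊔ CQ).subgroupOf NQ := hx
      rwa [subgroupOf_sup hMNQ hCN] at this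
    have := relIndex_sup_right (M.subgroupOf NQ) (CQ.subgroupOf NQ)
    rw [hsup, relIndex_top_right, relIndex_subgroupOf hMNQ] at this
    exact this
  rw [step1]
  have hCPM : CP ≤ M := le_inf (hCPQ.trans hCN) hCNP
  have step2 : CQ.relIndex M ∣ CP.relIndex M := relIndex_dvd_of_le_left M hCPQ
  have step3 : CP.relIndex M ∣ CP.relIndex NP :=
    Dvd.intro _ (relIndex_mul_relIndex CP M NP hCPM inf_le_right)
  exact step2.trans step3

end Cfsg.Agent.S2268
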