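import Cfsg.Statements.S2270
import Cfsg.Agent.Lib.Helper38.Automizer

set_option autoImplicit false
open Cfsg

namespace Cfsg.Agent.S2270

open Subgroup Cfsg.Agent.Lib.Helper38

theorem result (n : ℕ) (hn : 3 ≤ n) {p : ℕ} [Fact p.Prime] (hp : p ≠ 2) (hpn : p ≤ n)
    (P : Sylow p (Equiv.Perm (Fin n))) (hP : IsMulCommutative (P : Subgroup (Equiv.Perm (Fin n)))) :
    2 ∣ ((Subgroup.centralizer ((P : Subgroup (Equiv.Perm (Fin n))) : Set (Equiv.Perm (Fin n)))).subgroupOf (Subgroup.normalizer ((P : Subgroup (Equiv.Perm (Fin n))) : Set (Equiv.Perm (Fin n))))).index := by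
  have hpp : p.Prime := Fact.out
  have hcard : Nat.card (Equiv.Perm (Fin n)) = n.factorial := by
    rw [Nat.card_eq_fintype_card, Fintype.card_perm, Fintype.card_fin]
  have hdvd : p ∣ Nat.card (Equiv.Perm (Fin n)) := by
    rw [hcard]; exact (Nat.Prime.dvd_factorial hpp).mpr hpn
  have hne : (P : Subgroup (Equiv.Perm (Fin n))) ≠ ⊥ := P.ne_bot_of_dvd_card hdvd
  obtain ⟨x, hxP, hx1'⟩ := (Subgroup.bot_or_exists_ne_one _).resolve_left hne
  -- x is a p-element
  obtain ⟨k, hk⟩ := P.2 ⟨x, hxP⟩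
  have hk' : x ^ (p ^ k) = 1 := by
    have := congrArg Subtype.val hk
    simpa using this
  have hxx : x ≠ x⁻¹ := by
    intro h
    have h2 : x ^ 2 = 1 := by
      rw [pow_two]
      nth_rewrite 2 [h]
      exact mul_inv_cancel x
    have hd2 : orderOf x ∣ 2 := orderOf_dvd_of_pow_eq_one h2
    have hdp : orderOf x ∣ p ^ k := orderOf_dvd_of_pow_eq_one hk'
    have hcop : Nat.Coprime 2 (p ^ k) := by
      apply Nat.Coprime.pow_right
      rw [Nat.coprime_primes Nat.prime_two hpp]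
      exact fun h => hp h.symm
    have : orderOf x ∣ 1 := by
      have := Nat.dvd_gcd hd2 hdp
      rwa [hcop] at this
    exact hx1' (orderOf_eq_one_iff.mp (Nat.dvd_one.mp this))
  have hconj : IsConj x x⁻¹ := by
    rw [Equiv.Perm.isConj_iff_cycleType_eq, Equiv.Perm.cycleType_inv]
  obtain ⟨c, hc⟩ := isConj_iff.mp hconj
  exact two_dvd_automizer_of_conj_inv P hP x hxP hxx c⁻¹ (by rw [inv_inv]; exact hc)

end Cfsg.Agent.S2270
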