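import Cfsg.Statements.S2271
import Cfsg.Agent.Lib.Helper59.AgreeCount

set_option autoImplicit false
open Cfsg

namespace Cfsg.Agent.S2271

open Cfsg.Agent.Lib.Helper59.AC in
theorem card_fixed_eq_Ag {n : ℕ} (a' b' : Equiv.Perm (Fin n)) :
    Nat.card (Function.fixedPoints ⇑(a' * b')) = Ag b' a'⁻¹ := by
  classical
  rw [Nat.card_eq_fintype_card]
  unfold Ag
  rw [Fintype.card_of_subtype (Finset.univ.filter (fun z => b' z = a'⁻¹ z))]
  intro z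
  simp only [Finset.mem_filter, Finset.mem_univ, true_and, Function.mem_fixedPoints,
    Function.IsFixedPt, Equiv.Perm.mul_apply]
  rw [Equiv.Perm.eq_inv_iff_eq]

/-- Let n ≥ 5 and let a, b be non-identity permutations in the symmetric group S_n. Then the number of fixed points is not constant on the set of products a′b′ with a′ conjugate to a and b′ conjugate to b under the alternating group: there are even permutations g₁, h₁, g₂, h₂ such that (g₁ a g₁⁻¹)(h₁ b h₁⁻¹) and (g₂ a g₂⁻¹)(h₂ b h₂⁻¹) have different numbers of fixed points. -/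
theorem result (n : ℕ) (hn : 5 ≤ n) (a b : Equiv.Perm (Fin n)) (ha : a ≠ 1) (hb : b ≠ 1) :
    ∃ g₁ h₁ g₂ h₂ : Equiv.Perm (Fin n), g₁ ∈ alternatingGroup (Fin n) ∧ h₁ ∈ alternatingGroup (Fin n) ∧ g₂ ∈ alternatingGroup (Fin n) ∧ h₂ ∈ alternatingGroup (Fin n) ∧
      Nat.card (Function.fixedPoints ⇑(g₁ * a * g₁⁻¹ * (h₁ * b * h₁⁻¹))) ≠
        Nat.card (Function.fixedPoints ⇑(g₂ * a * g₂⁻¹ * (h₂ * b * h₂⁻¹))) := by
  have hcard : 5 ≤ Fintype.card (Fin n) := by simpa using hn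
  have ha' : a⁻¹ ≠ 1 := by simpa using ha
  obtain ⟨g₁, h₁, g₂, h₂, hg₁, hh₁, hg₂, hh₂, hne⟩ :=
    Cfsg.Agent.Lib.Helper59.AC.main hcard a⁻¹ b ha' hb
  refine ⟨g₁, h₁, g₂, h₂, hg₁, hh₁, hg₂, hh₂, ?_⟩
  rw [card_fixed_eq_Ag, card_fixed_eq_Ag]
  have e1 : (g₁ * a * g₁⁻¹)⁻¹ = g₁ * a⁻¹ * g₁⁻¹ := by group
  have e2 : (g₂ * a * g₂⁻¹)⁻¹ = g₂ * a⁻¹ * g₂⁻¹ := by group
  rw [e1, e2]
  exact hne

end Cfsg.Agent.S2271
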