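import Cfsg.Statements.S2279
import Cfsg.Agent.Lib.Helper42.RUnPart2
import Cfsg.Agent.Lib.Helper79.RUnPart1

set_option autoImplicit false
open Cfsg

namespace Cfsg.Agent.S2279

/-- Let F be a finite field with q elements and n ≥ 4. Then SL_n(F) is generated by two regular unipotent elements (elements u with u − 1 nilpotent and (u − 1)^(n−1) ≠ 0); if q is prime, the two can be taken conjugate in SL_n(F). -/
theorem result {F : Type*} [Field F] [Fintype F] (n : ℕ) (hn : 4 ≤ n) :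
    (∃ u v : Matrix.SpecialLinearGroup (Fin n) F, (IsNilpotent ((u : Matrix (Fin n) (Fin n) F) - 1) ∧ ((u : Matrix (Fin n) (Fin n) F) - 1) ^ (n - 1) ≠ 0) ∧ (IsNilpotent ((v : Matrix (Fin n) (Fin n) F) - 1) ∧ ((v : Matrix (Fin n) (Fin n) F) - 1) ^ (n - 1) ≠ 0) ∧
      Subgroup.closure ({u, v} : Set (Matrix.SpecialLinearGroup (Fin n) F)) = ⊤) ∧
    ((Fintype.card F).Prime → ∃ u g : Matrix.SpecialLinearGroup (Fin n) F, (IsNilpotent ((u : Matrix (Fin n) (Fin n) F) - 1) ∧ ((u : Matrix (Fin n) (Fin n) F) - 1) ^ (n - 1) ≠ 0) ∧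
      Subgroup.closure ({u, g * u * g⁻¹} : Set (Matrix.SpecialLinearGroup (Fin n) F)) = ⊤) := by
  have hP2 : (Fintype.card F).Prime → ∃ u g : Matrix.SpecialLinearGroup (Fin n) F,
      (IsNilpotent ((u : Matrix (Fin n) (Fin n) F) - 1) ∧
        ((u : Matrix (Fin n) (Fin n) F) - 1) ^ (n - 1) ≠ 0) ∧
      Subgroup.closure ({u, g * u * g⁻¹} : Set (Matrix.SpecialLinearGroup (Fin n) F)) = ⊤ := by
    intro hp
    obtain ⟨m, rfl⟩ : ∃ m, n = m + 1 + 3 := ⟨n - 4, by omega⟩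
    exact Cfsg.Agent.Lib.Helper42.RUn.part2 (m := m + 1) (by omega) hp
  refine ⟨?_, hP2⟩
  by_cases h3 : 3 ≤ Fintype.card F
  · exact Cfsg.Agent.Lib.Helper79.RUn.part1_n n hn h3
  · have h2 : 1 < Fintype.card F := Fintype.one_lt_card
    have hp : (Fintype.card F).Prime := by
      have : Fintype.card F = 2 := by omega
      rw [this]
      exact Nat.prime_two
    obtain ⟨u, g, hu, hgen⟩ := hP2 hp
    exact ⟨u, g * u * g⁻¹, hu, Cfsg.Agent.Lib.Helper42.RUn.regular_conj u g (n - 1) hu, hgen⟩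

end Cfsg.Agent.S2279
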