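import Cfsg.Statements.S2299
import Cfsg.Agent.Lib.Helper38.SL2CountOdd

set_option autoImplicit false
open Cfsg

namespace Cfsg.Agent.S2299

/-- Over a finite field F with q elements, q odd, every irreducible complex character of SL₂ has degree 1, q, q + 1, q − 1, (q + 1)/2 or (q − 1)/2; and when q ≥ 5 (so that these six numbers are distinct) there are exactly one irreducible character of degree 1, one of degree q, (q − 3)/2 of degree q + 1, (q − 1)/2 of degree q − 1, two of degree (q + 1)/2 and two of degree (q − 1)/2. -/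
theorem result {F : Type*} [Field F] [Fintype F] (hodd : Odd (Fintype.card F)) :
    (∀ χ : Matrix.SpecialLinearGroup (Fin 2) F → ℂ, Cfsg.IsIrrCharacter (Matrix.SpecialLinearGroup (Fin 2) F) χ →
      χ 1 = 1 ∨ χ 1 = (Fintype.card F : ℂ) ∨ χ 1 = (Fintype.card F : ℂ) + 1 ∨ χ 1 = (Fintype.card F : ℂ) - 1 ∨
        χ 1 = (((Fintype.card F + 1) / 2 : ℕ) : ℂ) ∨ χ 1 = (((Fintype.card F - 1) / 2 : ℕ) : ℂ)) ∧
    (5 ≤ Fintype.card F →
      Nat.card {χ : Cfsg.IrrCharacter (Matrix.SpecialLinearGroup (Fin 2) F) // (χ : Matrix.SpecialLinearGroup (Fin 2) F → ℂ) 1 = 1} = 1 ∧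
      Nat.card {χ : Cfsg.IrrCharacter (Matrix.SpecialLinearGroup (Fin 2) F) // (χ : Matrix.SpecialLinearGroup (Fin 2) F → ℂ) 1 = (Fintype.card F : ℂ)} = 1 ∧
      Nat.card {χ : Cfsg.IrrCharacter (Matrix.SpecialLinearGroup (Fin 2) F) // (χ : Matrix.SpecialLinearGroup (Fin 2) F → ℂ) 1 = (Fintype.card F : ℂ) + 1} = (Fintype.card F - 3) / 2 ∧
      Nat.card {χ : Cfsg.IrrCharacter (Matrix.SpecialLinearGroup (Fin 2) F) // (χ : Matrix.SpecialLinearGroup (Fin 2) F → ℂ) 1 = (Fintype.card F : ℂ) - 1} = (Fintype.card F - 1) / 2 ∧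
      Nat.card {χ : Cfsg.IrrCharacter (Matrix.SpecialLinearGroup (Fin 2) F) // (χ : Matrix.SpecialLinearGroup (Fin 2) F → ℂ) 1 = (((Fintype.card F + 1) / 2 : ℕ) : ℂ)} = 2 ∧
      Nat.card {χ : Cfsg.IrrCharacter (Matrix.SpecialLinearGroup (Fin 2) F) // (χ : Matrix.SpecialLinearGroup (Fin 2) F → ℂ) 1 = (((Fintype.card F - 1) / 2 : ℕ) : ℂ)} = 2) := by
  classical
  obtain ⟨k, hk⟩ := hodd
  have hqC : (Fintype.card F : ℂ) = 2 * (k : ℂ) + 1 := by rw [hk]; push_cast; ring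
  have e2 : (Fintype.card F : ℂ) = ((2 * k + 1 : ℕ) : ℂ) := by rw [hk]
  have e3 : (Fintype.card F : ℂ) + 1 = ((2 * k + 2 : ℕ) : ℂ) := by rw [hqC]; push_cast; ring
  have e4 : (Fintype.card F : ℂ) - 1 = ((2 * k : ℕ) : ℂ) := by rw [hqC]; push_cast; ring
  have e5 : (Fintype.card F + 1) / 2 = k + 1 := by omega
  have e6 : (Fintype.card F - 1) / 2 = k := by omega
  have e7 : (Fintype.card F - 3) / 2 = k - 1 := by omega
  have e1 : (1 : ℂ) = ((1 : ℕ) : ℂ) := by simp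
  rw [e3, e4, e5, e6, e7, e2]
  refine ⟨fun χ hχ => ?_, fun hq => ?_⟩
  · rcases Cfsg.Agent.Lib.Helper38.irr_SL2_odd_types hk χ hχ with ⟨-, h1⟩ | ⟨-, h1⟩ |
      ⟨α, -, -, h1⟩ | ⟨α, ξ', d, -, -, -, -, -, -, h1⟩ | ⟨ψ, -, -, h1⟩ |
      ⟨ψ, ξ', d, -, -, -, -, -, h1⟩
    · left; rw [h1]; simp
    · right; left; exact h1
    · right; right; left; exact h1
    · right; right; right; right; left; exact h1
    · right; right; right; left; exact h1
    · right; right; right; right; right; exact h1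
  · have hk2 : 2 ≤ k := by omega
    have := Cfsg.Agent.Lib.Helper38.count_SL2_odd_aux F hk hk2
    rw [← e1] at this
    exact this

end Cfsg.Agent.S2299
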