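import Cfsg.Statements.S2301
import Cfsg.Agent.Lib.Helper38.SL2
import Cfsg.Agent.Lib.Helper38.SLCard

set_option autoImplicit false
open Cfsg

namespace Cfsg.Agent.S2301

open Matrix Polynomial Cfsg.Agent.Lib.Helper38

set_option linter.unusedSectionVars false
set_option linter.unusedSimpArgs false

variable {F : Type*} [Field F]

/-- the upper unitriangular element with off-diagonal entry `t` -/
def u (t : F) : Matrix.SpecialLinearGroup (Fin 2) F := mk2 1 t 0 1 (by ring)

theorem nilpotent_sq (N : Matrix (Fin 2) (Fin 2) F) (hN : IsNilpotent N) : N ^ 2 = 0 := by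
  have h1 : N.charpoly = X ^ 2 := by
    have := Matrix.isNilpotent_charpoly_sub_pow_of_isNilpotent hN
    rw [Fintype.card_fin] at this
    exact sub_eq_zero.mp this.eq_zero
  have h2 := Matrix.aeval_self_charpoly N
  rw [h1] at h2
  simpa using h2

theorem trace_eq_two_of_sq (g : Matrix.SpecialLinearGroup (Fin 2) F)
    (h : (g.1 - 1) ^ 2 = 0) : g.1 0 0 + g.1 1 1 = 2 := by
  have hdet := sl2_det g
  have e00 := congrFun (congrFun h 0) 0
  have e01 := congrFun (congrFun h 0) 1
  have e10 := congrFun (congrFun h 1) 0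
  have e11 := congrFun (congrFun h 1) 1
  simp only [pow_two, Matrix.mul_apply, Fin.sum_univ_two, Matrix.sub_apply, Matrix.one_apply_eq,
    Matrix.one_apply_ne, ne_eq, zero_ne_one, one_ne_zero, not_false_eq_true, Fin.isValue,
    sub_zero, Matrix.zero_apply] at e00 e01 e10 e11
  by_contra hs
  have hs' : g.1 0 0 + g.1 1 1 - 2 ≠ 0 := fun h0 => hs (by linear_combination h0)
  have hb : g.1 0 1 = 0 := by
    have : g.1 0 1 * (g.1 0 0 + g.1 1 1 - 2) = 0 := by linear_combination e01
    exact (mul_eq_zero.mp this).resolve_right hs'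
  have hc : g.1 1 0 = 0 := by
    have : g.1 1 0 * (g.1 0 0 + g.1 1 1 - 2) = 0 := by linear_combination e10
    exact (mul_eq_zero.mp this).resolve_right hs'
  rw [hb, hc] at e00 e11
  have ha : g.1 0 0 = 1 := by
    have : (g.1 0 0 - 1) * (g.1 0 0 - 1) = 0 := by linear_combination e00
    linear_combination mul_self_eq_zero.mp this
  have hd : g.1 1 1 = 1 := by
    have : (g.1 1 1 - 1) * (g.1 1 1 - 1) = 0 := by linear_combination e11
    linear_combination mul_self_eq_zero.mp this
  apply hs
  rw [ha, hd]; norm_num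

theorem sq_of_trace_eq_two (g : Matrix.SpecialLinearGroup (Fin 2) F)
    (h : g.1 0 0 + g.1 1 1 = 2) : (g.1 - 1) ^ 2 = 0 := by
  have hdet := sl2_det g
  have hd : g.1 1 1 = 2 - g.1 0 0 := by linear_combination h
  rw [hd] at hdet
  ext i j
  fin_cases i <;> fin_cases j <;>
    simp only [pow_two, Matrix.mul_apply, Fin.sum_univ_two, Matrix.sub_apply, Matrix.one_apply_eq,
      Matrix.one_apply_ne, ne_eq, zero_ne_one, one_ne_zero, not_false_eq_true, Fin.isValue,
      sub_zero, Matrix.zero_apply, Fin.zero_eta, Fin.mk_one, hd]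
  · linear_combination -hdet
  · ring
  · ring
  · linear_combination -hdet

theorem order_p_iff [Fintype F] (p : ℕ) [Fact p.Prime] [CharP F p]
    (g : Matrix.SpecialLinearGroup (Fin 2) F) :
    orderOf g = p ↔ g ≠ 1 ∧ g.1 0 0 + g.1 1 1 = 2 := by
  have hpp : p.Prime := Fact.out
  have hchar : CharP (Matrix (Fin 2) (Fin 2) F) p := Matrix.charP p
  rw [orderOf_eq_prime_iff]
  constructor
  · rintro ⟨hgp, hg1⟩
    refine ⟨hg1, ?_⟩
    apply trace_eq_two_of_sq
    apply nilpotent_sq
    refine ⟨p, ?_⟩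
    rw [sub_pow_char_of_commute p (Commute.one_right _), one_pow, sub_eq_zero]
    have := congrArg Subtype.val hgp
    simpa using this
  · rintro ⟨hg1, htr⟩
    refine ⟨?_, hg1⟩
    have hN : (g.1 - 1) ^ 2 = 0 := sq_of_trace_eq_two g htr
    have hNp : (g.1 - 1) ^ p = 0 := by
      have h2 : 2 ≤ p := hpp.two_le
      rw [← Nat.sub_add_cancel h2, pow_add, hN, mul_zero]
    rw [sub_pow_char_of_commute p (Commute.one_right _), one_pow, sub_eq_zero] at hNp
    apply Subtype.ext
    simpa using hNp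

theorem u_ne_one (t : F) (ht : t ≠ 0) : u t ≠ 1 := by
  intro h
  have := congrArg (fun m : Matrix.SpecialLinearGroup (Fin 2) F => m.1 0 1) h
  simp [u] at this
  exact ht this

theorem isConj_u (g : Matrix.SpecialLinearGroup (Fin 2) F) (hg1 : g ≠ 1)
    (htr : g.1 0 0 + g.1 1 1 = 2) : ∃ t : F, t ≠ 0 ∧ IsConj (u t) g := by
  have hdet := sl2_det g
  have hd : g.1 1 1 = 2 - g.1 0 0 := by linear_combination htr
  rw [hd] at hdet
  by_cases hb : g.1 0 1 = 0
  · have ha : g.1 0 0 = 1 := by
      rw [hb] at hdet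
      have : (g.1 0 0 - 1) * (g.1 0 0 - 1) = 0 := by linear_combination -hdet
      linear_combination mul_self_eq_zero.mp this
    have hd1 : g.1 1 1 = 1 := by rw [hd, ha]; norm_num
    have hc : g.1 1 0 ≠ 0 := by
      intro hc
      apply hg1
      apply sl2_ext
      · rw [ha, sl2_one_00]
      · rw [hb, sl2_one_01]
      · rw [hc, sl2_one_10]
      · rw [hd1, sl2_one_11]
    refine ⟨-g.1 1 0, neg_ne_zero.mpr hc, ?_⟩
    let k : Matrix.SpecialLinearGroup (Fin 2) F := mk2 0 1 (-1) 0 (by ring)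
    apply isConj_of_semiconj (u (-g.1 1 0)) g k
    apply sl2_ext <;> rw [sl2_mul_apply, sl2_mul_apply] <;>
      simp only [k, u, mk2_00, mk2_01, mk2_10, mk2_11, ha, hb, hd1] <;> ring
  · refine ⟨(g.1 0 1)⁻¹, inv_ne_zero hb, ?_⟩
    let k : Matrix.SpecialLinearGroup (Fin 2) F :=
      mk2 (g.1 0 1) 0 (1 - g.1 0 0) (g.1 0 1)⁻¹ (by rw [mul_inv_cancel₀ hb]; ring)
    apply isConj_of_semiconj (u (g.1 0 1)⁻¹) g k
    apply sl2_ext
    · rw [sl2_mul_apply, sl2_mul_apply]
      simp only [k, u, mk2_00, mk2_01, mk2_10, mk2_11]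
      ring
    · rw [sl2_mul_apply, sl2_mul_apply]
      simp only [k, u, mk2_00, mk2_01, mk2_10, mk2_11]
      ring
    · rw [sl2_mul_apply, sl2_mul_apply]
      simp only [k, u, mk2_00, mk2_01, mk2_10, mk2_11, hd]
      linear_combination hdet
    · rw [sl2_mul_apply, sl2_mul_apply]
      simp only [k, u, mk2_00, mk2_01, mk2_10, mk2_11, hd]
      field_simp
      ring

theorem isConj_u_iff (t t' : F) (ht : t ≠ 0) (ht' : t' ≠ 0) :
    IsConj (u t) (u t') ↔ IsSquare (t * t') := by
  constructor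
  · intro h
    obtain ⟨k, hk⟩ := isConj_iff.mp h
    have hk' : k * u t = u t' * k := by rw [← hk]; group
    have hdet := sl2_det k
    have e00 := congrArg (fun m : Matrix.SpecialLinearGroup (Fin 2) F => m.1 0 0) hk'
    have e01 := congrArg (fun m : Matrix.SpecialLinearGroup (Fin 2) F => m.1 0 1) hk'
    simp only [sl2_mul_apply, u, mk2_00, mk2_01, mk2_10, mk2_11] at e00 e01
    have hz : k.1 1 0 = 0 := by
      have : t' * k.1 1 0 = 0 := by linear_combination -e00
      exact (mul_eq_zero.mp this).resolve_left ht'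
    rw [hz] at hdet
    refine ⟨k.1 0 0 * t, ?_⟩
    have e : k.1 0 0 * t = t' * k.1 1 1 := by linear_combination e01
    linear_combination (-(t * t')) * hdet + (-(k.1 0 0) * t) * e
  · rintro ⟨s, hs⟩
    have hs0 : s ≠ 0 := by
      rintro rfl
      rw [mul_zero] at hs
      exact (mul_ne_zero ht ht') hs
    have hx : s / t ≠ 0 := div_ne_zero hs0 ht
    let k : Matrix.SpecialLinearGroup (Fin 2) F := mk2 (s / t) 0 0 (s / t)⁻¹ (by rw [mul_inv_cancel₀ hx]; ring)
    apply isConj_of_semiconj (u t) (u t') k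
    apply sl2_ext
    · rw [sl2_mul_apply, sl2_mul_apply]
      simp only [k, u, mk2_00, mk2_01, mk2_10, mk2_11]
      ring
    · rw [sl2_mul_apply, sl2_mul_apply]
      simp only [k, u, mk2_00, mk2_01, mk2_10, mk2_11]
      field_simp
      linear_combination -hs
    · rw [sl2_mul_apply, sl2_mul_apply]
      simp only [k, u, mk2_00, mk2_01, mk2_10, mk2_11]
      ring
    · rw [sl2_mul_apply, sl2_mul_apply]
      simp only [k, u, mk2_00, mk2_01, mk2_10, mk2_11]
      ring


theorem card_carrier_eq_index {G : Type*} [Group G] (g : G) :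
    Nat.card (ConjClasses.mk g).carrier = (Subgroup.centralizer ({g} : Set G)).index := by
  have h1 := Subgroup.index_comap_of_surjective (MulAction.stabilizer (ConjAct G) g)
    (f := (ConjAct.toConjAct (G := G)).toMonoidHom) (ConjAct.toConjAct (G := G)).surjective
  refine Eq.symm ((congrArg Subgroup.index (Subgroup.centralizer_eq_comap_stabilizer g)).trans
    (h1.trans ?_))
  rw [MulAction.index_stabilizer, ConjAct.orbit_eq_carrier_conjClasses, Nat.card_coe_set_eq]

theorem card_sq_eq_one [Fintype F] (h2 : (2 : F) ≠ 0) :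
    Nat.card {x : F // x * x = 1} = 2 := by
  have hS : {x : F | x * x = 1} = {1, -1} := by
    ext x
    simp [mul_self_eq_one_iff]
  change Nat.card ↥{x : F | x * x = 1} = 2
  rw [hS, Nat.card_coe_set_eq, Set.ncard_pair]
  intro h
  apply h2
  linear_combination h

theorem card_centralizer_u [Fintype F] (h2 : (2 : F) ≠ 0) (t : F) (ht : t ≠ 0) :
    Nat.card (Subgroup.centralizer ({u t} : Set (Matrix.SpecialLinearGroup (Fin 2) F))) =
      2 * Fintype.card F := by
  let f : {x : F // x * x = 1} × F → Subgroup.centralizer ({u t} : Set (Matrix.SpecialLinearGroup (Fin 2) F)) :=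
    fun p => ⟨mk2 p.1.1 p.2 0 p.1.1 (by linear_combination p.1.2), by
      rw [Subgroup.mem_centralizer_singleton_iff]
      apply sl2_ext <;> rw [sl2_mul_apply, sl2_mul_apply] <;>
        simp only [u, mk2_00, mk2_01, mk2_10, mk2_11] <;> ring⟩
  have hbij : Function.Bijective f := by
    constructor
    · rintro ⟨⟨x, hx⟩, y⟩ ⟨⟨x', hx'⟩, y'⟩ h
      have h' := congrArg Subtype.val h
      have e00 := congrArg (fun m : Matrix.SpecialLinearGroup (Fin 2) F => m.1 0 0) h'
      have e01 := congrArg (fun m : Matrix.SpecialLinearGroup (Fin 2) F => m.1 0 1) h'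
      simp only [f, mk2_00, mk2_01] at e00 e01
      subst e00
      subst e01
      rfl
    · rintro ⟨k, hk⟩
      rw [Subgroup.mem_centralizer_singleton_iff] at hk
      have hdet := sl2_det k
      have e00 := congrArg (fun m : Matrix.SpecialLinearGroup (Fin 2) F => m.1 0 0) hk
      have e01 := congrArg (fun m : Matrix.SpecialLinearGroup (Fin 2) F => m.1 0 1) hk
      simp only [sl2_mul_apply, u, mk2_00, mk2_01, mk2_10, mk2_11] at e00 e01
      have hz : k.1 1 0 = 0 := by
        have : t * k.1 1 0 = 0 := by linear_combination -e00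
        exact (mul_eq_zero.mp this).resolve_left ht
      have hw : k.1 1 1 = k.1 0 0 := by
        have : t * (k.1 1 1 - k.1 0 0) = 0 := by linear_combination -e01
        have := (mul_eq_zero.mp this).resolve_left ht
        linear_combination this
      rw [hz, hw] at hdet
      refine ⟨(⟨k.1 0 0, by linear_combination hdet⟩, k.1 0 1), ?_⟩
      apply Subtype.ext
      apply sl2_ext
      · simp [f]
      · simp [f]
      · simp [f, hz]
      · simp [f, hw]
  rw [← Nat.card_eq_of_bijective f hbij, Nat.card_prod, card_sq_eq_one h2, Nat.card_eq_fintype_card]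

theorem card_class_u [Fintype F] (h2 : (2 : F) ≠ 0) (t : F) (ht : t ≠ 0) :
    Nat.card (ConjClasses.mk (u t)).carrier = (Fintype.card F ^ 2 - 1) / 2 := by
  rw [card_carrier_eq_index]
  have h1 := Subgroup.index_mul_card (Subgroup.centralizer ({u t} : Set (Matrix.SpecialLinearGroup (Fin 2) F)))
  rw [card_centralizer_u h2 t ht, card_SL2] at h1
  have hq : 0 < Fintype.card F := Fintype.card_pos
  have h3 : (Subgroup.centralizer ({u t} : Set (Matrix.SpecialLinearGroup (Fin 2) F))).index * 2 =
      Fintype.card F ^ 2 - 1 := by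
    apply Nat.eq_of_mul_eq_mul_left hq
    rw [← h1]; ring
  rw [← h3, Nat.mul_div_cancel _ (by norm_num)]

theorem isSquare_mul_of_not [Fintype F] (a b : F) (ha : ¬ IsSquare a) (hb : ¬ IsSquare b) :
    IsSquare (a * b) := by
  classical
  have ha0 : a ≠ 0 := by
    rintro rfl
    exact ha (IsSquare.zero)
  have hb0 : b ≠ 0 := by
    rintro rfl
    exact hb (IsSquare.zero)
  rw [← quadraticChar_one_iff_isSquare (mul_ne_zero ha0 hb0), map_mul,
    quadraticChar_neg_one_iff_not_isSquare.mpr ha, quadraticChar_neg_one_iff_not_isSquare.mpr hb]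
  norm_num

theorem result {F : Type*} [Field F] [Fintype F] (p : ℕ) [Fact p.Prime] [CharP F p] (hp : p ≠ 2) :
    Nat.card {C : ConjClasses (Matrix.SpecialLinearGroup (Fin 2) F) // ∃ g : Matrix.SpecialLinearGroup (Fin 2) F, orderOf g = p ∧ ConjClasses.mk g = C} = 2 ∧
    (∀ g : Matrix.SpecialLinearGroup (Fin 2) F, orderOf g = p → Nat.card (ConjClasses.mk g).carrier = (Fintype.card F ^ 2 - 1) / 2) ∧
    ∀ g h : Matrix.SpecialLinearGroup (Fin 2) F, (g : Matrix (Fin 2) (Fin 2) F) 0 0 = 1 → (g : Matrix (Fin 2) (Fin 2) F) 1 1 = 1 → (g : Matrix (Fin 2) (Fin 2) F) 1 0 = 0 → (g : Matrix (Fin 2) (Fin 2) F) 0 1 ≠ 0 →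
      (h : Matrix (Fin 2) (Fin 2) F) 0 0 = 1 → (h : Matrix (Fin 2) (Fin 2) F) 1 1 = 1 → (h : Matrix (Fin 2) (Fin 2) F) 1 0 = 0 → (h : Matrix (Fin 2) (Fin 2) F) 0 1 ≠ 0 →
      (IsConj g h ↔ IsSquare ((g : Matrix (Fin 2) (Fin 2) F) 0 1 * (h : Matrix (Fin 2) (Fin 2) F) 0 1)) := by
  have hchar : ringChar F ≠ 2 := by rw [ringChar.eq F p]; exact hp
  have h2 : (2 : F) ≠ 0 := Ring.two_ne_zero hchar
  have hu_order : ∀ t : F, t ≠ 0 → orderOf (u t) = p := by
    intro t ht
    rw [order_p_iff]
    refine ⟨u_ne_one t ht, ?_⟩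
    simp only [u, mk2_00, mk2_11]; norm_num
  refine ⟨?_, ?_, ?_⟩
  · obtain ⟨ν, hν⟩ := FiniteField.exists_nonsquare hchar
    have hν0 : ν ≠ 0 := by
      rintro rfl
      exact hν IsSquare.zero
    have hS : {C : ConjClasses (Matrix.SpecialLinearGroup (Fin 2) F) | ∃ g : Matrix.SpecialLinearGroup (Fin 2) F, orderOf g = p ∧ ConjClasses.mk g = C} =
        {ConjClasses.mk (u (1 : F)), ConjClasses.mk (u ν)} := by
      ext C
      simp only [Set.mem_ofPred_eq, Set.mem_insert_iff, Set.mem_singleton_iff]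
      constructor
      · rintro ⟨g, hg, rfl⟩
        obtain ⟨hg1, htr⟩ := (order_p_iff p g).mp hg
        obtain ⟨t, ht, hconj⟩ := isConj_u g hg1 htr
        by_cases hsq : IsSquare t
        · left
          rw [ConjClasses.mk_eq_mk_iff_isConj]
          refine hconj.symm.trans ?_
          rw [isConj_u_iff t 1 ht one_ne_zero, mul_one]
          exact hsq
        · right
          rw [ConjClasses.mk_eq_mk_iff_isConj]
          refine hconj.symm.trans ?_
          rw [isConj_u_iff t ν ht hν0]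
          exact isSquare_mul_of_not t ν hsq hν
      · rintro (rfl | rfl)
        · exact ⟨u 1, hu_order 1 one_ne_zero, rfl⟩
        · exact ⟨u ν, hu_order ν hν0, rfl⟩
    change Nat.card ↥{C : ConjClasses (Matrix.SpecialLinearGroup (Fin 2) F) | ∃ g : Matrix.SpecialLinearGroup (Fin 2) F, orderOf g = p ∧ ConjClasses.mk g = C} = 2
    rw [hS, Nat.card_coe_set_eq, Set.ncard_pair]
    intro h
    rw [ConjClasses.mk_eq_mk_iff_isConj, isConj_u_iff 1 ν one_ne_zero hν0, one_mul] at h
    exact hν h
  · intro g hg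
    obtain ⟨hg1, htr⟩ := (order_p_iff p g).mp hg
    obtain ⟨t, ht, hconj⟩ := isConj_u g hg1 htr
    have : ConjClasses.mk g = ConjClasses.mk (u t) :=
      (ConjClasses.mk_eq_mk_iff_isConj.mpr hconj).symm
    rw [this]
    exact card_class_u h2 t ht
  · intro g h g00 g11 g10 g01 h00 h11 h10 h01
    have hg : g = u (g.1 0 1) := by
      apply sl2_ext <;> simp [u, g00, g11, g10]
    have hh : h = u (h.1 0 1) := by
      apply sl2_ext <;> simp [u, h00, h11, h10]
    rw [hg, hh]
    simp only [u, mk2_01]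
    exact isConj_u_iff _ _ g01 h01

end Cfsg.Agent.S2301
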