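import Cfsg.Statements.S2302
import Cfsg.Agent.Lib.Helper38.SL2

set_option autoImplicit false
open Cfsg

namespace Cfsg.Agent.S2302

open Matrix Cfsg.Agent.Lib.Helper38

variable {F : Type*} [Field F] [Fintype F] [CharP F 2]

set_option linter.unusedSectionVars false
set_option linter.unusedSimpArgs false

theorem c2 : (2 : F) = 0 := CharTwo.two_eq_zero

theorem sq_inj (a b : F) (h : a * a = b * b) : a = b := by
  have h1 : (a + b) * (a + b) = 0 := by
    rw [CharTwo.add_mul_self, h, CharTwo.add_self_eq_zero]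
  have h2 := mul_self_eq_zero.mp h1
  rw [add_eq_zero_iff_eq_neg, CharTwo.neg_eq] at h2
  exact h2

theorem exists_sqrt (a : F) : ∃ s : F, s * s = a := by
  obtain ⟨s, hs⟩ := FiniteField.isSquare_of_char_two (ringChar.eq F 2) a
  exact ⟨s, hs.symm⟩

theorem sq_eq_one_iff (g : Matrix.SpecialLinearGroup (Fin 2) F) :
    g * g = 1 ↔ g.1 1 1 = g.1 0 0 := by
  have hdet := sl2_det g
  have h2 : (2 : F) = 0 := c2
  constructor
  · intro h
    have h00 : (g * g).1 0 0 = 1 := by rw [h]; exact sl2_one_00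
    have h11 : (g * g).1 1 1 = 1 := by rw [h]; exact sl2_one_11
    rw [sl2_mul_apply] at h00 h11
    have h3 : (g.1 0 0 + g.1 1 1) * (g.1 0 0 + g.1 1 1) = 0 := by
      rw [CharTwo.add_mul_self]
      linear_combination h00 + h11 + (1 - g.1 0 1 * g.1 1 0) * h2
    have h4 := mul_self_eq_zero.mp h3
    rw [add_eq_zero_iff_eq_neg, CharTwo.neg_eq] at h4
    exact h4.symm
  · intro h
    rw [h] at hdet
    apply sl2_ext
    · rw [sl2_mul_apply, sl2_one_00]
      linear_combination hdet + g.1 0 1 * g.1 1 0 * h2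
    · rw [sl2_mul_apply, sl2_one_01, h]
      linear_combination g.1 0 0 * g.1 0 1 * h2
    · rw [sl2_mul_apply, sl2_one_10, h]
      linear_combination g.1 0 0 * g.1 1 0 * h2
    · rw [sl2_mul_apply, sl2_one_11, h]
      linear_combination hdet + g.1 0 1 * g.1 1 0 * h2

/-- the standard involution -/
def u0 : Matrix.SpecialLinearGroup (Fin 2) F := mk2 1 1 0 1 (by ring)

theorem isConj_u0 (g : Matrix.SpecialLinearGroup (Fin 2) F) (hg : g * g = 1) (hg1 : g ≠ 1) :
    IsConj u0 g := by
  have hd := (sq_eq_one_iff g).mp hg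
  have hdet := sl2_det g
  rw [hd] at hdet
  have h2 : (2 : F) = 0 := c2
  by_cases hb : g.1 0 1 = 0
  · by_cases hc : g.1 1 0 = 0
    · exfalso
      apply hg1
      rw [hb] at hdet
      have ha : g.1 0 0 = 1 := sq_inj _ _ (by linear_combination hdet)
      apply sl2_ext
      · rw [ha, sl2_one_00]
      · rw [hb, sl2_one_01]
      · rw [hc, sl2_one_10]
      · rw [hd, ha, sl2_one_11]
    · obtain ⟨y, hy⟩ := exists_sqrt (g.1 1 0)⁻¹
      have hcy : g.1 1 0 * (y * y) = 1 := by rw [hy]; exact mul_inv_cancel₀ hc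
      rw [hb] at hdet
      let k : Matrix.SpecialLinearGroup (Fin 2) F :=
        mk2 ((g.1 0 0 + 1) * y) y (g.1 1 0 * y) 0 (by linear_combination (-1 : F) * hcy - h2)
      apply isConj_of_semiconj u0 g k
      apply sl2_ext
      · rw [sl2_mul_apply, sl2_mul_apply]
        simp only [k, u0, mk2_00, mk2_01, mk2_10, mk2_11, hb]
        linear_combination (-y) * hdet
      · rw [sl2_mul_apply, sl2_mul_apply]
        simp only [k, u0, mk2_00, mk2_01, mk2_10, mk2_11, hb]
        linear_combination y * h2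
      · rw [sl2_mul_apply, sl2_mul_apply]
        simp only [k, u0, mk2_00, mk2_01, mk2_10, mk2_11, hd]
        linear_combination (- g.1 0 0 * g.1 1 0 * y) * h2
      · rw [sl2_mul_apply, sl2_mul_apply]
        simp only [k, u0, mk2_00, mk2_01, mk2_10, mk2_11, hd]
        ring
  · obtain ⟨w, hw⟩ := exists_sqrt (g.1 0 1)⁻¹
    have hbw : g.1 0 1 * (w * w) = 1 := by rw [hw]; exact mul_inv_cancel₀ hb
    let k : Matrix.SpecialLinearGroup (Fin 2) F :=
      mk2 (g.1 0 1 * w) 0 ((g.1 0 0 + 1) * w) w (by linear_combination hbw)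
    apply isConj_of_semiconj u0 g k
    apply sl2_ext
    · rw [sl2_mul_apply, sl2_mul_apply]
      simp only [k, u0, mk2_00, mk2_01, mk2_10, mk2_11]
      linear_combination (- g.1 0 0 * g.1 0 1 * w) * h2
    · rw [sl2_mul_apply, sl2_mul_apply]
      simp only [k, u0, mk2_00, mk2_01, mk2_10, mk2_11]
      ring
    · rw [sl2_mul_apply, sl2_mul_apply]
      simp only [k, u0, mk2_00, mk2_01, mk2_10, mk2_11, hd]
      linear_combination (-w) * hdet - (g.1 0 1 * g.1 1 0 * w) * h2
    · rw [sl2_mul_apply, sl2_mul_apply]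
      simp only [k, u0, mk2_00, mk2_01, mk2_10, mk2_11, hd]
      linear_combination w * h2

theorem order_two_iff (g : Matrix.SpecialLinearGroup (Fin 2) F) :
    orderOf g = 2 ↔ g * g = 1 ∧ g ≠ 1 := by
  have : Fact (Nat.Prime 2) := ⟨Nat.prime_two⟩
  rw [orderOf_eq_prime_iff, pow_two]

/-- The involutions together with the identity are in bijection with `F × F`. -/
theorem card_sq_eq_one :
    Nat.card {x : Matrix.SpecialLinearGroup (Fin 2) F // x * x = 1} = Fintype.card F ^ 2 := by
  have hbij : Function.Bijective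
      (fun x : {x : Matrix.SpecialLinearGroup (Fin 2) F // x * x = 1} => (x.1.1 0 1, x.1.1 1 0)) := by
    constructor
    · rintro ⟨x, hx⟩ ⟨y, hy⟩ h
      simp only [Prod.mk.injEq] at h
      obtain ⟨h01, h10⟩ := h
      have hdx := (sq_eq_one_iff x).mp hx
      have hdy := (sq_eq_one_iff y).mp hy
      have hx' := sl2_det x
      have hy' := sl2_det y
      rw [hdx] at hx'
      rw [hdy] at hy'
      have h00 : x.1 0 0 = y.1 0 0 := sq_inj _ _ (by
        rw [h01, h10] at hx'
        linear_combination hx' - hy')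
      apply Subtype.ext
      apply sl2_ext
      · exact h00
      · exact h01
      · exact h10
      · rw [hdx, hdy, h00]
    · rintro ⟨b, c⟩
      obtain ⟨a, ha⟩ := exists_sqrt (1 + b * c)
      let x : Matrix.SpecialLinearGroup (Fin 2) F := mk2 a b c a (by linear_combination ha)
      have hx : x * x = 1 := (sq_eq_one_iff x).mpr rfl
      exact ⟨⟨x, hx⟩, rfl⟩
  rw [Nat.card_eq_of_bijective _ hbij, Nat.card_prod, Nat.card_eq_fintype_card, pow_two]

theorem card_involutions :
    Nat.card {x : Matrix.SpecialLinearGroup (Fin 2) F // x * x = 1 ∧ x ≠ 1} = Fintype.card F ^ 2 - 1 := by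
  have h1 := card_sq_eq_one (F := F)
  have hS : {x : Matrix.SpecialLinearGroup (Fin 2) F | x * x = 1 ∧ x ≠ 1} =
      {x : Matrix.SpecialLinearGroup (Fin 2) F | x * x = 1} \ {1} := by
    ext x
    simp
  change Nat.card ↥{x : Matrix.SpecialLinearGroup (Fin 2) F | x * x = 1 ∧ x ≠ 1} = _
  rw [hS, Nat.card_coe_set_eq, Set.ncard_sdiff_singleton_of_mem (by simp), ← Nat.card_coe_set_eq]
  change Nat.card {x : Matrix.SpecialLinearGroup (Fin 2) F // x * x = 1} - 1 = _
  rw [h1]

theorem result {F : Type*} [Field F] [Fintype F] [CharP F 2] (g h : Matrix.SpecialLinearGroup (Fin 2) F) (hg : orderOf g = 2) (hh : orderOf h = 2) :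
    IsConj g h ∧ Nat.card (ConjClasses.mk g).carrier = Fintype.card F ^ 2 - 1 := by
  obtain ⟨hg2, hg1⟩ := (order_two_iff g).mp hg
  obtain ⟨hh2, hh1⟩ := (order_two_iff h).mp hh
  have h1 : IsConj u0 g := isConj_u0 g hg2 hg1
  have h2 : IsConj u0 h := isConj_u0 h hh2 hh1
  refine ⟨h1.symm.trans h2, ?_⟩
  have hset : (ConjClasses.mk g).carrier = {x : Matrix.SpecialLinearGroup (Fin 2) F | x * x = 1 ∧ x ≠ 1} := by
    ext x
    rw [ConjClasses.mem_carrier_iff_mk_eq, ConjClasses.mk_eq_mk_iff_isConj]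
    constructor
    · intro hx
      obtain ⟨c, hc⟩ := isConj_iff.mp hx
      have hxg : x = c⁻¹ * g * c := by rw [← hc]; group
      constructor
      · have h3 : x * x = c⁻¹ * (g * g) * c := by rw [hxg]; group
        rw [h3, hg2]; group
      · rintro rfl
        apply hg1
        rw [← hc]; group
    · rintro ⟨hx2, hx1⟩
      exact (isConj_u0 x hx2 hx1).symm.trans h1
  rw [hset]
  exact card_involutions

end Cfsg.Agent.S2302
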