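import Cfsg.Statements.S2303
import Cfsg.Agent.Lib.Helper38.GL2

set_option autoImplicit false
open Cfsg

namespace Cfsg.Agent.S2303

open Matrix Cfsg.Agent.Lib.Helper38

variable {F : Type*} [Field F] [Fintype F]

set_option linter.unusedSectionVars false
set_option linter.unusedSimpArgs false

theorem card_centralizer_diag (g : GL (Fin 2) F)
    (h01 : (g : Matrix (Fin 2) (Fin 2) F) 0 1 = 0) (h10 : (g : Matrix (Fin 2) (Fin 2) F) 1 0 = 0)
    (hne : (g : Matrix (Fin 2) (Fin 2) F) 0 0 ≠ (g : Matrix (Fin 2) (Fin 2) F) 1 1) :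
    Nat.card (Subgroup.centralizer ({g} : Set (GL (Fin 2) F))) = (Fintype.card F - 1) ^ 2 := by
  let f : Fˣ × Fˣ → Subgroup.centralizer ({g} : Set (GL (Fin 2) F)) := fun p =>
    ⟨gl2 (p.1 : F) 0 0 (p.2 : F) (by simp), by
      rw [Subgroup.mem_centralizer_singleton_iff, gl2_comm_iff]
      simp [h01, h10]⟩
  have hbij : Function.Bijective f := by
    constructor
    · rintro ⟨x, y⟩ ⟨x', y'⟩ h
      have h' : gl2 (x : F) 0 0 (y : F) (by simp) = gl2 (x' : F) 0 0 (y' : F) (by simp) :=
        congrArg Subtype.val h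
      have e00 := congrArg (fun m : GL (Fin 2) F => (m : Matrix (Fin 2) (Fin 2) F) 0 0) h'
      have e11 := congrArg (fun m : GL (Fin 2) F => (m : Matrix (Fin 2) (Fin 2) F) 1 1) h'
      simp only [gl2_00, gl2_11] at e00 e11
      rw [Units.ext e00, Units.ext e11]
    · rintro ⟨k, hk⟩
      rw [Subgroup.mem_centralizer_singleton_iff, gl2_comm_iff] at hk
      obtain ⟨-, h2, h3⟩ := hk
      rw [h01] at h2
      rw [h10] at h3
      have hk01 : (k : Matrix (Fin 2) (Fin 2) F) 0 1 = 0 := by
        have : (k : Matrix (Fin 2) (Fin 2) F) 0 1 * ((g : Matrix (Fin 2) (Fin 2) F) 1 1 - (g : Matrix (Fin 2) (Fin 2) F) 0 0) = 0 := by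
          linear_combination h2
        rcases mul_eq_zero.mp this with h | h
        · exact h
        · exact absurd (sub_eq_zero.mp h).symm hne
      have hk10 : (k : Matrix (Fin 2) (Fin 2) F) 1 0 = 0 := by
        have : (k : Matrix (Fin 2) (Fin 2) F) 1 0 * ((g : Matrix (Fin 2) (Fin 2) F) 0 0 - (g : Matrix (Fin 2) (Fin 2) F) 1 1) = 0 := by
          linear_combination h3
        rcases mul_eq_zero.mp this with h | h
        · exact h
        · exact absurd (sub_eq_zero.mp h) hne
      have hdet := gl2_det_ne_zero k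
      rw [hk01, zero_mul, sub_zero] at hdet
      have hx : (k : Matrix (Fin 2) (Fin 2) F) 0 0 ≠ 0 := left_ne_zero_of_mul hdet
      have hy : (k : Matrix (Fin 2) (Fin 2) F) 1 1 ≠ 0 := right_ne_zero_of_mul hdet
      refine ⟨(Units.mk0 _ hx, Units.mk0 _ hy), ?_⟩
      apply Subtype.ext
      apply gl2_ext
      · simp [f]
      · simp [f, hk01]
      · simp [f, hk10]
      · simp [f]
  rw [← Nat.card_eq_of_bijective f hbij, Nat.card_prod, Nat.card_units, Nat.card_eq_fintype_card, pow_two]

theorem no_eigen_offdiag (g : GL (Fin 2) F)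
    (hg : ∀ (c : F) (v : Fin 2 → F), v ≠ 0 → (g : Matrix (Fin 2) (Fin 2) F).mulVec v ≠ c • v) :
    (g : Matrix (Fin 2) (Fin 2) F) 0 1 ≠ 0 ∧ (g : Matrix (Fin 2) (Fin 2) F) 1 0 ≠ 0 := by
  constructor
  · intro h
    apply hg ((g : Matrix (Fin 2) (Fin 2) F) 1 1) ![0, 1] (by
      intro h0
      have := congrFun h0 1
      simp at this)
    ext i
    fin_cases i <;> simp [Matrix.mulVec, dotProduct, Fin.sum_univ_two, h]
  · intro h
    apply hg ((g : Matrix (Fin 2) (Fin 2) F) 0 0) ![1, 0] (by
      intro h0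
      have := congrFun h0 0
      simp at this)
    ext i
    fin_cases i <;> simp [Matrix.mulVec, dotProduct, Fin.sum_univ_two, h]

theorem det_lin_ne_zero (g : GL (Fin 2) F)
    (hg : ∀ (c : F) (v : Fin 2 → F), v ≠ 0 → (g : Matrix (Fin 2) (Fin 2) F).mulVec v ≠ c • v)
    (x y : F) (hxy : (x, y) ≠ 0) :
    (x • (1 : Matrix (Fin 2) (Fin 2) F) + y • (g : Matrix (Fin 2) (Fin 2) F)).det ≠ 0 := by
  intro hdet
  obtain ⟨v, hv, hMv⟩ := Matrix.exists_mulVec_eq_zero_iff.mpr hdet
  rw [Matrix.add_mulVec, Matrix.smul_mulVec, Matrix.smul_mulVec, Matrix.one_mulVec] at hMv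
  by_cases hy : y = 0
  · subst hy
    rw [zero_smul, add_zero] at hMv
    have hx : x ≠ 0 := by
      rintro rfl
      exact hxy rfl
    rcases smul_eq_zero.mp hMv with h | h
    · exact hx h
    · exact hv h
  · apply hg (-x / y) v hv
    have h1 : y • (g : Matrix (Fin 2) (Fin 2) F).mulVec v = -(x • v) := by
      rw [eq_neg_iff_add_eq_zero, add_comm]; exact hMv
    have h2 : (g : Matrix (Fin 2) (Fin 2) F).mulVec v = y⁻¹ • (y • (g : Matrix (Fin 2) (Fin 2) F).mulVec v) := by
      rw [smul_smul, inv_mul_cancel₀ hy, one_smul]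
    rw [h2, h1, smul_neg, smul_smul, ← neg_smul]
    congr 1
    field_simp

theorem card_centralizer_no_eigen (g : GL (Fin 2) F)
    (hg : ∀ (c : F) (v : Fin 2 → F), v ≠ 0 → (g : Matrix (Fin 2) (Fin 2) F).mulVec v ≠ c • v) :
    Nat.card (Subgroup.centralizer ({g} : Set (GL (Fin 2) F))) = Fintype.card F ^ 2 - 1 := by
  obtain ⟨hb, hc⟩ := no_eigen_offdiag g hg
  let f : {p : F × F // p ≠ 0} → Subgroup.centralizer ({g} : Set (GL (Fin 2) F)) := fun p =>
    ⟨Matrix.GeneralLinearGroup.mkOfDetNeZero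
      (p.1.1 • (1 : Matrix (Fin 2) (Fin 2) F) + p.1.2 • (g : Matrix (Fin 2) (Fin 2) F))
      (det_lin_ne_zero g hg p.1.1 p.1.2 p.2), by
      rw [Subgroup.mem_centralizer_singleton_iff]
      apply Units.ext
      simp [add_mul, mul_add]⟩
  have hf_apply : ∀ (p : {p : F × F // p ≠ 0}) (i j : Fin 2),
      ((f p : GL (Fin 2) F) : Matrix (Fin 2) (Fin 2) F) i j =
        p.1.1 * (1 : Matrix (Fin 2) (Fin 2) F) i j + p.1.2 * (g : Matrix (Fin 2) (Fin 2) F) i j := by
    intro p i j
    simp [f]
  have hbij : Function.Bijective f := by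
    constructor
    · rintro ⟨⟨x, y⟩, hp⟩ ⟨⟨x', y'⟩, hp'⟩ h
      have h' : (f ⟨(x, y), hp⟩ : GL (Fin 2) F) = f ⟨(x', y'), hp'⟩ := congrArg Subtype.val h
      have e00 := congrArg (fun m : GL (Fin 2) F => (m : Matrix (Fin 2) (Fin 2) F) 0 0) h'
      have e01 := congrArg (fun m : GL (Fin 2) F => (m : Matrix (Fin 2) (Fin 2) F) 0 1) h'
      simp only [hf_apply] at e00 e01
      simp at e00 e01
      have hy : y = y' := by
        rcases e01 with h | h
        · exact h
        · exact absurd h hb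
      subst hy
      have hx : x = x' := by linear_combination e00
      subst hx
      rfl
    · rintro ⟨k, hk⟩
      rw [Subgroup.mem_centralizer_singleton_iff, gl2_comm_iff] at hk
      obtain ⟨h1, h2, h3⟩ := hk
      have hdet := gl2_det_ne_zero k
      obtain ⟨a, b, c, d, hg_eq⟩ : ∃ a b c d : F, (g : Matrix (Fin 2) (Fin 2) F) = !![a, b; c, d] :=
        ⟨_, _, _, _, Matrix.eta_fin_two _⟩
      obtain ⟨k00, k01, k10, k11, hk_eq⟩ : ∃ a b c d : F, (k : Matrix (Fin 2) (Fin 2) F) = !![a, b; c, d] :=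
        ⟨_, _, _, _, Matrix.eta_fin_two _⟩
      simp only [hg_eq, hk_eq, Matrix.of_apply, Matrix.cons_val', Matrix.cons_val_zero,
        Matrix.cons_val_one, Matrix.cons_val_fin_one] at h1 h2 h3 hb hc hdet
      have hp : ((k00 - k01 / b * a, k01 / b) : F × F) ≠ 0 := by
        intro h0
        have e1 : k00 - k01 / b * a = 0 := congrArg Prod.fst h0
        have e2 : k01 / b = 0 := congrArg Prod.snd h0
        have hk01z : k01 = 0 := by
          rcases div_eq_zero_iff.mp e2 with h | h
          · exact h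
          · exact absurd h hb
        have hk00z : k00 = 0 := by rw [e2] at e1; linear_combination e1
        apply hdet
        rw [hk00z, hk01z]; ring
      refine ⟨⟨(k00 - k01 / b * a, k01 / b), hp⟩, ?_⟩
      apply Subtype.ext
      apply gl2_ext
      · rw [hf_apply]
        simp only [hg_eq, hk_eq, Matrix.of_apply, Matrix.cons_val', Matrix.cons_val_zero,
          Matrix.cons_val_one, Matrix.cons_val_fin_one, Matrix.one_apply_eq]
        ring
      · rw [hf_apply]
        simp only [hg_eq, hk_eq, Matrix.of_apply, Matrix.cons_val', Matrix.cons_val_zero,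
          Matrix.cons_val_one, Matrix.cons_val_fin_one]
        rw [Matrix.one_apply_ne (by decide)]
        field_simp
        ring
      · rw [hf_apply]
        simp only [hg_eq, hk_eq, Matrix.of_apply, Matrix.cons_val', Matrix.cons_val_zero,
          Matrix.cons_val_one, Matrix.cons_val_fin_one]
        rw [Matrix.one_apply_ne (by decide)]
        field_simp
        linear_combination h1
      · rw [hf_apply]
        simp only [hg_eq, hk_eq, Matrix.of_apply, Matrix.cons_val', Matrix.cons_val_zero,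
          Matrix.cons_val_one, Matrix.cons_val_fin_one, Matrix.one_apply_eq]
        field_simp
        linear_combination h2
  rw [← Nat.card_eq_of_bijective f hbij]
  have : Nat.card {p : F × F // p ≠ 0} = Nat.card (F × F) - 1 := by
    have hS : {p : F × F | p ≠ 0} = (Set.univ : Set (F × F)) \ {0} := by ext p; simp
    change Nat.card ↥{p : F × F | p ≠ 0} = _
    rw [hS, Nat.card_coe_set_eq, Set.ncard_sdiff_singleton_of_mem (Set.mem_univ _), Set.ncard_univ]
  rw [this, Nat.card_prod, Nat.card_eq_fintype_card, pow_two]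

theorem result {F : Type*} [Field F] [Fintype F] (g : Matrix.GeneralLinearGroup (Fin 2) F) :
    ((g : Matrix (Fin 2) (Fin 2) F) 0 1 = 0 → (g : Matrix (Fin 2) (Fin 2) F) 1 0 = 0 → (g : Matrix (Fin 2) (Fin 2) F) 0 0 ≠ (g : Matrix (Fin 2) (Fin 2) F) 1 1 →
      Nat.card (Subgroup.centralizer ({g} : Set (Matrix.GeneralLinearGroup (Fin 2) F))) = (Fintype.card F - 1) ^ 2) ∧
    ((∀ (c : F) (v : Fin 2 → F), v ≠ 0 → (g : Matrix (Fin 2) (Fin 2) F).mulVec v ≠ c • v) →
      Nat.card (Subgroup.centralizer ({g} : Set (Matrix.GeneralLinearGroup (Fin 2) F))) = Fintype.card F ^ 2 - 1) :=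
  ⟨card_centralizer_diag g, card_centralizer_no_eigen g⟩

end Cfsg.Agent.S2303
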