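import Cfsg.Statements.S2308
import Cfsg.Agent.Lib.Helper38.GL2Lines

set_option autoImplicit false
open Cfsg

namespace Cfsg.Agent.S2308

open Matrix Cfsg.Agent.Lib.Helper38

variable {F : Type*} [Field F] [Fintype F]

set_option linter.unusedSectionVars false

theorem fpc_eq (g : GL (Fin 2) F) :
    Cfsg.fixedPointCharacter (Cfsg.upperTriangularGL 2 F) g =
      (Nat.card {ℓ : Option F // lineFixed g ℓ} : ℂ) := by
  unfold Cfsg.fixedPointCharacter
  rw [card_fixedBy_eq]

theorem card_of_all (P : Option F → Prop) (h : ∀ ℓ, P ℓ) :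
    Nat.card {ℓ : Option F // P ℓ} = Fintype.card F + 1 := by
  have : Nat.card {ℓ : Option F // P ℓ} = Nat.card (Option F) :=
    Nat.card_congr (Equiv.subtypeUnivEquiv h)
  rw [this, Nat.card_eq_fintype_card, Fintype.card_option]

theorem card_of_none (P : Option F → Prop) (h : ∀ ℓ, ¬ P ℓ) :
    Nat.card {ℓ : Option F // P ℓ} = 0 := by
  have : IsEmpty {ℓ : Option F // P ℓ} := ⟨fun x => h x.1 x.2⟩
  exact Nat.card_of_isEmpty

theorem card_of_two (P : Option F → Prop) (h : ∀ ℓ, P ℓ ↔ (ℓ = some 0 ∨ ℓ = none)) :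
    Nat.card {ℓ : Option F // P ℓ} = 2 := by
  have hS : {ℓ : Option F | P ℓ} = {some 0, none} := by
    ext ℓ
    simp [h]
  change Nat.card ↥{ℓ : Option F | P ℓ} = 2
  rw [hS, Nat.card_coe_set_eq, Set.ncard_pair (by simp)]

theorem card_of_one (P : Option F → Prop) (h : ∀ ℓ, P ℓ ↔ ℓ = some 0) :
    Nat.card {ℓ : Option F // P ℓ} = 1 := by
  have hS : {ℓ : Option F | P ℓ} = {some 0} := by
    ext ℓ
    simp [h]
  change Nat.card ↥{ℓ : Option F | P ℓ} = 1
  rw [hS, Nat.card_coe_set_eq, Set.ncard_singleton]

theorem result {F : Type*} [Field F] [Fintype F] (g : Matrix.GeneralLinearGroup (Fin 2) F) :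
    ((∃ a : F, (g : Matrix (Fin 2) (Fin 2) F) = a • (1 : Matrix (Fin 2) (Fin 2) F)) → Cfsg.fixedPointCharacter (Cfsg.upperTriangularGL 2 F) g = Fintype.card F + 1) ∧
    ((g : Matrix (Fin 2) (Fin 2) F) 0 1 = 0 → (g : Matrix (Fin 2) (Fin 2) F) 1 0 = 0 → (g : Matrix (Fin 2) (Fin 2) F) 0 0 ≠ (g : Matrix (Fin 2) (Fin 2) F) 1 1 →
      Cfsg.fixedPointCharacter (Cfsg.upperTriangularGL 2 F) g = 2) ∧
    ((∀ (c : F) (v : Fin 2 → F), v ≠ 0 → (g : Matrix (Fin 2) (Fin 2) F).mulVec v ≠ c • v) → Cfsg.fixedPointCharacter (Cfsg.upperTriangularGL 2 F) g = 0) ∧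
    ((g : Matrix (Fin 2) (Fin 2) F) 1 0 = 0 → (g : Matrix (Fin 2) (Fin 2) F) 0 0 = (g : Matrix (Fin 2) (Fin 2) F) 1 1 → (g : Matrix (Fin 2) (Fin 2) F) 0 1 ≠ 0 →
      Cfsg.fixedPointCharacter (Cfsg.upperTriangularGL 2 F) g = 1) := by
  refine ⟨?_, ?_, ?_, ?_⟩
  · rintro ⟨a, ha⟩
    rw [fpc_eq, card_of_all]
    · push_cast; rfl
    · intro ℓ
      cases ℓ with
      | none => simp [lineFixed, ha]
      | some t => simp [lineFixed, ha, mul_comm]
  · intro h01 h10 hne
    rw [fpc_eq, card_of_two]
    · norm_num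
    · intro ℓ
      cases ℓ with
      | none => simp [lineFixed, h01]
      | some t =>
        simp only [lineFixed, h01, h10, zero_mul, add_zero, zero_add, Option.some.injEq,
          reduceCtorEq, or_false]
        constructor
        · intro h
          have : ((g : Matrix (Fin 2) (Fin 2) F) 1 1 - (g : Matrix (Fin 2) (Fin 2) F) 0 0) * t = 0 := by
            linear_combination h
          rcases mul_eq_zero.mp this with h1 | h1
          · exact absurd (sub_eq_zero.mp h1).symm hne
          · exact h1
        · rintro rfl; ring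
  · intro hg
    rw [fpc_eq, card_of_none]
    · norm_num
    · intro ℓ
      cases ℓ with
      | none =>
        intro h
        simp only [lineFixed] at h
        apply hg ((g : Matrix (Fin 2) (Fin 2) F) 1 1) ![0, 1] (by
          intro h0
          have := congrFun h0 1
          simp at this)
        ext i
        fin_cases i <;> simp [Matrix.mulVec, dotProduct, Fin.sum_univ_two, h]
      | some t =>
        intro h
        simp only [lineFixed] at h
        apply hg ((g : Matrix (Fin 2) (Fin 2) F) 0 0 + (g : Matrix (Fin 2) (Fin 2) F) 0 1 * t) ![1, t] (by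
          intro h0
          have := congrFun h0 0
          simp at this)
        ext i
        fin_cases i
        · simp [Matrix.mulVec, dotProduct, Fin.sum_univ_two]
        · simp [Matrix.mulVec, dotProduct, Fin.sum_univ_two]
          linear_combination h
  · intro h10 hd h01
    rw [fpc_eq, card_of_one]
    · norm_num
    · intro ℓ
      cases ℓ with
      | none => simp [lineFixed, h01]
      | some t =>
        simp only [lineFixed, h10, hd, zero_add, Option.some.injEq]
        constructor
        · intro h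
          have : (g : Matrix (Fin 2) (Fin 2) F) 0 1 * (t * t) = 0 := by linear_combination -h
          rcases mul_eq_zero.mp this with h1 | h1
          · exact absurd h1 h01
          · exact mul_self_eq_zero.mp h1
        · rintro rfl; ring

end Cfsg.Agent.S2308
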