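import Cfsg.Statements.S2313
import Cfsg.Agent.Lib.Helper18.StbFinal
import Cfsg.Agent.Lib.Helper18.StbGlue2
import Cfsg.Agent.Lib.Helper6.St.Main2

set_option autoImplicit false
open Cfsg

namespace Cfsg.Agent.S2313

open Cfsg.Agent.Lib.Helper6.St in
/-- `stChar_borel` with the subgroups replaced by equal ones -/
theorem stChar_borel_transport {G : Type*} [Group G] [Fintype G] (P : Cfsg.BNPair G) (T : Finset G)
    (hT : (↑T : Set G) = P.S) {n0 : G} (hn0 : n0 ∈ P.N)
    (hmax : ∀ n ∈ P.N, Nat.card (Cfsg.Agent.Lib.Helper6.C P n) ≤ Nat.card (Cfsg.Agent.Lib.Helper6.C P n0))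
    (B' H' : Subgroup G) (hB : P.B = B')
    (hH : P.B ⊓ P.B.map (MulAut.conj n0).toMonoidHom = H') (b : B') :
    stChar P T (b : G) = Cfsg.fixedPointCharacter (H'.subgroupOf B') b := by
  subst hB
  subst hH
  exact stChar_borel P T hT hn0 hmax b

/-- In a Chevalley group of type G₂, B₂, D₄, F₄, E₆, E₇ or E₈ over a finite field, the restriction of the Steinberg character to the subgroup B = UH is the permutation character of B on the cosets of the diagonal subgroup H: at b ∈ B its value is the number of cosets xH, x ∈ B, with bxH = xH. -/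
theorem result {F : Type*} [Field F] [Fintype F] (D : Cfsg.Lie.ChevalleyDatum) (hD : D ∈ [Cfsg.Lie.chevG2, Cfsg.Lie.chevB2, Cfsg.Lie.chevD4, Cfsg.Lie.chevF4, Cfsg.Lie.chevE6, Cfsg.Lie.chevE7, Cfsg.Lie.chevE8]) (b : ↥((D.borelSubgroup F).subgroupOf (D.group F))) :
    D.steinbergCharacter F ((((D.borelSubgroup F).subgroupOf (D.group F)).subtype) b) =
      Cfsg.fixedPointCharacter (((D.diagonalSubgroup F).subgroupOf (D.group F)).subgroupOf ((D.borelSubgroup F).subgroupOf (D.group F))) b := by
  open Cfsg.Agent.Lib.Helper18.Stb in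
  classical
  let _inst := fintypeGroup D F
  rw [steinberg_eq_stChar D hD F]
  exact stChar_borel_transport (bnP D hD F) (stT D hD F) (coe_stT D hD F) (n0G_mem D hD F)
    (fun n hn => card_C_le D hD F n hn) _ _ (bnP_B D hD F) (bnP_B_inf_conj_n0 D hD F) b

end Cfsg.Agent.S2313
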