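import Cfsg.Statements.S2314
import Cfsg.Agent.Lib.Helper6.Uni.Fin
import Cfsg.Agent.Lib.Helper20.UniC4
import Cfsg.Agent.Lib.Helper20.UniC5
import Cfsg.Agent.Lib.Helper72.UniC2
import Cfsg.Agent.Lib.Helper72.UniC3
import Cfsg.Agent.Lib.Helper6.Uni.C1
import Cfsg.Agent.S1027

set_option autoImplicit false
open Cfsg

namespace Cfsg.Agent.S2314

open Cfsg.Lie Cfsg.Agent.Lib.Helper36 Cfsg.Agent.Lib.Helper18.Stb Cfsg.Agent.Lib.Helper6 Cfsg.Agent.Lib.Helper6.Uni in
/-- Steinberg's count of unipotent elements: in a Chevalley group of type G₂, B₂, D₄, F₄, E₆, E₇ or E₈ over a finite field of characteristic p with q elements, the number of elements of p-power order is q^(2N), N the number of positive roots — the square of the order of a Sylow p-subgroup. -/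
theorem result {F : Type*} [Field F] [Fintype F] (p : ℕ) [Fact p.Prime] [CharP F p] (D : Cfsg.Lie.ChevalleyDatum) (hD : D ∈ [Cfsg.Lie.chevG2, Cfsg.Lie.chevB2, Cfsg.Lie.chevD4, Cfsg.Lie.chevF4, Cfsg.Lie.chevE6, Cfsg.Lie.chevE7, Cfsg.Lie.chevE8]) :
    Nat.card {g : ↥(D.group F) // ∃ k : ℕ, orderOf g = p ^ k} = Fintype.card F ^ (2 * (D.nroots / 2)) := by
  classical
  have : Fintype ↥(D.group F) := Fintype.ofFinite _
  obtain ⟨h1, h2, h3, h4, h5⟩ := chev_hU D hD F p
  have h75 : ∀ J' : Finset ℕ, J' ⊆ Finset.range D.rank → ∃ l : List ℕ, (∀ i ∈ l, i ∈ J') ∧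
      Nat.card (D.borelSubgroup F) * Nat.card (D.posUnipotent F) ≤
        Nat.card (D.unipotentRadical F (↑J' : Set ℕ)) * Nat.card (cell D F (nWordGL D hD F l)) := by
    intro J' hJ'
    obtain ⟨l, hl, hu⟩ := exists_wJ D hD J' hJ'
    have hlr : ∀ i ∈ l, i < D.rank := fun i hi => Finset.mem_range.1 (hJ' (hl i hi))
    exact ⟨l, hl, card_cell_ge D hD F (↑J' : Set ℕ) l hlr (fun r hr hrJ =>
      wRoot_wJ_neg D hD (↑J' : Set ℕ) l hlr (fun j hj _ k hk => hu j hj k hk) r hr hrJ)⟩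
  choose! V n1 hV using c5_core D hD F h75
  have key := card_pElts_top (bnP D hD F) (stT D hD F) (coe_stT D hD F) p
    ((D.posUnipotent F).subgroupOf (D.group F)) h1 h2 h3 h4 h5 V n1
    (fun J hJ => ⟨(hV J hJ).1, (hV J hJ).2.1, (hV J hJ).2.2.1, (hV J hJ).2.2.2.1⟩)
    ((hV _ subset_rfl).2.2.2.2 rfl)
  rw [key]
  have hc : Nat.card ((D.posUnipotent F).subgroupOf (D.group F)) = Fintype.card F ^ (D.nroots / 2) := by
    rw [← Cfsg.Agent.S1027.result D hD]
    exact Nat.card_congr (Subgroup.subgroupOfEquivOfLe (posUnipotent_le_group D hD F)).toEquiv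
  rw [hc, ← pow_mul, mul_comm]

end Cfsg.Agent.S2314
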