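import Cfsg.Statements.S2570
import Cfsg.Agent.Lib.Helper43.JordanType

set_option autoImplicit false
open Cfsg

namespace Cfsg.Agent.S2570

open Matrix Module Cfsg.Agent.Lib.Helper43 Cfsg.Agent.Lib.Helper99

section

variable {F : Type*} [Field F] {n : ℕ}

/-- the nilpotent part of a (unipotent) matrix as a linear map -/
noncomputable def nilLin (g : GL (Fin n) F) : Module.End F (Fin n → F) :=
  Matrix.toLin' ((g : Matrix (Fin n) (Fin n) F) - 1)

theorem nilLin_pow (g : GL (Fin n) F) (k : ℕ) :
    nilLin g ^ k = Matrix.toLin' (((g : Matrix (Fin n) (Fin n) F) - 1) ^ k) := by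
  unfold nilLin
  rw [Matrix.toLin'_pow]

theorem isNilpotent_nilLin_iff (g : GL (Fin n) F) :
    IsNilpotent (nilLin g) ↔ IsNilpotent ((g : Matrix (Fin n) (Fin n) F) - 1) := by
  constructor
  · rintro ⟨k, hk⟩
    refine ⟨k, ?_⟩
    apply Matrix.toLin'.injective
    rw [← nilLin_pow, hk, map_zero]
  · rintro ⟨k, hk⟩
    refine ⟨k, ?_⟩
    rw [nilLin_pow, hk, map_zero]

theorem dker_nilLin_of_isConj {g g' : GL (Fin n) F} (h : IsConj g g') (k : ℕ) :
    dker (nilLin g') k = dker (nilLin g) k := by
  rw [isConj_iff] at h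
  obtain ⟨c, hc⟩ := h
  have hc' : (c : Matrix (Fin n) (Fin n) F) * g = g' * c := by
    have : c * g = g' * c := by rw [← hc]; group
    exact congrArg Units.val this
  let e : (Fin n → F) ≃ₗ[F] (Fin n → F) :=
    Matrix.toLin'OfInv (M := ((c⁻¹ : GL (Fin n) F) : Matrix (Fin n) (Fin n) F))
      (M' := (c : Matrix (Fin n) (Fin n) F))
      (by rw [← Units.val_mul, inv_mul_cancel, Units.val_one])
      (by rw [← Units.val_mul, mul_inv_cancel, Units.val_one])
  apply dker_conj e
  intro w
  show Matrix.toLin' ((g' : Matrix (Fin n) (Fin n) F) - 1) (Matrix.toLin' (c : Matrix (Fin n) (Fin n) F) w) =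
    Matrix.toLin' (c : Matrix (Fin n) (Fin n) F) (Matrix.toLin' ((g : Matrix (Fin n) (Fin n) F) - 1) w)
  rw [← Matrix.toLin'_mul_apply, ← Matrix.toLin'_mul_apply, sub_mul, mul_sub, hc', one_mul, mul_one]

theorem isConj_of_dker_eq {g g' : GL (Fin n) F} (hg : IsNilpotent (nilLin g))
    (hg' : IsNilpotent (nilLin g')) (h : ∀ k, dker (nilLin g) k = dker (nilLin g') k) :
    IsConj g g' := by
  obtain ⟨A, hA⟩ := exists_conj_of_dker_eq (finrank F (Fin n → F)) (Fin n → F) (Fin n → F)
    (nilLin g) (nilLin g') rfl hg hg' h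
  have h1 : LinearMap.toMatrix' A.toLinearMap * LinearMap.toMatrix' A.symm.toLinearMap = 1 := by
    rw [← LinearMap.toMatrix'_comp, LinearEquiv.comp_symm, LinearMap.toMatrix'_id]
  have h2 : LinearMap.toMatrix' A.symm.toLinearMap * LinearMap.toMatrix' A.toLinearMap = 1 := by
    rw [← LinearMap.toMatrix'_comp, LinearEquiv.symm_comp, LinearMap.toMatrix'_id]
  let c : GL (Fin n) F :=
    ⟨LinearMap.toMatrix' A.toLinearMap, LinearMap.toMatrix' A.symm.toLinearMap, h1, h2⟩
  rw [isConj_iff]
  refine ⟨c, ?_⟩
  rw [mul_inv_eq_iff_eq_mul]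
  apply Units.ext
  rw [Units.val_mul, Units.val_mul]
  show LinearMap.toMatrix' A.toLinearMap * (g : Matrix (Fin n) (Fin n) F) =
    (g' : Matrix (Fin n) (Fin n) F) * LinearMap.toMatrix' A.toLinearMap
  have h3 : LinearMap.toMatrix' A.toLinearMap * ((g : Matrix (Fin n) (Fin n) F) - 1) =
      ((g' : Matrix (Fin n) (Fin n) F) - 1) * LinearMap.toMatrix' A.toLinearMap := by
    apply Matrix.toLin'.injective
    rw [Matrix.toLin'_mul, Matrix.toLin'_mul, Matrix.toLin'_toMatrix']
    apply LinearMap.ext
    intro x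
    exact hA x
  rw [mul_sub, sub_mul, mul_one, one_mul] at h3
  exact sub_left_inj.mp h3

theorem pow_eq_one_iff_nil {p : ℕ} [Fact p.Prime] [CharP F p] (g : GL (Fin n) F) :
    g ^ p = 1 ↔ ((g : Matrix (Fin n) (Fin n) F) - 1) ^ p = 0 := by
  rcases isEmpty_or_nonempty (Fin n) with he | hne
  · constructor
    · intro _; exact Subsingleton.elim _ _
    · intro _; exact Units.ext (Subsingleton.elim _ _)
  · have hfrob := sub_pow_char_of_commute (p := p)
      (Commute.one_right (g : Matrix (Fin n) (Fin n) F))
    rw [one_pow] at hfrob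
    rw [hfrob, sub_eq_zero, ← Units.val_pow_eq_pow_val]
    constructor
    · intro h; rw [h]; rfl
    · intro h; exact Units.ext h

theorem orderOf_eq_prime_iff_nil {p : ℕ} [Fact p.Prime] [CharP F p] (g : GL (Fin n) F) :
    orderOf g = p ↔ ((g : Matrix (Fin n) (Fin n) F) - 1) ^ p = 0 ∧ g ≠ 1 := by
  rw [orderOf_eq_prime_iff, pow_eq_one_iff_nil]

theorem nilLin_eq_zero_iff (g : GL (Fin n) F) : nilLin g = 0 ↔ g = 1 := by
  unfold nilLin
  rw [map_eq_zero_iff _ Matrix.toLin'.injective, sub_eq_zero]
  constructor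
  · intro h; exact Units.ext h
  · intro h; rw [h]; rfl

theorem finrank_fun : finrank F (Fin n → F) = n := by
  rw [Module.finrank_fintype_fun_eq_card, Fintype.card_fin]

theorem pow_eq_zero_iff_dker' (T : Module.End F (Fin n → F)) (k : ℕ) :
    T ^ k = 0 ↔ dker T k = n := by
  rw [pow_eq_zero_iff_dker, finrank_fun]

/-- all parts equal one when the number of parts equals the sum -/
theorem eq_one_of_card_eq_sum (μ : Multiset ℕ) (h1 : ∀ b ∈ μ, 1 ≤ b)
    (h : Multiset.card μ = μ.sum) : ∀ b ∈ μ, b = 1 := by
  induction μ using Multiset.induction_on with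
  | empty => simp
  | cons a μ ih =>
    rw [Multiset.card_cons, Multiset.sum_cons] at h
    have ha := h1 a (Multiset.mem_cons_self a μ)
    have hle : Multiset.card μ ≤ μ.sum := by
      have := smin_one μ (fun c hc => h1 c (Multiset.mem_cons_of_mem hc))
      rw [← this]
      exact smin_le_sum μ 1
    intro b hb
    rcases Multiset.mem_cons.mp hb with rfl | hb
    · omega
    · exact ih (fun c hc => h1 c (Multiset.mem_cons_of_mem hc)) (by omega) b hb

/-- the Jordan partition of an element of `GL` (meaningful for unipotent elements) -/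
noncomputable def jpart (g : GL (Fin n) F) : Nat.Partition n := by
  classical
  exact
    if h : IsNilpotent (nilLin g) then
      ⟨(exists_jt (nilLin g) h).choose,
        fun {i} hi => (exists_jt (nilLin g) h).choose_spec.1 i hi, by
          rw [sum_eq_finrank_of_dker (nilLin g) h _ (exists_jt (nilLin g) h).choose_spec.2,
            finrank_fun]⟩
    else default

theorem jpart_spec (g : GL (Fin n) F) (h : IsNilpotent (nilLin g)) (k : ℕ) :
    dker (nilLin g) k = smin (jpart g).parts k := by
  unfold jpart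
  rw [dif_pos h]
  exact (exists_jt (nilLin g) h).choose_spec.2 k

theorem jpart_unique (g : GL (Fin n) F) (h : IsNilpotent (nilLin g)) (μ : Nat.Partition n)
    (hμ : ∀ k, dker (nilLin g) k = smin μ.parts k) : jpart g = μ := by
  apply Nat.Partition.ext
  apply eq_of_smin_eq
  · intro b hb; exact (jpart g).parts_pos hb
  · intro b hb; exact μ.parts_pos hb
  · intro k
    rw [← jpart_spec g h, hμ]

theorem isNilpotent_iff_of_dker_eq {g g' : GL (Fin n) F}
    (h : ∀ k, dker (nilLin g') k = dker (nilLin g) k) :
    IsNilpotent (nilLin g) → IsNilpotent (nilLin g') := by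
  rintro ⟨k, hk⟩
  refine ⟨k, ?_⟩
  rw [pow_eq_zero_iff_dker] at hk ⊢
  rw [h, hk]

theorem jpart_conj {g g' : GL (Fin n) F} (h : IsConj g g') : jpart g = jpart g' := by
  have hd := dker_nilLin_of_isConj h
  have hd' := dker_nilLin_of_isConj h.symm
  by_cases hn : IsNilpotent (nilLin g)
  · have hn' := isNilpotent_iff_of_dker_eq hd hn
    symm
    apply jpart_unique g' hn'
    intro k
    rw [hd, jpart_spec g hn]
  · have hn' : ¬ IsNilpotent (nilLin g') := fun h' => hn (isNilpotent_iff_of_dker_eq hd' h')
    unfold jpart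
    rw [dif_neg hn, dif_neg hn']

end

/-- Number of conjugacy classes of elements of order p in GL_n over a finite field of characteristic p: they correspond to the Jordan types, that is, to the partitions of n with all parts at most p other than the partition into ones, so there are (number of partitions of n with parts ≤ p) − 1 of them. -/
theorem result {F : Type*} [Field F] [Fintype F] {p : ℕ} [Fact p.Prime] [CharP F p] (n : ℕ) : Nat.card {C : ConjClasses (GL (Fin n) F) // ∃ g : GL (Fin n) F, ConjClasses.mk g = C ∧ orderOf g = p} = (Finset.univ.filter (fun μ : Nat.Partition n => ∀ a ∈ μ.parts, a ≤ p)).card - 1 := by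
  have hp1 : 1 ≤ p := (Fact.out : p.Prime).one_lt.le
  -- the partition into ones
  set ones : Nat.Partition n :=
    ⟨Multiset.replicate n 1, by
      intro i hi
      rw [Multiset.eq_of_mem_replicate hi]
      norm_num, by simp⟩ with hones
  -- the class map
  let J : ConjClasses (GL (Fin n) F) → Nat.Partition n :=
    Quotient.lift jpart (fun a b hab => jpart_conj hab)
  have hJ : ∀ g, J (ConjClasses.mk g) = jpart g := fun g => rfl
  set S : Set (ConjClasses (GL (Fin n) F)) :=
    {C | ∃ g : GL (Fin n) F, ConjClasses.mk g = C ∧ orderOf g = p} with hS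
  -- elements of order p
  have hord : ∀ g : GL (Fin n) F, orderOf g = p →
      IsNilpotent (nilLin g) ∧ (∀ a ∈ (jpart g).parts, a ≤ p) ∧ jpart g ≠ ones := by
    intro g hg
    rw [orderOf_eq_prime_iff_nil] at hg
    obtain ⟨hnil, hne⟩ := hg
    have hTp : nilLin g ^ p = 0 := by rw [nilLin_pow, hnil, map_zero]
    have hN : IsNilpotent (nilLin g) := ⟨p, hTp⟩
    refine ⟨hN, ?_, ?_⟩
    · rw [← smin_eq_sum_iff, ← jpart_spec g hN, (jpart g).parts_sum]
      exact (pow_eq_zero_iff_dker' _ _).mp hTp
    · intro h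
      apply hne
      rw [← nilLin_eq_zero_iff, ← pow_one (nilLin g), pow_eq_zero_iff_dker', jpart_spec g hN, h,
        smin_one]
      · simp [hones]
      · intro b hb
        rw [Multiset.eq_of_mem_replicate hb]
  have hinj : Set.InjOn J S := by
    rintro C ⟨g, rfl, hg⟩ C' ⟨g', rfl, hg'⟩ hCC'
    rw [hJ, hJ] at hCC'
    rw [ConjClasses.mk_eq_mk_iff_isConj]
    obtain ⟨hN, -, -⟩ := hord g hg
    obtain ⟨hN', -, -⟩ := hord g' hg'
    apply isConj_of_dker_eq hN hN'
    intro k
    rw [jpart_spec g hN, jpart_spec g' hN', hCC']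
  have key : ∀ (inst : DecidablePred fun μ : Nat.Partition n => ∀ a ∈ μ.parts, a ≤ p),
      Nat.card ↥S = (@Finset.filter _ (fun μ : Nat.Partition n => ∀ a ∈ μ.parts, a ≤ p) inst
        Finset.univ).card - 1 := by
    intro inst
    classical
    have hmem : ones ∈ @Finset.filter _ (fun μ : Nat.Partition n => ∀ a ∈ μ.parts, a ≤ p) inst
        Finset.univ := by
      rw [Finset.mem_filter]
      refine ⟨Finset.mem_univ _, ?_⟩
      intro a ha
      rw [Multiset.eq_of_mem_replicate ha]
      exact hp1
    have himage : J '' S = ↑((@Finset.filter _ (fun μ : Nat.Partition n => ∀ a ∈ μ.parts, a ≤ p)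
        inst Finset.univ).erase ones) := by
      ext μ
      rw [Finset.mem_coe, Finset.mem_erase, Finset.mem_filter]
      constructor
      · rintro ⟨C, ⟨g, rfl, hg⟩, rfl⟩
        rw [hJ]
        obtain ⟨-, h1, h2⟩ := hord g hg
        exact ⟨h2, Finset.mem_univ _, h1⟩
      · rintro ⟨hne, -, hle⟩
        obtain ⟨T, hT⟩ := exists_end_of_multiset F μ.parts n μ.parts_sum
        have hT' : ∀ k, dker T k = smin μ.parts k := hT
        have hTp : T ^ p = 0 := by
          rw [pow_eq_zero_iff_dker', hT']
          have := (smin_eq_sum_iff μ.parts p).mpr hle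
          rw [μ.parts_sum] at this
          exact this
        have hNp : (LinearMap.toMatrix' T) ^ p = 0 := by
          apply Matrix.toLin'.injective
          rw [Matrix.toLin'_pow, Matrix.toLin'_toMatrix', hTp, map_zero]
        have hunit : IsUnit (1 + LinearMap.toMatrix' T) :=
          IsNilpotent.isUnit_one_add ⟨p, hNp⟩
        obtain ⟨g, hg⟩ := hunit
        have hgN : nilLin g = T := by
          unfold nilLin
          rw [hg, add_sub_cancel_left, Matrix.toLin'_toMatrix']
        have hg1 : g ≠ 1 := by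
          intro h1
          rw [← nilLin_eq_zero_iff, hgN] at h1
          apply hne
          apply Nat.Partition.ext
          have h2 : dker T 1 = n := (pow_eq_zero_iff_dker' T 1).mp (by rw [pow_one]; exact h1)
          rw [hT', smin_one _ (fun b hb => μ.parts_pos hb)] at h2
          show μ.parts = Multiset.replicate n 1
          rw [Multiset.eq_replicate]
          refine ⟨h2, ?_⟩
          apply eq_one_of_card_eq_sum _ (fun b hb => μ.parts_pos hb)
          rw [h2, μ.parts_sum]
        have hgp : orderOf g = p := by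
          rw [orderOf_eq_prime_iff_nil]
          refine ⟨?_, hg1⟩
          rw [hg, add_sub_cancel_left, hNp]
        refine ⟨ConjClasses.mk g, ⟨g, rfl, hgp⟩, ?_⟩
        rw [hJ]
        apply jpart_unique g (hgN ▸ ⟨p, hTp⟩)
        intro k
        rw [hgN, hT']
    rw [Nat.card_coe_set_eq, ← Set.ncard_image_of_injOn hinj, himage, Set.ncard_coe_finset,
      Finset.card_erase_of_mem hmem]
  exact key _

end Cfsg.Agent.S2570
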