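import Cfsg.Statements.S2317
import Cfsg.Agent.S2570

set_option autoImplicit false
open Cfsg

namespace Cfsg.Agent.S2317

open Matrix Module Cfsg.Agent.Lib.Helper43 Cfsg.Agent.Lib.Helper99 Cfsg.Agent.S2570

section Aux

variable {F : Type*} [Field F] {n : ℕ}

theorem pow_char_pow_eq_one_iff_nil {p : ℕ} [Fact p.Prime] [CharP F p] (g : GL (Fin n) F) (k : ℕ) :
    g ^ (p ^ k) = 1 ↔ ((g : Matrix (Fin n) (Fin n) F) - 1) ^ (p ^ k) = 0 := by
  rcases isEmpty_or_nonempty (Fin n) with he | hne
  · constructor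
    · intro _; exact Subsingleton.elim _ _
    · intro _; exact Units.ext (Subsingleton.elim _ _)
  · have hfrob := sub_pow_char_pow_of_commute (p := p) (n := k)
      (Commute.one_right (g : Matrix (Fin n) (Fin n) F))
    rw [one_pow] at hfrob
    rw [hfrob, sub_eq_zero, ← Units.val_pow_eq_pow_val]
    constructor
    · intro h; rw [h]; rfl
    · intro h; exact Units.ext h

theorem ppow_order_iff_nil {p : ℕ} [Fact p.Prime] [CharP F p] (g : GL (Fin n) F) :
    (∃ k : ℕ, orderOf g = p ^ k) ↔ IsNilpotent (nilLin g) := by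
  have hp : p.Prime := Fact.out
  rw [isNilpotent_nilLin_iff]
  constructor
  · rintro ⟨k, hk⟩
    refine ⟨p ^ k, ?_⟩
    rw [← pow_char_pow_eq_one_iff_nil, ← hk]
    exact pow_orderOf_eq_one g
  · rintro ⟨m, hm⟩
    have hlt : m < p ^ m := Nat.lt_pow_self hp.one_lt
    have h0 : ((g : Matrix (Fin n) (Fin n) F) - 1) ^ (p ^ m) = 0 :=
      pow_eq_zero_of_le hlt.le hm
    rw [← pow_char_pow_eq_one_iff_nil] at h0
    have hdvd : orderOf g ∣ p ^ m := orderOf_dvd_of_pow_eq_one h0
    obtain ⟨j, -, hj⟩ := (Nat.dvd_prime_pow hp).mp hdvd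
    exact ⟨j, hj⟩

end Aux

/-- Over a finite field of characteristic p, the conjugacy classes of GL_n consisting of elements of p-power order (the unipotent classes) are as many as the partitions of n. -/
theorem result {F : Type*} [Field F] [Fintype F] (p : ℕ) [Fact p.Prime] [CharP F p] (n : ℕ) :
    Nat.card {C : ConjClasses (Matrix.GeneralLinearGroup (Fin n) F) //
      ∃ g : Matrix.GeneralLinearGroup (Fin n) F, (∃ k : ℕ, orderOf g = p ^ k) ∧ ConjClasses.mk g = C} =
      Fintype.card (Nat.Partition n) := by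
  -- the class map
  let J : ConjClasses (GL (Fin n) F) → Nat.Partition n :=
    Quotient.lift jpart (fun a b hab => jpart_conj hab)
  have hJ : ∀ g, J (ConjClasses.mk g) = jpart g := fun g => rfl
  set S : Set (ConjClasses (GL (Fin n) F)) :=
    {C | ∃ g : GL (Fin n) F, (∃ k : ℕ, orderOf g = p ^ k) ∧ ConjClasses.mk g = C} with hS
  have hinj : Set.InjOn J S := by
    rintro C ⟨g, hg, rfl⟩ C' ⟨g', hg', rfl⟩ hCC'
    rw [hJ, hJ] at hCC'
    rw [ConjClasses.mk_eq_mk_iff_isConj]
    have hN := (ppow_order_iff_nil (p := p) g).mp hg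
    have hN' := (ppow_order_iff_nil (p := p) g').mp hg'
    apply isConj_of_dker_eq hN hN'
    intro k
    rw [jpart_spec g hN, jpart_spec g' hN', hCC']
  have himage : J '' S = Set.univ := by
    rw [Set.eq_univ_iff_forall]
    intro μ
    obtain ⟨T, hT⟩ := exists_end_of_multiset F μ.parts n μ.parts_sum
    have hT' : ∀ k, dker T k = smin μ.parts k := hT
    have hTp : T ^ n = 0 := by
      rw [pow_eq_zero_iff_dker', hT']
      have := (smin_eq_sum_iff μ.parts n).mpr (by
        intro b hb
        have := Multiset.single_le_sum (fun _ _ => Nat.zero_le _) b hb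
        rw [μ.parts_sum] at this
        exact this)
      rw [μ.parts_sum] at this
      exact this
    have hNp : (LinearMap.toMatrix' T) ^ n = 0 := by
      apply Matrix.toLin'.injective
      rw [Matrix.toLin'_pow, Matrix.toLin'_toMatrix', hTp, map_zero]
    have hunit : IsUnit (1 + LinearMap.toMatrix' T) :=
      IsNilpotent.isUnit_one_add ⟨n, hNp⟩
    obtain ⟨g, hg⟩ := hunit
    have hgN : nilLin g = T := by
      unfold nilLin
      rw [hg, add_sub_cancel_left, Matrix.toLin'_toMatrix']
    have hnil : IsNilpotent (nilLin g) := hgN ▸ ⟨n, hTp⟩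
    refine ⟨ConjClasses.mk g, ⟨g, (ppow_order_iff_nil (p := p) g).mpr hnil, rfl⟩, ?_⟩
    rw [hJ]
    apply jpart_unique g hnil
    intro k
    rw [hgN, hT']
  show Nat.card ↥S = _
  rw [Nat.card_coe_set_eq, ← hinj.ncard_image, himage, Set.ncard_univ,
    Nat.card_eq_fintype_card]

end Cfsg.Agent.S2317
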