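import Cfsg.Statements.S2329
-- import your own Cfsg.Agent.* helpers here

set_option autoImplicit false
open Cfsg

namespace Cfsg.Agent.S2329

open Matrix

/-- the standard transvection -/
noncomputable def stdU (F : Type*) [Field F] : Matrix.GeneralLinearGroup (Fin 2) F :=
  Matrix.GeneralLinearGroup.mkOfDetNeZero !![1, 1; 0, 1] (by simp [Matrix.det_fin_two])

theorem conj_stdU {F : Type*} [Field F] [Fintype F] (p : ℕ) [Fact p.Prime] [CharP F p]
    (g : Matrix.GeneralLinearGroup (Fin 2) F) (hg : orderOf g = p) : IsConj (stdU F) g := by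
  have hp : p.Prime := Fact.out
  have hgp : g ^ p = 1 := by rw [← hg]; exact pow_orderOf_eq_one g
  have hg1 : g ≠ 1 := by
    intro h
    rw [h, orderOf_one] at hg
    exact hp.one_lt.ne hg
  set M : Matrix (Fin 2) (Fin 2) F := (g : Matrix (Fin 2) (Fin 2) F) with hM
  have hMp : M ^ p = 1 := by
    have := congrArg (fun x : Matrix.GeneralLinearGroup (Fin 2) F => (x : Matrix (Fin 2) (Fin 2) F)) hgp
    simpa using this
  have hM1 : M ≠ 1 := by
    intro h
    apply hg1
    ext i j
    simp [← hM, h]
  have hN : (M - 1) ^ p = 0 := by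
    rw [sub_pow_char_of_commute p (Commute.one_right M), hMp, one_pow, sub_self]
  have hnil : IsNilpotent (M - 1) := ⟨p, hN⟩
  have htr : (M - 1).trace = 0 := (Matrix.isNilpotent_trace_of_isNilpotent hnil).eq_zero
  have hdet : (M - 1).det = 0 := by
    have : IsNilpotent ((M - 1).det) := by
      obtain ⟨k, hk⟩ := hnil
      refine ⟨k, ?_⟩
      rw [← Matrix.det_pow, hk, Matrix.det_zero]
    exact this.eq_zero
  rw [Matrix.trace_fin_two] at htr
  rw [Matrix.det_fin_two] at hdet
  simp only [Matrix.sub_apply, Matrix.one_apply_eq, Matrix.one_apply_ne, ne_eq, zero_ne_one,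
    not_false_eq_true, one_ne_zero, sub_zero, Fin.isValue] at htr hdet
  rw [isConj_iff]
  by_cases hc : M 1 0 = 0
  · -- then a = 1, d = 1, b ≠ 0
    have ha : M 0 0 = 1 := by
      have h1 : (M 0 0 - 1) * (M 1 1 - 1) = 0 := by rw [hc] at hdet; simpa using hdet
      have h2 : M 1 1 - 1 = -(M 0 0 - 1) := by linear_combination htr
      rw [h2] at h1
      have : (M 0 0 - 1) ^ 2 = 0 := by linear_combination -h1
      have := pow_eq_zero_iff (two_ne_zero) |>.mp this
      linear_combination this
    have hd : M 1 1 = 1 := by rw [ha] at htr; linear_combination htr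
    have hb : M 0 1 ≠ 0 := by
      intro hb
      apply hM1
      ext i j
      fin_cases i <;> fin_cases j <;> simp [ha, hd, hb, hc]
    refine ⟨Matrix.GeneralLinearGroup.mkOfDetNeZero !![M 0 1, 0; 0, 1] (by simp [Matrix.det_fin_two, hb]), ?_⟩
    rw [mul_inv_eq_iff_eq_mul]
    ext i j
    fin_cases i <;> fin_cases j <;>
      simp [stdU, Matrix.GeneralLinearGroup.mkOfDetNeZero, Matrix.mul_apply, Fin.sum_univ_two, ← hM, ha, hd, hc]
  · refine ⟨Matrix.GeneralLinearGroup.mkOfDetNeZero !![M 0 0 - 1, 1; M 1 0, 0] (by simp [Matrix.det_fin_two, hc]), ?_⟩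
    rw [mul_inv_eq_iff_eq_mul]
    ext i j
    fin_cases i <;> fin_cases j <;>
      simp [stdU, Matrix.GeneralLinearGroup.mkOfDetNeZero, Matrix.mul_apply, Fin.sum_univ_two, ← hM]
    · linear_combination hdet - (M 0 0 - 1) * htr
    · linear_combination (-(M 1 0)) * htr



/-- Over a finite field of characteristic p, any two elements of order p of GL₂ are conjugate: there is a single conjugacy class of non-identity unipotent elements. -/
theorem result {F : Type*} [Field F] [Fintype F] (p : ℕ) [Fact p.Prime] [CharP F p] (g h : Matrix.GeneralLinearGroup (Fin 2) F)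
    (hg : orderOf g = p) (hh : orderOf h = p) : IsConj g h := by
  exact ((conj_stdU p g hg).symm).trans (conj_stdU p h hh)

end Cfsg.Agent.S2329
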