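import Cfsg.Statements.S2331
import Cfsg.Agent.Lib.Helper39.SL2Conj
-- import your own Cfsg.Agent.* helpers here

set_option autoImplicit false
open Cfsg

namespace Cfsg.Agent.S2331

open Matrix Cfsg.Agent.Lib.Helper39

variable {F : Type*} [Field F]

/-- the class map -/
def classMap (F : Type*) [Field F] : Option F → ConjClasses (Matrix.SpecialLinearGroup (Fin 2) F)
  | none => ConjClasses.mk 1
  | some t => ConjClasses.mk (compSL t)

theorem classMap_injective : Function.Injective (classMap F) := by
  intro x y hxy
  rcases x with _ | t <;> rcases y with _ | t'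
  · rfl
  · exfalso
    simp only [classMap] at hxy
    rw [ConjClasses.mk_eq_mk_iff_isConj, isConj_one_right] at hxy
    have := congrArg (fun x : Matrix.SpecialLinearGroup (Fin 2) F => (x : Matrix (Fin 2) (Fin 2) F) 1 0) hxy
    simp [comp2] at this
  · exfalso
    simp only [classMap] at hxy
    rw [ConjClasses.mk_eq_mk_iff_isConj, isConj_one_left] at hxy
    have := congrArg (fun x : Matrix.SpecialLinearGroup (Fin 2) F => (x : Matrix (Fin 2) (Fin 2) F) 1 0) hxy
    simp [comp2] at this
  · simp only [classMap] at hxy
    rw [ConjClasses.mk_eq_mk_iff_isConj] at hxy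
    have := trace_eq_of_isConj_SL hxy
    simp at this
    rw [this]

theorem classMap_surjective [Fintype F] [CharP F 2] : Function.Surjective (classMap F) := by
  intro c
  obtain ⟨g, rfl⟩ := ConjClasses.exists_rep c
  by_cases hg : IsScalar2 (g : Matrix (Fin 2) (Fin 2) F)
  · obtain ⟨a, ha⟩ := (isScalar2_iff _).mp hg
    have hdet := g.det_coe
    rw [ha] at hdet
    simp only [Matrix.det_fin_two, Matrix.scalar_apply, Matrix.diagonal_apply_eq, ne_eq,
      Fin.isValue, zero_ne_one, not_false_eq_true, Matrix.diagonal_apply_ne, one_ne_zero,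
      mul_zero, sub_zero] at hdet
    have ha1 : a = 1 := by
      have h2 : (a - 1) ^ 2 = 0 := by
        have : (2 : F) = 0 := CharTwo.two_eq_zero
        linear_combination hdet - (a - 1) * this
      have := pow_eq_zero_iff (two_ne_zero) |>.mp h2
      linear_combination this
    refine ⟨none, ?_⟩
    simp only [classMap]
    congr 1
    apply Subtype.ext
    rw [ha, ha1]
    simp
  · obtain ⟨P, hP, h⟩ := exists_conj_comp2 (g : Matrix (Fin 2) (Fin 2) F) hg
    rw [g.det_coe] at h
    obtain ⟨x, hx⟩ := FiniteField.isSquare_of_char_two (ringChar.eq F 2) (P.det)⁻¹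
    refine ⟨some (g : Matrix (Fin 2) (Fin 2) F).trace, ?_⟩
    simp only [classMap]
    rw [ConjClasses.mk_eq_mk_iff_isConj]
    apply isConj_SL_of_matrix g _ (x • P)
    · rw [Matrix.det_smul, Fintype.card_fin, pow_two, ← hx, inv_mul_cancel₀ hP]
    · rw [Matrix.mul_smul, h, compSL_coe, Matrix.smul_mul]

theorem card_eq (F : Type*) [Field F] [Fintype F] [CharP F 2] :
    Nat.card (ConjClasses (Matrix.SpecialLinearGroup (Fin 2) F)) = Fintype.card F + 1 := by
  have e := Equiv.ofBijective (classMap F) ⟨classMap_injective, classMap_surjective⟩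
  rw [← Nat.card_congr e, Nat.card_eq_fintype_card, Fintype.card_option]



/-- Over a finite field with q elements, q even, the special linear group SL₂ has exactly q + 1 conjugacy classes. -/
theorem result {F : Type*} [Field F] [Fintype F] [CharP F 2] :
    Nat.card (ConjClasses (Matrix.SpecialLinearGroup (Fin 2) F)) = Fintype.card F + 1 := by
  exact card_eq F

end Cfsg.Agent.S2331
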