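import Cfsg.Statements.S2333
import Cfsg.Agent.Lib.Helper21.Lq.Claim

set_option autoImplicit false
open Cfsg

namespace Cfsg.Agent.S2333

open Cfsg.Agent.Lib.Helper21.Lq in
/-- For a finite field F of even order q and n ≥ 2 with (n, q) ≠ (2, 2), every irreducible complex representation of the symplectic group Sp_{2n}(F) of degree at least 2 has degree at least (q^n − 1)(q^n − q)/(2(q + 1)). -/
theorem result {F : Type*} [Field F] [Fintype F] [DecidableEq F] (n : ℕ) (hn : 2 ≤ n) (heven : Even (Fintype.card F)) (hex : (n, Fintype.card F) ≠ (2, 2)) :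
    (∀ (k : ℕ) (ρ : Representation ℂ (Matrix.symplecticGroup (Fin n) F) (Fin k → ℂ)), ρ.IsIrreducible → 2 ≤ k → (Fintype.card F ^ n - 1) * (Fintype.card F ^ n - Fintype.card F) / (2 * (Fintype.card F + 1)) ≤ k) := by
  intro k ρ hirr hk
  -- characteristic 2
  obtain ⟨p, hp⟩ := CharP.exists F
  haveI : Fact p.Prime := ⟨CharP.char_is_prime F p⟩
  obtain ⟨f, hf⟩ := FiniteField.card F p
  have hp2 : p = 2 := by
    obtain ⟨hpp, hcard⟩ := hf
    rw [hcard] at heven
    have h2 : 2 ∣ p ^ (f : ℕ) := even_iff_two_dvd.mp heven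
    have := (Nat.Prime.dvd_of_dvd_pow Nat.prime_two h2)
    exact ((Nat.prime_dvd_prime_iff_eq Nat.prime_two hpp).mp this).symm
  subst hp2
  have hq2 : 2 ≤ Fintype.card F := Fintype.one_lt_card
  have h := claim (F := F) n (Fin k → ℂ) ρ (rootNontriv_of_irreducible n k ρ hirr hk)
  rw [Module.finrank_fin_fun, Tq_eq _ hq2] at h
  exact h

end Cfsg.Agent.S2333
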