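import Cfsg.Statements.S2337
import Cfsg.Agent.Lib.Helper6.SzLS3
import Cfsg.Agent.Lib.Helper60.SzLieBridge

set_option autoImplicit false
open Cfsg

namespace Cfsg.Agent.S2337


open Cfsg.Agent.Lib.Helper6.Sz Cfsg.Agent.Lib.Helper6.SzLS

/-- a trivial representation of degree at least two is not irreducible. -/
lemma not_irreducible_of_trivial {H : Type*} [Group H] {k : ℕ} (hk : 2 ≤ k)
    (ρ : Representation ℂ H (Fin k → ℂ)) (htriv : ∀ g, ρ g = 1) : ¬ ρ.IsIrreducible := by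
  intro hirr
  obtain ⟨i0, hi0⟩ : ∃ i0 : Fin k, i0 = ⟨0, by omega⟩ := ⟨_, rfl⟩
  obtain ⟨i1, hi1⟩ : ∃ i1 : Fin k, i1 = ⟨1, by omega⟩ := ⟨_, rfl⟩
  have hne : i1 ≠ i0 := by
    rw [hi0, hi1]
    intro h
    have := congrArg Fin.val h
    simp at this
  obtain ⟨S, hS⟩ : ∃ S : Subrepresentation ρ,
      S.toSubmodule = Submodule.span ℂ {(Pi.single i0 1 : Fin k → ℂ)} := by
    refine ⟨⟨Submodule.span ℂ {(Pi.single i0 1 : Fin k → ℂ)}, ?_⟩, rfl⟩
    intro g v hv
    rw [htriv g]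
    exact hv
  have hmem : (Pi.single i0 1 : Fin k → ℂ) ∈ S.toSubmodule := by
    rw [hS]
    exact Submodule.subset_span rfl
  rcases hirr.eq_bot_or_eq_top S with h | h
  · have h1 : S.toSubmodule = ⊥ := congrArg Subrepresentation.toSubmodule h
    rw [h1, Submodule.mem_bot] at hmem
    have := congrFun hmem i0
    simp at this
  · have h1 : S.toSubmodule = ⊤ := congrArg Subrepresentation.toSubmodule h
    have h2 : (Pi.single i1 1 : Fin k → ℂ) ∈ S.toSubmodule := by rw [h1]; trivial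
    rw [hS, Submodule.mem_span_singleton] at h2
    obtain ⟨a, ha⟩ := h2
    have := congrFun ha i1
    simp [hne] at this


/-- For the Suzuki group Sz(q), q = 2^(2m+1) with m ≥ 1 (realised inside Sp₄ over the field with q elements), every irreducible complex representation of degree at least 2 has degree at least 2^m·(q − 1). -/
theorem result {F : Type*} [Field F] [Fintype F] (m : ℕ) (hm : 1 ≤ m) (hF : Fintype.card F = 2 ^ (2 * m + 1)) :
    (∀ (k : ℕ) (ρ : Representation ℂ (Cfsg.Lie.Sz F (2 ^ (m + 1))) (Fin k → ℂ)), ρ.IsIrreducible → 2 ≤ k → 2 ^ m * (2 ^ (2 * m + 1) - 1) ≤ k) := by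
  intro k ρ hirr hk2
  have := charP_two hF
  have hkF : Nat.card F = 2 ^ (2 * m + 1) := by rw [Nat.card_eq_fintype_card, hF]
  have hs := sig_sig hF
  have hnt := sig_nt hm hF
  obtain ⟨φ, hφ⟩ : ∃ φ, φ = Cfsg.Agent.Lib.Helper60.SzLie.szEquiv hm hF := ⟨_, rfl⟩
  obtain ⟨ρ', hρ'⟩ : ∃ ρ' : Representation ℂ (G (sig F m)) (Fin k → ℂ),
      ρ' = ρ.comp φ.symm.toMonoidHom := ⟨_, rfl⟩
  have hρ'a : ∀ g, ρ' g = ρ (φ.symm g) := fun g => by rw [hρ']; rfl
  have h0 : ∃ c₀, ρ' (Tg (sig F m) hs 0 c₀) ≠ 1 := by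
    by_contra hcon
    push Not at hcon
    have hsimple := isSimpleGroup (sig F m) hs hnt
    have hker : (ρ' : G (sig F m) →* _).ker = ⊤ := by
      rcases (MonoidHom.normal_ker (ρ' : G (sig F m) →* _)).eq_bot_or_eq_top with h | h
      · exfalso
        have h1 : Tg (sig F m) hs 0 1 ∈ (ρ' : G (sig F m) →* _).ker := hcon 1
        rw [h, Subgroup.mem_bot] at h1
        exact Tg_zero_ne_one (sig F m) hs one_ne_zero h1
      · exact h
    apply not_irreducible_of_trivial hk2 ρ _ hirr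
    intro g
    have h1 : φ g ∈ (ρ' : G (sig F m) →* _).ker := by rw [hker]; trivial
    have h2 : ρ' (φ g) = 1 := h1
    rw [hρ'a, φ.symm_apply_apply] at h2
    exact h2
  obtain ⟨c₀, hc₀⟩ := h0
  have hfin := ls_bound (sig F m) hs hkF ρ' hc₀
  rwa [Module.finrank_fin_fun] at hfin

end Cfsg.Agent.S2337
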