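import Cfsg.Statements.S2352
-- import your own Cfsg.Agent.* helpers here

set_option autoImplicit false
open Cfsg

namespace Cfsg.Agent.S2352

/-- a functional injective relation on a finite type extends to a permutation -/
theorem exists_perm_of_rel {α : Type*} [Fintype α] (R : α → α → Prop)
    (hf : ∀ x y y', R x y → R x y' → y = y') (hi : ∀ x x' y, R x y → R x' y → x = x') :
    ∃ σ : Equiv.Perm α, ∀ x y, R x y → σ x = y := by
  classical
  let f : α → α := fun x => if h : ∃ y, R x y then Classical.choose h else x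
  have hfR : ∀ x y, R x y → f x = y := by
    intro x y hxy
    have h : ∃ y, R x y := ⟨y, hxy⟩
    simp only [f, dif_pos h]
    exact hf x _ _ (Classical.choose_spec h) hxy
  let s : Set α := {x | ∃ y, R x y}
  have hinj : Set.InjOn f s := by
    rintro x ⟨y, hxy⟩ x' ⟨y', hxy'⟩ hfx
    rw [hfR x y hxy, hfR x' y' hxy'] at hfx
    subst hfx
    exact hi _ _ _ hxy hxy'
  have hmaps : s.MapsTo f (Finset.univ : Finset α) := fun x _ => by simp
  obtain ⟨g, hg⟩ := Set.MapsTo.exists_equiv_extend_of_card_eq (t := (Finset.univ : Finset α))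
    (by simp) hmaps hinj
  refine ⟨g.trans (Equiv.subtypeUnivEquiv (fun x => Finset.mem_univ x)), ?_⟩
  intro x y hxy
  simp only [Equiv.trans_apply, Equiv.subtypeUnivEquiv_apply]
  rw [hg x ⟨y, hxy⟩, hfR x y hxy]

/-- the relation for generator `a` -/
def Rel (L : List (ℕ × Bool)) (a : ℕ) (x y : Fin (L.length + 1)) : Prop :=
  ∃ i : Fin L.length, (L[i] = (a, true) ∧ x = i.succ ∧ y = i.castSucc) ∨
    (L[i] = (a, false) ∧ x = i.castSucc ∧ y = i.succ)

theorem reduced_adj (L : List (ℕ × Bool)) (hL : FreeGroup.IsReduced L) (a : ℕ) (i j : Fin L.length)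
    (hij : (j : ℕ) = (i : ℕ) + 1) (b : Bool) (hi : L[i] = (a, b)) (hj : L[j] = (a, !b)) : False := by
  unfold FreeGroup.IsReduced at hL
  rw [List.isChain_iff_getElem] at hL
  have h := hL i (by have := j.2; omega)
  have hj' : L[(i : ℕ) + 1]'(by have := j.2; omega) = (a, !b) := by
    rw [← hj]
    congr 1
    exact hij.symm
  have hi' : L[(i : ℕ)] = (a, b) := hi
  rw [hi', hj'] at h
  simp at h

theorem rel_functional (L : List (ℕ × Bool)) (hL : FreeGroup.IsReduced L) (a : ℕ)
    (x y y' : Fin (L.length + 1)) (h1 : Rel L a x y) (h2 : Rel L a x y') : y = y' := by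
  obtain ⟨i, hi⟩ := h1
  obtain ⟨j, hj⟩ := h2
  rcases hi with ⟨hi1, hi2, hi3⟩ | ⟨hi1, hi2, hi3⟩ <;> rcases hj with ⟨hj1, hj2, hj3⟩ | ⟨hj1, hj2, hj3⟩
  · have : i = j := by
      rw [hi2] at hj2
      exact Fin.succ_injective _ hj2
    subst this
    rw [hi3, hj3]
  · exfalso
    rw [hi2] at hj2
    have hv : (j : ℕ) = (i : ℕ) + 1 := by
      have := congrArg Fin.val hj2
      simpa using this.symm
    exact reduced_adj L hL a i j hv true hi1 hj1
  · exfalso
    rw [hi2] at hj2
    have hv : (i : ℕ) = (j : ℕ) + 1 := by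
      have := congrArg Fin.val hj2
      simpa using this
    exact reduced_adj L hL a j i hv true hj1 hi1
  · have : i = j := by
      rw [hi2] at hj2
      exact Fin.castSucc_injective _ hj2
    subst this
    rw [hi3, hj3]

theorem rel_injective (L : List (ℕ × Bool)) (hL : FreeGroup.IsReduced L) (a : ℕ)
    (x x' y : Fin (L.length + 1)) (h1 : Rel L a x y) (h2 : Rel L a x' y) : x = x' := by
  obtain ⟨i, hi⟩ := h1
  obtain ⟨j, hj⟩ := h2
  rcases hi with ⟨hi1, hi2, hi3⟩ | ⟨hi1, hi2, hi3⟩ <;> rcases hj with ⟨hj1, hj2, hj3⟩ | ⟨hj1, hj2, hj3⟩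
  · have : i = j := by
      rw [hi3] at hj3
      exact Fin.castSucc_injective _ hj3
    subst this
    rw [hi2, hj2]
  · exfalso
    rw [hi3] at hj3
    have hv : (i : ℕ) = (j : ℕ) + 1 := by
      have := congrArg Fin.val hj3
      simpa using this
    exact reduced_adj L hL a j i hv false hj1 hi1
  · exfalso
    rw [hi3] at hj3
    have hv : (j : ℕ) = (i : ℕ) + 1 := by
      have := congrArg Fin.val hj3
      simpa using this.symm
    exact reduced_adj L hL a i j hv false hi1 hj1
  · have : i = j := by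
      rw [hi3] at hj3
      exact Fin.succ_injective _ hj3
    subst this
    rw [hi2, hj2]

/-- letter evaluation -/
def letter {G : Type*} [Group G] (f : ℕ → G) (x : ℕ × Bool) : G := cond x.2 (f x.1) (f x.1)⁻¹

theorem eval_suffix (L : List (ℕ × Bool)) (σ : ℕ → Equiv.Perm (Fin (L.length + 1)))
    (hσ : ∀ i : Fin L.length, letter σ L[i] i.succ = i.castSucc) :
    ∀ (M pre : List (ℕ × Bool)) (h : L = pre ++ M),
      ((M.map (letter σ)).prod (Fin.last L.length) : Fin (L.length + 1)) =
        ⟨pre.length, by rw [h]; simp⟩ := by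
  intro M
  induction M with
  | nil =>
    intro pre h
    simp only [List.map_nil, List.prod_nil, Equiv.Perm.coe_one, id_eq]
    ext
    simp [h]
  | cons x M ih =>
    intro pre h
    have h' : L = (pre ++ [x]) ++ M := by rw [h]; simp
    have := ih (pre ++ [x]) h'
    rw [List.map_cons, List.prod_cons, Equiv.Perm.mul_apply, this]
    have hlt : pre.length < L.length := by rw [h]; simp
    have hx : L[(⟨pre.length, hlt⟩ : Fin L.length)] = x := by
      simp [h]
    have := hσ ⟨pre.length, hlt⟩
    rw [hx] at this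
    convert this using 2
    · ext
      simp
    · simp

theorem core (w : FreeGroup ℕ) (hw : w ≠ 1) :
    ∃ (k : ℕ) (f : ℕ → Equiv.Perm (Fin k)), FreeGroup.lift f w ≠ 1 := by
  classical
  set L := w.toWord with hLdef
  have hL : FreeGroup.IsReduced L := FreeGroup.isReduced_toWord
  have hLne : L ≠ [] := fun h => hw (FreeGroup.toWord_eq_nil_iff.mp h)
  have hex : ∀ a : ℕ, ∃ σ : Equiv.Perm (Fin (L.length + 1)), ∀ x y, Rel L a x y → σ x = y :=
    fun a => exists_perm_of_rel (Rel L a) (rel_functional L hL a) (rel_injective L hL a)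
  choose σ hσ using hex
  refine ⟨L.length + 1, σ, ?_⟩
  have hletter : ∀ i : Fin L.length, letter σ L[i] i.succ = i.castSucc := by
    intro i
    rcases hLi : L[i] with ⟨a, b⟩
    cases b
    · have := hσ a i.castSucc i.succ ⟨i, Or.inr ⟨hLi, rfl, rfl⟩⟩
      simp only [letter, cond_false]
      rw [Equiv.Perm.inv_eq_iff_eq]
      exact this.symm
    · have := hσ a i.succ i.castSucc ⟨i, Or.inl ⟨hLi, rfl, rfl⟩⟩
      simpa [letter] using this
  have hev := eval_suffix L σ hletter L [] (by simp)
  have hw' : FreeGroup.lift σ w = (L.map (letter σ)).prod := by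
    conv_lhs => rw [← FreeGroup.mk_toWord (x := w)]
    rw [FreeGroup.lift_mk]
    rfl
  rw [hw']
  intro h1
  rw [h1] at hev
  simp only [Equiv.Perm.coe_one, id_eq, List.length_nil] at hev
  have := congrArg Fin.val hev
  simp at this
  exact hLne this



open Equiv

/-- doubling hom -/
noncomputable def dbl (k n : ℕ) (h : k + k ≤ n) : Perm (Fin k) →* Perm (Fin n) :=
  (Perm.viaEmbeddingHom ((finSumFinEquiv (m := k) (n := k)).toEmbedding.trans (Fin.castLEEmb h))).comp
    ((Perm.sumCongrHom (Fin k) (Fin k)).comp (MonoidHom.prod (MonoidHom.id _) (MonoidHom.id _)))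

theorem dbl_injective (k n : ℕ) (h : k + k ≤ n) : Function.Injective (dbl k n h) := by
  unfold dbl
  rw [MonoidHom.coe_comp, MonoidHom.coe_comp]
  refine (Perm.viaEmbeddingHom_injective _).comp ((Perm.sumCongrHom_injective).comp ?_)
  intro a b hab
  simpa using congrArg Prod.fst hab

theorem dbl_sign (k n : ℕ) (h : k + k ≤ n) (σ : Perm (Fin k)) : Perm.sign (dbl k n h σ) = 1 := by
  classical
  unfold dbl
  simp only [MonoidHom.coe_comp, Function.comp_apply, Perm.viaEmbeddingHom_apply, Perm.viaEmbedding]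
  rw [Perm.sign_extendDomain]
  simp [Perm.sumCongrHom_apply, Perm.sign_sumCongr]

theorem main (w : FreeGroup ℕ) (hw : w ≠ 1) :
    ∃ N : ℕ, ∀ n : ℕ, N ≤ n → ∃ f : ℕ → alternatingGroup (Fin n), FreeGroup.lift f w ≠ 1 := by
  obtain ⟨k, f, hf⟩ := core w hw
  refine ⟨k + k, fun n hn => ?_⟩
  let Φ : Perm (Fin k) →* alternatingGroup (Fin n) :=
    (dbl k n hn).codRestrict (alternatingGroup (Fin n)) (fun σ => by
      rw [Perm.mem_alternatingGroup]
      exact dbl_sign k n hn σ)
  have hΦ : Function.Injective Φ := by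
    intro a b hab
    apply dbl_injective k n hn
    have := congrArg Subtype.val hab
    simpa [Φ] using this
  refine ⟨fun i => Φ (f i), ?_⟩
  have : FreeGroup.lift (fun i => Φ (f i)) w = Φ (FreeGroup.lift f w) := by
    have h1 : (FreeGroup.lift (fun i => Φ (f i))) = Φ.comp (FreeGroup.lift f) := by
      ext i
      simp
    rw [h1]
    rfl
  rw [this]
  intro h1
  apply hf
  apply hΦ
  rw [h1, map_one]



/-- A non-trivial law holds in only finitely many alternating groups: for every non-trivial element w of the free group on countably many generators there is N such that for all n ≥ N some substitution of elements of the alternating group of degree n into w is not the identity. -/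
theorem result (w : FreeGroup ℕ) (hw : w ≠ 1) :
    ∃ N : ℕ, ∀ n : ℕ, N ≤ n → ∃ f : ℕ → alternatingGroup (Fin n), FreeGroup.lift f w ≠ 1 := by
  exact main w hw

end Cfsg.Agent.S2352
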