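import Cfsg.Statements.S2353
-- import your own Cfsg.Agent.* helpers here

set_option autoImplicit false
open Cfsg

namespace Cfsg.Agent.S2353

open Polynomial Matrix

variable {F : Type*} [Field F]

/-- key degree lemma -/
theorem pp (p : F[X]) (k : ℕ) (hk : 1 ≤ k) (hp0 : p ≠ 0) (hp : p.natDegree = k) (x y : F[X])
    (h0 : x ≠ 0 ∨ y ≠ 0) (hS : ¬ (x ≠ 0 ∧ y ≠ 0 ∧ y.natDegree = x.natDegree + k)) :
    (x + p * (y + p * x)) ≠ 0 ∧ (y + p * x) ≠ 0 ∧
      (x + p * (y + p * x)).natDegree = (y + p * x).natDegree + k := by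
  -- step 1
  have h1 : (y + p * x) ≠ 0 ∧ (x ≠ 0 → k + x.natDegree ≤ (y + p * x).natDegree) := by
    by_cases hx : x = 0
    · subst hx
      have hy : y ≠ 0 := by tauto
      simp [hy]
    · have hpx : (p * x).natDegree = k + x.natDegree := by rw [natDegree_mul hp0 hx, hp]
      have hpx0 : p * x ≠ 0 := mul_ne_zero hp0 hx
      by_cases hy : y = 0
      · subst hy
        simp only [zero_add]
        exact ⟨hpx0, fun _ => hpx.ge⟩
      · have hne : y.natDegree ≠ x.natDegree + k := fun h => hS ⟨hx, hy, h⟩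
        rcases lt_or_gt_of_ne hne with hlt | hgt
        · have : (y + p * x).natDegree = (p * x).natDegree :=
            natDegree_add_eq_right_of_natDegree_lt (by omega)
          refine ⟨?_, fun _ => by omega⟩
          apply ne_zero_of_natDegree_gt (n := 0)
          omega
        · have : (y + p * x).natDegree = y.natDegree :=
            natDegree_add_eq_left_of_natDegree_lt (by omega)
          refine ⟨?_, fun _ => by omega⟩
          apply ne_zero_of_natDegree_gt (n := 0)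
          omega
  obtain ⟨hy'', hdeg⟩ := h1
  have hpy : (p * (y + p * x)).natDegree = k + (y + p * x).natDegree := by
    rw [natDegree_mul hp0 hy'', hp]
  by_cases hx : x = 0
  · subst hx
    simp only [zero_add, mul_zero, add_zero] at *
    refine ⟨mul_ne_zero hp0 hy'', hy'', ?_⟩
    omega
  · have hd := hdeg hx
    have : (x + p * (y + p * x)).natDegree = (p * (y + p * x)).natDegree :=
      natDegree_add_eq_right_of_natDegree_lt (by omega)
    refine ⟨?_, hy'', by omega⟩
    apply ne_zero_of_natDegree_gt (n := 0)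
    omega

/-- generator -/
noncomputable def gen (F : Type*) [Field F] (a : ℕ) : Matrix.SpecialLinearGroup (Fin 2) F[X] :=
  ⟨!![1 + (X ^ (a + 1)) ^ 2, X ^ (a + 1); X ^ (a + 1), 1], by
    rw [Matrix.det_fin_two_of]; ring⟩

theorem gen_coe (a : ℕ) : ((gen F a : Matrix.SpecialLinearGroup (Fin 2) F[X]) : Matrix (Fin 2) (Fin 2) F[X]) =
    !![1 + (X ^ (a + 1)) ^ 2, X ^ (a + 1); X ^ (a + 1), 1] := rfl

theorem gen_inv_coe (a : ℕ) : (((gen F a)⁻¹ : Matrix.SpecialLinearGroup (Fin 2) F[X]) : Matrix (Fin 2) (Fin 2) F[X]) =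
    !![1, -X ^ (a + 1); -X ^ (a + 1), 1 + (X ^ (a + 1)) ^ 2] := by
  rw [Matrix.SpecialLinearGroup.coe_inv, gen_coe, Matrix.adjugate_fin_two_of]

/-- action on pairs -/
noncomputable def act (M : Matrix (Fin 2) (Fin 2) F[X]) (v : F[X] × F[X]) : F[X] × F[X] :=
  (M 0 0 * v.1 + M 0 1 * v.2, M 1 0 * v.1 + M 1 1 * v.2)

theorem act_mul (M N : Matrix (Fin 2) (Fin 2) F[X]) (v : F[X] × F[X]) :
    act (M * N) v = act M (act N v) := by
  simp only [act, Matrix.mul_apply, Fin.sum_univ_two]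
  refine Prod.ext ?_ ?_ <;> dsimp only <;> ring

theorem act_one (v : F[X] × F[X]) : act (1 : Matrix (Fin 2) (Fin 2) F[X]) v = v := by
  simp [act]

/-- upper-dominant state -/
def Sp (k : ℕ) (v : F[X] × F[X]) : Prop := v.1 ≠ 0 ∧ v.2 ≠ 0 ∧ v.1.natDegree = v.2.natDegree + k
/-- lower-dominant state -/
def Sm (k : ℕ) (v : F[X] × F[X]) : Prop := v.1 ≠ 0 ∧ v.2 ≠ 0 ∧ v.2.natDegree = v.1.natDegree + k
/-- state of a letter -/
def St (l : ℕ × Bool) (v : F[X] × F[X]) : Prop := cond l.2 (Sp (l.1 + 1) v) (Sm (l.1 + 1) v)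

theorem act_gen (a : ℕ) (v : F[X] × F[X]) (h0 : v.1 ≠ 0 ∨ v.2 ≠ 0) (hS : ¬ Sm (a + 1) v) :
    Sp (a + 1) (act (gen F a : Matrix (Fin 2) (Fin 2) F[X]) v) := by
  obtain ⟨x, y⟩ := v
  have hp0 : (X ^ (a + 1) : F[X]) ≠ 0 := pow_ne_zero _ X_ne_zero
  have hp : (X ^ (a + 1) : F[X]).natDegree = a + 1 := natDegree_X_pow _
  have := pp (X ^ (a + 1) : F[X]) (a + 1) (by omega) hp0 hp x y h0 hS
  simp only [act, gen_coe, Sp]
  simp only [Matrix.of_apply, Matrix.cons_val', Matrix.cons_val_zero, Matrix.cons_val_one,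
    Matrix.cons_val_fin_one]
  have e1 : (1 + (X ^ (a + 1)) ^ 2) * x + X ^ (a + 1) * y = x + X ^ (a + 1) * (y + X ^ (a + 1) * x) := by ring
  have e2 : X ^ (a + 1) * x + 1 * y = y + X ^ (a + 1) * x := by ring
  rw [e1, e2]
  exact this

theorem act_gen_inv (a : ℕ) (v : F[X] × F[X]) (h0 : v.1 ≠ 0 ∨ v.2 ≠ 0) (hS : ¬ Sp (a + 1) v) :
    Sm (a + 1) (act ((gen F a)⁻¹ : Matrix.SpecialLinearGroup (Fin 2) F[X]) v) := by
  obtain ⟨x, y⟩ := v
  have hp0 : (-X ^ (a + 1) : F[X]) ≠ 0 := neg_ne_zero.mpr (pow_ne_zero _ X_ne_zero)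
  have hp : (-X ^ (a + 1) : F[X]).natDegree = a + 1 := by rw [natDegree_neg, natDegree_X_pow]
  have hS' : ¬ (y ≠ 0 ∧ x ≠ 0 ∧ x.natDegree = y.natDegree + (a + 1)) := by
    intro h
    exact hS ⟨h.2.1, h.1, h.2.2⟩
  have := pp (-X ^ (a + 1) : F[X]) (a + 1) (by omega) hp0 hp y x h0.symm hS'
  simp only [act, gen_inv_coe, Sm]
  simp only [Matrix.of_apply, Matrix.cons_val', Matrix.cons_val_zero, Matrix.cons_val_one,
    Matrix.cons_val_fin_one]
  have e1 : (1 : F[X]) * x + -X ^ (a + 1) * y = x + -X ^ (a + 1) * y := by ring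
  have e2 : -X ^ (a + 1) * x + (1 + (X ^ (a + 1)) ^ 2) * y =
      y + -X ^ (a + 1) * (x + -X ^ (a + 1) * y) := by ring
  rw [e1, e2]
  exact ⟨this.2.1, this.1, this.2.2⟩

/-- letter -/
noncomputable def letter (F : Type*) [Field F] (l : ℕ × Bool) : Matrix.SpecialLinearGroup (Fin 2) F[X] :=
  cond l.2 (gen F l.1) (gen F l.1)⁻¹

theorem letter_maps (l : ℕ × Bool) (v : F[X] × F[X]) (h0 : v.1 ≠ 0 ∨ v.2 ≠ 0)
    (hS : ¬ St (l.1, !l.2) v) :
    St l (act (letter F l : Matrix.SpecialLinearGroup (Fin 2) F[X]) v) := by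
  obtain ⟨a, b⟩ := l
  cases b
  · simp only [St, letter, cond_false, Bool.not_false, cond_true] at hS ⊢
    exact act_gen_inv a v h0 hS
  · simp only [St, letter, cond_false, Bool.not_true, cond_true] at hS ⊢
    exact act_gen a v h0 hS

theorem St_disjoint (l l' : ℕ × Bool) (v : F[X] × F[X]) (h : St l v) (h' : St l' v) : l = l' := by
  obtain ⟨a, b⟩ := l
  obtain ⟨a', b'⟩ := l'
  cases b <;> cases b' <;> simp only [St, cond_false, cond_true, Sp, Sm] at h h'
  · have : a = a' := by omega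
    rw [this]
  · omega
  · omega
  · have : a = a' := by omega
    rw [this]

theorem St_ne_zero (l : ℕ × Bool) (v : F[X] × F[X]) (h : St l v) : v.1 ≠ 0 ∨ v.2 ≠ 0 := by
  obtain ⟨a, b⟩ := l
  cases b <;> simp only [St, cond_false, cond_true, Sp, Sm] at h <;> exact Or.inl h.1

theorem word_state (L : List (ℕ × Bool)) (hL : FreeGroup.IsReduced L) :
    ∀ (l : ℕ × Bool) (M : List (ℕ × Bool)), L = l :: M →
      St l (act (((L.map (letter F)).prod : Matrix.SpecialLinearGroup (Fin 2) F[X]) :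
        Matrix (Fin 2) (Fin 2) F[X]) (1, 1)) := by
  induction L with
  | nil => intro l M h; simp at h
  | cons l0 L0 ih =>
    intro l M h
    obtain ⟨rfl, rfl⟩ : l0 = l ∧ L0 = M := by simpa using h
    rw [List.map_cons, List.prod_cons, Matrix.SpecialLinearGroup.coe_mul, act_mul]
    cases L0 with
    | nil =>
      simp only [List.map_nil, List.prod_nil, Matrix.SpecialLinearGroup.coe_one, act_one]
      apply letter_maps
      · left; simp
      · obtain ⟨a, b⟩ := l0
        cases b <;> simp [St, Sp, Sm]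
    | cons l' M' =>
      have hred := FreeGroup.isReduced_cons_cons.mp hL
      have := ih hred.2 l' M' rfl
      apply letter_maps
      · exact St_ne_zero _ _ this
      · intro hcon
        have := St_disjoint _ _ _ hcon this
        have h1 : l0.1 = l'.1 := by rw [← this]
        have h2 := hred.1 h1
        rw [← this] at h2
        simp at h2

theorem not_scalar (L : List (ℕ × Bool)) (hL : FreeGroup.IsReduced L) (hne : L ≠ [])
    (M : Matrix (Fin 2) (Fin 2) F[X])
    (hM : M = (((L.map (letter F)).prod : Matrix.SpecialLinearGroup (Fin 2) F[X]) :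
        Matrix (Fin 2) (Fin 2) F[X])) :
    M 0 1 ≠ 0 ∨ M 1 0 ≠ 0 ∨ M 0 0 - M 1 1 ≠ 0 := by
  obtain ⟨l, L', rfl⟩ := List.exists_cons_of_ne_nil hne
  have h := word_state (F := F) (l :: L') hL l L' rfl
  rw [← hM] at h
  by_contra hcon
  push Not at hcon
  obtain ⟨h1, h2, h3⟩ := hcon
  have h3' : M 0 0 = M 1 1 := sub_eq_zero.mp h3
  obtain ⟨a, b⟩ := l
  cases b <;> simp only [St, cond_false, cond_true, Sp, Sm, act, h1, h2, h3'] at h <;>
    simp at h

/-- degree bound predicate -/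
def Bdd (d : ℕ) (A : Matrix (Fin 2) (Fin 2) F[X]) : Prop := ∀ i j, (A i j).natDegree ≤ d

theorem bdd_mul (d e : ℕ) (A B : Matrix (Fin 2) (Fin 2) F[X]) (hA : Bdd d A) (hB : Bdd e B) :
    Bdd (d + e) (A * B) := by
  intro i j
  rw [Matrix.mul_apply, Fin.sum_univ_two]
  apply (natDegree_add_le _ _).trans
  apply max_le
  · exact natDegree_mul_le_of_le (hA _ _) (hB _ _)
  · exact natDegree_mul_le_of_le (hA _ _) (hB _ _)

theorem bdd_letter (l : ℕ × Bool) :
    Bdd (2 * (l.1 + 1)) ((letter F l : Matrix.SpecialLinearGroup (Fin 2) F[X]) : Matrix (Fin 2) (Fin 2) F[X]) := by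
  obtain ⟨a, b⟩ := l
  have h1 : ((1 : F[X]) + (X ^ (a + 1)) ^ 2).natDegree ≤ 2 * (a + 1) := by
    apply (natDegree_add_le _ _).trans
    apply max_le
    · simp
    · rw [← pow_mul, natDegree_X_pow]; omega
  have h2 : ((X : F[X]) ^ (a + 1)).natDegree ≤ 2 * (a + 1) := by
    rw [natDegree_X_pow]; omega
  have h3 : (-(X : F[X]) ^ (a + 1)).natDegree ≤ 2 * (a + 1) := by
    rw [natDegree_neg, natDegree_X_pow]; omega
  have h4 : ((1 : F[X])).natDegree ≤ 2 * (a + 1) := by simp
  cases b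
  · simp only [letter, cond_false, gen_inv_coe]
    intro i j
    fin_cases i <;> fin_cases j <;> simp <;> assumption
  · simp only [letter, cond_true, gen_coe]
    intro i j
    fin_cases i <;> fin_cases j <;> simp <;> assumption

theorem bdd_prod (L : List (ℕ × Bool)) :
    Bdd ((L.map (fun l => 2 * (l.1 + 1))).sum)
      (((L.map (letter F)).prod : Matrix.SpecialLinearGroup (Fin 2) F[X]) : Matrix (Fin 2) (Fin 2) F[X]) := by
  induction L with
  | nil =>
    intro i j
    fin_cases i <;> fin_cases j <;> simp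
  | cons l L ih =>
    simp only [List.map_cons, List.prod_cons, List.sum_cons, Matrix.SpecialLinearGroup.coe_mul]
    exact bdd_mul _ _ _ _ (bdd_letter l) ih

theorem lift_gen_eq (w : FreeGroup ℕ) :
    FreeGroup.lift (gen F) w = ((w.toWord).map (letter F)).prod := by
  conv_lhs => rw [← FreeGroup.mk_toWord (x := w)]
  rw [FreeGroup.lift_mk]
  rfl

theorem main (w : FreeGroup ℕ) (hw : w ≠ 1) :
    ∃ N : ℕ, ∀ (F : Type*) [Field F] [Fintype F], N ≤ Fintype.card F →
      ∃ f : ℕ → Matrix.ProjectiveSpecialLinearGroup (Fin 2) F, FreeGroup.lift f w ≠ 1 := by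
  set L := w.toWord with hLdef
  have hL : FreeGroup.IsReduced L := FreeGroup.isReduced_toWord
  have hLne : L ≠ [] := fun h => hw (FreeGroup.toWord_eq_nil_iff.mp h)
  refine ⟨(L.map (fun l => 2 * (l.1 + 1))).sum + 1, ?_⟩
  intro F _ _ hcard
  set MS : Matrix.SpecialLinearGroup (Fin 2) F[X] := FreeGroup.lift (gen F) w with hMS
  set M : Matrix (Fin 2) (Fin 2) F[X] := (MS : Matrix (Fin 2) (Fin 2) F[X]) with hM
  have hMprod : M = (((L.map (letter F)).prod : Matrix.SpecialLinearGroup (Fin 2) F[X]) :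
        Matrix (Fin 2) (Fin 2) F[X]) := by rw [hM, hMS, lift_gen_eq]
  have hns := not_scalar L hL hLne M hMprod
  have hbd : Bdd ((L.map (fun l => 2 * (l.1 + 1))).sum) M := by rw [hMprod]; exact bdd_prod L
  -- pick nonzero polynomial
  obtain ⟨P, hP0, hPdeg, hPc⟩ : ∃ P : F[X], P ≠ 0 ∧ P.natDegree ≤ (L.map (fun l => 2 * (l.1 + 1))).sum ∧
      ∀ c : F, (eval c (M 0 1) = 0 ∧ eval c (M 1 0) = 0 ∧ eval c (M 0 0) = eval c (M 1 1)) → eval c P = 0 := by
    rcases hns with h | h | h
    · exact ⟨M 0 1, h, hbd _ _, fun c hc => hc.1⟩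
    · exact ⟨M 1 0, h, hbd _ _, fun c hc => hc.2.1⟩
    · refine ⟨M 0 0 - M 1 1, h, ?_, fun c hc => by rw [eval_sub, hc.2.2, sub_self]⟩
      exact (natDegree_sub_le _ _).trans (max_le (hbd _ _) (hbd _ _))
  obtain ⟨c, hc⟩ := Polynomial.exists_eval_ne_zero_of_natDegree_lt_card P hP0 (by
    rw [Cardinal.mk_fintype]
    exact_mod_cast (by omega : P.natDegree < Fintype.card F))
  -- the specialization
  let ev : Matrix.SpecialLinearGroup (Fin 2) F[X] →* Matrix.SpecialLinearGroup (Fin 2) F :=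
    Matrix.SpecialLinearGroup.map (Polynomial.evalRingHom c)
  let π : Matrix.SpecialLinearGroup (Fin 2) F →* Matrix.ProjectiveSpecialLinearGroup (Fin 2) F :=
    QuotientGroup.mk' _
  refine ⟨fun a => π (ev (gen F a)), ?_⟩
  have hcomp : FreeGroup.lift (fun a => π (ev (gen F a))) w = π (ev MS) := by
    have h1 : (FreeGroup.lift (fun a => π (ev (gen F a)))) = (π.comp ev).comp (FreeGroup.lift (gen F)) := by
      ext i
      simp
    rw [h1]
    rfl
  rw [hcomp]
  intro h1
  have hcen : ev MS ∈ Subgroup.center (Matrix.SpecialLinearGroup (Fin 2) F) := by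
    have := (QuotientGroup.eq_one_iff (N := Subgroup.center (Matrix.SpecialLinearGroup (Fin 2) F)) (ev MS)).mp h1
    exact this
  rw [Matrix.SpecialLinearGroup.mem_center_iff] at hcen
  obtain ⟨r, _, hr⟩ := hcen
  apply hc
  apply hPc
  have hentry : ∀ i j, ((ev MS : Matrix.SpecialLinearGroup (Fin 2) F) : Matrix (Fin 2) (Fin 2) F) i j =
      eval c (M i j) := by
    intro i j
    simp [ev, hM]
  refine ⟨?_, ?_, ?_⟩
  · rw [← hentry, ← hr]; simp
  · rw [← hentry, ← hr]; simp
  · rw [← hentry, ← hentry, ← hr]; simp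



/-- A non-trivial law holds in PSL_2 over only finitely many finite fields: for every non-trivial element w of the free group on countably many generators there is N such that over every finite field with at least N elements some substitution of elements of PSL_2 into w is not the identity. -/
theorem result (w : FreeGroup ℕ) (hw : w ≠ 1) :
    ∃ N : ℕ, ∀ (F : Type*) [Field F] [Fintype F], N ≤ Fintype.card F →
      ∃ f : ℕ → Matrix.ProjectiveSpecialLinearGroup (Fin 2) F, FreeGroup.lift f w ≠ 1 := by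
  exact main w hw

end Cfsg.Agent.S2353
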