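import Cfsg.Statements.S2354
import Cfsg.Agent.S2353
import Cfsg.Agent.Lib.Helper39.SzLaw

set_option autoImplicit false
open Cfsg

namespace Cfsg.Agent.S2354

open Cfsg.Agent.Lib.Helper39.SzLaw Matrix Polynomial

theorem lift_eq_prod {G : Type*} [Group G] (f : ℕ → G) (w : FreeGroup ℕ) :
    FreeGroup.lift f w = ((w.toWord).map (fun l => cond l.2 (f l.1) (f l.1)⁻¹)).prod := by
  conv_lhs => rw [← FreeGroup.mk_toWord (x := w)]
  rw [FreeGroup.lift_mk]

theorem lift_hom {G H : Type*} [Group G] [Group H] (φ : G →* H) (f : ℕ → G) (w : FreeGroup ℕ) :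
    FreeGroup.lift (fun i => φ (f i)) w = φ (FreeGroup.lift f w) := by
  have h1 : (FreeGroup.lift (fun i => φ (f i))) = φ.comp (FreeGroup.lift f) := by
    ext i
    simp
  rw [h1]
  rfl

section generic
variable {F : Type*} [Field F]

theorem two_poly (h2 : (2 : F) = 0) : (2 : F[X][X]) = 0 := by
  have h : (C (C (2 : F)) : F[X][X]) = 2 := by
    rw [map_ofNat, map_ofNat]
  rw [← h, h2]
  simp

/-- generic generators. -/
noncomputable def genS (h2 : (2 : F) = 0) (i : ℕ) : GL (Fin 4) F[X][X] :=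
  UG (two_poly h2) (C (X ^ (i + 1)) : F[X][X]) (X ^ (i + 1)) *
    LG (two_poly h2) (C (X ^ (i + 1)) : F[X][X]) (X ^ (i + 1))

theorem MB_Lm (k : ℕ) : MB k (Lm (C (X ^ k) : F[X][X]) (X ^ k)) := by
  have h0 := B2_zero (F := F) k
  have h1 := B2_one (F := F) k
  have hc : B2 k (C (X ^ k) : F[X][X]) := B2_C _ (Polynomial.natDegree_X_pow_le k)
  have hx : B2 k (X ^ k : F[X][X]) := B2_X_pow le_rfl
  have hc' : B2 k ((C X : F[X][X]) ^ k) := by rw [← C_pow]; exact hc
  intro i j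
  fin_cases i <;> fin_cases j <;> simp [Lm] <;> assumption

theorem MB_Um (k : ℕ) : MB k (Um (C (X ^ k) : F[X][X]) (X ^ k)) := by
  have h0 := B2_zero (F := F) k
  have h1 := B2_one (F := F) k
  have hc : B2 k (C (X ^ k) : F[X][X]) := B2_C _ (Polynomial.natDegree_X_pow_le k)
  have hx : B2 k (X ^ k : F[X][X]) := B2_X_pow le_rfl
  have hc' : B2 k ((C X : F[X][X]) ^ k) := by rw [← C_pow]; exact hc
  intro i j
  fin_cases i <;> fin_cases j <;> simp [Um] <;> assumption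

theorem MB_genS (h2 : (2 : F) = 0) (i : ℕ) :
    MB (F := F) (2 * (i + 1)) ((genS h2 i : GL (Fin 4) F[X][X]) : Matrix (Fin 4) (Fin 4) F[X][X]) := by
  have : ((genS h2 i : GL (Fin 4) F[X][X]) : Matrix (Fin 4) (Fin 4) F[X][X]) =
      Um (C (X ^ (i + 1)) : F[X][X]) (X ^ (i + 1)) * Lm (C (X ^ (i + 1)) : F[X][X]) (X ^ (i + 1)) := rfl
  rw [this, two_mul]
  exact (MB_Um _).mul (MB_Lm _)

theorem MB_genS_inv (h2 : (2 : F) = 0) (i : ℕ) :
    MB (F := F) (2 * (i + 1)) (((genS h2 i)⁻¹ : GL (Fin 4) F[X][X]) : Matrix (Fin 4) (Fin 4) F[X][X]) := by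
  have : (((genS h2 i)⁻¹ : GL (Fin 4) F[X][X]) : Matrix (Fin 4) (Fin 4) F[X][X]) =
      Lm (C (X ^ (i + 1)) : F[X][X]) (X ^ (i + 1)) * Um (C (X ^ (i + 1)) : F[X][X]) (X ^ (i + 1)) := by
    rw [genS, _root_.mul_inv_rev, LG_inv, UG_inv]
    rfl
  rw [this, two_mul]
  exact (MB_Lm _).mul (MB_Um _)

theorem MB_word (h2 : (2 : F) = 0) (L : List (ℕ × Bool)) :
    MB (F := F) ((L.map (fun l => 2 * (l.1 + 1))).sum)
      (((L.map (fun l => cond l.2 (genS h2 l.1) (genS h2 l.1)⁻¹)).prod : GL (Fin 4) F[X][X]) :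
        Matrix (Fin 4) (Fin 4) F[X][X]) := by
  induction L with
  | nil => simpa using MB_one (F := F)
  | cons l L ih =>
    rw [List.map_cons, List.map_cons, List.prod_cons, List.sum_cons, Units.val_mul]
    refine MB.mul ?_ ih
    obtain ⟨a, b⟩ := l
    cases b
    · exact MB_genS_inv h2 a
    · exact MB_genS h2 a

/-- specialisation `x ↦ 0`. -/
noncomputable def pi0 : F[X][X] →+* F[X] := Polynomial.mapRingHom (Polynomial.evalRingHom 0)

theorem pi0_genS (h2 : (2 : F) = 0) (i : ℕ) :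
    Matrix.GeneralLinearGroup.map pi0 (genS h2 i) = iotaGL (Cfsg.Agent.S2353.gen F i) := by
  apply Units.ext
  show ((genS h2 i : GL (Fin 4) F[X][X]) : Matrix (Fin 4) (Fin 4) F[X][X]).map pi0 = _
  rw [iotaGL_coe, Cfsg.Agent.S2353.gen_coe]
  have : ((genS h2 i : GL (Fin 4) F[X][X]) : Matrix (Fin 4) (Fin 4) F[X][X]) =
      Um (C (X ^ (i + 1)) : F[X][X]) (X ^ (i + 1)) * Lm (C (X ^ (i + 1)) : F[X][X]) (X ^ (i + 1)) := rfl
  rw [this, Matrix.map_mul, Um_map, Lm_map]
  have hc : pi0 (C (X ^ (i + 1)) : F[X][X]) = 0 := by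
    simp [pi0]
  have hx : pi0 (X ^ (i + 1) : F[X][X]) = X ^ (i + 1) := by
    simp [pi0]
  rw [hc, hx]
  ext r s
  fin_cases r <;> fin_cases s <;>
    simp [Um, Lm, iotaM, Matrix.mul_apply, Fin.sum_univ_four]
  ring_nf

theorem lift_genS_ne_one (h2 : (2 : F) = 0) (w : FreeGroup ℕ) (hw : w ≠ 1) :
    FreeGroup.lift (genS h2) w ≠ 1 := by
  intro h
  have h1 : FreeGroup.lift (fun i => Matrix.GeneralLinearGroup.map pi0 (genS h2 i)) w = 1 := by
    rw [lift_hom, h, map_one]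
  simp only [pi0_genS] at h1
  rw [lift_hom iotaGL (Cfsg.Agent.S2353.gen F) w] at h1
  obtain ⟨e1, e2, e3⟩ := iotaGL_eq_one h1
  have hL : FreeGroup.IsReduced w.toWord := FreeGroup.isReduced_toWord
  have hLne : w.toWord ≠ [] := fun h => hw (FreeGroup.toWord_eq_nil_iff.mp h)
  have := Cfsg.Agent.S2353.not_scalar (F := F) w.toWord hL hLne _
    (by rw [← Cfsg.Agent.S2353.lift_gen_eq])
  rcases this with h | h | h
  · exact h e1
  · exact h e2
  · exact h e3

end generic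


/-- A non-trivial law holds in only finitely many Suzuki groups: for every non-trivial element w of the free group on countably many generators there is N such that for q = 2^(2m+1) with m ≥ N some substitution of elements of the Suzuki group over the field with q elements into w is not the identity. -/
theorem result (w : FreeGroup ℕ) (hw : w ≠ 1) :
    ∃ N : ℕ, ∀ (F : Type*) [Field F] [Fintype F] (m : ℕ), 1 ≤ m → N ≤ m →
      Fintype.card F = 2 ^ (2 * m + 1) →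
      ∃ f : ℕ → ↥(Cfsg.Lie.Sz F (2 ^ (m + 1))), FreeGroup.lift f w ≠ 1 := by
  set D := ((w.toWord).map (fun l => 2 * (l.1 + 1))).sum with hD
  refine ⟨D + 1, ?_⟩
  intro F _ _ m hm1 hmN hcard
  -- characteristic 2
  have h2 : (2 : F) = 0 := by
    have h := Nat.cast_card_eq_zero F
    rw [hcard] at h
    push_cast at h
    exact pow_eq_zero_iff (by omega) |>.mp h
  set e := 2 ^ (m + 1) with he
  have he0 : e ≠ 0 := by positivity
  have hee : ∀ c : F, (c ^ e) ^ e = c ^ 2 := by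
    intro c
    rw [← pow_mul]
    have : e * e = Fintype.card F * 2 := by
      rw [hcard, he, ← pow_add, ← pow_succ]
      congr 1
      omega
    rw [this, pow_mul, FiniteField.pow_card]
  -- the generic word
  set Mt : GL (Fin 4) F[X][X] := FreeGroup.lift (genS h2) w with hMt
  have hMne : Mt ≠ 1 := lift_genS_ne_one h2 w hw
  have hMB : MB (F := F) D (Mt : Matrix (Fin 4) (Fin 4) F[X][X]) := by
    rw [hMt, lift_eq_prod]
    exact MB_word h2 w.toWord
  obtain ⟨r, s, hrs⟩ : ∃ r s, (Mt : Matrix (Fin 4) (Fin 4) F[X][X]) r s ≠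
      (1 : Matrix (Fin 4) (Fin 4) F[X][X]) r s := by
    by_contra hcon
    push Not at hcon
    apply hMne
    apply Units.ext
    exact Matrix.ext hcon
  set P : F[X][X] := (Mt : Matrix (Fin 4) (Fin 4) F[X][X]) r s -
    (1 : Matrix (Fin 4) (Fin 4) F[X][X]) r s with hP
  have hPne : P ≠ 0 := sub_ne_zero.mpr hrs
  have hPB : B2 D P := by
    rw [hP, Matrix.one_apply]
    split_ifs
    · exact (hMB r s).sub_one
    · rw [sub_zero]; exact hMB r s
  -- numerics
  have hm2 : m < 2 ^ m := Nat.lt_two_pow_self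
  have hDe : D < e := by
    rw [he, pow_succ]
    omega
  have hDq : D + e * D < Fintype.card F := by
    rw [hcard, he]
    have h3 : 2 ^ (2 * m + 1) = 2 ^ (m + 1) * 2 ^ m := by
      rw [← pow_add]
      congr 1
      omega
    rw [h3]
    have h4 : D + 1 ≤ 2 ^ m := by omega
    have h5 : 2 ^ (m + 1) = 2 * 2 ^ m := by rw [pow_succ]; ring
    nlinarith
  obtain ⟨a, ha⟩ := exists_ev_ne_zero P hPne D e hPB hDe hDq
  -- the specialisation
  let ev : F[X][X] →+* F := (Polynomial.evalRingHom (a ^ e)).comp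
    (Polynomial.mapRingHom (Polynomial.evalRingHom a))
  have hev : ∀ Q : F[X][X], ev Q = (Q.map (Polynomial.evalRingHom a)).eval (a ^ e) := fun Q => rfl
  let Ev : GL (Fin 4) F[X][X] →* GL (Fin 4) F := Matrix.GeneralLinearGroup.map ev
  have hEvgen : ∀ i, Ev (genS h2 i) = UG h2 (a ^ (i + 1)) ((a ^ (i + 1)) ^ e) *
      LG h2 (a ^ (i + 1)) ((a ^ (i + 1)) ^ e) := by
    intro i
    apply Units.ext
    show ((genS h2 i : GL (Fin 4) F[X][X]) : Matrix (Fin 4) (Fin 4) F[X][X]).map ev = _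
    have : ((genS h2 i : GL (Fin 4) F[X][X]) : Matrix (Fin 4) (Fin 4) F[X][X]) =
        Um (C (X ^ (i + 1)) : F[X][X]) (X ^ (i + 1)) * Lm (C (X ^ (i + 1)) : F[X][X]) (X ^ (i + 1)) := rfl
    rw [this, Matrix.map_mul, Um_map, Lm_map]
    have hc : ev (C (X ^ (i + 1)) : F[X][X]) = a ^ (i + 1) := by
      rw [hev]; simp
    have hx : ev (X ^ (i + 1) : F[X][X]) = (a ^ (i + 1)) ^ e := by
      rw [hev]; simp only [Polynomial.map_pow, Polynomial.map_X, Polynomial.eval_pow, Polynomial.eval_X]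
      rw [← pow_mul, ← pow_mul, mul_comm]
    rw [hc, hx]
    rfl
  have hmemU : ∀ c : F, UG h2 c (c ^ e) ∈ Cfsg.Lie.Sz F e := fun c =>
    Subgroup.subset_closure ⟨UG_mem_Sp4 h2 c (c ^ e), star4_Um h2 e he0 c (hee c)⟩
  have hmemL : ∀ c : F, LG h2 c (c ^ e) ∈ Cfsg.Lie.Sz F e := fun c =>
    Subgroup.subset_closure ⟨LG_mem_Sp4 h2 c (c ^ e), star4_Lm h2 e he0 c (hee c)⟩
  have hmem : ∀ i, Ev (genS h2 i) ∈ Cfsg.Lie.Sz F e := by
    intro i
    rw [hEvgen]
    exact Subgroup.mul_mem _ (hmemU _) (hmemL _)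
  refine ⟨fun i => ⟨Ev (genS h2 i), hmem i⟩, ?_⟩
  intro hone
  have h1 : FreeGroup.lift (fun i => (Cfsg.Lie.Sz F e).subtype ⟨Ev (genS h2 i), hmem i⟩) w = 1 := by
    rw [lift_hom (Cfsg.Lie.Sz F e).subtype, hone, map_one]
  have h2' : FreeGroup.lift (fun i => Ev (genS h2 i)) w = 1 := h1
  rw [lift_hom Ev (genS h2) w, ← hMt] at h2'
  have h3 : ((Ev Mt : GL (Fin 4) F) : Matrix (Fin 4) (Fin 4) F) r s =
      (1 : Matrix (Fin 4) (Fin 4) F) r s := by rw [h2']; rfl
  have h4 : ((Ev Mt : GL (Fin 4) F) : Matrix (Fin 4) (Fin 4) F) r s =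
      ev ((Mt : Matrix (Fin 4) (Fin 4) F[X][X]) r s) := rfl
  apply ha
  rw [← hev, hP, map_sub, ← h4, h3]
  rw [Matrix.one_apply, Matrix.one_apply]
  split_ifs <;> simp

end Cfsg.Agent.S2354
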