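import Cfsg.Statements.S2355
import Cfsg.Agent.S2352
import Cfsg.Agent.S2353
import Cfsg.Agent.Lib.Helper39.Laws2

set_option autoImplicit false
open Cfsg

namespace Cfsg.Agent.S2355

open Cfsg.Agent.Lib.Helper39.Laws Matrix

theorem card_Omega_le {ι : Type} [Fintype ι] [DecidableEq ι] {F : Type} [Field F] [Fintype F]
    (Q : (ι → F) → F) {G : Type*} [Group G] (e : G ≃* Cfsg.POmega F Q) :
    Nat.card G ≤ Fintype.card F ^ (Fintype.card ι * Fintype.card ι) := by
  refine card_le_of_quot (H := Cfsg.Omega F Q)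
    (fun A => (((A : Cfsg.isometryGroup F Q) : Matrix.GeneralLinearGroup ι F) : Matrix ι ι F)) ?_ e
  intro A B hAB
  exact Subtype.ext (Subtype.ext (Units.ext hAB))

/-- A non-trivial law is satisfied by only finitely many finite simple groups that are alternating or classical, up to isomorphism: for every non-trivial element w of the free group on countably many generators there is a bound N such that every alternating group of degree ≥ 5 and every simple classical group (linear, symplectic, unitary or orthogonal, in this problem's sense) in which w is a law has order at most N. -/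
theorem result (w : FreeGroup ℕ) (hw : w ≠ 1) :
    ∃ N : ℕ, ∀ (G : Type*) [Group G] [Finite G],
      (Cfsg.IsAlternating G ∨ Cfsg.IsPSL G ∨ Cfsg.IsPSp G ∨ Cfsg.IsPSU G ∨ Cfsg.IsPOmegaOdd G ∨
          Cfsg.IsPOmegaPlus G ∨ Cfsg.IsPOmegaMinus G) →
      (∀ f : ℕ → G, FreeGroup.lift f w = 1) → Nat.card G ≤ N := by
  obtain ⟨N₁, hN₁⟩ := Cfsg.Agent.S2352.main w hw
  obtain ⟨N₂, hN₂'⟩ := Cfsg.Agent.S2353.main.{0} w hw
  have hN₂ : ∀ (F : Type) [Field F] [Fintype F], N₂ ≤ Fintype.card F →
      ∃ f : ℕ → Matrix.ProjectiveSpecialLinearGroup (Fin 2) F, FreeGroup.lift f w ≠ 1 :=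
    fun F _ _ => hN₂' F
  have hN₂sq : N₂ ≤ N₂ * N₂ := Nat.le_mul_self N₂
  refine ⟨max (N₁.factorial) ((N₂ * N₂ + 1) ^ ((2 * max N₁ 5 + 3) * (2 * max N₁ 5 + 3))), ?_⟩
  intro G _ _ hG hlaw
  rcases hG with h | h | h | h | h | h | h
  · -- alternating
    obtain ⟨n, -, ⟨e⟩⟩ := h
    have hl := law_of_equiv e hlaw
    have hn : n < N₁ := by
      by_contra hcon
      push Not at hcon
      obtain ⟨f, hf⟩ := hN₁ n hcon
      exact hf (hl f)
    calc Nat.card G = Nat.card (alternatingGroup (Fin n)) := Nat.card_congr e.toEquiv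
      _ ≤ Nat.card (Equiv.Perm (Fin n)) := Subgroup.card_le_card_group _
      _ = n.factorial := by rw [Nat.card_eq_fintype_card, Fintype.card_perm, Fintype.card_fin]
      _ ≤ N₁.factorial := Nat.factorial_le hn.le
      _ ≤ _ := le_max_left _ _
  · -- PSL
    obtain ⟨F, _, _, n, hn2, -, ⟨e⟩⟩ := h
    have hc : CLaw w (SpecialLinearGroup (Fin n) F) := claw_of_law_quot e hlaw
    obtain ⟨h1, h2⟩ := sl_bound hN₁ hN₂ hn2 hc
    have hcard := card_le_of_quot (H := SpecialLinearGroup (Fin n) F)
      (fun A => (A : Matrix (Fin n) (Fin n) F)) Subtype.val_injective e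
    refine (hcard.trans ?_).trans (le_max_right _ _)
    rw [Fintype.card_fin]
    exact pow_bound (by omega) (by omega) (by omega)
  · -- PSp
    obtain ⟨F, _, _, m, hm2, -, ⟨e⟩⟩ := h
    have hc : CLaw w (Matrix.symplecticGroup (Fin m) F) := claw_of_law_quot e hlaw
    obtain ⟨h1, h2⟩ := sl_bound hN₁ hN₂ hm2 (claw_SL_of_claw_Sp m hc)
    have hcard := card_le_of_quot (H := Matrix.symplecticGroup (Fin m) F)
      (fun A => (A : Matrix (Fin m ⊕ Fin m) (Fin m ⊕ Fin m) F)) Subtype.val_injective e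
    refine (hcard.trans ?_).trans (le_max_right _ _)
    rw [Fintype.card_sum, Fintype.card_fin]
    exact pow_bound (by omega) (by omega) (by omega)
  · -- PSU
    obtain ⟨F, _, _, n, q, hq, hn3, -, ⟨e⟩⟩ := h
    have hc : CLaw w (Cfsg.SU n F q) := claw_of_law_quot e hlaw
    have h1 := su_rank_bound hN₁ hc
    have h2 := su_field_bound hN₂ hq (by omega) hc
    have hcard := card_le_of_quot (H := Cfsg.SU n F q)
      (fun A => ((A : SpecialLinearGroup (Fin n) F) : Matrix (Fin n) (Fin n) F))
      (Subtype.val_injective.comp Subtype.val_injective) e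
    refine (hcard.trans ?_).trans (le_max_right _ _)
    rw [Fintype.card_fin, hq]
    have hqq : q ^ 2 ≤ N₂ * N₂ := by
      rw [sq]
      exact Nat.mul_le_mul h2.le h2.le
    exact pow_bound (by omega) (by omega) (by omega)
  · -- odd orthogonal
    obtain ⟨F, _, _, m, hm3, -, ⟨e⟩⟩ := h
    have hc : CLaw w (Cfsg.Omega F (Cfsg.quadFormOdd m F)) := claw_of_law_quot e hlaw
    obtain ⟨h1, h2⟩ := sl_bound hN₁ hN₂ (by omega) (claw_SL_of_claw_odd m hm3 hc)
    refine ((card_Omega_le _ e).trans ?_).trans (le_max_right _ _)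
    rw [Fintype.card_sum, Fintype.card_sum, Fintype.card_fin, Fintype.card_unit]
    exact pow_bound (by omega) (by omega) (by omega)
  · -- plus
    obtain ⟨F, _, _, m, hm4, ⟨e⟩⟩ := h
    have hc : CLaw w (Cfsg.Omega F (Cfsg.quadFormPlus m F)) := claw_of_law_quot e hlaw
    obtain ⟨h1, h2⟩ := sl_bound hN₁ hN₂ (by omega) (claw_SL_of_claw_plus m (by omega) hc)
    refine ((card_Omega_le _ e).trans ?_).trans (le_max_right _ _)
    rw [Fintype.card_sum, Fintype.card_fin]
    exact pow_bound (by omega) (by omega) (by omega)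
  · -- minus
    obtain ⟨F, _, _, m, a, b, hm4, -, ⟨e⟩⟩ := h
    have hc : CLaw w (Cfsg.Omega F (Cfsg.quadFormMinus (m - 1) F a b)) := claw_of_law_quot e hlaw
    obtain ⟨h1, h2⟩ := sl_bound hN₁ hN₂ (by omega)
      (claw_SL_of_claw_minus (m - 1) (by omega) a b hc)
    refine ((card_Omega_le _ e).trans ?_).trans (le_max_right _ _)
    rw [Fintype.card_sum, Fintype.card_sum, Fintype.card_fin, Fintype.card_fin]
    exact pow_bound (by omega) (by omega) (by omega)

end Cfsg.Agent.S2355
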