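import Cfsg.Statements.S2360
import Mathlib
import Cfsg.Agent.Lib.Helper13.SU3Inv3

set_option autoImplicit false
open Cfsg

namespace Cfsg.Agent.S2360

open Matrix Cfsg.Agent.Lib.Helper99 Cfsg.Agent.Lib.Helper13

/-- the third involution commuting with two distinct commuting involutions is their product -/
theorem third_involution {F : Type*} [Field F] [Fintype F] {q : ℕ} (hF : Fintype.card F = q ^ 2)
    (h2 : (2 : F) ≠ 0) (t x : ↥(Cfsg.SU 3 F q)) (ht1 : t ≠ 1) (ht2 : t * t = 1) (hx1 : x ≠ 1)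
    (hx2 : x * x = 1) (hxt : x ≠ t) (hcomm : Commute t x) (y : ↥(Cfsg.SU 3 F q)) :
    (y ≠ 1 ∧ y * y = 1 ∧ y ≠ t ∧ y ≠ x ∧ Commute t y ∧ Commute x y) ↔ y = t * x := by
  constructor
  · rintro ⟨hy1, hy2, hyt, hyx, hty, hxy⟩
    obtain ⟨a, haa, hta⟩ := involution_structure hF h2 t ht1 ht2
    obtain ⟨b, hbb, hxb⟩ := involution_structure hF h2 x hx1 hx2
    obtain ⟨d, hdd, hyd⟩ := involution_structure hF h2 y hy1 hy2
    have hab := orth_of_commute hF h2 t x a b haa hbb hta hxb hxt hcomm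
    have had := orth_of_commute hF h2 t y a d haa hdd hta hyd hyt hty
    have hbd := orth_of_commute hF h2 x y b d hbb hdd hxb hyd hyx hxy
    have hba : Cfsg.hermForm 3 F q b a = 0 := hermForm_eq_zero_comm hF hab
    apply suHom_injective
    apply Units.ext
    rw [Matrix.ext_iff_mulVec]
    intro v
    rw [map_mul, Units.val_mul, ← mulVec_mulVec, hyd, hxb, hta, hermForm_add_left,
      hermForm_smul_left, hermForm_neg_left, hba, mul_zero, add_zero]
    have hv := decomp3_orth hF a b d haa hbb hdd hab had hbd v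
    obtain ⟨α, hα⟩ : ∃ α : F, α = Cfsg.hermForm 3 F q v a := ⟨_, rfl⟩
    obtain ⟨β, hβ⟩ : ∃ β : F, β = Cfsg.hermForm 3 F q v b := ⟨_, rfl⟩
    obtain ⟨γ, hγ⟩ : ∃ γ : F, γ = Cfsg.hermForm 3 F q v d := ⟨_, rfl⟩
    rw [← hα, ← hβ, ← hγ] at hv ⊢
    have h5 : -v + (2 * γ) • d = v - (2 * α) • a - (2 * β) • b := by
      have : (2 : F) • v = (2 : F) • (α • a + β • b + γ • d) := by rw [← hv]
      linear_combination (norm := module) (-1 : F) • this
    rw [h5]
    module
  · rintro rfl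
    have htinv : t⁻¹ = t := inv_eq_of_mul_eq_one_right ht2
    have hxinv : x⁻¹ = x := inv_eq_of_mul_eq_one_right hx2
    refine ⟨?_, ?_, ?_, ?_, ?_, ?_⟩
    · intro h
      apply hxt
      have : x = t⁻¹ := eq_inv_of_mul_eq_one_right h
      rw [this, htinv]
    · calc t * x * (t * x) = t * (x * t) * x := by group
        _ = t * (t * x) * x := by rw [hcomm.eq]
        _ = (t * t) * (x * x) := by group
        _ = 1 := by rw [ht2, hx2, one_mul]
    · intro h
      apply hx1
      have : t * x = t * 1 := by rw [h, mul_one]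
      exact mul_left_cancel this
    · intro h
      apply ht1
      have : t * x = 1 * x := by rw [h, one_mul]
      exact mul_right_cancel this
    · exact Commute.mul_right (Commute.refl t) hcomm
    · exact Commute.mul_right hcomm.symm (Commute.refl x)

/-- Let q be odd, F the field with q² elements and S = SU_3(F) (determinant-one isometries of the standard Hermitian form). Then all involutions of S are conjugate; there are exactly q²(q²−q+1) of them; the centralizer of an involution has order q(q+1)(q²−1), the order of the full unitary group of degree 2; and for two distinct commuting involutions t and x there is exactly one further involution commuting with both. -/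
theorem result {F : Type*} [Field F] [Fintype F] {q : ℕ} (hq : Odd q)
    (hF : Fintype.card F = q ^ 2) (t : ↥(Cfsg.SU 3 F q)) (ht : t ≠ 1) (ht2 : t * t = 1) :
    (∀ x : ↥(Cfsg.SU 3 F q), x ≠ 1 → x * x = 1 → ∃ g : ↥(Cfsg.SU 3 F q), g * t * g⁻¹ = x) ∧
    Nat.card {x : ↥(Cfsg.SU 3 F q) // x ≠ 1 ∧ x * x = 1} = q ^ 2 * (q ^ 2 - q + 1) ∧
    Nat.card ↥(Subgroup.centralizer ({t} : Set ↥(Cfsg.SU 3 F q))) = q * (q + 1) * (q ^ 2 - 1) ∧
    ∀ x : ↥(Cfsg.SU 3 F q), x ≠ 1 → x * x = 1 → x ≠ t → Commute t x →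
      Nat.card {y : ↥(Cfsg.SU 3 F q) // y ≠ 1 ∧ y * y = 1 ∧ y ≠ t ∧ y ≠ x ∧ Commute t y ∧ Commute x y} = 1 := by
  have h2 : (2 : F) ≠ 0 := two_ne_zero_of_odd_card hq hF
  have hq2 := q_ge_two hF
  have hconj : ∀ x : ↥(Cfsg.SU 3 F q), x ≠ 1 → x * x = 1 →
      ∃ g : ↥(Cfsg.SU 3 F q), g * t * g⁻¹ = x :=
    fun x hx1 hx2 => involutions_conj hF h2 t x ht ht2 hx1 hx2
  have hGU2 : Nat.card (Cfsg.GU 2 F q) = q * (q + 1) * (q ^ 2 - 1) := by
    rw [Cfsg.Agent.Lib.Helper5.card_GU hF 2]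
    simp [Finset.prod_range_succ]
    ring
  have hcent : Nat.card ↥(Subgroup.centralizer ({t} : Set ↥(Cfsg.SU 3 F q)))
      = q * (q + 1) * (q ^ 2 - 1) := by
    rw [card_centralizer_involution hF h2 t ht ht2, hGU2]
  refine ⟨hconj, ?_, hcent, ?_⟩
  · -- the number of involutions
    have h1 := card_conj_mul_card_centralizer t
    have h3 : Nat.card {x : ↥(Cfsg.SU 3 F q) // ∃ g : ↥(Cfsg.SU 3 F q), g * t * g⁻¹ = x}
        = Nat.card {x : ↥(Cfsg.SU 3 F q) // x ≠ 1 ∧ x * x = 1} := by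
      apply Nat.card_congr
      refine Equiv.subtypeEquivRight (fun x => ⟨?_, fun h => hconj x h.1 h.2⟩)
      rintro ⟨g, rfl⟩
      constructor
      · intro h
        apply ht
        have : t = g⁻¹ * (g * t * g⁻¹) * g := by group
        rw [this, h]
        group
      · calc g * t * g⁻¹ * (g * t * g⁻¹) = g * (t * t) * g⁻¹ := by group
          _ = 1 := by rw [ht2]; group
    rw [h3, hcent] at h1
    have hSU := Cfsg.Agent.Lib.Helper5.card_SU hF 3 (by norm_num)
    rw [Cfsg.Agent.Lib.Helper5.card_GU hF 3] at hSU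
    simp [Finset.prod_range_succ] at hSU
    -- hSU : (q+1) * card SU = q^3 * ((q+1) * (q^2-1) * (q^3+1))
    obtain ⟨s, hs⟩ : ∃ s, q ^ 2 = s + q := ⟨q ^ 2 - q, by
      have : q ≤ q ^ 2 := by nlinarith
      omega⟩
    have hs' : q ^ 2 - q + 1 = s + 1 := by omega
    rw [hs']
    have hpos : 0 < q * (q + 1) * (q ^ 2 - 1) * (q + 1) := by
      have : 1 ≤ q ^ 2 - 1 := by
        have : 4 ≤ q ^ 2 := by nlinarith
        omega
      positivity
    apply Nat.eq_of_mul_eq_mul_right hpos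
    have h4 : q ^ 3 + 1 = (q + 1) * (s + 1) := by
      have : q ^ 3 = q * (s + q) := by rw [← hs]; ring
      rw [this]
      have : q * q = s + q := by rw [← hs]; ring
      nlinarith
    calc Nat.card {x : ↥(Cfsg.SU 3 F q) // x ≠ 1 ∧ x * x = 1} * (q * (q + 1) * (q ^ 2 - 1) * (q + 1))
        = (q + 1) * (Nat.card {x : ↥(Cfsg.SU 3 F q) // x ≠ 1 ∧ x * x = 1}
            * (q * (q + 1) * (q ^ 2 - 1))) := by ring
      _ = (q + 1) * Nat.card ↥(Cfsg.SU 3 F q) := by rw [h1]
      _ = q ^ 2 * (s + 1) * (q * (q + 1) * (q ^ 2 - 1) * (q + 1)) := by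
          rw [hSU, h4]
          ring
  · intro x hx1 hx2 hxt hcomm
    have h3 := third_involution hF h2 t x ht ht2 hx1 hx2 hxt hcomm
    rw [Nat.card_congr (Equiv.subtypeEquivRight h3)]
    rw [Nat.card_eq_one_iff_unique]
    exact ⟨⟨fun a b => Subtype.ext (a.2.trans b.2.symm)⟩, ⟨⟨t * x, rfl⟩⟩⟩

end Cfsg.Agent.S2360
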