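import Cfsg.Statements.S2356
import Mathlib
import Cfsg.Agent.Lib.Helper13.SU3Graph5
import Cfsg.Agent.S2360

set_option autoImplicit false
open Cfsg

namespace Cfsg.Agent.S2356

open Matrix Cfsg.Agent.Lib.Helper99 Cfsg.Agent.Lib.Helper13

/-- splitting a finite subtype along a further predicate -/
theorem card_split {α : Type*} [Finite α] (A B : α → Prop) :
    Nat.card {x // A x} = Nat.card {x // A x ∧ B x} + Nat.card {x // A x ∧ ¬ B x} := by
  classical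
  have := Fintype.ofFinite α
  rw [Nat.card_eq_fintype_card, Nat.card_eq_fintype_card, Nat.card_eq_fintype_card,
    Fintype.card_subtype, Fintype.card_subtype, Fintype.card_subtype, ← Finset.filter_filter,
    ← Finset.filter_filter, Finset.card_filter_add_card_filter_not]

/-- Let q be odd, F the field with q² elements, S = SU_3(F) (determinant-one isometries of the standard Hermitian form) and t an involution of S. Then: exactly q(q−1) involutions other than t commute with t; exactly q(q−2)(q²−1) involutions do not commute with t but commute with some involution commuting with t; exactly (q+1)(q²−1) involutions x do not commute with t and admit no involution commuting with both t and x; and every involution can be reached from t in at most three steps, each step going to an involution that commutes with the previous one (the commuting involution graph is connected of diameter 3). -/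
theorem result {F : Type*} [Field F] [Fintype F] {q : ℕ} (hq : Odd q)
    (hF : Fintype.card F = q ^ 2) (t : ↥(Cfsg.SU 3 F q)) (ht : t ≠ 1) (ht2 : t * t = 1) :
    Nat.card {x : ↥(Cfsg.SU 3 F q) // x ≠ 1 ∧ x * x = 1 ∧ x ≠ t ∧ Commute t x} = q * (q - 1) ∧
    Nat.card {x : ↥(Cfsg.SU 3 F q) // x ≠ 1 ∧ x * x = 1 ∧ ¬ Commute t x ∧
        ∃ y : ↥(Cfsg.SU 3 F q), y ≠ 1 ∧ y * y = 1 ∧ Commute t y ∧ Commute y x} = q * (q - 2) * (q ^ 2 - 1) ∧
    Nat.card {x : ↥(Cfsg.SU 3 F q) // x ≠ 1 ∧ x * x = 1 ∧ ¬ Commute t x ∧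
        ∀ y : ↥(Cfsg.SU 3 F q), y ≠ 1 → y * y = 1 → ¬ (Commute t y ∧ Commute y x)} = (q + 1) * (q ^ 2 - 1) ∧
    ∀ x : ↥(Cfsg.SU 3 F q), x ≠ 1 → x * x = 1 →
      ∃ y z : ↥(Cfsg.SU 3 F q), y ≠ 1 ∧ y * y = 1 ∧ z ≠ 1 ∧ z * z = 1 ∧
        Commute t y ∧ Commute y z ∧ Commute z x := by
  have h2 : (2 : F) ≠ 0 := two_ne_zero_of_odd_card hq hF
  have hq2 := q_ge_two hF
  obtain ⟨a, haa, hta⟩ := involution_structure hF h2 t ht ht2
  have hta' : IsReflOf t a := hta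
  -- count 1
  have hC1 : Nat.card {x : ↥(Cfsg.SU 3 F q) // x ≠ 1 ∧ x * x = 1 ∧ x ≠ t ∧ Commute t x}
      = q * (q - 1) := by
    have h1 := card_unit_fiber hF hq (fun x : ↥(Cfsg.SU 3 F q) => x ≠ t ∧ Commute t x)
    rw [Nat.card_congr (Equiv.subtypeEquivRight (fun b : Fin 3 → F =>
      and_congr_right (fun hbb => type1_iff hF hq t a b haa hbb hta'))),
      card_unit_perp hF a haa] at h1
    have hpos : 0 < q + 1 := by omega
    apply Nat.eq_of_mul_eq_mul_left hpos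
    rw [← h1]
    obtain ⟨r, rfl⟩ : ∃ r, q = r + 1 := ⟨q - 1, by omega⟩
    have : (r + 1) ^ 2 = (r + 1 + 1) * r + 1 := by ring
    rw [this, Nat.add_sub_cancel, Nat.add_sub_cancel]
    ring
  -- count 3
  have hC3 : Nat.card {x : ↥(Cfsg.SU 3 F q) // x ≠ 1 ∧ x * x = 1 ∧ ¬ Commute t x ∧
        ∀ y : ↥(Cfsg.SU 3 F q), y ≠ 1 → y * y = 1 → ¬ (Commute t y ∧ Commute y x)}
      = (q + 1) * (q ^ 2 - 1) := by
    have h1 := card_unit_fiber hF hq (fun x : ↥(Cfsg.SU 3 F q) => ¬ Commute t x ∧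
        ∀ y : ↥(Cfsg.SU 3 F q), y ≠ 1 → y * y = 1 → ¬ (Commute t y ∧ Commute y x))
    rw [Nat.card_congr (Equiv.subtypeEquivRight (fun b : Fin 3 → F =>
      and_congr_right (fun hbb => type3_iff hF hq t a b haa hbb hta'))),
      card_unit_isotropic_part hF a haa] at h1
    have hpos : 0 < q + 1 := by omega
    exact (Nat.eq_of_mul_eq_mul_left hpos h1).symm
  -- count 2, by subtraction
  have hInv := (Cfsg.Agent.S2360.result hq hF t ht ht2).2.1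
  have hC2 : Nat.card {x : ↥(Cfsg.SU 3 F q) // x ≠ 1 ∧ x * x = 1 ∧ ¬ Commute t x ∧
        ∃ y : ↥(Cfsg.SU 3 F q), y ≠ 1 ∧ y * y = 1 ∧ Commute t y ∧ Commute y x}
      = q * (q - 2) * (q ^ 2 - 1) := by
    have s1 := card_split (fun x : ↥(Cfsg.SU 3 F q) => x ≠ 1 ∧ x * x = 1)
      (fun x => Commute t x)
    have s2 := card_split (fun x : ↥(Cfsg.SU 3 F q) => (x ≠ 1 ∧ x * x = 1) ∧ Commute t x)
      (fun x => x = t)
    have s3 := card_split (fun x : ↥(Cfsg.SU 3 F q) => (x ≠ 1 ∧ x * x = 1) ∧ ¬ Commute t x)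
      (fun x => ∃ y : ↥(Cfsg.SU 3 F q), y ≠ 1 ∧ y * y = 1 ∧ Commute t y ∧ Commute y x)
    have e1 : Nat.card {x : ↥(Cfsg.SU 3 F q) // ((x ≠ 1 ∧ x * x = 1) ∧ Commute t x) ∧ x = t}
        = 1 := by
      rw [Nat.card_eq_one_iff_unique]
      refine ⟨⟨fun x y => Subtype.ext (x.2.2.trans y.2.2.symm)⟩, ⟨⟨t, ⟨⟨ht, ht2⟩, Commute.refl t⟩, rfl⟩⟩⟩
    have e2 : Nat.card {x : ↥(Cfsg.SU 3 F q) // ((x ≠ 1 ∧ x * x = 1) ∧ Commute t x) ∧ ¬ x = t}
        = q * (q - 1) := by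
      rw [← hC1]
      apply Nat.card_congr
      exact Equiv.subtypeEquivRight (fun x =>
        ⟨fun ⟨⟨⟨h1, h4⟩, h5⟩, h6⟩ => ⟨h1, h4, h6, h5⟩,
          fun ⟨h1, h4, h6, h5⟩ => ⟨⟨⟨h1, h4⟩, h5⟩, h6⟩⟩)
    have e3 : Nat.card {x : ↥(Cfsg.SU 3 F q) // ((x ≠ 1 ∧ x * x = 1) ∧ ¬ Commute t x) ∧
          ¬ ∃ y : ↥(Cfsg.SU 3 F q), y ≠ 1 ∧ y * y = 1 ∧ Commute t y ∧ Commute y x}
        = (q + 1) * (q ^ 2 - 1) := by
      rw [← hC3]
      apply Nat.card_congr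
      refine Equiv.subtypeEquivRight (fun x => ?_)
      constructor
      · rintro ⟨⟨⟨h1, h4⟩, h5⟩, h6⟩
        exact ⟨h1, h4, h5, fun y hy1 hy2 hyy => h6 ⟨y, hy1, hy2, hyy.1, hyy.2⟩⟩
      · rintro ⟨h1, h4, h5, h6⟩
        refine ⟨⟨⟨h1, h4⟩, h5⟩, ?_⟩
        rintro ⟨y, hy1, hy2, hty, hyx⟩
        exact h6 y hy1 hy2 ⟨hty, hyx⟩
    have e4 : Nat.card {x : ↥(Cfsg.SU 3 F q) // ((x ≠ 1 ∧ x * x = 1) ∧ ¬ Commute t x) ∧
          ∃ y : ↥(Cfsg.SU 3 F q), y ≠ 1 ∧ y * y = 1 ∧ Commute t y ∧ Commute y x}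
        = Nat.card {x : ↥(Cfsg.SU 3 F q) // x ≠ 1 ∧ x * x = 1 ∧ ¬ Commute t x ∧
        ∃ y : ↥(Cfsg.SU 3 F q), y ≠ 1 ∧ y * y = 1 ∧ Commute t y ∧ Commute y x} := by
      apply Nat.card_congr
      exact Equiv.subtypeEquivRight (fun x =>
        ⟨fun ⟨⟨⟨h1, h4⟩, h5⟩, h6⟩ => ⟨h1, h4, h5, h6⟩,
          fun ⟨h1, h4, h5, h6⟩ => ⟨⟨⟨h1, h4⟩, h5⟩, h6⟩⟩)
    rw [e1, e2] at s2
    rw [e3, e4] at s3
    rw [s2, s3, hInv] at s1
    obtain ⟨C, hC⟩ : ∃ C : ℕ, C = Nat.card {x : ↥(Cfsg.SU 3 F q) // x ≠ 1 ∧ x * x = 1 ∧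
        ¬ Commute t x ∧
        ∃ y : ↥(Cfsg.SU 3 F q), y ≠ 1 ∧ y * y = 1 ∧ Commute t y ∧ Commute y x} := ⟨_, rfl⟩
    rw [← hC] at s1 ⊢
    obtain ⟨k, hk⟩ := hq
    obtain ⟨r, rfl⟩ : ∃ r, q = r + 2 := ⟨q - 2, by omega⟩
    have k1 : (r + 2) ^ 2 - 1 = r ^ 2 + 4 * r + 3 := by
      have : (r + 2) ^ 2 = r ^ 2 + 4 * r + 3 + 1 := by ring
      rw [this, Nat.add_sub_cancel]
    have k2 : (r + 2) ^ 2 - (r + 2) + 1 = r ^ 2 + 3 * r + 3 := by
      have : (r + 2) ^ 2 = r ^ 2 + 3 * r + 2 + (r + 2) := by ring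
      rw [this, Nat.add_sub_cancel]
    have k3 : r + 2 - 1 = r + 1 := by omega
    have k4 : r + 2 - 2 = r := by omega
    rw [k1, k2, k3] at s1
    rw [k1, k4]
    have k5 : (r + 2) ^ 2 * (r ^ 2 + 3 * r + 3)
        = 1 + (r + 2) * (r + 1) + ((r + 2) * r * (r ^ 2 + 4 * r + 3)
          + (r + 2 + 1) * (r ^ 2 + 4 * r + 3)) := by ring
    rw [k5] at s1
    omega
  refine ⟨hC1, hC2, hC3, ?_⟩
  -- the diameter
  intro x hx1 hx2
  by_cases hc : Commute t x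
  · exact ⟨t, t, ht, ht2, ht, ht2, Commute.refl t, Commute.refl t, hc⟩
  by_cases hp : ∃ y : ↥(Cfsg.SU 3 F q), y ≠ 1 ∧ y * y = 1 ∧ Commute t y ∧ Commute y x
  · obtain ⟨y, hy1, hy2, hty, hyx⟩ := hp
    exact ⟨y, y, hy1, hy2, hy1, hy2, hty, Commute.refl y, hyx⟩
  obtain ⟨b, hbb, hxb⟩ := involution_structure hF h2 x hx1 hx2
  have hxb' : IsReflOf x b := hxb
  have h6 := hc
  rw [commute_refl_vec_iff hF h2 t x a b haa hbb hta' hxb'] at h6
  push Not at h6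
  have hw : b - Cfsg.hermForm 3 F q b a • a ≠ 0 := sub_ne_zero.2 h6.1
  have hww : Cfsg.hermForm 3 F q (b - Cfsg.hermForm 3 F q b a • a)
      (b - Cfsg.hermForm 3 F q b a • a) = 0 := by
    by_contra hne
    exact hp ((exists_path_iff hF hq t x a b haa hbb hta' hxb' hc).2
      ((exists_common_perp_iff hF a b haa hw).2 hne))
  obtain ⟨d, e, hdd, hee, had, hde, heb⟩ := exists_path3 hF hq a b haa hbb hw hww
  obtain ⟨y, hyd⟩ := exists_isReflOf hF hq d hdd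
  obtain ⟨z, hze⟩ := exists_isReflOf hF hq e hee
  exact ⟨y, z, isReflOf_ne_one hF h2 y d hdd hyd, isReflOf_sq y d hdd hyd,
    isReflOf_ne_one hF h2 z e hee hze, isReflOf_sq z e hee hze,
    commute_of_orth hF t y a d hta' hyd had, commute_of_orth hF y z d e hyd hze hde,
    commute_of_orth hF z x e b hze hxb' heb⟩

end Cfsg.Agent.S2356
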