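import Cfsg.Statements.S2362
import Cfsg.Agent.Lib.Helper39.SpecK
import Cfsg.Agent.Lib.Helper39.SpecM
-- import your own Cfsg.Agent.* helpers here

set_option autoImplicit false
open Cfsg

namespace Cfsg.Agent.S2362

/-- Let F be a finite field of odd order and n ≥ 3. The simple orthogonal group PΩ(2n+1, F) (type B_n) and the projective symplectic group PSp(2n, F) (type C_n), which have the same order, do not have the same set of element orders. -/
theorem result {F : Type*} [Field F] [Fintype F] (hodd : Odd (Fintype.card F)) (n : ℕ) (hn : 3 ≤ n) :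
    Set.range (orderOf : Cfsg.POmega F (Cfsg.quadFormOdd n F) → ℕ) ≠ Set.range (orderOf : Cfsg.PSp n F → ℕ) := by
  classical
  rw [Cfsg.Agent.Lib.Helper43.oddForm_coe]
  intro heq
  obtain ⟨p, hchar⟩ := CharP.exists F
  have := hchar
  have : Fact p.Prime := ⟨(CharP.char_is_prime_or_zero F p).resolve_right
    (fun h => by
      subst h
      have : CharZero F := CharP.charP_to_charZero F
      exact not_finite F)⟩
  have h2 : (2 : F) ≠ 0 := by
    rw [Cfsg.Agent.Lib.Helper43.two_ne_zero_iff_odd_card]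
    exact Nat.odd_iff.mp hodd
  obtain ⟨x, hx⟩ := Cfsg.Agent.Lib.Helper39.Spec.exists_PSp_element hodd n hn p
  have hmem : p * (Fintype.card F ^ (n - 1) + 1) ∈
      Set.range (orderOf : Cfsg.PSp n F → ℕ) := ⟨x, hx⟩
  rw [← heq] at hmem
  obtain ⟨y, hy⟩ := hmem
  obtain ⟨g, rfl⟩ := QuotientGroup.mk_surjective y
  have hZ := Cfsg.Agent.Lib.Helper39.TwoRk.center_omega_odd_eq_bot n F h2 hn
  have hinj : Function.Injective (QuotientGroup.mk' (Subgroup.center
      ↥(Cfsg.Omega F ⇑(Cfsg.Agent.Lib.Helper43.oddForm n F)))) := by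
    rw [← MonoidHom.ker_eq_bot_iff, QuotientGroup.ker_mk']
    exact hZ
  have h1 : orderOf (g : ↥(Cfsg.isometryGroup F ⇑(Cfsg.Agent.Lib.Helper43.oddForm n F))) =
      p * (Fintype.card F ^ (n - 1) + 1) := by
    rw [← hy, Subgroup.orderOf_coe]
    exact (orderOf_injective _ hinj g).symm
  exact Cfsg.Agent.Lib.Helper39.Spec.no_element_omega hodd n hn p g.1 g.2 h1

end Cfsg.Agent.S2362
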