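import Cfsg.Statements.S2364
import Cfsg.Agent.Lib.Helper20.UnipCent2

set_option autoImplicit false
set_option linter.style.haveILetI false
set_option linter.unusedSimpArgs false
set_option linter.unusedSectionVars false
open Cfsg

namespace Cfsg.Agent.S2364

open Cfsg.Agent.Lib.Helper20.UnipCent Matrix

/-- lifting an element of prime order through a quotient by a finite normal subgroup of coprime
order -/
theorem exists_lift_pow_eq_one {G : Type*} [Group G] (Z : Subgroup G) [Z.Normal] [Finite Z]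
    (a : G ⧸ Z) {p : ℕ} (hp : p.Prime) (ha : orderOf a = p) (hcop : (Nat.card Z).Coprime p) :
    ∃ x : G, (x : G ⧸ Z) = a ∧ x ^ p = 1 := by
  obtain ⟨a', rfl⟩ := QuotientGroup.mk_surjective a
  have hmem : a' ^ p ∈ Z := by
    rw [← QuotientGroup.eq_one_iff, QuotientGroup.mk_pow, ← ha]
    exact pow_orderOf_eq_one _
  obtain ⟨s, -, hs⟩ := Nat.exists_mul_mod_eq_one_of_coprime hcop hp.one_lt
  refine ⟨a' ^ (Nat.card Z * s), ?_, ?_⟩
  · rw [QuotientGroup.mk_pow, ← pow_mod_orderOf, ha, hs, pow_one]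
  · have h1 : (⟨a' ^ p, hmem⟩ : Z) ^ Nat.card Z = 1 := pow_card_eq_one'
    have h2 : (a' ^ p) ^ Nat.card Z = 1 := by
      have := congrArg Subtype.val h1
      rw [Subgroup.coe_pow] at this
      exact this
    rw [← pow_mul, mul_comm, pow_mul, pow_mul, h2, one_pow]

section

variable {F : Type*} [Field F] {n : ℕ}

theorem center_eq_one_of_pow {ℓ : ℕ} (hn : 0 < n) (h : ∀ μ : F, μ ^ ℓ = 1 → μ = 1)
    (c : SpecialLinearGroup (Fin n) F) (hc : c ∈ Subgroup.center (SpecialLinearGroup (Fin n) F))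
    (hcl : c ^ ℓ = 1) : c = 1 := by
  obtain ⟨μ, -, hμ⟩ := Matrix.SpecialLinearGroup.mem_center_iff.mp hc
  have h1 : (c ^ ℓ).1 = c.1 ^ ℓ := Matrix.SpecialLinearGroup.coe_pow c ℓ
  rw [hcl, ← hμ, ← map_pow] at h1
  have h2 := congrFun (congrFun h1 ⟨0, hn⟩) ⟨0, hn⟩
  have h3 : μ ^ ℓ = 1 := by
    have : ((1 : SpecialLinearGroup (Fin n) F).1 : Matrix (Fin n) (Fin n) F) = 1 := rfl
    rw [this] at h2
    simpa [Matrix.scalar_apply] using h2.symm
  apply Subtype.ext
  rw [← hμ, h _ h3, map_one]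
  rfl

theorem coprime_card_center [Fintype F] {ℓ : ℕ} (hℓ : ℓ.Prime) (hn : 0 < n)
    (h : ∀ μ : F, μ ^ ℓ = 1 → μ = 1) :
    (Nat.card (Subgroup.center (SpecialLinearGroup (Fin n) F))).Coprime ℓ := by
  classical
  apply Nat.Coprime.symm
  rw [Nat.Prime.coprime_iff_not_dvd hℓ]
  intro hdvd
  haveI : Fact ℓ.Prime := ⟨hℓ⟩
  obtain ⟨c, hc⟩ := exists_prime_orderOf_dvd_card' ℓ hdvd
  have h1 : (c : SpecialLinearGroup (Fin n) F) ^ ℓ = 1 := by
    have : c ^ ℓ = 1 := by rw [← hc]; exact pow_orderOf_eq_one c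
    have := congrArg Subtype.val this
    simpa using this
  have h2 := center_eq_one_of_pow hn h c.1 c.2 h1
  have h3 : c = 1 := Subtype.ext h2
  rw [h3, orderOf_one] at hc
  exact hℓ.one_lt.ne hc

end

/-- Let F be a finite field of characteristic p, n ≥ 4, and let a, b be commuting elements of PSL(n, F) with a of order p. Then every prime divisor of the order of b divides the order of SL(n − 2, F). -/
theorem result {F : Type*} [Field F] [Fintype F] (p : ℕ) [Fact p.Prime] [CharP F p] (n : ℕ) (hn : 4 ≤ n)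
    (a b : Matrix.ProjectiveSpecialLinearGroup (Fin n) F) (ha : orderOf a = p) (hab : Commute a b) :
    (orderOf b).primeFactors ⊆ (Nat.card (Matrix.SpecialLinearGroup (Fin (n - 2)) F)).primeFactors := by
  classical
  intro r hr
  rw [Nat.mem_primeFactors] at hr ⊢
  obtain ⟨hrp, hrb, hb0⟩ := hr
  refine ⟨hrp, ?_, Nat.card_pos.ne'⟩
  by_contra hnd
  have hp : p.Prime := Fact.out
  have hk : 2 ≤ n - 2 := by omega
  have hn0 : 0 < n := by omega
  have hyp := hyp_of_not_dvd hk hrp hnd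
  have hroot := no_root hk hrp hnd
  have hrp' : r ≠ p := by
    rintro rfl
    exact hnd (char_dvd_card hk)
  have hrF : (r : F) ≠ 0 := by
    intro h0
    have := (CharP.cast_eq_zero_iff F p r).mp h0
    exact hrp' ((Nat.prime_dvd_prime_iff_eq hp hrp).mp this).symm
  have hproot : ∀ μ : F, μ ^ p = 1 → μ = 1 := by
    intro μ hμ
    have h1 : (μ - 1) ^ p = 0 := by
      rw [sub_pow_char, hμ, one_pow, sub_self]
    exact sub_eq_zero.mp (pow_eq_zero_iff hp.ne_zero |>.mp h1)
  -- the element of order r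
  obtain ⟨b₁, hb₁⟩ : ∃ b₁, b₁ = b ^ (orderOf b / r) := ⟨_, rfl⟩
  have hb₁o : orderOf b₁ = r := by rw [hb₁]; exact orderOf_pow_orderOf_div hb0 hrb
  have hab₁ : Commute a b₁ := by rw [hb₁]; exact hab.pow_right _
  -- lifts
  obtain ⟨x, hxa, hxp⟩ := exists_lift_pow_eq_one _ a hp ha (coprime_card_center hp hn0 hproot)
  obtain ⟨y, hyb, hyr⟩ := exists_lift_pow_eq_one _ b₁ hrp hb₁o (coprime_card_center hrp hn0 hroot)
  have hx1 : x ≠ 1 := by
    rintro rfl
    rw [QuotientGroup.mk_one] at hxa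
    rw [← hxa, orderOf_one] at ha
    exact hp.one_lt.ne ha
  -- the lifts commute
  have hcomm : x * y = y * x := by
    obtain ⟨c, hc⟩ : ∃ c, c = x * y * x⁻¹ * y⁻¹ := ⟨_, rfl⟩
    have hcZ : c ∈ Subgroup.center (SpecialLinearGroup (Fin n) F) := by
      rw [← QuotientGroup.eq_one_iff, hc, QuotientGroup.mk_mul, QuotientGroup.mk_mul,
        QuotientGroup.mk_mul, QuotientGroup.mk_inv, QuotientGroup.mk_inv, hxa, hyb,
        hab₁.eq]
      group
    have hxy : x * y * x⁻¹ = c * y := by rw [hc]; group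
    have hcy : Commute c y := (Subgroup.mem_center_iff.mp hcZ y).symm
    have hcr : c ^ r = 1 := by
      have h1 : (x * y * x⁻¹) ^ r = 1 := by rw [conj_pow, hyr]; group
      rw [hxy, hcy.mul_pow, hyr, mul_one] at h1
      exact h1
    have hc1 := center_eq_one_of_pow hn0 hroot c hcZ hcr
    rw [hc1, one_mul] at hxy
    calc x * y = x * y * x⁻¹ * x := by group
      _ = y * x := by rw [hxy]
  -- pass to linear maps
  haveI : NeZero n := ⟨by omega⟩
  obtain ⟨N, hNdef⟩ : ∃ N : Matrix (Fin n) (Fin n) F, N = x.1 - 1 := ⟨_, rfl⟩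
  have hNp : N ^ p = 0 := by
    rw [hNdef, sub_pow_char_of_commute p (Commute.one_right _), one_pow]
    have : x.1 ^ p = 1 := by
      have e1 : (x ^ p).1 = x.1 ^ p := Matrix.SpecialLinearGroup.coe_pow x p
      rw [← e1, hxp]; rfl
    rw [this, sub_self]
  have hN0 : N ≠ 0 := by
    intro h0
    apply hx1
    apply Subtype.ext
    rw [hNdef] at h0
    exact sub_eq_zero.mp h0
  have hNY : N * y.1 = y.1 * N := by
    have h1 : x.1 * y.1 = y.1 * x.1 := congrArg Subtype.val hcomm
    rw [hNdef, sub_mul, mul_sub, h1, one_mul, mul_one]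
  have hYr : y.1 ^ r = 1 := by
    have e1 : (y ^ r).1 = y.1 ^ r := Matrix.SpecialLinearGroup.coe_pow y r
    rw [← e1, hyr]; rfl
  have hfin : Module.finrank F (Fin n → F) = n := Module.finrank_fin_fun F
  have key := eq_one_of_commute_nilpotent hfin hyp (by omega) hrF
    (Matrix.toLinAlgEquiv' N) (Matrix.toLinAlgEquiv' y.1)
    ⟨p, by rw [← map_pow, hNp, map_zero]⟩
    (by
      intro h0
      apply hN0
      exact (Matrix.toLinAlgEquiv' (R := F) (n := Fin n)).injective (by rw [h0, map_zero]))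
    (by rw [← map_mul, ← map_mul, hNY])
    (by rw [← map_pow, hYr, map_one])
  have hy1 : y.1 = 1 :=
    (Matrix.toLinAlgEquiv' (R := F) (n := Fin n)).injective (by rw [key, map_one])
  have hy : y = 1 := Subtype.ext hy1
  rw [hy, QuotientGroup.mk_one] at hyb
  rw [← hyb, orderOf_one] at hb₁o
  exact hrp.one_lt.ne hb₁o

end Cfsg.Agent.S2364
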