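import Cfsg.Statements.S2365
import Cfsg.Agent.S2364
import Cfsg.Agent.Lib.Helper5.AutPSUMaps
import Cfsg.Agent.Lib.Helper5.SUCard
import Cfsg.Agent.Lib.Helper8.UnitaryCore

set_option autoImplicit false
set_option linter.style.haveILetI false
set_option linter.unusedSectionVars false
open Cfsg

namespace Cfsg.Agent.S2365

open Cfsg.Agent.Lib.Helper40.Herm Cfsg.Agent.Lib.Helper8.ULag Cfsg.Agent.Lib.Helper99.SURoot Matrix

section arith
variable {F : Type*} [Field F] [Fintype F] {q : ℕ}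

theorem card_GU_dvd (hF : Fintype.card F = q ^ 2) {k n : ℕ} (hkn : k ≤ n) :
    Nat.card (Cfsg.GU k F q) ∣ Nat.card (Cfsg.GU n F q) := by
  rw [Cfsg.Agent.Lib.Helper5.card_GU hF k, Cfsg.Agent.Lib.Helper5.card_GU hF n]
  apply Nat.mul_dvd_mul
  · apply pow_dvd_pow
    apply Nat.div_le_div_right
    exact Nat.mul_le_mul hkn (Nat.sub_le_sub_right hkn 1)
  · apply Finset.prod_dvd_prod_of_subset
    exact Finset.range_subset_range.mpr hkn

theorem card_SU_eq (hF : Fintype.card F = q ^ 2) (n : ℕ) :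
    Nat.card (Cfsg.SU (n + 1) F q) = q ^ ((n + 1) * n / 2) *
      ∏ i ∈ Finset.range n, (if Even (i + 1) then q ^ (i + 1 + 1) + 1 else q ^ (i + 1 + 1) - 1) := by
  have h1 := Cfsg.Agent.Lib.Helper5.card_SU hF (n + 1) (by omega)
  rw [Cfsg.Agent.Lib.Helper5.card_GU hF (n + 1), Finset.prod_range_succ'] at h1
  have h2 : (if Even 0 then q ^ (0 + 1) + 1 else q ^ (0 + 1) - 1) = q + 1 := by simp
  rw [h2, Nat.add_sub_cancel] at h1
  have hq1 : 0 < q + 1 := by omega
  apply Nat.eq_of_mul_eq_mul_left hq1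
  rw [h1]
  ring

theorem arith (hF : Fintype.card F = q ^ 2) (m : ℕ) (hm : 4 ≤ m) (r : ℕ) (hr : r.Prime)
    (hnd : ¬ r ∣ Nat.card (Cfsg.SU (m - 2) F q)) :
    ¬ r ∣ q ∧ ¬ r ∣ q + 1 ∧ ∀ k, 1 ≤ k → k + 2 ≤ m → ¬ r ∣ Nat.card (Cfsg.GU k F q) := by
  obtain ⟨n, hn⟩ : ∃ n, m - 2 = n + 1 := ⟨m - 3, by omega⟩
  have hn1 : 1 ≤ n := by omega
  rw [hn] at hnd
  have hSU := card_SU_eq hF n
  have hrq : ¬ r ∣ q := by
    intro h
    apply hnd
    rw [hSU]
    apply Dvd.dvd.mul_right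
    apply h.trans
    apply dvd_pow_self
    have : 2 ≤ (n + 1) * n := by nlinarith
    have := Nat.div_pos this two_pos
    omega
  have hrq1 : ¬ r ∣ q + 1 := by
    intro h
    apply hnd
    rw [hSU]
    apply Dvd.dvd.mul_left
    apply h.trans
    have hmem : 0 ∈ Finset.range n := Finset.mem_range.mpr hn1
    refine Dvd.dvd.trans ?_ (Finset.dvd_prod_of_mem _ hmem)
    have h2 : (if Even (0 + 1) then q ^ (0 + 1 + 1) + 1 else q ^ (0 + 1 + 1) - 1) = q ^ 2 - 1 := by
      simp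
    rw [h2]
    refine ⟨q - 1, ?_⟩
    rcases Nat.eq_zero_or_pos q with h0 | h0
    · subst h0; simp
    · obtain ⟨t, rfl⟩ : ∃ t, q = t + 1 := ⟨q - 1, by omega⟩
      rw [Nat.add_sub_cancel]
      apply Nat.sub_eq_of_eq_add
      ring
  refine ⟨hrq, hrq1, ?_⟩
  intro k _ hk2 hdvd
  have hkn : k ≤ n + 1 := by omega
  have h1 := hdvd.trans (card_GU_dvd hF hkn)
  rw [← Cfsg.Agent.Lib.Helper5.card_SU hF (n + 1) (by omega)] at h1
  rcases (Nat.Prime.dvd_mul hr).mp h1 with h | h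
  · exact hrq1 h
  · exact hnd h

theorem char_dvd_q (p : ℕ) [Fact p.Prime] [CharP F p] (hF : Fintype.card F = q ^ 2) : p ∣ q := by
  have h1 : ((Fintype.card F : ℕ) : F) = 0 := Nat.cast_card_eq_zero F
  have h2 : p ∣ Fintype.card F := (CharP.cast_eq_zero_iff F p _).1 h1
  rw [hF] at h2
  exact (Fact.out : p.Prime).dvd_of_dvd_pow h2

/-- an element with `c₀ ^ q = - c₀` -/
theorem exists_skew (hF : Fintype.card F = q ^ 2) : ∃ c₀ : F, c₀ ≠ 0 ∧ tauHom hF c₀ = -c₀ := by
  have hne := tauHom_ne_id hF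
  have hex : ∃ x : F, tauHom hF x ≠ x := by
    by_contra hall
    push Not at hall
    apply hne
    apply RingHom.ext
    intro x
    exact hall x
  obtain ⟨x, hx⟩ := hex
  refine ⟨x - tauHom hF x, ?_, ?_⟩
  · intro h
    apply hx
    exact (sub_eq_zero.mp h).symm
  · rw [map_sub, tauHom_tauHom]
    ring

end arith

section grp

theorem eq_one_of_pow_of_coprime {G : Type*} [Group G] (Z : Subgroup G) [Finite Z] (c : G)
    (hc : c ∈ Z) (n : ℕ) (hcn : c ^ n = 1) (hcop : (Nat.card Z).Coprime n) : c = 1 := by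
  have h1 : orderOf (⟨c, hc⟩ : Z) ∣ Nat.card Z := orderOf_dvd_natCard _
  have h2 : orderOf (⟨c, hc⟩ : Z) ∣ n := by
    apply orderOf_dvd_of_pow_eq_one
    apply Subtype.ext
    rw [Subgroup.coe_pow]
    exact hcn
  have h3 : orderOf (⟨c, hc⟩ : Z) ∣ 1 := by
    have := Nat.dvd_gcd h1 h2
    rwa [hcop] at this
  have h4 : (⟨c, hc⟩ : Z) = 1 := orderOf_eq_one_iff.mp (Nat.dvd_one.mp h3)
  exact congrArg Subtype.val h4

end grp

section su
variable {F : Type*} [Field F] [Fintype F] {q : ℕ} (m : ℕ)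

theorem mat_mul (g h : ↥(Cfsg.SU m F q)) : mat m (g * h) = mat m g * mat m h := by
  unfold mat
  rw [Subgroup.coe_mul, Matrix.SpecialLinearGroup.coe_mul]

theorem mat_one : mat m (1 : ↥(Cfsg.SU m F q)) = 1 := by
  unfold mat
  rw [Subgroup.coe_one, Matrix.SpecialLinearGroup.coe_one]

theorem mat_pow (g : ↥(Cfsg.SU m F q)) (k : ℕ) : mat m (g ^ k) = (mat m g) ^ k := by
  unfold mat
  rw [Subgroup.coe_pow, Matrix.SpecialLinearGroup.coe_pow]

theorem mat_inj {g h : ↥(Cfsg.SU m F q)} (H : mat m g = mat m h) : g = h :=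
  Subtype.ext (Subtype.ext H)

/-- the centre of `SU_m(q)` has order prime to `ℓ` if the only norm-one `ℓ`-th root of unity
is `1` -/
theorem coprime_center (hF : Fintype.card F = q ^ 2) (hm : 3 ≤ m) (ℓ : ℕ) (hℓ : ℓ.Prime)
    (hroot : ∀ ν : F, ν ^ ℓ = 1 → ν * ν ^ q = 1 → ν = 1) :
    (Nat.card (Subgroup.center ↥(Cfsg.SU m F q))).Coprime ℓ := by
  classical
  rw [Nat.coprime_comm, hℓ.coprime_iff_not_dvd]
  intro hdvd
  haveI : Fact ℓ.Prime := ⟨hℓ⟩
  obtain ⟨z, hz⟩ := exists_prime_orderOf_dvd_card' ℓ hdvd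
  have hz1 : z ≠ 1 := by
    intro h
    rw [h, orderOf_one] at hz
    exact hℓ.one_lt.ne hz
  obtain ⟨ν, hν1, hν⟩ := Cfsg.Agent.Lib.Helper5.AutPSU.exists_scalar_of_mem_center hF hm z.2
  have hzℓ : z.1 ^ ℓ = 1 := by
    have := pow_orderOf_eq_one z
    rw [hz] at this
    have h2 := congrArg Subtype.val this
    simpa using h2
  have hmat : mat m z.1 = ν • (1 : Matrix (Fin m) (Fin m) F) := by
    apply Matrix.ext_iff_mulVec.mpr
    intro v
    rw [hν v, Matrix.smul_mulVec, Matrix.one_mulVec]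
  have hpow : (ν ^ ℓ) • (1 : Matrix (Fin m) (Fin m) F) = 1 := by
    have h1 := mat_pow m z.1 ℓ
    rw [hzℓ, mat_one, hmat, smul_pow, one_pow] at h1
    exact h1.symm
  have hνℓ : ν ^ ℓ = 1 := by
    have h1 := congrFun (congrFun hpow ⟨0, by omega⟩) ⟨0, by omega⟩
    simpa using h1
  have hν1' : ν = 1 := hroot ν hνℓ hν1
  apply hz1
  apply Subtype.ext
  apply mat_inj m
  rw [hmat, hν1', one_smul, Subgroup.coe_one, mat_one]

/-- a nonzero self-adjoint nilpotent matrix commuting with the centraliser of a `p`-element -/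
theorem exists_selfadjoint_nilpotent (hF : Fintype.card F = q ^ 2) (p : ℕ) [Fact p.Prime]
    [CharP F p] (hm : 1 ≤ m) (x : ↥(Cfsg.SU m F q)) (hxp : x ^ p = 1) (hx1 : x ≠ 1) :
    ∃ N : Matrix (Fin m) (Fin m) F, N ≠ 0 ∧ N ^ p = 0 ∧
      (∀ a b, stdHerm hF m (N *ᵥ a) b = stdHerm hF m a (N *ᵥ b)) ∧
      (∀ y : ↥(Cfsg.SU m F q), x * y = y * x → mat m y * N = N * mat m y) := by
  classical
  haveI : NeZero m := ⟨by omega⟩
  have hp : p.Prime := Fact.out
  set U := mat m x with hU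
  set U' := mat m x⁻¹ with hU'
  have hUU' : U * U' = 1 := by rw [hU, hU', ← mat_mul, mul_inv_cancel, mat_one]
  have hU'U : U' * U = 1 := by rw [hU, hU', ← mat_mul, inv_mul_cancel, mat_one]
  have hUp : U ^ p = 1 := by rw [hU, ← mat_pow, hxp, mat_one]
  have hU'p : U' ^ p = 1 := by rw [hU', ← mat_pow, inv_pow, hxp, inv_one, mat_one]
  have hU1 : U ≠ 1 := by
    intro h
    apply hx1
    apply mat_inj m
    rw [← hU, h, mat_one]
  -- adjoint relations
  have hadj : ∀ a b, stdHerm hF m (U *ᵥ a) b = stdHerm hF m a (U' *ᵥ b) := by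
    intro a b
    have h1 := su_preserves m x a (U' *ᵥ b)
    rw [← hU, Matrix.mulVec_mulVec, hUU', Matrix.one_mulVec] at h1
    rw [stdHerm_apply, stdHerm_apply]
    exact h1
  have hadj' : ∀ a b, stdHerm hF m (U' *ᵥ a) b = stdHerm hF m a (U *ᵥ b) := by
    intro a b
    have h1 := su_preserves m x (U' *ᵥ a) b
    rw [← hU, Matrix.mulVec_mulVec, hUU', Matrix.one_mulVec] at h1
    rw [stdHerm_apply, stdHerm_apply]
    exact h1.symm
  have hcommU : ∀ y : ↥(Cfsg.SU m F q), x * y = y * x → mat m y * U = U * mat m y := by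
    intro y hxy
    rw [hU, ← mat_mul, ← mat_mul, hxy]
  have hcommU' : ∀ y : ↥(Cfsg.SU m F q), x * y = y * x → mat m y * U' = U' * mat m y := by
    intro y hxy
    rw [hU', ← mat_mul, ← mat_mul]
    congr 1
    calc y * x⁻¹ = x⁻¹ * (x * y) * x⁻¹ := by group
      _ = x⁻¹ * (y * x) * x⁻¹ := by rw [hxy]
      _ = x⁻¹ * y := by group
  by_cases hcase : U = U'
  · -- involution-like case
    refine ⟨U - 1, ?_, ?_, ?_, ?_⟩
    · intro h
      exact hU1 (sub_eq_zero.mp h)
    · rw [sub_pow_char_of_commute p (Commute.one_right _), one_pow, hUp, sub_self]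
    · intro a b
      rw [Matrix.sub_mulVec, Matrix.sub_mulVec, Matrix.one_mulVec, Matrix.one_mulVec, map_sub,
        map_sub, LinearMap.sub_apply, hadj, ← hcase]
    · intro y hxy
      rw [mul_sub, sub_mul, hcommU y hxy, mul_one, one_mul]
  · obtain ⟨c₀, hc₀, hc₀τ⟩ := exists_skew hF
    have hcomm : Commute U U' := by
      show U * U' = U' * U
      rw [hUU', hU'U]
    refine ⟨c₀ • (U - U'), ?_, ?_, ?_, ?_⟩
    · intro h
      rcases smul_eq_zero.mp h with h1 | h1
      · exact hc₀ h1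
      · exact hcase (sub_eq_zero.mp h1)
    · rw [smul_pow, sub_pow_char_of_commute p hcomm, hUp, hU'p, sub_self, smul_zero]
    · intro a b
      rw [Matrix.smul_mulVec, Matrix.smul_mulVec, Matrix.sub_mulVec, Matrix.sub_mulVec,
        map_smul, LinearMap.smul_apply, LinearMap.map_smulₛₗ, map_sub, map_sub,
        LinearMap.sub_apply, hadj, hadj', hc₀τ, smul_eq_mul, smul_eq_mul]
      ring
    · intro y hxy
      rw [Matrix.mul_smul, Matrix.smul_mul, mul_sub, sub_mul, hcommU y hxy, hcommU' y hxy]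

end su

/-- Let q be a power of the prime p, F the field with q² elements, m ≥ 4, and let a, b be commuting elements of PSU(m, q) with a of order p. Then every prime divisor of the order of b divides the order of SU(m − 2, q). -/
theorem result {F : Type*} [Field F] [Fintype F] (p : ℕ) [Fact p.Prime] [CharP F p] (m q : ℕ) (hm : 4 ≤ m) (hF : Fintype.card F = q ^ 2)
    (a b : Cfsg.PSU m F q) (ha : orderOf a = p) (hab : Commute a b) :
    (orderOf b).primeFactors ⊆ (Nat.card ↥(Cfsg.SU (m - 2) F q)).primeFactors := by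
  classical
  intro r hr
  rw [Nat.mem_primeFactors] at hr ⊢
  obtain ⟨hrp, hrb, hb0⟩ := hr
  refine ⟨hrp, ?_, Nat.card_pos.ne'⟩
  by_contra hnd
  have hp : p.Prime := Fact.out
  obtain ⟨hrq, hrq1, hGU⟩ := arith hF m hm r hrp hnd
  have hpq : p ∣ q := char_dvd_q p hF
  have hrp' : r ≠ p := by
    rintro rfl
    exact hrq hpq
  have hrF : (r : F) ≠ 0 := by
    intro h0
    have := (CharP.cast_eq_zero_iff F p r).mp h0
    exact hrp' ((Nat.prime_dvd_prime_iff_eq hp hrp).mp this).symm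
  have hproot : ∀ μ : F, μ ^ p = 1 → μ = 1 := by
    intro μ hμ
    have h1 : (μ - 1) ^ p = 0 := by
      rw [sub_pow_char, hμ, one_pow, sub_self]
    exact sub_eq_zero.mp (pow_eq_zero_iff hp.ne_zero |>.mp h1)
  have hrroot : ∀ ν : F, ν ^ r = 1 → ν * ν ^ q = 1 → ν = 1 := by
    intro ν h1 h2
    by_contra hne
    haveI : Fact r.Prime := ⟨hrp⟩
    have ho : orderOf ν = r := orderOf_eq_prime h1 hne
    have h3 : ν ^ (q + 1) = 1 := by rw [pow_succ']; exact h2
    have := orderOf_dvd_of_pow_eq_one h3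
    rw [ho] at this
    exact hrq1 this
  -- the element of order r
  obtain ⟨b₁, hb₁⟩ : ∃ b₁, b₁ = b ^ (orderOf b / r) := ⟨_, rfl⟩
  have hb₁o : orderOf b₁ = r := by rw [hb₁]; exact orderOf_pow_orderOf_div hb0 hrb
  have hab₁ : Commute a b₁ := by rw [hb₁]; exact hab.pow_right _
  have hm3 : 3 ≤ m := by omega
  have hcop_p := coprime_center m hF hm3 p hp (fun ν h1 _ => hproot ν h1)
  have hcop_r := coprime_center m hF hm3 r hrp hrroot
  obtain ⟨x, hxa, hxp⟩ := Cfsg.Agent.S2364.exists_lift_pow_eq_one _ a hp ha hcop_p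
  obtain ⟨y, hyb, hyr⟩ := Cfsg.Agent.S2364.exists_lift_pow_eq_one _ b₁ hrp hb₁o hcop_r
  have hx1 : x ≠ 1 := by
    rintro rfl
    rw [QuotientGroup.mk_one] at hxa
    rw [← hxa, orderOf_one] at ha
    exact hp.one_lt.ne ha
  -- the lifts commute
  have hcomm : x * y = y * x := by
    obtain ⟨c, hc⟩ : ∃ c, c = x * y * x⁻¹ * y⁻¹ := ⟨_, rfl⟩
    have hcZ : c ∈ Subgroup.center ↥(Cfsg.SU m F q) := by
      rw [← QuotientGroup.eq_one_iff, hc, QuotientGroup.mk_mul, QuotientGroup.mk_mul,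
        QuotientGroup.mk_mul, QuotientGroup.mk_inv, QuotientGroup.mk_inv, hxa, hyb,
        hab₁.eq]
      group
    have hxy : x * y * x⁻¹ = c * y := by rw [hc]; group
    have hcy : Commute c y := (Subgroup.mem_center_iff.mp hcZ y).symm
    have hcr : c ^ r = 1 := by
      have h1 : (x * y * x⁻¹) ^ r = 1 := by rw [conj_pow, hyr]; group
      rw [hxy, hcy.mul_pow, hyr, mul_one] at h1
      exact h1
    have hc1 := eq_one_of_pow_of_coprime _ c hcZ r hcr hcop_r
    rw [hc1, one_mul] at hxy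
    calc x * y = x * y * x⁻¹ * x := by group
      _ = y * x := by rw [hxy]
  -- linear algebra
  obtain ⟨N, hN0, hNp, hNadj, hNcomm⟩ :=
    exists_selfadjoint_nilpotent m hF p (by omega) x hxp hx1
  have hYr : (mat m y) ^ r = 1 := by rw [← mat_pow, hyr, mat_one]
  have key := eq_one_of_commute_nilpotent hF (stdHerm hF m) (stdHerm_isHermitian hF m)
    (stdHerm_nondeg hF m) m (Module.finrank_fin_fun F) hm r hrp hrF hGU
    (Matrix.toLin' (mat m y)) (Matrix.toLin' N)
    (by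
      intro u v
      rw [Matrix.toLin'_apply, Matrix.toLin'_apply, stdHerm_apply, stdHerm_apply]
      exact su_preserves m y u v)
    (by rw [← Matrix.toLin'_pow, hYr, Matrix.toLin'_one]; rfl)
    (by
      intro u v
      rw [Matrix.toLin'_apply, Matrix.toLin'_apply]
      exact hNadj u v)
    (by
      intro h0
      apply hN0
      apply Matrix.toLin'.injective
      rw [h0, map_zero])
    ⟨p, by rw [← Matrix.toLin'_pow, hNp, map_zero]⟩
    (by
      rw [Module.End.mul_eq_comp, Module.End.mul_eq_comp, ← Matrix.toLin'_mul,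
        ← Matrix.toLin'_mul, hNcomm y hcomm])
  have hy1 : mat m y = 1 := by
    apply Matrix.toLin'.injective
    rw [key, Matrix.toLin'_one]; rfl
  have hy : y = 1 := by
    apply mat_inj m
    rw [hy1, mat_one]
  rw [hy, QuotientGroup.mk_one] at hyb
  rw [← hyb, orderOf_one] at hb₁o
  exact hrp.one_lt.ne hb₁o

end Cfsg.Agent.S2365
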