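import Cfsg.Statements.S2366
import Cfsg.Agent.Lib.Helper8.PSU3Matrix
import Cfsg.Agent.Lib.Helper8.PSU3Ex2
import Cfsg.Agent.Lib.Helper8.PSU3Ex3

set_option autoImplicit false
open Cfsg

namespace Cfsg.Agent.S2366

open Cfsg.Agent.Lib.Helper8.PSU3 Cfsg.Agent.Lib.Helper8.PSU3T Cfsg.Agent.Lib.Helper8.PSU3E
open Cfsg.Agent.Lib.Helper99.SURoot Cfsg.Agent.Lib.Helper5.AutPSU

/-- The set of element orders of PSU(3, q) for an odd prime power q = p^n: writing d = gcd(3, q + 1), a positive integer is the order of some element exactly when it divides one of q + 1, p(q + 1)/d, (q² − 1)/d, (q² − q + 1)/d. -/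
theorem result {F : Type*} [Field F] [Fintype F] (p : ℕ) [Fact p.Prime] [CharP F p] (hp : p ≠ 2) (q : ℕ) (hF : Fintype.card F = q ^ 2) :
    Set.range (orderOf : Cfsg.PSU 3 F q → ℕ) =
      {s : ℕ | s ∣ q + 1} ∪ {s : ℕ | s ∣ p * (q + 1) / Nat.gcd 3 (q + 1)} ∪
        {s : ℕ | s ∣ (q ^ 2 - 1) / Nat.gcd 3 (q + 1)} ∪ {s : ℕ | s ∣ (q ^ 2 - q + 1) / Nat.gcd 3 (q + 1)} := by
  classical
  have hq2 : 2 ≤ q := Cfsg.Agent.Lib.Helper44.two_le_q_of_card hF
  obtain ⟨e, hqe⟩ := exists_nat_pow_eq hF p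
  have hpp : p.Prime := Fact.out
  have he : e ≠ 0 := by
    rintro rfl
    rw [pow_zero] at hqe
    omega
  have hp3 : 3 ≤ p := by
    have := hpp.two_le
    omega
  have hq3 : 3 ≤ q := by
    rw [hqe]
    exact hp3.trans (Nat.le_self_pow he p)
  have hpq : p ∣ q := by
    rw [hqe]
    exact dvd_pow_self p he
  apply Set.eq_of_subset_of_subset
  · rintro s ⟨y, rfl⟩
    obtain ⟨x, rfl⟩ := pr_surjective y
    obtain ⟨N, hN, c, hc⟩ := exists_pow_scalar hF p hp (mat 3 x) (su_preserves 3 x) (x.1).2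
    have h1 := pr_pow_eq_one_of_scalar x N c hc
    have h2 : orderOf (pr x : Cfsg.PSU 3 F q) ∣ N := orderOf_dvd_of_pow_eq_one h1
    rcases hN with h | h | h | h
    · left; left; left; exact h2.trans h
    · left; left; right; exact h2.trans h
    · left; right; exact h2.trans h
    · right; exact h2.trans h
  · rintro s (((hs | hs) | hs) | hs)
    · obtain ⟨x, hx⟩ := exists_order_q_add_one hF
      exact exists_orderOf_of_forall hF (le_refl 3) x _ hx s hs
    · obtain ⟨x, hx⟩ := exists_order_unip hF p hpq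
      exact exists_orderOf_of_forall hF (le_refl 3) x _ hx s hs
    · obtain ⟨x, hx⟩ := exists_order_torus hF hq3
      exact exists_orderOf_of_forall hF (le_refl 3) x _ hx s hs
    · have : Fintype (FiniteField.Extension F p 3) := Fintype.ofFinite _
      obtain ⟨x, hx⟩ := exists_order_cubic hF p e hqe (E := FiniteField.Extension F p 3)
        (FiniteField.finrank_extension F p 3)
      exact exists_orderOf_of_forall hF (le_refl 3) x _ hx s hs

end Cfsg.Agent.S2366
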