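import Cfsg.Statements.S2367

set_option autoImplicit false
open Cfsg

namespace Cfsg.Agent.S2367

open Nat in
theorem key_ineq (n : ℕ) (hn : 13 ≤ n) : 4 * n * (n + 3) ^ 3 < 27 * 2 ^ n := by
  induction n, hn using Nat.le_induction with
  | base => norm_num
  | succ n hn ih =>
    have h1 : 4 * (n + 1) * (n + 1 + 3) ^ 3 ≤ 2 * (4 * n * (n + 3) ^ 3) := by
      obtain ⟨m, rfl⟩ := Nat.exists_eq_add_of_le hn
      ring_nf
      nlinarith [sq_nonneg m]
    calc 4 * (n + 1) * (n + 1 + 3) ^ 3 ≤ 2 * (4 * n * (n + 3) ^ 3) := h1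
      _ < 2 * (27 * 2 ^ n) := by omega
      _ = 27 * 2 ^ (n + 1) := by ring

open Nat in
theorem two_pow_le (n : ℕ) (hn : 0 < n) : 2 ^ n ≤ 2 ^ (n)!.factorization 2 * (2 * n) := by
  have h := sub_one_mul_factorization_factorial (n := n) Nat.prime_two
  simp only [Nat.add_one_sub_one, one_mul] at h
  have hs : (Nat.digits 2 n).sum ≤ (Nat.digits 2 n).length := by
    have := List.sum_le_card_nsmul (Nat.digits 2 n) 1 (fun x hx => by
      have := Nat.digits_lt_base (b := 2) (m := n) (by norm_num) hx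
      omega)
    simpa using this
  have hl : (Nat.digits 2 n).length = Nat.log 2 n + 1 := by
    rw [Nat.length_digits 2 n (by norm_num) hn.ne']
  have hle : (Nat.digits 2 n).sum ≤ n := Nat.digit_sum_le 2 n
  have h2 : 2 ^ Nat.log 2 n ≤ n := Nat.pow_log_le_self 2 hn.ne'
  have : n = (n)!.factorization 2 + (Nat.digits 2 n).sum := by omega
  calc 2 ^ n = 2 ^ ((n)!.factorization 2 + (Nat.digits 2 n).sum) := by rw [← this]
    _ = 2 ^ (n)!.factorization 2 * 2 ^ (Nat.digits 2 n).sum := by rw [pow_add]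
    _ ≤ 2 ^ (n)!.factorization 2 * 2 ^ (Nat.log 2 n + 1) := by
        gcongr
        · norm_num
        · omega
    _ = 2 ^ (n)!.factorization 2 * (2 * 2 ^ Nat.log 2 n) := by ring
    _ ≤ 2 ^ (n)!.factorization 2 * (2 * n) := by gcongr

open Nat in
theorem alt_case (n : ℕ) (hn : 5 ≤ n) (p : ℕ) (hp : p.Prime) (hodd : p ≠ 2)
    (h3 : ((n)! / 2).factorization p = 3) : p ^ 3 < 2 ^ ((n)! / 2).factorization 2 := by
  have h2dvd : 2 ∣ (n)! := Nat.dvd_factorial (by norm_num) (by omega)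
  have hfd := Nat.factorization_div h2dvd
  have hp3 : (n)!.factorization p = 3 := by
    rw [hfd] at h3
    simpa [Nat.prime_two.factorization, Finsupp.single_apply, hodd.symm] using h3
  have h22 : ((n)! / 2).factorization 2 = (n)!.factorization 2 - 1 := by
    rw [hfd]
    simp [Nat.prime_two.factorization]
  rw [h22]
  have hL := sub_one_mul_factorization_factorial (n := n) hp
  rw [hp3] at hL
  have hp3' : 3 ≤ p := by
    have := hp.two_le
    omega
  have hn3 : (p - 1) * 3 ≤ n := by omega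
  by_cases h13 : 13 ≤ n
  · have hk := key_ineq n h13
    have ht := two_pow_le n (by omega)
    have hv1 : 0 < (n)!.factorization 2 :=
      Nat.prime_two.factorization_pos_of_dvd (Nat.factorial_ne_zero n) h2dvd
    obtain ⟨v, hv⟩ : ∃ v, (n)!.factorization 2 = v + 1 := ⟨(n)!.factorization 2 - 1, by omega⟩
    rw [hv] at ht ⊢
    simp only [Nat.add_sub_cancel]
    have h3p : 3 * p ≤ n + 3 := by omega
    have : 27 * p ^ 3 ≤ (n + 3) ^ 3 := by
      calc 27 * p ^ 3 = (3 * p) ^ 3 := by ring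
        _ ≤ (n + 3) ^ 3 := by gcongr
    by_contra hcon
    rw [not_lt] at hcon
    have : 27 * 2 ^ n ≤ 4 * n * (n + 3) ^ 3 := by
      calc 27 * 2 ^ n ≤ 27 * (2 ^ (v + 1) * (2 * n)) := by gcongr
        _ = 4 * n * (27 * 2 ^ v) := by ring
        _ ≤ 4 * n * (27 * p ^ 3) := by gcongr
        _ ≤ 4 * n * (n + 3) ^ 3 := by gcongr
    omega
  · rw [not_le] at h13
    have hp5 : p ≤ 5 := by omega
    exfalso
    clear h3 hfd hp3 h22 h2dvd
    interval_cases p
    · interval_cases n <;> norm_num at hL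
    · exact absurd hp (by norm_num)
    · interval_cases n <;> norm_num at hL

theorem spor_aux (N : ℕ)
    (hcheck : ∀ p ∈ N.primeFactorsList, p ≠ 2 → N.primeFactorsList.count p = 3 →
      p ^ 3 < 2 ^ (N.primeFactorsList.count 2)) :
    ∀ p, p.Prime → p ≠ 2 → N.factorization p = 3 → p ^ 3 < 2 ^ (N.factorization 2) := by
  intro p hp hodd h3
  rw [← Nat.primeFactorsList_count_eq] at h3 ⊢
  apply hcheck p _ hodd h3
  apply List.count_pos_iff.mp
  omega

set_option maxRecDepth 100000 in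
/-- Let G be an alternating group of degree at least 5 or a simple group with the order of one of the 26 sporadic groups, and let p be an odd prime such that p³ is the exact power of p dividing the order of G. Then p³ is less than the 2-part of the order of G. -/
theorem result {G : Type*} [Group G] [Finite G] (hG : Cfsg.IsAlternating G ∨ Cfsg.IsSporadic G)
    (p : ℕ) (hp : p.Prime) (hodd : p ≠ 2) (h3 : (Nat.card G).factorization p = 3) :
    p ^ 3 < 2 ^ (Nat.card G).factorization 2 := by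
  rcases hG with ⟨n, hn, ⟨e⟩⟩ | hS
  · have hc : Nat.card G = (n).factorial / 2 := by
      rw [Nat.card_congr e.toEquiv]
      haveI : Nontrivial (Fin n) := Fin.nontrivial_iff_two_le.mpr (by omega)
      rw [nat_card_alternatingGroup]
      simp
    rw [hc] at h3 ⊢
    exact alt_case n hn p hp hodd h3
  · unfold IsSporadic IsM11 IsM12 IsM22 IsM23 IsM24 IsJ1 IsJ2 IsJ3 IsJ4 IsCo1 IsCo2 IsCo3 IsFi22
      IsFi23 IsFi24' IsHS IsMcL IsHe IsRu IsSuz IsON IsHN IsLy IsTh IsB IsM at hS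
    rcases hS with ⟨-, h⟩ | ⟨-, h⟩ | ⟨-, h⟩ | ⟨-, h⟩ | ⟨-, h⟩ | ⟨-, h⟩ | ⟨-, h⟩ | ⟨-, h⟩ | ⟨-, h⟩ |
      ⟨-, h⟩ | ⟨-, h⟩ | ⟨-, h⟩ | ⟨-, h⟩ | ⟨-, h⟩ | ⟨-, h⟩ | ⟨-, h⟩ | ⟨-, h⟩ | ⟨-, h⟩ | ⟨-, h⟩ |
      ⟨-, h⟩ | ⟨-, h⟩ | ⟨-, h⟩ | ⟨-, h⟩ | ⟨-, h⟩ | ⟨-, h⟩ | ⟨-, h⟩ <;>
    · rw [h] at h3 ⊢
      refine spor_aux _ ?_ p hp hodd h3
      simp only [Nat.primeFactorsList_ofNat]
      decide

end Cfsg.Agent.S2367
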