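import Mathlib
import Cfsg.Statements.S2368
-- import your own Cfsg.Agent.* helpers here

set_option autoImplicit false
open Cfsg

namespace Cfsg.Agent.S2368

open Matrix Polynomial

theorem nilp_pow_card {F : Type*} [Field F] {m : ℕ} (N : Matrix (Fin m) (Fin m) F)
    (hN : IsNilpotent N) : N ^ m = 0 := by
  have h1 : N.charpoly = X ^ m := by
    have := (Matrix.isNilpotent_charpoly_sub_pow_of_isNilpotent hN).eq_zero
    simpa [sub_eq_zero] using this
  have h2 := Matrix.aeval_self_charpoly N
  rw [h1] at h2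
  simpa using h2

theorem part1 {F : Type*} [Field F] [Fintype F] (p : ℕ) [Fact p.Prime] [CharP F p] (m : ℕ) (hm : 1 ≤ m)
    (g : Matrix.GeneralLinearGroup (Fin m) F) (hg : ∃ j : ℕ, orderOf g = p ^ j) : orderOf g < p * m := by
  have hp : p.Prime := Fact.out
  obtain ⟨j, hj⟩ := hg
  have : Nonempty (Fin m) := ⟨⟨0, by omega⟩⟩
  have hgp : g ^ (p ^ j) = 1 := by rw [← hj]; exact pow_orderOf_eq_one g
  set M : Matrix (Fin m) (Fin m) F := (g : Matrix (Fin m) (Fin m) F) with hM
  have hMp : M ^ (p ^ j) = 1 := by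
    have := congrArg (fun x : Matrix.GeneralLinearGroup (Fin m) F => (x : Matrix (Fin m) (Fin m) F)) hgp
    simpa using this
  have hN : (M - 1) ^ (p ^ j) = 0 := by
    rw [sub_pow_char_pow_of_commute p j (Commute.one_right M), hMp, one_pow, sub_self]
  have hnil : IsNilpotent (M - 1) := ⟨p ^ j, hN⟩
  have hNm : (M - 1) ^ m = 0 := nilp_pow_card _ hnil
  -- k = clog p m
  set k := Nat.clog p m with hk
  have hmk : m ≤ p ^ k := Nat.le_pow_clog hp.one_lt m
  have hNk : (M - 1) ^ (p ^ k) = 0 := by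
    rw [← Nat.sub_add_cancel hmk, pow_add, hNm, mul_zero]
  have hMk : M ^ (p ^ k) = 1 := by
    have := sub_pow_char_pow_of_commute p k (Commute.one_right M)
    rw [hNk, one_pow] at this
    exact (sub_eq_zero.mp this.symm)
  have hgk : g ^ (p ^ k) = 1 := by
    apply Units.ext
    simpa using hMk
  have hle : orderOf g ≤ p ^ k := Nat.le_of_dvd (pow_pos hp.pos k) (orderOf_dvd_of_pow_eq_one hgk)
  have hlt : p ^ k < p * m := by
    rcases Nat.eq_zero_or_pos k with hk0 | hkpos
    · rw [hk0, pow_zero]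
      have := hp.one_lt
      nlinarith
    · have : p ^ (k - 1) < m := by
        apply Nat.pow_pred_clog_lt_self hp.one_lt
        by_contra hcon
        have hm1 : m ≤ 1 := by omega
        have : Nat.clog p m = 0 := Nat.clog_of_right_le_one hm1 p
        omega
      calc p ^ k = p * p ^ (k - 1) := by rw [← pow_succ', Nat.sub_add_cancel hkpos]
        _ < p * m := Nat.mul_lt_mul_of_pos_left this hp.pos
  omega



/-- the nilpotent shift matrix -/
def shiftJ (F : Type*) [Field F] (m : ℕ) : Matrix (Fin m) (Fin m) F :=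
  Matrix.of fun i j => if (i : ℕ) + 1 = (j : ℕ) then 1 else 0

theorem shiftJ_pow {F : Type*} [Field F] (m : ℕ) (k : ℕ) (i j : Fin m) :
    (shiftJ F m ^ k) i j = if (i : ℕ) + k = (j : ℕ) then 1 else 0 := by
  induction k generalizing j with
  | zero =>
    simp [Matrix.one_apply, Fin.ext_iff]
  | succ k ih =>
    rw [pow_succ, Matrix.mul_apply]
    have hJ : ∀ a b : Fin m, shiftJ F m a b = if (a : ℕ) + 1 = (b : ℕ) then 1 else 0 := fun _ _ => rfl
    simp only [ih, hJ]
    by_cases h : (i : ℕ) + (k + 1) = (j : ℕ)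
    · rw [if_pos h]
      have hl : (i : ℕ) + k < m := by have := j.2; omega
      rw [Finset.sum_eq_single (⟨(i : ℕ) + k, hl⟩ : Fin m)]
      · simp; omega
      · intro b _ hb
        have : ¬ ((i : ℕ) + k = (b : ℕ)) := by
          intro h'
          apply hb
          ext
          simp [h']
        simp [this]
      · simp
    · rw [if_neg h]
      apply Finset.sum_eq_zero
      intro l _
      by_cases h1 : (i : ℕ) + k = (l : ℕ)
      · have : ¬ ((l : ℕ) + 1 = (j : ℕ)) := by omega
        simp [this]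
      · simp [h1]

theorem shiftJ_pow_eq_zero_iff {F : Type*} [Field F] (m : ℕ) (k : ℕ) :
    shiftJ F m ^ k = 0 ↔ m ≤ k := by
  constructor
  · intro h
    by_contra hcon
    rw [not_le] at hcon
    have := congrFun (congrFun h ⟨0, by omega⟩) ⟨k, hcon⟩
    rw [shiftJ_pow] at this
    simp at this
  · intro h
    ext i j
    rw [shiftJ_pow]
    have := j.2
    simp
    omega

theorem part2 {F : Type*} [Field F] [Fintype F] (p : ℕ) [Fact p.Prime] [CharP F p] (m : ℕ) (hm : 1 ≤ m) :
    ∃ g : Matrix.GeneralLinearGroup (Fin m) F, (∃ j : ℕ, orderOf g = p ^ j) ∧ m ≤ orderOf g := by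
  have hp : p.Prime := Fact.out
  have : Nonempty (Fin m) := ⟨⟨0, by omega⟩⟩
  have hpow : ∀ k : ℕ, (1 + shiftJ F m) ^ (p ^ k) = 1 + shiftJ F m ^ (p ^ k) := by
    intro k
    rw [add_pow_char_pow_of_commute p k (Commute.one_left _), one_pow]
  have hmk : m ≤ p ^ (Nat.clog p m) := Nat.le_pow_clog hp.one_lt m
  have h1 : (1 + shiftJ F m) ^ (p ^ (Nat.clog p m)) = 1 := by
    rw [hpow, (shiftJ_pow_eq_zero_iff m _).mpr hmk, add_zero]
  have hunit : IsUnit (1 + shiftJ F m) := by
    apply IsUnit.of_pow_eq_one h1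
    exact (pow_pos hp.pos _).ne'
  obtain ⟨g, hg⟩ := hunit
  have hgpow : ∀ n : ℕ, g ^ n = 1 ↔ (1 + shiftJ F m) ^ n = 1 := by
    intro n
    rw [← hg]
    constructor
    · intro h
      have := congrArg (fun x : (Matrix (Fin m) (Fin m) F)ˣ => (x : Matrix (Fin m) (Fin m) F)) h
      simpa using this
    · intro h
      apply Units.ext
      simpa using h
  refine ⟨g, ?_, ?_⟩
  · have : orderOf g ∣ p ^ (Nat.clog p m) := orderOf_dvd_of_pow_eq_one ((hgpow _).mpr h1)
    obtain ⟨j, _, hj⟩ := (Nat.dvd_prime_pow hp).mp this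
    exact ⟨j, hj⟩
  · have : orderOf g ∣ p ^ (Nat.clog p m) := orderOf_dvd_of_pow_eq_one ((hgpow _).mpr h1)
    obtain ⟨j, _, hj⟩ := (Nat.dvd_prime_pow hp).mp this
    have h2 : g ^ (p ^ j) = 1 := by rw [← hj]; exact pow_orderOf_eq_one g
    rw [hgpow, hpow] at h2
    have h3 : shiftJ F m ^ (p ^ j) = 0 := by
      have := congrArg (fun x => x - 1) h2
      simpa using this
    rw [hj]
    exact (shiftJ_pow_eq_zero_iff m _).mp h3



/-- Let F be a finite field of characteristic p and m ≥ 1. Every element of GL(m, F) of p-power order has order less than p·m, and GL(m, F) has an element of p-power order at least m; so the largest order of a p-element of GL(m, F) is the least power of p that is at least m. -/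
theorem result {F : Type*} [Field F] [Fintype F] (p : ℕ) [Fact p.Prime] [CharP F p] (m : ℕ) (hm : 1 ≤ m) :
    (∀ g : Matrix.GeneralLinearGroup (Fin m) F, (∃ j : ℕ, orderOf g = p ^ j) → orderOf g < p * m) ∧
      ∃ g : Matrix.GeneralLinearGroup (Fin m) F, (∃ j : ℕ, orderOf g = p ^ j) ∧ m ≤ orderOf g := by
  exact ⟨fun g hg => part1 p m hm g hg, part2 p m hm⟩

end Cfsg.Agent.S2368
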