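import Cfsg.Statements.S2380
import Cfsg.Agent.S2904

set_option autoImplicit false
set_option linter.unusedSectionVars false
open scoped MatrixGroups
open Cfsg

namespace Cfsg.Agent.S2380


open Cfsg.Agent.S2904

section arith
variable {r q : ℕ} [hr : Fact r.Prime] (hq : 1 < q) (hrq : ¬ r ∣ q)
include hq hrq

theorem q_unit : IsUnit (q : ZMod r) := by
  rw [← ZMod.coe_unitOfCoprime q ((Nat.Prime.coprime_iff_not_dvd hr.out).mpr hrq).symm]
  exact Units.isUnit _

theorem ord_pos : 0 < orderOf (q : ZMod r) := by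
  apply orderOf_pos_iff.mpr
  exact (q_unit hq hrq).isOfFinOrder

theorem dvd_iff (k : ℕ) : r ∣ q ^ k - 1 ↔ orderOf (q : ZMod r) ∣ k := by
  rw [← pow_eq_one_iff_dvd r q k hq, orderOf_dvd_iff_pow_eq_one]

/-- the valuation of `q^j - 1` -/
theorem val_pow_sub_one (j : ℕ) (hj0 : 0 < j) (hj : j < r) :
    padicValNat r (q ^ j - 1) =
      if orderOf (q : ZMod r) ∣ j then padicValNat r (q ^ orderOf (q : ZMod r) - 1) else 0 := by
  set d := orderOf (q : ZMod r) with hd
  by_cases hdj : d ∣ j
  · rw [if_pos hdj]
    obtain ⟨k, rfl⟩ := hdj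
    have hk0 : k ≠ 0 := by
      rintro rfl
      simp at hj0
    by_cases hk1 : k = 1
    · subst hk1; simp
    · have hdpos : 0 < d := ord_pos hq hrq
      have hk2 : 2 ≤ k := by omega
      have hkr : k < r := lt_of_le_of_lt (Nat.le_mul_of_pos_left k hdpos) hj
      have hr3 : r ≠ 2 := by omega
      have hodd : Odd r := hr.out.odd_of_ne_two hr3
      have h1 : 1 < q ^ d := Nat.one_lt_pow hdpos.ne' hq
      have h2 : r ∣ q ^ d - 1 := (dvd_iff hq hrq d).mpr dvd_rfl
      have h3 : ¬ r ∣ q ^ d := fun h => hrq (hr.out.dvd_of_dvd_pow h)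
      have := padicValNat.pow_sub_pow hodd h1 h2 h3 hk0
      rw [one_pow] at this
      rw [pow_mul, this]
      have : padicValNat r k = 0 :=
        padicValNat.eq_zero_of_not_dvd (fun h => by
          have := Nat.le_of_dvd (by omega) h
          omega)
      rw [this, add_zero]
  · rw [if_neg hdj]
    exact padicValNat.eq_zero_of_not_dvd (fun h => hdj ((dvd_iff hq hrq j).mp h))

theorem prod_split (n : ℕ) : ∏ i : Fin n, (q ^ n - q ^ i.val) =
    (∏ i ∈ Finset.range n, q ^ i) * ∏ j ∈ Finset.range n, (q ^ (j + 1) - 1) := by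
  rw [Fin.prod_univ_eq_prod_range (fun i => q ^ n - q ^ i) n,
    ← Finset.prod_range_reflect (fun j => q ^ (j + 1) - 1) n, ← Finset.prod_mul_distrib]
  apply Finset.prod_congr rfl
  intro i hi
  have hi' : i < n := Finset.mem_range.mp hi
  have h1 : n - 1 - i + 1 = n - i := by omega
  rw [h1, Nat.mul_sub, mul_one, ← pow_add]
  congr 2
  omega

/-- the `r`-adic valuation of `|GL_n(q)|` for `n < r` -/
theorem val_glcard (n : ℕ) (hn : n < r) :
    (∏ i : Fin n, (q ^ n - q ^ i.val)).factorization r =
      (n / orderOf (q : ZMod r)) * padicValNat r (q ^ orderOf (q : ZMod r) - 1) := by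
  rw [prod_split hq hrq]
  have hne1 : (∏ i ∈ Finset.range n, q ^ i) ≠ 0 :=
    Finset.prod_ne_zero_iff.mpr (fun i _ => pow_ne_zero _ (by omega))
  have hne2 : ∀ j ∈ Finset.range n, q ^ (j + 1) - 1 ≠ 0 := by
    intro j _
    have : 1 < q ^ (j + 1) := Nat.one_lt_pow (by omega) hq
    omega
  have hne2' : (∏ j ∈ Finset.range n, (q ^ (j + 1) - 1)) ≠ 0 := Finset.prod_ne_zero_iff.mpr hne2
  rw [Nat.factorization_mul hne1 hne2', Finsupp.add_apply]
  have hz : (∏ i ∈ Finset.range n, q ^ i).factorization r = 0 := by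
    rw [Nat.factorization_eq_zero_iff]
    right; left
    intro h
    rw [Prime.dvd_finsetProd_iff hr.out.prime] at h
    obtain ⟨i, -, hi⟩ := h
    exact hrq (hr.out.dvd_of_dvd_pow hi)
  rw [hz, zero_add, Nat.factorization_prod_apply hne2]
  have hterm : ∀ j ∈ Finset.range n, (q ^ (j + 1) - 1).factorization r =
      if orderOf (q : ZMod r) ∣ j + 1 then padicValNat r (q ^ orderOf (q : ZMod r) - 1) else 0 := by
    intro j hj
    have hj' : j < n := Finset.mem_range.mp hj
    rw [Nat.factorization_def _ hr.out]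
    exact val_pow_sub_one hq hrq (j + 1) (by omega) (by omega)
  rw [Finset.sum_congr rfl hterm, ← Finset.sum_filter, Finset.sum_const, Nat.card_multiples,
    smul_eq_mul]

/-- the `r`-part of the cyclotomic value -/
theorem val_Phi : padicValNat r (Phi (orderOf (q : ZMod r)) q) =
    padicValNat r (q ^ orderOf (q : ZMod r) - 1) := by
  set d := orderOf (q : ZMod r) with hd
  have hdpos : 0 < d := ord_pos hq hrq
  -- q^d - 1 = ∏_{e ∣ d} Phi e q
  have hprod : q ^ d - 1 = ∏ e ∈ d.divisors, Phi e q := by
    have h1 := Polynomial.prod_cyclotomic_eq_X_pow_sub_one hdpos ℤ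
    have h2 := congrArg (Polynomial.eval (q : ℤ)) h1
    rw [Polynomial.eval_prod] at h2
    simp only [Polynomial.eval_sub, Polynomial.eval_pow, Polynomial.eval_X, Polynomial.eval_one] at h2
    have h3 : ∀ e ∈ d.divisors, (Polynomial.cyclotomic e ℤ).eval (q : ℤ) = ((Phi e q : ℕ) : ℤ) :=
      fun e _ => (Phi_cast e q hq).symm
    rw [Finset.prod_congr rfl h3] at h2
    have h4 : ((q ^ d - 1 : ℕ) : ℤ) = (q : ℤ) ^ d - 1 := by
      have : 1 ≤ q ^ d := Nat.one_le_pow _ _ (by omega)
      push_cast [Nat.cast_sub this]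
      ring
    rw [← h4, ← Nat.cast_prod] at h2
    exact_mod_cast h2.symm
  rw [hprod, ← Finset.mul_prod_erase d.divisors _ (Nat.mem_divisors_self d hdpos.ne')]
  have hne1 : Phi d q ≠ 0 := (Phi_pos d q hq).ne'
  have hne2 : (∏ e ∈ d.divisors.erase d, Phi e q) ≠ 0 :=
    Finset.prod_ne_zero_iff.mpr (fun e _ => (Phi_pos e q hq).ne')
  rw [padicValNat.mul hne1 hne2]
  have : padicValNat r (∏ e ∈ d.divisors.erase d, Phi e q) = 0 := by
    apply padicValNat.eq_zero_of_not_dvd
    intro h
    rw [Prime.dvd_finsetProd_iff hr.out.prime] at h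
    obtain ⟨e, he, hre⟩ := h
    rw [Finset.mem_erase, Nat.mem_divisors] at he
    obtain ⟨hed, hedvd, -⟩ := he
    have he0 : 0 < e := Nat.pos_of_dvd_of_pos hedvd hdpos
    have h5 : r ∣ q ^ e - 1 := by
      by_cases he1 : e = 1
      · subst he1
        rw [Phi_one q hq] at hre
        simpa using hre
      · exact dvd_trans hre (Phi_dvd e q hq (by omega))
    have h6 := (dvd_iff hq hrq e).mp h5
    exact hed (Nat.dvd_antisymm hedvd h6)
  rw [this, add_zero]

end arith



section construct
variable {F : Type*} [Field F] [Fintype F] (p : ℕ) [Fact p.Prime] [CharP F p] (d : ℕ) [NeZero d]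
  (a k : ℕ)

/-- the space `L^a × F^k` on which `(L^×)^a` acts -/
abbrev Vsp := (Fin a → FiniteField.Extension F p d) × (Fin k → F)

/-- componentwise multiplication on the first factor -/
noncomputable def actHom : (Fin a → FiniteField.Extension F p d) →* Module.End F (Vsp (F := F) p d a k) where
  toFun c :=
    { toFun := fun x => (c * x.1, x.2)
      map_add' := fun x y => by
        ext <;> simp [mul_add]
      map_smul' := fun s x => by
        ext <;> simp }
  map_one' := by
    ext x <;> simp
  map_mul' := fun c c' => by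
    ext x <;> simp [mul_assoc]

theorem actHom_injective : Function.Injective (actHom (F := F) p d a k) := by
  intro c c' h
  have := congrArg (fun f : Module.End F (Vsp (F := F) p d a k) => (f (1, 0)).1) h
  simpa [actHom] using this

theorem finrank_Vsp : Module.finrank F (Vsp (F := F) p d a k) = a * d + k := by
  rw [Module.finrank_prod, Module.finrank_pi_fintype, Module.finrank_fintype_fun_eq_card,
    Fintype.card_fin]
  simp [FiniteField.finrank_extension]

/-- the injective homomorphism `(L^×)^a → GL_n(F)` for `n = a d + k` -/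
noncomputable def torusHom (n : ℕ) (hn : a * d + k = n) :
    (Fin a → (FiniteField.Extension F p d)ˣ) →* GL (Fin n) F :=
  let b : Module.Basis (Fin n) F (Vsp (F := F) p d a k) :=
    Module.finBasisOfFinrankEq F _ ((finrank_Vsp p d a k).trans hn)
  ((Units.mapEquiv (LinearMap.toMatrixAlgEquiv b).toMulEquiv).toMonoidHom.comp
    (Units.map (actHom (F := F) p d a k))).comp
      (MulEquiv.piUnits (M := fun _ : Fin a => FiniteField.Extension F p d)).symm.toMonoidHom

theorem torusHom_injective (n : ℕ) (hn : a * d + k = n) :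
    Function.Injective (torusHom (F := F) p d a k n hn) := by
  unfold torusHom
  simp only [MonoidHom.coe_comp, MulEquiv.coe_toMonoidHom]
  apply Function.Injective.comp
  · apply Function.Injective.comp
    · exact MulEquiv.injective _
    · exact Units.map_injective (actHom_injective p d a k)
  · exact MulEquiv.injective _

end construct

/-- Sylow subgroups of `GL_n(q)` for large primes. Let `F` be a field with `q` elements and `r` a prime with `r > n` and `r ∤ q`. Let `d` be the multiplicative order of `q` modulo `r` and `m` the `r`-part of the value at `q` of the `d`-th cyclotomic polynomial. Then every Sylow `r`-subgroup of `GL_n(q)` is a direct product of `⌊n/d⌋` cyclic groups of order `m` (the degrees of the Weyl group being `1, …, n`). -/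
theorem result {F : Type*} [Field F] [Fintype F] {q : ℕ} (hq : Fintype.card F = q) (n : ℕ)
    (r : ℕ) [Fact r.Prime] (hrn : n < r) (hrq : ¬ r ∣ q) (P : Sylow r (GL (Fin n) F)) :
    Nonempty (↥(P : Subgroup (GL (Fin n) F)) ≃*
      (Fin (n / orderOf (q : ZMod r)) →
        Multiplicative (ZMod (r ^ padicValNat r ((Polynomial.cyclotomic (orderOf (q : ZMod r)) ℤ).eval (q : ℤ)).natAbs)))) := by
  classical
  subst hq
  have hq1 : 1 < Fintype.card F := Fintype.one_lt_card
  have hpprime : Fact (ringChar F).Prime := ⟨CharP.char_is_prime F (ringChar F)⟩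
  have hdpos : 0 < orderOf ((Fintype.card F : ℕ) : ZMod r) := ord_pos hq1 hrq
  have hNZ : NeZero (orderOf ((Fintype.card F : ℕ) : ZMod r)) := ⟨hdpos.ne'⟩
  have hr : r.Prime := Fact.out
  -- the multiplicative group of the extension field
  have hcardL : Nat.card (FiniteField.Extension F (ringChar F) (orderOf ((Fintype.card F : ℕ) : ZMod r)))ˣ
      = Fintype.card F ^ orderOf ((Fintype.card F : ℕ) : ZMod r) - 1 := by
    rw [Nat.card_units, FiniteField.natCard_extension, Nat.card_eq_fintype_card]
  -- a Sylow subgroup of it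
  obtain ⟨C₀⟩ : Nonempty (Sylow r
      (FiniteField.Extension F (ringChar F) (orderOf ((Fintype.card F : ℕ) : ZMod r)))ˣ) := inferInstance
  have hcardC₀ : Nat.card (C₀ : Subgroup (FiniteField.Extension F (ringChar F)
      (orderOf ((Fintype.card F : ℕ) : ZMod r)))ˣ) = r ^ padicValNat r
      (Fintype.card F ^ orderOf ((Fintype.card F : ℕ) : ZMod r) - 1) := by
    rw [Sylow.card_eq_multiplicity, hcardL, Nat.factorization_def _ hr]
  generalize (C₀ : Subgroup (FiniteField.Extension F (ringChar F)
      (orderOf ((Fintype.card F : ℕ) : ZMod r)))ˣ) = C at hcardC₀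
  have hcardC : Nat.card C = r ^ padicValNat r
      (Fintype.card F ^ orderOf ((Fintype.card F : ℕ) : ZMod r) - 1) := hcardC₀
  have hn : n / orderOf ((Fintype.card F : ℕ) : ZMod r) * orderOf ((Fintype.card F : ℕ) : ZMod r)
      + n % orderOf ((Fintype.card F : ℕ) : ZMod r) = n := Nat.div_add_mod' n _
  -- the embedding of C^a
  let ι : (Fin (n / orderOf ((Fintype.card F : ℕ) : ZMod r)) → C) →*
      (Fin (n / orderOf ((Fintype.card F : ℕ) : ZMod r)) →
        (FiniteField.Extension F (ringChar F) (orderOf ((Fintype.card F : ℕ) : ZMod r)))ˣ) :=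
    { toFun := fun f i => (f i : (FiniteField.Extension F (ringChar F)
        (orderOf ((Fintype.card F : ℕ) : ZMod r)))ˣ)
      map_one' := rfl
      map_mul' := fun _ _ => rfl }
  have hι : Function.Injective ι := by
    intro f g h
    funext i
    exact Subtype.ext (congrFun h i)
  have hinj : Function.Injective ((torusHom (F := F) (ringChar F)
      (orderOf ((Fintype.card F : ℕ) : ZMod r)) _ _ n hn).comp ι) := by
    rw [MonoidHom.coe_comp]
    exact (torusHom_injective (F := F) (ringChar F) _ _ _ n hn).comp hι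
  have hR : Nat.card ((torusHom (F := F) (ringChar F)
      (orderOf ((Fintype.card F : ℕ) : ZMod r)) _ _ n hn).comp ι).range =
      r ^ (Nat.card (GL (Fin n) F)).factorization r := by
    rw [← Nat.card_congr (MonoidHom.ofInjective hinj).toEquiv, Nat.card_pi, Finset.prod_const,
      Finset.card_univ, Fintype.card_fin, hcardC, ← pow_mul, Matrix.card_GL_field,
      val_glcard hq1 hrq n hrn, mul_comm]
  -- isomorphisms
  have e1 : (P : Subgroup (GL (Fin n) F)) ≃* ((Sylow.ofCard _ hR : Sylow r (GL (Fin n) F)) :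
      Subgroup (GL (Fin n) F)) := Sylow.equiv P (Sylow.ofCard _ hR)
  have e2 : ((Sylow.ofCard _ hR : Sylow r (GL (Fin n) F)) : Subgroup (GL (Fin n) F)) ≃*
      (Fin (n / orderOf ((Fintype.card F : ℕ) : ZMod r)) → C) :=
    (MonoidHom.ofInjective hinj).symm
  have hm : Nat.card C = Nat.card (Multiplicative (ZMod (r ^ padicValNat r
      ((Polynomial.cyclotomic (orderOf ((Fintype.card F : ℕ) : ZMod r)) ℤ).eval
        ((Fintype.card F : ℕ) : ℤ)).natAbs))) := by
    have hv := val_Phi hq1 hrq
    unfold Cfsg.Agent.S2904.Phi at hv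
    rw [hcardC, Nat.card_congr Multiplicative.toAdd, Nat.card_zmod, hv]
  have e3 : C ≃* Multiplicative (ZMod (r ^ padicValNat r
      ((Polynomial.cyclotomic (orderOf ((Fintype.card F : ℕ) : ZMod r)) ℤ).eval
        ((Fintype.card F : ℕ) : ℤ)).natAbs)) := mulEquivOfCyclicCardEq hm
  exact ⟨e1.trans (e2.trans (MulEquiv.piCongrRight (fun _ => e3)))⟩

end Cfsg.Agent.S2380
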