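import Cfsg.Statements.S2379
import Cfsg.Agent.S2380
import Cfsg.Agent.Lib.Helper5.GLCard

set_option autoImplicit false
set_option linter.unusedSectionVars false
open scoped MatrixGroups
open Cfsg

namespace Cfsg.Agent.S2379

open Cfsg.Agent.S2904 Cfsg.Agent.S2380

/-- transfer: an injective homomorphism from a homocyclic group of the right order -/
theorem sylow_equiv_pi {G : Type*} [Group G] [Finite G] {r : ℕ} [Fact r.Prime] (P : Sylow r G)
    {C : Type*} [Group C] [IsCyclic C] (a v : ℕ) (hC : Nat.card C = r ^ v)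
    (ψ : (Fin a → C) →* G) (hψ : Function.Injective ψ)
    (hcard : (Nat.card G).factorization r = a * v) :
    Nonempty (↥(P : Subgroup G) ≃* (Fin a → Multiplicative (ZMod (r ^ v)))) := by
  have hR : Nat.card ψ.range = r ^ (Nat.card G).factorization r := by
    rw [← Nat.card_congr (MonoidHom.ofInjective hψ).toEquiv, Nat.card_pi, Finset.prod_const,
      Finset.card_univ, Fintype.card_fin, hC, ← pow_mul, hcard, mul_comm]
  have e1 : (P : Subgroup G) ≃* ((Sylow.ofCard _ hR : Sylow r G) : Subgroup G) :=
    Sylow.equiv P (Sylow.ofCard _ hR)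
  have e2 : ((Sylow.ofCard _ hR : Sylow r G) : Subgroup G) ≃* (Fin a → C) :=
    (MonoidHom.ofInjective hψ).symm
  have hm : Nat.card C = Nat.card (Multiplicative (ZMod (r ^ v))) := by
    rw [hC, Nat.card_congr Multiplicative.toAdd, Nat.card_zmod]
  have e3 : C ≃* Multiplicative (ZMod (r ^ v)) := mulEquivOfCyclicCardEq hm
  exact ⟨e1.trans (e2.trans (MulEquiv.piCongrRight (fun _ => e3)))⟩

/-- the diagonal torus of `SL_{k+1}` -/
noncomputable def diagHom (F : Type*) [Field F] (k : ℕ) :
    (Fin k → Fˣ) →* Matrix.SpecialLinearGroup (Fin (k + 1)) F where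
  toFun t := ⟨Matrix.diagonal (fun i => ((Fin.cons (∏ j, t j)⁻¹ t : Fin (k + 1) → Fˣ) i : F)), by
    rw [Matrix.det_diagonal, Fin.prod_univ_succ]
    simp only [Fin.cons_zero, Fin.cons_succ]
    rw [← Units.coe_prod, ← Units.val_mul, inv_mul_cancel, Units.val_one]⟩
  map_one' := by
    apply Subtype.ext
    simp only [Pi.one_apply, Finset.prod_const_one, inv_one, Matrix.SpecialLinearGroup.coe_one]
    rw [← Matrix.diagonal_one]
    congr 1
    funext i
    refine Fin.cases ?_ (fun j => ?_) i <;> simp
  map_mul' t t' := by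
    apply Subtype.ext
    show Matrix.diagonal _ = Matrix.diagonal _ * Matrix.diagonal _
    rw [Matrix.diagonal_mul_diagonal]
    congr 1
    funext i
    refine Fin.cases ?_ (fun j => ?_) i
    · simp [Finset.prod_mul_distrib, mul_comm]
    · simp

theorem diagHom_injective (F : Type*) [Field F] (k : ℕ) : Function.Injective (diagHom F k) := by
  intro t t' h
  have h1 := congrArg Subtype.val h
  have h2 := Matrix.diagonal_injective (show Matrix.diagonal _ = Matrix.diagonal _ from h1)
  funext i
  have h3 := congrFun h2 i.succ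
  simp only [Fin.cons_succ] at h3
  exact Units.ext h3

theorem count_eq (n d : ℕ) (hd : 0 < d) :
    ((Finset.Icc 2 n).filter (fun i => d ∣ i)).card = if d = 1 then n - 1 else n / d := by
  have h1 : ((Finset.Ioc 0 n).filter (fun i => d ∣ i)).card = n / d :=
    Nat.Ioc_filter_dvd_card_eq_div n d
  split_ifs with hd1
  · subst hd1
    simp
  · have : (Finset.Icc 2 n).filter (fun i => d ∣ i) = (Finset.Ioc 0 n).filter (fun i => d ∣ i) := by
      ext i
      simp only [Finset.mem_filter, Finset.mem_Icc, Finset.mem_Ioc]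
      constructor
      · rintro ⟨⟨h2, hn⟩, hdi⟩
        exact ⟨⟨by omega, hn⟩, hdi⟩
      · rintro ⟨⟨h0, hn⟩, hdi⟩
        refine ⟨⟨?_, hn⟩, hdi⟩
        have := Nat.le_of_dvd h0 hdi
        omega
    rw [this, h1]

/-- Sylow subgroups of `SL_n(q)` for large primes. Let `F` be a field with `q` elements and `r` a prime with `r > n` and `r ∤ q` (so `r` does not divide the order `n!` of the Weyl group). Let `d` be the multiplicative order of `q` modulo `r`, `a` the number of integers `i` with `2 ≤ i ≤ n` divisible by `d` (the degrees of the Weyl group are `2, …, n`), and `m` the `r`-part of the value at `q` of the `d`-th cyclotomic polynomial. Then every Sylow `r`-subgroup of `SL_n(q)` is a direct product of `a` cyclic groups of order `m`. -/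
theorem result {F : Type*} [Field F] [Fintype F] {q : ℕ} (hq : Fintype.card F = q) (n : ℕ)
    (r : ℕ) [Fact r.Prime] (hrn : n < r) (hrq : ¬ r ∣ q) (P : Sylow r (Matrix.SpecialLinearGroup (Fin n) F)) :
    Nonempty (↥(P : Subgroup (Matrix.SpecialLinearGroup (Fin n) F)) ≃*
      (Fin ((Finset.Icc 2 n).filter (fun i => orderOf (q : ZMod r) ∣ i)).card →
        Multiplicative (ZMod (r ^ padicValNat r ((Polynomial.cyclotomic (orderOf (q : ZMod r)) ℤ).eval (q : ℤ)).natAbs)))) := by
  classical
  subst hq
  have hq1 : 1 < Fintype.card F := Fintype.one_lt_card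
  have hdpos : 0 < orderOf ((Fintype.card F : ℕ) : ZMod r) := ord_pos hq1 hrq
  have hr : r.Prime := Fact.out
  rw [count_eq n _ hdpos]
  have hv := val_Phi hq1 hrq
  unfold Cfsg.Agent.S2904.Phi at hv
  rw [hv]
  rcases Nat.eq_zero_or_pos n with hn0 | hn0
  · -- `n = 0`
    subst hn0
    have h0 : (if orderOf ((Fintype.card F : ℕ) : ZMod r) = 1 then 0 - 1
        else 0 / orderOf ((Fintype.card F : ℕ) : ZMod r)) = 0 := by
      split_ifs <;> simp
    rw [h0]
    haveI : Subsingleton (Matrix.SpecialLinearGroup (Fin 0) F) :=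
      ⟨fun A B => Subtype.ext (Subsingleton.elim _ _)⟩
    haveI : Unique ↥(P : Subgroup (Matrix.SpecialLinearGroup (Fin 0) F)) :=
      ⟨⟨1⟩, fun x => Subsingleton.elim _ _⟩
    exact ⟨MulEquiv.ofUnique⟩
  have hne : Nonempty (Fin n) := ⟨⟨0, hn0⟩⟩
  have hGL : Nat.card (GL (Fin n) F) =
      Nat.card (Matrix.SpecialLinearGroup (Fin n) F) * (Fintype.card F - 1) :=
    Cfsg.Agent.Lib.Helper5.card_GL_eq_card_SL_mul
  have hSLne : Nat.card (Matrix.SpecialLinearGroup (Fin n) F) ≠ 0 := Nat.card_pos.ne'
  have hq1ne : Fintype.card F - 1 ≠ 0 := by omega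
  have hval : (Nat.card (GL (Fin n) F)).factorization r =
      (Nat.card (Matrix.SpecialLinearGroup (Fin n) F)).factorization r +
        padicValNat r (Fintype.card F - 1) := by
    rw [hGL, Nat.factorization_mul hSLne hq1ne, Finsupp.add_apply,
      Nat.factorization_def (Fintype.card F - 1) hr]
  have hvalGL : (Nat.card (GL (Fin n) F)).factorization r =
      (n / orderOf ((Fintype.card F : ℕ) : ZMod r)) *
        padicValNat r (Fintype.card F ^ orderOf ((Fintype.card F : ℕ) : ZMod r) - 1) := by
    rw [Matrix.card_GL_field, val_glcard hq1 hrq n hrn]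
  by_cases hd1 : orderOf ((Fintype.card F : ℕ) : ZMod r) = 1
  · -- `d = 1`: the diagonal torus
    rw [if_pos hd1, hd1, pow_one]
    rw [hd1, pow_one, Nat.div_one] at hvalGL
    obtain ⟨k, rfl⟩ : ∃ k, n = k + 1 := ⟨n - 1, by omega⟩
    have hvalSL : (Nat.card (Matrix.SpecialLinearGroup (Fin (k + 1)) F)).factorization r =
        k * padicValNat r (Fintype.card F - 1) := by
      have := hval.symm.trans hvalGL
      have h2 : (k + 1) * padicValNat r (Fintype.card F - 1) =
          k * padicValNat r (Fintype.card F - 1) + padicValNat r (Fintype.card F - 1) := by ring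
      omega
    obtain ⟨C₀⟩ : Nonempty (Sylow r Fˣ) := inferInstance
    have hcardC₀ : Nat.card (C₀ : Subgroup Fˣ) = r ^ padicValNat r (Fintype.card F - 1) := by
      rw [Sylow.card_eq_multiplicity, Nat.card_units, Nat.card_eq_fintype_card,
        Nat.factorization_def _ hr]
    let ι : (Fin k → (C₀ : Subgroup Fˣ)) →* (Fin k → Fˣ) :=
      { toFun := fun f i => (f i : Fˣ)
        map_one' := rfl
        map_mul' := fun _ _ => rfl }
    have hι : Function.Injective ι := by
      intro f g h
      funext i
      exact Subtype.ext (congrFun h i)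
    have hinj : Function.Injective ((diagHom F k).comp ι) := by
      rw [MonoidHom.coe_comp]
      exact (diagHom_injective F k).comp hι
    have := sylow_equiv_pi P k _ hcardC₀ _ hinj hvalSL
    simpa using this
  · -- `d ≥ 2`: the Sylow subgroup of `GL_n`
    rw [if_neg hd1]
    have hnd : ¬ r ∣ Fintype.card F - 1 := by
      intro h
      have := (dvd_iff hq1 hrq 1).mp (by simpa using h)
      exact hd1 (Nat.dvd_one.mp this)
    have hz : padicValNat r (Fintype.card F - 1) = 0 := padicValNat.eq_zero_of_not_dvd hnd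
    rw [hz, add_zero] at hval
    have hinj : Function.Injective (Matrix.SpecialLinearGroup.toGL :
        Matrix.SpecialLinearGroup (Fin n) F →* GL (Fin n) F) := by
      intro A B h
      apply Subtype.ext
      have := congrArg (fun g : GL (Fin n) F => (g : Matrix (Fin n) (Fin n) F)) h
      simpa using this
    have hQ : Nat.card ((P : Subgroup (Matrix.SpecialLinearGroup (Fin n) F)).map
        (Matrix.SpecialLinearGroup.toGL : Matrix.SpecialLinearGroup (Fin n) F →* GL (Fin n) F)) =
        r ^ (Nat.card (GL (Fin n) F)).factorization r := by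
      rw [Subgroup.card_map_of_injective hinj, Sylow.card_eq_multiplicity, hval]
    have e1 := (P : Subgroup (Matrix.SpecialLinearGroup (Fin n) F)).equivMapOfInjective _ hinj
    obtain ⟨e2⟩ := Cfsg.Agent.S2380.result rfl n r hrn hrq (Sylow.ofCard _ hQ)
    rw [hv] at e2
    exact ⟨e1.trans e2⟩

end Cfsg.Agent.S2379
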