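import Cfsg.Statements.S2381
import Cfsg.Agent.S2379
import Cfsg.Agent.Lib.Helper5.SympCard
import Cfsg.Agent.Lib.Helper40.Darboux

set_option autoImplicit false
set_option linter.unusedSectionVars false
open scoped MatrixGroups
open Cfsg

namespace Cfsg.Agent.S2381

open Cfsg.Agent.S2904 Cfsg.Agent.S2380 Cfsg.Agent.S2379

section arith
variable {r q : ℕ} [hr : Fact r.Prime] (hq : 1 < q) (hrq : ¬ r ∣ q)
include hq hrq

/-- the valuation of `q^j - 1` for `r ∤ j`, `r` odd -/
theorem val_pow_sub_one' (hr2 : r ≠ 2) (j : ℕ) (hj0 : 0 < j) (hj : ¬ r ∣ j) :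
    padicValNat r (q ^ j - 1) =
      if orderOf (q : ZMod r) ∣ j then padicValNat r (q ^ orderOf (q : ZMod r) - 1) else 0 := by
  set d := orderOf (q : ZMod r) with hd
  by_cases hdj : d ∣ j
  · rw [if_pos hdj]
    obtain ⟨k, rfl⟩ := hdj
    have hk0 : k ≠ 0 := by
      rintro rfl
      simp at hj0
    have hdpos : 0 < d := ord_pos hq hrq
    have hodd : Odd r := hr.out.odd_of_ne_two hr2
    have h1 : 1 < q ^ d := Nat.one_lt_pow hdpos.ne' hq
    have h2 : r ∣ q ^ d - 1 := (dvd_iff hq hrq d).mpr dvd_rfl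
    have h3 : ¬ r ∣ q ^ d := fun h => hrq (hr.out.dvd_of_dvd_pow h)
    have := padicValNat.pow_sub_pow hodd h1 h2 h3 hk0
    rw [one_pow] at this
    rw [pow_mul, this]
    have : padicValNat r k = 0 :=
      padicValNat.eq_zero_of_not_dvd (fun h => hj (dvd_mul_of_dvd_right h d))
    rw [this, add_zero]
  · rw [if_neg hdj]
    exact padicValNat.eq_zero_of_not_dvd (fun h => hdj ((dvd_iff hq hrq j).mp h))

omit hq hrq in
/-- `d ∣ 2 i ↔ e ∣ i` with `e = d / gcd(d, 2)` -/
theorem dvd_two_mul_iff (d i : ℕ) :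
    d ∣ 2 * i ↔ (if Even d then d / 2 else d) ∣ i := by
  split_ifs with hd
  · obtain ⟨e, rfl⟩ := hd
    have : (e + e) / 2 = e := by omega
    rw [this, ← two_mul]
    by_cases he : e = 0
    · subst he; simp
    · exact Nat.mul_dvd_mul_iff_left (by norm_num)
  · have hodd : Odd d := Nat.not_even_iff_odd.mp hd
    exact (Nat.Coprime.dvd_mul_left (Nat.Coprime.symm (Nat.coprime_two_left.mpr hodd)))

omit hq hrq in
theorem count_eq (n d : ℕ) :
    ((Finset.Icc 1 n).filter (fun i => d ∣ 2 * i)).card = n / (if Even d then d / 2 else d) := by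
  rw [← Nat.Ioc_filter_dvd_card_eq_div]
  congr 1
  ext i
  simp only [Finset.mem_filter, Finset.mem_Icc, Finset.mem_Ioc, dvd_two_mul_iff]
  constructor
  · rintro ⟨⟨h1, h2⟩, h3⟩
    exact ⟨⟨by omega, h2⟩, h3⟩
  · rintro ⟨⟨h1, h2⟩, h3⟩
    exact ⟨⟨by omega, h2⟩, h3⟩

/-- the `r`-adic valuation of `|Sp_2n(q)|` for `n < r`, `r` odd -/
theorem val_spcard (hr2 : r ≠ 2) (n : ℕ) (hn : n < r) :
    (q ^ (n ^ 2) * ∏ i ∈ Finset.range n, (q ^ (2 * (i + 1)) - 1)).factorization r =
      (n / (if Even (orderOf (q : ZMod r)) then orderOf (q : ZMod r) / 2 else orderOf (q : ZMod r))) *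
        padicValNat r (q ^ orderOf (q : ZMod r) - 1) := by
  have hne1 : q ^ (n ^ 2) ≠ 0 := pow_ne_zero _ (by omega)
  have hne2 : ∀ j ∈ Finset.range n, q ^ (2 * (j + 1)) - 1 ≠ 0 := by
    intro j _
    have : 1 < q ^ (2 * (j + 1)) := Nat.one_lt_pow (by omega) hq
    omega
  have hne2' : (∏ j ∈ Finset.range n, (q ^ (2 * (j + 1)) - 1)) ≠ 0 :=
    Finset.prod_ne_zero_iff.mpr hne2
  rw [Nat.factorization_mul hne1 hne2', Finsupp.add_apply]
  have hz : (q ^ (n ^ 2)).factorization r = 0 := by
    rw [Nat.factorization_eq_zero_iff]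
    right; left
    intro h
    exact hrq (hr.out.dvd_of_dvd_pow h)
  rw [hz, zero_add, Nat.factorization_prod_apply hne2]
  have hterm : ∀ j ∈ Finset.range n, (q ^ (2 * (j + 1)) - 1).factorization r =
      if (if Even (orderOf (q : ZMod r)) then orderOf (q : ZMod r) / 2 else orderOf (q : ZMod r)) ∣ j + 1
        then padicValNat r (q ^ orderOf (q : ZMod r) - 1) else 0 := by
    intro j hj
    have hj' : j < n := Finset.mem_range.mp hj
    rw [Nat.factorization_def _ hr.out]
    have hndvd : ¬ r ∣ 2 * (j + 1) := by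
      intro h
      rcases (Nat.Prime.dvd_mul hr.out).mp h with h | h
      · exact hr2 ((Nat.prime_dvd_prime_iff_eq hr.out Nat.prime_two).mp h)
      · have := Nat.le_of_dvd (by omega) h
        omega
    rw [val_pow_sub_one' hq hrq hr2 (2 * (j + 1)) (by omega) hndvd]
    simp only [dvd_two_mul_iff]
  rw [Finset.sum_congr rfl hterm, ← Finset.sum_filter, Finset.sum_const, Nat.card_multiples,
    smul_eq_mul]

/-- in the even case the `r`-part of `q^d - 1` divides `q^(d/2) + 1` -/
theorem pow_val_dvd (e : ℕ) (he : 0 < e) (hd : orderOf (q : ZMod r) = 2 * e) :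
    r ^ padicValNat r (q ^ (2 * e) - 1) ∣ q ^ e + 1 := by
  have h1 : q ^ (2 * e) - 1 = (q ^ e - 1) * (q ^ e + 1) := by
    have : 1 ≤ q ^ e := Nat.one_le_pow _ _ (by omega)
    rw [mul_comm 2 e, pow_mul]
    zify [this, Nat.one_le_pow 2 (q ^ e) (by omega)]
    ring
  have h2 : ¬ r ∣ q ^ e - 1 := by
    intro h
    have := (dvd_iff hq hrq e).mp h
    rw [hd] at this
    have := Nat.le_of_dvd he this
    omega
  have h3 : r ^ padicValNat r (q ^ (2 * e) - 1) ∣ (q ^ e - 1) * (q ^ e + 1) := by
    rw [← h1]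
    exact pow_padicValNat_dvd
  exact (Nat.Coprime.pow_left _ ((Nat.Prime.coprime_iff_not_dvd hr.out).mpr h2)).dvd_of_dvd_mul_left h3

end arith

section glsp
open Matrix
variable {F : Type*} [Field F] (n : ℕ)

/-- `GL_n → Sp_2n`, `g ↦ diag(g, g⁻ᵀ)` -/
def glToSp : GL (Fin n) F →* Matrix.symplecticGroup (Fin n) F where
  toFun g := ⟨Matrix.fromBlocks (g : Matrix (Fin n) (Fin n) F) 0 0
      ((g⁻¹ : GL (Fin n) F) : Matrix (Fin n) (Fin n) F)ᵀ, by
    rw [SymplecticGroup.mem_iff, Matrix.J, Matrix.fromBlocks_transpose, Matrix.fromBlocks_multiply,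
      Matrix.fromBlocks_multiply]
    have h1 : (g : Matrix (Fin n) (Fin n) F) * ((g⁻¹ : GL (Fin n) F) : Matrix (Fin n) (Fin n) F) = 1 := by
      rw [← Units.val_mul, mul_inv_cancel, Units.val_one]
    have h2 : ((g⁻¹ : GL (Fin n) F) : Matrix (Fin n) (Fin n) F)ᵀ * (g : Matrix (Fin n) (Fin n) F)ᵀ = 1 := by
      rw [← Matrix.transpose_mul, h1, Matrix.transpose_one]
    simp only [Matrix.mul_zero, Matrix.zero_mul, Matrix.mul_one, Matrix.mul_neg, add_zero, zero_add,
      Matrix.transpose_zero, Matrix.transpose_transpose, Matrix.neg_mul, neg_zero, h1, h2]⟩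
  map_one' := by
    apply Subtype.ext
    simp [Matrix.fromBlocks_one]
  map_mul' g h := by
    apply Subtype.ext
    show Matrix.fromBlocks _ _ _ _ = Matrix.fromBlocks _ _ _ _ * Matrix.fromBlocks _ _ _ _
    rw [Matrix.fromBlocks_multiply]
    simp only [_root_.mul_inv_rev, Units.val_mul, Matrix.transpose_mul, Matrix.mul_zero,
      Matrix.zero_mul, add_zero, zero_add]

theorem glToSp_injective : Function.Injective (glToSp (F := F) n) := by
  intro g h hgh
  have h1 := congrArg Subtype.val hgh
  have h2 := congrArg (fun M => Matrix.toBlocks₁₁ M) h1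
  simp only [glToSp, MonoidHom.coe_mk, OneHom.coe_mk, Matrix.toBlocks_fromBlocks₁₁] at h2
  exact Units.ext h2

end glsp

section kform
variable (F : Type*) [Field F] [Finite F] (p : ℕ) [Fact p.Prime] [CharP F p] (e : ℕ) [NeZero e]

/-- the field `F_{q^{2e}}` -/
abbrev KK := FiniteField.Extension F p (2 * e)

/-- the involution `x ↦ x^(q^e)` of `KK` -/
noncomputable def sig : KK F p e ≃ₐ[F] KK F p e := FiniteField.Extension.frob F p (2 * e) ^ e

theorem sig_apply (x : KK F p e) : sig F p e x = x ^ (Nat.card F ^ e) :=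
  FiniteField.Extension.frob_iterate_apply F p (2 * e) e

theorem sig_sig (x : KK F p e) : sig F p e (sig F p e x) = x := by
  rw [sig_apply, sig_apply, ← pow_mul, ← pow_add, ← two_mul, ← FiniteField.natCard_extension F p (2 * e)]
  have := Fintype.ofFinite (KK F p e)
  rw [Nat.card_eq_fintype_card]
  exact FiniteField.pow_card x

theorem exists_sig_ne : ∃ c : KK F p e, sig F p e c ≠ c := by
  by_contra hcon
  have h1 : sig F p e = 1 := by
    ext x
    by_contra hx
    exact hcon ⟨x, hx⟩
  have h2 : orderOf (FiniteField.Extension.frob F p (2 * e)) = 2 * e := by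
    unfold FiniteField.Extension.frob
    rw [FiniteField.orderOf_frobeniusAlgEquivOfAlgebraic, FiniteField.finrank_extension]
  have he : 0 < e := Nat.pos_of_ne_zero (NeZero.ne e)
  exact pow_ne_one_of_lt_orderOf he.ne' (by omega) h1

/-- the form `Tr((c - σ c) x σ(y))` -/
noncomputable def omK (c : KK F p e) : LinearMap.BilinForm F (KK F p e) :=
  (Algebra.traceForm F (KK F p e)).comp (LinearMap.mulLeft F (c - sig F p e c))
    (sig F p e).toLinearMap

theorem omK_apply (c x y : KK F p e) :
    omK F p e c x y = Algebra.trace F (KK F p e) ((c - sig F p e c) * x * sig F p e y) := by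
  simp [omK, Algebra.traceForm_apply]

theorem omK_self (c x : KK F p e) : omK F p e c x x = 0 := by
  rw [omK_apply]
  have h1 : (c - sig F p e c) * x * sig F p e x =
      c * x * sig F p e x - sig F p e (c * x * sig F p e x) := by
    rw [map_mul, map_mul, sig_sig]
    ring
  rw [h1, map_sub, Algebra.trace_eq_of_algEquiv, sub_self]

theorem omK_mul (c x y u : KK F p e) (hu : u * sig F p e u = 1) :
    omK F p e c (u * x) (u * y) = omK F p e c x y := by
  rw [omK_apply, omK_apply, map_mul (sig F p e)]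
  have : (c - sig F p e c) * (u * x) * (sig F p e u * sig F p e y) =
      (c - sig F p e c) * x * sig F p e y * (u * sig F p e u) := by ring
  rw [this, hu, mul_one]

theorem omK_sep (c x : KK F p e) (hc : sig F p e c ≠ c) (h : ∀ y, omK F p e c x y = 0) : x = 0 := by
  by_contra hx
  have hc' : c - sig F p e c ≠ 0 := sub_ne_zero.mpr (Ne.symm hc)
  obtain ⟨s, hs⟩ := Algebra.trace_surjective F (KK F p e) 1
  have := h ((sig F p e).symm (((c - sig F p e c) * x)⁻¹ * s))
  rw [omK_apply, AlgEquiv.apply_symm_apply, ← mul_assoc, mul_inv_cancel₀ (mul_ne_zero hc' hx),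
    one_mul, hs] at this
  exact one_ne_zero this

end kform

section vform
variable (F : Type*) [Field F] [Finite F] (p : ℕ) [Fact p.Prime] [CharP F p] (e : ℕ) [NeZero e]
  (a k : ℕ)

/-- the space `KK^a × (F^k × F^k)` -/
abbrev VV := (Fin a → KK F p e) × ((Fin k → F) × (Fin k → F))

/-- the alternating form on `VV` -/
noncomputable def omV (c : KK F p e) : LinearMap.BilinForm F (VV F p e a k) :=
  LinearMap.mk₂ F
    (fun v w => ∑ i, omK F p e c (v.1 i) (w.1 i) + (v.2.1 ⬝ᵥ w.2.2 - v.2.2 ⬝ᵥ w.2.1))
    (fun v v' w => by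
      simp only [Prod.fst_add, Prod.snd_add, Pi.add_apply, map_add, LinearMap.add_apply,
        Finset.sum_add_distrib, add_dotProduct]
      ring)
    (fun s v w => by
      simp only [Prod.smul_fst, Prod.smul_snd, Pi.smul_apply, map_smul, LinearMap.smul_apply,
        ← Finset.mul_sum, smul_dotProduct, smul_eq_mul]
      ring)
    (fun v w w' => by
      simp only [Prod.fst_add, Prod.snd_add, Pi.add_apply, map_add,
        Finset.sum_add_distrib, dotProduct_add]
      ring)
    (fun s v w => by
      simp only [Prod.smul_fst, Prod.smul_snd, Pi.smul_apply, map_smul,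
        ← Finset.mul_sum, dotProduct_smul, smul_eq_mul]
      ring)

theorem omV_apply (c : KK F p e) (v w : VV F p e a k) :
    omV F p e a k c v w =
      ∑ i, omK F p e c (v.1 i) (w.1 i) + (v.2.1 ⬝ᵥ w.2.2 - v.2.2 ⬝ᵥ w.2.1) := rfl

theorem omV_isAlt (c : KK F p e) : (omV F p e a k c).IsAlt := by
  intro v
  rw [omV_apply]
  simp only [omK_self, Finset.sum_const_zero, zero_add]
  rw [dotProduct_comm, sub_self]

theorem omV_sepLeft (c : KK F p e) (hc : sig F p e c ≠ c) (v : VV F p e a k)
    (h : ∀ w, omV F p e a k c v w = 0) : v = 0 := by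
  classical
  have h1 : v.1 = 0 := by
    funext i
    apply omK_sep F p e c (v.1 i) hc
    intro y
    have := h (Pi.single i y, 0, 0)
    rw [omV_apply] at this
    simp only [dotProduct_zero, sub_self, add_zero] at this
    rw [Finset.sum_eq_single i] at this
    · simpa using this
    · intro j _ hji
      simp [Pi.single_eq_of_ne hji]
    · intro hi
      exact absurd (Finset.mem_univ i) hi
  have h2 : v.2.1 = 0 := by
    funext j
    have := h (0, 0, Pi.single j 1)
    rw [omV_apply] at this
    simpa using this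
  have h3 : v.2.2 = 0 := by
    funext j
    have := h (0, Pi.single j 1, 0)
    rw [omV_apply] at this
    simpa using this
  exact Prod.ext h1 (Prod.ext h2 h3)

theorem omV_nondegenerate (c : KK F p e) (hc : sig F p e c ≠ c) :
    (omV F p e a k c).Nondegenerate := by
  refine ⟨fun v h => omV_sepLeft F p e a k c hc v h, fun w h => ?_⟩
  apply omV_sepLeft F p e a k c hc w
  intro v
  have := (omV_isAlt F p e a k c).neg_eq v w
  rw [← this, h, neg_zero]

theorem finrank_VV : Module.finrank F (VV F p e a k) = 2 * (a * e + k) := by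
  rw [Module.finrank_prod, Module.finrank_prod, Module.finrank_pi_fintype,
    Module.finrank_fintype_fun_eq_card, Fintype.card_fin]
  simp [FiniteField.finrank_extension]
  ring

/-- componentwise multiplication on the first factor -/
noncomputable def rhoV : (Fin a → (KK F p e)ˣ) →* Module.End F (VV F p e a k) where
  toFun u :=
    { toFun := fun x => (fun i => ((u i : (KK F p e)ˣ) : KK F p e) * x.1 i, x.2)
      map_add' := fun x y => by
        ext <;> simp [mul_add]
      map_smul' := fun s x => by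
        ext <;> simp }
  map_one' := by
    ext x <;> simp
  map_mul' := fun u u' => by
    ext x <;> simp [mul_assoc]

theorem rhoV_injective : Function.Injective (rhoV F p e a k) := by
  intro u u' h
  have := congrArg (fun f : Module.End F (VV F p e a k) => (f (1, 0)).1) h
  funext i
  have h2 := congrFun this i
  simp only [rhoV, MonoidHom.coe_mk, OneHom.coe_mk, LinearMap.coe_mk, AddHom.coe_mk,
    Pi.one_apply, mul_one] at h2
  exact Units.ext h2

theorem rhoV_isometry (c : KK F p e) (u : Fin a → (KK F p e)ˣ)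
    (hu : ∀ i, ((u i : (KK F p e)ˣ) : KK F p e) * sig F p e ((u i : (KK F p e)ˣ) : KK F p e) = 1)
    (v w : VV F p e a k) :
    omV F p e a k c (rhoV F p e a k u v) (rhoV F p e a k u w) = omV F p e a k c v w := by
  rw [omV_apply, omV_apply]
  simp only [rhoV, MonoidHom.coe_mk, OneHom.coe_mk, LinearMap.coe_mk, AddHom.coe_mk]
  congr 1
  apply Finset.sum_congr rfl
  intro i _
  exact omK_mul F p e c _ _ _ (hu i)

end vform

/-- Sylow subgroups of `Sp_{2n}(q)` for large primes. Let `F` be a field with `q` elements and `r` an odd prime with `r > n` and `r ∤ q` (so `r` does not divide the order `2^n n!` of the Weyl group). Let `d` be the multiplicative order of `q` modulo `r`, `a` the number of `i` with `1 ≤ i ≤ n` and `d ∣ 2i` (the degrees being `2, 4, …, 2n`), and `m` the `r`-part of the value at `q` of the `d`-th cyclotomic polynomial. Then every Sylow `r`-subgroup of the symplectic group `Sp_{2n}(q)` is a direct product of `a` cyclic groups of order `m`. -/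
theorem result {F : Type*} [Field F] [Fintype F] {q : ℕ} (hq : Fintype.card F = q) (n : ℕ)
    (r : ℕ) [Fact r.Prime] (hr2 : r ≠ 2) (hrn : n < r) (hrq : ¬ r ∣ q) (P : Sylow r ↥(Matrix.symplecticGroup (Fin n) F)) :
    Nonempty (↥(P : Subgroup ↥(Matrix.symplecticGroup (Fin n) F)) ≃*
      (Fin ((Finset.Icc 1 n).filter (fun i => orderOf (q : ZMod r) ∣ 2 * i)).card →
        Multiplicative (ZMod (r ^ padicValNat r ((Polynomial.cyclotomic (orderOf (q : ZMod r)) ℤ).eval (q : ℤ)).natAbs)))) := by
  classical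
  subst hq
  have hq1 : 1 < Fintype.card F := Fintype.one_lt_card
  have hpprime : Fact (ringChar F).Prime := ⟨CharP.char_is_prime F (ringChar F)⟩
  have hdpos : 0 < orderOf ((Fintype.card F : ℕ) : ZMod r) := ord_pos hq1 hrq
  have hr : r.Prime := Fact.out
  rw [count_eq]
  have hv := val_Phi hq1 hrq
  unfold Cfsg.Agent.S2904.Phi at hv
  rw [hv]
  have hcard : (Nat.card (Matrix.symplecticGroup (Fin n) F)).factorization r =
      (n / (if Even (orderOf ((Fintype.card F : ℕ) : ZMod r))
        then orderOf ((Fintype.card F : ℕ) : ZMod r) / 2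
        else orderOf ((Fintype.card F : ℕ) : ZMod r))) *
        padicValNat r (Fintype.card F ^ orderOf ((Fintype.card F : ℕ) : ZMod r) - 1) := by
    rw [Cfsg.Agent.Lib.Helper5.card_symplecticGroup_fin, val_spcard hq1 hrq hr2 n hrn]
  by_cases hev : Even (orderOf ((Fintype.card F : ℕ) : ZMod r))
  · -- `d = 2e`
    obtain ⟨e, he⟩ := hev
    have he2 : orderOf ((Fintype.card F : ℕ) : ZMod r) = 2 * e := by omega
    have hepos : 0 < e := by omega
    rw [if_pos ⟨e, he⟩] at hcard ⊢
    have hde : orderOf ((Fintype.card F : ℕ) : ZMod r) / 2 = e := by omega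
    rw [hde] at hcard ⊢
    rw [he2] at hcard ⊢
    have hNZ : NeZero e := ⟨hepos.ne'⟩
    obtain ⟨C₀⟩ : Nonempty (Sylow r (KK F (ringChar F) e)ˣ) := inferInstance
    have hcardK : Nat.card (KK F (ringChar F) e)ˣ = Fintype.card F ^ (2 * e) - 1 := by
      rw [Nat.card_units, FiniteField.natCard_extension, Nat.card_eq_fintype_card]
    have hcardC : Nat.card (C₀ : Subgroup (KK F (ringChar F) e)ˣ) =
        r ^ padicValNat r (Fintype.card F ^ (2 * e) - 1) := by
      rw [Sylow.card_eq_multiplicity, hcardK, Nat.factorization_def _ hr]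
    have hu : ∀ u : (C₀ : Subgroup (KK F (ringChar F) e)ˣ),
        (((u : (KK F (ringChar F) e)ˣ)) : KK F (ringChar F) e) *
          sig F (ringChar F) e (((u : (KK F (ringChar F) e)ˣ)) : KK F (ringChar F) e) = 1 := by
      intro u
      rw [sig_apply, ← pow_succ', Nat.card_eq_fintype_card]
      have h1 : (u : (KK F (ringChar F) e)ˣ) ^ (Fintype.card F ^ e + 1) = 1 := by
        have h2 : u ^ Nat.card (C₀ : Subgroup (KK F (ringChar F) e)ˣ) = 1 := pow_card_eq_one'
        have h3 : Nat.card (C₀ : Subgroup (KK F (ringChar F) e)ˣ) ∣ Fintype.card F ^ e + 1 := by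
          rw [hcardC]
          exact pow_val_dvd hq1 hrq e hepos he2
        obtain ⟨t, ht⟩ := h3
        have h4 : u ^ (Fintype.card F ^ e + 1) = 1 := by
          rw [ht, pow_mul, h2, one_pow]
        rw [← Subgroup.coe_pow, h4, Subgroup.coe_one]
      rw [← Units.val_pow_eq_pow_val, h1, Units.val_one]
    obtain ⟨c, hc⟩ := exists_sig_ne F (ringChar F) e
    have hfr : Module.finrank F (VV F (ringChar F) e (n / e) (n % e)) = 2 * n := by
      rw [finrank_VV, Nat.div_add_mod' n e]
    let ι : (Fin (n / e) → (C₀ : Subgroup (KK F (ringChar F) e)ˣ)) →*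
        (Fin (n / e) → (KK F (ringChar F) e)ˣ) :=
      { toFun := fun f i => (f i : (KK F (ringChar F) e)ˣ)
        map_one' := rfl
        map_mul' := fun _ _ => rfl }
    have hι : Function.Injective ι := by
      intro f g h
      funext i
      exact Subtype.ext (congrFun h i)
    obtain ⟨φ, hφ⟩ := Cfsg.Agent.Lib.Helper40.Darboux.exists_hom_to_Sp
      (omV F (ringChar F) e (n / e) (n % e) c) (omV_isAlt F (ringChar F) e (n / e) (n % e) c)
      (omV_nondegenerate F (ringChar F) e (n / e) (n % e) c hc) n hfr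
      ((rhoV F (ringChar F) e (n / e) (n % e)).comp ι)
      (fun g v w => rhoV_isometry F (ringChar F) e (n / e) (n % e) c (ι g) (fun i => hu (g i)) v w)
      (by
        rw [MonoidHom.coe_comp]
        exact (rhoV_injective F (ringChar F) e (n / e) (n % e)).comp hι)
    exact sylow_equiv_pi P (n / e) _ hcardC φ hφ hcard
  · -- `d` odd
    rw [if_neg hev] at hcard ⊢
    obtain ⟨Q⟩ : Nonempty (Sylow r (GL (Fin n) F)) := inferInstance
    obtain ⟨eQ⟩ := Cfsg.Agent.S2380.result rfl n r hrn hrq Q
    rw [hv] at eQ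
    have hψ : Function.Injective ((glToSp (F := F) n).comp
        ((Subgroup.subtype (Q : Subgroup (GL (Fin n) F))).comp eQ.symm.toMonoidHom)) := by
      rw [MonoidHom.coe_comp, MonoidHom.coe_comp]
      exact (glToSp_injective n).comp ((Subgroup.subtype_injective _).comp eQ.symm.injective)
    have hC : Nat.card (Multiplicative (ZMod (r ^ padicValNat r
        (Fintype.card F ^ orderOf ((Fintype.card F : ℕ) : ZMod r) - 1)))) =
        r ^ padicValNat r (Fintype.card F ^ orderOf ((Fintype.card F : ℕ) : ZMod r) - 1) := by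
      rw [Nat.card_congr Multiplicative.toAdd, Nat.card_zmod]
    exact sylow_equiv_pi P _ _ hC _ hψ hcard

end Cfsg.Agent.S2381
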