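import Cfsg.Statements.S2569
import Cfsg.Agent.Lib.Helper43.SemisimpleDet

set_option autoImplicit false
open Cfsg

namespace Cfsg.Agent.S2569

open Cfsg.Agent.Lib.Helper43

theorem result {F : Type*} [Field F] [Fintype F] {p : ℕ} [Fact p.Prime] [CharP F p] {n : ℕ} (x g : GL (Fin n) F) (hx : (orderOf x).Coprime p) : ∃ h : GL (Fin n) F, (h : Matrix (Fin n) (Fin n) F).det = 1 ∧ h * x * h⁻¹ = g * x * g⁻¹ := by
  classical
  rcases Nat.eq_zero_or_pos n with hn0 | hnpos
  · subst hn0
    exact ⟨g, Matrix.det_isEmpty, rfl⟩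
  haveI : Nonempty (Fin n) := ⟨⟨0, hnpos⟩⟩
  haveI : Nontrivial (Fin n → F) := Function.nontrivial
  set k := orderOf x with hk
  have hkF : (k : F) ≠ 0 := by
    intro h0
    rw [CharP.cast_eq_zero_iff F p] at h0
    have h1 : p ∣ Nat.gcd k p := Nat.dvd_gcd h0 (dvd_refl p)
    rw [Nat.Coprime.gcd_eq_one hx] at h1
    exact (Fact.out : p.Prime).one_lt.ne' (Nat.dvd_one.mp h1)
  set X : Matrix (Fin n) (Fin n) F := (x : Matrix (Fin n) (Fin n) F) with hX
  have hXk : X ^ k = 1 := by
    have h1 : x ^ k = 1 := pow_orderOf_eq_one x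
    have h2 := congrArg (fun y : GL (Fin n) F => (y : Matrix (Fin n) (Fin n) F)) h1
    simpa using h2
  have hφk : (Matrix.toLin' X) ^ k = 1 := by
    rw [← Matrix.toLin'_pow, hXk, Matrix.toLin'_one]
    rfl
  have hdg : (g : Matrix (Fin n) (Fin n) F).det ≠ 0 := by
    have := (Matrix.GeneralLinearGroup.det g).ne_zero
    rwa [Matrix.GeneralLinearGroup.val_det_apply] at this
  obtain ⟨z, hzc, hzd⟩ := exists_commuting_det (Matrix.toLin' X) k hkF hφk
    (g : Matrix (Fin n) (Fin n) F).det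
  set Z := LinearMap.toMatrix' z with hZ
  have hZdet : Z.det = (g : Matrix (Fin n) (Fin n) F).det := by
    rw [hZ, LinearMap.det_toMatrix', hzd]
  have hZX : Z * X = X * Z := by
    have h1 := congrArg LinearMap.toMatrix' hzc
    rw [LinearMap.toMatrix'_comp, LinearMap.toMatrix'_comp, LinearMap.toMatrix'_toLin'] at h1
    exact h1
  let zGL : GL (Fin n) F := Matrix.GeneralLinearGroup.mkOfDetNeZero Z (by rw [hZdet]; exact hdg)
  have hzx : zGL * x = x * zGL := by
    apply Units.ext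
    exact hZX
  refine ⟨g * zGL⁻¹, ?_, ?_⟩
  · have h1 : Matrix.GeneralLinearGroup.det (g * zGL⁻¹) = 1 := by
      rw [map_mul, map_inv]
      have : Matrix.GeneralLinearGroup.det zGL = Matrix.GeneralLinearGroup.det g := by
        apply Units.ext
        rw [Matrix.GeneralLinearGroup.val_det_apply, Matrix.GeneralLinearGroup.val_det_apply]
        exact hZdet
      rw [this, mul_inv_cancel]
    have h2 := congrArg Units.val h1
    rwa [Matrix.GeneralLinearGroup.val_det_apply] at h2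
  · calc g * zGL⁻¹ * x * (g * zGL⁻¹)⁻¹ = g * (zGL⁻¹ * (x * zGL)) * g⁻¹ := by group
      _ = g * (zGL⁻¹ * (zGL * x)) * g⁻¹ := by rw [hzx]
      _ = g * x * g⁻¹ := by group

end Cfsg.Agent.S2569
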