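import Cfsg.Statements.S2388
import Cfsg.Agent.S2569
import Cfsg.Agent.Lib.Helper40.SemisimpleConj

set_option autoImplicit false
open Cfsg

namespace Cfsg.Agent.S2388

open Cfsg.Agent.Lib.Helper40.SemisimpleConj

/-- The image of `g` in `GL` has the same order. -/
theorem orderOf_toGL {F : Type*} [Field F] {n : ℕ} (g : Matrix.SpecialLinearGroup (Fin n) F) :
    orderOf (Matrix.SpecialLinearGroup.toGL g) = orderOf g :=
  orderOf_injective (Matrix.SpecialLinearGroup.toGL : Matrix.SpecialLinearGroup (Fin n) F →* _)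
    (fun a b hab => by
      apply Matrix.SpecialLinearGroup.ext
      intro i j
      have := congrArg (fun y : GL (Fin n) F => (y : Matrix (Fin n) (Fin n) F) i j) hab
      simpa using this) g

/-- In `SL_n(q)`, `q` a power of the prime `p`, two elements of order prime to `p` with the same characteristic polynomial are conjugate in `SL_n(q)` (not merely in `GL_n`). -/
theorem result {F : Type*} [Field F] [Fintype F] (p : ℕ) [Fact p.Prime] [CharP F p] (n : ℕ)
    (g h : Matrix.SpecialLinearGroup (Fin n) F) (hg : (orderOf g).Coprime p) (hh : (orderOf h).Coprime p)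
    (hc : (g : Matrix (Fin n) (Fin n) F).charpoly = (h : Matrix (Fin n) (Fin n) F).charpoly) : IsConj g h := by
  set g' : GL (Fin n) F := Matrix.SpecialLinearGroup.toGL g with hg'
  set h' : GL (Fin n) F := Matrix.SpecialLinearGroup.toGL h with hh'
  have hg1 : (orderOf g').Coprime p := by rw [hg', orderOf_toGL]; exact hg
  have hh1 : (orderOf h').Coprime p := by rw [hh', orderOf_toGL]; exact hh
  have hconj : IsConj g' h' := isConj_GL_of_charpoly_eq p g' h' hg1 hh1 (by simpa [hg', hh'] using hc)
  rw [isConj_iff] at hconj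
  obtain ⟨c, hc1⟩ := hconj
  obtain ⟨k, hk1, hk2⟩ := Cfsg.Agent.S2569.result (p := p) g' c hg1
  rw [isConj_iff]
  set k' : Matrix.SpecialLinearGroup (Fin n) F := ⟨(k : Matrix (Fin n) (Fin n) F), hk1⟩ with hk'
  refine ⟨k', ?_⟩
  rw [mul_inv_eq_iff_eq_mul]
  have h3 : k * g' = h' * k := by
    rw [← mul_inv_eq_iff_eq_mul, hk2, hc1]
  apply Matrix.SpecialLinearGroup.ext
  intro i j
  have := congrArg (fun y : GL (Fin n) F => (y : Matrix (Fin n) (Fin n) F) i j) h3
  simp only [hg', hh', Matrix.GeneralLinearGroup.coe_mul, Matrix.SpecialLinearGroup.coe_GL_coe_matrix] at this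
  rw [Matrix.SpecialLinearGroup.coe_mul, Matrix.SpecialLinearGroup.coe_mul]
  exact this

end Cfsg.Agent.S2388
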