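import Cfsg.Statements.S2384
import Cfsg.Agent.S2388
import Cfsg.Agent.Lib.Helper40.SemisimpleCount

set_option autoImplicit false
open Cfsg

namespace Cfsg.Agent.S2384

open Cfsg.Agent.Lib.Helper40.SemisimpleConj

theorem coeff_zero_charpoly_SL {F : Type*} [Field F] {n : ℕ}
    (g : Matrix.SpecialLinearGroup (Fin n) F) :
    (g : Matrix (Fin n) (Fin n) F).charpoly.coeff 0 = (-1) ^ n := by
  have h1 := Matrix.det_eq_sign_charpoly_coeff (g : Matrix (Fin n) (Fin n) F)
  rw [g.2, Fintype.card_fin] at h1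
  have h2 : ((-1 : F) ^ n) * ((-1 : F) ^ n) = 1 := by
    rw [← mul_pow]; simp
  calc (g : Matrix (Fin n) (Fin n) F).charpoly.coeff 0
      = ((-1 : F) ^ n * (-1 : F) ^ n) * (g : Matrix (Fin n) (Fin n) F).charpoly.coeff 0 := by
        rw [h2, one_mul]
    _ = (-1 : F) ^ n * ((-1 : F) ^ n * (g : Matrix (Fin n) (Fin n) F).charpoly.coeff 0) := by ring
    _ = (-1) ^ n := by rw [← h1, mul_one]

theorem charpoly_eq_of_isConj_SL {F : Type*} [Field F] {n : ℕ}
    (g h : Matrix.SpecialLinearGroup (Fin n) F) (hc : IsConj g h) :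
    (g : Matrix (Fin n) (Fin n) F).charpoly = (h : Matrix (Fin n) (Fin n) F).charpoly := by
  have h1 := MonoidHom.map_isConj
    (Matrix.SpecialLinearGroup.toGL : Matrix.SpecialLinearGroup (Fin n) F →* _) hc
  have h2 := charpoly_eq_of_isConj _ _ h1
  simpa using h2

theorem card_SL_semisimple_classes {F : Type*} [Field F] [Fintype F] (p : ℕ) [Fact p.Prime]
    [CharP F p] (m : ℕ) :
    Nat.card {c : ConjClasses (Matrix.SpecialLinearGroup (Fin (m + 1)) F) //
      ∃ g : Matrix.SpecialLinearGroup (Fin (m + 1)) F,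
        ConjClasses.mk g = c ∧ (orderOf g).Coprime p} = Fintype.card F ^ m := by
  classical
  rw [← card_vec_eq (F := F) m ((-1) ^ (m + 1))]
  let Ψ : {c : ConjClasses (Matrix.SpecialLinearGroup (Fin (m + 1)) F) //
      ∃ g : Matrix.SpecialLinearGroup (Fin (m + 1)) F,
        ConjClasses.mk g = c ∧ (orderOf g).Coprime p} →
      {a : Fin (m + 1) → F // a 0 = (-1) ^ (m + 1)} := fun c =>
    ⟨cpVec ((Classical.choose c.2 : Matrix.SpecialLinearGroup (Fin (m + 1)) F) :
      Matrix (Fin (m + 1)) (Fin (m + 1)) F), coeff_zero_charpoly_SL _⟩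
  apply Nat.card_eq_of_bijective Ψ
  constructor
  · intro c c' hcc
    have h1 := congrArg Subtype.val hcc
    simp only [Ψ] at h1
    have h2 := charpoly_eq_of_cpVec_eq _ _ h1
    obtain ⟨hc1, hc2⟩ := Classical.choose_spec c.2
    obtain ⟨hc1', hc2'⟩ := Classical.choose_spec c'.2
    have h3 := Cfsg.Agent.S2388.result p (m + 1) _ _ hc2 hc2' h2
    apply Subtype.ext
    rw [← hc1, ← hc1']
    exact ConjClasses.mk_eq_mk_iff_isConj.2 h3
  · rintro ⟨a, ha⟩
    have ha0 : (vecPoly a).coeff 0 = (-1) ^ (m + 1) := by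
      have := vecPoly_coeff a 0
      rw [Fin.val_zero] at this
      rw [this]; exact ha
    obtain ⟨g, hg, hgc⟩ := exists_GL_of_charpoly p (m + 1) (vecPoly a) (vecPoly_monic a)
      (vecPoly_natDegree a) (by
        rw [ha0]
        exact pow_ne_zero _ (neg_ne_zero.2 one_ne_zero))
    have hdet : (g : Matrix (Fin (m + 1)) (Fin (m + 1)) F).det = 1 := by
      rw [Matrix.det_eq_sign_charpoly_coeff, hgc, ha0, Fintype.card_fin, ← mul_pow]
      simp
    set g' : Matrix.SpecialLinearGroup (Fin (m + 1)) F :=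
      ⟨(g : Matrix (Fin (m + 1)) (Fin (m + 1)) F), hdet⟩ with hg'
    have hgg' : Matrix.SpecialLinearGroup.toGL g' = g := by
      apply Units.ext
      rfl
    have hg'o : (orderOf g').Coprime p := by
      rw [← Cfsg.Agent.S2388.orderOf_toGL, hgg']; exact hg
    refine ⟨⟨ConjClasses.mk g', g', rfl, hg'o⟩, ?_⟩
    apply Subtype.ext
    simp only [Ψ]
    set c : {c : ConjClasses (Matrix.SpecialLinearGroup (Fin (m + 1)) F) //
      ∃ g : Matrix.SpecialLinearGroup (Fin (m + 1)) F,
        ConjClasses.mk g = c ∧ (orderOf g).Coprime p} :=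
      ⟨ConjClasses.mk g', g', rfl, hg'o⟩ with hcdef
    obtain ⟨hc1, hc2⟩ := Classical.choose_spec c.2
    have h3 : IsConj (Classical.choose c.2) g' := ConjClasses.mk_eq_mk_iff_isConj.1 hc1
    apply cpVec_eq_of_charpoly_eq_vecPoly
    rw [charpoly_eq_of_isConj_SL _ _ h3]
    exact hgc

/-- In `SL_n(q)`, `q` a power of the prime `p`, the number of conjugacy classes of elements of order prime to `p` (the semisimple classes) is `q^(n-1)`. -/
theorem result {F : Type*} [Field F] [Fintype F] {q : ℕ} (hq : Fintype.card F = q) (p : ℕ) [Fact p.Prime] [CharP F p] (n : ℕ) (hn : 1 ≤ n) :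
    Nat.card {c : ConjClasses (Matrix.SpecialLinearGroup (Fin n) F) //
      ∃ g : Matrix.SpecialLinearGroup (Fin n) F, ConjClasses.mk g = c ∧ (orderOf g).Coprime p} = q ^ (n - 1) := by
  obtain ⟨m, rfl⟩ : ∃ m, n = m + 1 := ⟨n - 1, by omega⟩
  rw [← hq, Nat.add_sub_cancel]
  exact card_SL_semisimple_classes p m

end Cfsg.Agent.S2384
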