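import Cfsg.Statements.S2390
import Cfsg.Agent.Lib.Helper40.HermSU

set_option autoImplicit false
open Cfsg

namespace Cfsg.Agent.S2390

open Cfsg.Agent.Lib.Helper40

theorem coe_pow_SU {F : Type*} [Field F] {q n : ℕ} (g : ↥(Cfsg.SU n F q)) (k : ℕ) :
    (((g ^ k : ↥(Cfsg.SU n F q)) : Matrix.SpecialLinearGroup (Fin n) F) :
      Matrix (Fin n) (Fin n) F) =
    ((g : Matrix.SpecialLinearGroup (Fin n) F) : Matrix (Fin n) (Fin n) F) ^ k := by
  rw [Subgroup.coe_pow, Matrix.SpecialLinearGroup.coe_pow]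

/-- In the special unitary group `SU_n(q)` (inside `SL_n` over the field with `q²` elements), `q` a power of the prime `p`, two elements of order prime to `p` with the same characteristic polynomial are conjugate in `SU_n(q)`. -/
theorem result {F : Type*} [Field F] [Fintype F] {q : ℕ} (hF : Fintype.card F = q ^ 2) (p : ℕ) [Fact p.Prime] [CharP F p] (n : ℕ)
    (g h : ↥(Cfsg.SU n F q)) (hg : (orderOf g).Coprime p) (hh : (orderOf h).Coprime p)
    (hc : ((g : Matrix.SpecialLinearGroup (Fin n) F) : Matrix (Fin n) (Fin n) F).charpoly =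
      ((h : Matrix.SpecialLinearGroup (Fin n) F) : Matrix (Fin n) (Fin n) F).charpoly) : IsConj g h := by
  set N := orderOf g * orderOf h with hN
  have hNcop : N.Coprime p := Nat.Coprime.mul_left hg hh
  have hNF : (N : F) ≠ 0 := Symp.natCast_ne_zero_of_coprime p N hNcop
  have hN0 : 0 < N := Nat.pos_of_ne_zero (by
    intro h0
    rw [h0] at hNF
    simp at hNF)
  have hgN : ((g : Matrix.SpecialLinearGroup (Fin n) F) : Matrix (Fin n) (Fin n) F) ^ N = 1 := by
    rw [← coe_pow_SU, hN, pow_mul, pow_orderOf_eq_one, one_pow]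
    rfl
  have hhN : ((h : Matrix.SpecialLinearGroup (Fin n) F) : Matrix (Fin n) (Fin n) F) ^ N = 1 := by
    rw [← coe_pow_SU, hN, mul_comm, pow_mul, pow_orderOf_eq_one, one_pow]
    rfl
  obtain ⟨S, hSdet, hS, hSgh⟩ := Herm.exists_special_unitary_conj hF n
    ((g : Matrix.SpecialLinearGroup (Fin n) F) : Matrix (Fin n) (Fin n) F)
    ((h : Matrix.SpecialLinearGroup (Fin n) F) : Matrix (Fin n) (Fin n) F)
    (fun u v => g.2 u v) (fun u v => h.2 u v) N hN0 hNF hgN hhN hc
  have hx : (⟨S, hSdet⟩ : Matrix.SpecialLinearGroup (Fin n) F) ∈ Cfsg.SU n F q := by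
    intro u v
    exact hS u v
  rw [isConj_iff]
  refine ⟨⟨⟨S, hSdet⟩, hx⟩, ?_⟩
  rw [mul_inv_eq_iff_eq_mul]
  apply Subtype.ext
  apply Subtype.ext
  exact hSgh

end Cfsg.Agent.S2390
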