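import Cfsg.Statements.S2386
import Cfsg.Agent.S2390
import Cfsg.Agent.Lib.Helper40.HermCount2

set_option autoImplicit false
open Cfsg

namespace Cfsg.Agent.S2386

open Cfsg.Agent.Lib.Helper40 Cfsg.Agent.Lib.Helper40.SemisimpleConj Cfsg.Agent.Lib.Helper40.Herm

theorem coeff_zero_charpoly_SL' {F : Type*} [Field F] {n : ℕ}
    (g : Matrix.SpecialLinearGroup (Fin n) F) :
    (g : Matrix (Fin n) (Fin n) F).charpoly.coeff 0 = (-1) ^ n := by
  have h1 := Matrix.det_eq_sign_charpoly_coeff (g : Matrix (Fin n) (Fin n) F)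
  rw [g.2, Fintype.card_fin] at h1
  have h2 : ((-1 : F) ^ n) * ((-1 : F) ^ n) = 1 := by
    rw [← mul_pow]; simp
  calc (g : Matrix (Fin n) (Fin n) F).charpoly.coeff 0
      = ((-1 : F) ^ n * (-1 : F) ^ n) * (g : Matrix (Fin n) (Fin n) F).charpoly.coeff 0 := by
        rw [h2, one_mul]
    _ = (-1 : F) ^ n * ((-1 : F) ^ n * (g : Matrix (Fin n) (Fin n) F).charpoly.coeff 0) := by ring
    _ = (-1) ^ n := by rw [← h1, mul_one]

theorem charpoly_eq_of_isConj_SU {F : Type*} [Field F] {n q : ℕ}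
    (g h : ↥(Cfsg.SU n F q)) (hc : IsConj g h) :
    ((g : Matrix.SpecialLinearGroup (Fin n) F) : Matrix (Fin n) (Fin n) F).charpoly =
      ((h : Matrix.SpecialLinearGroup (Fin n) F) : Matrix (Fin n) (Fin n) F).charpoly := by
  have h0 := MonoidHom.map_isConj (Cfsg.SU n F q).subtype hc
  have h1 := MonoidHom.map_isConj
    (Matrix.SpecialLinearGroup.toGL : Matrix.SpecialLinearGroup (Fin n) F →* _) h0
  have h2 := charpoly_eq_of_isConj _ _ h1
  simpa using h2

/-- the coefficient vector of an element of `SU` is fixed by the semilinear involution -/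
theorem coeff_vec_fixed {F : Type*} [Field F] [Fintype F] {q : ℕ} (hF : Fintype.card F = q ^ 2)
    (m : ℕ) (g : ↥(Cfsg.SU (m + 1) F q)) :
    iotaHom hF m (fun j : Fin m =>
      ((g : Matrix.SpecialLinearGroup (Fin (m + 1)) F) :
        Matrix (Fin (m + 1)) (Fin (m + 1)) F).charpoly.coeff ((j : ℕ) + 1)) =
    (fun j : Fin m =>
      ((g : Matrix.SpecialLinearGroup (Fin (m + 1)) F) :
        Matrix (Fin (m + 1)) (Fin (m + 1)) F).charpoly.coeff ((j : ℕ) + 1)) := by
  funext j
  rw [iotaHom_apply]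
  have h1 := coeff_charpoly_of_unitary hF (m + 1)
    ((g : Matrix.SpecialLinearGroup (Fin (m + 1)) F) : Matrix (Fin (m + 1)) (Fin (m + 1)) F)
    (fun u v => g.2 u v) ((j : ℕ) + 1) (by have := j.2; omega)
  have e1 : m + 1 - ((j : ℕ) + 1) = ((Fin.rev j : Fin m) : ℕ) + 1 := by
    rw [Fin.val_rev]
    have := j.2
    omega
  rw [e1, coeff_zero_charpoly_SL'] at h1
  rw [h1]
  have h2 : tauHom hF ((-1 : F) ^ (m + 1)) = sgn F m := tau_sgn hF m
  rw [h2, ← mul_assoc, sgn_mul_sgn, one_mul]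

/-- In the special unitary group `SU_n(q)` (matrices of determinant one over the field with `q²` elements preserving the standard Hermitian form), `q` a power of the prime `p`, the number of conjugacy classes of elements of order prime to `p` is `q^(n-1)`. -/
theorem result {F : Type*} [Field F] [Fintype F] {q : ℕ} (hF : Fintype.card F = q ^ 2) (p : ℕ) [Fact p.Prime] [CharP F p] (n : ℕ) (hn : 1 ≤ n) :
    Nat.card {c : ConjClasses ↥(Cfsg.SU n F q) // ∃ g : ↥(Cfsg.SU n F q), ConjClasses.mk g = c ∧ (orderOf g).Coprime p} = q ^ (n - 1) := by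
  classical
  obtain ⟨m, rfl⟩ : ∃ m, n = m + 1 := ⟨n - 1, by omega⟩
  rw [Nat.add_sub_cancel, ← card_fixed_iota hF m]
  let cp : ↥(Cfsg.SU (m + 1) F q) → Polynomial F := fun g =>
    ((g : Matrix.SpecialLinearGroup (Fin (m + 1)) F) :
      Matrix (Fin (m + 1)) (Fin (m + 1)) F).charpoly
  let Ψ : {c : ConjClasses ↥(Cfsg.SU (m + 1) F q) //
      ∃ g : ↥(Cfsg.SU (m + 1) F q), ConjClasses.mk g = c ∧ (orderOf g).Coprime p} →
      {a : Fin m → F // iotaHom hF m a = a} := fun c =>
    ⟨fun j : Fin m => (cp (Classical.choose c.2)).coeff ((j : ℕ) + 1),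
      coeff_vec_fixed hF m (Classical.choose c.2)⟩
  apply Nat.card_eq_of_bijective Ψ
  constructor
  · intro c c' hcc
    have h1 := congrArg Subtype.val hcc
    simp only [Ψ] at h1
    obtain ⟨hc1, hc2⟩ := Classical.choose_spec c.2
    obtain ⟨hc1', hc2'⟩ := Classical.choose_spec c'.2
    have h2 : cp (Classical.choose c.2) = cp (Classical.choose c'.2) := by
      apply eq_of_coeff_eq (n := m + 1) _ _ (Matrix.charpoly_monic _) (Matrix.charpoly_monic _)
        (by rw [Matrix.charpoly_natDegree_eq_dim, Fintype.card_fin])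
        (by rw [Matrix.charpoly_natDegree_eq_dim, Fintype.card_fin])
      intro i
      rcases Nat.eq_zero_or_pos (i : ℕ) with h0 | hpos
      · rw [h0]
        exact (coeff_zero_charpoly_SL' _).trans (coeff_zero_charpoly_SL' _).symm
      · have hj : (i : ℕ) - 1 < m := by have := i.2; omega
        have := congrFun h1 ⟨(i : ℕ) - 1, hj⟩
        change (cp (Classical.choose c.2)).coeff ((i : ℕ) - 1 + 1) =
          (cp (Classical.choose c'.2)).coeff ((i : ℕ) - 1 + 1) at this
        rwa [Nat.sub_add_cancel hpos] at this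
    have h3 := Cfsg.Agent.S2390.result hF p (m + 1) _ _ hc2 hc2' h2
    apply Subtype.ext
    rw [← hc1, ← hc1']
    exact ConjClasses.mk_eq_mk_iff_isConj.2 h3
  · rintro ⟨a, ha⟩
    obtain ⟨g, hgo, hgc⟩ := exists_SU_of_param hF p m a ha
    refine ⟨⟨ConjClasses.mk g, g, rfl, hgo⟩, ?_⟩
    apply Subtype.ext
    simp only [Ψ]
    set c : {c : ConjClasses ↥(Cfsg.SU (m + 1) F q) //
      ∃ g : ↥(Cfsg.SU (m + 1) F q), ConjClasses.mk g = c ∧ (orderOf g).Coprime p} :=
      ⟨ConjClasses.mk g, g, rfl, hgo⟩ with hcdef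
    obtain ⟨hc1, hc2⟩ := Classical.choose_spec c.2
    have h3 : IsConj (Classical.choose c.2) g := ConjClasses.mk_eq_mk_iff_isConj.1 hc1
    funext j
    simp only [cp]
    rw [charpoly_eq_of_isConj_SU _ _ h3, hgc, paramPoly_coeff_succ]

end Cfsg.Agent.S2386
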