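import Cfsg.Statements.S2391

set_option autoImplicit false
open Cfsg

namespace Cfsg.Agent.S2391

section
variable {F : Type*} [Field F] {n : ℕ}

local notation "SLn" => Matrix.SpecialLinearGroup (Fin n) F

/-- the linear map of a special linear matrix -/
def act (g : SLn) : (Fin n → F) →ₗ[F] (Fin n → F) :=
  Matrix.mulVecLin (g : Matrix (Fin n) (Fin n) F)

theorem act_apply (g : SLn) (v : Fin n → F) :
    act g v = (g : Matrix (Fin n) (Fin n) F).mulVec v := rfl

theorem act_mul (g h : SLn) (v : Fin n → F) : act (g * h) v = act g (act h v) := by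
  simp only [act_apply, Matrix.SpecialLinearGroup.coe_mul, Matrix.mulVec_mulVec]

theorem act_one (v : Fin n → F) : act (1 : SLn) v = v := by
  simp only [act_apply, Matrix.SpecialLinearGroup.coe_one, Matrix.one_mulVec]

theorem act_inv_act (g : SLn) (v : Fin n → F) : act g⁻¹ (act g v) = v := by
  rw [← act_mul, inv_mul_cancel, act_one]

theorem act_act_inv (g : SLn) (v : Fin n → F) : act g (act g⁻¹ v) = v := by
  rw [← act_mul, mul_inv_cancel, act_one]

/-- the ascending series -/
def Wseq (U : Subgroup SLn) : ℕ → Submodule F (Fin n → F)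
  | 0 => ⊥
  | (j + 1) => ⨅ u : U, (Wseq U j).comap (act (u : SLn) - LinearMap.id)

theorem mem_Wseq_succ (U : Subgroup SLn) (j : ℕ) (v : Fin n → F) :
    v ∈ Wseq U (j + 1) ↔ ∀ u ∈ U, act u v - v ∈ Wseq U j := by
  simp only [Wseq, Submodule.mem_iInf, Submodule.mem_comap, LinearMap.sub_apply,
    LinearMap.id_apply, Subtype.forall]

theorem Wseq_inv (U : Subgroup SLn) (j : ℕ) :
    ∀ g ∈ Subgroup.normalizer (U : Set SLn), ∀ v ∈ Wseq U j, act g v ∈ Wseq U j := by
  induction j with
  | zero =>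
    intro g _ v hv
    have : v = 0 := by simpa [Wseq] using hv
    rw [this, map_zero]
    exact Submodule.zero_mem _
  | succ j ih =>
    intro g hg v hv
    rw [mem_Wseq_succ] at hv ⊢
    intro u hu
    have hu' : g⁻¹ * u * g⁻¹⁻¹ ∈ U := by
      have hg' : g⁻¹ ∈ Subgroup.normalizer (U : Set SLn) := Subgroup.inv_mem _ hg
      exact (Subgroup.mem_normalizer_iff.1 hg' u).1 hu
    rw [inv_inv] at hu'
    have h1 := hv _ hu'
    have h2 := ih g hg _ h1
    have : act g (act (g⁻¹ * u * g) v - v) = act u (act g v) - act g v := by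
      rw [map_sub, act_mul, act_mul, act_act_inv]
    rw [← this]
    exact h2

theorem le_normalizer' (U : Subgroup SLn) : ∀ u ∈ U, u ∈ Subgroup.normalizer (U : Set SLn) :=
  fun u hu => Subgroup.le_normalizer hu

theorem Wseq_mono_succ (U : Subgroup SLn) (j : ℕ) : Wseq U j ≤ Wseq U (j + 1) := by
  intro v hv
  rw [mem_Wseq_succ]
  intro u hu
  exact Submodule.sub_mem _ (Wseq_inv U j u (le_normalizer' U u hu) v hv) hv

theorem Wseq_map (U : Subgroup SLn) (j : ℕ) (g : SLn)
    (hg : g ∈ Subgroup.normalizer (U : Set SLn)) :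
    (Wseq U j).map (Matrix.mulVecLin (g : Matrix (Fin n) (Fin n) F)) = Wseq U j := by
  apply le_antisymm
  · rintro _ ⟨v, hv, rfl⟩
    exact Wseq_inv U j g hg v hv
  · intro v hv
    refine ⟨act g⁻¹ v, Wseq_inv U j g⁻¹ (Subgroup.inv_mem _ hg) v hv, ?_⟩
    exact act_act_inv g v

end

section strict
variable {F : Type*} [Field F] [Fintype F] {n : ℕ} (p : ℕ) [Fact p.Prime] [CharP F p]

local notation "SLn" => Matrix.SpecialLinearGroup (Fin n) F

/-- Key lemma: a `p`-group stabilising a proper subspace fixes a vector modulo it. -/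
theorem exists_fixed_mod (U : Subgroup SLn) (hU : IsPGroup p ↥U)
    (W : Submodule F (Fin n → F)) (hW : W ≠ ⊤) (hinv : ∀ u ∈ U, ∀ v ∈ W, act u v ∈ W) :
    ∃ v, v ∉ W ∧ ∀ u ∈ U, act u v - v ∈ W := by
  classical
  have hle : ∀ u : U, W ≤ W.comap (act (u : SLn)) := fun u v hv => hinv u u.2 v hv
  letI : MulAction U ((Fin n → F) ⧸ W) :=
    { smul := fun u q => Submodule.mapQ W W (act (u : SLn)) (hle u) q
      one_smul := by
        intro q
        induction q using Submodule.Quotient.induction_on with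
        | H v =>
          show Submodule.mapQ W W (act ((1 : U) : SLn)) (hle 1) (Submodule.Quotient.mk v) = _
          rw [Submodule.mapQ_apply, Subgroup.coe_one, act_one]
      mul_smul := by
        intro a b q
        induction q using Submodule.Quotient.induction_on with
        | H v =>
          show Submodule.mapQ W W (act ((a * b : U) : SLn)) (hle _) (Submodule.Quotient.mk v) =
            Submodule.mapQ W W (act (a : SLn)) (hle a)
              (Submodule.mapQ W W (act (b : SLn)) (hle b) (Submodule.Quotient.mk v))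
          rw [Submodule.mapQ_apply, Submodule.mapQ_apply, Submodule.mapQ_apply, Subgroup.coe_mul,
            act_mul] }
  have hsmul : ∀ (u : U) (v : Fin n → F),
      u • (Submodule.Quotient.mk v : (Fin n → F) ⧸ W) = Submodule.Quotient.mk (act (u : SLn) v) :=
    fun u v => Submodule.mapQ_apply _ _ _ _
  have : Finite ((Fin n → F) ⧸ W) := inferInstance
  -- cardinality divisible by p
  obtain ⟨x, hx⟩ : ∃ x : Fin n → F, x ∉ W := by
    by_contra h
    push Not at h
    exact hW (eq_top_iff.2 fun v _ => h v)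
  have hxq : (Submodule.Quotient.mk x : (Fin n → F) ⧸ W) ≠ 0 := by
    intro h
    exact hx ((Submodule.Quotient.mk_eq_zero W).1 h)
  have hp : p ∣ Nat.card ((Fin n → F) ⧸ W) := by
    have hpx : p • (Submodule.Quotient.mk x : (Fin n → F) ⧸ W) = 0 := by
      have : (p : F) • (Submodule.Quotient.mk x : (Fin n → F) ⧸ W) = 0 := by
        rw [CharP.cast_eq_zero, zero_smul]
      rwa [Nat.cast_smul_eq_nsmul] at this
    have hord : addOrderOf (Submodule.Quotient.mk x : (Fin n → F) ⧸ W) = p := by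
      have hdvd := addOrderOf_dvd_of_nsmul_eq_zero hpx
      rcases (Nat.dvd_prime (Fact.out : p.Prime)).1 hdvd with h | h
      · exact absurd (AddMonoid.addOrderOf_eq_one_iff.1 h) hxq
      · exact h
    rw [← hord]
    exact addOrderOf_dvd_natCard _
  have h0 : (0 : (Fin n → F) ⧸ W) ∈ MulAction.fixedPoints U ((Fin n → F) ⧸ W) := by
    intro u
    have : (0 : (Fin n → F) ⧸ W) = Submodule.Quotient.mk 0 := rfl
    rw [this, hsmul, map_zero]
  obtain ⟨b, hb, hb0⟩ := hU.exists_fixed_point_of_prime_dvd_card_of_fixed_point _ hp h0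
  induction b using Submodule.Quotient.induction_on with
  | H v =>
    refine ⟨v, ?_, ?_⟩
    · intro hv
      exact hb0 ((Submodule.Quotient.mk_eq_zero W).2 hv).symm
    · intro u hu
      have := hb ⟨u, hu⟩
      rw [hsmul] at this
      exact (Submodule.Quotient.eq W).1 this

theorem Wseq_strict (U : Subgroup SLn) (hU : IsPGroup p ↥U) (j : ℕ) (hj : Wseq U j ≠ ⊤) :
    Wseq U j < Wseq U (j + 1) := by
  refine lt_of_le_of_ne (Wseq_mono_succ U j) ?_
  intro heq
  obtain ⟨v, hv, hv'⟩ := exists_fixed_mod p U hU (Wseq U j) hj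
    (fun u hu v hv => Wseq_inv U j u (le_normalizer' U u hu) v hv)
  apply hv
  rw [heq, mem_Wseq_succ]
  exact hv'

theorem Wseq_top (U : Subgroup SLn) (hU : IsPGroup p ↥U) : ∃ m, Wseq U m = ⊤ := by
  have hmono : Monotone (Wseq U) := monotone_nat_of_le_succ (Wseq_mono_succ U)
  obtain ⟨m, hm⟩ := (monotone_stabilizes_iff_noetherian (R := F) (M := Fin n → F)).2
    inferInstance ⟨Wseq U, hmono⟩
  refine ⟨m, ?_⟩
  by_contra h
  have h1 := Wseq_strict p U hU m h
  have h2 : Wseq U m = Wseq U (m + 1) := hm (m + 1) (Nat.le_succ m)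
  exact (ne_of_lt h1) h2

end strict

theorem result {F : Type*} [Field F] [Fintype F] (p : ℕ) [Fact p.Prime] [CharP F p] (n : ℕ)
    (U : Subgroup (Matrix.SpecialLinearGroup (Fin n) F)) (hU : IsPGroup p ↥U) (hne : U ≠ ⊥) :
    ∃ (k : ℕ) (V : Fin (k + 2) → Submodule F (Fin n → F)), 1 ≤ k ∧ StrictMono V ∧ V 0 = ⊥ ∧ V (Fin.last (k + 1)) = ⊤ ∧
      (∀ g ∈ Subgroup.normalizer (U : Set (Matrix.SpecialLinearGroup (Fin n) F)), ∀ i, (V i).map (Matrix.mulVecLin (g : Matrix (Fin n) (Fin n) F)) = V i) ∧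
      (∀ u ∈ U, ∀ i : Fin (k + 1), ∀ v ∈ V i.succ, (u : Matrix (Fin n) (Fin n) F).mulVec v - v ∈ V (Fin.castSucc i)) := by
  classical
  obtain ⟨u', hu1'⟩ := (Subgroup.ne_bot_iff_exists_ne_one).1 hne
  obtain ⟨u, hu, hu1⟩ : ∃ u ∈ U, u ≠ 1 := ⟨u'.1, u'.2, fun h => hu1' (Subtype.ext h)⟩
  obtain ⟨v0, hv0⟩ : ∃ v, act u v ≠ v := by
    by_contra h
    push Not at h
    apply hu1
    apply Subtype.ext
    rw [Matrix.ext_iff_mulVec]
    intro v
    rw [Matrix.SpecialLinearGroup.coe_one, Matrix.one_mulVec]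
    exact h v
  have hex := Wseq_top p U hU
  have hm0 : Wseq U (Nat.find hex) = ⊤ := Nat.find_spec hex
  have hmin : ∀ j, j < Nat.find hex → Wseq U j ≠ ⊤ := fun j hj => Nat.find_min hex hj
  have hW0 : Wseq U 0 ≠ ⊤ := by
    intro h
    have : v0 ∈ Wseq U 0 := by rw [h]; trivial
    have hz : v0 = 0 := by simpa [Wseq] using this
    apply hv0
    rw [hz, map_zero]
  have hW1 : Wseq U 1 ≠ ⊤ := by
    intro h
    have : v0 ∈ Wseq U (0 + 1) := by rw [zero_add, h]; trivial
    rw [mem_Wseq_succ] at this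
    have h2 := this u hu
    have hz : act u v0 - v0 = 0 := by simpa [Wseq] using h2
    exact hv0 (sub_eq_zero.1 hz)
  have hge : 2 ≤ Nat.find hex := by
    by_contra h
    push Not at h
    interval_cases hh : Nat.find hex
    · exact hW0 hm0
    · exact hW1 hm0
  obtain ⟨k, hk⟩ : ∃ k, Nat.find hex = k + 1 := ⟨Nat.find hex - 1, by omega⟩
  refine ⟨k, fun i => Wseq U i.val, by omega, ?_, ?_, ?_, ?_, ?_⟩
  · rw [Fin.strictMono_iff_lt_succ]
    intro i
    show Wseq U (Fin.castSucc i).val < Wseq U i.succ.val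
    rw [Fin.val_castSucc, Fin.val_succ]
    exact Wseq_strict p U hU _ (hmin _ (by rw [hk]; exact i.2))
  · show Wseq U ((0 : Fin (k + 2)) : ℕ) = ⊥
    rw [Fin.val_zero]
    rfl
  · show Wseq U (Fin.last (k + 1)).val = ⊤
    rw [Fin.val_last, ← hk]
    exact hm0
  · intro g hg i
    exact Wseq_map U _ g hg
  · intro u hu i v hv
    have hv' : v ∈ Wseq U (i.val + 1) := by
      have : (i.succ : Fin (k + 2)).val = i.val + 1 := Fin.val_succ i
      rw [← this]
      exact hv
    rw [mem_Wseq_succ] at hv'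
    exact hv' u hu

end Cfsg.Agent.S2391
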