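import Cfsg.Statements.S2392
import Cfsg.Agent.S0839
import Cfsg.Agent.Lib.Helper40.CrossChar

set_option autoImplicit false
set_option linter.unusedSectionVars false
open scoped MatrixGroups
open Cfsg

namespace Cfsg.Agent.S2392

section mats
open Matrix
variable {F : Type*} [Field F]

/-- reindexing `SL` -/
def reSL {α β : Type*} [Fintype α] [DecidableEq α] [Fintype β] [DecidableEq β] (e : α ≃ β) :
    Matrix.SpecialLinearGroup α F →* Matrix.SpecialLinearGroup β F where
  toFun A := ⟨Matrix.reindexAlgEquiv F F e A.1, by rw [Matrix.det_reindexAlgEquiv]; exact A.2⟩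
  map_one' := Subtype.ext (map_one _)
  map_mul' A B := Subtype.ext (map_mul _ _ _)

variable (m : ℕ)

/-- the unipotent radical of the stabiliser of a hyperplane -/
def uSL (x : Fin m → F) : Matrix.SpecialLinearGroup (Fin m ⊕ Fin 1) F :=
  ⟨fromBlocks 1 (replicateCol (Fin 1) x) 0 1, by rw [det_fromBlocks_zero₂₁]; simp⟩

/-- the Levi factor `SL_m` -/
def lSL (g : Matrix.SpecialLinearGroup (Fin m) F) : Matrix.SpecialLinearGroup (Fin m ⊕ Fin 1) F :=
  ⟨fromBlocks g.1 0 0 1, by rw [det_fromBlocks_zero₂₁]; simp [g.2]⟩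

theorem uSL_zero : uSL (F := F) m 0 = 1 := by
  apply Subtype.ext
  show fromBlocks 1 (replicateCol (Fin 1) (0 : Fin m → F)) 0 1 = 1
  rw [← fromBlocks_one]
  congr 1

theorem uSL_add (x y : Fin m → F) : uSL m (x + y) = uSL m x * uSL m y := by
  apply Subtype.ext
  show fromBlocks 1 (replicateCol (Fin 1) (x + y)) 0 1 =
    fromBlocks 1 (replicateCol (Fin 1) x) 0 1 * fromBlocks 1 (replicateCol (Fin 1) y) 0 1
  rw [fromBlocks_multiply]
  simp [replicateCol_add, add_comm]

theorem lSL_mul_uSL (g : Matrix.SpecialLinearGroup (Fin m) F) (x : Fin m → F) :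
    lSL m g * uSL m x = uSL m (g.1 *ᵥ x) * lSL m g := by
  apply Subtype.ext
  show fromBlocks g.1 0 0 1 * fromBlocks 1 (replicateCol (Fin 1) x) 0 1 =
    fromBlocks 1 (replicateCol (Fin 1) (g.1 *ᵥ x)) 0 1 * fromBlocks g.1 0 0 1
  rw [fromBlocks_multiply, fromBlocks_multiply]
  simp [replicateCol_mulVec]

/-- `uSL x` is not central unless `x = 0` -/
theorem uSL_faithful {β : Type*} [Fintype β] [DecidableEq β] (e : Fin m ⊕ Fin 1 ≃ β)
    (x : Fin m → F)
    (h : reSL e (uSL m x) ∈ Subgroup.center (Matrix.SpecialLinearGroup β F)) : x = 0 := by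
  rw [Matrix.SpecialLinearGroup.mem_center_iff] at h
  obtain ⟨r, -, hr⟩ := h
  funext i
  have h1 := congrFun (congrFun hr (e (Sum.inl i))) (e (Sum.inr 0))
  have h2 : (reSL e (uSL m x)).1 (e (Sum.inl i)) (e (Sum.inr 0)) = x i := by
    show (Matrix.reindexAlgEquiv F F e (fromBlocks 1 (replicateCol (Fin 1) x) 0 1))
      (e (Sum.inl i)) (e (Sum.inr 0)) = x i
    rw [Matrix.coe_reindexAlgEquiv, Matrix.reindex_apply, Matrix.submatrix_apply,
      Equiv.symm_apply_apply, Equiv.symm_apply_apply, Matrix.fromBlocks_apply₁₂,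
      Matrix.replicateCol_apply]
  rw [Matrix.scalar_apply, Matrix.diagonal_apply_ne _ (by simp)] at h1
  rw [← h2, ← h1]
  rfl

end mats

/-- A lower bound for representations in cross characteristic: for `n ≥ 3` and a field `F` with `q` elements, every homomorphism from `SL_n(F)` to `GL_d(K)`, `K` a field of characteristic different from that of `F`, whose kernel is central has `d ≥ q^(n-1) - 1`. -/
theorem result {F : Type*} [Field F] [Fintype F] {q : ℕ} (hq : Fintype.card F = q) (n : ℕ) (hn : 3 ≤ n)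
    {K : Type*} [Field K] (hK : ringChar K ≠ ringChar F) {d : ℕ}
    (ρ : Matrix.SpecialLinearGroup (Fin n) F →* GL (Fin d) K) (hker : ρ.ker ≤ Subgroup.center (Matrix.SpecialLinearGroup (Fin n) F)) :
    q ^ (n - 1) - 1 ≤ d := by
  classical
  subst hq
  obtain ⟨k, rfl⟩ : ∃ k, n = (k + 2) + 1 := ⟨n - 3, by omega⟩
  rw [Nat.add_sub_cancel]
  -- the additive character
  let ψ := AddChar.FiniteField.primitiveChar F K hK
  -- `q ≠ 0` in the cyclotomic field
  have hq' : ((Fintype.card F : ℕ) : CyclotomicField ψ.n K) ≠ 0 := by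
    have hpF : CharP F (ringChar F) := ringChar.charP F
    obtain ⟨f, hp, hcard⟩ := FiniteField.card F (ringChar F)
    have hpK : ((ringChar F : ℕ) : K) ≠ 0 := by
      intro h0
      have hdvd := (CharP.cast_eq_zero_iff K (ringChar K) (ringChar F)).mp h0
      rcases (Nat.dvd_prime hp).mp hdvd with h1 | h1
      · have := CharP.ringChar_ne_one (R := K)
        exact this h1
      · exact hK h1
    rw [hcard, Nat.cast_pow]
    apply pow_ne_zero
    have : ((ringChar F : ℕ) : CyclotomicField ψ.n K) =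
        algebraMap K (CyclotomicField ψ.n K) ((ringChar F : ℕ) : K) := by simp
    rw [this]
    exact (map_ne_zero_iff _ (algebraMap K (CyclotomicField ψ.n K)).injective).mpr hpK
  -- base change of the representation
  let R : Matrix.SpecialLinearGroup (Fin (k + 2 + 1)) F →* GL (Fin d) (CyclotomicField ψ.n K) :=
    (Matrix.GeneralLinearGroup.map (algebraMap K (CyclotomicField ψ.n K))).comp ρ
  have hR : ∀ g, R g = 1 → ρ g = 1 := by
    intro g hg
    apply Units.ext
    have h1 := congrArg (fun u : GL (Fin d) (CyclotomicField ψ.n K) =>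
      (u : Matrix (Fin d) (Fin d) (CyclotomicField ψ.n K))) hg
    simp only [R, MonoidHom.comp_apply, Units.val_one] at h1
    ext i j
    have h2 := congrFun (congrFun h1 i) j
    rw [Matrix.GeneralLinearGroup.map_apply] at h2
    apply (algebraMap K (CyclotomicField ψ.n K)).injective
    rw [h2, Units.val_one]
    by_cases hij : i = j
    · subst hij; simp
    · simp [Matrix.one_apply_ne hij]
  let e : Fin (k + 2) ⊕ Fin 1 ≃ Fin (k + 2 + 1) := finSumFinEquiv
  apply Cfsg.Agent.Lib.Helper40.CrossChar.card_sub_one_le ψ.char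
    (M := fun x => ((R (reSL e (uSL (k + 2) x)) : GL (Fin d) (CyclotomicField ψ.n K)) :
      Matrix (Fin d) (Fin d) (CyclotomicField ψ.n K)))
  · intro x y
    simp only [uSL_add, map_mul, Units.val_mul]
  · exact ψ.prim
  · exact hq'
  · omega
  · simp only [uSL_zero, map_one, Units.val_one]
  · intro x hx
    apply uSL_faithful (k + 2) e x
    apply hker
    rw [MonoidHom.mem_ker]
    apply hR
    exact Units.ext hx
  · intro a b ha hb
    obtain ⟨ha', hha⟩ := Cfsg.Agent.S0839.exists_SL_row k a ha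
    obtain ⟨hb', hhb⟩ := Cfsg.Agent.S0839.exists_SL_row k b hb
    have hrowa : Matrix.vecMul (Pi.single 0 1) ha'.1 = a := by
      rw [Matrix.single_one_vecMul]
      funext j
      exact hha j
    have hrowb : Matrix.vecMul (Pi.single 0 1) hb'.1 = b := by
      rw [Matrix.single_one_vecMul]
      funext j
      exact hhb j
    refine ⟨((R (reSL e (lSL (k + 2) (hb'⁻¹ * ha'))) : GL (Fin d) (CyclotomicField ψ.n K)) :
      Matrix (Fin d) (Fin d) (CyclotomicField ψ.n K)), (hb'⁻¹ * ha').1, (ha'⁻¹ * hb').1,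
      Units.isUnit _, ?_, ?_, ?_, ?_⟩
    · rw [← Matrix.SpecialLinearGroup.coe_mul]
      simp
    · rw [← Matrix.SpecialLinearGroup.coe_mul]
      simp
    · rw [← hrowa, Matrix.vecMul_vecMul, ← Matrix.SpecialLinearGroup.coe_mul, ← mul_assoc,
        mul_inv_cancel, one_mul, hrowb]
    · intro x
      rw [← Units.val_mul, ← Units.val_mul, ← map_mul, ← map_mul, ← map_mul, ← map_mul, lSL_mul_uSL]

end Cfsg.Agent.S2392
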