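import Cfsg.Statements.S2393
import Cfsg.Agent.Lib.Helper5.SympCenter
import Cfsg.Agent.Lib.Helper40.CrossChar2

set_option autoImplicit false
set_option linter.unusedSectionVars false
open scoped MatrixGroups
open Cfsg

namespace Cfsg.Agent.S2393

section mats
open Matrix
variable {F : Type*} [Field F] {n : ℕ}

/-- the symmetric matrix `e₀ xᵀ + x e₀ᵀ` -/
def TT (x : Fin (n + 1) → F) : Matrix (Fin (n + 1)) (Fin (n + 1)) F :=
  vecMulVec (Pi.single 0 1) x + vecMulVec x (Pi.single 0 1)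

theorem TT_transpose (x : Fin (n + 1) → F) : (TT x)ᵀ = TT x := by
  unfold TT
  rw [transpose_add, transpose_vecMulVec, transpose_vecMulVec]
  exact add_comm _ _

theorem TT_add (x y : Fin (n + 1) → F) : TT (x + y) = TT x + TT y := by
  unfold TT
  rw [vecMulVec_add, add_vecMulVec]
  abel

theorem TT_zero : TT (0 : Fin (n + 1) → F) = 0 := by
  unfold TT
  ext i j
  simp [vecMulVec_apply]

theorem TT_single_ne (h2 : (2 : F) ≠ 0) : TT (Pi.single 0 1 : Fin (n + 1) → F) ≠ 0 := by
  intro h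
  have := congrFun (congrFun h 0) 0
  simp only [TT, Matrix.add_apply, vecMulVec_apply, Pi.single_eq_same, mul_one,
    Matrix.zero_apply] at this
  apply h2
  rw [← this]
  norm_num

theorem conj_TT (G : Matrix (Fin (n + 1)) (Fin (n + 1)) F) (γ : F)
    (hG : G *ᵥ Pi.single 0 1 = γ • Pi.single 0 1) (x : Fin (n + 1) → F) :
    G * TT x * Gᵀ = TT (γ • (G *ᵥ x)) := by
  unfold TT
  rw [Matrix.mul_add, Matrix.add_mul, mul_vecMulVec, mul_vecMulVec, vecMulVec_mul, vecMulVec_mul,
    vecMul_transpose, vecMul_transpose, hG, smul_vecMulVec, vecMulVec_smul, vecMulVec_smul,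
    smul_vecMulVec]

/-- the elements `[[1, T(x)],[0, 1]]` of `Sp_{2n+2}` -/
def uX (x : Fin (n + 1) → F) : Matrix.symplecticGroup (Fin (n + 1)) F :=
  ⟨fromBlocks 1 (TT x) 0 1, by
    rw [SymplecticGroup.mem_iff, Matrix.J, fromBlocks_transpose, fromBlocks_multiply,
      fromBlocks_multiply, TT_transpose]
    simp⟩

theorem uX_zero : uX (0 : Fin (n + 1) → F) = 1 := by
  apply Subtype.ext
  show fromBlocks 1 (TT (0 : Fin (n + 1) → F)) 0 1 = 1
  rw [TT_zero, ← fromBlocks_one]

theorem uX_add (x y : Fin (n + 1) → F) : uX (x + y) = uX x * uX y := by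
  apply Subtype.ext
  show fromBlocks 1 (TT (x + y)) 0 1 = fromBlocks 1 (TT x) 0 1 * fromBlocks 1 (TT y) 0 1
  rw [fromBlocks_multiply, TT_add]
  simp [add_comm]

/-- the Levi elements `diag(G, G⁻ᵀ)` -/
def leviSp (G G' : Matrix (Fin (n + 1)) (Fin (n + 1)) F) (h1 : G * G' = 1) :
    Matrix.symplecticGroup (Fin (n + 1)) F :=
  ⟨fromBlocks G 0 0 G'ᵀ, by
    rw [SymplecticGroup.mem_iff, Matrix.J, fromBlocks_transpose, fromBlocks_multiply,
      fromBlocks_multiply]
    have h2 : G'ᵀ * Gᵀ = 1 := by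
      rw [← transpose_mul, h1, transpose_one]
    simp only [Matrix.mul_zero, Matrix.zero_mul, Matrix.mul_one, Matrix.mul_neg, add_zero, zero_add,
      transpose_zero, transpose_transpose, Matrix.neg_mul, neg_zero, h1, h2]⟩

theorem levi_mul_uX (G G' : Matrix (Fin (n + 1)) (Fin (n + 1)) F) (h1 : G * G' = 1) (γ : F)
    (hG : G *ᵥ Pi.single 0 1 = γ • Pi.single 0 1) (x : Fin (n + 1) → F) :
    leviSp G G' h1 * uX x = uX (γ • (G *ᵥ x)) * leviSp G G' h1 := by
  apply Subtype.ext
  show fromBlocks G 0 0 G'ᵀ * fromBlocks 1 (TT x) 0 1 =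
    fromBlocks 1 (TT (γ • (G *ᵥ x))) 0 1 * fromBlocks G 0 0 G'ᵀ
  rw [fromBlocks_multiply, fromBlocks_multiply, ← conj_TT G γ hG x]
  have h1' : G' * G = 1 := mul_eq_one_comm.mp h1
  have h2 : Gᵀ * G'ᵀ = 1 := by
    rw [← transpose_mul, h1', transpose_one]
  simp [Matrix.mul_assoc, h2]

theorem uX_not_central (h2 : (2 : F) ≠ 0) :
    uX (Pi.single 0 1 : Fin (n + 1) → F) ∉
      Subgroup.center (Matrix.symplecticGroup (Fin (n + 1)) F) := by
  intro h
  rw [Cfsg.Agent.Lib.Helper5.mem_center_symplecticGroup_iff] at h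
  rcases h with h | h
  · have h3 : fromBlocks 1 (TT (Pi.single 0 1 : Fin (n + 1) → F)) 0 1 =
        fromBlocks (1 : Matrix (Fin (n + 1)) (Fin (n + 1)) F) (0 : Matrix (Fin (n + 1)) (Fin (n + 1)) F)
          (0 : Matrix (Fin (n + 1)) (Fin (n + 1)) F) (1 : Matrix (Fin (n + 1)) (Fin (n + 1)) F) := by
      rw [fromBlocks_one]
      exact h
    exact TT_single_ne h2 (fromBlocks_inj.mp h3).2.1
  · have h3 : fromBlocks 1 (TT (Pi.single 0 1 : Fin (n + 1) → F)) 0 1 =
        fromBlocks (-1 : Matrix (Fin (n + 1)) (Fin (n + 1)) F)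
          (-0 : Matrix (Fin (n + 1)) (Fin (n + 1)) F)
          (-0 : Matrix (Fin (n + 1)) (Fin (n + 1)) F) (-1 : Matrix (Fin (n + 1)) (Fin (n + 1)) F) := by
      rw [← fromBlocks_neg, fromBlocks_one]
      exact h
    have h4 := (fromBlocks_inj.mp h3).1
    have h5 := congrFun (congrFun h4 0) 0
    simp only [Matrix.one_apply_eq, Matrix.neg_apply] at h5
    apply h2
    linear_combination h5

/-- the matrices moving the weight `a₁` to `(a₁ 0 * c², t)` -/
theorem orbit_data (a₁ : Fin (n + 1) → F) (ha₁ : a₁ 0 ≠ 0) (c : F) (hc : c ≠ 0) (t : Fin n → F) :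
    ∃ (G H : Matrix (Fin (n + 1)) (Fin (n + 1)) F), G * H = 1 ∧ H * G = 1 ∧
      G *ᵥ (Pi.single 0 1 : Fin (n + 1) → F) = c⁻¹ • (Pi.single 0 1 : Fin (n + 1) → F) ∧
      (Fin.cons (a₁ 0 * c ^ 2) t : Fin (n + 1) → F) = a₁ ᵥ* (c • H) := by
  set b : Fin (n + 1) → F := Fin.cons (a₁ 0 * c ^ 2) t with hb_def
  set w : Fin (n + 1) → F := (a₁ 0)⁻¹ • (c⁻¹ • b - a₁) with hw_def
  have hw0 : w 0 = c - 1 := by
    simp only [hw_def, hb_def, Pi.smul_apply, Pi.sub_apply, Fin.cons_zero, smul_eq_mul]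
    field_simp
  have hwe : w ⬝ᵥ (Pi.single 0 1 : Fin (n + 1) → F) = c - 1 := by
    rw [dotProduct_single, mul_one, hw0]
  have hvec1 : (-c⁻¹ • w) + w + (w ⬝ᵥ (Pi.single 0 1 : Fin (n + 1) → F)) • (-c⁻¹ • w) = 0 := by
    rw [hwe]
    ext i
    simp only [Pi.add_apply, Pi.smul_apply, smul_eq_mul, Pi.zero_apply]
    field_simp
    ring
  have hvec2 : w + (-c⁻¹ • w) + ((-c⁻¹ • w) ⬝ᵥ (Pi.single 0 1 : Fin (n + 1) → F)) • w = 0 := by
    rw [smul_dotProduct, hwe]
    ext i
    simp only [Pi.add_apply, Pi.smul_apply, smul_eq_mul, Pi.zero_apply]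
    field_simp
    ring
  have hHG : (1 + vecMulVec (Pi.single 0 1 : Fin (n + 1) → F) w) *
      (1 + vecMulVec (Pi.single 0 1 : Fin (n + 1) → F) (-c⁻¹ • w)) = 1 := by
    rw [Matrix.mul_add, Matrix.add_mul, Matrix.add_mul, Matrix.mul_one, Matrix.one_mul,
      Matrix.mul_one, vecMulVec_mul_vecMulVec, add_assoc, ← vecMulVec_add,
      ← vecMulVec_add, ← add_assoc, add_comm w, hvec1]
    ext i j
    simp [vecMulVec_apply]
  have hGH : (1 + vecMulVec (Pi.single 0 1 : Fin (n + 1) → F) (-c⁻¹ • w)) *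
      (1 + vecMulVec (Pi.single 0 1 : Fin (n + 1) → F) w) = 1 := by
    rw [Matrix.mul_add, Matrix.add_mul, Matrix.add_mul, Matrix.mul_one, Matrix.one_mul,
      Matrix.mul_one, vecMulVec_mul_vecMulVec, add_assoc, ← vecMulVec_add,
      ← vecMulVec_add, ← add_assoc, add_comm (-c⁻¹ • w), hvec2]
    ext i j
    simp [vecMulVec_apply]
  refine ⟨1 + vecMulVec (Pi.single 0 1 : Fin (n + 1) → F) (-c⁻¹ • w),
    1 + vecMulVec (Pi.single 0 1 : Fin (n + 1) → F) w, hGH, hHG, ?_, ?_⟩
  · rw [Matrix.add_mulVec, Matrix.one_mulVec, vecMulVec_mulVec, smul_dotProduct, hwe]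
    ext i
    simp only [Pi.add_apply, Pi.smul_apply, smul_eq_mul, MulOpposite.smul_eq_mul_unop,
      MulOpposite.unop_op]
    field_simp
    ring
  · rw [Matrix.vecMul_smul, Matrix.vecMul_add, Matrix.vecMul_one, vecMul_vecMulVec,
      dotProduct_single, mul_one, hw_def, smul_smul, mul_inv_cancel₀ ha₁, one_smul,
      add_sub_cancel, smul_smul, mul_inv_cancel₀ hc, one_smul]

end mats

/-- A lower bound for representations in cross characteristic: for `n ≥ 2` and a field `F` with `q` elements, `q` odd, every homomorphism from the symplectic group `Sp_{2n}(F)` to `GL_d(K)`, `K` a field of characteristic different from that of `F`, whose kernel is central has `d ≥ q^(n-1)(q-1)/2`. -/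
theorem result {F : Type*} [Field F] [Fintype F] {q : ℕ} (hq : Fintype.card F = q) (hodd : Odd q) (n : ℕ) (hn : 2 ≤ n)
    {K : Type*} [Field K] (hK : ringChar K ≠ ringChar F) {d : ℕ}
    (ρ : ↥(Matrix.symplecticGroup (Fin n) F) →* GL (Fin d) K) (hker : ρ.ker ≤ Subgroup.center ↥(Matrix.symplecticGroup (Fin n) F)) :
    q ^ (n - 1) * (q - 1) / 2 ≤ d := by
  classical
  subst hq
  obtain ⟨k, rfl⟩ : ∃ k, n = k + 1 := ⟨n - 1, by omega⟩
  rw [Nat.add_sub_cancel]
  have h2 : (2 : F) ≠ 0 := by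
    intro h
    have h3 : ringChar F = 2 :=
      CharP.ringChar_of_prime_eq_zero Nat.prime_two (by exact_mod_cast h)
    have := FiniteField.even_card_iff_char_two.mp h3
    rcases hodd with ⟨t, ht⟩
    omega
  -- the additive character
  let ψ := AddChar.FiniteField.primitiveChar F K hK
  have hq' : ((Fintype.card F : ℕ) : CyclotomicField ψ.n K) ≠ 0 := by
    have hpF : CharP F (ringChar F) := ringChar.charP F
    obtain ⟨f, hp, hcard⟩ := FiniteField.card F (ringChar F)
    have hpK : ((ringChar F : ℕ) : K) ≠ 0 := by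
      intro h0
      have hdvd := (CharP.cast_eq_zero_iff K (ringChar K) (ringChar F)).mp h0
      rcases (Nat.dvd_prime hp).mp hdvd with h1 | h1
      · have := CharP.ringChar_ne_one (R := K)
        exact this h1
      · exact hK h1
    rw [hcard, Nat.cast_pow]
    apply pow_ne_zero
    have : ((ringChar F : ℕ) : CyclotomicField ψ.n K) =
        algebraMap K (CyclotomicField ψ.n K) ((ringChar F : ℕ) : K) := by simp
    rw [this]
    exact (map_ne_zero_iff _ (algebraMap K (CyclotomicField ψ.n K)).injective).mpr hpK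
  -- base change of the representation
  let R : ↥(Matrix.symplecticGroup (Fin (k + 1)) F) →* GL (Fin d) (CyclotomicField ψ.n K) :=
    (Matrix.GeneralLinearGroup.map (algebraMap K (CyclotomicField ψ.n K))).comp ρ
  have hR : ∀ g, R g = 1 → ρ g = 1 := by
    intro g hg
    apply Units.ext
    have h1 := congrArg (fun u : GL (Fin d) (CyclotomicField ψ.n K) =>
      (u : Matrix (Fin d) (Fin d) (CyclotomicField ψ.n K))) hg
    simp only [R, MonoidHom.comp_apply, Units.val_one] at h1
    ext i j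
    have h2 := congrFun (congrFun h1 i) j
    rw [Matrix.GeneralLinearGroup.map_apply] at h2
    apply (algebraMap K (CyclotomicField ψ.n K)).injective
    rw [h2, Units.val_one]
    by_cases hij : i = j
    · subst hij; simp
    · simp [Matrix.one_apply_ne hij]
  have hMadd : ∀ x y : Fin (k + 1) → F,
      ((R (uX (x + y)) : GL (Fin d) (CyclotomicField ψ.n K)) :
        Matrix (Fin d) (Fin d) (CyclotomicField ψ.n K)) =
      ((R (uX x) : GL (Fin d) (CyclotomicField ψ.n K)) :
        Matrix (Fin d) (Fin d) (CyclotomicField ψ.n K)) *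
      ((R (uX y) : GL (Fin d) (CyclotomicField ψ.n K)) :
        Matrix (Fin d) (Fin d) (CyclotomicField ψ.n K)) := by
    intro x y
    simp only [uX_add, map_mul, Units.val_mul]
  have hM0 : ((R (uX (0 : Fin (k + 1) → F)) : GL (Fin d) (CyclotomicField ψ.n K)) :
        Matrix (Fin d) (Fin d) (CyclotomicField ψ.n K)) = 1 := by
    simp only [uX_zero, map_one, Units.val_one]
  -- a weight with non-zero first coordinate occurs
  obtain ⟨a₁, ha₁, hE⟩ := Cfsg.Agent.Lib.Helper40.CrossChar.exists_weight ψ.char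
    (M := fun x => ((R (uX x) : GL (Fin d) (CyclotomicField ψ.n K)) :
      Matrix (Fin d) (Fin d) (CyclotomicField ψ.n K))) hMadd ψ.prim hq' hM0 (Pi.single 0 1)
    (by
      intro hx
      apply uX_not_central (n := k) h2
      apply hker
      rw [MonoidHom.mem_ker]
      apply hR
      exact Units.ext hx)
  rw [dotProduct_single, mul_one] at ha₁
  -- the orbit
  let f : Fˣ × (Fin k → F) → (Fin (k + 1) → F) :=
    fun p => Fin.cons (a₁ 0 * (p.1 : F) ^ 2) p.2
  have hSd := Cfsg.Agent.Lib.Helper40.CrossChar.card_le_of_orbit ψ.char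
    (M := fun x => ((R (uX x) : GL (Fin d) (CyclotomicField ψ.n K)) :
      Matrix (Fin d) (Fin d) (CyclotomicField ψ.n K))) hMadd ψ.prim hq' a₁ hE
    ((Finset.univ : Finset (Fˣ × (Fin k → F))).image f)
    (by
      intro b hb
      obtain ⟨⟨c, t⟩, -, rfl⟩ := Finset.mem_image.mp hb
      have hc : (c : F) ≠ 0 := c.ne_zero
      obtain ⟨G, H, hGH, hHG, hG, hbH⟩ := orbit_data a₁ ha₁ (c : F) hc t
      refine ⟨((R (leviSp G H hGH) : GL (Fin d) (CyclotomicField ψ.n K)) :
          Matrix (Fin d) (Fin d) (CyclotomicField ψ.n K)),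
        (c : F)⁻¹ • G, (c : F) • H, Units.isUnit _, ?_, ?_, hbH, ?_⟩
      · rw [Matrix.smul_mul, Matrix.mul_smul, smul_smul, hHG, mul_inv_cancel₀ hc, one_smul]
      · rw [Matrix.smul_mul, Matrix.mul_smul, smul_smul, hGH, inv_mul_cancel₀ hc, one_smul]
      · intro x
        rw [Matrix.smul_mulVec]
        show ((R (leviSp G H hGH) : GL (Fin d) (CyclotomicField ψ.n K)) :
          Matrix (Fin d) (Fin d) (CyclotomicField ψ.n K)) * ((R (uX x) : GL (Fin d) (CyclotomicField ψ.n K)) :
          Matrix (Fin d) (Fin d) (CyclotomicField ψ.n K)) = ((R (uX _) : GL (Fin d) (CyclotomicField ψ.n K)) :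
          Matrix (Fin d) (Fin d) (CyclotomicField ψ.n K)) * ((R (leviSp G H hGH) : GL (Fin d) (CyclotomicField ψ.n K)) :
          Matrix (Fin d) (Fin d) (CyclotomicField ψ.n K))
        rw [← Units.val_mul, ← Units.val_mul, ← map_mul, ← map_mul, levi_mul_uX G H hGH _ hG])
  -- counting
  have hcount : (Finset.univ : Finset (Fˣ × (Fin k → F))).card ≤
      2 * ((Finset.univ : Finset (Fˣ × (Fin k → F))).image f).card := by
    apply Finset.card_le_mul_card_image
    intro y hy
    obtain ⟨⟨c₀, t₀⟩, -, rfl⟩ := Finset.mem_image.mp hy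
    refine le_trans (Finset.card_le_card (t := {(c₀, t₀), (-c₀, t₀)}) ?_) Finset.card_le_two
    intro p hp
    rw [Finset.mem_filter] at hp
    have h1 := hp.2
    simp only [f] at h1
    have h3 := Fin.cons_injective2 h1
    have h4 : (p.1 : F) ^ 2 = (c₀ : F) ^ 2 := mul_left_cancel₀ ha₁ h3.1
    rw [Finset.mem_insert, Finset.mem_singleton]
    rcases sq_eq_sq_iff_eq_or_eq_neg.mp h4 with h5 | h5
    · left
      exact Prod.ext (Units.ext h5) h3.2
    · right
      exact Prod.ext (Units.ext (by simpa using h5)) h3.2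
  rw [Finset.card_univ, Fintype.card_prod, Fintype.card_units, Fintype.card_fun,
    Fintype.card_fin] at hcount
  apply Nat.div_le_of_le_mul
  calc Fintype.card F ^ k * (Fintype.card F - 1)
      = (Fintype.card F - 1) * Fintype.card F ^ k := mul_comm _ _
    _ ≤ 2 * ((Finset.univ : Finset (Fˣ × (Fin k → F))).image f).card := hcount
    _ ≤ 2 * d := Nat.mul_le_mul_left 2 hSd

end Cfsg.Agent.S2393
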