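import Cfsg.Statements.S2394
import Cfsg.Agent.S2904
import Cfsg.Agent.Lib.Helper5.SympCard

set_option autoImplicit false
open scoped MatrixGroups
open Cfsg

namespace Cfsg.Agent.S2394

/-- a prime dividing `∏_{i<d} (q^d - q^i)` and not `q` divides some `q^j - 1` with `1 ≤ j ≤ d` -/
theorem prime_dvd_glcard {q d r : ℕ} (hr : r.Prime) (hrq : ¬ r ∣ q)
    (h : r ∣ ∏ i : Fin d, (q ^ d - q ^ i.val)) : ∃ j, 0 < j ∧ j ≤ d ∧ r ∣ q ^ j - 1 := by
  rw [Prime.dvd_finsetProd_iff hr.prime] at h
  obtain ⟨i, -, hi⟩ := h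
  have hid : i.val < d := i.2
  have e : q ^ d - q ^ i.val = q ^ i.val * (q ^ (d - i.val) - 1) := by
    have : q ^ d = q ^ i.val * q ^ (d - i.val) := by
      rw [← pow_add]; congr 1; omega
    rw [this, Nat.mul_sub, mul_one]
  rw [e] at hi
  rcases (Nat.Prime.dvd_mul hr).mp hi with h1 | h1
  · exact absurd (hr.dvd_of_dvd_pow h1) hrq
  · exact ⟨d - i.val, by omega, by omega, h1⟩

/-- The smallest degree of a faithful representation of the symplectic group `Sp_{2n}(q)` over its own field `F_q` is `2n`: every injective homomorphism from `Sp_{2n}(F)` to `GL_d(F)`, `F` the field with `q` elements, has `d ≥ 2n`. -/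
theorem result {F : Type*} [Field F] [Fintype F] (n : ℕ) {d : ℕ}
    (ρ : ↥(Matrix.symplecticGroup (Fin n) F) →* GL (Fin d) F) (hρ : Function.Injective ρ) : 2 * n ≤ d := by
  classical
  by_contra hlt
  push Not at hlt
  have hq : 1 < Fintype.card F := Fintype.one_lt_card
  have hdvd := Subgroup.card_dvd_of_injective ρ hρ
  rw [Cfsg.Agent.Lib.Helper5.card_symplecticGroup_fin, Matrix.card_GL_field] at hdvd
  set q := Fintype.card F with hqdef
  have hn : 1 ≤ n := by omega
  -- the factor q^(2n) - 1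
  have hfac : q ^ (2 * n) - 1 ∣ ∏ i : Fin d, (q ^ d - q ^ i.val) := by
    refine dvd_trans ?_ hdvd
    apply dvd_mul_of_dvd_right
    have : q ^ (2 * n) - 1 = q ^ (2 * ((n - 1) + 1)) - 1 := by
      congr 2; omega
    rw [this]
    exact Finset.dvd_prod_of_mem (fun i => q ^ (2 * (i + 1)) - 1) (Finset.mem_range.mpr (by omega))
  by_cases hn1 : n = 1
  · -- d ≤ 1
    subst hn1
    have hd : d = 0 ∨ d = 1 := by omega
    rcases hd with rfl | rfl
    · simp at hfac
      have : 2 ≤ q := hq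
      have : 4 ≤ q ^ 2 := by nlinarith
      omega
    · simp at hfac
      have h1 : q ^ 2 - 1 ≤ q - 1 := Nat.le_of_dvd (by omega) hfac
      have : 2 ≤ q := hq
      have : q ^ 2 ≥ 2 * q := by nlinarith
      omega
  · by_cases h26 : q = 2 ∧ 2 * n = 6
    · obtain ⟨hq2, hn3⟩ := h26
      have hn3' : n = 3 := by omega
      subst hn3'
      rw [hq2] at hdvd
      have hd : d ≤ 5 := by omega
      interval_cases d <;> revert hdvd <;> decide
    · have hz := Cfsg.Agent.S2904.result q (2 * n) hq (by omega)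
        (fun h => h26 ⟨h.1, h.2⟩) (fun h => by omega)
      obtain ⟨r, hr, hrd, hrk⟩ := hz
      have hrq : ¬ r ∣ q := by
        intro h
        have h1 : r ∣ q ^ (2 * n) := dvd_pow h (by omega)
        have h2 : 1 ≤ q ^ (2 * n) := Nat.one_le_pow _ _ (by omega)
        have h3 : r ∣ q ^ (2 * n) - (q ^ (2 * n) - 1) := Nat.dvd_sub h1 hrd
        have h4 : q ^ (2 * n) - (q ^ (2 * n) - 1) = 1 := by omega
        rw [h4] at h3
        exact hr.one_lt.ne' (Nat.dvd_one.mp h3)
      obtain ⟨j, hj0, hjd, hrj⟩ := prime_dvd_glcard hr hrq (dvd_trans hrd hfac)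
      exact hrk j hj0 (by omega) hrj

end Cfsg.Agent.S2394
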