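import Cfsg.Statements.S2395

set_option autoImplicit false
open Cfsg

namespace Cfsg.Agent.S2395

open Cfsg.Lie

section generic
variable (D : ChevalleyDatum) (K : Type*) [Field K]

/-- image of a generator in the abelianization -/
noncomputable def fA (r : ℕ) (t : K) : Abelianization (D.SteinbergCover K) :=
  Abelianization.of (D.scGen K r t)

theorem fA_add (r : ℕ) (hr : r < D.nroots) (t₁ t₂ : K) :
    fA D K r (t₁ + t₂) = fA D K r t₁ * fA D K r t₂ := by
  have hmem : D.stX r t₁ * D.stX r t₂ * (D.stX r (t₁ + t₂))⁻¹ ∈ D.steinbergRelsAB K :=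
    Or.inl ⟨r, t₁, t₂, hr, rfl⟩
  have h1 := PresentedGroup.mk_eq_mk_of_mul_inv_mem hmem
  unfold fA ChevalleyDatum.scGen
  rw [← map_mul, ← h1, map_mul]

theorem fA_zero (r : ℕ) (hr : r < D.nroots) : fA D K r 0 = 1 := by
  have := fA_add D K r hr 0 0
  rw [add_zero] at this
  exact (mul_eq_left (a := fA D K r 0)).1 this.symm

theorem fA_neg (r : ℕ) (hr : r < D.nroots) (t : K) : fA D K r (-t) = (fA D K r t)⁻¹ := by
  have := fA_add D K r hr (-t) t
  rw [neg_add_cancel, fA_zero D K r hr] at this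
  exact eq_inv_of_mul_eq_one_left this.symm

theorem fA_sub (r : ℕ) (hr : r < D.nroots) (t u : K) :
    fA D K r (t - u) = fA D K r t * (fA D K r u)⁻¹ := by
  rw [sub_eq_add_neg, fA_add D K r hr, fA_neg D K r hr]

theorem of_stWord (w : List (ℕ × K)) :
    Abelianization.of (PresentedGroup.mk (D.steinbergRelsAB K) (D.stWord w)) =
      (w.map fun p => fA D K p.1 p.2).prod := by
  unfold ChevalleyDatum.stWord
  rw [map_list_prod, map_list_prod, List.map_map, List.map_map]
  rfl

theorem fA_comm (r s : ℕ) (hr : r < D.nroots) (hs : s < D.nroots) (hsr : s ≠ r)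
    (hsn : s ≠ D.neg r) (t u : K) :
    ((D.commWord K r s t u).map fun p => fA D K p.1 p.2).prod = 1 := by
  have hmem : (D.stX s u)⁻¹ * (D.stX r t)⁻¹ * D.stX s u * D.stX r t *
      (D.stWord (D.commWord K r s t u))⁻¹ ∈ D.steinbergRelsAB K :=
    Or.inr ⟨r, s, t, u, hr, hs, hsr, hsn, rfl⟩
  have h1 := PresentedGroup.one_of_mem hmem
  have h2 := congrArg (Abelianization.of) h1
  simp only [map_one, map_mul, map_inv] at h2
  rw [of_stWord] at h2
  have h3 : ∀ a b c : Abelianization (D.SteinbergCover K), a⁻¹ * b⁻¹ * a * b * c⁻¹ = 1 → c = 1 := by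
    intro a b c h
    have : a⁻¹ * b⁻¹ * a * b = 1 := by
      rw [mul_comm a⁻¹ b⁻¹, mul_assoc b⁻¹, inv_mul_cancel, mul_one, inv_mul_cancel]
    rw [this, one_mul, inv_eq_one] at h
    exact h
  exact h3 _ _ _ h2

/-- cast of `±1` is nonzero and squares to one -/
theorem pm_one_cast {c : ℤ} (hc : c = 1 ∨ c = -1) : ((c : K) * (c : K) = 1) := by
  rcases hc with rfl | rfl <;> simp

theorem single_term (r s k : ℕ) (c : ℤ) (hr : r < D.nroots) (hs : s < D.nroots) (hsr : s ≠ r)
    (hsn : s ≠ D.neg r) (hT : D.commTerms r s = [(k, c, 1, 1)]) (hc : c = 1 ∨ c = -1) (v : K) :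
    fA D K k v = 1 := by
  have h := fA_comm D K r s hr hs hsr hsn (-((c : K) * v)) 1
  unfold ChevalleyDatum.commWord at h
  rw [hT] at h
  simp only [List.map_cons, List.map_nil, List.prod_cons, List.prod_nil, mul_one, pow_one,
    neg_neg] at h
  rw [← mul_assoc, pm_one_cast K hc, one_mul] at h
  exact h

theorem two_term (hx : ∃ x : K, x ≠ 0 ∧ x ≠ 1) (r s : ℕ) (e1 e2 : ℕ × ℤ × ℕ × ℕ)
    (rest : List (ℕ × ℤ × ℕ × ℕ))
    (hr : r < D.nroots) (hs : s < D.nroots) (hsr : s ≠ r) (hsn : s ≠ D.neg r)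
    (hT : D.commTerms r s = e1 :: e2 :: rest)
    (h1 : e1.2.2 = (1, 1)) (h2 : e2.2.2 = (2, 1))
    (hc1 : e1.2.1 = 1 ∨ e1.2.1 = -1) (hc2 : e2.2.1 = 1 ∨ e2.2.1 = -1)
    (hk1 : e1.1 < D.nroots) (hk2 : e2.1 < D.nroots)
    (hrest : ∀ e ∈ rest, ∀ v : K, fA D K e.1 v = 1) (v : K) :
    fA D K e1.1 v = 1 ∧ fA D K e2.1 v = 1 := by
  obtain ⟨k1, c1, i1, j1⟩ := e1
  obtain ⟨k2, c2, i2, j2⟩ := e2
  simp only [Prod.mk.injEq] at h1 h2
  obtain ⟨rfl, rfl⟩ := h1
  obtain ⟨rfl, rfl⟩ := h2
  simp only at hc1 hc2 hk1 hk2 ⊢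
  have hrel : ∀ t u : K, fA D K k1 ((c1 : K) * (-t) * u) * fA D K k2 ((c2 : K) * t ^ 2 * u) = 1 := by
    intro t u
    have h := fA_comm D K r s hr hs hsr hsn t u
    unfold ChevalleyDatum.commWord at h
    rw [hT] at h
    simp only [List.map_cons, List.prod_cons, pow_one] at h
    have hR : ((rest.map fun c => (c.1, (c.2.1 : K) * (-t) ^ c.2.2.1 * u ^ c.2.2.2)).map
        fun p => fA D K p.1 p.2).prod = 1 := by
      apply List.prod_eq_one
      intro x hx
      rw [List.map_map, List.mem_map] at hx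
      obtain ⟨e, he, rfl⟩ := hx
      exact hrest e he _
    rw [hR, mul_one, neg_pow_two] at h
    exact h
  have hc1' := pm_one_cast K hc1
  have hc2' := pm_one_cast K hc2
  -- step (i)
  have hi : ∀ u : K, fA D K k1 ((c1 : K) * u) = (fA D K k2 ((c2 : K) * u))⁻¹ := by
    intro u
    have := hrel (-1) u
    simp only [neg_neg, mul_one, neg_pow_two, one_pow] at this
    exact eq_inv_of_mul_eq_one_left this
  -- step (ii)
  have hii : ∀ t u : K, fA D K k2 ((c2 : K) * (t ^ 2 + t) * u) = 1 := by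
    intro t u
    have h := hrel t u
    have e1 : (c1 : K) * (-t) * u = (c1 : K) * ((-t) * u) := by ring
    rw [e1, hi] at h
    have e2 : (c2 : K) * (t ^ 2 + t) * u = (c2 : K) * t ^ 2 * u - (c2 : K) * ((-t) * u) := by ring
    rw [e2, fA_sub D K k2 hk2, mul_comm]
    exact h
  obtain ⟨x, hx0, hx1⟩ := hx
  have hne : ((-x) ^ 2 + (-x) : K) ≠ 0 := by
    have : ((-x) ^ 2 + (-x) : K) = x * (x - 1) := by ring
    rw [this]
    exact mul_ne_zero hx0 (sub_ne_zero.2 hx1)
  have hc2ne : (c2 : K) ≠ 0 := by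
    intro h
    rw [h, mul_zero] at hc2'
    exact zero_ne_one hc2'
  have hc1ne : (c1 : K) ≠ 0 := by
    intro h
    rw [h, mul_zero] at hc1'
    exact zero_ne_one hc1'
  have h2all : ∀ w : K, fA D K k2 w = 1 := by
    intro w
    have := hii (-x) (w / ((c2 : K) * ((-x) ^ 2 + (-x))))
    rwa [mul_div_cancel₀ _ (mul_ne_zero hc2ne hne)] at this
  have h1all : ∀ w : K, fA D K k1 w = 1 := by
    intro w
    have := hi (w / (c1 : K))
    rw [mul_div_cancel₀ _ hc1ne, h2all, inv_one] at this
    exact this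
  exact ⟨h1all v, h2all v⟩

end generic

/-- one derivation step -/
def step (D : ChevalleyDatum) (allow2 : Bool) (proven : List ℕ) (w : ℕ × ℕ) : List ℕ :=
  if w.1 < D.nroots ∧ w.2 < D.nroots ∧ w.2 ≠ w.1 ∧ w.2 ≠ D.neg w.1 then
    match D.commTerms w.1 w.2 with
    | [] => proven
    | [e] => if e.2.2 = (1, 1) ∧ (e.2.1 = 1 ∨ e.2.1 = -1) then e.1 :: proven else proven
    | e1 :: e2 :: rest =>
      if allow2 = true ∧ e1.2.2 = (1, 1) ∧ e2.2.2 = (2, 1) ∧ (e1.2.1 = 1 ∨ e1.2.1 = -1) ∧
          (e2.2.1 = 1 ∨ e2.2.1 = -1) ∧ e1.1 < D.nroots ∧ e2.1 < D.nroots ∧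
          (∀ e ∈ rest, e.1 ∈ proven) then e1.1 :: e2.1 :: proven
      else proven
  else proven

def derive (D : ChevalleyDatum) (allow2 : Bool) (L : List (ℕ × ℕ)) : List ℕ :=
  L.foldl (step D allow2) []

def chk (D : ChevalleyDatum) (allow2 : Bool) (L : List (ℕ × ℕ)) : Bool :=
  (List.range D.nroots).all fun k => (derive D allow2 L).contains k

section sound
variable (D : ChevalleyDatum) (K : Type*) [Field K]

theorem step_sound (allow2 : Bool) (hx : allow2 = true → ∃ x : K, x ≠ 0 ∧ x ≠ 1)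
    (proven : List ℕ) (w : ℕ × ℕ) (hinv : ∀ k ∈ proven, ∀ v : K, fA D K k v = 1) :
    ∀ k ∈ step D allow2 proven w, ∀ v : K, fA D K k v = 1 := by
  unfold step
  split_ifs with h0
  · obtain ⟨hr, hs, hsr, hsn⟩ := h0
    split
    · exact hinv
    · rename_i e hT
      split_ifs with h1
      · intro k hk v
        rcases List.mem_cons.1 hk with rfl | hk
        · obtain ⟨k', c, i, j⟩ := e
          obtain ⟨h2, hc⟩ := h1
          simp only [Prod.mk.injEq] at h2
          obtain ⟨rfl, rfl⟩ := h2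
          exact single_term D K w.1 w.2 k' c hr hs hsr hsn hT hc v
        · exact hinv k hk v
      · exact hinv
    · rename_i e1 e2 rest hT
      split_ifs with h1
      · obtain ⟨ha, h1, h2, hc1, hc2, hk1, hk2, hrest⟩ := h1
        intro k hk v
        have := two_term D K (hx ha) w.1 w.2 e1 e2 rest hr hs hsr hsn hT h1 h2 hc1 hc2 hk1 hk2
          (fun e he v => hinv e.1 (hrest e he) v) v
        rcases List.mem_cons.1 hk with rfl | hk
        · exact this.1
        · rcases List.mem_cons.1 hk with rfl | hk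
          · exact this.2
          · exact hinv k hk v
      · exact hinv
  · exact hinv

theorem derive_sound (allow2 : Bool) (hx : allow2 = true → ∃ x : K, x ≠ 0 ∧ x ≠ 1)
    (L : List (ℕ × ℕ)) : ∀ k ∈ derive D allow2 L, ∀ v : K, fA D K k v = 1 := by
  unfold derive
  have : ∀ (L : List (ℕ × ℕ)) (P : List ℕ), (∀ k ∈ P, ∀ v : K, fA D K k v = 1) →
      ∀ k ∈ L.foldl (step D allow2) P, ∀ v : K, fA D K k v = 1 := by
    intro L
    induction L with
    | nil => intro P hP; exact hP
    | cons w L ih =>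
      intro P hP
      rw [List.foldl_cons]
      exact ih _ (step_sound D K allow2 hx P w hP)
  exact this L [] (by simp)

theorem perfect_of_chk (allow2 : Bool) (hx : allow2 = true → ∃ x : K, x ≠ 0 ∧ x ≠ 1)
    (L : List (ℕ × ℕ)) (h : chk D allow2 L = true) :
    commutator (D.SteinbergCover K) = ⊤ := by
  have hall : ∀ k < D.nroots, ∀ v : K, fA D K k v = 1 := by
    intro k hk v
    unfold chk at h
    rw [List.all_eq_true] at h
    have := h k (List.mem_range.2 hk)
    rw [List.contains_iff_mem] at this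
    exact derive_sound D K allow2 hx L k this v
  rw [eq_top_iff, ← PresentedGroup.closure_range_of, Subgroup.closure_le]
  rintro _ ⟨⟨r, t⟩, rfl⟩
  rw [SetLike.mem_coe, ← Abelianization.ker_of, MonoidHom.mem_ker]
  have := hall r.1 r.2 t
  unfold fA ChevalleyDatum.scGen ChevalleyDatum.stX at this
  rw [dif_pos r.2] at this
  exact this

end sound

def witG2 : List (ℕ × ℕ) :=
  [(0, 6), (0, 10), (1, 5), (1, 11), (5, 11), (6, 10), (2, 10), (2, 11), (3, 6), (3, 11)]

def witB2 : List (ℕ × ℕ) :=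
  [(1, 4), (1, 7), (2, 3), (2, 7), (5, 4)]

def witD4 : List (ℕ × ℕ) :=
  [(0, 14), (0, 15), (0, 16), (0, 17), (0, 19), (0, 20), (0, 21), (0, 22), (1, 9), (1, 17),
   (1, 20), (1, 21), (1, 23), (2, 22), (2, 23), (3, 22), (3, 23), (4, 23), (6, 22), (6, 23),
   (7, 23), (8, 23), (9, 23), (14, 22)]

def witF4 : List (ℕ × ℕ) :=
  [(0, 24), (0, 26), (0, 31), (0, 32), (0, 42), (0, 43), (0, 45), (0, 46), (1, 23), (1, 32),
   (1, 43), (1, 45), (1, 47), (2, 46), (2, 47), (3, 33), (3, 34), (3, 35), (3, 36), (3, 37),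
   (3, 38), (3, 39), (3, 40), (4, 46), (4, 47), (5, 47), (7, 14), (7, 37), (7, 38), (7, 39),
   (7, 44), (8, 40), (8, 44), (9, 40), (9, 44), (10, 40), (10, 44), (11, 44), (12, 44), (13, 44),
   (14, 44), (15, 46), (15, 47), (16, 47), (21, 47), (23, 47), (24, 46), (33, 40)]

def witE6 : List (ℕ × ℕ) :=
  [(0, 46), (0, 47), (0, 48), (0, 49), (0, 50), (0, 51), (0, 52), (0, 53), (0, 54), (0, 55),
   (0, 61), (0, 62), (0, 63), (0, 64), (0, 65), (0, 66), (0, 67), (0, 68), (0, 69), (0, 70),
   (1, 25), (1, 53), (1, 54), (1, 55), (1, 64), (1, 65), (1, 66), (1, 67), (1, 68), (1, 69),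
   (1, 71), (2, 55), (2, 66), (2, 67), (2, 68), (2, 70), (2, 71), (3, 67), (3, 69), (3, 70),
   (3, 71), (4, 68), (4, 69), (4, 70), (4, 71), (5, 55), (5, 69), (5, 70), (5, 71), (6, 70),
   (6, 71), (7, 70), (7, 71), (8, 71), (9, 71), (10, 71), (16, 66), (16, 69), (16, 70), (16, 71),
   (17, 70), (17, 71), (18, 70), (18, 71), (19, 71), (20, 71), (21, 71), (22, 71), (23, 71),
   (24, 71), (25, 71), (46, 70)]

def witE7 : List (ℕ × ℕ) :=
  [(0, 93), (0, 94), (0, 95), (0, 96), (0, 97), (0, 98), (0, 99), (0, 100), (0, 101), (0, 102),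
   (0, 103), (0, 104), (0, 105), (0, 106), (0, 107), (0, 108), (0, 109), (0, 110), (0, 111),
   (0, 112), (0, 113), (0, 114), (0, 115), (0, 116), (0, 117), (0, 118), (0, 119), (0, 120),
   (0, 121), (0, 122), (0, 123), (0, 124), (1, 32), (1, 109), (1, 110), (1, 111), (1, 112),
   (1, 113), (1, 114), (1, 115), (1, 116), (1, 117), (1, 118), (1, 119), (1, 120), (1, 121),
   (1, 122), (1, 123), (1, 125), (2, 115), (2, 116), (2, 117), (2, 118), (2, 119), (2, 120),
   (2, 121), (2, 122), (2, 124), (2, 125), (3, 118), (3, 119), (3, 120), (3, 121), (3, 123),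
   (3, 124), (3, 125), (4, 119), (4, 120), (4, 122), (4, 123), (4, 124), (4, 125), (5, 119),
   (5, 121), (5, 122), (5, 123), (5, 124), (5, 125), (6, 120), (6, 121), (6, 122), (6, 123),
   (6, 124), (6, 125), (7, 122), (7, 123), (7, 124), (7, 125), (8, 123), (8, 124), (8, 125),
   (9, 123), (9, 124), (9, 125), (10, 123), (10, 124), (10, 125), (11, 124), (11, 125),
   (12, 124), (12, 125), (13, 124), (13, 125), (14, 124), (14, 125), (15, 124), (15, 125),
   (16, 124), (16, 125), (17, 125), (18, 125), (19, 125), (20, 125), (21, 125), (22, 125),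
   (23, 125), (24, 125), (25, 125), (26, 125), (27, 125), (28, 125), (29, 125), (30, 125),
   (31, 125), (32, 125), (93, 124)]

def witE8 : List (ℕ × ℕ) :=
  [(0, 120), (0, 122), (0, 125), (0, 129), (0, 134), (0, 140), (0, 146), (0, 151), (0, 155),
   (0, 158), (0, 160), (0, 161), (0, 168), (0, 173), (0, 177), (0, 180), (0, 182), (0, 183),
   (0, 187), (0, 190), (0, 192), (0, 193), (0, 196), (0, 198), (0, 199), (0, 201), (0, 202),
   (0, 203), (0, 206), (0, 208), (0, 209), (0, 211), (0, 212), (0, 213), (0, 215), (0, 216),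
   (0, 217), (0, 218), (0, 220), (0, 221), (0, 222), (0, 223), (0, 224), (0, 225), (0, 227),
   (0, 228), (0, 229), (0, 230), (0, 231), (0, 232), (0, 233), (0, 234), (0, 235), (0, 236),
   (0, 237), (0, 238), (1, 119), (1, 161), (1, 183), (1, 193), (1, 199), (1, 202), (1, 203),
   (1, 209), (1, 212), (1, 213), (1, 216), (1, 217), (1, 218), (1, 221), (1, 222), (1, 223),
   (1, 224), (1, 225), (1, 228), (1, 229), (1, 230), (1, 231), (1, 232), (1, 233), (1, 234),
   (1, 235), (1, 236), (1, 237), (1, 239), (2, 203), (2, 213), (2, 217), (2, 218), (2, 222),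
   (2, 223), (2, 224), (2, 225), (2, 229), (2, 230), (2, 231), (2, 232), (2, 233), (2, 234),
   (2, 235), (2, 236), (2, 238), (2, 239), (3, 218), (3, 223), (3, 224), (3, 225), (3, 230),
   (3, 231), (3, 232), (3, 233), (3, 234), (3, 235), (3, 237), (3, 238), (3, 239), (4, 224),
   (4, 225), (4, 231), (4, 232), (4, 233), (4, 234), (4, 236), (4, 237), (4, 238), (4, 239),
   (5, 225), (5, 232), (5, 233), (5, 235), (5, 236), (5, 237), (5, 238), (5, 239), (6, 225),
   (6, 234), (6, 235), (6, 236), (6, 237), (6, 238), (6, 239), (7, 234), (7, 235), (7, 236),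
   (7, 237), (7, 238), (7, 239), (8, 235), (8, 236), (8, 237), (8, 238), (8, 239), (9, 236),
   (9, 237), (9, 238), (9, 239), (10, 237), (10, 238), (10, 239), (11, 238), (11, 239),
   (12, 239), (14, 233), (14, 234), (14, 235), (14, 236), (14, 237), (14, 238), (14, 239),
   (15, 235), (15, 236), (15, 237), (15, 238), (15, 239), (16, 236), (16, 237), (16, 238),
   (16, 239), (17, 237), (17, 238), (17, 239), (18, 238), (18, 239), (19, 239), (21, 236),
   (21, 237), (21, 238), (21, 239), (22, 237), (22, 238), (22, 239), (23, 238), (23, 239),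
   (24, 239), (26, 237), (26, 238), (26, 239), (27, 238), (27, 239), (28, 239), (30, 238),
   (30, 239), (31, 239), (33, 239), (36, 237), (36, 238), (36, 239), (37, 238), (37, 239),
   (38, 239), (40, 238), (40, 239), (41, 239), (43, 239), (46, 238), (46, 239), (47, 239),
   (49, 239), (52, 239), (56, 238), (56, 239), (57, 239), (59, 239), (62, 239), (66, 239),
   (71, 239), (78, 238), (78, 239), (79, 239), (81, 239), (84, 239), (88, 239), (93, 239),
   (99, 239), (105, 239), (110, 239), (114, 239), (117, 239), (119, 239), (120, 238)]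

set_option maxRecDepth 100000 in
theorem chkG2 : chk chevG2 true witG2 = true := by decide +kernel

set_option maxRecDepth 100000 in
theorem chkB2 : chk chevB2 true witB2 = true := by decide +kernel

set_option maxRecDepth 100000 in
theorem chkD4 : chk chevD4 false witD4 = true := by decide +kernel

set_option maxRecDepth 100000 in
theorem chkF4 : chk chevF4 false witF4 = true := by decide +kernel

set_option maxRecDepth 100000 in
theorem chkE6 : chk chevE6 false witE6 = true := by decide +kernel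

set_option maxRecDepth 100000 in
theorem chkE7 : chk chevE7 false witE7 = true := by decide +kernel

set_option maxRecDepth 100000 in
theorem chkE8 : chk chevE8 false witE8 = true := by decide +kernel

theorem result {K : Type*} [Field K] (D : Cfsg.Lie.ChevalleyDatum) (hD : D ∈ [Cfsg.Lie.chevG2, Cfsg.Lie.chevB2, Cfsg.Lie.chevD4, Cfsg.Lie.chevF4, Cfsg.Lie.chevE6, Cfsg.Lie.chevE7, Cfsg.Lie.chevE8]) (hK : D ∈ [Cfsg.Lie.chevB2, Cfsg.Lie.chevG2] → ∃ x : K, x ≠ 0 ∧ x ≠ 1) :
    commutator (D.SteinbergCover K) = ⊤ := by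
  simp only [List.mem_cons, List.not_mem_nil, or_false] at hD
  rcases hD with rfl | rfl | rfl | rfl | rfl | rfl | rfl
  · exact perfect_of_chk _ K true (fun _ => hK (by simp)) witG2 chkG2
  · exact perfect_of_chk _ K true (fun _ => hK (by simp)) witB2 chkB2
  · exact perfect_of_chk _ K false (fun h => absurd h (by decide)) witD4 chkD4
  · exact perfect_of_chk _ K false (fun h => absurd h (by decide)) witF4 chkF4
  · exact perfect_of_chk _ K false (fun h => absurd h (by decide)) witE6 chkE6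
  · exact perfect_of_chk _ K false (fun h => absurd h (by decide)) witE7 chkE7
  · exact perfect_of_chk _ K false (fun h => absurd h (by decide)) witE8 chkE8

end Cfsg.Agent.S2395
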