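import Cfsg.Statements.S2396
import Cfsg.Agent.Lib.Helper18.StCenter

set_option autoImplicit false
open scoped MatrixGroups
open Cfsg

namespace Cfsg.Agent.S2396

open Cfsg.Lie Cfsg.Agent.Lib.Helper36 Cfsg.Agent.Lib.Helper18

theorem result {K : Type*} [Field K] (D : Cfsg.Lie.ChevalleyDatum) (hD : D ∈ [Cfsg.Lie.chevG2, Cfsg.Lie.chevB2, Cfsg.Lie.chevD4, Cfsg.Lie.chevF4, Cfsg.Lie.chevE6, Cfsg.Lie.chevE7, Cfsg.Lie.chevE8]) (hK : D ∈ [Cfsg.Lie.chevB2, Cfsg.Lie.chevG2] → ∃ x : K, x ≠ 0 ∧ x ≠ 1) :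
    ∃ θ : D.SteinbergCover K →* ↥(D.group K), Function.Surjective θ ∧ θ.ker ≤ Subgroup.center (D.SteinbergCover K) ∧
      ∀ (r : ℕ) (t : K), r < D.nroots → ((θ (D.scGen K r t) : GL D.Idx K) : Matrix D.Idx D.Idx K) = D.x K r t := by
  have hrel : ∀ r ∈ D.steinbergRelsAB K, FreeGroup.lift (genMap D hD K) r = 1 := by
    rintro _ (⟨r, t₁, t₂, -, rfl⟩ | ⟨r, s, t, u, hr, hs, hsr, hsn, rfl⟩)
    · exact lift_R1 D hD K r t₁ t₂
    · exact lift_R2 D hD K r s hr hs hsr hsn t u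
  set θ : D.SteinbergCover K →* ↥(D.group K) := PresentedGroup.toGroup hrel with hθ_def
  have hθ : ∀ (r : ℕ) (t : K), θ (PresentedGroup.mk (D.steinbergRelsAB K) (D.stX r t)) = xGr D hD K r t := by
    intro r t
    exact lift_stX D hD K r t
  have hθ' : ∀ (r : ℕ) (t : K), r < D.nroots →
      ((θ (PresentedGroup.mk (D.steinbergRelsAB K) (D.stX r t)) : GL D.Idx K) : Matrix D.Idx D.Idx K) = D.x K r t := by
    intro r t _
    rw [hθ r t]
    rfl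
  refine ⟨θ, surj_of_matching D hD K _ θ (fun r t _ => hθ r t), ?_, hθ'⟩
  let S := presSys D hD K (D.steinbergRelsAB K)
    (fun r t₁ t₂ hr => Or.inl ⟨r, t₁, t₂, hr, rfl⟩)
    (fun r s t u hr hs hsr hsn => Or.inr ⟨r, s, t, u, hr, hs, hsr, hsn, rfl⟩) θ hθ'
  intro g hg
  rw [MonoidHom.mem_ker] at hg
  have h1 : S.π g = 1 := by
    show (D.group K).subtype (θ g) = 1
    rw [hg, map_one]
  exact (ker_le S g h1).2

end Cfsg.Agent.S2396
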