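import Cfsg.Statements.S2405
import Cfsg.Agent.Lib.Helper67.C2gRank2
import Cfsg.Agent.Lib.Helper40.C2gA
import Cfsg.Agent.Lib.Helper90.C2gD4
import Cfsg.Agent.Lib.Helper1.C2gF4

set_option autoImplicit false
open Cfsg

namespace Cfsg.Agent.S2405

/-- Each Chevalley group of type G₂, B₂, D₄, F₄, E₆, E₇ or E₈ over a finite field is generated by two of its elements (types B₂ and G₂ over the field with two elements, where the group is not simple, excepted). -/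
theorem result {F : Type*} [Field F] [Finite F] (D : Cfsg.Lie.ChevalleyDatum) (hD : D ∈ [Cfsg.Lie.chevG2, Cfsg.Lie.chevB2, Cfsg.Lie.chevD4, Cfsg.Lie.chevF4, Cfsg.Lie.chevE6, Cfsg.Lie.chevE7, Cfsg.Lie.chevE8])
    (hF : D ∈ [Cfsg.Lie.chevB2, Cfsg.Lie.chevG2] → ∃ x : F, x ≠ 0 ∧ x ≠ 1) :
    ∃ a b : ↥(D.group F), Subgroup.closure ({a, b} : Set ↥(D.group F)) = ⊤ := by
  simp only [List.mem_cons, List.not_mem_nil, or_false] at hD
  rcases hD with rfl | rfl | rfl | rfl | rfl | rfl | rfl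
  · exact Cfsg.Agent.Lib.Helper67.C2g.two_gen_G2 F (hF (by simp))
  · exact Cfsg.Agent.Lib.Helper67.C2g.two_gen_B2 F (hF (by simp))
  · exact Cfsg.Agent.Lib.Helper40.C2g.two_gen_D4 F
  · exact Cfsg.Agent.Lib.Helper67.C2g.two_gen_F4 F
  · exact Cfsg.Agent.Lib.Helper40.C2g.two_gen_E6 F
  · exact Cfsg.Agent.Lib.Helper40.C2g.two_gen_E7 F
  · exact Cfsg.Agent.Lib.Helper40.C2g.two_gen_E8 F

end Cfsg.Agent.S2405
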