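import Cfsg.Statements.S2408
-- import your own Cfsg.Agent.* helpers here
import Cfsg.Agent.Lib.Helper36.F4TwoGen3

set_option autoImplicit false
open Cfsg

namespace Cfsg.Agent.S2408

open Cfsg.Lie Cfsg.Agent.Lib.Helper18 Cfsg.Agent.Lib.Helper36 in
/-- The large Ree group ²F₄(2^(2m+1)) with `m ≥ 1` is generated by two of its elements. -/
theorem result {K : Type*} [Field K] [Fintype K] {m : ℕ} (hm : 1 ≤ m) (hK : Fintype.card K = 2 ^ (2 * m + 1)) :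
    ∃ a b : ↥(Cfsg.Lie.twistedF4 K (2 ^ m)), Subgroup.closure ({a, b} : Set ↥(Cfsg.Lie.twistedF4 K (2 ^ m))) = ⊤ := by
  have hcp := f4_charP hK
  have hθ : (2 : ℕ) ^ m ≠ 0 := pow_ne_zero _ (by norm_num)
  obtain ⟨y, hy⟩ := IsCyclic.exists_generator (α := Kˣ)
  have ha : f4gH m y * wordGL chevF4 hF4 K (b2ClassWord (2 ^ m) f4a f4b f4ab f4aab 1 0) ∈ twistedF4 K (2 ^ m) :=
    mul_mem (f4Hm_mem hK _) (f4_class_mem _ 1 0)
  have hb : f4gB K ∈ twistedF4 K (2 ^ m) := f4gB_mem hθ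
  refine ⟨⟨_, ha⟩, ⟨_, hb⟩, ?_⟩
  rw [eq_top_iff]
  intro g _
  have h1 := f4g_le hK hm y hy g.2
  have hmap : (Subgroup.closure ({⟨_, ha⟩, ⟨_, hb⟩} : Set ↥(twistedF4 K (2 ^ m)))).map
      (twistedF4 K (2 ^ m)).subtype = Subgroup.closure
      {f4gH m y * wordGL chevF4 hF4 K (b2ClassWord (2 ^ m) f4a f4b f4ab f4aab 1 0), f4gB K} := by
    rw [MonoidHom.map_closure]
    congr 1
    simp [Set.image_pair]
  rw [← hmap] at h1
  obtain ⟨g', hg', e⟩ := Subgroup.mem_map.1 h1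
  have : g' = g := Subtype.ext e
  rw [← this]
  exact hg'

end Cfsg.Agent.S2408
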