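import Cfsg.Statements.S2410
import Cfsg.Agent.Lib.Helper6.SzSylow
import Cfsg.Agent.Lib.Helper6.SzBridge

set_option autoImplicit false
open Cfsg

namespace Cfsg.Agent.S2410


open Cfsg.Agent.Lib.Helper6.Sz
open scoped Pointwise

section gen
variable {F : Type*} [Field F] [CharP F 2] [Finite F] (s : F →+* F) (hs : ∀ x, s (s x) = x ^ 2)

include hs in
lemma exists_sq_mul_s_eq {c : F} (hc : c ≠ 0) : ∃ t : Fˣ, (t : F) ^ 2 * s (t : F) = c := by
  let κ : Fˣ →* Fˣ :=
    { toFun := fun t => t ^ 2 * Units.map (s : F →* F) t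
      map_one' := by simp
      map_mul' := by intro a b; simp [mul_pow, mul_mul_mul_comm] }
  have hinj : Function.Injective κ := by
    rw [injective_iff_map_eq_one]
    intro t ht
    have h1 : (t : F) ^ 2 * s (t : F) = 1 := by
      have := congrArg Units.val ht
      simpa [κ] using this
    apply Units.ext
    rw [Units.val_one]
    exact sq_mul_s_eq_one s hs h1
  obtain ⟨t, ht⟩ := (Finite.injective_iff_surjective.1 hinj) (Units.mk0 c hc)
  refine ⟨t, ?_⟩
  have := congrArg Units.val ht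
  simpa [κ] using this

lemma conj_b (x : Fˣ) :
    Dg s hs x * (Tg s hs 1 0 * Wg s hs) * Dg s hs x = Tg s hs (s (x : F)) 0 * Wg s hs := by
  calc Dg s hs x * (Tg s hs 1 0 * Wg s hs) * Dg s hs x
      = (Dg s hs x * Tg s hs 1 0) * (Wg s hs * Dg s hs x) := by group
    _ = (Tg s hs (s (x : F) * 1) ((x : F) ^ 2 * s (x : F) * 0) * Dg s hs x) *
          (Dg s hs x⁻¹ * Wg s hs) := by rw [Dg_mul_Tg, Wg_mul_Dg]
    _ = Tg s hs (s (x : F) * 1) ((x : F) ^ 2 * s (x : F) * 0) *
          (Dg s hs x * Dg s hs x⁻¹) * Wg s hs := by group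
    _ = Tg s hs (s (x : F)) 0 * Wg s hs := by
        rw [← Dg_mul, mul_inv_cancel, Dg_one]
        simp only [mul_one, mul_zero]

include hs in
/-- The ovoid stabilizer is generated by a torus generator and `T(1,0) W`. -/
theorem two_gen (hnt : ∃ y : F, s y ≠ y ^ 2) :
    ∃ a b : ↥(G s), Subgroup.closure ({a, b} : Set ↥(G s)) = ⊤ := by
  classical
  have h2 : (2 : F) = 0 := CharTwo.two_eq_zero
  obtain ⟨ζ, hζ⟩ := IsCyclic.exists_generator (α := Fˣ)
  refine ⟨Dg s hs ζ, Tg s hs 1 0 * Wg s hs, ?_⟩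
  set K := Subgroup.closure ({Dg s hs ζ, Tg s hs 1 0 * Wg s hs} : Set ↥(G s)) with hK
  have ha : Dg s hs ζ ∈ K := Subgroup.subset_closure (Set.mem_insert _ _)
  have hb : Tg s hs 1 0 * Wg s hs ∈ K :=
    Subgroup.subset_closure (Set.mem_insert_of_mem _ rfl)
  have hD : ∀ t : Fˣ, Dg s hs t ∈ K := by
    let H : Subgroup Fˣ :=
      { carrier := {t | Dg s hs t ∈ K}
        mul_mem' := fun {x y} hx hy => by
          show Dg s hs (x * y) ∈ K
          rw [Dg_mul]
          exact K.mul_mem hx hy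
        one_mem' := by
          show Dg s hs 1 ∈ K
          rw [Dg_one]
          exact K.one_mem
        inv_mem' := fun {x} hx => by
          show Dg s hs x⁻¹ ∈ K
          rw [← Dg_inv]
          exact K.inv_mem hx }
    intro t
    have h1 : Subgroup.zpowers ζ ≤ H := (Subgroup.zpowers_le).mpr ha
    exact h1 (hζ t)
  have hTW : ∀ x : Fˣ, Tg s hs (s (x : F)) 0 * Wg s hs ∈ K := by
    intro x
    rw [← conj_b s hs x]
    exact K.mul_mem (K.mul_mem (hD x) hb) (hD x)
  obtain ⟨y, hy⟩ := hnt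
  have hy0 : y ≠ 0 := by
    rintro rfl
    simp at hy
  have hy1 : y ≠ 1 := by
    rintro rfl
    simp at hy
  have hu0 : Tg s hs (s 1) 0 * (Tg s hs (s y) 0)⁻¹ ∈ K := by
    have h1 := hTW 1
    have h2' := hTW (Units.mk0 y hy0)
    rw [Units.val_one] at h1
    rw [Units.val_mk0] at h2'
    have e : Tg s hs (s 1) 0 * Wg s hs * (Tg s hs (s y) 0 * Wg s hs)⁻¹ =
        Tg s hs (s 1) 0 * (Tg s hs (s y) 0)⁻¹ := by group
    rw [← e]
    exact K.mul_mem h1 (K.inv_mem h2')
  rw [Tg_inv, Tg_mul] at hu0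
  have ha0 : s 1 + s y ≠ 0 := by
    rw [map_one]
    intro h
    apply hy1
    have h3 : s y = 1 := by linear_combination h - h2
    exact s.injective (h3.trans (map_one s).symm)
  obtain ⟨a0, b0, ha0, hmem0⟩ : ∃ a0 b0 : F, a0 ≠ 0 ∧ Tg s hs a0 b0 ∈ K := ⟨_, _, ha0, hu0⟩
  have hsurj : Function.Surjective s := Finite.injective_iff_surjective.mp s.injective
  have conjD : ∀ (t : Fˣ) (a b : F), Tg s hs a b ∈ K →
      Tg s hs (s (t : F) * a) ((t : F) ^ 2 * s (t : F) * b) ∈ K := by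
    intro t a b h
    have e : Dg s hs t * Tg s hs a b * (Dg s hs t)⁻¹ =
        Tg s hs (s (t : F) * a) ((t : F) ^ 2 * s (t : F) * b) := by
      rw [Dg_mul_Tg, mul_assoc, mul_inv_cancel, mul_one]
    rw [← e]
    exact K.mul_mem (K.mul_mem (hD t) h) (K.inv_mem (hD t))
  have stepA : ∀ a : F, ∃ b : F, Tg s hs a b ∈ K := by
    intro a
    by_cases ha' : a = 0
    · exact ⟨0, by rw [ha', Tg_zero]; exact K.one_mem⟩
    · obtain ⟨τ, hτ⟩ := hsurj (a / a0)
      have hτ0 : τ ≠ 0 := by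
        rintro rfl
        rw [map_zero] at hτ
        exact (div_ne_zero ha' ha0) hτ.symm
      have := conjD (Units.mk0 τ hτ0) a0 b0 hmem0
      rw [Units.val_mk0, hτ, div_mul_cancel₀ a ha0] at this
      exact ⟨_, this⟩
  have hc0 : Tg s hs 0 (s a0 * a0) ∈ K := by
    have := K.mul_mem hmem0 hmem0
    rw [Tg_mul] at this
    have e1 : a0 + a0 = 0 := by linear_combination a0 * h2
    have e2 : b0 + b0 + s a0 * a0 = s a0 * a0 := by linear_combination b0 * h2
    rwa [e1, e2] at this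
  have hc0ne : s a0 * a0 ≠ 0 := mul_ne_zero ((map_ne_zero s).mpr ha0) ha0
  have stepB : ∀ c : F, Tg s hs 0 c ∈ K := by
    intro c
    by_cases hc : c = 0
    · rw [hc, Tg_zero]; exact K.one_mem
    · obtain ⟨t, ht⟩ := exists_sq_mul_s_eq s hs (div_ne_zero hc hc0ne)
      have := conjD t 0 (s a0 * a0) hc0
      rw [mul_zero, ht, div_mul_cancel₀ c hc0ne] at this
      exact this
  have hT : ∀ a b : F, Tg s hs a b ∈ K := by
    intro a b
    obtain ⟨b', hb'⟩ := stepA a
    have := K.mul_mem hb' (stepB (b + b'))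
    rw [Tg_mul_Tg_zero] at this
    have e : b' + (b + b') = b := by linear_combination b' * h2
    rwa [e] at this
  apply eq_top_of_mem s hs ⟨y, hy⟩ K hT hD
  refine ⟨_, hb, ?_⟩
  rw [mul_smul, Wg_smul_oinf, Tg_smul_opt00]
  exact opt_ne_oinf s 1 0

include hs in
lemma gen_of_eq (hnt : ∃ y : F, s y ≠ y ^ 2)
    {O : Set (Projectivization F (Fin 4 → F))} (hO : O = Ov s) :
    ∃ a b : ↥(MulAction.stabilizer (Matrix.SpecialLinearGroup (Fin 4) F) O),
      Subgroup.closure ({a, b} :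
        Set ↥(MulAction.stabilizer (Matrix.SpecialLinearGroup (Fin 4) F) O)) = ⊤ := by
  subst hO
  exact two_gen s hs hnt

end gen

/-- The Suzuki group over the field with `2^(2m+1)` elements, `m ≥ 1` (realised as the stabiliser in `SL₄` of the Suzuki–Tits ovoid), is generated by two of its elements. -/
theorem result {F : Type*} [Field F] [Fintype F] {m : ℕ} (hm : 1 ≤ m) (hF : Fintype.card F = 2 ^ (2 * m + 1)) :
    ∃ a b : ↥(Cfsg.Sz F m), Subgroup.closure ({a, b} : Set ↥(Cfsg.Sz F m)) = ⊤ := by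
  haveI := charP_two hF
  exact gen_of_eq (sig F m) (sig_sig hF) (sig_nt hm hF) (ovoid_eq (F := F) m)

end Cfsg.Agent.S2410
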