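import Cfsg.Statements.S2411
import Cfsg.Agent.Lib.Helper40.SpGen5

set_option autoImplicit false
open Cfsg

namespace Cfsg.Agent.S2411

/-- The projective symplectic group `PSp_{2m}(q)` with `m ≥ 2` (and `q > 2` if `m = 2`) is generated by two of its elements. -/
theorem result {F : Type*} [Field F] [Fintype F] (m : ℕ) (hm : 2 ≤ m) (hF : m = 2 → 2 < Fintype.card F) :
    ∃ a b : Cfsg.PSp m F, Subgroup.closure ({a, b} : Set (Cfsg.PSp m F)) = ⊤ := by
  classical
  obtain ⟨x, y, hxy⟩ := Cfsg.Agent.Lib.Helper40.SpGen.exists_two_gen (F := F) (m := m) hm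
  refine ⟨QuotientGroup.mk x, QuotientGroup.mk y, ?_⟩
  have h := Subgroup.map_top_of_surjective
    (QuotientGroup.mk' (Subgroup.center (Matrix.symplecticGroup (Fin m) F)))
    (QuotientGroup.mk'_surjective _)
  rw [← hxy, MonoidHom.map_closure] at h
  rw [← h]
  congr 1
  simp [Set.image_pair]

end Cfsg.Agent.S2411
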