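import Cfsg.Statements.S2413
import Cfsg.Agent.Lib.Helper67.OgAsmO
import Cfsg.Agent.Lib.Helper5.Omega5
import Cfsg.Agent.S2411

set_option autoImplicit false
open Cfsg

namespace Cfsg.Agent.S2413

/-- The simple orthogonal group `PΩ_{2m+1}(q)` (commutator subgroup of the orthogonal group of `x₀² + Σ x_i y_i` modulo its centre) with `m ≥ 2` and `q` odd is generated by two of its elements. -/
theorem result {F : Type*} [Field F] [Fintype F] (hodd : Odd (Fintype.card F)) (m : ℕ) (hm : 2 ≤ m) :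
    ∃ a b : Cfsg.POmega F (Cfsg.quadFormOdd m F), Subgroup.closure ({a, b} : Set (Cfsg.POmega F (Cfsg.quadFormOdd m F))) = ⊤ := by
  by_cases h2 : m = 2
  · subst h2
    obtain ⟨φ⟩ := Cfsg.Agent.Lib.Helper5.Om5.pomega5_equiv (F := F) hodd
    have hq : 2 < Fintype.card F := by
      have h1 : 1 < Fintype.card F := Fintype.one_lt_card
      obtain ⟨k, hk⟩ := hodd
      omega
    obtain ⟨a, b, hab⟩ := Cfsg.Agent.S2411.result (F := F) 2 le_rfl (fun _ => hq)
    refine ⟨φ.symm a, φ.symm b, ?_⟩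
    have h := congrArg (Subgroup.map φ.symm.toMonoidHom) hab
    rw [MonoidHom.map_closure, Set.image_pair] at h
    rw [show ({φ.symm a, φ.symm b} : Set (Cfsg.POmega F (Cfsg.quadFormOdd 2 F)))
      = {φ.symm.toMonoidHom a, φ.symm.toMonoidHom b} from rfl, h, ← MonoidHom.range_eq_map,
      MonoidHom.range_eq_top]
    exact φ.symm.surjective
  · rw [Cfsg.Agent.Lib.Helper43.oddForm_coe]
    exact Cfsg.Agent.Lib.Helper67.Og.two_gen_odd F hodd m (by omega)

end Cfsg.Agent.S2413
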