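import Cfsg.Statements.S2416
import Cfsg.Agent.Lib.Helper36.ChevGenN

set_option autoImplicit false
open Cfsg

namespace Cfsg.Agent.S2416

open Cfsg.Lie Cfsg.Agent.Lib.Helper36 in
theorem two_ne {K : Type*} [Field K] (h : ringChar K ≠ 2) : (((2 : ℤ) : K)) ≠ 0 := by
  have := Ring.two_ne_zero h
  simpa using this

open Cfsg.Lie Cfsg.Agent.Lib.Helper36 in
theorem three_ne {K : Type*} [Field K] (h : ringChar K ≠ 3) : (((3 : ℤ) : K)) ≠ 0 := by
  intro h0
  have h1 : ((3 : ℕ) : K) = 0 := by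
    have : (((3 : ℤ) : K)) = ((3 : ℕ) : K) := by norm_num
    rw [← this]; exact h0
  have h2 := (ringChar.spec K 3).1 h1
  have h3 := (Nat.dvd_prime Nat.prime_three).1 h2
  rcases h3 with h3 | h3
  · exact CharP.ringChar_ne_one h3
  · exact h h3

/-- A Chevalley group of type G₂, B₂, D₄, F₄, E₆, E₇ or E₈ over a finite field lies in (indeed equals) the subgroup generated by its monomial subgroup `N` and a single fundamental root subgroup `X_p`, where `p` is a short fundamental root if there are two root lengths (any fundamental root otherwise), provided the characteristic is not 2 for types B₂, F₄ and not 3 for type G₂ (and the field has more than two elements for B₂, G₂). -/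
theorem result {K : Type*} [Field K] [Finite K] (D : Cfsg.Lie.ChevalleyDatum) (hD : D ∈ [Cfsg.Lie.chevG2, Cfsg.Lie.chevB2, Cfsg.Lie.chevD4, Cfsg.Lie.chevF4, Cfsg.Lie.chevE6, Cfsg.Lie.chevE7, Cfsg.Lie.chevE8])
    (hK : D ∈ [Cfsg.Lie.chevB2, Cfsg.Lie.chevG2] → ∃ x : K, x ≠ 0 ∧ x ≠ 1)
    (h2 : D ∈ [Cfsg.Lie.chevB2, Cfsg.Lie.chevF4] → ringChar K ≠ 2) (h3 : D = Cfsg.Lie.chevG2 → ringChar K ≠ 3)
    (i : ℕ) (hi : i < D.rank) (hshort : D.isLong (D.simple i) = false) :
    D.group K ≤ D.monomialSubgroup K ⊔ D.rootSubgroup K (D.simple i) := by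
  open Cfsg.Lie Cfsg.Agent.Lib.Helper36 in
  have key : ∃ p : ℤ, chk16 D p = true ∧ ((p : K) ≠ 0 ∨ ∀ i < D.rank, reachAll D [i] = true) := by
    have hD' := hD
    simp only [List.mem_cons, List.not_mem_nil, or_false] at hD'
    rcases hD' with rfl | rfl | rfl | rfl | rfl | rfl | rfl
    · exact ⟨3, chk16_G2, Or.inl (three_ne (h3 rfl))⟩
    · exact ⟨2, chk16_B2, Or.inl (two_ne (h2 (by simp)))⟩
    · exact ⟨2, chk16_D4, Or.inr reach_D4⟩
    · exact ⟨2, chk16_F4, Or.inl (two_ne (h2 (by simp)))⟩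
    · exact ⟨2, chk16_E6, Or.inr reach_E6⟩
    · exact ⟨2, chk16_E7, Or.inr reach_E7⟩
    · exact ⟨2, chk16_E8, Or.inr reach_E8⟩
  obtain ⟨p, hchk, hp⟩ := key
  exact Cfsg.Agent.Lib.Helper36.gen16 D hD K _ le_sup_left p hchk hp i hi hshort
    (fun t => (le_sup_right : D.rootSubgroup K (D.simple i) ≤ _)
      (Cfsg.Agent.Lib.Helper36.xGL_mem_rootSubgroup D hD K _ t))

end Cfsg.Agent.S2416
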