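import Cfsg.Statements.S2418
import Cfsg.Agent.Lib.Helper18.CoxB2
import Cfsg.Agent.Lib.Helper18.CoxG2
import Cfsg.Agent.Lib.Helper18.CoxD4
import Cfsg.Agent.Lib.Helper18.CoxF4
import Cfsg.Agent.Lib.Helper18.CoxE6
import Cfsg.Agent.Lib.Helper18.CoxE7
import Cfsg.Agent.Lib.Helper18.CoxE8

set_option autoImplicit false
open Cfsg

namespace Cfsg.Agent.S2418

open Cfsg.Agent.Lib.Helper18

section generic
variable {n : ℕ} (M : CoxeterMatrix (Fin n)) (A : Matrix (Fin n) (Fin n) ℤ)
  (hA : M.IsLiftable (reflMat A))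

theorem mul_reflMat_apply (Z : Matrix (Fin n) (Fin n) ℤ) (i j k : Fin n) :
    (Z * reflMat A i) j k = Z j k - (if k = i then ∑ m, Z j m * A i m else 0) := by
  simp only [Matrix.mul_apply, reflMat, Matrix.of_apply, mul_sub, Finset.sum_sub_distrib]
  congr 1
  · simp
  · by_cases h : k = i
    · simp [h]
    · simp [h]

theorem reflMat_mul_apply (Z : Matrix (Fin n) (Fin n) ℤ) (i j k : Fin n) :
    (reflMat A i * Z) j k = Z j k - A i j * Z i k := by
  simp only [Matrix.mul_apply, reflMat, Matrix.of_apply, sub_mul, Finset.sum_sub_distrib,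
    ite_mul, one_mul, zero_mul, Finset.sum_ite_eq, Finset.mem_univ, if_true,
    Finset.sum_ite_eq']

theorem scalar_of_commute (hdiag : ∀ i, A i i ≠ 0)
    (hconn : ∀ l : Fin n → ℤ, (∀ i j, A i j ≠ 0 → l j = l i) → ∀ i j, l i = l j)
    (i0 : Fin n) (Z : Matrix (Fin n) (Fin n) ℤ)
    (hZ : ∀ i, Z * reflMat A i = reflMat A i * Z) :
    Z = (Z i0 i0) • (1 : Matrix (Fin n) (Fin n) ℤ) := by
  have key : ∀ i j k, (if k = i then ∑ m, Z j m * A i m else 0) = A i j * Z i k := by
    intro i j k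
    have := congrFun (congrFun (hZ i) j) k
    rw [mul_reflMat_apply, reflMat_mul_apply] at this
    linarith
  have hoff : ∀ i k, k ≠ i → Z i k = 0 := by
    intro i k hk
    have := key i i k
    rw [if_neg hk] at this
    rcases mul_eq_zero.1 this.symm with h | h
    · exact absurd h (hdiag i)
    · exact h
  have hd : ∀ i j, A i j ≠ 0 → Z j j = Z i i := by
    intro i j hij
    have := key i j i
    rw [if_pos rfl] at this
    have hsum : ∑ m, Z j m * A i m = Z j j * A i j := by
      rw [Finset.sum_eq_single j]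
      · intro m _ hm
        rw [hoff j m hm, zero_mul]
      · intro h; exact absurd (Finset.mem_univ j) h
    rw [hsum, mul_comm] at this
    exact mul_left_cancel₀ hij this
  have hall := hconn (fun i => Z i i) hd
  ext i j
  rw [Matrix.smul_apply, Matrix.one_apply, smul_eq_mul]
  by_cases hij : i = j
  · subst hij
    rw [if_pos rfl, mul_one]
    exact hall i i0
  · rw [if_neg hij, mul_zero]
    exact hoff i j (Ne.symm hij)

theorem rho_central (hdiag : ∀ i, A i i ≠ 0)
    (hconn : ∀ l : Fin n → ℤ, (∀ i j, A i j ≠ 0 → l j = l i) → ∀ i j, l i = l j)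
    (i0 : Fin n) (z : M.Group) (hz : z ∈ Subgroup.center M.Group) :
    rho M A hA z = 1 ∨ rho M A hA z = -1 := by
  have hcomm : ∀ w : M.Group, rho M A hA w ∈ Set.univ →
      ∀ i, rho M A hA w * reflMat A i = reflMat A i * rho M A hA w → True := fun _ _ _ _ => trivial
  have hZ : ∀ (w : M.Group), w ∈ Subgroup.center M.Group →
      ∀ i, rho M A hA w * reflMat A i = reflMat A i * rho M A hA w := by
    intro w hw i
    rw [← rho_simple M A hA i, ← map_mul, ← map_mul]
    congr 1
    exact ((Subgroup.mem_center_iff.1 hw) (M.simple i)).symm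
  have h1 := scalar_of_commute A hdiag hconn i0 _ (hZ z hz)
  have h2 := scalar_of_commute A hdiag hconn i0 _
    (hZ z⁻¹ ((Subgroup.center M.Group).inv_mem hz))
  have hprod : rho M A hA z * rho M A hA z⁻¹ = 1 := by
    rw [← map_mul, mul_inv_cancel, map_one]
  set a := rho M A hA z i0 i0 with ha
  set b := rho M A hA z⁻¹ i0 i0 with hb
  have hab : a * b = 1 := by
    have := congrFun (congrFun hprod i0) i0
    rw [h1, h2, Matrix.smul_mul, Matrix.one_mul, Matrix.smul_apply, Matrix.smul_apply,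
      Matrix.one_apply_eq, smul_eq_mul, smul_eq_mul, mul_one] at this
    exact this
  rcases Int.eq_one_or_neg_one_of_mul_eq_one hab with h | h
  · left; rw [h1, h, one_smul]
  · right; rw [h1, h]; simp

theorem rho_inj (hker : ∀ w : M.Group, rho M A hA w = 1 → w = 1) {x y : M.Group}
    (h : rho M A hA x = rho M A hA y) : x = y := by
  have : rho M A hA (x * y⁻¹) = 1 := by
    rw [map_mul, h, ← map_mul, mul_inv_cancel, map_one]
  have := hker _ this
  exact mul_inv_eq_one.1 this

theorem center_two (hdiag : ∀ i, A i i ≠ 0)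
    (hconn : ∀ l : Fin n → ℤ, (∀ i j, A i j ≠ 0 → l j = l i) → ∀ i j, l i = l j)
    (i0 : Fin n) (hker : ∀ w : M.Group, rho M A hA w = 1 → w = 1)
    (c : M.Group) (k : ℕ) (hk : rho M A hA (c ^ k) = -1) :
    Nat.card (Subgroup.center M.Group) = 2 ∧ Subgroup.center M.Group ≤ Subgroup.zpowers c := by
  have hw0 : c ^ k ∈ Subgroup.center M.Group := by
    rw [Subgroup.mem_center_iff]
    intro g
    apply rho_inj M A hA hker
    rw [map_mul, map_mul, hk]
    simp
  have hne : c ^ k ≠ 1 := by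
    intro h
    rw [h, map_one] at hk
    have := congrFun (congrFun hk i0) i0
    simp at this
  have hcases : ∀ z ∈ Subgroup.center M.Group, z = 1 ∨ z = c ^ k := by
    intro z hz
    rcases rho_central M A hA hdiag hconn i0 z hz with h | h
    · left; exact hker z h
    · right; apply rho_inj M A hA hker; rw [h, hk]
  constructor
  · rw [Nat.card_eq_two_iff]
    refine ⟨⟨1, Subgroup.one_mem _⟩, ⟨c ^ k, hw0⟩, ?_, ?_⟩
    · intro h
      exact hne (Subtype.ext_iff.1 h).symm
    · ext ⟨x, hx⟩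
      simp only [Set.mem_insert_iff, Set.mem_singleton_iff, Set.mem_univ, iff_true]
      rcases hcases x hx with rfl | rfl
      · exact Or.inl rfl
      · exact Or.inr rfl
  · intro z hz
    rcases hcases z hz with rfl | rfl
    · exact Subgroup.one_mem _
    · exact Subgroup.pow_mem _ (Subgroup.mem_zpowers c) k

theorem center_one (hdiag : ∀ i, A i i ≠ 0)
    (hconn : ∀ l : Fin n → ℤ, (∀ i j, A i j ≠ 0 → l j = l i) → ∀ i j, l i = l j)
    (i0 : Fin n) (hker : ∀ w : M.Group, rho M A hA w = 1 → w = 1)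
    (cv : Fin n → ℤ) (hcv : ∀ i, (3 : ℤ) ∣ ∑ j, cv j * A i j)
    (j0 : Fin n) (hj0 : ¬ (3 : ℤ) ∣ 2 * cv j0) (c : M.Group) :
    Nat.card (Subgroup.center M.Group) = 1 ∧ Subgroup.center M.Group ≤ Subgroup.zpowers c := by
  have hinv : ∀ w : M.Group, ∀ v : Fin n → ℤ,
      (3 : ℤ) ∣ (∑ j, cv j * ((rho M A hA w).mulVec v) j) - ∑ j, cv j * v j := by
    intro w
    refine M.toCoxeterSystem.simple_induction (p := fun w => ∀ v : Fin n → ℤ,
      (3 : ℤ) ∣ (∑ j, cv j * ((rho M A hA w).mulVec v) j) - ∑ j, cv j * v j) w ?_ ?_ ?_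
    · intro i v
      rw [CoxeterMatrix.toCoxeterSystem_simple, rho_simple, reflMat_mulVec]
      have : (∑ j, cv j * reflVec A i v j) - ∑ j, cv j * v j = -(v i) * ∑ j, cv j * A i j := by
        rw [← Finset.sum_sub_distrib, Finset.mul_sum]
        apply Finset.sum_congr rfl
        intro j _
        simp only [reflVec]
        ring
      rw [this]
      exact Dvd.dvd.mul_left (hcv i) _
    · intro v
      simp
    · intro w w' hw hw' v
      rw [map_mul, ← Matrix.mulVec_mulVec]
      have h1 := hw ((rho M A hA w').mulVec v)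
      have h2 := hw' v
      have := dvd_add h1 h2
      rwa [sub_add_sub_cancel] at this
  have hbot : Subgroup.center M.Group = ⊥ := by
    rw [Subgroup.eq_bot_iff_forall]
    intro z hz
    rcases rho_central M A hA hdiag hconn i0 z hz with h | h
    · exact hker z h
    · exfalso
      have := hinv z (Pi.single j0 1)
      rw [h] at this
      apply hj0
      have e2 : (∑ j, cv j * (Pi.single j0 (1 : ℤ) : Fin n → ℤ) j) = cv j0 := by
        simp [Pi.single_apply]
      have e1 : (∑ j, cv j * ((-1 : Matrix (Fin n) (Fin n) ℤ).mulVec (Pi.single j0 1)) j) =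
          -cv j0 := by
        rw [Matrix.neg_mulVec, Matrix.one_mulVec]
        simp only [Pi.neg_apply, mul_neg, Finset.sum_neg_distrib, e2]
      rw [e1, e2] at this
      have h3 : (-cv j0 - cv j0) = -(2 * cv j0) := by ring
      rw [h3, dvd_neg] at this
      exact this
  rw [hbot]
  exact ⟨Subgroup.card_bot, bot_le⟩

end generic

theorem conn_of_par {n : ℕ} (A : Matrix (Fin n) (Fin n) ℤ) (par : Fin n → Fin n) (i0 : Fin n)
    (hpar : ∀ i, par i = i ∨ A (par i) i ≠ 0) (hroot : ∀ i, par^[n] i = i0) :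
    ∀ l : Fin n → ℤ, (∀ i j, A i j ≠ 0 → l j = l i) → ∀ i j, l i = l j := by
  intro l h
  have step : ∀ i, l (par i) = l i := by
    intro i
    rcases hpar i with h1 | h1
    · rw [h1]
    · exact (h (par i) i h1).symm
  have iter : ∀ k i, l (par^[k] i) = l i := by
    intro k
    induction k with
    | zero => intro i; rfl
    | succ k ih =>
      intro i
      rw [Function.iterate_succ_apply, ih, step]
  intro i j
  rw [← iter n i, ← iter n j, hroot i, hroot j]

theorem conn2 (A : Matrix (Fin 2) (Fin 2) ℤ) (h01 : A 0 1 ≠ 0) :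
    ∀ l : Fin 2 → ℤ, (∀ i j, A i j ≠ 0 → l j = l i) → ∀ i j, l i = l j := by
  intro l h i j
  have := h 0 1 h01
  fin_cases i <;> fin_cases j <;> simp_all

theorem res_B2 : Nat.card (Subgroup.center (CoxeterMatrix.B 2).Group) = 2 ∧
    Subgroup.center (CoxeterMatrix.B 2).Group ≤
      Subgroup.zpowers ((List.finRange 2).map (CoxeterMatrix.B 2).simple).prod :=
  center_two CoxB2.M CoxB2.A CoxB2.hA (by decide) (conn2 _ (by decide)) 0 CoxB2.rho_ker
    CoxB2.cox 2 (by rw [CoxB2.rho_cox_pow2]; decide +kernel)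

theorem res_G2 : Nat.card (Subgroup.center CoxeterMatrix.G₂.Group) = 2 ∧
    Subgroup.center CoxeterMatrix.G₂.Group ≤
      Subgroup.zpowers ((List.finRange 2).map CoxeterMatrix.G₂.simple).prod :=
  center_two CoxG2.M CoxG2.A CoxG2.hA (by decide) (conn2 _ (by decide)) 0 CoxG2.rho_ker
    CoxG2.cox 3 (by rw [CoxG2.rho_cox_pow3]; decide +kernel)

theorem res_D4 : Nat.card (Subgroup.center Cfsg.Lie.coxeterD4.Group) = 2 ∧
    Subgroup.center Cfsg.Lie.coxeterD4.Group ≤
      Subgroup.zpowers ((List.finRange 4).map Cfsg.Lie.coxeterD4.simple).prod :=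
  center_two CoxD4.M CoxD4.A CoxD4.hA (by decide)
    (conn_of_par _ ![1, 1, 1, 1] 1 (by decide) (by decide)) 0 CoxD4.rho_ker
    CoxD4.cox 3 (by rw [CoxD4.rho_cox_pow3]; decide +kernel)

theorem res_F4 : Nat.card (Subgroup.center CoxeterMatrix.F₄.Group) = 2 ∧
    Subgroup.center CoxeterMatrix.F₄.Group ≤
      Subgroup.zpowers ((List.finRange 4).map CoxeterMatrix.F₄.simple).prod :=
  center_two CoxF4.M CoxF4.A CoxF4.hA (by decide)
    (conn_of_par _ ![0, 0, 1, 2] 0 (by decide) (by decide)) 0 CoxF4.rho_ker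
    CoxF4.cox 6 (by rw [CoxF4.rho_cox_pow6]; decide +kernel)

theorem res_E6 : Nat.card (Subgroup.center CoxeterMatrix.E₆.Group) = 1 ∧
    Subgroup.center CoxeterMatrix.E₆.Group ≤
      Subgroup.zpowers ((List.finRange 6).map CoxeterMatrix.E₆.simple).prod :=
  center_one CoxE6.M CoxE6.A CoxE6.hA (by decide)
    (conn_of_par _ ![2, 3, 3, 3, 3, 4] 3 (by decide) (by decide)) 0 CoxE6.rho_ker
    ![1, 0, 2, 0, 1, 2] (by decide) 0 (by decide) _

theorem res_E7 : Nat.card (Subgroup.center CoxeterMatrix.E₇.Group) = 2 ∧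
    Subgroup.center CoxeterMatrix.E₇.Group ≤
      Subgroup.zpowers ((List.finRange 7).map CoxeterMatrix.E₇.simple).prod :=
  center_two CoxE7.M CoxE7.A CoxE7.hA (by decide)
    (conn_of_par _ ![2, 3, 3, 3, 3, 4, 5] 3 (by decide) (by decide)) 0 CoxE7.rho_ker
    CoxE7.cox 9 (by rw [CoxE7.rho_cox_pow9]; decide +kernel)

theorem res_E8 : Nat.card (Subgroup.center CoxeterMatrix.E₈.Group) = 2 ∧
    Subgroup.center CoxeterMatrix.E₈.Group ≤
      Subgroup.zpowers ((List.finRange 8).map CoxeterMatrix.E₈.simple).prod :=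
  center_two CoxE8.M CoxE8.A CoxE8.hA (by decide)
    (conn_of_par _ ![2, 3, 3, 3, 3, 4, 5, 6] 3 (by decide) (by decide)) 0 CoxE8.rho_ker
    CoxE8.cox 15 (by rw [CoxE8.rho_cox_pow15]; decide +kernel)

/-- For the Coxeter groups of types B₂, G₂, D₄, F₄, E₇, E₈ the centre has order 2 (the element acting as −1 on the root system) and is generated by a power of the Coxeter element `s₁ s₂ ⋯ s_l`; the Coxeter group of type E₆ has trivial centre. -/
theorem result (c : (Σ n : ℕ, CoxeterMatrix (Fin n)) × ℕ)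
    (hc : c ∈ [(⟨2, CoxeterMatrix.B 2⟩, 2), (⟨2, CoxeterMatrix.G₂⟩, 2), (⟨4, Cfsg.Lie.coxeterD4⟩, 2), (⟨4, CoxeterMatrix.F₄⟩, 2),
      (⟨6, CoxeterMatrix.E₆⟩, 1), (⟨7, CoxeterMatrix.E₇⟩, 2), (⟨8, CoxeterMatrix.E₈⟩, 2)]) :
    Nat.card (Subgroup.center c.1.2.Group) = c.2 ∧
      Subgroup.center c.1.2.Group ≤ Subgroup.zpowers ((List.finRange c.1.1).map c.1.2.simple).prod := by
  simp only [List.mem_cons, List.not_mem_nil, or_false] at hc
  rcases hc with rfl | rfl | rfl | rfl | rfl | rfl | rfl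
  · exact res_B2
  · exact res_G2
  · exact res_D4
  · exact res_F4
  · exact res_E6
  · exact res_E7
  · exact res_E8

end Cfsg.Agent.S2418
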