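import Cfsg.Statements.S2419

set_option autoImplicit false
open Cfsg

namespace Cfsg.Agent.S2419

section grp
variable {G : Type*} [Group G]

theorem comm_of_sq {a b : G} (ha : a * a = 1) (hb : b * b = 1) (h : (a * b) ^ 2 = 1) :
    Commute a b := by
  have h1 : a * b * (a * b) = 1 := by rw [← pow_two]; exact h
  have ha' : a⁻¹ = a := (eq_inv_of_mul_eq_one_right ha).symm
  have hb' : b⁻¹ = b := (eq_inv_of_mul_eq_one_right hb).symm
  have h2 : a * b = (a * b)⁻¹ := eq_inv_of_mul_eq_one_right h1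
  rw [mul_inv_rev, ha', hb'] at h2
  exact h2

theorem braid_of_cube {a b : G} (ha : a * a = 1) (hb : b * b = 1) (h : (a * b) ^ 3 = 1) :
    a * b * a = b * a * b := by
  have ha' : a⁻¹ = a := (eq_inv_of_mul_eq_one_right ha).symm
  have hb' : b⁻¹ = b := (eq_inv_of_mul_eq_one_right hb).symm
  have h1 : a * b * a * (b * a * b) = 1 := by
    have : (a * b) ^ 3 = a * b * a * (b * a * b) := by
      simp only [pow_succ, pow_zero, one_mul, mul_assoc]
    rw [← this]; exact h
  have h2 : a * b * a = (b * a * b)⁻¹ := eq_inv_of_mul_eq_one_left h1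
  rw [mul_inv_rev, mul_inv_rev, ha', hb', ← mul_assoc] at h2
  exact h2

/-- conjugating `b` by `(p a b q)` gives `a`. -/
theorem conj_step {p a b q : G} (ha : a * a = 1) (hb : b * b = 1)
    (hab : a * b * a = b * a * b) (hp : Commute p b) (hq : Commute q a) :
    (p * a * b * q)⁻¹ * b * (p * a * b * q) = a := by
  have ha' : a⁻¹ = a := (eq_inv_of_mul_eq_one_right ha).symm
  have hb' : b⁻¹ = b := (eq_inv_of_mul_eq_one_right hb).symm
  have e1 : p⁻¹ * b * p = b := by
    rw [mul_assoc, ← hp.eq, ← mul_assoc, inv_mul_cancel, one_mul]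
  have e2 : b * a * b * a * b = a := by
    have : b * a * b * a * b = b * (a * b * a) * b := by simp only [mul_assoc]
    rw [this, hab]
    have : b * (b * a * b) * b = (b * b) * a * (b * b) := by simp only [mul_assoc]
    rw [this, hb, one_mul, mul_one]
  have e3 : q⁻¹ * a * q = a := by
    rw [mul_assoc, ← hq.eq, ← mul_assoc, inv_mul_cancel, one_mul]
  calc (p * a * b * q)⁻¹ * b * (p * a * b * q)
      = q⁻¹ * (b⁻¹ * (a⁻¹ * (p⁻¹ * b * p) * a) * b) * q := by
        simp only [mul_inv_rev, mul_assoc]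
    _ = q⁻¹ * (b * a * b * a * b) * q := by rw [e1, ha', hb']; simp only [mul_assoc]
    _ = a := by rw [e2, e3]

/-- conjugating `b` by `(p b a q)` the other way gives `a`. -/
theorem conj_step' {p a b q : G} (ha : a * a = 1) (hb : b * b = 1)
    (hab : a * b * a = b * a * b) (hp : Commute p a) (hq : Commute q b) :
    (p * b * a * q) * b * (p * b * a * q)⁻¹ = a := by
  have ha' : a⁻¹ = a := (eq_inv_of_mul_eq_one_right ha).symm
  have hb' : b⁻¹ = b := (eq_inv_of_mul_eq_one_right hb).symm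
  have e1 : q * b * q⁻¹ = b := by
    rw [hq.eq, mul_assoc, mul_inv_cancel, mul_one]
  have e2 : b * a * b * a * b = a := by
    have : b * a * b * a * b = b * (a * b * a) * b := by simp only [mul_assoc]
    rw [this, hab]
    have : b * (b * a * b) * b = (b * b) * a * (b * b) := by simp only [mul_assoc]
    rw [this, hb, one_mul, mul_one]
  have e3 : p * a * p⁻¹ = a := by
    rw [hp.eq, mul_assoc, mul_inv_cancel, mul_one]
  calc (p * b * a * q) * b * (p * b * a * q)⁻¹
      = p * (b * (a * (q * b * q⁻¹) * a⁻¹) * b⁻¹) * p⁻¹ := by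
        simp only [mul_inv_rev, mul_assoc]
    _ = p * (b * a * b * a * b) * p⁻¹ := by rw [e1, ha', hb']; simp only [mul_assoc]
    _ = a := by rw [e2, e3]

/-- The ending for type E: from `s3` and `s0 s1 s2` get `s0, s1, s2`. -/
theorem e_ending (H : Subgroup G) {s0 s1 s2 s3 : G}
    (h0 : s0 * s0 = 1) (h1 : s1 * s1 = 1) (h2 : s2 * s2 = 1) (h3 : s3 * s3 = 1)
    (c01 : Commute s0 s1) (c12 : Commute s1 s2) (c03 : Commute s0 s3)
    (b02 : s0 * s2 * s0 = s2 * s0 * s2) (b23 : s2 * s3 * s2 = s3 * s2 * s3)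
    (m3 : s3 ∈ H) (mu : s0 * s1 * s2 ∈ H) : s0 ∈ H ∧ s1 ∈ H ∧ s2 ∈ H := by
  have h0' : s0⁻¹ = s0 := (eq_inv_of_mul_eq_one_right h0).symm
  have h2' : s2⁻¹ = s2 := (eq_inv_of_mul_eq_one_right h2).symm
  have hv3 : (s0 * s2) * (s0 * s2) * (s0 * s2) = 1 := by
    have : (s0 * s2) * (s0 * s2) * (s0 * s2) = (s0 * s2 * s0) * s2 * s0 * s2 := by
      simp only [mul_assoc]
    rw [this, b02]
    have : s2 * s0 * s2 * s2 * s0 * s2 = s2 * (s0 * (s2 * s2) * s0) * s2 := by
      simp only [mul_assoc]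
    rw [this, h2, mul_one, h0, mul_one, h2]
  have hu : s0 * s1 * s2 = s1 * (s0 * s2) := by
    rw [c01.eq, mul_assoc]
  have c1v : Commute s1 (s0 * s2) := (c01.symm).mul_right c12
  have hu3 : (s0 * s1 * s2) ^ 3 = s1 := by
    rw [hu, c1v.mul_pow]
    have e1 : s1 ^ 3 = s1 := by
      rw [pow_succ, pow_two, h1, one_mul]
    have e2 : (s0 * s2) ^ 3 = 1 := by
      rw [pow_succ, pow_two]; exact hv3
    rw [e1, e2, mul_one]
  have m1 : s1 ∈ H := by
    rw [← hu3]; exact H.pow_mem mu 3
  have mv : s0 * s2 ∈ H := by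
    have : s0 * s2 = s1⁻¹ * (s0 * s1 * s2) := by
      rw [hu, ← mul_assoc, inv_mul_cancel, one_mul]
    rw [this]; exact H.mul_mem (H.inv_mem m1) mu
  have e2 : s3 * ((s0 * s2)⁻¹ * s3 * (s0 * s2)) * s3 = s2 := by
    have : (s0 * s2)⁻¹ * s3 * (s0 * s2) = s2 * s3 * s2 := by
      rw [mul_inv_rev, h0', h2']
      have : s2 * s0 * s3 * (s0 * s2) = s2 * (s0 * s3 * s0) * s2 := by simp only [mul_assoc]
      rw [this, c03.eq, mul_assoc s3, h0, mul_one]
    rw [this, b23]
    have : s3 * (s3 * s2 * s3) * s3 = (s3 * s3) * s2 * (s3 * s3) := by simp only [mul_assoc]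
    rw [this, h3, one_mul, mul_one]
  have m2 : s2 ∈ H := by
    rw [← e2]
    exact H.mul_mem (H.mul_mem m3 (H.mul_mem (H.mul_mem (H.inv_mem mv) m3) mv)) m3
  have m0 : s0 ∈ H := by
    have : s0 = (s0 * s2) * s2⁻¹ := by rw [mul_assoc, mul_inv_cancel, mul_one]
    rw [this]; exact H.mul_mem mv (H.inv_mem m2)
  exact ⟨m0, m1, m2⟩

end grp

section cox
variable {n : ℕ} (M : CoxeterMatrix (Fin n))

theorem s_sq (i : Fin n) : M.simple i * M.simple i = 1 :=
  M.toCoxeterSystem.simple_mul_simple_self i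

theorem s_comm (i j : Fin n) (h : M i j = 2) : Commute (M.simple i) (M.simple j) := by
  have := M.toCoxeterSystem.simple_mul_simple_pow i j
  rw [h] at this
  exact comm_of_sq (s_sq M i) (s_sq M j) this

theorem s_braid (i j : Fin n) (h : M i j = 3) :
    M.simple i * M.simple j * M.simple i = M.simple j * M.simple i * M.simple j := by
  have := M.toCoxeterSystem.simple_mul_simple_pow i j
  rw [h] at this
  exact braid_of_cube (s_sq M i) (s_sq M j) this

theorem closure_top_of (H : Subgroup M.Group) (h : ∀ i, M.simple i ∈ H) : H = ⊤ := by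
  rw [eq_top_iff, ← M.toCoxeterSystem.subgroup_closure_range_simple, Subgroup.closure_le]
  rintro _ ⟨i, rfl⟩
  exact h i

end cox

theorem gen_E8 : ∃ T : Finset CoxeterMatrix.E₈.Group, T.card = 1 ∧
    (∀ t ∈ T, ∃ (g : CoxeterMatrix.E₈.Group) (i : Fin 8), t = g * CoxeterMatrix.E₈.simple i * g⁻¹) ∧
    Subgroup.closure (({((List.finRange 8).map CoxeterMatrix.E₈.simple).prod} :
      Set CoxeterMatrix.E₈.Group) ∪ ↑T) = ⊤ := by
  refine ⟨{CoxeterMatrix.E₈.simple 7}, Finset.card_singleton _, ?_, ?_⟩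
  · intro t ht
    rw [Finset.mem_singleton] at ht
    exact ⟨1, 7, by rw [ht]; simp⟩
  · apply closure_top_of
    have hc : ((List.finRange 8).map CoxeterMatrix.E₈.simple).prod =
        CoxeterMatrix.E₈.simple 0 * CoxeterMatrix.E₈.simple 1 * CoxeterMatrix.E₈.simple 2 * CoxeterMatrix.E₈.simple 3 * CoxeterMatrix.E₈.simple 4 * CoxeterMatrix.E₈.simple 5 * CoxeterMatrix.E₈.simple 6 * CoxeterMatrix.E₈.simple 7 := by
      have : List.finRange 8 = [0,1,2,3,4,5,6,7] := by rfl
      rw [this]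
      simp only [List.map_cons, List.map_nil, List.prod_cons, List.prod_nil, mul_one, mul_assoc]
    rw [hc]
    generalize hH : Subgroup.closure (({CoxeterMatrix.E₈.simple 0 * CoxeterMatrix.E₈.simple 1 * CoxeterMatrix.E₈.simple 2 * CoxeterMatrix.E₈.simple 3 * CoxeterMatrix.E₈.simple 4 * CoxeterMatrix.E₈.simple 5 * CoxeterMatrix.E₈.simple 6 * CoxeterMatrix.E₈.simple 7} : Set CoxeterMatrix.E₈.Group) ∪
        ↑({CoxeterMatrix.E₈.simple 7} : Finset CoxeterMatrix.E₈.Group)) = H
    have sq := s_sq CoxeterMatrix.E₈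
    have cm : ∀ i j : Fin 8, CoxeterMatrix.E₈ i j = 2 →
        Commute (CoxeterMatrix.E₈.simple i) (CoxeterMatrix.E₈.simple j) := s_comm CoxeterMatrix.E₈
    have br := s_braid CoxeterMatrix.E₈
    have mc : CoxeterMatrix.E₈.simple 0 * CoxeterMatrix.E₈.simple 1 * CoxeterMatrix.E₈.simple 2 * CoxeterMatrix.E₈.simple 3 * CoxeterMatrix.E₈.simple 4 * CoxeterMatrix.E₈.simple 5 * CoxeterMatrix.E₈.simple 6 * CoxeterMatrix.E₈.simple 7 ∈ H := by
      rw [← hH]; exact Subgroup.subset_closure (Or.inl rfl)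
    have m7 : CoxeterMatrix.E₈.simple 7 ∈ H := by
      rw [← hH]; exact Subgroup.subset_closure (Or.inr (by simp))
    generalize CoxeterMatrix.E₈.simple = s at *
    have m6 : s 6 ∈ H := by
      have := conj_step (p := s 0 * s 1 * s 2 * s 3 * s 4 * s 5) (a := s 6) (b := s 7) (q := 1)
        (sq 6) (sq 7) (br 6 7 (by decide))
        ((((((cm 0 7 (by decide)).mul_left (cm 1 7 (by decide))).mul_left (cm 2 7 (by decide))).mul_left (cm 3 7 (by decide))).mul_left (cm 4 7 (by decide))).mul_left (cm 5 7 (by decide)))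
        (Commute.one_left _)
      rw [mul_one] at this
      rw [← this]
      exact H.mul_mem (H.mul_mem (H.inv_mem mc) m7) mc
    have m5 : s 5 ∈ H := by
      have := conj_step (p := s 0 * s 1 * s 2 * s 3 * s 4) (a := s 5) (b := s 6) (q := s 7)
        (sq 5) (sq 6) (br 5 6 (by decide))
        (((((cm 0 6 (by decide)).mul_left (cm 1 6 (by decide))).mul_left (cm 2 6 (by decide))).mul_left (cm 3 6 (by decide))).mul_left (cm 4 6 (by decide)))
        (cm 7 5 (by decide))
      rw [← this]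
      exact H.mul_mem (H.mul_mem (H.inv_mem mc) m6) mc
    have m4 : s 4 ∈ H := by
      have := conj_step (p := s 0 * s 1 * s 2 * s 3) (a := s 4) (b := s 5) (q := s 6 * s 7)
        (sq 4) (sq 5) (br 4 5 (by decide))
        ((((cm 0 5 (by decide)).mul_left (cm 1 5 (by decide))).mul_left (cm 2 5 (by decide))).mul_left (cm 3 5 (by decide)))
        ((cm 6 4 (by decide)).mul_left (cm 7 4 (by decide)))
      have e : s 0 * s 1 * s 2 * s 3 * s 4 * s 5 * (s 6 * s 7) =
          s 0 * s 1 * s 2 * s 3 * s 4 * s 5 * s 6 * s 7 := by simp only [mul_assoc]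
      rw [e] at this
      rw [← this]
      exact H.mul_mem (H.mul_mem (H.inv_mem mc) m5) mc
    have m3 : s 3 ∈ H := by
      have := conj_step (p := s 0 * s 1 * s 2) (a := s 3) (b := s 4) (q := s 5 * s 6 * s 7)
        (sq 3) (sq 4) (br 3 4 (by decide))
        (((cm 0 4 (by decide)).mul_left (cm 1 4 (by decide))).mul_left (cm 2 4 (by decide)))
        (((cm 5 3 (by decide)).mul_left (cm 6 3 (by decide))).mul_left (cm 7 3 (by decide)))
      have e : s 0 * s 1 * s 2 * s 3 * s 4 * (s 5 * s 6 * s 7) =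
          s 0 * s 1 * s 2 * s 3 * s 4 * s 5 * s 6 * s 7 := by simp only [mul_assoc]
      rw [e] at this
      rw [← this]
      exact H.mul_mem (H.mul_mem (H.inv_mem mc) m4) mc
    have mu : s 0 * s 1 * s 2 ∈ H := by
      have e : s 0 * s 1 * s 2 = s 0 * s 1 * s 2 * s 3 * s 4 * s 5 * s 6 * s 7 *
          (s 3 * s 4 * s 5 * s 6 * s 7)⁻¹ := by
        simp only [mul_inv_rev, mul_assoc, mul_inv_cancel_left, mul_inv_cancel, mul_one]
      rw [e]
      exact H.mul_mem mc (H.inv_mem
        (H.mul_mem (H.mul_mem (H.mul_mem (H.mul_mem m3 m4) m5) m6) m7))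
    obtain ⟨m0, m1, m2⟩ := e_ending H (sq 0) (sq 1) (sq 2) (sq 3) (cm 0 1 (by decide))
      (cm 1 2 (by decide)) (cm 0 3 (by decide)) (br 0 2 (by decide)) (br 2 3 (by decide)) m3 mu
    intro i
    fin_cases i <;> assumption

theorem gen_E7 : ∃ T : Finset CoxeterMatrix.E₇.Group, T.card = 1 ∧
    (∀ t ∈ T, ∃ (g : CoxeterMatrix.E₇.Group) (i : Fin 7), t = g * CoxeterMatrix.E₇.simple i * g⁻¹) ∧
    Subgroup.closure (({((List.finRange 7).map CoxeterMatrix.E₇.simple).prod} :
      Set CoxeterMatrix.E₇.Group) ∪ ↑T) = ⊤ := by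
  refine ⟨{CoxeterMatrix.E₇.simple 6}, Finset.card_singleton _, ?_, ?_⟩
  · intro t ht
    rw [Finset.mem_singleton] at ht
    exact ⟨1, 6, by rw [ht]; simp⟩
  · apply closure_top_of
    have hc : ((List.finRange 7).map CoxeterMatrix.E₇.simple).prod =
        CoxeterMatrix.E₇.simple 0 * CoxeterMatrix.E₇.simple 1 * CoxeterMatrix.E₇.simple 2 * CoxeterMatrix.E₇.simple 3 * CoxeterMatrix.E₇.simple 4 * CoxeterMatrix.E₇.simple 5 * CoxeterMatrix.E₇.simple 6 := by
      have : List.finRange 7 = [0,1,2,3,4,5,6] := by rfl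
      rw [this]
      simp only [List.map_cons, List.map_nil, List.prod_cons, List.prod_nil, mul_one, mul_assoc]
    rw [hc]
    generalize hH : Subgroup.closure (({CoxeterMatrix.E₇.simple 0 * CoxeterMatrix.E₇.simple 1 * CoxeterMatrix.E₇.simple 2 * CoxeterMatrix.E₇.simple 3 * CoxeterMatrix.E₇.simple 4 * CoxeterMatrix.E₇.simple 5 * CoxeterMatrix.E₇.simple 6} : Set CoxeterMatrix.E₇.Group) ∪
        ↑({CoxeterMatrix.E₇.simple 6} : Finset CoxeterMatrix.E₇.Group)) = H
    have sq := s_sq CoxeterMatrix.E₇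
    have cm : ∀ i j : Fin 7, CoxeterMatrix.E₇ i j = 2 →
        Commute (CoxeterMatrix.E₇.simple i) (CoxeterMatrix.E₇.simple j) := s_comm CoxeterMatrix.E₇
    have br := s_braid CoxeterMatrix.E₇
    have mc : CoxeterMatrix.E₇.simple 0 * CoxeterMatrix.E₇.simple 1 * CoxeterMatrix.E₇.simple 2 * CoxeterMatrix.E₇.simple 3 * CoxeterMatrix.E₇.simple 4 * CoxeterMatrix.E₇.simple 5 * CoxeterMatrix.E₇.simple 6 ∈ H := by
      rw [← hH]; exact Subgroup.subset_closure (Or.inl rfl)
    have m6 : CoxeterMatrix.E₇.simple 6 ∈ H := by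
      rw [← hH]; exact Subgroup.subset_closure (Or.inr (by simp))
    generalize CoxeterMatrix.E₇.simple = s at *
    have m5 : s 5 ∈ H := by
      have := conj_step (p := s 0 * s 1 * s 2 * s 3 * s 4) (a := s 5) (b := s 6) (q := 1)
        (sq 5) (sq 6) (br 5 6 (by decide))
        (((((cm 0 6 (by decide)).mul_left (cm 1 6 (by decide))).mul_left (cm 2 6 (by decide))).mul_left (cm 3 6 (by decide))).mul_left (cm 4 6 (by decide)))
        (Commute.one_left _)
      rw [mul_one] at this
      rw [← this]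
      exact H.mul_mem (H.mul_mem (H.inv_mem mc) m6) mc
    have m4 : s 4 ∈ H := by
      have := conj_step (p := s 0 * s 1 * s 2 * s 3) (a := s 4) (b := s 5) (q := s 6)
        (sq 4) (sq 5) (br 4 5 (by decide))
        ((((cm 0 5 (by decide)).mul_left (cm 1 5 (by decide))).mul_left (cm 2 5 (by decide))).mul_left (cm 3 5 (by decide)))
        (cm 6 4 (by decide))
      rw [← this]
      exact H.mul_mem (H.mul_mem (H.inv_mem mc) m5) mc
    have m3 : s 3 ∈ H := by
      have := conj_step (p := s 0 * s 1 * s 2) (a := s 3) (b := s 4) (q := s 5 * s 6)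
        (sq 3) (sq 4) (br 3 4 (by decide))
        (((cm 0 4 (by decide)).mul_left (cm 1 4 (by decide))).mul_left (cm 2 4 (by decide)))
        ((cm 5 3 (by decide)).mul_left (cm 6 3 (by decide)))
      have e : s 0 * s 1 * s 2 * s 3 * s 4 * (s 5 * s 6) =
          s 0 * s 1 * s 2 * s 3 * s 4 * s 5 * s 6 := by simp only [mul_assoc]
      rw [e] at this
      rw [← this]
      exact H.mul_mem (H.mul_mem (H.inv_mem mc) m4) mc
    have mu : s 0 * s 1 * s 2 ∈ H := by
      have e : s 0 * s 1 * s 2 = s 0 * s 1 * s 2 * s 3 * s 4 * s 5 * s 6 *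
          (s 3 * s 4 * s 5 * s 6)⁻¹ := by
        simp only [mul_inv_rev, mul_assoc, mul_inv_cancel_left, mul_inv_cancel, mul_one]
      rw [e]
      exact H.mul_mem mc (H.inv_mem
        (H.mul_mem (H.mul_mem (H.mul_mem m3 m4) m5) m6))
    obtain ⟨m0, m1, m2⟩ := e_ending H (sq 0) (sq 1) (sq 2) (sq 3) (cm 0 1 (by decide))
      (cm 1 2 (by decide)) (cm 0 3 (by decide)) (br 0 2 (by decide)) (br 2 3 (by decide)) m3 mu
    intro i
    fin_cases i <;> assumption

theorem gen_E6 : ∃ T : Finset CoxeterMatrix.E₆.Group, T.card = 1 ∧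
    (∀ t ∈ T, ∃ (g : CoxeterMatrix.E₆.Group) (i : Fin 6), t = g * CoxeterMatrix.E₆.simple i * g⁻¹) ∧
    Subgroup.closure (({((List.finRange 6).map CoxeterMatrix.E₆.simple).prod} :
      Set CoxeterMatrix.E₆.Group) ∪ ↑T) = ⊤ := by
  refine ⟨{CoxeterMatrix.E₆.simple 5}, Finset.card_singleton _, ?_, ?_⟩
  · intro t ht
    rw [Finset.mem_singleton] at ht
    exact ⟨1, 5, by rw [ht]; simp⟩
  · apply closure_top_of
    have hc : ((List.finRange 6).map CoxeterMatrix.E₆.simple).prod =
        CoxeterMatrix.E₆.simple 0 * CoxeterMatrix.E₆.simple 1 * CoxeterMatrix.E₆.simple 2 * CoxeterMatrix.E₆.simple 3 * CoxeterMatrix.E₆.simple 4 * CoxeterMatrix.E₆.simple 5 := by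
      have : List.finRange 6 = [0,1,2,3,4,5] := by rfl
      rw [this]
      simp only [List.map_cons, List.map_nil, List.prod_cons, List.prod_nil, mul_one, mul_assoc]
    rw [hc]
    generalize hH : Subgroup.closure (({CoxeterMatrix.E₆.simple 0 * CoxeterMatrix.E₆.simple 1 * CoxeterMatrix.E₆.simple 2 * CoxeterMatrix.E₆.simple 3 * CoxeterMatrix.E₆.simple 4 * CoxeterMatrix.E₆.simple 5} : Set CoxeterMatrix.E₆.Group) ∪
        ↑({CoxeterMatrix.E₆.simple 5} : Finset CoxeterMatrix.E₆.Group)) = H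
    have sq := s_sq CoxeterMatrix.E₆
    have cm : ∀ i j : Fin 6, CoxeterMatrix.E₆ i j = 2 →
        Commute (CoxeterMatrix.E₆.simple i) (CoxeterMatrix.E₆.simple j) := s_comm CoxeterMatrix.E₆
    have br := s_braid CoxeterMatrix.E₆
    have mc : CoxeterMatrix.E₆.simple 0 * CoxeterMatrix.E₆.simple 1 * CoxeterMatrix.E₆.simple 2 * CoxeterMatrix.E₆.simple 3 * CoxeterMatrix.E₆.simple 4 * CoxeterMatrix.E₆.simple 5 ∈ H := by
      rw [← hH]; exact Subgroup.subset_closure (Or.inl rfl)
    have m5 : CoxeterMatrix.E₆.simple 5 ∈ H := by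
      rw [← hH]; exact Subgroup.subset_closure (Or.inr (by simp))
    generalize CoxeterMatrix.E₆.simple = s at *
    have m4 : s 4 ∈ H := by
      have := conj_step (p := s 0 * s 1 * s 2 * s 3) (a := s 4) (b := s 5) (q := 1)
        (sq 4) (sq 5) (br 4 5 (by decide))
        ((((cm 0 5 (by decide)).mul_left (cm 1 5 (by decide))).mul_left (cm 2 5 (by decide))).mul_left (cm 3 5 (by decide)))
        (Commute.one_left _)
      rw [mul_one] at this
      rw [← this]
      exact H.mul_mem (H.mul_mem (H.inv_mem mc) m5) mc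
    have m3 : s 3 ∈ H := by
      have := conj_step (p := s 0 * s 1 * s 2) (a := s 3) (b := s 4) (q := s 5)
        (sq 3) (sq 4) (br 3 4 (by decide))
        (((cm 0 4 (by decide)).mul_left (cm 1 4 (by decide))).mul_left (cm 2 4 (by decide)))
        (cm 5 3 (by decide))
      rw [← this]
      exact H.mul_mem (H.mul_mem (H.inv_mem mc) m4) mc
    have mu : s 0 * s 1 * s 2 ∈ H := by
      have e : s 0 * s 1 * s 2 = s 0 * s 1 * s 2 * s 3 * s 4 * s 5 *
          (s 3 * s 4 * s 5)⁻¹ := by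
        simp only [mul_inv_rev, mul_assoc, mul_inv_cancel_left, mul_inv_cancel, mul_one]
      rw [e]
      exact H.mul_mem mc (H.inv_mem
        (H.mul_mem (H.mul_mem m3 m4) m5))
    obtain ⟨m0, m1, m2⟩ := e_ending H (sq 0) (sq 1) (sq 2) (sq 3) (cm 0 1 (by decide))
      (cm 1 2 (by decide)) (cm 0 3 (by decide)) (br 0 2 (by decide)) (br 2 3 (by decide)) m3 mu
    intro i
    fin_cases i <;> assumption

theorem gen_rank2 (M : CoxeterMatrix (Fin 2)) : ∃ T : Finset M.Group, T.card = 1 ∧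
    (∀ t ∈ T, ∃ (g : M.Group) (i : Fin 2), t = g * M.simple i * g⁻¹) ∧
    Subgroup.closure (({((List.finRange 2).map M.simple).prod} : Set M.Group) ∪ ↑T) = ⊤ := by
  refine ⟨{M.simple 0}, Finset.card_singleton _, ?_, ?_⟩
  · intro t ht
    rw [Finset.mem_singleton] at ht
    exact ⟨1, 0, by rw [ht]; simp⟩
  · apply closure_top_of
    have hc : ((List.finRange 2).map M.simple).prod = M.simple 0 * M.simple 1 := by
      have : List.finRange 2 = [0, 1] := by rfl
      rw [this]
      simp only [List.map_cons, List.map_nil, List.prod_cons, List.prod_nil, mul_one]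
    rw [hc]
    generalize hH : Subgroup.closure (({M.simple 0 * M.simple 1} : Set M.Group) ∪
        ↑({M.simple 0} : Finset M.Group)) = H
    have mc : M.simple 0 * M.simple 1 ∈ H := by
      rw [← hH]; exact Subgroup.subset_closure (Or.inl rfl)
    have m0 : M.simple 0 ∈ H := by
      rw [← hH]; exact Subgroup.subset_closure (Or.inr (by simp))
    have m1 : M.simple 1 ∈ H := by
      have : M.simple 1 = (M.simple 0)⁻¹ * (M.simple 0 * M.simple 1) := by
        rw [inv_mul_cancel_left]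
      rw [this]; exact H.mul_mem (H.inv_mem m0) mc
    intro i
    fin_cases i <;> assumption

/-- generic rank four argument with `T = {s a, s b}`: here `0 - 1` is a simple bond, `0` commutes
with `2` and `3`. -/
theorem gen_rank4 (M : CoxeterMatrix (Fin 4)) (h01 : M 1 0 = 3) (h20 : M 2 0 = 2) (h30 : M 3 0 = 2)
    (k : Fin 4) (hk : k = 2 ∨ k = 3) (hne : M.simple 0 ≠ M.simple k) :
    ∃ T : Finset M.Group, T.card = 2 ∧
    (∀ t ∈ T, ∃ (g : M.Group) (i : Fin 4), t = g * M.simple i * g⁻¹) ∧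
    Subgroup.closure (({((List.finRange 4).map M.simple).prod} : Set M.Group) ∪ ↑T) = ⊤ := by
  classical
  refine ⟨{M.simple 0, M.simple k}, Finset.card_pair hne, ?_, ?_⟩
  · intro t ht
    rw [Finset.mem_insert, Finset.mem_singleton] at ht
    rcases ht with ht | ht
    · exact ⟨1, 0, by rw [ht]; simp⟩
    · exact ⟨1, k, by rw [ht]; simp⟩
  · apply closure_top_of
    have hc : ((List.finRange 4).map M.simple).prod =
        M.simple 0 * M.simple 1 * M.simple 2 * M.simple 3 := by
      have : List.finRange 4 = [0, 1, 2, 3] := by rfl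
      rw [this]
      simp only [List.map_cons, List.map_nil, List.prod_cons, List.prod_nil, mul_one, mul_assoc]
    rw [hc]
    generalize hH : Subgroup.closure (({M.simple 0 * M.simple 1 * M.simple 2 * M.simple 3} :
        Set M.Group) ∪ ↑({M.simple 0, M.simple k} : Finset M.Group)) = H
    have mc : M.simple 0 * M.simple 1 * M.simple 2 * M.simple 3 ∈ H := by
      rw [← hH]; exact Subgroup.subset_closure (Or.inl rfl)
    have m0 : M.simple 0 ∈ H := by
      rw [← hH]; exact Subgroup.subset_closure (Or.inr (by simp))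
    have mk : M.simple k ∈ H := by
      rw [← hH]; exact Subgroup.subset_closure (Or.inr (by simp))
    have sq := s_sq M
    have cm := s_comm M
    have br := s_braid M
    have m1 : M.simple 1 ∈ H := by
      have := conj_step' (p := 1) (a := M.simple 1) (b := M.simple 0)
        (q := M.simple 2 * M.simple 3) (sq 1) (sq 0) (br 1 0 h01) (Commute.one_left _)
        ((cm 2 0 h20).mul_left (cm 3 0 h30))
      have e : 1 * M.simple 0 * M.simple 1 * (M.simple 2 * M.simple 3) =
          M.simple 0 * M.simple 1 * M.simple 2 * M.simple 3 := by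
        simp only [one_mul, mul_assoc]
      rw [e] at this
      rw [← this]
      exact H.mul_mem (H.mul_mem mc m0) (H.inv_mem mc)
    have m23 : M.simple 2 * M.simple 3 ∈ H := by
      have e : M.simple 2 * M.simple 3 = (M.simple 0 * M.simple 1)⁻¹ *
          (M.simple 0 * M.simple 1 * M.simple 2 * M.simple 3) := by
        have : M.simple 0 * M.simple 1 * M.simple 2 * M.simple 3 =
            (M.simple 0 * M.simple 1) * (M.simple 2 * M.simple 3) := by simp only [mul_assoc]
        rw [this, inv_mul_cancel_left]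
      rw [e]
      exact H.mul_mem (H.inv_mem (H.mul_mem m0 m1)) mc
    have m2 : M.simple 2 ∈ H := by
      rcases hk with rfl | rfl
      · exact mk
      · have e : M.simple 2 = M.simple 2 * M.simple 3 * (M.simple 3)⁻¹ := by
          rw [mul_inv_cancel_right]
        rw [e]; exact H.mul_mem m23 (H.inv_mem mk)
    have m3 : M.simple 3 ∈ H := by
      have e : M.simple 3 = (M.simple 2)⁻¹ * (M.simple 2 * M.simple 3) := by
        rw [inv_mul_cancel_left]
      rw [e]; exact H.mul_mem (H.inv_mem m2) m23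
    intro i
    fin_cases i <;> assumption

theorem ne_F4 : CoxeterMatrix.F₄.simple 0 ≠ CoxeterMatrix.F₄.simple 3 := by
  intro h
  let f : Fin 4 → Multiplicative (ZMod 2) :=
    fun i => if i.val < 2 then 1 else Multiplicative.ofAdd 1
  have hf : CoxeterMatrix.F₄.IsLiftable f := by
    unfold CoxeterMatrix.IsLiftable
    decide
  have h0 := CoxeterMatrix.F₄.toCoxeterSystem.lift_apply_simple hf 0
  have h3 := CoxeterMatrix.F₄.toCoxeterSystem.lift_apply_simple hf 3
  rw [CoxeterMatrix.toCoxeterSystem_simple] at h0 h3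
  rw [h, h3] at h0
  revert h0
  decide

theorem ne_D4 : Cfsg.Lie.coxeterD4.simple 0 ≠ Cfsg.Lie.coxeterD4.simple 2 := by
  intro h
  let f : Fin 4 → Equiv.Perm (Fin 4) :=
    ![Equiv.swap 0 1, Equiv.swap 1 2, Equiv.swap 2 3, Equiv.swap 2 3]
  have hf : Cfsg.Lie.coxeterD4.IsLiftable f := by
    unfold CoxeterMatrix.IsLiftable
    decide
  have h0 := Cfsg.Lie.coxeterD4.toCoxeterSystem.lift_apply_simple hf 0
  have h2 := Cfsg.Lie.coxeterD4.toCoxeterSystem.lift_apply_simple hf 2
  rw [CoxeterMatrix.toCoxeterSystem_simple] at h0 h2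
  rw [h, h2] at h0
  revert h0
  decide

/-- The Coxeter groups of types B₂, G₂, E₆, E₇, E₈ are generated by the Coxeter element `s₁ s₂ ⋯ s_l` together with one suitable reflection (a conjugate of a simple reflection); for types D₄ and F₄ the Coxeter element together with two suitable reflections suffices. -/
theorem result (c : (Σ n : ℕ, CoxeterMatrix (Fin n)) × ℕ)
    (hc : c ∈ [(⟨2, CoxeterMatrix.B 2⟩, 1), (⟨2, CoxeterMatrix.G₂⟩, 1), (⟨4, Cfsg.Lie.coxeterD4⟩, 2), (⟨4, CoxeterMatrix.F₄⟩, 2),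
      (⟨6, CoxeterMatrix.E₆⟩, 1), (⟨7, CoxeterMatrix.E₇⟩, 1), (⟨8, CoxeterMatrix.E₈⟩, 1)]) :
    ∃ T : Finset c.1.2.Group, T.card = c.2 ∧ (∀ t ∈ T, ∃ (g : c.1.2.Group) (i : Fin c.1.1), t = g * c.1.2.simple i * g⁻¹) ∧
      Subgroup.closure (({((List.finRange c.1.1).map c.1.2.simple).prod} : Set c.1.2.Group) ∪ ↑T) = ⊤ := by
  simp only [List.mem_cons, List.not_mem_nil, or_false] at hc
  rcases hc with rfl | rfl | rfl | rfl | rfl | rfl | rfl
  · exact gen_rank2 _
  · exact gen_rank2 _
  · exact gen_rank4 _ (by decide) (by decide) (by decide) 2 (Or.inl rfl) ne_D4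
  · exact gen_rank4 _ (by decide) (by decide) (by decide) 3 (Or.inr rfl) ne_F4
  · exact gen_E6
  · exact gen_E7
  · exact gen_E8

end Cfsg.Agent.S2419
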