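import Cfsg.Statements.S2425
import Cfsg.Agent.Lib.Helper42.FlE
import Cfsg.Agent.Lib.Helper42.FlG
import Cfsg.Agent.Lib.Helper42.FlH

set_option autoImplicit false
open scoped MatrixGroups
open Cfsg

namespace Cfsg.Agent.S2425

open Cfsg.Agent.Lib.Helper42.Fl Polynomial Module

/-- semisimplicity of an element of order prime to the characteristic. -/
theorem semisimple_of_coprime {F : Type*} [Field F] (p : ℕ) [Fact p.Prime] [CharP F p]
    {n : ℕ} (x : GL (Fin n) F) (hx : (orderOf x).Coprime p) :
    Module.End.IsSemisimple (Matrix.toLin' (x : Matrix (Fin n) (Fin n) F)) := by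
  set N := orderOf x with hN
  have hN0 : ((N : ℕ) : F) ≠ 0 := by
    intro h0
    have hdvd : p ∣ N := (CharP.cast_eq_zero_iff F p N).mp h0
    have hp := (Fact.out : p.Prime)
    have h1 : p ∣ Nat.gcd N p := Nat.dvd_gcd hdvd dvd_rfl
    rw [Nat.Coprime] at hx
    rw [hx] at h1
    exact hp.one_lt.ne' (Nat.dvd_one.mp h1)
  have hsep : (X ^ N - C (1 : F)).Separable := Polynomial.separable_X_pow_sub_C (1 : F) hN0 one_ne_zero
  apply Module.End.isSemisimple_of_squarefree_aeval_eq_zero hsep.squarefree
  have hpow : (x : Matrix (Fin n) (Fin n) F) ^ N = 1 := by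
    have h1 : x ^ N = 1 := pow_orderOf_eq_one x
    have := congrArg (fun y : GL (Fin n) F => (y : Matrix (Fin n) (Fin n) F)) h1
    simpa using this
  have hlin : (Matrix.toLin' (x : Matrix (Fin n) (Fin n) F)) ^ N = 1 := by
    have h2 : Matrix.toLin' ((x : Matrix (Fin n) (Fin n) F) ^ N) =
        (Matrix.toLin' (x : Matrix (Fin n) (Fin n) F)) ^ N := by
      have := map_pow (Matrix.toLinAlgEquiv' (R := F) (n := Fin n)) (x : Matrix (Fin n) (Fin n) F) N
      simpa using this
    rw [← h2, hpow]
    simp
    rfl
  simp [hlin]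

/-- the arithmetic identity between the Möbius value and the product in the statement. -/
theorem arith {F : Type*} [Field F] [DecidableEq F] (q : ℕ) (P : F[X]) (hP : P.Monic) :
    ((-1 : ℂ) ^ P.natDegree) *
        ((Phi q (UniqueFactorizationMonoid.normalizedFactors P) : ℤ) : ℂ) =
      ∏ f ∈ (UniqueFactorizationMonoid.normalizedFactors P).toFinset,
        (-1 : ℂ) ^ ((f.natDegree - 1) * (UniqueFactorizationMonoid.normalizedFactors P).count f) *
          (q : ℂ) ^ (f.natDegree * (UniqueFactorizationMonoid.normalizedFactors P).count f *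
            ((UniqueFactorizationMonoid.normalizedFactors P).count f - 1) / 2) := by
  set M := UniqueFactorizationMonoid.normalizedFactors P with hM
  have hP0 : P ≠ 0 := hP.ne_zero
  have hprod : M.prod = P := by
    have h1 := UniqueFactorizationMonoid.prod_normalizedFactors_eq (a := P) hP0
    rw [hP.normalize_eq_self] at h1
    exact h1
  have hne : ∀ f ∈ M, f ≠ 0 := fun f hf =>
    (UniqueFactorizationMonoid.irreducible_of_normalized_factor f hf).ne_zero
  have hdeg : P.natDegree = ∑ f ∈ M.toFinset, M.count f * f.natDegree := by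
    rw [← hprod, Polynomial.natDegree_multiset_prod_of_monic]
    · rw [Finset.sum_multiset_map_count]
      simp
    · intro f hf
      have hirr := UniqueFactorizationMonoid.irreducible_of_normalized_factor f hf
      have hnorm := UniqueFactorizationMonoid.normalize_normalized_factor f hf
      exact (Polynomial.normalize_eq_self_iff_monic hirr.ne_zero).mp hnorm
  rw [hdeg, ← Finset.prod_pow_eq_pow_sum, Phi]
  push_cast
  rw [← Finset.prod_mul_distrib]
  apply Finset.prod_congr rfl
  intro f hf
  have hfM : f ∈ M := Multiset.mem_toFinset.mp hf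
  have hirr := UniqueFactorizationMonoid.irreducible_of_normalized_factor f hfM
  have hd1 : 1 ≤ f.natDegree := hirr.natDegree_pos
  generalize hc : M.count f = c
  generalize hd : f.natDegree = d at hd1 ⊢
  have he : Even (c * (c - 1)) := Nat.even_mul_pred_self c
  obtain ⟨t, ht⟩ := he
  have e1 : c * (c - 1) / 2 = t := by omega
  have e2 : d * c * (c - 1) / 2 = d * t := by
    rw [mul_assoc, ht]
    have : d * (t + t) = 2 * (d * t) := by ring
    rw [this, Nat.mul_div_cancel_left _ (by norm_num : 0 < 2)]
  rw [e1, e2, ← pow_mul]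
  have e3 : (-1 : ℂ) ^ (c * d) * (-1 : ℂ) ^ c = (-1 : ℂ) ^ ((d - 1) * c) := by
    obtain ⟨d', rfl⟩ : ∃ d', d = d' + 1 := ⟨d - 1, by omega⟩
    have : c * (d' + 1) + c = (d' + 1 - 1) * c + 2 * c := by
      simp only [Nat.add_sub_cancel]; ring
    rw [← pow_add, this, pow_add, pow_mul]
    simp
  rw [← e3]
  ring

open Classical in
/-- the Steinberg alternating sum as a signed count of invariant flags. -/
theorem steinberg_eq_flags {F : Type*} [Field F] [Fintype F] {n : ℕ} (x : GL (Fin n) F) :
    Cfsg.unipotentCharacterGL n F (fun _ => 1) x =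
      ∑ κ ∈ Finset.univ.filter (fun κ : Equiv.Perm (Fin n) => Valid κ),
        ((Equiv.Perm.sign κ : ℤ) : ℂ) *
          (NN (Matrix.toLin' (x : Matrix (Fin n) (Fin n) F)) (Dset (comp κ)) ⊤ : ℂ) := by
  unfold Cfsg.unipotentCharacterGL
  rw [Finset.sum_filter]
  apply Finset.sum_congr rfl
  intro κ _
  by_cases hv : Valid κ
  · have hv' : ∀ i : Fin n, (κ i).val ≤ 1 + i.val := hv
    rw [if_pos hv', if_pos hv]
    congr 1
    exact fixedPointCharacter_eq (comp κ) (sum_comp hv) x
  · have hv' : ¬ ∀ i : Fin n, (κ i).val ≤ 1 + i.val := hv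
    rw [if_neg hv', if_neg hv]

/-- the Steinberg character value as a Möbius value. -/
theorem steinberg_eq_mu {F : Type*} [Field F] [Fintype F] {n : ℕ} (x : GL (Fin n) F)
    [Fintype (Submodule F (Fin n → F))] :
    Cfsg.unipotentCharacterGL n F (fun _ => 1) x =
      (-1 : ℂ) ^ n * ((muFl (Matrix.toLin' (x : Matrix (Fin n) (Fin n) F)) ⊤ : ℤ) : ℂ) := by
  classical
  rw [steinberg_eq_flags]
  set g := Matrix.toLin' (x : Matrix (Fin n) (Fin n) F) with hg
  rcases n with _ | m
  · -- degree zero
    have htop : (⊤ : Submodule F (Fin 0 → F)) = ⊥ := Subsingleton.elim _ _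
    have hmu : muFl g ⊤ = 1 := by
      unfold muFl
      rw [if_pos htop]
    rw [hmu]
    have huniv : (Finset.univ.filter (fun κ : Equiv.Perm (Fin 0) => Valid κ)) = {1} := by
      ext κ
      simp only [Finset.mem_filter, Finset.mem_univ, true_and, Finset.mem_singleton]
      constructor
      · intro _
        exact Subsingleton.elim _ _
      · rintro rfl
        intro i
        exact i.elim0
    rw [huniv, Finset.sum_singleton]
    have hD : Dset (comp (1 : Equiv.Perm (Fin 0))) = ∅ := by
      have := Dset_subset (comp (1 : Equiv.Perm (Fin 0)))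
      rw [Finset.Ico_eq_empty (by norm_num)] at this
      exact Finset.subset_empty.mp this
    rw [hD, NN_empty]
    simp
  · have h1 := sum_valid m (fun D => (NN g D ⊤ : ℂ))
    rw [h1]
    have htop : (⊤ : Submodule F (Fin (m + 1) → F)) ≠ ⊥ := top_ne_bot
    have hmu : muFl g ⊤ = - TT g (m + 1) ⊤ := by
      unfold muFl
      rw [if_neg htop]
      unfold MM
      rw [finrank_top, Module.finrank_fin_fun]
    rw [hmu]
    unfold TT
    push_cast
    rw [mul_neg, ← neg_mul, Finset.mul_sum]
    apply Finset.sum_congr rfl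
    intro D hD
    have hcard : D.card ≤ m := by
      have := Finset.card_le_card (Finset.mem_powerset.mp hD)
      simpa using this
    have e : (-1 : ℂ) ^ (m - D.card) = -(-1 : ℂ) ^ (m + 1) * (-1 : ℂ) ^ D.card := by
      obtain ⟨r, hr⟩ : ∃ r, m = D.card + r := ⟨m - D.card, by omega⟩
      rw [hr, Nat.add_sub_cancel_left, pow_succ, pow_add]
      have h2 : ((-1 : ℂ) ^ D.card) * ((-1 : ℂ) ^ D.card) = 1 := by
        rw [← pow_add, ← two_mul, pow_mul]
        simp
      linear_combination (-(-1 : ℂ) ^ r) * h2
    rw [e]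
    ring

/-- Values of the Steinberg character of `GL_n(q)` (the partition-indexed character for `ν = (1,…,1)`, of degree `q^(n(n−1)/2)`) at elements of order prime to the characteristic: if the characteristic polynomial of such an element is `∏ f^(m_f)` over distinct monic irreducible `f`, the value is `∏_f (−1)^((deg f − 1) m_f) q^(deg f · m_f (m_f − 1)/2)`. (At elements of order divisible by the characteristic the value is 0; that is not part of this statement.) -/
theorem result {F : Type*} [Field F] [Fintype F] [DecidableEq F] {q : ℕ} (hq : Fintype.card F = q) (p : ℕ) [Fact p.Prime] [CharP F p]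
    {n : ℕ} (x : GL (Fin n) F) (hx : (orderOf x).Coprime p) :
    Cfsg.unipotentCharacterGL n F (fun _ => 1) x =
      ∏ f ∈ (UniqueFactorizationMonoid.normalizedFactors (x : Matrix (Fin n) (Fin n) F).charpoly).toFinset,
        (-1 : ℂ) ^ ((f.natDegree - 1) * (UniqueFactorizationMonoid.normalizedFactors (x : Matrix (Fin n) (Fin n) F).charpoly).count f) *
          (q : ℂ) ^ (f.natDegree * (UniqueFactorizationMonoid.normalizedFactors (x : Matrix (Fin n) (Fin n) F).charpoly).count f *
            ((UniqueFactorizationMonoid.normalizedFactors (x : Matrix (Fin n) (Fin n) F).charpoly).count f - 1) / 2) := by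
  letI : Fintype (Submodule F (Fin n → F)) := Fintype.ofFinite _
  have hss := semisimple_of_coprime p x hx
  have hmu := moebius_eval n (Fin n → F) (Matrix.toLin' (x : Matrix (Fin n) (Fin n) F)) hss
    (by simp) (muFl _) (isMoeb_muFl _)
  rw [Matrix.charpoly_toLin', Nat.card_eq_fintype_card, hq] at hmu
  rw [steinberg_eq_mu, hmu]
  have h := arith q (x : Matrix (Fin n) (Fin n) F).charpoly (Matrix.charpoly_monic _)
  rw [Matrix.charpoly_natDegree_eq_dim, Fintype.card_fin] at h
  exact h

end Cfsg.Agent.S2425
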