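import Cfsg.Statements.S2426
import Mathlib
import Cfsg.Agent.Lib.Helper13.St2D

set_option autoImplicit false
open Cfsg

namespace Cfsg.Agent.S2426

open Cfsg.Agent.Lib.Helper13

/-- the Steinberg relations of rank one -/
def rels (K : Type*) [Field K] : Set (FreeGroup (Bool × K)) :=
  {g : FreeGroup (Bool × K) | ∃ (b : Bool) (t u : K), g = FreeGroup.of (b, t) * FreeGroup.of (b, u) * (FreeGroup.of (b, t + u))⁻¹} ∪
    {g | ∃ (b : Bool) (t u : K), t ≠ 0 ∧
      g = (FreeGroup.of (b, t) * FreeGroup.of (!b, -t⁻¹) * FreeGroup.of (b, t)) * FreeGroup.of (b, u) *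
            (FreeGroup.of (b, t) * FreeGroup.of (!b, -t⁻¹) * FreeGroup.of (b, t))⁻¹ * (FreeGroup.of (!b, -(t⁻¹ ^ 2 * u)))⁻¹}

/-- the images of the generators -/
def gen {K : Type*} [Field K] (p : Bool × K) : Matrix.SpecialLinearGroup (Fin 2) K :=
  if p.1 then slX p.2 else slY p.2

theorem slX_add {K : Type*} [Field K] (t u : K) : slX t * slX u = slX (t + u) := by
  apply Subtype.ext
  rw [Matrix.SpecialLinearGroup.coe_mul, slX_val, slX_val, slX_val]
  ext i j
  fin_cases i <;> fin_cases j <;> simp [Matrix.mul_apply, Fin.sum_univ_two, add_comm]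

theorem slY_add {K : Type*} [Field K] (t u : K) : slY t * slY u = slY (t + u) := by
  apply Subtype.ext
  rw [Matrix.SpecialLinearGroup.coe_mul, slY_val, slY_val, slY_val]
  ext i j
  fin_cases i <;> fin_cases j <;> simp [Matrix.mul_apply, Fin.sum_univ_two, add_comm]

theorem sl_conj_x {K : Type*} [Field K] {t : K} (ht : t ≠ 0) (u : K) :
    (slX t * slY (-t⁻¹) * slX t) * slX u = slY (-(t⁻¹ ^ 2 * u)) * (slX t * slY (-t⁻¹) * slX t) := by
  apply Subtype.ext
  simp only [Matrix.SpecialLinearGroup.coe_mul, slX_val, slY_val]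
  ext i j
  fin_cases i <;> fin_cases j <;> simp [Matrix.mul_apply, Fin.sum_univ_two, ht] <;> field_simp

theorem sl_conj_y {K : Type*} [Field K] {t : K} (ht : t ≠ 0) (u : K) :
    (slY t * slX (-t⁻¹) * slY t) * slY u = slX (-(t⁻¹ ^ 2 * u)) * (slY t * slX (-t⁻¹) * slY t) := by
  apply Subtype.ext
  simp only [Matrix.SpecialLinearGroup.coe_mul, slX_val, slY_val]
  ext i j
  fin_cases i <;> fin_cases j <;> simp [Matrix.mul_apply, Fin.sum_univ_two, ht] <;> field_simp

theorem gen_rels {K : Type*} [Field K] : ∀ r ∈ rels K, FreeGroup.lift (gen (K := K)) r = 1 := by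
  rintro r (⟨b, t, u, rfl⟩ | ⟨b, t, u, ht, rfl⟩)
  · simp only [map_mul, map_inv, FreeGroup.lift_apply_of]
    rw [mul_inv_eq_one]
    cases b
    · exact slY_add t u
    · exact slX_add t u
  · simp only [map_mul, map_inv, FreeGroup.lift_apply_of]
    rw [mul_inv_eq_one, mul_inv_eq_iff_eq_mul]
    cases b
    · exact sl_conj_y ht u
    · exact sl_conj_x ht u

/-- the data for the presented group -/
noncomputable def data (K : Type*) [Field K] : St2Data K (PresentedGroup (rels K)) where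
  x t := PresentedGroup.of (true, t)
  y t := PresentedGroup.of (false, t)
  x_add t u := by
    have h1 : FreeGroup.of (true, t) * FreeGroup.of (true, u) * (FreeGroup.of (true, t + u))⁻¹
        ∈ rels K := Or.inl ⟨true, t, u, rfl⟩
    have h2 := PresentedGroup.one_of_mem h1
    rw [map_mul, map_mul, map_inv, mul_inv_eq_one] at h2
    exact h2
  y_add t u := by
    have h1 : FreeGroup.of (false, t) * FreeGroup.of (false, u) * (FreeGroup.of (false, t + u))⁻¹
        ∈ rels K := Or.inl ⟨false, t, u, rfl⟩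
    have h2 := PresentedGroup.one_of_mem h1
    rw [map_mul, map_mul, map_inv, mul_inv_eq_one] at h2
    exact h2
  conj_x t u ht := by
    have h1 : (FreeGroup.of (true, t) * FreeGroup.of (!true, -t⁻¹) * FreeGroup.of (true, t))
        * FreeGroup.of (true, u)
        * (FreeGroup.of (true, t) * FreeGroup.of (!true, -t⁻¹) * FreeGroup.of (true, t))⁻¹
        * (FreeGroup.of (!true, -(t⁻¹ ^ 2 * u)))⁻¹ ∈ rels K := Or.inr ⟨true, t, u, ht, rfl⟩
    have h2 := PresentedGroup.one_of_mem h1
    simp only [map_mul, map_inv, Bool.not_true] at h2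
    rw [mul_inv_eq_one] at h2
    exact h2
  gen := by
    have h1 := PresentedGroup.closure_range_of (rels K)
    rw [eq_top_iff, ← h1, Subgroup.closure_le]
    rintro _ ⟨⟨b, t⟩, rfl⟩
    apply Subgroup.subset_closure
    cases b
    · exact Or.inr ⟨t, rfl⟩
    · exact Or.inl ⟨t, rfl⟩
  π := PresentedGroup.toGroup gen_rels
  π_x t := by
    rw [PresentedGroup.toGroup.of]
    rfl
  π_y t := by
    rw [PresentedGroup.toGroup.of]
    rfl

/-- The rank-one Steinberg presentation of `SL₂` over a finite field `K`: generators `x(t)`, `y(t)` (`t ∈ K`; the two opposite root subgroups) subject to additivity `x(t)x(u) = x(t+u)`, `y(t)y(u) = y(t+u)` and, with `w(t) = x(t) y(−t⁻¹) x(t)` and `w'(t) = y(t) x(−t⁻¹) y(t)` for `t ≠ 0`, the relations `w(t) x(u) w(t)⁻¹ = y(−t⁻² u)` and `w'(t) y(u) w'(t)⁻¹ = x(−t⁻² u)`, present `SL₂(K)`, with `x(t) ↦ (1 t; 0 1)` and `y(t) ↦ (1 0; t 1)`. -/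
theorem result {K : Type*} [Field K] [Finite K] :
    ∃ e : PresentedGroup
        ({g : FreeGroup (Bool × K) | ∃ (b : Bool) (t u : K), g = FreeGroup.of (b, t) * FreeGroup.of (b, u) * (FreeGroup.of (b, t + u))⁻¹} ∪
          {g | ∃ (b : Bool) (t u : K), t ≠ 0 ∧
            g = (FreeGroup.of (b, t) * FreeGroup.of (!b, -t⁻¹) * FreeGroup.of (b, t)) * FreeGroup.of (b, u) *
                  (FreeGroup.of (b, t) * FreeGroup.of (!b, -t⁻¹) * FreeGroup.of (b, t))⁻¹ * (FreeGroup.of (!b, -(t⁻¹ ^ 2 * u)))⁻¹})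
        ≃* Matrix.SpecialLinearGroup (Fin 2) K,
      (∀ t : K, ((e (PresentedGroup.of (true, t)) : Matrix (Fin 2) (Fin 2) K)) = !![1, t; 0, 1]) ∧
      (∀ t : K, ((e (PresentedGroup.of (false, t)) : Matrix (Fin 2) (Fin 2) K)) = !![1, 0; t, 1]) := by
  have key : ∃ e : PresentedGroup (rels K) ≃* Matrix.SpecialLinearGroup (Fin 2) K,
      (∀ t : K, ((e (PresentedGroup.of (true, t)) : Matrix (Fin 2) (Fin 2) K)) = !![1, t; 0, 1]) ∧
      (∀ t : K, ((e (PresentedGroup.of (false, t)) : Matrix (Fin 2) (Fin 2) K)) = !![1, 0; t, 1]) := by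
    have hbij : Function.Bijective (data K).π := ⟨(data K).pi_injective, (data K).pi_surjective⟩
    refine ⟨MulEquiv.ofBijective (data K).π hbij, fun t => ?_, fun t => ?_⟩
    · exact congrArg Subtype.val ((data K).π_x t)
    · exact congrArg Subtype.val ((data K).π_y t)
  exact key

end Cfsg.Agent.S2426
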