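import Cfsg.Statements.S2427

set_option autoImplicit false
set_option maxRecDepth 1000000
open Cfsg

namespace Cfsg.Agent.S2427

abbrev G := Matrix.SpecialLinearGroup (Fin 2) (ZMod 3)

def negOne : G := ⟨!![-1, 0; 0, -1], by decide⟩
def elA : G := ⟨!![0, -1; 1, 0], by decide⟩
def elB : G := ⟨!![1, 1; 1, -1], by decide⟩
def elG0 : G := ⟨!![0, 1; -1, 1], by decide⟩
def elH0 : G := ⟨!![0, 1; -1, -1], by decide⟩

def inv' (g : G) : G := ⟨!![g.1 1 1, -g.1 0 1; -g.1 1 0, g.1 0 0], by
  have := g.2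
  rw [Matrix.det_fin_two] at this
  rw [Matrix.det_fin_two_of]
  linear_combination this⟩

theorem inv_eq (g : G) : g⁻¹ = inv' g := by
  apply Subtype.ext
  rw [Matrix.SpecialLinearGroup.coe_inv, Matrix.adjugate_fin_two]
  rfl

theorem d1 : Fintype.card G = 24 := by decide
theorem d2 : ∀ g : G, (∀ h : G, h * g = g * h) → g = 1 ∨ g = negOne := by decide
theorem d2' : ∀ h : G, h * negOne = negOne * h := by decide
theorem d3 : ∀ g h : G, (g * h * inv' g * inv' h) ^ 4 = 1 := by decide
theorem d4 : ∀ a b : G, a ^ 4 = 1 → b ^ 4 = 1 → (a * b) ^ 4 = 1 := by decide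
theorem d6 : ∀ q : G, q ^ 4 = 1 → q ^ 2 ≠ 1 → ∃ x : G, x * elA = q * x := by decide
theorem d7 : ∀ g : G, g ^ 2 = 1 → g = 1 ∨ g = negOne := by decide
theorem d8 : ∀ g : G, g ^ 4 ≠ 1 → ∃ x : G, (g * x * inv' g * inv' x) ^ 2 ≠ 1 := by decide
theorem dA : elG0 * elH0 * inv' elG0 * inv' elH0 = elA := by decide
theorem dA2 : elA ^ 2 = negOne := by decide
theorem dA4 : elA ^ 4 = 1 := by decide
theorem dN : negOne ≠ 1 := by decide
theorem dN4 : negOne ^ 4 = 1 := by decide

def fQ : QuaternionGroup 2 → G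
  | QuaternionGroup.a i => elA ^ i.val
  | QuaternionGroup.xa i => elB * elA ^ i.val

theorem fQ_mul : ∀ x y : QuaternionGroup 2, fQ (x * y) = fQ x * fQ y := by decide
theorem fQ_inj : ∀ x y : QuaternionGroup 2, fQ x = fQ y → x = y := by decide
theorem fQ_pow : ∀ x : QuaternionGroup 2, (fQ x) ^ 4 = 1 := by decide
theorem fQ_surj : ∀ q : G, q ^ 4 = 1 → ∃ x : QuaternionGroup 2, fQ x = q := by decide

def Q : Subgroup G where
  carrier := {g | g ^ 4 = 1}
  mul_mem' := fun {a b} ha hb => d4 a b ha hb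
  one_mem' := one_pow 4
  inv_mem' := fun {a} ha => by
    show a⁻¹ ^ 4 = 1
    rw [inv_pow, show a ^ 4 = 1 from ha, inv_one]

theorem mem_Q {g : G} : g ∈ Q ↔ g ^ 4 = 1 := Iff.rfl

theorem comm_le : commutator G ≤ Q := by
  rw [commutator_def, Subgroup.commutator_le]
  intro g _ h _
  rw [mem_Q, commutatorElement_def, inv_eq, inv_eq]
  exact d3 g h

theorem Q_le_of_normal (N : Subgroup G) (hN : N.Normal) {g : G} (hg : g ∈ N) (h4 : g ^ 4 = 1)
    (h2 : g ^ 2 ≠ 1) : Q ≤ N := by
  have hA : elA ∈ N := by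
    obtain ⟨x, hx⟩ := d6 g h4 h2
    have : elA = x⁻¹ * g * x⁻¹⁻¹ := by
      rw [inv_inv, mul_assoc, ← hx, inv_mul_cancel_left]
    rw [this]
    exact hN.conj_mem g hg x⁻¹
  intro q hq
  rw [mem_Q] at hq
  by_cases hq2 : q ^ 2 = 1
  · rcases d7 q hq2 with rfl | rfl
    · exact N.one_mem
    · rw [← dA2]; exact N.pow_mem hA 2
  · obtain ⟨x, hx⟩ := d6 q hq hq2
    have : q = x * elA * x⁻¹ := by
      rw [hx, mul_inv_cancel_right]
    rw [this]
    exact hN.conj_mem elA hA x

theorem comm_eq : commutator G = Q := by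
  apply le_antisymm comm_le
  have hA : elA ∈ commutator G := by
    rw [← dA, ← inv_eq, ← inv_eq, ← commutatorElement_def, commutator_def]
    exact Subgroup.commutator_mem_commutator (Subgroup.mem_top _) (Subgroup.mem_top _)
  refine Q_le_of_normal (commutator G) inferInstance hA dA4 ?_
  rw [dA2]; exact dN

def fHom : QuaternionGroup 2 →* G := MonoidHom.mk' fQ fQ_mul

theorem fHom_range : fHom.range = commutator G := by
  rw [comm_eq]
  ext q
  rw [mem_Q]
  constructor
  · rintro ⟨x, rfl⟩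
    exact fQ_pow x
  · intro hq
    obtain ⟨x, hx⟩ := fQ_surj q hq
    exact ⟨x, hx⟩

theorem fHom_inj : Function.Injective fHom := fun x y h => fQ_inj x y h

noncomputable def isoQ : commutator G ≃* QuaternionGroup 2 :=
  ((MonoidHom.ofInjective fHom_inj).trans (MulEquiv.subgroupCongr fHom_range)).symm

theorem card_G : Nat.card G = 24 := by
  rw [Nat.card_eq_fintype_card]; exact d1

theorem card_comm : Nat.card (commutator G) = 8 := by
  rw [Nat.card_congr isoQ.toEquiv, Nat.card_eq_fintype_card, QuaternionGroup.card]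

theorem center_eq (g : G) : g ∈ Subgroup.center G ↔ g = 1 ∨ g = negOne := by
  rw [Subgroup.mem_center_iff]
  constructor
  · exact d2 g
  · rintro (rfl | rfl)
    · intro h; simp
    · exact d2'

theorem card_center : Nat.card (Subgroup.center G) = 2 := by
  rw [Nat.card_eq_two_iff]
  refine ⟨⟨1, (center_eq 1).2 (Or.inl rfl)⟩, ⟨negOne, (center_eq negOne).2 (Or.inr rfl)⟩, ?_, ?_⟩
  · intro h
    exact dN (Subtype.ext_iff.1 h).symm
  · ext ⟨x, hx⟩
    simp only [Set.mem_insert_iff, Set.mem_singleton_iff, Set.mem_univ, iff_true]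
    rcases (center_eq x).1 hx with rfl | rfl
    · exact Or.inl rfl
    · exact Or.inr rfl

theorem card_sylow (P : Sylow 3 G) : Nat.card (P : Subgroup G) = 3 := by
  rw [Sylow.card_eq_multiplicity, card_G]
  have : (24 : ℕ).factorization 3 = 1 := by
    rw [Nat.factorization_def _ Nat.prime_three]
    have : (24 : ℕ) = 3 ^ 1 * 8 := by norm_num
    rw [this, padicValNat.mul (by norm_num) (by norm_num), padicValNat.prime_pow,
      padicValNat.eq_zero_of_not_dvd (by norm_num)]
  rw [this, pow_one]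

theorem normal_cases (N : Subgroup G) (hN : N.Normal) :
    N = ⊥ ∨ N = ⊤ ∨ N = Subgroup.center G ∨ N = commutator G := by
  by_cases h1 : ∃ g ∈ N, g ^ 4 ≠ 1
  · right; left
    obtain ⟨g, hg, hg4⟩ := h1
    obtain ⟨x, hx⟩ := d8 g hg4
    have hmem : g * x * inv' g * inv' x ∈ N := by
      rw [← inv_eq, ← inv_eq]
      have : g * x * g⁻¹ * x⁻¹ = g * (x * g⁻¹ * x⁻¹) := by simp only [mul_assoc]
      rw [this]
      exact N.mul_mem hg (hN.conj_mem _ (N.inv_mem hg) x)
    have hQ : Q ≤ N := Q_le_of_normal N hN hmem (d3 g x) hx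
    have hcardQ : Nat.card Q = 8 := by rw [← comm_eq]; exact card_comm
    have hdvd1 : Nat.card Q ∣ Nat.card N := Subgroup.card_dvd_of_le hQ
    have hdvd2 : Nat.card N ∣ Nat.card G := Subgroup.card_subgroup_dvd_card N
    rw [hcardQ] at hdvd1
    rw [card_G] at hdvd2
    have hne : Nat.card N ≠ 8 := by
      intro h8
      have : Q = N := Subgroup.eq_of_le_of_card_ge hQ (by rw [hcardQ, h8])
      rw [← this] at hg
      exact hg4 hg
    have h24 : Nat.card N = 24 := by
      obtain ⟨k, hk⟩ := hdvd1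
      have hk3 : k ∣ 3 := by
        rw [hk] at hdvd2
        exact Nat.dvd_of_mul_dvd_mul_left (by norm_num : 0 < 8) (by simpa using hdvd2)
      have : k = 1 ∨ k = 3 := (Nat.dvd_prime Nat.prime_three).1 hk3
      rcases this with rfl | rfl
      · exact absurd hk hne
      · exact hk
    rw [← Subgroup.card_eq_iff_eq_top, h24, card_G]
  · push Not at h1
    by_cases h2 : ∃ g ∈ N, g ^ 2 ≠ 1
    · right; right; right
      obtain ⟨g, hg, hg2⟩ := h2
      rw [comm_eq]
      apply le_antisymm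
      · intro x hx; exact h1 x hx
      · exact Q_le_of_normal N hN hg (h1 g hg) hg2
    · push Not at h2
      by_cases h3 : negOne ∈ N
      · right; right; left
        ext x
        rw [center_eq]
        constructor
        · intro hx; exact d7 x (h2 x hx)
        · rintro (rfl | rfl)
          · exact N.one_mem
          · exact h3
      · left
        rw [Subgroup.eq_bot_iff_forall]
        intro x hx
        rcases d7 x (h2 x hx) with rfl | rfl
        · rfl
        · exact absurd hx h3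

theorem result :
    Nat.card (Matrix.SpecialLinearGroup (Fin 2) (ZMod 3)) = 24 ∧
    Nat.card (Subgroup.center (Matrix.SpecialLinearGroup (Fin 2) (ZMod 3))) = 2 ∧
    Nat.card (commutator (Matrix.SpecialLinearGroup (Fin 2) (ZMod 3))) = 8 ∧
    Nonempty (commutator (Matrix.SpecialLinearGroup (Fin 2) (ZMod 3)) ≃* QuaternionGroup 2) ∧
    (∀ P : Sylow 3 (Matrix.SpecialLinearGroup (Fin 2) (ZMod 3)),
      Subgroup.IsComplement' (commutator (Matrix.SpecialLinearGroup (Fin 2) (ZMod 3)))
        (P : Subgroup (Matrix.SpecialLinearGroup (Fin 2) (ZMod 3)))) ∧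
    ∀ N : Subgroup (Matrix.SpecialLinearGroup (Fin 2) (ZMod 3)), N.Normal →
      N = ⊥ ∨ N = ⊤ ∨ N = Subgroup.center (Matrix.SpecialLinearGroup (Fin 2) (ZMod 3)) ∨
        N = commutator (Matrix.SpecialLinearGroup (Fin 2) (ZMod 3)) := by
  refine ⟨card_G, card_center, card_comm, ⟨isoQ⟩, ?_, normal_cases⟩
  intro P
  apply Subgroup.isComplement'_of_coprime
  · rw [card_comm, card_sylow, card_G]
  · rw [card_comm, card_sylow]; norm_num

end Cfsg.Agent.S2427
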