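import Cfsg.Statements.S2428
import Cfsg.Agent.Lib.Helper41.SL2Torus

set_option autoImplicit false
open Cfsg

namespace Cfsg.Agent.S2428

open Cfsg.Agent.Lib.Helper41

local notation "SL₂(" F ")" => Matrix.SpecialLinearGroup (Fin 2) F

variable {F : Type*} [Field F] [Fintype F]

/-- Let F be a finite field with q elements, q odd, and let d be a diagonal element of SL₂ over F whose diagonal entry a has a² ≠ 1 (such d exist exactly when q > 3). Then the centraliser of d is precisely the diagonal subgroup T; the normaliser of T has order 2(q − 1) and exactly (q + 5)/2 conjugacy classes; and every element of that normaliser outside T has square equal to −1. -/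
theorem result {F : Type*} [Field F] [Fintype F] (hodd : Odd (Fintype.card F))
    (d : Matrix.SpecialLinearGroup (Fin 2) F) (hd01 : (d : Matrix (Fin 2) (Fin 2) F) 0 1 = 0) (hd10 : (d : Matrix (Fin 2) (Fin 2) F) 1 0 = 0) (hda : (d : Matrix (Fin 2) (Fin 2) F) 0 0 ^ 2 ≠ 1) :
    (∀ g : Matrix.SpecialLinearGroup (Fin 2) F, g ∈ Subgroup.centralizer ({d} : Set (Matrix.SpecialLinearGroup (Fin 2) F)) ↔ ((g : Matrix (Fin 2) (Fin 2) F) 0 1 = 0 ∧ (g : Matrix (Fin 2) (Fin 2) F) 1 0 = 0)) ∧
    Nat.card (Subgroup.normalizer ((Subgroup.centralizer ({d} : Set (Matrix.SpecialLinearGroup (Fin 2) F))) : Set (Matrix.SpecialLinearGroup (Fin 2) F))) = 2 * (Fintype.card F - 1) ∧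
    Nat.card (ConjClasses (Subgroup.normalizer ((Subgroup.centralizer ({d} : Set (Matrix.SpecialLinearGroup (Fin 2) F))) : Set (Matrix.SpecialLinearGroup (Fin 2) F)))) = (Fintype.card F + 5) / 2 ∧
    ∀ g : Matrix.SpecialLinearGroup (Fin 2) F, g ∈ Subgroup.normalizer ((Subgroup.centralizer ({d} : Set (Matrix.SpecialLinearGroup (Fin 2) F))) : Set (Matrix.SpecialLinearGroup (Fin 2) F)) →
      g ∉ Subgroup.centralizer ({d} : Set (Matrix.SpecialLinearGroup (Fin 2) F)) → ((g * g) : Matrix (Fin 2) (Fin 2) F) = -1 := by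
  classical
  have hodd' : Fintype.card F % 2 = 1 := Nat.odd_iff.mp hodd
  set q := Fintype.card F with hq
  have hq2 : 2 ≤ q := Fintype.one_lt_card
  have hq3 : 3 ≤ q := by omega
  have hdet := sl2_det d
  rw [hd01, zero_mul, sub_zero] at hdet
  have ha0 : d 0 0 ≠ 0 := by
    intro h; rw [h, zero_mul] at hdet; exact zero_ne_one hdet
  have hd11 : d 1 1 = (d 0 0)⁻¹ := eq_inv_of_mul_eq_one_right hdet
  have hne : d 0 0 ≠ d 1 1 := by
    intro h
    apply hda
    rw [pow_two]; nth_rewrite 2 [h]; exact hdet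
  refine ⟨?_, ?_⟩
  · intro g
    rw [Subgroup.mem_centralizer_singleton_iff]
    constructor
    · intro h
      have e01 := congrArg (fun M : SL₂(F) => M 0 1) h
      have e10 := congrArg (fun M : SL₂(F) => M 1 0) h
      simp only [sl2_mul_01, sl2_mul_10, hd01, hd10, mul_zero, zero_mul, add_zero, zero_add]
        at e01 e10
      constructor
      · have : (d 0 0 - d 1 1) * g 0 1 = 0 := by linear_combination -e01
        exact (mul_eq_zero.mp this).resolve_left (sub_ne_zero.mpr hne)
      · have : (d 0 0 - d 1 1) * g 1 0 = 0 := by linear_combination e10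
        exact (mul_eq_zero.mp this).resolve_left (sub_ne_zero.mpr hne)
    · rintro ⟨h01, h10⟩
      apply sl2_ext <;>
        simp only [sl2_mul_00, sl2_mul_01, sl2_mul_10, sl2_mul_11, hd01, hd10, h01, h10] <;> ring
  · -- eigen-data for d
    set l := algebraMap F (AlgebraicClosure F) (d 0 0) with hl
    have hl0 : l ≠ 0 := by rw [hl, Ne, map_eq_zero]; exact ha0
    have hltr : l + l⁻¹ = algebraMap F (AlgebraicClosure F) (tr2 d) := by
      rw [hl, tr2, map_add, hd11, map_inv₀]
    have hl2 : l ^ 2 ≠ 1 := by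
      intro h
      apply hda
      apply (algebraMap F (AlgebraicClosure F)).injective
      rw [map_pow, map_one]; exact h
    have hlN : l ^ (q - 1) = 1 := by
      rw [hl, ← map_pow, FiniteField.pow_card_sub_one_eq_one _ ha0, map_one]
    have hτ4 : tr2 d ^ 2 ≠ 4 := Cfsg.Agent.S2430.tr2_sq_ne_four_of_eigen _ hl0 hltr hl2
    have hcardC : Nat.card (Subgroup.centralizer ({d} : Set (SL₂(F)))) = q - 1 := by
      apply Cfsg.Agent.S2430.card_centralizer_split hodd' hτ4 (d 0 0)
      rw [tr2, hd11]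
      field_simp
      ring
    obtain ⟨y, l₀, hl₀0, hl₀t, hl₀2, hyord, hyC, hyself⟩ :=
      Cfsg.Agent.Lib.Helper41.Torus.exists_torus_generator hodd' hl0 hltr hl2 (q - 1) (Or.inl dvd_rfl) hlN hcardC
    have hm : orderOf y = 2 * ((q - 1) / 2) := by rw [hyord]; omega
    obtain ⟨hN1, hN2, hN3⟩ :=
      Cfsg.Agent.Lib.Helper41.Torus.torus_normalizer hodd' hl₀0 hl₀t hl₀2 hyself ((q - 1) / 2) hm
    rw [hyC] at hN1 hN2 hN3
    refine ⟨?_, ?_, hN3⟩
    · rw [hN1]; omega
    · rw [hN2]; omega

end Cfsg.Agent.S2428
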