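import Cfsg.Statements.S2434
import Cfsg.Agent.Lib.Helper38.SL2CuspCount

set_option autoImplicit false
open Cfsg

namespace Cfsg.Agent.S2434

/-- Let F be a finite field with q elements, q odd, and C a cyclic subgroup of order q + 1 of SL₂ over F (a non-split torus; it contains the centre). For every homomorphism θ from C to the non-zero complex numbers with θ² ≠ 1 there is an irreducible complex character χ of degree q − 1 such that χ(c) = −θ(c) − θ(c)⁻¹ for every non-central c in C, χ(zg) = θ(z)χ(g) for central z in C, χ vanishes at diagonal elements with entry a, a² ≠ 1, and χ takes the value −1 at every upper unitriangular element other than 1. Conversely every irreducible character of degree q − 1 has, for some such θ, the values −θ(c) − θ(c)⁻¹ at the non-central elements c of C (for q ≥ 5 these are exactly the cuspidal characters of degree q − 1). -/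
theorem result {F : Type*} [Field F] [Fintype F] (hodd : Odd (Fintype.card F))
    (C : Subgroup (Matrix.SpecialLinearGroup (Fin 2) F)) (hC : IsCyclic C) (hcard : Nat.card C = Fintype.card F + 1) :
    (∀ θ : C →* ℂˣ, (∃ c : C, θ c ^ 2 ≠ 1) →
      ∃ χ : Matrix.SpecialLinearGroup (Fin 2) F → ℂ, Cfsg.IsIrrCharacter (Matrix.SpecialLinearGroup (Fin 2) F) χ ∧ χ 1 = (Fintype.card F : ℂ) - 1 ∧
        (∀ c : C, (c : Matrix.SpecialLinearGroup (Fin 2) F) ∉ Subgroup.center (Matrix.SpecialLinearGroup (Fin 2) F) → χ c = -((θ c).val + (θ c)⁻¹.val)) ∧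
        (∀ c : C, (c : Matrix.SpecialLinearGroup (Fin 2) F) ∈ Subgroup.center (Matrix.SpecialLinearGroup (Fin 2) F) → ∀ g : Matrix.SpecialLinearGroup (Fin 2) F, χ ((c : Matrix.SpecialLinearGroup (Fin 2) F) * g) = (θ c).val * χ g) ∧
        (∀ g : Matrix.SpecialLinearGroup (Fin 2) F, (g : Matrix (Fin 2) (Fin 2) F) 0 1 = 0 → (g : Matrix (Fin 2) (Fin 2) F) 1 0 = 0 → (g : Matrix (Fin 2) (Fin 2) F) 0 0 ^ 2 ≠ 1 → χ g = 0) ∧
        (∀ g : Matrix.SpecialLinearGroup (Fin 2) F, (g : Matrix (Fin 2) (Fin 2) F) 1 0 = 0 → (g : Matrix (Fin 2) (Fin 2) F) 0 0 = 1 → (g : Matrix (Fin 2) (Fin 2) F) 1 1 = 1 → (g : Matrix (Fin 2) (Fin 2) F) 0 1 ≠ 0 → χ g = -1)) ∧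
    (∀ χ : Matrix.SpecialLinearGroup (Fin 2) F → ℂ, Cfsg.IsIrrCharacter (Matrix.SpecialLinearGroup (Fin 2) F) χ → χ 1 = (Fintype.card F : ℂ) - 1 →
      ∃ θ : C →* ℂˣ, (∃ c : C, θ c ^ 2 ≠ 1) ∧
        ∀ c : C, (c : Matrix.SpecialLinearGroup (Fin 2) F) ∉ Subgroup.center (Matrix.SpecialLinearGroup (Fin 2) F) → χ c = -((θ c).val + (θ c)⁻¹.val)) := by
  classical
  have h2 := Cfsg.Agent.Lib.Helper38.two_ne_zero_of_odd_card hodd
  have hm := Cfsg.Agent.Lib.Helper38.negOneSL_mem_of_card C hodd hcard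
  have hA := Cfsg.Agent.Lib.Helper38.card_cuspIrr_ge (F := F) hodd
  have hnc : ∀ c : C, (c : Matrix.SpecialLinearGroup (Fin 2) F) ∉
      Subgroup.center (Matrix.SpecialLinearGroup (Fin 2) F) →
      (c : Matrix.SpecialLinearGroup (Fin 2) F) ≠ 1 ∧
        (c : Matrix.SpecialLinearGroup (Fin 2) F) ≠ Cfsg.Agent.Lib.Helper38.negOneSL F := by
    intro c hc
    constructor
    · intro h
      apply hc
      rw [h]
      exact Subgroup.one_mem _
    · intro h
      apply hc
      rw [h]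
      exact Cfsg.Agent.Lib.Helper38.negOneSL_mem_center
  constructor
  · intro θ hθ
    obtain ⟨ψ, hc, hirr, hpar⟩ :=
      Cfsg.Agent.Lib.Helper38.exists_cusp_of_torusParam C hodd hC hcard hA θ hθ
    refine ⟨Cfsg.Agent.Lib.Helper38.resSL ψ, hirr, Cfsg.Agent.Lib.Helper38.resSL_one hc, ?_, ?_,
      ?_, ?_⟩
    · intro c hcn
      exact hpar.1 c (hnc c hcn).1 (hnc c hcn).2
    · intro c hcc g
      rcases Cfsg.Agent.Lib.Helper38.mem_center_SL2 _ hcc with h | h
      · have hc1 : c = 1 := Subtype.ext h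
        rw [h, hc1, map_one, one_mul, Units.val_one, one_mul]
      · have hc1 : c = ⟨Cfsg.Agent.Lib.Helper38.negOneSL F, hm⟩ := Subtype.ext h
        rw [h, hc1]
        exact hpar.2 hm g
    · intro g h01 h10 hne
      exact Cfsg.Agent.Lib.Helper38.resSL_diag hc g h01 h10 hne
    · intro g h10 h00 h11 h01
      unfold Cfsg.Agent.Lib.Helper38.resSL
      apply Cfsg.Agent.Lib.Helper38.cusp_unip hc
      · rw [Cfsg.Agent.Lib.Helper38.toGL_apply]; exact h10
      · rw [Cfsg.Agent.Lib.Helper38.toGL_apply]; exact h00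
      · rw [Cfsg.Agent.Lib.Helper38.toGL_apply]; exact h11
      · rw [Cfsg.Agent.Lib.Helper38.toGL_apply]; exact h01
  · intro χ hχ hdeg
    by_cases hq : 4 ≤ Fintype.card F
    · obtain ⟨ψ, hc, he⟩ := Cfsg.Agent.Lib.Helper38.irr_SL2_deg_q_sub_one hq χ hχ hdeg
      have hirr : Cfsg.IsIrrCharacter (Matrix.SpecialLinearGroup (Fin 2) F)
          (Cfsg.Agent.Lib.Helper38.resSL ψ) := he ▸ hχ
      obtain ⟨θ, hθ, hpar⟩ := Cfsg.Agent.Lib.Helper38.exists_torusParam C hodd hC hcard hc hirr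
      refine ⟨θ, hθ, ?_⟩
      intro c hcn
      rw [he]
      exact hpar.1 c (hnc c hcn).1 (hnc c hcn).2
    · have hq3 : Fintype.card F = 3 := by
        obtain ⟨k, hk⟩ := hodd
        have := Fintype.one_lt_card (α := F)
        omega
      have hk : Fintype.card F = 2 * 1 + 1 := by rw [hq3]
      obtain ⟨ψ, hc, hirr⟩ := Cfsg.Agent.Lib.Helper38.exists_cusp_irr_three hq3
      obtain ⟨θ, hθ, hpar⟩ := Cfsg.Agent.Lib.Helper38.exists_torusParam C hodd hC hcard hc hirr
      refine ⟨θ, hθ, ?_⟩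
      intro c hcn
      have hell := Cfsg.Agent.Lib.Helper38.isEllTr_of_mem C hodd hcard c c.2 (hnc c hcn).1
        (hnc c hcn).2
      have hnoeig := fun a v hv =>
        Cfsg.Agent.Lib.Helper38.no_eigenvector_of_isEllTr
          (c : Matrix.SpecialLinearGroup (Fin 2) F) hell a v hv
      have hdeg2 : χ 1 = ((1 + 1 : ℕ) : ℂ) := by
        rw [hdeg, hq3]; norm_num
      have hdeg2' : Cfsg.Agent.Lib.Helper38.resSL ψ 1 = ((1 + 1 : ℕ) : ℂ) := by
        rw [Cfsg.Agent.Lib.Helper38.resSL_one hc, hq3]; norm_num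
      have e1 := (Cfsg.Agent.Lib.Helper38.sl2_zeros hk χ hχ
        (c : Matrix.SpecialLinearGroup (Fin 2) F)).2 (Or.inr hdeg2) hnoeig
      have e2 := (Cfsg.Agent.Lib.Helper38.sl2_zeros hk _ hirr
        (c : Matrix.SpecialLinearGroup (Fin 2) F)).2 (Or.inr hdeg2') hnoeig
      rw [e1, ← hpar.1 c (hnc c hcn).1 (hnc c hcn).2, e2]

end Cfsg.Agent.S2434
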