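import Cfsg.Statements.S2436
import Cfsg.Agent.Lib.Helper38.McKayQ8
import Cfsg.Agent.Lib.Helper38.McKayBorel
import Cfsg.Agent.Lib.Helper38.McKayLHS

set_option autoImplicit false
open Cfsg

namespace Cfsg.Agent.S2436

/-- Let F be a finite field with q elements, q odd, ℓ any prime and S a Sylow ℓ-subgroup of SL₂ over F with normaliser N. Then SL₂ and N have the same number of irreducible complex characters of degree not divisible by ℓ (the McKay equality holds for SL₂ over F at every prime). -/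
theorem result {F : Type*} [Field F] [Fintype F] (hodd : Odd (Fintype.card F)) (ℓ : ℕ) [Fact ℓ.Prime] (S : Sylow ℓ (Matrix.SpecialLinearGroup (Fin 2) F)) :
    Nat.card {χ : Cfsg.IrrCharacter (Matrix.SpecialLinearGroup (Fin 2) F) // ¬ ℓ ∣ Cfsg.charDegree (χ : Matrix.SpecialLinearGroup (Fin 2) F → ℂ)} =
      Nat.card {ψ : Cfsg.IrrCharacter (Subgroup.normalizer ((S : Subgroup (Matrix.SpecialLinearGroup (Fin 2) F)) : Set (Matrix.SpecialLinearGroup (Fin 2) F))) //
        ¬ ℓ ∣ Cfsg.charDegree (ψ : Subgroup.normalizer ((S : Subgroup (Matrix.SpecialLinearGroup (Fin 2) F)) : Set (Matrix.SpecialLinearGroup (Fin 2) F)) → ℂ)} := by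
  classical
  open Cfsg.Agent.Lib.Helper38 Cfsg.Agent.Lib.Helper38T in
  show primeDegCount ℓ (Matrix.SpecialLinearGroup (Fin 2) F) =
    primeDegCount ℓ (Subgroup.normalizer ((S : Subgroup (Matrix.SpecialLinearGroup (Fin 2) F)) :
      Set (Matrix.SpecialLinearGroup (Fin 2) F)))
  have hℓ : ℓ.Prime := Fact.out
  have hodd' : Fintype.card F % 2 = 1 := Nat.odd_iff.mp hodd
  obtain ⟨k, hk⟩ := hodd
  set q := Fintype.card F with hq
  have hq2 : 2 ≤ q := Fintype.one_lt_card
  have hk1 : 1 ≤ k := by omega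
  have hcardSL := Cfsg.Agent.Lib.Helper38.card_SL2 (F := F)
  rw [← hq] at hcardSL
  have hfacq : q ^ 2 - 1 = (q - 1) * (q + 1) := by
    have hq1 : 1 ≤ q := by omega
    zify [hq1, Nat.one_le_pow 2 q (by omega)]
    ring
  obtain ⟨p, hp⟩ := CharP.exists F
  have := hp
  have : Fact p.Prime := ⟨CharP.char_is_prime F p⟩
  have hpprime : p.Prime := Fact.out
  obtain ⟨n, -, hn⟩ := FiniteField.card F p
  rw [← hq] at hn
  -- the case where ℓ does not divide the group order
  by_cases hdvd : ℓ ∣ Nat.card (Matrix.SpecialLinearGroup (Fin 2) F)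
  swap
  · have hS1 : Nat.card (S : Subgroup (Matrix.SpecialLinearGroup (Fin 2) F)) = 1 := by
      rw [Sylow.card_eq_multiplicity, Nat.factorization_eq_zero_of_not_dvd hdvd, pow_zero]
    have hSbot : (S : Subgroup (Matrix.SpecialLinearGroup (Fin 2) F)) = ⊥ :=
      Subgroup.card_eq_one.mp hS1
    have hN : Subgroup.normalizer ((S : Subgroup (Matrix.SpecialLinearGroup (Fin 2) F)) :
        Set (Matrix.SpecialLinearGroup (Fin 2) F)) = ⊤ := by
      rw [hSbot]
      exact Subgroup.normalizer_eq_top_iff.mpr inferInstance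
    exact (primeDegCount_of_eq_top _ hN ℓ).symm
  -- the defining characteristic
  by_cases hℓp : ℓ = p
  · subst hℓp
    rw [primeDegCount_SL2_char ⟨k, hk⟩ ℓ, primeDegCount_normalizer_char ⟨k, hk⟩ ℓ S]
  have hℓq : ¬ ℓ ∣ q := by
    intro h
    rw [hn] at h
    exact hℓp ((Nat.prime_dvd_prime_iff_eq hℓ hpprime).mp (hℓ.dvd_of_dvd_pow h))
  rw [hcardSL, hfacq] at hdvd
  have hdvd2 : ℓ ∣ q - 1 ∨ ℓ ∣ q + 1 := by
    rcases (Nat.Prime.dvd_mul hℓ).mp hdvd with h | h
    · exact absurd h hℓq
    · exact (Nat.Prime.dvd_mul hℓ).mp h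
  by_cases hℓ2 : ℓ = 2
  swap
  · -- odd primes
    have hk2 : 2 ≤ k := by
      by_contra hlt
      have hk1' : k = 1 := by omega
      have hq3 : q = 3 := by omega
      rcases hdvd2 with h | h
      · rw [hq3] at h
        exact hℓ2 ((Nat.prime_dvd_prime_iff_eq hℓ Nat.prime_two).mp h)
      · rw [hq3] at h
        have h4 : (3 + 1 : ℕ) = 2 ^ 2 := by norm_num
        rw [h4] at h
        exact hℓ2 ((Nat.prime_dvd_prime_iff_eq hℓ Nat.prime_two).mp (hℓ.dvd_of_dvd_pow h))
    have hℓ3 : 3 ≤ ℓ := by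
      have := hℓ.two_le
      omega
    have hnot2 : ¬ ℓ ∣ 2 := fun h => hℓ2 ((Nat.prime_dvd_prime_iff_eq hℓ Nat.prime_two).mp h)
    have hnot1 : ¬ ℓ ∣ 1 := fun h => hℓ.one_lt.ne' (Nat.dvd_one.mp h)
    rw [primeDegCount_SL2_odd hk hk2 ℓ]
    have hq' : ¬ ℓ ∣ 2 * k + 1 := by rw [← hk]; exact hℓq
    rcases hdvd2 with h | h
    · rw [primeDegCount_normalizer_odd hodd' ℓ hℓ2 S (q - 1) (Or.inl rfl) h]
      have e1 : q - 1 = 2 * k := by omega
      rw [e1] at h ⊢
      have hk' : ℓ ∣ k := by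
        rcases (Nat.Prime.dvd_mul hℓ).mp h with h2 | h2
        · exact absurd h2 hnot2
        · exact h2
      have h3 : ¬ ℓ ∣ 2 * k + 2 := by
        intro h4
        apply hnot2
        have := Nat.dvd_sub h4 h
        rwa [Nat.add_sub_cancel_left] at this
      have h5 : ¬ ℓ ∣ k + 1 := by
        intro h4
        apply hnot1
        have := Nat.dvd_sub h4 hk'
        rwa [Nat.add_sub_cancel_left] at this
      rw [if_neg hnot1, if_neg hq', if_neg h3, if_pos h, if_neg h5, if_pos hk']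
      omega
    · rw [primeDegCount_normalizer_odd hodd' ℓ hℓ2 S (q + 1) (Or.inr rfl) h]
      have e1 : q + 1 = 2 * (k + 1) := by omega
      rw [e1] at h ⊢
      have hk' : ℓ ∣ k + 1 := by
        rcases (Nat.Prime.dvd_mul hℓ).mp h with h2 | h2
        · exact absurd h2 hnot2
        · exact h2
      have h2k2 : ℓ ∣ 2 * k + 2 := by
        have : 2 * k + 2 = 2 * (k + 1) := by ring
        rw [this]; exact h
      have h3 : ¬ ℓ ∣ 2 * k := by
        intro h4
        apply hnot2
        have := Nat.dvd_sub h2k2 h4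
        rwa [Nat.add_sub_cancel_left] at this
      have h5 : ¬ ℓ ∣ k := by
        intro h4
        apply hnot1
        have := Nat.dvd_sub hk' h4
        rwa [Nat.add_sub_cancel_left] at this
      rw [if_neg hnot1, if_neg hq', if_pos h2k2, if_neg h3, if_pos hk', if_neg h5]
      omega
  -- the prime two
  subst hℓ2
  obtain ⟨k₂, α, β, l, hk₂, hl0, hl, hl2, hord, hkd, hfac, hoα, hβ2, hαn, hβα, hns⟩ :=
    exists_sylow_two_data (F := F) hodd'
  rw [← hq] at hkd
  have hLHS : 2 ≤ k → primeDegCount 2 (Matrix.SpecialLinearGroup (Fin 2) F) = 4 := by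
    intro hk2
    rw [primeDegCount_SL2_odd hk hk2 2]
    have h1 : ¬ (2 ∣ 1) := by norm_num
    have h2 : ¬ (2 ∣ 2 * k + 1) := by omega
    have h3 : 2 ∣ 2 * k + 2 := by omega
    have h4 : 2 ∣ 2 * k := by omega
    rw [if_neg h1, if_neg h2, if_pos h3, if_pos h4]
    rcases Nat.even_or_odd k with he | ho
    · have h5 : 2 ∣ k := he.two_dvd
      have h6 : ¬ 2 ∣ k + 1 := by omega
      rw [if_neg h6, if_pos h5]
      omega
    · have h5 : ¬ 2 ∣ k := by
        intro h; obtain ⟨r, hr⟩ := ho; omega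
      have h6 : 2 ∣ k + 1 := by obtain ⟨r, hr⟩ := ho; omega
      rw [if_pos h6, if_neg h5]
      omega
  by_cases hk₂2 : 2 ≤ k₂
  · -- Sylow subgroups of order at least 16
    have h8 : 8 ∣ 2 ^ (k₂ + 1) := by
      have : (8 : ℕ) = 2 ^ 3 := by norm_num
      rw [this]
      exact Nat.pow_dvd_pow 2 (by omega)
    have hk2 : 2 ≤ k := by
      rcases hkd with h | h
      · have h9 : 8 ∣ q - 1 := h8.trans h
        have := Nat.le_of_dvd (by omega) h9
        omega
      · have h9 : 8 ∣ q + 1 := h8.trans h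
        have := Nat.le_of_dvd (by omega) h9
        omega
    rw [hLHS hk2]
    set φ := Cfsg.Agent.Lib.Helper20.quatLift β α (2 ^ k₂)
      (by rw [← hoα]; exact pow_orderOf_eq_one _) hβ2 hβα with hφdef
    have hφ : Function.Injective φ :=
      Cfsg.Agent.Lib.Helper20.quatLift_injective β α (2 ^ k₂) hoα hβ2 hβα hns
    have hcardrange : Nat.card φ.range =
        2 ^ (Nat.card (Matrix.SpecialLinearGroup (Fin 2) F)).factorization 2 := by
      rw [Nat.card_congr (MonoidHom.ofInjective hφ).toEquiv.symm, Nat.card_eq_fintype_card,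
        QuaternionGroup.card, hfac]
      ring
    rw [primeDegCount_normalizer_sylow S (Sylow.ofCard φ.range hcardrange) 2]
    exact (primeDegCount_two_large hodd' k₂ α β l hk₂2 hl0 hl hl2 hord hkd hoα hβ2 hβα
      φ.range rfl).symm
  · -- Sylow subgroups of order 8
    have hk₂1 : k₂ = 1 := by omega
    rw [hk₂1] at hfac
    obtain ⟨Q, hQcard, hQcount⟩ := exists_sylow_two_small (F := F) hodd' hfac
    rw [primeDegCount_normalizer_sylow S Q 2, hQcount]
    by_cases hk2 : 2 ≤ k
    · exact hLHS hk2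
    · have hq3 : q = 3 := by omega
      have hG24 : Nat.card (Matrix.SpecialLinearGroup (Fin 2) F) = 24 := by
        rw [hcardSL, hq3]; norm_num
      have htop : Subgroup.normalizer ((Q : Subgroup (Matrix.SpecialLinearGroup (Fin 2) F)) :
          Set (Matrix.SpecialLinearGroup (Fin 2) F)) = ⊤ := by
        apply Subgroup.eq_top_of_card_eq
        rw [hQcard, hG24]
      rw [← primeDegCount_of_eq_top _ htop 2, hQcount]

end Cfsg.Agent.S2436
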