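import Cfsg.Statements.S2437

set_option autoImplicit false
open Cfsg

namespace Cfsg.Agent.S2437

section
variable {F : Type*} [Field F]

abbrev Bor (F : Type*) [Field F] : Subgroup (Matrix.SpecialLinearGroup (Fin 2) F) :=
  (Cfsg.upperTriangularGL 2 F).comap Matrix.SpecialLinearGroup.toGL

theorem mem_Bor (g : Matrix.SpecialLinearGroup (Fin 2) F) : g ∈ Bor F ↔ g.1 1 0 = 0 := by
  show Matrix.BlockTriangular (g.1) id ↔ _
  constructor
  · intro h
    exact h (show id (0 : Fin 2) < id 1 by decide)
  · intro h i j hij
    fin_cases i <;> fin_cases j <;> simp_all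

theorem diag_mul (g : Bor F) : g.1.1 0 0 * g.1.1 1 1 = 1 := by
  have h1 := g.1.2
  have h2 := (mem_Bor g.1).1 g.2
  rw [Matrix.det_fin_two, h2, mul_zero, sub_zero] at h1
  exact h1

def toPair (g : Bor F) : Fˣ × F :=
  (⟨g.1.1 0 0, g.1.1 1 1, diag_mul g, by rw [mul_comm]; exact diag_mul g⟩, g.1.1 0 1)

def mkSL (a : Fˣ) (b : F) : Matrix.SpecialLinearGroup (Fin 2) F :=
  ⟨!![(a : F), b; 0, ((a⁻¹ : Fˣ) : F)], by
    rw [Matrix.det_fin_two_of, mul_zero, sub_zero, Units.mul_inv]⟩

def ofPair (x : Fˣ × F) : Bor F := ⟨mkSL x.1 x.2, (mem_Bor _).2 rfl⟩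

def pairEquiv : Bor F ≃ Fˣ × F where
  toFun := toPair
  invFun := ofPair
  left_inv := by
    intro g
    apply Subtype.ext
    apply Subtype.ext
    have h2 := (mem_Bor g.1).1 g.2
    ext i j
    fin_cases i <;> fin_cases j
    · rfl
    · rfl
    · exact h2.symm
    · rfl
  right_inv := by
    intro x
    apply Prod.ext
    · apply Units.ext
      rfl
    · rfl

def alpha (a : Fˣ) : F := (a : F) - ((a⁻¹ : Fˣ) : F)

theorem commute_iff (x y : Fˣ × F) :
    Commute (ofPair x) (ofPair y) ↔ y.2 * alpha x.1 = x.2 * alpha y.1 := by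
  have e : Commute (ofPair x) (ofPair y) ↔
      (mkSL x.1 x.2).1 * (mkSL y.1 y.2).1 = (mkSL y.1 y.2).1 * (mkSL x.1 x.2).1 := by
    constructor
    · intro h
      have := congrArg (fun g : Bor F => g.1.1) h.eq
      exact this
    · intro h
      apply Subtype.ext
      apply Subtype.ext
      exact h
  rw [e]
  simp only [mkSL, alpha, Units.val_inv_eq_inv_val]
  rw [Matrix.mul_fin_two, Matrix.mul_fin_two]
  constructor
  · intro h
    have := congrFun (congrFun h 0) 1
    simp only [Matrix.of_apply, Matrix.cons_val', Matrix.cons_val_zero, Matrix.cons_val_one,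
      Matrix.empty_val', Matrix.cons_val_fin_one] at this
    linear_combination this
  · intro h
    ext i j
    fin_cases i <;> fin_cases j
    · simp [mul_comm]
    · simp
      linear_combination h
    · simp
    · simp [mul_comm]

end

section count
variable {F : Type*} [Field F] [Fintype F] [DecidableEq F]

theorem inner_count (x y : F) :
    (∑ b : F, ∑ d : F, if d * x = b * y then 1 else 0) =
      if x = 0 ∧ y = 0 then (Fintype.card F) ^ 2 else Fintype.card F := by
  by_cases hx : x = 0
  · by_cases hy : y = 0
    · subst hx; subst hy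
      simp [pow_two]
    · subst hx
      rw [if_neg (by tauto)]
      have : ∀ b : F, (∑ d : F, if d * 0 = b * y then 1 else 0) =
          if b = 0 then Fintype.card F else 0 := by
        intro b
        by_cases hb : b = 0
        · subst hb; simp
        · rw [if_neg hb]
          apply Finset.sum_eq_zero
          intro d _
          rw [if_neg]
          rw [mul_zero]
          exact (mul_ne_zero hb hy).symm
      simp only [this]
      simp
  · rw [if_neg (by tauto)]
    have : ∀ b : F, (∑ d : F, if d * x = b * y then 1 else 0) = 1 := by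
      intro b
      have : ∀ d : F, (d * x = b * y) ↔ d = b * y / x := fun d => (eq_div_iff hx).symm
      simp only [this]
      simp
    simp only [this]
    simp

theorem alpha_eq_zero_iff (a : Fˣ) : alpha a = 0 ↔ a = 1 ∨ a = -1 := by
  unfold alpha
  rw [sub_eq_zero]
  constructor
  · intro h
    have h2 : (a : F) * (a : F) = 1 := by
      have h3 : (a : F) * ((a⁻¹ : Fˣ) : F) = 1 := by rw [← Units.val_mul, mul_inv_cancel]; rfl
      rw [← h] at h3
      exact h3
    rcases mul_self_eq_one_iff.1 h2 with h3 | h3
    · left; exact Units.ext h3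
    · right; apply Units.ext; rw [h3]; simp
  · rintro (rfl | rfl)
    · simp
    · simp

theorem card_alpha_zero (hodd : Odd (Fintype.card F)) :
    (Finset.univ.filter (fun a : Fˣ => alpha a = 0)).card = 2 := by
  have hne : (1 : Fˣ) ≠ -1 := by
    intro h
    have h1 : (1 : F) = -1 := by
      have := congrArg (fun u : Fˣ => (u : F)) h
      simpa using this
    have h2 : (2 : F) = 0 := by
      have : (1 : F) + 1 = 0 := by nth_rewrite 2 [h1]; ring
      rw [← this]; norm_num
    have hchar : ringChar F = 2 := by
      have := ringChar.dvd (R := F) (x := 2) (by exact_mod_cast h2)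
      exact (Nat.prime_dvd_prime_iff_eq (CharP.char_is_prime F (ringChar F)) Nat.prime_two).1 this
    have heven : Even (Fintype.card F) := by
      obtain ⟨k, _, hk⟩ := FiniteField.card F (ringChar F)
      rw [hk, hchar]
      exact (Nat.even_pow' (by exact PNat.ne_zero k)).2 even_two
    exact (Nat.not_even_iff_odd.2 hodd) heven
  have : (Finset.univ.filter (fun a : Fˣ => alpha a = 0)) = {1, -1} := by
    ext a
    simp only [Finset.mem_filter, Finset.mem_univ, true_and, Finset.mem_insert,
      Finset.mem_singleton]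
    exact alpha_eq_zero_iff a
  rw [this, Finset.card_pair hne]

theorem zero_sum (hodd : Odd (Fintype.card F)) (c0 : ℕ) :
    (∑ a : Fˣ, ∑ c : Fˣ, if alpha a = 0 ∧ alpha c = 0 then c0 else 0) = 4 * c0 := by
  have h1 : ∀ k : ℕ, (∑ c : Fˣ, if alpha c = 0 then k else 0) = 2 * k := by
    intro k
    rw [Finset.sum_ite, Finset.sum_const, Finset.sum_const_zero, add_zero, smul_eq_mul,
      card_alpha_zero hodd]
  have h2 : ∀ a : Fˣ, (∑ c : Fˣ, if alpha a = 0 ∧ alpha c = 0 then c0 else 0) =
      if alpha a = 0 then 2 * c0 else 0 := by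
    intro a
    by_cases ha : alpha a = 0
    · simp only [ha, true_and, if_true]
      exact h1 c0
    · simp [ha]
  simp only [h2]
  rw [h1]
  ring

theorem outer_count (hodd : Odd (Fintype.card F)) :
    (∑ a : Fˣ, ∑ c : Fˣ, if alpha a = 0 ∧ alpha c = 0 then (Fintype.card F) ^ 2
        else Fintype.card F) + 4 * Fintype.card F =
      4 * (Fintype.card F) ^ 2 + (Fintype.card Fˣ) ^ 2 * Fintype.card F := by
  rw [← zero_sum hodd (Fintype.card F), ← Finset.sum_add_distrib]
  simp only [← Finset.sum_add_distrib]
  have : ∀ a c : Fˣ, ((if alpha a = 0 ∧ alpha c = 0 then (Fintype.card F) ^ 2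
        else Fintype.card F) + if alpha a = 0 ∧ alpha c = 0 then Fintype.card F else 0) =
      (if alpha a = 0 ∧ alpha c = 0 then (Fintype.card F) ^ 2 else 0) + Fintype.card F := by
    intro a c
    split_ifs <;> ring
  simp only [this, Finset.sum_add_distrib, zero_sum hodd, Finset.sum_const, Finset.card_univ,
    smul_eq_mul]
  ring

end count

theorem result {F : Type*} [Field F] [Fintype F] (hodd : Odd (Fintype.card F)) :
    Nat.card (ConjClasses ((Cfsg.upperTriangularGL 2 F).comap Matrix.SpecialLinearGroup.toGL)) = Fintype.card F + 3 := by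
  classical
  have h1 := card_comm_eq_card_conjClasses_mul_card (Bor F)
  let e : {p : Bor F × Bor F // Commute p.1 p.2} ≃
      {x : (Fˣ × F) × (Fˣ × F) // x.2.2 * alpha x.1.1 = x.1.2 * alpha x.2.1} :=
    (pairEquiv.prodCongr pairEquiv).subtypeEquiv (by
      intro p
      have h := commute_iff (toPair p.1) (toPair p.2)
      have e1 : ofPair (toPair p.1) = p.1 := pairEquiv.left_inv p.1
      have e2 : ofPair (toPair p.2) = p.2 := pairEquiv.left_inv p.2
      rw [e1, e2] at h
      exact h)
  have hB : Nat.card (Bor F) = Fintype.card Fˣ * Fintype.card F := by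
    rw [Nat.card_congr (pairEquiv (F := F)), Nat.card_eq_fintype_card, Fintype.card_prod]
  have hT : Nat.card {p : Bor F × Bor F // Commute p.1 p.2} =
      ∑ a : Fˣ, ∑ c : Fˣ, if alpha a = 0 ∧ alpha c = 0 then (Fintype.card F) ^ 2
        else Fintype.card F := by
    rw [Nat.card_congr e, Nat.card_eq_fintype_card, Fintype.card_subtype, Finset.card_filter,
      Fintype.sum_prod_type]
    simp only [Fintype.sum_prod_type]
    apply Finset.sum_congr rfl
    intro a _
    rw [Finset.sum_comm]
    apply Finset.sum_congr rfl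
    intro c _
    exact inner_count (alpha a) (alpha c)
  rw [hT, hB] at h1
  have h2 := outer_count (F := F) hodd
  rw [h1] at h2
  have hm : Fintype.card Fˣ + 1 = Fintype.card F := by
    rw [Fintype.card_units]
    have : 0 < Fintype.card F := Fintype.card_pos
    omega
  have hmpos : 0 < Fintype.card Fˣ := Fintype.card_pos
  set m := Fintype.card Fˣ with hmdef
  set N := Nat.card (ConjClasses (Bor F)) with hN
  rw [← hm] at h2 ⊢
  have h3 : N * (m * (m + 1)) = (m + 4) * (m * (m + 1)) := by nlinarith [h2]
  have h4 : N = m + 4 := Nat.eq_of_mul_eq_mul_right (by positivity) h3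
  show N = m + 1 + 3
  omega

end Cfsg.Agent.S2437
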