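import Cfsg.Statements.S2450
import Cfsg.Agent.Lib.Helper41.SL2

set_option autoImplicit false
set_option linter.unusedSimpArgs false
open Cfsg

namespace Cfsg.Agent.S2450

open Cfsg.Agent.Lib.Helper41 Polynomial

local notation "SL₂(" F ")" => Matrix.SpecialLinearGroup (Fin 2) F
local notation "PSL₂(" F ")" => Matrix.ProjectiveSpecialLinearGroup (Fin 2) F

/-- The trace of `A * (E v * B * (E v)⁻¹)` as a quadratic polynomial in `v`. -/
theorem trace_formula {F : Type*} [Field F] (A B : SL₂(F)) (v : F) :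
    tr2 (A * (mkSL2 1 v 0 1 (by ring) * B * (mkSL2 1 v 0 1 (by ring))⁻¹)) =
      tr2 (A * B) + (A 0 0 * B 1 0 - A 1 0 * B 0 0 + A 1 0 * B 1 1 - A 1 1 * B 1 0) * v
        - A 1 0 * B 1 0 * v ^ 2 := by
  simp only [tr2, sl2_mul_00, sl2_mul_01, sl2_mul_10, sl2_mul_11, sl2_inv_00, sl2_inv_01,
    sl2_inv_10, sl2_inv_11, mkSL2_00, mkSL2_01, mkSL2_10, mkSL2_11]
  ring

/-- The Arad–Herzog conjecture for PSL(2,q): let F be a finite field with q ≥ 4 elements. For any two non-identity elements a, b of PSL(2,F), the set of products of a conjugate of a with a conjugate of b is not a single conjugacy class. -/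
theorem result {F : Type*} [Field F] [Fintype F] (h4 : 4 ≤ Fintype.card F)
    (a b : Matrix.ProjectiveSpecialLinearGroup (Fin 2) F) (ha : a ≠ 1) (hb : b ≠ 1) (c : Matrix.ProjectiveSpecialLinearGroup (Fin 2) F) :
    {g : Matrix.ProjectiveSpecialLinearGroup (Fin 2) F | ∃ u v : Matrix.ProjectiveSpecialLinearGroup (Fin 2) F, g = (u * a * u⁻¹) * (v * b * v⁻¹)} ≠ {g | IsConj c g} := by
  intro hset
  obtain ⟨A, rfl⟩ := QuotientGroup.mk_surjective a
  obtain ⟨B, rfl⟩ := QuotientGroup.mk_surjective b
  have hA : A ∉ Subgroup.center (SL₂(F)) := fun h => ha ((QuotientGroup.eq_one_iff A).mpr h)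
  have hB : B ∉ Subgroup.center (SL₂(F)) := fun h => hb ((QuotientGroup.eq_one_iff B).mpr h)
  obtain ⟨U, hU⟩ := exists_conj_entry_ne_zero hA
  obtain ⟨V, hV⟩ := exists_conj_entry_ne_zero hB
  set A' := U * A * U⁻¹ with hA'
  set B' := V * B * V⁻¹ with hB'
  -- every product is conjugate to `c`
  have hconj : ∀ v : F, IsConj c
      ((A' * (mkSL2 1 v 0 1 (by ring) * B' * (mkSL2 1 v 0 1 (by ring))⁻¹) : SL₂(F)) : PSL₂(F)) := by
    intro v
    have : ((A' * (mkSL2 1 v 0 1 (by ring) * B' * (mkSL2 1 v 0 1 (by ring))⁻¹) : SL₂(F)) : PSL₂(F)) ∈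
        {g : PSL₂(F) | ∃ u v : PSL₂(F), g = (u * (A : PSL₂(F)) * u⁻¹) * (v * (B : PSL₂(F)) * v⁻¹)} := by
      refine ⟨(U : PSL₂(F)), ((mkSL2 1 v 0 1 (by ring) * V : SL₂(F)) : PSL₂(F)), ?_⟩
      rw [hA', hB']
      simp only [QuotientGroup.mk_mul, QuotientGroup.mk_inv]
      group
    rw [hset] at this
    exact this
  have htr : ∀ v : F,
      tr2 (A' * (mkSL2 1 v 0 1 (by ring) * B' * (mkSL2 1 v 0 1 (by ring))⁻¹)) = tr2 (A' * B') ∨
      tr2 (A' * (mkSL2 1 v 0 1 (by ring) * B' * (mkSL2 1 v 0 1 (by ring))⁻¹)) = - tr2 (A' * B') := by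
    intro v
    have h0 := hconj 0
    have hv := hconj v
    have h0' : (mkSL2 (1 : F) 0 0 1 (by ring)) = 1 := by
      apply sl2_ext <;> simp
    rw [h0'] at h0
    simp only [one_mul, inv_one, mul_one] at h0
    exact tr2_of_isConj (h0.symm.trans hv)
  simp only [trace_formula] at htr
  set s := tr2 (A' * B') with hs
  set β := (A' 0 0 * B' 1 0 - A' 1 0 * B' 0 0 + A' 1 0 * B' 1 1 - A' 1 1 * B' 1 0) with hβ
  set γ := A' 1 0 * B' 1 0 with hγ
  have hγ0 : γ ≠ 0 := mul_ne_zero hU hV
  rcases Nat.lt_or_ge 4 (Fintype.card F) with h5 | h4'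
  · -- at least 5 elements: quartic with too many roots
    let P : F[X] := (C β * X - C γ * X ^ 2) * (C β * X - C γ * X ^ 2 + C (2 * s))
    have hdeg : P.natDegree ≤ 4 := by
      have h1 : (C β * X - C γ * X ^ 2).natDegree ≤ 2 := by
        compute_degree
      have h2 : (C β * X - C γ * X ^ 2 + C (2 * s)).natDegree ≤ 2 := by
        compute_degree
      calc P.natDegree ≤ (C β * X - C γ * X ^ 2).natDegree + (C β * X - C γ * X ^ 2 + C (2 * s)).natDegree :=
            natDegree_mul_le
        _ ≤ 4 := by omega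
    have heval : ∀ v : F, P.eval (id v) = 0 := by
      intro v
      simp only [P, id, eval_mul, eval_sub, eval_add, eval_C, eval_X, eval_pow]
      rcases htr v with h | h
      · have : β * v - γ * v ^ 2 = 0 := by linear_combination h
        rw [this, zero_mul]
      · have : β * v - γ * v ^ 2 + 2 * s = 0 := by linear_combination h
        rw [this, mul_zero]
    have hP0 : P = 0 :=
      eq_zero_of_natDegree_lt_card_of_eval_eq_zero P Function.injective_id heval (by omega)
    rcases mul_eq_zero.mp hP0 with h0 | h0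
    · have hcoeff : (C β * X - C γ * X ^ 2).coeff 2 = -γ := by
        simp [coeff_X, coeff_C]
      rw [h0] at hcoeff
      simp at hcoeff
      exact hγ0 hcoeff
    · have hcoeff : (C β * X - C γ * X ^ 2 + C (2 * s)).coeff 2 = -γ := by
        simp [coeff_X, coeff_C]
      rw [h0] at hcoeff
      simp at hcoeff
      exact hγ0 hcoeff
  · -- exactly 4 elements: characteristic two, quadratic with too many roots
    have hcard : Fintype.card F = 4 := le_antisymm h4' h4
    have h2 : (2 : F) = 0 := by
      have h := Nat.cast_card_eq_zero F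
      rw [hcard] at h
      have : (2 : F) * 2 = 0 := by
        have : ((4 : ℕ) : F) = 2 * 2 := by norm_num
        rw [← this]; exact h
      exact mul_self_eq_zero.mp this
    have hneg : ∀ x : F, -x = x := by
      intro x
      have : x + x = 0 := by linear_combination x * h2
      exact neg_eq_of_add_eq_zero_left this
    let P : F[X] := C β * X - C γ * X ^ 2
    have hdeg : P.natDegree ≤ 2 := by
      simp only [P]; compute_degree
    have heval : ∀ v : F, P.eval (id v) = 0 := by
      intro v
      simp only [P, id, eval_sub, eval_mul, eval_C, eval_X, eval_pow]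
      rcases htr v with h | h
      · linear_combination h
      · rw [hneg] at h; linear_combination h
    have hP0 : P = 0 :=
      eq_zero_of_natDegree_lt_card_of_eval_eq_zero P Function.injective_id heval (by omega)
    have hcoeff : P.coeff 2 = -γ := by
      simp [P, coeff_X, coeff_C]
    rw [hP0] at hcoeff
    simp at hcoeff
    exact hγ0 hcoeff

end Cfsg.Agent.S2450
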