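import Cfsg.Statements.S2455
import Cfsg.Agent.Lib.Helper41.SL2Conj

set_option autoImplicit false
set_option linter.unusedSimpArgs false
set_option linter.unusedVariables false
open Cfsg

namespace Cfsg.Agent.S2455

open Cfsg.Agent.Lib.Helper41

local notation "SL₂(" F ")" => Matrix.SpecialLinearGroup (Fin 2) F
local notation "PSL₂(" F ")" => Matrix.ProjectiveSpecialLinearGroup (Fin 2) F

/-- From a point on the conic, a factorisation of the scaled companion matrix. -/
theorem factor_of_conic {F : Type*} [Field F] (τ s c ε c' d : F) (hc : c ≠ 0)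
    (hQ : d ^ 2 - s * c' * d + c' ^ 2 - τ * d + (s - ε) * τ * c' + 1 = 0) :
    ∃ Y Z : SL₂(F), tr2 Z = τ ∧ tr2 Y = ε * τ ∧ Y * Z = scomp c s hc := by
  refine ⟨mkSL2 c' (-(τ - d) / c) (c * (d - s * c')) (ε * τ - c') ?_,
    mkSL2 (τ - d) ((c' + s * (τ - d) - ε * τ) / c) (c * c') d ?_, ?_, ?_, ?_⟩
  · field_simp
    linear_combination (-1 : F) * hQ
  · field_simp
    linear_combination (-1 : F) * hQ
  · simp only [tr2, mkSL2_00, mkSL2_11]; ring
  · simp only [tr2, mkSL2_00, mkSL2_11]; ring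
  · apply sl2_ext
    · simp only [scomp, sl2_mul_00, mkSL2_00, mkSL2_01, mkSL2_10, mkSL2_11]
      field_simp
      ring
    · simp only [scomp, sl2_mul_01, mkSL2_00, mkSL2_01, mkSL2_10, mkSL2_11]
      field_simp
      linear_combination hQ
    · simp only [scomp, sl2_mul_10, mkSL2_00, mkSL2_01, mkSL2_10, mkSL2_11]
      field_simp
      linear_combination (-1 : F) * hQ
    · simp only [scomp, sl2_mul_11, mkSL2_00, mkSL2_01, mkSL2_10, mkSL2_11]
      field_simp
      linear_combination (-s) * hQ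

/-- Existence of a factorisation with traces `τ` and `± τ`. -/
theorem exists_factor {F : Type*} [Field F] [Fintype F] (hodd : Fintype.card F % 2 = 1)
    (τ s c : F) (hτ0 : τ ≠ 0) (hc : c ≠ 0) :
    ∃ (ε : F) (Y Z : SL₂(F)), (ε = 1 ∨ ε = -1) ∧ tr2 Z = τ ∧ tr2 Y = ε * τ ∧
      Y * Z = scomp c s hc := by
  have h2 : (2 : F) ≠ 0 := by
    intro h
    have h4 : (Fintype.card F : F) = 0 := Nat.cast_card_eq_zero F
    have : (Fintype.card F : F) = 1 := by
      have hq : Fintype.card F = 2 * (Fintype.card F / 2) + 1 := by omega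
      rw [hq]; push_cast; rw [h]; ring
    rw [this] at h4
    exact one_ne_zero h4
  have h4 : (4 : F) ≠ 0 := by
    have : (4 : F) = 2 * 2 := by norm_num
    rw [this]; exact mul_ne_zero h2 h2
  by_cases hs4 : s ^ 2 = 4
  · have h0 : (s - 2) * (s + 2) = 0 := by linear_combination hs4
    rcases mul_eq_zero.mp h0 with h | h
    · -- s = 2 : ε = -1
      have hs : s = 2 := by linear_combination h
      obtain ⟨Y, Z, hZ, hY, hYZ⟩ := factor_of_conic τ s c (-1) (-1 / (2 * τ)) (-1 / (2 * τ)) hc (by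
        rw [hs]; field_simp; ring)
      exact ⟨-1, Y, Z, Or.inr rfl, hZ, hY, hYZ⟩
    · -- s = -2 : ε = 1
      have hs : s = -2 := by linear_combination h
      obtain ⟨Y, Z, hZ, hY, hYZ⟩ := factor_of_conic τ s c 1 (1 / (2 * τ)) (-(1 / (2 * τ))) hc (by
        rw [hs]; field_simp; ring)
      exact ⟨1, Y, Z, Or.inl rfl, hZ, hY, hYZ⟩
  · have ha₂ : 4 - s ^ 2 ≠ 0 := by
      intro h
      apply hs4
      linear_combination -h
    obtain ⟨v, c', h⟩ := exists_quadratic_sum_eq_zero hodd 1 (-2 * τ) (4 - s ^ 2)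
      ((2 * s - 4) * τ) 4 one_ne_zero ha₂
    set d := (v + s * c') / 2 with hd'
    have hd : 2 * d = v + s * c' := by rw [hd']; field_simp
    have h4Q : 4 * (d ^ 2 - s * c' * d + c' ^ 2 - τ * d + (s - 1) * τ * c' + 1) = 0 := by
      linear_combination h + (2 * d + v + s * c' - 2 * s * c' - 2 * τ) * hd
    have hQ := (mul_eq_zero.mp h4Q).resolve_left h4
    obtain ⟨Y, Z, hZ, hY, hYZ⟩ := factor_of_conic τ s c 1 c' d hc hQ
    exact ⟨1, Y, Z, Or.inl rfl, hZ, hY, hYZ⟩

/-- A strong covering result in the direction of Thompson's conjecture (non-identity elements) for PSL(2,q), q odd: let F be a finite field of odd characteristic p with at least 5 elements and let x ∈ PSL(2,F) have order greater than 2 and not divisible by p (so x is not unipotent). Then every non-identity element of PSL(2,F) is a product of two conjugates of x. -/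
theorem result {F : Type*} [Field F] [Fintype F] (p : ℕ) [Fact p.Prime] [CharP F p] (hp : p ≠ 2) (h5 : 5 ≤ Fintype.card F)
    (x : Matrix.ProjectiveSpecialLinearGroup (Fin 2) F) (hx2 : 2 < orderOf x) (hxp : ¬ p ∣ orderOf x) : ∀ g : Matrix.ProjectiveSpecialLinearGroup (Fin 2) F, g ≠ 1 → ∃ u v : Matrix.ProjectiveSpecialLinearGroup (Fin 2) F, g = (u * x * u⁻¹) * (v * x * v⁻¹) := by
  have hpp : p.Prime := Fact.out
  obtain ⟨X, rfl⟩ := QuotientGroup.mk_surjective x
  have hodd : Fintype.card F % 2 = 1 := by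
    obtain ⟨k, -, hk⟩ := FiniteField.card F p
    rw [hk, ← Nat.odd_iff]
    exact (hpp.odd_of_ne_two hp).pow
  have hX : X ∉ Subgroup.center (SL₂(F)) := by
    intro h
    have : ((X : SL₂(F)) : PSL₂(F)) = 1 := (QuotientGroup.eq_one_iff X).mpr h
    rw [this, orderOf_one] at hx2
    omega
  have hτ0 : tr2 X ≠ 0 := by
    intro h0
    have : orderOf ((X : SL₂(F)) : PSL₂(F)) ∣ 2 := by
      rw [psl2_orderOf_dvd_iff hX, h0]
      simp [lucasU_add_two]
    have := Nat.le_of_dvd (by norm_num) this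
    omega
  have hτ4 : tr2 X ^ 2 ≠ 4 := by
    intro h4
    have hp0 : ((p : ℕ) : F) = 0 := CharP.cast_eq_zero F p
    have hdvd : orderOf ((X : SL₂(F)) : PSL₂(F)) ∣ p := by
      rw [psl2_orderOf_dvd_iff hX]
      have h0 : (tr2 X - 2) * (tr2 X + 2) = 0 := by linear_combination h4
      rcases mul_eq_zero.mp h0 with h | h
      · have : tr2 X = 2 := by linear_combination h
        rw [this, lucasU_two, hp0]
      · have : tr2 X = -2 := by linear_combination h
        rw [this, lucasU_neg_two, hp0, mul_zero]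
    rcases (Nat.dvd_prime hpp).mp hdvd with h1 | h1
    · rw [h1] at hx2; omega
    · exact hxp (by rw [h1])
  have hN : NormUniversal (tr2 X) := normUniversal_of_odd hodd _ hτ4
  intro g hg
  obtain ⟨G, rfl⟩ := QuotientGroup.mk_surjective g
  have hG : G ∉ Subgroup.center (SL₂(F)) := fun h => hg ((QuotientGroup.eq_one_iff G).mpr h)
  obtain ⟨W, c, hc, hW⟩ := exists_conj_eq_scomp hG
  obtain ⟨ε, Y, Z, hε, hZt, hYt, hYZ⟩ := exists_factor hodd (tr2 X) (tr2 G) c hτ0 hc
  have hZc : Z ∉ Subgroup.center (SL₂(F)) := not_mem_center_of_tr2_sq_ne_four (by rw [hZt]; exact hτ4)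
  rcases hε with rfl | rfl
  · rw [one_mul] at hYt
    have hYc : Y ∉ Subgroup.center (SL₂(F)) :=
      not_mem_center_of_tr2_sq_ne_four (by rw [hYt]; exact hτ4)
    exact psl2_prod_of_factor hX hN hYc hZc hYt hZt (congrArg _ (hW.trans hYZ.symm))
  · have hYt' : tr2 (negSL2 Y) = tr2 X := by rw [tr2_negSL2, hYt]; ring
    have hYc : negSL2 Y ∉ Subgroup.center (SL₂(F)) :=
      not_mem_center_of_tr2_sq_ne_four (by rw [hYt']; exact hτ4)
    apply psl2_prod_of_factor hX hN hYc hZc hYt' hZt (W := W)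
    rw [hW, ← hYZ, QuotientGroup.mk_mul, QuotientGroup.mk_mul, mk_negSL2]

end Cfsg.Agent.S2455
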