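import Cfsg.Statements.S2456
import Cfsg.Agent.Lib.Helper41.SL2Conj
import Cfsg.Agent.Lib.Helper41.SL2Eigen

set_option autoImplicit false
set_option linter.unusedSimpArgs false
set_option linter.unusedVariables false
open Cfsg

namespace Cfsg.Agent.S2456

open Cfsg.Agent.Lib.Helper41

local notation "SL₂(" F ")" => Matrix.SpecialLinearGroup (Fin 2) F
local notation "PSL₂(" F ")" => Matrix.ProjectiveSpecialLinearGroup (Fin 2) F

/-- A strong covering result in the direction of Thompson's conjecture (non-identity elements) for PSL(2,q), q even: let F be a finite field of characteristic 2 with q ≥ 4 elements and let x ∈ PSL(2,F) have order greater than 2 and not dividing q + 1. Then every non-identity element of PSL(2,F) is a product of two conjugates of x. -/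
theorem result {F : Type*} [Field F] [Fintype F] [CharP F 2] (h4 : 4 ≤ Fintype.card F)
    (x : Matrix.ProjectiveSpecialLinearGroup (Fin 2) F) (hx2 : 2 < orderOf x) (hxq : ¬ orderOf x ∣ Fintype.card F + 1) : ∀ g : Matrix.ProjectiveSpecialLinearGroup (Fin 2) F, g ≠ 1 → ∃ u v : Matrix.ProjectiveSpecialLinearGroup (Fin 2) F, g = (u * x * u⁻¹) * (v * x * v⁻¹) := by
  obtain ⟨X, rfl⟩ := QuotientGroup.mk_surjective x
  set q := Fintype.card F with hq
  have h2F : (2 : F) = 0 := by
    have := CharP.cast_eq_zero F 2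
    exact_mod_cast this
  have hX : X ∉ Subgroup.center (SL₂(F)) := by
    intro h
    have : ((X : SL₂(F)) : PSL₂(F)) = 1 := (QuotientGroup.eq_one_iff X).mpr h
    rw [this, orderOf_one] at hx2
    omega
  have hτ0 : tr2 X ≠ 0 := by
    intro h0
    have : orderOf ((X : SL₂(F)) : PSL₂(F)) ∣ 2 := by
      rw [psl2_orderOf_dvd_iff hX, h0]
      simp [lucasU_add_two]
    have := Nat.le_of_dvd (by norm_num) this
    omega
  obtain ⟨l, hl0, hl, hroot⟩ := exists_eigen (tr2 X)
  have hl2 : l ^ 2 ≠ 1 := by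
    intro h
    apply hτ0
    apply (algebraMap F (AlgebraicClosure F)).injective
    rw [← hl, map_zero]
    have hinv : l⁻¹ = l := by
      apply inv_eq_of_mul_eq_one_right
      rw [← pow_two]; exact h
    rw [hinv]
    have h2K : (2 : AlgebraicClosure F) = 0 := by
      have := congrArg (algebraMap F (AlgebraicClosure F)) h2F
      rwa [map_ofNat, map_zero] at this
    linear_combination l * h2K
  have hsplit : l ^ (q - 1) = 1 := by
    rcases hroot with h | h
    · exact h
    · exfalso
      apply hxq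
      rw [psl2_orderOf_dvd_iff_eigen _ hl0 hl hl2]
      exact dvd_trans (orderOf_dvd_of_pow_eq_one h) (dvd_mul_left _ _)
  have hlq : l ^ q = l := by
    have hq1 : 1 ≤ q := Fintype.card_pos
    calc l ^ q = l ^ (q - 1 + 1) := by rw [Nat.sub_add_cancel hq1]
      _ = l := by rw [pow_succ, hsplit, one_mul]
  obtain ⟨y, hy⟩ := mem_range_of_pow_card_eq (F := F) l hlq
  have hy0 : y ≠ 0 := by
    rintro rfl
    rw [map_zero] at hy
    exact hl0 hy.symm
  have hy2 : y ^ 2 ≠ 1 := by
    intro h
    apply hl2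
    rw [← hy, ← map_pow, h, map_one]
  have hyτ : y + y⁻¹ = tr2 X := by
    apply (algebraMap F (AlgebraicClosure F)).injective
    rw [← hl, map_add, map_inv₀, hy]
  have hN : NormUniversal (tr2 X) := by
    rw [← hyτ]; exact normUniversal_of_split y hy0 hy2
  -- now the covering
  intro g hg
  obtain ⟨G, rfl⟩ := QuotientGroup.mk_surjective g
  have hG : G ∉ Subgroup.center (SL₂(F)) := fun h => hg ((QuotientGroup.eq_one_iff G).mpr h)
  obtain ⟨W, c, hc, hW⟩ := exists_conj_eq_scomp hG
  set s := tr2 G with hs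
  set τ := tr2 X with hτ
  have hcy : c * y ≠ 0 := mul_ne_zero hc hy0
  let Z : SL₂(F) := mkSL2 y⁻¹ ((s * y⁻¹ - τ) / c) 0 y (by field_simp; ring)
  let Y : SL₂(F) := scomp (c * y) τ hcy
  have hYZ : W * G * W⁻¹ = Y * Z := by
    rw [hW]
    apply sl2_ext
    · simp only [Y, Z, scomp, sl2_mul_00, mkSL2_00, mkSL2_01, mkSL2_10, mkSL2_11]
      ring
    · simp only [Y, Z, scomp, sl2_mul_01, mkSL2_00, mkSL2_01, mkSL2_10, mkSL2_11]
      field_simp
      ring
    · simp only [Y, Z, scomp, sl2_mul_10, mkSL2_00, mkSL2_01, mkSL2_10, mkSL2_11]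
      field_simp
      ring
    · simp only [Y, Z, scomp, sl2_mul_11, mkSL2_00, mkSL2_01, mkSL2_10, mkSL2_11]
      field_simp
      ring
  have hYc : Y ∉ Subgroup.center (SL₂(F)) := scomp_not_mem_center _ _ _
  have hZc : Z ∉ Subgroup.center (SL₂(F)) := by
    rw [sl2_mem_center_iff]
    simp only [Z, mkSL2_00, mkSL2_01, mkSL2_10, mkSL2_11]
    rintro ⟨-, -, h⟩
    apply hy2
    field_simp at h
    exact h.symm
  have hYt : tr2 Y = tr2 X := by simp only [Y, tr2_scomp, hτ]
  have hZt : tr2 Z = tr2 X := by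
    rw [← hτ, ← hyτ]
    simp only [Z, tr2, mkSL2_00, mkSL2_11]
    ring
  exact psl2_prod_of_factor hX hN hYc hZc hYt hZt (congrArg _ hYZ)

end Cfsg.Agent.S2456
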