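-- Statement S2459: see Cfsg/Templates/S2459.lean.txt
import Cfsg.Statements.S2459
import Cfsg.Agent.Lib.Helper65.SF.Main

set_option autoImplicit false
open Cfsg

namespace Cfsg.Agent.S2459

open Matrix
open Cfsg.Agent.Lib.Helper65.SF

theorem exists_t {F : Type*} [Field F] [Fintype F] (h4 : 4 ≤ Fintype.card F) :
    ∃ t : F, t ≠ 0 ∧ t ^ 2 ≠ 1 := by
  classical
  have hcard : ({0, 1, -1} : Finset F).card < Fintype.card F := by
    calc ({0, 1, -1} : Finset F).card ≤ 3 := Finset.card_le_three
      _ < Fintype.card F := h4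
  obtain ⟨t, ht⟩ : ∃ t : F, t ∉ ({0, 1, -1} : Finset F) := by
    by_contra hcon
    push Not at hcon
    have : Finset.univ ⊆ ({0, 1, -1} : Finset F) := fun x _ => hcon x
    have := Finset.card_le_card this
    rw [Finset.card_univ] at this
    omega
  simp only [Finset.mem_insert, Finset.mem_singleton, not_or] at ht
  refine ⟨t, ht.1, ?_⟩
  intro h
  have : (t - 1) * (t + 1) = 0 := by ring_nf; rw [h]; ring
  rcases mul_eq_zero.mp this with h1 | h1
  · exact ht.2.1 (sub_eq_zero.mp h1)
  · exact ht.2.2 (eq_neg_of_add_eq_zero_left h1)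

theorem not_dvd_of_dvd_pred {F : Type*} [Field F] [Fintype F] (p : ℕ) [Fact p.Prime] [CharP F p]
    (m : ℕ) (hm : m ∣ Fintype.card F - 1) : ¬ p ∣ m := by
  intro hpm
  obtain ⟨n, -, hn⟩ := FiniteField.card F p
  have hp : p.Prime := Fact.out
  have h1 : p ∣ Fintype.card F := by rw [hn]; exact dvd_pow_self p n.ne_zero
  have h2 : p ∣ Fintype.card F - 1 := dvd_trans hpm hm
  have hpos : 1 ≤ Fintype.card F := Fintype.card_pos
  have : p ∣ 1 := by
    have := Nat.dvd_sub h1 h2
    rwa [Nat.sub_sub_self hpos] at this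
  exact hp.one_lt.ne' (Nat.dvd_one.mp this)

/-- A form of Thompson's conjecture for PSL(3,q), q > 2 (covering the non-identity elements), with a semisimple class: for F a finite field of characteristic p with more than 2 elements there is an element x of PSL(3,F) of order prime to p such that every non-identity element of PSL(3,F) is a product of two conjugates of x. -/
theorem result {F : Type*} [Field F] [Fintype F] (p : ℕ) [Fact p.Prime] [CharP F p] (h3 : 3 ≤ Fintype.card F) :
    ∃ x : Matrix.ProjectiveSpecialLinearGroup (Fin 3) F, ¬ p ∣ orderOf x ∧ ∀ g : Matrix.ProjectiveSpecialLinearGroup (Fin 3) F, g ≠ 1 → ∃ u v : Matrix.ProjectiveSpecialLinearGroup (Fin 3) F, g = (u * x * u⁻¹) * (v * x * v⁻¹) := by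
  classical
  rcases Nat.lt_or_ge (Fintype.card F) 4 with hlt | h4
  · -- the field with three elements
    have hF : Fintype.card F = 3 := by omega
    have hp3 : p = 3 := by
      obtain ⟨n, hp, hn⟩ := FiniteField.card F p
      rw [hF] at hn
      have : p ∣ 3 := by rw [hn]; exact dvd_pow_self p n.ne_zero
      exact (Nat.prime_dvd_prime_iff_eq hp Nat.prime_three).mp this
    have hdet : (!![1, 0, 0; 0, 0, 1; 0, -1, 0] : Matrix (Fin 3) (Fin 3) F).det = 1 := by
      rw [Matrix.det_fin_three]; simp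
    obtain ⟨s, hs⟩ : ∃ s : Matrix.SpecialLinearGroup (Fin 3) F,
        s.val = !![1, 0, 0; 0, 0, 1; 0, -1, 0] := ⟨⟨_, hdet⟩, rfl⟩
    have hk : s ^ 4 = 1 := by
      apply Subtype.ext
      rw [Matrix.SpecialLinearGroup.coe_pow, hs]
      ext i j
      fin_cases i <;> fin_cases j <;> simp [pow_succ, Matrix.mul_apply, Fin.sum_univ_three]
    obtain ⟨x, hx, hcov⟩ := psl3_of_sl3 s 4 hk (fun g hns => sl3_three_two_conj hF s hs g (by
      rintro rfl
      exact hns ⟨1, by simp⟩))
    refine ⟨x, ?_, hcov⟩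
    rw [hp3]
    intro h
    have : 3 ∣ 4 := dvd_trans h hx
    omega
  · obtain ⟨t, ht0, ht⟩ := exists_t h4
    have hdet : (Matrix.diagonal (sDiag t)).det = 1 := by
      rw [Matrix.det_diagonal, Fin.prod_univ_three]
      simp [sDiag, ht0]
    obtain ⟨s, hs⟩ : ∃ s : Matrix.SpecialLinearGroup (Fin 3) F,
        s.val = Matrix.diagonal (sDiag t) := ⟨⟨_, hdet⟩, rfl⟩
    have hk : s ^ (Fintype.card F - 1) = 1 := by
      apply Subtype.ext
      rw [Matrix.SpecialLinearGroup.coe_pow, hs, Matrix.diagonal_pow]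
      have : (sDiag t) ^ (Fintype.card F - 1) = fun _ => 1 := by
        funext i
        rw [Pi.pow_apply]
        apply FiniteField.pow_card_sub_one_eq_one
        fin_cases i <;> simp [sDiag, ht0]
      rw [this]
      exact Matrix.diagonal_one
    obtain ⟨x, hx, hcov⟩ := psl3_of_sl3 s _ hk (fun g hns => sl3_two_conj t ht0 ht s hs g hns)
    exact ⟨x, not_dvd_of_dvd_pred p _ hx, hcov⟩

end Cfsg.Agent.S2459
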