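import Cfsg.Statements.S2466
import Cfsg.Agent.Lib.Helper41.AltSpectrum

set_option autoImplicit false
open Cfsg

namespace Cfsg.Agent.S2466

open Cfsg.Agent.Lib.Helper41

theorem exists_dvd_of_prime_dvd_lcm {p : ℕ} (hp : p.Prime) (c : Multiset ℕ) (h : p ∣ c.lcm) :
    ∃ a ∈ c, p ∣ a := by
  induction c using Multiset.induction_on with
  | empty =>
    simp at h
    exact absurd h hp.one_lt.ne'
  | cons a s ih =>
    rw [Multiset.lcm_cons, lcm_eq_nat_lcm] at h
    have h' : p ∣ a * s.lcm := dvd_trans h (Nat.lcm_dvd_mul a s.lcm)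
    rcases hp.dvd_mul.mp h' with h1 | h1
    · exact ⟨a, Multiset.mem_cons_self a s, h1⟩
    · obtain ⟨b, hb, hpb⟩ := ih h1
      exact ⟨b, Multiset.mem_cons_of_mem hb, hpb⟩

/-- Adjacency of odd primes in the prime graph of the alternating groups: let r ≠ s be odd primes at most n. The alternating group of degree n has an element of order r·s if and only if r + s ≤ n. -/
theorem result (n r s : ℕ) (hr : r.Prime) (hs : s.Prime) (hr2 : r ≠ 2) (hs2 : s ≠ 2) (hrs : r ≠ s) (hrn : r ≤ n) (hsn : s ≤ n) :
    (r * s ∈ Set.range (orderOf : alternatingGroup (Fin n) → ℕ)) ↔ r + s ≤ n := by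
  rw [mem_range_orderOf_alternating_iff]
  have hro : Odd r := hr.odd_of_ne_two hr2
  have hso : Odd s := hs.odd_of_ne_two hs2
  have hcop : Nat.Coprime r s := (Nat.coprime_primes hr hs).mpr hrs
  constructor
  · rintro ⟨c, h2, hsum, -, hlcm⟩
    obtain ⟨a, ha, hra⟩ := exists_dvd_of_prime_dvd_lcm hr c (by rw [hlcm]; exact dvd_mul_right r s)
    obtain ⟨b, hb, hsb⟩ := exists_dvd_of_prime_dvd_lcm hs c (by rw [hlcm]; exact dvd_mul_left s r)
    by_cases hab : a = b
    · subst hab
      have hrsa : r * s ∣ a := hcop.mul_dvd_of_dvd_of_dvd hra hsb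
      have ha0 : 0 < a := by have := h2 a ha; omega
      have h1 : r * s ≤ a := Nat.le_of_dvd ha0 hrsa
      have h3 : a ≤ c.sum := Multiset.single_le_sum (fun _ _ => Nat.zero_le _) a ha
      have h4 : r + s ≤ r * s := by
        have := hr.two_le; have := hs.two_le
        nlinarith
      omega
    · obtain ⟨c', rfl⟩ := Multiset.exists_cons_of_mem ha
      have hb' : b ∈ c' := by
        rcases Multiset.mem_cons.mp hb with h | h
        · exact absurd h.symm hab
        · exact h
      have h3 : b ≤ c'.sum := Multiset.single_le_sum (fun _ _ => Nat.zero_le _) b hb'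
      rw [Multiset.sum_cons] at hsum
      have h5 : r ≤ a := Nat.le_of_dvd (by have := h2 a ha; omega) hra
      have h6 : s ≤ b := Nat.le_of_dvd (by have := h2 b hb; omega) hsb
      omega
  · intro h
    refine ⟨{r, s}, ?_, ?_, ?_, ?_⟩
    · intro a ha
      simp only [Multiset.insert_eq_cons, Multiset.mem_cons, Multiset.mem_singleton] at ha
      rcases ha with rfl | rfl
      · exact hr.two_le
      · exact hs.two_le
    · simpa using h
    · simp only [Multiset.insert_eq_cons, Multiset.sum_cons, Multiset.sum_singleton,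
        Multiset.card_cons, Multiset.card_singleton]
      have := hro.add_odd hso
      rcases this with ⟨k, hk⟩
      exact ⟨k + 1, by omega⟩
    · simp only [Multiset.insert_eq_cons, Multiset.lcm_cons, Multiset.lcm_singleton,
        lcm_eq_nat_lcm, normalize_eq]
      exact hcop.lcm_eq_mul

end Cfsg.Agent.S2466
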