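import Cfsg.Statements.S2467
import Cfsg.Agent.Lib.Helper41.AltSpectrum

set_option autoImplicit false
open Cfsg

namespace Cfsg.Agent.S2467

open Cfsg.Agent.Lib.Helper41

theorem exists_dvd_of_prime_dvd_lcm {p : ℕ} (hp : p.Prime) (c : Multiset ℕ) (h : p ∣ c.lcm) :
    ∃ a ∈ c, p ∣ a := by
  induction c using Multiset.induction_on with
  | empty =>
    simp at h
    exact absurd h hp.one_lt.ne'
  | cons a s ih =>
    rw [Multiset.lcm_cons, lcm_eq_nat_lcm] at h
    have h' : p ∣ a * s.lcm := dvd_trans h (Nat.lcm_dvd_mul a s.lcm)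
    rcases hp.dvd_mul.mp h' with h1 | h1
    · exact ⟨a, Multiset.mem_cons_self a s, h1⟩
    · obtain ⟨b, hb, hpb⟩ := ih h1
      exact ⟨b, Multiset.mem_cons_of_mem hb, hpb⟩

/-- parity of sum plus card equals parity of the number of even parts -/
theorem parity_lemma (c : Multiset ℕ) :
    Even (c.sum + Multiset.card c) ↔ Even (Multiset.card (c.filter (fun a => Even a))) := by
  induction c using Multiset.induction_on with
  | empty => simp
  | cons a s ih =>
    by_cases ha : Even a
    · rw [Multiset.filter_cons_of_pos _ ha, Multiset.sum_cons, Multiset.card_cons,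
        Multiset.card_cons]
      have : a + s.sum + (Multiset.card s + 1) = (s.sum + Multiset.card s) + (a + 1) := by ring
      rw [this, Nat.even_add, Nat.even_add_one (n := Multiset.card _), ih]
      have h1 : ¬ Even (a + 1) := by
        rw [Nat.even_add_one]; simpa using ha
      tauto
    · rw [Multiset.filter_cons_of_neg _ ha, Multiset.sum_cons, Multiset.card_cons]
      have : a + s.sum + (Multiset.card s + 1) = (s.sum + Multiset.card s) + (a + 1) := by ring
      rw [this, Nat.even_add, ih]
      have h1 : Even (a + 1) := by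
        rw [Nat.even_add_one]; exact ha
      tauto

/-- Adjacency of 2 and an odd prime in the prime graph of the alternating groups: let r be an odd prime at most n, with n ≥ 4. The alternating group of degree n has an element of order 2r if and only if r + 4 ≤ n. -/
theorem result (n r : ℕ) (hn : 4 ≤ n) (hr : r.Prime) (hr2 : r ≠ 2) (hrn : r ≤ n) :
    (2 * r ∈ Set.range (orderOf : alternatingGroup (Fin n) → ℕ)) ↔ r + 4 ≤ n := by
  rw [mem_range_orderOf_alternating_iff]
  have hro : Odd r := hr.odd_of_ne_two hr2
  have hcop : Nat.Coprime 2 r := (Nat.coprime_primes Nat.prime_two hr).mpr (Ne.symm hr2)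
  constructor
  · rintro ⟨c, h2, hsum, heven, hlcm⟩
    rw [parity_lemma] at heven
    obtain ⟨a, ha, hra⟩ := exists_dvd_of_prime_dvd_lcm hr c (by rw [hlcm]; exact dvd_mul_left r 2)
    obtain ⟨b, hb, h2b⟩ := exists_dvd_of_prime_dvd_lcm Nat.prime_two c
      (by rw [hlcm]; exact dvd_mul_right 2 r)
    set E := c.filter (fun a => Even a) with hE
    set O := c.filter (fun a => ¬ Even a) with hO
    have hsplit : E + O = c := Multiset.filter_add_not _ c
    have hsumc : c.sum = E.sum + O.sum := by rw [← hsplit, Multiset.sum_add]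
    have hbE : b ∈ E := by
      rw [hE, Multiset.mem_filter]; exact ⟨hb, even_iff_two_dvd.mpr h2b⟩
    have hE2 : ∀ x ∈ E, 2 ≤ x := fun x hx => h2 x (Multiset.mem_of_mem_filter hx)
    have hcardE : 2 ≤ Multiset.card E := by
      have h1 : 0 < Multiset.card E := Multiset.card_pos_iff_exists_mem.mpr ⟨b, hbE⟩
      rcases heven with ⟨k, hk⟩
      omega
    have hsumE : Multiset.card E • 2 ≤ E.sum := Multiset.card_nsmul_le_sum hE2
    rw [smul_eq_mul] at hsumE
    by_cases hae : Even a
    · -- a is even and divisible by r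
      have haE : a ∈ E := by rw [hE, Multiset.mem_filter]; exact ⟨ha, hae⟩
      have h2ra : 2 * r ∣ a := hcop.mul_dvd_of_dvd_of_dvd (even_iff_two_dvd.mp hae) hra
      have ha0 : 0 < a := by have := h2 a ha; omega
      have h1 : 2 * r ≤ a := Nat.le_of_dvd ha0 h2ra
      obtain ⟨E', hE'⟩ := Multiset.exists_cons_of_mem haE
      have hcardE' : 1 ≤ Multiset.card E' := by
        rw [hE', Multiset.card_cons] at hcardE; omega
      have hE'2 : ∀ x ∈ E', 2 ≤ x := fun x hx => hE2 x (by rw [hE']; exact Multiset.mem_cons_of_mem hx)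
      have hsumE' : Multiset.card E' • 2 ≤ E'.sum := Multiset.card_nsmul_le_sum hE'2
      rw [smul_eq_mul] at hsumE'
      have : E.sum = a + E'.sum := by rw [hE', Multiset.sum_cons]
      have := hr.two_le
      omega
    · have haO : a ∈ O := by rw [hO, Multiset.mem_filter]; exact ⟨ha, hae⟩
      have h3 : a ≤ O.sum := Multiset.single_le_sum (fun _ _ => Nat.zero_le _) a haO
      have h5 : r ≤ a := Nat.le_of_dvd (by have := h2 a ha; omega) hra
      omega
  · intro h
    refine ⟨{r, 2, 2}, ?_, ?_, ?_, ?_⟩
    · intro a ha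
      simp only [Multiset.insert_eq_cons, Multiset.mem_cons, Multiset.mem_singleton] at ha
      rcases ha with rfl | rfl | rfl
      · exact hr.two_le
      · exact le_refl 2
      · exact le_refl 2
    · simp only [Multiset.insert_eq_cons, Multiset.sum_cons, Multiset.sum_singleton]
      omega
    · simp only [Multiset.insert_eq_cons, Multiset.sum_cons, Multiset.sum_singleton,
        Multiset.card_cons, Multiset.card_singleton]
      rcases hro with ⟨k, hk⟩
      exact ⟨k + 4, by omega⟩
    · simp only [Multiset.insert_eq_cons, Multiset.lcm_cons, Multiset.lcm_singleton,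
        lcm_eq_nat_lcm, normalize_eq]
      rw [Nat.lcm_self, Nat.lcm_comm, hcop.lcm_eq_mul]

end Cfsg.Agent.S2467
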