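import Cfsg.Statements.S2468
import Cfsg.Agent.Lib.Helper40.PGSL

set_option autoImplicit false
open Cfsg

namespace Cfsg.Agent.S2468

open Cfsg.Agent.Lib.Helper40 Cfsg.Agent.Lib.Helper40.PG Cfsg.Agent.Lib.Helper40.PrimeOrder

/-- Adjacency of two odd primes in the prime graph of PSL(n,q): let F be a finite field of characteristic p with q elements, n ≥ 2 with PSL(n,F) simple, and let r ≠ s be odd primes different from p dividing the order of PSL(n,F). Let k and l be the multiplicative orders of q modulo r and modulo s, and suppose 2 ≤ k ≤ l. Then PSL(n,F) has NO element of order r·s if and only if k + l > n and k does not divide l. -/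
theorem result {F : Type*} [Field F] [Fintype F] (p : ℕ) [Fact p.Prime] [CharP F p] (n : ℕ) (hn : 2 ≤ n) (hsmall : n = 2 → 4 ≤ Fintype.card F)
    (r s : ℕ) (hr : r.Prime) (hs : s.Prime) (hr2 : r ≠ 2) (hs2 : s ≠ 2) (hrp : r ≠ p) (hsp : s ≠ p) (hrs : r ≠ s)
    (hrG : r ∣ Nat.card (Matrix.ProjectiveSpecialLinearGroup (Fin n) F)) (hsG : s ∣ Nat.card (Matrix.ProjectiveSpecialLinearGroup (Fin n) F))
    (k l : ℕ) (hk : k = orderOf ((Fintype.card F : ℕ) : ZMod r)) (hl : l = orderOf ((Fintype.card F : ℕ) : ZMod s))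
    (h2k : 2 ≤ k) (hkl : k ≤ l) :
    (r * s ∉ Set.range (orderOf : Matrix.ProjectiveSpecialLinearGroup (Fin n) F → ℕ)) ↔ (n < k + l ∧ ¬ k ∣ l) := by
  classical
  have : Fact r.Prime := ⟨hr⟩
  have : Fact s.Prime := ⟨hs⟩
  set q := Fintype.card F with hq
  have hq1 : 1 ≤ q := Fintype.card_pos
  have hrF : (r : F) ≠ 0 := natCast_ne_zero_of_prime_ne p r hr hrp
  have hsF : (s : F) ≠ 0 := natCast_ne_zero_of_prime_ne p s hs hsp
  have h2l : 2 ≤ l := h2k.trans hkl
  have hrq : ¬ r ∣ q - 1 := not_dvd_card_sub_one r (by rw [← hk]; exact h2k)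
  have hsq : ¬ s ∣ q - 1 := not_dvd_card_sub_one s (by rw [← hl]; exact h2l)
  have hcr : r.Coprime (q - 1) := (Nat.Prime.coprime_iff_not_dvd hr).2 hrq
  have hcs : s.Coprime (q - 1) := (Nat.Prime.coprime_iff_not_dvd hs).2 hsq
  have hcrs : (r * s).Coprime (q - 1) := Nat.Coprime.mul_left hcr hcs
  have hrs_cop : r.Coprime s := (Nat.coprime_primes hr hs).2 hrs
  have hfr : Module.finrank F (Fin n → F) = n := Module.finrank_fin_fun F
  -- transfer between `PSL` and `SL`
  have hlift : ∀ m : ℕ, m.Coprime (q - 1) →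
      ((∃ g : Matrix.ProjectiveSpecialLinearGroup (Fin n) F, orderOf g = m) ↔
        ∃ g : Matrix.SpecialLinearGroup (Fin n) F, orderOf g = m) := by
    intro m hm
    exact exists_orderOf_quotient_iff (Subgroup.center (Matrix.SpecialLinearGroup (Fin n) F))
      (q - 1) m (fun z hz => center_SL_pow n z hz) hm
  -- `l ≤ n`
  have hln : l ≤ n := by
    have : Finite (Matrix.ProjectiveSpecialLinearGroup (Fin n) F) := inferInstance
    obtain ⟨x, hx⟩ := exists_prime_orderOf_dvd_card' s hsG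
    obtain ⟨g, hg⟩ := (hlift s hcs).1 ⟨x, hx⟩
    have h1 : (Matrix.toLin' (g : Matrix (Fin n) (Fin n) F)) ^ s = 1 := by
      rw [toLin'_pow_eq_one_iff, ← hg]; exact pow_orderOf_eq_one g
    have h2 : Matrix.toLin' (g : Matrix (Fin n) (Fin n) F) ≠ 1 := by
      intro h
      have h3 : (Matrix.toLin' (g : Matrix (Fin n) (Fin n) F)) ^ 1 = 1 := by rw [pow_one, h]
      rw [toLin'_pow_eq_one_iff, pow_one] at h3
      rw [h3, orderOf_one] at hg
      exact hs.one_lt.ne hg
    have h4 := orderOf_le_finrank_of_prime_order s hsF _ h1 h2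
    rw [hfr, ← hl] at h4
    exact h4
  have hrk : r ∣ q ^ k - 1 := by
    rw [← pow_eq_one_zmod_iff q r k hq1, hk]
    exact pow_orderOf_eq_one _
  have hsl : s ∣ q ^ l - 1 := by
    rw [← pow_eq_one_zmod_iff q s l hq1, hl]
    exact pow_orderOf_eq_one _
  rw [Set.mem_range]
  constructor
  · intro hno
    by_contra hcon
    apply hno
    rw [hlift (r * s) hcrs]
    have hM : ∃ M : Matrix (Fin n) (Fin n) F, orderOf M = r * s := by
      by_cases hkn : k + l ≤ n
      · subst hk hl
        obtain ⟨Mr, hMr⟩ := exists_matrix_orderOf (F := F) r hrF r hrk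
        obtain ⟨Ms, hMs⟩ := exists_matrix_orderOf (F := F) s hsF s hsl
        obtain ⟨M, hM⟩ := exists_embed _ _ n hkn Mr Ms
        refine ⟨M, ?_⟩
        rw [hM, hMr, hMs]
        exact hrs_cop.lcm_eq_mul
      · have hkl' : k ∣ l := by
          by_contra h
          exact hcon ⟨by omega, h⟩
        obtain ⟨t, ht⟩ := hkl'
        have h1 : r ∣ q ^ l - 1 := by
          have h2 : q ^ k - 1 ∣ (q ^ k) ^ t - 1 ^ t := Nat.sub_dvd_pow_sub_pow (q ^ k) 1 t
          rw [one_pow, ← pow_mul, ← ht] at h2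
          exact hrk.trans h2
        have h3 : r * s ∣ q ^ l - 1 := hrs_cop.mul_dvd_of_dvd_of_dvd h1 hsl
        subst hl
        obtain ⟨Ms, hMs⟩ := exists_matrix_orderOf (F := F) s hsF (r * s) h3
        obtain ⟨M, hM⟩ := exists_embed _ 0 n (by omega) Ms (1 : Matrix (Fin 0) (Fin 0) F)
        refine ⟨M, ?_⟩
        rw [hM, hMs, orderOf_one, Nat.lcm_one_right]
    obtain ⟨M, hM⟩ := hM
    exact exists_SL_of_matrix_order n (r * s) M hM (Nat.mul_pos hr.pos hs.pos) hcrs
  · rintro ⟨hnkl, hndvd⟩ hex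
    obtain ⟨g, hg⟩ := (hlift (r * s) hcrs).1 hex
    set f := Matrix.toLin' (g : Matrix (Fin n) (Fin n) F) with hf
    have hf1 : f ^ (r * s) = 1 := by
      rw [hf, toLin'_pow_eq_one_iff, ← hg]; exact pow_orderOf_eq_one g
    have hfs : f ^ s ≠ 1 := by
      intro h
      rw [hf, toLin'_pow_eq_one_iff] at h
      have h1 := orderOf_dvd_of_pow_eq_one h
      rw [hg] at h1
      have h2 := Nat.le_of_dvd hs.pos h1
      have := hr.two_le
      nlinarith [hs.pos]
    have hfr' : f ^ r ≠ 1 := by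
      intro h
      rw [hf, toLin'_pow_eq_one_iff] at h
      have h1 := orderOf_dvd_of_pow_eq_one h
      rw [hg] at h1
      have h2 := Nat.le_of_dvd hr.pos h1
      have := hs.two_le
      nlinarith [hr.pos]
    have hb := dim_bound_of_order_mul r s hrF hsF f hf1 hfs hfr'
    rw [hfr, ← hk, ← hl] at hb
    rcases hb with hb | ⟨d, hd0, hdn, hkd, hld⟩
    · omega
    · obtain ⟨t, ht⟩ := hld
      rcases Nat.lt_or_ge t 2 with ht2 | ht2
      · interval_cases t
        · omega
        · rw [mul_one] at ht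
          rw [ht] at hkd
          exact hndvd hkd
      · have : 2 * l ≤ d := by rw [ht]; nlinarith
        omega

end Cfsg.Agent.S2468
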