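import Cfsg.Statements.S2469
import Cfsg.Agent.Lib.Helper40.PSpEx2
import Cfsg.Agent.Lib.Helper5.SympCenter

set_option autoImplicit false
open Cfsg

namespace Cfsg.Agent.S2469

open Cfsg.Agent.Lib.Helper40 Cfsg.Agent.Lib.Helper40.PG Cfsg.Agent.Lib.Helper40.PSp
  Cfsg.Agent.Lib.Helper40.Symp Cfsg.Agent.Lib.Helper40.PrimeOrder

/-- Adjacency of two odd primes in the prime graph of PSp(2n,q): let F be a finite field of characteristic p with q elements, n ≥ 2 with PSp(2n,F) simple, and let r ≠ s be odd primes different from p dividing the order of PSp(2n,F). Let k, l be the multiplicative orders of q modulo r and s, put η(m) = m for odd m and η(m) = m/2 for even m, and suppose η(k) ≤ η(l). Then PSp(2n,F) has NO element of order r·s if and only if η(k) + η(l) > n and l/k is not an odd integer. -/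
theorem result {F : Type*} [Field F] [Fintype F] (p : ℕ) [Fact p.Prime] [CharP F p] (n : ℕ) (hn : 2 ≤ n) (hsmall : n = 2 → 3 ≤ Fintype.card F)
    (r s : ℕ) (hr : r.Prime) (hs : s.Prime) (hr2 : r ≠ 2) (hs2 : s ≠ 2) (hrp : r ≠ p) (hsp : s ≠ p) (hrs : r ≠ s)
    (hrG : r ∣ Nat.card (Cfsg.PSp n F)) (hsG : s ∣ Nat.card (Cfsg.PSp n F))
    (k l ηk ηl : ℕ) (hk : k = orderOf ((Fintype.card F : ℕ) : ZMod r)) (hl : l = orderOf ((Fintype.card F : ℕ) : ZMod s))
    (hηk : (Odd k ∧ ηk = k) ∨ (Even k ∧ 2 * ηk = k)) (hηl : (Odd l ∧ ηl = l) ∨ (Even l ∧ 2 * ηl = l)) (hkl : ηk ≤ ηl) :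
    (r * s ∉ Set.range (orderOf : Cfsg.PSp n F → ℕ)) ↔ (n < ηk + ηl ∧ ¬ ∃ t : ℕ, Odd t ∧ l = k * t) := by
  classical
  have : Fact r.Prime := ⟨hr⟩
  have : Fact s.Prime := ⟨hs⟩
  have : Nonempty (Fin n) := ⟨⟨0, by omega⟩⟩
  have hc2 : ∀ m : ℕ, m.Prime → m ≠ 2 → m.Coprime 2 := fun m hm hm2 =>
    (Nat.coprime_primes hm Nat.prime_two).2 hm2
  have hlift : ∀ m : ℕ, m.Coprime 2 →
      ((∃ g : Cfsg.PSp n F, orderOf g = m) ↔
        ∃ g : ↥(Matrix.symplecticGroup (Fin n) F), orderOf g = m) := by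
    intro m hm
    refine exists_orderOf_quotient_iff (Subgroup.center ↥(Matrix.symplecticGroup (Fin n) F))
      2 m ?_ hm
    intro z hz
    rw [Cfsg.Agent.Lib.Helper5.mem_center_symplecticGroup_iff] at hz
    apply Subtype.ext
    rw [coe_pow_symplectic]
    rcases hz with h | h
    · rw [h, one_pow]; rfl
    · rw [h, neg_one_sq]; rfl
  have hrs2 : (r * s).Coprime 2 := Nat.Coprime.mul_left (hc2 r hr hr2) (hc2 s hs hs2)
  constructor
  · intro hno
    by_contra hcon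
    apply hno
    rw [Set.mem_range, hlift (r * s) hrs2]
    by_cases h1 : ηk + ηl ≤ n
    · exact exists_sp_of_sum_le p n r s hr hs hr2 hs2 hrp hsp hrs k l ηk ηl hk hl hηk hηl h1
    · have hex : ∃ t : ℕ, Odd t ∧ l = k * t := by
        by_contra h
        exact hcon ⟨by omega, h⟩
      obtain ⟨t, ht, hlt⟩ := hex
      -- `ηl ≤ n` from an element of order `s`
      have hηn : ηl ≤ n := by
        have : Finite (Cfsg.PSp n F) := inferInstance
        obtain ⟨x, hx⟩ := exists_prime_orderOf_dvd_card' s hsG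
        obtain ⟨g, hg⟩ := (hlift s (hc2 s hs hs2)).1 ⟨x, hx⟩
        exact eta_le_of_order p n s hs hs2 hsp l ηl hl hηl g hg
      have hsF : (s : F) ≠ 0 := natCast_ne_zero_of_prime_ne p s hs hsp
      obtain ⟨B, π, hBm, hBd, hBr, hBdvd, hi, hπB, hnr, hns⟩ :=
        exists_pal_block_mul r s hr hs hr2 hs2 hsF hrs k l ηl hk hl hηl t ht hlt
      exact exists_sp_order p n ηl hηn r s hr hs hrs B hBm hBd hBr 2 hBdvd π π hi hπB hns hi hπB
        hnr
  · rintro ⟨hn', hno⟩ hex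
    rw [Set.mem_range, hlift (r * s) hrs2] at hex
    obtain ⟨g, hg⟩ := hex
    exact no_element p n r s hr hs hr2 hs2 hrp hsp hrs k l ηk ηl hk hl hηk hηl hkl hn' hno g hg

end Cfsg.Agent.S2469
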