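import Cfsg.Statements.S2470
import Cfsg.Agent.Lib.Helper40.PGUnip5

set_option autoImplicit false
open Cfsg

namespace Cfsg.Agent.S2470

open Cfsg.Agent.Lib.Helper40 Cfsg.Agent.Lib.Helper40.PG Cfsg.Agent.Lib.Helper40.PrimeOrder

/-- Adjacency of an odd prime and the characteristic in the prime graph of PSL(n,q): let F be a finite field of characteristic p with q elements, n ≥ 2 with PSL(n,F) simple, and let r ≠ p be an odd prime dividing the order of PSL(n,F), with k the multiplicative order of q modulo r. Then PSL(n,F) has NO element of order r·p if and only if either k > n − 2, or n = 3, r = 3 and 3 divides q − 1 exactly once. -/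
theorem result {F : Type*} [Field F] [Fintype F] (p : ℕ) [Fact p.Prime] [CharP F p] (n : ℕ) (hn : 2 ≤ n) (hsmall : n = 2 → 4 ≤ Fintype.card F)
    (r : ℕ) (hr : r.Prime) (hr2 : r ≠ 2) (hrp : r ≠ p) (hrG : r ∣ Nat.card (Matrix.ProjectiveSpecialLinearGroup (Fin n) F))
    (k : ℕ) (hk : k = orderOf ((Fintype.card F : ℕ) : ZMod r)) :
    (r * p ∉ Set.range (orderOf : Matrix.ProjectiveSpecialLinearGroup (Fin n) F → ℕ)) ↔
      (n - 2 < k ∨ (n = 3 ∧ r = 3 ∧ 3 ∣ Fintype.card F - 1 ∧ ¬ 9 ∣ Fintype.card F - 1)) := by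
  classical
  have : Fact r.Prime := ⟨hr⟩
  have hp : p.Prime := Fact.out
  have hq1 : 1 ≤ Fintype.card F := Fintype.card_pos
  have hk1 : 1 ≤ k := by
    rw [hk]
    apply orderOf_pos_iff.2
    rw [isOfFinOrder_iff_isUnit]
    apply IsUnit.mk0
    rw [Ne, ZMod.natCast_eq_zero_iff]
    intro h
    obtain ⟨f, -, hf⟩ := FiniteField.card F p
    rw [hf] at h
    exact hrp ((Nat.prime_dvd_prime_iff_eq hr hp).1 (hr.dvd_of_dvd_pow h))
  constructor
  · intro hno
    by_contra hcon
    push Not at hcon
    obtain ⟨hkn, hexc⟩ := hcon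
    apply hno
    rw [Set.mem_range]
    rcases Nat.lt_or_ge k 2 with hk2 | hk2
    · have hk1' : k = 1 := by omega
      have hn3 : 3 ≤ n := by omega
      have hrq : r ∣ Fintype.card F - 1 := by
        have h := pow_orderOf_eq_one ((Fintype.card F : ℕ) : ZMod r)
        rw [← hk, hk1', pow_eq_one_zmod_iff (Fintype.card F) r 1 hq1, pow_one] at h
        exact h
      by_cases hex : n = 3 ∧ r = 3
      · obtain ⟨rfl, rfl⟩ := hex
        have h9 : 9 ∣ Fintype.card F - 1 := hexc rfl rfl hrq
        obtain ⟨ζ, hζ0, hζ⟩ := exists_orderOf_eq_of_dvd (F := F) 9 h9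
        refine exists_orderOf_psl_mul p 3 le_rfl 3 hr hrp ζ hζ0 ?_ (by omega) (Or.inl ?_)
        · rw [show 3 * 3 = 9 from rfl, ← hζ]; exact pow_orderOf_eq_one ζ
        · intro h
          have h1 := orderOf_dvd_of_pow_eq_one h
          rw [hζ] at h1
          omega
      · obtain ⟨ζ, hζ0, hζ⟩ := exists_orderOf_eq_of_dvd (F := F) r hrq
        have hζr : ζ ^ r = 1 := by rw [← hζ]; exact pow_orderOf_eq_one ζ
        have hζ1 : ζ ≠ 1 := by
          intro h
          rw [h, orderOf_one] at hζ
          exact hr.one_lt.ne hζ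
        refine exists_orderOf_psl_mul p n hn3 r hr hrp ζ hζ0
          (by rw [mul_comm, pow_mul, hζr, one_pow]) (fun _ => hζr) ?_
        by_cases h3n : 3 < n
        · exact Or.inr ⟨h3n, hζ1⟩
        · left
          intro h
          have h1 := orderOf_dvd_of_pow_eq_one h
          rw [hζ] at h1
          have h2 := (Nat.prime_dvd_prime_iff_eq hr Nat.prime_three).1 h1
          exact hex ⟨by omega, h2⟩
    · subst hk
      exact exists_orderOf_sl_mul p n r hr hrp hk2 (by omega)
  · rintro (hlt | ⟨rfl, rfl, h3, h9⟩)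
    · rcases Nat.lt_or_ge k 2 with hk2 | hk2
      · have hn2 : n = 2 := by omega
        subst hn2
        exact no_order_two p r hr hrp
      · subst hk
        exact no_order_of_large p n hn r hr hrp hk2 (by omega)
    · exact no_order_three p hrp h9

end Cfsg.Agent.S2470
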