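import Cfsg.Statements.S2471
import Mathlib.LinearAlgebra.Matrix.Charpoly.FiniteField

set_option autoImplicit false
open Cfsg

namespace Cfsg.Agent.S2471

open Matrix

theorem sq_eq {R : Type*} [CommRing R] (M : Matrix (Fin 2) (Fin 2) R) (hdet : M.det = 1) :
    M * M = M.trace • M - 1 := by
  rw [Matrix.det_fin_two] at hdet
  ext i j
  fin_cases i <;> fin_cases j <;>
    simp [Matrix.mul_apply, Fin.sum_univ_two, Matrix.trace] <;>
    first | linear_combination hdet | linear_combination (-1 : R) * hdet | ring

/-- In PSL(2,q) with q odd, the characteristic p is isolated from 2 in the prime graph: for F a finite field of odd characteristic p with at least 5 elements, PSL(2,F) has no element of order 2p. -/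
theorem result {F : Type*} [Field F] [Fintype F] (p : ℕ) [Fact p.Prime] [CharP F p] (hp : p ≠ 2) (h5 : 5 ≤ Fintype.card F) (g : Matrix.ProjectiveSpecialLinearGroup (Fin 2) F) :
    orderOf g ≠ 2 * p := by
  intro hord
  have hpp : p.Prime := Fact.out
  obtain ⟨A, rfl⟩ := QuotientGroup.mk_surjective g
  obtain ⟨k, -, hq⟩ := FiniteField.card F p
  set q := Fintype.card F with hqdef
  have hpq : p ∣ q := by
    rw [hq]; exact dvd_pow_self p k.pos.ne'
  have h2 : (2 : F) ≠ 0 := by
    intro h
    have : ((2 : ℕ) : F) = 0 := by exact_mod_cast h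
    rw [CharP.cast_eq_zero_iff F p 2] at this
    exact hp ((Nat.prime_dvd_prime_iff_eq hpp Nat.prime_two).mp this)
  -- the matrix
  set M : Matrix (Fin 2) (Fin 2) F := (A : Matrix (Fin 2) (Fin 2) F) with hM
  have hdetM : M.det = 1 := A.det_coe
  set t := M.trace with ht
  set C : Matrix (Fin 2) (Fin 2) F := M ^ q with hC
  have hdetC : C.det = 1 := by rw [hC, Matrix.det_pow, hdetM, one_pow]
  have htrC : C.trace = t := by
    rw [hC, hqdef, FiniteField.trace_pow_card, FiniteField.pow_card]
  have hCC : C * C = t • C - 1 := by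
    have := sq_eq C hdetC
    rwa [htrC] at this
  have hMM : M * M = t • M - 1 := sq_eq M hdetM
  -- g^(2q) = 1
  have hg2q : ((A : Matrix.ProjectiveSpecialLinearGroup (Fin 2) F)) ^ (2 * q) = 1 := by
    rw [← orderOf_dvd_iff_pow_eq_one, hord]
    exact Nat.mul_dvd_mul_left 2 hpq
  have hmem : A ^ (2 * q) ∈ Subgroup.center (Matrix.SpecialLinearGroup (Fin 2) F) := by
    rw [← QuotientGroup.eq_one_iff]
    exact hg2q
  obtain ⟨r, hr, hrA⟩ := Matrix.SpecialLinearGroup.mem_center_iff.mp hmem
  have hr2 : r ^ 2 = 1 := by simpa using hr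
  have hCr : C * C = Matrix.scalar (Fin 2) r := by
    rw [hrA, hC, ← pow_two, ← pow_mul, mul_comm q 2]
    simp [hM]
  have hr' : r = 1 ∨ r = -1 := by
    have h0 : (r - 1) * (r + 1) = 0 := by linear_combination hr2
    rcases mul_eq_zero.mp h0 with h | h
    · left; linear_combination h
    · right; linear_combination h
  -- t • C = (1 + r) • 1
  have htC : t • C = Matrix.scalar (Fin 2) (1 + r) := by
    have : t • C = C * C + 1 := by rw [hCC]; abel
    rw [this, hCr]
    ext i j
    simp only [Matrix.add_apply, Matrix.one_apply, Matrix.scalar_apply, Matrix.diagonal_apply]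
    split_ifs <;> ring
  rcases hr' with hr1 | hr1
  · -- C * C = 1 : C scalar, so g ^ q = 1
    have ht0 : t ≠ 0 := by
      intro h0
      rw [h0, zero_smul, hr1] at htC
      have := congrFun (congrFun htC 0) 0
      simp at this
      exact h2 (by linear_combination -this)
    have hCs : C = Matrix.scalar (Fin 2) ((1 + r) / t) := by
      have : C = t⁻¹ • (t • C) := by rw [smul_smul, inv_mul_cancel₀ ht0, one_smul]
      rw [this, htC]
      ext i j
      simp only [Matrix.smul_apply, Matrix.scalar_apply, Matrix.diagonal_apply, smul_eq_mul]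
      split_ifs
      · field_simp
      · simp
    have hmemq : A ^ q ∈ Subgroup.center (Matrix.SpecialLinearGroup (Fin 2) F) := by
      rw [Matrix.SpecialLinearGroup.mem_center_iff]
      refine ⟨(1 + r) / t, ?_, ?_⟩
      · have := hdetC
        rw [hCs] at this
        simpa [div_pow] using this
      · rw [← hCs, hC, hM]; simp
    have hgq : ((A : Matrix.ProjectiveSpecialLinearGroup (Fin 2) F)) ^ q = 1 := by
      have := (QuotientGroup.eq_one_iff (N := Subgroup.center (Matrix.SpecialLinearGroup (Fin 2) F)) (A ^ q)).mpr hmemq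
      simpa using this
    have hdvd : 2 * p ∣ q := by
      rw [← hord]; exact orderOf_dvd_of_pow_eq_one hgq
    have h2q : 2 ∣ p ^ (k : ℕ) := by
      rw [← hq]; exact dvd_trans (dvd_mul_right 2 p) hdvd
    have h2p : 2 ∣ p := Nat.Prime.dvd_of_dvd_pow Nat.prime_two h2q
    exact hp ((Nat.prime_dvd_prime_iff_eq Nat.prime_two hpp).mp h2p).symm
  · -- C * C = -1 : t = 0, M * M = -1, g ^ 2 = 1
    have ht0 : t = 0 := by
      by_contra ht0
      rw [hr1] at htC
      have hC0 : C = 0 := by
        have : C = t⁻¹ • (t • C) := by rw [smul_smul, inv_mul_cancel₀ ht0, one_smul]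
        rw [this, htC]
        simp
      rw [hC0] at hdetC
      simp at hdetC
    have hMM' : M * M = Matrix.scalar (Fin 2) (-1 : F) := by
      rw [hMM, ht0, zero_smul]
      ext i j
      simp only [Matrix.sub_apply, Matrix.zero_apply, Matrix.one_apply, Matrix.scalar_apply,
        Matrix.diagonal_apply]
      split_ifs <;> ring
    have hmem2 : A ^ 2 ∈ Subgroup.center (Matrix.SpecialLinearGroup (Fin 2) F) := by
      rw [Matrix.SpecialLinearGroup.mem_center_iff]
      refine ⟨-1, by simp, ?_⟩
      rw [← hMM', hM, pow_two]; simp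
    have hg2 : ((A : Matrix.ProjectiveSpecialLinearGroup (Fin 2) F)) ^ 2 = 1 := by
      have := (QuotientGroup.eq_one_iff (N := Subgroup.center (Matrix.SpecialLinearGroup (Fin 2) F)) (A ^ 2)).mpr hmem2
      simpa using this
    have hdvd : 2 * p ∣ 2 := by
      rw [← hord]; exact orderOf_dvd_of_pow_eq_one hg2
    have : p ∣ 1 := by
      have := Nat.dvd_of_mul_dvd_mul_left (by norm_num : 0 < 2) (by simpa using hdvd : 2 * p ∣ 2 * 1)
      exact this
    exact hpp.one_lt.ne' (Nat.dvd_one.mp this)

end Cfsg.Agent.S2471
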