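import Cfsg.Statements.S2472
import Cfsg.Agent.Lib.Helper8.SpOrderRP
import Cfsg.Agent.Lib.Helper40.PGLift
import Cfsg.Agent.Lib.Helper40.PrimeOrder
import Cfsg.Agent.Lib.Helper5.SympCard
import Cfsg.Agent.Lib.Helper5.SympCenter
import Cfsg.Agent.Lib.Helper13.SpBlock

set_option autoImplicit false
open Cfsg

namespace Cfsg.Agent.S2472

/-- Adjacency of a prime and the characteristic in the prime graph of PSp(2n,q): let F be a finite field of characteristic p with q elements, n ≥ 2 with PSp(2n,F) simple, and let r ≠ p be an odd prime dividing the order of PSp(2n,F), with k the multiplicative order of q modulo r and η(k) = k for odd k, k/2 for even k. Then PSp(2n,F) has NO element of order r·p if and only if η(k) > n − 1. -/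
theorem result {F : Type*} [Field F] [Fintype F] (p : ℕ) [Fact p.Prime] [CharP F p] (n : ℕ) (hn : 2 ≤ n) (hsmall : n = 2 → 3 ≤ Fintype.card F)
    (r : ℕ) (hr : r.Prime) (hr2 : r ≠ 2) (hrp : r ≠ p) (hrG : r ∣ Nat.card (Cfsg.PSp n F))
    (k ηk : ℕ) (hk : k = orderOf ((Fintype.card F : ℕ) : ZMod r)) (hηk : (Odd k ∧ ηk = k) ∨ (Even k ∧ 2 * ηk = k)) :
    (r * p ∉ Set.range (orderOf : Cfsg.PSp n F → ℕ)) ↔ n - 1 < ηk := by
  classical
  have hrF : Fact r.Prime := ⟨hr⟩
  have hpP : p.Prime := Fact.out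
  have hq1 : 1 ≤ Fintype.card F := Fintype.card_pos
  obtain ⟨f, -, hqf⟩ := FiniteField.card F p
  have hpq : p ∣ Fintype.card F := by
    rw [hqf]; exact dvd_pow_self p f.ne_zero
  have hrq : ¬ r ∣ Fintype.card F := by
    rw [hqf]
    intro h
    exact hrp ((Nat.prime_dvd_prime_iff_eq hr hpP).1 (hr.dvd_of_dvd_pow h))
  have hn1 : 1 ≤ n := by omega
  have : Nonempty (Fin n) := ⟨⟨0, by omega⟩⟩
  -- reduction to the symplectic group
  have hlift : (∃ g : Cfsg.PSp n F, orderOf g = r * p) ↔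
      ∃ g : ↥(Matrix.symplecticGroup (Fin n) F), orderOf g = r * p := by
    apply Cfsg.Agent.Lib.Helper40.PG.exists_orderOf_quotient_iff
      (Subgroup.center ↥(Matrix.symplecticGroup (Fin n) F)) (Nat.gcd 2 (Fintype.card F - 1)) (r * p)
    · intro z hz
      have h1 := pow_card_eq_one' (G := ↥(Subgroup.center ↥(Matrix.symplecticGroup (Fin n) F)))
        (x := ⟨z, hz⟩)
      rw [Cfsg.Agent.Lib.Helper5.card_center_symplecticGroup] at h1
      have := congrArg Subtype.val h1
      simpa using this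
    · apply Nat.Coprime.mul_left
      · apply Nat.Coprime.coprime_dvd_right (Nat.gcd_dvd_left 2 (Fintype.card F - 1))
        exact (Nat.coprime_primes hr Nat.prime_two).2 hr2
      · apply Nat.Coprime.coprime_dvd_right (Nat.gcd_dvd_right 2 (Fintype.card F - 1))
        rw [Nat.Prime.coprime_iff_not_dvd hpP]
        intro h
        have h2 : p ∣ Fintype.card F - (Fintype.card F - 1) := Nat.dvd_sub hpq h
        have h3 : Fintype.card F - (Fintype.card F - 1) = 1 := by omega
        rw [h3] at h2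
        exact hpP.one_lt.ne' (Nat.dvd_one.1 h2)
  -- the order of the symplectic group
  have hdvdSp : r ∣ Nat.card ↥(Matrix.symplecticGroup (Fin n) F) := by
    have h1 := Subgroup.card_eq_card_quotient_mul_card_subgroup
      (Subgroup.center ↥(Matrix.symplecticGroup (Fin n) F))
    rw [h1]
    exact Dvd.dvd.mul_right hrG _
  rw [Cfsg.Agent.Lib.Helper5.card_symplecticGroup_fin] at hdvdSp
  have hprod : r ∣ ∏ i ∈ Finset.range n, (Fintype.card F ^ (2 * (i + 1)) - 1) := by
    rcases (Nat.Prime.dvd_mul hr).1 hdvdSp with h | h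
    · exact absurd (hr.dvd_of_dvd_pow h) hrq
    · exact h
  obtain ⟨i, hi, hri⟩ := (Prime.dvd_finsetProd_iff (Nat.Prime.prime hr) _).1 hprod
  rw [Finset.mem_range] at hi
  have hki : k ∣ 2 * (i + 1) := by
    rw [hk]
    apply orderOf_dvd_of_pow_eq_one
    rw [Cfsg.Agent.Lib.Helper40.PrimeOrder.pow_eq_one_zmod_iff _ _ _ hq1]
    exact hri
  have hkpos : 0 < k := Nat.pos_of_dvd_of_pos hki (by omega)
  have hηdvd : ηk ∣ i + 1 := by
    rcases hηk with ⟨hodd, he⟩ | ⟨heven, he⟩
    · rw [he]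
      have hcop : Nat.Coprime k 2 := Nat.Coprime.symm (Nat.coprime_two_left.2 hodd)
      exact hcop.dvd_of_dvd_mul_left hki
    · rw [← he] at hki
      exact Nat.dvd_of_mul_dvd_mul_left (by norm_num) hki
  have hηn : ηk ≤ n := by
    have := Nat.le_of_dvd (by omega) hηdvd
    omega
  have hηpos : 1 ≤ ηk := by
    rcases hηk with ⟨hodd, he⟩ | ⟨heven, he⟩
    · omega
    · omega
  have hk2η : k ∣ 2 * ηk := by
    rcases hηk with ⟨hodd, he⟩ | ⟨heven, he⟩
    · rw [he]; exact Dvd.intro_left 2 rfl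
    · rw [he]
  have hmem_iff : (r * p ∈ Set.range (orderOf : Cfsg.PSp n F → ℕ)) ↔
      ∃ g : Cfsg.PSp n F, orderOf g = r * p := by
    rw [Set.mem_range]
  rw [hmem_iff, hlift]
  constructor
  · intro hno
    by_contra hle
    push Not at hle
    apply hno
    have hj : ηk ≤ n := hηn
    have hb : 1 ≤ n - ηk := by omega
    -- an element of order r in Sp_{2 ηk}
    have hr1 : r ∣ Nat.card ↥(Matrix.symplecticGroup (Fin ηk) F) := by
      rw [Cfsg.Agent.Lib.Helper5.card_symplecticGroup_fin]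
      apply Dvd.dvd.mul_left
      have hmem : ηk - 1 ∈ Finset.range ηk := by rw [Finset.mem_range]; omega
      apply Dvd.dvd.trans _ (Finset.dvd_prod_of_mem _ hmem)
      have e : 2 * (ηk - 1 + 1) = 2 * ηk := by omega
      rw [e, ← Cfsg.Agent.Lib.Helper40.PrimeOrder.pow_eq_one_zmod_iff _ _ _ hq1]
      rw [← orderOf_dvd_iff_pow_eq_one, ← hk]
      exact hk2η
    obtain ⟨x₁, hx₁⟩ := exists_prime_orderOf_dvd_card' r hr1
    have hp1 : p ∣ Nat.card ↥(Matrix.symplecticGroup (Fin (n - ηk)) F) := by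
      rw [Cfsg.Agent.Lib.Helper5.card_symplecticGroup_fin]
      apply Dvd.dvd.mul_right
      apply Dvd.dvd.trans hpq
      apply dvd_pow_self
      have : 1 ≤ (n - ηk) ^ 2 := Nat.one_le_pow _ _ hb
      omega
    obtain ⟨x₂, hx₂⟩ := exists_prime_orderOf_dvd_card' p hp1
    let φ : ↥(Matrix.symplecticGroup (Fin ηk) F) × ↥(Matrix.symplecticGroup (Fin (n - ηk)) F) →*
        ↥(Matrix.symplecticGroup (Fin n) F) :=
      (Subgroup.subtype _).comp (Cfsg.Agent.Lib.Helper13.spEmbed F n ηk hj)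
    have hφ : Function.Injective φ := by
      intro a b hab
      apply (Cfsg.Agent.Lib.Helper13.spEmbed_bijective (F := F) n ηk hj).1
      exact Subtype.ext hab
    refine ⟨φ (x₁, x₂), ?_⟩
    rw [orderOf_injective φ hφ, Prod.orderOf, hx₁, hx₂]
    exact ((Nat.coprime_primes hr hpP).2 hrp).lcm_eq_mul
  · intro hlt hex
    obtain ⟨g, hg⟩ := hex
    have hηeq : ηk = n := by omega
    apply Cfsg.Agent.Lib.Helper8.sp_no_elt_order_rp (F := F) n hn1 r hr2 p hrp _ g hg
    rcases hηk with ⟨hodd, he⟩ | ⟨heven, he⟩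
    · left
      have hkn : k = n := by rw [← he, hηeq]
      refine ⟨?_, ?_⟩
      · rw [← hkn]; exact hodd
      · rw [← hk, hkn]
    · right
      rw [← hk, ← he, hηeq]

end Cfsg.Agent.S2472
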