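import Cfsg.Statements.S2475
import Cfsg.Agent.Lib.Helper41.SL2Eigen

set_option autoImplicit false
set_option linter.unusedSimpArgs false
set_option linter.unusedVariables false
open Cfsg

namespace Cfsg.Agent.S2475

open Cfsg.Agent.Lib.Helper41

local notation "SL₂(" F ")" => Matrix.SpecialLinearGroup (Fin 2) F
local notation "PSL₂(" F ")" => Matrix.ProjectiveSpecialLinearGroup (Fin 2) F

/-- arithmetic: `N ∣ 2 * (N / d)` when `d = gcd 2 N`. -/
theorem arith1 (N : ℕ) : N ∣ 2 * (N / Nat.gcd 2 N) := by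
  have hd : Nat.gcd 2 N ∣ 2 := Nat.gcd_dvd_left 2 N
  have hdN : Nat.gcd 2 N ∣ N := Nat.gcd_dvd_right 2 N
  obtain ⟨e, he⟩ := hd
  refine ⟨e, ?_⟩
  nth_rewrite 1 [he]
  rw [mul_assoc, mul_comm, mul_assoc, mul_comm _ (Nat.gcd 2 N), Nat.mul_div_cancel' hdN, mul_comm]

/-- arithmetic: `N ∣ 2 * n → N / d ∣ n` when `d = gcd 2 N`. -/
theorem arith2 (N n : ℕ) (h : N ∣ 2 * n) : N / Nat.gcd 2 N ∣ n := by
  have hd : Nat.gcd 2 N ∣ 2 := Nat.gcd_dvd_left 2 N
  have hdN : Nat.gcd 2 N ∣ N := Nat.gcd_dvd_right 2 N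
  rcases (Nat.dvd_prime Nat.prime_two).mp hd with h1 | h2
  · rw [h1, Nat.div_one]
    have hc : Nat.Coprime N 2 := by
      rw [Nat.coprime_comm]; exact h1
    exact hc.dvd_of_dvd_mul_left h
  · rw [h2]
    rw [h2] at hdN
    obtain ⟨k, rfl⟩ := hdN
    rw [Nat.mul_div_cancel_left k (by norm_num)]
    exact Nat.dvd_of_mul_dvd_mul_left (by norm_num) h

theorem gcd_add_one (q : ℕ) (hq : 1 ≤ q) : Nat.gcd 2 (q + 1) = Nat.gcd 2 (q - 1) := by
  have : q + 1 = (q - 1) + 2 := by omega
  rw [this, Nat.gcd_add_self_right]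

/-- The order of the image of the companion matrix with an eigenvalue of order `N ≥ 3`. -/
theorem orderOf_comp {F : Type*} [Field F] {K : Type*} [Field K] (f : F →+* K) (t : F) (l : K)
    (hl0 : l ≠ 0) (hl : l + l⁻¹ = f t) (N : ℕ) (hord : orderOf l = N) (hN : 3 ≤ N) :
    orderOf ((compSL2 t : SL₂(F)) : PSL₂(F)) = N / Nat.gcd 2 N := by
  have hl' : l + l⁻¹ = f (tr2 (compSL2 t)) := by rw [tr2_compSL2]; exact hl
  have hl2 : l ^ 2 ≠ 1 := by
    intro h
    have := orderOf_dvd_of_pow_eq_one h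
    rw [hord] at this
    have := Nat.le_of_dvd (by norm_num) this
    omega
  have key := fun n => psl2_orderOf_dvd_iff_eigen f hl0 hl' hl2 n
  rw [hord] at key
  apply Nat.dvd_antisymm
  · rw [key]; exact arith1 N
  · apply arith2
    rw [← key]

/-- The set of element orders of PSL(2,q): let F be a finite field of characteristic p with q ≥ 4 elements and d = gcd(2, q − 1). The orders of elements of PSL(2,F) are exactly the divisors of p, of (q − 1)/d and of (q + 1)/d. -/
theorem result {F : Type*} [Field F] [Fintype F] (p : ℕ) [Fact p.Prime] [CharP F p] (h4 : 4 ≤ Fintype.card F) :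
    Set.range (orderOf : Matrix.ProjectiveSpecialLinearGroup (Fin 2) F → ℕ) =
      {m : ℕ | m ∣ p ∨ m ∣ (Fintype.card F - 1) / Nat.gcd 2 (Fintype.card F - 1) ∨ m ∣ (Fintype.card F + 1) / Nat.gcd 2 (Fintype.card F - 1)} := by
  have hpp : p.Prime := Fact.out
  set q := Fintype.card F with hq
  have hg1 : Nat.gcd 2 (q + 1) = Nat.gcd 2 (q - 1) := gcd_add_one q (by omega)
  apply Set.eq_of_subset_of_subset
  · rintro m ⟨g, rfl⟩
    obtain ⟨A, rfl⟩ := QuotientGroup.mk_surjective g
    by_cases hA : A ∈ Subgroup.center (SL₂(F))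
    · left
      have : ((A : SL₂(F)) : PSL₂(F)) = 1 := (QuotientGroup.eq_one_iff A).mpr hA
      rw [this, orderOf_one]
      exact one_dvd p
    · obtain ⟨l, hl0, hl, hroot⟩ := exists_eigen (tr2 A)
      by_cases hl2 : l ^ 2 = 1
      · left
        rw [psl2_orderOf_dvd_iff hA]
        have h0 : (l - 1) * (l + 1) = 0 := by linear_combination hl2
        have hp0 : ((p : ℕ) : F) = 0 := CharP.cast_eq_zero F p
        rcases mul_eq_zero.mp h0 with h | h
        · have h1 : l = 1 := by linear_combination h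
          rw [h1] at hl
          have : tr2 A = 2 := by
            apply (algebraMap F (AlgebraicClosure F)).injective
            rw [← hl, map_ofNat]; norm_num
          rw [this, lucasU_two, hp0]
        · have h1 : l = -1 := by linear_combination h
          rw [h1] at hl
          have : tr2 A = -2 := by
            apply (algebraMap F (AlgebraicClosure F)).injective
            rw [← hl, map_neg, map_ofNat]; norm_num
          rw [this, lucasU_neg_two, hp0, mul_zero]
      · right
        rcases hroot with h | h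
        · left
          rw [psl2_orderOf_dvd_iff_eigen _ hl0 hl hl2]
          exact dvd_trans (orderOf_dvd_of_pow_eq_one h) (arith1 (q - 1))
        · right
          rw [psl2_orderOf_dvd_iff_eigen _ hl0 hl hl2, ← hg1]
          exact dvd_trans (orderOf_dvd_of_pow_eq_one h) (arith1 (q + 1))
  · intro m hm
    -- it suffices to find elements of the three maximal orders
    have hpow : ∀ (N : ℕ), N ≠ 0 → (∃ g : PSL₂(F), orderOf g = N) → m ∣ N →
        m ∈ Set.range (orderOf : PSL₂(F) → ℕ) := by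
      rintro N hN ⟨g, hg⟩ hmN
      refine ⟨g ^ (N / m), ?_⟩
      have hm0 : m ≠ 0 := fun h => hN (by rw [h] at hmN; exact Nat.eq_zero_of_zero_dvd hmN)
      have h1 : N / m ≠ 0 := by
        have := Nat.div_pos (Nat.le_of_dvd (Nat.pos_of_ne_zero hN) hmN) (Nat.pos_of_ne_zero hm0)
        omega
      rw [orderOf_pow_of_dvd h1 (by rw [hg]; exact Nat.div_dvd_of_dvd hmN), hg,
        Nat.div_div_self hmN hN]
    rcases hm with h | h | h
    · -- unipotent element of order p
      apply hpow p hpp.ne_zero _ h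
      refine ⟨((mkSL2 1 1 0 1 (by ring) : SL₂(F)) : PSL₂(F)), ?_⟩
      have hA : (mkSL2 1 1 0 1 (by ring) : SL₂(F)) ∉ Subgroup.center (SL₂(F)) := by
        rw [sl2_mem_center_iff]; simp
      have key := fun n => psl2_orderOf_dvd_iff hA n
      have htr : tr2 (mkSL2 (1 : F) 1 0 1 (by ring)) = 2 := by simp [tr2]; norm_num
      simp only [htr, lucasU_two, CharP.cast_eq_zero_iff F p] at key
      apply Nat.dvd_antisymm
      · rw [key]
      · rw [← key]
    · -- split torus
      have hN0 : (q - 1) / Nat.gcd 2 (q - 1) ≠ 0 := by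
        have h1 : Nat.gcd 2 (q - 1) ≤ 2 := Nat.le_of_dvd (by norm_num) (Nat.gcd_dvd_left _ _)
        have h2 : 0 < Nat.gcd 2 (q - 1) := Nat.gcd_pos_of_pos_left _ (by norm_num)
        have := Nat.div_pos (a := q - 1) (b := Nat.gcd 2 (q - 1)) (by omega) h2
        omega
      apply hpow _ hN0 _ h
      obtain ⟨ζ, hζ⟩ := IsCyclic.exists_generator (α := Fˣ)
      have hordζ : orderOf ζ = q - 1 := by
        rw [orderOf_eq_card_of_forall_mem_zpowers hζ, Nat.card_units, Nat.card_eq_fintype_card]
      have hord : orderOf (ζ : F) = q - 1 := by rw [orderOf_units, hordζ]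
      refine ⟨((compSL2 ((ζ : F) + (ζ : F)⁻¹) : SL₂(F)) : PSL₂(F)), ?_⟩
      exact orderOf_comp (RingHom.id F) _ (ζ : F) ζ.ne_zero rfl (q - 1) hord (by omega)
    · -- non-split torus
      have hN0 : (q + 1) / Nat.gcd 2 (q - 1) ≠ 0 := by
        have h1 : Nat.gcd 2 (q - 1) ≤ 2 := Nat.le_of_dvd (by norm_num) (Nat.gcd_dvd_left _ _)
        have h2 : 0 < Nat.gcd 2 (q - 1) := Nat.gcd_pos_of_pos_left _ (by norm_num)
        have := Nat.div_pos (a := q + 1) (b := Nat.gcd 2 (q - 1)) (by omega) h2
        omega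
      apply hpow _ hN0 _ h
      obtain ⟨t, l, hl0, hord, hl⟩ := exists_trace_orderOf_card_add_one (F := F)
      refine ⟨((compSL2 t : SL₂(F)) : PSL₂(F)), ?_⟩
      rw [← hg1]
      exact orderOf_comp (algebraMap F (AlgebraicClosure F)) t l hl0 hl (q + 1) hord (by omega)

end Cfsg.Agent.S2475
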