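import Cfsg.Statements.S2478
import Cfsg.Agent.S2387
import Cfsg.Agent.Lib.Helper42.ClsC
import Cfsg.Agent.Lib.Helper42.ClsE

set_option autoImplicit false
open Cfsg

namespace Cfsg.Agent.S2478

open Cfsg.Agent.Lib.Helper42.Cls Polynomial Module

/-- the lower bound, from the count of semisimple classes. -/
theorem lower {F : Type*} [Field F] [Fintype F] (n : ℕ) (hn : 1 ≤ n) :
    Fintype.card F ^ n - Fintype.card F ^ (n - 1) ≤
      Nat.card (ConjClasses (Matrix.GeneralLinearGroup (Fin n) F)) := by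
  classical
  obtain ⟨p, hp⟩ := CharP.exists F
  have : Fact p.Prime := ⟨CharP.char_is_prime F p⟩
  have h := Cfsg.Agent.S2387.result (F := F) (q := Fintype.card F) rfl p n hn
  have h2 := Nat.card_le_card_of_injective
    (fun c : {c : ConjClasses (GL (Fin n) F) //
      ∃ g : GL (Fin n) F, ConjClasses.mk g = c ∧ (orderOf g).Coprime p} => c.1)
    Subtype.val_injective
  rw [h] at h2
  refine le_trans (le_of_eq ?_) h2
  obtain ⟨m, rfl⟩ : ∃ m, n = m + 1 := ⟨n - 1, by omega⟩
  rw [Nat.add_sub_cancel, pow_succ, Nat.sub_mul, one_mul, mul_comm]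

theorem toLin'_injective_of_gl {F : Type*} [Field F] {n : ℕ} (g : GL (Fin n) F) :
    Function.Injective (Matrix.toLin' (g : Matrix (Fin n) (Fin n) F)) := by
  intro v w h
  have h1 := congrArg (Matrix.toLin' ((g⁻¹ : GL (Fin n) F) : Matrix (Fin n) (Fin n) F)) h
  rw [← Matrix.toLin'_mul_apply, ← Matrix.toLin'_mul_apply] at h1
  have h2 : ((g⁻¹ : GL (Fin n) F) : Matrix (Fin n) (Fin n) F) * (g : Matrix (Fin n) (Fin n) F) = 1 := by
    rw [← Matrix.GeneralLinearGroup.coe_mul, inv_mul_cancel]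
    rfl
  rw [h2, Matrix.toLin'_one] at h1
  exact h1

/-- intertwined invertible matrices are conjugate. -/
theorem isConj_of_intertwine {F : Type*} [Field F] {n : ℕ} (g g' : GL (Fin n) F)
    (ψ : (Fin n → F) ≃ₗ[F] (Fin n → F))
    (hψ : ∀ v, ψ (Matrix.toLin' (g : Matrix (Fin n) (Fin n) F) v) =
      Matrix.toLin' (g' : Matrix (Fin n) (Fin n) F) (ψ v)) : IsConj g g' := by
  have h1 : LinearMap.toMatrix' ψ.toLinearMap * LinearMap.toMatrix' ψ.symm.toLinearMap = 1 := by
    rw [← LinearMap.toMatrix'_comp, LinearEquiv.comp_symm, LinearMap.toMatrix'_id]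
  have h2 : LinearMap.toMatrix' ψ.symm.toLinearMap * LinearMap.toMatrix' ψ.toLinearMap = 1 := by
    rw [← LinearMap.toMatrix'_comp, LinearEquiv.symm_comp, LinearMap.toMatrix'_id]
  let P : GL (Fin n) F := ⟨LinearMap.toMatrix' ψ.toLinearMap, LinearMap.toMatrix' ψ.symm.toLinearMap, h1, h2⟩
  rw [isConj_iff]
  refine ⟨P, ?_⟩
  rw [mul_inv_eq_iff_eq_mul]
  apply Units.ext
  rw [Units.val_mul, Units.val_mul]
  show LinearMap.toMatrix' ψ.toLinearMap * (g : Matrix (Fin n) (Fin n) F) =
    (g' : Matrix (Fin n) (Fin n) F) * LinearMap.toMatrix' ψ.toLinearMap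
  have e1 : (g : Matrix (Fin n) (Fin n) F) =
      LinearMap.toMatrix' (Matrix.toLin' (g : Matrix (Fin n) (Fin n) F)) :=
    (LinearMap.toMatrix'_toLin' _).symm
  have e2 : (g' : Matrix (Fin n) (Fin n) F) =
      LinearMap.toMatrix' (Matrix.toLin' (g' : Matrix (Fin n) (Fin n) F)) :=
    (LinearMap.toMatrix'_toLin' _).symm
  rw [e1, e2, ← LinearMap.toMatrix'_comp, ← LinearMap.toMatrix'_comp]
  congr 1
  apply LinearMap.ext
  intro v
  exact hψ v

/-- the upper bound. -/
theorem upper {F : Type*} [Field F] [Fintype F] (n : ℕ) :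
    Nat.card (ConjClasses (Matrix.GeneralLinearGroup (Fin n) F)) ≤ Fintype.card F ^ n := by
  classical
  refine le_trans ?_ (card_T_le_pow (F := F) n)
  have hfr : finrank F (Fin n → F) = n := Module.finrank_fin_fun F
  -- the chosen decomposition
  let fOf : GL (Fin n) F → ((Fin n → F) →ₗ[F] (Fin n → F)) :=
    fun g => Matrix.toLin' (g : Matrix (Fin n) (Fin n) F)
  let DOf : ∀ g : GL (Fin n) F, Decomp (fOf g) := fun g => Classical.choice (nonempty_decomp (fOf g))
  have hsum : ∀ g : GL (Fin n) F,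
      ∑ j : Fin n, (j.val + 1) * ((DOf g).bOf n j).natDegree = n := by
    intro g
    have := (DOf g).bOf_sum
    revert this
    generalize finrank F (Fin n → F) = n' at hfr
    subst hfr
    exact id
  let β : GL (Fin n) F → T F n n := fun g =>
    ⟨(DOf g).bOf n, ⟨fun j => ⟨(DOf g).bOf_monic n j,
      (DOf g).bOf_coeff_zero_ne (toLin'_injective_of_gl g) n j⟩, hsum g⟩⟩
  have hβ : ∀ g g' : GL (Fin n) F, β g = β g' → IsConj g g' := by
    intro g g' h
    have h1 : (DOf g).bOf n = (DOf g').bOf n := congrArg Subtype.val h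
    have h2 : (DOf g).bOf (finrank F (Fin n → F)) = (DOf g').bOf (finrank F (Fin n → F)) := by
      rw [hfr]; exact h1
    obtain ⟨ψ, hψ⟩ := exists_intertwine_of_bOf_eq (DOf g) (DOf g') h2
    exact isConj_of_intertwine g g' ψ hψ
  have : Finite (T F n n) := finite_T n n
  apply Nat.card_le_card_of_injective (fun c : ConjClasses (GL (Fin n) F) => β (Quotient.out c))
  intro c c' h
  have h1 := hβ _ _ h
  have h2 : ConjClasses.mk (Quotient.out c) = ConjClasses.mk (Quotient.out c') :=
    ConjClasses.mk_eq_mk_iff_isConj.mpr h1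
  have e1 : ConjClasses.mk (Quotient.out c) = c := Quotient.out_eq c
  have e2 : ConjClasses.mk (Quotient.out c') = c' := Quotient.out_eq c'
  rw [e1, e2] at h2
  exact h2

/-- The number of conjugacy classes of GL(n,q): for F a finite field with q elements and n ≥ 1, the number k of conjugacy classes of GL(n,F) satisfies q^n − q^(n−1) ≤ k ≤ q^n. -/
theorem result {F : Type*} [Field F] [Fintype F] (n : ℕ) (hn : 1 ≤ n) :
    Fintype.card F ^ n - Fintype.card F ^ (n - 1) ≤ Nat.card (ConjClasses (Matrix.GeneralLinearGroup (Fin n) F)) ∧ Nat.card (ConjClasses (Matrix.GeneralLinearGroup (Fin n) F)) ≤ Fintype.card F ^ n :=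
  ⟨lower n hn, upper n⟩

end Cfsg.Agent.S2478
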