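import Mathlib
import Cfsg.Statements.S2485

set_option autoImplicit false
open scoped Pointwise
open Cfsg

namespace Cfsg.Agent.S2485

/-- In a ring, if `A² = -1` then `AB - BA` anticommutes with `A`. -/
theorem anticomm_left {R : Type*} [Ring R] {A B : R} (hA : A * A = -1) :
    (A * B - B * A) * A = -(A * (A * B - B * A)) := by
  have h : (A * B - B * A) * A + A * (A * B - B * A) = (A * A) * B - B * (A * A) := by
    noncomm_ring
  rw [hA] at h
  have h0 : (A * B - B * A) * A + A * (A * B - B * A) = 0 := by rw [h]; noncomm_ring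
  exact eq_neg_of_add_eq_zero_left h0

/-- In a ring, if `B² = -1` then `AB - BA` anticommutes with `B`. -/
theorem anticomm_right {R : Type*} [Ring R] {A B : R} (hB : B * B = -1) :
    (A * B - B * A) * B = -(B * (A * B - B * A)) := by
  have h : (A * B - B * A) * B + B * (A * B - B * A) = A * (B * B) - (B * B) * A := by
    noncomm_ring
  rw [hB] at h
  have h0 : (A * B - B * A) * B + B * (A * B - B * A) = 0 := by rw [h]; noncomm_ring
  exact eq_neg_of_add_eq_zero_left h0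

section Field

variable {K : Type*} [Field K]

/-- The matrix of a quarter turn. -/
def A0 (K : Type*) [Field K] : Matrix (Fin 2) (Fin 2) K := !![0, -1; 1, 0]

theorem A0_mul_self : A0 K * A0 K = -1 := by
  ext i j
  fin_cases i <;> fin_cases j <;> simp [A0, Matrix.mul_apply, Fin.sum_univ_two]

theorem A0_det : (A0 K).det = 1 := by
  simp [A0, Matrix.det_fin_two]

/-- Matrices commuting with `A0`. -/
theorem comm_form {Y : Matrix (Fin 2) (Fin 2) K} (h : Y * A0 K = A0 K * Y) :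
    Y = !![Y 0 0, -(Y 1 0); Y 1 0, Y 0 0] := by
  have e00 := congrFun (congrFun h 0) 0
  have e01 := congrFun (congrFun h 0) 1
  simp only [A0, Matrix.mul_apply, Fin.sum_univ_two, Matrix.of_apply,
    Matrix.cons_val', Matrix.cons_val_zero, Matrix.cons_val_one, Matrix.cons_val_fin_one,
    mul_zero, mul_one, zero_mul, one_mul, mul_neg, neg_mul, zero_add, add_zero] at e00 e01
  ext i j
  fin_cases i <;> fin_cases j <;> simp
  · linear_combination e00
  · linear_combination e01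

/-- Matrices anticommuting with `A0`. -/
theorem anti_form {Y : Matrix (Fin 2) (Fin 2) K} (h : Y * A0 K = -(A0 K * Y)) :
    Y = !![Y 0 0, Y 1 0; Y 1 0, -(Y 0 0)] := by
  have e00 := congrFun (congrFun h 0) 0
  have e01 := congrFun (congrFun h 0) 1
  simp only [A0, Matrix.mul_apply, Fin.sum_univ_two, Matrix.neg_apply, Matrix.of_apply,
    Matrix.cons_val', Matrix.cons_val_zero, Matrix.cons_val_one, Matrix.cons_val_fin_one,
    mul_zero, mul_one, zero_mul, one_mul, mul_neg, neg_mul, zero_add, add_zero] at e00 e01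
  ext i j
  fin_cases i <;> fin_cases j <;> simp
  · linear_combination e00
  · linear_combination -e01

/-- The normaliser of the non-split torus `K[A0]ˣ`: matrices commuting or anticommuting with
`A0`. -/
def Ntil (K : Type*) [Field K] : Subgroup (GL (Fin 2) K) where
  carrier := {g | (g : Matrix (Fin 2) (Fin 2) K) * A0 K = A0 K * g ∨
    (g : Matrix (Fin 2) (Fin 2) K) * A0 K = -(A0 K * g)}
  one_mem' := Or.inl (by simp)
  mul_mem' := by
    intro g h hg hh
    simp only [Set.mem_ofPred_eq, Units.val_mul] at hg hh ⊢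
    rcases hg with hg | hg <;> rcases hh with hh | hh
    · left; rw [mul_assoc, hh, ← mul_assoc, hg, mul_assoc]
    · right; rw [mul_assoc, hh, mul_neg, ← mul_assoc, hg, mul_assoc]
    · right; rw [mul_assoc, hh, ← mul_assoc, hg, neg_mul, mul_assoc]
    · left; rw [mul_assoc, hh, mul_neg, ← mul_assoc, hg, neg_mul, neg_neg, mul_assoc]
  inv_mem' := by
    intro g hg
    simp only [Set.mem_ofPred_eq] at hg ⊢
    have h1 : ((g⁻¹ : GL (Fin 2) K) : Matrix (Fin 2) (Fin 2) K) * g = 1 := by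
      rw [← Units.val_mul, inv_mul_cancel, Units.val_one]
    have h2 : (g : Matrix (Fin 2) (Fin 2) K) * ((g⁻¹ : GL (Fin 2) K) : Matrix (Fin 2) (Fin 2) K) = 1 := by
      rw [← Units.val_mul, mul_inv_cancel, Units.val_one]
    rcases hg with hg | hg
    · left
      calc ((g⁻¹ : GL (Fin 2) K) : Matrix (Fin 2) (Fin 2) K) * A0 K
          = ((g⁻¹ : GL (Fin 2) K) : Matrix (Fin 2) (Fin 2) K) * (A0 K * g) * ((g⁻¹ : GL (Fin 2) K) : Matrix (Fin 2) (Fin 2) K) := by
            rw [mul_assoc, mul_assoc, h2, mul_one]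
        _ = A0 K * ((g⁻¹ : GL (Fin 2) K) : Matrix (Fin 2) (Fin 2) K) := by
            rw [← hg, ← mul_assoc, h1, one_mul]
    · right
      calc ((g⁻¹ : GL (Fin 2) K) : Matrix (Fin 2) (Fin 2) K) * A0 K
          = ((g⁻¹ : GL (Fin 2) K) : Matrix (Fin 2) (Fin 2) K) * (A0 K * g) * ((g⁻¹ : GL (Fin 2) K) : Matrix (Fin 2) (Fin 2) K) := by
            rw [mul_assoc, mul_assoc, h2, mul_one]
        _ = -(A0 K * ((g⁻¹ : GL (Fin 2) K) : Matrix (Fin 2) (Fin 2) K)) := by
            have : A0 K * (g : Matrix (Fin 2) (Fin 2) K) = -((g : Matrix (Fin 2) (Fin 2) K) * A0 K) := by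
              rw [hg, neg_neg]
            rw [this, mul_neg, neg_mul, ← mul_assoc, h1, one_mul]

theorem mem_Ntil {g : GL (Fin 2) K} : g ∈ Ntil K ↔
    ((g : Matrix (Fin 2) (Fin 2) K) * A0 K = A0 K * g ∨
      (g : Matrix (Fin 2) (Fin 2) K) * A0 K = -(A0 K * g)) := Iff.rfl

theorem conj_comm {R : Type*} [Ring R] {M Mi A X : R} (h1 : Mi * M = 1)
    (h : X * (M * A * Mi) = (M * A * Mi) * X) : (Mi * X * M) * A = A * (Mi * X * M) := by
  calc Mi * X * M * A = Mi * (X * (M * A * Mi)) * M := by simp only [mul_assoc, h1, mul_one]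
    _ = Mi * ((M * A * Mi) * X) * M := by rw [h]
    _ = A * (Mi * X * M) := by simp only [← mul_assoc, h1, one_mul]

theorem conj_anti {R : Type*} [Ring R] {M Mi A X : R} (h1 : Mi * M = 1)
    (h : X * (M * A * Mi) = -((M * A * Mi) * X)) : (Mi * X * M) * A = -(A * (Mi * X * M)) := by
  calc Mi * X * M * A = Mi * (X * (M * A * Mi)) * M := by simp only [mul_assoc, h1, mul_one]
    _ = -(Mi * ((M * A * Mi) * X) * M) := by rw [h, mul_neg, neg_mul]
    _ = -(A * (Mi * X * M)) := by simp only [← mul_assoc, h1, one_mul]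

theorem det_ne_zero_of_anti (hns : ¬ IsSquare (-1 : K)) {Y : Matrix (Fin 2) (Fin 2) K}
    (h : Y * A0 K = -(A0 K * Y)) (hY : Y ≠ 0) : Y.det ≠ 0 := by
  intro hdet
  have hform := anti_form h
  rw [Matrix.det_fin_two] at hdet
  have e01 : Y 0 1 = Y 1 0 := by
    have := congrFun (congrFun hform 0) 1
    simpa using this
  have e11 : Y 1 1 = -(Y 0 0) := by
    have := congrFun (congrFun hform 1) 1
    simpa using this
  rw [e01, e11] at hdet
  have hsum : Y 0 0 ^ 2 + Y 1 0 ^ 2 = 0 := by linear_combination -hdet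
  by_cases hb : Y 1 0 = 0
  · have ha : Y 0 0 = 0 := by
      rw [hb] at hsum
      have : Y 0 0 ^ 2 = 0 := by linear_combination hsum
      exact pow_eq_zero_iff (two_ne_zero) |>.mp this
    apply hY
    rw [hform, ha, hb]
    ext i j
    fin_cases i <;> fin_cases j <;> simp
  · apply hns
    refine ⟨Y 0 0 / Y 1 0, ?_⟩
    field_simp
    linear_combination -hsum

/-- `A0` as an element of `GL₂`. -/
noncomputable def a0 (K : Type*) [Field K] : GL (Fin 2) K :=
  Matrix.GeneralLinearGroup.mkOfDetNeZero (A0 K) (by rw [A0_det]; exact one_ne_zero)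

theorem a0_val : ((a0 K : GL (Fin 2) K) : Matrix (Fin 2) (Fin 2) K) = A0 K := rfl

theorem a0_not_mem_center (h2 : (2 : K) ≠ 0) : a0 K ∉ Subgroup.center (GL (Fin 2) K) := by
  intro hc
  have hdet : (!![1, 0; 0, -1] : Matrix (Fin 2) (Fin 2) K).det ≠ 0 := by
    simp [Matrix.det_fin_two]
  have := Subgroup.mem_center_iff.mp hc (Matrix.GeneralLinearGroup.mkOfDetNeZero _ hdet)
  have h3 := congrArg (fun g : GL (Fin 2) K => (g : Matrix (Fin 2) (Fin 2) K) 0 1) this
  simp only [Units.val_mul, a0_val] at h3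
  have h4 : (!![1, 0; 0, -1] : Matrix (Fin 2) (Fin 2) K) * A0 K = !![0, -1; -1, 0] := by
    ext i j; fin_cases i <;> fin_cases j <;> simp [A0, Matrix.mul_apply, Fin.sum_univ_two]
  have h5 : A0 K * (!![1, 0; 0, -1] : Matrix (Fin 2) (Fin 2) K) = !![0, 1; 1, 0] := by
    ext i j; fin_cases i <;> fin_cases j <;> simp [A0, Matrix.mul_apply, Fin.sum_univ_two]
  have h6 : ((Matrix.GeneralLinearGroup.mkOfDetNeZero _ hdet : GL (Fin 2) K) :
      Matrix (Fin 2) (Fin 2) K) = !![1, 0; 0, -1] := rfl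
  rw [h6, h4, h5] at h3
  simp at h3
  apply h2
  linear_combination -h3

/-- For every `M`, the groups `Ntil` and `M Ntil M⁻¹` share a non-central element. -/
theorem exists_common (hns : ¬ IsSquare (-1 : K)) (h2 : (2 : K) ≠ 0) (M : GL (Fin 2) K) :
    ∃ y ∈ Ntil K, M⁻¹ * y * M ∈ Ntil K ∧ y ∉ Subgroup.center (GL (Fin 2) K) := by
  set Mm : Matrix (Fin 2) (Fin 2) K := (M : Matrix (Fin 2) (Fin 2) K) with hMm
  set Mi : Matrix (Fin 2) (Fin 2) K := ((M⁻¹ : GL (Fin 2) K) : Matrix (Fin 2) (Fin 2) K) with hMi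
  have h1 : Mi * Mm = 1 := by
    rw [hMi, hMm, ← Units.val_mul, inv_mul_cancel, Units.val_one]
  have h1' : Mm * Mi = 1 := by
    rw [hMi, hMm, ← Units.val_mul, mul_inv_cancel, Units.val_one]
  set A' : Matrix (Fin 2) (Fin 2) K := Mm * A0 K * Mi with hA'
  have hA'A' : A' * A' = -1 := by
    calc A' * A' = Mm * (A0 K * (Mi * Mm) * A0 K) * Mi := by rw [hA']; simp only [mul_assoc]
      _ = -1 := by rw [h1, mul_one, A0_mul_self, mul_neg, mul_one, neg_mul, h1']
  set Y0 : Matrix (Fin 2) (Fin 2) K := A0 K * A' - A' * A0 K with hY0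
  have hYA : Y0 * A0 K = -(A0 K * Y0) := anticomm_left A0_mul_self
  have hYA' : Y0 * A' = -(A' * Y0) := anticomm_right hA'A'
  by_cases hzero : Y0 = 0
  · refine ⟨a0 K, Or.inl rfl, ?_, a0_not_mem_center h2⟩
    rw [mem_Ntil]
    left
    simp only [Units.val_mul, a0_val]
    apply conj_comm h1
    have : A0 K * A' - A' * A0 K = 0 := hzero
    exact sub_eq_zero.mp this
  · have hdet := det_ne_zero_of_anti hns hYA hzero
    refine ⟨Matrix.GeneralLinearGroup.mkOfDetNeZero Y0 hdet, Or.inr hYA, ?_, ?_⟩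
    · rw [mem_Ntil]
      right
      simp only [Units.val_mul]
      exact conj_anti h1 hYA'
    · intro hc
      have := Subgroup.mem_center_iff.mp hc (a0 K)
      have h3 : A0 K * Y0 = Y0 * A0 K := by
        have := congrArg (fun g : GL (Fin 2) K => (g : Matrix (Fin 2) (Fin 2) K)) this
        simp only [Units.val_mul, a0_val] at this
        exact this
      rw [hYA] at h3
      have h4 : (2 : K) • (A0 K * Y0) = 0 := by
        rw [two_smul]; nth_rewrite 1 [h3]; exact neg_add_cancel _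
      have h5 : A0 K * Y0 = 0 := by
        rcases smul_eq_zero.mp h4 with h | h
        · exact absurd h h2
        · exact h
      apply hzero
      have : A0 K * (A0 K * Y0) = 0 := by rw [h5, mul_zero]
      rw [← mul_assoc, A0_mul_self, neg_mul, one_mul, neg_eq_zero] at this
      exact this

end Field

section Mersenne

variable {q : ℕ} [Fact q.Prime]

theorem A0_pow_card (hq4 : q % 4 = 3) : A0 (ZMod q) ^ q = -A0 (ZMod q) := by
  obtain ⟨m, hm⟩ : ∃ m, q = 4 * m + 3 := ⟨q / 4, by omega⟩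
  have h4 : A0 (ZMod q) ^ 4 = 1 := by
    have : A0 (ZMod q) ^ 4 = (A0 (ZMod q) * A0 (ZMod q)) * (A0 (ZMod q) * A0 (ZMod q)) := by
      noncomm_ring
    rw [this, A0_mul_self]; simp
  have h3 : A0 (ZMod q) ^ 3 = -A0 (ZMod q) := by
    have : A0 (ZMod q) ^ 3 = (A0 (ZMod q) * A0 (ZMod q)) * A0 (ZMod q) := by noncomm_ring
    rw [this, A0_mul_self]; simp
  have e : A0 (ZMod q) ^ q = A0 (ZMod q) ^ (4 * m + 3) :=
    congrArg (fun n => A0 (ZMod q) ^ n) hm
  rw [e, pow_add, pow_mul, h4, one_pow, one_mul, h3]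

/-- Every matrix commuting or anticommuting with `A0` has a `2`-power that is a scalar matrix. -/
theorem pow_scalar {k : ℕ} (hk : q + 1 = 2 ^ k) (hk1 : 1 ≤ k) (hq4 : q % 4 = 3)
    {Y : Matrix (Fin 2) (Fin 2) (ZMod q)}
    (hg : Y * A0 (ZMod q) = A0 (ZMod q) * Y ∨ Y * A0 (ZMod q) = -(A0 (ZMod q) * Y)) :
    ∃ c : ZMod q, Y ^ 2 ^ k = c • (1 : Matrix (Fin 2) (Fin 2) (ZMod q)) := by
  rcases hg with h | h
  · -- commuting type
    obtain ⟨α, β, rfl⟩ : ∃ α β : ZMod q, Y = !![α, -β; β, α] := ⟨_, _, comm_form h⟩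
    have hform : (!![α, -β; β, α] : Matrix (Fin 2) (Fin 2) (ZMod q)) =
        α • (1 : Matrix (Fin 2) (Fin 2) (ZMod q)) + β • A0 (ZMod q) := by
      ext i j
      fin_cases i <;> fin_cases j <;> simp [A0]
    have hcomm : Commute (α • (1 : Matrix (Fin 2) (Fin 2) (ZMod q))) (β • A0 (ZMod q)) :=
      ((Commute.one_left (A0 (ZMod q))).smul_left α).smul_right β
    have hfrob : (α • (1 : Matrix (Fin 2) (Fin 2) (ZMod q)) + β • A0 (ZMod q)) ^ q =
        α • (1 : Matrix (Fin 2) (Fin 2) (ZMod q)) - β • A0 (ZMod q) := by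
      rw [add_pow_char_of_commute _ hcomm, smul_pow, smul_pow, one_pow, ZMod.pow_card,
        ZMod.pow_card, A0_pow_card hq4, smul_neg, sub_eq_add_neg]
    refine ⟨α ^ 2 + β ^ 2, ?_⟩
    rw [hform, ← hk, pow_succ, hfrob]
    have hAA := A0_mul_self (K := ZMod q)
    simp only [sub_mul, mul_add, smul_mul_assoc, mul_smul_comm, one_mul, mul_one, hAA, smul_neg]
    module
  · -- anticommuting type
    obtain ⟨α, β, rfl⟩ : ∃ α β : ZMod q, Y = !![α, β; β, -α] := ⟨_, _, anti_form h⟩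
    have hsq : (!![α, β; β, -α] : Matrix (Fin 2) (Fin 2) (ZMod q)) * !![α, β; β, -α] =
        (α ^ 2 + β ^ 2) • (1 : Matrix (Fin 2) (Fin 2) (ZMod q)) := by
      ext i j
      fin_cases i <;> fin_cases j <;> simp [Matrix.mul_apply, Fin.sum_univ_two] <;> ring
    obtain ⟨j, rfl⟩ : ∃ j, k = j + 1 := ⟨k - 1, by omega⟩
    refine ⟨(α ^ 2 + β ^ 2) ^ 2 ^ j, ?_⟩
    rw [pow_succ, mul_comm, pow_mul, pow_two, hsq, smul_pow, one_pow]

end Mersenne

/-- Let q = 2^k − 1 ≥ 7 be a prime and let G = PGL(2,q), the general linear group of degree 2 over the field with q elements modulo its centre. Then any two Sylow 2-subgroups of G have a non-trivial intersection: for a Sylow 2-subgroup H and every x ∈ G, H ∩ H^x ≠ 1. -/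
theorem result {q k : ℕ} [Fact q.Prime] (hk : q + 1 = 2 ^ k) (hq : 7 ≤ q)
    (H : Sylow 2 (GL (Fin 2) (ZMod q) ⧸ Subgroup.center (GL (Fin 2) (ZMod q))))
    (x : GL (Fin 2) (ZMod q) ⧸ Subgroup.center (GL (Fin 2) (ZMod q))) :
    (H : Subgroup (GL (Fin 2) (ZMod q) ⧸ Subgroup.center (GL (Fin 2) (ZMod q)))) ⊓ MulAut.conj x • (H : Subgroup _) ≠ ⊥ := by
  classical
  have hqprime : q.Prime := Fact.out
  have hk3 : 3 ≤ k := by
    by_contra hlt
    have hk2 : k ≤ 2 := by omega
    have : 2 ^ k ≤ 2 ^ 2 := Nat.pow_le_pow_right (by norm_num) hk2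
    omega
  have hq4 : q % 4 = 3 := by
    have : (2 : ℕ) ^ 2 ∣ 2 ^ k := pow_dvd_pow 2 (by omega)
    rw [← hk] at this
    omega
  have hns : ¬ IsSquare (-1 : ZMod q) := by
    rw [ZMod.exists_sq_eq_neg_one_iff]
    omega
  have h2 : (2 : ZMod q) ≠ 0 := by
    intro h
    have h' : ((2 : ℕ) : ZMod q) = 0 := by exact_mod_cast h
    rw [ZMod.natCast_eq_zero_iff] at h'
    have := Nat.le_of_dvd (by norm_num) h'
    omega
  let π : GL (Fin 2) (ZMod q) →* GL (Fin 2) (ZMod q) ⧸ Subgroup.center (GL (Fin 2) (ZMod q)) :=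
    QuotientGroup.mk' (Subgroup.center (GL (Fin 2) (ZMod q)))
  have hπ : Function.Surjective π := QuotientGroup.mk'_surjective _
  -- the image of `Ntil` is a 2-group
  have hN2 : IsPGroup 2 ((Ntil (ZMod q)).map π) := by
    rintro ⟨w, hw⟩
    refine ⟨k, ?_⟩
    obtain ⟨g, hg, rfl⟩ := Subgroup.mem_map.mp hw
    apply Subtype.ext
    show (π g) ^ 2 ^ k = 1
    rw [← map_pow]
    apply (QuotientGroup.eq_one_iff _).mpr
    obtain ⟨c, hc⟩ := pow_scalar hk (by omega) hq4 hg
    rw [Subgroup.mem_center_iff]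
    intro h
    apply Units.ext
    rw [Units.val_mul, Units.val_mul, Units.val_pow_eq_pow_val, hc]
    simp
  obtain ⟨H₀, hH₀⟩ := hN2.exists_le_sylow
  obtain ⟨g, hg⟩ := MulAction.exists_smul_eq
    (GL (Fin 2) (ZMod q) ⧸ Subgroup.center (GL (Fin 2) (ZMod q))) H₀ H
  obtain ⟨M, hM⟩ := hπ (g⁻¹ * x * g)
  obtain ⟨y, hyN, hyMN, hyc⟩ := exists_common hns h2 M
  have hw1 : π y ∈ H₀ := hH₀ (Subgroup.mem_map_of_mem π hyN)
  have hw2 : (g⁻¹ * x * g)⁻¹ * π y * (g⁻¹ * x * g) ∈ H₀ := by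
    rw [← hM, ← map_inv, ← map_mul, ← map_mul]
    exact hH₀ (Subgroup.mem_map_of_mem π hyMN)
  have hw3 : π y ≠ 1 := by
    intro h
    exact hyc ((QuotientGroup.eq_one_iff y).mp h)
  have hHmem : ∀ w, w ∈ H₀ → g * w * g⁻¹ ∈ H := by
    intro w hw
    rw [← hg]
    show g * w * g⁻¹ ∈ MulAut.conj g • (H₀ : Subgroup _)
    rw [Subgroup.mem_smul_pointwise_iff_exists]
    exact ⟨w, hw, by rw [MulAut.smul_def, MulAut.conj_apply]⟩
  have e1 : g * π y * g⁻¹ ∈ H := hHmem _ hw1
  have e2 : x⁻¹ * (g * π y * g⁻¹) * x ∈ H := by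
    have := hHmem _ hw2
    have e : g * ((g⁻¹ * x * g)⁻¹ * π y * (g⁻¹ * x * g)) * g⁻¹ = x⁻¹ * (g * π y * g⁻¹) * x := by
      group
    rwa [e] at this
  intro hbot
  have hmem : g * π y * g⁻¹ ∈ (H : Subgroup _) ⊓ MulAut.conj x • (H : Subgroup _) := by
    refine Subgroup.mem_inf.mpr ⟨e1, ?_⟩
    rw [Subgroup.mem_pointwise_smul_iff_inv_smul_mem, MulAut.smul_def, MulAut.conj_inv_apply]
    exact e2
  rw [hbot, Subgroup.mem_bot] at hmem
  apply hw3
  have : π y = g⁻¹ * (g * π y * g⁻¹) * g := by group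
  rw [this, hmem]
  group

end Cfsg.Agent.S2485
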