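import Cfsg.Statements.S2486
import Cfsg.Agent.Lib.Helper39.LnTwoC

set_option autoImplicit false
open Cfsg

namespace Cfsg.Agent.S2486

open scoped Pointwise

/-- Let n ≥ 4 and let G be a finite group with a normal subgroup N of index 2 isomorphic to SL(n,2) and with trivial centralizer in G (so G is the extension of the simple group L_n(2) by its inverse-transpose automorphism, its full automorphism group). Then any two Sylow 2-subgroups of G have a non-trivial intersection: for a Sylow 2-subgroup H and every x ∈ G, H ∩ H^x ≠ 1. -/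
theorem result {G : Type*} [Group G] [Finite G] {n : ℕ} (hn : 4 ≤ n) (N : Subgroup G) [N.Normal]
    (e : N ≃* Matrix.SpecialLinearGroup (Fin n) (ZMod 2)) (hidx : N.index = 2)
    (hC : Subgroup.centralizer (N : Set G) = ⊥)
    (H : Sylow 2 G) (x : G) :
    (H : Subgroup G) ⊓ MulAut.conj x • (H : Subgroup G) ≠ ⊥ := by
  have : Fact (Nat.Prime 2) := ⟨Nat.prime_two⟩
  obtain ⟨H₀, hH₀p, hH₀⟩ :=
    Cfsg.Agent.Lib.Helper39.LnTwo.exists_two_subgroup (by omega) N e hidx hC
  obtain ⟨P, hP⟩ := hH₀p.exists_le_sylow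
  obtain ⟨y, hy⟩ := MulAction.exists_smul_eq G P H
  have hHmem : ∀ a : G, a ∈ (H : Subgroup G) ↔ y⁻¹ * a * y ∈ (P : Subgroup G) := by
    intro a
    rw [← hy, Sylow.coe_subgroup_smul, Subgroup.mem_pointwise_smul_iff_inv_smul_mem]
    rw [MulAut.smul_def, ← map_inv, MulAut.conj_apply, inv_inv]
  obtain ⟨z, hz1, hzH, hzx⟩ := hH₀ (y⁻¹ * x * y)
  intro hbot
  have hmem : y * z * y⁻¹ ∈ (H : Subgroup G) ⊓ MulAut.conj x • (H : Subgroup G) := by
    rw [Subgroup.mem_inf]
    constructor
    · rw [hHmem]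
      have : y⁻¹ * (y * z * y⁻¹) * y = z := by group
      rw [this]
      exact hP hzH
    · rw [Subgroup.mem_pointwise_smul_iff_inv_smul_mem, MulAut.smul_def,
        ← map_inv, MulAut.conj_apply, inv_inv, hHmem]
      have : y⁻¹ * (x⁻¹ * (y * z * y⁻¹) * x) * y = (y⁻¹ * x * y)⁻¹ * z * (y⁻¹ * x * y) := by
        group
      rw [this]
      exact hP hzx
  rw [hbot, Subgroup.mem_bot] at hmem
  apply hz1
  have : z = y⁻¹ * (y * z * y⁻¹) * y := by group
  rw [this, hmem]
  group

end Cfsg.Agent.S2486
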