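import Cfsg.Statements.S2488
import Cfsg.Agent.Lib.Helper70.AltSixInv

set_option autoImplicit false
open scoped Pointwise
open Cfsg

namespace Cfsg.Agent.S2488

section

variable {G : Type*} [Group G] (N : Subgroup G) [N.Normal]

/-- conjugation action of a subgroup on the involutions of a normal subgroup -/
@[reducible] def invAct (H : Subgroup G) : MulAction H {t : N // t * t = 1 ∧ t ≠ 1} where
  smul h t := ⟨MulAut.conjNormal (h : G) t.1, by
      rw [← map_mul, t.2.1, map_one], by
      intro h1
      exact t.2.2 ((MulEquiv.map_eq_one_iff _).mp h1)⟩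
  one_smul t := by
    apply Subtype.ext
    show MulAut.conjNormal ((1 : H) : G) t.1 = t.1
    simp
  mul_smul a b t := by
    apply Subtype.ext
    show MulAut.conjNormal ((a * b : H) : G) t.1 =
      MulAut.conjNormal (a : G) (MulAut.conjNormal (b : G) t.1)
    simp [map_mul]

theorem invAct_smul (H : Subgroup G) (h : H) (t : {t : N // t * t = 1 ∧ t ≠ 1}) :
    ((letI := invAct N H; h • t).1 : N) = MulAut.conjNormal (h : G) t.1 := rfl

end

theorem card_sylow_two {G : Type*} [Group G] [Finite G] (hG : Nat.card G = 1440) (H : Sylow 2 G) :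
    Nat.card (H : Subgroup G) = 32 := by
  have h1 := H.card_eq_multiplicity
  rw [hG] at h1
  have h2 : (1440 : ℕ).factorization 2 = 5 := by
    have h3 : (1440 : ℕ) = 2 ^ 5 * 45 := by norm_num
    rw [h3, Nat.factorization_mul (by norm_num) (by norm_num), Nat.factorization_pow]
    simp [Nat.Prime.factorization_self Nat.prime_two,
      Nat.factorization_eq_zero_of_not_dvd (show ¬ 2 ∣ 45 by norm_num)]
  rw [h2] at h1
  rw [h1]; norm_num

/-- Let G be a finite group with a normal subgroup N of index 4 isomorphic to the alternating group of degree 6 and with trivial centralizer in G (so G is the full automorphism group of A₆). Then any two Sylow 2-subgroups of G have a non-trivial intersection: for a Sylow 2-subgroup H and every x ∈ G, H ∩ H^x ≠ 1. -/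
theorem result {G : Type*} [Group G] [Finite G] (N : Subgroup G) [N.Normal]
    (e : N ≃* alternatingGroup (Fin 6)) (hidx : N.index = 4)
    (hC : Subgroup.centralizer (N : Set G) = ⊥)
    (H : Sylow 2 G) (x : G) :
    (H : Subgroup G) ⊓ MulAut.conj x • (H : Subgroup G) ≠ ⊥ := by
  classical
  have hNcard : Nat.card N = 360 := by
    rw [Nat.card_congr e.toEquiv, nat_card_alternatingGroup]
    simp [Nat.factorial]
  have hGcard : Nat.card G = 1440 := by
    have := N.card_mul_index
    rw [hNcard, hidx] at this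
    omega
  have hHcard : Nat.card (H : Subgroup G) = 32 := card_sylow_two hGcard H
  -- the involutions of `N`
  have hX : Nat.card {t : N // t * t = 1 ∧ t ≠ 1} = 45 := by
    rw [← Cfsg.Agent.Lib.Helper70.as_card_inv]
    apply Nat.card_congr
    refine e.toEquiv.subtypeEquiv ?_
    intro t
    show t * t = 1 ∧ t ≠ 1 ↔ e t * e t = 1 ∧ e t ≠ 1
    rw [← map_mul, MulEquiv.map_eq_one_iff, ne_eq, ne_eq, MulEquiv.map_eq_one_iff]
  letI := invAct N (H : Subgroup G)
  have hfix := (H.isPGroup').nonempty_fixed_point_of_prime_not_dvd_card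
    {t : N // t * t = 1 ∧ t ≠ 1} (by rw [hX]; norm_num)
  obtain ⟨⟨t0, ht0a, ht0b⟩, hfix0⟩ := hfix
  have hfixN : ∀ h ∈ (H : Subgroup G), MulAut.conjNormal h t0 = t0 := by
    intro h hh
    have h1 := hfix0 ⟨h, hh⟩
    exact congrArg Subtype.val h1
  have hfix1 : ∀ h ∈ (H : Subgroup G), h * (t0 : G) * h⁻¹ = t0 := by
    intro h hh
    have h1 := congrArg Subtype.val (hfixN h hh)
    rwa [MulAut.conjNormal_apply] at h1
  -- the centralizer of `t0`
  set C : Subgroup G := Subgroup.centralizer {(t0 : G)} with hCdef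
  have hmemC : ∀ g : G, g ∈ C ↔ (t0 : G) * g = g * t0 := by
    intro g
    rw [hCdef, Subgroup.mem_centralizer_iff]
    constructor
    · intro h; exact h _ rfl
    · intro h y hy; rw [Set.mem_singleton_iff.mp hy]; exact h
  have hHC : (H : Subgroup G) ≤ C := by
    intro h hh
    rw [hmemC]
    have := hfix1 h hh
    calc (t0 : G) * h = (h * t0 * h⁻¹) * h := by rw [this]
      _ = h * t0 := by group
  have het0a : e t0 * e t0 = 1 := by rw [← map_mul, ht0a, map_one]
  have het0b : e t0 ≠ 1 := by rwa [ne_eq, MulEquiv.map_eq_one_iff]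
  have hCN : Nat.card (N.subgroupOf C) ≤ 8 := by
    refine le_trans ?_ (Cfsg.Agent.Lib.Helper70.as_card_centralizer_le (e t0) het0a het0b)
    have hcomm : ∀ c : N.subgroupOf C,
        e ⟨c.1.1, c.2⟩ * e t0 = e t0 * e ⟨c.1.1, c.2⟩ := by
      intro c
      rw [← map_mul, ← map_mul]
      congr 1
      apply Subtype.ext
      have := (hmemC c.1.1).mp c.1.2
      simpa using this.symm
    apply Nat.card_le_card_of_injective
      (fun c : N.subgroupOf C => (⟨e ⟨c.1.1, c.2⟩, hcomm c⟩ :
        {g : alternatingGroup (Fin 6) // g * e t0 = e t0 * g}))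
    intro a b hab
    have h1 := congrArg Subtype.val hab
    have h2 := e.injective h1
    have h3 := congrArg Subtype.val h2
    apply Subtype.ext
    apply Subtype.ext
    exact h3
  have hCcard : Nat.card C ≤ 32 := by
    have h1 := Subgroup.card_mul_index (N.subgroupOf C)
    have h2 : (N.subgroupOf C).index ≤ 4 := by
      have : N.relIndex C ∣ N.index := Subgroup.relIndex_dvd_index_of_normal N C
      rw [hidx] at this
      exact Nat.le_of_dvd (by norm_num) this
    calc Nat.card C = Nat.card (N.subgroupOf C) * (N.subgroupOf C).index := h1.symm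
      _ ≤ 8 * 4 := Nat.mul_le_mul hCN h2
  have hHeq : (H : Subgroup G) = C :=
    Subgroup.eq_of_le_of_card_ge hHC (by rw [hHcard]; exact hCcard)
  -- the conjugate involution
  set t1 : N := MulAut.conjNormal x t0 with ht1def
  have ht1G : (t1 : G) = x * t0 * x⁻¹ := by rw [ht1def, MulAut.conjNormal_apply]
  have ht1a : t1 * t1 = 1 := by rw [ht1def, ← map_mul, ht0a, map_one]
  intro hbot
  obtain ⟨m, hm, hpow⟩ := Cfsg.Agent.Lib.Helper70.as_exists_pow (e t0 * e t1)
  have hpowN : (t0 * t1) ^ m = 1 := by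
    rw [← map_mul, ← map_pow, MulEquiv.map_eq_one_iff] at hpow
    exact hpow
  have hY : Nat.card {s : N // s * s = 1 ∧ (t0 * s) ^ m = 1} ≤ 17 := by
    refine le_trans (le_of_eq ?_)
      (Cfsg.Agent.Lib.Helper70.as_card_pow_le (e t0) het0a het0b m hm)
    apply Nat.card_congr
    refine e.toEquiv.subtypeEquiv ?_
    intro s
    show s * s = 1 ∧ (t0 * s) ^ m = 1 ↔ e s * e s = 1 ∧ (e t0 * e s) ^ m = 1
    rw [← map_mul, ← map_mul, ← map_pow, MulEquiv.map_eq_one_iff, MulEquiv.map_eq_one_iff]
  have hφmem : ∀ h : (H : Subgroup G),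
      MulAut.conjNormal (h : G) t1 * MulAut.conjNormal (h : G) t1 = 1 ∧
        (t0 * MulAut.conjNormal (h : G) t1) ^ m = 1 := by
    intro h
    constructor
    · rw [← map_mul, ht1a, map_one]
    · have h1 : t0 * MulAut.conjNormal (h : G) t1 = MulAut.conjNormal (h : G) (t0 * t1) := by
        rw [map_mul, hfixN h h.2]
      rw [h1, ← map_pow, hpowN, map_one]
  have hinj : Function.Injective (fun h : (H : Subgroup G) =>
      (⟨MulAut.conjNormal (h : G) t1, hφmem h⟩ : {s : N // s * s = 1 ∧ (t0 * s) ^ m = 1})) := by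
    intro a b hab
    have h1 := congrArg (fun z => ((z.1 : N) : G)) hab
    simp only [MulAut.conjNormal_apply] at h1
    -- h1 : a * t1 * a⁻¹ = b * t1 * b⁻¹
    set g : G := (b : G)⁻¹ * a with hg
    have hgH : g ∈ (H : Subgroup G) := (H : Subgroup G).mul_mem ((H : Subgroup G).inv_mem b.2) a.2
    have hgt1 : g * (t1 : G) = t1 * g := by
      have : (b : G)⁻¹ * ((a : G) * t1 * (a : G)⁻¹) * a = (b : G)⁻¹ * ((b : G) * t1 * (b : G)⁻¹) * a := by
        rw [h1]
      have e1 : (b : G)⁻¹ * ((a : G) * t1 * (a : G)⁻¹) * a = g * t1 := by rw [hg]; group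
      have e2 : (b : G)⁻¹ * ((b : G) * t1 * (b : G)⁻¹) * a = t1 * g := by rw [hg]; group
      rw [e1, e2] at this
      exact this
    have hgx : g ∈ MulAut.conj x • (H : Subgroup G) := by
      rw [Subgroup.mem_pointwise_smul_iff_inv_smul_mem, hHeq, hmemC]
      show (t0 : G) * ((MulAut.conj x)⁻¹ g) = ((MulAut.conj x)⁻¹ g) * t0
      rw [MulAut.conj_inv_apply]
      rw [ht1G] at hgt1
      have e1 : (t0 : G) * (x⁻¹ * g * x) = x⁻¹ * ((x * t0 * x⁻¹) * g) * x := by group
      have e2 : x⁻¹ * g * x * (t0 : G) = x⁻¹ * (g * (x * t0 * x⁻¹)) * x := by group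
      rw [e1, e2, hgt1]
    have hg1 : g = 1 := by
      have : g ∈ (H : Subgroup G) ⊓ MulAut.conj x • (H : Subgroup G) := ⟨hgH, hgx⟩
      rw [hbot] at this
      exact Subgroup.mem_bot.mp this
    apply Subtype.ext
    have : (a : G) = b := by
      have h2 : (b : G) * g = a := by rw [hg]; group
      rw [← h2, hg1, mul_one]
    exact this
  have := Nat.card_le_card_of_injective _ hinj
  rw [hHcard] at this
  omega

end Cfsg.Agent.S2488
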