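import Cfsg.Statements.S2503
import Mathlib

set_option autoImplicit false
open Cfsg

namespace Cfsg.Agent.S2503

open Matrix

section part1
variable {F : Type*} [Field F] [Fintype F]

theorem charP_two (h2 : 2 ∣ Fintype.card F) : CharP F 2 := by
  obtain ⟨n, hp, hn⟩ := FiniteField.card F (ringChar F)
  rw [hn] at h2
  have h3 : 2 ∣ ringChar F := Nat.Prime.dvd_of_dvd_pow Nat.prime_two h2
  have h4 : 2 = ringChar F := (Nat.prime_dvd_prime_iff_eq Nat.prime_two hp).mp h3
  rw [h4]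
  exact ringChar.charP F

/-- the centre of `SL(2,F)` is trivial in characteristic 2 -/
theorem center_eq_bot [CharP F 2] : Subgroup.center (Matrix.SpecialLinearGroup (Fin 2) F) = ⊥ := by
  rw [eq_bot_iff]
  intro A hA
  rw [Matrix.SpecialLinearGroup.mem_center_iff] at hA
  obtain ⟨r, hr, hrA⟩ := hA
  rw [Fintype.card_fin] at hr
  have hr1 : r = 1 := by
    have : (r + 1) ^ 2 = 0 := by
      rw [CharTwo.add_sq, hr, one_pow]
      exact CharTwo.add_self_eq_zero 1
    have h := pow_eq_zero_iff (two_ne_zero) |>.mp this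
    exact (CharTwo.add_eq_zero.mp h)
  rw [Subgroup.mem_bot]
  apply Subtype.ext
  rw [← hrA, hr1]
  simp

/-- transport along a group isomorphism -/
theorem transport {S L : Type*} [Group S] [Group L] (e : S ≃* L) (q : ℕ)
    (h : ∃ A B : Subgroup S, IsCyclic A ∧ Nat.card A = q + 1 ∧ IsMulCommutative B ∧ (∀ b ∈ B, b * b = 1) ∧
        Nat.card B = q ∧ ∀ g : S, ∃ a ∈ A, ∃ b ∈ B, ∃ c ∈ A, g = a * b * c) :
    ∃ A B : Subgroup L, IsCyclic A ∧ Nat.card A = q + 1 ∧ IsMulCommutative B ∧ (∀ b ∈ B, b * b = 1) ∧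
        Nat.card B = q ∧ ∀ g : L, ∃ a ∈ A, ∃ b ∈ B, ∃ c ∈ A, g = a * b * c := by
  obtain ⟨A, B, hA, hAc, hB, hB2, hBc, hfac⟩ := h
  refine ⟨A.map e.toMonoidHom, B.map e.toMonoidHom, ?_, ?_, ?_, ?_, ?_, ?_⟩
  · exact isCyclic_of_surjective (A.equivMapOfInjective e.toMonoidHom e.injective).toMonoidHom
      (A.equivMapOfInjective e.toMonoidHom e.injective).surjective
  · rw [← hAc]
    exact Nat.card_congr (A.equivMapOfInjective e.toMonoidHom e.injective).symm.toEquiv
  · constructor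
    constructor
    rintro ⟨_, ⟨x, hx, rfl⟩⟩ ⟨_, ⟨y, hy, rfl⟩⟩
    apply Subtype.ext
    have := hB.is_comm.comm ⟨x, hx⟩ ⟨y, hy⟩
    have h' : x * y = y * x := congrArg Subtype.val this
    show e.toMonoidHom x * e.toMonoidHom y = e.toMonoidHom y * e.toMonoidHom x
    rw [← map_mul, ← map_mul, h']
  · rintro _ ⟨x, hx, rfl⟩
    rw [← map_mul, hB2 x hx, map_one]
  · rw [← hBc]
    exact Nat.card_congr (B.equivMapOfInjective e.toMonoidHom e.injective).symm.toEquiv
  · intro g
    obtain ⟨a, ha, b, hb, c, hc, hg⟩ := hfac (e.symm g)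
    refine ⟨e a, ⟨a, ha, rfl⟩, e b, ⟨b, hb, rfl⟩, e c, ⟨c, hc, rfl⟩, ?_⟩
    rw [← map_mul, ← map_mul, ← hg, e.apply_symm_apply]

/-- `PSL(2,F) ≃* SL(2,F)` in characteristic 2 -/
noncomputable def pslEquiv [CharP F 2] : Matrix.SpecialLinearGroup (Fin 2) F ≃* Matrix.ProjectiveSpecialLinearGroup (Fin 2) F :=
  ((QuotientGroup.quotientMulEquivOfEq (center_eq_bot (F := F))).trans QuotientGroup.quotientBot).symm


end part1

section part2
variable {F : Type*} [Field F] [Fintype F] [CharP F 2]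
/-- the norm form -/
def Nm (t x y : F) : F := x ^ 2 + t * x * y + y ^ 2

omit [Fintype F] [CharP F 2] in
theorem Nm_smul (t l x y : F) : Nm t (l * x) (l * y) = l ^ 2 * Nm t x y := by
  unfold Nm; ring

theorem exists_t : ∃ t : F, ∀ x y : F, Nm t x y = 0 → x = 0 ∧ y = 0 := by
  classical
  have hns : ¬ Function.Surjective (fun r : Fˣ => (r : F) + ((r⁻¹ : Fˣ) : F)) := by
    intro hs
    have := Fintype.card_le_of_surjective _ hs
    rw [Fintype.card_units] at this
    have hpos : 0 < Fintype.card F := Fintype.card_pos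
    omega
  obtain ⟨t, ht⟩ : ∃ t : F, ∀ r : Fˣ, (r : F) + ((r⁻¹ : Fˣ) : F) ≠ t := by
    by_contra hcon
    push Not at hcon
    exact hns hcon
  refine ⟨t, ?_⟩
  intro x y hxy
  by_cases hy : y = 0
  · subst hy
    simp only [Nm, mul_zero, add_zero, ne_eq, OfNat.ofNat_ne_zero, not_false_eq_true, zero_pow] at hxy
    exact ⟨pow_eq_zero_iff (two_ne_zero) |>.mp hxy, rfl⟩
  · exfalso
    have hx : x ≠ 0 := by
      rintro rfl
      simp only [Nm, ne_eq, OfNat.ofNat_ne_zero, not_false_eq_true, zero_pow, mul_zero, zero_mul, add_zero,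
        zero_add] at hxy
      exact hy (pow_eq_zero_iff (two_ne_zero) |>.mp hxy)
    apply ht (Units.mk0 x hx * (Units.mk0 y hy)⁻¹)
    simp only [_root_.mul_inv_rev, inv_inv, Units.val_mul, Units.val_mk0, Units.val_inv_eq_inv_val]
    have h1 : t * x * y = x ^ 2 + y ^ 2 := by
      have : t * x * y + (x ^ 2 + y ^ 2) = 0 := by
        rw [← hxy]; unfold Nm; ring
      exact CharTwo.add_eq_zero.mp this
    field_simp
    rw [← h1]
    ring

theorem exists_sqrt (c : F) : ∃ s : F, s ^ 2 = c := by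
  have hinj : Function.Injective (fun x : F => x ^ 2) := by
    intro x y hxy
    simp only at hxy
    have : (x + y) ^ 2 = 0 := by
      rw [CharTwo.add_sq, hxy]; exact CharTwo.add_self_eq_zero _
    exact CharTwo.add_eq_zero.mp (pow_eq_zero_iff (two_ne_zero) |>.mp this)
  exact Finite.surjective_of_injective hinj c

/-- square root function -/
noncomputable def sqrt2 (c : F) : F := (exists_sqrt c).choose

theorem sqrt2_sq (c : F) : sqrt2 c ^ 2 = c := (exists_sqrt c).choose_spec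

theorem sqrt2_ne_zero {c : F} (hc : c ≠ 0) : sqrt2 c ≠ 0 := by
  intro h
  have := sqrt2_sq c
  rw [h] at this
  simp at this
  exact hc this.symm

theorem sq_inj {x y : F} (h : x ^ 2 = y ^ 2) : x = y := by
  have : (x + y) ^ 2 = 0 := by
    rw [CharTwo.add_sq, h]; exact CharTwo.add_self_eq_zero _
  exact CharTwo.add_eq_zero.mp (pow_eq_zero_iff (two_ne_zero) |>.mp this)

/-- counting the conic -/
theorem card_conic (t : F) (ht : ∀ x y : F, Nm t x y = 0 → x = 0 ∧ y = 0) [DecidableEq F] :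
    Fintype.card {z : F × F // Nm t z.1 z.2 = 1} = Fintype.card F + 1 := by
  have e : {z : F × F // z ≠ 0} ≃ Fˣ × {z : F × F // Nm t z.1 z.2 = 1} :=
    { toFun := fun z => (Units.mk0 (Nm t z.1.1 z.1.2) (by
          intro h
          obtain ⟨h1, h2⟩ := ht _ _ h
          exact z.2 (Prod.ext h1 h2)),
        ⟨((sqrt2 (Nm t z.1.1 z.1.2))⁻¹ * z.1.1, (sqrt2 (Nm t z.1.1 z.1.2))⁻¹ * z.1.2), by
          have hne : Nm t z.1.1 z.1.2 ≠ 0 := by
            intro h
            obtain ⟨h1, h2⟩ := ht _ _ h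
            exact z.2 (Prod.ext h1 h2)
          rw [Nm_smul, inv_pow, sqrt2_sq]
          exact inv_mul_cancel₀ hne⟩)
      invFun := fun p => ⟨(sqrt2 (p.1 : F) * p.2.1.1, sqrt2 (p.1 : F) * p.2.1.2), by
          intro h
          have h1 := (Prod.ext_iff.mp h).1
          have h2 := (Prod.ext_iff.mp h).2
          simp only [Prod.fst_zero, Prod.snd_zero] at h1 h2
          have hs : sqrt2 (p.1 : F) ≠ 0 := sqrt2_ne_zero p.1.ne_zero
          have h1' := (mul_eq_zero.mp h1).resolve_left hs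
          have h2' := (mul_eq_zero.mp h2).resolve_left hs
          have := p.2.2
          rw [h1', h2'] at this
          simp [Nm] at this⟩
      left_inv := by
        rintro ⟨⟨x, y⟩, hz⟩
        have hne : Nm t x y ≠ 0 := by
          intro h
          obtain ⟨h1, h2⟩ := ht _ _ h
          exact hz (Prod.ext h1 h2)
        have hs : sqrt2 (Nm t x y) ≠ 0 := sqrt2_ne_zero hne
        apply Subtype.ext
        simp only [Units.val_mk0]
        ext
        · simp only; field_simp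
        · simp only; field_simp
      right_inv := by
        rintro ⟨c, ⟨⟨x, y⟩, hu⟩⟩
        have hs : sqrt2 (c : F) ≠ 0 := sqrt2_ne_zero c.ne_zero
        simp only at hu
        have hN : Nm t (sqrt2 (c : F) * x) (sqrt2 (c : F) * y) = c := by
          rw [Nm_smul, sqrt2_sq, hu, mul_one]
        ext
        · simp only [Units.val_mk0]; exact hN
        · simp only
          rw [hN]; field_simp
        · simp only
          rw [hN]; field_simp }
  have h1 := Fintype.card_congr e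
  rw [Fintype.card_prod, Fintype.card_units, Fintype.card_subtype_compl, Fintype.card_prod] at h1
  simp only [Fintype.card_subtype_eq, Fintype.card_unique] at h1
  have hq : 2 ≤ Fintype.card F := by
    have := Fintype.one_lt_card (α := F)
    omega
  set q := Fintype.card F with hq'
  set u := Fintype.card {z : F × F // Nm t z.1 z.2 = 1} with hu'
  obtain ⟨k, hk⟩ : ∃ k, q = k + 2 := ⟨q - 2, by omega⟩
  rw [hk] at h1 ⊢
  have h2 : (k + 2) * (k + 2) - 1 = (k + 1) * (k + 3) := by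
    have : (k + 2) * (k + 2) = (k + 1) * (k + 3) + 1 := by ring
    omega
  rw [h2] at h1
  have h3 : k + 2 - 1 = k + 1 := by omega
  rw [h3] at h1
  have := Nat.eq_of_mul_eq_mul_left (by omega : 0 < k + 1) h1
  omega


end part2

section part3
variable {F : Type*} [Field F] [CharP F 2]
local notation "SL2" => Matrix.SpecialLinearGroup (Fin 2) F
local notation "M2" => Matrix (Fin 2) (Fin 2) F
omit [CharP F 2] in
theorem mul_entry (M N : SL2) (i j : Fin 2) : (M * N).1 i j = M.1 i 0 * N.1 0 j + M.1 i 1 * N.1 1 j := by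
  rw [Matrix.SpecialLinearGroup.coe_mul, Matrix.mul_apply, Fin.sum_univ_two]

omit [CharP F 2] in
theorem inv_entry (M : SL2) : (M⁻¹).1 0 0 = M.1 1 1 ∧ (M⁻¹).1 0 1 = - M.1 0 1 ∧ (M⁻¹).1 1 0 = - M.1 1 0 ∧ (M⁻¹).1 1 1 = M.1 0 0 := by
  rw [Matrix.SpecialLinearGroup.coe_inv, Matrix.adjugate_fin_two]
  simp

omit [CharP F 2] in
theorem det_entry (M : SL2) : M.1 0 0 * M.1 1 1 - M.1 0 1 * M.1 1 0 = 1 := by
  have := M.2
  rw [Matrix.det_fin_two] at this
  exact this

theorem neg_eq_self (x : F) : -x = x := CharTwo.neg_eq x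

/-- the torus -/
def torus (t : F) : Subgroup SL2 where
  carrier := {M | M.1 0 1 = M.1 1 0 ∧ M.1 1 1 = M.1 0 0 + t * M.1 0 1}
  mul_mem' := by
    rintro M N ⟨hM1, hM2⟩ ⟨hN1, hN2⟩
    simp only [Set.mem_ofPred_eq, mul_entry]
    rw [← hM1, ← hN1, hM2, hN2]
    constructor <;> ring
  one_mem' := by
    simp
  inv_mem' := by
    rintro M ⟨hM1, hM2⟩
    obtain ⟨h00, h01, h10, h11⟩ := inv_entry M
    simp only [Set.mem_ofPred_eq]
    rw [h00, h01, h10, h11, hM1, hM2, neg_eq_self]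
    constructor
    · rfl
    · rw [← hM1]
      have : t * M.1 0 1 + t * M.1 0 1 = 0 := CharTwo.add_self_eq_zero _
      rw [add_assoc, this, add_zero]

theorem mem_torus (t : F) (M : SL2) : M ∈ torus t ↔ M.1 0 1 = M.1 1 0 ∧ M.1 1 1 = M.1 0 0 + t * M.1 0 1 := Iff.rfl

theorem torus_det (t : F) (M : SL2) (hM : M ∈ torus t) : Nm t (M.1 0 0) (M.1 0 1) = 1 := by
  obtain ⟨h1, h2⟩ := hM
  have := det_entry M
  rw [← h1, h2] at this
  have h3 : - (M.1 0 1 * M.1 0 1) = M.1 0 1 * M.1 0 1 := neg_eq_self _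
  rw [sub_eq_add_neg, h3] at this
  unfold Nm
  calc M.1 0 0 ^ 2 + t * M.1 0 0 * M.1 0 1 + M.1 0 1 ^ 2
      = M.1 0 0 * (M.1 0 0 + t * M.1 0 1) + M.1 0 1 * M.1 0 1 := by ring
    _ = 1 := this

/-- elements of the torus from points of the conic -/
def mkT (t a b : F) (h : Nm t a b = 1) : SL2 :=
  ⟨!![a, b; b, a + t * b], by
    rw [Matrix.det_fin_two_of, ← h]
    unfold Nm
    have h3 : - (b * b) = b * b := neg_eq_self _
    rw [sub_eq_add_neg, h3]
    ring⟩

theorem mkT_mem (t a b : F) (h : Nm t a b = 1) : mkT t a b h ∈ torus t := by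
  rw [mem_torus]
  simp [mkT]

/-- the torus is in bijection with the conic -/
def torusEquiv (t : F) : torus t ≃ {z : F × F // Nm t z.1 z.2 = 1} where
  toFun M := ⟨(M.1.1 0 0, M.1.1 0 1), torus_det t M.1 M.2⟩
  invFun z := ⟨mkT t z.1.1 z.1.2 z.2, mkT_mem t _ _ z.2⟩
  left_inv := by
    rintro ⟨M, hM1, hM2⟩
    apply Subtype.ext
    apply Subtype.ext
    ext i j
    fin_cases i <;> fin_cases j
    · simp [mkT]
    · simp [mkT]
    · simp [mkT]; exact hM1
    · simp [mkT]; exact hM2.symm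
  right_inv := by
    rintro ⟨⟨a, b⟩, h⟩
    simp [mkT]

/-- the unipotent subgroup -/
def unip : Subgroup SL2 where
  carrier := {M | M.1 0 0 = 1 ∧ M.1 1 0 = 0 ∧ M.1 1 1 = 1}
  mul_mem' := by
    rintro M N ⟨hM1, hM2, hM3⟩ ⟨hN1, hN2, hN3⟩
    simp only [Set.mem_ofPred_eq, mul_entry]
    rw [hM1, hM2, hM3, hN1, hN2, hN3]
    simp
  one_mem' := by simp
  inv_mem' := by
    rintro M ⟨hM1, hM2, hM3⟩
    obtain ⟨h00, h01, h10, h11⟩ := inv_entry M
    simp only [Set.mem_ofPred_eq]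
    rw [h00, h10, h11, hM1, hM2, hM3]
    simp

theorem mem_unip (M : SL2) : M ∈ unip (F := F) ↔ M.1 0 0 = 1 ∧ M.1 1 0 = 0 ∧ M.1 1 1 = 1 := Iff.rfl

/-- unipotent elements -/
def mkU (b : F) : SL2 := ⟨!![1, b; 0, 1], by simp [Matrix.det_fin_two_of]⟩

def unipEquiv : unip (F := F) ≃ F where
  toFun M := M.1.1 0 1
  invFun b := ⟨mkU b, by rw [mem_unip]; simp [mkU]⟩
  left_inv := by
    rintro ⟨M, hM1, hM2, hM3⟩
    apply Subtype.ext
    apply Subtype.ext
    ext i j
    fin_cases i <;> fin_cases j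
    · simp [mkU]; exact hM1.symm
    · simp [mkU]
    · simp [mkU]; exact hM2.symm
    · simp [mkU]; exact hM3.symm
  right_inv := by
    intro b
    simp [mkU]

theorem unip_comm (M N : SL2) (hM : M ∈ unip (F := F)) (hN : N ∈ unip (F := F)) : M * N = N * M := by
  obtain ⟨hM1, hM2, hM3⟩ := hM
  obtain ⟨hN1, hN2, hN3⟩ := hN
  apply Subtype.ext
  ext i j
  rw [mul_entry, mul_entry]
  fin_cases i <;> fin_cases j <;> simp [hM1, hM2, hM3, hN1, hN2, hN3] <;> ring

theorem unip_sq (M : SL2) (hM : M ∈ unip (F := F)) : M * M = 1 := by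
  obtain ⟨hM1, hM2, hM3⟩ := hM
  apply Subtype.ext
  ext i j
  rw [mul_entry]
  fin_cases i <;> fin_cases j <;> simp [hM1, hM2, hM3]
  exact CharTwo.add_self_eq_zero _

omit [CharP F 2] in
theorem mul_entry' (M N : M2) (i j : Fin 2) : (M * N) i j = M i 0 * N 0 j + M i 1 * N 1 j := by
  rw [Matrix.mul_apply, Fin.sum_univ_two]

/-- the commutative subring `F[g₀]` -/
def torusRing (t : F) : Subring M2 where
  carrier := {M | M 0 1 = M 1 0 ∧ M 1 1 = M 0 0 + t * M 0 1}
  mul_mem' := by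
    rintro M N ⟨hM1, hM2⟩ ⟨hN1, hN2⟩
    simp only [Set.mem_ofPred_eq, mul_entry']
    rw [← hM1, ← hN1, hM2, hN2]
    constructor <;> ring
  one_mem' := by simp
  add_mem' := by
    rintro M N ⟨hM1, hM2⟩ ⟨hN1, hN2⟩
    simp only [Set.mem_ofPred_eq, Matrix.add_apply]
    constructor
    · rw [← hM1, ← hN1]
    · rw [hM2, hN2]; ring
  zero_mem' := by simp
  neg_mem' := by
    rintro M ⟨hM1, hM2⟩
    simp only [Set.mem_ofPred_eq, Matrix.neg_apply]
    constructor
    · rw [← hM1]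
    · rw [hM2]; ring

theorem mem_torusRing (t : F) (M : M2) : M ∈ torusRing t ↔ M 0 1 = M 1 0 ∧ M 1 1 = M 0 0 + t * M 0 1 := Iff.rfl

theorem torusRing_comm (t : F) (M N : M2) (hM : M ∈ torusRing t) (hN : N ∈ torusRing t) : M * N = N * M := by
  obtain ⟨hM1, hM2⟩ := hM
  obtain ⟨hN1, hN2⟩ := hN
  ext i j
  rw [mul_entry', mul_entry']
  fin_cases i <;> fin_cases j <;> simp only [Fin.zero_eta, Fin.mk_one, Fin.isValue] <;>
    simp only [← hM1, ← hN1, hM2, hN2] <;> ring

theorem torusRing_det (t : F) (M : M2) (hM : M ∈ torusRing t) : M.det = Nm t (M 0 0) (M 0 1) := by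
  obtain ⟨h1, h2⟩ := hM
  rw [Matrix.det_fin_two, ← h1, h2]
  have h3 : - (M 0 1 * M 0 1) = M 0 1 * M 0 1 := neg_eq_self _
  rw [sub_eq_add_neg, h3]
  unfold Nm
  ring

noncomputable instance (t : F) : CommRing (torusRing t) :=
  { (inferInstance : Ring (torusRing t)) with
    mul_comm := fun a b => Subtype.ext (torusRing_comm t a.1 b.1 a.2 b.2) }

theorem torusRing_isDomain (t : F) (ht : ∀ x y : F, Nm t x y = 0 → x = 0 ∧ y = 0) : IsDomain (torusRing t) := by
  have : NoZeroDivisors (torusRing t) := by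
    constructor
    intro a b hab
    have h1 : (a.1 * b.1).det = 0 := by
      have : a.1 * b.1 = 0 := congrArg Subtype.val hab
      rw [this, Matrix.det_zero]
    rw [Matrix.det_mul, torusRing_det t a.1 a.2, torusRing_det t b.1 b.2] at h1
    have key : ∀ c : torusRing t, Nm t (c.1 0 0) (c.1 0 1) = 0 → c = 0 := by
      intro c hc
      obtain ⟨h00, h01⟩ := ht _ _ hc
      obtain ⟨hc1, hc2⟩ := c.2
      apply Subtype.ext
      ext i j
      fin_cases i <;> fin_cases j
      · exact h00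
      · exact h01
      · simp only [Fin.mk_one, Fin.zero_eta]; rw [← hc1]; exact h01
      · simp only [Fin.mk_one]; rw [hc2, h00, h01]; simp
    rcases mul_eq_zero.mp h1 with h | h
    · left; exact key a h
    · right; exact key b h
  exact NoZeroDivisors.to_isDomain _

theorem psi_add (t : F) (g : SL2) (x y x' y' : F) :
    Nm t (g.1 0 0 * (x + x') + g.1 0 1 * (y + y')) (g.1 1 0 * (x + x') + g.1 1 1 * (y + y')) + Nm t (x + x') (y + y')
    = (Nm t (g.1 0 0 * x + g.1 0 1 * y) (g.1 1 0 * x + g.1 1 1 * y) + Nm t x y) +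
      (Nm t (g.1 0 0 * x' + g.1 0 1 * y') (g.1 1 0 * x' + g.1 1 1 * y') + Nm t x' y') := by
  have hd := det_entry g
  set a := g.1 0 0
  set b := g.1 0 1
  set c := g.1 1 0
  set d := g.1 1 1
  have h2 : (2 : F) = 0 := CharTwo.two_eq_zero
  have hd' : a * d = 1 + b * c := by linear_combination hd
  unfold Nm
  linear_combination (t * (x * y' + x' * y)) * hd' + (a * c * x * x' + b * d * y * y' + x * x' + y * y' + t * b * c * (x * y' + x' * y) + t * (x * y' + x' * y) + a*d*x*y' + a*d*x'*y + (a * x * x' * t * c - a * x * x' * c + a * x * b * y' - a * x * y' * d + a * x' * b * y - a * x' * y * d + a ^ 2 * x * x' + x * x' * c ^ 2 + x * y' * c * d + x' * y * c * d + b * y * y' * t * d - b * y * y' * d + b ^ 2 * y * y' + y * y' * d ^ 2)) * h2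
  

theorem exists_fixed [Fintype F] (t : F) (g : SL2) :
    ∃ x y : F, ¬ (x = 0 ∧ y = 0) ∧ Nm t (g.1 0 0 * x + g.1 0 1 * y) (g.1 1 0 * x + g.1 1 1 * y) = Nm t x y := by
  classical
  let ψ : F × F → F := fun z => Nm t (g.1 0 0 * z.1 + g.1 0 1 * z.2) (g.1 1 0 * z.1 + g.1 1 1 * z.2) + Nm t z.1 z.2
  have hni : ¬ Function.Injective ψ := by
    intro hinj
    have := Fintype.card_le_of_injective ψ hinj
    rw [Fintype.card_prod] at this
    have h1 : 1 < Fintype.card F := Fintype.one_lt_card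
    nlinarith
  rw [Function.Injective] at hni
  push Not at hni
  obtain ⟨⟨x, y⟩, ⟨x', y'⟩, heq, hne⟩ := hni
  refine ⟨x + x', y + y', ?_, ?_⟩
  · rintro ⟨h1, h2⟩
    apply hne
    rw [CharTwo.add_eq_zero.mp h1, CharTwo.add_eq_zero.mp h2]
  · have h := psi_add t g x y x' y'
    have h' : ψ (x, y) = ψ (x', y') := heq
    simp only [ψ] at h'
    rw [h', CharTwo.add_self_eq_zero] at h
    exact CharTwo.add_eq_zero.mp h

theorem factor [Fintype F] (t : F) (ht : ∀ x y : F, Nm t x y = 0 → x = 0 ∧ y = 0) (g : SL2) :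
    ∃ a ∈ torus t, ∃ b ∈ unip (F := F), ∃ c ∈ torus t, g = a * b * c := by
  obtain ⟨x, y, hxy, hN⟩ := exists_fixed t g
  have hc : Nm t x y ≠ 0 := fun h => hxy (ht x y h)
  set l := (sqrt2 (Nm t x y))⁻¹ with hl
  have hl2 : l ^ 2 * Nm t x y = 1 := by
    rw [hl, inv_pow, sqrt2_sq]
    exact inv_mul_cancel₀ hc
  have hv : Nm t (l * x) (l * y) = 1 := by rw [Nm_smul, hl2]
  have hu : Nm t (g.1 0 0 * (l * x) + g.1 0 1 * (l * y)) (g.1 1 0 * (l * x) + g.1 1 1 * (l * y)) = 1 := by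
    have e1 : g.1 0 0 * (l * x) + g.1 0 1 * (l * y) = l * (g.1 0 0 * x + g.1 0 1 * y) := by ring
    have e2 : g.1 1 0 * (l * x) + g.1 1 1 * (l * y) = l * (g.1 1 0 * x + g.1 1 1 * y) := by ring
    rw [e1, e2, Nm_smul, hN, hl2]
  set v1 := l * x
  set v2 := l * y
  set u1 := g.1 0 0 * v1 + g.1 0 1 * v2 with hu1
  set u2 := g.1 1 0 * v1 + g.1 1 1 * v2 with hu2
  set Mv := mkT t v1 v2 hv with hMv
  set Mu := mkT t u1 u2 hu with hMu
  have hMvm : Mv ∈ torus t := mkT_mem t _ _ hv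
  have hMum : Mu ∈ torus t := mkT_mem t _ _ hu
  refine ⟨Mu, hMum, Mu⁻¹ * g * Mv, ?_, Mv⁻¹, (torus t).inv_mem hMvm, by group⟩
  -- the middle factor fixes the first basis vector
  have hgv0 : (g * Mv).1 0 0 = u1 := by
    rw [mul_entry]; simp [Mv, mkT, hu1]
  have hgv1 : (g * Mv).1 1 0 = u2 := by
    rw [mul_entry]; simp [Mv, mkT, hu2]
  obtain ⟨i00, i01, i10, i11⟩ := inv_entry Mu
  have hMu00 : Mu.1 0 0 = u1 := by simp [Mu, mkT]
  have hMu01 : Mu.1 0 1 = u2 := by simp [Mu, mkT]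
  have hMu10 : Mu.1 1 0 = u2 := by simp [Mu, mkT]
  have hMu11 : Mu.1 1 1 = u1 + t * u2 := by simp [Mu, mkT]
  have h00 : (Mu⁻¹ * g * Mv).1 0 0 = 1 := by
    rw [mul_assoc, mul_entry, hgv0, hgv1, i00, i01, hMu11, hMu01, neg_eq_self]
    rw [← hu]
    unfold Nm
    ring
  have h10 : (Mu⁻¹ * g * Mv).1 1 0 = 0 := by
    rw [mul_assoc, mul_entry, hgv0, hgv1, i10, i11, hMu10, hMu00, neg_eq_self]
    rw [mul_comm]
    exact CharTwo.add_self_eq_zero _
  have h11 : (Mu⁻¹ * g * Mv).1 1 1 = 1 := by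
    have := det_entry (Mu⁻¹ * g * Mv)
    rw [h00, h10, mul_zero, sub_zero, one_mul] at this
    exact this
  exact ⟨h00, h10, h11⟩

theorem core [Fintype F] : ∃ A B : Subgroup SL2, IsCyclic A ∧ Nat.card A = Fintype.card F + 1 ∧ IsMulCommutative B ∧ (∀ b ∈ B, b * b = 1) ∧
        Nat.card B = Fintype.card F ∧ ∀ g : SL2, ∃ a ∈ A, ∃ b ∈ B, ∃ c ∈ A, g = a * b * c := by
  classical
  obtain ⟨t, ht⟩ := exists_t (F := F)
  refine ⟨torus t, unip, ?_, ?_, ?_, ?_, ?_, factor t ht⟩
  · have := torusRing_isDomain t ht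
    let f : torus t →* torusRing t :=
      { toFun := fun M => ⟨M.1.1, M.2⟩
        map_one' := rfl
        map_mul' := fun M N => rfl }
    apply isCyclic_of_injective_ringHom f
    intro M N h
    have h' : (f M).1 = (f N).1 := by rw [h]
    exact Subtype.ext (Subtype.ext h')
  · rw [Nat.card_congr (torusEquiv t), Nat.card_eq_fintype_card, card_conic t ht]
  · exact ⟨⟨fun a b => Subtype.ext (unip_comm a.1 b.1 a.2 b.2)⟩⟩
  · exact fun b hb => unip_sq b hb
  · rw [Nat.card_congr unipEquiv, Nat.card_eq_fintype_card]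


end part3

/-- Let F be a finite field with q = 2^t ≥ 4 elements and L = PSL(2,F). Then L has a cyclic subgroup A of order q + 1 and an elementary abelian 2-subgroup B of order q such that L = ABA: every element of L is a product a·b·a' with a, a' ∈ A and b ∈ B. -/
theorem result {F : Type*} [Field F] [Fintype F]
    (h2 : 2 ∣ Fintype.card F) (h4 : 4 ≤ Fintype.card F) :
    ∃ A B : Subgroup (Matrix.ProjectiveSpecialLinearGroup (Fin 2) F),
      IsCyclic A ∧ Nat.card A = Fintype.card F + 1 ∧ IsMulCommutative B ∧ (∀ b ∈ B, b * b = 1) ∧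
        Nat.card B = Fintype.card F ∧
        ∀ g : Matrix.ProjectiveSpecialLinearGroup (Fin 2) F, ∃ a ∈ A, ∃ b ∈ B, ∃ c ∈ A, g = a * b * c := by
  have := charP_two h2
  exact transport pslEquiv (Fintype.card F) core

end Cfsg.Agent.S2503
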