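import Mathlib
import Cfsg.Statements.S2504
import Cfsg.Agent.Lib.Helper95.AbelianAlt

set_option autoImplicit false
open Cfsg

namespace Cfsg.Agent.S2504

open Cfsg.Agent.Lib.Helper95

theorem isGreatest_of {n c : ℕ} (h1 : HasAbEven n c) (h2 : abBound n = c ∨ altBound n = c) :
    IsGreatest {c : ℕ | ∃ A : Subgroup (alternatingGroup (Fin n)), IsMulCommutative A ∧ Nat.card A = c} c := by
  refine ⟨exists_of_hasAbEven h1, ?_⟩
  rintro b ⟨A, hA, rfl⟩
  rcases h2 with h2 | h2
  · rw [← h2]; exact (card_le_of_alt A).1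
  · rw [← h2]; exact (card_le_of_alt A).2

theorem result (k : ℕ) (hk : 2 ≤ k) :
    IsGreatest {c : ℕ | ∃ A : Subgroup (alternatingGroup (Fin (3 * k))), IsMulCommutative A ∧ Nat.card A = c} (3 ^ k) ∧
    IsGreatest {c : ℕ | ∃ A : Subgroup (alternatingGroup (Fin (3 * k + 1))), IsMulCommutative A ∧ Nat.card A = c}
      (4 * 3 ^ (k - 1)) ∧
    IsGreatest {c : ℕ | ∃ A : Subgroup (alternatingGroup (Fin (3 * k + 2))), IsMulCommutative A ∧ Nat.card A = c}
      (16 * 3 ^ (k - 2)) :=
  ⟨isGreatest_of (hasAbEven_three_mul k) (Or.inl (abBound_three_mul k)),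
   isGreatest_of (hasAbEven_three_mul_add_one k (by omega))
     (Or.inl (abBound_three_mul_add_one k (by omega))),
   isGreatest_of (hasAbEven_three_mul_add_two k hk) (Or.inr (altBound_three_mul_add_two k hk))⟩

end Cfsg.Agent.S2504
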