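import Mathlib
import Cfsg.Statements.S2505
import Cfsg.Agent.Lib.Helper95.AbelianPerm

set_option autoImplicit false
open Cfsg

namespace Cfsg.Agent.S2505

open Cfsg.Agent.Lib.Helper95

theorem isGreatest_of {n c : ℕ} (h1 : HasAb n c) (h2 : abBound n = c) :
    IsGreatest {c : ℕ | ∃ A : Subgroup (Equiv.Perm (Fin n)), IsMulCommutative A ∧ Nat.card A = c} c := by
  refine ⟨h1, ?_⟩
  rintro b ⟨A, hA, rfl⟩
  rw [← h2]
  exact card_le_abBound n (Fin n) A (by simp)

theorem result (k : ℕ) (hk : 1 ≤ k) :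
    IsGreatest {c : ℕ | ∃ A : Subgroup (Equiv.Perm (Fin (3 * k))), IsMulCommutative A ∧ Nat.card A = c} (3 ^ k) ∧
    IsGreatest {c : ℕ | ∃ A : Subgroup (Equiv.Perm (Fin (3 * k + 1))), IsMulCommutative A ∧ Nat.card A = c}
      (4 * 3 ^ (k - 1)) ∧
    IsGreatest {c : ℕ | ∃ A : Subgroup (Equiv.Perm (Fin (3 * k + 2))), IsMulCommutative A ∧ Nat.card A = c}
      (2 * 3 ^ k) :=
  ⟨isGreatest_of (hasAb_three_mul k) (abBound_three_mul k),
   isGreatest_of (hasAb_three_mul_add_one k hk) (abBound_three_mul_add_one k hk),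
   isGreatest_of (hasAb_three_mul_add_two k) (abBound_three_mul_add_two k)⟩

end Cfsg.Agent.S2505
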