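import Cfsg.Statements.S2507
import Cfsg.Agent.Lib.Helper41.SL2Count
import Cfsg.Agent.Lib.Helper41.SL2Conj
import Cfsg.Agent.Lib.Helper41.SL2Eigen

set_option autoImplicit false
set_option linter.unusedSimpArgs false
set_option linter.unusedVariables false
open Cfsg

namespace Cfsg.Agent.S2507

open Cfsg.Agent.Lib.Helper41

local notation "SL₂(" F ")" => Matrix.SpecialLinearGroup (Fin 2) F
local notation "PSL₂(" F ")" => Matrix.ProjectiveSpecialLinearGroup (Fin 2) F

section

variable {F : Type*} [Field F] [Fintype F]

theorem two_eq_zero (h2 : 2 ∣ Fintype.card F) : (2 : F) = 0 := by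
  obtain ⟨p, hp⟩ := CharP.exists F
  have := hp
  have : Fact p.Prime := ⟨CharP.char_is_prime F p⟩
  obtain ⟨k, hpp, hk⟩ := FiniteField.card F p
  rw [hk] at h2
  have : 2 ∣ p := Nat.Prime.dvd_of_dvd_pow Nat.prime_two h2
  have hp2 : p = 2 := ((Nat.prime_dvd_prime_iff_eq Nat.prime_two hpp).mp this).symm
  subst hp2
  have := CharP.cast_eq_zero F 2
  exact_mod_cast this

theorem neg_eq_self (h20 : (2 : F) = 0) (x : F) : -x = x := by
  have : x + x = 0 := by linear_combination x * h20
  exact neg_eq_of_add_eq_zero_left this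

theorem center_eq_one (h20 : (2 : F) = 0) {Z : SL₂(F)}
    (hZ : Z ∈ Subgroup.center (SL₂(F))) : Z = 1 := by
  have hneg : (-1 : F) = 1 := neg_eq_self h20 1
  rcases sl2_center_cases hZ with ⟨z00, z01, z10, z11⟩ | ⟨z00, z01, z10, z11⟩
  · apply sl2_ext
    · rw [z00]; simp
    · rw [z01]; simp
    · rw [z10]; simp
    · rw [z11]; simp
  · apply sl2_ext
    · rw [z00, hneg]; simp
    · rw [z01]; simp
    · rw [z10]; simp
    · rw [z11, hneg]; simp

theorem mk_injective (h20 : (2 : F) = 0) :
    Function.Injective (fun Y : SL₂(F) => (Y : PSL₂(F))) := by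
  intro Y Y' h
  have h1 : (Y : PSL₂(F)) = (Y' : PSL₂(F)) := h
  rw [QuotientGroup.eq] at h1
  have := center_eq_one h20 h1
  calc Y = Y * 1 := (mul_one Y).symm
    _ = Y * (Y⁻¹ * Y') := by rw [this]
    _ = Y' := by group

theorem normUniversal_char_two (h20 : (2 : F) = 0) (τ : F) : NormUniversal τ := by
  intro δ hδ
  have hchar : ringChar F = 2 := by
    have : CharP F 2 := CharTwo.of_one_ne_zero_of_two_eq_zero one_ne_zero h20
    exact ringChar.eq F 2
  obtain ⟨r, hr⟩ := FiniteField.isSquare_of_char_two hchar δ
  exact ⟨r, 0, by rw [hr]; ring⟩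

/-- The conjugacy class of a non-central element, in characteristic two. -/
theorem class_eq (h20 : (2 : F) = 0) {X : SL₂(F)} (hX : X ∉ Subgroup.center (SL₂(F))) :
    {h : PSL₂(F) | IsConj (X : PSL₂(F)) h} =
      (fun Y : SL₂(F) => (Y : PSL₂(F))) '' {Y : SL₂(F) | tr2 Y = tr2 X ∧ Y ≠ 1} := by
  ext h
  constructor
  · intro hh
    obtain ⟨Y, rfl⟩ := QuotientGroup.mk_surjective h
    refine ⟨Y, ⟨?_, ?_⟩, rfl⟩
    · rcases tr2_of_isConj hh with h1 | h1
      · exact h1
      · rw [h1, neg_eq_self h20]
    · rintro rfl
      have h1 : IsConj ((X : SL₂(F)) : PSL₂(F)) 1 := hh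
      rw [isConj_one_left] at h1
      exact hX ((QuotientGroup.eq_one_iff X).mp h1)
  · rintro ⟨Y, ⟨htr, hY1⟩, rfl⟩
    have hYc : Y ∉ Subgroup.center (SL₂(F)) := fun hc => hY1 (center_eq_one h20 hc)
    obtain ⟨W, hW⟩ := conj_of_tr2_eq hX hYc htr (normUniversal_char_two h20 _)
    show IsConj ((X : SL₂(F)) : PSL₂(F)) ((Y : SL₂(F)) : PSL₂(F))
    rw [isConj_iff]
    exact ⟨(W : PSL₂(F)), by rw [← hW]; rfl⟩

open Classical in
/-- The class size of a non-central element in characteristic two. -/
theorem index_eq (h20 : (2 : F) = 0) {X : SL₂(F)} (hX : X ∉ Subgroup.center (SL₂(F))) :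
    (Subgroup.centralizer ({(X : PSL₂(F))} : Set (PSL₂(F)))).index + (if tr2 X = 0 then 1 else 0) =
      Fintype.card F * (Fintype.card F - 1) +
        Fintype.card F * (Finset.univ.filter (fun a : F => a * (tr2 X - a) = 1)).card := by
  have hc := card_tr2_eq (tr2 X)
  have hc' : Fintype.card F * (Fintype.card F - 1) +
        Fintype.card F * (Finset.univ.filter (fun a : F => a * (tr2 X - a) = 1)).card =
      Nat.card {Y : SL₂(F) // tr2 Y = tr2 X} := by
    rw [hc]
  have hc'' : Nat.card {Y : SL₂(F) // tr2 Y = tr2 X} = {Y : SL₂(F) | tr2 Y = tr2 X}.ncard :=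
    Nat.card_coe_set_eq _
  rw [index_centralizer_eq_ncard, class_eq h20 hX,
    Set.ncard_image_of_injective _ (mk_injective h20), hc', hc'']
  by_cases hτ : tr2 X = 0
  · rw [if_pos hτ]
    have h1 : (1 : SL₂(F)) ∈ {Y : SL₂(F) | tr2 Y = tr2 X} := by
      show tr2 (1 : SL₂(F)) = tr2 X
      rw [hτ, tr2]; simp
      linear_combination h20
    have h2 : {Y : SL₂(F) | tr2 Y = tr2 X ∧ Y ≠ 1} = {Y : SL₂(F) | tr2 Y = tr2 X} \ {1} := by
      ext Y; simp [Set.mem_diff]
    rw [h2, Set.ncard_diff_singleton_add_one h1 (Set.toFinite _)]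
  · rw [if_neg hτ, add_zero]
    have h2 : {Y : SL₂(F) | tr2 Y = tr2 X ∧ Y ≠ 1} = {Y : SL₂(F) | tr2 Y = tr2 X} := by
      ext Y
      simp only [Set.mem_setOf_eq, and_iff_left_iff_imp]
      rintro h rfl
      apply hτ
      rw [← h, tr2]; simp
      linear_combination h20
    rw [h2]

open Classical in
theorem roots_zero (h20 : (2 : F) = 0) :
    (Finset.univ.filter (fun a : F => a * ((0 : F) - a) = 1)).card = 1 := by
  have : (Finset.univ.filter (fun a : F => a * ((0 : F) - a) = 1)) = {1} := by
    ext a
    simp only [Finset.mem_filter, Finset.mem_univ, true_and, Finset.mem_singleton]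
    constructor
    · intro h
      have h1 : (a - 1) ^ 2 = 0 := by linear_combination -h - a * h20
      have := pow_eq_zero_iff (two_ne_zero) |>.mp h1
      linear_combination this
    · rintro rfl
      linear_combination -h20
  rw [this, Finset.card_singleton]

open Classical in
theorem roots_split (τ l : F) (hτ : τ ≠ 0) (h20 : (2 : F) = 0) (hl : l * (τ - l) = 1) :
    (Finset.univ.filter (fun a : F => a * (τ - a) = 1)).card = 2 := by
  have hne : l ≠ τ - l := by
    intro h
    apply hτ
    linear_combination (-1 : F) * h + l * h20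
  have : (Finset.univ.filter (fun a : F => a * (τ - a) = 1)) = {l, τ - l} := by
    ext a
    simp only [Finset.mem_filter, Finset.mem_univ, true_and, Finset.mem_insert,
      Finset.mem_singleton]
    constructor
    · intro h
      have h1 : (a - l) * (a - (τ - l)) = 0 := by linear_combination hl - h
      rcases mul_eq_zero.mp h1 with h2 | h2
      · left; linear_combination h2
      · right; linear_combination h2
    · rintro (rfl | rfl)
      · exact hl
      · linear_combination hl
  rw [this, Finset.card_pair hne]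

open Classical in
theorem roots_nonsplit (τ : F) (h : ∀ a : F, a * (τ - a) ≠ 1) :
    (Finset.univ.filter (fun a : F => a * (τ - a) = 1)).card = 0 := by
  rw [Finset.card_eq_zero, Finset.filter_eq_empty_iff]
  intro a _
  exact h a

/-- The class size of a non-central element is one of the three values. -/
theorem index_cases (h20 : (2 : F) = 0) {X : SL₂(F)} (hX : X ∉ Subgroup.center (SL₂(F))) :
    (tr2 X = 0 ∧ (Subgroup.centralizer ({(X : PSL₂(F))} : Set (PSL₂(F)))).index =
        Fintype.card F ^ 2 - 1) ∨
    (tr2 X ≠ 0 ∧ (∃ l : F, l * (tr2 X - l) = 1) ∧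
      (Subgroup.centralizer ({(X : PSL₂(F))} : Set (PSL₂(F)))).index =
        Fintype.card F * (Fintype.card F + 1)) ∨
    (tr2 X ≠ 0 ∧ (∀ a : F, a * (tr2 X - a) ≠ 1) ∧
      (Subgroup.centralizer ({(X : PSL₂(F))} : Set (PSL₂(F)))).index =
        Fintype.card F * (Fintype.card F - 1)) := by
  have key := index_eq h20 hX
  have hq : 1 ≤ Fintype.card F := Fintype.card_pos
  by_cases hτ : tr2 X = 0
  · left
    refine ⟨hτ, ?_⟩
    rw [if_pos hτ, hτ, roots_zero h20] at key
    have : Fintype.card F * (Fintype.card F - 1) + Fintype.card F * 1 = Fintype.card F ^ 2 := by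
      rw [← Nat.mul_add, Nat.sub_add_cancel hq, pow_two]
    omega
  · right
    rw [if_neg hτ, add_zero] at key
    by_cases hs : ∃ l : F, l * (tr2 X - l) = 1
    · left
      obtain ⟨l, hl⟩ := hs
      refine ⟨hτ, ⟨l, hl⟩, ?_⟩
      rw [key, roots_split _ l hτ h20 hl, ← Nat.mul_add]
      congr 1
      omega
    · right
      simp only [not_exists] at hs
      refine ⟨hτ, hs, ?_⟩
      rw [key, roots_nonsplit _ hs, mul_zero, add_zero]

end

/-- Let F be a finite field with q = 2^f ≥ 4 elements. The conjugacy class sizes of PSL(2,F) are exactly 1, q(q − 1), q² − 1 and q(q + 1). -/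
theorem result {F : Type*} [Field F] [Fintype F]
    (h2 : 2 ∣ Fintype.card F) (h4 : 4 ≤ Fintype.card F) :
    Set.range (fun g : (Matrix.ProjectiveSpecialLinearGroup (Fin 2) F) => (Subgroup.centralizer ({g} : Set (Matrix.ProjectiveSpecialLinearGroup (Fin 2) F))).index) =
      {1, Fintype.card F * (Fintype.card F - 1), Fintype.card F ^ 2 - 1, Fintype.card F * (Fintype.card F + 1)} := by
  have h20 : (2 : F) = 0 := two_eq_zero h2
  apply Set.eq_of_subset_of_subset
  · rintro m ⟨g, rfl⟩
    obtain ⟨X, rfl⟩ := QuotientGroup.mk_surjective g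
    simp only [Set.mem_insert_iff, Set.mem_singleton_iff]
    by_cases hX : X ∈ Subgroup.center (SL₂(F))
    · left
      have : ((X : SL₂(F)) : PSL₂(F)) = 1 := (QuotientGroup.eq_one_iff X).mpr hX
      rw [this]
      have : Subgroup.centralizer ({(1 : PSL₂(F))} : Set (PSL₂(F))) = ⊤ := by
        ext y; simp [Subgroup.mem_centralizer_singleton_iff]
      rw [this, Subgroup.index_top]
    · rcases index_cases h20 hX with ⟨-, h⟩ | ⟨-, -, h⟩ | ⟨-, -, h⟩
      · right; right; left; exact h
      · right; right; right; exact h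
      · right; left; exact h
  · intro m hm
    simp only [Set.mem_insert_iff, Set.mem_singleton_iff] at hm
    rcases hm with rfl | rfl | rfl | rfl
    · refine ⟨1, ?_⟩
      have : Subgroup.centralizer ({(1 : PSL₂(F))} : Set (PSL₂(F))) = ⊤ := by
        ext y; simp [Subgroup.mem_centralizer_singleton_iff]
      simp only [this, Subgroup.index_top]
    · -- non-split torus
      obtain ⟨t, l, hl0, hord, hl⟩ := exists_trace_orderOf_card_add_one (F := F)
      have hl2 : l ^ 2 ≠ 1 := by
        intro h
        have := orderOf_dvd_of_pow_eq_one h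
        rw [hord] at this
        have := Nat.le_of_dvd (by norm_num) this
        omega
      have hX : compSL2 t ∉ Subgroup.center (SL₂(F)) := by
        rw [sl2_mem_center_iff]; simp [compSL2]
      refine ⟨((compSL2 t : SL₂(F)) : PSL₂(F)), ?_⟩
      rcases index_cases h20 hX with ⟨h0, -⟩ | ⟨-, ⟨a, ha⟩, -⟩ | ⟨-, -, h⟩
      · exfalso
        rw [tr2_compSL2] at h0
        rw [h0, map_zero] at hl
        apply hl2
        have h2K : (2 : AlgebraicClosure F) = 0 := by
          have := congrArg (algebraMap F (AlgebraicClosure F)) h20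
          rwa [map_ofNat, map_zero] at this
        have hll : l * l⁻¹ = 1 := mul_inv_cancel₀ hl0
        linear_combination l * hl - hll - h2K
      · exfalso
        rw [tr2_compSL2] at ha
        -- the root a maps to l or l⁻¹, so l lies in F
        set f := algebraMap F (AlgebraicClosure F) with hf
        have hfa : f a * (f t - f a) = 1 := by
          rw [← map_sub, ← map_mul, ha, map_one]
        have hll : l * l⁻¹ = 1 := mul_inv_cancel₀ hl0
        have hprod : (f a - l) * (f a - l⁻¹) = 0 := by
          rw [← hl] at hfa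
          linear_combination hll - hfa
        have hq1 : 1 ≤ Fintype.card F := Fintype.card_pos
        have hlq : l ^ (Fintype.card F - 1) = 1 := by
          rcases mul_eq_zero.mp hprod with h | h
          · have hla : l = f a := by linear_combination -h
            have ha0 : a ≠ 0 := by
              rintro rfl
              rw [map_zero] at hla
              exact hl0 hla
            rw [hla, ← map_pow, FiniteField.pow_card_sub_one_eq_one a ha0, map_one]
          · have hla : l⁻¹ = f a := by linear_combination -h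
            have ha0 : a ≠ 0 := by
              rintro rfl
              rw [map_zero] at hla
              exact (inv_ne_zero hl0) hla
            have : l = f a⁻¹ := by rw [map_inv₀, ← hla, inv_inv]
            rw [this, ← map_pow, FiniteField.pow_card_sub_one_eq_one a⁻¹ (inv_ne_zero ha0), map_one]
        have hlq' : l ^ (Fintype.card F + 1) = 1 := by
          rw [← hord]; exact pow_orderOf_eq_one l
        apply hl2
        have : l ^ (Fintype.card F + 1) = l ^ (Fintype.card F - 1) * l ^ 2 := by
          rw [← pow_add]; congr 1; omega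
        rw [this, hlq, one_mul] at hlq'
        exact hlq'
      · exact h
    · -- unipotent
      have hX : (mkSL2 1 1 0 1 (by ring) : SL₂(F)) ∉ Subgroup.center (SL₂(F)) := by
        rw [sl2_mem_center_iff]; simp
      refine ⟨((mkSL2 1 1 0 1 (by ring) : SL₂(F)) : PSL₂(F)), ?_⟩
      have htr : tr2 (mkSL2 (1 : F) 1 0 1 (by ring)) = 0 := by
        simp [tr2]; linear_combination h20
      rcases index_cases h20 hX with ⟨-, h⟩ | ⟨h0, -⟩ | ⟨h0, -⟩
      · exact h
      · exact absurd htr h0
      · exact absurd htr h0
    · -- split torus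
      have hex : ∃ l : F, l ≠ 0 ∧ l ≠ 1 := by
        classical
        by_contra hcon
        have hall : ∀ l : F, l = 0 ∨ l = 1 := by
          intro l
          by_contra h
          apply hcon
          exact ⟨l, fun h0 => h (Or.inl h0), fun h1 => h (Or.inr h1)⟩
        have : (Finset.univ : Finset F) ⊆ {0, 1} := by
          intro l _
          rcases hall l with h | h <;> simp [h]
        have := Finset.card_le_card this
        rw [Finset.card_univ] at this
        have h3 : ({0, 1} : Finset F).card ≤ 2 := Finset.card_le_two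
        omega
      obtain ⟨l, hl0, hl1⟩ := hex
      have hX : compSL2 (l + l⁻¹) ∉ Subgroup.center (SL₂(F)) := by
        rw [sl2_mem_center_iff]; simp [compSL2]
      refine ⟨((compSL2 (l + l⁻¹) : SL₂(F)) : PSL₂(F)), ?_⟩
      have hll : l * l⁻¹ = 1 := mul_inv_cancel₀ hl0
      rcases index_cases h20 hX with ⟨h0, -⟩ | ⟨-, -, h⟩ | ⟨-, hno, -⟩
      · exfalso
        rw [tr2_compSL2] at h0
        apply hl1
        have h1 : (l - 1) ^ 2 = 0 := by linear_combination l * h0 - hll - l * h20
        have := pow_eq_zero_iff (two_ne_zero) |>.mp h1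
        linear_combination this
      · exact h
      · exfalso
        apply hno l
        rw [tr2_compSL2]
        linear_combination hll

end Cfsg.Agent.S2507
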