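import Cfsg.Statements.S2508
import Cfsg.Agent.S2503
import Cfsg.Agent.Lib.Helper38.SLCard

set_option autoImplicit false
open Cfsg

namespace Cfsg.Agent.S2508

open Matrix Cfsg.Agent.S2503

section
variable {F : Type*} [Field F]

local notation "SL2" => Matrix.SpecialLinearGroup (Fin 2) F
local notation "PSL2" => Matrix.ProjectiveSpecialLinearGroup (Fin 2) F

/-- the trace of an element of `SL2` -/
def tr (g : SL2) : F := g.1 0 0 + g.1 1 1

/-- non-scalar -/
def NonScalar (g : SL2) : Prop := g.1 0 1 ≠ 0 ∨ g.1 1 0 ≠ 0 ∨ g.1 0 0 ≠ g.1 1 1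

/-- the norm form -/
def Nq (t x y : F) : F := x ^ 2 + t * x * y + y ^ 2

/-- the element `a + b g` -/
def lin (g : SL2) (a b : F) (h : Nq (tr g) a b = 1) : SL2 :=
  ⟨!![a + b * g.1 0 0, b * g.1 0 1; b * g.1 1 0, a + b * g.1 1 1], by
    rw [Matrix.det_fin_two_of]
    have hd := det_entry g
    have h' := h
    unfold Nq tr at h'
    linear_combination h' + (b ^ 2) * hd⟩

theorem lin_comm (g : SL2) (a b : F) (h : Nq (tr g) a b = 1) : lin g a b h * g = g * lin g a b h := by
  apply Subtype.ext
  ext i j
  rw [mul_entry, mul_entry]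
  fin_cases i <;> fin_cases j <;> simp [lin] <;> ring

theorem exists_lin (g : SL2) (hg : NonScalar g) (h : SL2) (hc : h * g = g * h) :
    ∃ a b : F, h.1 0 0 = a + b * g.1 0 0 ∧ h.1 0 1 = b * g.1 0 1 ∧ h.1 1 0 = b * g.1 1 0 ∧ h.1 1 1 = a + b * g.1 1 1 := by
  have e00 := congrArg (fun M : SL2 => M.1 0 0) hc
  have e01 := congrArg (fun M : SL2 => M.1 0 1) hc
  have e10 := congrArg (fun M : SL2 => M.1 1 0) hc
  simp only [mul_entry] at e00 e01 e10
  rcases hg with hg | hg | hg
  · refine ⟨h.1 0 0 - h.1 0 1 / g.1 0 1 * g.1 0 0, h.1 0 1 / g.1 0 1, ?_, ?_, ?_, ?_⟩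
    · ring
    · field_simp
    · field_simp
      linear_combination -e00
    · field_simp
      linear_combination -e01
  · refine ⟨h.1 0 0 - h.1 1 0 / g.1 1 0 * g.1 0 0, h.1 1 0 / g.1 1 0, ?_, ?_, ?_, ?_⟩
    · ring
    · field_simp
      linear_combination e00
    · field_simp
    · field_simp
      linear_combination e10
  · have hne : g.1 0 0 - g.1 1 1 ≠ 0 := sub_ne_zero.mpr hg
    refine ⟨h.1 0 0 - (h.1 0 0 - h.1 1 1) / (g.1 0 0 - g.1 1 1) * g.1 0 0, (h.1 0 0 - h.1 1 1) / (g.1 0 0 - g.1 1 1), ?_, ?_, ?_, ?_⟩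
    · ring
    · field_simp
      linear_combination -e01
    · field_simp
      linear_combination e10
    · field_simp
      ring

theorem lin_entries (g : SL2) (a b : F) (h : Nq (tr g) a b = 1) :
    (lin g a b h).1 0 0 = a + b * g.1 0 0 ∧ (lin g a b h).1 0 1 = b * g.1 0 1 ∧
    (lin g a b h).1 1 0 = b * g.1 1 0 ∧ (lin g a b h).1 1 1 = a + b * g.1 1 1 := by
  simp [lin]

theorem lin_injective (g : SL2) (hg : NonScalar g) (a b a' b' : F) (h : Nq (tr g) a b = 1) (h' : Nq (tr g) a' b' = 1)
    (heq : lin g a b h = lin g a' b' h') : a = a' ∧ b = b' := by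
  obtain ⟨e00, e01, e10, e11⟩ := lin_entries g a b h
  obtain ⟨f00, f01, f10, f11⟩ := lin_entries g a' b' h'
  rw [heq] at e00 e01 e10 e11
  rw [e00] at f00
  rw [e01] at f01
  rw [e10] at f10
  rw [e11] at f11
  have hb : b = b' := by
    rcases hg with hg | hg | hg
    · exact mul_right_cancel₀ hg f01
    · exact mul_right_cancel₀ hg f10
    · have hne : g.1 0 0 - g.1 1 1 ≠ 0 := sub_ne_zero.mpr hg
      have : b * (g.1 0 0 - g.1 1 1) = b' * (g.1 0 0 - g.1 1 1) := by linear_combination f00 - f11
      exact mul_right_cancel₀ hne this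
  subst hb
  exact ⟨add_right_cancel f00, rfl⟩

/-- centralizer ≃ conic -/
noncomputable def centEquiv (g : SL2) (hg : NonScalar g) :
    {z : F × F // Nq (tr g) z.1 z.2 = 1} ≃ Subgroup.centralizer ({g} : Set SL2) :=
  Equiv.ofBijective (fun z => ⟨lin g z.1.1 z.1.2 z.2, by
      rw [Subgroup.mem_centralizer_iff]
      intro x hx
      rw [Set.mem_singleton_iff] at hx
      subst hx
      exact (lin_comm x z.1.1 z.1.2 z.2).symm⟩) (by
    constructor
    · rintro ⟨⟨a, b⟩, h⟩ ⟨⟨a', b'⟩, h'⟩ heq
      have heq' : lin g a b h = lin g a' b' h' := congrArg Subtype.val heq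
      obtain ⟨rfl, rfl⟩ := lin_injective g hg a b a' b' h h' heq'
      rfl
    · rintro ⟨x, hx⟩
      rw [Subgroup.mem_centralizer_iff] at hx
      have hc : x * g = g * x := (hx g (Set.mem_singleton g)).symm
      obtain ⟨a, b, e00, e01, e10, e11⟩ := exists_lin g hg x hc
      have hN : Nq (tr g) a b = 1 := by
        have hd := det_entry x
        have hdg := det_entry g
        rw [e00, e01, e10, e11] at hd
        unfold Nq tr
        linear_combination hd - (b ^ 2) * hdg
      refine ⟨⟨(a, b), hN⟩, ?_⟩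
      apply Subtype.ext
      apply Subtype.ext
      obtain ⟨f00, f01, f10, f11⟩ := lin_entries g a b hN
      ext i j
      fin_cases i <;> fin_cases j
      · exact f00.trans e00.symm
      · exact f01.trans e01.symm
      · exact f10.trans e10.symm
      · exact f11.trans e11.symm)

theorem cent_card (g : SL2) (hg : NonScalar g) :
    Nat.card (Subgroup.centralizer ({g} : Set SL2)) = Nat.card {z : F × F // Nq (tr g) z.1 z.2 = 1} := by
  rw [← Nat.card_congr (centEquiv g hg)]

theorem index_mul [Fintype F] (g : SL2) :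
    (Subgroup.centralizer ({g} : Set SL2)).index * Nat.card (Subgroup.centralizer ({g} : Set SL2)) =
      Fintype.card F * (Fintype.card F ^ 2 - 1) := by
  rw [Subgroup.index_mul_card, Cfsg.Agent.Lib.Helper38.card_SL2]

/-- diagonalising the conic -/
def conicDiag (h2 : (2 : F) ≠ 0) (τ : F) :
    {z : F × F // Nq τ z.1 z.2 = 1} ≃ {z : F × F // z.1 ^ 2 - (τ ^ 2 - 4) * z.2 ^ 2 = 1} where
  toFun z := ⟨(z.1.1 + τ * z.1.2 / 2, z.1.2 / 2), by
    have := z.2
    unfold Nq at this
    simp only
    field_simp
    linear_combination 4 * this⟩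
  invFun z := ⟨(z.1.1 - τ * z.1.2, 2 * z.1.2), by
    have := z.2
    unfold Nq
    simp only
    linear_combination this⟩
  left_inv := by
    rintro ⟨⟨a, b⟩, h⟩
    apply Subtype.ext
    simp only [Prod.mk.injEq]
    constructor
    · field_simp; ring
    · field_simp
  right_inv := by
    rintro ⟨⟨a, b⟩, h⟩
    apply Subtype.ext
    simp only [Prod.mk.injEq]
    constructor
    · field_simp; ring
    · field_simp

theorem con_zero [Fintype F] (h2 : (2 : F) ≠ 0) :
    Nat.card {z : F × F // z.1 ^ 2 - (0 : F) * z.2 ^ 2 = 1} = 2 * Fintype.card F := by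
  classical
  have e : {z : F × F // z.1 ^ 2 - (0 : F) * z.2 ^ 2 = 1} ≃ Bool × F :=
    { toFun := fun z => (decide (z.1.1 = 1), z.1.2)
      invFun := fun p => ⟨(if p.1 then 1 else -1, p.2), by
        rcases p with ⟨b, y⟩
        cases b <;> simp⟩
      left_inv := by
        rintro ⟨⟨x, y⟩, h⟩
        apply Subtype.ext
        simp only [zero_mul, sub_zero] at h
        simp only [decide_eq_true_eq, Prod.mk.injEq, and_true]
        rcases sq_eq_one_iff.mp h with h | h
        · simp [h]
        · have : (-1 : F) ≠ 1 := by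
            intro h'
            apply h2
            linear_combination -h'
          simp [h, this]
      right_inv := by
        rintro ⟨b, y⟩
        have : (-1 : F) ≠ 1 := by
          intro h'
          apply h2
          linear_combination -h'
        cases b <;> simp [this] }
  rw [Nat.card_congr e, Nat.card_prod, Nat.card_eq_fintype_card, Nat.card_eq_fintype_card, Fintype.card_bool]

theorem con_split [Fintype F] (h2 : (2 : F) ≠ 0) (e : F) (he : e ≠ 0) :
    Nat.card {z : F × F // z.1 ^ 2 - (e ^ 2) * z.2 ^ 2 = 1} = Fintype.card F - 1 := by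
  classical
  have eqv : {z : F × F // z.1 ^ 2 - (e ^ 2) * z.2 ^ 2 = 1} ≃ Fˣ :=
    { toFun := fun z => Units.mkOfMulEqOne (z.1.1 - e * z.1.2) (z.1.1 + e * z.1.2) (by
        have := z.2
        linear_combination this)
      invFun := fun u => ⟨(((u : F) + (u⁻¹ : Fˣ)) / 2, (((u⁻¹ : Fˣ) : F) - u) / (2 * e)), by
        have hu : (u : F) ≠ 0 := u.ne_zero
        simp only [Units.val_inv_eq_inv_val]
        field_simp
        ring⟩
      left_inv := by
        rintro ⟨⟨x, y⟩, h⟩
        apply Subtype.ext
        have hu : (x - e * y) * (x + e * y) = 1 := by linear_combination h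
        have hinv : (x - e * y)⁻¹ = x + e * y := inv_eq_of_mul_eq_one_right hu
        simp only [Units.val_mkOfMulEqOne, Units.val_inv_eq_inv_val, Prod.mk.injEq]
        rw [hinv]
        constructor
        · field_simp; ring
        · field_simp; ring
      right_inv := by
        intro u
        apply Units.ext
        have hu : (u : F) ≠ 0 := u.ne_zero
        simp only [Units.val_mkOfMulEqOne, Units.val_inv_eq_inv_val]
        field_simp
        ring }
  rw [Nat.card_congr eqv, Nat.card_eq_fintype_card, Fintype.card_units]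

theorem con_nonsplit [Fintype F] (h2 : (2 : F) ≠ 0) (D : F) (hD : ¬ IsSquare D) :
    Nat.card {z : F × F // z.1 ^ 2 - D * z.2 ^ 2 = 1} = Fintype.card F + 1 := by
  classical
  have hD0 : D ≠ 0 := by
    rintro rfl
    exact hD ⟨0, by simp⟩
  have hne : ∀ t : F, 1 - D * t ^ 2 ≠ 0 := by
    intro t ht
    apply hD
    have ht0 : t ≠ 0 := by
      rintro rfl
      simp at ht
    refine ⟨t⁻¹, ?_⟩
    field_simp
    linear_combination -ht
  have eqv : {z : F × F // z.1 ^ 2 - D * z.2 ^ 2 = 1} ≃ Option F :=
    { toFun := fun z => if z.1.1 = -1 then none else some (z.1.2 / (z.1.1 + 1))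
      invFun := fun o => match o with
        | none => ⟨(-1, 0), by simp⟩
        | some t => ⟨((1 + D * t ^ 2) / (1 - D * t ^ 2), 2 * t / (1 - D * t ^ 2)), by
            have := hne t
            simp only
            field_simp
            ring⟩
      left_inv := by
        rintro ⟨⟨x, y⟩, h⟩
        simp only at h
        by_cases hx : x = -1
        · simp only [hx, if_true]
          apply Subtype.ext
          simp only [Prod.mk.injEq, true_and]
          subst hx
          have : D * y ^ 2 = 0 := by linear_combination -h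
          rcases mul_eq_zero.mp this with h' | h'
          · exact absurd h' hD0
          · exact (pow_eq_zero_iff two_ne_zero |>.mp h').symm
        · simp only [hx, if_false]
          apply Subtype.ext
          have hx1 : x + 1 ≠ 0 := fun h' => hx (by linear_combination h')
          have key : 1 - D * (y / (x + 1)) ^ 2 = 2 / (x + 1) := by
            field_simp
            linear_combination h
          have hk := hne (y / (x + 1))
          simp only [Prod.mk.injEq]
          constructor
          · rw [div_eq_iff hk, key]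
            field_simp
            linear_combination -h
          · rw [key]
            field_simp
      right_inv := by
        rintro (_ | t)
        · simp
        · have := hne t
          have hx : (1 + D * t ^ 2) / (1 - D * t ^ 2) ≠ -1 := by
            intro h'
            rw [div_eq_iff this] at h'
            apply h2
            linear_combination h'
          simp only [hx, if_false, Option.some.injEq]
          have : (1 + D * t ^ 2) / (1 - D * t ^ 2) + 1 = 2 / (1 - D * t ^ 2) := by
            field_simp; ring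
          rw [this, div_div_div_cancel_right₀ (hne t), mul_div_cancel_left₀ t h2] }
  rw [Nat.card_congr eqv, Nat.card_eq_fintype_card, Fintype.card_option]

/-- anticommuting -/
def AC (h g : SL2) : Prop := h.1 * g.1 = -(g.1 * h.1)

/-- the quotient map -/
def proj : SL2 →* PSL2 := QuotientGroup.mk' (Subgroup.center SL2)

theorem proj_surjective : Function.Surjective (proj (F := F)) := QuotientGroup.mk'_surjective _

/-- the preimage of the centralizer of the image -/
def Cpm (g : SL2) : Subgroup SL2 :=
  (Subgroup.centralizer ({proj g} : Set PSL2)).comap proj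

theorem index_Cpm (g : SL2) : (Cpm g).index = (Subgroup.centralizer ({proj g} : Set PSL2)).index :=
  Subgroup.index_comap_of_surjective _ proj_surjective

theorem mem_center_iff' (z : SL2) : z ∈ Subgroup.center SL2 ↔ z = 1 ∨ z.1 = -1 := by
  rw [Matrix.SpecialLinearGroup.mem_center_iff]
  constructor
  · rintro ⟨r, hr, hz⟩
    rw [Fintype.card_fin, sq_eq_one_iff] at hr
    rcases hr with rfl | rfl
    · left
      apply Subtype.ext
      rw [← hz, map_one]
      rfl
    · right
      rw [← hz, map_neg, map_one]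
  · rintro (rfl | h)
    · exact ⟨1, by simp, by simp⟩
    · refine ⟨-1, by simp, ?_⟩
      rw [h, map_neg, map_one]

theorem mem_Cpm_iff (g h : SL2) : h ∈ Cpm g ↔ (h * g = g * h ∨ AC h g) := by
  unfold Cpm AC
  rw [Subgroup.mem_comap, Subgroup.mem_centralizer_iff]
  simp only [Set.mem_singleton_iff, forall_eq]
  rw [← map_mul, ← map_mul]
  unfold proj
  rw [QuotientGroup.mk'_apply, QuotientGroup.mk'_apply, QuotientGroup.eq, mem_center_iff']
  constructor
  · rintro (h1 | h1)
    · left
      exact (inv_mul_eq_one.mp h1).symm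
    · right
      have h3 : h * g = (g * h) * ((g * h)⁻¹ * (h * g)) := by group
      have h4 := congrArg Subtype.val h3
      rw [Matrix.SpecialLinearGroup.coe_mul (g * h), h1] at h4
      rw [← Matrix.SpecialLinearGroup.coe_mul, ← Matrix.SpecialLinearGroup.coe_mul, h4]
      simp
  · rintro (h1 | h1)
    · left
      rw [h1]; group
    · right
      rw [Matrix.SpecialLinearGroup.coe_mul, Matrix.SpecialLinearGroup.coe_mul, h1]
      rw [← Matrix.SpecialLinearGroup.coe_mul, Matrix.mul_neg, ← Matrix.SpecialLinearGroup.coe_mul]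
      simp

theorem centralizer_le_Cpm (g : SL2) : Subgroup.centralizer ({g} : Set SL2) ≤ Cpm g := by
  intro h hh
  rw [mem_Cpm_iff]
  left
  rw [Subgroup.mem_centralizer_iff] at hh
  exact (hh g (Set.mem_singleton g)).symm

theorem mem_centralizer_iff' (g h : SL2) : h ∈ Subgroup.centralizer ({g} : Set SL2) ↔ h * g = g * h := by
  rw [Subgroup.mem_centralizer_iff]
  simp only [Set.mem_singleton_iff, forall_eq]
  exact eq_comm

theorem tr_eq_zero_of_AC (h2 : (2 : F) ≠ 0) (g h : SL2) (hac : AC h g) : tr g = 0 := by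
  unfold AC at hac
  have e00 := congrFun (congrFun hac 0) 0
  have e01 := congrFun (congrFun hac 0) 1
  have e10 := congrFun (congrFun hac 1) 0
  have e11 := congrFun (congrFun hac 1) 1
  simp only [Matrix.mul_apply, Fin.sum_univ_two, Matrix.neg_apply] at e00 e01 e10 e11
  have hd := det_entry h
  unfold tr
  have : 2 * (g.1 0 0 + g.1 1 1) = 0 := by
    linear_combination h.1 1 1 * e00 - h.1 0 1 * e10 - h.1 1 0 * e01 + h.1 0 0 * e11 - 2 * (g.1 0 0 + g.1 1 1) * hd
  rcases mul_eq_zero.mp this with h' | h'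
  · exact absurd h' h2
  · exact h'

theorem Cpm_eq_of_tr_ne_zero (h2 : (2 : F) ≠ 0) (g : SL2) (htr : tr g ≠ 0) :
    Cpm g = Subgroup.centralizer ({g} : Set SL2) := by
  apply le_antisymm
  · intro h hh
    rw [mem_Cpm_iff] at hh
    rcases hh with hh | hh
    · rw [mem_centralizer_iff']; exact hh
    · exact absurd (tr_eq_zero_of_AC h2 g h hh) htr
  · exact centralizer_le_Cpm g

theorem Cpm_eq_of_no_AC (g : SL2) (hno : ¬ ∃ h, AC h g) :
    Cpm g = Subgroup.centralizer ({g} : Set SL2) := by
  apply le_antisymm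
  · intro h hh
    rw [mem_Cpm_iff] at hh
    rcases hh with hh | hh
    · rw [mem_centralizer_iff']; exact hh
    · exact absurd ⟨h, hh⟩ hno
  · exact centralizer_le_Cpm g

theorem not_comm_and_AC (h2 : (2 : F) ≠ 0) (g h : SL2) (hc : h * g = g * h) (hac : AC h g) : False := by
  unfold AC at hac
  rw [← Matrix.SpecialLinearGroup.coe_mul, ← Matrix.SpecialLinearGroup.coe_mul, hc] at hac
  have h0 : (2 : F) • (g * h).1 = 0 := by
    rw [two_smul]
    nth_rewrite 1 [hac]
    simp
  have hdet := congrArg Matrix.det h0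
  rw [Matrix.det_smul, (g * h).2, Fintype.card_fin, mul_one, Matrix.det_zero] at hdet
  exact h2 (pow_eq_zero_iff two_ne_zero |>.mp hdet)

theorem index_Cpm_of_AC (h2 : (2 : F) ≠ 0) (g h₀ : SL2) (hac : AC h₀ g) :
    2 * (Cpm g).index = (Subgroup.centralizer ({g} : Set SL2)).index := by
  have hle := centralizer_le_Cpm g
  rw [← Subgroup.relIndex_mul_index hle]
  congr 1
  symm
  unfold Subgroup.relIndex
  rw [Subgroup.index_eq_two_iff]
  have h₀mem : h₀ ∈ Cpm g := by rw [mem_Cpm_iff]; right; exact hac
  refine ⟨⟨h₀, h₀mem⟩, ?_⟩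
  rintro ⟨b, hb⟩
  rw [Subgroup.mem_subgroupOf, Subgroup.mem_subgroupOf]
  simp only [Subgroup.coe_mul]
  rw [mem_centralizer_iff', mem_centralizer_iff']
  rw [mem_Cpm_iff] at hb
  unfold AC at hac
  rcases hb with hb | hb
  · -- b commutes: b * h₀ anticommutes
    right
    refine ⟨hb, ?_⟩
    intro hcon
    apply not_comm_and_AC h2 g (b * h₀) hcon
    unfold AC
    have hb' : b.1 * g.1 = g.1 * b.1 := by
      rw [← Matrix.SpecialLinearGroup.coe_mul, ← Matrix.SpecialLinearGroup.coe_mul, hb]
    rw [Matrix.SpecialLinearGroup.coe_mul, Matrix.mul_assoc, hac, Matrix.mul_neg, ← Matrix.mul_assoc, hb',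
      Matrix.mul_assoc]
  · -- b anticommutes: b * h₀ commutes
    left
    unfold AC at hb
    refine ⟨?_, ?_⟩
    · apply Subtype.ext
      rw [Matrix.SpecialLinearGroup.coe_mul, Matrix.SpecialLinearGroup.coe_mul, Matrix.SpecialLinearGroup.coe_mul,
        Matrix.SpecialLinearGroup.coe_mul, Matrix.mul_assoc, hac, Matrix.mul_neg, ← Matrix.mul_assoc, hb,
        Matrix.neg_mul, neg_neg, Matrix.mul_assoc]
    · intro hcon
      exact not_comm_and_AC h2 g b hcon hb


theorem nonScalar_of_not_center (g : SL2) (hg : g ∉ Subgroup.center SL2) : NonScalar g := by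
  by_contra hcon
  unfold NonScalar at hcon
  push Not at hcon
  obtain ⟨h01, h10, h00⟩ := hcon
  apply hg
  rw [mem_center_iff']
  have hd := det_entry g
  rw [h01, h10, ← h00, mul_zero, sub_zero] at hd
  have h1 : g.1 0 0 = 1 ∨ g.1 0 0 = -1 := by
    apply sq_eq_one_iff.mp
    rw [pow_two]; exact hd
  rcases h1 with h1 | h1
  · left
    apply Subtype.ext
    ext i j
    fin_cases i <;> fin_cases j
    · simpa using h1
    · simpa using h01
    · simpa using h10
    · simp only [Fin.mk_one, Fin.isValue, SpecialLinearGroup.coe_one, one_apply_eq]; rw [← h00]; exact h1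
  · right
    ext i j
    fin_cases i <;> fin_cases j
    · simpa using h1
    · simpa using h01
    · simpa using h10
    · simp only [Fin.mk_one, Fin.isValue, Matrix.neg_apply, one_apply_eq]; rw [← h00]; exact h1

theorem Cpm_center (g : SL2) (hg : g ∈ Subgroup.center SL2) : (Cpm g).index = 1 := by
  rw [Subgroup.index_eq_one, eq_top_iff]
  intro h _
  rw [mem_Cpm_iff]
  left
  exact Subgroup.mem_center_iff.mp hg h

theorem cent_card' (h2 : (2 : F) ≠ 0) (g : SL2) (hg : NonScalar g) :
    Nat.card (Subgroup.centralizer ({g} : Set SL2)) =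
      Nat.card {z : F × F // z.1 ^ 2 - ((tr g) ^ 2 - 4) * z.2 ^ 2 = 1} := by
  rw [cent_card g hg, Nat.card_congr (conicDiag h2 (tr g))]

theorem arithA (q i : ℕ) (hq : 2 ≤ q) (h : i * (2 * q) = q * (q ^ 2 - 1)) : i = (q ^ 2 - 1) / 2 := by
  have : q * (i * 2) = q * (q ^ 2 - 1) := by rw [← h]; ring
  have h3 := Nat.eq_of_mul_eq_mul_left (by omega) this
  generalize q ^ 2 - 1 = n at h3
  omega

theorem arithB (q i : ℕ) (hq : 2 ≤ q) (h : i * (q - 1) = q * (q ^ 2 - 1)) : i = q * (q + 1) := by
  obtain ⟨k, rfl⟩ : ∃ k, q = k + 2 := ⟨q - 2, by omega⟩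
  have h1 : (k + 2) ^ 2 - 1 = (k + 1) * (k + 3) := by
    have : (k + 2) ^ 2 = (k + 1) * (k + 3) + 1 := by ring
    omega
  have h2 : k + 2 - 1 = k + 1 := by omega
  rw [h1, h2] at h
  have h3 : (k + 1) * i = (k + 1) * ((k + 2) * (k + 2 + 1)) := by
    rw [mul_comm, h]; ring
  exact Nat.eq_of_mul_eq_mul_left (by omega) h3

theorem arithC (q i : ℕ) (hq : 2 ≤ q) (h : i * (q + 1) = q * (q ^ 2 - 1)) : i = q * (q - 1) := by
  obtain ⟨k, rfl⟩ : ∃ k, q = k + 2 := ⟨q - 2, by omega⟩
  have h1 : (k + 2) ^ 2 - 1 = (k + 1) * (k + 3) := by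
    have : (k + 2) ^ 2 = (k + 1) * (k + 3) + 1 := by ring
    omega
  have h2 : k + 2 - 1 = k + 1 := by omega
  rw [h1] at h
  rw [h2]
  have h3 : (k + 3) * i = (k + 3) * ((k + 2) * (k + 1)) := by
    rw [mul_comm, h]; ring
  exact Nat.eq_of_mul_eq_mul_left (by omega) h3

theorem cent_index_zero [Fintype F] (h2 : (2 : F) ≠ 0) (hq : 2 ≤ Fintype.card F) (g : SL2) (hg : NonScalar g)
    (hD : (tr g) ^ 2 - 4 = 0) :
    (Subgroup.centralizer ({g} : Set SL2)).index = (Fintype.card F ^ 2 - 1) / 2 := by
  have h1 := index_mul g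
  rw [cent_card' h2 g hg, hD, con_zero h2] at h1
  exact arithA _ _ hq h1

theorem cent_index_split [Fintype F] (h2 : (2 : F) ≠ 0) (hq : 2 ≤ Fintype.card F) (g : SL2) (hg : NonScalar g)
    (e : F) (he : e ≠ 0) (hD : (tr g) ^ 2 - 4 = e ^ 2) :
    (Subgroup.centralizer ({g} : Set SL2)).index = Fintype.card F * (Fintype.card F + 1) := by
  have h1 := index_mul g
  rw [cent_card' h2 g hg, hD, con_split h2 e he] at h1
  exact arithB _ _ hq h1

theorem cent_index_nonsplit [Fintype F] (h2 : (2 : F) ≠ 0) (hq : 2 ≤ Fintype.card F) (g : SL2) (hg : NonScalar g)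
    (hD : ¬ IsSquare ((tr g) ^ 2 - 4)) :
    (Subgroup.centralizer ({g} : Set SL2)).index = Fintype.card F * (Fintype.card F - 1) := by
  have h1 := index_mul g
  rw [cent_card' h2 g hg, con_nonsplit h2 _ hD] at h1
  exact arithC _ _ hq h1

theorem isSquare_neg_four_iff (h2 : (2 : F) ≠ 0) : IsSquare (-4 : F) ↔ IsSquare (-1 : F) := by
  constructor
  · rintro ⟨e, he⟩
    refine ⟨e / 2, ?_⟩
    field_simp
    linear_combination he
  · rintro ⟨e, he⟩
    refine ⟨2 * e, ?_⟩
    linear_combination 4 * he

theorem index_mem [Fintype F] (h2 : (2 : F) ≠ 0) (hq : 2 ≤ Fintype.card F) (g : SL2) :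
    (Cpm g).index = 1 ∨ (Cpm g).index = (Fintype.card F ^ 2 - 1) / 2 ∨
    (Cpm g).index = Fintype.card F * (Fintype.card F + 1) ∨
    (Cpm g).index = Fintype.card F * (Fintype.card F - 1) ∨
    (IsSquare (-1 : F) ∧ (Cpm g).index = Fintype.card F * (Fintype.card F + 1) / 2) ∨
    (¬ IsSquare (-1 : F) ∧ (Cpm g).index = Fintype.card F * (Fintype.card F - 1) / 2) := by
  by_cases hc : g ∈ Subgroup.center SL2
  · left; exact Cpm_center g hc
  · have hg := nonScalar_of_not_center g hc
    by_cases hD0 : (tr g) ^ 2 - 4 = 0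
    · right; left
      have htr : tr g ≠ 0 := by
        intro h
        rw [h] at hD0
        apply h2
        have : (2 : F) * 2 = 0 := by linear_combination -hD0
        exact (mul_self_eq_zero.mp this)
      rw [Cpm_eq_of_tr_ne_zero h2 g htr]
      exact cent_index_zero h2 hq g hg hD0
    · by_cases hsq : IsSquare ((tr g) ^ 2 - 4)
      · obtain ⟨e, he⟩ := hsq
        have he0 : e ≠ 0 := by
          rintro rfl
          apply hD0
          rw [he]; ring
        have hci := cent_index_split h2 hq g hg e he0 (by rw [he]; ring)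
        by_cases htr : tr g = 0
        · have hm1 : IsSquare (-1 : F) := by
            rw [← isSquare_neg_four_iff h2]
            refine ⟨e, ?_⟩
            rw [← he, htr]; ring
          by_cases hac : ∃ h, AC h g
          · obtain ⟨h₀, hac⟩ := hac
            right; right; right; right; left
            refine ⟨hm1, ?_⟩
            have := index_Cpm_of_AC h2 g h₀ hac
            rw [hci] at this
            omega
          · right; right; left
            rw [Cpm_eq_of_no_AC g hac]
            exact hci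
        · right; right; left
          rw [Cpm_eq_of_tr_ne_zero h2 g htr]
          exact hci
      · have hci := cent_index_nonsplit h2 hq g hg hsq
        by_cases htr : tr g = 0
        · have hm1 : ¬ IsSquare (-1 : F) := by
            rw [← isSquare_neg_four_iff h2]
            intro h
            apply hsq
            rw [htr]
            convert h using 1
            ring
          by_cases hac : ∃ h, AC h g
          · obtain ⟨h₀, hac⟩ := hac
            right; right; right; right; right
            refine ⟨hm1, ?_⟩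
            have := index_Cpm_of_AC h2 g h₀ hac
            rw [hci] at this
            omega
          · right; right; right; left
            rw [Cpm_eq_of_no_AC g hac]
            exact hci
        · right; right; right; left
          rw [Cpm_eq_of_tr_ne_zero h2 g htr]
          exact hci

/-- an element with given trace -/
def gτ (τ : F) : SL2 := ⟨!![0, 1; -1, τ], by
  rw [Matrix.det_fin_two_of]
  ring⟩

theorem gτ_nonScalar (τ : F) : NonScalar (gτ τ) := by
  left
  simp [gτ]

theorem gτ_tr (τ : F) : tr (gτ τ) = τ := by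
  simp [tr, gτ]

theorem wit_one : ∃ g : SL2, (Cpm g).index = 1 := ⟨1, Cpm_center 1 (Subgroup.one_mem _)⟩

theorem wit_unip [Fintype F] (h2 : (2 : F) ≠ 0) (hq : 2 ≤ Fintype.card F) :
    ∃ g : SL2, (Cpm g).index = (Fintype.card F ^ 2 - 1) / 2 := by
  refine ⟨gτ 2, ?_⟩
  have htr : tr (gτ (2 : F)) ≠ 0 := by rw [gτ_tr]; exact h2
  rw [Cpm_eq_of_tr_ne_zero h2 _ htr]
  apply cent_index_zero h2 hq _ (gτ_nonScalar 2)
  rw [gτ_tr]; ring

theorem exists_gen [Fintype F] (h7 : 7 ≤ Fintype.card F) : ∃ r : F, r ≠ 0 ∧ r ^ 2 ≠ 1 ∧ r ^ 2 ≠ -1 := by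
  classical
  obtain ⟨u, hu⟩ := IsCyclic.exists_generator (α := Fˣ)
  have hord : orderOf u = Fintype.card F - 1 := by
    rw [orderOf_eq_card_of_forall_mem_zpowers hu, Nat.card_eq_fintype_card, Fintype.card_units]
  have h4 : ¬ (u ^ 4 = 1) := by
    intro h
    have := orderOf_dvd_of_pow_eq_one h
    rw [hord] at this
    have := Nat.le_of_dvd (by norm_num) this
    omega
  refine ⟨(u : F), u.ne_zero, ?_, ?_⟩
  · intro h
    apply h4
    apply Units.ext
    push_cast
    have : (u : F) ^ 4 = ((u : F) ^ 2) ^ 2 := by ring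
    rw [this, h]; ring
  · intro h
    apply h4
    apply Units.ext
    push_cast
    have : (u : F) ^ 4 = ((u : F) ^ 2) ^ 2 := by ring
    rw [this, h]; ring

theorem wit_split [Fintype F] (h2 : (2 : F) ≠ 0) (h7 : 7 ≤ Fintype.card F) :
    ∃ g : SL2, (Cpm g).index = Fintype.card F * (Fintype.card F + 1) := by
  obtain ⟨r, hr0, hr1, hr2⟩ := exists_gen (F := F) h7
  refine ⟨gτ (r + r⁻¹), ?_⟩
  have htr : tr (gτ (r + r⁻¹)) ≠ 0 := by
    rw [gτ_tr]
    intro h
    apply hr2
    field_simp at h
    linear_combination h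
  rw [Cpm_eq_of_tr_ne_zero h2 _ htr]
  apply cent_index_split h2 (by omega) _ (gτ_nonScalar _) (r - r⁻¹)
  · intro h
    apply hr1
    field_simp at h
    linear_combination h
  · rw [gτ_tr]
    field_simp
    ring

theorem not_isSquare_mul_sq (ν s : F) (hν : ¬ IsSquare ν) (hs : s ≠ 0) : ¬ IsSquare (ν * s ^ 2) := by
  rintro ⟨w, hw⟩
  apply hν
  refine ⟨w / s, ?_⟩
  field_simp
  linear_combination hw

theorem wit_nonsplit [Fintype F] (h2 : (2 : F) ≠ 0) (hodd : ¬ 2 ∣ Fintype.card F) (h7 : 7 ≤ Fintype.card F) :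
    ∃ g : SL2, (Cpm g).index = Fintype.card F * (Fintype.card F - 1) := by
  have hchar : ringChar F ≠ 2 := by
    intro h
    rw [FiniteField.even_card_iff_char_two] at h
    exact hodd (Nat.dvd_of_mod_eq_zero h)
  obtain ⟨ν, hν⟩ := FiniteField.exists_nonsquare hchar
  have hne : ∀ t : F, 1 - ν * t ^ 2 ≠ 0 := by
    intro t ht
    apply hν
    have ht0 : t ≠ 0 := by
      rintro rfl
      simp at ht
    refine ⟨t⁻¹, ?_⟩
    field_simp
    linear_combination -ht
  -- choose t with t ≠ 0 and ν t² ≠ -1
  obtain ⟨t, ht0, ht1⟩ : ∃ t : F, t ≠ 0 ∧ 1 + ν * t ^ 2 ≠ 0 := by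
    by_cases hν1 : 1 + ν = 0
    · obtain ⟨r, hr0, hr1, -⟩ := exists_gen (F := F) h7
      refine ⟨r, hr0, ?_⟩
      intro h
      apply hr1
      have : ν = -1 := by linear_combination hν1
      rw [this] at h
      linear_combination -h
    · exact ⟨1, one_ne_zero, by simpa using hν1⟩
  have hX := hne t
  refine ⟨gτ (2 * (1 + ν * t ^ 2) / (1 - ν * t ^ 2)), ?_⟩
  have htr : tr (gτ (2 * (1 + ν * t ^ 2) / (1 - ν * t ^ 2))) ≠ 0 := by
    rw [gτ_tr]
    exact div_ne_zero (mul_ne_zero h2 ht1) hX
  rw [Cpm_eq_of_tr_ne_zero h2 _ htr]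
  apply cent_index_nonsplit h2 (by omega) _ (gτ_nonScalar _)
  rw [gτ_tr]
  have : (2 * (1 + ν * t ^ 2) / (1 - ν * t ^ 2)) ^ 2 - 4 = ν * (4 * t / (1 - ν * t ^ 2)) ^ 2 := by
    field_simp
    ring
  rw [this]
  apply not_isSquare_mul_sq ν _ hν
  exact div_ne_zero (mul_ne_zero (by
    have : (4 : F) = 2 * 2 := by norm_num
    rw [this]; exact mul_ne_zero h2 h2) ht0) hX

theorem exists_sum_sq [Fintype F] (hodd : ¬ 2 ∣ Fintype.card F) : ∃ x y : F, x ^ 2 + y ^ 2 = -1 := by
  have hcard : Fintype.card F % 2 = 1 := by omega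
  obtain ⟨a, b, hab⟩ := FiniteField.exists_root_sum_quadratic (R := F) (f := Polynomial.X ^ 2)
    (g := Polynomial.X ^ 2 + 1) (by simp) (by
      rw [Polynomial.degree_add_eq_left_of_degree_lt] <;> simp) hcard
  refine ⟨a, b, ?_⟩
  simp at hab
  linear_combination hab

theorem wit_inv [Fintype F] (hodd : ¬ 2 ∣ Fintype.card F) :
    ∃ g h : SL2, NonScalar g ∧ tr g = 0 ∧ AC h g := by
  obtain ⟨x, y, hxy⟩ := exists_sum_sq (F := F) hodd
  refine ⟨gτ 0, ⟨!![x, y; y, -x], ?_⟩, gτ_nonScalar 0, gτ_tr 0, ?_⟩
  · rw [Matrix.det_fin_two_of]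
    linear_combination -hxy
  · unfold AC gτ
    ext i j
    fin_cases i <;> fin_cases j <;> simp [Matrix.mul_apply, Fin.sum_univ_two]

theorem wit_inv_split [Fintype F] (h2 : (2 : F) ≠ 0) (hodd : ¬ 2 ∣ Fintype.card F) (hq : 2 ≤ Fintype.card F)
    (hm1 : IsSquare (-1 : F)) :
    ∃ g : SL2, (Cpm g).index = Fintype.card F * (Fintype.card F + 1) / 2 := by
  obtain ⟨g, h, hg, htr, hac⟩ := wit_inv (F := F) hodd
  refine ⟨g, ?_⟩
  obtain ⟨e, he⟩ := (isSquare_neg_four_iff h2).mpr hm1
  have he0 : e ≠ 0 := by
    rintro rfl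
    have : (2 : F) * 2 = 0 := by linear_combination -he
    exact h2 (mul_self_eq_zero.mp this)
  have hci := cent_index_split h2 hq g hg e he0 (by rw [htr, pow_two e, ← he]; ring)
  have := index_Cpm_of_AC h2 g h hac
  rw [hci] at this
  omega

theorem wit_inv_nonsplit [Fintype F] (h2 : (2 : F) ≠ 0) (hodd : ¬ 2 ∣ Fintype.card F) (hq : 2 ≤ Fintype.card F)
    (hm1 : ¬ IsSquare (-1 : F)) :
    ∃ g : SL2, (Cpm g).index = Fintype.card F * (Fintype.card F - 1) / 2 := by
  obtain ⟨g, h, hg, htr, hac⟩ := wit_inv (F := F) hodd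
  refine ⟨g, ?_⟩
  have hns : ¬ IsSquare ((tr g) ^ 2 - 4) := by
    rw [htr]
    intro h
    apply hm1
    rw [← isSquare_neg_four_iff h2]
    convert h using 1
    ring
  have hci := cent_index_nonsplit h2 hq g hg hns
  have := index_Cpm_of_AC h2 g h hac
  rw [hci] at this
  omega

theorem range_eq :
    Set.range (fun g : PSL2 => (Subgroup.centralizer ({g} : Set PSL2)).index) =
      Set.range (fun g : SL2 => (Cpm g).index) := by
  ext n
  constructor
  · rintro ⟨x, rfl⟩
    obtain ⟨g, rfl⟩ := proj_surjective x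
    exact ⟨g, index_Cpm g⟩
  · rintro ⟨g, rfl⟩
    exact ⟨proj g, (index_Cpm g).symm⟩

end

/-- Let F be a finite field with q elements, q odd and q ≥ 7. If q ≡ 1 (mod 4) the conjugacy class sizes of PSL(2,F) are exactly 1, (q² − 1)/2, q(q + 1)/2, q(q − 1) and q(q + 1); if q ≡ 3 (mod 4) they are exactly 1, (q² − 1)/2, q(q − 1)/2, q(q + 1) and q(q − 1). -/
theorem result {F : Type*} [Field F] [Fintype F]
    (hodd : ¬ 2 ∣ Fintype.card F) (h7 : 7 ≤ Fintype.card F) :
    (Fintype.card F % 4 = 1 →
      Set.range (fun g : (Matrix.ProjectiveSpecialLinearGroup (Fin 2) F) => (Subgroup.centralizer ({g} : Set (Matrix.ProjectiveSpecialLinearGroup (Fin 2) F))).index) =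
        {1, (Fintype.card F ^ 2 - 1) / 2, Fintype.card F * (Fintype.card F + 1) / 2,
          Fintype.card F * (Fintype.card F - 1), Fintype.card F * (Fintype.card F + 1)}) ∧
    (Fintype.card F % 4 = 3 →
      Set.range (fun g : (Matrix.ProjectiveSpecialLinearGroup (Fin 2) F) => (Subgroup.centralizer ({g} : Set (Matrix.ProjectiveSpecialLinearGroup (Fin 2) F))).index) =
        {1, (Fintype.card F ^ 2 - 1) / 2, Fintype.card F * (Fintype.card F - 1) / 2,
          Fintype.card F * (Fintype.card F + 1), Fintype.card F * (Fintype.card F - 1)}) := by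
  have hchar : ringChar F ≠ 2 := by
    intro h
    rw [FiniteField.even_card_iff_char_two] at h
    exact hodd (Nat.dvd_of_mod_eq_zero h)
  have h2 : (2 : F) ≠ 0 := Ring.two_ne_zero hchar
  have hq : 2 ≤ Fintype.card F := by omega
  constructor
  · intro h41
    have hm1 : IsSquare (-1 : F) := FiniteField.isSquare_neg_one_iff.mpr (by omega)
    rw [range_eq]
    apply Set.eq_of_subset_of_subset
    · rintro _ ⟨g, rfl⟩
      simp only [Set.mem_insert_iff, Set.mem_singleton_iff]
      rcases index_mem h2 hq g with h | h | h | h | ⟨_, h⟩ | ⟨hn, _⟩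
      · left; exact h
      · right; left; exact h
      · right; right; right; right; exact h
      · right; right; right; left; exact h
      · right; right; left; exact h
      · exact absurd hm1 hn
    · intro n hn
      simp only [Set.mem_insert_iff, Set.mem_singleton_iff] at hn
      rcases hn with rfl | rfl | rfl | rfl | rfl
      · exact wit_one
      · exact wit_unip h2 hq
      · exact wit_inv_split h2 hodd hq hm1
      · exact wit_nonsplit h2 hodd h7
      · exact wit_split h2 h7
  · intro h43
    have hm1 : ¬ IsSquare (-1 : F) := by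
      rw [FiniteField.isSquare_neg_one_iff]
      omega
    rw [range_eq]
    apply Set.eq_of_subset_of_subset
    · rintro _ ⟨g, rfl⟩
      simp only [Set.mem_insert_iff, Set.mem_singleton_iff]
      rcases index_mem h2 hq g with h | h | h | h | ⟨hn, _⟩ | ⟨_, h⟩
      · left; exact h
      · right; left; exact h
      · right; right; right; left; exact h
      · right; right; right; right; exact h
      · exact absurd hn hm1
      · right; right; left; exact h
    · intro n hn
      simp only [Set.mem_insert_iff, Set.mem_singleton_iff] at hn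
      rcases hn with rfl | rfl | rfl | rfl | rfl
      · exact wit_one
      · exact wit_unip h2 hq
      · exact wit_inv_nonsplit h2 hodd hq hm1
      · exact wit_split h2 h7
      · exact wit_nonsplit h2 hodd h7

end Cfsg.Agent.S2508
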