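import Cfsg.Statements.S2512
import Cfsg.Agent.Lib.Helper39.SpT8

set_option autoImplicit false
open Cfsg

namespace Cfsg.Agent.S2512

open Cfsg.Agent.Lib.Helper40.PSLr Cfsg.Agent.Lib.Helper39.SpT

/-- Let F be a finite field of odd order q = p^a, n ≥ 2 (with q ≥ 3 automatic), and L = PSp(2n, F). Then for every m the direct product L × L × L × (ℤ/2)^m has the same set of element orders as L × L × L; and if 2n − 1 is not a power of p, then already L × L × (ℤ/2)^m has the same set of element orders as L × L. -/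
theorem result {F : Type*} [Field F] [Fintype F] (p a n m : ℕ) (hp : p.Prime) (ha : 1 ≤ a) (hF : Fintype.card F = p ^ a) (hodd : Odd (Fintype.card F))
    (hn : 2 ≤ n) :
    Set.range (orderOf : Cfsg.PSp n F × Cfsg.PSp n F × Cfsg.PSp n F × Multiplicative (Fin m → ZMod 2) → ℕ) = Set.range (orderOf : Cfsg.PSp n F × Cfsg.PSp n F × Cfsg.PSp n F → ℕ) ∧
    ((¬ ∃ j : ℕ, 2 * n - 1 = p ^ j) →
      Set.range (orderOf : Cfsg.PSp n F × Cfsg.PSp n F × Multiplicative (Fin m → ZMod 2) → ℕ) = Set.range (orderOf : Cfsg.PSp n F × Cfsg.PSp n F → ℕ)) := by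
  classical
  haveI : Fact p.Prime := ⟨hp⟩
  haveI : CharP F p := charP_of_card p a hp hF
  obtain ⟨N, hpr, hpos, hdiv, hdich, hN, hrΩ, hP⟩ := omega_facts_sp (F := F) hodd p n hn
  have hr : (2 : ℕ).Prime := Nat.prime_two
  constructor
  · ext o
    constructor
    · rintro ⟨⟨x, y, z, w⟩, rfl⟩
      rw [Prod.orderOf, Prod.orderOf, Prod.orderOf]
      rcases orderOf_zmod_pi 2 m hr w with hw | hw
      · refine ⟨(x, y, z), ?_⟩
        rw [Prod.orderOf, Prod.orderOf, hw, Nat.lcm_one_right]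
      · rw [hw]
        obtain ⟨a', ⟨x', hx'⟩, b', ⟨y', hy'⟩, c', ⟨z', hz'⟩, hl⟩ :=
          three _ p 2 N hp hr hpr hpos hdiv hdich hN hrΩ (orderOf x) (orderOf y) (orderOf z)
            ⟨x, rfl⟩ ⟨y, rfl⟩ ⟨z, rfl⟩
        refine ⟨(x', y', z'), ?_⟩
        rw [Prod.orderOf, Prod.orderOf, hx', hy', hz', hl, Nat.lcm_assoc, Nat.lcm_assoc]
    · rintro ⟨⟨x, y, z⟩, rfl⟩
      refine ⟨(x, y, z, 1), ?_⟩
      rw [Prod.orderOf, Prod.orderOf, Prod.orderOf, Prod.orderOf, Prod.orderOf, orderOf_one,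
        Nat.lcm_one_right]
  · intro hnp
    ext o
    constructor
    · rintro ⟨⟨x, y, w⟩, rfl⟩
      rw [Prod.orderOf, Prod.orderOf]
      rcases orderOf_zmod_pi 2 m hr w with hw | hw
      · refine ⟨(x, y), ?_⟩
        rw [Prod.orderOf, hw, Nat.lcm_one_right]
      · rw [hw]
        obtain ⟨a', ⟨x', hx'⟩, b', ⟨y', hy'⟩, hl⟩ :=
          two _ p 2 N hp hr hpr hpos hdiv hdich hN (hP hnp) (orderOf x) (orderOf y)
            ⟨x, rfl⟩ ⟨y, rfl⟩
        refine ⟨(x', y'), ?_⟩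
        rw [Prod.orderOf, hx', hy', hl, Nat.lcm_assoc]
    · rintro ⟨⟨x, y⟩, rfl⟩
      refine ⟨(x, y, 1), ?_⟩
      rw [Prod.orderOf, Prod.orderOf, Prod.orderOf, orderOf_one, Nat.lcm_one_right]

end Cfsg.Agent.S2512
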