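import Cfsg.Statements.S2514
import Mathlib

set_option autoImplicit false
open Cfsg

namespace Cfsg.Agent.S2514

section aux

variable {X : Type*} [Group X] [Finite X]

/-- spectrum closed under divisors -/
theorem spec_dvd_closed {n d : ℕ} (hn : n ∈ Set.range (orderOf : X → ℕ)) (hd : d ∣ n) :
    d ∈ Set.range (orderOf : X → ℕ) := by
  obtain ⟨x, rfl⟩ := hn
  obtain ⟨e, he⟩ := hd
  have hpos : 0 < orderOf x := orderOf_pos x
  have he0 : e ≠ 0 := by
    rintro rfl
    rw [mul_zero] at he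
    omega
  refine ⟨x ^ e, ?_⟩
  rw [orderOf_pow_of_dvd he0 ⟨d, by rw [he, mul_comm]⟩, he]
  exact Nat.mul_div_cancel _ (Nat.pos_of_ne_zero he0)

/-- every order divides a maximal one -/
theorem exists_max (n : ℕ) (hn : n ∈ Set.range (orderOf : X → ℕ)) :
    ∃ m, (m ∈ Set.range (orderOf : X → ℕ) ∧ ∀ m' ∈ Set.range (orderOf : X → ℕ), m ∣ m' → m' = m) ∧ n ∣ m := by
  classical
  have hfin : (Set.range (orderOf : X → ℕ)).Finite := Set.finite_range _
  let S : Set ℕ := {m | m ∈ Set.range (orderOf : X → ℕ) ∧ n ∣ m}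
  have hSfin : S.Finite := hfin.subset (fun m hm => hm.1)
  have hSne : S.Nonempty := ⟨n, hn, dvd_rfl⟩
  obtain ⟨m, hmS, hmax⟩ := Set.Finite.exists_maximal hSfin hSne
  refine ⟨m, ⟨hmS.1, ?_⟩, hmS.2⟩
  intro m' hm' hdvd
  have hm'S : m' ∈ S := ⟨hm', hmS.2.trans hdvd⟩
  have hpos : 0 < m' := by
    obtain ⟨x, rfl⟩ := hm'
    exact orderOf_pos x
  have hle : m ≤ m' := Nat.le_of_dvd hpos hdvd
  have := hmax hm'S hle
  exact le_antisymm this hle

end aux

theorem orderOf_eq_of_dvd_iff {X Y : Type*} [Monoid X] [Monoid Y] (x : X) (y : Y)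
    (h : ∀ n, orderOf x ∣ n ↔ orderOf y ∣ n) : orderOf x = orderOf y :=
  Nat.dvd_right_iff_eq.mp h

theorem pi_orderOf_dvd_iff {ι : Type*} [Fintype ι] {X : Type*} [Monoid X] (g : ι → X) (n : ℕ) :
    orderOf g ∣ n ↔ ∀ i, orderOf (g i) ∣ n := by
  rw [Pi.orderOf, Finset.lcm_dvd_iff]
  simp

theorem prod_orderOf_dvd_iff {X Y : Type*} [Monoid X] [Monoid Y] (x : X) (y : Y) (n : ℕ) :
    orderOf (x, y) ∣ n ↔ orderOf x ∣ n ∧ orderOf y ∣ n := by
  rw [Prod.orderOf_mk, Nat.lcm_dvd_iff]

/-- Main statement with `k = k' + 1`. -/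
theorem main {G H : Type*} [Group G] [Finite G] [Group H] [Finite H] (k' : ℕ)
    (hsub : {n : ℕ | n ∈ Set.range (orderOf : H → ℕ) ∧ ∀ m ∈ Set.range (orderOf : H → ℕ), n ∣ m → m = n} ⊆ {n : ℕ | n ∈ Set.range (orderOf : G → ℕ) ∧ ∀ m ∈ Set.range (orderOf : G → ℕ), n ∣ m → m = n})
    (hfew : ({n : ℕ | n ∈ Set.range (orderOf : G → ℕ) ∧ ∀ m ∈ Set.range (orderOf : G → ℕ), n ∣ m → m = n} \ {n : ℕ | n ∈ Set.range (orderOf : H → ℕ) ∧ ∀ m ∈ Set.range (orderOf : H → ℕ), n ∣ m → m = n}).ncard < k' + 1) :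
    Set.range (orderOf : (Fin (k' + 1) → G) → ℕ) = Set.range (orderOf : (Fin k' → G) × H → ℕ) := by
  classical
  have hHG : ∀ b, b ∈ Set.range (orderOf : H → ℕ) → b ∈ Set.range (orderOf : G → ℕ) := by
    intro b hb
    obtain ⟨m, hm, hbm⟩ := exists_max b hb
    exact spec_dvd_closed (hsub hm).1 hbm
  apply Set.eq_of_subset_of_subset
  · rintro _ ⟨g, rfl⟩
    -- choose maximal orders above each coordinate
    have hch : ∀ i : Fin (k' + 1), ∃ m, (m ∈ Set.range (orderOf : G → ℕ) ∧ ∀ m' ∈ Set.range (orderOf : G → ℕ), m ∣ m' → m' = m) ∧ orderOf (g i) ∣ m :=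
      fun i => exists_max _ ⟨g i, rfl⟩
    choose m hm hdvd using hch
    by_cases hcase : ∃ i, m i ∈ {n : ℕ | n ∈ Set.range (orderOf : H → ℕ) ∧ ∀ m ∈ Set.range (orderOf : H → ℕ), n ∣ m → m = n}
    · obtain ⟨i, hi⟩ := hcase
      have : orderOf (g i) ∈ Set.range (orderOf : H → ℕ) := spec_dvd_closed hi.1 (hdvd i)
      obtain ⟨h, hh⟩ := this
      refine ⟨(fun l => g (i.succAbove l), h), ?_⟩
      apply orderOf_eq_of_dvd_iff
      intro n
      rw [prod_orderOf_dvd_iff, pi_orderOf_dvd_iff, pi_orderOf_dvd_iff, hh, Fin.forall_iff_succAbove i]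
      exact and_comm
    · push Not at hcase
      -- pigeonhole
      set T := ({n : ℕ | n ∈ Set.range (orderOf : G → ℕ) ∧ ∀ m ∈ Set.range (orderOf : G → ℕ), n ∣ m → m = n} \ {n : ℕ | n ∈ Set.range (orderOf : H → ℕ) ∧ ∀ m ∈ Set.range (orderOf : H → ℕ), n ∣ m → m = n}) with hT
      have hTfin : T.Finite := by
        apply (Set.finite_range (orderOf : G → ℕ)).subset
        intro x hx
        exact hx.1.1
      have hmaps : ∀ i ∈ (Finset.univ : Finset (Fin (k' + 1))), m i ∈ hTfin.toFinset := by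
        intro i _
        rw [Set.Finite.mem_toFinset]
        exact ⟨hm i, hcase i⟩
      have hcard : hTfin.toFinset.card < (Finset.univ : Finset (Fin (k' + 1))).card := by
        rw [← Set.ncard_eq_toFinset_card T hTfin, Finset.card_univ, Fintype.card_fin]
        exact hfew
      obtain ⟨i, _, j, _, hij, hmij⟩ := Finset.exists_ne_map_eq_of_card_lt_of_maps_to hcard hmaps
      -- lcm of the two orders is an order
      have hc : Nat.lcm (orderOf (g i)) (orderOf (g j)) ∈ Set.range (orderOf : G → ℕ) := by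
        apply spec_dvd_closed (hm i).1
        apply Nat.lcm_dvd (hdvd i)
        rw [hmij]
        exact hdvd j
      obtain ⟨y, hy⟩ := hc
      refine ⟨(fun l => Function.update g i y (j.succAbove l), 1), ?_⟩
      apply orderOf_eq_of_dvd_iff
      intro n
      rw [prod_orderOf_dvd_iff, pi_orderOf_dvd_iff, pi_orderOf_dvd_iff, orderOf_one]
      constructor
      · rintro ⟨hall, _⟩
        obtain ⟨i', hi'⟩ := Fin.exists_succAbove_eq hij
        have hyn : Nat.lcm (orderOf (g i)) (orderOf (g j)) ∣ n := by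
          have := hall i'
          rw [hi', Function.update_self, hy] at this
          exact this
        intro l
        by_cases hli : l = i
        · rw [hli]; exact (Nat.dvd_lcm_left _ _).trans hyn
        by_cases hlj : l = j
        · rw [hlj]; exact (Nat.dvd_lcm_right _ _).trans hyn
        obtain ⟨l', hl'⟩ := Fin.exists_succAbove_eq hlj
        have := hall l'
        rw [hl', Function.update_of_ne hli] at this
        exact this
      · intro hall
        refine ⟨?_, one_dvd _⟩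
        intro l
        by_cases hl : j.succAbove l = i
        · rw [hl, Function.update_self, hy]
          exact Nat.lcm_dvd (hall i) (hall j)
        · rw [Function.update_of_ne hl]
          exact hall _
  · rintro _ ⟨⟨f, h⟩, rfl⟩
    obtain ⟨y, hy⟩ := hHG (orderOf h) ⟨h, rfl⟩
    refine ⟨Fin.cons y f, ?_⟩
    apply orderOf_eq_of_dvd_iff
    intro n
    rw [prod_orderOf_dvd_iff, pi_orderOf_dvd_iff, pi_orderOf_dvd_iff, Fin.forall_fin_succ]
    simp only [Fin.cons_zero, Fin.cons_succ, hy]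
    exact and_comm

/-- For a finite group X write μ(X) for the set of element orders of X that are maximal under divisibility. Let G and H be finite groups and k ≥ 1 such that μ(H) ⊆ μ(G) and μ(G) has fewer than k elements outside μ(H). Then the direct product of k copies of G has the same set of element orders as the direct product of k − 1 copies of G with H. -/
theorem result {G H : Type*} [Group G] [Finite G] [Group H] [Finite H] (k : ℕ) (hk : 1 ≤ k)
    (hsub : {n : ℕ | n ∈ Set.range (orderOf : H → ℕ) ∧ ∀ m ∈ Set.range (orderOf : H → ℕ), n ∣ m → m = n} ⊆ {n : ℕ | n ∈ Set.range (orderOf : G → ℕ) ∧ ∀ m ∈ Set.range (orderOf : G → ℕ), n ∣ m → m = n})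
    (hfew : ({n : ℕ | n ∈ Set.range (orderOf : G → ℕ) ∧ ∀ m ∈ Set.range (orderOf : G → ℕ), n ∣ m → m = n} \ {n : ℕ | n ∈ Set.range (orderOf : H → ℕ) ∧ ∀ m ∈ Set.range (orderOf : H → ℕ), n ∣ m → m = n}).ncard < k) :
    Set.range (orderOf : (Fin k → G) → ℕ) = Set.range (orderOf : (Fin (k - 1) → G) × H → ℕ) := by
  obtain ⟨k', rfl⟩ : ∃ k', k = k' + 1 := ⟨k - 1, by omega⟩
  exact main k' hsub hfew

end Cfsg.Agent.S2514
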