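import Cfsg.Statements.S2516

set_option autoImplicit false
open Cfsg

namespace Cfsg.Agent.S2516

section

variable {F : Type*} [Field F] {V : Type*} [AddCommGroup V] [Module F V]
    {G : Type*} [Group G] (ρ : Representation F G V)

/-- the action hom -/
noncomputable abbrev act : G →* MulAut (Multiplicative V) :=
  (MulAutMultiplicative V).symm.toMonoidHom.comp
        ((DistribMulAction.toAddAut ((V →ₗ[F] V)ˣ) V).comp ρ.asGroupHom)

theorem act_apply (g : G) (v : V) : act ρ g (Multiplicative.ofAdd v) = Multiplicative.ofAdd (ρ g v) := rfl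

theorem pow_eq (x : Multiplicative V ⋊[act ρ] G) (j : ℕ) :
    x ^ j = ⟨Multiplicative.ofAdd ((∑ i ∈ Finset.range j, (ρ x.right) ^ i) (Multiplicative.toAdd x.left)), x.right ^ j⟩ := by
  induction j with
  | zero =>
    ext
    · simp
    · simp
  | succ j ih =>
    rw [pow_succ, ih]
    refine SemidirectProduct.ext ?_ ?_
    · simp only [SemidirectProduct.mul_left]
      have h1 : x.left = Multiplicative.ofAdd (Multiplicative.toAdd x.left) := rfl
      conv_lhs => rw [h1]
      rw [act_apply, ← ofAdd_add, Finset.sum_range_succ, LinearMap.add_apply, map_pow]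
      rfl
    · simp only [SemidirectProduct.mul_right, pow_succ]

end

/-- Let F be a field of characteristic p > 0, V a non-zero finite-dimensional F-vector space, G a finite group and ρ a representation of G on V; form the semidirect product V ⋊ G. For g ∈ G of order k, the coset Vg contains an element of order pk if and only if the minimal polynomial of ρ(g) does not divide 1 + X + ⋯ + X^(k−1). -/
theorem result {F : Type*} [Field F] (p : ℕ) [Fact p.Prime] [CharP F p] {V : Type*} [AddCommGroup V] [Module F V] [FiniteDimensional F V] [Nontrivial V]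
    {G : Type*} [Group G] [Finite G] (ρ : Representation F G V) (g : G) :
    (∃ x : Multiplicative V ⋊[(MulAutMultiplicative V).symm.toMonoidHom.comp
        ((DistribMulAction.toAddAut ((V →ₗ[F] V)ˣ) V).comp ρ.asGroupHom)] G,
        x.right = g ∧ orderOf x = p * orderOf g) ↔
      ¬ (minpoly F (ρ g) ∣ ∑ i ∈ Finset.range (orderOf g), (Polynomial.X : Polynomial F) ^ i) := by
  have hp : p.Prime := Fact.out
  have hk : 0 < orderOf g := orderOf_pos g
  rw [minpoly.dvd_iff]
  have haeval : Polynomial.aeval (ρ g) (∑ i ∈ Finset.range (orderOf g), (Polynomial.X : Polynomial F) ^ i)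
      = ∑ i ∈ Finset.range (orderOf g), (ρ g) ^ i := by
    simp
  rw [haeval]
  -- key computation
  have key : ∀ x : Multiplicative V ⋊[act ρ] G, x.right = g →
      x ^ orderOf g = SemidirectProduct.inl (Multiplicative.ofAdd ((∑ i ∈ Finset.range (orderOf g), (ρ g) ^ i) (Multiplicative.toAdd x.left))) := by
    intro x hx
    rw [pow_eq, hx, pow_orderOf_eq_one]
    rfl
  have hdvd : ∀ x : Multiplicative V ⋊[act ρ] G, x.right = g → orderOf g ∣ orderOf x := by
    intro x hx
    rw [← hx]
    exact orderOf_map_dvd (SemidirectProduct.rightHom (φ := act ρ)) x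
  constructor
  · rintro ⟨x, hx, hord⟩ hN
    have h1 := key x hx
    rw [hN, LinearMap.zero_apply, ofAdd_zero, map_one] at h1
    have h2 : orderOf x ∣ orderOf g := orderOf_dvd_of_pow_eq_one h1
    have h3 : orderOf x = orderOf g := Nat.dvd_antisymm h2 (hdvd x hx)
    rw [h3] at hord
    have : 2 ≤ p := hp.two_le
    nlinarith
  · intro hN
    obtain ⟨v, hv⟩ : ∃ v, (∑ i ∈ Finset.range (orderOf g), (ρ g) ^ i) v ≠ 0 := by
      by_contra hcon
      push Not at hcon
      apply hN
      ext v
      simpa using hcon v
    set w := (∑ i ∈ Finset.range (orderOf g), (ρ g) ^ i) v with hw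
    refine ⟨⟨Multiplicative.ofAdd v, g⟩, rfl, ?_⟩
    set x : Multiplicative V ⋊[act ρ] G := ⟨Multiplicative.ofAdd v, g⟩ with hx
    have h1 : x ^ orderOf g = SemidirectProduct.inl (Multiplicative.ofAdd w) := key x rfl
    have h2 : orderOf (x ^ orderOf g) = p := by
      rw [h1, orderOf_injective _ SemidirectProduct.inl_injective, orderOf_ofAdd_eq_addOrderOf]
      have hpw : p • w = 0 := by
        have : (p : F) = 0 := CharP.cast_eq_zero F p
        rw [← Nat.cast_smul_eq_nsmul F, this, zero_smul]
      have h3 : addOrderOf w ∣ p := addOrderOf_dvd_of_nsmul_eq_zero hpw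
      rcases (Nat.dvd_prime hp).mp h3 with h4 | h4
      · exact absurd (AddMonoid.addOrderOf_eq_one_iff.mp h4) hv
      · exact h4
    have h4 : orderOf g ∣ orderOf x := hdvd x rfl
    have hxpos : 0 < orderOf x := by
      rcases Nat.eq_zero_or_pos (orderOf x) with h0 | h0
      · -- x has finite order since x^(k) has order p
        exfalso
        have : (x ^ orderOf g) ^ p = 1 := by rw [← h2]; exact pow_orderOf_eq_one _
        rw [← pow_mul] at this
        have h5 := orderOf_dvd_of_pow_eq_one this
        rw [h0] at h5
        have := Nat.eq_zero_of_zero_dvd h5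
        have hp0 := hp.pos
        have : orderOf g * p ≠ 0 := by positivity
        contradiction
      · exact h0
    rw [orderOf_pow' x hk.ne', Nat.gcd_eq_right h4] at h2
    obtain ⟨c, hc⟩ := h4
    rw [hc, Nat.mul_div_cancel_left _ hk] at h2
    rw [hc, h2, mul_comm]

end Cfsg.Agent.S2516
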