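import Cfsg.Statements.S2518
import Cfsg.Agent.Lib.Helper58.G2Main
import Cfsg.Agent.Lib.Helper58.G2Transfer
import Cfsg.Agent.Lib.Helper58.PSL13

set_option autoImplicit false
open Cfsg

namespace Cfsg.Agent.S2518

open Cfsg.Lie Cfsg.Agent.Lib.Helper58

/-- transfer to the group over the prime field, as the group of the data -/
noncomputable def toGs {F : Type*} [Field F] [Fintype F] (hF : Fintype.card F = 3) :
    ↥(chevG2.group F) ≃* ↥G2Main.Gs :=
  (G2Transfer.groupEquiv chevG2 (ZMod.ringEquivOfPrime F Nat.prime_three hF).symm).trans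
    (MulEquiv.subgroupCongr G2Chain.group_eq)

theorem card_G2 {F : Type*} [Field F] [Fintype F] (hF : Fintype.card F = 3) :
    Nat.card ↥(chevG2.group F) = 4245696 := by
  rw [Nat.card_congr (toGs hF).toEquiv]
  exact G2Main.card_Gs

theorem g2_orders {F : Type*} [Field F] [Fintype F] (hF : Fintype.card F = 3) (r s : ℕ)
    (hr : r.Prime) (hs : s.Prime) (hrs : r ≠ s) :
    (∃ x : ↥(chevG2.group F), orderOf x = r * s) ↔ (r = 2 ∧ s = 3 ∨ r = 3 ∧ s = 2) := by
  rw [← G2Main.g2_orders r s hr hs hrs]
  constructor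
  · rintro ⟨x, hx⟩
    exact ⟨toGs hF x, by rw [MulEquiv.orderOf_eq]; exact hx⟩
  · rintro ⟨x, hx⟩
    exact ⟨(toGs hF).symm x, by rw [MulEquiv.orderOf_eq]; exact hx⟩

theorem psl_orders {E : Type*} [Field E] [Fintype E] (hE : Fintype.card E = 13) (r s : ℕ)
    (hr : r.Prime) (hs : s.Prime) (hrs : r ≠ s) :
    (∃ y : Matrix.ProjectiveSpecialLinearGroup (Fin 2) E, orderOf y = r * s) ↔
      (r = 2 ∧ s = 3 ∨ r = 3 ∧ s = 2) := by
  constructor
  · rintro ⟨y, hy⟩
    have hd : r * s ∣ 1092 := by
      rw [← hy, ← PSL13.card_E hE]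
      exact orderOf_dvd_natCard y
    have hr' := G2Main.prime_dvd_small hr (dvd_trans (dvd_mul_right r s) hd)
    have hs' := G2Main.prime_dvd_small hs (dvd_trans (dvd_mul_left s r) hd)
    obtain ⟨n14, n21, n26, n39, n91⟩ := PSL13.no_orders_E hE y
    rcases hr' with rfl | rfl | rfl | rfl <;> rcases hs' with rfl | rfl | rfl | rfl
    · exact absurd rfl hrs
    · exact Or.inl ⟨rfl, rfl⟩
    · exact absurd (by omega) n14
    · exact absurd (by omega) n26
    · exact Or.inr ⟨rfl, rfl⟩
    · exact absurd rfl hrs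
    · exact absurd (by omega) n21
    · exact absurd (by omega) n39
    · exact absurd (by omega) n14
    · exact absurd (by omega) n21
    · exact absurd rfl hrs
    · exact absurd (by omega) n91
    · exact absurd (by omega) n26
    · exact absurd (by omega) n39
    · exact absurd (by omega) n91
    · exact absurd rfl hrs
  · rintro (⟨rfl, rfl⟩ | ⟨rfl, rfl⟩)
    · exact PSL13.exists_six_E hE
    · exact PSL13.exists_six_E hE

/-- Let F₃ be the field with 3 elements and F₁₃ the field with 13 elements. The Chevalley group G₂(F₃) and PSL(2, F₁₃) have the same prime graph: the same prime divisors of their orders, and for distinct primes r, s an element of order rs in one iff in the other. -/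
theorem result {F : Type*} [Field F] [Fintype F] (hF : Fintype.card F = 3) {E : Type*} [Field E] [Fintype E] (hE : Fintype.card E = 13) :
    ((∀ r : ℕ, r.Prime → (r ∣ Nat.card ↥(Cfsg.Lie.chevG2.group F) ↔ r ∣ Nat.card (Matrix.ProjectiveSpecialLinearGroup (Fin 2) E))) ∧
      (∀ r s : ℕ, r.Prime → s.Prime → r ≠ s → ((∃ x : ↥(Cfsg.Lie.chevG2.group F), orderOf x = r * s) ↔ (∃ y : (Matrix.ProjectiveSpecialLinearGroup (Fin 2) E), orderOf y = r * s)))) := by
  refine ⟨?_, ?_⟩
  · intro r hr
    rw [card_G2 hF, PSL13.card_E hE]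
    constructor
    · intro h
      rcases G2Main.prime_dvd_big hr h with rfl | rfl | rfl | rfl <;> norm_num
    · intro h
      rcases G2Main.prime_dvd_small hr h with rfl | rfl | rfl | rfl <;> norm_num
  · intro r s hr hs hrs
    rw [g2_orders hF r s hr hs hrs, psl_orders hE r s hr hs hrs]

end Cfsg.Agent.S2518
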