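-- Statement S2531
import Cfsg.Statements.S2531
import Cfsg.Agent.Lib.Helper30.ProjPts

set_option autoImplicit false
open Cfsg

namespace Cfsg.Agent.S2531

open Cfsg.Agent.Lib.Helper30

theorem arith_aux (r h A k Y : ℤ) (hr : 1 ≤ r)
    (h1 : h * r + 1 = Y * (r + 1) ^ 2) (h2 : (A + 1) * r + 1 = Y * (r + 1) ^ 3)
    (h3 : r * h ^ 2 + A = (r + 1) * k) : False := by
  have key : (r + 1) * (r * k - (Y ^ 2 * (r + 1) ^ 3 - 2 * Y * (r + 1) + Y * (r + 1) ^ 2 - 1)) = 1 := by
    linear_combination (r * h + Y * (r + 1) ^ 2 - 1) * h1 + h2 - r * h3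
  have hd : (r + 1) ∣ 1 := ⟨_, key.symm⟩
  have := Int.le_of_dvd (by norm_num) hd
  omega

/-- Let `F` be a finite field and `n ≥ 3`. No set of permutations of the points of the projective space of `Fⁿ`, each induced by an invertible semilinear transformation of `Fⁿ` (so a subset of the full projective semilinear group), is sharply 2-transitive on the points: it is impossible that for all pairs of distinct points `(a, b)` and `(c, d)` exactly one member of the set sends `a` to `c` and `b` to `d`. -/
theorem result {F : Type*} [Field F] [Finite F]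
    (n : ℕ) (hn : 3 ≤ n) (S : Set (Equiv.Perm (Projectivization F (Fin n → F))))
    (hS : ∀ s ∈ S, ∃ (σ : F ≃+* F) (f : (Fin n → F) →ₛₗ[(σ : F →+* F)] (Fin n → F)) (hf : Function.Injective f),
      ∀ x, s x = Projectivization.map f hf x) :
    ¬ (∀ a b c d : Projectivization F (Fin n → F), a ≠ b → c ≠ d →
        ∃! s, s ∈ S ∧ s a = c ∧ s b = d) := by
  classical
  intro h2
  let _ : Fintype (Projectivization F (Fin n → F)) := Fintype.ofFinite _
  have hq : 2 ≤ Nat.card F := Finite.one_lt_card
  obtain ⟨r, hr⟩ : ∃ r : ℕ, Nat.card F = r + 1 := ⟨Nat.card F - 1, by omega⟩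
  have hr1 : 1 ≤ r := by omega
  let i0 : Fin n := ⟨0, by omega⟩
  let W : Submodule F (Fin n → F) := LinearMap.ker (LinearMap.proj i0 : (Fin n → F) →ₗ[F] F)
  have hWr : Module.finrank F W = n - 1 := finrank_ker_proj n i0
  have hVr : Module.finrank F (Fin n → F) = n := Module.finrank_fin_fun F
  let e0 : Fin n → F := Pi.single i0 1
  have he0 : e0 ≠ 0 := by
    intro h
    have := congrFun h i0
    simp [e0] at this
  let a : Projectivization F (Fin n → F) := Projectivization.mk F e0 he0
  have haW : a ∉ pts W := by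
    rw [mk_mem_pts]
    simp [W, e0]
  -- cardinalities of point sets
  have cardU : ∀ U : Submodule F (Fin n → F),
      (Finset.univ.filter (fun x => x ∈ pts U)).card * r + 1 = (r + 1) ^ Module.finrank F U := by
    intro U
    have h := card_pts U
    rw [Module.natCard_eq_pow_finrank (K := F) (V := U), hr] at h
    have e : Nat.card (pts U) = (Finset.univ.filter (fun x => x ∈ pts U)).card := by
      rw [Nat.card_eq_fintype_card]
      exact Fintype.card_of_subtype _ (by simp)
    rw [e] at h
    simpa using h.symm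
  set Hf : Finset (Projectivization F (Fin n → F)) := Finset.univ.filter (fun x => x ∈ pts W) with hHf
  set As : Finset (Equiv.Perm (Projectivization F (Fin n → F))) :=
    Finset.univ.filter (fun s => s ∈ S ∧ s a = a) with hAs
  have hh1 : Hf.card * r + 1 = (r + 1) ^ (n - 1) := by rw [← hWr]; exact cardU W
  have hN : (Finset.univ : Finset (Projectivization F (Fin n → F))).card * r + 1 = (r + 1) ^ n := by
    have h := cardU ⊤
    rw [finrank_top, hVr] at h
    have hu : (Finset.univ.filter (fun x => x ∈ pts (⊤ : Submodule F (Fin n → F)))) = Finset.univ :=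
      Finset.filter_true_of_mem (by intro x _; simp [pts])
    rw [hu] at h
    exact h
  -- key bijection
  have key : ∀ b : Projectivization F (Fin n → F), b ≠ a →
      ∀ T : Finset (Projectivization F (Fin n → F)), a ∉ T →
      (As.filter (fun s => s b ∈ T)).card = T.card := by
    intro b hb T hT
    apply Finset.card_bij (fun s _ => s b)
    · intro s hs
      exact (Finset.mem_filter.mp hs).2
    · intro s hs s' hs' hss'
      have hs1 := Finset.mem_filter.mp hs
      have hs2 := Finset.mem_filter.mp hs1.1
      have hs1' := Finset.mem_filter.mp hs'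
      have hs2' := Finset.mem_filter.mp hs1'.1
      have hd : a ≠ s' b := by
        intro h
        apply hT
        rw [h]
        exact hs1'.2
      exact (h2 a b a (s' b) (Ne.symm hb) hd).unique ⟨hs2.2.1, hs2.2.2, hss'⟩
        ⟨hs2'.2.1, hs2'.2.2, rfl⟩
    · intro d hd
      have hda : a ≠ d := by
        intro h
        apply hT
        rw [h]
        exact hd
      obtain ⟨s, ⟨hsS, hsa, hsb⟩, -⟩ := h2 a b a d (Ne.symm hb) hda
      refine ⟨s, ?_, hsb⟩
      rw [Finset.mem_filter, hAs, Finset.mem_filter]
      exact ⟨⟨Finset.mem_univ _, hsS, hsa⟩, hsb ▸ hd⟩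
  -- a point b0 in H
  have hHne : Hf.Nonempty := by
    rw [← Finset.card_pos]
    by_contra h
    have h0 : Hf.card = 0 := by omega
    rw [h0] at hh1
    have : 2 ^ 1 ≤ (r + 1) ^ (n - 1) := by
      calc 2 ^ 1 ≤ (r + 1) ^ 1 := Nat.pow_le_pow_left (by omega) 1
        _ ≤ (r + 1) ^ (n - 1) := Nat.pow_le_pow_right (by omega) (by omega)
    omega
  obtain ⟨b0, hb0⟩ := hHne
  have hb0W : b0 ∈ pts W := (Finset.mem_filter.mp hb0).2
  have hb0a : b0 ≠ a := fun h => haW (h ▸ hb0W)
  have hAcard : As.card + 1 = (Finset.univ : Finset (Projectivization F (Fin n → F))).card := by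
    have h := key b0 hb0a (Finset.univ.erase a) (Finset.notMem_erase a _)
    have hf : As.filter (fun s => s b0 ∈ Finset.univ.erase a) = As := by
      apply Finset.filter_true_of_mem
      intro s hs
      have hs2 := Finset.mem_filter.mp hs
      rw [Finset.mem_erase]
      refine ⟨?_, Finset.mem_univ _⟩
      intro h
      apply hb0a
      apply s.injective
      rw [h, hs2.2.2]
    rw [hf, Finset.card_erase_of_mem (Finset.mem_univ a)] at h
    have : 0 < (Finset.univ : Finset (Projectivization F (Fin n → F))).card :=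
      Finset.card_pos.mpr ⟨a, Finset.mem_univ a⟩
    omega
  -- double counting
  have hdc := Finset.sum_card_bipartiteAbove_eq_sum_card_bipartiteBelow (s := As) (t := Hf)
    (fun s b => s b ∈ pts W)
  have hR : ∑ b ∈ Hf, (Finset.bipartiteBelow (fun s b => s b ∈ pts W) As b).card
      = Hf.card * Hf.card := by
    rw [Finset.sum_const_nat (m := Hf.card)]
    intro b hb
    have hbW : b ∈ pts W := (Finset.mem_filter.mp hb).2
    have hba : b ≠ a := fun h => haW (h ▸ hbW)
    have hHa : a ∉ Hf := fun h => haW (Finset.mem_filter.mp h).2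
    have h := key b hba Hf hHa
    rw [← h]
    congr 1
    ext s
    simp [Finset.bipartiteBelow, hHf]
  have hL : ∀ s ∈ As, (r + 1) ∣ (Finset.bipartiteAbove (fun s b => s b ∈ pts W) Hf s).card * r + 1 := by
    intro s hs
    have hs2 := Finset.mem_filter.mp hs
    obtain ⟨σ, f, hf, hsf⟩ := hS s hs2.2.1
    have hW'r : Module.finrank F (W.comap f) = n - 1 := by
      have h := card_comap_of_injective f hf W
      rw [Module.natCard_eq_pow_finrank (K := F) (V := W),
        Module.natCard_eq_pow_finrank (K := F) (V := W.comap f)] at h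
      rw [← hWr]
      exact Nat.pow_right_injective hq h
    have hset : Finset.bipartiteAbove (fun s b => s b ∈ pts W) Hf s
        = Finset.univ.filter (fun x => x ∈ pts (W ⊓ W.comap f)) := by
      ext x
      simp only [Finset.bipartiteAbove, hHf, Finset.mem_filter, Finset.mem_univ, true_and, pts_inf,
        Set.mem_inter_iff]
      rw [hsf x, map_mem_pts_iff]
    rw [hset, cardU]
    rcases finrank_inf_hyperplanes n hVr W (W.comap f) hWr hW'r with h | h
    · rw [h]
      exact dvd_pow_self _ (by omega)
    · rw [h]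
      exact dvd_pow_self _ (by omega)
  have hsumdvd : (r + 1) ∣ ∑ s ∈ As,
      ((Finset.bipartiteAbove (fun s b => s b ∈ pts W) Hf s).card * r + 1) :=
    Finset.dvd_sum hL
  rw [Finset.sum_add_distrib, ← Finset.sum_mul, hdc, hR] at hsumdvd
  simp only [Finset.sum_const, smul_eq_mul, mul_one] at hsumdvd
  obtain ⟨k, hk⟩ := hsumdvd
  -- arithmetic
  have hp1 : ((r : ℤ) + 1) ^ (n - 1) = ((r : ℤ) + 1) ^ (n - 3) * ((r : ℤ) + 1) ^ 2 := by
    rw [← pow_add]; congr 1; omega
  have hp3 : ((r : ℤ) + 1) ^ n = ((r : ℤ) + 1) ^ (n - 3) * ((r : ℤ) + 1) ^ 3 := by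
    rw [← pow_add]; congr 1; omega
  apply arith_aux (r : ℤ) (Hf.card : ℤ) (As.card : ℤ) (k : ℤ) (((r : ℤ) + 1) ^ (n - 3))
    (by exact_mod_cast hr1)
  · rw [← hp1]; exact_mod_cast hh1
  · rw [← hp3]
    have := hN
    rw [← hAcard] at this
    exact_mod_cast this
  · have : r * Hf.card ^ 2 + As.card = (r + 1) * k := by
      rw [← hk]; ring
    exact_mod_cast this
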