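import Cfsg.Statements.S2532

set_option autoImplicit false
open Cfsg

namespace Cfsg.Agent.S2532

open MulAction

theorem exists_points {H Ω : Type*} [Group H] [Finite H] [Finite Ω] [MulAction H Ω] (r : ℕ)
    (hcard : Nat.card H * (2 ^ Nat.card H * r) < Nat.card Ω) :
    ∃ (S : Subgroup H) (x : Fin r → Ω), (∀ i, stabilizer H (x i) = S) ∧
      ∀ i j, (∃ h : H, h • x i = x j) → i = j := by
  classical
  have := Fintype.ofFinite H
  have := Fintype.ofFinite Ω
  let Q := orbitRel.Quotient H Ω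
  have : Fintype Q := Fintype.ofFinite Q
  have : Fintype (Subgroup H) := Fintype.ofFinite _
  -- card Ω ≤ card Q * card H
  have h1 : Nat.card Ω ≤ Nat.card Q * Nat.card H := by
    rw [Nat.card_congr (selfEquivSigmaOrbitsQuotientStabilizer H Ω), Nat.card_sigma]
    calc ∑ a : Q, Nat.card (H ⧸ stabilizer H (Quotient.out a)) ≤ ∑ _a : Q, Nat.card H := by
          apply Finset.sum_le_sum
          intro a _
          exact Nat.le_of_dvd Nat.card_pos (Subgroup.card_quotient_dvd_card _)
      _ = Nat.card Q * Nat.card H := by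
          rw [Finset.sum_const, Finset.card_univ, smul_eq_mul, Nat.card_eq_fintype_card (α := Q)]
  have h2 : Fintype.card (Subgroup H) ≤ 2 ^ Nat.card H := by
    rw [Nat.card_eq_fintype_card, ← Fintype.card_set]
    exact Fintype.card_le_of_injective (fun S : Subgroup H => (S : Set H)) SetLike.coe_injective
  have hHpos : 0 < Nat.card H := Nat.card_pos
  have h3 : Fintype.card (Subgroup H) * r < Fintype.card Q := by
    rw [← Nat.card_eq_fintype_card (α := Q)]
    have : Nat.card H * (2 ^ Nat.card H * r) < Nat.card H * Nat.card Q := by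
      calc Nat.card H * (2 ^ Nat.card H * r) < Nat.card Ω := hcard
        _ ≤ Nat.card Q * Nat.card H := h1
        _ = Nat.card H * Nat.card Q := mul_comm _ _
    have h4 := Nat.lt_of_mul_lt_mul_left this
    calc Fintype.card (Subgroup H) * r ≤ 2 ^ Nat.card H * r := Nat.mul_le_mul_right _ h2
      _ < Nat.card Q := h4
  obtain ⟨S, hS⟩ := Fintype.exists_lt_card_fiber_of_mul_lt_card (fun q : Q => stabilizer H (Quotient.out q)) h3
  obtain ⟨t, ht, htc⟩ := Finset.exists_subset_card_eq hS.le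
  let e := t.equivFinOfCardEq htc
  refine ⟨S, fun i => Quotient.out (e.symm i : Q), ?_, ?_⟩
  · intro i
    have := ht (e.symm i).2
    simpa using this
  · rintro i j ⟨h, hh⟩
    have h5 : ((e.symm i : Q)) = (e.symm j : Q) := by
      rw [← Quotient.out_eq (e.symm i : Q), ← Quotient.out_eq (e.symm j : Q)]
      apply Quotient.sound
      show orbitRel H Ω _ _
      rw [orbitRel_apply]
      refine ⟨h⁻¹, ?_⟩
      simp only at hh
      show h⁻¹ • _ = _
      rw [← hh, inv_smul_smul]
    exact e.symm.injective (Subtype.ext h5)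


/-- the hom `Perm (Fin r) → Perm (T × Fin r)` -/
def prodHom (T : Type*) (r : ℕ) : Equiv.Perm (Fin r) →* Equiv.Perm (T × Fin r) where
  toFun σ := Equiv.prodCongrRight (fun _ => σ)
  map_one' := by ext p <;> simp
  map_mul' σ τ := by ext p <;> simp

theorem prodHom_apply (T : Type*) (r : ℕ) (σ : Equiv.Perm (Fin r)) (p : T × Fin r) :
    prodHom T r σ p = (p.1, σ p.2) := rfl

theorem exists_perm_hom {H Ω : Type*} [Group H] [Finite H] [Fintype Ω] [DecidableEq Ω] [MulAction H Ω] (r : ℕ)
    (hcard : Nat.card H * (2 ^ Nat.card H * r) < Nat.card Ω) :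
    ∃ ψ : Equiv.Perm (Fin r) →* Equiv.Perm Ω, Function.Injective ψ ∧
      (∀ σ (h : H) ω, ψ σ (h • ω) = h • ψ σ ω) ∧
      ∃ k : ℕ, ∀ σ, Equiv.Perm.sign (ψ σ) = Equiv.Perm.sign σ ^ k := by
  classical
  obtain ⟨S, x, hstab, hdist⟩ := exists_points (H := H) (Ω := Ω) r hcard
  have := Fintype.ofFinite H
  let ι : (H ⧸ S) × Fin r → Ω := fun p => Quotient.liftOn' p.1 (fun h => h • x p.2) (by
    intro a b hab
    rw [QuotientGroup.leftRel_apply] at hab
    have h1 : a⁻¹ * b ∈ stabilizer H (x p.2) := by rw [hstab]; exact hab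
    rw [mem_stabilizer_iff, mul_smul] at h1
    exact (inv_smul_eq_iff.mp h1).symm)
  have hι : ∀ (h : H) (i : Fin r), ι (QuotientGroup.mk h, i) = h • x i := fun h i => rfl
  have hinj : Function.Injective ι := by
    rintro ⟨q, i⟩ ⟨q', j⟩ heq
    induction q using QuotientGroup.induction_on with | H h =>
    induction q' using QuotientGroup.induction_on with | H h' =>
    rw [hι, hι] at heq
    have h1 : (h'⁻¹ * h) • x i = x j := by
      rw [mul_smul, heq, inv_smul_smul]
    have hij : i = j := hdist i j ⟨_, h1⟩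
    subst hij
    have h2 : h'⁻¹ * h ∈ S := by
      rw [← hstab i, mem_stabilizer_iff]; exact h1
    have h3 : (QuotientGroup.mk h' : H ⧸ S) = QuotientGroup.mk h := QuotientGroup.eq.mpr h2
    rw [h3]
  let f : (H ⧸ S) × Fin r ≃ {ω // ω ∈ Set.range ι} := Equiv.ofInjective ι hinj
  have hf : ∀ p, (f p : Ω) = ι p := fun p => rfl
  let ψ : Equiv.Perm (Fin r) →* Equiv.Perm Ω := (Equiv.Perm.extendDomainHom f).comp (prodHom (H ⧸ S) r)
  have hψ_image : ∀ σ p, ψ σ (ι p) = ι (p.1, σ p.2) := by
    intro σ p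
    have := Equiv.Perm.extendDomain_apply_image (prodHom (H ⧸ S) r σ) f p
    rw [hf, hf, prodHom_apply] at this
    exact this
  have hψ_not : ∀ σ ω, ω ∉ Set.range ι → ψ σ ω = ω := by
    intro σ ω hω
    exact Equiv.Perm.extendDomain_apply_not_subtype (prodHom (H ⧸ S) r σ) f hω
  have hsmul_ι : ∀ (h : H) p, h • ι p = ι (h • p.1, p.2) := by
    rintro h ⟨q, i⟩
    induction q using QuotientGroup.induction_on with | H g =>
    show h • ι (QuotientGroup.mk g, i) = ι (QuotientGroup.mk (h * g), i)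
    rw [hι, hι, mul_smul]
  refine ⟨ψ, ?_, ?_, Fintype.card (H ⧸ S), ?_⟩
  · apply (Equiv.Perm.extendDomainHom_injective f).comp
    intro σ τ hστ
    ext i
    have := congrArg (fun e : Equiv.Perm ((H ⧸ S) × Fin r) => (e ((QuotientGroup.mk 1 : H ⧸ S), i)).2) hστ
    simp only [prodHom_apply] at this
    rw [this]
  · intro σ h ω
    by_cases hω : ω ∈ Set.range ι
    · obtain ⟨p, rfl⟩ := hω
      rw [hsmul_ι, hψ_image, hψ_image, hsmul_ι]
    · have hω' : h • ω ∉ Set.range ι := by
        rintro ⟨p, hp⟩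
        apply hω
        refine ⟨(h⁻¹ • p.1, p.2), ?_⟩
        rw [← hsmul_ι, hp, inv_smul_smul]
      rw [hψ_not σ _ hω, hψ_not σ _ hω']
  · intro σ
    show Equiv.Perm.sign (Equiv.Perm.extendDomain (prodHom (H ⧸ S) r σ) f) = _
    rw [Equiv.Perm.sign_extendDomain]
    show Equiv.Perm.sign (Equiv.prodCongrRight (fun _ => σ)) = _
    rw [Equiv.Perm.sign_prodCongrRight, Finset.prod_const, Finset.card_univ]


/-- There is a function `f` of two natural-number arguments such that, whenever `m ≥ f(n, r)`, every subgroup of order `n` of the alternating group of degree `m` centralizes some subgroup of that alternating group isomorphic to the alternating group of degree `r`. -/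
theorem result :
    ∃ f : ℕ → ℕ → ℕ, ∀ (m r : ℕ) (H : Subgroup ↥(alternatingGroup (Fin m))), f (Nat.card H) r ≤ m →
      ∃ K : Subgroup ↥(alternatingGroup (Fin m)), Nonempty (↥K ≃* ↥(alternatingGroup (Fin r))) ∧
        K ≤ Subgroup.centralizer (H : Set ↥(alternatingGroup (Fin m))) := by
  refine ⟨fun n r => n * (2 ^ n * r) + 1, ?_⟩
  intro m r H hm
  have hcard : Nat.card H * (2 ^ Nat.card H * r) < Nat.card (Fin m) := by
    rw [Nat.card_eq_fintype_card (α := Fin m), Fintype.card_fin]
    exact hm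
  obtain ⟨ψ, hinj, hcomm, k, hsign⟩ := exists_perm_hom (H := H) (Ω := Fin m) r hcard
  let Ψ : ↥(alternatingGroup (Fin r)) →* ↥(alternatingGroup (Fin m)) :=
    (ψ.comp (alternatingGroup (Fin r)).subtype).codRestrict (alternatingGroup (Fin m)) (by
      intro σ
      rw [Equiv.Perm.mem_alternatingGroup]
      show Equiv.Perm.sign (ψ (σ : Equiv.Perm (Fin r))) = 1
      rw [hsign, Equiv.Perm.mem_alternatingGroup.mp σ.2, one_pow])
  have hΨ : ∀ σ : ↥(alternatingGroup (Fin r)), ((Ψ σ : ↥(alternatingGroup (Fin m))) : Equiv.Perm (Fin m)) = ψ (σ : Equiv.Perm (Fin r)) :=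
    fun σ => rfl
  have hΨinj : Function.Injective Ψ := by
    intro σ τ h
    apply Subtype.ext
    apply hinj
    rw [← hΨ, ← hΨ, h]
  refine ⟨Ψ.range, ⟨(MonoidHom.ofInjective hΨinj).symm⟩, ?_⟩
  rintro _ ⟨σ, rfl⟩
  rw [Subgroup.mem_centralizer_iff]
  intro h hh
  apply Subtype.ext
  apply Equiv.ext
  intro ω
  show (h : Equiv.Perm (Fin m)) (((Ψ σ : ↥(alternatingGroup (Fin m))) : Equiv.Perm (Fin m)) ω) = ((Ψ σ : ↥(alternatingGroup (Fin m))) : Equiv.Perm (Fin m)) ((h : Equiv.Perm (Fin m)) ω)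
  have := hcomm (σ : Equiv.Perm (Fin r)) ⟨h, hh⟩ ω
  rw [hΨ]
  exact this.symm

end Cfsg.Agent.S2532
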