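import Mathlib
import Cfsg.Statements.S2533

set_option autoImplicit false
open Cfsg

namespace Cfsg.Agent.S2533

open Matrix

/-- reindexing the special linear group -/
def slReindex {ι κ : Type*} [Fintype ι] [DecidableEq ι] [Fintype κ] [DecidableEq κ] {R : Type*} [CommRing R]
    (e : ι ≃ κ) : Matrix.SpecialLinearGroup ι R ≃* Matrix.SpecialLinearGroup κ R where
  toFun A := ⟨Matrix.reindex e e A.1, by rw [Matrix.det_reindex_self]; exact A.2⟩
  invFun A := ⟨Matrix.reindex e.symm e.symm A.1, by rw [Matrix.det_reindex_self]; exact A.2⟩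
  left_inv A := by
    apply Subtype.ext
    simp
  right_inv A := by
    apply Subtype.ext
    simp
  map_mul' A B := by
    apply Subtype.ext
    change (A.1 * B.1).submatrix e.symm e.symm = (A.1.submatrix e.symm e.symm) * (B.1.submatrix e.symm e.symm)
    rw [Matrix.submatrix_mul_equiv]

/-- inversion action of the units of `ℤ` on a commutative group -/
def invAct (N : Type*) [CommGroup N] : ℤˣ →* MulAut N where
  toFun u :=
    { toFun := fun v => v ^ (u : ℤ)
      invFun := fun v => v ^ (u : ℤ)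
      left_inv := by
        intro v
        change (v ^ (u : ℤ)) ^ (u : ℤ) = v
        rw [← _root_.zpow_mul, ← Units.val_mul, Int.units_mul_self, Units.val_one, zpow_one]
      right_inv := by
        intro v
        change (v ^ (u : ℤ)) ^ (u : ℤ) = v
        rw [← _root_.zpow_mul, ← Units.val_mul, Int.units_mul_self, Units.val_one, zpow_one]
      map_mul' := by
        intro v w
        exact mul_zpow v w _ }
  map_one' := by
    ext v
    simp
  map_mul' := by
    intro u₁ u₂
    ext v
    simp only [MulAut.mul_apply, MulEquiv.coe_mk, Equiv.coe_fn_mk, Units.val_mul]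
    rw [mul_comm, _root_.zpow_mul]

theorem invAct_apply (N : Type*) [CommGroup N] (u : ℤˣ) (v : N) : invAct N u v = v ^ (u : ℤ) := rfl

section
variable {R : Type*} [CommRing R] {s : ℕ}

/-- the first Kronecker matrix -/
def A1 (R : Type*) [CommRing R] (s : ℕ) : Matrix (Fin (s + 1)) (Fin s) R :=
  fun i j => if i = Fin.castSucc j then 1 else 0

/-- the second Kronecker matrix -/
def A2 (R : Type*) [CommRing R] (s : ℕ) : Matrix (Fin (s + 1)) (Fin s) R :=
  fun i j => if i = Fin.succ j then 1 else 0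

theorem mul_A1 (X : Matrix (Fin (s + 1)) (Fin (s + 1)) R) (i : Fin (s + 1)) (j : Fin s) :
    (X * A1 R s) i j = X i (Fin.castSucc j) := by
  rw [Matrix.mul_apply]
  simp [A1]

theorem mul_A2 (X : Matrix (Fin (s + 1)) (Fin (s + 1)) R) (i : Fin (s + 1)) (j : Fin s) :
    (X * A2 R s) i j = X i (Fin.succ j) := by
  rw [Matrix.mul_apply]
  simp [A2]

theorem A1_mul_castSucc (Y : Matrix (Fin s) (Fin s) R) (k j : Fin s) :
    (A1 R s * Y) (Fin.castSucc k) j = Y k j := by
  rw [Matrix.mul_apply]
  simp [A1]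

theorem A1_mul_last (Y : Matrix (Fin s) (Fin s) R) (j : Fin s) :
    (A1 R s * Y) (Fin.last s) j = 0 := by
  rw [Matrix.mul_apply]
  apply Finset.sum_eq_zero
  intro k _
  have : Fin.last s ≠ Fin.castSucc k := (Fin.castSucc_lt_last k).ne'
  simp [A1, this]

theorem A2_mul_succ (Y : Matrix (Fin s) (Fin s) R) (k j : Fin s) :
    (A2 R s * Y) (Fin.succ k) j = Y k j := by
  rw [Matrix.mul_apply]
  simp [A2]

theorem A2_mul_zero (Y : Matrix (Fin s) (Fin s) R) (j : Fin s) :
    (A2 R s * Y) 0 j = 0 := by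
  rw [Matrix.mul_apply]
  apply Finset.sum_eq_zero
  intro k _
  have : (0 : Fin (s + 1)) ≠ Fin.succ k := (Fin.succ_ne_zero k).symm
  simp [A2, this]

theorem brick (X : Matrix (Fin (s + 1)) (Fin (s + 1)) R) (Y : Matrix (Fin s) (Fin s) R)
    (h1 : X * A1 R s = A1 R s * Y) (h2 : X * A2 R s = A2 R s * Y) :
    X = X 0 0 • (1 : Matrix (Fin (s + 1)) (Fin (s + 1)) R) ∧ Y = X 0 0 • (1 : Matrix (Fin s) (Fin s) R) := by
  have hE1 : ∀ k j : Fin s, X (Fin.castSucc k) (Fin.castSucc j) = Y k j := by
    intro k j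
    rw [← mul_A1 X, h1, A1_mul_castSucc]
  have hE2 : ∀ j : Fin s, X (Fin.last s) (Fin.castSucc j) = 0 := by
    intro j
    rw [← mul_A1 X, h1, A1_mul_last]
  have hE3 : ∀ k j : Fin s, X (Fin.succ k) (Fin.succ j) = Y k j := by
    intro k j
    rw [← mul_A2 X, h2, A2_mul_succ]
  have hE4 : ∀ j : Fin s, X 0 (Fin.succ j) = 0 := by
    intro j
    rw [← mul_A2 X, h2, A2_mul_zero]
  have hT : ∀ k j : Fin s, X (Fin.succ k) (Fin.succ j) = X (Fin.castSucc k) (Fin.castSucc j) := by
    intro k j
    rw [hE1, hE3]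
  -- lower part
  have hlow : ∀ a : Fin (s + 1), ∀ b : Fin (s + 1), b < a → X a b = 0 := by
    intro a
    induction a using Fin.reverseInduction with
    | last =>
      intro b hb
      have hbl : b ≠ Fin.last s := hb.ne
      obtain ⟨j, rfl⟩ := Fin.exists_castSucc_eq.mpr hbl
      exact hE2 j
    | cast k ih =>
      intro b hb
      have hbl : b ≠ Fin.last s := by
        intro h
        rw [h] at hb
        exact absurd hb (not_lt.mpr (Fin.le_last _))
      obtain ⟨j, rfl⟩ := Fin.exists_castSucc_eq.mpr hbl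
      rw [← hT]
      apply ih
      rw [Fin.castSucc_lt_castSucc_iff] at hb
      exact Fin.succ_lt_succ_iff.mpr hb
  have hall : ∀ a : Fin (s + 1), ∀ b : Fin (s + 1), X a b = if a = b then X 0 0 else 0 := by
    intro a
    induction a using Fin.induction with
    | zero =>
      intro b
      rcases Fin.eq_zero_or_eq_succ b with rfl | ⟨j, rfl⟩
      · simp
      · rw [hE4]
        simp [(Fin.succ_ne_zero j).symm]
    | succ k ih =>
      intro b
      rcases Fin.eq_zero_or_eq_succ b with rfl | ⟨j, rfl⟩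
      · rw [hlow _ _ (Fin.succ_pos k)]
        simp [Fin.succ_ne_zero k]
      · rw [hT, ih]
        simp [Fin.succ_inj]
  constructor
  · ext a b
    rw [hall a b, Matrix.smul_apply, Matrix.one_apply]
    split_ifs <;> simp
  · ext k j
    rw [← hE1, hall, Matrix.smul_apply, Matrix.one_apply]
    simp [Fin.castSucc_inj]

/-- a third matrix -/
def A3 (R : Type*) [CommRing R] (s : ℕ) : Matrix (Fin (s + 1)) (Fin s) R :=
  fun i j => if i = 0 ∧ j.val = 1 then 1 else 0

/-- the linear combination map -/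
def amap (R : Type*) [CommRing R] (s : ℕ) : (Fin 3 → R) →+ Matrix (Fin (s + 1)) (Fin s) R where
  toFun w := w 0 • A1 R s + w 1 • A2 R s + w 2 • A3 R s
  map_zero' := by simp
  map_add' := by
    intro v w
    simp only [Pi.add_apply, add_smul]
    abel

theorem amap_injective (hs : 2 ≤ s) (w : Fin 3 → R) (h : amap R s w = 0) : w = 0 := by
  have e00 := congrFun (congrFun h (Fin.castSucc ⟨0, by omega⟩)) ⟨0, by omega⟩
  have e10 := congrFun (congrFun h (Fin.succ ⟨0, by omega⟩)) ⟨0, by omega⟩
  have e01 := congrFun (congrFun h (Fin.castSucc ⟨0, by omega⟩)) ⟨1, by omega⟩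
  simp only [amap, AddMonoidHom.coe_mk, ZeroHom.coe_mk, Matrix.add_apply, Matrix.smul_apply, A1, A2, A3,
    Matrix.zero_apply, smul_eq_mul] at e00 e10 e01
  have h0 : w 0 = 0 := by
    simpa [Fin.ext_iff] using e00
  have h1 : w 1 = 0 := by
    simpa [Fin.ext_iff] using e10
  have h2 : w 2 = 0 := by
    simpa [Fin.ext_iff] using e01
  ext i
  fin_cases i
  · exact h0
  · exact h1
  · exact h2

/-- the index type -/
abbrev Idx (s : ℕ) := Fin (s + 1) ⊕ Fin s

/-- unipotent block element -/
def uEl (B : Matrix (Fin (s + 1)) (Fin s) R) : Matrix.SpecialLinearGroup (Idx s) R :=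
  ⟨Matrix.fromBlocks 1 B 0 1, by
    rw [Matrix.det_fromBlocks_zero₂₁, Matrix.det_one, Matrix.det_one, one_mul]⟩

theorem uEl_coe (B : Matrix (Fin (s + 1)) (Fin s) R) : (uEl B).1 = Matrix.fromBlocks 1 B 0 1 := rfl

theorem uEl_mul (B B' : Matrix (Fin (s + 1)) (Fin s) R) : uEl B * uEl B' = uEl (B + B') := by
  apply Subtype.ext
  rw [Matrix.SpecialLinearGroup.coe_mul, uEl_coe, uEl_coe, uEl_coe, Matrix.fromBlocks_multiply]
  simp [add_comm]

theorem uEl_zero : uEl (0 : Matrix (Fin (s + 1)) (Fin s) R) = 1 := by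
  apply Subtype.ext
  rw [uEl_coe]
  exact Matrix.fromBlocks_one

/-- the unipotent part -/
def f1 (R : Type*) [CommRing R] (s : ℕ) : Multiplicative (Fin 3 → R) →* Matrix.SpecialLinearGroup (Idx s) R where
  toFun v := uEl (amap R s (Multiplicative.toAdd v))
  map_one' := by
    rw [toAdd_one, map_zero, uEl_zero]
  map_mul' := by
    intro v w
    rw [toAdd_mul, map_add, uEl_mul]

theorem f1_apply (v : Multiplicative (Fin 3 → R)) : f1 R s v = uEl (amap R s (Multiplicative.toAdd v)) := rfl

/-- diagonal block element -/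
def dEl {t : ℕ} (c : R) (hc : c * c = 1) : Matrix.SpecialLinearGroup (Idx (2 * t)) R :=
  ⟨Matrix.fromBlocks 1 0 0 (c • 1), by
    rw [Matrix.det_fromBlocks_zero₂₁, Matrix.det_one, one_mul, Matrix.det_smul, Matrix.det_one, mul_one,
      Fintype.card_fin, pow_mul, pow_two, hc, one_pow]⟩

theorem dEl_coe {t : ℕ} (c : R) (hc : c * c = 1) :
    (dEl (t := t) c hc).1 = Matrix.fromBlocks 1 0 0 (c • 1) := rfl

theorem cast_sq (u : ℤˣ) : (((u : ℤ) : R)) * (((u : ℤ) : R)) = 1 := by
  rw [← Int.cast_mul, ← Units.val_mul, Int.units_mul_self, Units.val_one, Int.cast_one]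

/-- the involution part -/
def f2 (R : Type*) [CommRing R] (t : ℕ) : ℤˣ →* Matrix.SpecialLinearGroup (Idx (2 * t)) R where
  toFun u := dEl (((u : ℤ) : R)) (cast_sq u)
  map_one' := by
    apply Subtype.ext
    rw [dEl_coe]
    simp only [Units.val_one, Int.cast_one, one_smul]
    exact Matrix.fromBlocks_one
  map_mul' := by
    intro u v
    apply Subtype.ext
    rw [Matrix.SpecialLinearGroup.coe_mul, dEl_coe, dEl_coe, dEl_coe, Matrix.fromBlocks_multiply]
    have : (((u * v : ℤˣ) : ℤ) : R) = ((u : ℤ) : R) * ((v : ℤ) : R) := by rw [Units.val_mul, Int.cast_mul]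
    rw [this]
    congr 1
    · simp
    · simp
    · simp
    · rw [Matrix.zero_mul, zero_add, Matrix.smul_mul, Matrix.one_mul, smul_smul]

theorem f2_apply (t : ℕ) (u : ℤˣ) : f2 R t u = dEl (((u : ℤ) : R)) (cast_sq u) := rfl

theorem compat (t : ℕ) (u : ℤˣ) :
    (f1 R (2 * t)).comp (invAct (Multiplicative (Fin 3 → R)) u).toMonoidHom =
      (MulAut.conj (f2 R t u)).toMonoidHom.comp (f1 R (2 * t)) := by
  apply MonoidHom.ext
  intro v
  simp only [MonoidHom.comp_apply, MulEquiv.coe_toMonoidHom, MulAut.conj_apply, invAct_apply]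
  rw [eq_mul_inv_iff_mul_eq]
  apply Subtype.ext
  rw [Matrix.SpecialLinearGroup.coe_mul, Matrix.SpecialLinearGroup.coe_mul, f1_apply, f1_apply, f2_apply, uEl_coe,
    uEl_coe, dEl_coe, Matrix.fromBlocks_multiply, Matrix.fromBlocks_multiply]
  have h1 : amap R (2 * t) (Multiplicative.toAdd (v ^ (u : ℤ))) = ((u : ℤ) : R) • amap R (2 * t) (Multiplicative.toAdd v) := by
    rw [toAdd_zpow, map_zsmul, Int.cast_smul_eq_zsmul]
  rw [h1]
  congr 1
  · simp
  · simp only [Matrix.one_mul, Matrix.smul_mul, Matrix.mul_smul, Matrix.mul_one, Matrix.zero_mul, add_zero, zero_add,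
      Matrix.mul_zero]
    rw [smul_smul, cast_sq, one_smul]
  · simp
  · simp

/-- the group -/
abbrev Hgrp (R : Type*) [CommRing R] := Multiplicative (Fin 3 → R) ⋊[invAct (Multiplicative (Fin 3 → R))] ℤˣ

/-- the representation -/
def psi (R : Type*) [CommRing R] (t : ℕ) : Hgrp R →* Matrix.SpecialLinearGroup (Idx (2 * t)) R :=
  SemidirectProduct.lift (f1 R (2 * t)) (f2 R t) (compat t)

theorem psi_apply (t : ℕ) (h : Hgrp R) : psi R t h = f1 R (2 * t) h.left * f2 R t h.right := rfl

theorem psi_coe (t : ℕ) (h : Hgrp R) :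
    (psi R t h).1 = Matrix.fromBlocks 1 ((((h.right : ℤˣ) : ℤ) : R) • amap R (2 * t) (Multiplicative.toAdd h.left)) 0
      (((((h.right : ℤˣ) : ℤ) : R)) • 1) := by
  rw [psi_apply, Matrix.SpecialLinearGroup.coe_mul, f1_apply, f2_apply, uEl_coe, dEl_coe, Matrix.fromBlocks_multiply]
  congr 1
  · simp
  · simp
  · simp
  · simp

theorem psi_injective (h2 : (2 : R) ≠ 0) (t : ℕ) (ht : 1 ≤ t) : Function.Injective (psi R t) := by
  rw [injective_iff_map_eq_one]
  intro h hh
  have hc := congrArg Subtype.val hh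
  rw [psi_coe, Matrix.SpecialLinearGroup.coe_one, ← Matrix.fromBlocks_one, Matrix.fromBlocks_inj] at hc
  obtain ⟨-, hB, -, hD⟩ := hc
  have hc1 : (((h.right : ℤˣ) : ℤ) : R) = 1 := by
    have := congrFun (congrFun hD ⟨0, by omega⟩) ⟨0, by omega⟩
    simpa using this
  have hu : h.right = 1 := by
    rcases Int.units_eq_one_or h.right with h1 | h1
    · exact h1
    · exfalso
      rw [h1] at hc1
      apply h2
      have : (-1 : R) = 1 := by simpa using hc1
      linear_combination -this
  rw [hc1, one_smul] at hB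
  have hw := amap_injective (by omega) _ hB
  apply SemidirectProduct.ext
  · rw [SemidirectProduct.one_left]
    exact hw
  · rw [SemidirectProduct.one_right]
    exact hu

theorem central {K : Type*} [Field K] (h2 : (2 : K) ≠ 0) (t : ℕ) (g : Matrix.SpecialLinearGroup (Idx (2 * t)) K)
    (hg : ∀ h : Hgrp K, g * psi K t h = psi K t h * g) : ∃ x : K, g.1 = x • (1 : Matrix (Idx (2 * t)) (Idx (2 * t)) K) := by
  obtain ⟨X, P, Q, Y, hgb⟩ : ∃ X P Q Y, g.1 = Matrix.fromBlocks X P Q Y :=
    ⟨_, _, _, _, (Matrix.fromBlocks_toBlocks g.1).symm⟩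
  -- commuting with the involution
  have hd := congrArg Subtype.val (hg (SemidirectProduct.inr (-1)))
  rw [Matrix.SpecialLinearGroup.coe_mul, Matrix.SpecialLinearGroup.coe_mul, psi_coe, hgb] at hd
  simp only [SemidirectProduct.right_inr, SemidirectProduct.left_inr, toAdd_one, map_zero, smul_zero, Units.val_neg,
    Units.val_one, Int.cast_neg, Int.cast_one] at hd
  rw [Matrix.fromBlocks_multiply, Matrix.fromBlocks_multiply, Matrix.fromBlocks_inj] at hd
  obtain ⟨-, hP, hQ, -⟩ := hd
  have hP0 : P = 0 := by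
    ext i j
    have := congrFun (congrFun hP i) j
    simp only [Matrix.mul_zero, Matrix.mul_smul, Matrix.mul_one, zero_add, Matrix.one_mul, Matrix.zero_mul, add_zero,
      Matrix.neg_apply, Matrix.smul_apply, smul_eq_mul, neg_mul, one_mul, Matrix.add_apply, Matrix.zero_apply] at this
    have h3 : (2 : K) * P i j = 0 := by linear_combination -this
    rcases mul_eq_zero.mp h3 with h | h
    · exact absurd h h2
    · exact h
  have hQ0 : Q = 0 := by
    ext i j
    have := congrFun (congrFun hQ i) j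
    simp only [Matrix.mul_zero, Matrix.smul_mul, Matrix.mul_one, zero_add, Matrix.one_mul, Matrix.zero_mul, add_zero,
      Matrix.neg_apply, Matrix.smul_apply, smul_eq_mul, neg_mul, one_mul, Matrix.add_apply, Matrix.zero_apply] at this
    have h3 : (2 : K) * Q i j = 0 := by linear_combination this
    rcases mul_eq_zero.mp h3 with h | h
    · exact absurd h h2
    · exact h
  subst hP0 hQ0
  -- commuting with the unipotent elements
  have hcomm : ∀ w : Fin 3 → K, X * amap K (2 * t) w = amap K (2 * t) w * Y := by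
    intro w
    have hu := congrArg Subtype.val (hg (SemidirectProduct.inl (Multiplicative.ofAdd w)))
    rw [Matrix.SpecialLinearGroup.coe_mul, Matrix.SpecialLinearGroup.coe_mul, psi_coe, hgb] at hu
    simp only [SemidirectProduct.right_inl, SemidirectProduct.left_inl, toAdd_ofAdd, Units.val_one, Int.cast_one,
      one_smul] at hu
    rw [Matrix.fromBlocks_multiply, Matrix.fromBlocks_multiply, Matrix.fromBlocks_inj] at hu
    obtain ⟨-, hB, -, -⟩ := hu
    simpa using hB
  have hA1 : amap K (2 * t) (Pi.single 0 1) = A1 K (2 * t) := by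
    simp [amap]
  have hA2 : amap K (2 * t) (Pi.single 1 1) = A2 K (2 * t) := by
    simp [amap]
  have hb := brick X Y (by rw [← hA1]; exact hcomm _) (by rw [← hA2]; exact hcomm _)
  refine ⟨X 0 0, ?_⟩
  rw [hgb, hb.1, hb.2]
  simp only [Matrix.smul_apply, Matrix.one_apply_eq, smul_eq_mul, mul_one]
  rw [← Matrix.fromBlocks_one, Matrix.fromBlocks_smul, smul_zero, smul_zero]

end

theorem scalar_one (p : ℕ) [Fact p.Prime] (m : ℕ) (hm : 0 < m) (hcop : Nat.Coprime m (p - 1)) (x : ZMod p)
    (hx : x ^ m = 1) : x = 1 := by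
  have hx0 : x ≠ 0 := by
    rintro rfl
    rw [zero_pow hm.ne'] at hx
    exact zero_ne_one hx
  have h1 := ZMod.pow_card_sub_one_eq_one hx0
  have h2 : x ^ (Nat.gcd m (p - 1)) = 1 := pow_gcd_eq_one.mpr ⟨hx, h1⟩
  rw [hcop.gcd_eq_one, pow_one] at h2
  exact h2

theorem center_trivial (p : ℕ) [Fact p.Prime] (n : ℕ) (hn : 0 < n) (hcop : Nat.Coprime n (p - 1)) :
    Subgroup.center (Matrix.SpecialLinearGroup (Fin n) (ZMod p)) = ⊥ := by
  rw [eq_bot_iff]
  intro z hz
  rw [Matrix.SpecialLinearGroup.mem_center_iff] at hz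
  obtain ⟨r, hr, hrz⟩ := hz
  rw [Fintype.card_fin] at hr
  have hr1 := scalar_one p n hn hcop r hr
  rw [Subgroup.mem_bot]
  apply Subtype.ext
  rw [← hrz, hr1, map_one]
  rfl

/-- For every odd prime `p` there is a finite group `H` of order `2p³` which, for infinitely many `n`, embeds in the projective special linear group `PSL(n, p)` as a subgroup with trivial centralizer. -/
theorem result
    (p : ℕ) [Fact p.Prime] (hp : p ≠ 2) :
    ∃ (H : Type) (_ : Group H) (_ : Finite H), Nat.card H = 2 * p ^ 3 ∧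
      ∀ N : ℕ, ∃ n, N ≤ n ∧ ∃ φ : H →* Matrix.ProjectiveSpecialLinearGroup (Fin n) (ZMod p),
        Function.Injective φ ∧ Subgroup.centralizer (φ.range : Set (Matrix.ProjectiveSpecialLinearGroup (Fin n) (ZMod p))) = ⊥ := by
  have h2 : (2 : ZMod p) ≠ 0 := by
    intro h
    have h' : ((2 : ℕ) : ZMod p) = 0 := by exact_mod_cast h
    rw [ZMod.natCast_eq_zero_iff] at h'
    have := (Nat.prime_dvd_prime_iff_eq (Fact.out : p.Prime) Nat.prime_two).mp h'
    exact hp this
  have hp3 : 3 ≤ p := by
    have := (Fact.out : p.Prime).two_le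
    omega
  refine ⟨Hgrp (ZMod p), inferInstance, Finite.of_equiv _ SemidirectProduct.equivProd.symm, ?_, ?_⟩
  · rw [SemidirectProduct.card]
    have h1 : Nat.card (Multiplicative (Fin 3 → ZMod p)) = p ^ 3 := by
      rw [Nat.card_congr Multiplicative.toAdd, Nat.card_fun, Nat.card_zmod]
      simp
    have h3 : Nat.card ℤˣ = 2 := by simp
    rw [h1, h3, mul_comm]
  · intro N
    set t : ℕ := (p - 1) * (N + 1) with ht
    have ht1 : 1 ≤ t := by
      rw [ht]
      exact Nat.mul_pos (by omega) (by omega)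
    refine ⟨(2 * t + 1) + 2 * t, ?_, ?_⟩
    · have : N + 1 ≤ t := by
        rw [ht]
        exact Nat.le_mul_of_pos_left _ (by omega)
      omega
    have hcop : Nat.Coprime ((2 * t + 1) + 2 * t) (p - 1) := by
      have : (2 * t + 1) + 2 * t = 1 + (p - 1) * (4 * (N + 1)) := by rw [ht]; ring
      rw [this]
      simp
    have hZ := center_trivial p ((2 * t + 1) + 2 * t) (by omega) hcop
    let e : Idx (2 * t) ≃ Fin ((2 * t + 1) + 2 * t) := finSumFinEquiv
    have hmkinj : Function.Injective
        (QuotientGroup.mk' (Subgroup.center (Matrix.SpecialLinearGroup (Fin ((2 * t + 1) + 2 * t)) (ZMod p)))) := by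
      rw [← MonoidHom.ker_eq_bot_iff, QuotientGroup.ker_mk', hZ]
    refine ⟨(QuotientGroup.mk' _).comp ((slReindex e).toMonoidHom.comp (psi (ZMod p) t)), ?_, ?_⟩
    · intro a b hab
      simp only [MonoidHom.comp_apply] at hab
      have h1 := hmkinj hab
      have h3 := (slReindex e).injective h1
      exact psi_injective h2 t ht1 h3
    · rw [eq_bot_iff]
      intro y hy
      obtain ⟨y', rfl⟩ := QuotientGroup.mk'_surjective _ y
      rw [Subgroup.mem_centralizer_iff] at hy
      set g := (slReindex e).symm y' with hg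
      have hgy : slReindex e g = y' := by rw [hg, MulEquiv.apply_symm_apply]
      have hcomm : ∀ h : Hgrp (ZMod p), g * psi (ZMod p) t h = psi (ZMod p) t h * g := by
        intro h
        have := hy _ ⟨h, rfl⟩
        simp only [MonoidHom.comp_apply, MulEquiv.coe_toMonoidHom] at this
        rw [← map_mul, ← map_mul] at this
        have h1 := hmkinj this
        rw [← hgy, ← map_mul, ← map_mul] at h1
        exact ((slReindex e).injective h1).symm
      obtain ⟨x, hx⟩ := central h2 t g hcomm
      have hdet := g.2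
      rw [hx, Matrix.det_smul, Matrix.det_one, mul_one] at hdet
      have hcard : Fintype.card (Idx (2 * t)) = (2 * t + 1) + 2 * t := by
        simp
      rw [hcard] at hdet
      have hx1 := scalar_one p _ (by omega) hcop x hdet
      have hg1 : g = 1 := by
        apply Subtype.ext
        rw [hx, hx1, one_smul]
        rfl
      rw [Subgroup.mem_bot, ← hgy, hg1, map_one, map_one]

end Cfsg.Agent.S2533
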