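-- Statement S2534 (row 2534): the theorem Cfsg.kfact11_alternating_group_sylow_analogue_for_hall_subgroups_iff.
-- Proof: Ha/Hd hive (owner helper14): Lib/Helper14/HaMain.ha_main + the forward direction of S2536 (helper15).
import Cfsg.Statements.S2534
import Cfsg.Agent.S2536
import Cfsg.Agent.Lib.Helper14.HaMain

set_option autoImplicit false
open Cfsg

namespace Cfsg.Agent.S2534

/-- For `n ≥ 5` and a set of primes `π`, the alternating group of degree `n` satisfies the full Sylow analogue for `π` (its maximal `π`-subgroups are pairwise conjugate; for a finite group this says Hall `π`-subgroups exist, are all conjugate, and contain every `π`-subgroup up to conjugacy) if and only if either at most one prime of `π` divides its order or every prime dividing its order lies in `π`. -/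
theorem result (n : ℕ) (hn : 5 ≤ n) (π : Set ℕ) :
    Cfsg.IsDPiGroup π ↥(alternatingGroup (Fin n)) ↔
      ((∀ r s : ℕ, r.Prime → s.Prime → r ∈ π → s ∈ π → r ∣ Nat.card ↥(alternatingGroup (Fin n)) → s ∣ Nat.card ↥(alternatingGroup (Fin n)) → r = s) ∨
        ∀ r : ℕ, r.Prime → r ∣ Nat.card ↥(alternatingGroup (Fin n)) → r ∈ π) :=
  Cfsg.Agent.Lib.Helper14.Ha.ha_main
    (fun n π h2 hns => (Cfsg.Agent.S2536.result n π h2 hns).mp) n hn π

end Cfsg.Agent.S2534
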