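import Cfsg.Statements.S2540
import Cfsg.Agent.Lib.Helper5.PSLSimple

set_option autoImplicit false
open Cfsg

namespace Cfsg.Agent.S2540

open Matrix
open scoped commutatorElement

theorem general {S L : Type*} [Group S] [Group L] (hperf : commutator S = ⊤)
    (hsimple : IsSimpleGroup (S ⧸ Subgroup.center S)) (φ : S →* L) (hnorm : φ.range.Normal)
    (G : Subgroup L) (hG : ∀ s : S, ∀ g ∈ G, φ s * g * (φ s)⁻¹ ∈ G) :
    G ≤ Subgroup.centralizer (φ.range : Set L) ∨ φ.range ≤ G := by
  set N : Subgroup S := G.comap φ with hN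
  have hNnormal : N.Normal := by
    constructor
    intro x hx s
    rw [hN, Subgroup.mem_comap] at hx ⊢
    rw [map_mul, map_mul, map_inv]
    exact hG s _ hx
  by_cases hcase : N ≤ Subgroup.center S
  · left
    -- three subgroups
    have hcomm : ⁅G, φ.range⁆ ≤ G ⊓ φ.range := by
      rw [Subgroup.commutator_le]
      rintro g hg _ ⟨s, rfl⟩
      rw [Subgroup.mem_inf]
      constructor
      · rw [commutatorElement_def]
        have h1 : φ s * g⁻¹ * (φ s)⁻¹ ∈ G := hG s _ (G.inv_mem hg)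
        have : g * φ s * g⁻¹ * (φ s)⁻¹ = g * (φ s * g⁻¹ * (φ s)⁻¹) := by group
        rw [this]
        exact G.mul_mem hg h1
      · rw [commutatorElement_def]
        have h1 : g * φ s * g⁻¹ ∈ φ.range := hnorm.conj_mem _ ⟨s, rfl⟩ g
        exact φ.range.mul_mem h1 (φ.range.inv_mem ⟨s, rfl⟩)
    have hcent : G ⊓ φ.range ≤ Subgroup.centralizer (φ.range : Set L) := by
      rintro m ⟨hm1, ⟨x, rfl⟩⟩
      have hx : x ∈ N := hm1
      have hxc := hcase hx
      rw [Subgroup.mem_centralizer_iff]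
      rintro _ ⟨s, rfl⟩
      rw [← map_mul, ← map_mul, Subgroup.mem_center_iff.mp hxc s]
    have h1 : ⁅⁅G, φ.range⁆, φ.range⁆ = ⊥ := by
      rw [Subgroup.commutator_eq_bot_iff_le_centralizer]
      exact hcomm.trans hcent
    have h2 : ⁅⁅φ.range, G⁆, φ.range⁆ = ⊥ := by
      rw [Subgroup.commutator_comm φ.range G]
      exact h1
    have h3 : ⁅⁅φ.range, φ.range⁆, G⁆ = ⊥ := Subgroup.commutator_commutator_eq_bot_of_rotate h2 h1
    have h4 : ⁅φ.range, φ.range⁆ = φ.range := by
      rw [MonoidHom.range_eq_map, ← Subgroup.map_commutator, ← commutator_def, hperf]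
    rw [h4, Subgroup.commutator_comm, Subgroup.commutator_eq_bot_iff_le_centralizer] at h3
    exact h3
  · right
    have hmapnormal : (N.map (QuotientGroup.mk' (Subgroup.center S))).Normal :=
      hNnormal.map _ (QuotientGroup.mk'_surjective _)
    rcases hmapnormal.eq_bot_or_eq_top with h | h
    · exfalso
      apply hcase
      intro x hx
      have : QuotientGroup.mk' (Subgroup.center S) x ∈ N.map (QuotientGroup.mk' (Subgroup.center S)) :=
        Subgroup.mem_map_of_mem _ hx
      rw [h, Subgroup.mem_bot] at this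
      exact (QuotientGroup.eq_one_iff x).mp this
    · -- N ⊔ Z = ⊤
      have hdecomp : ∀ a : S, ∃ n ∈ N, ∃ z ∈ Subgroup.center S, a = n * z := by
        intro a
        have : QuotientGroup.mk' (Subgroup.center S) a ∈ N.map (QuotientGroup.mk' (Subgroup.center S)) := by
          rw [h]; exact Subgroup.mem_top _
        obtain ⟨n, hn, hna⟩ := this
        refine ⟨n, hn, n⁻¹ * a, ?_, by group⟩
        exact QuotientGroup.eq.mp hna
      have hNtop : N = ⊤ := by
        rw [eq_top_iff, ← hperf, commutator_def, Subgroup.commutator_le]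
        intro a _ b _
        obtain ⟨n₁, hn₁, z₁, hz₁, rfl⟩ := hdecomp a
        obtain ⟨n₂, hn₂, z₂, hz₂, rfl⟩ := hdecomp b
        have : ⁅n₁ * z₁, n₂ * z₂⁆ = ⁅n₁, n₂⁆ := by
          rw [Subgroup.mem_center_iff] at hz₁ hz₂
          rw [commutatorElement_def, commutatorElement_def]
          have e1 : (n₁ * z₁)⁻¹ = z₁⁻¹ * n₁⁻¹ := mul_inv_rev _ _
          have e2 : (n₂ * z₂)⁻¹ = z₂⁻¹ * n₂⁻¹ := mul_inv_rev _ _
          rw [e1, e2]
          calc n₁ * z₁ * (n₂ * z₂) * (z₁⁻¹ * n₁⁻¹) * (z₂⁻¹ * n₂⁻¹)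
              = n₁ * (z₁ * n₂) * (z₂ * z₁⁻¹) * n₁⁻¹ * z₂⁻¹ * n₂⁻¹ := by group
            _ = n₁ * (n₂ * z₁) * (z₁⁻¹ * z₂) * n₁⁻¹ * z₂⁻¹ * n₂⁻¹ := by rw [hz₁ n₂, hz₂ z₁⁻¹]
            _ = n₁ * n₂ * (z₂ * n₁⁻¹) * z₂⁻¹ * n₂⁻¹ := by group
            _ = n₁ * n₂ * (n₁⁻¹ * z₂) * z₂⁻¹ * n₂⁻¹ := by rw [hz₂ n₁⁻¹]
            _ = n₁ * n₂ * n₁⁻¹ * n₂⁻¹ := by group
        rw [this]
        exact Subgroup.commutator_mem_commutator hn₁ hn₂ |> fun h => by
          have hle : ⁅N, N⁆ ≤ N := Subgroup.commutator_le_left N N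
          exact hle h
      rintro _ ⟨s, rfl⟩
      have : s ∈ N := by rw [hNtop]; exact Subgroup.mem_top _
      exact this

theorem range_normal {n : Type*} [Fintype n] [DecidableEq n] {R : Type*} [CommRing R] :
    (Matrix.SpecialLinearGroup.toGL : Matrix.SpecialLinearGroup n R →* Matrix.GeneralLinearGroup n R).range.Normal := by
  constructor
  rintro _ ⟨s, rfl⟩ g
  refine ⟨⟨(g * Matrix.SpecialLinearGroup.toGL s * g⁻¹ : Matrix.GeneralLinearGroup n R).1, ?_⟩, ?_⟩
  · have : (g * Matrix.SpecialLinearGroup.toGL s * g⁻¹ : Matrix.GeneralLinearGroup n R).1 =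
        g.1 * s.1 * (g⁻¹ : Matrix.GeneralLinearGroup n R).1 := rfl
    rw [this, Matrix.det_mul, Matrix.det_mul, s.2, mul_one, ← Matrix.det_mul]
    have : g.1 * (g⁻¹ : Matrix.GeneralLinearGroup n R).1 = 1 := by
      rw [← Units.val_mul, mul_inv_cancel]; rfl
    rw [this, Matrix.det_one]
  · apply Units.ext
    rfl

theorem scalar_of_centralizer {n : Type*} [Fintype n] [DecidableEq n] {F : Type*} [Field F]
    (g : Matrix.GeneralLinearGroup n F)
    (hg : g ∈ Subgroup.centralizer ((Matrix.SpecialLinearGroup.toGL : Matrix.SpecialLinearGroup n F →* Matrix.GeneralLinearGroup n F).range : Set (Matrix.GeneralLinearGroup n F))) :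
    ∃ c : F, (g : Matrix n n F) = c • (1 : Matrix n n F) := by
  have h : (g : Matrix n n F) ∈ Set.range (Matrix.scalar n) := by
    apply Matrix.mem_range_scalar_of_commute_transvectionStruct
    intro t
    rw [Subgroup.mem_centralizer_iff] at hg
    have := hg (Matrix.SpecialLinearGroup.toGL t.toSpecialLinearGroup) ⟨_, rfl⟩
    have h2 := congrArg Units.val this
    exact h2
  obtain ⟨c, hc⟩ := h
  refine ⟨c, ?_⟩
  rw [← hc, Matrix.scalar_apply, Matrix.smul_one_eq_diagonal]

theorem exists_elt {F : Type*} [Field F] [Fintype F] (h : 4 ≤ Fintype.card F) :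
    ∃ a : F, a ≠ 0 ∧ a ^ 2 ≠ 1 := by
  classical
  obtain ⟨r, -, hr⟩ : ∃ r ∈ (Finset.univ : Finset F), r ∉ ({0, 1, -1} : Finset F) := by
    apply Finset.exists_mem_notMem_of_card_lt_card
    calc ({0, 1, -1} : Finset F).card ≤ 3 := Finset.card_le_three
      _ < Fintype.card F := by omega
      _ = (Finset.univ : Finset F).card := Finset.card_univ.symm
  simp only [Finset.mem_insert, Finset.mem_singleton, not_or] at hr
  obtain ⟨h0, h1, h2⟩ := hr
  refine ⟨r, h0, ?_⟩
  intro hsq
  rcases sq_eq_one_iff.mp hsq with h | h <;> contradiction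

/-- Let F be a finite field and n ≥ 1, excluding the case n = 2 with #F ≤ 3. A subgroup of GL_n(F) that is normalized by every element of SL_n(F) either consists of scalar matrices or contains SL_n(F). -/
theorem result {F : Type*} [Field F] [Fintype F] (n : ℕ) (hn : 1 ≤ n) (hex : ¬ (n = 2 ∧ Fintype.card F ≤ 3)) (G : Subgroup (Matrix.GeneralLinearGroup (Fin n) F)) (hG : ∀ s : Matrix.SpecialLinearGroup (Fin n) F, ∀ g ∈ G, (Matrix.SpecialLinearGroup.toGL s) * g * (Matrix.SpecialLinearGroup.toGL s)⁻¹ ∈ G) : (∀ g ∈ G, ∃ c : F, (g : Matrix (Fin n) (Fin n) F) = c • (1 : Matrix (Fin n) (Fin n) F)) ∨ (Matrix.SpecialLinearGroup.toGL : Matrix.SpecialLinearGroup (Fin n) F →* _).range ≤ G := by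
  obtain rfl | hn2 : n = 1 ∨ 2 ≤ n := by omega
  · left
    intro g _
    refine ⟨(g : Matrix (Fin 1) (Fin 1) F) 0 0, ?_⟩
    ext i j
    fin_cases i; fin_cases j
    simp
  · have hperf : commutator (Matrix.SpecialLinearGroup (Fin n) F) = ⊤ := by
      obtain rfl | hn3 : n = 2 ∨ 3 ≤ n := by omega
      · have h4 : 4 ≤ Fintype.card F := by
          by_contra hcon
          exact hex ⟨rfl, by omega⟩
        obtain ⟨a, ha, hasq⟩ := exists_elt h4
        exact SL2.commutator_eq_top ha hasq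
      · exact Cfsg.Agent.Lib.Helper5.commutator_SL_eq_top (by simpa using hn3)
    have hsimple : IsSimpleGroup (Matrix.SpecialLinearGroup (Fin n) F ⧸ Subgroup.center (Matrix.SpecialLinearGroup (Fin n) F)) := by
      obtain rfl | hn3 : n = 2 ∨ 3 ≤ n := by omega
      · have h4 : 4 ≤ Fintype.card F := by
          by_contra hcon
          exact hex ⟨rfl, by omega⟩
        exact Matrix.ProjectiveSpecialLinearGroup.rank_two_simple (by rw [Nat.card_eq_fintype_card]; exact h4)
      · exact Cfsg.Agent.Lib.Helper5.PSL_isSimpleGroup_of_three_le (by simpa using hn3)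
    rcases general hperf hsimple Matrix.SpecialLinearGroup.toGL range_normal G hG with h | h
    · left
      intro g hg
      exact scalar_of_centralizer g (h hg)
    · right
      exact h

end Cfsg.Agent.S2540
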