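import Cfsg.Statements.S2541

set_option autoImplicit false
open Cfsg

namespace Cfsg.Agent.S2541

open Equiv Matrix

theorem prime_pow_dvd_lcm {p k a b : ℕ} (hp : p.Prime) (h : p ^ k ∣ Nat.lcm a b) : p ^ k ∣ a ∨ p ^ k ∣ b := by
  rcases Nat.eq_zero_or_pos a with rfl | ha
  · left; exact dvd_zero _
  rcases Nat.eq_zero_or_pos b with rfl | hb
  · right; exact dvd_zero _
  have hl : Nat.lcm a b ≠ 0 := Nat.lcm_ne_zero ha.ne' hb.ne'
  rw [hp.pow_dvd_iff_le_factorization hl, Nat.factorization_lcm ha.ne' hb.ne'] at h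
  simp only [Finsupp.sup_apply] at h
  rcases le_sup_iff.mp h with h | h
  · left; exact (hp.pow_dvd_iff_le_factorization ha.ne').mpr h
  · right; exact (hp.pow_dvd_iff_le_factorization hb.ne').mpr h

theorem prime_pow_dvd_multiset_lcm {p k : ℕ} (hp : p.Prime) (hk : k ≠ 0) (s : Multiset ℕ) (h : p ^ k ∣ s.lcm) :
    ∃ a ∈ s, p ^ k ∣ a := by
  induction s using Multiset.induction_on with
  | empty =>
    simp only [Multiset.lcm_zero] at h
    have := Nat.le_of_dvd one_pos h
    have h2 : 2 ≤ p ^ k := by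
      calc 2 ≤ p := hp.two_le
        _ = p ^ 1 := (pow_one p).symm
        _ ≤ p ^ k := Nat.pow_le_pow_right hp.pos (Nat.one_le_iff_ne_zero.mpr hk)
    omega
  | cons a s ih =>
    rw [Multiset.lcm_cons] at h
    rcases prime_pow_dvd_lcm hp h with h | h
    · exact ⟨a, Multiset.mem_cons_self a s, h⟩
    · obtain ⟨b, hb, hb'⟩ := ih h
      exact ⟨b, Multiset.mem_cons_of_mem hb, hb'⟩

theorem no_order_eight (σ : Perm (Fin 6)) : orderOf σ ≠ 8 := by
  intro h
  have h1 : (2:ℕ) ^ 3 ∣ σ.cycleType.lcm := by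
    rw [Equiv.Perm.lcm_cycleType, h]; norm_num
  obtain ⟨a, ha, ha'⟩ := prime_pow_dvd_multiset_lcm Nat.prime_two (by norm_num) _ h1
  have h2 : a ≤ σ.cycleType.sum := Multiset.le_sum_of_mem ha
  have h3 := σ.sum_cycleType_le
  simp only [Fintype.card_fin] at h3
  have h4 : 2 ≤ a := Equiv.Perm.two_le_of_mem_cycleType ha
  have := Nat.le_of_dvd (by omega) ha'
  omega

noncomputable def phi {F : Type*} [Field F] : Fˣ →* GL (Fin 2) F :=
  (Units.map (Matrix.diagonalRingHom (Fin 2) F).toMonoidHom).comp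
    ((MulEquiv.piUnits (M := fun _ : Fin 2 => F)).symm.toMonoidHom.comp (MonoidHom.mulSingle (fun _ : Fin 2 => Fˣ) 0))

theorem phi_apply {F : Type*} [Field F] (u : Fˣ) (i j : Fin 2) : ((phi u : GL (Fin 2) F) : Matrix (Fin 2) (Fin 2) F) i j =
    if i = j then (if i = 0 then (u : F) else 1) else 0 := by
  simp only [phi, MonoidHom.coe_comp, Function.comp_apply, Units.coe_map]
  simp [Matrix.diagonal_apply, MulEquiv.piUnits, Pi.mulSingle_apply]
  split_ifs <;> simp

theorem mk_phi_injective {F : Type*} [Field F] : Function.Injective ((Matrix.ProjGenLinGroup.mk (n := Fin 2) (R := F)).comp phi) := by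
  rw [injective_iff_map_eq_one]
  intro u hu
  simp only [MonoidHom.coe_comp, Function.comp_apply, Matrix.ProjGenLinGroup.mk_eq_one,
    Matrix.GeneralLinearGroup.center_eq_range_scalar] at hu
  obtain ⟨c, hc⟩ := hu
  have h0 := congrArg (fun g : GL (Fin 2) F => (g : Matrix (Fin 2) (Fin 2) F) 0 0) hc
  have h1 := congrArg (fun g : GL (Fin 2) F => (g : Matrix (Fin 2) (Fin 2) F) 1 1) hc
  simp [phi_apply] at h0 h1
  ext
  rw [← h0, h1]

theorem exists_order_eight {F : Type*} [Field F] [Fintype F] (hF : Fintype.card F = 9) : ∃ x : Matrix.ProjGenLinGroup (Fin 2) F, orderOf x = 8 := by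
  classical
  obtain ⟨u, hu⟩ := IsCyclic.exists_generator (α := Fˣ)
  refine ⟨(Matrix.ProjGenLinGroup.mk (n := Fin 2) (R := F)).comp phi u, ?_⟩
  rw [orderOf_injective _ mk_phi_injective]
  rw [orderOf_eq_card_of_forall_mem_zpowers hu, Nat.card_eq_fintype_card, Fintype.card_units, hF]

/-- Let F be a field with 9 elements. The symmetric group S_6 is not isomorphic to PGL_2(F) (although both have index-2 subgroups isomorphic to A_6). -/
theorem result {F : Type*} [Field F] [Fintype F] (hF : Fintype.card F = 9) : ¬ Nonempty (Equiv.Perm (Fin 6) ≃* Matrix.ProjGenLinGroup (Fin 2) F) := by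
  rintro ⟨e⟩
  obtain ⟨x, hx⟩ := exists_order_eight hF
  apply no_order_eight (e.symm x)
  rw [MulEquiv.orderOf_eq, hx]

end Cfsg.Agent.S2541
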