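import Cfsg.Statements.S2544
import Cfsg.Agent.Lib.Helper42.StD

set_option autoImplicit false
open Cfsg

namespace Cfsg.Agent.S2544

/-- Let F be a finite field of characteristic p and consider the projective special linear group PSL_n(F) with n ≥ 2. This group has an irreducible complex character χ whose degree equals the order of a Sylow p-subgroup (namely q^(n(n−1)/2) when #F = q) and whose restriction to any Sylow p-subgroup P is the regular character of P: χ vanishes on the non-identity elements of P. (This is the Steinberg character.) -/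
theorem result {F : Type*} [Field F] [Fintype F] (p : ℕ) [Fact p.Prime] [CharP F p] (n : ℕ) (hn : 2 ≤ n) : ∃ χ : Matrix.ProjectiveSpecialLinearGroup (Fin n) F → ℂ, Cfsg.IsIrrCharacter (Matrix.ProjectiveSpecialLinearGroup (Fin n) F) χ ∧ ∀ P : Sylow p (Matrix.ProjectiveSpecialLinearGroup (Fin n) F), χ 1 = Nat.card P ∧ ∀ x : Matrix.ProjectiveSpecialLinearGroup (Fin n) F, x ∈ P → x ≠ 1 → χ x = 0 := by
  classical
  have hp : p.Prime := Fact.out
  obtain ⟨ψ, hψ, h1⟩ := Cfsg.Agent.Lib.Helper42.St.exists_psl_char (F := F) (n := n)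
    (fun _ => 1) monotone_const (by simp)
  rw [Cfsg.Agent.Lib.Helper42.St.steinberg_degree (F := F) (n := n) rfl] at h1
  haveI : Fintype (Matrix.ProjectiveSpecialLinearGroup (Fin n) F) := Fintype.ofFinite _
  have hdvd := Cfsg.Agent.Lib.Helper3.irr_degree_dvd_card hψ _ h1
  obtain ⟨k, hk, hpk⟩ := Cfsg.Agent.Lib.Helper42.St.card_PSL_split (F := F) p n (by omega) hdvd
  obtain ⟨f, _, hf⟩ := FiniteField.card F p
  have hcardP : ∀ P : Sylow p (Matrix.ProjectiveSpecialLinearGroup (Fin n) F),
      Nat.card P = Fintype.card F ^ (∑ i ∈ Finset.range n, i) := by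
    intro P
    have hk' := hk
    rw [hf] at hk' ⊢
    exact Cfsg.Agent.Lib.Helper42.St.card_sylow_of_split p hk' hpk P
  refine ⟨ψ, hψ, fun P => ⟨?_, ?_⟩⟩
  · rw [h1, hcardP P]
  · intro x hx hx1
    have hdiv : p ∣ orderOf x := by
      obtain ⟨j, hj⟩ := (IsPGroup.iff_orderOf.mp P.isPGroup') ⟨x, hx⟩
      rw [Subgroup.orderOf_mk] at hj
      rw [hj]
      have hj0 : j ≠ 0 := by
        rintro rfl
        rw [pow_zero, orderOf_eq_one_iff] at hj
        exact hx1 hj
      exact dvd_pow_self p hj0
    exact Cfsg.Agent.Lib.Helper74.irr_vanish_of_defect_zero hp ⟨ψ, hψ⟩ _ k h1 hk hpk x hdiv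

end Cfsg.Agent.S2544
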