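import Cfsg.Statements.S2546
import Cfsg.Agent.Lib.Helper20.SuBNSt
import Cfsg.Agent.Lib.Helper76.RelQuot
import Cfsg.Agent.Lib.Helper74.Osima5

set_option autoImplicit false
open Cfsg

namespace Cfsg.Agent.S2546

/-- Let F be a finite field of characteristic p and consider the projective special unitary group PSU_n(q), n ≥ 2, realised over the field F with q² elements. This group has an irreducible complex character χ whose degree equals the order of a Sylow p-subgroup (namely q^(n(n−1)/2)) and whose restriction to any Sylow p-subgroup P is the regular character of P: χ vanishes on the non-identity elements of P. (This is the Steinberg character.) -/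
theorem result {F : Type*} [Field F] [Fintype F] (p : ℕ) [Fact p.Prime] [CharP F p] (n q : ℕ) (hn : 2 ≤ n) (hF : Fintype.card F = q ^ 2) : ∃ χ : Cfsg.PSU n F q → ℂ, Cfsg.IsIrrCharacter (Cfsg.PSU n F q) χ ∧ ∀ P : Sylow p (Cfsg.PSU n F q), χ 1 = Nat.card P ∧ ∀ x : Cfsg.PSU n F q, x ∈ P → x ≠ 1 → χ x = 0 := by
  classical
  have hp : p.Prime := Fact.out
  obtain ⟨Fi, f, hfs, hfk⟩ := Cfsg.Agent.Lib.Helper20.SuF.exists_inv_cover hF n
  have : NeZero n := ⟨by omega⟩
  obtain ⟨χ, hχ, h1, hz⟩ := Cfsg.Agent.Lib.Helper20.SuBN.exists_steinberg_SUJ Fi hn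
  obtain ⟨β, hβ, hβe⟩ := Cfsg.Agent.Lib.Helper76.Rel.deflate_surj f hfs hχ
    (fun a ha => by rw [hfk] at ha; exact hz a ha)
  have : Finite (Cfsg.PSU n F q) := Finite.of_surjective f hfs
  haveI : Fintype (Cfsg.PSU n F q) := Fintype.ofFinite _
  -- the unitriangular subgroup meets the kernel trivially
  have hinj : Function.Injective (f.comp (Cfsg.Agent.Lib.Helper20.SuF.UE (n := n) Fi).subtype) := by
    rw [injective_iff_map_eq_one]
    intro u hu
    have hker : (u : ↥(Cfsg.Agent.Lib.Helper20.SuF.SUJ (n := n) Fi)) ∈ f.ker := hu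
    rw [hfk] at hker
    obtain ⟨w, hwS, hw⟩ := Cfsg.Agent.Lib.Helper20.SuBN.exists_w0 Fi hn
    have hU := (Cfsg.Agent.Lib.Helper20.SuF.mem_UE Fi _).mp u.2
    have hL := Cfsg.Agent.Lib.Helper20.SuBN.conj_w0_mem_LL hw hU
    have hcomm := Subgroup.mem_center_iff.mp hker ⟨w, hwS⟩
    have hcomm' : w * ((u : ↥(Cfsg.Agent.Lib.Helper20.SuF.SUJ (n := n) Fi)) :
        Cfsg.Agent.Lib.Helper20.PslF.SLn n F) =
        ((u : ↥(Cfsg.Agent.Lib.Helper20.SuF.SUJ (n := n) Fi)) :
          Cfsg.Agent.Lib.Helper20.PslF.SLn n F) * w := congrArg Subtype.val hcomm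
    rw [hcomm', mul_inv_cancel_right] at hL
    have h3 := Cfsg.Agent.Lib.Helper20.SuBN.UT_inf_LL (Cfsg.Agent.Lib.Helper20.PslF.UU_le_UT hU) hL
    exact Subtype.ext (Subtype.ext h3)
  -- a Sylow subgroup of the quotient
  set S0 : Sylow p (Cfsg.PSU n F q) :=
    Sylow.mapSurjective hfs (Cfsg.Agent.Lib.Helper20.SuF.UEs (n := n) Fi p) with hS0
  have hS0card : Nat.card S0 = Nat.card (Cfsg.Agent.Lib.Helper20.SuF.UE (n := n) Fi) := by
    have hcoe : (S0 : Subgroup (Cfsg.PSU n F q)) =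
        (f.comp (Cfsg.Agent.Lib.Helper20.SuF.UE (n := n) Fi).subtype).range := by
      rw [hS0, Sylow.coe_mapSurjective, Cfsg.Agent.Lib.Helper20.SuF.coe_UEs,
        MonoidHom.range_comp, Subgroup.range_subtype]
    have e := MonoidHom.ofInjective hinj
    have h2 : Nat.card (S0 : Subgroup (Cfsg.PSU n F q)) =
        Nat.card (f.comp (Cfsg.Agent.Lib.Helper20.SuF.UE (n := n) Fi).subtype).range := by
      rw [hcoe]
    rw [show Nat.card S0 = Nat.card (S0 : Subgroup (Cfsg.PSU n F q)) from rfl, h2]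
    exact (Nat.card_congr e.toEquiv).symm
  have hcard : ∀ P : Sylow p (Cfsg.PSU n F q),
      Nat.card P = Nat.card (Cfsg.Agent.Lib.Helper20.SuF.UE (n := n) Fi) := by
    intro P
    rw [← hS0card, Sylow.card_eq_multiplicity P, Sylow.card_eq_multiplicity S0]
  have hβ1 : β 1 = (Nat.card (Cfsg.Agent.Lib.Helper20.SuF.UE (n := n) Fi) : ℂ) := by
    have := hβe 1
    rw [map_one] at this
    rw [this, h1]
  refine ⟨β, hβ, fun P => ⟨?_, ?_⟩⟩
  · rw [hβ1, hcard P]
  · intro x hx hx1
    have hdiv : p ∣ orderOf x := by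
      obtain ⟨j, hj⟩ := (IsPGroup.iff_orderOf.mp P.isPGroup') ⟨x, hx⟩
      rw [Subgroup.orderOf_mk] at hj
      rw [hj]
      have hj0 : j ≠ 0 := by
        rintro rfl
        rw [pow_zero, orderOf_eq_one_iff] at hj
        exact hx1 hj
      exact dvd_pow_self p hj0
    have hk : Nat.card (Cfsg.PSU n F q) = Nat.card P * (P : Subgroup (Cfsg.PSU n F q)).index :=
      ((P : Subgroup (Cfsg.PSU n F q)).card_mul_index).symm
    exact Cfsg.Agent.Lib.Helper74.irr_vanish_of_defect_zero hp ⟨β, hβ⟩ (Nat.card P) _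
      (by show β 1 = _; rw [hβ1, hcard P]) hk P.not_dvd_index x hdiv

end Cfsg.Agent.S2546
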