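import Mathlib
import Cfsg.Statements.S2550
import Cfsg.Agent.Lib.Helper38.SLCard

set_option autoImplicit false
open Cfsg

namespace Cfsg.Agent.S2550

theorem L2 {K R : Type*} [Field K] [CommRing R] [Algebra K R] [Nontrivial R] (h2 : (2 : K) = 0)
    (x : R) (a b : K) (hCH : x ^ 3 = algebraMap K R a * x ^ 2 + algebraMap K R b * x + 1) (h6 : x ^ 6 = 1) :
    (∃ c : K, x ^ 2 = algebraMap K R c) ∨ x ^ 3 = 1 := by
  have h2R : (2 : R) = 0 := by
    have := congrArg (algebraMap K R) h2
    rw [map_ofNat, map_zero] at this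
    exact this
  have hinj : Function.Injective (algebraMap K R) := (algebraMap K R).injective
  set A := algebraMap K R a with hA
  set B := algebraMap K R b with hB
  have e1 : x * (A * x + B) = x ^ 3 - 1 := by linear_combination -hCH
  have e2 : (x ^ 3 - 1) ^ 2 = 0 := by linear_combination h6 + (1 - x ^ 3) * h2R
  have e3 : x ^ 2 * (A * x + B) ^ 2 = 0 := by rw [← mul_pow, e1, e2]
  have e4 : (A * x + B) ^ 2 = 0 := by
    calc (A * x + B) ^ 2 = x ^ 6 * (A * x + B) ^ 2 := by rw [h6, one_mul]
      _ = x ^ 4 * (x ^ 2 * (A * x + B) ^ 2) := by ring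
      _ = 0 := by rw [e3, mul_zero]
  have e5 : A ^ 2 * x ^ 2 + B ^ 2 = 0 := by linear_combination e4 - A * B * x * h2R
  by_cases ha : a = 0
  · have hA0 : A = 0 := by rw [hA, ha, map_zero]
    rw [hA0] at e5 hCH
    have hB2 : B ^ 2 = 0 := by linear_combination e5
    have hb : b = 0 := by
      have : algebraMap K R (b ^ 2) = algebraMap K R 0 := by rw [map_pow, map_zero]; exact hB2
      have := hinj this
      exact pow_eq_zero_iff (two_ne_zero) |>.mp this
    right
    have hB0 : B = 0 := by rw [hB, hb, map_zero]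
    rw [hB0] at hCH
    linear_combination hCH
  · left
    refine ⟨-(b / a) ^ 2, ?_⟩
    have hAinv : algebraMap K R a⁻¹ * A = 1 := by
      rw [hA, ← map_mul, inv_mul_cancel₀ ha, map_one]
    have : algebraMap K R (-(b / a) ^ 2) = -(algebraMap K R a⁻¹) ^ 2 * B ^ 2 := by
      rw [div_eq_mul_inv, map_neg, map_pow, map_mul]
      ring
    rw [this]
    linear_combination (algebraMap K R a⁻¹) ^ 2 * e5 + (-(x ^ 2) * (algebraMap K R a⁻¹ * A + 1)) * hAinv

theorem L1 {K R : Type*} [Field K] [CommRing R] [Algebra K R] [Nontrivial R] (h2 : (2 : K) = 0)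
    (h4 : ∀ c : K, c ^ 4 = c)
    (u : R) (a b l : K) (hl : l ≠ 0)
    (hCH : u ^ 3 = algebraMap K R a * u ^ 2 + algebraMap K R b * u + 1) (h3 : u ^ 3 = algebraMap K R l) :
    (∃ c : K, u = algebraMap K R c) ∨ l = 1 := by
  have hinj : Function.Injective (algebraMap K R) := (algebraMap K R).injective
  by_cases ha : a = 0
  · rw [ha, map_zero] at hCH
    by_cases hb : b = 0
    · right
      rw [hb, map_zero] at hCH
      apply hinj
      rw [map_one, ← h3]
      linear_combination hCH
    · left
      refine ⟨(l - 1) / b, ?_⟩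
      have hBinv : algebraMap K R b⁻¹ * algebraMap K R b = 1 := by
        rw [← map_mul, inv_mul_cancel₀ hb, map_one]
      rw [div_eq_mul_inv, map_mul, map_sub, map_one, ← h3]
      linear_combination (-u) * hBinv - algebraMap K R b⁻¹ * hCH
  · -- u² = α u + β
    set α : K := -b / a with hα
    set β : K := (l - 1) / a with hβ
    have hAinv : algebraMap K R a⁻¹ * algebraMap K R a = 1 := by
      rw [← map_mul, inv_mul_cancel₀ ha, map_one]
    have hu2 : u ^ 2 = algebraMap K R α * u + algebraMap K R β := by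
      rw [hα, hβ, div_eq_mul_inv, div_eq_mul_inv, map_mul, map_mul, map_neg, map_sub, map_one, ← h3]
      linear_combination (-(u ^ 2)) * hAinv - algebraMap K R a⁻¹ * hCH
    have hu3 : algebraMap K R (α ^ 2 + β) * u = algebraMap K R (l - α * β) := by
      rw [map_add, map_pow, map_sub, map_mul, ← h3]
      linear_combination (-(u + algebraMap K R α)) * hu2
    by_cases hab : α ^ 2 + β = 0
    · right
      rw [hab, map_zero, zero_mul] at hu3
      have h5 : l - α * β = 0 := by
        apply hinj
        rw [map_zero]; exact hu3.symm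
      have hβ' : β = -α ^ 2 := by linear_combination hab
      have hl' : l = -α ^ 3 := by rw [hβ'] at h5; linear_combination h5
      have hα0 : α ≠ 0 := by
        intro h
        apply hl
        rw [hl', h]; ring
      have hα3 : α ^ 3 = 1 := by
        have := h4 α
        have h6 : α * (α ^ 3 - 1) = 0 := by linear_combination this
        rcases mul_eq_zero.mp h6 with h | h
        · exact absurd h hα0
        · linear_combination h
      rw [hl', hα3]
      linear_combination -h2
    · left
      refine ⟨(l - α * β) / (α ^ 2 + β), ?_⟩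
      have hinv : algebraMap K R (α ^ 2 + β)⁻¹ * algebraMap K R (α ^ 2 + β) = 1 := by
        rw [← map_mul, inv_mul_cancel₀ hab, map_one]
      rw [div_eq_mul_inv, map_mul, ← hu3]
      linear_combination (-u) * hinv

/-- second coefficient of the characteristic polynomial -/
def e2 {K : Type*} [CommRing K] (M : Matrix (Fin 3) (Fin 3) K) : K :=
  M 0 0 * M 1 1 - M 0 1 * M 1 0 + M 0 0 * M 2 2 - M 0 2 * M 2 0 + M 1 1 * M 2 2 - M 1 2 * M 2 1

theorem cayley_hamilton_three {K : Type*} [CommRing K] (M : Matrix (Fin 3) (Fin 3) K) :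
    M ^ 3 = M.trace • M ^ 2 - (e2 M) • M + M.det • (1 : Matrix (Fin 3) (Fin 3) K) := by
  unfold e2
  ext i j
  fin_cases i <;> fin_cases j <;>
    simp [pow_succ, Matrix.mul_apply, Fin.sum_univ_three, Matrix.det_fin_three, Matrix.trace_fin_three] <;> ring

theorem ch_char_two {K : Type*} [Field K] (h2 : (2 : K) = 0) (M : Matrix (Fin 3) (Fin 3) K) (hdet : M.det = 1) :
    M ^ 3 = M.trace • M ^ 2 + (e2 M) • M + 1 := by
  have h := cayley_hamilton_three M
  rw [hdet, one_smul] at h
  rw [h]
  have : (-(e2 M)) = e2 M := by linear_combination (-(e2 M)) * h2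
  rw [sub_eq_add_neg, ← neg_smul, this]

theorem no_six {K : Type*} [Field K] (h2 : (2 : K) = 0) (h4 : ∀ c : K, c ^ 4 = c)
    (x : Matrix (Fin 3) (Fin 3) K) (hdet : x.det = 1) (l : K) (hl : l ≠ 0)
    (h6 : x ^ 6 = l • (1 : Matrix (Fin 3) (Fin 3) K)) :
    (∃ c : K, x ^ 2 = c • (1 : Matrix (Fin 3) (Fin 3) K)) ∨ (∃ c : K, x ^ 3 = c • (1 : Matrix (Fin 3) (Fin 3) K)) := by
  set f : Polynomial K →ₐ[K] Matrix (Fin 3) (Fin 3) K := Polynomial.aeval x with hf
  set ι := Ideal.kerLiftAlg f with hι
  have hinj : Function.Injective ι := Ideal.kerLiftAlg_injective f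
  set x' : Polynomial K ⧸ RingHom.ker f := Ideal.Quotient.mk _ Polynomial.X with hx'
  have hιx : ι x' = x := by
    rw [hι, hx', Ideal.kerLiftAlg_mk, hf, Polynomial.aeval_X]
  have hnt : Nontrivial (Polynomial K ⧸ RingHom.ker f) := by
    refine ⟨⟨0, 1, ?_⟩⟩
    intro h
    have := congrArg ι h
    rw [map_zero, map_one] at this
    exact zero_ne_one this
  have hcoe : ∀ (c : K), ι (algebraMap K _ c) = c • (1 : Matrix (Fin 3) (Fin 3) K) := by
    intro c
    rw [AlgHom.commutes, Algebra.algebraMap_eq_smul_one]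
  have hdet2 : (x ^ 2).det = 1 := by rw [Matrix.det_pow, hdet, one_pow]
  have hCHu : (x' ^ 2) ^ 3 = algebraMap K _ (x ^ 2).trace * (x' ^ 2) ^ 2 + algebraMap K _ (e2 (x ^ 2)) * (x' ^ 2) + 1 := by
    apply hinj
    simp only [map_add, map_mul, map_pow, map_one, hcoe, hιx]
    rw [smul_mul_assoc, smul_mul_assoc, one_mul, one_mul]
    exact ch_char_two h2 (x ^ 2) hdet2
  have h3u : (x' ^ 2) ^ 3 = algebraMap K _ l := by
    apply hinj
    simp only [map_pow, hcoe, hιx]
    rw [← pow_mul]
    exact h6
  rcases L1 h2 h4 (x' ^ 2) _ _ l hl hCHu h3u with ⟨c, hc⟩ | hl1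
  · left
    refine ⟨c, ?_⟩
    have := congrArg ι hc
    simpa only [map_pow, hcoe, hιx] using this
  · have hCHx : x' ^ 3 = algebraMap K _ x.trace * x' ^ 2 + algebraMap K _ (e2 x) * x' + 1 := by
      apply hinj
      simp only [map_add, map_mul, map_pow, map_one, hcoe, hιx]
      rw [smul_mul_assoc, smul_mul_assoc, one_mul, one_mul]
      exact ch_char_two h2 x hdet
    have h6x : x' ^ 6 = 1 := by
      apply hinj
      simp only [map_pow, map_one, hιx]
      rw [h6, hl1, one_smul]
    rcases L2 h2 x' _ _ hCHx h6x with ⟨c, hc⟩ | h3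
    · left
      refine ⟨c, ?_⟩
      have := congrArg ι hc
      simpa only [map_pow, hcoe, hιx] using this
    · right
      refine ⟨1, ?_⟩
      have := congrArg ι h3
      rw [one_smul]
      simpa only [map_pow, map_one, hιx] using this

theorem mem_center_of_smul {K : Type*} [Field K] (z : Matrix.SpecialLinearGroup (Fin 3) K) (c : K)
    (h : z.1 = c • (1 : Matrix (Fin 3) (Fin 3) K)) : z ∈ Subgroup.center (Matrix.SpecialLinearGroup (Fin 3) K) := by
  rw [Matrix.SpecialLinearGroup.mem_center_iff]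
  refine ⟨c, ?_, ?_⟩
  · have hd := z.2
    rw [h, Matrix.det_smul, Matrix.det_one, mul_one] at hd
    simpa using hd
  · rw [h, Matrix.scalar_apply, Matrix.smul_one_eq_diagonal]

theorem no_order_six {K : Type*} [Field K] [Fintype K] (hK : Fintype.card K = 4)
    (y : Matrix.ProjectiveSpecialLinearGroup (Fin 3) K) : orderOf y ≠ 6 := by
  intro h
  have h2 : (2 : K) = 0 := by
    have hchar : ringChar K = 2 := by
      rw [FiniteField.even_card_iff_char_two, hK]
    have : CharP K 2 := by rw [← hchar]; exact ringChar.charP K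
    exact CharTwo.two_eq_zero
  have h4 : ∀ c : K, c ^ 4 = c := by
    intro c
    rw [← hK]
    exact FiniteField.pow_card c
  obtain ⟨x, rfl⟩ := QuotientGroup.mk_surjective y
  have hy6 : ((x : Matrix.ProjectiveSpecialLinearGroup (Fin 3) K)) ^ 6 = 1 := by
    rw [← h]; exact pow_orderOf_eq_one _
  have hx6 : x ^ 6 ∈ Subgroup.center (Matrix.SpecialLinearGroup (Fin 3) K) := by
    rw [← QuotientGroup.eq_one_iff, QuotientGroup.mk_pow]
    exact hy6
  rw [Matrix.SpecialLinearGroup.mem_center_iff] at hx6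
  obtain ⟨r, hr, hrx⟩ := hx6
  have hr0 : r ≠ 0 := by
    rintro rfl
    simp at hr
  have h6 : x.1 ^ 6 = r • (1 : Matrix (Fin 3) (Fin 3) K) := by
    rw [← Matrix.SpecialLinearGroup.coe_pow, ← hrx, Matrix.scalar_apply, Matrix.smul_one_eq_diagonal]
  rcases no_six h2 h4 x.1 x.2 r hr0 h6 with ⟨c, hc⟩ | ⟨c, hc⟩
  · have hmem : x ^ 2 ∈ Subgroup.center (Matrix.SpecialLinearGroup (Fin 3) K) := by
      apply mem_center_of_smul _ c
      rw [Matrix.SpecialLinearGroup.coe_pow]
      exact hc
    have hy2 : ((x : Matrix.ProjectiveSpecialLinearGroup (Fin 3) K)) ^ 2 = 1 := by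
      rw [← QuotientGroup.mk_pow]
      exact (QuotientGroup.eq_one_iff _).mpr hmem
    have := orderOf_dvd_of_pow_eq_one hy2
    rw [h] at this
    omega
  · have hmem : x ^ 3 ∈ Subgroup.center (Matrix.SpecialLinearGroup (Fin 3) K) := by
      apply mem_center_of_smul _ c
      rw [Matrix.SpecialLinearGroup.coe_pow]
      exact hc
    have hy3 : ((x : Matrix.ProjectiveSpecialLinearGroup (Fin 3) K)) ^ 3 = 1 := by
      rw [← QuotientGroup.mk_pow]
      exact (QuotientGroup.eq_one_iff _).mpr hmem
    have := orderOf_dvd_of_pow_eq_one hy3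
    rw [h] at this
    omega

/-- an element of order six over `ZMod 2` -/
def m0 : Matrix (Fin 4) (Fin 4) (ZMod 2) := !![0, 1, 0, 0; 1, 1, 0, 0; 0, 0, 1, 1; 0, 0, 0, 1]

theorem m0_det : m0.det = 1 := by decide

/-- as an element of the special linear group -/
def x0 : Matrix.SpecialLinearGroup (Fin 4) (ZMod 2) := ⟨m0, m0_det⟩

theorem x0_order : orderOf x0 = 6 := by
  rw [orderOf_eq_iff (by norm_num)]
  refine ⟨by decide, ?_⟩
  intro m hm hm0
  interval_cases m <;> decide

theorem map_injective {F : Type*} [Field F] (f : ZMod 2 →+* F) :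
    Function.Injective (Matrix.SpecialLinearGroup.map (n := Fin 4) f) := by
  intro a b hab
  apply Subtype.ext
  ext i j
  have := congrArg (fun z : Matrix.SpecialLinearGroup (Fin 4) F => z.1 i j) hab
  simp only [Matrix.SpecialLinearGroup.map_apply_coe, RingHom.mapMatrix_apply, Matrix.map_apply] at this
  exact f.injective this

theorem center_trivial {F : Type*} [Field F] [Fintype F] (hF : Fintype.card F = 2) :
    Subgroup.center (Matrix.SpecialLinearGroup (Fin 4) F) = ⊥ := by
  rw [eq_bot_iff]
  intro z hz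
  rw [Matrix.SpecialLinearGroup.mem_center_iff] at hz
  obtain ⟨r, hr, hrz⟩ := hz
  have hr0 : r ≠ 0 := by
    rintro rfl
    simp at hr
  have hr1 : r = 1 := by
    have : r ^ Fintype.card F = r := FiniteField.pow_card r
    rw [hF] at this
    have h2 : r * (r - 1) = 0 := by linear_combination this
    rcases mul_eq_zero.mp h2 with h | h
    · exact absurd h hr0
    · linear_combination h
  rw [Subgroup.mem_bot]
  apply Subtype.ext
  rw [← hrz, hr1, map_one]
  rfl

theorem exists_order_six {F : Type*} [Field F] [Fintype F] (hF : Fintype.card F = 2) :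
    ∃ y : Matrix.ProjectiveSpecialLinearGroup (Fin 4) F, orderOf y = 6 := by
  have hchar : ringChar F = 2 := by
    rw [FiniteField.even_card_iff_char_two, hF]
  have : CharP F 2 := by rw [← hchar]; exact ringChar.charP F
  let f : ZMod 2 →+* F := ZMod.castHom (dvd_refl 2) F
  refine ⟨QuotientGroup.mk' _ (Matrix.SpecialLinearGroup.map f x0), ?_⟩
  have hinj : Function.Injective (QuotientGroup.mk' (Subgroup.center (Matrix.SpecialLinearGroup (Fin 4) F))) := by
    rw [← MonoidHom.ker_eq_bot_iff, QuotientGroup.ker_mk', center_trivial hF]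
  rw [orderOf_injective _ hinj, orderOf_injective _ (map_injective f), x0_order]

theorem card_psl4 {F : Type*} [Field F] [Fintype F] (hF : Fintype.card F = 2) :
    Nat.card (Matrix.ProjectiveSpecialLinearGroup (Fin 4) F) = 20160 := by
  have h1 := Cfsg.Agent.Lib.Helper38.card_SL_mul (F := F) 4 (by norm_num)
  rw [Matrix.card_GL_field, hF] at h1
  have h2 : (∏ i : Fin 4, (2 ^ 4 - 2 ^ (i : ℕ))) = 20160 := by
    simp [Fin.prod_univ_four]
  rw [h2] at h1
  have h3 := Subgroup.card_eq_card_quotient_mul_card_subgroup (Subgroup.center (Matrix.SpecialLinearGroup (Fin 4) F))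
  rw [center_trivial hF, Subgroup.card_bot, mul_one] at h3
  have h4 : Nat.card (Matrix.ProjectiveSpecialLinearGroup (Fin 4) F) =
      Nat.card (Matrix.SpecialLinearGroup (Fin 4) F ⧸ Subgroup.center (Matrix.SpecialLinearGroup (Fin 4) F)) := rfl
  rw [h4, center_trivial hF, ← h3]
  omega

theorem card_center3 {K : Type*} [Field K] [Fintype K] (hK : Fintype.card K = 4) :
    Nat.card (Subgroup.center (Matrix.SpecialLinearGroup (Fin 3) K)) = 3 := by
  classical
  rw [Nat.card_congr (Matrix.SpecialLinearGroup.center_equiv_rootsOfUnity (n := Fin 3) (R := K)).toEquiv]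
  have htop : rootsOfUnity (max (Fintype.card (Fin 3)) 1) K = ⊤ := by
    rw [eq_top_iff]
    intro u _
    rw [mem_rootsOfUnity]
    have h3 : Fintype.card Kˣ = 3 := by rw [Fintype.card_units, hK]
    simp only [Fintype.card_fin, Nat.reduceLeDiff, sup_of_le_left]
    rw [← h3]
    exact pow_card_eq_one
  rw [htop, Subgroup.card_top, Nat.card_eq_fintype_card, Fintype.card_units, hK]

theorem card_psl3 {K : Type*} [Field K] [Fintype K] (hK : Fintype.card K = 4) :
    Nat.card (Matrix.ProjectiveSpecialLinearGroup (Fin 3) K) = 20160 := by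
  have h1 := Cfsg.Agent.Lib.Helper38.card_SL_mul (F := K) 3 (by norm_num)
  rw [Matrix.card_GL_field, hK] at h1
  have h2 : (∏ i : Fin 3, (4 ^ 3 - 4 ^ (i : ℕ))) = 181440 := by
    simp [Fin.prod_univ_three]
  rw [h2] at h1
  have h3 := Subgroup.card_eq_card_quotient_mul_card_subgroup (Subgroup.center (Matrix.SpecialLinearGroup (Fin 3) K))
  rw [card_center3 hK] at h3
  have h4 : Nat.card (Matrix.ProjectiveSpecialLinearGroup (Fin 3) K) =
      Nat.card (Matrix.SpecialLinearGroup (Fin 3) K ⧸ Subgroup.center (Matrix.SpecialLinearGroup (Fin 3) K)) := rfl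
  rw [h4]
  omega

/-- Let F be a field with 2 elements and K a field with 4 elements. PSL_4(F) and PSL_3(K) have the same order (20160) but are not isomorphic. -/
theorem result {F K : Type*} [Field F] [Fintype F] [Field K] [Fintype K] (hF : Fintype.card F = 2) (hK : Fintype.card K = 4) : Nat.card (Matrix.ProjectiveSpecialLinearGroup (Fin 4) F) = Nat.card (Matrix.ProjectiveSpecialLinearGroup (Fin 3) K) ∧ ¬ Nonempty (Matrix.ProjectiveSpecialLinearGroup (Fin 4) F ≃* Matrix.ProjectiveSpecialLinearGroup (Fin 3) K) := by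
  refine ⟨by rw [card_psl4 hF, card_psl3 hK], ?_⟩
  rintro ⟨φ⟩
  obtain ⟨y, hy⟩ := exists_order_six hF
  have := no_order_six hK (φ y)
  rw [MulEquiv.orderOf_eq] at this
  exact this hy

end Cfsg.Agent.S2550
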