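import Cfsg.Statements.S2551
import Cfsg.Agent.S0256
import Cfsg.Agent.Lib.Helper5.Order60
import Cfsg.Agent.Lib.Helper89.GL42
import Cfsg.Agent.Lib.Helper89.FieldTransfer

set_option autoImplicit false
open Cfsg

namespace Cfsg.Agent.S2551

open Cfsg.Agent.Lib.Helper5 Cfsg.Agent.Lib.Helper89 Cfsg.Agent.S0256
open Matrix

/-- No permutation of seven points has order `15`. -/
theorem no15 (σ : Equiv.Perm (Fin 7)) : orderOf σ ≠ 15 := by
  intro h
  have hl : σ.cycleType.lcm = 15 := by rw [Equiv.Perm.lcm_cycleType, h]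
  have hs : σ.cycleType.sum ≤ 7 := by
    rw [Equiv.Perm.sum_cycleType]
    exact (Finset.card_le_univ _).trans (by simp)
  have hmem : ∀ b ∈ σ.cycleType, b = 3 ∨ b = 5 := by
    intro b hb
    have h2 : 2 ≤ b := Equiv.Perm.two_le_of_mem_cycleType hb
    have hd : b ∣ 15 := by rw [← hl]; exact Multiset.dvd_lcm hb
    have hle : b ≤ 7 := (Multiset.le_sum_of_mem hb).trans hs
    interval_cases b <;> simp_all
  by_cases h5 : 5 ∈ σ.cycleType
  · by_cases h3 : 3 ∈ σ.cycleType
    · obtain ⟨t, ht⟩ := Multiset.exists_cons_of_mem h5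
      rw [ht] at h3 hs
      rw [Multiset.mem_cons] at h3
      rcases h3 with h3 | h3
      · omega
      · have := Multiset.le_sum_of_mem h3
        rw [Multiset.sum_cons] at hs
        omega
    · have : σ.cycleType.lcm ∣ 5 := by
        rw [Multiset.lcm_dvd]
        intro b hb
        rcases hmem b hb with rfl | rfl
        · exact absurd hb h3
        · exact dvd_rfl
      rw [hl] at this
      omega
  · have : σ.cycleType.lcm ∣ 3 := by
      rw [Multiset.lcm_dvd]
      intro b hb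
      rcases hmem b hb with rfl | rfl
      · exact dvd_rfl
      · exact absurd hb h5
    rw [hl] at this
    omega

/-- A group of order `315` has an element of order `15`. -/
theorem exists_orderOf_fifteen {K : Type*} [Group K] [Finite K] (hK : Nat.card K = 315) :
    ∃ g : K, orderOf g = 15 := by
  classical
  have : Fact (Nat.Prime 5) := ⟨by norm_num⟩
  have : Fact (Nat.Prime 3) := ⟨by norm_num⟩
  let P : Sylow 5 K := default
  have hmul := (P : Subgroup K).card_mul_index
  rw [hK] at hmul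
  have hPidx : ¬ 5 ∣ (P : Subgroup K).index := P.not_dvd_index
  obtain ⟨k, hk⟩ := IsPGroup.iff_card.1 P.2
  have hPcard : Nat.card (P : Subgroup K) = 5 := by
    have hk5 : k ≤ 3 := by
      by_contra hlt
      push Not at hlt
      have : 5 ^ 4 ≤ 5 ^ k := Nat.pow_le_pow_right (by norm_num) hlt
      have hpos : 0 < (P : Subgroup K).index := Nat.pos_of_ne_zero (by
        intro h0; rw [h0] at hmul; omega)
      rw [hk] at hmul
      nlinarith
    rw [hk] at hmul ⊢
    interval_cases k <;> omega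
  have hPindex : (P : Subgroup K).index = 63 := by
    rw [hPcard] at hmul; omega
  set N : Subgroup K := Subgroup.normalizer ((P : Subgroup K) : Set K) with hN
  have hidx : Nat.card (Sylow 5 K) = N.index := Sylow.card_eq_index_normalizer P
  have hmod : N.index % 5 = 1 := by
    have := card_sylow_modEq_one 5 K
    rw [hidx] at this
    exact this
  have hdvd : N.index ∣ 63 := by
    rw [← hPindex]
    exact Subgroup.index_dvd_of_le Subgroup.le_normalizer
  have hNmul := N.card_mul_index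
  rw [hK] at hNmul
  have h3N : 3 ∣ Nat.card N := by
    have hle : N.index ≤ 63 := Nat.le_of_dvd (by norm_num) hdvd
    have hcases : N.index = 1 ∨ N.index = 21 := by
      interval_cases h : N.index <;> omega
    rcases hcases with h | h <;> rw [h] at hNmul <;> omega
  obtain ⟨x, hx⟩ := exists_prime_orderOf_dvd_card' (G := N) 3 h3N
  have hPc : IsCyclic (P : Subgroup K) := isCyclic_of_prime_card hPcard
  obtain ⟨y, hy⟩ := hPc.exists_generator
  have hyo : orderOf y = 5 := by
    rw [orderOf_eq_card_of_forall_mem_zpowers hy, hPcard]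
  have hyo' : orderOf (y : K) = 5 := by rw [Subgroup.orderOf_coe, hyo]
  have hxo' : orderOf (x : K) = 3 := by rw [Subgroup.orderOf_coe, hx]
  have hxN : (x : K) ∈ N := x.2
  have hconj : (x : K) * (y : K) * (x : K)⁻¹ ∈ (P : Subgroup K) :=
    (Subgroup.mem_normalizer_iff.1 hxN (y : K)).1 y.2
  obtain ⟨j, hj⟩ := Subgroup.mem_zpowers_iff.1 (hy ⟨_, hconj⟩)
  have hj' : (y : K) ^ j = (x : K) * (y : K) * (x : K)⁻¹ := by
    have := congrArg (Subtype.val) hj
    simpa using this
  obtain ⟨n, hn⟩ : ∃ n : ℕ, (y : K) ^ n = (x : K) * (y : K) * (x : K)⁻¹ := by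
    refine ⟨(j % 5).toNat, ?_⟩
    rw [← hj', ← zpow_natCast, Int.toNat_of_nonneg (Int.emod_nonneg _ (by norm_num))]
    have := zpow_mod_orderOf (y : K) j
    rw [hyo'] at this
    exact this
  have hpow : ∀ m : ℕ, (x : K) * (y : K) ^ m * (x : K)⁻¹ = (y : K) ^ (n * m) := by
    intro m
    rw [pow_mul, hn, conj_pow]
  have h1 : (x : K) * ((x : K) * ((x : K) * (y : K) * (x : K)⁻¹) * (x : K)⁻¹) * (x : K)⁻¹
      = (y : K) ^ (n * (n * n)) := by
    rw [← hn, hpow, hpow]
  have hx3 : (x : K) ^ 3 = 1 := by rw [← hxo']; exact pow_orderOf_eq_one _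
  have h2 : (x : K) * ((x : K) * ((x : K) * (y : K) * (x : K)⁻¹) * (x : K)⁻¹) * (x : K)⁻¹
      = (y : K) := by
    have : (x : K) * ((x : K) * ((x : K) * (y : K) * (x : K)⁻¹) * (x : K)⁻¹) * (x : K)⁻¹
        = (x : K) ^ 3 * (y : K) * ((x : K) ^ 3)⁻¹ := by
      simp only [pow_succ, pow_zero, one_mul, _root_.mul_inv_rev, mul_assoc]
    rw [this, hx3]; simp
  have h3 : (y : K) ^ (n * (n * n)) = (y : K) ^ 1 := by rw [← h1, h2, pow_one]
  rw [pow_eq_pow_iff_modEq, hyo'] at h3
  have hn1 : n % 5 = 1 := by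
    have h3' : (n * (n * n)) % 5 = 1 := h3
    have : (n * (n * n)) % 5 = ((n % 5) * ((n % 5) * (n % 5))) % 5 := by
      simp [Nat.mul_mod]
    rw [this] at h3'
    have hlt : n % 5 < 5 := Nat.mod_lt _ (by norm_num)
    interval_cases n % 5 <;> omega
  have hcomm : (x : K) * (y : K) * (x : K)⁻¹ = (y : K) := by
    rw [← hn]
    have : (y : K) ^ n = (y : K) ^ 1 := by
      rw [pow_eq_pow_iff_modEq, hyo']; exact hn1
    rw [this, pow_one]
  have hc : Commute (x : K) (y : K) := by
    have : (x : K) * (y : K) = (y : K) * (x : K) := by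
      calc (x : K) * (y : K) = ((x : K) * (y : K) * (x : K)⁻¹) * (x : K) := by group
        _ = (y : K) * (x : K) := by rw [hcomm]
    exact this
  refine ⟨(x : K) * (y : K), ?_⟩
  rw [hc.orderOf_mul_eq_mul_orderOf_of_coprime (by rw [hxo', hyo']; norm_num), hxo', hyo']

/-- A copy of `A₇` inside a group with a subgroup `H₀` of index `8` lies in a conjugate of `H₀`. -/
theorem exists_conj_le {G : Type*} [Group G] [Finite G] (H₀ H : Subgroup G)
    (hidx : H₀.index = 8) (e : H ≃* alternatingGroup (Fin 7)) :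
    ∃ g : G, ∀ h ∈ H, g⁻¹ * h * g ∈ H₀ := by
  classical
  have hHcard : Nat.card H = 2520 := by
    rw [Nat.card_congr e.toEquiv, nat_card_alternatingGroup]
    simp [Nat.factorial]
  have hsimple : IsSimpleGroup H := by
    have h7 : IsSimpleGroup (alternatingGroup (Fin 7)) :=
      alternatingGroup.isSimpleGroup (α := Fin 7) (by simp)
    have : Nontrivial H := by
      rw [← Finite.one_lt_card_iff_nontrivial, hHcard]; norm_num
    exact IsSimpleGroup.isSimpleGroup_of_surjective e.symm.toMonoidHom e.symm.surjective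
  have hX : Nat.card (G ⧸ H₀) = 8 := by rw [← Subgroup.index_eq_card, hidx]
  by_cases hfix : ∃ x : G ⧸ H₀, ∀ h : H, h • x = x
  · obtain ⟨x, hx⟩ := hfix
    obtain ⟨g, rfl⟩ := QuotientGroup.mk_surjective x
    refine ⟨g, fun h hh => ?_⟩
    have h1 := hx ⟨h, hh⟩
    have h2 : ((h * g : G) : G ⧸ H₀) = (g : G ⧸ H₀) := h1
    rw [QuotientGroup.eq] at h2
    have h3 := H₀.inv_mem h2
    have : ((h * g)⁻¹ * g)⁻¹ = g⁻¹ * h * g := by group
    rw [this] at h3
    exact h3
  · exfalso
    push Not at hfix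
    let x₀ : G ⧸ H₀ := ((1 : G) : G ⧸ H₀)
    set K : Subgroup H := MulAction.stabilizer H x₀ with hKdef
    have hKne : K ≠ ⊤ := by
      intro htop
      obtain ⟨h, hh⟩ := hfix x₀
      apply hh
      have : h ∈ K := by rw [htop]; trivial
      exact this
    have hidxK : K.index = (MulAction.orbit H x₀).ncard := MulAction.index_stabilizer H x₀
    have hle8 : K.index ≤ 8 := by
      rw [hidxK, ← hX]
      exact Set.ncard_le_card _
    have hdvd : Nat.card H ∣ K.index.factorial := card_dvd_factorial_index K hKne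
    rw [hHcard] at hdvd
    have h7 : 7 ≤ K.index := by
      by_contra hlt
      push Not at hlt
      have : K.index.factorial ∣ Nat.factorial 6 := Nat.factorial_dvd_factorial (by omega)
      have := hdvd.trans this
      norm_num [Nat.factorial] at this
    have hKmul := K.card_mul_index
    rw [hHcard] at hKmul
    have hcases : K.index = 7 ∨ K.index = 8 := by omega
    rcases hcases with h7' | h8
    · have hO : (MulAction.orbit H x₀).ncard = 7 := by rw [← hidxK, h7']
      have hOc : (MulAction.orbit H x₀)ᶜ.ncard = 1 := by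
        have := Set.ncard_add_ncard_compl (MulAction.orbit H x₀)
        rw [hX, hO] at this
        omega
      obtain ⟨y, hy⟩ := Set.ncard_eq_one.1 hOc
      obtain ⟨h, hh⟩ := hfix y
      apply hh
      have hyc : y ∈ (MulAction.orbit H x₀)ᶜ := by rw [hy]; rfl
      have : h • y ∈ (MulAction.orbit H x₀)ᶜ := by
        intro hmem
        apply hyc
        have h1 : MulAction.orbit H (h • y) = MulAction.orbit H x₀ :=
          MulAction.orbit_eq_iff.2 hmem
        rw [MulAction.orbit_smul] at h1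
        rw [← h1]
        exact MulAction.mem_orbit_self y
      rw [hy] at this
      exact this
    · have hK315 : Nat.card K = 315 := by rw [h8] at hKmul; omega
      obtain ⟨z, hz⟩ := exists_orderOf_fifteen hK315
      have h1 : orderOf (z : H) = 15 := by rw [Subgroup.orderOf_coe, hz]
      have h2 : orderOf (e (z : H)) = 15 := by rw [MulEquiv.orderOf_eq, h1]
      have h3 : orderOf ((e (z : H) : alternatingGroup (Fin 7)) : Equiv.Perm (Fin 7)) = 15 := by
        rw [Subgroup.orderOf_coe, h2]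
      exact no15 _ h3

/-- Under the same hypotheses and `|H₀| = 2520`, `H` is a conjugate of `H₀`. -/
theorem exists_conj_mem {G : Type*} [Group G] [Finite G] (H₀ H : Subgroup G)
    (hidx : H₀.index = 8) (hcard : Nat.card H₀ = 2520) (e : H ≃* alternatingGroup (Fin 7)) :
    ∃ g : G, ∀ h₀ ∈ H₀, g * h₀ * g⁻¹ ∈ H := by
  classical
  have hHcard : Nat.card H = 2520 := by
    rw [Nat.card_congr e.toEquiv, nat_card_alternatingGroup]
    simp [Nat.factorial]
  obtain ⟨g, hg⟩ := exists_conj_le H₀ H hidx e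
  refine ⟨g, ?_⟩
  set K' : Subgroup G := H₀.map (MulAut.conj g).toMonoidHom with hK'
  have hK'card : Nat.card K' = 2520 := by
    rw [← hcard]
    exact Nat.card_congr (H₀.equivMapOfInjective _ (MulAut.conj g).injective).symm.toEquiv
  have hle : H ≤ K' := by
    intro h hh
    refine ⟨g⁻¹ * h * g, hg h hh, ?_⟩
    simp [MulAut.conj_apply]
    group
  have heq : H = K' := Subgroup.eq_of_le_of_card_ge hle (by rw [hK'card, hHcard])
  intro h₀ hh₀
  rw [heq]
  exact ⟨h₀, hh₀, by simp [MulAut.conj_apply]⟩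

set_option maxRecDepth 100000 in
theorem cover0 : ∀ y : Fin 16, y ≠ 0 →
    ∃ a : Fin T0.length, TableChain.act tab (T0.getD a.val []) 1 = y := by
  decide

set_option maxRecDepth 100000 in
theorem cover1 : ∀ y : Fin 16, y ≠ 0 → y ≠ 1 →
    ∃ a : Fin T1.length, TableChain.act tab (T1.getD a.val []) 2 = y := by
  decide

theorem pt_surj : ∀ v : Fin 4 → K2, ∃ y, pt y = v := by decide

theorem pt_zero : pt 0 = 0 := by decide

theorem two_trans_base (v w : Fin 4 → K2) (hv : v ≠ 0) (hw : w ≠ 0) (hvw : v ≠ w) :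
    ∃ g ∈ D.H 4, g • pt 1 = v ∧ g • pt 2 = w := by
  obtain ⟨y, rfl⟩ := pt_surj v
  have hy : y ≠ 0 := by rintro rfl; exact hv pt_zero
  obtain ⟨a, ha⟩ := cover0 y hy
  set g₁ : SL4 := D.ev (T0.getD a.val []) with hg₁
  have hg₁mem : g₁ ∈ D.H 4 := TableChain.Data.hUS (D := D) level0 a
  have hg₁pt : g₁ • pt 1 = pt y := by
    have := D.ev_smul (T0.getD a.val []) 1
    rw [show TableChain.act D.tab (T0.getD a.val []) 1 = y from ha] at this
    exact this
  obtain ⟨y', hy'⟩ := pt_surj (g₁⁻¹ • w)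
  have hy'0 : y' ≠ 0 := by
    rintro rfl
    rw [pt_zero] at hy'
    apply hw
    have : w = g₁ • (0 : Fin 4 → K2) := by rw [hy', smul_inv_smul]
    rw [this, smul_zero]
  have hy'1 : y' ≠ 1 := by
    rintro rfl
    apply hvw
    rw [← hg₁pt, hy', smul_inv_smul]
  obtain ⟨a', ha'⟩ := cover1 y' hy'0 hy'1
  set g₂ : SL4 := D.ev (T1.getD a'.val []) with hg₂
  have hg₂mem : g₂ ∈ D.H 3 := TableChain.Data.hUS (D := D) level1 a'
  have hg₂pt : g₂ • pt 2 = pt y' := by
    have := D.ev_smul (T1.getD a'.val []) 2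
    rw [show TableChain.act D.tab (T1.getD a'.val []) 2 = y' from ha'] at this
    exact this
  have hg₂fix : g₂ • pt 1 = pt 1 :=
    D.H_le_stabilizer 3 1 level0.fix hg₂mem
  refine ⟨g₁ * g₂, (D.H 4).mul_mem hg₁mem (D.H_mono (by norm_num) hg₂mem), ?_, ?_⟩
  · rw [mul_smul, hg₂fix, hg₁pt]
  · rw [mul_smul, hg₂pt, hy', smul_inv_smul]

/-- The explicit `A₇` inside `SL₄(2)` is 2-transitive on non-zero vectors. -/
theorem two_trans (v w v' w' : Fin 4 → K2) (hv : v ≠ 0) (hw : w ≠ 0) (hvw : v ≠ w)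
    (hv' : v' ≠ 0) (hw' : w' ≠ 0) (hvw' : v' ≠ w') :
    ∃ g ∈ D.H 4, g.1 *ᵥ v = v' ∧ g.1 *ᵥ w = w' := by
  obtain ⟨g, hg, h1, h2⟩ := two_trans_base v w hv hw hvw
  obtain ⟨g', hg', h1', h2'⟩ := two_trans_base v' w' hv' hw' hvw'
  refine ⟨g' * g⁻¹, (D.H 4).mul_mem hg' ((D.H 4).inv_mem hg), ?_, ?_⟩
  · show (g' * g⁻¹) • v = v'
    rw [← h1, mul_smul, inv_smul_smul, h1']
  · show (g' * g⁻¹) • w = w'
    rw [← h2, mul_smul, inv_smul_smul, h2']

section transfer

variable {F : Type*} [Field F]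

theorem gl_inv_mulVec (A : Matrix.GeneralLinearGroup (Fin 4) F) (v : Fin 4 → F) :
    (A⁻¹ : Matrix.GeneralLinearGroup (Fin 4) F).1 *ᵥ (A.1 *ᵥ v) = v := by
  rw [Matrix.mulVec_mulVec, ← Units.val_mul, inv_mul_cancel, Units.val_one, Matrix.one_mulVec]

theorem gl_mulVec_inv (A : Matrix.GeneralLinearGroup (Fin 4) F) (v : Fin 4 → F) :
    A.1 *ᵥ ((A⁻¹ : Matrix.GeneralLinearGroup (Fin 4) F).1 *ᵥ v) = v := by
  rw [Matrix.mulVec_mulVec, ← Units.val_mul, mul_inv_cancel, Units.val_one, Matrix.one_mulVec]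

end transfer

/-- Let F be the field with 2 elements. GL_4(F) (≅ A_8) has a subgroup isomorphic to the alternating group A_7, and every such subgroup acts 2-transitively on the 15 non-zero vectors of F⁴: any ordered pair of distinct non-zero vectors is carried to any other by some element of the subgroup. -/
theorem result {F : Type*} [Field F] [Fintype F] (hF : Fintype.card F = 2) : (∃ H : Subgroup (Matrix.GeneralLinearGroup (Fin 4) F), Nonempty (H ≃* alternatingGroup (Fin 7))) ∧ ∀ H : Subgroup (Matrix.GeneralLinearGroup (Fin 4) F), Nonempty (H ≃* alternatingGroup (Fin 7)) → ∀ v w v' w' : Fin 4 → F, v ≠ 0 → w ≠ 0 → v ≠ w → v' ≠ 0 → w' ≠ 0 → v' ≠ w' → ∃ g ∈ H, (g : Matrix (Fin 4) (Fin 4) F).mulVec v = v' ∧ (g : Matrix (Fin 4) (Fin 4) F).mulVec w = w' := by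
  classical
  let σ : ZMod 2 ≃+* F := ZMod.ringEquivOfPrime F Nat.prime_two hF
  obtain ⟨ε₀⟩ := GL42.gl_four_two_equiv_alternating
  let ε : Matrix.GeneralLinearGroup (Fin 4) F ≃* alternatingGroup (Fin 8) :=
    (glCongr (ι := Fin 4) σ).symm.trans ε₀
  have hGcard : Nat.card (Matrix.GeneralLinearGroup (Fin 4) F) = 20160 := by
    rw [Nat.card_congr ε.toEquiv, nat_card_alternatingGroup]
    simp [Nat.factorial]
  constructor
  · -- existence
    let s : Finset (Fin 8) := Finset.univ.erase 7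
    let f : alternatingGroup s →* Matrix.GeneralLinearGroup (Fin 4) F :=
      ε.symm.toMonoidHom.comp (alternatingGroup.ofSubtype s)
    have hf : Function.Injective f :=
      ε.symm.injective.comp alternatingGroup.ofSubtype_injective
    have hs : Fintype.card s = 7 := by
      rw [Fintype.card_coe]; decide
    let e7 : s ≃ Fin 7 := Fintype.equivFinOfCardEq hs
    exact ⟨f.range, ⟨(MonoidHom.ofInjective hf).symm.trans (Equiv.altCongrHom e7)⟩⟩
  · rintro H ⟨e⟩ v w v' w' hv hw hvw hv' hw' hvw'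
    let Ψ : SL4 →* Matrix.GeneralLinearGroup (Fin 4) F :=
      (glCongr (ι := Fin 4) σ).toMonoidHom.comp Matrix.SpecialLinearGroup.toGL
    have hΨ : Function.Injective Ψ :=
      (glCongr (ι := Fin 4) σ).injective.comp Matrix.SpecialLinearGroup.toGL_injective
    have hΨcoe : ∀ g : SL4, ((Ψ g : Matrix.GeneralLinearGroup (Fin 4) F) :
        Matrix (Fin 4) (Fin 4) F) = (g.1).map σ := fun g => rfl
    let H₀ : Subgroup (Matrix.GeneralLinearGroup (Fin 4) F) := (D.H 4).map Ψ
    have hH₀card : Nat.card H₀ = 2520 := by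
      rw [← card_A7]
      exact Nat.card_congr ((D.H 4).equivMapOfInjective Ψ hΨ).symm.toEquiv
    have hidx : H₀.index = 8 := by
      have := H₀.card_mul_index
      rw [hH₀card, hGcard] at this
      omega
    obtain ⟨g, hg⟩ := exists_conj_mem H₀ H hidx hH₀card e
    -- pull the vectors back
    have key : ∀ u : Fin 4 → F, ∃ u₀ : Fin 4 → K2, u = σ ∘ u₀ := by
      intro u
      refine ⟨σ.symm ∘ u, ?_⟩
      ext i; simp
    obtain ⟨a, ha⟩ := key ((g⁻¹ : Matrix.GeneralLinearGroup (Fin 4) F).1 *ᵥ v)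
    obtain ⟨b, hb⟩ := key ((g⁻¹ : Matrix.GeneralLinearGroup (Fin 4) F).1 *ᵥ w)
    obtain ⟨a', ha'⟩ := key ((g⁻¹ : Matrix.GeneralLinearGroup (Fin 4) F).1 *ᵥ v')
    obtain ⟨b', hb'⟩ := key ((g⁻¹ : Matrix.GeneralLinearGroup (Fin 4) F).1 *ᵥ w')
    have hσ0 : (σ ∘ (0 : Fin 4 → K2)) = (0 : Fin 4 → F) := by ext i; simp
    have hne0 : ∀ (x : Fin 4 → F) (c : Fin 4 → K2), x ≠ 0 →
        (g⁻¹ : Matrix.GeneralLinearGroup (Fin 4) F).1 *ᵥ x = σ ∘ c → c ≠ 0 := by
      rintro x c hx hc rfl
      apply hx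
      have := gl_mulVec_inv g x
      rw [hc, hσ0, Matrix.mulVec_zero] at this
      exact this.symm
    have hne : ∀ (x y : Fin 4 → F) (c d : Fin 4 → K2), x ≠ y →
        (g⁻¹ : Matrix.GeneralLinearGroup (Fin 4) F).1 *ᵥ x = σ ∘ c →
        (g⁻¹ : Matrix.GeneralLinearGroup (Fin 4) F).1 *ᵥ y = σ ∘ d → c ≠ d := by
      rintro x y c d hxy hc hd rfl
      apply hxy
      rw [← gl_mulVec_inv g x, ← gl_mulVec_inv g y, hc, hd]
    obtain ⟨h, hh, h1, h2⟩ := two_trans a b a' b' (hne0 v a hv ha) (hne0 w b hw hb)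
      (hne v w a b hvw ha hb) (hne0 v' a' hv' ha') (hne0 w' b' hw' hb') (hne v' w' a' b' hvw' ha' hb')
    refine ⟨g * Ψ h * g⁻¹, hg (Ψ h) ⟨h, hh, rfl⟩, ?_, ?_⟩
    · rw [Units.val_mul, Units.val_mul, ← Matrix.mulVec_mulVec, ← Matrix.mulVec_mulVec, ha, hΨcoe,
        map_mulVec_comp, h1, ← ha', gl_mulVec_inv]
    · rw [Units.val_mul, Units.val_mul, ← Matrix.mulVec_mulVec, ← Matrix.mulVec_mulVec, hb, hΨcoe,
        map_mulVec_comp, h2, ← hb', gl_mulVec_inv]

end Cfsg.Agent.S2551
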