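import Cfsg.Statements.S2552

set_option autoImplicit false
open Cfsg

namespace Cfsg.Agent.S2552

/-- a linear equivalence with determinant one mapping `U₁` to `U₂` -/
theorem exists_equiv {F : Type*} [Field F] {V : Type*} [AddCommGroup V] [Module F V] [FiniteDimensional F V]
    (U₁ U₂ : Submodule F V) (h : Module.finrank F U₁ = Module.finrank F U₂) :
    ∃ e : V ≃ₗ[F] V, LinearMap.det (e : V →ₗ[F] V) = 1 ∧ U₁.map (e : V →ₗ[F] V) = U₂ := by
  classical
  obtain ⟨e, he⟩ := Submodule.exists_linearEquiv_restrict_eq (LinearEquiv.ofFinrankEq U₁ U₂ h)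
  have hmap : U₁.map (e : V →ₗ[F] V) = U₂ := by
    apply Submodule.eq_of_le_of_finrank_eq
    · rintro _ ⟨x, hx, rfl⟩
      have := he ⟨x, hx⟩
      simp only [LinearEquiv.coe_coe]
      rw [← this]
      exact Submodule.coe_mem _
    · rw [← h]
      exact LinearEquiv.finrank_map_eq e U₁
  by_cases htop : U₂ = ⊤
  · -- then U₁ = ⊤ too
    have h1 : U₁ = ⊤ := by
      apply Submodule.eq_top_of_finrank_eq
      rw [h, htop, finrank_top]
    refine ⟨LinearEquiv.refl F V, by simp, ?_⟩
    rw [h1, htop]
    simp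
  · have hlt : U₂ < ⊤ := lt_top_iff_ne_top.mpr htop
    obtain ⟨f, hf0, hfker⟩ := Submodule.exists_le_ker_of_lt_top U₂ hlt
    obtain ⟨w, hw⟩ : ∃ w, f w ≠ 0 := by
      by_contra hcon
      push Not at hcon
      apply hf0
      ext v
      simpa using hcon v
    set d := LinearMap.det (e : V →ₗ[F] V) with hd
    have hd0 : d ≠ 0 := by
      have := LinearEquiv.isUnit_det' e
      exact this.ne_zero
    set w' := ((d⁻¹ - 1) / f w) • w with hw'
    have hfw' : 1 + f w' = d⁻¹ := by
      rw [hw', map_smul, smul_eq_mul, div_mul_cancel₀ _ hw]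
      ring
    have hunit : IsUnit (1 + f w') := by
      rw [hfw']
      exact (inv_ne_zero hd0).isUnit
    set s := LinearEquiv.dilatransvection hunit with hs
    have hsx : ∀ x, s x = x + f x • w' := fun x => LinearEquiv.dilatransvection.apply
    refine ⟨e.trans s, ?_, ?_⟩
    · rw [LinearEquiv.coe_trans, LinearMap.det_comp, LinearEquiv.dilatransvection.coe_toLinearMap,
        LinearMap.transvection.det, hfw', ← hd]
      exact inv_mul_cancel₀ hd0
    · rw [LinearEquiv.coe_trans, Submodule.map_comp, hmap]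
      ext x
      constructor
      · rintro ⟨y, hy, rfl⟩
        have hy' : f y = 0 := hfker hy
        rw [LinearEquiv.coe_coe, hsx, hy', zero_smul, add_zero]
        exact hy
      · intro hx
        have hx' : f x = 0 := hfker hx
        refine ⟨x, hx, ?_⟩
        rw [LinearEquiv.coe_coe, hsx, hx', zero_smul, add_zero]

/-- Let F be a finite field and n ≥ 1. For every k, the special linear group SL_n(F) acts transitively on the set of k-dimensional subspaces of F^n: any two subspaces of the same dimension are carried onto each other by some matrix of determinant 1. -/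
theorem result {F : Type*} [Field F] [Fintype F] (n : ℕ) (hn : 1 ≤ n) (U₁ U₂ : Submodule F (Fin n → F)) (h : Module.finrank F U₁ = Module.finrank F U₂) : ∃ g : Matrix.SpecialLinearGroup (Fin n) F, U₁.map ((Matrix.SpecialLinearGroup.toLin' g : (Fin n → F) ≃ₗ[F] (Fin n → F)) : (Fin n → F) →ₗ[F] (Fin n → F)) = U₂ := by
  obtain ⟨e, hdet, hmap⟩ := exists_equiv U₁ U₂ h
  have hd : (LinearMap.toMatrix' (e : (Fin n → F) →ₗ[F] (Fin n → F))).det = 1 := by
    rw [LinearMap.det_toMatrix', hdet]
  obtain ⟨g, hg⟩ : ∃ g : Matrix.SpecialLinearGroup (Fin n) F, (g : Matrix (Fin n) (Fin n) F) = LinearMap.toMatrix' (e : (Fin n → F) →ₗ[F] (Fin n → F)) :=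
    ⟨⟨_, hd⟩, rfl⟩
  refine ⟨g, ?_⟩
  rw [Matrix.SpecialLinearGroup.toLin'_to_linearMap, hg, Matrix.toLin'_toMatrix']
  exact hmap

end Cfsg.Agent.S2552
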