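import Cfsg.Statements.S2556
import Cfsg.Agent.Lib.Helper60.SzAutCore
import Cfsg.Agent.Lib.Helper60.SzLieBridge
import Cfsg.Agent.Lib.Helper6.SzSylow

set_option autoImplicit false
open Cfsg

namespace Cfsg.Agent.S2556

open Cfsg.Agent.Lib.Helper6.Sz Cfsg.Agent.Lib.Helper60.SzLie Cfsg.Agent.Lib.Helper60.SzAut

/-- the abstract model is the standard unipotent subgroup -/
noncomputable def szTEquiv {F : Type*} [Field F] [Fintype F] [CharP F 2] (s : F →+* F)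
    (hs : ∀ x, s (s x) = x ^ 2) : SzT s ≃* ↥(Qs s hs) :=
  MulEquiv.ofBijective
    ({ toFun := fun x => qT s hs x.a x.b
       map_one' := qT_zero s hs
       map_mul' := fun x y => (qT_mul s hs x.a x.b y.a y.b).symm } : SzT s →* ↥(Qs s hs))
    ⟨fun x y h => by
        obtain ⟨h1, h2⟩ := qT_inj s hs h
        exact SzT.ext h1 h2,
     fun g => by
        obtain ⟨a, b, rfl⟩ := qT_surj s hs g
        exact ⟨⟨a, b⟩, rfl⟩⟩


/-- Let S be a Sylow 2-subgroup of the Suzuki group Sz(q), q = 2ⁿ with n = 2m + 1 ≥ 3 (realised as 4 × 4 matrices over the field with q elements). Then the largest normal 2-subgroup of the automorphism group of S is elementary abelian of order 2^(n²), and the automorphism group of S has order 2^(n²) · n · (q − 1). -/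
theorem result {S : Type*} [Group S] [Finite S] (m : ℕ) (hm : 1 ≤ m)
    {F : Type*} [Field F] [Fintype F] (hF : Fintype.card F = 2 ^ (2 * m + 1))
    (P : Sylow 2 ↥(Cfsg.Lie.Sz F (2 ^ (m + 1)))) (hS : Nonempty (S ≃* ↥(P : Subgroup ↥(Cfsg.Lie.Sz F (2 ^ (m + 1)))))) :
    Cfsg.IsElementaryAbelian 2 (Cfsg.pCore 2 (MulAut S)) ∧ Nat.card ↥(Cfsg.pCore 2 (MulAut S)) = 2 ^ ((2 * m + 1) ^ 2) ∧
      Nat.card (MulAut S) = 2 ^ ((2 * m + 1) ^ 2) * ((2 * m + 1) * (2 ^ (2 * m + 1) - 1)) := by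
  haveI : Fact (Nat.Prime 2) := ⟨Nat.prime_two⟩
  haveI : CharP F 2 := charP_two hF
  obtain ⟨e1⟩ := hS
  have hn : Nat.card F = 2 ^ (2 * m + 1) := Nat.card_eq_fintype_card.trans hF
  have hθ : ∀ x, sig F m (sig F m x) = x ^ 2 := sig_sig hF
  have hnt : ∃ y : F, sig F m y ≠ y ^ 2 := sig_nt hm hF
  have h4 : ∃ x : F, x ^ 4 ≠ x := exists_pow_four_ne hn (by omega)
  let e0 : ↥(Cfsg.Lie.Sz F (2 ^ (m + 1))) ≃* ↥(G (sig F m)) := szEquiv hm hF
  let R : Sylow 2 ↥(G (sig F m)) :=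
    Sylow.mapSurjective (f := (e0 : ↥(Cfsg.Lie.Sz F (2 ^ (m + 1))) →* ↥(G (sig F m))))
      e0.surjective P
  let e2 : ↥(P : Subgroup ↥(Cfsg.Lie.Sz F (2 ^ (m + 1)))) ≃* ↥(R : Subgroup ↥(G (sig F m))) :=
    e0.subgroupMap (P : Subgroup ↥(Cfsg.Lie.Sz F (2 ^ (m + 1))))
  let e3 : ↥(Qs (sig F m) hθ) ≃* ↥(R : Subgroup ↥(G (sig F m))) :=
    Sylow.equiv (Q0 (sig F m) hθ hnt hn) R
  let e : S ≃* SzT (sig F m) := e1.trans (e2.trans (e3.symm.trans (szTEquiv (sig F m) hθ).symm))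
  obtain ⟨h1, h2, h3⟩ := aut_structure e hn hθ h4
  have hpow : Nat.card F ^ (2 * m + 1) = 2 ^ ((2 * m + 1) ^ 2) := by rw [hn, ← pow_mul, sq]
  exact ⟨h1, by rw [h2, hpow], by rw [h3, hpow, mul_comm (2 ^ (2 * m + 1) - 1)]⟩

end Cfsg.Agent.S2556
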