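import Cfsg.Statements.S2562

set_option autoImplicit false
open Cfsg

namespace Cfsg.Agent.S2562

open Module

/-- the dot product as a linear map into the dual -/
def dotDual (K : Type*) [Field K] (k : ℕ) : (Fin k → K) →ₗ[K] Module.Dual K (Fin k → K) :=
  LinearMap.mk₂ K (fun x y => x ⬝ᵥ y) (fun x x' y => add_dotProduct x x' y)
    (fun c x y => smul_dotProduct c x y) (fun x y y' => dotProduct_add x y y')
    (fun c x y => dotProduct_smul c x y)

theorem dotDual_apply {K : Type*} [Field K] {k : ℕ} (x y : Fin k → K) : dotDual K k x y = x ⬝ᵥ y := rfl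

theorem dotDual_injective {K : Type*} [Field K] {k : ℕ} : Function.Injective (dotDual K k) := by
  rw [injective_iff_map_eq_zero]
  intro x hx
  ext i
  have := congrArg (fun f : Module.Dual K (Fin k → K) => f (Pi.single i 1)) hx
  simpa [dotDual_apply] using this

/-- Lemma A -/
theorem finrank_le_of_isotropic {K : Type*} [Field K] {W : Type*} [AddCommGroup W] [Module K W] [FiniteDimensional K W]
    (k : ℕ) (U : Submodule K W) (X Y : W →ₗ[K] (Fin k → K))
    (h1 : ∀ u ∈ U, Y u = 0 → X u = 0 → u = 0)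
    (h2 : ∀ u ∈ U, ∀ u' ∈ U, Y u = 0 → X u ⬝ᵥ Y u' = 0) :
    finrank K U ≤ k := by
  set YU : U →ₗ[K] (Fin k → K) := Y.comp U.subtype with hYU
  set R := LinearMap.range YU with hR
  have e1 := LinearMap.finrank_range_add_finrank_ker YU
  have e2 := Subspace.finrank_add_finrank_dualAnnihilator_eq R
  rw [Module.finrank_fintype_fun_eq_card, Fintype.card_fin] at e2
  -- injective map ker YU → R.dualAnnihilator
  let g : LinearMap.ker YU →ₗ[K] R.dualAnnihilator :=
    LinearMap.codRestrict R.dualAnnihilator ((dotDual K k).comp (X.comp (U.subtype.comp (LinearMap.ker YU).subtype))) (by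
      intro u
      rw [Submodule.mem_dualAnnihilator]
      rintro _ ⟨u', rfl⟩
      have hu : Y (u : U) = 0 := u.2
      exact h2 _ (u : U).2 _ u'.2 hu)
  have hg : Function.Injective g := by
    rw [injective_iff_map_eq_zero]
    intro u hu
    have h3 : dotDual K k (X ((u : U) : W)) = 0 := congrArg Subtype.val hu
    have h4 : X ((u : U) : W) = 0 := by
      apply dotDual_injective
      rw [h3, map_zero]
    have h5 : Y ((u : U) : W) = 0 := u.2
    have h6 := h1 _ (u : U).2 h5 h4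
    apply Subtype.ext
    apply Subtype.ext
    exact h6
  have e3 := LinearMap.finrank_le_finrank_of_injective hg
  have e1' : finrank K R + finrank K (LinearMap.ker YU) = finrank K U := e1
  have e2' : finrank K R + finrank K R.dualAnnihilator = k := e2
  have e3' : finrank K (LinearMap.ker YU) ≤ finrank K R.dualAnnihilator := e3
  omega


theorem aniso : ∀ a b : ZMod 2, a ^ 2 + 1 * a * b + 1 * b ^ 2 = 0 → a = 0 ∧ b = 0 := by decide

/-- part 1 -/
theorem part1 (m : ℕ) : ∃ U : Submodule (ZMod 2) (Fin m ⊕ Fin m → ZMod 2), (∀ u ∈ U, Cfsg.quadFormPlus m (ZMod 2) u = 0) ∧ Module.finrank (ZMod 2) ↥U = m := by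
  let P : (Fin m ⊕ Fin m → ZMod 2) →ₗ[ZMod 2] (Fin m → ZMod 2) := LinearMap.funLeft (ZMod 2) (ZMod 2) Sum.inr
  have hP : Function.Surjective P := LinearMap.funLeft_surjective_of_injective _ _ _ Sum.inr_injective
  refine ⟨LinearMap.ker P, ?_, ?_⟩
  · intro u hu
    have h : ∀ i, u (Sum.inr i) = 0 := fun i => congrFun hu i
    simp [Cfsg.quadFormPlus, h]
  · have e1 := LinearMap.finrank_range_add_finrank_ker P
    rw [LinearMap.range_eq_top.mpr hP, finrank_top, Module.finrank_fintype_fun_eq_card,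
      Module.finrank_fintype_fun_eq_card, Fintype.card_sum, Fintype.card_fin] at e1
    omega

theorem part2 (m : ℕ) (U : Submodule (ZMod 2) (Fin m ⊕ Fin m → ZMod 2)) (hU : ∀ u ∈ U, Cfsg.quadFormPlus m (ZMod 2) u = 0) :
    Module.finrank (ZMod 2) ↥U ≤ m := by
  apply finrank_le_of_isotropic m U (LinearMap.funLeft (ZMod 2) (ZMod 2) Sum.inl) (LinearMap.funLeft (ZMod 2) (ZMod 2) Sum.inr)
  · intro u _ hy hx
    ext i
    rcases i with i | i
    · exact congrFun hx i
    · exact congrFun hy i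
  · intro u hu u' hu' hy
    have h1 := hU _ (U.add_mem hu hu')
    have h2 := hU _ hu'
    have hy' : ∀ i, u (Sum.inr i) = 0 := fun i => congrFun hy i
    simp only [Cfsg.quadFormPlus, Pi.add_apply, hy', zero_add] at h1 h2
    simp only [add_mul, Finset.sum_add_distrib, h2, add_zero] at h1
    exact h1

theorem part3 (m : ℕ) (hm : 1 ≤ m) : ∃ U : Submodule (ZMod 2) ((Fin (m - 1) ⊕ Fin (m - 1)) ⊕ Fin 2 → ZMod 2), (∀ u ∈ U, Cfsg.quadFormMinus (m - 1) (ZMod 2) 1 1 u = 0) ∧ Module.finrank (ZMod 2) ↥U = m - 1 := by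
  let g : Fin (m - 1) ⊕ Fin 2 → (Fin (m - 1) ⊕ Fin (m - 1)) ⊕ Fin 2 := Sum.map Sum.inr id
  have hg : Function.Injective g := Sum.map_injective.mpr ⟨Sum.inr_injective, Function.injective_id⟩
  let P : ((Fin (m - 1) ⊕ Fin (m - 1)) ⊕ Fin 2 → ZMod 2) →ₗ[ZMod 2] (Fin (m - 1) ⊕ Fin 2 → ZMod 2) := LinearMap.funLeft (ZMod 2) (ZMod 2) g
  have hP : Function.Surjective P := LinearMap.funLeft_surjective_of_injective _ _ _ hg
  refine ⟨LinearMap.ker P, ?_, ?_⟩
  · intro u hu
    have h1 : ∀ i, u (Sum.inl (Sum.inr i)) = 0 := fun i => congrFun hu (Sum.inl i)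
    have h2 : ∀ j, u (Sum.inr j) = 0 := fun j => congrFun hu (Sum.inr j)
    simp [Cfsg.quadFormMinus, h1, h2]
  · have e1 := LinearMap.finrank_range_add_finrank_ker P
    rw [LinearMap.range_eq_top.mpr hP, finrank_top, Module.finrank_fintype_fun_eq_card,
      Module.finrank_fintype_fun_eq_card, Fintype.card_sum, Fintype.card_sum, Fintype.card_sum, Fintype.card_fin, Fintype.card_fin] at e1
    omega

theorem part4 (m : ℕ) (U : Submodule (ZMod 2) ((Fin (m - 1) ⊕ Fin (m - 1)) ⊕ Fin 2 → ZMod 2))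
    (hU : ∀ u ∈ U, Cfsg.quadFormMinus (m - 1) (ZMod 2) 1 1 u = 0) :
    Module.finrank (ZMod 2) ↥U ≤ m - 1 := by
  have key : ∀ u ∈ U, (LinearMap.funLeft (ZMod 2) (ZMod 2) (Sum.inl ∘ Sum.inr : Fin (m - 1) → (Fin (m - 1) ⊕ Fin (m - 1)) ⊕ Fin 2)) u = 0 →
      u (Sum.inr 0) = 0 ∧ u (Sum.inr 1) = 0 := by
    intro u hu hy
    have hy' : ∀ i, u (Sum.inl (Sum.inr i)) = 0 := fun i => congrFun hy i
    have h1 := hU u hu
    simp only [Cfsg.quadFormMinus, hy', mul_zero, Finset.sum_const_zero, zero_add] at h1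
    exact aniso _ _ h1
  apply finrank_le_of_isotropic (m - 1) U (LinearMap.funLeft (ZMod 2) (ZMod 2) (Sum.inl ∘ Sum.inl)) (LinearMap.funLeft (ZMod 2) (ZMod 2) (Sum.inl ∘ Sum.inr))
  · intro u hu hy hx
    obtain ⟨hz0, hz1⟩ := key u hu hy
    ext i
    rcases i with (i | i) | i
    · exact congrFun hx i
    · exact congrFun hy i
    · fin_cases i
      · exact hz0
      · exact hz1
  · intro u hu u' hu' hy
    obtain ⟨hz0, hz1⟩ := key u hu hy
    have h1 := hU _ (U.add_mem hu hu')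
    have h2 := hU _ hu'
    have hy' : ∀ i, u (Sum.inl (Sum.inr i)) = 0 := fun i => congrFun hy i
    simp only [Cfsg.quadFormMinus, Pi.add_apply, hy', hz0, hz1, zero_add] at h1 h2
    simp only [add_mul, Finset.sum_add_distrib] at h1
    rw [add_assoc, h2, add_zero] at h1
    exact h1

/-- Witt indices over the field of two elements, m ≥ 1: for the plus-type form Σ xᵢyᵢ in dimension 2m some m-dimensional subspace is totally singular and no totally singular subspace has larger dimension; for the minus-type form Σ xᵢyᵢ + (z₁² + z₁z₂ + z₂²) in dimension 2m the maximal dimension of a totally singular subspace is m − 1. -/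
theorem result (m : ℕ) (hm : 1 ≤ m) :
    (∃ U : Submodule (ZMod 2) (Fin m ⊕ Fin m → ZMod 2), (∀ u ∈ U, Cfsg.quadFormPlus m (ZMod 2) u = 0) ∧ Module.finrank (ZMod 2) ↥U = m) ∧
    (∀ U : Submodule (ZMod 2) (Fin m ⊕ Fin m → ZMod 2), (∀ u ∈ U, Cfsg.quadFormPlus m (ZMod 2) u = 0) → Module.finrank (ZMod 2) ↥U ≤ m) ∧
    (∃ U : Submodule (ZMod 2) ((Fin (m - 1) ⊕ Fin (m - 1)) ⊕ Fin 2 → ZMod 2), (∀ u ∈ U, Cfsg.quadFormMinus (m - 1) (ZMod 2) 1 1 u = 0) ∧ Module.finrank (ZMod 2) ↥U = m - 1) ∧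
    (∀ U : Submodule (ZMod 2) ((Fin (m - 1) ⊕ Fin (m - 1)) ⊕ Fin 2 → ZMod 2), (∀ u ∈ U, Cfsg.quadFormMinus (m - 1) (ZMod 2) 1 1 u = 0) → Module.finrank (ZMod 2) ↥U ≤ m - 1) :=
  ⟨part1 m, part2 m, part3 m hm, part4 m⟩

end Cfsg.Agent.S2562
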