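import Cfsg.Statements.S2561
import Cfsg.Agent.S2562

set_option autoImplicit false
open Cfsg

namespace Cfsg.Agent.S2561

abbrev V (m : ℕ) := Fin m ⊕ Fin m → ZMod 2

/-- explicit polar form -/
def Bx {m : ℕ} (u v : V m) : ZMod 2 := ∑ i : Fin m, (u (Sum.inl i) * v (Sum.inr i) + v (Sum.inl i) * u (Sum.inr i))

theorem Q_add {m : ℕ} (u v : V m) : quadFormPlus m (ZMod 2) (u + v) = quadFormPlus m (ZMod 2) u + quadFormPlus m (ZMod 2) v + Bx u v := by
  simp only [quadFormPlus, Bx, Pi.add_apply, ← Finset.sum_add_distrib]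
  apply Finset.sum_congr rfl
  intro i _
  ring

theorem pol_eq {m : ℕ} (u v : V m) : quadFormPlus m (ZMod 2) (u + v) - quadFormPlus m (ZMod 2) u - quadFormPlus m (ZMod 2) v = Bx u v := by
  rw [Q_add]; ring

theorem Bx_add_left {m : ℕ} (u u' v : V m) : Bx (u + u') v = Bx u v + Bx u' v := by
  simp only [Bx, Pi.add_apply, ← Finset.sum_add_distrib]
  apply Finset.sum_congr rfl
  intro i _
  ring

theorem Bx_add_right {m : ℕ} (u v v' : V m) : Bx u (v + v') = Bx u v + Bx u v' := by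
  simp only [Bx, Pi.add_apply, ← Finset.sum_add_distrib]
  apply Finset.sum_congr rfl
  intro i _
  ring

theorem Bx_comm {m : ℕ} (u v : V m) : Bx u v = Bx v u := by
  simp only [Bx]
  apply Finset.sum_congr rfl
  intro i _
  ring

theorem Bx_smul_left {m : ℕ} (c : ZMod 2) (u v : V m) : Bx (c • u) v = c * Bx u v := by
  simp only [Bx, Pi.smul_apply, smul_eq_mul, Finset.mul_sum]
  apply Finset.sum_congr rfl
  intro i _
  ring

theorem Bx_smul_right {m : ℕ} (c : ZMod 2) (u v : V m) : Bx u (c • v) = c * Bx u v := by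
  rw [Bx_comm, Bx_smul_left, Bx_comm]

theorem zmod2_sq (c : ZMod 2) : c * c = c := by
  revert c; decide

theorem zmod2_add_self (c : ZMod 2) : c + c = 0 := by
  revert c; decide

theorem Bx_self {m : ℕ} (u : V m) : Bx u u = 0 := by
  simp only [Bx]
  apply Finset.sum_eq_zero
  intro i _
  exact zmod2_add_self _

theorem Q_smul {m : ℕ} (c : ZMod 2) (u : V m) : quadFormPlus m (ZMod 2) (c • u) = c * quadFormPlus m (ZMod 2) u := by
  simp only [quadFormPlus, Pi.smul_apply, smul_eq_mul, Finset.mul_sum]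
  apply Finset.sum_congr rfl
  intro i _
  have := zmod2_sq c
  calc c * u (Sum.inl i) * (c * u (Sum.inr i)) = (c * c) * (u (Sum.inl i) * u (Sum.inr i)) := by ring
    _ = c * (u (Sum.inl i) * u (Sum.inr i)) := by rw [this]

theorem Bx_single_inl {m : ℕ} (i : Fin m) (w : V m) : Bx (Pi.single (Sum.inl i) 1) w = w (Sum.inr i) := by
  simp only [Bx]
  rw [Finset.sum_eq_single i]
  · simp
  · intro j _ hj
    simp [Pi.single_apply, hj]
  · simp

theorem Bx_single_inr {m : ℕ} (i : Fin m) (w : V m) : Bx (Pi.single (Sum.inr i) 1) w = w (Sum.inl i) := by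
  simp only [Bx]
  rw [Finset.sum_eq_single i]
  · simp
  · intro j _ hj
    simp [Pi.single_apply, hj]
  · simp

/-- the form `q_w` -/
def qw {m : ℕ} (w : V m) (v : V m) : ZMod 2 := quadFormPlus m (ZMod 2) v + Bx v w

/-- the polarization predicate -/
def IsPol {m : ℕ} (q : V m → ZMod 2) : Prop :=
  ∀ u v : V m, q (u + v) = q u + q v + (quadFormPlus m (ZMod 2) (u + v) - quadFormPlus m (ZMod 2) u - quadFormPlus m (ZMod 2) v)

theorem isPol_qw {m : ℕ} (w : V m) : IsPol (qw w) := by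
  intro u v
  simp only [qw, pol_eq, Q_add, Bx_add_left]
  ring

theorem additive_eq_sum {ι : Type*} [Fintype ι] [DecidableEq ι] (l : (ι → ZMod 2) → ZMod 2)
    (hl : ∀ u v, l (u + v) = l u + l v) (v : ι → ZMod 2) : l v = ∑ j, v j * l (Pi.single j 1) := by
  let L : (ι → ZMod 2) →+ ZMod 2 := AddMonoidHom.mk' l hl
  have h1 : l v = L v := rfl
  rw [h1]
  conv_lhs => rw [← Finset.univ_sum_single v]
  rw [map_sum]
  apply Finset.sum_congr rfl
  intro j _
  have h2 : ∀ c : ZMod 2, L (Pi.single j c) = c * L (Pi.single j 1) := by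
    intro c
    have hc : c = 0 ∨ c = 1 := by revert c; decide
    rcases hc with rfl | rfl
    · simp
    · simp
  exact h2 (v j)

theorem exists_qw {m : ℕ} (q : V m → ZMod 2) (hq : IsPol q) : ∃ w, q = qw w := by
  let l : V m → ZMod 2 := fun v => q v - quadFormPlus m (ZMod 2) v
  have hl : ∀ u v, l (u + v) = l u + l v := by
    intro u v
    simp only [l, hq u v]
    ring
  refine ⟨fun j => Sum.elim (fun i => l (Pi.single (Sum.inr i) 1)) (fun i => l (Pi.single (Sum.inl i) 1)) j, ?_⟩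
  funext v
  have h1 : q v = quadFormPlus m (ZMod 2) v + l v := by simp [l]
  rw [h1, qw, additive_eq_sum l hl v, Fintype.sum_sum_type, Bx, ← Finset.sum_add_distrib]
  congr 1
  apply Finset.sum_congr rfl
  intro i _
  simp only [Sum.elim_inl, Sum.elim_inr]
  ring

theorem qw_injective {m : ℕ} : Function.Injective (qw (m := m)) := by
  intro w w' h
  funext j
  rcases j with i | i
  · have := congrFun h (Pi.single (Sum.inr i) 1)
    simp only [qw, Bx_single_inr] at this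
    exact add_left_cancel this
  · have := congrFun h (Pi.single (Sum.inl i) 1)
    simp only [qw, Bx_single_inl] at this
    exact add_left_cancel this

/-- the map `v ↦ v + B(v,r) r` -/
def Tlin {m : ℕ} (r : V m) : V m →ₗ[ZMod 2] V m where
  toFun v := v + Bx v r • r
  map_add' u v := by
    rw [Bx_add_left, add_smul]; abel
  map_smul' c v := by
    simp only [RingHom.id_apply]
    rw [Bx_smul_left, mul_smul, smul_add]

theorem Tlin_apply {m : ℕ} (r v : V m) : Tlin r v = v + Bx v r • r := rfl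

theorem Tlin_involutive {m : ℕ} (r : V m) : Function.Involutive (Tlin r) := by
  intro v
  rw [Tlin_apply, Tlin_apply, Bx_add_left, Bx_smul_left, Bx_self, mul_zero, add_zero, add_assoc, ← add_smul,
    zmod2_add_self, zero_smul, add_zero]

/-- the transvection-like equivalence -/
def T {m : ℕ} (r : V m) : V m ≃ₗ[ZMod 2] V m := LinearEquiv.ofInvolutive (Tlin r) (Tlin_involutive r)

theorem T_apply {m : ℕ} (r v : V m) : T r v = v + Bx v r • r := rfl

theorem Q_T {m : ℕ} (r : V m) (hr : quadFormPlus m (ZMod 2) r = 0) (v : V m) :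
    quadFormPlus m (ZMod 2) (T r v) = quadFormPlus m (ZMod 2) v + Bx v r := by
  rw [T_apply, Q_add, Q_smul, hr, mul_zero, add_zero, Bx_smul_right, zmod2_sq]

/-- the reindexing map -/
def sig {k : ℕ} (i₀ : Fin (k + 1)) : (Fin k ⊕ Fin k) ⊕ Fin 2 → Fin (k + 1) ⊕ Fin (k + 1) :=
  Sum.elim (Sum.map i₀.succAbove i₀.succAbove) (fun j => if j = 0 then Sum.inl i₀ else Sum.inr i₀)

theorem sig_injective {k : ℕ} (i₀ : Fin (k + 1)) : Function.Injective (sig i₀) := by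
  have hne : ∀ a, i₀.succAbove a ≠ i₀ := Fin.succAbove_ne i₀
  have hne' : ∀ a, i₀ ≠ i₀.succAbove a := fun a => (hne a).symm
  rintro ((a | a) | a) ((b | b) | b) h
  · simp only [sig, Sum.elim_inl, Sum.map_inl, Sum.inl.injEq] at h
    rw [Fin.succAbove_right_injective h]
  · simp [sig] at h
  · fin_cases b <;> simp [sig, hne] at h
  · simp [sig] at h
  · simp only [sig, Sum.elim_inl, Sum.map_inr, Sum.inr.injEq] at h
    rw [Fin.succAbove_right_injective h]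
  · fin_cases b <;> simp [sig, hne] at h
  · fin_cases a <;> simp [sig, hne'] at h
  · fin_cases a <;> simp [sig, hne'] at h
  · fin_cases a <;> fin_cases b <;> simp [sig] at h ⊢

theorem sig_bijective {k : ℕ} (i₀ : Fin (k + 1)) : Function.Bijective (sig i₀) := by
  rw [Fintype.bijective_iff_injective_and_card]
  refine ⟨sig_injective i₀, ?_⟩
  simp only [Fintype.card_sum, Fintype.card_fin]
  ring

/-- the reindexing linear equivalence -/
noncomputable def G {k : ℕ} (i₀ : Fin (k + 1)) : V (k + 1) ≃ₗ[ZMod 2] ((Fin k ⊕ Fin k) ⊕ Fin 2 → ZMod 2) :=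
  LinearEquiv.funCongrLeft (ZMod 2) (ZMod 2) (Equiv.ofBijective (sig i₀) (sig_bijective i₀))

theorem G_apply {k : ℕ} (i₀ : Fin (k + 1)) (v : V (k + 1)) (j) : G i₀ v j = v (sig i₀ j) := rfl

theorem zmod2_id (x y : ZMod 2) : x * y + (x + y) = x ^ 2 + 1 * x * y + 1 * y ^ 2 := by
  revert x y; decide

theorem Qminus_G {k : ℕ} (i₀ : Fin (k + 1)) (v : V (k + 1)) :
    quadFormMinus k (ZMod 2) 1 1 (G i₀ v) = quadFormPlus (k + 1) (ZMod 2) v + (v (Sum.inl i₀) + v (Sum.inr i₀)) := by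
  simp only [quadFormMinus, quadFormPlus, G_apply]
  rw [Fin.sum_univ_succAbove _ i₀]
  have h0 : sig i₀ (Sum.inr 0) = Sum.inl i₀ := rfl
  have h1 : sig i₀ (Sum.inr 1) = Sum.inr i₀ := rfl
  have h2 : ∀ j, sig i₀ (Sum.inl (Sum.inl j)) = Sum.inl (i₀.succAbove j) := fun j => rfl
  have h3 : ∀ j, sig i₀ (Sum.inl (Sum.inr j)) = Sum.inr (i₀.succAbove j) := fun j => rfl
  simp only [h0, h1, h2, h3]
  rw [← zmod2_id]
  ring


theorem zmod2_mul_ne_zero (a b : ZMod 2) (h : a * b ≠ 0) : a = 1 ∧ b = 1 := by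
  revert a b; decide

theorem zmod2_cases (a : ZMod 2) : a = 0 ∨ a = 1 := by
  revert a; decide

theorem plus_of_Q0 {m : ℕ} (w : V m) (hw : quadFormPlus m (ZMod 2) w = 0) (v : V m) :
    qw w v = quadFormPlus m (ZMod 2) (T w v) := by
  rw [Q_T w hw, qw]

theorem Q_single_inl {m : ℕ} (i : Fin m) : quadFormPlus m (ZMod 2) (Pi.single (Sum.inl i) 1) = 0 := by
  simp [quadFormPlus]

theorem Q_single_inr {m : ℕ} (i : Fin m) : quadFormPlus m (ZMod 2) (Pi.single (Sum.inr i) 1) = 0 := by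
  simp [quadFormPlus]

theorem minus_of_Q1 {k : ℕ} (w : V (k + 1)) (hw : quadFormPlus (k + 1) (ZMod 2) w = 1) :
    ∃ g : V (k + 1) ≃ₗ[ZMod 2] ((Fin k ⊕ Fin k) ⊕ Fin 2 → ZMod 2), ∀ v, qw w v = quadFormMinus k (ZMod 2) 1 1 (g v) := by
  obtain ⟨i₀, hi₀⟩ : ∃ i₀, w (Sum.inl i₀) * w (Sum.inr i₀) ≠ 0 := by
    by_contra hcon
    push Not at hcon
    have : quadFormPlus (k + 1) (ZMod 2) w = 0 := by
      simp only [quadFormPlus]
      exact Finset.sum_eq_zero (fun i _ => hcon i)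
    rw [this] at hw
    exact zero_ne_one hw
  obtain ⟨ha, hb⟩ := zmod2_mul_ne_zero _ _ hi₀
  set w₁ : V (k + 1) := Pi.single (Sum.inl i₀) 1 + Pi.single (Sum.inr i₀) 1 with hw₁
  set r : V (k + 1) := w + w₁ with hr
  have hBxw₁ : ∀ u : V (k + 1), Bx u w₁ = u (Sum.inl i₀) + u (Sum.inr i₀) := by
    intro u
    rw [hw₁, Bx_add_right, Bx_comm u, Bx_comm u, Bx_single_inl, Bx_single_inr, add_comm]
  have hQw₁ : quadFormPlus (k + 1) (ZMod 2) w₁ = 1 := by
    rw [hw₁, Q_add, Q_single_inl, Q_single_inr, Bx_single_inl]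
    simp
  have hww₁ : Bx w w₁ = 0 := by
    rw [hBxw₁, ha, hb]; decide
  have hQr : quadFormPlus (k + 1) (ZMod 2) r = 0 := by
    rw [hr, Q_add, hw, hQw₁, hww₁]; decide
  have hrw₁ : Bx r w₁ = 0 := by
    rw [hr, Bx_add_left, hww₁, Bx_self, add_zero]
  have hw_eq : w = r + w₁ := by
    rw [hr, add_assoc]
    have : w₁ + w₁ = 0 := by
      funext j
      exact zmod2_add_self _
    rw [this, add_zero]
  refine ⟨(T r).trans (G i₀), ?_⟩
  intro v
  rw [LinearEquiv.trans_apply, Qminus_G, ← hBxw₁, Q_T r hQr, T_apply, Bx_add_left, Bx_smul_left, hrw₁, mul_zero,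
    add_zero, qw]
  conv_lhs => rw [hw_eq, Bx_add_right]
  ring

/-- plus and minus type are not both possible -/
theorem not_both {k : ℕ} (g₁ : V (k + 1) ≃ₗ[ZMod 2] V (k + 1))
    (g₂ : V (k + 1) ≃ₗ[ZMod 2] ((Fin k ⊕ Fin k) ⊕ Fin 2 → ZMod 2))
    (h : ∀ v, quadFormPlus (k + 1) (ZMod 2) (g₁ v) = quadFormMinus k (ZMod 2) 1 1 (g₂ v)) : False := by
  obtain ⟨U, hU, hdim⟩ := Cfsg.Agent.S2562.part1 (k + 1)
  let e : V (k + 1) ≃ₗ[ZMod 2] ((Fin k ⊕ Fin k) ⊕ Fin 2 → ZMod 2) := g₁.symm.trans g₂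
  let U' : Submodule (ZMod 2) ((Fin k ⊕ Fin k) ⊕ Fin 2 → ZMod 2) := U.map (e : V (k + 1) →ₗ[ZMod 2] _)
  have hU' : ∀ u ∈ U', quadFormMinus k (ZMod 2) 1 1 u = 0 := by
    rintro _ ⟨u, hu, rfl⟩
    have := h (g₁.symm u)
    rw [LinearEquiv.apply_symm_apply] at this
    show quadFormMinus k (ZMod 2) 1 1 (g₂ (g₁.symm u)) = 0
    rw [← this]
    exact hU u hu
  have hdim' : Module.finrank (ZMod 2) U' = k + 1 := by
    rw [← hdim]
    exact LinearEquiv.finrank_map_eq e U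
  have h5 : Module.finrank (ZMod 2) U' ≤ k := Cfsg.Agent.S2562.part4 (k + 1) U' hU'
  omega

theorem dot_half (m : ℕ) (y : Fin m → ZMod 2) (hy : y ≠ 0) :
    2 * Fintype.card {x : Fin m → ZMod 2 // x ⬝ᵥ y = 0} = 2 ^ m := by
  classical
  obtain ⟨i, hi⟩ : ∃ i, y i ≠ 0 := by
    by_contra hcon
    push Not at hcon
    exact hy (funext hcon)
  have hi1 : y i = 1 := by
    rcases zmod2_cases (y i) with h | h
    · exact absurd h hi
    · exact h
  have e : {x : Fin m → ZMod 2 // x ⬝ᵥ y = 0} ≃ {x : Fin m → ZMod 2 // ¬ x ⬝ᵥ y = 0} := by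
    refine Equiv.subtypeEquiv (Equiv.addRight (Pi.single i 1)) ?_
    intro x
    simp only [Equiv.coe_addRight, add_dotProduct, single_dotProduct, hi1, one_mul]
    rcases zmod2_cases (x ⬝ᵥ y) with h | h <;> rw [h] <;> decide
  have h1 := Fintype.card_subtype_compl (fun x : Fin m → ZMod 2 => x ⬝ᵥ y = 0)
  rw [← Fintype.card_congr e] at h1
  have h2 : Fintype.card (Fin m → ZMod 2) = 2 ^ m := by
    rw [Fintype.card_fun, ZMod.card, Fintype.card_fin]
  have h3 : Fintype.card {x : Fin m → ZMod 2 // x ⬝ᵥ y = 0} ≤ Fintype.card (Fin m → ZMod 2) := Fintype.card_subtype_le _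
  omega


theorem dot_half' (m : ℕ) (a : Fin m → ZMod 2) (ha : a ≠ 0) :
    2 * Fintype.card {b : Fin m → ZMod 2 // a ⬝ᵥ b = 0} = 2 ^ m := by
  rw [← dot_half m a ha]
  congr 1
  exact Fintype.card_congr (Equiv.subtypeEquivRight (fun b => by rw [dotProduct_comm]))

theorem two_mul_card_zeros (m : ℕ) :
    2 * Fintype.card {w : V m // quadFormPlus m (ZMod 2) w = 0} = 2 ^ (2 * m) + 2 ^ m := by
  classical
  let e0 : V m ≃ (Fin m → ZMod 2) × (Fin m → ZMod 2) := Equiv.sumArrowEquivProdArrow (Fin m) (Fin m) (ZMod 2)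
  have e1 : {w : V m // quadFormPlus m (ZMod 2) w = 0} ≃ {p : (Fin m → ZMod 2) × (Fin m → ZMod 2) // p.1 ⬝ᵥ p.2 = 0} :=
    Equiv.subtypeEquiv e0 (fun w => Iff.rfl)
  have e2 := Equiv.subtypeProdEquivSigmaSubtype (fun (a b : Fin m → ZMod 2) => a ⬝ᵥ b = 0)
  rw [Fintype.card_congr (e1.trans e2), Fintype.card_sigma, Finset.mul_sum,
    ← Finset.add_sum_erase _ _ (Finset.mem_univ (0 : Fin m → ZMod 2))]
  have h0 : Fintype.card {b : Fin m → ZMod 2 // (0 : Fin m → ZMod 2) ⬝ᵥ b = 0} = 2 ^ m := by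
    rw [Fintype.card_congr (Equiv.subtypeUnivEquiv (fun b => zero_dotProduct b)), Fintype.card_fun, ZMod.card,
      Fintype.card_fin]
  have h1 : ∑ a ∈ (Finset.univ : Finset (Fin m → ZMod 2)).erase 0, 2 * Fintype.card {b : Fin m → ZMod 2 // a ⬝ᵥ b = 0}
      = ∑ _a ∈ (Finset.univ : Finset (Fin m → ZMod 2)).erase 0, 2 ^ m := by
    apply Finset.sum_congr rfl
    intro a ha
    exact dot_half' m a (Finset.ne_of_mem_erase ha)
  rw [h0, h1, Finset.sum_const, Finset.card_erase_of_mem (Finset.mem_univ _), Finset.card_univ, Fintype.card_fun,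
    ZMod.card, Fintype.card_fin, smul_eq_mul]
  obtain ⟨a, ha⟩ : ∃ a, 2 ^ m = a + 1 := ⟨2 ^ m - 1, by have := Nat.one_le_two_pow (n := m); omega⟩
  rw [two_mul m, pow_add, ha]
  simp only [Nat.add_sub_cancel]
  ring

theorem card_zeros (m : ℕ) (hm : 1 ≤ m) :
    Fintype.card {w : V m // quadFormPlus m (ZMod 2) w = 0} = 2 ^ (2 * m - 1) + 2 ^ (m - 1) := by
  have h := two_mul_card_zeros m
  obtain ⟨k, rfl⟩ : ∃ k, m = k + 1 := ⟨m - 1, by omega⟩
  have h1 : 2 ^ (2 * (k + 1)) = 2 * 2 ^ (2 * (k + 1) - 1) := by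
    rw [← pow_succ']; congr 1
  have h2 : 2 ^ (k + 1) = 2 * 2 ^ (k + 1 - 1) := by
    rw [← pow_succ']; congr 1
  omega

theorem card_V (m : ℕ) : Fintype.card (V m) = 2 ^ (2 * m) := by
  rw [Fintype.card_fun, ZMod.card, Fintype.card_sum, Fintype.card_fin, two_mul]

/-- the bijection `V m ≃ {q // IsPol q}` -/
noncomputable def qwEquiv (m : ℕ) : V m ≃ {q : V m → ZMod 2 // IsPol q} :=
  Equiv.ofBijective (fun w => ⟨qw w, isPol_qw w⟩)
    ⟨fun w w' h => qw_injective (congrArg Subtype.val h), fun ⟨q, hq⟩ => by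
      obtain ⟨w, rfl⟩ := exists_qw q hq
      exact ⟨w, rfl⟩⟩

theorem qwEquiv_apply (m : ℕ) (w : V m) : ((qwEquiv m w : {q : V m → ZMod 2 // IsPol q}) : V m → ZMod 2) = qw w := rfl

/-- main theorem in terms of `k` -/
theorem main (k : ℕ) :
    Nat.card {q : V (k + 1) → ZMod 2 // IsPol q} = 2 ^ (2 * (k + 1)) ∧
    (∀ q : V (k + 1) → ZMod 2, IsPol q →
      (∃ g : V (k + 1) ≃ₗ[ZMod 2] V (k + 1), ∀ v, q v = quadFormPlus (k + 1) (ZMod 2) (g v)) ∨
      (∃ g : V (k + 1) ≃ₗ[ZMod 2] ((Fin k ⊕ Fin k) ⊕ Fin 2 → ZMod 2), ∀ v, q v = quadFormMinus k (ZMod 2) 1 1 (g v))) ∧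
    Nat.card {q : V (k + 1) → ZMod 2 // IsPol q ∧ ∃ g : V (k + 1) ≃ₗ[ZMod 2] V (k + 1), ∀ v, q v = quadFormPlus (k + 1) (ZMod 2) (g v)} = 2 ^ (2 * (k + 1) - 1) + 2 ^ (k + 1 - 1) ∧
    Nat.card {q : V (k + 1) → ZMod 2 // IsPol q ∧ ∃ g : V (k + 1) ≃ₗ[ZMod 2] ((Fin k ⊕ Fin k) ⊕ Fin 2 → ZMod 2), ∀ v, q v = quadFormMinus k (ZMod 2) 1 1 (g v)} = 2 ^ (2 * (k + 1) - 1) - 2 ^ (k + 1 - 1) := by
  classical
  have hplus_iff : ∀ w : V (k + 1), (∃ g : V (k + 1) ≃ₗ[ZMod 2] V (k + 1), ∀ v, qw w v = quadFormPlus (k + 1) (ZMod 2) (g v)) ↔ quadFormPlus (k + 1) (ZMod 2) w = 0 := by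
    intro w
    constructor
    · rintro ⟨g₁, hg₁⟩
      rcases zmod2_cases (quadFormPlus (k + 1) (ZMod 2) w) with h | h
      · exact h
      · exfalso
        obtain ⟨g₂, hg₂⟩ := minus_of_Q1 w h
        exact not_both g₁ g₂ (fun v => by rw [← hg₁, ← hg₂])
    · intro h
      exact ⟨T w, plus_of_Q0 w h⟩
  have hminus_iff : ∀ w : V (k + 1), (∃ g : V (k + 1) ≃ₗ[ZMod 2] ((Fin k ⊕ Fin k) ⊕ Fin 2 → ZMod 2), ∀ v, qw w v = quadFormMinus k (ZMod 2) 1 1 (g v)) ↔ ¬ quadFormPlus (k + 1) (ZMod 2) w = 0 := by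
    intro w
    constructor
    · rintro ⟨g₂, hg₂⟩ h
      exact not_both (T w) g₂ (fun v => by rw [← plus_of_Q0 w h, ← hg₂])
    · intro h
      rcases zmod2_cases (quadFormPlus (k + 1) (ZMod 2) w) with h' | h'
      · exact absurd h' h
      · exact minus_of_Q1 w h'
  refine ⟨?_, ?_, ?_, ?_⟩
  · rw [← Nat.card_congr (qwEquiv (k + 1)), Nat.card_eq_fintype_card, card_V]
  · intro q hq
    obtain ⟨w, rfl⟩ := exists_qw q hq
    by_cases h : quadFormPlus (k + 1) (ZMod 2) w = 0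
    · left; exact (hplus_iff w).mpr h
    · right; exact (hminus_iff w).mpr h
  · have e : {w : V (k + 1) // quadFormPlus (k + 1) (ZMod 2) w = 0} ≃
        {q : V (k + 1) → ZMod 2 // IsPol q ∧ ∃ g : V (k + 1) ≃ₗ[ZMod 2] V (k + 1), ∀ v, q v = quadFormPlus (k + 1) (ZMod 2) (g v)} :=
      (Equiv.subtypeEquiv (qwEquiv (k + 1)) (fun w => by
        rw [qwEquiv_apply]; exact (hplus_iff w).symm)).trans
        (Equiv.subtypeSubtypeEquivSubtypeInter _ _)
    rw [← Nat.card_congr e, Nat.card_eq_fintype_card, card_zeros (k + 1) (by omega)]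
  · have e : {w : V (k + 1) // ¬ quadFormPlus (k + 1) (ZMod 2) w = 0} ≃
        {q : V (k + 1) → ZMod 2 // IsPol q ∧ ∃ g : V (k + 1) ≃ₗ[ZMod 2] ((Fin k ⊕ Fin k) ⊕ Fin 2 → ZMod 2), ∀ v, q v = quadFormMinus k (ZMod 2) 1 1 (g v)} :=
      (Equiv.subtypeEquiv (qwEquiv (k + 1)) (fun w => by
        rw [qwEquiv_apply]; exact (hminus_iff w).symm)).trans
        (Equiv.subtypeSubtypeEquivSubtypeInter _ _)
    rw [← Nat.card_congr e, Nat.card_eq_fintype_card, Fintype.card_subtype_compl, card_zeros (k + 1) (by omega), card_V]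
    have h1 : 2 ^ (2 * (k + 1)) = 2 * 2 ^ (2 * (k + 1) - 1) := by
      rw [← pow_succ']; congr 1
    omega

/-- Fix the non-singular alternating form on the 2m-dimensional space over the field of two elements obtained by polarizing the plus-type form Σ xᵢyᵢ (m ≥ 1). The functions q on the space with q(u + v) = q(u) + q(v) + f(u, v) (the quadratic forms polarizing to f) number 2^(2m); each is equivalent under an invertible linear map either to the plus-type form or to the minus-type form Σ xᵢyᵢ + (z₁² + z₁z₂ + z₂²); and those of plus type number 2^(2m−1) + 2^(m−1), those of minus type 2^(2m−1) − 2^(m−1). -/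
theorem result (m : ℕ) (hm : 1 ≤ m) :
    Nat.card {q : (Fin m ⊕ Fin m → ZMod 2) → ZMod 2 // (∀ u v : (Fin m ⊕ Fin m → ZMod 2), q (u + v) = q u + q v + (Cfsg.quadFormPlus m (ZMod 2) (u + v) - Cfsg.quadFormPlus m (ZMod 2) u - Cfsg.quadFormPlus m (ZMod 2) v))} = 2 ^ (2 * m) ∧
    (∀ q : (Fin m ⊕ Fin m → ZMod 2) → ZMod 2, (∀ u v : (Fin m ⊕ Fin m → ZMod 2), q (u + v) = q u + q v + (Cfsg.quadFormPlus m (ZMod 2) (u + v) - Cfsg.quadFormPlus m (ZMod 2) u - Cfsg.quadFormPlus m (ZMod 2) v)) →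
      (∃ g : (Fin m ⊕ Fin m → ZMod 2) ≃ₗ[ZMod 2] (Fin m ⊕ Fin m → ZMod 2), ∀ v, q v = Cfsg.quadFormPlus m (ZMod 2) (g v)) ∨
      (∃ g : (Fin m ⊕ Fin m → ZMod 2) ≃ₗ[ZMod 2] ((Fin (m - 1) ⊕ Fin (m - 1)) ⊕ Fin 2 → ZMod 2), ∀ v, q v = Cfsg.quadFormMinus (m - 1) (ZMod 2) 1 1 (g v))) ∧
    Nat.card {q : (Fin m ⊕ Fin m → ZMod 2) → ZMod 2 // (∀ u v : (Fin m ⊕ Fin m → ZMod 2), q (u + v) = q u + q v + (Cfsg.quadFormPlus m (ZMod 2) (u + v) - Cfsg.quadFormPlus m (ZMod 2) u - Cfsg.quadFormPlus m (ZMod 2) v)) ∧ ∃ g : (Fin m ⊕ Fin m → ZMod 2) ≃ₗ[ZMod 2] (Fin m ⊕ Fin m → ZMod 2), ∀ v, q v = Cfsg.quadFormPlus m (ZMod 2) (g v)} = 2 ^ (2 * m - 1) + 2 ^ (m - 1) ∧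
    Nat.card {q : (Fin m ⊕ Fin m → ZMod 2) → ZMod 2 // (∀ u v : (Fin m ⊕ Fin m → ZMod 2), q (u + v) = q u + q v + (Cfsg.quadFormPlus m (ZMod 2) (u + v) - Cfsg.quadFormPlus m (ZMod 2) u - Cfsg.quadFormPlus m (ZMod 2) v)) ∧ ∃ g : (Fin m ⊕ Fin m → ZMod 2) ≃ₗ[ZMod 2] ((Fin (m - 1) ⊕ Fin (m - 1)) ⊕ Fin 2 → ZMod 2), ∀ v, q v = Cfsg.quadFormMinus (m - 1) (ZMod 2) 1 1 (g v)} = 2 ^ (2 * m - 1) - 2 ^ (m - 1) := by
  obtain ⟨k, rfl⟩ : ∃ k, m = k + 1 := ⟨m - 1, by omega⟩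
  exact main k

end Cfsg.Agent.S2561
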