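import Cfsg.Statements.S2564

set_option autoImplicit false
open Cfsg

namespace Cfsg.Agent.S2564

abbrev V (m : ℕ) := Fin m ⊕ Fin m → ZMod 2

/-- The polarization of the plus form. -/
def pol (m : ℕ) (a b : V m) : ZMod 2 :=
  Cfsg.quadFormPlus m (ZMod 2) (a + b) - Cfsg.quadFormPlus m (ZMod 2) a - Cfsg.quadFormPlus m (ZMod 2) b

theorem pol_eq (m : ℕ) (a b : V m) :
    pol m a b = ∑ i : Fin m, (a (.inl i) * b (.inr i) + a (.inr i) * b (.inl i)) := by
  unfold pol Cfsg.quadFormPlus
  rw [← Finset.sum_sub_distrib, ← Finset.sum_sub_distrib]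
  apply Finset.sum_congr rfl
  intro i _
  simp only [Pi.add_apply]
  ring

theorem pol_add_left (m : ℕ) (a b c : V m) : pol m (a + b) c = pol m a c + pol m b c := by
  rw [pol_eq, pol_eq, pol_eq, ← Finset.sum_add_distrib]
  apply Finset.sum_congr rfl
  intro i _
  simp only [Pi.add_apply]
  ring

theorem pol_comm (m : ℕ) (a b : V m) : pol m a b = pol m b a := by
  rw [pol_eq, pol_eq]
  apply Finset.sum_congr rfl
  intro i _
  ring

theorem pol_add_right (m : ℕ) (a b c : V m) : pol m a (b + c) = pol m a b + pol m a c := by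
  rw [pol_comm, pol_add_left, pol_comm m b, pol_comm m c]

theorem two_eq_zero' : (2 : ZMod 2) = 0 := by decide

theorem add_self' (a : ZMod 2) : a + a = 0 := by
  rw [← two_mul, two_eq_zero', zero_mul]

theorem add_self_vec (m : ℕ) (a : V m) : a + a = 0 := by
  funext j
  simp [add_self']

theorem pol_self (m : ℕ) (a : V m) : pol m a a = 0 := by
  rw [pol_eq]
  apply Finset.sum_eq_zero
  intro i _
  rw [mul_comm (a (.inr i))]
  exact add_self' _

theorem pol_zero_left (m : ℕ) (a : V m) : pol m 0 a = 0 := by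
  rw [pol_eq]; simp

theorem exists_pol_eq_one (m : ℕ) (s : V m) (hs : s ≠ 0) : ∃ e : V m, pol m e s = 1 := by
  classical
  have : ∃ j, s j ≠ 0 := by
    by_contra h
    apply hs
    funext j
    by_contra hj
    exact h ⟨j, hj⟩
  obtain ⟨j, hj⟩ := this
  have hj1 : s j = 1 := by
    have : ∀ a : ZMod 2, a ≠ 0 → a = 1 := by decide
    exact this _ hj
  rcases j with i₀ | i₀
  · refine ⟨Pi.single (Sum.inr i₀) 1, ?_⟩
    rw [pol_eq, Finset.sum_eq_single i₀]
    · simp [hj1]
    · intro b _ hb
      simp [hb]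
    · simp
  · refine ⟨Pi.single (Sum.inl i₀) 1, ?_⟩
    rw [pol_eq, Finset.sum_eq_single i₀]
    · simp [hj1]
    · intro b _ hb
      simp [hb]
    · simp

/-- the sign character -/
def chi (a : ZMod 2) : ℤ := if a = 0 then 1 else -1

theorem chi_add (a b : ZMod 2) : chi (a + b) = chi a * chi b := by
  revert a b; decide

theorem chi_add_one (a : ZMod 2) : chi (a + 1) = - chi a := by
  revert a; decide

theorem sum_chi_pol (m : ℕ) (s : V m) (hs : s ≠ 0) : ∑ u : V m, chi (pol m u s) = 0 := by
  obtain ⟨e, he⟩ := exists_pol_eq_one m s hs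
  have h1 : ∑ u : V m, chi (pol m u s) = ∑ u : V m, chi (pol m (u + e) s) :=
    (Equiv.sum_comp (Equiv.addRight e) (fun u => chi (pol m u s))).symm
  have h2 : ∑ u : V m, chi (pol m (u + e) s) = - ∑ u : V m, chi (pol m u s) := by
    rw [← Finset.sum_neg_distrib]
    apply Finset.sum_congr rfl
    intro u _
    rw [pol_add_left, he, chi_add_one]
  omega

theorem sum_chi_sq (m : ℕ) (q : V m → ZMod 2)
    (hq : ∀ u v : V m, q (u + v) = q u + q v + pol m u v) :
    (∑ v : V m, chi (q v)) ^ 2 = (Fintype.card (V m) : ℤ) := by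
  classical
  have hq0 : q 0 = 0 := by
    have := hq 0 0
    rw [pol_zero_left, add_zero, add_zero] at this
    have h2 : q 0 + q 0 = 0 := add_self' _
    rw [h2] at this
    exact this
  rw [sq, Finset.sum_mul_sum]
  have h1 : ∀ u : V m, ∑ v : V m, chi (q u) * chi (q v) = ∑ s : V m, chi (q s) * chi (pol m u s) := by
    intro u
    rw [← Equiv.sum_comp (Equiv.addRight u) (fun s => chi (q s) * chi (pol m u s))]
    apply Finset.sum_congr rfl
    intro v _
    simp only [Equiv.coe_addRight]
    rw [← chi_add, ← chi_add, pol_add_right, pol_self, add_zero, hq v u, pol_comm m v u]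
    congr 1
    have := add_self' (pol m u v)
    linear_combination (-1 : ZMod 2) * this
  rw [Finset.sum_congr rfl (fun u _ => h1 u), Finset.sum_comm]
  simp_rw [← Finset.mul_sum]
  rw [Finset.sum_eq_single (0 : V m)]
  · rw [hq0]
    have : ∀ u : V m, pol m u 0 = 0 := fun u => by rw [pol_comm, pol_zero_left]
    simp [this, chi]
  · intro s _ hs
    rw [sum_chi_pol m s hs, mul_zero]
  · simp

theorem sum_chi_ne_zero (m : ℕ) (q : V m → ZMod 2)
    (hq : ∀ u v : V m, q (u + v) = q u + q v + pol m u v) :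
    (∑ v : V m, chi (q v)) ≠ 0 := by
  intro h
  have := sum_chi_sq m q hq
  rw [h] at this
  have hpos : (0 : ℤ) < (Fintype.card (V m) : ℤ) := by
    exact_mod_cast Fintype.card_pos
  rw [← this] at hpos
  simp at hpos

theorem result (m : ℕ) (hm : 1 ≤ m) (q : (Fin m ⊕ Fin m → ZMod 2) → ZMod 2) (hq : (∀ u v : (Fin m ⊕ Fin m → ZMod 2), q (u + v) = q u + q v + (Cfsg.quadFormPlus m (ZMod 2) (u + v) - Cfsg.quadFormPlus m (ZMod 2) u - Cfsg.quadFormPlus m (ZMod 2) v))) (w : (Fin m ⊕ Fin m → ZMod 2)) :
    (∀ u v : (Fin m ⊕ Fin m → ZMod 2), (q (u + v) + (Cfsg.quadFormPlus m (ZMod 2) (u + v + w) - Cfsg.quadFormPlus m (ZMod 2) (u + v) - Cfsg.quadFormPlus m (ZMod 2) w)) =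
        (q u + (Cfsg.quadFormPlus m (ZMod 2) (u + w) - Cfsg.quadFormPlus m (ZMod 2) u - Cfsg.quadFormPlus m (ZMod 2) w)) + (q v + (Cfsg.quadFormPlus m (ZMod 2) (v + w) - Cfsg.quadFormPlus m (ZMod 2) v - Cfsg.quadFormPlus m (ZMod 2) w)) +
        (Cfsg.quadFormPlus m (ZMod 2) (u + v) - Cfsg.quadFormPlus m (ZMod 2) u - Cfsg.quadFormPlus m (ZMod 2) v)) ∧
    ((∃ g : (Fin m ⊕ Fin m → ZMod 2) ≃ₗ[ZMod 2] (Fin m ⊕ Fin m → ZMod 2), ∀ v, q v + (Cfsg.quadFormPlus m (ZMod 2) (v + w) - Cfsg.quadFormPlus m (ZMod 2) v - Cfsg.quadFormPlus m (ZMod 2) w) = q (g v)) ↔ q w = 0) := by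
  have hq' : ∀ u v : V m, q (u + v) = q u + q v + pol m u v := hq
  refine ⟨?_, ?_⟩
  · intro u v
    show q (u + v) + pol m (u + v) w = (q u + pol m u w) + (q v + pol m v w) + pol m u v
    rw [hq' u v, pol_add_left]
    ring
  · show (∃ g : V m ≃ₗ[ZMod 2] V m, ∀ v, q v + pol m v w = q (g v)) ↔ q w = 0
    constructor
    · rintro ⟨g, hg⟩
      by_contra hw
      have hw1 : q w = 1 := by
        have : ∀ a : ZMod 2, a ≠ 0 → a = 1 := by decide
        exact this _ hw
      have hne := sum_chi_ne_zero m q hq'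
      apply hne
      have h1 : ∑ v : V m, chi (q v) = ∑ v : V m, chi (q (g v)) :=
        (Equiv.sum_comp g.toEquiv (fun v => chi (q v))).symm
      have h2 : ∑ v : V m, chi (q (g v)) = ∑ v : V m, - chi (q (v + w)) := by
        apply Finset.sum_congr rfl
        intro v _
        rw [← hg v, hq' v w, hw1, ← chi_add_one]
        congr 1
        have := add_self' (1 : ZMod 2)
        linear_combination (-1 : ZMod 2) * this
      have h3 : ∑ v : V m, - chi (q (v + w)) = - ∑ v : V m, chi (q v) := by
        rw [Finset.sum_neg_distrib]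
        congr 1
        exact Equiv.sum_comp (Equiv.addRight w) (fun v => chi (q v))
      omega
    · intro hw
      let φ : V m →+ V m :=
        { toFun := fun v => v + pol m v w • w
          map_zero' := by simp [pol_zero_left]
          map_add' := by
            intro a b
            rw [pol_add_left, add_smul]
            abel }
      have hinv : Function.Involutive (φ.toZModLinearMap 2) := by
        intro v
        show (v + pol m v w • w) + pol m (v + pol m v w • w) w • w = v
        have hc : ∀ c : ZMod 2, pol m (c • w) w = 0 := by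
          intro c
          have : ∀ c : ZMod 2, c = 0 ∨ c = 1 := by decide
          rcases this c with rfl | rfl
          · simp [pol_zero_left]
          · simp [pol_self]
        rw [pol_add_left, hc, add_zero, add_assoc, ← add_smul, add_self', zero_smul, add_zero]
      refine ⟨LinearEquiv.ofInvolutive (φ.toZModLinearMap 2) hinv, ?_⟩
      intro v
      show q v + pol m v w = q (v + pol m v w • w)
      have : ∀ c : ZMod 2, c = 0 ∨ c = 1 := by decide
      rcases this (pol m v w) with h | h
      · rw [h]; simp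
      · rw [h, one_smul, hq' v w, hw, h]; ring

end Cfsg.Agent.S2564
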