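import Cfsg.Statements.S2565
import Cfsg.Agent.Lib.Helper43.OPlusSix

set_option autoImplicit false
open Cfsg

namespace Cfsg.Agent.S2565

theorem commutator_map_equiv {G H : Type*} [Group G] [Group H] (e : G ≃* H) :
    (commutator G).map e.toMonoidHom = commutator H := by
  rw [commutator_def, commutator_def, Subgroup.map_commutator,
    Subgroup.map_top_of_surjective _ e.surjective]

/-- The commutator subgroup of the full orthogonal group of the plus-type form Σ xᵢyᵢ in dimension 6 over the field of two elements (the group Ω⁺₆(2), of index 2) is isomorphic to the alternating group of degree 8. -/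
theorem result :
    (Cfsg.Omega (ZMod 2) (Cfsg.quadFormPlus 3 (ZMod 2))).index = 2 ∧
    Nonempty (↥(Cfsg.Omega (ZMod 2) (Cfsg.quadFormPlus 3 (ZMod 2))) ≃* alternatingGroup (Fin 8)) := by
  obtain ⟨e⟩ := Cfsg.Agent.Lib.Helper43.oplus6_equiv_perm8
  have h5 : 5 ≤ Nat.card (Fin 8) := by
    rw [Nat.card_eq_fintype_card, Fintype.card_fin]
    norm_num
  have hmap : (commutator ↥(Cfsg.isometryGroup (ZMod 2) (Cfsg.quadFormPlus 3 (ZMod 2)))).map
      e.toMonoidHom = alternatingGroup (Fin 8) := by
    rw [commutator_map_equiv e, alternatingGroup.commutator_perm_eq h5]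
  constructor
  · show (commutator ↥(Cfsg.isometryGroup (ZMod 2) (Cfsg.quadFormPlus 3 (ZMod 2)))).index = 2
    rw [← Subgroup.index_map_equiv _ e]
    have : Subgroup.map (e : ↥(Cfsg.isometryGroup (ZMod 2) (Cfsg.quadFormPlus 3 (ZMod 2))) →*
        Equiv.Perm (Fin 8))
        (commutator ↥(Cfsg.isometryGroup (ZMod 2) (Cfsg.quadFormPlus 3 (ZMod 2)))) =
        alternatingGroup (Fin 8) := hmap
    rw [this]
    exact alternatingGroup.index_eq_two
  · exact ⟨(e.subgroupMap _).trans (MulEquiv.subgroupCongr hmap)⟩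

end Cfsg.Agent.S2565
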