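import Cfsg.Statements.S2567

set_option autoImplicit false
open Cfsg

namespace Cfsg.Agent.S2567

theorem unique_lift {G : Type*} [Group G] (r : ℕ) (hr : r.Prime)
    (hcop : (Nat.card (Subgroup.center G)).Coprime r) (x : G ⧸ Subgroup.center G)
    (hx : orderOf x = r) :
    ∃! g : G, (QuotientGroup.mk g : G ⧸ Subgroup.center G) = x ∧ orderOf g = r := by
  obtain ⟨g₀, rfl⟩ := QuotientGroup.mk_surjective x
  have hg₀r : g₀ ^ r ∈ Subgroup.center G := by
    rw [← QuotientGroup.eq_one_iff, QuotientGroup.mk_pow, ← hx, pow_orderOf_eq_one]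
  let z₀ : Subgroup.center G := ⟨g₀ ^ r, hg₀r⟩
  let e := powCoprime hcop
  let z : Subgroup.center G := e.symm z₀⁻¹
  have hz : z ^ r = z₀⁻¹ := e.apply_symm_apply z₀⁻¹
  have hzc : Commute g₀ (z : G) := Subgroup.mem_center_iff.mp z.2 g₀
  have hmk : (QuotientGroup.mk (g₀ * z) : G ⧸ Subgroup.center G) = QuotientGroup.mk g₀ := by
    rw [QuotientGroup.mk_mul, (QuotientGroup.eq_one_iff (z : G)).mpr z.2, mul_one]
  have hpow : (g₀ * z) ^ r = 1 := by
    rw [hzc.mul_pow]
    have h1 : ((z ^ r : Subgroup.center G) : G) = (z : G) ^ r := rfl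
    rw [← h1, hz]
    show g₀ ^ r * (g₀ ^ r)⁻¹ = 1
    exact mul_inv_cancel _
  have hne : g₀ * z ≠ 1 := by
    intro h1
    rw [h1] at hmk
    have : (QuotientGroup.mk g₀ : G ⧸ Subgroup.center G) = 1 := by rw [← hmk]; rfl
    rw [this, orderOf_one] at hx
    exact hr.one_lt.ne hx
  have hord : orderOf (g₀ * z) = r := by
    have hdvd := orderOf_dvd_of_pow_eq_one hpow
    rcases (Nat.dvd_prime hr).mp hdvd with h | h
    · exact absurd (orderOf_eq_one_iff.mp h) hne
    · exact h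
  refine ⟨g₀ * z, ⟨hmk, hord⟩, ?_⟩
  rintro g' ⟨hg'mk, hg'ord⟩
  have hmem : (g₀ * z)⁻¹ * g' ∈ Subgroup.center G := by
    rw [← QuotientGroup.eq_one_iff, QuotientGroup.mk_mul, QuotientGroup.mk_inv, hmk, hg'mk]
    exact inv_mul_cancel _
  let z' : Subgroup.center G := ⟨(g₀ * z)⁻¹ * g', hmem⟩
  have hg' : g' = (g₀ * z) * z' := by
    show g' = (g₀ * z) * ((g₀ * z)⁻¹ * g')
    rw [mul_inv_cancel_left]
  have hz'c : Commute (g₀ * z) (z' : G) := Subgroup.mem_center_iff.mp z'.2 _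
  have hz'r : z' ^ r = 1 := by
    apply Subtype.ext
    show (z' : G) ^ r = 1
    have h2 : g' ^ r = 1 := by rw [← hg'ord]; exact pow_orderOf_eq_one g'
    rw [hg', hz'c.mul_pow, hpow, one_mul] at h2
    exact h2
  have hz'1 : z' = 1 := by
    apply e.injective
    show z' ^ r = 1 ^ r
    rw [hz'r, one_pow]
  rw [hg', hz'1]
  simp

theorem result {F : Type*} [Field F] [Fintype F] {q n r : ℕ} (hF : Fintype.card F = q) (hr : r.Prime) (hdiv : ¬ r ∣ q - 1) (x : GL (Fin n) F ⧸ Subgroup.center (GL (Fin n) F)) (hx : orderOf x = r) : ∃! g : GL (Fin n) F, (QuotientGroup.mk g : GL (Fin n) F ⧸ Subgroup.center (GL (Fin n) F)) = x ∧ orderOf g = r := by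
  apply unique_lift r hr _ x hx
  have h1 : Nat.card (Subgroup.center (GL (Fin n) F)) ∣ q - 1 := by
    rw [Matrix.GeneralLinearGroup.center_eq_range_scalar]
    have := Subgroup.card_range_dvd (Matrix.GeneralLinearGroup.scalar (R := F) (Fin n))
    rw [Nat.card_units] at this
    have hq : Nat.card F = q := by rw [Nat.card_eq_fintype_card, hF]
    rwa [hq] at this
  have h2 : (q - 1).Coprime r := by
    rw [Nat.coprime_comm]
    exact (Nat.Prime.coprime_iff_not_dvd hr).mpr hdiv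
  exact Nat.Coprime.coprime_dvd_left h1 h2

end Cfsg.Agent.S2567
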