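import Cfsg.Statements.S2571
import Cfsg.Agent.Lib.Helper43.RegNilp

set_option autoImplicit false
open Cfsg

namespace Cfsg.Agent.S2571

open Cfsg.Agent.Lib.Helper43 Module

theorem result {F : Type*} [Field F] [Fintype F] {q n : ℕ} (hF : Fintype.card F = q) (hn : 1 ≤ n) (u : GL (Fin n) F) (hnil : ((u : Matrix (Fin n) (Fin n) F) - 1) ^ n = 0) (hreg : ((u : Matrix (Fin n) (Fin n) F) - 1).rank = n - 1) : Nat.card ↥(Subgroup.centralizer ({u} : Set (GL (Fin n) F))) = (q - 1) * q ^ (n - 1) := by
  classical
  set U : Matrix (Fin n) (Fin n) F := (u : Matrix (Fin n) (Fin n) F) with hU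
  set N := U - 1 with hN
  set f : (Fin n → F) →ₗ[F] (Fin n → F) := Matrix.toLin' N with hf
  have hdimV : finrank F (Fin n → F) = n := by simp
  have hfn : f ^ n = 0 := by
    rw [hf, ← Matrix.toLin'_pow, hnil]; simp
  have hker1 : finrank F (LinearMap.ker f) ≤ 1 := by
    have h1 := LinearMap.finrank_range_add_finrank_ker f
    have h2 : finrank F (LinearMap.range f) = n - 1 := by
      rw [hf, Matrix.toLin'_apply']; exact hreg
    rw [h2, hdimV] at h1
    omega
  obtain ⟨v, hv⟩ := exists_cyclic f n hn hdimV hker1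
  -- commuting
  have hcomm : ∀ g : GL (Fin n) F, g ∈ Subgroup.centralizer ({u} : Set (GL (Fin n) F)) ↔
      Matrix.toLin' (g : Matrix (Fin n) (Fin n) F) ∘ₗ f = f ∘ₗ Matrix.toLin' (g : Matrix (Fin n) (Fin n) F) := by
    intro g
    rw [Subgroup.mem_centralizer_iff]
    simp only [Set.mem_singleton_iff, forall_eq]
    rw [hf, ← Matrix.toLin'_mul, ← Matrix.toLin'_mul]
    constructor
    · intro h
      have h' : U * (g : Matrix (Fin n) (Fin n) F) = (g : Matrix (Fin n) (Fin n) F) * U := by
        have := congrArg (fun x : GL (Fin n) F => (x : Matrix (Fin n) (Fin n) F)) h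
        simpa using this
      congr 1
      rw [hN, mul_sub, sub_mul, h', mul_one, one_mul]
    · intro h
      have h' := Matrix.toLin'.injective h
      apply Units.ext
      show U * (g : Matrix (Fin n) (Fin n) F) = (g : Matrix (Fin n) (Fin n) F) * U
      rw [hN, mul_sub, sub_mul, mul_one, one_mul] at h'
      have := sub_left_injective h'
      exact this.symm
  -- the bijection
  let Ψ : Subgroup.centralizer ({u} : Set (GL (Fin n) F)) → {w : Fin n → F // (f ^ (n - 1)) w ≠ 0} :=
    fun g => ⟨Matrix.toLin' ((g : GL (Fin n) F) : Matrix (Fin n) (Fin n) F) v, by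
      have hc := (hcomm g.1).mp g.2
      rw [← commute_pow_apply f _ hc]
      intro h0
      apply hv
      have hinj : Function.Injective (Matrix.toLin' ((g : GL (Fin n) F) : Matrix (Fin n) (Fin n) F)) := by
        rw [Matrix.toLin'_apply']
        exact Matrix.mulVec_injective_of_isUnit ⟨(g : GL (Fin n) F), rfl⟩
      apply hinj
      rw [h0, map_zero]⟩
  have hΨinj : Function.Injective Ψ := by
    intro g g' h
    have h1 : Matrix.toLin' ((g : GL (Fin n) F) : Matrix (Fin n) (Fin n) F) v =
        Matrix.toLin' ((g' : GL (Fin n) F) : Matrix (Fin n) (Fin n) F) v := congrArg Subtype.val h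
    have hc := (hcomm g.1).mp g.2
    have hc' := (hcomm g'.1).mp g'.2
    have hz := eq_zero_of_commute_of_apply_cyclic f n hdimV hfn v hv
      (Matrix.toLin' ((g : GL (Fin n) F) : Matrix (Fin n) (Fin n) F) -
        Matrix.toLin' ((g' : GL (Fin n) F) : Matrix (Fin n) (Fin n) F))
      (by rw [LinearMap.sub_comp, LinearMap.comp_sub, hc, hc'])
      (by rw [LinearMap.sub_apply, h1, sub_self])
    have := sub_eq_zero.mp hz
    have h2 := Matrix.toLin'.injective this
    apply Subtype.ext
    apply Units.ext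
    exact h2
  have hΨsurj : Function.Surjective Ψ := by
    rintro ⟨w, hw⟩
    obtain ⟨A, hAc, hAv⟩ := exists_commute_apply_eq f n hdimV hfn v hv w
    have hAinj := injective_of_commute_of_apply_cyclic f n hn hdimV hfn hker1 v A hAc (by rw [hAv]; exact hw)
    set M := LinearMap.toMatrix' A with hM
    have hMA : Matrix.toLin' M = A := Matrix.toLin'_toMatrix' A
    have hMunit : IsUnit M := by
      rw [← Matrix.mulVec_injective_iff_isUnit]
      have : M.mulVec = A := by
        funext x
        rw [← Matrix.toLin'_apply, hMA]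
      rw [this]
      exact hAinj
    obtain ⟨g, hg⟩ := hMunit
    have hgc : g ∈ Subgroup.centralizer ({u} : Set (GL (Fin n) F)) := by
      rw [hcomm, hg, hMA]
      exact hAc
    refine ⟨⟨g, hgc⟩, ?_⟩
    apply Subtype.ext
    show Matrix.toLin' (g : Matrix (Fin n) (Fin n) F) v = w
    rw [hg, hMA, hAv]
  have hbij : Function.Bijective Ψ := ⟨hΨinj, hΨsurj⟩
  rw [Nat.card_congr (Equiv.ofBijective Ψ hbij)]
  -- count
  have hkerdim := finrank_ker_pow_eq f n hdimV hfn hker1 (n - 1) (by omega)
  have hcardker : Nat.card (LinearMap.ker (f ^ (n - 1))) = q ^ (n - 1) := by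
    rw [Nat.card_eq_fintype_card, Module.card_eq_pow_finrank (K := F), hkerdim, hF]
  have hcardV : Nat.card (Fin n → F) = q ^ n := by
    rw [Nat.card_eq_fintype_card, Module.card_eq_pow_finrank (K := F), hdimV, hF]
  have hsplit : Nat.card {w : Fin n → F // (f ^ (n - 1)) w ≠ 0} =
      Nat.card (Fin n → F) - Nat.card (LinearMap.ker (f ^ (n - 1))) := by
    rw [Nat.card_eq_fintype_card, Nat.card_eq_fintype_card, Nat.card_eq_fintype_card]
    rw [Fintype.card_subtype_compl]
    congr 1
    exact Fintype.card_congr (Equiv.subtypeEquivRight fun x => LinearMap.mem_ker.symm)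
  rw [hsplit, hcardV, hcardker]
  obtain ⟨k, rfl⟩ : ∃ k, n = k + 1 := ⟨n - 1, by omega⟩
  simp only [Nat.add_sub_cancel]
  rw [pow_succ, Nat.sub_mul, one_mul, mul_comm]

end Cfsg.Agent.S2571
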