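import Cfsg.Statements.S2572

set_option autoImplicit false
open Cfsg

namespace Cfsg.Agent.S2572

open Matrix

section blocks

variable {F : Type*} [Field F] {k : ℕ}

/-- the column vector `e_1` -/
def uCol (F : Type*) [Field F] (k : ℕ) : Matrix (Unit ⊕ Fin k) Unit F :=
  Matrix.of fun i _ => if i = Sum.inl () then 1 else 0

/-- the standard rank one square zero matrix -/
def Nstd (F : Type*) [Field F] (k : ℕ) :
    Matrix (Unit ⊕ (Unit ⊕ Fin k)) (Unit ⊕ (Unit ⊕ Fin k)) F :=
  Matrix.fromBlocks 0 0 (uCol F k) 0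

theorem comm_iff (A : Matrix Unit Unit F) (B : Matrix Unit (Unit ⊕ Fin k) F)
    (C : Matrix (Unit ⊕ Fin k) Unit F) (D : Matrix (Unit ⊕ Fin k) (Unit ⊕ Fin k) F) :
    Matrix.fromBlocks A B C D * Nstd F k = Nstd F k * Matrix.fromBlocks A B C D ↔
      B = 0 ∧ ∀ i, D i (Sum.inl ()) = if i = Sum.inl () then A () () else 0 := by
  unfold Nstd
  rw [Matrix.fromBlocks_multiply, Matrix.fromBlocks_multiply, Matrix.fromBlocks_inj]
  simp only [Matrix.mul_zero, Matrix.zero_mul, zero_add, add_zero]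
  constructor
  · rintro ⟨h1, -, h3, h4⟩
    have hB : B = 0 := by
      ext i j
      have := congrFun (congrFun h4 (Sum.inl ())) j
      simp only [Matrix.mul_apply, uCol, Matrix.of_apply, Finset.univ_unique, Finset.sum_singleton,
        if_true, one_mul, Matrix.zero_apply] at this
      rw [Matrix.zero_apply, ← this]
    refine ⟨hB, ?_⟩
    intro i
    have := congrFun (congrFun h3 i) ()
    simp only [Matrix.mul_apply, uCol, Matrix.of_apply, Finset.univ_unique, Finset.sum_singleton,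
      mul_ite, mul_one, mul_zero, Finset.sum_ite_eq', Finset.mem_univ, if_true] at this
    rw [this]
    split_ifs <;> simp
  · rintro ⟨rfl, hD⟩
    refine ⟨by simp, trivial, ?_, by simp⟩
    ext i j
    simp only [Matrix.mul_apply, uCol, Matrix.of_apply, Finset.univ_unique, Finset.sum_singleton,
      mul_ite, mul_one, mul_zero, Finset.sum_ite_eq', Finset.mem_univ, if_true]
    rw [hD i]
    split_ifs <;> simp

/-- the structured matrix built from the data -/
def build (a : F) (C : Matrix (Unit ⊕ Fin k) Unit F) (r : Matrix Unit (Fin k) F)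
    (H : Matrix (Fin k) (Fin k) F) : Matrix (Unit ⊕ (Unit ⊕ Fin k)) (Unit ⊕ (Unit ⊕ Fin k)) F :=
  Matrix.fromBlocks (Matrix.of fun _ _ => a) 0 C
    (Matrix.fromBlocks (Matrix.of fun _ _ => a) r 0 H)

theorem build_det (a : F) (C : Matrix (Unit ⊕ Fin k) Unit F) (r : Matrix Unit (Fin k) F)
    (H : Matrix (Fin k) (Fin k) F) : (build a C r H).det = a * (a * H.det) := by
  unfold build
  rw [Matrix.det_fromBlocks_zero₁₂, Matrix.det_fromBlocks_zero₂₁, Matrix.det_unique]
  rfl

theorem build_comm (a : F) (C : Matrix (Unit ⊕ Fin k) Unit F) (r : Matrix Unit (Fin k) F)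
    (H : Matrix (Fin k) (Fin k) F) : build a C r H * Nstd F k = Nstd F k * build a C r H := by
  unfold build
  rw [comm_iff]
  refine ⟨rfl, ?_⟩
  rintro (⟨⟩ | j)
  · simp
  · simp

theorem eq_build (M : Matrix (Unit ⊕ (Unit ⊕ Fin k)) (Unit ⊕ (Unit ⊕ Fin k)) F)
    (hM : M * Nstd F k = Nstd F k * M) :
    M = build (M.toBlocks₁₁ () ()) M.toBlocks₂₁ M.toBlocks₂₂.toBlocks₁₂ M.toBlocks₂₂.toBlocks₂₂ := by
  have h0 := Matrix.fromBlocks_toBlocks M
  rw [← h0, comm_iff] at hM
  obtain ⟨hB, hD⟩ := hM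
  have e1 : M.toBlocks₂₂.toBlocks₁₁ = Matrix.of fun _ _ => M.toBlocks₁₁ () () := by
    ext ⟨⟩ ⟨⟩
    have := hD (Sum.inl ())
    simpa [Matrix.toBlocks₁₁] using this
  have e2 : M.toBlocks₂₂.toBlocks₂₁ = 0 := by
    ext j ⟨⟩
    have := hD (Sum.inr j)
    simpa [Matrix.toBlocks₂₁] using this
  have hD' : M.toBlocks₂₂ = Matrix.fromBlocks (Matrix.of fun _ _ => M.toBlocks₁₁ () ())
      M.toBlocks₂₂.toBlocks₁₂ 0 M.toBlocks₂₂.toBlocks₂₂ := by
    conv_lhs => rw [← Matrix.fromBlocks_toBlocks M.toBlocks₂₂]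
    rw [e1, e2]
  have hA : M.toBlocks₁₁ = Matrix.of fun _ _ => M.toBlocks₁₁ () () := by
    ext ⟨⟩ ⟨⟩
    rfl
  unfold build
  rw [← hD', ← hA, ← hB]
  exact h0.symm

/-- the parametrisation of the centraliser of the standard matrix -/
noncomputable def centEquiv (F : Type*) [Field F] (k : ℕ) :
    {M : Matrix (Unit ⊕ (Unit ⊕ Fin k)) (Unit ⊕ (Unit ⊕ Fin k)) F //
      M * Nstd F k = Nstd F k * M ∧ M.det ≠ 0} ≃
    ({a : F // a ≠ 0} × Matrix (Unit ⊕ Fin k) Unit F × Matrix Unit (Fin k) F ×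
      {H : Matrix (Fin k) (Fin k) F // H.det ≠ 0}) where
  toFun := fun M =>
    (⟨M.1.toBlocks₁₁ () (), by
        intro h0
        apply M.2.2
        rw [eq_build M.1 M.2.1, build_det, h0, zero_mul]⟩,
      M.1.toBlocks₂₁, M.1.toBlocks₂₂.toBlocks₁₂,
      ⟨M.1.toBlocks₂₂.toBlocks₂₂, by
        intro h0
        apply M.2.2
        rw [eq_build M.1 M.2.1, build_det, h0, mul_zero, mul_zero]⟩)
  invFun := fun d =>
    ⟨build d.1.1 d.2.1 d.2.2.1 d.2.2.2.1, build_comm _ _ _ _, by
      rw [build_det]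
      exact mul_ne_zero d.1.2 (mul_ne_zero d.1.2 d.2.2.2.2)⟩
  left_inv := by
    rintro ⟨M, hM, hdet⟩
    apply Subtype.ext
    exact (eq_build M hM).symm
  right_inv := by
    rintro ⟨⟨a, ha⟩, C, r, ⟨H, hH⟩⟩
    simp only [build, Matrix.toBlocks_fromBlocks₁₁, Matrix.toBlocks_fromBlocks₂₁,
      Matrix.toBlocks_fromBlocks₂₂, Matrix.toBlocks_fromBlocks₁₂, Matrix.of_apply]

end blocks

section adapted

open Module

variable {K V : Type*} [Field K] [AddCommGroup V] [Module K V] [FiniteDimensional K V]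

/-- An adapted basis for a rank one square zero endomorphism. -/
theorem exists_adapted_basis (k : ℕ) (hdim : finrank K V = k + 2) (f : V →ₗ[K] V)
    (hrank : finrank K (LinearMap.range f) = 1) (hsq : f ∘ₗ f = 0) :
    ∃ b : Basis (Fin (k + 2)) K V, f (b 0) = b 1 ∧ ∀ i, i ≠ 0 → f (b i) = 0 := by
  have hne : LinearMap.range f ≠ ⊥ := by
    intro h
    rw [h, finrank_bot] at hrank
    omega
  obtain ⟨a, ha, ha0⟩ := Submodule.exists_mem_ne_zero_of_ne_bot hne
  obtain ⟨e, rfl⟩ := ha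
  have hfa : f (f e) = 0 := LinearMap.congr_fun hsq e
  have hrange : LinearMap.range f = K ∙ (f e) := by
    symm
    apply Submodule.eq_of_le_of_finrank_eq
    · rw [Submodule.span_singleton_le_iff_mem]; exact ⟨e, rfl⟩
    · rw [finrank_span_singleton ha0, hrank]
  have hkerdim : finrank K (LinearMap.ker f) = k + 1 := by
    have := LinearMap.finrank_range_add_finrank_ker f
    omega
  let aK : LinearMap.ker f := ⟨f e, LinearMap.mem_ker.mpr hfa⟩
  have haK0 : aK ≠ 0 := by
    intro h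
    exact ha0 (congrArg Subtype.val h)
  obtain ⟨U, hU⟩ := Submodule.exists_isCompl (K ∙ aK)
  have hUdim : finrank K U = k := by
    have := Submodule.finrank_add_eq_of_isCompl hU
    rw [finrank_span_singleton haK0, hkerdim] at this
    omega
  let bU : Basis (Fin k) K U := finBasisOfFinrankEq K U hUdim
  let bK : Basis (Fin (k + 1)) K (LinearMap.ker f) :=
    Basis.mkFinCons aK bU
      (by
        intro c x hx hc
        rw [add_eq_zero_iff_neg_eq] at hc
        rw [← hc, Submodule.neg_mem_iff] at hx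
        have := hU.disjoint
        rw [Submodule.disjoint_def] at this
        have := this (c • aK) (Submodule.smul_mem _ _ <| Submodule.mem_span_singleton_self _) hx
        exact (smul_eq_zero.1 this).resolve_right haK0)
      (by
        intro z
        have hz : z ∈ (K ∙ aK) ⊔ U := by rw [hU.sup_eq_top]; trivial
        obtain ⟨y, hy, u, hu, rfl⟩ := Submodule.mem_sup.mp hz
        obtain ⟨c, rfl⟩ := Submodule.mem_span_singleton.mp hy
        refine ⟨-c, ?_⟩
        have : c • aK + u + -c • aK = u := by rw [neg_smul]; abel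
        rw [this]; exact hu)
  let b : Basis (Fin (k + 1 + 1)) K V :=
    Basis.mkFinCons e bK
      (by
        intro c x hx hc
        have h1 := congrArg f hc
        rw [map_add, map_smul, LinearMap.mem_ker.mp hx, add_zero, map_zero] at h1
        exact (smul_eq_zero.1 h1).resolve_right ha0)
      (by
        intro z
        have hz : f z ∈ K ∙ (f e) := by rw [← hrange]; exact ⟨z, rfl⟩
        obtain ⟨c, hc⟩ := Submodule.mem_span_singleton.mp hz
        refine ⟨-c, ?_⟩
        rw [LinearMap.mem_ker, map_add, map_smul, ← hc, neg_smul, add_neg_cancel])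
  refine ⟨b, ?_, ?_⟩
  · show f ((b : Fin (k + 1 + 1) → V) 0) = (b : Fin (k + 1 + 1) → V) 1
    rw [Basis.coe_mkFinCons]
    show f e = ((bK : Fin (k + 1) → LinearMap.ker f) 0 : V)
    rw [Basis.coe_mkFinCons]
    rfl
  · intro i hi
    show f ((b : Fin (k + 1 + 1) → V) i) = 0
    rw [Basis.coe_mkFinCons]
    obtain ⟨j, rfl⟩ := Fin.exists_succ_eq.mpr hi
    simp only [Fin.cons_succ, Function.comp_apply]
    exact LinearMap.mem_ker.mp (bK j).2

/-- index equivalence -/
def idxEquiv (k : ℕ) : Fin (k + 2) ≃ Unit ⊕ (Unit ⊕ Fin k) where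
  toFun := Fin.cases (Sum.inl ()) (Fin.cases (Sum.inr (Sum.inl ())) (fun i => Sum.inr (Sum.inr i)))
  invFun := Sum.elim (fun _ => 0)
    (Sum.elim (fun _ => (0 : Fin (k + 1)).succ) (fun i => i.succ.succ))
  left_inv := by
    intro i
    refine Fin.cases ?_ (fun i => Fin.cases ?_ (fun j => ?_) i) i
    · simp only [Fin.cases_zero, Sum.elim_inl]
    · simp only [Fin.cases_zero, Fin.cases_succ, Sum.elim_inl, Sum.elim_inr]
    · simp only [Fin.cases_succ, Sum.elim_inr]
  right_inv := by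
    rintro (⟨⟩ | ⟨⟩ | i)
    · simp only [Sum.elim_inl, Fin.cases_zero]
    · simp only [Sum.elim_inl, Sum.elim_inr, Fin.cases_zero, Fin.cases_succ]
    · simp only [Sum.elim_inr, Fin.cases_succ]

theorem idxEquiv_symm_inl (k : ℕ) : (idxEquiv k).symm (Sum.inl ()) = 0 := rfl

theorem idxEquiv_symm_inr_inl (k : ℕ) : (idxEquiv k).symm (Sum.inr (Sum.inl ())) = 1 := rfl

theorem idxEquiv_symm_inr_inr (k : ℕ) (i : Fin k) :
    (idxEquiv k).symm (Sum.inr (Sum.inr i)) = i.succ.succ := rfl

theorem exists_adapted_basis' (k : ℕ) (hdim : finrank K V = k + 2) (f : V →ₗ[K] V)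
    (hrank : finrank K (LinearMap.range f) = 1) (hsq : f ∘ₗ f = 0) :
    ∃ b : Basis (Unit ⊕ (Unit ⊕ Fin k)) K V, f (b (Sum.inl ())) = b (Sum.inr (Sum.inl ())) ∧
      ∀ i, f (b (Sum.inr i)) = 0 := by
  obtain ⟨b, h1, h2⟩ := exists_adapted_basis k hdim f hrank hsq
  refine ⟨b.reindex (idxEquiv k), ?_, ?_⟩
  · rw [Basis.reindex_apply, Basis.reindex_apply, idxEquiv_symm_inl, idxEquiv_symm_inr_inl]
    exact h1
  · intro i
    rw [Basis.reindex_apply]
    apply h2
    rcases i with ⟨⟩ | i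
    · rw [idxEquiv_symm_inr_inl]
      exact one_ne_zero
    · rw [idxEquiv_symm_inr_inr]
      exact Fin.succ_ne_zero _

end adapted

section main

open Module

theorem card_data {F : Type*} [Field F] [Fintype F] (k : ℕ) :
    Nat.card ({a : F // a ≠ 0} × Matrix (Unit ⊕ Fin k) Unit F × Matrix Unit (Fin k) F ×
      {H : Matrix (Fin k) (Fin k) F // H.det ≠ 0}) =
    (Fintype.card F - 1) * (Fintype.card F ^ (k + 1) * (Fintype.card F ^ k *
      ∏ i : Fin k, (Fintype.card F ^ k - Fintype.card F ^ (i : ℕ)))) := by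
  classical
  rw [Nat.card_prod, Nat.card_prod, Nat.card_prod]
  congr 1
  · rw [← Nat.card_congr (unitsEquivNeZero (G₀ := F)), Nat.card_eq_fintype_card, Fintype.card_units]
  congr 1
  · rw [Nat.card_eq_fintype_card]
    show Fintype.card ((Unit ⊕ Fin k) → Unit → F) = _
    simp [add_comm]
  congr 1
  · rw [Nat.card_eq_fintype_card]
    show Fintype.card (Unit → Fin k → F) = _
    simp
  · rw [← Matrix.card_GL_field (𝔽 := F) k]
    apply Nat.card_congr
    exact
      { toFun := fun H => Matrix.GeneralLinearGroup.mkOfDetNeZero H.1 H.2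
        invFun := fun g => ⟨g.1, by
          have := (Matrix.GeneralLinearGroup.det g).ne_zero
          rwa [Matrix.GeneralLinearGroup.val_det_apply] at this⟩
        left_inv := fun H => Subtype.ext rfl
        right_inv := fun g => Units.ext rfl }

theorem result {F : Type*} [Field F] [Fintype F] {q n : ℕ} (hF : Fintype.card F = q) (hn : 2 ≤ n) (t : GL (Fin n) F) (ht : Cfsg.IsTransvection (t : Matrix (Fin n) (Fin n) F)) : Nat.card ↥(Subgroup.centralizer ({t} : Set (GL (Fin n) F))) = q ^ (2 * n - 3) * (q - 1) * ∏ i : Fin (n - 2), (q ^ (n - 2) - q ^ (i : ℕ)) := by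
  classical
  obtain ⟨k, rfl⟩ : ∃ k, n = k + 2 := ⟨n - 2, by omega⟩
  set T : Matrix (Fin (k + 2)) (Fin (k + 2)) F := (t : Matrix (Fin (k + 2)) (Fin (k + 2)) F) with hT
  set N : Matrix (Fin (k + 2)) (Fin (k + 2)) F := T - 1 with hN
  let f := Matrix.toLin' N
  have hdim : finrank F (Fin (k + 2) → F) = k + 2 := by simp
  have hrank : finrank F (LinearMap.range f) = 1 := by
    exact (congrArg (fun g : (Fin (k + 2) → F) →ₗ[F] (Fin (k + 2) → F) => finrank F (LinearMap.range g))
      (Matrix.toLin'_apply' N)).trans ht.1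
  have hsq : f ∘ₗ f = 0 := by
    show Matrix.toLin' N ∘ₗ Matrix.toLin' N = 0
    rw [← Matrix.toLin'_mul, ht.2]; simp
  obtain ⟨b, hb1, hb2⟩ := exists_adapted_basis' k hdim f hrank hsq
  let Θ : Matrix (Fin (k + 2)) (Fin (k + 2)) F ≃ₐ[F]
      Matrix (Unit ⊕ (Unit ⊕ Fin k)) (Unit ⊕ (Unit ⊕ Fin k)) F :=
    (Matrix.toLinAlgEquiv' (R := F) (n := Fin (k + 2))).trans (LinearMap.toMatrixAlgEquiv b)
  have hΘ : ∀ M, Θ M = LinearMap.toMatrix b b (Matrix.toLin' M) := fun M => rfl
  have hΘdet : ∀ M, (Θ M).det = M.det := by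
    intro M
    rw [hΘ, LinearMap.det_toMatrix, LinearMap.det_toLin']
  have hΘN : Θ N = Nstd F k := by
    rw [hΘ]
    ext i j
    rw [LinearMap.toMatrix_apply]
    rcases j with ⟨⟩ | j
    · show (b.repr (f (b (Sum.inl ())))) i = _
      rw [hb1, Basis.repr_self, Finsupp.single_apply]
      rcases i with ⟨⟩ | ⟨⟩ | i <;> simp [Nstd, uCol]
    · show (b.repr (f (b (Sum.inr j)))) i = _
      rw [hb2, map_zero]
      rcases i with ⟨⟩ | i <;> simp [Nstd]
  -- first equivalence
  let e1 : ↥(Subgroup.centralizer ({t} : Set (GL (Fin (k + 2)) F))) ≃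
      {M : Matrix (Fin (k + 2)) (Fin (k + 2)) F // M * N = N * M ∧ M.det ≠ 0} :=
    { toFun := fun g => ⟨(g.1 : Matrix (Fin (k + 2)) (Fin (k + 2)) F), by
        have h1 := Subgroup.mem_centralizer_iff.mp g.2 t rfl
        have h2 : T * (g.1 : Matrix (Fin (k + 2)) (Fin (k + 2)) F) =
            (g.1 : Matrix (Fin (k + 2)) (Fin (k + 2)) F) * T := congrArg Units.val h1
        rw [hN, mul_sub, sub_mul, mul_one, one_mul, h2], by
        have := (Matrix.GeneralLinearGroup.det g.1).ne_zero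
        rwa [Matrix.GeneralLinearGroup.val_det_apply] at this⟩
      invFun := fun M => ⟨Matrix.GeneralLinearGroup.mkOfDetNeZero M.1 M.2.2, by
        rw [Subgroup.mem_centralizer_iff]
        intro h hh
        rw [Set.mem_singleton_iff] at hh
        rw [hh]
        apply Units.ext
        show T * M.1 = M.1 * T
        have h1 : M.1 * (T - 1) = (T - 1) * M.1 := M.2.1
        rw [mul_sub, sub_mul, mul_one, one_mul] at h1
        exact (sub_left_injective h1).symm⟩
      left_inv := fun g => Subtype.ext (Units.ext rfl)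
      right_inv := fun M => Subtype.ext rfl }
  let e2 : {M : Matrix (Fin (k + 2)) (Fin (k + 2)) F // M * N = N * M ∧ M.det ≠ 0} ≃
      {M : Matrix (Unit ⊕ (Unit ⊕ Fin k)) (Unit ⊕ (Unit ⊕ Fin k)) F //
        M * Nstd F k = Nstd F k * M ∧ M.det ≠ 0} :=
    Θ.toEquiv.subtypeEquiv (by
      intro M
      show _ ↔ Θ M * Nstd F k = Nstd F k * Θ M ∧ (Θ M).det ≠ 0
      rw [hΘdet, ← hΘN, ← map_mul, ← map_mul, Θ.injective.eq_iff])
  rw [Nat.card_congr (e1.trans (e2.trans (centEquiv F k))), card_data, hF]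
  have e3 : 2 * (k + 2) - 3 = (k + 1) + k := by omega
  show (q - 1) * (q ^ (k + 1) * (q ^ k * ∏ i : Fin k, (q ^ k - q ^ (i : ℕ)))) =
    q ^ (2 * (k + 2) - 3) * (q - 1) * ∏ i : Fin k, (q ^ k - q ^ (i : ℕ))
  rw [e3, pow_add (n := k)]
  ring

end main

end Cfsg.Agent.S2572
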