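import Cfsg.Statements.S2575

set_option autoImplicit false
open Cfsg

namespace Cfsg.Agent.S2575

theorem det_smul_diag {F : Type*} [Field F] {n : ℕ} (i : ℕ) (hi : i ≤ n) (c : F) :
    (c • Matrix.diagonal (fun j : Fin n => if (j : ℕ) < i then (-1 : F) else 1)).det = c ^ n * (-1) ^ i := by
  rw [Matrix.det_smul, Matrix.det_diagonal, Fintype.card_fin, Finset.prod_ite, Finset.prod_const_one, mul_one,
    Finset.prod_const]
  congr 2
  have := Fin.card_filter_val_lt (n := n) (m := i)
  rw [min_eq_right hi] at this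
  exact this

/-- two is nonzero in a finite field of odd order -/
theorem two_ne_zero_of_odd {F : Type*} [Field F] [Fintype F] (hq : Odd (Fintype.card F)) : (2 : F) ≠ 0 := by
  have hchar : ringChar F ≠ 2 := by
    intro h
    have := FiniteField.even_card_of_char_two h
    rcases hq with ⟨j, hj⟩
    omega
  exact Ring.two_ne_zero hchar

theorem neg_one_ne_one {F : Type*} [Field F] (h2 : (2 : F) ≠ 0) : (-1 : F) ≠ 1 := by
  intro h
  apply h2
  have : (1 : F) + 1 = 0 := by
    nth_rewrite 1 [← h]; ring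
  rw [← this]; norm_num

/-- In a finite field of odd order, there is an element `h` with `h ^ (2 ^ a) = -1`
whenever `2 ^ (a + 1)` divides `q - 1`. -/
theorem exists_pow_two_pow_eq_neg_one {F : Type*} [Field F] [Fintype F]
    (a : ℕ) (hdvd : 2 ^ (a + 1) ∣ Fintype.card F - 1) :
    ∃ h : F, h ≠ 0 ∧ h ^ (2 ^ a) = -1 := by
  classical
  obtain ⟨g, hg⟩ := IsCyclic.exists_ofOrder_eq_natCard (α := Fˣ)
  rw [Nat.card_units, Nat.card_eq_fintype_card] at hg
  obtain ⟨s, hs⟩ := hdvd
  have hN : 0 < Fintype.card F - 1 := by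
    have := Fintype.one_lt_card (α := F)
    omega
  have hs0 : 0 < s := by
    rcases Nat.eq_zero_or_pos s with h | h
    · rw [h, mul_zero] at hs; omega
    · exact h
  set y : Fˣ := g ^ (2 ^ a * s) with hy
  have hy2 : y ^ 2 = 1 := by
    rw [hy, ← pow_mul, show 2 ^ a * s * 2 = 2 ^ (a + 1) * s by ring, ← hs, ← hg, pow_orderOf_eq_one]
  have hy1 : y ≠ 1 := by
    rw [hy]
    apply pow_ne_one_of_lt_orderOf
    · have : 0 < 2 ^ a := by positivity
      exact (Nat.mul_pos this hs0).ne'
    · rw [hg, hs, pow_succ]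
      have : 0 < 2 ^ a * s := Nat.mul_pos (by positivity) hs0
      nlinarith
  have hyF : ((y : Fˣ) : F) ^ 2 = 1 := by
    rw [← Units.val_pow_eq_pow_val, hy2, Units.val_one]
  have hyF1 : ((y : Fˣ) : F) ≠ 1 := by
    intro h
    apply hy1
    exact Units.ext h
  have hyneg : ((y : Fˣ) : F) = -1 := by
    rcases sq_eq_one_iff.mp hyF with h | h
    · exact absurd h hyF1
    · exact h
  refine ⟨((g ^ s : Fˣ) : F), Units.ne_zero _, ?_⟩
  rw [← Units.val_pow_eq_pow_val, ← pow_mul, mul_comm s, ← hy, hyneg]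

theorem result {F : Type*} [Field F] [Fintype F] {q : ℕ} (hF : Fintype.card F = q) (hq : Odd q) {n : ℕ} (hn : 1 ≤ n) (i : ℕ) (hi : i ≤ n) : (∃ c : F, c ≠ 0 ∧ (c • Matrix.diagonal (fun j : Fin n => if (j : ℕ) < i then (-1 : F) else 1)).det = 1) ↔ (Even i ∨ padicValNat 2 n < padicValNat 2 (q - 1)) := by
  classical
  have h2 : (2 : F) ≠ 0 := two_ne_zero_of_odd (by rw [hF]; exact hq)
  have hne : (-1 : F) ≠ 1 := neg_one_ne_one h2
  have hn0 : n ≠ 0 := by omega
  have hq1 : q - 1 ≠ 0 := by
    have := Fintype.one_lt_card (α := F)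
    rcases hq with ⟨j, hj⟩
    omega
  simp only [det_smul_diag i hi]
  set a := padicValNat 2 n with ha
  set b := padicValNat 2 (q - 1) with hb
  rcases Nat.even_or_odd i with hie | hio
  · simp only [hie, true_or, iff_true]
    exact ⟨1, one_ne_zero, by rw [hie.neg_one_pow]; simp⟩
  · have hie : ¬ Even i := Nat.not_even_iff_odd.mpr hio
    simp only [hie, false_or, hio.neg_one_pow]
    constructor
    · rintro ⟨c, hc0, hc⟩
      have hcn : c ^ n = -1 := by linear_combination (-1 : F) * hc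
      by_contra hlt
      push Not at hlt
      -- b ≤ a, so 2^b ∣ n
      have hbn : 2 ^ b ∣ n := (padicValNat_dvd_iff_le hn0).mpr hlt
      obtain ⟨n'', hn''⟩ := hbn
      have hbq : 2 ^ b ∣ q - 1 := (padicValNat_dvd_iff_le hq1).mpr le_rfl
      obtain ⟨t, ht⟩ := hbq
      have htodd : Odd t := by
        rw [← Nat.not_even_iff_odd]
        rintro ⟨t', ht'⟩
        apply pow_succ_padicValNat_not_dvd (p := 2) hq1
        rw [← hb, ht, ht']
        exact ⟨t', by ring⟩
      have h1 : ((-1 : F)) ^ t = 1 := by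
        rw [← hcn, ← pow_mul, hn'', show 2 ^ b * n'' * t = (2 ^ b * t) * n'' by ring, ← ht, pow_mul,
          ← hF, FiniteField.pow_card_sub_one_eq_one c hc0, one_pow]
      rw [htodd.neg_one_pow] at h1
      exact hne h1
    · intro hlt
      have hdvd : 2 ^ (a + 1) ∣ Fintype.card F - 1 := by
        rw [hF]
        exact (padicValNat_dvd_iff_le hq1).mpr hlt
      obtain ⟨h, hh0, hh⟩ := exists_pow_two_pow_eq_neg_one a hdvd
      have han : 2 ^ a ∣ n := (padicValNat_dvd_iff_le hn0).mpr le_rfl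
      obtain ⟨n', hn'⟩ := han
      have hn'odd : Odd n' := by
        rw [← Nat.not_even_iff_odd]
        rintro ⟨t', ht'⟩
        apply pow_succ_padicValNat_not_dvd (p := 2) hn0
        rw [← ha]
        refine ⟨t', ?_⟩
        rw [hn', ht']; ring
      refine ⟨h, hh0, ?_⟩
      rw [hn', pow_mul, hh, hn'odd.neg_one_pow]
      ring

end Cfsg.Agent.S2575
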