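import Cfsg.Statements.S2576
import Cfsg.Agent.S2575

set_option autoImplicit false
open Cfsg

namespace Cfsg.Agent.S2576

theorem det_smul_block {F : Type*} [Field F] {m : ℕ} (μ c : F) :
    (c • Matrix.blockDiagonal (fun _ : Fin m => !![(0 : F), 1; μ, 0])).det = c ^ (2 * m) * (-μ) ^ m := by
  rw [Matrix.det_smul, Matrix.det_blockDiagonal]
  simp [Matrix.det_fin_two_of]

theorem result {F : Type*} [Field F] [Fintype F] {q : ℕ} (hF : Fintype.card F = q) (hq : Odd q) {m : ℕ} (hm : 1 ≤ m) (μ : F) (hμ : orderOf μ = 2 ^ padicValNat 2 (q - 1)) : (∃ c : F, c ≠ 0 ∧ (c • Matrix.blockDiagonal (fun _ : Fin m => !![(0 : F), 1; μ, 0])).det = 1) ↔ (q % 4 = 3 ∨ padicValNat 2 (q - 1) < padicValNat 2 (2 * m)) := by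
  classical
  have h2 : (2 : F) ≠ 0 := Cfsg.Agent.S2575.two_ne_zero_of_odd (by rw [hF]; exact hq)
  have hne : (-1 : F) ≠ 1 := Cfsg.Agent.S2575.neg_one_ne_one h2
  have hq1 : q - 1 ≠ 0 := by
    have := Fintype.one_lt_card (α := F)
    rcases hq with ⟨j, hj⟩
    omega
  have h2m0 : 2 * m ≠ 0 := by omega
  simp only [det_smul_block]
  set b := padicValNat 2 (q - 1) with hb
  set a₂ := padicValNat 2 (2 * m) with ha₂
  have hb1 : 1 ≤ b := by
    apply (padicValNat_dvd_iff_le hq1).mp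
    rcases hq with ⟨j, hj⟩
    exact ⟨j, by omega⟩
  have hμpow : μ ^ (2 ^ b) = 1 := by rw [← hμ]; exact pow_orderOf_eq_one μ
  -- μ ^ 2^(b-1) = -1
  have hμhalf : μ ^ (2 ^ (b - 1)) = -1 := by
    have hsq : (μ ^ (2 ^ (b - 1))) ^ 2 = 1 := by
      rw [← pow_mul, ← pow_succ, Nat.sub_add_cancel hb1, hμpow]
    have hne1 : μ ^ (2 ^ (b - 1)) ≠ 1 := by
      apply pow_ne_one_of_lt_orderOf
      · positivity
      · rw [hμ]
        apply Nat.pow_lt_pow_right (by norm_num)
        omega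
    rcases sq_eq_one_iff.mp hsq with h | h
    · exact absurd h hne1
    · exact h
  constructor
  · rintro ⟨c, hc0, hc⟩
    by_contra hcon
    push Not at hcon
    obtain ⟨hq4, hle⟩ := hcon
    have hb2 : 2 ≤ b := by
      apply (padicValNat_dvd_iff_le hq1).mp
      rcases hq with ⟨j, hj⟩
      exact ⟨j / 2, by omega⟩
    have ha1 : 1 ≤ a₂ := by
      apply (padicValNat_dvd_iff_le h2m0).mp
      exact ⟨m, by ring⟩
    obtain ⟨m', hm'⟩ := (padicValNat_dvd_iff_le (p := 2) h2m0).mpr (le_refl a₂)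
    have hm'odd : Odd m' := by
      rw [← Nat.not_even_iff_odd]
      rintro ⟨t', ht'⟩
      apply pow_succ_padicValNat_not_dvd (p := 2) h2m0
      rw [← ha₂]
      refine ⟨t', ?_⟩
      rw [hm', ht']; ring
    obtain ⟨t, ht⟩ := (padicValNat_dvd_iff_le (p := 2) hq1).mpr (le_refl b)
    have htodd : Odd t := by
      rw [← Nat.not_even_iff_odd]
      rintro ⟨t', ht'⟩
      apply pow_succ_padicValNat_not_dvd (p := 2) hq1
      rw [← hb]
      refine ⟨t', ?_⟩
      rw [ht, ht']; ring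
    -- m = 2^(a₂-1) m'
    have hmm : m = 2 ^ (a₂ - 1) * m' := by
      have : 2 * m = 2 * (2 ^ (a₂ - 1) * m') := by
        rw [hm', ← mul_assoc, ← pow_succ', Nat.sub_add_cancel ha1]
      omega
    set E := t * 2 ^ (b - a₂) with hE
    have h1 : (c ^ (2 * m)) ^ E = 1 := by
      rw [← pow_mul, hm', hE]
      have : 2 ^ a₂ * m' * (t * 2 ^ (b - a₂)) = (2 ^ b * t) * m' := by
        have : 2 ^ b = 2 ^ a₂ * 2 ^ (b - a₂) := by rw [← pow_add]; congr 1; omega
        rw [this]; ring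
      rw [this, ← ht, pow_mul, ← hF, FiniteField.pow_card_sub_one_eq_one c hc0, one_pow]
    have h3 : ((-μ) ^ m) ^ E = -1 := by
      rw [← pow_mul, hmm, hE]
      have : 2 ^ (a₂ - 1) * m' * (t * 2 ^ (b - a₂)) = 2 ^ (b - 1) * (m' * t) := by
        have : 2 ^ (b - 1) = 2 ^ (a₂ - 1) * 2 ^ (b - a₂) := by rw [← pow_add]; congr 1; omega
        rw [this]; ring
      rw [this, pow_mul, neg_pow, hμhalf]
      have hev : Even (2 ^ (b - 1)) := by
        refine ⟨2 ^ (b - 2), ?_⟩
        rw [← two_mul, ← pow_succ']; congr 1; omega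
      rw [hev.neg_one_pow, one_mul, (hm'odd.mul htodd).neg_one_pow]
    have h4 : (c ^ (2 * m) * (-μ) ^ m) ^ E = 1 := by rw [hc, one_pow]
    rw [mul_pow, h1, h3, one_mul] at h4
    exact hne h4
  · rintro (hq4 | hlt)
    · have hb1' : b = 1 := by
        have : ¬ 2 ≤ b := by
          intro h
          have := (padicValNat_dvd_iff_le (p := 2) hq1).mpr h
          omega
        omega
      rw [hb1'] at hμhalf
      simp only [Nat.sub_self, pow_zero, pow_one] at hμhalf
      refine ⟨1, one_ne_zero, ?_⟩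
      rw [hμhalf]; simp
    · refine ⟨1, one_ne_zero, ?_⟩
      have hdvd : 2 ^ (b + 1) ∣ 2 * m := (padicValNat_dvd_iff_le h2m0).mpr hlt
      obtain ⟨m'', hm''⟩ := hdvd
      have hmm : m = 2 ^ b * m'' := by
        rw [pow_succ'] at hm''
        have : 2 * m = 2 * (2 ^ b * m'') := by rw [hm'']; ring
        omega
      have hev : Even m := by
        refine ⟨2 ^ (b - 1) * m'', ?_⟩
        rw [hmm, ← two_mul, ← mul_assoc, ← pow_succ', Nat.sub_add_cancel hb1]
      rw [neg_pow, hev.neg_one_pow]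
      nth_rewrite 2 [hmm]
      rw [pow_mul μ, hμpow]
      simp

end Cfsg.Agent.S2576
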