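import Cfsg.Statements.S2577
import Cfsg.Agent.Lib.Helper43.InvolMatrix

set_option autoImplicit false
open Cfsg

namespace Cfsg.Agent.S2577

open Matrix Module Cfsg.Agent.Lib.Helper43

section

variable {F : Type*} [Field F] {n : ℕ}

theorem mem_center_iff (g : GL (Fin n) F) :
    g ∈ Subgroup.center (GL (Fin n) F) ↔
      ∃ a : F, (g : Matrix (Fin n) (Fin n) F) = a • (1 : Matrix (Fin n) (Fin n) F) := by
  rw [Matrix.GeneralLinearGroup.mem_center_iff_val_mem_range_scalar]
  constructor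
  · rintro ⟨a, ha⟩
    refine ⟨a, ?_⟩
    rw [← ha, Matrix.scalar_apply, Matrix.smul_one_eq_diagonal]
  · rintro ⟨a, ha⟩
    refine ⟨a, ?_⟩
    rw [ha, Matrix.scalar_apply, Matrix.smul_one_eq_diagonal]

/-- the unit with a given scalar-square matrix as value -/
noncomputable def unitOfSq (M : Matrix (Fin n) (Fin n) F) (c : F) (hc : c ≠ 0)
    (hM : M * M = c • (1 : Matrix (Fin n) (Fin n) F)) : GL (Fin n) F :=
  ⟨M, c⁻¹ • M, by rw [Matrix.mul_smul, hM, smul_smul, inv_mul_cancel₀ hc, one_smul],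
    by rw [Matrix.smul_mul, hM, smul_smul, inv_mul_cancel₀ hc, one_smul]⟩

/-- the scalar unit -/
noncomputable def scalarUnit (s : F) (hs : s ≠ 0) : GL (Fin n) F :=
  ⟨s • 1, s⁻¹ • 1, by rw [Matrix.smul_mul, Matrix.mul_smul, mul_one, smul_smul,
      mul_inv_cancel₀ hs, one_smul],
    by rw [Matrix.smul_mul, Matrix.mul_smul, mul_one, smul_smul, inv_mul_cancel₀ hs, one_smul]⟩

theorem scalarUnit_mem_center (s : F) (hs : s ≠ 0) :
    scalarUnit (n := n) s hs ∈ Subgroup.center (GL (Fin n) F) :=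
  (mem_center_iff _).mpr ⟨s, rfl⟩

theorem orderOf_mk_eq_two_iff (g : GL (Fin n) F) :
    orderOf (QuotientGroup.mk g : GL (Fin n) F ⧸ Subgroup.center (GL (Fin n) F)) = 2 ↔
      g ∉ Subgroup.center (GL (Fin n) F) ∧ g * g ∈ Subgroup.center (GL (Fin n) F) := by
  haveI : Fact (Nat.Prime 2) := ⟨Nat.prime_two⟩
  rw [orderOf_eq_prime_iff, ← QuotientGroup.mk_pow, QuotientGroup.eq_one_iff, pow_two, ne_eq,
    QuotientGroup.eq_one_iff]
  exact and_comm

theorem isConj_mk_iff (g g' : GL (Fin n) F) :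
    IsConj (QuotientGroup.mk g : GL (Fin n) F ⧸ Subgroup.center (GL (Fin n) F))
      (QuotientGroup.mk g') ↔
      ∃ c : GL (Fin n) F, ∃ z ∈ Subgroup.center (GL (Fin n) F), c * g * c⁻¹ = g' * z := by
  rw [isConj_iff]
  constructor
  · rintro ⟨cbar, hc⟩
    obtain ⟨c, rfl⟩ := QuotientGroup.mk_surjective cbar
    rw [← QuotientGroup.mk_inv, ← QuotientGroup.mk_mul, ← QuotientGroup.mk_mul] at hc
    have := QuotientGroup.eq.mp hc.symm
    exact ⟨c, _, this, by group⟩
  · rintro ⟨c, z, hz, hcz⟩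
    refine ⟨QuotientGroup.mk c, ?_⟩
    rw [← QuotientGroup.mk_inv, ← QuotientGroup.mk_mul, ← QuotientGroup.mk_mul, hcz,
      QuotientGroup.mk_mul, (QuotientGroup.eq_one_iff z).mpr hz, mul_one]

variable [Fintype F]

theorem rmin_eq_of_isConj (hn : 1 ≤ n) {g g' : GL (Fin n) F}
    (h : IsConj (QuotientGroup.mk g : GL (Fin n) F ⧸ Subgroup.center (GL (Fin n) F))
      (QuotientGroup.mk g')) :
    rmin (g : Matrix (Fin n) (Fin n) F) = rmin (g' : Matrix (Fin n) (Fin n) F) := by
  rw [isConj_mk_iff] at h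
  obtain ⟨c, z, hz, hcz⟩ := h
  obtain ⟨a, ha⟩ := (mem_center_iff z).mp hz
  have ha0 : a ≠ 0 := by
    rintro rfl
    rw [zero_smul] at ha
    have h1 : (z : Matrix (Fin n) (Fin n) F) * ((z⁻¹ : GL (Fin n) F) : Matrix (Fin n) (Fin n) F)
        = 1 := by rw [← Units.val_mul, mul_inv_cancel, Units.val_one]
    rw [ha, zero_mul] at h1
    have := congrFun (congrFun h1 ⟨0, by omega⟩) ⟨0, by omega⟩
    simp at this
  have h1 := congrArg Units.val hcz
  rw [Units.val_mul, Units.val_mul, Units.val_mul, ha, Matrix.mul_smul, mul_one] at h1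
  rw [← rmin_smul (g' : Matrix (Fin n) (Fin n) F) ha0, ← h1, rmin_conj]
  rw [← Units.val_mul, mul_inv_cancel, Units.val_one]

theorem smul_one_injective (hn : 1 ≤ n) {a b : F}
    (h : a • (1 : Matrix (Fin n) (Fin n) F) = b • (1 : Matrix (Fin n) (Fin n) F)) : a = b := by
  have := congrFun (congrFun h ⟨0, by omega⟩) ⟨0, by omega⟩
  simpa using this

theorem sq_data (hn : 1 ≤ n) (g : GL (Fin n) F)
    (h : orderOf (QuotientGroup.mk g : GL (Fin n) F ⧸ Subgroup.center (GL (Fin n) F)) = 2) :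
    ∃ c : F, c ≠ 0 ∧
      (g : Matrix (Fin n) (Fin n) F) * (g : Matrix (Fin n) (Fin n) F) =
        c • (1 : Matrix (Fin n) (Fin n) F) ∧
      ∀ a : F, (g : Matrix (Fin n) (Fin n) F) ≠ a • (1 : Matrix (Fin n) (Fin n) F) := by
  rw [orderOf_mk_eq_two_iff] at h
  obtain ⟨hnc, hsq⟩ := h
  obtain ⟨c, hc⟩ := (mem_center_iff _).mp hsq
  rw [Units.val_mul] at hc
  refine ⟨c, ?_, hc, ?_⟩
  · rintro rfl
    rw [zero_smul] at hc
    have h1 : (g : Matrix (Fin n) (Fin n) F) * (g : Matrix (Fin n) (Fin n) F) *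
        (((g * g)⁻¹ : GL (Fin n) F) : Matrix (Fin n) (Fin n) F) = 1 := by
      rw [← Units.val_mul, ← Units.val_mul, mul_inv_cancel, Units.val_one]
    rw [hc, zero_mul] at h1
    have := congrFun (congrFun h1 ⟨0, by omega⟩) ⟨0, by omega⟩
    simp at this
  · intro a ha
    exact hnc ((mem_center_iff g).mpr ⟨a, ha⟩)

theorem isConj_of_rmin_eq [DecidableEq F] (h2 : (2 : F) ≠ 0) (hn : 1 ≤ n) (g g' : GL (Fin n) F)
    (hg : orderOf (QuotientGroup.mk g : GL (Fin n) F ⧸ Subgroup.center (GL (Fin n) F)) = 2)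
    (hg' : orderOf (QuotientGroup.mk g' : GL (Fin n) F ⧸ Subgroup.center (GL (Fin n) F)) = 2)
    (hr : rmin (g : Matrix (Fin n) (Fin n) F) = rmin (g' : Matrix (Fin n) (Fin n) F)) :
    IsConj (QuotientGroup.mk g : GL (Fin n) F ⧸ Subgroup.center (GL (Fin n) F))
      (QuotientGroup.mk g') := by
  obtain ⟨c, hc, hM, hns⟩ := sq_data hn g hg
  obtain ⟨c', hc', hM', hns'⟩ := sq_data hn g' hg'
  obtain ⟨P, P', hPP', s, hs, hconj⟩ := exists_conj_smul h2 hn hc hc' hM hM' hns hns' hr
  rw [isConj_mk_iff]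
  refine ⟨⟨P, P', hPP', mul_eq_one_comm.mp hPP'⟩, scalarUnit s hs, scalarUnit_mem_center s hs, ?_⟩
  apply Units.ext
  rw [Units.val_mul, Units.val_mul, Units.val_mul]
  show P * (g : Matrix (Fin n) (Fin n) F) * P' =
    (g' : Matrix (Fin n) (Fin n) F) * (s • (1 : Matrix (Fin n) (Fin n) F))
  rw [hconj, Matrix.mul_smul, mul_one]

theorem exists_rep [DecidableEq F] (h2 : (2 : F) ≠ 0) (hn : 2 ≤ n) (b : ℕ)
    (hb : (1 ≤ b ∧ 2 * b ≤ n) ∨ (b = n ∧ Even n)) :
    ∃ g : GL (Fin n) F,
      orderOf (QuotientGroup.mk g : GL (Fin n) F ⧸ Subgroup.center (GL (Fin n) F)) = 2 ∧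
      rmin (g : Matrix (Fin n) (Fin n) F) = b := by
  rcases hb with ⟨hb1, hb2⟩ | ⟨rfl, heven⟩
  · obtain ⟨M, hM, hns, hr⟩ := exists_split_rep (F := F) (n := n) h2 b hb1 hb2
    have hM' : M * M = (1 : F) • (1 : Matrix (Fin n) (Fin n) F) := by rw [hM, one_smul]
    refine ⟨unitOfSq M 1 one_ne_zero hM', ?_, hr⟩
    rw [orderOf_mk_eq_two_iff]
    constructor
    · intro hmem
      obtain ⟨a, ha⟩ := (mem_center_iff _).mp hmem
      exact hns a ha
    · rw [mem_center_iff]
      exact ⟨1, by rw [Units.val_mul]; exact hM'⟩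
  · have hring : ringChar F ≠ 2 := by
      intro h
      apply h2
      have := ringChar.spec F 2
      have h3 : ((2 : ℕ) : F) = 0 := (ringChar.spec F 2).mpr (by rw [h])
      exact_mod_cast h3
    obtain ⟨ε, hε⟩ := FiniteField.exists_nonsquare hring
    have hε0 : ε ≠ 0 := by
      rintro rfl
      exact hε ⟨0, by simp⟩
    obtain ⟨M, hM⟩ := exists_sq_eq_smul (F := F) (n := b) heven ε
    refine ⟨unitOfSq M ε hε0 hM, ?_, rmin_nonsplit hM hε⟩
    rw [orderOf_mk_eq_two_iff]
    constructor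
    · intro hmem
      obtain ⟨a, ha⟩ := (mem_center_iff _).mp hmem
      have ha' : M = a • (1 : Matrix (Fin b) (Fin b) F) := ha
      apply hε
      refine ⟨a, ?_⟩
      apply smul_one_injective (n := b) (by omega)
      rw [← hM, ha', Matrix.smul_mul, Matrix.mul_smul, mul_one, smul_smul]
    · rw [mem_center_iff]
      exact ⟨ε, by rw [Units.val_mul]; exact hM⟩

end

/-- Number of conjugacy classes of involutions in PGL_n(q) for q odd and n ≥ 2: there are ⌊n/2⌋ classes represented by diagonal matrices with i entries −1 (1 ≤ i ≤ n/2) and, when n is even, one more class represented by a block-diagonal matrix of 2 × 2 blocks [[0, 1], [μ, 0]] with μ a non-square (a matrix squaring to a scalar but having no eigenvalue in the field); in all ⌊n/2⌋ + 1 classes if n is even and ⌊n/2⌋ if n is odd. -/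
theorem result {F : Type*} [Field F] [Fintype F] {q : ℕ} (hF : Fintype.card F = q) (hq : Odd q) {n : ℕ} (hn : 2 ≤ n) : Nat.card {C : ConjClasses (GL (Fin n) F ⧸ Subgroup.center (GL (Fin n) F)) // ∃ g : GL (Fin n) F ⧸ Subgroup.center (GL (Fin n) F), ConjClasses.mk g = C ∧ orderOf g = 2} = n / 2 + (if Even n then 1 else 0) := by
  classical
  have hring : ringChar F ≠ 2 := by
    intro hring
    have := FiniteField.even_card_iff_char_two.mp hring
    rw [hF] at this
    rcases hq with ⟨k, hk⟩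
    omega
  have h2 : (2 : F) ≠ 0 := by
    intro h2
    apply hring
    have h2' : ((2 : ℕ) : F) = 0 := by exact_mod_cast h2
    exact CharP.ringChar_of_prime_eq_zero Nat.prime_two h2'
  have hn1 : 1 ≤ n := by omega
  set S : Set (ConjClasses (GL (Fin n) F ⧸ Subgroup.center (GL (Fin n) F))) :=
    {C | ∃ g : GL (Fin n) F ⧸ Subgroup.center (GL (Fin n) F),
      ConjClasses.mk g = C ∧ orderOf g = 2} with hS
  have hrep : ∀ C ∈ S, ∃ g : GL (Fin n) F,
      ConjClasses.mk (QuotientGroup.mk g : GL (Fin n) F ⧸ Subgroup.center (GL (Fin n) F)) = C ∧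
      orderOf (QuotientGroup.mk g : GL (Fin n) F ⧸ Subgroup.center (GL (Fin n) F)) = 2 := by
    rintro C ⟨gbar, rfl, hg⟩
    obtain ⟨g, rfl⟩ := QuotientGroup.mk_surjective gbar
    exact ⟨g, rfl, hg⟩
  choose! rep hrep1 hrep2 using hrep
  set I : Finset ℕ := (Finset.Icc 1 (n / 2)) ∪ (if Even n then {n} else ∅) with hIdef
  have hI : ∀ b, b ∈ I ↔ (1 ≤ b ∧ 2 * b ≤ n) ∨ (b = n ∧ Even n) := by
    intro b
    rw [hIdef, Finset.mem_union, Finset.mem_Icc]
    constructor
    · rintro (⟨h1, h3⟩ | h)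
      · left; exact ⟨h1, by omega⟩
      · right
        by_cases he : Even n
        · rw [if_pos he, Finset.mem_singleton] at h
          exact ⟨h, he⟩
        · rw [if_neg he] at h
          exact absurd h (Finset.notMem_empty b)
    · rintro (⟨h1, h3⟩ | ⟨rfl, he⟩)
      · left; exact ⟨h1, by omega⟩
      · right
        rw [if_pos he]
        exact Finset.mem_singleton_self b
  have hcard : I.card = n / 2 + (if Even n then 1 else 0) := by
    rw [hIdef, Finset.card_union_of_disjoint, Nat.card_Icc]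
    · congr 1
      by_cases he : Even n
      · rw [if_pos he, if_pos he, Finset.card_singleton]
      · rw [if_neg he, if_neg he, Finset.card_empty]
    · rw [Finset.disjoint_left]
      intro b hb1 hb2
      rw [Finset.mem_Icc] at hb1
      by_cases he : Even n
      · rw [if_pos he, Finset.mem_singleton] at hb2
        omega
      · rw [if_neg he] at hb2
        exact absurd hb2 (Finset.notMem_empty b)
  have key : S.ncard = (↑I : Set ℕ).ncard := by
    apply Set.ncard_congr (fun C _ => rmin ((rep C : GL (Fin n) F) : Matrix (Fin n) (Fin n) F))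
    · intro C hC
      rw [Finset.mem_coe, hI]
      obtain ⟨c, hc, hM, hns⟩ := sq_data hn1 _ (hrep2 C hC)
      exact rmin_mem_of_sq h2 hc hM hns
    · intro C C' hC hC' h
      have := isConj_of_rmin_eq h2 hn1 _ _ (hrep2 C hC) (hrep2 C' hC') h
      rw [← hrep1 C hC, ← hrep1 C' hC', ConjClasses.mk_eq_mk_iff_isConj]
      exact this
    · intro b hb
      rw [Finset.mem_coe, hI] at hb
      obtain ⟨g, hg, hr⟩ := exists_rep h2 hn b hb
      have hC : ConjClasses.mk
          (QuotientGroup.mk g : GL (Fin n) F ⧸ Subgroup.center (GL (Fin n) F)) ∈ S :=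
        ⟨_, rfl, hg⟩
      refine ⟨_, hC, ?_⟩
      rw [← hr]
      apply rmin_eq_of_isConj hn1
      rw [← ConjClasses.mk_eq_mk_iff_isConj]
      exact hrep1 _ hC
  have h3 : Nat.card ↥S = S.ncard := Nat.card_coe_set_eq S
  rw [Set.ncard_coe_finset, hcard] at key
  exact h3.trans key

end Cfsg.Agent.S2577
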