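import Cfsg.Statements.S2578
import Cfsg.Agent.Lib.Helper43.RegConj

set_option autoImplicit false
open Cfsg

namespace Cfsg.Agent.S2578

open Cfsg.Agent.Lib.Helper43 Module Matrix

variable {F : Type*} [Field F] {n : ℕ}

/-- regularity predicate -/
def Reg (U : Matrix (Fin n) (Fin n) F) : Prop := (U - 1) ^ n = 0 ∧ (U - 1).rank = n - 1

theorem reg_toLin (U : Matrix (Fin n) (Fin n) F) (h : Reg U) :
    (Matrix.toLin' (U - 1)) ^ n = 0 ∧ finrank F (LinearMap.ker (Matrix.toLin' (U - 1))) ≤ 1 := by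
  constructor
  · rw [← Matrix.toLin'_pow, h.1]; simp
  · have h1 := LinearMap.finrank_range_add_finrank_ker (Matrix.toLin' (U - 1))
    have h2 : finrank F (LinearMap.range (Matrix.toLin' (U - 1))) = n - 1 := by
      rw [Matrix.toLin'_apply']; exact h.2
    rw [h2] at h1
    simp at h1
    omega

/-- L1 -/
theorem exists_conj_of_reg (hn1 : 1 ≤ n) (U U' : Matrix (Fin n) (Fin n) F) (h : Reg U) (h' : Reg U') :
    ∃ M : Matrix (Fin n) (Fin n) F, M.det ≠ 0 ∧ M * U = U' * M := by
  obtain ⟨hfn, hker⟩ := reg_toLin U h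
  obtain ⟨hfn', hker'⟩ := reg_toLin U' h'
  have hdim : finrank F (Fin n → F) = n := by simp
  obtain ⟨v, hv⟩ := exists_cyclic _ n hn1 hdim hker
  obtain ⟨v', hv'⟩ := exists_cyclic _ n hn1 hdim hker'
  obtain ⟨A, hA, -⟩ := exists_equiv_conj _ _ n hn1 hdim hfn hfn' v v' hv hv'
  refine ⟨LinearMap.toMatrix' A.toLinearMap, ?_, ?_⟩
  · rw [LinearMap.det_toMatrix']
    exact (LinearEquiv.isUnit_det' A).ne_zero
  · have h1 := congrArg LinearMap.toMatrix' hA
    rw [LinearMap.toMatrix'_comp, LinearMap.toMatrix'_comp, LinearMap.toMatrix'_toLin',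
      LinearMap.toMatrix'_toLin'] at h1
    rw [mul_sub, sub_mul, mul_one, one_mul] at h1
    exact sub_left_injective h1

/-- L2 -/
theorem exists_det_eq_pow (hn1 : 1 ≤ n) (U M : Matrix (Fin n) (Fin n) F) (h : Reg U)
    (hM : M * U = U * M) : ∃ c : F, M.det = c ^ n := by
  obtain ⟨hfn, hker⟩ := reg_toLin U h
  have hdim : finrank F (Fin n → F) = n := by simp
  have hcomm : Matrix.toLin' M ∘ₗ Matrix.toLin' (U - 1) = Matrix.toLin' (U - 1) ∘ₗ Matrix.toLin' M := by
    rw [← Matrix.toLin'_mul, ← Matrix.toLin'_mul, mul_sub, sub_mul, hM, mul_one, one_mul]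
  obtain ⟨c, hc⟩ := exists_det_eq_pow_of_commute _ n hn1 hdim hfn hker _ hcomm
  rw [LinearMap.det_toLin'] at hc
  exact ⟨c, hc⟩

/-- L3 -/
theorem reg_conj (U G G' : Matrix (Fin n) (Fin n) F) (h : Reg U) (hGG' : G * G' = 1) :
    Reg (G * U * G') := by
  have hG'G : G' * G = 1 := mul_eq_one_comm.mp hGG'
  have h1 : G * U * G' - 1 = G * (U - 1) * G' := by
    rw [mul_sub, sub_mul, mul_one, hGG']
  have hpow : ∀ k : ℕ, (G * (U - 1) * G') ^ k = G * (U - 1) ^ k * G' := by
    intro k
    induction k with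
    | zero => simp [hGG']
    | succ k ih =>
      rw [pow_succ, ih, pow_succ]
      calc G * (U - 1) ^ k * G' * (G * (U - 1) * G')
          = G * (U - 1) ^ k * (G' * G) * (U - 1) * G' := by simp only [mul_assoc]
        _ = G * ((U - 1) ^ k * (U - 1)) * G' := by rw [hG'G, mul_one]; simp only [mul_assoc]
  have hGdet : IsUnit G.det := by
    have := congrArg Matrix.det hGG'
    rw [det_mul, det_one] at this
    exact IsUnit.of_mul_eq_one _ this
  have hG'det : IsUnit G'.det := by
    have := congrArg Matrix.det hG'G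
    rw [det_mul, det_one] at this
    exact IsUnit.of_mul_eq_one _ this
  constructor
  · rw [h1, hpow, h.1]; simp
  · rw [h1, Matrix.rank_mul_eq_left_of_isUnit_det _ _ hG'det,
      Matrix.rank_mul_eq_right_of_isUnit_det _ _ hGdet]
    exact h.2



/-- the subdiagonal shift matrix -/
def shiftJ (F : Type*) [Field F] (n : ℕ) : Matrix (Fin n) (Fin n) F :=
  Matrix.of (fun i j : Fin n => if (j : ℕ) + 1 = (i : ℕ) then (1 : F) else 0)

theorem shiftJ_mulVec (x : Fin n → F) (i : Fin n) :
    (shiftJ F n).mulVec x i = if h : 0 < (i : ℕ) then x ⟨(i : ℕ) - 1, by omega⟩ else 0 := by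
  unfold shiftJ Matrix.mulVec dotProduct
  simp only [Matrix.of_apply]
  split_ifs with h
  · rw [Finset.sum_eq_single ⟨(i : ℕ) - 1, by omega⟩]
    · have : (i : ℕ) - 1 + 1 = (i : ℕ) := by omega
      simp [this]
    · intro j _ hj
      have : ¬ ((j : ℕ) + 1 = (i : ℕ)) := by
        intro h'
        apply hj
        apply Fin.ext
        simp
        omega
      simp [this]
    · intro h'
      exact absurd (Finset.mem_univ _) h'
  · apply Finset.sum_eq_zero
    intro j _
    have : ¬ ((j : ℕ) + 1 = (i : ℕ)) := by omega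
    simp [this]

theorem shiftJ_pow_mulVec (k : ℕ) (x : Fin n → F) (i : Fin n) :
    ((shiftJ F n) ^ k).mulVec x i = if h : k ≤ (i : ℕ) then x ⟨(i : ℕ) - k, by omega⟩ else 0 := by
  induction k generalizing x i with
  | zero => simp
  | succ k ih =>
    rw [pow_succ, ← Matrix.mulVec_mulVec, ih]
    by_cases h1 : k ≤ (i : ℕ)
    · simp only [h1, dite_true]
      rw [shiftJ_mulVec]
      by_cases h2 : k + 1 ≤ (i : ℕ)
      · have : 0 < (i : ℕ) - k := by omega
        simp only [this, h2, dite_true]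
        congr 1
      · have : ¬ 0 < (i : ℕ) - k := by omega
        simp only [this, h2, dite_false]
    · have h2 : ¬ k + 1 ≤ (i : ℕ) := by omega
      simp only [h1, h2, dite_false]

theorem shiftJ_pow_eq_zero : (shiftJ F n) ^ n = 0 := by
  apply Matrix.toLin'.injective
  apply LinearMap.ext
  intro x
  funext i
  rw [Matrix.toLin'_apply, shiftJ_pow_mulVec]
  have : ¬ n ≤ (i : ℕ) := by have := i.2; omega
  simp [this]

theorem shiftJ_rank (hn1 : 1 ≤ n) : (shiftJ F n).rank = n - 1 := by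
  classical
  have h1 := LinearMap.finrank_range_add_finrank_ker (Matrix.toLin' (shiftJ F n))
  have h2 : finrank F (LinearMap.range (Matrix.toLin' (shiftJ F n))) = (shiftJ F n).rank := by
    rw [Matrix.toLin'_apply']; rfl
  rw [h2] at h1
  simp only [finrank_fintype_fun_eq_card, Fintype.card_fin] at h1
  let last : Fin n := ⟨n - 1, by omega⟩
  have hker : LinearMap.ker (Matrix.toLin' (shiftJ F n)) = F ∙ (Pi.single last (1 : F)) := by
    apply le_antisymm
    · intro x hx
      rw [LinearMap.mem_ker, Matrix.toLin'_apply] at hx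
      rw [Submodule.mem_span_singleton]
      refine ⟨x last, ?_⟩
      funext j
      by_cases hj : j = last
      · subst hj; simp
      · have hjlt : (j : ℕ) + 1 < n := by
          have := j.2
          have : (j : ℕ) ≠ n - 1 := fun h => hj (Fin.ext h)
          omega
        have := congrFun hx ⟨(j : ℕ) + 1, hjlt⟩
        rw [shiftJ_mulVec] at this
        simp at this
        simp [hj, this]
    · rw [Submodule.span_singleton_le_iff_mem, LinearMap.mem_ker, Matrix.toLin'_apply]
      funext i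
      rw [shiftJ_mulVec]
      split_ifs with h
      · have : (⟨(i : ℕ) - 1, by omega⟩ : Fin n) ≠ last := by
          intro h'
          have := congrArg Fin.val h'
          simp [last] at this
          have := i.2
          omega
        simp [this]
      · rfl
  have hne : (Pi.single last (1 : F) : Fin n → F) ≠ 0 := by
    intro h
    have := congrFun h last
    simp at this
  rw [hker, finrank_span_singleton hne] at h1
  omega

theorem exists_reg (hn1 : 1 ≤ n) : ∃ U : Matrix (Fin n) (Fin n) F, U.det = 1 ∧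
    (U - 1) ^ n = 0 ∧ (U - 1).rank = n - 1 := by
  refine ⟨1 + shiftJ F n, ?_, ?_, ?_⟩
  · have hdim : finrank F (Fin n → F) = n := by simp
    have hnil : IsNilpotent (Matrix.toLin' (shiftJ F n)) := by
      refine ⟨n, ?_⟩
      rw [← Matrix.toLin'_pow, shiftJ_pow_eq_zero]; simp
    have := det_smul_one_add_nilpotent n hdim (1 : F) _ hnil
    rw [one_smul, one_pow] at this
    rw [← LinearMap.det_toLin', map_add, Matrix.toLin'_one]
    exact this
  · rw [add_sub_cancel_left]; exact shiftJ_pow_eq_zero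
  · rw [add_sub_cancel_left]; exact shiftJ_rank hn1



/-- pure counting principle -/
theorem card_of_param {α β : Type*} [Group α] (H : Subgroup α) (P : β → Prop) (φ : α → β)
    (ha : ∀ d, P (φ d)) (hb : ∀ C, P C → ∃ d, φ d = C)
    (hc : ∀ d d', φ d = φ d' ↔ d⁻¹ * d' ∈ H) :
    Nat.card {C // P C} = H.index := by
  rw [Subgroup.index]
  symm
  apply Nat.card_congr
  refine Equiv.ofBijective
    (Quotient.lift (fun d => (⟨φ d, ha d⟩ : {C // P C})) ?_) ⟨?_, ?_⟩
  · intro a b hab
    apply Subtype.ext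
    exact (hc a b).mpr (QuotientGroup.leftRel_apply.mp hab)
  · intro x y
    induction x using Quotient.inductionOn with
    | _ a =>
    induction y using Quotient.inductionOn with
    | _ b =>
    intro h
    apply Quotient.sound
    apply QuotientGroup.leftRel_apply.mpr
    apply (hc a b).mp
    exact congrArg Subtype.val h
  · rintro ⟨C, hC⟩
    obtain ⟨d, rfl⟩ := hb C hC
    exact ⟨Quotient.mk _ d, rfl⟩

/-- diagonal matrix with `d` in the first slot -/
def diagG (F : Type*) [Field F] (n : ℕ) (d : F) : Matrix (Fin n) (Fin n) F :=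
  Matrix.diagonal (fun i : Fin n => if (i : ℕ) = 0 then d else 1)

theorem diagG_det (hn1 : 1 ≤ n) (d : F) : (diagG F n d).det = d := by
  unfold diagG
  rw [Matrix.det_diagonal, Finset.prod_eq_single ⟨0, hn1⟩]
  · simp
  · intro j _ hj
    have : (j : ℕ) ≠ 0 := fun h => hj (Fin.ext h)
    simp [this]
  · intro h
    exact absurd (Finset.mem_univ _) h

/-- conjugate of an `SL` element by a `GL` element -/
def conjSL (g : GL (Fin n) F) (u : Matrix.SpecialLinearGroup (Fin n) F) :
    Matrix.SpecialLinearGroup (Fin n) F :=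
  ⟨(g : Matrix (Fin n) (Fin n) F) * u * ((g⁻¹ : GL (Fin n) F) : Matrix (Fin n) (Fin n) F), by
    rw [det_mul, det_mul, u.det_coe, mul_one, ← det_mul, ← Units.val_mul, mul_inv_cancel,
      Units.val_one, det_one]⟩

theorem toGL_conjSL (g : GL (Fin n) F) (u : Matrix.SpecialLinearGroup (Fin n) F) :
    Matrix.SpecialLinearGroup.toGL (conjSL g u) = g * Matrix.SpecialLinearGroup.toGL u * g⁻¹ :=
  Units.ext rfl

theorem isConj_SL_iff (u u' : Matrix.SpecialLinearGroup (Fin n) F) :
    IsConj u u' ↔ ∃ s : GL (Fin n) F, Matrix.GeneralLinearGroup.det s = 1 ∧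
      s * Matrix.SpecialLinearGroup.toGL u = Matrix.SpecialLinearGroup.toGL u' * s := by
  rw [isConj_iff]
  constructor
  · rintro ⟨c, hc⟩
    refine ⟨Matrix.SpecialLinearGroup.toGL c, ?_, ?_⟩
    · apply Units.ext
      rw [Matrix.GeneralLinearGroup.val_det_apply]
      exact c.det_coe
    · rw [← map_mul, ← map_mul]
      congr 1
      rw [← hc]
      group
  · rintro ⟨s, hs, h⟩
    have hsdet : (s : Matrix (Fin n) (Fin n) F).det = 1 := by
      have := congrArg Units.val hs
      rwa [Matrix.GeneralLinearGroup.val_det_apply] at this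
    let c : Matrix.SpecialLinearGroup (Fin n) F := ⟨(s : Matrix (Fin n) (Fin n) F), hsdet⟩
    refine ⟨c, ?_⟩
    rw [mul_inv_eq_iff_eq_mul]
    apply Matrix.SpecialLinearGroup.toGL_injective
    rw [map_mul, map_mul]
    have : Matrix.SpecialLinearGroup.toGL c = s := Units.ext rfl
    rw [this]
    exact h


theorem exists_conj_GL (hn1 : 1 ≤ n) (u u' : GL (Fin n) F)
    (h : Reg (u : Matrix (Fin n) (Fin n) F)) (h' : Reg (u' : Matrix (Fin n) (Fin n) F)) :
    ∃ m : GL (Fin n) F, m * u = u' * m := by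
  obtain ⟨M, hM, hMU⟩ := exists_conj_of_reg hn1 _ _ h h'
  refine ⟨Matrix.GeneralLinearGroup.mkOfDetNeZero M hM, ?_⟩
  apply Units.ext
  exact hMU

theorem exists_det_eq_pow_GL (hn1 : 1 ≤ n) (u m : GL (Fin n) F)
    (h : Reg (u : Matrix (Fin n) (Fin n) F)) (hm : m * u = u * m) :
    ∃ c : Fˣ, Matrix.GeneralLinearGroup.det m = c ^ n := by
  have hm' : (m : Matrix (Fin n) (Fin n) F) * (u : Matrix (Fin n) (Fin n) F) =
      (u : Matrix (Fin n) (Fin n) F) * (m : Matrix (Fin n) (Fin n) F) := congrArg Units.val hm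
  obtain ⟨c, hc⟩ := exists_det_eq_pow hn1 _ _ h hm'
  have hdet0 : (m : Matrix (Fin n) (Fin n) F).det ≠ 0 := by
    have := (Matrix.GeneralLinearGroup.det m).ne_zero
    rwa [Matrix.GeneralLinearGroup.val_det_apply] at this
  have hc0 : c ≠ 0 := by
    rintro rfl
    rw [zero_pow (by omega)] at hc
    exact hdet0 hc
  refine ⟨Units.mk0 c hc0, ?_⟩
  apply Units.ext
  rw [Matrix.GeneralLinearGroup.val_det_apply, hc]
  simp

theorem reg_conj_GL (g u : GL (Fin n) F) (h : Reg (u : Matrix (Fin n) (Fin n) F)) :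
    Reg ((g * u * g⁻¹ : GL (Fin n) F) : Matrix (Fin n) (Fin n) F) := by
  have : ((g * u * g⁻¹ : GL (Fin n) F) : Matrix (Fin n) (Fin n) F) =
      (g : Matrix (Fin n) (Fin n) F) * (u : Matrix (Fin n) (Fin n) F) *
        ((g⁻¹ : GL (Fin n) F) : Matrix (Fin n) (Fin n) F) := rfl
  rw [this]
  apply reg_conj _ _ _ h
  rw [← Units.val_mul, mul_inv_cancel, Units.val_one]

/-- scalar element of `GL` -/
def scalGL (c : Fˣ) : GL (Fin n) F :=
  Units.map (algebraMap F (Matrix (Fin n) (Fin n) F)).toMonoidHom c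

theorem scalGL_comm (c : Fˣ) (g : GL (Fin n) F) : scalGL c * g = g * scalGL c := by
  apply Units.ext
  exact Algebra.commutes (c : F) (g : Matrix (Fin n) (Fin n) F)

theorem scalGL_det (c : Fˣ) : Matrix.GeneralLinearGroup.det (scalGL c : GL (Fin n) F) = c ^ n := by
  apply Units.ext
  rw [Matrix.GeneralLinearGroup.val_det_apply]
  show (algebraMap F (Matrix (Fin n) (Fin n) F) (c : F)).det = _
  rw [Matrix.algebraMap_eq_diagonal, Matrix.det_diagonal]
  simp

theorem result {F : Type*} [Field F] [Fintype F] {q : ℕ} (hF : Fintype.card F = q) {n : ℕ} (hn : 2 ≤ n) : Nat.card {C : ConjClasses (Matrix.SpecialLinearGroup (Fin n) F) // ∃ u : Matrix.SpecialLinearGroup (Fin n) F, ConjClasses.mk u = C ∧ ((u : Matrix (Fin n) (Fin n) F) - 1) ^ n = 0 ∧ ((u : Matrix (Fin n) (Fin n) F) - 1).rank = n - 1} = Nat.gcd n (q - 1) := by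
  classical
  have hn1 : 1 ≤ n := by omega
  obtain ⟨U₀, hU₀det, hU₀nil, hU₀rank⟩ := exists_reg (F := F) hn1
  let u₀ : Matrix.SpecialLinearGroup (Fin n) F := ⟨U₀, hU₀det⟩
  have hu₀reg : Reg ((Matrix.SpecialLinearGroup.toGL u₀ : GL (Fin n) F) : Matrix (Fin n) (Fin n) F) :=
    ⟨hU₀nil, hU₀rank⟩
  let gd : Fˣ → GL (Fin n) F := fun d =>
    Matrix.GeneralLinearGroup.mkOfDetNeZero (diagG F n (d : F)) (by
      rw [diagG_det hn1]; exact d.ne_zero)
  have hgd_det : ∀ d, Matrix.GeneralLinearGroup.det (gd d) = d := by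
    intro d
    apply Units.ext
    rw [Matrix.GeneralLinearGroup.val_det_apply]
    exact diagG_det hn1 _
  let ud : Fˣ → Matrix.SpecialLinearGroup (Fin n) F := fun d => conjSL (gd d) u₀
  have hud : ∀ d, Matrix.SpecialLinearGroup.toGL (ud d) =
      gd d * Matrix.SpecialLinearGroup.toGL u₀ * (gd d)⁻¹ := fun d => toGL_conjSL _ _
  let H : Subgroup Fˣ := (powMonoidHom n : Fˣ →* Fˣ).range
  have key := card_of_param H
    (fun C : ConjClasses (Matrix.SpecialLinearGroup (Fin n) F) =>
      ∃ u : Matrix.SpecialLinearGroup (Fin n) F, ConjClasses.mk u = C ∧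
        ((u : Matrix (Fin n) (Fin n) F) - 1) ^ n = 0 ∧
        ((u : Matrix (Fin n) (Fin n) F) - 1).rank = n - 1)
    (fun d => ConjClasses.mk (ud d)) ?_ ?_ ?_
  · rw [key, IsCyclic.index_powMonoidHom_range, Nat.card_eq_fintype_card, Fintype.card_units, hF,
      Nat.gcd_comm]
  · -- (a)
    intro d
    refine ⟨ud d, rfl, ?_⟩
    have := reg_conj_GL (gd d) (Matrix.SpecialLinearGroup.toGL u₀) hu₀reg
    rw [← hud d] at this
    exact this
  · -- (b)
    rintro C ⟨u, rfl, hu⟩
    have hureg : Reg ((Matrix.SpecialLinearGroup.toGL u : GL (Fin n) F) : Matrix (Fin n) (Fin n) F) := hu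
    obtain ⟨m, hm⟩ := exists_conj_GL hn1 _ _ hu₀reg hureg
    refine ⟨Matrix.GeneralLinearGroup.det m, ?_⟩
    show ConjClasses.mk (ud (Matrix.GeneralLinearGroup.det m)) = ConjClasses.mk u
    rw [ConjClasses.mk_eq_mk_iff_isConj, isConj_SL_iff]
    refine ⟨m * (gd (Matrix.GeneralLinearGroup.det m))⁻¹, ?_, ?_⟩
    · rw [map_mul, map_inv, hgd_det, mul_inv_cancel]
    · rw [hud]
      set g := gd (Matrix.GeneralLinearGroup.det m)
      calc m * g⁻¹ * (g * Matrix.SpecialLinearGroup.toGL u₀ * g⁻¹)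
          = (m * Matrix.SpecialLinearGroup.toGL u₀) * g⁻¹ := by group
        _ = (Matrix.SpecialLinearGroup.toGL u * m) * g⁻¹ := by rw [hm]
        _ = Matrix.SpecialLinearGroup.toGL u * (m * g⁻¹) := by group
  · -- (c)
    intro d d'
    show ConjClasses.mk (ud d) = ConjClasses.mk (ud d') ↔ d⁻¹ * d' ∈ H
    rw [ConjClasses.mk_eq_mk_iff_isConj, isConj_SL_iff]
    constructor
    · rintro ⟨s, hs, h⟩
      rw [hud, hud] at h
      set a := gd d with ha
      set b := gd d' with hb
      set u := Matrix.SpecialLinearGroup.toGL u₀ with hu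
      have hcomm : (b⁻¹ * s * a) * u = u * (b⁻¹ * s * a) := by
        calc (b⁻¹ * s * a) * u = b⁻¹ * (s * (a * u * a⁻¹)) * a := by group
          _ = b⁻¹ * ((b * u * b⁻¹) * s) * a := by rw [h]
          _ = u * (b⁻¹ * s * a) := by group
      obtain ⟨c, hc⟩ := exists_det_eq_pow_GL hn1 u _ hu₀reg hcomm
      rw [map_mul, map_mul, map_inv, hs, mul_one, hb, ha, hgd_det, hgd_det] at hc
      have hmem : d'⁻¹ * d ∈ H := ⟨c, by rw [hc]; rfl⟩
      have := H.inv_mem hmem
      rwa [_root_.mul_inv_rev, inv_inv] at this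
    · rintro ⟨c, hc⟩
      have hc' : c ^ n = d⁻¹ * d' := hc
      rw [hud, hud]
      set a := gd d with ha
      set b := gd d' with hb
      set u := Matrix.SpecialLinearGroup.toGL u₀ with hu
      set z : GL (Fin n) F := scalGL c⁻¹ with hz
      refine ⟨b * z * a⁻¹, ?_, ?_⟩
      · rw [map_mul, map_mul, map_inv, hb, ha, hgd_det, hgd_det, hz, scalGL_det, inv_pow, hc']
        rw [_root_.mul_inv_rev, inv_inv, mul_inv_cancel_left, mul_inv_cancel]
      · have hzu : z * u = u * z := scalGL_comm _ _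
        calc b * z * a⁻¹ * (a * u * a⁻¹) = b * (z * u) * a⁻¹ := by group
          _ = b * (u * z) * a⁻¹ := by rw [hzu]
          _ = b * u * b⁻¹ * (b * z * a⁻¹) := by group

end Cfsg.Agent.S2578
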