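import Cfsg.Statements.S2579

set_option autoImplicit false
open Cfsg

namespace Cfsg.Agent.S2579

open Module

section

variable {K V : Type*} [Field K] [AddCommGroup V] [Module K V] [FiniteDimensional K V]

/-- An adapted basis for a rank one square zero endomorphism. -/
theorem exists_adapted_basis (k : ℕ) (hdim : finrank K V = k + 3) (f : V →ₗ[K] V)
    (hrank : finrank K (LinearMap.range f) = 1) (hsq : f ∘ₗ f = 0) :
    ∃ b : Basis (Fin (k + 3)) K V, f (b 0) = b 1 ∧ ∀ i, i ≠ 0 → f (b i) = 0 := by
  -- a vector not in the kernel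
  have hne : LinearMap.range f ≠ ⊥ := by
    intro h
    rw [h, finrank_bot] at hrank
    omega
  obtain ⟨a, ha, ha0⟩ := Submodule.exists_mem_ne_zero_of_ne_bot hne
  obtain ⟨e, rfl⟩ := ha
  have hfa : f (f e) = 0 := LinearMap.congr_fun hsq e
  -- range f = span {f e}
  have hrange : LinearMap.range f = K ∙ (f e) := by
    symm
    apply Submodule.eq_of_le_of_finrank_eq
    · rw [Submodule.span_singleton_le_iff_mem]; exact ⟨e, rfl⟩
    · rw [finrank_span_singleton ha0, hrank]
  have hkerdim : finrank K (LinearMap.ker f) = k + 2 := by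
    have := LinearMap.finrank_range_add_finrank_ker f
    omega
  let aK : LinearMap.ker f := ⟨f e, LinearMap.mem_ker.mpr hfa⟩
  have haK0 : aK ≠ 0 := by
    intro h
    exact ha0 (congrArg Subtype.val h)
  obtain ⟨U, hU⟩ := Submodule.exists_isCompl (K ∙ aK)
  have hUdim : finrank K U = k + 1 := by
    have := Submodule.finrank_add_eq_of_isCompl hU
    rw [finrank_span_singleton haK0, hkerdim] at this
    omega
  let bU : Basis (Fin (k + 1)) K U := finBasisOfFinrankEq K U hUdim
  let bK : Basis (Fin (k + 1 + 1)) K (LinearMap.ker f) :=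
    Basis.mkFinCons aK bU
      (by
        intro c x hx hc
        rw [add_eq_zero_iff_neg_eq] at hc
        rw [← hc, Submodule.neg_mem_iff] at hx
        have := hU.disjoint
        rw [Submodule.disjoint_def] at this
        have := this (c • aK) (Submodule.smul_mem _ _ <| Submodule.mem_span_singleton_self _) hx
        exact (smul_eq_zero.1 this).resolve_right haK0)
      (by
        intro z
        have hz : z ∈ (K ∙ aK) ⊔ U := by rw [hU.sup_eq_top]; trivial
        obtain ⟨y, hy, u, hu, rfl⟩ := Submodule.mem_sup.mp hz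
        obtain ⟨c, rfl⟩ := Submodule.mem_span_singleton.mp hy
        refine ⟨-c, ?_⟩
        have : c • aK + u + -c • aK = u := by rw [neg_smul]; abel
        rw [this]; exact hu)
  let b : Basis (Fin (k + 1 + 1 + 1)) K V :=
    Basis.mkFinCons e bK
      (by
        intro c x hx hc
        have h1 := congrArg f hc
        rw [map_add, map_smul, LinearMap.mem_ker.mp hx, add_zero, map_zero] at h1
        exact (smul_eq_zero.1 h1).resolve_right ha0)
      (by
        intro z
        have hz : f z ∈ K ∙ (f e) := by rw [← hrange]; exact ⟨z, rfl⟩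
        obtain ⟨c, hc⟩ := Submodule.mem_span_singleton.mp hz
        refine ⟨-c, ?_⟩
        rw [LinearMap.mem_ker, map_add, map_smul, ← hc, neg_smul, add_neg_cancel])
  refine ⟨b, ?_, ?_⟩
  · show f ((b : Fin (k + 1 + 1 + 1) → V) 0) = (b : Fin (k + 1 + 1 + 1) → V) 1
    rw [Basis.coe_mkFinCons]
    show f e = ((bK : Fin (k + 1 + 1) → LinearMap.ker f) 0 : V)
    rw [Basis.coe_mkFinCons]
    rfl
  · intro i hi
    show f ((b : Fin (k + 1 + 1 + 1) → V) i) = 0
    rw [Basis.coe_mkFinCons]
    obtain ⟨j, rfl⟩ := Fin.exists_succ_eq.mpr hi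
    simp only [Fin.cons_succ, Function.comp_apply]
    exact LinearMap.mem_ker.mp (bK j).2

/-- two rank-one square-zero endomorphisms are conjugate by an element of determinant one -/
theorem exists_conj (k : ℕ) (hdim : finrank K V = k + 3) (f f' : V →ₗ[K] V)
    (hrank : finrank K (LinearMap.range f) = 1) (hsq : f ∘ₗ f = 0)
    (hrank' : finrank K (LinearMap.range f') = 1) (hsq' : f' ∘ₗ f' = 0) :
    ∃ h : V →ₗ[K] V, LinearMap.det h = 1 ∧ h ∘ₗ f = f' ∘ₗ h := by
  classical
  obtain ⟨b, hb0, hb⟩ := exists_adapted_basis k hdim f hrank hsq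
  obtain ⟨b', hb'0, hb'⟩ := exists_adapted_basis k hdim f' hrank' hsq'
  let d : Kˣ := (b.isUnit_det b').unit⁻¹
  let w : Fin (k + 3) → Kˣ := fun i => if i = 2 then d else 1
  let b'' := b'.unitsSMul w
  have hw0 : w 0 = 1 := by
    simp only [w]
    rw [if_neg]
    intro h
    have := congrArg Fin.val h
    simp at this
    rw [Nat.mod_eq_of_lt (by omega)] at this
    omega
  have hw1 : w 1 = 1 := by
    simp only [w]
    rw [if_neg]
    intro h
    have := congrArg Fin.val h
    simp at this
    rw [Nat.mod_eq_of_lt (by omega)] at this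
    omega
  have hb''0 : f' (b'' 0) = b'' 1 := by
    rw [Basis.unitsSMul_apply, Basis.unitsSMul_apply, hw0, hw1, one_smul, one_smul, hb'0]
  have hb'' : ∀ i, i ≠ 0 → f' (b'' i) = 0 := by
    intro i hi
    rw [Basis.unitsSMul_apply, Units.smul_def, map_smul, hb' i hi, smul_zero]
  let h : V ≃ₗ[K] V := b.equiv b'' (Equiv.refl _)
  refine ⟨h.toLinearMap, ?_, ?_⟩
  · rw [Basis.det_basis, ← Basis.det_mul_det b b' b'', Basis.det_unitsSMul_self]
    have hprod : ∏ i, ((w i : Kˣ) : K) = (d : K) := by
      rw [Finset.prod_eq_single (2 : Fin (k + 3))]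
      · simp [w]
      · intro i _ hi
        simp [w, hi]
      · simp
    rw [hprod]
    show b.det b' * ((b.isUnit_det b').unit⁻¹ : Kˣ) = 1
    have := (b.isUnit_det b').unit.mul_inv
    rw [IsUnit.unit_spec] at this
    exact this
  · apply b.ext
    intro i
    simp only [LinearMap.comp_apply, LinearEquiv.coe_coe]
    by_cases hi : i = 0
    · subst hi
      rw [hb0]
      simp only [h, Basis.equiv_apply, Equiv.refl_apply]
      rw [hb''0]
    · rw [hb i hi, map_zero]
      simp only [h, Basis.equiv_apply, Equiv.refl_apply]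
      rw [hb'' i hi]

end

theorem result {F : Type*} [Field F] [Finite F] {n : ℕ} (hn : 3 ≤ n) (s t : Matrix.SpecialLinearGroup (Fin n) F) (hs : Cfsg.IsTransvection (s : Matrix (Fin n) (Fin n) F)) (ht : Cfsg.IsTransvection (t : Matrix (Fin n) (Fin n) F)) : IsConj s t := by
  classical
  obtain ⟨k, rfl⟩ : ∃ k, n = k + 3 := ⟨n - 3, by omega⟩
  set S : Matrix (Fin (k + 3)) (Fin (k + 3)) F := (s : Matrix (Fin (k + 3)) (Fin (k + 3)) F) with hS
  set T : Matrix (Fin (k + 3)) (Fin (k + 3)) F := (t : Matrix (Fin (k + 3)) (Fin (k + 3)) F) with hT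
  let f := Matrix.toLin' (S - 1)
  let f' := Matrix.toLin' (T - 1)
  have hdim : finrank F (Fin (k + 3) → F) = k + 3 := by simp
  have hrank : finrank F (LinearMap.range f) = 1 := by
    exact (congrArg (fun g : (Fin (k + 3) → F) →ₗ[F] (Fin (k + 3) → F) => finrank F (LinearMap.range g))
      (Matrix.toLin'_apply' (S - 1))).trans hs.1
  have hsq : f ∘ₗ f = 0 := by
    show Matrix.toLin' (S - 1) ∘ₗ Matrix.toLin' (S - 1) = 0
    rw [← Matrix.toLin'_mul, hs.2]; simp
  have hrank' : finrank F (LinearMap.range f') = 1 := by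
    exact (congrArg (fun g : (Fin (k + 3) → F) →ₗ[F] (Fin (k + 3) → F) => finrank F (LinearMap.range g))
      (Matrix.toLin'_apply' (T - 1))).trans ht.1
  have hsq' : f' ∘ₗ f' = 0 := by
    show Matrix.toLin' (T - 1) ∘ₗ Matrix.toLin' (T - 1) = 0
    rw [← Matrix.toLin'_mul, ht.2]; simp
  obtain ⟨h, hdet, hcomm⟩ := exists_conj k hdim f f' hrank hsq hrank' hsq'
  set G := LinearMap.toMatrix' h with hG
  have hGdet : G.det = 1 := by rw [hG, LinearMap.det_toMatrix']; exact hdet
  have hGcomm : G * (S - 1) = (T - 1) * G := by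
    have := congrArg LinearMap.toMatrix' hcomm
    rw [LinearMap.toMatrix'_comp, LinearMap.toMatrix'_comp, LinearMap.toMatrix'_toLin',
      LinearMap.toMatrix'_toLin'] at this
    exact this
  have hGST : G * S = T * G := by
    rw [mul_sub, sub_mul, mul_one, one_mul] at hGcomm
    exact sub_left_injective hGcomm
  let g : Matrix.SpecialLinearGroup (Fin (k + 3)) F := ⟨G, hGdet⟩
  rw [isConj_iff]
  refine ⟨g, ?_⟩
  rw [mul_inv_eq_iff_eq_mul]
  apply Subtype.ext
  exact hGST

end Cfsg.Agent.S2579
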