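import Cfsg.Statements.S2580
import Cfsg.Agent.Lib.Helper43.Frob

set_option autoImplicit false
open Cfsg

namespace Cfsg.Agent.S2580

open Cfsg.Agent.Lib.Helper43

/-- over any field, a square matrix is conjugate to its transpose -/
theorem isConj_transpose {F : Type*} [Field F] {n : ℕ} (A : Matrix (Fin n) (Fin n) F) :
    IsConj A A.transpose := by
  classical
  obtain ⟨B, hnd, -, hadj⟩ := exists_selfadjoint_form (Matrix.toLin' A)
  set G := LinearMap.BilinForm.toMatrix' B with hG
  have hdet : G.det ≠ 0 := by
    rw [← Matrix.nondegenerate_iff_det_ne_zero, hG,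
      LinearMap.BilinForm.nondegenerate_toMatrix'_iff]
    exact hnd
  have hcomp : B.compLeft (Matrix.toLin' A) = B.compRight (Matrix.toLin' A) := by
    ext v w
    exact hadj _ _
  have h1 := congrArg LinearMap.BilinForm.toMatrix' hcomp
  rw [LinearMap.BilinForm.toMatrix'_compLeft, LinearMap.BilinForm.toMatrix'_compRight,
    LinearMap.toMatrix'_toLin'] at h1
  have hunit : IsUnit G := (Matrix.isUnit_iff_isUnit_det G).mpr (IsUnit.mk0 _ hdet)
  refine ⟨hunit.unit, ?_⟩
  show hunit.unit.1 * A = A.transpose * hunit.unit.1
  rw [IsUnit.unit_spec]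
  exact h1.symm

/-- Over a finite field every square matrix is conjugate, by an invertible matrix, to its transpose. -/
theorem result {F : Type*} [Field F] [Finite F] {n : ℕ} (A : Matrix (Fin n) (Fin n) F) : IsConj A A.transpose :=
  isConj_transpose A

end Cfsg.Agent.S2580
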