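import Cfsg.Statements.S2582
import Cfsg.Agent.Lib.Helper43.FormJordanMain
import Cfsg.Agent.Lib.Helper40.Darboux

set_option autoImplicit false
open Cfsg

namespace Cfsg.Agent.S2582

open Module Cfsg.Agent.Lib.Helper43 Cfsg.Agent.Lib.Helper99 Matrix

theorem necessity {F : Type*} [Field F] {m t : ℕ} (d : Fin t → ℕ)
    (e : ((k : Fin t) × Fin (d k)) ≃ (Fin m ⊕ Fin m)) (A : Matrix.symplecticGroup (Fin m) F)
    (hconj : IsConj (Matrix.reindex e e (Cfsg.jordanTypeMatrix d F))
      (A : Matrix (Fin m ⊕ Fin m) (Fin m ⊕ Fin m) F)) (j : ℕ) (hj : Odd j) :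
    Even (Finset.univ.filter (fun k : Fin t => d k = j)).card := by
  obtain ⟨i, rfl⟩ := hj
  set μ := (Finset.univ : Finset (Fin t)).val.map d with hμ
  have hd : ∀ k, dker (nilPart (A : Matrix (Fin m ⊕ Fin m) (Fin m ⊕ Fin m) F)) k = smin μ k := by
    intro k
    rw [dker_eq_of_isConj _ _ hconj, dker_nilPart_reindex, nilPart_jt, dker_jtN_eq_smin]
  obtain ⟨c, hc⟩ := even_jmult_symplectic (stdSp F m)
    (Matrix.toLin' (A : Matrix (Fin m ⊕ Fin m) (Fin m ⊕ Fin m) F)) stdSp_nondegenerate stdSp_isAlt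
    (stdSp_preserved A.2) i
  rw [toLin'_sub_one, hd, hd, hd] at hc
  have := count_of_smin μ (2 * i + 1) c (by omega) hc
  rw [hμ, count_map_univ] at this
  exact ⟨c, by rw [this]; ring⟩

theorem sufficiency {F : Type*} [Field F] {m t : ℕ} (d : Fin t → ℕ) (hd : ∀ k, 1 ≤ d k)
    (hsum : ∑ k, d k = 2 * m)
    (hpar : ∀ j : ℕ, Odd j → Even (Finset.univ.filter (fun k : Fin t => d k = j)).card) :
    ∃ e : ((k : Fin t) × Fin (d k)) ≃ (Fin m ⊕ Fin m), ∃ A : Matrix.symplecticGroup (Fin m) F,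
      IsConj (Matrix.reindex e e (Cfsg.jordanTypeMatrix d F))
        (A : Matrix (Fin m ⊕ Fin m) (Fin m ⊕ Fin m) F) := by
  set μ := (Finset.univ : Finset (Fin t)).val.map d with hμ
  have hreal : Realizes F (-1 : F) μ := by
    apply realizes_sp μ (mem_map_univ d hd)
    intro j hj
    rw [hμ, count_map_univ]
    exact hpar j hj
  obtain ⟨V, _, _, _, B, T, hB, _, halt, hiso, hnil, hdk⟩ := hreal
  have hfin : finrank F V = 2 * m := by
    rw [← sum_eq_finrank_of_dker (T - 1) hnil μ hdk, hμ, sum_map_univ, hsum]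
  obtain ⟨b, hb⟩ := Cfsg.Agent.Lib.Helper40.Darboux.darboux_basis m V B (halt rfl) hB hfin
  set A := LinearMap.toMatrix b b T with hA
  have hAmem : A ∈ Matrix.symplecticGroup (Fin m) F := by
    rw [SymplecticGroup.mem_iff']
    have h1 : B.comp T T = B := by
      apply LinearMap.ext
      intro x
      apply LinearMap.ext
      intro y
      exact hiso x y
    have h2 := LinearMap.BilinForm.toMatrix_comp b b B T T
    rw [h1, hb, Cfsg.Agent.Lib.Helper40.Darboux.gramJ_eq] at h2
    rw [Matrix.mul_neg, Matrix.neg_mul, neg_inj] at h2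
    exact h2.symm
  have hcard : Fintype.card ((k : Fin t) × Fin (d k)) = Fintype.card (Fin m ⊕ Fin m) := by
    rw [Fintype.card_sigma, Fintype.card_sum, Fintype.card_fin]
    simp only [Fintype.card_fin]
    rw [hsum]
    ring
  let e : ((k : Fin t) × Fin (d k)) ≃ (Fin m ⊕ Fin m) := Fintype.equivOfCardEq hcard
  have hdA : ∀ k, dker (nilPart A) k = smin μ k := by
    intro k
    rw [hA, dker_nilPart_toMatrix, hdk]
  have hdJ : ∀ k, dker (nilPart (Matrix.reindex e e (Cfsg.jordanTypeMatrix d F))) k = smin μ k := by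
    intro k
    rw [dker_nilPart_reindex, nilPart_jt, dker_jtN_eq_smin]
  have hfinfun : finrank F (Fin m ⊕ Fin m → F) = μ.sum := by
    rw [Module.finrank_fintype_fun_eq_card, Fintype.card_sum, Fintype.card_fin, hμ, sum_map_univ,
      hsum]
    ring
  refine ⟨e, ⟨A, hAmem⟩, ?_⟩
  apply isConj_of_dker_eq
  · exact isNilpotent_of_dker _ μ hdJ hfinfun
  · exact isNilpotent_of_dker _ μ hdA hfinfun
  · intro k
    rw [hdJ, hdA]

/-- Which unipotent Jordan types occur in the finite symplectic group: over a finite field, a unipotent matrix with Jordan block sizes d_1, …, d_t (sum 2m, all at least 1) is similar to an element of Sp_2m(F) if and only if every odd block size occurs an even number of times. -/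
theorem result {F : Type*} [Field F] [Fintype F] {m t : ℕ} (d : Fin t → ℕ) (hd : ∀ k, 1 ≤ d k) (hsum : ∑ k, d k = 2 * m) : (∃ e : ((k : Fin t) × Fin (d k)) ≃ (Fin m ⊕ Fin m), ∃ A : Matrix.symplecticGroup (Fin m) F, IsConj (Matrix.reindex e e (Cfsg.jordanTypeMatrix d F)) (A : Matrix (Fin m ⊕ Fin m) (Fin m ⊕ Fin m) F)) ↔ ∀ j : ℕ, Odd j → Even (Finset.univ.filter (fun k : Fin t => d k = j)).card := by
  constructor
  · rintro ⟨e, A, hconj⟩ j hj
    exact necessity d e A hconj j hj
  · intro hpar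
    exact sufficiency d hd hsum hpar

end Cfsg.Agent.S2582
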