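import Cfsg.Statements.S2584
import Cfsg.Agent.Lib.Helper43.FormJordanQuad

set_option autoImplicit false
open Cfsg

namespace Cfsg.Agent.S2584

open Module Cfsg.Agent.Lib.Helper43 Cfsg.Agent.Lib.Helper99 Matrix

theorem necessity {F : Type*} [Field F] [CharP F 2] {n t : ℕ} (d : Fin t → ℕ)
    (Q : QuadraticForm F (Fin n → F)) (hQ : (QuadraticMap.polarBilin Q).Nondegenerate)
    (e : ((k : Fin t) × Fin (d k)) ≃ Fin n) (A : ↥(Cfsg.isometryGroup F ⇑Q))
    (hconj : IsConj (Matrix.reindex e e (Cfsg.jordanTypeMatrix d F))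
      ((A : Matrix.GeneralLinearGroup (Fin n) F) : Matrix (Fin n) (Fin n) F))
    (j : ℕ) (hj : Odd j) :
    Even (Finset.univ.filter (fun k : Fin t => d k = j)).card := by
  obtain ⟨i, rfl⟩ := hj
  set μ := (Finset.univ : Finset (Fin t)).val.map d with hμ
  set M : Matrix (Fin n) (Fin n) F := ((A : Matrix.GeneralLinearGroup (Fin n) F) : Matrix (Fin n) (Fin n) F)
    with hM
  have hd : ∀ k, dker (nilPart M) k = smin μ k := by
    intro k
    rw [dker_eq_of_isConj _ _ hconj, dker_nilPart_reindex, nilPart_jt, dker_jtN_eq_smin]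
  have hpres : ∀ x : Fin n → F, Q (M *ᵥ x) = Q x := fun x => A.2 x x
  have hiso : ∀ x y, QuadraticMap.polarBilin Q (Matrix.toLin' M x) (Matrix.toLin' M y) =
      QuadraticMap.polarBilin Q x y := by
    intro x y
    simp only [QuadraticMap.polarBilin_apply_apply, QuadraticMap.polar, Matrix.toLin'_apply]
    rw [← Matrix.mulVec_add, hpres, hpres, hpres]
  have halt : (QuadraticMap.polarBilin Q).IsAlt := by
    intro x
    rw [QuadraticMap.polarBilin_apply_apply, QuadraticMap.polar_self]
    have h2 : (2 : F) = 0 := CharTwo.two_eq_zero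
    rw [two_smul, ← two_mul, h2, zero_mul]
  obtain ⟨c, hc⟩ := even_jmult_symplectic (QuadraticMap.polarBilin Q) (Matrix.toLin' M) hQ halt
    hiso i
  rw [toLin'_sub_one, hd, hd, hd] at hc
  have := count_of_smin μ (2 * i + 1) c (by omega) hc
  rw [hμ, count_map_univ] at this
  exact ⟨c, by rw [this]; ring⟩

theorem sufficiency {F : Type*} [Field F] [CharP F 2] {n t : ℕ} (d : Fin t → ℕ)
    (hd : ∀ k, 1 ≤ d k) (hsum : ∑ k, d k = n)
    (hpar : ∀ j : ℕ, Odd j → Even (Finset.univ.filter (fun k : Fin t => d k = j)).card) :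
    ∃ Q : QuadraticForm F (Fin n → F), (QuadraticMap.polarBilin Q).Nondegenerate ∧
      ∃ e : ((k : Fin t) × Fin (d k)) ≃ Fin n, ∃ A : ↥(Cfsg.isometryGroup F ⇑Q),
        IsConj (Matrix.reindex e e (Cfsg.jordanTypeMatrix d F))
          ((A : Matrix.GeneralLinearGroup (Fin n) F) : Matrix (Fin n) (Fin n) F) := by
  set μ := (Finset.univ : Finset (Fin t)).val.map d with hμ
  have hreal : QRealizes F μ := by
    apply qrealizes_char_two μ (mem_map_univ d hd)
    intro j hj
    rw [hμ, count_map_univ]
    exact hpar j hj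
  obtain ⟨V, _, _, _, Q₀, T, hB, hiso, hnil, hdk⟩ := hreal
  have hfin : finrank F V = n := by
    rw [← sum_eq_finrank_of_dker (T - 1) hnil μ hdk, hμ, sum_map_univ, hsum]
  let b : Basis (Fin n) F V := Module.finBasisOfFinrankEq F V hfin
  let φ : (Fin n → F) →ₗ[F] V := b.equivFun.symm.toLinearMap
  have hφ : ∀ w : V, φ (b.repr w) = w := by
    intro w
    show b.equivFun.symm (b.equivFun w) = w
    exact b.equivFun.symm_apply_apply w
  have hφsurj : Function.Surjective φ := b.equivFun.symm.surjective
  have hφinj : Function.Injective φ := b.equivFun.symm.injective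
  let Q : QuadraticForm F (Fin n → F) := Q₀.comp φ
  have hQa : ∀ x, Q x = Q₀ (φ x) := fun x => rfl
  have hpolar : ∀ x y, QuadraticMap.polarBilin Q x y = QuadraticMap.polarBilin Q₀ (φ x) (φ y) := by
    intro x y
    simp only [QuadraticMap.polarBilin_apply_apply, QuadraticMap.polar, hQa, map_add]
  have hQnd : (QuadraticMap.polarBilin Q).Nondegenerate := by
    constructor
    · intro x hx
      apply hφinj
      rw [map_zero]
      apply hB.1
      intro w
      obtain ⟨y, rfl⟩ := hφsurj w
      have := hx y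
      rw [hpolar] at this
      exact this
    · intro y hy
      apply hφinj
      rw [map_zero]
      apply hB.2
      intro w
      obtain ⟨x, rfl⟩ := hφsurj w
      have := hy x
      rw [hpolar] at this
      exact this
  have hTunit : IsUnit T := by
    have : T = 1 + (T - 1) := by abel
    rw [this]
    exact hnil.isUnit_one_add
  obtain ⟨Tu, hTu⟩ := hTunit
  set A := LinearMap.toMatrix b b T with hA
  set A' := LinearMap.toMatrix b b (Tu⁻¹ : (Module.End F V)ˣ).1 with hA'
  have hAA' : A * A' = 1 := by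
    rw [hA, hA', ← hTu, ← LinearMap.toMatrix_mul, Units.mul_inv, LinearMap.toMatrix_one]
  have hA'A : A' * A = 1 := by
    rw [hA, hA', ← hTu, ← LinearMap.toMatrix_mul, Units.inv_mul, LinearMap.toMatrix_one]
  let g : Matrix.GeneralLinearGroup (Fin n) F := ⟨A, A', hAA', hA'A⟩
  have hφA : ∀ x : Fin n → F, φ (A *ᵥ x) = T (φ x) := by
    intro x
    have := LinearMap.toMatrix_mulVec_repr b b T (φ x)
    have hx : b.repr (φ x) = x := by
      show b.equivFun (b.equivFun.symm x) = x
      exact b.equivFun.apply_symm_apply x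
    rw [hx] at this
    rw [← hA] at this
    rw [this, hφ]
  have hg : g ∈ Cfsg.isometryGroup F ⇑Q := by
    intro x _
    show Q (A *ᵥ x) = Q x
    rw [hQa, hQa, hφA, hiso]
  have hcard : Fintype.card ((k : Fin t) × Fin (d k)) = Fintype.card (Fin n) := by
    rw [Fintype.card_sigma, Fintype.card_fin]
    simp only [Fintype.card_fin]
    exact hsum
  let e : ((k : Fin t) × Fin (d k)) ≃ Fin n := Fintype.equivOfCardEq hcard
  have hdA : ∀ k, dker (nilPart A) k = smin μ k := by
    intro k
    rw [hA, dker_nilPart_toMatrix, hdk]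
  have hdJ : ∀ k, dker (nilPart (Matrix.reindex e e (Cfsg.jordanTypeMatrix d F))) k = smin μ k := by
    intro k
    rw [dker_nilPart_reindex, nilPart_jt, dker_jtN_eq_smin]
  have hfinfun : finrank F (Fin n → F) = μ.sum := by
    rw [Module.finrank_fintype_fun_eq_card, Fintype.card_fin, hμ, sum_map_univ, hsum]
  refine ⟨Q, hQnd, e, ⟨g, hg⟩, ?_⟩
  show IsConj (Matrix.reindex e e (Cfsg.jordanTypeMatrix d F)) A
  apply isConj_of_dker_eq
  · exact isNilpotent_of_dker _ μ hdJ hfinfun
  · exact isNilpotent_of_dker _ μ hdA hfinfun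
  · intro k
    rw [hdJ, hdA]

/-- Which unipotent Jordan types occur in a finite orthogonal group in characteristic two: over a finite field of characteristic 2 and in even dimension 2m, a unipotent matrix with Jordan block sizes d_1, …, d_t (sum 2m, all at least 1) is similar to an isometry of some quadratic form on F^(2m) with non-degenerate polar form if and only if every odd block size occurs an even number of times (the same condition as for the symplectic group, which contains these orthogonal groups). -/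
theorem result {F : Type*} [Field F] [Fintype F] [CharP F 2] {m t : ℕ} (d : Fin t → ℕ) (hd : ∀ k, 1 ≤ d k) (hsum : ∑ k, d k = 2 * m) : (∃ Q : QuadraticForm F (Fin (2 * m) → F), (QuadraticMap.polarBilin Q).Nondegenerate ∧ ∃ e : ((k : Fin t) × Fin (d k)) ≃ Fin (2 * m), ∃ A : ↥(Cfsg.isometryGroup F ⇑Q), IsConj (Matrix.reindex e e (Cfsg.jordanTypeMatrix d F)) ((A : Matrix.GeneralLinearGroup (Fin (2 * m)) F) : Matrix (Fin (2 * m)) (Fin (2 * m)) F)) ↔ ∀ j : ℕ, Odd j → Even (Finset.univ.filter (fun k : Fin t => d k = j)).card := by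
  constructor
  · rintro ⟨Q, hQ, e, A, hconj⟩ j hj
    exact necessity d Q hQ e A hconj j hj
  · intro hpar
    exact sufficiency d hd hsum hpar

end Cfsg.Agent.S2584
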