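import Cfsg.Statements.S2585

set_option autoImplicit false
open Cfsg

namespace Cfsg.Agent.S2585

open Matrix in
theorem result {F : Type*} [Field F] [Fintype F] [CharP F 2] {m : ℕ} (A : Matrix.symplecticGroup (Fin m) F) : ∃ Q : QuadraticForm F (Fin m ⊕ Fin m → F), (∀ u v : Fin m ⊕ Fin m → F, QuadraticMap.polar ⇑Q u v = Cfsg.sympForm m F u v) ∧ ∀ v : Fin m ⊕ Fin m → F, Q ((A : Matrix (Fin m ⊕ Fin m) (Fin m ⊕ Fin m) F).mulVec v) = Q v := by
  classical
  have h2 : (2 : F) = 0 := by
    have := CharP.cast_eq_zero F 2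
    exact_mod_cast this
  have hself : ∀ a : F, a + a = 0 := fun a => by rw [← two_mul, h2, zero_mul]
  have hneg : ∀ a : F, -a = a := fun a => neg_eq_of_add_eq_zero_left (hself a)
  have hsq : ∀ a b : F, (a + b) * (a + b) = a * a + b * b := by
    intro a b
    have := hself (a * b)
    linear_combination this
  set X : Matrix (Fin m ⊕ Fin m) (Fin m ⊕ Fin m) F := (A : Matrix (Fin m ⊕ Fin m) (Fin m ⊕ Fin m) F) with hX
  set J := Matrix.J (Fin m) F with hJ
  let K : Matrix (Fin m ⊕ Fin m) (Fin m ⊕ Fin m) F := Matrix.fromBlocks 0 0 1 0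
  have hJK : J = K - K.transpose := by
    simp only [hJ, K, Matrix.J, Matrix.fromBlocks_transpose]
    ext i j
    rcases i with i | i <;> rcases j with j | j <;> simp
  let B₀ : LinearMap.BilinForm F (Fin m ⊕ Fin m → F) := Matrix.toBilin' K
  let fB : LinearMap.BilinForm F (Fin m ⊕ Fin m → F) := Matrix.toBilin' J
  have hfB : ∀ u v, fB u v = Cfsg.sympForm m F u v := fun u v => Matrix.toBilin'_apply' J u v
  have hfB₀ : ∀ u v, fB u v = B₀ u v + B₀ v u := by
    intro u v
    show Matrix.toBilin' J u v = Matrix.toBilin' K u v + Matrix.toBilin' K v u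
    rw [Matrix.toBilin'_apply', Matrix.toBilin'_apply', Matrix.toBilin'_apply', hJK, Matrix.sub_mulVec,
      dotProduct_sub, Matrix.mulVec_transpose, dotProduct_comm u (v ᵥ* K), ← Matrix.dotProduct_mulVec,
      sub_eq_add_neg, hneg]
  have hsymp : X.transpose * J * X = J := (SymplecticGroup.mem_iff').mp A.2
  let T : (Fin m ⊕ Fin m → F) →ₗ[F] (Fin m ⊕ Fin m → F) := Matrix.mulVecLin X
  have hT : ∀ v, T v = X.mulVec v := fun v => rfl
  have hfBT : ∀ u v, fB (T u) (T v) = fB u v := by
    intro u v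
    show Matrix.toBilin' J (X *ᵥ u) (X *ᵥ v) = Matrix.toBilin' J u v
    rw [Matrix.toBilin'_apply', Matrix.toBilin'_apply', dotProduct_comm, Matrix.dotProduct_mulVec,
      dotProduct_comm, ← Matrix.mulVec_transpose, Matrix.mulVec_mulVec, Matrix.mulVec_mulVec,
      hsymp]
  let Q₀ : QuadraticForm F (Fin m ⊕ Fin m → F) := LinearMap.BilinMap.toQuadraticMap B₀
  have hQ₀pol : ∀ u v, QuadraticMap.polar Q₀ u v = fB u v := by
    intro u v
    rw [LinearMap.BilinMap.polar_toQuadraticMap, hfB₀]
  have hQ₀add : ∀ u v, Q₀ (u + v) = Q₀ u + Q₀ v + fB u v := by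
    intro u v
    rw [← hQ₀pol]
    unfold QuadraticMap.polar
    ring
  have hQ₀smul : ∀ (c : F) v, Q₀ (c • v) = c * c * Q₀ v := fun c v => QuadraticMap.map_smul Q₀ c v
  -- square roots
  have : ExpChar F 2 := ExpChar.prime Nat.prime_two
  have : PerfectRing F 2 := PerfectRing.ofFiniteOfIsReduced 2 F
  let sq : F ≃+* F := (frobeniusEquiv F 2).symm
  have hsqsq : ∀ a : F, sq a * sq a = a := by
    intro a
    have := frobeniusEquiv_symm_pow_p F 2 a
    rw [pow_two] at this
    exact this
  have hsqmul : ∀ a : F, sq (a * a) = a := by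
    intro a
    have := frobeniusEquiv_symm_apply_frobenius F 2 a
    rwa [frobenius_def, pow_two] at this
  have hfBsymm : ∀ u v, fB u v = fB v u := by
    intro u v
    rw [hfB₀, hfB₀, add_comm]
  let lam : (Fin m ⊕ Fin m → F) →ₗ[F] F :=
    { toFun := fun v => sq (Q₀ (T v) + Q₀ v)
      map_add' := by
        intro u v
        show sq (Q₀ (T (u + v)) + Q₀ (u + v)) = sq (Q₀ (T u) + Q₀ u) + sq (Q₀ (T v) + Q₀ v)
        rw [← map_add sq]
        congr 1
        rw [T.map_add, hQ₀add, hQ₀add, hfBT]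
        have := hself (fB u v)
        linear_combination this
      map_smul' := by
        intro c v
        show sq (Q₀ (T (c • v)) + Q₀ (c • v)) = c • sq (Q₀ (T v) + Q₀ v)
        rw [T.map_smul, hQ₀smul, hQ₀smul, ← mul_add, map_mul sq, hsqmul]
        rfl }
  have hlam : ∀ v, lam v * lam v = Q₀ (T v) + Q₀ v := fun v => hsqsq _
  have hnd : fB.Nondegenerate := by
    apply LinearMap.BilinForm.nondegenerate_toBilin'_of_det_ne_zero'
    exact (Matrix.isUnit_det_J (Fin m) F).ne_zero
  let wA := (fB.toDual hnd).symm lam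
  have hwA : ∀ v, fB wA v = lam v := fun v => LinearMap.BilinForm.apply_toDual_symm_apply lam v
  let S : (Fin m ⊕ Fin m → F) →ₗ[F] (Fin m ⊕ Fin m → F) := T - 1
  have hS : ∀ v, S v = T v - v := fun v => rfl
  have hle : LinearMap.range S ≤ fB.orthogonal (LinearMap.ker S) := by
    rintro _ ⟨v, rfl⟩
    refine LinearMap.BilinForm.mem_orthogonal_iff.mpr ?_
    intro z hz
    have hz' : T z = z := by
      have := LinearMap.mem_ker.mp hz
      rw [hS, sub_eq_zero] at this
      exact this
    rw [hS, map_sub]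
    nth_rewrite 1 [← hz']
    rw [hfBT, sub_self]
  have hfin : Module.finrank F (fB.orthogonal (LinearMap.ker S)) ≤ Module.finrank F (LinearMap.range S) := by
    rw [LinearMap.BilinForm.finrank_orthogonal hnd]
    have := LinearMap.finrank_range_add_finrank_ker S
    omega
  have heq := Submodule.eq_of_le_of_finrank_le hle hfin
  have hwAmem : wA ∈ LinearMap.range S := by
    rw [heq]
    refine LinearMap.BilinForm.mem_orthogonal_iff.mpr ?_
    intro z hz
    have hz' : T z = z := by
      have := LinearMap.mem_ker.mp hz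
      rw [hS, sub_eq_zero] at this
      exact this
    rw [hfBsymm, hwA]
    have h1 := hlam z
    rw [hz', hself] at h1
    exact mul_self_eq_zero.mp h1
  obtain ⟨w', hw'⟩ := hwAmem
  rw [hS] at hw'
  have hTw' : T w' = w' + wA := by rw [← hw']; abel
  let φ : (Fin m ⊕ Fin m → F) →ₗ[F] F := fB (T w')
  refine ⟨Q₀ + QuadraticMap.linMulLin φ φ, ?_, ?_⟩
  · intro u v
    rw [← hfB, ← hQ₀pol]
    unfold QuadraticMap.polar
    simp only [_root_.add_apply, QuadraticMap.linMulLin_apply, map_add]
    have := hself (φ u * φ v)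
    linear_combination this
  · intro v
    show Q₀ (T v) + φ (T v) * φ (T v) = Q₀ v + φ v * φ v
    have h1 : φ (T v) = fB w' v := hfBT w' v
    have h2 : φ v = fB w' v + lam v := by
      show fB (T w') v = _
      rw [hTw', map_add, LinearMap.add_apply, hwA]
    rw [h1, h2, hsq, hlam]
    have e1 := hself (Q₀ v)
    linear_combination (-1 : F) * e1

end Cfsg.Agent.S2585
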