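import Cfsg.Statements.S2586
import Cfsg.Agent.Lib.Helper43.Frob

set_option autoImplicit false
open Cfsg

namespace Cfsg.Agent.S2586

open Cfsg.Agent.Lib.Helper43

/-- over any field, a square matrix is conjugate to its transpose (any finite index type) -/
theorem isConj_transpose' {F ι : Type*} [Field F] [Fintype ι] [DecidableEq ι] (A : Matrix ι ι F) :
    IsConj A A.transpose := by
  obtain ⟨B, hnd, -, hadj⟩ := exists_selfadjoint_form (Matrix.toLin' A)
  set G := LinearMap.BilinForm.toMatrix' B with hG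
  have hdet : G.det ≠ 0 := by
    rw [← Matrix.nondegenerate_iff_det_ne_zero, hG,
      LinearMap.BilinForm.nondegenerate_toMatrix'_iff]
    exact hnd
  have hcomp : B.compLeft (Matrix.toLin' A) = B.compRight (Matrix.toLin' A) := by
    ext v w
    exact hadj _ _
  have h1 := congrArg LinearMap.BilinForm.toMatrix' hcomp
  rw [LinearMap.BilinForm.toMatrix'_compLeft, LinearMap.BilinForm.toMatrix'_compRight,
    LinearMap.toMatrix'_toLin'] at h1
  have hunit : IsUnit G := (Matrix.isUnit_iff_isUnit_det G).mpr (IsUnit.mk0 _ hdet)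
  refine ⟨hunit.unit, ?_⟩
  show hunit.unit.1 * A = A.transpose * hunit.unit.1
  rw [IsUnit.unit_spec]
  exact h1.symm

/-- Over a finite field, every element of the symplectic group Sp_2m(F) is conjugate by an invertible matrix to its inverse. -/
theorem result {F : Type*} [Field F] [Finite F] {m : ℕ} (A : Matrix.symplecticGroup (Fin m) F) : IsConj (A : Matrix (Fin m ⊕ Fin m) (Fin m ⊕ Fin m) F) ((A⁻¹ : Matrix.symplecticGroup (Fin m) F) : Matrix (Fin m ⊕ Fin m) (Fin m ⊕ Fin m) F) := by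
  classical
  refine (isConj_transpose' (A : Matrix (Fin m ⊕ Fin m) (Fin m ⊕ Fin m) F)).trans ?_
  have hJJ : Matrix.J (Fin m) F * Matrix.J (Fin m) F = -1 := Matrix.J_squared (Fin m) F
  let c : (Matrix (Fin m ⊕ Fin m) (Fin m ⊕ Fin m) F)ˣ :=
    ⟨-Matrix.J (Fin m) F, Matrix.J (Fin m) F, by rw [neg_mul, hJJ, neg_neg],
      by rw [mul_neg, hJJ, neg_neg]⟩
  refine ⟨c, ?_⟩
  show (-Matrix.J (Fin m) F) * (A : Matrix (Fin m ⊕ Fin m) (Fin m ⊕ Fin m) F).transpose =
    ((A⁻¹ : Matrix.symplecticGroup (Fin m) F) : Matrix (Fin m ⊕ Fin m) (Fin m ⊕ Fin m) F) *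
      (-Matrix.J (Fin m) F)
  rw [SymplecticGroup.coe_inv, Matrix.mul_assoc, mul_neg, hJJ, neg_neg, mul_one]

end Cfsg.Agent.S2586
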