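import Cfsg.Statements.S2587
import Cfsg.Agent.Lib.Helper43.GUConj

set_option autoImplicit false
open Cfsg

namespace Cfsg.Agent.S2587

open Cfsg.Agent.Lib.Helper43.HermSqrt

/-- Conjugacy in the finite general unitary group is controlled by the general linear group: two elements of GU_n(q) (the invertible matrices over the field with q² elements preserving the Hermitian form Σ u_i v_i^q) are conjugate in GU_n(q) if and only if they are conjugate in GL_n(q²). -/
theorem result {K : Type*} [Field K] [Fintype K] {q n : ℕ} (hK : Fintype.card K = q ^ 2) (A B : ↥(Cfsg.GU n K q)) : IsConj A B ↔ IsConj (A : GL (Fin n) K) (B : GL (Fin n) K) := by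
  constructor
  · intro h
    exact MonoidHom.map_isConj (Cfsg.GU n K q).subtype h
  · intro h
    obtain ⟨P, hP⟩ := isConj_iff.1 h
    have hP' : P * (A : GL (Fin n) K) = (B : GL (Fin n) K) * P := by
      rw [← hP, inv_mul_cancel_right]
    obtain ⟨Q, hQ, hQA⟩ := gu_conj hK (A : GL (Fin n) K) (B : GL (Fin n) K) P A.2 B.2 hP'
    rw [isConj_iff]
    refine ⟨⟨Q, hQ⟩, ?_⟩
    apply Subtype.ext
    show Q * (A : GL (Fin n) K) * Q⁻¹ = (B : GL (Fin n) K)
    rw [hQA, mul_inv_cancel_right]

end Cfsg.Agent.S2587
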