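import Cfsg.Statements.S2590
import Cfsg.Agent.Lib.Helper43.OrthSemiConj

set_option autoImplicit false
open Cfsg

namespace Cfsg.Agent.S2590

open Cfsg.Agent.Lib.Helper43.OrthConj Matrix

/-- Two semisimple elements of odd order of a finite orthogonal group (isometry group of a quadratic form on F^n with non-degenerate polar form, F finite of characteristic p; the elements have odd order prime to p) are conjugate in the orthogonal group if and only if they are conjugate in GL_n(F). -/
theorem result {F : Type*} [Field F] [Fintype F] {p : ℕ} [Fact p.Prime] [CharP F p] {n : ℕ} (Q : QuadraticForm F (Fin n → F)) (hQ : (QuadraticMap.polarBilin Q).Nondegenerate) (A B : ↥(Cfsg.isometryGroup F ⇑Q)) (hodd : Odd (orderOf A)) (hA : (orderOf A).Coprime p) : IsConj A B ↔ IsConj ((A : Matrix.GeneralLinearGroup (Fin n) F) : Matrix (Fin n) (Fin n) F) ((B : Matrix.GeneralLinearGroup (Fin n) F) : Matrix (Fin n) (Fin n) F) := by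
  constructor
  · intro h
    exact MonoidHom.map_isConj
      ((Units.coeHom (Matrix (Fin n) (Fin n) F)).comp (Cfsg.isometryGroup F ⇑Q).subtype) h
  · rintro ⟨c, hc⟩
    have hP : (c : Matrix (Fin n) (Fin n) F) *
        ((A : Matrix.GeneralLinearGroup (Fin n) F) : Matrix (Fin n) (Fin n) F) =
        ((B : Matrix.GeneralLinearGroup (Fin n) F) : Matrix (Fin n) (Fin n) F) *
        (c : Matrix (Fin n) (Fin n) F) := hc
    have ha : ∀ v, Q (((A : Matrix.GeneralLinearGroup (Fin n) F) : Matrix (Fin n) (Fin n) F) *ᵥ v) =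
        Q v := fun v => A.2 v v
    have hb : ∀ v, Q (((B : Matrix.GeneralLinearGroup (Fin n) F) : Matrix (Fin n) (Fin n) F) *ᵥ v) =
        Q v := fun v => B.2 v v
    obtain ⟨k, hk⟩ := hodd
    have hN : ((2 * k + 1 : ℕ) : F) ≠ 0 := by
      rw [← hk]
      intro h0
      rw [CharP.cast_eq_zero_iff F p] at h0
      have hp : p.Prime := Fact.out
      have h1 : p ∣ Nat.gcd (orderOf A) p := Nat.dvd_gcd h0 dvd_rfl
      rw [Nat.Coprime] at hA
      rw [hA] at h1
      exact hp.one_lt.ne' (Nat.dvd_one.1 h1)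
    have haN : ((A : Matrix.GeneralLinearGroup (Fin n) F) : Matrix (Fin n) (Fin n) F) ^ (2 * k + 1)
        = 1 := by
      have h1 : A ^ (2 * k + 1) = 1 := by
        rw [← hk]
        exact pow_orderOf_eq_one A
      have h2 := congrArg (fun g : ↥(Cfsg.isometryGroup F ⇑Q) =>
        ((g : Matrix.GeneralLinearGroup (Fin n) F) : Matrix (Fin n) (Fin n) F)) h1
      simpa using h2
    obtain ⟨g, g', hgg', hgQ, hga⟩ := exists_isometry_conj Q hQ
      ((A : Matrix.GeneralLinearGroup (Fin n) F) : Matrix (Fin n) (Fin n) F)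
      (((A : Matrix.GeneralLinearGroup (Fin n) F)⁻¹ : Matrix.GeneralLinearGroup (Fin n) F) :
        Matrix (Fin n) (Fin n) F)
      ((B : Matrix.GeneralLinearGroup (Fin n) F) : Matrix (Fin n) (Fin n) F)
      (c : Matrix (Fin n) (Fin n) F) ((c⁻¹ : (Matrix (Fin n) (Fin n) F)ˣ) : Matrix (Fin n) (Fin n) F)
      (A : Matrix.GeneralLinearGroup (Fin n) F).mul_inv c.mul_inv ha hb hP k hN haN
    have hg'g : g' * g = 1 := mul_eq_one_comm.1 hgg'
    have hmem : (⟨g, g', hgg', hg'g⟩ : Matrix.GeneralLinearGroup (Fin n) F) ∈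
        Cfsg.isometryGroup F ⇑Q := fun u _ => hgQ u
    rw [isConj_iff]
    refine ⟨⟨⟨g, g', hgg', hg'g⟩, hmem⟩, ?_⟩
    apply Subtype.ext
    apply Units.ext
    show g * ((A : Matrix.GeneralLinearGroup (Fin n) F) : Matrix (Fin n) (Fin n) F) * g' =
      ((B : Matrix.GeneralLinearGroup (Fin n) F) : Matrix (Fin n) (Fin n) F)
    rw [hga, mul_assoc, hgg', mul_one]

end Cfsg.Agent.S2590
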