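import Cfsg.Statements.S2591
import Cfsg.Agent.Lib.Helper43.SpRegClasses

set_option autoImplicit false
open Cfsg

namespace Cfsg.Agent.S2591

open Matrix Module Cfsg.Agent.Lib.Helper43

/-- the similitude with multiplier `ε` -/
theorem similitude_mul_spAdj {F : Type*} [Field F] {m : ℕ} (ε : F) :
    (fromBlocks (ε • (1 : Matrix (Fin m) (Fin m) F)) 0 0 1) *
      spAdj (fromBlocks (ε • (1 : Matrix (Fin m) (Fin m) F)) 0 0 1) =
      ε • (1 : Matrix (Fin m ⊕ Fin m) (Fin m ⊕ Fin m) F) := by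
  rw [← fromBlocks_one, fromBlocks_smul]
  unfold spAdj J
  rw [fromBlocks_transpose, fromBlocks_neg, fromBlocks_multiply, fromBlocks_multiply,
    fromBlocks_multiply]
  simp

/-- Over a finite field of odd order and for m ≥ 1, the regular unipotent elements of Sp_2m(F) (u − 1 nilpotent of rank 2m − 1, a single Jordan block) form exactly two conjugacy classes of Sp_2m(F) (one class under the similarity group, which splits in two). -/
theorem result {F : Type*} [Field F] [Fintype F] {q : ℕ} (hF : Fintype.card F = q) (hq : Odd q) {m : ℕ} (hm : 1 ≤ m) : Nat.card {C : ConjClasses ↥(Matrix.symplecticGroup (Fin m) F) // ∃ u : Matrix.symplecticGroup (Fin m) F, ConjClasses.mk u = C ∧ ((u : Matrix (Fin m ⊕ Fin m) (Fin m ⊕ Fin m) F) - 1) ^ (2 * m) = 0 ∧ ((u : Matrix (Fin m ⊕ Fin m) (Fin m ⊕ Fin m) F) - 1).rank = 2 * m - 1} = 2 := by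
  classical
  have hring : ringChar F ≠ 2 := by
    intro hring
    have := FiniteField.even_card_iff_char_two.mp hring
    rw [hF] at this
    rcases hq with ⟨k, hk⟩
    omega
  have h2 : (2 : F) ≠ 0 := by
    intro h2
    apply hring
    have h2' : ((2 : ℕ) : F) = 0 := by exact_mod_cast h2
    exact CharP.ringChar_of_prime_eq_zero Nat.prime_two h2'
  obtain ⟨ε, hε⟩ := FiniteField.exists_nonsquare hring
  have hε0 : ε ≠ 0 := by
    rintro rfl
    exact hε ⟨0, by simp⟩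
  obtain ⟨U₀, hR₀⟩ := exists_isRegUnipSp (F := F) h2 hm
  set h₀ : Matrix (Fin m ⊕ Fin m) (Fin m ⊕ Fin m) F :=
    fromBlocks (ε • (1 : Matrix (Fin m) (Fin m) F)) 0 0 1 with hh₀
  have hh : h₀ * spAdj h₀ = ε • (1 : Matrix (Fin m ⊕ Fin m) (Fin m ⊕ Fin m) F) :=
    similitude_mul_spAdj ε
  have hinv : h₀ * (ε⁻¹ • spAdj h₀) = 1 := by
    rw [Matrix.mul_smul, hh, smul_smul, inv_mul_cancel₀ hε0, one_smul]
  set U₁ : Matrix (Fin m ⊕ Fin m) (Fin m ⊕ Fin m) F := h₀ * U₀ * (ε⁻¹ • spAdj h₀) with hU₁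
  have hU₁mem : U₁ ∈ symplecticGroup (Fin m) F := similitude_conj_mem hR₀.mem hε0 hh
  have hR₁ : IsRegUnipSp U₁ := by
    refine ⟨hU₁mem, ?_⟩
    have : U₁ - 1 = h₀ * (U₀ - 1) * (ε⁻¹ • spAdj h₀) := by
      rw [mul_sub, sub_mul, mul_one, hinv]
    rw [this]
    exact hR₀.reg.conj _ _ hinv
  set u₀ : symplecticGroup (Fin m) F := ⟨U₀, hR₀.mem⟩ with hu₀
  set u₁ : symplecticGroup (Fin m) F := ⟨U₁, hU₁mem⟩ with hu₁
  -- conjugacy in the group from a matrix identity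
  have hconj : ∀ (a b : symplecticGroup (Fin m) F) (k : Matrix (Fin m ⊕ Fin m) (Fin m ⊕ Fin m) F)
      (hk : k ∈ symplecticGroup (Fin m) F),
      k * (a : Matrix (Fin m ⊕ Fin m) (Fin m ⊕ Fin m) F) =
        (b : Matrix (Fin m ⊕ Fin m) (Fin m ⊕ Fin m) F) * k → IsConj a b := by
    intro a b k hk hkab
    rw [isConj_iff]
    refine ⟨⟨k, hk⟩, ?_⟩
    rw [mul_inv_eq_iff_eq_mul]
    apply Subtype.ext
    exact hkab
  have hne : ConjClasses.mk u₀ ≠ ConjClasses.mk u₁ := by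
    intro h
    rw [ConjClasses.mk_eq_mk_iff_isConj, isConj_iff] at h
    obtain ⟨c, hc⟩ := h
    rw [mul_inv_eq_iff_eq_mul] at hc
    have hc' : (c : Matrix (Fin m ⊕ Fin m) (Fin m ⊕ Fin m) F) * U₀ = U₁ * c :=
      congrArg Subtype.val hc
    exact not_sp_conj hR₀ hε h₀ hh c c.2 hc'
  have hset : {C : ConjClasses ↥(Matrix.symplecticGroup (Fin m) F) |
      ∃ u : Matrix.symplecticGroup (Fin m) F, ConjClasses.mk u = C ∧
        ((u : Matrix (Fin m ⊕ Fin m) (Fin m ⊕ Fin m) F) - 1) ^ (2 * m) = 0 ∧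
        ((u : Matrix (Fin m ⊕ Fin m) (Fin m ⊕ Fin m) F) - 1).rank = 2 * m - 1} =
      {ConjClasses.mk u₀, ConjClasses.mk u₁} := by
    ext C
    simp only [Set.mem_setOf_eq, Set.mem_insert_iff, Set.mem_singleton_iff]
    constructor
    · rintro ⟨u, rfl, hnil, hrank⟩
      have hR : IsRegUnipSp (u : Matrix (Fin m ⊕ Fin m) (Fin m ⊕ Fin m) F) :=
        ⟨u.2, ⟨hR₀.reg.card, hR₀.reg.pos, hnil, hrank⟩⟩
      rcases exists_sp_conj h2 hR₀ hR hε h₀ hh with ⟨k, hk, hku⟩ | ⟨k, hk, hku⟩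
      · left
        rw [ConjClasses.mk_eq_mk_iff_isConj]
        exact (hconj u₀ u k hk hku).symm
      · right
        rw [ConjClasses.mk_eq_mk_iff_isConj]
        exact (hconj u₁ u k hk hku).symm
    · rintro (rfl | rfl)
      · exact ⟨u₀, rfl, hR₀.reg.nil, hR₀.reg.rank⟩
      · exact ⟨u₁, rfl, hR₁.reg.nil, hR₁.reg.rank⟩
  have h3 := Nat.card_coe_set_eq {C : ConjClasses ↥(Matrix.symplecticGroup (Fin m) F) |
      ∃ u : Matrix.symplecticGroup (Fin m) F, ConjClasses.mk u = C ∧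
        ((u : Matrix (Fin m ⊕ Fin m) (Fin m ⊕ Fin m) F) - 1) ^ (2 * m) = 0 ∧
        ((u : Matrix (Fin m ⊕ Fin m) (Fin m ⊕ Fin m) F) - 1).rank = 2 * m - 1}
  have h4 : Set.ncard {C : ConjClasses ↥(Matrix.symplecticGroup (Fin m) F) |
      ∃ u : Matrix.symplecticGroup (Fin m) F, ConjClasses.mk u = C ∧
        ((u : Matrix (Fin m ⊕ Fin m) (Fin m ⊕ Fin m) F) - 1) ^ (2 * m) = 0 ∧
        ((u : Matrix (Fin m ⊕ Fin m) (Fin m ⊕ Fin m) F) - 1).rank = 2 * m - 1} = 2 := by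
    rw [hset]
    exact Set.ncard_pair hne
  exact h3.trans h4
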