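import Cfsg.Statements.S2592
import Cfsg.Agent.Lib.Helper43.SpRegCent

set_option autoImplicit false
open Cfsg

namespace Cfsg.Agent.S2592

open Matrix Module Cfsg.Agent.Lib.Helper43

/-- Over a finite field with q elements, q odd, the centraliser in Sp_2m(F) (m ≥ 1) of a regular unipotent element (u − 1 nilpotent of rank 2m − 1) has order 2 q^m. -/
theorem result {F : Type*} [Field F] [Fintype F] {q : ℕ} (hF : Fintype.card F = q) (hq : Odd q) {m : ℕ} (hm : 1 ≤ m) (u : Matrix.symplecticGroup (Fin m) F) (hnil : ((u : Matrix (Fin m ⊕ Fin m) (Fin m ⊕ Fin m) F) - 1) ^ (2 * m) = 0) (hreg : ((u : Matrix (Fin m ⊕ Fin m) (Fin m ⊕ Fin m) F) - 1).rank = 2 * m - 1) : Nat.card ↥(Subgroup.centralizer ({u} : Set ↥(Matrix.symplecticGroup (Fin m) F))) = 2 * q ^ m := by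
  classical
  have h2 : (2 : F) ≠ 0 := by
    intro h2
    have hring : ringChar F = 2 := by
      have h2' : ((2 : ℕ) : F) = 0 := by exact_mod_cast h2
      exact CharP.ringChar_of_prime_eq_zero Nat.prime_two h2'
    have := FiniteField.even_card_iff_char_two.mp hring
    rw [hF] at this
    rcases hq with ⟨k, hk⟩
    omega
  set U : Matrix (Fin m ⊕ Fin m) (Fin m ⊕ Fin m) F := (u : Matrix (Fin m ⊕ Fin m) (Fin m ⊕ Fin m) F)
    with hU
  have hR : IsRegUnipSp U :=
    ⟨u.2, ⟨by rw [Fintype.card_sum, Fintype.card_fin, two_mul], by omega, hnil, hreg⟩⟩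
  haveI : Fact (∀ a ∈ cent U, ∀ b ∈ cent U, a * b = b * a) := ⟨hR.comm⟩
  rw [← hF, ← hR.card_norm_one h2]
  apply Nat.card_congr
  refine
    { toFun := fun g => ⟨⟨(g.1 : Matrix (Fin m ⊕ Fin m) (Fin m ⊕ Fin m) F), ?_⟩, ?_⟩
      invFun := fun g => ⟨⟨(g.1 : Matrix (Fin m ⊕ Fin m) (Fin m ⊕ Fin m) F), ?_⟩, ?_⟩
      left_inv := fun g => rfl
      right_inv := fun g => rfl }
  · -- membership in the centralizer algebra
    rw [mem_cent_iff]
    have := Subgroup.mem_centralizer_iff.mp g.2 u rfl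
    exact congrArg Subtype.val this
  · -- norm one
    apply Subtype.ext
    show (g.1 : Matrix (Fin m ⊕ Fin m) (Fin m ⊕ Fin m) F) * spAdj (g.1 : Matrix (Fin m ⊕ Fin m) (Fin m ⊕ Fin m) F) = 1
    exact (mem_symplecticGroup_iff_mul_spAdj _).mp g.1.2
  · -- symplectic
    rw [mem_symplecticGroup_iff_mul_spAdj]
    exact congrArg Subtype.val g.2
  · -- commutes with u
    rw [Subgroup.mem_centralizer_iff]
    intro h hh
    rw [Set.mem_singleton_iff.mp hh]
    apply Subtype.ext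
    exact mem_cent_iff.mp g.1.2
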