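import Cfsg.Statements.S2594
import Cfsg.Agent.Lib.Helper5.SympCard

set_option autoImplicit false
open Cfsg

namespace Cfsg.Agent.S2594

open Matrix Module Cfsg.Agent.Lib.Helper5

section

variable {F : Type*} [Field F] {m : ℕ}

/-- a symplectic matrix `T` with `T - 1` of rank one is a symplectic transvection -/
theorem exists_transvection_form (T : Matrix (Fin m ⊕ Fin m) (Fin m ⊕ Fin m) F)
    (hT : T ∈ symplecticGroup (Fin m) F) (hrank : (T - 1).rank = 1) :
    ∃ (a : Fin m ⊕ Fin m → F) (c : F), a ≠ 0 ∧ c ≠ 0 ∧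
      ∀ v, T *ᵥ v = v + (c * sympForm v a) • a := by
  classical
  set N := T - 1 with hN
  have hTN : ∀ v, T *ᵥ v = v + N *ᵥ v := by
    intro v
    rw [hN, Matrix.sub_mulVec, Matrix.one_mulVec]
    abel
  have hne : LinearMap.range (Matrix.mulVecLin N) ≠ ⊥ := by
    intro h
    have : N.rank = 0 := by
      rw [Matrix.rank, h, finrank_bot]
    omega
  obtain ⟨a, ha, ha0⟩ := Submodule.exists_mem_ne_zero_of_ne_bot hne
  have hrange : LinearMap.range (Matrix.mulVecLin N) = F ∙ a := by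
    symm
    apply Submodule.eq_of_le_of_finrank_eq
    · rw [Submodule.span_singleton_le_iff_mem]; exact ha
    · rw [finrank_span_singleton ha0]
      exact hrank.symm
  have hφ : ∀ v, ∃ c : F, N *ᵥ v = c • a := by
    intro v
    have : N *ᵥ v ∈ F ∙ a := by
      rw [← hrange]
      exact ⟨v, rfl⟩
    obtain ⟨c, hc⟩ := Submodule.mem_span_singleton.mp this
    exact ⟨c, hc.symm⟩
  choose φ hφ using hφ
  obtain ⟨w₀, rfl⟩ := ha
  have hφw₀ : φ w₀ ≠ 0 := by
    intro h
    apply ha0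
    show N *ᵥ w₀ = 0
    rw [hφ, h, zero_smul]
  set a := Matrix.mulVecLin N w₀ with hadef
  -- the key identity
  have hE : ∀ v w, φ w * sympForm v a + φ v * sympForm a w = 0 := by
    intro v w
    have h1 := sympForm_mulVec_mulVec hT v w
    rw [hTN, hTN, hφ, hφ] at h1
    simp only [sympForm_add_left, sympForm_add_right, sympForm_smul_left, sympForm_smul_right,
      sympForm_self] at h1
    linear_combination h1
  set d := sympForm w₀ a / φ w₀ with hd
  have hd' : ∀ v, sympForm v a = d * φ v := by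
    intro v
    have := hE v w₀
    rw [sympForm_swap a w₀] at this
    rw [hd]
    field_simp
    linear_combination this
  have hd0 : d ≠ 0 := by
    intro h0
    obtain ⟨x, hx⟩ := exists_sympForm_ne_zero_left ha0
    apply hx
    rw [hd', h0, zero_mul]
  refine ⟨a, d⁻¹, ha0, inv_ne_zero hd0, ?_⟩
  intro v
  rw [hTN, hφ, hd', ← mul_assoc, inv_mul_cancel₀ hd0, one_mul]

end

theorem result {F : Type*} [Field F] [Fintype F] [CharP F 2] {q : ℕ} (hF : Fintype.card F = q) {m : ℕ} (hm : 1 ≤ m) (t : Matrix.symplecticGroup (Fin m) F) (ht : ((t : Matrix (Fin m ⊕ Fin m) (Fin m ⊕ Fin m) F) - 1).rank = 1) : Nat.card ↥(Subgroup.centralizer ({t} : Set ↥(Matrix.symplecticGroup (Fin m) F))) = q ^ (2 * m - 1) * (q ^ ((m - 1) ^ 2) * ∏ i : Fin (m - 1), (q ^ (2 * ((i : ℕ) + 1)) - 1)) := by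
  classical
  obtain ⟨a, c, ha0, hc0, hform⟩ := exists_transvection_form (t : Matrix (Fin m ⊕ Fin m) (Fin m ⊕ Fin m) F) t.2 ht
  -- centralizer = stabilizer of a
  have hcent : Subgroup.centralizer ({t} : Set ↥(Matrix.symplecticGroup (Fin m) F)) =
      MulAction.stabilizer (Matrix.symplecticGroup (Fin m) F) a := by
    ext g
    rw [Subgroup.mem_centralizer_iff, MulAction.mem_stabilizer_iff]
    simp only [Set.mem_singleton_iff, forall_eq]
    show t * g = g * t ↔ (g : Matrix (Fin m ⊕ Fin m) (Fin m ⊕ Fin m) F) *ᵥ a = a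
    constructor
    · intro h
      -- t * g = g * t
      have hmat : (t : Matrix (Fin m ⊕ Fin m) (Fin m ⊕ Fin m) F) * (g : Matrix (Fin m ⊕ Fin m) (Fin m ⊕ Fin m) F) =
          (g : Matrix (Fin m ⊕ Fin m) (Fin m ⊕ Fin m) F) * (t : Matrix (Fin m ⊕ Fin m) (Fin m ⊕ Fin m) F) :=
        congrArg Subtype.val h
      have key : ∀ v, sympForm ((g : Matrix (Fin m ⊕ Fin m) (Fin m ⊕ Fin m) F) *ᵥ v) a • a =
          sympForm v a • ((g : Matrix (Fin m ⊕ Fin m) (Fin m ⊕ Fin m) F) *ᵥ a) := by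
        intro v
        have h1 : (t : Matrix (Fin m ⊕ Fin m) (Fin m ⊕ Fin m) F) *ᵥ ((g : Matrix (Fin m ⊕ Fin m) (Fin m ⊕ Fin m) F) *ᵥ v) =
            (g : Matrix (Fin m ⊕ Fin m) (Fin m ⊕ Fin m) F) *ᵥ ((t : Matrix (Fin m ⊕ Fin m) (Fin m ⊕ Fin m) F) *ᵥ v) := by
          rw [Matrix.mulVec_mulVec, Matrix.mulVec_mulVec, hmat]
        rw [hform, hform, Matrix.mulVec_add, Matrix.mulVec_smul] at h1
        have h2 := add_left_cancel h1
        rw [mul_smul, mul_smul] at h2
        exact smul_right_injective _ hc0 h2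
      obtain ⟨x, hx⟩ := exists_sympForm_ne_zero_left ha0
      set v₁ := (sympForm x a)⁻¹ • x with hv₁
      have hv₁a : sympForm v₁ a = 1 := by
        rw [hv₁, sympForm_smul_left, inv_mul_cancel₀ hx]
      set lam := sympForm ((g : Matrix (Fin m ⊕ Fin m) (Fin m ⊕ Fin m) F) *ᵥ v₁) a with hlam
      have hga : (g : Matrix (Fin m ⊕ Fin m) (Fin m ⊕ Fin m) F) *ᵥ a = lam • a := by
        have := key v₁
        rw [hv₁a, one_smul] at this
        exact this.symm
      -- lam * lam = 1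
      have h3 : sympForm ((g : Matrix (Fin m ⊕ Fin m) (Fin m ⊕ Fin m) F) *ᵥ v₁)
          ((g : Matrix (Fin m ⊕ Fin m) (Fin m ⊕ Fin m) F) *ᵥ a) = 1 := by
        rw [sympForm_mulVec_mulVec g.2, hv₁a]
      rw [hga, sympForm_smul_right, ← hlam] at h3
      have h4 : (lam - 1) ^ 2 = 0 := by
        have h2 : (2 : F) = 0 := CharTwo.two_eq_zero
        linear_combination h3 + (1 - lam) * h2
      have h5 : lam = 1 := by
        have := pow_eq_zero_iff (two_ne_zero) |>.mp h4
        exact sub_eq_zero.mp this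
      rw [hga, h5, one_smul]
    · intro hga
      apply Subtype.ext
      show (t : Matrix (Fin m ⊕ Fin m) (Fin m ⊕ Fin m) F) * (g : Matrix (Fin m ⊕ Fin m) (Fin m ⊕ Fin m) F) =
        (g : Matrix (Fin m ⊕ Fin m) (Fin m ⊕ Fin m) F) * (t : Matrix (Fin m ⊕ Fin m) (Fin m ⊕ Fin m) F)
      apply Matrix.toLin'.injective
      apply LinearMap.ext
      intro v
      rw [Matrix.toLin'_apply, Matrix.toLin'_apply, ← Matrix.mulVec_mulVec, ← Matrix.mulVec_mulVec,
        hform, hform, Matrix.mulVec_add, Matrix.mulVec_smul, hga]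
      congr 3
      conv_rhs => rw [← sympForm_mulVec_mulVec g.2, hga]
  rw [hcent]
  -- orbit-stabilizer
  have e := MulAction.orbitProdStabilizerEquivGroup (Matrix.symplecticGroup (Fin m) F) a
  have hcard := Nat.card_congr e
  rw [Nat.card_prod] at hcard
  have horbit : MulAction.orbit (Matrix.symplecticGroup (Fin m) F) a = {v | v ≠ 0} := by
    ext v
    constructor
    · rintro ⟨g, rfl⟩
      show (g : Matrix (Fin m ⊕ Fin m) (Fin m ⊕ Fin m) F) *ᵥ a ≠ 0
      intro h0
      apply ha0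
      have := congrArg (fun w => ((g⁻¹ : Matrix.symplecticGroup (Fin m) F) : Matrix (Fin m ⊕ Fin m) (Fin m ⊕ Fin m) F) *ᵥ w) h0
      simp only [Matrix.mulVec_mulVec, Matrix.mulVec_zero] at this
      have h1 : ((g⁻¹ : Matrix.symplecticGroup (Fin m) F) : Matrix (Fin m ⊕ Fin m) (Fin m ⊕ Fin m) F) *
          (g : Matrix (Fin m ⊕ Fin m) (Fin m ⊕ Fin m) F) = 1 := by
        have := inv_mul_cancel g
        exact congrArg Subtype.val this
      rwa [h1, Matrix.one_mulVec] at this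
    · intro hv
      obtain ⟨g, hg⟩ := exists_symplectic_mulVec_eq a v ha0 hv
      exact ⟨g, hg⟩
  have horbcard : Nat.card (MulAction.orbit (Matrix.symplecticGroup (Fin m) F) a) = q ^ (2 * m) - 1 := by
    rw [horbit]
    show Nat.card {v : Fin m ⊕ Fin m → F // v ≠ 0} = _
    rw [Nat.card_eq_fintype_card, Fintype.card_subtype_compl (fun v : Fin m ⊕ Fin m → F => v = 0),
      Fintype.card_subtype_eq, Fintype.card_fun, Fintype.card_sum, Fintype.card_fin, hF, two_mul]
  rw [horbcard, card_symplecticGroup_fin, hF] at hcard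
  -- arithmetic
  obtain ⟨k, rfl⟩ : ∃ k, m = k + 1 := ⟨m - 1, by omega⟩
  have hq2 : 2 ≤ q := by
    rw [← hF]
    exact Fintype.one_lt_card
  have hpos : 0 < q ^ (2 * (k + 1)) - 1 := by
    have : 2 ^ 1 ≤ q ^ (2 * (k + 1)) := by
      calc 2 ^ 1 ≤ q ^ 1 := by simpa using hq2
        _ ≤ q ^ (2 * (k + 1)) := Nat.pow_le_pow_right (by omega) (by omega)
    omega
  rw [Finset.prod_range_succ] at hcard
  apply Nat.eq_of_mul_eq_mul_left hpos
  rw [hcard]
  show _ = (q ^ (2 * (k + 1)) - 1) *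
    (q ^ (2 * (k + 1) - 1) * (q ^ (k ^ 2) * ∏ i : Fin k, (q ^ (2 * ((i : ℕ) + 1)) - 1)))
  rw [← Finset.prod_range (fun i => q ^ (2 * (i + 1)) - 1)]
  have h1 : (k + 1) ^ 2 = k ^ 2 + (2 * (k + 1) - 1) := by
    have : 2 * (k + 1) - 1 = 2 * k + 1 := by omega
    rw [this]; ring
  rw [h1, pow_add]
  ring

end Cfsg.Agent.S2594
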