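import Cfsg.Statements.S2595
import Cfsg.Agent.Lib.Helper8.InvolCountMat
import Cfsg.Agent.Lib.Helper8.InvolCountForms

set_option autoImplicit false
open Cfsg

namespace Cfsg.Agent.S2595

/-- Number of conjugacy classes of involutions in the full orthogonal group O⁺_2m(F) of the hyperbolic quadratic form Σ x_i y_i over a finite field of characteristic two (m ≥ 1): one class for each odd s ≤ m and two for each even s with 2 ≤ s ≤ m, where s = rank(t − 1); in all m + ⌊m/2⌋. -/
theorem result {F : Type*} [Field F] [Fintype F] [CharP F 2] {m : ℕ} (hm : 1 ≤ m) : Nat.card {C : ConjClasses ↥(Cfsg.isometryGroup F (Cfsg.quadFormPlus m F)) // ∃ g : ↥(Cfsg.isometryGroup F (Cfsg.quadFormPlus m F)), ConjClasses.mk g = C ∧ orderOf g = 2} = m + m / 2 := by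
  have h2 : (2 : F) = 0 := by
    have := CharP.cast_eq_zero F 2
    exact_mod_cast this
  have hdim : Module.finrank F (Fin m ⊕ Fin m → F) = 2 * m := by
    rw [Module.finrank_fintype_fun_eq_card, Fintype.card_sum, Fintype.card_fin]; ring
  have key := Cfsg.Agent.Lib.Helper8.card_involution_classes' h2
    (Cfsg.quadFormPlus m F) (Cfsg.Agent.Lib.Helper8.plusForm m F)
    (Cfsg.Agent.Lib.Helper8.plusForm_coe m F)
    (Cfsg.Agent.Lib.Helper8.plusForm_nondegenerate m F) m m hdim
    (fun s hs1 hs => (Cfsg.Agent.Lib.Helper8.plusForm_hyp m F).exists_nonalt h2 s hs1 hs)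
    (fun r _ hr => (Cfsg.Agent.Lib.Helper8.plusForm_hyp m F).exists_alt h2 r hr)
    (fun t ht _ => by
      have := ht.two_mul_finrank_range_le h2
      rw [hdim] at this
      omega)
  exact key

end Cfsg.Agent.S2595
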