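import Cfsg.Statements.S2596
import Cfsg.Agent.Lib.Helper8.InvolCountMat
import Cfsg.Agent.Lib.Helper8.InvolCountForms

set_option autoImplicit false
open Cfsg

namespace Cfsg.Agent.S2596

/-- Number of conjugacy classes of involutions in the full orthogonal group O⁻_2m(F) of an elliptic quadratic form (Σ_(i<m−1) x_i y_i plus an anisotropic binary form) over a finite field of characteristic two (m ≥ 1): one class for each odd s ≤ m, two for each even s with 2 ≤ s < m and one for s = m when m is even, where s = rank(t − 1); in all m + ⌊(m − 1)/2⌋. -/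
theorem result {F : Type*} [Field F] [Fintype F] [CharP F 2] {m : ℕ} (hm : 1 ≤ m) (a b : F) (hab : ∀ z₁ z₂ : F, z₁ ^ 2 + a * z₁ * z₂ + b * z₂ ^ 2 = 0 → z₁ = 0 ∧ z₂ = 0) : Nat.card {C : ConjClasses ↥(Cfsg.isometryGroup F (Cfsg.quadFormMinus (m - 1) F a b)) // ∃ g : ↥(Cfsg.isometryGroup F (Cfsg.quadFormMinus (m - 1) F a b)), ConjClasses.mk g = C ∧ orderOf g = 2} = m + (m - 1) / 2 := by
  have h2 : (2 : F) = 0 := by
    have := CharP.cast_eq_zero F 2
    exact_mod_cast this
  have ha0 : a ≠ 0 := by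
    rintro rfl
    obtain ⟨e, he⟩ := FiniteField.isSquare_of_char_two (ringChar.eq F 2) b
    have := hab e 1 (by rw [he]; linear_combination (e * e) * h2)
    exact one_ne_zero this.2
  have hdim : Module.finrank F ((Fin (m - 1) ⊕ Fin (m - 1)) ⊕ Fin 2 → F) = 2 * m := by
    rw [Module.finrank_fintype_fun_eq_card, Fintype.card_sum, Fintype.card_sum, Fintype.card_fin,
      Fintype.card_fin]
    omega
  have hQ := Cfsg.Agent.Lib.Helper8.minusForm_nondegenerate (m - 1) F a b h2 ha0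
  have hyp := Cfsg.Agent.Lib.Helper8.minusForm_hyp (m - 1) F a b
  have key := Cfsg.Agent.Lib.Helper8.card_involution_classes' h2
    (Cfsg.quadFormMinus (m - 1) F a b) (Cfsg.Agent.Lib.Helper8.minusForm (m - 1) F a b)
    (Cfsg.Agent.Lib.Helper8.minusForm_coe (m - 1) F a b) hQ m (m - 1) hdim
    (fun s hs1 hs => hyp.exists_nonalt_succ h2 (Pi.single (Sum.inr 0) 1)
      (a⁻¹ • Pi.single (Sum.inr 1) 1)
      (Cfsg.Agent.Lib.Helper8.minusForm_u (m - 1) F a b)
      (Cfsg.Agent.Lib.Helper8.minusForm_polar_u_e (m - 1) F a b)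
      (Cfsg.Agent.Lib.Helper8.minusForm_polar_u_f (m - 1) F a b)
      (Cfsg.Agent.Lib.Helper8.minusForm_polar_u'_u (m - 1) F a b ha0)
      (Cfsg.Agent.Lib.Helper8.minusForm_polar_u'_e (m - 1) F a b a⁻¹)
      (Cfsg.Agent.Lib.Helper8.minusForm_polar_u'_f (m - 1) F a b a⁻¹) s hs1 (by omega))
    (fun r _ hr => hyp.exists_alt h2 r hr)
    (fun t ht hA => Cfsg.Agent.Lib.Helper8.alt_rank_le h2 _ hQ (m - 1) _
      (Cfsg.Agent.Lib.Helper8.minusForm_e_indep (m - 1) F) hyp.qe hyp.ee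
      (Cfsg.Agent.Lib.Helper8.minusForm_max (m - 1) F a b hab) t ht hA)
  exact key

end Cfsg.Agent.S2596
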