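import Cfsg.Statements.S2599

set_option autoImplicit false
open Cfsg

namespace Cfsg.Agent.S2599

/-- An irreducible invariant subspace of a semisimple isometry is non-degenerate or totally singular. -/
theorem result {F : Type*} [Field F] [Fintype F] {p : ℕ} [Fact p.Prime] [CharP F p] {n : ℕ} (Q : QuadraticForm F (Fin n → F)) (hQ : (QuadraticMap.polarBilin Q).Nondegenerate) (x : ↥(Cfsg.isometryGroup F ⇑Q)) (hx : (orderOf x).Coprime p) (U : Submodule F (Fin n → F)) (hU0 : U ≠ ⊥) (hUx : ∀ u ∈ U, ((x : Matrix.GeneralLinearGroup (Fin n) F) : Matrix (Fin n) (Fin n) F).mulVec u ∈ U) (hirr : ∀ W : Submodule F (Fin n → F), W ≤ U → (∀ w ∈ W, ((x : Matrix.GeneralLinearGroup (Fin n) F) : Matrix (Fin n) (Fin n) F).mulVec w ∈ W) → W = ⊥ ∨ W = U) : U ⊓ LinearMap.BilinForm.orthogonal (QuadraticMap.polarBilin Q) U = ⊥ ∨ (∀ u ∈ U, Q u = 0) ∨ (p = 2 ∧ Module.finrank F U = 1 ∧ (∃ u ∈ U, Q u ≠ 0) ∧ ∀ u ∈ U, ((x : Matrix.GeneralLinearGroup (Fin n) F) : Matrix (Fin n) (Fin n) F).mulVec u = u) := by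
  classical
  set X : Matrix (Fin n) (Fin n) F := ((x : Matrix.GeneralLinearGroup (Fin n) F) : Matrix (Fin n) (Fin n) F) with hXdef
  have hXQ : ∀ v, Q (X.mulVec v) = Q v := fun v => x.2 v v
  have hXadd : ∀ u v, X.mulVec (u + v) = X.mulVec u + X.mulVec v := fun u v => Matrix.mulVec_add _ _ _
  have hXpolar : ∀ u v, QuadraticMap.polar Q (X.mulVec u) (X.mulVec v) = QuadraticMap.polar Q u v := by
    intro u v
    unfold QuadraticMap.polar
    rw [← hXadd, hXQ, hXQ, hXQ]
  -- X restricted to U is surjective
  let g : U →ₗ[F] U := (Matrix.mulVecLin X).restrict hUx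
  have hXinj : Function.Injective (Matrix.mulVecLin X) := by
    have hunit : IsUnit X := ⟨(x : Matrix.GeneralLinearGroup (Fin n) F), rfl⟩
    exact Matrix.mulVec_injective_of_isUnit hunit
  have hginj : Function.Injective g := by
    intro a b hab
    have := congrArg Subtype.val hab
    apply Subtype.ext
    exact hXinj this
  have hgsurj : Function.Surjective g := LinearMap.injective_iff_surjective.mp hginj
  have hsurj : ∀ u ∈ U, ∃ u' ∈ U, X.mulVec u' = u := by
    intro u hu
    obtain ⟨⟨u', hu'⟩, h⟩ := hgsurj ⟨u, hu⟩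
    exact ⟨u', hu', congrArg Subtype.val h⟩
  set B := QuadraticMap.polarBilin Q with hB
  have hBpolar : ∀ u v, B u v = QuadraticMap.polar Q u v := fun u v => rfl
  set R := U ⊓ LinearMap.BilinForm.orthogonal B U with hR
  have hRU : R ≤ U := inf_le_left
  have hRinv : ∀ w ∈ R, X.mulVec w ∈ R := by
    intro w hw
    refine ⟨hUx w hw.1, LinearMap.BilinForm.mem_orthogonal_iff.mpr ?_⟩
    intro u hu
    obtain ⟨u', hu', rfl⟩ := hsurj u hu
    rw [hBpolar, hXpolar]
    exact LinearMap.BilinForm.mem_orthogonal_iff.mp hw.2 u' hu'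
  rcases hirr R hRU hRinv with h | h
  · left; exact h
  right
  have hortho : ∀ u ∈ U, ∀ v ∈ U, QuadraticMap.polar Q u v = 0 := by
    intro u hu v hv
    have hv' : v ∈ R := by rw [h]; exact hv
    exact LinearMap.BilinForm.mem_orthogonal_iff.mp hv'.2 u hu
  have hadd : ∀ u ∈ U, ∀ v ∈ U, Q (u + v) = Q u + Q v := by
    intro u hu v hv
    have := hortho u hu v hv
    unfold QuadraticMap.polar at this
    linear_combination this
  by_cases hp : p = 2
  · subst hp
    have h2 : (2 : F) = 0 := by
      have := CharP.cast_eq_zero F 2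
      exact_mod_cast this
    -- the submodule of singular vectors in U
    let W : Submodule F (Fin n → F) :=
      { carrier := {u | u ∈ U ∧ Q u = 0}
        add_mem' := by
          rintro a b ⟨ha, ha0⟩ ⟨hb, hb0⟩
          exact ⟨U.add_mem ha hb, by rw [hadd a ha b hb, ha0, hb0, add_zero]⟩
        zero_mem' := ⟨U.zero_mem, by simp⟩
        smul_mem' := by
          rintro c a ⟨ha, ha0⟩
          exact ⟨U.smul_mem c ha, by rw [QuadraticMap.map_smul, ha0, smul_zero]⟩ }
    have hWU : W ≤ U := fun u hu => hu.1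
    have hWinv : ∀ w ∈ W, X.mulVec w ∈ W := by
      rintro w ⟨hw, hw0⟩
      exact ⟨hUx w hw, by rw [hXQ, hw0]⟩
    rcases hirr W hWU hWinv with hW | hW
    · right
      have hani : ∀ u ∈ U, Q u = 0 → u = 0 := by
        intro u hu hu0
        have : u ∈ W := ⟨hu, hu0⟩
        rw [hW] at this
        exact (Submodule.mem_bot F).mp this
      obtain ⟨u₀, hu₀, hu₀ne⟩ := Submodule.exists_mem_ne_zero_of_ne_bot hU0
      have hQu₀ : Q u₀ ≠ 0 := fun h0 => hu₀ne (hani u₀ hu₀ h0)
      refine ⟨rfl, ?_, ⟨u₀, hu₀, hQu₀⟩, ?_⟩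
      · have hspan : U = Submodule.span F {u₀} := by
          apply le_antisymm
          · intro v hv
            have hring : ringChar F = 2 := ringChar.eq F 2
            obtain ⟨c, hc⟩ := FiniteField.isSquare_of_char_two hring (Q v / Q u₀)
            have hcu : c • u₀ ∈ U := U.smul_mem c hu₀
            have hz : Q (v + c • u₀) = 0 := by
              rw [hadd v hv _ hcu, QuadraticMap.map_smul, smul_eq_mul, ← hc, div_mul_cancel₀ _ hQu₀]
              rw [← two_mul, h2, zero_mul]
            have := hani _ (U.add_mem hv hcu) hz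
            have hv2 : v = (-c) • u₀ := by
              rw [neg_smul]; exact eq_neg_of_add_eq_zero_left this
            rw [hv2]
            exact Submodule.smul_mem _ _ (Submodule.mem_span_singleton_self u₀)
          · rw [Submodule.span_singleton_le_iff_mem]; exact hu₀
        rw [hspan]
        exact finrank_span_singleton hu₀ne
      · intro u hu
        have hXu : X.mulVec u ∈ U := hUx u hu
        have hz : Q (X.mulVec u + u) = 0 := by
          rw [hadd _ hXu u hu, hXQ, ← two_mul, h2, zero_mul]
        have := hani _ (U.add_mem hXu hu) hz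
        have h3 : X.mulVec u = -u := eq_neg_of_add_eq_zero_left this
        rw [h3]
        have : u + u = 0 := by rw [← two_smul F u, h2, zero_smul]
        exact neg_eq_of_add_eq_zero_left this
    · left
      intro u hu
      have : u ∈ W := by rw [hW]; exact hu
      exact this.2
  · left
    intro u hu
    have h2 : (2 : F) ≠ 0 := by
      intro h0
      have h2' : ((2 : ℕ) : F) = 0 := by exact_mod_cast h0
      have hdvd := (CharP.cast_eq_zero_iff F p 2).mp h2'
      have hpp : p.Prime := Fact.out
      have := (Nat.prime_dvd_prime_iff_eq hpp Nat.prime_two).mp hdvd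
      exact hp this
    have h1 := hadd u hu u hu
    have h4 : Q (u + u) = 4 * Q u := by
      rw [← two_smul F u, QuadraticMap.map_smul, smul_eq_mul]; ring
    rw [h4] at h1
    have : 2 * Q u = 0 := by linear_combination h1
    rcases mul_eq_zero.mp this with h | h
    · exact absurd h h2
    · exact h

end Cfsg.Agent.S2599
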