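import Cfsg.Statements.S2608
import Cfsg.Agent.Lib.Helper5.OutD4Odd
import Cfsg.Agent.S2695

set_option autoImplicit false
open Cfsg

namespace Cfsg.Agent.S2608

/-- Outer automorphism group of PΩ⁺_2m(q), q = p^f odd: for m = 4 it is S_4 × C_f (triality); for m ≥ 5 it is C_2 × C_2 × C_f when q ≡ 3 (mod 4) and m is odd, and D_8 × C_f otherwise. -/
theorem result {F : Type*} [Field F] [Fintype F] {p f m : ℕ} [Fact p.Prime] (hf : 1 ≤ f) (hF : Fintype.card F = p ^ f) (hp : p ≠ 2) (hm : 4 ≤ m) : if m = 4 then Nonempty (Cfsg.Out (Cfsg.POmega F (Cfsg.quadFormPlus m F)) ≃* Equiv.Perm (Fin 4) × Multiplicative (ZMod f)) else if p ^ f % 4 = 3 ∧ Odd m then Nonempty (Cfsg.Out (Cfsg.POmega F (Cfsg.quadFormPlus m F)) ≃* Multiplicative (ZMod 2 × ZMod 2 × ZMod f)) else Nonempty (Cfsg.Out (Cfsg.POmega F (Cfsg.quadFormPlus m F)) ≃* DihedralGroup 4 × Multiplicative (ZMod f)) := by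
  have hodd : Odd (Fintype.card F) := by
    rw [hF]
    exact ((Fact.out : p.Prime).odd_of_ne_two hp).pow
  split_ifs with h4 hc
  · subst h4
    exact Cfsg.Agent.Lib.Helper5.OutD4.out_odd hodd hf hF hp
  · have hm5 : 5 ≤ m := by omega
    obtain ⟨e1⟩ := Cfsg.Agent.Lib.Helper5.OutExt.quot_top_equiv
      (Cfsg.gammaPOmega F (Cfsg.quadFormPlus m F))
      (Cfsg.Inn (Cfsg.POmega F (Cfsg.quadFormPlus m F))) (Cfsg.Agent.S2695.result hm5)
    have h := Cfsg.Agent.Lib.Helper5.OutPlus.gamma_mod_inn_odd hf hF hp hm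
    rw [if_pos hc] at h
    obtain ⟨e2⟩ := h
    refine ⟨(e1.trans e2).trans ?_⟩
    exact ((MulEquiv.prodMultiplicative _ _).symm).trans
      (AddEquiv.toMultiplicative (AddEquiv.prodAssoc (M := ZMod 2) (N := ZMod 2) (P := ZMod f)))
  · have hm5 : 5 ≤ m := by omega
    obtain ⟨e1⟩ := Cfsg.Agent.Lib.Helper5.OutExt.quot_top_equiv
      (Cfsg.gammaPOmega F (Cfsg.quadFormPlus m F))
      (Cfsg.Inn (Cfsg.POmega F (Cfsg.quadFormPlus m F))) (Cfsg.Agent.S2695.result hm5)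
    have h := Cfsg.Agent.Lib.Helper5.OutPlus.gamma_mod_inn_odd hf hF hp hm
    rw [if_neg hc] at h
    obtain ⟨e2⟩ := h
    exact ⟨e1.trans e2⟩

end Cfsg.Agent.S2608
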