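import Cfsg.Statements.S2610
import Cfsg.Agent.Lib.Helper37.EvenDim

set_option autoImplicit false
open Cfsg

namespace Cfsg.Agent.S2610

open Cfsg.Agent.Lib.Helper37

/-- For a quadratic form Q on F^n with non-degenerate polar form, F finite of odd order and n ≥ 2 even, the isometry −1 lies in Ω (the commutator subgroup of the orthogonal group) if and only if the discriminant of Q (the determinant of the Gram matrix of its polar form) is a square. -/
theorem result {F : Type*} [Field F] [Fintype F] (h2 : (2 : F) ≠ 0) {n : ℕ} (hn : 2 ≤ n) (he : Even n) (Q : QuadraticForm F (Fin n → F)) (hQ : (QuadraticMap.polarBilin Q).Nondegenerate) : (∃ g : ↥(Cfsg.isometryGroup F ⇑Q), g ∈ Cfsg.Omega F ⇑Q ∧ ((g : Matrix.GeneralLinearGroup (Fin n) F) : Matrix (Fin n) (Fin n) F) = -1) ↔ IsSquare (Matrix.of (fun i j : Fin n => QuadraticMap.polar ⇑Q (Pi.single i 1) (Pi.single j 1))).det := by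
  classical
  set G : Matrix (Fin n) (Fin n) F :=
    Matrix.of (fun i j : Fin n => QuadraticMap.polar ⇑Q (Pi.single i 1) (Pi.single j 1)) with hGdef
  have hGB : G = LinearMap.BilinForm.toMatrix' (QuadraticMap.polarBilin Q) := by
    ext i j
    simp [hGdef, LinearMap.BilinForm.toMatrix'_apply]
  have hB : Matrix.toBilin' G = QuadraticMap.polarBilin Q := by
    rw [hGB, Matrix.toBilin'_toMatrix']
  have hG : G.IsSymm := by
    ext i j
    simp only [Matrix.transpose_apply, hGdef, Matrix.of_apply]
    exact QuadraticMap.polar_comm _ _ _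
  have hQG : ∀ u, Matrix.toBilin' G u u = 2 * Q u := by
    intro u
    rw [hB]
    simp [QuadraticMap.polarBilin_apply_apply, QuadraticMap.polar_self]
  have hdet : G.det ≠ 0 := by
    have h1 : (LinearMap.BilinForm.toMatrix' (QuadraticMap.polarBilin Q)).Nondegenerate :=
      LinearMap.BilinForm.nondegenerate_toMatrix'_iff.mpr hQ
    rw [← hGB] at h1
    exact Matrix.nondegenerate_iff_det_ne_zero.mp h1
  have hodd : Odd (n - 1) := by
    obtain ⟨r, hr⟩ := he
    rw [Nat.odd_iff]; omega
  have hcard : Fintype.card (Fin n) = (n - 1) + 1 := by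
    simp; omega
  constructor
  · intro h
    by_contra hne
    exact (even_dim_main_nonsquare h2 (⇑Q) G hG hQG (n - 1) hodd hcard hne).1 h
  · intro h
    exact (even_dim_main_square h2 (⇑Q) G hG hQG (n - 1) hodd hcard hdet h).1

end Cfsg.Agent.S2610
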