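import Cfsg.Statements.S2616
import Cfsg.Agent.Lib.Helper43.Witt

set_option autoImplicit false
open Cfsg

namespace Cfsg.Agent.S2616

open Module QuadraticMap Cfsg.Agent.Lib.Helper43

/-- analysis of a two-dimensional anisotropic nondegenerate subspace -/
theorem exists_elliptic_pair {F V : Type*} [Field F] [Finite F] [AddCommGroup V] [Module F V]
    [FiniteDimensional F V] (Q : QuadraticForm F V) (W : Submodule F V)
    (hW2 : finrank F W = 2)
    (h7 : ∀ w ∈ W, Q w = 0 → w = 0)
    (h8 : ∀ w ∈ W, (∀ w' ∈ W, polar Q w w' = 0) → w = 0) :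
    ∃ x ∈ W, ∃ y ∈ W, Q x = 1 ∧ polar Q x y = 1 ∧ (∀ t : F, t ^ 2 + t + Q y ≠ 0) ∧
      ∃ ux ∈ W, ∃ uy ∈ W, polar Q ux x = 1 ∧ polar Q ux y = 0 ∧ polar Q uy x = 0 ∧
        polar Q uy y = 1 := by
  have := Fintype.ofFinite F
  -- step 1
  have hx : ∃ x ∈ W, Q x = 1 := by
    by_cases h2 : (2 : F) = 0
    · obtain ⟨w, hwW, hw0⟩ : ∃ w ∈ W, w ≠ 0 := by
        apply Submodule.exists_mem_ne_zero_of_ne_bot
        intro h
        rw [h, finrank_bot] at hW2
        omega
      have hQw : Q w ≠ 0 := fun h => hw0 (h7 w hwW h)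
      have hring : ringChar F = 2 := by
        have h2' : ((2 : ℕ) : F) = 0 := by exact_mod_cast h2
        exact CharP.ringChar_of_prime_eq_zero Nat.prime_two h2'
      obtain ⟨s, hs⟩ := FiniteField.isSquare_of_char_two hring (Q w)
      have hs0 : s ≠ 0 := by
        rintro rfl
        simp at hs
        exact hQw hs
      refine ⟨s⁻¹ • w, W.smul_mem _ hwW, ?_⟩
      rw [QuadraticMap.map_smul, hs, smul_eq_mul]
      field_simp
    · have hnd := nondegenerate_comp_subtype Q W h8
      obtain ⟨w, hw⟩ := exists_eq_one_odd h2 (Q.comp W.subtype) hnd (by omega)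
      exact ⟨w.1, w.2, hw⟩
  obtain ⟨x, hxW, hQx⟩ := hx
  have hx0 : x ≠ 0 := by
    rintro rfl
    simp at hQx
  -- step 2
  have hy : ∃ y ∈ W, polar Q x y = 1 ∧ y ∉ F ∙ x := by
    have hlt : (F ∙ x) < W := by
      apply Submodule.lt_of_le_of_finrank_lt_finrank
      · rw [Submodule.span_singleton_le_iff_mem]; exact hxW
      · rw [finrank_span_singleton hx0]; omega
    obtain ⟨z, hzW, hz⟩ := SetLike.exists_of_lt hlt
    obtain ⟨w', hw'W, hw'⟩ : ∃ w' ∈ W, polar Q x w' ≠ 0 := by
      by_contra h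
      push Not at h
      exact hx0 (h8 x hxW h)
    have hy₀ : ∃ y₀ ∈ W, polar Q x y₀ = 1 :=
      ⟨(polar Q x w')⁻¹ • w', W.smul_mem _ hw'W, by
        rw [polar_smul_right, smul_eq_mul, inv_mul_cancel₀ hw']⟩
    obtain ⟨y₀, hy₀W, hxy₀⟩ := hy₀
    by_cases hmem : y₀ ∈ F ∙ x
    · refine ⟨y₀ + z - polar Q x z • y₀, ?_, ?_, ?_⟩
      · exact W.sub_mem (W.add_mem hy₀W hzW) (W.smul_mem _ hy₀W)
      · rw [polar_sub_right, polar_add_right, polar_smul_right, hxy₀]
        simp
      · intro hmem2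
        apply hz
        have : z = (y₀ + z - polar Q x z • y₀) - y₀ + polar Q x z • y₀ := by abel
        rw [this]
        exact Submodule.add_mem _ (Submodule.sub_mem _ hmem2 hmem) (Submodule.smul_mem _ _ hmem)
    · exact ⟨y₀, hy₀W, hxy₀, hmem⟩
  obtain ⟨y, hyW, hxy, hyx⟩ := hy
  have hroot : ∀ t : F, t ^ 2 + t + Q y ≠ 0 := by
    intro t ht
    have hQ0 : Q (t • x + y) = 0 := by
      rw [qmap_add, QuadraticMap.map_smul, polar_smul_left, hQx, hxy]
      simp only [smul_eq_mul, mul_one]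
      linear_combination ht
    have h0 := h7 _ (W.add_mem (W.smul_mem t hxW) hyW) hQ0
    apply hyx
    have : y = (-t) • x := by
      rw [neg_smul]
      exact eq_neg_of_add_eq_zero_right h0
    rw [this]
    exact Submodule.smul_mem _ _ (Submodule.mem_span_singleton_self x)
  have hD : 4 * Q y - 1 ≠ 0 := by
    intro hD
    by_cases h2 : (2 : F) = 0
    · have h4 : (4 : F) = 0 := by
        rw [show (4 : F) = 2 * 2 by norm_num, h2]; simp
      rw [h4] at hD
      simp at hD
    · apply hroot (-(1 / 2))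
      field_simp
      linear_combination hD
  have hyx' : polar Q y x = 1 := by rw [polar_comm]; exact hxy
  have hxx : polar Q x x = 2 := by rw [polar_self, hQx]; simp
  have hyy : polar Q y y = 2 * Q y := by rw [polar_self]; simp
  refine ⟨x, hxW, y, hyW, hQx, hxy, hroot,
    (4 * Q y - 1)⁻¹ • ((2 * Q y) • x - y),
    W.smul_mem _ (W.sub_mem (W.smul_mem _ hxW) hyW),
    (4 * Q y - 1)⁻¹ • ((2 : F) • y - x),
    W.smul_mem _ (W.sub_mem (W.smul_mem _ hyW) hxW), ?_, ?_, ?_, ?_⟩
  · rw [polar_smul_left, polar_sub_left, polar_smul_left, hxx, hyx']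
    simp only [smul_eq_mul]
    field_simp
    ring
  · rw [polar_smul_left, polar_sub_left, polar_smul_left, hxy, hyy]
    simp only [smul_eq_mul]
    ring
  · rw [polar_smul_left, polar_sub_left, polar_smul_left, hxx, hyx']
    simp only [smul_eq_mul]
    ring
  · rw [polar_smul_left, polar_sub_left, polar_smul_left, hxy, hyy]
    simp only [smul_eq_mul]
    field_simp
    ring

/-- Standard bases of a non-degenerate quadratic space of even dimension 2m over a finite field: either there is a hyperbolic basis e_i, f_i (Q(e_i) = Q(f_i) = 0, B(e_i, f_j) = δ_ij, the e's pairwise orthogonal and the f's pairwise orthogonal, B the polar form), or there is an elliptic basis: hyperbolic pairs e_i, f_i for i < m − 1 together with x, y orthogonal to them with Q(x) = 1, B(x, y) = 1, Q(y) = ζ where t² + t + ζ has no root in the field. -/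
theorem result {F V : Type*} [Field F] [Finite F] [AddCommGroup V] [Module F V] [FiniteDimensional F V] {m : ℕ} (hm : 1 ≤ m) (hV : Module.finrank F V = 2 * m) (Q : QuadraticForm F V) (hQ : (QuadraticMap.polarBilin Q).Nondegenerate) : (∃ b : Module.Basis (Fin m ⊕ Fin m) F V, (∀ i, Q (b (Sum.inl i)) = 0 ∧ Q (b (Sum.inr i)) = 0) ∧ (∀ i j, QuadraticMap.polar ⇑Q (b (Sum.inl i)) (b (Sum.inr j)) = if i = j then 1 else 0) ∧ (∀ i j, QuadraticMap.polar ⇑Q (b (Sum.inl i)) (b (Sum.inl j)) = 0 ∧ QuadraticMap.polar ⇑Q (b (Sum.inr i)) (b (Sum.inr j)) = 0)) ∨ (∃ (b : Module.Basis ((Fin (m - 1) ⊕ Fin (m - 1)) ⊕ Fin 2) F V) (ζ : F), (∀ t : F, t ^ 2 + t + ζ ≠ 0) ∧ (∀ i, Q (b (Sum.inl (Sum.inl i))) = 0 ∧ Q (b (Sum.inl (Sum.inr i))) = 0) ∧ (∀ i j, QuadraticMap.polar ⇑Q (b (Sum.inl (Sum.inl i))) (b (Sum.inl (Sum.inr j))) = if i = j then 1 else 0) ∧ (∀ i j, QuadraticMap.polar ⇑Q (b (Sum.inl (Sum.inl i))) (b (Sum.inl (Sum.inl j))) = 0 ∧ QuadraticMap.polar ⇑Q (b (Sum.inl (Sum.inr i))) (b (Sum.inl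 (Sum.inr j))) = 0) ∧ (∀ i (k : Fin 2), QuadraticMap.polar ⇑Q (b (Sum.inl (Sum.inl i))) (b (Sum.inr k)) = 0 ∧ QuadraticMap.polar ⇑Q (b (Sum.inl (Sum.inr i))) (b (Sum.inr k)) = 0) ∧ Q (b (Sum.inr 0)) = 1 ∧ QuadraticMap.polar ⇑Q (b (Sum.inr 0)) (b (Sum.inr 1)) = 1 ∧ Q (b (Sum.inr 1)) = ζ) := by
  obtain ⟨k, e, f, W, h1, h2, h3, h4, h5, h6, h7, h8⟩ := witt_decomp (2 * m) V Q hV hQ
  have hfe : ∀ i j, polar Q (f i) (e j) = if i = j then 1 else 0 := by
    intro i j
    rw [polar_comm, h2 j i]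
    simp [eq_comm]
  have hcases : finrank F W = 0 ∨ finrank F W = 2 := by omega
  rcases hcases with hW0 | hW2
  · left
    have hk : k = m := by omega
    subst hk
    have : Nonempty (Fin k ⊕ Fin k) := ⟨Sum.inl ⟨0, by omega⟩⟩
    let v : Fin k ⊕ Fin k → V := Sum.elim e f
    let u : Fin k ⊕ Fin k → V := Sum.elim f e
    have hdual : ∀ j l, polar Q (u j) (v l) = if j = l then 1 else 0 := by
      rintro (i | i) (j | j)
      · simp only [u, v, Sum.elim_inl]
        rw [hfe i j]
        simp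
      · simp only [u, v, Sum.elim_inl, Sum.elim_inr]
        rw [(h3 i j).2]
        simp
      · simp only [u, v, Sum.elim_inl, Sum.elim_inr]
        rw [(h3 i j).1]
        simp
      · simp only [u, v, Sum.elim_inr]
        rw [h2 i j]
        simp
    have hli : LinearIndependent F v := linearIndependent_of_dual Q v u hdual
    have hcard : Fintype.card (Fin k ⊕ Fin k) = finrank F V := by
      rw [hV]
      simp
      omega
    refine ⟨basisOfLinearIndependentOfCardEqFinrank hli hcard, ?_⟩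
    rw [coe_basisOfLinearIndependentOfCardEqFinrank]
    exact ⟨fun i => h1 i, fun i j => h2 i j, fun i j => h3 i j⟩
  · right
    have hk : k = m - 1 := by omega
    subst hk
    obtain ⟨x, hxW, y, hyW, hQx, hxy, hroot, ux, huxW, uy, huyW, d1, d2, d3, d4⟩ :=
      exists_elliptic_pair Q W hW2 h7 h8
    let v : (Fin (m - 1) ⊕ Fin (m - 1)) ⊕ Fin 2 → V := Sum.elim (Sum.elim e f) ![x, y]
    let u : (Fin (m - 1) ⊕ Fin (m - 1)) ⊕ Fin 2 → V := Sum.elim (Sum.elim f e) ![ux, uy]
    have hW : ∀ w ∈ W, ∀ i, polar Q w (e i) = 0 ∧ polar Q w (f i) = 0 := by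
      intro w hw i
      rw [polar_comm, polar_comm (⇑Q) w (f i)]
      exact h4 w hw i
    have hdual : ∀ j l, polar Q (u j) (v l) = if j = l then 1 else 0 := by
      rintro ((i | i) | i) ((j | j) | j)
      · simp only [u, v, Sum.elim_inl]
        rw [hfe i j]
        simp
      · simp only [u, v, Sum.elim_inl, Sum.elim_inr]
        rw [(h3 i j).2]
        simp
      · simp only [u, v, Sum.elim_inl, Sum.elim_inr]
        fin_cases j
        · simp [(h4 x hxW i).2]
        · simp [(h4 y hyW i).2]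
      · simp only [u, v, Sum.elim_inl, Sum.elim_inr]
        rw [(h3 i j).1]
        simp
      · simp only [u, v, Sum.elim_inl, Sum.elim_inr]
        rw [h2 i j]
        simp
      · simp only [u, v, Sum.elim_inl, Sum.elim_inr]
        fin_cases j
        · simp [(h4 x hxW i).1]
        · simp [(h4 y hyW i).1]
      · simp only [u, v, Sum.elim_inl, Sum.elim_inr]
        fin_cases i
        · simp [(hW ux huxW j).1]
        · simp [(hW uy huyW j).1]
      · simp only [u, v, Sum.elim_inl, Sum.elim_inr]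
        fin_cases i
        · simp [(hW ux huxW j).2]
        · simp [(hW uy huyW j).2]
      · simp only [u, v, Sum.elim_inr]
        fin_cases i <;> fin_cases j
        · simp [d1]
        · simp [d2]
        · simp [d3]
        · simp [d4]
    have hli : LinearIndependent F v := linearIndependent_of_dual Q v u hdual
    have hcard : Fintype.card ((Fin (m - 1) ⊕ Fin (m - 1)) ⊕ Fin 2) = finrank F V := by
      rw [hV]
      simp
      omega
    refine ⟨basisOfLinearIndependentOfCardEqFinrank hli hcard, Q y, hroot, ?_⟩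
    rw [coe_basisOfLinearIndependentOfCardEqFinrank]
    refine ⟨fun i => h1 i, fun i j => h2 i j, fun i j => h3 i j, ?_, hQx, hxy, rfl⟩
    intro i l
    fin_cases l
    · exact h4 x hxW i
    · exact h4 y hyW i

end Cfsg.Agent.S2616
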