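import Cfsg.Statements.S2617

set_option autoImplicit false
open Cfsg

namespace Cfsg.Agent.S2617

section count

variable {F : Type*} [Field F] [Fintype F] [DecidableEq F]

/-- `k` hyperbolic pairs plus a function `R` of the remaining coordinates. -/
def Qk (k : ℕ) {κ : Type} (R : (κ → F) → F) (v : (Fin k ⊕ Fin k) ⊕ κ → F) : F :=
  (∑ i : Fin k, v (.inl (.inl i)) * v (.inl (.inr i))) + R (fun j => v (.inr j))

/-- number of `y` with `x ⬝ y = a` -/
def cnt (k : ℕ) (x : Fin k → F) (a : F) : ℕ :=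
  ∑ y : Fin k → F, if (∑ i, x i * y i) = a then 1 else 0

theorem cnt_zero (k : ℕ) (a : F) : cnt k (0 : Fin k → F) a = if a = 0 then Fintype.card F ^ k else 0 := by
  unfold cnt
  by_cases ha : a = 0
  · subst ha
    simp
  · simp only [Pi.zero_apply, zero_mul, Finset.sum_const_zero, ha, if_false]
    have : ∀ y : Fin k → F, (if (0 : F) = a then 1 else 0) = 0 := by
      intro y
      rw [if_neg (Ne.symm ha)]
    simp [Ne.symm ha]

theorem cnt_ne_zero (k : ℕ) (x : Fin k → F) (hx : x ≠ 0) (a : F) : cnt k x a = cnt k x 0 := by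
  have : ∃ i₀, x i₀ ≠ 0 := by
    by_contra h
    apply hx
    funext j
    by_contra hj
    exact h ⟨j, hj⟩
  obtain ⟨i₀, hi₀⟩ := this
  let ya : Fin k → F := Pi.single i₀ (a / x i₀)
  have hya : ∑ i, x i * ya i = a := by
    rw [Finset.sum_eq_single i₀]
    · simp [ya, mul_div_cancel₀ _ hi₀]
    · intro b _ hb
      simp [ya, hb]
    · simp
  unfold cnt
  symm
  apply Fintype.sum_equiv (Equiv.addRight ya)
  intro y
  simp only [Equiv.coe_addRight, Pi.add_apply, mul_add, Finset.sum_add_distrib, hya]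
  by_cases h : ∑ i, x i * y i = 0
  · simp [h]
  · have : ¬ (∑ i, x i * y i + a = a) := by
      intro h'
      apply h
      linear_combination h'
    simp [h, this]

/-- the part of the count that does not depend on `R` -/
def Cconst (F : Type*) [Field F] [Fintype F] [DecidableEq F] (k : ℕ) (κ : Type) [Fintype κ] [DecidableEq κ] : ℕ :=
  ∑ x ∈ (Finset.univ : Finset (Fin k → F)).erase 0, ∑ _z : κ → F, cnt k x 0

theorem card_zero_Qk (k : ℕ) {κ : Type} [Fintype κ] [DecidableEq κ] (R : (κ → F) → F) :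
    Nat.card {v : (Fin k ⊕ Fin k) ⊕ κ → F // Qk k R v = 0} =
      Fintype.card F ^ k * Nat.card {z : κ → F // R z = 0} + Cconst F k κ := by
  rw [Nat.card_eq_fintype_card, Nat.card_eq_fintype_card, Fintype.card_subtype, Fintype.card_subtype, Finset.card_filter, Finset.card_filter]
  let E : ((Fin k ⊕ Fin k) ⊕ κ → F) ≃ ((Fin k → F) × (Fin k → F)) × (κ → F) :=
    (Equiv.sumArrowEquivProdArrow _ _ _).trans
      (Equiv.prodCongr (Equiv.sumArrowEquivProdArrow _ _ _) (Equiv.refl _))
  have h1 : ∑ v : (Fin k ⊕ Fin k) ⊕ κ → F, (if Qk k R v = 0 then 1 else 0) =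
      ∑ p : ((Fin k → F) × (Fin k → F)) × (κ → F),
        (if (∑ i, p.1.1 i * p.1.2 i) + R p.2 = 0 then 1 else 0) := by
    apply Fintype.sum_equiv E
    intro v
    rfl
  rw [h1, Fintype.sum_prod_type, Fintype.sum_prod_type]
  simp only
  have h2 : ∀ x : Fin k → F, ∑ y : Fin k → F, ∑ z : κ → F,
      (if (∑ i, x i * y i) + R z = 0 then 1 else 0) = ∑ z : κ → F, cnt k x (- R z) := by
    intro x
    rw [Finset.sum_comm]
    apply Finset.sum_congr rfl
    intro z _
    unfold cnt
    apply Finset.sum_congr rfl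
    intro y _
    by_cases h : ∑ i, x i * y i + R z = 0
    · have : ∑ i, x i * y i = - R z := by linear_combination h
      simp [this]
    · have : ¬ (∑ i, x i * y i = - R z) := by
        intro h'
        apply h
        linear_combination h'
      simp [h, this]
  rw [Finset.sum_congr rfl (fun x _ => h2 x)]
  have h3 := Finset.add_sum_erase (Finset.univ : Finset (Fin k → F))
    (fun x => ∑ z : κ → F, cnt k x (- R z)) (Finset.mem_univ 0)
  rw [← h3]
  congr 1
  · rw [Finset.mul_sum]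
    apply Finset.sum_congr rfl
    intro z _
    rw [cnt_zero]
    by_cases h : R z = 0
    · simp [h]
    · simp [h]
  · unfold Cconst
    apply Finset.sum_congr rfl
    intro x hx
    have hx0 : x ≠ 0 := (Finset.mem_erase.mp hx).1
    apply Finset.sum_congr rfl
    intro z _
    exact cnt_ne_zero k x hx0 _

end count

theorem result {F : Type*} [Field F] [Finite F] {m : ℕ} (hm : 1 ≤ m) (ζ : F) (hζ : ∀ t : F, t ^ 2 + t + ζ ≠ 0) (g : (Fin m ⊕ Fin m → F) ≃ₗ[F] ((Fin (m - 1) ⊕ Fin (m - 1)) ⊕ Fin 2 → F)) : ¬ (∀ v : Fin m ⊕ Fin m → F, Cfsg.quadFormMinus (m - 1) F 1 ζ (g v) = Cfsg.quadFormPlus m F v) := by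
  classical
  have := Fintype.ofFinite F
  obtain ⟨k, rfl⟩ : ∃ k, m = k + 1 := ⟨m - 1, by omega⟩
  intro hg
  let R₁ : (Fin 2 → F) → F := fun z => z 0 * z 1
  let R₂ : (Fin 2 → F) → F := fun z => z 0 ^ 2 + 1 * z 0 * z 1 + ζ * z 1 ^ 2
  have hminus : ∀ w : (Fin k ⊕ Fin k) ⊕ Fin 2 → F, Cfsg.quadFormMinus k F 1 ζ w = Qk k R₂ w := fun w => rfl
  let ι : ((Fin k ⊕ Fin k) ⊕ Fin 2 → F) → (Fin (k+1) ⊕ Fin (k+1) → F) := fun w =>
    Sum.elim (Fin.snoc (fun i => w (.inl (.inl i))) (w (.inr 0)))
      (Fin.snoc (fun i => w (.inl (.inr i))) (w (.inr 1)))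
  have hι : ∀ w, Cfsg.quadFormPlus (k+1) F (ι w) = Qk k R₁ w := by
    intro w
    unfold Cfsg.quadFormPlus Qk
    rw [Fin.sum_univ_castSucc]
    simp [ι, R₁]
  have hιinj : Function.Injective ι := by
    intro w w' h
    funext j
    rcases j with (i | i) | j
    · have := congrFun h (.inl i.castSucc); simpa [ι] using this
    · have := congrFun h (.inr i.castSucc); simpa [ι] using this
    · fin_cases j
      · have := congrFun h (.inl (Fin.last k)); simpa [ι] using this
      · have := congrFun h (.inr (Fin.last k)); simpa [ι] using this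
  have hcard_le : Nat.card {w : (Fin k ⊕ Fin k) ⊕ Fin 2 → F // Qk k R₁ w = 0} ≤
      Nat.card {w : (Fin k ⊕ Fin k) ⊕ Fin 2 → F // Qk k R₂ w = 0} := by
    apply Nat.card_le_card_of_injective
      (fun w => (⟨g (ι w.1), by rw [← hminus]; exact (hg (ι w.1)).trans ((hι w.1).trans w.2)⟩ :
        {w : (Fin k ⊕ Fin k) ⊕ Fin 2 → F // Qk k R₂ w = 0}))
    intro a b hab
    have := congrArg Subtype.val hab
    exact Subtype.ext (hιinj (g.injective this))
  rw [card_zero_Qk, card_zero_Qk] at hcard_le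
  have hN2 : Nat.card {z : Fin 2 → F // R₂ z = 0} = 1 := by
    rw [Nat.card_eq_fintype_card, Fintype.card_eq_one_iff]
    refine ⟨⟨0, by simp [R₂]⟩, ?_⟩
    rintro ⟨z, hz⟩
    apply Subtype.ext
    show z = 0
    have hz1 : z 1 = 0 := by
      by_contra h1
      apply hζ (z 0 / z 1)
      field_simp
      simp only [R₂] at hz
      linear_combination hz
    have hz0 : z 0 = 0 := by
      simp only [R₂, hz1] at hz
      simpa using hz
    funext j; fin_cases j <;> simp [hz0, hz1]
  have hN1 : 2 ≤ Nat.card {z : Fin 2 → F // R₁ z = 0} := by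
    rw [Nat.card_eq_fintype_card]
    have hne : (⟨0, by simp [R₁]⟩ : {z : Fin 2 → F // R₁ z = 0}) ≠ ⟨Pi.single 0 1, by simp [R₁]⟩ := by
      intro h
      have := congrArg (fun z => z.1 0) h
      simp at this
    exact Fintype.one_lt_card_iff.mpr ⟨_, _, hne⟩
  rw [hN2] at hcard_le
  have hqpos : 0 < Fintype.card F ^ k := pow_pos Fintype.card_pos k
  nlinarith

end Cfsg.Agent.S2617
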