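import Cfsg.Statements.S2618
import Cfsg.Agent.Lib.Helper43.Witt

set_option autoImplicit false
open Cfsg

namespace Cfsg.Agent.S2618

open Module QuadraticMap Cfsg.Agent.Lib.Helper43

/-- Standard (parabolic) basis of a non-degenerate quadratic space of odd dimension 2m + 1 over a finite field (the non-degeneracy of the polar form forces the characteristic to be odd): there is a basis e_i, f_i (i < m), x with Q(e_i) = Q(f_i) = 0, B(e_i, f_j) = δ_ij (B the polar form), the e's pairwise orthogonal and the f's pairwise orthogonal, x orthogonal to all of them and Q(x) ≠ 0. -/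
theorem result {F V : Type*} [Field F] [Finite F] [AddCommGroup V] [Module F V] [FiniteDimensional F V] {m : ℕ} (hV : Module.finrank F V = 2 * m + 1) (Q : QuadraticForm F V) (hQ : (QuadraticMap.polarBilin Q).Nondegenerate) : ∃ b : Module.Basis (Unit ⊕ (Fin m ⊕ Fin m)) F V, Q (b (Sum.inl ())) ≠ 0 ∧ (∀ i, QuadraticMap.polar ⇑Q (b (Sum.inl ())) (b (Sum.inr (Sum.inl i))) = 0 ∧ QuadraticMap.polar ⇑Q (b (Sum.inl ())) (b (Sum.inr (Sum.inr i))) = 0) ∧ (∀ i, Q (b (Sum.inr (Sum.inl i))) = 0 ∧ Q (b (Sum.inr (Sum.inr i))) = 0) ∧ (∀ i j, QuadraticMap.polar ⇑Q (b (Sum.inr (Sum.inl i))) (b (Sum.inr (Sum.inr j))) = if i = j then 1 else 0) ∧ (∀ i j, QuadraticMap.polar ⇑Q (b (Sum.inr (Sum.inl i))) (b (Sum.inr (Sum.inl j))) = 0 ∧ QuadraticMap.polar ⇑Q (b (Sum.inr (Sum.inr i))) (b (Sum.inr (Sum.inr j))) = 0) := by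
  obtain ⟨k, e, f, W, h1, h2, h3, h4, h5, h6, h7, h8⟩ := witt_decomp (2 * m + 1) V Q hV hQ
  have hW1 : finrank F W = 1 := by omega
  have hk : k = m := by omega
  subst hk
  obtain ⟨x, hxW, hx0⟩ : ∃ x ∈ W, x ≠ 0 := by
    have : W ≠ ⊥ := by
      intro h
      rw [h, finrank_bot] at hW1
      omega
    exact Submodule.exists_mem_ne_zero_of_ne_bot this
  have hQx : Q x ≠ 0 := fun h => hx0 (h7 x hxW h)
  have hxx : polar Q x x ≠ 0 := by
    intro h
    apply hx0
    apply h8 x hxW
    intro w' hw'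
    have hx0' : (⟨x, hxW⟩ : W) ≠ 0 := by
      intro h0
      exact hx0 (congrArg Subtype.val h0)
    obtain ⟨c, hc⟩ := (finrank_eq_one_iff_of_nonzero' (⟨x, hxW⟩ : W) hx0').mp hW1 ⟨w', hw'⟩
    have hc' : c • x = w' := congrArg Subtype.val hc
    rw [← hc', polar_smul_right, h, smul_zero]
  have hfe : ∀ i j, polar Q (f i) (e j) = if i = j then 1 else 0 := by
    intro i j
    rw [polar_comm, h2 j i]
    simp [eq_comm]
  let v : Unit ⊕ (Fin k ⊕ Fin k) → V := Sum.elim (fun _ => x) (Sum.elim e f)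
  let u : Unit ⊕ (Fin k ⊕ Fin k) → V :=
    Sum.elim (fun _ => (polar Q x x)⁻¹ • x) (Sum.elim f e)
  have hdual : ∀ j l, polar Q (u j) (v l) = if j = l then 1 else 0 := by
    rintro (⟨⟩ | i | i) (⟨⟩ | j | j)
    · simp only [u, v, Sum.elim_inl]
      rw [polar_smul_left, smul_eq_mul, inv_mul_cancel₀ hxx]
      simp
    · simp only [u, v, Sum.elim_inl, Sum.elim_inr]
      rw [polar_smul_left, polar_comm (⇑Q) x (e j), (h4 x hxW j).1]
      simp
    · simp only [u, v, Sum.elim_inl, Sum.elim_inr]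
      rw [polar_smul_left, polar_comm (⇑Q) x (f j), (h4 x hxW j).2]
      simp
    · simp only [u, v, Sum.elim_inl, Sum.elim_inr]
      rw [(h4 x hxW i).2]
      simp
    · simp only [u, v, Sum.elim_inl, Sum.elim_inr]
      rw [hfe i j]
      simp
    · simp only [u, v, Sum.elim_inl, Sum.elim_inr]
      rw [(h3 i j).2]
      simp
    · simp only [u, v, Sum.elim_inl, Sum.elim_inr]
      rw [(h4 x hxW i).1]
      simp
    · simp only [u, v, Sum.elim_inl, Sum.elim_inr]
      rw [(h3 i j).1]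
      simp
    · simp only [u, v, Sum.elim_inl, Sum.elim_inr]
      rw [h2 i j]
      simp
  have hli : LinearIndependent F v := linearIndependent_of_dual Q v u hdual
  have hcard : Fintype.card (Unit ⊕ (Fin k ⊕ Fin k)) = finrank F V := by
    rw [hV]
    simp
    omega
  refine ⟨basisOfLinearIndependentOfCardEqFinrank hli hcard, ?_⟩
  rw [coe_basisOfLinearIndependentOfCardEqFinrank]
  refine ⟨hQx, fun i => ⟨?_, ?_⟩, fun i => h1 i, fun i j => h2 i j, fun i j => h3 i j⟩
  · show polar Q x (e i) = 0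
    rw [polar_comm]; exact (h4 x hxW i).1
  · show polar Q x (f i) = 0
    rw [polar_comm]; exact (h4 x hxW i).2

end Cfsg.Agent.S2618
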