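import Cfsg.Statements.S2619

set_option autoImplicit false
open Cfsg

namespace Cfsg.Agent.S2619

theorem result {F V ι : Type*} [Field F] [Finite F] [CharP F 2] [AddCommGroup V] [Module F V] [Fintype ι] (b : Module.Basis ι F V) (B : LinearMap.BilinForm F V) (hB : B.IsAlt) (c : ι → F) : ∃! Q : QuadraticForm F V, QuadraticMap.polarBilin Q = B ∧ ∀ i, Q (b i) = c i := by
  classical
  have h2 : (2 : F) = 0 := by
    have := CharP.cast_eq_zero F 2
    exact_mod_cast this
  have hself : ∀ a : F, a + a = 0 := fun a => by rw [← two_mul, h2, zero_mul]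
  have hsymm : ∀ x y, B x y = B y x := by
    intro x y
    have h := hB.neg_eq x y
    have h3 := hself (B x y)
    have : B x y = - B x y := eq_neg_of_add_eq_zero_left h3
    rw [this, h]
  obtain ⟨lo, _⟩ := exists_wellFoundedLT (α := ι)
  let M : Matrix ι ι F := fun i j => if i < j then B (b i) (b j) else if i = j then c i else 0
  let B' : LinearMap.BilinForm F V := Matrix.toBilin b M
  have hB' : ∀ i j, B' (b i) (b j) = M i j := by
    intro i j
    rw [← LinearMap.BilinForm.toMatrix_apply b B' i j, LinearMap.BilinForm.toMatrix_toBilin]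
  let Q : QuadraticForm F V := LinearMap.BilinMap.toQuadraticMap B'
  have hQpol : QuadraticMap.polarBilin Q = B := by
    apply b.ext
    intro i
    apply b.ext
    intro j
    rw [QuadraticMap.polarBilin_apply_apply, LinearMap.BilinMap.polar_toQuadraticMap, hB', hB']
    show (if i < j then B (b i) (b j) else if i = j then c i else 0) + (if j < i then B (b j) (b i) else if j = i then c j else 0) = B (b i) (b j)
    rcases lt_trichotomy i j with h | h | h
    · rw [if_pos h, if_neg (not_lt.mpr h.le), if_neg (ne_of_gt h), add_zero]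
    · subst h
      rw [if_neg (lt_irrefl _), if_pos rfl, hself, hB]
    · rw [if_neg (not_lt.mpr h.le), if_neg (ne_of_gt h), if_pos h, zero_add, hsymm]
  have hQb : ∀ i, Q (b i) = c i := by
    intro i
    show B' (b i) (b i) = c i
    rw [hB']
    show (if i < i then B (b i) (b i) else if i = i then c i else 0) = c i
    rw [if_neg (lt_irrefl _), if_pos rfl]
  refine ⟨Q, ⟨hQpol, hQb⟩, ?_⟩
  rintro Q' ⟨hQ'pol, hQ'b⟩
  -- the difference is additive
  have hadd : ∀ x y, Q' (x + y) - Q (x + y) = (Q' x - Q x) + (Q' y - Q y) := by
    intro x y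
    have h1 : QuadraticMap.polar Q' x y = QuadraticMap.polar Q x y := by
      rw [← QuadraticMap.polarBilin_apply_apply, ← QuadraticMap.polarBilin_apply_apply, hQ'pol, hQpol]
    unfold QuadraticMap.polar at h1
    linear_combination h1
  let D : V →+ F :=
    { toFun := fun v => Q' v - Q v
      map_zero' := by simp
      map_add' := hadd }
  have hD : ∀ v, D v = 0 := by
    intro v
    rw [← b.sum_repr v, map_sum]
    apply Finset.sum_eq_zero
    intro i _
    show Q' (b.repr v i • b i) - Q (b.repr v i • b i) = 0
    rw [QuadraticMap.map_smul, QuadraticMap.map_smul, hQ'b, hQb, sub_self]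
  ext v
  have := hD v
  exact sub_eq_zero.mp this

end Cfsg.Agent.S2619
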