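import Cfsg.Statements.S2620
import Cfsg.Agent.Lib.Helper43.Gram

set_option autoImplicit false
open Cfsg

namespace Cfsg.Agent.S2620

open Matrix in
theorem polar_plus_eq {F : Type*} [Field F] (m : ℕ) (u v : Fin m ⊕ Fin m → F) :
    QuadraticMap.polar (Cfsg.quadFormPlus m F) u v =
      Matrix.toBilin' (Matrix.fromBlocks (0 : Matrix (Fin m) (Fin m) F) (1 : Matrix (Fin m) (Fin m) F)
        (1 : Matrix (Fin m) (Fin m) F) (0 : Matrix (Fin m) (Fin m) F)) u v := by
  rw [Matrix.toBilin'_apply', Matrix.fromBlocks_mulVec]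
  unfold QuadraticMap.polar Cfsg.quadFormPlus dotProduct
  rw [Fintype.sum_sum_type]
  simp only [Sum.elim_inl, Sum.elim_inr, Matrix.zero_mulVec, Matrix.one_mulVec, zero_add, add_zero,
    Function.comp_apply, Pi.add_apply]
  rw [← Finset.sum_sub_distrib, ← Finset.sum_sub_distrib, ← Finset.sum_add_distrib]
  apply Finset.sum_congr rfl
  intro i _
  ring

theorem isSquare_neg_one_pow_iff {F : Type*} [Field F] [Fintype F] {q : ℕ} (hF : Fintype.card F = q) (hq : Odd q)
    (m : ℕ) : IsSquare ((-1 : F) ^ m) ↔ Even (m * (q - 1) / 2) := by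
  obtain ⟨j, hj⟩ := hq
  have e1 : m * (q - 1) / 2 = m * j := by
    have : q - 1 = 2 * j := by omega
    rw [this, show m * (2 * j) = 2 * (m * j) by ring, Nat.mul_div_cancel_left _ (by norm_num : 0 < 2)]
  rw [e1, Nat.even_mul]
  rcases Nat.even_or_odd m with hm | hm
  · rw [hm.neg_one_pow]
    simp [hm]
  · rw [hm.neg_one_pow, FiniteField.isSquare_neg_one_iff, hF]
    have hm' : ¬ Even m := Nat.not_even_iff_odd.mpr hm
    simp only [hm', false_or]
    rw [Nat.even_iff]
    omega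

theorem result {F : Type*} [Field F] [Fintype F] {q : ℕ} (hF : Fintype.card F = q) (hq : Odd q) {m : ℕ} (hm : 1 ≤ m) {ι : Type*} [Fintype ι] [DecidableEq ι] (b : Module.Basis ι F (Fin m ⊕ Fin m → F)) : IsSquare (Matrix.of (fun i j : ι => QuadraticMap.polar (Cfsg.quadFormPlus m F) (b i) (b j))).det ↔ Even (m * (q - 1) / 2) := by
  set H : Matrix (Fin m ⊕ Fin m) (Fin m ⊕ Fin m) F :=
    Matrix.fromBlocks (0 : Matrix (Fin m) (Fin m) F) (1 : Matrix (Fin m) (Fin m) F)
        (1 : Matrix (Fin m) (Fin m) F) (0 : Matrix (Fin m) (Fin m) F) with hH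
  have h1 : Matrix.of (fun i j : ι => QuadraticMap.polar (Cfsg.quadFormPlus m F) (b i) (b j)) =
      LinearMap.BilinForm.toMatrix b (Matrix.toBilin' H) := by
    ext i j
    rw [LinearMap.BilinForm.toMatrix_apply, Matrix.of_apply, polar_plus_eq]
  rw [h1, Cfsg.Agent.Lib.Helper43.isSquare_det_toMatrix_iff b (Pi.basisFun F (Fin m ⊕ Fin m)),
    LinearMap.BilinForm.toMatrix_basisFun, LinearMap.BilinForm.toMatrix'_toBilin', hH,
    Cfsg.Agent.Lib.Helper43.det_fromBlocks_zero_one_one_zero]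
  exact isSquare_neg_one_pow_iff hF hq m

end Cfsg.Agent.S2620
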