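import Cfsg.Statements.S2621
import Cfsg.Agent.S2620

set_option autoImplicit false
open Cfsg

namespace Cfsg.Agent.S2621

/-- The Gram matrix of the minus form. -/
def gramMinus {F : Type*} [Field F] (k : ℕ) (a c : F) :
    Matrix ((Fin k ⊕ Fin k) ⊕ Fin 2) ((Fin k ⊕ Fin k) ⊕ Fin 2) F :=
  Matrix.fromBlocks
    (Matrix.fromBlocks (0 : Matrix (Fin k) (Fin k) F) (1 : Matrix (Fin k) (Fin k) F)
        (1 : Matrix (Fin k) (Fin k) F) (0 : Matrix (Fin k) (Fin k) F))
    (0 : Matrix (Fin k ⊕ Fin k) (Fin 2) F) (0 : Matrix (Fin 2) (Fin k ⊕ Fin k) F)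
    (!![2, a; a, 2 * c] : Matrix (Fin 2) (Fin 2) F)

open Matrix in
theorem polar_minus_eq {F : Type*} [Field F] (k : ℕ) (a c : F) (u v : (Fin k ⊕ Fin k) ⊕ Fin 2 → F) :
    QuadraticMap.polar (Cfsg.quadFormMinus k F a c) u v =
      Matrix.toBilin' (gramMinus k a c) u v := by
  rw [Matrix.toBilin'_apply']
  unfold gramMinus
  rw [Matrix.fromBlocks_mulVec, Matrix.fromBlocks_mulVec]
  unfold QuadraticMap.polar Cfsg.quadFormMinus dotProduct
  rw [Fintype.sum_sum_type, Fintype.sum_sum_type]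
  simp only [Sum.elim_inl, Sum.elim_inr, Matrix.zero_mulVec, Matrix.one_mulVec, zero_add, add_zero,
    Function.comp_apply, Pi.add_apply, Fin.sum_univ_two, Matrix.mulVec, dotProduct, Matrix.of_apply,
    Matrix.cons_val', Matrix.cons_val_zero, Matrix.cons_val_one, Matrix.cons_val_fin_one]
  have e : ∀ (f g h : Fin k → F), (∑ i, f i + 0) - (∑ i, g i + 0) - (∑ i, h i + 0) = ∑ i, (f i - g i - h i) := by
    intro f g h
    rw [Finset.sum_sub_distrib, Finset.sum_sub_distrib]; ring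
  have e2 : ∀ (f g h : Fin k → F) (x y z : F), (∑ i, f i + x) - (∑ i, g i + y) - (∑ i, h i + z) = ∑ i, (f i - g i - h i) + (x - y - z) := by
    intro f g h x y z
    rw [Finset.sum_sub_distrib, Finset.sum_sub_distrib]; ring
  rw [e2, ← Finset.sum_add_distrib]
  congr 1
  · apply Finset.sum_congr rfl
    intro i _
    ring
  · ring

theorem result {F : Type*} [Field F] [Fintype F] {q : ℕ} (hF : Fintype.card F = q) (hq : Odd q) {m : ℕ} (hm : 1 ≤ m) (a c : F) (hac : ∀ z₁ z₂ : F, z₁ ^ 2 + a * z₁ * z₂ + c * z₂ ^ 2 = 0 → z₁ = 0 ∧ z₂ = 0) {ι : Type*} [Fintype ι] [DecidableEq ι] (b : Module.Basis ι F ((Fin (m - 1) ⊕ Fin (m - 1)) ⊕ Fin 2 → F)) : IsSquare (Matrix.of (fun i j : ι => QuadraticMap.polar (Cfsg.quadFormMinus (m - 1) F a c) (b i) (b j))).det ↔ ¬ Even (m * (q - 1) / 2) := by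
  classical
  have hchar : ringChar F ≠ 2 := by
    intro h
    have := FiniteField.even_card_of_char_two h
    rw [hF] at this
    rcases hq with ⟨j, hj⟩
    omega
  have h2 : (2 : F) ≠ 0 := Ring.two_ne_zero hchar
  set d : F := a * a - 4 * c with hd
  have hdns : ¬ IsSquare d := by
    rintro ⟨s, hs⟩
    have hz : (s - a) ^ 2 + a * (s - a) * 2 + c * 2 ^ 2 = 0 := by
      rw [hd] at hs
      linear_combination (-1 : F) * hs
    exact h2 (hac (s - a) 2 hz).2
  have h1 : Matrix.of (fun i j : ι => QuadraticMap.polar (Cfsg.quadFormMinus (m - 1) F a c) (b i) (b j)) =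
      LinearMap.BilinForm.toMatrix b (Matrix.toBilin' (gramMinus (m - 1) a c)) := by
    ext i j
    rw [LinearMap.BilinForm.toMatrix_apply, Matrix.of_apply, polar_minus_eq]
  have hdet : (gramMinus (m - 1) a c).det = (-1) ^ m * d := by
    unfold gramMinus
    rw [Matrix.det_fromBlocks_zero₂₁, Cfsg.Agent.Lib.Helper43.det_fromBlocks_zero_one_one_zero,
      Matrix.det_fin_two_of, hd]
    obtain ⟨k, rfl⟩ : ∃ k, m = k + 1 := ⟨m - 1, by omega⟩
    simp only [Nat.add_sub_cancel]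
    rw [pow_succ]; ring
  rw [h1, Cfsg.Agent.Lib.Helper43.isSquare_det_toMatrix_iff b (Pi.basisFun F _),
    LinearMap.BilinForm.toMatrix_basisFun, LinearMap.BilinForm.toMatrix'_toBilin', hdet,
    ← Cfsg.Agent.S2620.isSquare_neg_one_pow_iff hF hq m]
  have hx : ((-1 : F) ^ m) ≠ 0 := pow_ne_zero _ (by simp)
  have hd0 : d ≠ 0 := by
    intro h0
    apply hdns
    rw [h0]
    exact ⟨0, by simp⟩
  rw [← quadraticChar_one_iff_isSquare (mul_ne_zero hx hd0), ← quadraticChar_neg_one_iff_not_isSquare,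
    map_mul, (quadraticChar_neg_one_iff_not_isSquare).mpr hdns]
  constructor
  · intro h; linarith
  · intro h; rw [h]; norm_num

end Cfsg.Agent.S2621
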