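import Cfsg.Statements.S2622

set_option autoImplicit false
open Cfsg

namespace Cfsg.Agent.S2622

open Module LinearMap.BilinForm

section

variable {F : Type*} [Field F] [Finite F] [CharP F 2]

theorem two_eq_zero_F : (2 : F) = 0 := by
  have := CharP.cast_eq_zero F 2
  exact_mod_cast this

theorem add_self_F (a : F) : a + a = 0 := by rw [← two_mul, two_eq_zero_F, zero_mul]

theorem exists_sq_eq (a : F) : ∃ c : F, c * c = a := by
  have hring : ringChar F = 2 := ringChar.eq F 2
  have := Fintype.ofFinite F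
  obtain ⟨c, hc⟩ := FiniteField.isSquare_of_char_two hring a
  exact ⟨c, hc.symm⟩

variable {V : Type*} [AddCommGroup V] [Module F V] [FiniteDimensional F V]

theorem mem_orth_singleton (B : LinearMap.BilinForm F V) (x w : V) :
    w ∈ B.orthogonal (F ∙ x) ↔ B x w = 0 := by
  rw [LinearMap.BilinForm.mem_orthogonal_iff]
  constructor
  · intro h
    exact h x (Submodule.mem_span_singleton_self x)
  · intro h n hn
    obtain ⟨c, rfl⟩ := Submodule.mem_span_singleton.mp hn
    rw [map_smul, LinearMap.smul_apply, h, smul_zero]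

/-- A good first vector. -/
theorem exists_good (B : LinearMap.BilinForm F V) (hS : B.IsSymm) (hB : B.Nondegenerate)
    (hna : ∃ v : V, B v v ≠ 0) :
    ∃ v₁ : V, B v₁ v₁ = 1 ∧
      (finrank F (B.orthogonal (F ∙ v₁)) = 0 ∨ ∃ w ∈ B.orthogonal (F ∙ v₁), B w w ≠ 0) := by
  obtain ⟨v, hv⟩ := hna
  obtain ⟨c, hc⟩ := exists_sq_eq (F := F) (B v v)⁻¹
  set v' := c • v with hv'
  have hv'1 : B v' v' = 1 := by
    rw [hv']
    simp only [map_smul, LinearMap.smul_apply, smul_eq_mul]
    rw [← mul_assoc, hc, inv_mul_cancel₀ hv]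
  by_cases hcase : ∃ w ∈ B.orthogonal (F ∙ v'), B w w ≠ 0
  · exact ⟨v', hv'1, Or.inr hcase⟩
  push Not at hcase
  by_cases hW : finrank F (B.orthogonal (F ∙ v')) = 0
  · exact ⟨v', hv'1, Or.inl hW⟩
  -- pick nonzero e in W
  have hWne : B.orthogonal (F ∙ v') ≠ ⊥ := by
    intro h
    apply hW
    rw [h, finrank_bot]
  obtain ⟨e, heW, he0⟩ := Submodule.exists_mem_ne_zero_of_ne_bot hWne
  have hv'ne : B v' v' ≠ 0 := by rw [hv'1]; exact one_ne_zero
  have hnd := restrict_nondegenerate_orthogonal_spanSingleton B hB hS.isRefl hv'ne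
  have : ∃ f : B.orthogonal (F ∙ v'), B e f ≠ 0 := by
    by_contra h
    push Not at h
    have := hnd.1 ⟨e, heW⟩ (fun y => h y)
    exact he0 (congrArg Subtype.val this)
  obtain ⟨⟨f₀, hf₀W⟩, hef₀⟩ := this
  set f := (B e f₀)⁻¹ • f₀ with hf
  have hfW : f ∈ B.orthogonal (F ∙ v') := Submodule.smul_mem _ _ hf₀W
  have hef : B e f = 1 := by
    rw [hf, map_smul, smul_eq_mul, inv_mul_cancel₀ hef₀]
  have hv'e : B v' e = 0 := (mem_orth_singleton B v' e).mp heW
  have hv'f : B v' f = 0 := (mem_orth_singleton B v' f).mp hfW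
  have hev' : B e v' = 0 := by rw [← hS.eq]; simpa using hv'e
  have hfv' : B f v' = 0 := by rw [← hS.eq]; simpa using hv'f
  have hee : B e e = 0 := hcase e heW
  have hff : B f f = 0 := hcase f hfW
  refine ⟨v' + e, ?_, Or.inr ⟨v' + f, ?_, ?_⟩⟩
  · simp only [map_add, LinearMap.add_apply, hv'1, hv'e, hev', hee]; ring
  · rw [mem_orth_singleton]
    simp only [map_add, LinearMap.add_apply, hv'1, hv'f, hev', hef]
    have := add_self_F (1 : F)
    linear_combination this
  · simp only [map_add, LinearMap.add_apply, hv'1, hv'f, hfv', hff]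
    simp

end

universe u

theorem exists_orthonormal {F : Type*} [Field F] [Finite F] [CharP F 2] (d : ℕ) :
    ∀ (V : Type u) [AddCommGroup V] [Module F V] [FiniteDimensional F V] (B : LinearMap.BilinForm F V),
      finrank F V = d → B.IsSymm → B.Nondegenerate → (∃ v : V, B v v ≠ 0) →
      ∃ b : Basis (Fin d) F V, ∀ i j, B (b i) (b j) = if i = j then 1 else 0 := by
  induction d with
  | zero =>
    intro V _ _ _ B hd hS hB hna
    obtain ⟨v, hv⟩ := hna
    exfalso
    have hsub : Subsingleton V := finrank_zero_iff.mp hd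
    have : v = 0 := Subsingleton.elim v 0
    rw [this] at hv
    simp at hv
  | succ d ih =>
    intro V _ _ _ B hd hS hB hna
    obtain ⟨x, hx1, hx⟩ := exists_good B hS hB hna
    have hxne : B x x ≠ 0 := by rw [hx1]; exact one_ne_zero
    have hx0 : x ≠ 0 := by
      intro h
      rw [h] at hxne
      simp at hxne
    have hcompl := isCompl_span_singleton_orthogonal hxne
    have hdW : finrank F (B.orthogonal (F ∙ x)) = d := by
      have := Submodule.finrank_add_eq_of_isCompl hcompl.symm
      rw [finrank_span_singleton hx0] at this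
      omega
    have hnd := restrict_nondegenerate_orthogonal_spanSingleton B hB hS.isRefl hxne
    have hbW : ∃ v' : Basis (Fin d) F (B.orthogonal (F ∙ x)),
        ∀ i j, B (v' i) (v' j) = if i = j then 1 else 0 := by
      rcases hx with h0 | ⟨w, hwW, hww⟩
      · have hd0 : d = 0 := by omega
        subst hd0
        exact ⟨basisOfFinrankZero hdW, fun i => i.elim0⟩
      · obtain ⟨v', hv'⟩ := ih (B.orthogonal (F ∙ x)) (B.restrict (B.orthogonal (F ∙ x))) hdW
          (hS.restrict _) hnd ⟨⟨w, hwW⟩, hww⟩
        exact ⟨v', hv'⟩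
    obtain ⟨v', hv'⟩ := hbW
    let b :=
      Basis.mkFinCons x v'
        (by
          rintro c y hy hc
          rw [add_eq_zero_iff_neg_eq] at hc
          rw [← hc, Submodule.neg_mem_iff] at hy
          have := hcompl.disjoint
          rw [Submodule.disjoint_def] at this
          have := this (c • x) (Submodule.smul_mem _ _ <| Submodule.mem_span_singleton_self _) hy
          exact (smul_eq_zero.1 this).resolve_right hx0)
        (by
          intro y
          refine ⟨-B x y / B x x, fun z hz => ?_⟩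
          obtain ⟨c, rfl⟩ := Submodule.mem_span_singleton.1 hz
          rw [map_smul, LinearMap.smul_apply, map_add, map_smul, smul_eq_mul, smul_eq_mul,
            div_mul_cancel₀ _ hxne, add_neg_cancel, mul_zero])
    refine ⟨b, ?_⟩
    have hxv : ∀ j, B x (v' j) = 0 := fun j => (mem_orth_singleton B x _).mp (v' j).2
    have hvx : ∀ j, B (v' j) x = 0 := fun j => by rw [← hS.eq]; simpa using hxv j
    show ∀ i j, B ((b : Fin (d + 1) → V) i) ((b : Fin (d + 1) → V) j) = if i = j then 1 else 0
    rw [Basis.coe_mkFinCons]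
    intro i j
    refine Fin.cases ?_ (fun i => ?_) i <;> refine Fin.cases ?_ (fun j => ?_) j
    · simp [hx1]
    · simp only [Fin.cons_zero, Fin.cons_succ, Function.comp_apply]
      rw [hxv, if_neg (Fin.succ_ne_zero j).symm]
    · simp only [Fin.cons_zero, Fin.cons_succ, Function.comp_apply]
      rw [hvx, if_neg (Fin.succ_ne_zero i)]
    · simp only [Fin.cons_succ, Function.comp_apply, Fin.succ_inj]
      exact hv' i j

theorem result {F V : Type*} [Field F] [Finite F] [CharP F 2] [AddCommGroup V] [Module F V] [FiniteDimensional F V] {n : ℕ} (hV : Module.finrank F V = n) (B : LinearMap.BilinForm F V) (hS : B.IsSymm) (hB : B.Nondegenerate) (hna : ∃ v : V, B v v ≠ 0) : ∃ b : Module.Basis (Fin n) F V, ∀ i j, B (b i) (b j) = if i = j then 1 else 0 :=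
  exists_orthonormal n V B hV hS hB hna

end Cfsg.Agent.S2622
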