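import Cfsg.Statements.S2623
import Cfsg.Agent.Lib.Helper43.QForm

set_option autoImplicit false
open Cfsg

namespace Cfsg.Agent.S2623

open Cfsg.Agent.Lib.Helper43 Module QuadraticMap

theorem gram_eq {F : Type*} [Field F] {n : ℕ} (Q : QuadraticForm F (Fin n → F)) :
    Matrix.of (fun i j : Fin n => QuadraticMap.polar ⇑Q (Pi.single i 1) (Pi.single j 1)) =
      LinearMap.BilinForm.toMatrix (Pi.basisFun F (Fin n)) (polarBilin Q) := by
  ext i j
  rw [LinearMap.BilinForm.toMatrix_apply, Matrix.of_apply, Pi.basisFun_apply, Pi.basisFun_apply]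
  rfl

theorem result {F : Type*} [Field F] [Fintype F] (h2 : (2 : F) ≠ 0) {n : ℕ} (Q₁ Q₂ : QuadraticForm F (Fin n → F)) (h₁ : (QuadraticMap.polarBilin Q₁).Nondegenerate) (h₂ : (QuadraticMap.polarBilin Q₂).Nondegenerate) : (∃ g : (Fin n → F) ≃ₗ[F] (Fin n → F), ∀ v, Q₂ (g v) = Q₁ v) ↔ IsSquare ((Matrix.of (fun i j : Fin n => QuadraticMap.polar ⇑Q₁ (Pi.single i 1) (Pi.single j 1))).det * (Matrix.of (fun i j : Fin n => QuadraticMap.polar ⇑Q₂ (Pi.single i 1) (Pi.single j 1))).det) := by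
  classical
  rw [gram_eq, gram_eq]
  set c := Pi.basisFun F (Fin n) with hc
  constructor
  · rintro ⟨g, hg⟩
    have hpol : ∀ u v, polar Q₂ (g u) (g v) = polar Q₁ u v := by
      intro u v
      unfold polar
      rw [← map_add, hg, hg, hg]
    have hm : LinearMap.BilinForm.toMatrix c (polarBilin Q₁) =
        LinearMap.BilinForm.toMatrix (c.map g) (polarBilin Q₂) := by
      ext i j
      rw [LinearMap.BilinForm.toMatrix_apply, LinearMap.BilinForm.toMatrix_apply, Basis.map_apply,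
        Basis.map_apply]
      exact (hpol _ _).symm
    obtain ⟨d, hd0, hd⟩ := det_toMatrix_basis_change (c.map g) c (polarBilin Q₂)
    rw [hm, hd]
    exact ⟨d * (LinearMap.BilinForm.toMatrix c (polarBilin Q₂)).det, by ring⟩
  · rintro ⟨s, hs⟩
    rcases Nat.eq_zero_or_pos n with hn | hn
    · subst hn
      refine ⟨LinearEquiv.refl _ _, fun v => ?_⟩
      have : v = 0 := Subsingleton.elim _ _
      show Q₂ v = Q₁ v
      rw [this, QuadraticMap.map_zero, QuadraticMap.map_zero]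
    obtain ⟨k, rfl⟩ : ∃ k, n = k + 1 := ⟨n - 1, by omega⟩
    obtain ⟨b₁, i₁, ho₁, h1₁⟩ := exists_normal_basis_odd h2 k (Fin (k + 1) → F) Q₁ (by simp) h₁
    obtain ⟨b₂, i₂, ho₂, h1₂⟩ := exists_normal_basis_odd h2 k (Fin (k + 1) → F) Q₂ (by simp) h₂
    set d₁ := Q₁ (b₁ i₁) with hd₁
    set d₂ := Q₂ (b₂ i₂) with hd₂
    have hprod₁ : ∏ i, (2 * Q₁ (b₁ i)) = 2 ^ (k + 1) * d₁ := by
      rw [Finset.prod_mul_distrib, Finset.prod_const, Finset.card_univ, Fintype.card_fin]
      congr 1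
      rw [Finset.prod_eq_single i₁]
      · intro i _ hi
        exact h1₁ i hi
      · intro h; exact absurd (Finset.mem_univ _) h
    have hprod₂ : ∏ i, (2 * Q₂ (b₂ i)) = 2 ^ (k + 1) * d₂ := by
      rw [Finset.prod_mul_distrib, Finset.prod_const, Finset.card_univ, Fintype.card_fin]
      congr 1
      rw [Finset.prod_eq_single i₂]
      · intro i _ hi
        exact h1₂ i hi
      · intro h; exact absurd (Finset.mem_univ _) h
    obtain ⟨e₁, he₁0, he₁⟩ := det_toMatrix_basis_change c b₁ (polarBilin Q₁)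
    obtain ⟨e₂, he₂0, he₂⟩ := det_toMatrix_basis_change c b₂ (polarBilin Q₂)
    rw [det_toMatrix_of_ortho Q₁ b₁ ho₁, hprod₁] at he₁
    rw [det_toMatrix_of_ortho Q₂ b₂ ho₂, hprod₂] at he₂
    have hdet₁ : (LinearMap.BilinForm.toMatrix c (polarBilin Q₁)).det ≠ 0 :=
      (LinearMap.BilinForm.nondegenerate_iff_det_ne_zero c).mp h₁
    have hdet₂ : (LinearMap.BilinForm.toMatrix c (polarBilin Q₂)).det ≠ 0 :=
      (LinearMap.BilinForm.nondegenerate_iff_det_ne_zero c).mp h₂
    have hd₁0 : d₁ ≠ 0 := by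
      intro h0
      rw [h0, mul_zero, mul_zero] at he₁
      exact hdet₁ he₁
    have hd₂0 : d₂ ≠ 0 := by
      intro h0
      rw [h0, mul_zero, mul_zero] at he₂
      exact hdet₂ he₂
    have hpow : (2 : F) ^ (k + 1) ≠ 0 := pow_ne_zero _ h2
    rw [he₁, he₂] at hs
    have hs0 : s ≠ 0 := by
      intro h0
      rw [h0, mul_zero] at hs
      have : e₁ * e₁ * (2 ^ (k + 1) * d₁) * (e₂ * e₂ * (2 ^ (k + 1) * d₂)) ≠ 0 := by
        apply mul_ne_zero <;> apply mul_ne_zero <;> first | exact mul_ne_zero he₁0 he₁0 | exact mul_ne_zero he₂0 he₂0 | exact mul_ne_zero hpow hd₁0 | exact mul_ne_zero hpow hd₂0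
      exact this hs
    set r := s / (e₁ * e₂ * 2 ^ (k + 1) * d₂) with hr
    have hr0 : r ≠ 0 := by
      rw [hr]
      apply div_ne_zero hs0
      exact mul_ne_zero (mul_ne_zero (mul_ne_zero he₁0 he₂0) hpow) hd₂0
    have hrd : r * r * d₂ = d₁ := by
      rw [hr]
      field_simp
      linear_combination (-1 : F) * hs
    -- scaled basis
    let w : Fin (k + 1) → Fˣ := fun i => if i = i₂ then Units.mk0 r hr0 else 1
    let b₂' := b₂.unitsSMul w
    have hb₂'i₂ : b₂' i₂ = r • b₂ i₂ := by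
      rw [Basis.unitsSMul_apply]
      simp [w, Units.smul_def]
    have hb₂'ne : ∀ i, i ≠ i₂ → b₂' i = b₂ i := by
      intro i hi
      rw [Basis.unitsSMul_apply]
      simp [w, hi]
    have ho₂' : ∀ i j, i ≠ j → polar Q₂ (b₂' i) (b₂' j) = 0 := by
      intro i j hij
      rw [Basis.unitsSMul_apply, Basis.unitsSMul_apply, Units.smul_def, Units.smul_def, polar_smul_left,
        polar_smul_right, ho₂ i j hij]
      simp
    let σ : Fin (k + 1) ≃ Fin (k + 1) := Equiv.swap i₁ i₂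
    let g : (Fin (k + 1) → F) ≃ₗ[F] (Fin (k + 1) → F) := b₁.equiv b₂' σ
    refine ⟨g, fun v => ?_⟩
    have hv : v = ∑ i, b₁.repr v i • b₁ i := (b₁.sum_repr v).symm
    have hgv : g v = ∑ i, b₁.repr v i • b₂' (σ i) := by
      conv_lhs => rw [hv]
      rw [map_sum]
      apply Finset.sum_congr rfl
      intro i _
      rw [map_smul, Basis.equiv_apply]
    rw [hgv]
    conv_rhs => rw [hv]
    rw [map_sum_smul_of_ortho Q₁ b₁ ho₁, map_sum_smul_of_ortho Q₂ (fun i => b₂' (σ i))
      (fun i j hij => ho₂' _ _ (fun h => hij (σ.injective h)))]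
    apply Finset.sum_congr rfl
    intro i _
    congr 1
    by_cases hi : i = i₁
    · subst hi
      have : σ i = i₂ := Equiv.swap_apply_left _ _
      rw [this, hb₂'i₂, QuadraticMap.map_smul, smul_eq_mul, ← hd₂, hrd]
    · have hσ : σ i ≠ i₂ := by
        intro h
        apply hi
        have : σ i = σ i₁ := by rw [h]; exact (Equiv.swap_apply_left _ _).symm
        exact σ.injective this
      rw [hb₂'ne _ hσ, h1₂ _ hσ, h1₁ i hi]

end Cfsg.Agent.S2623
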