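import Cfsg.Statements.S2624
-- import your own Cfsg.Agent.* helpers here

set_option autoImplicit false
open Cfsg

namespace Cfsg.Agent.S2624

open Polynomial in
theorem exists_sq_add (F : Type*) [Field F] [Fintype F] (hodd : Fintype.card F % 2 = 1) (ρ c : F) (hρ : ρ ≠ 0) :
    ∃ s t : F, s ^ 2 + ρ * t ^ 2 = c := by
  have hf : degree (X ^ 2 - C c : F[X]) = 2 := degree_X_pow_sub_C (by norm_num) c
  have hg : degree (C ρ * X ^ 2 : F[X]) = 2 := by
    rw [degree_C_mul hρ, degree_X_pow]; rfl
  obtain ⟨a, b, hab⟩ := FiniteField.exists_root_sum_quadratic hf hg hodd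
  refine ⟨a, b, ?_⟩
  simp only [eval_sub, eval_pow, eval_X, eval_C, eval_mul] at hab
  linear_combination hab

/-- the block map -/
def blockMap {F : Type*} [Field F] {ι : Type*} (s t ρ : ι → F) : (ι × Fin 2 → F) →ₗ[F] (ι × Fin 2 → F) where
  toFun v p := if p.2 = 0 then s p.1 * v (p.1, 0) - ρ p.1 * t p.1 * v (p.1, 1) else t p.1 * v (p.1, 0) + s p.1 * v (p.1, 1)
  map_add' u v := by
    funext p
    simp only [Pi.add_apply]
    split_ifs <;> ring
  map_smul' a v := by
    funext p
    simp only [Pi.smul_apply, smul_eq_mul, RingHom.id_apply]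
    split_ifs <;> ring

theorem pairs {F : Type*} [Field F] [Fintype F] (hodd : Fintype.card F % 2 = 1) {ι : Type*} [Fintype ι]
    (w : ι × Fin 2 → Fˣ) (c : F) (hc : c ≠ 0) :
    ∃ g : (ι × Fin 2 → F) ≃ₗ[F] (ι × Fin 2 → F), ∀ v,
      QuadraticMap.weightedSumSquares F w (g v) = c * QuadraticMap.weightedSumSquares F w v := by
  classical
  have hex : ∀ j : ι, ∃ s t : F, s ^ 2 + ((w (j, 1) : F) / (w (j, 0) : F)) * t ^ 2 = c := fun j =>
    exists_sq_add F hodd _ c (div_ne_zero (w (j, 1)).ne_zero (w (j, 0)).ne_zero)
  choose s t hst using hex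
  set ρ : ι → F := fun j => (w (j, 1) : F) / (w (j, 0) : F) with hρ
  have hinj : Function.Injective (blockMap s t ρ) := by
    rw [← LinearMap.ker_eq_bot, LinearMap.ker_eq_bot']
    intro v hv
    funext p
    obtain ⟨j, i⟩ := p
    have h0 := congrFun hv (j, 0)
    have h1 := congrFun hv (j, 1)
    simp only [blockMap, LinearMap.coe_mk, AddHom.coe_mk, if_true, Pi.zero_apply] at h0 h1
    rw [if_neg (by decide)] at h1
    have hj := hst j
    have hx : c * v (j, 0) = 0 := by
      rw [← hj]; linear_combination (s j) * h0 + (ρ j * t j) * h1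
    have hy : c * v (j, 1) = 0 := by
      rw [← hj]; linear_combination (- t j) * h0 + (s j) * h1
    have hx' := (mul_eq_zero.1 hx).resolve_left hc
    have hy' := (mul_eq_zero.1 hy).resolve_left hc
    fin_cases i
    · exact hx'
    · exact hy'
  refine ⟨LinearEquiv.ofInjectiveEndo _ hinj, fun v => ?_⟩
  rw [LinearEquiv.coe_ofInjectiveEndo]
  simp only [QuadraticMap.weightedSumSquares_apply, Fintype.sum_prod_type, Fin.sum_univ_two, Finset.mul_sum]
  apply Finset.sum_congr rfl
  intro j _
  simp only [blockMap, LinearMap.coe_mk, AddHom.coe_mk, if_true]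
  rw [if_neg (by decide)]
  simp only [Units.smul_def, smul_eq_mul]
  have hj := hst j
  have ha : (w (j, 0) : F) ≠ 0 := (w (j, 0)).ne_zero
  have hb : (w (j, 1) : F) = ρ j * (w (j, 0) : F) := by
    simp only [hρ]; field_simp
  rw [hb, ← hj]
  ring


/-- For a quadratic form Q on F^n with non-degenerate polar form, F finite and n ≥ 2 even, every non-zero scalar c is the multiplier of some similarity: there is an invertible linear map g with Q(g v) = c·Q(v) for all v. -/
theorem result {F : Type*} [Field F] [Fintype F] {n : ℕ} (hn : 2 ≤ n) (he : Even n) (Q : QuadraticForm F (Fin n → F)) (hQ : (QuadraticMap.polarBilin Q).Nondegenerate) (c : F) (hc : c ≠ 0) : ∃ g : (Fin n → F) ≃ₗ[F] (Fin n → F), ∀ v, Q (g v) = c * Q v := by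
  classical
  by_cases h2 : (2 : F) = 0
  · -- characteristic two
    have hchar : ringChar F = 2 := by
      have : ringChar F ∣ 2 := (ringChar.spec F 2).1 (by exact_mod_cast h2)
      rcases (Nat.dvd_prime Nat.prime_two).1 this with h | h
      · exfalso
        have := CharP.ringChar_ne_one (R := F)
        exact this h
      · exact h
    obtain ⟨d, hd⟩ := FiniteField.isSquare_of_char_two hchar c
    have hd0 : d ≠ 0 := by rintro rfl; simp at hd; exact hc hd
    refine ⟨LinearEquiv.smulOfNeZero F _ d hd0, fun v => ?_⟩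
    rw [LinearEquiv.smulOfNeZero_apply, QuadraticMap.map_smul, hd, smul_eq_mul]
  · -- odd characteristic
    letI : Invertible (2 : F) := invertibleOfNonzero h2
    have hodd : Fintype.card F % 2 = 1 := by
      apply FiniteField.odd_card_of_char_ne_two
      intro hcon
      apply h2
      have h3 := ringChar.Nat.cast_ringChar (R := F)
      rw [hcon] at h3
      exact_mod_cast h3
    have hsep : (QuadraticMap.associated (R := F) Q).SeparatingLeft := by
      intro x hx
      apply hQ.1 x
      intro y
      have := hx y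
      rw [← QuadraticMap.two_nsmul_associated F]
      simp only [LinearMap.smul_apply, this, smul_zero]
    obtain ⟨w, ⟨e⟩⟩ := QuadraticForm.equivalent_weightedSumSquares_units_of_nondegenerate' Q hsep
    have hN : Module.finrank F (Fin n → F) = n := Module.finrank_fin_fun F
    obtain ⟨r, hr⟩ := he
    let σ : Fin (Module.finrank F (Fin n → F)) ≃ Fin r × Fin 2 :=
      (finCongr (by omega : Module.finrank F (Fin n → F) = r * 2)).trans finProdFinEquiv.symm
    obtain ⟨g', hg'⟩ := pairs hodd (fun p => w (σ.symm p)) c hc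
    let τ : (Fin r × Fin 2 → F) ≃ₗ[F] (Fin (Module.finrank F (Fin n → F)) → F) := LinearEquiv.funCongrLeft F F σ
    have hτ : ∀ u, QuadraticMap.weightedSumSquares F w (τ u) =
        QuadraticMap.weightedSumSquares F (fun p => w (σ.symm p)) u := by
      intro u
      simp only [QuadraticMap.weightedSumSquares_apply]
      rw [← Equiv.sum_comp σ.symm]
      apply Finset.sum_congr rfl
      intro p _
      simp [τ, LinearEquiv.funCongrLeft_apply, LinearMap.funLeft_apply]
    refine ⟨(e.toLinearEquiv.trans (τ.symm.trans (g'.trans τ))).trans e.toLinearEquiv.symm, fun v => ?_⟩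
    have he1 : ∀ x, QuadraticMap.weightedSumSquares F w (e x) = Q x := e.map_app
    have he2 : ∀ y, Q (e.toLinearEquiv.symm y) = QuadraticMap.weightedSumSquares F w y := by
      intro y
      rw [← he1]
      congr 1
      exact e.toLinearEquiv.apply_symm_apply y
    simp only [LinearEquiv.trans_apply]
    rw [he2, hτ, hg', ← hτ, LinearEquiv.apply_symm_apply]
    congr 1
    exact he1 v

end Cfsg.Agent.S2624
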