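import Cfsg.Statements.S2625
-- import your own Cfsg.Agent.* helpers here

set_option autoImplicit false
open Cfsg

namespace Cfsg.Agent.S2625

/-- For a quadratic form Q on F^n with non-degenerate polar form, F finite and n odd (so |F| is odd), the multiplier of any similarity is a square: if g is an invertible linear map with Q(g v) = c·Q(v) for all v then c is a square. -/
theorem result {F : Type*} [Field F] [Fintype F] {n : ℕ} (hn : Odd n) (Q : QuadraticForm F (Fin n → F)) (hQ : (QuadraticMap.polarBilin Q).Nondegenerate) (g : (Fin n → F) ≃ₗ[F] (Fin n → F)) (c : F) (hg : ∀ v, Q (g v) = c * Q v) : IsSquare c := by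
  classical
  set B := QuadraticMap.polarBilin Q with hB
  have hdet : (LinearMap.BilinForm.toMatrix' B).det ≠ 0 := by
    rw [← Matrix.nondegenerate_iff_det_ne_zero]
    exact LinearMap.BilinForm.nondegenerate_toMatrix'_iff.2 hQ
  have hcomp : LinearMap.BilinForm.comp B (g : (Fin n → F) →ₗ[F] (Fin n → F)) (g : (Fin n → F) →ₗ[F] (Fin n → F)) = c • B := by
    apply LinearMap.ext; intro u; apply LinearMap.ext; intro v
    simp only [LinearMap.BilinForm.comp_apply, LinearMap.smul_apply, smul_eq_mul]
    simp only [hB, QuadraticMap.polarBilin_apply_apply, QuadraticMap.polar]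
    simp only [LinearEquiv.coe_coe]
    rw [← map_add, hg, hg, hg]
    ring
  have hmat := congrArg LinearMap.BilinForm.toMatrix' hcomp
  rw [LinearMap.BilinForm.toMatrix'_comp, map_smul] at hmat
  have hd := congrArg Matrix.det hmat
  rw [Matrix.det_mul, Matrix.det_mul, Matrix.det_transpose, Matrix.det_smul, Fintype.card_fin] at hd
  have hc : (LinearMap.toMatrix' (g : (Fin n → F) →ₗ[F] (Fin n → F))).det ^ 2 = c ^ n := by
    apply mul_right_cancel₀ hdet
    rw [← hd]; ring
  obtain ⟨k, rfl⟩ := hn
  by_cases hc0 : c = 0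
  · exact ⟨0, by simp [hc0]⟩
  · refine ⟨(LinearMap.toMatrix' (g : (Fin (2 * k + 1) → F) →ₗ[F] (Fin (2 * k + 1) → F))).det / c ^ k, ?_⟩
    field_simp
    rw [hc]; ring

end Cfsg.Agent.S2625
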