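import Cfsg.Statements.S2626
-- import your own Cfsg.Agent.* helpers here

set_option autoImplicit false
open Cfsg

namespace Cfsg.Agent.S2626

open Matrix in
/-- block diagonal as a monoid hom on matrices -/
def blockDiagHom (k l : Type) [Fintype k] [Fintype l] [DecidableEq k] [DecidableEq l] (F : Type*) [CommRing F] :
    Matrix k k F × Matrix l l F →* Matrix (k ⊕ l) (k ⊕ l) F where
  toFun p := Matrix.fromBlocks p.1 0 0 p.2
  map_one' := Matrix.fromBlocks_one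
  map_mul' p q := by
    simp [Matrix.fromBlocks_multiply]

/-- block diagonal on GL -/
def blockDiagGL (k l : Type) [Fintype k] [Fintype l] [DecidableEq k] [DecidableEq l] (F : Type*) [CommRing F] :
    Matrix.GeneralLinearGroup k F × Matrix.GeneralLinearGroup l F →* Matrix.GeneralLinearGroup (k ⊕ l) F :=
  (Units.map (blockDiagHom k l F)).comp (MulEquiv.prodUnits.symm : _ ≃* _).toMonoidHom

theorem blockDiagGL_coe (k l : Type) [Fintype k] [Fintype l] [DecidableEq k] [DecidableEq l] (F : Type*) [CommRing F]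
    (p : Matrix.GeneralLinearGroup k F × Matrix.GeneralLinearGroup l F) :
    ((blockDiagGL k l F p : Matrix.GeneralLinearGroup (k ⊕ l) F) : Matrix (k ⊕ l) (k ⊕ l) F) =
      Matrix.fromBlocks (p.1 : Matrix k k F) 0 0 (p.2 : Matrix l l F) := by
  rfl


/-- Ω of an orthogonal direct sum contains the product of the Ω's: for quadratic forms Q₁ on F^k and Q₂ on F^l with non-degenerate polar forms (F finite) and Q = Q₁ ⊕ Q₂ on F^(k+l), if g₁ lies in Ω(Q₁) and g₂ in Ω(Q₂) (commutator subgroups of the orthogonal groups) then the block-diagonal isometry diag(g₁, g₂) lies in Ω(Q). -/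
theorem result {F : Type*} [Field F] [Fintype F] {k l : ℕ} (Q₁ : QuadraticForm F (Fin k → F)) (Q₂ : QuadraticForm F (Fin l → F)) (h₁ : (QuadraticMap.polarBilin Q₁).Nondegenerate) (h₂ : (QuadraticMap.polarBilin Q₂).Nondegenerate) (g₁ : ↥(Cfsg.isometryGroup F ⇑Q₁)) (g₂ : ↥(Cfsg.isometryGroup F ⇑Q₂)) (hg₁ : g₁ ∈ Cfsg.Omega F ⇑Q₁) (hg₂ : g₂ ∈ Cfsg.Omega F ⇑Q₂) : ∃ g : ↥(Cfsg.isometryGroup F (fun v : Fin k ⊕ Fin l → F => Q₁ (v ∘ Sum.inl) + Q₂ (v ∘ Sum.inr))), g ∈ Cfsg.Omega F (fun v : Fin k ⊕ Fin l → F => Q₁ (v ∘ Sum.inl) + Q₂ (v ∘ Sum.inr)) ∧ ((g : Matrix.GeneralLinearGroup (Fin k ⊕ Fin l) F) : Matrix (Fin k ⊕ Fin l) (Fin k ⊕ Fin l) F) = Matrix.fromBlocks ((g₁ : Matrix.GeneralLinearGroup (Fin k) F) : Matrix (Fin k) (Fin k) F) 0 0 ((g₂ : Matrix.GeneralLinearGroup (Fin l) F) : Matrix (Fin l) (Fin l) F) := by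
  classical
  set Q : (Fin k ⊕ Fin l → F) → F := fun v => Q₁ (v ∘ Sum.inl) + Q₂ (v ∘ Sum.inr) with hQdef
  have hmem : ∀ p : ↥(Cfsg.isometryGroup F ⇑Q₁) × ↥(Cfsg.isometryGroup F ⇑Q₂),
      blockDiagGL (Fin k) (Fin l) F (p.1.1, p.2.1) ∈ Cfsg.isometryGroup F Q := by
    intro p u v
    simp only [Units.coeHom_apply]
    rw [blockDiagGL_coe, Matrix.fromBlocks_mulVec]
    simp only [Matrix.zero_mulVec, add_zero, zero_add, hQdef]
    have h1 := p.1.2 (u ∘ Sum.inl) (u ∘ Sum.inl)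
    have h2 := p.2.2 (u ∘ Sum.inr) (u ∘ Sum.inr)
    simp only [Units.coeHom_apply] at h1 h2
    have e1 : (Sum.elim ((p.1.1 : Matrix (Fin k) (Fin k) F).mulVec (u ∘ Sum.inl)) ((p.2.1 : Matrix (Fin l) (Fin l) F).mulVec (u ∘ Sum.inr))) ∘ Sum.inl = (p.1.1 : Matrix (Fin k) (Fin k) F).mulVec (u ∘ Sum.inl) := rfl
    have e2 : (Sum.elim ((p.1.1 : Matrix (Fin k) (Fin k) F).mulVec (u ∘ Sum.inl)) ((p.2.1 : Matrix (Fin l) (Fin l) F).mulVec (u ∘ Sum.inr))) ∘ Sum.inr = (p.2.1 : Matrix (Fin l) (Fin l) F).mulVec (u ∘ Sum.inr) := rfl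
    rw [e1, e2, h1, h2]
  let φ : ↥(Cfsg.isometryGroup F ⇑Q₁) × ↥(Cfsg.isometryGroup F ⇑Q₂) →* ↥(Cfsg.isometryGroup F Q) :=
    ((blockDiagGL (Fin k) (Fin l) F).comp
      (MonoidHom.prodMap (Cfsg.isometryGroup F ⇑Q₁).subtype (Cfsg.isometryGroup F ⇑Q₂).subtype)).codRestrict
      (Cfsg.isometryGroup F Q) hmem
  refine ⟨φ (g₁, g₂), ?_, rfl⟩
  have h12 : (g₁, g₂) ∈ commutator (↥(Cfsg.isometryGroup F ⇑Q₁) × ↥(Cfsg.isometryGroup F ⇑Q₂)) := by
    rw [commutator_def, ← Subgroup.top_prod_top, Subgroup.commutator_prod_prod]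
    exact ⟨hg₁, hg₂⟩
  have h3 : (commutator (↥(Cfsg.isometryGroup F ⇑Q₁) × ↥(Cfsg.isometryGroup F ⇑Q₂))).map φ ≤ commutator ↥(Cfsg.isometryGroup F Q) := by
    rw [commutator_def, Subgroup.map_commutator, commutator_def]
    exact Subgroup.commutator_mono le_top le_top
  exact h3 (Subgroup.mem_map_of_mem φ h12)

end Cfsg.Agent.S2626
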