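import Cfsg.Statements.S2627
import Cfsg.Agent.Lib.Helper37.OrthSum
import Cfsg.Agent.Lib.Helper37.LeviPlus

set_option autoImplicit false
open Cfsg

namespace Cfsg.Agent.S2627

open Cfsg.Agent.Lib.Helper37 Cfsg.Agent.Lib.Helper8 Matrix Module

variable {F : Type*} [Field F]

theorem map_mem_commutator {G H : Type*} [Group G] [Group H] (f : G →* H) (g : G)
    (hg : g ∈ commutator G) : f g ∈ commutator H := by
  have h1 : f g ∈ (commutator G).map f := Subgroup.mem_map_of_mem f hg
  rw [commutator_def, Subgroup.map_commutator] at h1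
  rw [commutator_def]
  exact Subgroup.commutator_mono le_top le_top h1

theorem dicksonPar_block {k l : ℕ} (Q₁ : QuadraticForm F (Fin k → F))
    (Q₂ : QuadraticForm F (Fin l → F)) (g₁ : ↥(Cfsg.isometryGroup F ⇑Q₁)) :
    dicksonPar (sumForm Q₁ Q₂) (blockO Q₁ Q₂ (g₁, 1)) = dicksonPar Q₁ g₁ := by
  unfold dicksonPar
  rw [blockO_val]
  have h1 : (((1 : ↥(Cfsg.isometryGroup F ⇑Q₂)) : GL (Fin l) F) : Matrix (Fin l) (Fin l) F) = 1 := rfl
  rw [h1, finrank_fixSub_fromBlocks, finrank_fixSub_one, Module.finrank_fintype_fun_eq_card,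
    Module.finrank_fintype_fun_eq_card, Fintype.card_sum, Fintype.card_fin, Fintype.card_fin]
  push_cast
  have h2 : ((l : ZMod 2) + l) = 0 := by
    have : ∀ a : ZMod 2, a + a = 0 := by decide
    exact this _
  linear_combination h2


/-- For an orthogonal direct sum Q = Q₁ ⊕ Q₂ of quadratic forms with non-degenerate polar forms over a finite field, an isometry g₁ of Q₁ extended by the identity on the second summand lies in Ω(Q) (the commutator subgroup of the orthogonal group of Q) if and only if g₁ lies in Ω(Q₁). (Excluded: the field of two elements when the first summand or the whole space has dimension 4, where the commutator subgroup of O⁺₄(2) is smaller than the group usually called Ω.) -/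
theorem result {F : Type*} [Field F] [Fintype F] {k l : ℕ} (h : Fintype.card F ≠ 2 ∨ (k ≠ 4 ∧ k + l ≠ 4)) (Q₁ : QuadraticForm F (Fin k → F)) (Q₂ : QuadraticForm F (Fin l → F)) (h₁ : (QuadraticMap.polarBilin Q₁).Nondegenerate) (h₂ : (QuadraticMap.polarBilin Q₂).Nondegenerate) (g₁ : ↥(Cfsg.isometryGroup F ⇑Q₁)) : (∃ g : ↥(Cfsg.isometryGroup F (fun v : Fin k ⊕ Fin l → F => Q₁ (v ∘ Sum.inl) + Q₂ (v ∘ Sum.inr))), g ∈ Cfsg.Omega F (fun v : Fin k ⊕ Fin l → F => Q₁ (v ∘ Sum.inl) + Q₂ (v ∘ Sum.inr)) ∧ ((g : Matrix.GeneralLinearGroup (Fin k ⊕ Fin l) F) : Matrix (Fin k ⊕ Fin l) (Fin k ⊕ Fin l) F) = Matrix.fromBlocks ((g₁ : Matrix.GeneralLinearGroup (Fin k) F) : Matrix (Fin k) (Fin k) F) 0 0 1) ↔ g₁ ∈ Cfsg.Omega F ⇑Q₁ := by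
  classical
  change (∃ g : ↥(Cfsg.isometryGroup F ⇑(sumForm Q₁ Q₂)), g ∈ Cfsg.Omega F ⇑(sumForm Q₁ Q₂) ∧
    ((g : Matrix.GeneralLinearGroup (Fin k ⊕ Fin l) F) : Matrix (Fin k ⊕ Fin l) (Fin k ⊕ Fin l) F)
      = Matrix.fromBlocks ((g₁ : Matrix.GeneralLinearGroup (Fin k) F) : Matrix (Fin k) (Fin k) F)
        0 0 1) ↔ g₁ ∈ Cfsg.Omega F ⇑Q₁
  have hL : (∃ g : ↥(Cfsg.isometryGroup F ⇑(sumForm Q₁ Q₂)), g ∈ Cfsg.Omega F ⇑(sumForm Q₁ Q₂) ∧
      ((g : Matrix.GeneralLinearGroup (Fin k ⊕ Fin l) F) :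
        Matrix (Fin k ⊕ Fin l) (Fin k ⊕ Fin l) F)
      = Matrix.fromBlocks ((g₁ : Matrix.GeneralLinearGroup (Fin k) F) : Matrix (Fin k) (Fin k) F)
        0 0 1) ↔ blockO Q₁ Q₂ (g₁, 1) ∈ Cfsg.Omega F ⇑(sumForm Q₁ Q₂) := by
    constructor
    · rintro ⟨g, hg, hmat⟩
      have hgA : g = blockO Q₁ Q₂ (g₁, 1) := by
        apply Subtype.ext
        apply Units.ext
        rw [hmat, blockO_val]
        rfl
      rwa [← hgA]
    · intro hmem
      exact ⟨_, hmem, by rw [blockO_val]; rfl⟩
  rw [hL]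
  constructor
  · intro hmem
    by_cases h2 : (2 : F) = 0
    · by_cases hex : ∃ v, Q₁ v ≠ 0
      · obtain ⟨v₁, hv₁⟩ := hex
        have hcs : Fintype.card F ≠ 2 ∨ finrank F (Fin k ⊕ Fin l → F) ≠ 4 := by
          rcases h with h | h
          · exact Or.inl h
          · right
            rw [Module.finrank_fintype_fun_eq_card, Fintype.card_sum, Fintype.card_fin,
              Fintype.card_fin]
            exact h.2
        have hc1 : Fintype.card F ≠ 2 ∨ finrank F (Fin k → F) ≠ 4 := by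
          rcases h with h | h
          · exact Or.inl h
          · right
            rw [Module.finrank_fintype_fun_eq_card, Fintype.card_fin]
            exact h.1
        have hexs : ∃ v, sumForm Q₁ Q₂ v ≠ 0 := by
          refine ⟨Sum.elim v₁ 0, ?_⟩
          rw [sumForm_apply]
          have hz : (Sum.elim v₁ (0 : Fin l → F)) ∘ Sum.inr = 0 := rfl
          have hy : (Sum.elim v₁ (0 : Fin l → F)) ∘ Sum.inl = v₁ := rfl
          rw [hz, hy, map_zero, add_zero]
          exact hv₁
        rw [mem_omega_iff_dicksonPar h2 _ (sumForm_nondegenerate Q₁ Q₂ h₁ h₂) hcs hexs,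
          dicksonPar_block] at hmem
        rw [mem_omega_iff_dicksonPar h2 Q₁ h₁ hc1 ⟨v₁, hv₁⟩]
        exact hmem
      · push Not at hex
        have hall : ∀ x : Fin k → F, x = 0 := by
          intro x
          apply h₁.1
          intro y
          simp [QuadraticMap.polarBilin_apply_apply, QuadraticMap.polar, hex]
        have hg1 : g₁ = 1 := by
          apply Subtype.ext
          apply gl_ext_mulVec
          intro v
          rw [hall v]
          simp
        rw [hg1]
        exact one_mem _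
    · have hG₁ := isGram_of_quadraticForm h2 Q₁
      have hdet₁ := det_ne_zero_of_nondegenerate Q₁ h₁
      have hGs := isGram_of_quadraticForm h2 (sumForm Q₁ Q₂)
      obtain ⟨vs, hvs, hmat⟩ := hG₁.cartan_dieudonne hdet₁ g₁
      have hQemb : ∀ v : Fin k → F, sumForm Q₁ Q₂ (Sum.elim v 0) = Q₁ v := by
        intro v
        rw [sumForm_apply]
        have hz : (Sum.elim v (0 : Fin l → F)) ∘ Sum.inr = 0 := rfl
        have hy : (Sum.elim v (0 : Fin l → F)) ∘ Sum.inl = v := rfl
        rw [hz, hy, map_zero, add_zero]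
      have hiff := mem_omega_iff hGs (blockO Q₁ Q₂ (g₁, 1))
        (vs.map (fun v => (Sum.elim v 0 : Fin k ⊕ Fin l → F)))
        (by
          intro w hw
          rw [List.mem_map] at hw
          obtain ⟨v, hv, rfl⟩ := hw
          rw [hQemb]
          exact hvs v hv)
        (by
          rw [refl_inl_list, blockO_val, ← hmat]
          rfl)
      have h3 := hiff.mp hmem
      rw [List.length_map, List.map_map] at h3
      have h4 : ((fun v => (sumForm Q₁ Q₂) v) ∘ fun v => (Sum.elim v 0 : Fin k ⊕ Fin l → F))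
          = fun v => Q₁ v := by
        funext v
        exact hQemb v
      rw [h4] at h3
      exact (mem_omega_iff hG₁ g₁ vs hvs hmat).mpr h3
  · intro hmem
    exact map_mem_commutator ((blockO Q₁ Q₂).comp (MonoidHom.inl _ _)) g₁ hmem

end Cfsg.Agent.S2627
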