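import Cfsg.Statements.S2628
import Cfsg.Agent.Lib.Helper37.OrthSum
import Cfsg.Agent.Lib.Helper37.LeviPlus

set_option autoImplicit false
open Cfsg

namespace Cfsg.Agent.S2628

open Cfsg.Agent.Lib.Helper37 Cfsg.Agent.Lib.Helper8 Matrix Module

variable {F : Type*} [Field F]

variable {ι₁ ι₂ : Type} [Fintype ι₁] [DecidableEq ι₁] [Fintype ι₂] [DecidableEq ι₂]

/-- embedding of a reflection of the second summand -/
theorem refl_inr (Q₁ : QuadraticForm F (ι₁ → F)) (Q₂ : QuadraticForm F (ι₂ → F)) (v : ι₂ → F) :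
    Cfsg.reflectionMatrix ⇑(sumForm Q₁ Q₂) (Sum.elim 0 v)
      = fromBlocks 1 0 0 (Cfsg.reflectionMatrix ⇑Q₂ v) := by
  apply Matrix.mulVec_injective
  funext x
  rw [Cfsg.Agent.Lib.Helper13.reflectionMatrix_mulVec, fromBlocks_mulVec,
    Cfsg.Agent.Lib.Helper13.reflectionMatrix_mulVec, polar_sumForm, sumForm_apply]
  have hz : (Sum.elim (0 : ι₁ → F) v) ∘ Sum.inl = 0 := rfl
  have hy : (Sum.elim (0 : ι₁ → F) v) ∘ Sum.inr = v := rfl
  rw [hz, hy, QuadraticMap.polar_zero_left, map_zero, zero_add, zero_add]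
  funext j
  rcases j with j | j <;> simp

theorem refl_inr_list (Q₁ : QuadraticForm F (ι₁ → F)) (Q₂ : QuadraticForm F (ι₂ → F))
    (vs : List (ι₂ → F)) :
    ((vs.map (fun v => (Sum.elim 0 v : ι₁ ⊕ ι₂ → F))).map
        (fun w => Cfsg.reflectionMatrix ⇑(sumForm Q₁ Q₂) w)).prod
      = fromBlocks 1 0 0 ((vs.map (fun v => Cfsg.reflectionMatrix ⇑Q₂ v)).prod) := by
  induction vs with
  | nil => simp
  | cons a l ih =>
    rw [List.map_cons, List.map_cons, List.prod_cons, ih, refl_inr, fromBlocks_multiply,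
      List.map_cons, List.prod_cons]
    simp

theorem dicksonPar_diag {k : ℕ} (Q : QuadraticForm F (Fin k → F))
    (g : ↥(Cfsg.isometryGroup F ⇑Q)) :
    dicksonPar (sumForm Q Q) (blockO Q Q (g, g)) = 0 := by
  unfold dicksonPar
  rw [blockO_val, finrank_fixSub_fromBlocks, Module.finrank_fintype_fun_eq_card,
    Fintype.card_sum, Fintype.card_fin]
  push_cast
  have h2 : ∀ a b : ZMod 2, a + a + (b + b) = 0 := by decide
  exact h2 _ _

/-- For the orthogonal direct sum Q ⊕ Q of two copies of a quadratic form Q with non-degenerate polar form on F^k (F finite), every isometry g of Q acting diagonally, diag(g, g), lies in Ω(Q ⊕ Q), the commutator subgroup of the orthogonal group of Q ⊕ Q. (Excluded: k = 2 over the field of two elements, where Q ⊕ Q is the hyperbolic 4-space whose orthogonal group's commutator subgroup is smaller than the group usually called Ω.) -/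
theorem result {F : Type*} [Field F] [Fintype F] {k : ℕ} (h : Fintype.card F ≠ 2 ∨ k ≠ 2) (Q : QuadraticForm F (Fin k → F)) (hQ : (QuadraticMap.polarBilin Q).Nondegenerate) (g : ↥(Cfsg.isometryGroup F ⇑Q)) : ∃ x : ↥(Cfsg.isometryGroup F (fun v : Fin k ⊕ Fin k → F => Q (v ∘ Sum.inl) + Q (v ∘ Sum.inr))), x ∈ Cfsg.Omega F (fun v : Fin k ⊕ Fin k → F => Q (v ∘ Sum.inl) + Q (v ∘ Sum.inr)) ∧ ((x : Matrix.GeneralLinearGroup (Fin k ⊕ Fin k) F) : Matrix (Fin k ⊕ Fin k) (Fin k ⊕ Fin k) F) = Matrix.fromBlocks ((g : Matrix.GeneralLinearGroup (Fin k) F) : Matrix (Fin k) (Fin k) F) 0 0 ((g : Matrix.GeneralLinearGroup (Fin k) F) : Matrix (Fin k) (Fin k) F) := by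
  classical
  change ∃ x : ↥(Cfsg.isometryGroup F ⇑(sumForm Q Q)), x ∈ Cfsg.Omega F ⇑(sumForm Q Q) ∧
    ((x : Matrix.GeneralLinearGroup (Fin k ⊕ Fin k) F) : Matrix (Fin k ⊕ Fin k) (Fin k ⊕ Fin k) F)
      = Matrix.fromBlocks ((g : Matrix.GeneralLinearGroup (Fin k) F) : Matrix (Fin k) (Fin k) F) 0 0
        ((g : Matrix.GeneralLinearGroup (Fin k) F) : Matrix (Fin k) (Fin k) F)
  refine ⟨blockO Q Q (g, g), ?_, blockO_val Q Q g g⟩
  by_cases h2 : (2 : F) = 0
  · by_cases hex : ∃ v, Q v ≠ 0
    · obtain ⟨v₁, hv₁⟩ := hex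
      have hcs : Fintype.card F ≠ 2 ∨ finrank F (Fin k ⊕ Fin k → F) ≠ 4 := by
        rcases h with h | h
        · exact Or.inl h
        · right
          rw [Module.finrank_fintype_fun_eq_card, Fintype.card_sum, Fintype.card_fin]
          omega
      have hexs : ∃ v, sumForm Q Q v ≠ 0 := by
        refine ⟨Sum.elim v₁ 0, ?_⟩
        rw [sumForm_apply]
        have hz : (Sum.elim v₁ (0 : Fin k → F)) ∘ Sum.inr = 0 := rfl
        have hy : (Sum.elim v₁ (0 : Fin k → F)) ∘ Sum.inl = v₁ := rfl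
        rw [hz, hy, map_zero, add_zero]
        exact hv₁
      rw [mem_omega_iff_dicksonPar h2 _ (sumForm_nondegenerate Q Q hQ hQ) hcs hexs]
      exact dicksonPar_diag Q g
    · push Not at hex
      have hall : ∀ x : Fin k → F, x = 0 := by
        intro x
        apply hQ.1
        intro y
        simp [QuadraticMap.polarBilin_apply_apply, QuadraticMap.polar, hex]
      have hg1 : g = 1 := by
        apply Subtype.ext
        apply gl_ext_mulVec
        intro v
        rw [hall v]
        simp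
      rw [hg1]
      have : ((1 : ↥(Cfsg.isometryGroup F ⇑Q)), (1 : ↥(Cfsg.isometryGroup F ⇑Q)))
          = (1 : ↥(Cfsg.isometryGroup F ⇑Q) × ↥(Cfsg.isometryGroup F ⇑Q)) := rfl
      rw [this, map_one]
      exact one_mem _
  · have hG := isGram_of_quadraticForm h2 Q
    have hdet := det_ne_zero_of_nondegenerate Q hQ
    have hGs := isGram_of_quadraticForm h2 (sumForm Q Q)
    obtain ⟨vs, hvs, hmat⟩ := hG.cartan_dieudonne hdet g
    have hQl : ∀ v : Fin k → F, sumForm Q Q (Sum.elim v 0) = Q v := by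
      intro v
      rw [sumForm_apply]
      have hz : (Sum.elim v (0 : Fin k → F)) ∘ Sum.inr = 0 := rfl
      have hy : (Sum.elim v (0 : Fin k → F)) ∘ Sum.inl = v := rfl
      rw [hz, hy, map_zero, add_zero]
    have hQr : ∀ v : Fin k → F, sumForm Q Q (Sum.elim 0 v) = Q v := by
      intro v
      rw [sumForm_apply]
      have hz : (Sum.elim (0 : Fin k → F) v) ∘ Sum.inl = 0 := rfl
      have hy : (Sum.elim (0 : Fin k → F) v) ∘ Sum.inr = v := rfl
      rw [hz, hy, map_zero, zero_add]
    have hiff := mem_omega_iff hGs (blockO Q Q (g, g))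
      (vs.map (fun v => (Sum.elim v 0 : Fin k ⊕ Fin k → F))
        ++ vs.map (fun v => (Sum.elim 0 v : Fin k ⊕ Fin k → F)))
      (by
        intro w hw
        rw [List.mem_append, List.mem_map, List.mem_map] at hw
        rcases hw with ⟨v, hv, rfl⟩ | ⟨v, hv, rfl⟩
        · rw [hQl]; exact hvs v hv
        · rw [hQr]; exact hvs v hv)
      (by
        rw [List.map_append, List.prod_append, refl_inl_list, refl_inr_list, blockO_val,
          fromBlocks_multiply, ← hmat]
        simp
        rfl)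
    rw [hiff]
    refine ⟨?_, ?_⟩
    · rw [List.length_append, List.length_map, List.length_map]
      exact ⟨_, rfl⟩
    · rw [List.map_append, List.prod_append, List.map_map, List.map_map]
      have h4 : ((fun v => (sumForm Q Q) v) ∘ fun v => (Sum.elim v 0 : Fin k ⊕ Fin k → F))
          = fun v => Q v := by
        funext v
        exact hQl v
      have h5 : ((fun v => (sumForm Q Q) v) ∘ fun v => (Sum.elim 0 v : Fin k ⊕ Fin k → F))
          = fun v => Q v := by
        funext v
        exact hQr v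
      rw [h4, h5]
      exact ⟨_, rfl⟩

end Cfsg.Agent.S2628
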