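import Cfsg.Statements.S2634
import Cfsg.Agent.Lib.Helper37.OrthSum

set_option autoImplicit false
open Cfsg

namespace Cfsg.Agent.S2634

open Cfsg.Agent.Lib.Helper37 Cfsg.Agent.Lib.Helper8 Cfsg.Agent.Lib.Helper13 Matrix Module

/-- Over a finite field of characteristic two, Ω (the commutator subgroup of the orthogonal group of a quadratic form Q on F^n with non-degenerate polar form; excluding dimension 4 over the field of two elements) acts transitively on the non-singular 1-spaces: for u, v with Q(u) ≠ 0 and Q(v) ≠ 0 some element of Ω carries the line through u to the line through v. -/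
theorem result {F : Type*} [Field F] [Fintype F] [CharP F 2] {n : ℕ} (h : Fintype.card F ≠ 2 ∨ n ≠ 4) (Q : QuadraticForm F (Fin n → F)) (hQ : (QuadraticMap.polarBilin Q).Nondegenerate) (u v : Fin n → F) (hu : Q u ≠ 0) (hv : Q v ≠ 0) : ∃ g : ↥(Cfsg.isometryGroup F ⇑Q), g ∈ Cfsg.Omega F ⇑Q ∧ (F ∙ ((g : Matrix.GeneralLinearGroup (Fin n) F) : Matrix (Fin n) (Fin n) F).mulVec u) = F ∙ v := by
  have h2 : (2 : F) = 0 := by
    have := CharP.cast_eq_zero F 2
    exact_mod_cast this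
  have hcard : Fintype.card F ≠ 2 ∨ finrank F (Fin n → F) ≠ 4 := by
    rcases h with h | h
    · exact Or.inl h
    · right
      rw [Module.finrank_fintype_fun_eq_card, Fintype.card_fin]
      exact h
  have hgen := closure_reflSet_eq_top' Q hQ hcard
  obtain ⟨c, hc⟩ := exists_sq_char2 h2 (Q v * (Q u)⁻¹)
  have hc0 : c ≠ 0 := by
    rintro rfl
    rw [mul_zero] at hc
    exact mul_ne_zero hv (inv_ne_zero hu) hc.symm
  have hQcu : Q (c • u) = Q v := by
    rw [QuadraticMap.map_smul, hc, smul_eq_mul, mul_assoc, inv_mul_cancel₀ hu, mul_one]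
  obtain ⟨ρ, hρ, hρv⟩ := char2_trans h2 Q hQ hcard (c • u) v hv hQcu
  have hρG : ρ ∈ Cfsg.isometryGroup F ⇑Q := (Subgroup.closure_le _).2 (reflSetGL_subset Q) hρ
  have hρu : (ρ : Matrix (Fin n) (Fin n) F) *ᵥ u = c⁻¹ • v := by
    rw [Matrix.mulVec_smul] at hρv
    rw [← hρv, smul_smul, inv_mul_cancel₀ hc0, one_smul]
  by_cases hpar : dicksonPar Q ⟨ρ, hρG⟩ = 0
  · refine ⟨⟨ρ, hρG⟩, (mem_omega_iff_dicksonPar h2 Q hQ hcard ⟨u, hu⟩ _).mpr hpar, ?_⟩
    show (F ∙ ((ρ : Matrix (Fin n) (Fin n) F) *ᵥ u)) = F ∙ v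
    rw [hρu]
    exact Submodule.span_singleton_smul_eq (IsUnit.mk0 _ (inv_ne_zero hc0)) v
  · have hpar1 : dicksonPar Q ⟨ρ, hρG⟩ = 1 := by
      have : ∀ a : ZMod 2, a ≠ 0 → a = 1 := by decide
      exact this _ hpar
    refine ⟨reflElt Q v hv * ⟨ρ, hρG⟩, ?_, ?_⟩
    · rw [mem_omega_iff_dicksonPar h2 Q hQ hcard ⟨u, hu⟩, dicksonPar_mul Q hQ hgen, hpar1,
        dicksonPar_refl Q hQ _ (reflElt_mem_reflSet Q v hv)]
      decide
    · show (F ∙ ((Cfsg.reflectionMatrix ⇑Q v * (ρ : Matrix (Fin n) (Fin n) F)) *ᵥ u)) = F ∙ v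
      rw [← Matrix.mulVec_mulVec, hρu, Matrix.mulVec_smul, reflectionMatrix_mulVec_self Q v hv,
        smul_neg, ← neg_smul]
      exact Submodule.span_singleton_smul_eq
        (IsUnit.mk0 _ (neg_ne_zero.mpr (inv_ne_zero hc0))) v

end Cfsg.Agent.S2634
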