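import Cfsg.Statements.S2635
import Cfsg.Agent.Lib.Helper37.OrthSum

set_option autoImplicit false
open Cfsg

namespace Cfsg.Agent.S2635

open Cfsg.Agent.Lib.Helper37 Cfsg.Agent.Lib.Helper8 Matrix Module

variable {F : Type*} [Field F] {ι : Type} [Fintype ι] [DecidableEq ι]

theorem exists_refl_list (Q : QuadraticForm F (ι → F)) (g : ↥(Cfsg.isometryGroup F ⇑Q))
    (hg : g ∈ Subgroup.closure (reflSet Q)) :
    ∃ l : List ↥(Cfsg.isometryGroup F ⇑Q), (∀ x ∈ l, x ∈ reflSet Q) ∧ l.prod = g := by
  induction hg using Subgroup.closure_induction with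
  | mem x hx => exact ⟨[x], by simpa using hx, by simp⟩
  | one => exact ⟨[], by simp, rfl⟩
  | mul x y _ _ ihx ihy =>
    obtain ⟨l1, h1, rfl⟩ := ihx
    obtain ⟨l2, h2, rfl⟩ := ihy
    refine ⟨l1 ++ l2, ?_, List.prod_append⟩
    intro x hx
    rcases List.mem_append.mp hx with hx | hx
    · exact h1 x hx
    · exact h2 x hx
  | inv x _ ih =>
    obtain ⟨l, h, rfl⟩ := ih
    refine ⟨l.reverse, fun x hx => h x (List.mem_reverse.mp hx), ?_⟩
    rw [List.prod_inv_reverse]
    congr 1
    have : l.map (fun x => x⁻¹) = l := by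
      conv_rhs => rw [← List.map_id l]
      apply List.map_congr_left
      intro x hx
      exact inv_mem_reflSet Q x (h x hx)
    rw [this]

theorem dicksonPar_list (Q : QuadraticForm F (ι → F))
    (hQ : (QuadraticMap.polarBilin Q).Nondegenerate)
    (hgen : Subgroup.closure (reflSet Q) = ⊤) (l : List ↥(Cfsg.isometryGroup F ⇑Q))
    (hl : ∀ x ∈ l, x ∈ reflSet Q) : dicksonPar Q l.prod = (l.length : ZMod 2) := by
  induction l with
  | nil => simpa using dicksonPar_one Q
  | cons a t ih =>
    rw [List.prod_cons, dicksonPar_mul Q hQ hgen, ih (fun x hx => hl x (List.mem_cons_of_mem a hx)),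
      dicksonPar_refl Q hQ a (hl a List.mem_cons_self), List.length_cons]
    push_cast
    ring

/-- products of two reflections -/
def pairs (Q : QuadraticForm F (ι → F)) : Set ↥(Cfsg.isometryGroup F ⇑Q) :=
  {g | ∃ u v : ι → F, Q u ≠ 0 ∧ Q v ≠ 0 ∧
    ((g : Matrix.GeneralLinearGroup ι F) : Matrix ι ι F)
      = Cfsg.reflectionMatrix ⇑Q u * Cfsg.reflectionMatrix ⇑Q v}

theorem even_list_mem (Q : QuadraticForm F (ι → F)) : ∀ (n : ℕ)
    (l : List ↥(Cfsg.isometryGroup F ⇑Q)), l.length = 2 * n → (∀ x ∈ l, x ∈ reflSet Q) →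
    l.prod ∈ Subgroup.closure (pairs Q) := by
  intro n
  induction n with
  | zero =>
    intro l hl _
    have : l = [] := List.length_eq_zero_iff.mp (by omega)
    rw [this, List.prod_nil]
    exact one_mem _
  | succ n ih =>
    intro l hl hmem
    match l, hl, hmem with
    | a :: b :: t, hl, hmem =>
      rw [List.prod_cons, List.prod_cons, ← mul_assoc]
      apply mul_mem
      · apply Subgroup.subset_closure
        obtain ⟨u, hu, hau⟩ := hmem a (by simp)
        obtain ⟨v, hv, hbv⟩ := hmem b (by simp)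
        refine ⟨u, v, hu, hv, ?_⟩
        rw [Subgroup.coe_mul, Units.val_mul, hau, hbv]
      · apply ih t
        · simp only [List.length_cons] at hl
          omega
        · intro x hx
          exact hmem x (by simp [hx])
    | [], hl, _ => simp at hl
    | [a], hl, _ => simp at hl; omega


/-- Over a finite field of characteristic two, for a quadratic form Q on F^n with non-degenerate polar form, n ≥ 2, other than dimension 4 over the field of two elements, Ω (the commutator subgroup of the orthogonal group) is exactly the subgroup generated by the products of two reflections (orthogonal transvections) x ↦ x − Q(v)⁻¹ f(x, v) v, Q(v) ≠ 0: the products of an even number of reflections. -/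
theorem result {F : Type*} [Field F] [Fintype F] [CharP F 2] {n : ℕ} (hn : 2 ≤ n) (h : Fintype.card F ≠ 2 ∨ n ≠ 4) (Q : QuadraticForm F (Fin n → F)) (hQ : (QuadraticMap.polarBilin Q).Nondegenerate) : Cfsg.Omega F ⇑Q = Subgroup.closure {g : ↥(Cfsg.isometryGroup F ⇑Q) | ∃ u v : Fin n → F, Q u ≠ 0 ∧ Q v ≠ 0 ∧ ((g : Matrix.GeneralLinearGroup (Fin n) F) : Matrix (Fin n) (Fin n) F) = Cfsg.reflectionMatrix ⇑Q u * Cfsg.reflectionMatrix ⇑Q v} := by
  have h2 : (2 : F) = 0 := by
    have := CharP.cast_eq_zero F 2
    exact_mod_cast this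
  have hcard : Fintype.card F ≠ 2 ∨ finrank F (Fin n → F) ≠ 4 := by
    rcases h with h | h
    · exact Or.inl h
    · right
      rw [Module.finrank_fintype_fun_eq_card, Fintype.card_fin]
      exact h
  have hgen := closure_reflSet_eq_top' Q hQ hcard
  have hex : ∃ v, Q v ≠ 0 := by
    by_contra hex
    push Not at hex
    have hall : ∀ x : Fin n → F, x = 0 := by
      intro x
      apply hQ.1
      intro y
      simp [QuadraticMap.polarBilin_apply_apply, QuadraticMap.polar, hex]
    have := hall (Pi.single (⟨0, by omega⟩ : Fin n) 1)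
    have h1 := congrFun this ⟨0, by omega⟩
    simp at h1
  show Cfsg.Omega F ⇑Q = Subgroup.closure (pairs Q)
  apply le_antisymm
  · intro g hg
    rw [mem_omega_iff_dicksonPar h2 Q hQ hcard hex] at hg
    obtain ⟨l, hl, rfl⟩ := exists_refl_list Q g (by rw [hgen]; trivial)
    rw [dicksonPar_list Q hQ hgen l hl, ZMod.natCast_eq_zero_iff_even] at hg
    obtain ⟨r, hr⟩ := hg
    exact even_list_mem Q r l (by omega) hl
  · rw [Subgroup.closure_le]
    rintro g ⟨u, v, hu, hv, hmat⟩
    rw [SetLike.mem_coe, mem_omega_iff_dicksonPar h2 Q hQ hcard hex]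
    have hg : g = reflElt Q u hu * reflElt Q v hv := by
      apply Subtype.ext
      apply Units.ext
      rw [hmat]
      rfl
    rw [hg, dicksonPar_mul_refl Q hQ _ _ (reflElt_mem_reflSet Q v hv),
      dicksonPar_refl Q hQ _ (reflElt_mem_reflSet Q u hu)]
    decide

end Cfsg.Agent.S2635
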