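import Cfsg.Statements.S2636
-- import your own Cfsg.Agent.* helpers here

set_option autoImplicit false
open Cfsg

namespace Cfsg.Agent.S2636

open Module in
theorem card_fixed {F : Type*} [Field F] [Fintype F] {q₀ r : ℕ} (hr : r.Prime) (hF : Fintype.card F = q₀ ^ r)
    (σ : F ≃+* F) (hσ : orderOf σ = r) :
    Nat.card (FixedPoints.subfield (Subgroup.zpowers σ) F) = q₀ := by
  classical
  let G := Subgroup.zpowers σ
  have : Finite (F ≃+* F) := Finite.of_injective (fun e => (e : F → F)) DFunLike.coe_injective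
  letI : Fintype G := Fintype.ofFinite G
  have h1 : finrank (FixedPoints.subfield G F) F = Fintype.card G := FixedPoints.finrank_eq_card G F
  have h2 : Fintype.card G = r := by
    rw [← Nat.card_eq_fintype_card, Nat.card_zpowers, hσ]
  letI : Fintype (FixedPoints.subfield G F) := Fintype.ofFinite _
  have h3 := Module.card_eq_pow_finrank (K := FixedPoints.subfield G F) (V := F)
  rw [h1, h2, hF] at h3
  rw [Nat.card_eq_fintype_card]
  exact (Nat.pow_left_injective hr.ne_zero h3).symm

theorem mem_fixed {F : Type*} [Field F] (σ : F ≃+* F) (x : F) :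
    x ∈ FixedPoints.subfield (Subgroup.zpowers σ) F ↔ σ x = x := by
  constructor
  · intro h
    exact h ⟨σ, Subgroup.mem_zpowers σ⟩
  · intro h g
    obtain ⟨g, k, rfl⟩ := g
    show (σ ^ k) x = x
    have h1 : ∀ m : ℕ, (σ ^ m) x = x := by
      intro m
      induction m with
      | zero => simp
      | succ m ih => rw [pow_succ, RingAut.mul_apply, h, ih]
    have h2 : ∀ m : ℕ, (σ ^ m)⁻¹ x = x := by
      intro m
      have := h1 m
      conv_lhs => rw [← this]
      exact (σ ^ m).symm_apply_apply x
    rcases Int.eq_nat_or_neg k with ⟨m, rfl | rfl⟩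
    · simpa using h1 m
    · simpa using h2 m

/-- scalar matrices as a hom into GL -/
def scalGL (n : ℕ) (K : Type*) [Field K] : Kˣ →* GL (Fin n) K :=
  Units.map (Matrix.scalar (Fin n) : K →+* Matrix (Fin n) (Fin n) K).toMonoidHom

theorem scalGL_coe (n : ℕ) (K : Type*) [Field K] (d : Kˣ) :
    ((scalGL n K d : GL (Fin n) K) : Matrix (Fin n) (Fin n) K) = Matrix.scalar (Fin n) (d : K) := rfl

/-- the product map -/
def prodMap (n : ℕ) {F : Type*} [Field F] (F₀ : Subfield F) : Fˣ × GL (Fin n) F₀ →* GL (Fin n) F :=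
  MonoidHom.noncommCoprod (scalGL n F) (Matrix.GeneralLinearGroup.map F₀.subtype) (by
    intro d g
    apply Units.ext
    have := Matrix.scalar_commute (n := Fin n) (d : F) (fun r' => Commute.all _ _)
      ((Matrix.GeneralLinearGroup.map F₀.subtype g : GL (Fin n) F) : Matrix (Fin n) (Fin n) F)
    exact this)

theorem prodMap_coe (n : ℕ) {F : Type*} [Field F] (F₀ : Subfield F) (d : Fˣ) (g : GL (Fin n) F₀) :
    ((prodMap n F₀ (d, g) : GL (Fin n) F) : Matrix (Fin n) (Fin n) F) =
      (d : F) • (g : Matrix (Fin n) (Fin n) F₀).map F₀.subtype := by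
  have : prodMap n F₀ (d, g) = scalGL n F d * Matrix.GeneralLinearGroup.map F₀.subtype g := rfl
  rw [this, Units.val_mul, scalGL_coe]
  ext i j
  simp only [Matrix.scalar_apply, Matrix.diagonal_mul, Matrix.smul_apply, smul_eq_mul]
  rfl


/-- Centraliser of a field automorphism in PGL_n: let F be the field with q = q₀^r elements, σ a field automorphism of F of prime order r (so its fixed field has q₀ elements) and n ≥ 1. The invertible matrices g whose entrywise image under σ is a scalar multiple of g — those whose coset modulo scalars is fixed by σ — number (q − 1)/(q₀ − 1) · |GL_n(q₀)|; equivalently the centraliser in PGL_n(q) of the induced automorphism has the order of PGL_n(q₀). -/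
theorem result {F : Type*} [Field F] [Fintype F] {q₀ r n : ℕ} (hr : r.Prime) (hn : 1 ≤ n) (hF : Fintype.card F = q₀ ^ r) (σ : F ≃+* F) (hσ : orderOf σ = r) : Nat.card {g : GL (Fin n) F // ∃ c : F, c ≠ 0 ∧ (g : Matrix (Fin n) (Fin n) F).map σ = c • (g : Matrix (Fin n) (Fin n) F)} = (q₀ ^ r - 1) / (q₀ - 1) * ∏ i : Fin n, (q₀ ^ n - q₀ ^ (i : ℕ)) := by
  classical
  set F₀ := FixedPoints.subfield (Subgroup.zpowers σ) F with hF₀
  have hcard0 : Nat.card F₀ = q₀ := card_fixed hr hF σ hσ
  letI : Fintype F₀ := Fintype.ofFinite _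
  have hfix : ∀ x : F, x ∈ F₀ ↔ σ x = x := mem_fixed σ
  haveI : Nonempty (Fin n) := ⟨⟨0, hn⟩⟩
  -- range characterization
  have hrange : ∀ g : GL (Fin n) F, g ∈ (prodMap n F₀).range ↔
      ∃ c : F, c ≠ 0 ∧ (g : Matrix (Fin n) (Fin n) F).map σ = c • (g : Matrix (Fin n) (Fin n) F) := by
    intro g
    constructor
    · rintro ⟨⟨d, g₀⟩, rfl⟩
      refine ⟨σ d * (d : F)⁻¹, mul_ne_zero ((map_ne_zero σ).2 d.ne_zero) (inv_ne_zero d.ne_zero), ?_⟩
      rw [prodMap_coe]
      ext i j
      simp only [Matrix.map_apply, Matrix.smul_apply, smul_eq_mul, map_mul]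
      have : σ (F₀.subtype ((g₀ : Matrix (Fin n) (Fin n) F₀) i j)) = F₀.subtype ((g₀ : Matrix (Fin n) (Fin n) F₀) i j) :=
        (hfix _).1 (Subtype.property _)
      rw [this]
      field_simp
    · rintro ⟨c, hc, hgc⟩
      have hex : ∃ i j, (g : Matrix (Fin n) (Fin n) F) i j ≠ 0 := by
        by_contra hcon
        push Not at hcon
        have h0 : (g : Matrix (Fin n) (Fin n) F) = 0 := by ext i j; exact hcon i j
        have hdet := Matrix.GeneralLinearGroup.det_ne_zero g
        rw [h0, Matrix.det_zero] at hdet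
        exact hdet rfl
      obtain ⟨i₀, j₀, hd⟩ := hex
      set d := (g : Matrix (Fin n) (Fin n) F) i₀ j₀ with hd_def
      have hσd : σ d = c * d := by
        have := congrFun (congrFun hgc i₀) j₀
        simpa using this
      have hentry : ∀ k l, σ (d⁻¹ * (g : Matrix (Fin n) (Fin n) F) k l) = d⁻¹ * (g : Matrix (Fin n) (Fin n) F) k l := by
        intro k l
        have h1 := congrFun (congrFun hgc k) l
        simp only [Matrix.map_apply, Matrix.smul_apply, smul_eq_mul] at h1
        rw [map_mul, map_inv₀, hσd, h1]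
        field_simp
      let N₀ : Matrix (Fin n) (Fin n) F₀ := fun k l => ⟨d⁻¹ * (g : Matrix (Fin n) (Fin n) F) k l, (hfix _).2 (hentry k l)⟩
      have hN₀ : N₀.map F₀.subtype = d⁻¹ • (g : Matrix (Fin n) (Fin n) F) := by
        ext k l; rfl
      have hdetN : N₀.det ≠ 0 := by
        intro h0
        have h1 : (N₀.map F₀.subtype).det = 0 := by
          have := (RingHom.map_det F₀.subtype N₀).symm
          rw [RingHom.mapMatrix_apply] at this
          rw [this, h0, map_zero]
        rw [hN₀, Matrix.det_smul] at h1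
        have hdet := Matrix.GeneralLinearGroup.det_ne_zero g
        exact (mul_ne_zero (pow_ne_zero _ (inv_ne_zero hd)) hdet) h1
      refine ⟨(Units.mk0 d hd, Matrix.GeneralLinearGroup.mkOfDetNeZero N₀ hdetN), ?_⟩
      apply Units.ext
      rw [prodMap_coe]
      show d • (N₀.map F₀.subtype) = _
      rw [hN₀, smul_smul, mul_inv_cancel₀ hd, one_smul]
  -- kernel
  let Ψ : F₀ˣ →* Fˣ × GL (Fin n) F₀ :=
    MonoidHom.prod ((Units.map F₀.subtype.toMonoidHom).comp invMonoidHom) (scalGL n F₀)
  have hΨinj : Function.Injective Ψ := by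
    intro e e' h
    have h1 := congrArg Prod.fst h
    simp only [Ψ, MonoidHom.prod_apply, MonoidHom.comp_apply, invMonoidHom_apply] at h1
    have h2 := congrArg (fun u : Fˣ => (u : F)) h1
    simp only [Units.coe_map, map_inv] at h2
    have h3 : ((e⁻¹ : F₀ˣ) : F₀) = ((e'⁻¹ : F₀ˣ) : F₀) := Subtype.ext h2
    have h4 : e⁻¹ = e'⁻¹ := Units.ext h3
    exact inv_injective h4
  have hker : (prodMap n F₀).ker = Ψ.range := by
    ext ⟨d, g₀⟩
    rw [MonoidHom.mem_ker, MonoidHom.mem_range]
    constructor
    · intro h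
      have hm := congrArg (fun u : GL (Fin n) F => (u : Matrix (Fin n) (Fin n) F)) h
      simp only [prodMap_coe, Units.val_one] at hm
      have hent : ∀ k l, (d : F) * ((g₀ : Matrix (Fin n) (Fin n) F₀) k l : F) = if k = l then 1 else 0 := by
        intro k l
        have := congrFun (congrFun hm k) l
        simpa [Matrix.one_apply] using this
      let i₀ : Fin n := ⟨0, hn⟩
      have h00 := hent i₀ i₀
      rw [if_pos rfl] at h00
      have he0 : (g₀ : Matrix (Fin n) (Fin n) F₀) i₀ i₀ ≠ 0 := by
        intro h0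
        rw [h0] at h00
        simp at h00
      refine ⟨Units.mk0 _ he0, ?_⟩
      simp only [Ψ, MonoidHom.prod_apply, MonoidHom.comp_apply, invMonoidHom_apply]
      refine Prod.ext ?_ ?_
      · apply Units.ext
        simp only [Units.coe_map, map_inv, Units.val_inv_eq_inv_val, Units.val_mk0]
        exact (eq_inv_of_mul_eq_one_left h00).symm
      · apply Units.ext
        ext k l
        rw [scalGL_coe]
        simp only [Units.val_mk0, Matrix.scalar_apply, Matrix.diagonal_apply]
        have hkl := hent k l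
        have hd0 : (d : F) ≠ 0 := d.ne_zero
        by_cases hkl' : k = l
        · subst hkl'
          rw [if_pos rfl] at hkl ⊢
          have e1 : ((g₀ : Matrix (Fin n) (Fin n) F₀) i₀ i₀ : F) = (d : F)⁻¹ := eq_inv_of_mul_eq_one_right h00
          have e2 : ((g₀ : Matrix (Fin n) (Fin n) F₀) k k : F) = (d : F)⁻¹ := eq_inv_of_mul_eq_one_right hkl
          rw [e1, e2]
        · rw [if_neg hkl'] at hkl ⊢
          have := (mul_eq_zero.1 hkl).resolve_left hd0
          simpa using this.symm
    · rintro ⟨e, he⟩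
      rw [← he]
      apply Units.ext
      simp only [Ψ, MonoidHom.prod_apply, MonoidHom.comp_apply, invMonoidHom_apply]
      rw [prodMap_coe, scalGL_coe]
      ext k l
      simp only [Units.coe_map, map_inv, Matrix.smul_apply, Matrix.map_apply, Matrix.scalar_apply,
        Matrix.diagonal_apply, smul_eq_mul, Units.val_one, Matrix.one_apply]
      by_cases hkl : k = l
      · simp only [hkl, if_true]
        have : ((e⁻¹ : F₀ˣ) : F₀) * (e : F₀) = 1 := by simp
        have h2 := congrArg (fun x : F₀ => (x : F)) this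
        simpa using h2
      · simp [hkl]
  have hcount : Nat.card (prodMap n F₀).ker * Nat.card (prodMap n F₀).range = Nat.card (Fˣ × GL (Fin n) F₀) := by
    rw [← Subgroup.index_ker, Subgroup.card_mul_index]
  have hkercard : Nat.card (prodMap n F₀).ker = q₀ - 1 := by
    rw [hker, ← Nat.card_congr (MonoidHom.ofInjective hΨinj).toEquiv, Nat.card_units, hcard0]
  have hS : Nat.card {g : GL (Fin n) F // ∃ c : F, c ≠ 0 ∧ (g : Matrix (Fin n) (Fin n) F).map σ = c • (g : Matrix (Fin n) (Fin n) F)} = Nat.card (prodMap n F₀).range :=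
    Nat.card_congr (Equiv.subtypeEquivRight (fun g => (hrange g).symm))
  have hGL : Nat.card (GL (Fin n) F₀) = ∏ i : Fin n, (q₀ ^ n - q₀ ^ (i : ℕ)) := by
    rw [Matrix.card_GL_field, ← Nat.card_eq_fintype_card, hcard0]
  have hU : Nat.card Fˣ = q₀ ^ r - 1 := by
    rw [Nat.card_units, Nat.card_eq_fintype_card, hF]
  rw [hS]
  rw [Nat.card_prod, hkercard, hU, hGL] at hcount
  have hq1 : 2 ≤ q₀ := by
    rw [← hcard0, Nat.card_eq_fintype_card]
    exact Fintype.one_lt_card
  have hdvd : q₀ - 1 ∣ q₀ ^ r - 1 := by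
    have := Nat.sub_dvd_pow_sub_pow q₀ 1 r
    simpa using this
  obtain ⟨k, hk⟩ := hdvd
  have hpos : 0 < q₀ - 1 := by omega
  rw [hk, Nat.mul_div_cancel_left _ hpos]
  rw [hk, mul_assoc] at hcount
  exact Nat.eq_of_mul_eq_mul_left hpos hcount

end Cfsg.Agent.S2636
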