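import Cfsg.Statements.S2637
import Cfsg.Agent.Lib.Helper44.HermSpace
import Cfsg.Agent.Lib.Helper44.Transport
import Cfsg.Agent.Lib.Helper5.UnitaryCard
import Cfsg.Agent.Lib.Helper13.Symp

set_option autoImplicit false
open Cfsg

namespace Cfsg.Agent.S2637

open Polynomial Matrix Module

set_option linter.unusedSectionVars false
set_option linter.style.haveILetI false

section field

variable {F : Type*} [Field F] [Fintype F] {q : ℕ}

/-- the polynomial `T² + T + 1` -/
noncomputable def fpoly (F : Type*) [Field F] : F[X] := X ^ 2 + X + 1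

lemma fpoly_monic : (fpoly F).Monic := by
  unfold fpoly
  monicity!

lemma fpoly_natDegree : (fpoly F).natDegree = 2 := by
  unfold fpoly
  compute_degree!

lemma three_ne_zero_of_mod (hF : Fintype.card F = q) (hq3 : q % 3 = 2) : (3 : F) ≠ 0 := by
  intro h3
  obtain ⟨p, hpF⟩ := CharP.exists F
  obtain ⟨n, hp, hn⟩ := FiniteField.card F p
  have h1 : p ∣ 3 := by
    have : ((3 : ℕ) : F) = 0 := by exact_mod_cast h3
    exact (CharP.cast_eq_zero_iff F p 3).mp this
  have h2 : p = 3 := (Nat.prime_dvd_prime_iff_eq hp Nat.prime_three).mp h1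
  rw [hF, h2] at hn
  have h4 : 3 ∣ q := by
    rw [hn]
    exact dvd_pow_self 3 n.ne_zero
  omega

/-- `T² + T + 1` has no root in `F` when `q ≡ 2 (mod 3)` -/
lemma no_root (hF : Fintype.card F = q) (hq3 : q % 3 = 2) (w : F) : w ^ 2 + w + 1 ≠ 0 := by
  classical
  intro hw
  have h3 := three_ne_zero_of_mod hF hq3
  have hw1 : w ≠ 1 := by
    rintro rfl
    apply h3
    linear_combination hw
  have hw3 : w ^ 3 = 1 := by linear_combination (w - 1) * hw
  have hw0 : w ≠ 0 := by
    rintro rfl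
    simp at hw3
  have hord : orderOf (Units.mk0 w hw0) = 3 := by
    apply orderOf_eq_prime
    · apply Units.ext
      simpa using hw3
    · intro h
      apply hw1
      simpa using congrArg Units.val h
  have hdvd : 3 ∣ Fintype.card Fˣ := hord ▸ orderOf_dvd_card
  rw [Fintype.card_units, hF] at hdvd
  omega

lemma fpoly_irreducible (hF : Fintype.card F = q) (hq3 : q % 3 = 2) : Irreducible (fpoly F) := by
  rw [fpoly_monic.irreducible_iff_roots_eq_zero_of_degree_le_three (by rw [fpoly_natDegree])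
    (by rw [fpoly_natDegree]; norm_num)]
  rw [Multiset.eq_zero_iff_forall_notMem]
  intro w hw
  rw [mem_roots fpoly_monic.ne_zero] at hw
  apply no_root hF hq3 w
  simpa [fpoly] using hw

end field

section K

variable {F : Type*} [Field F] [Fintype F] {q : ℕ}

/-- the quadratic extension `F[ω]` -/
abbrev KK (F : Type*) [Field F] := AdjoinRoot (fpoly F)

/-- the primitive cube root of unity in `KK F` -/
noncomputable def om (F : Type*) [Field F] : KK F := AdjoinRoot.root (fpoly F)

lemma om_rel : (om F) ^ 2 + om F + 1 = 0 := by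
  have h : eval₂ (AdjoinRoot.of (fpoly F)) (AdjoinRoot.root (fpoly F)) (X ^ 2 + X + 1 : F[X]) = 0 :=
    AdjoinRoot.eval₂_root (fpoly F)
  rw [eval₂_add, eval₂_add, eval₂_pow, eval₂_X, eval₂_one] at h
  exact h

lemma om_cube : (om F) ^ 3 = 1 := by linear_combination (om F - 1) * om_rel (F := F)

lemma om_pow_q (hq3 : q % 3 = 2) : (om F) ^ q = (om F) ^ 2 := by
  obtain ⟨k, hk⟩ : ∃ k, q = 3 * k + 2 := ⟨q / 3, by omega⟩
  rw [hk, pow_add, pow_mul, om_cube, one_pow, one_mul]

lemma alg_pow_q (hF : Fintype.card F = q) (a : F) :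
    (algebraMap F (KK F) a) ^ q = algebraMap F (KK F) a := by
  rw [← map_pow, ← hF, FiniteField.pow_card]

/-- induction principle for `KK F = F[ω]` -/
lemma K_induction {P : KK F → Prop} (h0 : ∀ a : F, P (algebraMap F (KK F) a))
    (hadd : ∀ c d, P c → P d → P (c + d)) (hom : ∀ c, P c → P (om F * c)) : ∀ c, P c := by
  intro c
  induction c using AdjoinRoot.induction_on with
  | ih p =>
    induction p using Polynomial.induction_on with
    | C a =>
      rw [AdjoinRoot.mk_C, ← AdjoinRoot.algebraMap_eq]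
      exact h0 a
    | add p r hp hr =>
      rw [map_add]
      exact hadd _ _ hp hr
    | monomial n a h =>
      have h1 : AdjoinRoot.mk (fpoly F) (C a * X ^ (n + 1))
          = om F * AdjoinRoot.mk (fpoly F) (C a * X ^ n) := by
        rw [pow_succ, ← mul_assoc, map_mul, AdjoinRoot.mk_X, mul_comm]
        rfl
      rw [h1]
      exact hom _ h

lemma finrank_KK : finrank F (KK F) = 2 := by
  rw [(AdjoinRoot.powerBasis' (fpoly_monic (F := F))).finrank, AdjoinRoot.powerBasis'_dim,
    fpoly_natDegree]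

instance : Module.Finite F (KK F) := (AdjoinRoot.powerBasis' (fpoly_monic (F := F))).finite

instance : Finite (KK F) := Module.finite_of_finite F

lemma card_KK [Fintype (KK F)] (hF : Fintype.card F = q) : Fintype.card (KK F) = q ^ 2 := by
  rw [Module.card_eq_pow_finrank (K := F) (V := KK F), finrank_KK, hF]

variable [Fact (Irreducible (fpoly F))]

lemma coeff_indep (hno : ∀ w : F, w ^ 2 + w + 1 ≠ 0) (a b : F)
    (h : algebraMap F (KK F) a + om F * algebraMap F (KK F) b = 0) : a = 0 ∧ b = 0 := by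
  have hinj : Function.Injective (algebraMap F (KK F)) := (algebraMap F (KK F)).injective
  have hb : b = 0 := by
    by_contra hb
    have hb' : algebraMap F (KK F) b ≠ 0 := fun h0 => hb (hinj (h0.trans (map_zero _).symm))
    have h1 : om F = algebraMap F (KK F) (-a / b) := by
      rw [map_div₀, map_neg, eq_div_iff hb']
      linear_combination h
    have h2 := om_rel (F := F)
    rw [h1, ← map_pow, ← map_add, ← map_one (algebraMap F (KK F)), ← map_add] at h2
    exact hno _ (hinj (h2.trans (map_zero _).symm))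
  refine ⟨?_, hb⟩
  rw [hb, map_zero, mul_zero, add_zero] at h
  exact hinj (h.trans (map_zero _).symm)

end K

section module

variable {F : Type*} [Field F] [Fintype F] {q : ℕ} {m : ℕ}

/-- the algebra hom `KK F → M(F)`, `ω ↦ A` -/
noncomputable def phi (A : Matrix (Fin m ⊕ Fin m) (Fin m ⊕ Fin m) F) (hA : A ^ 2 + A + 1 = 0) :
    KK F →ₐ[F] Matrix (Fin m ⊕ Fin m) (Fin m ⊕ Fin m) F :=
  Ideal.Quotient.liftₐ (Ideal.span {fpoly F}) (aeval A) (by
    intro a ha
    obtain ⟨b, rfl⟩ := Ideal.mem_span_singleton.mp ha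
    rw [map_mul]
    have h0 : aeval A (fpoly F) = 0 := by simp [fpoly, hA]
    rw [h0, zero_mul])

lemma phi_mk (A : Matrix (Fin m ⊕ Fin m) (Fin m ⊕ Fin m) F) (hA : A ^ 2 + A + 1 = 0) (p : F[X]) :
    phi A hA (AdjoinRoot.mk (fpoly F) p) = aeval A p := rfl

lemma phi_om (A : Matrix (Fin m ⊕ Fin m) (Fin m ⊕ Fin m) F) (hA : A ^ 2 + A + 1 = 0) :
    phi A hA (om F) = A := by
  rw [om, ← AdjoinRoot.mk_X, phi_mk, aeval_X]

/-- the `KK F`-module structure on `F^{2m}` defined by `A` -/
@[reducible] noncomputable def modK (A : Matrix (Fin m ⊕ Fin m) (Fin m ⊕ Fin m) F)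
    (hA : A ^ 2 + A + 1 = 0) : Module (KK F) (Fin m ⊕ Fin m → F) where
  smul c v := (phi A hA c) *ᵥ v
  one_smul v := by
    show (phi A hA 1) *ᵥ v = v
    rw [map_one, Matrix.one_mulVec]
  mul_smul c d v := by
    show (phi A hA (c * d)) *ᵥ v = (phi A hA c) *ᵥ ((phi A hA d) *ᵥ v)
    rw [map_mul, Matrix.mulVec_mulVec]
  smul_zero c := Matrix.mulVec_zero _
  smul_add c u v := Matrix.mulVec_add _ _ _
  add_smul c d v := by
    show (phi A hA (c + d)) *ᵥ v = (phi A hA c) *ᵥ v + (phi A hA d) *ᵥ v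
    rw [map_add, Matrix.add_mulVec]
  zero_smul v := by
    show (phi A hA 0) *ᵥ v = 0
    rw [map_zero, Matrix.zero_mulVec]

/-- the hermitian form attached to `A` -/
noncomputable def Hf (A : Matrix (Fin m ⊕ Fin m) (Fin m ⊕ Fin m) F)
    (u v : Fin m ⊕ Fin m → F) : KK F :=
  algebraMap F (KK F) (Cfsg.sympForm m F (A *ᵥ u) v)
    + (1 + om F) * algebraMap F (KK F) (Cfsg.sympForm m F u v)

lemma sympForm_nondeg (v : Fin m ⊕ Fin m → F) (h : ∀ u, Cfsg.sympForm m F u v = 0) : v = 0 := by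
  have h1 : Matrix.J (Fin m) F *ᵥ v = 0 := by
    funext i
    have := h (Pi.single i 1)
    simpa [Cfsg.sympForm] using this
  have h2 := congrArg (fun w => Matrix.J (Fin m) F *ᵥ w) h1
  simp only [Matrix.mulVec_mulVec, Matrix.J_squared, Matrix.mulVec_zero] at h2
  have h3 : -v = 0 := by simpa [Matrix.neg_mulVec] using h2
  exact neg_eq_zero.mp h3

variable [Fact (Irreducible (fpoly F))]

open Cfsg.Agent.Lib.Helper13 Cfsg.Agent.Lib.Helper44 in
/-- `Hf A` is a nondegenerate hermitian form for the `KK F`-structure defined by `A` -/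
lemma isHermSpace_Hf [Fintype (KK F)] (hF : Fintype.card F = q) (hq3 : q % 3 = 2)
    (A : Matrix (Fin m ⊕ Fin m) (Fin m ⊕ Fin m) F) (hA : A ^ 2 + A + 1 = 0)
    (hAsp : ∀ u v, Cfsg.sympForm m F (A *ᵥ u) (A *ᵥ v) = Cfsg.sympForm m F u v) :
    @IsHermSpace (KK F) _ q (Fin m ⊕ Fin m → F) _ (modK A hA) (Hf A) := by
  letI := modK A hA
  have hK : Fintype.card (KK F) = q ^ 2 := card_KK hF
  have hsmul : ∀ (c : KK F) (v : Fin m ⊕ Fin m → F), c • v = (phi A hA c) *ᵥ v := fun c v => rfl
  have hAA : ∀ w : Fin m ⊕ Fin m → F, A *ᵥ (A *ᵥ w) = - w - A *ᵥ w := by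
    intro w
    have h1 : A * A = - 1 - A := by
      rw [← pow_two]
      exact eq_sub_iff_add_eq.mpr (eq_neg_iff_add_eq_zero.mpr hA)
    rw [Matrix.mulVec_mulVec, h1, Matrix.sub_mulVec, Matrix.neg_mulVec, Matrix.one_mulVec]
  have hstep : ∀ w v : Fin m ⊕ Fin m → F, Hf A (A *ᵥ w) v = om F * Hf A w v := by
    intro w v
    unfold Hf
    rw [hAA, sympForm_sub_left, map_sub]
    have h2 : Cfsg.sympForm m F (-w) v = - Cfsg.sympForm m F w v := by
      have := sympForm_smul_left (m := m) (-1 : F) w v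
      simpa using this
    rw [h2, map_neg]
    linear_combination (- algebraMap F (KK F) (Cfsg.sympForm m F w v)) * om_rel (F := F)
  refine
    { add_left := ?_
      smul_left := ?_
      conj := ?_
      nondeg := ?_ }
  · intro u u' v
    unfold Hf
    rw [Matrix.mulVec_add, sympForm_add_left, sympForm_add_left, map_add, map_add]
    ring
  · intro c
    refine K_induction (P := fun c => ∀ u v : Fin m ⊕ Fin m → F, Hf A (c • u) v = c * Hf A u v)
      ?_ ?_ ?_ c
    · intro a u v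
      have h1 : (algebraMap F (KK F) a) • u = a • u := by
        rw [hsmul, AlgHom.commutes, Algebra.algebraMap_eq_smul_one, Matrix.smul_mulVec,
          Matrix.one_mulVec]
      rw [h1]
      unfold Hf
      rw [Matrix.mulVec_smul, sympForm_smul_left, sympForm_smul_left, map_mul, map_mul]
      ring
    · intro c d hc hd u v
      rw [add_smul]
      have hadd : ∀ x y : Fin m ⊕ Fin m → F, Hf A (x + y) v = Hf A x v + Hf A y v := by
        intro x y
        unfold Hf
        rw [Matrix.mulVec_add, sympForm_add_left, sympForm_add_left, map_add, map_add]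
        ring
      rw [hadd, hc, hd]
      ring
    · intro c hc u v
      rw [mul_smul, hsmul (om F), phi_om, hstep, hc]
      ring
  · intro u v
    have hA3 : ∀ w : Fin m ⊕ Fin m → F, A *ᵥ (A *ᵥ (A *ᵥ w)) = w := by
      intro w
      rw [hAA (A *ᵥ w), hAA w]
      abel
    have h1 : Cfsg.sympForm m F u (A *ᵥ v)
        = - Cfsg.sympForm m F u v - Cfsg.sympForm m F (A *ᵥ u) v := by
      have h2 := hAsp (A *ᵥ (A *ᵥ u)) v
      rw [hA3, hAA, sympForm_sub_left] at h2
      have h3 : Cfsg.sympForm m F (-u) v = - Cfsg.sympForm m F u v := by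
        have := sympForm_smul_left (m := m) (-1 : F) u v
        simpa using this
      rw [h3] at h2
      exact h2
    unfold Hf
    rw [frobK_add hK, mul_pow, frobK_add hK, one_pow, alg_pow_q hF, alg_pow_q hF, om_pow_q hq3,
      sympForm_swap m (A *ᵥ v) u, sympForm_swap m v u, h1, map_neg, map_neg, map_sub, map_neg]
    linear_combination (algebraMap F (KK F) (Cfsg.sympForm m F u v)) * om_rel (F := F)
  · intro v hv
    apply sympForm_nondeg
    intro u
    have h1 := hv u
    unfold Hf at h1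
    have h2 : algebraMap F (KK F) (Cfsg.sympForm m F (A *ᵥ u) v + Cfsg.sympForm m F u v)
        + om F * algebraMap F (KK F) (Cfsg.sympForm m F u v) = 0 := by
      rw [map_add]
      linear_combination h1
    exact (coeff_indep (no_root hF hq3) _ _ h2).2

lemma sympForm_eq_of_Hf_eq (hF : Fintype.card F = q) (hq3 : q % 3 = 2)
    (A : Matrix (Fin m ⊕ Fin m) (Fin m ⊕ Fin m) F) (u v u' v' : Fin m ⊕ Fin m → F)
    (h : Hf A u v = Hf A u' v') : Cfsg.sympForm m F u v = Cfsg.sympForm m F u' v' := by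
  unfold Hf at h
  have h2 : algebraMap F (KK F) ((Cfsg.sympForm m F (A *ᵥ u) v + Cfsg.sympForm m F u v)
        - (Cfsg.sympForm m F (A *ᵥ u') v' + Cfsg.sympForm m F u' v'))
      + om F * algebraMap F (KK F) (Cfsg.sympForm m F u v - Cfsg.sympForm m F u' v') = 0 := by
    rw [map_sub, map_sub, map_add, map_add]
    linear_combination h
  exact sub_eq_zero.mp (coeff_indep (no_root hF hq3) _ _ h2).2

end module

lemma cast_formula (q m : ℕ) (hq : 1 ≤ q) :
    ((q ^ (m * (m - 1) / 2) * ∏ i ∈ Finset.range m,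
      (if Even i then q ^ (i + 1) + 1 else q ^ (i + 1) - 1) : ℕ) : ℤ)
      = (q : ℤ) ^ (m * (m - 1) / 2) * ∏ i : Fin m, ((q : ℤ) ^ ((i : ℕ) + 1) - (-1) ^ ((i : ℕ) + 1)) := by
  rw [Nat.cast_mul, Nat.cast_pow, Nat.cast_prod]
  congr 1
  rw [← Fin.prod_univ_eq_prod_range]
  refine Finset.prod_congr rfl fun i _ => ?_
  have h1 : 1 ≤ q ^ ((i : ℕ) + 1) := Nat.one_le_pow _ _ hq
  split_ifs with h
  · rw [(Even.add_one h).neg_one_pow]
    push_cast
    ring
  · rw [(Nat.not_even_iff_odd.mp h).add_one.neg_one_pow, Nat.cast_sub h1]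
    push_cast
    ring

/-- Centraliser of a fixed-point-free element of order three in Sp_2m(q) when q ≡ 2 (mod 3): if x ∈ Sp_2m(F) (|F| = q, m ≥ 1) satisfies x³ = 1 and x − 1 is invertible, then its centraliser in Sp_2m(F) has the order of the unitary group GU_m(q), namely q^(m(m−1)/2) Π_(i=1)^m (q^i − (−1)^i) (x lies in the centre of a subgroup GU_m(q) of Sp_2m(q)). -/
theorem result {F : Type*} [Field F] [Fintype F] {q : ℕ} (hF : Fintype.card F = q) (hq : q % 3 = 2) {m : ℕ} (hm : 1 ≤ m) (x : Matrix.symplecticGroup (Fin m) F) (hx3 : x ^ 3 = 1) (hfpf : IsUnit ((x : Matrix (Fin m ⊕ Fin m) (Fin m ⊕ Fin m) F) - 1)) : (Nat.card ↥(Subgroup.centralizer ({x} : Set ↥(Matrix.symplecticGroup (Fin m) F))) : ℤ) = (q : ℤ) ^ (m * (m - 1) / 2) * ∏ i : Fin m, ((q : ℤ) ^ ((i : ℕ) + 1) - (-1) ^ ((i : ℕ) + 1)) := by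
  classical
  have hq1 : 1 ≤ q := by
    rw [← hF]
    exact Fintype.card_pos
  set A : Matrix (Fin m ⊕ Fin m) (Fin m ⊕ Fin m) F := (x : Matrix (Fin m ⊕ Fin m) (Fin m ⊕ Fin m) F)
    with hAdef
  have hAmem : A ∈ Matrix.symplecticGroup (Fin m) F := x.2
  have hA3 : A ^ 3 = 1 := by
    have h := congrArg Subtype.val hx3
    simpa using h
  have hA : A ^ 2 + A + 1 = 0 := by
    have h1 : (A - 1) * (A ^ 2 + A + 1) = 0 := by
      have h2 : (A - 1) * (A ^ 2 + A + 1) = A ^ 3 - 1 := by noncomm_ring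
      rw [h2, hA3, sub_self]
    exact (hfpf.mul_right_eq_zero).mp h1
  have hAsp : ∀ u v, Cfsg.sympForm m F (A *ᵥ u) (A *ᵥ v) = Cfsg.sympForm m F u v :=
    Cfsg.Agent.Lib.Helper13.preserves_of_mem_symplectic m A hAmem
  haveI : Fact (Irreducible (fpoly F)) := ⟨fpoly_irreducible hF hq⟩
  letI : Fintype (KK F) := Fintype.ofFinite _
  have hK : Fintype.card (KK F) = q ^ 2 := card_KK hF
  letI := modK A hA
  have hsmul : ∀ (c : KK F) (v : Fin m ⊕ Fin m → F), c • v = (phi A hA c) *ᵥ v := fun c v => rfl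
  have hH := isHermSpace_Hf hF hq A hA hAsp
  haveI : IsScalarTower F (KK F) (Fin m ⊕ Fin m → F) := ⟨fun a c v => by
    show (phi A hA (a • c)) *ᵥ v = a • ((phi A hA c) *ᵥ v)
    rw [map_smul, Matrix.smul_mulVec]⟩
  haveI : FiniteDimensional (KK F) (Fin m ⊕ Fin m → F) :=
    Module.Finite.of_restrictScalars_finite F (KK F) (Fin m ⊕ Fin m → F)
  have hfr : finrank (KK F) (Fin m ⊕ Fin m → F) = m := by
    have h1 := Module.finrank_mul_finrank F (KK F) (Fin m ⊕ Fin m → F)
    rw [finrank_KK, Module.finrank_fintype_fun_eq_card, Fintype.card_sum, Fintype.card_fin] at h1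
    omega
  obtain ⟨Θ, hΘ⟩ := Cfsg.Agent.Lib.Helper44.exists_herm_coords hK (Fin m ⊕ Fin m → F) (Hf A) hH m hfr
  obtain ⟨φ, -⟩ := Cfsg.Agent.Lib.Helper44.exists_mulEquiv_preserving
    (Cfsg.hermForm m (KK F) q) (Hf A) Θ hΘ
  have hcardGU : Nat.card ↥(Cfsg.Agent.Lib.Helper44.absPreserving (KK F) (Hf A))
      = Nat.card ↥(Cfsg.GU m (KK F) q) := Nat.card_congr φ.toEquiv
  -- from commuting symplectic matrices to unitary maps
  have key : ∀ G G' : Matrix (Fin m ⊕ Fin m) (Fin m ⊕ Fin m) F, G * G' = 1 → G' * G = 1 →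
      G * A = A * G →
      (∀ u v, Cfsg.sympForm m F (G *ᵥ u) (G *ᵥ v) = Cfsg.sympForm m F u v) →
      ∃ h : ↥(Cfsg.Agent.Lib.Helper44.absPreserving (KK F) (Hf A)),
        ∀ v, (h : (Fin m ⊕ Fin m → F) ≃ₗ[KK F] (Fin m ⊕ Fin m → F)) v = G *ᵥ v := by
    intro G G' hGG' hG'G hGA hGsp
    have hcomm : ∀ c : KK F, G * phi A hA c = phi A hA c * G := by
      refine K_induction ?_ ?_ ?_
      · intro a
        rw [AlgHom.commutes]
        exact (Algebra.commutes a G).symm
      · intro c d hc hd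
        rw [map_add, mul_add, add_mul, hc, hd]
      · intro c hc
        rw [map_mul, phi_om, ← mul_assoc, hGA, mul_assoc, hc, mul_assoc]
    let e : (Fin m ⊕ Fin m → F) ≃ₗ[KK F] (Fin m ⊕ Fin m → F) :=
      { toFun := fun v => G *ᵥ v
        map_add' := fun u v => Matrix.mulVec_add _ _ _
        map_smul' := fun c v => by
          show G *ᵥ (c • v) = c • (G *ᵥ v)
          rw [hsmul, hsmul, Matrix.mulVec_mulVec, Matrix.mulVec_mulVec, hcomm]
        invFun := fun v => G' *ᵥ v
        left_inv := fun v => by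
          show G' *ᵥ (G *ᵥ v) = v
          rw [Matrix.mulVec_mulVec, hG'G, Matrix.one_mulVec]
        right_inv := fun v => by
          show G *ᵥ (G' *ᵥ v) = v
          rw [Matrix.mulVec_mulVec, hGG', Matrix.one_mulVec] }
    refine ⟨⟨e, ?_⟩, fun v => rfl⟩
    intro u v
    show Hf A (G *ᵥ u) (G *ᵥ v) = Hf A u v
    unfold Hf
    rw [Matrix.mulVec_mulVec, ← hGA, ← Matrix.mulVec_mulVec, hGsp, hGsp]
  have hcent : ∀ g : ↥(Subgroup.centralizer ({x} : Set ↥(Matrix.symplecticGroup (Fin m) F))),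
      ((g : ↥(Matrix.symplecticGroup (Fin m) F)) : Matrix (Fin m ⊕ Fin m) (Fin m ⊕ Fin m) F) * A
        = A * ((g : ↥(Matrix.symplecticGroup (Fin m) F)) : Matrix (Fin m ⊕ Fin m) (Fin m ⊕ Fin m) F) := by
    intro g
    have h1 : x * (g : ↥(Matrix.symplecticGroup (Fin m) F)) = (g : ↥(Matrix.symplecticGroup (Fin m) F)) * x :=
      (Subgroup.mem_centralizer_iff.mp g.2) x rfl
    have h2 := congrArg Subtype.val h1
    exact h2.symm
  have hex : ∀ g : ↥(Subgroup.centralizer ({x} : Set ↥(Matrix.symplecticGroup (Fin m) F))),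
      ∃ h : ↥(Cfsg.Agent.Lib.Helper44.absPreserving (KK F) (Hf A)),
        ∀ v, (h : (Fin m ⊕ Fin m → F) ≃ₗ[KK F] (Fin m ⊕ Fin m → F)) v
          = ((g : ↥(Matrix.symplecticGroup (Fin m) F)) : Matrix (Fin m ⊕ Fin m) (Fin m ⊕ Fin m) F) *ᵥ v := by
    intro g
    refine key _ (((g : ↥(Matrix.symplecticGroup (Fin m) F))⁻¹ : ↥(Matrix.symplecticGroup (Fin m) F)) :
      Matrix (Fin m ⊕ Fin m) (Fin m ⊕ Fin m) F) ?_ ?_ (hcent g) ?_
    · have h1 := congrArg Subtype.val (mul_inv_cancel (g : ↥(Matrix.symplecticGroup (Fin m) F)))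
      exact h1
    · have h1 := congrArg Subtype.val (inv_mul_cancel (g : ↥(Matrix.symplecticGroup (Fin m) F)))
      exact h1
    · exact Cfsg.Agent.Lib.Helper13.preserves_of_mem_symplectic m _ (g : ↥(Matrix.symplecticGroup (Fin m) F)).2
  choose f hf using hex
  have hfbij : Function.Bijective f := by
    constructor
    · intro g g' hgg'
      apply Subtype.ext
      apply Subtype.ext
      apply Matrix.toLin'.injective
      apply LinearMap.ext
      intro v
      rw [Matrix.toLin'_apply, Matrix.toLin'_apply, ← hf g v, ← hf g' v, hgg']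
    · intro h
      let L : (Fin m ⊕ Fin m → F) →ₗ[F] (Fin m ⊕ Fin m → F) :=
        ((h : (Fin m ⊕ Fin m → F) ≃ₗ[KK F] (Fin m ⊕ Fin m → F)) :
          (Fin m ⊕ Fin m → F) →ₗ[KK F] (Fin m ⊕ Fin m → F)).restrictScalars F
      let G : Matrix (Fin m ⊕ Fin m) (Fin m ⊕ Fin m) F := LinearMap.toMatrix' L
      have hG : ∀ v, G *ᵥ v = (h : (Fin m ⊕ Fin m → F) ≃ₗ[KK F] (Fin m ⊕ Fin m → F)) v := by
        intro v
        show (LinearMap.toMatrix' L) *ᵥ v = _
        rw [LinearMap.toMatrix'_mulVec]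
        rfl
      have hGsp : ∀ u v, Cfsg.sympForm m F (G *ᵥ u) (G *ᵥ v) = Cfsg.sympForm m F u v := by
        intro u v
        rw [hG, hG]
        exact sympForm_eq_of_Hf_eq hF hq A _ _ _ _ (h.2 u v)
      have hGmem : G ∈ Matrix.symplecticGroup (Fin m) F :=
        Cfsg.Agent.Lib.Helper13.mem_symplectic_of_preserves m G hGsp
      have hGA : A * G = G * A := by
        apply Matrix.toLin'.injective
        apply LinearMap.ext
        intro v
        rw [Matrix.toLin'_apply, Matrix.toLin'_apply, ← Matrix.mulVec_mulVec, ← Matrix.mulVec_mulVec,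
          hG, hG]
        have h1 : A *ᵥ v = om F • v := by rw [hsmul, phi_om]
        have h2 : A *ᵥ ((h : (Fin m ⊕ Fin m → F) ≃ₗ[KK F] (Fin m ⊕ Fin m → F)) v)
            = om F • ((h : (Fin m ⊕ Fin m → F) ≃ₗ[KK F] (Fin m ⊕ Fin m → F)) v) := by
          rw [hsmul, phi_om]
        rw [h1, h2, map_smul]
      let g₀ : ↥(Matrix.symplecticGroup (Fin m) F) := ⟨G, hGmem⟩
      have hg₀ : g₀ ∈ Subgroup.centralizer ({x} : Set ↥(Matrix.symplecticGroup (Fin m) F)) := by
        rw [Subgroup.mem_centralizer_iff]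
        intro y hy
        rw [Set.mem_singleton_iff] at hy
        subst hy
        apply Subtype.ext
        exact hGA
      refine ⟨⟨g₀, hg₀⟩, ?_⟩
      apply Subtype.ext
      apply LinearEquiv.ext
      intro v
      rw [hf]
      exact hG v
  have hcard : Nat.card ↥(Subgroup.centralizer ({x} : Set ↥(Matrix.symplecticGroup (Fin m) F)))
      = Nat.card ↥(Cfsg.GU m (KK F) q) :=
    (Nat.card_congr (Equiv.ofBijective f hfbij)).trans hcardGU
  rw [hcard, Cfsg.Agent.Lib.Helper5.card_GU hK m]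
  exact cast_formula q m hq1

end Cfsg.Agent.S2637
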