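import Cfsg.Statements.S2638

set_option autoImplicit false
open Cfsg

namespace Cfsg.Agent.S2638

open Matrix Polynomial

set_option linter.unusedSectionVars false
set_option linter.style.haveILetI false

variable {F : Type*} [Field F] [Fintype F] {n : ℕ}

/-- The permutation action of `GL_n(F)` on column vectors. -/
noncomputable def permHom : GL (Fin n) F →* Equiv.Perm (Fin n → F) where
  toFun g :=
    ⟨fun v => g.val *ᵥ v, fun v => (g⁻¹).val *ᵥ v,
      fun v => by simp [Matrix.mulVec_mulVec],
      fun v => by simp [Matrix.mulVec_mulVec]⟩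
  map_one' := by ext v; simp
  map_mul' g h := by ext v; simp [Matrix.mulVec_mulVec]

lemma permHom_apply (g : GL (Fin n) F) (v : Fin n → F) : permHom g v = g.val *ᵥ v := rfl

/-- Fixed-point congruence on an invariant subspace without nonzero fixed vectors. -/
lemma pow_finrank_eq_one {q r : ℕ} [Fact r.Prime] (hF : Fintype.card F = q)
    (x : GL (Fin n) F) (hxr : x ^ r = 1)
    (W : Submodule F (Fin n → F)) (hW : ∀ w ∈ W, x.val *ᵥ w ∈ W)
    (hfix : ∀ w ∈ W, x.val *ᵥ w = w → w = 0) :
    (q : ZMod r) ^ Module.finrank F W = 1 := by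
  classical
  haveI : Fintype W := Fintype.ofFinite W
  have hr : r ≠ 0 := (Fact.out : r.Prime).ne_zero
  have hpow : ∀ k : ℕ, ∀ w ∈ W, (x ^ k).val *ᵥ w ∈ W := by
    intro k
    induction k with
    | zero => intro w hw; simpa using hw
    | succ k ih =>
      intro w hw
      rw [pow_succ, Units.val_mul, ← Matrix.mulVec_mulVec]
      exact ih _ (hW w hw)
  have hinv : x⁻¹ = x ^ (r - 1) :=
    inv_eq_of_mul_eq_one_right ((mul_pow_sub_one hr x).trans hxr)
  have hiff : ∀ w, permHom x w ∈ W ↔ w ∈ W := by
    intro w
    refine ⟨fun h => ?_, hW w⟩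
    have := hpow (r - 1) _ h
    rw [← hinv, permHom_apply, Matrix.mulVec_mulVec, ← Units.val_mul, inv_mul_cancel] at this
    simpa using this
  set τ : Equiv.Perm W := (permHom x).subtypePerm hiff with hτ
  have hτr : τ ^ r ^ 1 = 1 := by
    rw [pow_one]
    ext w
    rw [hτ, Equiv.Perm.subtypePerm_pow]
    simp [← map_pow, hxr]
  have hsupp : τ.supportᶜ = {0} := by
    ext w
    simp only [Finset.mem_compl, Equiv.Perm.mem_support, not_not, Finset.mem_singleton]
    constructor
    · intro h
      exact Subtype.ext (hfix w w.2 (congrArg Subtype.val h))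
    · rintro rfl
      exact Subtype.ext (by simp [hτ, permHom_apply])
  have := Equiv.Perm.card_compl_support_modEq hτr
  rw [hsupp, Finset.card_singleton, Module.card_eq_pow_finrank (K := F) (V := W), hF] at this
  have h2 := (ZMod.natCast_eq_natCast_iff _ _ _).mpr this
  push_cast at h2
  exact h2.symm

/-- An element of order `r` has no nonzero fixed vector. -/
lemma fixed_eq_zero {q r : ℕ} [Fact r.Prime] (hF : Fintype.card F = q)
    (hi : orderOf (q : ZMod r) = n) (x : GL (Fin n) F) (hx : orderOf x = r) :
    ∀ w : Fin n → F, x.val *ᵥ w = w → w = 0 := by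
  classical
  let U : Submodule F (Fin n → F) := LinearMap.ker (Matrix.toLin' x.val - 1)
  have hU : ∀ w, w ∈ U ↔ x.val *ᵥ w = w := by
    intro w
    simp [U, LinearMap.mem_ker, sub_eq_zero]
  haveI : Fintype U := Fintype.ofFinite U
  have hxr : x ^ r = 1 := hx ▸ pow_orderOf_eq_one x
  have hσ : (permHom x) ^ r ^ 1 = 1 := by rw [pow_one, ← map_pow, hxr, map_one]
  have h1 := Equiv.Perm.card_compl_support_modEq hσ
  have h2 : (permHom x).supportᶜ.card = Fintype.card U := by
    rw [eq_comm]
    apply Fintype.card_of_subtype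
    intro w
    simp [hU, Equiv.Perm.mem_support, permHom_apply]
  rw [h2, Module.card_eq_pow_finrank (K := F) (V := U),
    Module.card_eq_pow_finrank (K := F) (V := Fin n → F), hF, Module.finrank_fin_fun] at h1
  have h3 := (ZMod.natCast_eq_natCast_iff _ _ _).mpr h1
  push_cast at h3
  have h4 : (q : ZMod r) ^ n = 1 := by
    have := pow_orderOf_eq_one (q : ZMod r)
    rwa [hi] at this
  rw [h4] at h3
  have h5 : n ∣ Module.finrank F U := by
    have := orderOf_dvd_of_pow_eq_one h3
    rwa [hi] at this
  have h6 : Module.finrank F U ≤ n := by simpa using Submodule.finrank_le U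
  rcases Nat.eq_zero_or_pos (Module.finrank F U) with h0 | hpos
  · have hbot : U = ⊥ := Submodule.finrank_eq_zero.mp h0
    intro w hw
    have hwU : w ∈ U := (hU w).mpr hw
    rw [hbot] at hwU
    simpa using hwU
  · have hn' : Module.finrank F U = n := le_antisymm h6 (Nat.le_of_dvd hpos h5)
    have hUtop : U = ⊤ := Submodule.eq_top_of_finrank_eq (by simpa using hn')
    exfalso
    have hx1 : x = 1 := by
      apply Units.ext
      apply Matrix.toLin'.injective
      apply LinearMap.ext
      intro w
      have hwU : w ∈ U := hUtop ▸ Submodule.mem_top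
      simpa using (hU w).mp hwU
    rw [hx1, orderOf_one] at hx
    exact (Fact.out : r.Prime).one_lt.ne' hx.symm

/-- Invariant subspaces are trivial. -/
lemma invariant_bot_or_top {q r : ℕ} [Fact r.Prime] (hF : Fintype.card F = q)
    (hi : orderOf (q : ZMod r) = n) (x : GL (Fin n) F) (hxr : x ^ r = 1)
    (hfix : ∀ w : Fin n → F, x.val *ᵥ w = w → w = 0)
    (W : Submodule F (Fin n → F)) (hW : ∀ w ∈ W, x.val *ᵥ w ∈ W) : W = ⊥ ∨ W = ⊤ := by
  have h1 := pow_finrank_eq_one hF x hxr W hW (fun w _ h => hfix w h)
  have h5 : n ∣ Module.finrank F W := by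
    have := orderOf_dvd_of_pow_eq_one h1
    rwa [hi] at this
  have h6 : Module.finrank F W ≤ n := by simpa using Submodule.finrank_le W
  rcases Nat.eq_zero_or_pos (Module.finrank F W) with h0 | hpos
  · left
    exact Submodule.finrank_eq_zero.mp h0
  · right
    exact Submodule.eq_top_of_finrank_eq
      (by simpa using le_antisymm h6 (Nat.le_of_dvd hpos h5))

section irr

variable (X : Matrix (Fin n) (Fin n) F)
  (hbt : ∀ W : Submodule F (Fin n → F), (∀ w ∈ W, X *ᵥ w ∈ W) → W = ⊥ ∨ W = ⊤)

include hbt

/-- A matrix commuting with `X` that kills a nonzero vector is zero. -/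
lemma eq_zero_of_commute (Y : Matrix (Fin n) (Fin n) F) (hY : X * Y = Y * X)
    (v : Fin n → F) (hv : v ≠ 0) (hYv : Y *ᵥ v = 0) : Y = 0 := by
  let W : Submodule F (Fin n → F) := LinearMap.ker (Matrix.toLin' Y)
  have hW : ∀ w ∈ W, X *ᵥ w ∈ W := by
    intro w hw
    simp only [W, LinearMap.mem_ker, Matrix.toLin'_apply] at hw ⊢
    rw [Matrix.mulVec_mulVec, ← hY, ← Matrix.mulVec_mulVec, hw, Matrix.mulVec_zero]
  rcases hbt W hW with h | h
  · exfalso
    have hvW : v ∈ W := by simp [W, hYv]
    rw [h] at hvW
    exact hv (by simpa using hvW)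
  · apply Matrix.toLin'.injective
    rw [map_zero]
    exact LinearMap.ker_eq_top.mp h

/-- Every nonzero vector is cyclic. -/
lemma exists_aeval (v : Fin n → F) (hv : v ≠ 0) (u : Fin n → F) :
    ∃ f : F[X], (aeval X f) *ᵥ v = u := by
  let W : Submodule F (Fin n → F) :=
    { carrier := {u | ∃ f : F[X], (aeval X f) *ᵥ v = u}
      add_mem' := by
        rintro _ _ ⟨f, rfl⟩ ⟨g, rfl⟩
        exact ⟨f + g, by simp [Matrix.add_mulVec]⟩
      zero_mem' := ⟨0, by simp⟩
      smul_mem' := by
        rintro c _ ⟨f, rfl⟩
        exact ⟨C c * f, by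
          rw [map_mul, Polynomial.aeval_C, Algebra.algebraMap_eq_smul_one, smul_mul_assoc,
            one_mul, Matrix.smul_mulVec]⟩ }
  have hW : ∀ w ∈ W, X *ᵥ w ∈ W := by
    rintro _ ⟨f, rfl⟩
    exact ⟨Polynomial.X * f, by simp [Matrix.mulVec_mulVec]⟩
  rcases hbt W hW with h | h
  · have hvW : v ∈ W := ⟨1, by simp⟩
    rw [h] at hvW
    exact absurd (by simpa using hvW) hv
  · have huW : u ∈ W := h ▸ Submodule.mem_top
    exact huW

end irr

/-- If an element x of GL_n(q), n ≥ 1, has prime order r and the multiplicative order of q modulo r is n (r is a primitive prime divisor of q^n − 1, so x acts irreducibly), then the centraliser of x in GL_n(q) is cyclic of order q^n − 1 (the multiplicative group of the field with q^n elements, a Singer cycle). -/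
theorem result {F : Type*} [Field F] [Fintype F] {p q : ℕ} [Fact p.Prime] [CharP F p] (hF : Fintype.card F = q) {n r : ℕ} (hn : 1 ≤ n) (hr : r.Prime) (hrp : r ≠ p) (hi : orderOf (q : ZMod r) = n) (x : GL (Fin n) F) (hx : orderOf x = r) : IsCyclic ↥(Subgroup.centralizer ({x} : Set (GL (Fin n) F))) ∧ Nat.card ↥(Subgroup.centralizer ({x} : Set (GL (Fin n) F))) = q ^ n - 1 := by
  classical
  haveI : Fact r.Prime := ⟨hr⟩
  haveI : NeZero n := ⟨by omega⟩
  have hxr : x ^ r = 1 := hx ▸ pow_orderOf_eq_one x
  have hfix := fixed_eq_zero hF hi x hx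
  have hbt := invariant_bot_or_top hF hi x hxr hfix
  obtain ⟨v, hv⟩ : ∃ v : Fin n → F, v ≠ 0 :=
    ⟨fun _ => 1, fun h => one_ne_zero (congrFun h 0)⟩
  have hzero := eq_zero_of_commute x.val hbt
  have hcyc := exists_aeval x.val hbt v hv
  have hcomm : ∀ f : F[X], x.val * aeval x.val f = aeval x.val f * x.val := by
    intro f
    have h1 : aeval x.val (Polynomial.X * f) = aeval x.val (f * Polynomial.X) := by
      rw [mul_comm]
    simpa using h1
  have hunit : ∀ Y : Matrix (Fin n) (Fin n) F, x.val * Y = Y * x.val → Y ≠ 0 → IsUnit Y := by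
    intro Y hY hY0
    rw [← Matrix.mulVec_injective_iff_isUnit]
    intro w w' hww
    by_contra hne
    apply hY0
    apply hzero Y hY (w - w') (sub_ne_zero.mpr hne)
    rw [Matrix.mulVec_sub, hww, sub_self]
  have hpoly : ∀ Y : Matrix (Fin n) (Fin n) F, x.val * Y = Y * x.val →
      ∃ f : F[X], aeval x.val f = Y := by
    intro Y hY
    obtain ⟨f, hf⟩ := hcyc (Y *ᵥ v)
    refine ⟨f, ?_⟩
    have h0 : aeval x.val f - Y = 0 := by
      apply hzero _ _ v hv
      · rw [Matrix.sub_mulVec, hf, sub_self]
      · rw [mul_sub, sub_mul, hcomm f, hY]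
    exact sub_eq_zero.mp h0
  have hcent : ∀ g : Subgroup.centralizer ({x} : Set (GL (Fin n) F)),
      x.val * g.val.val = g.val.val * x.val := by
    intro g
    have hg : x * g.val = g.val * x := (Subgroup.mem_centralizer_iff.mp g.2) x rfl
    rw [← Units.val_mul, hg, Units.val_mul]
  constructor
  · let A := Algebra.adjoin F ({x.val} : Set (Matrix (Fin n) (Fin n) F))
    have hmemA : ∀ g : Subgroup.centralizer ({x} : Set (GL (Fin n) F)),
        (g.val.val : Matrix (Fin n) (Fin n) F) ∈ A := by
      intro g
      obtain ⟨f, hf⟩ := hpoly g.val.val (hcent g)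
      rw [← hf]
      exact Polynomial.aeval_mem_adjoin_singleton F x.val
    let φ : Subgroup.centralizer ({x} : Set (GL (Fin n) F)) →* A :=
      { toFun := fun g => ⟨g.val.val, hmemA g⟩
        map_one' := rfl
        map_mul' := fun a b => rfl }
    have hφ : Function.Injective φ := by
      intro a b hab
      apply Subtype.ext
      apply Units.ext
      exact congrArg Subtype.val hab
    haveI : NoZeroDivisors A := ⟨by
      intro a b hab
      by_cases ha : a = 0
      · left
        exact ha
      · right
        obtain ⟨f, hf⟩ := Algebra.adjoin_eq_exists_aeval F x.val a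
        have hau : IsUnit a.val :=
          hunit a.val (by rw [← hf]; exact hcomm f) (fun h => ha (Subtype.ext h))
        apply Subtype.ext
        have h0 : a.val * b.val = 0 := congrArg Subtype.val hab
        exact (hau.mul_right_eq_zero).mp h0⟩
    haveI : IsDomain A := NoZeroDivisors.to_isDomain A
    exact isCyclic_of_injective_ringHom φ hφ
  · let e : Subgroup.centralizer ({x} : Set (GL (Fin n) F)) → {u : Fin n → F // u ≠ 0} :=
      fun g => ⟨g.val.val *ᵥ v, by
        intro h
        apply hv
        have h2 := congrArg (fun w => (g.val⁻¹).val *ᵥ w) h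
        simpa [Matrix.mulVec_mulVec] using h2⟩
    have he : Function.Bijective e := by
      constructor
      · intro a b hab
        have h1 : a.val.val *ᵥ v = b.val.val *ᵥ v := congrArg Subtype.val hab
        have h0 : a.val.val - b.val.val = 0 := by
          apply hzero _ _ v hv
          · rw [Matrix.sub_mulVec, h1, sub_self]
          · rw [mul_sub, sub_mul, hcent a, hcent b]
        exact Subtype.ext (Units.ext (sub_eq_zero.mp h0))
      · rintro ⟨u, hu⟩
        obtain ⟨f, hf⟩ := hcyc u
        have hY0 : aeval x.val f ≠ 0 := by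
          intro h
          rw [h, Matrix.zero_mulVec] at hf
          exact hu hf.symm
        obtain ⟨g, hg⟩ := hunit _ (hcomm f) hY0
        refine ⟨⟨g, ?_⟩, ?_⟩
        · rw [Subgroup.mem_centralizer_iff]
          intro h hh
          rw [Set.mem_singleton_iff] at hh
          subst hh
          apply Units.ext
          rw [Units.val_mul, Units.val_mul, hg]
          exact hcomm f
        · apply Subtype.ext
          show g.val *ᵥ v = u
          rw [hg, hf]
    rw [Nat.card_congr (Equiv.ofBijective e he), Nat.card_eq_fintype_card,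
      Fintype.card_subtype_compl, Fintype.card_subtype_eq, Fintype.card_pi]
    simp [hF]

end Cfsg.Agent.S2638
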