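import Cfsg.Statements.S2639
import Cfsg.Agent.Lib.Helper44.QuadBase
import Cfsg.Agent.Lib.Helper44.TraceDown
import Cfsg.Agent.Lib.Helper44.Unitary

set_option autoImplicit false
open Cfsg

namespace Cfsg.Agent.S2639

open Cfsg.Agent.Lib.Helper44 Matrix Module


/-- The unitary group embeds in the symplectic group of twice the dimension over the subfield: for a field K with q² elements and a field F with q elements (isomorphic to the subfield of K of order q), there is an injective homomorphism GU_m(q) → Sp_2m(F). -/
theorem result {K F : Type*} [Field K] [Fintype K] [Field F] [Fintype F] {q : ℕ} (hK : Fintype.card K = q ^ 2) (hF : Fintype.card F = q) (m : ℕ) : ∃ φ : ↥(Cfsg.GU m K q) →* ↥(Matrix.symplecticGroup (Fin m) F), Function.Injective φ := by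
  classical
  obtain ⟨j⟩ := exists_ringHom_of_card_sq hF hK
  letI : Algebra F K := j.toAlgebra
  have hfr2 : finrank F K = 2 := finrank_eq_two_of_card_sq hF hK
  haveI : FiniteDimensional F K := Module.finite_of_finrank_pos (by rw [hfr2]; norm_num)
  -- trace-zero element
  have hker : LinearMap.ker (Algebra.trace F K) ≠ ⊥ :=
    LinearMap.ker_ne_bot_of_finrank_lt (by rw [Module.finrank_self, hfr2]; norm_num)
  obtain ⟨ε, hε, hε0⟩ := (Submodule.ne_bot_iff _).1 hker
  rw [LinearMap.mem_ker] at hε
  -- the form
  let ω : LinearMap.BilinForm F (Fin m → K) :=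
    LinearMap.mk₂ F (fun u v => Algebra.trace F K (ε * Cfsg.hermForm m K q u v))
      (by intro u u' v; simp only [hermForm_add_left, mul_add, map_add])
      (by
        intro c u v
        rw [← map_smul]
        congr 1
        rw [← algebraMap_smul K c u, hermForm_smul_left, Algebra.smul_def]
        ring)
      (by intro u v v'; simp only [hermForm_add_right hK, mul_add, map_add])
      (by
        intro c u v
        rw [← map_smul]
        congr 1
        rw [← algebraMap_smul K c v, hermForm_smul_right, algebraMap_pow_card hF, Algebra.smul_def]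
        ring)
  have hω : ∀ u v, ω u v = Algebra.trace F K (ε * Cfsg.hermForm m K q u v) := fun u v => rfl
  have halt : ω.IsAlt := by
    intro u
    rw [hω]
    have : Cfsg.hermForm m K q u u = algebraMap F K (∑ i, Algebra.norm F (u i)) := by
      unfold Cfsg.hermForm
      rw [map_sum]
      exact Finset.sum_congr rfl (fun i _ => (norm_eq_mul_pow hF hK (u i)).symm)
    rw [this, mul_comm, ← Algebra.smul_def, map_smul, hε, smul_zero]
  have hnd : ω.Nondegenerate :=
    nondeg_of_trace (Cfsg.hermForm m K q) ε hε0 (hermForm_smul_left m K q) (hermForm_nd m K q) ω hω halt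
  have hfr : finrank F (Fin m → K) = 2 * m := by
    rw [Module.finrank_pi_fintype]
    simp only [hfr2, Finset.sum_const, Finset.card_univ, Fintype.card_fin, smul_eq_mul]
    ring
  let ρ : ↥(Cfsg.GU m K q) →* Module.End F (Fin m → K) :=
    { toFun := fun A => (Matrix.toLin' ((A : GL (Fin m) K) : Matrix (Fin m) (Fin m) K)).restrictScalars F
      map_one' := by
        apply LinearMap.ext
        intro u
        show Matrix.toLin' (((1 : ↥(Cfsg.GU m K q)) : GL (Fin m) K) : Matrix (Fin m) (Fin m) K) u = u
        simp
      map_mul' := by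
        intro A B
        apply LinearMap.ext
        intro u
        show Matrix.toLin' (((A * B : ↥(Cfsg.GU m K q)) : GL (Fin m) K) : Matrix (Fin m) (Fin m) K) u =
          Matrix.toLin' ((A : GL (Fin m) K) : Matrix (Fin m) (Fin m) K)
            (Matrix.toLin' ((B : GL (Fin m) K) : Matrix (Fin m) (Fin m) K) u)
        simp [Matrix.toLin'_apply, Matrix.mulVec_mulVec] }
  have hρ : ∀ A u w, ω (ρ A u) (ρ A w) = ω u w := by
    intro A u w
    rw [hω, hω]
    show Algebra.trace F K (ε * Cfsg.hermForm m K q (((A : GL (Fin m) K) : Matrix (Fin m) (Fin m) K) *ᵥ u)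
      (((A : GL (Fin m) K) : Matrix (Fin m) (Fin m) K) *ᵥ w)) = _
    have := A.2 u w
    simp only [Units.coeHom_apply] at this
    rw [this]
  have hinj : Function.Injective ρ := by
    intro A B hAB
    apply Subtype.ext
    apply Units.ext
    have h1 : (Matrix.toLin' ((A : GL (Fin m) K) : Matrix (Fin m) (Fin m) K)).restrictScalars F =
        (Matrix.toLin' ((B : GL (Fin m) K) : Matrix (Fin m) (Fin m) K)).restrictScalars F := hAB
    have h2 := LinearMap.restrictScalars_injective F h1
    exact Matrix.toLin'.injective h2
  exact exists_hom_to_Sp ω halt hnd m hfr ρ hρ hinj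

end Cfsg.Agent.S2639
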