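import Cfsg.Statements.S2640
import Cfsg.Agent.Lib.Helper44.QuadBase
import Cfsg.Agent.Lib.Helper44.NormForm

set_option autoImplicit false
open Cfsg

namespace Cfsg.Agent.S2640

open Cfsg.Agent.Lib.Helper44 Matrix Module

/-- the action of `GU` on `K^m` as `F`-linear maps -/
noncomputable def guRep {F K : Type*} [Field F] [Field K] [Algebra F K] (m q : ℕ) :
    ↥(Cfsg.GU m K q) →* Module.End F (Fin m → K) where
  toFun A := (Matrix.toLin' ((A : GL (Fin m) K) : Matrix (Fin m) (Fin m) K)).restrictScalars F
  map_one' := by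
    apply LinearMap.ext
    intro u
    show Matrix.toLin' (((1 : ↥(Cfsg.GU m K q)) : GL (Fin m) K) : Matrix (Fin m) (Fin m) K) u = u
    simp
  map_mul' := by
    intro A B
    apply LinearMap.ext
    intro u
    show Matrix.toLin' (((A * B : ↥(Cfsg.GU m K q)) : GL (Fin m) K) : Matrix (Fin m) (Fin m) K) u =
      Matrix.toLin' ((A : GL (Fin m) K) : Matrix (Fin m) (Fin m) K)
        (Matrix.toLin' ((B : GL (Fin m) K) : Matrix (Fin m) (Fin m) K) u)
    simp [Matrix.toLin'_apply, Matrix.mulVec_mulVec]

theorem guRep_apply {F K : Type*} [Field F] [Field K] [Algebra F K] (m q : ℕ) (A : ↥(Cfsg.GU m K q))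
    (u : Fin m → K) :
    guRep (F := F) m q A u = ((A : GL (Fin m) K) : Matrix (Fin m) (Fin m) K) *ᵥ u := rfl

theorem guRep_injective {F K : Type*} [Field F] [Field K] [Algebra F K] (m q : ℕ) :
    Function.Injective (guRep (F := F) (K := K) m q) := by
  intro A B hAB
  apply Subtype.ext
  apply Units.ext
  have h1 : (Matrix.toLin' ((A : GL (Fin m) K) : Matrix (Fin m) (Fin m) K)).restrictScalars F =
      (Matrix.toLin' ((B : GL (Fin m) K) : Matrix (Fin m) (Fin m) K)).restrictScalars F := hAB
  have h2 := LinearMap.restrictScalars_injective F h1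
  exact Matrix.toLin'.injective h2

theorem guRep_normQ {F K : Type*} [Field F] [Fintype F] [Field K] [Fintype K] [Algebra F K] {q : ℕ}
    (hF : Fintype.card F = q) (hK : Fintype.card K = q ^ 2) (m : ℕ) (A : ↥(Cfsg.GU m K q))
    (u : Fin m → K) : normQ hF hK m (guRep (F := F) m q A u) = normQ hF hK m u := by
  apply (algebraMap F K).injective
  rw [algebraMap_normQ, algebraMap_normQ, guRep_apply]
  have := A.2 u u
  simp only [Units.coeHom_apply] at this
  exact this


/-- For m even, the unitary group GU_m(q) (over the field with q² elements) embeds in the orthogonal group O⁺_2m(q) of the hyperbolic form Σ x_i y_i over the field with q elements (there is an injective homomorphism). -/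
theorem result {K F : Type*} [Field K] [Fintype K] [Field F] [Fintype F] {q : ℕ} (hK : Fintype.card K = q ^ 2) (hF : Fintype.card F = q) (m : ℕ) (hm : Even m) : ∃ φ : ↥(Cfsg.GU m K q) →* ↥(Cfsg.isometryGroup F (Cfsg.quadFormPlus m F)), Function.Injective φ := by
  classical
  obtain ⟨j⟩ := exists_ringHom_of_card_sq hF hK
  letI : Algebra F K := j.toAlgebra
  obtain ⟨h, hh⟩ := hm
  obtain ⟨Θ, hΘ⟩ := normQ_hyperbolic hF hK m h hh
  exact exists_hom_to_isometryGroup (Cfsg.quadFormPlus m F) (normQ hF hK m) Θ hΘ (guRep m q)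
    (guRep_normQ hF hK m) (guRep_injective m q)

end Cfsg.Agent.S2640
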