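import Cfsg.Statements.S2641
import Cfsg.Agent.Lib.Helper44.Minus
import Cfsg.Agent.S2640

set_option autoImplicit false
open Cfsg

namespace Cfsg.Agent.S2641

open Cfsg.Agent.Lib.Helper44 Matrix Module

theorem aux {F K : Type*} [Field F] [Fintype F] [Field K] [Fintype K] [Algebra F K] {q : ℕ}
    (hF : Fintype.card F = q) (hK : Fintype.card K = q ^ 2) (n h : ℕ) (hn : n = h + h) (a b : F)
    (hab : ∀ z₁ z₂ : F, z₁ ^ 2 + a * z₁ * z₂ + b * z₂ ^ 2 = 0 → z₁ = 0 ∧ z₂ = 0) :
    ∃ φ : ↥(Cfsg.GU (n + 1) K q) →* ↥(Cfsg.isometryGroup F (Cfsg.quadFormMinus n F a b)),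
      Function.Injective φ := by
  classical
  have hfr : finrank F K = 2 := finrank_eq_two_of_card_sq hF hK
  have : FiniteDimensional F K := Module.finite_of_finrank_pos (by rw [hfr]; norm_num)
  obtain ⟨Θ, hΘ⟩ := normQ_hyperbolic hF hK n h hn
  obtain ⟨ψ, hψ⟩ := exists_binary_coords hF hK a b hab
  let L : (Fin (n + 1) → K) →ₗ[F] ((Fin n ⊕ Fin n) ⊕ Fin 2 → F) :=
    { toFun := fun v => Sum.elim (Θ (fun i => v (Fin.castSucc i))) (ψ.symm (v (Fin.last n)))
      map_add' := by
        intro v w
        have e1 : (fun i => (v + w) (Fin.castSucc i)) = (fun i => v (Fin.castSucc i)) + (fun i => w (Fin.castSucc i)) := rfl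
        funext x
        rcases x with x | x
        · show Θ (fun i => (v + w) (Fin.castSucc i)) x = _
          rw [e1, map_add]; rfl
        · simp only [Sum.elim_inr, Pi.add_apply, map_add]
      map_smul' := by
        intro c v
        have e1 : (fun i => (c • v) (Fin.castSucc i)) = c • (fun i => v (Fin.castSucc i)) := rfl
        funext x
        rcases x with x | x
        · show Θ (fun i => (c • v) (Fin.castSucc i)) x = _
          rw [e1, map_smul]; rfl
        · simp only [Sum.elim_inr, Pi.smul_apply, map_smul, RingHom.id_apply] }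
  have hL : ∀ v, L v = Sum.elim (Θ (fun i => v (Fin.castSucc i))) (ψ.symm (v (Fin.last n))) := fun v => rfl
  have hLinj : Function.Injective L := by
    rw [← LinearMap.ker_eq_bot, LinearMap.ker_eq_bot']
    intro v hv
    rw [hL] at hv
    have h1 : Θ (fun i => v (Fin.castSucc i)) = 0 := by
      funext x
      have := congrFun hv (Sum.inl x)
      simpa using this
    have h2 : ψ.symm (v (Fin.last n)) = 0 := by
      funext x
      have := congrFun hv (Sum.inr x)
      simpa using this
    have h1' := Θ.map_eq_zero_iff.1 h1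
    have h2' := ψ.symm.map_eq_zero_iff.1 h2
    funext i
    refine Fin.lastCases ?_ (fun i => ?_) i
    · exact h2'
    · exact congrFun h1' i
  let Θ' : (Fin (n + 1) → K) ≃ₗ[F] ((Fin n ⊕ Fin n) ⊕ Fin 2 → F) :=
    LinearMap.linearEquivOfInjective L hLinj (by
      rw [finrank_pi_K hF hK]
      simp only [Module.finrank_fintype_fun_eq_card, Fintype.card_sum, Fintype.card_fin]
      ring)
  have hΘ' : ∀ v, Cfsg.quadFormMinus n F a b (Θ' v) = normQ hF hK (n + 1) v := by
    intro v
    show Cfsg.quadFormMinus n F a b (L v) = _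
    rw [hL, normQ_apply, Fin.sum_univ_castSucc]
    unfold Cfsg.quadFormMinus
    simp only [Sum.elim_inl, Sum.elim_inr]
    have e1 := hΘ (fun i => v (Fin.castSucc i))
    unfold Cfsg.quadFormPlus at e1
    rw [normQ_apply] at e1
    rw [e1]
    have e2 := hψ (ψ.symm (v (Fin.last n)))
    rw [LinearEquiv.apply_symm_apply] at e2
    rw [e2]
  exact exists_hom_to_isometryGroup (Cfsg.quadFormMinus n F a b) (normQ hF hK (n + 1)) Θ' hΘ'
    (Cfsg.Agent.S2640.guRep (n + 1) q) (Cfsg.Agent.S2640.guRep_normQ hF hK (n + 1))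
    (Cfsg.Agent.S2640.guRep_injective (n + 1) q)


/-- For m odd, the unitary group GU_m(q) (over the field with q² elements) embeds in the orthogonal group O⁻_2m(q) of an elliptic form (Σ_(i<m−1) x_i y_i plus an anisotropic binary form) over the field with q elements (there is an injective homomorphism). -/
theorem result {K F : Type*} [Field K] [Fintype K] [Field F] [Fintype F] {q : ℕ} (hK : Fintype.card K = q ^ 2) (hF : Fintype.card F = q) (m : ℕ) (hm : Odd m) (a b : F) (hab : ∀ z₁ z₂ : F, z₁ ^ 2 + a * z₁ * z₂ + b * z₂ ^ 2 = 0 → z₁ = 0 ∧ z₂ = 0) : ∃ φ : ↥(Cfsg.GU m K q) →* ↥(Cfsg.isometryGroup F (Cfsg.quadFormMinus (m - 1) F a b)), Function.Injective φ := by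
  classical
  obtain ⟨j⟩ := exists_ringHom_of_card_sq hF hK
  letI : Algebra F K := j.toAlgebra
  obtain ⟨r, rfl⟩ := hm
  exact aux hF hK (2 * r) r (two_mul r) a b hab

end Cfsg.Agent.S2641
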