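import Cfsg.Statements.S2646
import Cfsg.Agent.Lib.Helper43.UCTransfer
import Cfsg.Agent.Lib.Helper5.UnitaryCard

set_option autoImplicit false
open Cfsg

namespace Cfsg.Agent.S2646

open Cfsg.Agent.Lib.Helper43 Cfsg.Agent.Lib.Helper43.UCDag

theorem card_GU_int {K : Type*} [Field K] [Fintype K] {q : ℕ} (hK : Fintype.card K = q ^ 2) (a : ℕ) :
    (Nat.card ↥(Cfsg.GU a K q) : ℤ) =
      (q : ℤ) ^ (a * (a - 1) / 2) * ∏ j : Fin a, ((q : ℤ) ^ ((j : ℕ) + 1) - (-1) ^ ((j : ℕ) + 1)) := by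
  have hq : 1 ≤ q := by
    have := Cfsg.Agent.Lib.Helper13.two_le_q hK
    omega
  rw [Cfsg.Agent.Lib.Helper5.card_GU hK a]
  push_cast
  congr 1
  rw [Fin.prod_univ_eq_prod_range (fun j => ((q : ℤ) ^ (j + 1) - (-1) ^ (j + 1))) a]
  apply Finset.prod_congr rfl
  intro j _
  by_cases hj : Even j
  · rw [if_pos hj]
    have : Odd (j + 1) := hj.add_one
    rw [this.neg_one_pow]
    push_cast
    ring
  · rw [if_neg hj]
    have hj' : Odd j := Nat.not_even_iff_odd.1 hj
    have : Even (j + 1) := hj'.add_one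
    rw [this.neg_one_pow]
    have h1 : 1 ≤ q ^ (j + 1) := Nat.one_le_pow _ _ hq
    push_cast [Nat.cast_sub h1]
    ring

/-- Order of the centraliser in the general unitary group GU_n(q) of a unipotent element of given Jordan type: if u ∈ GU_n(q) (isometries of Σ u_i v_i^q over the field with q² elements) is similar to the unipotent matrix with a_i Jordan blocks of size i (all sizes at least 1), then its centraliser in GU_n(q) has order q^γ · Π_i |GU_(a_i)(q)| with γ = 2 Σ_(i<j) i a_i a_j + Σ_i (i − 1) a_i², the same exponent as in GL_n(q), where |GU_a(q)| = q^(a(a−1)/2) Π_(k=1)^a (q^k − (−1)^k). -/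
theorem result {K : Type*} [Field K] [Fintype K] {q n t : ℕ} (hK : Fintype.card K = q ^ 2) (d : Fin t → ℕ) (hd : ∀ k, 1 ≤ d k) (e : ((k : Fin t) × Fin (d k)) ≃ Fin n) (u : ↥(Cfsg.GU n K q)) (hu : IsConj (Matrix.reindex e e (Cfsg.jordanTypeMatrix d K)) ((u : GL (Fin n) K) : Matrix (Fin n) (Fin n) K)) : (Nat.card ↥(Subgroup.centralizer ({u} : Set ↥(Cfsg.GU n K q))) : ℤ) = (q : ℤ) ^ (2 * (∑ i ∈ Finset.range (Finset.univ.sup d + 1), ∑ j ∈ Finset.range (Finset.univ.sup d + 1), if i < j then i * (Finset.univ.filter (fun k : Fin t => d k = i)).card * (Finset.univ.filter (fun k : Fin t => d k = j)).card else 0) + ∑ i ∈ Finset.range (Finset.univ.sup d + 1), (i - 1) * (Finset.univ.filter (fun k : Fin t => d k = i)).card ^ 2) * ∏ i ∈ Finset.range (Finset.univ.sup d + 1), ((q : ℤ) ^ ((Finset.univ.filter (fun k : Fin t => d k = i)).card * ((Finset.univ.filter (fun k : Fin t => d k = i)).card - 1) / 2) * ∏ j : Fin (Finset.univ.filter (fun k : Fin t => d k = i)).card, ((q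 : ℤ) ^ ((j : ℕ) + 1) - (-1) ^ ((j : ℕ) + 1))) := by
  rw [card_centralizer_GU d hd hK e u hu]
  push_cast
  unfold gammaExp
  congr 1
  have hcard : ∀ i : ℕ, Fintype.card {k : Fin t // d k = i} =
      (Finset.univ.filter (fun k : Fin t => d k = i)).card := by
    intro i
    rw [Fintype.card_subtype]
  unfold supD
  rw [Fin.prod_univ_eq_prod_range (fun i =>
    (Nat.card ↥(Cfsg.GU (Fintype.card {k : Fin t // d k = i}) K q) : ℤ)) (Finset.univ.sup d + 1)]
  apply Finset.prod_congr rfl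
  intro i _
  rw [hcard i, card_GU_int hK]

end Cfsg.Agent.S2646
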