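import Cfsg.Statements.S2666
-- import your own Cfsg.Agent.* helpers here

set_option autoImplicit false
open Cfsg

namespace Cfsg.Agent.S2666

theorem mem_fix {X : Type*} [Group X] (τ : MulAut X) (k : X) :
    k ∈ (MulEquiv.toMonoidHom τ).eqLocus (MonoidHom.id X) ↔ τ k = k := by
  simp [MonoidHom.eqLocus]

theorem pow_fix {X : Type*} [Group X] (σ : MulAut X) (e : ℕ) (k : X) (h : σ k = k) : (σ ^ e) k = k := by
  induction e with
  | zero => simp
  | succ n ih => rw [pow_succ, MulAut.mul_apply, h, ih]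

theorem norm_eq {X : Type*} [Group X] (σ : MulAut X) (d : ℕ) (g a : X) (ha : g = a * (σ a)⁻¹) :
    ((List.range d).map (fun i => (σ ^ i) g)).prod = a * ((σ ^ d) a)⁻¹ := by
  induction d with
  | zero => simp
  | succ n ih =>
    rw [List.range_succ, List.map_append, List.prod_append, ih]
    simp only [List.map_cons, List.map_nil, List.prod_cons, List.prod_nil, mul_one]
    rw [ha, map_mul, map_inv, pow_succ, MulAut.mul_apply]
    group

theorem comm_pow {X : Type*} [Group X] (σ : MulAut X) (e : ℕ) (y : X) : σ ((σ ^ e) y) = (σ ^ e) (σ y) := by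
  rw [← MulAut.mul_apply, ← MulAut.mul_apply, ← pow_succ, ← pow_succ']

theorem x_fixed {X : Type*} [Group X] (σ : MulAut X) (e : ℕ) (g a : X) (hg : (σ ^ e) g = g)
    (ha : g = a * (σ a)⁻¹) : σ (((σ ^ e) a)⁻¹ * a) = ((σ ^ e) a)⁻¹ * a := by
  have h1 : σ a = g⁻¹ * a := by rw [ha]; group
  rw [map_mul, map_inv, comm_pow, h1, map_mul, map_inv, hg]
  group


/-- Shintani descent, in an abstract form. Let `σ` be an automorphism of a group `X` such that the maps `a ↦ a·σ(a)⁻¹` and `a ↦ a·σᵉ(a)⁻¹` are surjective on `X` (the Lang–Steinberg property, which holds when `X` is a connected algebraic group and `σ` a Steinberg endomorphism), where `e ≥ 1`. Write `G` for the subgroup of fixed points of `σᵉ` and `H` for the subgroup of fixed points of `σ`. The `G`-conjugacy classes in the coset `G σ` of the semidirect product of `G` by `σ` correspond to the orbits of `G` on itself under twisted conjugation `g ↦ k g σ(k)⁻¹`, and the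 `e`-th power of `g σ` has `G`-part the norm `g σ(g) ⋯ σ^(e-1)(g)`. For `g` in `G` and any `a` with `g = a σ(a)⁻¹`, put `x = σᵉ(a)⁻¹ a`. Then: (1) `x` lies in `H`, and `a⁻¹ · (g σ(g) ⋯ σ^(e-1)(g)) · a = x`; (2) for `g, g'` in `G` with such elements `a, b` and `x, x'`, the elements `g, g'` are twisted-conjugate under `G` if and only if `x, x'` are conjugate in `H`; (3) every element of `H` arises as such an `x`. So `g ↦ x` induces a well-defined bijection from the twisted `G`-classes of `G` onto the conjugacy classes of `H` (the Shintani map). -/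
theorem result {X : Type*} [Group X] (σ : MulAut X) (e : ℕ) (he : 1 ≤ e)
    (hL : ∀ g : X, ∃ a : X, g = a * (σ a)⁻¹) (hLe : ∀ g : X, ∃ a : X, g = a * ((σ ^ e) a)⁻¹) :
    (∀ g ∈ (MulEquiv.toMonoidHom (σ ^ e)).eqLocus (MonoidHom.id X), ∀ a : X, g = a * (σ a)⁻¹ →
        ((σ ^ e) a)⁻¹ * a ∈ (MulEquiv.toMonoidHom σ).eqLocus (MonoidHom.id X) ∧
          a⁻¹ * ((List.range e).map (fun i => (σ ^ i) g)).prod * a = ((σ ^ e) a)⁻¹ * a) ∧
    (∀ g ∈ (MulEquiv.toMonoidHom (σ ^ e)).eqLocus (MonoidHom.id X), ∀ g' ∈ (MulEquiv.toMonoidHom (σ ^ e)).eqLocus (MonoidHom.id X), ∀ a b : X,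
        g = a * (σ a)⁻¹ → g' = b * (σ b)⁻¹ →
          ((∃ k ∈ (MulEquiv.toMonoidHom (σ ^ e)).eqLocus (MonoidHom.id X), g' = k * g * (σ k)⁻¹) ↔
            (∃ h ∈ (MulEquiv.toMonoidHom σ).eqLocus (MonoidHom.id X), ((σ ^ e) b)⁻¹ * b = h * (((σ ^ e) a)⁻¹ * a) * h⁻¹))) ∧
    (∀ x ∈ (MulEquiv.toMonoidHom σ).eqLocus (MonoidHom.id X), ∃ g ∈ (MulEquiv.toMonoidHom (σ ^ e)).eqLocus (MonoidHom.id X), ∃ a : X,
        g = a * (σ a)⁻¹ ∧ ((σ ^ e) a)⁻¹ * a = x) := by
  simp only [mem_fix]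
  refine ⟨?_, ?_, ?_⟩
  · intro g hg a ha
    refine ⟨x_fixed σ e g a hg ha, ?_⟩
    rw [norm_eq σ e g a ha]
    group
  · intro g hg g' hg' a b ha hb
    have hx := x_fixed σ e g a hg ha
    have hx' := x_fixed σ e g' b hg' hb
    set τ := σ ^ e with hτ
    constructor
    · rintro ⟨k, hk, hkg⟩
      have hu : σ (b⁻¹ * k * a) = b⁻¹ * k * a := by
        have e1 : b * (σ b)⁻¹ = k * (a * (σ a)⁻¹) * (σ k)⁻¹ := by rw [← hb, ← ha, hkg]
        rw [map_mul, map_mul, map_inv]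
        calc (σ b)⁻¹ * σ k * σ a = b⁻¹ * (b * (σ b)⁻¹) * σ k * σ a := by group
          _ = b⁻¹ * (k * (a * (σ a)⁻¹) * (σ k)⁻¹) * σ k * σ a := by rw [e1]
          _ = b⁻¹ * k * a := by group
      refine ⟨b⁻¹ * k * a, hu, ?_⟩
      have hu' : τ (b⁻¹ * k * a) = b⁻¹ * k * a := pow_fix σ e _ hu
      rw [map_mul, map_mul, map_inv, hk] at hu'
      calc (τ b)⁻¹ * b = ((τ b)⁻¹ * k * τ a) * ((τ a)⁻¹ * a) * (b⁻¹ * k * a)⁻¹ := by group
        _ = b⁻¹ * k * a * ((τ a)⁻¹ * a) * (b⁻¹ * k * a)⁻¹ := by rw [hu']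
    · rintro ⟨h, hh, hxx⟩
      have hh' : τ h = h := pow_fix σ e _ hh
      refine ⟨b * h * a⁻¹, ?_, ?_⟩
      · rw [map_mul, map_mul, map_inv, hh']
        calc τ b * h * (τ a)⁻¹ = b * ((τ b)⁻¹ * b)⁻¹ * h * ((τ a)⁻¹ * a) * a⁻¹ := by group
          _ = b * (h * ((τ a)⁻¹ * a) * h⁻¹)⁻¹ * h * ((τ a)⁻¹ * a) * a⁻¹ := by rw [hxx]
          _ = b * h * a⁻¹ := by group
      · rw [map_mul, map_mul, map_inv, hh, ha, hb]
        group
  · intro x hx
    obtain ⟨c, hc⟩ := hLe x⁻¹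
    have hx2 : x = (σ ^ e) c * c⁻¹ := by
      have : x = (x⁻¹)⁻¹ := by group
      rw [this, hc]; group
    refine ⟨c⁻¹ * (σ c⁻¹)⁻¹, ?_, c⁻¹, rfl, ?_⟩
    · have h1 : (σ ^ e) c⁻¹ = c⁻¹ * x⁻¹ := by rw [map_inv, hx2]; group
      rw [map_mul, h1, map_inv (σ ^ e) (σ c⁻¹), ← comm_pow, h1, map_mul, map_inv σ x, hx]
      group
    · rw [map_inv, hx2]; group

end Cfsg.Agent.S2666
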