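import Cfsg.Statements.S2667
-- import your own Cfsg.Agent.* helpers here

set_option autoImplicit false
open Cfsg

namespace Cfsg.Agent.S2667

theorem mem_fix {X : Type*} [Group X] (τ : MulAut X) (k : X) :
    k ∈ (MulEquiv.toMonoidHom τ).eqLocus (MonoidHom.id X) ↔ τ k = k := by
  simp [MonoidHom.eqLocus]

theorem pow_fix {X : Type*} [Group X] (σ : MulAut X) (e : ℕ) (k : X) (h : σ k = k) : (σ ^ e) k = k := by
  induction e with
  | zero => simp
  | succ n ih => rw [pow_succ, MulAut.mul_apply, h, ih]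


/-- Shintani descent, in an abstract form. Let `σ` be an automorphism of a group `X` and `e ≥ 1` (no surjectivity of the Lang maps is needed for this part; in the classical setting `X` is a connected algebraic group and `σ` a Steinberg endomorphism). Write `G` for the subgroup of fixed points of `σᵉ` and `H` for the subgroup of fixed points of `σ`. The `G`-conjugacy classes in the coset `G σ` of the semidirect product of `G` by `σ` correspond to the orbits of `G` on itself under twisted conjugation `g ↦ k g σ(k)⁻¹`, and the `e`-th power of `g σ` has `G`-part the norm `g σ(g) ⋯ σ^(e-1)(g)`. For `g` in `G` and any `a` with `g = a σ(a)⁻¹`, put `x = σᵉ(a)⁻¹ a`. Then conjugation by `a⁻¹` carries the twisted centralizer `{k ∈ G : k g σ(k)⁻¹ = g}` (the centralizer of `g σ` in `G`) exactly onto the centralizer of `x` in `H`: an element `k` of `X` lies in `G` and satisfies `k g σ(k)⁻¹ = g` if and only if `a⁻¹ k a` lies in `H` and commutes with `x`. In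 particular the two centralizers are conjugate in `X` and have the same order. -/
theorem result {X : Type*} [Group X] (σ : MulAut X) (e : ℕ) (he : 1 ≤ e)
    (g : X) (hg : g ∈ (MulEquiv.toMonoidHom (σ ^ e)).eqLocus (MonoidHom.id X)) (a : X) (ha : g = a * (σ a)⁻¹) (k : X) :
    (k ∈ (MulEquiv.toMonoidHom (σ ^ e)).eqLocus (MonoidHom.id X) ∧ k * g * (σ k)⁻¹ = g) ↔
      (a⁻¹ * k * a ∈ (MulEquiv.toMonoidHom σ).eqLocus (MonoidHom.id X) ∧
        (a⁻¹ * k * a) * (((σ ^ e) a)⁻¹ * a) = (((σ ^ e) a)⁻¹ * a) * (a⁻¹ * k * a)) := by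
  rw [mem_fix, mem_fix]
  rw [mem_fix] at hg
  set τ := σ ^ e with hτ
  constructor
  · rintro ⟨hk, hkg⟩
    have h1 : σ (a⁻¹ * k * a) = a⁻¹ * k * a := by
      rw [map_mul, map_mul, map_inv]
      rw [ha] at hkg
      have : k * a * (σ a)⁻¹ * (σ k)⁻¹ = a * (σ a)⁻¹ := by rw [← hkg]; group
      calc (σ a)⁻¹ * σ k * σ a = a⁻¹ * (a * (σ a)⁻¹) * σ k * σ a := by group
        _ = a⁻¹ * (k * a * (σ a)⁻¹ * (σ k)⁻¹) * σ k * σ a := by rw [this]
        _ = a⁻¹ * k * a := by group
    refine ⟨h1, ?_⟩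
    have h2 : τ (a⁻¹ * k * a) = a⁻¹ * k * a := pow_fix σ e _ h1
    rw [map_mul, map_mul, map_inv, hk] at h2
    calc a⁻¹ * k * a * ((τ a)⁻¹ * a) = ((τ a)⁻¹ * k * τ a) * ((τ a)⁻¹ * a) := by rw [h2]
      _ = (τ a)⁻¹ * a * (a⁻¹ * k * a) := by group
  · rintro ⟨h1, hc⟩
    have h2 : τ (a⁻¹ * k * a) = a⁻¹ * k * a := pow_fix σ e _ h1
    rw [map_mul, map_mul, map_inv] at h2
    constructor
    · have : (τ a)⁻¹ * τ k * τ a = (τ a)⁻¹ * k * τ a := by
        rw [h2]
        calc a⁻¹ * k * a = (a⁻¹ * k * a * ((τ a)⁻¹ * a)) * (a⁻¹ * τ a) := by group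
          _ = ((τ a)⁻¹ * a * (a⁻¹ * k * a)) * (a⁻¹ * τ a) := by rw [hc]
          _ = (τ a)⁻¹ * k * τ a := by group
      simpa using this
    · rw [map_mul, map_mul, map_inv] at h1
      rw [ha]
      calc k * (a * (σ a)⁻¹) * (σ k)⁻¹ = a * (a⁻¹ * k * a) * ((σ a)⁻¹ * (σ k)⁻¹) := by group
        _ = a * ((σ a)⁻¹ * σ k * σ a) * ((σ a)⁻¹ * (σ k)⁻¹) := by rw [h1]
        _ = a * (σ a)⁻¹ := by group

end Cfsg.Agent.S2667
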