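import Cfsg.Statements.S2668
-- import your own Cfsg.Agent.* helpers here

set_option autoImplicit false
open Cfsg

namespace Cfsg.Agent.S2668

theorem mem_fix {X : Type*} [Group X] (τ : MulAut X) (k : X) :
    k ∈ (MulEquiv.toMonoidHom τ).eqLocus (MonoidHom.id X) ↔ τ k = k := by
  simp [MonoidHom.eqLocus]

theorem pow_fix {X : Type*} [Group X] (σ : MulAut X) (e : ℕ) (k : X) (h : σ k = k) : (σ ^ e) k = k := by
  induction e with
  | zero => simp
  | succ n ih => rw [pow_succ, MulAut.mul_apply, h, ih]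

theorem norm_eq {X : Type*} [Group X] (σ : MulAut X) (d : ℕ) (g a : X) (ha : g = a * (σ a)⁻¹) :
    ((List.range d).map (fun i => (σ ^ i) g)).prod = a * ((σ ^ d) a)⁻¹ := by
  induction d with
  | zero => simp
  | succ n ih =>
    rw [List.range_succ, List.map_append, List.prod_append, ih]
    simp only [List.map_cons, List.map_nil, List.prod_cons, List.prod_nil, mul_one]
    rw [ha, map_mul, map_inv, pow_succ, MulAut.mul_apply]
    group


/-- Shintani descent and powers (abstract form). Let `σ` be an automorphism of a group `X`, `e ≥ 1` and `d ≥ 1`, let `g` be fixed by `σᵉ` and let `a` satisfy `g = a σ(a)⁻¹`, so that the Shintani map of `(X, σ, e)` sends the class of `g σ` to the class of `x = σᵉ(a)⁻¹ a`. Put `h = g σ(g) ⋯ σ^(d-1)(g)`, the part in `X` of the `d`-th power `(g σ)^d = h σ^d`. Then `h = a σ^d(a)⁻¹` (so `a` also serves for `h` with respect to `σ^d`), `h` is fixed by `(σ^d)ᵉ`, and `(σ^d)ᵉ(a)⁻¹ a = x^d`: the Shintani map of `(X, σ^d, e)` sends the class of `(g σ)^d`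 to the class of `x^d`. (When `d` divides `e`, the Shintani map of `(X, σ^d, e/d)` sends it to the class of `x` itself, since `(σ^d)^(e/d) = σᵉ`.) -/
theorem result {X : Type*} [Group X] (σ : MulAut X) (e d : ℕ) (he : 1 ≤ e) (hd : 1 ≤ d)
    (g : X) (hg : g ∈ (MulEquiv.toMonoidHom (σ ^ e)).eqLocus (MonoidHom.id X)) (a : X) (ha : g = a * (σ a)⁻¹) :
    ((List.range d).map (fun i => (σ ^ i) g)).prod = a * ((σ ^ d) a)⁻¹ ∧
      ((List.range d).map (fun i => (σ ^ i) g)).prod ∈ (MulEquiv.toMonoidHom ((σ ^ d) ^ e)).eqLocus (MonoidHom.id X) ∧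
      (((σ ^ d) ^ e) a)⁻¹ * a = (((σ ^ e) a)⁻¹ * a) ^ d := by
  rw [mem_fix] at hg
  rw [mem_fix]
  have hcomm : (σ ^ d) ^ e = (σ ^ e) ^ d := by rw [← pow_mul, ← pow_mul, mul_comm]
  set τ := σ ^ e with hτ
  have hx : σ ((τ a)⁻¹ * a) = (τ a)⁻¹ * a := by
    have h1 : σ a = g⁻¹ * a := by rw [ha]; group
    have h2 : σ (τ a) = τ (σ a) := by
      rw [hτ, ← MulAut.mul_apply, ← MulAut.mul_apply, ← pow_succ, ← pow_succ']
    rw [map_mul, map_inv, h2, h1, map_mul, map_inv, hg]
    group
  have hx' : τ ((τ a)⁻¹ * a) = (τ a)⁻¹ * a := pow_fix σ e _ hx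
  refine ⟨norm_eq σ d g a ha, ?_, ?_⟩
  · rw [hcomm]
    have : ∀ y : X, τ y = y → ((τ ^ d) y = y) := fun y hy => pow_fix τ d y hy
    rw [map_list_prod]
    congr 1
    rw [List.map_map]
    apply List.map_congr_left
    intro i _
    simp only [Function.comp]
    apply this
    rw [hτ, ← MulAut.mul_apply, ← pow_add, add_comm, pow_add, MulAut.mul_apply, ← hτ, hg]
  · rw [hcomm]
    clear hcomm
    induction d with
    | zero => simp
    | succ n ih =>
      have hn : 1 ≤ n ∨ n = 0 := by omega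
      rcases hn with hn | hn
      · have ih' := ih hn
        rw [pow_succ' τ n, MulAut.mul_apply, pow_succ, ← ih']
        have : τ (((τ ^ n) a)⁻¹ * a) = ((τ ^ n) a)⁻¹ * a := by
          rw [ih']
          rw [map_pow, hx']
        rw [← this]
        rw [map_mul, map_inv]
        group
      · subst hn
        simp

end Cfsg.Agent.S2668
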