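import Cfsg.Statements.S2669
-- import your own Cfsg.Agent.* helpers here

set_option autoImplicit false
open Cfsg

namespace Cfsg.Agent.S2669

theorem mem_fix {X : Type*} [Group X] (τ : MulAut X) (k : X) :
    k ∈ (MulEquiv.toMonoidHom τ).eqLocus (MonoidHom.id X) ↔ τ k = k := by
  simp [MonoidHom.eqLocus]

theorem pow_fix {X : Type*} [Group X] (σ : MulAut X) (e : ℕ) (k : X) (h : σ k = k) : (σ ^ e) k = k := by
  induction e with
  | zero => simp
  | succ n ih => rw [pow_succ, MulAut.mul_apply, h, ih]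

theorem comm_pow {X : Type*} [Group X] (σ : MulAut X) (e : ℕ) (y : X) : σ ((σ ^ e) y) = (σ ^ e) (σ y) := by
  rw [← MulAut.mul_apply, ← MulAut.mul_apply, ← pow_succ, ← pow_succ']

theorem pow_mem {X : Type*} [Group X] (σ : MulAut X) (Y : Subgroup X) (hY : ∀ y : X, y ∈ Y ↔ σ y ∈ Y)
    (e : ℕ) (y : X) (h : y ∈ Y) : (σ ^ e) y ∈ Y := by
  induction e with
  | zero => simpa using h
  | succ n ih => rw [pow_succ', MulAut.mul_apply]; exact (hY _).1 ih

theorem card_torsor {T A C : Type*} (f : T → A) (act : T → C → T) (hsurj : Function.Surjective f)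
    (hf : ∀ t c, f (act t c) = f t) (hfree : ∀ t c c', act t c = act t c' → c = c')
    (htrans : ∀ t t', f t = f t' → ∃ c, t' = act t c) : Nat.card T = Nat.card A * Nat.card C := by
  rw [← Nat.card_prod]
  symm
  apply Nat.card_congr
  refine Equiv.ofBijective (fun p : A × C => act (Function.surjInv hsurj p.1) p.2) ⟨?_, ?_⟩
  · rintro ⟨k, c⟩ ⟨k', c'⟩ h
    simp only at h
    have h1 := congrArg f h
    rw [hf, hf, Function.surjInv_eq hsurj, Function.surjInv_eq hsurj] at h1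
    subst h1
    have := hfree _ _ _ h
    rw [this]
  · intro t
    obtain ⟨c, hc⟩ := htrans (Function.surjInv hsurj (f t)) t (Function.surjInv_eq hsurj (f t))
    exact ⟨(f t, c), hc.symm⟩


/-- Shintani descent preserves numbers of fixed points on coset spaces (abstract form). Let `σ` be an automorphism of a group `X` and `e ≥ 1`; write `G` for the fixed points of `σᵉ` and `H` for the fixed points of `σ`, and assume `G` is finite. Let `Y` be a `σ`-stable subgroup of `X` on which the maps `a ↦ a σ(a)⁻¹` and `a ↦ a σᵉ(a)⁻¹` are surjective (as for a closed connected `σ`-stable subgroup of an algebraic group). Let `g ∈ G`, let `a ∈ X` satisfy `g = a σ(a)⁻¹` and put `x = σᵉ(a)⁻¹ a` (the Shintani image, an element of `H`). The element `g σ` of the semidirect product acts on the cosets of `Y ∩ G` in `G` by `k (Y ∩ G) ↦ g σ(k) (Y ∩ G)`, fixing that coset exactly when `k⁻¹ g σ(k) ∈ Y`; and `x` fixes the coset `h (Y ∩ H)`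 of `H` exactly when `h⁻¹ x h ∈ Y`. Then the two numbers of fixed cosets agree; in cross-multiplied form, `#{k ∈ G : k⁻¹ g σ(k) ∈ Y} · |Y ∩ H| = #{h ∈ H : h⁻¹ x h ∈ Y} · |Y ∩ G|`. -/
theorem result {X : Type*} [Group X] (σ : MulAut X) (e : ℕ) (he : 1 ≤ e)
    [Finite ↥((MulEquiv.toMonoidHom (σ ^ e)).eqLocus (MonoidHom.id X))]
    (Y : Subgroup X) (hY : ∀ y : X, y ∈ Y ↔ σ y ∈ Y)
    (hYL : ∀ y ∈ Y, ∃ a ∈ Y, y = a * (σ a)⁻¹) (hYLe : ∀ y ∈ Y, ∃ a ∈ Y, y = a * ((σ ^ e) a)⁻¹)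
    (g : X) (hg : g ∈ (MulEquiv.toMonoidHom (σ ^ e)).eqLocus (MonoidHom.id X)) (a : X) (ha : g = a * (σ a)⁻¹) :
    Nat.card {k : ↥((MulEquiv.toMonoidHom (σ ^ e)).eqLocus (MonoidHom.id X)) // (k : X)⁻¹ * g * σ k ∈ Y} *
        Nat.card ↥(Y ⊓ (MulEquiv.toMonoidHom σ).eqLocus (MonoidHom.id X)) =
      Nat.card {h : ↥((MulEquiv.toMonoidHom σ).eqLocus (MonoidHom.id X)) // (h : X)⁻¹ * (((σ ^ e) a)⁻¹ * a) * h ∈ Y} *
        Nat.card ↥(Y ⊓ (MulEquiv.toMonoidHom (σ ^ e)).eqLocus (MonoidHom.id X)) := by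
  rw [mem_fix] at hg
  set τ := σ ^ e with hτ
  set x := (τ a)⁻¹ * a with hx
  have hσa : σ a = g⁻¹ * a := by rw [ha]; group
  have hτa : τ a = a * x⁻¹ := by rw [hx]; group
  have hτY : ∀ y ∈ Y, τ y ∈ Y := fun y hy => pow_mem σ Y hY e y hy
  let T := {p : X × X // p.1 ∈ Y ∧ σ p.2 = p.2 ∧ p.2⁻¹ * x * p.2 = (τ p.1)⁻¹ * p.1}
  -- first map
  have key1 : Nat.card T = Nat.card {k : ↥((MulEquiv.toMonoidHom τ).eqLocus (MonoidHom.id X)) // (k : X)⁻¹ * g * σ k ∈ Y} *
      Nat.card ↥(Y ⊓ (MulEquiv.toMonoidHom σ).eqLocus (MonoidHom.id X)) := by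
    refine card_torsor (T := T)
      (f := fun t => ⟨⟨a * t.1.2 * t.1.1⁻¹, ?_⟩, ?_⟩)
      (act := fun t c => ⟨(t.1.1 * c.1, t.1.2 * c.1), ?_, ?_, ?_⟩) ?_ ?_ ?_ ?_
    · obtain ⟨⟨y, h⟩, hy, hh, hyh⟩ := t
      rw [mem_fix]
      simp only
      simp only at hyh hh hy
      have hh' : τ h = h := pow_fix σ e h hh
      rw [map_mul, map_mul, map_inv, hh', hτa]
      calc a * x⁻¹ * h * (τ y)⁻¹ = a * h * (h⁻¹ * x * h)⁻¹ * (τ y)⁻¹ := by group
        _ = a * h * ((τ y)⁻¹ * y)⁻¹ * (τ y)⁻¹ := by rw [hyh]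
        _ = a * h * y⁻¹ := by group
    · obtain ⟨⟨y, h⟩, hy, hh, hyh⟩ := t
      simp only
      simp only at hyh hh hy
      have : (a * h * y⁻¹)⁻¹ * g * σ (a * h * y⁻¹) = y * (σ y)⁻¹ := by
        rw [map_mul, map_mul, map_inv, hh, hσa]
        group
      rw [this]
      exact Y.mul_mem hy (Y.inv_mem ((hY y).1 hy))
    · exact Y.mul_mem t.2.1 c.2.1
    · have hc : σ c.1 = c.1 := (mem_fix σ _).1 (Subgroup.mem_inf.1 c.2).2
      simp only
      rw [map_mul, t.2.2.1, hc]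
    · have hc : σ c.1 = c.1 := (mem_fix σ _).1 (Subgroup.mem_inf.1 c.2).2
      have hc' : τ c.1 = c.1 := pow_fix σ e _ hc
      have := t.2.2.2
      simp only
      rw [map_mul, hc']
      calc (t.1.2 * c.1)⁻¹ * x * (t.1.2 * c.1) = (c.1)⁻¹ * (t.1.2⁻¹ * x * t.1.2) * c.1 := by group
        _ = (c.1)⁻¹ * ((τ t.1.1)⁻¹ * t.1.1) * c.1 := by rw [this]
        _ = (τ t.1.1 * c.1)⁻¹ * (t.1.1 * c.1) := by group
    · -- surjective
      rintro ⟨⟨k, hk⟩, hkY⟩
      rw [mem_fix] at hk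
      simp only at hkY
      obtain ⟨y, hy, hyk⟩ := hYL _ hkY
      have hh : σ (a⁻¹ * k * y) = a⁻¹ * k * y := by
        rw [map_mul, map_mul, map_inv, hσa]
        calc (g⁻¹ * a)⁻¹ * σ k * σ y = a⁻¹ * k * (k⁻¹ * g * σ k) * σ y := by group
          _ = a⁻¹ * k * (y * (σ y)⁻¹) * σ y := by rw [hyk]
          _ = a⁻¹ * k * y := by group
      have hk2 : a * (a⁻¹ * k * y) * y⁻¹ = k := by group
      refine ⟨⟨(y, a⁻¹ * k * y), hy, hh, ?_⟩, ?_⟩
      · simp only
        have h3 : τ (a⁻¹ * k * y) = a⁻¹ * k * y := pow_fix σ e _ hh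
        rw [map_mul, map_mul, map_inv, hk] at h3
        have h4 : (τ a)⁻¹ * k = a⁻¹ * k * y * (τ y)⁻¹ := by rw [← h3]; group
        calc (a⁻¹ * k * y)⁻¹ * x * (a⁻¹ * k * y) = y⁻¹ * k⁻¹ * a * ((τ a)⁻¹ * k) * y := by
              rw [hx]; group
          _ = y⁻¹ * k⁻¹ * a * (a⁻¹ * k * y * (τ y)⁻¹) * y := by rw [h4]
          _ = (τ y)⁻¹ * y := by group
      · simp only
        apply Subtype.ext
        apply Subtype.ext
        simp only
        exact hk2
    · intro t c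
      apply Subtype.ext
      apply Subtype.ext
      simp only
      group
    · intro t c c' h
      have := congrArg (fun t : T => t.1.1) h
      simp only at this
      exact Subtype.ext (mul_left_cancel this)
    · rintro ⟨⟨y, h⟩, hy, hh, hyh⟩ ⟨⟨y', h'⟩, hy', hh', hyh'⟩ heq
      simp only at hy hh hyh hy' hh' hyh'
      have heq' := congrArg (fun k => (k.1 : X)) heq
      simp only at heq'
      have e1 : h⁻¹ * h' = y⁻¹ * y' := by
        calc h⁻¹ * h' = (a * h)⁻¹ * (a * h' * y'⁻¹) * y' := by group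
          _ = (a * h)⁻¹ * (a * h * y⁻¹) * y' := by rw [heq']
          _ = y⁻¹ * y' := by group
      refine ⟨⟨y⁻¹ * y', Y.mul_mem (Y.inv_mem hy) hy', ?_⟩, ?_⟩
      · refine (mem_fix σ _).2 ?_
        rw [← e1, map_mul, map_inv, hh, hh']
      · apply Subtype.ext
        simp only
        rw [← e1]
        refine Prod.ext ?_ ?_ <;> simp only
        · rw [e1]; group
        · group
  have key2 : Nat.card T = Nat.card {h : ↥((MulEquiv.toMonoidHom σ).eqLocus (MonoidHom.id X)) // (h : X)⁻¹ * x * h ∈ Y} *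
      Nat.card ↥(Y ⊓ (MulEquiv.toMonoidHom τ).eqLocus (MonoidHom.id X)) := by
    refine card_torsor (T := T)
      (f := fun t => ⟨⟨t.1.2, (mem_fix σ _).2 t.2.2.1⟩, ?_⟩)
      (act := fun t d => ⟨(d.1 * t.1.1, t.1.2), ?_, ?_, ?_⟩) ?_ ?_ ?_ ?_
    · simp only
      rw [t.2.2.2]
      exact Y.mul_mem (Y.inv_mem (hτY _ t.2.1)) t.2.1
    · exact Y.mul_mem d.2.1 t.2.1
    · exact t.2.2.1
    · have hd : τ d.1 = d.1 := (mem_fix τ _).1 (Subgroup.mem_inf.1 d.2).2
      simp only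
      rw [map_mul, hd, t.2.2.2]
      group
    · rintro ⟨⟨h, hh⟩, hhY⟩
      simp only at hhY
      obtain ⟨w, hw, hwz⟩ := hYLe _ (Y.inv_mem hhY)
      refine ⟨⟨(w⁻¹, h), Y.inv_mem hw, (mem_fix σ _).1 hh, ?_⟩, ?_⟩
      · simp only
        rw [map_inv]
        calc h⁻¹ * x * h = ((h⁻¹ * x * h)⁻¹)⁻¹ := by group
          _ = (w * (τ w)⁻¹)⁻¹ := by rw [hwz]
          _ = ((τ w)⁻¹)⁻¹ * w⁻¹ := by group
      · rfl
    · intro t d
      rfl
    · intro t d d' h
      have := congrArg (fun t : T => t.1.1) h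
      simp only at this
      exact Subtype.ext (mul_right_cancel this)
    · rintro ⟨⟨y, h⟩, hy, hh, hyh⟩ ⟨⟨y', h'⟩, hy', hh', hyh'⟩ heq
      simp only at hy hh hyh hy' hh' hyh'
      have heq' := congrArg (fun k => (k.1 : X)) heq
      simp only at heq'
      subst heq'
      refine ⟨⟨y' * y⁻¹, Y.mul_mem hy' (Y.inv_mem hy), ?_⟩, ?_⟩
      · refine (mem_fix τ _).2 ?_
        rw [map_mul, map_inv]
        calc τ y' * (τ y)⁻¹ = y' * ((τ y')⁻¹ * y')⁻¹ * (τ y)⁻¹ := by group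
          _ = y' * (h⁻¹ * x * h)⁻¹ * (τ y)⁻¹ := by rw [hyh']
          _ = y' * ((τ y)⁻¹ * y)⁻¹ * (τ y)⁻¹ := by rw [hyh]
          _ = y' * y⁻¹ := by group
      · apply Subtype.ext
        simp only
        refine Prod.ext ?_ rfl
        simp only
        group
  rw [← key1, ← key2]

end Cfsg.Agent.S2669
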