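import Cfsg.Statements.S2670
import Cfsg.Agent.Lib.Helper44.ProjPrimeMain

set_option autoImplicit false
open Cfsg

namespace Cfsg.Agent.S2670

theorem center_iff' {F : Type*} [Field F] {n : ℕ} (g : GL (Fin n) F) :
    g ∈ Subgroup.center (GL (Fin n) F) ↔
      ∃ a : F, (Units.coeHom (Matrix (Fin n) (Fin n) F)) g = a • (1 : Matrix (Fin n) (Fin n) F) := by
  rw [Matrix.GeneralLinearGroup.mem_center_iff_val_mem_range_scalar]
  constructor
  · rintro ⟨a, ha⟩
    refine ⟨a, ?_⟩
    rw [Units.coeHom_apply, ← ha, Matrix.scalar_apply, Matrix.smul_one_eq_diagonal]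
  · rintro ⟨a, ha⟩
    refine ⟨a, ?_⟩
    rw [Units.coeHom_apply] at ha
    rw [ha, Matrix.scalar_apply, Matrix.smul_one_eq_diagonal]

/-- the scalar unit -/
noncomputable def scalarUnit {F : Type*} [Field F] {n : ℕ} (s : F) (hs : s ≠ 0) : GL (Fin n) F :=
  ⟨s • 1, s⁻¹ • 1, by rw [Matrix.smul_mul, Matrix.mul_smul, mul_one, smul_smul,
      mul_inv_cancel₀ hs, one_smul],
    by rw [Matrix.smul_mul, Matrix.mul_smul, mul_one, smul_smul, inv_mul_cancel₀ hs, one_smul]⟩


/-- Number of conjugacy classes of elements of prime order r in PGL_n(q) = GL_n(q)/scalars when r divides q − 1 (n ≥ 2): the classes of elements with a diagonalisable lift correspond to the orbits of the cyclic rotation on the r-tuples of eigenvalue multiplicities (a_0, …, a_(r−1)) summing to n with every a_j < n, and when r divides n there are r − 1 further classes (lifts acting irreducibly on blocks of size r); in all (C(n+r−1, r−1) − r − [r ∣ n])/r + r·[r ∣ n] classes. -/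
theorem result {F : Type*} [Field F] [Fintype F] {q : ℕ} (hF : Fintype.card F = q) {n r : ℕ} (hn : 2 ≤ n) (hr : r.Prime) (hrq : r ∣ q - 1) : Nat.card {C : ConjClasses (GL (Fin n) F ⧸ Subgroup.center (GL (Fin n) F)) // ∃ g : GL (Fin n) F ⧸ Subgroup.center (GL (Fin n) F), ConjClasses.mk g = C ∧ orderOf g = r} = (Nat.choose (n + r - 1) (r - 1) - r - (if r ∣ n then 1 else 0)) / r + r * (if r ∣ n then 1 else 0) := by
  classical
  haveI : Fact r.Prime := ⟨hr⟩
  have hn1 : 1 ≤ n := by omega
  obtain ⟨p, hp⟩ := CharP.exists F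
  haveI := hp
  haveI : Fact p.Prime := ⟨CharP.char_is_prime F p⟩
  have hq2 : 2 ≤ q := by
    rw [← hF]
    exact Fintype.one_lt_card
  have hq1 : q - 1 ≠ 0 := by omega
  have hNK : ((q - 1 : ℕ) : F) ≠ 0 := by
    rw [Nat.cast_sub (by omega), ← hF, Nat.cast_card_eq_zero, Nat.cast_one, zero_sub]
    exact neg_ne_zero.2 one_ne_zero
  -- a generator of the multiplicative group
  obtain ⟨u, hu⟩ := IsCyclic.exists_generator (α := Fˣ)
  have hou : orderOf u = q - 1 := by
    rw [orderOf_eq_card_of_forall_mem_zpowers hu, Nat.card_eq_fintype_card, Fintype.card_units, hF]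
  have hγ : IsPrimitiveRoot (u : F) (q - 1) := by
    rw [← hou, ← orderOf_units]
    exact IsPrimitiveRoot.orderOf _
  have hpow1 : ∀ c : F, c ≠ 0 → c ^ (q - 1) = 1 := by
    intro c hc
    rw [← hF]
    exact FiniteField.pow_card_sub_one_eq_one c hc
  have hne0 : ∀ c : F, c ^ (q - 1) = 1 → c ≠ 0 := by
    rintro c hc rfl
    rw [zero_pow hq1] at hc
    exact zero_ne_one hc
  let D : Cfsg.Agent.Lib.Helper44.ProjPrime.Data F n r (q - 1) (GL (Fin n) F) :=
    { mat := Units.coeHom (Matrix (Fin n) (Fin n) F)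
      γ := (u : F)
      hγ := hγ
      center_iff := fun g => center_iff' g
      scalar_iff := by
        intro c
        constructor
        · rintro ⟨g, hg⟩
          apply hpow1
          rintro rfl
          have h1 : ((g : Matrix (Fin n) (Fin n) F)) = 0 := by
            rw [show ((g : Matrix (Fin n) (Fin n) F)) = (0 : F) • (1 : Matrix (Fin n) (Fin n) F)
              from hg, zero_smul]
          have h2 : (g : Matrix (Fin n) (Fin n) F) * ((g⁻¹ : GL (Fin n) F) : Matrix (Fin n) (Fin n) F)
              = 1 := by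
            rw [← Units.val_mul, mul_inv_cancel, Units.val_one]
          rw [h1, zero_mul] at h2
          have h3 := congrFun (congrFun h2 ⟨0, hn1⟩) ⟨0, hn1⟩
          simp at h3
        · intro hc
          exact ⟨scalarUnit c (hne0 c hc), rfl⟩
      conj := by
        intro g h hg hh hc
        obtain ⟨Pm, hPm⟩ := Cfsg.Agent.Lib.Helper40.SemisimpleConj.exists_GL_conj
          (g : Matrix (Fin n) (Fin n) F) (h : Matrix (Fin n) (Fin n) F) (r * (q - 1))
          (Cfsg.Agent.Lib.Helper44.ProjPrime.rN_ne_zero_K hrq hNK) hg hh hc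
        rw [isConj_iff]
        refine ⟨Pm, ?_⟩
        have h1 : Pm * g = h * Pm := Units.ext hPm
        rw [h1, mul_inv_cancel_right]
      Good := fun f => f.coeff 0 ≠ 0
      exists_of_good := by
        intro f hfm hfd hf0
        obtain ⟨g, _, hcp, hk⟩ :=
          Cfsg.Agent.Lib.Helper40.PrimeOrder.exists_GL_of_charpoly' p n f hfm hfd hf0
        refine ⟨g, hcp, ?_⟩
        intro k hkk
        have h1 := congrArg (fun x : GL (Fin n) F => (x : Matrix (Fin n) (Fin n) F)) (hk k hkk)
        simpa using h1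
      good_P := by
        intro s
        apply Cfsg.Agent.Lib.Helper44.ProjPrime.P_coeff_zero_ne_zero
        exact pow_ne_zero _ (Units.ne_zero u)
      good_Q := by
        intro lam hlam m
        exact Cfsg.Agent.Lib.Helper44.ProjPrime.Q_coeff_zero_ne_zero hr.ne_zero lam (hne0 lam hlam) m
      pow_mem := by
        intro c hc
        refine ⟨c, hpow1 c ?_, rfl⟩
        rintro rfl
        rw [zero_pow hr.ne_zero, zero_pow hq1] at hc
        exact zero_ne_one hc }
  exact Cfsg.Agent.Lib.Helper44.ProjPrime.main D hrq hNK hn1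

end Cfsg.Agent.S2670
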