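import Cfsg.Statements.S2673
import Cfsg.Agent.Lib.Helper43.OddOrthPrime

set_option autoImplicit false
open Cfsg

namespace Cfsg.Agent.S2673

/-- Number of conjugacy classes of elements of odd prime order r ≠ p in the orthogonal group O_(2m+1)(q) of x_0² + Σ x_j y_j, q odd: with i the multiplicative order of q mod r and t = (r − 1)/i, there are C(⌊m/i⌋ + t/2, t/2) − 1 classes if i is odd (dual pairs of totally singular i-blocks) and C(⌊(2m+1)/i⌋ + t, t) − 1 if i is even (elliptic i-blocks). -/
theorem result {F : Type*} [Field F] [Fintype F] {p q : ℕ} [Fact p.Prime] [CharP F p] (hF : Fintype.card F = q) (hq : Odd q) (m r i t : ℕ) (hr : r.Prime) (hr2 : r ≠ 2) (hrp : r ≠ p) (hi : i = orderOf (q : ZMod r)) (ht : t * i = r - 1) : Nat.card {C : ConjClasses ↥(Cfsg.isometryGroup F (Cfsg.quadFormOdd m F)) // ∃ g : ↥(Cfsg.isometryGroup F (Cfsg.quadFormOdd m F)), ConjClasses.mk g = C ∧ orderOf g = r} = if Odd i then Nat.choose (m / i + t / 2) (t / 2) - 1 else Nat.choose ((2 * m + 1) / i + t) t - 1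 := by
  subst hF
  have h2 : (2 : F) ≠ 0 := by
    intro h0
    have h1 : ringChar F ∣ 2 := by
      apply ringChar.dvd
      exact_mod_cast h0
    have h3 : ringChar F = 2 := by
      rcases (Nat.dvd_prime Nat.prime_two).1 h1 with h | h
      · exact absurd h (CharP.ringChar_ne_one)
      · exact h
    have h4 := FiniteField.even_card_iff_char_two.1 h3
    rcases hq with ⟨k, hk⟩
    omega
  rw [Cfsg.Agent.Lib.Helper43.OddOrth.card_orth_classes_eq p h2 m r i hr hr2 hrp hi,
    ← Cfsg.Agent.Lib.Helper40.Symp.card_sp_classes_eq p m r i hr hrp hi,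
    Cfsg.Agent.Lib.Helper40.Symp.card_sp_prime_order p m r i t hr hr2 hrp hi ht]
  by_cases hodd : Odd i
  · rw [if_pos hodd, if_pos hodd]
  · rw [if_neg hodd, if_neg hodd]
    obtain ⟨j, hj⟩ := Nat.not_odd_iff_even.1 hodd
    have hj2 : i = 2 * j := by omega
    have e1 : (2 * m + 1) / i = 2 * m / i := by
      rw [hj2, ← Nat.div_div_eq_div_mul, ← Nat.div_div_eq_div_mul]
      congr 1
      omega
    rw [e1]

end Cfsg.Agent.S2673
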