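import Cfsg.Statements.S2674
import Cfsg.Agent.Lib.Helper43.OrthEvenClasses
import Cfsg.Agent.Lib.Helper43.OrthPrimeCount

set_option autoImplicit false
open Cfsg

namespace Cfsg.Agent.S2674

open Cfsg.Agent.Lib.Helper43.OrthGen Cfsg.Agent.Lib.Helper40.PrimeOrder

/-- Number of conjugacy classes of elements of odd prime order r ≠ p in the orthogonal group O⁺_2m(q) of Σ x_j y_j (m ≥ 1): with i the multiplicative order of q mod r and t = (r − 1)/i — if i is odd, C(⌊m/i⌋ + t/2, t/2) − 1; if i is even, C(⌊2m/i⌋ + t, t) − 1 minus, when i divides 2m with odd quotient, the C(2m/i + t − 1, t − 1) tuples using the whole space (an odd number of elliptic i-blocks fills an elliptic, not a hyperbolic, space). -/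
theorem result {F : Type*} [Field F] [Fintype F] {p q : ℕ} [Fact p.Prime] [CharP F p] (hF : Fintype.card F = q) (m r i t : ℕ) (hm : 1 ≤ m) (hr : r.Prime) (hr2 : r ≠ 2) (hrp : r ≠ p) (hi : i = orderOf (q : ZMod r)) (ht : t * i = r - 1) : Nat.card {C : ConjClasses ↥(Cfsg.isometryGroup F (Cfsg.quadFormPlus m F)) // ∃ g : ↥(Cfsg.isometryGroup F (Cfsg.quadFormPlus m F)), ConjClasses.mk g = C ∧ orderOf g = r} = if Odd i then Nat.choose (m / i + t / 2) (t / 2) - 1 else Nat.choose (2 * m / i + t) t - 1 - (if i ∣ 2 * m ∧ Odd (2 * m / i) then Nat.choose (2 * m / i + t - 1) (t - 1) else 0) := by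
  subst hF
  have hr2' := hr.two_le
  have hi1 : 1 ≤ i := by
    rcases Nat.eq_zero_or_pos i with h | h
    · subst h
      rw [mul_zero] at ht
      omega
    · exact h
  have ht1 : 1 ≤ t := by
    rcases Nat.eq_zero_or_pos t with h | h
    · subst h
      rw [zero_mul] at ht
      omega
    · exact h
  rw [card_plus_classes p m r i t hm hr hr2 hrp hi ht]
  refine (card_palin_multisets p m r i t hr hr2 hrp hi ht
    (fun n => i * n = 2 * m → Odd i ∨ Even n)).trans ?_
  by_cases hodd : Odd i
  · rw [if_pos hodd, if_pos hodd]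
    have hiff : ∀ N : Multiset (Fin (t / 2)),
        (N ≠ 0 ∧ i * Multiset.card N ≤ m ∧
          (i * (2 * Multiset.card N) = 2 * m → Odd i ∨ Even (2 * Multiset.card N))) ↔
        (N ≠ 0 ∧ i * Multiset.card N ≤ m) := by
      intro N
      constructor
      · intro h
        exact ⟨h.1, h.2.1⟩
      · intro h
        exact ⟨h.1, h.2, fun _ => Or.inl hodd⟩
    rw [Nat.card_congr (Equiv.subtypeEquivRight hiff), card_multiset_ne_zero_le (t / 2) i m hi1]
  · rw [if_neg hodd, if_neg hodd]
    have hiff : ∀ M' : Multiset (Fin t),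
        (M' ≠ 0 ∧ i * Multiset.card M' ≤ 2 * m ∧
          (i * Multiset.card M' = 2 * m → Odd i ∨ Even (Multiset.card M'))) ↔
        (M' ≠ 0 ∧ i * Multiset.card M' ≤ 2 * m ∧
          ¬ (i * Multiset.card M' = 2 * m ∧ Odd (Multiset.card M'))) := by
      intro M'
      refine and_congr_right (fun _ => and_congr_right (fun _ => ?_))
      constructor
      · rintro h ⟨h1, h2⟩
        rcases h h1 with h3 | h3
        · exact hodd h3
        · exact (Nat.not_even_iff_odd.2 h2) h3
      · intro h h1
        right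
        by_contra h2
        exact h ⟨h1, Nat.not_even_iff_odd.1 h2⟩
    rw [Nat.card_congr (Equiv.subtypeEquivRight hiff),
      card_multiset_pred_sub t i (2 * m) hi1 ht1 (by omega) Odd]

end Cfsg.Agent.S2674
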