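import Cfsg.Statements.S2675
import Cfsg.Agent.Lib.Helper43.OrthEvenClasses
import Cfsg.Agent.Lib.Helper43.OrthPrimeCount

set_option autoImplicit false
open Cfsg

namespace Cfsg.Agent.S2675

open Cfsg.Agent.Lib.Helper43.OrthGen Cfsg.Agent.Lib.Helper40.PrimeOrder

/-- Number of conjugacy classes of elements of odd prime order r ≠ p in the orthogonal group O⁻_2m(q) of an elliptic form Σ_(j<m−1) x_j y_j + z₁² + a z₁z₂ + c z₂² (binary part anisotropic, m ≥ 1): with i the multiplicative order of q mod r and t = (r − 1)/i — if i is odd, C(⌊m/i⌋ + t/2, t/2) − 1 minus, when i divides m, the C(m/i + t/2 − 1, t/2 − 1) tuples filling the whole space (dual pairs of totally singular blocks fill a hyperbolic space); if i is even, C(⌊2m/i⌋ + t, t) − 1 minus, when i divides 2m with even quotient, the C(2m/i + t − 1, t − 1) tuples filling the whole space with an even number of elliptic blocks. -/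
theorem result {F : Type*} [Field F] [Fintype F] {p q : ℕ} [Fact p.Prime] [CharP F p] (hF : Fintype.card F = q) (m r i t : ℕ) (hm : 1 ≤ m) (a c : F) (hac : ∀ z₁ z₂ : F, z₁ ^ 2 + a * z₁ * z₂ + c * z₂ ^ 2 = 0 → z₁ = 0 ∧ z₂ = 0) (hr : r.Prime) (hr2 : r ≠ 2) (hrp : r ≠ p) (hi : i = orderOf (q : ZMod r)) (ht : t * i = r - 1) : Nat.card {C : ConjClasses ↥(Cfsg.isometryGroup F (Cfsg.quadFormMinus (m - 1) F a c)) // ∃ g : ↥(Cfsg.isometryGroup F (Cfsg.quadFormMinus (m - 1) F a c)), ConjClasses.mk g = C ∧ orderOf g = r} = if Odd i then Nat.choose (m / i + t / 2) (t / 2) - 1 - (if i ∣ m then Nat.choose (m / i + t / 2 - 1) (t / 2 - 1) else 0) else Nat.choose (2 * m / i + t) t - 1 - (if i ∣ 2 * m ∧ Even (2 * m / i) then Nat.choose (2 * m / i + t - 1) (t - 1) else 0) := by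
  subst hF
  have hr2' := hr.two_le
  have hrodd : Odd r := hr.odd_of_ne_two hr2
  have hi1 : 1 ≤ i := by
    rcases Nat.eq_zero_or_pos i with h | h
    · subst h
      rw [mul_zero] at ht
      omega
    · exact h
  have ht1 : 1 ≤ t := by
    rcases Nat.eq_zero_or_pos t with h | h
    · subst h
      rw [zero_mul] at ht
      omega
    · exact h
  rw [card_minus_classes p m r i t hm a c hac hr hr2 hrp hi ht]
  refine (card_palin_multisets p m r i t hr hr2 hrp hi ht
    (fun n => i * n = 2 * m → ¬ Odd i ∧ Odd n)).trans ?_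
  by_cases hodd : Odd i
  · rw [if_pos hodd, if_pos hodd]
    have ht2 : 1 ≤ t / 2 := by
      have hteven : Even t := by
        by_contra hto
        have hto' : Odd t := Nat.not_even_iff_odd.1 hto
        have h1 : Odd (t * i) := hto'.mul hodd
        rw [ht] at h1
        obtain ⟨k, hk⟩ := hrodd
        obtain ⟨k', hk'⟩ := h1
        omega
      obtain ⟨k, hk⟩ := hteven
      omega
    have hiff : ∀ N : Multiset (Fin (t / 2)),
        (N ≠ 0 ∧ i * Multiset.card N ≤ m ∧
          (i * (2 * Multiset.card N) = 2 * m → ¬ Odd i ∧ Odd (2 * Multiset.card N))) ↔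
        (N ≠ 0 ∧ i * Multiset.card N ≤ m ∧
          ¬ (i * Multiset.card N = m ∧ (fun _ : ℕ => True) (Multiset.card N))) := by
      intro N
      refine and_congr_right (fun _ => and_congr_right (fun _ => ?_))
      constructor
      · rintro h ⟨h1, -⟩
        have h2 : i * (2 * Multiset.card N) = 2 * m := by rw [← h1]; ring
        exact (h h2).1 hodd
      · intro h h1
        exfalso
        apply h
        refine ⟨?_, trivial⟩
        have : i * (2 * Multiset.card N) = 2 * (i * Multiset.card N) := by ring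
        omega
    rw [Nat.card_congr (Equiv.subtypeEquivRight hiff),
      card_multiset_pred_sub (t / 2) i m hi1 ht2 hm (fun _ => True)]
    by_cases hc : i ∣ m
    · rw [if_pos hc, if_pos ⟨hc, trivial⟩]
    · rw [if_neg hc, if_neg (fun h => hc h.1)]
  · rw [if_neg hodd, if_neg hodd]
    have hiff : ∀ M' : Multiset (Fin t),
        (M' ≠ 0 ∧ i * Multiset.card M' ≤ 2 * m ∧
          (i * Multiset.card M' = 2 * m → ¬ Odd i ∧ Odd (Multiset.card M'))) ↔
        (M' ≠ 0 ∧ i * Multiset.card M' ≤ 2 * m ∧
          ¬ (i * Multiset.card M' = 2 * m ∧ Even (Multiset.card M'))) := by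
      intro M'
      refine and_congr_right (fun _ => and_congr_right (fun _ => ?_))
      constructor
      · rintro h ⟨h1, h2⟩
        exact (Nat.not_odd_iff_even.2 h2) (h h1).2
      · intro h h1
        refine ⟨hodd, ?_⟩
        by_contra h2
        exact h ⟨h1, Nat.not_odd_iff_even.1 h2⟩
    rw [Nat.card_congr (Equiv.subtypeEquivRight hiff),
      card_multiset_pred_sub t i (2 * m) hi1 ht1 (by omega) Even]

end Cfsg.Agent.S2675
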