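import Cfsg.Statements.S2678
import Cfsg.Agent.Lib.Helper44.QuadBase
import Cfsg.Agent.Lib.Helper44.TraceDown

set_option autoImplicit false
open Cfsg

namespace Cfsg.Agent.S2678

open Cfsg.Agent.Lib.Helper44 Matrix Module

/-- the `K`-valued symplectic pairing -/
def sympB (a : ℕ) (K : Type*) [Field K] (u v : Fin a ⊕ Fin a → K) : K :=
  u ⬝ᵥ (Matrix.J (Fin a) K *ᵥ v)

theorem sympB_self (a : ℕ) (K : Type*) [Field K] (u : Fin a ⊕ Fin a → K) : sympB a K u u = 0 := by
  unfold sympB Matrix.J
  rw [Matrix.fromBlocks_mulVec]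
  simp only [dotProduct, Fintype.sum_sum_type, Sum.elim_inl, Sum.elim_inr, Matrix.zero_mulVec, zero_add,
    add_zero, Matrix.neg_mulVec, Matrix.one_mulVec, Function.comp, Pi.neg_apply]
  rw [← Finset.sum_add_distrib]
  apply Finset.sum_eq_zero
  intro i _
  ring

theorem sympB_nd (a : ℕ) (K : Type*) [Field K] (v : Fin a ⊕ Fin a → K) (h : ∀ u, sympB a K u v = 0) :
    v = 0 := by
  have h1 : Matrix.J (Fin a) K *ᵥ v = 0 := by
    funext x
    have := h (Pi.single x 1)
    unfold sympB at this
    rw [single_one_dotProduct] at this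
    exact this
  have h2 := congrArg (fun w => (-(Matrix.J (Fin a) K)) *ᵥ w) h1
  simp only [Matrix.mulVec_mulVec, Matrix.neg_mul, Matrix.J_squared, neg_neg, Matrix.one_mulVec,
    Matrix.mulVec_zero] at h2
  exact h2

theorem sympB_mulVec (a : ℕ) (K : Type*) [Field K] (A : Matrix.symplecticGroup (Fin a) K)
    (u v : Fin a ⊕ Fin a → K) :
    sympB a K ((A : Matrix (Fin a ⊕ Fin a) (Fin a ⊕ Fin a) K) *ᵥ u)
      ((A : Matrix (Fin a ⊕ Fin a) (Fin a ⊕ Fin a) K) *ᵥ v) = sympB a K u v := by
  unfold sympB
  have h := SymplecticGroup.mem_iff'.1 A.2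
  rw [Matrix.mulVec_mulVec, ← Matrix.vecMul_transpose, ← Matrix.dotProduct_mulVec, Matrix.mulVec_mulVec,
    ← Matrix.mul_assoc, h]


/-- Field-extension embedding of symplectic groups: for a field K with q² elements and a field F with q elements there is an injective homomorphism Sp_2a(K) → Sp_4a(F). -/
theorem result {K F : Type*} [Field K] [Fintype K] [Field F] [Fintype F] {q : ℕ} (hK : Fintype.card K = q ^ 2) (hF : Fintype.card F = q) (a : ℕ) : ∃ φ : ↥(Matrix.symplecticGroup (Fin a) K) →* ↥(Matrix.symplecticGroup (Fin (2 * a)) F), Function.Injective φ := by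
  classical
  obtain ⟨j⟩ := exists_ringHom_of_card_sq hF hK
  letI : Algebra F K := j.toAlgebra
  have hfr2 : finrank F K = 2 := finrank_eq_two_of_card_sq hF hK
  haveI : FiniteDimensional F K := Module.finite_of_finrank_pos (by rw [hfr2]; norm_num)
  -- the form
  let ω : LinearMap.BilinForm F (Fin a ⊕ Fin a → K) :=
    LinearMap.mk₂ F (fun u v => Algebra.trace F K (1 * sympB a K u v))
      (by intro u u' v; simp only [sympB, add_dotProduct, mul_add, map_add])
      (by
        intro c u v
        simp only [sympB, one_mul]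
        rw [← map_smul]
        congr 1
        rw [smul_dotProduct])
      (by intro u v v'; simp only [sympB, Matrix.mulVec_add, dotProduct_add, mul_add, map_add])
      (by
        intro c u v
        simp only [sympB, one_mul]
        rw [← map_smul]
        congr 1
        rw [Matrix.mulVec_smul, dotProduct_smul])
  have hω : ∀ u v, ω u v = Algebra.trace F K (1 * sympB a K u v) := fun u v => rfl
  have halt : ω.IsAlt := by
    intro u
    rw [hω, sympB_self, mul_zero, map_zero]
  have hnd : ω.Nondegenerate := by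
    refine nondeg_of_trace (sympB a K) 1 one_ne_zero ?_ (sympB_nd a K) ω hω halt
    intro k u v
    simp only [sympB, smul_dotProduct, smul_eq_mul]
  have hfr : finrank F (Fin a ⊕ Fin a → K) = 2 * (2 * a) := by
    rw [Module.finrank_pi_fintype]
    simp only [hfr2, Finset.sum_const, Finset.card_univ, Fintype.card_sum, Fintype.card_fin, smul_eq_mul]
    ring
  let ρ : ↥(Matrix.symplecticGroup (Fin a) K) →* Module.End F (Fin a ⊕ Fin a → K) :=
    { toFun := fun A => (Matrix.toLin' (A : Matrix (Fin a ⊕ Fin a) (Fin a ⊕ Fin a) K)).restrictScalars F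
      map_one' := by
        apply LinearMap.ext
        intro u
        show Matrix.toLin' ((1 : ↥(Matrix.symplecticGroup (Fin a) K)) : Matrix (Fin a ⊕ Fin a) (Fin a ⊕ Fin a) K) u = u
        simp
      map_mul' := by
        intro A B
        apply LinearMap.ext
        intro u
        show Matrix.toLin' ((A * B : ↥(Matrix.symplecticGroup (Fin a) K)) : Matrix (Fin a ⊕ Fin a) (Fin a ⊕ Fin a) K) u =
          Matrix.toLin' (A : Matrix (Fin a ⊕ Fin a) (Fin a ⊕ Fin a) K) (Matrix.toLin' (B : Matrix (Fin a ⊕ Fin a) (Fin a ⊕ Fin a) K) u)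
        simp [Matrix.toLin'_apply, Matrix.mulVec_mulVec] }
  have hρ : ∀ A u w, ω (ρ A u) (ρ A w) = ω u w := by
    intro A u w
    rw [hω, hω]
    show Algebra.trace F K (1 * sympB a K ((A : Matrix (Fin a ⊕ Fin a) (Fin a ⊕ Fin a) K) *ᵥ u)
      ((A : Matrix (Fin a ⊕ Fin a) (Fin a ⊕ Fin a) K) *ᵥ w)) = _
    rw [sympB_mulVec]
  have hinj : Function.Injective ρ := by
    intro A B hAB
    apply Subtype.ext
    have h1 : (Matrix.toLin' (A : Matrix (Fin a ⊕ Fin a) (Fin a ⊕ Fin a) K)).restrictScalars F =
        (Matrix.toLin' (B : Matrix (Fin a ⊕ Fin a) (Fin a ⊕ Fin a) K)).restrictScalars F := hAB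
    have h2 := LinearMap.restrictScalars_injective F h1
    exact Matrix.toLin'.injective h2
  exact exists_hom_to_Sp ω halt hnd (2 * a) hfr ρ hρ hinj

end Cfsg.Agent.S2678
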