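import Cfsg.Statements.S2679
import Cfsg.Agent.Lib.Helper44.QuadBase

set_option autoImplicit false
open Cfsg

namespace Cfsg.Agent.S2679

open Cfsg.Agent.Lib.Helper44 Matrix

/-- matrix of the minus form -/
def minusMat (m : ℕ) (R : Type*) [CommRing R] (a c : R) :
    Matrix ((Fin m ⊕ Fin m) ⊕ Fin 2) ((Fin m ⊕ Fin m) ⊕ Fin 2) R :=
  Matrix.fromBlocks (Matrix.fromBlocks 0 1 0 0) 0 0 !![1, a; 0, c]

theorem minusMat_map {F K : Type*} [Field F] [Field K] (j : F →+* K) (m : ℕ) (a c : F) :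
    (minusMat m F a c).map j = minusMat m K (j a) (j c) := by
  ext r s
  rcases r with (r | r) | r <;> rcases s with (s | s) | s <;>
    simp [minusMat, Matrix.fromBlocks, Matrix.one_apply, apply_ite] <;>
    fin_cases r <;> fin_cases s <;> simp

theorem quadM_minusMat (m : ℕ) (R : Type*) [Field R] (a c : R) (v : (Fin m ⊕ Fin m) ⊕ Fin 2 → R) :
    quadM (minusMat m R a c) v = Cfsg.quadFormMinus m R a c v := by
  unfold quadM Cfsg.quadFormMinus minusMat
  rw [Matrix.fromBlocks_mulVec, Matrix.fromBlocks_mulVec]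
  simp only [dotProduct, Fintype.sum_sum_type, Sum.elim_inl, Sum.elim_inr, Pi.add_apply, Matrix.zero_mulVec,
    Pi.zero_apply, add_zero, zero_add, mul_zero, Finset.sum_const_zero, Function.comp, Matrix.one_mulVec,
    Fin.sum_univ_two, Matrix.mulVec, Matrix.of_apply, Matrix.cons_val', Matrix.cons_val_zero,
    Matrix.cons_val_one, Matrix.cons_val_fin_one]
  ring



/-- the change of variables -/
def thetaLin (m : ℕ) (K : Type*) [Field K] (α β : K) :
    ((Fin m ⊕ Fin m) ⊕ Fin 2 → K) →ₗ[K] (Fin (m + 1) ⊕ Fin (m + 1) → K) where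
  toFun v := Sum.elim (Fin.lastCases (v (.inr 0) - α * v (.inr 1)) (fun i => v (.inl (.inl i))))
                      (Fin.lastCases (v (.inr 0) - β * v (.inr 1)) (fun i => v (.inl (.inr i))))
  map_add' u v := by
    funext r
    rcases r with i | i <;> refine Fin.lastCases ?_ (fun i' => ?_) i <;>
      simp only [Sum.elim_inl, Sum.elim_inr, Fin.lastCases_last, Fin.lastCases_castSucc, Pi.add_apply] <;> ring
  map_smul' t v := by
    funext r
    rcases r with i | i <;> refine Fin.lastCases ?_ (fun i' => ?_) i <;>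
      simp only [Sum.elim_inl, Sum.elim_inr, Fin.lastCases_last, Fin.lastCases_castSucc, Pi.smul_apply,
        smul_eq_mul, RingHom.id_apply] <;> ring

theorem theta_quad (m : ℕ) (K : Type*) [Field K] (α β a' c' : K) (h1 : α + β = - a') (h2 : α * β = c')
    (v : (Fin m ⊕ Fin m) ⊕ Fin 2 → K) :
    Cfsg.quadFormPlus (m + 1) K (thetaLin m K α β v) = Cfsg.quadFormMinus m K a' c' v := by
  unfold Cfsg.quadFormPlus Cfsg.quadFormMinus thetaLin
  simp only [LinearMap.coe_mk, AddHom.coe_mk, Sum.elim_inl, Sum.elim_inr, Fin.sum_univ_castSucc,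
    Fin.lastCases_last, Fin.lastCases_castSucc]
  have ha : a' = -(α + β) := by rw [h1]; ring
  rw [ha, ← h2]
  ring

theorem theta_inj (m : ℕ) (K : Type*) [Field K] (α β : K) (hαβ : α ≠ β) :
    Function.Injective (thetaLin m K α β) := by
  rw [← LinearMap.ker_eq_bot, LinearMap.ker_eq_bot']
  intro v hv
  have hl : ∀ i : Fin (m + 1), thetaLin m K α β v (.inl i) = 0 := fun i => by rw [hv]; rfl
  have hr : ∀ i : Fin (m + 1), thetaLin m K α β v (.inr i) = 0 := fun i => by rw [hv]; rfl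
  have e1 := hl (Fin.last m)
  have e2 := hr (Fin.last m)
  simp only [thetaLin, LinearMap.coe_mk, AddHom.coe_mk, Sum.elim_inl, Sum.elim_inr, Fin.lastCases_last] at e1 e2
  have hz1 : v (.inr 1) = 0 := by
    have : (β - α) * v (.inr 1) = 0 := by linear_combination e1 - e2
    exact (mul_eq_zero.1 this).resolve_left (sub_ne_zero.2 (Ne.symm hαβ))
  have hz0 : v (.inr 0) = 0 := by
    rw [hz1] at e1; simpa using e1
  funext r
  rcases r with (i | i) | i
  · have := hl (Fin.castSucc i)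
    simpa [thetaLin] using this
  · have := hr (Fin.castSucc i)
    simpa [thetaLin] using this
  · fin_cases i
    · exact hz0
    · exact hz1


theorem aux {F K : Type*} [Field F] [Fintype F] [Field K] [Fintype K] {q : ℕ} (hF : Fintype.card F = q)
    (hK : Fintype.card K = q ^ 2) (m : ℕ) (a c : F)
    (hac : ∀ z₁ z₂ : F, z₁ ^ 2 + a * z₁ * z₂ + c * z₂ ^ 2 = 0 → z₁ = 0 ∧ z₂ = 0) :
    ∃ φ : ↥(Cfsg.isometryGroup F (Cfsg.quadFormMinus m F a c)) →*
      ↥(Cfsg.isometryGroup K (Cfsg.quadFormPlus (m + 1) K)), Function.Injective φ := by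
  classical
  obtain ⟨j⟩ := exists_ringHom_of_card_sq hF hK
  obtain ⟨α, β, hαβ, h1, h2⟩ := exists_two_roots hF hK j a c hac
  let θ : ((Fin m ⊕ Fin m) ⊕ Fin 2 → K) ≃ₗ[K] (Fin (m + 1) ⊕ Fin (m + 1) → K) :=
    LinearMap.linearEquivOfInjective (thetaLin m K α β) (theta_inj m K α β hαβ) (by
      simp only [Module.finrank_fintype_fun_eq_card, Fintype.card_sum, Fintype.card_fin]; ring)
  have hθ : ∀ x, θ x = thetaLin m K α β x := fun x => rfl
  let T := LinearMap.toMatrix' (θ : ((Fin m ⊕ Fin m) ⊕ Fin 2 → K) →ₗ[K] (Fin (m + 1) ⊕ Fin (m + 1) → K))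
  let T' := LinearMap.toMatrix' (θ.symm : (Fin (m + 1) ⊕ Fin (m + 1) → K) →ₗ[K] ((Fin m ⊕ Fin m) ⊕ Fin 2 → K))
  have hT'T : T' * T = 1 := by
    rw [← LinearMap.toMatrix'_comp, ← LinearMap.toMatrix'_id]
    congr 1
    ext x : 1
    simp
  have hTT' : T * T' = 1 := by
    rw [← LinearMap.toMatrix'_comp, ← LinearMap.toMatrix'_id]
    congr 1
    ext x : 1
    simp
  have hTv : ∀ x, T *ᵥ x = θ x := fun x => LinearMap.toMatrix'_mulVec _ x
  have hT'v : ∀ x, T' *ᵥ x = θ.symm x := fun x => LinearMap.toMatrix'_mulVec _ x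
  let ψ : GL ((Fin m ⊕ Fin m) ⊕ Fin 2) F →* GL (Fin (m + 1) ⊕ Fin (m + 1)) K :=
    (Units.map (conjHom T T' hT'T hTT')).comp (Matrix.GeneralLinearGroup.map j)
  have hψ : ∀ g : GL ((Fin m ⊕ Fin m) ⊕ Fin 2) F,
      ((ψ g : GL (Fin (m + 1) ⊕ Fin (m + 1)) K) : Matrix (Fin (m + 1) ⊕ Fin (m + 1)) (Fin (m + 1) ⊕ Fin (m + 1)) K) =
      T * (Matrix.map (g : Matrix ((Fin m ⊕ Fin m) ⊕ Fin 2) ((Fin m ⊕ Fin m) ⊕ Fin 2) F) j) * T' := fun g => rfl
  have hmem : ∀ g : ↥(Cfsg.isometryGroup F (Cfsg.quadFormMinus m F a c)),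
      ψ g.1 ∈ Cfsg.isometryGroup K (Cfsg.quadFormPlus (m + 1) K) := by
    intro g u v
    simp only [Units.coeHom_apply]
    rw [hψ, ← Matrix.mulVec_mulVec, ← Matrix.mulVec_mulVec, hTv, hT'v, hθ, theta_quad m K α β (j a) (j c) h1 h2,
      ← quadM_minusMat, ← minusMat_map]
    have hg : ∀ w, quadM (minusMat m F a c) ((g.1 : Matrix ((Fin m ⊕ Fin m) ⊕ Fin 2) ((Fin m ⊕ Fin m) ⊕ Fin 2) F) *ᵥ w) = quadM (minusMat m F a c) w := by
      intro w
      rw [quadM_minusMat, quadM_minusMat]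
      exact g.2 w w
    rw [quadM_base_change j _ _ hg, minusMat_map, quadM_minusMat,
      ← theta_quad m K α β (j a) (j c) h1 h2, ← hθ, LinearEquiv.apply_symm_apply]
  refine ⟨(ψ.comp (Subgroup.subtype _)).codRestrict _ hmem, ?_⟩
  intro g g' h
  have h1 : ψ g.1 = ψ g'.1 := congrArg Subtype.val h
  have h2 : ((ψ g.1 : GL (Fin (m + 1) ⊕ Fin (m + 1)) K) : Matrix (Fin (m + 1) ⊕ Fin (m + 1)) (Fin (m + 1) ⊕ Fin (m + 1)) K) = ((ψ g'.1 : GL (Fin (m + 1) ⊕ Fin (m + 1)) K) : Matrix (Fin (m + 1) ⊕ Fin (m + 1)) (Fin (m + 1) ⊕ Fin (m + 1)) K) := by rw [h1]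
  rw [hψ, hψ] at h2
  have h3 := conjHom_injective T T' hT'T hTT' h2
  apply Subtype.ext
  apply Units.ext
  ext r s
  have := congrFun (congrFun h3 r) s
  simp only [Matrix.map_apply] at this
  exact j.injective this

/-- An elliptic orthogonal group embeds in the hyperbolic orthogonal group of the same dimension over the quadratic extension: for a field F with q elements and a field K with q² elements there is an injective homomorphism from O⁻_2m(F) (isometries of Σ_(j<m−1) x_j y_j + z₁² + a z₁z₂ + c z₂², binary part anisotropic) to O⁺_2m(K) (isometries of Σ_(j<m) x_j y_j over K). -/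
theorem result {F K : Type*} [Field F] [Fintype F] [Field K] [Fintype K] {q : ℕ} (hF : Fintype.card F = q) (hK : Fintype.card K = q ^ 2) {m : ℕ} (hm : 1 ≤ m) (a c : F) (hac : ∀ z₁ z₂ : F, z₁ ^ 2 + a * z₁ * z₂ + c * z₂ ^ 2 = 0 → z₁ = 0 ∧ z₂ = 0) : ∃ φ : ↥(Cfsg.isometryGroup F (Cfsg.quadFormMinus (m - 1) F a c)) →* ↥(Cfsg.isometryGroup K (Cfsg.quadFormPlus m K)), Function.Injective φ := by
  obtain ⟨m', rfl⟩ : ∃ m', m = m' + 1 := ⟨m - 1, by omega⟩
  exact aux hF hK m' a c hac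

end Cfsg.Agent.S2679
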