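import Cfsg.Statements.S2680
import Cfsg.Agent.Lib.Helper44.SympInvCentralizerOrth

set_option autoImplicit false
open Cfsg

namespace Cfsg.Agent.S2680

/-- Centraliser order of an involution t of Sp_2m(q), q even, with s = rank(t − 1) odd (type b_s): |C(t)| = q^(2ms − (3s² − s)/2) · |Sp_(s−1)(q)| · |Sp_(2m−2s)(q)|, where |Sp_2k(q)| = q^(k²) Π_(i=1)^k (q^(2i) − 1). -/
theorem result {F : Type*} [Field F] [Fintype F] [CharP F 2] {q : ℕ} (hF : Fintype.card F = q) {m s : ℕ} (t : Matrix.symplecticGroup (Fin m) F) (ht : t ^ 2 = 1) (hs : ((t : Matrix (Fin m ⊕ Fin m) (Fin m ⊕ Fin m) F) - 1).rank = s) (hodd : Odd s) : Nat.card ↥(Subgroup.centralizer ({t} : Set ↥(Matrix.symplecticGroup (Fin m) F))) = q ^ (2 * m * s - (3 * s ^ 2 - s) / 2) * ((q : ℕ) ^ (((s - 1) / 2) ^ 2) * ∏ i : Fin ((s - 1) / 2), (q ^ (2 * ((i : ℕ) + 1)) - 1)) * ((q : ℕ) ^ ((m - s) ^ 2) * ∏ i : Fin (m - s), (q ^ (2 * ((i : ℕ)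 + 1)) - 1)) := by
  classical
  have htt : t * t = 1 := by rw [← pow_two]; exact ht
  have hsq : (t : Matrix (Fin m ⊕ Fin m) (Fin m ⊕ Fin m) F) *
      (t : Matrix (Fin m ⊕ Fin m) (Fin m ⊕ Fin m) F) = 1 := congrArg Subtype.val htt
  have hiso : ∀ x y, Cfsg.sympForm m F
      (Matrix.mulVec (t : Matrix (Fin m ⊕ Fin m) (Fin m ⊕ Fin m) F) x)
      (Matrix.mulVec (t : Matrix (Fin m ⊕ Fin m) (Fin m ⊕ Fin m) F) y) = Cfsg.sympForm m F x y :=
    fun x y => Cfsg.Agent.Lib.Helper13.preserves_of_mem_symplectic m _ t.2 x y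
  have hsm : s ≤ m := by
    rw [← hs]
    exact Cfsg.Agent.Lib.Helper44.sp_involution_rank_le _ hiso hsq
  have hna : ∃ v : Fin m ⊕ Fin m → F, Cfsg.sympForm m F v
      (Matrix.mulVec (t : Matrix (Fin m ⊕ Fin m) (Fin m ⊕ Fin m) F) v) ≠ 0 := by
    by_contra hcon
    push Not at hcon
    have hev := Cfsg.Agent.Lib.Helper44.sp_involution_even_rank _ hiso hsq hcon
    rw [hs] at hev
    exact (Nat.not_even_iff_odd.mpr hodd) hev
  have hconj := Cfsg.Agent.Lib.Helper44.isConj_stdInvElt_nonalt t htt hna s hsm hs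
  rw [Cfsg.Agent.Lib.Helper44.card_centralizer_of_isConj _ _ hconj,
    Cfsg.Agent.Lib.Helper44.card_centralizer_nonalt s hsm,
    Cfsg.Agent.Lib.Helper13.card_fixFirst m s hsm]
  obtain ⟨j, rfl⟩ := hodd
  rw [Cfsg.Agent.Lib.Helper44.frameCount_odd, hF]
  obtain ⟨r, rfl⟩ : ∃ r, m = 2 * j + 1 + r := ⟨m - (2 * j + 1), by omega⟩
  have hhalf : (2 * j + 1 - 1) / 2 = j := by omega
  rw [Cfsg.Agent.Lib.Helper44.exp_identity (2 * j + 1) r, hhalf,
    Fin.prod_univ_eq_prod_range (fun i => q ^ (2 * (i + 1)) - 1) j,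
    Fin.prod_univ_eq_prod_range (fun i => q ^ (2 * (i + 1)) - 1) (2 * j + 1 + r - (2 * j + 1))]
  ring

end Cfsg.Agent.S2680
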