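import Cfsg.Statements.S2681
import Cfsg.Agent.Lib.Helper44.SympInvCentralizer

set_option autoImplicit false
open Cfsg

namespace Cfsg.Agent.S2681

/-- Centraliser order of an involution t of Sp_2m(q), q even, with s = rank(t − 1) even and f(v, tv) = 0 for every v, f the symplectic form (type a_s): |C(t)| = q^(2ms − (3s² − s)/2) · |Sp_s(q)| · |Sp_(2m−2s)(q)|. -/
theorem result {F : Type*} [Field F] [Fintype F] [CharP F 2] {q : ℕ} (hF : Fintype.card F = q) {m s : ℕ} (t : Matrix.symplecticGroup (Fin m) F) (ht : t ^ 2 = 1) (ht1 : t ≠ 1) (hs : ((t : Matrix (Fin m ⊕ Fin m) (Fin m ⊕ Fin m) F) - 1).rank = s) (heven : Even s) (halt : ∀ v : Fin m ⊕ Fin m → F, Cfsg.sympForm m F v ((t : Matrix (Fin m ⊕ Fin m) (Fin m ⊕ Fin m) F).mulVec v) = 0) : Nat.card ↥(Subgroup.centralizer ({t} : Set ↥(Matrix.symplecticGroup (Fin m) F))) = q ^ (2 * m * s - (3 * s ^ 2 - s) / 2) * ((q : ℕ) ^ ((s / 2) ^ 2) * ∏ i : Fin (s / 2),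 (q ^ (2 * ((i : ℕ) + 1)) - 1)) * ((q : ℕ) ^ ((m - s) ^ 2) * ∏ i : Fin (m - s), (q ^ (2 * ((i : ℕ) + 1)) - 1)) := by
  classical
  have htt : t * t = 1 := by rw [← pow_two]; exact ht
  have hsq : (t : Matrix (Fin m ⊕ Fin m) (Fin m ⊕ Fin m) F) *
      (t : Matrix (Fin m ⊕ Fin m) (Fin m ⊕ Fin m) F) = 1 := congrArg Subtype.val htt
  have hiso : ∀ x y, Cfsg.sympForm m F
      (Matrix.mulVec (t : Matrix (Fin m ⊕ Fin m) (Fin m ⊕ Fin m) F) x)
      (Matrix.mulVec (t : Matrix (Fin m ⊕ Fin m) (Fin m ⊕ Fin m) F) y) = Cfsg.sympForm m F x y :=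
    fun x y => Cfsg.Agent.Lib.Helper13.preserves_of_mem_symplectic m _ t.2 x y
  obtain ⟨N, hN, -⟩ := (Cfsg.Agent.Lib.Helper44.sp_involution_structure _ hiso hsq).2 halt
  have hsN : s = N + N := by rw [← hs, hN, two_mul]
  have hsm : s ≤ m := by
    rw [← hs]
    exact Cfsg.Agent.Lib.Helper44.sp_involution_rank_le _ hiso hsq
  have hNm : N + N ≤ m := by omega
  have hconj := Cfsg.Agent.Lib.Helper44.isConj_stdInvElt_alt t htt halt N hNm (by rw [hs, hsN])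
  rw [Cfsg.Agent.Lib.Helper44.card_centralizer_of_isConj _ _ hconj,
    Cfsg.Agent.Lib.Helper44.card_centralizer_alt N hNm,
    Cfsg.Agent.Lib.Helper5.card_symplecticGroup_fin,
    Cfsg.Agent.Lib.Helper13.card_fixFirst m (N + N) hNm, hF]
  subst hsN
  obtain ⟨r, rfl⟩ : ∃ r, m = N + N + r := ⟨m - (N + N), by omega⟩
  have hhalf : (N + N) / 2 = N := by omega
  rw [Cfsg.Agent.Lib.Helper44.exp_identity (N + N) r, hhalf,
    Fin.prod_univ_eq_prod_range (fun i => q ^ (2 * (i + 1)) - 1) N,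
    Fin.prod_univ_eq_prod_range (fun i => q ^ (2 * (i + 1)) - 1) (N + N + r - (N + N))]
  ring

end Cfsg.Agent.S2681
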