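import Cfsg.Statements.S2682
import Cfsg.Agent.Lib.Helper44.SympInvCentralizerOrth

set_option autoImplicit false
open Cfsg

namespace Cfsg.Agent.S2682

/-- Centraliser order of an involution t of Sp_2m(q), q even, with s = rank(t − 1) even and f(v, tv) ≠ 0 for some v, f the symplectic form (type c_s): |C(t)| = q^(2ms − (3s² − 3s)/2 − 1) · |Sp_(s−2)(q)| · |Sp_(2m−2s)(q)|. -/
theorem result {F : Type*} [Field F] [Fintype F] [CharP F 2] {q : ℕ} (hF : Fintype.card F = q) {m s : ℕ} (t : Matrix.symplecticGroup (Fin m) F) (ht : t ^ 2 = 1) (hs : ((t : Matrix (Fin m ⊕ Fin m) (Fin m ⊕ Fin m) F) - 1).rank = s) (heven : Even s) (hna : ∃ v : Fin m ⊕ Fin m → F, Cfsg.sympForm m F v ((t : Matrix (Fin m ⊕ Fin m) (Fin m ⊕ Fin m) F).mulVec v) ≠ 0) : Nat.card ↥(Subgroup.centralizer ({t} : Set ↥(Matrix.symplecticGroup (Fin m) F))) = q ^ (2 * m * s - (3 * s ^ 2 - 3 * s) / 2 - 1) * ((q : ℕ) ^ (((s -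 2) / 2) ^ 2) * ∏ i : Fin ((s - 2) / 2), (q ^ (2 * ((i : ℕ) + 1)) - 1)) * ((q : ℕ) ^ ((m - s) ^ 2) * ∏ i : Fin (m - s), (q ^ (2 * ((i : ℕ) + 1)) - 1)) := by
  classical
  have htt : t * t = 1 := by rw [← pow_two]; exact ht
  have hsq : (t : Matrix (Fin m ⊕ Fin m) (Fin m ⊕ Fin m) F) *
      (t : Matrix (Fin m ⊕ Fin m) (Fin m ⊕ Fin m) F) = 1 := congrArg Subtype.val htt
  have hiso : ∀ x y, Cfsg.sympForm m F
      (Matrix.mulVec (t : Matrix (Fin m ⊕ Fin m) (Fin m ⊕ Fin m) F) x)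
      (Matrix.mulVec (t : Matrix (Fin m ⊕ Fin m) (Fin m ⊕ Fin m) F) y) = Cfsg.sympForm m F x y :=
    fun x y => Cfsg.Agent.Lib.Helper13.preserves_of_mem_symplectic m _ t.2 x y
  have hsm : s ≤ m := by
    rw [← hs]
    exact Cfsg.Agent.Lib.Helper44.sp_involution_rank_le _ hiso hsq
  have hconj := Cfsg.Agent.Lib.Helper44.isConj_stdInvElt_nonalt t htt hna s hsm hs
  have hs0 : s ≠ 0 := by
    intro h0
    obtain ⟨v, hv⟩ := hna
    rw [h0] at hs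
    have h1 := Cfsg.Agent.Lib.Helper44.eq_zero_of_rank_eq_zero _ hs
    rw [sub_eq_zero.mp h1, Matrix.one_mulVec, Cfsg.Agent.Lib.Helper13.sympForm_self] at hv
    exact hv rfl
  rw [Cfsg.Agent.Lib.Helper44.card_centralizer_of_isConj _ _ hconj,
    Cfsg.Agent.Lib.Helper44.card_centralizer_nonalt s hsm,
    Cfsg.Agent.Lib.Helper13.card_fixFirst m s hsm]
  obtain ⟨j, rfl⟩ : ∃ j, s = 2 * j + 2 := by
    obtain ⟨k, hk⟩ := heven
    exact ⟨k - 1, by omega⟩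
  rw [Cfsg.Agent.Lib.Helper44.frameCount_even, Cfsg.Agent.Lib.Helper44.frameCount_odd, hF]
  obtain ⟨r, rfl⟩ : ∃ r, m = 2 * j + 2 + r := ⟨m - (2 * j + 2), by omega⟩
  have hhalf : (2 * j + 2 - 2) / 2 = j := by omega
  rw [Cfsg.Agent.Lib.Helper44.exp_identity_c j r, hhalf,
    Fin.prod_univ_eq_prod_range (fun i => q ^ (2 * (i + 1)) - 1) j,
    Fin.prod_univ_eq_prod_range (fun i => q ^ (2 * (i + 1)) - 1) (2 * j + 2 + r - (2 * j + 2))]
  ring

end Cfsg.Agent.S2682
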