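import Cfsg.Statements.S2683
import Cfsg.Agent.Lib.Helper44.OrthInvMainNonalt

set_option autoImplicit false
open Cfsg
open Matrix Cfsg.Agent.Lib.Helper44.OrthInv Cfsg.Agent.Lib.Helper8

namespace Cfsg.Agent.S2683

/-- For the hyperbolic form Σ x_j y_j on F^(2m) over a finite field with q elements, q even (excluding m = 2 over the field of two elements), and an involution x of the orthogonal group with s = rank(x − 1) odd (type b_s; such x lie outside Ω): the elements of Ω (the commutator subgroup of the orthogonal group) commuting with x number q^(2m(s−1) − (3s² − 3s)/2) · |Sp_(s−1)(q)| · |Sp_(2m−2s)(q)|, where |Sp_2k(q)| = q^(k²) Π_(i=1)^k (q^(2i) − 1). -/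
theorem result {F : Type*} [Field F] [Fintype F] [CharP F 2] {q : ℕ} (hF : Fintype.card F = q) {m s : ℕ} (h : Fintype.card F ≠ 2 ∨ m ≠ 2) (x : ↥(Cfsg.isometryGroup F (Cfsg.quadFormPlus m F))) (hx : x ^ 2 = 1) (hs : (((x : Matrix.GeneralLinearGroup (Fin m ⊕ Fin m) F) : Matrix (Fin m ⊕ Fin m) (Fin m ⊕ Fin m) F) - 1).rank = s) (hodd : Odd s) : Nat.card {g : ↥(Cfsg.Omega F (Cfsg.quadFormPlus m F)) // (g : ↥(Cfsg.isometryGroup F (Cfsg.quadFormPlus m F))) * x = x * (g : ↥(Cfsg.isometryGroup F (Cfsg.quadFormPlus m F)))} = q ^ (2 * m * (s - 1) - (3 * s ^ 2 - 3 * s) / 2) * ((q : ℕ) ^ (((s - 1) / 2) ^ 2) * ∏ i : Fin ((s - 1) / 2), (q ^ (2 * ((i : ℕ) + 1)) - 1)) * ((q : ℕ) ^ ((m - s) ^ 2) * ∏ i : Fin (m - s), (q ^ (2 * ((i : ℕ) + 1)) - 1)) := by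
  classical
  subst hF
  revert x
  rw [Cfsg.Agent.Lib.Helper8.plusForm_coe]
  intro x hx hs
  have h2 : (2 : F) = 0 := Cfsg.Agent.Lib.Helper44.two_eq_zero_of_charP
  have hx' : x * x = 1 := by rw [← pow_two]; exact hx
  have hQ := Cfsg.Agent.Lib.Helper8.plusForm_nondegenerate m F
  have hsm := rank_le_of_sq m x hx'
  rw [show gm (Cfsg.Agent.Lib.Helper8.plusForm m F) x = ((x : Matrix.GeneralLinearGroup (Fin m ⊕ Fin m) F) : Matrix (Fin m ⊕ Fin m) (Fin m ⊕ Fin m) F) from rfl, hs] at hsm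
  obtain ⟨j, hj⟩ := hodd
  have ht := isInvIso_of_sq (Cfsg.Agent.Lib.Helper8.plusForm m F) x hx'
  have hna : ∃ v, Cfsg.Agent.Lib.Helper8.plusForm m F
      ((gm (Cfsg.Agent.Lib.Helper8.plusForm m F) x - 1) *ᵥ v) ≠ 0 := by
    by_contra hA
    push_neg at hA
    have hev := ht.even_finrank_of_alt h2 hQ (fun z => by rw [nilPart_toLin']; exact hA z)
    rw [Cfsg.Agent.Lib.Helper44.OrthInv.finrank_range_nilPart] at hev
    rw [show gm (Cfsg.Agent.Lib.Helper8.plusForm m F) x = ((x : Matrix.GeneralLinearGroup (Fin m ⊕ Fin m) F) : Matrix (Fin m ⊕ Fin m) (Fin m ⊕ Fin m) F) from rfl, hs, hj] at hev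
    exact (Nat.not_even_iff_odd.2 ⟨j, rfl⟩) hev
  have hmain := card_centralizer_omega_nonalt m s h x hx' hs hna (2 * j) (m - s) (by omega)
    (by omega)
  rw [hmain, hj, Cfsg.Agent.Lib.Helper44.frameCount_odd j]
  unfold spOrd
  have e1 : 2 * m * (2 * j + 1 - 1) - (3 * (2 * j + 1) ^ 2 - 3 * (2 * j + 1)) / 2 =
      tri (2 * j) + 2 * (2 * j) * (m - (2 * j + 1)) := by
    have h3 := two_mul_tri (2 * j)
    obtain ⟨r, hr⟩ : ∃ r, m = 2 * j + 1 + r := ⟨m - (2 * j + 1), by omega⟩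
    subst hr
    have h4 : 3 * (2 * j + 1) ^ 2 - 3 * (2 * j + 1) = 2 * (3 * tri (2 * j)) := by
      apply Nat.sub_eq_of_eq_add
      nlinarith
    rw [h4, Nat.mul_div_cancel_left _ two_pos, Nat.add_sub_cancel_left, Nat.add_sub_cancel]
    apply Nat.sub_eq_of_eq_add
    nlinarith
  have e2 : (2 * j + 1 - 1) / 2 = j := by omega
  rw [e1, e2, Fin.prod_univ_eq_prod_range (fun i => Fintype.card F ^ (2 * (i + 1)) - 1) j,
    Fin.prod_univ_eq_prod_range (fun i => Fintype.card F ^ (2 * (i + 1)) - 1) (m - (2 * j + 1))]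
  ring

end Cfsg.Agent.S2683
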