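import Cfsg.Statements.S2684
import Cfsg.Agent.Lib.Helper44.OrthInvMainAlt
import Cfsg.Agent.Lib.Helper44.OrthInvMainNonalt

set_option autoImplicit false
open Cfsg
open Matrix Cfsg.Agent.Lib.Helper44.OrthInv Cfsg.Agent.Lib.Helper8

namespace Cfsg.Agent.S2684

/-- For the hyperbolic form Q = Σ x_j y_j on F^(2m) over a finite field with q elements, q even (excluding m = 2 over the field of two elements), and an involution x ≠ 1 of the orthogonal group with s = rank(x − 1) even and Q vanishing on the image of x − 1 (equivalently f(v, xv) = 0 for all v, where f(u, w) = Q(u + w) − Q(u) − Q(w) is the bilinear form of Q; type a_s, which lies in Ω): its centraliser in Ω (the commutator subgroup of the orthogonal group) has order q^(2ms − (3s² + s)/2) · |Sp_s(q)| · |Ω⁺_(2m−2s)(q)|, where |Ω⁺_2k(q)| = q^(k(k−1)) (q^k − 1) Π_(i=1)^(k−1) (q^(2i) − 1) for k ≥ 1 and the last factor is 1 when s = m. -/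
theorem result {F : Type*} [Field F] [Fintype F] [CharP F 2] {q : ℕ} (hF : Fintype.card F = q) {m s : ℕ} (h : Fintype.card F ≠ 2 ∨ m ≠ 2) (x : ↥(Cfsg.isometryGroup F (Cfsg.quadFormPlus m F))) (hx : x ^ 2 = 1) (hx1 : x ≠ 1) (hs : (((x : Matrix.GeneralLinearGroup (Fin m ⊕ Fin m) F) : Matrix (Fin m ⊕ Fin m) (Fin m ⊕ Fin m) F) - 1).rank = s) (heven : Even s) (halt : ∀ v : Fin m ⊕ Fin m → F, Cfsg.quadFormPlus m F ((((x : Matrix.GeneralLinearGroup (Fin m ⊕ Fin m) F) : Matrix (Fin m ⊕ Fin m) (Fin m ⊕ Fin m) F) - 1).mulVec v) = 0) : Nat.card {g : ↥(Cfsg.Omega F (Cfsg.quadFormPlus m F)) // (g : ↥(Cfsg.isometryGroup F (Cfsg.quadFormPlus m F))) * x = x * (g : ↥(Cfsg.isometryGroup F (Cfsg.quadFormPlus m F)))} = q ^ (2 * m * s - (3 * s ^ 2 + s) / 2) * ((q : ℕ) ^ ((s / 2) ^ 2) * ∏ i : Fin (s / 2), (q ^ (2 * ((i : ℕ) + 1)) - 1)) * (if s = m then 1 else q ^ ((m - s) * (m - s - 1)) * (q ^ (m - s) - 1) * ∏ i : Fin (m - s - 1), (q ^ (2 * ((i : ℕ) + 1)) - 1))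 := by
  classical
  subst hF
  revert x
  rw [Cfsg.Agent.Lib.Helper8.plusForm_coe]
  intro x hx hx1 hs halt
  have hx' : x * x = 1 := by rw [← pow_two]; exact hx
  have hsm := Cfsg.Agent.Lib.Helper44.OrthInv.rank_le_of_sq m x hx'
  rw [show gm (Cfsg.Agent.Lib.Helper8.plusForm m F) x = ((x : Matrix.GeneralLinearGroup (Fin m ⊕ Fin m) F) : Matrix (Fin m ⊕ Fin m) (Fin m ⊕ Fin m) F) from rfl, hs] at hsm
  have hs0 : s ≠ 0 := by
    intro h0
    apply hx1
    rw [h0] at hs
    have h1 := Cfsg.Agent.Lib.Helper44.eq_zero_of_rank_eq_zero _ hs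
    apply gm_injective (Cfsg.Agent.Lib.Helper8.plusForm m F)
    show ((x : Matrix.GeneralLinearGroup (Fin m ⊕ Fin m) F) : Matrix (Fin m ⊕ Fin m) (Fin m ⊕ Fin m) F) = 1
    exact sub_eq_zero.1 h1
  obtain ⟨N, hsN, h0, h1⟩ := card_centralizer_omega_alt m s h x hx' hs halt hs0 (m - s)
    (by omega)
  have e2 : s / 2 = N := by omega
  have hexp : ∀ r, m = s + r → 2 * m * s - (3 * s ^ 2 + s) / 2 = pretri s + 2 * r * s := by
    intro r hr
    have h3 := two_mul_pretri s
    have p1 : 2 * m * s = 2 * (s * s) + 2 * (r * s) := by rw [hr]; ring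
    have p2 : 3 * s ^ 2 = 3 * (s * s) := by ring
    have p3 : 2 * r * s = 2 * (r * s) := by ring
    rw [p1, p2, p3]
    generalize s * s = A at *
    generalize r * s = R at *
    generalize pretri s = P at *
    omega
  by_cases hsm' : s = m
  · rw [if_pos hsm', h0 (by omega), hexp 0 (by omega), e2]
    unfold spOrd
    rw [Fin.prod_univ_eq_prod_range (fun i => Fintype.card F ^ (2 * (i + 1)) - 1) N]
    ring
  · rw [if_neg hsm', h1 (m - s - 1) (by omega), hexp (m - s) (by omega), e2]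
    unfold spOrd
    have e3 : m - s - 1 + 1 = m - s := by omega
    rw [Fin.prod_univ_eq_prod_range (fun i => Fintype.card F ^ (2 * (i + 1)) - 1) N,
      Fin.prod_univ_eq_prod_range (fun i => Fintype.card F ^ (2 * (i + 1)) - 1) (m - s - 1), e3]

end Cfsg.Agent.S2684
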