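import Cfsg.Statements.S2685
import Cfsg.Agent.Lib.Helper44.OrthInvMainNonalt

set_option autoImplicit false
open Cfsg
open Matrix Cfsg.Agent.Lib.Helper44.OrthInv Cfsg.Agent.Lib.Helper8

namespace Cfsg.Agent.S2685

/-- For the hyperbolic form Q = Σ x_j y_j on F^(2m) over a finite field with q elements, q even (excluding m = 2 over the field of two elements), and an involution x of the orthogonal group with s = rank(x − 1) even and Q not vanishing on the image of x − 1 (f(v, xv) ≠ 0 for some v, where f(u, w) = Q(u + w) − Q(u) − Q(w) is the bilinear form of Q; type c_s, which lies in Ω): its centraliser in Ω (the commutator subgroup of the orthogonal group) has order q^(2m(s−1) − (3s² − 5s)/2 − 1) · |Sp_(s−2)(q)| · |Sp_(2m−2s)(q)|. -/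
theorem result {F : Type*} [Field F] [Fintype F] [CharP F 2] {q : ℕ} (hF : Fintype.card F = q) {m s : ℕ} (h : Fintype.card F ≠ 2 ∨ m ≠ 2) (x : ↥(Cfsg.isometryGroup F (Cfsg.quadFormPlus m F))) (hx : x ^ 2 = 1) (hs : (((x : Matrix.GeneralLinearGroup (Fin m ⊕ Fin m) F) : Matrix (Fin m ⊕ Fin m) (Fin m ⊕ Fin m) F) - 1).rank = s) (heven : Even s) (hna : ∃ v : Fin m ⊕ Fin m → F, Cfsg.quadFormPlus m F ((((x : Matrix.GeneralLinearGroup (Fin m ⊕ Fin m) F) : Matrix (Fin m ⊕ Fin m) (Fin m ⊕ Fin m) F) - 1).mulVec v) ≠ 0) : Nat.card {g : ↥(Cfsg.Omega F (Cfsg.quadFormPlus m F)) // (g : ↥(Cfsg.isometryGroup F (Cfsg.quadFormPlus m F))) * x = x * (g : ↥(Cfsg.isometryGroup F (Cfsg.quadFormPlus m F)))} = q ^ (2 * m * (s - 1) - (3 * s ^ 2 - 5 * s) / 2 - 1) * ((q : ℕ) ^ (((s - 2) / 2) ^ 2) * ∏ i : Fin ((s - 2) / 2), (q ^ (2 * ((i : ℕ) + 1)) - 1)) * ((q : ℕ) ^ ((m - s) ^ 2) * ∏ i : Fin (m - s), (q ^ (2 * ((i : ℕ) + 1)) - 1)) := by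
  classical
  subst hF
  revert x
  rw [Cfsg.Agent.Lib.Helper8.plusForm_coe]
  intro x hx hs hna
  have h2 : (2 : F) = 0 := Cfsg.Agent.Lib.Helper44.two_eq_zero_of_charP
  have hx' : x * x = 1 := by rw [← pow_two]; exact hx
  have hsm := rank_le_of_sq m x hx'
  rw [show gm (Cfsg.Agent.Lib.Helper8.plusForm m F) x = ((x : Matrix.GeneralLinearGroup (Fin m ⊕ Fin m) F) : Matrix (Fin m ⊕ Fin m) (Fin m ⊕ Fin m) F) from rfl, hs] at hsm
  have hs0 : s ≠ 0 := by
    intro h0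
    obtain ⟨v, hv⟩ := hna
    apply hv
    rw [h0] at hs
    rw [Cfsg.Agent.Lib.Helper44.eq_zero_of_rank_eq_zero _ hs, Matrix.zero_mulVec]
    exact QuadraticMap.map_zero _
  obtain ⟨j', hj'⟩ := heven
  obtain ⟨j, hj⟩ : ∃ j, s = 2 * j + 2 := ⟨j' - 1, by omega⟩
  have hmain := card_centralizer_omega_nonalt m s h x hx' hs hna (2 * j + 1) (m - s) (by omega)
    (by omega)
  rw [hmain, hj, Cfsg.Agent.Lib.Helper44.frameCount_even j, Cfsg.Agent.Lib.Helper44.frameCount_odd j]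
  unfold spOrd
  have e1 : 2 * m * (2 * j + 2 - 1) - (3 * (2 * j + 2) ^ 2 - 5 * (2 * j + 2)) / 2 - 1 =
      tri (2 * j + 1) + 2 * (2 * j + 1) * (m - (2 * j + 2)) + (2 * j + 1) := by
    obtain ⟨r, hr⟩ : ∃ r, m = 2 * j + 2 + r := ⟨m - (2 * j + 2), by omega⟩
    rw [hr, Nat.add_sub_cancel_left]
    obtain ⟨a, ha⟩ : ∃ a, a = 2 * j + 1 := ⟨_, rfl⟩
    have ha2 : 2 * j + 2 = a + 1 := by omega
    rw [ha2, ← ha, Nat.add_sub_cancel]
    have h3 := two_mul_tri a
    have h3' : 2 * tri a = a * a + a := by rw [h3]; ring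
    have p1 : 2 * (a + 1 + r) * a = 2 * (a * a) + 2 * a + 2 * (a * r) := by ring
    have p2 : 3 * (a + 1) ^ 2 = 3 * (a * a) + 6 * a + 3 := by ring
    have p3 : 2 * a * r = 2 * (a * r) := by ring
    have p4 : a ≤ a * a := Nat.le_mul_self a
    have p5 : 1 ≤ a := by omega
    rw [p1, p2, p3]
    generalize a * a = A at *
    generalize a * r = R at *
    generalize tri a = T at *
    omega
  have e2 : (2 * j + 2 - 2) / 2 = j := by omega
  rw [e1, e2, Fin.prod_univ_eq_prod_range (fun i => Fintype.card F ^ (2 * (i + 1)) - 1) j,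
    Fin.prod_univ_eq_prod_range (fun i => Fintype.card F ^ (2 * (i + 1)) - 1) (m - (2 * j + 2)),
    pow_add]
  ring

end Cfsg.Agent.S2685
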