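import Cfsg.Statements.S2689
import Cfsg.Agent.Lib.Helper5.AutPSLnMain
import Cfsg.Agent.Lib.Helper5.AutPSLnPred
import Cfsg.Agent.Lib.Helper5.AutPSL2Main

set_option autoImplicit false
open Cfsg

namespace Cfsg.Agent.S2689

/-- The automorphism group of a simple projective special linear group PSL_n(F) over a finite field (n ≥ 2; |F| ≥ 4 when n = 2) is generated by the automorphisms induced by invertible semilinear maps of F^n (the image of the projective semilinear group) together with the inverse-transpose automorphism. -/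
theorem result {F : Type*} [Field F] [Fintype F] {p f : ℕ} [Fact p.Prime] (hF : Fintype.card F = p ^ f) (hf : 1 ≤ f) {n : ℕ} (hn : 2 ≤ n) (hs : n = 2 → 4 ≤ Fintype.card F) :
    Cfsg.gammaPSL n F ⊔ Cfsg.autSubgroupOf (fun β : Matrix.ProjectiveSpecialLinearGroup (Fin n) F ≃* Matrix.ProjectiveSpecialLinearGroup (Fin n) F => Cfsg.IsInverseTransposeAutPSL β) = ⊤ := by
  have hchar : CharP F p := charP_of_card_eq_prime_pow hF
  rw [eq_top_iff]
  intro β _
  have key : ∃ (g : GL (Fin n) F) (σ : F ≃+* F)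
      (γ : MulAut (Matrix.ProjectiveSpecialLinearGroup (Fin n) F)),
      (γ = 1 ∨ γ = Cfsg.Agent.Lib.Helper5.AutPSLn.Iota) ∧
      β = Cfsg.Agent.Lib.Helper5.AutPSLn.Gam g * Cfsg.Agent.Lib.Helper5.AutPSLn.Phi σ * γ := by
    rcases Nat.lt_or_ge n 3 with h | h
    · have h2 : n = 2 := by omega
      subst h2
      obtain ⟨g, σ, e⟩ := Cfsg.Agent.Lib.Helper5.AutPSL2.exists_Gam_Phi p β
      rw [Cfsg.Agent.Lib.Helper5.AutPSLn.Gam2_eq, Cfsg.Agent.Lib.Helper5.AutPSLn.Phi2_eq] at e
      exact ⟨g, σ, 1, Or.inl rfl, by rw [mul_one]; exact e⟩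
    · exact Cfsg.Agent.Lib.Helper5.AutPSLn.exists_Gam_Phi_Iota h p β
  obtain ⟨g, σ, γ, hγ, e⟩ := key
  rw [e]
  apply Subgroup.mul_mem
  · apply Subgroup.mem_sup_left
    apply Subgroup.subset_closure
    exact ⟨g, σ, Cfsg.Agent.Lib.Helper5.AutPSLn.isInduced_Gam_Phi g σ⟩
  · rcases hγ with rfl | rfl
    · exact Subgroup.one_mem _
    · apply Subgroup.mem_sup_right
      apply Subgroup.subset_closure
      exact Cfsg.Agent.Lib.Helper5.AutPSLn.isInvT_Iota

end Cfsg.Agent.S2689
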