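import Cfsg.Statements.S2694
import Cfsg.Agent.Lib.Helper99.AutPB
import Cfsg.Agent.Lib.Helper43.OddOrthGram
import Cfsg.Agent.Lib.Helper43.OrthCardForms

set_option autoImplicit false
open Cfsg

namespace Cfsg.Agent.S2694

/-- For m ≥ 3 and a finite field F of odd order, the automorphism group of the orthogonal group Ω_{2m+1}(F) (realised as PΩ of the form x₀² + Σ xᵢ yᵢ, whose centre is trivial) is generated by the automorphisms induced by the semisimilarities v ↦ g σ(v) of the form (the image of the projective semisimilarity group); there are no graph or graph-field automorphisms. -/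
theorem result {F : Type*} [Field F] [Fintype F] (hodd : Odd (Fintype.card F)) {m : ℕ} (hm : 3 ≤ m) :
    Cfsg.gammaPOmega F (Cfsg.quadFormOdd m F) = ⊤ := by
  have h2 : (2 : F) ≠ 0 := Cfsg.Agent.Lib.Helper43.two_ne_zero_iff_odd_card.mpr (Nat.odd_iff.mp hodd)
  have hcard : Fintype.card (Unit ⊕ (Fin m ⊕ Fin m)) = 1 + (m + m) := by
    simp
  have A : Cfsg.Agent.Lib.Helper99.AutO.Amb (Cfsg.Agent.Lib.Helper43.oddForm m F) :=
    ⟨h2, Cfsg.Agent.Lib.Helper43.OddOrth.oddForm_nondegenerate h2,
      by rw [hcard]; exact ⟨m, by ring⟩,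
      by rw [Module.finrank_fintype_fun_eq_card, hcard]; omega⟩
  rw [Cfsg.Agent.Lib.Helper43.oddForm_coe]
  exact Cfsg.Agent.Lib.Helper99.AutO.gammaPOmega_eq_top A

end Cfsg.Agent.S2694
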