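import Cfsg.Statements.S2698
import Cfsg.Agent.Lib.Helper5.AutPSLnFieldCent

set_option autoImplicit false
open Cfsg

namespace Cfsg.Agent.S2698

/-- Let T = PSL_n(F) be simple over the field F with p^f elements (n ≥ 2; p^f ≥ 4 when n = 2), G = Inndiag(T) the image of PGL_n(F) in Aut(T), and x a field automorphism of T of prime order r. Then r divides f; the centralizer C_G(x) is isomorphic to PGL_n(F₀) for the subfield size |F₀| = p^(f/r); and the G-class of x is the union of exactly gcd(n, (p^f − 1)/(p^(f/r) − 1)) classes under conjugation by T (the inner automorphism group). -/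
theorem result {F : Type*} [Field F] [Fintype F] {p f : ℕ} [Fact p.Prime] (hF : Fintype.card F = p ^ f) (hf : 1 ≤ f) {n : ℕ} (hn : 2 ≤ n) (hs : n = 2 → 4 ≤ Fintype.card F) (x : MulAut (Matrix.ProjectiveSpecialLinearGroup (Fin n) F)) (hx : Cfsg.IsFieldAutClassPSL x) {r : ℕ} (hr : r.Prime) (hxr : orderOf x = r) (F₀ : Type*) [Field F₀] [Fintype F₀] (hF₀ : Fintype.card F₀ = p ^ (f / r)) :
    r ∣ f ∧ Nonempty (↥(Cfsg.inndiagPSL n F ⊓ Subgroup.centralizer {x}) ≃* Matrix.ProjGenLinGroup (Fin n) F₀) ∧ Cfsg.splitClassCount (Cfsg.inndiagPSL n F) (Cfsg.Inn (Matrix.ProjectiveSpecialLinearGroup (Fin n) F)) x = Nat.gcd n ((p ^ f - 1) / (p ^ (f / r) - 1)) := by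
  classical
  have hchar : CharP F p := charP_of_card_eq_prime_pow hF
  obtain ⟨α, σ, hσ1, hstd⟩ := hx
  have e : α * x * α⁻¹ = Cfsg.Agent.Lib.Helper5.AutPSLn.Phi σ :=
    Cfsg.Agent.Lib.Helper5.AutPSLn.eq_Phi_of_isStdField hstd
  have hx' : x = α⁻¹ * Cfsg.Agent.Lib.Helper5.AutPSLn.Phi σ * α⁻¹⁻¹ := by
    rw [← e]; group
  have hσr : orderOf σ = r := by
    rw [← orderOf_injective _ (Cfsg.Agent.Lib.Helper5.AutPSLn.Phi_injective (F := F) hn) σ, ← e,
      ← hxr]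
    exact orderOf_injective (MulAut.conj α).toMonoidHom (MulAut.conj α).injective x
  obtain ⟨F₁, hmem, hrank⟩ := Cfsg.Agent.Lib.Helper5.AutPSLn.exists_fixed_subfield σ
  rw [hσr] at hrank
  obtain ⟨hdvd, hcard⟩ := Cfsg.Agent.Lib.Helper5.AutPSLn.card_fixed_subfield hF hr.pos F₁ hrank
  let instF₁ : Fintype F₁ := Fintype.ofFinite F₁
  have hcc : Fintype.card F₀ = Fintype.card F₁ := by
    rw [hF₀, ← hcard, Nat.card_eq_fintype_card]
  let e₀ : F₀ ≃+* F₁ := FiniteField.ringEquivOfCardEq (K := F₀) (K' := F₁) hcc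
  let j : F₀ →+* F := (F₁.subtype : F₁ →+* F).comp (e₀ : F₀ →+* F₁)
  have hj : ∀ a : F, σ a = a ↔ a ∈ Set.range j := by
    intro a
    rw [← hmem]
    constructor
    · intro h
      exact ⟨e₀.symm ⟨a, h⟩, by simp [j]⟩
    · rintro ⟨y, rfl⟩
      exact (e₀ y).2
  have hnorm := Cfsg.Agent.Lib.Helper5.AutPSLn.Gam_range_normal (n := n) (F := F) hn p
  rw [Cfsg.Agent.Lib.Helper5.AutPSLn.inndiag_eq]
  refine ⟨hdvd, ?_, ?_⟩
  · obtain ⟨E⟩ := Cfsg.Agent.Lib.Helper5.AutPSLn.centralizer_Phi_equiv hn σ j hj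
    have E2 := Cfsg.Agent.Lib.Helper5.SplitClass.centralizerConjEquiv hnorm α⁻¹
      (Cfsg.Agent.Lib.Helper5.AutPSLn.Phi σ)
    rw [← hx'] at E2
    exact ⟨E2.symm.trans E⟩
  · rw [hx', Cfsg.Agent.Lib.Helper5.SplitClass.splitClassCount_conj hnorm
      (Cfsg.innNormal _) α⁻¹ _]
    exact Cfsg.Agent.Lib.Helper5.AutPSLn.split_count_Phi hn hF σ hr.pos hσr

end Cfsg.Agent.S2698
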