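import Cfsg.Statements.S2702
import Cfsg.Agent.Lib.Helper37.GraphSplit4
open Cfsg.Agent.Lib.Helper37 Cfsg.Agent.Lib.Helper37.GraphPSL
set_option autoImplicit false
open Cfsg

namespace Cfsg.Agent.S2702

/-- Let T = PSL_n(F) over the field with q = p^f elements, n ≥ 3, G = Inndiag(T) the image of PGL_n(F), and γ an involutory graph automorphism of T. The G-class of γ is the union of exactly c T-classes, where: if n is even and q is odd, c = gcd(n/2, q − 1) when C_G(γ) is isomorphic to the projective conformal symplectic group PGSp_n(F) (symplectic type) and c = gcd(n, q − 1)/2 otherwise; and c = gcd(n, q − 1) when n is odd or q is even. -/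
theorem result {F : Type*} [Field F] [Fintype F] {p f : ℕ} [Fact p.Prime] (hF : Fintype.card F = p ^ f) (hf : 1 ≤ f) {n : ℕ} (hn : 3 ≤ n) (γ : MulAut (Matrix.ProjectiveSpecialLinearGroup (Fin n) F)) (hγ : Cfsg.IsGraphAutClassPSL γ) (hγ2 : orderOf γ = 2) :
    ((Even n ∧ Odd p ∧ Nonempty (↥(Cfsg.inndiagPSL n F ⊓ Subgroup.centralizer {γ}) ≃* Cfsg.PGSp (n / 2) F)) → Cfsg.splitClassCount (Cfsg.inndiagPSL n F) (Cfsg.Inn (Matrix.ProjectiveSpecialLinearGroup (Fin n) F)) γ = Nat.gcd (n / 2) (p ^ f - 1)) ∧ ((Even n ∧ Odd p ∧ ¬ Nonempty (↥(Cfsg.inndiagPSL n F ⊓ Subgroup.centralizer {γ}) ≃* Cfsg.PGSp (n / 2) F)) → Cfsg.splitClassCount (Cfsg.inndiagPSL n F) (Cfsg.Inn (Matrix.ProjectiveSpecialLinearGroup (Fin n) F)) γ = Nat.gcd n (p ^ f - 1) / 2) ∧ (¬ (Even n ∧ Odd p) → Cfsg.splitClassCount (Cfsg.inndiagPSL n F) (Cfsg.Inn (Matrix.ProjectiveSpecialLinearGroup (Fin n) F)) γ = Nat.gcd n (p ^ f - 1)) := by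
  classical
  have hchar : CharP F p := charP_of_card_eq_prime_pow hF
  obtain ⟨-, A, rfl⟩ := (isGraphAut_iff γ).1 hγ
  -- the third part does not depend on the type of `A`
  have h3 : ¬ (Even n ∧ Odd p) → Cfsg.splitClassCount (Cfsg.inndiagPSL n F)
      (Cfsg.Inn (Matrix.ProjectiveSpecialLinearGroup (Fin n) F)) (beta A) =
      Nat.gcd n (p ^ f - 1) := by
    intro hne
    rw [← hF]
    by_cases hev : Even n
    · have hp2 : p = 2 := by
        rcases (Fact.out : p.Prime).eq_two_or_odd' with h | h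
        · exact h
        · exact absurd ⟨hev, h⟩ hne
      subst hp2
      obtain ⟨m, hm⟩ := hev
      have hnm : n = 2 * m := by omega
      subst hnm
      apply count_beta_of_pow (by omega) A
      rintro c ⟨μ, hμ⟩
      exact det_pow_of_char_two (by rw [Fintype.card_fin]) hμ
    · obtain ⟨k, rfl⟩ := Nat.not_even_iff_odd.1 hev
      apply count_beta_of_pow (by omega) A
      rintro c ⟨μ, hμ⟩
      exact det_pow_of_odd (by rw [Fintype.card_fin]) hμ
  rcases (orderOf_beta_eq_two_iff hn A).1 hγ2 with hA | hA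
  · -- symmetric type
    refine ⟨?_, ?_, h3⟩
    · rintro ⟨hev, hp, hiso⟩
      exfalso
      have hodd : Odd (Fintype.card F) := by rw [hF]; exact hp.pow
      obtain ⟨m, hm⟩ := hev
      have hn2 : n / 2 = m := by omega
      rw [hn2] at hiso
      obtain ⟨N, rfl⟩ : ∃ N, n = N + 1 := ⟨n - 1, by omega⟩
      exact cent_symm_not_iso_PGSp hodd (by omega) (by omega) A hA hiso
    · rintro ⟨hev, hp, -⟩
      have hodd : Odd (Fintype.card F) := by rw [hF]; exact hp.pow
      obtain ⟨m, hm⟩ := hev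
      obtain ⟨N, rfl⟩ : ∃ N, n = N + 1 := ⟨n - 1, by omega⟩
      have hnm : N + 1 = 2 * m := by omega
      rw [count_beta_symm hodd (by omega) hnm A hA, hF]
      obtain ⟨x, hx⟩ : ∃ x, p ^ f - 1 = 2 * x := by
        rw [hF] at hodd
        obtain ⟨k, hk⟩ := hodd
        exact ⟨k, by omega⟩
      rw [hx, hnm, Nat.gcd_mul_left, Nat.mul_div_cancel_left _ (by norm_num : 0 < 2),
        Nat.mul_div_cancel_left _ (by norm_num : 0 < 2)]
  · -- alternating type
    refine ⟨?_, ?_, h3⟩
    · rintro ⟨hev, hp, -⟩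
      have hodd : Odd (Fintype.card F) := by rw [hF]; exact hp.pow
      have h2 : (2 : F) ≠ 0 := two_ne_zero_of_odd_card hodd
      obtain ⟨m, hm⟩ := hev
      have hn2 : n / 2 = m := by omega
      rw [hn2, count_beta_alt (m := m) h2 (by omega) (by omega) A hA, hF]
    · rintro ⟨hev, hp, hiso⟩
      exfalso
      have hodd : Odd (Fintype.card F) := by rw [hF]; exact hp.pow
      have h2 : (2 : F) ≠ 0 := two_ne_zero_of_odd_card hodd
      obtain ⟨m, hm⟩ := hev
      have hn2 : n / 2 = m := by omega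
      rw [hn2] at hiso
      exact hiso (cent_alt_iso_PGSp (m := m) h2 p (by omega) (by omega) A hA)

end Cfsg.Agent.S2702
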