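import Cfsg.Statements.S2703
import Cfsg.Agent.Lib.Helper37.GraphPSL

set_option autoImplicit false
open Cfsg

namespace Cfsg.Agent.S2703

/-- Let T = PSL_n(F) over the field with q elements, q odd, n = 2m ≥ 4 even, and ι the inverse-transpose automorphism. Its centralizer in G = Inndiag(T) (the image of PGL_n(F)) is isomorphic to the projective conformal orthogonal group of the plus-type form Σ xᵢ yᵢ in dimension n when n(q − 1)/4 is even, and to that of a minus-type form (Σ xᵢ yᵢ + z₁² + a z₁ z₂ + b z₂² with anisotropic binary part) when n(q − 1)/4 is odd. -/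
theorem result {F : Type*} [Field F] [Fintype F] (hodd : Odd (Fintype.card F)) {n m : ℕ} (hm : 2 ≤ m) (hnm : n = 2 * m) (ι : MulAut (Matrix.ProjectiveSpecialLinearGroup (Fin n) F)) (hι : Cfsg.IsInverseTransposeAutPSL ι) :
    (Even (n * (Fintype.card F - 1) / 4) → Nonempty (↥(Cfsg.inndiagPSL n F ⊓ Subgroup.centralizer {ι}) ≃* Cfsg.PGO F (Cfsg.quadFormPlus m F))) ∧ (¬ Even (n * (Fintype.card F - 1) / 4) → ∃ a b : F, (∀ z₁ z₂ : F, z₁ ^ 2 + a * z₁ * z₂ + b * z₂ ^ 2 = 0 → z₁ = 0 ∧ z₂ = 0) ∧ Nonempty (↥(Cfsg.inndiagPSL n F ⊓ Subgroup.centralizer {ι}) ≃* Cfsg.PGO F (Cfsg.quadFormMinus (m - 1) F a b))) := by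
  classical
  have h2 : (2 : F) ≠ 0 := Cfsg.Agent.Lib.Helper37.two_ne_zero_of_odd_card hodd
  have hn2 : 2 ≤ n := by omega
  have hι' : ι = Cfsg.Agent.Lib.Helper5.AutPSLn.Iota :=
    (Cfsg.Agent.Lib.Helper45.AutPSL.isInvT_iff ι).1 hι
  subst hι'
  have hkey := Cfsg.Agent.Lib.Helper37.GraphPSL.even_iff_pow_mod_four hodd hnm
  haveI : NeZero m := ⟨by omega⟩
  constructor
  · intro hev
    have hsq : IsSquare (Cfsg.Agent.Lib.Helper37.gramP m F).det := by
      rw [Cfsg.Agent.Lib.Helper37.gramP_det, Cfsg.Agent.Lib.Helper37.isSquare_neg_one_pow_iff hodd m]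
      exact hkey.1 hev
    obtain ⟨P, hP⟩ := Cfsg.Agent.Lib.Helper37.GraphPSL.exists_P_of_isSquare_det
      (Cfsg.Agent.Lib.Helper37.plus_isGram h2 m) (Cfsg.Agent.Lib.Helper37.gramP_det_ne_zero m) hsq
    exact Cfsg.Agent.Lib.Helper37.GraphPSL.centralizer_Iota_equiv hn2 h2
      (Fintype.equivOfCardEq (by simp; omega)) P _ 2⁻¹ (inv_ne_zero h2) hP
  · intro hnev
    obtain ⟨a, b, hab⟩ := Cfsg.Agent.Lib.Helper37.GraphPSL.exists_anisotropic h2 (F := F)
    refine ⟨a, b, hab, ?_⟩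
    have hsq : IsSquare (Cfsg.Agent.Lib.Helper37.gramM (m - 1) F a b).det := by
      rw [Cfsg.Agent.Lib.Helper37.isSquare_gramM_det_iff hodd m (by omega) a b hab]
      have h1 := Cfsg.Agent.Lib.Helper37.pow_mod_four_cases (Fintype.card F) m hodd
      have h3 : ¬ (Fintype.card F ^ m % 4 = 1) := fun h => hnev (hkey.2 h)
      omega
    obtain ⟨P, hP⟩ := Cfsg.Agent.Lib.Helper37.GraphPSL.exists_P_of_isSquare_det
      (Cfsg.Agent.Lib.Helper37.minus_isGram h2 (m - 1) a b)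
      (Cfsg.Agent.Lib.Helper37.gramM_det_ne_zero h2 (m - 1) a b hab) hsq
    exact Cfsg.Agent.Lib.Helper37.GraphPSL.centralizer_Iota_equiv hn2 h2
      (Fintype.equivOfCardEq (by simp; omega)) P _ 2⁻¹ (inv_ne_zero h2) hP

end Cfsg.Agent.S2703
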