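import Cfsg.Statements.S2704
import Cfsg.Agent.Lib.Helper5.AutPSLnGraphField

set_option autoImplicit false
open Cfsg

namespace Cfsg.Agent.S2704

/-- Let T = PSL_n(F) over the field F with p^f elements, n ≥ 3, and G = Inndiag(T) the image of PGL_n(F). If x is an involutory graph-field automorphism of T then f is even; x is G-conjugate to every other involutory graph-field automorphism; C_G(x) is isomorphic to the projective general unitary group PGU_n(q₀) with q₀² = p^f, realised over F itself through the Hermitian form Σ uᵢ vᵢ^{q₀}; and the G-class of x is the union of exactly gcd(n, q₀ − 1) T-classes. -/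
theorem result {F : Type*} [Field F] [Fintype F] {p f : ℕ} [Fact p.Prime] (hF : Fintype.card F = p ^ f) (hf : 1 ≤ f) {n : ℕ} (hn : 3 ≤ n) (x : MulAut (Matrix.ProjectiveSpecialLinearGroup (Fin n) F)) (hx : Cfsg.IsGraphFieldAutClassPSL x) (hx2 : orderOf x = 2) :
    Even f ∧ (∀ y : MulAut (Matrix.ProjectiveSpecialLinearGroup (Fin n) F), Cfsg.IsGraphFieldAutClassPSL y → orderOf y = 2 → Cfsg.IsConjUnder (Cfsg.inndiagPSL n F) x y) ∧ Nonempty (↥(Cfsg.inndiagPSL n F ⊓ Subgroup.centralizer {x}) ≃* Cfsg.PGU n F (p ^ (f / 2))) ∧ Cfsg.splitClassCount (Cfsg.inndiagPSL n F) (Cfsg.Inn (Matrix.ProjectiveSpecialLinearGroup (Fin n) F)) x = Nat.gcd n (p ^ (f / 2) - 1) := by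
  classical
  have hchar : CharP F p := charP_of_card_eq_prime_pow hF
  have hn2 : 2 ≤ n := by omega
  -- reduction of an involutory graph-field automorphism to the standard one
  have red : ∀ y : MulAut (Matrix.ProjectiveSpecialLinearGroup (Fin n) F),
      Cfsg.IsGraphFieldAutClassPSL y → orderOf y = 2 →
      ∃ σ : F ≃+* F, orderOf σ = 2 ∧ ∃ g : GL (Fin n) F,
        y = Cfsg.Agent.Lib.Helper5.AutPSLn.Gam g *
          (Cfsg.Agent.Lib.Helper5.AutPSLn.Phi σ * Cfsg.Agent.Lib.Helper5.AutPSLn.Iota) *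
          (Cfsg.Agent.Lib.Helper5.AutPSLn.Gam g)⁻¹ := by
    rintro y ⟨_, α, φ, γ, σ, hσ1, hφ, hγ, e⟩ hy2
    rw [Cfsg.Agent.Lib.Helper5.AutPSLn.eq_Phi_of_isStdField hφ,
      Cfsg.Agent.Lib.Helper5.AutPSLn.eq_Iota_of_isInvT hγ] at e
    have ho : orderOf (Cfsg.Agent.Lib.Helper5.AutPSLn.Phi σ *
        (Cfsg.Agent.Lib.Helper5.AutPSLn.Iota :
          MulAut (Matrix.ProjectiveSpecialLinearGroup (Fin n) F))) = 2 := by
      rw [← e, ← hy2]
      exact orderOf_injective (MulAut.conj α).toMonoidHom (MulAut.conj α).injective y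
    have hsq : (Cfsg.Agent.Lib.Helper5.AutPSLn.Phi (σ * σ) :
        MulAut (Matrix.ProjectiveSpecialLinearGroup (Fin n) F)) = 1 := by
      have h1 := pow_orderOf_eq_one (Cfsg.Agent.Lib.Helper5.AutPSLn.Phi σ *
        (Cfsg.Agent.Lib.Helper5.AutPSLn.Iota :
          MulAut (Matrix.ProjectiveSpecialLinearGroup (Fin n) F)))
      rw [ho, pow_two] at h1
      rw [map_mul, ← h1]
      have h2 := Cfsg.Agent.Lib.Helper5.AutPSLn.Iota_mul_Phi (ι := Fin n) σ
      have h3 := Cfsg.Agent.Lib.Helper5.AutPSLn.Iota_mul_self (ι := Fin n) (F := F)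
      calc Cfsg.Agent.Lib.Helper5.AutPSLn.Phi σ * Cfsg.Agent.Lib.Helper5.AutPSLn.Phi σ
          = Cfsg.Agent.Lib.Helper5.AutPSLn.Phi σ * Cfsg.Agent.Lib.Helper5.AutPSLn.Phi σ *
            (Cfsg.Agent.Lib.Helper5.AutPSLn.Iota * Cfsg.Agent.Lib.Helper5.AutPSLn.Iota) := by
            rw [h3, mul_one]
        _ = Cfsg.Agent.Lib.Helper5.AutPSLn.Phi σ *
            (Cfsg.Agent.Lib.Helper5.AutPSLn.Phi σ * Cfsg.Agent.Lib.Helper5.AutPSLn.Iota) *
            Cfsg.Agent.Lib.Helper5.AutPSLn.Iota := by group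
        _ = Cfsg.Agent.Lib.Helper5.AutPSLn.Phi σ *
            (Cfsg.Agent.Lib.Helper5.AutPSLn.Iota * Cfsg.Agent.Lib.Helper5.AutPSLn.Phi σ) *
            Cfsg.Agent.Lib.Helper5.AutPSLn.Iota := by rw [h2]
        _ = _ := by group
    have hσσ : σ * σ = 1 := Cfsg.Agent.Lib.Helper5.AutPSLn.Phi_eq_one hn2 hsq
    have hσo : orderOf σ = 2 := by
      apply orderOf_eq_prime
      · rw [pow_two]; exact hσσ
      · exact hσ1
    refine ⟨σ, hσo, ?_⟩
    obtain ⟨_, _, _, _, hpow, _⟩ := Cfsg.Agent.Lib.Helper5.AutPSLn.involution_data hF σ hσo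
    obtain ⟨g, hg⟩ := Cfsg.Agent.Lib.Helper5.AutPSLn.conj_PhiIota hn2 p σ hpow α⁻¹
    refine ⟨g, ?_⟩
    rw [← hg, ← e]
    group
  obtain ⟨σ, hσo, g, hxg⟩ := red x hx hx2
  obtain ⟨hdvd, hq, hN, hσ2, hpow, hnorm⟩ :=
    Cfsg.Agent.Lib.Helper5.AutPSLn.involution_data hF σ hσo
  have hnormal := Cfsg.Agent.Lib.Helper5.AutPSLn.Gam_range_normal (n := n) (F := F) hn2 p
  rw [Cfsg.Agent.Lib.Helper5.AutPSLn.inndiag_eq]
  refine ⟨even_iff_two_dvd.2 hdvd, ?_, ?_, ?_⟩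
  · intro y hy hy2
    obtain ⟨σ', hσ'o, g', hyg⟩ := red y hy hy2
    obtain ⟨_, _, _, _, hpow', _⟩ := Cfsg.Agent.Lib.Helper5.AutPSLn.involution_data hF σ' hσ'o
    have hσσ' : σ' = σ := by
      ext a
      rw [hpow, hpow']
    subst hσσ'
    refine ⟨Cfsg.Agent.Lib.Helper5.AutPSLn.Gam (g' * g⁻¹), ⟨_, rfl⟩, ?_⟩
    rw [hyg, hxg, map_mul, map_inv]
    group
  · obtain ⟨E⟩ := Cfsg.Agent.Lib.Helper5.AutPSLn.centralizer_PhiIota_equiv hn2 σ hσ2 hpow hnorm
    have E2 := Cfsg.Agent.Lib.Helper5.SplitClass.centralizerConjEquiv hnormal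
      (Cfsg.Agent.Lib.Helper5.AutPSLn.Gam g)
      (Cfsg.Agent.Lib.Helper5.AutPSLn.Phi σ * Cfsg.Agent.Lib.Helper5.AutPSLn.Iota)
    rw [← hxg] at E2
    exact ⟨E2.symm.trans E⟩
  · rw [hxg, Cfsg.Agent.Lib.Helper5.SplitClass.splitClassCount_conj hnormal
      (Cfsg.innNormal _) _ _]
    exact Cfsg.Agent.Lib.Helper5.AutPSLn.split_count_PhiIota hn2 hF σ hσo

end Cfsg.Agent.S2704
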