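import Cfsg.Statements.S2705
import Cfsg.Agent.Lib.Helper45.UAutSplit

set_option autoImplicit false
open Cfsg

namespace Cfsg.Agent.S2705



/-- Let T = PSU_n(q) be simple (n ≥ 3, (n, q) ≠ (3, 2), q = p^f), realised over the field F with q² elements, G = Inndiag(T) the image of PGU_n(q) in Aut(T), and x a field automorphism of T (conjugate to a standard field automorphism of odd order) of odd prime order r. Then r divides f; C_G(x) is isomorphic to PGU_n(q₀) with q₀ = p^(f/r), realised over a field F₀ with q₀² elements; and the G-class of x is the union of exactly gcd(n, (q + 1)/(q₀ + 1)) T-classes. -/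
theorem result {F : Type*} [Field F] [Fintype F] {p f q : ℕ} [Fact p.Prime] (hq : q = p ^ f) (hf : 1 ≤ f) (hF : Fintype.card F = q ^ 2) {n : ℕ} (hn : 3 ≤ n) (hs : ¬ (n = 3 ∧ q = 2)) (x : MulAut (Cfsg.PSU n F q)) (hx : Cfsg.IsFieldAutClassPSU x) {r : ℕ} (hr : r.Prime) (hro : Odd r) (hxr : orderOf x = r) (F₀ : Type*) [Field F₀] [Fintype F₀] (hF₀ : Fintype.card F₀ = p ^ (2 * (f / r))) :
    r ∣ f ∧ Nonempty (↥(Cfsg.inndiagPSU n F q ⊓ Subgroup.centralizer {x}) ≃* Cfsg.PGU n F₀ (p ^ (f / r))) ∧ Cfsg.splitClassCount (Cfsg.inndiagPSU n F q) (Cfsg.Inn (Cfsg.PSU n F q)) x = Nat.gcd n ((q + 1) / (p ^ (f / r) + 1)) := by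
  classical
  have hF' : Fintype.card F = p ^ (2 * f) := by rw [hF, hq, ← pow_mul, mul_comm]
  haveI hchar : CharP F p := charP_of_card_eq_prime_pow hF'
  obtain ⟨α, φ, σ, hσ1, hσodd, hφ, hαx⟩ := hx
  rw [Cfsg.Agent.Lib.Helper45.UAut.isFieldAutOf_iff] at hφ
  subst hφ
  have hx' : x = α⁻¹ * Cfsg.Agent.Lib.Helper5.AutPSU.PhiU σ * α⁻¹⁻¹ := by
    rw [← hαx]; group
  have hσr : orderOf σ = r := by
    rw [← orderOf_injective (Cfsg.Agent.Lib.Helper5.AutPSU.PhiU : (F ≃+* F) →* MulAut (Cfsg.PSU n F q))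
      (Cfsg.Agent.Lib.Helper45.UAut.PhiU_injective hF hn) σ, ← hαx,
      Cfsg.Agent.Lib.Helper45.AutPSL.orderOf_conj_eq, hxr]
  obtain ⟨hdvd, hKcard, hqq⟩ := Cfsg.Agent.Lib.Helper45.UAut.fixK_card hq hF σ r hσr hro
  obtain ⟨q₀, hq₀⟩ : ∃ q₀, q₀ = p ^ (f / r) := ⟨_, rfl⟩
  rw [← hq₀] at hKcard hqq ⊢
  have hF₀' : Fintype.card F₀ = q₀ ^ 2 := by rw [hF₀, hq₀, ← pow_mul, mul_comm]
  let instK : Fintype (Cfsg.Agent.Lib.Helper45.SpAut.fixK σ) := Fintype.ofFinite _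
  have hcc : Fintype.card F₀ = Fintype.card (Cfsg.Agent.Lib.Helper45.SpAut.fixK σ) := by
    rw [hF₀', ← hKcard, Nat.card_eq_fintype_card]
  let e₀ : F₀ ≃+* (Cfsg.Agent.Lib.Helper45.SpAut.fixK σ) :=
    FiniteField.ringEquivOfCardEq (K := F₀) (K' := Cfsg.Agent.Lib.Helper45.SpAut.fixK σ) hcc
  let j : F₀ →+* F := ((Cfsg.Agent.Lib.Helper45.SpAut.fixK σ).subtype :
    (Cfsg.Agent.Lib.Helper45.SpAut.fixK σ) →+* F).comp (e₀ : F₀ →+* _)
  have hj : ∀ a : F, σ a = a ↔ a ∈ Set.range j := by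
    intro a
    constructor
    · intro h
      exact ⟨e₀.symm ⟨a, h⟩, by simp [j]⟩
    · rintro ⟨y, rfl⟩
      exact (e₀ y).2
  have hjq : ∀ y : F₀, j y ^ q = j (y ^ q₀) := by
    intro y
    rw [map_pow]
    exact hqq _ ((hj _).2 ⟨y, rfl⟩)
  have hdvd' : (q₀ + 1) ∣ (q + 1) := by
    obtain ⟨k, hk⟩ := hdvd
    have h1 : f / r = k := by rw [hk]; exact Nat.mul_div_cancel_left _ hr.pos
    have h2 : q = q₀ ^ r := by rw [hq, hq₀, h1, hk, ← pow_mul, mul_comm]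
    have := Odd.nat_add_dvd_pow_add_pow q₀ 1 hro
    rwa [one_pow, ← h2] at this
  haveI hnorm := Cfsg.Agent.Lib.Helper45.UAut.GamU_range_normal (n := n) (F := F) p hF hn hs
  rw [Cfsg.Agent.Lib.Helper45.UAut.inndiag_eq]
  refine ⟨hdvd, ?_, ?_⟩
  · obtain ⟨E⟩ := Cfsg.Agent.Lib.Helper45.UAut.centralizer_PhiU_equiv hF hF₀' hn j hjq σ hj
    have E2 := Cfsg.Agent.Lib.Helper45.AutPSL.centralizerConjEquiv
      (Cfsg.Agent.Lib.Helper5.AutPSU.GamU : ↥(Cfsg.GU n F q) →* MulAut (Cfsg.PSU n F q)).range α⁻¹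
      (Cfsg.Agent.Lib.Helper5.AutPSU.PhiU σ)
    rw [← hx'] at E2
    exact ⟨E2.symm.trans E⟩
  · rw [hx', Cfsg.Agent.Lib.Helper45.AutPSL.splitClassCount_conj]
    exact Cfsg.Agent.Lib.Helper45.UAut.split_count_PhiU hF hF₀' hn j hjq σ hj hdvd'

end Cfsg.Agent.S2705
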