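import Cfsg.Statements.S2707
import Cfsg.Agent.Lib.Helper37.PSUGraph4
import Cfsg.Agent.S2700

set_option autoImplicit false
open Cfsg

namespace Cfsg.Agent.S2707

/-- Let T = PSU_n(q) with n = 2m ≥ 4 even and q odd, realised over the field F with q² elements, and G = Inndiag(T) the image of PGU_n(q). The involutory graph automorphisms of T fall into exactly three G-classes, with representatives whose centralizers in G are isomorphic respectively to the projective conformal symplectic group PGSp_n(F₀), the projective conformal orthogonal group of the plus-type form Σ xᵢ yᵢ, and that of a minus-type form Σ xᵢ yᵢ + z₁² + a z₁ z₂ + b z₂² (anisotropic binary part) in dimension n, all over a field F₀ with q elements. -/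
theorem result {F : Type*} [Field F] [Fintype F] {q : ℕ} (hodd : Odd q) (hF : Fintype.card F = q ^ 2) {n m : ℕ} (hm : 2 ≤ m) (hnm : n = 2 * m) (F₀ : Type*) [Field F₀] [Fintype F₀] (hF₀ : Fintype.card F₀ = q) :
    ∃ (γ₁ γ₂ γ₃ : MulAut (Cfsg.PSU n F q)) (a b : F₀), (∀ z₁ z₂ : F₀, z₁ ^ 2 + a * z₁ * z₂ + b * z₂ ^ 2 = 0 → z₁ = 0 ∧ z₂ = 0) ∧ Cfsg.IsGraphAutClassPSU γ₁ ∧ orderOf γ₁ = 2 ∧ Cfsg.IsGraphAutClassPSU γ₂ ∧ orderOf γ₂ = 2 ∧ Cfsg.IsGraphAutClassPSU γ₃ ∧ orderOf γ₃ = 2 ∧ ¬ Cfsg.IsConjUnder (Cfsg.inndiagPSU n F q) γ₁ γ₂ ∧ ¬ Cfsg.IsConjUnder (Cfsg.inndiagPSU n F q) γ₁ γ₃ ∧ ¬ Cfsg.IsConjUnder (Cfsg.inndiagPSU n F q) γ₂ γ₃ ∧ (∀ γ : MulAut (Cfsg.PSU n F q), Cfsg.IsGraphAutClassPSU γ → orderOf γ = 2 → Cfsg.IsConjUnder (Cfsg.inndiagPSU n F q) γ₁ γ ∨ Cfsg.IsConjUnder (Cfsg.inndiagPSU n F q) γ₂ γ ∨ Cfsg.IsConjUnder (Cfsg.inndiagPSU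 n F q) γ₃ γ) ∧ Nonempty (↥(Cfsg.inndiagPSU n F q ⊓ Subgroup.centralizer {γ₁}) ≃* Cfsg.PGSp m F₀) ∧ Nonempty (↥(Cfsg.inndiagPSU n F q ⊓ Subgroup.centralizer {γ₂}) ≃* Cfsg.PGO F₀ (Cfsg.quadFormPlus m F₀)) ∧ Nonempty (↥(Cfsg.inndiagPSU n F q ⊓ Subgroup.centralizer {γ₃}) ≃* Cfsg.PGO F₀ (Cfsg.quadFormMinus (m - 1) F₀ a b)) := by
  classical
  have hn : 3 ≤ n := by omega
  have hs : ¬ (n = 3 ∧ q = 2) := by omega
  obtain ⟨σ, j, hσ, hj, hev⟩ := Cfsg.Agent.Lib.Helper37.PSUAut.transfer_setup hF hF₀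
  have hj' : ∀ y, σ (j y) = j y := fun y => (hj _).2 ⟨y, rfl⟩
  have hoddF₀ : Odd (Fintype.card F₀) := by rw [hF₀]; exact hodd
  obtain ⟨γ₁, γ₂, γ₃, a, b, hab, hg1, ho1, hg2, ho2, hg3, ho3, hn12, hn13, hn23, hall, E1, E2, E3⟩ :=
    Cfsg.Agent.S2700.result (F := F₀) hoddF₀ hm hnm
  obtain ⟨-, A₁, rfl⟩ := (Cfsg.Agent.Lib.Helper37.GraphPSL.isGraphAut_iff γ₁).1 hg1
  obtain ⟨-, A₂, rfl⟩ := (Cfsg.Agent.Lib.Helper37.GraphPSL.isGraphAut_iff γ₂).1 hg2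
  obtain ⟨-, A₃, rfl⟩ := (Cfsg.Agent.Lib.Helper37.GraphPSL.isGraphAut_iff γ₃).1 hg3
  obtain ⟨g₁, L₁⟩ := Cfsg.Agent.Lib.Helper37.PSUAut.exists_link hF (by omega) σ hσ j hj' A₁
    ((Cfsg.Agent.Lib.Helper37.GraphPSL.orderOf_beta_eq_two_iff hn A₁).1 ho1)
  obtain ⟨g₂, L₂⟩ := Cfsg.Agent.Lib.Helper37.PSUAut.exists_link hF (by omega) σ hσ j hj' A₂
    ((Cfsg.Agent.Lib.Helper37.GraphPSL.orderOf_beta_eq_two_iff hn A₂).1 ho2)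
  obtain ⟨g₃, L₃⟩ := Cfsg.Agent.Lib.Helper37.PSUAut.exists_link hF (by omega) σ hσ j hj' A₃
    ((Cfsg.Agent.Lib.Helper37.GraphPSL.orderOf_beta_eq_two_iff hn A₃).1 ho3)
  have hnc : ∀ (A B : GL (Fin n) F₀) (g g' : ↥(Cfsg.GU n F q)),
      Cfsg.Agent.Lib.Helper37.PSUAut.Link σ j A g.1 →
      Cfsg.Agent.Lib.Helper37.PSUAut.Link σ j B g'.1 →
      (Cfsg.IsConjUnder (Cfsg.inndiagPSU n F q) (Cfsg.Agent.Lib.Helper37.PSUAut.betaU σ g)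
        (Cfsg.Agent.Lib.Helper37.PSUAut.betaU σ g') ↔
      Cfsg.IsConjUnder (Cfsg.inndiagPSL n F₀) (Cfsg.Agent.Lib.Helper37.GraphPSL.beta A)
        (Cfsg.Agent.Lib.Helper37.GraphPSL.beta B)) := by
    intro A B g g' LA LB
    rw [Cfsg.Agent.Lib.Helper37.PSUAut.link_conj_iff hF hn hs σ hσ j hj A B g g' LA LB,
      Cfsg.Agent.Lib.Helper37.GraphPSL.isConjUnder_beta_iff (by omega)]
  refine ⟨Cfsg.Agent.Lib.Helper37.PSUAut.betaU σ g₁, Cfsg.Agent.Lib.Helper37.PSUAut.betaU σ g₂,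
    Cfsg.Agent.Lib.Helper37.PSUAut.betaU σ g₃, a, b, hab,
    Cfsg.Agent.Lib.Helper37.PSUAut.isGraphAut_betaU hn σ hev g₁,
    Cfsg.Agent.Lib.Helper37.PSUAut.link_order hF hn hs σ hσ j A₁ g₁ L₁,
    Cfsg.Agent.Lib.Helper37.PSUAut.isGraphAut_betaU hn σ hev g₂,
    Cfsg.Agent.Lib.Helper37.PSUAut.link_order hF hn hs σ hσ j A₂ g₂ L₂,
    Cfsg.Agent.Lib.Helper37.PSUAut.isGraphAut_betaU hn σ hev g₃,
    Cfsg.Agent.Lib.Helper37.PSUAut.link_order hF hn hs σ hσ j A₃ g₃ L₃,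
    fun h => hn12 ((hnc A₁ A₂ g₁ g₂ L₁ L₂).1 h), fun h => hn13 ((hnc A₁ A₃ g₁ g₃ L₁ L₃).1 h),
    fun h => hn23 ((hnc A₂ A₃ g₂ g₃ L₂ L₃).1 h), ?_, ?_, ?_, ?_⟩
  · intro γ hγ hγ2
    obtain ⟨g, rfl⟩ := Cfsg.Agent.Lib.Helper37.PSUAut.graph_struct hF hs σ hσ γ hγ hγ2
    obtain ⟨A, hA, L⟩ := Cfsg.Agent.Lib.Helper37.PSUAut.link_of_order_two hF hn hs σ hσ j hj g hγ2
    rcases hall (Cfsg.Agent.Lib.Helper37.GraphPSL.beta A)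
      ((Cfsg.Agent.Lib.Helper37.GraphPSL.isGraphAut_iff _).2 ⟨hn, A, rfl⟩)
      ((Cfsg.Agent.Lib.Helper37.GraphPSL.orderOf_beta_eq_two_iff hn A).2 hA) with h | h | h
    · exact Or.inl ((hnc A₁ A g₁ g L₁ L).2 h)
    · exact Or.inr (Or.inl ((hnc A₂ A g₂ g L₂ L).2 h))
    · exact Or.inr (Or.inr ((hnc A₃ A g₃ g L₃ L).2 h))
  · obtain ⟨E⟩ := Cfsg.Agent.Lib.Helper37.PSUAut.link_centralizer_psl hF hn hs σ hσ j hj A₁ g₁ L₁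
    obtain ⟨E'⟩ := E1
    exact ⟨E.trans E'⟩
  · obtain ⟨E⟩ := Cfsg.Agent.Lib.Helper37.PSUAut.link_centralizer_psl hF hn hs σ hσ j hj A₂ g₂ L₂
    obtain ⟨E'⟩ := E2
    exact ⟨E.trans E'⟩
  · obtain ⟨E⟩ := Cfsg.Agent.Lib.Helper37.PSUAut.link_centralizer_psl hF hn hs σ hσ j hj A₃ g₃ L₃
    obtain ⟨E'⟩ := E3
    exact ⟨E.trans E'⟩

end Cfsg.Agent.S2707
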