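import Cfsg.Statements.S2708
import Cfsg.Agent.Lib.Helper37.PSUGraph4
import Cfsg.Agent.S2701

set_option autoImplicit false
open Cfsg

namespace Cfsg.Agent.S2708

/-- Let T = PSU_n(q) with n = 2m ≥ 4 even and q even, realised over the field F (of characteristic 2) with q² elements, and G = Inndiag(T) the image of PGU_n(q). The involutory graph automorphisms of T fall into exactly two G-classes, with representatives whose centralizers in G are isomorphic respectively to the symplectic group Sp_n(F₀) and to the centralizer in Sp_n(F₀) of a symplectic transvection, F₀ a field with q elements. -/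
theorem result {F : Type*} [Field F] [Fintype F] [CharP F 2] {q : ℕ} (hF : Fintype.card F = q ^ 2) {n m : ℕ} (hm : 2 ≤ m) (hnm : n = 2 * m) (F₀ : Type*) [Field F₀] [Fintype F₀] (hF₀ : Fintype.card F₀ = q) :
    ∃ (γ₁ γ₃ : MulAut (Cfsg.PSU n F q)) (t : ↥(Matrix.symplecticGroup (Fin m) F₀)), Cfsg.IsTransvection (t : Matrix (Fin m ⊕ Fin m) (Fin m ⊕ Fin m) F₀) ∧ Cfsg.IsGraphAutClassPSU γ₁ ∧ orderOf γ₁ = 2 ∧ Cfsg.IsGraphAutClassPSU γ₃ ∧ orderOf γ₃ = 2 ∧ ¬ Cfsg.IsConjUnder (Cfsg.inndiagPSU n F q) γ₁ γ₃ ∧ (∀ γ : MulAut (Cfsg.PSU n F q), Cfsg.IsGraphAutClassPSU γ → orderOf γ = 2 → Cfsg.IsConjUnder (Cfsg.inndiagPSU n F q) γ₁ γ ∨ Cfsg.IsConjUnder (Cfsg.inndiagPSU n F q) γ₃ γ) ∧ Nonempty (↥(Cfsg.inndiagPSU n F q ⊓ Subgroup.centralizer {γ₁}) ≃* ↥(Matrix.symplecticGroup (Fin m) F₀)) ∧ Nonempty (↥(Cfsg.inndiagPSU n F q ⊓ Subgroup.centralizer {γ₃})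 ≃* ↥(Subgroup.centralizer ({t} : Set ↥(Matrix.symplecticGroup (Fin m) F₀)))) := by
  classical
  have hn : 3 ≤ n := by omega
  have hs : ¬ (n = 3 ∧ q = 2) := by omega
  obtain ⟨σ, j, hσ, hj, hev⟩ := Cfsg.Agent.Lib.Helper37.PSUAut.transfer_setup hF hF₀
  have hj' : ∀ y, σ (j y) = j y := fun y => (hj _).2 ⟨y, rfl⟩
  haveI : CharP F₀ 2 := RingHom.charP j j.injective 2
  obtain ⟨γ₁, γ₃, t, ht, hg1, ho1, hg3, ho3, hn13, hall, E1, E3⟩ :=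
    Cfsg.Agent.S2701.result (F := F₀) hm hnm
  obtain ⟨-, A₁, rfl⟩ := (Cfsg.Agent.Lib.Helper37.GraphPSL.isGraphAut_iff γ₁).1 hg1
  obtain ⟨-, A₃, rfl⟩ := (Cfsg.Agent.Lib.Helper37.GraphPSL.isGraphAut_iff γ₃).1 hg3
  obtain ⟨g₁, L₁⟩ := Cfsg.Agent.Lib.Helper37.PSUAut.exists_link hF (by omega) σ hσ j hj' A₁
    ((Cfsg.Agent.Lib.Helper37.GraphPSL.orderOf_beta_eq_two_iff hn A₁).1 ho1)
  obtain ⟨g₃, L₃⟩ := Cfsg.Agent.Lib.Helper37.PSUAut.exists_link hF (by omega) σ hσ j hj' A₃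
    ((Cfsg.Agent.Lib.Helper37.GraphPSL.orderOf_beta_eq_two_iff hn A₃).1 ho3)
  have hnc : ∀ (A B : GL (Fin n) F₀) (g g' : ↥(Cfsg.GU n F q)),
      Cfsg.Agent.Lib.Helper37.PSUAut.Link σ j A g.1 → Cfsg.Agent.Lib.Helper37.PSUAut.Link σ j B g'.1 →
      (Cfsg.IsConjUnder (Cfsg.inndiagPSU n F q) (Cfsg.Agent.Lib.Helper37.PSUAut.betaU σ g) (Cfsg.Agent.Lib.Helper37.PSUAut.betaU σ g') ↔
      Cfsg.IsConjUnder (Cfsg.inndiagPSL n F₀) (Cfsg.Agent.Lib.Helper37.GraphPSL.beta A) (Cfsg.Agent.Lib.Helper37.GraphPSL.beta B)) := by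
    intro A B g g' LA LB
    rw [Cfsg.Agent.Lib.Helper37.PSUAut.link_conj_iff hF hn hs σ hσ j hj A B g g' LA LB, Cfsg.Agent.Lib.Helper37.GraphPSL.isConjUnder_beta_iff (by omega)]
  refine ⟨Cfsg.Agent.Lib.Helper37.PSUAut.betaU σ g₁, Cfsg.Agent.Lib.Helper37.PSUAut.betaU σ g₃, t, ht,
    Cfsg.Agent.Lib.Helper37.PSUAut.isGraphAut_betaU hn σ hev g₁, Cfsg.Agent.Lib.Helper37.PSUAut.link_order hF hn hs σ hσ j A₁ g₁ L₁,
    Cfsg.Agent.Lib.Helper37.PSUAut.isGraphAut_betaU hn σ hev g₃, Cfsg.Agent.Lib.Helper37.PSUAut.link_order hF hn hs σ hσ j A₃ g₃ L₃,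
    fun h => hn13 ((hnc A₁ A₃ g₁ g₃ L₁ L₃).1 h), ?_, ?_, ?_⟩
  · intro γ hγ hγ2
    obtain ⟨g, rfl⟩ := Cfsg.Agent.Lib.Helper37.PSUAut.graph_struct hF hs σ hσ γ hγ hγ2
    obtain ⟨A, hA, L⟩ := Cfsg.Agent.Lib.Helper37.PSUAut.link_of_order_two hF hn hs σ hσ j hj g hγ2
    rcases hall (Cfsg.Agent.Lib.Helper37.GraphPSL.beta A) ((Cfsg.Agent.Lib.Helper37.GraphPSL.isGraphAut_iff _).2 ⟨hn, A, rfl⟩)
      ((Cfsg.Agent.Lib.Helper37.GraphPSL.orderOf_beta_eq_two_iff hn A).2 hA) with h | h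
    · exact Or.inl ((hnc A₁ A g₁ g L₁ L).2 h)
    · exact Or.inr ((hnc A₃ A g₃ g L₃ L).2 h)
  · obtain ⟨E⟩ := Cfsg.Agent.Lib.Helper37.PSUAut.link_centralizer_psl hF hn hs σ hσ j hj A₁ g₁ L₁
    obtain ⟨E'⟩ := E1
    exact ⟨E.trans E'⟩
  · obtain ⟨E⟩ := Cfsg.Agent.Lib.Helper37.PSUAut.link_centralizer_psl hF hn hs σ hσ j hj A₃ g₃ L₃
    obtain ⟨E'⟩ := E3
    exact ⟨E.trans E'⟩

end Cfsg.Agent.S2708
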