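import Cfsg.Statements.S2709
import Cfsg.Agent.Lib.Helper37.PSUSplit3

set_option autoImplicit false
open Cfsg

namespace Cfsg.Agent.S2709

/-- Let T = PSU_n(q) be simple (n ≥ 3, (n,q) ≠ (3,2), q = p^f), realised over the field F with q² elements, G = Inndiag(T) the image of PGU_n(q), and γ an involutory graph automorphism of T. The G-class of γ is the union of exactly c T-classes, where: if n is even and q is odd, c = gcd(n/2, q + 1) when C_G(γ) is isomorphic to PGSp_n(F₀) for a field F₀ with q elements (symplectic type) and c = gcd(n, q + 1)/2 otherwise; and c = gcd(n, q + 1) when n is odd or q is even. -/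
theorem result {F : Type*} [Field F] [Fintype F] {p f q : ℕ} [Fact p.Prime] (hq : q = p ^ f) (hf : 1 ≤ f) (hF : Fintype.card F = q ^ 2) {n : ℕ} (hn : 3 ≤ n) (hs : ¬ (n = 3 ∧ q = 2)) (F₀ : Type*) [Field F₀] [Fintype F₀] (hF₀ : Fintype.card F₀ = q) (γ : MulAut (Cfsg.PSU n F q)) (hγ : Cfsg.IsGraphAutClassPSU γ) (hγ2 : orderOf γ = 2) :
    ((Even n ∧ Odd q ∧ Nonempty (↥(Cfsg.inndiagPSU n F q ⊓ Subgroup.centralizer {γ}) ≃* Cfsg.PGSp (n / 2) F₀)) → Cfsg.splitClassCount (Cfsg.inndiagPSU n F q) (Cfsg.Inn (Cfsg.PSU n F q)) γ = Nat.gcd (n / 2) (q + 1)) ∧ ((Even n ∧ Odd q ∧ ¬ Nonempty (↥(Cfsg.inndiagPSU n F q ⊓ Subgroup.centralizer {γ}) ≃* Cfsg.PGSp (n / 2) F₀)) → Cfsg.splitClassCount (Cfsg.inndiagPSU n F q) (Cfsg.Inn (Cfsg.PSU n F q)) γ = Nat.gcd n (q + 1) / 2) ∧ (¬ (Even n ∧ Odd q) → Cfsg.splitClassCount (Cfsg.inndiagPSU n F q) (Cfsg.Inn (Cfsg.PSU n F q)) γ = Nat.gcd n (q + 1)) := by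
  classical
  obtain ⟨σ, j, hσ, hj, hev⟩ := Cfsg.Agent.Lib.Helper37.PSUAut.transfer_setup hF hF₀
  obtain ⟨g, rfl⟩ := Cfsg.Agent.Lib.Helper37.PSUAut.graph_struct hF hs σ hσ γ hγ hγ2
  obtain ⟨A, hA, L⟩ := Cfsg.Agent.Lib.Helper37.PSUAut.link_of_order_two hF hn hs σ hσ j hj g hγ2
  have hF₀' : Fintype.card F₀ = p ^ f := by rw [hF₀, hq]
  haveI hchar : CharP F₀ p := charP_of_card_eq_prime_pow hF₀'
  obtain ⟨E⟩ := Cfsg.Agent.Lib.Helper37.PSUAut.link_centralizer_psl hF hn hs σ hσ j hj A g L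
  have h3 : ¬ (Even n ∧ Odd q) → Cfsg.splitClassCount (Cfsg.inndiagPSU n F q)
      (Cfsg.Inn (Cfsg.PSU n F q)) (Cfsg.Agent.Lib.Helper37.PSUAut.betaU σ g) = Nat.gcd n (q + 1) := by
    intro hne
    apply Cfsg.Agent.Lib.Helper37.PSUAut.count_betaU_pow hF hn hs σ hσ j hj A g L
    intro k₀ l hk
    by_cases hevn : Even n
    · have hqe : Even q := by
        by_contra h
        exact hne ⟨hevn, Nat.not_even_iff_odd.1 h⟩
      have hp2 : p = 2 := by
        rw [hq] at hqe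
        exact ((Fact.out : p.Prime).even_iff).1 ((Nat.even_pow.1 hqe).1)
      subst hp2
      obtain ⟨m, hm⟩ := hevn
      exact Cfsg.Agent.Lib.Helper37.PSUAut.sim_pow_char_two (m := m) (by omega) hk
    · obtain ⟨k, hk'⟩ := Nat.not_even_iff_odd.1 hevn
      exact Cfsg.Agent.Lib.Helper37.PSUAut.sim_pow_odd hk' hk
  rcases hA with hA | hA
  · -- symmetric type
    refine ⟨?_, ?_, h3⟩
    · rintro ⟨hevn, hqo, hiso⟩
      exfalso
      have hodd : Odd (Fintype.card F₀) := by rw [hF₀]; exact hqo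
      obtain ⟨m, hm⟩ := hevn
      have hn2 : n / 2 = m := by omega
      rw [hn2] at hiso
      obtain ⟨N, rfl⟩ : ∃ N, n = N + 1 := ⟨n - 1, by omega⟩
      obtain ⟨ψ⟩ := hiso
      exact Cfsg.Agent.Lib.Helper37.GraphPSL.cent_symm_not_iso_PGSp hodd (by omega) (by omega) A hA ⟨E.symm.trans ψ⟩
    · rintro ⟨hevn, hqo, -⟩
      have hodd : Odd (Fintype.card F₀) := by rw [hF₀]; exact hqo
      have h2 : (2 : F₀) ≠ 0 := Cfsg.Agent.Lib.Helper37.two_ne_zero_of_odd_card hodd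
      obtain ⟨m, hm⟩ := hevn
      have hnm : n = 2 * m := by omega
      obtain ⟨x, hx⟩ : ∃ x, q + 1 = 2 * x := by
        obtain ⟨k, hk⟩ := hqo
        exact ⟨k + 1, by omega⟩
      rw [Cfsg.Agent.Lib.Helper37.PSUAut.count_betaU_half hF hn hs σ hσ j hj hnm A g L 2 ⟨x, hx⟩]
      · rw [hx, hnm, Nat.gcd_mul_left, Nat.mul_div_cancel_left _ (by norm_num : 0 < 2),
          Nat.mul_div_cancel_left _ (by norm_num : 0 < 2)]
      · intro k₀ l hk
        have h1 := hk.det_sq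
        rw [Fintype.card_fin] at h1
        have e : l ^ n = (l ^ m) ^ 2 := by rw [hnm, pow_mul']
        rw [mul_pow, h1, e, inv_pow, mul_inv_cancel]
      · intro a₁ ha₁ l
        obtain ⟨N, rfl⟩ : ∃ N, n = N + 1 := ⟨n - 1, by omega⟩
        have ha : a₁ = 1 ∨ a₁ = -1 :=
          Units.eq_or_eq_neg_of_sq_eq_sq a₁ 1 (by rw [ha₁, one_pow])
        rcases ha with rfl | rfl
        · obtain ⟨c, hc, hcd⟩ := Cfsg.Agent.Lib.Helper37.GraphPSL.sim_exists h2 hnm A hA l 1 (Or.inl rfl)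
          exact ⟨c, hc, by rw [hcd, one_mul, one_mul]⟩
        · obtain ⟨c, hc, hcd⟩ := Cfsg.Agent.Lib.Helper37.GraphPSL.sim_exists h2 hnm A hA l (-1) (Or.inr rfl)
          exact ⟨c, hc, by rw [hcd, map_mul, Cfsg.Agent.Lib.Helper37.PSUAut.units_map_neg_one]⟩
  · -- alternating type
    refine ⟨?_, ?_, h3⟩
    · rintro ⟨hevn, hqo, -⟩
      have hodd : Odd (Fintype.card F₀) := by rw [hF₀]; exact hqo
      have h2 : (2 : F₀) ≠ 0 := Cfsg.Agent.Lib.Helper37.two_ne_zero_of_odd_card hodd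
      obtain ⟨m, hm⟩ := hevn
      have hnm : n = 2 * m := by omega
      have hn2 : n / 2 = m := by omega
      obtain ⟨hdet, hex⟩ := Cfsg.Agent.Lib.Helper37.GraphPSL.alt_sim_facts h2 hnm A hA
      rw [hn2, Cfsg.Agent.Lib.Helper37.PSUAut.count_betaU_half hF hn hs σ hσ j hj hnm A g L 1 (one_dvd _), Nat.div_one]
      · intro k₀ l hk
        rw [pow_one, hdet k₀ l hk, mul_inv_cancel]
      · intro a₁ ha₁ l
        rw [pow_one] at ha₁
        obtain ⟨c, hc⟩ := hex l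
        exact ⟨c, hc, by rw [hdet c l hc, ha₁, one_mul]⟩
    · rintro ⟨hevn, hqo, hiso⟩
      exfalso
      have hodd : Odd (Fintype.card F₀) := by rw [hF₀]; exact hqo
      have h2 : (2 : F₀) ≠ 0 := Cfsg.Agent.Lib.Helper37.two_ne_zero_of_odd_card hodd
      obtain ⟨m, hm⟩ := hevn
      have hn2 : n / 2 = m := by omega
      rw [hn2] at hiso
      obtain ⟨θ⟩ := Cfsg.Agent.Lib.Helper37.GraphPSL.cent_alt_iso_PGSp (m := m) h2 p (by omega) (by omega) A hA
      exact hiso ⟨E.trans θ⟩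

end Cfsg.Agent.S2709
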