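import Cfsg.Statements.S2710
import Cfsg.Agent.Lib.Helper37.PSUGraph4
import Cfsg.Agent.S2703

set_option autoImplicit false
open Cfsg

namespace Cfsg.Agent.S2710

/-- Let T = PSU_n(q) with n ≥ 4 divisible by 4 (n = 2m) and q odd, realised over the field F with q² elements, G = Inndiag(T) the image of PGU_n(q), and φ the standard field automorphism of T attached to the q-th power map of F (it induces inverse-transpose on the unitary matrices and is a graph automorphism). Its centralizer in G is isomorphic to the projective conformal orthogonal group of the plus-type form Σ xᵢ yᵢ in dimension n over a field F₀ with q elements. (Dimensions n ≡ 2 (mod 4) are not covered.) -/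
theorem result {F : Type*} [Field F] [Fintype F] {q : ℕ} (hodd : Odd q) (hF : Fintype.card F = q ^ 2) {n m : ℕ} (hm : 2 ≤ m) (hnm : n = 2 * m) (h4 : 4 ∣ n) (F₀ : Type*) [Field F₀] [Fintype F₀] (hF₀ : Fintype.card F₀ = q) (σ : F ≃+* F) (hσ : ∀ a : F, σ a = a ^ q) (φ : MulAut (Cfsg.PSU n F q)) (hφ : Cfsg.IsFieldAutPSUOf σ φ) :
    Nonempty (↥(Cfsg.inndiagPSU n F q ⊓ Subgroup.centralizer {φ}) ≃* Cfsg.PGO F₀ (Cfsg.quadFormPlus m F₀)) := by
  classical
  have hn : 3 ≤ n := by omega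
  have hs : ¬ (n = 3 ∧ q = 2) := by omega
  obtain ⟨j, hj0⟩ := Cfsg.Agent.Lib.Helper37.PSUAut.exists_embedding hF hF₀
  have hj : ∀ a : F, σ a = a ↔ a ∈ Set.range j := by
    intro a
    rw [hσ]
    exact hj0 a
  have hoddF₀ : Odd (Fintype.card F₀) := by rw [hF₀]; exact hodd
  have hφ' : φ = Cfsg.Agent.Lib.Helper37.PSUAut.betaU σ (1 : ↥(Cfsg.GU n F q)) := by
    rw [(Cfsg.Agent.Lib.Helper37.PSUAut.isFieldAutOf_iff σ φ).1 hφ]
    unfold Cfsg.Agent.Lib.Helper37.PSUAut.betaU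
    rw [map_one, one_mul]
  have L : Cfsg.Agent.Lib.Helper37.PSUAut.Link σ j (1 : GL (Fin n) F₀) ((1 : ↥(Cfsg.GU n F q)) : GL (Fin n) F) := by
    refine ⟨1, ?_, ?_⟩
    · show Cfsg.Agent.Lib.Helper37.PSUAut.pi n F 1 = _
      rw [map_one (Cfsg.Agent.Lib.Helper45.AutPSL.glS σ), inv_one, mul_one]
    · rw [Cfsg.Agent.Lib.Helper37.PSUAut.star_one, mul_one, map_one (Cfsg.Agent.Lib.Helper37.PSUAut.mapJ j), inv_one]
  obtain ⟨E⟩ := Cfsg.Agent.Lib.Helper37.PSUAut.link_centralizer_psl hF hn hs σ hσ j hj 1 1 L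
  have hbeta : Cfsg.Agent.Lib.Helper37.GraphPSL.beta (1 : GL (Fin n) F₀) = Cfsg.Agent.Lib.Helper5.AutPSLn.Iota := by
    unfold Cfsg.Agent.Lib.Helper37.GraphPSL.beta
    rw [map_one, one_mul]
  have hev : Even (n * (Fintype.card F₀ - 1) / 4) := by
    obtain ⟨k, rfl⟩ := h4
    rw [mul_assoc, Nat.mul_div_cancel_left _ (by norm_num : 0 < 4)]
    obtain ⟨r, hr⟩ := hoddF₀
    rw [hr, Nat.add_sub_cancel]
    exact Even.mul_left (even_two_mul r) k
  obtain ⟨E'⟩ := (Cfsg.Agent.S2703.result (F := F₀) hoddF₀ hm hnm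
    Cfsg.Agent.Lib.Helper5.AutPSLn.Iota
    ((Cfsg.Agent.Lib.Helper45.AutPSL.isInvT_iff _).2 rfl)).1 hev
  rw [hφ']
  rw [hbeta] at E
  exact ⟨E.trans E'⟩

end Cfsg.Agent.S2710
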