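import Cfsg.Statements.S2712
import Cfsg.Agent.Lib.Helper45.SpAutSplit

set_option autoImplicit false
open Cfsg

namespace Cfsg.Agent.S2712



/-- Let T = PSp_{2m}(F) be simple over the field F with p^f elements (m ≥ 2, (2m, |F|) ≠ (4, 2)), G = Inndiag(T) the image of the projective conformal symplectic group PGSp_{2m}(F), and x a field automorphism of T of prime order r. Then r divides f; C_G(x) is isomorphic to PGSp_{2m}(F₀) for a field F₀ with p^(f/r) elements; and the G-class of x is the union of exactly gcd(gcd(2, p^f − 1), r) T-classes. -/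
theorem result {F : Type*} [Field F] [Fintype F] {p f : ℕ} [Fact p.Prime] (hF : Fintype.card F = p ^ f) (hf : 1 ≤ f) {m : ℕ} (hm : 2 ≤ m) (hs : m = 2 → 3 ≤ Fintype.card F) (x : MulAut (Cfsg.PSp m F)) (hx : Cfsg.IsFieldAutClassPSp x) {r : ℕ} (hr : r.Prime) (hxr : orderOf x = r) (F₀ : Type*) [Field F₀] [Fintype F₀] (hF₀ : Fintype.card F₀ = p ^ (f / r)) :
    r ∣ f ∧ Nonempty (↥(Cfsg.inndiagPSp m F ⊓ Subgroup.centralizer {x}) ≃* Cfsg.PGSp m F₀) ∧ Cfsg.splitClassCount (Cfsg.inndiagPSp m F) (Cfsg.Inn (Cfsg.PSp m F)) x = Nat.gcd (Nat.gcd 2 (p ^ f - 1)) r := by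
  classical
  haveI : NeZero m := ⟨by omega⟩
  have hchar : CharP F p := charP_of_card_eq_prime_pow hF
  obtain ⟨α, σ, hσ1, hstd⟩ := hx
  rw [Cfsg.Agent.Lib.Helper45.SpAut.isStdField_iff] at hstd
  have hx' : x = α⁻¹ * Cfsg.Agent.Lib.Helper45.SpAut.Phi σ * α⁻¹⁻¹ := by
    rw [← hstd]; group
  have hσr : orderOf σ = r := by
    rw [← orderOf_injective (Cfsg.Agent.Lib.Helper45.SpAut.Phi : (F ≃+* F) →* MulAut (Cfsg.PSp m F))
      Cfsg.Agent.Lib.Helper45.SpAut.Phi_injective σ, ← hstd,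
      Cfsg.Agent.Lib.Helper45.AutPSL.orderOf_conj_eq, hxr]
  obtain ⟨F₁, hmem, hrank⟩ := Cfsg.Agent.Lib.Helper5.AutPSLn.exists_fixed_subfield σ
  rw [hσr] at hrank
  obtain ⟨hdvd, hcard⟩ := Cfsg.Agent.Lib.Helper5.AutPSLn.card_fixed_subfield hF hr.pos F₁ hrank
  let instF₁ : Fintype F₁ := Fintype.ofFinite F₁
  have hcc : Fintype.card F₀ = Fintype.card F₁ := by
    rw [hF₀, ← hcard, Nat.card_eq_fintype_card]
  let e₀ : F₀ ≃+* F₁ := FiniteField.ringEquivOfCardEq (K := F₀) (K' := F₁) hcc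
  let j : F₀ →+* F := (F₁.subtype : F₁ →+* F).comp (e₀ : F₀ →+* F₁)
  have hj : ∀ a : F, σ a = a ↔ a ∈ Set.range j := by
    intro a
    rw [← hmem]
    constructor
    · intro h
      exact ⟨e₀.symm ⟨a, h⟩, by simp [j]⟩
    · rintro ⟨y, rfl⟩
      exact (e₀ y).2
  haveI hnorm := Cfsg.Agent.Lib.Helper45.SpAut.Gam_range_normal (m := m) (F := F) hm
  rw [Cfsg.Agent.Lib.Helper45.SpAut.inndiag_eq]
  refine ⟨hdvd, ?_, ?_⟩
  · obtain ⟨E⟩ := Cfsg.Agent.Lib.Helper45.SpAut.centralizer_Phi_equivSp hm σ j hj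
    have E2 := Cfsg.Agent.Lib.Helper45.AutPSL.centralizerConjEquiv
      (Cfsg.Agent.Lib.Helper45.SpAut.Gam : ↥(Cfsg.GSp m F) →* MulAut (Cfsg.PSp m F)).range α⁻¹
      (Cfsg.Agent.Lib.Helper45.SpAut.Phi σ)
    rw [← hx'] at E2
    exact ⟨E2.symm.trans E⟩
  · rw [hx', Cfsg.Agent.Lib.Helper45.AutPSL.splitClassCount_conj]
    exact Cfsg.Agent.Lib.Helper45.SpAut.split_count_PhiSp hm hF σ hr hσr

end Cfsg.Agent.S2712
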