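import Cfsg.Statements.S2717
import Cfsg.Agent.Lib.Helper99.GF13
import Cfsg.Agent.Lib.Helper37.OrthGlue
import Cfsg.Agent.S2695

set_option autoImplicit false
open Cfsg

namespace Cfsg.Agent.S2717

/-- Let T = PΩ⁺_{2m}(F) with m ≥ 5 (dimension 2m ≠ 8) and |F| = p^f, G = Inndiag(T), and x an involutory graph-field automorphism of T. Then f is even; any two involutory graph-field automorphisms of T are G-conjugate; C_G(x) is isomorphic to Inndiag(PΩ⁻_{2m}(F₀)) for a field F₀ with p^(f/2) elements (some anisotropic binary part over F₀); and the G-class of x is the union of exactly c T-classes with c = 1 if p = 2, c = 4 if p is odd, m is odd and p^(f/2) ≡ 1 (mod 4), and c = 2 otherwise. -/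
theorem result {F : Type*} [Field F] [Fintype F] {p f : ℕ} [Fact p.Prime] (hF : Fintype.card F = p ^ f) (hf : 1 ≤ f) {m : ℕ} (hm : 5 ≤ m) (x : MulAut (Cfsg.POmega F (Cfsg.quadFormPlus m F))) (hx : Cfsg.IsGraphFieldAutClassPOmegaPlus m x) (hx2 : orderOf x = 2) (F₀ : Type*) [Field F₀] [Fintype F₀] (hF₀ : Fintype.card F₀ = p ^ (f / 2)) :
    Even f ∧ (∀ y : MulAut (Cfsg.POmega F (Cfsg.quadFormPlus m F)), Cfsg.IsGraphFieldAutClassPOmegaPlus m y → orderOf y = 2 → Cfsg.IsConjUnder (Cfsg.inndiagPOmegaPlus m F) x y) ∧ (∃ a₀ b₀ : F₀, (∀ z₁ z₂ : F₀, z₁ ^ 2 + a₀ * z₁ * z₂ + b₀ * z₂ ^ 2 = 0 → z₁ = 0 ∧ z₂ = 0) ∧ Nonempty (↥(Cfsg.inndiagPOmegaPlus m F ⊓ Subgroup.centralizer {x}) ≃* ↥(Cfsg.inndiagPOmegaMinus (m - 1) F₀ a₀ b₀))) ∧ (p = 2 → Cfsg.splitClassCount (Cfsg.inndiagPOmegaPlus m F) (Cfsg.Inn (Cfsg.POmega F (Cfsg.quadFormPlus m F))) x = 1) ∧ ((p ≠ 2 ∧ Odd m ∧ p ^ (f / 2) % 4 = 1) → Cfsg.splitClassCount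 (Cfsg.inndiagPOmegaPlus m F) (Cfsg.Inn (Cfsg.POmega F (Cfsg.quadFormPlus m F))) x = 4) ∧ ((p ≠ 2 ∧ ¬ (Odd m ∧ p ^ (f / 2) % 4 = 1)) → Cfsg.splitClassCount (Cfsg.inndiagPOmegaPlus m F) (Cfsg.Inn (Cfsg.POmega F (Cfsg.quadFormPlus m F))) x = 2) := by
  classical
  obtain ⟨k, rfl⟩ : ∃ k, m = k + 1 := ⟨m - 1, by omega⟩
  have hk : 4 ≤ k := by omega
  have hAutRaw := Cfsg.Agent.Lib.Helper37.OrthField.raw_of_gamma_eq_top _
    (Cfsg.Agent.S2695.result (F := F) hm)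
  have key : ∀ (Qf : (Fin (k + 1) ⊕ Fin (k + 1) → F) → F),
      Qf = ⇑(Cfsg.Agent.Lib.Helper8.plusForm (k + 1) F) →
      (∀ α : MulAut (Cfsg.POmega F Qf),
        ∃ (g : GL (Fin (k + 1) ⊕ Fin (k + 1)) F) (σ : F ≃+* F),
          Cfsg.IsSemisimilarityPair Qf g σ ∧ Cfsg.IsInducedBySemilinearPOmega Qf g σ α) →
      ∀ (x : MulAut (Cfsg.POmega F Qf)),
        (∃ (α γ φ : MulAut (Cfsg.POmega F Qf)) (σ : F ≃+* F)
          (v : Fin (k + 1) ⊕ Fin (k + 1) → F) (r₀ : GL (Fin (k + 1) ⊕ Fin (k + 1)) F),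
          σ ≠ RingEquiv.refl F ∧ Qf v ≠ 0 ∧ (∀ i, σ (v i) = v i) ∧
          (r₀ : Matrix (Fin (k + 1) ⊕ Fin (k + 1)) (Fin (k + 1) ⊕ Fin (k + 1)) F) =
            Cfsg.reflectionMatrix Qf v ∧
          Cfsg.IsInducedBySemilinearPOmega Qf r₀ (RingEquiv.refl F) γ ∧
          Cfsg.IsFieldAutPOmegaOf Qf σ φ ∧ α * x * α⁻¹ = γ * φ) →
        orderOf x = 2 →
        Even f ∧
        (∀ y : MulAut (Cfsg.POmega F Qf),
          (∃ (α γ φ : MulAut (Cfsg.POmega F Qf)) (σ : F ≃+* F)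
            (v : Fin (k + 1) ⊕ Fin (k + 1) → F) (r₀ : GL (Fin (k + 1) ⊕ Fin (k + 1)) F),
            σ ≠ RingEquiv.refl F ∧ Qf v ≠ 0 ∧ (∀ i, σ (v i) = v i) ∧
            (r₀ : Matrix (Fin (k + 1) ⊕ Fin (k + 1)) (Fin (k + 1) ⊕ Fin (k + 1)) F) =
              Cfsg.reflectionMatrix Qf v ∧
            Cfsg.IsInducedBySemilinearPOmega Qf r₀ (RingEquiv.refl F) γ ∧
            Cfsg.IsFieldAutPOmegaOf Qf σ φ ∧ α * y * α⁻¹ = γ * φ) →
          orderOf y = 2 →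
          Cfsg.IsConjUnder (Cfsg.autSubgroupOf
            (fun β : Cfsg.POmega F Qf ≃* Cfsg.POmega F Qf =>
              ∃ g : GL (Fin (k + 1) ⊕ Fin (k + 1)) F,
                g ∈ Cfsg.Geo.quadSimilarityGroup (F := F) Qf ∧
                Cfsg.PreservesSingularClasses Qf
                  (g : Matrix (Fin (k + 1) ⊕ Fin (k + 1)) (Fin (k + 1) ⊕ Fin (k + 1)) F) ∧
                Cfsg.IsInducedBySemilinearPOmega Qf g (RingEquiv.refl F) β)) x y) ∧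
        (∃ a₀ b₀ : F₀,
          (∀ z₁ z₂ : F₀, z₁ ^ 2 + a₀ * z₁ * z₂ + b₀ * z₂ ^ 2 = 0 → z₁ = 0 ∧ z₂ = 0) ∧
          Nonempty (↥(Cfsg.autSubgroupOf
            (fun β : Cfsg.POmega F Qf ≃* Cfsg.POmega F Qf =>
              ∃ g : GL (Fin (k + 1) ⊕ Fin (k + 1)) F,
                g ∈ Cfsg.Geo.quadSimilarityGroup (F := F) Qf ∧
                Cfsg.PreservesSingularClasses Qf
                  (g : Matrix (Fin (k + 1) ⊕ Fin (k + 1)) (Fin (k + 1) ⊕ Fin (k + 1)) F) ∧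
                Cfsg.IsInducedBySemilinearPOmega Qf g (RingEquiv.refl F) β) ⊓
              Subgroup.centralizer {x}) ≃* ↥(Cfsg.inndiagPOmegaMinus k F₀ a₀ b₀))) ∧
        (p = 2 → Cfsg.splitClassCount (Cfsg.autSubgroupOf
            (fun β : Cfsg.POmega F Qf ≃* Cfsg.POmega F Qf =>
              ∃ g : GL (Fin (k + 1) ⊕ Fin (k + 1)) F,
                g ∈ Cfsg.Geo.quadSimilarityGroup (F := F) Qf ∧
                Cfsg.PreservesSingularClasses Qf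
                  (g : Matrix (Fin (k + 1) ⊕ Fin (k + 1)) (Fin (k + 1) ⊕ Fin (k + 1)) F) ∧
                Cfsg.IsInducedBySemilinearPOmega Qf g (RingEquiv.refl F) β))
          (Cfsg.Inn (Cfsg.POmega F Qf)) x = 1) ∧
        ((p ≠ 2 ∧ Odd (k + 1) ∧ p ^ (f / 2) % 4 = 1) →
          Cfsg.splitClassCount (Cfsg.autSubgroupOf
            (fun β : Cfsg.POmega F Qf ≃* Cfsg.POmega F Qf =>
              ∃ g : GL (Fin (k + 1) ⊕ Fin (k + 1)) F,
                g ∈ Cfsg.Geo.quadSimilarityGroup (F := F) Qf ∧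
                Cfsg.PreservesSingularClasses Qf
                  (g : Matrix (Fin (k + 1) ⊕ Fin (k + 1)) (Fin (k + 1) ⊕ Fin (k + 1)) F) ∧
                Cfsg.IsInducedBySemilinearPOmega Qf g (RingEquiv.refl F) β))
          (Cfsg.Inn (Cfsg.POmega F Qf)) x = 4) ∧
        ((p ≠ 2 ∧ ¬ (Odd (k + 1) ∧ p ^ (f / 2) % 4 = 1)) →
          Cfsg.splitClassCount (Cfsg.autSubgroupOf
            (fun β : Cfsg.POmega F Qf ≃* Cfsg.POmega F Qf =>
              ∃ g : GL (Fin (k + 1) ⊕ Fin (k + 1)) F,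
                g ∈ Cfsg.Geo.quadSimilarityGroup (F := F) Qf ∧
                Cfsg.PreservesSingularClasses Qf
                  (g : Matrix (Fin (k + 1) ⊕ Fin (k + 1)) (Fin (k + 1) ⊕ Fin (k + 1)) F) ∧
                Cfsg.IsInducedBySemilinearPOmega Qf g (RingEquiv.refl F) β))
          (Cfsg.Inn (Cfsg.POmega F Qf)) x = 2) := by
    intro Qf hQf
    subst hQf
    intro hAut x hx hx2
    have hmap := Cfsg.Agent.Lib.Helper37.autSubgroupOf_eq_map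
      (Q := ⇑(Cfsg.Agent.Lib.Helper8.plusForm (k + 1) F))
      (fun g : GL (Fin (k + 1) ⊕ Fin (k + 1)) F =>
        Cfsg.PreservesSingularClasses ⇑(Cfsg.Agent.Lib.Helper8.plusForm (k + 1) F)
          (g : Matrix (Fin (k + 1) ⊕ Fin (k + 1)) (Fin (k + 1) ⊕ Fin (k + 1)) F))
      (Cfsg.Agent.Lib.Helper37.OrthField.simP (Cfsg.Agent.Lib.Helper8.plusForm (k + 1) F)
        (Cfsg.Agent.Lib.Helper8.plusForm_nondegenerate (k + 1) F)
        Cfsg.Agent.Lib.Helper37.OrthField.plus_hV (Cfsg.Agent.Lib.Helper14.stdL (k + 1) F)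
        Cfsg.Agent.Lib.Helper37.OrthField.plus_lag)
      (fun g => (Cfsg.Agent.Lib.Helper37.OrthField.mem_simP_iff_preserves
        (Cfsg.Agent.Lib.Helper8.plusForm (k + 1) F)
        (Cfsg.Agent.Lib.Helper8.plusForm_nondegenerate (k + 1) F)
        Cfsg.Agent.Lib.Helper37.OrthField.plus_hV (Cfsg.Agent.Lib.Helper14.stdL (k + 1) F)
        Cfsg.Agent.Lib.Helper37.OrthField.plus_lag g).symm)
    rw [hmap]
    exact Cfsg.Agent.Lib.Helper99.GF.gf_main hF hk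
      (Cfsg.Agent.Lib.Helper37.OrthField.autSemi_of_raw _ hAut) _ (fun _ => Iff.rfl) x hx hx2
      F₀ hF₀
  exact key _ (Cfsg.Agent.Lib.Helper8.plusForm_coe (k + 1) F) hAutRaw x hx hx2

end Cfsg.Agent.S2717
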