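import Cfsg.Statements.S2721
import Cfsg.Agent.Lib.Helper37.FusGlue1
import Cfsg.Agent.Lib.Helper37.PlusDiag
import Cfsg.Agent.Lib.Helper37.MinusDiag
import Cfsg.Agent.Lib.Helper8.OrthForms
import Cfsg.Agent.Lib.Helper8.OrthFormsMinus

set_option autoImplicit false
open Cfsg

namespace Cfsg.Agent.S2721

/-- Let T = PΩ⁻_{2m+2}(F) (m ≥ 3, F finite of odd characteristic p), G = Inndiag(T), and let x be an automorphism of T induced by a similarity of the form (an element of the image G̃ of the conformal orthogonal group) of odd prime order r ≠ p. Then the T-class, the PSO-class and the G-class of x coincide (conjugacy under inner automorphisms, under the image of the special orthogonal group, and under G), and the PO-class of x coincides with its G̃-class. (In characteristic 2 the first equality fails: there the special orthogonal group is the full orthogonal group and some such classes split.) -/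
theorem result {F : Type*} [Field F] [Fintype F] {p : ℕ} [Fact p.Prime] [CharP F p] (hp : p ≠ 2) {m : ℕ} (hm : 3 ≤ m) (a b : F) (hab : (∀ z₁ z₂ : F, z₁ ^ 2 + a * z₁ * z₂ + b * z₂ ^ 2 = 0 → z₁ = 0 ∧ z₂ = 0)) (x : MulAut (Cfsg.POmega F (Cfsg.quadFormMinus m F a b))) (hx : x ∈ Cfsg.pgoAut F (Cfsg.quadFormMinus m F a b)) {r : ℕ} (hr : r.Prime) (hro : Odd r) (hrp : r ≠ p) (hxr : orderOf x = r) :
    (∀ y : MulAut (Cfsg.POmega F (Cfsg.quadFormMinus m F a b)), (Cfsg.IsConjUnder (Cfsg.Inn (Cfsg.POmega F (Cfsg.quadFormMinus m F a b))) x y ↔ Cfsg.IsConjUnder (Cfsg.inndiagPOmegaMinus m F a b) x y) ∧ (Cfsg.IsConjUnder (Cfsg.psoAut F (Cfsg.quadFormMinus m F a b)) x y ↔ Cfsg.IsConjUnder (Cfsg.inndiagPOmegaMinus m F a b) x y)) ∧ (∀ y : MulAut (Cfsg.POmega F (Cfsg.quadFormMinus m F a b)), Cfsg.IsConjUnder (Cfsg.poAut F (Cfsg.quadFormMinus m F a b)) x y ↔ Cfsg.IsConjUnder (Cfsg.pgoAut F (Cfsg.quadFormMinus m F a b)) x y) := by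
  classical
  have h2 : (2 : F) ≠ 0 := by
    intro h0
    have h1 : ((2 : ℕ) : F) = 0 := by exact_mod_cast h0
    rw [CharP.cast_eq_zero_iff F p] at h1
    have hp2 : p.Prime := Fact.out
    exact hp ((Nat.prime_dvd_prime_iff_eq hp2 Nat.prime_two).1 h1)
  have hoddF : Odd (Fintype.card F) := by
    rw [← Nat.not_even_iff_odd]
    intro he
    have h3 : ringChar F = 2 := FiniteField.even_card_iff_char_two.2 (Nat.even_iff.1 he)
    apply h2
    have : CharP F 2 := by rw [← h3]; exact ringChar.charP F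
    exact_mod_cast CharP.cast_eq_zero F 2
  rw [Cfsg.Agent.Lib.Helper37.minus_inndiag_eq hoddF hm a b hab]
  have hG := Cfsg.Agent.Lib.Helper37.minus_isGram (Cfsg.Agent.Lib.Helper37.two_ne_zero_of_odd_card hoddF) m a b
  have hdet := Cfsg.Agent.Lib.Helper37.gramM_det_ne_zero (Cfsg.Agent.Lib.Helper37.two_ne_zero_of_odd_card hoddF) m a b hab
  have hne := Cfsg.Agent.Lib.Helper37.exists_Q_eq_one hG hdet
    (by rw [Cfsg.Agent.Lib.Helper37.minus_card_two_mul]; omega)
  obtain ⟨w1, w2, hc⟩ := Cfsg.Agent.Lib.Helper37.exists_nonsquare_norm h2 a b hab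
  have hw0 : w1 ^ 2 + a * w1 * w2 + b * w2 ^ 2 ≠ 0 := by
    intro h0
    apply hc
    rw [h0]
    exact ⟨0, (mul_zero 0).symm⟩
  have hμ : Cfsg.Agent.Lib.Helper37.simMult (Cfsg.quadFormMinus m F a b)
      (Cfsg.Agent.Lib.Helper37.minusSim m a b w1 w2 hw0) = Units.mk0 _ hw0 := by
    apply Cfsg.Agent.Lib.Helper37.simMult_unique hne
    intro v
    exact Cfsg.Agent.Lib.Helper37.minusSimMat_Q m a b _ _ v
  exact Cfsg.Agent.Lib.Helper37.Fus.fus_fun (Cfsg.quadFormMinus m F a b)
    (Cfsg.Agent.Lib.Helper8.minusForm m F a b) (Cfsg.Agent.Lib.Helper8.minusForm_coe m F a b)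
    hG hdet (Cfsg.Agent.Lib.Helper37.minus_card_two_mul m)
    (by rw [Cfsg.Agent.Lib.Helper37.minus_card_two_mul]; omega)
    (Cfsg.Agent.Lib.Helper37.minus_hker hm a b hab)
    (Cfsg.Agent.Lib.Helper37.minusSim m a b w1 w2 hw0)
    (by rw [hμ, Units.val_mk0]; exact hc)
    x hx hr hro hrp hxr

end Cfsg.Agent.S2721
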