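import Cfsg.Statements.S2726
import Cfsg.Agent.Lib.Helper37.MinusAut

set_option autoImplicit false
open Cfsg

namespace Cfsg.Agent.S2726

/-- Let T = PΩ⁻_{2m+2}(F) with m ≥ 3 and |F| = q odd (form with anisotropic binary part). Inside Aut(T), the image G̃ of the conformal orthogonal group of the form modulo the image of the special orthogonal group is elementary abelian of order 4. -/
theorem result {F : Type*} [Field F] [Fintype F] (hodd : Odd (Fintype.card F)) {m : ℕ} (hm : 3 ≤ m) (a b : F) (hab : (∀ z₁ z₂ : F, z₁ ^ 2 + a * z₁ * z₂ + b * z₂ ^ 2 = 0 → z₁ = 0 ∧ z₂ = 0)) :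
    (∃ φ : ↥(Cfsg.pgoAut F (Cfsg.quadFormMinus m F a b)) →* Multiplicative (ZMod 2 × ZMod 2), Function.Surjective φ ∧ φ.ker = (Cfsg.psoAut F (Cfsg.quadFormMinus m F a b)).subgroupOf (Cfsg.pgoAut F (Cfsg.quadFormMinus m F a b))) := by
  classical
  have h2 : (2 : F) ≠ 0 := Cfsg.Agent.Lib.Helper37.two_ne_zero_of_odd_card hodd
  obtain ⟨d, hd⟩ := Cfsg.Agent.Lib.Helper37.minus_exists_sim h2 m a b hab
  exact Cfsg.Agent.Lib.Helper37.pgo_mod_pso (Cfsg.Agent.Lib.Helper37.minus_isGram h2 m a b)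
    (Cfsg.Agent.Lib.Helper37.gramM_det_ne_zero h2 m a b hab)
    (Cfsg.Agent.Lib.Helper37.minus_card_two_mul m)
    (by rw [Cfsg.Agent.Lib.Helper37.minus_card_two_mul]; omega)
    (Cfsg.Agent.Lib.Helper37.minus_hker hm a b hab) d hd

end Cfsg.Agent.S2726
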