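import Cfsg.Statements.S2729
import Cfsg.Agent.Lib.Helper37.MinusDiag
import Cfsg.Agent.S0791

set_option autoImplicit false
open Cfsg

namespace Cfsg.Agent.S2729

/-- Let T = PΩ⁻_{2m+2}(F) with m ≥ 3 and |F| = q odd (form with anisotropic binary part). The inner-diagonal group G = Inndiag(T) (image of the class-preserving similarities) taken modulo the inner automorphism group T is cyclic of order 4 when m is even and q ≡ 3 (mod 4), and of order 2 otherwise. -/
theorem result {F : Type*} [Field F] [Fintype F] (hodd : Odd (Fintype.card F)) {m : ℕ} (hm : 3 ≤ m) (a b : F) (hab : (∀ z₁ z₂ : F, z₁ ^ 2 + a * z₁ * z₂ + b * z₂ ^ 2 = 0 → z₁ = 0 ∧ z₂ = 0)) :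
    ((Even m ∧ Fintype.card F % 4 = 3) → (∃ φ : ↥(Cfsg.inndiagPOmegaMinus m F a b) →* Multiplicative (ZMod 4), Function.Surjective φ ∧ φ.ker = (Cfsg.Inn (Cfsg.POmega F (Cfsg.quadFormMinus m F a b))).subgroupOf (Cfsg.inndiagPOmegaMinus m F a b))) ∧ (¬ (Even m ∧ Fintype.card F % 4 = 3) → (∃ φ : ↥(Cfsg.inndiagPOmegaMinus m F a b) →* Multiplicative (ZMod 2), Function.Surjective φ ∧ φ.ker = (Cfsg.Inn (Cfsg.POmega F (Cfsg.quadFormMinus m F a b))).subgroupOf (Cfsg.inndiagPOmegaMinus m F a b))) := by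
  classical
  have h2 : (2 : F) ≠ 0 := Cfsg.Agent.Lib.Helper37.two_ne_zero_of_odd_card hodd
  have hcrit := Cfsg.Agent.S0791.result (F := F) rfl hodd (m + 1) (by omega) a b hab
  rw [Nat.add_sub_cancel] at hcrit
  have hmain := Cfsg.Agent.Lib.Helper37.minus_inndiag_structure h2 hm a b hab
    (Cfsg.inndiagPOmegaMinus m F a b)
    (Cfsg.Agent.Lib.Helper37.minus_inndiag_eq hodd hm a b hab)
  constructor
  · rintro ⟨hme, hq⟩
    apply hmain.2 _ hme
    rw [hcrit]
    obtain ⟨r, rfl⟩ := hme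
    have : r + r + 1 = 2 * r + 1 := by ring
    rw [this, Cfsg.Agent.Lib.Helper37.pow_mod_four_odd _ r hodd, hq]
  · intro hnot
    apply hmain.1
    rw [hcrit]
    rcases Nat.even_or_odd' m with ⟨r, rfl | rfl⟩
    · rw [Cfsg.Agent.Lib.Helper37.pow_mod_four_odd _ r hodd]
      exact fun h3 => hnot ⟨⟨r, by ring⟩, h3⟩
    · have : 2 * r + 1 + 1 = 2 * (r + 1) := by ring
      rw [this, Cfsg.Agent.Lib.Helper37.pow_mod_four_even _ (r + 1) hodd]
      decide

end Cfsg.Agent.S2729
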