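import Cfsg.Statements.S2731
import Cfsg.Agent.Lib.Helper99.LB6
import Cfsg.Agent.S2694

set_option autoImplicit false
open Cfsg

namespace Cfsg.Agent.S2731

/-- A criterion for the failure of local balance in almost simple groups whose socle is an odd-dimensional orthogonal group Ω_{2m+1}(F) (m ≥ 3, |F| odd; the form x₀² + Σ xᵢ yᵢ). Let F be a finite field of characteristic r and K the (simple) group in question; let A be a group of automorphisms of K containing all inner automorphisms, and x ∈ A an automorphism of prime order p ≠ r that is not inner-diagonal (not induced by a similarity of the form). Then the largest normal subgroup of C_A(x) of order prime to p is nontrivial if and only if x is a field automorphism of K (conjugate under Aut(K) to a non-identity standard field automorphism) and p does not divide the number of fixed points of x on K. -/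
theorem result {F : Type*} [Field F] [Fintype F] {r : ℕ} [Fact r.Prime] [CharP F r] (hodd : Odd (Fintype.card F)) {m : ℕ} (hm : 3 ≤ m) (hK : IsSimpleGroup (Cfsg.POmega F (Cfsg.quadFormOdd m F))) (A : Subgroup (MulAut (Cfsg.POmega F (Cfsg.quadFormOdd m F)))) (hinn : ∀ k : Cfsg.POmega F (Cfsg.quadFormOdd m F), MulAut.conj k ∈ A) {p : ℕ} [Fact p.Prime] (hpr : p ≠ r) (x : MulAut (Cfsg.POmega F (Cfsg.quadFormOdd m F))) (hxA : x ∈ A) (hord : orderOf x = p) (hnot : ¬ Cfsg.IsInnerDiagonalAutPOmegaOdd m x) :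
    Cfsg.pPrimeCore p ↥(A ⊓ Subgroup.centralizer {x}) ≠ ⊥ ↔ (Cfsg.IsFieldAutClassPOmega (Cfsg.quadFormOdd m F) x ∧ Nat.Coprime p (Nat.card ↥(MonoidHom.eqLocus x.toMonoidHom (MonoidHom.id (Cfsg.POmega F (Cfsg.quadFormOdd m F)))))) := by
  classical
  have h2 := Cfsg.Agent.Lib.Helper37.OrthField.two_ne_zero_of_odd hodd
  have hpP : p.Prime := Fact.out
  have key : ∀ (Qf : (Unit ⊕ (Fin m ⊕ Fin m) → F) → F),
      Qf = ⇑(Cfsg.Agent.Lib.Helper43.oddForm m F) →
      (∀ α : MulAut (Cfsg.POmega F Qf),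
        ∃ (g : GL (Unit ⊕ (Fin m ⊕ Fin m)) F) (σ : F ≃+* F),
          Cfsg.IsSemisimilarityPair Qf g σ ∧ Cfsg.IsInducedBySemilinearPOmega Qf g σ α) →
      ∀ (A : Subgroup (MulAut (Cfsg.POmega F Qf))) (hinn : ∀ k : Cfsg.POmega F Qf, MulAut.conj k ∈ A)
        (x : MulAut (Cfsg.POmega F Qf)) (hord : orderOf x = p)
        (hnot : ¬ Cfsg.IsSimilarityInducedAutPOmega Qf x),
        Cfsg.pPrimeCore p ↥(A ⊓ Subgroup.centralizer {x}) ≠ ⊥ ↔
          (Cfsg.IsFieldAutClassPOmega Qf x ∧ Nat.Coprime p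
            (Nat.card ↥(MonoidHom.eqLocus x.toMonoidHom (MonoidHom.id (Cfsg.POmega F Qf))))) := by
    intro Qf hQf
    subst hQf
    intro hAutRaw A hinn x hord hnot
    open Cfsg.Agent.Lib.Helper37 Cfsg.Agent.Lib.Helper37.OrthField Cfsg.Agent.Lib.Helper43
      Cfsg.Agent.Lib.Helper99 Cfsg.Agent.Lib.Helper99.LB Cfsg.Agent.Lib.Helper45.Balance in
    (
    have hcardι : Fintype.card (Unit ⊕ (Fin m ⊕ Fin m)) = 2 * m + 1 := by
      simp only [Fintype.card_sum, Fintype.card_fin, Fintype.card_unit]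
      omega
    have hn : Module.finrank F (Unit ⊕ (Fin m ⊕ Fin m) → F) = 2 * m + 1 := odd_finrank m
    have hQ := odd_nondeg (F := F) m h2
    have hfam := odd_hypFam' m F
    have hcardF : Fintype.card F ≠ 2 ∨ Module.finrank F (Unit ⊕ (Fin m ⊕ Fin m) → F) ≠ 4 :=
      Or.inr (by rw [hn]; omega)
    have hn5 : 5 ≤ Module.finrank F (Unit ⊕ (Fin m ⊕ Fin m) → F) := by rw [hn]; omega
    have hn2 : (2 : F) = 0 → 7 ≤ Module.finrank F (Unit ⊕ (Fin m ⊕ Fin m) → F) :=
      fun h => absurd h h2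
    have hAut : AutSemi ⇑(oddForm m F) := autSemi_of_raw _ hAutRaw
    have hinv : ∀ (σ : F ≃+* F) v, oddForm m F (vm σ v) = σ (oddForm m F v) :=
      fun σ v => odd_inv m σ v
    obtain ⟨px, hpx⟩ := hAut x
    have hσ : px.1.right ≠ 1 := by
      intro h1
      apply hnot
      refine ⟨px.1.left, mem_sim_of_right_eq_one _ px h1, ?_⟩
      have := (isInduced_iff_Psi _ px x).2 hpx
      rw [h1] at this
      exact this
    have hxr' : (Psi ⇑(oddForm m F) px) ^ p = 1 := by
      rw [← hpx, ← hord]; exact pow_orderOf_eq_one x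
    obtain ⟨t, ht⟩ := conj_to_field (oddForm m F) hQ hfam hm hcardF hn5 hn2 px p hpP hxr' hσ
      (hinv px.1.right) (odd_hcls m h2 px.1.right)
    have hphi : phiF (oddForm m F) px.1.right (hinv px.1.right) =
        phiF (oddForm m F) px.1.right (hinv px.1.right) := rfl
    obtain ⟨σ, hσdef⟩ : ∃ σ : F ≃+* F, σ = px.1.right := ⟨_, rfl⟩
    have hx' : x = Phi ⇑(oddForm m F) t * phiF (oddForm m F) σ (hinv σ) *
        (Phi ⇑(oddForm m F) t)⁻¹ := by
      rw [hpx, ht]
      subst hσdef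
      rfl
    have hσ1 : σ ≠ 1 := by rw [hσdef]; exact hσ
    obtain ⟨F₁, hmem, -⟩ := Cfsg.Agent.Lib.Helper5.AutPSLn.exists_fixed_subfield σ
    letI instF₁ : Fintype F₁ := Fintype.ofFinite F₁
    have hj : ∀ a : F, σ a = a ↔ a ∈ Set.range (F₁.subtype : F₁ →+* F) := by
      intro a
      rw [← hmem]
      constructor
      · intro h
        exact ⟨⟨a, h⟩, rfl⟩
      · rintro ⟨y, rfl⟩
        exact y.2
    have h2₀ : (2 : F₁) ≠ 0 := two_ne_zero_of_map (F₁.subtype : F₁ →+* F) h2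
    have hQ₀ : ∀ w, (F₁.subtype : F₁ →+* F) (oddForm m F₁ w) =
        oddForm m F (jv (F₁.subtype : F₁ →+* F) w) := by
      intro w
      have h := quadFormOdd_map (F₁.subtype : F₁ →+* F) m w
      rw [oddForm_coe, oddForm_coe] at h
      exact h
    have hA : AutO.Amb (oddForm m F) :=
      ⟨h2, hQ, by rw [hcardι]; exact ⟨m, rfl⟩, by rw [hn]; omega⟩
    have hn₀ : Module.finrank F₁ (Unit ⊕ (Fin m ⊕ Fin m) → F₁) = 2 * m + 1 := odd_finrank m
    have hA₀ : AutO.Amb (oddForm m F₁) :=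
      ⟨h2₀, odd_nondeg m h2₀, by rw [hcardι]; exact ⟨m, rfl⟩, by rw [hn₀]; omega⟩
    have heven := even_card_omega_odd h2₀ hm hA₀
    have hgood : Good p (phiF (oddForm m F) σ (hinv σ))
        (iota0 (F₁.subtype : F₁ →+* F) (oddForm m F) (oddForm m F₁) hQ₀).range :=
      good_phiF (F₁.subtype : F₁ →+* F) (oddForm m F) (oddForm m F₁) hQ₀ hA hA₀
        (odd_hypFam' m F₁) hm hAut hinv σ hj heven
    have hgood' := hgood.conj (Phi ⇑(oddForm m F) t)
    rw [← hx'] at hgood'
    have hZ := conj_injective (oddForm m F) hA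
    have hxInn : x ∉ Cfsg.Inn (Cfsg.POmega F ⇑(oddForm m F)) := by
      intro hxI
      rw [inn_eq] at hxI
      obtain ⟨g, -, hg⟩ := hxI
      apply hnot
      exact ⟨g.1, g.2, (isInduced_iff _ g.1 g.2 x).2 hg.symm⟩
    have hiff := hgood'.core_ne_bot_iff hZ A hinn hord hxInn
    have hfc : Cfsg.IsFieldAutClassPOmega ⇑(oddForm m F) x := by
      refine ⟨(Phi ⇑(oddForm m F) t)⁻¹, phiF (oddForm m F) σ (hinv σ), σ, hσ1,
        (isFieldAutOf_iff _ σ (hinv σ) _).2 rfl, ?_⟩
      rw [hx']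
      group
    rw [hiff]
    exact ⟨fun h => ⟨hfc, h⟩, fun h => h.2⟩)
  exact key _ (Cfsg.Agent.Lib.Helper43.oddForm_coe m F)
    (Cfsg.Agent.Lib.Helper37.OrthField.raw_of_gamma_eq_top _ (Cfsg.Agent.S2694.result hodd hm))
    A hinn x hord hnot

end Cfsg.Agent.S2731
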