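import Cfsg.Statements.S2738
-- import your own Cfsg.Agent.* helpers here

set_option autoImplicit false
open Cfsg

namespace Cfsg.Agent.S2738

theorem mem_of_isComplement'_center {G : Type*} [Group G] (K : Subgroup G)
    (hK : Subgroup.IsComplement' (Subgroup.center G) K) (a b c : G)
    (hab : a * b = c * (b * a)) : c ∈ K := by
  obtain ⟨⟨⟨z₁, hz₁⟩, ⟨k₁, hk₁⟩⟩, h₁, -⟩ := hK.existsUnique a
  obtain ⟨⟨⟨z₂, hz₂⟩, ⟨k₂, hk₂⟩⟩, h₂, -⟩ := hK.existsUnique b
  simp only at h₁ h₂
  have c1 : ∀ g, g * z₁ = z₁ * g := Subgroup.mem_center_iff.mp hz₁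
  have c2 : ∀ g, g * z₂ = z₂ * g := Subgroup.mem_center_iff.mp hz₂
  have e1 : a * b = (z₁ * z₂) * (k₁ * k₂) := by
    rw [← h₁, ← h₂]
    calc z₁ * k₁ * (z₂ * k₂) = z₁ * (k₁ * z₂) * k₂ := by simp only [mul_assoc]
      _ = z₁ * (z₂ * k₁) * k₂ := by rw [c2 k₁]
      _ = z₁ * z₂ * (k₁ * k₂) := by simp only [mul_assoc]
  have e2 : b * a = (z₁ * z₂) * (k₂ * k₁) := by
    rw [← h₁, ← h₂]
    calc z₂ * k₂ * (z₁ * k₁) = z₂ * (k₂ * z₁) * k₁ := by simp only [mul_assoc]
      _ = z₂ * (z₁ * k₂) * k₁ := by rw [c1 k₂]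
      _ = (z₂ * z₁) * (k₂ * k₁) := by simp only [mul_assoc]
      _ = (z₁ * z₂) * (k₂ * k₁) := by rw [c1 z₂]
  rw [e1, e2] at hab
  have c3 : c * (z₁ * z₂) = (z₁ * z₂) * c := by
    rw [← mul_assoc, c1 c, mul_assoc, c2 c, mul_assoc]
  have hab' : (z₁ * z₂) * (k₁ * k₂) = (z₁ * z₂) * (c * (k₂ * k₁)) := by
    rw [hab, ← mul_assoc c, c3, mul_assoc]
  have h3 := mul_left_cancel hab'
  have hc : c = k₁ * k₂ * (k₂ * k₁)⁻¹ := eq_mul_inv_of_mul_eq h3.symm
  rw [hc]
  exact K.mul_mem (K.mul_mem hk₁ hk₂) (K.inv_mem (K.mul_mem hk₂ hk₁))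

/-- The special linear group SL(3, 4) has centre of order 3 and does not split over it: no subgroup is a complement to the centre (so SL(3, 4) is a non-split central extension of PSL(3, 4) by a group of order 3). -/
theorem result (F : Type*) [Field F] [Fintype F] (hF : Fintype.card F = 4) : Nat.card ↥(Subgroup.center (Matrix.SpecialLinearGroup (Fin 3) F)) = 3 ∧ ¬ ∃ K : Subgroup (Matrix.SpecialLinearGroup (Fin 3) F), Subgroup.IsComplement' (Subgroup.center (Matrix.SpecialLinearGroup (Fin 3) F)) K := by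
  classical
  have hcube : ∀ u : Fˣ, u ^ 3 = 1 := by
    intro u
    have := FiniteField.pow_card_sub_one_eq_one (u : F) u.ne_zero
    rw [hF] at this
    ext
    simpa using this
  constructor
  · have e := Matrix.SpecialLinearGroup.center_equiv_rootsOfUnity' (n := Fin 3) (R := F) 0
    rw [Nat.card_congr e.toEquiv]
    simp only [Fintype.card_fin]
    have htop : rootsOfUnity 3 F = ⊤ := by
      ext u
      simp [mem_rootsOfUnity, hcube u]
    rw [htop, Subgroup.card_top, Nat.card_units, Nat.card_eq_fintype_card, hF]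
  · rintro ⟨K, hK⟩
    obtain ⟨ω, hω0, hω1⟩ : ∃ ω : F, ω ≠ 0 ∧ ω ≠ 1 := by
      by_contra hcon
      push Not at hcon
      have hsub : (Finset.univ : Finset F) ⊆ {0, 1} := by
        intro x _
        by_cases hx : x = 0
        · simp [hx]
        · simp [hcon x hx]
      have h2 : Fintype.card F ≤ 2 :=
        calc Fintype.card F = (Finset.univ : Finset F).card := rfl
          _ ≤ ({0, 1} : Finset F).card := Finset.card_le_card hsub
          _ ≤ 2 := Finset.card_le_two
      omega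
    have hω3 : ω ^ 3 = 1 := by
      have := FiniteField.pow_card_sub_one_eq_one ω hω0
      rwa [hF] at this
    let a : Matrix.SpecialLinearGroup (Fin 3) F :=
      ⟨!![1, 0, 0; 0, ω, 0; 0, 0, ω ^ 2], by
        rw [Matrix.det_fin_three]
        simp
        linear_combination hω3⟩
    let b : Matrix.SpecialLinearGroup (Fin 3) F :=
      ⟨!![0, 0, 1; 1, 0, 0; 0, 1, 0], by
        rw [Matrix.det_fin_three]
        simp⟩
    let c : Matrix.SpecialLinearGroup (Fin 3) F :=
      ⟨!![ω, 0, 0; 0, ω, 0; 0, 0, ω], by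
        rw [Matrix.det_fin_three]
        simp
        linear_combination hω3⟩
    have habM : (!![1, 0, 0; 0, ω, 0; 0, 0, ω ^ 2] : Matrix (Fin 3) (Fin 3) F) * !![0, 0, 1; 1, 0, 0; 0, 1, 0]
        = !![ω, 0, 0; 0, ω, 0; 0, 0, ω] * (!![0, 0, 1; 1, 0, 0; 0, 1, 0] * !![1, 0, 0; 0, ω, 0; 0, 0, ω ^ 2]) := by
      ext i j
      fin_cases i <;> fin_cases j <;>
        simp [Matrix.mul_apply, Fin.sum_univ_three]
      · linear_combination -hω3
      · ring
    have hab : a * b = c * (b * a) := by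
      apply Subtype.ext
      simp only [Matrix.SpecialLinearGroup.coe_mul]
      exact habM
    have hcK : c ∈ K := mem_of_isComplement'_center K hK a b c hab
    have hcZ : c ∈ Subgroup.center (Matrix.SpecialLinearGroup (Fin 3) F) := by
      rw [Matrix.SpecialLinearGroup.mem_center_iff]
      refine ⟨ω, ?_, ?_⟩
      · simp only [Fintype.card_fin]
        exact hω3
      · ext i j
        fin_cases i <;> fin_cases j <;> simp [c]
    have hc1 : c = 1 := by
      have := hK.disjoint
      rw [Subgroup.disjoint_def] at this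
      exact this hcZ hcK
    have h00 := congrArg (fun m : Matrix.SpecialLinearGroup (Fin 3) F => m.1 0 0) hc1
    simp [c] at h00
    exact hω1 h00

end Cfsg.Agent.S2738
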