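import Cfsg.Statements.S2739
-- import your own Cfsg.Agent.* helpers here

set_option autoImplicit false
open scoped Pointwise
open Cfsg

namespace Cfsg.Agent.S2739

open Matrix

section CH
variable {R : Type*} [CommRing R]

/-- second elementary symmetric function of a 3x3 matrix -/
def e2 (M : Matrix (Fin 3) (Fin 3) R) : R :=
  M 0 0 * M 1 1 + M 0 0 * M 2 2 + M 1 1 * M 2 2 - M 0 1 * M 1 0 - M 0 2 * M 2 0 - M 1 2 * M 2 1

theorem cayley3 (M : Matrix (Fin 3) (Fin 3) R) :
    M * M * M = M.trace • (M * M) - e2 M • M + M.det • (1 : Matrix (Fin 3) (Fin 3) R) := by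
  ext i j
  fin_cases i <;> fin_cases j <;>
    simp [Matrix.mul_apply, Fin.sum_univ_three, Matrix.det_fin_three, Matrix.trace_fin_three, e2] <;> ring

theorem charpoly3 (M : Matrix (Fin 3) (Fin 3) R) (l : R) :
    (l • (1 : Matrix (Fin 3) (Fin 3) R) - M).det = l ^ 3 - M.trace * l ^ 2 + e2 M * l - M.det := by
  simp [Matrix.det_fin_three, Matrix.trace_fin_three, e2]; ring

end CH

section field
variable {F : Type*} [Field F] [Fintype F]

theorem two_eq_zero (hF : Fintype.card F = 4) : (2 : F) = 0 := by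
  have h4 : (4 : F) = 0 := by
    have := Nat.cast_card_eq_zero F
    rw [hF] at this
    exact_mod_cast this
  have : (2 : F) * 2 = 0 := by rw [← h4]; norm_num
  exact mul_self_eq_zero.mp this

theorem cube_eq_one (hF : Fintype.card F = 4) (a : F) (ha : a ≠ 0) : a ^ 3 = 1 := by
  have := FiniteField.pow_card_sub_one_eq_one a ha
  rwa [hF] at this

omit [Fintype F] in
theorem lin_indep_one (A : Matrix (Fin 3) (Fin 3) F) (hns : ∀ r : F, A ≠ r • (1 : Matrix (Fin 3) (Fin 3) F))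
    (u v : F) (h : u • A = v • (1 : Matrix (Fin 3) (Fin 3) F)) : u = 0 ∧ v = 0 := by
  have hu : u = 0 := by
    by_contra hu
    apply hns (u⁻¹ * v)
    rw [← smul_smul, ← h, inv_smul_smul₀ hu]
  refine ⟨hu, ?_⟩
  rw [hu, zero_smul] at h
  have := congrFun (congrFun h 0) 0
  simpa using this.symm

omit [Fintype F] in
theorem cube_of_quad (A : Matrix (Fin 3) (Fin 3) F) (α β : F)
    (h : A * A = α • A + β • (1 : Matrix (Fin 3) (Fin 3) F)) :
    A * A * A = (α * α + β) • A + (α * β) • (1 : Matrix (Fin 3) (Fin 3) F) := by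
  rw [h, add_mul, smul_mul_assoc, smul_mul_assoc, one_mul, h]
  module

theorem trace_e2_zero (hF : Fintype.card F = 4) (A : Matrix (Fin 3) (Fin 3) F) (hdet : A.det = 1)
    (c : F) (hc : c ^ 3 = 1) (hA3 : A * A * A = c • (1 : Matrix (Fin 3) (Fin 3) F))
    (hns : ∀ r : F, A ≠ r • (1 : Matrix (Fin 3) (Fin 3) F)) :
    A.trace = 0 ∧ e2 A = 0 ∧ c = 1 := by
  have h2 := two_eq_zero hF
  have hc0 : c ≠ 0 := by
    rintro rfl
    simp at hc
  have CH := cayley3 A
  rw [hdet, hA3] at CH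
  by_cases ht : A.trace = 0
  · rw [ht, zero_smul, zero_sub] at CH
    have h1 : e2 A • A = (1 - c) • (1 : Matrix (Fin 3) (Fin 3) F) := by
      rw [sub_smul, CH]; module
    obtain ⟨hs, hc1⟩ := lin_indep_one A hns _ _ h1
    exact ⟨ht, hs, (sub_eq_zero.mp hc1).symm⟩
  · exfalso
    set t := A.trace
    set s := e2 A
    have hq : A * A = (s / t) • A + ((c - 1) / t) • (1 : Matrix (Fin 3) (Fin 3) F) := by
      have : t • (A * A) = s • A + (c - 1) • (1 : Matrix (Fin 3) (Fin 3) F) := by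
        rw [sub_smul, CH]; module
      rw [div_eq_inv_mul, div_eq_inv_mul, ← smul_smul, ← smul_smul, ← smul_add, ← this,
        inv_smul_smul₀ ht]
    have h3 := cube_of_quad A _ _ hq
    rw [hA3] at h3
    set α := s / t
    set β := (c - 1) / t
    have h4 : (α * α + β) • A = (c - α * β) • (1 : Matrix (Fin 3) (Fin 3) F) := by
      rw [sub_smul, h3]; module
    obtain ⟨h5, h6⟩ := lin_indep_one A hns _ _ h4
    have hβ : β = -(α * α) := by linear_combination h5
    have hc' : c = -(α ^ 3) := by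
      have : c = α * β := by linear_combination h6
      rw [this, hβ]; ring
    have hα0 : α ≠ 0 := by
      rintro h0
      rw [h0] at hc'
      simp at hc'
      exact hc0 hc'
    have hα3 := cube_eq_one hF α hα0
    have hc1 : c = 1 := by
      rw [hc', hα3]
      linear_combination -h2
    have hβ0 : β = 0 := by
      simp only [β, hc1, sub_self, zero_div]
    rw [hβ0] at hβ
    have : α * α = 0 := neg_eq_zero.mp hβ.symm
    exact hα0 (mul_self_eq_zero.mp this)

omit [Fintype F] in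
theorem exists_eigenvector (A : Matrix (Fin 3) (Fin 3) F) (ht : A.trace = 0) (hs : e2 A = 0)
    (hdet : A.det = 1) (l : F) (hl : l ^ 3 = 1) :
    ∃ v : Fin 3 → F, v ≠ 0 ∧ A *ᵥ v = l • v := by
  have hd : (l • (1 : Matrix (Fin 3) (Fin 3) F) - A).det = 0 := by
    rw [charpoly3, ht, hs, hdet, hl]; ring
  obtain ⟨v, hv, hv0⟩ := Matrix.exists_mulVec_eq_zero_iff.mpr hd
  refine ⟨v, hv, ?_⟩
  rw [Matrix.sub_mulVec, Matrix.smul_mulVec, Matrix.one_mulVec, sub_eq_zero] at hv0
  exact hv0.symm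

omit [Fintype F] in
theorem exists_conj (ω : F) (hω1 : ω ≠ 1) (hω3 : ω ^ 3 = 1)
    (A : Matrix (Fin 3) (Fin 3) F) (hdet : A.det = 1) (ht : A.trace = 0) (hs : e2 A = 0) :
    ∃ P : Matrix (Fin 3) (Fin 3) F, P.det = 1 ∧ A * P = P * Matrix.diagonal ![1, ω, ω ^ 2] := by
  have hω0 : ω ≠ 0 := by rintro rfl; simp at hω3
  obtain ⟨v0, hv0, he0⟩ := exists_eigenvector A ht hs hdet 1 (one_pow 3)
  obtain ⟨v1, hv1, he1⟩ := exists_eigenvector A ht hs hdet ω hω3
  obtain ⟨v2, hv2, he2⟩ := exists_eigenvector A ht hs hdet (ω ^ 2)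
    (by rw [← pow_mul, mul_comm, pow_mul, hω3, one_pow])
  let μ : Fin 3 → F := ![1, ω, ω ^ 2]
  let vs : Fin 3 → (Fin 3 → F) := ![v0, v1, v2]
  have h01 : (1 : F) ≠ ω := fun h => hω1 h.symm
  have h02 : (1 : F) ≠ ω ^ 2 := by
    intro h
    apply hω1
    have : ω = ω ^ 2 * ω := by rw [← h, one_mul]
    rw [this, ← pow_succ, hω3]
  have h12 : ω ≠ ω ^ 2 := by
    intro h
    have : ω * (ω - 1) = 0 := by rw [mul_sub, mul_one, ← sq, ← h, sub_self]
    rcases mul_eq_zero.mp this with h | h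
    · exact hω0 h
    · exact hω1 (sub_eq_zero.mp h)
  have hμ : Function.Injective μ := by
    intro i j hij
    fin_cases i <;> fin_cases j <;> simp_all [μ]
  have hev : ∀ i, Module.End.HasEigenvector (Matrix.toLin' A) (μ i) (vs i) := by
    intro i
    rw [Module.End.hasEigenvector_iff, Module.End.mem_eigenspace_iff, Matrix.toLin'_apply]
    fin_cases i
    · exact ⟨he0, hv0⟩
    · exact ⟨he1, hv1⟩
    · exact ⟨he2, hv2⟩
  have li := Module.End.eigenvectors_linearIndependent' (Matrix.toLin' A) μ hμ vs hev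
  have hunit : IsUnit (Matrix.of vs) := Matrix.linearIndependent_rows_iff_isUnit.mp li
  let P0 : Matrix (Fin 3) (Fin 3) F := (Matrix.of vs)ᵀ
  have hP0 : P0.det ≠ 0 := by
    have := (Matrix.isUnit_iff_isUnit_det _).mp hunit
    rw [Matrix.det_transpose]
    exact this.ne_zero
  have hAP0 : A * P0 = P0 * Matrix.diagonal μ := by
    ext i j
    rw [Matrix.mul_diagonal]
    have : (A * P0) i j = (A *ᵥ vs j) i := by
      simp [Matrix.mul_apply, Matrix.mulVec, dotProduct, P0]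
    rw [this]
    fin_cases j <;> simp [vs, μ, he0, he1, he2, P0, mul_comm]
  refine ⟨P0 * Matrix.diagonal ![(P0.det)⁻¹, 1, 1], ?_, ?_⟩
  · rw [Matrix.det_mul, Matrix.det_diagonal, Fin.prod_univ_three]
    simp [hP0]
  · rw [← mul_assoc, hAP0, mul_assoc, mul_assoc, Matrix.diagonal_mul_diagonal,
      Matrix.diagonal_mul_diagonal]
    congr 2
    ext i
    fin_cases i <;> simp [μ, mul_comm]

/-- The diagonal element `diag(1, ω, ω²)` of `SL(3, F)`. -/
def diagSL (ω : F) (hω3 : ω ^ 3 = 1) : Matrix.SpecialLinearGroup (Fin 3) F :=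
  ⟨Matrix.diagonal ![1, ω, ω ^ 2], by
    rw [Matrix.det_diagonal, Fin.prod_univ_three]
    simp
    linear_combination hω3⟩

theorem sl_conj (hF : Fintype.card F = 4) (ω : F) (hω1 : ω ≠ 1) (hω3 : ω ^ 3 = 1)
    (x : Matrix.SpecialLinearGroup (Fin 3) F)
    (hx : x ∉ Subgroup.center (Matrix.SpecialLinearGroup (Fin 3) F))
    (hx3 : x ^ 3 ∈ Subgroup.center (Matrix.SpecialLinearGroup (Fin 3) F)) :
    ∃ p : Matrix.SpecialLinearGroup (Fin 3) F, x * p = p * diagSL ω hω3 := by
  obtain ⟨c, hc, hcx⟩ := Matrix.SpecialLinearGroup.mem_center_iff.mp hx3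
  simp only [Fintype.card_fin] at hc
  have hA3 : (x : Matrix (Fin 3) (Fin 3) F) * x * x = c • (1 : Matrix (Fin 3) (Fin 3) F) := by
    have h1 : ((x ^ 3 : Matrix.SpecialLinearGroup (Fin 3) F) : Matrix (Fin 3) (Fin 3) F)
        = (x : Matrix (Fin 3) (Fin 3) F) * x * x := by
      rw [Matrix.SpecialLinearGroup.coe_pow, pow_succ, pow_two]
    rw [← h1, ← hcx, Matrix.scalar_apply, Matrix.smul_one_eq_diagonal]
  have hns : ∀ r : F, (x : Matrix (Fin 3) (Fin 3) F) ≠ r • (1 : Matrix (Fin 3) (Fin 3) F) := by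
    intro r hr
    apply hx
    rw [Matrix.SpecialLinearGroup.mem_center_iff]
    refine ⟨r, ?_, ?_⟩
    · have hd := x.2
      rw [hr, Matrix.det_smul, Matrix.det_one, mul_one] at hd
      simpa using hd
    · rw [Matrix.scalar_apply, ← Matrix.smul_one_eq_diagonal, ← hr]
  obtain ⟨ht, hs, -⟩ := trace_e2_zero hF (x : Matrix (Fin 3) (Fin 3) F) x.2 c hc hA3 hns
  obtain ⟨P, hP, hAP⟩ := exists_conj ω hω1 hω3 (x : Matrix (Fin 3) (Fin 3) F) x.2 ht hs
  refine ⟨⟨P, hP⟩, ?_⟩
  apply Subtype.ext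
  exact hAP

end field


section final
variable {F : Type*} [Field F] [Fintype F]

theorem subgroup_eq_conj (hF : Fintype.card F = 4) (ω : F) (hω1 : ω ≠ 1) (hω3 : ω ^ 3 = 1)
    (Z : Subgroup (Matrix.ProjectiveSpecialLinearGroup (Fin 3) F)) (hZ : Nat.card ↥Z = 3) :
    ∃ p : Matrix.SpecialLinearGroup (Fin 3) F,
      Z = MulAut.conj (QuotientGroup.mk p : Matrix.ProjectiveSpecialLinearGroup (Fin 3) F) •
        Subgroup.zpowers (QuotientGroup.mk (diagSL ω hω3) : Matrix.ProjectiveSpecialLinearGroup (Fin 3) F) := by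
  have : Fact (Nat.Prime 3) := ⟨Nat.prime_three⟩
  have hZne : Z ≠ ⊥ := by
    rintro rfl
    simp at hZ
  obtain ⟨⟨z, hz⟩, hzZ⟩ := (Subgroup.ne_bot_iff_exists_ne_one.mp hZne)
  have hz1' : z ≠ 1 := by
    intro h
    apply hzZ
    ext
    exact h
  have htop : Subgroup.zpowers (⟨z, hz⟩ : ↥Z) = ⊤ := zpowers_eq_top_of_prime_card hZ hzZ
  have hZeq : Subgroup.zpowers z = Z := by
    apply le_antisymm (Subgroup.zpowers_le.mpr hz)
    intro w hw
    have hmem : (⟨w, hw⟩ : ↥Z) ∈ Subgroup.zpowers (⟨z, hz⟩ : ↥Z) := by rw [htop]; trivial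
    obtain ⟨k, hk⟩ := Subgroup.mem_zpowers_iff.mp hmem
    exact Subgroup.mem_zpowers_iff.mpr ⟨k, by simpa using congrArg Subtype.val hk⟩
  have hz3 : z ^ 3 = 1 := by
    have h := pow_card_eq_one' (G := ↥Z) (x := ⟨z, hz⟩)
    rw [hZ] at h
    simpa using congrArg Subtype.val h
  obtain ⟨x, rfl⟩ := QuotientGroup.mk_surjective z
  have hx : x ∉ Subgroup.center (Matrix.SpecialLinearGroup (Fin 3) F) := by
    intro h
    exact hz1' ((QuotientGroup.eq_one_iff x).mpr h)
  have hx3 : x ^ 3 ∈ Subgroup.center (Matrix.SpecialLinearGroup (Fin 3) F) := by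
    rw [← QuotientGroup.eq_one_iff, QuotientGroup.mk_pow]
    exact hz3
  obtain ⟨p, hp⟩ := sl_conj hF ω hω1 hω3 x hx hx3
  refine ⟨p, ?_⟩
  have hxp : x = p * diagSL ω hω3 * p⁻¹ := by rw [← hp]; group
  have hxbar : (QuotientGroup.mk x : Matrix.ProjectiveSpecialLinearGroup (Fin 3) F) =
      MulAut.conj (QuotientGroup.mk p : Matrix.ProjectiveSpecialLinearGroup (Fin 3) F) •
        (QuotientGroup.mk (diagSL ω hω3) : Matrix.ProjectiveSpecialLinearGroup (Fin 3) F) := by
    rw [hxp]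
    simp [MulAut.smul_def, QuotientGroup.mk_mul, QuotientGroup.mk_inv]
  have hpow : ∀ k : ℤ, (QuotientGroup.mk x : Matrix.ProjectiveSpecialLinearGroup (Fin 3) F) ^ k =
      MulAut.conj (QuotientGroup.mk p : Matrix.ProjectiveSpecialLinearGroup (Fin 3) F) •
        ((QuotientGroup.mk (diagSL ω hω3) : Matrix.ProjectiveSpecialLinearGroup (Fin 3) F) ^ k) := by
    intro k
    rw [hxbar, MulAut.smul_def, MulAut.smul_def, map_zpow]
  rw [← hZeq]
  ext w
  rw [Subgroup.mem_pointwise_smul_iff_inv_smul_mem, Subgroup.mem_zpowers_iff, Subgroup.mem_zpowers_iff]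
  constructor
  · rintro ⟨k, rfl⟩
    exact ⟨k, by rw [hpow, inv_smul_smul]⟩
  · rintro ⟨k, hk⟩
    exact ⟨k, by rw [hpow, hk, smul_inv_smul]⟩

end final

/-- In the projective special linear group PSL(3, 4) all subgroups of order 3 are conjugate. -/
theorem result (F : Type*) [Field F] [Fintype F] (hF : Fintype.card F = 4) (X Y : Subgroup (Matrix.ProjectiveSpecialLinearGroup (Fin 3) F)) (hX : Nat.card ↥X = 3) (hY : Nat.card ↥Y = 3) : ∃ g : Matrix.ProjectiveSpecialLinearGroup (Fin 3) F, MulAut.conj g • X = Y := by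
  classical
  obtain ⟨ω, hω0, hω1⟩ : ∃ ω : F, ω ≠ 0 ∧ ω ≠ 1 := by
    by_contra hcon
    push Not at hcon
    have hsub : (Finset.univ : Finset F) ⊆ {0, 1} := by
      intro x _
      by_cases hx : x = 0
      · simp [hx]
      · simp [hcon x hx]
    have h2 : Fintype.card F ≤ 2 :=
      calc Fintype.card F = (Finset.univ : Finset F).card := rfl
        _ ≤ ({0, 1} : Finset F).card := Finset.card_le_card hsub
        _ ≤ 2 := Finset.card_le_two
    omega
  have hω3 := cube_eq_one hF ω hω0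
  obtain ⟨p, hp⟩ := subgroup_eq_conj hF ω hω1 hω3 X hX
  obtain ⟨q, hq⟩ := subgroup_eq_conj hF ω hω1 hω3 Y hY
  refine ⟨(QuotientGroup.mk q : Matrix.ProjectiveSpecialLinearGroup (Fin 3) F) * (QuotientGroup.mk p)⁻¹, ?_⟩
  rw [hp, hq, smul_smul, ← map_mul, inv_mul_cancel_right]

end Cfsg.Agent.S2739
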