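import Cfsg.Statements.S2759
import Cfsg.Agent.Lib.Helper51.S4Section
import Cfsg.Agent.Lib.Helper51.InvolvesT
import Cfsg.Agent.Lib.Helper46.DihedralInv
import Cfsg.Agent.Lib.Helper66.OCGroup
-- import your own Cfsg.Agent.* helpers here

set_option autoImplicit false
open Cfsg

namespace Cfsg.Agent.S2759

section Four

variable {G : Type*} [Group G]

/-- the four-group generated by two commuting involutions -/
def fourSub (a b : G) (ha : a * a = 1) (hb : b * b = 1) (hab : a * b = b * a) : Subgroup G where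
  carrier := {g | g = 1 ∨ g = a ∨ g = b ∨ g = a * b}
  one_mem' := Or.inl rfl
  mul_mem' := by
    have e1 : a * (a * b) = b := by rw [← mul_assoc, ha, one_mul]
    have e3 : b * (a * b) = a := by rw [← mul_assoc, ← hab, mul_assoc, hb, mul_one]
    have e4 : a * b * a = b := by rw [hab, mul_assoc, ha, mul_one]
    have e5 : a * b * b = a := by rw [mul_assoc, hb, mul_one]
    have e6 : a * b * (a * b) = 1 := by rw [mul_assoc, e3, ha]
    rintro g h (rfl | rfl | rfl | rfl) (rfl | rfl | rfl | rfl)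
    · left; rw [one_mul]
    · right; left; rw [one_mul]
    · right; right; left; rw [one_mul]
    · right; right; right; rw [one_mul]
    · right; left; rw [mul_one]
    · left; exact ha
    · right; right; right; rfl
    · right; right; left; exact e1
    · right; right; left; rw [mul_one]
    · right; right; right; exact hab.symm
    · left; exact hb
    · right; left; exact e3
    · right; right; right; rw [mul_one]
    · right; right; left; exact e4
    · right; left; exact e5
    · left; exact e6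
  inv_mem' := by
    rintro g (rfl | rfl | rfl | rfl)
    · left; exact inv_one
    · right; left; exact inv_eq_of_mul_eq_one_right ha
    · right; right; left; exact inv_eq_of_mul_eq_one_right hb
    · right; right; right
      apply inv_eq_of_mul_eq_one_right
      have e3 : b * (a * b) = a := by rw [← mul_assoc, ← hab, mul_assoc, hb, mul_one]
      rw [mul_assoc, e3, ha]

theorem mem_fourSub {a b : G} {ha : a * a = 1} {hb : b * b = 1} {hab : a * b = b * a} {g : G} :
    g ∈ fourSub a b ha hb hab ↔ g = 1 ∨ g = a ∨ g = b ∨ g = a * b := Iff.rfl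

theorem card_fourSub {a b : G} (ha : a * a = 1) (hb : b * b = 1) (hab : a * b = b * a)
    (h1 : a ≠ 1) (h2 : b ≠ 1) (h3 : a ≠ b) : Nat.card (fourSub a b ha hb hab) = 4 := by
  classical
  have hset : ((fourSub a b ha hb hab : Subgroup G) : Set G) = {1, a, b, a * b} := by
    ext g
    simp only [SetLike.mem_coe, mem_fourSub, Set.mem_insert_iff, Set.mem_singleton_iff]
  have hc : Nat.card (fourSub a b ha hb hab) = ((fourSub a b ha hb hab : Subgroup G) : Set G).ncard :=
    (Nat.card_coe_set_eq _)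
  rw [hc, hset]
  have hab1 : a * b ≠ 1 := by
    intro h
    apply h3
    have : a = b⁻¹ := eq_inv_of_mul_eq_one_left h
    rw [this]; exact inv_eq_of_mul_eq_one_right hb
  have haba : a * b ≠ a := by
    intro h
    apply h2
    exact mul_left_cancel (a := a) (by rw [h, mul_one])
  have habb : a * b ≠ b := by
    intro h
    apply h1
    exact mul_right_cancel (b := b) (by rw [h, one_mul])
  rw [Set.ncard_insert_of_notMem, Set.ncard_insert_of_notMem, Set.ncard_insert_of_notMem,
    Set.ncard_singleton]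
  · simp only [Set.mem_singleton_iff]; exact fun h => habb h.symm
  · simp only [Set.mem_insert_iff, Set.mem_singleton_iff, not_or]
    exact ⟨h3, fun h => haba h.symm⟩
  · simp only [Set.mem_insert_iff, Set.mem_singleton_iff, not_or]
    exact ⟨fun h => h1 h.symm, fun h => h2 h.symm, fun h => hab1 h.symm⟩

theorem mem_normalizer_of_conj_mem [Finite G] (X : Subgroup G) (g : G)
    (h : ∀ n ∈ X, g * n * g⁻¹ ∈ X) : g ∈ Subgroup.normalizer (X : Set G) := by
  have hle : X.map (MulAut.conj g).toMonoidHom ≤ X := by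
    rintro _ ⟨n, hn, rfl⟩
    exact h n hn
  have hcard : Nat.card (X.map (MulAut.conj g).toMonoidHom) = Nat.card X :=
    Subgroup.card_map_of_injective (MulAut.conj g).injective
  have heq : X.map (MulAut.conj g).toMonoidHom = X :=
    Subgroup.eq_of_le_of_card_ge hle (le_of_eq hcard.symm)
  rw [Subgroup.mem_normalizer_iff]
  intro n
  constructor
  · exact h n
  · intro hn
    rw [← heq] at hn
    obtain ⟨m, hm, hmn⟩ := hn
    have : m = n := by
      have h2 : g * m * g⁻¹ = g * n * g⁻¹ := hmn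
      exact mul_left_cancel (mul_right_cancel h2)
    rw [← this]; exact hm

end Four

section Abs

variable {A : Type*} [CommGroup A] [Finite A]

/-- abstract form of the abelian case: an automorphism `σ ≠ 1` with `σ³ = 1` of an abelian `2`-group,
inverted by an automorphism `τ` of `2`-power order, moves a `τ`-fixed involution inside a four-group. -/
theorem exists_four_abs (hA : IsPGroup 2 A) (σ τ : MulAut A)
    (hσ3 : ∀ a, σ (σ (σ a)) = a) (hσ1 : ∃ a, σ a ≠ a) (hτ : ∃ k : ℕ, ∀ a, (τ ^ (2 ^ k)) a = a)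
    (hrel : ∀ a, σ (τ (σ a)) = τ a) :
    ∃ w : A, w ≠ 1 ∧ w * w = 1 ∧ τ w = w ∧ σ w ≠ w ∧ σ (σ w) = w * σ w ∧ τ (σ w) = w * σ w := by
  classical
  -- the norm map
  let ν : A →* A := MonoidHom.id A * σ.toMonoidHom * (σ * σ).toMonoidHom
  have hν : ∀ a, ν a = a * σ a * σ (σ a) := fun a => rfl
  let Ω : Subgroup A := ν.ker ⊓ (powMonoidHom 2 : A →* A).ker
  have hΩ : ∀ w, w ∈ Ω ↔ w * σ w * σ (σ w) = 1 ∧ w * w = 1 := by
    intro w
    simp only [Ω, Subgroup.mem_inf, MonoidHom.mem_ker, hν, powMonoidHom_apply, pow_two]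
  -- invariance under σ
  have hΩσ : ∀ w ∈ Ω, σ w ∈ Ω := by
    intro w hw
    rw [hΩ] at hw ⊢
    refine ⟨?_, ?_⟩
    · rw [← map_mul, ← map_mul, hw.1, map_one]
    · rw [← map_mul, hw.2, map_one]
  -- σ τ = τ σ²
  have hστ : ∀ u, σ (τ u) = τ (σ (σ u)) := by
    intro u
    have h := hrel (σ (σ u))
    rw [hσ3] at h
    exact h
  have hΩτ : ∀ w ∈ Ω, τ w ∈ Ω := by
    intro w hw
    rw [hΩ] at hw ⊢
    refine ⟨?_, ?_⟩
    · rw [hστ, hστ, hσ3, ← map_mul, ← map_mul, mul_right_comm, hw.1, map_one]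
    · rw [← map_mul, hw.2, map_one]
  have hΩτn : ∀ n : ℕ, ∀ w ∈ Ω, (τ ^ n) w ∈ Ω := by
    intro n
    induction n with
    | zero => intro w hw; simpa using hw
    | succ n ih =>
      intro w hw
      rw [pow_succ', MulAut.mul_apply]
      exact hΩτ _ (ih w hw)
  -- Ω is nontrivial
  obtain ⟨a, ha⟩ := hσ1
  have hd1 : a * (σ a)⁻¹ ≠ 1 := by
    intro h
    apply ha
    have := mul_eq_one_iff_eq_inv.mp h
    rw [inv_inv] at this
    exact this.symm
  have hdν : a * (σ a)⁻¹ ∈ ν.ker := by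
    rw [MonoidHom.mem_ker, hν, map_mul, map_mul, map_inv, map_inv, hσ3]
    group
  have hK2 : IsPGroup 2 ν.ker := hA.to_subgroup ν.ker
  have hKne : Nat.card ν.ker ≠ 1 := by
    intro h
    rw [Subgroup.card_eq_one] at h
    rw [h, Subgroup.mem_bot] at hdν
    exact hd1 hdν
  have h2dvd : 2 ∣ Nat.card ν.ker := (hK2.card_eq_or_dvd).resolve_left hKne
  have : Fact (Nat.Prime 2) := ⟨Nat.prime_two⟩
  obtain ⟨w', hw'⟩ := exists_prime_orderOf_dvd_card' 2 h2dvd
  have hw'1 : (w' : A) ≠ 1 := by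
    intro h
    have : w' = 1 := Subtype.ext h
    rw [this, orderOf_one] at hw'
    omega
  have hw'2 : (w' : A) * (w' : A) = 1 := by
    have h := pow_orderOf_eq_one w'
    rw [hw', pow_two] at h
    exact congrArg Subtype.val h
  have hw'Ω : (w' : A) ∈ Ω := by
    rw [hΩ]
    refine ⟨?_, hw'2⟩
    have := w'.2
    rw [MonoidHom.mem_ker, hν] at this
    exact this
  -- a τ-fixed point, by descending induction
  obtain ⟨k, hk⟩ := hτ
  have hP : ∀ i : ℕ, i ≤ k → ∃ w ∈ Ω, w ≠ 1 ∧ (τ ^ (2 ^ (k - i))) w = w := by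
    intro i
    induction i with
    | zero =>
      intro _
      exact ⟨w', hw'Ω, hw'1, by simpa using hk _⟩
    | succ i ih =>
      intro hi
      obtain ⟨w, hwΩ, hw1, hwfix⟩ := ih (by omega)
      have hki : k - i = (k - (i + 1)) + 1 := by omega
      set j := k - (i + 1) with hj
      rw [hki] at hwfix
      set ρ : MulAut A := τ ^ (2 ^ j) with hρ
      have hρρ : ρ (ρ w) = w := by
        have : τ ^ (2 ^ (j + 1)) = ρ * ρ := by
          rw [hρ, ← pow_add]; congr 1; ring
        rw [this, MulAut.mul_apply] at hwfix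
        exact hwfix
      by_cases hfix : ρ w = w
      · exact ⟨w, hwΩ, hw1, hfix⟩
      · have hw2 : w * w = 1 := ((hΩ w).mp hwΩ).2
        refine ⟨w * ρ w, Ω.mul_mem hwΩ (hΩτn _ w hwΩ), ?_, ?_⟩
        · intro h
          apply hfix
          have h1 : ρ w = w⁻¹ := (mul_eq_one_iff_eq_inv'.mp h)
          rw [h1]
          exact inv_eq_of_mul_eq_one_right hw2
        · rw [map_mul, hρρ, mul_comm]
  obtain ⟨w, hwΩ, hw1, hwfix⟩ := hP k le_rfl
  have hτw : τ w = w := by
    simpa using hwfix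
  have hw := (hΩ w).mp hwΩ
  have hσw : σ w ≠ w := by
    intro h
    have h1 := hw.1
    rw [h, h, hw.2, one_mul] at h1
    exact hw1 h1
  have hσσ : σ (σ w) = w * σ w := by
    have h1 : σ (σ w) = (w * σ w)⁻¹ := (mul_eq_one_iff_eq_inv'.mp hw.1)
    rw [h1]
    apply inv_eq_of_mul_eq_one_right
    rw [mul_mul_mul_comm, hw.2, one_mul, ← map_mul, hw.2, map_one]
  refine ⟨w, hw1, hw.2, hτw, hσw, hσσ, ?_⟩
  -- τ (σ w) = σ (σ w)
  have h1 : σ (τ (σ w)) = w := by rw [hrel, hτw]
  have h2 : σ (σ (σ w)) = w := hσ3 w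
  have h3 : τ (σ w) = σ (σ w) := σ.injective (h1.trans h2.symm)
  rw [h3, hσσ]

end Abs

section LemmaA

variable {G : Type*} [Group G] [Finite G]

/-- the abelian normal case -/
theorem involves_S4_of_abelian_normal (T : Subgroup G) [hTn : T.Normal] (hT2 : IsPGroup 2 T)
    (hTc : ∀ a ∈ T, ∀ b ∈ T, a * b = b * a) (x y : G)
    (hxodd : Odd (orderOf x)) (hy2 : ∃ k : ℕ, y ^ (2 ^ k) = 1)
    (hxT : ∃ a ∈ T, x * a * x⁻¹ ≠ a)
    (hx3 : ∀ a ∈ T, x ^ 3 * a * (x ^ 3)⁻¹ = a)
    (hyx : ∀ a ∈ T, (y * x * y⁻¹ * x) * a * (y * x * y⁻¹ * x)⁻¹ = a) :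
    Involves (Equiv.Perm (Fin 4)) G := by
  classical
  letI : CommGroup T :=
    { (inferInstance : Group T) with mul_comm := fun a b => Subtype.ext (hTc a a.2 b b.2) }
  set σ : MulAut T := MulAut.conjNormal x with hσ
  set τ : MulAut T := MulAut.conjNormal y with hτ
  have hσa : ∀ a : T, ((σ a : T) : G) = x * a * x⁻¹ := fun a => MulAut.conjNormal_apply x a
  have hτa : ∀ a : T, ((τ a : T) : G) = y * a * y⁻¹ := fun a => MulAut.conjNormal_apply y a
  have hσ3 : ∀ a, σ (σ (σ a)) = a := by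
    intro a
    apply Subtype.ext
    rw [hσa, hσa, hσa]
    have := hx3 a a.2
    have e : x ^ 3 = x * x * x := by rw [pow_succ, pow_two]
    calc x * (x * (x * (a : G) * x⁻¹) * x⁻¹) * x⁻¹ = (x * x * x) * a * (x * x * x)⁻¹ := by group
      _ = x ^ 3 * a * (x ^ 3)⁻¹ := by rw [e]
      _ = a := this
  have hσ1 : ∃ a, σ a ≠ a := by
    obtain ⟨a, ha, hne⟩ := hxT
    refine ⟨⟨a, ha⟩, ?_⟩
    intro h
    apply hne
    have := congrArg Subtype.val h
    rw [hσa] at this
    exact this
  have hτk : ∃ k : ℕ, ∀ a, (τ ^ (2 ^ k)) a = a := by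
    obtain ⟨k, hk⟩ := hy2
    refine ⟨k, fun a => ?_⟩
    have : τ ^ (2 ^ k) = 1 := by
      rw [hτ, ← map_pow, hk, map_one]
    rw [this]; rfl
  have hg' : ∀ b ∈ T, (y⁻¹ * x * y * x) * b * (y⁻¹ * x * y * x)⁻¹ = b := by
    intro b hb
    have hb' : (y⁻¹ * x)⁻¹ * b * (y⁻¹ * x) ∈ T := by
      have := hTn.conj_mem b hb (y⁻¹ * x)⁻¹
      simpa using this
    have h := hyx _ hb'
    calc (y⁻¹ * x * y * x) * b * (y⁻¹ * x * y * x)⁻¹
        = (y⁻¹ * x) * ((y * x * y⁻¹ * x) * ((y⁻¹ * x)⁻¹ * b * (y⁻¹ * x)) * (y * x * y⁻¹ * x)⁻¹)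
            * (y⁻¹ * x)⁻¹ := by group
      _ = b := by rw [h]; group
  have hrel : ∀ a, σ (τ (σ a)) = τ a := by
    intro a
    apply Subtype.ext
    rw [hσa, hτa, hσa, hτa]
    have := hg' a a.2
    calc x * (y * (x * (a : G) * x⁻¹) * y⁻¹) * x⁻¹
        = y * ((y⁻¹ * x * y * x) * a * (y⁻¹ * x * y * x)⁻¹) * y⁻¹ := by group
      _ = y * a * y⁻¹ := by rw [this]
  obtain ⟨w, hw1, hw2, hτw, hσw, hσσ, hτσ⟩ := exists_four_abs hT2 σ τ hσ3 hσ1 hτk hrel
  -- the four-group
  set a : G := (w : G) with ha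
  set b : G := ((σ w : T) : G) with hb
  have haa : a * a = 1 := by
    have := congrArg Subtype.val hw2
    simpa using this
  have hbb : b * b = 1 := by
    have h : σ w * σ w = 1 := by rw [← map_mul, hw2, map_one]
    have := congrArg Subtype.val h
    simpa using this
  have hab : a * b = b * a := hTc a w.2 b (σ w).2
  have ha1 : a ≠ 1 := fun h => hw1 (Subtype.ext h)
  have hb1 : b ≠ 1 := by
    intro h
    have h1 : σ w = 1 := Subtype.ext h
    have h2 : w = 1 := by
      have := σ.injective (h1.trans (map_one σ).symm)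
      exact this
    exact hw1 h2
  have hab' : a ≠ b := fun h => hσw (Subtype.ext h.symm)
  have hxa : x * a * x⁻¹ = b := (hσa w).symm
  have hxb : x * b * x⁻¹ = a * b := by
    have h1 := hσa (σ w)
    rw [hσσ] at h1
    rw [← h1]; rfl
  have hya : y * a * y⁻¹ = a := by
    have h1 := hτa w
    rw [hτw] at h1
    exact h1.symm
  have hyb : y * b * y⁻¹ = a * b := by
    have h1 := hτa (σ w)
    rw [hτσ] at h1
    rw [← h1]; rfl
  have e3 : b * (a * b) = a := by rw [← mul_assoc, ← hab, mul_assoc, hbb, mul_one]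
  have e1 : a * (a * b) = b := by rw [← mul_assoc, haa, one_mul]
  set X : Subgroup G := fourSub a b haa hbb hab with hX
  have hX4 : Nat.card X = 4 := card_fourSub haa hbb hab ha1 hb1 hab'
  have hxN : x ∈ Subgroup.normalizer (X : Set G) := by
    apply mem_normalizer_of_conj_mem
    intro n hn
    rcases (mem_fourSub.mp hn) with rfl | rfl | rfl | rfl
    · rw [mul_one, mul_inv_cancel]; exact X.one_mem
    · rw [hxa]; exact mem_fourSub.mpr (Or.inr (Or.inr (Or.inl rfl)))
    · rw [hxb]; exact mem_fourSub.mpr (Or.inr (Or.inr (Or.inr rfl)))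
    · have : x * (a * b) * x⁻¹ = (x * a * x⁻¹) * (x * b * x⁻¹) := by group
      rw [this, hxa, hxb, e3]
      exact mem_fourSub.mpr (Or.inr (Or.inl rfl))
  have hyN : y ∈ Subgroup.normalizer (X : Set G) := by
    apply mem_normalizer_of_conj_mem
    intro n hn
    rcases (mem_fourSub.mp hn) with rfl | rfl | rfl | rfl
    · rw [mul_one, mul_inv_cancel]; exact X.one_mem
    · rw [hya]; exact mem_fourSub.mpr (Or.inr (Or.inl rfl))
    · rw [hyb]; exact mem_fourSub.mpr (Or.inr (Or.inr (Or.inr rfl)))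
    · have : y * (a * b) * y⁻¹ = (y * a * y⁻¹) * (y * b * y⁻¹) := by group
      rw [this, hya, hyb, e1]
      exact mem_fourSub.mpr (Or.inr (Or.inr (Or.inl rfl)))
  refine Cfsg.Agent.Lib.Helper51.involves_S4_of_four X hX4 x y hxN hyN hxodd hy2
    ⟨a, mem_fourSub.mpr (Or.inr (Or.inl rfl)), ?_⟩ ⟨b, mem_fourSub.mpr (Or.inr (Or.inr (Or.inl rfl))), ?_⟩
  · rw [hxa]; exact fun h => hab' h.symm
  · rw [hyb]
    intro h
    apply ha1
    exact mul_right_cancel (b := b) (by rw [h, one_mul])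

end LemmaA

section Reduce

universe u

variable {G : Type u} [Group G]

theorem conj_eq_of_mem_centralizer {T : Subgroup G} {g : G}
    (hg : g ∈ Subgroup.centralizer (T : Set G)) {a : G} (ha : a ∈ T) : g * a * g⁻¹ = a := by
  have := (Subgroup.mem_centralizer_iff.mp hg) a ha
  rw [← this, mul_inv_cancel_right]

theorem mem_centralizer_of_conj_eq {T : Subgroup G} {g : G}
    (hg : ∀ a ∈ T, g * a * g⁻¹ = a) : g ∈ Subgroup.centralizer (T : Set G) := by
  rw [Subgroup.mem_centralizer_iff]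
  intro a ha
  have := hg a ha
  calc a * g = (g * a * g⁻¹) * g := by rw [this]
    _ = g * a := by group

/-- an element of odd order stabilizing the chain `P ≥ U ≥ 1` of a `2`-group centralizes `P` -/
theorem centralizes_of_chain2 (P U : Subgroup G) (hUP : U ≤ P) (hP : IsPGroup 2 P) (x : G)
    (hodd : Odd (orderOf x)) (hU : ∀ u ∈ U, x * u * x⁻¹ = u)
    (hPU : ∀ v ∈ P, v⁻¹ * (x * v * x⁻¹) ∈ U) : ∀ v ∈ P, x * v * x⁻¹ = v := by
  intro v hv
  set u : G := v⁻¹ * (x * v * x⁻¹) with hu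
  have huU : u ∈ U := hPU v hv
  have hxv : x * v * x⁻¹ = v * u := by rw [hu]; group
  have hpow : ∀ n : ℕ, x ^ n * v * (x ^ n)⁻¹ = v * u ^ n := by
    intro n
    induction n with
    | zero => simp
    | succ n ih =>
      have hun : x * u ^ n * x⁻¹ = u ^ n := by
        have : x * u ^ n * x⁻¹ = (x * u * x⁻¹) ^ n := by
          rw [conj_pow]
        rw [this, hU u huU]
      calc x ^ (n + 1) * v * (x ^ (n + 1))⁻¹ = x * (x ^ n * v * (x ^ n)⁻¹) * x⁻¹ := by
            rw [pow_succ']; group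
        _ = x * (v * u ^ n) * x⁻¹ := by rw [ih]
        _ = (x * v * x⁻¹) * (x * u ^ n * x⁻¹) := by group
        _ = v * u ^ (n + 1) := by rw [hxv, hun, pow_succ', mul_assoc]
  have h1 := hpow (orderOf x)
  rw [pow_orderOf_eq_one, one_mul, inv_one, mul_one] at h1
  have hum : u ^ orderOf x = 1 := by
    have : v * u ^ orderOf x = v * 1 := by rw [mul_one]; exact h1.symm
    exact mul_left_cancel this
  obtain ⟨k, hk⟩ := hP ⟨u, hUP huU⟩
  have huk : u ^ 2 ^ k = 1 := by
    have := congrArg Subtype.val hk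
    simpa using this
  have hd1 : orderOf u ∣ orderOf x := orderOf_dvd_of_pow_eq_one hum
  have hd2 : orderOf u ∣ 2 ^ k := orderOf_dvd_of_pow_eq_one huk
  have hcop : Nat.Coprime (orderOf x) (2 ^ k) := by
    apply Nat.Coprime.pow_right
    exact Nat.coprime_two_right.mpr hodd
  have : orderOf u = 1 := Nat.eq_one_of_dvd_coprimes hcop hd1 hd2
  rw [orderOf_eq_one_iff] at this
  rw [hxv, this, mul_one]

theorem commutator_self_le (T : Subgroup G) : ⁅T, T⁆ ≤ T := by
  rw [Subgroup.commutator_le]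
  intro a ha b hb
  exact T.mul_mem (T.mul_mem (T.mul_mem ha hb) (T.inv_mem ha)) (T.inv_mem hb)

theorem normalizer_le_normalizer_commutator (T : Subgroup G) :
    Subgroup.normalizer (T : Set G) ≤ Subgroup.normalizer ((⁅T, T⁆ : Subgroup G) : Set G) := by
  intro g hg
  rw [Subgroup.mem_normalizer_iff_map_conj_eq] at hg ⊢
  rw [Subgroup.map_commutator, hg]

theorem card_commutator_lt [Finite G] (T : Subgroup G) (hT2 : IsPGroup 2 T) (hT : T ≠ ⊥) :
    Nat.card (⁅T, T⁆ : Subgroup G) < Nat.card T := by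
  by_contra hlt
  rw [not_lt] at hlt
  have heq : ⁅T, T⁆ = T := Subgroup.eq_of_le_of_card_ge (commutator_self_le T) hlt
  haveI : Nontrivial T := (Subgroup.nontrivial_iff_ne_bot T).mpr hT
  haveI : Fact (Nat.Prime 2) := ⟨Nat.prime_two⟩
  haveI : Group.IsNilpotent T := hT2.isNilpotent
  have hlt' : commutator T < ⊤ := Group.IsSolvable.commutator_lt_top_of_nontrivial T
  have h1 : (commutator T).map T.subtype = ⁅T, T⁆ := Subgroup.map_subtype_commutator T
  have h2 : (commutator T).map T.subtype = (⊤ : Subgroup T).map T.subtype := by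
    rw [h1, heq, ← MonoidHom.range_eq_map, Subgroup.range_subtype]
  have h3 : commutator T = ⊤ := Subgroup.map_injective T.subtype_injective h2
  exact (ne_of_lt hlt') h3

/-- the reduction: a configuration on a `2`-subgroup `T` gives a section `S₄` -/
theorem involves_S4_of_cfg [Finite G] : ∀ (n : ℕ) (T : Subgroup G), Nat.card T = n → IsPGroup 2 T →
    ∀ x y : G, x ∈ Subgroup.normalizer (T : Set G) → y ∈ Subgroup.normalizer (T : Set G) →
    Odd (orderOf x) → (∃ k : ℕ, y ^ (2 ^ k) = 1) → x ∉ Subgroup.centralizer (T : Set G) →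
    x ^ 3 ∈ Subgroup.centralizer (T : Set G) → y * x * y⁻¹ * x ∈ Subgroup.centralizer (T : Set G) →
    Involves (Equiv.Perm (Fin 4)) G := by
  intro n
  induction n using Nat.strong_induction_on with
  | _ n ih =>
  intro T hTn hT2 x y hxN hyN hxodd hy2 hxC hx3 hyx
  classical
  have hTbot : T ≠ ⊥ := by
    intro h
    apply hxC
    rw [h, Subgroup.mem_centralizer_iff]
    intro a ha
    rw [Subgroup.coe_bot, Set.mem_singleton_iff] at ha
    rw [ha, one_mul, mul_one]
  set T' : Subgroup G := ⁅T, T⁆ with hT'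
  have hT'le : T' ≤ T := commutator_self_le T
  by_cases hxT' : x ∈ Subgroup.centralizer (T' : Set G)
  · -- pass to `N_G(T) / T'`
    set N : Subgroup G := Subgroup.normalizer (T : Set G) with hN
    have hTN : T ≤ N := Subgroup.le_normalizer
    set K : Subgroup N := T'.subgroupOf N with hK
    haveI hKn : K.Normal :=
      Subgroup.normal_subgroupOf_of_le_normalizer (normalizer_le_normalizer_commutator T)
    set π : N →* N ⧸ K := QuotientGroup.mk' K with hπ
    have hπs : Function.Surjective π := QuotientGroup.mk'_surjective K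
    set T₁ : Subgroup (N ⧸ K) := (T.subgroupOf N).map π with hT₁
    haveI hT₁n : T₁.Normal := (Subgroup.normal_in_normalizer).map π hπs
    have hT₁2 : IsPGroup 2 T₁ := (hT2.comap_subtype).map π
    have hT₁c : ∀ a ∈ T₁, ∀ b ∈ T₁, a * b = b * a := by
      rintro _ ⟨a, ha, rfl⟩ _ ⟨b, hb, rfl⟩
      rw [← map_mul, ← map_mul]
      apply (QuotientGroup.eq).mpr
      rw [hK, Subgroup.mem_subgroupOf]
      have ha' : (a : G) ∈ T := Subgroup.mem_subgroupOf.mp ha
      have hb' : (b : G) ∈ T := Subgroup.mem_subgroupOf.mp hb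
      have h0 := Subgroup.commutator_mem_commutator (T.inv_mem hb') (T.inv_mem ha')
      rw [commutatorElement_def] at h0
      have : (((a * b)⁻¹ * (b * a) : N) : G) = (b : G)⁻¹ * (a : G)⁻¹ * ((b : G)⁻¹)⁻¹ * ((a : G)⁻¹)⁻¹ := by
        simp only [Subgroup.coe_mul, Subgroup.coe_inv]
        group
      rw [this]
      exact h0
    set xN : N := ⟨x, hxN⟩ with hxN'
    set yN : N := ⟨y, hyN⟩ with hyN'
    have hx₁odd : Odd (orderOf (π xN)) := by
      have h1 : orderOf (π xN) ∣ orderOf xN := orderOf_map_dvd π xN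
      have h2 : orderOf xN = orderOf x := Subgroup.orderOf_mk x hxN
      rw [h2] at h1
      exact Odd.of_dvd_nat hxodd h1
    have hy₁2 : ∃ k : ℕ, (π yN) ^ (2 ^ k) = 1 := by
      obtain ⟨k, hk⟩ := hy2
      refine ⟨k, ?_⟩
      rw [← map_pow]
      have : yN ^ (2 ^ k) = 1 := Subtype.ext (by simpa using hk)
      rw [this, map_one]
    have hx₁T : ∃ a ∈ T₁, π xN * a * (π xN)⁻¹ ≠ a := by
      by_contra hall
      simp only [not_exists, not_and, not_not] at hall
      apply hxC
      apply mem_centralizer_of_conj_eq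
      apply centralizes_of_chain2 T T' hT'le hT2 x hxodd
        (fun u hu => conj_eq_of_mem_centralizer hxT' hu)
      intro v hv
      set vN : N := ⟨v, hTN hv⟩ with hvN
      have hvT₁ : π vN ∈ T₁ := ⟨vN, Subgroup.mem_subgroupOf.mpr hv, rfl⟩
      have h1 := hall _ hvT₁
      rw [← map_inv, ← map_mul, ← map_mul] at h1
      have h2 := (QuotientGroup.eq).mp h1
      rw [hK, Subgroup.mem_subgroupOf] at h2
      have h3 : ((((xN * vN * xN⁻¹)⁻¹ * vN : N)) : G) = (v⁻¹ * (x * v * x⁻¹))⁻¹ := by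
        simp only [Subgroup.coe_mul, Subgroup.coe_inv, hxN', hvN]
        group
      rw [h3] at h2
      exact (Subgroup.inv_mem_iff _).mp h2
    have hx₁3 : ∀ a ∈ T₁, (π xN) ^ 3 * a * ((π xN) ^ 3)⁻¹ = a := by
      rintro _ ⟨a, ha, rfl⟩
      rw [← map_pow, ← map_inv, ← map_mul, ← map_mul]
      congr 1
      apply Subtype.ext
      have ha' : (a : G) ∈ T := Subgroup.mem_subgroupOf.mp ha
      have := conj_eq_of_mem_centralizer hx3 ha'
      simpa [hxN'] using this
    have hyx₁ : ∀ a ∈ T₁, (π yN * π xN * (π yN)⁻¹ * π xN) * a *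
        (π yN * π xN * (π yN)⁻¹ * π xN)⁻¹ = a := by
      rintro _ ⟨a, ha, rfl⟩
      rw [← map_inv, ← map_mul, ← map_mul, ← map_mul, ← map_inv, ← map_mul, ← map_mul]
      congr 1
      apply Subtype.ext
      have ha' : (a : G) ∈ T := Subgroup.mem_subgroupOf.mp ha
      have := conj_eq_of_mem_centralizer hyx ha'
      simpa [hxN', hyN'] using this
    have h₁ : Involves (Equiv.Perm (Fin 4)) (N ⧸ K) :=
      involves_S4_of_abelian_normal T₁ hT₁2 hT₁c (π xN) (π yN) hx₁odd hy₁2 hx₁T hx₁3 hyx₁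
    have h₂ : Involves (Equiv.Perm (Fin 4)) N :=
      Cfsg.Agent.Lib.Helper51.involves_of_surjective π hπs h₁
    exact Cfsg.Agent.Lib.Helper51.involves_of_injective N.subtype N.subtype_injective h₂
  · -- descend to `T'`
    have hlt : Nat.card T' < n := by
      rw [← hTn]
      exact card_commutator_lt T hT2 hTbot
    have hN' := normalizer_le_normalizer_commutator T
    have hcle : Subgroup.centralizer (T : Set G) ≤ Subgroup.centralizer (T' : Set G) :=
      Subgroup.centralizer_le hT'le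
    exact ih (Nat.card T') hlt T' rfl (hT2.to_le hT'le) x y (hN' hxN) (hN' hyN) hxodd hy2 hxT'
      (hcle hx3) (hcle hyx)

end Reduce

section Backward

universe u

variable {G : Type u} [Group G] [Finite G]

theorem dihedral_three_equiv : Nonempty (DihedralGroup 3 ≃* Equiv.Perm (Fin 3)) := by
  apply Cfsg.Agent.Lib.Helper66.OC.equiv_perm_of_card_six
  · rw [DihedralGroup.nat_card]
  · intro h
    have := h (DihedralGroup.r 1) (DihedralGroup.sr 0)
    revert this
    decide

/-- conjugation by an odd power of an inverting element still inverts -/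
theorem conj_pow_odd_inv {Q : Type*} [Group Q] (t z : Q) (h : t * z * t⁻¹ = z⁻¹) (w : ℕ)
    (hw : Odd w) : t ^ w * z * (t ^ w)⁻¹ = z⁻¹ := by
  obtain ⟨m, rfl⟩ := hw
  have h2 : t ^ 2 * z * (t ^ 2)⁻¹ = z := by
    calc t ^ 2 * z * (t ^ 2)⁻¹ = t * (t * z * t⁻¹) * t⁻¹ := by rw [pow_two]; group
      _ = t * z⁻¹ * t⁻¹ := by rw [h]
      _ = (t * z * t⁻¹)⁻¹ := by group
      _ = z := by rw [h, inv_inv]
  have h2m : ∀ m : ℕ, (t ^ 2) ^ m * z * ((t ^ 2) ^ m)⁻¹ = z := by
    intro m
    induction m with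
    | zero => simp
    | succ m ih =>
      calc (t ^ 2) ^ (m + 1) * z * ((t ^ 2) ^ (m + 1))⁻¹
          = (t ^ 2) * ((t ^ 2) ^ m * z * ((t ^ 2) ^ m)⁻¹) * (t ^ 2)⁻¹ := by rw [pow_succ']; group
        _ = z := by rw [ih, h2]
  have h2m' : ∀ m : ℕ, (t ^ 2) ^ m * z⁻¹ * ((t ^ 2) ^ m)⁻¹ = z⁻¹ := by
    intro m
    have := h2m m
    calc (t ^ 2) ^ m * z⁻¹ * ((t ^ 2) ^ m)⁻¹ = ((t ^ 2) ^ m * z * ((t ^ 2) ^ m)⁻¹)⁻¹ := by group
      _ = z⁻¹ := by rw [this]
  calc t ^ (2 * m + 1) * z * (t ^ (2 * m + 1))⁻¹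
      = (t ^ 2) ^ m * (t * z * t⁻¹) * ((t ^ 2) ^ m)⁻¹ := by rw [pow_succ, pow_mul]; group
    _ = z⁻¹ := by rw [h, h2m']

theorem backward (T : Subgroup G) (hT2 : IsPGroup 2 T)
    (h : Involves (Equiv.Perm (Fin 3)) (↥(Subgroup.normalizer (T : Set G)) ⧸
      (Subgroup.centralizer (T : Set G)).subgroupOf (Subgroup.normalizer (T : Set G)))) :
    Involves (Equiv.Perm (Fin 4)) G := by
  classical
  set N : Subgroup G := Subgroup.normalizer (T : Set G) with hN
  set C : Subgroup G := Subgroup.centralizer (T : Set G) with hC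
  -- `S₃` as a dihedral group
  obtain ⟨e⟩ := dihedral_three_equiv
  have hD : Involves (DihedralGroup 3) (N ⧸ C.subgroupOf N) := by
    obtain ⟨K, R, hn, ⟨f⟩⟩ := h
    exact ⟨K, R, hn, ⟨f.trans e.symm⟩⟩
  haveI : Fact (Nat.Prime 3) := ⟨Nat.prime_three⟩
  obtain ⟨x₀, P₀, hx₀, hP₀, hx₀N, hx₀C⟩ :=
    Cfsg.Agent.Lib.Helper46.exists_not_centralizing_of_involves (p := 3) (by norm_num) hD
  obtain ⟨t, y₀, ht2, ⟨k, hk⟩, hy₀1, hty₀⟩ :=
    Cfsg.Agent.Lib.Helper46.exists_inverted_of_not_centralizing hx₀ hP₀ hx₀N hx₀C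
  -- an element of order three
  have hk0 : k ≠ 0 := by
    rintro rfl
    rw [pow_zero, orderOf_eq_one_iff] at hk
    exact hy₀1 hk
  obtain ⟨k', rfl⟩ := Nat.exists_eq_succ_of_ne_zero hk0
  set z : N ⧸ C.subgroupOf N := y₀ ^ (3 ^ k') with hz
  have hz3 : z ^ 3 = 1 := by
    rw [hz, ← pow_mul, ← pow_succ, ← hk, pow_orderOf_eq_one]
  have hz1 : z ≠ 1 := by
    intro h1
    rw [hz] at h1
    have := orderOf_dvd_of_pow_eq_one h1
    rw [hk] at this
    have h2 := Nat.le_of_dvd (by positivity) this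
    have h3 : 3 ^ k' < 3 ^ (k' + 1) := Nat.pow_lt_pow_right (by norm_num) (by omega)
    omega
  have htz : t * z * t⁻¹ = z⁻¹ := by
    rw [hz, ← conj_pow, hty₀, inv_pow]
  have hzord : orderOf z = 3 := orderOf_eq_prime hz3 hz1
  -- lift to the normalizer
  obtain ⟨t₀, rfl⟩ := QuotientGroup.mk_surjective t
  obtain ⟨z₀, hz₀⟩ := QuotientGroup.mk_surjective z
  -- odd part of `z₀`, `2`-part of `t₀`
  obtain ⟨e₁, u, hu, hzu⟩ := Nat.exists_eq_two_pow_mul_odd (orderOf_pos z₀).ne'
  obtain ⟨f₁, w, hw, htw⟩ := Nat.exists_eq_two_pow_mul_odd (orderOf_pos t₀).ne'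
  set xN : N := z₀ ^ (2 ^ e₁) with hxN
  set yN : N := t₀ ^ w with hyN
  set xb : N ⧸ C.subgroupOf N := z ^ (2 ^ e₁) with hxb
  have hmkx : (QuotientGroup.mk xN : N ⧸ C.subgroupOf N) = xb := by
    rw [hxN, hxb, ← hz₀]; rfl
  have hmky : (QuotientGroup.mk yN : N ⧸ C.subgroupOf N) = (QuotientGroup.mk t₀) ^ w := by
    rw [hyN]; rfl
  have hxb1 : xb ≠ 1 := by
    intro h1
    have := orderOf_dvd_of_pow_eq_one h1
    rw [hzord] at this
    have h3 : (3 : ℕ) ∣ 2 := (Nat.Prime.dvd_of_dvd_pow Nat.prime_three this)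
    omega
  have hxb3 : xb ^ 3 = 1 := by
    rw [hxb, ← pow_mul, mul_comm, pow_mul, hz3, one_pow]
  have htxb : (QuotientGroup.mk t₀ : N ⧸ C.subgroupOf N) * xb * (QuotientGroup.mk t₀)⁻¹ = xb⁻¹ := by
    rw [hxb, ← conj_pow, htz, inv_pow]
  have hyxb : (QuotientGroup.mk yN : N ⧸ C.subgroupOf N) * xb * (QuotientGroup.mk yN)⁻¹ = xb⁻¹ := by
    rw [hmky]
    exact conj_pow_odd_inv _ _ htxb w hw
  -- membership statements
  have hmem : ∀ g : N, (QuotientGroup.mk g : N ⧸ C.subgroupOf N) = 1 ↔ (g : G) ∈ C := by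
    intro g
    rw [QuotientGroup.eq_one_iff, Subgroup.mem_subgroupOf]
  have hxodd : Odd (orderOf (xN : G)) := by
    have h1 : (xN : G) ^ u = 1 := by
      have : xN ^ u = 1 := by
        rw [hxN, ← pow_mul, ← hzu, pow_orderOf_eq_one]
      have := congrArg Subtype.val this
      simpa using this
    exact Odd.of_dvd_nat hu (orderOf_dvd_of_pow_eq_one h1)
  have hy2 : ∃ k : ℕ, (yN : G) ^ (2 ^ k) = 1 := by
    refine ⟨f₁, ?_⟩
    have : yN ^ (2 ^ f₁) = 1 := by
      rw [hyN, ← pow_mul, mul_comm, ← htw, pow_orderOf_eq_one]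
    have := congrArg Subtype.val this
    simpa using this
  have hxC : (xN : G) ∉ C := by
    intro hc
    apply hxb1
    rw [← hmkx]
    exact (hmem xN).mpr hc
  have hx3 : (xN : G) ^ 3 ∈ C := by
    have : (QuotientGroup.mk (xN ^ 3) : N ⧸ C.subgroupOf N) = 1 := by
      rw [QuotientGroup.mk_pow, hmkx, hxb3]
    have := (hmem _).mp this
    simpa using this
  have hyx : (yN : G) * xN * (yN : G)⁻¹ * xN ∈ C := by
    have : (QuotientGroup.mk (yN * xN * yN⁻¹ * xN) : N ⧸ C.subgroupOf N) = 1 := by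
      rw [QuotientGroup.mk_mul, QuotientGroup.mk_mul, QuotientGroup.mk_mul, QuotientGroup.mk_inv,
        hmkx, hyxb, inv_mul_cancel]
    have := (hmem _).mp this
    simpa using this
  exact involves_S4_of_cfg (Nat.card T) T rfl hT2 (xN : G) (yN : G) xN.2 yN.2 hxodd hy2 hxC hx3 hyx

end Backward

section S4

open Equiv

/-- the predicate cutting out the normal four-group of `S₄` -/
def P4 (σ : Perm (Fin 4)) : Prop := σ = 1 ∨ (σ * σ = 1 ∧ ∀ i, σ i ≠ i)

instance : DecidablePred P4 := fun σ => by unfold P4; infer_instance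

set_option maxRecDepth 100000 in
theorem P4_mul : ∀ a b : Perm (Fin 4), P4 a → P4 b → P4 (a * b) := by decide

set_option maxRecDepth 100000 in
theorem P4_cent : ∀ σ : Perm (Fin 4), (∀ τ : Perm (Fin 4), P4 τ → σ * τ = τ * σ) → P4 σ := by decide

set_option maxRecDepth 100000 in
theorem P4_conj : ∀ g a : Perm (Fin 4), P4 a → P4 (g * a * g⁻¹) := by decide

theorem P4_sq : ∀ a : Perm (Fin 4), P4 a → a * a = 1 := by
  rintro a (rfl | ⟨h, _⟩)
  · simp
  · exact h

/-- the normal four-group of `S₄` -/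
def V4 : Subgroup (Perm (Fin 4)) where
  carrier := {σ | P4 σ}
  one_mem' := Or.inl rfl
  mul_mem' := fun ha hb => P4_mul _ _ ha hb
  inv_mem' := by
    intro a ha
    have := P4_sq a ha
    rw [inv_eq_of_mul_eq_one_right this]; exact ha

theorem mem_V4 {σ : Perm (Fin 4)} : σ ∈ V4 ↔ P4 σ := Iff.rfl

instance V4_normal : V4.Normal := ⟨fun a ha g => P4_conj g a ha⟩

set_option maxRecDepth 100000 in
theorem card_P4 : Fintype.card {σ : Perm (Fin 4) // P4 σ} = 4 := by decide

theorem card_V4 : Nat.card V4 = 4 := by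
  have : Nat.card V4 = Nat.card {σ : Perm (Fin 4) // P4 σ} := rfl
  rw [this, Nat.card_eq_fintype_card, card_P4]

set_option maxRecDepth 100000 in
theorem V4_noncomm : ¬ P4 ((swap (0 : Fin 4) 1 * swap (1 : Fin 4) 2)⁻¹ *
    (swap (1 : Fin 4) 2 * swap (0 : Fin 4) 1)) := by decide

theorem isPGroup_V4 : IsPGroup 2 V4 := by
  intro a
  refine ⟨1, ?_⟩
  apply Subtype.ext
  rw [pow_one, pow_two]
  exact P4_sq a.1 a.2

theorem quot_V4_equiv : Nonempty ((Perm (Fin 4) ⧸ V4) ≃* Perm (Fin 3)) := by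
  apply Cfsg.Agent.Lib.Helper66.OC.equiv_perm_of_card_six
  · have h1 : Nat.card (Perm (Fin 4)) = Nat.card (Perm (Fin 4) ⧸ V4) * Nat.card V4 :=
      Subgroup.card_eq_card_quotient_mul_card_subgroup V4
    have h24 : Nat.card (Perm (Fin 4)) = 24 := by
      rw [Nat.card_eq_fintype_card, Fintype.card_perm, Fintype.card_fin]; rfl
    rw [h24, card_V4] at h1
    omega
  · intro h
    have := h (QuotientGroup.mk (swap (0 : Fin 4) 1)) (QuotientGroup.mk (swap (1 : Fin 4) 2))
    rw [← QuotientGroup.mk_mul, ← QuotientGroup.mk_mul, QuotientGroup.eq] at this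
    exact V4_noncomm this

end S4

section Forward

universe u

open Equiv Cfsg.Agent.Lib.Helper88

theorem forward_core {K : Type u} [Group K] [Finite K] (f : K →* Perm (Fin 4))
    (hf : Function.Surjective f) :
    ∃ T : Subgroup K, IsPGroup 2 T ∧ Involves (Perm (Fin 3))
      (↥(Subgroup.normalizer (T : Set K)) ⧸
        (Subgroup.centralizer (T : Set K)).subgroupOf (Subgroup.normalizer (T : Set K))) := by
  classical
  haveI : Fact (Nat.Prime 2) := ⟨Nat.prime_two⟩
  set V₀ : Subgroup K := V4.comap f with hV₀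
  obtain ⟨P⟩ := (inferInstance : Nonempty (Sylow 2 V₀))
  set T : Subgroup K := (P : Subgroup V₀).map V₀.subtype with hT
  have hT2 : IsPGroup 2 T := P.2.map V₀.subtype
  -- `f T = V4`
  set φ' : V₀ →* V4 := f.subgroupComap V4 with hφ'
  have hφ's : Function.Surjective φ' := f.subgroupComap_surjective_of_surjective V4 hf
  have hidx1 : ((P : Subgroup V₀).map φ').index ∣ (P : Subgroup V₀).index :=
    Subgroup.index_map_dvd _ hφ's
  obtain ⟨n, hn⟩ := isPGroup_V4.index ((P : Subgroup V₀).map φ')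
  have hnot : ¬ 2 ∣ (P : Subgroup V₀).index := P.not_dvd_index
  have hn0 : n = 0 := by
    by_contra hne
    apply hnot
    apply dvd_trans _ hidx1
    rw [hn]; exact dvd_pow_self 2 hne
  have htop : (P : Subgroup V₀).map φ' = ⊤ := by
    rw [← Subgroup.index_eq_one, hn, hn0, pow_zero]
  have hfT : T.map f = V4 := by
    rw [hT, Subgroup.map_map]
    have hcomp : f.comp V₀.subtype = V4.subtype.comp φ' := by ext x; rfl
    rw [hcomp, ← Subgroup.map_map, htop, ← MonoidHom.range_eq_map, Subgroup.range_subtype]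
  set N : Subgroup K := Subgroup.normalizer (T : Set K) with hN
  set C : Subgroup K := Subgroup.centralizer (T : Set K) with hC
  have hFr : N ⊔ V₀ = ⊤ := Sylow.normalizer_sup_eq_top P
  set q : Perm (Fin 4) →* Perm (Fin 4) ⧸ V4 := QuotientGroup.mk' V4 with hq
  set ψ₀ : N →* Perm (Fin 4) ⧸ V4 := (q.comp f).comp N.subtype with hψ₀
  have hψ₀s : Function.Surjective ψ₀ := by
    have h1 : (N ⊔ V₀).map (q.comp f) = ⊤ := by
      rw [hFr, ← MonoidHom.range_eq_map, MonoidHom.range_eq_top]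
      exact (QuotientGroup.mk'_surjective V4).comp hf
    rw [Subgroup.map_sup] at h1
    have h2 : V₀.map (q.comp f) = ⊥ := by
      rw [eq_bot_iff]
      rintro _ ⟨v, hv, rfl⟩
      rw [Subgroup.mem_bot]
      exact (QuotientGroup.eq_one_iff _).mpr hv
    rw [h2, sup_bot_eq] at h1
    intro s
    have : s ∈ N.map (q.comp f) := by rw [h1]; trivial
    obtain ⟨n, hn, rfl⟩ := this
    exact ⟨⟨n, hn⟩, rfl⟩
  have hker : C.subgroupOf N ≤ ψ₀.ker := by
    intro c hc
    rw [Subgroup.mem_subgroupOf] at hc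
    rw [MonoidHom.mem_ker]
    apply (QuotientGroup.eq_one_iff _).mpr
    rw [mem_V4]
    apply P4_cent
    intro τ hτ
    have : τ ∈ T.map f := by rw [hfT]; exact hτ
    obtain ⟨t, ht, rfl⟩ := this
    have := (Subgroup.mem_centralizer_iff.mp hc) t ht
    show f c * f t = f t * f c
    rw [← map_mul, ← map_mul, this]
  set ψ : N ⧸ C.subgroupOf N →* Perm (Fin 4) ⧸ V4 := QuotientGroup.lift (C.subgroupOf N) ψ₀ hker
    with hψ
  have hψs : Function.Surjective ψ := by
    intro s
    obtain ⟨n, rfl⟩ := hψ₀s s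
    exact ⟨QuotientGroup.mk n, rfl⟩
  obtain ⟨e⟩ := quot_V4_equiv
  exact ⟨T, hT2, involves_of_spans ⟨N ⧸ C.subgroupOf N, inferInstance, MonoidHom.id _,
    e.toMonoidHom.comp ψ, Function.injective_id, e.surjective.comp hψs⟩⟩

end Forward

section Transport

universe u v

open Cfsg.Agent.Lib.Helper88

theorem involves_normalizer_map {K G : Type u} [Group K] [Group G] (i : K →* G)
    (hi : Function.Injective i) (T : Subgroup K) {H : Type v} [Group H]
    (h : Involves H (↥(Subgroup.normalizer (T : Set K)) ⧸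
      (Subgroup.centralizer (T : Set K)).subgroupOf (Subgroup.normalizer (T : Set K)))) :
    Involves H (↥(Subgroup.normalizer ((T.map i : Subgroup G) : Set G)) ⧸
      (Subgroup.centralizer ((T.map i : Subgroup G) : Set G)).subgroupOf
        (Subgroup.normalizer ((T.map i : Subgroup G) : Set G))) := by
  classical
  set NK : Subgroup K := Subgroup.normalizer (T : Set K) with hNK
  set CK : Subgroup K := Subgroup.centralizer (T : Set K) with hCK
  set NG : Subgroup G := Subgroup.normalizer ((T.map i : Subgroup G) : Set G) with hNG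
  set CG : Subgroup G := Subgroup.centralizer ((T.map i : Subgroup G) : Set G) with hCG
  have hmemN : ∀ n : NK, i n ∈ NG := by
    intro n
    rw [hNG, Subgroup.mem_normalizer_iff]
    intro g
    have hn := Subgroup.mem_normalizer_iff.mp n.2
    constructor
    · rintro ⟨t, ht, rfl⟩
      refine ⟨n * t * (n : K)⁻¹, (hn t).mp ht, ?_⟩
      simp
    · rintro ⟨t', ht', hteq⟩
      have hninv : (n : K)⁻¹ ∈ NK := NK.inv_mem n.2
      have hn' := Subgroup.mem_normalizer_iff.mp hninv
      refine ⟨(n : K)⁻¹ * t' * ((n : K)⁻¹)⁻¹, (hn' t').mp ht', ?_⟩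
      rw [map_mul, map_mul, hteq]
      simp
      group
  set φ : NK →* NG := (i.comp NK.subtype).codRestrict NG hmemN with hφ
  have hφc : ∀ n : NK, ((φ n : NG) : G) = i n := fun n => rfl
  have hCmem : ∀ n : NK, (φ n) ∈ CG.subgroupOf NG ↔ n ∈ CK.subgroupOf NK := by
    intro n
    rw [Subgroup.mem_subgroupOf, Subgroup.mem_subgroupOf, hφc, hCG, hCK,
      Subgroup.mem_centralizer_iff, Subgroup.mem_centralizer_iff]
    constructor
    · intro hc t ht
      have := hc (i t) ⟨t, ht, rfl⟩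
      rw [← map_mul, ← map_mul] at this
      exact hi this
    · rintro hc _ ⟨t, ht, rfl⟩
      rw [← map_mul, ← map_mul, hc t ht]
  have hle : CK.subgroupOf NK ≤ (CG.subgroupOf NG).comap φ := by
    intro n hn
    exact (hCmem n).mpr hn
  set Φ : NK ⧸ CK.subgroupOf NK →* NG ⧸ CG.subgroupOf NG :=
    QuotientGroup.map (CK.subgroupOf NK) (CG.subgroupOf NG) φ hle with hΦ
  have hΦi : Function.Injective Φ := by
    rw [injective_iff_map_eq_one]
    intro a
    induction a using QuotientGroup.induction_on with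
    | H n =>
      intro h1
      rw [hΦ, QuotientGroup.map_mk, QuotientGroup.eq_one_iff] at h1
      exact (QuotientGroup.eq_one_iff _).mpr ((hCmem n).mp h1)
  exact Cfsg.Agent.Lib.Helper51.involves_of_injective Φ hΦi h

end Transport

section Main

universe u

open Equiv Cfsg.Agent.Lib.Helper88

theorem forward {G : Type u} [Group G] [Finite G] (h : Involves (Perm (Fin 4)) G) :
    ∃ T : Subgroup G, IsPGroup 2 ↥T ∧ Involves (Perm (Fin 3))
      (↥(Subgroup.normalizer (T : Set G)) ⧸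
        (Subgroup.centralizer (T : Set G)).subgroupOf (Subgroup.normalizer (T : Set G))) := by
  obtain ⟨K, _, i, f, hi, hf⟩ := spans_of_involves h
  haveI : Finite K := Finite.of_injective i hi
  obtain ⟨T, hT2, hT⟩ := forward_core f hf
  exact ⟨T.map i, hT2.map i, involves_normalizer_map i hi T hT⟩

end Main

/-- For a finite group G, the symmetric group of degree 4 is involved in G if and only if there is a 2-subgroup T of G such that the symmetric group of degree 3 is involved in N(T)/C(T). -/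
theorem result {G : Type*} [Group G] [Finite G] : Cfsg.Involves (Equiv.Perm (Fin 4)) G ↔ ∃ T : Subgroup G, IsPGroup 2 ↥T ∧ Cfsg.Involves (Equiv.Perm (Fin 3)) (↥(Subgroup.normalizer (T : Set G)) ⧸ (Subgroup.centralizer (T : Set G)).subgroupOf (Subgroup.normalizer (T : Set G))) := by
  constructor
  · exact forward
  · rintro ⟨T, hT2, hT⟩
    exact backward T hT2 hT

end Cfsg.Agent.S2759
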