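import Cfsg.Statements.S2772
import Cfsg.Agent.Lib.Helper46.SimsG

set_option autoImplicit false
open Cfsg

namespace Cfsg.Agent.S2772

/-- Sims' Theorem in local form: let H be a finite non-abelian simple group and G a maximal subgroup of H with C_G(O₂(G)) ≤ O₂(G), such that N_H(S) is not contained in G for a Sylow 2-subgroup S of G and G/O₂(G) is dihedral of order 2q for a prime q. Then G is isomorphic to the symmetric group of degree 4 or to its direct product with a group of order 2. -/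
theorem result {H : Type*} [Group H] [Finite H] [IsSimpleGroup H] (hna : ¬ IsMulCommutative H) (G : Subgroup H) (hG : IsCoatom G) (hchar : Subgroup.centralizer (Cfsg.pCore 2 ↥G : Set ↥G) ≤ Cfsg.pCore 2 ↥G) (S : Sylow 2 ↥G) (hN : ¬ Subgroup.normalizer (((S : Subgroup ↥G).map G.subtype : Subgroup H) : Set H) ≤ G) (q : ℕ) (hq : q.Prime) (hD : Nonempty (↥G ⧸ Cfsg.pCore 2 ↥G ≃* DihedralGroup q)) : Nonempty (↥G ≃* Equiv.Perm (Fin 4)) ∨ Nonempty (↥G ≃* Equiv.Perm (Fin 4) × Multiplicative (ZMod 2)) := by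
  classical
  haveI : Fact (Nat.Prime 2) := ⟨Nat.prime_two⟩
  obtain ⟨eD⟩ := hD
  have hquot : Nat.card (↥G ⧸ Cfsg.pCore 2 ↥G) = 2 * q := by
    rw [Nat.card_congr eD.toEquiv, DihedralGroup.nat_card]
  have hcG0 := Subgroup.card_eq_card_quotient_mul_card_subgroup (Cfsg.pCore 2 ↥G)
  rw [hquot] at hcG0
  haveI hPn : (Cfsg.pCore 2 ↥G).Normal := by
    haveI := Cfsg.Agent.Lib.Helper46.pCore_characteristic 2 ↥G
    infer_instance
  exact Cfsg.Agent.Lib.Helper46.SimsF.sims_local_aux hna G hG (Cfsg.pCore 2 ↥G)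
    (Cfsg.Agent.Lib.Helper46.pCore_isPGroup 2)
    (fun N hN hN2 => Cfsg.Agent.Lib.Helper46.le_pCore 2 N hN hN2)
    S (Cfsg.Agent.Lib.Helper46.pCore_le_sylow S) hchar hN q hq hcG0

end Cfsg.Agent.S2772
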