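import Cfsg.Statements.S2780
import Cfsg.Agent.Lib.Helper46.NatSL2

set_option autoImplicit false
open Cfsg
open Cfsg.Agent.Lib.Helper46.NatSL2 Cfsg.Agent.Lib.Helper46.SL2

namespace Cfsg.Agent.S2780

/-- Let L act on the elementary abelian p-group V (inside a finite group, faithfully) as SL₂(F) on its natural module, F a field with p^n elements, S a Sylow p-subgroup of L. Then: for every g ∈ L not normalizing S, V is the internal direct product of C_V(S) and C_V(gSg⁻¹); every nonidentity element of L of order prime to p acts on V without nonidentity fixed points; and C_V(S) and V/C_V(S) are irreducible for N_L(S): the only N_L(S)-invariant subgroups of C_V(S) are 1 and C_V(S), and the only N_L(S)-invariant subgroups between C_V(S) and V are those two. -/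
theorem result {G : Type*} [Group G] [Finite G] {p : ℕ} [Fact p.Prime] {F : Type*} [Field F] [Fintype F] (n : ℕ) (hF : Fintype.card F = p ^ n) (V L : Subgroup G) (hnat : Cfsg.IsNaturalSL2Module F V L) (hf : L ⊓ Subgroup.centralizer (V : Set G) = ⊥) (S : Sylow p ↥L) (T : Subgroup G) (hT : T = ((S : Subgroup ↥L).map L.subtype)) : (∀ g ∈ L, g ∉ Subgroup.normalizer (T : Set G) → Cfsg.IsInternalDirectProduct (V ⊓ Subgroup.centralizer ((T : Subgroup G) : Set G)) (V ⊓ Subgroup.centralizer ((T.map (MulAut.conj g).toMonoidHom : Subgroup G) : Set G)) V) ∧ (∀ x ∈ L, x ≠ 1 → (orderOf x).Coprime p → (V ⊓ Subgroup.centralizer ({x} : Set G)) = ⊥) ∧ (∀ U : Subgroup G, U ≤ (V ⊓ Subgroup.centralizer ((T : Subgroup G) : Set G)) → L ⊓ Subgroup.normalizer (T : Set G) ≤ Subgroup.normalizer (U : Set G) → U = ⊥ ∨ U = (V ⊓ Subgroup.centralizer ((T : Subgroup G) : Set G))) ∧ (∀ U : Subgroup G, (V ⊓ Subgroup.centralizer ((T : Subgroup G) : Set G)) ≤ U → U ≤ V → L ⊓ Subgroup.normalizer (T : Set G) ≤ Subgroup.normalizer (U : Set G) → U =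 (V ⊓ Subgroup.centralizer ((T : Subgroup G) : Set G)) ∨ U = V) := by
  obtain ⟨D⟩ := exists_natData n hF V L hnat hf S T hT
  have hCT : V ⊓ Subgroup.centralizer ((T : Subgroup G) : Set G) = D.W D.e := by
    have := D.inf_centralizer_St D.e D.he
    rw [← D.T_eq] at this
    exact this
  refine ⟨?_, ?_, ?_, ?_⟩
  · intro g hg hgN
    have hd := D.dd_ne_zero_of_not_mem_normalizer g hg hgN
    have h1 : T.map (MulAut.conj g).toMonoidHom = D.St (mv (D.R g) D.e) := by
      have := D.map_conj_St g hg D.e
      rw [← D.T_eq] at this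
      exact this
    rw [hCT, h1, D.inf_centralizer_St _ (mv_ne_zero (D.R g) D.he)]
    exact D.isInternalDirectProduct_W D.e _ D.he hd
  · intro x hx hx1 hcop
    exact D.fixed_point_free hF x hx hx1 hcop
  · intro U hU hN
    rw [hCT] at hU ⊢
    exact D.irreducible_W U hU hN
  · intro U hWU hUV hN
    rw [hCT] at hWU ⊢
    exact D.irreducible_quotient U hWU hUV hN

end Cfsg.Agent.S2780
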