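import Cfsg.Statements.S2804
import Cfsg.Agent.Lib.Helper46.Subnormal
import Cfsg.Agent.Lib.Helper46.Coprime

set_option autoImplicit false
open Cfsg
open Cfsg.Agent.Lib.Helper46

namespace Cfsg.Agent.S2804

open scoped commutatorElement

theorem pResidual_normal (p : ℕ) (X : Type*) [Group X] : (Cfsg.pResidual p X).Normal := by
  constructor
  intro n hn g
  unfold Cfsg.pResidual at hn ⊢
  induction hn using Subgroup.closure_induction with
  | mem x hx =>
    apply Subgroup.subset_closure
    have : orderOf (g * x * g⁻¹) = orderOf x := by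
      have h : SemiconjBy g x (g * x * g⁻¹) := by
        unfold SemiconjBy; group
      exact (h.orderOf_eq).symm
    show Nat.Coprime (orderOf (g * x * g⁻¹)) p
    rw [this]; exact hx
  | one => simp
  | mul x y _ _ hx hy =>
    have : g * (x * y) * g⁻¹ = (g * x * g⁻¹) * (g * y * g⁻¹) := by group
    rw [this]; exact Subgroup.mul_mem _ hx hy
  | inv x _ hx =>
    have : g * x⁻¹ * g⁻¹ = (g * x * g⁻¹)⁻¹ := by group
    rw [this]; exact Subgroup.inv_mem _ hx

theorem comm_le_of_subnormal {L : Type*} [Group L] {p m : ℕ} (V : Subgroup L) [hV : V.Normal]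
    (hab : ∀ a ∈ V, ∀ b ∈ V, a * b = b * a) (hexp : ∀ a ∈ V, a ^ p = 1) (hm : m.Coprime p)
    (K : Subgroup L) (hK : K.IsSubnormal) :
    ∀ x ∈ K, x ^ m = 1 → ⁅V, Subgroup.zpowers x⁆ ≤ K := by
  induction hK with
  | top => intro x _ _; exact le_top
  | step K K' hle hsub hN ih =>
    intro x hxK hxm
    have h1 : ⁅V, Subgroup.zpowers x⁆ ≤ K' := ih x (hle hxK) hxm
    have h2 := commutator_zpowers_le_of_coprime V hab hexp x hm hxm
    refine h2.trans ?_
    have hK'K : K' ≤ Subgroup.normalizer (K : Set L) :=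
      (Subgroup.normal_subgroupOf_iff_le_normalizer hle).mp hN
    rw [Subgroup.commutator_le]
    intro a ha z hz
    have haK' : a ∈ K' := h1 ha
    have hzK : z ∈ K := by
      have : Subgroup.zpowers x ≤ K := by rw [Subgroup.zpowers_le]; exact hxK
      exact this hz
    have := conj_mem_of_le_normalizer hK'K haK' hzK
    rw [commutatorElement_def]
    exact K.mul_mem this (K.inv_mem hzK)


/-- Let L be a finite group and p a prime with C_L(O_p(L)) ≤ O_p(L), V a p-reduced normal subgroup of L and K a subnormal subgroup of L. Then [V, O^p(K)] is contained in K and is a p-reduced normal subgroup of K, where O^p(K) is the subgroup of K generated by its elements of order prime to p. -/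
theorem result {L : Type*} [Group L] [Finite L] {p : ℕ} [Fact p.Prime] (hchar : Subgroup.centralizer (Cfsg.pCore p L : Set L) ≤ Cfsg.pCore p L) (V : Subgroup L) (hV : Cfsg.IsPReducedNormal p V) (K : Subgroup L) (hK : K.IsSubnormal) : ⁅V, (Cfsg.pResidual p ↥K).map K.subtype⁆ ≤ K ∧ Cfsg.IsPReducedNormal p ((⁅V, (Cfsg.pResidual p ↥K).map K.subtype⁆).subgroupOf K) := by
  obtain ⟨hVn, ⟨hVcomm, hVexp⟩, hCn, hcore⟩ := hV
  have hVn' : V.Normal := hVn
  have hVV : V ≤ Subgroup.centralizer (V : Set L) :=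
    Subgroup.le_centralizer_iff_isMulCommutative.mpr hVcomm
  have hab : ∀ a ∈ V, ∀ b ∈ V, a * b = b * a := by
    intro a ha b hb
    exact ((Subgroup.mem_centralizer_iff.mp (hVV hb)) a ha)
  set R : Subgroup L := (Cfsg.pResidual p ↥K).map K.subtype with hR
  set W : Subgroup L := ⁅V, R⁆ with hW
  have hRK : R ≤ K := Subgroup.map_subtype_le _
  have hWV : W ≤ V := Subgroup.commutator_le_left V R
  -- p'-elements of K lie in R
  have hmemR : ∀ x ∈ K, ∀ m : ℕ, m.Coprime p → x ^ m = 1 → x ∈ R := by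
    intro x hx m hm hxm
    refine Subgroup.mem_map.mpr ⟨⟨x, hx⟩, ?_, rfl⟩
    unfold Cfsg.pResidual
    apply Subgroup.subset_closure
    show Nat.Coprime (orderOf (⟨x, hx⟩ : ↥K)) p
    rw [Subgroup.orderOf_mk]
    exact Nat.Coprime.coprime_dvd_left (orderOf_dvd_of_pow_eq_one hxm) hm
  -- Claim A
  have hWK : W ≤ K := by
    let S : Subgroup L :=
      { carrier := {r | r ∈ K ∧ ∀ v ∈ V, ⁅v, r⁆ ∈ K}
        one_mem' := ⟨K.one_mem, fun v _ => by simp [K.one_mem]⟩
        mul_mem' := by
          rintro a b ⟨ha, hav⟩ ⟨hb, hbv⟩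
          refine ⟨K.mul_mem ha hb, fun v hv => ?_⟩
          have e : ⁅v, a * b⁆ = ⁅v, a⁆ * (a * ⁅v, b⁆ * a⁻¹) := by
            simp only [commutatorElement_def]; group
          rw [e]
          exact K.mul_mem (hav v hv) (K.mul_mem (K.mul_mem ha (hbv v hv)) (K.inv_mem ha))
        inv_mem' := by
          rintro a ⟨ha, hav⟩
          refine ⟨K.inv_mem ha, fun v hv => ?_⟩
          have e : ⁅v, a⁻¹⁆ = a⁻¹ * (⁅v, a⁆)⁻¹ * a := by
            simp only [commutatorElement_def]; group
          rw [e]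
          exact K.mul_mem (K.mul_mem (K.inv_mem ha) (K.inv_mem (hav v hv))) ha }
    have hRS : R ≤ S := by
      rw [hR, Subgroup.map_le_iff_le_comap]
      unfold Cfsg.pResidual
      rw [Subgroup.closure_le]
      intro x hx
      have hx' : Nat.Coprime (orderOf x) p := hx
      have hxm : (x : L) ^ (orderOf x) = 1 := by
        rw [← Subgroup.orderOf_coe, pow_orderOf_eq_one]
      have hle := comm_le_of_subnormal V hab hVexp hx' K hK (x : L) x.2 hxm
      refine ⟨x.2, fun v hv => ?_⟩
      exact hle (Subgroup.commutator_mem_commutator hv (Subgroup.mem_zpowers _))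
    rw [hW, Subgroup.commutator_le]
    intro v hv r hr
    exact (hRS hr).2 v hv
  refine ⟨hWK, ?_⟩
  -- normality of W in K
  have hKW : K ≤ Subgroup.normalizer (W : Set L) := by
    apply le_normalizer_of_conj_mem
    intro k hk w hw
    have hRn : (Cfsg.pResidual p ↥K).Normal := pResidual_normal p _
    have hVφ : V.map (MulAut.conj k).toMonoidHom ≤ V := by
      intro y hy
      obtain ⟨v, hv, rfl⟩ := Subgroup.mem_map.mp hy
      simpa using hVn'.conj_mem v hv k
    have hRφ : R.map (MulAut.conj k).toMonoidHom ≤ R := by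
      intro y hy
      obtain ⟨r, hr, rfl⟩ := Subgroup.mem_map.mp hy
      obtain ⟨r', hr', rfl⟩ := Subgroup.mem_map.mp hr
      have := hRn.conj_mem r' hr' ⟨k, hk⟩
      refine Subgroup.mem_map.mpr ⟨_, this, ?_⟩
      simp
    have hWφ : W.map (MulAut.conj k).toMonoidHom ≤ W := by
      rw [hW, Subgroup.map_commutator]
      exact Subgroup.commutator_mono hVφ hRφ
    have := hWφ (Subgroup.mem_map_of_mem _ hw)
    simpa using this
  have hWn : (W.subgroupOf K).Normal :=
    (Subgroup.normal_subgroupOf_iff_le_normalizer hWK).mpr hKW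
  have hWcomm : W.subgroupOf K ≤ Subgroup.centralizer ((W.subgroupOf K : Subgroup ↥K) : Set ↥K) := by
    intro a ha
    rw [Subgroup.mem_centralizer_iff]
    intro b hb
    apply Subtype.ext
    exact hab _ (hWV hb) _ (hWV ha)
  refine ⟨hWn, ⟨Subgroup.le_centralizer_iff_isMulCommutative.mp hWcomm, ?_⟩, ?_⟩
  · intro a ha
    apply Subtype.ext
    have := hVexp _ (hWV ha)
    simpa using this
  have hCWn : (Subgroup.centralizer ((W.subgroupOf K : Subgroup ↥K) : Set ↥K)).Normal :=
    Subgroup.normal_centralizer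
  refine ⟨hCWn, ?_⟩
  apply pCore_quot_eq_bot_of
  intro D' hD'n hCD' hD'p
  set D : Subgroup L := D'.map K.subtype with hD
  have hDK : D ≤ K := Subgroup.map_subtype_le _
  have hDsub : D.IsSubnormal := by
    refine Subgroup.IsSubnormal.step D K hDK hK ?_
    have : D.subgroupOf K = D' := by
      rw [hD]
      exact Subgroup.comap_map_eq_self_of_injective K.subtype_injective D'
    rw [this]; exact hD'n
  set CV : Subgroup L := Subgroup.centralizer (V : Set L) with hCV
  -- elements of D are p-elements modulo C_L(W)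
  have hDpW : ∀ d ∈ D, ∃ k : ℕ, d ^ (p ^ k) ∈ Subgroup.centralizer (W : Set L) := by
    intro d hd
    obtain ⟨d', hd', rfl⟩ := Subgroup.mem_map.mp hd
    obtain ⟨k, hk⟩ := hD'p d' hd'
    refine ⟨k, ?_⟩
    rw [Subgroup.mem_centralizer_iff]
    intro w hw
    have hwK : (⟨w, hWK hw⟩ : ↥K) ∈ W.subgroupOf K := by
      rw [Subgroup.mem_subgroupOf]; exact hw
    have := (Subgroup.mem_centralizer_iff.mp hk) _ hwK
    have := congrArg Subtype.val this
    simpa using this
  -- p'-elements of D centralize V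
  have hp'D : ∀ x ∈ D, ∀ m : ℕ, m.Coprime p → x ^ m = 1 → x ∈ CV := by
    intro x hx m hm hxm
    obtain ⟨k, hk⟩ := hDpW x hx
    have hxCW : x ∈ Subgroup.centralizer (W : Set L) := by
      apply mem_of_pow_mem_of_coprime _ (Nat.Coprime.pow_right k hm) _ hk
      rw [hxm]; exact Subgroup.one_mem _
    have hxR : x ∈ R := hmemR x (hDK hx) m hm hxm
    have hZR : Subgroup.zpowers x ≤ R := by rw [Subgroup.zpowers_le]; exact hxR
    have hZC : Subgroup.zpowers x ≤ Subgroup.centralizer (W : Set L) := by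
      rw [Subgroup.zpowers_le]; exact hxCW
    have hq : ⁅⁅V, Subgroup.zpowers x⁆, Subgroup.zpowers x⁆ = ⊥ := by
      rw [eq_bot_iff]
      refine (Subgroup.commutator_mono (Subgroup.commutator_mono le_rfl hZR) le_rfl).trans ?_
      rw [le_bot_iff, Subgroup.commutator_eq_bot_iff_le_centralizer, Subgroup.le_centralizer_iff]
      exact hZC
    exact centralizes_of_coprime_of_quadratic V hab hVexp x hm hxm hq
  have hDpV : ∀ d ∈ D, ∃ k : ℕ, d ^ (p ^ k) ∈ CV := by
    intro d hd
    have ho : orderOf d ≠ 0 := (orderOf_pos d).ne'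
    obtain ⟨e, m, hm, hem⟩ := Nat.exists_eq_pow_mul_and_not_dvd ho p (Fact.out : p.Prime).ne_one
    refine ⟨e, ?_⟩
    have hcop : m.Coprime p := ((Nat.Prime.coprime_iff_not_dvd Fact.out).mpr hm).symm
    apply hp'D _ (D.pow_mem hd _) m hcop
    rw [← pow_mul, ← hem, pow_orderOf_eq_one]
  have hCn' : CV.Normal := hCn
  have hDCV : D ≤ CV := subnormal_le_of_pCore_quot_eq_bot CV hcore D hDsub hDpV
  intro d' hd'
  rw [Subgroup.mem_centralizer_iff]
  intro w hw
  have hdCV : (d' : L) ∈ CV := hDCV (Subgroup.mem_map_of_mem _ hd')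
  have := (Subgroup.mem_centralizer_iff.mp hdCV) _ (hWV hw)
  apply Subtype.ext
  simpa using this

end Cfsg.Agent.S2804
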