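import Cfsg.Statements.S2781
import Cfsg.Agent.Lib.Helper46.Trace
import Cfsg.Agent.Lib.Helper46.CharP
import Cfsg.Agent.S2804

set_option autoImplicit false
open Cfsg
open scoped commutatorElement

namespace Cfsg.Agent.S2781

/-- Let H act faithfully by conjugation on the elementary abelian p-subgroup V of a finite group, let O^p(H) be the subgroup of H generated by its elements of order prime to p, and T a Sylow p-subgroup of O^p(H). If V is generated by the H-conjugates of C_V(T) (V is the smallest H-invariant subgroup containing C_V(T)), then V = [V, O^p(H)]·C_V(O^p(H)). -/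
theorem result {G : Type*} [Group G] [Finite G] {p : ℕ} [Fact p.Prime] (V H : Subgroup G) (hV : Cfsg.IsElementaryAbelian p V) (hHV : H ≤ Subgroup.normalizer (V : Set G)) (hf : H ⊓ Subgroup.centralizer (V : Set G) = ⊥) (R : Subgroup G) (hR : R = (Cfsg.pResidual p ↥H).map H.subtype) (S : Sylow p ↥R) (T : Subgroup G) (hT : T = ((S : Subgroup ↥R).map R.subtype)) (hgen : ∀ W : Subgroup G, H ≤ Subgroup.normalizer (W : Set G) → (V ⊓ Subgroup.centralizer ((T : Subgroup G) : Set G)) ≤ W → V ≤ W) : ⁅V, R⁆ ⊔ (V ⊓ Subgroup.centralizer ((R : Subgroup G) : Set G)) = V := by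
  classical
  have hRH : R ≤ H := by
    rw [hR]
    intro x hx
    obtain ⟨y, _, rfl⟩ := Subgroup.mem_map.mp hx
    exact y.2
  have hRV : R ≤ Subgroup.normalizer (V : Set G) := hRH.trans hHV
  -- R is normalized by H
  have hHR : ∀ h ∈ H, ∀ r ∈ R, h * r * h⁻¹ ∈ R := by
    intro h hh r hr
    rw [hR] at hr ⊢
    obtain ⟨y, hy, rfl⟩ := Subgroup.mem_map.mp hr
    have hn : (Cfsg.pResidual p ↥H).Normal := Cfsg.Agent.S2804.pResidual_normal p ↥H
    have := hn.conj_mem y hy ⟨h, hh⟩
    exact Subgroup.mem_map.mpr ⟨_, this, rfl⟩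
  have hab : ∀ a ∈ V, ∀ b ∈ V, a * b = b * a := by
    intro a ha b hb
    have := hV.1.is_comm.comm (⟨a, ha⟩ : ↥V) ⟨b, hb⟩
    exact congrArg Subtype.val this
  have hVconj : ∀ h ∈ H, ∀ v ∈ V, h * v * h⁻¹ ∈ V := fun h hh v hv =>
    Cfsg.Agent.Lib.Helper46.conj_mem_of_le_normalizer hHV hh hv
  set W : Subgroup G := ⁅V, R⁆ ⊔ (V ⊓ Subgroup.centralizer ((R : Subgroup G) : Set G)) with hW
  have hcommV : ⁅V, R⁆ ≤ V := by
    rw [Subgroup.commutator_le]
    intro v hv r hr
    have h1 : r * v⁻¹ * r⁻¹ ∈ V :=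
      Cfsg.Agent.Lib.Helper46.conj_mem_of_le_normalizer hRV hr (V.inv_mem hv)
    have : ⁅v, r⁆ = v * (r * v⁻¹ * r⁻¹) := by
      rw [commutatorElement_def]; group
    rw [this]
    exact V.mul_mem hv h1
  have hWV : W ≤ V := sup_le hcommV inf_le_left
  apply le_antisymm hWV
  apply hgen W
  · -- W is H-invariant
    apply Cfsg.Agent.Lib.Helper46.le_normalizer_of_conj_mem
    intro h hh w hw
    -- conjugation by h as a monoid hom
    have hmap : W.map (MulAut.conj h).toMonoidHom ≤ W := by
      rw [hW, Subgroup.map_sup]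
      apply sup_le_sup
      · rw [Subgroup.map_commutator]
        apply Subgroup.commutator_mono
        · rintro _ ⟨v, hv, rfl⟩
          exact hVconj h hh v hv
        · rintro _ ⟨r, hr, rfl⟩
          exact hHR h hh r hr
      · rintro _ ⟨c, hc, rfl⟩
        obtain ⟨hcV, hcC⟩ := Subgroup.mem_inf.mp hc
        refine Subgroup.mem_inf.mpr ⟨hVconj h hh c hcV, ?_⟩
        apply Subgroup.mem_centralizer_iff.mpr
        intro r hr
        have hr' : h⁻¹ * r * h ∈ R := by
          have := hHR h⁻¹ (H.inv_mem hh) r hr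
          simpa using this
        have hcomm := Subgroup.mem_centralizer_iff.mp hcC _ hr'
        show r * (h * c * h⁻¹) = (h * c * h⁻¹) * r
        have e1 : r * (h * c * h⁻¹) = h * ((h⁻¹ * r * h) * c) * h⁻¹ := by group
        have e2 : (h * c * h⁻¹) * r = h * (c * (h⁻¹ * r * h)) * h⁻¹ := by group
        rw [e1, e2, hcomm]
    exact hmap (Subgroup.mem_map.mpr ⟨w, hw, rfl⟩)
  · -- C_V(T) ≤ W
    intro v hv
    obtain ⟨hvV, hvT⟩ := Subgroup.mem_inf.mp hv
    have hTR : T ≤ R := by
      rw [hT]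
      rintro _ ⟨y, _, rfl⟩
      exact y.2
    have hrel : (T.relIndex R).Coprime p := by
      have h1 : T.subgroupOf R = (S : Subgroup ↥R) := by
        rw [hT]
        ext y
        rw [Subgroup.mem_subgroupOf, Subgroup.mem_map]
        constructor
        · rintro ⟨z, hz, hzy⟩
          have : z = y := Subtype.ext hzy
          rwa [← this]
        · intro hy
          exact ⟨y, hy, rfl⟩
      unfold Subgroup.relIndex
      rw [h1]
      have := S.not_dvd_index
      exact ((Nat.Prime.coprime_iff_not_dvd (Fact.out : p.Prime)).mpr this).symm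
    have hPu : ∀ x ∈ T, x * v * x⁻¹ = v := by
      intro x hx
      have := Subgroup.mem_centralizer_iff.mp hvT x hx
      rw [this]; group
    obtain ⟨τ, hτV, k, hk, hτN, hτU, _⟩ :=
      Cfsg.Agent.Lib.Helper46.exists_trace V R T hab hRV hTR hrel v hvV hPu
    have h1 : τ * (v ^ k)⁻¹ ∈ ⁅V, R⁆ := by
      apply hτU
      intro n hn
      have : n * v * n⁻¹ * v⁻¹ = ⁅n, v⁆ := by rw [commutatorElement_def]
      rw [this, Subgroup.commutator_comm]
      exact Subgroup.commutator_mem_commutator hn hvV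
    have h2 : τ ∈ V ⊓ Subgroup.centralizer ((R : Subgroup G) : Set G) := by
      refine Subgroup.mem_inf.mpr ⟨hτV, ?_⟩
      apply Subgroup.mem_centralizer_iff.mpr
      intro r hr
      have := hτN r hr
      show r * τ = τ * r
      calc r * τ = (r * τ * r⁻¹) * r := by group
        _ = τ * r := by rw [this]
    have h3 : v ^ k ∈ W := by
      have e : v ^ k = (τ * (v ^ k)⁻¹)⁻¹ * τ := by group
      rw [e]
      exact W.mul_mem (W.inv_mem (Subgroup.mem_sup_left h1)) (Subgroup.mem_sup_right h2)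
    have h4 : v ^ p ∈ W := by
      rw [hV.2 v hvV]; exact W.one_mem
    exact Cfsg.Agent.Lib.Helper46.mem_of_pow_mem_of_coprime W hk h3 h4

end Cfsg.Agent.S2781
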