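import Cfsg.Statements.S2788
import Cfsg.Agent.Lib.Helper2.Uq4
import Cfsg.Agent.Lib.Helper2.Uq6

set_option autoImplicit false
open Cfsg

namespace Cfsg.Agent.S2788

/-- Let H act faithfully by conjugation on the elementary abelian p-subgroup V of a finite group with H ≅ SL₂(F), F a field with p^n elements, S a Sylow p-subgroup of H, and A ≤ S a subgroup of order at least 3 acting quadratically on V ([V, A, A] = 1). Then |V/C_V(a)| ≥ p^n for every nonidentity a ∈ A. -/
theorem result {G : Type*} [Group G] [Finite G] {p : ℕ} [Fact p.Prime] (V H : Subgroup G) (hV : Cfsg.IsElementaryAbelian p V) (hHV : H ≤ Subgroup.normalizer (V : Set G)) (hf : H ⊓ Subgroup.centralizer (V : Set G) = ⊥) {F : Type*} [Field F] [Fintype F] (n : ℕ) (hF : Fintype.card F = p ^ n) (hiso : Nonempty (↥H ≃* Matrix.SpecialLinearGroup (Fin 2) F)) (S : Sylow p ↥H) (T : Subgroup G) (hT : T = ((S : Subgroup ↥H).map H.subtype)) (A : Subgroup G) (hA : A ≤ T) (hA3 : 3 ≤ Nat.card A) (hquad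 : ⁅⁅V, A⁆, A⁆ = ⊥) : ∀ a ∈ A, a ≠ 1 → p ^ n ≤ ((V ⊓ Subgroup.centralizer ({a} : Set G))).relIndex V := by
  classical
  intro a haA ha1
  have hp : p.Prime := Fact.out
  obtain ⟨φ⟩ := hiso
  have haT := hA haA
  rw [hT] at haT
  obtain ⟨a', ha'S, rfl⟩ := Subgroup.mem_map.mp haT
  have ha'1 : a' ≠ 1 := by
    rintro rfl
    exact ha1 rfl
  -- faithful action: nonidentity elements of `H` do not centralize `V`
  have hfaith : ∀ x : G, x ∈ H → x ≠ 1 → x ∉ Subgroup.centralizer (V : Set G) := by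
    intro x hxH hx1 hxc
    have : x ∈ H ⊓ Subgroup.centralizer (V : Set G) := Subgroup.mem_inf.mpr ⟨hxH, hxc⟩
    rw [hf] at this
    exact hx1 (Subgroup.mem_bot.mp this)
  have hn0 : n ≠ 0 := by
    rintro rfl
    rw [pow_zero] at hF
    have := Fintype.one_lt_card (α := F)
    omega
  by_cases hn1 : n = 1
  · subst hn1
    rw [pow_one]
    exact Cfsg.Agent.Lib.Helper2.Uq.prime_le_relIndex V hV.2 _
      (hfaith _ a'.2 (fun h => ha'1 (Subtype.ext h)))
  · have hn2 : 2 ≤ n := by omega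
    haveI : CharP F p := Cfsg.Agent.Lib.Helper2.Uq.charP_of_card_eq_prime_pow hF
    obtain ⟨r, e, h, hr, hrp, hodd, hordh, harith⟩ :=
      Cfsg.Agent.Lib.Helper2.Uq.exists_good (F := F) p n hF hn2
    obtain ⟨k, hk⟩ := S.isPGroup' ⟨a', ha'S⟩
    have hk' : a' ^ (p ^ k) = 1 := by
      have := congrArg Subtype.val hk
      simpa using this
    have hx1 : φ a' ≠ 1 := by
      intro h1
      apply ha'1
      exact φ.injective (by rw [h1, map_one])
    have hxp : (φ a') ^ (p ^ k) = 1 := by rw [← map_pow, hk', map_one]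
    have hm1 : r ^ (e + 1) ≠ 1 := by
      have : 1 < r ^ (e + 1) := Nat.one_lt_pow (by omega) hr.one_lt
      omega
    obtain ⟨g1, hg1⟩ := Cfsg.Agent.Lib.Helper2.Uq.exists_conj_sq_SL p (φ a') hx1 k hxp h
      (hodd.pow) hm1 hordh
    set gH : ↥H := φ.symm g1 with hgH
    set yH : ↥H := (a' * (gH * a' * gH⁻¹)) ^ 2 with hyH
    have hφy : φ yH = (φ a' * (g1 * φ a' * g1⁻¹)) ^ 2 := by
      rw [hyH, map_pow, map_mul, map_mul, map_mul, map_inv, hgH, MulEquiv.apply_symm_apply]
    have hordy : orderOf yH = r ^ (e + 1) := by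
      rw [← MulEquiv.orderOf_eq φ yH, hφy]; exact hg1
    have hordyG : orderOf (yH : G) = r ^ (e + 1) := by
      rw [Subgroup.orderOf_coe]; exact hordy
    have hyG : (yH : G) = ((a' : G) * ((gH : G) * (a' : G) * (gH : G)⁻¹)) ^ 2 := by
      rw [hyH]; simp
    apply Cfsg.Agent.Lib.Helper2.Uq.two_conj_bound V hV.2 n (a' : G) (gH : G) (yH : G)
      (hHV gH.2) (hHV yH.2) _ hr hrp hordyG _ harith
    · intro v h1 h2
      rw [hyG]
      exact (h1.mul_right h2).pow_right 2
    · apply hfaith _ (H.pow_mem yH.2 _)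
      apply pow_ne_one_of_lt_orderOf (pow_ne_zero _ hr.ne_zero)
      rw [hordyG]
      exact Nat.pow_lt_pow_right hr.one_lt (by omega)

end Cfsg.Agent.S2788
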