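import Cfsg.Statements.S2795
import Cfsg.Agent.Lib.Helper51.QdStab
import Cfsg.Agent.Lib.Helper51.QdNot
import Cfsg.Agent.Lib.Helper11.NormPStable
-- import your own Cfsg.Agent.* helpers here

set_option autoImplicit false
open Cfsg

namespace Cfsg.Agent.S2795

/-- For an odd prime p and a finite group G, the group Qd(p) is not involved in G if and only if every section of G is p-stable in the normalizer form (for every p-subgroup P of the section and every g in its normalizer acting quadratically on P, the image of g in N(P)/C(P) lies in O_p(N(P)/C(P))). -/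
theorem result {G : Type*} [Group G] [Finite G] {p : ℕ} [Fact p.Prime] (hp : p ≠ 2) : ¬ Cfsg.Involves ↥(Cfsg.qd p) G ↔ ∀ (K R : Subgroup G) [hR : (R.subgroupOf K).Normal], Cfsg.IsNormalizerPStable p (K ⧸ R.subgroupOf K) := by
  constructor
  · intro h K R hR
    apply Cfsg.Agent.Lib.Helper51.QdStab.isNormalizerPStable_qd hp
    intro hinv
    apply h
    exact Cfsg.Agent.Lib.Helper51.involves_of_injective K.subtype K.subtype_injective
      (Cfsg.Agent.Lib.Helper51.involves_of_surjective (QuotientGroup.mk' (R.subgroupOf K))
        (QuotientGroup.mk'_surjective _) hinv)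
  · intro h hinv
    obtain ⟨K, R, hn, ⟨e⟩⟩ := hinv
    have h1 := h K R
    have hker : (Nat.card e.toMonoidHom.ker).Coprime p := by
      have : e.toMonoidHom.ker = ⊥ := (MonoidHom.ker_eq_bot_iff _).mpr e.injective
      rw [this, Subgroup.card_bot]
      exact Nat.coprime_one_left p
    have h2 : Cfsg.IsNormalizerPStable p ↥(Cfsg.qdOver (ZMod p)) :=
      Cfsg.Agent.Lib.Helper11.isNormalizerPStable_map p e.toMonoidHom e.surjective hker h1
    exact Cfsg.Agent.Lib.Helper51.QdNot.not_isNormalizerPStable_qd p h2

end Cfsg.Agent.S2795
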