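import Cfsg.Statements.S2799
import Cfsg.Agent.S1973
import Cfsg.Agent.S1974
import Cfsg.Agent.Lib.Helper51.WcH
import Cfsg.Agent.Lib.Helper51.WcI

set_option autoImplicit false
open Cfsg

namespace Cfsg.Agent.S2799

/-- Let S be a Sylow p-subgroup of the finite group G, J(S) the subgroup generated by the abelian subgroups of S of largest order, and x an element of S lying in the centre of N_G(J(S)). Assume that p is odd, or that x is a p-th power of an element of Z(S), or that the symmetric group of degree 4 is not involved in G. Then x is weakly closed in S with respect to G: every G-conjugate of x that lies in S equals x. -/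
theorem result {G : Type*} [Group G] [Finite G] {p : ℕ} [Fact p.Prime] (S : Sylow p G) (x : G) (hxS : x ∈ (S : Subgroup G)) (hxZ : x ∈ (Subgroup.center ↥(Subgroup.normalizer ((Cfsg.thompsonSubgroupAOf (S : Subgroup G)) : Set G))).map (Subgroup.normalizer ((Cfsg.thompsonSubgroupAOf (S : Subgroup G)) : Set G)).subtype) (h : p ≠ 2 ∨ (∃ z ∈ (S : Subgroup G) ⊓ Subgroup.centralizer ((S : Subgroup G) : Set G), z ^ p = x) ∨ ¬ Cfsg.Involves (Equiv.Perm (Fin 4)) G) : ∀ g : G, g * x * g⁻¹ ∈ (S : Subgroup G) → g * x * g⁻¹ = x := by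
  intro g hg
  have hxC : x ∈ Subgroup.centralizer
      ((Subgroup.normalizer ((Cfsg.thompsonSubgroupAOf (S : Subgroup G)) : Set G) : Subgroup G) :
        Set G) := by
    obtain ⟨x', hx', hxx⟩ := hxZ
    rw [Subgroup.mem_centralizer_iff]
    intro y hy
    have h1 := Subgroup.mem_center_iff.mp hx' ⟨y, hy⟩
    have h2 := congrArg Subtype.val h1
    rw [← hxx]
    simpa using h2
  have hSi : ¬ p ∣ (S : Subgroup G).relIndex ⊤ := by
    rw [Subgroup.relIndex_top_right]; exact S.not_dvd_index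
  have hxC' : x ∈ (S : Subgroup G) ⊓ Subgroup.centralizer
      (((⊤ : Subgroup G) ⊓ Subgroup.normalizer
        ((Cfsg.thompsonSubgroupAOf (S : Subgroup G) : Subgroup G) : Set G) : Subgroup G) :
          Set G) := by
    refine ⟨hxS, ?_⟩
    rw [top_inf_eq]
    exact hxC
  by_cases hp2 : p = 2
  · subst hp2
    rcases h with h | ⟨z, hz, hzx⟩ | hS4
    · exact absurd rfl h
    · have h1 := (Cfsg.Agent.S1974.result S Cfsg.thompsonSubgroupAOf
        (Cfsg.Agent.Lib.Helper51.Wc.isConjugacyFunctor_thompsonAOf 2)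
        (fun P _ => Cfsg.Agent.Lib.Helper51.Wc.zIn_le_thompsonAOf P)
        (fun H T hTH hTp hTi hnot => Cfsg.Agent.Lib.Helper51.Wc.quad_hloc H T hTH hTp hTi hnot)
        _ rfl).1
      apply h1 x ⟨?_, hxC⟩ g hg
      apply Subgroup.subset_closure
      exact ⟨z, hz, hzx⟩
    · exact Cfsg.Agent.Lib.Helper51.Wc.main2 hS4 (Nat.card (⊤ : Subgroup G)) ⊤ rfl
        (S : Subgroup G) le_top S.isPGroup' hSi x hxC' g (Subgroup.mem_top g) hg
  · have hp3 : 3 ≤ p := by
      have h2 := (Fact.out : p.Prime).two_le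
      omega
    refine Cfsg.Agent.S1973.main Cfsg.thompsonSubgroupAOf
      (Cfsg.Agent.Lib.Helper51.Wc.isConjugacyFunctor_thompsonAOf p)
      (fun P _ => Cfsg.Agent.Lib.Helper51.Wc.zIn_le_thompsonAOf P) ?_
      (Nat.card (⊤ : Subgroup G)) ⊤ rfl (S : Subgroup G) le_top S.isPGroup' hSi x hxC' g
      (Subgroup.mem_top g) hg
    intro H T hTH hTp hTi hnot
    obtain ⟨g', hg'T, hg'Q, hquad⟩ := Cfsg.Agent.Lib.Helper51.Wc.quad_hloc H T hTH hTp hTi hnot
    refine ⟨g', hg'T, hg'Q, ?_⟩
    intro U V _ hUZ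
    rw [Cfsg.Agent.Lib.Helper51.Wc.iter_of_quad hp3 hUZ hquad]
    exact bot_le

end Cfsg.Agent.S2799
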