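import Cfsg.Statements.S2803
import Cfsg.Agent.Lib.Helper46.PReduced3

set_option autoImplicit false
open Cfsg
open Cfsg.Agent.Lib.Helper46

namespace Cfsg.Agent.S2803

open Cfsg.Agent.Lib.Helper46 in
theorem omegaOne_abelian_mem {L : Type*} [Group L] {p : ℕ} (Z : Subgroup L)
    (hZ : Z ≤ Subgroup.centralizer (Z : Set L)) :
    ∀ a ∈ Cfsg.omegaOne p Z, a ∈ Z ∧ a ^ p = 1 := by
  let K : Subgroup L :=
    { carrier := {a | a ∈ Z ∧ a ^ p = 1}
      one_mem' := ⟨Subgroup.one_mem _, one_pow _⟩
      mul_mem' := by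
        rintro a b ⟨ha, hap⟩ ⟨hb, hbp⟩
        refine ⟨Subgroup.mul_mem _ ha hb, ?_⟩
        have hc : Commute a b := by
          have := (Subgroup.mem_centralizer_iff.mp (hZ ha)) b hb
          exact this.symm
        rw [hc.mul_pow, hap, hbp, one_mul]
      inv_mem' := by
        rintro a ⟨ha, hap⟩
        refine ⟨Subgroup.inv_mem _ ha, ?_⟩
        rw [inv_pow, hap, inv_one] }
  have : Cfsg.omegaOne p Z ≤ K := by
    unfold Cfsg.omegaOne
    rw [Subgroup.closure_le]
    intro a ha
    exact ha
  intro a ha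
  exact this ha


/-- Let L be a finite group and p a prime with C_L(O_p(L)) ≤ O_p(L), T a Sylow p-subgroup, and Y the largest p-reduced normal subgroup of L. Put T_L = C_T(Y) and L_T = N_L(T_L). Then L = L_T · C_L(Y) (elementwise), T_L = O_p(L_T), and Y = Ω₁(Z(T_L)). -/
theorem result {L : Type*} [Group L] [Finite L] {p : ℕ} [Fact p.Prime] (hchar : Subgroup.centralizer (Cfsg.pCore p L : Set L) ≤ Cfsg.pCore p L) (T : Sylow p L) (Y : Subgroup L) (hY : (Cfsg.IsPReducedNormal p Y ∧ ∀ V : Subgroup L, Cfsg.IsPReducedNormal p V → V ≤ Y)) (TL : Subgroup L) (hTL : TL = (T : Subgroup L) ⊓ Subgroup.centralizer (Y : Set L)) : (∀ g : L, ∃ a ∈ Subgroup.normalizer (TL : Set L), ∃ c ∈ Subgroup.centralizer (Y : Set L), g = a * c) ∧ (Cfsg.pCore p ↥(Subgroup.normalizer (TL : Set L))).map (Subgroup.normalizer (TL : Set L)).subtype = TL ∧ Y = Cfsg.omegaOne p (TL ⊓ Subgroup.centralizer (TL : Set L)) := by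
  subst hTL
  obtain ⟨hYred, hYmax⟩ := hY
  have hYn : Y.Normal := hYred.1
  have hCn : (Subgroup.centralizer (Y : Set L)).Normal := Subgroup.normal_centralizer
  obtain ⟨_, hYea, hCn', hcore⟩ := hYred
  have hYred : Cfsg.IsPReducedNormal p Y := ⟨hYn, hYea, hCn', hcore⟩
  set C : Subgroup L := Subgroup.centralizer (Y : Set L) with hC
  set TL : Subgroup L := (T : Subgroup L) ⊓ C with hTLdef
  set M : Subgroup L := Subgroup.normalizer (TL : Set L) with hM
  have hfrat : ∀ g : L, ∃ a ∈ M, ∃ c ∈ C, g = a * c := fun g => frattini_inf_normal T C g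
  refine ⟨hfrat, ?_, ?_⟩
  · -- O_p(M) = TL
    have hTM : (T : Subgroup L) ≤ M := by
      intro t ht
      rw [hM, Subgroup.mem_normalizer_iff]
      intro x
      constructor
      · rintro ⟨hx1, hx2⟩
        exact ⟨Subgroup.mul_mem _ (Subgroup.mul_mem _ ht hx1) (Subgroup.inv_mem _ ht),
          hCn.conj_mem x hx2 t⟩
      · rintro ⟨hx1, hx2⟩
        have e : x = t⁻¹ * (t * x * t⁻¹) * t⁻¹⁻¹ := by group
        refine ⟨?_, ?_⟩
        · rw [e]
          exact Subgroup.mul_mem _ (Subgroup.mul_mem _ (Subgroup.inv_mem _ ht) hx1)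
            (Subgroup.inv_mem _ (Subgroup.inv_mem _ ht))
        · rw [e]
          exact hCn.conj_mem _ hx2 t⁻¹
    have hTLM : TL ≤ M := Subgroup.le_normalizer
    apply le_antisymm
    · intro x hx
      obtain ⟨q, hq, rfl⟩ := Subgroup.mem_map.mp hx
      have hqT : (q : L) ∈ (T : Subgroup L) := by
        have h1 : Cfsg.pCore p ↥M ≤ ((T.subtype hTM : Sylow p ↥M) : Subgroup ↥M) :=
          IsPGroup.le_sylow_of_normal (pCore_isPGroup p) _
        have h2 := h1 hq
        rw [Sylow.coe_subtype, Subgroup.mem_subgroupOf] at h2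
        exact h2
      refine ⟨hqT, ?_⟩
      -- image in L/C is a normal p-subgroup
      let π := QuotientGroup.mk' C
      have hπ : Function.Surjective π := QuotientGroup.mk'_surjective _
      let Q' : Subgroup L := (Cfsg.pCore p ↥M).map M.subtype
      have hQ'p : IsPGroup p (Q'.map π) := ((pCore_isPGroup p).map _).map _
      have hQ'n : (Q'.map π).Normal := by
        constructor
        intro n hn g
        obtain ⟨q', hq', rfl⟩ := Subgroup.mem_map.mp hn
        obtain ⟨g0, rfl⟩ := hπ g
        obtain ⟨a, ha, c, hc, rfl⟩ := hfrat g0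
        have hc1 : π c = 1 := (QuotientGroup.eq_one_iff _).mpr hc
        have : π (a * c) * π q' * (π (a * c))⁻¹ = π (a * q' * a⁻¹) := by
          rw [map_mul, hc1, mul_one, map_mul, map_mul, map_inv]
        rw [this]
        apply Subgroup.mem_map_of_mem
        obtain ⟨q'', hq'', rfl⟩ := Subgroup.mem_map.mp hq'
        have hnorm : (Cfsg.pCore p ↥M).Normal := Cfsg.pCore_normal p _
        have := hnorm.conj_mem q'' hq'' ⟨a, ha⟩
        exact Subgroup.mem_map.mpr ⟨_, this, rfl⟩
      have hbot := (pCore_eq_bot_iff p).mp hcore _ hQ'n hQ'p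
      have hmem : π (q : L) ∈ Q'.map π :=
        Subgroup.mem_map_of_mem _ (Subgroup.mem_map.mpr ⟨q, hq, rfl⟩)
      rw [hbot, Subgroup.mem_bot] at hmem
      exact (QuotientGroup.eq_one_iff _).mp hmem
    · intro x hx
      have hn : (TL.subgroupOf M).Normal := by
        rw [hM]; exact Subgroup.normal_in_normalizer
      have hp : IsPGroup p (TL.subgroupOf M) :=
        (T.isPGroup'.to_le inf_le_left).comap_subtype
      have hle := le_pCore p _ hn hp
      have hxm : (⟨x, hTLM hx⟩ : ↥M) ∈ TL.subgroupOf M := by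
        rw [Subgroup.mem_subgroupOf]; exact hx
      exact Subgroup.mem_map.mpr ⟨_, hle hxm, rfl⟩
  · -- Y = Ω₁ Z(TL)
    set Z : Subgroup L := TL ⊓ Subgroup.centralizer (TL : Set L) with hZ
    have hZab : Z ≤ Subgroup.centralizer (Z : Set L) := by
      intro a ha
      exact (Subgroup.centralizer_le (s := (Z : Set L)) (t := (TL : Set L))
        (fun x hx => hx.1)) ha.2
    have hYT : Y ≤ (T : Subgroup L) := IsPGroup.le_sylow_of_normal (isPGroup_of_elemAb hYea) T
    have hYC : Y ≤ C := Subgroup.le_centralizer_iff_isMulCommutative.mpr hYea.1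
    have hYcTL : Y ≤ Subgroup.centralizer (TL : Set L) := by
      rw [Subgroup.le_centralizer_iff]
      exact inf_le_right
    have hYY' : Y ≤ Cfsg.omegaOne p Z := by
      intro y hy
      unfold Cfsg.omegaOne
      exact Subgroup.subset_closure ⟨⟨⟨hYT hy, hYC hy⟩, hYcTL hy⟩, hYea.2 y hy⟩
    apply le_antisymm hYY'
    set Y' : Subgroup L := Cfsg.omegaOne p Z with hY'
    have hY'mem := omegaOne_abelian_mem (p := p) Z hZab
    have hY'Z : Y' ≤ Z := fun a ha => (hY'mem a ha).1
    have hQTL : Cfsg.pCore p L ≤ TL := by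
      refine le_inf (pCore_le_sylow T) ?_
      exact normal_pGroup_le_centralizer hYred _ (Cfsg.pCore_normal p L) (pCore_isPGroup p)
    have hred : Cfsg.IsPReducedNormal p (Subgroup.normalClosure (Y' : Set L)) := by
      apply pReduced_normalClosure_of T Y'
      · have h1 : Y' ≤ Subgroup.centralizer (Cfsg.pCore p L : Set L) := by
          intro a ha
          exact (Subgroup.centralizer_le (s := (Cfsg.pCore p L : Set L)) (t := (TL : Set L))
            hQTL) (hY'Z ha).2
        exact le_inf (h1.trans hchar) h1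
      · exact fun a ha => (hY'mem a ha).2
      · intro D hD hCD hDp
        have hCC : Subgroup.centralizer ((Subgroup.normalClosure (Y' : Set L) : Subgroup L) : Set L) ≤ C := by
          apply Subgroup.centralizer_le
          exact hYY'.trans Subgroup.le_normalClosure
        have hDC : D ≤ C := by
          refine le_of_pCore_quot_eq_bot C hcore D hD ?_
          intro d hd
          obtain ⟨k, hk⟩ := hDp d hd
          exact ⟨k, hCC hk⟩
        intro d hd
        have hdTL : d ∈ TL := ⟨hd.2, hDC hd.1⟩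
        have : TL ≤ Subgroup.centralizer (Y' : Set L) := by
          rw [Subgroup.le_centralizer_iff]
          exact fun a ha => (hY'Z ha).2
        exact this hdTL
    exact Subgroup.le_normalClosure.trans (hYmax _ hred)

end Cfsg.Agent.S2803
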