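import Cfsg.Statements.S2807
import Cfsg.Agent.Lib.Helper34.YoshidaMain

set_option autoImplicit false
open Cfsg

namespace Cfsg.Agent.S2807

/-- Let S be a Sylow p-subgroup of the finite group G. If S ∩ G' ≠ S ∩ (N_G(S))' (derived subgroups), then the wreath product Z_p ≀ Z_p — realised as a Sylow p-subgroup of the symmetric group of degree p² — is a homomorphic image of S. -/
theorem result {G : Type*} [Group G] [Finite G] {p : ℕ} [Fact p.Prime] (S : Sylow p G) (h : (S : Subgroup G) ⊓ commutator G ≠ (S : Subgroup G) ⊓ ⁅Subgroup.normalizer ((S : Subgroup G) : Set G), Subgroup.normalizer ((S : Subgroup G) : Set G)⁆) : ∃ (P : Sylow p (Equiv.Perm (Fin (p ^ 2)))) (f : ↥(S : Subgroup G) →* ↥(P : Subgroup (Equiv.Perm (Fin (p ^ 2))))), Function.Surjective f := by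
  by_contra hno
  apply h
  have hno' : Cfsg.Agent.Lib.Helper34.Yoshida.NoWreath p ↥(S : Subgroup G) := hno
  have hle : (S : Subgroup G) ≤ Subgroup.normalizer ((S : Subgroup G) : Set G) :=
    Subgroup.le_normalizer
  have hP : IsPGroup p ↥(S : Subgroup G) := S.isPGroup'
  have hidx : ¬ p ∣ (S : Subgroup G).index := S.not_dvd_index
  apply le_antisymm
  · intro u hu
    obtain ⟨huS, huc⟩ := hu
    refine ⟨huS, ?_⟩
    have key := Cfsg.Agent.Lib.Helper34.Yoshida.yoshida_core (S : Subgroup G) hP hidx hno'
      ((Abelianization.of :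
        ↥(Subgroup.normalizer ((S : Subgroup G) : Set G)) →*
          Abelianization ↥(Subgroup.normalizer ((S : Subgroup G) : Set G))).comp
        (Subgroup.inclusion hle)) ?_ u huS huc
    · rw [MonoidHom.comp_apply, ← MonoidHom.mem_ker, Abelianization.ker_of] at key
      rw [← Subgroup.map_subtype_commutator]
      exact ⟨_, key, rfl⟩
    · intro n hn u hu hu'
      rw [MonoidHom.comp_apply, MonoidHom.comp_apply]
      have e : Subgroup.inclusion hle ⟨n⁻¹ * u * n, hu'⟩ =
          (⟨n, hn⟩ : ↥(Subgroup.normalizer ((S : Subgroup G) : Set G)))⁻¹ *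
            Subgroup.inclusion hle ⟨u, hu⟩ * ⟨n, hn⟩ := by
        apply Subtype.ext
        rfl
      rw [e, map_mul, map_mul, map_inv, mul_comm, mul_inv_cancel_left]
  · intro u hu
    obtain ⟨huS, huc⟩ := hu
    refine ⟨huS, ?_⟩
    rw [commutator_def]
    exact Subgroup.commutator_mono le_top le_top huc

end Cfsg.Agent.S2807
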