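import Cfsg.Statements.S2810
import Cfsg.Agent.S2809
import Cfsg.Agent.Lib.Helper47.Basic

set_option autoImplicit false
open Cfsg
open scoped commutatorElement

namespace Cfsg.Agent.S2810

variable {H : Type*} [Group H]

/-- the elements `g` with `[A, g] ≤ B`, for normal `A`, `B` -/
def commKernel (A B : Subgroup H) [hA : A.Normal] [hB : B.Normal] : Subgroup H where
  carrier := {g | ∀ a ∈ A, ⁅a, g⁆ ∈ B}
  one_mem' := by
    intro a _
    simp [commutatorElement_def]
  mul_mem' := by
    intro g h hg hh a ha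
    have : ⁅a, g * h⁆ = ⁅a, g⁆ * (g * ⁅a, h⁆ * g⁻¹) := by
      simp only [commutatorElement_def]; group
    rw [this]
    exact mul_mem (hg a ha) (hB.conj_mem _ (hh a ha) g)
  inv_mem' := by
    intro g hg a ha
    have : ⁅a, g⁻¹⁆ = g⁻¹ * (⁅a, g⁆)⁻¹ * g⁻¹⁻¹ := by
      simp only [commutatorElement_def]; group
    rw [this]
    exact hB.conj_mem _ (inv_mem (hg a ha)) g⁻¹

instance commKernel_normal (A B : Subgroup H) [hA : A.Normal] [hB : B.Normal] :
    (commKernel A B).Normal := by
  constructor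
  intro g hg h a ha
  have : ⁅a, h * g * h⁻¹⁆ = h * ⁅h⁻¹ * a * h⁻¹⁻¹, g⁆ * h⁻¹ := by
    simp only [commutatorElement_def]; group
  rw [this]
  exact hB.conj_mem _ (hg _ (hA.conj_mem a ha h⁻¹)) h

theorem commutator_normalClosure_le (A B L : Subgroup H) [hA : A.Normal] [hB : B.Normal]
    (h : ⁅A, L⁆ ≤ B) : ⁅A, Subgroup.normalClosure (L : Set H)⁆ ≤ B := by
  have h1 : (L : Set H) ⊆ (commKernel A B : Set H) := by
    intro g hg a ha
    exact h (Subgroup.commutator_mem_commutator ha hg)
  have h2 : Subgroup.normalClosure (L : Set H) ≤ commKernel A B :=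
    Subgroup.normalClosure_le_normal h1
  rw [Subgroup.commutator_le]
  intro a ha g hg
  exact h2 hg a ha

/-- Let H be a finite group of characteristic p and L a subgroup of H centralizing every factor of some H-invariant chain 1 = A₀ ≤ A₁ ≤ … ≤ Aₙ = O_p(H) of normal subgroups (that is, [A_{i+1}, L] ≤ Aᵢ for each i). Then L ≤ O_p(H). -/
theorem result {H : Type*} [Group H] [Finite H] {p : ℕ} [Fact p.Prime] (hchar : Subgroup.centralizer (Cfsg.pCore p H : Set H) ≤ Cfsg.pCore p H) (L : Subgroup H) (n : ℕ) (A : Fin (n + 1) → Subgroup H) (h0 : A 0 = ⊥) (hn : A (Fin.last n) = Cfsg.pCore p H) (hmono : Monotone A) (hnorm : ∀ i, (A i).Normal) (hcent : ∀ i : Fin n, ⁅A i.succ, L⁆ ≤ A i.castSucc) : L ≤ Cfsg.pCore p H := by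
  set N := Subgroup.normalClosure (L : Set H) with hN
  have hcentN : ∀ i : Fin n, ⁅A i.succ, N⁆ ≤ A i.castSucc := by
    intro i
    haveI := hnorm i.succ
    haveI := hnorm i.castSucc
    exact commutator_normalClosure_le _ _ L (hcent i)
  have hchain : ∀ i : Fin (n + 1), Cfsg.iterCommutator (Cfsg.pCore p H) N (n - (i : ℕ)) ≤ A i := by
    intro i
    induction i using Fin.reverseInduction with
    | last =>
      simp only [Fin.val_last, Nat.sub_self]
      rw [hn]
      exact le_of_eq rfl
    | cast i ih =>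
      have hidx : n - ((i.castSucc : Fin (n + 1)) : ℕ) = (n - ((i.succ : Fin (n + 1)) : ℕ)) + 1 := by
        have := i.2
        simp only [Fin.val_castSucc, Fin.val_succ]
        omega
      rw [hidx]
      show ⁅Cfsg.iterCommutator (Cfsg.pCore p H) N (n - ((i.succ : Fin (n + 1)) : ℕ)), N⁆ ≤ A i.castSucc
      exact le_trans (Subgroup.commutator_mono ih le_rfl) (hcentN i)
  have hbot : Cfsg.iterCommutator (Cfsg.pCore p H) N n = ⊥ := by
    have := hchain 0
    simp only [Fin.val_zero, Nat.sub_zero, h0] at this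
    exact le_bot_iff.mp this
  have hNnorm : N ≤ Subgroup.normalizer ((Cfsg.pCore p H : Subgroup H) : Set H) := by
    rw [Subgroup.normalizer_eq_top]
    exact le_top
  have hNp : IsPGroup p ↥N :=
    Cfsg.Agent.S2809.result (Cfsg.pCore p H) (Cfsg.Agent.Lib.Helper47.pCore_isPGroup p H) hchar N hNnorm ⟨n, hbot⟩
  have hNle : N ≤ Cfsg.pCore p H :=
    Cfsg.Agent.Lib.Helper47.le_pCore (Subgroup.normalClosure_normal) hNp
  exact le_trans Subgroup.le_normalClosure hNle

end Cfsg.Agent.S2810
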