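import Cfsg.Statements.S2813
import Cfsg.Agent.Lib.Helper47.Basic

set_option autoImplicit false
open Cfsg
open scoped commutatorElement

namespace Cfsg.Agent.S2813

variable {H : Type*} [Group H]

theorem mul_pow_of_comm {c y : H} (h : y * c * y⁻¹ = c) (m : ℕ) : (c * y) ^ m = c ^ m * y ^ m := by
  have hc : Commute c y := by
    show c * y = y * c
    calc c * y = (y * c * y⁻¹) * y := by rw [h]
      _ = y * c := by group
  exact hc.mul_pow m

/-- Let K be a subgroup of the finite group H with O_p(K) = 1 and Y a p-subgroup of N_H(K) with [K, Y, Y] = 1. Then [K, Y] = 1. -/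
theorem result {H : Type*} [Group H] [Finite H] {p : ℕ} [Fact p.Prime] (K : Subgroup H) (hO : Cfsg.pCore p ↥K = ⊥) (Y : Subgroup H) (hY : IsPGroup p ↥Y) (hYK : Y ≤ Subgroup.normalizer (K : Set H)) (hq : ⁅⁅K, Y⁆, Y⁆ = ⊥) : ⁅K, Y⁆ = ⊥ := by
  set A := ⁅K, Y⁆ with hA
  have hAK : A ≤ K := Subgroup.le_normalizer_iff_commutator_le_left.mp hYK
  have hKA : K ≤ Subgroup.normalizer (A : Set H) := Subgroup.normalizer_commutator_ge_left K Y
  have hYc : ∀ a ∈ A, ∀ y ∈ Y, y * a * y⁻¹ = a := by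
    intro a ha y hy
    have h1 : A ≤ Subgroup.centralizer (Y : Set H) :=
      Subgroup.commutator_eq_bot_iff_le_centralizer.mp hq
    have h2 := h1 ha
    rw [Subgroup.mem_centralizer_iff] at h2
    have := h2 y hy
    calc y * a * y⁻¹ = a * y * y⁻¹ := by rw [this]
      _ = a := by group
  -- generators of A centralize A
  have hgen : ∀ x ∈ K, ∀ y ∈ Y, ∀ n ∈ A, ⁅x, y⁆ * n * (⁅x, y⁆)⁻¹ = n := by
    intro x hx y hy n hn
    have h1 : x⁻¹ * n * x⁻¹⁻¹ ∈ A := by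
      have := Subgroup.le_normalizer_iff.mp hKA x⁻¹ (inv_mem hx) n hn
      exact this
    have h2 : y * (x⁻¹ * n * x⁻¹⁻¹) * y⁻¹ = x⁻¹ * n * x⁻¹⁻¹ := hYc _ h1 y hy
    have h3 : y⁻¹ * n * y⁻¹⁻¹ = n := hYc n hn y⁻¹ (inv_mem hy)
    calc ⁅x, y⁆ * n * (⁅x, y⁆)⁻¹
        = x * (y * (x⁻¹ * (y⁻¹ * n * y⁻¹⁻¹) * x⁻¹⁻¹) * y⁻¹) * x⁻¹ := by
          simp only [commutatorElement_def]; group
      _ = x * (y * (x⁻¹ * n * x⁻¹⁻¹) * y⁻¹) * x⁻¹ := by rw [h3]
      _ = x * (x⁻¹ * n * x⁻¹⁻¹) * x⁻¹ := by rw [h2]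
      _ = n := by group
  have hAcomm : A ≤ Subgroup.centralizer (A : Set H) := by
    rw [hA, Subgroup.commutator_le]
    intro x hx y hy
    rw [Subgroup.mem_centralizer_iff]
    intro n hn
    have := hgen x hx y hy n hn
    calc n * ⁅x, y⁆ = (⁅x, y⁆ * n * (⁅x, y⁆)⁻¹) * ⁅x, y⁆ := by rw [this]
      _ = ⁅x, y⁆ * n := by group
  -- generators are p-elements
  have hgenp : ∀ x ∈ K, ∀ y ∈ Y, ∃ k : ℕ, (⁅x, y⁆) ^ (p ^ k) = 1 := by
    intro x hx y hy
    obtain ⟨k, hk⟩ := hY ⟨y, hy⟩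
    have hk' : y ^ (p ^ k) = 1 := by
      have := congrArg Subtype.val hk
      simpa using this
    refine ⟨k, ?_⟩
    have hc : ⁅x, y⁆ ∈ A := Subgroup.commutator_mem_commutator hx hy
    have h1 : y * ⁅x, y⁆ * y⁻¹ = ⁅x, y⁆ := hYc _ hc y hy
    have h2 : x * y * x⁻¹ = ⁅x, y⁆ * y := by
      simp only [commutatorElement_def]; group
    have h3 : (x * y * x⁻¹) ^ (p ^ k) = 1 := by
      rw [conj_pow, hk']; group
    rw [h2, mul_pow_of_comm h1, hk', mul_one] at h3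
    exact h3
  have hAp : ∀ a ∈ A, ∃ k : ℕ, a ^ (p ^ k) = 1 := by
    intro a ha
    have ha' : a ∈ Subgroup.closure {g | ∃ g₁ ∈ K, ∃ g₂ ∈ Y, ⁅g₁, g₂⁆ = g} := ha
    clear ha
    induction ha' using Subgroup.closure_induction with
    | mem g hg =>
      obtain ⟨x, hx, y, hy, rfl⟩ := hg
      exact hgenp x hx y hy
    | one => exact ⟨0, by simp⟩
    | mul a b ha hb iha ihb =>
      obtain ⟨k1, h1⟩ := iha
      obtain ⟨k2, h2⟩ := ihb
      have hab : Commute a b := by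
        have := hAcomm hb
        rw [Subgroup.mem_centralizer_iff] at this
        exact this a ha
      refine ⟨k1 + k2, ?_⟩
      rw [hab.mul_pow]
      have e1 : a ^ (p ^ (k1 + k2)) = 1 := by
        rw [pow_add, pow_mul, h1, one_pow]
      have e2 : b ^ (p ^ (k1 + k2)) = 1 := by
        rw [pow_add, mul_comm, pow_mul, h2, one_pow]
      rw [e1, e2, one_mul]
    | inv a ha iha =>
      obtain ⟨k, hk⟩ := iha
      exact ⟨k, by rw [inv_pow, hk, inv_one]⟩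
  -- A.subgroupOf K is a normal p-subgroup of K
  have hsubp : IsPGroup p ↥(A.subgroupOf K) := by
    intro ⟨⟨a, haK⟩, ha⟩
    rw [Subgroup.mem_subgroupOf] at ha
    obtain ⟨k, hk⟩ := hAp a ha
    refine ⟨k, ?_⟩
    apply Subtype.ext
    apply Subtype.ext
    simpa using hk
  have hsubn : (A.subgroupOf K).Normal := Subgroup.normal_subgroupOf_of_le_normalizer hKA
  have hle : A.subgroupOf K ≤ Cfsg.pCore p ↥K := Cfsg.Agent.Lib.Helper47.le_pCore hsubn hsubp
  rw [hO, le_bot_iff] at hle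
  rw [Subgroup.subgroupOf_eq_bot] at hle
  exact disjoint_of_le_iff_left_eq_bot hAK |>.mp hle

end Cfsg.Agent.S2813
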