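import Cfsg.Statements.S2814
import Cfsg.Agent.Lib.Helper30.SubnormalClosure

set_option autoImplicit false
open Cfsg

namespace Cfsg.Agent.S2814

open scoped commutatorElement

open Cfsg.Agent.Lib.Helper30 Cfsg.Agent.Lib.Helper2 in
/-- Let A be a subgroup of the finite group H and K the subnormal closure of A (intersection of the subnormal subgroups containing A). Then K is the normal closure of A inside K and N_H(A) ≤ N_H(K); K = A·O^p(K), O^p(K) being generated by the elements of K of order prime to p; and if A is a p-group, O^p(K) = [O^p(K), A]. -/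
theorem result {H : Type*} [Group H] [Finite H] {p : ℕ} [Fact p.Prime] (A : Subgroup H) (K : Subgroup H) (hK : K = Cfsg.subnormalClosure A) : (Subgroup.normalClosure ((A.subgroupOf K : Subgroup ↥K) : Set ↥K)).map K.subtype = K ∧ Subgroup.normalizer (A : Set H) ≤ Subgroup.normalizer (K : Set H) ∧ A ⊔ (Cfsg.pResidual p ↥K).map K.subtype = K ∧ (IsPGroup p ↥A → ⁅(Cfsg.pResidual p ↥K).map K.subtype, A⁆ = (Cfsg.pResidual p ↥K).map K.subtype) := by
  subst hK
  set K : Subgroup H := Cfsg.subnormalClosure A with hKdef
  have hAK : A ≤ K := (subnormalClosure_mem A).1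
  have hKsn : K.IsSubnormal := (subnormalClosure_mem A).2
  -- general principle: a subgroup L' of ↥K, subnormal in ↥K, whose image contains A, is everything
  have key : ∀ L' : Subgroup ↥K, L'.IsSubnormal → A ≤ L'.map K.subtype → L'.map K.subtype = K := by
    intro L' hL' hAL'
    apply eq_subnormalClosure_of_normal hAL' (Subgroup.map_subtype_le L')
    have : (L'.map K.subtype).subgroupOf K = L' := by
      ext x
      rw [Subgroup.mem_subgroupOf]
      constructor
      · rintro ⟨y, hy, hyx⟩
        have : y = x := Subtype.ext hyx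
        rwa [← this]
      · intro hx
        exact ⟨x, hx, rfl⟩
    rw [this]
    exact hL'
  have hAsub : ∀ L' : Subgroup ↥K, A.subgroupOf K ≤ L' → A ≤ L'.map K.subtype := by
    intro L' h a ha
    exact ⟨⟨a, hAK ha⟩, h (by rw [Subgroup.mem_subgroupOf]; exact ha), rfl⟩
  have hRn : (Cfsg.pResidual p ↥K).Normal := pResidual_normal p
  -- part 3 first
  have part3 : A ⊔ (Cfsg.pResidual p ↥K).map K.subtype = K := by
    have hQ : IsPGroup p (↥K ⧸ Cfsg.pResidual p ↥K) := isPGroup_quotient_pResidual p
    have hnil : Group.IsNilpotent (↥K ⧸ Cfsg.pResidual p ↥K) := hQ.isNilpotent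
    set L' : Subgroup ↥K := A.subgroupOf K ⊔ Cfsg.pResidual p ↥K with hL'
    have hsn : L'.IsSubnormal := by
      have h1 : (L'.map (QuotientGroup.mk' (Cfsg.pResidual p ↥K))).IsSubnormal :=
        isSubnormal_of_isNilpotent _ _ rfl
      have h2 := h1.comap (QuotientGroup.mk' (Cfsg.pResidual p ↥K))
      have h3 : (L'.map (QuotientGroup.mk' (Cfsg.pResidual p ↥K))).comap
          (QuotientGroup.mk' (Cfsg.pResidual p ↥K)) = L' := by
        rw [Subgroup.comap_map_eq, QuotientGroup.ker_mk']
        exact sup_eq_left.mpr le_sup_right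
      rwa [h3] at h2
    have h4 := key L' hsn (hAsub L' le_sup_left)
    rw [hL', Subgroup.map_sup, Subgroup.subgroupOf_map_subtype, inf_eq_left.mpr hAK] at h4
    exact h4
  refine ⟨?_, ?_, part3, ?_⟩
  · -- part 1
    apply key _ (Subgroup.normalClosure_normal).isSubnormal
    exact hAsub _ Subgroup.subset_normalClosure
  · -- part 2
    intro g hg
    have hconj : ∀ g : H, g ∈ Subgroup.normalizer (A : Set H) →
        K ≤ K.map (MulAut.conj g).toMonoidHom := by
      intro g hg
      apply subnormalClosure_le
      · intro a ha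
        rw [Cfsg.Agent.Lib.Helper30.mem_map_conj_iff]
        apply hAK
        have hg' : g⁻¹ ∈ Subgroup.normalizer (A : Set H) := inv_mem hg
        have := (Subgroup.mem_normalizer_iff.mp hg' a).mp ha
        rwa [inv_inv] at this
      · exact hKsn.map (MulAut.conj g).surjective
    rw [Subgroup.mem_normalizer_iff]
    intro k
    constructor
    · intro hk
      have h1 := hconj g⁻¹ (inv_mem hg) hk
      rw [Cfsg.Agent.Lib.Helper30.mem_map_conj_iff, inv_inv] at h1
      exact h1
    · intro hk
      have h1 := hconj g hg hk
      exact conj_mem_map_conj_iff.mp h1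
  · -- part 4
    intro hAp
    set R : Subgroup H := (Cfsg.pResidual p ↥K).map K.subtype with hR
    have hRK : R ≤ K := Subgroup.map_subtype_le _
    -- K normalizes R
    have hKR : ∀ k ∈ K, ∀ r ∈ R, k * r * k⁻¹ ∈ R := by
      rintro k hk _ ⟨r, hr, rfl⟩
      exact ⟨⟨k, hk⟩ * r * ⟨k, hk⟩⁻¹, hRn.conj_mem r hr ⟨k, hk⟩, by simp⟩
    apply le_antisymm
    · rw [Subgroup.commutator_le]
      intro r hr a ha
      have h1 : a * r⁻¹ * a⁻¹ ∈ R := hKR a (hAK ha) r⁻¹ (R.inv_mem hr)
      have h2 : ⁅r, a⁆ = r * (a * r⁻¹ * a⁻¹) := by rw [commutatorElement_def]; group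
      rw [h2]
      exact R.mul_mem hr h1
    · set C : Subgroup H := ⁅R, A⁆ with hC
      have hCR : C ≤ R := by
        rw [hC, Subgroup.commutator_le]
        intro r hr a ha
        have h1 : a * r⁻¹ * a⁻¹ ∈ R := hKR a (hAK ha) r⁻¹ (R.inv_mem hr)
        have h2 : ⁅r, a⁆ = r * (a * r⁻¹ * a⁻¹) := by rw [commutatorElement_def]; group
        rw [h2]
        exact R.mul_mem hr h1
      have hnR : R ≤ Subgroup.normalizer (C : Set H) := Subgroup.normalizer_commutator_ge_left R A
      have hnA : A ≤ Subgroup.normalizer (C : Set H) := Subgroup.normalizer_commutator_ge_right R A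
      have hnK : K ≤ Subgroup.normalizer (C : Set H) := by
        rw [← part3]; exact sup_le hnA hnR
      -- L = A ⊔ C is normalized by K
      have hLK : A ⊔ C ≤ K := sup_le hAK (hCR.trans hRK)
      have hnL : K ≤ Subgroup.normalizer ((A ⊔ C : Subgroup H) : Set H) := by
        rw [← part3]
        apply sup_le
        · intro a ha
          have h1 : a ∈ Subgroup.normalizer (A : Set H) := Subgroup.le_normalizer ha
          rw [Subgroup.mem_normalizer_iff]
          have hsub : ∀ b : H, b ∈ Subgroup.normalizer (A : Set H) →
              b ∈ Subgroup.normalizer (C : Set H) → ∀ x ∈ A ⊔ C, b * x * b⁻¹ ∈ A ⊔ C := by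
            intro b hbA hbC x hx
            have : A ⊔ C ≤ (A ⊔ C).comap (MulAut.conj b).toMonoidHom := by
              apply sup_le
              · intro y hy
                rw [Subgroup.mem_comap]
                exact Subgroup.mem_sup_left ((Subgroup.mem_normalizer_iff.mp hbA y).mp hy)
              · intro y hy
                rw [Subgroup.mem_comap]
                exact Subgroup.mem_sup_right ((Subgroup.mem_normalizer_iff.mp hbC y).mp hy)
            exact this hx
          intro x
          constructor
          · exact hsub a h1 (hnA ha) x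
          · intro hx
            have := hsub a⁻¹ (inv_mem h1) (inv_mem (hnA ha)) _ hx
            have h2 : a⁻¹ * (a * x * a⁻¹) * a⁻¹⁻¹ = x := by group
            rwa [h2] at this
        · intro r hr
          have hsub : ∀ s ∈ R, ∀ x ∈ A ⊔ C, s * x * s⁻¹ ∈ A ⊔ C := by
            intro s hs x hx
            have : A ⊔ C ≤ (A ⊔ C).comap (MulAut.conj s).toMonoidHom := by
              apply sup_le
              · intro y hy
                rw [Subgroup.mem_comap]
                have h2 : (MulAut.conj s).toMonoidHom y = ⁅s, y⁆ * y := by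
                  rw [commutatorElement_def]; simp [MulAut.conj_apply]
                rw [h2]
                exact Subgroup.mul_mem _
                  (Subgroup.mem_sup_right (Subgroup.commutator_mem_commutator hs hy))
                  (Subgroup.mem_sup_left hy)
              · intro y hy
                rw [Subgroup.mem_comap]
                exact Subgroup.mem_sup_right ((Subgroup.mem_normalizer_iff.mp (hnR hs) y).mp hy)
            exact this hx
          rw [Subgroup.mem_normalizer_iff]
          intro x
          constructor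
          · exact hsub r hr x
          · intro hx
            have := hsub r⁻¹ (R.inv_mem hr) _ hx
            have h2 : r⁻¹ * (r * x * r⁻¹) * r⁻¹⁻¹ = x := by group
            rwa [h2] at this
      have hLn : ((A ⊔ C).subgroupOf K).Normal :=
        (Subgroup.normal_subgroupOf_iff_le_normalizer hLK).mpr hnL
      have hLeq : A ⊔ C = K := by
        have := key ((A ⊔ C).subgroupOf K) hLn.isSubnormal
          (by rw [Subgroup.map_subgroupOf_eq_of_le hLK]; exact le_sup_left)
        rwa [Subgroup.map_subgroupOf_eq_of_le hLK] at this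
      -- K / C is a p-group
      have hCn : (C.subgroupOf K).Normal :=
        (Subgroup.normal_subgroupOf_iff_le_normalizer (hCR.trans hRK)).mpr hnK
      have hQ : IsPGroup p (↥K ⧸ C.subgroupOf K) := by
        intro q
        obtain ⟨k, rfl⟩ := QuotientGroup.mk_surjective q
        have hk : (k : H) ∈ (↑(A ⊔ C) : Set H) := by rw [hLeq]; exact k.2
        rw [Subgroup.coe_mul_of_left_le_normalizer_right A C hnA] at hk
        obtain ⟨a, ha, c, hc, hac⟩ := hk
        obtain ⟨m, hm⟩ := hAp ⟨a, ha⟩
        refine ⟨m, ?_⟩
        have hk' : k = ⟨a, hAK ha⟩ * ⟨c, (hCR.trans hRK) hc⟩ := Subtype.ext hac.symm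
        have hc1 : ((⟨c, (hCR.trans hRK) hc⟩ : ↥K) : ↥K ⧸ C.subgroupOf K) = 1 := by
          rw [QuotientGroup.eq_one_iff, Subgroup.mem_subgroupOf]; exact hc
        rw [hk', QuotientGroup.mk_mul, hc1, mul_one, ← QuotientGroup.mk_pow,
          QuotientGroup.eq_one_iff, Subgroup.mem_subgroupOf]
        have : (((⟨a, hAK ha⟩ : ↥K) ^ p ^ m : ↥K) : H) = 1 := by
          have h5 := congrArg Subtype.val hm
          simpa using h5
        rw [this]; exact C.one_mem
      have h6 := pResidual_le_of_isPGroup_quotient (C.subgroupOf K) hQ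
      have h7 := Subgroup.map_mono (f := K.subtype) h6
      rw [Subgroup.map_subgroupOf_eq_of_le (hCR.trans hRK)] at h7
      exact h7

end Cfsg.Agent.S2814
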