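import Cfsg.Statements.S2816
import Cfsg.Agent.Lib.Helper22.FStarP

set_option autoImplicit false
open Cfsg

namespace Cfsg.Agent.S2816

/-- Let H be a finite group and p a prime with O_p(H) = 1, and Y a p-subgroup of H. Then for every subnormal subgroup K of H containing Y, [F*(H), Y] = [F*(K), Y] = [F*(K), Y, Y]; and if Y₀ ≤ Y with [F*(H), Y, Y₀] = 1 then Y₀ = 1 (in particular [F*(H), Y] = 1 forces Y = 1). -/
theorem result {H : Type*} [Group H] [Finite H] {p : ℕ} [Fact p.Prime] (hO : Cfsg.pCore p H = ⊥) (Y : Subgroup H) (hY : IsPGroup p ↥Y) : (∀ K : Subgroup H, K.IsSubnormal → Y ≤ K → ⁅Cfsg.generalizedFittingSubgroup H, Y⁆ = ⁅(Cfsg.generalizedFittingSubgroup ↥K).map K.subtype, Y⁆ ∧ ⁅(Cfsg.generalizedFittingSubgroup ↥K).map K.subtype, Y⁆ = ⁅⁅(Cfsg.generalizedFittingSubgroup ↥K).map K.subtype, Y⁆, Y⁆) ∧ (∀ Y₀ : Subgroup H, Y₀ ≤ Y → ⁅⁅Cfsg.generalizedFittingSubgroup H, Y⁆, Y₀⁆ = ⊥ → Y₀ = ⊥) := by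
  open Cfsg.Agent.Lib.Helper22 in
  open Cfsg.Agent.Lib.Helper33 in
  refine ⟨?_, ?_⟩
  · intro K hK hYK
    have hn : (Cfsg.generalizedFittingSubgroup H).Normal := generalizedFittingSubgroup_normal H
    have hLeq := generalizedFitting_inf_subnormal hK
    rw [← hLeq]
    have hLsn : (Cfsg.generalizedFittingSubgroup H ⊓ K).IsSubnormal := hn.isSubnormal.inf hK
    have hKL : K ≤ Subgroup.normalizer ((Cfsg.generalizedFittingSubgroup H ⊓ K : Subgroup H) : Set H) := by
      intro k hk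
      rw [← cj_eq_self_iff, cj_inf, cj_eq_self_of_mem hk]
      congr 1
      rw [cj_eq_self_iff, Subgroup.normalizer_eq_top]
      exact Subgroup.mem_top k
    have h2 := (commutator_eq_of_subnormal_le_generalizedFitting' hO Y hY _ inf_le_left hLsn
      (hYK.trans hKL)).2
    refine ⟨?_, h2⟩
    apply le_antisymm
    · have hM := commutator_generalizedFitting_eq hO Y hY
      have hMK : ⁅Cfsg.generalizedFittingSubgroup H, Y⁆ ≤ K :=
        le_of_eq_commutator_of_subnormal hM hK hYK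
      have hMF : ⁅Cfsg.generalizedFittingSubgroup H, Y⁆ ≤ Cfsg.generalizedFittingSubgroup H :=
        Subgroup.commutator_le_left _ _
      calc ⁅Cfsg.generalizedFittingSubgroup H, Y⁆
          = ⁅⁅Cfsg.generalizedFittingSubgroup H, Y⁆, Y⁆ := hM
        _ ≤ ⁅Cfsg.generalizedFittingSubgroup H ⊓ K, Y⁆ :=
          Subgroup.commutator_mono (le_inf hMF hMK) le_rfl
    · exact Subgroup.commutator_mono inf_le_left le_rfl
  · intro Y₀ hY₀ h
    apply eq_bot_of_commutator_commutator_generalizedFitting_eq_bot hO (hY.to_le hY₀)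
    rw [eq_bot_iff, ← h]
    exact Subgroup.commutator_mono (Subgroup.commutator_mono le_rfl hY₀) le_rfl

end Cfsg.Agent.S2816
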