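import Cfsg.Statements.S2818
import Cfsg.Agent.Lib.Helper47.Frattini

set_option autoImplicit false
open Cfsg
open scoped commutatorElement

namespace Cfsg.Agent.S2818

theorem comm_mul_central {G : Type*} [Group G] {x y a b : G} (hax : Commute a x) (hay : Commute a y)
    (hbx : Commute b x) (hab : Commute a b) : ⁅x * a, y * b⁆ = ⁅x, y⁆ := by
  have id1 : ⁅x * a, y * b⁆ = x * ⁅a, y * b⁆ * x⁻¹ * ⁅x, y * b⁆ := by
    simp only [commutatorElement_def]; group
  have id2 : ⁅x, y * b⁆ = ⁅x, y⁆ * (y * ⁅x, b⁆ * y⁻¹) := by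
    simp only [commutatorElement_def]; group
  have e1 : ⁅a, y * b⁆ = 1 := commutatorElement_eq_one_iff_commute.mpr (hay.mul_right hab)
  have e2 : ⁅x, b⁆ = 1 := commutatorElement_eq_one_iff_commute.mpr hbx.symm
  rw [id1, e1, id2, e2]; group

theorem omegaOne_center_facts {G : Type*} [Group G] (p : ℕ) (P : Subgroup G) :
    Cfsg.omegaOne p (P ⊓ Subgroup.centralizer (P : Set G)) ≤ P ⊓ Subgroup.centralizer (P : Set G) ∧
    ∀ w ∈ Cfsg.omegaOne p (P ⊓ Subgroup.centralizer (P : Set G)), w ^ p = 1 := by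
  have h1 : Cfsg.omegaOne p (P ⊓ Subgroup.centralizer (P : Set G)) ≤
      P ⊓ Subgroup.centralizer (P : Set G) := by
    unfold Cfsg.omegaOne
    rw [Subgroup.closure_le]
    intro x hx
    exact hx.1
  refine ⟨h1, ?_⟩
  intro w hw
  have hw' : w ∈ Subgroup.closure {x : G | x ∈ P ⊓ Subgroup.centralizer (P : Set G) ∧ x ^ p = 1} := hw
  clear hw
  induction hw' using Subgroup.closure_induction with
  | mem x hx => exact hx.2
  | one => simp
  | mul a b ha hb iha ihb =>
    have haC : a ∈ Subgroup.centralizer (P : Set G) := (h1 ha).2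
    have hbP : b ∈ P := (h1 hb).1
    have hab : Commute a b := (Subgroup.mem_centralizer_iff.mp haC b hbP).symm
    rw [hab.mul_pow, iha, ihb, one_mul]
  | inv a _ iha => rw [inv_pow, iha, inv_one]


/-- Let P be a finite p-subgroup of a group G and H a subgroup of N_G(P) with [P, H] ≤ Ω₁(Z(P)) (the elements of order dividing p in the centre of P). Then H centralizes the Frattini subgroup of P. -/
theorem result {G : Type*} [Group G] [Finite G] {p : ℕ} [Fact p.Prime] (P : Subgroup G) (hP : IsPGroup p ↥P) (H : Subgroup G) (hH : H ≤ Subgroup.normalizer (P : Set G)) (h : ⁅P, H⁆ ≤ Cfsg.omegaOne p (P ⊓ Subgroup.centralizer (P : Set G))) : ⁅(frattini ↥P).map P.subtype, H⁆ = ⊥ := by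
  obtain ⟨hZle, hZpow⟩ := omegaOne_center_facts p P
  set Z₁ := Cfsg.omegaOne p (P ⊓ Subgroup.centralizer (P : Set G)) with hZ₁
  -- for every h ∈ H, the Frattini subgroup of P is centralized by h
  have key : ∀ k ∈ H, frattini ↥P ≤ (Subgroup.centralizer ({k} : Set G)).subgroupOf P := by
    intro k hk
    have hconj : ∀ x ∈ P, ∃ a ∈ Z₁, k * x * k⁻¹ = x * a := by
      intro x hx
      refine ⟨⁅x⁻¹, k⁆, h (Subgroup.commutator_mem_commutator (inv_mem hx) hk), ?_⟩
      simp only [commutatorElement_def]; group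
    have hcentral : ∀ a ∈ Z₁, ∀ x ∈ P, Commute a x := by
      intro a ha x hx
      exact (Subgroup.mem_centralizer_iff.mp (hZle ha).2 x hx).symm
    have hmem : ∀ g : G, k * g * k⁻¹ = g → g ∈ Subgroup.centralizer ({k} : Set G) := by
      intro g hg
      rw [Subgroup.mem_centralizer_iff]
      intro y hy
      rw [Set.mem_singleton_iff] at hy
      subst hy
      calc y * g = (y * g * y⁻¹) * y := by group
        _ = g * y := by rw [hg]
    apply Cfsg.Agent.Lib.Helper47.frattini_le_of_elementary_abelian_quotient p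
    · intro x y
      rw [Subgroup.mem_subgroupOf]
      apply hmem
      obtain ⟨a, ha, hxa⟩ := hconj x x.2
      obtain ⟨b, hb, hyb⟩ := hconj y y.2
      have e1 : k * ((⁅x, y⁆ : ↥P) : G) * k⁻¹ = ⁅k * x * k⁻¹, k * y * k⁻¹⁆ := by
        have : ((⁅x, y⁆ : ↥P) : G) = ⁅(x : G), (y : G)⁆ := by
          simp [commutatorElement_def]
        rw [this]
        simp only [commutatorElement_def]; group
      rw [e1, hxa, hyb]
      have := comm_mul_central (hcentral a ha x x.2) (hcentral a ha y y.2) (hcentral b hb x x.2)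
        (hcentral a ha b (hZle hb).1)
      rw [this]
      simp [commutatorElement_def]
    · intro x
      rw [Subgroup.mem_subgroupOf]
      apply hmem
      obtain ⟨a, ha, hxa⟩ := hconj x x.2
      have e1 : k * ((x ^ p : ↥P) : G) * k⁻¹ = (k * x * k⁻¹) ^ p := by
        rw [conj_pow]; simp
      rw [e1, hxa, (hcentral a ha x x.2).symm.mul_pow, hZpow a ha, mul_one]
      simp
  rw [eq_bot_iff, Subgroup.commutator_le]
  intro a ha k hk
  obtain ⟨x, hx, rfl⟩ := ha
  have := key k hk hx
  rw [Subgroup.mem_subgroupOf, Subgroup.mem_centralizer_iff] at this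
  have hc := this k rfl
  rw [Subgroup.mem_bot]
  show (P.subtype x) * k * (P.subtype x)⁻¹ * k⁻¹ = 1
  have : P.subtype x = (x : G) := rfl
  rw [this, ← hc]; group

end Cfsg.Agent.S2818
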