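import Cfsg.Statements.S2819
import Cfsg.Agent.Lib.Helper47.Frattini
import Cfsg.Agent.Lib.Helper47.Conj
import Cfsg.Agent.S2809
import Mathlib.GroupTheory.Abelianization.Defs

set_option autoImplicit false
open Cfsg
open scoped commutatorElement

namespace Cfsg.Agent.S2819

/-- Let P be a finite p-subgroup of a group G, H a subgroup of N_G(P), and Y a subgroup of H centralizing the derived subgroup P' such that [P, Y] is elementary abelian. Then O^p(⟨Y^H⟩), the subgroup of the normal closure of Y in H generated by its elements of order prime to p, centralizes the Frattini subgroup of P. -/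
theorem result {G : Type*} [Group G] [Finite G] {p : ℕ} [Fact p.Prime] (P : Subgroup G) (hP : IsPGroup p ↥P) (H : Subgroup G) (hH : H ≤ Subgroup.normalizer (P : Set G)) (Y : Subgroup G) (hYH : Y ≤ H) (hYc : Y ≤ Subgroup.centralizer ((⁅P, P⁆ : Subgroup G) : Set G)) (hel : Cfsg.IsElementaryAbelian p ⁅P, Y⁆) (NY : Subgroup G) (hNY : NY = (Subgroup.normalClosure ((Y.subgroupOf H : Subgroup ↥H) : Set ↥H)).map H.subtype) : (Cfsg.pResidual p ↥NY).map NY.subtype ≤ Subgroup.centralizer (((frattini ↥P).map P.subtype : Subgroup G) : Set G) := by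
  set R : Subgroup G := (frattini ↥P).map P.subtype with hRdef
  set P' : Subgroup G := ⁅P, P⁆ with hP'def
  have hRP : R ≤ P := Subgroup.map_subtype_le _
  have hHR : H ≤ Subgroup.normalizer (R : Set G) :=
    hH.trans (Cfsg.Agent.Lib.Helper47.normalizer_le_normalizer_map_characteristic P (frattini ↥P))
  have hHP' : H ≤ Subgroup.normalizer (P' : Set G) := by
    intro k hk
    have h1 := Subgroup.mem_normalizer_iff_map_conj_eq.mp (hH hk)
    rw [Subgroup.mem_normalizer_iff_map_conj_eq, hP'def, Subgroup.map_commutator, h1]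
  have hEP : ⁅P, Y⁆ ≤ P := Subgroup.le_normalizer_iff_commutator_le_left.mp (hYH.trans hH)
  have hcommP : (commutator ↥P).map P.subtype = P' := Subgroup.map_subtype_commutator P
  -- step (d)
  have stepd : ∀ y ∈ Y, ∀ g ∈ R, ⁅g, y⁆ ∈ P' := by
    intro y hy g hg
    have hyN : y ∈ Subgroup.normalizer (P : Set G) := hH (hYH hy)
    set φ := Cfsg.Agent.Lib.Helper47.conjEquiv P y hyN with hφ
    set π : ↥P →* Abelianization ↥P := Abelianization.of with hπ
    set K : Subgroup ↥P := MonoidHom.eqLocus (π.comp φ.toMonoidHom) π with hK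
    have hkill : ∀ (f : ↥P →* Abelianization ↥P) (a b : ↥P), f ⁅a, b⁆ = 1 := by
      intro f a b
      rw [map_commutatorElement]
      exact commutatorElement_eq_one_iff_commute.mpr (Commute.all _ _)
    have hcomm : ∀ a b : ↥P, ⁅a, b⁆ ∈ K := by
      intro a b
      show (π.comp φ.toMonoidHom) ⁅a, b⁆ = π ⁅a, b⁆
      rw [hkill, hkill]
    have hpow : ∀ a : ↥P, a ^ p ∈ K := by
      intro a
      show (π.comp φ.toMonoidHom) (a ^ p) = π (a ^ p)
      have hcE : ⁅(a : G)⁻¹, y⁆ ∈ ⁅P, Y⁆ := Subgroup.commutator_mem_commutator (inv_mem a.2) hy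
      set c : ↥P := ⟨⁅(a : G)⁻¹, y⁆, hEP hcE⟩ with hc
      have hφa : φ a = a * c := by
        apply Subtype.ext
        rw [hφ, Cfsg.Agent.Lib.Helper47.conjEquiv_coe, Subgroup.coe_mul]
        simp only [hc, commutatorElement_def]; group
      have hcp : c ^ p = 1 := by
        apply Subtype.ext
        simpa using hel.2 _ hcE
      rw [map_pow, map_pow]
      show (π (φ a)) ^ p = (π a) ^ p
      rw [hφa, map_mul, mul_pow, ← map_pow π c, hcp, map_one, mul_one]
    have hfr : frattini ↥P ≤ K :=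
      Cfsg.Agent.Lib.Helper47.frattini_le_of_elementary_abelian_quotient p K hcomm hpow
    obtain ⟨x, hx, rfl⟩ := hg
    have hxK : (π.comp φ.toMonoidHom) x = π x := hfr hx
    have hker : φ x * x⁻¹ ∈ commutator ↥P := by
      rw [← Abelianization.ker_of, MonoidHom.mem_ker, map_mul, map_inv]
      have : (Abelianization.of : ↥P →* Abelianization ↥P) (φ x) = Abelianization.of x := hxK
      rw [this, mul_inv_cancel]
    have h2 : ((φ x * x⁻¹ : ↥P) : G) ∈ P' := by
      rw [← hcommP]
      exact Subgroup.mem_map_of_mem _ hker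
    have h3 : ⁅P.subtype x, y⁆ = (((φ x * x⁻¹ : ↥P) : G))⁻¹ := by
      rw [Subgroup.coe_mul, hφ, Cfsg.Agent.Lib.Helper47.conjEquiv_coe]
      simp only [commutatorElement_def, Subgroup.coe_subtype, Subgroup.coe_inv]; group
    rw [h3]
    exact inv_mem h2
  -- step (e)
  have hY1 : Y ≤ Cfsg.Agent.Lib.Helper47.commStab R P' := by
    intro y hy
    exact ⟨hHP' (hYH hy), fun v hv => stepd y hy v hv⟩
  have hbotT : Subgroup.normalizer (((⊥ : Subgroup G)) : Set G) = ⊤ := Subgroup.normalizer_eq_top _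
  have hY2 : Y ≤ Cfsg.Agent.Lib.Helper47.commStab P' ⊥ := by
    intro y hy
    refine ⟨by rw [hbotT]; trivial, ?_⟩
    intro v hv
    have := Subgroup.mem_centralizer_iff.mp (hYc hy) v hv
    rw [Subgroup.mem_bot, commutatorElement_eq_one_iff_commute]
    exact this
  have hbotN : H ≤ Subgroup.normalizer (((⊥ : Subgroup G)) : Set G) := by
    intro k _; rw [hbotT]; trivial
  have hNY1 : NY ≤ Cfsg.Agent.Lib.Helper47.commStab R P' := by
    rw [hNY]
    exact Cfsg.Agent.Lib.Helper47.normalClosure_le_commStab hHR hHP' hY1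
  have hNY2 : NY ≤ Cfsg.Agent.Lib.Helper47.commStab P' ⊥ := by
    rw [hNY]
    exact Cfsg.Agent.Lib.Helper47.normalClosure_le_commStab hHP' hbotN hY2
  have hNYH : NY ≤ H := by
    rw [hNY]; exact Subgroup.map_subtype_le _
  have hc1 : ⁅R, NY⁆ ≤ P' := Cfsg.Agent.Lib.Helper47.commutator_le_of_le_commStab hNY1
  have hc2 : ⁅P', NY⁆ ≤ ⊥ := Cfsg.Agent.Lib.Helper47.commutator_le_of_le_commStab hNY2
  have hn : Cfsg.iterCommutator R NY 2 = ⊥ := by
    show ⁅⁅R, NY⁆, NY⁆ = ⊥
    exact le_bot_iff.mp ((Subgroup.commutator_mono hc1 le_rfl).trans hc2)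
  have hRp : IsPGroup p ↥R := hP.to_le hRP
  rw [Subgroup.map_le_iff_le_comap]
  unfold Cfsg.pResidual
  rw [Subgroup.closure_le]
  intro g hg
  have hg' : Nat.Coprime (orderOf g) p := hg
  rw [SetLike.mem_coe, Subgroup.mem_comap, Subgroup.mem_centralizer_iff]
  intro s hs
  have hord : orderOf (g : G) = orderOf g := Subgroup.orderOf_coe g
  have hcz := Cfsg.Agent.S2809.centralizes_of_coprime R hRp NY (hNYH.trans hHR) 2 hn (g : G) g.2
    (orderOf (g : G)) (hord ▸ hg') (pow_orderOf_eq_one _) 2 le_rfl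
  simp only [Nat.sub_self] at hcz
  change ∀ s ∈ R, (g : G) * s * (g : G)⁻¹ = s at hcz
  replace hcz := hcz s hs
  show s * (g : G) = (g : G) * s
  calc s * (g : G) = ((g : G) * s * (g : G)⁻¹) * (g : G) := by rw [hcz]
    _ = (g : G) * s := by group

end Cfsg.Agent.S2819
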