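import Cfsg.Statements.S2822
import Cfsg.Agent.Lib.Helper47.YL2

set_option autoImplicit false
open Cfsg
open Cfsg.Agent.Lib.Helper47
open scoped commutatorElement

namespace Cfsg.Agent.S2822

/-- Let H be a finite group, p a prime, T a Sylow p-subgroup, and L, M subgroups of characteristic p containing T, with largest p-reduced normal subgroups Y_L, Y_M. If L·C_H(Y_M) = M·C_H(Y_M), then Y_M ≤ Y_L. -/
theorem result {H : Type*} [Group H] [Finite H] {p : ℕ} [Fact p.Prime] (T : Sylow p H) (L M : Subgroup H) (hTL : (T : Subgroup H) ≤ L) (hTM : (T : Subgroup H) ≤ M) (hL : Subgroup.centralizer (Cfsg.pCore p ↥L : Set ↥L) ≤ Cfsg.pCore p ↥L) (hM : Subgroup.centralizer (Cfsg.pCore p ↥M : Set ↥M) ≤ Cfsg.pCore p ↥M) : L ⊔ Subgroup.centralizer (((Cfsg.largestPReducedOf p M) : Subgroup H) : Set H) = M ⊔ Subgroup.centralizer (((Cfsg.largestPReducedOf p M) : Subgroup H) : Set H) → (Cfsg.largestPReducedOf p M) ≤ (Cfsg.largestPReducedOf p L) := by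
  intro hsup
  classical
  set Y : Subgroup H := largestPReducedOf p M with hY
  have hMY : M ≤ Subgroup.normalizer (Y : Set H) := le_normalizer_largestPReducedOf p M
  have hred' := largestPReduced_isPReducedNormal p ↥M
  have hint : PRedInternal p Y M := pRedInternal_of_isPReducedNormal M _ hred'
  have hintL : PRedInternal p Y L := pRedInternal_of_sup_eq hMY hsup hint
  have hYP : Y ≤ pCoreOf p M := Subgroup.map_mono largestPReduced_le_pCore
  have hYL : Y ≤ L := (hYP.trans (pCoreOf_le_sylow T hTM)).trans hTL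
  have hLY : L ≤ Subgroup.normalizer (Y : Set H) := by
    have h1 : L ≤ M ⊔ Subgroup.centralizer (Y : Set H) := by
      rw [← hsup]; exact le_sup_left
    exact h1.trans (sup_le hMY (Subgroup.centralizer_le_normalizer _))
  have hcomm : ∀ a ∈ Y, ∀ b ∈ Y, a * b = b * a := by
    rintro a ⟨a', ha', rfl⟩ b ⟨b', hb', rfl⟩
    have hc := hred'.2.1.1
    have := (isMulCommutative_iff.mp hc) ⟨a', ha'⟩ ⟨b', hb'⟩
    have h2 := congrArg (fun w : ↥(largestPReduced p ↥M) => ((w : ↥M) : H)) this
    simpa using h2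
  have hexp : ∀ a ∈ Y, a ^ p = 1 := by
    rintro a ⟨a', ha', rfl⟩
    have := hred'.2.1.2 a' ha'
    have h2 := congrArg (fun w : ↥M => (w : H)) this
    simpa using h2
  have hred := isPReducedNormal_subgroupOf_of_pRedInternal hYL hLY hcomm hexp hintL
  have h1 : Y.subgroupOf L ≤ largestPReduced p ↥L := le_sSup hred
  calc Y = (Y.subgroupOf L).map L.subtype := (Subgroup.map_subgroupOf_eq_of_le hYL).symm
    _ ≤ (largestPReduced p ↥L).map L.subtype := Subgroup.map_mono h1

end Cfsg.Agent.S2822
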