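import Cfsg.Statements.S2823
import Cfsg.Agent.Lib.Helper47.ZL

set_option autoImplicit false
open Cfsg
open Cfsg.Agent.Lib.Helper47
open scoped commutatorElement

namespace Cfsg.Agent.S2823

/-- Let H be a finite group, p a prime, T a Sylow p-subgroup and L a subgroup of characteristic p containing T; let Z_L be the subgroup generated by the Ω₁(Z(S)) over the Sylow p-subgroups S of L and O^p(L) the subgroup generated by the elements of L of order prime to p. Then Z_L = Ω₁(Z(L))·[Z_L, O^p(L)] and [Z_L, L] = [Z_L, O^p(L)]. -/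
theorem result {H : Type*} [Group H] [Finite H] {p : ℕ} [Fact p.Prime] (T : Sylow p H) (L : Subgroup H) (hTL : (T : Subgroup H) ≤ L) (hL : Subgroup.centralizer (Cfsg.pCore p ↥L : Set ↥L) ≤ Cfsg.pCore p ↥L) : Cfsg.sylowCenterClosure p L = (Cfsg.omegaOne p (L ⊓ Subgroup.centralizer ((L : Subgroup H) : Set H))) ⊔ ⁅Cfsg.sylowCenterClosure p L, (Cfsg.pResidual p ↥L).map L.subtype⁆ ∧ ⁅Cfsg.sylowCenterClosure p L, L⁆ = ⁅Cfsg.sylowCenterClosure p L, (Cfsg.pResidual p ↥L).map L.subtype⁆ := by
  classical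
  have hp : p.Prime := Fact.out
  set Z : Subgroup H := sylowCenterClosure p L with hZ
  set R : Subgroup H := (pResidual p ↥L).map L.subtype with hR
  set W : Subgroup H := ⁅Z, R⁆ with hW
  have hZL : Z ≤ L := sylowCenterClosure_le_self p L
  have hLZ : L ≤ Subgroup.normalizer (Z : Set H) := le_normalizer_sylowCenterClosure p L
  have hRL : R ≤ L := Subgroup.map_subtype_le _
  have hLR : L ≤ Subgroup.normalizer (R : Set H) := by
    have := pResidual_normal p ↥L
    exact le_normalizer_map_subtype_of_normal L (pResidual p ↥L)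
  have hLW : L ≤ Subgroup.normalizer (W : Set H) :=
    (le_inf hLZ hLR).trans (normalizer_inf_normalizer_le_normalizer_commutator Z R)
  have hZY : Z ≤ largestPReducedOf p L := (Cfsg.Agent.S2821.result T L hTL hL _ rfl).2.2.2.2.1
  have hred' := largestPReduced_isPReducedNormal p ↥L
  have hYcomm : ∀ a ∈ largestPReducedOf p L, ∀ b ∈ largestPReducedOf p L, a * b = b * a := by
    rintro a ⟨a', ha', rfl⟩ b ⟨b', hb', rfl⟩
    have hc := hred'.2.1.1
    have := (isMulCommutative_iff.mp hc) ⟨a', ha'⟩ ⟨b', hb'⟩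
    have h2 := congrArg (fun w : ↥(largestPReduced p ↥L) => ((w : ↥L) : H)) this
    simpa using h2
  have hYexp : ∀ a ∈ largestPReducedOf p L, a ^ p = 1 := by
    rintro a ⟨a', ha', rfl⟩
    have := hred'.2.1.2 a' ha'
    have h2 := congrArg (fun w : ↥L => (w : H)) this
    simpa using h2
  have hZcomm : ∀ a ∈ Z, ∀ b ∈ Z, a * b = b * a :=
    fun a ha b hb => hYcomm a (hZY ha) b (hZY hb)
  have hdecomp : ∀ (S : Sylow p ↥L) (l : H), l ∈ L →
      ∃ r ∈ R, ∃ s ∈ (S : Subgroup ↥L).map L.subtype, l = r * s := by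
    intro S l hl
    have hsup := pResidual_sup_sylow S
    have := pResidual_normal p ↥L
    have hmem : (⟨l, hl⟩ : ↥L) ∈
        ((pResidual p ↥L ⊔ (S : Subgroup ↥L) : Subgroup ↥L) : Set ↥L) := by
      rw [hsup]; trivial
    rw [Subgroup.normal_mul] at hmem
    obtain ⟨r, hr, s, hs, hrs⟩ := hmem
    refine ⟨(r : H), ⟨r, hr, rfl⟩, (s : H), ⟨s, hs, rfl⟩, ?_⟩
    have := congrArg (fun y : ↥L => (y : H)) hrs
    simpa using this.symm
  have hA : ⁅Z, L⁆ ≤ W := by
    rw [Subgroup.commutator_comm]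
    apply commutator_le_of_le_commStab
    apply sylowCenterClosure_le
    intro S u huS huC hup
    have huL : u ∈ L := Subgroup.map_subtype_le _ huS
    refine ⟨hLW huL, ?_⟩
    intro l hl
    obtain ⟨r, hr, s, hs, rfl⟩ := hdecomp S l hl
    have hsu : s * u = u * s := (Subgroup.mem_centralizer_iff.mp huC) s hs
    have h1 : ⁅r * s, u⁆ = (⁅u, r⁆)⁻¹ := by
      simp only [commutatorElement_def]
      have h2 : s * u * s⁻¹ = u := by rw [hsu]; group
      calc r * s * u * (r * s)⁻¹ * u⁻¹ = r * (s * u * s⁻¹) * r⁻¹ * u⁻¹ := by group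
        _ = r * u * r⁻¹ * u⁻¹ := by rw [h2]
        _ = (u * r * u⁻¹ * r⁻¹)⁻¹ := by group
    rw [h1]
    exact W.inv_mem (Subgroup.commutator_mem_commutator (mem_sylowCenterClosure S huS huC hup) hr)
  have hA' : ⁅Z, L⁆ = W := le_antisymm hA (Subgroup.commutator_mono le_rfl hRL)
  have hWZ : W ≤ Z := Subgroup.le_normalizer_iff_commutator_le_left.mp (hRL.trans hLZ)
  have hΩZ : omegaOne p (L ⊓ Subgroup.centralizer ((L : Subgroup H) : Set H)) ≤ Z := by
    unfold omegaOne
    rw [Subgroup.closure_le]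
    rintro x ⟨⟨hxL, hxC⟩, hxp⟩
    have hxC' : x ∈ Subgroup.centralizer ((L : Subgroup H) : Set H) := hxC
    have h1 : (⟨x, hxL⟩ : ↥L) ∈ pCore p ↥L := by
      apply hL
      rw [Subgroup.mem_centralizer_iff]
      intro y _
      apply Subtype.ext
      exact (Subgroup.mem_centralizer_iff.mp hxC') (y : H) y.2
    have h2 : x ∈ (T : Subgroup H) := pCoreOf_le_sylow T hTL ⟨⟨x, hxL⟩, h1, rfl⟩
    have h3 := (Cfsg.Agent.S2821.result T L hTL hL _ rfl).2.2.2.1
    apply h3
    apply Subgroup.subset_closure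
    refine ⟨⟨h2, ?_⟩, hxp⟩
    exact Subgroup.centralizer_le (by exact_mod_cast hTL) hxC'
  refine ⟨?_, hA'⟩
  apply le_antisymm
  · apply sylowCenterClosure_le
    intro S u huS huC hup
    have huZ : u ∈ Z := mem_sylowCenterClosure S huS huC hup
    set SH : Subgroup H := (S : Subgroup ↥L).map L.subtype with hSH
    have hSHL : SH ≤ L := Subgroup.map_subtype_le _
    have hrel : (SH.relIndex L).Coprime p := by
      have h1 : SH.subgroupOf L = (S : Subgroup ↥L) := by
        rw [hSH]
        exact Subgroup.comap_map_eq_self_of_injective Subtype.coe_injective _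
      rw [Subgroup.relIndex, h1]
      exact ((Nat.Prime.coprime_iff_not_dvd hp).mpr S.not_dvd_index).symm
    obtain ⟨τ, hτZ, k, hk, hτfix, hτW, _⟩ :=
      Cfsg.Agent.Lib.Helper46.exists_trace Z L SH hZcomm hLZ hSHL hrel u huZ (fun x hx => by
        have := (Subgroup.mem_centralizer_iff.mp huC) x hx
        rw [this]; group)
    have h1 : τ * (u ^ k)⁻¹ ∈ W := by
      apply hτW W
      intro n hn
      have h2 : n * u * n⁻¹ * u⁻¹ = ⁅n, u⁆ := (commutatorElement_def n u).symm
      rw [h2, ← hA', Subgroup.commutator_comm]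
      exact Subgroup.commutator_mem_commutator hn huZ
    have hτΩ : τ ∈ omegaOne p (L ⊓ Subgroup.centralizer ((L : Subgroup H) : Set H)) := by
      apply Subgroup.subset_closure
      refine ⟨⟨hZL hτZ, Subgroup.mem_centralizer_iff.mpr ?_⟩, hYexp τ (hZY hτZ)⟩
      intro n hn
      have := hτfix n hn
      calc n * τ = (n * τ * n⁻¹) * n := by group
        _ = τ * n := by rw [this]
    have h2 : u ^ k ∈ omegaOne p (L ⊓ Subgroup.centralizer ((L : Subgroup H) : Set H)) ⊔ W := by
      have h3 : u ^ k = (τ * (u ^ k)⁻¹)⁻¹ * τ := by group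
      rw [h3]
      exact Subgroup.mul_mem _ (Subgroup.mem_sup_right (W.inv_mem h1)) (Subgroup.mem_sup_left hτΩ)
    have hk' : k.Coprime (orderOf u) :=
      Nat.Coprime.coprime_dvd_right (orderOf_dvd_of_pow_eq_one hup) hk
    obtain ⟨j, hj⟩ := exists_pow_eq_self_of_coprime hk'
    rw [← hj]
    exact Subgroup.pow_mem _ h2 j
  · exact sup_le hΩZ hWZ

end Cfsg.Agent.S2823
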