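import Cfsg.Statements.S2825
import Cfsg.Agent.Lib.Helper47.SubnY2

set_option autoImplicit false
open Cfsg
open Cfsg.Agent.Lib.Helper47
open scoped commutatorElement

namespace Cfsg.Agent.S2825

/-- Let L be a subnormal subgroup of the finite group H, p a prime, Y_H and Y_L the largest p-reduced normal subgroups. Then Y_H ∩ L = Y_H ∩ Y_L and this subgroup is a p-reduced normal subgroup of L; C_L(Y_L) = C_L(Y_H) = C_L(Y_H ∩ L); and if O^p(H) ≤ L, then [Y_L, L] = 1 if and only if [Y_H, H] = 1. -/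
theorem result {H : Type*} [Group H] [Finite H] {p : ℕ} [Fact p.Prime] (L : Subgroup H) (hL : L.IsSubnormal) : Cfsg.largestPReduced p H ⊓ L = Cfsg.largestPReduced p H ⊓ (Cfsg.largestPReducedOf p L) ∧ Cfsg.IsPReducedNormal p ((Cfsg.largestPReduced p H ⊓ L).subgroupOf L) ∧ L ⊓ Subgroup.centralizer ((Cfsg.largestPReducedOf p L : Subgroup H) : Set H) = L ⊓ Subgroup.centralizer (Cfsg.largestPReduced p H : Set H) ∧ L ⊓ Subgroup.centralizer (Cfsg.largestPReduced p H : Set H) = L ⊓ Subgroup.centralizer ((Cfsg.largestPReduced p H ⊓ L : Subgroup H) : Set H) ∧ (Cfsg.pResidual p H ≤ L → (⁅(Cfsg.largestPReducedOf p L), L⁆ = ⊥ ↔ ⁅Cfsg.largestPReduced p H, (⊤ : Subgroup H)⁆ = ⊥)) := by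
  classical
  set V : Subgroup H := largestPReduced p H with hVdef
  have hV : IsPReducedNormal p V := largestPReduced_isPReducedNormal p H
  set Y : Subgroup H := largestPReducedOf p L with hYdef
  have hVn : V.Normal := hV.1
  have hVc : IsMulCommutative ↥V := hV.2.1.1
  have hVcomm : ∀ a ∈ V, ∀ b ∈ V, a * b = b * a := by
    intro a ha b hb
    have := hVc.is_comm.comm (⟨a, ha⟩ : ↥V) ⟨b, hb⟩
    exact congrArg Subtype.val this
  have hVexp : ∀ a ∈ V, a ^ p = 1 := hV.2.1.2
  have hcore : ∀ D₀ : Subgroup H, D₀ ≤ L → L ≤ Subgroup.normalizer (D₀ : Set H) →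
      (∀ d ∈ D₀, ∃ k : ℕ, d ^ (p ^ k) ∈ Subgroup.centralizer ((V ⊓ L : Subgroup H) : Set H)) →
      D₀ ≤ Subgroup.centralizer (V : Set H) :=
    fun D₀ h1 h2 h3 => le_centralizer_of_subnormal_of_pReduced hV hL h1 h2 h3
  have hVL_L : V ⊓ L ≤ L := inf_le_right
  have hLVL : L ≤ Subgroup.normalizer ((V ⊓ L : Subgroup H) : Set H) := by
    refine (le_inf ?_ Subgroup.le_normalizer).trans (normalizer_inf_le_normalizer_inf V L)
    rw [Subgroup.normalizer_eq_top_iff.mpr hVn]
    exact le_top
  have hredVL : PRedInternal p (V ⊓ L) L := by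
    intro D₀ h1 h2 h3
    exact (hcore D₀ h1 h2 h3).trans (Subgroup.centralizer_le inf_le_left)
  have hcommVL : ∀ a ∈ V ⊓ L, ∀ b ∈ V ⊓ L, a * b = b * a :=
    fun a ha b hb => hVcomm a ha.1 b hb.1
  have hexpVL : ∀ a ∈ V ⊓ L, a ^ p = 1 := fun a ha => hVexp a ha.1
  have hb : IsPReducedNormal p ((V ⊓ L).subgroupOf L) :=
    isPReducedNormal_subgroupOf_of_pRedInternal hVL_L hLVL hcommVL hexpVL hredVL
  have hVLY : V ⊓ L ≤ Y := le_largestPReducedOf hVL_L hLVL hcommVL hexpVL hredVL
  have ha : V ⊓ L = V ⊓ Y :=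
    le_antisymm (le_inf inf_le_left hVLY) (inf_le_inf_left V (largestPReducedOf_le p L))
  have hd : L ⊓ Subgroup.centralizer (V : Set H) =
      L ⊓ Subgroup.centralizer ((V ⊓ L : Subgroup H) : Set H) := by
    apply le_antisymm
    · exact inf_le_inf_left L (Subgroup.centralizer_le inf_le_left)
    · apply le_inf inf_le_left
      apply hcore _ inf_le_left
      · exact (le_inf Subgroup.le_normalizer
          (hLVL.trans (normalizer_le_normalizer_centralizer _))).trans
          (normalizer_inf_le_normalizer_inf L _)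
      · intro d hd
        exact ⟨0, by simpa using hd.2⟩
  have hc : L ⊓ Subgroup.centralizer ((Y : Subgroup H) : Set H) =
      L ⊓ Subgroup.centralizer (V : Set H) := by
    apply le_antisymm
    · rw [hd]
      exact inf_le_inf_left L (Subgroup.centralizer_le hVLY)
    · exact le_inf inf_le_left (subnormal_inf_centralizer_largestPReduced_le hL)
  refine ⟨ha, hb, hc, hd, ?_⟩
  intro hRL
  constructor
  · intro h1
    have hLY : L ≤ Subgroup.centralizer ((Y : Subgroup H) : Set H) := by
      rw [Subgroup.commutator_eq_bot_iff_le_centralizer] at h1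
      exact Subgroup.le_centralizer_iff.mp h1
    have hLV : L ≤ Subgroup.centralizer (V : Set H) := by
      have h2 : L ≤ L ⊓ Subgroup.centralizer ((Y : Subgroup H) : Set H) := le_inf le_rfl hLY
      rw [hc] at h2
      exact h2.trans inf_le_right
    obtain ⟨_, _, hCn, hcore'⟩ := hV
    have htop : (⊤ : Subgroup H) ≤ Subgroup.centralizer (V : Set H) :=
      Cfsg.Agent.Lib.Helper46.le_of_pCore_quot_eq_bot _ hcore' ⊤ inferInstance (by
        intro d _
        obtain ⟨k, hk⟩ := pow_mem_pResidual (p := p) d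
        exact ⟨k, hLV (hRL hk)⟩)
    rw [Subgroup.commutator_eq_bot_iff_le_centralizer, Subgroup.le_centralizer_iff]
    exact htop
  · intro h1
    have htop : (⊤ : Subgroup H) ≤ Subgroup.centralizer (V : Set H) := by
      rw [Subgroup.commutator_eq_bot_iff_le_centralizer] at h1
      exact Subgroup.le_centralizer_iff.mp h1
    have h2 : L ≤ L ⊓ Subgroup.centralizer (V : Set H) := le_inf le_rfl (le_top.trans htop)
    rw [← hc] at h2
    rw [Subgroup.commutator_eq_bot_iff_le_centralizer, Subgroup.le_centralizer_iff]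
    exact h2.trans inf_le_right

end Cfsg.Agent.S2825
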