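import Cfsg.Statements.S2826
import Cfsg.Agent.Lib.Helper47.TopSub
import Cfsg.Agent.S2823

set_option autoImplicit false
open Cfsg
open Cfsg.Agent.Lib.Helper47
open scoped commutatorElement

namespace Cfsg.Agent.S2826

/-- Let H be a finite group of characteristic p, T a Sylow p-subgroup, and V a normal elementary abelian p-subgroup of H containing Ω₁(Z(T)). Then C_H(Ω₁(Z(T))) = C_H([V, O^p(H)] ∩ Ω₁(Z(T))), O^p(H) being generated by the elements of order prime to p. -/
theorem result {H : Type*} [Group H] [Finite H] {p : ℕ} [Fact p.Prime] (hH : Subgroup.centralizer (Cfsg.pCore p H : Set H) ≤ Cfsg.pCore p H) (T : Sylow p H) (V : Subgroup H) [V.Normal] (hV : Cfsg.IsElementaryAbelian p V) (hZV : (Cfsg.omegaOne p ((T : Subgroup H) ⊓ Subgroup.centralizer (((T : Subgroup H) : Subgroup H) : Set H))) ≤ V) : Subgroup.centralizer ((Cfsg.omegaOne p ((T : Subgroup H) ⊓ Subgroup.centralizer (((T : Subgroup H) : Subgroup H) : Set H))) : Set H) = Subgroup.centralizer (((⁅V, Cfsg.pResidual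 p H⁆ ⊓ (Cfsg.omegaOne p ((T : Subgroup H) ⊓ Subgroup.centralizer (((T : Subgroup H) : Subgroup H) : Set H)))) : Subgroup H) : Set H) := by
  classical
  have hp : p.Prime := Fact.out
  set Z : Subgroup H := omegaOne p ((T : Subgroup H) ⊓ Subgroup.centralizer (((T : Subgroup H) : Subgroup H) : Set H)) with hZ
  set R : Subgroup H := pResidual p H with hR
  set Zt : Subgroup H := sylowCenterClosure p (⊤ : Subgroup H) with hZt
  set Om : Subgroup H := omegaOne p ((⊤ : Subgroup H) ⊓ Subgroup.centralizer (((⊤ : Subgroup H) : Subgroup H) : Set H)) with hOm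
  have hcp := charp_top hH
  have h23 := (Cfsg.Agent.S2823.result T ⊤ le_top hcp).1
  rw [pResidual_top_map] at h23
  have h21 := (Cfsg.Agent.S2821.result T ⊤ le_top hcp _ rfl).2.2.2.1
  -- Z ≤ Zt
  have hZZt : Z ≤ Zt := h21
  -- Z ≤ V given; Zt ≤ V
  have hZtV : Zt ≤ V := by
    apply sylowCenterClosure_le
    intro S u huS huC hup
    obtain ⟨l, hl⟩ := MulAction.exists_smul_eq (↥(⊤ : Subgroup H)) (T.subtype le_top) S
    have hS' : (S : Subgroup ↥(⊤ : Subgroup H)) =
        ((T.subtype le_top : Sylow p ↥(⊤ : Subgroup H)) : Subgroup ↥(⊤ : Subgroup H)).map (MulAut.conj l).toMonoidHom := by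
      rw [← hl]; rfl
    -- v := l⁻¹ u l ∈ Ω₁Z(T)
    have hmemT : ∀ x : H, x ∈ (S : Subgroup ↥(⊤ : Subgroup H)).map (⊤ : Subgroup H).subtype ↔
        (l : H)⁻¹ * x * (l : H) ∈ (T : Subgroup H) := by
      intro x
      constructor
      · rintro ⟨s, hs, rfl⟩
        rw [hS'] at hs
        obtain ⟨t, ht, rfl⟩ := hs
        have ht' : (t : H) ∈ (T : Subgroup H) := ht
        simp only [MulEquiv.coe_toMonoidHom, MulAut.conj_apply, Subgroup.coe_subtype, Subgroup.coe_mul,
          Subgroup.coe_inv]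
        have : (l : H)⁻¹ * ((l : H) * (t : H) * (l : H)⁻¹) * (l : H) = t := by group
        rw [this]; exact ht'
      · intro hx
        refine ⟨⟨x, Subgroup.mem_top x⟩, ?_, rfl⟩
        rw [hS']
        refine ⟨⟨(l : H)⁻¹ * x * (l : H), Subgroup.mem_top _⟩, hx, ?_⟩
        apply Subtype.ext
        simp only [MulEquiv.coe_toMonoidHom, MulAut.conj_apply, Subgroup.coe_mul, Subgroup.coe_inv]
        group
    have hv1 : (l : H)⁻¹ * u * (l : H) ∈ (T : Subgroup H) := (hmemT u).mp huS
    have hv2 : (l : H)⁻¹ * u * (l : H) ∈ Subgroup.centralizer ((T : Subgroup H) : Set H) := by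
      rw [Subgroup.mem_centralizer_iff]
      intro t ht
      have ht' : (l : H) * t * (l : H)⁻¹ ∈ (S : Subgroup ↥(⊤ : Subgroup H)).map (⊤ : Subgroup H).subtype := by
        rw [hmemT]
        have : (l : H)⁻¹ * ((l : H) * t * (l : H)⁻¹) * (l : H) = t := by group
        rw [this]; exact ht
      have hc := (Subgroup.mem_centralizer_iff.mp huC) _ ht'
      calc t * ((l : H)⁻¹ * u * (l : H)) = (l : H)⁻¹ * (((l : H) * t * (l : H)⁻¹) * u) * (l : H) := by group
        _ = (l : H)⁻¹ * (u * ((l : H) * t * (l : H)⁻¹)) * (l : H) := by rw [hc]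
        _ = (l : H)⁻¹ * u * (l : H) * t := by group
    have hv3 : ((l : H)⁻¹ * u * (l : H)) ^ p = 1 := by
      have : (l : H)⁻¹ * u * (l : H) = (l : H)⁻¹ * u * ((l : H)⁻¹)⁻¹ := by group
      rw [this, conj_pow, hup]; group
    have hvZ : (l : H)⁻¹ * u * (l : H) ∈ Z := Subgroup.subset_closure ⟨⟨hv1, hv2⟩, hv3⟩
    have hvV : (l : H)⁻¹ * u * (l : H) ∈ V := hZV hvZ
    have hn : (l : H) * ((l : H)⁻¹ * u * (l : H)) * (l : H)⁻¹ ∈ V := Subgroup.Normal.conj_mem inferInstance _ hvV _
    have : (l : H) * ((l : H)⁻¹ * u * (l : H)) * (l : H)⁻¹ = u := by group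
    rwa [this] at hn
  -- Om central, Om ≤ Z
  have hOmC : Om ≤ Subgroup.centralizer ((⊤ : Subgroup H) : Set H) := by
    rw [hOm]; unfold omegaOne
    rw [Subgroup.closure_le]
    rintro x ⟨⟨_, hx⟩, _⟩
    exact hx
  have hOmZ : Om ≤ Z := by
    rw [hOm]; unfold omegaOne
    rw [Subgroup.closure_le]
    rintro x ⟨⟨_, hx⟩, hxp⟩
    apply Subgroup.subset_closure
    refine ⟨⟨?_, ?_⟩, hxp⟩
    · apply pCore_le_sylow T
      apply hH
      exact Subgroup.centralizer_le (Set.subset_univ _) (by simpa using hx)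
    · exact Subgroup.centralizer_le (Set.subset_univ _) (by simpa using hx)
  set W : Subgroup H := ⁅V, R⁆ with hW
  have : R.Normal := pResidual_normal p H
  have : W.Normal := Subgroup.commutator_normal V R
  have hZtW : ⁅Zt, R⁆ ≤ W := Subgroup.commutator_mono hZtV le_rfl
  have hdecomp : ∀ z ∈ Z, ∃ c ∈ Om, ∃ w ∈ W ⊓ Z, z = c * w := by
    intro z hz
    have h1 : z ∈ Om ⊔ W := by
      have h0 : z ∈ Zt := hZZt hz
      have h0' : z ∈ Om ⊔ ⁅Zt, R⁆ := by
        exact h23.le h0
      exact (sup_le_sup_left hZtW _) h0'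
    obtain ⟨c, hc, w, hw, rfl⟩ := Subgroup.mem_sup_of_normal_right.mp h1
    refine ⟨c, hc, w, ⟨hw, ?_⟩, rfl⟩
    have : w = c⁻¹ * (c * w) := by group
    rw [this]
    exact Z.mul_mem (Z.inv_mem (hOmZ hc)) hz
  apply le_antisymm
  · exact Subgroup.centralizer_le (by intro x hx; exact hx.2)
  · intro g hg
    rw [Subgroup.mem_centralizer_iff] at hg ⊢
    intro z hz
    obtain ⟨c, hc, w, hw, rfl⟩ := hdecomp z hz
    have h1 : c * g = g * c := ((Subgroup.mem_centralizer_iff.mp (hOmC hc)) g (Subgroup.mem_top g)).symm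
    have h2 : w * g = g * w := hg w hw
    calc c * w * g = c * (w * g) := by group
      _ = c * (g * w) := by rw [h2]
      _ = (c * g) * w := by group
      _ = (g * c) * w := by rw [h1]
      _ = g * (c * w) := by group

end Cfsg.Agent.S2826
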