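import Cfsg.Statements.S2827
import Cfsg.Agent.Lib.Helper47.PIrr

set_option autoImplicit false
open Cfsg
open scoped commutatorElement

namespace Cfsg.Agent.S2827

/-- Let H be a finite p-irreducible group (not p-closed, and O^p(H) lies in every normal subgroup that is not p-closed) and T a Sylow p-subgroup. Then H is generated by the conjugates of T and H = H'·T; O^p(H) ≤ H'; and for every normal subgroup Y of T not contained in O_p(H), O^p(H) = [O^p(H), Y] and O^p(H) is contained in the normal closure of Y in H. -/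
theorem result {H : Type*} [Group H] [Finite H] {p : ℕ} [Fact p.Prime] (hH : Cfsg.IsPIrreducible p H) (T : Sylow p H) : Subgroup.normalClosure ((T : Subgroup H) : Set H) = ⊤ ∧ commutator H ⊔ (T : Subgroup H) = ⊤ ∧ Cfsg.pResidual p H ≤ commutator H ∧ ∀ Y : Subgroup H, Y ≤ (T : Subgroup H) → (T : Subgroup H) ≤ Subgroup.normalizer (Y : Set H) → ¬ Y ≤ Cfsg.pCore p H → ⁅Cfsg.pResidual p H, Y⁆ = Cfsg.pResidual p H ∧ Cfsg.pResidual p H ≤ Subgroup.normalClosure (Y : Set H) := by
  obtain ⟨hncl, hirr⟩ := hH
  set R := Cfsg.pResidual p H with hR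
  haveI hRn : R.Normal := Cfsg.Agent.Lib.Helper47.pResidual_normal p H
  have hRT : R ⊔ (T : Subgroup H) = ⊤ := Cfsg.Agent.Lib.Helper47.pResidual_sup_sylow T
  -- a normal subgroup N that is p-closed has T ⊓ N normal
  have L2 : ∀ N : Subgroup H, N.Normal → Cfsg.IsPClosed p ↥N → ((T : Subgroup H) ⊓ N).Normal := by
    intro N hN hcl
    haveI := hN
    exact Cfsg.Agent.Lib.Helper47.sylow_inf_normal_of_isPClosed T N hcl
  have hTnn : ¬ (T : Subgroup H).Normal := fun h =>
    hncl (Cfsg.Agent.Lib.Helper47.isPClosed_of_sylow_normal T h)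
  -- Part 1
  have part1 : Subgroup.normalClosure ((T : Subgroup H) : Set H) = ⊤ := by
    set N := Subgroup.normalClosure ((T : Subgroup H) : Set H) with hN
    have hTN : (T : Subgroup H) ≤ N := Subgroup.le_normalClosure
    have hNn : N.Normal := Subgroup.normalClosure_normal
    have hnc : ¬ Cfsg.IsPClosed p ↥N := by
      intro hcl
      have := L2 N hNn hcl
      rw [inf_of_le_left hTN] at this
      exact hTnn this
    have hRN : R ≤ N := hirr N hNn hnc
    exact top_le_iff.mp (hRT ▸ sup_le hRN hTN)
  -- Part 2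
  have hKn : (commutator H ⊔ (T : Subgroup H)).Normal := by
    constructor
    intro k hk g
    have : g * k * g⁻¹ = ⁅g, k⁆ * k := by
      simp only [commutatorElement_def]; group
    rw [this]
    refine mul_mem (Subgroup.mem_sup_left ?_) hk
    exact Subgroup.commutator_mem_commutator (Subgroup.mem_top g) (Subgroup.mem_top k)
  have part2 : commutator H ⊔ (T : Subgroup H) = ⊤ := by
    have h1 : Subgroup.normalClosure ((T : Subgroup H) : Set H) ≤ commutator H ⊔ (T : Subgroup H) :=
      Subgroup.normalClosure_le_normal (N := commutator H ⊔ (T : Subgroup H))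
        (fun x hx => Subgroup.mem_sup_right hx)
    rw [part1] at h1
    exact top_le_iff.mp h1
  have part3 : R ≤ commutator H := by
    apply Cfsg.Agent.Lib.Helper47.pResidual_le_of_sup_eq_top (T : Subgroup H) (commutator H) T.isPGroup'
    rw [sup_comm]; exact part2
  refine ⟨part1, part2, part3, ?_⟩
  intro Y hYT hTY hYO
  -- normal subgroups containing Y are not p-closed
  have notcl : ∀ N : Subgroup H, N.Normal → Y ≤ N → ¬ Cfsg.IsPClosed p ↥N := by
    intro N hN hYN hcl
    have hn := L2 N hN hcl
    have hp : IsPGroup p ↥((T : Subgroup H) ⊓ N) := T.isPGroup'.to_le inf_le_left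
    have := Cfsg.Agent.Lib.Helper47.le_pCore hn hp
    exact hYO ((le_inf hYT hYN).trans this)
  have hYp : IsPGroup p ↥Y := T.isPGroup'.to_le hYT
  constructor
  · set K := ⁅R, Y⁆ with hK
    have hKR : K ≤ R := Subgroup.commutator_le_left R Y
    -- K normal
    have hTK : (T : Subgroup H) ≤ Subgroup.normalizer (K : Set H) := by
      intro t ht
      rw [Subgroup.mem_normalizer_iff_map_conj_eq, hK, Subgroup.map_commutator]
      have htR : t ∈ Subgroup.normalizer (R : Set H) := by
        rw [Subgroup.normalizer_eq_top]; trivial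
      have h1 := Subgroup.mem_normalizer_iff_map_conj_eq.mp htR
      have h2 := Subgroup.mem_normalizer_iff_map_conj_eq.mp (hTY ht)
      rw [h1, h2]
    have hRK : R ≤ Subgroup.normalizer (K : Set H) := Subgroup.normalizer_commutator_ge_left R Y
    have hKn : K.Normal := by
      rw [← Subgroup.normalizer_eq_top_iff]
      exact top_le_iff.mp (hRT ▸ sup_le hRK hTK)
    -- N₁ = Y ⊔ K normal
    set N₁ := Y ⊔ K with hN₁
    have hTN₁ : (T : Subgroup H) ≤ Subgroup.normalizer (N₁ : Set H) :=
      (le_inf hTY hTK).trans (Cfsg.Agent.Lib.Helper47.normalizer_inf_le_normalizer_sup Y K)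
    have hRN₁ : R ≤ Subgroup.normalizer (N₁ : Set H) := by
      rw [Subgroup.le_normalizer_iff]
      intro r hr x hx
      have h1 : (MulAut.conj r).toMonoidHom x ∈ N₁.map (MulAut.conj r).toMonoidHom :=
        Subgroup.mem_map_of_mem _ hx
      have h2 : N₁.map (MulAut.conj r).toMonoidHom ≤ N₁ := by
        rw [hN₁, Subgroup.map_sup]
        apply sup_le
        · rintro _ ⟨y, hy, rfl⟩
          show r * y * r⁻¹ ∈ Y ⊔ K
          have : r * y * r⁻¹ = ⁅r, y⁆ * y := by
            simp only [commutatorElement_def]; group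
          rw [this]
          exact mul_mem (Subgroup.mem_sup_right (Subgroup.commutator_mem_commutator hr hy))
            (Subgroup.mem_sup_left hy)
        · have : K.map (MulAut.conj r).toMonoidHom = K :=
            Subgroup.mem_normalizer_iff_map_conj_eq.mp (hRK hr)
          rw [this]; exact le_sup_right
      exact h2 h1
    have hN₁n : N₁.Normal := by
      rw [← Subgroup.normalizer_eq_top_iff]
      exact top_le_iff.mp (hRT ▸ sup_le hRN₁ hTN₁)
    have hRN₁' : R ≤ N₁ := hirr N₁ hN₁n (notcl N₁ hN₁n le_sup_left)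
    haveI := hKn
    have hRK' : R ≤ K := Cfsg.Agent.Lib.Helper47.pResidual_le_of_le_sup Y K hYp hRN₁'
    exact le_antisymm hKR hRK'
  · exact hirr _ Subgroup.normalClosure_normal (notcl _ Subgroup.normalClosure_normal Subgroup.le_normalClosure)

end Cfsg.Agent.S2827
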