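import Cfsg.Statements.S2828
import Cfsg.Agent.Lib.Helper47.Quot

set_option autoImplicit false
open Cfsg
open Cfsg.Agent.Lib.Helper47
open scoped commutatorElement

namespace Cfsg.Agent.S2828

/-- Let H be a finite group, p a prime and D a normal p-subgroup of H. Then H is p-irreducible if and only if H/D is p-irreducible, and H is strongly p-irreducible if and only if H/D is strongly p-irreducible. -/
theorem result {H : Type*} [Group H] [Finite H] {p : ℕ} [Fact p.Prime] (D : Subgroup H) [D.Normal] (hD : IsPGroup p ↥D) : (Cfsg.IsPIrreducible p H ↔ Cfsg.IsPIrreducible p (H ⧸ D)) ∧ (Cfsg.IsStronglyPIrreducible p H ↔ Cfsg.IsStronglyPIrreducible p (H ⧸ D)) := by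
  classical
  set π := QuotientGroup.mk' D with hπ
  have hsurj : Function.Surjective π := QuotientGroup.mk'_surjective D
  obtain ⟨T⟩ : Nonempty (Sylow p H) := inferInstance
  set Tb : Sylow p (H ⧸ D) := T.mapSurjective hsurj with hTb
  have hDT : D ≤ (T : Subgroup H) := hD.le_sylow_of_normal T
  have hker : π.ker = D := QuotientGroup.ker_mk' D
  have hTcomap : ((Tb : Subgroup (H ⧸ D))).comap π = (T : Subgroup H) := by
    rw [hTb, Sylow.coe_mapSurjective, Subgroup.comap_map_eq, hker, sup_eq_left.mpr hDT]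
  have hB : ∀ Nb : Subgroup (H ⧸ D), Nb.Normal →
      (IsPClosed p ↥Nb ↔ IsPClosed p ↥(Nb.comap π)) := by
    intro Nb hNb
    have : (Nb.comap π).Normal := Subgroup.Normal.comap hNb π
    rw [isPClosed_iff_sylow_inf_normal Tb Nb, isPClosed_iff_sylow_inf_normal T (Nb.comap π)]
    have h1 : ((Tb : Subgroup (H ⧸ D)) ⊓ Nb).comap π = (T : Subgroup H) ⊓ Nb.comap π := by
      rw [Subgroup.comap_inf, hTcomap]
    constructor
    · intro h
      rw [← h1]; exact Subgroup.Normal.comap h π
    · intro h
      rw [← h1] at h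
      have := Subgroup.Normal.map h π hsurj
      rwa [Subgroup.map_comap_eq_self_of_surjective hsurj] at this
  have hF1 : IsPClosed p H ↔ IsPClosed p (H ⧸ D) := by
    rw [isPClosed_iff_sylow_normal T, isPClosed_iff_sylow_normal Tb]
    constructor
    · intro h
      rw [hTb, Sylow.coe_mapSurjective]
      exact Subgroup.Normal.map h π hsurj
    · intro h
      rw [← hTcomap]; exact Subgroup.Normal.comap h π
  have hres : (pResidual p H).map π = pResidual p (H ⧸ D) := map_pResidual_of_surjective π hsurj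
  have hcore : (pCore p (H ⧸ D)).comap π = pCore p H := comap_pCore_quotient D hD
  have hcm : ∀ N : Subgroup H, (N.map π).comap π = N ⊔ D := by
    intro N; rw [Subgroup.comap_map_eq, hker]
  have hND : ∀ N : Subgroup H, N.Normal → ¬ IsPClosed p ↥N → ¬ IsPClosed p ↥(N ⊔ D) := by
    intro N hN hncl hcl
    have hND' : (N ⊔ D).Normal := Subgroup.sup_normal N D
    apply hncl
    rw [isPClosed_iff_sylow_inf_normal T N]
    rw [isPClosed_iff_sylow_inf_normal T (N ⊔ D)] at hcl
    have : (T : Subgroup H) ⊓ N = ((T : Subgroup H) ⊓ (N ⊔ D)) ⊓ N := by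
      rw [inf_assoc, inf_eq_right.mpr (le_sup_left : N ≤ N ⊔ D)]
    rw [this]
    exact Subgroup.normal_inf_normal _ _
  have hle_of : ∀ N : Subgroup H, N.Normal → pResidual p (H ⧸ D) ≤ N.map π →
      pResidual p H ≤ N := by
    intro N hN h
    apply pResidual_le_of_le_sup D N hD
    rw [← hres, Subgroup.map_le_iff_le_comap, hcm] at h
    rw [sup_comm]; exact h
  have htop : (⊤ : Subgroup H).map π = ⊤ := Subgroup.map_top_of_surjective π hsurj
  refine ⟨⟨?_, ?_⟩, ⟨?_, ?_⟩⟩
  · rintro ⟨h1, h2⟩
    refine ⟨fun h => h1 (hF1.mpr h), ?_⟩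
    intro Nb hNb hncl
    have h3 : ¬ IsPClosed p ↥(Nb.comap π) := fun h => hncl ((hB Nb hNb).mpr h)
    have h4 := h2 (Nb.comap π) (Subgroup.Normal.comap hNb π) h3
    rw [← hres, Subgroup.map_le_iff_le_comap]
    exact h4
  · rintro ⟨h1, h2⟩
    refine ⟨fun h => h1 (hF1.mp h), ?_⟩
    intro N hN hncl
    apply hle_of N hN
    apply h2 (N.map π) (Subgroup.Normal.map hN π hsurj)
    rw [hB (N.map π) (Subgroup.Normal.map hN π hsurj), hcm]
    exact hND N hN hncl
  · rintro ⟨h1, h2⟩
    refine ⟨fun h => h1 (hF1.mpr h), ?_⟩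
    intro Nb hNb hnc
    have h3 : ¬ ⁅Nb.comap π, (⊤ : Subgroup H)⁆ ≤ pCore p H := by
      intro h
      apply hnc
      have h4 := Subgroup.map_mono (f := π) h
      rw [Subgroup.map_commutator, Subgroup.map_comap_eq_self_of_surjective hsurj, htop,
        ← hcore, Subgroup.map_comap_eq_self_of_surjective hsurj] at h4
      exact h4
    have h4 := h2 (Nb.comap π) (Subgroup.Normal.comap hNb π) h3
    rw [← hres, Subgroup.map_le_iff_le_comap]
    exact h4
  · rintro ⟨h1, h2⟩
    refine ⟨fun h => h1 (hF1.mp h), ?_⟩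
    intro N hN hnc
    apply hle_of N hN
    apply h2 (N.map π) (Subgroup.Normal.map hN π hsurj)
    intro h
    apply hnc
    rw [← hcore, ← Subgroup.map_le_iff_le_comap, Subgroup.map_commutator, htop]
    exact h

end Cfsg.Agent.S2828
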