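import Cfsg.Statements.S2829
import Cfsg.Agent.Lib.Helper47.Basic

set_option autoImplicit false
open Cfsg
open scoped commutatorElement

namespace Cfsg.Agent.S2829

/-- Every strongly p-irreducible finite group is p-irreducible. -/
theorem result {H : Type*} [Group H] [Finite H] {p : ℕ} [Fact p.Prime] (hH : Cfsg.IsStronglyPIrreducible p H) : Cfsg.IsPIrreducible p H := by
  refine ⟨hH.1, ?_⟩
  intro N hN hNc
  apply hH.2 N hN
  intro hle
  apply hNc
  intro P
  constructor
  intro x hx n
  -- n * x * n⁻¹ = ⁅n, x⁆ * x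
  have hD : ((pCore p H).subgroupOf N) ≤ (P : Subgroup ↥N) := by
    have : IsPGroup p ↥((pCore p H).subgroupOf N) := by
      have h1 := Cfsg.Agent.Lib.Helper47.pCore_isPGroup p H
      exact h1.comap_subtype
    exact this.le_sylow_of_normal P
  have hcomm : ⁅n, x⁆ ∈ (P : Subgroup ↥N) := by
    apply hD
    rw [Subgroup.mem_subgroupOf]
    apply hle
    have : ((⁅n, x⁆ : ↥N) : H) = ⁅(n : H), (x : H)⁆ := by
      simp [commutatorElement_def]
    rw [this]
    exact Subgroup.commutator_mem_commutator n.2 (Subgroup.mem_top _)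
  have : n * x * n⁻¹ = ⁅n, x⁆ * x := by
    simp [commutatorElement_def]
  rw [this]
  exact mul_mem hcomm hx

end Cfsg.Agent.S2829
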