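import Cfsg.Statements.S2830
import Cfsg.Agent.Lib.Helper47.PClosed

set_option autoImplicit false
open Cfsg
open Cfsg.Agent.Lib.Helper47
open scoped commutatorElement

namespace Cfsg.Agent.S2830

/-- Let H act by conjugation on the elementary abelian p-subgroup V of a finite group G (H ≤ N(V)), with H p-irreducible and O^p(H) not centralizing V. Then C_H(V) is p-closed and C_T(V) ≤ O_p(H) for every p-subgroup T of H. If in addition O_p(H) centralizes V, then C_T(V) = T ∩ O_p(H) for every p-subgroup T of H, and V is p-reduced for H: O_p(H/C_H(V)) = 1. -/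
theorem result {G : Type*} [Group G] [Finite G] {p : ℕ} [Fact p.Prime] (V H : Subgroup G) (hV : Cfsg.IsElementaryAbelian p V) (hHV : H ≤ Subgroup.normalizer (V : Set G)) (hH : Cfsg.IsPIrreducible p ↥H) (hnc : ¬ (Cfsg.pResidual p ↥H).map H.subtype ≤ Subgroup.centralizer (V : Set G)) [hn : ((Subgroup.centralizer (V : Set G)).subgroupOf H).Normal] : Cfsg.IsPClosed p ↥(H ⊓ Subgroup.centralizer (V : Set G)) ∧ (∀ T : Subgroup G, T ≤ H → IsPGroup p ↥T → T ⊓ Subgroup.centralizer (V : Set G) ≤ Cfsg.pCoreOf p H) ∧ (Cfsg.pCoreOf p H ≤ Subgroup.centralizer (V : Set G) → (∀ T : Subgroup G, T ≤ H → IsPGroup p ↥T → T ⊓ Subgroup.centralizer (V : Set G) = T ⊓ Cfsg.pCoreOf p H) ∧ Cfsg.pCore p (↥H ⧸ (Subgroup.centralizer (V : Set G)).subgroupOf H) = ⊥) := by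
  classical
  have hp : p.Prime := Fact.out
  set C : Subgroup G := Subgroup.centralizer (V : Set G) with hC
  set CH : Subgroup ↥H := C.subgroupOf H with hCH
  have hnc' : ¬ pResidual p ↥H ≤ CH := by
    intro h
    apply hnc
    rintro x ⟨y, hy, rfl⟩
    exact Subgroup.mem_subgroupOf.mp (h hy)
  have hcl : IsPClosed p ↥CH := by
    by_contra hncl
    exact hnc' (hH.2 CH hn hncl)
  have h1 : IsPClosed p ↥(H ⊓ C) := isPClosed_inf_of_subgroupOf hcl
  have hHC : H ≤ Subgroup.normalizer ((H ⊓ C : Subgroup G) : Set G) :=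
    (le_inf Subgroup.le_normalizer (hHV.trans (normalizer_le_normalizer_centralizer V))).trans
      (normalizer_inf_le_normalizer_inf H C)
  have h2 : ∀ T : Subgroup G, T ≤ H → IsPGroup p ↥T → T ⊓ C ≤ pCoreOf p H := by
    intro T hTH hTp
    exact le_pCoreOf_of_isPClosed h1 inf_le_left hHC (hTp.to_le inf_le_left)
      (inf_le_inf_right C hTH)
  refine ⟨h1, h2, ?_⟩
  intro hPC
  refine ⟨?_, ?_⟩
  · intro T hTH hTp
    apply le_antisymm
    · exact le_inf inf_le_left (h2 T hTH hTp)
    · exact inf_le_inf_left T hPC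
  · apply Cfsg.Agent.Lib.Helper46.pCore_quot_eq_bot_of CH
    intro D hD hCD hDp
    have hcoreC : pCore p ↥H ≤ CH := by
      intro x hx
      rw [hCH, Subgroup.mem_subgroupOf]
      exact hPC ⟨x, hx, rfl⟩
    by_cases hDcl : IsPClosed p ↥D
    · intro d hd
      obtain ⟨k, hk⟩ := hDp d hd
      have hpos : orderOf d ≠ 0 := (orderOf_pos d).ne'
      obtain ⟨a, m, hmp, ham⟩ := Nat.exists_eq_pow_mul_and_not_dvd hpos p hp.ne_one
      have hm : Nat.Coprime m p := (Nat.Coprime.symm ((Nat.Prime.coprime_iff_not_dvd hp).mpr hmp))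
      have hdm : (d ^ m) ^ (p ^ a) = 1 := by
        rw [← pow_mul, mul_comm, ← ham, pow_orderOf_eq_one]
      have hA : IsPGroup p ↥(Subgroup.zpowers (d ^ m)) := by
        rintro ⟨x, hx⟩
        obtain ⟨j, rfl⟩ := Subgroup.mem_zpowers_iff.mp hx
        refine ⟨a, Subtype.ext ?_⟩
        show ((d ^ m) ^ j) ^ (p ^ a) = 1
        rw [← zpow_natCast, ← zpow_mul, mul_comm, zpow_mul, zpow_natCast, hdm, one_zpow]
      have hAD : Subgroup.zpowers (d ^ m) ≤ D := by
        rw [Subgroup.zpowers_le]; exact D.pow_mem hd m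
      have h3 : d ^ m ∈ pCore p ↥H :=
        le_pCore_of_isPClosed (hXn := hD) hDcl hA hAD (Subgroup.mem_zpowers _)
      exact mem_of_pow_mem_of_coprime hm (hcoreC h3) hk
    · exfalso
      have h3 : pResidual p ↥H ≤ D := hH.2 D hD hDcl
      apply hnc'
      unfold pResidual
      rw [Subgroup.closure_le]
      intro g hg
      have hg' : Nat.Coprime (orderOf g) p := hg
      obtain ⟨k, hk⟩ := hDp g (h3 (Subgroup.subset_closure hg))
      have hcop : Nat.Coprime (p ^ k) (orderOf g) := (Nat.Coprime.pow_right k hg').symm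
      obtain ⟨j, hj⟩ := exists_pow_eq_self_of_coprime hcop
      rw [SetLike.mem_coe, ← hj]
      exact CH.pow_mem hk j

end Cfsg.Agent.S2830
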