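import Cfsg.Statements.S2831
import Cfsg.Agent.Lib.Helper47.Minimal

set_option autoImplicit false
open Cfsg

namespace Cfsg.Agent.S2831

/-- Let H be a finite group with Sylow p-subgroup T such that H is T-minimal (H is generated by the conjugates of T and T lies in exactly one maximal subgroup of H). Then H is p-irreducible: H is not p-closed and O^p(H) lies in every normal subgroup of H that is not p-closed. -/
theorem result {H : Type*} [Group H] [Finite H] {p : ℕ} [Fact p.Prime] (T : Sylow p H) (hmin : Cfsg.IsMinimalOver (T : Subgroup H)) : Cfsg.IsPIrreducible p H := by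
  obtain ⟨hnc, M, ⟨hMco, hTM⟩, huniq⟩ := hmin
  have claimA : ∀ K : Subgroup H, (T : Subgroup H) ≤ K → K ≠ ⊤ → K ≤ M := fun K hK1 hK2 =>
    Cfsg.Agent.Lib.Helper47.le_of_unique_coatom huniq hK1 hK2
  constructor
  · intro hcl
    have hTn : (T : Subgroup H).Normal := hcl T
    have h1 : Subgroup.normalClosure ((T : Subgroup H) : Set H) = T :=
      Subgroup.normalClosure_eq_self _
    rw [h1] at hnc
    have h2 : M = ⊤ := top_le_iff.mp (hnc ▸ hTM)
    exact hMco.1 h2
  · intro N hN hNc
    haveI := hN
    obtain ⟨P, hP⟩ := Cfsg.Agent.Lib.Helper47.exists_sylow_subgroupOf_normal T N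
    have hPn : ¬ (P : Subgroup ↥N).Normal := by
      intro hPn
      apply hNc
      intro P'
      haveI := Sylow.unique_of_normal P hPn
      have : P' = P := Subsingleton.elim _ _
      rw [this]; exact hPn
    have hfr := Sylow.normalizer_sup_eq_top P
    have hPmap : (P : Subgroup ↥N).map N.subtype = (T : Subgroup H) ⊓ N := by
      rw [hP, Subgroup.subgroupOf_map_subtype]
    rw [hPmap] at hfr
    set K := Subgroup.normalizer (((T : Subgroup H) ⊓ N : Subgroup H) : Set H) with hKdef
    have hTK : (T : Subgroup H) ≤ K := by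
      rw [hKdef, Subgroup.le_normalizer_iff]
      intro t ht x hx
      exact ⟨(T : Subgroup H).mul_mem ((T : Subgroup H).mul_mem ht hx.1) ((T : Subgroup H).inv_mem ht), hN.conj_mem x hx.2 t⟩
    by_cases hK : K = ⊤
    · exfalso
      apply hPn
      have hnorm : ((T : Subgroup H) ⊓ N).Normal := Subgroup.normalizer_eq_top_iff.mp hK
      have h3 : (((T : Subgroup H) ⊓ N).subgroupOf N).Normal := hnorm.subgroupOf N
      rw [Subgroup.inf_subgroupOf_right] at h3
      rw [hP]; exact h3
    · have hKM := claimA K hTK hK
      by_cases hTN : (T : Subgroup H) ⊔ N = ⊤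
      · exact Cfsg.Agent.Lib.Helper47.pResidual_le_of_sup_eq_top (T : Subgroup H) N T.isPGroup' hTN
      · exfalso
        have h4 := claimA ((T : Subgroup H) ⊔ N) le_sup_left hTN
        have hNM : N ≤ M := le_sup_right.trans h4
        have h5 : ⊤ ≤ M := by rw [← hfr]; exact sup_le hKM hNM
        exact hMco.1 (top_le_iff.mp h5)

end Cfsg.Agent.S2831
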