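import Cfsg.Statements.S2833
import Mathlib.Tactic.Group

set_option autoImplicit false
open Cfsg
open scoped commutatorElement

namespace Cfsg.Agent.S2833

variable {G : Type*} [Group G]

/-- elements `l` normalizing `W` with `[V, l] ⊆ W` -/
def commStab (V W : Subgroup G) : Subgroup G where
  carrier := {l | l ∈ Subgroup.normalizer (W : Set G) ∧ ∀ v ∈ V, ⁅v, l⁆ ∈ W}
  one_mem' := by
    refine ⟨one_mem _, ?_⟩
    intro v _
    simp [commutatorElement_def]
  mul_mem' := by
    rintro l l' ⟨hl, hl2⟩ ⟨hl', hl2'⟩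
    refine ⟨mul_mem hl hl', ?_⟩
    intro v hv
    have : ⁅v, l * l'⁆ = ⁅v, l⁆ * (l * ⁅v, l'⁆ * l⁻¹) := by
      simp only [commutatorElement_def]; group
    rw [this]
    exact mul_mem (hl2 v hv) ((Subgroup.mem_normalizer_iff.mp hl _).mp (hl2' v hv))
  inv_mem' := by
    rintro l ⟨hl, hl2⟩
    refine ⟨inv_mem hl, ?_⟩
    intro v hv
    have : ⁅v, l⁻¹⁆ = l⁻¹ * (⁅v, l⁆)⁻¹ * l⁻¹⁻¹ := by
      simp only [commutatorElement_def]; group
    rw [this]
    exact (Subgroup.mem_normalizer_iff.mp (inv_mem hl) _).mp (inv_mem (hl2 v hv))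

theorem commutator_sup_le (V W X Y : Subgroup G)
    (hX : X ≤ Subgroup.normalizer (W : Set G)) (hY : Y ≤ Subgroup.normalizer (W : Set G))
    (h1 : ⁅V, X⁆ ≤ W) (h2 : ⁅V, Y⁆ ≤ W) : ⁅V, X ⊔ Y⁆ ≤ W := by
  have hXC : X ≤ commStab V W := fun x hx =>
    ⟨hX hx, fun v hv => h1 (Subgroup.commutator_mem_commutator hv hx)⟩
  have hYC : Y ≤ commStab V W := fun y hy =>
    ⟨hY hy, fun v hv => h2 (Subgroup.commutator_mem_commutator hv hy)⟩
  have hC : X ⊔ Y ≤ commStab V W := sup_le hXC hYC
  rw [Subgroup.commutator_le]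
  intro v hv l hl
  exact (hC hl).2 v hv

/-- Let V be a subgroup of a finite group G normalized by the subgroup L, let X ≤ L and g ∈ L with [V, X, X] = 1 and L generated by X and gXg⁻¹. Put W = [V, L]. Then W = [V, X]·[V, gXg⁻¹], C_W(X) = [V, X], and C_W(L) = [V, X] ∩ [V, gXg⁻¹]. -/
theorem result {G : Type*} [Group G] [Finite G] (V L : Subgroup G) (hLV : L ≤ Subgroup.normalizer (V : Set G)) (X : Subgroup G) (hX : X ≤ L) (g : G) (hg : g ∈ L) (hq : ⁅⁅V, X⁆, X⁆ = ⊥) (hgen : X ⊔ X.map (MulAut.conj g).toMonoidHom = L) (W : Subgroup G) (hW : W = ⁅V, L⁆) : ⁅V, X⁆ ⊔ ⁅V, X.map (MulAut.conj g).toMonoidHom⁆ = W ∧ W ⊓ Subgroup.centralizer (X : Set G) = ⁅V, X⁆ ∧ W ⊓ Subgroup.centralizer (L : Set G) = ⁅V, X⁆ ⊓ ⁅V, X.map (MulAut.conj g).toMonoidHom⁆ := by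
  set φ : G →* G := (MulAut.conj g).toMonoidHom with hφ
  set Xg := X.map φ with hXg
  set A := ⁅V, X⁆ with hA
  set B := ⁅V, Xg⁆ with hB
  have hVφ : V.map φ = V := Subgroup.mem_normalizer_iff_map_conj_eq.mp (hLV hg)
  have hBA : B = A.map φ := by rw [hA, Subgroup.map_commutator, hVφ]
  have hXgL : Xg ≤ L := by rw [← hgen]; exact le_sup_right
  have hAV : A ≤ V := Subgroup.le_normalizer_iff_commutator_le_left.mp (hX.trans hLV)
  have hBV : B ≤ V := Subgroup.le_normalizer_iff_commutator_le_left.mp (hXgL.trans hLV)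
  have h1 : A ⊔ B ≤ ⁅V, L⁆ :=
    sup_le (Subgroup.commutator_mono le_rfl hX) (Subgroup.commutator_mono le_rfl hXgL)
  have hABV : A ⊔ B ≤ V := sup_le hAV hBV
  have hXN : X ≤ Subgroup.normalizer ((A ⊔ B : Subgroup G) : Set G) :=
    Subgroup.le_normalizer_iff_commutator_le_left.mpr
      ((Subgroup.commutator_mono hABV le_rfl).trans le_sup_left)
  have hXgN : Xg ≤ Subgroup.normalizer ((A ⊔ B : Subgroup G) : Set G) :=
    Subgroup.le_normalizer_iff_commutator_le_left.mpr
      ((Subgroup.commutator_mono hABV le_rfl).trans le_sup_right)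
  have h2 : ⁅V, L⁆ ≤ A ⊔ B := by
    rw [← hgen]
    exact commutator_sup_le V (A ⊔ B) X Xg hXN hXgN le_sup_left le_sup_right
  have hWAB : A ⊔ B = W := by rw [hW]; exact le_antisymm h1 h2
  -- centralizing facts
  have hAX : A ≤ Subgroup.centralizer (X : Set G) :=
    Subgroup.commutator_eq_bot_iff_le_centralizer.mp hq
  have hBXg : B ≤ Subgroup.centralizer (Xg : Set G) := by
    apply Subgroup.commutator_eq_bot_iff_le_centralizer.mp
    rw [hBA, hXg, ← Subgroup.map_commutator, hq, Subgroup.map_bot]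
  have hcentL : Subgroup.centralizer (X : Set G) ⊓ Subgroup.centralizer (Xg : Set G)
      ≤ Subgroup.centralizer (L : Set G) := by
    intro w ⟨hw1, hw2⟩
    have hX' : X ≤ Subgroup.centralizer ({w} : Set G) := by
      intro x hx
      rw [Subgroup.mem_centralizer_iff]
      intro y hy
      rw [Set.mem_singleton_iff] at hy
      subst hy
      exact (Subgroup.mem_centralizer_iff.mp hw1 x hx).symm
    have hXg' : Xg ≤ Subgroup.centralizer ({w} : Set G) := by
      intro x hx
      rw [Subgroup.mem_centralizer_iff]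
      intro y hy
      rw [Set.mem_singleton_iff] at hy
      subst hy
      exact (Subgroup.mem_centralizer_iff.mp hw2 x hx).symm
    have hL' : L ≤ Subgroup.centralizer ({w} : Set G) := by
      rw [← hgen]; exact sup_le hX' hXg'
    rw [Subgroup.mem_centralizer_iff]
    intro l hl
    have := Subgroup.mem_centralizer_iff.mp (hL' hl) w rfl
    exact this.symm
  have hgfix : ∀ w ∈ Subgroup.centralizer (L : Set G), φ w = w := by
    intro w hw
    have := Subgroup.mem_centralizer_iff.mp hw g hg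
    show g * w * g⁻¹ = w
    rw [this]; group
  have hBtoA : ∀ b ∈ B, b ∈ Subgroup.centralizer (L : Set G) → b ∈ A := by
    intro b hb hbL
    rw [hBA] at hb
    obtain ⟨c, hc, hcb⟩ := hb
    have h3 : φ b = b := hgfix b hbL
    have : c = b := by
      have hinj : Function.Injective φ := (MulAut.conj g).injective
      apply hinj
      rw [hcb, h3]
    rw [← this]; exact hc
  have hAtoB : ∀ a ∈ A, a ∈ Subgroup.centralizer (L : Set G) → a ∈ B := by
    intro a ha haL
    rw [hBA]
    exact ⟨a, ha, hgfix a haL⟩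
  have hcentmono : Subgroup.centralizer (L : Set G) ≤ Subgroup.centralizer (X : Set G) :=
    Subgroup.centralizer_le hX
  have part2 : W ⊓ Subgroup.centralizer (X : Set G) = A := by
    apply le_antisymm
    · intro w ⟨hwW, hwX⟩
      rw [← hWAB] at hwW
      have hAB : A ≤ Subgroup.normalizer (B : Set G) :=
        hAV.trans (Subgroup.normalizer_commutator_ge_left V Xg)
      have hmem : w ∈ ((A ⊔ B : Subgroup G) : Set G) := hwW
      rw [Subgroup.coe_mul_of_left_le_normalizer_right A B hAB] at hmem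
      obtain ⟨a, ha, b, hb, rfl⟩ := hmem
      have hbX : b ∈ Subgroup.centralizer (X : Set G) := by
        have : b = a⁻¹ * (a * b) := by group
        rw [this]
        exact mul_mem (inv_mem (hAX ha)) hwX
      have hbL : b ∈ Subgroup.centralizer (L : Set G) := hcentL ⟨hbX, hBXg hb⟩
      exact mul_mem ha (hBtoA b hb hbL)
    · exact le_inf (by rw [← hWAB]; exact le_sup_left) hAX
  refine ⟨hWAB, part2, ?_⟩
  apply le_antisymm
  · intro w ⟨hwW, hwL⟩
    have hwA : w ∈ A := by
      rw [← part2]; exact ⟨hwW, hcentmono hwL⟩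
    exact ⟨hwA, hAtoB w hwA hwL⟩
  · intro w ⟨hwA, hwB⟩
    refine ⟨?_, hcentL ⟨hAX hwA, hBXg hwB⟩⟩
    rw [← hWAB]; exact Subgroup.mem_sup_left hwA

end Cfsg.Agent.S2833
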