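import Cfsg.Statements.S2834
import Cfsg.Agent.Lib.Helper47.LLemma2

set_option autoImplicit false
open Cfsg
open Cfsg.Agent.Lib.Helper47 Cfsg.Agent.Lib.Helper33

namespace Cfsg.Agent.S2834

/-- The L-Lemma: let H be a finite group with Sylow p-subgroup T such that H is T-minimal (generated by the conjugates of T, T in exactly one maximal subgroup M), and let A ≤ T with A not contained in O_p(H). Then there is a subgroup L of H containing A·O_p(H) such that (a) A·O_p(L) lies in exactly one maximal subgroup L₀ of L, and L₀ = L ∩ gMg⁻¹ for some g ∈ H; (b) L = ⟨A, xAx⁻¹⟩·O_p(L) for every x ∈ L outside L₀. -/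
theorem result {H : Type*} [Group H] [Finite H] {p : ℕ} [Fact p.Prime] (T : Sylow p H) (hmin : Cfsg.IsMinimalOver (T : Subgroup H)) (M : Subgroup H) (hM : IsCoatom M ∧ (T : Subgroup H) ≤ M) (A : Subgroup H) (hAT : A ≤ (T : Subgroup H)) (hA : ¬ A ≤ Cfsg.pCore p H) : ∃ L : Subgroup H, A ⊔ Cfsg.pCore p H ≤ L ∧ ∃ L₀ : Subgroup H, A ⊔ (Cfsg.pCoreOf p L) ≤ L₀ ∧ L₀ < L ∧ (∀ X : Subgroup H, A ⊔ (Cfsg.pCoreOf p L) ≤ X → X < L → X ≤ L₀) ∧ (∃ g : H, L₀ = L ⊓ ((M : Subgroup H).map (MulAut.conj (g : H)).toMonoidHom)) ∧ ∀ x ∈ L, x ∉ L₀ → (A ⊔ ((A : Subgroup H).map (MulAut.conj (x : H)).toMonoidHom)) ⊔ (Cfsg.pCoreOf p L) = L := by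
  obtain ⟨M₀, hM₀, hu⟩ := hmin.2
  have hMM₀ : M = M₀ := hu M hM
  have huniq : ∀ Y : Subgroup H, (T : Subgroup H) ≤ Y → Y ≠ ⊤ → Y ≤ M := by
    intro Y hY hYt
    exact le_of_unique_coatom (fun M' hM' => (hu M' hM').trans hMM₀.symm) hY hYt
  have := lLemma T M hM.2 hM.1.1 huniq A hAT hA
  simp only [cj_def] at this
  exact this

end Cfsg.Agent.S2834
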