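import Cfsg.Statements.S2835
import Cfsg.Agent.Lib.Helper47.Minimal

set_option autoImplicit false
open Cfsg

namespace Cfsg.Agent.S2835

/-- Let L be a finite group, L₀ a maximal subgroup, T a Sylow p-subgroup of L₀ and Y ≤ T, and suppose L is Y-minimal (generated by the conjugates of Y, with Y in exactly one maximal subgroup, necessarily L₀). Then N_L(T) ≤ L₀, O_p(L) ≤ L₀ and T is a Sylow p-subgroup of L; N_L(L₀) = L₀; L = ⟨Y, gYg⁻¹⟩ for each g ∈ L outside L₀; and if Y is abelian then Y ∩ gYg⁻¹ = C_Y(L) for each such g. -/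
theorem result {L : Type*} [Group L] [Finite L] {p : ℕ} [Fact p.Prime] (L₀ : Subgroup L) (hL₀ : IsCoatom L₀) (T : Sylow p ↥L₀) (Y : Subgroup L) (hYT : Y ≤ (T : Subgroup ↥L₀).map L₀.subtype) (hmin : Cfsg.IsMinimalOver Y) : Subgroup.normalizer (((T : Subgroup ↥L₀).map L₀.subtype : Subgroup L) : Set L) ≤ L₀ ∧ Cfsg.pCore p L ≤ L₀ ∧ (∃ P : Sylow p L, (P : Subgroup L) = (T : Subgroup ↥L₀).map L₀.subtype) ∧ Subgroup.normalizer (L₀ : Set L) = L₀ ∧ (∀ g : L, g ∉ L₀ → Y ⊔ Y.map (MulAut.conj g).toMonoidHom = ⊤) ∧ (IsMulCommutative ↥Y → ∀ g : L, g ∉ L₀ → Y ⊓ Y.map (MulAut.conj g).toMonoidHom = Y ⊓ Subgroup.center L) := by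
  obtain ⟨hnc, M, ⟨hMco, hYM⟩, huniq⟩ := hmin
  set T' : Subgroup L := (T : Subgroup ↥L₀).map L₀.subtype with hT'
  have hT'L₀ : T' ≤ L₀ := by
    rw [hT']; exact Subgroup.map_subtype_le _
  have hYL₀ : Y ≤ L₀ := hYT.trans hT'L₀
  have hML₀ : L₀ = M := huniq L₀ ⟨hL₀, hYL₀⟩
  subst hML₀
  have claimA : ∀ K : Subgroup L, Y ≤ K → K ≠ ⊤ → K ≤ L₀ := fun K hK1 hK2 =>
    Cfsg.Agent.Lib.Helper47.le_of_unique_coatom huniq hK1 hK2
  have NC : ∀ K : Subgroup L, K.Normal → Y ≤ K → K = ⊤ := by
    intro K hK hYK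
    have : Subgroup.normalClosure (Y : Set L) ≤ K := Subgroup.normalClosure_le_normal hYK
    rw [hnc] at this
    exact top_le_iff.mp this
  have hT'p : IsPGroup p ↥T' := by
    rw [hT']; exact T.isPGroup'.map _
  -- Part 1
  have part1 : Subgroup.normalizer (T' : Set L) ≤ L₀ := by
    apply claimA _ (hYT.trans Subgroup.le_normalizer)
    intro h
    have hn : T'.Normal := Subgroup.normalizer_eq_top_iff.mp h
    have := NC T' hn hYT
    rw [this] at hT'L₀
    exact hL₀.1 (top_le_iff.mp hT'L₀)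
  -- Part 3
  have part3 : ∃ P : Sylow p L, (P : Subgroup L) = T' := by
    obtain ⟨P, hP⟩ := hT'p.exists_le_sylow
    refine ⟨P, ?_⟩
    -- P ⊓ L₀ = T'
    have h1 : (P : Subgroup L).subgroupOf L₀ = (T : Subgroup ↥L₀) := by
      have hle : (T : Subgroup ↥L₀) ≤ (P : Subgroup L).subgroupOf L₀ := by
        intro x hx
        rw [Subgroup.mem_subgroupOf]
        exact hP (Subgroup.mem_map_of_mem _ hx)
      exact T.is_maximal' (P.isPGroup'.comap_subtype) hle
    have h2 : (P : Subgroup L) ⊓ L₀ = T' := by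
      rw [hT', ← h1, Subgroup.subgroupOf_map_subtype]
    -- normalizer condition in P
    haveI : Group.IsNilpotent ↥(P : Subgroup L) := P.isPGroup'.isNilpotent
    have hNC : NormalizerCondition ↥(P : Subgroup L) := Group.normalizerCondition_of_isNilpotent
    by_contra hne
    have hlt : T'.subgroupOf (P : Subgroup L) < ⊤ := by
      rw [lt_top_iff_ne_top]
      intro h
      rw [Subgroup.subgroupOf_eq_top] at h
      exact hne (le_antisymm h hP)
    have h3 := hNC _ hlt
    rw [← Subgroup.subgroupOf_normalizer_eq hP] at h3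
    obtain ⟨x, hx1, hx2⟩ := SetLike.exists_of_lt h3
    rw [Subgroup.mem_subgroupOf] at hx1 hx2
    apply hx2
    rw [← h2]
    exact ⟨x.2, part1 hx1⟩
  obtain ⟨P, hPT'⟩ := part3
  have part2 : Cfsg.pCore p L ≤ L₀ := by
    have := Cfsg.Agent.Lib.Helper47.pCore_le_sylow P
    rw [hPT'] at this
    exact this.trans hT'L₀
  have part4 : Subgroup.normalizer (L₀ : Set L) = L₀ := by
    by_contra hne
    have hlt : L₀ < Subgroup.normalizer (L₀ : Set L) :=
      lt_of_le_of_ne Subgroup.le_normalizer (Ne.symm hne)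
    have htop := hL₀.2 _ hlt
    have hn : L₀.Normal := Subgroup.normalizer_eq_top_iff.mp htop
    exact hL₀.1 (NC L₀ hn hYL₀)
  have part5 : ∀ g : L, g ∉ L₀ → Y ⊔ Y.map (MulAut.conj g).toMonoidHom = ⊤ := by
    intro g hg
    by_contra hne
    have hle := claimA _ le_sup_left hne
    have hYg : Y.map (MulAut.conj g).toMonoidHom ≤ L₀ := le_sup_right.trans hle
    have h1 : Y ≤ L₀.comap (MulAut.conj g).toMonoidHom := Subgroup.map_le_iff_le_comap.mp hYg
    have h2 : IsCoatom (L₀.comap ((MulAut.conj g : L ≃* L) : L →* L)) :=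
      (Subgroup.isCoatom_comap (MulAut.conj g)).mpr hL₀
    have h3 := huniq _ ⟨h2, h1⟩
    apply hg
    rw [← part4, Subgroup.mem_normalizer_iff]
    intro h
    constructor
    · intro hh
      have : h ∈ L₀.comap ((MulAut.conj g : L ≃* L) : L →* L) := by rw [h3]; exact hh
      exact this
    · intro hh
      have : h ∈ L₀.comap ((MulAut.conj g : L ≃* L) : L →* L) := hh
      rw [h3] at this; exact this
  refine ⟨part1, part2, ⟨P, hPT'⟩, part4, part5, ?_⟩
  intro hcomm g hg
  have hgen := part5 g hg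
  apply le_antisymm
  · intro w ⟨hw1, hw2⟩
    refine ⟨hw1, ?_⟩
    have hYc : Y ≤ Subgroup.centralizer ({w} : Set L) := by
      intro y hy
      rw [Subgroup.mem_centralizer_iff]
      intro z hz
      rw [Set.mem_singleton_iff] at hz
      subst hz
      exact setLike_mul_comm hw1 hy
    have hYgc : Y.map (MulAut.conj g).toMonoidHom ≤ Subgroup.centralizer ({w} : Set L) := by
      intro y hy
      rw [Subgroup.mem_centralizer_iff]
      intro z hz
      rw [Set.mem_singleton_iff] at hz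
      subst hz
      obtain ⟨y', hy', rfl⟩ := hy
      obtain ⟨w', hw', hww'⟩ := hw2
      rw [← hww']
      have : w' * y' = y' * w' := setLike_mul_comm hw' hy'
      rw [← map_mul, ← map_mul, this]
    have htop : (⊤ : Subgroup L) ≤ Subgroup.centralizer ({w} : Set L) := by
      rw [← hgen]; exact sup_le hYc hYgc
    show w ∈ Subgroup.center L
    rw [Subgroup.mem_center_iff]
    intro x
    have := Subgroup.mem_centralizer_iff.mp (htop (Subgroup.mem_top x)) w rfl
    exact this.symm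
  · intro w ⟨hw1, hw2⟩
    refine ⟨hw1, ⟨w, hw1, ?_⟩⟩
    have hw2' : w ∈ Subgroup.center L := hw2
    have := Subgroup.mem_center_iff.mp hw2' g
    show g * w * g⁻¹ = w
    rw [this]; group

end Cfsg.Agent.S2835
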