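import Cfsg.Statements.S2836
import Cfsg.Agent.Lib.Helper45.YMinimal

set_option autoImplicit false
open Cfsg

namespace Cfsg.Agent.S2836

open Cfsg.Agent.Lib.Helper45

/-- Let L be a finite group, L₀ a maximal subgroup, T a Sylow p-subgroup of L₀, Y ≤ T, and suppose L is Y-minimal. Let D be the intersection of the conjugates of L₀ (the core of L₀). Then D contains O_p(L) and D/O_p(L) is the Frattini subgroup of L/O_p(L), so D is p-closed; and every normal subgroup N of L contained in L₀ is p-closed with N/O_p(N) a nilpotent group of order prime to p. -/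
theorem result {L : Type*} [Group L] [Finite L] {p : ℕ} [Fact p.Prime] (L₀ : Subgroup L) (hL₀ : IsCoatom L₀) (T : Sylow p ↥L₀) (Y : Subgroup L) (hYT : Y ≤ (T : Subgroup ↥L₀).map L₀.subtype) (hmin : Cfsg.IsMinimalOver Y) : (Cfsg.pCore p L ≤ L₀.normalCore ∧ (L₀.normalCore).map (QuotientGroup.mk' (Cfsg.pCore p L)) = frattini (L ⧸ Cfsg.pCore p L) ∧ Cfsg.IsPClosed p ↥(L₀.normalCore)) ∧ ∀ (N : Subgroup L) [N.Normal], N ≤ L₀ → Cfsg.IsPClosed p ↥N ∧ Group.IsNilpotent (↥N ⧸ Cfsg.pCore p ↥N) ∧ (Nat.card (↥N ⧸ Cfsg.pCore p ↥N)).Coprime p := by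
  obtain ⟨-, hO, ⟨P, hP⟩, -, -, -⟩ := Cfsg.Agent.S2835.result L₀ hL₀ T Y hYT hmin
  obtain ⟨hnc, M, ⟨hMco, hYM⟩, huniq⟩ := hmin
  have hYL₀ : Y ≤ L₀ := hYT.trans (Subgroup.map_subtype_le _)
  have hML₀ : L₀ = M := huniq L₀ ⟨hL₀, hYL₀⟩
  have hctx : YMinCtx p L₀ Y P :=
    { coatom := hL₀
      le_sylow := by rw [hP]; exact hYT
      uniq := fun M' hM' => (huniq M' hM').trans hML₀.symm
      pCore_le := hO
      closure := hnc }
  refine ⟨⟨Subgroup.normal_le_normalCore.mpr hO, hctx.map_normalCore_eq_frattini,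
    hctx.isPClosed L₀.normalCore L₀.normalCore_le⟩, ?_⟩
  intro N hN hNL
  exact ⟨hctx.isPClosed N hNL, hctx.isNilpotent_quotient N hNL, hctx.coprime_card_quotient N hNL⟩

end Cfsg.Agent.S2836
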