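import Cfsg.Statements.S2840
import Cfsg.Agent.Lib.Helper47.WC3

set_option autoImplicit false
open Cfsg
open Cfsg.Agent.Lib.Helper47

namespace Cfsg.Agent.S2840

/-- Let Q be a nontrivial p-subgroup of the finite group H that is a weakly closed subgroup and K a subgroup containing Q; let K° be the weak closure of Q in K (generated by the H-conjugates of Q inside K). Then K° is generated by the K-conjugates of Q, and K° is the subnormal closure of Q in K. -/
theorem result {H : Type*} [Group H] [Finite H] {p : ℕ} [Fact p.Prime] (Q : Subgroup H) (hQp : IsPGroup p ↥Q) (hQ1 : Q ≠ ⊥) (hwc : Cfsg.IsWeaklyClosedSubgroup p Q) (K : Subgroup H) (hQK : Q ≤ K) (Kc : Subgroup H) (hKc : Kc = Cfsg.weakClosure Q K) : Kc = ⨆ k : ↥K, ((Q : Subgroup H).map (MulAut.conj ((k : H) : H)).toMonoidHom) ∧ Kc = (Cfsg.subnormalClosure (Q.subgroupOf K)).map K.subtype := by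
  classical
  have hpart1 : Kc = ⨆ k : ↥K, ((Q : Subgroup H).map (MulAut.conj ((k : H) : H)).toMonoidHom) := by
    rw [hKc]
    unfold weakClosure
    apply le_antisymm
    · apply iSup_le
      rintro ⟨g, hg⟩
      obtain ⟨k, hk, hgk⟩ := wc_conj_in_overgroup hQp hQ1 hwc hQK g hg
      show Q.map (MulAut.conj g).toMonoidHom ≤ _
      rw [hgk]
      exact le_iSup (fun k : ↥K => Q.map (MulAut.conj (k : H)).toMonoidHom) ⟨k, hk⟩
    · apply iSup_le
      intro k
      have hk : Q.map (MulAut.conj (k : H)).toMonoidHom ≤ K := by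
        intro y hy
        rw [mem_map_conj] at hy
        have h1 : y = (k : H) * ((k : H)⁻¹ * y * (k : H)) * (k : H)⁻¹ := by group
        rw [h1]
        exact K.mul_mem (K.mul_mem k.2 (hQK hy)) (K.inv_mem k.2)
      exact le_iSup (fun g : {g : H // Q.map (MulAut.conj g).toMonoidHom ≤ K} =>
        Q.map (MulAut.conj (g : H)).toMonoidHom) ⟨(k : H), hk⟩
  refine ⟨hpart1, ?_⟩
  rw [hpart1]
  have hQk : IsPGroup p ↥(Q.subgroupOf K) := hQp.comap_subtype
  rw [wc_subnormalClosure_eq hQk (subgroupOf_ne_bot hQ1 hQK) (wc_subgroupOf hQp hQ1 hwc hQK)]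
  unfold conjJoin
  rw [Subgroup.map_iSup]
  congr 1
  funext k
  rw [subgroupOf_map_conj]
  symm
  apply Subgroup.map_subgroupOf_eq_of_le
  intro y hy
  rw [mem_map_conj] at hy
  have h1 : y = (k : H) * ((k : H)⁻¹ * y * (k : H)) * (k : H)⁻¹ := by group
  rw [h1]
  exact K.mul_mem (K.mul_mem k.2 (hQK hy)) (K.inv_mem k.2)

end Cfsg.Agent.S2840
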