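import Cfsg.Statements.S2843
import Cfsg.Agent.Lib.Helper47.Large3

set_option autoImplicit false
open Cfsg
open Cfsg.Agent.Lib.Helper47
open scoped commutatorElement

namespace Cfsg.Agent.S2843

/-- Let Q be a nontrivial large p-subgroup of the finite group H, Q ≤ L ≤ H, and Y a nontrivial p-subgroup of H normalized by L. Let L° be the weak closure of Q in L (generated by the conjugates of Q inside L). Then L° equals the weak closure of Q in L·C_H(Y), and [L°, C_H(Y)] ≤ O_p(L°); in particular C_H(Y) normalizes L°. -/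
theorem result {H : Type*} [Group H] [Finite H] {p : ℕ} [Fact p.Prime] (Q : Subgroup H) (hQp : IsPGroup p ↥Q) (hQ1 : Q ≠ ⊥) (hL : Cfsg.IsLarge Q) (L : Subgroup H) (hQL : Q ≤ L) (Y : Subgroup H) (hYp : IsPGroup p ↥Y) (hY1 : Y ≠ ⊥) (hLY : L ≤ Subgroup.normalizer ((Y : Subgroup H) : Set H)) : Cfsg.weakClosure Q L = Cfsg.weakClosure Q (L ⊔ Subgroup.centralizer ((Y : Subgroup H) : Set H)) ∧ ⁅Cfsg.weakClosure Q L, Subgroup.centralizer ((Y : Subgroup H) : Set H)⁆ ≤ (Cfsg.pCoreOf p (Cfsg.weakClosure Q L)) ∧ Subgroup.centralizer ((Y : Subgroup H) : Set H) ≤ Subgroup.normalizer (((Cfsg.weakClosure Q L) : Subgroup H) : Set H) := by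
  classical
  set C : Subgroup H := Subgroup.centralizer ((Y : Subgroup H) : Set H) with hC
  have hwc : IsWeaklyClosedSubgroup p Q := large_wc hQp hQ1 hL
  -- C normalizes every conjugate of Q inside L
  have hCg : ∀ g : H, Q.map (MulAut.conj g).toMonoidHom ≤ L →
      C ≤ Subgroup.normalizer ((Q.map (MulAut.conj g).toMonoidHom : Subgroup H) : Set H) := by
    intro g hg
    exact large_centralizer_le_normalizer (isPGroup_map_conj hQp g) (isLarge_map_conj hL g) hYp hY1
      (hg.trans hLY)
  have hCQ : C ≤ Subgroup.normalizer (Q : Set H) :=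
    large_centralizer_le_normalizer hQp hL hYp hY1 (hQL.trans hLY)
  have hLC : L ≤ Subgroup.normalizer (C : Set H) :=
    hLY.trans (normalizer_le_normalizer_centralizer Y)
  set W₀ : Subgroup H := weakClosure Q L with hW₀
  have hW₀L : W₀ ≤ L := weakClosure_le_self Q L
  -- (3)
  have h3 : C ≤ Subgroup.normalizer ((W₀ : Subgroup H) : Set H) := by
    rw [hW₀]
    unfold weakClosure
    refine le_trans ?_ (Subgroup.iInf_normalizer_le_normalizer_iSup _)
    apply le_iInf
    rintro ⟨g, hg⟩
    exact hCg g hg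
  -- (1)
  have h1 : W₀ = weakClosure Q (L ⊔ C) := by
    apply le_antisymm
    · apply weakClosure_le
      intro g hg
      exact le_weakClosure (hg.trans le_sup_left)
    · apply weakClosure_le
      intro g hg
      obtain ⟨m, hm, hgm⟩ := wc_conj_in_overgroup hQp hQ1 hwc (hQL.trans le_sup_left) g hg
      have hm' : m ∈ ((L ⊔ C : Subgroup H) : Set H) := hm
      rw [Subgroup.coe_mul_of_left_le_normalizer_right L C hLC] at hm'
      obtain ⟨l, hl, c, hc, rfl⟩ := hm'
      have hl' : l ∈ L := hl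
      have hc' : c ∈ C := hc
      have h2 : Q.map (MulAut.conj (l * c)).toMonoidHom = Q.map (MulAut.conj l).toMonoidHom := by
        rw [← map_conj_map_conj, map_conj_eq_iff_mem_normalizer.mpr (hCQ hc')]
      rw [hgm, h2]
      exact le_weakClosure (map_conj_le_of_mem hQL hl')
  refine ⟨h1, ?_, h3⟩
  -- (2)
  set W : Subgroup H := pCoreOf p C ⊓ W₀ with hW
  have hWp : IsPGroup p ↥W := (pCoreOf_isPGroup p C).to_le inf_le_left
  have hW₀W : W₀ ≤ Subgroup.normalizer (W : Set H) := by
    refine le_trans ?_ (normalizer_inf_le_normalizer_inf _ _)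
    apply le_inf
    · exact (hW₀L.trans hLC).trans (normalizer_le_normalizer_pCoreOf p C)
    · exact Subgroup.le_normalizer
  have hWle : W ≤ pCoreOf p W₀ := le_pCoreOf inf_le_right hW₀W hWp
  refine le_trans ?_ hWle
  rw [Subgroup.commutator_comm]
  apply commutator_le_of_le_commStab
  apply weakClosure_le
  intro g hg
  set Qg := Q.map (MulAut.conj g).toMonoidHom with hQg
  have hQgW₀ : Qg ≤ W₀ := le_weakClosure hg
  intro x hx
  refine ⟨hW₀W (hQgW₀ hx), ?_⟩
  intro c hc
  have hcx : ⁅c, x⁆ ∈ Qg := by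
    have : ⁅C, Qg⁆ ≤ Qg := Subgroup.le_normalizer_iff_commutator_le_right.mp (hCg g hg)
    exact this (Subgroup.commutator_mem_commutator hc hx)
  have hcx2 : ⁅c, x⁆ ∈ C := by
    have : ⁅C, Qg⁆ ≤ C := Subgroup.le_normalizer_iff_commutator_le_left.mp (hg.trans hLC)
    exact this (Subgroup.commutator_mem_commutator hc hx)
  refine ⟨?_, hQgW₀ hcx⟩
  have hX : C ⊓ Qg ≤ pCoreOf p C := by
    apply le_pCoreOf inf_le_left
    · refine le_trans ?_ (normalizer_inf_le_normalizer_inf _ _)
      exact le_inf Subgroup.le_normalizer (hCg g hg)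
    · exact (isPGroup_map_conj hQp g).to_le inf_le_right
  exact hX ⟨hcx2, hcx⟩

end Cfsg.Agent.S2843
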