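import Cfsg.Statements.S2844
import Cfsg.Agent.Lib.Helper47.Large
import Cfsg.Agent.Lib.Helper47.PCoreOf

set_option autoImplicit false
open Cfsg

namespace Cfsg.Agent.S2844

/-- Let Q be a nontrivial large p-subgroup of the finite group H and Q• = O_p(N_H(Q)). Then for every g ∈ H outside N_H(Q): C_H(Q) ∩ C_H(gQg⁻¹) = 1, C_H(Q•) ∩ C_H(gQ•g⁻¹) = 1, Z(Q) ∩ Z(gQg⁻¹) = 1 and Z(Q•) ∩ Z(gQ•g⁻¹) = 1; moreover N_H(Q) = N_H(Q•) and Q• is large in H. -/
theorem result {H : Type*} [Group H] [Finite H] {p : ℕ} [Fact p.Prime] (Q : Subgroup H) (hQp : IsPGroup p ↥Q) (hQ1 : Q ≠ ⊥) (hL : Cfsg.IsLarge Q) (Qb : Subgroup H) (hQb : Qb = Cfsg.largeBullet p Q) : (∀ g : H, g ∉ Subgroup.normalizer ((Q : Subgroup H) : Set H) → Subgroup.centralizer ((Q : Subgroup H) : Set H) ⊓ Subgroup.centralizer ((((Q : Subgroup H).map (MulAut.conj (g : H)).toMonoidHom) : Subgroup H) : Set H) = ⊥ ∧ Subgroup.centralizer ((Qb : Subgroup H) : Set H) ⊓ Subgroup.centralizer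 ((((Qb : Subgroup H).map (MulAut.conj (g : H)).toMonoidHom) : Subgroup H) : Set H) = ⊥ ∧ (Q ⊓ Subgroup.centralizer ((Q : Subgroup H) : Set H)) ⊓ (((Q : Subgroup H).map (MulAut.conj (g : H)).toMonoidHom) ⊓ Subgroup.centralizer ((((Q : Subgroup H).map (MulAut.conj (g : H)).toMonoidHom) : Subgroup H) : Set H)) = ⊥ ∧ (Qb ⊓ Subgroup.centralizer ((Qb : Subgroup H) : Set H)) ⊓ (((Qb : Subgroup H).map (MulAut.conj (g : H)).toMonoidHom) ⊓ Subgroup.centralizer ((((Qb : Subgroup H).map (MulAut.conj (g : H)).toMonoidHom) : Subgroup H) : Set H)) = ⊥) ∧ Subgroup.normalizer ((Q : Subgroup H) : Set H) = Subgroup.normalizer ((Qb : Subgroup H) : Set H) ∧ Cfsg.IsLarge Qb := by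
  set N := Subgroup.normalizer ((Q : Subgroup H) : Set H) with hN
  have hQbdef : Qb = Cfsg.pCoreOf p N := hQb
  have hQQb : Q ≤ Qb := by
    rw [hQbdef]
    exact Cfsg.Agent.Lib.Helper47.le_pCoreOf Subgroup.le_normalizer le_rfl hQp
  have hQbp : IsPGroup p ↥Qb := by
    rw [hQbdef]; exact Cfsg.Agent.Lib.Helper47.pCoreOf_isPGroup p N
  have hQb1 : Qb ≠ ⊥ := fun h => hQ1 (le_bot_iff.mp (h ▸ hQQb))
  have hN1 : N ≤ Subgroup.normalizer ((Qb : Subgroup H) : Set H) := by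
    rw [hQbdef]; exact Cfsg.Agent.Lib.Helper47.le_normalizer_pCoreOf p N
  have hN2 : Subgroup.normalizer ((Qb : Subgroup H) : Set H) ≤ N :=
    Cfsg.Agent.Lib.Helper47.large_normalizer_le hQ1 hL hQbp hQQb
  have hNeq : N = Subgroup.normalizer ((Qb : Subgroup H) : Set H) := le_antisymm hN1 hN2
  have hCle : Subgroup.centralizer ((Qb : Subgroup H) : Set H) ≤
      Subgroup.centralizer ((Q : Subgroup H) : Set H) := Subgroup.centralizer_le hQQb
  refine ⟨?_, hNeq, ?_⟩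
  · intro g hg
    have h1 := Cfsg.Agent.Lib.Helper47.large_centralizer_inf hQp hQ1 hL hg
    have hCgle : Subgroup.centralizer ((Qb.map (MulAut.conj g).toMonoidHom : Subgroup H) : Set H) ≤
        Subgroup.centralizer ((Q.map (MulAut.conj g).toMonoidHom : Subgroup H) : Set H) :=
      Subgroup.centralizer_le (Subgroup.map_mono hQQb)
    have h2 : Subgroup.centralizer ((Qb : Subgroup H) : Set H) ⊓
        Subgroup.centralizer ((Qb.map (MulAut.conj g).toMonoidHom : Subgroup H) : Set H) = ⊥ := by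
      rw [eq_bot_iff, ← h1]
      exact inf_le_inf hCle hCgle
    refine ⟨h1, h2, ?_, ?_⟩
    · rw [eq_bot_iff, ← h1]
      exact inf_le_inf inf_le_right inf_le_right
    · rw [eq_bot_iff, ← h2]
      exact inf_le_inf inf_le_right inf_le_right
  · constructor
    · exact hCle.trans (hL.1.trans hQQb)
    · intro U hU hU1
      rw [← hNeq]
      exact hL.2 U (hU.trans hCle) hU1

end Cfsg.Agent.S2844
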