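import Cfsg.Statements.S2846
import Cfsg.Agent.Lib.Helper47.WCL
import Cfsg.Agent.S2843
import Cfsg.Agent.S2845

set_option autoImplicit false
open Cfsg
open Cfsg.Agent.Lib.Helper47
open scoped commutatorElement

namespace Cfsg.Agent.S2846

/-- Let Q be a nontrivial large p-subgroup of the finite group H, S a Sylow p-subgroup containing Q, and L a subgroup containing S with O_p(L) ≠ 1 and C_H(O_p(L)) ≤ O_p(L). Then there are a subgroup M containing S having the basic property (M ∈ 𝔐_H, writing Y_X for the largest p-reduced normal subgroup of X and 𝓛_H for the set of subgroups X with O_p(X) ≠ 1 and C_H(O_p(X)) ≤ O_p(X): M ∈ 𝓛_H, M·C_H(Y_M) is the only maximal member of 𝓛_H containing M and its largest p-reduced normal subgroup is again Y_M, C_M(Y_M) is p-closed, and the image of C_M(Y_M) in M/O_p(M) lies in the Frattini subgroup of M/O_p(M)) and a subgroup L* with S ≤ L* ≤ M, O_p(L*) ≠ 1, C_H(O_p(L*)) ≤ O_p(L*), such that L·C_H(Y_L)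 = L*·C_H(Y_L), the weak closures of Q in L and in L* agree and lie in that of M, and Y_L = Y_{L*} ≤ Y_M. If moreover Q is not normal in L, then Q is normal in neither L* nor M. -/
theorem result {H : Type*} [Group H] [Finite H] {p : ℕ} [Fact p.Prime] (Q : Subgroup H) (hQp : IsPGroup p ↥Q) (hQ1 : Q ≠ ⊥) (hLg : Cfsg.IsLarge Q) (S : Sylow p H) (hQS : Q ≤ (S : Subgroup H)) (L : Subgroup H) (hSL : (S : Subgroup H) ≤ L) (hL : L ∈ Cfsg.charPSubgroups p H) : ∃ M Ls : Subgroup H, (S : Subgroup H) ≤ M ∧ Cfsg.IsInFrakM p M ∧ (S : Subgroup H) ≤ Ls ∧ Ls ≤ M ∧ Ls ∈ Cfsg.charPSubgroups p H ∧ L ⊔ Subgroup.centralizer (((Cfsg.largestPReducedOf p L) : Subgroup H) : Set H) = Ls ⊔ Subgroup.centralizer (((Cfsg.largestPReducedOf p L) : Subgroup H) : Set H) ∧ Cfsg.weakClosure Q L = Cfsg.weakClosure Q Ls ∧ Cfsg.weakClosure Q Ls ≤ Cfsg.weakClosure Q M ∧ (Cfsg.largestPReducedOf p L) = (Cfsg.largestPReducedOf p Ls) ∧ (Cfsg.largestPReducedOf p Ls) ≤ (Cfsg.largestPReducedOf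 p M) ∧ (¬ L ≤ Subgroup.normalizer ((Q : Subgroup H) : Set H) → ¬ Ls ≤ Subgroup.normalizer ((Q : Subgroup H) : Set H) ∧ ¬ M ≤ Subgroup.normalizer ((Q : Subgroup H) : Set H)) := by
  classical
  obtain ⟨_, hpar2, _⟩ := Cfsg.Agent.S2845.result Q hQp hQ1 hLg
  have hpar : ∀ R : Subgroup H, (S : Subgroup H) ≤ R → pCore p ↥R ≠ ⊥ → R ∈ charPSubgroups p H := by
    intro R hSR hR1
    exact ⟨hR1, hpar2 R ⟨S, hSR⟩ hR1⟩
  obtain ⟨M, Ls, hSM, hMF, hSLs, hLsM, hLsL, hYeq, hYM, hsup⟩ := exists_frakM S hpar L hSL hL.1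
  have hwc : IsWeaklyClosedSubgroup p Q := large_wc hQp hQ1 hLg
  have hS1 : (S : Subgroup H) ≠ ⊥ := by
    intro h
    rw [h, le_bot_iff] at hQS
    exact hQ1 hQS
  have hLc := charp_of_mem_charPSubgroups hL
  set Y : Subgroup H := largestPReducedOf p L with hY
  have hYp : IsPGroup p ↥Y := largestPReducedOf_isPGroup p L
  have hY1 : Y ≠ ⊥ := largestPReducedOf_ne_bot S hS1 hSL hLc
  have hLY : L ≤ Subgroup.normalizer (Y : Set H) := le_normalizer_largestPReducedOf p L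
  have hLsY : Ls ≤ Subgroup.normalizer (Y : Set H) := by
    have h1 : Ls ≤ L ⊔ Subgroup.centralizer (Y : Set H) := by rw [hsup]; exact le_sup_left
    exact h1.trans (sup_le hLY (Subgroup.centralizer_le_normalizer _))
  have hQL : Q ≤ L := hQS.trans hSL
  have hQLs : Q ≤ Ls := hQS.trans hSLs
  have hw1 := (Cfsg.Agent.S2843.result Q hQp hQ1 hLg L hQL Y hYp hY1 hLY).1
  have hw2 := (Cfsg.Agent.S2843.result Q hQp hQ1 hLg Ls hQLs Y hYp hY1 hLsY).1
  have hweq : weakClosure Q L = weakClosure Q Ls := by rw [hw1, hw2, hsup]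
  refine ⟨M, Ls, hSM, hMF, hSLs, hLsM, hLsL, hsup, hweq, weakClosure_mono Q hLsM, hYeq, ?_, ?_⟩
  · rw [← hYeq]; exact hYM
  · intro hLQ
    have hLs : ¬ Ls ≤ Subgroup.normalizer (Q : Set H) := by
      intro h
      apply hLQ
      have h1 : weakClosure Q Ls = Q := weakClosure_eq_self_of_le_normalizer hQp hQ1 hwc hQLs h
      have h2 := le_normalizer_weakClosure Q L
      rwa [hweq, h1] at h2
    exact ⟨hLs, fun h => hLs (hLsM.trans h)⟩

end Cfsg.Agent.S2846
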