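import Cfsg.Statements.S2848
import Cfsg.Agent.Lib.Helper47.FrakM

set_option autoImplicit false
open Cfsg
open Cfsg.Agent.Lib.Helper47
open scoped commutatorElement

namespace Cfsg.Agent.S2848

/-- Standing hypotheses: G a finite group, S a Sylow p-subgroup, Q a nontrivial large p-subgroup of G contained in S (C_G(Q) ≤ Q and N_G(U) ≤ N_G(Q) for all nontrivial U ≤ C_G(Q)), and M a subgroup containing S with the basic property (M ∈ 𝔐_G(S)); Y_M denotes the largest p-reduced normal subgroup of M and M† = M·C_G(Y_M). Then O_p(M) is a weakly closed subgroup of M† (for p): it is the only M†-conjugate of itself inside some Sylow p-subgroup of M† containing it. -/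
theorem result {G : Type*} [Group G] [Finite G] {p : ℕ} [Fact p.Prime] (S : Sylow p G) (Q : Subgroup G) (hQp : IsPGroup p ↥Q) (hQ1 : Q ≠ ⊥) (hQS : Q ≤ (S : Subgroup G)) (hQ : Cfsg.IsLarge Q) (M : Subgroup G) (hSM : (S : Subgroup G) ≤ M) (hM : Cfsg.IsInFrakM p M) : Cfsg.IsWeaklyClosedSubgroup p (((Cfsg.pCoreOf p M)).subgroupOf (M ⊔ Subgroup.centralizer (((Cfsg.largestPReducedOf p M) : Subgroup G) : Set G))) := by
  classical
  set Y : Subgroup G := largestPReducedOf p M with hY
  set C : Subgroup G := Subgroup.centralizer ((Y : Subgroup G) : Set G) with hC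
  set Md : Subgroup G := M ⊔ C with hMd
  set P : Subgroup G := pCoreOf p M with hP
  have hPp : IsPGroup p ↥P := pCoreOf_isPGroup p M
  have hPC : P ≤ C := pCoreOf_le_centralizer_largestPReducedOf p M
  have hPS : P ≤ (S : Subgroup G) := pCoreOf_le_sylow S hSM
  have hMY : M ≤ Subgroup.normalizer (Y : Set G) := le_normalizer_largestPReducedOf p M
  have hMC : M ≤ Subgroup.normalizer (C : Set G) :=
    hMY.trans (normalizer_le_normalizer_centralizer Y)
  have hMdC : Md ≤ Subgroup.normalizer (C : Set G) := sup_le hMC Subgroup.le_normalizer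
  have hcl : IsPClosed p ↥(M ⊓ C) := hM.2.2.2.2.1
  have hSMd : (S : Subgroup G) ≤ Md := hSM.trans le_sup_left
  have hPMd : P ≤ Md := hPS.trans hSMd
  -- key: conjugates of P under Md inside S equal P
  have key : ∀ g ∈ Md, P.map (MulAut.conj g).toMonoidHom ≤ (S : Subgroup G) →
      P.map (MulAut.conj g).toMonoidHom = P := by
    intro g hg hgS
    have h1 : P.map (MulAut.conj g).toMonoidHom ≤ C := by
      have h2 := Subgroup.map_mono (f := (MulAut.conj g).toMonoidHom) hPC
      rwa [map_conj_eq_iff_mem_normalizer.mpr (hMdC hg)] at h2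
    have h3 : P.map (MulAut.conj g).toMonoidHom ≤ P := by
      apply le_pCoreOf_of_isPClosed hcl inf_le_left
        ((le_inf Subgroup.le_normalizer hMC).trans (normalizer_inf_le_normalizer_inf M C))
        (isPGroup_map_conj hPp g)
      exact le_inf (hgS.trans hSM) h1
    exact Subgroup.eq_of_le_of_card_ge h3 (card_map_conj P g).ge
  refine ⟨S.subtype hSMd, ?_, ?_⟩
  · rw [Sylow.coe_subtype]
    intro x hx
    rw [Subgroup.mem_subgroupOf] at hx ⊢
    exact hPS hx
  · intro g hg
    rw [Sylow.coe_subtype, subgroupOf_map_conj] at hg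
    rw [subgroupOf_map_conj]
    have h1 : P.map (MulAut.conj (g : G)).toMonoidHom ≤ Md := map_conj_le_of_mem hPMd g.2
    have h2 : P.map (MulAut.conj (g : G)).toMonoidHom ≤ (S : Subgroup G) := by
      intro x hx
      have := hg (show (⟨x, h1 hx⟩ : ↥Md) ∈ (P.map (MulAut.conj (g : G)).toMonoidHom).subgroupOf Md from
        Subgroup.mem_subgroupOf.mpr hx)
      exact Subgroup.mem_subgroupOf.mp this
    rw [key (g : G) g.2 h2]

end Cfsg.Agent.S2848
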