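import Cfsg.Statements.S2849
import Cfsg.Agent.Lib.Helper47.ElemAb

set_option autoImplicit false
open Cfsg
open Cfsg.Agent.Lib.Helper47
open scoped commutatorElement

namespace Cfsg.Agent.S2849

/-- Standing hypotheses: G a finite group, S a Sylow p-subgroup, Q a nontrivial large p-subgroup of G contained in S (C_G(Q) ≤ Q and N_G(U) ≤ N_G(Q) for all nontrivial U ≤ C_G(Q)), and M a subgroup containing S with the basic property (M ∈ 𝔐_G(S)); Y_M denotes the largest p-reduced normal subgroup of M and M† = M·C_G(Y_M). Suppose Y_M is asymmetric in G. Then for every subgroup R with Y_M ≤ R ≤ M†, the normal closure of Y_M in N_G(R) is elementary abelian. -/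
theorem result {G : Type*} [Group G] [Finite G] {p : ℕ} [Fact p.Prime] (S : Sylow p G) (Q : Subgroup G) (hQp : IsPGroup p ↥Q) (hQ1 : Q ≠ ⊥) (hQS : Q ≤ (S : Subgroup G)) (hQ : Cfsg.IsLarge Q) (M : Subgroup G) (hSM : (S : Subgroup G) ≤ M) (hM : Cfsg.IsInFrakM p M) (hasym : ¬ Cfsg.IsSymmetricIn (Cfsg.largestPReducedOf p M)) (R : Subgroup G) (hYR : (Cfsg.largestPReducedOf p M) ≤ R) (hRM : R ≤ (M ⊔ Subgroup.centralizer (((Cfsg.largestPReducedOf p M) : Subgroup G) : Set G))) : Cfsg.IsElementaryAbelian p ((Subgroup.normalClosure ((((Cfsg.largestPReducedOf p M)).subgroupOf (Subgroup.normalizer ((R : Subgroup G) : Set G)) : Subgroup ↥(Subgroup.normalizer ((R : Subgroup G) : Set G))) : Set ↥(Subgroup.normalizer ((R : Subgroup G) : Set G)))).map (Subgroup.normalizer ((R : Subgroup G) : Set G)).subtype) := by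
  classical
  set Y : Subgroup G := largestPReducedOf p M with hY
  set C : Subgroup G := Subgroup.centralizer ((Y : Subgroup G) : Set G) with hC
  set Md : Subgroup G := M ⊔ C with hMd
  set N : Subgroup G := Subgroup.normalizer ((R : Subgroup G) : Set G) with hN
  -- Y is normal in Md
  have hMdY : Md ≤ Subgroup.normalizer (Y : Set G) := by
    have h1 : Y = largestPReducedOf p Md := hM.2.2.2.1
    have h2 := le_normalizer_largestPReducedOf p Md
    rw [← h1] at h2
    exact h2
  have hRY : R ≤ Subgroup.normalizer (Y : Set G) := hRM.trans hMdY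
  -- exponent p
  have hYp : ∀ a ∈ Y, a ^ p = 1 := by
    rintro a ⟨a', ha', rfl⟩
    have := (largestPReduced_isPReducedNormal p ↥M).2.1.2 a' ha'
    have h2 := congrArg (fun z : ↥M => (z : G)) this
    simpa using h2
  -- [Y, Y^g] = 1 for g ∈ N
  have hcommg : ∀ g ∈ N, ⁅Y, Y.map (MulAut.conj g).toMonoidHom⁆ = ⊥ := by
    intro g hg
    have hRg : R.map (MulAut.conj g).toMonoidHom = R := map_conj_eq_iff_mem_normalizer.mpr hg
    have hYgR : Y.map (MulAut.conj g).toMonoidHom ≤ R := by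
      rw [← hRg]; exact Subgroup.map_mono hYR
    have h1 : ⁅Y, Y.map (MulAut.conj g).toMonoidHom⁆ ≤ Y :=
      Subgroup.le_normalizer_iff_commutator_le_left.mp (hYgR.trans hRY)
    have h2 : Y ≤ Subgroup.normalizer ((Y.map (MulAut.conj g).toMonoidHom : Subgroup G) : Set G) := by
      rw [normalizer_map_conj]
      have h3 := Subgroup.map_mono (f := (MulAut.conj g).toMonoidHom) hRY
      rw [hRg] at h3
      exact hYR.trans h3
    have h4 : ⁅Y, Y.map (MulAut.conj g).toMonoidHom⁆ ≤ Y.map (MulAut.conj g).toMonoidHom :=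
      Subgroup.le_normalizer_iff_commutator_le_right.mp h2
    by_contra hne
    exact hasym ⟨g, hne, le_inf h1 h4⟩
  have hcomm_el : ∀ g ∈ N, ∀ a ∈ Y, ∀ b ∈ Y, a * (g * b * g⁻¹) = (g * b * g⁻¹) * a := by
    intro g hg a ha b hb
    have h1 : ⁅a, g * b * g⁻¹⁆ ∈ ⁅Y, Y.map (MulAut.conj g).toMonoidHom⁆ :=
      Subgroup.commutator_mem_commutator ha (conj_mem_map_conj g hb)
    rw [hcommg g hg, Subgroup.mem_bot] at h1
    exact commutatorElement_eq_one_iff_mul_comm.mp h1
  set s : Set G := {x | ∃ n ∈ N, x ∈ Y.map (MulAut.conj n).toMonoidHom} with hs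
  have hscomm : ∀ x ∈ s, ∀ y ∈ s, x * y = y * x := by
    rintro x ⟨n, hn, hx⟩ y ⟨m, hm, hy⟩
    rw [mem_map_conj] at hx hy
    have h1 := hcomm_el (n⁻¹ * m) (N.mul_mem (N.inv_mem hn) hm) _ hx _ hy
    have h2 : x * y = n * ((n⁻¹ * x * n) * ((n⁻¹ * m) * (m⁻¹ * y * m) * (n⁻¹ * m)⁻¹)) * n⁻¹ := by
      group
    have h3 : y * x = n * (((n⁻¹ * m) * (m⁻¹ * y * m) * (n⁻¹ * m)⁻¹) * (n⁻¹ * x * n)) * n⁻¹ := by
      group
    rw [h2, h3, h1]
  have hsp : ∀ x ∈ s, x ^ p = 1 := by
    rintro x ⟨n, hn, hx⟩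
    rw [mem_map_conj] at hx
    have h1 := hYp _ hx
    have h2 : x = n * (n⁻¹ * x * n) * n⁻¹ := by group
    rw [h2, conj_pow, h1]
    group
  apply isElementaryAbelian_of_le_closure hscomm hsp
  rw [Subgroup.map_le_iff_le_comap]
  have hNA : N ≤ Subgroup.normalizer ((Subgroup.closure s : Subgroup G) : Set G) := by
    rw [Subgroup.le_normalizer_closure_iff]
    rintro n hn x ⟨m, hm, hx⟩
    apply Subgroup.subset_closure
    refine ⟨n * m, N.mul_mem hn hm, ?_⟩
    rw [← map_conj_map_conj]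
    exact conj_mem_map_conj n hx
  have hnorm : ((Subgroup.closure s).comap N.subtype).Normal :=
    Subgroup.normal_subgroupOf_of_le_normalizer hNA
  apply Subgroup.normalClosure_le_normal
  intro y hy
  rw [SetLike.mem_coe, Subgroup.mem_subgroupOf] at hy
  rw [SetLike.mem_coe, Subgroup.mem_comap]
  apply Subgroup.subset_closure
  refine ⟨1, N.one_mem, ?_⟩
  rw [map_conj_one]
  exact hy

end Cfsg.Agent.S2849
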