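import Cfsg.Statements.S2850
import Cfsg.Agent.Lib.Helper47.Asym2
import Cfsg.Agent.Lib.Helper47.WC2

set_option autoImplicit false
open Cfsg
open Cfsg.Agent.Lib.Helper47
open scoped commutatorElement

namespace Cfsg.Agent.S2850

/-- Standing hypotheses: G a finite group, S a Sylow p-subgroup, Q a nontrivial large p-subgroup of G contained in S (C_G(Q) ≤ Q and N_G(U) ≤ N_G(Q) for all nontrivial U ≤ C_G(Q)), and M a subgroup containing S with the basic property (M ∈ 𝔐_G(S)); Y_M denotes the largest p-reduced normal subgroup of M and M† = M·C_G(Y_M). Suppose Y_M is asymmetric in G. Then N_G(L) ≤ N_G(O_p(M)) ≤ M† for every p-subgroup L containing O_p(M); O_p(M) is a weakly closed subgroup of G; for every subgroup L containing O_p(M), L ∩ M† contains a Sylow p-subgroup of L; and two elements of Y_M conjugate in G are conjugate in M. -/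
theorem result {G : Type*} [Group G] [Finite G] {p : ℕ} [Fact p.Prime] (S : Sylow p G) (Q : Subgroup G) (hQp : IsPGroup p ↥Q) (hQ1 : Q ≠ ⊥) (hQS : Q ≤ (S : Subgroup G)) (hQ : Cfsg.IsLarge Q) (M : Subgroup G) (hSM : (S : Subgroup G) ≤ M) (hM : Cfsg.IsInFrakM p M) (hasym : ¬ Cfsg.IsSymmetricIn (Cfsg.largestPReducedOf p M)) : (∀ L : Subgroup G, IsPGroup p ↥L → (Cfsg.pCoreOf p M) ≤ L → Subgroup.normalizer ((L : Subgroup G) : Set G) ≤ Subgroup.normalizer (((Cfsg.pCoreOf p M) : Subgroup G) : Set G) ∧ Subgroup.normalizer (((Cfsg.pCoreOf p M) : Subgroup G) : Set G) ≤ (M ⊔ Subgroup.centralizer (((Cfsg.largestPReducedOf p M) : Subgroup G) : Set G))) ∧ Cfsg.IsWeaklyClosedSubgroup p (Cfsg.pCoreOf p M) ∧ (∀ L : Subgroup G, (Cfsg.pCoreOf p M) ≤ L → Cfsg.IsParabolic p ((L ⊓ (M ⊔ Subgroup.centralizer (((Cfsg.largestPReducedOf p M) : Subgroup G) : Set G))).subgroupOf L)) ∧ (∀ x ∈ (Cfsg.largestPReducedOf p M), ∀ g : G, g * x * g⁻¹ ∈ (Cfsg.largestPReducedOf p M) → ∃ m ∈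 M, m * x * m⁻¹ = g * x * g⁻¹) := by
  classical
  set Y : Subgroup G := largestPReducedOf p M with hY
  set C : Subgroup G := Subgroup.centralizer ((Y : Subgroup G) : Set G) with hC
  set P : Subgroup G := pCoreOf p M with hP
  have hPp : IsPGroup p ↥P := pCoreOf_isPGroup p M
  have hYP : Y ≤ P := Subgroup.map_mono largestPReduced_le_pCore
  have hY1 : Y ≠ ⊥ := frakM_largestPReducedOf_ne_bot S hQ1 hQS hSM hM
  have hP1 : P ≠ ⊥ := fun h => hY1 (le_bot_iff.mp (h ▸ hYP))
  have hMP : M ≤ Subgroup.normalizer (P : Set G) := le_normalizer_pCoreOf p M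
  have hMY : M ≤ Subgroup.normalizer (Y : Set G) := le_normalizer_largestPReducedOf p M
  have hMC : M ≤ Subgroup.normalizer (C : Set G) :=
    hMY.trans (normalizer_le_normalizer_centralizer Y)
  have hPC : P ≤ C := pCoreOf_le_centralizer_largestPReducedOf p M
  have hNP : Subgroup.normalizer (P : Set G) ≤ M ⊔ C :=
    frakM_normalizer_le S hQp hQ1 hQ hSM hM hPp hP1 hMP
  obtain ⟨T, hT⟩ := frakM_asym_wc S hQp hQ1 hQS hQ hSM hM hasym
  have hnorm : ∀ L : Subgroup G, IsPGroup p ↥L → P ≤ L →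
      Subgroup.normalizer (L : Set G) ≤ Subgroup.normalizer (P : Set G) :=
    fun L hL hPL => wc_normalizer_le hT hL hPL
  refine ⟨fun L hL hPL => ⟨hnorm L hL hPL, hNP⟩, ⟨T, hT⟩, ?_, ?_⟩
  · intro L hPL
    have hPL' : IsPGroup p ↥(P.subgroupOf L) := hPp.comap_subtype
    obtain ⟨T₁, hT₁⟩ := hPL'.exists_le_sylow
    refine ⟨T₁, ?_⟩
    intro x hx
    rw [Subgroup.mem_subgroupOf]
    refine Subgroup.mem_inf.mpr ⟨x.2, ?_⟩
    set T' : Subgroup G := (T₁ : Subgroup ↥L).map L.subtype with hT'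
    have hT'p : IsPGroup p ↥T' := T₁.isPGroup'.map _
    have hPT' : P ≤ T' := by
      intro y hy
      exact ⟨⟨y, hPL hy⟩, hT₁ (Subgroup.mem_subgroupOf.mpr hy), rfl⟩
    have hxT' : (x : G) ∈ T' := ⟨x, hx, rfl⟩
    exact hNP (hnorm T' hT'p hPT' (Subgroup.le_normalizer hxT'))
  · intro x hx g hgx
    set x' := g * x * g⁻¹ with hx'
    set Cx : Subgroup G := Subgroup.centralizer ({x'} : Set G) with hCx
    have hPCx : P ≤ Cx := by
      intro y hy
      rw [hCx, Subgroup.mem_centralizer_iff]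
      intro h hh
      rw [Set.mem_singleton_iff] at hh
      subst hh
      exact Subgroup.mem_centralizer_iff.mp (hPC hy) x' hgx
    have hPgCx : P.map (MulAut.conj g).toMonoidHom ≤ Cx := by
      rintro _ ⟨y, hy, rfl⟩
      rw [hCx, Subgroup.mem_centralizer_iff]
      intro h hh
      rw [Set.mem_singleton_iff] at hh
      subst hh
      have h1 : x * y = y * x := Subgroup.mem_centralizer_iff.mp (hPC hy) x hx
      simp only [MulEquiv.coe_toMonoidHom, MulAut.conj_apply, hx']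
      calc g * x * g⁻¹ * (g * y * g⁻¹) = g * (x * y) * g⁻¹ := by group
        _ = g * (y * x) * g⁻¹ := by rw [h1]
        _ = g * y * g⁻¹ * (g * x * g⁻¹) := by group
    obtain ⟨T₁, hT₁⟩ := exists_sylow_in_ge hPp hPCx
    obtain ⟨c, hc, hcT⟩ := exists_conj_le_sylow_in Cx T₁ (isPGroup_map_conj hPp g) hPgCx
    rw [map_conj_map_conj] at hcT
    have h2 : P.map (MulAut.conj (c * g)).toMonoidHom = P :=
      wc_unique_in_pgroup hT (isPGroup_sylow_map_subtype T₁) hT₁ hcT
    have h3 : c * g ∈ M ⊔ C := hNP (map_conj_eq_iff_mem_normalizer.mp h2)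
    obtain ⟨m, hm, c', hc', hmc⟩ := exists_mul_of_mem_sup_normalizer hMC h3
    refine ⟨m, hm, ?_⟩
    have h4 : x' * c = c * x' := by
      have := Subgroup.mem_centralizer_iff.mp hc x' (Set.mem_singleton x')
      exact this
    have h5 : x * c' = c' * x := Subgroup.mem_centralizer_iff.mp hc' x hx
    have h6 : m = c * g * c'⁻¹ := by rw [hmc]; group
    have h7 : c' * x * c'⁻¹ = x := by rw [← h5]; group
    have h8 : c * x' * c⁻¹ = x' := by rw [← h4]; group
    calc m * x * m⁻¹ = c * (g * (c'⁻¹ * x * c') * g⁻¹) * c⁻¹ := by rw [h6]; group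
      _ = c * (g * x * g⁻¹) * c⁻¹ := by
          have : c'⁻¹ * x * c' = x := by
            calc c'⁻¹ * x * c' = c'⁻¹ * (x * c') := by group
              _ = c'⁻¹ * (c' * x) := by rw [h5]
              _ = x := by group
          rw [this]
      _ = x' := h8

end Cfsg.Agent.S2850
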