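import Cfsg.Statements.S2851
import Cfsg.Agent.Lib.Helper47.Asym4
import Cfsg.Agent.S2850

set_option autoImplicit false
open Cfsg
open Cfsg.Agent.Lib.Helper47
open scoped commutatorElement

namespace Cfsg.Agent.S2851

/-- Standing hypotheses: G a finite group, S a Sylow p-subgroup, Q a nontrivial large p-subgroup of G contained in S, M a subgroup containing S with the basic property (M ∈ 𝔐_G(S)); Y_M the largest p-reduced normal subgroup of M and M† = M·C_G(Y_M). Let F be the preimage in M† of the generalized Fitting subgroup of M†/C_{M†}(Y_M). If Y_M is asymmetric in G and H is a subgroup of characteristic p containing F, then Y_M ≤ Y_H. -/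
theorem result {G : Type*} [Group G] [Finite G] {p : ℕ} [Fact p.Prime] (S : Sylow p G) (Q : Subgroup G) (hQp : IsPGroup p ↥Q) (hQ1 : Q ≠ ⊥) (hQS : Q ≤ (S : Subgroup G)) (hQ : Cfsg.IsLarge Q) (M : Subgroup G) (hSM : (S : Subgroup G) ≤ M) (hM : Cfsg.IsInFrakM p M) (hasym : ¬ Cfsg.IsSymmetricIn (Cfsg.largestPReducedOf p M)) [hn : ((Subgroup.centralizer (((Cfsg.largestPReducedOf p M) : Subgroup G) : Set G)).subgroupOf (M ⊔ Subgroup.centralizer (((Cfsg.largestPReducedOf p M) : Subgroup G) : Set G))).Normal] (F : Subgroup G) (hF : F = ((Cfsg.generalizedFittingSubgroup (↥(M ⊔ Subgroup.centralizer (((Cfsg.largestPReducedOf p M) : Subgroup G) : Set G)) ⧸ (Subgroup.centralizer (((Cfsg.largestPReducedOf p M) : Subgroup G) : Set G)).subgroupOf (M ⊔ Subgroup.centralizer (((Cfsg.largestPReducedOf p M) : Subgroup G) : Set G)))).comap (QuotientGroup.mk' ((Subgroup.centralizer (((Cfsg.largestPReducedOf p M) : Subgroup G) : Set G)).subgroupOf (M ⊔ Subgroup.centralizer (((Cfsg.largestPReducedOf p M) : Subgroup G) : Set G))))).map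 ((M ⊔ Subgroup.centralizer (((Cfsg.largestPReducedOf p M) : Subgroup G) : Set G))).subtype) (H : Subgroup G) (hFH : F ≤ H) (hH : Subgroup.centralizer (Cfsg.pCore p ↥H : Set ↥H) ≤ Cfsg.pCore p ↥H) : (Cfsg.largestPReducedOf p M) ≤ Cfsg.largestPReducedOf p H := by
  classical
  subst hF
  have h2850 := Cfsg.Agent.S2850.result S Q hQp hQ1 hQS hQ M hSM hM hasym
  have hYeq := hM.2.2.2.1
  have hYP : largestPReducedOf p M ≤ pCoreOf p M := Subgroup.map_mono largestPReduced_le_pCore
  have hPC := pCoreOf_le_centralizer_largestPReducedOf (G := G) p M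
  have hCH : Subgroup.centralizer ((largestPReducedOf p M : Subgroup G) : Set G) ≤ H :=
    (le_map_comap_mk' le_sup_right _).trans hFH
  have hPH : pCoreOf p M ≤ H := hPC.trans hCH
  have hredMd : PRedInternal p (largestPReducedOf p M)
      (M ⊔ Subgroup.centralizer ((largestPReducedOf p M : Subgroup G) : Set G)) := by
    have h1 := largestPReducedOf_pRedInternal p
      (M ⊔ Subgroup.centralizer ((largestPReducedOf p M : Subgroup G) : Set G))
    rwa [← hYeq] at h1
  exact le_largestPReducedOf_of_fstar_le ((largestPReducedOf_le p M).trans le_sup_left)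
    (frakM_dagger_le_normalizer p M) (largestPReducedOf_comm p M) (largestPReducedOf_exp p M)
    hredMd hFH hH (h2850.2.2.1 H hPH) (hYP.trans hPH)

end Cfsg.Agent.S2851
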