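import Cfsg.Statements.S2852
import Cfsg.Agent.Lib.Helper47.Asym3

set_option autoImplicit false
open Cfsg
open Cfsg.Agent.Lib.Helper47
open scoped commutatorElement

namespace Cfsg.Agent.S2852

/-- Standing hypotheses: G a finite group, S a Sylow p-subgroup, Q a nontrivial large p-subgroup of G contained in S, M a subgroup containing S with the basic property (M ∈ 𝔐_G(S)); Y_M the largest p-reduced normal subgroup of M. If Y_M is char-p-tall and asymmetric in G, then some subgroup H of G lies in ℌ_G(O_p(M)): H has characteristic p, O_p(M) ≤ H, Y_M ≰ O_p(H), and Y_M ≤ O_p(P) for every proper subgroup P of H containing O_p(M). -/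
theorem result {G : Type*} [Group G] [Finite G] {p : ℕ} [Fact p.Prime] (S : Sylow p G) (Q : Subgroup G) (hQp : IsPGroup p ↥Q) (hQ1 : Q ≠ ⊥) (hQS : Q ≤ (S : Subgroup G)) (hQ : Cfsg.IsLarge Q) (M : Subgroup G) (hSM : (S : Subgroup G) ≤ M) (hM : Cfsg.IsInFrakM p M) (htall : Cfsg.IsCharPTall p (Cfsg.largestPReducedOf p M)) (hasym : ¬ Cfsg.IsSymmetricIn (Cfsg.largestPReducedOf p M)) : ∃ H : Subgroup G, Cfsg.IsInFrakH p M H := by
  classical
  set Y : Subgroup G := largestPReducedOf p M with hY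
  set C : Subgroup G := Subgroup.centralizer ((Y : Subgroup G) : Set G) with hC
  set P : Subgroup G := pCoreOf p M with hP
  have hPp : IsPGroup p ↥P := pCoreOf_isPGroup p M
  have hYP : Y ≤ P := Subgroup.map_mono largestPReduced_le_pCore
  have hY1 : Y ≠ ⊥ := frakM_largestPReducedOf_ne_bot S hQ1 hQS hSM hM
  have hP1 : P ≠ ⊥ := fun h => hY1 (le_bot_iff.mp (h ▸ hYP))
  have hPC : P ≤ C := pCoreOf_le_centralizer_largestPReducedOf p M
  have hwc : IsWeaklyClosedSubgroup p P := frakM_asym_wc S hQp hQ1 hQS hQ hSM hM hasym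
  have hCP : Subgroup.centralizer (P : Set G) ≤ P := hM.1.2
  have hMc := charp_of_mem_charPSubgroups hM.1
  -- a Sylow subgroup of C equal to P
  obtain ⟨⟨Psyl, hPsyl⟩, _⟩ := Cfsg.Agent.S2821.result S M hSM hMc ((S : Subgroup G) ⊓ C) rfl
  rw [frakM_sylow_inf_centralizer S hSM hM] at hPsyl
  obtain ⟨T, L, hTL, hLc, hYL⟩ := htall
  obtain ⟨c, hc⟩ := MulAction.exists_smul_eq ↥C T Psyl
  have hcT : ((c • T : Sylow p ↥C) : Subgroup ↥C) =
      (T : Subgroup ↥C).map (MulAut.conj c).toMonoidHom := rfl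
  set L' : Subgroup G := L.map (MulAut.conj (c : G)).toMonoidHom with hL'
  have hPL' : P ≤ L' := by
    intro y hy
    have h1 : (⟨y, hPC hy⟩ : ↥C) ∈ (Psyl : Subgroup ↥C) := by
      rw [hPsyl]; exact Subgroup.mem_subgroupOf.mpr hy
    rw [← hc, hcT] at h1
    obtain ⟨t, ht, hty⟩ := h1
    have h2 : ((t : ↥C) : G) ∈ L := hTL ⟨t, ht, rfl⟩
    refine ⟨(t : G), h2, ?_⟩
    have := congrArg Subtype.val hty
    simpa [MulAut.conj_apply] using this
  have hL'c : Subgroup.centralizer (pCore p ↥L' : Set ↥L') ≤ pCore p ↥L' := charp_map_conj hLc (c : G)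
  have hcY : Y.map (MulAut.conj (c : G)).toMonoidHom = Y :=
    map_conj_eq_iff_mem_normalizer.mpr (Subgroup.centralizer_le_normalizer _ c.2)
  have hYL' : ¬ Y ≤ pCoreOf p L' := by
    intro h
    apply hYL
    rw [hL', pCoreOf_map_conj, ← hcY] at h
    have h2 := Subgroup.map_mono (f := (MulAut.conj (c : G)⁻¹).toMonoidHom) h
    rw [map_conj_inv_map_conj, map_conj_inv_map_conj] at h2
    exact h2
  -- minimal member of the family
  obtain ⟨H, hHL', hHmin⟩ := Finite.exists_le_minimal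
    (p := fun H : Subgroup G => Subgroup.centralizer (pCore p ↥H : Set ↥H) ≤ pCore p ↥H ∧ P ≤ H ∧
      ¬ Y ≤ pCoreOf p H) (a := L') ⟨hL'c, hPL', hYL'⟩
  obtain ⟨⟨hHc, hPH, hYH⟩, hHmin'⟩ := hHmin
  refine ⟨H, hHc, hPH, hYH, ?_⟩
  intro P' hPP' hP'H
  by_contra hcon
  have hP'c := charp_of_wc_le hPp hP1 hwc hCP hHc hPP' hP'H.le
  have := hHmin' (y := P') ⟨hP'c, hPP', hcon⟩ hP'H.le
  exact absurd (le_antisymm hP'H.le this) hP'H.ne

end Cfsg.Agent.S2852
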