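import Cfsg.Statements.S2853
import Cfsg.Agent.Lib.Helper47.Asym5
import Cfsg.Agent.S2850

set_option autoImplicit false
open Cfsg
open Cfsg.Agent.Lib.Helper47
open scoped commutatorElement

namespace Cfsg.Agent.S2853

/-- Standing hypotheses: G a finite group, S a Sylow p-subgroup, Q a nontrivial large p-subgroup of G contained in S, M a subgroup containing S with the basic property (M ∈ 𝔐_G(S)); Y_M the largest p-reduced normal subgroup of M and M† = M·C_G(Y_M). Suppose Y_M is char-p-tall and asymmetric in G and H ∈ ℌ_G(O_p(M)). Then every Sylow p-subgroup of H ∩ M† is a Sylow p-subgroup of H; O_p(H) normalizes O_p(M) and Y_M; O^p(H) = [O^p(H), Y_M] and H = O^p(H)·O_p(M); O^p(H)·Y_M is the normal closure of Y_M in H; and H is the normal closure of O_p(M) in H. Here O^p(H) is the subgroup generated by the elements of H of order prime to p. -/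
theorem result {G : Type*} [Group G] [Finite G] {p : ℕ} [Fact p.Prime] (S : Sylow p G) (Q : Subgroup G) (hQp : IsPGroup p ↥Q) (hQ1 : Q ≠ ⊥) (hQS : Q ≤ (S : Subgroup G)) (hQ : Cfsg.IsLarge Q) (M : Subgroup G) (hSM : (S : Subgroup G) ≤ M) (hM : Cfsg.IsInFrakM p M) (htall : Cfsg.IsCharPTall p (Cfsg.largestPReducedOf p M)) (hasym : ¬ Cfsg.IsSymmetricIn (Cfsg.largestPReducedOf p M)) (H : Subgroup G) (hH : Cfsg.IsInFrakH p M H) (R : Subgroup G) (hR : R = (Cfsg.pResidual p ↥H).map H.subtype) : (∀ T : Sylow p ↥(H ⊓ (M ⊔ Subgroup.centralizer (((Cfsg.largestPReducedOf p M) : Subgroup G) : Set G))), ∃ P : Sylow p ↥H, ((P : Subgroup ↥H).map H.subtype) = (T : Subgroup ↥(H ⊓ (M ⊔ Subgroup.centralizer (((Cfsg.largestPReducedOf p M) : Subgroup G) : Set G)))).map (H ⊓ (M ⊔ Subgroup.centralizer (((Cfsg.largestPReducedOf p M) : Subgroup G) : Set G))).subtype) ∧ Cfsg.pCoreOf p H ≤ Subgroup.normalizer (((Cfsg.pCoreOf p M) : Subgroup G) : Set G) ⊓ Subgroup.normalizer (((Cfsg.largestPReducedOf p M) : Subgroup G) :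 Set G) ∧ ⁅R, (Cfsg.largestPReducedOf p M)⁆ = R ∧ R ⊔ (Cfsg.pCoreOf p M) = H ∧ R ⊔ (Cfsg.largestPReducedOf p M) = (Subgroup.normalClosure ((((Cfsg.largestPReducedOf p M)).subgroupOf H : Subgroup ↥H) : Set ↥H)).map H.subtype ∧ (Subgroup.normalClosure ((((Cfsg.pCoreOf p M)).subgroupOf H : Subgroup ↥H) : Set ↥H)).map H.subtype = H := by
  classical
  have h2850 := Cfsg.Agent.S2850.result S Q hQp hQ1 hQS hQ M hSM hM hasym
  obtain ⟨hHc, hPH, hYH, hmin⟩ := hH
  have hYP : largestPReducedOf p M ≤ pCoreOf p M := Subgroup.map_mono largestPReduced_le_pCore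
  have hPp : IsPGroup p ↥(pCoreOf p M) := pCoreOf_isPGroup p M
  have hPC := pCoreOf_le_centralizer_largestPReducedOf (G := G) p M
  have hPY : pCoreOf p M ≤ Subgroup.normalizer ((largestPReducedOf p M : Subgroup G) : Set G) :=
    hPC.trans (Subgroup.centralizer_le_normalizer _)
  have hnorm : ∀ L : Subgroup G, IsPGroup p ↥L → pCoreOf p M ≤ L →
      Subgroup.normalizer (L : Set G) ≤ Subgroup.normalizer ((pCoreOf p M : Subgroup G) : Set G) :=
    fun L hL hPL => (h2850.1 L hL hPL).1
  have hNP := (h2850.1 (pCoreOf p M) hPp le_rfl).2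
  have hRR : R = pPrimeClosure p H := by rw [hR, pResidual_map_subtype]
  obtain ⟨h4, h3, h5, h6⟩ := frakH_structure hPp hYP hPH hPY hnorm hYH hmin
  rw [← hRR] at h4 h3 h5 h6
  have hYH' : largestPReducedOf p M ≤ H := hYP.trans hPH
  have hRH : R ≤ H := by rw [hRR]; exact pPrimeClosure_le p H
  refine ⟨fun T => sylow_of_sylow_inf (h2850.2.2.1 H hPH) T, ?_, h3, h4, ?_, ?_⟩
  · -- O_p(H) normalises P and Y
    have hOP : pCoreOf p M ≤ Subgroup.normalizer ((pCoreOf p H : Subgroup G) : Set G) :=
      hPH.trans (le_normalizer_pCoreOf p H)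
    have hLp : IsPGroup p ↥(pCoreOf p M ⊔ pCoreOf p H) :=
      hPp.to_sup_of_normal_right' (pCoreOf_isPGroup p H) hOP
    have h1 : pCoreOf p H ≤ Subgroup.normalizer ((pCoreOf p M : Subgroup G) : Set G) :=
      (le_sup_right.trans Subgroup.le_normalizer).trans (hnorm _ hLp le_sup_left)
    exact le_inf h1 (h1.trans (hNP.trans (frakM_dagger_le_normalizer p M)))
  · -- normal closure of Y
    set N' : Subgroup G := (Subgroup.normalClosure
      (((largestPReducedOf p M).subgroupOf H : Subgroup ↥H) : Set ↥H)).map H.subtype with hN'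
    have hYN' : largestPReducedOf p M ≤ N' := by
      have h1 : (largestPReducedOf p M).subgroupOf H ≤ Subgroup.normalClosure
          (((largestPReducedOf p M).subgroupOf H : Subgroup ↥H) : Set ↥H) :=
        Subgroup.le_normalClosure
      have h2 := Subgroup.map_mono (f := H.subtype) h1
      rwa [Subgroup.map_subgroupOf_eq_of_le hYH'] at h2
    have hN'H : N' ≤ H := Subgroup.map_subtype_le _
    have hHN' : H ≤ Subgroup.normalizer (N' : Set G) := le_normalizer_map_subtype_of_normal H _
    apply le_antisymm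
    · exact sup_le (h5 N' hYN' hN'H hHN') hYN'
    · have hRYH : R ⊔ largestPReducedOf p M ≤ H := sup_le hRH hYH'
      haveI : ((R ⊔ largestPReducedOf p M).subgroupOf H).Normal :=
        (Subgroup.normal_subgroupOf_iff_le_normalizer hRYH).mpr h6
      have h1 : Subgroup.normalClosure
          (((largestPReducedOf p M).subgroupOf H : Subgroup ↥H) : Set ↥H) ≤
          (R ⊔ largestPReducedOf p M).subgroupOf H := by
        apply Subgroup.normalClosure_le_normal
        intro x hx
        exact Subgroup.mem_subgroupOf.mpr (Subgroup.mem_sup_right (Subgroup.mem_subgroupOf.mp hx))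
      have h2 := Subgroup.map_mono (f := H.subtype) h1
      rwa [Subgroup.map_subgroupOf_eq_of_le hRYH] at h2
  · -- normal closure of P
    set N'' : Subgroup G := (Subgroup.normalClosure
      (((pCoreOf p M).subgroupOf H : Subgroup ↥H) : Set ↥H)).map H.subtype with hN''
    have hPN'' : pCoreOf p M ≤ N'' := by
      have h1 : (pCoreOf p M).subgroupOf H ≤ Subgroup.normalClosure
          (((pCoreOf p M).subgroupOf H : Subgroup ↥H) : Set ↥H) :=
        Subgroup.le_normalClosure
      have h2 := Subgroup.map_mono (f := H.subtype) h1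
      rwa [Subgroup.map_subgroupOf_eq_of_le hPH] at h2
    have hN''H : N'' ≤ H := Subgroup.map_subtype_le _
    have hHN'' : H ≤ Subgroup.normalizer (N'' : Set G) := le_normalizer_map_subtype_of_normal H _
    apply le_antisymm hN''H
    rw [← h4]
    exact sup_le (h5 N'' (hYP.trans hPN'') hN''H hHN'') hPN''

end Cfsg.Agent.S2853
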