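import Cfsg.Statements.S2854
import Cfsg.Agent.Lib.Helper47.Asym6
import Cfsg.Agent.Lib.Helper47.Large3
import Cfsg.Agent.S2850

set_option autoImplicit false
open Cfsg
open Cfsg.Agent.Lib.Helper47
open scoped commutatorElement

namespace Cfsg.Agent.S2854

/-- Standing hypotheses: G a finite group, S a Sylow p-subgroup, Q a nontrivial large p-subgroup of G contained in S, M a subgroup containing S with the basic property (M ∈ 𝔐_G(S)); Y_M the largest p-reduced normal subgroup of M and M† = M·C_G(Y_M). Suppose Y_M is asymmetric in G, H ∈ ℌ_G(O_p(M)), and H ≤ N_G(gQg⁻¹) for some g ∈ G. Then gQg⁻¹ ≤ O_p(H·gQg⁻¹) ≤ N_G(O_p(M)) ≤ N_G(Y_M) = M†; H is normal in H·gQg⁻¹ with O^p(H) = O^p(H·gQg⁻¹); and H·gQg⁻¹ is p-irreducible. -/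
theorem result {G : Type*} [Group G] [Finite G] {p : ℕ} [Fact p.Prime] (S : Sylow p G) (Q : Subgroup G) (hQp : IsPGroup p ↥Q) (hQ1 : Q ≠ ⊥) (hQS : Q ≤ (S : Subgroup G)) (hQ : Cfsg.IsLarge Q) (M : Subgroup G) (hSM : (S : Subgroup G) ≤ M) (hM : Cfsg.IsInFrakM p M) (hasym : ¬ Cfsg.IsSymmetricIn (Cfsg.largestPReducedOf p M)) (H : Subgroup G) (hH : Cfsg.IsInFrakH p M H) (g : G) (hHQ : H ≤ Subgroup.normalizer ((((Q : Subgroup G).map (MulAut.conj (g : G)).toMonoidHom) : Subgroup G) : Set G)) : ((Q : Subgroup G).map (MulAut.conj (g : G)).toMonoidHom) ≤ Cfsg.pCoreOf p (H ⊔ ((Q : Subgroup G).map (MulAut.conj (g : G)).toMonoidHom)) ∧ Cfsg.pCoreOf p (H ⊔ ((Q : Subgroup G).map (MulAut.conj (g : G)).toMonoidHom)) ≤ Subgroup.normalizer (((Cfsg.pCoreOf p M) : Subgroup G) : Set G) ∧ Subgroup.normalizer (((Cfsg.pCoreOf p M) : Subgroup G) : Set G) ≤ Subgroup.normalizer (((Cfsg.largestPReducedOf p M) : Subgroup G) : Set G) ∧ Subgroup.normalizer (((Cfsg.largestPReducedOf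 p M) : Subgroup G) : Set G) = (M ⊔ Subgroup.centralizer (((Cfsg.largestPReducedOf p M) : Subgroup G) : Set G)) ∧ (H.subgroupOf (H ⊔ ((Q : Subgroup G).map (MulAut.conj (g : G)).toMonoidHom))).Normal ∧ (Cfsg.pResidual p ↥H).map H.subtype = (Cfsg.pResidual p ↥(H ⊔ ((Q : Subgroup G).map (MulAut.conj (g : G)).toMonoidHom))).map (H ⊔ ((Q : Subgroup G).map (MulAut.conj (g : G)).toMonoidHom)).subtype ∧ Cfsg.IsPIrreducible p ↥(H ⊔ ((Q : Subgroup G).map (MulAut.conj (g : G)).toMonoidHom)) := by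
  classical
  have h2850 := Cfsg.Agent.S2850.result S Q hQp hQ1 hQS hQ M hSM hM hasym
  obtain ⟨hHc, hPH, hYH, hmin⟩ := hH
  have hYP : largestPReducedOf p M ≤ pCoreOf p M := Subgroup.map_mono largestPReduced_le_pCore
  have hPp : IsPGroup p ↥(pCoreOf p M) := pCoreOf_isPGroup p M
  have hPC := pCoreOf_le_centralizer_largestPReducedOf (G := G) p M
  have hPY : pCoreOf p M ≤ Subgroup.normalizer ((largestPReducedOf p M : Subgroup G) : Set G) :=
    hPC.trans (Subgroup.centralizer_le_normalizer _)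
  have hnorm : ∀ L : Subgroup G, IsPGroup p ↥L → pCoreOf p M ≤ L →
      Subgroup.normalizer (L : Set G) ≤ Subgroup.normalizer ((pCoreOf p M : Subgroup G) : Set G) :=
    fun L hL hPL => (h2850.1 L hL hPL).1
  have hNP := (h2850.1 (pCoreOf p M) hPp le_rfl).2
  have hY1 : largestPReducedOf p M ≠ ⊥ := frakM_largestPReducedOf_ne_bot S hQ1 hQS hSM hM
  have hYp : IsPGroup p ↥(largestPReducedOf p M) := largestPReducedOf_isPGroup p M
  have hdag := frakM_dagger_le_normalizer (G := G) p M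
  obtain ⟨h4, h3, h5, h6⟩ := frakH_structure hPp hYP hPH hPY hnorm hYH hmin
  set Q' : Subgroup G := Q.map (MulAut.conj g).toMonoidHom with hQ'
  have hQ'p : IsPGroup p ↥Q' := isPGroup_map_conj hQp g
  set X : Subgroup G := H ⊔ Q' with hX
  have hXQ' : X ≤ Subgroup.normalizer (Q' : Set G) := sup_le hHQ Subgroup.le_normalizer
  have hQ'D : Q' ≤ pCoreOf p X := le_pCoreOf le_sup_right hXQ' hQ'p
  have hDP : pCoreOf p X ≤ Subgroup.normalizer ((pCoreOf p M : Subgroup G) : Set G) := by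
    have hOP : pCoreOf p M ≤ Subgroup.normalizer ((pCoreOf p X : Subgroup G) : Set G) :=
      (hPH.trans le_sup_left).trans (le_normalizer_pCoreOf p X)
    have hLp : IsPGroup p ↥(pCoreOf p M ⊔ pCoreOf p X) :=
      hPp.to_sup_of_normal_right' (pCoreOf_isPGroup p X) hOP
    exact (le_sup_right.trans Subgroup.le_normalizer).trans (hnorm _ hLp le_sup_left)
  -- D = O_p(X) normalises H
  have hDH : pCoreOf p X ≤ Subgroup.normalizer (H : Set G) := by
    set H₀ : Subgroup G := ⨆ h : ↥H, (pCoreOf p M).map (MulAut.conj (h : G)).toMonoidHom with hH₀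
    have hH₀H : H₀ ≤ H := iSup_le fun h => map_conj_le_of_mem hPH h.2
    have hPH₀ : pCoreOf p M ≤ H₀ := by
      have h1 : (pCoreOf p M).map (MulAut.conj (((1 : ↥H) : ↥H) : G)).toMonoidHom ≤ H₀ :=
        le_iSup (fun h : ↥H => (pCoreOf p M).map (MulAut.conj (h : G)).toMonoidHom) 1
      rw [Subgroup.coe_one, map_conj_one] at h1
      exact h1
    have hHH₀ : H ≤ Subgroup.normalizer (H₀ : Set G) := by
      intro h' hh'
      apply mem_normalizer_of_map_conj_le
      rw [hH₀, Subgroup.map_iSup]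
      apply iSup_le
      intro h
      rw [map_conj_map_conj]
      exact le_iSup (fun h : ↥H => (pCoreOf p M).map (MulAut.conj (h : G)).toMonoidHom)
        (⟨h', hh'⟩ * h)
    have hH₀eq : H₀ = H := by
      apply le_antisymm hH₀H
      rw [← h4]
      exact sup_le (h5 H₀ (hYP.trans hPH₀) hH₀H hHH₀) hPH₀
    rw [← hH₀eq]
    intro d hd
    apply mem_normalizer_of_map_conj_le
    rw [hH₀, Subgroup.map_iSup]
    apply iSup_le
    intro h
    have hdn : d ∈ Subgroup.normalizer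
        (((pCoreOf p M).map (MulAut.conj (h : G)).toMonoidHom : Subgroup G) : Set G) := by
      rw [normalizer_map_conj, mem_map_conj]
      apply hDP
      have hhX : (h : G)⁻¹ ∈ X := X.inv_mem ((le_sup_left : H ≤ X) h.2)
      have := (Subgroup.mem_normalizer_iff.mp (le_normalizer_pCoreOf p X hhX) d).mp hd
      simpa using this
    rw [map_conj_eq_iff_mem_normalizer.mpr hdn]
    exact le_iSup (fun h : ↥H => (pCoreOf p M).map (MulAut.conj (h : G)).toMonoidHom) h
  have hQ'H : Q' ≤ Subgroup.normalizer (H : Set G) := hQ'D.trans hDH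
  have hirrH : PIrrAmb p H := frakH_pIrrAmb hPp hYP hPH hPY hnorm hYH hmin
  obtain ⟨hirrX, hRX⟩ := pIrrAmb_sup_pgroup hirrH hQ'p hHQ hQ'H
  refine ⟨hQ'D, hDP, hNP.trans hdag, ?_, ?_, ?_, isPIrreducible_of_pIrrAmb hirrX⟩
  · exact le_antisymm (frakM_normalizer_le S hQp hQ1 hQ hSM hM hYp hY1
      (le_normalizer_largestPReducedOf p M)) hdag
  · exact (Subgroup.normal_subgroupOf_iff_le_normalizer le_sup_left).mpr
      (sup_le Subgroup.le_normalizer hQ'H)
  · rw [pResidual_map_subtype, pResidual_map_subtype, hRX]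

end Cfsg.Agent.S2854
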