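import Cfsg.Statements.S2863
import Cfsg.Agent.Lib.Helper47.FLGlueC
import Cfsg.Agent.Lib.Helper47.FLFrakL
import Cfsg.Agent.Lib.Helper47.FLGP
import Cfsg.Agent.Lib.Helper2.FLGPISO
import Cfsg.Agent.Lib.Helper85.FLGPTWO
import Cfsg.Agent.Lib.Helper60.SzLieBridge

set_option autoImplicit false
open Cfsg

namespace Cfsg.Agent.S2863

/-- Standing hypotheses: G a finite group, S a Sylow p-subgroup, Q a nontrivial large p-subgroup of G contained in S, M a subgroup containing S with the basic property (M ∈ 𝔐_G(S)); Y_M the largest p-reduced normal subgroup of M and M† = M·C_G(Y_M). Let L ∈ 𝔏_G(Y_M) (L ∈ 𝔏_G(Y_M): Y_M ≤ L; O_p(L) is the normal closure in L of Y_M ∩ O_p(L) and normalizes Y_M; L is Y_M-minimal of characteristic p with N_L(Y_M) its unique maximal subgroup over Y_M; and L/O_p(L) ≅ SL₂(q) with q = |Y_M : Y_M ∩ O_p(L)|, or p = 2 and L/O_p(L) is a Suzuki group Sz(q) or dihedral of order 2r, r an odd prime), A = O_p(L),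 and C = C_{Y_M}(L). Then every element h of L whose order is not a power of p acts without nontrivial fixed points on A/C: for a ∈ A, hah⁻¹a⁻¹ ∈ C implies a ∈ C. -/
theorem result {G : Type*} [Group G] [Finite G] {p : ℕ} [Fact p.Prime] (S : Sylow p G) (Q : Subgroup G) (hQp : IsPGroup p ↥Q) (hQ1 : Q ≠ ⊥) (hQS : Q ≤ (S : Subgroup G)) (hQ : Cfsg.IsLarge Q) (M : Subgroup G) (hSM : (S : Subgroup G) ≤ M) (hM : Cfsg.IsInFrakM p M) (L : Subgroup G) (hL : Cfsg.IsInFrakL p M L) (h : G) (hh : h ∈ L) (hnp : ¬ ∃ k : ℕ, orderOf h = p ^ k) : ∀ a ∈ (Cfsg.pCoreOf p L), h * a * h⁻¹ * a⁻¹ ∈ (Cfsg.largestPReducedOf p M) ⊓ Subgroup.centralizer ((L : Subgroup G) : Set G) → a ∈ (Cfsg.largestPReducedOf p M) ⊓ Subgroup.centralizer ((L : Subgroup G) : Set G) := by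
  have hlb := Cfsg.Agent.Lib.Helper47.frakL_lbar hL
  have hcardP := Cfsg.Agent.Lib.Helper47.frakL_card_ybarL hL
  have hcs := Cfsg.Agent.Lib.Helper47.FL.frakL_coreSetup hL
  have hG : Cfsg.Agent.Lib.Helper47.FL.GoodPair p (Cfsg.Agent.Lib.Helper47.ybarL p (Cfsg.largestPReducedOf p M) L) := by
    rcases hL.2.2.2.2.2.2 with ⟨F, _, _, hFcard, ⟨φ⟩⟩ | ⟨hp2, F, _, _, m, hF, hFrel, ⟨φ⟩⟩ |
      ⟨hp2, r, hr, hr2, ⟨φ⟩⟩
    · -- SL₂
      apply Cfsg.Agent.Lib.Helper47.FL.GoodPair.of_mulEquiv φ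
      apply Cfsg.Agent.Lib.Helper47.FL.goodPair_SL2 (hlb.pgroup.map _)
      rw [hFcard, ← hcardP]
      exact Nat.card_congr (Subgroup.equivMapOfInjective _ _ φ.injective).symm.toEquiv
    · -- Suzuki
      subst hp2
      by_cases hm : 1 ≤ m
      · have := Cfsg.Agent.Lib.Helper6.Sz.charP_two hF
        apply Cfsg.Agent.Lib.Helper47.FL.GoodPair.of_mulEquiv (φ.trans (Cfsg.Agent.Lib.Helper60.SzLie.szEquiv hm hF))
        apply Cfsg.Agent.Lib.Helper47.FL.goodPair_Sz (Cfsg.Agent.Lib.Helper6.Sz.sig F m)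
          (Cfsg.Agent.Lib.Helper6.Sz.sig_sig hF) (Cfsg.Agent.Lib.Helper6.Sz.sig_nt hm hF) hm
          (by rw [Nat.card_eq_fintype_card, hF])
        · rintro _ ⟨a, ha, rfl⟩
          show ((φ.trans (Cfsg.Agent.Lib.Helper60.SzLie.szEquiv hm hF)) a) ^ 2 = 1
          rw [← map_pow, hlb.exp a ha, map_one]
        · rw [Nat.card_eq_fintype_card (α := F), hFrel, ← hcardP]
          exact Nat.card_congr (Subgroup.equivMapOfInjective _ _
            (φ.trans (Cfsg.Agent.Lib.Helper60.SzLie.szEquiv hm hF)).injective).symm.toEquiv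
      · have hm0 : m = 0 := by omega
        subst hm0
        apply Cfsg.Agent.Lib.Helper47.FL.goodPair_of_card_two hlb
        rw [hcardP, ← hFrel, hF]
        norm_num
    · -- dihedral
      subst hp2
      apply Cfsg.Agent.Lib.Helper47.FL.goodPair_of_card_two hlb
      obtain ⟨k, hk⟩ := IsPGroup.iff_card.mp hlb.pgroup
      have hdvd : Nat.card ↥(Cfsg.Agent.Lib.Helper47.ybarL 2 (Cfsg.largestPReducedOf 2 M) L) ∣ 2 * r := by
        have h1 := Subgroup.card_subgroup_dvd_card (Cfsg.Agent.Lib.Helper47.ybarL 2 (Cfsg.largestPReducedOf 2 M) L)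
        rwa [Nat.card_congr φ.toEquiv, DihedralGroup.nat_card] at h1
      rw [hk] at hdvd ⊢
      have hk0 : k ≠ 0 := by
        rintro rfl
        apply hlb.ne
        rw [pow_zero] at hk
        exact Subgroup.card_eq_one.mp hk
      have hk1 : k < 2 := by
        by_contra hk2
        push Not at hk2
        have h4 : 2 ^ 2 ∣ 2 * r := (pow_dvd_pow 2 hk2).trans hdvd
        have h5 : 2 ∣ r := by omega
        exact hr2 ((Nat.prime_dvd_prime_iff_eq Nat.prime_two hr).mp h5).symm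
      have : k = 1 := by omega
      rw [this, pow_one]
  have hAp : IsPGroup p ↥(pCore p ↥L) := Cfsg.Agent.Lib.Helper47.pCore_isPGroup p ↥L
  have key := Cfsg.Agent.Lib.Helper47.FL.fl_main hcs hAp hG ⟨h, hh⟩ (by rwa [Subgroup.orderOf_mk])
  intro a ha hcomm
  obtain ⟨a', ha', rfl⟩ := ha
  have h1 : (⟨h, hh⟩ : ↥L) * a' * (⟨h, hh⟩ : ↥L)⁻¹ * a'⁻¹ ∈
      (Cfsg.largestPReducedOf p M).subgroupOf L ⊓ Subgroup.center ↥L := by
    refine ⟨Subgroup.mem_subgroupOf.mpr hcomm.1, Subgroup.mem_center_iff.mpr ?_⟩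
    intro g
    apply Subtype.ext
    exact Subgroup.mem_centralizer_iff.mp hcomm.2 g g.2
  have h2 := key a' ha' h1
  refine ⟨Subgroup.mem_subgroupOf.mp h2.1, Subgroup.mem_centralizer_iff.mpr ?_⟩
  intro l hl
  have h3 := Subgroup.mem_center_iff.mp h2.2 ⟨l, hl⟩
  exact congrArg Subtype.val h3

end Cfsg.Agent.S2863
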