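import Cfsg.Statements.S2864
import Cfsg.Agent.Lib.Helper45.StabMod
import Cfsg.Agent.Lib.Helper47.Asym2
import Cfsg.Agent.Lib.Helper47.Large

set_option autoImplicit false
open Cfsg

namespace Cfsg.Agent.S2864

open scoped commutatorElement

/-- Standing hypotheses: G a finite group, S a Sylow p-subgroup, Q a nontrivial large p-subgroup of G contained in S, M a subgroup containing S with the basic property (M ∈ 𝔐_G(S)); Y_M the largest p-reduced normal subgroup of M and M† = M·C_G(Y_M). Let I be a nontrivial normal p-subgroup of M and Y ≤ O_p(M†); let L be a subgroup of G containing Y and A a normal p-subgroup of L with I ≤ A ≤ M. If [Y, A] ≤ [I, A], then Y ≤ O_p(L). -/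
theorem result {G : Type*} [Group G] [Finite G] {p : ℕ} [Fact p.Prime] (S : Sylow p G) (Q : Subgroup G) (hQp : IsPGroup p ↥Q) (hQ1 : Q ≠ ⊥) (hQS : Q ≤ (S : Subgroup G)) (hQ : Cfsg.IsLarge Q) (M : Subgroup G) (hSM : (S : Subgroup G) ≤ M) (hM : Cfsg.IsInFrakM p M) (I : Subgroup G) (hI1 : I ≠ ⊥) (hIp : IsPGroup p ↥I) (hIM : I ≤ M ∧ M ≤ Subgroup.normalizer ((I : Subgroup G) : Set G)) (Y : Subgroup G) (hY : Y ≤ (Cfsg.pCoreOf p (M ⊔ Subgroup.centralizer (((Cfsg.largestPReducedOf p M) : Subgroup G) : Set G)))) (L : Subgroup G) (hYL : Y ≤ L) (A : Subgroup G) (hAp : IsPGroup p ↥A) (hAL : A ≤ L ∧ L ≤ Subgroup.normalizer ((A : Subgroup G) : Set G)) (hIA : I ≤ A) (hAM : A ≤ M) (hc : ⁅Y, A⁆ ≤ ⁅I, A⁆) : Y ≤ (Cfsg.pCoreOf p L) := by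
  classical
  have hN : Subgroup.normalizer ((I : Subgroup G) : Set G) ≤
      M ⊔ Subgroup.centralizer (((Cfsg.largestPReducedOf p M) : Subgroup G) : Set G) :=
    Cfsg.Agent.Lib.Helper47.frakM_normalizer_le S hQp hQ1 hQ hSM hM hIp hI1 hIM.2
  have hLA : L ≤ Subgroup.normalizer ((A : Subgroup G) : Set G) := hAL.2
  -- `C = C_L(A) ≤ M†`
  have hCM : L ⊓ Subgroup.centralizer ((A : Subgroup G) : Set G) ≤
      M ⊔ Subgroup.centralizer (((Cfsg.largestPReducedOf p M) : Subgroup G) : Set G) := by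
    intro c hc
    apply hN
    exact Subgroup.centralizer_le_normalizer _ (Subgroup.centralizer_le (s := (I : Set G)) (t := (A : Set G)) hIA hc.2)
  -- normalizing facts
  have hLK : L ≤ Subgroup.normalizer ((L ⊓ Cfsg.Agent.Lib.Helper45.stabMod A : Subgroup G) : Set G) :=
    (le_inf Subgroup.le_normalizer
      (hLA.trans (Cfsg.Agent.Lib.Helper45.normalizer_le_normalizer_stabMod A))).trans
      (Cfsg.Agent.Lib.Helper47.normalizer_inf_le_normalizer_inf _ _)
  have hLC : L ≤ Subgroup.normalizer ((L ⊓ Subgroup.centralizer ((A : Subgroup G) : Set G) : Subgroup G) : Set G) :=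
    (le_inf Subgroup.le_normalizer
      (hLA.trans (Cfsg.Agent.Lib.Helper47.normalizer_le_normalizer_centralizer A))).trans
      (Cfsg.Agent.Lib.Helper47.normalizer_inf_le_normalizer_inf _ _)
  have hp' : ∀ k ∈ (L ⊓ Cfsg.Agent.Lib.Helper45.stabMod A : Subgroup G), (orderOf k).Coprime p →
      k ∈ (L ⊓ Subgroup.centralizer ((A : Subgroup G) : Set G) : Subgroup G) :=
    fun k hk hcop => ⟨hk.1, Cfsg.Agent.Lib.Helper45.mem_centralizer_of_mem_stabMod hAp hk.2 hcop⟩
  have hV : IsPGroup p ↥((L ⊓ Cfsg.Agent.Lib.Helper45.stabMod A) ⊓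
      Cfsg.pCoreOf p (M ⊔ Subgroup.centralizer (((Cfsg.largestPReducedOf p M) : Subgroup G) : Set G)) : Subgroup G) :=
    (Cfsg.Agent.Lib.Helper47.pCoreOf_isPGroup p _).to_le inf_le_right
  have hCV : (L ⊓ Subgroup.centralizer ((A : Subgroup G) : Set G) : Subgroup G) ≤
      Subgroup.normalizer (((L ⊓ Cfsg.Agent.Lib.Helper45.stabMod A) ⊓
      Cfsg.pCoreOf p (M ⊔ Subgroup.centralizer (((Cfsg.largestPReducedOf p M) : Subgroup G) : Set G)) : Subgroup G) : Set G) :=
    (le_inf ((inf_le_left : L ⊓ _ ≤ L).trans hLK)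
      (hCM.trans (Cfsg.Agent.Lib.Helper47.le_normalizer_pCoreOf p _))).trans
      (Cfsg.Agent.Lib.Helper47.normalizer_inf_le_normalizer_inf _ _)
  have hVcore := Cfsg.Agent.Lib.Helper45.le_pCoreOf_of_normalized
    ((inf_le_left : L ⊓ Cfsg.Agent.Lib.Helper45.stabMod A ≤ L).trans hLC) hp' inf_le_left hV hCV
  have hKL : Cfsg.pCoreOf p (L ⊓ Cfsg.Agent.Lib.Helper45.stabMod A) ≤ Cfsg.pCoreOf p L :=
    Cfsg.Agent.Lib.Helper47.le_pCoreOf
      ((Cfsg.Agent.Lib.Helper47.pCoreOf_le p _).trans inf_le_left)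
      (hLK.trans (Cfsg.Agent.Lib.Helper47.normalizer_le_normalizer_pCoreOf p _))
      (Cfsg.Agent.Lib.Helper47.pCoreOf_isPGroup p _)
  have hYstab : Y ≤ Cfsg.Agent.Lib.Helper45.stabMod A := by
    intro y hy
    refine ⟨hLA (hYL hy), fun a ha => ?_⟩
    have h1 : ⁅a, y⁆ ∈ ⁅A, Y⁆ := Subgroup.commutator_mem_commutator ha hy
    rw [Subgroup.commutator_comm] at h1
    exact (Subgroup.commutator_mono hIA le_rfl) (hc h1)
  exact (le_inf (le_inf hYL hYstab) hY).trans (hVcore.trans hKL)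

end Cfsg.Agent.S2864
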