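import Mathlib
import Cfsg.Statements.S2874

set_option autoImplicit false
open Cfsg

namespace Cfsg.Agent.S2874

/-- reduction mod 2 -/
noncomputable def red (k : ℕ) (hk : 1 ≤ k) : ZMod (2 ^ k) →+* ZMod 2 :=
  ZMod.castHom (dvd_pow_self 2 (by omega)) (ZMod 2)

lemma red_eq_zero_iff (k : ℕ) (hk : 1 ≤ k) (t : ZMod (2 ^ k)) :
    red k hk t = 0 ↔ 2 ∣ t.val := by
  have : NeZero (2 ^ k) := ⟨by positivity⟩
  have h1 : t = ((t.val : ℕ) : ZMod (2 ^ k)) := (ZMod.natCast_zmod_val t).symm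
  conv_lhs => rw [h1]
  rw [map_natCast, ZMod.natCast_eq_zero_iff]

lemma red_zero_of_mul (k : ℕ) (hk : 1 ≤ k) (a : ℕ) (ha : a < k) (t : ZMod (2 ^ k))
    (h : (2 : ZMod (2 ^ k)) ^ a * t = 0) : red k hk t = 0 := by
  have : NeZero (2 ^ k) := ⟨by positivity⟩
  rw [red_eq_zero_iff]
  have h1 : t = ((t.val : ℕ) : ZMod (2 ^ k)) := (ZMod.natCast_zmod_val t).symm
  rw [h1] at h
  have h2 : (((2 ^ a * t.val : ℕ)) : ZMod (2 ^ k)) = 0 := by
    push_cast; exact h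
  rw [ZMod.natCast_eq_zero_iff] at h2
  obtain ⟨m, hm⟩ : ∃ m, k = a + 1 + m := ⟨k - a - 1, by omega⟩
  have h2' : 2 ^ a * (2 * 2 ^ m) ∣ 2 ^ a * t.val := by
    have : 2 ^ a * (2 * 2 ^ m) = 2 ^ k := by rw [hm]; ring
    rw [this]; exact h2
  have h3 : 2 * 2 ^ m ∣ t.val := Nat.dvd_of_mul_dvd_mul_left (by positivity) h2'
  exact dvd_trans (dvd_mul_right 2 _) h3

lemma exists_two_mul (k : ℕ) (hk : 1 ≤ k) (t : ZMod (2 ^ k)) (h : red k hk t = 0) :
    ∃ t', t = 2 * t' := by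
  have : NeZero (2 ^ k) := ⟨by positivity⟩
  rw [red_eq_zero_iff] at h
  obtain ⟨m, hm⟩ := h
  refine ⟨(m : ZMod (2 ^ k)), ?_⟩
  have h1 : t = ((t.val : ℕ) : ZMod (2 ^ k)) := (ZMod.natCast_zmod_val t).symm
  rw [h1, hm]; push_cast; rfl

lemma isUnit_of_red_one (k : ℕ) (hk : 1 ≤ k) (t : ZMod (2 ^ k)) (h : red k hk t = 1) :
    IsUnit t := by
  have : NeZero (2 ^ k) := ⟨by positivity⟩
  have h1 : t = ((t.val : ℕ) : ZMod (2 ^ k)) := (ZMod.natCast_zmod_val t).symm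
  rw [h1, ZMod.isUnit_iff_coprime]
  apply Nat.Coprime.pow_right
  rw [Nat.coprime_two_right]
  by_contra hodd
  rw [Nat.not_odd_iff_even, even_iff_two_dvd, ← red_eq_zero_iff k hk] at hodd
  rw [hodd] at h
  exact zero_ne_one h

lemma two_pow_self (k : ℕ) : (2 : ZMod (2 ^ k)) ^ k = 0 := by
  have : ((2 ^ k : ℕ) : ZMod (2 ^ k)) = 0 := ZMod.natCast_self _
  push_cast at this; exact this

lemma red_two (k : ℕ) (hk : 1 ≤ k) : red k hk 2 = 0 := by
  have : red k hk ((2 : ℕ) : ZMod (2 ^ k)) = 0 := by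
    rw [map_natCast]; decide
  simpa using this

lemma top_mul_of_red_zero (k : ℕ) (hk : 1 ≤ k) (x : ZMod (2 ^ k)) (h : red k hk x = 0) :
    (2 : ZMod (2 ^ k)) ^ (k - 1) * x = 0 := by
  obtain ⟨x', rfl⟩ := exists_two_mul k hk x h
  have : (2 : ZMod (2 ^ k)) ^ (k - 1) * (2 * x') = 2 ^ k * x' := by
    obtain ⟨m, rfl⟩ : ∃ m, k = m + 1 := ⟨k - 1, by omega⟩
    simp only [Nat.add_sub_cancel]; ring
  rw [this, two_pow_self, zero_mul]

lemma top_mul_of_red_one (k : ℕ) (hk : 1 ≤ k) (x : ZMod (2 ^ k)) (h : red k hk x = 1) :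
    (2 : ZMod (2 ^ k)) ^ (k - 1) * x = 2 ^ (k - 1) := by
  have h0 : red k hk (x - 1) = 0 := by rw [map_sub, h, map_one, sub_self]
  have := top_mul_of_red_zero k hk _ h0
  linear_combination this

lemma fin1 : ∀ p q r s : ZMod 2, p*p + q*r = 1 → p*q + q*s = 0 → r*p + s*r = 0 → r*q + s*s = 1 →
    p*(r+s) + q*(-p-q+r+s) = s - q → -(p*r) + q*(p-r) = p+q-r-s →
    r*(r+s) + s*(-p-q+r+s) = -q → -(r*r) + s*(p-r) = p+q →
    p = 1 ∧ q = 0 ∧ r = 0 ∧ s = 1 := by decide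

lemma fin2 : ∀ e a b c d : ZMod 2, a + e*(a*a + b*c) = 0 → b + e*(b*(a+d)) = 0 →
    c + e*(c*(a+d)) = 0 → d + e*(d*d + b*c) = 0 →
    a + b + c = 0 → d - a = 0 → -c + d - b = 0 →
    a = 0 ∧ b = 0 ∧ c = 0 ∧ d = 0 := by decide

lemma fin3 : ∀ a b c d : ZMod 2, a + b + c = 0 → d - a = 0 → -c + d - b = 0 →
    (a = 0 ∧ b = 0 ∧ c = 0 ∧ d = 0) ∨ (a = 0 ∧ b = 1 ∧ c = 1 ∧ d = 0) ∨
    (a = 1 ∧ b = 0 ∧ c = 1 ∧ d = 1) ∨ (a = 1 ∧ b = 1 ∧ c = 0 ∧ d = 1) := by decide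

section scalar
variable (k : ℕ) (hk : 2 ≤ k) (p q r s : ZMod (2 ^ k))
  (e11 : p*p + q*r = 1) (e12 : p*q + q*s = 0) (e21 : r*p + s*r = 0) (e22 : r*q + s*s = 1)
  (f11 : p*(r+s) + q*(-p-q+r+s) = s - q) (f12 : -(p*r) + q*(p-r) = p+q-r-s)
  (f21 : r*(r+s) + s*(-p-q+r+s) = -q) (f22 : -(r*r) + s*(p-r) = p+q)

include hk e11 e12 e21 e22 f11 f12 f21 f22

lemma layer : ∀ j, 1 ≤ j → j ≤ k - 1 → ∃ x₁ x₂ x₃ x₄ : ZMod (2 ^ k),
    p = 1 + 2^j*x₁ ∧ q = 2^j*x₂ ∧ r = 2^j*x₃ ∧ s = 1 + 2^j*x₄ := by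
  have hk1 : 1 ≤ k := by omega
  intro j hj
  induction j, hj using Nat.le_induction with
  | base =>
    intro _
    have := fin1 (red k hk1 p) (red k hk1 q) (red k hk1 r) (red k hk1 s)
      (by rw [← map_mul, ← map_mul, ← map_add, e11, map_one])
      (by rw [← map_mul, ← map_mul, ← map_add, e12, map_zero])
      (by rw [← map_mul, ← map_mul, ← map_add, e21, map_zero])
      (by rw [← map_mul, ← map_mul, ← map_add, e22, map_one])
      (by have := congrArg (red k hk1) f11; simpa using this)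
      (by have := congrArg (red k hk1) f12; simpa using this)
      (by have := congrArg (red k hk1) f21; simpa using this)
      (by have := congrArg (red k hk1) f22; simpa using this)
    obtain ⟨hp, hq, hr, hs⟩ := this
    obtain ⟨x₁, h1⟩ := exists_two_mul k hk1 (p - 1) (by rw [map_sub, hp, map_one, sub_self])
    obtain ⟨x₂, h2⟩ := exists_two_mul k hk1 q hq
    obtain ⟨x₃, h3⟩ := exists_two_mul k hk1 r hr
    obtain ⟨x₄, h4⟩ := exists_two_mul k hk1 (s - 1) (by rw [map_sub, hs, map_one, sub_self])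
    exact ⟨x₁, x₂, x₃, x₄, by linear_combination h1, by linear_combination h2,
      by linear_combination h3, by linear_combination h4⟩
  | succ j hj ih =>
    intro hjk
    obtain ⟨x₁, x₂, x₃, x₄, rfl, rfl, rfl, rfl⟩ := ih (by omega)
    obtain ⟨i, rfl⟩ : ∃ i, j = i + 1 := ⟨j - 1, by omega⟩
    have hlt : i + 1 + 1 < k := by omega
    have hlt' : i + 1 < k := by omega
    have r2 : red k hk1 ((2 : ZMod (2 ^ k)) ^ (i + 1)) = 0 := by
      rw [map_pow, red_two, zero_pow (by omega)]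
    have g11 := red_zero_of_mul k hk1 (i + 1 + 1) hlt (x₁ + 2^i*(x₁*x₁ + x₂*x₃))
      (by linear_combination e11)
    have g12 := red_zero_of_mul k hk1 (i + 1 + 1) hlt (x₂ + 2^i*(x₂*(x₁ + x₄)))
      (by linear_combination e12)
    have g21 := red_zero_of_mul k hk1 (i + 1 + 1) hlt (x₃ + 2^i*(x₃*(x₁ + x₄)))
      (by linear_combination e21)
    have g22 := red_zero_of_mul k hk1 (i + 1 + 1) hlt (x₄ + 2^i*(x₄*x₄ + x₂*x₃))
      (by linear_combination e22)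
    have t11 := red_zero_of_mul k hk1 (i + 1) hlt'
      (x₁ + x₂ + x₃ + 2^(i+1)*(x₁*(x₃+x₄) + x₂*(-x₁-x₂+x₃+x₄)))
      (by linear_combination f11)
    have t12 := red_zero_of_mul k hk1 (i + 1) hlt'
      (x₄ - x₁ + 2^(i+1)*(-(x₁*x₃) + x₂*(x₁-x₃)))
      (by linear_combination f12)
    have t22 := red_zero_of_mul k hk1 (i + 1) hlt'
      (-x₃ + x₄ - x₂ + 2^(i+1)*(x₄*(x₁-x₃) - x₃*x₃))
      (by linear_combination f22)
    simp only [map_add, map_mul, map_sub, map_neg, r2, zero_mul, add_zero] at t11 t12 t22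
    simp only [map_add, map_mul, map_pow] at g11 g12 g21 g22
    obtain ⟨h1, h2, h3, h4⟩ := fin2 _ _ _ _ _ g11 g12 g21 g22 t11 t12 t22
    obtain ⟨y₁, rfl⟩ := exists_two_mul k hk1 x₁ h1
    obtain ⟨y₂, rfl⟩ := exists_two_mul k hk1 x₂ h2
    obtain ⟨y₃, rfl⟩ := exists_two_mul k hk1 x₃ h3
    obtain ⟨y₄, rfl⟩ := exists_two_mul k hk1 x₄ h4
    exact ⟨y₁, y₂, y₃, y₄, by ring, by ring, by ring, by ring⟩

lemma classify : (p = 1 ∧ q = 0 ∧ r = 0 ∧ s = 1) ∨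
    (p = 1 ∧ q = 2^(k-1) ∧ r = 2^(k-1) ∧ s = 1) ∨
    (p = 1 + 2^(k-1) ∧ q = 0 ∧ r = 2^(k-1) ∧ s = 1 + 2^(k-1)) ∨
    (p = 1 + 2^(k-1) ∧ q = 2^(k-1) ∧ r = 0 ∧ s = 1 + 2^(k-1)) := by
  have hk1 : 1 ≤ k := by omega
  obtain ⟨x₁, x₂, x₃, x₄, rfl, rfl, rfl, rfl⟩ :=
    layer k hk p q r s e11 e12 e21 e22 f11 f12 f21 f22 (k - 1) (by omega) le_rfl
  have hlt' : k - 1 < k := by omega
  have r2 : red k hk1 ((2 : ZMod (2 ^ k)) ^ (k - 1)) = 0 := by
    rw [map_pow, red_two, zero_pow (by omega)]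
  have t11 := red_zero_of_mul k hk1 (k - 1) hlt'
    (x₁ + x₂ + x₃ + 2^(k-1)*(x₁*(x₃+x₄) + x₂*(-x₁-x₂+x₃+x₄)))
    (by linear_combination f11)
  have t12 := red_zero_of_mul k hk1 (k - 1) hlt'
    (x₄ - x₁ + 2^(k-1)*(-(x₁*x₃) + x₂*(x₁-x₃)))
    (by linear_combination f12)
  have t22 := red_zero_of_mul k hk1 (k - 1) hlt'
    (-x₃ + x₄ - x₂ + 2^(k-1)*(x₄*(x₁-x₃) - x₃*x₃))
    (by linear_combination f22)
  simp only [map_add, map_mul, map_sub, map_neg, r2, zero_mul, add_zero] at t11 t12 t22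
  have z := top_mul_of_red_zero k hk1
  have o := top_mul_of_red_one k hk1
  rcases fin3 _ _ _ _ t11 t12 t22 with ⟨h1, h2, h3, h4⟩ | ⟨h1, h2, h3, h4⟩ | ⟨h1, h2, h3, h4⟩ |
    ⟨h1, h2, h3, h4⟩
  · left
    rw [z _ h1, z _ h2, z _ h3, z _ h4]; simp
  · right; left
    rw [z _ h1, o _ h2, o _ h3, z _ h4]; simp
  · right; right; left
    rw [o _ h1, z _ h2, o _ h3, o _ h4]; simp
  · right; right; right
    rw [o _ h1, o _ h2, z _ h3, o _ h4]; simp

end scalar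

/-! ### matrix level -/

/-- the companion matrix of `t^2+t+1` -/
def Cm (R : Type*) [CommRing R] : Matrix (Fin 2) (Fin 2) R := !![0, -1; 1, -1]
/-- its inverse -/
def Ci (R : Type*) [CommRing R] : Matrix (Fin 2) (Fin 2) R := !![-1, 1; -1, 0]

lemma Cm_mul_Ci (R : Type*) [CommRing R] : Cm R * Ci R = 1 := by
  ext i j; fin_cases i <;> fin_cases j <;> simp [Cm, Ci, Matrix.mul_apply, Fin.sum_univ_two]
lemma Ci_mul_Cm (R : Type*) [CommRing R] : Ci R * Cm R = 1 := by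
  ext i j; fin_cases i <;> fin_cases j <;> simp [Cm, Ci, Matrix.mul_apply, Fin.sum_univ_two]

/-- the three deep involutions -/
def E1 (k : ℕ) : Matrix (Fin 2) (Fin 2) (ZMod (2 ^ k)) := !![1 + 2^(k-1), 2^(k-1); 0, 1 + 2^(k-1)]
def E2 (k : ℕ) : Matrix (Fin 2) (Fin 2) (ZMod (2 ^ k)) := !![1 + 2^(k-1), 0; 2^(k-1), 1 + 2^(k-1)]
def E3 (k : ℕ) : Matrix (Fin 2) (Fin 2) (ZMod (2 ^ k)) := !![1, 2^(k-1); 2^(k-1), 1]

lemma deep_matrix (k : ℕ) (hk : 2 ≤ k) (u : Matrix (Fin 2) (Fin 2) (ZMod (2 ^ k)))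
    (h1 : u * u = 1)
    (h2 : u * (Cm _ * u * Ci _) = Cm _ * Cm _ * u * Ci _ * Ci _) :
    u = 1 ∨ u = E3 k ∨ u = E2 k ∨ u = E1 k := by
  obtain ⟨p, q, r, s, rfl⟩ : ∃ p q r s, u = !![p, q; r, s] := ⟨_, _, _, _, Matrix.eta_fin_two u⟩
  simp only [Cm, Ci, Matrix.mul_fin_two, Matrix.one_fin_two] at h1 h2
  have e11 := congrFun (congrFun h1 0) 0
  have e12 := congrFun (congrFun h1 0) 1
  have e21 := congrFun (congrFun h1 1) 0
  have e22 := congrFun (congrFun h1 1) 1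
  have f11 := congrFun (congrFun h2 0) 0
  have f12 := congrFun (congrFun h2 0) 1
  have f21 := congrFun (congrFun h2 1) 0
  have f22 := congrFun (congrFun h2 1) 1
  simp at e11 e12 e21 e22 f11 f12 f21 f22
  have := classify k hk p q r s (by linear_combination e11)
    (by linear_combination e12) (by linear_combination e21) (by linear_combination e22)
    (by linear_combination f11) (by linear_combination f12) (by linear_combination f21)
    (by linear_combination f22)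
  rcases this with ⟨a, b, c, d⟩ | ⟨a, b, c, d⟩ | ⟨a, b, c, d⟩ | ⟨a, b, c, d⟩
  · left; rw [a, b, c, d, Matrix.one_fin_two]
  · right; left; rw [a, b, c, d, E3]
  · right; right; left; rw [a, b, c, d, E2]
  · right; right; right; rw [a, b, c, d, E1]


/-! ### `A₄` data -/

/-- a 3-cycle in A₄ -/
def c0 : alternatingGroup (Fin 4) :=
  ⟨Equiv.swap 0 1 * Equiv.swap 1 2, by rw [Equiv.Perm.mem_alternatingGroup]; decide⟩
/-- the double transposition (0 1)(2 3) in A₄ -/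
def u0 : alternatingGroup (Fin 4) :=
  ⟨Equiv.swap 0 1 * Equiv.swap 2 3, by rw [Equiv.Perm.mem_alternatingGroup]; decide⟩

set_option maxRecDepth 100000 in
lemma a4_facts : u0 ≠ 1 ∧ u0 * u0 = 1 ∧ c0 ≠ 1 ∧ c0 * c0 * c0 = 1 ∧
    u0 * (c0 * u0 * c0⁻¹) = c0 * c0 * u0 * c0⁻¹ * c0⁻¹ ∧
    ∀ x : alternatingGroup (Fin 4), ∃ i : Fin 3,
      x = c0 ^ (i : ℕ) ∨ x = u0 * c0 ^ (i : ℕ) ∨ x = (c0 * u0 * c0⁻¹) * c0 ^ (i : ℕ) ∨
        x = (c0 * c0 * u0 * c0⁻¹ * c0⁻¹) * c0 ^ (i : ℕ) := by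
  decide

lemma exists_data {Γ : Type*} [Group Γ] (H : Subgroup Γ)
    (e : H ≃* alternatingGroup (Fin 4)) :
    ∃ u c : Γ, u ≠ 1 ∧ u * u = 1 ∧ c ≠ 1 ∧ c * c * c = 1 ∧
      u * (c * u * c⁻¹) = c * c * u * c⁻¹ * c⁻¹ ∧
      ∀ x, x ∈ H ↔ ∃ i : Fin 3, x = c ^ (i : ℕ) ∨ x = u * c ^ (i : ℕ) ∨
        x = (c * u * c⁻¹) * c ^ (i : ℕ) ∨ x = (c * c * u * c⁻¹ * c⁻¹) * c ^ (i : ℕ) := by
  obtain ⟨h1, h2, h3, h4, h5, h6⟩ := a4_facts
  have inj : Function.Injective (fun y : H => (y : Γ)) := Subtype.val_injective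
  refine ⟨(e.symm u0 : Γ), (e.symm c0 : Γ), ?_, ?_, ?_, ?_, ?_, ?_⟩
  · intro h
    apply h1
    have : e.symm u0 = 1 := Subtype.ext h
    simpa using congrArg e this
  · have := congrArg (fun y => ((e.symm y : H) : Γ)) h2
    simpa using this
  · intro h
    apply h3
    have : e.symm c0 = 1 := Subtype.ext h
    simpa using congrArg e this
  · have := congrArg (fun y => ((e.symm y : H) : Γ)) h4
    simpa using this
  · have := congrArg (fun y => ((e.symm y : H) : Γ)) h5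
    simpa using this
  · intro x
    constructor
    · intro hx
      obtain ⟨i, hi⟩ := h6 (e ⟨x, hx⟩)
      refine ⟨i, ?_⟩
      have key : ∀ y : alternatingGroup (Fin 4), e ⟨x, hx⟩ = y → x = ((e.symm y : H) : Γ) := by
        intro y hy
        rw [← hy]; simp
      rcases hi with hi | hi | hi | hi
      · left; rw [key _ hi]; simp
      · right; left; rw [key _ hi]; simp
      · right; right; left; rw [key _ hi]; simp
      · right; right; right; rw [key _ hi]; simp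
    · rintro ⟨i, hi | hi | hi | hi⟩
      · rw [hi]; exact H.pow_mem (e.symm c0).2 _
      · rw [hi]; exact H.mul_mem (e.symm u0).2 (H.pow_mem (e.symm c0).2 _)
      · rw [hi]
        exact H.mul_mem (H.mul_mem (H.mul_mem (e.symm c0).2 (e.symm u0).2)
          (H.inv_mem (e.symm c0).2)) (H.pow_mem (e.symm c0).2 _)
      · rw [hi]
        exact H.mul_mem (H.mul_mem (H.mul_mem (H.mul_mem (H.mul_mem (e.symm c0).2 (e.symm c0).2)
          (e.symm u0).2) (H.inv_mem (e.symm c0).2)) (H.inv_mem (e.symm c0).2))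
          (H.pow_mem (e.symm c0).2 _)


lemma exists_data' {Γ : Type*} [Group Γ] (H : Subgroup Γ)
    (e : H ≃* alternatingGroup (Fin 4)) :
    ∃ u c : Γ, u ≠ 1 ∧ u * u = 1 ∧ c ≠ 1 ∧ c * c * c = 1 ∧
      u * (c * u * c⁻¹) = c * c * u * c⁻¹ * c⁻¹ ∧
      ∀ x, x ∈ H ↔ ∃ i : Fin 3, ∃ v ∈ ({1, u, c * u * c⁻¹, c * c * u * c⁻¹ * c⁻¹} : Set Γ),
        x = v * c ^ (i : ℕ) := by
  obtain ⟨u, c, h1, h2, h3, h4, h5, h6⟩ := exists_data H e
  refine ⟨u, c, h1, h2, h3, h4, h5, ?_⟩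
  intro x
  rw [h6]
  constructor
  · rintro ⟨i, hi | hi | hi | hi⟩
    · exact ⟨i, 1, by simp, by rw [hi, one_mul]⟩
    · exact ⟨i, u, by simp, hi⟩
    · exact ⟨i, _, by simp, hi⟩
    · exact ⟨i, _, by simp, hi⟩
  · rintro ⟨i, v, hv, hx⟩
    simp only [Set.mem_insert_iff, Set.mem_singleton_iff] at hv
    refine ⟨i, ?_⟩
    rcases hv with rfl | rfl | rfl | rfl
    · left; rw [hx, one_mul]
    · right; left; exact hx
    · right; right; left; exact hx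
    · right; right; right; exact hx

/-! ### order three elements -/

lemma fin4 : ∀ a b c d : ZMod 2,
    (a*a + b*c)*a + (a*b + b*d)*c = 1 → (a*a + b*c)*b + (a*b + b*d)*d = 0 →
    (c*a + d*c)*a + (c*b + d*d)*c = 0 → (c*a + d*c)*b + (c*b + d*d)*d = 1 →
    (a = 1 ∧ b = 0 ∧ c = 0 ∧ d = 1) ∨ (c = 1 ∧ (a - 1)*(d - 1) - b*c = 1) := by decide

lemma order3_matrix (k : ℕ) (hk : 1 ≤ k) (M : Matrix (Fin 2) (Fin 2) (ZMod (2 ^ k)))
    (h3 : M * M * M = 1) (hne : M ≠ 1) : IsUnit (M 1 0) ∧ M * M + M + 1 = 0 := by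
  have key : (M - 1) * (M * M + M + 1) = 0 := by
    have : (M - 1) * (M * M + M + 1) = M * M * M - 1 := by noncomm_ring
    rw [this, h3, sub_self]
  obtain ⟨p, q, r, s, rfl⟩ : ∃ p q r s, M = !![p, q; r, s] := ⟨_, _, _, _, Matrix.eta_fin_two M⟩
  have h3' := h3
  simp only [Matrix.mul_fin_two, Matrix.one_fin_two] at h3'
  have e11 := congrFun (congrFun h3' 0) 0
  have e12 := congrFun (congrFun h3' 0) 1
  have e21 := congrFun (congrFun h3' 1) 0
  have e22 := congrFun (congrFun h3' 1) 1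
  simp at e11 e12 e21 e22
  have := fin4 (red k hk p) (red k hk q) (red k hk r) (red k hk s)
    (by have := congrArg (red k hk) e11; simpa using this)
    (by have := congrArg (red k hk) e12; simpa using this)
    (by have := congrArg (red k hk) e21; simpa using this)
    (by have := congrArg (red k hk) e22; simpa using this)
  rcases this with ⟨hp, hq, hr, hs⟩ | ⟨hr, hdet⟩
  · exfalso
    have hU : IsUnit (!![p, q; r, s] * !![p, q; r, s] + !![p, q; r, s] + 1) := by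
      rw [Matrix.isUnit_iff_isUnit_det]
      apply isUnit_of_red_one k hk
      simp [Matrix.one_fin_two, Matrix.det_fin_two, hp, hq, hr, hs]
      decide
    rw [hU.mul_left_eq_zero] at key
    exact hne (sub_eq_zero.mp key)
  · refine ⟨isUnit_of_red_one k hk _ (by simpa using hr), ?_⟩
    have hU : IsUnit (!![p, q; r, s] - 1) := by
      rw [Matrix.isUnit_iff_isUnit_det]
      apply isUnit_of_red_one k hk
      simp [Matrix.one_fin_two, Matrix.det_fin_two]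
      simpa using hdet
    rwa [hU.mul_right_eq_zero] at key

/-- `Cm` as an element of `GL₂` -/
def C0 (k : ℕ) : GL (Fin 2) (ZMod (2 ^ k)) := ⟨Cm _, Ci _, Cm_mul_Ci _, Ci_mul_Cm _⟩

lemma C0_val (k : ℕ) : ((C0 k : GL (Fin 2) (ZMod (2 ^ k))) : Matrix (Fin 2) (Fin 2) (ZMod (2 ^ k))) = Cm _ := rfl
lemma C0_inv_val (k : ℕ) : (((C0 k)⁻¹ : GL (Fin 2) (ZMod (2 ^ k))) : Matrix (Fin 2) (Fin 2) (ZMod (2 ^ k))) = Ci _ := rfl

lemma exists_conj_C0 (k : ℕ) (hk : 1 ≤ k) (c : GL (Fin 2) (ZMod (2 ^ k)))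
    (h3 : c * c * c = 1) (hne : c ≠ 1) : ∃ g : GL (Fin 2) (ZMod (2 ^ k)), g⁻¹ * c * g = C0 k := by
  have h3' : (c : Matrix (Fin 2) (Fin 2) (ZMod (2 ^ k))) * c * c = 1 := by
    have := congrArg Units.val h3
    simpa using this
  have hne' : (c : Matrix (Fin 2) (Fin 2) (ZMod (2 ^ k))) ≠ 1 := by
    intro h; exact hne (Units.ext h)
  obtain ⟨hu, hN⟩ := order3_matrix k hk _ h3' hne'
  obtain ⟨p, q, r, s, hM⟩ : ∃ p q r s, (c : Matrix (Fin 2) (Fin 2) (ZMod (2 ^ k))) = !![p, q; r, s] :=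
    ⟨_, _, _, _, Matrix.eta_fin_two _⟩
  rw [hM] at hu hN
  simp only [Matrix.mul_fin_two, Matrix.one_fin_two] at hN
  have n11 := congrFun (congrFun hN 0) 0
  have n21 := congrFun (congrFun hN 1) 0
  simp at n11 n21 hu
  have hG : IsUnit (!![1, p; 0, r] : Matrix (Fin 2) (Fin 2) (ZMod (2 ^ k))) := by
    rw [Matrix.isUnit_iff_isUnit_det]
    simpa [Matrix.det_fin_two] using hu
  refine ⟨hG.unit, ?_⟩
  have hcg : c * hG.unit = hG.unit * C0 k := by
    apply Units.ext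
    rw [Units.val_mul, Units.val_mul, IsUnit.unit_spec, hM, C0_val, Cm]
    simp only [Matrix.mul_fin_two]
    ext i j; fin_cases i <;> fin_cases j <;> simp
    · linear_combination n11
    · linear_combination n21
  rw [mul_assoc, hcg, inv_mul_cancel_left]

/-! ### the three deep involutions are permuted by `Cm` -/

lemma two_mul_top (k : ℕ) (hk : 1 ≤ k) : (2 : ZMod (2 ^ k)) * 2 ^ (k - 1) = 0 := by
  have : (2 : ZMod (2 ^ k)) * 2 ^ (k - 1) = 2 ^ k := by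
    obtain ⟨m, rfl⟩ : ∃ m, k = m + 1 := ⟨k - 1, by omega⟩
    simp only [Nat.add_sub_cancel]; ring
  rw [this, two_pow_self]

lemma conj_E1 (k : ℕ) (hk : 1 ≤ k) : Cm _ * E1 k * Ci _ = E2 k := by
  have h := two_mul_top k hk
  simp only [Cm, Ci, E1, E2, Matrix.mul_fin_two]
  ext i j; fin_cases i <;> fin_cases j <;> simp
  all_goals first | ring1 | linear_combination h | linear_combination (-1 : ZMod (2 ^ k)) * h
lemma conj_E2 (k : ℕ) (hk : 1 ≤ k) : Cm _ * E2 k * Ci _ = E3 k := by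
  have h := two_mul_top k hk
  simp only [Cm, Ci, E2, E3, Matrix.mul_fin_two]
  ext i j; fin_cases i <;> fin_cases j <;> simp
  all_goals first | ring1 | linear_combination h | linear_combination (-1 : ZMod (2 ^ k)) * h
lemma conj_E3 (k : ℕ) (hk : 1 ≤ k) : Cm _ * E3 k * Ci _ = E1 k := by
  have h := two_mul_top k hk
  simp only [Cm, Ci, E3, E1, Matrix.mul_fin_two]
  ext i j; fin_cases i <;> fin_cases j <;> simp
  all_goals first | ring1 | linear_combination h | linear_combination (-1 : ZMod (2 ^ k)) * h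


/-! ### assembly -/

/-- the standard copy of `A₄` (as a set) -/
def S (k : ℕ) : Set (GL (Fin 2) (ZMod (2 ^ k))) :=
  {y | ∃ i : Fin 3, ∃ e ∈ ({1, E1 k, E2 k, E3 k} : Set (Matrix (Fin 2) (Fin 2) (ZMod (2 ^ k)))),
      (y : Matrix (Fin 2) (Fin 2) (ZMod (2 ^ k))) = e * (Cm _) ^ (i : ℕ)}

lemma vset_eq (k : ℕ) (hk : 1 ≤ k) (A : Matrix (Fin 2) (Fin 2) (ZMod (2 ^ k)))
    (hA : A = E3 k ∨ A = E2 k ∨ A = E1 k) :
    ({1, A, Cm _ * A * Ci _, Cm _ * Cm _ * A * Ci _ * Ci _} :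
      Set (Matrix (Fin 2) (Fin 2) (ZMod (2 ^ k)))) = {1, E1 k, E2 k, E3 k} := by
  have h : Cm (ZMod (2 ^ k)) * Cm _ * A * Ci _ * Ci _ = Cm _ * (Cm _ * A * Ci _) * Ci _ := by
    simp only [mul_assoc]
  rw [h]
  rcases hA with rfl | rfl | rfl
  · rw [conj_E3 k hk, conj_E1 k hk]
    ext x; simp only [Set.mem_insert_iff, Set.mem_singleton_iff]; tauto
  · rw [conj_E2 k hk, conj_E3 k hk]
    ext x; simp only [Set.mem_insert_iff, Set.mem_singleton_iff]; tauto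
  · rw [conj_E1 k hk, conj_E2 k hk]

lemma main_H (k : ℕ) (hk : 2 ≤ k) (H : Subgroup (GL (Fin 2) (ZMod (2 ^ k))))
    (e : H ≃* alternatingGroup (Fin 4)) :
    ∃ g : GL (Fin 2) (ZMod (2 ^ k)), ∀ x, x ∈ H ↔ g⁻¹ * x * g ∈ S k := by
  obtain ⟨u, c, hu1, hu2, hc1, hc3, hrel, hmem⟩ := exists_data' H e
  obtain ⟨g, hg⟩ := exists_conj_C0 k (by omega) c hc3 hc1
  refine ⟨g, ?_⟩
  let ψ : GL (Fin 2) (ZMod (2 ^ k)) ≃* GL (Fin 2) (ZMod (2 ^ k)) := MulAut.conj g⁻¹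
  have hψ : ∀ a, ψ a = g⁻¹ * a * g := by
    intro a; simp [ψ]
  have hψc : ψ c = C0 k := by rw [hψ, hg]
  have h1 : (ψ u).val * (ψ u).val = 1 := by
    rw [← Units.val_mul, ← map_mul, hu2, map_one, Units.val_one]
  have f3 : (ψ (c * u * c⁻¹)).val = Cm _ * (ψ u).val * Ci _ := by
    rw [map_mul, map_mul, map_inv, hψc, Units.val_mul, Units.val_mul, C0_val, C0_inv_val]
  have f4 : (ψ (c * c * u * c⁻¹ * c⁻¹)).val = Cm _ * Cm _ * (ψ u).val * Ci _ * Ci _ := by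
    rw [map_mul, map_mul, map_mul, map_mul, map_inv, hψc, Units.val_mul, Units.val_mul,
      Units.val_mul, Units.val_mul, C0_val, C0_inv_val]
  have h2 : (ψ u).val * (Cm _ * (ψ u).val * Ci _) = Cm _ * Cm _ * (ψ u).val * Ci _ * Ci _ := by
    rw [← f3, ← f4, ← Units.val_mul, ← map_mul, hrel]
  have hA := deep_matrix k hk _ h1 h2
  have hA' : (ψ u).val = E3 k ∨ (ψ u).val = E2 k ∨ (ψ u).val = E1 k := by
    rcases hA with h | h
    · exfalso
      have : ψ u = 1 := Units.ext h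
      rw [← map_one ψ] at this
      exact hu1 (ψ.injective this)
    · exact h
  have hV := vset_eq k (by omega) _ hA'
  intro x
  rw [hmem x, S, Set.mem_ofPred_eq]
  constructor
  · rintro ⟨i, v, hv, hx⟩
    refine ⟨i, (ψ v).val, ?_, ?_⟩
    · rw [← hV]
      simp only [Set.mem_insert_iff, Set.mem_singleton_iff] at hv ⊢
      rcases hv with rfl | rfl | rfl | rfl
      · left; rw [map_one, Units.val_one]
      · right; left; rfl
      · right; right; left; exact f3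
      · right; right; right; exact f4
    · rw [← hψ, hx, map_mul, map_pow, hψc, Units.val_mul, Units.val_pow_eq_pow_val, C0_val]
  · rintro ⟨i, m, hm, hx⟩
    rw [← hV] at hm
    simp only [Set.mem_insert_iff, Set.mem_singleton_iff] at hm
    have key : ∀ v : GL (Fin 2) (ZMod (2 ^ k)),
        m = (ψ v).val →
        x = v * c ^ (i : ℕ) := by
      intro v hv
      apply ψ.injective
      apply Units.ext
      rw [hψ, hx, hv, map_mul, map_pow, hψc, Units.val_mul, Units.val_pow_eq_pow_val, C0_val]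
    refine ⟨i, ?_⟩
    rcases hm with rfl | rfl | rfl | rfl
    · exact ⟨1, by simp, key 1 (by rw [map_one, Units.val_one])⟩
    · exact ⟨u, by simp, key u rfl⟩
    · exact ⟨c * u * c⁻¹, by simp, key _ f3.symm⟩
    · exact ⟨c * c * u * c⁻¹ * c⁻¹, by simp, key _ f4.symm⟩

/-- For k ≥ 2, any two subgroups of GL₂(ℤ/2ᵏℤ) (the automorphism group of the homocyclic group ℤ/2ᵏ × ℤ/2ᵏ) that are isomorphic to the alternating group of degree 4 are conjugate. -/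
theorem result (k : ℕ) (hk : 2 ≤ k) (H₁ H₂ : Subgroup (GL (Fin 2) (ZMod (2 ^ k)))) (h₁ : Nonempty (↥H₁ ≃* ↥(alternatingGroup (Fin 4)))) (h₂ : Nonempty (↥H₂ ≃* ↥(alternatingGroup (Fin 4)))) : ∃ g : GL (Fin 2) (ZMod (2 ^ k)), H₂ = H₁.map (MulAut.conj g).toMonoidHom := by
  obtain ⟨e₁⟩ := h₁
  obtain ⟨e₂⟩ := h₂
  obtain ⟨g₁, hg₁⟩ := main_H k hk H₁ e₁
  obtain ⟨g₂, hg₂⟩ := main_H k hk H₂ e₂
  refine ⟨g₂ * g₁⁻¹, ?_⟩
  ext x
  rw [Subgroup.mem_map]
  constructor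
  · intro hx
    rw [hg₂] at hx
    refine ⟨g₁ * (g₂⁻¹ * x * g₂) * g₁⁻¹, ?_, ?_⟩
    · rw [hg₁]
      have : g₁⁻¹ * (g₁ * (g₂⁻¹ * x * g₂) * g₁⁻¹) * g₁ = g₂⁻¹ * x * g₂ := by group
      rw [this]; exact hx
    · simp only [MulEquiv.coe_toMonoidHom, MulAut.conj_apply]
      group
  · rintro ⟨y, hy, rfl⟩
    rw [hg₂]
    rw [hg₁] at hy
    simp only [MulEquiv.coe_toMonoidHom, MulAut.conj_apply]
    have : g₂⁻¹ * (g₂ * g₁⁻¹ * y * (g₂ * g₁⁻¹)⁻¹) * g₂ = g₁⁻¹ * y * g₁ := by group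
    rw [this]; exact hy

end Cfsg.Agent.S2874
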