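-- Statement S2879: solvable group with dihedral or semidihedral Sylow 2-subgroup and normal `Z(T)`.
import Cfsg.Statements.S2879
import Cfsg.Agent.Lib.Helper20.DSBuild
import Cfsg.Agent.Lib.Helper20.Q8Normal
import Cfsg.Agent.Lib.Helper20.QuatSec4
import Cfsg.Agent.Lib.Helper48.PCore
import Cfsg.Agent.Lib.Helper53.SolvPSolv
import Cfsg.Agent.Lib.Helper76.PSolvable
import Cfsg.Agent.Lib.Helper22.Fitting

set_option autoImplicit false
set_option linter.style.haveILetI false
set_option linter.unusedSimpArgs false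
set_option linter.unusedSectionVars false
open Cfsg

namespace Cfsg.Agent.S2879

open Cfsg.Agent.Lib.Helper20 Cfsg.Agent.Lib.Helper20.QuatSec

/-- the `DS` structure of the Sylow subgroup -/
theorem exists_ds {G : Type*} [Group G] [Finite G] (T : Sylow 2 G)
    (hT : (∃ n : ℕ, 4 ≤ n ∧ Nonempty (↥(T : Subgroup G) ≃* DihedralGroup n)) ∨
      Cfsg.IsQuasiDihedral ↥(T : Subgroup G)) :
    ∃ (A : Subgroup G) (z : G), DS (T : Subgroup G) A z := by
  rcases hT with ⟨n, hn, ⟨e⟩⟩ | hQD
  · have hcard : Nat.card (T : Subgroup G) = 2 * n := by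
      rw [Nat.card_congr e.toEquiv, DihedralGroup.nat_card]
    obtain ⟨k, hk⟩ := (IsPGroup.iff_card.mp T.2)
    have hdvd : n ∣ 2 ^ k := by
      rw [← hk, hcard]
      exact dvd_mul_left n 2
    obtain ⟨m, -, hm⟩ := (Nat.dvd_prime_pow Nat.prime_two).mp hdvd
    have hm2 : 2 ≤ m := by
      by_contra hlt
      push Not at hlt
      have : m = 0 ∨ m = 1 := by omega
      rcases this with rfl | rfl <;> omega
    obtain ⟨m', rfl⟩ : ∃ m', m = m' + 1 := ⟨m - 1, by omega⟩
    have hn2 : n = 2 * 2 ^ m' := by rw [hm, pow_succ]; ring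
    subst hn2
    have hN2 : 2 ≤ 2 ^ m' := by
      have : 1 ≤ m' := by omega
      calc 2 = 2 ^ 1 := by norm_num
        _ ≤ 2 ^ m' := Nat.pow_le_pow_right (by norm_num) this
    haveI : NeZero (2 ^ m') := ⟨by positivity⟩
    exact ds_of_dihedral (T : Subgroup G) (2 ^ m') hN2 e
  · obtain ⟨k, x, y, h, -⟩ := exists_QD_of_isQuasiDihedral hQD
    exact ⟨_, _, ds_of_qd (T : Subgroup G) h⟩

/-- Let G be a finite solvable group with O(G) = 1 whose Sylow 2-subgroup T is dihedral of order at least 8 or semidihedral, with G ≠ T and Z(T) normal in G. Then G has a normal subgroup isomorphic to SL₂(3). -/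
theorem result {G : Type*} [Group G] [Finite G] (hsol : IsSolvable G) (hO : Cfsg.oddCore G = ⊥) (T : Sylow 2 G) (hT : (∃ n : ℕ, 4 ≤ n ∧ Nonempty (↥(T : Subgroup G) ≃* DihedralGroup n)) ∨ Cfsg.IsQuasiDihedral ↥(T : Subgroup G)) (hne : (T : Subgroup G) ≠ ⊤) (hZ : ((T : Subgroup G) ⊓ Subgroup.centralizer ((T : Subgroup G) : Set G)).Normal) : ∃ U : Subgroup G, U.Normal ∧ Nonempty (↥U ≃* Matrix.SpecialLinearGroup (Fin 2) (ZMod 3)) := by
  obtain ⟨A, z, h⟩ := exists_ds T hT
  -- the core
  set R : Subgroup G := Cfsg.pCore 2 G with hR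
  haveI hRn : R.Normal := Cfsg.Agent.Lib.Helper22.pCore_normal' 2 G
  have hR2 : IsPGroup 2 R := Cfsg.Agent.Lib.Helper48.isPGroup_pCore 2 G
  have hRT : R ≤ (T : Subgroup G) := Cfsg.Agent.Lib.Helper48.pCore_le_sylow T
  have hps : Cfsg.IsPSolvable 2 G := Cfsg.Agent.Lib.Helper53.isPSolvable_of_isSolvable 2 hsol
  have hcent : Subgroup.centralizer (R : Set G) ≤ R :=
    Cfsg.Agent.Lib.Helper76.centralizer_pCore_le_of_isPSolvable hps hO
  -- an element of odd prime order
  have hidx1 : (T : Subgroup G).index ≠ 1 := by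
    rw [Ne, Subgroup.index_eq_one]
    exact hne
  obtain ⟨p, hp, hpdvd⟩ := Nat.exists_prime_and_dvd hidx1
  have hp2 : p ≠ 2 := by
    rintro rfl
    exact T.not_dvd_index hpdvd
  haveI : Fact p.Prime := ⟨hp⟩
  have hpG : p ∣ Nat.card G := hpdvd.trans (Subgroup.index_dvd_card _)
  obtain ⟨g, hgo⟩ := exists_prime_orderOf_dvd_card' p hpG
  have hodd : Odd (orderOf g) := by
    rw [hgo]
    exact hp.odd_of_ne_two hp2
  have hg1 : g ≠ 1 := by
    rintro rfl
    rw [orderOf_one] at hgo
    exact hp.one_lt.ne hgo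
  -- `z` is central in `T` and fixed by `g`
  have hzT : z ∈ (T : Subgroup G) := h.le h.z_mem
  have hz4 : z ^ 4 = 1 := by
    calc z ^ 4 = (z * z) * (z * z) := by simp [pow_succ, mul_assoc]
      _ = 1 := by rw [h.z_sq, one_mul]
  have hzinv : z⁻¹ = z := inv_eq_of_mul_eq_one_right h.z_sq
  have hzcent : z ∈ Subgroup.centralizer ((T : Subgroup G) : Set G) := by
    rw [Subgroup.mem_centralizer_iff]
    intro t ht
    by_cases htA : t ∈ A
    · haveI := h.cyc
      have : (⟨t, htA⟩ : A) * ⟨z, h.z_mem⟩ = ⟨z, h.z_mem⟩ * ⟨t, htA⟩ := by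
        obtain ⟨b, hb⟩ := h.cyc.exists_generator
        obtain ⟨k, hk⟩ := Subgroup.mem_zpowers_iff.mp (hb ⟨t, htA⟩)
        obtain ⟨l, hl⟩ := Subgroup.mem_zpowers_iff.mp (hb ⟨z, h.z_mem⟩)
        rw [← hk, ← hl, ← zpow_add, ← zpow_add, add_comm]
      have h2 := congrArg Subtype.val this
      simpa using h2
    · have := h.inv t ht htA z h.z_mem hz4
      rw [hzinv] at this
      calc t * z = (t * z * t⁻¹) * t := by group
        _ = z * t := by rw [this]
  have hgz : g * z * g⁻¹ = z := by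
    have hmem : g * z * g⁻¹ ∈ (T : Subgroup G) ⊓ Subgroup.centralizer ((T : Subgroup G) : Set G) :=
      hZ.conj_mem z ⟨hzT, hzcent⟩ g
    have hcT : g * z * g⁻¹ ∈ (T : Subgroup G) := hmem.1
    have hcA : g * z * g⁻¹ ∈ A := by
      by_contra hcA
      apply h.cen _ hcT hcA
      intro t ht
      exact Subgroup.mem_centralizer_iff.mp hmem.2 t ht
    have hsq : (g * z * g⁻¹) * (g * z * g⁻¹) = 1 := by
      calc (g * z * g⁻¹) * (g * z * g⁻¹) = g * (z * z) * g⁻¹ := by group
        _ = 1 := by rw [h.z_sq]; group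
    rcases h.invol _ hcA hsq with h1 | h1
    · exfalso
      apply h.z_ne
      have : z = g⁻¹ * (g * z * g⁻¹) * g := by group
      rw [this, h1]
      group
    · exact h1
  -- `g` normalizes `R` and acts nontrivially
  have hgN : g ∈ Subgroup.normalizer (R : Set G) := by
    rw [Subgroup.normalizer_eq_top_iff.mpr hRn]
    exact Subgroup.mem_top g
  have hnc : ¬ ∀ q ∈ R, g * q * g⁻¹ = q := by
    intro hall
    have hgc : g ∈ Subgroup.centralizer (R : Set G) := by
      rw [Subgroup.mem_centralizer_iff]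
      intro q hq
      have := hall q hq
      calc q * g = (g * q * g⁻¹) * g := by rw [this]
        _ = g * q := by group
    have hgR : g ∈ R := hcent hgc
    obtain ⟨k, hk⟩ := (IsPGroup.iff_orderOf.mp hR2) ⟨g, hgR⟩
    rw [Subgroup.orderOf_mk, hgo] at hk
    have : p ∣ 2 ^ k := by rw [← hk]
    have := (Nat.prime_dvd_prime_iff_eq hp Nat.prime_two).mp (hp.dvd_of_dvd_pow this)
    exact hp2 this
  obtain ⟨i, hiR, r, hgen⟩ := exists_rel_ds h T.2 R hRT g hgN hodd hgz hnc
  -- `g` has order 3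
  have hg3 : g ^ 3 = 1 := by
    by_contra hg3
    have hcop : Nat.Coprime (orderOf g) 3 := by
      rw [hgo, Nat.coprime_primes hp Nat.prime_three]
      rintro rfl
      apply hg3
      rw [← hgo]
      exact pow_orderOf_eq_one g
    have hmem : g ∈ Subgroup.zpowers (g ^ 3) := by
      have hle : Subgroup.zpowers (g ^ 3) ≤ Subgroup.zpowers g :=
        Subgroup.zpowers_le.mpr (Subgroup.pow_mem _ (Subgroup.mem_zpowers g) 3)
      have hcard : Nat.card (Subgroup.zpowers g) ≤ Nat.card (Subgroup.zpowers (g ^ 3)) := by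
        rw [Nat.card_zpowers, Nat.card_zpowers, hcop.orderOf_pow]
      have := Subgroup.eq_of_le_of_card_ge hle hcard
      rw [this]
      exact Subgroup.mem_zpowers g
    obtain ⟨k, hk⟩ := Subgroup.mem_zpowers_iff.mp hmem
    have hc : Commute g i := by
      rw [← hk]
      exact r.commute_cube.zpow_left k
    have h2 := r.h2
    rw [conj_eq_self_of_commute hc, conj_eq_self_of_commute (Commute.refl i)] at h2
    apply r.hi2
    rw [pow_two]
    calc i * i = i * i⁻¹ := by rw [← h2]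
      _ = 1 := mul_inv_cancel i
  have d : SL23.Data i g := ⟨r.hi4, r.hi2, hg3, hg1, r.h1, r.h2, r.h3⟩
  exact ⟨Subgroup.closure ({i, g} : Set G), d.normal_closure R hiR hgen hcent,
    d.nonempty_equiv_closure⟩

end Cfsg.Agent.S2879
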