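import Cfsg.Statements.S2880
import Cfsg.Agent.Lib.Helper29.Extraspecial
import Cfsg.Agent.Lib.Helper2.PGroup

set_option autoImplicit false
open Cfsg

namespace Cfsg.Agent.S2880

open Cfsg.Agent.Lib.Helper29 Finset

/-- A pairing principle: if an invertible map on `s` flips the predicate `P`, exactly half of the
elements of `s` satisfy `P`. -/
theorem card_filter_half {α : Type*} [DecidableEq α] (s : Finset α) (σ τ : α → α)
    (hσ : ∀ a ∈ s, σ a ∈ s) (hτ : ∀ a ∈ s, τ a ∈ s) (hτσ : ∀ a ∈ s, τ (σ a) = a)
    (hστ : ∀ a ∈ s, σ (τ a) = a) (P : α → Prop) [DecidablePred P]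
    (hP : ∀ a ∈ s, P (σ a) ↔ ¬ P a) : 2 * (s.filter P).card = s.card := by
  have h1 : (s.filter P).card + (s.filter (fun a => ¬ P a)).card = s.card :=
    Finset.card_filter_add_card_filter_not P
  have h2 : (s.filter P).card = (s.filter (fun a => ¬ P a)).card := by
    apply Finset.card_bij (fun a _ => σ a)
    · intro a ha
      rw [Finset.mem_filter] at ha ⊢
      exact ⟨hσ a ha.1, fun h => ((hP a ha.1).mp h) ha.2⟩
    · intro a ha b hb hab
      rw [Finset.mem_filter] at ha hb
      have := congrArg τ hab
      rwa [hτσ a ha.1, hτσ b hb.1] at this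
    · intro b hb
      rw [Finset.mem_filter] at hb
      refine ⟨τ b, ?_, hστ b hb.1⟩
      rw [Finset.mem_filter]
      refine ⟨hτ b hb.1, ?_⟩
      by_contra hcon
      have := (hP (τ b) (hτ b hb.1)).mpr hcon
      rw [hστ b hb.1] at this
      exact hb.2 this
  omega

section main

variable {E : Type*} [Group E] [Fintype E] [DecidableEq E]
  (hle : commutator E ≤ Subgroup.center E) (hZ : Nat.card (Subgroup.center E) = 2)

include hZ in
theorem center_two {w : E} (hw : w ∈ Subgroup.center E) (hw1 : w ≠ 1) {u : E}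
    (hu : u ∈ Subgroup.center E) : u = 1 ∨ u = w := by
  by_contra hcon
  push Not at hcon
  obtain ⟨y, -, hy⟩ := (Nat.card_eq_two_iff' (1 : Subgroup.center E)).mp hZ
  have h1 := hy ⟨w, hw⟩ (fun h => hw1 (congrArg Subtype.val h))
  have h2 := hy ⟨u, hu⟩ (fun h => hcon.1 (congrArg Subtype.val h))
  exact hcon.2 (congrArg Subtype.val (h2.trans h1.symm))

include hZ in
theorem center_sq {w : E} (hw : w ∈ Subgroup.center E) : w * w = 1 := by
  have h1 : (⟨w, hw⟩ : Subgroup.center E) ^ Nat.card (Subgroup.center E) = 1 := pow_card_eq_one'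
  rw [hZ, pow_two] at h1
  exact congrArg Subtype.val h1

include hle hZ in
/-- Half of the elements of a subgroup commute with an element not centralizing it. -/
theorem half_comm (B : Subgroup E) [DecidablePred (· ∈ B)] (x : E)
    (h : ∃ b ∈ B, b * x ≠ x * b) :
    2 * ((univ.filter (· ∈ B)).filter (fun b => b * x = x * b)).card
      = (univ.filter (· ∈ B)).card := by
  obtain ⟨b₀, hb₀, hne⟩ := h
  set w := cm b₀ x with hw
  have hwZ : w ∈ Subgroup.center E := cm_mem_center hle b₀ x
  have hw1 : w ≠ 1 := fun h => hne ((cm_eq_one_iff b₀ x).mp h)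
  apply card_filter_half _ (· * b₀) (· * b₀⁻¹)
  · intro a ha
    rw [mem_filter] at ha ⊢
    exact ⟨mem_univ _, B.mul_mem ha.2 hb₀⟩
  · intro a ha
    rw [mem_filter] at ha ⊢
    exact ⟨mem_univ _, B.mul_mem ha.2 (B.inv_mem hb₀)⟩
  · intro a _; simp
  · intro a _; simp
  · intro a _
    show a * b₀ * x = x * (a * b₀) ↔ ¬ a * x = x * a
    rw [← cm_eq_one_iff, ← cm_eq_one_iff, cm_mul_left a b₀ x (cm_comm hle b₀ x), ← hw]
    rcases center_two hZ hwZ hw1 (cm_mem_center hle a x) with h1 | h1
    · rw [h1, one_mul]
      exact ⟨fun h => absurd h hw1, fun h => absurd rfl h⟩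
    · rw [h1, center_sq hZ hwZ]
      exact ⟨fun _ => hw1, fun _ => rfl⟩

end main

/-- Let E be an extraspecial 2-group of order 2^(2m+1) of plus type, that is, containing an elementary abelian subgroup of order 2^(m+1) (equivalently, a central product of m dihedral groups of order 8). Then E has exactly 2^(2m) − 2^m elements of order 4. -/
theorem result {E : Type*} [Group E] [Finite E] (m : ℕ) (hm : 1 ≤ m) (hE : Cfsg.IsExtraspecial 2 E) (hcard : Nat.card E = 2 ^ (2 * m + 1)) (hplus : ∃ A : Subgroup E, Cfsg.IsElementaryAbelian 2 A ∧ Nat.card A = 2 ^ (m + 1)) : Nat.card {x : E // orderOf x = 4} = 2 ^ (2 * m) - 2 ^ m := by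
  classical
  have := Fintype.ofFinite E
  have hf2 : Fact (Nat.Prime 2) := ⟨Nat.prime_two⟩
  obtain ⟨⟨hP2, hΦ, hcomm⟩, hZ⟩ := hE
  obtain ⟨A, ⟨hAc, hAexp⟩, hAcard⟩ := hplus
  have hle : commutator E ≤ Subgroup.center E := hcomm.le
  have hsq : ∀ x : E, x ^ 2 ∈ Subgroup.center E := by
    intro x
    rw [← hΦ]
    exact Cfsg.Agent.Lib.Helper2.pow_mem_frattini hP2 x
  have hAcomm : ∀ a ∈ A, ∀ b ∈ A, a * b = b * a := by
    intro a ha b hb
    exact congrArg Subtype.val (hAc.is_comm.comm ⟨a, ha⟩ ⟨b, hb⟩)
  -- cardinalities as finsets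
  set sA : Finset E := univ.filter (· ∈ A) with hsA
  have hsAcard : sA.card = 2 ^ (m + 1) := by
    rw [← hAcard, Nat.card_eq_fintype_card, Fintype.card_subtype]
  have hEcard : (univ : Finset E).card = 2 ^ (2 * m + 1) := by
    rw [← hcard, Nat.card_eq_fintype_card]; rfl
  set sZ : Finset E := univ.filter (· ∈ Subgroup.center E) with hsZ
  have hsZcard : sZ.card = 2 := by
    rw [← hZ, Nat.card_eq_fintype_card, Fintype.card_subtype]
  -- the centralizer of A, as a finset
  set sC : Finset E := univ.filter (fun x => ∀ a ∈ A, a * x = x * a) with hsC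
  have hAC : sA ⊆ sC := by
    intro x hx
    rw [hsA, mem_filter] at hx
    rw [hsC, mem_filter]
    exact ⟨mem_univ _, fun a ha => hAcomm a ha x hx.2⟩
  -- first double count: commuting pairs in A × E
  have hDC1 := Finset.sum_card_bipartiteAbove_eq_sum_card_bipartiteBelow
    (s := sA) (t := (univ : Finset E)) (r := fun a x => a * x = x * a)
  have hL : ∀ a ∈ sA, 2 * ((univ : Finset E).bipartiteAbove (fun a x => a * x = x * a) a).card
      = if a ∈ Subgroup.center E then 2 * (univ : Finset E).card else (univ : Finset E).card := by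
    intro a _
    unfold Finset.bipartiteAbove
    split_ifs with haZ
    · congr 1
      congr 1
      rw [Finset.filter_eq_self]
      intro x _
      exact (Subgroup.mem_center_iff.mp haZ x).symm
    · have hex : ∃ b ∈ (⊤ : Subgroup E), b * a ≠ a * b := by
        by_contra hcon
        push Not at hcon
        exact haZ (Subgroup.mem_center_iff.mpr fun g => hcon g (Subgroup.mem_top g))
      have h1 := half_comm hle hZ ⊤ a hex
      have h2 : (univ.filter (· ∈ (⊤ : Subgroup E))) = (univ : Finset E) := by
        rw [Finset.filter_eq_self]; intro x _; exact Subgroup.mem_top x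
      rw [h2] at h1
      rw [← h1]
      congr 2
      ext x
      simp only [mem_filter, mem_univ, true_and]
      exact eq_comm
  have hR : ∀ x ∈ (univ : Finset E), 2 * (sA.bipartiteBelow (fun a x => a * x = x * a) x).card
      = if x ∈ sC then 2 * sA.card else sA.card := by
    intro x _
    unfold Finset.bipartiteBelow
    split_ifs with hxC
    · congr 1
      congr 1
      rw [Finset.filter_eq_self]
      intro a ha
      rw [hsA, mem_filter] at ha
      rw [hsC, mem_filter] at hxC
      exact hxC.2 a ha.2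
    · have hex : ∃ b ∈ A, b * x ≠ x * b := by
        by_contra hcon
        push Not at hcon
        apply hxC
        rw [hsC, mem_filter]
        exact ⟨mem_univ _, hcon⟩
      exact half_comm hle hZ A x hex
  have hDC1' : ∑ a ∈ sA, 2 * ((univ : Finset E).bipartiteAbove (fun a x => a * x = x * a) a).card
      = ∑ x ∈ (univ : Finset E), 2 * (sA.bipartiteBelow (fun a x => a * x = x * a) x).card := by
    rw [← Finset.mul_sum, ← Finset.mul_sum, hDC1]
  rw [Finset.sum_congr rfl hL, Finset.sum_congr rfl hR, Finset.sum_ite, Finset.sum_ite] at hDC1'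
  simp only [Finset.sum_const, smul_eq_mul] at hDC1'
  have hk1 : (sA.filter (fun a => a ∈ Subgroup.center E)).card
      + (sA.filter (fun a => ¬ a ∈ Subgroup.center E)).card = sA.card :=
    Finset.card_filter_add_card_filter_not _
  have hk2 : (sA.filter (fun a => a ∈ Subgroup.center E)).card ≤ 2 := by
    rw [← hsZcard]
    apply Finset.card_le_card
    intro a ha
    rw [mem_filter] at ha
    rw [hsZ, mem_filter]
    exact ⟨mem_univ _, ha.2⟩
  have hc1 : ((univ : Finset E).filter (fun x => x ∈ sC)).card
      + ((univ : Finset E).filter (fun x => ¬ x ∈ sC)).card = (univ : Finset E).card :=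
    Finset.card_filter_add_card_filter_not _
  have hc2 : ((univ : Finset E).filter (fun x => x ∈ sC)) = sC := by
    ext x; simp
  rw [hc2] at hc1 hDC1'
  have hAC' : sA.card ≤ sC.card := Finset.card_le_card hAC
  -- deduce sC = sA
  have hCA : sC.card ≤ sA.card := by
    set k := (sA.filter (fun a => a ∈ Subgroup.center E)).card with hk
    set k' := (sA.filter (fun a => ¬ a ∈ Subgroup.center E)).card with hk'
    set c := sC.card with hc
    set c' := ((univ : Finset E).filter (fun x => ¬ x ∈ sC)).card with hc'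
    set n := (univ : Finset E).card with hn
    set α := sA.card with hα
    -- k * (2n) + k' * n = c * (2α) + c' * α, k + k' = α, c + c' = n
    have h3 : n * k = α * c := by
      have e1 : k * (2 * n) + k' * n = n * (k + k') + n * k := by ring
      have e2 : c * (2 * α) + c' * α = α * (c + c') + α * c := by ring
      rw [e1, e2, hk1, hc1] at hDC1'
      have e3 : n * α = α * n := mul_comm _ _
      omega
    have h4 : α * c ≤ α * α := by
      rw [← h3]
      have : n * k ≤ n * 2 := Nat.mul_le_mul_left n hk2
      have e5 : n * 2 = α * α := by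
        rw [hEcard, hsAcard, ← pow_add, ← pow_succ]
        congr 1; omega
      omega
    have hαpos : 0 < α := by rw [hsAcard]; positivity
    exact Nat.le_of_mul_le_mul_left h4 hαpos
  have hCeq : sC = sA := (Finset.eq_of_subset_of_card_le hAC hCA).symm
  have hF3 : ∀ g : E, g ∉ A → ∃ a₀ ∈ A, a₀ * g ≠ g * a₀ := by
    intro g hg
    by_contra hcon
    push Not at hcon
    apply hg
    have : g ∈ sC := by rw [hsC, mem_filter]; exact ⟨mem_univ _, hcon⟩
    rw [hCeq, hsA, mem_filter] at this
    exact this.2
  -- second double count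
  set I : ℕ := ((univ : Finset E).filter (fun g => g ^ 2 = 1)).card with hI
  have hDC2 := Finset.sum_card_bipartiteAbove_eq_sum_card_bipartiteBelow
    (s := (univ : Finset E)) (t := sA) (r := fun g a => (g * a) ^ 2 = 1)
  have hR2 : ∀ a ∈ sA, ((univ : Finset E).bipartiteBelow (fun g a => (g * a) ^ 2 = 1) a).card = I := by
    intro a _
    unfold Finset.bipartiteBelow
    rw [hI]
    apply Finset.card_equiv (Equiv.mulRight a)
    intro g
    simp only [mem_filter, mem_univ, true_and, Equiv.coe_mulRight]
  have hL2 : ∀ g ∈ (univ : Finset E), 2 * (sA.bipartiteAbove (fun g a => (g * a) ^ 2 = 1) g).card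
      = if g ∈ sA then 2 * sA.card else sA.card := by
    intro g _
    unfold Finset.bipartiteAbove
    split_ifs with hgA
    · congr 1
      congr 1
      rw [Finset.filter_eq_self]
      intro a ha
      rw [hsA, mem_filter] at ha hgA
      exact hAexp _ (A.mul_mem hgA.2 ha.2)
    · have hgA' : g ∉ A := fun h => hgA (by rw [hsA, mem_filter]; exact ⟨mem_univ _, h⟩)
      obtain ⟨a₀, ha₀, hne⟩ := hF3 g hgA'
      set c := cm g⁻¹ a₀ with hc
      have hcZ : c ∈ Subgroup.center E := cm_mem_center hle g⁻¹ a₀
      have hc1 : c ≠ 1 := by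
        intro h
        have h1 := (cm_eq_one_iff g⁻¹ a₀).mp h
        apply hne
        calc a₀ * g = g * (g⁻¹ * a₀) * g := by group
          _ = g * (a₀ * g⁻¹) * g := by rw [h1]
          _ = g * a₀ := by group
      have ha₀sq : a₀ * a₀ = 1 := by rw [← pow_two]; exact hAexp a₀ ha₀
      have hkey : ∀ a ∈ A, (g * (a * a₀)) ^ 2 = c * (g * a) ^ 2 := by
        intro a ha
        have h2 : ∀ y : E, y * c = c * y := fun y => (Subgroup.mem_center_iff.mp hcZ y)
        have h1 : a₀ * g = c * g * a₀ := by
          have : a₀ * g = g * c * a₀ := by rw [hc, cm_def]; group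
          rw [this, h2 g]
        have h3 : a₀ * a = a * a₀ := hAcomm a₀ ha₀ a ha
        calc (g * (a * a₀)) ^ 2 = g * a * (a₀ * g) * a * a₀ := by rw [pow_two]; group
          _ = g * a * (c * g * a₀) * a * a₀ := by rw [h1]
          _ = (g * a * c) * g * (a₀ * a) * a₀ := by group
          _ = (c * (g * a)) * g * (a * a₀) * a₀ := by rw [h2 (g * a), h3]
          _ = c * (g * a) * (g * a) * (a₀ * a₀) := by group
          _ = c * (g * a) ^ 2 := by rw [ha₀sq, mul_one, pow_two, mul_assoc c]
      apply card_filter_half sA (· * a₀) (· * a₀⁻¹)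
      · intro a ha
        rw [hsA, mem_filter] at ha ⊢
        exact ⟨mem_univ _, A.mul_mem ha.2 ha₀⟩
      · intro a ha
        rw [hsA, mem_filter] at ha ⊢
        exact ⟨mem_univ _, A.mul_mem ha.2 (A.inv_mem ha₀)⟩
      · intro a _; simp
      · intro a _; simp
      · intro a ha
        rw [hsA, mem_filter] at ha
        show (g * (a * a₀)) ^ 2 = 1 ↔ ¬ (g * a) ^ 2 = 1
        rw [hkey a ha.2]
        rcases center_two hZ hcZ hc1 (hsq (g * a)) with h1 | h1
        · rw [h1, mul_one]
          exact ⟨fun h => absurd h hc1, fun h => absurd rfl h⟩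
        · rw [h1, center_sq hZ hcZ]
          exact ⟨fun _ => hc1, fun _ => rfl⟩
  have hDC2' : ∑ g ∈ (univ : Finset E), (if g ∈ sA then 2 * sA.card else sA.card)
      = ∑ a ∈ sA, 2 * I := by
    rw [← Finset.sum_congr rfl hL2, ← Finset.mul_sum, hDC2, Finset.mul_sum]
    exact Finset.sum_congr rfl (fun a ha => by rw [hR2 a ha])
  rw [Finset.sum_ite] at hDC2'
  simp only [Finset.sum_const, smul_eq_mul] at hDC2'
  have hd1 : ((univ : Finset E).filter (fun x => x ∈ sA)).card
      + ((univ : Finset E).filter (fun x => ¬ x ∈ sA)).card = (univ : Finset E).card :=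
    Finset.card_filter_add_card_filter_not _
  have hd2 : ((univ : Finset E).filter (fun x => x ∈ sA)) = sA := by
    ext x; simp
  rw [hd2] at hd1 hDC2'
  -- 2 I = |E| + |A|
  have hI2 : 2 * I = (univ : Finset E).card + sA.card := by
    set d' := ((univ : Finset E).filter (fun x => ¬ x ∈ sA)).card with hd'
    set n := (univ : Finset E).card with hn
    set α := sA.card with hα
    have e1 : α * (2 * α) + d' * α = α * (α + (α + d')) := by ring
    rw [e1, hd1] at hDC2'
    have e2 : α * (2 * I) = α * (α + n) := by rw [← hDC2']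
    have hαpos : 0 < α := by rw [hsAcard]; positivity
    have := Nat.eq_of_mul_eq_mul_left hαpos e2
    omega
  -- the elements of order 4
  have hord : ∀ x : E, orderOf x = 4 ↔ ¬ x ^ 2 = 1 := by
    intro x
    constructor
    · intro h hx
      have := orderOf_dvd_of_pow_eq_one hx
      rw [h] at this
      omega
    · intro hx
      have h4 : x ^ 2 ^ (1 + 1) = 1 := by
        have : x ^ 2 ^ (1 + 1) = (x ^ 2) * (x ^ 2) := by
          rw [show (2 : ℕ) ^ (1 + 1) = 2 + 2 by norm_num, pow_add]
        rw [this]
        exact center_sq hZ (hsq x)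
      have := orderOf_eq_prime_pow (p := 2) (n := 1) (by rwa [pow_one]) h4
      rw [this]; norm_num
  have hN4 : Nat.card {x : E // orderOf x = 4}
      = ((univ : Finset E).filter (fun g => ¬ g ^ 2 = 1)).card := by
    rw [Nat.card_eq_fintype_card, Fintype.card_subtype]
    congr 1
    ext x
    simp only [mem_filter, mem_univ, true_and]
    exact hord x
  have hsplit : I + ((univ : Finset E).filter (fun g => ¬ g ^ 2 = 1)).card
      = (univ : Finset E).card := Finset.card_filter_add_card_filter_not _
  rw [hN4]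
  rw [hEcard, hsAcard] at hI2
  rw [hEcard] at hsplit
  have e1 : 2 ^ (2 * m + 1) = 2 * 2 ^ (2 * m) := by rw [pow_succ]; ring
  have e2 : 2 ^ (m + 1) = 2 * 2 ^ m := by rw [pow_succ]; ring
  have e3 : 2 ^ m ≤ 2 ^ (2 * m) := Nat.pow_le_pow_right (by norm_num) (by omega)
  omega

end Cfsg.Agent.S2880
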