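import Cfsg.Statements.S2881
import Cfsg.Agent.Lib.Helper29.ExtraTwoRank

set_option autoImplicit false
open Cfsg

namespace Cfsg.Agent.S2881

/-- fixed point congruence for a permutation of prime order -/
theorem card_modEq_fixed {X : Type*} [Finite X] (σ : Equiv.Perm X) (p : ℕ) [hp : Fact p.Prime]
    (hσ : σ ^ p = 1) : Nat.card X ≡ Nat.card {x : X // σ x = x} [MOD p] := by
  classical
  have : Fintype X := Fintype.ofFinite X
  have h1 := Equiv.Perm.card_compl_support_modEq (p := p) (n := 1) (σ := σ) (by simpa using hσ)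
  rw [Nat.card_eq_fintype_card, Nat.card_eq_fintype_card]
  have h2 : Fintype.card {x : X // σ x = x} = (σ.support)ᶜ.card := by
    rw [Fintype.card_subtype]
    congr 1
    ext x
    simp [Equiv.Perm.mem_support]
  rw [h2]
  exact h1.symm

theorem four_dvd_of (m : ℕ) (h : 5 ∣ 2 ^ m - 1) : 4 ∣ m := by
  have hm : m = 4 * (m / 4) + m % 4 := (Nat.div_add_mod m 4).symm
  have h16 : ∀ k : ℕ, 16 ^ k % 5 = 1 := by
    intro k
    induction k with
    | zero => rfl
    | succ k ih => rw [pow_succ, Nat.mul_mod, ih]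
  have hlt : m % 4 < 4 := Nat.mod_lt _ (by norm_num)
  have hpos : 1 ≤ 2 ^ m := Nat.one_le_two_pow
  have h5 : 2 ^ m % 5 = 1 := by omega
  have e : 2 ^ m % 5 = 2 ^ (m % 4) % 5 := by
    conv_lhs => rw [hm, pow_add, pow_mul]
    norm_num
    rw [Nat.mul_mod, h16]
    simp
  rw [e] at h5
  have hcases : m % 4 = 0 ∨ m % 4 = 1 ∨ m % 4 = 2 ∨ m % 4 = 3 := by omega
  rcases hcases with h | h | h | h
  · omega
  · rw [h] at h5; norm_num at h5
  · rw [h] at h5; norm_num at h5
  · rw [h] at h5; norm_num at h5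

theorem result {E : Type*} [Group E] [Finite E] (m : ℕ) (hm : 1 ≤ m) (hE : Cfsg.IsExtraspecial 2 E) (hcard : Nat.card E = 2 ^ (2 * m + 1)) (hplus : ∃ A : Subgroup E, Cfsg.IsElementaryAbelian 2 A ∧ Nat.card A = 2 ^ (m + 1)) (ω : E ≃* E) (hω : orderOf ω = 5) (hfix : ∀ x : E, ω x = x ↔ x ∈ Subgroup.center E) : 4 ∣ m := by
  have : Fact (Nat.Prime 5) := ⟨by norm_num⟩
  -- the number of elements of order ≤ 2
  have hsq : 2 * Lib.Helper29.sqCount E = 2 ^ (2 * m + 1) + 2 ^ (m + 1) := by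
    rcases Lib.Helper29.rank_extraspecial_two hE m hcard with ⟨h1, -, -⟩ | ⟨-, -, h3⟩
    · exfalso
      obtain ⟨A, hA, hAc⟩ := hplus
      have := h1 A hA.1 hA.2
      rw [hAc] at this
      have := (Nat.pow_le_pow_iff_right (le_refl 2)).mp this
      omega
    · exact h3
  have hcen : Nat.card (Subgroup.center E) = 2 := hE.2
  -- the permutation
  let σ : Equiv.Perm E := MulAut.toPerm E ω
  have hσ5 : σ ^ 5 = 1 := by
    show (MulAut.toPerm E ω) ^ 5 = 1
    rw [← map_pow, ← hω, pow_orderOf_eq_one, map_one]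
  have hσ : ∀ x, σ x = ω x := fun x => rfl
  -- first congruence
  have c1 := card_modEq_fixed σ 5 hσ5
  have hfixcard : Nat.card {x : E // σ x = x} = 2 := by
    refine Eq.trans (Nat.card_congr ?_) hcen
    exact Equiv.subtypeEquivRight (fun x => by rw [hσ]; exact hfix x)
  rw [hfixcard, hcard] at c1
  -- second congruence
  have hpres : ∀ x : E, (σ x) ^ 2 = 1 ↔ x ^ 2 = 1 := by
    intro x
    rw [hσ, ← map_pow]
    constructor
    · intro h
      have : ω (x ^ 2) = ω 1 := by rw [h, map_one]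
      exact ω.injective this
    · intro h; rw [h, map_one]
  let τ : Equiv.Perm {x : E // x ^ 2 = 1} := σ.subtypePerm hpres
  have hτ5 : τ ^ 5 = 1 := by
    show (σ.subtypePerm hpres) ^ 5 = 1
    rw [Equiv.Perm.subtypePerm_pow]
    ext x
    simp [hσ5]
  have c2 := card_modEq_fixed τ 5 hτ5
  have hcsq : ∀ z ∈ Subgroup.center E, z ^ 2 = 1 := by
    intro z hz
    have : (⟨z, hz⟩ : Subgroup.center E) ^ Nat.card (Subgroup.center E) = 1 := pow_card_eq_one'
    rw [hcen] at this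
    exact congrArg Subtype.val this
  have hfixcard2 : Nat.card {x : {x : E // x ^ 2 = 1} // τ x = x} = 2 := by
    refine Eq.trans (Nat.card_congr ?_) hcen
    refine ⟨fun x => ⟨x.1.1, ?_⟩, fun z => ⟨⟨z.1, hcsq z.1 z.2⟩, ?_⟩, ?_, ?_⟩
    · have := x.2
      have h2 : σ x.1.1 = x.1.1 := congrArg Subtype.val this
      rw [hσ] at h2
      exact (hfix _).mp h2
    · apply Subtype.ext
      show σ z.1 = z.1
      rw [hσ]
      exact (hfix _).mpr z.2
    · intro x; rfl
    · intro z; rfl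
  rw [hfixcard2] at c2
  have hsq' : Nat.card {x : E // x ^ 2 = 1} = Lib.Helper29.sqCount E := rfl
  rw [hsq'] at c2
  -- arithmetic
  apply four_dvd_of
  have e1 : 2 ^ (2 * m + 1) = 2 * (2 ^ m) ^ 2 := by rw [← pow_mul]; ring
  have e2 : 2 ^ (m + 1) = 2 * 2 ^ m := by ring
  have hs : Lib.Helper29.sqCount E = (2 ^ m) ^ 2 + 2 ^ m := by
    rw [e1, e2] at hsq; omega
  rw [hs] at c2
  rw [e1] at c1
  have hpos : 1 ≤ 2 ^ m := Nat.one_le_two_pow
  generalize 2 ^ m = t at *
  have c1' := c1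
  have c2' := c2
  unfold Nat.ModEq at c1' c2'
  -- t ranges mod 5
  have ht : t % 5 < 5 := Nat.mod_lt _ (by norm_num)
  have k1 : (2 * t ^ 2) % 5 = (2 * (t % 5) ^ 2) % 5 := by
    rw [Nat.mul_mod, Nat.pow_mod, ← Nat.mul_mod]
  have k2 : (t ^ 2 + t) % 5 = ((t % 5) ^ 2 + t % 5) % 5 := by
    conv_lhs => rw [Nat.add_mod, Nat.pow_mod]
    conv_rhs => rw [Nat.add_mod]
    simp
  rw [k1] at c1'
  rw [k2] at c2'
  have hcases : t % 5 = 0 ∨ t % 5 = 1 ∨ t % 5 = 2 ∨ t % 5 = 3 ∨ t % 5 = 4 := by omega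
  rcases hcases with h | h | h | h | h
  · rw [h] at c1'; norm_num at c1'
  · omega
  · rw [h] at c1'; norm_num at c1'
  · rw [h] at c1'; norm_num at c1'
  · rw [h] at c2'; norm_num at c2'

end Cfsg.Agent.S2881
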