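import Mathlib
import Cfsg.Agent.Lib.Helper26.M24Order
import Cfsg.Agent.Lib.Helper89.NormChain

set_option autoImplicit false
set_option maxRecDepth 100000
open Cfsg

namespace Cfsg.Agent.S2882

open Cfsg.Agent.Lib.Helper26 Cfsg.Agent.Lib.Helper89 Cfsg.Agent.Lib.Helper89.TableChain2
open Cfsg.Agent.Lib.Helper89.NormChain

/-! ### An explicit Sylow 2-subgroup of `M24` by a table-driven stabiliser chain -/

def tabC : List ℕ := [984193134333667655196206109968142752, 984389065579339274464679472059863648, 984106537951624291307853224808683840, 984723249968559545477841165439377760, 974421764120477162002732052473186496, 971582110291725965799410783885562912, 943919550385991751956724229868895374]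

def tabIC : List ℕ := [984193134333667655196206109968142752, 984389065579339274464679472059863648, 984106537951624291307853224808683840, 984723249968559545477841165439377760, 974421764120477162002732052473186496, 971582110291725965799410783885562912, 943919550385991751956724229868895374]

def tab (j x : ℕ) : ℕ := ((tabC.getD j 0) >>> (5 * x)) &&& 31

def tabI (j x : ℕ) : ℕ := ((tabIC.getD j 0) >>> (5 * x)) &&& 31

def pd (j : ℕ) : PermData := ⟨(List.range 24).map (tab j), (List.range 24).map (tabI j)⟩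

theorem pd_inM24 : ∀ j < 7, (pd j).inM24 = true := by decide +kernel

/-- the generators, as elements of `M24` -/
noncomputable def gen (j : ℕ) : ↥M24 :=
  if h : j < 7 then ⟨(pd j).toPerm, PermData.toPerm_mem_M24 (pd_inM24 j h)⟩ else 1

theorem getD_map_range (f : ℕ → ℕ) (x : ℕ) (hx : x < 24) : ((List.range 24).map f).getD x 0 = f x := by
  rw [List.getD_eq_getElem _ _ (by simpa using hx)]
  simp

theorem gen_smul : ∀ j < 7, ∀ x < 24, gen j • pt x = pt (tab j x) := by
  intro j hj x hx
  show ((gen j : ↥M24) : Equiv.Perm GolayPt) (pt x) = pt (tab j x)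
  rw [gen, dif_pos hj]
  show (pd j).toPerm (pt x) = _
  rw [PermData.toPerm_apply (PermData.ok_of_inM24 (pd_inM24 j hj)), idx_pt x hx]
  show pt (((List.range 24).map (tab j)).getD x 0) = _
  rw [getD_map_range _ x hx]

theorem tab_lt : ∀ j < 7, ∀ x < 24, tab j x < 24 := by decide +kernel

/-- the chain data -/
noncomputable def D : Data ↥M24 GolayPt where
  m := 7
  N := 24
  gen := gen
  pt := pt
  tab := tab
  chk := List.range 24
  gen_smul := gen_smul
  tab_lt := tab_lt
  chk_lt := fun x hx => List.mem_range.1 hx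
  faithful := by
    intro g g' h
    apply Subtype.ext
    apply Equiv.ext
    intro p
    have := h (idx p) (List.mem_range.2 (idx_lt p))
    rw [pt_idx] at this
    exact this
  pt_inj := by
    intro x hx y hy h
    have := congrArg idx h
    rwa [idx_pt x hx, idx_pt y hy] at this

def chk : List ℕ := List.range 24

def T0 : List (List ℕ) := [
  [],
  [5, 4, 6],
  [6],
  [6, 5, 6],
  [5, 6],
  [6, 5, 4, 6],
  [4, 6],
  [6, 4, 6]
]

def E0 : List (List (ℕ × List ℕ)) := [
  [(0, [0]), (1, [3, 2, 0]), (2, [1, 0]), (3, [3]), (4, [2, 1]), (5, [1, 0]), (6, [3]), (7, [3, 2, 1, 0])],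
  [(0, [1]), (1, [3, 2, 1]), (2, [1]), (3, [3, 2, 1]), (4, [3, 2, 1]), (5, [3, 2, 1]), (6, [2, 1, 0]), (7, [2, 1, 0])],
  [(0, [2]), (1, [3]), (2, [2, 1]), (3, [3, 2, 0]), (4, [1, 0]), (5, [2, 1]), (6, [3, 2, 0]), (7, [3, 1])],
  [(0, [3]), (1, [0]), (2, [3, 1]), (3, [0]), (4, [3, 2, 1, 0]), (5, [3, 2, 1, 0]), (6, [2]), (7, [1, 0])],
  [(0, [4]), (1, [5, 4, 5, 2, 0]), (6, []), (5, [5, 4, 5, 4, 2, 0]), (4, [5, 4, 5, 2, 0]), (3, [5, 4, 5, 4, 2, 0]), (2, []), (7, [4])],
  [(0, [5]), (6, []), (4, []), (3, [5]), (2, []), (5, [4, 5, 4]), (1, []), (7, [4, 5, 4])],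
  [(2, []), (5, []), (0, []), (4, []), (3, []), (1, []), (7, []), (6, [])]
]

theorem level0 : TableChain2.levelCheck tab 7 6 0 chk T0 E0 = true := by
  decide +kernel

def T1 : List (List ℕ) := [
  []
]

def E1 : List (List (ℕ × List ℕ)) := [
  [(0, [0])],
  [(0, [1])],
  [(0, [2])],
  [(0, [3])],
  [(0, [4])],
  [(0, [5])]
]

theorem level1 : TableChain2.levelCheck tab 6 6 23 chk T1 E1 = true := by
  decide +kernel

def T2 : List (List ℕ) := [
  [],
  [4, 5],
  [5, 4, 5],
  [5]
]

def E2 : List (List (ℕ × List ℕ)) := [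
  [(0, [0]), (1, [1, 0]), (2, [2, 1]), (3, [2])],
  [(0, [1]), (1, [3, 1, 0]), (2, [1]), (3, [3, 2, 1])],
  [(0, [2]), (1, [2, 1]), (2, [1, 0]), (3, [0])],
  [(0, [3]), (1, [3, 2, 1, 0]), (2, [3, 1]), (3, [3, 2, 0])],
  [(0, [4]), (3, []), (2, [4]), (1, [])],
  [(3, []), (2, []), (1, []), (0, [])]
]

theorem level2 : TableChain2.levelCheck tab 6 5 12 chk T2 E2 = true := by
  decide +kernel

def T3 : List (List ℕ) := [
  []
]

def E3 : List (List (ℕ × List ℕ)) := [
  [(0, [0])],
  [(0, [1])],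
  [(0, [2])],
  [(0, [3])],
  [(0, [4])]
]

theorem level3 : TableChain2.levelCheck tab 5 5 17 chk T3 E3 = true := by
  decide +kernel

def T4 : List (List ℕ) := [
  [],
  [4]
]

def E4 : List (List (ℕ × List ℕ)) := [
  [(0, [0]), (1, [3, 1])],
  [(0, [1]), (1, [2, 1, 0])],
  [(0, [2]), (1, [3, 2, 1, 0])],
  [(0, [3]), (1, [2, 1])],
  [(1, []), (0, [])]
]

theorem level4 : TableChain2.levelCheck tab 5 4 16 chk T4 E4 = true := by
  decide +kernel

def T5 : List (List ℕ) := [
  []
]

def E5 : List (List (ℕ × List ℕ)) := [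
  [(0, [0])],
  [(0, [1])],
  [(0, [2])],
  [(0, [3])]
]

theorem level5 : TableChain2.levelCheck tab 4 4 18 chk T5 E5 = true := by
  decide +kernel

def T6 : List (List ℕ) := [
  [],
  [3, 2, 1, 0],
  [3, 0],
  [3, 2, 1],
  [2, 1],
  [3, 1, 0],
  [3, 2],
  [2, 1, 0],
  [2, 0],
  [2],
  [3],
  [0],
  [1, 0],
  [1],
  [3, 2, 0],
  [3, 1]
]

def E6 : List (List (ℕ × List ℕ)) := [
  [(11, []), (3, []), (10, []), (1, []), (7, []), (15, []), (14, []), (4, []), (9, []), (8, []), (2, []), (0, []), (13, []), (12, []), (6, []), (5, [])],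
  [(13, []), (14, []), (5, []), (6, []), (9, []), (2, []), (3, []), (8, []), (7, []), (4, []), (15, []), (12, []), (11, []), (0, []), (1, []), (10, [])],
  [(9, []), (5, []), (14, []), (15, []), (13, []), (1, []), (10, []), (12, []), (11, []), (0, []), (6, []), (8, []), (7, []), (4, []), (2, []), (3, [])],
  [(10, []), (7, []), (11, []), (4, []), (3, []), (12, []), (9, []), (1, []), (14, []), (6, []), (0, []), (2, []), (5, []), (15, []), (8, []), (13, [])]
]

theorem level6 : TableChain2.levelCheck tab 4 0 1 chk T6 E6 = true := by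
  decide +kernel

theorem lvl0 : Data.LevelOK D 7 6 0 T0 E0 :=
  Data.levelOK_of_check (D := D) (by decide) (by decide) level0

theorem lvl1 : Data.LevelOK D 6 6 23 T1 E1 :=
  Data.levelOK_of_check (D := D) (by decide) (by decide) level1

theorem lvl2 : Data.LevelOK D 6 5 12 T2 E2 :=
  Data.levelOK_of_check (D := D) (by decide) (by decide) level2

theorem lvl3 : Data.LevelOK D 5 5 17 T3 E3 :=
  Data.levelOK_of_check (D := D) (by decide) (by decide) level3

theorem lvl4 : Data.LevelOK D 5 4 16 T4 E4 :=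
  Data.levelOK_of_check (D := D) (by decide) (by decide) level4

theorem lvl5 : Data.LevelOK D 4 4 18 T5 E5 :=
  Data.levelOK_of_check (D := D) (by decide) (by decide) level5

theorem lvl6 : Data.LevelOK D 4 0 1 T6 E6 :=
  Data.levelOK_of_check (D := D) (by decide) (by decide) level6

def labL0 : List ℕ := [0, 1, 1, 1, 1, 1, 1, 1, 1, 1, 1, 1, 0, 1, 0, 1, 0, 0, 0, 1, 1, 1, 0, 0]

def WL0 : List (List ℕ) := [[], [], [2, 4], [3, 0], [6], [2, 1], [4], [4, 1], [5, 4], [2, 0], [2], [3], [5, 4, 6], [0], [6], [1, 0], [6, 5, 6], [5, 6], [6, 5, 4, 6], [1], [6, 0], [3, 1], [4, 6], [6, 4, 6]]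

def lab0 (x : ℕ) : ℕ := labL0.getD x 0

def W0 (x : ℕ) : List ℕ := WL0.getD x []

theorem orbc0 : orbCheck tab 24 7 lab0 W0 = true := by decide +kernel

theorem orb0 : OrbOK D 7 lab0 W0 := orbOK_of_check (D := D) (by decide) orbc0

def labL1 : List ℕ := [0, 1, 1, 1, 1, 1, 1, 1, 1, 1, 1, 1, 12, 1, 12, 1, 16, 12, 16, 1, 1, 1, 12, 23]

def WL1 : List (List ℕ) := [[], [], [2, 4], [3, 0], [5, 1], [2, 1], [4], [4, 1], [5, 4], [2, 0], [2], [3], [], [0], [4, 5], [1, 0], [], [5, 4, 5], [4], [1], [4, 3], [3, 1], [5], []]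

def lab1 (x : ℕ) : ℕ := labL1.getD x 0

def W1 (x : ℕ) : List ℕ := WL1.getD x []

theorem orbc1 : orbCheck tab 24 6 lab1 W1 = true := by decide +kernel

theorem orb1 : OrbOK D 6 lab1 W1 := orbOK_of_check (D := D) (by decide) orbc1

def labL3 : List ℕ := [0, 1, 1, 1, 1, 1, 1, 1, 1, 1, 1, 1, 12, 1, 14, 1, 16, 17, 16, 1, 1, 1, 14, 23]

def WL3 : List (List ℕ) := [[], [], [2, 4], [3, 0], [4, 2, 0], [2, 1], [4], [4, 1], [2, 1, 0], [2, 0], [2], [3], [], [0], [], [1, 0], [], [], [4], [1], [4, 3], [3, 1], [4], []]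

def lab3 (x : ℕ) : ℕ := labL3.getD x 0

def W3 (x : ℕ) : List ℕ := WL3.getD x []

theorem orbc3 : orbCheck tab 24 5 lab3 W3 = true := by decide +kernel

theorem orb3 : OrbOK D 5 lab3 W3 := orbOK_of_check (D := D) (by decide) orbc3

def labL5 : List ℕ := [0, 1, 1, 1, 1, 1, 1, 1, 1, 1, 1, 1, 12, 1, 14, 1, 16, 17, 18, 1, 1, 1, 22, 23]

def WL5 : List (List ℕ) := [[], [], [3, 2, 1, 0], [3, 0], [3, 2, 1], [2, 1], [3, 1, 0], [3, 2], [2, 1, 0], [2, 0], [2], [3], [], [0], [], [1, 0], [], [], [], [1], [3, 2, 0], [3, 1], [], []]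

def lab5 (x : ℕ) : ℕ := labL5.getD x 0

def W5 (x : ℕ) : List ℕ := WL5.getD x []

theorem orbc5 : orbCheck tab 24 4 lab5 W5 = true := by decide +kernel

theorem orb5 : OrbOK D 4 lab5 W5 := orbOK_of_check (D := D) (by decide) orbc5

theorem uniq0 : uniqB 24 [lab0] [] lab0 0 = true := by decide +kernel

theorem uniq1 : uniqB 24 [lab0, lab1] [0] lab1 23 = true := by decide +kernel

theorem uniq2 : uniqB 24 [lab0, lab1] [0, 23] lab1 12 = true := by decide +kernel

theorem uniq3 : uniqB 24 [lab0, lab1, lab3] [0, 23, 12] lab3 17 = true := by decide +kernel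

theorem uniq4 : uniqB 24 [lab0, lab1, lab3] [0, 23, 12, 17] lab3 16 = true := by decide +kernel

theorem uniq5 : uniqB 24 [lab0, lab1, lab3, lab5] [0, 23, 12, 17, 16] lab5 18 = true := by decide +kernel

theorem uniq6 : uniqB 24 [lab0, lab1, lab3, lab5] [0, 23, 12, 17, 16, 18] lab5 1 = true := by decide +kernel

/-- the accumulated side conditions -/
def Qn (l : List ℕ) (kl : List ℕ) (γ : ↥M24) : Prop :=
  (∀ b ∈ l, γ • pt b = pt b) ∧ (∀ k ∈ kl, γ ∈ Subgroup.normalizer (D.H k : Set ↥M24))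

theorem Qn_mul (l kl : List ℕ) (k : ℕ) (hfix : ∀ b ∈ l, D.H k ≤ MulAction.stabilizer ↥M24 (pt b))
    (hle : ∀ k' ∈ kl, k ≤ k') : ∀ γ u, Qn l kl γ → u ∈ D.H k → Qn l kl (u⁻¹ * γ) := by
  rintro γ u ⟨h1, h2⟩ hu
  refine ⟨fun b hb => ?_, fun k' hk' => ?_⟩
  · have : u • pt b = pt b := hfix b hb hu
    rw [mul_smul, h1 b hb, inv_smul_eq_iff, this]
  · exact (Subgroup.normalizer (D.H k' : Set ↥M24)).mul_mem
      ((Subgroup.normalizer (D.H k' : Set ↥M24)).inv_mem
        (Subgroup.le_normalizer (D.H_mono (hle k' hk') hu))) (h2 k' hk')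

theorem not_earlier (γ : ↥M24) (l : List ℕ) (b : ℕ) (hb : b < 24)
    (hfix : ∀ c ∈ l, γ • pt c = pt c) (hbl : b ∉ l) : idx (γ • pt b) ∉ l := by
  intro h
  have h1 := hfix _ h
  rw [pt_idx] at h1
  have h2 : γ • pt b = pt b := smul_left_cancel γ h1
  rw [h2, idx_pt b hb] at h
  exact hbl h

theorem sz_pres {k : ℕ} {lab : ℕ → ℕ} {W : ℕ → List ℕ} (orb : OrbOK D k lab W) {γ : ↥M24}
    (hn : γ ∈ Subgroup.normalizer (D.H k : Set ↥M24)) (b : ℕ) (hb : b < 24) :
    sz 24 lab (idx (γ • pt b)) = sz 24 lab b := by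
  have := orb.sz_eq idx idx_lt pt_idx hn (pt b)
  rwa [idx_pt b hb] at this

def rigidSteps : List (ℕ × ℕ) := [(9347075, 1413139), (13062145, 2605066), (13062145, 4845570), (4845570, 13938692), (4845570, 9347075), (13938692, 10170384), (13938692, 1302533), (7221256, 11952160), (7221256, 11100169), (10170384, 6053905), (11952160, 7417889), (15515712, 2854977), (2019456, 14254209), (4038912, 7622914), (8077824, 12325377), (11654144, 7767041), (14919680, 2422785)]

theorem rigid_check : runSteps 8851459 rigidSteps = 16777215 := by decide +kernel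

theorem mask_base : ∀ i < 24, Nat.testBit 8851459 i = true → i ∈ [0, 23, 12, 17, 16, 18, 1] := by decide +kernel

theorem claim7 : ∀ γ : ↥M24, Qn [0, 23, 12, 17, 16, 18, 1] [7, 6, 6, 5, 5, 4, 4] γ →
    γ ∈ Subgroup.normalizer (D.H 0 : Set ↥M24) → γ ∈ D.H 0 := by
  rintro γ ⟨h1, -⟩ -
  have : (γ : Equiv.Perm GolayPt) = 1 := by
    refine rigid_cert 8851459 rigidSteps rigid_check γ.2 ?_
    intro p hp
    rw [mem_dec] at hp
    have := h1 _ (mask_base _ (idx_lt p) hp)
    rw [pt_idx] at this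
    exact this
  have : γ = 1 := Subtype.ext this
  rw [this]
  exact (D.H 0).one_mem

theorem fixes6 : ∀ b ∈ [0, 23, 12, 17, 16, 18], D.H 4 ≤ MulAction.stabilizer ↥M24 (pt b) := by
  intro b hb
  simp only [List.mem_cons, List.not_mem_nil, or_false] at hb
  rcases hb with rfl | rfl | rfl | rfl | rfl | rfl
  · exact (D.H_mono (by decide : 4 ≤ 6)).trans lvl0.le_stab
  · exact (D.H_mono (by decide : 4 ≤ 6)).trans lvl1.le_stab
  · exact (D.H_mono (by decide : 4 ≤ 5)).trans lvl2.le_stab
  · exact (D.H_mono (by decide : 4 ≤ 5)).trans lvl3.le_stab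
  · exact (D.H_mono (by decide : 4 ≤ 4)).trans lvl4.le_stab
  · exact (D.H_mono (by decide : 4 ≤ 4)).trans lvl5.le_stab

theorem claim6 : ∀ γ : ↥M24, Qn [0, 23, 12, 17, 16, 18] [7, 6, 6, 5, 5, 4] γ →
    γ ∈ Subgroup.normalizer (D.H 4 : Set ↥M24) → γ ∈ D.H 4 := by
  refine NormChain.step (D := D) idx idx_lt pt_idx lvl6 orb5 _ ?_ ?_ ?_
  · exact Qn_mul _ _ _ fixes6 (by decide)
  · intro γ hq hn
    refine uniqB_spec uniq6 _ (idx_lt _) ?_ ?_
    · exact not_earlier γ _ 1 (by decide) hq.1 (by decide)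
    · intro l hl
      simp only [List.mem_cons, List.not_mem_nil, or_false] at hl
      rcases hl with rfl | rfl | rfl | rfl
      · exact sz_pres orb0 (hq.2 7 (by simp)) 1 (by decide)
      · exact sz_pres orb1 (hq.2 6 (by simp)) 1 (by decide)
      · exact sz_pres orb3 (hq.2 5 (by simp)) 1 (by decide)
      · exact sz_pres orb5 hn 1 (by decide)
  · intro γ hq hn hn' hb
    refine claim7 γ ⟨?_, ?_⟩ hn'
    · intro b hb'
      simp only [List.mem_cons, List.not_mem_nil, or_false] at hb'
      rcases hb' with rfl | rfl | rfl | rfl | rfl | rfl | rfl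
      · exact hq.1 _ (by simp)
      · exact hq.1 _ (by simp)
      · exact hq.1 _ (by simp)
      · exact hq.1 _ (by simp)
      · exact hq.1 _ (by simp)
      · exact hq.1 _ (by simp)
      · exact hb
    · intro k hk
      simp only [List.mem_cons, List.not_mem_nil, or_false] at hk
      rcases hk with rfl | rfl | rfl | rfl | rfl | rfl | rfl
      · exact hq.2 _ (by simp)
      · exact hq.2 _ (by simp)
      · exact hq.2 _ (by simp)
      · exact hq.2 _ (by simp)
      · exact hq.2 _ (by simp)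
      · exact hq.2 _ (by simp)
      · exact hn

theorem fixes5 : ∀ b ∈ [0, 23, 12, 17, 16], D.H 4 ≤ MulAction.stabilizer ↥M24 (pt b) := by
  intro b hb
  simp only [List.mem_cons, List.not_mem_nil, or_false] at hb
  rcases hb with rfl | rfl | rfl | rfl | rfl
  · exact (D.H_mono (by decide : 4 ≤ 6)).trans lvl0.le_stab
  · exact (D.H_mono (by decide : 4 ≤ 6)).trans lvl1.le_stab
  · exact (D.H_mono (by decide : 4 ≤ 5)).trans lvl2.le_stab
  · exact (D.H_mono (by decide : 4 ≤ 5)).trans lvl3.le_stab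
  · exact (D.H_mono (by decide : 4 ≤ 4)).trans lvl4.le_stab

theorem claim5 : ∀ γ : ↥M24, Qn [0, 23, 12, 17, 16] [7, 6, 6, 5, 5] γ →
    γ ∈ Subgroup.normalizer (D.H 4 : Set ↥M24) → γ ∈ D.H 4 := by
  refine NormChain.step (D := D) idx idx_lt pt_idx lvl5 orb5 _ ?_ ?_ ?_
  · exact Qn_mul _ _ _ fixes5 (by decide)
  · intro γ hq hn
    refine uniqB_spec uniq5 _ (idx_lt _) ?_ ?_
    · exact not_earlier γ _ 18 (by decide) hq.1 (by decide)
    · intro l hl
      simp only [List.mem_cons, List.not_mem_nil, or_false] at hl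
      rcases hl with rfl | rfl | rfl | rfl
      · exact sz_pres orb0 (hq.2 7 (by simp)) 18 (by decide)
      · exact sz_pres orb1 (hq.2 6 (by simp)) 18 (by decide)
      · exact sz_pres orb3 (hq.2 5 (by simp)) 18 (by decide)
      · exact sz_pres orb5 hn 18 (by decide)
  · intro γ hq hn hn' hb
    refine claim6 γ ⟨?_, ?_⟩ hn'
    · intro b hb'
      simp only [List.mem_cons, List.not_mem_nil, or_false] at hb'
      rcases hb' with rfl | rfl | rfl | rfl | rfl | rfl
      · exact hq.1 _ (by simp)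
      · exact hq.1 _ (by simp)
      · exact hq.1 _ (by simp)
      · exact hq.1 _ (by simp)
      · exact hq.1 _ (by simp)
      · exact hb
    · intro k hk
      simp only [List.mem_cons, List.not_mem_nil, or_false] at hk
      rcases hk with rfl | rfl | rfl | rfl | rfl | rfl
      · exact hq.2 _ (by simp)
      · exact hq.2 _ (by simp)
      · exact hq.2 _ (by simp)
      · exact hq.2 _ (by simp)
      · exact hq.2 _ (by simp)
      · exact hn

theorem fixes4 : ∀ b ∈ [0, 23, 12, 17], D.H 5 ≤ MulAction.stabilizer ↥M24 (pt b) := by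
  intro b hb
  simp only [List.mem_cons, List.not_mem_nil, or_false] at hb
  rcases hb with rfl | rfl | rfl | rfl
  · exact (D.H_mono (by decide : 5 ≤ 6)).trans lvl0.le_stab
  · exact (D.H_mono (by decide : 5 ≤ 6)).trans lvl1.le_stab
  · exact (D.H_mono (by decide : 5 ≤ 5)).trans lvl2.le_stab
  · exact (D.H_mono (by decide : 5 ≤ 5)).trans lvl3.le_stab

theorem claim4 : ∀ γ : ↥M24, Qn [0, 23, 12, 17] [7, 6, 6, 5] γ →
    γ ∈ Subgroup.normalizer (D.H 5 : Set ↥M24) → γ ∈ D.H 5 := by
  refine NormChain.step (D := D) idx idx_lt pt_idx lvl4 orb3 _ ?_ ?_ ?_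
  · exact Qn_mul _ _ _ fixes4 (by decide)
  · intro γ hq hn
    refine uniqB_spec uniq4 _ (idx_lt _) ?_ ?_
    · exact not_earlier γ _ 16 (by decide) hq.1 (by decide)
    · intro l hl
      simp only [List.mem_cons, List.not_mem_nil, or_false] at hl
      rcases hl with rfl | rfl | rfl
      · exact sz_pres orb0 (hq.2 7 (by simp)) 16 (by decide)
      · exact sz_pres orb1 (hq.2 6 (by simp)) 16 (by decide)
      · exact sz_pres orb3 hn 16 (by decide)
  · intro γ hq hn hn' hb
    refine claim5 γ ⟨?_, ?_⟩ hn'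
    · intro b hb'
      simp only [List.mem_cons, List.not_mem_nil, or_false] at hb'
      rcases hb' with rfl | rfl | rfl | rfl | rfl
      · exact hq.1 _ (by simp)
      · exact hq.1 _ (by simp)
      · exact hq.1 _ (by simp)
      · exact hq.1 _ (by simp)
      · exact hb
    · intro k hk
      simp only [List.mem_cons, List.not_mem_nil, or_false] at hk
      rcases hk with rfl | rfl | rfl | rfl | rfl
      · exact hq.2 _ (by simp)
      · exact hq.2 _ (by simp)
      · exact hq.2 _ (by simp)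
      · exact hq.2 _ (by simp)
      · exact hn

theorem fixes3 : ∀ b ∈ [0, 23, 12], D.H 5 ≤ MulAction.stabilizer ↥M24 (pt b) := by
  intro b hb
  simp only [List.mem_cons, List.not_mem_nil, or_false] at hb
  rcases hb with rfl | rfl | rfl
  · exact (D.H_mono (by decide : 5 ≤ 6)).trans lvl0.le_stab
  · exact (D.H_mono (by decide : 5 ≤ 6)).trans lvl1.le_stab
  · exact (D.H_mono (by decide : 5 ≤ 5)).trans lvl2.le_stab

theorem claim3 : ∀ γ : ↥M24, Qn [0, 23, 12] [7, 6, 6] γ →
    γ ∈ Subgroup.normalizer (D.H 5 : Set ↥M24) → γ ∈ D.H 5 := by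
  refine NormChain.step (D := D) idx idx_lt pt_idx lvl3 orb3 _ ?_ ?_ ?_
  · exact Qn_mul _ _ _ fixes3 (by decide)
  · intro γ hq hn
    refine uniqB_spec uniq3 _ (idx_lt _) ?_ ?_
    · exact not_earlier γ _ 17 (by decide) hq.1 (by decide)
    · intro l hl
      simp only [List.mem_cons, List.not_mem_nil, or_false] at hl
      rcases hl with rfl | rfl | rfl
      · exact sz_pres orb0 (hq.2 7 (by simp)) 17 (by decide)
      · exact sz_pres orb1 (hq.2 6 (by simp)) 17 (by decide)
      · exact sz_pres orb3 hn 17 (by decide)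
  · intro γ hq hn hn' hb
    refine claim4 γ ⟨?_, ?_⟩ hn'
    · intro b hb'
      simp only [List.mem_cons, List.not_mem_nil, or_false] at hb'
      rcases hb' with rfl | rfl | rfl | rfl
      · exact hq.1 _ (by simp)
      · exact hq.1 _ (by simp)
      · exact hq.1 _ (by simp)
      · exact hb
    · intro k hk
      simp only [List.mem_cons, List.not_mem_nil, or_false] at hk
      rcases hk with rfl | rfl | rfl | rfl
      · exact hq.2 _ (by simp)
      · exact hq.2 _ (by simp)
      · exact hq.2 _ (by simp)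
      · exact hn

theorem fixes2 : ∀ b ∈ [0, 23], D.H 6 ≤ MulAction.stabilizer ↥M24 (pt b) := by
  intro b hb
  simp only [List.mem_cons, List.not_mem_nil, or_false] at hb
  rcases hb with rfl | rfl
  · exact (D.H_mono (by decide : 6 ≤ 6)).trans lvl0.le_stab
  · exact (D.H_mono (by decide : 6 ≤ 6)).trans lvl1.le_stab

theorem claim2 : ∀ γ : ↥M24, Qn [0, 23] [7, 6] γ →
    γ ∈ Subgroup.normalizer (D.H 6 : Set ↥M24) → γ ∈ D.H 6 := by
  refine NormChain.step (D := D) idx idx_lt pt_idx lvl2 orb1 _ ?_ ?_ ?_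
  · exact Qn_mul _ _ _ fixes2 (by decide)
  · intro γ hq hn
    refine uniqB_spec uniq2 _ (idx_lt _) ?_ ?_
    · exact not_earlier γ _ 12 (by decide) hq.1 (by decide)
    · intro l hl
      simp only [List.mem_cons, List.not_mem_nil, or_false] at hl
      rcases hl with rfl | rfl
      · exact sz_pres orb0 (hq.2 7 (by simp)) 12 (by decide)
      · exact sz_pres orb1 hn 12 (by decide)
  · intro γ hq hn hn' hb
    refine claim3 γ ⟨?_, ?_⟩ hn'
    · intro b hb'
      simp only [List.mem_cons, List.not_mem_nil, or_false] at hb'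
      rcases hb' with rfl | rfl | rfl
      · exact hq.1 _ (by simp)
      · exact hq.1 _ (by simp)
      · exact hb
    · intro k hk
      simp only [List.mem_cons, List.not_mem_nil, or_false] at hk
      rcases hk with rfl | rfl | rfl
      · exact hq.2 _ (by simp)
      · exact hq.2 _ (by simp)
      · exact hn

theorem fixes1 : ∀ b ∈ [0], D.H 6 ≤ MulAction.stabilizer ↥M24 (pt b) := by
  intro b hb
  simp only [List.mem_cons, List.not_mem_nil, or_false] at hb
  rcases hb with rfl
  · exact (D.H_mono (by decide : 6 ≤ 6)).trans lvl0.le_stab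

theorem claim1 : ∀ γ : ↥M24, Qn [0] [7] γ →
    γ ∈ Subgroup.normalizer (D.H 6 : Set ↥M24) → γ ∈ D.H 6 := by
  refine NormChain.step (D := D) idx idx_lt pt_idx lvl1 orb1 _ ?_ ?_ ?_
  · exact Qn_mul _ _ _ fixes1 (by decide)
  · intro γ hq hn
    refine uniqB_spec uniq1 _ (idx_lt _) ?_ ?_
    · exact not_earlier γ _ 23 (by decide) hq.1 (by decide)
    · intro l hl
      simp only [List.mem_cons, List.not_mem_nil, or_false] at hl
      rcases hl with rfl | rfl
      · exact sz_pres orb0 (hq.2 7 (by simp)) 23 (by decide)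
      · exact sz_pres orb1 hn 23 (by decide)
  · intro γ hq hn hn' hb
    refine claim2 γ ⟨?_, ?_⟩ hn'
    · intro b hb'
      simp only [List.mem_cons, List.not_mem_nil, or_false] at hb'
      rcases hb' with rfl | rfl
      · exact hq.1 _ (by simp)
      · exact hb
    · intro k hk
      simp only [List.mem_cons, List.not_mem_nil, or_false] at hk
      rcases hk with rfl | rfl
      · exact hq.2 _ (by simp)
      · exact hn

theorem fixes0 : ∀ b ∈ ([] : List ℕ), D.H 7 ≤ MulAction.stabilizer ↥M24 (pt b) := by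
  intro b hb
  simp at hb

theorem claim0 : ∀ γ : ↥M24, Qn [] [] γ →
    γ ∈ Subgroup.normalizer (D.H 7 : Set ↥M24) → γ ∈ D.H 7 := by
  refine NormChain.step (D := D) idx idx_lt pt_idx lvl0 orb0 _ ?_ ?_ ?_
  · exact Qn_mul _ _ _ fixes0 (by decide)
  · intro γ hq hn
    refine uniqB_spec uniq0 _ (idx_lt _) ?_ ?_
    · exact not_earlier γ _ 0 (by decide) hq.1 (by decide)
    · intro l hl
      simp only [List.mem_cons, List.not_mem_nil, or_false] at hl
      rcases hl with rfl
      · exact sz_pres orb0 hn 0 (by decide)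
  · intro γ hq hn hn' hb
    refine claim1 γ ⟨?_, ?_⟩ hn'
    · intro b hb'
      simp only [List.mem_cons, List.not_mem_nil, or_false] at hb'
      rcases hb' with rfl

      · exact hb
    · intro k hk
      simp only [List.mem_cons, List.not_mem_nil, or_false] at hk
      rcases hk with rfl

      · exact hn

theorem normalizer_P : Subgroup.normalizer (D.H 7 : Set ↥M24) = D.H 7 :=
  le_antisymm (fun γ hγ => claim0 γ ⟨by simp, by simp⟩ hγ) Subgroup.le_normalizer

theorem card_P : Nat.card (D.H 7) = 2 ^ 10 := by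
  rw [lvl0.card, lvl1.card, lvl2.card, lvl3.card, lvl4.card, lvl5.card, lvl6.card, D.card_H_zero]
  decide

instance : Fact (Nat.Prime 2) := ⟨Nat.prime_two⟩

theorem card_M24' : Nat.card ↥M24 = 244823040 := card_M24

/-- the explicit Sylow 2-subgroup -/
noncomputable def Psyl : Sylow 2 ↥M24 := by
  haveI : Finite ↥M24 := Nat.finite_of_card_ne_zero (by rw [card_M24']; decide)
  refine IsPGroup.toSylow (P := D.H 7) (IsPGroup.of_card card_P) ?_
  have h := (D.H 7).index_mul_card
  rw [card_P, card_M24'] at h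
  have : (D.H 7).index = 239085 := by omega
  rw [this]
  decide

theorem Psyl_coe : (Psyl : Subgroup ↥M24) = D.H 7 := rfl

open scoped Pointwise in
theorem normalizer_conj {G : Type*} [Group G] (H : Subgroup G) (g : G)
    (h : Subgroup.normalizer (H : Set G) = H) :
    Subgroup.normalizer ((MulAut.conj g • H : Subgroup G) : Set G) = MulAut.conj g • H := by
  have e : MulAut.conj g • H = H.map (MulAut.conj g).toMonoidHom := rfl
  rw [e, ← Subgroup.map_equiv_normalizer_eq, h]

/-- In the Mathieu group of degree 24 (realised as the automorphism group of the extended binary Golay code) every Sylow 2-subgroup is self-normalizing. -/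
theorem result (S : Sylow 2 ↥Cfsg.M24) : Subgroup.normalizer ((S : Subgroup ↥Cfsg.M24) : Set ↥Cfsg.M24) = (S : Subgroup ↥Cfsg.M24) := by
  have : Finite ↥M24 := Nat.finite_of_card_ne_zero (by rw [card_M24']; decide)
  obtain ⟨g, hg⟩ := MulAction.exists_smul_eq ↥M24 Psyl S
  rw [← hg, Sylow.coe_subgroup_smul]
  exact normalizer_conj (Psyl : Subgroup ↥M24) g (by rw [Psyl_coe]; exact normalizer_P)

end Cfsg.Agent.S2882
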