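import Cfsg.Statements.S2896
import Cfsg.Agent.Lib.Helper31.Char2
import Cfsg.Agent.Lib.Helper48.StronglyEmbedded
import Cfsg.Agent.Lib.Helper33.Conj
import Cfsg.Agent.Lib.Helper48.Misc

set_option autoImplicit false
open Cfsg

namespace Cfsg.Agent.S2896

open Cfsg.Agent.Lib.Helper48 Cfsg.Agent.Lib.Helper31

section aux

variable {G : Type*} [Group G]

/-- Conjugation as an isomorphism between element centralizers. -/
def centConj (g z : G) :
    ↥(Subgroup.centralizer ({z} : Set G)) ≃* ↥(Subgroup.centralizer ({g * z * g⁻¹} : Set G)) where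
  toFun x := ⟨g * x * g⁻¹, by
    have hx := x.2
    rw [Subgroup.mem_centralizer_singleton_iff] at hx ⊢
    calc g * ↑x * g⁻¹ * (g * z * g⁻¹) = g * (↑x * z) * g⁻¹ := by group
      _ = g * (z * ↑x) * g⁻¹ := by rw [hx]
      _ = g * z * g⁻¹ * (g * ↑x * g⁻¹) := by group⟩
  invFun y := ⟨g⁻¹ * y * g, by
    have hy := y.2
    rw [Subgroup.mem_centralizer_singleton_iff] at hy ⊢
    calc g⁻¹ * ↑y * g * z = g⁻¹ * (↑y * (g * z * g⁻¹)) * g := by group
      _ = g⁻¹ * ((g * z * g⁻¹) * ↑y) * g := by rw [hy]
      _ = z * (g⁻¹ * ↑y * g) := by group⟩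
  left_inv x := by apply Subtype.ext; simp [mul_assoc]
  right_inv y := by apply Subtype.ext; simp [mul_assoc]
  map_mul' x y := by apply Subtype.ext; simp [mul_assoc]

theorem charP_centralizer_conj {p : ℕ} (g z : G)
    (h : Lib.Helper48.CharP p ↥(Subgroup.centralizer ({z} : Set G))) :
    Lib.Helper48.CharP p ↥(Subgroup.centralizer ({g * z * g⁻¹} : Set G)) :=
  h.of_equiv (centConj g z)

theorem centralizer_zpowers_eq (z : G) :
    Subgroup.centralizer ((Subgroup.zpowers z : Subgroup G) : Set G)
      = Subgroup.centralizer ({z} : Set G) := by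
  apply le_antisymm
  · apply Subgroup.centralizer_le
    intro x hx
    rw [Set.mem_singleton_iff] at hx
    rw [hx]; exact Subgroup.mem_zpowers z
  · intro c hc
    rw [Subgroup.mem_centralizer_singleton_iff] at hc
    rw [Subgroup.mem_centralizer_iff]
    intro w hw
    obtain ⟨k, rfl⟩ := Subgroup.mem_zpowers_iff.mp hw
    exact ((Commute.zpow_right (show Commute c z from hc) k).eq).symm

variable [Finite G] {p : ℕ} [Fact p.Prime]

theorem charP_normalizer_of_elem {U : Subgroup G} (hU : IsPGroup p U) {z : G} (hz : z ∈ U)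
    (h : Lib.Helper48.CharP p ↥(Subgroup.centralizer ({z} : Set G))) :
    Lib.Helper48.CharP p ↥(Subgroup.normalizer (U : Set G)) := by
  apply charP_normalizer_of_centralizer hU (V := Subgroup.zpowers z)
    (by rw [Subgroup.zpowers_le]; exact hz)
  rw [centralizer_zpowers_eq]
  exact h

end aux

/-- Let p be a prime dividing the order of the finite group G, S a Sylow p-subgroup of G and X a subgroup of S. (i) If some nontrivial element z of the centre of X has F*(C_G(z)) = O_p(C_G(z)), then F*(N_G(X)) = O_p(N_G(X)). (ii) G has parabolic characteristic p if and only if F*(C_G(z)) = O_p(C_G(z)) for every nontrivial z ∈ Ω₁(Z(S)). (iii) If F*(C_G(z)) = O_p(C_G(z)) for every element z of S of order p, then G has local characteristic p. -/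
theorem result {G : Type*} [Group G] [Finite G] {p : ℕ} [Fact p.Prime] (hdiv : p ∣ Nat.card G) (S : Sylow p G) (X : Subgroup G) (hX : X ≤ (S : Subgroup G)) : (∀ z : G, z ≠ 1 → z ∈ X → (∀ x ∈ X, x * z = z * x) → Cfsg.generalizedFittingSubgroup ↥(Subgroup.centralizer ({z} : Set G)) = Cfsg.pCore p ↥(Subgroup.centralizer ({z} : Set G)) → Cfsg.generalizedFittingSubgroup ↥(Subgroup.normalizer (X : Set G)) = Cfsg.pCore p ↥(Subgroup.normalizer (X : Set G))) ∧ (Cfsg.IsOfParabolicCharacteristic p G ↔ ∀ z : G, z ≠ 1 → z ∈ Cfsg.omegaOne p ((S : Subgroup G) ⊓ Subgroup.centralizer ((S : Subgroup G) : Set G)) → Cfsg.generalizedFittingSubgroup ↥(Subgroup.centralizer ({z} : Set G)) = Cfsg.pCore p ↥(Subgroup.centralizer ({z} : Set G))) ∧ ((∀ z : G, z ∈ (S : Subgroup G) → orderOf z = p → Cfsg.generalizedFittingSubgroup ↥(Subgroup.centralizer ({z} : Set G)) = Cfsg.pCore p ↥(Subgroup.centralizer ({z} : Set G))) → Cfsg.IsOfLocalCharacteristic p G) := by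
  classical
  have hp : p.Prime := Fact.out
  have hXp : IsPGroup p X := S.2.to_le hX
  refine ⟨?_, ?_, ?_⟩
  · intro z _ hzX _ hz
    exact genFitting_eq_pCore_of_charP
      (charP_normalizer_of_elem hXp hzX (charP_of_genFitting_eq hz))
  · constructor
    · intro hpar z hz1 hzΩ
      -- z lies in Z(S) and z ^ p = 1
      have hzZ : z ∈ (S : Subgroup G) ⊓ Subgroup.centralizer ((S : Subgroup G) : Set G) := by
        have hle : Cfsg.omegaOne p ((S : Subgroup G) ⊓ Subgroup.centralizer ((S : Subgroup G) : Set G))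
            ≤ (S : Subgroup G) ⊓ Subgroup.centralizer ((S : Subgroup G) : Set G) := by
          unfold Cfsg.omegaOne
          rw [Subgroup.closure_le]
          intro x hx; exact hx.1
        exact hle hzΩ
      obtain ⟨hzS, hzC⟩ := Subgroup.mem_inf.mp hzZ
      set R : Subgroup G := Subgroup.zpowers z with hR
      have hRS : R ≤ (S : Subgroup G) := by rw [hR, Subgroup.zpowers_le]; exact hzS
      have hRp : IsPGroup p R := S.2.to_le hRS
      have hR1 : R ≠ ⊥ := by
        rw [hR, Ne, Subgroup.zpowers_eq_bot]; exact hz1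
      have hSN : (S : Subgroup G) ≤ Subgroup.normalizer (R : Set G) := by
        refine le_trans ?_ (centralizer_singleton_le_normalizer_zpowers z)
        intro s hs
        rw [Subgroup.mem_centralizer_singleton_iff]
        rw [Subgroup.mem_centralizer_iff] at hzC
        exact hzC s hs
      have h1 : Lib.Helper48.CharP p ↥(Subgroup.normalizer (R : Set G)) := hpar R hRp hR1 ⟨S, hSN⟩
      have h2 : Lib.Helper48.CharP p ↥(Subgroup.centralizer ({z} : Set G)) := by
        apply charP_of_normal (centralizer_singleton_le_normalizer_zpowers z) ?_ h1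
        -- N(⟨z⟩) normalizes C(z) = C(⟨z⟩)
        rw [← centralizer_zpowers_eq]
        intro g hg
        exact mem_normalizer_centralizer hg
      exact genFitting_eq_pCore_of_charP h2
    · intro hz R hRp hR1 ⟨T, hT⟩
      show Lib.Helper48.CharP p ↥(Subgroup.normalizer (R : Set G))
      -- R ≤ T
      have hRT : R ≤ (T : Subgroup G) := by
        have h1 : IsPGroup p (R ⊔ (T : Subgroup G) : Subgroup G) :=
          hRp.to_sup_of_normal_left' T.2 hT
        have h2 : (R ⊔ (T : Subgroup G) : Subgroup G) = T := T.is_maximal' h1 le_sup_right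
        rw [← h2]; exact le_sup_left
      -- R ∩ Z(T) is nontrivial
      have hRn : (R.subgroupOf (T : Subgroup G)).Normal :=
        (Subgroup.normal_subgroupOf_iff_le_normalizer hRT).mpr hT
      have hRne : R.subgroupOf (T : Subgroup G) ≠ ⊥ := by
        intro h
        apply hR1
        rw [Subgroup.subgroupOf_eq_bot, disjoint_iff, inf_of_le_left hRT] at h
        exact h
      obtain ⟨b, hbR, hb1, hbZ⟩ := normal_meets_center' T.2 (R.subgroupOf (T : Subgroup G)) hRne
      set W : Subgroup G := R ⊓ ((T : Subgroup G) ⊓ Subgroup.centralizer ((T : Subgroup G) : Set G))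
        with hW
      have hbW : (b : G) ∈ W := by
        refine Subgroup.mem_inf.mpr ⟨Subgroup.mem_subgroupOf.mp hbR, Subgroup.mem_inf.mpr ⟨b.2, ?_⟩⟩
        rw [Subgroup.mem_centralizer_iff]
        intro t ht
        have := Subgroup.mem_center_iff.mp hbZ ⟨t, ht⟩
        exact congrArg Subtype.val this
      have hW1 : W ≠ ⊥ := by
        intro h
        rw [h, Subgroup.mem_bot] at hbW
        exact hb1 (Subtype.ext hbW)
      have hWp : IsPGroup p W := hRp.to_le inf_le_left
      obtain ⟨z', hz'W, hz'p⟩ := exists_orderOf_eq_of_ne_bot hWp hW1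
      obtain ⟨hz'R, hz'Z⟩ := Subgroup.mem_inf.mp hz'W
      obtain ⟨hz'T, hz'C⟩ := Subgroup.mem_inf.mp hz'Z
      -- move to S
      obtain ⟨g, hg⟩ := MulAction.exists_smul_eq G T S
      have hST : (S : Subgroup G) = Cfsg.Agent.Lib.Helper33.cj g (T : Subgroup G) := by
        rw [← hg, Cfsg.Agent.Lib.Helper33.sylow_coe_smul]
      have hmemS : ∀ x : G, x ∈ (S : Subgroup G) ↔ g⁻¹ * x * g ∈ (T : Subgroup G) := by
        intro x; rw [hST, Cfsg.Agent.Lib.Helper33.mem_cj]
      set z := g * z' * g⁻¹ with hzdef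
      have hzS : z ∈ (S : Subgroup G) := by
        rw [hmemS, hzdef]
        have : g⁻¹ * (g * z' * g⁻¹) * g = z' := by group
        rw [this]; exact hz'T
      have hzC : z ∈ Subgroup.centralizer ((S : Subgroup G) : Set G) := by
        rw [Subgroup.mem_centralizer_iff]
        intro s hs
        have ht := (hmemS s).mp hs
        rw [Subgroup.mem_centralizer_iff] at hz'C
        have h1 := hz'C _ ht
        calc s * z = g * ((g⁻¹ * s * g) * z') * g⁻¹ := by rw [hzdef]; group
          _ = g * (z' * (g⁻¹ * s * g)) * g⁻¹ := by rw [h1]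
          _ = z * s := by rw [hzdef]; group
      have hzp : orderOf z = p := by rw [hzdef, orderOf_conj', hz'p]
      have hz1 : z ≠ 1 := by
        intro h
        rw [h, orderOf_one] at hzp
        exact hp.ne_one hzp.symm
      have hzΩ : z ∈ Cfsg.omegaOne p
          ((S : Subgroup G) ⊓ Subgroup.centralizer ((S : Subgroup G) : Set G)) := by
        unfold Cfsg.omegaOne
        apply Subgroup.subset_closure
        exact ⟨Subgroup.mem_inf.mpr ⟨hzS, hzC⟩, by rw [← hzp, pow_orderOf_eq_one]⟩
      have h1 : Lib.Helper48.CharP p ↥(Subgroup.centralizer ({z} : Set G)) :=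
        charP_of_genFitting_eq (hz z hz1 hzΩ)
      have h2 := charP_centralizer_conj (p := p) g⁻¹ z h1
      have h3 : g⁻¹ * z * g⁻¹⁻¹ = z' := by rw [hzdef]; group
      rw [h3] at h2
      exact charP_normalizer_of_elem hRp hz'R h2
  · intro hz
    refine ⟨hdiv, ?_⟩
    intro T hTp hT1
    show Lib.Helper48.CharP p ↥(Subgroup.normalizer (T : Set G))
    obtain ⟨z', hz'T, hz'p⟩ := exists_orderOf_eq_of_ne_bot hTp hT1
    obtain ⟨g, -, hg⟩ := exists_conj_le_sylow (H := ⊤) S (fun _ _ => Subgroup.mem_top _) hTp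
      (fun _ _ => Subgroup.mem_top _)
    have hzS : g * z' * g⁻¹ ∈ (S : Subgroup G) := hg z' hz'T
    have h1 : Lib.Helper48.CharP p ↥(Subgroup.centralizer ({g * z' * g⁻¹} : Set G)) :=
      charP_of_genFitting_eq (hz _ hzS (by rw [orderOf_conj', hz'p]))
    have h2 := charP_centralizer_conj (p := p) g⁻¹ _ h1
    have h3 : g⁻¹ * (g * z' * g⁻¹) * g⁻¹⁻¹ = z' := by group
    rw [h3] at h2
    exact charP_normalizer_of_elem hTp hz'T h2

end Cfsg.Agent.S2896
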