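import Cfsg.Statements.S2897
import Cfsg.Agent.S2896
import Cfsg.Agent.Lib.Helper32.PPrimeP

set_option autoImplicit false
open Cfsg

namespace Cfsg.Agent.S2897

open Cfsg.Agent.Lib.Helper48 Cfsg.Agent.Lib.Helper31

/-- A nontrivial `p`-subgroup normalized by a Sylow `p`-subgroup `T` contains an element of order
`p` of the centre of `T`. -/
theorem exists_central_of_normalized {L : Type*} [Group L] [Finite L] {p : ℕ} [Fact p.Prime]
    (T : Sylow p L) (R : Subgroup L) (hRp : IsPGroup p R) (hR1 : R ≠ ⊥)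
    (hT : (T : Subgroup L) ≤ Subgroup.normalizer (R : Set L)) :
    ∃ z ∈ R, z ∈ (T : Subgroup L) ∧ z ∈ Subgroup.centralizer ((T : Subgroup L) : Set L) ∧
      orderOf z = p := by
  have hRT : R ≤ (T : Subgroup L) := by
    have h1 : IsPGroup p (R ⊔ (T : Subgroup L) : Subgroup L) :=
      hRp.to_sup_of_normal_left' T.2 hT
    have h2 : (R ⊔ (T : Subgroup L) : Subgroup L) = T := T.is_maximal' h1 le_sup_right
    rw [← h2]; exact le_sup_left
  have hRn : (R.subgroupOf (T : Subgroup L)).Normal :=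
    (Subgroup.normal_subgroupOf_iff_le_normalizer hRT).mpr hT
  have hRne : R.subgroupOf (T : Subgroup L) ≠ ⊥ := by
    intro h
    apply hR1
    rw [Subgroup.subgroupOf_eq_bot, disjoint_iff, inf_of_le_left hRT] at h
    exact h
  obtain ⟨b, hbR, hb1, hbZ⟩ := normal_meets_center' T.2 (R.subgroupOf (T : Subgroup L)) hRne
  set W : Subgroup L := R ⊓ ((T : Subgroup L) ⊓ Subgroup.centralizer ((T : Subgroup L) : Set L))
    with hW
  have hbW : (b : L) ∈ W := by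
    refine Subgroup.mem_inf.mpr ⟨Subgroup.mem_subgroupOf.mp hbR, Subgroup.mem_inf.mpr ⟨b.2, ?_⟩⟩
    rw [Subgroup.mem_centralizer_iff]
    intro t ht
    have := Subgroup.mem_center_iff.mp hbZ ⟨t, ht⟩
    exact congrArg Subtype.val this
  have hW1 : W ≠ ⊥ := by
    intro h
    rw [h, Subgroup.mem_bot] at hbW
    exact hb1 (Subtype.ext hbW)
  have hWp : IsPGroup p W := hRp.to_le inf_le_left
  obtain ⟨z', hz'W, hz'p⟩ := exists_orderOf_eq_of_ne_bot hWp hW1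
  obtain ⟨hz'R, hz'Z⟩ := Subgroup.mem_inf.mp hz'W
  obtain ⟨hz'T, hz'C⟩ := Subgroup.mem_inf.mp hz'Z
  exact ⟨z', hz'R, hz'T, hz'C, hz'p⟩

/-- Let p be a prime dividing the order of the finite group G, suppose G has parabolic characteristic p, let S be a Sylow p-subgroup of G and G₁ a normal subgroup of G. If Ω₁(Z(S ∩ G₁)) is nontrivial and contained in Ω₁(Z(S)), then G₁ has parabolic characteristic p. -/
theorem result {G : Type*} [Group G] [Finite G] {p : ℕ} [Fact p.Prime] (hdiv : p ∣ Nat.card G) (hG : Cfsg.IsOfParabolicCharacteristic p G) (S : Sylow p G) (G₁ : Subgroup G) [G₁.Normal] (hne : Cfsg.omegaOne p (((S : Subgroup G) ⊓ G₁) ⊓ Subgroup.centralizer (((S : Subgroup G) ⊓ G₁ : Subgroup G) : Set G)) ≠ ⊥) (hle : Cfsg.omegaOne p (((S : Subgroup G) ⊓ G₁) ⊓ Subgroup.centralizer (((S : Subgroup G) ⊓ G₁ : Subgroup G) : Set G)) ≤ Cfsg.omegaOne p ((S : Subgroup G) ⊓ Subgroup.centralizer ((S : Subgroup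 G) : Set G))) : Cfsg.IsOfParabolicCharacteristic p ↥G₁ := by
  classical
  have hp : p.Prime := Fact.out
  -- the Sylow subgroup S ∩ G₁ of G₁
  have hS₁p : IsPGroup p (((S : Subgroup G) ⊓ G₁).subgroupOf G₁) :=
    (S.2.to_le inf_le_left).comap_subtype
  have hS₁i : ¬ p ∣ (((S : Subgroup G) ⊓ G₁).subgroupOf G₁).index :=
    Cfsg.Agent.Lib.Helper32.not_dvd_relIndex_inf_normal S G₁
  set S₁ : Sylow p ↥G₁ := hS₁p.toSylow hS₁i with hS₁
  have hmemS₁ : ∀ x : ↥G₁, x ∈ (S₁ : Subgroup ↥G₁) ↔ (x : G) ∈ (S : Subgroup G) := by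
    intro x
    rw [hS₁, IsPGroup.toSylow_coe, Subgroup.mem_subgroupOf, Subgroup.mem_inf]
    exact ⟨fun h => h.1, fun h => ⟨h, x.2⟩⟩
  have hpar := (Cfsg.Agent.S2896.result hdiv S ⊥ bot_le).2.1.mp hG
  intro R hRp hR1 ⟨T, hT⟩
  show Lib.Helper48.CharP p ↥(Subgroup.normalizer (R : Set ↥G₁))
  obtain ⟨z, hzR, hzT, hzC, hzp⟩ := exists_central_of_normalized T R hRp hR1 hT
  -- move to S₁
  obtain ⟨h, hh⟩ := MulAction.exists_smul_eq ↥G₁ T S₁
  have hST : (S₁ : Subgroup ↥G₁) = Cfsg.Agent.Lib.Helper33.cj h (T : Subgroup ↥G₁) := by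
    rw [← hh, Cfsg.Agent.Lib.Helper33.sylow_coe_smul]
  have hmemST : ∀ x : ↥G₁, x ∈ (S₁ : Subgroup ↥G₁) ↔ h⁻¹ * x * h ∈ (T : Subgroup ↥G₁) := by
    intro x; rw [hST, Cfsg.Agent.Lib.Helper33.mem_cj]
  set z₀ : ↥G₁ := h * z * h⁻¹ with hz₀
  have hz₀S : z₀ ∈ (S₁ : Subgroup ↥G₁) := by
    rw [hmemST, hz₀]
    have : h⁻¹ * (h * z * h⁻¹) * h = z := by group
    rw [this]; exact hzT
  have hz₀C : ∀ s ∈ (S₁ : Subgroup ↥G₁), s * z₀ = z₀ * s := by
    intro s hs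
    have ht := (hmemST s).mp hs
    rw [Subgroup.mem_centralizer_iff] at hzC
    have h1 := hzC _ ht
    calc s * z₀ = h * ((h⁻¹ * s * h) * z) * h⁻¹ := by rw [hz₀]; group
      _ = h * (z * (h⁻¹ * s * h)) * h⁻¹ := by rw [h1]
      _ = z₀ * s := by rw [hz₀]; group
  have hz₀p : orderOf z₀ = p := by rw [hz₀, orderOf_conj', hzp]
  have hz₀pG : orderOf (z₀ : G) = p := by rw [Subgroup.orderOf_coe, hz₀p]
  have hz₀1 : (z₀ : G) ≠ 1 := by
    intro h
    rw [h, orderOf_one] at hz₀pG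
    exact hp.ne_one hz₀pG.symm
  -- z₀ lies in Ω₁(Z(S ∩ G₁))
  have hz₀Ω : (z₀ : G) ∈ Cfsg.omegaOne p (((S : Subgroup G) ⊓ G₁) ⊓
      Subgroup.centralizer (((S : Subgroup G) ⊓ G₁ : Subgroup G) : Set G)) := by
    unfold Cfsg.omegaOne
    apply Subgroup.subset_closure
    refine ⟨Subgroup.mem_inf.mpr ⟨Subgroup.mem_inf.mpr ⟨(hmemS₁ z₀).mp hz₀S, z₀.2⟩, ?_⟩,
      by rw [← hz₀pG, pow_orderOf_eq_one]⟩
    rw [Subgroup.mem_centralizer_iff]
    intro s hs
    obtain ⟨hsS, hsG⟩ := Subgroup.mem_inf.mp hs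
    have := hz₀C ⟨s, hsG⟩ ((hmemS₁ ⟨s, hsG⟩).mpr hsS)
    exact congrArg Subtype.val this
  have h1 : Lib.Helper48.CharP p ↥(Subgroup.centralizer ({(z₀ : G)} : Set G)) :=
    charP_of_genFitting_eq (hpar (z₀ : G) hz₀1 (hle hz₀Ω))
  -- C_{G₁}(z₀) has characteristic p
  set K : Subgroup G := Subgroup.centralizer ({(z₀ : G)} : Set G) with hK
  have h2 : Lib.Helper48.CharP p ↥(K ⊓ G₁ : Subgroup G) := by
    apply charP_of_normal (inf_le_left : K ⊓ G₁ ≤ K) ?_ h1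
    intro k hk
    apply mem_normalizer_inf (Subgroup.le_normalizer hk)
    rw [Subgroup.normalizer_eq_top]; exact Subgroup.mem_top k
  have h3 : Lib.Helper48.CharP p ↥((K ⊓ G₁).subgroupOf G₁) :=
    h2.of_equiv (Subgroup.subgroupOfEquivOfLe (inf_le_right : K ⊓ G₁ ≤ G₁)).symm
  have h4 : (K ⊓ G₁).subgroupOf G₁ = Subgroup.centralizer ({z₀} : Set ↥G₁) := by
    ext x
    rw [Subgroup.mem_subgroupOf, Subgroup.mem_inf, hK, Subgroup.mem_centralizer_singleton_iff,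
      Subgroup.mem_centralizer_singleton_iff]
    constructor
    · intro hx; exact Subtype.ext hx.1
    · intro hx; exact ⟨congrArg Subtype.val hx, x.2⟩
  rw [h4] at h3
  have h5 := Cfsg.Agent.S2896.charP_centralizer_conj (p := p) h⁻¹ z₀ h3
  have h6 : h⁻¹ * z₀ * h⁻¹⁻¹ = z := by rw [hz₀]; group
  rw [h6] at h5
  exact Cfsg.Agent.S2896.charP_normalizer_of_elem hRp hzR h5

end Cfsg.Agent.S2897
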