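import Cfsg.Statements.S2898
import Cfsg.Agent.Lib.Helper48.StronglyEmbedded
import Cfsg.Agent.Lib.Helper48.PCore
import Cfsg.Agent.Lib.Helper48.Misc

set_option autoImplicit false
open Cfsg

namespace Cfsg.Agent.S2898


open Subgroup

/-- an element of a 2-group and of a group of odd order is trivial -/
theorem eq_one_of_two_pow_of_odd {G : Type*} [Group G] {x : G} {k n : ℕ} (h1 : x ^ 2 ^ k = 1)
    (h2 : x ^ n = 1) (hn : n.Coprime 2) : x = 1 := by
  have h3 : orderOf x ∣ 2 ^ k := orderOf_dvd_of_pow_eq_one h1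
  have h4 : orderOf x ∣ n := orderOf_dvd_of_pow_eq_one h2
  have h5 : (2 ^ k).Coprime n := (Nat.Coprime.pow_right k hn).symm
  have := Nat.eq_one_of_dvd_coprimes h5 h3 h4
  exact orderOf_eq_one_iff.mp this


theorem pow_card_eq_one_of_mem {G : Type*} [Group G] {K : Subgroup G} {x : G} (hx : x ∈ K) :
    x ^ Nat.card K = 1 := by
  have h := pow_card_eq_one' (G := K) (x := ⟨x, hx⟩)
  have h2 : (((⟨x, hx⟩ : K) ^ Nat.card K : K) : G) = ((1 : K) : G) := by rw [h]
  simpa only [Subgroup.coe_pow, Subgroup.coe_one] using h2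

/-- Step 1: a central involution of a Sylow 2-subgroup acts fixed-point-freely on `O(G)`. -/
theorem step1 {G : Type*} [Group G] [Finite G] (hG : Cfsg.IsOfParabolicCharacteristic 2 G)
    (S : Sylow 2 G) {z : G} (hzp : orderOf z = 2)
    (hzc : ∀ x ∈ (S : Subgroup G), x * z = z * x) :
    ∀ k ∈ Cfsg.oddCore G, k * z = z * k → k = 1 := by
  have hKn : (Cfsg.oddCore G).Normal := Cfsg.pPrimeCore_normal 2 G
  have hKodd : (Nat.card (Cfsg.oddCore G)).Coprime 2 := Lib.Helper48.pPrimeCore_card_coprime 2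
  have hR : IsPGroup 2 (zpowers z) := Lib.Helper48.isPGroup_zpowers_of_orderOf_eq hzp
  have hRne : (zpowers z : Subgroup G) ≠ ⊥ := Lib.Helper48.zpowers_ne_bot_of_orderOf_eq_prime hzp
  have hcn : centralizer ({z} : Set G) ≤ normalizer ((zpowers z : Subgroup G) : Set G) :=
    Lib.Helper48.centralizer_singleton_le_normalizer_zpowers z
  have hpar : Cfsg.IsParabolic 2 (normalizer ((zpowers z : Subgroup G) : Set G)) := by
    refine ⟨S, fun x hx => hcn ?_⟩
    rw [Subgroup.mem_centralizer_singleton_iff]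
    exact hzc x hx
  have hchar := hG (zpowers z) hR hRne hpar
  set N := normalizer ((zpowers z : Subgroup G) : Set G) with hNdef
  intro k hk hkz
  have hkN : k ∈ N := hcn (Subgroup.mem_centralizer_singleton_iff.mpr hkz)
  -- D = (K ⊓ N).subgroupOf N
  have hQn : (Cfsg.pCore 2 N).Normal := Cfsg.pCore_normal 2 N
  have hQp : IsPGroup 2 (Cfsg.pCore 2 N) := Lib.Helper48.isPGroup_pCore 2 N
  have hkQ : (⟨k, hkN⟩ : N) ∈ Cfsg.pCore 2 N := by
    apply hchar
    rw [Subgroup.mem_centralizer_iff]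
    intro q hq
    -- commutator c = q k q⁻¹ k⁻¹ lies in Q and in K
    have hcQ : q * (⟨k, hkN⟩ : N) * q⁻¹ * (⟨k, hkN⟩ : N)⁻¹ ∈ Cfsg.pCore 2 N := by
      have h1 : (⟨k, hkN⟩ : N) * q⁻¹ * (⟨k, hkN⟩ : N)⁻¹ ∈ Cfsg.pCore 2 N :=
        hQn.conj_mem _ ((Cfsg.pCore 2 N).inv_mem hq) _
      have := (Cfsg.pCore 2 N).mul_mem hq h1
      simpa [mul_assoc] using this
    have hcK : ((q * (⟨k, hkN⟩ : N) * q⁻¹ * (⟨k, hkN⟩ : N)⁻¹ : N) : G) ∈ Cfsg.oddCore G := by
      have h1 : (q : G) * k * (q : G)⁻¹ ∈ Cfsg.oddCore G := hKn.conj_mem _ hk _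
      have := (Cfsg.oddCore G).mul_mem h1 ((Cfsg.oddCore G).inv_mem hk)
      simpa using this
    obtain ⟨j, hj⟩ := hQp ⟨_, hcQ⟩
    have hj' : ((q * (⟨k, hkN⟩ : N) * q⁻¹ * (⟨k, hkN⟩ : N)⁻¹ : N) : G) ^ 2 ^ j = 1 := by
      have := congrArg Subtype.val hj
      have h2 := congrArg Subtype.val this
      simpa using h2
    have hodd : ((q * (⟨k, hkN⟩ : N) * q⁻¹ * (⟨k, hkN⟩ : N)⁻¹ : N) : G) ^ Nat.card (Cfsg.oddCore G) = 1 :=
      pow_card_eq_one_of_mem hcK
    have hc1 := eq_one_of_two_pow_of_odd hj' hodd hKodd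
    have hc2 : q * (⟨k, hkN⟩ : N) * q⁻¹ * (⟨k, hkN⟩ : N)⁻¹ = 1 := by
      apply Subtype.ext; simpa using hc1
    calc q * (⟨k, hkN⟩ : N) = (q * (⟨k, hkN⟩ : N) * q⁻¹ * (⟨k, hkN⟩ : N)⁻¹) * (⟨k, hkN⟩ : N) * q := by group
      _ = (⟨k, hkN⟩ : N) * q := by rw [hc2, one_mul]
  obtain ⟨j, hj⟩ := hQp ⟨_, hkQ⟩
  have hj' : k ^ 2 ^ j = 1 := by
    have := congrArg Subtype.val hj
    have h2 := congrArg Subtype.val this
    simpa using h2
  have hodd : k ^ Nat.card (Cfsg.oddCore G) = 1 := pow_card_eq_one_of_mem hk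
  exact eq_one_of_two_pow_of_odd hj' hodd hKodd

/-- Let G be a finite group of even order with parabolic characteristic 2. If the centre of G ⧸ O(G) is trivial, then O(G) = 1. -/
theorem result {G : Type*} [Group G] [Finite G] (h2 : 2 ∣ Nat.card G) (hG : Cfsg.IsOfParabolicCharacteristic 2 G) [hN : (Cfsg.oddCore G).Normal] (hZ : Subgroup.center (G ⧸ Cfsg.oddCore G) = ⊥) : Cfsg.oddCore G = ⊥ := by
  have hKn : (Cfsg.oddCore G).Normal := Cfsg.pPrimeCore_normal 2 G
  have hKodd : (Nat.card (Cfsg.oddCore G)).Coprime 2 := Lib.Helper48.pPrimeCore_card_coprime 2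
  obtain ⟨S⟩ : Nonempty (Sylow 2 G) := inferInstance
  have hSne : (S : Subgroup G) ≠ ⊥ := S.ne_bot_of_dvd_card h2
  obtain ⟨z, hzS, hzp, hzc⟩ := Lib.Helper48.exists_central_orderOf_eq S.2 hSne
  have hzz : z * z = 1 := by
    have := pow_orderOf_eq_one z
    rw [hzp, pow_two] at this; exact this
  have hfix := step1 hG S hzp hzc
  have hinv := Lib.Helper48.inverts_of_fixedPointFree hzz hfix
  -- Case A: some central involution of S centralizes K
  by_cases hA : ∃ z' ∈ (S : Subgroup G), orderOf z' = 2 ∧ (∀ x ∈ (S : Subgroup G), x * z' = z' * x) ∧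
      ∀ k ∈ Cfsg.oddCore G, k * z' = z' * k
  · obtain ⟨z', hz'S, hz'p, hz'c, hz'K⟩ := hA
    have hfix' := step1 hG S hz'p hz'c
    rw [eq_bot_iff]
    intro k hk
    rw [Subgroup.mem_bot]
    exact hfix' k hk (hz'K k hk)
  · exfalso
    -- C = C_G(K)
    have hCn : (centralizer (Cfsg.oddCore G : Set G)).Normal := inferInstance
    -- C ⊓ S = ⊥
    have hCS : ∀ x ∈ (S : Subgroup G), x ∈ centralizer (Cfsg.oddCore G : Set G) → x = 1 := by
      by_contra hcon
      push Not at hcon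
      obtain ⟨x, hxS, hxC, hx1⟩ := hcon
      have hne : ((centralizer (Cfsg.oddCore G : Set G)).subgroupOf (S : Subgroup G)) ≠ ⊥ := by
        intro h
        have : (⟨x, hxS⟩ : (S : Subgroup G)) ∈ ((centralizer (Cfsg.oddCore G : Set G)).subgroupOf (S : Subgroup G)) := by
          rw [Subgroup.mem_subgroupOf]; exact hxC
        rw [h, Subgroup.mem_bot] at this
        exact hx1 (congrArg Subtype.val this)
      obtain ⟨b, hbC, hb1, hbZ⟩ := Lib.Helper48.normal_meets_center' S.2 _ hne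
      -- the subgroup Z(S) ∩ C is a nontrivial 2-group, take an element of order 2
      let T : Subgroup G := ((Subgroup.center (S : Subgroup G)) ⊓
        (centralizer (Cfsg.oddCore G : Set G)).subgroupOf (S : Subgroup G)).map (S : Subgroup G).subtype
      have hTp : IsPGroup 2 T := (S.2.to_subgroup _).map _
      have hTne : T ≠ ⊥ := by
        intro h
        have : (b : G) ∈ T := ⟨b, Subgroup.mem_inf.mpr ⟨hbZ, hbC⟩, rfl⟩
        rw [h, Subgroup.mem_bot] at this
        exact hb1 (Subtype.ext this)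
      obtain ⟨z', hz'T, hz'p⟩ := Lib.Helper48.exists_orderOf_eq_of_ne_bot hTp hTne
      obtain ⟨w, hw, rfl⟩ := hz'T
      obtain ⟨hwZ, hwC⟩ := Subgroup.mem_inf.mp hw
      apply hA
      refine ⟨w, w.2, hz'p, ?_, ?_⟩
      · intro x hx
        have := Subgroup.mem_center_iff.mp hwZ ⟨x, hx⟩
        exact congrArg Subtype.val this
      · intro k hk
        rw [Subgroup.mem_subgroupOf, Subgroup.mem_centralizer_iff] at hwC
        exact hwC k hk
    -- C has odd order
    have hCodd : (Nat.card (centralizer (Cfsg.oddCore G : Set G))).Coprime 2 := by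
      rw [Nat.coprime_comm, Nat.Prime.coprime_iff_not_dvd Nat.prime_two]
      intro hdvd
      obtain ⟨t, ht⟩ := exists_prime_orderOf_dvd_card' 2 hdvd
      have htp : orderOf (t : G) = 2 := by rw [Subgroup.orderOf_coe]; exact ht
      have hZt : IsPGroup 2 (zpowers (t : G)) := Lib.Helper48.isPGroup_zpowers_of_orderOf_eq htp
      obtain ⟨h, -, hconj⟩ := Lib.Helper48.exists_conj_le_sylow (H := ⊤) S le_top hZt le_top
      have h1 := hconj (t : G) (Subgroup.mem_zpowers _)
      have h2 : h * (t : G) * h⁻¹ ∈ centralizer (Cfsg.oddCore G : Set G) := hCn.conj_mem _ t.2 _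
      have h3 := hCS _ h1 h2
      have h4 : (t : G) = 1 := by
        have : h⁻¹ * (h * (t : G) * h⁻¹) * h = h⁻¹ * 1 * h := by rw [h3]
        simpa [mul_assoc] using this
      rw [h4, orderOf_one] at htp
      exact absurd htp (by norm_num)
    have hCK : centralizer (Cfsg.oddCore G : Set G) ≤ Cfsg.oddCore G :=
      Lib.Helper48.le_pPrimeCore hCn hCodd
    -- mk z is central
    have hzcen : (QuotientGroup.mk' (Cfsg.oddCore G) z) ∈ Subgroup.center (G ⧸ Cfsg.oddCore G) := by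
      rw [Subgroup.mem_center_iff]
      intro q
      obtain ⟨g, rfl⟩ := QuotientGroup.mk'_surjective (Cfsg.oddCore G) q
      have hzinv : z⁻¹ = z := inv_eq_of_mul_eq_one_right hzz
      -- c = g⁻¹ z⁻¹ g z centralizes K... use c = (g z g⁻¹) z
      have hc : g * z * g⁻¹ * z ∈ centralizer (Cfsg.oddCore G : Set G) := by
        rw [Subgroup.mem_centralizer_iff]
        intro k hk
        have h1 : z * k * z⁻¹ = k⁻¹ := hinv k hk
        have h2 : g⁻¹ * k⁻¹ * g ∈ Cfsg.oddCore G := by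
          have := hKn.conj_mem _ ((Cfsg.oddCore G).inv_mem hk) g⁻¹
          simpa using this
        have h3 : z * (g⁻¹ * k⁻¹ * g) * z⁻¹ = (g⁻¹ * k⁻¹ * g)⁻¹ := hinv _ h2
        -- (g z g⁻¹ z) k (g z g⁻¹ z)⁻¹ = k
        have h4 : (g * z * g⁻¹ * z) * k * (g * z * g⁻¹ * z)⁻¹ = k := by
          calc (g * z * g⁻¹ * z) * k * (g * z * g⁻¹ * z)⁻¹
              = g * z * g⁻¹ * (z * k * z⁻¹) * g * z⁻¹ * g⁻¹ := by group
            _ = g * z * g⁻¹ * k⁻¹ * g * z⁻¹ * g⁻¹ := by rw [h1]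
            _ = g * (z * (g⁻¹ * k⁻¹ * g) * z⁻¹) * g⁻¹ := by group
            _ = g * (g⁻¹ * k⁻¹ * g)⁻¹ * g⁻¹ := by rw [h3]
            _ = k := by group
        calc k * (g * z * g⁻¹ * z) = ((g * z * g⁻¹ * z) * k * (g * z * g⁻¹ * z)⁻¹) * (g * z * g⁻¹ * z) := by rw [h4]
          _ = (g * z * g⁻¹ * z) * k := by group
      have hcK : g * z * g⁻¹ * z ∈ Cfsg.oddCore G := hCK hc
      have h5 : (QuotientGroup.mk' (Cfsg.oddCore G)) (g * z * g⁻¹ * z) = 1 := by
        rw [QuotientGroup.mk'_apply, QuotientGroup.eq_one_iff]; exact hcK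
      simp only [map_mul, map_inv] at h5
      have hzq : (QuotientGroup.mk' (Cfsg.oddCore G)) z * (QuotientGroup.mk' (Cfsg.oddCore G)) z = 1 := by
        rw [← map_mul, hzz, map_one]
      set a := (QuotientGroup.mk' (Cfsg.oddCore G)) g with ha
      set b := (QuotientGroup.mk' (Cfsg.oddCore G)) z with hb
      have hbinv : b⁻¹ = b := inv_eq_of_mul_eq_one_right hzq
      calc a * b = (a * b * a⁻¹ * b) * b⁻¹ * a := by group
        _ = b⁻¹ * a := by rw [h5, one_mul]
        _ = b * a := by rw [hbinv]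
    rw [hZ, Subgroup.mem_bot, QuotientGroup.mk'_apply, QuotientGroup.eq_one_iff] at hzcen
    -- z ∈ K of odd order, contradiction
    have hodd : z ^ Nat.card (Cfsg.oddCore G) = 1 := pow_card_eq_one_of_mem hzcen
    have hz1 : z = 1 := eq_one_of_two_pow_of_odd (k := 1) (by rw [pow_one, pow_two]; exact hzz) hodd hKodd
    rw [hz1, orderOf_one] at hzp
    exact absurd hzp (by norm_num)

end Cfsg.Agent.S2898
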