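import Cfsg.Statements.S2907
-- import your own Cfsg.Agent.* helpers here

set_option autoImplicit false
open Cfsg

namespace Cfsg.Agent.S2907


open Subgroup in
/-- The commutator map `y ↦ [x,y]` as a homomorphism, when all commutators are central. -/
def commHom {X : Type*} [Group X] (x : X)
    (hc : ∀ y : X, x * y * x⁻¹ * y⁻¹ ∈ Subgroup.center X) : X →* X where
  toFun y := x * y * x⁻¹ * y⁻¹
  map_one' := by simp
  map_mul' y z := by
    have h := Subgroup.mem_center_iff.mp (hc z) y
    calc x * (y * z) * x⁻¹ * (y * z)⁻¹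
        = (x * y * x⁻¹ * y⁻¹) * (y * (x * z * x⁻¹ * z⁻¹)) * y⁻¹ := by group
      _ = (x * y * x⁻¹ * y⁻¹) * ((x * z * x⁻¹ * z⁻¹) * y) * y⁻¹ := by rw [h]
      _ = (x * y * x⁻¹ * y⁻¹) * (x * z * x⁻¹ * z⁻¹) := by group

/-- Let X be a finite semi-extraspecial p-group and x an element of X outside the centre. Then the index of C_X(x) in X equals the order of Z(X), and the commutators [x, y], y ∈ X, form exactly the centre Z(X). -/
theorem result {X : Type*} [Group X] [Finite X] {p : ℕ} [Fact p.Prime] (hX : Cfsg.IsSemiExtraspecial p X) (x : X) (hx : x ∉ Subgroup.center X) : (Subgroup.centralizer ({x} : Set X)).index = Nat.card ↥(Subgroup.center X) ∧ {z : X | ∃ y : X, z = x * y * x⁻¹ * y⁻¹} = (Subgroup.center X : Set X) := by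
  obtain ⟨⟨hp, hfr, hcomm⟩, hse⟩ := hX
  have hc : ∀ y : X, x * y * x⁻¹ * y⁻¹ ∈ Subgroup.center X := by
    intro y
    rw [← hcomm, commutator_def]
    exact Subgroup.commutator_mem_commutator (Subgroup.mem_top x) (Subgroup.mem_top y)
  have hker : (commHom x hc).ker = Subgroup.centralizer ({x} : Set X) := by
    ext y
    rw [MonoidHom.mem_ker, Subgroup.mem_centralizer_singleton_iff]
    show x * y * x⁻¹ * y⁻¹ = 1 ↔ y * x = x * y
    constructor
    · intro h
      have : x * y * x⁻¹ * y⁻¹ * y * x = 1 * y * x := by rw [h]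
      simpa [mul_assoc] using this.symm
    · intro h
      calc x * y * x⁻¹ * y⁻¹ = (x * y) * x⁻¹ * y⁻¹ := by group
        _ = (y * x) * x⁻¹ * y⁻¹ := by rw [h]
        _ = 1 := by group
  have hrange_le : (commHom x hc).range ≤ Subgroup.center X := by
    rintro _ ⟨y, rfl⟩; exact hc y
  have hrange : (commHom x hc).range = Subgroup.center X := by
    by_contra hne
    have hlt : ((commHom x hc).range).subgroupOf (Subgroup.center X) ≠ ⊤ := by
      intro h
      apply hne
      apply le_antisymm hrange_le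
      intro z hz
      have : (⟨z, hz⟩ : Subgroup.center X) ∈ ((commHom x hc).range).subgroupOf (Subgroup.center X) := by
        rw [h]; trivial
      exact Subgroup.mem_subgroupOf.mp this
    obtain ⟨M, hM, hIM⟩ := (eq_top_or_exists_le_coatom _).resolve_left hlt
    set Y : Subgroup X := M.map (Subgroup.center X).subtype with hY
    have hYle : Y ≤ Subgroup.center X := by
      rintro _ ⟨z, _, rfl⟩; exact z.2
    have hYM : Y.subgroupOf (Subgroup.center X) = M := by
      rw [hY]
      exact Subgroup.comap_map_eq_self_of_injective (Subgroup.subtype_injective _) M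
    obtain ⟨hYn, ⟨-, hcard⟩⟩ := hse Y hYle (hYM ▸ hM)
    -- range ≤ Y
    have hIY : (commHom x hc).range ≤ Y := by
      intro z hz
      have h1 : (⟨z, hrange_le hz⟩ : Subgroup.center X) ∈ M := hIM (by
        rw [Subgroup.mem_subgroupOf]; exact hz)
      exact ⟨_, h1, rfl⟩
    -- image of x is central in X ⧸ Y
    have hxc : (QuotientGroup.mk' Y x) ∈ Subgroup.center (X ⧸ Y) := by
      rw [Subgroup.mem_center_iff]
      intro q
      obtain ⟨y, rfl⟩ := QuotientGroup.mk'_surjective Y q
      have h1 : x * y * x⁻¹ * y⁻¹ ∈ Y := hIY ⟨y, rfl⟩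
      have h2 : (QuotientGroup.mk' Y) (x * y * x⁻¹ * y⁻¹) = 1 := by
        rw [QuotientGroup.mk'_apply, QuotientGroup.eq_one_iff]; exact h1
      simp only [map_mul, map_inv] at h2
      have h3 : (QuotientGroup.mk' Y) x * (QuotientGroup.mk' Y) y = (QuotientGroup.mk' Y) y * (QuotientGroup.mk' Y) x := by
        calc (QuotientGroup.mk' Y) x * (QuotientGroup.mk' Y) y
            = ((QuotientGroup.mk' Y) x * (QuotientGroup.mk' Y) y * ((QuotientGroup.mk' Y) x)⁻¹ * ((QuotientGroup.mk' Y) y)⁻¹) * (QuotientGroup.mk' Y) y * (QuotientGroup.mk' Y) x := by group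
          _ = (QuotientGroup.mk' Y) y * (QuotientGroup.mk' Y) x := by rw [h2, one_mul]
      exact h3.symm
    -- W = image of center X in center (X ⧸ Y)
    have hprime : Fact (Nat.card (Subgroup.center (X ⧸ Y))).Prime := ⟨by rw [hcard]; exact Fact.out⟩
    let W : Subgroup (Subgroup.center (X ⧸ Y)) :=
      ((Subgroup.center X).map (QuotientGroup.mk' Y)).subgroupOf (Subgroup.center (X ⧸ Y))
    have hWne : W ≠ ⊥ := by
      -- there is z ∈ center X, z ∉ Y
      have hMne : M ≠ ⊤ := hM.1
      obtain ⟨z, hz⟩ : ∃ z : Subgroup.center X, z ∉ M := by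
        by_contra hcon
        push Not at hcon
        exact hMne (eq_top_iff.mpr fun z _ => hcon z)
      have hzY : (z : X) ∉ Y := by
        rintro ⟨z', hz', hzz'⟩
        have : z' = z := Subtype.ext hzz'
        exact hz (this ▸ hz')
      have hzc : (QuotientGroup.mk' Y (z : X)) ∈ Subgroup.center (X ⧸ Y) := by
        rw [Subgroup.mem_center_iff]
        intro q
        obtain ⟨y, rfl⟩ := QuotientGroup.mk'_surjective Y q
        rw [← map_mul, ← map_mul, Subgroup.mem_center_iff.mp z.2 y]
      intro hbot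
      have hmem : (⟨_, hzc⟩ : Subgroup.center (X ⧸ Y)) ∈ W := by
        show (QuotientGroup.mk' Y (z : X)) ∈ (Subgroup.center X).map (QuotientGroup.mk' Y)
        exact ⟨z, z.2, rfl⟩
      rw [hbot, Subgroup.mem_bot] at hmem
      have h1 : (QuotientGroup.mk' Y (z : X)) = 1 := congrArg Subtype.val hmem
      rw [QuotientGroup.mk'_apply, QuotientGroup.eq_one_iff] at h1
      exact hzY h1
    have hWtop : W = ⊤ := (Subgroup.eq_bot_or_eq_top_of_prime_card W).resolve_left hWne
    have hxW : (⟨_, hxc⟩ : Subgroup.center (X ⧸ Y)) ∈ W := by rw [hWtop]; trivial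
    obtain ⟨z, hz, hzx⟩ : (QuotientGroup.mk' Y x) ∈ (Subgroup.center X).map (QuotientGroup.mk' Y) := hxW
    have h1 : z⁻¹ * x ∈ Y := by
      rw [QuotientGroup.mk'_apply, QuotientGroup.mk'_apply] at hzx
      exact QuotientGroup.eq.mp hzx
    have h2 : z * (z⁻¹ * x) ∈ Subgroup.center X := (Subgroup.center X).mul_mem hz (hYle h1)
    rw [mul_inv_cancel_left] at h2
    exact hx h2
  constructor
  · rw [← hker, Subgroup.index_ker, hrange]
  · ext z
    constructor
    · rintro ⟨y, rfl⟩; exact hc y
    · intro hz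
      have : z ∈ (commHom x hc).range := by rw [hrange]; exact hz
      obtain ⟨y, hy⟩ := this
      exact ⟨y, hy.symm⟩

end Cfsg.Agent.S2907
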