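import Cfsg.Statements.S2908
import Cfsg.Agent.Lib.Helper24.PxQ

set_option autoImplicit false
open Cfsg

namespace Cfsg.Agent.S2908

open Cfsg.Agent.Lib.Helper33 Cfsg.Agent.Lib.Helper24
open scoped commutatorElement

/-- An element normalizing `H` and `K` normalizes `⁅H, K⁆`. -/
theorem mem_normalizer_commutator {G : Type*} [Group G] {H K : Subgroup G} {g : G}
    (hH : g ∈ Subgroup.normalizer (H : Set G)) (hK : g ∈ Subgroup.normalizer (K : Set G)) :
    g ∈ Subgroup.normalizer ((⁅H, K⁆ : Subgroup G) : Set G) := by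
  rw [← cj_eq_self_iff, cj, Subgroup.map_commutator]
  have h1 : cj g H = H := cj_eq_self_iff.mpr hH
  have h2 : cj g K = K := cj_eq_self_iff.mpr hK
  rw [cj_def] at h1 h2
  rw [h1, h2]

/-- An element normalizing `H` and `K` normalizes `H ⊔ K`. -/
theorem mem_normalizer_sup {G : Type*} [Group G] {H K : Subgroup G} {g : G}
    (hH : g ∈ Subgroup.normalizer (H : Set G)) (hK : g ∈ Subgroup.normalizer (K : Set G)) :
    g ∈ Subgroup.normalizer ((H ⊔ K : Subgroup G) : Set G) := by
  rw [← cj_eq_self_iff, cj_sup, cj_eq_self_iff.mpr hH, cj_eq_self_iff.mpr hK]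

/-- An element normalizing `H` and `K` normalizes `H ⊓ K`. -/
theorem mem_normalizer_inf {G : Type*} [Group G] {H K : Subgroup G} {g : G}
    (hH : g ∈ Subgroup.normalizer (H : Set G)) (hK : g ∈ Subgroup.normalizer (K : Set G)) :
    g ∈ Subgroup.normalizer ((H ⊓ K : Subgroup G) : Set G) := by
  rw [← cj_eq_self_iff, cj_inf, cj_eq_self_iff.mpr hH, cj_eq_self_iff.mpr hK]

/-- Let P be a p-subgroup of a finite group, normalized by a p-subgroup A and by a subgroup B of order prime to p that commutes elementwise with A. If [P, B] ≤ [P, A], then B centralizes P. -/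
theorem result {G : Type*} [Group G] [Finite G] {p : ℕ} [Fact p.Prime] (P A B : Subgroup G) (hP : IsPGroup p ↥P) (hA : IsPGroup p ↥A) (hB : ¬ p ∣ Nat.card ↥B) (hnA : A ≤ Subgroup.normalizer (P : Set G)) (hnB : B ≤ Subgroup.normalizer (P : Set G)) (hAB : ⁅A, B⁆ = ⊥) (hcomm : ⁅P, B⁆ ≤ ⁅P, A⁆) : ⁅P, B⁆ = ⊥ := by
  classical
  have hp : p.Prime := Fact.out
  by_contra hQ1
  set Q : Subgroup G := ⁅P, B⁆ with hQdef
  have hQP : Q ≤ P := commutator_le_of_le_normalizer P B hnB
  have hQp : IsPGroup p Q := hP.to_le hQP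
  -- coprimality and solvability
  obtain ⟨n, hn⟩ := IsPGroup.iff_card.mp hP
  have hcop : (Nat.card B).Coprime (Nat.card P) := by
    rw [hn]
    exact Nat.Coprime.pow_right n ((Nat.Prime.coprime_iff_not_dvd hp).mpr hB).symm
  have hnilP : Group.IsNilpotent P := hP.isNilpotent
  have hsolv : Group.IsSolvable B ∨ Group.IsSolvable P := Or.inr inferInstance
  have hQQ : ⁅Q, B⁆ = Q := commutator_commutator_eq B P hnB hcop hsolv
  set C : Subgroup G := P ⊓ Subgroup.centralizer (B : Set G) with hCdef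
  have hsup : Q ⊔ C = P := commutator_sup_centralizer_eq B P hnB hcop hsolv
  have hCP : C ≤ P := inf_le_left
  -- B centralizes A and C
  have hBA : B ≤ Subgroup.centralizer (A : Set G) := by
    rw [Subgroup.commutator_comm] at hAB
    exact Subgroup.commutator_eq_bot_iff_le_centralizer.mp hAB
  have hAB' : A ≤ Subgroup.centralizer (B : Set G) :=
    Subgroup.commutator_eq_bot_iff_le_centralizer.mp hAB
  have hBC : B ≤ Subgroup.centralizer (C : Set G) := by
    rw [Subgroup.le_centralizer_iff]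
    exact inf_le_right
  -- normalizers
  have hAnB : A ≤ Subgroup.normalizer (B : Set G) := by
    intro a ha
    rw [Subgroup.mem_normalizer_iff]
    intro b
    have hab : ∀ b ∈ B, a * b * a⁻¹ = b := by
      intro b hb
      have := hAB' ha
      rw [Subgroup.mem_centralizer_iff] at this
      rw [← this b hb]; group
    constructor
    · intro hb; rw [hab b hb]; exact hb
    · intro hb
      have h1 : a⁻¹ * (a * b * a⁻¹) * a⁻¹⁻¹ = b := by group
      have h2 : ∀ b ∈ B, a⁻¹ * b * a⁻¹⁻¹ = b := by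
        intro b hb
        have := hAB' (A.inv_mem ha)
        rw [Subgroup.mem_centralizer_iff] at this
        rw [← this b hb]; group
      rw [← h1, h2 _ hb]; exact hb
  have hAnQ : A ≤ Subgroup.normalizer (Q : Set G) := fun a ha =>
    mem_normalizer_commutator (hnA ha) (hAnB ha)
  have hAnCB : A ≤ Subgroup.normalizer ((Subgroup.centralizer (B : Set G) : Subgroup G) : Set G) := by
    intro a ha
    rw [← cj_eq_self_iff, ← centralizer_cj, cj_eq_self_iff.mpr (hAnB ha)]
  have hAnC : A ≤ Subgroup.normalizer (C : Set G) := fun a ha =>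
    mem_normalizer_inf (hnA ha) (hAnCB ha)
  have hPnQ : P ≤ Subgroup.normalizer (Q : Set G) := le_normalizer_commutator_left P B
  have hCnQ : C ≤ Subgroup.normalizer (Q : Set G) := hCP.trans hPnQ
  set D : Subgroup G := C ⊔ A with hDdef
  have hDnQ : D ≤ Subgroup.normalizer (Q : Set G) := sup_le hCnQ hAnQ
  have hDp : IsPGroup p D := by
    have h1 : IsPGroup p (A ⊔ P : Subgroup G) := hA.to_sup_of_normal_right' hP hnA
    exact h1.to_le (sup_le (hCP.trans le_sup_right) le_sup_left)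
  set M : Subgroup G := ⁅Q, D⁆ with hMdef
  have hMQ : M < Q := commutator_lt_of_pGroups D Q hDp hQp hDnQ hQ1
  have hDnM : D ≤ Subgroup.normalizer (M : Set G) := le_normalizer_commutator_right Q D hDnQ
  have hQnM : Q ≤ Subgroup.normalizer (M : Set G) := le_normalizer_commutator_left Q D
  have hBnQ : B ≤ Subgroup.normalizer (Q : Set G) := le_normalizer_commutator_right P B hnB
  have hBnD : B ≤ Subgroup.normalizer (D : Set G) := by
    intro b hb
    apply mem_normalizer_sup
    · exact Subgroup.centralizer_le_normalizer _ (hBC hb)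
    · exact Subgroup.centralizer_le_normalizer _ (hBA hb)
  have hBnM : B ≤ Subgroup.normalizer (M : Set G) := fun b hb =>
    mem_normalizer_commutator (hBnQ hb) (hBnD hb)
  -- [C, A] ≤ C
  have hCA : ⁅C, A⁆ ≤ C := commutator_le_of_le_normalizer C A hAnC
  have hCAD : ⁅C, A⁆ ≤ D := hCA.trans le_sup_left
  -- [P, A] ≤ M ⊔ [C, A]
  have h1 : ⁅P, A⁆ ≤ M ⊔ ⁅C, A⁆ := by
    rw [Subgroup.commutator_le]
    intro g hg a ha
    have hg' : g ∈ ((Q ⊔ C : Subgroup G) : Set G) := by rw [hsup]; exact hg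
    rw [Subgroup.coe_mul_of_right_le_normalizer_left Q C hCnQ] at hg'
    obtain ⟨q, hq, c, hc, rfl⟩ := hg'
    set t : G := ⁅c, a⁆ with ht
    have htCA : t ∈ ⁅C, A⁆ := Subgroup.commutator_mem_commutator hc ha
    have htD : t ∈ D := hCAD htCA
    have e : ⁅q * c, a⁆ = ⁅q, t⁆ * (t * ⁅q, a⁆ * t⁻¹) * t := by
      simp only [ht, commutatorElement_def]; group
    rw [e]
    have m1 : ⁅q, t⁆ ∈ M := Subgroup.commutator_mem_commutator hq htD
    have m2 : ⁅q, a⁆ ∈ M := Subgroup.commutator_mem_commutator hq (show a ∈ D from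
      (le_sup_right : A ≤ D) ha)
    have m3 : t * ⁅q, a⁆ * t⁻¹ ∈ M := (Subgroup.mem_normalizer_iff.mp (hDnM htD) _).mp m2
    exact Subgroup.mul_mem _ (Subgroup.mem_sup_left (M.mul_mem m1 m3)) (Subgroup.mem_sup_right htCA)
  -- every element of Q is m * c with m ∈ M, c ∈ C
  have h2 : ∀ x ∈ Q, ∃ m ∈ M, ∃ c ∈ C, x = m * c := by
    intro x hx
    have hx' : x ∈ ((M ⊔ ⁅C, A⁆ : Subgroup G) : Set G) := h1 (hcomm hx)
    rw [Subgroup.coe_mul_of_right_le_normalizer_left M ⁅C, A⁆ (hCAD.trans hDnM)] at hx'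
    obtain ⟨m, hm, c, hc, rfl⟩ := hx'
    exact ⟨m, hm, c, hCA hc, rfl⟩
  -- [Q, B] ≤ M
  have h3 : ⁅Q, B⁆ ≤ M := by
    rw [Subgroup.commutator_le]
    intro x hx b hb
    obtain ⟨m, hm, c, hc, rfl⟩ := h2 x hx
    have hcb : c * b = b * c := by
      have := hBC hb
      rw [Subgroup.mem_centralizer_iff] at this
      exact this c hc
    have e : ⁅m * c, b⁆ = m * (b * m⁻¹ * b⁻¹) := by
      simp only [commutatorElement_def]
      calc m * c * b * (m * c)⁻¹ * b⁻¹ = m * (c * b) * c⁻¹ * m⁻¹ * b⁻¹ := by group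
        _ = m * (b * c) * c⁻¹ * m⁻¹ * b⁻¹ := by rw [hcb]
        _ = m * (b * m⁻¹ * b⁻¹) := by group
    rw [e]
    exact M.mul_mem hm ((Subgroup.mem_normalizer_iff.mp (hBnM hb) _).mp (M.inv_mem hm))
  rw [hQQ] at h3
  exact absurd h3 (not_le_of_gt hMQ)

end Cfsg.Agent.S2908
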