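import Cfsg.Statements.S2909
import Cfsg.Agent.S2908
import Cfsg.Agent.S0058

set_option autoImplicit false
open Cfsg

namespace Cfsg.Agent.S2909

open Cfsg.Agent.Lib.Helper33 Cfsg.Agent.Lib.Helper24
open scoped commutatorElement

/-- The kernel of the action on `E / W`, as a subgroup. -/
def ker2 {G : Type*} [Group G] (E W : Subgroup G) : Subgroup G where
  carrier := {g | g ∈ Subgroup.normalizer (E : Set G) ∧ g ∈ Subgroup.normalizer (W : Set G) ∧
    ∀ e ∈ E, ⁅e, g⁆ ∈ W}
  one_mem' := by
    refine ⟨Subgroup.one_mem _, Subgroup.one_mem _, fun e _ => ?_⟩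
    rw [commutatorElement_def]
    simp
  mul_mem' := by
    rintro g h ⟨hg1, hg2, hg3⟩ ⟨hh1, hh2, hh3⟩
    refine ⟨Subgroup.mul_mem _ hg1 hh1, Subgroup.mul_mem _ hg2 hh2, fun e he => ?_⟩
    have e1 : ⁅e, g * h⁆ = ⁅e, g⁆ * (g * ⁅e, h⁆ * g⁻¹) := by
      simp only [commutatorElement_def]; group
    rw [e1]
    exact W.mul_mem (hg3 e he) ((Subgroup.mem_normalizer_iff.mp hg2 _).mp (hh3 e he))
  inv_mem' := by
    rintro g ⟨hg1, hg2, hg3⟩
    refine ⟨Subgroup.inv_mem _ hg1, Subgroup.inv_mem _ hg2, fun e he => ?_⟩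
    have e1 : ⁅e, g⁻¹⁆ = g⁻¹ * ⁅e, g⁆⁻¹ * g⁻¹⁻¹ := by
      simp only [commutatorElement_def]; group
    rw [e1]
    exact (Subgroup.mem_normalizer_iff.mp (Subgroup.inv_mem _ hg2) _).mp (W.inv_mem (hg3 e he))

theorem conj_mem_ker2 {G : Type*} [Group G] {E W : Subgroup G} {x g : G}
    (hx1 : x ∈ Subgroup.normalizer (E : Set G)) (hx2 : x ∈ Subgroup.normalizer (W : Set G))
    (hg : g ∈ ker2 E W) : x * g * x⁻¹ ∈ ker2 E W := by
  obtain ⟨hg1, hg2, hg3⟩ := hg
  refine ⟨?_, ?_, fun e he => ?_⟩
  · exact Subgroup.mul_mem _ (Subgroup.mul_mem _ hx1 hg1) (Subgroup.inv_mem _ hx1)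
  · exact Subgroup.mul_mem _ (Subgroup.mul_mem _ hx2 hg2) (Subgroup.inv_mem _ hx2)
  · have he' : x⁻¹ * e * x⁻¹⁻¹ ∈ E :=
      (Subgroup.mem_normalizer_iff.mp (Subgroup.inv_mem _ hx1) _).mp he
    have e1 : ⁅e, x * g * x⁻¹⁆ = x * ⁅x⁻¹ * e * x⁻¹⁻¹, g⁆ * x⁻¹ := by
      simp only [commutatorElement_def]; group
    rw [e1]
    exact (Subgroup.mem_normalizer_iff.mp hx2 _).mp (hg3 _ he')

/-- If `Y` acts trivially on `E / W` and `X` normalizes `E` and `W`, then `⁅X, Y⁆` acts
trivially on `E / W`. -/
theorem kernel_lemma {G : Type*} [Group G] (E W X Y : Subgroup G)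
    (hXE : X ≤ Subgroup.normalizer (E : Set G)) (hXW : X ≤ Subgroup.normalizer (W : Set G))
    (hYE : Y ≤ Subgroup.normalizer (E : Set G)) (hYW : Y ≤ Subgroup.normalizer (W : Set G))
    (h : ⁅E, Y⁆ ≤ W) : ⁅E, ⁅X, Y⁆⁆ ≤ W := by
  have hY : Y ≤ ker2 E W := fun y hy =>
    ⟨hYE hy, hYW hy, fun e he => h (Subgroup.commutator_mem_commutator he hy)⟩
  have hXY : ⁅X, Y⁆ ≤ ker2 E W := by
    rw [Subgroup.commutator_le]
    intro x hx y hy
    have e1 : ⁅x, y⁆ = (x * y * x⁻¹) * y⁻¹ := by
      simp only [commutatorElement_def]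
    rw [e1]
    exact Subgroup.mul_mem _ (conj_mem_ker2 (hXE hx) (hXW hx) (hY hy))
      (Subgroup.inv_mem _ (hY hy))
  rw [Subgroup.commutator_le]
  intro e he k hk
  exact (hXY hk).2.2 e he

/-- Let p be a prime, E a normal p-subgroup of the finite group G, and U a non-cyclic elementary abelian p-subgroup of G such that either C_E(U) = C_E(u) for every nontrivial u ∈ U, or [E, U] = [E, ⟨u⟩] for every nontrivial u ∈ U. If R is a subgroup of order prime to p normalized by U, then [R, U] centralizes E. -/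
theorem result {G : Type*} [Group G] [Finite G] {p : ℕ} [Fact p.Prime] (E : Subgroup G) [E.Normal] (hE : IsPGroup p ↥E) (U : Subgroup G) (hU : Cfsg.IsElementaryAbelian p U) (hnc : ¬ IsCyclic ↥U) (hcond : (∀ u ∈ U, u ≠ 1 → E ⊓ Subgroup.centralizer (U : Set G) = E ⊓ Subgroup.centralizer ({u} : Set G)) ∨ (∀ u ∈ U, u ≠ 1 → ⁅E, U⁆ = ⁅E, Subgroup.zpowers u⁆)) (R : Subgroup G) (hR : ¬ p ∣ Nat.card ↥R) (hRU : U ≤ Subgroup.normalizer (R : Set G)) : ⁅R, U⁆ ≤ Subgroup.centralizer (E : Set G) := by
  classical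
  have hp : p.Prime := Fact.out
  obtain ⟨hUc, hUexp⟩ := hU
  have hcommU : ∀ x ∈ U, ∀ y ∈ U, x * y = y * x := by
    intro x hx y hy
    exact congrArg Subtype.val (hUc.is_comm.comm ⟨x, hx⟩ ⟨y, hy⟩)
  have hUp : IsPGroup p U := fun g => ⟨1, by
    rw [pow_one]; exact Subtype.ext (by simpa using hUexp g g.2)⟩
  obtain ⟨n, hn⟩ := IsPGroup.iff_card.mp hUp
  have hcop : (Nat.card U).Coprime (Nat.card R) := by
    rw [hn]
    exact Nat.Coprime.pow_left n ((Nat.Prime.coprime_iff_not_dvd hp).mpr hR)
  -- generation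
  have hgen := Cfsg.Agent.S0058.result U R hnc hRU hcop
  set N : Subgroup G := Subgroup.centralizer (E : Set G) with hNdef
  have hNn : N.Normal := inferInstance
  -- the local statement
  have hloc : ∀ u ∈ U, u ≠ 1 → ⁅R ⊓ Subgroup.centralizer {u}, U⁆ ≤ N := by
    intro u hu hu1
    set Ru : Subgroup G := R ⊓ Subgroup.centralizer {u} with hRu
    have hUnCu : U ≤ Subgroup.normalizer ((Subgroup.centralizer {u} : Subgroup G) : Set G) := by
      intro v hv
      apply Subgroup.le_normalizer
      rw [Subgroup.mem_centralizer_singleton_iff]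
      exact hcommU v hv u hu
    have hURu : U ≤ Subgroup.normalizer (Ru : Set G) := fun v hv =>
      Cfsg.Agent.S2908.mem_normalizer_inf (hRU hv) (hUnCu hv)
    set Y : Subgroup G := ⁅Ru, U⁆ with hY
    have hYRu : Y ≤ Ru := commutator_le_of_le_normalizer Ru U hURu
    have hYR : Y ≤ R := hYRu.trans inf_le_left
    have hYu : Y ≤ Subgroup.centralizer {u} := hYRu.trans inf_le_right
    have hYp : ¬ p ∣ Nat.card Y := fun h => hR (h.trans (Subgroup.card_dvd_of_le hYR))
    have hnE : ∀ X : Subgroup G, X ≤ Subgroup.normalizer (E : Set G) := by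
      intro X
      rw [Subgroup.normalizer_eq_top]
      exact le_top
    have hzu : Subgroup.zpowers u ≤ Subgroup.centralizer (Y : Set G) := by
      rw [Subgroup.zpowers_le, Subgroup.mem_centralizer_iff]
      intro y hy
      have := hYu hy
      rw [Subgroup.mem_centralizer_singleton_iff] at this
      exact this
    have hzp : IsPGroup p (Subgroup.zpowers u) := hUp.to_le (by
      rw [Subgroup.zpowers_le]; exact hu)
    have hRuCu : Ru ≤ Subgroup.normalizer ((Subgroup.centralizer {u} : Subgroup G) : Set G) :=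
      inf_le_right.trans Subgroup.le_normalizer
    rcases hcond with h1 | h2
    · -- case (i): Thompson
      set V : Subgroup G := E ⊓ Subgroup.centralizer (U : Set G) with hV
      have hVu : V = E ⊓ Subgroup.centralizer {u} := h1 u hu hu1
      have hRuV : Ru ≤ Subgroup.normalizer (V : Set G) := by
        intro r hr
        rw [hVu]
        exact Cfsg.Agent.S2908.mem_normalizer_inf (hnE Ru hr) (hRuCu hr)
      have hUV : U ≤ Subgroup.normalizer (V : Set G) := by
        refine le_trans ?_ (Subgroup.centralizer_le_normalizer _)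
        rw [Subgroup.le_centralizer_iff]
        exact inf_le_right
      have hVU : ⁅V, U⁆ ≤ ⊥ := by
        rw [le_bot_iff, Subgroup.commutator_eq_bot_iff_le_centralizer]
        exact inf_le_right
      have hbot : ∀ X : Subgroup G, X ≤ Subgroup.normalizer ((⊥ : Subgroup G) : Set G) := by
        intro X x _
        rw [Subgroup.mem_normalizer_iff]
        intro y
        simp [Subgroup.mem_bot]
      have h3 := kernel_lemma V ⊥ Ru U hRuV (hbot _) hUV (hbot _) hVU
      rw [le_bot_iff, Subgroup.commutator_eq_bot_iff_le_centralizer] at h3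
      have hC : E ⊓ Subgroup.centralizer ((Subgroup.zpowers u : Subgroup G) : Set G)
          ≤ Subgroup.centralizer (Y : Set G) := by
        refine le_trans ?_ h3
        rw [hVu]
        apply inf_le_inf_left
        apply Subgroup.centralizer_le
        intro x hx
        rw [Set.mem_singleton_iff] at hx
        rw [hx]
        exact Subgroup.mem_zpowers u
      have := thompson_PxQ (Subgroup.zpowers u) Y E hzp
        ((Nat.Prime.coprime_iff_not_dvd hp).mpr hYp).symm hE hzu (hnE _) (hnE _) hC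
      exact this
    · -- case (ii): previous statement
      set W : Subgroup G := ⁅E, U⁆ with hW
      have hWu : W = ⁅E, Subgroup.zpowers u⁆ := h2 u hu hu1
      have hRuz : Ru ≤ Subgroup.normalizer ((Subgroup.zpowers u : Subgroup G) : Set G) := by
        refine le_trans ?_ (Subgroup.centralizer_le_normalizer _)
        intro r hr
        have := (inf_le_right : Ru ≤ _) hr
        rw [Subgroup.mem_centralizer_singleton_iff] at this
        rw [Subgroup.mem_centralizer_iff]
        intro z hz
        obtain ⟨k, rfl⟩ := Subgroup.mem_zpowers_iff.mp hz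
        exact ((Commute.zpow_right (show Commute r u from this) k).eq).symm
      have hRuW : Ru ≤ Subgroup.normalizer (W : Set G) := by
        intro r hr
        rw [hWu]
        exact Cfsg.Agent.S2908.mem_normalizer_commutator (hnE Ru hr) (hRuz hr)
      have hUW : U ≤ Subgroup.normalizer (W : Set G) :=
        le_normalizer_commutator_right E U (hnE U)
      have h3 := kernel_lemma E W Ru U (hnE _) hRuW (hnE _) hUW le_rfl
      have hAB : ⁅Subgroup.zpowers u, Y⁆ = ⊥ := by
        rw [Subgroup.commutator_eq_bot_iff_le_centralizer]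
        exact hzu
      have h4 := Cfsg.Agent.S2908.result E (Subgroup.zpowers u) Y hE hzp hYp (hnE _) (hnE _) hAB
        (by rw [← hWu]; exact h3)
      rw [Subgroup.commutator_eq_bot_iff_le_centralizer, Subgroup.le_centralizer_iff] at h4
      exact h4
  -- globalize using the quotient by N
  rw [Subgroup.commutator_le]
  intro r hr v hv
  set π := QuotientGroup.mk' N with hπ
  set K₂ : Subgroup G := (Subgroup.centralizer {π v}).comap π with hK₂
  have hmem : ∀ x : G, x ∈ K₂ ↔ ⁅x, v⁆ ∈ N := by
    intro x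
    rw [hK₂, Subgroup.mem_comap, Subgroup.mem_centralizer_singleton_iff]
    rw [← QuotientGroup.eq_one_iff, ← QuotientGroup.mk'_apply, ← hπ, commutatorElement_def]
    simp only [map_mul, map_inv]
    constructor
    · intro h
      rw [h]; group
    · intro h
      have : π x * π v = (π x * π v * (π x)⁻¹ * (π v)⁻¹) * (π v * π x) := by group
      rw [this, h, one_mul]
  have hRK : R ≤ K₂ := by
    rw [← hgen]
    apply iSup₂_le
    intro u hu x hx
    rw [hmem]
    exact hloc u hu.1 hu.2 (Subgroup.commutator_mem_commutator hx hv)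
  exact (hmem r).mp (hRK hr)

end Cfsg.Agent.S2909
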