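import Mathlib
import Cfsg.Statements.S2910
import Cfsg.Agent.Lib.Helper68.PNilp
import Cfsg.Agent.Lib.Helper68.Omega

set_option autoImplicit false
open Cfsg

namespace Cfsg.Agent.S2910

open Cfsg.Agent.Lib.Helper68 Cfsg.Agent.Lib.Helper2
open Subgroup

/-- Let p be an odd prime dividing the order of the finite group G and P a Sylow p-subgroup of G. If Ω₁(P) (generated by the elements of order dividing p) is contained in the centre of G, then G has a normal p-complement. In particular, if G is quasisimple then Ω₁(P) is not central in G. -/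
theorem result {G : Type*} [Group G] [Finite G] {p : ℕ} [Fact p.Prime] (hp : p ≠ 2) (hdiv : p ∣ Nat.card G) (P : Sylow p G) (hZ : Cfsg.omegaOne p (P : Subgroup G) ≤ Subgroup.center G) : Cfsg.HasNormalPComplement p G ∧ ¬ Cfsg.IsQuasisimple G := by
  have hpp : p.Prime := Fact.out
  have hcompl : Cfsg.HasNormalPComplement p G := by
    apply hasNormalPComplement_of_frobCond
    intro Q hQ y hyN hyo
    apply omega_theorem Q hQ y hyo hyN
    intro x hxQ hxo
    have hxp : orderOf x = p := by
      rcases hxo with h | ⟨h, _⟩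
      · exact h
      · exact absurd h hp
    obtain ⟨c, hc⟩ := Cfsg.Agent.S4093.exists_conj_mem_sylow p P x ⟨1, by rw [pow_one]; exact hxp⟩
    have hc1 : (c⁻¹ * x * c) ^ p = 1 := by
      have := conj_pow (i := p) (a := c⁻¹) (b := x)
      rw [inv_inv] at this
      rw [this, ← hxp, pow_orderOf_eq_one]
      group
    have hc2 : c⁻¹ * x * c ∈ Cfsg.omegaOne p (P : Subgroup G) :=
      Subgroup.subset_closure ⟨hc, hc1⟩
    have hc3 := hZ hc2
    rw [Subgroup.mem_center_iff] at hc3
    have hxc : x ∈ Subgroup.center G := by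
      rw [Subgroup.mem_center_iff]
      intro g
      have h1 := hc3 (c⁻¹ * g * c)
      calc g * x = c * (c⁻¹ * g * c * (c⁻¹ * x * c)) * c⁻¹ := by group
        _ = c * (c⁻¹ * x * c * (c⁻¹ * g * c)) * c⁻¹ := by rw [h1]
        _ = x * g := by group
    rw [Subgroup.mem_center_iff] at hxc
    exact hxc y
  refine ⟨hcompl, ?_⟩
  rintro ⟨hperf, _⟩
  obtain ⟨P', N, hN, hc⟩ := hcompl
  haveI := hN
  have hidx : N.index = Nat.card (P' : Subgroup G) := hc.symm.index_eq_card
  have hcardP' : Nat.card (P' : Subgroup G) = p ^ (Nat.card G).factorization p := P'.card_eq_multiplicity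
  have hpos : 0 < (Nat.card G).factorization p :=
    Nat.Prime.factorization_pos_of_dvd hpp Nat.card_pos.ne' hdiv
  have hQp : IsPGroup p (G ⧸ N) := by
    apply IsPGroup.of_card (n := (Nat.card G).factorization p)
    rw [← hcardP', ← hidx]; rfl
  haveI : Group.IsNilpotent (G ⧸ N) := hQp.isNilpotent
  haveI : Nontrivial (G ⧸ N) := by
    rw [← Finite.one_lt_card_iff_nontrivial]
    have : Nat.card (G ⧸ N) = p ^ (Nat.card G).factorization p := by
      rw [← hcardP', ← hidx]; rfl
    rw [this]
    exact Nat.one_lt_pow hpos.ne' hpp.one_lt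
  haveI : Group.IsPerfect (G ⧸ N) := inferInstance
  exact Group.IsPerfect.not_isNilpotent (G ⧸ N) inferInstance

end Cfsg.Agent.S2910
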