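import Cfsg.Statements.S2911
import Cfsg.Agent.Lib.Helper55.Transfer2

set_option autoImplicit false
set_option linter.style.haveILetI false
open Cfsg

namespace Cfsg.Agent.S2911

open Cfsg.Agent.Lib.Helper55

abbrev S₀ := Multiplicative (ZMod 2) × DihedralGroup 4
abbrev Z2 := Multiplicative (ZMod 2)

def a₀ : S₀ := (1, DihedralGroup.r 1)
def c₀ : S₀ := (Multiplicative.ofAdd 1, 1)
def z₀ : S₀ := (1, DihedralGroup.r 2)

def alphaFun : DihedralGroup 4 → Z2
  | DihedralGroup.r i => Multiplicative.ofAdd (i.val : ZMod 2)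
  | DihedralGroup.sr i => Multiplicative.ofAdd (i.val : ZMod 2)

def betaFun : DihedralGroup 4 → Z2
  | DihedralGroup.r _ => 1
  | DihedralGroup.sr _ => Multiplicative.ofAdd 1

set_option maxRecDepth 100000 in
theorem alphaFun_mul : ∀ x y : DihedralGroup 4, alphaFun (x * y) = alphaFun x * alphaFun y := by
  decide

set_option maxRecDepth 100000 in
theorem betaFun_mul : ∀ x y : DihedralGroup 4, betaFun (x * y) = betaFun x * betaFun y := by
  decide

def alpha₀ : S₀ →* Z2 := (MonoidHom.mk' alphaFun alphaFun_mul).comp (MonoidHom.snd _ _)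
def beta₀ : S₀ →* Z2 := (MonoidHom.mk' betaFun betaFun_mul).comp (MonoidHom.snd _ _)
def gamma₀ : S₀ →* Z2 := MonoidHom.fst _ _

set_option maxRecDepth 100000 in
theorem D1 : ∀ s : S₀, s * s = 1 ∨ s * s = z₀ := by decide

set_option maxRecDepth 100000 in
theorem hz_central : ∀ s : S₀, s * z₀ = z₀ * s := by decide

set_option maxRecDepth 100000 in
theorem hc_central : ∀ s : S₀, s * c₀ = c₀ * s := by decide

theorem hc_ne : (1 : S₀) ≠ c₀ ∧ z₀ ≠ c₀ := by decide

theorem ha_sq : a₀ * a₀ = z₀ := by decide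

theorem hz_ne : z₀ ≠ 1 := by decide

theorem hz_sq : z₀ * z₀ = 1 := by decide

theorem hc_sq : c₀ * c₀ = 1 := by decide

theorem hc_ne_one : c₀ ≠ 1 := by decide

/-- Classification of involutions of `S₀`. -/
theorem D3 : ∀ s : S₀, s * s = 1 → s ≠ 1 →
    s = z₀ ∨ ((s = c₀ ∨ s = c₀ * z₀) ∧ gamma₀ s ≠ 1 ∧ alpha₀ s = 1 ∧ beta₀ s = 1) ∨ beta₀ s ≠ 1 := by
  decide

/-- Elements of order four. -/
theorem D4 : ∀ s : S₀, s * s ≠ 1 → alpha₀ s ≠ 1 ∧ beta₀ s = 1 := by decide

set_option maxRecDepth 100000 in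
theorem D5 : ∀ s t : S₀, beta₀ s ≠ 1 → beta₀ t ≠ 1 → alpha₀ s = alpha₀ t → gamma₀ s = gamma₀ t →
    ∃ u : S₀, u⁻¹ * s * u = t := by decide

theorem Z2_cases : ∀ x : Z2, x = 1 ∨ x ≠ 1 := by decide

theorem Z2_eq : ∀ x y : Z2, x ≠ 1 → y ≠ 1 → x = y := by decide

theorem Z2_mul_self : ∀ x : Z2, x * x = 1 := by decide

section main

variable {G : Type*} [Group G] (S : Sylow 2 G) (e : ↥(S : Subgroup G) ≃* S₀)

/-- The embedding of the model group into `G`. -/
def iota : S₀ →* G := (S : Subgroup G).subtype.comp e.symm.toMonoidHom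

theorem iota_inj : Function.Injective (iota S e) := by
  intro x y h
  have : (e.symm x : G) = e.symm y := h
  exact e.symm.injective (Subtype.ext this)

theorem iota_mem (s₀ : S₀) : iota S e s₀ ∈ (S : Subgroup G) := (e.symm s₀).2

theorem iota_e (x : G) (hx : x ∈ (S : Subgroup G)) : iota S e (e ⟨x, hx⟩) = x := by
  show ((e.symm (e ⟨x, hx⟩) : (S : Subgroup G)) : G) = x
  rw [MulEquiv.symm_apply_apply]

theorem iota_surj (x : G) (hx : x ∈ (S : Subgroup G)) : ∃ s₀, iota S e s₀ = x :=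
  ⟨_, iota_e S e x hx⟩

variable [Finite G] (hG : ∀ (τ : G →* Multiplicative (ZMod 2)) (x : G), τ x = 1)

include hG in
/-- Thompson transfer for an involution: some conjugate lies in the kernel of `φ₀`. -/
theorem exists_conj_ker (φ₀ : S₀ →* Z2) (u₀ : S₀) (hu : u₀ * u₀ = 1) :
    ∃ (g : G) (s₀ : S₀), g⁻¹ * iota S e u₀ * g = iota S e s₀ ∧ φ₀ s₀ = 1 := by
  by_contra hcon
  push Not at hcon
  have hx2 : (iota S e u₀) ^ 2 ^ 1 = 1 := by
    rw [pow_one, pow_two, ← map_mul, hu, map_one]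
  have hne := transfer_ne_one S (φ₀.comp e.toMonoidHom) (iota S e u₀) 1 hx2
    (by
      intro g h
      have := hcon g (e ⟨_, h⟩) (by rw [iota_e])
      exact this)
    (by
      intro g r hr h
      obtain ⟨k, rfl⟩ := hr
      have hxr : (iota S e u₀) ^ (2 * k) = 1 := by
        rw [pow_mul, pow_two, ← map_mul, hu, map_one, one_pow]
      have : (⟨g⁻¹ * iota S e u₀ ^ (2 * k) * g, h⟩ : (S : Subgroup G)) = 1 :=
        Subtype.ext (by simp [hxr])
      rw [this, map_one])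
  exact hne (hG _ _)

end main

theorem Z2_mul_eq_one : ∀ x y : Z2, x * y = 1 → x = y := by decide

theorem ha_pow4 : a₀ ^ 4 = 1 := by decide

theorem hphi_z : alpha₀ z₀ = 1 ∧ beta₀ z₀ = 1 := by decide

/-- The contradiction from the absence of homomorphisms onto a group of order two. -/
theorem no_hom_false {G : Type*} [Group G] [Finite G] (S : Sylow 2 G) (hS : Nonempty (↥(S : Subgroup G) ≃* Multiplicative (ZMod 2) × DihedralGroup 4))
    (hG : ∀ (τ : G →* Multiplicative (ZMod 2)) (x : G), τ x = 1) : False := by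
  obtain ⟨e⟩ := hS
  haveI : Fact (Nat.Prime 2) := ⟨Nat.prime_two⟩
  -- Step 1: z is not conjugate to c
  have step1 : ∀ g : G, g⁻¹ * iota S e z₀ * g ≠ iota S e c₀ := by
    intro g hg
    have hzc : iota S e z₀ ∈ Subgroup.centralizer ((S : Subgroup G) : Set G) := by
      rw [Subgroup.mem_centralizer_iff]
      intro s hs
      obtain ⟨s₀, rfl⟩ := iota_surj S e s hs
      rw [← map_mul, ← map_mul, hz_central]
    have hcc : g⁻¹ * iota S e z₀ * g ∈ Subgroup.centralizer ((S : Subgroup G) : Set G) := by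
      rw [hg, Subgroup.mem_centralizer_iff]
      intro s hs
      obtain ⟨s₀, rfl⟩ := iota_surj S e s hs
      rw [← map_mul, ← map_mul, hc_central]
    obtain ⟨n, hn, hconj⟩ :=
      Sylow.conj_eq_normalizer_conj_of_mem_centralizer S (iota S e z₀) g hzc hcc
    have hmem : n⁻¹ * iota S e a₀ * n ∈ (S : Subgroup G) :=
      (Subgroup.mem_normalizer_iff''.mp hn _).mp (iota_mem S e a₀)
    obtain ⟨s₀, hs₀⟩ := iota_surj S e _ hmem
    have h1 : iota S e (s₀ * s₀) = iota S e c₀ := by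
      rw [map_mul, hs₀, ← hg, hconj, ← ha_sq, map_mul]; group
    have h2 := iota_inj S e h1
    rcases D1 s₀ with h | h
    · rw [h] at h2; exact hc_ne.1 h2
    · rw [h] at h2; exact hc_ne.2 h2
  -- conjugates of z inside S
  have zconj_invol : ∀ (g : G) (s₀ : S₀), g⁻¹ * iota S e z₀ * g = iota S e s₀ →
      s₀ * s₀ = 1 ∧ s₀ ≠ 1 := by
    intro g s₀ h
    constructor
    · apply iota_inj S e
      rw [map_mul, ← h, map_one]
      have : iota S e z₀ * iota S e z₀ = 1 := by rw [← map_mul, hz_sq, map_one]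
      calc g⁻¹ * iota S e z₀ * g * (g⁻¹ * iota S e z₀ * g)
          = g⁻¹ * (iota S e z₀ * iota S e z₀) * g := by group
        _ = 1 := by rw [this]; group
    · rintro rfl
      rw [map_one] at h
      have : iota S e z₀ = 1 := by
        calc iota S e z₀ = g * (g⁻¹ * iota S e z₀ * g) * g⁻¹ := by group
          _ = 1 := by rw [h]; group
      exact hz_ne (iota_inj S e (this.trans (map_one _).symm))
  -- Step 2: conjugates of c
  have key : ∀ φ₀ : S₀ →* Z2,
      (∀ s, gamma₀ s ≠ 1 → alpha₀ s = 1 → beta₀ s = 1 → φ₀ s ≠ 1) →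
      ∃ s₀, (∃ g : G, g⁻¹ * iota S e c₀ * g = iota S e s₀) ∧ beta₀ s₀ ≠ 1 ∧ φ₀ s₀ = 1 := by
    intro φ₀ hφ
    obtain ⟨g, s₀, hgs, hφs⟩ := exists_conj_ker S e hG φ₀ c₀ hc_sq
    have hsq : s₀ * s₀ = 1 := by
      apply iota_inj S e
      rw [map_mul, ← hgs, map_one]
      have : iota S e c₀ * iota S e c₀ = 1 := by rw [← map_mul, hc_sq, map_one]
      calc g⁻¹ * iota S e c₀ * g * (g⁻¹ * iota S e c₀ * g)
          = g⁻¹ * (iota S e c₀ * iota S e c₀) * g := by group
        _ = 1 := by rw [this]; group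
    have hne : s₀ ≠ 1 := by
      rintro rfl
      rw [map_one] at hgs
      have : iota S e c₀ = 1 := by
        calc iota S e c₀ = g * (g⁻¹ * iota S e c₀ * g) * g⁻¹ := by group
          _ = 1 := by rw [hgs]; group
      exact hc_ne_one (iota_inj S e (this.trans (map_one _).symm))
    rcases D3 s₀ hsq hne with h | ⟨_, h1, h2, h3⟩ | h
    · exfalso
      subst h
      apply step1 g⁻¹
      rw [← hgs]; group
    · exact absurd hφs (hφ s₀ h1 h2 h3)
    · exact ⟨s₀, ⟨g, hgs⟩, h, hφs⟩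
  -- Step 3: final transfer
  have final : ∀ (t₁ t₂ : S₀) (φ₀ : S₀ →* Z2),
      (∃ g : G, g⁻¹ * iota S e c₀ * g = iota S e t₁) →
      (∃ g : G, g⁻¹ * iota S e c₀ * g = iota S e t₂) →
      beta₀ t₁ ≠ 1 → beta₀ t₂ ≠ 1 → gamma₀ t₁ = 1 → gamma₀ t₂ ≠ 1 → alpha₀ t₁ = alpha₀ t₂ →
      (∀ s, alpha₀ s ≠ 1 → beta₀ s = 1 → φ₀ s ≠ 1) →
      (∀ s, alpha₀ s = 1 → beta₀ s = 1 → φ₀ s = 1) →
      (∀ s, beta₀ s ≠ 1 → alpha₀ s ≠ alpha₀ t₁ → φ₀ s = 1) → False := by
    intro t₁ t₂ φ₀ hC1 hC2 hb1 hb2 hg1 hg2 ha12 hφ1 hφ2 hφ3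
    have hx4 : (iota S e a₀) ^ 2 ^ 2 = 1 := by
      have : (2 : ℕ) ^ 2 = 4 := by norm_num
      rw [this, ← map_pow, ha_pow4, map_one]
    have hzz : iota S e z₀ * iota S e z₀ = 1 := by rw [← map_mul, hz_sq, map_one]
    have hne := transfer_ne_one S (φ₀.comp e.toMonoidHom) (iota S e a₀) 2 hx4
      (by
        intro g h
        have hι : iota S e (e ⟨_, h⟩) = g⁻¹ * iota S e a₀ * g := iota_e S e _ h
        have hsq : e ⟨_, h⟩ * e ⟨_, h⟩ ≠ 1 := by
          intro h1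
          have h2 : iota S e (e ⟨_, h⟩ * e ⟨_, h⟩) = 1 := by rw [h1, map_one]
          rw [map_mul, hι] at h2
          have h3 : iota S e z₀ = 1 := by
            rw [← ha_sq, map_mul]
            calc iota S e a₀ * iota S e a₀
                = g * (g⁻¹ * iota S e a₀ * g * (g⁻¹ * iota S e a₀ * g)) * g⁻¹ := by group
              _ = 1 := by rw [h2]; group
          exact hz_ne (iota_inj S e (h3.trans (map_one _).symm))
        obtain ⟨h4, h5⟩ := D4 _ hsq
        exact hφ1 _ h4 h5)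
      (by
        intro g r hr h
        obtain ⟨k, rfl⟩ := hr
        have hpow : (iota S e a₀) ^ (2 * k) = (iota S e z₀) ^ k := by
          rw [pow_mul, pow_two, ← map_mul, ha_sq]
        rcases Nat.even_or_odd' k with ⟨m, hm | hm⟩
        · have hxr : (iota S e a₀) ^ (2 * k) = 1 := by
            rw [hpow, hm, pow_mul, pow_two, hzz, one_pow]
          have : (⟨g⁻¹ * iota S e a₀ ^ (2 * k) * g, h⟩ : (S : Subgroup G)) = 1 :=
            Subtype.ext (by simp [hxr])
          rw [this, map_one]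
        · have hxr : (iota S e a₀) ^ (2 * k) = iota S e z₀ := by
            rw [hpow, hm, pow_succ, pow_mul, pow_two, hzz, one_pow, one_mul]
          have hι : iota S e (e ⟨_, h⟩) = g⁻¹ * iota S e z₀ * g := by
            rw [iota_e S e _ h, hxr]
          obtain ⟨hsq, hne1⟩ := zconj_invol g _ hι.symm
          show φ₀ (e ⟨_, h⟩) = 1
          rcases D3 _ hsq hne1 with h1 | ⟨_, _, h2, h3⟩ | h1
          · rw [h1]; exact hφ2 _ hphi_z.1 hphi_z.2
          · exact hφ2 _ h2 h3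
          · by_cases hα : alpha₀ (e ⟨_, h⟩) = alpha₀ t₁
            · exfalso
              -- the element is S₀-conjugate to t₁ or t₂, which are conjugate to c
              have hex : ∃ t : S₀, (∃ g' : G, g'⁻¹ * iota S e c₀ * g' = iota S e t) ∧
                  ∃ u : S₀, u⁻¹ * t * u = e ⟨_, h⟩ := by
                rcases Z2_cases (gamma₀ (e ⟨_, h⟩)) with hγ | hγ
                · exact ⟨t₁, hC1, D5 t₁ _ hb1 h1 hα.symm (hg1.trans hγ.symm)⟩
                · exact ⟨t₂, hC2, D5 t₂ _ hb2 h1 (ha12.symm.trans hα.symm) (Z2_eq _ _ hg2 hγ)⟩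
              obtain ⟨t, ⟨g', hg'⟩, u, hu⟩ := hex
              -- z conjugate to c
              apply step1 (g * (iota S e u)⁻¹ * g'⁻¹)
              have e1 : iota S e t = iota S e u * (g⁻¹ * iota S e z₀ * g) * (iota S e u)⁻¹ := by
                rw [← hι, ← hu]
                simp only [map_mul, map_inv]
                group
              have e2 : iota S e c₀ = g' * iota S e t * g'⁻¹ := by rw [← hg']; group
              rw [e2, e1]; group
            · exact hφ3 _ h1 hα)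
    exact hne (hG _ _)
  -- four transfer applications
  obtain ⟨s₁, hC1, hb1, hp1⟩ := key gamma₀ (fun s h _ _ => h)
  obtain ⟨s₂, hC2, hb2, hp2⟩ := key (gamma₀ * beta₀) (fun s h _ h3 => by
    rw [MonoidHom.mul_apply, h3, mul_one]; exact h)
  obtain ⟨s₃, hC3, hb3, hp3⟩ := key (gamma₀ * alpha₀) (fun s h h2 _ => by
    rw [MonoidHom.mul_apply, h2, mul_one]; exact h)
  obtain ⟨s₄, hC4, hb4, hp4⟩ := key (gamma₀ * alpha₀ * beta₀) (fun s h h2 h3 => by
    rw [MonoidHom.mul_apply, MonoidHom.mul_apply, h2, h3, mul_one, mul_one]; exact h)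
  have finalB : ∀ t₁ t₂ : S₀,
      (∃ g : G, g⁻¹ * iota S e c₀ * g = iota S e t₁) →
      (∃ g : G, g⁻¹ * iota S e c₀ * g = iota S e t₂) →
      beta₀ t₁ ≠ 1 → beta₀ t₂ ≠ 1 → gamma₀ t₁ = 1 → gamma₀ t₂ ≠ 1 →
      alpha₀ t₁ = 1 → alpha₀ t₂ = 1 → False := by
    intro t₁ t₂ hC1 hC2 hb1 hb2 hg1 hg2 ha1 ha2
    refine final t₁ t₂ (alpha₀ * beta₀) hC1 hC2 hb1 hb2 hg1 hg2 (ha1.trans ha2.symm) ?_ ?_ ?_
    · intro s h1 h2
      rw [MonoidHom.mul_apply, h2, mul_one]; exact h1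
    · intro s h1 h2
      rw [MonoidHom.mul_apply, h1, h2, mul_one]
    · intro s h1 h2
      rw [ha1] at h2
      rw [MonoidHom.mul_apply, Z2_eq _ _ h2 h1, Z2_mul_self]
  have finalA : ∀ t₁ t₂ : S₀,
      (∃ g : G, g⁻¹ * iota S e c₀ * g = iota S e t₁) →
      (∃ g : G, g⁻¹ * iota S e c₀ * g = iota S e t₂) →
      beta₀ t₁ ≠ 1 → beta₀ t₂ ≠ 1 → gamma₀ t₁ = 1 → gamma₀ t₂ ≠ 1 →
      alpha₀ t₁ ≠ 1 → alpha₀ t₂ ≠ 1 → False := by
    intro t₁ t₂ hC1 hC2 hb1 hb2 hg1 hg2 ha1 ha2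
    refine final t₁ t₂ alpha₀ hC1 hC2 hb1 hb2 hg1 hg2 (Z2_eq _ _ ha1 ha2) ?_ ?_ ?_
    · intro s h1 _; exact h1
    · intro s h1 _; exact h1
    · intro s _ h2
      rcases Z2_cases (alpha₀ s) with h | h
      · exact h
      · exact absurd (Z2_eq _ _ h ha1) h2
  have hg1 : gamma₀ s₁ = 1 := hp1
  have hg2 : gamma₀ s₂ ≠ 1 := by
    rw [MonoidHom.mul_apply] at hp2
    rw [Z2_mul_eq_one _ _ hp2]; exact hb2
  have hg3 : gamma₀ s₃ = alpha₀ s₃ := by
    rw [MonoidHom.mul_apply] at hp3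
    exact Z2_mul_eq_one _ _ hp3
  have hg4 : gamma₀ s₄ ≠ alpha₀ s₄ := by
    rw [MonoidHom.mul_apply, MonoidHom.mul_apply] at hp4
    intro h
    rw [h, Z2_mul_self, one_mul] at hp4
    exact hb4 hp4
  rcases Z2_cases (alpha₀ s₁) with ha1 | ha1 <;> rcases Z2_cases (alpha₀ s₂) with ha2 | ha2
  · exact finalB s₁ s₂ hC1 hC2 hb1 hb2 hg1 hg2 ha1 ha2
  · -- s₁ of type b, s₂ of type cab
    rcases Z2_cases (gamma₀ s₄) with h | h
    · have ha4 : alpha₀ s₄ ≠ 1 := fun h' => hg4 (h.trans h'.symm)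
      exact finalA s₄ s₂ hC4 hC2 hb4 hb2 h hg2 ha4 ha2
    · have ha4 : alpha₀ s₄ = 1 := by
        rcases Z2_cases (alpha₀ s₄) with h' | h'
        · exact h'
        · exact absurd (Z2_eq _ _ h h') hg4
      exact finalB s₁ s₄ hC1 hC4 hb1 hb4 hg1 h ha1 ha4
  · -- s₁ of type ab, s₂ of type cb
    rcases Z2_cases (gamma₀ s₃) with h | h
    · have ha3 : alpha₀ s₃ = 1 := hg3.symm.trans h
      exact finalB s₃ s₂ hC3 hC2 hb3 hb2 h hg2 ha3 ha2
    · have ha3 : alpha₀ s₃ ≠ 1 := fun h' => h (hg3.trans h')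
      exact finalA s₁ s₃ hC1 hC3 hb1 hb3 hg1 h ha1 ha3
  · exact finalA s₁ s₂ hC1 hC2 hb1 hb2 hg1 hg2 ha1 ha2



/-- A finite group whose Sylow 2-subgroups are isomorphic to the direct product of a group of order 2 and a dihedral group of order 8 has a subgroup of index two. -/
theorem result {G : Type*} [Group G] [Finite G] (S : Sylow 2 G) (hS : Nonempty (↥(S : Subgroup G) ≃* Multiplicative (ZMod 2) × DihedralGroup 4)) : ∃ H : Subgroup G, H.index = 2 := by
  classical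
  by_contra hcon
  push Not at hcon
  apply no_hom_false S hS
  intro τ x
  by_contra hx
  apply hcon τ.ker
  rw [Subgroup.index_ker]
  have hsurj : Function.Surjective τ := by
    intro y
    have h2 : ∀ a b : Multiplicative (ZMod 2), a ≠ 1 → b = 1 ∨ b = a := by decide
    rcases h2 (τ x) y hx with h | h
    · exact ⟨1, by rw [map_one, h]⟩
    · exact ⟨x, h.symm⟩
  rw [MonoidHom.range_eq_top.mpr hsurj, Subgroup.card_top]
  simp [Nat.card_eq_fintype_card]

end Cfsg.Agent.S2911
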