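import Cfsg.Statements.S2912
import Cfsg.Agent.Lib.Helper24.ExtraMod6

set_option autoImplicit false
open Cfsg

namespace Cfsg.Agent.S2912

open Cfsg.Agent.Lib.Helper24.ExtraMod

/-- Let p and r be distinct primes, let E be an extraspecial subgroup of order p^(2w+1) of a finite group, and let A be an elementary abelian r-subgroup normalized by E on which E acts faithfully (C_E(A) = 1). If n ≥ 1 is least with p dividing rⁿ − 1 (the smallest dimension of a faithful representation of a group of order p over the field with r elements), then the order of A is at least r^(n·p^w). -/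
theorem result {G : Type*} [Group G] [Finite G] {p r : ℕ} [Fact p.Prime] [hr : Fact r.Prime] (hpr : p ≠ r) (E A : Subgroup G) (w : ℕ) (hE : Cfsg.IsExtraspecial p ↥E) (hEcard : Nat.card ↥E = p ^ (2 * w + 1)) (hA : Cfsg.IsElementaryAbelian r A) (hnorm : E ≤ Subgroup.normalizer (A : Set G)) (hfaith : E ⊓ Subgroup.centralizer (A : Set G) = ⊥) (n : ℕ) (hn : 1 ≤ n) (hdiv : p ∣ r ^ n - 1) (hmin : ∀ k : ℕ, 1 ≤ k → p ∣ r ^ k - 1 → n ≤ k) : r ^ (n * p ^ w) ≤ Nat.card ↥A := by
  have : IsMulCommutative A := hA.1
  let cg : CommGroup A := { (inferInstance : Group A) with mul_comm := mul_comm' }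
  have hmemN : ∀ (g : E) (v : A), (g : G) * (v : G) * (g : G)⁻¹ ∈ A := fun g v =>
    (Subgroup.mem_normalizer_iff.mp (hnorm g.2) v).mp v.2
  let act : MulDistribMulAction E A :=
    { smul := fun g v => ⟨(g : G) * (v : G) * (g : G)⁻¹, hmemN g v⟩
      one_smul := fun v => Subtype.ext
        (show ((1 : E) : G) * (v : G) * ((1 : E) : G)⁻¹ = (v : G) by simp)
      mul_smul := fun g g' v => Subtype.ext
        (show ((g * g' : E) : G) * (v : G) * ((g * g' : E) : G)⁻¹ =
          (g : G) * ((g' : G) * (v : G) * (g' : G)⁻¹) * (g : G)⁻¹ by simp [mul_assoc])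
      smul_one := fun g => Subtype.ext
        (show (g : G) * ((1 : A) : G) * (g : G)⁻¹ = ((1 : A) : G) by simp)
      smul_mul := fun g u v => Subtype.ext
        (show (g : G) * ((u * v : A) : G) * (g : G)⁻¹ =
          ((g : G) * (u : G) * (g : G)⁻¹) * ((g : G) * (v : G) * (g : G)⁻¹) by simp [mul_assoc]) }
  have hsmul : ∀ (g : E) (v : A), ((g • v : A) : G) = (g : G) * (v : G) * (g : G)⁻¹ :=
    fun _ _ => rfl
  have hEx : ExLike p (⊤ : Subgroup E) (Subgroup.center E) :=
    { card_Z := hE.2
      Z_le := le_top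
      central := fun c hc g _ => Subgroup.mem_center_iff.1 hc g
      comm_mem := by
        intro a _ b _
        rw [← hE.1.2.2, commutator_def]
        exact Subgroup.commutator_mem_commutator (Subgroup.mem_top a) (Subgroup.mem_top b)
      center_le := fun x _ hx => Subgroup.mem_center_iff.2 (fun g => hx g (Subgroup.mem_top g)) }
  have hexp : ∀ v : A, v ^ r = 1 := fun v => Subtype.ext (hA.2 v.1 v.2)
  have hf : ∀ c ∈ Subgroup.center E, c ≠ 1 → ∃ v : A, c • v ≠ v := by
    intro c _ hc1
    by_contra hcon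
    push Not at hcon
    apply hc1
    have hmem : (c : G) ∈ E ⊓ Subgroup.centralizer (A : Set G) := by
      rw [Subgroup.mem_inf]
      refine ⟨c.2, ?_⟩
      rw [Subgroup.mem_centralizer_iff]
      intro a ha
      have h1 := hcon ⟨a, ha⟩
      have h2 : (c : G) * a * (c : G)⁻¹ = a := congrArg Subtype.val h1
      calc a * (c : G) = ((c : G) * a * (c : G)⁻¹) * c := by rw [h2]
        _ = c * a := by group
    rw [hfaith, Subgroup.mem_bot] at hmem
    exact Subtype.ext hmem
  have hcard : p ^ (2 * w + 1) ≤ Nat.card (⊤ : Subgroup E) := by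
    rw [Subgroup.card_top, hEcard]
  exact core_faithful p r n w hpr hmin (⊤ : Subgroup E) (Subgroup.center E) hEx hexp hf hcard

end Cfsg.Agent.S2912
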