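import Cfsg.Statements.S2922
import Cfsg.Agent.Lib.Helper31.Char2

set_option autoImplicit false
open Cfsg

namespace Cfsg.Agent.S2922

/-- Let p be a prime, X a finite group, B a p-subgroup of X and C a normal subgroup of B. If N_X(C) has characteristic p (its generalized Fitting subgroup is O_p(N_X(C))), then N_X(B) and C_X(B) have characteristic p. -/
theorem result {X : Type*} [Group X] [Finite X] {p : ℕ} [Fact p.Prime] (B C : Subgroup X) (hB : IsPGroup p ↥B) (hCB : C ≤ B) (hCn : (C.subgroupOf B).Normal) (hC : Cfsg.generalizedFittingSubgroup ↥(Subgroup.normalizer (C : Set X)) = Cfsg.pCore p ↥(Subgroup.normalizer (C : Set X))) : Cfsg.generalizedFittingSubgroup ↥(Subgroup.normalizer (B : Set X)) = Cfsg.pCore p ↥(Subgroup.normalizer (B : Set X)) ∧ Cfsg.generalizedFittingSubgroup ↥(Subgroup.centralizer (B : Set X)) = Cfsg.pCore p ↥(Subgroup.centralizer (B : Set X)) := by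
  classical
  have hL : Cfsg.Agent.Lib.Helper48.CharP p ↥(Subgroup.normalizer (C : Set X)) :=
    Cfsg.Agent.Lib.Helper31.charP_of_genFitting_eq hC
  have hBL : B ≤ Subgroup.normalizer (C : Set X) :=
    (Subgroup.normal_subgroupOf_iff_le_normalizer hCB).mp hCn
  have hBnL : B ≤ Subgroup.normalizer ((Subgroup.normalizer (C : Set X) : Subgroup X) : Set X) :=
    hBL.trans Subgroup.le_normalizer
  have h1 := Cfsg.Agent.Lib.Helper31.charP_centralizer_inf hL hB hBnL
  have hcent : Subgroup.centralizer (B : Set X) ⊓ Subgroup.normalizer (C : Set X)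
      = Subgroup.centralizer (B : Set X) := by
    apply inf_eq_left.mpr
    refine le_trans (Subgroup.centralizer_le hCB) ?_
    exact Subgroup.centralizer_le_normalizer _
  rw [hcent] at h1
  have h2 := Cfsg.Agent.Lib.Helper31.charP_normalizer_of_centralizer hB (le_refl B) h1
  exact ⟨Cfsg.Agent.Lib.Helper31.genFitting_eq_pCore_of_charP h2,
    Cfsg.Agent.Lib.Helper31.genFitting_eq_pCore_of_charP h1⟩

end Cfsg.Agent.S2922
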