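import Cfsg.Statements.S2924
import Cfsg.Agent.Lib.Helper22.OcDefs
import Cfsg.Agent.Lib.Helper22.OcBal
import Cfsg.Agent.Lib.Helper2.OcOC2
import Cfsg.Agent.Lib.Helper25.Oc7
import Cfsg.Agent.Lib.Helper25.Oc5d
import Cfsg.Agent.Lib.Helper27.Oc5c
import Cfsg.Agent.Lib.Helper35.Oc3
import Cfsg.Agent.Lib.Helper80.OcOC6
import Cfsg.Agent.Lib.Helper55.Cores

set_option autoImplicit false
open Cfsg

namespace Cfsg.Agent.S2924

open Cfsg.Agent.Lib.Helper22.Oc Cfsg.Agent.Lib.Helper22.OcBal Cfsg.Agent.Lib.Helper35.Oc3 Subgroup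

/-- Let X be a finite group and Y an elementary abelian 2-subgroup of X of order at least 8 such that C_X(x) has no components (E(C_X(x)) = 1) for every nontrivial x ∈ Y, and F*(C_X(z)) = O₂(C_X(z)) for some nontrivial z ∈ Y. Then the subgroup generated by the cores O(C_X(y)), y ∈ Y nontrivial, has odd order and is normalized by N_X(Y). -/
theorem result {X : Type*} [Group X] [Finite X] (Y : Subgroup X) (hY : Cfsg.IsElementaryAbelian 2 Y) (h8 : 8 ≤ Nat.card ↥Y) (hE : ∀ x ∈ Y, x ≠ 1 → Cfsg.layer ↥(Subgroup.centralizer ({x} : Set X)) = ⊥) (hz : ∃ z ∈ Y, z ≠ 1 ∧ Cfsg.generalizedFittingSubgroup ↥(Subgroup.centralizer ({z} : Set X)) = Cfsg.pCore 2 ↥(Subgroup.centralizer ({z} : Set X))) : Odd (Nat.card ↥(⨆ y : {y : X // y ∈ Y ∧ y ≠ 1}, (Cfsg.oddCore ↥(Subgroup.centralizer ({(y : X)} : Set X))).map (Subgroup.centralizer ({(y : X)} : Set X)).subtype)) ∧ Subgroup.normalizer (Y : Set X) ≤ Subgroup.normalizer ((⨆ y : {y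 : X // y ∈ Y ∧ y ≠ 1}, (Cfsg.oddCore ↥(Subgroup.centralizer ({(y : X)} : Set X))).map (Subgroup.centralizer ({(y : X)} : Set X)).subtype : Subgroup X) : Set X) := by
  obtain ⟨z, hzY, hz1, hz⟩ := hz
  refine ⟨?_, oc6 Y⟩
  have hcommY : ∀ a ∈ Y, ∀ b ∈ Y, a * b = b * a := by
    intro a ha b hb
    have h := hY.1
    have := h.is_comm.comm (⟨a, ha⟩ : ↥Y) ⟨b, hb⟩
    exact congrArg Subtype.val this
  have hsq : ∀ a ∈ Y, a ^ 2 = 1 := hY.2
  have hmemC : ∀ u ∈ Y, ∀ t ∈ Y, t ∈ centralizer ({u} : Set X) := by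
    intro u hu t ht
    rw [mem_centralizer_singleton_iff]
    exact hcommY t ht u hu
  -- `Y` normalizes each `θ(u)`
  have hnorm : ∀ u ∈ Y, u ≠ 1 → ∀ t ∈ Y, ∀ a ∈ th u, t * a * t⁻¹ ∈ th u := by
    intro u hu _ t ht a ha
    obtain ⟨a', ha', rfl⟩ := ha
    refine ⟨⟨t, hmemC u hu t ht⟩ * a' * ⟨t, hmemC u hu t ht⟩⁻¹, ?_, rfl⟩
    exact (inferInstance : (oddCore ↥(centralizer ({u} : Set X))).Normal).conj_mem a' ha' _
  have hcent : ∀ u ∈ Y, u ≠ 1 → ∀ a ∈ th u, a * u = u * a := by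
    intro u _ _ a ha
    obtain ⟨a', _, rfl⟩ := ha
    exact mem_centralizer_singleton_iff.mp a'.2
  have hoddth : ∀ u : X, Odd (Nat.card (th u)) := by
    intro u
    have h1 : Nat.card (th u) = Nat.card (oddCore ↥(centralizer ({u} : Set X))) :=
      Nat.card_congr ((oddCore ↥(centralizer ({u} : Set X))).equivMapOfInjective _
        (centralizer ({u} : Set X)).subtype_injective).symm.toEquiv
    rw [h1]
    exact Nat.coprime_two_right.mp (Cfsg.Agent.Lib.Helper55.pPrimeCore_card_coprime 2)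
  have hfpf : ∀ u ∈ Y, u ≠ 1 → ∀ a ∈ th u, a * z = z * a → a = 1 := by
    intro u hu _
    exact (oc2 z u (hsq u hu) (hmemC u hu z hzY) hz).1
  -- balance
  have hbal : ∀ u ∈ Y, u ≠ 1 → ∀ v ∈ Y, v ≠ 1 → ∀ a ∈ th u, a * v = v * a → a ∈ th v := by
    intro u hu hu1 v hv hv1
    have hzv : z ∈ centralizer ({v} : Set X) := hmemC v hv z hzY
    have hEz := (oc2 z v (hsq v hv) hzv hz).2
    -- `z` inverts `O(C_X(v))`
    have hinv : ∀ n ∈ oddCore ↥(centralizer ({v} : Set X)),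
        (⟨z, hzv⟩ : ↥(centralizer ({v} : Set X))) * n * (⟨z, hzv⟩ : ↥(centralizer ({v} : Set X)))⁻¹
          = n⁻¹ := by
      refine oc7 (oddCore ↥(centralizer ({v} : Set X)))
        (Nat.coprime_two_right.mp (Cfsg.Agent.Lib.Helper55.pPrimeCore_card_coprime 2))
        ⟨z, hzv⟩ (Subtype.ext (by simpa using hsq z hzY)) ?_ ?_
      · intro n hn
        exact (inferInstance : (oddCore ↥(centralizer ({v} : Set X))).Normal).conj_mem n hn _
      · intro n hn hnz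
        have h1 : (n : X) ∈ th v := ⟨n, hn, rfl⟩
        have h2 : (n : X) * z = z * (n : X) := congrArg Subtype.val hnz
        exact Subtype.ext (hfpf v hv hv1 _ h1 h2)
    have hbar := oc3 (⟨z, hzv⟩ : ↥(centralizer ({v} : Set X)))
      (Subtype.ext (by simpa using hsq z hzY)) hinv (hE v hv hv1) hEz
    exact oc4 u v (hcommY u hu v hv) (hsq u hu) hbar
  have hcomm := oc5c Y hY h8 z hzY hz1 (fun u => th u) hnorm hcent
    (fun u _ _ => hoddth u) hfpf hbal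
  exact oc5d (fun y : {y : X // y ∈ Y ∧ y ≠ 1} => th (y : X)) (fun i => hoddth _)
    (fun i j => hcomm i.1 i.2.1 i.2.2 j.1 j.2.1 j.2.2)

end Cfsg.Agent.S2924
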