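import Cfsg.Statements.S2925
import Cfsg.Agent.Lib.Helper22.FStar
import Cfsg.Agent.Lib.Helper9.SubnormalSylow
import Cfsg.Agent.Lib.Helper30.PGroupBasic

set_option autoImplicit false
open Cfsg

namespace Cfsg.Agent.S2925

/-- Let K be a component of the finite group X and T a Sylow 2-subgroup of X. If some abelian normal subgroup Y of T does not normalize K, then K ⧸ Z(K) has abelian Sylow 2-subgroups. -/
theorem result {X : Type*} [Group X] [Finite X] (K : Subgroup X) (hK : Cfsg.IsComponent K) (T : Sylow 2 X) (Y : Subgroup X) (hYT : Y ≤ (T : Subgroup X)) (hYn : (Y.subgroupOf (T : Subgroup X)).Normal) (hYab : IsMulCommutative ↥Y) (hnot : ¬ Y ≤ Subgroup.normalizer (K : Set X)) (P : Sylow 2 (↥K ⧸ Subgroup.center ↥K)) : IsMulCommutative ↥(P : Subgroup (↥K ⧸ Subgroup.center ↥K)) := by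
  have hp2 : Fact (Nat.Prime 2) := ⟨Nat.prime_two⟩
  obtain ⟨y, hyY, hyK⟩ := SetLike.not_le_iff_exists.mp hnot
  set K' := K.map (MulAut.conj y).toMonoidHom with hK'def
  have hK' : Cfsg.IsComponent K' := Cfsg.Agent.Lib.Helper22.isComponent_map_equiv (MulAut.conj y) hK
  have hne : K ≠ K' := by
    intro h
    exact hyK (Cfsg.Agent.Lib.Helper30.mem_normalizer_of_map_conj_eq h.symm)
  have hcomm0 := Cfsg.Agent.Lib.Helper22.components_commute hK hK' hne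
  rw [Subgroup.commutator_eq_bot_iff_le_centralizer] at hcomm0
  have hcomm : ∀ a ∈ K, ∀ b ∈ K', a * b = b * a := by
    intro a ha b hb
    exact (Subgroup.mem_centralizer_iff.mp (hcomm0 ha) b hb).symm
  have hconj : ∀ a ∈ K, y * a * y⁻¹ ∈ K' := by
    intro a ha
    exact ⟨a, ha, by simp [MulAut.conj_apply]⟩
  -- the element w(s)
  have hw : ∀ s ∈ (T : Subgroup X), s * (y * s⁻¹ * y⁻¹) ∈ Y := by
    intro s hs
    have h1 : (⟨s, hs⟩ : ↥(T : Subgroup X)) * ⟨y, hYT hyY⟩ * (⟨s, hs⟩ : ↥(T : Subgroup X))⁻¹ ∈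
        Y.subgroupOf (T : Subgroup X) :=
      hYn.conj_mem _ (Subgroup.mem_subgroupOf.mpr hyY) _
    rw [Subgroup.mem_subgroupOf] at h1
    have h2 : s * y * s⁻¹ ∈ Y := h1
    have h3 := Y.mul_mem h2 (Y.inv_mem hyY)
    have e : s * y * s⁻¹ * y⁻¹ = s * (y * s⁻¹ * y⁻¹) := by group
    rwa [e] at h3
  have hYc : ∀ a ∈ Y, ∀ b ∈ Y, a * b = b * a := by
    intro a ha b hb
    exact congrArg Subtype.val (hYab.is_comm.comm (⟨a, ha⟩ : ↥Y) ⟨b, hb⟩)
  -- key: commutators of elements of T ∩ K are central in K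
  have key : ∀ s s' : ↥K, (s : X) ∈ (T : Subgroup X) → (s' : X) ∈ (T : Subgroup X) →
      s⁻¹ * s'⁻¹ * s * s' ∈ Subgroup.center ↥K := by
    intro s s' hs hs'
    have h1 := hYc _ (hw (s : X) hs) _ (hw (s' : X) hs')
    -- z = s⁻¹ s'⁻¹ s s'
    set z : X := (s : X)⁻¹ * (s' : X)⁻¹ * (s : X) * (s' : X) with hz
    have hzK : z ∈ K := K.mul_mem (K.mul_mem (K.mul_mem (K.inv_mem s.2) (K.inv_mem s'.2)) s.2) s'.2
    have ha : y * (s : X)⁻¹ * y⁻¹ ∈ K' := hconj _ (K.inv_mem s.2)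
    have hb : y * (s' : X)⁻¹ * y⁻¹ ∈ K' := hconj _ (K.inv_mem s'.2)
    have c1 : (y * (s : X)⁻¹ * y⁻¹) * (s' : X) = (s' : X) * (y * (s : X)⁻¹ * y⁻¹) :=
      (hcomm _ s'.2 _ ha).symm
    have c2 : (y * (s' : X)⁻¹ * y⁻¹) * (s : X) = (s : X) * (y * (s' : X)⁻¹ * y⁻¹) :=
      (hcomm _ s.2 _ hb).symm
    have h2 : (s : X) * (s' : X) * (y * ((s : X)⁻¹ * (s' : X)⁻¹) * y⁻¹) =
        (s' : X) * (s : X) * (y * ((s' : X)⁻¹ * (s : X)⁻¹) * y⁻¹) := by
      have e1 : (s : X) * (y * (s : X)⁻¹ * y⁻¹) * ((s' : X) * (y * (s' : X)⁻¹ * y⁻¹)) =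
          (s : X) * (s' : X) * (y * ((s : X)⁻¹ * (s' : X)⁻¹) * y⁻¹) := by
        calc (s : X) * (y * (s : X)⁻¹ * y⁻¹) * ((s' : X) * (y * (s' : X)⁻¹ * y⁻¹))
            = (s : X) * ((y * (s : X)⁻¹ * y⁻¹) * (s' : X)) * (y * (s' : X)⁻¹ * y⁻¹) := by group
          _ = (s : X) * ((s' : X) * (y * (s : X)⁻¹ * y⁻¹)) * (y * (s' : X)⁻¹ * y⁻¹) := by rw [c1]
          _ = (s : X) * (s' : X) * (y * ((s : X)⁻¹ * (s' : X)⁻¹) * y⁻¹) := by group
      have e2 : (s' : X) * (y * (s' : X)⁻¹ * y⁻¹) * ((s : X) * (y * (s : X)⁻¹ * y⁻¹)) =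
          (s' : X) * (s : X) * (y * ((s' : X)⁻¹ * (s : X)⁻¹) * y⁻¹) := by
        calc (s' : X) * (y * (s' : X)⁻¹ * y⁻¹) * ((s : X) * (y * (s : X)⁻¹ * y⁻¹))
            = (s' : X) * ((y * (s' : X)⁻¹ * y⁻¹) * (s : X)) * (y * (s : X)⁻¹ * y⁻¹) := by group
          _ = (s' : X) * ((s : X) * (y * (s' : X)⁻¹ * y⁻¹)) * (y * (s : X)⁻¹ * y⁻¹) := by rw [c2]
          _ = (s' : X) * (s : X) * (y * ((s' : X)⁻¹ * (s : X)⁻¹) * y⁻¹) := by group
      rw [← e1, ← e2]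
      exact h1
    -- hence z ∈ K'
    have hzK' : z ∈ K' := by
      have e3 : z = y * ((s' : X)⁻¹ * (s : X)⁻¹ * (s' : X) * (s : X)) * y⁻¹ := by
        have e4 : z = ((s' : X) * (s : X))⁻¹ * ((s : X) * (s' : X)) := by rw [hz]; group
        have e5 : (s : X) * (s' : X) = (s' : X) * (s : X) * (y * ((s' : X)⁻¹ * (s : X)⁻¹) * y⁻¹) *
            (y * ((s : X)⁻¹ * (s' : X)⁻¹) * y⁻¹)⁻¹ := by
          rw [← h2]; group
        rw [e4, e5]; group
      rw [e3]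
      apply hconj
      exact K.mul_mem (K.mul_mem (K.mul_mem (K.inv_mem s'.2) (K.inv_mem s.2)) s'.2) s.2
    rw [Subgroup.mem_center_iff]
    intro k
    apply Subtype.ext
    have := hcomm (k : X) k.2 z hzK'
    simpa [hz, mul_assoc] using this
  -- the Sylow 2-subgroup of K inside T
  obtain ⟨Q, hQ⟩ := Cfsg.Agent.Lib.Helper9.exists_sylow_eq_subgroupOf 2 K hK.1 T
  have hsurj : Function.Surjective (QuotientGroup.mk' (Subgroup.center ↥K)) :=
    QuotientGroup.mk'_surjective _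
  set P₀ : Sylow 2 (↥K ⧸ Subgroup.center ↥K) := Q.mapSurjective hsurj with hP₀
  have hP₀c : ∀ a b : ↥(P₀ : Subgroup (↥K ⧸ Subgroup.center ↥K)), a * b = b * a := by
    rintro ⟨a, ha⟩ ⟨b, hb⟩
    have ha' : a ∈ (Q : Subgroup ↥K).map (QuotientGroup.mk' (Subgroup.center ↥K)) := ha
    have hb' : b ∈ (Q : Subgroup ↥K).map (QuotientGroup.mk' (Subgroup.center ↥K)) := hb
    obtain ⟨s, hs, rfl⟩ := ha'
    obtain ⟨s', hs', rfl⟩ := hb'
    rw [hQ] at hs hs'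
    replace hs : (s : X) ∈ (T : Subgroup X) := Subgroup.mem_subgroupOf.mp hs
    replace hs' : (s' : X) ∈ (T : Subgroup X) := Subgroup.mem_subgroupOf.mp hs'
    apply Subtype.ext
    show QuotientGroup.mk' (Subgroup.center ↥K) s * QuotientGroup.mk' (Subgroup.center ↥K) s' =
      QuotientGroup.mk' (Subgroup.center ↥K) s' * QuotientGroup.mk' (Subgroup.center ↥K) s
    rw [← map_mul, ← map_mul]
    have hz := key s s' hs hs'
    have : QuotientGroup.mk' (Subgroup.center ↥K) (s⁻¹ * s'⁻¹ * s * s') = 1 :=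
      (QuotientGroup.eq_one_iff _).mpr hz
    have e : s * s' = s' * s * (s⁻¹ * s'⁻¹ * s * s') := by group
    rw [e, map_mul, this, mul_one]
  let e : ↥(P : Subgroup (↥K ⧸ Subgroup.center ↥K)) ≃* ↥(P₀ : Subgroup (↥K ⧸ Subgroup.center ↥K)) :=
    Sylow.equiv P P₀
  refine ⟨⟨fun a b => ?_⟩⟩
  apply e.injective
  rw [map_mul, map_mul]
  exact hP₀c _ _

end Cfsg.Agent.S2925
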