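import Cfsg.Statements.S2930
import Cfsg.Agent.Lib.Helper22.FStar
import Cfsg.Agent.Lib.Helper59.PMinAltCases
import Cfsg.Agent.Lib.Helper59.PMinAltB1
import Cfsg.Agent.Lib.Helper59.PMinAltB3
import Cfsg.Agent.Lib.Helper59.PMinAltB4

set_option autoImplicit false
open Cfsg

namespace Cfsg.Agent.S2930

open Cfsg.Agent.Lib.Helper59.PMinAlt in
/-- Part 1: `X = F*(X)`. -/
theorem fstar_eq_top {X : Type*} [Group X] [Finite X] (hX : Cfsg.IsPMinimal 3 X) (n : ℕ)
    (hn : 5 ≤ n) (e : ↥(Cfsg.generalizedFittingSubgroup X) ≃* ↥(alternatingGroup (Fin n))) :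
    Cfsg.generalizedFittingSubgroup X = ⊤ := by
  have hnormal := Cfsg.Agent.Lib.Helper22.generalizedFittingSubgroup_normal X
  apply normal_eq_top_of_pMinimal hX
  intro S s hs
  obtain ⟨k, hk⟩ := S.isPGroup' ⟨s, hs⟩
  have hk' : s ^ (3 ^ k) = 1 := by
    have := congrArg Subtype.val hk
    simpa using this
  exact pElement_mem_of_alt _ (Cfsg.Agent.Lib.Helper22.centralizer_generalizedFitting_le X) n hn e
    s k hk'

/-- Let X be a finite 3-minimal group (a Sylow 3-subgroup is not normal and lies in a unique maximal subgroup) whose generalized Fitting subgroup is isomorphic to an alternating group of degree n ≥ 5. Then X = F*(X), and n = 6, n = 9, or n = 3ᵃ + 1 for some a ≥ 2. -/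
theorem result {X : Type*} [Group X] [Finite X] (hX : Cfsg.IsPMinimal 3 X) (n : ℕ) (hn : 5 ≤ n) (hF : Nonempty (↥(Cfsg.generalizedFittingSubgroup X) ≃* ↥(alternatingGroup (Fin n)))) : Cfsg.generalizedFittingSubgroup X = ⊤ ∧ (n = 6 ∨ n = 9 ∨ ∃ a : ℕ, 2 ≤ a ∧ n = 3 ^ a + 1) := by
  obtain ⟨e⟩ := hF
  have hK := fstar_eq_top hX n hn e
  refine ⟨hK, ?_⟩
  let φ : X ≃* alternatingGroup (Fin n) :=
    (Subgroup.topEquiv.symm.trans (MulEquiv.subgroupCongr hK.symm)).trans e
  obtain ⟨P, M, hP, hMtop, hM⟩ := Cfsg.Agent.Lib.Helper59.PMinAlt.transport_pMinimal hX φ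
  have h5 : 5 ≤ Fintype.card (Fin n) := by rw [Fintype.card_fin]; exact hn
  have := Cfsg.Agent.Lib.Helper59.PMinAlt.main_P2 P M hP hMtop hM h5
  rw [Fintype.card_fin] at this
  exact this

end Cfsg.Agent.S2930
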