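import Cfsg.Statements.S2931
import Cfsg.Agent.Lib.Helper58.SylIso
import Cfsg.Agent.Lib.Helper58.S2931A
import Cfsg.Agent.Lib.Helper58.S2931B
import Cfsg.Agent.Lib.Helper43.OrthCardMinus
import Cfsg.Agent.Lib.Helper89.FieldTransfer
import Cfsg.Agent.Lib.Helper89.ClassicalTransfer

set_option autoImplicit false
open Cfsg

namespace Cfsg.Agent.S2931

open Cfsg.Agent.Lib.Helper58 Cfsg.Agent.Lib.Helper58.SylIso

instance fact2 : Fact (Nat.Prime 2) := ⟨Nat.prime_two⟩

theorem card_alt8 : Nat.card ↥(alternatingGroup (Fin 8)) = 2 ^ 6 * 315 := by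
  have h := two_mul_nat_card_alternatingGroup (α := Fin 8)
  rw [Nat.card_perm, Nat.card_fin] at h
  have : Nat.factorial 8 = 40320 := by decide
  omega

theorem card_perm8 : Nat.card (Equiv.Perm (Fin 8)) = 2 ^ 7 * 315 := by
  rw [Nat.card_perm, Nat.card_fin]
  decide

/-- the first half -/
theorem part1 (F : Type) [Field F] [Fintype F] (hF : Fintype.card F = 3)
    (P : Sylow 2 ↥(alternatingGroup (Fin 8))) (Q : Sylow 2 (Cfsg.PSp 2 F)) :
    Nonempty (↥(P : Subgroup ↥(alternatingGroup (Fin 8))) ≃* ↥(Q : Subgroup (Cfsg.PSp 2 F))) := by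
  obtain ⟨A, B, hAalt, hA, hB, ⟨ψ⟩⟩ := S2931A.main
  obtain ⟨e0⟩ := Cfsg.Agent.S0822.psp_equiv
  have σ : ZMod 3 ≃+* F := ZMod.ringEquivOfPrime F (by norm_num) hF
  let e : Cfsg.PSp 2 F ≃* Cfsg.Agent.S0822.G2 :=
    (Cfsg.Agent.Lib.Helper89.ClassicalTransfer.pspCongr σ 2).symm.trans e0
  have hfin : Finite (Cfsg.PSp 2 F) := Finite.of_equiv _ e.symm.toEquiv
  -- the unitary side
  have hB' : Nat.card B = 2 ^ (Nat.card Cfsg.Agent.S0822.G2).factorization 2 := by
    rw [hB, Cfsg.Agent.S0822.card_G2, show (25920 : ℕ) = 2 ^ 6 * 405 by norm_num,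
      factorization_two_pow_mul 6 405 (by decide)]
    norm_num
  obtain ⟨f2⟩ := sylow_equiv_of_mulEquiv e Q B hB'
  -- the alternating side
  let A' : Subgroup ↥(alternatingGroup (Fin 8)) := A.subgroupOf (alternatingGroup (Fin 8))
  have eA : ↥A' ≃* ↥A := Subgroup.subgroupOfEquivOfLe hAalt
  have hA' : Nat.card A' = 2 ^ (Nat.card ↥(alternatingGroup (Fin 8))).factorization 2 := by
    rw [Nat.card_congr eA.toEquiv, hA, card_alt8, factorization_two_pow_mul 6 315 (by decide)]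
    norm_num
  obtain ⟨f1⟩ := sylow_equiv_of_card P A' hA'
  exact ⟨f1.trans (eA.trans (ψ.trans f2.symm))⟩

theorem coeff_eq_one {K : Type} [Field K] [Fintype K] (hK : Fintype.card K = 2) (a b : K)
    (hab : ∀ z₁ z₂ : K, z₁ ^ 2 + a * z₁ * z₂ + b * z₂ ^ 2 = 0 → z₁ = 0 ∧ z₂ = 0) :
    a = 1 ∧ b = 1 := by
  classical
  have h01 : ∀ x : K, x = 0 ∨ x = 1 := by
    intro x
    by_contra hx
    rw [not_or] at hx
    have h3 : ({0, 1, x} : Finset K).card = 3 := by
      rw [Finset.card_insert_of_notMem, Finset.card_insert_of_notMem, Finset.card_singleton]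
      · simp only [Finset.mem_singleton]
        exact fun h => hx.2 h.symm
      · simp only [Finset.mem_insert, Finset.mem_singleton, not_or]
        exact ⟨zero_ne_one, fun h => hx.1 h.symm⟩
    have := Finset.card_le_univ ({0, 1, x} : Finset K)
    omega
  have h2 : (2 : K) = 0 := by
    rcases h01 2 with h | h
    · exact h
    · exfalso
      have : (1 : K) = 0 := by linear_combination h
      exact one_ne_zero this
  have hb : b = 1 := by
    rcases h01 b with h | h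
    · exfalso
      have := (hab 0 1 (by rw [h]; ring)).2
      exact one_ne_zero this
    · exact h
  have ha : a = 1 := by
    rcases h01 a with h | h
    · exfalso
      have := (hab 1 1 (by rw [h, hb]; linear_combination h2)).1
      exact one_ne_zero this
    · exact h
  exact ⟨ha, hb⟩

/-- the second half -/
theorem part2 (K : Type) [Field K] [Fintype K] (hK : Fintype.card K = 2) (a b : K)
    (hab : ∀ z₁ z₂ : K, z₁ ^ 2 + a * z₁ * z₂ + b * z₂ ^ 2 = 0 → z₁ = 0 ∧ z₂ = 0)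
    (P' : Sylow 2 (Equiv.Perm (Fin 8)))
    (Q' : Sylow 2 ↥(Cfsg.isometryGroup K (Cfsg.quadFormMinus 2 K a b))) :
    Nonempty (↥(P' : Subgroup (Equiv.Perm (Fin 8))) ≃*
      ↥(Q' : Subgroup ↥(Cfsg.isometryGroup K (Cfsg.quadFormMinus 2 K a b)))) := by
  obtain ⟨A, B, hA, hB, ⟨ψ⟩⟩ := S2931B.main
  obtain ⟨ha, hb⟩ := coeff_eq_one hK a b hab
  have σ : ZMod 2 ≃+* K := ZMod.ringEquivOfPrime K (by norm_num) hK
  have hQ : ∀ v : (Fin 2 ⊕ Fin 2) ⊕ Fin 2 → ZMod 2,
      Cfsg.quadFormMinus 2 K a b (σ ∘ v) = σ (Cfsg.quadFormMinus 2 (ZMod 2) 1 1 v) := by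
    intro v
    unfold Cfsg.quadFormMinus
    simp only [Function.comp_apply, map_add, map_sum, map_mul, map_pow, map_one, ha, hb]
  let e : ↥(Cfsg.isometryGroup K (Cfsg.quadFormMinus 2 K a b)) ≃*
      ↥(Cfsg.isometryGroup (ZMod 2) (Cfsg.quadFormMinus 2 (ZMod 2) 1 1)) :=
    (Cfsg.Agent.Lib.Helper89.isometryGroupCongr σ _ _ hQ).symm
  have hcard : Nat.card ↥(Cfsg.isometryGroup (ZMod 2) (Cfsg.quadFormMinus 2 (ZMod 2) 1 1)) =
      2 ^ 7 * 405 := by
    rw [Cfsg.Agent.Lib.Helper43.card_isometryGroup_minus 2 (ZMod 2) 1 1 (by decide), ZMod.card]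
    decide
  have hB' : Nat.card B =
      2 ^ (Nat.card ↥(Cfsg.isometryGroup (ZMod 2) (Cfsg.quadFormMinus 2 (ZMod 2) 1 1))).factorization 2 := by
    rw [hB, hcard, factorization_two_pow_mul 7 405 (by decide)]
    norm_num
  obtain ⟨f2⟩ := sylow_equiv_of_mulEquiv e Q' B hB'
  have hA' : Nat.card A = 2 ^ (Nat.card (Equiv.Perm (Fin 8))).factorization 2 := by
    rw [hA, card_perm8, factorization_two_pow_mul 7 315 (by decide)]
    norm_num
  obtain ⟨f1⟩ := sylow_equiv_of_card P' A hA'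
  exact ⟨f1.trans (ψ.trans f2.symm)⟩

/-- The Sylow 2-subgroups of the alternating group of degree 8 and of PSp₄(3) are isomorphic, and so are the Sylow 2-subgroups of the symmetric group of degree 8 and of the full isometry group of a non-degenerate quadratic form of minus type in dimension 6 over the field with 2 elements. -/
theorem result (F : Type) [Field F] [Fintype F] (hF : Fintype.card F = 3) (K : Type) [Field K] [Fintype K] (hK : Fintype.card K = 2) (a b : K) (hab : ∀ z₁ z₂ : K, z₁ ^ 2 + a * z₁ * z₂ + b * z₂ ^ 2 = 0 → z₁ = 0 ∧ z₂ = 0) (P : Sylow 2 ↥(alternatingGroup (Fin 8))) (Q : Sylow 2 (Cfsg.PSp 2 F)) (P' : Sylow 2 (Equiv.Perm (Fin 8))) (Q' : Sylow 2 ↥(Cfsg.isometryGroup K (Cfsg.quadFormMinus 2 K a b))) : Nonempty (↥(P : Subgroup ↥(alternatingGroup (Fin 8))) ≃* ↥(Q : Subgroup (Cfsg.PSp 2 F))) ∧ Nonempty (↥(P' : Subgroup (Equiv.Perm (Fin 8))) ≃* ↥(Q' : Subgroup ↥(Cfsg.isometryGroup K (Cfsg.quadFormMinus 2 K a b)))) :=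
  ⟨part1 F hF P Q, part2 K hK a b hab P' Q'⟩

end Cfsg.Agent.S2931
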