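import Cfsg.Statements.S2934
import Cfsg.Agent.Lib.Helper48.OddAutMain
import Cfsg.Agent.Lib.Helper48.NonCyclic
import Cfsg.Agent.Lib.Helper29.ExtraTwoBuild
import Cfsg.Agent.Lib.Helper29.ExtraTwoClass

set_option autoImplicit false
open Cfsg

namespace Cfsg.Agent.S2934

/-- Let p be an odd prime, W a finite 2-group and E a non-cyclic abelian p-subgroup of Aut(W) such that, for every nontrivial e ∈ E, the fixed points of e in W contain at most one involution. Then E has order 9, W is extraspecial of order 2⁵, 2⁷ or 2⁹, and the common fixed points of E in W form exactly the centre Z(W). -/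
theorem result {W : Type*} [Group W] [Finite W] (hW : IsPGroup 2 W) {p : ℕ} [Fact p.Prime] (hp : p ≠ 2) (E : Subgroup (MulAut W)) (hE : IsPGroup p ↥E) (hab : IsMulCommutative ↥E) (hnc : ¬ IsCyclic ↥E) (hfix : ∀ e ∈ E, e ≠ 1 → ∀ x y : W, orderOf x = 2 → orderOf y = 2 → e x = x → e y = y → x = y) : Nat.card ↥E = 9 ∧ Cfsg.IsExtraspecial 2 W ∧ (Nat.card W = 2 ^ 5 ∨ Nat.card W = 2 ^ 7 ∨ Nat.card W = 2 ^ 9) ∧ {x : W | ∀ e ∈ E, e x = x} = (Subgroup.center W : Set W) := by
  have hpp : p.Prime := Fact.out
  have hcommE : ∀ x y : E, x * y = y * x := fun x y => hab.is_comm.comm x y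
  obtain ⟨q, hq, a', b', ha', hb', hb1', hanb'⟩ :=
    Cfsg.Agent.Lib.Helper48.exists_rank_two_of_not_isCyclic hcommE hnc
  have hqp : q = p := by
    have : Fact q.Prime := ⟨hq⟩
    have ho : orderOf b' = q := orderOf_eq_prime hb' hb1'
    obtain ⟨k, hk⟩ := (IsPGroup.iff_orderOf.mp hE) b'
    rw [ho] at hk
    have h1 : q ∣ p ^ k := by rw [← hk]
    exact (Nat.prime_dvd_prime_iff_eq hq hpp).mp (hq.dvd_of_dvd_pow h1)
  subst hqp
  have C : Cfsg.Agent.Lib.Helper48.OAM.Ctx E q (a' : MulAut W) (b' : MulAut W) :=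
    { hW := hW
      hp := hpp
      hp2 := hp
      hE := hE
      hab := fun e he f hf => congrArg Subtype.val (hcommE ⟨e, he⟩ ⟨f, hf⟩)
      hfix := hfix
      ha := a'.2
      hb := b'.2
      hap := by
        have := congrArg Subtype.val ha'
        rw [Subgroup.coe_pow] at this
        exact this
      hbp := by
        have := congrArg Subtype.val hb'
        rw [Subgroup.coe_pow] at this
        exact this
      hb1 := fun h => hb1' (Subtype.ext h)
      hanb := by
        intro h
        apply hanb'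
        obtain ⟨i, hi⟩ := Subgroup.mem_zpowers_iff.mp h
        rw [Subgroup.mem_zpowers_iff]
        refine ⟨i, Subtype.ext ?_⟩
        rw [Subgroup.coe_zpow]
        exact hi }
  obtain ⟨z, hz, hp3⟩ := C.exists_z
  subst hp3
  have hE2 := C.isE2 hz
  have hna := C.noncomm hz
  obtain ⟨m, hm, -, -⟩ := Cfsg.Agent.Lib.Helper29.IsE2.count_main _ W z hE2 rfl
  have hle := C.card_W_le hz rfl
  have hgt := C.card_W_gt hz
  refine ⟨?_, hE2.isExtraspecial hna, ?_, ?_⟩
  · -- the order of `E`
    obtain ⟨k, hk⟩ := IsPGroup.iff_card.mp hE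
    have h16 := C.card_E_le hz
    rw [hk] at h16 ⊢
    have hk2 : k ≤ 2 := by
      by_contra hcon
      push Not at hcon
      have : 3 ^ 3 ≤ 3 ^ k := Nat.pow_le_pow_right (by norm_num) hcon
      omega
    have hk0 : k ≠ 0 := by
      rintro rfl
      apply hnc
      have : Subsingleton E := (Nat.card_eq_one_iff_unique.mp (by rw [hk]; rfl)).1
      exact isCyclic_of_subsingleton
    have hk1 : k ≠ 1 := by
      rintro rfl
      apply hnc
      exact isCyclic_of_prime_card (p := 3) (by rw [hk]; rfl)
    have : k = 2 := by omega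
    rw [this]; norm_num
  · rw [hm] at hle hgt ⊢
    have h1 : 2 * m + 1 ≤ 9 := by
      by_contra hcon
      push Not at hcon
      have : 2 ^ 10 ≤ 2 ^ (2 * m + 1) := Nat.pow_le_pow_right (by norm_num) hcon
      omega
    have h2 : 3 < 2 * m + 1 := by
      by_contra hcon
      push Not at hcon
      have : 2 ^ (2 * m + 1) ≤ 2 ^ 3 := Nat.pow_le_pow_right (by norm_num) hcon
      omega
    have h3 : m = 2 ∨ m = 3 ∨ m = 4 := by omega
    rcases h3 with rfl | rfl | rfl
    · left; rfl
    · right; left; rfl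
    · right; right; rfl
  · ext x
    simp only [Set.mem_ofPred_eq, SetLike.mem_coe]
    constructor
    · intro hx
      rcases hz.only x hx with rfl | rfl
      · exact Subgroup.one_mem _
      · exact hE2.mem
    · intro hx e he
      rcases C.center_cases hz hx with rfl | rfl
      · exact map_one e
      · exact hz.fix e he

end Cfsg.Agent.S2934
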