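import Cfsg.Statements.S2939
import Cfsg.Agent.Lib.Helper49.SylowControl

set_option autoImplicit false
open Cfsg

namespace Cfsg.Agent.S2939

open Cfsg.Agent.Lib.Helper49

variable {G : Type*} [Group G]

/-- prefix products of a finite sequence -/
def pre {n : ℕ} (y : Fin n → G) (k : ℕ) : G := ((List.ofFn y).take k).prod

theorem pre_zero {n : ℕ} (y : Fin n → G) : pre y 0 = 1 := by simp [pre]

theorem pre_succ {n : ℕ} (y : Fin n → G) (k : ℕ) (hk : k < n) :
    pre y (k + 1) = pre y k * y ⟨k, hk⟩ := by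
  unfold pre
  have h : k < (List.ofFn y).length := by simpa using hk
  rw [List.take_succ_eq_append_getElem h, List.prod_append, List.getElem_ofFn]
  simp

theorem pre_full {n : ℕ} (y : Fin n → G) : pre y n = (List.ofFn y).prod := by
  unfold pre
  have : (List.ofFn y).take n = List.ofFn y := by
    apply List.take_of_length_le
    simp
  rw [this]

/-- reversed prefix products -/
def rpre {n : ℕ} (x : Fin n → G) (k : ℕ) : G := ((List.ofFn x).take k).reverse.prod

theorem rpre_zero {n : ℕ} (x : Fin n → G) : rpre x 0 = 1 := by simp [rpre]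

theorem rpre_succ {n : ℕ} (x : Fin n → G) (k : ℕ) (hk : k < n) :
    rpre x (k + 1) = x ⟨k, hk⟩ * rpre x k := by
  unfold rpre
  have h : k < (List.ofFn x).length := by simpa using hk
  rw [List.take_succ_eq_append_getElem h, List.reverse_append, List.prod_append, List.getElem_ofFn]
  simp

theorem mem_conjRightSet_iff (g : G) (A : Set G) (b : G) :
    b ∈ conjRight g A ↔ g * b * g⁻¹ ∈ A := by
  unfold conjRight
  constructor
  · rintro ⟨a, ha, rfl⟩
    have : g * (g⁻¹ * a * g) * g⁻¹ = a := by group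
    rw [this]; exact ha
  · intro h
    exact ⟨g * b * g⁻¹, h, by group⟩

theorem conjRight_subset_iff (g : G) (A : Set G) (X : Subgroup G) :
    conjRight g A ⊆ (X : Set G) ↔ A ⊆ (subgroupConjRight g⁻¹ X : Set G) := by
  constructor
  · intro h a ha
    rw [SetLike.mem_coe, mem_conjRight_iff]
    apply h
    rw [mem_conjRightSet_iff]
    have : g * (g⁻¹ * a * g⁻¹⁻¹) * g⁻¹ = a := by group
    rw [this]; exact ha
  · intro h b hb
    rw [mem_conjRightSet_iff] at hb
    have := h hb
    rw [SetLike.mem_coe, mem_conjRight_iff] at this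
    have h2 : g⁻¹ * (g * b * g⁻¹) * g⁻¹⁻¹ = b := by group
    rwa [h2] at this

theorem forward [Finite G] {p : ℕ} [Fact p.Prime] (𝓕 : Set (Subgroup G)) (h𝓕 : Cfsg.IsNormalSet 𝓕)
    (hc : Cfsg.ControlsSylowIntersections p 𝓕) : Cfsg.FamilyStronglyControlsFusion p 𝓕 := by
  intro S A g hAS hA1 hAg
  obtain ⟨a, haA, ha1⟩ := hA1
  -- T = g • S = S^{g⁻¹}
  have hTcoe : ((g • S : Sylow p G) : Subgroup G) = subgroupConjRight g⁻¹ (S : Subgroup G) := by
    rw [conjRight_sylow, inv_inv]
  have hAT : A ⊆ ((g • S : Sylow p G) : Subgroup G) := by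
    rw [hTcoe]; exact (conjRight_subset_iff g A _).mp hAg
  by_cases hST : S = g • S
  · have hg : g ∈ Subgroup.normalizer ((S : Subgroup G) : Set G) :=
      Sylow.smul_eq_iff_mem_normalizer.mp hST.symm
    refine ⟨0, fun i => i.elim0, fun i => i.elim0, g, hg, fun i => i.elim0, by simp, fun i => i.elim0⟩
  · have hint : (S : Subgroup G) ⊓ ((g • S : Sylow p G) : Subgroup G) ≠ ⊥ := by
      intro h
      have : a ∈ (S : Subgroup G) ⊓ ((g • S : Sylow p G) : Subgroup G) := ⟨hAS haA, hAT haA⟩
      rw [h, Subgroup.mem_bot] at this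
      exact ha1 this
    obtain ⟨n, c, X, x, hc0, hcn, hall⟩ := hc S (g • S) hST hint
    -- all of A lies in every c i.succ ⊓ X i
    have hAi : ∀ i : Fin n, A ⊆ ((c i.succ : Subgroup G) ⊓ X i : Subgroup G) := by
      intro i b hb
      exact (hall i).2.2.2.2 ⟨hAS hb, hAT hb⟩
    set W : ℕ → G := rpre x with hW
    have hWs : ∀ i : Fin n, W (i.val + 1) = x i * W i.val := fun i => rpre_succ x i.val i.2
    -- (c j)^{W j} = S
    have hcW : ∀ j : Fin (n + 1), subgroupConjRight (W j.val) (c j : Subgroup G) = (S : Subgroup G) := by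
      intro j
      induction j using Fin.induction with
      | zero =>
        show subgroupConjRight (W 0) (c 0 : Subgroup G) = S
        rw [hW, rpre_zero, conjRight_one, hc0]
      | succ i ih =>
        show subgroupConjRight (W (i.val + 1)) (c i.succ : Subgroup G) = S
        rw [hWs, conjRight_mul, (hall i).2.2.2.1]
        exact ih
    let y : Fin n → G := fun i => (W i.val)⁻¹ * x i * W i.val
    let Y : Fin n → Subgroup G := fun i => subgroupConjRight (W i.val) (X i)
    have hpre : ∀ k : ℕ, k ≤ n → pre y k = W k := by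
      intro k
      induction k with
      | zero => intro _; rw [pre_zero, hW, rpre_zero]
      | succ k ih =>
        intro hk
        have hk' : k < n := hk
        rw [pre_succ y k hk', ih (le_of_lt hk'), hWs ⟨k, hk'⟩]
        show W k * ((W k)⁻¹ * x ⟨k, hk'⟩ * W k) = x ⟨k, hk'⟩ * W k
        group
    -- final
    have hTW : subgroupConjRight (W n) ((g • S : Sylow p G) : Subgroup G) = (S : Subgroup G) := by
      have := hcW (Fin.last n)
      rwa [hcn] at this
    have hy0 : (W n)⁻¹ * g ∈ Subgroup.normalizer ((S : Subgroup G) : Set G) := by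
      rw [← Subgroup.inv_mem_iff, ← conjRight_eq_self_iff]
      have : ((W n)⁻¹ * g)⁻¹ = g⁻¹ * W n := by group
      rw [this, conjRight_mul, ← hTcoe, hTW]
    refine ⟨n, Y, y, (W n)⁻¹ * g, hy0, ?_, ?_, ?_⟩
    · intro i
      constructor
      · have h1 := sylowMembers_conjRight h𝓕 (hall i).1 (W i.val)
        have h2 := hcW i.castSucc
        simp only [Fin.val_castSucc] at h2
        rwa [h2] at h1
      · show (W i.val)⁻¹ * x i * W i.val ∈ subgroupConjRight (W i.val) (X i)
        rw [mem_conjRight_iff]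
        have : W i.val * ((W i.val)⁻¹ * x i * W i.val) * (W i.val)⁻¹ = x i := by group
        rw [this]; exact (hall i).2.2.1
    · rw [← pre_full, hpre n le_rfl]; group
    · intro i
      show conjRight (pre y (i.val + 1)) A ⊆ _
      rw [hpre (i.val + 1) i.2, hWs i]
      intro b hb
      rw [mem_conjRightSet_iff] at hb
      have hb2 := hAi i hb
      constructor
      · -- b ∈ S = (c i.succ)^{x i * W i}
        have h1 := hcW i.succ
        simp only [Fin.val_succ] at h1
        rw [hWs i] at h1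
        show b ∈ (S : Subgroup G)
        rw [← h1, mem_conjRight_iff]
        exact hb2.1
      · -- b ∈ (X i)^{W i} = (X i)^{x i * W i}
        show b ∈ subgroupConjRight (W i.val) (X i)
        have h1 : subgroupConjRight (x i * W i.val) (X i) = subgroupConjRight (W i.val) (X i) := by
          rw [conjRight_mul, conjRight_eq_self_of_mem (x i) (X i) (hall i).2.2.1]
        rw [← h1, mem_conjRight_iff]
        exact hb2.2

theorem backward [Finite G] {p : ℕ} [Fact p.Prime] (𝓕 : Set (Subgroup G)) (h𝓕 : Cfsg.IsNormalSet 𝓕)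
    (hf : Cfsg.FamilyStronglyControlsFusion p 𝓕) : Cfsg.ControlsSylowIntersections p 𝓕 := by
  intro S T hST hint
  obtain ⟨g, hg⟩ := MulAction.exists_smul_eq G S T
  have hTcoe : (T : Subgroup G) = subgroupConjRight g⁻¹ (S : Subgroup G) := by
    rw [← hg, conjRight_sylow, inv_inv]
  set A : Set G := (((S : Subgroup G) ⊓ (T : Subgroup G) : Subgroup G) : Set G) with hA
  have hAS : A ⊆ (S : Set G) := fun b hb => hb.1
  have hAT : A ⊆ ((T : Subgroup G) : Set G) := fun b hb => hb.2
  obtain ⟨a, ha1⟩ := (Subgroup.ne_bot_iff_exists_ne_one).mp hint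
  have hAg : conjRight g A ⊆ (S : Set G) := by
    have : conjRight g A ⊆ ((S : Subgroup G) : Set G) := by
      rw [conjRight_subset_iff, ← hTcoe]; exact hAT
    exact this
  obtain ⟨n, Y, y, y₀, hy₀, hY, hgeq, htake⟩ := hf S A g hAS ⟨a, a.2, fun h => ha1 (Subtype.ext h)⟩ hAg
  set w : ℕ → G := pre y with hw
  have hws : ∀ i : Fin n, w (i.val + 1) = w i.val * y i := fun i => pre_succ y i.val i.2
  have hcoe : ∀ k : ℕ, ((w k • S : Sylow p G) : Subgroup G) = subgroupConjRight (w k)⁻¹ (S : Subgroup G) := by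
    intro k; rw [conjRight_sylow, inv_inv]
  refine ⟨n, fun j => w j.val • S, fun i => subgroupConjRight (w i.val)⁻¹ (Y i),
    fun i => w i.val * y i * (w i.val)⁻¹, ?_, ?_, ?_⟩
  · show w 0 • S = S
    rw [hw, pre_zero, one_smul]
  · show w n • S = T
    rw [hw, pre_full, ← hg]
    have h1 : (List.ofFn y).prod = g * y₀⁻¹ := by rw [hgeq]; group
    rw [h1, mul_smul]
    congr 1
    exact Sylow.smul_eq_iff_mem_normalizer.mpr (Subgroup.inv_mem _ hy₀)
  · intro i
    have hXalt : subgroupConjRight (w i.val)⁻¹ (Y i) = subgroupConjRight (w (i.val + 1))⁻¹ (Y i) := by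
      rw [hws i]
      have : (w i.val * y i)⁻¹ = (y i)⁻¹ * (w i.val)⁻¹ := by group
      rw [this, conjRight_mul, conjRight_eq_self_of_mem _ _ (Subgroup.inv_mem _ (hY i).2)]
    refine ⟨?_, ?_, ?_, ?_, ?_⟩
    · show subgroupConjRight (w i.val)⁻¹ (Y i) ∈ sylowMembers p 𝓕 ((w i.castSucc.val • S : Sylow p G) : Subgroup G)
      simp only [Fin.val_castSucc]
      rw [hcoe]
      exact sylowMembers_conjRight h𝓕 (hY i).1 _
    · show subgroupConjRight (w i.val)⁻¹ (Y i) ∈ sylowMembers p 𝓕 ((w i.succ.val • S : Sylow p G) : Subgroup G)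
      simp only [Fin.val_succ]
      rw [hcoe, hXalt]
      exact sylowMembers_conjRight h𝓕 (hY i).1 _
    · show w i.val * y i * (w i.val)⁻¹ ∈ subgroupConjRight (w i.val)⁻¹ (Y i)
      rw [mem_conjRight_iff]
      have : (w i.val)⁻¹ * (w i.val * y i * (w i.val)⁻¹) * (w i.val)⁻¹⁻¹ = y i := by group
      rw [this]; exact (hY i).2
    · show subgroupConjRight (w i.val * y i * (w i.val)⁻¹) ((w i.succ.val • S : Sylow p G) : Subgroup G)
        = ((w i.castSucc.val • S : Sylow p G) : Subgroup G)
      simp only [Fin.val_succ, Fin.val_castSucc]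
      rw [hcoe, hcoe, ← conjRight_mul, hws i]
      congr 1
      group
    · show (S : Subgroup G) ⊓ (T : Subgroup G) ≤ ((w i.succ.val • S : Sylow p G) : Subgroup G) ⊓
        subgroupConjRight (w i.val)⁻¹ (Y i)
      simp only [Fin.val_succ]
      rw [hcoe, hXalt]
      intro b hb
      have hbA : b ∈ A := hb
      have h1 : (w (i.val + 1))⁻¹ * b * (w (i.val + 1))⁻¹⁻¹ ∈ conjRight (w (i.val + 1)) A := by
        rw [mem_conjRightSet_iff]
        have : w (i.val + 1) * ((w (i.val + 1))⁻¹ * b * (w (i.val + 1))⁻¹⁻¹) * (w (i.val + 1))⁻¹ = b := by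
          group
        rw [this]; exact hbA
      have h2 := htake i h1
      exact ⟨(mem_conjRight_iff _ _ _).mpr h2.1, (mem_conjRight_iff _ _ _).mpr h2.2⟩

theorem result {G : Type*} [Group G] [Finite G] {p : ℕ} [Fact p.Prime] (hdiv : p ∣ Nat.card G) (𝓕 : Set (Subgroup G)) (h𝓕 : Cfsg.IsNormalSet 𝓕) : Cfsg.ControlsSylowIntersections p 𝓕 ↔ Cfsg.FamilyStronglyControlsFusion p 𝓕 :=
  ⟨forward 𝓕 h𝓕, backward 𝓕 h𝓕⟩

end Cfsg.Agent.S2939
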