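import Cfsg.Statements.S2940

set_option autoImplicit false
open Cfsg

namespace Cfsg.Agent.S2940

theorem result {G : Type*} [Group G] [Finite G] {p : ℕ} [Fact p.Prime] (S : Sylow p G) (G₁ G₂ : Subgroup G) (h1 : (S : Subgroup G) ≤ G₁) (h2 : (S : Subgroup G) ≤ G₂) (hfact : ∀ g : G, ∃ g₁ ∈ G₁, ∃ g₂ ∈ G₂, g = g₁ * g₂) (g : G) : ∃ U : Sylow p G, (S : Subgroup G) ⊓ Cfsg.subgroupConjRight g (S : Subgroup G) ≤ (U : Subgroup G) ∧ (U : Subgroup G) ≤ G₁ ⊓ Cfsg.subgroupConjRight g G₂ := by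
  obtain ⟨a, ha, b, hb, hab⟩ := hfact g⁻¹
  set D : Subgroup G := G₁ ⊓ Cfsg.subgroupConjRight g G₂ with hD
  -- a • S ≤ D
  have hVD : ((a • S : Sylow p G) : Subgroup G) ≤ D := by
    intro x hx
    rw [Sylow.coe_subgroup_smul] at hx
    obtain ⟨s, hs, rfl⟩ := hx
    have hval : (MulAut.conj a • s : G) = a * s * a⁻¹ := by
      simp [MulAut.smul_def, MulAut.conj_apply]
    constructor
    · show (MulAut.conj a • s : G) ∈ G₁
      rw [hval]
      exact G₁.mul_mem (G₁.mul_mem ha (h1 hs)) (G₁.inv_mem ha)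
    · show (MulAut.conj a • s : G) ∈ Cfsg.subgroupConjRight g G₂
      rw [hval]
      refine ⟨b⁻¹ * s * b, G₂.mul_mem (G₂.mul_mem (G₂.inv_mem hb) (h2 hs)) hb, ?_⟩
      simp only [MulEquiv.coe_toMonoidHom, MulAut.conj_apply, hab]
      group
  -- the p-subgroup R
  set R : Subgroup G := (S : Subgroup G) ⊓ Cfsg.subgroupConjRight g (S : Subgroup G) with hR
  have hRD : R ≤ D := by
    intro x hx
    refine ⟨h1 hx.1, ?_⟩
    obtain ⟨s, hs, rfl⟩ := hx.2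
    exact ⟨s, h2 hs, rfl⟩
  have hRp : IsPGroup p ↥R := S.isPGroup'.to_le inf_le_left
  have hRp' : IsPGroup p ↥(R.subgroupOf D) := hRp.comap_subtype
  obtain ⟨Q, hQ⟩ := hRp'.exists_le_sylow
  obtain ⟨d, hd⟩ := MulAction.exists_smul_eq ↥D ((a • S).subtype hVD) Q
  rw [Sylow.smul_subtype] at hd
  refine ⟨d • (a • S), ?_, Sylow.smul_le hVD d⟩
  intro x hx
  have hxD : x ∈ D := hRD hx
  have : (⟨x, hxD⟩ : ↥D) ∈ (Q : Subgroup ↥D) := hQ (by rw [Subgroup.mem_subgroupOf]; exact hx)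
  rw [← hd] at this
  have h3 : (⟨x, hxD⟩ : ↥D) ∈ ((d • (a • S) : Sylow p G) : Subgroup G).subgroupOf D := by
    rw [← Sylow.coe_subtype]; exact this
  exact Subgroup.mem_subgroupOf.mp h3

end Cfsg.Agent.S2940
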