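import Cfsg.Statements.S2941

set_option autoImplicit false
open Cfsg
open scoped Pointwise commutatorElement

namespace Cfsg.Agent.S2941

/-- an element of odd order in `K ⊔ J`, where `J` is a 2-group normalizing `K`, lies in `K`. -/
theorem odd_mem {G : Type*} [Group G] (K J : Subgroup G) (hJ : IsPGroup 2 ↥J)
    (hJK : J ≤ Subgroup.normalizer (K : Set G)) (g : G) (hg : g ∈ K ⊔ J) (hodd : Odd (orderOf g)) :
    g ∈ K := by
  have hcoe : ((K ⊔ J : Subgroup G) : Set G) = (K : Set G) * (J : Set G) :=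
    Subgroup.coe_mul_of_right_le_normalizer_left K J hJK
  have hg' : g ∈ (K : Set G) * (J : Set G) := by rw [← hcoe]; exact hg
  obtain ⟨k, hk, j, hj, rfl⟩ := hg'
  -- powers: (k*j)^n ∈ K * j^n
  have hpow : ∀ n : ℕ, ∃ k' ∈ K, (k * j) ^ n = k' * j ^ n := by
    intro n
    induction n with
    | zero => exact ⟨1, K.one_mem, by simp⟩
    | succ n ih =>
      obtain ⟨k', hk', h⟩ := ih
      refine ⟨k' * (j ^ n * k * (j ^ n)⁻¹), K.mul_mem hk' ?_, ?_⟩
      · have : j ^ n ∈ Subgroup.normalizer (K : Set G) := hJK (J.pow_mem hj n)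
        exact (Subgroup.mem_normalizer_iff.mp this k).mp hk
      · rw [pow_succ, h, pow_succ]; group
  obtain ⟨k', hk', h⟩ := hpow (orderOf (k * j))
  rw [pow_orderOf_eq_one] at h
  -- j ^ m ∈ K with m odd
  have hjm : j ^ orderOf (k * j) ∈ K := by
    have : j ^ orderOf (k * j) = k'⁻¹ := by
      rw [eq_inv_iff_mul_eq_one]
      have h3 : k' * j ^ orderOf (k * j) = 1 := h.symm
      calc j ^ orderOf (k * j) * k' = k'⁻¹ * (k' * j ^ orderOf (k * j)) * k' := by group
        _ = 1 := by rw [h3]; group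
    rw [this]; exact K.inv_mem hk'
  -- j has order 2^a
  obtain ⟨a, ha⟩ := (IsPGroup.iff_orderOf.mp hJ) ⟨j, hj⟩
  have ha' : orderOf j = 2 ^ a := by
    rw [← ha]; exact (Subgroup.orderOf_mk j hj).symm
  have hcop : Nat.Coprime (orderOf (k * j)) (orderOf j) := by
    rw [ha']
    exact Nat.Coprime.pow_right a (Nat.coprime_two_right.mpr hodd)
  have hjK : j ∈ K := by
    obtain ⟨u, hu⟩ := exists_pow_eq_self_of_coprime hcop
    rw [← hu]; exact K.pow_mem hjm u
  exact K.mul_mem hk hjK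

/-- Let G be a finite group of characteristic 2 type in which every 2-local subgroup is solvable and the centralizer of Ω₁(Z(S)) lies in N_G(S) for every Sylow 2-subgroup S, and let T be a nontrivial 2-subgroup and K a J(T)-component (J the Thompson subgroup generated by the elementary abelian 2-subgroups of largest order). If a subgroup Q is normalized by ⟨K, J(T)⟩ and normalizes J(T), then Q normalizes K. -/
theorem result {G : Type*} [Group G] [Finite G] (hL : Cfsg.IsCharacteristicTwoType G) (hN : ∀ N : Subgroup G, Cfsg.IsTwoLocal N → Group.IsSolvable ↥N)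
    (hZ : ∀ S : Sylow 2 G, Subgroup.centralizer (Cfsg.omegaCenterOf (S : Subgroup G) : Set G) ≤ Subgroup.normalizer ((S : Subgroup G) : Set G)) (T : Subgroup G) (hT : IsPGroup 2 ↥T) (hT1 : T ≠ ⊥) (K : Subgroup G) (hK : Cfsg.IsJComponent T K)
    (Q : Subgroup G) (hQ1 : K ⊔ Cfsg.thompsonSubgroupOf 2 T ≤ Subgroup.normalizer (Q : Set G)) (hQ2 : Q ≤ Subgroup.normalizer (Cfsg.thompsonSubgroupOf 2 T : Set G)) :
    Q ≤ Subgroup.normalizer (K : Set G) := by
  obtain ⟨hodd, hcomm, -, -, -, -⟩ := hK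
  set J := Cfsg.thompsonSubgroupOf 2 T with hJdef
  -- J is a 2-group
  have hJT : J ≤ T := by
    rw [hJdef, Cfsg.thompsonSubgroupOf]
    exact Subgroup.map_subtype_le _
  have hJ2 : IsPGroup 2 ↥J := hT.to_le hJT
  -- J normalizes K
  have hJK : J ≤ Subgroup.normalizer (K : Set G) := by
    have := Subgroup.normalizer_commutator_ge_right K J
    rwa [hcomm] at this
  have hKQ : K ≤ Subgroup.normalizer (Q : Set G) := le_trans le_sup_left hQ1
  -- conjugation by q ∈ Q maps K into K ⊔ J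
  have hstep : ∀ q ∈ Q, K.map (MulAut.conj q).toMonoidHom ≤ K ⊔ J := by
    intro q hq
    have hqJ : J.map (MulAut.conj q).toMonoidHom = J := by
      have := Subgroup.mem_normalizer_iff_map_conj_eq.mp (hQ2 hq)
      exact this
    have : K.map (MulAut.conj q).toMonoidHom
        = ⁅K.map (MulAut.conj q).toMonoidHom, J⁆ := by
      conv_lhs => rw [← hcomm]
      rw [Subgroup.map_commutator, hqJ]
    rw [this, Subgroup.commutator_le]
    rintro _ ⟨k, hk, rfl⟩ j hj
    -- q k q⁻¹ = k * q' with q' ∈ Q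
    have hq' : k⁻¹ * q * k * q⁻¹ ∈ Q := by
      have h1 : k⁻¹ ∈ Subgroup.normalizer (Q : Set G) := hKQ (K.inv_mem hk)
      have h2 : k⁻¹ * q * k⁻¹⁻¹ ∈ Q := (Subgroup.mem_normalizer_iff.mp h1 q).mp hq
      rw [inv_inv] at h2
      exact Q.mul_mem h2 (Q.inv_mem hq)
    have hj'' : (k⁻¹ * q * k * q⁻¹) * j * (k⁻¹ * q * k * q⁻¹)⁻¹ ∈ J := by
      have h1 := hQ2 hq'
      exact (Subgroup.mem_normalizer_iff.mp h1 j).mp hj
    have hEq : ⁅(MulAut.conj q).toMonoidHom k, j⁆
        = k * ((k⁻¹ * q * k * q⁻¹) * j * (k⁻¹ * q * k * q⁻¹)⁻¹) * k⁻¹ * j⁻¹ := by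
      rw [commutatorElement_def]
      simp only [MulEquiv.coe_toMonoidHom, MulAut.conj_apply]
      group
    rw [hEq]
    refine Subgroup.mul_mem _ (Subgroup.mul_mem _ (Subgroup.mul_mem _ ?_ ?_) ?_) ?_
    · exact Subgroup.mem_sup_left hk
    · exact Subgroup.mem_sup_right hj''
    · exact Subgroup.mem_sup_left (K.inv_mem hk)
    · exact Subgroup.mem_sup_right (J.inv_mem hj)
  -- conjugation by q ∈ Q maps K into K
  have hstep2 : ∀ q ∈ Q, K.map (MulAut.conj q).toMonoidHom ≤ K := by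
    intro q hq
    conv_lhs => rw [← hodd]
    rw [MonoidHom.map_closure, Subgroup.closure_le]
    rintro _ ⟨g, ⟨hgK, hgodd⟩, rfl⟩
    have h1 : (MulAut.conj q).toMonoidHom g ∈ K ⊔ J := hstep q hq ⟨g, hgK, rfl⟩
    apply odd_mem K J hJ2 hJK _ h1
    have : orderOf ((MulAut.conj q).toMonoidHom g) = orderOf g := by
      simp only [MulEquiv.coe_toMonoidHom]
      exact MulEquiv.orderOf_eq (MulAut.conj q) g
    rw [this]; exact hgodd
  intro q hq
  rw [Subgroup.mem_normalizer_iff]
  intro k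
  constructor
  · intro hk
    exact hstep2 q hq ⟨k, hk, rfl⟩
  · intro hk
    have := hstep2 q⁻¹ (Q.inv_mem hq) ⟨q * k * q⁻¹, hk, rfl⟩
    have h2 : (MulAut.conj q⁻¹).toMonoidHom (q * k * q⁻¹) = k := by
      simp; group
    rwa [h2] at this

end Cfsg.Agent.S2941
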