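import Cfsg.Statements.S2947

set_option autoImplicit false
open Cfsg

namespace Cfsg.Agent.S2947

/-- a nontrivial 2-group has even order -/
theorem even_card_of_two_group {G : Type*} [Group G] [Finite G] (U : Subgroup G) (hU : IsPGroup 2 ↥U)
    (hne : U ≠ ⊥) : 2 ∣ Nat.card ↥U := by
  rcases hU.card_eq_or_dvd with h | h
  · exact absurd (Subgroup.card_eq_one.mp h) hne
  · exact h

/-- if `M` contains the normalizers of its nontrivial 2-subgroups, then any 2-group meeting `M`
nontrivially lies in `M`. -/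
theorem two_group_le {G : Type*} [Group G] [Finite G] (M : Subgroup G)
    (hA : ∀ U : Subgroup G, IsPGroup 2 ↥U → U ≠ ⊥ → U ≤ M → Subgroup.normalizer (U : Set G) ≤ M)
    (R : Subgroup G) (hR : IsPGroup 2 ↥R) (hRM : R ⊓ M ≠ ⊥) : R ≤ M := by
  by_contra hcon
  set D := R ⊓ M with hD
  have hDR : D ≤ R := inf_le_left
  have hDM : D ≤ M := inf_le_right
  have hD2 : IsPGroup 2 ↥D := hR.to_le hDR
  have hND : Subgroup.normalizer (D : Set G) ≤ M := hA D hD2 hRM hDM
  have : Fact (Nat.Prime 2) := ⟨Nat.prime_two⟩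
  have : Group.IsNilpotent ↥R := hR.isNilpotent
  have hnc : NormalizerCondition ↥R := Group.normalizerCondition_of_isNilpotent
  have hlt : D.subgroupOf R < ⊤ := by
    rw [lt_top_iff_ne_top]
    intro h
    rw [Subgroup.subgroupOf_eq_top] at h
    exact hcon (le_trans h hDM)
  have h2 := hnc _ hlt
  rw [← Subgroup.subgroupOf_normalizer_eq hDR] at h2
  obtain ⟨x, hx1, hx2⟩ := SetLike.exists_of_lt h2
  apply hx2
  rw [Subgroup.mem_subgroupOf] at hx1 ⊢
  exact ⟨x.2, hND hx1⟩

theorem result {G : Type*} [Group G] [Finite G] (hL : Cfsg.IsCharacteristicTwoType G) (hN : ∀ N : Subgroup G, Cfsg.IsTwoLocal N → Group.IsSolvable ↥N)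
    (hZ : ∀ S : Sylow 2 G, Subgroup.centralizer (Cfsg.omegaCenterOf (S : Subgroup G) : Set G) ≤ Subgroup.normalizer ((S : Subgroup G) : Set G)) (hO : Cfsg.pCore 2 G = ⊥) (S : Sylow 2 G) (M : Subgroup G) (hM : Cfsg.IsTwoLocal M)
    (hMJ : Subgroup.normalizer (Cfsg.thompsonSubgroupOf 2 (S : Subgroup G) : Set G) ≤ M) :
    Cfsg.IsStronglyEmbedded M ↔ Cfsg.straddlingTwoSubgroups M = ∅ := by
  have : Fact (Nat.Prime 2) := ⟨Nat.prime_two⟩
  constructor
  · -- strongly embedded implies no straddling subgroup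
    rintro ⟨-, -, hodd⟩
    have hA : ∀ U : Subgroup G, IsPGroup 2 ↥U → U ≠ ⊥ → U ≤ M →
        Subgroup.normalizer (U : Set G) ≤ M := by
      intro U hU hUne hUM g hg
      by_contra hgM
      have h1 := hodd g hgM
      have hUg : U ≤ M.map (MulAut.conj g).toMonoidHom := by
        have := Subgroup.mem_normalizer_iff_map_conj_eq.mp hg
        intro u hu
        have hu' : u ∈ U.map (MulAut.conj g) := by rw [this]; exact hu
        obtain ⟨v, hv, rfl⟩ := hu'
        exact ⟨v, hUM hv, rfl⟩
      have hle : U ≤ M ⊓ M.map (MulAut.conj g).toMonoidHom := le_inf hUM hUg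
      have hdvd := Subgroup.card_dvd_of_le hle
      have h2 := even_card_of_two_group U hU hUne
      have : 2 ∣ Nat.card ↥(M ⊓ M.map (MulAut.conj g).toMonoidHom) := dvd_trans h2 hdvd
      exact (Nat.not_even_iff_odd.mpr h1) (even_iff_two_dvd.mpr this)
    rw [Set.eq_empty_iff_forall_notMem]
    rintro T ⟨hT2, hTne, hTM, L, ⟨Q, hQ2, hQne, rfl⟩, hTL, hLM⟩
    apply hLM
    have hR : IsPGroup 2 ↥(T ⊔ Q) := IsPGroup.to_sup_of_normal_right' hT2 hQ2 hTL
    have hRM : (T ⊔ Q) ⊓ M ≠ ⊥ := by
      intro h
      apply hTne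
      rw [eq_bot_iff, ← h]
      exact le_inf le_sup_left hTM
    have := two_group_le M hA (T ⊔ Q) hR hRM
    exact hA Q hQ2 hQne (le_trans le_sup_right this)
  · -- no straddling implies strongly embedded
    intro hemp
    have hA : ∀ U : Subgroup G, IsPGroup 2 ↥U → U ≠ ⊥ → U ≤ M →
        Subgroup.normalizer (U : Set G) ≤ M := by
      intro U hU hUne hUM
      by_contra hcon
      have : U ∈ Cfsg.straddlingTwoSubgroups M :=
        ⟨hU, hUne, hUM, Subgroup.normalizer (U : Set G), ⟨U, hU, hUne, rfl⟩, Subgroup.le_normalizer, hcon⟩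
      rw [hemp] at this
      exact this
    obtain ⟨T₀, hT₀2, hT₀ne, rfl⟩ := hM
    have hT₀M : T₀ ≤ Subgroup.normalizer (T₀ : Set G) := Subgroup.le_normalizer
    refine ⟨?_, ?_, ?_⟩
    · intro htop
      have hn : T₀.Normal := Subgroup.normalizer_eq_top_iff.mp htop
      apply hT₀ne
      rw [eq_bot_iff, ← hO]
      exact le_sSup ⟨hn, hT₀2⟩
    · rw [even_iff_two_dvd]
      exact dvd_trans (even_card_of_two_group T₀ hT₀2 hT₀ne) (Subgroup.card_dvd_of_le hT₀M)
    · intro g hg
      rw [← Nat.not_even_iff_odd, even_iff_two_dvd]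
      intro hdvd
      apply hg
      set M := Subgroup.normalizer (T₀ : Set G) with hMdef
      -- an involution in the intersection
      obtain ⟨t, ht⟩ := exists_prime_orderOf_dvd_card' 2 hdvd
      have htM : (t : G) ∈ M := t.2.1
      obtain ⟨s, hsM, hst⟩ := t.2.2
      have hst' : g * s * g⁻¹ = (t : G) := by simpa [MulAut.conj_apply] using hst
      have ht2 : orderOf (t : G) = 2 := by rw [Subgroup.orderOf_coe]; exact ht
      have hs2 : orderOf s = 2 := by
        have : orderOf (g * s * g⁻¹) = orderOf s := by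
          have := MulEquiv.orderOf_eq (MulAut.conj g) s
          simpa [MulAut.conj_apply] using this
        rw [← this, hst']; exact ht2
      -- Sylow containing s
      have hzs : IsPGroup 2 ↥(Subgroup.zpowers s) := by
        apply IsPGroup.of_card (n := 1)
        rw [Nat.card_zpowers, hs2]; rfl
      obtain ⟨P, hP⟩ := hzs.exists_le_sylow
      have hsP : s ∈ (P : Subgroup G) := hP (Subgroup.mem_zpowers s)
      have hs1 : s ≠ 1 := by
        intro h; rw [h, orderOf_one] at hs2; omega
      have hPM : (P : Subgroup G) ≤ M := by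
        apply two_group_le M hA P P.isPGroup'
        intro h
        have : s ∈ (P : Subgroup G) ⊓ M := ⟨hsP, hsM⟩
        rw [h, Subgroup.mem_bot] at this
        exact hs1 this
      have hgPM : ((g • P : Sylow 2 G) : Subgroup G) ≤ M := by
        apply two_group_le M hA _ (g • P).isPGroup'
        intro h
        have : (t : G) ∈ ((g • P : Sylow 2 G) : Subgroup G) ⊓ M := by
          refine ⟨?_, htM⟩
          rw [Sylow.coe_subgroup_smul, ← hst']
          exact ⟨s, hsP, by simp [MulAut.smul_def, MulAut.conj_apply]⟩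
        rw [h, Subgroup.mem_bot] at this
        rw [this, orderOf_one] at ht2
        omega
      -- conjugate inside M
      obtain ⟨m, hm⟩ := MulAction.exists_smul_eq ↥M (P.subtype hPM) ((g • P).subtype hgPM)
      rw [Sylow.smul_subtype] at hm
      have hm' : m • P = g • P := Sylow.subtype_injective hm
      have hmem : (m : G)⁻¹ * g ∈ Subgroup.normalizer ((P : Subgroup G) : Set G) := by
        have h4 : ((m : G)⁻¹ * g) • P = P := by
          rw [mul_smul, ← hm']
          show (m : G)⁻¹ • ((m : G) • P) = P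
          rw [inv_smul_smul]
        exact Sylow.smul_eq_iff_mem_normalizer.mp h4
      have hPne : (P : Subgroup G) ≠ ⊥ := by
        intro h; rw [h, Subgroup.mem_bot] at hsP; exact hs1 hsP
      have := hA P P.isPGroup' hPne hPM hmem
      have h3 : g = (m : G) * ((m : G)⁻¹ * g) := by group
      rw [h3]
      exact M.mul_mem m.2 this

end Cfsg.Agent.S2947
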