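import Cfsg.Statements.S2955
import Cfsg.Agent.Lib.Helper49.SylowControl

set_option autoImplicit false
open Cfsg

namespace Cfsg.Agent.S2955

open Cfsg.Agent.Lib.Helper49

theorem result {G : Type*} [Group G] [Finite G] (p : ℕ) [Fact p.Prime] (hdiv : p ∣ Nat.card G)
    (𝓕 : Set (Subgroup G)) (h𝓕 : Cfsg.IsNormalSet 𝓕) (hc : Cfsg.ControlsSylowIntersections p 𝓕)
    (hconn : Cfsg.IsSylowChainConnected p G) (S : Sylow p G) :
    (⨆ X ∈ Cfsg.sylowMembers p 𝓕 (S : Subgroup G), X) ⊔ Subgroup.normalizer ((S : Subgroup G) : Set G) = ⊤ := by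
  set H : Subgroup G := (⨆ X ∈ Cfsg.sylowMembers p 𝓕 (S : Subgroup G), X) ⊔
    Subgroup.normalizer ((S : Subgroup G) : Set G) with hH
  have hmemH : ∀ X ∈ Cfsg.sylowMembers p 𝓕 (S : Subgroup G), X ≤ H := by
    intro X hX
    exact le_trans (le_biSup (fun X => X) hX) le_sup_left
  have hNH : Subgroup.normalizer ((S : Subgroup G) : Set G) ≤ H := le_sup_right
  -- the good Sylow subgroups
  let Good : Sylow p G → Prop := fun T => ∃ h ∈ H, subgroupConjRight h (S : Subgroup G) = (T : Subgroup G)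
  have hGoodS : Good S := ⟨1, H.one_mem, conjRight_one _⟩
  -- one control step
  have hstep : ∀ (S' T' : Sylow p G) (X : Subgroup G) (x : G), Good S' →
      X ∈ Cfsg.sylowMembers p 𝓕 (S' : Subgroup G) → x ∈ X →
      subgroupConjRight x (T' : Subgroup G) = (S' : Subgroup G) → Good T' := by
    rintro S' T' X x ⟨h', hh', hS'⟩ hX hxX hconj
    -- X^{h'⁻¹} ∈ 𝓕(S)
    have h1 : subgroupConjRight h'⁻¹ X ∈ Cfsg.sylowMembers p 𝓕 (S : Subgroup G) := by
      have := sylowMembers_conjRight h𝓕 hX h'⁻¹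
      rwa [← hS', conjRight_inv_cancel] at this
    have h2 : h' * x * h'⁻¹ ∈ H := by
      apply hmemH _ h1
      rw [mem_conjRight_iff]
      have : h'⁻¹ * (h' * x * h'⁻¹) * h'⁻¹⁻¹ = x := by group
      rw [this]; exact hxX
    have hxH : x ∈ H := by
      have : x = h'⁻¹ * (h' * x * h'⁻¹) * h' := by group
      rw [this]
      exact H.mul_mem (H.mul_mem (H.inv_mem hh') h2) hh'
    refine ⟨h' * x⁻¹, H.mul_mem hh' (H.inv_mem hxH), ?_⟩
    rw [conjRight_mul, hS', ← hconj, conjRight_inv_cancel]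
  -- a controlled pair
  have hpair : ∀ S' T' : Sylow p G, S' ≠ T' → (S' : Subgroup G) ⊓ (T' : Subgroup G) ≠ ⊥ →
      Good S' → Good T' := by
    intro S' T' hne hint hgood
    obtain ⟨n, c, X, x, hc0, hcn, hall⟩ := hc S' T' hne hint
    have : ∀ i : Fin (n + 1), Good (c i) := by
      intro i
      induction i using Fin.induction with
      | zero => rw [hc0]; exact hgood
      | succ i ih =>
        obtain ⟨hX1, -, hx, hconj, -⟩ := hall i
        exact hstep (c i.castSucc) (c i.succ) (X i) (x i) ih hX1 hx hconj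
    rw [← hcn]; exact this (Fin.last n)
  -- all Sylow subgroups are good
  have hall : ∀ T : Sylow p G, Good T := by
    intro T
    obtain ⟨n, c, hc0, hcn, -, hadj⟩ := hconn S T
    have : ∀ i : Fin (n + 1), Good (c i) := by
      intro i
      induction i using Fin.induction with
      | zero => rw [hc0]; exact hGoodS
      | succ i ih =>
        exact hpair (c i.castSucc) (c i.succ) (hadj i).1 (hadj i).2 ih
    rw [← hcn]; exact this (Fin.last n)
  -- conclusion
  rw [eq_top_iff]
  intro g _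
  obtain ⟨h, hh, hconj⟩ := hall (g⁻¹ • S)
  rw [← conjRight_sylow] at hconj
  have h3 : g * h⁻¹ ∈ Subgroup.normalizer ((S : Subgroup G) : Set G) := by
    rw [← conjRight_eq_self_iff, conjRight_mul, ← hconj, conjRight_inv_cancel]
  have : g = (g * h⁻¹) * h := by group
  rw [this]
  exact H.mul_mem (hNH h3) hh

end Cfsg.Agent.S2955
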