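import Cfsg.Statements.S2958

set_option autoImplicit false
open Cfsg

namespace Cfsg.Agent.S2958

/-- Let X, A, B be subgroups of a group G such that G is generated by the conjugates of X and every conjugate of X is contained in A or in B. Then A = G or B = G. -/
theorem result {G : Type*} [Group G] (X A B : Subgroup G) (hgen : (⨆ g : G, X.map (MulAut.conj g).toMonoidHom) = ⊤) (hcover : ∀ g : G, X.map (MulAut.conj g).toMonoidHom ≤ A ∨ X.map (MulAut.conj g).toMonoidHom ≤ B) : A = ⊤ ∨ B = ⊤ := by
  classical
  by_cases hall : ∀ g : G, X.map (MulAut.conj g).toMonoidHom ≤ A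
  · left
    rw [eq_top_iff, ← hgen]
    exact iSup_le hall
  · right
    push Not at hall
    obtain ⟨g₀, hg₀⟩ := hall
    -- W = join of conjugates not inside A
    set W : Subgroup G := ⨆ g : {g : G // ¬ X.map (MulAut.conj g).toMonoidHom ≤ A},
      X.map (MulAut.conj (g : G)).toMonoidHom with hW
    have hWB : W ≤ B := by
      refine iSup_le ?_
      rintro ⟨g, hg⟩
      rcases hcover g with h | h
      · exact absurd h hg
      · exact h
    have hconj : ∀ (a g : G), (X.map (MulAut.conj g).toMonoidHom).map (MulAut.conj a).toMonoidHom
        = X.map (MulAut.conj (a * g)).toMonoidHom := by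
      intro a g
      rw [Subgroup.map_map]
      congr 1
      ext x
      simp [MulAut.conj_apply, mul_assoc]
    -- every conjugate of X normalizes W
    have hnorm : ∀ h : G, X.map (MulAut.conj h).toMonoidHom ≤ Subgroup.normalizer (W : Set G) := by
      intro h
      by_cases hh : X.map (MulAut.conj h).toMonoidHom ≤ A
      · intro a ha
        have haA : a ∈ A := hh ha
        -- conj by a maps W into W, and conj by a⁻¹ too
        have key : ∀ b : G, b ∈ A → W.map (MulAut.conj b).toMonoidHom ≤ W := by
          intro b hb
          rw [hW, Subgroup.map_iSup]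
          refine iSup_le ?_
          rintro ⟨g, hg⟩
          rw [hconj]
          have : ¬ X.map (MulAut.conj (b * g)).toMonoidHom ≤ A := by
            intro hcon
            apply hg
            intro y hy
            have hy' : b * y * b⁻¹ ∈ X.map (MulAut.conj (b * g)).toMonoidHom := by
              rw [← hconj]
              exact ⟨y, hy, by simp [MulAut.conj_apply]⟩
            have := hcon hy'
            have h2 : y = b⁻¹ * (b * y * b⁻¹) * b := by group
            rw [h2]
            exact A.mul_mem (A.mul_mem (A.inv_mem hb) this) hb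
          exact le_iSup (fun g : {g : G // ¬ X.map (MulAut.conj g).toMonoidHom ≤ A} =>
            X.map (MulAut.conj (g : G)).toMonoidHom) ⟨b * g, this⟩
        rw [Subgroup.mem_normalizer_iff]
        intro w
        constructor
        · intro hw
          exact key a haA ⟨w, hw, by simp [MulAut.conj_apply]⟩
        · intro hw
          have := key a⁻¹ (A.inv_mem haA) ⟨a * w * a⁻¹, hw, rfl⟩
          have h2 : (MulAut.conj a⁻¹).toMonoidHom (a * w * a⁻¹) = w := by
            simp; group
          rwa [h2] at this
      · exact le_trans (le_iSup (fun g : {g : G // ¬ X.map (MulAut.conj g).toMonoidHom ≤ A} =>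
            X.map (MulAut.conj (g : G)).toMonoidHom) ⟨h, hh⟩) Subgroup.le_normalizer
    have hNtop : Subgroup.normalizer (W : Set G) = ⊤ := by
      rw [eq_top_iff, ← hgen]
      exact iSup_le hnorm
    have hWn : W.Normal := Subgroup.normalizer_eq_top_iff.mp hNtop
    have hg₀W : X.map (MulAut.conj g₀).toMonoidHom ≤ W :=
      le_iSup (fun g : {g : G // ¬ X.map (MulAut.conj g).toMonoidHom ≤ A} =>
            X.map (MulAut.conj (g : G)).toMonoidHom) ⟨g₀, hg₀⟩
    have hWtop : W = ⊤ := by
      rw [eq_top_iff, ← hgen]
      refine iSup_le ?_
      intro h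
      have : X.map (MulAut.conj h).toMonoidHom
          = (X.map (MulAut.conj g₀).toMonoidHom).map (MulAut.conj (h * g₀⁻¹)).toMonoidHom := by
        rw [hconj]
        congr 3
        group
      rw [this]
      rintro _ ⟨y, hy, rfl⟩
      exact hWn.conj_mem y (hg₀W hy) (h * g₀⁻¹)
    rw [eq_top_iff, ← hWtop]
    exact hWB

end Cfsg.Agent.S2958
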