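import Cfsg.Statements.S2959
import Cfsg.Agent.Lib.Helper49.PCoreBasics

set_option autoImplicit false
open Cfsg

namespace Cfsg.Agent.S2959

open Cfsg.Agent.Lib.Helper49

/-- Let G be a finite group of characteristic p, that is C_G(O_p(G)) ≤ O_p(G), with p prime, and let L be a subgroup of G normalized by O_p(G). Then L has characteristic p: C_L(O_p(L)) ≤ O_p(L). -/
theorem result {G : Type*} [Group G] [Finite G] {p : ℕ} [Fact p.Prime] (hG : Subgroup.centralizer (Cfsg.pCore p G : Set G) ≤ Cfsg.pCore p G) (L : Subgroup G) (hL : Cfsg.pCore p G ≤ Subgroup.normalizer (L : Set G)) : Subgroup.centralizer (Cfsg.pCore p ↥L : Set ↥L) ≤ Cfsg.pCore p ↥L := by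
  have hPn : (Cfsg.pCore p G).Normal := pCore_normal' p G
  have hPp : IsPGroup p ↥(Cfsg.pCore p G) := pCore_isPGroup' p G
  have hQn : (Cfsg.pCore p ↥L).Normal := pCore_normal' p ↥L
  have hCn : (Subgroup.centralizer (Cfsg.pCore p ↥L : Set ↥L)).Normal := Subgroup.normal_centralizer
  apply le_pCore' _ hCn
  apply isPGroup_of_coprime_trivial
  rintro ⟨c, hc⟩ hcop
  have hord : orderOf (⟨c, hc⟩ : ↥(Subgroup.centralizer (Cfsg.pCore p ↥L : Set ↥L))) = orderOf (c : G) := by
    rw [← Subgroup.orderOf_coe, ← Subgroup.orderOf_coe]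
  rw [hord] at hcop
  -- (P ⊓ L) inside L is contained in O_p(L)
  have hPL : (Cfsg.pCore p G).subgroupOf L ≤ Cfsg.pCore p ↥L := by
    apply le_pCore'
    · exact Subgroup.Normal.subgroupOf hPn L
    · exact hPp.comap_subtype
  -- c commutes with every element of P
  have hcent : (c : G) ∈ Subgroup.centralizer (Cfsg.pCore p G : Set G) := by
    rw [Subgroup.mem_centralizer_iff]
    intro u hu
    have hu' : u ∈ Cfsg.pCore p G := hu
    symm
    apply commute_of_coprime_of_commutator (p := p) (c : G) u hcop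
    · -- commutator is in P, a p-group
      have hmem : (c : G) * u * (c : G)⁻¹ * u⁻¹ ∈ Cfsg.pCore p G :=
        (Cfsg.pCore p G).mul_mem (hPn.conj_mem u hu' (c : G)) ((Cfsg.pCore p G).inv_mem hu')
      obtain ⟨k, hk⟩ := hPp ⟨_, hmem⟩
      refine ⟨k, ?_⟩
      have := congrArg Subtype.val hk
      simpa using this
    · -- commutator is in P ⊓ L hence in O_p(L), centralized by c
      have hmemP : (c : G) * u * (c : G)⁻¹ * u⁻¹ ∈ Cfsg.pCore p G :=
        (Cfsg.pCore p G).mul_mem (hPn.conj_mem u hu' (c : G)) ((Cfsg.pCore p G).inv_mem hu')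
      have hmemL : (c : G) * u * (c : G)⁻¹ * u⁻¹ ∈ L := by
        have h1 : u * (c : G)⁻¹ * u⁻¹ ∈ L :=
          (Subgroup.mem_normalizer_iff.mp (hL hu') _).mp (L.inv_mem c.2)
        have h2 : (c : G) * u * (c : G)⁻¹ * u⁻¹ = (c : G) * (u * (c : G)⁻¹ * u⁻¹) := by group
        rw [h2]
        exact L.mul_mem c.2 h1
      have hmemQ : (⟨_, hmemL⟩ : ↥L) ∈ Cfsg.pCore p ↥L := hPL (by
        rw [Subgroup.mem_subgroupOf]; exact hmemP)
      have := (Subgroup.mem_centralizer_iff.mp hc) _ hmemQ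
      have h3 := congrArg Subtype.val this
      simp only [Subgroup.coe_mul] at h3
      exact h3.symm
  have hcP : (c : G) ∈ Cfsg.pCore p G := hG hcent
  have h1 : (c : G) = 1 := by
    have := eq_one_of_coprime_of_isPGroup hPp ⟨(c : G), hcP⟩ (by
      rw [← Subgroup.orderOf_coe]; exact hcop)
    exact congrArg Subtype.val this
  ext
  simp [h1]

end Cfsg.Agent.S2959
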