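import Cfsg.Statements.S2960
import Cfsg.Agent.Lib.Helper49.PCoreBasics
import Cfsg.Agent.Lib.Helper49.SylowInf

set_option autoImplicit false
open Cfsg

namespace Cfsg.Agent.S2960

open Cfsg.Agent.Lib.Helper49

/-- core lemma: in a group of characteristic `p`, if `Q ⊴ T` (`T` Sylow) with `C_T(Q) ≤ Q`,
then every `p'`-element of `C_G(Q)` is trivial. -/
theorem coprime_trivial {G : Type*} [Group G] [Finite G] {p : ℕ} [Fact p.Prime]
    (hG : Subgroup.centralizer (Cfsg.pCore p G : Set G) ≤ Cfsg.pCore p G) (T : Sylow p G)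
    (Q : Subgroup G) (hQn : (T : Subgroup G) ≤ Subgroup.normalizer (Q : Set G))
    (hC : (T : Subgroup G) ⊓ Subgroup.centralizer (Q : Set G) ≤ Q)
    (x : G) (hx : x ∈ Subgroup.centralizer (Q : Set G)) (hcop : (orderOf x).Coprime p) : x = 1 := by
  set C : Subgroup G := Subgroup.centralizer (Q : Set G) with hCdef
  have hPn : (Cfsg.pCore p G).Normal := pCore_normal' p G
  have hPp : IsPGroup p ↥(Cfsg.pCore p G) := pCore_isPGroup' p G
  have hPT : Cfsg.pCore p G ≤ (T : Subgroup G) := hPp.le_sylow_of_normal T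
  have hTC : (T : Subgroup G) ≤ Subgroup.normalizer (C : Set G) :=
    le_trans hQn (normalizer_le_normalizer_centralizer Q)
  -- Sylow p-subgroup of C
  have hZp : IsPGroup p ↥(((T : Subgroup G) ⊓ C).subgroupOf C) :=
    (T.isPGroup'.to_le inf_le_left).comap_subtype
  have hZi : ¬ p ∣ (((T : Subgroup G) ⊓ C).subgroupOf C).index := sylow_inf_relIndex T C hTC
  set Z : Sylow p ↥C := hZp.toSylow hZi with hZdef
  have hZmem : ∀ c : ↥C, c ∈ Z ↔ (c : G) ∈ (T : Subgroup G) ⊓ C := by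
    intro c
    rw [hZdef, IsPGroup.mem_toSylow, Subgroup.mem_subgroupOf]
  -- Z is central in C
  have hZcent : Subgroup.normalizer ((Z : Subgroup ↥C) : Set ↥C)
      ≤ Subgroup.centralizer ((Z : Subgroup ↥C) : Set ↥C) := by
    intro c _
    rw [Subgroup.mem_centralizer_iff]
    intro z hz
    have hzQ : (z : G) ∈ Q := hC ((hZmem z).mp hz)
    have := (Subgroup.mem_centralizer_iff.mp c.2) (z : G) hzQ
    exact Subtype.ext this
  set K : Subgroup ↥C := (MonoidHom.transferSylow Z hZcent).ker with hKdef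
  -- p'-elements of C lie in K
  have hK1 : ∀ c : ↥C, (orderOf c).Coprime p → c ∈ K := by
    intro c hc
    rw [hKdef, MonoidHom.mem_ker]
    apply eq_one_of_coprime_of_isPGroup Z.isPGroup'
    exact Nat.Coprime.coprime_dvd_left (orderOf_map_dvd _ c) hc
  -- p-elements of K are trivial
  have hK2 : ∀ c : ↥C, c ∈ K → (∃ k : ℕ, c ^ (p ^ k) = 1) → c = 1 := by
    intro c hcK ⟨k, hk⟩
    have hzp : IsPGroup p ↥(Subgroup.zpowers c) := by
      apply IsPGroup.of_card (n := (orderOf c).factorization p)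
      rw [Nat.card_zpowers]
      have hdvd : orderOf c ∣ p ^ k := orderOf_dvd_of_pow_eq_one hk
      obtain ⟨j, -, hj⟩ := (Nat.dvd_prime_pow (Fact.out : p.Prime)).mp hdvd
      rw [hj, Nat.Prime.factorization_pow (Fact.out : p.Prime)]
      simp
    have hdisj := MonoidHom.ker_transferSylow_disjoint Z hZcent (Subgroup.zpowers c) hzp
    have : c ∈ K ⊓ Subgroup.zpowers c := ⟨hcK, Subgroup.mem_zpowers c⟩
    rw [hdisj.eq_bot, Subgroup.mem_bot] at this
    exact this
  -- x centralizes O_p(G)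
  have hcent : x ∈ Subgroup.centralizer (Cfsg.pCore p G : Set G) := by
    rw [Subgroup.mem_centralizer_iff]
    intro u hu
    have hu' : u ∈ Cfsg.pCore p G := hu
    symm
    have hcomP : x * u * x⁻¹ * u⁻¹ ∈ Cfsg.pCore p G :=
      (Cfsg.pCore p G).mul_mem (hPn.conj_mem u hu' x) ((Cfsg.pCore p G).inv_mem hu')
    have hconjC : u * x⁻¹ * u⁻¹ ∈ C :=
      (Subgroup.mem_normalizer_iff.mp (hTC (hPT hu')) _).mp (C.inv_mem hx)
    have hcomC : x * u * x⁻¹ * u⁻¹ ∈ C := by
      have h2 : x * u * x⁻¹ * u⁻¹ = x * (u * x⁻¹ * u⁻¹) := by group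
      rw [h2]; exact C.mul_mem hx hconjC
    -- as elements of C
    have hxK : (⟨x, hx⟩ : ↥C) ∈ K := hK1 _ (by rw [← Subgroup.orderOf_coe]; exact hcop)
    have hconjK : (⟨u * x⁻¹ * u⁻¹, hconjC⟩ : ↥C) ∈ K := by
      apply hK1
      rw [← Subgroup.orderOf_coe]
      show (orderOf (u * x⁻¹ * u⁻¹)).Coprime p
      have : orderOf (u * x⁻¹ * u⁻¹) = orderOf x := by
        have := MulEquiv.orderOf_eq (MulAut.conj u) x⁻¹
        rw [orderOf_inv] at this
        simpa [MulAut.conj_apply] using this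
      rw [this]; exact hcop
    have hcomK : (⟨x * u * x⁻¹ * u⁻¹, hcomC⟩ : ↥C) ∈ K := by
      have h2 : (⟨x * u * x⁻¹ * u⁻¹, hcomC⟩ : ↥C) = ⟨x, hx⟩ * ⟨u * x⁻¹ * u⁻¹, hconjC⟩ := by
        apply Subtype.ext
        show x * u * x⁻¹ * u⁻¹ = x * (u * x⁻¹ * u⁻¹)
        group
      rw [h2]; exact K.mul_mem hxK hconjK
    have hcom1 : (⟨x * u * x⁻¹ * u⁻¹, hcomC⟩ : ↥C) = 1 := by
      apply hK2 _ hcomK
      obtain ⟨k, hk⟩ := hPp ⟨_, hcomP⟩
      refine ⟨k, ?_⟩
      apply Subtype.ext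
      have := congrArg Subtype.val hk
      simpa using this
    have hcom1' : x * u * x⁻¹ * u⁻¹ = 1 := congrArg Subtype.val hcom1
    calc x * u = (x * u * x⁻¹ * u⁻¹) * u * x := by group
      _ = u * x := by rw [hcom1', one_mul]
  have hxP : x ∈ Cfsg.pCore p G := hG hcent
  have := eq_one_of_coprime_of_isPGroup hPp ⟨x, hxP⟩ (by
    rw [← Subgroup.orderOf_coe]; exact hcop)
  exact congrArg Subtype.val this

/-- Let G be a finite group of characteristic p (C_G(O_p(G)) ≤ O_p(G)), p prime, T a Sylow p-subgroup of G and Q a normal subgroup of T with C_T(Q) ≤ Q. Then C_G(Q) ≤ Q. -/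
theorem result {G : Type*} [Group G] [Finite G] {p : ℕ} [Fact p.Prime] (hG : Subgroup.centralizer (Cfsg.pCore p G : Set G) ≤ Cfsg.pCore p G) (T : Sylow p G) (Q : Subgroup G) (hQT : Q ≤ (T : Subgroup G)) (hQn : (T : Subgroup G) ≤ Subgroup.normalizer (Q : Set G)) (hC : (T : Subgroup G) ⊓ Subgroup.centralizer (Q : Set G) ≤ Q) : Subgroup.centralizer (Q : Set G) ≤ Q := by
  set C : Subgroup G := Subgroup.centralizer (Q : Set G) with hCdef
  have hTC : (T : Subgroup G) ≤ Subgroup.normalizer (C : Set G) :=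
    le_trans hQn (normalizer_le_normalizer_centralizer Q)
  have hCp : IsPGroup p ↥C := by
    apply isPGroup_of_coprime_trivial
    rintro ⟨c, hc⟩ hcop
    have := coprime_trivial hG T Q hQn hC c hc (by
      rw [← Subgroup.orderOf_coe] at hcop; exact hcop)
    exact Subtype.ext this
  have hTCp : IsPGroup p ↥((T : Subgroup G) ⊔ C) :=
    IsPGroup.to_sup_of_normal_right' T.isPGroup' hCp hTC
  have hmax : (T : Subgroup G) ⊔ C = T := T.is_maximal' hTCp le_sup_left
  have hCT : C ≤ (T : Subgroup G) := by rw [← hmax]; exact le_sup_right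
  exact le_trans (le_inf hCT le_rfl) hC

end Cfsg.Agent.S2960
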