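import Cfsg.Statements.S2961
import Cfsg.Agent.Lib.Helper49.PCoreBasics
import Cfsg.Agent.S2960

set_option autoImplicit false
open Cfsg

namespace Cfsg.Agent.S2961

open Cfsg.Agent.Lib.Helper49

/-- the elements `h` of `L` with `[u, h] ∈ L` for all `u ∈ P`, as a subgroup of `L`. -/
def commSub {G : Type*} [Group G] (P L : Subgroup G) : Subgroup ↥L where
  carrier := {h | ∀ u ∈ P, u * (h : G) * u⁻¹ * (h : G)⁻¹ ∈ L}
  one_mem' := by
    intro u _
    simp
  mul_mem' := by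
    intro g h hg hh u hu
    have h1 : u * ((g * h : ↥L) : G) * u⁻¹ * ((g * h : ↥L) : G)⁻¹
        = (u * (g : G) * u⁻¹ * (g : G)⁻¹) * ((g : G) * (u * (h : G) * u⁻¹ * (h : G)⁻¹) * (g : G)⁻¹) := by
      simp only [Subgroup.coe_mul]; group
    rw [h1]
    exact L.mul_mem (hg u hu) (L.mul_mem (L.mul_mem g.2 (hh u hu)) (L.inv_mem g.2))
  inv_mem' := by
    intro h hh u hu
    have h1 : u * ((h⁻¹ : ↥L) : G) * u⁻¹ * ((h⁻¹ : ↥L) : G)⁻¹
        = (h : G)⁻¹ * (u * (h : G) * u⁻¹ * (h : G)⁻¹)⁻¹ * (h : G) := by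
      simp only [Subgroup.coe_inv]; group
    rw [h1]
    exact L.mul_mem (L.mul_mem (L.inv_mem h.2) (L.inv_mem (hh u hu))) h.2

theorem mem_commSub {G : Type*} [Group G] (P L : Subgroup G) (h : ↥L) :
    h ∈ commSub P L ↔ ∀ u ∈ P, u * (h : G) * u⁻¹ * (h : G)⁻¹ ∈ L := Iff.rfl

theorem commSub_normal {G : Type*} [Group G] (P L : Subgroup G) (hP : P.Normal) :
    (commSub P L).Normal := by
  constructor
  intro h hh l u hu
  have hu' : (l : G)⁻¹ * u * (l : G) ∈ P := by
    have := hP.conj_mem u hu (l : G)⁻¹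
    simpa using this
  have h1 : u * ((l * h * l⁻¹ : ↥L) : G) * u⁻¹ * ((l * h * l⁻¹ : ↥L) : G)⁻¹
      = (l : G) * (((l : G)⁻¹ * u * (l : G)) * (h : G) * ((l : G)⁻¹ * u * (l : G))⁻¹ * (h : G)⁻¹) * (l : G)⁻¹ := by
    simp only [Subgroup.coe_mul, Subgroup.coe_inv]; group
  rw [h1]
  exact L.mul_mem (L.mul_mem l.2 (hh _ hu')) (L.inv_mem l.2)

/-- Let G be a finite group of characteristic p (C_G(O_p(G)) ≤ O_p(G)), p prime, T a Sylow p-subgroup of G and Q a normal subgroup of T with C_T(Q) ≤ Q. Then every subgroup L of G containing Q has characteristic p: C_L(O_p(L)) ≤ O_p(L). -/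
theorem result {G : Type*} [Group G] [Finite G] {p : ℕ} [Fact p.Prime] (hG : Subgroup.centralizer (Cfsg.pCore p G : Set G) ≤ Cfsg.pCore p G) (T : Sylow p G) (Q : Subgroup G) (hQT : Q ≤ (T : Subgroup G)) (hQn : (T : Subgroup G) ≤ Subgroup.normalizer (Q : Set G)) (hC : (T : Subgroup G) ⊓ Subgroup.centralizer (Q : Set G) ≤ Q) (L : Subgroup G) (hQL : Q ≤ L) : Subgroup.centralizer (Cfsg.pCore p ↥L : Set ↥L) ≤ Cfsg.pCore p ↥L := by
  have hCQ : Subgroup.centralizer (Q : Set G) ≤ Q := Cfsg.Agent.S2960.result hG T Q hQT hQn hC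
  have hPn : (Cfsg.pCore p G).Normal := pCore_normal' p G
  have hPp : IsPGroup p ↥(Cfsg.pCore p G) := pCore_isPGroup' p G
  have hPT : Cfsg.pCore p G ≤ (T : Subgroup G) := hPp.le_sylow_of_normal T
  have hUn : (Cfsg.pCore p ↥L).Normal := pCore_normal' p ↥L
  have hUp : IsPGroup p ↥(Cfsg.pCore p ↥L) := pCore_isPGroup' p ↥L
  have hCn : (Subgroup.centralizer (Cfsg.pCore p ↥L : Set ↥L)).Normal := Subgroup.normal_centralizer
  have hSn : (commSub (Cfsg.pCore p G) L).Normal := commSub_normal _ L hPn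
  -- (P ⊓ L) inside L is contained in O_p(L)
  have hPL : (Cfsg.pCore p G).subgroupOf L ≤ Cfsg.pCore p ↥L := by
    apply le_pCore'
    · exact Subgroup.Normal.subgroupOf hPn L
    · exact hPp.comap_subtype
  -- Lemma A: p'-elements of C ⊓ S are trivial
  have hA : ∀ y : ↥L, y ∈ Subgroup.centralizer (Cfsg.pCore p ↥L : Set ↥L) →
      y ∈ commSub (Cfsg.pCore p G) L → (orderOf y).Coprime p → y = 1 := by
    intro y hyC hyS hcop
    have hcop' : (orderOf (y : G)).Coprime p := by rw [Subgroup.orderOf_coe]; exact hcop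
    have hcent : (y : G) ∈ Subgroup.centralizer (Cfsg.pCore p G : Set G) := by
      rw [Subgroup.mem_centralizer_iff]
      intro u hu
      have hu' : u ∈ Cfsg.pCore p G := hu
      symm
      have hmemP : (y : G) * u * (y : G)⁻¹ * u⁻¹ ∈ Cfsg.pCore p G :=
        (Cfsg.pCore p G).mul_mem (hPn.conj_mem u hu' (y : G)) ((Cfsg.pCore p G).inv_mem hu')
      have hmemL : (y : G) * u * (y : G)⁻¹ * u⁻¹ ∈ L := by
        have h1 := hyS u hu'
        have h2 : (y : G) * u * (y : G)⁻¹ * u⁻¹ = (u * (y : G) * u⁻¹ * (y : G)⁻¹)⁻¹ := by group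
        rw [h2]; exact L.inv_mem h1
      apply commute_of_coprime_of_commutator (p := p) (y : G) u hcop'
      · obtain ⟨k, hk⟩ := hPp ⟨_, hmemP⟩
        refine ⟨k, ?_⟩
        have := congrArg Subtype.val hk
        simpa using this
      · have hmemQ : (⟨_, hmemL⟩ : ↥L) ∈ Cfsg.pCore p ↥L := hPL (by
          rw [Subgroup.mem_subgroupOf]; exact hmemP)
        have := (Subgroup.mem_centralizer_iff.mp hyC) _ hmemQ
        have h3 := congrArg Subtype.val this
        simp only [Subgroup.coe_mul] at h3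
        exact h3.symm
    have hyP : (y : G) ∈ Cfsg.pCore p G := hG hcent
    have := eq_one_of_coprime_of_isPGroup hPp ⟨(y : G), hyP⟩ (by
      rw [← Subgroup.orderOf_coe]; exact hcop')
    apply Subtype.ext
    have h9 : (y : G) = 1 := congrArg Subtype.val this
    exact h9
  -- C ⊓ S ≤ O_p(L)
  have hCS : Subgroup.centralizer (Cfsg.pCore p ↥L : Set ↥L) ⊓ commSub (Cfsg.pCore p G) L
      ≤ Cfsg.pCore p ↥L := by
    apply le_pCore' _ (Subgroup.normal_inf_normal _ _)
    apply isPGroup_of_coprime_trivial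
    rintro ⟨y, hy1, hy2⟩ hcop
    have := hA y hy1 hy2 (by rw [← Subgroup.orderOf_coe] at hcop; exact hcop)
    exact Subtype.ext this
  -- Q ≤ S
  have hQS : ∀ q : ↥L, (q : G) ∈ Q → q ∈ commSub (Cfsg.pCore p G) L := by
    intro q hq u hu
    have h1 : u * (q : G) * u⁻¹ ∈ Q :=
      (Subgroup.mem_normalizer_iff.mp (hQn (hPT hu)) _).mp hq
    exact hQL (Q.mul_mem h1 (Q.inv_mem hq))
  -- Lemma B: p'-elements of C are trivial
  apply le_pCore' _ hCn
  apply isPGroup_of_coprime_trivial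
  rintro ⟨x, hx⟩ hcop
  have hcop' : (orderOf x).Coprime p := by rw [← Subgroup.orderOf_coe] at hcop; exact hcop
  have hxQ : (x : G) ∈ Subgroup.centralizer (Q : Set G) := by
    rw [Subgroup.mem_centralizer_iff]
    intro q hq
    set q' : ↥L := ⟨q, hQL hq⟩ with hq'
    have hq'S : q' ∈ commSub (Cfsg.pCore p G) L := hQS q' hq
    have hcC : x * q' * x⁻¹ * q'⁻¹ ∈ Subgroup.centralizer (Cfsg.pCore p ↥L : Set ↥L) := by
      have h1 : q' * x⁻¹ * q'⁻¹ ∈ Subgroup.centralizer (Cfsg.pCore p ↥L : Set ↥L) :=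
        hCn.conj_mem _ (Subgroup.inv_mem _ hx) q'
      have h2 : x * q' * x⁻¹ * q'⁻¹ = x * (q' * x⁻¹ * q'⁻¹) := by group
      rw [h2]; exact Subgroup.mul_mem _ hx h1
    have hcS : x * q' * x⁻¹ * q'⁻¹ ∈ commSub (Cfsg.pCore p G) L :=
      Subgroup.mul_mem _ (hSn.conj_mem _ hq'S x) (Subgroup.inv_mem _ hq'S)
    have hcU : x * q' * x⁻¹ * q'⁻¹ ∈ Cfsg.pCore p ↥L := hCS ⟨hcC, hcS⟩
    have hcomm : x * q' = q' * x := by
      apply commute_of_coprime_of_commutator (p := p) x q' hcop'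
      · obtain ⟨k, hk⟩ := hUp ⟨_, hcU⟩
        refine ⟨k, ?_⟩
        have := congrArg Subtype.val hk
        simpa using this
      · exact ((Subgroup.mem_centralizer_iff.mp hx) _ hcU).symm
    have := congrArg Subtype.val hcomm
    simp only [Subgroup.coe_mul, hq'] at this
    exact this.symm
  have hxQ' : (x : G) ∈ Q := hCQ hxQ
  have hQp : IsPGroup p ↥Q := T.isPGroup'.to_le hQT
  have := eq_one_of_coprime_of_isPGroup hQp ⟨(x : G), hxQ'⟩ (by
    rw [← Subgroup.orderOf_coe]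
    show (orderOf (x : G)).Coprime p
    rw [Subgroup.orderOf_coe]; exact hcop')
  apply Subtype.ext
  apply Subtype.ext
  have h9 : (x : G) = 1 := congrArg Subtype.val this
  exact h9

end Cfsg.Agent.S2961
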