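import Cfsg.Statements.S2963
import Mathlib.GroupTheory.Perm.MaximalSubgroups

set_option autoImplicit false
open Cfsg
open scoped Pointwise

namespace Cfsg.Agent.S2963

/-- Let n be odd. If the symmetric group of degree n is a minimal parabolic group for the prime 2, that is, a Sylow 2-subgroup is not normal and lies in exactly one maximal subgroup, then n = 2^m + 1 for some natural number m. -/
theorem result (n : ℕ) (hn : Odd n) (h : Cfsg.IsPMinimal 2 (Equiv.Perm (Fin n))) : ∃ m : ℕ, n = 2 ^ m + 1 := by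
  classical
  have hp2 : Fact (Nat.Prime 2) := ⟨Nat.prime_two⟩
  obtain ⟨S⟩ : Nonempty (Sylow 2 (Equiv.Perm (Fin n))) := inferInstance
  obtain ⟨hnn, M, ⟨hMco, hSM⟩, hMuniq⟩ := h S
  -- n ≠ 1
  have hn1 : n ≠ 1 := by
    rintro rfl
    apply hnn
    have : (S : Subgroup (Equiv.Perm (Fin 1))) = ⊤ := Subsingleton.elim _ _
    rw [this]; infer_instance
  have hn3 : 3 ≤ n := by
    obtain ⟨k, hk⟩ := hn
    omega
  -- fixed point of S
  have hfix : (MulAction.fixedPoints ↥(S : Subgroup (Equiv.Perm (Fin n))) (Fin n)).Nonempty := by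
    apply IsPGroup.nonempty_fixed_point_of_prime_not_dvd_card (p := 2) S.isPGroup'
    rw [Nat.card_eq_fintype_card, Fintype.card_fin]
    intro h2
    exact (Nat.not_even_iff_odd.mpr hn) (even_iff_two_dvd.mpr h2)
  obtain ⟨x, hx⟩ := hfix
  have hx' : ∀ g ∈ (S : Subgroup (Equiv.Perm (Fin n))), g x = x := by
    intro g hg
    exact hx ⟨g, hg⟩
  have hcardne : ∀ s : Set (Fin n), Nat.card (Fin n) ≠ 2 * s.ncard := by
    intro s hs
    rw [Nat.card_eq_fintype_card, Fintype.card_fin] at hs
    exact (Nat.not_even_iff_odd.mpr hn) ⟨s.ncard, by omega⟩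
  -- another point
  have hy : ∃ y : Fin n, y ≠ x := by
    by_contra hcon
    push Not at hcon
    have : Fintype.card (Fin n) ≤ 1 := Fintype.card_le_one_iff.mpr (fun a b => by rw [hcon a, hcon b])
    rw [Fintype.card_fin] at this
    omega
  obtain ⟨y, hyx⟩ := hy
  -- first coatom: stabilizer of {x}
  have hco1 : IsCoatom (MulAction.stabilizer (Equiv.Perm (Fin n)) ({x} : Set (Fin n))) := by
    apply Equiv.Perm.isCoatom_stabilizer (Set.singleton_nonempty x) ⟨y, hyx⟩ (hcardne _)
  have hS1 : (S : Subgroup (Equiv.Perm (Fin n))) ≤ MulAction.stabilizer (Equiv.Perm (Fin n)) ({x} : Set (Fin n)) := by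
    intro g hg
    rw [MulAction.mem_stabilizer_iff, Set.smul_set_singleton]
    congr 1
    exact hx' g hg
  -- second coatom: stabilizer of the orbit of y
  set B : Set (Fin n) := MulAction.orbit ↥(S : Subgroup (Equiv.Perm (Fin n))) y with hB
  have hyB : y ∈ B := MulAction.mem_orbit_self y
  have hxB : x ∉ B := by
    rintro ⟨s, hs⟩
    apply hyx
    have h1 : (s : Equiv.Perm (Fin n)) y = x := hs
    have h2 : (s : Equiv.Perm (Fin n)) x = x := hx' s s.2
    exact (s : Equiv.Perm (Fin n)).injective (h1.trans h2.symm)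
  have hco2 : IsCoatom (MulAction.stabilizer (Equiv.Perm (Fin n)) B) :=
    Equiv.Perm.isCoatom_stabilizer ⟨y, hyB⟩ ⟨x, hxB⟩ (hcardne _)
  have hS2 : (S : Subgroup (Equiv.Perm (Fin n))) ≤ MulAction.stabilizer (Equiv.Perm (Fin n)) B := by
    intro g hg
    rw [MulAction.mem_stabilizer_iff]
    have := MulAction.smul_orbit (⟨g, hg⟩ : ↥(S : Subgroup (Equiv.Perm (Fin n)))) y
    rw [hB]
    exact this
  have heq : MulAction.stabilizer (Equiv.Perm (Fin n)) B
      = MulAction.stabilizer (Equiv.Perm (Fin n)) ({x} : Set (Fin n)) :=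
    (hMuniq _ ⟨hco2, hS2⟩).trans (hMuniq _ ⟨hco1, hS1⟩).symm
  -- B = {x}ᶜ
  have hBeq : B = ({x} : Set (Fin n))ᶜ := by
    ext z
    simp only [Set.mem_compl_iff, Set.mem_singleton_iff]
    constructor
    · intro hz hzx
      exact hxB (hzx ▸ hz)
    · intro hzx
      by_contra hzB
      have hsw : Equiv.swap x z ∈ MulAction.stabilizer (Equiv.Perm (Fin n)) B := by
        rw [MulAction.mem_stabilizer_iff]
        ext w
        rw [Set.mem_smul_set]
        constructor
        · rintro ⟨v, hv, rfl⟩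
          have hvx : v ≠ x := fun hh => hxB (hh ▸ hv)
          have hvz : v ≠ z := fun hh => hzB (hh ▸ hv)
          show Equiv.swap x z v ∈ B
          rw [Equiv.swap_apply_of_ne_of_ne hvx hvz]; exact hv
        · intro hw
          have hwx : w ≠ x := fun hh => hxB (hh ▸ hw)
          have hwz : w ≠ z := fun hh => hzB (hh ▸ hw)
          refine ⟨w, hw, ?_⟩
          show Equiv.swap x z w = w
          exact Equiv.swap_apply_of_ne_of_ne hwx hwz
      rw [heq, MulAction.mem_stabilizer_iff, Set.smul_set_singleton] at hsw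
      have h1 : Equiv.swap x z • x = x := Set.singleton_injective hsw
      have h2 : Equiv.swap x z x = x := h1
      rw [Equiv.swap_apply_left] at h2
      exact hzx h2
  -- cardinality of B
  have hBcard : Nat.card B = n - 1 := by
    rw [hBeq, Nat.card_coe_set_eq, Set.ncard_compl, Set.ncard_singleton, Nat.card_eq_fintype_card,
      Fintype.card_fin]
  have hdvd : Nat.card B ∣ Nat.card ↥(S : Subgroup (Equiv.Perm (Fin n))) := by
    rw [Nat.card_coe_set_eq, hB, ← MulAction.index_stabilizer]
    exact Subgroup.index_dvd_card _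
  obtain ⟨k, hk⟩ := IsPGroup.iff_card.mp S.isPGroup'
  rw [hk, hBcard] at hdvd
  obtain ⟨m, -, hm⟩ := (Nat.dvd_prime_pow Nat.prime_two).mp hdvd
  exact ⟨m, by omega⟩

end Cfsg.Agent.S2963
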