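import Cfsg.Statements.S2968
import Cfsg.Agent.Lib.Helper49.Isolated

set_option autoImplicit false
open Cfsg

namespace Cfsg.Agent.S2968

open Cfsg.Agent.Lib.Helper49

theorem conj_zpow {G : Type*} [Group G] (g x : G) (k : ℤ) : g * x ^ k * g⁻¹ = (g * x * g⁻¹) ^ k := by
  have := map_zpow (MulAut.conj g) x k
  simpa [MulAut.conj_apply] using this

/-- Let G be a finite group, p a prime, P a Sylow p-subgroup of G and x ∈ P an element of p-power order which is isolated in G (the only conjugate of x commuting with x is x itself). Then x lies in the centre of P, and the subgroup generated by x is both strongly closed and weakly closed in P with respect to G. -/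
theorem result {G : Type*} [Group G] [Finite G] {p : ℕ} [Fact p.Prime] (P : Sylow p G) (x : G) (hxP : x ∈ (P : Subgroup G)) (hx : ∃ k : ℕ, orderOf x = p ^ k) (hiso : Cfsg.IsIsolated x) : x ∈ (P : Subgroup G) ⊓ Subgroup.centralizer ((P : Subgroup G) : Set G) ∧ Cfsg.IsStronglyClosed (Subgroup.zpowers x) (P : Subgroup G) ∧ Cfsg.IsWeaklyClosed (Subgroup.zpowers x) (P : Subgroup G) := by
  have hnil : Group.IsNilpotent ↥(P : Subgroup G) := P.isPGroup'.isNilpotent
  have hcen : ∀ r ∈ (P : Subgroup G), r * x = x * r :=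
    isolated_commute_of_nilpotent hiso (P : Subgroup G) hxP
  have hzP : Subgroup.zpowers x ≤ (P : Subgroup G) := Subgroup.zpowers_le.mpr hxP
  refine ⟨⟨hxP, ?_⟩, ⟨hzP, ?_⟩, ⟨hzP, ?_⟩⟩
  · show x ∈ Subgroup.centralizer ((P : Subgroup G) : Set G)
    rw [Subgroup.mem_centralizer_iff]
    intro r hr
    exact hcen r hr
  · -- strongly closed
    intro y hy g hgy
    obtain ⟨k, rfl⟩ := Subgroup.mem_zpowers_iff.mp hy
    -- z = g x g⁻¹, z^k ∈ P
    set z := g * x * g⁻¹ with hz
    have hzk : g * x ^ k * g⁻¹ = z ^ k := conj_zpow g x k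
    rw [hzk] at hgy ⊢
    -- x, z ∈ C = centralizer {z^k}
    have hxC : x ∈ Subgroup.centralizer ({z ^ k} : Set G) := by
      rw [Subgroup.mem_centralizer_iff]
      intro w hw
      rw [Set.mem_singleton_iff.mp hw]
      exact hcen _ hgy
    have hzC : g * x * g⁻¹ ∈ Subgroup.centralizer ({z ^ k} : Set G) := by
      rw [Subgroup.mem_centralizer_iff]
      intro w hw
      rw [Set.mem_singleton_iff.mp hw, ← hz]
      exact ((Commute.refl z).zpow_left k).eq
    obtain ⟨c, hcC, hc⟩ := isolated_conj_in_subgroup hiso hx _ hxC g hzC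
    -- x^k = c z^k c⁻¹ = z^k
    have h1 : x ^ k = c * z ^ k * c⁻¹ := by
      rw [conj_zpow, hz, hc]
    have h2 : c * z ^ k * c⁻¹ = z ^ k := by
      have := (Subgroup.mem_centralizer_iff.mp hcC) (z ^ k) rfl
      calc c * z ^ k * c⁻¹ = (z ^ k * c) * c⁻¹ := by rw [this]
        _ = z ^ k := by group
    rw [← h2, ← h1]
    exact Subgroup.zpow_mem _ (Subgroup.mem_zpowers x) k
  · -- weakly closed
    intro g hg
    have h1 : g * x * g⁻¹ ∈ (P : Subgroup G) :=
      hg ⟨x, Subgroup.mem_zpowers x, by simp [MulAut.conj_apply]⟩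
    have h2 : Commute x (g * x * g⁻¹) := (hcen _ h1).symm
    have h3 := hiso g h2
    rw [MonoidHom.map_zpowers]
    congr 1

end Cfsg.Agent.S2968
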