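import Cfsg.Statements.S2970
import Cfsg.Agent.Lib.Helper49.Isolated
import Cfsg.Agent.Lib.Helper49.CyclicSylow

set_option autoImplicit false
open Cfsg

namespace Cfsg.Agent.S2970

open Cfsg.Agent.Lib.Helper49

/-- Let G be a finite group, p a prime and x ∈ G an element of p-power order which is isolated in G. Then the image of x in any quotient G ⧸ N is isolated in G ⧸ N; and if x ≠ 1 and the Sylow p-subgroups of G are cyclic, then G has a normal p-complement. -/
theorem result {G : Type*} [Group G] [Finite G] {p : ℕ} [Fact p.Prime] (x : G) (hx : ∃ k : ℕ, orderOf x = p ^ k) (hiso : Cfsg.IsIsolated x) : (∀ (N : Subgroup G) [N.Normal], Cfsg.IsIsolated (QuotientGroup.mk x : G ⧸ N)) ∧ (x ≠ 1 → (∀ P : Sylow p G, IsCyclic ↥(P : Subgroup G)) → Cfsg.HasNormalPComplement p G) := by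
  constructor
  · intro N _ gbar hcomm
    obtain ⟨g, rfl⟩ := QuotientGroup.mk_surjective gbar
    set xbar : G ⧸ N := QuotientGroup.mk x with hxbar
    set D : Subgroup G := (Subgroup.centralizer ({xbar} : Set (G ⧸ N))).comap (QuotientGroup.mk' N)
      with hD
    have hxD : x ∈ D := by
      rw [hD, Subgroup.mem_comap, Subgroup.mem_centralizer_iff]
      intro h hh
      rw [Set.mem_singleton_iff.mp hh]; rfl
    have hzD : g * x * g⁻¹ ∈ D := by
      rw [hD, Subgroup.mem_comap, Subgroup.mem_centralizer_iff]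
      intro h hh
      rw [Set.mem_singleton_iff.mp hh]
      have : (QuotientGroup.mk' N) (g * x * g⁻¹) = (QuotientGroup.mk g : G ⧸ N) * xbar * (QuotientGroup.mk g : G ⧸ N)⁻¹ := by
        simp [hxbar]
      rw [this]
      exact hcomm.eq
    obtain ⟨c, hcD, hc⟩ := isolated_conj_in_subgroup hiso hx D hxD g hzD
    have hcc : xbar * (QuotientGroup.mk c : G ⧸ N) = (QuotientGroup.mk c : G ⧸ N) * xbar := by
      have := hcD
      rw [hD, Subgroup.mem_comap, Subgroup.mem_centralizer_iff] at this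
      exact this xbar rfl
    have h1 : (QuotientGroup.mk c : G ⧸ N) * ((QuotientGroup.mk g : G ⧸ N) * xbar * (QuotientGroup.mk g : G ⧸ N)⁻¹) * (QuotientGroup.mk c : G ⧸ N)⁻¹ = xbar := by
      have := congrArg (QuotientGroup.mk : G → G ⧸ N) hc
      simpa [hxbar] using this
    calc (QuotientGroup.mk g : G ⧸ N) * xbar * (QuotientGroup.mk g : G ⧸ N)⁻¹
        = (QuotientGroup.mk c : G ⧸ N)⁻¹ * ((QuotientGroup.mk c : G ⧸ N) * ((QuotientGroup.mk g : G ⧸ N) * xbar * (QuotientGroup.mk g : G ⧸ N)⁻¹) * (QuotientGroup.mk c : G ⧸ N)⁻¹) * (QuotientGroup.mk c : G ⧸ N) := by group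
      _ = (QuotientGroup.mk c : G ⧸ N)⁻¹ * xbar * (QuotientGroup.mk c : G ⧸ N) := by rw [h1]
      _ = (QuotientGroup.mk c : G ⧸ N)⁻¹ * (xbar * (QuotientGroup.mk c : G ⧸ N)) := by group
      _ = xbar := by rw [hcc]; group
  · intro hx1 hcyc
    obtain ⟨k, hk⟩ := hx
    have hpx : IsPGroup p ↥(Subgroup.zpowers x) := by
      apply IsPGroup.of_card (n := k); rw [Nat.card_zpowers, hk]
    obtain ⟨P, hP⟩ := hpx.exists_le_sylow
    have hxP : x ∈ (P : Subgroup G) := hP (Subgroup.mem_zpowers x)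
    have hN : Subgroup.normalizer ((P : Subgroup G) : Set G) ≤ Subgroup.centralizer ({x} : Set G) :=
      isolated_normalizer_le hiso (P : Subgroup G) P.isPGroup' hxP
    have hNC := cyclic_sylow_normalizer_le_centralizer P (hcyc P) x hx1 hxP hN
    exact ⟨P, (MonoidHom.transferSylow P hNC).ker, MonoidHom.normal_ker _,
      MonoidHom.ker_transferSylow_isComplement' P hNC⟩

end Cfsg.Agent.S2970
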