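import Cfsg.Statements.S2971
import Cfsg.Agent.S2970
import Cfsg.Agent.Lib.Helper49.RankOneCyclic

set_option autoImplicit false
open Cfsg

namespace Cfsg.Agent.S2971

open Cfsg.Agent.Lib.Helper49

/-- Let G be a finite group and p an odd prime such that G has p-rank at most 1 (no elementary abelian subgroup of order p²). If x ∈ G is an isolated element of order p, then x is central modulo the largest normal subgroup of G of order prime to p. -/
theorem result {G : Type*} [Group G] [Finite G] {p : ℕ} [Fact p.Prime] (hp : p ≠ 2) (hrk : Cfsg.PRankLE p 1 G) (x : G) (hx : orderOf x = p) (hiso : Cfsg.IsIsolated x) : Cfsg.InZStar p x := by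
  have hpp : p.Prime := Fact.out
  have hx1 : x ≠ 1 := by
    rintro rfl
    rw [orderOf_one] at hx
    exact hpp.one_lt.ne' hx.symm
  have hcyc : ∀ P : Sylow p G, IsCyclic ↥(P : Subgroup G) := by
    intro P
    apply isCyclic_of_isPGroup_rankLEOne hp P.isPGroup'
    intro A hA hexp
    have h1 := hrk (A.map (P : Subgroup G).subtype) inferInstance (by
      rintro _ ⟨a, ha, rfl⟩
      rw [← map_pow, hexp a ha, map_one])
    rw [pow_one, Subgroup.card_map_of_injective (Subgroup.subtype_injective _)] at h1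
    exact h1
  obtain ⟨P, N, hN, hcompl⟩ := (Cfsg.Agent.S2970.result x ⟨1, by rw [hx, pow_one]⟩ hiso).2 hx1 hcyc
  have hNcop : (Nat.card N).Coprime p := by
    rw [← hcompl.index_eq_card, Nat.coprime_comm, Nat.Prime.coprime_iff_not_dvd hpp]
    exact P.not_dvd_index
  have hNle : N ≤ pPrimeCore p G := le_sSup ⟨hN, hNcop⟩
  intro g
  apply hNle
  have hsurj : Function.Surjective ((QuotientGroup.mk' N).comp (P : Subgroup G).subtype) := by
    intro q
    obtain ⟨g, rfl⟩ := QuotientGroup.mk_surjective q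
    have hg : g ∈ N ⊔ (P : Subgroup G) := hcompl.sup_eq_top ▸ Subgroup.mem_top g
    rw [← SetLike.mem_coe, Subgroup.normal_mul, Set.mem_mul] at hg
    obtain ⟨n, hn, u, hu, rfl⟩ := hg
    refine ⟨⟨u, hu⟩, ?_⟩
    simp only [MonoidHom.coe_comp, Function.comp_apply, Subgroup.subtype_apply, QuotientGroup.mk'_apply,
      QuotientGroup.mk_mul]
    rw [(QuotientGroup.eq_one_iff n).mpr hn, one_mul]
  have hcycQ : IsCyclic (G ⧸ N) := isCyclic_of_surjective _ hsurj
  rw [← QuotientGroup.eq_one_iff]
  have : ((g * x * g⁻¹ * x⁻¹ : G) : G ⧸ N) = (g : G ⧸ N) * (x : G ⧸ N) * (g : G ⧸ N)⁻¹ * (x : G ⧸ N)⁻¹ := by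
    simp
  rw [this, mul_comm' (g : G ⧸ N) (x : G ⧸ N)]
  group

end Cfsg.Agent.S2971
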