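import Cfsg.Statements.S2972
import Cfsg.Agent.Lib.Helper49.ZStarMin

set_option autoImplicit false
open Cfsg

namespace Cfsg.Agent.S2972

open Cfsg.Agent.Lib.Helper49

/-- Let G be a finite group, p a prime and x ∈ G an isolated element of order p (the only conjugate of x commuting with x is x) which is not central modulo the largest normal subgroup of order prime to p, while x is central modulo the largest normal subgroup of order prime to p in every proper subgroup containing x, and the image of x is so in every quotient of G by a nontrivial normal subgroup (a minimal counterexample to the Z*_p statement). Then the derived subgroup G' is a non-abelian simple group and G = G'⟨x⟩. -/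
theorem result {G : Type*} [Group G] [Finite G] {p : ℕ} [Fact p.Prime] (x : G) (hx : orderOf x = p) (hiso : Cfsg.IsIsolated x) (hnz : ¬ Cfsg.InZStar p x) (hmin : ∀ (H : Subgroup G) (hxH : x ∈ H), H ≠ ⊤ → Cfsg.InZStar p (⟨x, hxH⟩ : ↥H)) (hquot : ∀ (N : Subgroup G) [N.Normal], N ≠ ⊥ → Cfsg.InZStar p (QuotientGroup.mk x : G ⧸ N)) : IsSimpleGroup ↥(commutator G) ∧ ¬ IsMulCommutative ↥(commutator G) ∧ commutator G ⊔ Subgroup.zpowers x = ⊤ := by
  have hpp : p.Prime := Fact.out
  have htop : (⊤ : Subgroup G) ≠ ⊥ := by
    intro h
    have h1 : x ∈ (⊥ : Subgroup G) := h ▸ Subgroup.mem_top x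
    rw [Subgroup.mem_bot] at h1
    rw [h1, orderOf_one] at hx
    exact hpp.one_lt.ne' hx.symm
  obtain ⟨M, hM, _⟩ := exists_minNormal_le (⊤ : Subgroup G) inferInstance htop
  have hcomm := zmin_commutator_eq x hx hiso hnz hmin hquot M hM
  subst hcomm
  refine ⟨zmin_minNormal_simple x hx hiso hnz hmin hquot _ hM, ?_,
    zmin_commutator_sup x hiso hnz hmin hquot⟩
  intro hc
  apply zmin_minNormal_not_comm x hx hiso hnz hmin hquot _ hM
  intro a ha b hb
  have h1 := mul_comm' (⟨a, ha⟩ : ↥(commutator G)) ⟨b, hb⟩
  exact congrArg Subtype.val h1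

end Cfsg.Agent.S2972
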