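import Cfsg.Statements.S2975
import Cfsg.Agent.Lib.Helper49.ZStarMin
import Cfsg.Agent.Lib.Helper49.InvariantSylow
import Cfsg.Agent.Lib.Helper49.SingularControl

set_option autoImplicit false
open Cfsg

namespace Cfsg.Agent.S2975

open Cfsg.Agent.Lib.Helper49

/-- Let G be a finite group, p a prime and x ∈ G an isolated element of order p (the only conjugate of x commuting with x is x) which is not central modulo the largest normal subgroup of order prime to p, while x is central modulo the largest normal subgroup of order prime to p in every proper subgroup containing x, and the image of x is so in every quotient of G by a nontrivial normal subgroup (a minimal counterexample to the Z*_p statement). Then for every prime q, every q-subgroup of G that is normalized by x and maximal among the q-subgroups normalized by x is either trivial or a Sylow q-subgroup of G; and C_G(x) permutes the x-invariant Sylow q-subgroups of G transitively by conjugation. -/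
theorem result {G : Type*} [Group G] [Finite G] {p : ℕ} [Fact p.Prime] (x : G) (hx : orderOf x = p) (hiso : Cfsg.IsIsolated x) (hnz : ¬ Cfsg.InZStar p x) (hmin : ∀ (H : Subgroup G) (hxH : x ∈ H), H ≠ ⊤ → Cfsg.InZStar p (⟨x, hxH⟩ : ↥H)) (hquot : ∀ (N : Subgroup G) [N.Normal], N ≠ ⊥ → Cfsg.InZStar p (QuotientGroup.mk x : G ⧸ N)) (q : ℕ) [Fact q.Prime] : (∀ Q : Subgroup G, IsPGroup q ↥Q → x ∈ Subgroup.normalizer (Q : Set G) → (∀ R : Subgroup G, IsPGroup q ↥R → x ∈ Subgroup.normalizer (R : Set G) → Q ≤ R → R = Q) → Q = ⊥ ∨ ∃ S : Sylow q G, (S : Subgroup G) = Q) ∧ (∀ S₁ S₂ : Sylow q G, x ∈ Subgroup.normalizer ((S₁ : Subgroup G) : Set G) → x ∈ Subgroup.normalizer ((S₂ : Subgroup G) : Set G) → ∃ c ∈ Subgroup.centralizer ({x} : Set G), (S₁ : Subgroup G).map (MulAut.conj c).toMonoidHom = (S₂ : Subgroup G)) := by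
  have hpp : p.Prime := Fact.out
  have hqq : q.Prime := Fact.out
  constructor
  · intro Q hQ hxQ hmax
    by_cases hQb : Q = ⊥
    · left; exact hQb
    right
    by_cases hpq : q = p
    · subst hpq
      have hxp : IsPGroup q ↥(Subgroup.zpowers x) :=
        IsPGroup.of_card (n := 1) (by rw [Nat.card_zpowers, hx, pow_one])
      have hzN : Subgroup.zpowers x ≤ Subgroup.normalizer (Q : Set G) := by
        rw [Subgroup.zpowers_le]; exact hxQ
      have hsup : IsPGroup q ↥(Subgroup.zpowers x ⊔ Q) := IsPGroup.to_sup_of_normal_right' hxp hQ hzN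
      obtain ⟨P, hP⟩ := hsup.exists_le_sylow
      have hxP : x ∈ (P : Subgroup G) :=
        hP ((le_sup_left : Subgroup.zpowers x ≤ _) (Subgroup.mem_zpowers x))
      have hQP : Q ≤ (P : Subgroup G) := le_trans le_sup_right hP
      exact ⟨P, hmax P P.isPGroup' (Subgroup.le_normalizer hxP) hQP⟩
    · have hcore := zmin_core_eq_bot x hnz hquot
      have hNtop : Subgroup.normalizer (Q : Set G) ≠ ⊤ := by
        intro h
        have hQn : Q.Normal := Subgroup.normalizer_eq_top_iff.mp h
        have hcop : (Nat.card ↥Q).Coprime p := by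
          obtain ⟨k, hk⟩ := IsPGroup.iff_card.mp hQ
          rw [hk]
          exact Nat.Coprime.pow_left _ ((Nat.coprime_primes hqq hpp).mpr hpq)
        have h1 : Q ≤ Cfsg.pPrimeCore p G := le_sSup ⟨hQn, hcop⟩
        rw [hcore, le_bot_iff] at h1
        exact hQb h1
      have hz := hmin (Subgroup.normalizer (Q : Set G)) hxQ hNtop
      obtain ⟨R_N, hR1, hR2, hR3⟩ := exists_invariant_sylow_of_inZStar hpq
        (⟨x, hxQ⟩ : ↥(Subgroup.normalizer (Q : Set G))) (by rw [Subgroup.orderOf_mk]; exact hx) hz
      have hQN : Q.subgroupOf (Subgroup.normalizer (Q : Set G)) ≤ R_N := by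
        have hQNp : IsPGroup q ↥(Q.subgroupOf (Subgroup.normalizer (Q : Set G))) := hQ.comap_subtype
        have hQNn : (Q.subgroupOf (Subgroup.normalizer (Q : Set G))).Normal :=
          Subgroup.normal_in_normalizer
        obtain ⟨R₁, hR₁⟩ := hQNp.exists_le_sylow
        obtain ⟨g, hg⟩ := MulAction.exists_smul_eq ↥(Subgroup.normalizer (Q : Set G)) R₁
          (Sylow.ofCard R_N hR2)
        intro z hz'
        have h1 : g⁻¹ * z * g ∈ Q.subgroupOf (Subgroup.normalizer (Q : Set G)) := by
          have := hQNn.conj_mem z hz' g⁻¹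
          rwa [inv_inv] at this
        have h2 : z ∈ ((g • R₁ : Sylow q ↥(Subgroup.normalizer (Q : Set G))) :
            Subgroup ↥(Subgroup.normalizer (Q : Set G))) := by
          rw [mem_smul_sylow_iff]; exact hR₁ h1
        rw [hg] at h2
        exact h2
      have hQR : Q ≤ R_N.map (Subgroup.normalizer (Q : Set G)).subtype := by
        intro z hz'
        exact ⟨⟨z, Subgroup.le_normalizer hz'⟩, hQN (Subgroup.mem_subgroupOf.mpr hz'), rfl⟩
      have hxR : x ∈ Subgroup.normalizer
          ((R_N.map (Subgroup.normalizer (Q : Set G)).subtype : Subgroup G) : Set G) := by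
        apply Cfsg.Agent.Lib.Helper50.mem_normalizer_of_conj_mem
        rintro _ ⟨z, hz', rfl⟩
        have h5 := (Subgroup.mem_normalizer_iff.mp hR3 z).mp hz'
        exact ⟨_, h5, by simp⟩
      have hRQ := hmax _ (hR1.map _) hxR hQR
      have hcardQ : Nat.card ↥Q = q ^ (Nat.card ↥(Subgroup.normalizer (Q : Set G))).factorization q := by
        have h7 : Nat.card ↥(R_N.map (Subgroup.normalizer (Q : Set G)).subtype) =
            q ^ (Nat.card ↥(Subgroup.normalizer (Q : Set G))).factorization q := by
          rw [Subgroup.card_map_of_injective (Subgroup.subtype_injective _), hR2]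
        rw [hRQ] at h7
        exact h7
      obtain ⟨S, hS⟩ := hQ.exists_le_sylow
      refine ⟨S, ?_⟩
      by_contra hne
      have hlt := card_lt_card_inf_normalizer S Q hS (fun e => hne e.symm)
      have hTp : IsPGroup q ↥((S : Subgroup G) ⊓ Subgroup.normalizer (Q : Set G)) :=
        S.isPGroup'.to_le inf_le_left
      obtain ⟨j, hj⟩ := IsPGroup.iff_card.mp hTp
      have hdvd : q ^ j ∣ Nat.card ↥(Subgroup.normalizer (Q : Set G)) := by
        rw [← hj]; exact Subgroup.card_dvd_of_le inf_le_right
      have hjle : j ≤ (Nat.card ↥(Subgroup.normalizer (Q : Set G))).factorization q :=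
        (hqq.pow_dvd_iff_le_factorization Nat.card_pos.ne').mp hdvd
      rw [hj, hcardQ] at hlt
      have h6 := Nat.pow_le_pow_right hqq.pos hjle
      omega
  · intro S₁ S₂ hx1 hx2
    obtain ⟨g, hg⟩ := MulAction.exists_smul_eq G S₁ S₂
    have hgx : g * x * g⁻¹ ∈ Subgroup.normalizer ((S₂ : Subgroup G) : Set G) := by
      rw [← hg, coe_smul_sylow, ← Subgroup.map_equiv_normalizer_eq]
      exact ⟨x, hx1, rfl⟩
    obtain ⟨c, hc, hcx⟩ := isolated_conj_in_subgroup hiso ⟨1, by rw [hx, pow_one]⟩
      (Subgroup.normalizer ((S₂ : Subgroup G) : Set G)) hx2 g hgx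
    refine ⟨c * g, ?_, ?_⟩
    · rw [Subgroup.mem_centralizer_singleton_iff]
      calc c * g * x = (c * (g * x * g⁻¹) * c⁻¹) * (c * g) := by group
        _ = x * (c * g) := by rw [hcx]
    · have h1 : (c * g) • S₁ = S₂ := by
        rw [mul_smul, hg]
        exact Sylow.smul_eq_iff_mem_normalizer.mpr hc
      rw [← coe_smul_sylow, h1]

end Cfsg.Agent.S2975
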