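import Cfsg.Statements.S2998
import Cfsg.Agent.Lib.Helper50.Basic

set_option autoImplicit false
open Cfsg

namespace Cfsg.Agent.S2998

open Cfsg.Agent.Lib.Helper50

/-- Let G be a finite group, p a prime, P a Sylow p-subgroup of G and x ∈ P an element such that N_G(R) ≤ C_G(x) for every nontrivial subgroup R of P. Then P ≤ C_G(x); every G-conjugate of x lying in P equals x (so g ∈ C_G(x) whenever g x g⁻¹ ∈ P); and for every normal subgroup N of G, the image of x in G ⧸ N has the same property with respect to the image of P: the normalizer of every nontrivial subgroup of the image of P centralizes the image of x. -/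
theorem result {G : Type*} [Group G] [Finite G] {p : ℕ} [Fact p.Prime] (P : Sylow p G) (x : G) (hxP : x ∈ (P : Subgroup G)) (hlc : ∀ R : Subgroup G, R ≤ (P : Subgroup G) → R ≠ ⊥ → Subgroup.normalizer (R : Set G) ≤ Subgroup.centralizer ({x} : Set G)) : (P : Subgroup G) ≤ Subgroup.centralizer ({x} : Set G) ∧ (∀ g : G, g * x * g⁻¹ ∈ (P : Subgroup G) → g * x * g⁻¹ = x) ∧ ∀ (N : Subgroup G) [N.Normal], ∀ R : Subgroup (G ⧸ N), R ≤ (P : Subgroup G).map (QuotientGroup.mk' N) → R ≠ ⊥ → Subgroup.normalizer (R : Set (G ⧸ N)) ≤ Subgroup.centralizer ({(QuotientGroup.mk x : G ⧸ N)} : Set (G ⧸ N)) := by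
  have h1 : (P : Subgroup G) ≤ Subgroup.centralizer ({x} : Set G) := by
    by_cases hP : (P : Subgroup G) = ⊥
    · rw [hP]; exact bot_le
    · exact le_trans Subgroup.le_normalizer (hlc P le_rfl hP)
  have hcomm : ∀ y ∈ (P : Subgroup G), y * x = x * y := by
    intro y hy
    have := h1 hy
    rw [Subgroup.mem_centralizer_iff] at this
    exact (this x (Set.mem_singleton x)).symm
  refine ⟨h1, ?_, ?_⟩
  · intro g hg
    by_cases hx1 : x = 1
    · subst hx1; simp
    set y := g * x * g⁻¹ with hy
    have hy1 : y ≠ 1 := by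
      intro h
      apply hx1
      have : g * x * g⁻¹ = 1 := h
      have h2 : x = g⁻¹ * (g * x * g⁻¹) * g := by group
      rw [h2, this]; group
    have hPbot : (P : Subgroup G) ≠ ⊥ := by
      intro h
      rw [h] at hxP
      exact hx1 (Subgroup.mem_bot.mp hxP)
    -- C(y) ≤ C(x)
    have hcy : Subgroup.centralizer ({y} : Set G) ≤ Subgroup.centralizer ({x} : Set G) := by
      have hz : Subgroup.zpowers y ≤ (P : Subgroup G) := by
        rw [Subgroup.zpowers_le]; exact hg
      have hzb : Subgroup.zpowers y ≠ ⊥ := by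
        rw [Ne, Subgroup.zpowers_eq_bot]; exact hy1
      refine le_trans ?_ (hlc _ hz hzb)
      intro c hc
      rw [Subgroup.mem_centralizer_iff] at hc
      have hcy : c * y = y * c := (hc y (Set.mem_singleton y)).symm
      apply mem_normalizer_of_conj_mem
      intro z hz
      rw [Subgroup.mem_zpowers_iff] at hz ⊢
      obtain ⟨k, rfl⟩ := hz
      refine ⟨k, ?_⟩
      have hck : Commute c (y ^ k) := (Commute.zpow_right hcy k)
      rw [hck.eq]; group
    -- cardinalities
    have hcard : Nat.card (Subgroup.centralizer ({x} : Set G)) ≤ Nat.card (Subgroup.centralizer ({y} : Set G)) := by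
      apply Nat.card_le_card_of_injective (fun c : Subgroup.centralizer ({x} : Set G) =>
        (⟨g * c * g⁻¹, by
          rw [Subgroup.mem_centralizer_iff]
          intro z hz
          rw [Set.mem_singleton_iff] at hz
          subst hz
          have hc := c.2
          rw [Subgroup.mem_centralizer_iff] at hc
          have hcx : x * (c : G) = c * x := hc x (Set.mem_singleton x)
          rw [hy]
          calc g * x * g⁻¹ * (g * c * g⁻¹) = g * (x * c) * g⁻¹ := by group
            _ = g * (c * x) * g⁻¹ := by rw [hcx]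
            _ = g * c * g⁻¹ * (g * x * g⁻¹) := by group⟩ : Subgroup.centralizer ({y} : Set G)))
      intro a b hab
      have : g * (a : G) * g⁻¹ = g * (b : G) * g⁻¹ := congrArg Subtype.val hab
      apply Subtype.ext
      simpa using this
    have heq : Subgroup.centralizer ({y} : Set G) = Subgroup.centralizer ({x} : Set G) :=
      Subgroup.eq_of_le_of_card_ge hcy hcard
    have hxc : x ∈ Subgroup.centralizer ((P : Subgroup G) : Set G) := by
      rw [Subgroup.mem_centralizer_iff]
      intro z hz
      exact hcomm z hz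
    have hyc : g⁻¹⁻¹ * x * g⁻¹ ∈ Subgroup.centralizer ((P : Subgroup G) : Set G) := by
      rw [inv_inv, Subgroup.mem_centralizer_iff]
      intro z hz
      have : z ∈ Subgroup.centralizer ({y} : Set G) := by
        rw [heq]; exact h1 hz
      rw [Subgroup.mem_centralizer_iff] at this
      exact (this y (Set.mem_singleton y)).symm
    obtain ⟨n, hn, hnx⟩ := Sylow.conj_eq_normalizer_conj_of_mem_centralizer P x g⁻¹ hxc hyc
    rw [inv_inv] at hnx
    have hnc : n ∈ Subgroup.centralizer ({x} : Set G) := hlc P le_rfl hPbot hn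
    rw [Subgroup.mem_centralizer_iff] at hnc
    have : x * n = n * x := hnc x (Set.mem_singleton x)
    rw [hy, hnx, mul_assoc, this]; group
  · intro N _ R hRP hRbot gbar hgbar
    obtain ⟨g, rfl⟩ := QuotientGroup.mk_surjective gbar
    let K : Subgroup G := R.comap (QuotientGroup.mk' N)
    let R₁ : Subgroup G := (P : Subgroup G) ⊓ K
    have hNK : N ≤ K := by
      intro n hn
      show (QuotientGroup.mk' N) n ∈ R
      have : (QuotientGroup.mk' N) n = 1 := (QuotientGroup.eq_one_iff n).mpr hn
      rw [this]; exact one_mem _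
    have hKL : K ≤ (P : Subgroup G) ⊔ N := by
      intro k hk
      have hk' : (QuotientGroup.mk' N) k ∈ R := hk
      obtain ⟨y, hy, hyk⟩ := hRP hk'
      have : y⁻¹ * k ∈ N := by
        have := (QuotientGroup.eq (s := N) (a := y) (b := k)).mp hyk
        exact this
      have hk2 : k = y * (y⁻¹ * k) := by group
      rw [hk2]
      exact mul_mem (Subgroup.mem_sup_left hy) (Subgroup.mem_sup_right this)
    have hR₁bot : R₁ ≠ ⊥ := by
      obtain ⟨⟨r, hr⟩, hr1⟩ := (Subgroup.ne_bot_iff_exists_ne_one).mp hRbot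
      obtain ⟨y, hy, hyr⟩ := hRP hr
      intro hbot
      have hyR₁ : y ∈ R₁ := ⟨hy, by show (QuotientGroup.mk' N) y ∈ R; rw [hyr]; exact hr⟩
      rw [hbot, Subgroup.mem_bot] at hyR₁
      apply hr1
      apply Subtype.ext
      show r = 1
      rw [← hyr, hyR₁]; simp
    have hgK : ∀ k ∈ K, g * k * g⁻¹ ∈ K := by
      intro k hk
      have hk' : (QuotientGroup.mk' N) k ∈ R := hk
      have := (hgbar ((QuotientGroup.mk' N) k)).mp hk'
      show (QuotientGroup.mk' N) (g * k * g⁻¹) ∈ R
      simpa using this
    -- Sylow in L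
    let L : Subgroup G := (P : Subgroup G) ⊔ N
    let B : Subgroup G := R₁.map (MulAut.conj g).toMonoidHom
    have hBK : B ≤ K := by
      rw [map_conj_le_iff]
      intro z hz
      exact hgK z hz.2
    have hBL : B ≤ L := le_trans hBK hKL
    have hBp : IsPGroup p B := (P.isPGroup'.to_le inf_le_left).map _
    obtain ⟨l, hlL, hl⟩ := exists_conj_mem_sylow_of_le P (le_sup_left : (P : Subgroup G) ≤ L) hBL hBp
    have hlmem : l ∈ ((((P : Subgroup G) ⊔ N : Subgroup G)) : Set G) := hlL
    rw [Subgroup.mul_normal, Set.mem_mul] at hlmem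
    obtain ⟨y, hy0, n, hn0, rfl⟩ := hlmem
    have hy : y ∈ (P : Subgroup G) := hy0
    have hn : n ∈ N := hn0
    have hnB : ∀ b ∈ B, n * b * n⁻¹ ∈ R₁ := by
      intro b hb
      refine ⟨?_, ?_⟩
      · have h3 := hl b hb
        have h4 : n * b * n⁻¹ = y⁻¹ * (y * n * b * (y * n)⁻¹) * y := by group
        rw [h4]
        show _ ∈ (P : Subgroup G)
        exact mul_mem (mul_mem (inv_mem hy) h3) hy
      · show _ ∈ K
        exact mul_mem (mul_mem (hNK hn) (hBK hb)) (inv_mem (hNK hn))
    have hngR₁ : n * g ∈ Subgroup.normalizer (R₁ : Set G) := by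
      apply mem_normalizer_of_conj_mem
      intro z hz
      have hzB : g * z * g⁻¹ ∈ B := ⟨z, hz, rfl⟩
      have := hnB _ hzB
      have h5 : n * g * z * (n * g)⁻¹ = n * (g * z * g⁻¹) * n⁻¹ := by group
      rw [h5]; exact this
    have hngx := hlc R₁ inf_le_left hR₁bot hngR₁
    rw [Subgroup.mem_centralizer_iff] at hngx ⊢
    intro z hz
    rw [Set.mem_singleton_iff] at hz
    subst hz
    have h6 : x * (n * g) = n * g * x := hngx x (Set.mem_singleton x)
    have h7 : ((n * g : G) : G ⧸ N) = (g : G ⧸ N) := by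
      rw [QuotientGroup.eq]
      have : (n * g)⁻¹ * g = g⁻¹ * n⁻¹ * g := by group
      rw [this]
      exact (inferInstance : N.Normal).conj_mem' n⁻¹ (inv_mem hn) g
    rw [← h7, ← QuotientGroup.mk_mul, ← QuotientGroup.mk_mul, h6]

end Cfsg.Agent.S2998
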