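import Cfsg.Statements.S3003
import Cfsg.Agent.Lib.Helper50.CoprimeHyperplane

set_option autoImplicit false
open Cfsg

namespace Cfsg.Agent.S3003

open Cfsg.Agent.Lib.Helper50

/-- Let G be a finite group, p a prime and Q a large p-subgroup of G: C_G(Q) ≤ Q and N_G(U) ≤ N_G(Q) for every nontrivial subgroup U of C_G(Q). Let Q ≤ G₁ ≤ G, let R be a subgroup of order prime to p normalized by G₁, and let U ≤ G₁ be a p-subgroup. If U contains a nontrivial element which is G₁-conjugate to an element of Z(Q), then C_R(U) = 1. In particular, if U is elementary abelian of order at least p² and every maximal subgroup of U contains a nontrivial element G₁-conjugate into Z(Q), then R = 1. -/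
theorem result {G : Type*} [Group G] [Finite G] {p : ℕ} [Fact p.Prime] (Q : Subgroup G) (hQp : IsPGroup p ↥Q) (hlarge : Cfsg.IsLarge Q) (G₁ : Subgroup G) (hQG : Q ≤ G₁) (R : Subgroup G) (hR : (Nat.card ↥R).Coprime p) (hGR : G₁ ≤ Subgroup.normalizer (R : Set G)) (U : Subgroup G) (hUG : U ≤ G₁) (hUp : IsPGroup p ↥U) : ((∃ x ∈ U, x ≠ 1 ∧ ∃ g ∈ G₁, g * x * g⁻¹ ∈ Q ⊓ Subgroup.centralizer (Q : Set G)) → R ⊓ Subgroup.centralizer (U : Set G) = ⊥) ∧ (Cfsg.IsElementaryAbelian p U → p ^ 2 ≤ Nat.card ↥U → (∀ U₀ : Subgroup G, U₀ ≤ U → IsCoatom (U₀.subgroupOf U) → ∃ x ∈ U₀, x ≠ 1 ∧ ∃ g ∈ G₁, g * x * g⁻¹ ∈ Q ⊓ Subgroup.centralizer (Q : Set G)) → R = ⊥) := by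
  have hQR : Q ⊓ R = ⊥ := inf_eq_bot_of_isPGroup_of_coprime hQp hR
  have part1 : ∀ U' : Subgroup G, (∃ x ∈ U', x ≠ 1 ∧ ∃ g ∈ G₁,
      g * x * g⁻¹ ∈ Q ⊓ Subgroup.centralizer (Q : Set G)) →
      R ⊓ Subgroup.centralizer (U' : Set G) = ⊥ := by
    rintro U' ⟨x, hxU, hx1, g, hg, hz⟩
    rw [eq_bot_iff]
    intro r hr
    rw [Subgroup.mem_bot]
    have hrx : x * r = r * x := (Subgroup.mem_centralizer_iff.1 hr.2) x hxU
    -- r' = g r g⁻¹
    have hr'R : g * r * g⁻¹ ∈ R := ((Subgroup.mem_normalizer_iff.1 (hGR hg)) r).1 hr.1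
    have hr'z : (g * x * g⁻¹) * (g * r * g⁻¹) = (g * r * g⁻¹) * (g * x * g⁻¹) := by
      have e1 : (g * x * g⁻¹) * (g * r * g⁻¹) = g * (x * r) * g⁻¹ := by group
      have e2 : (g * r * g⁻¹) * (g * x * g⁻¹) = g * (r * x) * g⁻¹ := by group
      rw [e1, e2, hrx]
    have hz1 : g * x * g⁻¹ ≠ 1 := by
      intro h
      apply hx1
      have : x = g⁻¹ * (g * x * g⁻¹) * g := by group
      rw [this, h]; group
    set z := g * x * g⁻¹ with hzdef
    set r' := g * r * g⁻¹ with hr'def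
    have hZle : Subgroup.zpowers z ≤ Subgroup.centralizer (Q : Set G) :=
      (Subgroup.zpowers_le).2 hz.2
    have hZne : Subgroup.zpowers z ≠ ⊥ := by
      intro h
      apply hz1
      have : z ∈ Subgroup.zpowers z := Subgroup.mem_zpowers z
      rw [h] at this
      exact Subgroup.mem_bot.1 this
    have hNZ := hlarge.2 _ hZle hZne
    have hr'N : r' ∈ Subgroup.normalizer ((Subgroup.zpowers z : Subgroup G) : Set G) := by
      apply mem_normalizer_of_conj_mem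
      intro w hw
      obtain ⟨k, rfl⟩ := Subgroup.mem_zpowers_iff.1 hw
      have hc : Commute r' z := hr'z.symm
      have : r' * z ^ k * r'⁻¹ = z ^ k := by
        rw [(hc.zpow_right k).eq, mul_assoc, mul_inv_cancel, mul_one]
      rw [this]
      exact hw
    have hr'Q : r' ∈ Subgroup.normalizer (Q : Set G) := hNZ hr'N
    have hr'C : r' ∈ Subgroup.centralizer (Q : Set G) := by
      rw [Subgroup.mem_centralizer_iff]
      intro q hq
      have h1 : r' * q * r'⁻¹ * q⁻¹ ∈ Q :=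
        Q.mul_mem (((Subgroup.mem_normalizer_iff.1 hr'Q) q).1 hq) (Q.inv_mem hq)
      have h2 : r' * q * r'⁻¹ * q⁻¹ ∈ R := by
        have h3 : q * r'⁻¹ * q⁻¹ ∈ R :=
          ((Subgroup.mem_normalizer_iff.1 (hGR (hQG hq))) r'⁻¹).1 (R.inv_mem hr'R)
        have e : r' * q * r'⁻¹ * q⁻¹ = r' * (q * r'⁻¹ * q⁻¹) := by group
        rw [e]
        exact R.mul_mem hr'R h3
      have h4 : r' * q * r'⁻¹ * q⁻¹ ∈ Q ⊓ R := ⟨h1, h2⟩
      rw [hQR, Subgroup.mem_bot] at h4
      have : r' * q = (r' * q * r'⁻¹ * q⁻¹) * (q * r') := by group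
      rw [this, h4, one_mul]
    have hr'1 : r' ∈ Q ⊓ R := ⟨hlarge.1 hr'C, hr'R⟩
    rw [hQR, Subgroup.mem_bot] at hr'1
    have : r = g⁻¹ * r' * g := by rw [hr'def]; group
    rw [this, hr'1]; group
  refine ⟨part1 U, ?_⟩
  intro hEA hcard hhyp
  by_contra hR1
  have hU1 : U ≠ ⊥ := by
    intro h
    rw [h, Subgroup.card_bot] at hcard
    have : 2 ≤ p := (Fact.out : p.Prime).two_le
    nlinarith
  have hRp : ¬ p ∣ Nat.card R := by
    intro h
    have := Nat.Coprime.eq_one_of_dvd hR.symm h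
    exact (Fact.out : p.Prime).one_lt.ne' this
  have hcomm : ∀ x ∈ U, ∀ y ∈ U, x * y = y * x := by
    intro x hx y hy
    have := hEA.1.is_comm.comm (⟨x, hx⟩ : U) ⟨y, hy⟩
    exact congrArg Subtype.val this
  obtain ⟨U₀, h1, h2, h3⟩ := exists_hyperplane_centralizer_ne_bot (p := p) U R hcomm hEA.2 hU1 hRp
    (hUG.trans hGR) hR1
  exact h3 (part1 U₀ (hhyp U₀ h1 h2))

end Cfsg.Agent.S3003
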