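import Cfsg.Statements.S3008
import Cfsg.Agent.Lib.Helper50.Retract
import Cfsg.Agent.Lib.Helper29.ItoAb
import Cfsg.Agent.Lib.Helper29.LexPot
import Cfsg.Agent.Lib.Helper90.S3008A
import Cfsg.Agent.Lib.Helper90.S3008C
import Cfsg.Agent.Lib.Helper90.S3008D

set_option autoImplicit false
open Cfsg

namespace Cfsg.Agent.S3008

open Subgroup Cfsg.Agent.Lib.Helper50
open scoped Pointwise

/-- Part (b): some minimal centrally large subgroup is normalized by `J` and by `P_MCL`. -/
theorem partB {P : Type*} [Group P] [Finite P] [Group.IsNilpotent P] :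
    ∃ Q : Subgroup P, Cfsg.IsMinimalCentrallyLarge Q ∧
      Cfsg.thompsonSubgroupA P ≤ normalizer (Q : Set P) ∧
      Cfsg.minimalCentrallyLargeJoin P ≤ normalizer (Q : Set P) := by
  let 𝒵 : Set (Subgroup P) := {Z | ∃ Q, Cfsg.IsMinimalCentrallyLarge Q ∧ zOf Q = Z}
  have hne : 𝒵.Nonempty := by
    obtain ⟨Q, hQ⟩ := exists_mcl (G := P)
    exact ⟨zOf Q, Q, hQ, rfl⟩
  obtain ⟨Z, ⟨Q, hQ, rfl⟩, hmax⟩ := Cfsg.Agent.Lib.Helper29.exists_lex_max 𝒵 hne
  obtain ⟨hQcd, hCQ⟩ := (isCentrallyLarge_iff Q).mp hQ.1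
  have hCQz := centralizer_eq_zOf_of_cl hQ.1
  obtain ⟨hZcd, hQQ⟩ := cd_centralizer hQcd
  rw [hCQz] at hZcd hQQ
  have hZabc : zOf Q ≤ centralizer ((zOf Q : Subgroup P) : Set P) := by
    rw [← hQQ]; exact zOf_le Q
  have hZab : IsMulCommutative (zOf Q) := (isMulCommutative_iff_le_centralizer _).mpr hZabc
  have key : ∀ X : Subgroup P, IsMulCommutative X →
      ((zOf Q ⊔ X : Subgroup P) : Set P) = (zOf Q : Set P) * (X : Set P) →
      X ≤ normalizer (Q : Set P) := by
    intro X hXab hZX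
    have hito := Cfsg.Agent.Lib.Helper29.ito_comm (zOf Q) X hZab hXab hZX
    obtain ⟨Q', hQ', h1, h2⟩ := retract_mcl hQ
      ((isMulCommutative_iff_le_centralizer X).mp hXab) hZX
      ((isMulCommutative_iff_le_centralizer _).mp hito)
    have hXZ := hmax X (zOf Q') ⟨Q', hQ', rfl⟩ h1 h2
    apply le_normalizer_of_conj_mem
    intro x hx q hq
    rw [hQQ, mem_centralizer_iff] at hq ⊢
    intro z hz
    have hm : x⁻¹ * z * x ∈ zOf Q := by
      have := (mem_normalizer_iff.mp (hXZ (inv_mem hx)) z).mp hz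
      simpa using this
    have h3 := hq _ hm
    have e1 : z * (x * q * x⁻¹) = x * (x⁻¹ * z * x * q) * x⁻¹ := by group
    rw [e1, h3]; group
  refine ⟨Q, hQ, ?_, ?_⟩
  · apply sSup_le
    intro A hA
    exact key A hA.1 (cl_maxAbelian_centralizer hQ.1 hA).2
  · apply sSup_le
    intro Q' hQ'
    obtain ⟨hQ'cd, -⟩ := (isCentrallyLarge_iff Q').mp hQ'.1
    have hCQ'z := centralizer_eq_zOf_of_cl hQ'.1
    obtain ⟨hZ'cd, hQ'Q'⟩ := cd_centralizer hQ'cd
    rw [hCQ'z] at hZ'cd hQ'Q'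
    have hZ'abc : zOf Q' ≤ centralizer ((zOf Q' : Subgroup P) : Set P) := by
      rw [← hQ'Q']; exact zOf_le Q'
    have hZ'ab : IsMulCommutative (zOf Q') := (isMulCommutative_iff_le_centralizer _).mpr hZ'abc
    have hset := (cd_pair hZcd hZ'cd).2.2.1
    have h1 : zOf Q' ≤ normalizer (Q : Set P) := key _ hZ'ab hset
    have h2 := mcl_inf_sup_zOf hQ' hQ.1
    rw [← h2]
    exact sup_le (inf_le_right.trans le_normalizer) h1

/-- Let P be a finite p-group, with J(P) generated by its abelian subgroups of largest order and J̃(P) = C_P(Z(J(P))); call R ≤ P centrally large if |R|·|Z(R)| is as large as possible, and let P_MCL be generated by the minimal centrally large subgroups. Then: for every centrally large Q, Q·J(P) ⊇ J̃(P); some minimal centrally large subgroup of P is normalized by both J(P) and P_MCL; if P = J(P) and d(P)² = |P|·|Z(P)|, where d(P) is the largest order of an abelian subgroup, then every minimal centrally large subgroup of P is abelian;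 and if every minimal centrally large subgroup is abelian then J̃(P) = J(P). -/
theorem result {p : ℕ} [Fact p.Prime] (P : Type*) [Group P] [Finite P] (hP : IsPGroup p P) : (∀ Q : Subgroup P, Cfsg.IsCentrallyLarge Q → Subgroup.centralizer ((Cfsg.thompsonSubgroupA P ⊓ Subgroup.centralizer (Cfsg.thompsonSubgroupA P : Set P) : Subgroup P) : Set P) ≤ Q ⊔ Cfsg.thompsonSubgroupA P) ∧ (∃ Q : Subgroup P, Cfsg.IsMinimalCentrallyLarge Q ∧ Cfsg.thompsonSubgroupA P ≤ Subgroup.normalizer (Q : Set P) ∧ Cfsg.minimalCentrallyLargeJoin P ≤ Subgroup.normalizer (Q : Set P)) ∧ (Cfsg.thompsonSubgroupA P = ⊤ → (∀ A ∈ Cfsg.maxAbelianSubgroups P, Nat.card ↥A ^ 2 = Nat.card P * Nat.card ↥(Subgroup.center P)) → ∀ Q : Subgroup P, Cfsg.IsMinimalCentrallyLarge Q → IsMulCommutative ↥Q) ∧ ((∀ Q : Subgroup P, Cfsg.IsMinimalCentrallyLarge Q → IsMulCommutative ↥Q) → Subgroup.centralizer ((Cfsg.thompsonSubgroupA P ⊓ Subgroup.centralizer (Cfsg.thompsonSubgroupA P : Set P) : Subgroup P)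 : Set P) = Cfsg.thompsonSubgroupA P) := by
  have : Group.IsNilpotent P := hP.isNilpotent
  exact ⟨fun Q hQ => Cfsg.Agent.Lib.Helper90.S3008A.partA Q hQ, partB,
    fun hJ h Q hQ => Cfsg.Agent.Lib.Helper90.S3008C.partC hJ h Q hQ,
    fun h => Cfsg.Agent.Lib.Helper90.S3008D.partD h⟩

end Cfsg.Agent.S3008
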