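import Cfsg.Statements.S3011
import Cfsg.Agent.Lib.Helper91.BaerInv
import Mathlib.Tactic.Group

set_option autoImplicit false
open Cfsg

namespace Cfsg.Agent.S3011

open Cfsg.Agent.Lib.Helper91

theorem eq_one_of_sq_of_odd {G : Type*} [Group G] {x : G} (hodd : Odd (orderOf x))
    (h2 : x ^ 2 = 1) : x = 1 := by
  have hd : orderOf x ∣ 2 := orderOf_dvd_of_pow_eq_one h2
  have : orderOf x = 1 := by
    rcases (Nat.dvd_prime Nat.prime_two).mp hd with h | h
    · exact h
    · rw [h] at hodd; exact absurd hodd (by decide)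
  exact orderOf_eq_one_iff.mp this

theorem eq_one_of_eq_inv_of_odd {G : Type*} [Group G] {x : G} (hodd : Odd (orderOf x))
    (h : x⁻¹ = x) : x = 1 := by
  apply eq_one_of_sq_of_odd hodd
  calc x ^ 2 = x * x := sq x
    _ = x * x⁻¹ := by rw [h]
    _ = 1 := mul_inv_cancel x

/-- an element of odd order that is both inverted and centralized by `v` is trivial -/
theorem eq_one_of_inv_of_comm {G : Type*} [Group G] {v x : G} (hodd : Odd (orderOf x))
    (hinv : v * x * v⁻¹ = x⁻¹) (hcomm : v * x * v⁻¹ = x) : x = 1 :=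
  eq_one_of_eq_inv_of_odd hodd (hinv.symm.trans hcomm)

theorem orderOf_conj' {G : Type*} [Group G] (g x : G) : orderOf (g * x * g⁻¹) = orderOf x := by
  have := orderOf_injective (MulAut.conj g).toMonoidHom (MulAut.conj g).injective x
  simpa using this

theorem conj_eq_of_comm {G : Type*} [Group G] {v x : G} (h : v * x = x * v) : v * x * v⁻¹ = x := by
  rw [h]; group

/-- if a power `k ^ m` with `m` prime to the order of `k` centralizes `h`, so does `k` -/
theorem conj_eq_of_pow_conj_eq {G : Type*} [Group G] {k h : G} (m : ℕ)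
    (hm : Nat.Coprime m (orderOf k)) (hc : k ^ m * h * (k ^ m)⁻¹ = h) : k * h * k⁻¹ = h := by
  obtain ⟨j, hj⟩ := exists_pow_eq_self_of_coprime hm
  have h1 : Commute (k ^ m) h := by
    change k ^ m * h = h * k ^ m
    calc k ^ m * h = (k ^ m * h * (k ^ m)⁻¹) * k ^ m := by group
      _ = h * k ^ m := by rw [hc]
  have h2 : Commute ((k ^ m) ^ j) h := h1.pow_left j
  rw [hj] at h2
  exact conj_eq_of_comm h2.eq

/-- the core computation -/
theorem key {G : Type*} [Group G] (V : Subgroup G) (hS : Cfsg.IsSidkiPair V) (a w h k : G)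
    (hVmem : ∀ x ∈ V, x = 1 ∨ x = a ∨ x = w ∨ x = a * w) (haV : a ∈ V) (hawV : a * w ∈ V)
    (hh1 : h ≠ 1) (hhodd : Odd (orderOf h)) (hk1 : k ≠ 1) (hkodd : Odd (orderOf k))
    (ca_h : a * h * a⁻¹ = h⁻¹) (cw_h : w * h * w⁻¹ = h) (ca_k : a * k * a⁻¹ = k)
    (cw_k : w * k * w⁻¹ = k⁻¹) : False := by
  have h2k : Nat.Coprime 2 (orderOf k) := Nat.coprime_two_left.mpr hkodd
  have h4k : Nat.Coprime 4 (orderOf k) := by
    have : (4 : ℕ) = 2 ^ 2 := by norm_num
    rw [this]; exact Nat.Coprime.pow_left 2 h2k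
  -- Step 1: h and k commute
  have hkh : k * h * k⁻¹ = h := by
    have hy_inv : a * (k * h * k⁻¹) * a⁻¹ = (k * h * k⁻¹)⁻¹ := by
      calc a * (k * h * k⁻¹) * a⁻¹ = (a * k * a⁻¹) * (a * h * a⁻¹) * (a * k * a⁻¹)⁻¹ := by group
        _ = k * h⁻¹ * k⁻¹ := by rw [ca_k, ca_h]
        _ = (k * h * k⁻¹)⁻¹ := by group
    have hy_odd : Odd (orderOf (k * h * k⁻¹)) := by rw [orderOf_conj']; exact hhodd
    have hwy : w * (k * h * k⁻¹) * w⁻¹ = k⁻¹ * h * k := by
      calc w * (k * h * k⁻¹) * w⁻¹ = (w * k * w⁻¹) * (w * h * w⁻¹) * (w * k * w⁻¹)⁻¹ := by group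
        _ = k⁻¹ * h * k := by rw [cw_k, cw_h, inv_inv]
    obtain ⟨w', hw'V, hw'1, hw'y⟩ := hS (k * h * k⁻¹) a haV hy_odd hy_inv
    have hw'c := conj_eq_of_comm hw'y
    rcases hVmem w' hw'V with rfl | rfl | rfl | rfl
    · exact absurd rfl hw'1
    · exfalso
      have := eq_one_of_inv_of_comm hy_odd hy_inv hw'c
      apply hh1
      calc h = k⁻¹ * (k * h * k⁻¹) * k := by group
        _ = 1 := by rw [this]; group
    · rw [hwy] at hw'c
      apply conj_eq_of_pow_conj_eq 2 h2k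
      calc k ^ 2 * h * (k ^ 2)⁻¹ = k * (k * h * k⁻¹) * k⁻¹ := by rw [sq]; group
        _ = k * (k⁻¹ * h * k) * k⁻¹ := by rw [hw'c]
        _ = h := by group
    · exfalso
      have hawy : (a * w) * (k * h * k⁻¹) * (a * w)⁻¹ = k⁻¹ * h⁻¹ * k := by
        calc (a * w) * (k * h * k⁻¹) * (a * w)⁻¹ = a * (w * (k * h * k⁻¹) * w⁻¹) * a⁻¹ := by group
          _ = a * (k⁻¹ * h * k) * a⁻¹ := by rw [hwy]
          _ = (a * k * a⁻¹)⁻¹ * (a * h * a⁻¹) * (a * k * a⁻¹) := by group
          _ = k⁻¹ * h⁻¹ * k := by rw [ca_k, ca_h]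
      rw [hawy] at hw'c
      have e2 : k ^ 2 * h * (k ^ 2)⁻¹ = h⁻¹ := by
        calc k ^ 2 * h * (k ^ 2)⁻¹ = k * (k * h * k⁻¹) * k⁻¹ := by rw [sq]; group
          _ = k * (k⁻¹ * h⁻¹ * k) * k⁻¹ := by rw [hw'c]
          _ = h⁻¹ := by group
      have e4 : k ^ 4 * h * (k ^ 4)⁻¹ = h := by
        calc k ^ 4 * h * (k ^ 4)⁻¹ = k ^ 2 * (k ^ 2 * h * (k ^ 2)⁻¹) * (k ^ 2)⁻¹ := by
              rw [show (4 : ℕ) = 2 + 2 by norm_num, pow_add]; group
          _ = k ^ 2 * h⁻¹ * (k ^ 2)⁻¹ := by rw [e2]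
          _ = (k ^ 2 * h * (k ^ 2)⁻¹)⁻¹ := by group
          _ = h := by rw [e2, inv_inv]
      have hc := conj_eq_of_pow_conj_eq 4 h4k e4
      have e2' : k ^ 2 * h * (k ^ 2)⁻¹ = h := by
        calc k ^ 2 * h * (k ^ 2)⁻¹ = k * (k * h * k⁻¹) * k⁻¹ := by rw [sq]; group
          _ = h := by rw [hc, hc]
      exact hh1 (eq_one_of_eq_inv_of_odd hhodd (e2.symm.trans e2'))
  -- Step 2
  have hcomm : Commute h k := by
    change h * k = k * h
    calc h * k = (k * h * k⁻¹) * k := by rw [hkh]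
      _ = k * h := by group
  have hz_odd : Odd (orderOf (h * k)) := by
    have h1 : orderOf (h * k) ∣ Nat.lcm (orderOf h) (orderOf k) := hcomm.orderOf_mul_dvd_lcm
    have h2 : Nat.lcm (orderOf h) (orderOf k) ∣ orderOf h * orderOf k := Nat.lcm_dvd_mul _ _
    exact Odd.of_dvd_nat (hhodd.mul hkodd) (h1.trans h2)
  have hz_a : a * (h * k) * a⁻¹ = h⁻¹ * k := by
    calc a * (h * k) * a⁻¹ = (a * h * a⁻¹) * (a * k * a⁻¹) := by group
      _ = h⁻¹ * k := by rw [ca_h, ca_k]
  have hz_w : w * (h * k) * w⁻¹ = h * k⁻¹ := by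
    calc w * (h * k) * w⁻¹ = (w * h * w⁻¹) * (w * k * w⁻¹) := by group
      _ = h * k⁻¹ := by rw [cw_h, cw_k]
  have hz_aw : (a * w) * (h * k) * (a * w)⁻¹ = (h * k)⁻¹ := by
    calc (a * w) * (h * k) * (a * w)⁻¹ = a * (w * (h * k) * w⁻¹) * a⁻¹ := by group
      _ = a * (h * k⁻¹) * a⁻¹ := by rw [hz_w]
      _ = (a * h * a⁻¹) * (a * k * a⁻¹)⁻¹ := by group
      _ = h⁻¹ * k⁻¹ := by rw [ca_h, ca_k]
      _ = (k * h)⁻¹ := by group
      _ = (h * k)⁻¹ := by rw [hcomm.eq]
  obtain ⟨w'', hw''V, hw''1, hw''z⟩ := hS (h * k) (a * w) hawV hz_odd hz_aw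
  have hw''c := conj_eq_of_comm hw''z
  rcases hVmem w'' hw''V with rfl | rfl | rfl | rfl
  · exact hw''1 rfl
  · rw [hz_a] at hw''c
    have : h⁻¹ = h := mul_right_cancel hw''c
    exact hh1 (eq_one_of_eq_inv_of_odd hhodd this)
  · rw [hz_w] at hw''c
    have : k⁻¹ = k := mul_left_cancel hw''c
    exact hk1 (eq_one_of_eq_inv_of_odd hkodd this)
  · have hz1 := eq_one_of_inv_of_comm hz_odd hz_aw hw''c
    have hk' : k = h⁻¹ := (inv_eq_of_mul_eq_one_right hz1).symm
    rw [hk'] at ca_k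
    have e : a * h⁻¹ * a⁻¹ = h := by
      calc a * h⁻¹ * a⁻¹ = (a * h * a⁻¹)⁻¹ := by group
        _ = h := by rw [ca_h, inv_inv]
    exact hh1 (eq_one_of_eq_inv_of_odd hhodd (ca_k.symm.trans e))

/-- Let G be a finite group and V a nontrivial elementary abelian 2-subgroup of G of order at most 4 such that, whenever an element of V inverts an element h of G of odd order, some nontrivial element of V commutes with h. Then V meets O₂(G) nontrivially. (The case of order at most 4 has a short argument from the Baer–Suzuki theorem.) -/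
theorem result {G : Type*} [Group G] [Finite G] (V : Subgroup G) (hV : Cfsg.IsElementaryAbelian 2 V) (hV1 : V ≠ ⊥) (hS : Cfsg.IsSidkiPair V) (h4 : Nat.card V ≤ 4) : V ⊓ Cfsg.pCore 2 G ≠ ⊥ := by
  classical
  intro hbot
  have hVcomm : ∀ x ∈ V, ∀ y ∈ V, x * y = y * x := by
    intro x hx y hy
    have := hV.1.is_comm.comm ⟨x, hx⟩ ⟨y, hy⟩
    exact congrArg Subtype.val this
  have hVsq : ∀ x ∈ V, x ^ 2 = 1 := hV.2
  have hVinv : ∀ x ∈ V, x⁻¹ = x := by
    intro x hx
    rw [inv_eq_iff_mul_eq_one, ← sq]; exact hVsq x hx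
  have hVmul : ∀ x ∈ V, x * x = 1 := by
    intro x hx
    rw [← sq]; exact hVsq x hx
  -- every nontrivial element of V inverts a nontrivial element of odd order
  have hBS : ∀ v ∈ V, v ≠ 1 → ∃ h : G, h ≠ 1 ∧ Odd (orderOf h) ∧ v * h * v⁻¹ = h⁻¹ := by
    intro v hv hv1
    apply exists_inverted_odd_of_not_mem_normal_two_group v
    · have h2 : orderOf v ∣ 2 := orderOf_dvd_of_pow_eq_one (hVsq v hv)
      rcases (Nat.dvd_prime Nat.prime_two).mp h2 with h | h
      · exact absurd (orderOf_eq_one_iff.mp h) hv1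
      · exact h
    · intro N hNn hNp hvN
      apply hv1
      have hle : N ≤ Cfsg.pCore 2 G := le_sSup ⟨hNn, hNp⟩
      have : v ∈ V ⊓ Cfsg.pCore 2 G := ⟨hv, hle hvN⟩
      rw [hbot, Subgroup.mem_bot] at this
      exact this
  obtain ⟨t, htV, ht1⟩ : ∃ t, t ∈ V ∧ t ≠ 1 := by
    by_contra hall
    push Not at hall
    exact hV1 ((Subgroup.eq_bot_iff_forall V).mpr hall)
  obtain ⟨h, hh1, hhodd, hth⟩ := hBS t htV ht1
  obtain ⟨w, hwV, hw1, hwh⟩ := hS h t htV hhodd hth
  have cw_h := conj_eq_of_comm hwh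
  have hwt : w ≠ t := by
    intro e
    rw [e] at cw_h
    exact hh1 (eq_one_of_inv_of_comm hhodd hth cw_h)
  have htwV : t * w ∈ V := V.mul_mem htV hwV
  have htw1 : t * w ≠ 1 := by
    intro e
    apply hwt
    have : w = t⁻¹ := (inv_eq_of_mul_eq_one_right e).symm
    rw [this, hVinv t htV]
  have htwt : t * w ≠ t := by
    intro e
    apply hw1
    exact mul_left_cancel (e.trans (mul_one t).symm)
  have htww : t * w ≠ w := by
    intro e
    apply ht1
    exact mul_right_cancel (e.trans (one_mul w).symm)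
  -- V = {1, t, w, t * w}
  have hVmem : ∀ x ∈ V, x = 1 ∨ x = t ∨ x = w ∨ x = t * w := by
    intro x hx
    by_contra hcon
    push Not at hcon
    obtain ⟨hx1, hxt, hxw, hxtw⟩ := hcon
    have hsub : (({1, t, w, t * w, x} : Finset G) : Set G) ⊆ (V : Set G) := by
      intro y hy
      simp only [Finset.coe_insert, Finset.coe_singleton, Set.mem_insert_iff,
        Set.mem_singleton_iff] at hy
      rcases hy with rfl | rfl | rfl | rfl | rfl
      exacts [V.one_mem, htV, hwV, htwV, hx]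
    have hcard5 : ({1, t, w, t * w, x} : Finset G).card = 5 := by
      rw [Finset.card_insert_of_notMem, Finset.card_insert_of_notMem,
        Finset.card_insert_of_notMem, Finset.card_insert_of_notMem, Finset.card_singleton]
      · simp only [Finset.mem_singleton]; exact fun e => hxtw e.symm
      · simp only [Finset.mem_insert, Finset.mem_singleton, not_or]
        exact ⟨fun e => htww e.symm, fun e => hxw e.symm⟩
      · simp only [Finset.mem_insert, Finset.mem_singleton, not_or]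
        exact ⟨fun e => hwt e.symm, fun e => htwt e.symm, fun e => hxt e.symm⟩
      · simp only [Finset.mem_insert, Finset.mem_singleton, not_or]
        exact ⟨fun e => ht1 e.symm, fun e => hw1 e.symm, fun e => htw1 e.symm,
          fun e => hx1 e.symm⟩
    have h5 : 5 ≤ Nat.card V := by
      have := Set.ncard_le_ncard hsub (Set.toFinite _)
      rw [Set.ncard_coe_finset, hcard5] at this
      have e : (V : Set G).ncard = Nat.card V := rfl
      rw [e] at this
      exact this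
    omega
  -- the second element
  obtain ⟨k, hk1, hkodd, hwk⟩ := hBS w hwV hw1
  obtain ⟨a, haV, ha1, hak⟩ := hS k w hwV hkodd hwk
  have ca_k := conj_eq_of_comm hak
  have haw : a ≠ w := by
    intro e
    rw [e] at ca_k
    exact hk1 (eq_one_of_inv_of_comm hkodd hwk ca_k)
  have ctw_h : (t * w) * h * (t * w)⁻¹ = h⁻¹ := by
    calc (t * w) * h * (t * w)⁻¹ = t * (w * h * w⁻¹) * t⁻¹ := by group
      _ = h⁻¹ := by rw [cw_h, hth]
  rcases hVmem a haV with rfl | rfl | rfl | rfl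
  · exact ha1 rfl
  · -- a = t
    exact key V hS a w h k hVmem haV htwV hh1 hhodd hk1 hkodd hth cw_h ca_k hwk
  · exact haw rfl
  · -- a = t * w
    have e : t * w * w = t := by rw [mul_assoc, hVmul w hwV, mul_one]
    refine key V hS (t * w) w h k ?_ haV (by rw [e]; exact htV) hh1 hhodd hk1 hkodd ctw_h cw_h ca_k hwk
    intro x hx
    rw [e]
    rcases hVmem x hx with h' | h' | h' | h'
    · exact Or.inl h'
    · exact Or.inr (Or.inr (Or.inr h'))
    · exact Or.inr (Or.inr (Or.inl h'))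
    · exact Or.inr (Or.inl h')

end Cfsg.Agent.S3011
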