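import Cfsg.Statements.S3013

set_option autoImplicit false
open Cfsg

namespace Cfsg.Agent.S3013

/-- if `w` commutes with `h ^ 2` and `h` has odd order then `w` commutes with `h`. -/
theorem commute_of_commute_sq {G : Type*} [Group G] {w h : G} (hodd : Odd (orderOf h))
    (hc : Commute w (h ^ 2)) : Commute w h := by
  obtain ⟨k, hk⟩ := hodd
  have h1 : h = (h ^ 2) ^ (k + 1) := by
    rw [← pow_mul]
    have : 2 * (k + 1) = orderOf h + 1 := by omega
    rw [this, pow_succ, pow_orderOf_eq_one, one_mul]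
  rw [h1]
  exact hc.pow_right _

/-- Let G be a finite group and V a nontrivial elementary abelian 2-subgroup of G satisfying the Sidki pair condition. Let v ∈ V and let x be an element of odd order inverted by v, and put C = C_G(v) ∩ C_G(x), the centralizer of the dihedral subgroup generated by v and x. Then C ∩ V is nontrivial and satisfies the Sidki pair condition inside C: every odd-order element of C inverted by an element of C ∩ V commutes with a nontrivial element of C ∩ V. -/
theorem result {G : Type*} [Group G] [Finite G] (V : Subgroup G) (hV : Cfsg.IsElementaryAbelian 2 V) (hV1 : V ≠ ⊥) (hS : Cfsg.IsSidkiPair V) (v x : G) (hv : v ∈ V) (hx : Odd (orderOf x)) (hinv : v * x * v⁻¹ = x⁻¹) (C : Subgroup G) (hC : C = Subgroup.centralizer ({v} : Set G) ⊓ Subgroup.centralizer ({x} : Set G)) : C ⊓ V ≠ ⊥ ∧ Cfsg.IsSidkiPair ((C ⊓ V).subgroupOf C) := by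
  obtain ⟨hVab, hV2⟩ := hV
  have hVcomm : ∀ a ∈ V, ∀ b ∈ V, a * b = b * a := by
    intro a ha b hb
    have := (Subgroup.le_centralizer_iff_isMulCommutative.mpr hVab) ha b hb
    exact this.symm
  have memC : ∀ g : G, g ∈ C ↔ g * v = v * g ∧ g * x = x * g := by
    intro g
    rw [hC, Subgroup.mem_inf, Subgroup.mem_centralizer_singleton_iff,
      Subgroup.mem_centralizer_singleton_iff]
  constructor
  · obtain ⟨w, hwV, hw1, hwx⟩ := hS x v hv hx hinv
    intro hbot
    apply hw1
    have : w ∈ C ⊓ V := ⟨(memC w).mpr ⟨hVcomm w hwV v hv, hwx⟩, hwV⟩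
    rw [hbot] at this
    exact Subgroup.mem_bot.mp this
  · intro h c hc hodd hinvc
    rw [Subgroup.mem_subgroupOf] at hc
    obtain ⟨hcC, hcV⟩ := hc
    have hhC : (h : G) ∈ C := h.2
    obtain ⟨hhv, hhx⟩ := (memC h).mp hhC
    obtain ⟨hcv, hcx⟩ := (memC c).mp hcC
    have hodd' : Odd (orderOf (h : G)) := by rwa [Subgroup.orderOf_coe]
    have hinvc' : (c : G) * (h : G) * (c : G)⁻¹ = (h : G)⁻¹ := by
      have := congrArg Subtype.val hinvc
      simpa using this
    -- u = v * c inverts x * h
    have hxh : Commute x (h : G) := hhx.symm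
    have hoddxh : Odd (orderOf (x * (h : G))) := by
      have h1 := hxh.orderOf_mul_dvd_lcm
      have h2 : Odd (orderOf x * orderOf (h : G)) := hx.mul hodd'
      have h3 : Nat.lcm (orderOf x) (orderOf (h : G)) ∣ orderOf x * orderOf (h : G) := Nat.lcm_dvd_mul _ _
      exact Odd.of_dvd_nat h2 (h1.trans h3)
    have huV : v * (c : G) ∈ V := mul_mem hv hcV
    have hvh : v * (h : G) * v⁻¹ = (h : G) := by
      rw [← hhv]; group
    have hcx' : (c : G) * x * (c : G)⁻¹ = x := by
      rw [hcx]; group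
    have hinvu : v * (c : G) * (x * (h : G)) * (v * (c : G))⁻¹ = (x * (h : G))⁻¹ := by
      have hvc : v * (c : G) = (c : G) * v := hcv.symm
      calc v * (c : G) * (x * (h : G)) * (v * (c : G))⁻¹
          = v * ((c : G) * x * (c : G)⁻¹) * v⁻¹ * ((v * (c : G)) * (h : G) * (v * (c : G))⁻¹) := by group
        _ = v * x * v⁻¹ * (((c : G) * v) * (h : G) * ((c : G) * v)⁻¹) := by rw [hcx', hvc]
        _ = x⁻¹ * ((c : G) * (v * (h : G) * v⁻¹) * (c : G)⁻¹) := by rw [hinv]; group
        _ = x⁻¹ * (h : G)⁻¹ := by rw [hvh, hinvc']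
        _ = (x * (h : G))⁻¹ := by rw [hxh.eq]; group
    obtain ⟨w, hwV, hw1, hwxh⟩ := hS (x * (h : G)) (v * (c : G)) huV hoddxh hinvu
    -- w commutes with x⁻¹ * h as well
    have hwv : w * v = v * w := hVcomm w hwV v hv
    have hw2 : w * (x⁻¹ * (h : G)) = (x⁻¹ * (h : G)) * w := by
      have e1 : x⁻¹ * (h : G) = v * (x * (h : G)) * v⁻¹ := by
        calc x⁻¹ * (h : G) = (v * x * v⁻¹) * (v * (h : G) * v⁻¹) := by rw [hinv, hvh]
          _ = v * (x * (h : G)) * v⁻¹ := by group
      have e2 : w = v * w * v⁻¹ := by rw [← hwv]; group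
      rw [e1]
      calc w * (v * (x * (h : G)) * v⁻¹) = (v * w * v⁻¹) * (v * (x * (h : G)) * v⁻¹) := by rw [← e2]
        _ = v * (w * (x * (h : G))) * v⁻¹ := by group
        _ = v * ((x * (h : G)) * w) * v⁻¹ := by rw [hwxh]
        _ = (v * (x * (h : G)) * v⁻¹) * (v * w * v⁻¹) := by group
        _ = (v * (x * (h : G)) * v⁻¹) * w := by rw [← e2]
    have c1 : Commute w (x * (h : G)) := hwxh
    have c2 : Commute w (x⁻¹ * (h : G)) := hw2
    have c3 : Commute w ((h : G) ^ 2) := by
      have : (h : G) ^ 2 = (x * (h : G)) * (x⁻¹ * (h : G)) := by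
        rw [pow_two]
        calc (h : G) * (h : G) = (h : G) * x * x⁻¹ * (h : G) := by group
          _ = x * (h : G) * x⁻¹ * (h : G) := by rw [hxh.eq]
          _ = _ := by group
      rw [this]
      exact c1.mul_right c2
    have c4 : Commute w (x ^ 2) := by
      have : x ^ 2 = (x * (h : G)) * (x⁻¹ * (h : G))⁻¹ := by
        rw [pow_two]; group
      rw [this]
      exact c1.mul_right c2.inv_right
    have c5 : Commute w (h : G) := commute_of_commute_sq hodd' c3
    have c6 : Commute w x := commute_of_commute_sq hx c4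
    have hwC : w ∈ C := (memC w).mpr ⟨hwv, c6.eq⟩
    refine ⟨⟨w, hwC⟩, ?_, ?_, ?_⟩
    · rw [Subgroup.mem_subgroupOf]
      exact ⟨hwC, hwV⟩
    · intro h1
      apply hw1
      exact congrArg Subtype.val h1
    · apply Subtype.ext
      exact c5.eq

end Cfsg.Agent.S3013
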