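import Cfsg.Statements.S3014
import Cfsg.Agent.Lib.Helper50.MaxChain

set_option autoImplicit false
open Cfsg

namespace Cfsg.Agent.S3014

open Cfsg.Agent.Lib.Helper50

/-- Let G be a finite group and H ≤ M ≤ G subgroups such that for every g ∈ G the subgroup generated by H and g H g⁻¹ meets M exactly in H. If H is a maximal subgroup of M and M is a maximal subgroup of G, then the normal closure of H in G meets M exactly in H. -/
theorem result {G : Type*} [Group G] [Finite G] (H M : Subgroup G) (hHM : H ≤ M) (hcl : ∀ g : G, (H ⊔ H.map (MulAut.conj g).toMonoidHom) ⊓ M = H) (hmaxH : IsCoatom (H.subgroupOf M)) (hmaxM : IsCoatom M) : Subgroup.normalClosure (H : Set G) ⊓ M = H := by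
  have hE2 : ∀ g : G, (∀ h ∈ H, g * h * g⁻¹ ∈ M) → ∀ h ∈ H, g * h * g⁻¹ ∈ H := by
    intro g hg h hh
    have h1 : H.map (MulAut.conj g).toMonoidHom ≤ M := map_conj_le_iff.2 hg
    have h2 : H ⊔ H.map (MulAut.conj g).toMonoidHom ≤ M := sup_le hHM h1
    have h3 := hcl g
    rw [inf_eq_left.2 h2] at h3
    have h4 : H.map (MulAut.conj g).toMonoidHom ≤ H := le_sup_right.trans h3.le
    exact map_conj_le_iff.1 h4 h hh
  have hE1 : ∀ m ∈ M, ∀ h ∈ H, m * h * m⁻¹ ∈ H := by
    intro m hm
    apply hE2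
    intro h hh
    exact M.mul_mem (M.mul_mem hm (hHM hh)) (M.inv_mem hm)
  have hn : (H.subgroupOf M).Normal := by
    constructor
    intro n hn g
    rw [Subgroup.mem_subgroupOf] at hn ⊢
    exact hE1 g g.2 n hn
  apply le_antisymm
  swap
  · exact le_inf Subgroup.le_normalClosure hHM
  by_contra hcon
  have hMN : M ≤ Subgroup.normalClosure (H : Set G) :=
    le_of_coatom_subgroupOf hmaxH _ Subgroup.le_normalClosure hcon
  have hHneM : ¬ M ≤ H := by
    intro h
    exact hmaxH.1 (Subgroup.subgroupOf_eq_top.2 h)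
  by_cases hnorm : ∀ g : G, ∀ h ∈ H, g * h * g⁻¹ ∈ H
  · have : H.Normal := ⟨fun n hn g => hnorm g n hn⟩
    have h1 : Subgroup.normalClosure (H : Set G) ≤ H :=
      Subgroup.normalClosure_le_normal (le_refl _)
    exact hHneM (hMN.trans h1)
  have hN1 : ∀ g : G, (∀ h ∈ H, g * h * g⁻¹ ∈ H) → g ∈ M := by
    intro g hg
    by_contra hgM
    have h1 : M ≤ Subgroup.normalizer (H : Set G) :=
      fun m hm => mem_normalizer_of_conj_mem (hE1 m hm)
    have h2 : g ∈ Subgroup.normalizer (H : Set G) := mem_normalizer_of_conj_mem hg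
    have h3 : Subgroup.normalizer (H : Set G) = ⊤ :=
      eq_top_of_coatom hmaxM _ h1 (fun hle => hgM (hle h2))
    apply hnorm
    intro g' h hh
    have : g' ∈ Subgroup.normalizer (H : Set G) := by rw [h3]; trivial
    exact (Subgroup.mem_normalizer_iff.1 this h).1 hh
  have hNtop : Subgroup.normalClosure (H : Set G) = ⊤ := by
    apply eq_top_of_coatom hmaxM _ hMN
    intro hNM
    apply hnorm
    intro g
    apply hE2
    intro h hh
    apply hNM
    exact Subgroup.normalClosure_normal.conj_mem h (Subgroup.le_normalClosure hh) g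
  by_cases hA : ∃ t : G, t ∉ M ∧ ∃ y ∈ M, t * y * t⁻¹ ∈ M ∧ y ∉ H
  · obtain ⟨t, ht, y, hy, hty, hyH⟩ := hA
    have hg : t⁻¹ ∉ M := fun h => ht (by simpa using M.inv_mem h)
    have hy' : (t⁻¹)⁻¹ * y * t⁻¹ ∈ M := by simpa using hty
    have hMK := le_normalizer_sup_conj hHM hE1 hmaxH t⁻¹ y hy hy' hyH
    by_cases hKM : Subgroup.normalizer
        ((H ⊔ H.map (MulAut.conj t⁻¹).toMonoidHom : Subgroup G) : Set G) ≤ M
    · have h1 : H ⊔ H.map (MulAut.conj t⁻¹).toMonoidHom ≤ M := Subgroup.le_normalizer.trans hKM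
      have h2 := hcl t⁻¹
      rw [inf_eq_left.2 h1] at h2
      apply hg
      apply hN1
      apply map_conj_le_iff.1
      exact le_sup_right.trans h2.le
    · have h1 := eq_top_of_coatom hmaxM _ hMK hKM
      have h2 : (H ⊔ H.map (MulAut.conj t⁻¹).toMonoidHom).Normal :=
        Subgroup.normalizer_eq_top_iff.1 h1
      have h3 : Subgroup.normalClosure (H : Set G) ≤ H ⊔ H.map (MulAut.conj t⁻¹).toMonoidHom :=
        Subgroup.normalClosure_le_normal (le_sup_left (a := H))
      rw [hNtop] at h3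
      have h4 := hcl t⁻¹
      rw [top_le_iff.1 h3, top_inf_eq] at h4
      exact hHneM h4.le
  · have hB : ∀ t : G, t ∉ M → ∀ y ∈ M, t * y * t⁻¹ ∈ M → y ∈ H := by
      intro t ht y hy hty
      by_contra hyH
      exact hA ⟨t, ht, y, hy, hty, hyH⟩
    obtain ⟨N, hNn, hNM, -⟩ := exists_normal_inter_eq hHM hn hmaxH hB
    have hHN : H ≤ N := fun x hx => (hNM.ge hx).1
    have h1 : Subgroup.normalClosure (H : Set G) ≤ N := Subgroup.normalClosure_le_normal hHN
    rw [hNtop] at h1
    apply hHneM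
    intro m hm
    exact hNM.le ⟨h1 (Subgroup.mem_top m), hm⟩

end Cfsg.Agent.S3014
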