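import Cfsg.Statements.S3015
import Cfsg.Agent.Lib.Helper50.MaxChain
import Cfsg.Agent.Lib.Helper50.PrimeIndex

set_option autoImplicit false
open Cfsg

namespace Cfsg.Agent.S3015

open Cfsg.Agent.Lib.Helper50

/-- Let G be a finite non-abelian simple group, M a maximal subgroup of G and H a normal subgroup of M of prime index in M. Then G is generated by H together with one of its conjugates. -/
theorem result {G : Type*} [Group G] [Finite G] [IsSimpleGroup G] (hG : ¬ IsMulCommutative G) (M H : Subgroup G) (hmaxM : IsCoatom M) (hHM : H ≤ M) (hHn : (H.subgroupOf M).Normal) (hidx : (H.relIndex M).Prime) : ∃ g : G, H ⊔ H.map (MulAut.conj g).toMonoidHom = ⊤ := by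
  by_contra hcon
  have hcon' : ∀ g : G, H ⊔ H.map (MulAut.conj g).toMonoidHom ≠ ⊤ := fun g h => hcon ⟨g, h⟩
  have hmaxH : IsCoatom (H.subgroupOf M) := isCoatom_of_index_prime hidx
  have hE1 : ∀ m ∈ M, ∀ h ∈ H, m * h * m⁻¹ ∈ H := by
    intro m hm h hh
    have := hHn.conj_mem ⟨h, hHM hh⟩ (Subgroup.mem_subgroupOf.2 hh) ⟨m, hm⟩
    rw [Subgroup.mem_subgroupOf] at this
    simpa using this
  have hHneM : ¬ M ≤ H := fun h => hmaxH.1 (Subgroup.subgroupOf_eq_top.2 h)
  have hMtop : M ≠ ⊤ := hmaxM.1
  have hN2 : ∀ g : G, (∀ m ∈ M, g * m * g⁻¹ ∈ M) → g ∈ M := by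
    intro g hg
    by_contra hgM
    have h1 : M ≤ Subgroup.normalizer (M : Set G) := Subgroup.le_normalizer
    have h2 : g ∈ Subgroup.normalizer (M : Set G) := mem_normalizer_of_conj_mem hg
    have h3 := eq_top_of_coatom hmaxM _ h1 (fun hle => hgM (hle h2))
    have h4 : M.Normal := Subgroup.normalizer_eq_top_iff.1 h3
    rcases h4.eq_bot_or_eq_top with h5 | h5
    · exact hHneM (h5 ▸ bot_le)
    · exact hMtop h5
  by_cases hA : ∃ t : G, t ∉ M ∧ ∃ y ∈ M, t * y * t⁻¹ ∈ M ∧ y ∉ H
  · obtain ⟨t, ht, y, hy, hty, hyH⟩ := hA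
    have hg : t⁻¹ ∉ M := fun h => ht (by simpa using M.inv_mem h)
    have hy' : (t⁻¹)⁻¹ * y * t⁻¹ ∈ M := by simpa using hty
    have hMK := le_normalizer_sup_conj hHM hE1 hmaxH t⁻¹ y hy hy' hyH
    generalize t⁻¹ = g at hg hy' hMK
    have hstar : ∀ h ∈ H, g * h * g⁻¹ ∈ M := by
      apply map_conj_le_iff.1
      by_cases hKM : Subgroup.normalizer
          ((H ⊔ H.map (MulAut.conj g).toMonoidHom : Subgroup G) : Set G) ≤ M
      · exact le_sup_right.trans (Subgroup.le_normalizer.trans hKM)
      · have h1 := eq_top_of_coatom hmaxM _ hMK hKM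
        have h2 : (H ⊔ H.map (MulAut.conj g).toMonoidHom).Normal :=
          Subgroup.normalizer_eq_top_iff.1 h1
        rcases h2.eq_bot_or_eq_top with h3 | h3
        · exact le_sup_right.trans (h3.le.trans bot_le)
        · exact absurd h3 (hcon' g)
    have hSH : ∀ x : G, x ∈ M → (orderOf x).Coprime (H.relIndex M) → x ∈ H :=
      fun x hx hc => mem_of_coprime_orderOf hx hc.symm
    have hRH : Subgroup.closure {x : G | x ∈ M ∧ (orderOf x).Coprime (H.relIndex M)} ≤ H :=
      (Subgroup.closure_le _).2 (fun x hx => hSH x hx.1 hx.2)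
    have hgR : g ∈ Subgroup.normalizer ((Subgroup.closure
        {x : G | x ∈ M ∧ (orderOf x).Coprime (H.relIndex M)} : Subgroup G) : Set G) := by
      apply mem_normalizer_of_conj_mem
      apply conj_mem_closure_of_forall
      intro x hx
      apply Subgroup.subset_closure
      refine ⟨hstar x (hSH x hx.1 hx.2), ?_⟩
      have : orderOf (g * x * g⁻¹) = orderOf x := (MulAut.conj g).orderOf_eq x
      rw [this]; exact hx.2
    have hMR : M ≤ Subgroup.normalizer ((Subgroup.closure
        {x : G | x ∈ M ∧ (orderOf x).Coprime (H.relIndex M)} : Subgroup G) : Set G) := by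
      intro m hm
      apply mem_normalizer_of_conj_mem
      apply conj_mem_closure_of_forall
      intro x hx
      apply Subgroup.subset_closure
      refine ⟨M.mul_mem (M.mul_mem hm hx.1) (M.inv_mem hm), ?_⟩
      have : orderOf (m * x * m⁻¹) = orderOf x := (MulAut.conj m).orderOf_eq x
      rw [this]; exact hx.2
    have hRtop := eq_top_of_coatom hmaxM _ hMR (fun hle => hg (hle hgR))
    have hRn : (Subgroup.closure
        {x : G | x ∈ M ∧ (orderOf x).Coprime (H.relIndex M)}).Normal :=
      Subgroup.normalizer_eq_top_iff.1 hRtop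
    have hRbot : Subgroup.closure
        {x : G | x ∈ M ∧ (orderOf x).Coprime (H.relIndex M)} = ⊥ := by
      rcases hRn.eq_bot_or_eq_top with h | h
      · exact h
      · exfalso
        apply hHneM
        intro m _
        exact hRH (h ▸ Subgroup.mem_top m)
    have hMp : IsPGroup (H.relIndex M) M := by
      apply isPGroup_of_forall_coprime_eq_one hidx
      intro x hx hc
      have : x ∈ Subgroup.closure
          {x : G | x ∈ M ∧ (orderOf x).Coprime (H.relIndex M)} :=
        Subgroup.subset_closure ⟨hx, hc⟩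
      rw [hRbot] at this
      exact Subgroup.mem_bot.1 this
    have hH'M : H.map (MulAut.conj g).toMonoidHom ≤ M := map_conj_le_iff.2 hstar
    have hcard : Nat.card (H.map (MulAut.conj g).toMonoidHom) = Nat.card H :=
      Subgroup.card_map_of_injective (MulAut.conj g).injective
    have hidx' : ((H.map (MulAut.conj g).toMonoidHom).subgroupOf M).index = H.relIndex M := by
      have e1 := (H.subgroupOf M).card_mul_index
      have e2 := ((H.map (MulAut.conj g).toMonoidHom).subgroupOf M).card_mul_index
      rw [Nat.card_congr (Subgroup.subgroupOfEquivOfLe hHM).toEquiv] at e1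
      rw [Nat.card_congr (Subgroup.subgroupOfEquivOfLe hH'M).toEquiv, hcard, ← e1] at e2
      have hpos : 0 < Nat.card H := Nat.card_pos
      exact Nat.eq_of_mul_eq_mul_left hpos e2
    have hH'n : ((H.map (MulAut.conj g).toMonoidHom).subgroupOf M).Normal := by
      apply Subgroup.normal_of_index_eq_minFac_card
      rw [hidx']
      have : Fact (H.relIndex M).Prime := ⟨hidx⟩
      obtain ⟨k, hk⟩ := (IsPGroup.iff_card).1 hMp
      have hk0 : k ≠ 0 := by
        rintro rfl
        have h1 : H.relIndex M ∣ Nat.card M := Subgroup.relIndex_dvd_card H M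
        rw [hk, pow_zero] at h1
        exact hidx.one_lt.ne' (Nat.dvd_one.1 h1)
      rw [hk, Nat.pow_minFac hk0, hidx.minFac_eq]
    -- now H^g is normalized by M and by M^g
    have hMN' : M ≤ Subgroup.normalizer
        ((H.map (MulAut.conj g).toMonoidHom : Subgroup G) : Set G) := by
      intro m hm
      apply mem_normalizer_of_conj_mem
      intro x hx
      have := hH'n.conj_mem ⟨x, hH'M hx⟩ (Subgroup.mem_subgroupOf.2 hx) ⟨m, hm⟩
      rw [Subgroup.mem_subgroupOf] at this
      simpa using this
    -- an element of M^g outside M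
    have hex : ∃ m ∈ M, g * m * g⁻¹ ∉ M := by
      by_contra hno
      apply hg
      apply hN2
      intro m hm
      by_contra hm'
      exact hno ⟨m, hm, hm'⟩
    obtain ⟨m, hm, hmM⟩ := hex
    have hmN' : g * m * g⁻¹ ∈ Subgroup.normalizer
        ((H.map (MulAut.conj g).toMonoidHom : Subgroup G) : Set G) := by
      apply mem_normalizer_of_conj_mem
      intro x hx
      rw [mem_map_conj_iff] at hx ⊢
      have := hE1 m hm _ hx
      have e : g⁻¹ * (g * m * g⁻¹ * x * (g * m * g⁻¹)⁻¹) * g = m * (g⁻¹ * x * g) * m⁻¹ := by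
        group
      rw [e]
      exact this
    have hN'top := eq_top_of_coatom hmaxM _ hMN' (fun hle => hmM (hle hmN'))
    have hH'normal : (H.map (MulAut.conj g).toMonoidHom).Normal :=
      Subgroup.normalizer_eq_top_iff.1 hN'top
    have hH'bot : H.map (MulAut.conj g).toMonoidHom = ⊥ := by
      rcases hH'normal.eq_bot_or_eq_top with h | h
      · exact h
      · exfalso
        apply hMtop
        rw [eq_top_iff, ← h]
        exact hH'M
    have hHbot : H = ⊥ :=
      (Subgroup.map_eq_bot_iff_of_injective H (MulAut.conj g).injective).1 hH'bot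
    -- M ∩ M^g is nontrivial hence everything
    have hMD : M ≤ M ⊓ M.map (MulAut.conj g).toMonoidHom := by
      apply le_of_coatom_subgroupOf hmaxH
      · rw [hHbot]; exact bot_le
      · intro hle
        apply hyH
        apply hle
        exact ⟨⟨hy, mem_map_conj_iff.2 hy'⟩, hy⟩
    apply hg
    have : g⁻¹ ∈ M := by
      apply hN2
      intro m hm
      have : m ∈ M.map (MulAut.conj g).toMonoidHom := (hMD hm).2
      rw [mem_map_conj_iff] at this
      simpa using this
    simpa using M.inv_mem this
  · have hB : ∀ t : G, t ∉ M → ∀ y ∈ M, t * y * t⁻¹ ∈ M → y ∈ H := by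
      intro t ht y hy hty
      by_contra hyH
      exact hA ⟨t, ht, y, hy, hty, hyH⟩
    obtain ⟨N, hNn, hNM, hcomm⟩ := exists_normal_inter_eq hHM hHn hmaxH hB
    rcases hNn.eq_bot_or_eq_top with h | h
    · apply hG
      rw [h, commutator_def, le_bot_iff, Subgroup.commutator_eq_bot_iff_le_centralizer] at hcomm
      refine ⟨⟨fun a b => ?_⟩⟩
      have := hcomm (Subgroup.mem_top a)
      rw [Subgroup.mem_centralizer_iff] at this
      exact (this b (Subgroup.mem_top b)).symm
    · apply hHneM
      intro m hm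
      exact hNM.le ⟨h ▸ Subgroup.mem_top m, hm⟩

end Cfsg.Agent.S3015
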