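import Cfsg.Statements.S3020
import Cfsg.Agent.Lib.Helper50.ExtClosed
import Cfsg.Agent.Lib.Helper50.Burnside

set_option autoImplicit false
open Cfsg

namespace Cfsg.Agent.S3020

open Cfsg.Agent.Lib.Helper50

/-- Let G be a finite group, p a prime and H an abelian p-subgroup of G that is extremely closed (for every g, the subgroup generated by H and g H g⁻¹ meets N_G(H) exactly in H). Then for every g ∈ G, the subgroup T generated by H and g H g⁻¹ is the product of H with O_{p'}(T), and H meets O_{p'}(T) trivially; that is, O_{p'}(T) is a normal p-complement of H in T. -/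
theorem result {G : Type*} [Group G] [Finite G] {p : ℕ} [Fact p.Prime] (H : Subgroup G) (hHp : IsPGroup p H) (hHab : IsMulCommutative H) (hcl : Cfsg.IsExtremelyClosed H) (g : G) (T : Subgroup G) (hT : T = H ⊔ H.map (MulAut.conj g).toMonoidHom) : H ⊔ (Cfsg.pPrimeCore p ↥T).map T.subtype = T ∧ H ⊓ (Cfsg.pPrimeCore p ↥T).map T.subtype = ⊥ := by
  have hHT : H ≤ T := by rw [hT]; exact le_sup_left
  have hTN : T ⊓ Subgroup.normalizer (H : Set G) = H := by rw [hT]; exact hcl g
  -- Sylow
  have hHTp : IsPGroup p (H.subgroupOf T) := hHp.comap_subtype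
  obtain ⟨P, hP⟩ := hHTp.exists_le_sylow
  have hQp : IsPGroup p ((P : Subgroup T).map T.subtype) := P.isPGroup'.map _
  have hHQ : H ≤ (P : Subgroup T).map T.subtype := by
    intro h hh
    exact ⟨⟨h, hHT hh⟩, hP (by rw [Subgroup.mem_subgroupOf]; exact hh), rfl⟩
  have hQN := extClosed_le_normalizer hcl _ hQp hHQ
  have hQH : (P : Subgroup T).map T.subtype ≤ H := by
    rw [← hTN]
    apply le_inf _ hQN
    rintro _ ⟨x, -, rfl⟩
    exact x.2
  have hPeq : (P : Subgroup T) = H.subgroupOf T := by
    apply le_antisymm _ hP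
    intro x hx
    rw [Subgroup.mem_subgroupOf]
    exact hQH ⟨x, hx, rfl⟩
  have hPmap : (P : Subgroup T).map T.subtype = H := le_antisymm hQH hHQ
  -- Burnside hypothesis
  have hnc : Subgroup.normalizer ((P : Subgroup T) : Set T) ≤ Subgroup.centralizer ((P : Subgroup T) : Set T) := by
    intro n hn
    have hnH : (n : G) ∈ H := by
      rw [← hTN]
      refine ⟨n.2, ?_⟩
      apply mem_normalizer_of_conj_mem
      intro h hh
      have h1 : (⟨h, hHT hh⟩ : T) ∈ (P : Subgroup T) := by
        rw [hPeq, Subgroup.mem_subgroupOf]; exact hh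
      have h2 : n * ⟨h, hHT hh⟩ * n⁻¹ ∈ (P : Subgroup T) := (hn _).mp h1
      rw [hPeq, Subgroup.mem_subgroupOf] at h2
      exact h2
    rw [Subgroup.mem_centralizer_iff]
    intro y hy
    have hy' : y ∈ (P : Subgroup T) := hy
    rw [hPeq, Subgroup.mem_subgroupOf] at hy'
    apply Subtype.ext
    have := (Subgroup.le_centralizer_iff_isMulCommutative.mpr hHab) hnH (y : G) hy'
    exact this
  have hcomp := pPrimeCore_isComplement' P hnc
  have h1 := hcomp.sup_eq_top
  have h2 := hcomp.disjoint
  constructor
  · have := congrArg (Subgroup.map T.subtype) h1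
    rw [Subgroup.map_sup, hPmap, ← MonoidHom.range_eq_map, Subgroup.range_subtype] at this
    rw [sup_comm]
    exact this
  · rw [disjoint_iff] at h2
    have := congrArg (Subgroup.map T.subtype) h2
    rw [Subgroup.map_inf _ _ _ T.subtype_injective, hPmap, Subgroup.map_bot] at this
    rw [inf_comm]
    exact this

end Cfsg.Agent.S3020
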