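import Cfsg.Statements.S3021
import Mathlib.GroupTheory.Nilpotent
import Cfsg.Agent.Lib.Helper50.Basic

set_option autoImplicit false
open Cfsg

namespace Cfsg.Agent.S3021

open Cfsg.Agent.Lib.Helper50

/-- Let G be a finite group, p a prime and H a p-subgroup of G that is extremely closed (for every g, the subgroup generated by H and g H g⁻¹ meets N_G(H) exactly in H). Then every p-subgroup Q of G containing H has N_G(Q) ≤ N_G(H); in particular every Sylow p-subgroup P of G containing H normalizes H, and H is strongly closed in P with respect to G. -/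
theorem result {G : Type*} [Group G] [Finite G] {p : ℕ} [Fact p.Prime] (H : Subgroup G) (hHp : IsPGroup p H) (hcl : Cfsg.IsExtremelyClosed H) : (∀ Q : Subgroup G, IsPGroup p Q → H ≤ Q → Subgroup.normalizer (Q : Set G) ≤ Subgroup.normalizer (H : Set G)) ∧ ∀ P : Sylow p G, H ≤ (P : Subgroup G) → (P : Subgroup G) ≤ Subgroup.normalizer (H : Set G) ∧ Cfsg.IsStronglyClosed H (P : Subgroup G) := by
  -- key consequence of extreme closure
  have key : ∀ g x : G, x ∈ H → g * x * g⁻¹ ∈ Subgroup.normalizer (H : Set G) → g * x * g⁻¹ ∈ H := by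
    intro g x hx hn
    have h1 : g * x * g⁻¹ ∈ (H ⊔ H.map (MulAut.conj g).toMonoidHom) ⊓ Subgroup.normalizer (H : Set G) :=
      ⟨Subgroup.mem_sup_right ⟨x, hx, rfl⟩, hn⟩
    rw [hcl g] at h1
    exact h1
  have lemB : ∀ Q : Subgroup G, IsPGroup p Q → H ≤ Q → Q ≤ Subgroup.normalizer (H : Set G) := by
    intro Q hQ hHQ
    have : Group.IsNilpotent Q := hQ.isNilpotent
    have hnc : NormalizerCondition Q := Group.normalizerCondition_of_isNilpotent
    set N := Q ⊓ Subgroup.normalizer (H : Set G) with hN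
    by_contra hcon
    have hK : N.subgroupOf Q < ⊤ := by
      rw [lt_top_iff_ne_top, Ne, Subgroup.subgroupOf_eq_top]
      intro h
      exact hcon (h.trans inf_le_right)
    have h2 := hnc _ hK
    obtain ⟨x, hx1, hx2⟩ := SetLike.exists_of_lt h2
    apply hx2
    rw [Subgroup.mem_subgroupOf]
    refine ⟨x.2, ?_⟩
    apply mem_normalizer_of_conj_mem
    intro h hh
    apply key (x : G) h hh
    have h3 : (⟨h, hHQ hh⟩ : Q) ∈ N.subgroupOf Q := by
      rw [Subgroup.mem_subgroupOf]
      exact ⟨hHQ hh, Subgroup.le_normalizer hh⟩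
    have h4 : x * ⟨h, hHQ hh⟩ * x⁻¹ ∈ N.subgroupOf Q := (hx1 _).mp h3
    rw [Subgroup.mem_subgroupOf] at h4
    exact h4.2
  refine ⟨?_, ?_⟩
  · intro Q hQ hHQ g hg
    apply mem_normalizer_of_conj_mem
    intro h hh
    apply key g h hh
    apply lemB Q hQ hHQ
    exact (hg h).mp (hHQ hh)
  · intro P hHP
    have hPN := lemB P P.isPGroup' hHP
    refine ⟨hPN, hHP, ?_⟩
    intro x hx g hg
    exact key g x hx (hPN hg)

end Cfsg.Agent.S3021
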