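import Cfsg.Statements.S3023
import Cfsg.Agent.Lib.Helper31.Char2
import Cfsg.Agent.Lib.Helper9.SubnormalSylow
import Cfsg.Agent.Lib.Helper32.PGroupCenter

set_option autoImplicit false
open Cfsg

namespace Cfsg.Agent.S3023

open Subgroup

theorem coe_smul_sylow' {G : Type*} [Group G] {p : ℕ} (g : G) (P : Sylow p G) :
    ((g • P : Sylow p G) : Subgroup G) = (P : Subgroup G).map (MulAut.conj g).toMonoidHom := by
  rw [Sylow.coe_subgroup_smul]; rfl

theorem mem_smul_sylow_iff' {G : Type*} [Group G] {p : ℕ} (g y : G) (P : Sylow p G) :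
    y ∈ ((g • P : Sylow p G) : Subgroup G) ↔ g⁻¹ * y * g ∈ (P : Subgroup G) := by
  rw [coe_smul_sylow']
  constructor
  · rintro ⟨z, hz, rfl⟩
    simp only [MulEquiv.coe_toMonoidHom, MulAut.conj_apply]
    have : g⁻¹ * (g * z * g⁻¹) * g = z := by group
    rw [this]; exact hz
  · intro h
    refine ⟨g⁻¹ * y * g, h, ?_⟩
    simp only [MulEquiv.coe_toMonoidHom, MulAut.conj_apply]
    group

/-- `C_K(V)` computed inside `K` is `C_G(V) ∩ K`. -/
def centSwapEquiv {G : Type*} [Group G] (K : Subgroup G) (V₁ : Subgroup K) :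
    ↥(K.subgroupOf (centralizer ((V₁.map K.subtype : Subgroup G) : Set G))) ≃*
      ↥(centralizer (V₁ : Set ↥K)) where
  toFun a := ⟨⟨a.1.1, mem_subgroupOf.mp a.2⟩, by
    rw [mem_centralizer_iff]
    intro v hv
    apply Subtype.ext
    have h1 := a.1.2
    rw [mem_centralizer_iff] at h1
    exact h1 (v : G) ⟨v, hv, rfl⟩⟩
  invFun b := ⟨⟨b.1.1, by
    rw [mem_centralizer_iff]
    rintro _ ⟨v, hv, rfl⟩
    have h1 := b.2
    rw [mem_centralizer_iff] at h1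
    exact congrArg Subtype.val (h1 v hv)⟩, by
    rw [mem_subgroupOf]; exact b.1.2⟩
  left_inv a := by rfl
  right_inv b := by rfl
  map_mul' a b := by rfl

/-- Let p be a prime, G a finite group of parabolic characteristic p (every p-local subgroup containing a Sylow p-subgroup of G has characteristic p), S a Sylow p-subgroup of G and G₁ a subnormal subgroup of G. If the centre of S ∩ G₁ is nontrivial and contained in the centre of S, then G₁ has parabolic characteristic p. -/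
theorem result {G : Type*} [Group G] [Finite G] {p : ℕ} [Fact p.Prime] (hG : Cfsg.IsOfParabolicCharacteristic p G) (S : Sylow p G) (G₁ : Subgroup G) (hsn : G₁.IsSubnormal) (hne : ((S : Subgroup G) ⊓ G₁) ⊓ Subgroup.centralizer (((S : Subgroup G) ⊓ G₁ : Subgroup G) : Set G) ≠ ⊥) (hle : ((S : Subgroup G) ⊓ G₁) ⊓ Subgroup.centralizer (((S : Subgroup G) ⊓ G₁ : Subgroup G) : Set G) ≤ (S : Subgroup G) ⊓ Subgroup.centralizer ((S : Subgroup G) : Set G)) : Cfsg.IsOfParabolicCharacteristic p ↥G₁ := by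
  intro R hRp hRne hpar
  obtain ⟨T₁, hT₁⟩ := hpar
  change Cfsg.Agent.Lib.Helper48.CharP p ↥(normalizer (R : Set ↥G₁))
  obtain ⟨Q, hQ⟩ := Cfsg.Agent.Lib.Helper9.exists_sylow_eq_subgroupOf p G₁ hsn S
  obtain ⟨g, hg⟩ := MulAction.exists_smul_eq ↥G₁ Q T₁
  -- R ≤ T₁
  have hRT : R ≤ (T₁ : Subgroup ↥G₁) := by
    have h1 : IsPGroup p ((T₁ : Subgroup ↥G₁) ⊔ R : Subgroup ↥G₁) :=
      IsPGroup.to_sup_of_normal_right' T₁.isPGroup' hRp hT₁
    have h2 := T₁.is_maximal' h1 le_sup_left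
    rw [← h2]; exact le_sup_right
  -- a nontrivial element of R central in T₁
  have hRn : (R.subgroupOf (T₁ : Subgroup ↥G₁)).Normal :=
    (normal_subgroupOf_iff_le_normalizer hRT).mpr hT₁
  have hRne' : R.subgroupOf (T₁ : Subgroup ↥G₁) ≠ ⊥ := by
    intro h
    apply hRne
    rw [eq_bot_iff]
    intro x hx
    have : (⟨x, hRT hx⟩ : ↥(T₁ : Subgroup ↥G₁)) ∈ R.subgroupOf (T₁ : Subgroup ↥G₁) :=
      mem_subgroupOf.mpr hx
    rw [h, mem_bot] at this
    rw [mem_bot]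
    exact congrArg Subtype.val this
  obtain ⟨z, hzR, hzc, hz1⟩ := Cfsg.Agent.Lib.Helper32.exists_ne_one_mem_normal_inf_center
    (T₁.isPGroup') (R.subgroupOf (T₁ : Subgroup ↥G₁)) hRne'
  -- V₁ = ⟨z⟩
  set V₁ : Subgroup ↥G₁ := zpowers (z : ↥G₁) with hV₁
  have hV₁R : V₁ ≤ R := by
    rw [hV₁, zpowers_le]; exact mem_subgroupOf.mp hzR
  apply Cfsg.Agent.Lib.Helper31.charP_normalizer_of_centralizer hRp hV₁R
  -- now: C_{G₁}(V₁) has characteristic p
  set V : Subgroup G := V₁.map G₁.subtype with hV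
  have hVp : IsPGroup p V := (hRp.to_le hV₁R).map _
  have hVne : V ≠ ⊥ := by
    intro h
    apply hz1
    have h1 : ((z : ↥G₁) : G) ∈ V := ⟨(z : ↥G₁), mem_zpowers _, rfl⟩
    rw [h, mem_bot] at h1
    apply Subtype.ext; apply Subtype.ext
    exact h1
  -- z commutes with T₁
  have hzT : ∀ t : ↥G₁, t ∈ (T₁ : Subgroup ↥G₁) → t * (z : ↥G₁) = (z : ↥G₁) * t := by
    intro t ht
    have := mem_center_iff.mp hzc ⟨t, ht⟩
    exact congrArg Subtype.val this
  -- the conjugate g⁻¹ z g lies in Z(S ∩ G₁)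
  have hmemT : ∀ t : ↥G₁, t ∈ (T₁ : Subgroup ↥G₁) ↔ g⁻¹ * t * g ∈ (Q : Subgroup ↥G₁) := by
    intro t
    rw [← hg]
    exact mem_smul_sylow_iff' g t Q
  have hzQ : ((g⁻¹ * (z : ↥G₁) * g : ↥G₁) : G) ∈ ((S : Subgroup G) ⊓ G₁) ⊓
      Subgroup.centralizer (((S : Subgroup G) ⊓ G₁ : Subgroup G) : Set G) := by
    refine mem_inf.mpr ⟨mem_inf.mpr ⟨?_, (g⁻¹ * (z : ↥G₁) * g : ↥G₁).2⟩, ?_⟩
    · have h1 := (hmemT (z : ↥G₁)).mp (z : ↥(T₁ : Subgroup ↥G₁)).2
      rw [hQ, mem_subgroupOf] at h1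
      exact h1
    · rw [mem_centralizer_iff]
      intro s hs
      obtain ⟨hsS, hsG⟩ := mem_inf.mp hs
      -- g s g⁻¹ ∈ T₁
      have h1 : g * ⟨s, hsG⟩ * g⁻¹ ∈ (T₁ : Subgroup ↥G₁) := by
        rw [hmemT, hQ, mem_subgroupOf]
        have : g⁻¹ * (g * ⟨s, hsG⟩ * g⁻¹) * g = (⟨s, hsG⟩ : ↥G₁) := by group
        rw [this]; exact hsS
      have h2 := hzT _ h1
      have h3 : (⟨s, hsG⟩ : ↥G₁) * (g⁻¹ * (z : ↥G₁) * g) = (g⁻¹ * (z : ↥G₁) * g) * ⟨s, hsG⟩ := by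
        calc (⟨s, hsG⟩ : ↥G₁) * (g⁻¹ * (z : ↥G₁) * g)
            = g⁻¹ * ((g * ⟨s, hsG⟩ * g⁻¹) * (z : ↥G₁)) * g := by group
          _ = g⁻¹ * ((z : ↥G₁) * (g * ⟨s, hsG⟩ * g⁻¹)) * g := by rw [h2]
          _ = (g⁻¹ * (z : ↥G₁) * g) * ⟨s, hsG⟩ := by group
      exact congrArg Subtype.val h3
  have hzS := hle hzQ
  obtain ⟨_, hzS2⟩ := mem_inf.mp hzS
  rw [mem_centralizer_iff] at hzS2
  -- the Sylow subgroup g • S centralizes V
  have hpar : Cfsg.IsParabolic p (normalizer (V : Set G)) := by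
    refine ⟨(g : G) • S, ?_⟩
    refine le_trans ?_ (centralizer_le_normalizer _)
    intro x hx
    rw [mem_smul_sylow_iff'] at hx
    have hxz : x * ((z : ↥G₁) : G) = ((z : ↥G₁) : G) * x := by
      have h1 := hzS2 _ hx
      have h2 : (((g⁻¹ * (z : ↥G₁) * g : ↥G₁)) : G) = (g : G)⁻¹ * ((z : ↥G₁) : G) * (g : G) := by
        simp
      rw [h2] at h1
      calc x * ((z : ↥G₁) : G)
          = (g : G) * (((g : G)⁻¹ * x * (g : G)) * ((g : G)⁻¹ * ((z : ↥G₁) : G) * (g : G))) * (g : G)⁻¹ := by group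
        _ = (g : G) * (((g : G)⁻¹ * ((z : ↥G₁) : G) * (g : G)) * ((g : G)⁻¹ * x * (g : G))) * (g : G)⁻¹ := by rw [h1]
        _ = ((z : ↥G₁) : G) * x := by group
    have hVz : V = zpowers (((z : ↥G₁) : G)) := by
      rw [hV, hV₁, MonoidHom.map_zpowers]; rfl
    rw [hVz, mem_centralizer_iff]
    rintro _ ⟨k, rfl⟩
    have hc : Commute x (((z : ↥G₁) : G)) := hxz
    exact (hc.zpow_right k).eq.symm
  have hN : Cfsg.Agent.Lib.Helper48.CharP p ↥(normalizer (V : Set G)) := hG V hVp hVne hpar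
  have hC : Cfsg.Agent.Lib.Helper48.CharP p ↥(centralizer (V : Set G)) :=
    Cfsg.Agent.Lib.Helper31.charP_of_normal (centralizer_le_normalizer _)
      (fun x hx => Cfsg.Agent.Lib.Helper31.mem_normalizer_centralizer hx) hN
  have hsub : (G₁.subgroupOf (centralizer (V : Set G))).IsSubnormal := hsn.subgroupOf
  have hC1 : Cfsg.Agent.Lib.Helper48.CharP p ↥(G₁.subgroupOf (centralizer (V : Set G))) :=
    hC.subnormal hsub
  exact hC1.of_equiv (centSwapEquiv G₁ V₁)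

end Cfsg.Agent.S3023
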