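import Cfsg.Statements.S3025
import Cfsg.Agent.S0016
import Cfsg.Agent.Lib.Helper50.Basic

set_option autoImplicit false
open Cfsg

namespace Cfsg.Agent.S3025

open Cfsg.Agent.Lib.Helper50

/-- the normal closure of `H` is simple -/
theorem simple_normalClosure {F : Type*} [Group F] [Finite F] (H : Subgroup F) (hH : H ≠ ⊥)
    (hmin : ∀ R : Subgroup F, R ≠ ⊥ → H ≤ Subgroup.normalizer (R : Set F) → H ≤ R) :
    IsSimpleGroup ↥(Subgroup.normalClosure (H : Set F)) := by
  set N := Subgroup.normalClosure (H : Set F) with hN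
  have hHN : H ≤ N := Subgroup.le_normalClosure
  have hNn : N.Normal := Subgroup.normalClosure_normal
  have hNne : N ≠ ⊥ := fun h => hH (le_bot_iff.1 (h ▸ hHN))
  have : Nontrivial ↥N := (Subgroup.nontrivial_iff_ne_bot N).2 hNne
  refine ⟨fun K' hK' => ?_⟩
  by_cases hK'bot : K' = ⊥
  · exact Or.inl hK'bot
  right
  set K := K'.map N.subtype with hK
  have hKN : K ≤ N := Subgroup.map_subtype_le K'
  have hKne : K ≠ ⊥ := by
    intro h
    exact hK'bot ((Subgroup.map_eq_bot_iff_of_injective K' N.subtype_injective).1 h)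
  have hNK : ∀ m ∈ N, ∀ y ∈ K, m * y * m⁻¹ ∈ K := by
    rintro m hm _ ⟨y', hy', rfl⟩
    exact ⟨⟨m, hm⟩ * y' * ⟨m, hm⟩⁻¹, hK'.conj_mem y' hy' ⟨m, hm⟩, by simp⟩
  have hle : ∀ g : F, H ≤ K.map (MulAut.conj g).toMonoidHom := by
    intro g
    apply hmin
    · intro h
      exact hKne ((Subgroup.map_eq_bot_iff_of_injective K (MulAut.conj g).injective).1 h)
    · intro n hn
      apply mem_normalizer_of_conj_mem
      intro x hx
      rw [mem_map_conj_iff] at hx ⊢
      have hm : g⁻¹ * n * g ∈ N := by
        have := hNn.conj_mem n (hHN hn) g⁻¹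
        simpa using this
      have := hNK _ hm _ hx
      have e : g⁻¹ * (n * x * n⁻¹) * g = g⁻¹ * n * g * (g⁻¹ * x * g) * (g⁻¹ * n * g)⁻¹ := by
        group
      rw [e]
      exact this
  have hNK' : N ≤ K := by
    rw [hN, Subgroup.normalClosure]
    rw [Subgroup.closure_le]
    intro a ha
    rw [Group.mem_conjugatesOfSet_iff] at ha
    obtain ⟨b, hb, hab⟩ := ha
    rw [isConj_iff] at hab
    obtain ⟨c, rfl⟩ := hab
    have := hle c⁻¹ hb
    rw [mem_map_conj_iff] at this
    simpa using this
  rw [eq_top_iff]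
  intro x _
  obtain ⟨y, hy, hyx⟩ := hNK' x.2
  have : y = x := Subtype.ext hyx
  rw [← this]
  exact hy

/-- Let F be a finite group and H a nontrivial subgroup of F that is contained in every nontrivial subgroup of F which H normalizes. Then F has a nontrivial normal subgroup N contained in every nontrivial normal subgroup of F (a unique minimal normal subgroup), N is simple, and one of the following holds: C_F(N) = 1; or H = N has prime order p, C_F(N) is cyclic of order a power of p, and F/C_F(N) is cyclic of order dividing p − 1; or H = N has order 2, N is central in F, and F is a generalized quaternion group. -/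
theorem result {F : Type*} [Group F] [Finite F] (H : Subgroup F) (hH : H ≠ ⊥)
    (hmin : ∀ R : Subgroup F, R ≠ ⊥ → H ≤ Subgroup.normalizer (R : Set F) → H ≤ R) :
    ∃ N : Subgroup F, N.Normal ∧ N ≠ ⊥ ∧ (∀ M : Subgroup F, M.Normal → M ≠ ⊥ → N ≤ M) ∧ IsSimpleGroup ↥N ∧
      (Subgroup.centralizer (N : Set F) = ⊥ ∨
       (H = N ∧ (Nat.card N).Prime ∧ IsCyclic ↥(Subgroup.centralizer (N : Set F)) ∧
          (∃ k : ℕ, 1 ≤ k ∧ Nat.card ↥(Subgroup.centralizer (N : Set F)) = Nat.card N ^ k) ∧
          (∃ g : F, Subgroup.centralizer (N : Set F) ⊔ Subgroup.zpowers g = ⊤) ∧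
          (Subgroup.centralizer (N : Set F)).index ∣ Nat.card N - 1) ∨
       (H = N ∧ Nat.card N = 2 ∧ Subgroup.centralizer (N : Set F) = ⊤ ∧
          ∃ k : ℕ, 1 ≤ k ∧ Nonempty (F ≃* QuaternionGroup (2 ^ k)))) := by
  classical
  set N := Subgroup.normalClosure (H : Set F) with hN
  have hHN : H ≤ N := Subgroup.le_normalClosure
  have hNn : N.Normal := Subgroup.normalClosure_normal
  have hNne : N ≠ ⊥ := fun h => hH (le_bot_iff.1 (h ▸ hHN))
  have huniqmin : ∀ M : Subgroup F, M.Normal → M ≠ ⊥ → N ≤ M := by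
    intro M hM hM1
    have : H ≤ M := hmin M hM1 (by rw [Subgroup.normalizer_eq_top_iff.2 hM]; exact le_top)
    exact Subgroup.normalClosure_le_normal this
  have hsimple : IsSimpleGroup ↥N := simple_normalClosure H hH hmin
  refine ⟨N, hNn, hNne, huniqmin, hsimple, ?_⟩
  by_cases hC : Subgroup.centralizer (N : Set F) = ⊥
  · exact Or.inl hC
  right
  set C := Subgroup.centralizer (N : Set F) with hCdef
  have hCn : C.Normal := Subgroup.normal_centralizer
  have hNC : N ≤ C := huniqmin _ hCn hC
  have hcommN : ∀ a b : N, a * b = b * a := fun a b =>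
    Subtype.ext ((Subgroup.mem_centralizer_iff.1 (hNC b.2)) a a.2)
  have hprime : (Nat.card N).Prime := by
    let _ : CommGroup ↥N := { (inferInstance : Group ↥N) with mul_comm := hcommN }
    exact IsSimpleGroup.prime_card
  have hHeq : H = N := by
    apply Subgroup.eq_of_le_of_card_ge hHN
    have h1 : Nat.card H ∣ Nat.card N := Subgroup.card_dvd_of_le hHN
    rcases (Nat.dvd_prime hprime).1 h1 with h2 | h2
    · exact absurd (Subgroup.card_eq_one.1 h2) hH
    · exact h2.ge
  have hfact : Fact (Nat.card N).Prime := ⟨hprime⟩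
  have hK : ∀ R : Subgroup F, R ≠ ⊥ → R ≤ C → N ≤ R := by
    intro R hR hRC
    have h1 : N ≤ Subgroup.centralizer (R : Set F) := Subgroup.le_centralizer_iff.1 hRC
    have h2 : H ≤ Subgroup.normalizer (R : Set F) := by
      rw [hHeq]
      exact h1.trans (Subgroup.centralizer_le_normalizer _)
    have := hmin R hR h2
    rwa [hHeq] at this
  have hCcard : ∃ k, Nat.card C = Nat.card N ^ k := by
    refine ⟨_, Nat.eq_prime_pow_of_unique_prime_dvd Nat.card_pos.ne' ?_⟩
    intro q hq hqd
    have := Fact.mk hq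
    obtain ⟨x, hx⟩ := exists_prime_orderOf_dvd_card' q hqd
    have hx1 : (x : F) ≠ 1 := by
      intro h
      have : x = 1 := Subtype.ext h
      rw [this, orderOf_one] at hx
      exact hq.one_lt.ne hx
    have hne : Subgroup.zpowers (x : F) ≠ ⊥ := by
      intro h
      apply hx1
      have : (x : F) ∈ Subgroup.zpowers (x : F) := Subgroup.mem_zpowers _
      rw [h] at this
      exact Subgroup.mem_bot.1 this
    have hR : N ≤ Subgroup.zpowers (x : F) := hK _ hne (Subgroup.zpowers_le.2 x.2)
    have h3 : Nat.card N ∣ Nat.card (Subgroup.zpowers (x : F)) := Subgroup.card_dvd_of_le hR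
    rw [Nat.card_zpowers, Subgroup.orderOf_coe, hx] at h3
    exact ((Nat.prime_dvd_prime_iff_eq hprime hq).1 h3).symm
  obtain ⟨k, hk⟩ := hCcard
  have hCp : IsPGroup (Nat.card N) C := IsPGroup.of_card hk
  have hk1 : 1 ≤ k := by
    rcases Nat.eq_zero_or_pos k with h | h
    · exfalso
      rw [h, pow_zero] at hk
      exact hC (Subgroup.card_eq_one.1 hk)
    · exact h
  have huniq : ∀ H₁ K₁ : Subgroup C, Nat.card H₁ = Nat.card N → Nat.card K₁ = Nat.card N →
      H₁ = K₁ := by
    have key : ∀ H₁ : Subgroup C, Nat.card H₁ = Nat.card N → H₁.map C.subtype = N := by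
      intro H₁ h1
      have hne : H₁.map C.subtype ≠ ⊥ := by
        intro h
        have := (Subgroup.map_eq_bot_iff_of_injective H₁ C.subtype_injective).1 h
        rw [this, Subgroup.card_bot] at h1
        exact hprime.one_lt.ne h1
      have hle := hK _ hne (Subgroup.map_subtype_le H₁)
      symm
      apply Subgroup.eq_of_le_of_card_ge hle
      rw [Subgroup.card_map_of_injective C.subtype_injective, h1]
    intro H₁ K₁ h1 h2
    apply Subgroup.map_injective C.subtype_injective
    rw [key H₁ h1, key K₁ h2]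
  have h16 := Cfsg.Agent.S0016.result (G := ↥C) (Nat.card N) hCp huniq
  -- the conjugation action
  let φ : F →* MulAut ↥N := MulAut.conjNormal
  have hker : φ.ker = C := by
    ext g
    rw [MonoidHom.mem_ker, Subgroup.mem_centralizer_iff]
    constructor
    · intro h n hn
      have h1 : ((φ g ⟨n, hn⟩ : N) : F) = n := by rw [h]; rfl
      rw [MulAut.conjNormal_apply] at h1
      have : g * n = n * g := by
        have := congrArg (· * g) h1
        simpa [mul_assoc] using this
      exact this.symm
    · intro h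
      ext n
      rw [MulAut.conjNormal_apply]
      have := h n n.2
      show g * (n : F) * g⁻¹ = n
      rw [← this, mul_assoc, mul_inv_cancel, mul_one]
  have hcycN : IsCyclic ↥N := isCyclic_of_prime_card rfl
  have hcardAut : Nat.card (MulAut ↥N) = Nat.card N - 1 := by
    rw [IsCyclic.card_mulAut, Nat.totient_prime hprime]
  have hcycAut : IsCyclic (MulAut ↥N) :=
    isCyclic_of_surjective (IsCyclic.mulAutMulEquiv ↥N).symm (IsCyclic.mulAutMulEquiv ↥N).symm.surjective
  have hidx : C.index ∣ Nat.card N - 1 := by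
    rw [← hker, Subgroup.index_ker, ← hcardAut]
    exact Subgroup.card_subgroup_dvd_card _
  have hgen : ∃ g : F, C ⊔ Subgroup.zpowers g = ⊤ := by
    have hcr : IsCyclic ↥φ.range := inferInstance
    obtain ⟨⟨y, hy⟩, hgen⟩ := hcr.exists_generator
    obtain ⟨g, rfl⟩ := hy
    refine ⟨g, ?_⟩
    rw [eq_top_iff]
    intro x _
    obtain ⟨m, hm⟩ := Subgroup.mem_zpowers_iff.1 (hgen ⟨φ x, ⟨x, rfl⟩⟩)
    have h1 : φ g ^ m = φ x := by
      have := congrArg Subtype.val hm
      simpa using this
    have h2 : x * (g ^ m)⁻¹ ∈ C := by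
      rw [← hker, MonoidHom.mem_ker, map_mul, map_inv, map_zpow, h1, mul_inv_cancel]
    have h3 : x = x * (g ^ m)⁻¹ * g ^ m := by group
    rw [h3]
    exact Subgroup.mul_mem _ (Subgroup.mem_sup_left h2)
      (Subgroup.mem_sup_right (Subgroup.zpow_mem _ (Subgroup.mem_zpowers g) m))
  by_cases hcyc : IsCyclic ↥C
  · left
    exact ⟨hHeq, hprime, hcyc, ⟨k, hk1, hk⟩, hgen, hidx⟩
  · right
    rcases h16 with h | ⟨hp2, n, ⟨e⟩⟩
    · exact absurd h hcyc
    · rw [hp2] at hidx
      have hCtop : C = ⊤ := by
        apply Subgroup.index_eq_one.1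
        exact Nat.dvd_one.1 hidx
      refine ⟨hHeq, hp2, hCtop, n, ?_, ?_⟩
      · rcases Nat.eq_zero_or_pos n with h | h
        · exfalso
          apply hcyc
          rw [h, pow_zero] at e
          have := QuaternionGroup.quaternionGroup_one_isCyclic
          exact isCyclic_of_surjective e.symm e.symm.surjective
        · exact h
      · exact ⟨(Subgroup.topEquiv.symm.trans (MulEquiv.subgroupCongr hCtop.symm)).trans e⟩

end Cfsg.Agent.S3025
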