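import Cfsg.Statements.S3027
import Cfsg.Agent.Lib.Helper50.Basic
import Mathlib.Order.SupClosed

set_option autoImplicit false
open Cfsg

namespace Cfsg.Agent.S3027

open Cfsg.Agent.Lib.Helper50

theorem sup_eq_top_iff_map {G : Type*} [Group G] (D : Subgroup G) [D.Normal] (Z : Subgroup G) :
    Z ⊔ D = ⊤ ↔ Z.map (QuotientGroup.mk' D) = ⊤ := by
  constructor
  · intro h
    have := congrArg (Subgroup.map (QuotientGroup.mk' D)) h
    rw [Subgroup.map_sup, Subgroup.map_top_of_surjective _ (QuotientGroup.mk'_surjective D)] at this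
    have hD : D.map (QuotientGroup.mk' D) = ⊥ := by
      rw [Subgroup.map_eq_bot_iff, QuotientGroup.ker_mk']
    rw [hD, sup_bot_eq] at this
    exact this
  · intro h
    have := congrArg (Subgroup.comap (QuotientGroup.mk' D)) h
    rw [Subgroup.comap_map_eq, QuotientGroup.ker_mk', Subgroup.comap_top] at this
    exact this

theorem commutator_sup_eq_top {G : Type*} [Group G] (D : Subgroup G) [D.Normal]
    (hperf : ⁅(⊤ : Subgroup G), (⊤ : Subgroup G)⁆ ⊔ D = ⊤) {X Y : Subgroup G}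
    (hX : X ⊔ D = ⊤) (hY : Y ⊔ D = ⊤) : ⁅X, Y⁆ ⊔ D = ⊤ := by
  rw [sup_eq_top_iff_map] at hX hY hperf ⊢
  rw [Subgroup.map_commutator, hX, hY]
  rw [Subgroup.map_commutator,
    Subgroup.map_top_of_surjective _ (QuotientGroup.mk'_surjective D)] at hperf
  exact hperf

theorem inf_sup_eq_top {G : Type*} [Group G] (D : Subgroup G) [D.Normal]
    (hperf : ⁅(⊤ : Subgroup G), (⊤ : Subgroup G)⁆ ⊔ D = ⊤) :
    ∀ {B₁ : Subgroup G}, B₁.IsSubnormal → ∀ {B₂ : Subgroup G}, B₂.IsSubnormal →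
      B₁ ⊔ D = ⊤ → B₂ ⊔ D = ⊤ → (B₁ ⊓ B₂) ⊔ D = ⊤ := by
  intro B₁ h₁
  induction h₁ with
  | top =>
    intro B₂ _ _ h
    rwa [top_inf_eq]
  | step B₁ K₁ hle₁ hK₁ hN₁ ih₁ =>
    intro B₂ h₂
    induction h₂ with
    | top =>
      intro h _
      rwa [inf_top_eq]
    | step B₂ K₂ hle₂ hK₂ hN₂ ih₂ =>
      intro hB₁ hB₂
      have hK₁D : K₁ ⊔ D = ⊤ := top_le_iff.1 (hB₁ ▸ sup_le_sup_right hle₁ D)
      have hK₂D : K₂ ⊔ D = ⊤ := top_le_iff.1 (hB₂ ▸ sup_le_sup_right hle₂ D)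
      have hX : (K₁ ⊓ B₂) ⊔ D = ⊤ :=
        ih₁ (Subgroup.IsSubnormal.step B₂ K₂ hle₂ hK₂ hN₂) hK₁D hB₂
      have hY : (B₁ ⊓ K₂) ⊔ D = ⊤ := ih₂ hB₁ hK₂D
      have hcomm := commutator_sup_eq_top D hperf hX hY
      have hle : ⁅K₁ ⊓ B₂, B₁ ⊓ K₂⁆ ≤ B₁ ⊓ B₂ := by
        rw [Subgroup.commutator_le]
        intro x hx y hy
        rw [commutatorElement_def]
        constructor
        · have h1 := hN₁.conj_mem ⟨y, hle₁ hy.1⟩ (Subgroup.mem_subgroupOf.2 hy.1) ⟨x, hx.1⟩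
          rw [Subgroup.mem_subgroupOf] at h1
          have h2 : x * y * x⁻¹ ∈ B₁ := by simpa using h1
          exact B₁.mul_mem h2 (B₁.inv_mem hy.1)
        · have h1 := hN₂.conj_mem ⟨x⁻¹, hle₂ (B₂.inv_mem hx.2)⟩
            (Subgroup.mem_subgroupOf.2 (B₂.inv_mem hx.2)) ⟨y, hy.2⟩
          rw [Subgroup.mem_subgroupOf] at h1
          have h2 : y * x⁻¹ * y⁻¹ ∈ B₂ := by simpa using h1
          have e : x * y * x⁻¹ * y⁻¹ = x * (y * x⁻¹ * y⁻¹) := by group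
          rw [e]
          exact B₂.mul_mem hx.2 h2
      exact top_le_iff.1 (hcomm ▸ sup_le_sup_right hle D)

/-- Let G be a finite group and D a normal subgroup of G such that G/D is perfect (that is, G = G′D). Then among the subnormal subgroups B of G with BD = G there is a least one, and it is normal in G. -/
theorem result {G : Type*} [Group G] [Finite G] (D : Subgroup G) [D.Normal] (hperf : ⁅(⊤ : Subgroup G), (⊤ : Subgroup G)⁆ ⊔ D = ⊤) :
    ∃ B : Subgroup G, B.Normal ∧ B ⊔ D = ⊤ ∧ ∀ B' : Subgroup G, B'.IsSubnormal → B' ⊔ D = ⊤ → B ≤ B' := by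
  classical
  have hclosed : InfClosed {B : Subgroup G | B.IsSubnormal ∧ B ⊔ D = ⊤} :=
    fun B₁ h₁ B₂ h₂ => ⟨h₁.1.inf h₂.1, inf_sup_eq_top D hperf h₁.1 h₂.1 h₁.2 h₂.2⟩
  have htop : (⊤ : Subgroup G) ∈ {B : Subgroup G | B.IsSubnormal ∧ B ⊔ D = ⊤} :=
    ⟨Subgroup.IsSubnormal.top, top_sup_eq _⟩
  have hfin : {B : Subgroup G | B.IsSubnormal ∧ B ⊔ D = ⊤}.Finite := Set.toFinite _
  have hB : sInf {B : Subgroup G | B.IsSubnormal ∧ B ⊔ D = ⊤} ∈
      {B : Subgroup G | B.IsSubnormal ∧ B ⊔ D = ⊤} :=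
    hclosed.sInf_mem hfin htop (subset_refl _)
  refine ⟨sInf {B : Subgroup G | B.IsSubnormal ∧ B ⊔ D = ⊤}, ?_, hB.2,
    fun B' h1 h2 => sInf_le ⟨h1, h2⟩⟩
  constructor
  intro n hn g
  rw [Subgroup.mem_sInf] at hn ⊢
  intro B hBF
  have hDmap : D.map (MulAut.conj g⁻¹).toMonoidHom = D := by
    ext y
    rw [mem_map_conj_iff]
    constructor
    · intro h
      have := (inferInstance : D.Normal).conj_mem _ h g⁻¹
      simpa [mul_assoc] using this
    · intro h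
      have := (inferInstance : D.Normal).conj_mem _ h g
      simpa [mul_assoc] using this
  have hB' : B.map (MulAut.conj g⁻¹).toMonoidHom ∈
      {B : Subgroup G | B.IsSubnormal ∧ B ⊔ D = ⊤} := by
    refine ⟨hBF.1.map (MulAut.conj g⁻¹).surjective, ?_⟩
    have h1 : B.map (MulAut.conj g⁻¹).toMonoidHom ⊔ D =
        (B ⊔ D).map (MulAut.conj g⁻¹).toMonoidHom := by
      rw [Subgroup.map_sup, hDmap]
    rw [h1, hBF.2]
    exact Subgroup.map_top_of_surjective _ (MulAut.conj g⁻¹).surjective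
  have := hn _ hB'
  rw [mem_map_conj_iff] at this
  simpa using this

end Cfsg.Agent.S3027
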