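import Cfsg.Statements.S3032
import Cfsg.Agent.S3031
import Cfsg.Agent.Lib.Helper68.HCycD
import Cfsg.Agent.Lib.Helper72.HSubBasic
import Cfsg.Agent.Lib.Helper33.SylowSub
-- import your own Cfsg.Agent.* helpers here

set_option autoImplicit false
open Cfsg

namespace Cfsg.Agent.S3032

open Subgroup Cfsg.Agent.Lib.Helper9 Cfsg.Agent.Lib.Helper68.HCyc Cfsg.Agent.Lib.Helper33
  Cfsg.Agent.Lib.Helper72.HSub

universe u

/-- the hypothesis of the statement, for a subgroup `E` -/
def Hyp {G : Type u} [Group G] (E : Subgroup G) : Prop :=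
  ∀ (p : ℕ), p.Prime → ∀ P : Subgroup G, P ≤ E → IsPGroup p P → ¬ p ∣ P.relIndex E →
    ¬ IsCyclic ↥P →
      ∃ D : Subgroup G, D ≤ P ∧ 1 < Nat.card D ∧ Nat.card D < Nat.card P ∧
        ∀ F : Subgroup G, F ≤ P →
          (Nat.card F = Nat.card D ∨ (Nat.card D = 2 ∧ Nat.card F = 4)) →
          ∀ g : G, F.map (MulAut.conj g).toMonoidHom ⊓ Subgroup.normalizer (F : Set G) ≤ F

/-- a normal `p`-complement of a normal subgroup is normal in the whole group -/
theorem normal_of_complement {G : Type u} [Group G] [Finite G] (E : Subgroup G) [hEn : E.Normal]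
    {p : ℕ} [hp : Fact p.Prime] (P' : Sylow p ↥E) (N : Subgroup ↥E) [hNn : N.Normal]
    (hcompl : N.IsComplement' (P' : Subgroup ↥E)) (hcop : (Nat.card N).Coprime p) :
    (N.map E.subtype).Normal := by
  refine ⟨?_⟩
  rintro _ ⟨n, hn, rfl⟩ g
  have hzE : g * (n : G) * g⁻¹ ∈ E := hEn.conj_mem _ n.2 g
  have hzN : (⟨g * (n : G) * g⁻¹, hzE⟩ : ↥E) ∈ N := by
    have h1 : orderOf (⟨g * (n : G) * g⁻¹, hzE⟩ : ↥E) = orderOf n := by
      rw [← Subgroup.orderOf_coe, ← Subgroup.orderOf_coe n]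
      exact (MulAut.conj g).orderOf_eq (n : G)
    have h2 : orderOf n ∣ Nat.card N := by
      have := orderOf_dvd_natCard (⟨n, hn⟩ : ↥N)
      rwa [← Subgroup.orderOf_coe] at this
    have h3 : Nat.card (↥E ⧸ N) = Nat.card (P' : Subgroup ↥E) := by
      have e1 := Subgroup.card_eq_card_quotient_mul_card_subgroup N
      have e2 := hcompl.card_mul_card
      have hpos : 0 < Nat.card N := Nat.card_pos
      rw [e1] at e2
      exact (Nat.eq_of_mul_eq_mul_right hpos (by rw [mul_comm]; exact e2)).symm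
    obtain ⟨k, hk⟩ := P'.isPGroup'.exists_card_eq
    have h4 : orderOf (QuotientGroup.mk' N (⟨g * (n : G) * g⁻¹, hzE⟩ : ↥E)) ∣ p ^ k := by
      rw [← hk, ← h3]
      exact orderOf_dvd_natCard _
    have h5 : orderOf (QuotientGroup.mk' N (⟨g * (n : G) * g⁻¹, hzE⟩ : ↥E)) ∣ Nat.card N :=
      (orderOf_map_dvd _ _).trans (h1 ▸ h2)
    have h6 : (Nat.card N).Coprime (p ^ k) := hcop.pow_right k
    have h7 := Nat.dvd_gcd h5 h4
    rw [Nat.Coprime.gcd_eq_one h6] at h7
    have h8 := orderOf_eq_one_iff.mp (Nat.dvd_one.mp h7)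
    exact (QuotientGroup.eq_one_iff _).mp h8
  exact ⟨⟨g * (n : G) * g⁻¹, hzE⟩, hzN, rfl⟩

/-- the normal `p`-complement of `E` for the smallest prime divisor `p` of `|E|`, via S3031 -/
theorem exists_normal_complement {G : Type u} [Group G] [Finite G] (E : Subgroup G)
    [hEn : E.Normal] (hE : E ≠ ⊥) (h : Hyp E) :
    ∃ (p : ℕ) (P K : Subgroup G), p.Prime ∧ P ≤ E ∧ IsPGroup p P ∧ ¬ p ∣ P.relIndex E ∧
      K ≤ E ∧ K.Normal ∧ (Nat.card K).Coprime p ∧ (∀ e ∈ E, ∃ k ∈ K, ∃ x ∈ P, e = k * x) ∧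
      Nat.card K * Nat.card P = Nat.card E ∧ p ∣ Nat.card E := by
  have hcard1 : Nat.card E ≠ 1 := fun h1 => hE (Subgroup.card_eq_one.mp h1)
  have hp : (Nat.card E).minFac.Prime := Nat.minFac_prime hcard1
  haveI : Fact (Nat.card E).minFac.Prime := ⟨hp⟩
  have hdiv : (Nat.card E).minFac ∣ Nat.card ↥E := Nat.minFac_dvd _
  have hmin : ∀ q : ℕ, q.Prime → q ∣ Nat.card ↥E → (Nat.card E).minFac ≤ q :=
    fun q hq hqd => Nat.minFac_le_of_dvd hq.two_le hqd
  -- transfer of the Sylow data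
  have hsyl : ∀ P0 : Sylow (Nat.card E).minFac ↥E,
      ((P0 : Subgroup ↥E).map E.subtype) ≤ E ∧
      IsPGroup (Nat.card E).minFac ↥((P0 : Subgroup ↥E).map E.subtype) ∧
      ¬ (Nat.card E).minFac ∣ ((P0 : Subgroup ↥E).map E.subtype).relIndex E := by
    intro P0
    refine ⟨Subgroup.map_subtype_le _, P0.isPGroup'.map _, ?_⟩
    have hsub : ((P0 : Subgroup ↥E).map E.subtype).subgroupOf E = (P0 : Subgroup ↥E) :=
      Subgroup.comap_map_eq_self_of_injective E.subtype_injective _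
    rw [Subgroup.relIndex, hsub]
    exact P0.not_dvd_index
  have hcase : ∀ P0 : Sylow (Nat.card E).minFac ↥E,
      IsCyclic ↥(P0 : Subgroup ↥E) ∨ ∃ D : Subgroup ↥E, D ≤ (P0 : Subgroup ↥E) ∧
        1 < Nat.card D ∧ Nat.card D < Nat.card (P0 : Subgroup ↥E) ∧
        ∀ E' : Subgroup ↥E, E' ≤ (P0 : Subgroup ↥E) →
          (Nat.card E' = Nat.card D ∨ (Nat.card D = 2 ∧ Nat.card E' = 4)) →
          ∀ g : ↥E, E'.map (MulAut.conj g).toMonoidHom ⊓ Subgroup.normalizer (E' : Set ↥E) ≤ E' := by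
    intro P0
    by_cases hc : IsCyclic ↥(P0 : Subgroup ↥E)
    · exact Or.inl hc
    right
    obtain ⟨hPE, hPp, hrel⟩ := hsyl P0
    have hnc : ¬ IsCyclic ↥((P0 : Subgroup ↥E).map E.subtype) := by
      intro hcyc
      apply hc
      exact isCyclic_of_surjective
        (Subgroup.equivMapOfInjective (P0 : Subgroup ↥E) E.subtype E.subtype_injective).symm
        (Subgroup.equivMapOfInjective (P0 : Subgroup ↥E) E.subtype
          E.subtype_injective).symm.surjective
    obtain ⟨D, hDP, hD1, hDlt, hD⟩ := h _ hp _ hPE hPp hrel hnc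
    have hcardmap : ∀ X : Subgroup ↥E, Nat.card ↥(X.map E.subtype) = Nat.card ↥X := fun X =>
      (Nat.card_congr (Subgroup.equivMapOfInjective X E.subtype E.subtype_injective).toEquiv).symm
    have hDcard : Nat.card ↥(D.subgroupOf E) = Nat.card D :=
      Nat.card_congr (Subgroup.subgroupOfEquivOfLe (hDP.trans hPE)).toEquiv
    refine ⟨D.subgroupOf E, ?_, by rw [hDcard]; exact hD1, ?_, ?_⟩
    · intro x hx
      obtain ⟨y, hy, hyx⟩ := hDP (Subgroup.mem_subgroupOf.mp hx)
      have : y = x := Subtype.ext hyx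
      rw [← this]
      exact hy
    · rw [hDcard, ← hcardmap]
      exact hDlt
    · intro E' hE'P hE'card g y hy
      have hFP : E'.map E.subtype ≤ (P0 : Subgroup ↥E).map E.subtype := Subgroup.map_mono hE'P
      have hF := hD (E'.map E.subtype) hFP (by rw [hcardmap, ← hDcard]; exact hE'card) (g : G)
      have hyF : (y : G) ∈ E'.map E.subtype := by
        apply hF
        refine ⟨?_, ?_⟩
        · obtain ⟨e, he, hey⟩ := hy.1
          refine ⟨(e : G), ⟨e, he, rfl⟩, ?_⟩
          rw [← hey]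
          rfl
        · apply Cfsg.Agent.Lib.Helper50.mem_normalizer_of_conj_mem
          rintro _ ⟨e, he, rfl⟩
          exact ⟨y * e * y⁻¹, (Subgroup.mem_normalizer_iff.mp hy.2 e).mp he, rfl⟩
      obtain ⟨e, he, hey⟩ := hyF
      have : e = y := Subtype.ext hey
      rw [← this]
      exact he
  obtain ⟨P', N, hNn, hcompl⟩ :=
    Cfsg.Agent.S3031.result (G := ↥E) hdiv hmin (default : Sylow (Nat.card E).minFac ↥E)
      (hcase default)
  haveI := hNn
  obtain ⟨hPE, hPp, hrel⟩ := hsyl P'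
  have hcardmap : ∀ X : Subgroup ↥E, Nat.card ↥(X.map E.subtype) = Nat.card ↥X := fun X =>
    (Nat.card_congr (Subgroup.equivMapOfInjective X E.subtype E.subtype_injective).toEquiv).symm
  have hcm := hcompl.card_mul_card
  have hcop : (Nat.card N).Coprime (Nat.card E).minFac := by
    have h1 := Subgroup.index_mul_card (P' : Subgroup ↥E)
    have hpos : 0 < Nat.card (P' : Subgroup ↥E) := Nat.card_pos
    have h2 : Nat.card N = (P' : Subgroup ↥E).index :=
      Nat.eq_of_mul_eq_mul_right hpos (hcm.trans h1.symm)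
    have h3 : ¬ (Nat.card E).minFac ∣ Nat.card N := by
      rw [h2]
      exact P'.not_dvd_index
    exact ((Nat.Prime.coprime_iff_not_dvd hp).mpr h3).symm
  refine ⟨(Nat.card E).minFac, (P' : Subgroup ↥E).map E.subtype, N.map E.subtype, hp, hPE, hPp,
    hrel, Subgroup.map_subtype_le _, normal_of_complement E P' N hcompl hcop, ?_, ?_, ?_, hdiv⟩
  · rw [hcardmap]
    exact hcop
  · intro e he
    obtain ⟨⟨⟨n, hn⟩, ⟨s, hs⟩⟩, hns, -⟩ := hcompl.existsUnique ⟨e, he⟩
    simp only at hns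
    refine ⟨(n : G), ⟨n, hn, rfl⟩, (s : G), ⟨s, hs, rfl⟩, ?_⟩
    have := congrArg Subtype.val hns
    simpa using this.symm
  · rw [hcardmap, hcardmap]
    exact hcm

section step2

variable {G : Type u} [Group G] [Finite G] (E K P : Subgroup G) [hEn : E.Normal] [hKn : K.Normal]

/-- the quotient by the normal `p`-complement is supersolvable -/
theorem step2 {p : ℕ} [hp : Fact p.Prime] (h : Hyp E) (hKE : K ≤ E) (hPE : P ≤ E)
    (hPp : IsPGroup p P) (hrel : ¬ p ∣ P.relIndex E) (hKcop : (Nat.card K).Coprime p)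
    (hdec : ∀ e ∈ E, ∃ k ∈ K, ∃ x ∈ P, e = k * x) (hGE : Cfsg.IsSupersolvable (G ⧸ E)) :
    Cfsg.IsSupersolvable (G ⧸ K) := by
  have hπK : ∀ k ∈ K, QuotientGroup.mk' K k = 1 := fun k hk => (QuotientGroup.eq_one_iff k).mpr hk
  have hlift : ∀ y ∈ E.map (QuotientGroup.mk' K), ∃ x ∈ P, QuotientGroup.mk' K x = y := by
    rintro _ ⟨e, he, rfl⟩
    obtain ⟨k, hk, x, hx, rfl⟩ := hdec e he
    exact ⟨x, hx, by rw [map_mul, hπK k hk, one_mul]⟩
  have hQp : IsPGroup p ↥(E.map (QuotientGroup.mk' K)) := by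
    rintro ⟨y, hy⟩
    obtain ⟨x, hx, rfl⟩ := hlift y hy
    obtain ⟨j, hj⟩ := hPp ⟨x, hx⟩
    refine ⟨j, Subtype.ext ?_⟩
    have hj' : x ^ p ^ j = 1 := by simpa using congrArg Subtype.val hj
    rw [Subgroup.coe_pow, Subgroup.coe_one]
    show (QuotientGroup.mk' K x) ^ p ^ j = 1
    rw [← map_pow, hj', map_one]
  have hinj : ∀ x ∈ P, QuotientGroup.mk' K x = 1 → x = 1 := by
    intro x hx h1
    have hxK : x ∈ K := (QuotientGroup.eq_one_iff x).mp h1
    have h2 : orderOf x ∣ Nat.card K := Subgroup.orderOf_dvd_natCard K hxK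
    obtain ⟨j, hj⟩ := hPp ⟨x, hx⟩
    have hj' : x ^ p ^ j = 1 := by simpa using congrArg Subtype.val hj
    have h3 : orderOf x ∣ p ^ j := orderOf_dvd_of_pow_eq_one hj'
    have h4 : (Nat.card K).Coprime (p ^ j) := hKcop.pow_right j
    have h5 := Nat.dvd_gcd h2 h3
    rw [Nat.Coprime.gcd_eq_one h4] at h5
    exact orderOf_eq_one_iff.mp (Nat.dvd_one.mp h5)
  have hQeq : E.map (QuotientGroup.mk' K) = P.map (QuotientGroup.mk' K) :=
    le_antisymm (fun y hy => by
      obtain ⟨x, hx, rfl⟩ := hlift y hy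
      exact Subgroup.mem_map_of_mem _ hx) (Subgroup.map_mono hPE)
  have hssQ : Cfsg.IsSupersolvable ((G ⧸ K) ⧸ E.map (QuotientGroup.mk' K)) :=
    isSupersolvable_of_mulEquiv (QuotientGroup.quotientQuotientEquivQuotient K E hKE).symm hGE
  have hcardmap : ∀ X : Subgroup G, X ≤ P →
      Nat.card ↥(X.map (QuotientGroup.mk' K)) = Nat.card ↥X :=
    fun X hX => card_map_of_injOn _ X (fun x hx => hinj x (hX hx))
  refine supersolvable_of_normal_family (p := p) (E.map (QuotientGroup.mk' K)) hQp hssQ ?_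
  by_cases hPc : IsCyclic ↥P
  · left
    rw [hQeq]
    haveI := hPc
    exact isCyclic_of_surjective ((QuotientGroup.mk' K).subgroupMap P)
      ((QuotientGroup.mk' K).subgroupMap_surjective P)
  right
  obtain ⟨D, hDP, hD1, hDlt, hD⟩ := h p hp.out P hPE hPp hrel hPc
  refine ⟨D.map (QuotientGroup.mk' K), Subgroup.map_mono (hDP.trans hPE),
    by rw [hcardmap D hDP]; exact hD1,
    by rw [hcardmap D hDP, hQeq, hcardmap P le_rfl]; exact hDlt, ?_⟩
  intro Fb hFbQ hFbcard
  obtain ⟨F, hFdef⟩ : ∃ F : Subgroup G, F = Fb.comap (QuotientGroup.mk' K) ⊓ P := ⟨_, rfl⟩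
  have hFP : F ≤ P := by rw [hFdef]; exact inf_le_right
  have hFmap : F.map (QuotientGroup.mk' K) = Fb := by
    apply le_antisymm
    · rintro _ ⟨x, hx, rfl⟩
      rw [hFdef] at hx
      exact hx.1
    · intro y hy
      obtain ⟨x, hx, rfl⟩ := hlift y (hFbQ hy)
      refine ⟨x, ?_, rfl⟩
      rw [hFdef]
      exact ⟨hy, hx⟩
  have hFcard : Nat.card F = Nat.card Fb := by rw [← hFmap, hcardmap F hFP]
  rw [hcardmap D hDP] at hFbcard
  have hFH := hD F hFP (by rw [hFcard]; exact hFbcard)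
  have hPN : P ≤ normalizer (F : Set G) := le_normalizer_of_H hPp hFP hFH
  have hscl : SCl P F := scl_of_H hPp hFP hFH
  refine ⟨fun y hy γ => ?_⟩
  obtain ⟨g, rfl⟩ := QuotientGroup.mk'_surjective K γ
  rw [← hFmap] at hy ⊢
  obtain ⟨f, hf, rfl⟩ := hy
  have hFgE : cj g F ≤ E := by
    intro z hz
    obtain ⟨x, hx, rfl⟩ := mem_cj'.mp hz
    exact hEn.conj_mem x (hPE (hFP hx)) g
  have hFgp : IsPGroup p ↥(cj g F) := (hPp.to_le hFP).map _
  obtain ⟨e, he, hle⟩ := sylow_sub hPE hPp hrel hFgE hFgp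
  have h1 : (e * g) * f * (e * g)⁻¹ ∈ P := by
    apply hle
    rw [mem_cj']
    exact ⟨g * f * g⁻¹, mem_cj'.mpr ⟨f, hf, rfl⟩, by group⟩
  have h2 : (e * g) * f * (e * g)⁻¹ ∈ F := hscl f hf (e * g) h1
  obtain ⟨k, hk, x, hx, hex⟩ := hdec e⁻¹ (E.inv_mem he)
  have h3 : x * ((e * g) * f * (e * g)⁻¹) * x⁻¹ ∈ F :=
    (mem_normalizer_iff.mp (hPN hx) _).mp h2
  refine ⟨x * ((e * g) * f * (e * g)⁻¹) * x⁻¹, h3, ?_⟩
  have h4 : g * f * g⁻¹ = k * (x * ((e * g) * f * (e * g)⁻¹) * x⁻¹) * k⁻¹ := by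
    have he' : e = (k * x)⁻¹ := by rw [← hex, inv_inv]
    rw [he']
    group
  have h5 : QuotientGroup.mk' K (g * f * g⁻¹) =
      QuotientGroup.mk' K (x * ((e * g) * f * (e * g)⁻¹) * x⁻¹) := by
    rw [h4, map_mul, map_mul, map_inv, hπK k hk]
    simp
  calc QuotientGroup.mk' K (x * ((e * g) * f * (e * g)⁻¹) * x⁻¹)
      = QuotientGroup.mk' K (g * f * g⁻¹) := h5.symm
    _ = QuotientGroup.mk' K g * QuotientGroup.mk' K f * (QuotientGroup.mk' K g)⁻¹ := by
      rw [map_mul, map_mul, map_inv]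

end step2

/-- the hypothesis passes to the normal `p`-complement -/
theorem hyp_complement {G : Type u} [Group G] [Finite G] (E K P : Subgroup G) {p : ℕ}
    (hp : p.Prime) (h : Hyp E) (hKE : K ≤ E) (hPp : IsPGroup p P)
    (hKcop : (Nat.card K).Coprime p) (hcard : Nat.card K * Nat.card P = Nat.card E) :
    Hyp K := by
  intro r hr R hRK hRr hrelR hnc
  haveI : Fact p.Prime := ⟨hp⟩
  by_cases hrp : r = p
  · exfalso
    apply hnc
    subst hrp
    obtain ⟨j, hj⟩ := hRr.exists_card_eq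
    have h1 : Nat.card R ∣ Nat.card K := Subgroup.card_dvd_of_le hRK
    have h2 : (Nat.card R).Coprime (Nat.card R) := by
      apply Nat.Coprime.coprime_dvd_left h1
      rw [hj]
      exact hKcop.pow_right j
    have h3 : Nat.card R = 1 := (Nat.coprime_self _).mp h2
    have h4 : R = ⊥ := Subgroup.card_eq_one.mp h3
    rw [h4]
    infer_instance
  · have hKrel : K.relIndex E = Nat.card P := by
      have h1 := Subgroup.card_mul_index (K.subgroupOf E)
      have h2 : Nat.card ↥(K.subgroupOf E) = Nat.card K :=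
        Nat.card_congr (Subgroup.subgroupOfEquivOfLe hKE).toEquiv
      rw [h2, ← hcard] at h1
      have hpos : 0 < Nat.card K := Nat.card_pos
      exact Nat.eq_of_mul_eq_mul_left hpos h1
    have hrelE : ¬ r ∣ R.relIndex E := by
      rw [← Subgroup.relIndex_mul_relIndex R K E hRK hKE, hKrel]
      intro hdvd
      rcases (Nat.Prime.dvd_mul hr).mp hdvd with h1 | h1
      · exact hrelR h1
      · obtain ⟨j, hj⟩ := hPp.exists_card_eq
        rw [hj] at h1
        exact hrp ((Nat.prime_dvd_prime_iff_eq hr hp).mp (hr.dvd_of_dvd_pow h1))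
    exact h r hr R (hRK.trans hKE) hRr hrelE hnc

/-- main induction on the order of `E` -/
theorem main {G : Type u} [Group G] [Finite G] : ∀ (n : ℕ) (E : Subgroup G) [E.Normal],
    Nat.card E = n → Cfsg.IsSupersolvable (G ⧸ E) → Hyp E → Cfsg.IsSupersolvable G := by
  intro n
  induction n using Nat.strong_induction_on with
  | _ n ih =>
  intro E hEn hn hGE h
  by_cases hE : E = ⊥
  · subst hE
    exact isSupersolvable_of_mulEquiv QuotientGroup.quotientBot hGE
  obtain ⟨p, P, K, hp, hPE, hPp, hrel, hKE, hKn, hKcop, hdec, hcard, hpdvd⟩ :=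
    exists_normal_complement E hE h
  haveI := hKn
  haveI : Fact p.Prime := ⟨hp⟩
  have hGK : Cfsg.IsSupersolvable (G ⧸ K) :=
    step2 E K P h hKE hPE hPp hrel hKcop hdec hGE
  have hlt : Nat.card K < n := by
    rw [← hn]
    have h1 : Nat.card K ∣ Nat.card E := Subgroup.card_dvd_of_le hKE
    have h2 : Nat.card K ≠ Nat.card E := by
      intro heq
      rw [← heq] at hpdvd
      have := Nat.Coprime.eq_one_of_dvd hKcop.symm hpdvd
      exact hp.one_lt.ne' this
    exact lt_of_le_of_ne (Nat.le_of_dvd Nat.card_pos h1) h2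
  exact ih _ hlt K rfl hGK (hyp_complement E K P hp h hKE hPp hKcop hcard)

/-- Let G be a finite group and E a normal subgroup with G/E supersolvable. Suppose that for every prime p and every non-cyclic Sylow p-subgroup P of E there is a subgroup D of P with 1 < |D| < |P| such that every subgroup F of P of order |D|, and also every subgroup F of P of order 4 when |D| = 2, satisfies g F g⁻¹ ∩ N_G(F) ≤ F for all g ∈ G. Then G is supersolvable. -/
theorem result {G : Type*} [Group G] [Finite G] (E : Subgroup G) [E.Normal] (hGE : Cfsg.IsSupersolvable (G ⧸ E))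
    (h : ∀ (p : ℕ), p.Prime → ∀ P : Subgroup G, P ≤ E → IsPGroup p P → ¬ p ∣ P.relIndex E → ¬ IsCyclic ↥P →
      ∃ D : Subgroup G, D ≤ P ∧ 1 < Nat.card D ∧ Nat.card D < Nat.card P ∧
        ∀ F : Subgroup G, F ≤ P → (Nat.card F = Nat.card D ∨ (Nat.card D = 2 ∧ Nat.card F = 4)) →
          ∀ g : G, F.map (MulAut.conj g).toMonoidHom ⊓ Subgroup.normalizer (F : Set G) ≤ F) :
    Cfsg.IsSupersolvable G := by
  exact main _ E rfl hGE h

end Cfsg.Agent.S3032
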