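import Cfsg.Statements.S3033
import Cfsg.Agent.Lib.Helper71.S3033Aux2
import Cfsg.Agent.Lib.Helper9.Huppert

set_option autoImplicit false
open Cfsg

namespace Cfsg.Agent.S3033

open Cfsg.Agent.Lib.Helper9 Cfsg.Agent.Lib.Helper71.S3033Aux

universe u

theorem main_aux : ∀ (n : ℕ) (G : Type u) [Group G] [Finite G], Nat.card G = n → Hyp G →
    Cfsg.IsSupersolvable G := by
  intro n
  induction n using Nat.strong_induction_on with
  | _ n ih =>
    intro G _ _ hn h
    by_cases h1 : Nat.card G ≤ 1
    · have : Subsingleton G := Finite.card_le_one_iff_subsingleton.mp h1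
      exact isSupersolvable_of_subsingleton
    have hnt : Nontrivial G := Finite.one_lt_card_iff_nontrivial.mp (by omega)
    have hsub : ∀ H : Subgroup G, H ≠ ⊤ → Cfsg.IsSupersolvable H := by
      intro H hH
      have hlt : Nat.card H < n := by
        rw [← hn]
        have h2 := Subgroup.card_mul_index H
        have h3 : H.index ≠ 1 := fun h => hH (Subgroup.index_eq_one.mp h)
        have h4 : H.index ≠ 0 := Subgroup.index_ne_zero_of_finite
        have h5 : 0 < Nat.card H := Nat.card_pos
        rw [← h2]
        calc Nat.card H < Nat.card H * 2 := by omega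
          _ ≤ _ := Nat.mul_le_mul_left _ (by omega)
      exact ih _ hlt H rfl (h.subgroup H)
    obtain ⟨q, P, hq, hPn, hPne, hPq⟩ := exists_normal_pgroup hsub
    have hqf : Fact q.Prime := ⟨hq⟩
    obtain ⟨N, hNn, hNne, hNP, hmin⟩ := exists_minimal_normal_le P hPne
    have hcent := le_centralizer_of_minimal_normal q P hPq N hNne hNP hmin
    have hcomm : ∀ x ∈ N, ∀ y ∈ N, x * y = y * x := by
      intro x hx y hy
      have := hcent (hNP hx)
      rw [Subgroup.mem_centralizer_iff] at this
      exact (this y hy).symm
    have hNcard1 : 1 < Nat.card N := by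
      rw [Finite.one_lt_card_iff_nontrivial]
      exact (Subgroup.nontrivial_iff_ne_bot N).mpr hNne
    have hqd : q ∣ Nat.card N := by
      obtain ⟨j, hj⟩ := IsPGroup.iff_card.mp (hPq.to_le hNP)
      rw [hj] at hNcard1 ⊢
      have hj0 : j ≠ 0 := by
        rintro rfl
        simp at hNcard1
      exact dvd_pow_self q hj0
    have hexp := pow_eq_one_of_minimal_normal q N hcomm hmin hqd
    have hQ : Cfsg.IsSupersolvable (G ⧸ N) := by
      have hlt : Nat.card (G ⧸ N) < n := by
        have h2 := Subgroup.card_eq_card_quotient_mul_card_subgroup N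
        have h4 : 0 < Nat.card (G ⧸ N) := Nat.card_pos
        rw [← hn, h2]
        calc Nat.card (G ⧸ N) < Nat.card (G ⧸ N) * 2 := by omega
          _ ≤ _ := Nat.mul_le_mul_left _ (by omega)
      exact ih _ hlt (G ⧸ N) rfl
        (h.of_surjective (QuotientGroup.mk' N) (QuotientGroup.mk'_surjective N))
    have hcard := card_minimal_normal h q N hNne hcomm hexp hmin hQ
    have : IsCyclic N := isCyclic_of_prime_card hcard
    exact isSupersolvable_of_cyclic_normal_quotient N hQ

/-- Let G be a finite group such that for every pair of distinct primes p and q, every p-element x and every q-element g of G, the order of the subgroup generated by x and g x g⁻¹ is not divisible by q². Then G is supersolvable. -/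
theorem result {G : Type*} [Group G] [Finite G]
    (h : ∀ (p q : ℕ), p.Prime → q.Prime → p ≠ q → ∀ (x g : G), (∃ a : ℕ, orderOf x = p ^ a) → (∃ b : ℕ, orderOf g = q ^ b) →
      ¬ q ^ 2 ∣ Nat.card ↥(Subgroup.zpowers x ⊔ Subgroup.zpowers (g * x * g⁻¹))) :
    Cfsg.IsSupersolvable G := by
  exact main_aux _ G rfl h

end Cfsg.Agent.S3033
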