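import Cfsg.Statements.S3036
import Cfsg.Agent.Lib.Helper50.CD

set_option autoImplicit false
open Cfsg

namespace Cfsg.Agent.S3036

open Subgroup Cfsg.Agent.Lib.Helper50
open scoped Pointwise

variable {G : Type*} [Group G]

/-- conjugate of a subgroup -/
def cj (g : G) (H : Subgroup G) : Subgroup G := H.map (MulAut.conj g).toMonoidHom

theorem mem_cj {g x : G} {H : Subgroup G} : x ∈ cj g H ↔ g⁻¹ * x * g ∈ H := mem_map_conj_iff

theorem centralizer_cj (g : G) (H : Subgroup G) :
    centralizer ((cj g H : Subgroup G) : Set G) = cj g (centralizer (H : Set G)) := by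
  ext x
  rw [mem_cj, mem_centralizer_iff, mem_centralizer_iff]
  constructor
  · intro h y hy
    have := h (g * y * g⁻¹) (by
      show g * y * g⁻¹ ∈ cj g H
      rw [mem_cj]; simpa [mul_assoc] using hy)
    calc y * (g⁻¹ * x * g) = g⁻¹ * ((g * y * g⁻¹) * x) * g := by group
      _ = g⁻¹ * (x * (g * y * g⁻¹)) * g := by rw [this]
      _ = g⁻¹ * x * g * y := by group
  · intro h y hy
    have hy' : g⁻¹ * y * g ∈ H := mem_cj.mp hy
    have := h _ hy'
    calc y * x = g * ((g⁻¹ * y * g) * (g⁻¹ * x * g)) * g⁻¹ := by group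
      _ = g * ((g⁻¹ * x * g) * (g⁻¹ * y * g)) * g⁻¹ := by rw [this]
      _ = x * y := by group

theorem card_cj (g : G) (H : Subgroup G) : Nat.card (cj g H) = Nat.card H :=
  card_map_of_injective (MulAut.conj g).injective

theorem cdm_cj (g : G) (H : Subgroup G) : cdm (cj g H) = cdm H := by
  unfold cdm
  rw [centralizer_cj, card_cj, card_cj]

theorem cj_inv_le {g : G} {H : Subgroup G} (h : H ≤ cj g⁻¹ H) : cj g H ≤ H := by
  intro x hx
  rw [mem_cj] at hx
  have := h hx
  rw [mem_cj] at this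
  simpa [mul_assoc] using this

theorem normal_of_cj_le {H : Subgroup G} (h : ∀ g, cj g H ≤ H) : H.Normal := by
  constructor
  intro n hn g
  apply h g
  rw [mem_cj]
  simpa [mul_assoc] using hn

theorem centralizer_bot_eq : centralizer (((⊥ : Subgroup G) : Subgroup G) : Set G) = ⊤ := by
  rw [eq_top_iff]
  intro x _
  rw [mem_centralizer_iff]
  intro h hh
  have : h = 1 := hh
  subst this
  simp

/-- Let G be a finite non-abelian simple group and A a proper nontrivial subgroup of G. Then |G| > |A| · |C_G(A)|. In particular |G| > |A|² for every nontrivial abelian subgroup A of G. -/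
theorem result {G : Type*} [Group G] [Finite G] [IsSimpleGroup G] (hG : ¬ IsMulCommutative G) (A : Subgroup G) (hA1 : A ≠ ⊥) (hA2 : A ≠ ⊤) : Nat.card A * Nat.card ↥(Subgroup.centralizer (A : Set G)) < Nat.card G := by
  -- the centre is trivial
  have hcenter : Subgroup.center G = ⊥ := by
    rcases (inferInstance : (Subgroup.center G).Normal).eq_bot_or_eq_top with h | h
    · exact h
    · exact absurd (Subgroup.center_eq_top_iff.mp h) hG
  set M := Cfsg.maxCentralizerProduct G with hM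
  -- M = |G|
  have hMG : M = Nat.card G := by
    let 𝒞 : Set (Subgroup G) := {H | cdm H = M}
    have h𝒞fin : 𝒞.Finite := Set.toFinite 𝒞
    obtain ⟨R, hR⟩ := exists_cdm_eq_max (G := G)
    have h𝒞ne : 𝒞.Nonempty := ⟨R, hR⟩
    obtain ⟨H₀, hH₀, hmin⟩ := Set.exists_min_image 𝒞 (fun T => Nat.card T) h𝒞fin h𝒞ne
    have hH₀' : cdm H₀ = M := hH₀
    have hnorm : H₀.Normal := by
      apply normal_of_cj_le
      intro g
      apply cj_inv_le
      have h1 : cdm (cj g⁻¹ H₀) = M := by rw [cdm_cj]; exact hH₀'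
      obtain ⟨hinf, -, -, -, -⟩ := cd_pair ((isCentralizerLarge_iff _).mpr hH₀') ((isCentralizerLarge_iff _).mpr h1)
      have h2 : H₀ ⊓ cj g⁻¹ H₀ ∈ 𝒞 := hinf
      have h3 := hmin _ h2
      have h4 : H₀ ⊓ cj g⁻¹ H₀ = H₀ := eq_of_le_of_card_ge inf_le_left h3
      calc H₀ = H₀ ⊓ cj g⁻¹ H₀ := h4.symm
        _ ≤ cj g⁻¹ H₀ := inf_le_right
    rcases hnorm.eq_bot_or_eq_top with h | h
    · rw [← hH₀', h]
      unfold cdm
      rw [centralizer_bot_eq]
      simp
    · rw [← hH₀', h]
      unfold cdm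
      rw [Subgroup.coe_top, Subgroup.centralizer_univ, hcenter]
      simp
  have hle : cdm A ≤ M := cdm_le_max A
  rw [hMG] at hle
  show cdm A < Nat.card G
  apply lt_of_le_of_ne hle
  intro heq
  rw [← hMG] at heq
  -- A has the largest measure: contradiction
  let 𝒟 : Set (Subgroup G) := {H | cdm H = M ∧ A ≤ H ∧ H ≠ ⊤}
  have h𝒟fin : 𝒟.Finite := Set.toFinite 𝒟
  have h𝒟ne : 𝒟.Nonempty := ⟨A, heq, le_rfl, hA2⟩
  obtain ⟨B, hB, hmax⟩ := Set.exists_max_image 𝒟 (fun T => Nat.card T) h𝒟fin h𝒟ne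
  obtain ⟨hB1, hB2, hB3⟩ := hB
  have hnorm : B.Normal := by
    apply normal_of_cj_le
    intro g
    have h1 : cdm (cj g B) = M := by rw [cdm_cj]; exact hB1
    obtain ⟨-, hsup, hset, -, -⟩ := cd_pair ((isCentralizerLarge_iff _).mpr hB1) ((isCentralizerLarge_iff _).mpr h1)
    by_cases htop : B ⊔ cj g B = ⊤
    · exfalso
      have hg : g⁻¹ ∈ ((B ⊔ cj g B : Subgroup G) : Set G) := by rw [htop]; trivial
      rw [hset] at hg
      obtain ⟨b₁, hb₁, c, hc, hbc⟩ := hg
      have hb₁' : b₁ ∈ B := hb₁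
      have hc0 : c ∈ cj g B := hc
      have hc' : g⁻¹ * c * g ∈ B := mem_cj.mp hc0
      have hbc' : b₁ * c = g⁻¹ := hbc
      have hgB : g ∈ B := by
        have h5 : g = b₁⁻¹ * (g⁻¹ * c * g)⁻¹ := by
          have : c = b₁⁻¹ * g⁻¹ := by rw [← hbc']; group
          rw [this]; group
        rw [h5]
        exact mul_mem (inv_mem hb₁') (inv_mem hc')
      have h6 : cj g B ≤ B := by
        intro x hx
        have := mem_cj.mp hx
        have h7 : x = g * (g⁻¹ * x * g) * g⁻¹ := by group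
        rw [h7]
        exact mul_mem (mul_mem hgB this) (inv_mem hgB)
      apply hB3
      rw [← htop]
      exact (sup_eq_left.mpr h6).symm
    · have h2 : B ⊔ cj g B ∈ 𝒟 := ⟨hsup, hB2.trans le_sup_left, htop⟩
      have h3 := hmax _ h2
      have h4 : B = B ⊔ cj g B := eq_of_le_of_card_ge le_sup_left h3
      calc cj g B ≤ B ⊔ cj g B := le_sup_right
        _ = B := h4.symm
  rcases hnorm.eq_bot_or_eq_top with h | h
  · apply hA1
    rw [eq_bot_iff, ← h]
    exact hB2
  · exact hB3 h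

end Cfsg.Agent.S3036
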