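import Cfsg.Statements.S3037
import Mathlib

set_option autoImplicit false
set_option linter.unusedVariables false
open Cfsg

namespace Cfsg.Agent.S3037

section
variable {X : Type*} [Group X] [Finite X]

theorem card_mul_card_le (B C : Subgroup X) :
    Nat.card B * Nat.card C ≤ Nat.card (B ⊔ C : Subgroup X) * Nat.card (B ⊓ C : Subgroup X) := by
  have h1 : Nat.card (B ⊓ C : Subgroup X) * (B ⊓ C).relIndex B = Nat.card B := by
    have := Subgroup.relIndex_mul_relIndex (⊥ : Subgroup X) (B ⊓ C) B bot_le inf_le_left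
    rw [Subgroup.relIndex_bot_left, Subgroup.relIndex_bot_left] at this
    exact this
  have h2 : Nat.card C * C.relIndex (B ⊔ C) = Nat.card (B ⊔ C : Subgroup X) := by
    have := Subgroup.relIndex_mul_relIndex (⊥ : Subgroup X) C (B ⊔ C) bot_le le_sup_right
    rw [Subgroup.relIndex_bot_left, Subgroup.relIndex_bot_left] at this
    exact this
  have h3 : (B ⊓ C).relIndex B = C.relIndex B := Subgroup.inf_relIndex_left B C
  have h4 : C.relIndex B ≤ C.relIndex (B ⊔ C) := by
    apply Subgroup.relIndex_le_of_le_right le_sup_left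
    intro h
    rw [h, mul_zero] at h2
    exact (Nat.card_pos (α := (B ⊔ C : Subgroup X))).ne' h2.symm
  calc Nat.card B * Nat.card C
      = Nat.card (B ⊓ C : Subgroup X) * C.relIndex B * Nat.card C := by rw [← h3, h1]
    _ ≤ Nat.card (B ⊓ C : Subgroup X) * C.relIndex (B ⊔ C) * Nat.card C := by gcongr
    _ = Nat.card (B ⊔ C : Subgroup X) * Nat.card (B ⊓ C : Subgroup X) := by rw [← h2]; ring

theorem centralizer_sup (B C : Subgroup X) :
    Subgroup.centralizer ((B ⊔ C : Subgroup X) : Set X) =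
      Subgroup.centralizer (B : Set X) ⊓ Subgroup.centralizer (C : Set X) := by
  apply le_antisymm
  · apply le_inf
    · exact Subgroup.centralizer_le (by exact_mod_cast (le_sup_left : B ≤ B ⊔ C))
    · exact Subgroup.centralizer_le (by exact_mod_cast (le_sup_right : C ≤ B ⊔ C))
  · rintro x ⟨hxB, hxC⟩
    have hB : B ≤ Subgroup.centralizer ({x} : Set X) := by
      intro b hb
      rw [Subgroup.mem_centralizer_iff]
      intro y hy
      rw [Set.mem_singleton_iff] at hy
      subst hy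
      exact (Subgroup.mem_centralizer_iff.mp hxB b hb).symm
    have hC : C ≤ Subgroup.centralizer ({x} : Set X) := by
      intro c hc
      rw [Subgroup.mem_centralizer_iff]
      intro y hy
      rw [Set.mem_singleton_iff] at hy
      subst hy
      exact (Subgroup.mem_centralizer_iff.mp hxC c hc).symm
    rw [Subgroup.mem_centralizer_iff]
    intro z hz
    have := (sup_le hB hC) hz
    rw [Subgroup.mem_centralizer_iff] at this
    exact (this x rfl).symm

/-- The weight function. -/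
noncomputable def fw (V : Subgroup X) (α : ℝ) (B : Subgroup X) : ℝ :=
  (Nat.card B : ℝ) ^ α * (Nat.card ↥(V ⊓ Subgroup.centralizer (B : Set X)) : ℝ)

theorem fw_pos (V : Subgroup X) (α : ℝ) (B : Subgroup X) : 0 < fw V α B := by
  unfold fw
  apply mul_pos
  · apply Real.rpow_pos_of_pos
    exact_mod_cast Nat.card_pos
  · exact_mod_cast Nat.card_pos

theorem real_aux (α : ℝ) (hα : 0 < α) (b c j d vb vc vj vd : ℝ)
    (hb : 0 ≤ b) (hc : 0 ≤ c) (hj : 0 ≤ j) (hd : 0 ≤ d)
    (hvb : 0 ≤ vb) (hvc : 0 ≤ vc) (hvj : 0 ≤ vj) (hvd : 0 ≤ vd)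
    (e1 : b * c ≤ j * d) (e2 : vb * vc ≤ vd * vj) :
    b ^ α * vb * (c ^ α * vc) ≤ j ^ α * vj * (d ^ α * vd) := by
  have e3 : (b * c) ^ α ≤ (j * d) ^ α :=
    Real.rpow_le_rpow (mul_nonneg hb hc) e1 hα.le
  rw [Real.mul_rpow hb hc, Real.mul_rpow hj hd] at e3
  calc b ^ α * vb * (c ^ α * vc) = (b ^ α * c ^ α) * (vb * vc) := by ring
    _ ≤ (j ^ α * d ^ α) * (vd * vj) := by
        apply mul_le_mul e3 e2 (mul_nonneg hvb hvc)
        exact mul_nonneg (Real.rpow_nonneg hj _) (Real.rpow_nonneg hd _)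
    _ = j ^ α * vj * (d ^ α * vd) := by ring

theorem fw_submod (V : Subgroup X) (α : ℝ) (hα : 0 < α) (B C : Subgroup X) :
    fw V α B * fw V α C ≤ fw V α (B ⊔ C) * fw V α (B ⊓ C) := by
  unfold fw
  have h1 := card_mul_card_le B C
  have h2 := card_mul_card_le (V ⊓ Subgroup.centralizer (B : Set X))
    (V ⊓ Subgroup.centralizer (C : Set X))
  have h3 : (V ⊓ Subgroup.centralizer (B : Set X)) ⊓ (V ⊓ Subgroup.centralizer (C : Set X)) =
      V ⊓ Subgroup.centralizer ((B ⊔ C : Subgroup X) : Set X) := by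
    rw [centralizer_sup]
    ext x
    simp only [Subgroup.mem_inf]
    tauto
  have h4 : (V ⊓ Subgroup.centralizer (B : Set X)) ⊔ (V ⊓ Subgroup.centralizer (C : Set X)) ≤
      V ⊓ Subgroup.centralizer ((B ⊓ C : Subgroup X) : Set X) := by
    apply sup_le
    · exact inf_le_inf_left V
        (Subgroup.centralizer_le (by exact_mod_cast (inf_le_left : B ⊓ C ≤ B)))
    · exact inf_le_inf_left V
        (Subgroup.centralizer_le (by exact_mod_cast (inf_le_right : B ⊓ C ≤ C)))
  have h5 := Subgroup.card_le_of_le h4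
  rw [h3] at h2
  have h6 : Nat.card ↥(V ⊓ Subgroup.centralizer (B : Set X)) *
      Nat.card ↥(V ⊓ Subgroup.centralizer (C : Set X)) ≤
      Nat.card ↥(V ⊓ Subgroup.centralizer ((B ⊓ C : Subgroup X) : Set X)) *
      Nat.card ↥(V ⊓ Subgroup.centralizer ((B ⊔ C : Subgroup X) : Set X)) :=
    le_trans h2 (Nat.mul_le_mul_right _ h5)
  apply real_aux α hα _ _ _ _ _ _ _ _ (Nat.cast_nonneg _) (Nat.cast_nonneg _) (Nat.cast_nonneg _)
    (Nat.cast_nonneg _) (Nat.cast_nonneg _) (Nat.cast_nonneg _) (Nat.cast_nonneg _)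
    (Nat.cast_nonneg _)
  · exact_mod_cast h1
  · exact_mod_cast h6

/-- Conjugate of a subgroup. -/
def cj (g : X) (B : Subgroup X) : Subgroup X := B.map (MulAut.conj g).toMonoidHom

theorem mem_cj (g : X) (B : Subgroup X) (x : X) : x ∈ cj g B ↔ g⁻¹ * x * g ∈ B := by
  unfold cj
  constructor
  · rintro ⟨b, hb, rfl⟩
    simp only [MulEquiv.coe_toMonoidHom, MulAut.conj_apply]
    have : g⁻¹ * (g * b * g⁻¹) * g = b := by group
    rw [this]
    exact hb
  · intro h
    refine ⟨g⁻¹ * x * g, h, ?_⟩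
    simp only [MulEquiv.coe_toMonoidHom, MulAut.conj_apply]
    group

theorem card_cj (g : X) (B : Subgroup X) : Nat.card (cj g B) = Nat.card B :=
  Subgroup.card_map_of_injective (MulAut.conj g).injective

theorem fw_cj_ge (V : Subgroup X) (α : ℝ) (g : X) (hg : g ∈ Subgroup.normalizer (V : Set X))
    (B : Subgroup X) : fw V α B ≤ fw V α (cj g B) := by
  unfold fw
  rw [card_cj]
  apply mul_le_mul_of_nonneg_left _ (Real.rpow_nonneg (Nat.cast_nonneg _) _)
  have hle : cj g (V ⊓ Subgroup.centralizer (B : Set X)) ≤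
      V ⊓ Subgroup.centralizer ((cj g B : Subgroup X) : Set X) := by
    intro x hx
    rw [mem_cj] at hx
    obtain ⟨hxV, hxC⟩ := Subgroup.mem_inf.mp hx
    refine Subgroup.mem_inf.mpr ⟨?_, ?_⟩
    · have := (Subgroup.mem_normalizer_iff.mp hg (g⁻¹ * x * g)).mp hxV
      have e : g * (g⁻¹ * x * g) * g⁻¹ = x := by group
      rw [e] at this
      exact this
    · rw [Subgroup.mem_centralizer_iff]
      intro y hy
      have hy' : g⁻¹ * y * g ∈ B := (mem_cj g B y).mp hy
      have := Subgroup.mem_centralizer_iff.mp hxC _ hy'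
      -- (g⁻¹ y g) (g⁻¹ x g) = (g⁻¹ x g) (g⁻¹ y g)
      have e1 : y * x = g * ((g⁻¹ * y * g) * (g⁻¹ * x * g)) * g⁻¹ := by group
      have e2 : x * y = g * ((g⁻¹ * x * g) * (g⁻¹ * y * g)) * g⁻¹ := by group
      rw [e1, e2, this]
  have := Subgroup.card_le_of_le hle
  rw [card_cj] at this
  exact_mod_cast this

end

theorem result {X : Type*} [Group X] [Finite X] {p : ℕ} [Fact p.Prime] (V G : Subgroup X) (hV : Cfsg.IsElementaryAbelian p V)
    (hGV : G ≤ Subgroup.normalizer (V : Set X)) (hfaith : G ⊓ Subgroup.centralizer (V : Set X) = ⊥)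
    (hirr : ∀ W : Subgroup X, W ≤ V → G ≤ Subgroup.normalizer (W : Set X) → W = ⊥ ∨ W = V)
    (A : Subgroup X) (hA : A ≤ G) (hA1 : A ≠ ⊥) (α : ℝ) (hα : 0 < α)
    (hbig : (Nat.card V : ℝ) ≤ (Nat.card A : ℝ) ^ α * (Nat.card ↥(V ⊓ Subgroup.centralizer (A : Set X)) : ℝ)) :
    (Nat.card V : ℝ) ≤ (Nat.card G : ℝ) ^ α := by
  classical
  -- the family of non-trivial subgroups of G
  let S : Set (Subgroup X) := {B | B ≤ G ∧ B ≠ ⊥}
  have hSA : A ∈ S := ⟨hA, hA1⟩
  obtain ⟨B0, hB0S, hB0max⟩ := Set.exists_max_image S (fw V α) (Set.toFinite S) ⟨A, hSA⟩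
  set M := fw V α B0 with hM
  let S' : Set (Subgroup X) := {B | B ∈ S ∧ fw V α B = M}
  obtain ⟨B, ⟨hBS, hBM⟩, hBmax⟩ := Set.exists_max_image S' (fun B => Nat.card B) (Set.toFinite S')
    ⟨B0, hB0S, rfl⟩
  have hMmax : ∀ C ∈ S, fw V α C ≤ M := hB0max
  have hMpos : 0 < M := fw_pos V α B0
  have hVM : (Nat.card V : ℝ) ≤ M := le_trans hbig (hMmax A hSA)
  have hbot : fw V α ⊥ = (Nat.card V : ℝ) := by
    unfold fw
    have h1 : Subgroup.centralizer (((⊥ : Subgroup X) : Subgroup X) : Set X) = ⊤ := by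
      rw [Subgroup.coe_bot]
      exact Subgroup.centralizer_eq_top_iff_subset.mpr (by simp)
    rw [h1, inf_top_eq, Subgroup.card_bot]
    simp
  -- B is normalized by G
  have hnorm : ∀ g ∈ G, cj g B = B := by
    intro g hg
    by_contra hne
    have hcjS : cj g B ∈ S := by
      refine ⟨?_, ?_⟩
      · intro x hx
        rw [mem_cj] at hx
        have h1 := hBS.1 hx
        have : x = g * (g⁻¹ * x * g) * g⁻¹ := by group
        rw [this]
        exact G.mul_mem (G.mul_mem hg h1) (G.inv_mem hg)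
      · intro h
        apply hBS.2
        have := card_cj g B
        rw [h, Subgroup.card_bot] at this
        exact (Subgroup.card_eq_one.mp this.symm)
    have hJS : B ⊔ cj g B ∈ S := by
      refine ⟨sup_le hBS.1 hcjS.1, ?_⟩
      intro h
      apply hBS.2
      rw [← le_bot_iff, ← h]
      exact le_sup_left
    have hJle : fw V α (B ⊔ cj g B) ≤ M := hMmax _ hJS
    have hsub := fw_submod V α hα B (cj g B)
    have hcjge : M ≤ fw V α (cj g B) := by
      rw [← hBM]
      exact fw_cj_ge V α g (hGV hg) B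
    have hDle : fw V α (B ⊓ cj g B) ≤ M := by
      by_cases hD : B ⊓ cj g B = ⊥
      · rw [hD, hbot]
        exact hVM
      · exact hMmax _ ⟨le_trans inf_le_left hBS.1, hD⟩
    -- M^2 ≤ f(J) f(D) ≤ f(J) M
    have h1 : M * M ≤ fw V α (B ⊔ cj g B) * M := by
      calc M * M ≤ fw V α B * fw V α (cj g B) := by
            rw [hBM]
            exact mul_le_mul_of_nonneg_left hcjge hMpos.le
        _ ≤ fw V α (B ⊔ cj g B) * fw V α (B ⊓ cj g B) := hsub
        _ ≤ fw V α (B ⊔ cj g B) * M :=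
            mul_le_mul_of_nonneg_left hDle (fw_pos V α _).le
    have h2 : M ≤ fw V α (B ⊔ cj g B) := le_of_mul_le_mul_right h1 hMpos
    have hJM : fw V α (B ⊔ cj g B) = M := le_antisymm hJle h2
    have hJcard : Nat.card (B ⊔ cj g B : Subgroup X) ≤ Nat.card B := hBmax _ ⟨hJS, hJM⟩
    have hJB : B ⊔ cj g B = B := (Subgroup.eq_of_le_of_card_ge le_sup_left hJcard).symm
    have hcjle : cj g B ≤ B := le_trans le_sup_right hJB.le
    apply hne
    have hcc : Nat.card B ≤ Nat.card (cj g B) := (card_cj g B).ge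
    exact Subgroup.eq_of_le_of_card_ge hcjle hcc
  -- the fixed space of B is G-invariant
  set W := V ⊓ Subgroup.centralizer (B : Set X) with hW
  have hWnorm : G ≤ Subgroup.normalizer (W : Set X) := by
    have key : ∀ g ∈ G, ∀ x ∈ W, g * x * g⁻¹ ∈ W := by
      intro g hg x hx
      obtain ⟨hxV, hxC⟩ := Subgroup.mem_inf.mp hx
      refine Subgroup.mem_inf.mpr ⟨?_, ?_⟩
      · exact (Subgroup.mem_normalizer_iff.mp (hGV hg) x).mp hxV
      · rw [Subgroup.mem_centralizer_iff]
        intro y hy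
        have hy' : g⁻¹ * y * g ∈ B := by
          have : y ∈ cj g B := by rw [hnorm g hg]; exact hy
          exact (mem_cj g B y).mp this
        have := Subgroup.mem_centralizer_iff.mp hxC _ hy'
        have e1 : y * (g * x * g⁻¹) = g * ((g⁻¹ * y * g) * x) * g⁻¹ := by group
        have e2 : g * x * g⁻¹ * y = g * (x * (g⁻¹ * y * g)) * g⁻¹ := by group
        rw [e1, e2, this]
    intro g hg
    rw [Subgroup.mem_normalizer_iff]
    intro x
    constructor
    · exact key g hg x
    · intro h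
      have := key g⁻¹ (G.inv_mem hg) _ h
      have e : g⁻¹ * (g * x * g⁻¹) * g⁻¹⁻¹ = x := by group
      rw [e] at this
      exact this
  have hW0 : W = ⊥ := by
    rcases hirr W inf_le_left hWnorm with h | h
    · exact h
    · exfalso
      apply hBS.2
      rw [← le_bot_iff, ← hfaith]
      apply le_inf hBS.1
      have hVc : V ≤ Subgroup.centralizer (B : Set X) := by
        rw [← h]
        exact inf_le_right
      intro b hb
      rw [Subgroup.mem_centralizer_iff]
      intro v hv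
      exact (Subgroup.mem_centralizer_iff.mp (hVc hv) b hb).symm
  have hfB : fw V α B = (Nat.card B : ℝ) ^ α := by
    unfold fw
    rw [← hW, hW0, Subgroup.card_bot]
    simp
  calc (Nat.card V : ℝ) ≤ M := hVM
    _ = (Nat.card B : ℝ) ^ α := by rw [← hBM, hfB]
    _ ≤ (Nat.card G : ℝ) ^ α := by
        apply Real.rpow_le_rpow (Nat.cast_nonneg _) _ hα.le
        exact_mod_cast Subgroup.card_le_of_le hBS.1

end Cfsg.Agent.S3037
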