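import Cfsg.Statements.S3048
import Cfsg.Agent.Lib.Helper50.Sidki4

set_option autoImplicit false
open Cfsg

universe u

namespace Cfsg.Agent.S3048

open Cfsg.Agent.Lib.Helper50

/-- Minimal counterexample reduction for the Sidki pair problem. Let G be a finite group and V a nontrivial elementary abelian 2-subgroup satisfying the Sidki pair condition with V ∩ O₂(G) = 1. Suppose that for every finite group H of smaller order, every nontrivial elementary abelian 2-subgroup W of H satisfying the Sidki pair condition meets O₂(H) nontrivially, and that the same holds in G for every such subgroup W of order smaller than that of V. Then the generalized Fitting subgroup F*(G) is a non-abelian simple group and G = V F*(G). -/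
theorem result {G : Type u} [Group G] [Finite G] (V : Subgroup G) (hV : Cfsg.IsElementaryAbelian 2 V) (hV1 : V ≠ ⊥) (hS : Cfsg.IsSidkiPair V) (hVO : V ⊓ Cfsg.pCore 2 G = ⊥) (hminG : ∀ (H : Type u) [Group H] [Finite H] (W : Subgroup H), Nat.card H < Nat.card G → Cfsg.IsElementaryAbelian 2 W → W ≠ ⊥ → Cfsg.IsSidkiPair W → W ⊓ Cfsg.pCore 2 H ≠ ⊥) (hminV : ∀ W : Subgroup G, Nat.card W < Nat.card V → Cfsg.IsElementaryAbelian 2 W → W ≠ ⊥ → Cfsg.IsSidkiPair W → W ⊓ Cfsg.pCore 2 G ≠ ⊥) : IsSimpleGroup ↥(Cfsg.generalizedFittingSubgroup G) ∧ ¬ IsMulCommutative ↥(Cfsg.generalizedFittingSubgroup G) ∧ V ⊔ Cfsg.generalizedFittingSubgroup G = ⊤ := by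
  have hcomm : ∀ a ∈ V, ∀ b ∈ V, a * b = b * a := by
    intro a ha b hb
    have := hV.1.is_comm.comm (⟨a, ha⟩ : ↥V) ⟨b, hb⟩
    exact congrArg Subtype.val this
  have hsq : ∀ a ∈ V, a * a = 1 := by
    intro a ha
    rw [← pow_two]; exact hV.2 a ha
  have hcore : Cfsg.pCore 2 G = ⊥ := by
    by_contra hP
    have hPn : (Cfsg.pCore 2 G).Normal := sidki_pCore_normal 2 G
    haveI := hPn
    have hP2 : IsPGroup 2 (Cfsg.pCore 2 G) :=
      Sylow.sSup_of_normal _ (fun _ h => h.2) (fun _ h => h.1)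
    have hSq := Cfsg.Agent.S3012.result V (Cfsg.pCore 2 G) hV hV1 hS hVO
    have hcard : Nat.card (G ⧸ Cfsg.pCore 2 G) < Nat.card G := by
      have h1 := Subgroup.card_eq_card_quotient_mul_card_subgroup (Cfsg.pCore 2 G)
      have h2 : 1 < Nat.card (Cfsg.pCore 2 G) := (Subgroup.one_lt_card_iff_ne_bot _).mpr hP
      have h3 : 0 < Nat.card (G ⧸ Cfsg.pCore 2 G) := Nat.card_pos
      nlinarith
    have hEA' : Cfsg.IsElementaryAbelian 2 (V.map (QuotientGroup.mk' (Cfsg.pCore 2 G))) := by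
      refine ⟨⟨⟨?_⟩⟩, ?_⟩
      · rintro ⟨_, a, ha, rfl⟩ ⟨_, b, hb, rfl⟩
        apply Subtype.ext
        show (QuotientGroup.mk' (Cfsg.pCore 2 G)) a * (QuotientGroup.mk' (Cfsg.pCore 2 G)) b =
          (QuotientGroup.mk' (Cfsg.pCore 2 G)) b * (QuotientGroup.mk' (Cfsg.pCore 2 G)) a
        rw [← map_mul, ← map_mul, hcomm a ha b hb]
      · rintro _ ⟨a, ha, rfl⟩
        rw [← map_pow, hV.2 a ha, map_one]
    have hne' : V.map (QuotientGroup.mk' (Cfsg.pCore 2 G)) ≠ ⊥ := by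
      intro h
      obtain ⟨⟨v, hv⟩, hv1⟩ := Subgroup.ne_bot_iff_exists_ne_one.mp hV1
      have h1 : (QuotientGroup.mk' (Cfsg.pCore 2 G)) v ∈
          V.map (QuotientGroup.mk' (Cfsg.pCore 2 G)) := ⟨v, hv, rfl⟩
      rw [h, Subgroup.mem_bot] at h1
      have hvP : v ∈ Cfsg.pCore 2 G := (QuotientGroup.eq_one_iff v).mp h1
      have h2 : v ∈ V ⊓ Cfsg.pCore 2 G := ⟨hv, hvP⟩
      rw [hVO, Subgroup.mem_bot] at h2
      exact hv1 (Subtype.ext h2)
    have hres := hminG (G ⧸ Cfsg.pCore 2 G) (V.map (QuotientGroup.mk' (Cfsg.pCore 2 G)))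
      hcard hEA' hne' hSq
    apply hres
    rw [eq_bot_iff]
    rintro y ⟨⟨v, hv, rfl⟩, hyP⟩
    have hQn := sidki_pCore_normal 2 (G ⧸ Cfsg.pCore 2 G)
    have hQ2 : IsPGroup 2 (Cfsg.pCore 2 (G ⧸ Cfsg.pCore 2 G)) :=
      Sylow.sSup_of_normal _ (fun _ h => h.2) (fun _ h => h.1)
    have hT2 : IsPGroup 2 ((Cfsg.pCore 2 (G ⧸ Cfsg.pCore 2 G)).comap
        (QuotientGroup.mk' (Cfsg.pCore 2 G))) := by
      apply hQ2.comap_of_ker_isPGroup
      rw [QuotientGroup.ker_mk']
      exact hP2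
    have hTn : ((Cfsg.pCore 2 (G ⧸ Cfsg.pCore 2 G)).comap
        (QuotientGroup.mk' (Cfsg.pCore 2 G))).Normal := hQn.comap _
    have hle := sidki_le_pCore hTn hT2
    have hvP : v ∈ Cfsg.pCore 2 G := hle hyP
    have h2 : v ∈ V ⊓ Cfsg.pCore 2 G := ⟨hv, hvP⟩
    rw [hVO, Subgroup.mem_bot] at h2
    rw [Subgroup.mem_bot, h2, map_one]
  have c : SidkiCtx G V :=
    { comm := hcomm
      sq := hsq
      ne := hV1
      sidki := hS
      core := hcore
      ih := hminG }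
  exact c.conclusion

end Cfsg.Agent.S3048
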