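import Cfsg.Statements.S3049
import Mathlib
import Cfsg.Agent.Lib.Helper9.IsoB

set_option autoImplicit false
open Cfsg

namespace Cfsg.Agent.S3049

/-- Let G be a finite group and p an odd prime with O_{p'}(G) = 1. Suppose that G has p-rank at most 2 (no elementary abelian subgroup of order p³) and that some element x of order p is isolated in G (no G-conjugate of x other than x commutes with x) and not central. Then the generalized Fitting subgroup F*(G) is a non-abelian simple group. Since O_{p'}(G) = 1, such an x is not central modulo O_{p'}(G): the hypotheses describe a counterexample to the Z*_p statement in p-rank at most 2. -/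
theorem result {G : Type*} [Group G] [Finite G] {p : ℕ} [Fact p.Prime] (hp : p ≠ 2) (hcore : Cfsg.pPrimeCore p G = ⊥)
    (hrank : Cfsg.PRankLE p 2 G) (x : G) (hx : orderOf x = p) (hiso : Cfsg.IsIsolated x) (hnc : x ∉ Subgroup.center G) :
    IsSimpleGroup ↥(Cfsg.generalizedFittingSubgroup G) ∧ ¬ IsMulCommutative ↥(Cfsg.generalizedFittingSubgroup G) := by

  classical
  have hxp : x ^ p = 1 := by rw [← hx]; exact pow_orderOf_eq_one x
  -- a Sylow subgroup through `x` centralizes `x`
  have hZp : IsPGroup p (Subgroup.zpowers x) := by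
    apply IsPGroup.of_card (n := 1)
    rw [Nat.card_zpowers, hx, pow_one]
  obtain ⟨T, hxT, hTx⟩ := Cfsg.Agent.Lib.Helper9.exists_sylow_le_centralizer_of_isolated hiso hZp
    (Subgroup.mem_zpowers x)
  have hTc : ∀ u ∈ (T : Subgroup G), Commute x u := by
    intro u hu
    have := hTx hu
    rw [Subgroup.mem_centralizer_singleton_iff] at this
    exact this.symm
  -- `F(G) = O_p(G) ≤ T`
  have hF := Cfsg.Agent.Lib.Helper91.fittingSubgroup_eq_pCore_of_pPrimeCore_eq_bot (G := G) hcore
  have hpn := Cfsg.Agent.Lib.Helper22.pCore_normal' p G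
  have hpT : Cfsg.pCore p G ≤ T :=
    (Cfsg.Agent.Lib.Helper22.pCore_isPGroup' p G).le_sylow_of_normal T
  have hFT : Cfsg.fittingSubgroup G ≤ T := by rw [hF]; exact hpT
  -- some component is not centralized by `x`
  have hexL : ∃ L : Subgroup G, Cfsg.IsComponent L ∧ x ∉ Subgroup.centralizer (L : Set G) := by
    by_contra hcon
    push Not at hcon
    have hlay : Cfsg.layer G ≤ Subgroup.centralizer ({x} : Set G) := by
      apply sSup_le
      intro K hK k hk
      rw [Subgroup.mem_centralizer_singleton_iff]
      exact Subgroup.mem_centralizer_iff.mp (hcon K hK) k hk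
    have hFs : Cfsg.generalizedFittingSubgroup G ≤ Subgroup.centralizer ({x} : Set G) := by
      unfold Cfsg.generalizedFittingSubgroup
      exact sup_le hlay (hFT.trans hTx)
    have hxc : x ∈ Subgroup.centralizer (Cfsg.generalizedFittingSubgroup G : Set G) := by
      rw [Subgroup.mem_centralizer_iff]
      intro h hh
      have := hFs hh
      rw [Subgroup.mem_centralizer_singleton_iff] at this
      exact this
    have hxF : x ∈ Cfsg.generalizedFittingSubgroup G :=
      Cfsg.Agent.Lib.Helper22.centralizer_generalizedFitting_le G hxc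
    have hFn := Cfsg.Agent.Lib.Helper22.generalizedFittingSubgroup_normal G
    apply hnc
    rw [Subgroup.mem_center_iff]
    intro g
    have h1 : g * x * g⁻¹ ∈ Cfsg.generalizedFittingSubgroup G := hFn.conj_mem x hxF g
    have h2 := hFs h1
    rw [Subgroup.mem_centralizer_singleton_iff] at h2
    have h3 := hiso g h2.symm
    calc g * x = g * x * g⁻¹ * g := by group
      _ = x * g := by rw [h3]
  obtain ⟨L, hL, hxL⟩ := hexL
  have key : ∀ z : G, orderOf z = p → z ∈ Subgroup.centralizer (L : Set G) → Commute x z → False :=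
    fun z hz hzL hxz =>
      Cfsg.Agent.Lib.Helper9.isolated_key hp hcore hrank hx hiso hL hxL hz hzL hxz
  -- `F(G) = 1`
  have hFbot : Cfsg.fittingSubgroup G = ⊥ := by
    by_contra hne
    rw [hF] at hne
    have hnt : Nontrivial ↥(Cfsg.pCore p G) := (Subgroup.nontrivial_iff_ne_bot _).mpr hne
    have hd : p ∣ Nat.card ↥(Cfsg.pCore p G) := by
      rcases (Cfsg.Agent.Lib.Helper22.pCore_isPGroup' p G).card_eq_or_dvd with h | h
      · exact absurd (Finite.one_lt_card_iff_nontrivial.mpr hnt) (by omega)
      · exact h
    obtain ⟨z, hz⟩ := exists_prime_orderOf_dvd_card' p hd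
    have hzo : orderOf (z : G) = p := by rw [Subgroup.orderOf_coe]; exact hz
    have hzF : (z : G) ∈ Cfsg.fittingSubgroup G := by rw [hF]; exact z.2
    refine key (z : G) hzo ?_ (hTc _ (hFT hzF))
    rw [Subgroup.mem_centralizer_iff]
    intro l hl
    have h1 := Cfsg.Agent.Lib.Helper22.component_le_centralizer_fitting hL hl
    exact (Subgroup.mem_centralizer_iff.mp h1 (z : G) hzF).symm
  -- `L` is the only component
  have huniq : ∀ L' : Subgroup G, Cfsg.IsComponent L' → L' = L := by
    intro L' hL'
    by_contra hne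
    have hcomm := Cfsg.Agent.Lib.Helper91.component_commute_of_ne hL hL' (Ne.symm hne)
    obtain ⟨z, hzT, hzL', hzo⟩ :=
      Cfsg.Agent.Lib.Helper9.exists_orderOf_eq_mem_sylow_inf_component hcore hL' T
    refine key z hzo ?_ (hTc z hzT)
    rw [Subgroup.mem_centralizer_iff]
    intro l hl
    exact hcomm l hl z hzL'
  have hlayer : Cfsg.layer G = L := by
    apply le_antisymm
    · apply sSup_le
      intro K hK
      exact (huniq K hK).le
    · exact le_sSup hL
  have hFstar : Cfsg.generalizedFittingSubgroup G = L := by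
    unfold Cfsg.generalizedFittingSubgroup
    rw [hlayer, hFbot, sup_bot_eq]
  -- `Z(L) = 1`
  have hcen : Subgroup.center ↥L = ⊥ := by
    rw [eq_bot_iff]
    intro c hc
    rw [Subgroup.mem_bot]
    have h1 : (c : G) ∈ Subgroup.centralizer (L : Set G) := by
      rw [Subgroup.mem_centralizer_iff]
      intro l hl
      have := Subgroup.mem_center_iff.mp hc ⟨l, hl⟩
      exact congrArg Subtype.val this
    have h2 := Cfsg.Agent.Lib.Helper22.Bal.center_component_le_pCore hcore hL c.2 h1
    rw [← hF, hFbot, Subgroup.mem_bot] at h2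
    exact Subtype.ext h2
  have hsimple : IsSimpleGroup ↥L := by
    have h1 : IsSimpleGroup (↥L ⧸ Subgroup.center ↥L) := hL.2.2
    have e : ↥L ⧸ Subgroup.center ↥L ≃* ↥L :=
      (QuotientGroup.quotientMulEquivOfEq hcen).trans QuotientGroup.quotientBot
    exact e.isSimpleGroup_congr.mp h1
  have hnab : ¬ IsMulCommutative ↥L := by
    intro hc
    apply Cfsg.Agent.Lib.Helper91.not_isSolvable_of_isQuasisimple hL.2
    exact Group.isSolvable_of_comm (fun a b => hc.is_comm.comm a b)
  rw [hFstar]
  exact ⟨hsimple, hnab⟩


end Cfsg.Agent.S3049
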