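import Cfsg.Statements.S3053
import Cfsg.Agent.Lib.Helper29.CyclicMax
import Cfsg.Agent.Lib.Helper2.PGroup

set_option autoImplicit false
open Cfsg
open scoped Pointwise

namespace Cfsg.Agent.S3053

open Cfsg.Agent.Lib.Helper29

/-- Structure of an extraspecial group of order `p³` and exponent `p²`, `p` odd. -/
theorem structure_R {R : Type*} [Group R] [Finite R] {p : ℕ} [hpf : Fact p.Prime] (hp2 : p ≠ 2)
    (hE : Cfsg.IsExtraspecial p R) (hcard : Nat.card R = p ^ 3)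
    (hexp : Monoid.exponent R = p ^ 2) :
    ∃ (W : Subgroup R) (x : R), (∀ u, u ∈ W ↔ u ^ p = 1) ∧ Nat.card W = p ^ 2 ∧ x ∉ W ∧
      Subgroup.center R ≤ W ∧ (∀ u v : R, u * v * u⁻¹ * v⁻¹ ∈ Subgroup.center R) ∧
      (∀ u : R, u ^ p ∈ Subgroup.center R) ∧ (∀ e ∈ W, ∀ f ∈ W, e * f = f * e) ∧
      (∀ u, u ∉ W → ∀ e ∈ W, e ∉ Subgroup.center R → u * e ≠ e * u) ∧
      (∀ u v : R, (u * v) ^ p = u ^ p * v ^ p) := by
  have hp : p.Prime := hpf.out
  obtain ⟨⟨hR, hfr, hcomm⟩, hZcard⟩ := hE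
  have hle : commutator R ≤ Subgroup.center R := le_of_eq hcomm
  have hpowZ : ∀ u : R, u ^ p ∈ Subgroup.center R := by
    intro u
    rw [← hfr]
    exact Cfsg.Agent.Lib.Helper2.pow_mem_frattini hR u
  have hcmZ : ∀ u v : R, cm u v ∈ Subgroup.center R := fun u v => hle (cm_mem_commutator u v)
  have hZp : ∀ c ∈ Subgroup.center R, c ^ p = 1 := by
    intro c hc
    have : (⟨c, hc⟩ : Subgroup.center R) ^ p = 1 := by
      rw [← hZcard]; exact pow_card_eq_one'
    have := congrArg Subtype.val this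
    simpa using this
  have hcmp : ∀ u v : R, (cm u v) ^ p = 1 := fun u v => hZp _ (hcmZ u v)
  have hmulpow : ∀ u v : R, (u * v) ^ p = u ^ p * v ^ p := fun u v =>
    mul_pow_prime_classTwo hle hp hp2 u v (hcmp v u)
  -- an element of order p^2
  obtain ⟨x, hx⟩ : ∃ x : R, x ^ p ≠ 1 := by
    by_contra h
    have h' : ∀ x : R, x ^ p = 1 := by
      intro x; by_contra hx; exact h ⟨x, hx⟩
    have := Monoid.exponent_dvd_of_forall_pow_eq_one h'
    rw [hexp] at this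
    have h1 : p ^ 2 ≤ p := Nat.le_of_dvd hp.pos this
    have h2 : p < p ^ 2 := by
      have := hp.one_lt
      nlinarith
    omega
  have hxp2 : x ^ (p ^ 2) = 1 := by rw [← hexp]; exact Monoid.pow_exponent_eq_one x
  have hxord : orderOf x = p ^ 2 := by
    have hdvd : orderOf x ∣ p ^ 2 := orderOf_dvd_of_pow_eq_one hxp2
    obtain ⟨k, hk2, hk⟩ := (Nat.dvd_prime_pow hp).1 hdvd
    have hk_ne : ¬ k ≤ 1 := by
      intro hk1
      apply hx
      have : orderOf x ∣ p := by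
        rw [hk]
        have := pow_dvd_pow p hk1
        rwa [pow_one] at this
      exact orderOf_dvd_iff_pow_eq_one.1 this
    have : k = 2 := by omega
    rw [hk, this]
  have hnc : ¬ IsCyclic R := by
    intro hc
    have hcomm' : ∀ a b : R, a * b = b * a := by
      obtain ⟨g, hg⟩ := hc.exists_generator
      intro a b
      obtain ⟨i, rfl⟩ := hg a
      obtain ⟨j, rfl⟩ := hg b
      exact (Commute.zpow_zpow_self g i j).eq
    have : Subgroup.center R = ⊤ := by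
      rw [eq_top_iff]
      intro a _
      rw [Subgroup.mem_center_iff]
      intro b; exact hcomm' b a
    rw [this, Subgroup.card_top, hcard] at hZcard
    have h2 : p < p ^ 3 := by
      have := hp.one_lt
      nlinarith [pow_pos hp.pos 2]
    omega
  have hCi : (Subgroup.zpowers x).index = p := by
    have h1 := (Subgroup.zpowers x).card_mul_index
    rw [Nat.card_zpowers, hxord, hcard] at h1
    have : p ^ 2 * (Subgroup.zpowers x).index = p ^ 2 * p := by rw [h1]; ring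
    exact Nat.eq_of_mul_eq_mul_left (pow_pos hp.pos 2) this
  obtain ⟨W, hW, hWcard⟩ := exists_omega_card_sq hp2 hR hnc (Subgroup.zpowers x) inferInstance hCi
  have hxW : x ∉ W := fun h => hx ((hW x).1 h)
  have hZW : Subgroup.center R ≤ W := fun c hc => (hW c).2 (hZp c hc)
  have hWab : ∀ e ∈ W, ∀ f ∈ W, e * f = f * e := by
    have hWp : IsPGroup p W := hR.to_subgroup W
    have hc : IsMulCommutative W := IsPGroup.isMulCommutative_of_card_eq_prime_sq hWcard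
    intro e he f hf
    have h := hc.is_comm.comm ⟨e, he⟩ ⟨f, hf⟩
    exact congrArg Subtype.val h
  refine ⟨W, x, hW, hWcard, hxW, hZW, ?_, hpowZ, hWab, ?_, hmulpow⟩
  · intro u v; exact hcmZ u v
  · intro u hu e he hez hcomm'
    apply hez
    -- centralizer of e contains W and u, hence everything
    have hle' : W ⊔ Subgroup.zpowers u ≤ Subgroup.centralizer {e} := by
      apply sup_le
      · intro f hf
        rw [Subgroup.mem_centralizer_singleton_iff]
        exact hWab f hf e he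
      · rw [Subgroup.zpowers_le, Subgroup.mem_centralizer_singleton_iff]
        exact hcomm'
    have htop : W ⊔ Subgroup.zpowers u = ⊤ := by
      have hlt : W < W ⊔ Subgroup.zpowers u := by
        refine lt_of_le_of_ne le_sup_left ?_
        intro h
        apply hu
        rw [h]
        exact (le_sup_right : Subgroup.zpowers u ≤ _) (Subgroup.mem_zpowers u)
      have hd3 : Nat.card (W ⊔ Subgroup.zpowers u : Subgroup R) ∣ p ^ 3 := by
        rw [← hcard]; exact Subgroup.card_subgroup_dvd_card _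
      obtain ⟨k, hk3, hk⟩ := (Nat.dvd_prime_pow hp).1 hd3
      have hd2 : p ^ 2 ∣ Nat.card (W ⊔ Subgroup.zpowers u : Subgroup R) := by
        rw [← hWcard]; exact Subgroup.card_dvd_of_le le_sup_left
      rw [hk] at hd2
      have hk2 : 2 ≤ k := (Nat.pow_dvd_pow_iff_le_right hp.one_lt).1 hd2
      have hkne : k ≠ 2 := by
        intro h2
        apply hlt.ne
        apply Subgroup.eq_of_le_of_card_ge le_sup_left
        rw [hk, h2, hWcard]
      have hk3' : k = 3 := by omega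
      apply Subgroup.eq_top_of_card_eq
      rw [hk, hk3', hcard]
    rw [Subgroup.mem_center_iff]
    intro g
    have : g ∈ Subgroup.centralizer {e} := hle' (htop ▸ Subgroup.mem_top g)
    rw [Subgroup.mem_centralizer_singleton_iff] at this
    exact this


section inG
variable {G : Type*} [Group G] {p : ℕ}

theorem mem_smul_sylow (S : Sylow p G) (g x : G) :
    x ∈ ((g • S : Sylow p G) : Subgroup G) ↔ g⁻¹ * x * g ∈ (S : Subgroup G) := by
  rw [Sylow.coe_subgroup_smul, Subgroup.mem_pointwise_smul_iff_inv_smul_mem, ← map_inv,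
    MulAut.smul_def, MulAut.conj_apply, inv_inv]

/-- Inside a subgroup `H` containing the Sylow subgroup `S₀`, every `p`-subgroup of `H` lies in an
`H`-conjugate of `S₀`. -/
theorem exists_smul_le [Finite G] [Fact p.Prime] (H : Subgroup G) (S₀ : Sylow p G)
    (hS₀ : (S₀ : Subgroup G) ≤ H) (D : Subgroup G) (hDH : D ≤ H) (hD : IsPGroup p D) :
    ∃ h ∈ H, D ≤ ((h • S₀ : Sylow p G) : Subgroup G) := by
  have hD' : IsPGroup p (D.subgroupOf H) := hD.comap_subtype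
  obtain ⟨Q, hQ⟩ := hD'.exists_le_sylow
  obtain ⟨h, hh⟩ := MulAction.exists_smul_eq H (S₀.subtype hS₀) Q
  refine ⟨h, h.2, ?_⟩
  intro d hd
  have h1 : (⟨d, hDH hd⟩ : H) ∈ (Q : Subgroup H) := hQ (Subgroup.mem_subgroupOf.2 hd)
  rw [← hh, Sylow.smul_subtype hS₀ h, Sylow.coe_subtype, Subgroup.mem_subgroupOf] at h1
  exact h1

end inG

section cjsec
variable {G : Type*} [Group G]

/-- conjugation -/
def cj (a b : G) : G := a * b * a⁻¹

theorem cj_mul_left (a b c : G) : cj (a * b) c = cj a (cj b c) := by unfold cj; group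
theorem cj_mul (a b c : G) : cj a (b * c) = cj a b * cj a c := by unfold cj; group
theorem cj_inv (a b : G) : cj a b⁻¹ = (cj a b)⁻¹ := by unfold cj; group
theorem cj_one_right (a : G) : cj a 1 = 1 := by unfold cj; group
theorem cj_one_left (b : G) : cj 1 b = b := by unfold cj; group
theorem cj_pow (a b : G) (n : ℕ) : cj a (b ^ n) = (cj a b) ^ n := by
  unfold cj; exact conj_pow.symm
theorem cj_inv_cj (a b : G) : cj a⁻¹ (cj a b) = b := by unfold cj; group
theorem cj_cj_inv (a b : G) : cj a (cj a⁻¹ b) = b := by unfold cj; group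
theorem cj_eq_self_iff (a b : G) : cj a b = b ↔ a * b = b * a := by
  unfold cj
  constructor
  · intro h
    calc a * b = a * b * a⁻¹ * a := by group
      _ = b * a := by rw [h]
  · intro h
    calc a * b * a⁻¹ = b * a * a⁻¹ := by rw [h]
      _ = b := by group
theorem cj_injective (a : G) {b c : G} (h : cj a b = cj a c) : b = c := by
  have := congrArg (cj a⁻¹) h
  rwa [cj_inv_cj, cj_inv_cj] at this

theorem cj_pow_of_comm (a b c : G) (h1 : cj a b = b * c) (h2 : cj a c = c) (i : ℕ) :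
    cj (a ^ i) b = b * c ^ i := by
  induction i with
  | zero => simp [cj_one_left]
  | succ i ih =>
    rw [pow_succ', cj_mul_left, ih, cj_mul, h1, cj_pow, h2, pow_succ', mul_assoc]

theorem cj_pow_left_mem (E : Subgroup G) (a : G) (h : ∀ e ∈ E, cj a e ∈ E) (k : ℕ) :
    ∀ e ∈ E, cj (a ^ k) e ∈ E := by
  induction k with
  | zero => intro e he; simpa [cj_one_left] using he
  | succ k ih =>
    intro e he
    rw [pow_succ', cj_mul_left]
    exact h _ (ih e he)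

theorem cj_inv_mem [Finite G] (E : Subgroup G) (a : G) (h : ∀ e ∈ E, cj a e ∈ E) :
    ∀ e ∈ E, cj a⁻¹ e ∈ E := by
  have hpos : 0 < orderOf a := orderOf_pos a
  have h1 : a ^ (orderOf a - 1) = a⁻¹ := by
    apply eq_inv_of_mul_eq_one_left
    rw [← pow_succ, Nat.sub_add_cancel hpos, pow_orderOf_eq_one]
  rw [← h1]
  exact cj_pow_left_mem E a h _

end cjsec

/-- The configuration inside `G`. -/
structure Setup {G : Type*} [Group G] (p : ℕ) (P Z E : Subgroup G) (x : G) : Prop where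
  ZE : Z ≤ E
  EP : E ≤ P
  memE : ∀ u ∈ P, (u ∈ E ↔ u ^ p = 1)
  Zcent : ∀ z ∈ Z, ∀ u ∈ P, u * z = z * u
  comm : ∀ u ∈ P, ∀ v ∈ P, u * v * u⁻¹ * v⁻¹ ∈ Z
  powZ : ∀ u ∈ P, u ^ p ∈ Z
  xP : x ∈ P
  xE : x ∉ E
  Eab : ∀ e ∈ E, ∀ f ∈ E, e * f = f * e
  noncomm : ∀ u ∈ P, u ∉ E → ∀ e ∈ E, e ∉ Z → u * e ≠ e * u
  cardZ : Nat.card Z = p
  cardE : Nat.card E = p ^ 2
  mulpow : ∀ u ∈ P, ∀ v ∈ P, (u * v) ^ p = u ^ p * v ^ p

namespace Setup
variable {G : Type*} [Group G] {p : ℕ} {P Z E : Subgroup G} {x : G}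

theorem P_norm_E (S : Setup p P Z E x) {u e : G} (hu : u ∈ P) (he : e ∈ E) : cj u e ∈ E := by
  have h1 : cj u e ∈ P := by
    unfold cj
    exact P.mul_mem (P.mul_mem hu (S.EP he)) (P.inv_mem hu)
  rw [S.memE _ h1, ← cj_pow, (S.memE e (S.EP he)).1 he, cj_one_right]

theorem Zgen [Fact p.Prime] (S : Setup p P Z E x) {g g' : G} (hg : g ∈ Z) (hg1 : g ≠ 1)
    (hg' : g' ∈ Z) : ∃ k : ℕ, g' = g ^ k := by
  have h1 : (⟨g, hg⟩ : Z) ≠ 1 := by
    intro h; apply hg1; exact congrArg Subtype.val h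
  have := mem_powers_of_prime_card (g' := (⟨g', hg'⟩ : Z)) S.cardZ h1
  obtain ⟨k, hk⟩ := this
  refine ⟨k, ?_⟩
  have := congrArg Subtype.val hk
  simpa using this.symm

theorem gen2 [Finite G] [hpf : Fact p.Prime] (S : Setup p P Z E x) {z y : G} (hz : z ∈ Z) (hz1 : z ≠ 1)
    (hy : y ∈ E) (hyZ : y ∉ Z) (I : Subgroup G) (hzI : z ∈ I) (hyI : y ∈ I) : E ≤ I := by
  have hp := hpf.out
  have hZI : Z ≤ I ⊓ E := by
    intro g hg
    obtain ⟨k, rfl⟩ := S.Zgen hz hz1 hg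
    exact ⟨I.pow_mem hzI k, E.pow_mem (S.ZE hz) k⟩
  have hd : Nat.card (I ⊓ E : Subgroup G) ∣ p ^ 2 := by
    rw [← S.cardE]; exact Subgroup.card_dvd_of_le inf_le_right
  obtain ⟨k, hk2, hk⟩ := (Nat.dvd_prime_pow hp).1 hd
  have hd2 : p ∣ Nat.card (I ⊓ E : Subgroup G) := by
    rw [← S.cardZ]; exact Subgroup.card_dvd_of_le hZI
  rw [hk] at hd2
  have hk1 : 1 ≤ k := by
    rcases Nat.eq_zero_or_pos k with h0 | h0
    · rw [h0, pow_zero] at hd2
      exact absurd (Nat.le_of_dvd one_pos hd2) (by have := hp.one_lt; omega)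
    · exact h0
  have hkne : k ≠ 1 := by
    intro h1
    apply hyZ
    have : Z = I ⊓ E := by
      apply Subgroup.eq_of_le_of_card_ge hZI
      rw [hk, h1, pow_one, S.cardZ]
    rw [this]
    exact ⟨hyI, hy⟩
  have hk2' : k = 2 := by omega
  have : I ⊓ E = E := by
    apply Subgroup.eq_of_le_of_card_ge inf_le_right
    rw [hk, hk2', S.cardE]
  rw [← this]
  exact inf_le_left

end Setup

namespace Setup
variable {G : Type*} [Group G] {p : ℕ} {P Z E : Subgroup G} {x : G}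

/-- the subgroup of elements of `E` inverted by `n` -/
def invSub (E : Subgroup G) (hab : ∀ e ∈ E, ∀ f ∈ E, e * f = f * e) (n : G) : Subgroup G where
  carrier := {e | e ∈ E ∧ cj n e = e⁻¹}
  mul_mem' := by
    rintro a b ⟨ha, ha'⟩ ⟨hb, hb'⟩
    refine ⟨E.mul_mem ha hb, ?_⟩
    rw [cj_mul, ha', hb', hab a ha b hb, mul_inv_rev]
  one_mem' := ⟨E.one_mem, by rw [cj_one_right, inv_one]⟩
  inv_mem' := by
    rintro a ⟨ha, ha'⟩
    exact ⟨E.inv_mem ha, by rw [cj_inv, ha']⟩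

theorem exists_inverting [Finite G] [Fact p.Prime] (S : Setup p P Z E x) {z y h : G}
    (hz : z ∈ Z) (hz1 : z ≠ 1) (hy : y ∈ E) (hyZ : y ∉ Z) (hzy : cj h z = y)
    (hhE' : ∀ e ∈ E, cj h⁻¹ e ∈ E) :
    ∃ n₀ : G, ∀ e ∈ E, cj n₀ e = e⁻¹ := by
  have hxP := S.xP
  -- the action of x on y
  have key : ∀ e ∈ E, e ∉ Z → ∃ c ∈ Z, c ≠ 1 ∧ cj x e = e * c ∧ cj x c = c := by
    intro e he heZ
    refine ⟨e⁻¹ * cj x e, ?_, ?_, ?_, ?_⟩
    · have := S.comm e⁻¹ (P.inv_mem (S.EP he)) x hxP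
      have h2 : e⁻¹ * cj x e = e⁻¹ * x * e⁻¹⁻¹ * x⁻¹ := by unfold cj; group
      rw [h2]; exact this
    · intro h1
      apply S.noncomm x hxP S.xE e he heZ
      rw [← cj_eq_self_iff]
      have : e * (e⁻¹ * cj x e) = e * 1 := by rw [h1]
      simpa using this
    · group
    · rw [cj_eq_self_iff]
      apply S.Zcent _ _ x hxP
      have := S.comm e⁻¹ (P.inv_mem (S.EP he)) x hxP
      have h2 : e⁻¹ * cj x e = e⁻¹ * x * e⁻¹⁻¹ * x⁻¹ := by unfold cj; group
      rw [h2]; exact this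
  obtain ⟨z₁, hz₁, hz₁1, hxy, hxz₁⟩ := key y hy hyZ
  obtain ⟨i, hi⟩ := S.Zgen hz₁ hz₁1 hz
  have hTy : cj (x ^ i) y = y * z := by rw [cj_pow_of_comm x y z₁ hxy hxz₁ i, hi]
  have hTz : cj (x ^ i) z = z := by
    rw [cj_eq_self_iff]; exact S.Zcent z hz _ (P.pow_mem hxP i)
  -- e₀
  have he₀ : cj h⁻¹ z ∈ E := hhE' z (S.ZE hz)
  have hhe₀ : cj h (cj h⁻¹ z) = z := cj_cj_inv h z
  have he₀Z : cj h⁻¹ z ∉ Z := by
    intro hin
    have hne : cj h⁻¹ z ≠ 1 := by
      intro h1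
      rw [h1, cj_one_right] at hhe₀
      exact hz1 hhe₀.symm
    obtain ⟨k, hk⟩ := S.Zgen hin hne hz
    apply hyZ
    rw [← hzy]
    have : cj h z = z ^ k := by
      conv_lhs => rw [hk]
      rw [cj_pow, hhe₀]
    rw [this]
    exact Z.pow_mem hz k
  obtain ⟨c, hc, hc1, hxe₀, hxc⟩ := key _ he₀ he₀Z
  have hx₁ : ∀ b, cj (cj h x) b = cj h (cj x (cj h⁻¹ b)) := by
    intro b
    have : cj h x = h * x * h⁻¹ := rfl
    rw [this, cj_mul_left, cj_mul_left]
  have hx₁z : cj (cj h x) z = z * cj h c := by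
    rw [hx₁, hxe₀, cj_mul, hhe₀]
  have hx₁y₁ : cj (cj h x) (cj h c) = cj h c := by
    rw [hx₁, cj_inv_cj, hxc]
  obtain ⟨j, hj⟩ := S.Zgen hc hc1 (Z.inv_mem hz)
  have hy₁j : (cj h c) ^ j = y⁻¹ := by
    rw [← cj_pow, ← hj, cj_inv, hzy]
  have hT₁z : cj ((cj h x) ^ j) z = z * y⁻¹ := by
    rw [cj_pow_of_comm _ _ _ hx₁z hx₁y₁ j, hy₁j]
  have hx₁y : cj (cj h x) y = y * 1 := by
    rw [hx₁, ← hzy, cj_inv_cj, mul_one]
    have : cj x z = z := by
      rw [cj_eq_self_iff]; exact S.Zcent z hz x hxP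
    rw [this]
  have hT₁y : cj ((cj h x) ^ j) y = y := by
    rw [cj_pow_of_comm _ _ _ hx₁y (cj_one_right _) j, one_pow, mul_one]
  -- w
  have hwz : cj (x ^ i * (cj h x) ^ j * x ^ i) z = y⁻¹ := by
    rw [cj_mul_left, cj_mul_left, hTz, hT₁z, cj_mul, cj_inv, hTz, hTy]
    group
  have hwy : cj (x ^ i * (cj h x) ^ j * x ^ i) y = z := by
    rw [cj_mul_left, cj_mul_left, hTy, cj_mul, hT₁y, hT₁z]
    have : y * (z * y⁻¹) = z := by
      rw [← mul_assoc, S.Eab y hy z (S.ZE hz)]; group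
    rw [this, hTz]
  refine ⟨(x ^ i * (cj h x) ^ j * x ^ i) * (x ^ i * (cj h x) ^ j * x ^ i), ?_⟩
  have hle := S.gen2 hz hz1 hy hyZ (invSub E S.Eab ((x ^ i * (cj h x) ^ j * x ^ i) * (x ^ i * (cj h x) ^ j * x ^ i)))
    ⟨S.ZE hz, by rw [cj_mul_left, hwz, cj_inv, hwy]⟩
    ⟨hy, by rw [cj_mul_left, hwy, hwz]⟩
  intro e he
  exact (hle he).2

end Setup

namespace Setup
variable {G : Type*} [Group G] {p : ℕ} {Z E : Subgroup G} {x : G}

/-- elements acting on `E` like an element of `P` -/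
def actSub (P E : Subgroup G) (hPE : ∀ u ∈ P, ∀ e ∈ E, cj u e ∈ E) : Subgroup G where
  carrier := {g | ∃ u ∈ P, ∀ e ∈ E, cj g e = cj u e}
  mul_mem' := by
    rintro a b ⟨u, hu, hua⟩ ⟨v, hv, hvb⟩
    refine ⟨u * v, P.mul_mem hu hv, ?_⟩
    intro e he
    rw [cj_mul_left, cj_mul_left, hvb e he, hua _ (hPE v hv e he)]
  one_mem' := ⟨1, P.one_mem, fun e _ => rfl⟩
  inv_mem' := by
    rintro a ⟨u, hu, hua⟩
    refine ⟨u⁻¹, P.inv_mem hu, ?_⟩
    intro e he
    have h1 := hua _ (hPE u⁻¹ (P.inv_mem hu) e he)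
    rw [cj_cj_inv] at h1
    calc cj a⁻¹ e = cj a⁻¹ (cj a (cj u⁻¹ e)) := by rw [h1]
      _ = cj u⁻¹ e := cj_inv_cj _ _

theorem exists_inverting_norm [Finite G] [Fact p.Prime] {PS : Sylow p G}
    (S : Setup p (PS : Subgroup G) Z E x) {n₀ : G} (hn₀ : ∀ e ∈ E, cj n₀ e = e⁻¹) :
    ∃ n : G, (∀ e ∈ E, cj n e = e⁻¹) ∧ cj n x ∈ (PS : Subgroup G) := by
  have hPE : ∀ u ∈ (PS : Subgroup G), ∀ e ∈ E, cj u e ∈ E := fun u hu e he => S.P_norm_E hu he
  have hn₀' : ∀ e ∈ E, cj n₀⁻¹ e = e⁻¹ := by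
    intro e he
    have := hn₀ e⁻¹ (E.inv_mem he)
    rw [inv_inv] at this
    calc cj n₀⁻¹ e = cj n₀⁻¹ (cj n₀ e⁻¹) := by rw [this]
      _ = e⁻¹ := cj_inv_cj _ _
  have hPM : (PS : Subgroup G) ≤ actSub (PS : Subgroup G) E hPE := by
    intro u hu
    exact ⟨u, hu, fun e _ => rfl⟩
  have hDM : ((n₀ • PS : Sylow p G) : Subgroup G) ≤ actSub (PS : Subgroup G) E hPE := by
    intro d hd
    rw [mem_smul_sylow] at hd
    refine ⟨n₀⁻¹ * d * n₀, hd, ?_⟩
    intro e he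
    have h1 : d = n₀ * (n₀⁻¹ * d * n₀) * n₀⁻¹ := by group
    conv_lhs => rw [h1]
    rw [cj_mul_left, cj_mul_left, hn₀' e he, cj_inv, hn₀ _ (E.inv_mem (hPE _ hd e he)), inv_inv]
  obtain ⟨m, hmM, hm⟩ := exists_smul_le (actSub (PS : Subgroup G) E hPE) PS hPM
    ((n₀ • PS : Sylow p G) : Subgroup G) hDM (n₀ • PS : Sylow p G).isPGroup'
  obtain ⟨u', hu', hm'⟩ := (actSub (PS : Subgroup G) E hPE).inv_mem hmM
  have hx1 : cj n₀ x ∈ ((n₀ • PS : Sylow p G) : Subgroup G) := by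
    rw [mem_smul_sylow]
    have : n₀⁻¹ * cj n₀ x * n₀ = x := by unfold cj; group
    rw [this]; exact S.xP
  have hx2 := hm hx1
  rw [mem_smul_sylow] at hx2
  refine ⟨u'⁻¹ * m⁻¹ * n₀, ?_, ?_⟩
  · intro e he
    rw [cj_mul_left, cj_mul_left, hn₀ e he, hm' _ (E.inv_mem he), cj_inv_cj]
  · have : cj (u'⁻¹ * m⁻¹ * n₀) x = u'⁻¹ * (m⁻¹ * cj n₀ x * m) * u'⁻¹⁻¹ := by unfold cj; group
    rw [this]
    exact Subgroup.mul_mem _ (Subgroup.mul_mem _ (Subgroup.inv_mem _ hu') hx2)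
      (Subgroup.inv_mem _ (Subgroup.inv_mem _ hu'))

theorem no_inverting [Finite G] [hpf : Fact p.Prime] (hp2 : p ≠ 2) {P : Subgroup G}
    (S : Setup p P Z E x) {y : G} (hy : y ∈ E) (hyZ : y ∉ Z)
    {n : G} (hn : ∀ e ∈ E, cj n e = e⁻¹) (hnx : cj n x ∈ P) : False := by
  have hp := hpf.out
  have hxP := S.xP
  have hPE : ∀ u ∈ P, ∀ e ∈ E, cj u e ∈ E := fun u hu e he => S.P_norm_E hu he
  have hn' : ∀ e ∈ E, cj n⁻¹ e = e⁻¹ := by
    intro e he
    have := hn e⁻¹ (E.inv_mem he)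
    rw [inv_inv] at this
    calc cj n⁻¹ e = cj n⁻¹ (cj n e⁻¹) := by rw [this]
      _ = e⁻¹ := cj_inv_cj _ _
  -- x' acts like x on E
  have hact : ∀ e ∈ E, cj (cj n x) e = cj x e := by
    intro e he
    have : cj n x = n * x * n⁻¹ := rfl
    rw [this, cj_mul_left, cj_mul_left, hn' e he, cj_inv, hn _ (E.inv_mem (hPE x hxP e he)), inv_inv]
  have he₁P : x⁻¹ * cj n x ∈ P := P.mul_mem (P.inv_mem hxP) hnx
  have he₁ : x⁻¹ * cj n x ∈ E := by
    by_contra hne
    apply S.noncomm _ he₁P hne y hy hyZ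
    rw [← cj_eq_self_iff, cj_mul_left, hact y hy, cj_inv_cj]
  have hpow : (cj n x) ^ p = x ^ p := by
    have : cj n x = x * (x⁻¹ * cj n x) := by group
    rw [this, S.mulpow x hxP _ he₁P, (S.memE _ he₁P).1 he₁, mul_one]
  have hxpZ : x ^ p ∈ Z := S.powZ x hxP
  have hinv : x ^ p = (x ^ p)⁻¹ := by
    rw [← hn _ (S.ZE hxpZ), cj_pow, hpow]
  have h2 : (x ^ p) ^ 2 = 1 := by
    rw [pow_two]
    nth_rewrite 1 [hinv]
    exact inv_mul_cancel _
  have h3 : (x ^ p) ^ p = 1 := (S.memE _ (S.EP (S.ZE hxpZ))).1 (S.ZE hxpZ)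
  have hd2 : orderOf (x ^ p) ∣ 2 := orderOf_dvd_of_pow_eq_one h2
  have hdp : orderOf (x ^ p) ∣ p := orderOf_dvd_of_pow_eq_one h3
  have hcop : Nat.Coprime 2 p := by
    rw [Nat.coprime_primes Nat.prime_two hp]; exact fun h => hp2 h.symm
  have h1 : orderOf (x ^ p) = 1 := Nat.eq_one_of_dvd_coprimes hcop hd2 hdp
  rw [orderOf_eq_one_iff] at h1
  exact S.xE ((S.memE x hxP).2 h1)

end Setup

namespace Setup
variable {G : Type*} [Group G] {p : ℕ} {Z E : Subgroup G} {x : G}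

theorem exists_h [Finite G] [Fact p.Prime] {PS : Sylow p G}
    (S : Setup p (PS : Subgroup G) Z E x) {z g : G} (hz : z ∈ Z) (hy : cj g z ∈ E) :
    ∃ h : G, cj h z = cj g z ∧ ∀ e ∈ E, cj h⁻¹ e ∈ E := by
  have hS₁ : ((g • PS : Sylow p G) : Subgroup G) ≤ Subgroup.centralizer {cj g z} := by
    intro d hd
    rw [mem_smul_sylow] at hd
    rw [Subgroup.mem_centralizer_singleton_iff]
    have h1 := S.Zcent z hz _ hd
    have h2 : d * cj g z = g * ((g⁻¹ * d * g) * z) * g⁻¹ := by unfold cj; group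
    have h3 : cj g z * d = g * (z * (g⁻¹ * d * g)) * g⁻¹ := by unfold cj; group
    rw [h2, h3, h1]
  have hEC : E ≤ Subgroup.centralizer {cj g z} := by
    intro e he
    rw [Subgroup.mem_centralizer_singleton_iff]
    exact S.Eab e he _ hy
  have hEp : IsPGroup p E := PS.isPGroup'.to_le S.EP
  obtain ⟨c, hc, hle⟩ := exists_smul_le (Subgroup.centralizer {cj g z}) (g • PS) hS₁ E hEC hEp
  rw [Subgroup.mem_centralizer_singleton_iff, ← cj_eq_self_iff] at hc
  refine ⟨c * g, by rw [cj_mul_left, hc], ?_⟩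
  intro e he
  have h1 := hle he
  rw [← mul_smul, mem_smul_sylow] at h1
  have h2 : cj (c * g)⁻¹ e = (c * g)⁻¹ * e * (c * g) := by unfold cj; group
  rw [h2, S.memE _ h1]
  rw [← h2, ← cj_pow, (S.memE e (S.EP he)).1 he, cj_one_right]

theorem strongly_closed [Finite G] [Fact p.Prime] (hp2 : p ≠ 2) {PS : Sylow p G}
    (S : Setup p (PS : Subgroup G) Z E x) :
    Cfsg.IsStronglyClosed Z (PS : Subgroup G) := by
  refine ⟨S.ZE.trans S.EP, ?_⟩
  intro z hz g hgP
  change cj g z ∈ (PS : Subgroup G) at hgP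
  change cj g z ∈ Z
  by_contra hyZ
  have hz1 : z ≠ 1 := by
    intro h1
    apply hyZ
    rw [h1, cj_one_right]; exact Z.one_mem
  have hy : cj g z ∈ E := by
    rw [S.memE _ hgP, ← cj_pow, (S.memE z (S.EP (S.ZE hz))).1 (S.ZE hz), cj_one_right]
  obtain ⟨h, hhz, hhE'⟩ := S.exists_h hz hy
  obtain ⟨n₀, hn₀⟩ := S.exists_inverting hz hz1 hy hyZ hhz hhE'
  obtain ⟨n, hn, hnx⟩ := S.exists_inverting_norm hn₀
  exact S.no_inverting hp2 hy hyZ hn hnx

end Setup

theorem mem_map_sub {G : Type*} [Group G] (H : Subgroup G) (W : Subgroup H) (u : G) (hu : u ∈ H) :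
    u ∈ W.map H.subtype ↔ (⟨u, hu⟩ : H) ∈ W := by
  constructor
  · rintro ⟨w, hw, rfl⟩
    exact hw
  · intro h
    exact ⟨⟨u, hu⟩, h, rfl⟩

theorem result {G : Type*} [Group G] [Finite G]
    {p : ℕ} [Fact p.Prime] (hp : p ≠ 2) (P : Sylow p G) (hE : Cfsg.IsExtraspecial p ↥P)
    (hcard : Nat.card P = p ^ 3) (hexp : Monoid.exponent ↥P = p ^ 2) :
    Cfsg.IsStronglyClosed ((Subgroup.center ↥P).map (P : Subgroup G).subtype) (P : Subgroup G) := by
  obtain ⟨W, x, hW, hWcard, hxW, hZW, hcomm, hpowZ, hWab, hnc, hmulpow⟩ :=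
    structure_R hp hE hcard hexp
  have hmem := mem_map_sub (P : Subgroup G)
  apply Setup.strongly_closed hp (E := W.map (P : Subgroup G).subtype) (x := (x : G))
  refine ⟨Subgroup.map_mono hZW, ?_, ?_, ?_, ?_, ?_, x.2, ?_, ?_, ?_, ?_, ?_, ?_⟩
  · rintro _ ⟨w, _, rfl⟩
    exact w.2
  · intro u hu
    rw [hmem W u hu, hW]
    constructor
    · intro h; exact congrArg Subtype.val h
    · intro h; exact Subtype.ext h
  · intro z hz u hu
    have hzP : z ∈ (P : Subgroup G) := by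
      obtain ⟨w, _, rfl⟩ := hz; exact w.2
    rw [hmem _ z hzP] at hz
    have := (Subgroup.mem_center_iff.1 hz) ⟨u, hu⟩
    exact congrArg Subtype.val this
  · intro u hu v hv
    have hin : u * v * u⁻¹ * v⁻¹ ∈ (P : Subgroup G) :=
      Subgroup.mul_mem _ (Subgroup.mul_mem _ (Subgroup.mul_mem _ hu hv) (Subgroup.inv_mem _ hu))
        (Subgroup.inv_mem _ hv)
    rw [hmem _ _ hin]
    exact hcomm ⟨u, hu⟩ ⟨v, hv⟩
  · intro u hu
    rw [hmem _ _ (Subgroup.pow_mem _ hu p)]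
    exact hpowZ ⟨u, hu⟩
  · rw [hmem W _ x.2]
    exact hxW
  · intro e he f hf
    have heP : e ∈ (P : Subgroup G) := by
      obtain ⟨w, _, rfl⟩ := he; exact w.2
    have hfP : f ∈ (P : Subgroup G) := by
      obtain ⟨w, _, rfl⟩ := hf; exact w.2
    rw [hmem W _ heP] at he
    rw [hmem W _ hfP] at hf
    exact congrArg Subtype.val (hWab _ he _ hf)
  · intro u hu huE e he heZ hcm
    have heP : e ∈ (P : Subgroup G) := by
      obtain ⟨w, _, rfl⟩ := he; exact w.2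
    rw [hmem W _ hu] at huE
    rw [hmem W _ heP] at he
    rw [hmem _ _ heP] at heZ
    exact hnc _ huE _ he heZ (Subtype.ext hcm)
  · rw [Nat.card_congr ((Subgroup.center ↥P).equivMapOfInjective _
      (Subgroup.subtype_injective _)).symm.toEquiv]
    exact hE.2
  · rw [Nat.card_congr (W.equivMapOfInjective _
      (Subgroup.subtype_injective _)).symm.toEquiv]
    exact hWcard
  · intro u hu v hv
    exact congrArg Subtype.val (hmulpow ⟨u, hu⟩ ⟨v, hv⟩)
end Cfsg.Agent.S3053
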