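import Cfsg.Statements.S3054
import Cfsg.Agent.Lib.Helper86.ExtraFusion2

set_option autoImplicit false
set_option linter.style.haveILetI false
set_option linter.unusedSectionVars false
open Cfsg

namespace Cfsg.Agent.S3054

open Matrix Cfsg.Agent.Lib.Helper86.Coord2 Cfsg.Agent.Lib.Helper86.Lin2 Cfsg.Agent.Lib.Helper86.GL2
  Cfsg.Agent.Lib.Helper86.Extra3 Cfsg.Agent.Lib.Helper86.XF

/-- Let p be an odd prime and G a finite group with a Sylow p-subgroup P that is extraspecial of order p³ and exponent p. Suppose P contains three distinct subgroups A of order p² (each is elementary abelian of rank 2) such that every automorphism of A of order p is induced by conjugation by an element of G; equivalently the automorphism group induced on A by its normalizer contains the special linear group of A. Then p ≤ 13. -/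
theorem result {G : Type*} [Group G] [Finite G]
    {p : ℕ} [Fact p.Prime] (hp : p ≠ 2) (P : Sylow p G) (hE : Cfsg.IsExtraspecial p ↥P)
    (hcard : Nat.card P = p ^ 3) (hexp : Monoid.exponent ↥P = p)
    (A : Fin 3 → Subgroup G) (hA : Function.Injective A) (hAP : ∀ i, A i ≤ (P : Subgroup G))
    (hAcard : ∀ i, Nat.card ↥(A i) = p ^ 2)
    (hSL : ∀ i, ∀ φ : MulAut ↥(A i), orderOf φ = p → ∃ g : G, ∀ a : ↥(A i), (φ a : G) = g * (a : G) * g⁻¹) :
    p ≤ 13 := by
  have hpp : p.Prime := Fact.out
  by_cases hp5 : 5 ≤ p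
  swap
  · omega
  have hH : Hyp p ↥(P : Subgroup G) := hyp_of_extraspecial hE hcard hexp
  have hfr : frattini ↥(P : Subgroup G) = Subgroup.center ↥(P : Subgroup G) := hE.1.2.1
  obtain ⟨eV⟩ := hH.exists_coords
  -- a primitive root
  obtain ⟨t, ht⟩ : ∃ t : (ZMod p)ˣ, orderOf t = p - 1 := by
    obtain ⟨g, hg⟩ := IsCyclic.exists_generator (α := (ZMod p)ˣ)
    refine ⟨g, ?_⟩
    rw [orderOf_eq_card_of_forall_mem_zpowers hg, Nat.card_eq_fintype_card, ZMod.card_units]
  -- a generator of the centre
  obtain ⟨zP, hzZ, hz1⟩ : ∃ z : ↥(P : Subgroup G), z ∈ Subgroup.center ↥(P : Subgroup G) ∧ z ≠ 1 := by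
    by_contra hcon
    push Not at hcon
    have : Nat.card (Subgroup.center ↥(P : Subgroup G)) ≤ 1 := by
      rw [Finite.card_le_one_iff_subsingleton]
      refine ⟨fun a b => ?_⟩
      apply Subtype.ext
      rw [hcon a.1 a.2, hcon b.1 b.2]
    rw [hH.cardZ] at this
    have := hpp.one_lt
    omega
  have hZA : ∀ i, ∀ z' : ↥(P : Subgroup G), z' ∈ Subgroup.center ↥(P : Subgroup G) →
      (z' : G) ∈ A i := fun i z' hz' => center_le (P : Subgroup G) hH hfr (hAP i) (hAcard i) hz'
  have key : ∀ i, ∃ (xP : ↥(P : Subgroup G))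
      (n : ↥(Subgroup.normalizer ((P : Subgroup G) : Set G))),
      (xP : G) ∈ A i ∧ xP ∉ Subgroup.center ↥(P : Subgroup G) ∧
      Tor t (rho P eV n) (kap eV xP) := by
    intro i
    -- an element of A i outside the centre
    obtain ⟨x, hxA, hxZ⟩ : ∃ x : G, ∃ hx : x ∈ A i,
        (⟨x, hAP i hx⟩ : ↥(P : Subgroup G)) ∉ Subgroup.center ↥(P : Subgroup G) := by
      by_contra hcon
      push Not at hcon
      have hinj : Function.Injective (fun a : ↥(A i) =>
          (⟨⟨a.1, hAP i a.2⟩, hcon a.1 a.2⟩ : ↥(Subgroup.center ↥(P : Subgroup G)))) := by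
        intro a b hab
        apply Subtype.ext
        have := congrArg (fun w : ↥(Subgroup.center ↥(P : Subgroup G)) => ((w : ↥(P : Subgroup G)) : G)) hab
        exact this
      haveI : Finite ↥(P : Subgroup G) := hH.finite
      have := Nat.card_le_card_of_injective _ hinj
      rw [hAcard i, hH.cardZ] at this
      have h1 := hpp.one_lt
      have : p * p ≤ p * 1 := by rw [← sq]; omega
      have := Nat.le_of_mul_le_mul_left this hpp.pos
      omega
    have hzA : (zP : G) ∈ A i := hZA i zP hzZ
    haveI := IsPGroup.isMulCommutative_of_card_eq_prime_sq (hAcard i)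
    haveI : Finite ↥(A i) := by
      apply Nat.finite_of_card_ne_zero
      rw [hAcard i]; exact pow_ne_zero _ hpp.ne_zero
    obtain ⟨e, hez, hex⟩ := Cfsg.Agent.Lib.Helper86.Coord2.exists_coords (hAcard i) (⟨(zP : G), hzA⟩ : ↥(A i)) ⟨x, hxA⟩
      (by
        apply Subtype.ext
        have := congrArg Subtype.val (hH.exp zP)
        simpa using this)
      (by
        apply Subtype.ext
        have := congrArg Subtype.val (hH.exp ⟨x, hAP i hxA⟩)
        simpa using this)
      (mul_comm' _ _)
      (by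
        intro h1
        apply hz1
        apply Subtype.ext
        have := congrArg Subtype.val h1
        simpa using this)
      (by
        intro hmem
        obtain ⟨k, hk⟩ := Subgroup.mem_zpowers_iff.mp hmem
        apply hxZ
        have h1 : (⟨x, hAP i hxA⟩ : ↥(P : Subgroup G)) = zP ^ k := by
          apply Subtype.ext
          have := congrArg Subtype.val hk
          simpa using this.symm
        rw [h1]
        exact (Subgroup.center _).zpow_mem hzZ k)
    obtain ⟨h12, h21⟩ := ind_of_order e (hSL i)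
    obtain ⟨n, hn⟩ := tor_of_A P hH eV t ht hp5 (A i) (hAP i) (zP : G) x hzA hxA hzZ hxZ (hZA i) e
      hez hex h12 h21
    exact ⟨⟨x, hAP i hxA⟩, n, hxA, hxZ, hn⟩
  choose xP n hxA hxZ hTor using key
  have hd : ∀ i j, i ≠ j → det2 (kap eV (xP i)) (kap eV (xP j)) ≠ 0 := by
    intro i j hij
    exact det2_ne_zero_of_ne P hH eV (hAP i) (hAcard i) (hAcard j) (hZA j) (hxA i) (hxA j)
      (hxZ i) (hxZ j) (hA.ne hij)
  exact bound13' hp (rho P eV).range (card_range_coprime P eV) t ht
    (⟨n 0, rfl⟩ : rho P eV (n 0) ∈ (rho P eV).range) (⟨n 1, rfl⟩ : rho P eV (n 1) ∈ (rho P eV).range)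
    (⟨n 2, rfl⟩ : rho P eV (n 2) ∈ (rho P eV).range) (hTor 0) (hTor 1) (hTor 2)
    (hd 0 1 (by decide)) (hd 2 1 (by decide)) (hd 0 2 (by decide))

end Cfsg.Agent.S3054
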