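import Cfsg.Statements.S3055
import Cfsg.Agent.Lib.Helper86.ExtraFusion3

set_option autoImplicit false
set_option linter.style.haveILetI false
set_option linter.unusedSectionVars false
open Cfsg

namespace Cfsg.Agent.S3055

open Matrix Cfsg.Agent.Lib.Helper86.Coord2 Cfsg.Agent.Lib.Helper86.Lin2 Cfsg.Agent.Lib.Helper86.GL2
  Cfsg.Agent.Lib.Helper86.Extra3 Cfsg.Agent.Lib.Helper86.XF

/-- Let p be an odd prime and G a finite group with a Sylow p-subgroup P that is extraspecial of order p³ and exponent p. If all nonidentity elements of P are conjugate in G, then p ≤ 7. -/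
theorem result {G : Type*} [Group G] [Finite G]
    {p : ℕ} [Fact p.Prime] (hp : p ≠ 2) (P : Sylow p G) (hE : Cfsg.IsExtraspecial p ↥P)
    (hcard : Nat.card P = p ^ 3) (hexp : Monoid.exponent ↥P = p)
    (hconj : ∀ x y : ↥P, x ≠ 1 → y ≠ 1 → ∃ g : G, g * (x : G) * g⁻¹ = (y : G)) :
    p ≤ 7 := by
  have hpp : p.Prime := Fact.out
  by_cases hp5 : 5 ≤ p
  swap
  · omega
  have hH : Hyp p ↥(P : Subgroup G) := hyp_of_extraspecial hE hcard hexp
  have hfr : frattini ↥(P : Subgroup G) = Subgroup.center ↥(P : Subgroup G) := hE.1.2.1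
  obtain ⟨eV⟩ := hH.exists_coords
  -- a primitive root
  obtain ⟨t, ht⟩ : ∃ t : (ZMod p)ˣ, orderOf t = p - 1 := by
    obtain ⟨g, hg⟩ := IsCyclic.exists_generator (α := (ZMod p)ˣ)
    refine ⟨g, ?_⟩
    rw [orderOf_eq_card_of_forall_mem_zpowers hg, Nat.card_eq_fintype_card, ZMod.card_units]
  apply bound7' hp (rho P eV).range (card_range_coprime P eV) t ht
  intro v hv
  obtain ⟨xP, hxP⟩ := kap_surjective eV v
  have hxZ : xP ∉ Subgroup.center ↥(P : Subgroup G) := by
    intro hmem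
    apply hv
    rw [← hxP]
    exact (kap_eq_zero_iff eV hH).mpr hmem
  obtain ⟨n, hn⟩ := tor_of_point P hH hfr eV t ht hp5 hconj xP hxZ
  exact ⟨rho P eV n, ⟨n, rfl⟩, hxP ▸ hn⟩

end Cfsg.Agent.S3055
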