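import Cfsg.Statements.S3057
import Cfsg.Agent.S3056
import Cfsg.Agent.S0016
import Cfsg.Agent.S0218
import Cfsg.Agent.Lib.Helper48.CoprimeGen
import Cfsg.Agent.Lib.Helper84.PCore

set_option autoImplicit false
open Cfsg
open scoped Pointwise

namespace Cfsg.Agent.S3057

open Cfsg.Agent.S3056 Cfsg.Agent.S0016

section basic
variable {G : Type*} [Group G] {p : ℕ}

theorem mem_smul_sylow (S : Sylow p G) (g x : G) :
    x ∈ ((g • S : Sylow p G) : Subgroup G) ↔ g⁻¹ * x * g ∈ (S : Subgroup G) := by
  rw [Sylow.coe_subgroup_smul, Subgroup.mem_pointwise_smul_iff_inv_smul_mem, ← map_inv,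
    MulAut.smul_def, MulAut.conj_apply, inv_inv]

/-- If `S` meets `g • S` nontrivially then `g` stabilizes the component of `S`. -/
theorem mem_compStab_of_mem [Finite G] [Fact p.Prime] (S : Sylow p G) (g x : G)
    (hx1 : x ≠ 1) (hxS : x ∈ (S : Subgroup G)) (hxg : g⁻¹ * x * g ∈ (S : Subgroup G)) :
    g ∈ compStab S := by
  rw [mem_compStab]
  apply conn_of_inf_ne_bot
  intro h
  apply hx1
  rw [← Subgroup.mem_bot, ← h]
  exact Subgroup.mem_inf.2 ⟨hxS, (mem_smul_sylow S g x).2 hxg⟩

theorem centralizer_le_compStab [Finite G] [Fact p.Prime] (S : Sylow p G) (x : G)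
    (hx1 : x ≠ 1) (hxS : x ∈ (S : Subgroup G)) :
    Subgroup.centralizer {x} ≤ compStab S := by
  intro g hg
  rw [Subgroup.mem_centralizer_singleton_iff] at hg
  apply mem_compStab_of_mem S g x hx1 hxS
  have : g⁻¹ * x * g = x := by rw [mul_assoc, ← hg, inv_mul_cancel_left]
  rw [this]; exact hxS

theorem normalizer_le_compStab [Finite G] [Fact p.Prime] (S : Sylow p G) (Q : Subgroup G)
    (hQS : Q ≤ (S : Subgroup G)) (hQ : Q ≠ ⊥) :
    Subgroup.normalizer (Q : Set G) ≤ compStab S := by
  intro g hg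
  obtain ⟨⟨x, hxQ⟩, hx1⟩ := (Subgroup.ne_bot_iff_exists_ne_one).1 hQ
  have hx1' : x ≠ 1 := fun h => hx1 (Subtype.ext h)
  have hg' : g⁻¹ ∈ Subgroup.normalizer (Q : Set G) := inv_mem hg
  rw [Subgroup.mem_normalizer_iff] at hg'
  have h2 : g⁻¹ * x * g⁻¹⁻¹ ∈ Q := (hg' x).1 hxQ
  rw [inv_inv] at h2
  exact mem_compStab_of_mem S g x hx1' (hQS hxQ) (hQS h2)


theorem conn_all_of_compStab_eq_top [Finite G] [Fact p.Prime] (S : Sylow p G)
    (h : compStab S = ⊤) : ∀ T₁ T₂ : Sylow p G, Conn p T₁ T₂ := by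
  intro T₁ T₂
  obtain ⟨g₁, rfl⟩ := MulAction.exists_smul_eq G S T₁
  obtain ⟨g₂, rfl⟩ := MulAction.exists_smul_eq G S T₂
  have h1 : Conn p S (g₁ • S) := mem_compStab.1 (h ▸ Subgroup.mem_top g₁)
  have h2 : Conn p S (g₂ • S) := mem_compStab.1 (h ▸ Subgroup.mem_top g₂)
  exact conn_trans (conn_symm h1) h2

/-- A "bad pair" in a Sylow subgroup: a noncyclic elementary abelian subgroup of order `p²`. -/
def HasPair (p : ℕ) (S : Subgroup G) : Prop :=
  ∃ a b : G, a ∈ S ∧ b ∈ S ∧ a ^ p = 1 ∧ b ^ p = 1 ∧ a * b = b * a ∧ b ≠ 1 ∧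
    a ∉ Subgroup.zpowers b

theorem exists_pair [Finite G] [hp : Fact p.Prime] (S : Sylow p G) (h1 : ¬ IsCyclic S)
    (h2 : ¬ (p = 2 ∧ ∃ n : ℕ, Nonempty (S ≃* QuaternionGroup (2 ^ n)))) :
    HasPair p (S : Subgroup G) := by
  have hS : IsPGroup p S := S.2
  have hnU : ¬ UniqP p S := by
    intro hU
    by_cases hp2 : p = 2
    · subst hp2
      rcases two_case hS hU with h | h
      · exact h1 h
      · exact h2 ⟨rfl, h⟩
    · exact h1 (odd_case hp2 _ S rfl hS hU)
  unfold UniqP at hnU
  simp only [not_forall] at hnU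
  obtain ⟨x, y, hx1, hxp, hyp, hy⟩ := hnU
  have hnt : Nontrivial S := ⟨⟨x, 1, hx1⟩⟩
  have hcnt : Subgroup.center S ≠ ⊥ := (Subgroup.nontrivial_iff_ne_bot _).1 hS.center_nontrivial
  obtain ⟨z, hzc, hz1, hzp⟩ := exists_order_p hS (Subgroup.center S) hcnt
  have hz1' : (z : G) ≠ 1 := fun h => hz1 (Subtype.ext h)
  have hzp' : (z : G) ^ p = 1 := by
    have := congrArg Subtype.val hzp; simpa using this
  have hnotmem : ∀ w : S, w ∉ Subgroup.zpowers z → (w : G) ∉ Subgroup.zpowers (z : G) := by
    intro w hw h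
    apply hw
    obtain ⟨k, hk⟩ := h
    exact ⟨k, Subtype.ext (by simpa using hk)⟩
  have hcomm : ∀ w : S, (w : G) * (z : G) = (z : G) * (w : G) := by
    intro w
    have := Subgroup.mem_center_iff.1 hzc w
    have := congrArg Subtype.val this
    simpa using this
  by_cases hxz : x ∈ Subgroup.zpowers z
  · have hy' : y ∉ Subgroup.zpowers z := by
      intro h
      apply hy
      have hle : Subgroup.zpowers x ≤ Subgroup.zpowers z := Subgroup.zpowers_le.2 hxz
      have hcx : Nat.card (Subgroup.zpowers x) = p := by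
        rw [Nat.card_zpowers]; exact orderOf_eq_prime hxp hx1
      have hcz : Nat.card (Subgroup.zpowers z) = p := by
        rw [Nat.card_zpowers]; exact orderOf_eq_prime hzp hz1
      have := Subgroup.eq_of_le_of_card_ge hle (by rw [hcx, hcz])
      rw [this]; exact h
    refine ⟨(y : G), (z : G), y.2, z.2, ?_, hzp', hcomm y, hz1', hnotmem y hy'⟩
    have := congrArg Subtype.val hyp; simpa using this
  · refine ⟨(x : G), (z : G), x.2, z.2, ?_, hzp', hcomm x, hz1', hnotmem x hxz⟩
    have := congrArg Subtype.val hxp; simpa using this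

theorem normal_pPrime_le_compStab {G : Type*} [Group G] {p : ℕ} [Finite G] [Fact p.Prime]
    (S : Sylow p G) (hpair : HasPair p (S : Subgroup G))
    (K : Subgroup G) [K.Normal] (hK : ¬ p ∣ Nat.card K) : K ≤ compStab S := by
  obtain ⟨a, b, haS, hbS, hap, hbp, hab, hb1, ha⟩ := hpair
  refine (Lib.Helper48.coprime_gen K a b hap hbp hab hK).trans ?_
  unfold Lib.Helper48.genSub
  apply iSup₂_le
  intro c hc
  refine inf_le_right.trans ?_
  have hcS : c ∈ (S : Subgroup G) := by
    rcases hc with rfl | ⟨n, rfl⟩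
    · exact hbS
    · exact mul_mem haS (pow_mem hbS n)
  have hc1 : c ≠ 1 := by
    rcases hc with rfl | ⟨n, rfl⟩
    · exact hb1
    · intro h
      apply ha
      have : a = (b ^ n)⁻¹ := eq_inv_of_mul_eq_one_left h
      rw [this]; exact inv_mem (Subgroup.pow_mem _ (Subgroup.mem_zpowers b) n)
  exact centralizer_le_compStab S c hc1 hcS

theorem layer {G : Type*} [Group G] {p : ℕ} [Finite G] [hp : Fact p.Prime]
    (hpair : ∀ S : Sylow p G, HasPair p (S : Subgroup G))
    (K L : Subgroup G) [K.Normal] [L.Normal] (hK : ¬ p ∣ Nat.card K) (m : ℕ)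
    (hrel : K.relIndex L = p ^ m) (hL : p ∣ Nat.card L) : ∃ S : Sylow p G, compStab S = ⊤ := by
  let P' : Sylow p L := default
  set Q' : Subgroup G := (P' : Subgroup L).map L.subtype with hQ'
  have hP'ne : (P' : Subgroup L) ≠ ⊥ := P'.ne_bot_of_dvd_card hL
  have hQ'ne : Q' ≠ ⊥ := by
    rw [hQ', Ne, Subgroup.map_eq_bot_iff_of_injective _ (Subgroup.subtype_injective L)]
    exact hP'ne
  have hQ'p : IsPGroup p Q' := P'.2.map L.subtype
  obtain ⟨S₁, hS₁⟩ := hQ'p.exists_le_sylow
  refine ⟨S₁, ?_⟩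
  have hfr : Subgroup.normalizer (Q' : Set G) ⊔ L = ⊤ := Sylow.normalizer_sup_eq_top P'
  have h1 : Subgroup.normalizer (Q' : Set G) ≤ compStab S₁ :=
    normalizer_le_compStab S₁ Q' hS₁ hQ'ne
  have h2 : K ≤ compStab S₁ := normal_pPrime_le_compStab S₁ (hpair S₁) K hK
  have h3 : Q' ≤ compStab S₁ := hS₁.trans (le_compStab S₁)
  have h4 : L ≤ K ⊔ Q' := by
    rw [← Subgroup.relIndex_eq_one]
    have d1 : (K ⊔ Q').relIndex L ∣ p ^ m := by
      rw [← hrel]; exact Subgroup.relIndex_dvd_of_le_left L le_sup_left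
    have d2 : (K ⊔ Q').relIndex L ∣ Q'.relIndex L :=
      Subgroup.relIndex_dvd_of_le_left L le_sup_right
    have e : Q'.relIndex L = (P' : Subgroup L).index := by
      rw [Subgroup.relIndex, hQ', Subgroup.subgroupOf,
        Subgroup.comap_map_eq_self_of_injective (Subgroup.subtype_injective L)]
    rw [e] at d2
    obtain ⟨j, -, hj⟩ := (Nat.dvd_prime_pow hp.out).1 d1
    rcases Nat.eq_zero_or_pos j with h0 | hpos
    · rw [hj, h0, pow_zero]
    · exfalso
      apply P'.not_dvd_index
      refine dvd_trans ?_ d2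
      rw [hj]; exact dvd_pow_self p hpos.ne'
  rw [eq_top_iff, ← hfr]
  exact sup_le h1 (h4.trans (sup_le h2 h3))

end basic

section converse

theorem uniqP_of_isCyclic {H : Type*} [Group H] [Finite H] [IsCyclic H] (p : ℕ)
    [hp : Fact p.Prime] : UniqP p H := by
  classical
  intro x y hx1 hxp hyp
  have := Fintype.ofFinite H
  have hle := IsCyclic.card_pow_eq_one_le (α := H) (n := p) hp.out.pos
  have hF : Nat.card {t : H // t ^ p = 1} ≤ p := by
    rw [Nat.card_eq_fintype_card, Fintype.card_subtype]; exact hle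
  let ι : Subgroup.zpowers x → {t : H // t ^ p = 1} := fun w => ⟨w.1, by
    obtain ⟨k, hk⟩ := w.2
    rw [← hk]
    show (x ^ k) ^ p = 1
    rw [← zpow_natCast, ← zpow_mul, mul_comm, zpow_mul, zpow_natCast, hxp, one_zpow]⟩
  have hinj : Function.Injective ι := by
    intro w₁ w₂ h
    apply Subtype.ext
    have : (ι w₁).1 = (ι w₂).1 := congrArg Subtype.val h
    exact this
  have hcx : Nat.card (Subgroup.zpowers x) = p := by
    rw [Nat.card_zpowers]; exact orderOf_eq_prime hxp hx1
  have hbij := hinj.bijective_of_nat_card_le (by rw [hcx]; exact hF)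
  obtain ⟨w, hw⟩ := hbij.2 ⟨y, hyp⟩
  have : (w : H) = y := congrArg Subtype.val hw
  rw [← this]; exact w.2

theorem uniqP_quaternion (n : ℕ) : UniqP 2 (QuaternionGroup (2 ^ n)) := by
  have : NeZero (2 ^ n) := ⟨by positivity⟩
  intro x y hx1 hx2 hy2
  have hx : orderOf x = 2 := orderOf_eq_prime hx2 hx1
  rw [Cfsg.Agent.S0218.orderOf_eq_two_iff] at hx
  by_cases hy1 : y = 1
  · rw [hy1]; exact one_mem _
  · have hy : orderOf y = 2 := orderOf_eq_prime hy2 hy1
    rw [Cfsg.Agent.S0218.orderOf_eq_two_iff] at hy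
    rw [hy, ← hx]; exact Subgroup.mem_zpowers x

theorem UniqP.of_mulEquiv {P Q : Type*} [Group P] [Group Q] {p : ℕ} (h : UniqP p Q)
    (e : P ≃* Q) : UniqP p P := by
  intro x y hx1 hxp hyp
  have h1 : e x ≠ 1 := fun h' => hx1 ((MulEquiv.map_eq_one_iff e).1 h')
  have h2 : (e x) ^ p = 1 := by rw [← map_pow, hxp, map_one]
  have h3 : (e y) ^ p = 1 := by rw [← map_pow, hyp, map_one]
  obtain ⟨k, hk⟩ := h (e x) (e y) h1 h2 h3
  refine ⟨k, ?_⟩
  apply e.injective
  show e (x ^ k) = e y
  rw [map_zpow]; exact hk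

variable {G : Type*} [Group G] {p : ℕ}

theorem not_conn_of_uniqP [Finite G] [hp : Fact p.Prime] (hdiv : p ∣ Nat.card G)
    (P : Sylow p G) (hU : UniqP p P) (hO : Cfsg.pCore p G = ⊥) :
    ¬ ∀ S T : Sylow p G, Conn p S T := by
  intro hconn
  have hUS : ∀ S : Sylow p G, UniqP p S := fun S => UniqP.of_mulEquiv hU (Sylow.equiv S P)
  obtain ⟨z, hz⟩ := exists_prime_orderOf_dvd_card' (G := P) p (P.dvd_card_of_dvd_card hdiv)
  have hz1 : (z : G) ≠ 1 := by
    intro h
    have : z = 1 := Subtype.ext h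
    rw [this, orderOf_one] at hz
    exact hp.out.one_lt.ne hz
  have hzp : (z : G) ^ p = 1 := by
    have := pow_orderOf_eq_one z
    rw [hz] at this
    have := congrArg Subtype.val this
    simpa using this
  have key : ∀ T : Sylow p G, Conn p P T → (z : G) ∈ (T : Subgroup G) := by
    intro T hT
    induction hT with
    | refl => exact z.2
    | @tail S T _ hadj ih =>
      have hne : (S : Subgroup G) ⊓ (T : Subgroup G) ≠ ⊥ := hadj.2
      have hpg : IsPGroup p ((S : Subgroup G) ⊓ (T : Subgroup G) : Subgroup G) :=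
        S.2.to_le inf_le_left
      have hnt : Nontrivial ((S : Subgroup G) ⊓ (T : Subgroup G) : Subgroup G) :=
        (Subgroup.nontrivial_iff_ne_bot _).2 hne
      obtain ⟨m, hm0, hm⟩ := hpg.nontrivial_iff_card.1 hnt
      have hdvd : p ∣ Nat.card ((S : Subgroup G) ⊓ (T : Subgroup G) : Subgroup G) := by
        rw [hm]; exact dvd_pow_self p hm0.ne'
      obtain ⟨w, hw⟩ := exists_prime_orderOf_dvd_card' p hdvd
      have hwS : (w : G) ∈ (S : Subgroup G) := (Subgroup.mem_inf.1 w.2).1
      have hwT : (w : G) ∈ (T : Subgroup G) := (Subgroup.mem_inf.1 w.2).2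
      have hwo : orderOf (w : G) = p := by rw [Subgroup.orderOf_coe]; exact hw
      have hw1 : (w : G) ≠ 1 := by
        intro h
        rw [h, orderOf_one] at hwo
        exact hp.out.one_lt.ne hwo
      have hwp : (w : G) ^ p = 1 := by
        have := pow_orderOf_eq_one (w : G)
        rwa [hwo] at this
      have := hUS S ⟨(w : G), hwS⟩ ⟨(z : G), ih⟩ (fun h => hw1 (congrArg Subtype.val h))
        (Subtype.ext (by simpa using hwp)) (Subtype.ext (by simpa using hzp))
      obtain ⟨k, hk⟩ := this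
      have hk' : (w : G) ^ k = (z : G) := by
        have := congrArg Subtype.val hk
        simpa using this
      rw [← hk']
      exact Subgroup.zpow_mem _ hwT k
  have hzcore : (z : G) ∈ Subgroup.normalCore (P : Subgroup G) := by
    intro b
    have := key (b⁻¹ • P) (hconn P _)
    rw [mem_smul_sylow, inv_inv] at this
    exact this
  have hle : Subgroup.normalCore (P : Subgroup G) ≤ Cfsg.pCore p G :=
    Cfsg.Agent.Lib.Helper84.le_pCore (Subgroup.normalCore_normal _)
      (P.2.to_le (Subgroup.normalCore_le _))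
  rw [hO] at hle
  exact hz1 (Subgroup.mem_bot.1 (hle hzcore))

end converse

theorem relIndex_mul_card_of_le' {G : Type*} [Group G] {H K : Subgroup G} (hHK : H ≤ K) :
    H.relIndex K * Nat.card H = Nat.card K := by
  rw [Subgroup.relIndex, ← Nat.card_congr (Subgroup.subgroupOfEquivOfLe hHK).toEquiv]
  exact Subgroup.index_mul_card _

/-- Let p be a prime and G a finite p-solvable group of order divisible by p, with Sylow p-subgroup P. Then the Sylow p-subgroups of G fail to be chain-connected through nontrivial intersections (equivalently, G has a strongly p-embedded subgroup) if and only if O_p(G) = 1 and P is cyclic or, for p = 2, generalized quaternion. -/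
theorem result {G : Type*} [Group G] [Finite G]
    (p : ℕ) [Fact p.Prime] (hdiv : p ∣ Nat.card G) (hsol : Cfsg.IsPSolvable p G) (P : Sylow p G) :
    ¬ Cfsg.IsSylowChainConnected p G ↔
      Cfsg.pCore p G = ⊥ ∧ (IsCyclic ↥P ∨ (p = 2 ∧ ∃ n : ℕ, Nonempty (↥P ≃* QuaternionGroup (2 ^ n)))) := by
  have hp : p.Prime := Fact.out
  rw [connected_iff]
  constructor
  · intro hnc
    refine ⟨?_, ?_⟩
    · by_contra hO
      apply hnc
      apply conn_all_of_compStab_eq_top P
      rw [eq_top_iff]
      intro g _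
      obtain ⟨⟨x, hx⟩, hx1⟩ := (Subgroup.ne_bot_iff_exists_ne_one).1 hO
      have hx1' : x ≠ 1 := fun h => hx1 (Subtype.ext h)
      have hn : (Cfsg.pCore p G).Normal := Cfsg.Agent.Lib.Helper84.pCore_normal p G
      have hle := Cfsg.Agent.Lib.Helper84.pCore_le_sylow P
      apply mem_compStab_of_mem P g x hx1' (hle hx)
      have := hn.conj_mem x hx g⁻¹
      rw [inv_inv] at this
      exact hle this
    · by_contra hcq
      rw [not_or] at hcq
      obtain ⟨hnc1, hnq⟩ := hcq
      have hpair : ∀ S : Sylow p G, HasPair p (S : Subgroup G) := by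
        intro S
        apply exists_pair S
        · intro h
          apply hnc1
          exact isCyclic_of_surjective (Sylow.equiv S P) (Sylow.equiv S P).surjective
        · rintro ⟨h2, n, ⟨e⟩⟩
          exact hnq ⟨h2, n, ⟨(Sylow.equiv P S).trans e⟩⟩
      obtain ⟨n, Hs, h0, hlast, hmono, hnorm, hfac⟩ := hsol
      have claim : ∀ i : Fin (n + 1),
          ¬ p ∣ Nat.card (Hs i) ∨ ∃ S : Sylow p G, compStab S = ⊤ := by
        intro i
        induction i using Fin.induction with
        | zero => left; rw [h0, Subgroup.card_bot]; exact hp.not_dvd_one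
        | succ i ih =>
          rcases ih with h | h
          swap
          · exact Or.inr h
          rcases hfac i with ⟨m, hm⟩ | hcop
          · by_cases hL : p ∣ Nat.card (Hs i.succ)
            · right
              have := hnorm i.castSucc
              have := hnorm i.succ
              exact layer hpair (Hs i.castSucc) (Hs i.succ) h m hm hL
            · exact Or.inl hL
          · left
            have hle : Hs i.castSucc ≤ Hs i.succ := hmono (Fin.castSucc_le_succ i)
            have := relIndex_mul_card_of_le' hle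
            rw [← this]
            intro hd
            rcases hp.dvd_mul.1 hd with h' | h'
            · exact (Nat.Prime.coprime_iff_not_dvd hp).1 hcop.symm h'
            · exact h h'
      rcases claim (Fin.last n) with h | ⟨S, hS⟩
      · apply h; rw [hlast, Subgroup.card_top]; exact hdiv
      · exact hnc (conn_all_of_compStab_eq_top S hS)
  · rintro ⟨hO, hcq⟩
    apply not_conn_of_uniqP hdiv P ?_ hO
    rcases hcq with h | ⟨h2, n, ⟨e⟩⟩
    · have := h; exact uniqP_of_isCyclic p
    · subst h2; exact UniqP.of_mulEquiv (uniqP_quaternion n) e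

end Cfsg.Agent.S3057
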