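import Cfsg.Statements.S3060
import Cfsg.Agent.S3062
import Cfsg.Agent.Lib.Helper84.PCore
import Cfsg.Agent.Lib.Helper33.Conj

set_option autoImplicit false
open Cfsg
open scoped commutatorElement

namespace Cfsg.Agent.S3060

open Cfsg.Agent.Lib.Helper33 Cfsg.Agent.Lib.Helper84

variable {G : Type*} [Group G]

/-- A quadratic element on a normal `p`-subgroup containing its centralizer lies in `O_p`. -/
theorem mem_pCore_of_pStable [Finite G] {p : ℕ} [Fact p.Prime] (P : Subgroup G) [P.Normal]
    (hst : IsPStableOn p P) (hCP : IsPGroup p (Subgroup.centralizer (P : Set G))) (a : G)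
    (hq : ⁅⁅P, Subgroup.zpowers a⁆, Subgroup.zpowers a⁆ = ⊥) : a ∈ pCore p G := by
  set C := Subgroup.centralizer (P : Set G) with hC
  set T := (pCore p (G ⧸ C)).comap (QuotientGroup.mk' C) with hT
  have hTn : T.Normal := (pCore_normal p (G ⧸ C)).comap _
  have hTp : IsPGroup p T := by
    apply (pCore_isPGroup p (G ⧸ C)).comap_of_ker_isPGroup
    rw [QuotientGroup.ker_mk']
    exact hCP
  have haT : a ∈ T := hst a hq
  exact le_pCore hTn hTp haT

/-- An element whose image lies in `O_p(G / C_G(P))` acts on `P` as some element of any given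
Sylow `p`-subgroup. -/
theorem exists_mem_sylow_same_action [Finite G] {p : ℕ} [Fact p.Prime] (P : Subgroup G) [P.Normal]
    (x : G) (hx : (QuotientGroup.mk x : G ⧸ Subgroup.centralizer (P : Set G)) ∈
      pCore p (G ⧸ Subgroup.centralizer (P : Set G))) (S' : Sylow p G) :
    ∃ y ∈ (S' : Subgroup G), y⁻¹ * x ∈ Subgroup.centralizer (P : Set G) := by
  set C := Subgroup.centralizer (P : Set G) with hC
  have hsurj : Function.Surjective (QuotientGroup.mk' C) := QuotientGroup.mk'_surjective C
  have h1 := pCore_le_sylow (S'.mapSurjective hsurj)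
  have h2 := h1 hx
  rw [Sylow.coe_mapSurjective] at h2
  obtain ⟨y, hy, hyx⟩ := h2
  refine ⟨y, hy, ?_⟩
  exact (QuotientGroup.eq).1 hyx


theorem conj_comm_of_comm {a b g : G} (h : (g⁻¹ * a * g) * (g⁻¹ * b * g) = (g⁻¹ * b * g) * (g⁻¹ * a * g)) :
    a * b = b * a := by
  have h1 : g * ((g⁻¹ * a * g) * (g⁻¹ * b * g)) * g⁻¹ = a * b := by group
  have h2 : g * ((g⁻¹ * b * g) * (g⁻¹ * a * g)) * g⁻¹ = b * a := by group
  rw [← h1, ← h2, h]

theorem le_normalizer_of_conj_mem' {T D : Subgroup G}
    (h : ∀ g ∈ T, ∀ d ∈ D, g * d * g⁻¹ ∈ D) : T ≤ Subgroup.normalizer (D : Set G) := by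
  intro g hg
  rw [Subgroup.mem_normalizer_iff]
  intro d
  constructor
  · exact h g hg d
  · intro hd
    have := h g⁻¹ (T.inv_mem hg) _ hd
    have h2 : g⁻¹ * (g * d * g⁻¹) * g⁻¹⁻¹ = d := by group
    rwa [h2] at this

/-- The D*-Theorem. -/
theorem dStar_normal_of_pStable [Finite G] {p : ℕ} [Fact p.Prime]
    (hc : Subgroup.centralizer (Cfsg.pCore p G : Set G) ≤ Cfsg.pCore p G)
    (hst : ∀ (P : Subgroup G) [P.Normal], IsPGroup p P → Cfsg.IsPStableOn p P) (S : Sylow p G) :
    (Cfsg.dStarOf (S : Subgroup G)).Normal := by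
  classical
  set Q := pCore p G with hQ
  have hQn : Q.Normal := pCore_normal p G
  have hQp : IsPGroup p Q := pCore_isPGroup p G
  have hQS : Q ≤ S := pCore_le_sylow S
  have hSp : IsPGroup p ↥(S : Subgroup G) := S.2
  have hnil : Group.IsNilpotent ↥(S : Subgroup G) := hSp.isNilpotent
  set dS := dStar ↥(S : Subgroup G) with hdS
  have hfam : dS ∈ dStarFamily ↥(S : Subgroup G) := Cfsg.Agent.S3061.result hSp
  have hdSn : dS.Normal := Cfsg.Agent.S3062.dStar_normal
  set D := dStarOf (S : Subgroup G) with hD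
  have hDmem : ∀ d, d ∈ D ↔ ∃ h : d ∈ (S : Subgroup G), (⟨d, h⟩ : ↥(S : Subgroup G)) ∈ dS := by
    intro d
    constructor
    · rintro ⟨d', hd', rfl⟩
      exact ⟨d'.2, hd'⟩
    · rintro ⟨h, hd⟩
      exact ⟨⟨d, h⟩, hd, rfl⟩
  have hDS : D ≤ S := fun d hd => ((hDmem d).1 hd).1
  have hdSc : ∀ a ∈ dS, ∀ b ∈ dS, a * b = b * a := by
    intro a ha b hb
    have := hfam.1.is_comm.comm (⟨a, ha⟩ : dS) ⟨b, hb⟩
    exact congrArg Subtype.val this
  have hDc : ∀ a ∈ D, ∀ b ∈ D, a * b = b * a := by
    intro a ha b hb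
    obtain ⟨haS, ha'⟩ := (hDmem a).1 ha
    obtain ⟨hbS, hb'⟩ := (hDmem b).1 hb
    exact congrArg Subtype.val (hdSc _ ha' _ hb')
  have hDnS : ∀ s ∈ (S : Subgroup G), ∀ d ∈ D, s * d * s⁻¹ ∈ D := by
    intro s hs d hd
    obtain ⟨hdS', hd'⟩ := (hDmem d).1 hd
    rw [hDmem]
    refine ⟨Subgroup.mul_mem _ (Subgroup.mul_mem _ hs hdS') (Subgroup.inv_mem _ hs), ?_⟩
    exact hdSn.conj_mem _ hd' ⟨s, hs⟩
  -- step 1
  have hDQ : D ≤ Q := by
    intro d hd
    apply mem_pCore_of_pStable Q (hst Q hQp) (hQp.to_le hc) d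
    have h1 : ⁅Q, Subgroup.zpowers d⁆ ≤ D := by
      rw [Subgroup.commutator_le]
      intro q hq z hz
      have hzD : z ∈ D := (Subgroup.zpowers_le.2 hd) hz
      rw [commutatorElement_def]
      exact D.mul_mem (hDnS q (hQS hq) z hzD) (D.inv_mem hzD)
    have h2 : Subgroup.zpowers d ≤ D := Subgroup.zpowers_le.2 hd
    rw [eq_bot_iff]
    calc ⁅⁅Q, Subgroup.zpowers d⁆, Subgroup.zpowers d⁆ ≤ ⁅D, D⁆ := Subgroup.commutator_mono h1 h2
      _ = ⊥ := by
        rw [Subgroup.commutator_eq_bot_iff_le_centralizer]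
        intro a ha
        rw [Subgroup.mem_centralizer_iff]
        intro b hb
        exact hDc b hb a ha
  -- step 2: conjugates of D commute with D
  have hcjQ : ∀ g : G, cj g D ≤ Q := by
    intro g x hx
    rw [mem_cj] at hx
    have h1 := hQn.conj_mem _ (hDQ hx) g
    have h2 : g * (g⁻¹ * x * g) * g⁻¹ = x := by group
    rwa [h2] at h1
  have hstep2 : ∀ g : G, ∀ d ∈ D, ∀ e ∈ cj g D, d * e = e * d := by
    intro g
    set B' := (cj g D).subgroupOf (S : Subgroup G) with hB'
    have hB'c : IsMulCommutative B' := by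
      refine ⟨⟨fun a b => ?_⟩⟩
      apply Subtype.ext
      apply Subtype.ext
      have ha : ((a : ↥(S : Subgroup G)) : G) ∈ cj g D := Subgroup.mem_subgroupOf.1 a.2
      have hb : ((b : ↥(S : Subgroup G)) : G) ∈ cj g D := Subgroup.mem_subgroupOf.1 b.2
      rw [mem_cj] at ha hb
      exact conj_comm_of_comm (hDc _ ha _ hb)
    have hAB : dS ≤ Subgroup.normalizer (B' : Set ↥(S : Subgroup G)) := by
      apply le_normalizer_of_conj_mem'
      intro a ha b hb
      rw [hB', Subgroup.mem_subgroupOf] at hb ⊢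
      have haD : ((a : ↥(S : Subgroup G)) : G) ∈ D := (hDmem _).2 ⟨a.2, ha⟩
      -- a ∈ Q ≤ cj g S
      have haQ : ((a : ↥(S : Subgroup G)) : G) ∈ Q := hDQ haD
      have h1 : g⁻¹ * ((a : ↥(S : Subgroup G)) : G) * g ∈ (S : Subgroup G) := by
        have := hQn.conj_mem _ haQ g⁻¹
        rw [inv_inv] at this
        exact hQS this
      rw [mem_cj] at hb ⊢
      have h2 := hDnS _ h1 _ hb
      have h3 : g⁻¹ * (((a * b * a⁻¹ : ↥(S : Subgroup G)) : G)) * g =
          (g⁻¹ * ((a : ↥(S : Subgroup G)) : G) * g) * (g⁻¹ * ((b : ↥(S : Subgroup G)) : G) * g) *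
            (g⁻¹ * ((a : ↥(S : Subgroup G)) : G) * g)⁻¹ := by
        simp only [Subgroup.coe_mul, Subgroup.coe_inv]
        group
      rw [h3]
      exact h2
    have hcen := Cfsg.Agent.S3062.centralizes_of_normalizes dS B' hfam hB'c hAB
    intro d hd e he
    obtain ⟨hdS', hd'⟩ := (hDmem d).1 hd
    have heS : e ∈ (S : Subgroup G) := hQS (hcjQ g he)
    have he' : (⟨e, heS⟩ : ↥(S : Subgroup G)) ∈ B' := Subgroup.mem_subgroupOf.2 he
    have := (Subgroup.mem_centralizer_iff.1 (hcen hd')) _ he'
    exact (congrArg Subtype.val this).symm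
  have hpair : ∀ g h : G, ∀ a ∈ cj g D, ∀ b ∈ cj h D, a * b = b * a := by
    intro g h a ha b hb
    rw [mem_cj] at ha
    have hb' : g⁻¹ * b * g ∈ cj (g⁻¹ * h) D := by
      rw [mem_cj] at hb ⊢
      have : (g⁻¹ * h)⁻¹ * (g⁻¹ * b * g) * (g⁻¹ * h) = h⁻¹ * b * h := by group
      rw [this]; exact hb
    exact conj_comm_of_comm (hstep2 _ _ ha _ hb')
  -- the normal closure
  set V := ⨆ g : G, cj g D with hV
  have hDV : D ≤ V := by
    have h1 : cj 1 D = D := cj_eq_self_of_mem D.one_mem
    calc D = cj 1 D := h1.symm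
      _ ≤ V := le_iSup (fun g => cj g D) 1
  have hVQ : V ≤ Q := iSup_le hcjQ
  have hVS : V ≤ S := hVQ.trans hQS
  have hVc : ∀ a ∈ V, ∀ b ∈ V, a * b = b * a := by
    have h1 : V ≤ Subgroup.centralizer (V : Set G) := by
      apply iSup_le
      intro g
      rw [Subgroup.le_centralizer_iff]
      apply iSup_le
      intro h a ha
      rw [Subgroup.mem_centralizer_iff]
      intro b hb
      exact hpair g h b hb a ha
    intro a ha b hb
    exact ((Subgroup.mem_centralizer_iff.1 (h1 ha)) b hb).symm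
  have hVn : V.Normal := by
    constructor
    intro v hv g
    have h1 : cj g V ≤ V := by
      rw [hV, cj_def, Subgroup.map_iSup]
      apply iSup_le
      intro h
      have : Subgroup.map (MulAut.conj g).toMonoidHom (cj h D) = cj (g * h) D := by
        rw [cj_mul]; rfl
      rw [this]
      exact le_iSup (fun g => cj g D) (g * h)
    exact h1 (conj_mem_cj hv)
  have hVp : IsPGroup p V := hQp.to_le hVQ
  -- step 3: V is a member of the family
  set V' := V.subgroupOf (S : Subgroup G) with hV'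
  have hV'fam : V' ∈ dStarFamily ↥(S : Subgroup G) := by
    refine ⟨?_, ?_⟩
    · refine ⟨⟨fun a b => ?_⟩⟩
      apply Subtype.ext
      apply Subtype.ext
      exact hVc _ (Subgroup.mem_subgroupOf.1 a.2) _ (Subgroup.mem_subgroupOf.1 b.2)
    · intro x hx
      set H := V' ⊔ Subgroup.zpowers x with hH
      -- x is quadratic on V
      have hxq : ∀ v ∈ V, (x : G) * ⁅v, (x : G)⁆ = ⁅v, (x : G)⁆ * (x : G) := by
        intro v hv
        have hvH : (⟨v, hVS hv⟩ : ↥(S : Subgroup G)) ∈ H :=
          (le_sup_left : V' ≤ H) (Subgroup.mem_subgroupOf.2 hv)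
        have hxH : x ∈ H := (le_sup_right : Subgroup.zpowers x ≤ H) (Subgroup.mem_zpowers x)
        have h1 : ⁅⁅(⟨v, hVS hv⟩ : ↥(S : Subgroup G)), x⁆, x⁆ ∈ ⁅⁅H, H⁆, H⁆ :=
          Subgroup.commutator_mem_commutator (Subgroup.commutator_mem_commutator hvH hxH) hxH
        rw [hx, Subgroup.mem_bot] at h1
        have h2 := congrArg Subtype.val h1
        simp only [commutatorElement_def, Subgroup.coe_mul, Subgroup.coe_inv, Subgroup.coe_one] at h2
        rw [commutatorElement_def]
        set w := v * (x : G) * v⁻¹ * (x : G)⁻¹ with hw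
        calc (x : G) * w = (w * (x : G) * w⁻¹ * (x : G)⁻¹)⁻¹ * (w * (x : G)) := by group
          _ = w * (x : G) := by rw [h2, inv_one, one_mul]
      have hquad : ⁅⁅V, Subgroup.zpowers (x : G)⁆, Subgroup.zpowers (x : G)⁆ = ⊥ := by
        rw [Subgroup.commutator_eq_bot_iff_le_centralizer, Subgroup.commutator_le]
        have hpow : ∀ k : ℕ, ∀ v ∈ V,
            (x : G) * ⁅v, (x : G) ^ k⁆ = ⁅v, (x : G) ^ k⁆ * (x : G) := by
          intro k
          induction k with
          | zero =>
            intro v _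
            simp [commutatorElement_def]
          | succ k ih =>
            intro v hv
            have h1 : ⁅v, (x : G) ^ (k + 1)⁆ =
                ⁅v, (x : G)⁆ * ((x : G) * ⁅v, (x : G) ^ k⁆ * (x : G)⁻¹) := by
              rw [pow_succ']
              simp only [commutatorElement_def]
              group
            have h2 : (x : G) * ⁅v, (x : G) ^ k⁆ * (x : G)⁻¹ = ⁅v, (x : G) ^ k⁆ := by
              rw [ih v hv]; group
            rw [h1, h2]
            calc (x : G) * (⁅v, (x : G)⁆ * ⁅v, (x : G) ^ k⁆)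
                = ((x : G) * ⁅v, (x : G)⁆) * ⁅v, (x : G) ^ k⁆ := by group
              _ = (⁅v, (x : G)⁆ * (x : G)) * ⁅v, (x : G) ^ k⁆ := by rw [hxq v hv]
              _ = ⁅v, (x : G)⁆ * ((x : G) * ⁅v, (x : G) ^ k⁆) := by group
              _ = ⁅v, (x : G)⁆ * (⁅v, (x : G) ^ k⁆ * (x : G)) := by rw [ih v hv]
              _ = ⁅v, (x : G)⁆ * ⁅v, (x : G) ^ k⁆ * (x : G) := by group
        intro v hv z hz
        rw [← mem_powers_iff_mem_zpowers] at hz
        obtain ⟨k, rfl⟩ := hz
        rw [Subgroup.mem_centralizer_iff]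
        intro z' hz'
        rw [SetLike.mem_coe, ← mem_powers_iff_mem_zpowers] at hz'
        obtain ⟨j, rfl⟩ := hz'
        have hcomm : Commute (x : G) ⁅v, (x : G) ^ k⁆ := hpow k v hv
        exact (hcomm.pow_left j)
      have hmk := hst V hVp (x : G) hquad
      -- x centralizes every conjugate of D
      have hxc : ∀ g : G, ∀ e ∈ cj g D, (x : G) * e = e * (x : G) := by
        intro g e he
        have hcoe : ((g • S : Sylow p G) : Subgroup G) = cj g (S : Subgroup G) := sylow_coe_smul g S
        obtain ⟨y, hy, hyx⟩ := exists_mem_sylow_same_action V (x : G) hmk (g • S)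
        rw [hcoe, mem_cj] at hy
        -- y and x act in the same way on V
        have hact : ∀ v ∈ V, (x : G) * v * (x : G)⁻¹ = y * v * y⁻¹ := by
          intro v hv
          have h1 := (Subgroup.mem_centralizer_iff.1 hyx) v hv
          calc (x : G) * v * (x : G)⁻¹ = y * ((y⁻¹ * (x : G)) * v) * (y⁻¹ * (x : G))⁻¹ * y⁻¹ := by group
            _ = y * (v * (y⁻¹ * (x : G))) * (y⁻¹ * (x : G))⁻¹ * y⁻¹ := by rw [h1]
            _ = y * v * y⁻¹ := by group
        have hcommxy : ∀ v ∈ V, ⁅v, (x : G)⁆ = ⁅v, y⁆ := by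
          intro v hv
          have h1 := hact v hv
          rw [commutatorElement_def, commutatorElement_def]
          calc v * (x : G) * v⁻¹ * (x : G)⁻¹ = v * ((x : G) * v * (x : G)⁻¹)⁻¹ := by group
            _ = v * (y * v * y⁻¹)⁻¹ := by rw [h1]
            _ = v * y * v⁻¹ * y⁻¹ := by group
        have hcommV : ∀ v ∈ V, ∀ t : G, ⁅v, t⁆ ∈ V := by
          intro v hv t
          rw [commutatorElement_def]
          have := hVn.conj_mem _ (V.inv_mem hv) t
          have h2 : v * t * v⁻¹ * t⁻¹ = v * (t * v⁻¹ * t⁻¹) := by group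
          rw [h2]
          exact V.mul_mem hv this
        have hyq : ∀ v ∈ V, y * ⁅v, y⁆ = ⁅v, y⁆ * y := by
          intro v hv
          have hw : ⁅v, y⁆ ∈ V := hcommV v hv y
          have h1 := hact _ hw
          have h2 := hxq v hv
          rw [hcommxy v hv] at h2
          have h3 : (x : G) * ⁅v, y⁆ * (x : G)⁻¹ = ⁅v, y⁆ := by rw [h2]; group
          rw [h3] at h1
          calc y * ⁅v, y⁆ = (y * ⁅v, y⁆ * y⁻¹) * y := by group
            _ = ⁅v, y⁆ * y := by rw [← h1]
        -- transport to y₀ = g⁻¹ y g ∈ S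
        set y₀ : ↥(S : Subgroup G) := ⟨g⁻¹ * y * g, hy⟩ with hy₀
        have hcls : ⁅⁅dS ⊔ Subgroup.zpowers y₀, dS ⊔ Subgroup.zpowers y₀⁆,
            dS ⊔ Subgroup.zpowers y₀⁆ = ⊥ := by
          apply Cfsg.Agent.S3062.class_two_gen dS hfam.1 y₀
          intro c hc'
          have hcD : ((c : ↥(S : Subgroup G)) : G) ∈ D := (hDmem _).2 ⟨c.2, hc'⟩
          have hcV : ((c : ↥(S : Subgroup G)) : G) ∈ V := hDV hcD
          -- the commutator in G
          have hval : ((⁅c, y₀⁆ : ↥(S : Subgroup G)) : G) =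
              g⁻¹ * ⁅g * ((c : ↥(S : Subgroup G)) : G) * g⁻¹, y⁆ * g := by
            simp only [commutatorElement_def, Subgroup.coe_mul, Subgroup.coe_inv, hy₀]
            group
          have hgc : g * ((c : ↥(S : Subgroup G)) : G) * g⁻¹ ∈ V := hVn.conj_mem _ hcV g
          have hwV : ((⁅c, y₀⁆ : ↥(S : Subgroup G)) : G) ∈ V := by
            rw [hval]
            have := hVn.conj_mem _ (hcommV _ hgc y) g⁻¹
            rwa [inv_inv] at this
          -- commutes with dS and with y₀
          have h1 : dS ⊔ Subgroup.zpowers y₀ ≤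
              Subgroup.centralizer ({⁅c, y₀⁆} : Set ↥(S : Subgroup G)) := by
            apply sup_le
            · intro a ha
              rw [Subgroup.mem_centralizer_iff]
              intro w hw
              rw [Set.mem_singleton_iff] at hw
              rw [hw]
              apply Subtype.ext
              have haV : ((a : ↥(S : Subgroup G)) : G) ∈ V := hDV ((hDmem _).2 ⟨a.2, ha⟩)
              exact hVc _ hwV _ haV
            · rw [Subgroup.zpowers_le, Subgroup.mem_centralizer_iff]
              intro w hw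
              rw [Set.mem_singleton_iff] at hw
              rw [hw]
              apply Subtype.ext
              rw [Subgroup.coe_mul, Subgroup.coe_mul, hval]
              have h2 := hyq _ hgc
              have h3 : g⁻¹ * y * g * (g⁻¹ * ⁅g * ((c : ↥(S : Subgroup G)) : G) * g⁻¹, y⁆ * g) =
                  g⁻¹ * (y * ⁅g * ((c : ↥(S : Subgroup G)) : G) * g⁻¹, y⁆) * g := by group
              have h4 : g⁻¹ * ⁅g * ((c : ↥(S : Subgroup G)) : G) * g⁻¹, y⁆ * g * (g⁻¹ * y * g) =
                  g⁻¹ * (⁅g * ((c : ↥(S : Subgroup G)) : G) * g⁻¹, y⁆ * y) * g := by group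
              show g⁻¹ * ⁅g * ((c : ↥(S : Subgroup G)) : G) * g⁻¹, y⁆ * g * (g⁻¹ * y * g) =
                g⁻¹ * y * g * (g⁻¹ * ⁅g * ((c : ↥(S : Subgroup G)) : G) * g⁻¹, y⁆ * g)
              rw [h3, h4, h2]
          rw [Subgroup.mem_centralizer_iff]
          intro t ht
          have := (Subgroup.mem_centralizer_iff.1 (h1 ht)) _ (Set.mem_singleton _)
          exact this.symm
        have hcen := hfam.2 y₀ hcls
        -- y centralizes cj g D
        rw [mem_cj] at he
        obtain ⟨heS, he'⟩ := (hDmem _).1 he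
        have h5 := congrArg Subtype.val (hcen _ he')
        simp only [Subgroup.coe_mul, hy₀] at h5
        -- h5 : g⁻¹ e g * (g⁻¹ y g) = (g⁻¹ y g) * (g⁻¹ e g)
        have h6 : e * y = y * e := conj_comm_of_comm h5
        have heV : e ∈ V := by
          have : cj g D ≤ V := le_iSup (fun g => cj g D) g
          exact this (mem_cj.2 he)
        have h7 := hact e heV
        have h8 : y * e * y⁻¹ = e := by rw [← h6]; group
        rw [h8] at h7
        calc (x : G) * e = ((x : G) * e * (x : G)⁻¹) * (x : G) := by group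
          _ = e * (x : G) := by rw [h7]
      have hxV : V ≤ Subgroup.centralizer ({(x : G)} : Set G) := by
        apply iSup_le
        intro g e he
        rw [Subgroup.mem_centralizer_iff]
        intro w hw
        rw [Set.mem_singleton_iff] at hw
        rw [hw]
        exact hxc g e he
      intro a ha
      have haV : ((a : ↥(S : Subgroup G)) : G) ∈ V := Subgroup.mem_subgroupOf.1 ha
      have := (Subgroup.mem_centralizer_iff.1 (hxV haV)) _ (Set.mem_singleton _)
      exact Subtype.ext this.symm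
  have hV'le : V' ≤ dS := le_sSup hV'fam
  have hVD : V = D := by
    apply le_antisymm _ hDV
    intro v hv
    rw [hDmem]
    exact ⟨hVS hv, hV'le (Subgroup.mem_subgroupOf.2 hv)⟩
  rw [← hVD]
  exact hVn

/-- The D*-Theorem. For a finite p-group S let D*(S) be the subgroup generated by the abelian subgroups A of S such that every x ∈ S with ⟨A, x⟩ of nilpotency class at most two centralizes A. Let p be an odd prime and H a finite p-stable group with Sylow p-subgroup S. Here H is p-stable in the following sense: the largest normal p-subgroup O_p(H) contains its centralizer in H, and for every normal p-subgroup P of H, every element acting quadratically on P has image in O_p(H/C_H(P)). Then D*(S) is a normal subgroup of H. -/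
theorem result {G : Type*} [Group G] [Finite G] {p : ℕ} [Fact p.Prime] (hp : p ≠ 2)
    (hc : Subgroup.centralizer (Cfsg.pCore p G : Set G) ≤ Cfsg.pCore p G)
    (hst : ∀ (P : Subgroup G) [P.Normal], IsPGroup p P → Cfsg.IsPStableOn p P) (S : Sylow p G) :
    (Cfsg.dStarOf (S : Subgroup G)).Normal := by
  exact dStar_normal_of_pStable hc hst S
end Cfsg.Agent.S3060
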