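import Cfsg.Statements.S3063
-- import your own Cfsg.Agent.* helpers here

set_option autoImplicit false
open Cfsg
open scoped commutatorElement

namespace Cfsg.Agent.S3063

theorem isMulComm_of_comm {S : Type*} [Group S] (A : Subgroup S)
    (h : ∀ x ∈ A, ∀ y ∈ A, x * y = y * x) : IsMulCommutative A :=
  isMulCommutative_iff.2 (fun a b => Subtype.ext (h a a.2 b b.2))

theorem comm_of_isMulComm {S : Type*} [Group S] (A : Subgroup S) (h : IsMulCommutative A) :
    ∀ x ∈ A, ∀ y ∈ A, x * y = y * x := by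
  intro x hx y hy
  have := (isMulCommutative_iff.1 h) ⟨x, hx⟩ ⟨y, hy⟩
  exact congrArg Subtype.val this

theorem arith {a b c k m r u v w ρ ρ₀ : ℕ} (e1 : k * r = b) (e2 : u * v = m) (e3 : w * ρ₀ = c)
    (e4 : m * ρ = a) (e5 : ρ₀ ≤ ρ) (e6 : k ≤ c) (e7 : w ≤ u) (e8 : r ≤ v) (hw : 0 < w) : b ≤ a := by
  subst e1 e2 e3 e4
  apply Nat.le_of_mul_le_mul_right _ hw
  calc k * r * w ≤ k * r * u := Nat.mul_le_mul_left _ e7
    _ ≤ (w * ρ₀) * v * u := Nat.mul_le_mul_right _ (Nat.mul_le_mul e6 e8)
    _ = (u * v) * ρ₀ * w := by ring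
    _ ≤ (u * v) * ρ * w := Nat.mul_le_mul_right _ (Nat.mul_le_mul_left _ e5)

/-- The replacement step: in a group with abelian derived subgroup, for an abelian subgroup `B`
and any element `g`, the subgroup `[g, B] * C_B([g, B])` is abelian of order at least `|B|`. -/
theorem replacement {S : Type*} [Group S] [Finite S]
    (hmeta : ∀ x ∈ commutator S, ∀ y ∈ commutator S, x * y = y * x)
    (B : Subgroup S) (hB : ∀ x ∈ B, ∀ y ∈ B, x * y = y * x) (g : S) :
    ∃ A' : Subgroup S, (∀ x ∈ A', ∀ y ∈ A', x * y = y * x) ∧ Nat.card B ≤ Nat.card A' ∧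
      (∀ a ∈ B, ⁅g, a⁆ ∈ A') ∧ B ⊓ commutator S ≤ A' ∧
      (∀ N : Subgroup S, N.Normal → B ≤ N → A' ≤ N) := by
  classical
  set φ : S → S := fun a => g * a * g⁻¹ * a⁻¹ with hφdef
  have hφmul : ∀ a b, φ (a * b) = φ a * (a * φ b * a⁻¹) := by
    intro a b; simp only [hφdef]; group
  have hφS : ∀ a, φ a ∈ commutator S := by
    intro a
    have : φ a = ⁅g, a⁆ := by simp only [hφdef, commutatorElement_def]
    rw [this, commutator_def]
    exact Subgroup.commutator_mem_commutator (Subgroup.mem_top g) (Subgroup.mem_top a)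
  set M : Subgroup S := Subgroup.closure {x | ∃ a ∈ B, x = φ a} with hMdef
  have hMS : M ≤ commutator S := by
    rw [hMdef, Subgroup.closure_le]; rintro x ⟨a, _, rfl⟩; exact hφS a
  have hφM : ∀ a ∈ B, φ a ∈ M := fun a ha => Subgroup.subset_closure ⟨a, ha, rfl⟩
  set C : Subgroup S := B ⊓ Subgroup.centralizer (M : Set S) with hCdef
  let K' : Subgroup S :=
    { carrier := {a | a ∈ B ∧ φ a ∈ B}
      one_mem' := ⟨B.one_mem, by simp [hφdef]⟩
      mul_mem' := by
        rintro a b ⟨ha, hφa⟩ ⟨hb, hφb⟩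
        refine ⟨B.mul_mem ha hb, ?_⟩
        rw [hφmul]
        have : a * φ b * a⁻¹ = φ b := by
          rw [hB a ha (φ b) hφb]; group
        rw [this]; exact B.mul_mem hφa hφb
      inv_mem' := by
        rintro a ⟨ha, hφa⟩
        refine ⟨B.inv_mem ha, ?_⟩
        have : φ a⁻¹ = a⁻¹ * (φ a)⁻¹ * a := by simp only [hφdef]; group
        rw [this]
        exact B.mul_mem (B.mul_mem (B.inv_mem ha) (B.inv_mem hφa)) ha }
  have hK'B : K' ≤ B := fun a ha => ha.1
  have hK'C : K' ≤ C := by
    rintro a ⟨ha, hφa⟩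
    refine ⟨ha, ?_⟩
    change a ∈ Subgroup.centralizer (M : Set S)
    have hM_le : M ≤ Subgroup.centralizer ({a} : Set S) := by
      rw [hMdef, Subgroup.closure_le]
      rintro x ⟨b, hb, rfl⟩
      rw [SetLike.mem_coe, Subgroup.mem_centralizer_iff]
      intro h hh
      rw [Set.mem_singleton_iff] at hh; subst hh
      have e1 : φ (h * b) = φ h * (h * φ b * h⁻¹) := hφmul h b
      have e2 : φ (b * h) = φ b * (b * φ h * b⁻¹) := hφmul b h
      have e3 : b * φ h * b⁻¹ = φ h := by rw [hB b hb (φ h) hφa]; group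
      have e4 : h * b = b * h := hB h ha b hb
      have e5 : φ h * φ b = φ b * φ h := hmeta _ (hφS h) _ (hφS b)
      rw [e4, e2, e3, ← e5] at e1
      have e6 : φ b = h * φ b * h⁻¹ := mul_left_cancel e1
      calc h * φ b = (h * φ b * h⁻¹) * h := by group
        _ = φ b * h := by rw [← e6]
    rw [Subgroup.mem_centralizer_iff]
    intro m hm
    have := hM_le hm
    rw [Subgroup.mem_centralizer_iff] at this
    exact (this a rfl).symm
  have hidx : K'.relIndex B ≤ B.relIndex M := by
    let f : ↥B → ↥M := fun a => ⟨φ a, hφM a a.2⟩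
    have hkey : ∀ a b : ↥B, (((f a)⁻¹ * f b : ↥M) : S) ∈ B ↔ ((a⁻¹ * b : ↥B) : S) ∈ K' := by
      intro a b
      have e : (φ (a : S))⁻¹ * φ (b : S) = (a : S) * φ ((a : S)⁻¹ * (b : S)) * (a : S)⁻¹ := by
        simp only [hφdef]; group
      have e' : (((f a)⁻¹ * f b : ↥M) : S) = (φ (a : S))⁻¹ * φ (b : S) := rfl
      have e'' : ((a⁻¹ * b : ↥B) : S) = (a : S)⁻¹ * (b : S) := rfl
      rw [e', e'', e]
      constructor
      · intro h
        refine ⟨B.mul_mem (B.inv_mem a.2) b.2, ?_⟩
        have : φ ((a : S)⁻¹ * (b : S)) =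
            (a : S)⁻¹ * ((a : S) * φ ((a : S)⁻¹ * (b : S)) * (a : S)⁻¹) * (a : S) := by group
        rw [this]
        exact B.mul_mem (B.mul_mem (B.inv_mem a.2) h) a.2
      · intro h
        exact B.mul_mem (B.mul_mem a.2 h.2) (B.inv_mem a.2)
    let F : (↥B ⧸ K'.subgroupOf B) → (↥M ⧸ B.subgroupOf M) :=
      Quotient.map' f (by
        intro a b hab
        rw [QuotientGroup.leftRel_apply] at hab ⊢
        rw [Subgroup.mem_subgroupOf] at hab ⊢
        exact (hkey a b).2 hab)
    have hinj : Function.Injective F := by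
      intro x y
      refine Quotient.inductionOn₂' x y (fun a b h => ?_)
      simp only [F, Quotient.map'_mk''] at h
      rw [Quotient.eq''] at h ⊢
      rw [QuotientGroup.leftRel_apply] at h ⊢
      rw [Subgroup.mem_subgroupOf] at h ⊢
      exact (hkey a b).1 h
    exact Nat.card_le_card_of_injective F hinj
  have hMM : ∀ x ∈ M, ∀ y ∈ M, x * y = y * x := fun x hx y hy => hmeta x (hMS hx) y (hMS hy)
  have hCM : ∀ c ∈ C, ∀ m ∈ M, m * c = c * m := by
    intro c hc m hm
    exact (Subgroup.mem_centralizer_iff.1 hc.2) m hm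
  have hCC : ∀ x ∈ C, ∀ y ∈ C, x * y = y * x := fun x hx y hy => hB x hx.1 y hy.1
  have hA'comm : ∀ x ∈ M ⊔ C, ∀ y ∈ M ⊔ C, x * y = y * x := by
    have step1 : ∀ x, (x ∈ M ∨ x ∈ C) → M ⊔ C ≤ Subgroup.centralizer ({x} : Set S) := by
      intro x hx
      refine sup_le ?_ ?_
      · intro m hm
        rw [Subgroup.mem_centralizer_iff]
        intro h hh; rw [Set.mem_singleton_iff] at hh; subst hh
        rcases hx with hx | hx
        · exact hMM _ hx _ hm
        · exact (hCM _ hx _ hm).symm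
      · intro c hc
        rw [Subgroup.mem_centralizer_iff]
        intro h hh; rw [Set.mem_singleton_iff] at hh; subst hh
        rcases hx with hx | hx
        · exact hCM _ hc _ hx
        · exact hCC _ hx _ hc
    intro x hx y hy
    have step2 : M ⊔ C ≤ Subgroup.centralizer ({y} : Set S) := by
      refine sup_le ?_ ?_
      · intro m hm
        have := step1 m (Or.inl hm) hy
        rw [Subgroup.mem_centralizer_iff] at this ⊢
        intro h hh; rw [Set.mem_singleton_iff] at hh; subst hh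
        exact (this m rfl).symm
      · intro c hc
        have := step1 c (Or.inr hc) hy
        rw [Subgroup.mem_centralizer_iff] at this ⊢
        intro h hh; rw [Set.mem_singleton_iff] at hh; subst hh
        exact (this c rfl).symm
    have := step2 hx
    rw [Subgroup.mem_centralizer_iff] at this
    exact (this y rfl).symm
  have hfinal : Nat.card B ≤ Nat.card ↥(M ⊔ C) := by
    have e1 : Nat.card K' * K'.relIndex B = Nat.card B := by
      have := Subgroup.relIndex_mul_relIndex ⊥ K' B bot_le hK'B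
      rwa [Subgroup.relIndex_bot_left, Subgroup.relIndex_bot_left] at this
    have e2 : Nat.card ↥(B ⊓ M) * B.relIndex M = Nat.card M := by
      have := Subgroup.relIndex_mul_relIndex ⊥ (B ⊓ M) M bot_le inf_le_right
      rwa [Subgroup.relIndex_bot_left, Subgroup.relIndex_bot_left,
        Subgroup.inf_relIndex_right] at this
    have e3 : Nat.card ↥(M ⊓ C) * M.relIndex C = Nat.card C := by
      have := Subgroup.relIndex_mul_relIndex ⊥ (M ⊓ C) C bot_le inf_le_right
      rwa [Subgroup.relIndex_bot_left, Subgroup.relIndex_bot_left,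
        Subgroup.inf_relIndex_right] at this
    have e4 : Nat.card M * M.relIndex (M ⊔ C) = Nat.card ↥(M ⊔ C) := by
      have := Subgroup.relIndex_mul_relIndex ⊥ M (M ⊔ C) bot_le le_sup_left
      rwa [Subgroup.relIndex_bot_left, Subgroup.relIndex_bot_left] at this
    have e5 : M.relIndex C ≤ M.relIndex (M ⊔ C) :=
      Subgroup.relIndex_le_of_le_right le_sup_right (by
        intro h0
        rw [h0, Nat.mul_zero] at e4
        exact (Nat.card_pos (α := ↥(M ⊔ C))).ne' e4.symm)
    have e6 : Nat.card K' ≤ Nat.card C := Subgroup.card_le_of_le hK'C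
    have e7 : Nat.card ↥(M ⊓ C) ≤ Nat.card ↥(B ⊓ M) :=
      Subgroup.card_le_of_le (le_inf (inf_le_right.trans inf_le_left) inf_le_left)
    have hpos : 0 < Nat.card ↥(M ⊓ C) := Nat.card_pos
    exact arith e1 e2 e3 e4 e5 e6 e7 hidx hpos
  refine ⟨M ⊔ C, hA'comm, hfinal, ?_, ?_, ?_⟩
  · intro a ha
    have : ⁅g, a⁆ = φ a := by simp only [hφdef, commutatorElement_def]
    rw [this]
    exact (le_sup_left : M ≤ M ⊔ C) (hφM a ha)
  · rintro x ⟨hx1, hx2⟩
    refine (le_sup_right : C ≤ M ⊔ C) ⟨hx1, ?_⟩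
    change x ∈ Subgroup.centralizer (M : Set S)
    rw [Subgroup.mem_centralizer_iff]
    intro m hm
    exact hmeta m (hMS hm) x hx2
  · intro N hN hBN
    refine sup_le ?_ (inf_le_left.trans hBN)
    rw [hMdef, Subgroup.closure_le]
    rintro x ⟨a, ha, rfl⟩
    exact N.mul_mem (hN.conj_mem a (hBN ha) g) (N.inv_mem (hBN ha))

/-- A weak replacement Theorem for metabelian p-groups: let S be a finite p-group whose derived subgroup is abelian and A an abelian subgroup of S of largest possible order. Then the normal closure of A in S contains an abelian subgroup B of the same order as A that is normal in S. -/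
theorem result {S : Type*} [Group S] [Finite S] {p : ℕ} [Fact p.Prime]
    (hS : IsPGroup p S) (hmeta : IsMulCommutative ↥(commutator S))
    (A : Subgroup S) (hA : A ∈ Cfsg.maxAbelianSubgroups S) :
    ∃ B ∈ Cfsg.maxAbelianSubgroups S, B.Normal ∧ B ≤ Subgroup.normalClosure (A : Set S) := by
  classical
  have hcomm' : ∀ x ∈ commutator S, ∀ y ∈ commutator S, x * y = y * x :=
    comm_of_isMulComm _ hmeta
  let 𝒞 : Set (Subgroup S) :=
    {B | B ∈ Cfsg.maxAbelianSubgroups S ∧ B ≤ Subgroup.normalClosure (A : Set S)}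
  have hne : 𝒞.Nonempty := ⟨A, hA, Subgroup.le_normalClosure⟩
  obtain ⟨B, hB𝒞, hBmax⟩ := Set.exists_max_image 𝒞
    (fun B => Nat.card ↥(B ⊓ commutator S)) (Set.toFinite _) hne
  refine ⟨B, hB𝒞.1, ?_, hB𝒞.2⟩
  constructor
  intro a ha g
  obtain ⟨A', hA'comm, hcard, hφ, hBS, hN⟩ :=
    replacement hcomm' B (comm_of_isMulComm _ hB𝒞.1.1) g
  have hA'max : A' ∈ Cfsg.maxAbelianSubgroups S :=
    ⟨isMulComm_of_comm _ hA'comm, fun D hD => (hB𝒞.1.2 D hD).trans hcard⟩
  have hA'𝒞 : A' ∈ 𝒞 := ⟨hA'max, hN _ Subgroup.normalClosure_normal hB𝒞.2⟩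
  have h1 := hBmax A' hA'𝒞
  have h2 : B ⊓ commutator S ≤ A' ⊓ commutator S := le_inf hBS inf_le_right
  have h3 : B ⊓ commutator S = A' ⊓ commutator S := Subgroup.eq_of_le_of_card_ge h2 h1
  have h4 : ⁅g, a⁆ ∈ B := by
    have : ⁅g, a⁆ ∈ A' ⊓ commutator S := by
      refine ⟨hφ a ha, ?_⟩
      rw [commutator_def]
      exact Subgroup.commutator_mem_commutator (Subgroup.mem_top g) (Subgroup.mem_top a)
    rw [← h3] at this; exact this.1
  have : g * a * g⁻¹ = ⁅g, a⁆ * a := by simp [commutatorElement_def]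
  rw [this]; exact B.mul_mem h4 ha

end Cfsg.Agent.S3063
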