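import Cfsg.Statements.S3064
import Mathlib
import Cfsg.Agent.Lib.Helper96.FrobeniusThm
import Cfsg.Agent.Lib.Helper96.PComplCentral
import Cfsg.Agent.Lib.Helper96.Wielandt
import Cfsg.Agent.Lib.Helper96.Schmidt3

set_option autoImplicit false
open Cfsg

namespace Cfsg.Agent.S3064

open Cfsg.Agent.Lib.Helper96
open scoped Pointwise

/-- in any `p`-subgroup containing `x`, `x` is the only conjugate of `x` -/
theorem conj_eq_of_mem_pgroup {G : Type*} [Group G] [Finite G] {p : ℕ} [Fact p.Prime]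
    (S : Sylow p G) (x : G)
    (hU : ∀ g : G, g⁻¹ * x * g ∈ S → g⁻¹ * x * g = x)
    (T : Subgroup G) (hT : IsPGroup p T) (hxT : x ∈ T) (g : G) (hg : g⁻¹ * x * g ∈ T) :
    g⁻¹ * x * g = x := by
  obtain ⟨Q, hQ⟩ := hT.exists_le_sylow
  obtain ⟨a, ha⟩ := MulAction.exists_smul_eq G Q S
  have key : ∀ t ∈ T, a * t * a⁻¹ ∈ S := by
    intro t ht
    have h : a * t * a⁻¹ ∈ ((a • Q : Sylow p G) : Subgroup G) := by
      rw [Sylow.smul_def, Sylow.pointwise_smul_def]
      exact Cfsg.Agent.Lib.Helper35.conj_mem_conj_smul (hQ ht)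
    rw [ha] at h
    exact h
  have h1 := hU a⁻¹ (by simpa using key x hxT)
  have h2 := hU (g * a⁻¹) (by
    have := key _ hg
    simpa [mul_assoc] using this)
  rw [inv_inv] at h1
  rw [mul_inv_rev, inv_inv] at h2
  have h3 : g⁻¹ * x * g = a⁻¹ * x * a := by
    calc g⁻¹ * x * g = a⁻¹ * (a * g⁻¹ * x * (g * a⁻¹)) * a := by group
      _ = a⁻¹ * x * a := by rw [h2]
  rw [h3]
  calc a⁻¹ * x * a = a⁻¹ * (a * x * a⁻¹) * a := by rw [h1]
    _ = x := by group

theorem aux.{u} : ∀ (n : ℕ) (G : Type u) [Group G] [Finite G] (p : ℕ) [Fact p.Prime]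
    (S : Sylow p G) (x : G), Nat.card G = n → x ∈ S →
    (∀ g : G, g⁻¹ * x * g ∈ S → g⁻¹ * x * g = x) →
    (∀ H : Subgroup G, (Nat.card H).Coprime p → (∀ h ∈ H, x * h * x⁻¹ ∈ H) →
      ∀ h ∈ H, x * h = h * x) →
    x ∈ Subgroup.center G := by
  intro n
  induction n using Nat.strong_induction_on with
  | _ n ih =>
  intro G _ _ p _ S x hn hx hU hb
  by_contra hxZ
  have hp : p.Prime := Fact.out
  obtain ⟨kx, hkx⟩ : ∃ k : ℕ, x ^ p ^ k = 1 := by
    obtain ⟨k, hk⟩ := S.2 ⟨x, hx⟩
    exact ⟨k, by simpa using congrArg Subtype.val hk⟩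
  have hxp : IsPGroup p (Subgroup.zpowers x) := isPGroup_zpowers_of_pow_eq_one hkx
  -- subgroups
  have hsub : ∀ K : Subgroup G, K ≠ ⊤ → x ∈ K → ∀ k ∈ K, k * x = x * k := by
    intro K hK hxK k hk
    have hlt : Nat.card K < n := by
      rw [← hn]
      exact lt_of_le_of_ne (Subgroup.card_le_card_group K)
        (fun h => hK ((Subgroup.card_eq_iff_eq_top K).mp h))
    have hxpK : IsPGroup p (Subgroup.zpowers (⟨x, hxK⟩ : K)) :=
      isPGroup_zpowers_of_pow_eq_one (k := kx) (Subtype.ext (by simpa using hkx))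
    obtain ⟨T, hT⟩ := hxpK.exists_le_sylow
    have hxT : (⟨x, hxK⟩ : K) ∈ T := hT (Subgroup.mem_zpowers _)
    have hTp : IsPGroup p ((T : Subgroup K).map K.subtype) := T.2.map K.subtype
    have hcen := ih (Nat.card K) hlt K p T ⟨x, hxK⟩ rfl hxT ?_ ?_
    · have h := Subgroup.mem_center_iff.mp hcen ⟨k, hk⟩
      exact congrArg Subtype.val h
    · intro k' hk'
      have := conj_eq_of_mem_pgroup S x hU _ hTp ⟨⟨x, hxK⟩, hxT, rfl⟩ (k' : G)
        ⟨_, hk', by simp⟩
      exact Subtype.ext (by simpa using this)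
    · intro H hH hnorm h hh
      have := hb (H.map K.subtype)
        (by rwa [Subgroup.card_map_of_injective K.subtype_injective]) ?_ (h : G) ⟨h, hh, rfl⟩
      · exact Subtype.ext (by simpa using this)
      · rintro _ ⟨h', hh', rfl⟩
        exact ⟨_, hnorm h' hh', by simp⟩
  -- commuting conjugates are equal
  have hcomm : ∀ g : G, (g⁻¹ * x * g) * x = x * (g⁻¹ * x * g) → g⁻¹ * x * g = x := by
    intro g hg
    set y := g⁻¹ * x * g with hy
    obtain hyp : IsPGroup p (Subgroup.zpowers y) := by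
      apply isPGroup_zpowers_of_pow_eq_one (k := kx)
      have h0 : g⁻¹ * x * g = g⁻¹ * x * (g⁻¹)⁻¹ := by rw [inv_inv]
      rw [hy, h0, conj_pow, hkx]
      group
    have hnorm : Subgroup.zpowers x ≤ Subgroup.normalizer (Subgroup.zpowers y : Set G) := by
      refine le_trans ?_ (Subgroup.centralizer_le_normalizer _)
      rw [Subgroup.zpowers_le, Subgroup.mem_centralizer_iff]
      intro h hh
      obtain ⟨m, rfl⟩ := Subgroup.mem_zpowers_iff.mp hh
      exact (Commute.zpow_left (show Commute y x from hg) m).eq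
    have hT : IsPGroup p (Subgroup.zpowers x ⊔ Subgroup.zpowers y : Subgroup G) :=
      IsPGroup.to_sup_of_normal_right' hxp hyp hnorm
    exact conj_eq_of_mem_pgroup S x hU _ hT
      (le_sup_left (a := Subgroup.zpowers x) (Subgroup.mem_zpowers x)) g
      (le_sup_right (b := Subgroup.zpowers y) (Subgroup.mem_zpowers y))
  -- elements commuting with two distinct conjugates are central
  have hZ : ∀ g d : G, g⁻¹ * x * g ≠ x → d * x = x * d →
      d * (g⁻¹ * x * g) = (g⁻¹ * x * g) * d → d ∈ Subgroup.center G := by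
    intro g d hne h1 h2
    by_contra hd
    have hK : Subgroup.centralizer ({d} : Set G) ≠ ⊤ := by
      intro htop
      apply hd
      rw [Subgroup.mem_center_iff]
      intro w
      have : w ∈ Subgroup.centralizer ({d} : Set G) := htop ▸ Subgroup.mem_top w
      rw [Subgroup.mem_centralizer_singleton_iff] at this
      exact this
    have h3 := hsub _ hK (Subgroup.mem_centralizer_singleton_iff.mpr h1.symm) (g⁻¹ * x * g)
      (Subgroup.mem_centralizer_singleton_iff.mpr h2.symm)
    exact hne (hcomm g h3)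
  -- Frobenius structure on the central quotient
  set Z := Subgroup.center G with hZdef
  set π := QuotientGroup.mk' Z with hπ
  have hπs : Function.Surjective π := QuotientGroup.mk'_surjective Z
  have hkerπ : π.ker = Z := QuotientGroup.ker_mk' Z
  set C := Subgroup.centralizer ({x} : Set G) with hCdef
  have hZC : Z ≤ C := Subgroup.center_le_centralizer _
  have hxC : x ∈ C := Subgroup.mem_centralizer_singleton_iff.mpr rfl
  have hπone : ∀ g : G, π g = 1 ↔ g ∈ Z := fun g => QuotientGroup.eq_one_iff g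
  have hmemC : ∀ c : G, π c ∈ C.map π ↔ c ∈ C := by
    intro c
    constructor
    · rintro ⟨c', hc', h⟩
      have h1 : c'⁻¹ * c ∈ Z := by
        rw [← hπone, map_mul, map_inv, h, inv_mul_cancel]
      have : c = c' * (c'⁻¹ * c) := by group
      rw [this]
      exact C.mul_mem hc' (hZC h1)
    · intro hc
      exact Subgroup.mem_map_of_mem _ hc
  have hSC : (S : Subgroup G) ≤ C := by
    intro s hs
    rw [hCdef, Subgroup.mem_centralizer_singleton_iff]
    have h1 := hU s (S.mul_mem (S.mul_mem (S.inv_mem hs) hx) hs)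
    calc s * x = s * (s⁻¹ * x * s) := by rw [h1]
      _ = x * s := by group
  have hFrob : Cfsg.IsFrobeniusComplement (C.map π) := by
    refine ⟨?_, ?_, ?_⟩
    · intro h
      have h1 : π x ∈ C.map π := Subgroup.mem_map_of_mem _ hxC
      rw [h, Subgroup.mem_bot, hπone] at h1
      exact hxZ h1
    · intro h
      apply hxZ
      rw [Subgroup.mem_center_iff]
      intro w
      have h1 : π w ∈ C.map π := h ▸ Subgroup.mem_top _
      rw [hmemC, hCdef, Subgroup.mem_centralizer_singleton_iff] at h1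
      exact h1
    · intro gbar hgbar
      obtain ⟨g, rfl⟩ := hπs gbar
      rw [hmemC] at hgbar
      rw [eq_bot_iff]
      intro ubar hubar
      obtain ⟨hu1, hu2⟩ := Subgroup.mem_inf.mp hubar
      obtain ⟨u, rfl⟩ := hπs ubar
      rw [Cfsg.Agent.Lib.Helper35.mem_conj_smul, ← map_inv, ← map_mul, ← map_mul, hmemC] at hu2
      rw [hmemC] at hu1
      rw [Subgroup.mem_bot, hπone]
      rw [hCdef, Subgroup.mem_centralizer_singleton_iff] at hu1 hu2 hgbar
      refine hZ g⁻¹ u ?_ hu1 ?_
      · intro h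
        apply hgbar
        rw [inv_inv] at h
        calc g * x = (g * x * g⁻¹) * g := by group
          _ = x * g := by rw [h]
      · rw [inv_inv]
        calc u * (g * x * g⁻¹) = g * ((g⁻¹ * u * g) * x) * g⁻¹ := by group
          _ = g * (x * (g⁻¹ * u * g)) * g⁻¹ := by rw [hu2]
          _ = g * x * g⁻¹ * u := by group
  obtain ⟨Nbar, -, hNn, hcompl⟩ := frobenius_kernel_subgroup (C.map π) hFrob
  set K := Nbar.comap π with hKdef
  have hKn : K.Normal := hNn.comap π
  have hcardN : (Nat.card Nbar).Coprime p := by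
    rw [← hcompl.index_eq_card, Subgroup.index_map_eq _ hπs (by rw [hkerπ]; exact hZC)]
    have h1 : C.index ∣ (S : Subgroup G).index := Subgroup.index_dvd_of_le hSC
    have h2 : ¬ p ∣ (S : Subgroup G).index := S.not_dvd_index
    exact ((Nat.Prime.coprime_iff_not_dvd hp).2 (fun h => h2 (dvd_trans h h1))).symm
  have hpK : ∀ k ∈ K, (∃ a : ℕ, k ^ p ^ a = 1) → k ∈ Z := by
    rintro k hk ⟨a, ha⟩
    rw [← hπone]
    have hk' : π k ∈ Nbar := hk
    have h1 : orderOf (π k) ∣ p ^ a := by
      apply orderOf_dvd_of_pow_eq_one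
      rw [← map_pow, ha, map_one]
    have h2 : orderOf (π k) ∣ Nat.card Nbar := Subgroup.orderOf_dvd_natCard Nbar hk'
    have h3 : orderOf (π k) ∣ 1 := by
      have := Nat.dvd_gcd h1 h2
      rwa [Nat.Coprime.gcd_eq_one (Nat.Coprime.pow_left a hcardN.symm)] at this
    exact orderOf_eq_one_iff.mp (Nat.dvd_one.mp h3)
  have hidx : ¬ p ∣ (Subgroup.center K).index := by
    have h1 : Z.subgroupOf K ≤ Subgroup.center K := by
      intro z hz
      rw [Subgroup.mem_subgroupOf] at hz
      rw [Subgroup.mem_center_iff]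
      intro w
      exact Subtype.ext (Subgroup.mem_center_iff.mp hz (w : G))
    have h2 : (Z.subgroupOf K).index = Nat.card Nbar := by
      show Z.relIndex K = _
      have h0 : Z.relIndex K = π.ker.relIndex K := by rw [hkerπ]
      rw [h0, Subgroup.relIndex_ker, hKdef, Subgroup.map_comap_eq_self_of_surjective hπs]
    intro h
    have h3 : p ∣ Nat.card Nbar := h2 ▸ dvd_trans h (Subgroup.index_dvd_of_le h1)
    have := Nat.dvd_gcd h3 (dvd_refl p)
    rw [Nat.Coprime.gcd_eq_one hcardN] at this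
    exact hp.one_lt.ne' (Nat.dvd_one.mp this)
  obtain ⟨e, N, he, hN, hN'⟩ := exists_pprime_subgroup_of_center_index (K := K) hp hidx
  have hNcard : (Nat.card (N.map K.subtype)).Coprime p := by
    rw [Subgroup.card_map_of_injective K.subtype_injective]
    rw [Nat.coprime_comm, Nat.Prime.coprime_iff_not_dvd hp]
    intro hdvd
    obtain ⟨n0, hn0⟩ := exists_prime_orderOf_dvd_card' p hdvd
    have h1 : (n0 : K) ^ e = 1 := (hN _).mp n0.2
    have h2 : p ∣ e := by
      rw [← hn0, ← Subgroup.orderOf_coe]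
      exact orderOf_dvd_of_pow_eq_one h1
    have := Nat.dvd_gcd h2 (dvd_refl p)
    rw [Nat.Coprime.gcd_eq_one he] at this
    exact hp.one_lt.ne' (Nat.dvd_one.mp this)
  have hNnorm : ∀ h ∈ N.map K.subtype, x * h * x⁻¹ ∈ N.map K.subtype := by
    rintro _ ⟨n0, hn0, rfl⟩
    have h1 : x * (n0 : G) * x⁻¹ ∈ K := hKn.conj_mem _ n0.2 x
    refine ⟨⟨_, h1⟩, (hN _).mpr ?_, rfl⟩
    apply Subtype.ext
    have h2 : (n0 : G) ^ e = 1 := by
      have := congrArg Subtype.val ((hN _).mp hn0)
      simpa using this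
    simp only [Subgroup.coe_pow, Subgroup.coe_one, Subgroup.coe_subtype]
    rw [conj_pow, h2, mul_one, mul_inv_cancel]
  have hNcen := hb (N.map K.subtype) hNcard hNnorm
  have hKC : K ≤ C := by
    intro k hk
    rw [hCdef, Subgroup.mem_centralizer_singleton_iff]
    obtain ⟨g₁, g₂, hg₁, hg₂, hk12, hg₁p, hg₂p⟩ := exists_decomp_p_pprime hp k
    have hg₁K : g₁ ∈ K := (Subgroup.zpowers_le.mpr hk) hg₁
    have hg₂K : g₂ ∈ K := (Subgroup.zpowers_le.mpr hk) hg₂
    have h1 : g₁ * x = x * g₁ := Subgroup.mem_center_iff.mp (hpK g₁ hg₁K hg₁p) x |>.symm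
    have h2 : x * g₂ = g₂ * x := by
      apply hNcen
      refine ⟨⟨g₂, hg₂K⟩, hN' _ ?_, rfl⟩
      rw [← Subgroup.orderOf_coe]
      exact hg₂p
    rw [hk12, mul_assoc, ← h2, ← mul_assoc, h1, mul_assoc]
  have hNC : Nbar ≤ C.map π := by
    intro nbar hnbar
    obtain ⟨k, rfl⟩ := hπs nbar
    exact Subgroup.mem_map_of_mem _ (hKC hnbar)
  have hNbot : Nbar = ⊥ := by
    have := hcompl.disjoint
    rw [disjoint_iff, inf_eq_left.mpr hNC] at this
    exact this
  have htop := hcompl.sup_eq_top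
  rw [hNbot, bot_sup_eq] at htop
  exact hFrob.2.1 htop

/-- Let S be a Sylow p-subgroup of the finite group G and x an element of S such that (i) x is the only G-conjugate of x lying in S, and (ii) x centralizes every subgroup of order prime to p that it normalizes. Then x lies in the centre of G. -/
theorem result {G : Type*} [Group G] [Finite G] {p : ℕ} [Fact p.Prime]
    (S : Sylow p G) (x : G) (hx : x ∈ S)
    (hU : ∀ g : G, g⁻¹ * x * g ∈ S → g⁻¹ * x * g = x)
    (hb : ∀ H : Subgroup G, (Nat.card H).Coprime p → (∀ h ∈ H, x * h * x⁻¹ ∈ H) → ∀ h ∈ H, x * h = h * x) :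
    x ∈ Subgroup.center G := by
  exact aux (Nat.card G) G p S x rfl hx hU hb

end Cfsg.Agent.S3064
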