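-- Statement S3799: extraspecial groups of exponent p inside GL(n+2, p) (Heisenberg groups).
import Cfsg.Statements.S3799
import Cfsg.Agent.Lib.Helper63.Heisenberg
import Cfsg.Agent.Lib.Helper47.Frattini
import Cfsg.Agent.Lib.Helper2.PGroup

set_option autoImplicit false
open Cfsg

namespace Cfsg.Agent.S3799

open Cfsg.Agent.Lib.Helper63
open scoped commutatorElement

theorem map_center_of_mulEquiv {H K : Type*} [Group H] [Group K] (e : H ≃* K) :
    (Subgroup.center H).map e.toMonoidHom = Subgroup.center K := by
  ext k
  constructor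
  · rintro ⟨z, hz, rfl⟩
    rw [Subgroup.mem_center_iff]
    intro g
    obtain ⟨g', rfl⟩ := e.surjective g
    change e g' * e z = e z * e g'
    rw [← map_mul, ← map_mul, Subgroup.mem_center_iff.1 hz g']
  · intro hk
    refine ⟨e.symm k, ?_, by simp⟩
    rw [SetLike.mem_coe, Subgroup.mem_center_iff]
    intro g
    apply e.injective
    rw [map_mul, map_mul, e.apply_symm_apply]
    exact Subgroup.mem_center_iff.1 hk (e g)

theorem commutator_eq_center_of_mulEquiv {H K : Type*} [Group H] [Group K] (e : H ≃* K)
    (h : commutator H = Subgroup.center H) : commutator K = Subgroup.center K := by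
  have hc : (commutator H).map e.toMonoidHom = commutator K := by
    rw [map_commutator_eq, MonoidHom.range_eq_top.2 e.surjective, commutator_def]
  rw [← hc, ← map_center_of_mulEquiv e, h]

/-- For every odd prime p and every n ≥ 1 there is an extraspecial p-group of order p^(1+2n) and exponent p; concretely, the general linear group of degree n + 2 over the field with p elements contains such a subgroup. -/
theorem result (p : ℕ) [Fact p.Prime] (hp : p ≠ 2) (n : ℕ) (hn : 1 ≤ n) : ∃ E : Subgroup (Matrix.GeneralLinearGroup (Fin (n + 2)) (ZMod p)), Cfsg.IsExtraspecial p ↥E ∧ Nat.card E = p ^ (1 + 2 * n) ∧ ∀ x ∈ E, x ^ p = 1 := by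
  have hpp : p.Prime := Fact.out
  have h2 : IsUnit (2 : ZMod p) := by
    have h : (2 : ZMod p) ≠ 0 := by
      intro h
      have h2 : ((2 : ℕ) : ZMod p) = 0 := by exact_mod_cast h
      rw [ZMod.natCast_eq_zero_iff] at h2
      exact hp ((Nat.prime_dvd_prime_iff_eq hpp Nat.prime_two).1 h2)
    exact h.isUnit
  let E := (Heis.toGL (ZMod p) n).range
  let e : Heis (ZMod p) n ≃* ↥E := MonoidHom.ofInjective (Heis.toGL_injective (ZMod p) n)
  have hcard : Nat.card ↥E = p ^ (1 + 2 * n) := by
    rw [← Nat.card_congr e.toEquiv, Heis.card_eq, Nat.card_zmod]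
  have hexp : ∀ x ∈ E, x ^ p = 1 := by
    rintro _ ⟨h, rfl⟩
    rw [← map_pow, Heis.pow_char_eq_one p h2, map_one]
  have hPG : IsPGroup p ↥E := IsPGroup.of_card hcard
  have hcz : commutator ↥E = Subgroup.center ↥E :=
    commutator_eq_center_of_mulEquiv e (Heis.commutator_eq_center hn)
  have hzcard : Nat.card (Subgroup.center ↥E) = p := by
    rw [← Nat.card_congr (Subgroup.centerCongr e).toEquiv, Heis.card_center, Nat.card_zmod]
  have hfr : frattini ↥E = Subgroup.center ↥E := by
    rw [← hcz]
    apply le_antisymm
    · apply Cfsg.Agent.Lib.Helper47.frattini_le_of_elementary_abelian_quotient p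
      · intro x y
        rw [commutator_def]
        exact Subgroup.commutator_mem_commutator (Subgroup.mem_top _) (Subgroup.mem_top _)
      · intro x
        have : x ^ p = 1 := by
          apply Subtype.ext
          exact hexp x.1 x.2
        rw [this]
        exact Subgroup.one_mem _
    · exact Cfsg.Agent.Lib.Helper2.commutator_le_frattini hPG
  exact ⟨E, ⟨⟨hPG, hfr, hcz⟩, hzcard⟩, hcard, hexp⟩

end Cfsg.Agent.S3799
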