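import Cfsg.Statements.S3074
import Cfsg.Agent.Lib.Helper63.Heisenberg
import Cfsg.Agent.Lib.Helper47.Frattini
import Cfsg.Agent.Lib.Helper2.PGroup
import Cfsg.Agent.S3799

set_option autoImplicit false
open Cfsg

namespace Cfsg.Agent.S3074

open Cfsg.Agent.Lib.Helper63
open scoped commutatorElement

/-- the upper unitriangular matrix attached to an element of the Heisenberg group -/
def heisMat {p : ℕ} (x : Heis (ZMod p) 1) : Matrix (Fin 3) (Fin 3) (ZMod p) :=
  !![1, x.a 0, x.c; 0, 1, x.b 0; 0, 0, 1]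

theorem det_heisMat {p : ℕ} (x : Heis (ZMod p) 1) : (heisMat x).det = 1 := by
  simp [heisMat, Matrix.det_fin_three]

theorem heisMat_mul {p : ℕ} (x y : Heis (ZMod p) 1) :
    heisMat (x * y) = heisMat x * heisMat y := by
  ext i j
  fin_cases i <;> fin_cases j <;>
    simp [heisMat, Matrix.mul_apply, Fin.sum_univ_three, dotProduct] <;> ring

theorem heisMat_one {p : ℕ} : heisMat (1 : Heis (ZMod p) 1) = 1 := by
  ext i j
  fin_cases i <;> fin_cases j <;> simp [heisMat]

/-- the Heisenberg group inside `SL₃` -/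
def heisSL (p : ℕ) : Heis (ZMod p) 1 →* Matrix.SpecialLinearGroup (Fin 3) (ZMod p) where
  toFun x := ⟨heisMat x, det_heisMat x⟩
  map_one' := Subtype.ext heisMat_one
  map_mul' x y := Subtype.ext (heisMat_mul x y)

theorem heisSL_injective (p : ℕ) : Function.Injective (heisSL p) := by
  intro x y h
  have h' : heisMat x = heisMat y := congrArg Subtype.val h
  have h01 := congrFun (congrFun h' 0) 1
  have h02 := congrFun (congrFun h' 0) 2
  have h12 := congrFun (congrFun h' 1) 2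
  simp [heisMat] at h01 h02 h12
  apply Heis.ext
  · funext i; fin_cases i; exact h01
  · funext i; fin_cases i; exact h12
  · exact h02

theorem heisSL_mem_qd (p : ℕ) (x : Heis (ZMod p) 1) : heisSL p x ∈ Cfsg.qd p := by
  apply Subgroup.subset_closure
  refine ⟨?_, ?_, ?_⟩
  · show heisMat x 2 0 = 0
    simp [heisMat]
  · show heisMat x 2 1 = 0
    simp [heisMat]
  · show heisMat x 2 2 = 1
    simp [heisMat]

theorem not_p4_dvd {p : ℕ} (hp : p.Prime) :
    ¬ p ^ 4 ∣ (p ^ 3 - 1) * (p ^ 3 - p) * (p ^ 3 - p ^ 2) := by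
  have h2 : 2 ≤ p := hp.two_le
  have e1 : p ^ 3 - p = p * (p ^ 2 - 1) := by
    rw [Nat.mul_sub, mul_one]; ring_nf
  have e2 : p ^ 3 - p ^ 2 = p ^ 2 * (p - 1) := by
    rw [Nat.mul_sub, mul_one]; ring_nf
  have hnd : ∀ k : ℕ, 1 ≤ k → ¬ p ∣ p ^ k - 1 := by
    intro k hk hdvd
    have h1 : p ∣ p ^ k := dvd_pow_self p (by omega)
    have hpos : 1 ≤ p ^ k := Nat.one_le_pow _ _ hp.pos
    have : p ∣ p ^ k - (p ^ k - 1) := Nat.dvd_sub h1 hdvd
    rw [Nat.sub_sub_self hpos] at this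
    exact hp.one_lt.ne' (Nat.dvd_one.mp this)
  intro h
  rw [e1, e2] at h
  have e3 : (p ^ 3 - 1) * (p * (p ^ 2 - 1)) * (p ^ 2 * (p - 1)) =
      p ^ 3 * ((p ^ 3 - 1) * (p ^ 2 - 1) * (p - 1)) := by ring
  rw [e3, pow_succ p 3] at h
  have h' : p ∣ (p ^ 3 - 1) * (p ^ 2 - 1) * (p - 1) :=
    Nat.dvd_of_mul_dvd_mul_left (pow_pos hp.pos 3) h
  rcases (Nat.Prime.dvd_mul hp).1 h' with h1 | h1
  · rcases (Nat.Prime.dvd_mul hp).1 h1 with h2 | h2
    · exact hnd 3 (by norm_num) h2
    · exact hnd 2 (by norm_num) h2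
  · have := hnd 1 (by norm_num)
    rw [pow_one] at this
    exact this h1

theorem card_GL3 (p : ℕ) [Fact p.Prime] :
    Nat.card (Matrix.GeneralLinearGroup (Fin 3) (ZMod p)) =
      (p ^ 3 - 1) * (p ^ 3 - p) * (p ^ 3 - p ^ 2) := by
  rw [Matrix.card_GL_field, Fin.prod_univ_three]
  simp [ZMod.card]

theorem extraspecial_of_equiv {p : ℕ} [Fact p.Prime] (hp : p ≠ 2) {E : Type*} [Group E]
    (e : Heis (ZMod p) 1 ≃* E) :
    Cfsg.IsExtraspecial p E ∧ Nat.card E = p ^ 3 ∧ Monoid.exponent E = p := by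
  have hpp : p.Prime := Fact.out
  have h2 : IsUnit (2 : ZMod p) := by
    have h : (2 : ZMod p) ≠ 0 := by
      intro h
      have h2 : ((2 : ℕ) : ZMod p) = 0 := by exact_mod_cast h
      rw [ZMod.natCast_eq_zero_iff] at h2
      exact hp ((Nat.prime_dvd_prime_iff_eq hpp Nat.prime_two).1 h2)
    exact h.isUnit
  have hcard : Nat.card E = p ^ 3 := by
    rw [← Nat.card_congr e.toEquiv, Heis.card_eq, Nat.card_zmod]
  have hfin : Finite E := Nat.finite_of_card_ne_zero (by rw [hcard]; exact pow_ne_zero _ hpp.ne_zero)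
  have hexp : ∀ x : E, x ^ p = 1 := by
    intro x
    obtain ⟨h, rfl⟩ := e.surjective x
    rw [← map_pow, Heis.pow_char_eq_one p h2, map_one]
  have hPG : IsPGroup p E := IsPGroup.of_card hcard
  have hcz : commutator E = Subgroup.center E :=
    Cfsg.Agent.S3799.commutator_eq_center_of_mulEquiv e (Heis.commutator_eq_center le_rfl)
  have hzcard : Nat.card (Subgroup.center E) = p := by
    rw [← Nat.card_congr (Subgroup.centerCongr e).toEquiv, Heis.card_center, Nat.card_zmod]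
  have hfr : frattini E = Subgroup.center E := by
    rw [← hcz]
    apply le_antisymm
    · apply Cfsg.Agent.Lib.Helper47.frattini_le_of_elementary_abelian_quotient p
      · intro x y
        rw [commutator_def]
        exact Subgroup.commutator_mem_commutator (Subgroup.mem_top _) (Subgroup.mem_top _)
      · intro x
        rw [hexp x]
        exact Subgroup.one_mem _
    · exact Cfsg.Agent.Lib.Helper2.commutator_le_frattini hPG
  refine ⟨⟨⟨hPG, hfr, hcz⟩, hzcard⟩, hcard, ?_⟩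
  have hdvd : Monoid.exponent E ∣ p := Monoid.exponent_dvd_of_forall_pow_eq_one hexp
  rcases (Nat.dvd_prime hpp).1 hdvd with h1 | h1
  · exfalso
    have hsub : Subsingleton E := Monoid.exp_eq_one_iff.1 h1
    have : Nat.card E = 1 := Nat.card_unique
    rw [hcard] at this
    have h8 : 2 ^ 3 ≤ p ^ 3 := Nat.pow_le_pow_left hpp.two_le 3
    omega
  · exact h1

/-- Let p be an odd prime. A Sylow p-subgroup of Qd(p), the split extension of an elementary abelian group of order p² by SL₂(p) acting naturally, is extraspecial of order p³ and exponent p. -/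
theorem result (p : ℕ) [Fact p.Prime] (hp : p ≠ 2) (P : Sylow p ↥(Cfsg.qd p)) :
    Cfsg.IsExtraspecial p ↥P ∧ Nat.card P = p ^ 3 ∧ Monoid.exponent ↥P = p := by
  have hpp : p.Prime := Fact.out
  let φ : Heis (ZMod p) 1 →* ↥(Cfsg.qd p) := (heisSL p).codRestrict (Cfsg.qd p) (heisSL_mem_qd p)
  have hφ : Function.Injective φ := by
    intro x y h
    exact heisSL_injective p (congrArg Subtype.val h)
  set U : Subgroup ↥(Cfsg.qd p) := φ.range with hUdef
  have hUcard : Nat.card U = p ^ 3 := by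
    rw [← Nat.card_congr (MonoidHom.ofInjective hφ).toEquiv, Heis.card_eq, Nat.card_zmod]
  have hU : IsPGroup p U := IsPGroup.of_card hUcard
  obtain ⟨P₀, hP₀⟩ := hU.exists_le_sylow
  obtain ⟨k, hk⟩ := (IsPGroup.iff_card).1 P₀.2
  have h3k : p ^ 3 ∣ p ^ k := by
    rw [← hUcard, ← hk]
    exact Subgroup.card_dvd_of_le hP₀
  have hk3 : 3 ≤ k := (Nat.pow_dvd_pow_iff_le_right hpp.one_lt).1 h3k
  have hdvdGL : p ^ k ∣ (p ^ 3 - 1) * (p ^ 3 - p) * (p ^ 3 - p ^ 2) := by
    rw [← hk, ← card_GL3 p]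
    have h1 : Nat.card ↥(P₀ : Subgroup ↥(Cfsg.qd p)) ∣ Nat.card ↥(Cfsg.qd p) :=
      Subgroup.card_subgroup_dvd_card _
    have h2 : Nat.card ↥(Cfsg.qd p) ∣ Nat.card (Matrix.SpecialLinearGroup (Fin 3) (ZMod p)) :=
      Subgroup.card_subgroup_dvd_card _
    have h3 : Nat.card (Matrix.SpecialLinearGroup (Fin 3) (ZMod p)) ∣
        Nat.card (Matrix.GeneralLinearGroup (Fin 3) (ZMod p)) :=
      Subgroup.card_dvd_of_injective Matrix.SpecialLinearGroup.toGL
        Matrix.SpecialLinearGroup.toGL_injective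
    exact h1.trans (h2.trans h3)
  have hk3' : k ≤ 3 := by
    by_contra hlt
    have h4 : p ^ 4 ∣ p ^ k := pow_dvd_pow p (by omega)
    exact not_p4_dvd hpp (h4.trans hdvdGL)
  have hkeq : k = 3 := le_antisymm hk3' hk3
  have hUP₀ : U = (P₀ : Subgroup ↥(Cfsg.qd p)) := by
    apply Subgroup.eq_of_le_of_card_ge hP₀
    rw [hk, hkeq, hUcard]
  let e : Heis (ZMod p) 1 ≃* ↥(P : Subgroup ↥(Cfsg.qd p)) :=
    ((MonoidHom.ofInjective hφ).trans (MulEquiv.subgroupCongr hUP₀)).trans (Sylow.equiv P₀ P)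
  exact extraspecial_of_equiv hp e

end Cfsg.Agent.S3074
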