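import Cfsg.Statements.S3075
import Mathlib

set_option autoImplicit false
open Cfsg
open scoped commutatorElement

namespace Cfsg.Agent.S3075

/-- The commutator subgroup centralizes every cyclic normal subgroup. -/
theorem commutator_le_centralizer_of_isCyclic {N : Type*} [Group N] (B : Subgroup N) [B.Normal]
    [IsCyclic B] : commutator N ≤ Subgroup.centralizer (B : Set N) := by
  have hcomm : ∀ f g : MulAut B, f * g = g * f := by
    intro f g
    apply (IsCyclic.mulAutMulEquiv B).injective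
    rw [map_mul, map_mul, mul_comm]
  rw [commutator_def, Subgroup.commutator_le]
  intro n _ m _
  have h1 : (MulAut.conjNormal ⁅n, m⁆ : MulAut B) = 1 := by
    rw [map_commutatorElement, commutatorElement_eq_one_iff_mul_comm]
    exact hcomm _ _
  rw [Subgroup.mem_centralizer_iff]
  intro b hb
  have h2 := congrArg (fun f : MulAut B => ((f ⟨b, hb⟩ : B) : N)) h1
  simp only [MulAut.conjNormal_apply, MulAut.one_apply] at h2
  -- h2 : ⁅n, m⁆ * b * ⁅n, m⁆⁻¹ = b
  calc b * ⁅n, m⁆ = (⁅n, m⁆ * b * ⁅n, m⁆⁻¹) * ⁅n, m⁆ := by rw [h2]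
    _ = ⁅n, m⁆ * b := by group

/-- The splitting lemma: an element inverting an abelian normal subgroup of odd order and
central modulo it yields a complement, its centralizer. -/
theorem split_of_inverting {N : Type*} [Group N] [Finite N] (A : Subgroup N) [A.Normal]
    (hAcomm : IsMulCommutative A) (hodd : Odd (Nat.card A)) (t : N)
    (hinv : ∀ a ∈ A, t * a * t⁻¹ = a⁻¹) (hcen : ∀ n : N, n * t * n⁻¹ * t⁻¹ ∈ A) :
    A ⊓ Subgroup.centralizer ({t} : Set N) = ⊥ ∧ A ⊔ Subgroup.centralizer ({t} : Set N) = ⊤ := by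
  have hsq : ∀ a ∈ A, a * a = 1 → a = 1 := by
    intro a ha h
    have h1 : orderOf a ∣ 2 := orderOf_dvd_of_pow_eq_one (by rw [pow_two]; exact h)
    have h2 : orderOf a ∣ Nat.card A := by
      have := orderOf_dvd_natCard (⟨a, ha⟩ : A)
      rwa [Subgroup.orderOf_mk] at this
    have h3 : orderOf a ∣ Nat.gcd 2 (Nat.card A) := Nat.dvd_gcd h1 h2
    have h4 : Nat.gcd 2 (Nat.card A) = 1 := Nat.coprime_two_left.2 hodd
    rw [h4, Nat.dvd_one] at h3
    exact orderOf_eq_one_iff.1 h3
  constructor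
  · rw [eq_bot_iff]
    intro a ha
    obtain ⟨haA, hac⟩ := Subgroup.mem_inf.1 ha
    rw [Subgroup.mem_centralizer_singleton_iff] at hac
    -- hac : a * t = t * a
    have h1 : t * a * t⁻¹ = a := by rw [← hac]; group
    have h2 := hinv a haA
    rw [h1] at h2
    rw [Subgroup.mem_bot]
    apply hsq a haA
    calc a * a = a * a⁻¹ := by rw [← h2]
      _ = 1 := mul_inv_cancel a
  · rw [eq_top_iff]
    intro n _
    obtain ⟨k, hk⟩ := hodd
    set c := n * t * n⁻¹ * t⁻¹ with hc
    have hcA : c ∈ A := hcen n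
    set b := c ^ (k + 1) with hb
    have hbA : b ∈ A := A.pow_mem hcA _
    have hbb : b * b = c := by
      have h1 : c ^ (Nat.card A) = 1 := by
        have := pow_card_eq_one' (G := A) (x := ⟨c, hcA⟩)
        exact congrArg Subtype.val this
      calc b * b = c ^ (2 * k + 1) * c := by rw [hb, ← pow_add, ← pow_succ]; congr 1; ring
        _ = c := by rw [← hk, h1, one_mul]
    have hmem : b⁻¹ * n ∈ Subgroup.centralizer ({t} : Set N) := by
      rw [Subgroup.mem_centralizer_singleton_iff]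
      -- t * (b⁻¹ * n) = (b⁻¹ * n) * t
      have h1 : t * b⁻¹ * t⁻¹ = b := by
        have := hinv b⁻¹ (A.inv_mem hbA)
        rwa [inv_inv] at this
      have h2 : n * t = c * t * n := by rw [hc]; group
      symm
      calc t * (b⁻¹ * n) = (t * b⁻¹ * t⁻¹) * t * n := by group
        _ = b * t * n := by rw [h1]
        _ = b⁻¹ * (b * b) * t * n := by group
        _ = b⁻¹ * c * t * n := by rw [hbb]
        _ = b⁻¹ * (c * t * n) := by group
        _ = b⁻¹ * (n * t) := by rw [h2]
        _ = b⁻¹ * n * t := by group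
    have : n = b * (b⁻¹ * n) := by group
    rw [this]
    exact Subgroup.mul_mem_sup hbA hmem


/-- The central element `-1` of `SL₂(F)`. -/
def zM (F : Type*) [Field F] : Matrix.SpecialLinearGroup (Fin 2) F :=
  ⟨Matrix.scalar (Fin 2) (-1), by simp⟩

theorem zM_mem_center (F : Type*) [Field F] :
    zM F ∈ Subgroup.center (Matrix.SpecialLinearGroup (Fin 2) F) := by
  rw [Matrix.SpecialLinearGroup.mem_center_iff]
  exact ⟨-1, by simp, rfl⟩

theorem zM_mul_self (F : Type*) [Field F] : zM F * zM F = 1 := by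
  apply Subtype.ext
  rw [Matrix.SpecialLinearGroup.coe_mul]
  simp [zM]

theorem zM_ne_one (F : Type*) [Field F] (h2 : (2 : F) ≠ 0) : zM F ≠ 1 := by
  intro h
  have := congrArg (fun M : Matrix.SpecialLinearGroup (Fin 2) F =>
    (M : Matrix (Fin 2) (Fin 2) F) 0 0) h
  simp [zM] at this
  apply h2
  linear_combination (-1 : F) * this

theorem sl2_not_comm (F : Type*) [Field F] :
    ¬ (∀ a b : Matrix.SpecialLinearGroup (Fin 2) F, a * b = b * a) := by
  intro h
  let a : Matrix.SpecialLinearGroup (Fin 2) F := ⟨!![1, 1; 0, 1], by simp [Matrix.det_fin_two]⟩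
  let b : Matrix.SpecialLinearGroup (Fin 2) F := ⟨!![1, 0; 1, 1], by simp [Matrix.det_fin_two]⟩
  have h1 : (a * b : Matrix.SpecialLinearGroup (Fin 2) F).1 =
      (b * a : Matrix.SpecialLinearGroup (Fin 2) F).1 := by rw [h a b]
  have h2 : (a * b : Matrix.SpecialLinearGroup (Fin 2) F).1 = a.1 * b.1 := rfl
  have h3 : (b * a : Matrix.SpecialLinearGroup (Fin 2) F).1 = b.1 * a.1 := rfl
  rw [h2, h3] at h1
  have := congrFun (congrFun h1 0) 0
  simp [a, b, Matrix.mul_apply, Fin.sum_univ_two] at this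

theorem two_ne_zero_of_card {F : Type*} [Field F] [Fintype F] {p : ℕ} [Fact p.Prime] (hp : p ≠ 2)
    (hF : Fintype.card F = p) : (2 : F) ≠ 0 := by
  have hp' : p.Prime := Fact.out
  intro h2
  have hpF : (p : F) = 0 := by rw [← hF]; exact Nat.cast_card_eq_zero F
  obtain ⟨k, hk⟩ := hp'.eq_two_or_odd'.resolve_left hp
  rw [hk] at hpF; push_cast at hpF; rw [h2, zero_mul, zero_add] at hpF; exact one_ne_zero hpF

/-- A subgroup of a group of order `p ^ 2` that is neither trivial nor everything has order `p`. -/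
theorem card_eq_prime {N : Type*} [Group N] [Finite N] {p : ℕ} [Fact p.Prime] (A B : Subgroup N)
    (hAcard : Nat.card A = p ^ 2) (hBA : B ≤ A) (hB1 : B ≠ ⊥) (hBA' : B ≠ A) : Nat.card B = p := by
  have hp' : p.Prime := Fact.out
  have h1 : Nat.card B ∣ p ^ 2 := hAcard ▸ Subgroup.card_dvd_of_le hBA
  obtain ⟨j, hj2, hj⟩ := (Nat.dvd_prime_pow hp').1 h1
  interval_cases j
  · exfalso; apply hB1; rw [← Subgroup.card_eq_one]; simpa using hj
  · simpa using hj
  · exfalso; apply hBA'
    exact Subgroup.eq_of_le_of_card_ge hBA (by rw [hj, hAcard])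

/-- Let p be an odd prime and N a finite group with a normal elementary abelian subgroup A of order p² that is its own centralizer in N, such that N/A is isomorphic to SL₂(p) (over any field F with p elements). Then N splits over A: some subgroup U of N satisfies A ∩ U = 1 and AU = N. -/
theorem result {N : Type*} [Group N] [Finite N] {p : ℕ} [Fact p.Prime] (hp : p ≠ 2)
    (A : Subgroup N) [A.Normal] (hAcomm : IsMulCommutative A) (hAcard : Nat.card A = p ^ 2) (hAexp : Monoid.exponent ↥A = p)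
    (hAself : Subgroup.centralizer (A : Set N) = A)
    {F : Type*} [Field F] [Fintype F] (hF : Fintype.card F = p) (e : N ⧸ A ≃* Matrix.SpecialLinearGroup (Fin 2) F) :
    ∃ U : Subgroup N, A ⊓ U = ⊥ ∧ A ⊔ U = ⊤ := by
  have hp' : p.Prime := Fact.out
  have h2F : (2 : F) ≠ 0 := two_ne_zero_of_card hp hF
  have hodd : Odd (Nat.card A) := by
    rw [hAcard]
    exact (hp'.eq_two_or_odd'.resolve_left hp).pow
  have hcommA : ∀ a ∈ A, ∀ b ∈ A, a * b = b * a := fun a ha b hb =>
    setLike_mul_comm ha hb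
  -- lift the central involution
  obtain ⟨t, ht⟩ := QuotientGroup.mk_surjective (e.symm (zM F))
  have het : e (QuotientGroup.mk t) = zM F := by rw [ht]; simp
  have htA : t ∉ A := by
    intro h
    have h1 : (QuotientGroup.mk t : N ⧸ A) = 1 := (QuotientGroup.eq_one_iff t).2 h
    rw [h1, map_one] at het
    exact zM_ne_one F h2F het.symm
  have htt : t * t ∈ A := by
    rw [← QuotientGroup.eq_one_iff, QuotientGroup.mk_mul]
    apply e.injective
    rw [map_mul, het, zM_mul_self, map_one]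
  have hcen : ∀ n : N, n * t * n⁻¹ * t⁻¹ ∈ A := by
    intro n
    rw [← QuotientGroup.eq_one_iff]
    apply e.injective
    simp only [QuotientGroup.mk_mul, QuotientGroup.mk_inv, map_mul, map_inv, het, map_one]
    have := Subgroup.mem_center_iff.1 (zM_mem_center F) (e (QuotientGroup.mk n))
    -- this : e n * z = z * e n
    rw [this]; group
  -- conjugation by t on A
  have hτA : ∀ a ∈ A, t * a * t⁻¹ ∈ A := fun a ha => (inferInstance : A.Normal).conj_mem a ha t
  have hττ : ∀ a ∈ A, t * (t * a * t⁻¹) * t⁻¹ = a := by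
    intro a ha
    have := hcommA (t * t) htt a ha
    calc t * (t * a * t⁻¹) * t⁻¹ = (t * t) * a * (t * t)⁻¹ := by group
      _ = a * (t * t) * (t * t)⁻¹ := by rw [this]
      _ = a := by group
  have hτconj : ∀ a ∈ A, ∀ n : N, t * (n * a * n⁻¹) * t⁻¹ = n * (t * a * t⁻¹) * n⁻¹ := by
    intro a ha n
    set c := n⁻¹ * t * n⁻¹⁻¹ * t⁻¹ with hc
    have hcA : c ∈ A := hcen n⁻¹
    have h1 : t * n = n * c * t := by rw [hc]; group
    have h2 := hcommA c hcA (t * a * t⁻¹) (hτA a ha)
    calc t * (n * a * n⁻¹) * t⁻¹ = (t * n) * a * (t * n)⁻¹ := by group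
      _ = (n * c * t) * a * (n * c * t)⁻¹ := by rw [h1]
      _ = n * (c * (t * a * t⁻¹)) * c⁻¹ * n⁻¹ := by group
      _ = n * ((t * a * t⁻¹) * c) * c⁻¹ * n⁻¹ := by rw [h2]
      _ = n * (t * a * t⁻¹) * n⁻¹ := by group
  -- the two eigen-subgroups
  let Ap : Subgroup N := A ⊓ Subgroup.centralizer ({t} : Set N)
  let Am : Subgroup N :=
    { carrier := {a | a ∈ A ∧ t * a * t⁻¹ = a⁻¹}
      one_mem' := ⟨A.one_mem, by simp⟩
      mul_mem' := by
        rintro a b ⟨ha, ha'⟩ ⟨hb, hb'⟩
        refine ⟨A.mul_mem ha hb, ?_⟩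
        calc t * (a * b) * t⁻¹ = (t * a * t⁻¹) * (t * b * t⁻¹) := by group
          _ = a⁻¹ * b⁻¹ := by rw [ha', hb']
          _ = (a * b)⁻¹ := by
            rw [mul_inv_rev]
            exact hcommA _ (A.inv_mem ha) _ (A.inv_mem hb)
      inv_mem' := by
        rintro a ⟨ha, ha'⟩
        refine ⟨A.inv_mem ha, ?_⟩
        calc t * a⁻¹ * t⁻¹ = (t * a * t⁻¹)⁻¹ := by group
          _ = a⁻¹⁻¹ := by rw [ha'] }
  have hApmem : ∀ a, a ∈ Ap ↔ a ∈ A ∧ t * a * t⁻¹ = a := by
    intro a
    rw [Subgroup.mem_inf, Subgroup.mem_centralizer_singleton_iff]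
    constructor
    · rintro ⟨ha, h⟩
      refine ⟨ha, ?_⟩
      rw [← h]; group
    · rintro ⟨ha, h⟩
      refine ⟨ha, ?_⟩
      calc a * t = (t * a * t⁻¹) * t := by rw [h]
        _ = t * a := by group
  have hAmmem : ∀ a, a ∈ Am ↔ a ∈ A ∧ t * a * t⁻¹ = a⁻¹ := fun a => Iff.rfl
  have hApA : Ap ≤ A := inf_le_left
  have hAmA : Am ≤ A := fun a ha => ha.1
  have hApN : Ap.Normal := by
    constructor
    intro a ha n
    rw [hApmem] at ha ⊢
    refine ⟨(inferInstance : A.Normal).conj_mem a ha.1 n, ?_⟩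
    rw [hτconj a ha.1 n, ha.2]
  have hAmN : Am.Normal := by
    constructor
    intro a ha n
    rw [hAmmem] at ha ⊢
    refine ⟨(inferInstance : A.Normal).conj_mem a ha.1 n, ?_⟩
    rw [hτconj a ha.1 n, ha.2]; group
  have hsq : ∀ a ∈ A, a * a = 1 → a = 1 := by
    intro a ha h
    have h1 : orderOf a ∣ 2 := orderOf_dvd_of_pow_eq_one (by rw [pow_two]; exact h)
    have h2 : orderOf a ∣ Nat.card A := by
      have := orderOf_dvd_natCard (⟨a, ha⟩ : A)
      rwa [Subgroup.orderOf_mk] at this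
    have h3 : orderOf a ∣ Nat.gcd 2 (Nat.card A) := Nat.dvd_gcd h1 h2
    have h4 : Nat.gcd 2 (Nat.card A) = 1 := Nat.coprime_two_left.2 hodd
    rw [h4, Nat.dvd_one] at h3
    exact orderOf_eq_one_iff.1 h3
  have hinf : Ap ⊓ Am = ⊥ := by
    rw [eq_bot_iff]
    intro a ha
    obtain ⟨h1, h2⟩ := Subgroup.mem_inf.1 ha
    rw [hApmem] at h1
    rw [hAmmem] at h2
    rw [Subgroup.mem_bot]
    apply hsq a h1.1
    have : a = a⁻¹ := h1.2.symm.trans h2.2
    calc a * a = a * a⁻¹ := by rw [← this]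
      _ = 1 := mul_inv_cancel a
  have hmemp : ∀ a ∈ A, a * (t * a * t⁻¹) ∈ Ap := by
    intro a ha
    rw [hApmem]
    refine ⟨A.mul_mem ha (hτA a ha), ?_⟩
    calc t * (a * (t * a * t⁻¹)) * t⁻¹ = (t * a * t⁻¹) * (t * (t * a * t⁻¹) * t⁻¹) := by group
      _ = (t * a * t⁻¹) * a := by rw [hττ a ha]
      _ = a * (t * a * t⁻¹) := hcommA _ (hτA a ha) _ ha
  have hmemm : ∀ a ∈ A, a * (t * a * t⁻¹)⁻¹ ∈ Am := by
    intro a ha
    rw [hAmmem]
    refine ⟨A.mul_mem ha (A.inv_mem (hτA a ha)), ?_⟩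
    calc t * (a * (t * a * t⁻¹)⁻¹) * t⁻¹ = (t * a * t⁻¹) * (t * (t * a * t⁻¹) * t⁻¹)⁻¹ := by group
      _ = (t * a * t⁻¹) * a⁻¹ := by rw [hττ a ha]
      _ = a⁻¹ * (t * a * t⁻¹) := hcommA _ (hτA a ha) _ (A.inv_mem ha)
      _ = (a * (t * a * t⁻¹)⁻¹)⁻¹ := by
        rw [mul_inv_rev, inv_inv]
        exact hcommA _ (A.inv_mem ha) _ (hτA a ha)
  -- `Am` is nontrivial, else `t` centralizes `A`
  have hAm1 : Am ≠ ⊥ := by
    intro h
    apply htA
    rw [← hAself, Subgroup.mem_centralizer_iff]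
    intro a ha
    have h1 := hmemm a ha
    rw [h, Subgroup.mem_bot] at h1
    -- a = t a t⁻¹
    have h2 : a = t * a * t⁻¹ := by
      calc a = a * (t * a * t⁻¹)⁻¹ * (t * a * t⁻¹) := by group
        _ = t * a * t⁻¹ := by rw [h1, one_mul]
    calc a * t = (t * a * t⁻¹) * t := by rw [← h2]
      _ = t * a := by group
  -- `Ap` must be trivial
  have hAp1 : Ap = ⊥ := by
    by_contra hne
    have hApne : Ap ≠ A := by
      intro h
      apply hAm1
      rw [← inf_of_le_right hAmA, ← h]
      exact hinf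
    have hAmne : Am ≠ A := by
      intro h
      apply hne
      rw [← inf_of_le_left hApA, ← h]
      exact hinf
    have hcp : Nat.card Ap = p := card_eq_prime A Ap hAcard hApA hne hApne
    have hcm : Nat.card Am = p := card_eq_prime A Am hAcard hAmA hAm1 hAmne
    haveI : IsCyclic Ap := isCyclic_of_prime_card hcp
    haveI : IsCyclic Am := isCyclic_of_prime_card hcm
    have h1 := commutator_le_centralizer_of_isCyclic Ap
    have h2 := commutator_le_centralizer_of_isCyclic Am
    -- Ap ⊔ Am = A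
    have hsup : Ap ⊔ Am = A := by
      by_contra hsne
      have hsle : Ap ⊔ Am ≤ A := sup_le hApA hAmA
      have hs1 : Ap ⊔ Am ≠ ⊥ := fun h => hne (le_bot_iff.1 (h ▸ le_sup_left))
      have hcs : Nat.card ↥(Ap ⊔ Am) = p := card_eq_prime A (Ap ⊔ Am) hAcard hsle hs1 hsne
      have hApeq : Ap = Ap ⊔ Am := Subgroup.eq_of_le_of_card_ge le_sup_left (by rw [hcs, hcp])
      apply hAm1
      have : Am ≤ Ap := by
        calc Am ≤ Ap ⊔ Am := le_sup_right
          _ = Ap := hApeq.symm
      rw [← inf_of_le_right this]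
      exact hinf
    have h3 : commutator N ≤ A := by
      have : commutator N ≤ Subgroup.centralizer (A : Set N) := by
        intro x hx
        have hx1 := h1 hx
        have hx2 := h2 hx
        rw [Subgroup.mem_centralizer_iff] at hx1 hx2 ⊢
        have hle : Ap ⊔ Am ≤ Subgroup.centralizer ({x} : Set N) := by
          apply sup_le
          · intro a ha
            rw [Subgroup.mem_centralizer_singleton_iff]
            exact hx1 a ha
          · intro a ha
            rw [Subgroup.mem_centralizer_singleton_iff]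
            exact hx2 a ha
        intro a ha
        have := hle (hsup ▸ ha)
        rw [Subgroup.mem_centralizer_singleton_iff] at this
        exact this
      rwa [hAself] at this
    apply sl2_not_comm F
    intro a b
    obtain ⟨a', rfl⟩ := e.surjective a
    obtain ⟨b', rfl⟩ := e.surjective b
    obtain ⟨a'', rfl⟩ := QuotientGroup.mk_surjective a'
    obtain ⟨b'', rfl⟩ := QuotientGroup.mk_surjective b'
    rw [← map_mul, ← map_mul]
    congr 1
    rw [← QuotientGroup.mk_mul, ← QuotientGroup.mk_mul, QuotientGroup.eq]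
    apply h3
    rw [commutator_def]
    have : (a'' * b'')⁻¹ * (b'' * a'') = ⁅b''⁻¹, a''⁻¹⁆ := by
      rw [commutatorElement_def]; group
    rw [this]
    exact Subgroup.commutator_mem_commutator (Subgroup.mem_top _) (Subgroup.mem_top _)
  -- hence `t` inverts `A`
  have hinv : ∀ a ∈ A, t * a * t⁻¹ = a⁻¹ := by
    intro a ha
    have h1 := hmemp a ha
    rw [hAp1, Subgroup.mem_bot] at h1
    calc t * a * t⁻¹ = a⁻¹ * (a * (t * a * t⁻¹)) := by group
      _ = a⁻¹ := by rw [h1, mul_one]
  exact ⟨Subgroup.centralizer ({t} : Set N), split_of_inverting A hAcomm hodd t hinv hcen⟩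

end Cfsg.Agent.S3075
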