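import Cfsg.Statements.S3076
import Cfsg.Agent.Lib.Helper48.CentricRadical

set_option autoImplicit false
open Cfsg

namespace Cfsg.Agent.S3076

/-- Let P be a Sylow p-subgroup of the finite group G and H ≤ P a subgroup with N_P(H) a Sylow p-subgroup of N_G(H). Let N be the preimage in N_G(H) of O_p(N_G(H)/C_G(H)). Then H is a Sylow p-subgroup of N if and only if C_P(H) ≤ H and O_{p',p}(N_G(H)) = H·C_G(H). -/
theorem result {G : Type*} [Group G] [Finite G] {p : ℕ} [Fact p.Prime]
    (P : Sylow p G) (H : Subgroup G) (hHP : H ≤ (P : Subgroup G))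
    (hSyl : ¬ p ∣ ((P : Subgroup G) ⊓ Subgroup.normalizer (H : Set G)).relIndex (Subgroup.normalizer (H : Set G)))
    [hC : ((Subgroup.centralizer (H : Set G)).subgroupOf (Subgroup.normalizer (H : Set G))).Normal] :
    (H ≤ ((Cfsg.pCore p (↥(Subgroup.normalizer (H : Set G)) ⧸
              (Subgroup.centralizer (H : Set G)).subgroupOf (Subgroup.normalizer (H : Set G)))).comap
            (QuotientGroup.mk' _)).map (Subgroup.normalizer (H : Set G)).subtype ∧
      ¬ p ∣ H.relIndex (((Cfsg.pCore p (↥(Subgroup.normalizer (H : Set G)) ⧸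
              (Subgroup.centralizer (H : Set G)).subgroupOf (Subgroup.normalizer (H : Set G)))).comap
            (QuotientGroup.mk' _)).map (Subgroup.normalizer (H : Set G)).subtype)) ↔
    ((P : Subgroup G) ⊓ Subgroup.centralizer (H : Set G) ≤ H ∧
      (Cfsg.pPrimePCore p ↥(Subgroup.normalizer (H : Set G))).map (Subgroup.normalizer (H : Set G)).subtype =
        H ⊔ Subgroup.centralizer (H : Set G)) := by
  classical
  set Nm := Subgroup.normalizer (H : Set G) with hNm
  have hHN : H ≤ Nm := Subgroup.le_normalizer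
  have hCN : Subgroup.centralizer (H : Set G) ≤ Nm := Subgroup.centralizer_le_normalizer _
  -- the subgroups inside the normalizer
  set HX : Subgroup Nm := H.subgroupOf Nm with hHX
  set CX : Subgroup Nm := (Subgroup.centralizer (H : Set G)).subgroupOf Nm with hCX
  have hHXn : HX.Normal := Subgroup.normal_in_normalizer
  have hHp : IsPGroup p H := P.isPGroup'.to_le hHP
  have hHXp : IsPGroup p HX := hHp.comap_of_injective Nm.subtype Nm.subtype_injective
  -- the Sylow subgroup of the normalizer
  have hTp : IsPGroup p (((P : Subgroup G) ⊓ Nm).subgroupOf Nm) :=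
    (P.isPGroup'.to_le inf_le_left).comap_of_injective Nm.subtype Nm.subtype_injective
  let T : Sylow p Nm := hTp.toSylow hSyl
  have hT : (T : Subgroup Nm) = ((P : Subgroup G) ⊓ Nm).subgroupOf Nm := rfl
  -- the centralizer
  have hCeq : CX = Subgroup.centralizer (HX : Set Nm) := by
    ext x
    rw [hCX, Subgroup.mem_subgroupOf, Subgroup.mem_centralizer_iff, Subgroup.mem_centralizer_iff]
    constructor
    · intro h y hy
      apply Subtype.ext
      have := h (y : G) (Subgroup.mem_subgroupOf.mp hy)
      simpa using this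
    · intro h g hg
      have := h ⟨g, hHN hg⟩ (Subgroup.mem_subgroupOf.mpr hg)
      have := congrArg Subtype.val this
      simpa using this
  have key := Lib.Helper48.CR.main' HX hHXp T CX hCeq
  -- translations
  have hmapH : HX.map Nm.subtype = H := Subgroup.map_subgroupOf_eq_of_le hHN
  have hmapC : CX.map Nm.subtype = Subgroup.centralizer (H : Set G) :=
    Subgroup.map_subgroupOf_eq_of_le hCN
  have hinj : Function.Injective Nm.subtype := Nm.subtype_injective
  set N := (Cfsg.pCore p (↥Nm ⧸ CX)).comap (QuotientGroup.mk' CX) with hN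
  have t1 : H ≤ N.map Nm.subtype ↔ HX ≤ N := by
    conv_lhs => rw [← hmapH]
    exact Subgroup.map_le_map_iff_of_injective hinj
  have t2 : H.relIndex (N.map Nm.subtype) = HX.relIndex N := by
    conv_lhs => rw [← hmapH]
    exact Subgroup.relIndex_map_map_of_injective HX N hinj
  have t3 : (P : Subgroup G) ⊓ Subgroup.centralizer (H : Set G) ≤ H ↔
      (T : Subgroup Nm) ⊓ CX ≤ HX := by
    constructor
    · intro h y hy
      rw [Subgroup.mem_inf, hT, Subgroup.mem_subgroupOf, hCX, Subgroup.mem_subgroupOf] at hy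
      exact Subgroup.mem_subgroupOf.mpr (h ⟨hy.1.1, hy.2⟩)
    · intro h g hg
      have hgN : g ∈ Nm := hCN hg.2
      have : (⟨g, hgN⟩ : Nm) ∈ (T : Subgroup Nm) ⊓ CX := by
        rw [Subgroup.mem_inf, hT, Subgroup.mem_subgroupOf, hCX, Subgroup.mem_subgroupOf]
        exact ⟨⟨hg.1, hgN⟩, hg.2⟩
      exact Subgroup.mem_subgroupOf.mp (h this)
  have t4 : (Cfsg.pPrimePCore p ↥Nm).map Nm.subtype = H ⊔ Subgroup.centralizer (H : Set G) ↔
      Cfsg.pPrimePCore p ↥Nm = HX ⊔ CX := by
    have hsup : H ⊔ Subgroup.centralizer (H : Set G) = (HX ⊔ CX).map Nm.subtype := by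
      rw [Subgroup.map_sup, hmapH, hmapC]
    rw [hsup]
    exact (Subgroup.map_injective hinj).eq_iff
  rw [t1, t2, t3, t4]
  exact key

end Cfsg.Agent.S3076
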