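import Cfsg.Statements.S3078
import Cfsg.Agent.Lib.Helper35.GlaubermanRank
import Cfsg.Agent.Lib.Helper11.Stable
import Cfsg.Agent.S0649

set_option autoImplicit false
open Cfsg

namespace Cfsg.Agent.S3078

open Cfsg.Agent.Lib.Helper11

/-- A replacement Theorem for abelian subgroups of p-groups, p odd. Let G be a finite p-group with p odd, A an abelian subgroup of G, and B a subgroup of nilpotency class at most 2 with [B, B] ≤ A, such that A normalizes B but B does not normalize A. Then there is an abelian subgroup A* of G of the same order as A with A ∩ B strictly contained in A* ∩ B, A* contained in N_G(A) and in the normal closure of A, the exponent of A* dividing the exponent of A, and with the subgroup generated by the elements of order dividing p in A of order at most that of the corresponding subgroup of A* (the rank of A is at most the rank of A*). -/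
theorem result {G : Type*} [Group G] [Finite G] {p : ℕ} [Fact p.Prime] (hp : p ≠ 2) (hG : IsPGroup p G) (A B : Subgroup G) (hA : IsMulCommutative A) (hB2 : ⁅⁅B, B⁆, B⁆ = ⊥) (hBA : ⁅B, B⁆ ≤ A) (hAB : A ≤ Subgroup.normalizer (B : Set G)) (hBnA : ¬ B ≤ Subgroup.normalizer (A : Set G)) : ∃ Astar : Subgroup G, IsMulCommutative Astar ∧ Nat.card Astar = Nat.card A ∧ A ⊓ B < Astar ⊓ B ∧ Astar ≤ Subgroup.normalizer (A : Set G) ∧ Astar ≤ Subgroup.normalClosure (A : Set G) ∧ Monoid.exponent Astar ∣ Monoid.exponent A ∧ Nat.card (Cfsg.omegaOne p A) ≤ Nat.card (Cfsg.omegaOne p Astar) := by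
  classical
  set S : Subgroup G := A ⊔ B with hS
  have hAS : A ≤ S := le_sup_left
  have hBS : B ≤ S := le_sup_right
  set A' : Subgroup S := A.subgroupOf S with hA'
  set B' : Subgroup S := B.subgroupOf S with hB'
  have hSp : IsPGroup p S := hG.to_subgroup S
  have hSN : S ≤ Subgroup.normalizer (B : Set G) := sup_le hAB Subgroup.le_normalizer
  haveI hBn : B'.Normal := (Subgroup.normal_subgroupOf_iff_le_normalizer hBS).mpr hSN
  have hmapA : A'.map S.subtype = A := Subgroup.map_subgroupOf_eq_of_le hAS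
  have hmapB : B'.map S.subtype = B := Subgroup.map_subgroupOf_eq_of_le hBS
  haveI hA'c : IsMulCommutative A' := inferInstance
  have hBA' : ⁅B', B'⁆ ≤ A' := by
    have h0 : (⁅B', B'⁆).map S.subtype ≤ A := by
      rw [Subgroup.map_commutator, hmapB]
      exact hBA
    exact Subgroup.map_le_iff_le_comap.mp h0
  have hnot : ¬ B' ≤ Subgroup.normalizer (A' : Set S) := by
    intro hle
    apply hBnA
    intro x hx
    have hx' : (⟨x, hBS hx⟩ : S) ∈ B' := Subgroup.mem_subgroupOf.mpr hx
    have hxn := hle hx'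
    apply mem_normalizer_of_conj_mem
    intro a ha
    have ha' : (⟨a, hAS ha⟩ : S) ∈ A' := Subgroup.mem_subgroupOf.mpr ha
    have := (Subgroup.mem_normalizer_iff.mp hxn _).mp ha'
    exact Subgroup.mem_subgroupOf.mp this
  have hB2' : p = 2 → IsMulCommutative B' := fun h => absurd h hp
  obtain ⟨b, hbB, hbNN, hbN⟩ := Cfsg.Agent.S0649.result hSp B' hB2' A' hA'c hBA' hnot
  have hset : RSetup A' B' b := by
    refine ⟨hBn, ?_, hBA', hbB, hbNN⟩
    intro x hx y hy
    have := hA'c.is_comm.comm ⟨x, hx⟩ ⟨y, hy⟩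
    exact congrArg Subtype.val this
  set T : Subgroup S := rStar A' b with hT
  have hinj : Function.Injective S.subtype := S.subtype_injective
  refine ⟨T.map S.subtype, ?_, ?_, ?_, ?_, ?_, ?_, ?_⟩
  · haveI := hset.rStar_comm hSp hB2'
    exact Subgroup.map_isMulCommutative T S.subtype
  · rw [Subgroup.card_map_of_injective hinj, hset.card_rStar]
    rw [← hmapA, Subgroup.card_map_of_injective hinj]
  · have hle : A ⊓ B ≤ T.map S.subtype ⊓ B := by
      refine le_inf ?_ inf_le_right
      intro x hx
      obtain ⟨hxA, hxB⟩ := Subgroup.mem_inf.mp hx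
      refine ⟨⟨x, hAS hxA⟩, ?_, rfl⟩
      apply le_sup_left (b := rK A' b)
      apply hset.inf_le_rZ
      exact Subgroup.mem_inf.mpr ⟨Subgroup.mem_subgroupOf.mpr hxA, Subgroup.mem_subgroupOf.mpr hxB⟩
    refine lt_of_le_of_ne hle ?_
    intro heq
    obtain ⟨g, hg, hgA⟩ := hset.exists_rGens_not_mem hbN
    have hgK : g ∈ rK A' b := Subgroup.subset_closure hg
    have hgT : g ∈ T := le_sup_right (a := rZ A' b) hgK
    have hgB : g ∈ B' := hset.rK_le_B hgK
    have h1 : (g : G) ∈ T.map S.subtype ⊓ B :=
      Subgroup.mem_inf.mpr ⟨⟨g, hgT, rfl⟩, Subgroup.mem_subgroupOf.mp hgB⟩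
    rw [← heq] at h1
    exact hgA (Subgroup.mem_subgroupOf.mpr (Subgroup.mem_inf.mp h1).1)
  · rintro _ ⟨x, hx, rfl⟩
    have hxN := hset.rStar_le_N hx
    apply mem_normalizer_of_conj_mem
    intro a ha
    have ha' : (⟨a, hAS ha⟩ : S) ∈ A' := Subgroup.mem_subgroupOf.mpr ha
    have := (Subgroup.mem_normalizer_iff.mp hxN _).mp ha'
    exact Subgroup.mem_subgroupOf.mp this
  · have h1 : T.map S.subtype ≤ (A' ⊔ rA1 A' b).map S.subtype := Subgroup.map_mono rStar_le_sup
    refine h1.trans ?_
    rw [Subgroup.map_sup, hmapA]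
    refine sup_le Subgroup.le_normalClosure ?_
    rintro _ ⟨x, hx, rfl⟩
    have hx := (mem_rA1 A' b x).mp hx
    have hx' : ((b * x * b⁻¹ : S) : G) ∈ A := Subgroup.mem_subgroupOf.mp hx
    have h2 : (S.subtype x : G) = (b : G)⁻¹ * ((b * x * b⁻¹ : S) : G) * ((b : G)⁻¹)⁻¹ := by
      simp only [Subgroup.coe_mul, Subgroup.coe_inv, Subgroup.subtype_apply]
      group
    rw [h2]
    exact (Subgroup.normalClosure_normal).conj_mem _ (Subgroup.le_normalClosure hx') _
  · have h1 := hset.exponent_rStar_dvd hSp hB2' hp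
    have e1 : Monoid.exponent (T.map S.subtype) = Monoid.exponent T :=
      (Monoid.exponent_eq_of_mulEquiv (T.equivMapOfInjective S.subtype hinj)).symm
    have e2 : Monoid.exponent A' = Monoid.exponent A :=
      Monoid.exponent_eq_of_mulEquiv (Subgroup.subgroupOfEquivOfLe hAS)
    rw [e1, ← e2]
    exact h1
  · have h1 := Cfsg.Agent.Lib.Helper35.GlRank.card_omegaOne_le hset hp
    rw [← map_omegaOne_of_injective p S.subtype hinj T, Subgroup.card_map_of_injective hinj]
    have : Cfsg.omegaOne p A = (Cfsg.omegaOne p A').map S.subtype := by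
      rw [map_omegaOne_of_injective p S.subtype hinj A', hmapA]
    rw [this, Subgroup.card_map_of_injective hinj]
    exact h1

end Cfsg.Agent.S3078
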