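import Cfsg.Statements.S3084
import Cfsg.Agent.Lib.Helper29.ExtraExt
import Cfsg.Agent.Lib.Helper29.WittPlus

set_option autoImplicit false
open Cfsg

namespace Cfsg.Agent.S3084

/-- Let K be a group acting faithfully and linearly on a finite-dimensional vector space U of dimension 2n ≥ 2 over the field with two elements, preserving a quadratic form q whose polar bilinear form is non-degenerate and which vanishes on some n-dimensional subspace (a non-singular form of plus type). Then there is a finite group R with a normal extraspecial 2-subgroup Q of order 2^(2n+1), an isomorphism of R/Q with K, and a surjective homomorphism χ from Q onto (the additive group of) U with kernel the centre of Q, such that χ carries conjugation by any r in R to the action of the image of r in K, and an element a of Q squares to the identity exactly when q vanishes at χ(a). -/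
theorem result {K : Type*} [Group K] {U : Type*} [AddCommGroup U] [Module (ZMod 2) U] [Module.Finite (ZMod 2) U] (n : ℕ) (hn1 : 1 ≤ n) (hn : Module.finrank (ZMod 2) U = 2 * n) (ρ : Representation (ZMod 2) K U) (hρ : Function.Injective ρ) (q : QuadraticForm (ZMod 2) U) (hq : ∀ (k : K) (u : U), q (ρ k u) = q u) (hnd : (QuadraticMap.polarBilin q).Nondegenerate) (hplus : ∃ W : Submodule (ZMod 2) U, Module.finrank (ZMod 2) ↥W = n ∧ ∀ w ∈ W, q w = 0) : ∃ (R : Type) (_ : Group R) (_ : Finite R) (Q : Subgroup R) (hN : Q.Normal) (e : R ⧸ Q ≃* K) (χ : ↥Q →* Multiplicative U), Cfsg.IsExtraspecial 2 ↥Q ∧ Nat.card ↥Q = 2 ^ (2 * n + 1) ∧ Function.Surjective χ ∧ χ.ker = Subgroup.center ↥Q ∧ (∀ (r : R) (a : ↥Q), χ ⟨r * a * r⁻¹, hN.conj_mem (a : R) a.2 r⟩ = Multiplicative.ofAdd (ρ (e (r : R ⧸ Q)) (Multiplicative.toAdd (χ a)))) ∧ ∀ a : ↥Q, a * a = 1 ↔ q (Multiplicative.toAdd (χ a)) = 0 := by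
  classical
  obtain ⟨W, hW, hqW⟩ := hplus
  obtain ⟨ψ, hψ⟩ := Cfsg.Agent.Lib.Helper29.Witt.exists_plus_coords n hn1 hn q hnd W hW hqW
  haveI : NeZero n := ⟨by omega⟩
  -- the matrices of the action
  let M : K →* Matrix (Fin n ⊕ Fin n) (Fin n ⊕ Fin n) (ZMod 2) :=
    { toFun := fun k => LinearMap.toMatrix' (ψ.toLinearMap ∘ₗ (ρ k) ∘ₗ ψ.symm.toLinearMap)
      map_one' := by
        rw [← LinearMap.toMatrix'_one]
        congr 1
        apply LinearMap.ext
        intro x
        simp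
      map_mul' := by
        intro k k'
        rw [← LinearMap.toMatrix'_mul]
        congr 1
        apply LinearMap.ext
        intro x
        simp }
  have hM : ∀ k x, Matrix.mulVec (M k) x = ψ (ρ k (ψ.symm x)) := by
    intro k x
    exact LinearMap.toMatrix'_mulVec _ _
  let κ₀ : K →* GL (Fin n ⊕ Fin n) (ZMod 2) := M.toHomUnits
  have hκ₀ : ∀ k, ((κ₀ k : GL (Fin n ⊕ Fin n) (ZMod 2)) :
      Matrix (Fin n ⊕ Fin n) (Fin n ⊕ Fin n) (ZMod 2)) = M k := fun k => MonoidHom.coe_toHomUnits _ _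
  have hmem : ∀ k, κ₀ k ∈ Cfsg.isometryGroup (ZMod 2) (Cfsg.Agent.Lib.Helper29.Schro.Qp n) := by
    intro k u _
    show Cfsg.quadFormPlus n (ZMod 2) (Matrix.mulVec ((κ₀ k : GL (Fin n ⊕ Fin n) (ZMod 2)) :
      Matrix (Fin n ⊕ Fin n) (Fin n ⊕ Fin n) (ZMod 2)) u) = Cfsg.quadFormPlus n (ZMod 2) u
    rw [hκ₀, hM, ← hψ, hq, hψ, ψ.apply_symm_apply]
  let κ : K →* Cfsg.isometryGroup (ZMod 2) (Cfsg.Agent.Lib.Helper29.Schro.Qp n) :=
    κ₀.codRestrict _ hmem
  have hκc : ∀ k, (((κ k : Cfsg.isometryGroup (ZMod 2) (Cfsg.Agent.Lib.Helper29.Schro.Qp n)) :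
      GL (Fin n ⊕ Fin n) (ZMod 2)) : Matrix (Fin n ⊕ Fin n) (Fin n ⊕ Fin n) (ZMod 2)) = M k :=
    fun k => hκ₀ k
  have hκinj : Function.Injective κ := by
    intro k k' h
    apply hρ
    apply LinearMap.ext
    intro u
    have h1 : M k = M k' := by rw [← hκc, ← hκc, h]
    have h2 := congrArg (fun A => Matrix.mulVec A (ψ u)) h1
    simp only [hM, ψ.symm_apply_apply] at h2
    exact ψ.injective h2
  obtain ⟨R, iG, iF, Q, hN, e, j, hconj⟩ :=
    Cfsg.Agent.Lib.Helper29.Schro.exists_extension κ hκinj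
  haveI := iF
  let χ : ↥Q →* Multiplicative U :=
    { toFun := fun a => Multiplicative.ofAdd (ψ.symm ((j.symm a).v))
      map_one' := by
        rw [map_one, Cfsg.Agent.Lib.Helper29.CM.one_v, map_zero]; rfl
      map_mul' := by
        intro a a'
        rw [map_mul, Cfsg.Agent.Lib.Helper29.CM.mul_v, map_add]; rfl }
  have hχ : ∀ a : ↥Q, Multiplicative.toAdd (χ a) = ψ.symm ((j.symm a).v) := fun a => rfl
  have hχj : ∀ c : Cfsg.Agent.Lib.Helper29.Schro.CMp n,
      χ (j c) = Multiplicative.ofAdd (ψ.symm c.v) := by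
    intro c
    show Multiplicative.ofAdd (ψ.symm ((j.symm (j c)).v)) = _
    rw [j.symm_apply_apply]
  have hcen : ∀ a : ↥Q, a ∈ Subgroup.center ↥Q ↔ j.symm a ∈ Subgroup.center
      (Cfsg.Agent.Lib.Helper29.Schro.CMp n) := by
    intro a
    rw [Subgroup.mem_center_iff, Subgroup.mem_center_iff]
    constructor
    · intro h g
      have := h (j g)
      apply j.injective
      rw [map_mul, map_mul, j.apply_symm_apply]
      exact this
    · intro h g
      have := h (j.symm g)
      apply j.symm.injective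
      rw [map_mul, map_mul]
      exact this
  refine ⟨R, iG, iF, Q, hN, e, χ, ?_, ?_, ?_, ?_, ?_, ?_⟩
  · obtain ⟨x, y, hxy⟩ := Cfsg.Agent.Lib.Helper29.CM.exists_not_comm
      (Cfsg.Agent.Lib.Helper29.bPlus_nd n)
    exact ((Cfsg.Agent.Lib.Helper29.CM.isE2 (Cfsg.Agent.Lib.Helper29.bPlus_nd n)).of_equiv
      j).isExtraspecial ⟨j x, j y, fun h => hxy (j.injective (by rw [map_mul, map_mul, h]))⟩
  · rw [← Nat.card_congr j.toEquiv]
    exact Cfsg.Agent.Lib.Helper29.card_CM_bPlus n
  · intro y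
    refine ⟨j ⟨ψ (Multiplicative.toAdd y), 0⟩, ?_⟩
    rw [hχj, ψ.symm_apply_apply]
    rfl
  · ext a
    rw [MonoidHom.mem_ker, hcen,
      Cfsg.Agent.Lib.Helper29.CM.mem_center_iff_v (Cfsg.Agent.Lib.Helper29.bPlus_nd n)]
    constructor
    · intro h
      have h1 : ψ.symm ((j.symm a).v) = 0 := congrArg Multiplicative.toAdd h
      rwa [LinearEquiv.map_eq_zero_iff] at h1
    · intro h
      show Multiplicative.ofAdd (ψ.symm ((j.symm a).v)) = 1
      rw [h, map_zero]
      rfl
  · intro r a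
    obtain ⟨c, rfl⟩ := j.surjective a
    obtain ⟨c', hc1, hc2⟩ := hconj r c
    have h1 : (⟨r * (j c : R) * r⁻¹, hN.conj_mem (j c : R) (j c).2 r⟩ : ↥Q) = j c' :=
      Subtype.ext hc1
    rw [h1, hχj, hχj, hc2, hκc, hM, ψ.symm_apply_apply]
    rfl
  · intro a
    obtain ⟨c, rfl⟩ := j.surjective a
    rw [hχ, j.symm_apply_apply, hψ, ψ.apply_symm_apply,
      Cfsg.Agent.Lib.Helper29.quadFormPlus_eq, ← Cfsg.Agent.Lib.Helper29.CM.sq_eq_one_iff, pow_two,
      ← map_mul]
    exact j.map_eq_one_iff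

end Cfsg.Agent.S3084
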