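import Cfsg.Statements.S3087

set_option autoImplicit false
open Cfsg

namespace Cfsg.Agent.S3087

theorem key {V : Type*} [AddCommGroup V] [Finite V] (X Y W : AddSubgroup V) (h : Y ≤ X) :
    Nat.card Y * Nat.card ↥(W ⊓ X) ≤ Nat.card X * Nat.card ↥(W ⊓ Y) := by
  have hY : Nat.card ↥(W ⊓ Y) * W.relIndex Y = Nat.card Y := by
    have := AddSubgroup.relIndex_mul_relIndex (⊥ : AddSubgroup V) (W ⊓ Y) Y bot_le inf_le_right
    rwa [AddSubgroup.relIndex_bot_left, AddSubgroup.relIndex_bot_left, AddSubgroup.inf_relIndex_right] at this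
  have hX : Nat.card ↥(W ⊓ X) * W.relIndex X = Nat.card X := by
    have := AddSubgroup.relIndex_mul_relIndex (⊥ : AddSubgroup V) (W ⊓ X) X bot_le inf_le_right
    rwa [AddSubgroup.relIndex_bot_left, AddSubgroup.relIndex_bot_left, AddSubgroup.inf_relIndex_right] at this
  have hXne : W.relIndex X ≠ 0 := by
    intro h0
    rw [h0, mul_zero] at hX
    exact (Nat.card_pos (α := X)).ne' hX.symm
  have hle : W.relIndex Y ≤ W.relIndex X := AddSubgroup.relIndex_le_of_le_right h hXne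
  calc Nat.card Y * Nat.card ↥(W ⊓ X)
      = Nat.card ↥(W ⊓ Y) * W.relIndex Y * Nat.card ↥(W ⊓ X) := by rw [hY]
    _ ≤ Nat.card ↥(W ⊓ Y) * W.relIndex X * Nat.card ↥(W ⊓ X) := by gcongr
    _ = Nat.card X * Nat.card ↥(W ⊓ Y) := by rw [← hX]; ring

/-- The fixed points of a subgroup as an additive subgroup. -/
def fixPts {G V : Type*} [Group G] [AddCommGroup V] (p : ℕ) [Module (ZMod p) V]
    (ρ : Representation (ZMod p) G V) (B : Subgroup G) : AddSubgroup V where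
  carrier := {v | ∀ b ∈ B, ρ b v = v}
  zero_mem' := by intro b _; simp
  add_mem' := by
    intro x y hx hy b hb
    simp [map_add, hx b hb, hy b hb]
  neg_mem' := by
    intro x hx b hb
    simp [map_neg, hx b hb]

/-- Let p be a prime, G a finite group acting linearly on a finite vector space V over the field with p elements, W a G-invariant subspace, and A a subgroup of G with |A|·|C_V(A)| ≥ |B|·|C_V(B)| for every subgroup B of A. Then |A|·|C_W(A)| ≥ |B|·|C_W(B)| for every subgroup B of A that contains C_A(W); that is, the image of A in the group induced on W satisfies the same maximality condition. -/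
theorem result {G V : Type*} [Group G] [Finite G] [AddCommGroup V] [Finite V] (p : ℕ) [Fact p.Prime] [Module (ZMod p) V]
    (ρ : Representation (ZMod p) G V) (W : Submodule (ZMod p) V) (hW : ∀ g : G, ∀ w ∈ W, ρ g w ∈ W)
    (A : Subgroup G)
    (hP : ∀ B : Subgroup G, B ≤ A →
      Nat.card ↥B * Nat.card {v : V // ∀ b ∈ B, ρ b v = v} ≤ Nat.card ↥A * Nat.card {v : V // ∀ a ∈ A, ρ a v = v})
    (B : Subgroup G) (hBA : B ≤ A) (hCB : ∀ a ∈ A, (∀ w ∈ W, ρ a w = w) → a ∈ B) :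
    Nat.card ↥B * Nat.card {w : W // ∀ b ∈ B, ρ b w = w} ≤ Nat.card ↥A * Nat.card {w : W // ∀ a ∈ A, ρ a w = w} := by
  have e1 : ∀ C : Subgroup G, Nat.card {v : V // ∀ b ∈ C, ρ b v = v} = Nat.card ↥(fixPts p ρ C) := by
    intro C
    exact Nat.card_congr (Equiv.subtypeEquivRight (fun v => Iff.rfl))
  have e2 : ∀ C : Subgroup G, Nat.card {w : W // ∀ b ∈ C, ρ b w = w} =
      Nat.card ↥(W.toAddSubgroup ⊓ fixPts p ρ C) := by
    intro C
    refine Nat.card_congr ⟨fun w => ⟨w.1.1, w.1.2, w.2⟩, fun v => ⟨⟨v.1, v.2.1⟩, v.2.2⟩, ?_, ?_⟩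
    · intro w; rfl
    · intro v; rfl
  have hsub : fixPts p ρ A ≤ fixPts p ρ B := by
    intro v hv b hb
    exact hv b (hBA hb)
  have hk := key (fixPts p ρ B) (fixPts p ρ A) W.toAddSubgroup hsub
  have h1 := hP B hBA
  rw [e1, e1] at h1
  rw [e2, e2]
  -- |B| |X_B| ≤ |A| |X_A| ; |X_A| |W ⊓ X_B| ≤ |X_B| |W ⊓ X_A|
  have hXA : 0 < Nat.card ↥(fixPts p ρ A) := Nat.card_pos
  have hXB : 0 < Nat.card ↥(fixPts p ρ B) := Nat.card_pos
  have : Nat.card ↥B * Nat.card ↥(W.toAddSubgroup ⊓ fixPts p ρ B) * (Nat.card ↥(fixPts p ρ B) * Nat.card ↥(fixPts p ρ A))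
      ≤ Nat.card ↥A * Nat.card ↥(W.toAddSubgroup ⊓ fixPts p ρ A) * (Nat.card ↥(fixPts p ρ B) * Nat.card ↥(fixPts p ρ A)) := by
    calc Nat.card ↥B * Nat.card ↥(W.toAddSubgroup ⊓ fixPts p ρ B) * (Nat.card ↥(fixPts p ρ B) * Nat.card ↥(fixPts p ρ A))
        = (Nat.card ↥B * Nat.card ↥(fixPts p ρ B)) * (Nat.card ↥(fixPts p ρ A) * Nat.card ↥(W.toAddSubgroup ⊓ fixPts p ρ B)) := by ring
      _ ≤ (Nat.card ↥A * Nat.card ↥(fixPts p ρ A)) * (Nat.card ↥(fixPts p ρ B) * Nat.card ↥(W.toAddSubgroup ⊓ fixPts p ρ A)) :=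
          Nat.mul_le_mul h1 hk
      _ = Nat.card ↥A * Nat.card ↥(W.toAddSubgroup ⊓ fixPts p ρ A) * (Nat.card ↥(fixPts p ρ B) * Nat.card ↥(fixPts p ρ A)) := by ring
  exact Nat.le_of_mul_le_mul_right this (Nat.mul_pos hXB hXA)

end Cfsg.Agent.S3087
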