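import Cfsg.Statements.S3103
import Cfsg.Agent.S4207
import Cfsg.Agent.Lib.Helper2.PGroup
import Cfsg.Agent.Lib.Helper54.PConstr3
import Cfsg.Agent.Lib.Helper58.ExtPrim
import Cfsg.Agent.Lib.Helper84.PCore
import Cfsg.Agent.Lib.Helper89.GL42

set_option autoImplicit false
open Cfsg

namespace Cfsg.Agent.S3103

open scoped commutatorElement

/-- the action of automorphisms on the quotient by a characteristic subgroup -/
def quotAut {H : Type*} [Group H] (N : Subgroup H) [N.Normal] [hN : N.Characteristic] :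
    MulAut H →* MulAut (H ⧸ N) where
  toFun β := QuotientGroup.congr N N β ((Subgroup.characteristic_iff_map_eq.1 hN) β)
  map_one' := by
    ext y
    obtain ⟨x, rfl⟩ := QuotientGroup.mk_surjective y
    rfl
  map_mul' β γ := by
    ext y
    obtain ⟨x, rfl⟩ := QuotientGroup.mk_surjective y
    rfl

theorem quotAut_mk {H : Type*} [Group H] (N : Subgroup H) [N.Normal] [N.Characteristic]
    (β : MulAut H) (x : H) : quotAut N β (x : H ⧸ N) = ((β x : H) : H ⧸ N) := rfl

/-- extend an automorphism of `V` to `V × C` by the identity -/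
def padAut (V C : Type*) [Group V] [Group C] : MulAut V →* MulAut (V × C) where
  toFun β := MulEquiv.prodCongr β (MulEquiv.refl C)
  map_one' := by ext y <;> rfl
  map_mul' β γ := by ext y <;> rfl

theorem padAut_apply (V C : Type*) [Group V] [Group C] (β : MulAut V) (v : V) (c : C) :
    padAut V C β (v, c) = (β v, c) := rfl

theorem padAut_injective (V C : Type*) [Group V] [Group C] :
    Function.Injective (padAut V C) := by
  intro β γ h
  ext v
  have := congrArg (fun α : MulAut (V × C) => (α (v, 1)).1) h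
  exact this

/-- the main construction: a homomorphism to `GL₄(2)` with kernel `O₂(X)` -/
theorem exists_gl_hom {X : Type*} [Group X] [Finite X] (hc : Cfsg.IsPConstrained 2 X)
    (hO : Cfsg.oddCore X = ⊥) (h4 : Cfsg.SectionalPRankLE 2 4 ↥(Cfsg.pCore 2 X)) :
    ∃ φ : X →* Matrix.GeneralLinearGroup (Fin 4) (ZMod 2), φ.ker = Cfsg.pCore 2 X := by
  have : Fact (Nat.Prime 2) := ⟨Nat.prime_two⟩
  have hRp : IsPGroup 2 ↥(pCore 2 X) := Cfsg.Agent.Lib.Helper84.pCore_isPGroup 2 X
  have hcR : Subgroup.centralizer (pCore 2 X : Set X) ≤ pCore 2 X :=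
    Cfsg.Agent.Lib.Helper54.charP_of_isPConstrained 2 hO hc
  -- the Frattini quotient
  have hcomm : ∀ a b : ↥(pCore 2 X) ⧸ frattini ↥(pCore 2 X), a * b = b * a := by
    intro a b
    obtain ⟨x, rfl⟩ := QuotientGroup.mk_surjective a
    obtain ⟨y, rfl⟩ := QuotientGroup.mk_surjective b
    rw [← QuotientGroup.mk_mul, ← QuotientGroup.mk_mul, QuotientGroup.eq]
    have h1 : ⁅y⁻¹, x⁻¹⁆ ∈ commutator ↥(pCore 2 X) :=
      Subgroup.commutator_mem_commutator (Subgroup.mem_top _) (Subgroup.mem_top _)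
    have h2 := Cfsg.Agent.Lib.Helper2.commutator_le_frattini hRp h1
    have h3 : (x * y)⁻¹ * (y * x) = ⁅y⁻¹, x⁻¹⁆ := by
      rw [commutatorElement_def]; group
    rw [h3]; exact h2
  have hexp : ∀ a : ↥(pCore 2 X) ⧸ frattini ↥(pCore 2 X), a ^ 2 = 1 := by
    intro a
    obtain ⟨x, rfl⟩ := QuotientGroup.mk_surjective a
    rw [← QuotientGroup.mk_pow, QuotientGroup.eq_one_iff]
    exact Cfsg.Agent.Lib.Helper2.pow_mem_frattini hRp x
  -- the order of the Frattini quotient
  have hle16 : Nat.card (↥(pCore 2 X) ⧸ frattini ↥(pCore 2 X)) ≤ 2 ^ 4 := by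
    have h5 := h4 ⊤ ((frattini ↥(pCore 2 X)).comap (⊤ : Subgroup ↥(pCore 2 X)).subtype) ⊤ ?_ ?_
    · rw [Subgroup.card_top] at h5
      have e : (↥(⊤ : Subgroup ↥(pCore 2 X)) ⧸
          (frattini ↥(pCore 2 X)).comap (⊤ : Subgroup ↥(pCore 2 X)).subtype) ≃*
          (↥(pCore 2 X) ⧸ frattini ↥(pCore 2 X)) :=
        QuotientGroup.congr _ _ Subgroup.topEquiv (by
          ext x
          constructor
          · rintro ⟨y, hy, rfl⟩
            exact hy
          · intro hx
            exact ⟨⟨x, Subgroup.mem_top x⟩, hx, rfl⟩)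
      rw [← Nat.card_congr e.toEquiv]
      exact h5
    · have hc' : ∀ a b : ↥(⊤ : Subgroup ↥(pCore 2 X)) ⧸
          (frattini ↥(pCore 2 X)).comap (⊤ : Subgroup ↥(pCore 2 X)).subtype, a * b = b * a := by
        intro a b
        obtain ⟨x, rfl⟩ := QuotientGroup.mk_surjective a
        obtain ⟨y, rfl⟩ := QuotientGroup.mk_surjective b
        rw [← QuotientGroup.mk_mul, ← QuotientGroup.mk_mul, QuotientGroup.eq, Subgroup.mem_comap]
        have h1 : ⁅(y : ↥(pCore 2 X))⁻¹, (x : ↥(pCore 2 X))⁻¹⁆ ∈ commutator ↥(pCore 2 X) :=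
          Subgroup.commutator_mem_commutator (Subgroup.mem_top _) (Subgroup.mem_top _)
        have h2 := Cfsg.Agent.Lib.Helper2.commutator_le_frattini hRp h1
        have h3 : (⊤ : Subgroup ↥(pCore 2 X)).subtype ((x * y)⁻¹ * (y * x)) =
            ⁅(y : ↥(pCore 2 X))⁻¹, (x : ↥(pCore 2 X))⁻¹⁆ := by
          rw [commutatorElement_def]
          simp only [map_mul, map_inv, Subgroup.coe_subtype]
          group
        rw [h3]; exact h2
      exact ⟨⟨fun a b => Subtype.ext (hc' a b)⟩⟩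
    · intro a _
      obtain ⟨x, rfl⟩ := QuotientGroup.mk_surjective a
      rw [← QuotientGroup.mk_pow, QuotientGroup.eq_one_iff, Subgroup.mem_comap]
      have := Cfsg.Agent.Lib.Helper2.pow_mem_frattini hRp (x : ↥(pCore 2 X))
      simpa using this
  obtain ⟨n, hn⟩ := IsPGroup.iff_card.1 hRp
  have hidx : (frattini ↥(pCore 2 X)).index ∣ 2 ^ n := by
    rw [← hn]; exact Subgroup.index_dvd_card _
  obtain ⟨d, -, hd⟩ := (Nat.dvd_prime_pow Nat.prime_two).1 hidx
  have hcardV : Nat.card (↥(pCore 2 X) ⧸ frattini ↥(pCore 2 X)) = 2 ^ d := by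
    rw [← hd]; rfl
  have hd4 : d ≤ 4 := by
    rw [hcardV] at hle16
    exact (Nat.pow_le_pow_iff_right (by norm_num)).1 hle16
  -- the action
  obtain ⟨ρ, hρ⟩ : ∃ ρ : X →* MulAut (↥(pCore 2 X) ⧸ frattini ↥(pCore 2 X)),
      ρ = (quotAut (frattini ↥(pCore 2 X))).comp (MulAut.conjNormal (H := pCore 2 X)) :=
    ⟨_, rfl⟩
  have hρmk : ∀ (x : X) (y : ↥(pCore 2 X)),
      ρ x (y : ↥(pCore 2 X) ⧸ frattini ↥(pCore 2 X)) =
        ((MulAut.conjNormal x y : ↥(pCore 2 X)) : ↥(pCore 2 X) ⧸ frattini ↥(pCore 2 X)) := by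
    intro x y; rw [hρ]; rfl
  have hker : ρ.ker = pCore 2 X := by
    apply le_antisymm
    · -- the kernel is a normal 2-subgroup
      apply Cfsg.Agent.Lib.Helper84.le_pCore (MonoidHom.normal_ker ρ)
      -- the automorphisms induced by the kernel
      have hA : ∀ α ∈ (ρ.ker.map (MulAut.conjNormal (H := pCore 2 X))),
          ∀ y : ↥(pCore 2 X), α y * y⁻¹ ∈ frattini ↥(pCore 2 X) := by
        rintro _ ⟨k, hk, rfl⟩ y
        have hk' : ρ k = 1 := hk
        have h1 := hρmk k y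
        rw [hk', MulAut.one_apply] at h1
        rw [← QuotientGroup.eq_one_iff, QuotientGroup.mk_mul, QuotientGroup.mk_inv, ← h1,
          mul_inv_cancel]
      have hdvd := Cfsg.Agent.S4207.result hn hd _ hA
      have hAp : IsPGroup 2 ↥(ρ.ker.map (MulAut.conjNormal (H := pCore 2 X))) := by
        obtain ⟨m, -, hm⟩ := (Nat.dvd_prime_pow Nat.prime_two).1 hdvd
        exact IsPGroup.of_card hm
      intro k
      obtain ⟨a, ha⟩ := hAp ⟨MulAut.conjNormal (H := pCore 2 X) (k : X),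
        Subgroup.mem_map_of_mem _ k.2⟩
      have ha' : (MulAut.conjNormal (H := pCore 2 X) (k : X)) ^ (2 ^ a) = 1 :=
        congrArg Subtype.val ha
      rw [← map_pow] at ha'
      have hkc : (k : X) ^ (2 ^ a) ∈ Subgroup.centralizer (pCore 2 X : Set X) := by
        rw [Subgroup.mem_centralizer_iff]
        intro y hy
        have h1 := congrArg (fun α : MulAut ↥(pCore 2 X) => ((α ⟨y, hy⟩ : ↥(pCore 2 X)) : X)) ha'
        simp only [MulAut.conjNormal_apply, MulAut.one_apply] at h1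
        calc y * (k : X) ^ (2 ^ a) = ((k : X) ^ (2 ^ a) * y * ((k : X) ^ (2 ^ a))⁻¹) *
              (k : X) ^ (2 ^ a) := by rw [h1]
          _ = (k : X) ^ (2 ^ a) * y := by group
      obtain ⟨b, hb⟩ := hRp ⟨(k : X) ^ (2 ^ a), hcR hkc⟩
      refine ⟨a + b, ?_⟩
      apply Subtype.ext
      have hb' : ((k : X) ^ (2 ^ a)) ^ (2 ^ b) = 1 := congrArg Subtype.val hb
      rw [pow_add, pow_mul]
      simpa using hb'
    · intro r hr
      rw [MonoidHom.mem_ker]
      ext y
      obtain ⟨x, rfl⟩ := QuotientGroup.mk_surjective y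
      rw [hρmk, MulAut.one_apply, QuotientGroup.eq]
      have h1 : ⁅(⟨r, hr⟩ : ↥(pCore 2 X)), x⁻¹⁆ ∈ commutator ↥(pCore 2 X) :=
        Subgroup.commutator_mem_commutator (Subgroup.mem_top _) (Subgroup.mem_top _)
      have h2 := Cfsg.Agent.Lib.Helper2.commutator_le_frattini hRp h1
      have h3 : (MulAut.conjNormal (H := pCore 2 X) r x)⁻¹ * x =
          ⁅(⟨r, hr⟩ : ↥(pCore 2 X)), x⁻¹⁆ := by
        apply Subtype.ext
        rw [commutatorElement_def]
        simp only [Subgroup.coe_mul, Subgroup.coe_inv, MulAut.conjNormal_apply]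
        group
      rw [h3]; exact h2
  -- padding to order 16
  letI : CommGroup (↥(pCore 2 X) ⧸ frattini ↥(pCore 2 X)) :=
    { (inferInstance : Group (↥(pCore 2 X) ⧸ frattini ↥(pCore 2 X))) with mul_comm := hcomm }
  have hexpM : ∀ x : (↥(pCore 2 X) ⧸ frattini ↥(pCore 2 X)) ×
      Multiplicative (Fin (4 - d) → ZMod 2), x ^ 2 = 1 := by
    rintro ⟨v, c⟩
    refine Prod.ext (hexp v) ?_
    · show c ^ 2 = 1
      apply Multiplicative.toAdd.injective
      rw [toAdd_pow, toAdd_one]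
      ext i
      have : (2 : ℕ) • (Multiplicative.toAdd c) i = 0 := by
        rw [nsmul_eq_mul]
        have h2 : ((2 : ℕ) : ZMod 2) = 0 := CharP.cast_eq_zero (ZMod 2) 2
        rw [h2, zero_mul]
      simpa using this
  have hcardM : Nat.card ((↥(pCore 2 X) ⧸ frattini ↥(pCore 2 X)) ×
      Multiplicative (Fin (4 - d) → ZMod 2)) = 2 ^ 4 := by
    rw [Nat.card_prod, hcardV]
    have : Nat.card (Multiplicative (Fin (4 - d) → ZMod 2)) = 2 ^ (4 - d) := by
      show Nat.card (Fin (4 - d) → ZMod 2) = 2 ^ (4 - d)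
      rw [Nat.card_fun, Nat.card_zmod, Nat.card_fin]
    rw [this, ← pow_add]
    congr 1; omega
  obtain ⟨φ, hφ⟩ := Cfsg.Agent.Lib.Helper58.exists_glHom 2 hexpM 4 hcardM
    ((padAut _ (Multiplicative (Fin (4 - d) → ZMod 2))).comp ρ)
  refine ⟨φ, ?_⟩
  rw [hφ]
  conv_rhs => rw [← hker]
  ext x
  rw [MonoidHom.mem_ker, MonoidHom.mem_ker, MonoidHom.comp_apply]
  constructor
  · intro h
    exact padAut_injective _ _ (by rw [h, map_one])
  · intro h
    rw [h, map_one]

/-- Let X be a finite 2-constrained group with no nontrivial normal subgroup of odd order such that O₂(X) has sectional 2-rank at most 4. Then X/O₂(X) is isomorphic to a subgroup of the alternating group of degree 8. -/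
theorem result {X : Type*} [Group X] [Finite X] (hc : Cfsg.IsPConstrained 2 X) (hO : Cfsg.oddCore X = ⊥)
    (h4 : Cfsg.SectionalPRankLE 2 4 ↥(Cfsg.pCore 2 X)) :
    ∃ f : X ⧸ Cfsg.pCore 2 X →* ↥(alternatingGroup (Fin 8)), Function.Injective f := by
  obtain ⟨φ, hφ⟩ := exists_gl_hom hc hO h4
  obtain ⟨e⟩ := Cfsg.Agent.Lib.Helper89.GL42.gl_four_two_equiv_alternating
  refine ⟨e.toMonoidHom.comp (QuotientGroup.lift (Cfsg.pCore 2 X) φ (by
    intro x hx; rw [← hφ] at hx; exact hx)), ?_⟩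
  rw [injective_iff_map_eq_one]
  intro y hy
  obtain ⟨x, rfl⟩ := QuotientGroup.mk_surjective y
  have h1 : e (φ x) = 1 := hy
  have h2 : φ x = 1 := by
    apply e.injective; rw [h1, map_one]
  have h3 : x ∈ φ.ker := h2
  rw [hφ] at h3
  exact (QuotientGroup.eq_one_iff x).2 h3

end Cfsg.Agent.S3103
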