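import Cfsg.Statements.S3116
import Mathlib

set_option autoImplicit false
open Cfsg

namespace Cfsg.Agent.S3116

lemma main {X : Type*} [Group X] [Finite X] (x : X) (k : ℕ) (hk : 1 ≤ k) (hx : orderOf x = 2^k)
    (hcard : Nat.card X = 2^(k+1))
    (hchar : ∀ g : X, orderOf g = 2^k → g ∈ Subgroup.zpowers x) : IsPGroup 2 (MulAut X) := by
  intro φ
  have hCcard : Nat.card (Subgroup.zpowers x) = 2^k := by rw [Nat.card_zpowers, hx]
  have hidx : (Subgroup.zpowers x).index = 2 := by
    have := (Subgroup.zpowers x).card_mul_index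
    rw [hCcard, hcard, pow_succ] at this
    exact Nat.eq_of_mul_eq_mul_left (by positivity) this
  have hφx : φ x ∈ Subgroup.zpowers x := hchar _ (by rw [MulEquiv.orderOf_eq]; exact hx)
  obtain ⟨a, ha⟩ : ∃ a : ℕ, x ^ a = φ x := by
    have := mem_powers_iff_mem_zpowers.mpr hφx
    exact Submonoid.mem_powers_iff _ _ |>.mp this
  have hpow : ∀ j : ℕ, (φ^j) x = x^(a^j) := by
    intro j
    induction j with
    | zero => simp
    | succ j ih =>
      rw [pow_succ', MulAut.mul_apply, ih, map_pow, ← ha, ← pow_mul, pow_succ']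
  have hcop : Nat.Coprime a (2^k) := by
    have h1 : orderOf (x ^ a) = 2^k := by rw [ha, MulEquiv.orderOf_eq]; exact hx
    rw [orderOf_pow, hx] at h1
    have : Nat.gcd (2^k) a = 1 := by
      rcases Nat.div_eq_self.mp h1 with h0 | h0
      · exfalso; have : 0 < 2^k := by positivity
        omega
      · exact h0
    exact Nat.coprime_comm.mp this
  have heuler : a^(2^(k-1)) ≡ 1 [MOD 2^k] := by
    have := Nat.ModEq.pow_totient hcop
    rwa [Nat.totient_prime_pow Nat.prime_two (by omega), Nat.add_one_sub_one 1, mul_one] at this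
  set ψ := φ^(2^(k-1)) with hψ
  have hψx : ψ x = x := by
    rw [hψ, hpow]
    conv_rhs => rw [← pow_one x]
    rw [pow_eq_pow_iff_modEq, hx]
    exact heuler
  have hψC : ∀ c ∈ Subgroup.zpowers x, ψ c = c := by
    intro c hc
    obtain ⟨i, rfl⟩ := Subgroup.mem_zpowers_iff.mp hc
    rw [map_zpow, hψx]
  have hψjC : ∀ j : ℕ, ∀ c ∈ Subgroup.zpowers x, (ψ^j) c = c := by
    intro j
    induction j with
    | zero => simp
    | succ j ih =>
      intro c hc
      rw [pow_succ', MulAut.mul_apply, ih c hc, hψC c hc]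
  obtain ⟨y, hy⟩ : ∃ y : X, y ∉ Subgroup.zpowers x := by
    by_contra hcon
    push Not at hcon
    have : Subgroup.zpowers x = ⊤ := by
      ext g; simp [hcon g]
    rw [this, Subgroup.index_top] at hidx
    omega
  have hψy : ψ y ∉ Subgroup.zpowers x := by
    intro hmem
    have := hψC _ hmem
    have := ψ.injective this
    rw [this] at hmem
    exact hy hmem
  have hc : y⁻¹ * ψ y ∈ Subgroup.zpowers x := by
    rw [Subgroup.mul_mem_iff_of_index_two hidx, Subgroup.inv_mem_iff]
    exact ⟨fun h => absurd h hy, fun h => absurd h hψy⟩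
  set c := y⁻¹ * ψ y with hcdef
  have hψy' : ψ y = y * c := by rw [hcdef]; group
  have hψjy : ∀ j : ℕ, (ψ^j) y = y * c^j := by
    intro j
    induction j with
    | zero => simp
    | succ j ih =>
      rw [pow_succ', MulAut.mul_apply, ih, map_mul, hψy', map_pow, hψC c hc, pow_succ', mul_assoc]
  have hcN : c^(2^k) = 1 := by
    have := pow_card_eq_one' (G := Subgroup.zpowers x) (x := ⟨c, hc⟩)
    rw [hCcard] at this
    exact congrArg Subtype.val this
  refine ⟨k - 1 + k, ?_⟩
  have : φ ^ 2 ^ (k - 1 + k) = ψ ^ (2^k) := by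
    rw [hψ, ← pow_mul, ← pow_add]
  rw [this]
  ext g
  rw [MulAut.one_apply]
  by_cases hg : g ∈ Subgroup.zpowers x
  · exact hψjC _ g hg
  · have hg' : y⁻¹ * g ∈ Subgroup.zpowers x := by
      rw [Subgroup.mul_mem_iff_of_index_two hidx, Subgroup.inv_mem_iff]
      exact ⟨fun h => absurd h hy, fun h => absurd h hg⟩
    have : g = y * (y⁻¹ * g) := by group
    rw [this, map_mul, hψjy, hcN, hψjC _ _ hg', mul_one]


lemma dihedral_case {X : Type*} [Group X] [Finite X] (h2 : IsPGroup 2 X) (n : ℕ) (hn : 4 ≤ n)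
    (e : X ≃* DihedralGroup n) : IsPGroup 2 (MulAut X) := by
  have : NeZero n := ⟨by omega⟩
  obtain ⟨m, hm⟩ := IsPGroup.iff_card.mp h2
  have hcardX : Nat.card X = 2 * n := by
    rw [Nat.card_congr e.toEquiv, DihedralGroup.nat_card]
  have hm1 : 1 ≤ m := by
    rcases Nat.eq_zero_or_pos m with h0 | h0
    · subst h0; omega
    · exact h0
  obtain ⟨k, rfl⟩ : ∃ k, m = k + 1 := ⟨m - 1, by omega⟩
  have hnk : n = 2^k := by
    rw [hcardX, pow_succ'] at hm
    omega
  have hk2 : 2 ≤ k := by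
    by_contra hcon
    have : k = 0 ∨ k = 1 := by omega
    rcases this with rfl | rfl <;> omega
  apply main (e.symm (DihedralGroup.r 1)) k (by omega)
  · rw [MulEquiv.orderOf_eq, DihedralGroup.orderOf_r_one, hnk]
  · exact hm
  · intro g hg
    have hg' : orderOf (e g) = 2^k := by rw [MulEquiv.orderOf_eq]; exact hg
    rcases hge : e g with i | i
    · have : g = (e.symm (DihedralGroup.r 1))^(i.val) := by
        rw [← map_pow, DihedralGroup.r_one_pow, ZMod.natCast_zmod_val, ← hge]
        simp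
      rw [this]
      exact Subgroup.pow_mem _ (Subgroup.mem_zpowers _) _
    · exfalso
      rw [hge, DihedralGroup.orderOf_sr] at hg'
      have : 2^2 ≤ 2^k := Nat.pow_le_pow_right (by norm_num) hk2
      omega

lemma qd_case {X : Type*} [Group X] [Finite X] (hq : Cfsg.IsQuasiDihedral X) : IsPGroup 2 (MulAut X) := by
  obtain ⟨n, hn, hcard, x, y, hx, hy, hyx⟩ := hq
  obtain ⟨m, rfl⟩ : ∃ m, n = m + 3 := ⟨n - 3, by omega⟩
  have h8 : 8 ≤ 2^(m+3) := by
    calc 8 = 2^3 := by norm_num
      _ ≤ 2^(m+3) := Nat.pow_le_pow_right (by norm_num) (by omega)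
  have hpow4 : 4 ≤ 2^(m+2) := by
    calc 4 = 2^2 := by norm_num
      _ ≤ 2^(m+2) := Nat.pow_le_pow_right (by norm_num) (by omega)
  have hpp : 2^(m+3) = 2 * 2^(m+2) := by rw [pow_succ']
  have he : m + 3 - 1 = m + 2 := by omega
  rw [he] at hyx
  have hCcard : Nat.card (Subgroup.zpowers x) = 2^(m+3) := by rw [Nat.card_zpowers, hx]
  have hidx : (Subgroup.zpowers x).index = 2 := by
    have := (Subgroup.zpowers x).card_mul_index
    rw [hCcard, hcard, pow_succ] at this
    exact Nat.eq_of_mul_eq_mul_left (by positivity) this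
  have hyC : y ∉ Subgroup.zpowers x := by
    intro hmem
    obtain ⟨j, rfl⟩ := Subgroup.mem_zpowers_iff.mp hmem
    have hcomm : x ^ j * x * (x ^ j)⁻¹ = x := by
      rw [(Commute.zpow_self x j).eq, mul_inv_cancel_right]
    rw [hcomm] at hyx
    have h1 : x ^ 1 = x ^ (2 ^ (m + 2) - 1) := by rw [pow_one]; exact hyx
    rw [pow_eq_pow_iff_modEq, hx] at h1
    unfold Nat.ModEq at h1
    rw [Nat.mod_eq_of_lt (by omega), Nat.mod_eq_of_lt (by omega)] at h1
    omega
  have hy2 : y * y = 1 := by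
    rw [← sq, ← hy]; exact pow_orderOf_eq_one y
  apply main x (m+3) (by omega) hx hcard
  intro g hg
  by_contra hgC
  have hgy : g * y⁻¹ ∈ Subgroup.zpowers x := by
    rw [Subgroup.mul_mem_iff_of_index_two hidx, Subgroup.inv_mem_iff]
    exact ⟨fun h => absurd h hgC, fun h => absurd h hyC⟩
  obtain ⟨i, hi⟩ : ∃ i : ℕ, x ^ i = g * y⁻¹ :=
    (Submonoid.mem_powers_iff _ _).mp (mem_powers_iff_mem_zpowers.mpr hgy)
  have hg_eq : g = x ^ i * y := by rw [hi]; group
  have hconj : y * x ^ i * y⁻¹ = x ^ ((2 ^ (m + 2) - 1) * i) := by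
    have := map_pow (MulAut.conj y) x i
    rw [MulAut.conj_apply, MulAut.conj_apply, hyx, ← pow_mul] at this
    exact this
  have hyinv : y⁻¹ = y := by
    rw [inv_eq_iff_mul_eq_one]; exact hy2
  have hg2 : g ^ 2 = x ^ (2 ^ (m + 2) * i) := by
    have e1 : g ^ 2 = x ^ i * (y * x ^ i * y⁻¹) := by
      rw [hg_eq, sq, hyinv]
      calc x ^ i * y * (x ^ i * y) = x ^ i * (y * x ^ i * y) := by group
        _ = x ^ i * (y * x ^ i * y) := rfl
    rw [e1, hconj, ← pow_add]
    congr 1
    have : 1 ≤ 2 ^ (m + 2) := by omega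
    calc i + (2 ^ (m + 2) - 1) * i = (1 + (2 ^ (m + 2) - 1)) * i := by ring
      _ = 2 ^ (m + 2) * i := by rw [Nat.add_sub_cancel' this]
  have hg4 : g ^ 4 = 1 := by
    have : g ^ 4 = (g ^ 2) ^ 2 := by rw [← pow_mul]
    rw [this, hg2, ← pow_mul]
    have : 2 ^ (m + 2) * i * 2 = 2 ^ (m + 3) * i := by rw [hpp]; ring
    rw [this, pow_mul, ← hx, pow_orderOf_eq_one, one_pow]
  have := orderOf_dvd_of_pow_eq_one hg4
  rw [hg] at this
  have := Nat.le_of_dvd (by norm_num) this
  omega

/-- The automorphism group of a dihedral 2-group of order at least 8, or of a quasi-dihedral (semidihedral) 2-group of order at least 16, is a 2-group. -/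
theorem result {X : Type*} [Group X] [Finite X] (h2 : IsPGroup 2 X)
    (h : (∃ n : ℕ, 4 ≤ n ∧ Nonempty (X ≃* DihedralGroup n)) ∨ Cfsg.IsQuasiDihedral X) : IsPGroup 2 (MulAut X) := by
  rcases h with ⟨n, hn, ⟨e⟩⟩ | hq
  · exact dihedral_case h2 n hn e
  · exact qd_case hq

end Cfsg.Agent.S3116
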