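import Cfsg.Statements.S3125
import Cfsg.Agent.S1992

set_option autoImplicit false
open Cfsg

namespace Cfsg.Agent.S3125

/-- Let G be a finite group such that, for every prime p dividing the order of G, every Sylow p-subgroup of G is its own normalizer. Then G is not a non-abelian simple group. -/
theorem result {G : Type*} [Group G] [Finite G]
    (h : ∀ p : ℕ, p.Prime → p ∣ Nat.card G → ∀ P : Sylow p G, Subgroup.normalizer ((P : Subgroup G) : Set G) = P) :
    ¬ (IsSimpleGroup G ∧ ¬ IsMulCommutative G) := by
  rintro ⟨hsimple, hnc⟩
  obtain ⟨q, hq, hpg⟩ := Cfsg.Agent.S1992.result h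
  have : Fact q.Prime := ⟨hq⟩
  have := hsimple
  have : Nontrivial G := hsimple.toNontrivial
  have hc : Nontrivial (Subgroup.center G) := hpg.center_nontrivial
  have hne : Subgroup.center G ≠ ⊥ := by
    intro hbot
    rw [Subgroup.nontrivial_iff_ne_bot] at hc
    exact hc hbot
  have htop : Subgroup.center G = ⊤ :=
    ((Subgroup.Normal.eq_bot_or_eq_top (inferInstance : (Subgroup.center G).Normal)).resolve_left hne)
  apply hnc
  constructor
  constructor
  intro a b
  have ha : a ∈ Subgroup.center G := by rw [htop]; trivial
  rw [Subgroup.mem_center_iff] at ha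
  exact (ha b).symm

end Cfsg.Agent.S3125
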