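import Cfsg.Statements.S3153
import Cfsg.Agent.Lib.Helper22.BP2
import Cfsg.Agent.Lib.Helper22.BP7
import Cfsg.Agent.Lib.Helper31.GenRank
import Cfsg.Agent.Lib.Helper47.ElemAb
import Cfsg.Agent.Lib.Helper22.FStar
import Cfsg.Agent.Lib.Helper22.CompSystem
import Cfsg.Agent.Lib.Helper30.UnbalComp
import Cfsg.Agent.Lib.Helper66.Perfect

set_option autoImplicit false
open Cfsg

namespace Cfsg.Agent.S3153

open Subgroup
open scoped commutatorElement

section aux

variable {X : Type*} [Group X] [Finite X]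

/-- The centralizer of an involution of a tightly embedded subgroup normalizes it. -/
theorem mem_normalizer_of_tight {K : Subgroup X} (hK : Cfsg.IsTightlyEmbedded K) {t : X}
    (htK : t ∈ K) (ht : orderOf t = 2) {c : X} (hc : c * t = t * c) :
    c ∈ normalizer (K : Set X) := by
  by_contra hcn
  have hodd := hK.2 c hcn
  have hmem : t ∈ K ⊓ K.map (MulAut.conj c).toMonoidHom := by
    refine ⟨htK, ⟨t, htK, ?_⟩⟩
    change c * t * c⁻¹ = t
    rw [hc]; group
  have h2 : 2 ∣ Nat.card ↥(K ⊓ K.map (MulAut.conj c).toMonoidHom) := by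
    rw [← ht]
    exact Subgroup.orderOf_dvd_natCard _ hmem
  rw [Nat.odd_iff] at hodd
  omega

/-- In a group of 2-rank at most one, commuting involutions coincide. -/
theorem eq_of_rank_one {K : Subgroup X} (hr : Cfsg.PRankLE 2 1 ↥K) {s t : X} (hs : s ∈ K)
    (ht : t ∈ K) (hs2 : s ^ 2 = 1) (ht2 : t ^ 2 = 1) (hst : s * t = t * s) (hs1 : s ≠ 1)
    (ht1 : t ≠ 1) : s = t := by
  by_contra hne
  obtain ⟨s', hs'⟩ : ∃ s' : ↥K, s' = ⟨s, hs⟩ := ⟨_, rfl⟩
  obtain ⟨t', ht'⟩ : ∃ t' : ↥K, t' = ⟨t, ht⟩ := ⟨_, rfl⟩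
  have hst' : s' * t' = t' * s' := by rw [hs', ht']; exact Subtype.ext hst
  have hs2' : s' ^ 2 = 1 := by rw [hs']; exact Subtype.ext (by simpa using hs2)
  have ht2' : t' ^ 2 = 1 := by rw [ht']; exact Subtype.ext (by simpa using ht2)
  have hs1' : s' ≠ 1 := by
    rw [hs']; intro h; exact hs1 (congrArg Subtype.val h)
  have ht1' : t' ≠ 1 := by
    rw [ht']; intro h; exact ht1 (congrArg Subtype.val h)
  have hne' : s' ≠ t' := by
    rw [hs', ht']; intro h; exact hne (congrArg Subtype.val h)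
  clear hs' ht'
  have hcomm : ∀ x ∈ ({s', t'} : Set ↥K), ∀ y ∈ ({s', t'} : Set ↥K), x * y = y * x := by
    intro x hx y hy
    rw [Set.mem_insert_iff, Set.mem_singleton_iff] at hx hy
    rcases hx with rfl | rfl <;> rcases hy with rfl | rfl
    · rfl
    · exact hst'
    · exact hst'.symm
    · rfl
  have hp : ∀ x ∈ ({s', t'} : Set ↥K), x ^ 2 = 1 := by
    intro x hx
    rw [Set.mem_insert_iff, Set.mem_singleton_iff] at hx
    rcases hx with rfl | rfl
    · exact hs2'
    · exact ht2'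
  have hel := Cfsg.Agent.Lib.Helper47.isElementaryAbelian_of_le_closure hcomm hp
    (le_refl (Subgroup.closure ({s', t'} : Set ↥K)))
  have hcard : Nat.card (Subgroup.closure ({s', t'} : Set ↥K)) ≤ 2 ^ 1 := hr _ hel.1 hel.2
  have hso : orderOf s' = 2 := orderOf_eq_prime hs2' hs1'
  have hz : Nat.card (Subgroup.zpowers s') = 2 := by
    rw [Nat.card_zpowers, hso]
  have hle : Subgroup.zpowers s' ≤ Subgroup.closure ({s', t'} : Set ↥K) := by
    rw [Subgroup.zpowers_le]
    exact Subgroup.subset_closure (by simp)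
  have heq := Subgroup.eq_of_le_of_card_ge hle (by rw [hz]; simpa using hcard)
  have htm : t' ∈ Subgroup.zpowers s' := by
    rw [heq]
    exact Subgroup.subset_closure (by simp)
  classical
  rw [mem_zpowers_iff_mem_range_orderOf, hso] at htm
  simp only [Finset.mem_image, Finset.mem_range] at htm
  obtain ⟨n, hn, hnt⟩ := htm
  interval_cases n
  · apply ht1'
    simpa using hnt.symm
  · apply hne'
    simpa using hnt

/-- Elements of the normalizer of `P` normalize its centralizer. -/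
theorem conj_mem_centralizer {P : Subgroup X} {s k : X} (hs : s ∈ normalizer (P : Set X))
    (hk : k ∈ centralizer (P : Set X)) : s * k * s⁻¹ ∈ centralizer (P : Set X) := by
  rw [Subgroup.mem_centralizer_iff]
  intro x hx
  have hx' : s⁻¹ * x * s ∈ P := by
    have h := (Subgroup.mem_normalizer_iff.mp ((normalizer (P : Set X)).inv_mem hs) x).mp hx
    rwa [inv_inv] at h
  have h1 := Subgroup.mem_centralizer_iff.mp hk _ hx'
  calc x * (s * k * s⁻¹) = s * ((s⁻¹ * x * s) * k) * s⁻¹ := by group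
    _ = s * (k * (s⁻¹ * x * s)) * s⁻¹ := by rw [h1]
    _ = s * k * s⁻¹ * x := by group

/-- Step 1: the involution `t` is central in the Sylow subgroup. -/
theorem comm_sylow {P : Subgroup X} (hr : Cfsg.PRankLE 2 1 ↥(centralizer (P : Set X)))
    (S : Sylow 2 ↥(normalizer (P : Set X))) {t : X} (ht : orderOf t = 2)
    (htS : t ∈ (S : Subgroup ↥(normalizer (P : Set X))).map (normalizer (P : Set X)).subtype)
    (htP : t ∈ centralizer (P : Set X)) :
    ∀ s ∈ (S : Subgroup ↥(normalizer (P : Set X))).map (normalizer (P : Set X)).subtype,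
      s * t = t * s := by
  haveI : Fact (Nat.Prime 2) := ⟨Nat.prime_two⟩
  generalize hS' : (S : Subgroup ↥(normalizer (P : Set X))).map (normalizer (P : Set X)).subtype
    = S' at htS ⊢
  have hS'N : S' ≤ normalizer (P : Set X) := by
    rw [← hS']; exact Subgroup.map_subtype_le _
  have hS'p : IsPGroup 2 ↥S' := by
    rw [← hS']; exact S.2.map _
  have ht2 : t ^ 2 = 1 := by rw [← ht]; exact pow_orderOf_eq_one t
  have ht1 : t ≠ 1 := by
    intro h; rw [h, orderOf_one] at ht; omega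
  -- the subgroup `R = S' ⊓ K`
  obtain ⟨R, hR⟩ : ∃ R : Subgroup X, R = S' ⊓ centralizer (P : Set X) := ⟨_, rfl⟩
  have hRS : R ≤ S' := by rw [hR]; exact inf_le_left
  have hRK : R ≤ centralizer (P : Set X) := by rw [hR]; exact inf_le_right
  have htR : t ∈ R := by rw [hR]; exact ⟨htS, htP⟩
  have hRp : IsPGroup 2 ↥R := hS'p.to_le hRS
  -- `t` is central in `R`
  have hcent : ∀ r ∈ R, r * t = t * r := by
    haveI : Nontrivial ↥R := ⟨⟨⟨t, htR⟩, 1, fun h => ht1 (congrArg Subtype.val h)⟩⟩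
    haveI := hRp.center_nontrivial
    have hdvd : 2 ∣ Nat.card ↥(Subgroup.center ↥R) := by
      rcases (hRp.to_subgroup (Subgroup.center ↥R)).card_eq_or_dvd with h | h
      · exfalso
        have := Subgroup.card_eq_one.mp h
        exact (Subgroup.nontrivial_iff_ne_bot _).mp inferInstance this
      · exact h
    obtain ⟨z, hz⟩ := exists_prime_orderOf_dvd_card' 2 hdvd
    have hzc := z.2
    rw [Subgroup.mem_center_iff] at hzc
    have hz2 : ((z : ↥R) : X) ^ 2 = 1 := by
      have : z ^ 2 = 1 := by rw [← hz]; exact pow_orderOf_eq_one z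
      have := congrArg (fun y : ↥(Subgroup.center ↥R) => ((y : ↥R) : X)) this
      simpa using this
    have hz1 : ((z : ↥R) : X) ≠ 1 := by
      intro h
      have : z = 1 := by
        apply Subtype.ext; apply Subtype.ext; simpa using h
      rw [this, orderOf_one] at hz; omega
    have hzt : ((z : ↥R) : X) * t = t * ((z : ↥R) : X) := by
      have := hzc ⟨t, htR⟩
      have := congrArg Subtype.val this
      simpa using this.symm
    have hzeq : ((z : ↥R) : X) = t :=
      eq_of_rank_one hr (hRK (z : ↥R).2) htP hz2 ht2 hzt hz1 ht1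
    intro r hr'
    have := hzc ⟨r, hr'⟩
    have := congrArg Subtype.val this
    rw [← hzeq]
    simpa using this
  intro s hs
  have hsN := hS'N hs
  obtain ⟨u, hu⟩ : ∃ u : X, u = s * t * s⁻¹ := ⟨_, rfl⟩
  have huS : u ∈ S' := by rw [hu]; exact S'.mul_mem (S'.mul_mem hs htS) (S'.inv_mem hs)
  have huK : u ∈ centralizer (P : Set X) := by rw [hu]; exact conj_mem_centralizer hsN htP
  have huR : u ∈ R := by rw [hR]; exact ⟨huS, huK⟩
  have hu2 : u ^ 2 = 1 := by
    rw [hu, conj_pow, ht2]; group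
  have hu1 : u ≠ 1 := by
    intro h; rw [hu] at h
    apply ht1
    have : t = s⁻¹ * (s * t * s⁻¹) * s := by group
    rw [this, h]; group
  have hut : u * t = t * u := hcent u huR
  have := eq_of_rank_one hr huK htP hu2 ht2 hut hu1 ht1
  rw [hu] at this
  calc s * t = s * t * s⁻¹ * s := by group
    _ = t * s := by rw [this]

/-- Step 2: an involution of `P C(P)` is a product of commuting elements of `P` and `C(P)` of
order at most two, when the centre of `P` has odd order. -/
theorem decompose {P : Subgroup X} (hZ : Odd (Nat.card ↥(Subgroup.center ↥P))) {u : X}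
    (hu : u ^ 2 = 1) (huP : u ∈ P ⊔ centralizer (P : Set X)) :
    ∃ a ∈ P, ∃ b ∈ centralizer (P : Set X), a ^ 2 = 1 ∧ b ^ 2 = 1 ∧ u = a * b := by
  have hc : ∀ a ∈ P, ∀ b ∈ centralizer (P : Set X), a * b = b * a := by
    intro a ha b hb
    exact Subgroup.mem_centralizer_iff.mp hb a ha
  obtain ⟨a₀, ha₀, b₀, hb₀, rfl⟩ :=
    Cfsg.Agent.Lib.Helper22.exists_mul_of_mem_sup_of_commute hc huP
  have hcomm : Commute a₀ b₀ := hc a₀ ha₀ b₀ hb₀
  rw [hcomm.mul_pow] at hu
  have ha2 : a₀ ^ 2 = (b₀ ^ 2)⁻¹ := eq_inv_of_mul_eq_one_left hu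
  have ha2K : a₀ ^ 2 ∈ centralizer (P : Set X) := by
    rw [ha2]; exact Subgroup.inv_mem _ (Subgroup.pow_mem _ hb₀ 2)
  have ha2P : a₀ ^ 2 ∈ P := Subgroup.pow_mem _ ha₀ 2
  obtain ⟨c, hc'⟩ : ∃ c : ℕ, c = Nat.card ↥(Subgroup.center ↥P) := ⟨_, rfl⟩
  have hpow : (a₀ ^ 2) ^ c = 1 := by
    have hmem : (⟨a₀ ^ 2, ha2P⟩ : ↥P) ∈ Subgroup.center ↥P := by
      rw [Subgroup.mem_center_iff]
      intro y
      apply Subtype.ext
      exact Subgroup.mem_centralizer_iff.mp ha2K y y.2
    have h1 : (⟨⟨a₀ ^ 2, ha2P⟩, hmem⟩ : ↥(Subgroup.center ↥P)) ^ c = 1 := by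
      rw [hc']; exact pow_card_eq_one'
    have h2 := congrArg (fun y : ↥(Subgroup.center ↥P) => ((y : ↥P) : X)) h1
    simpa using h2
  rw [← hc'] at hZ
  obtain ⟨m, hm⟩ := hZ
  refine ⟨a₀ ^ c, Subgroup.pow_mem _ ha₀ c, b₀ ^ c, Subgroup.pow_mem _ hb₀ c, ?_, ?_, ?_⟩
  · rw [← pow_mul, mul_comm, pow_mul, hpow]
  · rw [← pow_mul, mul_comm, pow_mul]
    have : b₀ ^ 2 = (a₀ ^ 2)⁻¹ := by rw [ha2, inv_inv]
    rw [this, inv_pow, hpow, inv_one]
  · rw [← hcomm.mul_pow, hm, pow_succ, pow_mul, hcomm.mul_pow, hu, one_pow, one_mul]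

/-- Step 3: `g` does not centralize `t`. -/
theorem conj_ne {P : Subgroup X} (hP : Cfsg.IsStandardSubgroup P)
    (S : Sylow 2 ↥(normalizer (P : Set X))) {t : X} (ht : orderOf t = 2)
    (htP : t ∈ centralizer (P : Set X)) {g : X}
    (hgN : ∀ s ∈ (S : Subgroup ↥(normalizer (P : Set X))).map (normalizer (P : Set X)).subtype,
      g * s * g⁻¹ ∈ (S : Subgroup ↥(normalizer (P : Set X))).map (normalizer (P : Set X)).subtype)
    (hgS : g ∉ (S : Subgroup ↥(normalizer (P : Set X))).map (normalizer (P : Set X)).subtype)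
    (hg2 : g ^ 2 ∈ (S : Subgroup ↥(normalizer (P : Set X))).map (normalizer (P : Set X)).subtype) :
    g * t * g⁻¹ ≠ t := by
  haveI : Fact (Nat.Prime 2) := ⟨Nat.prime_two⟩
  intro h
  have hgt : g * t = t * g := by
    calc g * t = g * t * g⁻¹ * g := by group
      _ = t * g := by rw [h]
  have hgK := mem_normalizer_of_tight hP.2.1 htP ht hgt
  rw [← hP.2.2.2] at hgK
  apply hgS
  obtain ⟨g', hg'⟩ : ∃ g' : ↥(normalizer (P : Set X)), g' = ⟨g, hgK⟩ := ⟨_, rfl⟩
  have hg'v : (g' : X) = g := by rw [hg']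
  clear hg'
  -- membership transfer
  have hmem : ∀ y : ↥(normalizer (P : Set X)),
      (y : X) ∈ (S : Subgroup ↥(normalizer (P : Set X))).map (normalizer (P : Set X)).subtype ↔
        y ∈ (S : Subgroup ↥(normalizer (P : Set X))) := by
    intro y
    constructor
    · rintro ⟨y', hy', hyy⟩
      have : y' = y := Subtype.ext hyy
      rwa [← this]
    · intro hy
      exact ⟨y, hy, rfl⟩
  have hg'2 : g' ^ 2 ∈ (S : Subgroup ↥(normalizer (P : Set X))) := by
    rw [← hmem]
    simpa [hg'v] using hg2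
  have hconj : ∀ y ∈ (S : Subgroup ↥(normalizer (P : Set X))),
      g' * y * g'⁻¹ ∈ (S : Subgroup ↥(normalizer (P : Set X))) := by
    intro y hy
    rw [← hmem]
    have := hgN y ((hmem y).mpr hy)
    simpa [hg'v] using this
  have hnorm : g' ∈ normalizer ((S : Subgroup ↥(normalizer (P : Set X))) : Set _) := by
    rw [Subgroup.mem_normalizer_iff]
    intro y
    constructor
    · exact hconj y
    · intro hy
      have h1 : (g' ^ 2)⁻¹ * (g' * y * g'⁻¹) * (g' ^ 2) ∈ (S : Subgroup ↥(normalizer (P : Set X))) :=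
        Subgroup.mul_mem _ (Subgroup.mul_mem _ (Subgroup.inv_mem _ hg'2) hy) hg'2
      have h2 := hconj _ h1
      have : g' * ((g' ^ 2)⁻¹ * (g' * y * g'⁻¹) * g' ^ 2) * g'⁻¹ = y := by group
      rwa [this] at h2
  have hz : Subgroup.zpowers g' ≤ normalizer ((S : Subgroup ↥(normalizer (P : Set X))) : Set _) := by
    rw [Subgroup.zpowers_le]; exact hnorm
  have hzp : IsPGroup 2 ↥(Subgroup.zpowers g') := by
    obtain ⟨k, hk⟩ := (S.2 ⟨g' ^ 2, hg'2⟩)
    have hk' : (g' ^ 2) ^ 2 ^ k = 1 := by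
      have := congrArg Subtype.val hk
      simpa using this
    rintro ⟨x, hx⟩
    obtain ⟨n, rfl⟩ := Subgroup.mem_zpowers_iff.mp hx
    refine ⟨k + 1, Subtype.ext ?_⟩
    change (g' ^ n) ^ 2 ^ (k + 1) = 1
    rw [← zpow_natCast, ← zpow_mul, mul_comm, zpow_mul, zpow_natCast, pow_succ', pow_mul, hk',
      one_zpow]
  have hsup := IsPGroup.to_sup_of_normal_right' hzp S.2 hz
  have heq := S.is_maximal' hsup le_sup_right
  have hgS' : g' ∈ (S : Subgroup ↥(normalizer (P : Set X))) := by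
    rw [← heq]
    exact le_sup_left (a := Subgroup.zpowers g') (Subgroup.mem_zpowers g')
  have := (hmem g').mpr hgS'
  rwa [hg'v] at this

/-- An involution does not lie in a subgroup of odd order. -/
theorem not_mem_of_odd {W : Subgroup X} (hW : Odd (Nat.card ↥W)) {a : X} (ha : orderOf a = 2) :
    a ∉ W := by
  intro h
  have h2 : 2 ∣ Nat.card ↥W := by
    rw [← ha]; exact Subgroup.orderOf_dvd_natCard _ h
  rw [Nat.odd_iff] at hW
  omega

/-- Step 4: a normal subgroup of odd order meets the normalizer of a quasisimple subgroup of even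
order inside its centralizer. -/
theorem inf_normalizer_le_centralizer {P W : Subgroup X} [hWn : W.Normal]
    (hq : Cfsg.IsQuasisimple ↥P) (hW : Odd (Nat.card ↥W)) {a : X} (haP : a ∈ P)
    (ha : orderOf a = 2) : W ⊓ normalizer (P : Set X) ≤ centralizer (P : Set X) := by
  apply Cfsg.Agent.Lib.Helper30.ub_centralizes_of_comm_central
    (Cfsg.Agent.Lib.Helper22.quasisimple_commutator_self hq)
  intro e he d hd
  have hcP : ⁅d, e⁆ ∈ P := by
    rw [commutatorElement_def]
    exact P.mul_mem ((Subgroup.mem_normalizer_iff.mp hd.2 e).mp he) (P.inv_mem he)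
  have hcW : ⁅d, e⁆ ∈ W := by
    rw [commutatorElement_def, mul_assoc, mul_assoc]
    refine W.mul_mem hd.1 ?_
    have := hWn.conj_mem _ (W.inv_mem hd.1) e
    simpa [mul_assoc] using this
  haveI : (W.subgroupOf P).Normal := hWn.subgroupOf P
  rcases Cfsg.Agent.Lib.Helper91.normal_eq_top_or_le_center_of_isQuasisimple hq (W.subgroupOf P)
    with h | h
  · exfalso
    rw [Subgroup.subgroupOf_eq_top] at h
    exact not_mem_of_odd hW ha (h haP)
  · have h1 : (⟨⁅d, e⁆, hcP⟩ : ↥P) ∈ Subgroup.center ↥P := h (Subgroup.mem_subgroupOf.mpr hcW)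
    rw [Subgroup.mem_center_iff] at h1
    rw [Subgroup.mem_centralizer_iff]
    intro y hy
    have := congrArg Subtype.val (h1 ⟨y, hy⟩)
    simpa using this

/-- Steps 5 and 6: the main argument. -/
theorem core {P : Subgroup X} (hP : Cfsg.IsStandardSubgroup P)
    (hr : Cfsg.PRankLE 2 1 ↥(centralizer (P : Set X)))
    (hZ : Odd (Nat.card ↥(Subgroup.center ↥P)))
    (S : Sylow 2 ↥(normalizer (P : Set X))) {t : X} (ht : orderOf t = 2)
    (htS : t ∈ (S : Subgroup ↥(normalizer (P : Set X))).map (normalizer (P : Set X)).subtype)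
    (htP : t ∈ centralizer (P : Set X)) {g : X}
    (hgN : ∀ s ∈ (S : Subgroup ↥(normalizer (P : Set X))).map (normalizer (P : Set X)).subtype,
      g * s * g⁻¹ ∈ (S : Subgroup ↥(normalizer (P : Set X))).map (normalizer (P : Set X)).subtype)
    (hgS : g ∉ (S : Subgroup ↥(normalizer (P : Set X))).map (normalizer (P : Set X)).subtype)
    (hg2 : g ^ 2 ∈ (S : Subgroup ↥(normalizer (P : Set X))).map (normalizer (P : Set X)).subtype)
    (hgt : g * t * g⁻¹ ∈ P ⊔ centralizer (P : Set X)) :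
    (∃ a ∈ P, orderOf a = 2) ∧ P ≤ centralizer ((Cfsg.oddCore X : Subgroup X) : Set X) := by
  haveI : Fact (Nat.Prime 2) := ⟨Nat.prime_two⟩
  have hA := comm_sylow hr S ht htS htP
  have hC := conj_ne hP S ht htP hgN hgS hg2
  generalize hS' : (S : Subgroup ↥(normalizer (P : Set X))).map (normalizer (P : Set X)).subtype
    = S' at htS hgN hgS hg2 hA
  obtain ⟨t', ht'⟩ : ∃ t' : X, t' = g * t * g⁻¹ := ⟨_, rfl⟩
  rw [← ht'] at hgt hC
  have ht2 : t ^ 2 = 1 := by rw [← ht]; exact pow_orderOf_eq_one t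
  have ht1 : t ≠ 1 := by
    intro h; rw [h, orderOf_one] at ht; omega
  have ht'2 : t' ^ 2 = 1 := by
    rw [ht', conj_pow, ht2]; group
  have ht'1 : t' ≠ 1 := by
    intro h; rw [ht'] at h
    apply ht1
    have : t = g⁻¹ * (g * t * g⁻¹) * g := by group
    rw [this, h]; group
  have ht'S : t' ∈ S' := by rw [ht']; exact hgN t htS
  have htt' : t' * t = t * t' := hA t' ht'S
  obtain ⟨a, haP, b, hbK, ha2, hb2, hab⟩ := decompose hZ ht'2 hgt
  have hta : a * t = t * a := Subgroup.mem_centralizer_iff.mp htP a haP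
  have hba : a * b = b * a := Subgroup.mem_centralizer_iff.mp hbK a haP
  have htb : t * b = b * t := by
    have h1 : a * (t * b) = a * (b * t) := by
      calc a * (t * b) = t * (a * b) := by rw [← mul_assoc, hta, mul_assoc]
        _ = (a * b) * t := by rw [← hab, htt']
        _ = a * (b * t) := by rw [mul_assoc]
    exact mul_left_cancel h1
  have hb : b = 1 ∨ b = t := by
    by_cases hb1 : b = 1
    · left; exact hb1
    · right; exact eq_of_rank_one hr hbK htP hb2 ht2 htb.symm hb1 ht1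
  have ha1 : a ≠ 1 := by
    intro h
    rcases hb with hb | hb
    · apply ht'1; rw [hab, h, hb, one_mul]
    · apply hC; rw [hab, h, hb, one_mul]
  have hao : orderOf a = 2 := orderOf_eq_prime ha2 ha1
  refine ⟨⟨a, haP, hao⟩, ?_⟩
  -- the odd core
  obtain ⟨W, hW⟩ : ∃ W : Subgroup X, W = Cfsg.oddCore X := ⟨_, rfl⟩
  rw [← hW]
  haveI hWn : W.Normal := by rw [hW]; exact Cfsg.Agent.Lib.Helper22.pPrimeCore_normal' 2 X
  have hWcop : (Nat.card ↥W).Coprime 2 := by
    rw [hW]; exact Cfsg.Agent.Lib.Helper30.pPrimeCore_card_coprime 2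
  have hWodd : Odd (Nat.card ↥W) := Nat.Coprime.odd_of_right hWcop
  have hWc : ¬ 2 ∣ Nat.card ↥W := by
    rw [Nat.odd_iff] at hWodd; omega
  -- centralizer of `t` in `W` centralizes `P`
  have hCt : ∀ w ∈ W, w * t = t * w → w ∈ centralizer (P : Set X) := by
    intro w hw hwt
    have h1 := mem_normalizer_of_tight hP.2.1 htP ht hwt
    rw [← hP.2.2.2] at h1
    exact inf_normalizer_le_centralizer hP.1 hWodd haP hao ⟨hw, h1⟩
  have hCt' : ∀ w ∈ W, w * t = t * w → w * t' = t' * w := by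
    intro w hw hwt
    have hwa : a * w = w * a := Subgroup.mem_centralizer_iff.mp (hCt w hw hwt) a haP
    have hwb : w * b = b * w := by
      rcases hb with hb | hb
      · rw [hb]; simp
      · rw [hb]; exact hwt
    rw [hab]
    calc w * (a * b) = a * (w * b) := by rw [← mul_assoc, ← hwa, mul_assoc]
      _ = a * b * w := by rw [hwb, mul_assoc]
  -- `g` swaps `t` and `t'`
  have hgt' : g * t' * g⁻¹ = t := by
    have h1 : g ^ 2 * t = t * g ^ 2 := hA _ hg2
    rw [ht']
    calc g * (g * t * g⁻¹) * g⁻¹ = g ^ 2 * t * (g ^ 2)⁻¹ := by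
          rw [pow_two, mul_inv_rev]; simp only [mul_assoc]
      _ = t := by rw [h1, mul_assoc, mul_inv_cancel, mul_one]
  have hCt'' : ∀ w ∈ W, w * t' = t' * w → w * t = t * w := by
    intro w hw hwt'
    obtain ⟨w', hw'⟩ : ∃ w' : X, w' = g⁻¹ * w * g := ⟨_, rfl⟩
    have hw'W : w' ∈ W := by
      rw [hw']
      have := hWn.conj_mem w hw g⁻¹
      rwa [inv_inv] at this
    have hw : w = g * w' * g⁻¹ := by rw [hw']; group
    have hw't : w' * t = t * w' := by
      have h1 : t = g⁻¹ * t' * g := by rw [ht']; group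
      rw [hw', h1]
      calc g⁻¹ * w * g * (g⁻¹ * t' * g) = g⁻¹ * (w * t') * g := by group
        _ = g⁻¹ * (t' * w) * g := by rw [hwt']
        _ = g⁻¹ * t' * g * (g⁻¹ * w * g) := by group
    have hw't' := hCt' w' hw'W hw't
    rw [hw, ← hgt']
    calc g * w' * g⁻¹ * (g * t' * g⁻¹) = g * (w' * t') * g⁻¹ := by group
      _ = g * (t' * w') * g⁻¹ := by rw [hw't']
      _ = g * t' * g⁻¹ * (g * w' * g⁻¹) := by group
  -- `f = t t'` centralizes `W`
  have hWf : ∀ w ∈ W, w * (t * t') = (t * t') * w := by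
    have hkey : ∀ w ∈ W, w * t = t * w → w * (t * t') = (t * t') * w := by
      intro w hw hwt
      have := hCt' w hw hwt
      calc w * (t * t') = t * (w * t') := by rw [← mul_assoc, hwt, mul_assoc]
        _ = t * t' * w := by rw [this, mul_assoc]
    have hnt : ∀ y : X, y ∈ normalizer (W : Set X) := by
      intro y
      rw [Subgroup.normalizer_eq_top]
      trivial
    have h1 := Cfsg.Agent.Lib.Helper31.coprime_gen_of_normalizer (p := 2) W t t' (hnt t) (hnt t')
      ht2 ht'2 htt'.symm hWc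
    have h2 : Cfsg.Agent.Lib.Helper48.genSub W t t' ≤ centralizer ({t * t'} : Set X) := by
      unfold Cfsg.Agent.Lib.Helper48.genSub
      apply iSup₂_le
      intro c hc
      rintro w ⟨hw, hwc0⟩
      have hwc : w ∈ centralizer ({c} : Set X) := hwc0
      rw [Subgroup.mem_centralizer_singleton_iff] at hwc
      rw [Subgroup.mem_centralizer_singleton_iff]
      rcases hc with rfl | ⟨n, rfl⟩
      · exact hkey w hw (hCt'' w hw hwc)
      · rcases Nat.even_or_odd' n with ⟨m, rfl | rfl⟩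
        · rw [pow_mul, ht'2, one_pow, mul_one] at hwc
          exact hkey w hw hwc
        · rw [pow_succ, pow_mul, ht'2, one_pow, one_mul] at hwc
          exact hwc
    intro w hw
    exact Subgroup.mem_centralizer_singleton_iff.mp (h2 (h1 hw))
  -- `f` lies in the normal subgroup `C(W)`
  obtain ⟨τ, hτ⟩ : ∃ τ : X, τ = t * b := ⟨_, rfl⟩
  have hτK : τ ∈ centralizer (P : Set X) := by
    rw [hτ]; exact Subgroup.mul_mem _ htP hbK
  have hf : t * t' = a * τ := by
    rw [hab, hτ, ← mul_assoc, ← hta, mul_assoc]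
  have hfN : a * τ ∈ centralizer (W : Set X) := by
    rw [← hf, Subgroup.mem_centralizer_iff]
    intro w hw
    exact hWf w hw
  haveI hNn : (centralizer (W : Set X)).Normal := Subgroup.normal_centralizer
  haveI : ((centralizer (W : Set X)).subgroupOf P).Normal := hNn.subgroupOf P
  rcases Cfsg.Agent.Lib.Helper91.normal_eq_top_or_le_center_of_isQuasisimple hP.1
    ((centralizer (W : Set X)).subgroupOf P) with h | h
  · rwa [Subgroup.subgroupOf_eq_top] at h
  · exfalso
    have hcen : (⟨a, haP⟩ : ↥P) ∈ Subgroup.center ↥P := by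
      apply Cfsg.Agent.Lib.Helper66.mem_center_of_forall_commutator_mem_center hP.1.1
      intro x
      have h1 : (x : X) * (a * τ) * (x : X)⁻¹ * (a * τ)⁻¹ ∈ centralizer (W : Set X) :=
        Subgroup.mul_mem _ (hNn.conj_mem _ hfN _) (Subgroup.inv_mem _ hfN)
      have h2 : (x : X) * (a * τ) * (x : X)⁻¹ * (a * τ)⁻¹ = (x : X) * a * (x : X)⁻¹ * a⁻¹ := by
        have hτx : (x : X)⁻¹ * τ = τ * (x : X)⁻¹ :=
          Subgroup.mem_centralizer_iff.mp hτK _ (P.inv_mem x.2)
        calc (x : X) * (a * τ) * (x : X)⁻¹ * (a * τ)⁻¹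
            = (x : X) * a * (τ * (x : X)⁻¹) * τ⁻¹ * a⁻¹ := by group
          _ = (x : X) * a * ((x : X)⁻¹ * τ) * τ⁻¹ * a⁻¹ := by rw [hτx]
          _ = (x : X) * a * (x : X)⁻¹ * a⁻¹ := by group
      rw [h2] at h1
      have h3 : x * ⟨a, haP⟩ * x⁻¹ * (⟨a, haP⟩ : ↥P)⁻¹ ∈ Subgroup.center ↥P := by
        apply h
        rw [Subgroup.mem_subgroupOf]
        simpa using h1
      have h4 := Subgroup.inv_mem _ h3
      have h5 : (x * ⟨a, haP⟩ * x⁻¹ * (⟨a, haP⟩ : ↥P)⁻¹)⁻¹ = ⟨a, haP⟩ * x * (⟨a, haP⟩ : ↥P)⁻¹ * x⁻¹ := by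
        group
      rwa [h5] at h4
    have hao' : orderOf (⟨a, haP⟩ : ↥P) = 2 := by
      rw [← hao]
      exact Subgroup.orderOf_mk a haP
    exact not_mem_of_odd hZ hao' hcen

/-- Goal 2, general form. -/
theorem quasisimple_of_core_aux {P L : Subgroup X} (hq : Cfsg.IsQuasisimple ↥P) {a : X}
    (haP : a ∈ P) (hao : orderOf a = 2)
    (hPW : P ≤ centralizer ((Cfsg.oddCore X : Subgroup X) : Set X))
    (hL : Cfsg.IsPComponent 2 L) (hPL : P ≤ L) (O : Subgroup ↥L) [hOn : O.Normal]
    (hOc : (Nat.card ↥O).Coprime 2) (hqL : Cfsg.IsQuasisimple (↥L ⧸ O))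
    (hOW : O.map L.subtype ≤ Cfsg.oddCore X) : Cfsg.IsQuasisimple ↥L := by
  haveI : Fact (Nat.Prime 2) := ⟨Nat.prime_two⟩
  have hperf : ⁅L, L⁆ = L := Cfsg.Agent.Lib.Helper23.isPComponent_commutator_eq 2 hL
  haveI : Group.IsPerfect ↥L := Subgroup.isPerfect_iff.mpr hperf
  have hOodd : Odd (Nat.card ↥O) := Nat.Coprime.odd_of_right hOc
  obtain ⟨M', hM'⟩ : ∃ M' : Subgroup ↥L, M' = centralizer ((O : Subgroup ↥L) : Set ↥L) := ⟨_, rfl⟩
  haveI hM'n : M'.Normal := by rw [hM']; exact Subgroup.normal_centralizer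
  have hPM : P.subgroupOf L ≤ M' := by
    intro x hx
    rw [hM', Subgroup.mem_centralizer_iff]
    intro o ho
    apply Subtype.ext
    exact Subgroup.mem_centralizer_iff.mp (hPW (Subgroup.mem_subgroupOf.mp hx)) _
      (hOW ⟨o, ho, rfl⟩)
  haveI : (M'.map (QuotientGroup.mk' O)).Normal := hM'n.map _ (QuotientGroup.mk'_surjective O)
  rcases Cfsg.Agent.Lib.Helper91.normal_eq_top_or_le_center_of_isQuasisimple hqL
    (M'.map (QuotientGroup.mk' O)) with h | h
  · have h1 : M' ⊔ O = ⊤ := by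
      have := congrArg (Subgroup.comap (QuotientGroup.mk' O)) h
      rw [Subgroup.comap_map_eq, QuotientGroup.ker_mk', Subgroup.comap_top] at this
      exact this
    have hidx : M'.index.Coprime 2 := by
      have h2 := Cfsg.Agent.Lib.Helper23.relIndex_sup_dvd_card M' O
      rw [h1, Subgroup.relIndex_top_right] at h2
      exact Nat.Coprime.coprime_dvd_left h2 hOc
    have hM'top := Cfsg.Agent.Lib.Helper23.isPComponent_normal_eq_top 2 hL M' hidx
    have hOcen : O ≤ Subgroup.center ↥L := by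
      intro o ho
      rw [Subgroup.mem_center_iff]
      intro y
      have hy : y ∈ M' := by rw [hM'top]; trivial
      rw [hM'] at hy
      exact (Subgroup.mem_centralizer_iff.mp hy o ho).symm
    exact Cfsg.Agent.Lib.Helper22.BP.isQuasisimple_of_quotient_central O hOcen hqL
  · exfalso
    have h2 : (P.subgroupOf L).map (QuotientGroup.mk' O) ≤ Subgroup.center (↥L ⧸ O) :=
      le_trans (Subgroup.map_mono hPM) h
    have h3 : ⁅(P.subgroupOf L).map (QuotientGroup.mk' O),
        (P.subgroupOf L).map (QuotientGroup.mk' O)⁆ = ⊥ := by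
      rw [Subgroup.commutator_eq_bot_iff_le_centralizer]
      exact le_trans h2 (Subgroup.center_le_centralizer _)
    rw [← Subgroup.map_commutator,
      Cfsg.Agent.Lib.Helper22.BP.perfect_subgroupOf hPL
        (Cfsg.Agent.Lib.Helper22.quasisimple_commutator_self hq),
      Subgroup.map_eq_bot_iff, QuotientGroup.ker_mk'] at h3
    have h4 : (⟨a, hPL haP⟩ : ↥L) ∈ O := h3 (Subgroup.mem_subgroupOf.mpr haP)
    have hao' : orderOf (⟨a, hPL haP⟩ : ↥L) = 2 := by
      rw [← hao]
      exact Subgroup.orderOf_mk a (hPL haP)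
    exact not_mem_of_odd hOodd hao' h4

/-- Goal 2: a `2`-component containing `P` is quasisimple when `P` centralizes `O(X)`. -/
theorem quasisimple_of_core {P L : Subgroup X} (hq : Cfsg.IsQuasisimple ↥P) {a : X} (haP : a ∈ P)
    (hao : orderOf a = 2)
    (hPW : P ≤ centralizer ((Cfsg.oddCore X : Subgroup X) : Set X))
    (hL : Cfsg.IsPComponent 2 L) (hPL : P ≤ L) : Cfsg.IsQuasisimple ↥L := by
  haveI : Fact (Nat.Prime 2) := ⟨Nat.prime_two⟩
  obtain ⟨hsub, hqL, hgen⟩ := Cfsg.Agent.Lib.Helper22.BP.isPComponent_iff_intr.mp hL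
  haveI hOn : (Cfsg.pPrimeCore 2 ↥L).Normal := Cfsg.Agent.Lib.Helper22.pPrimeCore_normal' 2 ↥L
  have hOc : (Nat.card ↥(Cfsg.pPrimeCore 2 ↥L)).Coprime 2 :=
    Cfsg.Agent.Lib.Helper30.pPrimeCore_card_coprime 2
  have hOW : (Cfsg.pPrimeCore 2 ↥L).map L.subtype ≤ Cfsg.oddCore X := by
    apply Cfsg.Agent.Lib.Helper30.subnormal_le_pPrimeCore 2
    · exact hOn.isSubnormal.trans' hsub
    · rw [Subgroup.card_map_of_injective (Subgroup.subtype_injective L)]
      exact hOc
  exact quasisimple_of_core_aux hq haP hao hPW hL hPL (Cfsg.pPrimeCore 2 ↥L) hOc hqL hOW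

end aux

/-- Let X be a finite group and P a standard subgroup of X whose centralizer has 2-rank at most 1 and whose centre has odd order. Let S be a Sylow 2-subgroup of N_X(P) and t an involution of S centralizing P. Suppose some element g of X normalizes S, does not lie in S, has its square in S, and conjugates t into P·C_X(P). Then P commutes elementwise with the largest normal odd-order subgroup O(X) of X; consequently every t-invariant 2-component of X containing P is quasisimple. -/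
theorem result {X : Type*} [Group X] [Finite X] (P : Subgroup X) (hP : Cfsg.IsStandardSubgroup P)
    (hr : Cfsg.PRankLE 2 1 ↥(Subgroup.centralizer (P : Set X))) (hZ : Odd (Nat.card ↥(Subgroup.center ↥P)))
    (S : Sylow 2 ↥(Subgroup.normalizer (P : Set X))) (t : X) (ht : orderOf t = 2) (htS : t ∈ (S : Subgroup ↥(Subgroup.normalizer (P : Set X))).map (Subgroup.normalizer (P : Set X)).subtype)
    (htP : t ∈ Subgroup.centralizer (P : Set X))
    (g : X) (hgN : ∀ s ∈ (S : Subgroup ↥(Subgroup.normalizer (P : Set X))).map (Subgroup.normalizer (P : Set X)).subtype, g * s * g⁻¹ ∈ (S : Subgroup ↥(Subgroup.normalizer (P : Set X))).map (Subgroup.normalizer (P : Set X)).subtype)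
    (hgS : g ∉ (S : Subgroup ↥(Subgroup.normalizer (P : Set X))).map (Subgroup.normalizer (P : Set X)).subtype) (hg2 : g ^ 2 ∈ (S : Subgroup ↥(Subgroup.normalizer (P : Set X))).map (Subgroup.normalizer (P : Set X)).subtype)
    (hgt : g * t * g⁻¹ ∈ P ⊔ Subgroup.centralizer (P : Set X)) :
    ⁅P, Cfsg.oddCore X⁆ = ⊥ ∧
      ∀ L : Subgroup X, Cfsg.IsPComponent 2 L → P ≤ L → (∀ l ∈ L, t * l * t⁻¹ ∈ L) → Cfsg.IsQuasisimple ↥L := by
  obtain ⟨⟨a, haP, hao⟩, hPW⟩ := core hP hr hZ S ht htS htP hgN hgS hg2 hgt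
  refine ⟨?_, ?_⟩
  · rw [Subgroup.commutator_eq_bot_iff_le_centralizer]
    exact hPW
  · intro L hL hPL _
    exact quasisimple_of_core hP.1 haP hao hPW hL hPL

end Cfsg.Agent.S3153
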