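import Cfsg.Statements.S3155
import Mathlib

set_option autoImplicit false
open Cfsg

namespace Cfsg.Agent.S3155

abbrev M := ZMod 4 × ZMod 4 × ZMod 4

lemma no_sq (d : ZMod 4) : d * d ≠ -1 := by
  revert d; decide

lemma finrank_M : Module.finrank (ZMod 4) M = 3 := by
  have : Fact (1 < 4) := ⟨by norm_num⟩
  rw [Module.finrank_prod, Module.finrank_prod, Module.finrank_self]

lemma no_lin (f : M →ₗ[ZMod 4] M) (h : ∀ m, f (f m) = -m) : False := by
  have h1 : f * f = (-1 : ZMod 4) • (1 : M →ₗ[ZMod 4] M) := by
    apply LinearMap.ext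
    intro m
    simp [h]
  have h2 := congrArg LinearMap.det h1
  rw [map_mul, LinearMap.det_smul, finrank_M, map_one] at h2
  have : (-1 : ZMod 4)^3 * 1 = -1 := by decide
  rw [this] at h2
  exact no_sq _ h2

/-- Let B be the direct product of three cyclic groups of order 4. Then the automorphism of B inverting every element is not the square of any automorphism of B. -/
theorem result {B : Type*} [CommGroup B] [Finite B] (hB : Nonempty (B ≃* Multiplicative (ZMod 4 × ZMod 4 × ZMod 4)))
    (τ : B ≃* B) : τ.trans τ ≠ MulEquiv.inv B := by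
  obtain ⟨e⟩ := hB
  intro hτ
  have hτ' : ∀ b : B, τ (τ b) = b⁻¹ := fun b => by
    have := congrArg (fun f : B ≃* B => f b) hτ
    simpa using this
  let σ : Multiplicative M →* Multiplicative M :=
    (e.toMonoidHom.comp τ.toMonoidHom).comp e.symm.toMonoidHom
  let f : M →ₗ[ZMod 4] M := (AddMonoidHom.toMultiplicative.symm σ).toZModLinearMap 4
  apply no_lin f
  intro m
  change Multiplicative.toAdd (σ (σ (Multiplicative.ofAdd m))) = -m
  have : σ (σ (Multiplicative.ofAdd m)) = (Multiplicative.ofAdd m)⁻¹ := by
    simp [σ, hτ']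
  rw [this]
  rfl

end Cfsg.Agent.S3155
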